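import Mathlib
import Groth.Prelude.Def_HilbD
import Groth.Agent.Lib.H5bIdealDesc2
import Groth.Agent.Lib.Helper12Descent
import Groth.Agent.Lib.Helper12Torsor
set_option backward.isDefEq.respectTransparency.types false

/-!
# fpqc descent for the Hilbert functor of points (S1181)

`XTmap_fst/XTmap_snd`, `isPullback_XTmap` (X_T' -> X_T is the base change of T' -> T), `pull_eq_comap`
(HilbD.pull is IdealSheafData.comap along XTmap), `comap_iso_injective`, `isPullback_overlap`
(kernel pair of X_T' -> X_T), `isPullback_comap` (closed subscheme of a pulled back ideal is the pullback),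
`isFinLocFreeOfDeg_descend` (finite locally free of degree d descends along fpqc base change),
`hyp_single` (ideal descent hypotheses for a single fpqc morphism), `main` (S1181).
-/

set_option autoImplicit false
set_option linter.style.haveILetI false
set_option linter.unusedSectionVars false
universe u v

open CategoryTheory CategoryTheory.Limits AlgebraicGeometry TopologicalSpace Opposite

namespace Groth.Agent.Lib.R2H1.HilbDesc

section Part1

open CategoryTheory CategoryTheory.Limits AlgebraicGeometry TopologicalSpace Opposite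

variable {X S : Scheme.{u}} (f : X ⟶ S)

theorem XTmap_fst {T T' : Over S} (h : T' ⟶ T) :
    PicF.XTmap f h ≫ pullback.fst f T.hom = pullback.fst f T'.hom := by
  unfold PicF.XTmap
  rw [pullback.lift_fst]
  exact Category.comp_id _

theorem XTmap_snd {T T' : Over S} (h : T' ⟶ T) :
    PicF.XTmap f h ≫ pullback.snd f T.hom = pullback.snd f T'.hom ≫ h.left := by
  unfold PicF.XTmap
  rw [pullback.lift_snd]

/-- `X_{T'} ⟶ X_T` is the base change of `T' ⟶ T`. -/
theorem isPullback_XTmap {T T' : Over S} (h : T' ⟶ T) :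
    IsPullback (PicF.XTmap f h) (PicF.XTproj f T') (PicF.XTproj f T) h.left := by
  refine IsPullback.of_right (h₁₂ := pullback.fst f T.hom) (v₁₃ := f) (h₂₂ := T.hom) ?_
    (XTmap_snd f h) (IsPullback.of_hasPullback f T.hom)
  rw [XTmap_fst, Over.w h]
  exact IsPullback.of_hasPullback f T'.hom

theorem pull_eq_comap {T T' : Over S} (h : T' ⟶ T) (I : (PicF.XT f T).IdealSheafData) :
    HilbD.pull f h I = I.comap (PicF.XTmap f h) := by
  unfold HilbD.pull Scheme.IdealSheafData.comap
  rw [← pullbackSymmetry_hom_comp_fst, Scheme.Hom.ker_comp_of_isIso]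

theorem comap_iso_injective {Y Y' : Scheme.{u}} (e : Y' ≅ Y) {J J' : Y.IdealSheafData}
    (h : J.comap e.hom = J'.comap e.hom) : J = J' := by
  have := congrArg (fun K => K.comap e.inv) h
  simp only [← Scheme.IdealSheafData.comap_comp, Iso.inv_hom_id,
    Scheme.IdealSheafData.comap_id] at this
  exact this

end Part1

section Part2

open CategoryTheory CategoryTheory.Limits AlgebraicGeometry TopologicalSpace Opposite


variable {X S : Scheme.{u}} (f : X ⟶ S)

/-- the two maps `X_{T''} ⟶ X_{T'}` form the kernel pair of `X_{T'} ⟶ X_T` -/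
theorem isPullback_overlap (T : Over S) {T' : Scheme.{u}} (g : T' ⟶ T.left) :
    IsPullback (PicF.XTmap f (HilbD.overlapFst T g)) (PicF.XTmap f (HilbD.overlapSnd T g))
      (PicF.XTmap f (HilbD.coverHom T g)) (PicF.XTmap f (HilbD.coverHom T g)) := by
  have hA := (isPullback_XTmap f (HilbD.overlapFst T g)).flip
  have hB : IsPullback (pullback.snd g g) (pullback.fst g g) g g :=
    (IsPullback.of_hasPullback g g).flip
  have hC := (isPullback_XTmap f (HilbD.coverHom T g)).flip
  have hout := hA.paste_horiz hB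
  refine (IsPullback.of_right (h₁₂ := PicF.XTproj f (HilbD.coverOver T g))
    (v₁₃ := g) (h₂₂ := PicF.XTproj f T) ?_ ?_ hC).flip
  · have e1 : PicF.XTmap f (HilbD.overlapSnd T g) ≫ PicF.XTproj f (HilbD.coverOver T g) =
        PicF.XTproj f (HilbD.overlapOver T g) ≫ pullback.snd g g := XTmap_snd f _
    have e2 : PicF.XTmap f (HilbD.coverHom T g) ≫ PicF.XTproj f T =
        PicF.XTproj f (HilbD.coverOver T g) ≫ g := XTmap_snd f _
    rw [e1, e2]
    exact hout
  · apply pullback.hom_ext
    · rw [Category.assoc, Category.assoc, XTmap_fst, XTmap_fst, XTmap_fst]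
    · rw [Category.assoc, Category.assoc, XTmap_snd, ← Category.assoc, XTmap_snd,
        ← Category.assoc, XTmap_snd, Category.assoc, Category.assoc]
      congr 1
      exact pullback.condition.symm

end Part2

section Part3

open CategoryTheory CategoryTheory.Limits AlgebraicGeometry TopologicalSpace Opposite

/-- the closed subscheme of a pulled-back ideal is the pullback -/
theorem isPullback_comap {Y Y' : Scheme.{u}} (p : Y' ⟶ Y) (J : Y.IdealSheafData) :
    IsPullback (J.comap p).subschemeι
      (Scheme.IdealSheafData.subschemeMap _ _ p (J.le_map_comap p)) p J.subschemeι := by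
  refine IsPullback.of_iso_pullback ⟨?_⟩ (J.comapIso p) ?_ ?_
  · exact (Scheme.IdealSheafData.subschemeMap_subschemeι _ _ p (J.le_map_comap p)).symm
  · exact J.comapIso_hom_fst p
  · exact J.comapIso_hom_snd p

/-- finite locally free of degree `d` descends along fpqc base change -/
theorem isFinLocFreeOfDeg_descend {Y Y' T T' : Scheme.{u}} (p : Y' ⟶ Y) (q' : Y' ⟶ T') (q : Y ⟶ T)
    (g : T' ⟶ T) (hpb : IsPullback p q' q g) [QuasiCompact g] [Flat g] [Surjective g]
    (J : Y.IdealSheafData) (d : ℕ)
    (h : Mor2.IsFinLocFreeOfDeg d ((J.comap p).subschemeι ≫ q')) :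
    Mor2.IsFinLocFreeOfDeg d (J.subschemeι ≫ q) := by
  have hbig : IsPullback ((J.comap p).subschemeι ≫ q')
      (Scheme.IdealSheafData.subschemeMap _ _ p (J.le_map_comap p)) g (J.subschemeι ≫ q) :=
    ((isPullback_comap p J).flip.paste_vert hpb).flip
  have hg : (@Surjective ⊓ @Flat ⊓ @QuasiCompact : MorphismProperty Scheme.{u}) g :=
    ⟨⟨inferInstance, inferInstance⟩, inferInstance⟩
  obtain ⟨⟨h1, h2, h3⟩, h4⟩ := h
  haveI := Groth.Agent.Lib.Helper12.descendsAlong_isFinite.{u}
  haveI := Groth.Agent.Lib.Helper12.descendsAlong_flat.{u}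
  have k1 : IsFinite (J.subschemeι ≫ q) :=
    MorphismProperty.of_isPullback_of_descendsAlong (P := @IsFinite) hbig hg h1
  have k2 : Flat (J.subschemeι ≫ q) :=
    MorphismProperty.of_isPullback_of_descendsAlong (P := @Flat) hbig hg h2
  have k3 : LocallyOfFinitePresentation (J.subschemeι ≫ q) :=
    MorphismProperty.of_isPullback_of_descendsAlong (P := @LocallyOfFinitePresentation) hbig hg h3
  refine ⟨⟨k1, k2, k3⟩, fun t => ?_⟩
  obtain ⟨t', rfl⟩ := Surjective.surj (f := g) t
  rw [← Scheme.Hom.finrank_of_isPullback _ _ _ _ hbig.flip t']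
  exact h4 t'

end Part3

section Part4

open CategoryTheory CategoryTheory.Limits AlgebraicGeometry TopologicalSpace Opposite

open Groth.Agent.Lib.H5bIdealDesc

/-- the hypotheses of ideal descent for a single fpqc morphism -/
theorem hyp_single {W T : Scheme.{u}} (p : W ⟶ T) [Flat p] [Surjective p] [QuasiCompact p]
    (I : W.IdealSheafData)
    (h : I.comap (pullback.fst p p) = I.comap (pullback.snd p p)) :
    Hyp (fun _ : PUnit.{u + 1} => p) (fun _ => I) := by
  refine ⟨fun _ => inferInstance, fun U => ?_, fun _ _ => h⟩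
  have hc : IsCompact ((p ⁻¹ᵁ U.1 : W.Opens) : Set W) :=
    QuasiCompact.isCompact_preimage (f := p) _ U.1.2 U.2.isCompact
  obtain ⟨s, hs, hsU⟩ := isCompact_and_isOpen_iff_finite_and_eq_biUnion_affineOpens.mp
    ⟨hc, (p ⁻¹ᵁ U.1).2⟩
  classical
  have hle : ∀ V : W.affineOpens, V ∈ s → V.1 ≤ p ⁻¹ᵁ U.1 := by
    intro V hV y hy
    have : y ∈ ⋃ i ∈ s, ((i : W.Opens) : Set W) := Set.mem_biUnion hV hy
    rw [← hsU] at this
    exact this
  let F : {V : W.affineOpens // V ∈ s} → Chart (fun _ : PUnit.{u + 1} => p) U :=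
    fun V => ⟨PUnit.unit, V.1, hle V.1 V.2⟩
  haveI : Fintype {V : W.affineOpens // V ∈ s} := hs.fintype
  refine ⟨Finset.univ.image F, fun x hx => ?_⟩
  obtain ⟨y, rfl⟩ := Surjective.surj (f := p) x
  have hy : y ∈ ((p ⁻¹ᵁ U.1 : W.Opens) : Set W) := hx
  rw [hsU] at hy
  obtain ⟨V, hVs, hyV⟩ := Set.mem_iUnion₂.mp hy
  exact ⟨F ⟨V, hVs⟩, Finset.mem_image_of_mem _ (Finset.mem_univ _), y, hyV, rfl⟩

variable {X S : Scheme.{u}} (f : X ⟶ S)

theorem main (d : ℕ) (T : Over S) {T' : Scheme.{u}} (g : T' ⟶ T.left)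
    [QuasiCompact g] [Flat g] [Surjective g] (Z' : HilbD.Obj f d (HilbD.coverOver T g))
    (hZ' : HilbD.pull f (HilbD.overlapFst T g) Z'.1 = HilbD.pull f (HilbD.overlapSnd T g) Z'.1) :
    ∃! I : (PicF.XT f T).IdealSheafData, Mor2.IsFinLocFreeOfDeg d (I.subschemeι ≫ PicF.XTproj f T) ∧
      HilbD.pull f (HilbD.coverHom T g) I = Z'.1 := by
  obtain ⟨I', hI'⟩ := Z'
  change HilbD.pull f (HilbD.overlapFst T g) I' = HilbD.pull f (HilbD.overlapSnd T g) I' at hZ'
  set p := PicF.XTmap f (HilbD.coverHom T g) with hp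
  have hpb : IsPullback p (PicF.XTproj f (HilbD.coverOver T g)) (PicF.XTproj f T) g :=
    isPullback_XTmap f (HilbD.coverHom T g)
  haveI : Flat p := MorphismProperty.of_isPullback (P := @Flat) hpb.flip inferInstance
  haveI : Surjective p := MorphismProperty.of_isPullback (P := @Surjective) hpb.flip inferInstance
  haveI : QuasiCompact p := MorphismProperty.of_isPullback (P := @QuasiCompact) hpb.flip inferInstance
  have hov := isPullback_overlap f T g
  have hcompat : I'.comap (pullback.fst p p) = I'.comap (pullback.snd p p) := by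
    rw [pull_eq_comap, pull_eq_comap] at hZ'
    have e1 : I'.comap (PicF.XTmap f (HilbD.overlapFst T g)) =
        (I'.comap (pullback.fst p p)).comap hov.isoPullback.hom := by
      rw [← Scheme.IdealSheafData.comap_comp, hov.isoPullback_hom_fst]
    have e2 : I'.comap (PicF.XTmap f (HilbD.overlapSnd T g)) =
        (I'.comap (pullback.snd p p)).comap hov.isoPullback.hom := by
      rw [← Scheme.IdealSheafData.comap_comp, hov.isoPullback_hom_snd]
    rw [e1, e2] at hZ'
    exact comap_iso_injective hov.isoPullback hZ'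
  have hyp := hyp_single p I' hcompat
  have hJ : (Jdesc hyp).comap p = I' := Jdesc_comap hyp PUnit.unit
  refine ⟨Jdesc hyp, ⟨?_, ?_⟩, ?_⟩
  · apply isFinLocFreeOfDeg_descend p (PicF.XTproj f (HilbD.coverOver T g)) (PicF.XTproj f T) g hpb
    rw [hJ]
    exact hI'
  · change HilbD.pull f (HilbD.coverHom T g) (Jdesc hyp) = I'
    rw [pull_eq_comap]
    exact hJ
  · rintro J ⟨-, hJ'⟩
    change HilbD.pull f (HilbD.coverHom T g) J = I' at hJ'
    rw [pull_eq_comap] at hJ'
    exact Jdesc_unique hyp J (fun _ => hJ')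

end Part4

end Groth.Agent.Lib.R2H1.HilbDesc
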