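import Mathlib
import Groth.Prelude.Def_HilbD
import Groth.Prelude.Def_IntMult
import Groth.Agent.Lib.Helper20RelCartier
import Groth.Agent.Lib.R2H1CartierProd
import Groth.Agent.Lib.Helper5RegImm
import Groth.Agent.Lib.H9CodimTwo
import Groth.Agent.Lib.R2H1HilbDesc
import Groth.Agent.Lib.H9EffCartDesc
import Groth.Agent.S1662
set_option backward.isDefEq.respectTransparency.types false

/-!
# Degrees of closed subschemes finite over a field as sums of local degrees; additivity for effective Cartier divisors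

`finrank_quot_mul` (dim_K B/(xy) = dim_K B/(x) + dim_K B/(y) for x a nonzerodivisor),
`toG`, `kHom` (structure maps K -> Γ(Y,⊤), K -> O_{Y,x} for q : Y ⟶ Spec K), `eq_isoSpec_comp`,
`finrank_eq_finrank_top` (Scheme.Hom.finrank of a finite morphism to Spec K is dim_K Γ),
`locDeg q J x` = dim_K O_{Y,x}/J_x, `stalkMap_kHom`, `locDeg_eq_zero_of_notMem`,
`nonempty_linearEquiv_stalk` (O_{Z,z} = O_{Y,x}/J_x), `pointEquiv`, `finrank_top_eq_finsum`, `finite_stalk`,
`finrank_eq_finsum_locDeg` (degree formula), `finite_quot_stalkIdeal`, `finite_of_isFinite`, `locDeg_mul`,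
`finrank_mul_field` (additivity over a field), `isPullback_fibre`, `finrank_fibre`,
`finrank_mul` (additivity of Scheme.Hom.finrank for sums of relative effective Cartier divisors finite flat over the base).
-/

set_option autoImplicit false
set_option linter.style.haveILetI false
set_option linter.unusedSectionVars false
universe u v

open CategoryTheory CategoryTheory.Limits AlgebraicGeometry TopologicalSpace Opposite

namespace Groth.Agent.Lib.R2H1.FinDegree

section Part1

open Groth.Agent.Lib.Helper20.RelCartier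

/-- additivity of the `K`-dimension of `B/(xy)` -/
theorem finrank_quot_mul (K : Type u) [Field K] (B : Type u) [CommRing B] [Algebra K B] (x y : B)
    (hx : x ∈ nonZeroDivisors B) [Module.Finite K (B ⧸ Ideal.span {x * y})] :
    Module.finrank K (B ⧸ Ideal.span {x * y}) =
      Module.finrank K (B ⧸ Ideal.span {x}) + Module.finrank K (B ⧸ Ideal.span {y}) := by
  have h1 := LinearMap.finrank_range_add_finrank_ker (facQ (A := K) x y)
  have h2 : Module.finrank K (LinearMap.range (facQ (A := K) x y)) =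
      Module.finrank K (B ⧸ Ideal.span {x}) := by
    rw [LinearMap.range_eq_top.mpr (facQ_surjective x y)]
    exact finrank_top K _
  have h3 : LinearMap.ker (facQ (A := K) x y) = LinearMap.range (mulQ (A := K) x y) :=
    (LinearMap.exact_iff.mp (exact_mulQ_facQ x y))
  have h4 : Module.finrank K (LinearMap.range (mulQ (A := K) x y)) =
      Module.finrank K (B ⧸ Ideal.span {y}) :=
    LinearMap.finrank_range_of_inj (mulQ_injective x y hx)
  rw [h2, h3, h4] at h1
  exact h1.symm

end Part1

section Part2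

open CategoryTheory CategoryTheory.Limits AlgebraicGeometry TopologicalSpace Opposite

variable {K : Type u} [Field K]

/-- the structure map `K → Γ(Y, ⊤)` -/
noncomputable def toG {Y : Scheme.{u}} (q : Y ⟶ Spec (CommRingCat.of K)) : K →+* Γ(Y, ⊤) :=
  q.appTop.hom.comp (Scheme.ΓSpecIso (CommRingCat.of K)).inv.hom

/-- the structure map `K → O_{Y,x}` -/
noncomputable def kHom {Y : Scheme.{u}} (q : Y ⟶ Spec (CommRingCat.of K)) (x : Y) :
    K →+* Y.presheaf.stalk x :=
  (Y.presheaf.germ ⊤ x trivial).hom.comp (toG q)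

/-- `g = Z.isoSpec.hom ≫ Spec.map (K → Γ(Z))` for affine `Z` -/
theorem eq_isoSpec_comp {Z : Scheme.{u}} [IsAffine Z] (g : Z ⟶ Spec (CommRingCat.of K)) :
    g = Z.isoSpec.hom ≫ Spec.map (CommRingCat.ofHom (toG g)) := by
  have h1 := Scheme.isoSpec_hom_naturality g
  rw [Scheme.isoSpec_Spec_hom] at h1
  have h2 : CommRingCat.ofHom (toG g) =
      (Scheme.ΓSpecIso (CommRingCat.of K)).inv ≫ g.appTop := rfl
  rw [h2, Spec.map_comp, ← Category.assoc, h1, Category.assoc, ← Spec.map_comp,
    Iso.inv_hom_id, Spec.map_id, Category.comp_id]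

/-- the degree of a finite scheme over a field is the dimension of its ring of functions -/
theorem finrank_eq_finrank_top {Z : Scheme.{u}} (g : Z ⟶ Spec (CommRingCat.of K)) [IsFinite g]
    (pt : Spec (CommRingCat.of K)) :
    letI : Algebra K Γ(Z, ⊤) := (toG g).toAlgebra
    g.finrank pt = Module.finrank K Γ(Z, ⊤) := by
  letI : Algebra K Γ(Z, ⊤) := (toG g).toAlgebra
  haveI : IsAffine Z := isAffine_of_isAffineHom g
  have hfin : (toG g).Finite := by
    have h1 : g.appTop.hom.Finite := g.finite_appTop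
    exact h1.comp (RingHom.Finite.of_surjective _
      (ConcreteCategory.bijective_of_isIso (Scheme.ΓSpecIso (CommRingCat.of K)).inv).2)
  haveI : Module.Finite K Γ(Z, ⊤) := hfin
  have h2 : CommRingCat.ofHom (toG g) = CommRingCat.ofHom (algebraMap K Γ(Z, ⊤)) := rfl
  haveI : IsFinite (Spec.map (CommRingCat.ofHom (algebraMap K Γ(Z, ⊤)))) := by
    rw [IsFinite.SpecMap_iff]
    exact hfin
  haveI : Flat (Spec.map (CommRingCat.ofHom (algebraMap K Γ(Z, ⊤)))) := by
    rw [Flat.SpecMap_iff]
    exact (RingHom.flat_algebraMap_iff).mpr inferInstance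
  have h3 : g.finrank pt =
      (Spec.map (CommRingCat.ofHom (algebraMap K Γ(Z, ⊤)))).finrank pt := by
    conv_lhs => rw [eq_isoSpec_comp g, h2]
    rw [Scheme.Hom.finrank_comp_left_of_isIso]
  rw [h3, Scheme.Hom.finrank_SpecMap_algebraMap, Module.rankAtStalk_eq_finrank_of_free]
  rfl

end Part2

section Part3

open CategoryTheory CategoryTheory.Limits AlgebraicGeometry TopologicalSpace Opposite


variable {K : Type u} [Field K] {Y : Scheme.{u}} (q : Y ⟶ Spec (CommRingCat.of K))

/-- the local degree of the closed subscheme `V(J)` at `x`: `dim_K O_{Y,x}/J_x` -/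
noncomputable def locDeg (J : Y.IdealSheafData) (x : Y) : ℕ :=
  letI : Algebra K (Y.presheaf.stalk x) := (kHom q x).toAlgebra
  Module.finrank K (Y.presheaf.stalk x ⧸ IntMult.stalkIdeal J x)

theorem toG_comp {Z : Scheme.{u}} (ι : Z ⟶ Y) (c : K) :
    toG (ι ≫ q) c = ι.appTop.hom (toG q c) := by
  simp [toG]

/-- the stalk map of a morphism is compatible with the structure maps from `K` -/
theorem stalkMap_kHom {Z : Scheme.{u}} (ι : Z ⟶ Y) (z : Z) (c : K) :
    (ι.stalkMap z).hom (kHom q (ι z) c) = kHom (ι ≫ q) z c := by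
  unfold kHom
  rw [RingHom.comp_apply, RingHom.comp_apply, toG_comp]
  exact Scheme.Hom.germ_stalkMap_apply ι ⊤ z trivial _

theorem stalkIdeal_eq_top_of_notMem (J : Y.IdealSheafData) (x : Y) (hx : x ∉ J.support) :
    IntMult.stalkIdeal J x = ⊤ := by
  obtain ⟨_, ⟨V, hV, rfl⟩, hxV, -⟩ :=
    Y.isBasis_affineOpens.exists_subset_of_mem_open (Set.mem_univ x) isOpen_univ
  replace hV : IsAffineOpen V := hV
  rw [Groth.Agent.Lib.R2H1.CartierProd.stalkIdeal_eq_map_germ J ⟨V, hV⟩ x hxV]
  have h1 : x ∉ Y.zeroLocus (U := V) (J.ideal ⟨V, hV⟩) := fun h =>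
    hx ((Scheme.IdealSheafData.mem_support_iff_of_mem (U := ⟨V, hV⟩) hxV).mpr h)
  rw [Scheme.mem_zeroLocus_iff] at h1
  push Not at h1
  obtain ⟨a, ha, hxa⟩ := h1
  rw [Y.mem_basicOpen a x hxV] at hxa
  exact Ideal.eq_top_of_isUnit_mem _ (Ideal.mem_map_of_mem _ ha) hxa

theorem locDeg_eq_zero_of_notMem (J : Y.IdealSheafData) (x : Y) (hx : x ∉ J.support) :
    locDeg q J x = 0 := by
  unfold locDeg
  letI : Algebra K (Y.presheaf.stalk x) := (kHom q x).toAlgebra
  haveI : Subsingleton (Y.presheaf.stalk x ⧸ IntMult.stalkIdeal J x) := by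
    rw [stalkIdeal_eq_top_of_notMem J x hx]
    exact Ideal.Quotient.subsingleton_iff.mpr rfl
  exact Module.finrank_zero_of_subsingleton

/-- `O_{Z,z} = O_{Y,ι z}/J_{ι z}` as `K`-vector spaces -/
theorem nonempty_linearEquiv_stalk (J : Y.IdealSheafData) (z : J.subscheme) :
    letI : Algebra K (J.subscheme.presheaf.stalk z) := (kHom (J.subschemeι ≫ q) z).toAlgebra
    letI : Algebra K (Y.presheaf.stalk (J.subschemeι z)) := (kHom q (J.subschemeι z)).toAlgebra
    Nonempty ((Y.presheaf.stalk (J.subschemeι z) ⧸ IntMult.stalkIdeal J (J.subschemeι z)) ≃ₗ[K]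
      J.subscheme.presheaf.stalk z) := by
  letI : Algebra K (J.subscheme.presheaf.stalk z) := (kHom (J.subschemeι ≫ q) z).toAlgebra
  letI : Algebra K (Y.presheaf.stalk (J.subschemeι z)) := (kHom q (J.subschemeι z)).toAlgebra
  let ψ : Y.presheaf.stalk (J.subschemeι z) →ₐ[K] J.subscheme.presheaf.stalk z :=
    { (J.subschemeι.stalkMap z).hom with
      commutes' := fun c => stalkMap_kHom q J.subschemeι z c }
  have hψ : Function.Surjective ψ := J.subschemeι.stalkMap_surjective z
  obtain ⟨_, ⟨V, hV, rfl⟩, hxV, -⟩ :=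
    Y.isBasis_affineOpens.exists_subset_of_mem_open (Set.mem_univ (J.subschemeι z)) isOpen_univ
  replace hV : IsAffineOpen V := hV
  have hker : RingHom.ker ψ = IntMult.stalkIdeal J (J.subschemeι z) := by
    rw [Groth.Agent.Lib.R2H1.CartierProd.stalkIdeal_eq_map_germ J ⟨V, hV⟩ _ hxV]
    have := Groth.Agent.Lib.Helper5.RegImm.ker_stalkMap_eq_map_ker J.subschemeι z V hV hxV
    rw [Scheme.IdealSheafData.ker_subschemeι] at this
    exact this
  have e1 := Ideal.quotientKerAlgEquivOfSurjective hψ
  have e2 := Ideal.quotientEquivAlgOfEq K hker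
  exact ⟨(e2.symm.trans e1).toLinearEquiv⟩

theorem finrank_stalk_subscheme (J : Y.IdealSheafData) (z : J.subscheme) :
    letI : Algebra K (J.subscheme.presheaf.stalk z) := (kHom (J.subschemeι ≫ q) z).toAlgebra
    Module.finrank K (J.subscheme.presheaf.stalk z) = locDeg q J (J.subschemeι z) := by
  letI : Algebra K (J.subscheme.presheaf.stalk z) := (kHom (J.subschemeι ≫ q) z).toAlgebra
  letI : Algebra K (Y.presheaf.stalk (J.subschemeι z)) := (kHom q (J.subschemeι z)).toAlgebra
  obtain ⟨e⟩ := nonempty_linearEquiv_stalk q J z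
  exact e.finrank_eq.symm

end Part3

section Part4

open CategoryTheory CategoryTheory.Limits AlgebraicGeometry TopologicalSpace Opposite


variable {K : Type u} [Field K]

/-- points of an affine scheme vs primes of its ring of functions -/
noncomputable def pointEquiv (Z : Scheme.{u}) [IsAffine Z] : Z ≃ PrimeSpectrum Γ(Z, ⊤) where
  toFun z := (isAffineOpen_top Z).primeIdealOf ⟨z, trivial⟩
  invFun p := (isAffineOpen_top Z).fromSpec p
  left_inv z := (isAffineOpen_top Z).fromSpec_primeIdealOf ⟨z, trivial⟩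
  right_inv p := by
    apply (isAffineOpen_top Z).fromSpec.isOpenEmbedding.injective
    exact (isAffineOpen_top Z).fromSpec_primeIdealOf ⟨_, trivial⟩

/-- the dimension of the ring of functions of a finite `K`-scheme is the sum of the dimensions of
its local rings -/
theorem finrank_top_eq_finsum {Z : Scheme.{u}} (g : Z ⟶ Spec (CommRingCat.of K)) [IsFinite g] :
    letI : Algebra K Γ(Z, ⊤) := (toG g).toAlgebra
    Module.finrank K Γ(Z, ⊤) = ∑ᶠ z : Z,
      (letI : Algebra K (Z.presheaf.stalk z) := (kHom g z).toAlgebra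
       Module.finrank K (Z.presheaf.stalk z)) := by
  letI : Algebra K Γ(Z, ⊤) := (toG g).toAlgebra
  haveI : IsAffine Z := isAffine_of_isAffineHom g
  have hfin : (toG g).Finite := by
    have h1 : g.appTop.hom.Finite := g.finite_appTop
    exact h1.comp (RingHom.Finite.of_surjective _
      (ConcreteCategory.bijective_of_isIso (Scheme.ΓSpecIso (CommRingCat.of K)).inv).2)
  haveI : Module.Finite K Γ(Z, ⊤) := hfin
  haveI : IsArtinianRing Γ(Z, ⊤) := IsArtinianRing.of_finite K _
  haveI : Fintype (PrimeSpectrum Γ(Z, ⊤)) := Fintype.ofFinite _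
  rw [IsArtinianRing.finrank_eq_sum_primeSpectrum Γ(Z, ⊤) K, ← finsum_eq_sum_of_fintype,
    ← finsum_comp_equiv (pointEquiv Z)]
  congr 1
  funext z
  letI : Algebra K (Z.presheaf.stalk z) := (kHom g z).toAlgebra
  letI : Algebra Γ(Z, ⊤) (Z.presheaf.stalk z) := Z.presheaf.algebra_section_stalk (U := ⊤) ⟨z, trivial⟩
  haveI : IsScalarTower K Γ(Z, ⊤) (Z.presheaf.stalk z) :=
    IsScalarTower.of_algebraMap_eq (fun _ => rfl)
  haveI : IsLocalization.AtPrime (Z.presheaf.stalk z)
      ((isAffineOpen_top Z).primeIdealOf ⟨z, trivial⟩).asIdeal :=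
    (isAffineOpen_top Z).isLocalization_stalk ⟨z, trivial⟩
  let e : Localization.AtPrime ((isAffineOpen_top Z).primeIdealOf ⟨z, trivial⟩).asIdeal
      ≃ₐ[Γ(Z, ⊤)] Z.presheaf.stalk z :=
    IsLocalization.algEquiv ((isAffineOpen_top Z).primeIdealOf ⟨z, trivial⟩).asIdeal.primeCompl _ _
  exact (e.restrictScalars K).toLinearEquiv.finrank_eq

/-- the local rings of a finite `K`-scheme are finite dimensional -/
theorem finite_stalk {Z : Scheme.{u}} (g : Z ⟶ Spec (CommRingCat.of K)) [IsFinite g] (z : Z) :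
    letI : Algebra K (Z.presheaf.stalk z) := (kHom g z).toAlgebra
    Module.Finite K (Z.presheaf.stalk z) := by
  letI : Algebra K Γ(Z, ⊤) := (toG g).toAlgebra
  haveI : IsAffine Z := isAffine_of_isAffineHom g
  have hfin : (toG g).Finite := by
    have h1 : g.appTop.hom.Finite := g.finite_appTop
    exact h1.comp (RingHom.Finite.of_surjective _
      (ConcreteCategory.bijective_of_isIso (Scheme.ΓSpecIso (CommRingCat.of K)).inv).2)
  haveI : Module.Finite K Γ(Z, ⊤) := hfin
  haveI : IsArtinianRing Γ(Z, ⊤) := IsArtinianRing.of_finite K _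
  letI : Algebra K (Z.presheaf.stalk z) := (kHom g z).toAlgebra
  letI : Algebra Γ(Z, ⊤) (Z.presheaf.stalk z) :=
    Z.presheaf.algebra_section_stalk (U := ⊤) ⟨z, trivial⟩
  haveI : IsScalarTower K Γ(Z, ⊤) (Z.presheaf.stalk z) :=
    IsScalarTower.of_algebraMap_eq (fun _ => rfl)
  haveI : IsLocalization.AtPrime (Z.presheaf.stalk z)
      ((isAffineOpen_top Z).primeIdealOf ⟨z, trivial⟩).asIdeal :=
    (isAffineOpen_top Z).isLocalization_stalk ⟨z, trivial⟩
  have hs : Function.Surjective (algebraMap Γ(Z, ⊤) (Z.presheaf.stalk z)) :=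
    IsArtinianRing.localization_surjective
      ((isAffineOpen_top Z).primeIdealOf ⟨z, trivial⟩).asIdeal.primeCompl _
  exact Module.Finite.of_surjective
    ((IsScalarTower.toAlgHom K Γ(Z, ⊤) (Z.presheaf.stalk z)).toLinearMap) hs

end Part4

section Part5

open CategoryTheory CategoryTheory.Limits AlgebraicGeometry TopologicalSpace Opposite


variable {K : Type u} [Field K] {Y : Scheme.{u}} (q : Y ⟶ Spec (CommRingCat.of K))

theorem support_locDeg_subset (J : Y.IdealSheafData) :
    Function.support (locDeg q J) ⊆ (J.support : Set Y) := by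
  intro x hx
  by_contra h
  exact hx (locDeg_eq_zero_of_notMem q J x h)

/-- **degree formula**: the degree of a closed subscheme of `Y` finite over `K` is the sum of
its local degrees -/
theorem finrank_eq_finsum_locDeg (J : Y.IdealSheafData) [IsFinite (J.subschemeι ≫ q)]
    (pt : Spec (CommRingCat.of K)) :
    (J.subschemeι ≫ q).finrank pt = ∑ᶠ x : Y, locDeg q J x := by
  rw [finrank_eq_finrank_top, finrank_top_eq_finsum]
  have h1 : ∀ z : J.subscheme,
      (letI : Algebra K (J.subscheme.presheaf.stalk z) := (kHom (J.subschemeι ≫ q) z).toAlgebra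
       Module.finrank K (J.subscheme.presheaf.stalk z)) = locDeg q J (J.subschemeι z) :=
    fun z => finrank_stalk_subscheme q J z
  rw [finsum_congr h1, ← finsum_mem_range J.subschemeι.isEmbedding.injective,
    J.range_subschemeι, ← finsum_mem_univ (locDeg q J)]
  apply finsum_mem_inter_support_eq'
  intro x hx
  exact ⟨fun _ => trivial, fun _ => support_locDeg_subset q J hx⟩

/-- the local quotients are finite dimensional -/
theorem finite_quot_stalkIdeal (J : Y.IdealSheafData) [IsFinite (J.subschemeι ≫ q)] (x : Y) :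
    letI : Algebra K (Y.presheaf.stalk x) := (kHom q x).toAlgebra
    Module.Finite K (Y.presheaf.stalk x ⧸ IntMult.stalkIdeal J x) := by
  letI : Algebra K (Y.presheaf.stalk x) := (kHom q x).toAlgebra
  by_cases hx : x ∈ J.support
  swap
  · haveI : Subsingleton (Y.presheaf.stalk x ⧸ IntMult.stalkIdeal J x) := by
      rw [stalkIdeal_eq_top_of_notMem J x hx]
      exact Ideal.Quotient.subsingleton_iff.mpr rfl
    infer_instance
  have hx' := hx
  rw [← SetLike.mem_coe, ← J.range_subschemeι] at hx'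
  obtain ⟨z, rfl⟩ := hx'
  obtain ⟨e⟩ := nonempty_linearEquiv_stalk q J z
  letI : Algebra K (J.subscheme.presheaf.stalk z) := (kHom (J.subschemeι ≫ q) z).toAlgebra
  haveI := finite_stalk (J.subschemeι ≫ q) z
  exact Module.Finite.equiv e.symm

end Part5

section Part6

open CategoryTheory CategoryTheory.Limits AlgebraicGeometry TopologicalSpace Opposite


variable {K : Type u} [Field K] {Y : Scheme.{u}} (q : Y ⟶ Spec (CommRingCat.of K))

theorem finite_of_isFinite {Z : Scheme.{u}} (g : Z ⟶ Spec (CommRingCat.of K)) [IsFinite g] :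
    Finite Z := by
  letI : Algebra K Γ(Z, ⊤) := (toG g).toAlgebra
  haveI : IsAffine Z := isAffine_of_isAffineHom g
  have hfin : (toG g).Finite := by
    have h1 : g.appTop.hom.Finite := g.finite_appTop
    exact h1.comp (RingHom.Finite.of_surjective _
      (ConcreteCategory.bijective_of_isIso (Scheme.ΓSpecIso (CommRingCat.of K)).inv).2)
  haveI : Module.Finite K Γ(Z, ⊤) := hfin
  haveI : IsArtinianRing Γ(Z, ⊤) := IsArtinianRing.of_finite K _
  exact Finite.of_equiv _ (pointEquiv Z).symm

theorem finite_support_locDeg (J : Y.IdealSheafData) [IsFinite (J.subschemeι ≫ q)] :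
    (Function.support (locDeg q J)).Finite := by
  haveI := finite_of_isFinite (J.subschemeι ≫ q)
  refine Set.Finite.subset ?_ (support_locDeg_subset q J)
  rw [← J.range_subschemeι]
  exact Set.finite_range _

/-- local additivity of the degree -/
theorem locDeg_mul (J₁ J₂ J₁₂ : Y.IdealSheafData) (h₁ : BlowUp.IsEffCartierIdeal J₁)
    (h₂ : BlowUp.IsEffCartierIdeal J₂)
    (hmul : ∀ x, IntMult.stalkIdeal J₁₂ x = IntMult.stalkIdeal J₁ x * IntMult.stalkIdeal J₂ x)
    [IsFinite (J₁₂.subschemeι ≫ q)] (x : Y) :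
    locDeg q J₁₂ x = locDeg q J₁ x + locDeg q J₂ x := by
  obtain ⟨a₁, ha₁, e₁⟩ := Groth.Agent.Lib.R2H1.CartierProd.stalkIdeal_principal h₁ x
  obtain ⟨a₂, -, e₂⟩ := Groth.Agent.Lib.R2H1.CartierProd.stalkIdeal_principal h₂ x
  have e : IntMult.stalkIdeal J₁₂ x = Ideal.span {a₁ * a₂} := by
    rw [hmul, e₁, e₂, Ideal.span_singleton_mul_span_singleton]
  have hfin := finite_quot_stalkIdeal q J₁₂ x
  unfold locDeg
  letI : Algebra K (Y.presheaf.stalk x) := (kHom q x).toAlgebra
  rw [e] at hfin ⊢
  rw [e₁, e₂]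
  haveI := hfin
  exact finrank_quot_mul K _ a₁ a₂ ha₁

/-- **additivity of the degree over a field** -/
theorem finrank_mul_field (J₁ J₂ J₁₂ : Y.IdealSheafData) (h₁ : BlowUp.IsEffCartierIdeal J₁)
    (h₂ : BlowUp.IsEffCartierIdeal J₂)
    (hmul : ∀ x, IntMult.stalkIdeal J₁₂ x = IntMult.stalkIdeal J₁ x * IntMult.stalkIdeal J₂ x)
    [IsFinite (J₁.subschemeι ≫ q)]
    [IsFinite (J₂.subschemeι ≫ q)] [IsFinite (J₁₂.subschemeι ≫ q)]
    (pt : Spec (CommRingCat.of K)) :
    (J₁₂.subschemeι ≫ q).finrank pt =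
      (J₁.subschemeι ≫ q).finrank pt + (J₂.subschemeι ≫ q).finrank pt := by
  rw [finrank_eq_finsum_locDeg, finrank_eq_finsum_locDeg, finrank_eq_finsum_locDeg,
    ← finsum_add_distrib (finite_support_locDeg q J₁) (finite_support_locDeg q J₂)]
  exact finsum_congr (locDeg_mul q J₁ J₂ J₁₂ h₁ h₂ hmul)

end Part6

section Part7

open CategoryTheory CategoryTheory.Limits AlgebraicGeometry TopologicalSpace Opposite


variable {X S : Scheme.{u}} (f : X ⟶ S)

/-- the closed subscheme of the fibre is the fibre of the closed subscheme -/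
theorem isPullback_fibre (I : X.IdealSheafData) (y : S) :
    IsPullback (Scheme.IdealSheafData.subschemeMap _ _ (f.fiberι y) (I.le_map_comap (f.fiberι y)))
      ((I.comap (f.fiberι y)).subschemeι ≫ f.fiberToSpecResidueField y) (I.subschemeι ≫ f)
      (S.fromSpecResidueField y) :=
  (Groth.Agent.Lib.R2H1.HilbDesc.isPullback_comap (f.fiberι y) I).flip.paste_vert
    (IsPullback.of_hasPullback f (S.fromSpecResidueField y))

theorem isFinite_fibre (I : X.IdealSheafData) [IsFinite (I.subschemeι ≫ f)] (y : S) :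
    IsFinite ((I.comap (f.fiberι y)).subschemeι ≫ f.fiberToSpecResidueField y) :=
  MorphismProperty.of_isPullback (P := @IsFinite) (isPullback_fibre f I y) inferInstance

theorem finrank_fibre (I : X.IdealSheafData) [IsFinite (I.subschemeι ≫ f)]
    [Flat (I.subschemeι ≫ f)] (y : S) (pt : Spec (S.residueField y)) :
    ((I.comap (f.fiberι y)).subschemeι ≫ f.fiberToSpecResidueField y).finrank pt =
      (I.subschemeι ≫ f).finrank y := by
  rw [Scheme.Hom.finrank_of_isPullback _ _ _ _ (isPullback_fibre f I y) pt]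
  congr 1
  exact Scheme.fromSpecResidueField_apply y pt

/-- **additivity of degrees of relative effective Cartier divisors** -/
theorem finrank_mul (I₁ I₂ : X.IdealSheafData)
    (h₁ : BlowUp.IsEffCartierIdeal I₁) (h₂ : BlowUp.IsEffCartierIdeal I₂)
    [Flat (I₁.subschemeι ≫ f)] [Flat (I₂.subschemeι ≫ f)] [Flat ((I₁ * I₂).subschemeι ≫ f)]
    [IsFinite (I₁.subschemeι ≫ f)] [IsFinite (I₂.subschemeι ≫ f)]
    [IsFinite ((I₁ * I₂).subschemeι ≫ f)] (y : S) :
    ((I₁ * I₂).subschemeι ≫ f).finrank y =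
      (I₁.subschemeι ≫ f).finrank y + (I₂.subschemeι ≫ f).finrank y := by
  obtain ⟨pt⟩ : Nonempty (Spec (S.residueField y)) := inferInstance
  rw [← finrank_fibre f (I₁ * I₂) y pt, ← finrank_fibre f I₁ y pt, ← finrank_fibre f I₂ y pt]
  haveI := isFinite_fibre f I₁ y
  haveI := isFinite_fibre f I₂ y
  haveI := isFinite_fibre f (I₁ * I₂) y
  refine finrank_mul_field (K := S.residueField y) (f.fiberToSpecResidueField y)
    (I₁.comap (f.fiberι y)) (I₂.comap (f.fiberι y)) ((I₁ * I₂).comap (f.fiberι y))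
    (Groth.Agent.S1662.result f I₁ h₁ (S.fromSpecResidueField y))
    (Groth.Agent.S1662.result f I₂ h₂ (S.fromSpecResidueField y)) ?_ pt
  intro x
  rw [Groth.Agent.Lib.H9EffCartDesc.stalkIdeal_comap, Groth.Agent.Lib.H9EffCartDesc.stalkIdeal_comap,
    Groth.Agent.Lib.H9EffCartDesc.stalkIdeal_comap, Groth.Agent.Lib.H9CodimTwo.stalkIdeal_mul]
  exact Ideal.map_mul _ _ _

end Part7

end Groth.Agent.Lib.R2H1.FinDegree
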