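import Mathlib

/-!
# Local principality of an ideal with flat quotient from the fibre (algebra side)

* `inf_map_le_mul_of_flat_quotient`: `B ⧸ I` flat over `A` gives `I ⊓ pB ≤ pB * I`.
* `inf_map_le_mul_of_flat_quotient_localization`: the same in a localization of `B`.
* `eq_span_singleton_of_le_sup`: Nakayama step in a local ring.
* `exists_mem_span_singleton_eq`: a principal ideal of a local ring generated by a set is generated
  by one element of the set.
* `le_span_sup_ker`
* `exists_mul_mem_span_of_map_le`: spreading out from a localization.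
* `exists_generator_of_fibre`: the combined statement.
-/

set_option autoImplicit false
set_option linter.style.haveILetI false
set_option linter.unusedVariables false
set_option linter.unusedSectionVars false

namespace Groth.Agent.Lib.R2H3.LocPrincipalAlg

open TensorProduct

/-- if `B ⧸ I` is flat over `A` then `I ∩ pB = pI`. -/
theorem inf_map_le_mul_of_flat_quotient {A B : Type*} [CommRing A] [CommRing B] [Algebra A B]
    (I : Ideal B) [Module.Flat A (B ⧸ I)] (p : Ideal A) :
    I ⊓ p.map (algebraMap A B) ≤ p.map (algebraMap A B) * I := by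
  rintro y ⟨hyI, hyp⟩
  let M : Submodule A B := I.restrictScalars A
  let g : M →ₗ[A] B := M.subtype
  let f : B →ₗ[A] B ⧸ I := (Ideal.Quotient.mkₐ A I).toLinearMap
  have hf : Function.Surjective f := Ideal.Quotient.mk_surjective
  have hg : Function.Injective g := M.injective_subtype
  have hex : Function.Exact g f := by
    intro b
    constructor
    · intro hb
      exact ⟨⟨b, Ideal.Quotient.eq_zero_iff_mem.1 hb⟩, rfl⟩
    · rintro ⟨m, rfl⟩
      exact Ideal.Quotient.eq_zero_iff_mem.2 m.2
  have hinj := LinearMap.lTensor_injective_of_exact_of_flat f hf g hg hex (A ⧸ p)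
  let t : (A ⧸ p) ⊗[A] M := 1 ⊗ₜ ⟨y, hyI⟩
  have ht : g.lTensor (A ⧸ p) t = 0 := by
    change (1 : A ⧸ p) ⊗ₜ[A] y = 0
    apply (quotTensorEquivQuotSMul B p).injective
    rw [quotTensorEquivQuotSMul_mk_one_tmul, map_zero, Submodule.Quotient.mk_eq_zero,
      Ideal.smul_top_eq_map]
    exact hyp
  have ht0 : t = 0 := hinj (by rw [ht, map_zero])
  have h2 : (⟨y, hyI⟩ : M) ∈ (p • ⊤ : Submodule A M) := by
    have := congrArg (quotTensorEquivQuotSMul M p) ht0
    rw [quotTensorEquivQuotSMul_mk_one_tmul, map_zero, Submodule.Quotient.mk_eq_zero] at this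
    exact this
  have h3 : (p • ⊤ : Submodule A M) ≤
      Submodule.comap g ((p.map (algebraMap A B) * I).restrictScalars A) := by
    rw [Submodule.smul_le]
    intro a ha m _
    change ((a • m : M) : B) ∈ p.map (algebraMap A B) * I
    rw [Submodule.coe_smul, Algebra.smul_def]
    exact Ideal.mul_mem_mul (Ideal.mem_map_of_mem _ ha) m.2
  exact h3 h2

/-- the same in a localization of `B`. -/
theorem inf_map_le_mul_of_flat_quotient_localization {A B : Type*} [CommRing A] [CommRing B]
    [Algebra A B] (I : Ideal B) [Module.Flat A (B ⧸ I)] (p : Ideal A) (Mo : Submonoid B)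
    (R : Type*) [CommRing R] [Algebra B R] [IsLocalization Mo R] :
    I.map (algebraMap B R) ⊓ (p.map (algebraMap A B)).map (algebraMap B R) ≤
      (p.map (algebraMap A B)).map (algebraMap B R) * I.map (algebraMap B R) := by
  intro y hy
  obtain ⟨hyI, hyp⟩ := Ideal.mem_inf.1 hy
  rw [IsLocalization.mem_map_algebraMap_iff Mo] at hyI hyp
  obtain ⟨⟨⟨i, hi⟩, s⟩, h1⟩ := hyI
  obtain ⟨⟨⟨j, hj⟩, s'⟩, h2⟩ := hyp
  simp only at h1 h2
  have h3 : algebraMap B R (i * s') = algebraMap B R (j * s) := by
    rw [map_mul, map_mul, ← h1, ← h2]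
    ring
  obtain ⟨c, hc⟩ := (IsLocalization.eq_iff_exists Mo R).1 h3
  have hw : (c : B) * (i * s') ∈ I ⊓ p.map (algebraMap A B) :=
    ⟨I.mul_mem_left _ (I.mul_mem_right _ hi), by
      rw [hc]
      exact Ideal.mul_mem_left _ _ (Ideal.mul_mem_right _ _ hj)⟩
  have hw' := inf_map_le_mul_of_flat_quotient I p hw
  have h4 : y * algebraMap B R (c * s * s') = algebraMap B R (c * (i * s')) := by
    rw [map_mul, map_mul, map_mul, map_mul, ← h1]
    ring
  have hu : IsUnit (algebraMap B R ((c * s * s' : Mo) : B)) := IsLocalization.map_units R _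
  rw [← Ideal.map_mul]
  have h5 : y * algebraMap B R ((c * s * s' : Mo) : B) ∈
      Ideal.map (algebraMap B R) (p.map (algebraMap A B) * I) := by
    have : ((c * s * s' : Mo) : B) = c * s * s' := rfl
    rw [this, h4]
    exact Ideal.mem_map_of_mem _ hw'
  exact (Ideal.mul_unit_mem_iff_mem _ hu).1 h5

/-- Nakayama step: in a local ring, a finitely generated ideal `I` with `I ∩ J ≤ J I`,
`J` proper, which is generated by `f` modulo `J`, is generated by `f`. -/
theorem eq_span_singleton_of_le_sup {R : Type*} [CommRing R] [IsLocalRing R] (I J : Ideal R)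
    (hI : I.FG) (hJ : J ≤ IsLocalRing.maximalIdeal R) (hIJ : I ⊓ J ≤ J * I) (f : R) (hf : f ∈ I)
    (hle : I ≤ Ideal.span {f} ⊔ J) : I = Ideal.span {f} := by
  refine le_antisymm ?_ ((Ideal.span_singleton_le_iff_mem _).2 hf)
  refine Submodule.le_of_le_smul_of_le_jacobson_bot (I := J) hI
    (by rw [IsLocalRing.jacobson_eq_maximalIdeal ⊥ bot_ne_top]; exact hJ) ?_
  intro y hy
  obtain ⟨a, ha, b, hb, rfl⟩ := Submodule.mem_sup.1 (hle hy)
  refine Submodule.mem_sup.2 ⟨a, ha, b, ?_, rfl⟩
  have hbI : b ∈ I := by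
    have : b = (a + b) - a := by ring
    rw [this]
    exact I.sub_mem hy ((Ideal.span_singleton_le_iff_mem _).2 hf ha)
  exact hIJ ⟨hbI, hb⟩

/-- in a local ring a principal ideal generated by a nonempty set is generated by one element of
that set. -/
theorem exists_mem_span_singleton_eq {R : Type*} [CommRing R] [IsLocalRing R] (t : R) (T : Set R)
    (hT : T.Nonempty) (h : Ideal.span T = Ideal.span {t}) :
    ∃ t' ∈ T, Ideal.span {t'} = Ideal.span {t} := by
  by_contra hcon
  push Not at hcon
  have h1 : ∀ t' ∈ T, t' ∈ IsLocalRing.maximalIdeal R • (Ideal.span {t} : Ideal R) := by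
    intro t' ht'
    have h2 : t' ∈ Ideal.span {t} := h ▸ Ideal.subset_span ht'
    obtain ⟨d, rfl⟩ := Ideal.mem_span_singleton'.1 h2
    have hd : ¬ IsUnit d := by
      intro hu
      exact hcon _ ht' (Ideal.span_singleton_mul_left_unit hu t)
    exact Submodule.smul_mem_smul ((IsLocalRing.mem_maximalIdeal d).2 hd)
      (Ideal.mem_span_singleton_self t)
  have h3 : (Ideal.span {t} : Ideal R) ≤
      IsLocalRing.maximalIdeal R • (Ideal.span {t} : Ideal R) := by
    rw [← h, Ideal.span_le]
    intro t' ht'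
    rw [h]
    exact h1 t' ht'
  have h4 : (Ideal.span {t} : Ideal R) = ⊥ :=
    Submodule.eq_bot_of_le_smul_of_le_jacobson_bot _ _ ⟨{t}, by simp⟩ h3
      (by rw [IsLocalRing.jacobson_eq_maximalIdeal ⊥ bot_ne_top])
  obtain ⟨t', ht'⟩ := hT
  refine hcon t' ht' ?_
  have h5 : t' ∈ (⊥ : Ideal R) := by
    rw [← h4, ← h]
    exact Ideal.subset_span ht'
  have h6 : t' = 0 := h5
  rw [h4, h6]
  simp

/-- lifting a generator modulo the kernel of a surjection. -/
theorem le_span_sup_ker {R R' : Type*} [CommRing R] [CommRing R'] (σ : R →+* R')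
    (hσ : Function.Surjective σ) (I : Ideal R) (f : R)
    (h : I.map σ ≤ Ideal.span {σ f}) : I ≤ Ideal.span {f} ⊔ RingHom.ker σ := by
  intro y hy
  have h1 : σ y ∈ Ideal.span {σ f} := h (Ideal.mem_map_of_mem _ hy)
  obtain ⟨c', hc'⟩ := Ideal.mem_span_singleton'.1 h1
  obtain ⟨c, rfl⟩ := hσ c'
  refine Submodule.mem_sup.2 ⟨c * f, Ideal.mem_span_singleton'.2 ⟨c, rfl⟩, y - c * f, ?_, by ring⟩
  rw [RingHom.mem_ker, map_sub, map_mul, hc', sub_self]

/-- spreading out: if `I` (finitely generated) is contained in `(f)` after localization then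
`h I ≤ (f)` for some `h` in the submonoid. -/
theorem exists_mul_mem_span_of_map_le {B : Type*} [CommRing B] (Mo : Submonoid B) (R : Type*)
    [CommRing R] [Algebra B R] [IsLocalization Mo R] (I : Ideal B) (hI : I.FG) (f : B)
    (hf : I.map (algebraMap B R) ≤ Ideal.span {algebraMap B R f}) :
    ∃ h ∈ Mo, ∀ i ∈ I, h * i ∈ Ideal.span {f} := by
  obtain ⟨G, rfl⟩ := hI
  have key : ∀ g ∈ G, ∃ h ∈ Mo, h * g ∈ Ideal.span {f} := by
    intro g hg
    have h1 : algebraMap B R g ∈ Ideal.span {algebraMap B R f} :=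
      hf (Ideal.mem_map_of_mem _ (Ideal.subset_span hg))
    obtain ⟨r, hr⟩ := Ideal.mem_span_singleton'.1 h1
    obtain ⟨⟨b, s⟩, hbs⟩ := IsLocalization.surj Mo r
    simp only at hbs
    have h2 : algebraMap B R (s * g) = algebraMap B R (b * f) := by
      rw [map_mul, map_mul, ← hr, ← hbs]
      ring
    obtain ⟨c, hc⟩ := (IsLocalization.eq_iff_exists Mo R).1 h2
    refine ⟨c * s, Mo.mul_mem c.2 s.2, ?_⟩
    rw [mul_assoc, hc]
    exact Ideal.mem_span_singleton'.2 ⟨c * b, by ring⟩
  have key2 : ∀ G' : Finset B, (∀ g ∈ G', ∃ h ∈ Mo, h * g ∈ Ideal.span {f}) →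
      ∃ h ∈ Mo, ∀ g ∈ G', h * g ∈ Ideal.span {f} := by
    classical
    intro G'
    induction G' using Finset.induction_on with
    | empty => intro _; exact ⟨1, Mo.one_mem, by simp⟩
    | insert a s ha ih =>
      intro h
      obtain ⟨h1, h1q, h1s⟩ := ih (fun g hg => h g (Finset.mem_insert_of_mem hg))
      obtain ⟨h2, h2q, h2a⟩ := h a (Finset.mem_insert_self a s)
      refine ⟨h1 * h2, Mo.mul_mem h1q h2q, ?_⟩
      intro g hg
      rcases Finset.mem_insert.1 hg with rfl | hg
      · rw [mul_assoc]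
        exact Ideal.mul_mem_left _ _ h2a
      · rw [mul_comm h1 h2, mul_assoc]
        exact Ideal.mul_mem_left _ _ (h1s g hg)
  obtain ⟨h, hq, hh⟩ := key2 G key
  refine ⟨h, hq, fun i hi => ?_⟩
  induction hi using Submodule.span_induction with
  | mem x hx => exact hh x hx
  | zero => simp
  | add x y _ _ hx hy => rw [mul_add]; exact Ideal.add_mem _ hx hy
  | smul a x _ hx => rw [smul_eq_mul, mul_left_comm]; exact Ideal.mul_mem_left _ _ hx

/-- **Combined statement.** `A → B`, `I` a finitely generated ideal of `B` with `B ⧸ I` flat over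
`A`, `R` a local localization of `B`, `σ : R → R'` a surjection onto a local ring with kernel
generated by an ideal `p` of `A`, and `I R'` principal. Then `I` is generated by one of its
elements after inverting one element of the submonoid. -/
theorem exists_generator_of_fibre {A B : Type*} [CommRing A] [CommRing B] [Algebra A B]
    (I : Ideal B) (hI : I.FG) [Module.Flat A (B ⧸ I)] (p : Ideal A) (Mo : Submonoid B)
    (R : Type*) [CommRing R] [IsLocalRing R] [Algebra B R] [IsLocalization Mo R]
    (R' : Type*) [CommRing R'] [IsLocalRing R'] (σ : R →+* R') (hσ : Function.Surjective σ)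
    (hker : RingHom.ker σ = (p.map (algebraMap A B)).map (algebraMap B R))
    (t : R') (ht : I.map (σ.comp (algebraMap B R)) = Ideal.span {t}) :
    ∃ f ∈ I, ∃ h ∈ Mo, ∀ i ∈ I, h * i ∈ Ideal.span {f} := by
  obtain ⟨t', ⟨f, hfI, rfl⟩, ht'⟩ := exists_mem_span_singleton_eq t
    ((σ.comp (algebraMap B R)) '' (I : Set B)) ⟨_, 0, I.zero_mem, rfl⟩ ht
  refine ⟨f, hfI, ?_⟩
  have h1 : (I.map (algebraMap B R)).map σ ≤ Ideal.span {σ (algebraMap B R f)} := by
    rw [Ideal.map_map, ht, ← ht']
    rfl
  have h2 := le_span_sup_ker σ hσ (I.map (algebraMap B R)) (algebraMap B R f) h1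
  have hJ : RingHom.ker σ ≤ IsLocalRing.maximalIdeal R :=
    IsLocalRing.le_maximalIdeal (RingHom.ker_ne_top σ)
  have hIJ : I.map (algebraMap B R) ⊓ RingHom.ker σ ≤ RingHom.ker σ * I.map (algebraMap B R) := by
    rw [hker]
    exact inf_map_le_mul_of_flat_quotient_localization I p Mo R
  have h3 := eq_span_singleton_of_le_sup (I.map (algebraMap B R)) (RingHom.ker σ) (hI.map _) hJ hIJ
    (algebraMap B R f) (Ideal.mem_map_of_mem _ hfI) h2
  exact exists_mul_mem_span_of_map_le Mo R I hI f h3.le

end Groth.Agent.Lib.R2H3.LocPrincipalAlg
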