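import Mathlib
import Groth.Agent.Lib.R2H3RelCartierAlg
import Groth.Agent.Lib.R2H3UnivInj
import Groth.Agent.Lib.Helper20RelCartier

/-!
# Relative effective Cartier divisors from the fibres (scheme side)

`φ : X ⟶ S` flat and locally of finite presentation, `𝓘` an ideal sheaf on `X`.
* `structure_section_eq_zero_of_locally`
* `isSMulRegular_fibre_of_effCartier`: if `𝓘` is generated by `a` on the affine open `W ⊆ φ⁻¹ V₀` and
  the inverse image of `𝓘` on every fibre is effective Cartier, then `a` is regular on all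
  `Γ(X, W) ⊗ κ(p)`.
* `relEffCartier_of_locPrincipal_of_fibres`: locally principal + fibrewise effective Cartier gives
  effective Cartier with flat closed subscheme.
-/

set_option autoImplicit false
set_option linter.style.haveILetI false
set_option linter.unusedVariables false
set_option linter.unusedSectionVars false
universe u
open CategoryTheory Limits AlgebraicGeometry TopologicalSpace Opposite TensorProduct

namespace Groth.Agent.Lib.R2H3.RelCartier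

open Groth.Agent.Lib.Helper2 Groth.Agent.Lib.Helper2.PullbackSec Groth.Agent.Lib.Helper2.FlatOver
open Groth.Agent.Lib.R2H3.UnivInj Groth.Agent.Lib.R2H3.RelCartierAlg
open Groth.Agent.Lib.Helper20

/-- a function which is locally zero is zero -/
theorem structure_section_eq_zero_of_locally {X : Scheme.{u}} {V : X.Opens} (t : Γ(X, V))
    (h : ∀ x : V, ∃ (N : X.Opens) (hle : N ≤ V), x.1 ∈ N ∧
      X.presheaf.map (homOfLE hle).op t = 0) : t = 0 := by
  choose N hle hx hN using h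
  refine TopCat.Sheaf.eq_of_locally_eq' X.sheaf N V (fun x => homOfLE (hle x)) ?_ t 0
    (fun x => by rw [map_zero]; exact hN x)
  intro x hxV
  exact Opens.mem_iSup.mpr ⟨⟨x, hxV⟩, hx ⟨x, hxV⟩⟩

section

variable {X S : Scheme.{u}} (φ : X ⟶ S) [Flat φ] [LocallyOfFinitePresentation φ]
  (𝓘 : X.IdealSheafData)

open nonZeroDivisors in
theorem isSMulRegular_fibre_of_effCartier
    (hfib : ∀ s : S, BlowUp.IsEffCartierIdeal (𝓘.comap (φ.fiberι s)))
    {V₀ : S.Opens} {W : X.Opens} (hV₀ : IsAffineOpen V₀) (hW : IsAffineOpen W)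
    (eU : W ≤ φ ⁻¹ᵁ V₀) (a : Γ(X, W)) (ha : 𝓘.ideal ⟨W, hW⟩ = Ideal.span {a}) :
    letI : Algebra Γ(S, V₀) Γ(X, W) := (φ.appLE V₀ W eU).hom.toAlgebra
    ∀ (p : Ideal Γ(S, V₀)) [p.IsPrime], IsSMulRegular (Γ(X, W) ⊗[Γ(S, V₀)] p.ResidueField) a := by
  letI aAB : Algebra Γ(S, V₀) Γ(X, W) := (φ.appLE V₀ W eU).hom.toAlgebra
  intro p hp
  classical
  let q : PrimeSpectrum Γ(S, V₀) := ⟨p, hp⟩
  let s : S := hV₀.fromSpec q
  have hsV₀ : s ∈ V₀ := QCoh.fromSpec_mem hV₀ q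
  let g : Spec (S.residueField s) ⟶ S := S.fromSpecResidueField s
  let g' : φ.fiber s ⟶ X := φ.fiberι s
  let f' : φ.fiber s ⟶ Spec (S.residueField s) := pullback.snd φ g
  have hc : IsPullback g' f' φ g := IsPullback.of_hasPullback φ g
  have hV₁ : IsAffineOpen (⊤ : (Spec (S.residueField s)).Opens) := isAffineOpen_top _
  have eV' : (⊤ : (Spec (S.residueField s)).Opens) ≤ g ⁻¹ᵁ V₀ := by
    intro z _
    change g z ∈ V₀
    rw [Scheme.fromSpecResidueField_apply]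
    exact hsV₀
  set W' : (φ.fiber s).Opens := g' ⁻¹ᵁ W ⊓ f' ⁻¹ᵁ ⊤ with hW'def
  have hW' : IsAffineOpen W' := isAffineOpen_inf_preimage hc eV' eU hV₀ hV₁ hW
  have e1 : W' ≤ g' ⁻¹ᵁ W := inf_le_left
  have e2 : W' ≤ f' ⁻¹ᵁ ⊤ := inf_le_right
  -- rings
  letI aAK : Algebra Γ(S, V₀) Γ(Spec (S.residueField s), ⊤) := (g.appLE V₀ ⊤ eV').hom.toAlgebra
  letI aBB' : Algebra Γ(X, W) Γ(φ.fiber s, W') := (g'.appLE W W' e1).hom.toAlgebra
  letI aKB' : Algebra Γ(Spec (S.residueField s), ⊤) Γ(φ.fiber s, W') :=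
    (f'.appLE ⊤ W' e2).hom.toAlgebra
  letI aAB' : Algebra Γ(S, V₀) Γ(φ.fiber s, W') :=
    ((g'.appLE W W' e1).hom.comp (φ.appLE V₀ W eU).hom).toAlgebra
  haveI tABB' : IsScalarTower Γ(S, V₀) Γ(X, W) Γ(φ.fiber s, W') :=
    IsScalarTower.of_algebraMap_eq (fun a => rfl)
  haveI tAKB' : IsScalarTower Γ(S, V₀) Γ(Spec (S.residueField s), ⊤) Γ(φ.fiber s, W') := by
    refine IsScalarTower.of_algebraMap_eq (fun a => ?_)
    change (g'.appLE W W' e1).hom ((φ.appLE V₀ W eU).hom a) =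
      (f'.appLE ⊤ W' e2).hom ((g.appLE V₀ ⊤ eV').hom a)
    have h1 := Scheme.Hom.appLE_comp_appLE g' φ V₀ W W' eU e1
    have h2 := Scheme.Hom.appLE_comp_appLE f' g V₀ ⊤ W' eV' e2
    have h3 : (φ.appLE V₀ W eU ≫ g'.appLE W W' e1) = (g.appLE V₀ ⊤ eV' ≫ f'.appLE ⊤ W' e2) := by
      rw [h1, h2]
      congr 1
      exact hc.w
    exact congrArg (fun ψ => ψ.hom a) h3
  haveI hPO : Algebra.IsPushout Γ(S, V₀) Γ(Spec (S.residueField s), ⊤) Γ(X, W)
      Γ(φ.fiber s, W') := algebra_isPushout hc eV' eU hV₀ hV₁ hW e1 e2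
  haveI hflAB : Module.Flat Γ(S, V₀) Γ(X, W) :=
    HasRingHomProperty.appLE @Flat φ ‹_› ⟨V₀, hV₀⟩ ⟨W, hW⟩ eU
  -- `K` is a field
  have hK : IsField Γ(Spec (S.residueField s), ⊤) :=
    MulEquiv.isField (Field.toIsField (S.residueField s))
      (Scheme.ΓSpecIso (S.residueField s)).commRingCatIsoToRingEquiv.toMulEquiv
  have hker : RingHom.ker (algebraMap Γ(S, V₀) Γ(Spec (S.residueField s), ⊤)) = p := by
    ext a
    rw [RingHom.mem_ker]
    change (g.appLE V₀ ⊤ eV').hom a = 0 ↔ a ∈ p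
    rw [appLE_fromSpecResidueField_eq_zero_iff s eV' a, QCoh.mem_basicOpen_fromSpec_iff hV₀ q a]
    simp [q]
  -- the base change datum
  let ψ : Γ(X, W) →ₗ[Γ(X, W)] Γ(φ.fiber s, W') := Algebra.linearMap Γ(X, W) Γ(φ.fiber s, W')
  have hψ : IsBaseChange Γ(φ.fiber s, W') ψ := by
    refine IsBaseChange.of_equiv
      (AlgebraTensorModule.rid Γ(X, W) Γ(φ.fiber s, W') Γ(φ.fiber s, W')) (fun b => ?_)
    rw [AlgebraTensorModule.rid_tmul, Algebra.smul_def, mul_one]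
    rfl
  -- the image of `a` is a nonzerodivisor on the fibre
  have hreg : IsSMulRegular Γ(φ.fiber s, W') (algebraMap Γ(X, W) Γ(φ.fiber s, W') a) := by
    rw [isSMulRegular_iff_right_eq_zero_of_smul]
    intro b hb
    apply structure_section_eq_zero_of_locally
    rintro ⟨y, hy⟩
    obtain ⟨U'', hU'', hyU'', hU''W', f'', hf'', hI''⟩ :=
      EffCartier.exists_le_of_isEffCartierIdeal (hfib s) y W' hy
    refine ⟨U'', hU''W', hyU'', ?_⟩
    have h1 := EffCartier.ideal_comap_eq_map g' 𝓘 hU'' hW (hU''W'.trans e1)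
    rw [ha, Ideal.map_span, Set.image_singleton, hI''] at h1
    have h2 : (g'.appLE W U'' (hU''W'.trans e1)).hom a ∈ Γ(φ.fiber s, U'')⁰ :=
      mem_nonZeroDivisors_of_span_eq hf'' h1
    have h3 : (g'.appLE W U'' (hU''W'.trans e1)).hom a =
        (φ.fiber s).presheaf.map (homOfLE hU''W').op ((g'.appLE W W' e1).hom a) := by
      rw [← Scheme.Hom.appLE_map g' e1 (homOfLE hU''W').op]
      rfl
    have h4 : (g'.appLE W U'' (hU''W'.trans e1)).hom a *
        (φ.fiber s).presheaf.map (homOfLE hU''W').op b = 0 := by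
      rw [h3, ← map_mul]
      have hb' : (g'.appLE W W' e1).hom a * b = 0 := hb
      rw [hb', map_zero]
    exact (mem_nonZeroDivisors_iff_right.1 h2) _ (by rw [mul_comm]; exact h4)
  exact isSMulRegular_residue_of_fibre Γ(S, V₀) Γ(X, W) Γ(X, W) a p
    Γ(Spec (S.residueField s), ⊤) Γ(φ.fiber s, W') hK hker Γ(φ.fiber s, W') ψ hψ hreg

open nonZeroDivisors in
theorem relEffCartier_of_locPrincipal_of_fibres (hZ : Curv2.IsLocPrincipal 𝓘)
    (hfib : ∀ s : S, BlowUp.IsEffCartierIdeal (𝓘.comap (φ.fiberι s))) :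
    BlowUp.IsEffCartierIdeal 𝓘 ∧ Flat (𝓘.subschemeι ≫ φ) := by
  have key : ∀ x : X, ∃ (V₀ : S.Opens) (_ : IsAffineOpen V₀) (W : X.Opens) (hW : IsAffineOpen W)
      (_ : x ∈ W) (eU : W ≤ φ ⁻¹ᵁ V₀),
      (∃ a : Γ(X, W), a ∈ Γ(X, W)⁰ ∧ 𝓘.ideal ⟨W, hW⟩ = Ideal.span {a}) ∧
      (letI := (φ.appLE V₀ W eU).hom.toAlgebra
       Module.Flat Γ(S, V₀) (Γ(X, W) ⧸ 𝓘.ideal ⟨W, hW⟩)) := by
    intro x
    obtain ⟨W₁, V₀, hW₁, hV₀, hxW₁, eU₁⟩ := exists_affine_nhds φ x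
    by_cases hx : x ∈ 𝓘.support
    · obtain ⟨U, hxU, f, hf⟩ := hZ x hx
      obtain ⟨r, hrW₁, hxr⟩ := U.2.exists_basicOpen_le ⟨x, hxW₁⟩ hxU
      have hW : IsAffineOpen (X.basicOpen r) := U.2.basicOpen r
      have eU : X.basicOpen r ≤ φ ⁻¹ᵁ V₀ := hrW₁.trans eU₁
      have hI : 𝓘.ideal ⟨X.basicOpen r, hW⟩ =
          Ideal.span {(X.presheaf.map (homOfLE (X.basicOpen_le r)).op).hom f} := by
        have h2 := 𝓘.map_ideal (U := ⟨X.basicOpen r, hW⟩) (V := U) (X.basicOpen_le r)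
        rw [hf, Ideal.map_span, Set.image_singleton] at h2
        exact h2.symm
      letI aAB : Algebra Γ(S, V₀) Γ(X, X.basicOpen r) :=
        (φ.appLE V₀ (X.basicOpen r) eU).hom.toAlgebra
      haveI hfpAB : Algebra.FinitePresentation Γ(S, V₀) Γ(X, X.basicOpen r) :=
        HasRingHomProperty.appLE @LocallyOfFinitePresentation φ ‹_› ⟨V₀, hV₀⟩ ⟨_, hW⟩ eU
      haveI hflAB : Module.Flat Γ(S, V₀) Γ(X, X.basicOpen r) :=
        HasRingHomProperty.appLE @Flat φ ‹_› ⟨V₀, hV₀⟩ ⟨_, hW⟩ eU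
      have hreg := isSMulRegular_fibre_of_effCartier φ 𝓘 hfib hV₀ hW eU _ hI
      obtain ⟨h1, h2⟩ := mem_nonZeroDivisors_and_flat_quotient_of_fibrewise Γ(S, V₀)
        Γ(X, X.basicOpen r) _ hreg
      refine ⟨V₀, hV₀, X.basicOpen r, hW, hxr, eU, ⟨_, h1, hI⟩, ?_⟩
      rw [hI]
      exact h2
    · have hx' : x ∉ X.zeroLocus (U := W₁) (𝓘.ideal ⟨W₁, hW₁⟩) := fun h =>
        hx ((Scheme.IdealSheafData.mem_support_iff_of_mem (U := ⟨W₁, hW₁⟩) hxW₁).2 h)
      rw [Scheme.mem_zeroLocus_iff] at hx'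
      push Not at hx'
      obtain ⟨g, hgI, hxg⟩ := hx'
      have hW : IsAffineOpen (X.basicOpen g) := hW₁.basicOpen g
      have eU : X.basicOpen g ≤ φ ⁻¹ᵁ V₀ := (X.basicOpen_le g).trans eU₁
      have hI : 𝓘.ideal ⟨X.basicOpen g, hW⟩ = ⊤ := by
        have h2 := 𝓘.map_ideal (U := ⟨X.basicOpen g, hW⟩) (V := ⟨W₁, hW₁⟩) (X.basicOpen_le g)
        rw [← h2]
        have hu : IsUnit (X.presheaf.map (homOfLE (X.basicOpen_le g)).op g) :=
          RingedSpace.isUnit_res_basicOpen _ g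
        exact Ideal.eq_top_of_isUnit_mem _ (Ideal.mem_map_of_mem _ hgI) hu
      refine ⟨V₀, hV₀, X.basicOpen g, hW, hxg, eU, ⟨1, one_mem _, ?_⟩, ?_⟩
      · rw [hI, Ideal.span_singleton_one]
      · letI aAB : Algebra Γ(S, V₀) Γ(X, X.basicOpen g) :=
          (φ.appLE V₀ (X.basicOpen g) eU).hom.toAlgebra
        haveI : Subsingleton (Γ(X, X.basicOpen g) ⧸ 𝓘.ideal ⟨X.basicOpen g, hW⟩) := by
          rw [hI]
          exact Ideal.Quotient.subsingleton_iff.2 rfl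
        infer_instance
  constructor
  · intro x
    obtain ⟨V₀, hV₀, W, hW, hxW, eU, ⟨a, ha, hI⟩, -⟩ := key x
    exact ⟨⟨W, hW⟩, hxW, a, ha, hI⟩
  · refine RelCartier.flat_of_local φ 𝓘 (fun x => ?_)
    obtain ⟨V₀, hV₀, W, hW, hxW, eU, -, hfl⟩ := key x
    exact ⟨V₀, hV₀, W, hW, hxW, eU, hfl⟩

end

end Groth.Agent.Lib.R2H3.RelCartier
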