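import Mathlib
import Groth.Agent.Lib.R2H3LocPrincipalAlg
import Groth.Agent.Lib.R2H3RelCartier
import Groth.Agent.Lib.H9ModFibSch
import Groth.Agent.Lib.Helper6LfpComp
import Groth.Agent.Lib.Helper6ClosedLfp

/-!
# Local principality of a flat finitely presented closed subscheme from the fibres

`φ : X ⟶ S` flat and locally of finite presentation, `𝓘` an ideal sheaf on `X` whose closed
subscheme is flat and locally of finite presentation over `S`.
* `exists_principal_nhds_of_fibre`: if the inverse image of `𝓘` on the fibre through a point is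
  effective Cartier, then `𝓘` is principal near that point.
* `isLocPrincipal_of_fibres`, `isEffCartierIdeal_of_fibres`.
-/

set_option autoImplicit false
set_option linter.style.haveILetI false
set_option linter.unusedVariables false
set_option linter.unusedSectionVars false
universe u
open CategoryTheory Limits AlgebraicGeometry TopologicalSpace Opposite TensorProduct

namespace Groth.Agent.Lib.R2H3.LocPrincipal

open Groth.Agent.Lib.Helper2 Groth.Agent.Lib.Helper2.FlatOver
open Groth.Agent.Lib.Helper20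

variable {X S : Scheme.{u}} (φ : X ⟶ S) [Flat φ] [LocallyOfFinitePresentation φ]
  (𝓘 : X.IdealSheafData) [Flat (𝓘.subschemeι ≫ φ)]
  [LocallyOfFinitePresentation (𝓘.subschemeι ≫ φ)]

theorem exists_principal_nhds_of_fibre (s : S) (z : φ.fiber s)
    (hfib : BlowUp.IsEffCartierIdeal (𝓘.comap (φ.fiberι s))) :
    ∃ U : X.affineOpens, φ.fiberι s z ∈ (U : X.Opens) ∧
      ∃ f : Γ(X, U), 𝓘.ideal U = Ideal.span {f} := by
  set ι := φ.fiberι s with hι
  set x : X := ι z with hx
  obtain ⟨W, V₀, hW, hV₀, hxW, eU⟩ := exists_affine_nhds φ x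
  -- the ideal is finitely generated
  haveI : LocallyOfFinitePresentation 𝓘.subschemeι :=
    Groth.Agent.Lib.Helper6.locallyOfFinitePresentation_of_comp (g := φ) inferInstance inferInstance
  have hIfg : (𝓘.ideal ⟨W, hW⟩).FG := by
    have := (Groth.Agent.Lib.Helper6.locallyOfFinitePresentation_iff_ker_fg_of_isClosedImmersion
      𝓘.subschemeι).1 inferInstance ⟨W, hW⟩
    rwa [𝓘.ker_subschemeι_app] at this
  letI aAB : Algebra Γ(S, V₀) Γ(X, W) := (φ.appLE V₀ W eU).hom.toAlgebra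
  haveI hfl : Module.Flat Γ(S, V₀) (Γ(X, W) ⧸ 𝓘.ideal ⟨W, hW⟩) :=
    RelCartier.flat_quotient_of_flat φ 𝓘 hV₀ hW eU
  -- the fibre
  have hzW : z ∈ ι ⁻¹ᵁ W := hxW
  obtain ⟨U'', hU'', hzU'', hU''W, f'', -, hI''⟩ :=
    EffCartier.exists_le_of_isEffCartierIdeal hfib z (ι ⁻¹ᵁ W) hzW
  have h1 := EffCartier.ideal_comap_eq_map ι 𝓘 hU'' hW hU''W
  rw [hI''] at h1
  -- stalks
  letI aBR : Algebra Γ(X, W) (X.presheaf.stalk x) := (X.presheaf.germ W x hxW).hom.toAlgebra
  haveI hloc : IsLocalization (hW.primeIdealOf ⟨x, hxW⟩).asIdeal.primeCompl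
      (X.presheaf.stalk x) := hW.isLocalization_stalk ⟨x, hxW⟩
  have hsV₀ : φ x ∈ V₀ := eU hxW
  letI aAR : Algebra Γ(S, V₀) (S.presheaf.stalk (φ x)) :=
    (S.presheaf.germ V₀ (φ x) hsV₀).hom.toAlgebra
  haveI hlocA : IsLocalization.AtPrime (S.presheaf.stalk (φ x))
      (hV₀.primeIdealOf ⟨φ x, hsV₀⟩).asIdeal := hV₀.isLocalization_stalk ⟨φ x, hsV₀⟩
  set p := (hV₀.primeIdealOf ⟨φ x, hsV₀⟩).asIdeal with hp
  have hmax : p.map (algebraMap Γ(S, V₀) (S.presheaf.stalk (φ x))) =
      IsLocalRing.maximalIdeal _ := IsLocalization.AtPrime.map_eq_maximalIdeal p _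
  let σ : X.presheaf.stalk x →+* (φ.fiber s).presheaf.stalk z := (ι.stalkMap z).hom
  have hσ : Function.Surjective σ := ι.stalkMap_surjective z
  have hker : RingHom.ker σ = (p.map (algebraMap Γ(S, V₀) Γ(X, W))).map
      (algebraMap Γ(X, W) (X.presheaf.stalk x)) := by
    have h0 := Groth.Agent.Lib.H9ModFibSch.ker_stalkMap_fiberι φ s z
    change RingHom.ker σ = _ at h0
    rw [h0, ← hmax, Ideal.map_map, Ideal.map_map]
    congr 1
    ext a
    exact stalkMap_germ_eq φ eU x hxW a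
  have ht : (𝓘.ideal ⟨W, hW⟩).map (σ.comp (algebraMap Γ(X, W) (X.presheaf.stalk x))) =
      Ideal.span {((φ.fiber s).presheaf.germ U'' z hzU'').hom f''} := by
    have hcomp : σ.comp (algebraMap Γ(X, W) (X.presheaf.stalk x)) =
        ((φ.fiber s).presheaf.germ U'' z hzU'').hom.comp (ι.appLE W U'' hU''W).hom := by
      ext b
      exact stalkMap_germ_eq ι hU''W z hzU'' b
    rw [hcomp, ← Ideal.map_map, ← h1, Ideal.map_span, Set.image_singleton]
  obtain ⟨f, hfI, h, hh, hI⟩ := LocPrincipalAlg.exists_generator_of_fibre (𝓘.ideal ⟨W, hW⟩) hIfg p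
    (hW.primeIdealOf ⟨x, hxW⟩).asIdeal.primeCompl (X.presheaf.stalk x)
    ((φ.fiber s).presheaf.stalk z) σ hσ hker _ ht
  -- spreading out
  have hUh : IsAffineOpen (X.basicOpen h) := hW.basicOpen h
  have hxh : x ∈ X.basicOpen h := by
    rw [Scheme.mem_basicOpen X h x hxW]
    exact IsLocalization.map_units (X.presheaf.stalk x)
      (⟨h, hh⟩ : (hW.primeIdealOf ⟨x, hxW⟩).asIdeal.primeCompl)
  refine ⟨⟨X.basicOpen h, hUh⟩, hxh, (X.presheaf.map (homOfLE (X.basicOpen_le h)).op).hom f, ?_⟩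
  have h2 := 𝓘.map_ideal (U := ⟨X.basicOpen h, hUh⟩) (V := ⟨W, hW⟩) (X.basicOpen_le h)
  rw [← h2]
  apply le_antisymm
  · rw [Ideal.map_le_iff_le_comap]
    intro i hi
    rw [Ideal.mem_comap]
    obtain ⟨c, hc⟩ := Ideal.mem_span_singleton'.1 (hI i hi)
    have hu : IsUnit (X.presheaf.map (homOfLE (X.basicOpen_le h)).op h) :=
      RingedSpace.isUnit_res_basicOpen _ h
    have h4 : (X.presheaf.map (homOfLE (X.basicOpen_le h)).op).hom h *
        (X.presheaf.map (homOfLE (X.basicOpen_le h)).op).hom i ∈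
        Ideal.span {(X.presheaf.map (homOfLE (X.basicOpen_le h)).op).hom f} := by
      rw [← map_mul, ← hc, map_mul]
      exact Ideal.mul_mem_left _ _ (Ideal.mem_span_singleton_self _)
    exact (Ideal.unit_mul_mem_iff_mem _ hu).1 h4
  · rw [Ideal.span_singleton_le_iff_mem]
    exact Ideal.mem_map_of_mem _ hfI

theorem isLocPrincipal_of_fibres
    (hfib : ∀ s : S, BlowUp.IsEffCartierIdeal (𝓘.comap (φ.fiberι s))) :
    Curv2.IsLocPrincipal 𝓘 := by
  intro x _
  have := exists_principal_nhds_of_fibre φ 𝓘 (φ x) (φ.asFiber x) (hfib (φ x))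
  rwa [φ.fiberι_asFiber x] at this

theorem isEffCartierIdeal_of_fibres
    (hfib : ∀ s : S, BlowUp.IsEffCartierIdeal (𝓘.comap (φ.fiberι s))) :
    BlowUp.IsEffCartierIdeal 𝓘 :=
  (RelCartier.relEffCartier_of_locPrincipal_of_fibres φ 𝓘
    (isLocPrincipal_of_fibres φ 𝓘 hfib) hfib).1

end Groth.Agent.Lib.R2H3.LocPrincipal
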