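import Mathlib
import Groth.Prelude.Def_HilbD
import Groth.Prelude.Def_BlowUp2
import Groth.Agent.Lib.R2H3SmPure
import Groth.Agent.Lib.Helper3SmDim
import Groth.Agent.Lib.Helper3GrpHomQF
import Groth.Agent.Lib.Helper6CartDim
import Groth.Agent.Lib.Helper8EffCart
import Groth.Agent.Lib.R2H1McSch
import Groth.Agent.Lib.R2H1SmoothCompl
import Groth.Agent.Lib.H9CDivUFD
import Groth.Agent.Lib.Helper22FTIdeal
import Groth.Agent.Lib.Helper22FTLimit
import Groth.Agent.S1662
import Groth.Agent.S8847
set_option backward.isDefEq.respectTransparency.types false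

/-!
# Relative effective Cartier divisors on smooth relative curves (S1184)

Field case (`q : Y ⟶ Spec k` smooth of relative dimension 1): `localDim_eq_one`, `isLocallyNoetherian`,
`discreteTopology_of_isEffCartier` (eff. Cartier divisor on a smooth curve is discrete),
`eq_of_specializes_of_discrete`, `mem_support_of_map_germ_eq_bot`,
`isEffCartier_of_discreteTopology` (discrete closed subscheme of a smooth curve is eff. Cartier, via DVR stalks).
Topology: `discreteTopology_iff_of_isEmbedding`, `isDiscrete_preimage_iff` (fibre of D -> S discrete iff the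
closed subscheme of the scheme-theoretic fibre cut out by the pulled back ideal is discrete).
`ft_of_forall_exists_ftOn`, `ft_of_isEffCartier`, `lfp_subschemeι_of_isEffCartier`.
Main: `smoothOfRelDim_fiber` (instance), `lqf_lfp_of_relEffCartier`, `relEffCartier_of_lqf`, `main` (S1184).
-/

set_option autoImplicit false
set_option linter.style.haveILetI false
set_option linter.unusedSectionVars false
universe u v

open CategoryTheory CategoryTheory.Limits AlgebraicGeometry TopologicalSpace Opposite

namespace Groth.Agent.Lib.R2H1.RelDivCurve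

section Part1

open CategoryTheory CategoryTheory.Limits AlgebraicGeometry TopologicalSpace Opposite

variable (k : Type u) [Field k] {Y : Scheme.{u}} (q : Y ⟶ Spec (CommRingCat.of k))
  [SmoothOfRelativeDimension 1 q]

include q in
theorem localDim_eq_one (y : Y) : FlatMor.localDim Y y = 1 := by
  haveI : Subsingleton ↥(Spec (CommRingCat.of k)) :=
    inferInstanceAs (Subsingleton (PrimeSpectrum k))
  rw [← Groth.Agent.Lib.R2H3.SmPure.fibreDimAt_eq_localDim q y]
  exact Groth.Agent.Lib.Helper3.SmDim.fibreDimAt_eq_of_smoothOfRelativeDimension 1 q y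

include q in
theorem isLocallyNoetherian : IsLocallyNoetherian Y := by
  haveI : Smooth q := SmoothOfRelativeDimension.smooth 1 q
  exact LocallyOfFiniteType.isLocallyNoetherian q

theorem le_zero_of_lt_one {x : WithBot ℕ∞} (h : x < 1) : x ≤ 0 := by
  induction x using WithBot.recBotCoe with
  | bot => exact bot_le
  | coe n =>
    have h' : n < 1 := by exact_mod_cast h
    rw [ENat.lt_one_iff_eq_zero] at h'
    rw [h']
    rfl

include q in
/-- on a smooth curve over a field, an effective Cartier divisor is discrete -/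
theorem discreteTopology_of_isEffCartier (J : Y.IdealSheafData) (hJ : BlowUp.IsEffCartierIdeal J) :
    DiscreteTopology J.subscheme := by
  haveI := isLocallyNoetherian k q
  haveI : IsLocallyNoetherian J.subscheme := LocallyOfFiniteType.isLocallyNoetherian J.subschemeι
  rw [discreteTopology_iff_isOpen_singleton]
  intro d
  rw [Groth.Agent.Lib.Helper3.GrpHomQF.isOpen_singleton_iff_localDim_le_zero]
  have h1 := Groth.Agent.Lib.Helper6.CartDim.localDim_lt_of_isEffCartier Y J hJ d (by
    rw [localDim_eq_one k q]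
    exact fun h => ENat.one_ne_top (WithBot.coe_injective h))
  rw [localDim_eq_one k q] at h1
  exact le_zero_of_lt_one h1

end Part1

section Part2

open CategoryTheory CategoryTheory.Limits AlgebraicGeometry TopologicalSpace Opposite


variable (k : Type u) [Field k] {Y : Scheme.{u}} (q : Y ⟶ Spec (CommRingCat.of k))
  [SmoothOfRelativeDimension 1 q]

/-- in a discrete closed subscheme, points have no proper generizations inside the support -/
theorem eq_of_specializes_of_discrete (J : Y.IdealSheafData) [DiscreteTopology J.subscheme]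
    {x y : Y} (hx : x ∈ J.support) (hy : y ∈ J.support) (h : y ⤳ x) : y = x := by
  rw [← SetLike.mem_coe, ← J.range_subschemeι] at hx hy
  obtain ⟨z, rfl⟩ := hx
  obtain ⟨z', rfl⟩ := hy
  have h' : z' ⤳ z := (J.subschemeι.isEmbedding.isInducing.specializes_iff).mp h
  rw [h'.eq]

/-- the stalk ideal vanishing forces all generizations into the support -/
theorem mem_support_of_map_germ_eq_bot (J : Y.IdealSheafData) {V : Y.Opens} (hV : IsAffineOpen V)
    {x y : Y} (hxV : x ∈ V) (h : y ⤳ x)
    (hK : (J.ideal ⟨V, hV⟩).map (Y.presheaf.germ V x hxV).hom = ⊥) : y ∈ J.support := by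
  have hyV : y ∈ V := h.mem_open V.2 hxV
  rw [Scheme.IdealSheafData.mem_support_iff_of_mem (U := ⟨V, hV⟩) hyV, Scheme.mem_zeroLocus_iff]
  intro a ha hya
  rw [Y.mem_basicOpen a y hyV] at hya
  have h0 : (Y.presheaf.germ V x hxV).hom a = 0 := by
    have : (Y.presheaf.germ V x hxV).hom a ∈
        (J.ideal ⟨V, hV⟩).map (Y.presheaf.germ V x hxV).hom := Ideal.mem_map_of_mem _ ha
    rw [hK] at this
    exact this
  have h1 : (Y.presheaf.germ V y hyV).hom a =
      (Y.presheaf.stalkSpecializes h).hom ((Y.presheaf.germ V x hxV).hom a) := by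
    rw [← TopCat.Presheaf.germ_stalkSpecializes Y.presheaf hxV h]
    rfl
  rw [h1, h0, map_zero] at hya
  exact not_isUnit_zero hya

include q in
/-- on a smooth curve over a field, a closed subscheme with discrete underlying space is an
effective Cartier divisor -/
theorem isEffCartier_of_discreteTopology (J : Y.IdealSheafData) [DiscreteTopology J.subscheme] :
    BlowUp.IsEffCartierIdeal J := by
  haveI := isLocallyNoetherian k q
  haveI : Smooth q := SmoothOfRelativeDimension.smooth 1 q
  intro x
  by_cases hx : x ∈ J.support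
  swap
  · exact Groth.Agent.Lib.Helper8.EffCart.exists_of_notMem_support J x hx
  -- x is a closed point
  have hcl : IsClosed ({x} : Set Y) := by
    have hx' := hx
    rw [← SetLike.mem_coe, ← J.range_subschemeι] at hx'
    obtain ⟨z, rfl⟩ := hx'
    have := J.subschemeι.isClosedEmbedding.isClosedMap _ (isClosed_singleton (x := z))
    rwa [Set.image_singleton] at this
  letI : Y.Over (Spec (CommRingCat.of k)) := ⟨q⟩
  haveI : SmoothOfRelativeDimension 1 (Y ↘ Spec (CommRingCat.of k)) := ‹_›
  have hequi := Groth.Agent.Lib.R2H3.SmPure.pure_of_smoothOfRelativeDimension k 1 Y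
  have hdim : ringKrullDim (Y.presheaf.stalk x) = 1 :=
    Groth.Agent.Lib.R2H1.McSch.ringKrullDim_stalk Y (fun Z hZ => by rw [hequi Z hZ]; rfl) x hcl
  obtain ⟨hdom, hic⟩ := Groth.Agent.Lib.R2H1.SmoothCompl.isNormalScheme_of_smooth k Y q x
  haveI := hdom
  haveI := hic
  haveI : IsDiscreteValuationRing (Y.presheaf.stalk x) :=
    Groth.Agent.Lib.H9CDivUFD.isDVR_of_dim_one hdim
  obtain ⟨_, ⟨V, hV, rfl⟩, hxV, -⟩ :=
    Y.isBasis_affineOpens.exists_subset_of_mem_open (Set.mem_univ x) isOpen_univ
  replace hV : IsAffineOpen V := hV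
  obtain ⟨t, ht⟩ := (IsPrincipalIdealRing.principal
    ((J.ideal ⟨V, hV⟩).map (Y.presheaf.germ V x hxV).hom)).principal
  have ht0 : t ≠ 0 := by
    rintro rfl
    have hK : (J.ideal ⟨V, hV⟩).map (Y.presheaf.germ V x hxV).hom = ⊥ := by
      rw [ht]
      exact Ideal.span_singleton_eq_bot.mpr rfl
    have hmax : Order.coheight x = 0 := by
      rw [Order.coheight_eq_zero]
      intro η hη
      have hη' : η ⤳ x := hη
      have := eq_of_specializes_of_discrete J hx
        (mem_support_of_map_germ_eq_bot J hV hxV hη' hK) hη'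
      rw [this]
    rw [ringKrullDim_stalk_eq_coheight, hmax] at hdim
    exact zero_ne_one hdim
  exact Groth.Agent.Lib.Helper8.EffCart.exists_of_stalk_principal J x hV hxV t
    (mem_nonZeroDivisors_of_ne_zero ht0) ht

end Part2

section Part3

open CategoryTheory CategoryTheory.Limits AlgebraicGeometry TopologicalSpace Opposite Topology

theorem discreteTopology_of_isEmbedding_of_range_subset {A B X : Type*} [TopologicalSpace A]
    [TopologicalSpace B] [TopologicalSpace X] (e₁ : A → X) (e₂ : B → X) (h₁ : IsEmbedding e₁)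
    (h₂ : IsEmbedding e₂) (hr : Set.range e₂ ⊆ Set.range e₁) [DiscreteTopology A] :
    DiscreteTopology B := by
  haveI : DiscreteTopology (Set.range e₁) := h₁.toHomeomorph.symm.isEmbedding.discreteTopology
  have h3 : IsEmbedding (Set.codRestrict e₂ (Set.range e₁) fun b => hr ⟨b, rfl⟩) :=
    h₂.codRestrict _ _
  exact h3.discreteTopology

theorem discreteTopology_iff_of_isEmbedding {A B X : Type*} [TopologicalSpace A]
    [TopologicalSpace B] [TopologicalSpace X] (e₁ : A → X) (e₂ : B → X) (h₁ : IsEmbedding e₁)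
    (h₂ : IsEmbedding e₂) (hr : Set.range e₁ = Set.range e₂) :
    DiscreteTopology A ↔ DiscreteTopology B :=
  ⟨fun _ => discreteTopology_of_isEmbedding_of_range_subset e₁ e₂ h₁ h₂ hr.ge,
    fun _ => discreteTopology_of_isEmbedding_of_range_subset e₂ e₁ h₂ h₁ hr.le⟩

variable {X S : Scheme.{u}} (f : X ⟶ S) (I : X.IdealSheafData) (s : S)

/-- the fibre of the closed subscheme is discrete iff the closed subscheme of the fibre is -/
theorem isDiscrete_preimage_iff :
    _root_.IsDiscrete ((I.subschemeι ≫ f) ⁻¹' {s}) ↔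
      DiscreteTopology (I.comap (f.fiberι s)).subscheme := by
  rw [isDiscrete_iff_discreteTopology]
  refine discreteTopology_iff_of_isEmbedding
    (fun z : ((I.subschemeι ≫ f) ⁻¹' {s} : Set I.subscheme) => I.subschemeι z.1)
    (fun z : (I.comap (f.fiberι s)).subscheme => f.fiberι s ((I.comap (f.fiberι s)).subschemeι z))
    (I.subschemeι.isEmbedding.comp IsEmbedding.subtypeVal)
    ((f.fiberι s).isEmbedding.comp (I.comap (f.fiberι s)).subschemeι.isEmbedding) ?_
  have e1 : Set.range (fun z : ((I.subschemeι ≫ f) ⁻¹' {s} : Set I.subscheme) => I.subschemeι z.1) =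
      (I.support : Set X) ∩ f ⁻¹' {s} := by
    ext x
    constructor
    · rintro ⟨⟨z, hz⟩, rfl⟩
      refine ⟨?_, hz⟩
      rw [← I.range_subschemeι]
      exact ⟨z, rfl⟩
    · rintro ⟨hx, hxs⟩
      rw [← I.range_subschemeι] at hx
      obtain ⟨z, rfl⟩ := hx
      exact ⟨⟨z, hxs⟩, rfl⟩
  have e2 : Set.range (fun z : (I.comap (f.fiberι s)).subscheme =>
      f.fiberι s ((I.comap (f.fiberι s)).subschemeι z)) = (I.support : Set X) ∩ f ⁻¹' {s} := by
    ext x
    constructor
    · rintro ⟨z, rfl⟩
      have h1 : (I.comap (f.fiberι s)).subschemeι z ∈ (I.comap (f.fiberι s)).support := by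
        rw [← SetLike.mem_coe, ← Scheme.IdealSheafData.range_subschemeι]
        exact ⟨z, rfl⟩
      rw [Scheme.IdealSheafData.support_comap] at h1
      refine ⟨h1, ?_⟩
      rw [← f.range_fiberι s]
      exact ⟨_, rfl⟩
    · rintro ⟨hx, hxs⟩
      rw [← f.range_fiberι s] at hxs
      obtain ⟨w, rfl⟩ := hxs
      have h1 : w ∈ (I.comap (f.fiberι s)).support := by
        rw [Scheme.IdealSheafData.support_comap]
        exact hx
      rw [← SetLike.mem_coe, ← Scheme.IdealSheafData.range_subschemeι] at h1
      obtain ⟨z, rfl⟩ := h1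
      exact ⟨z, rfl⟩
  rw [e1, e2]

end Part3

section Part4

open CategoryTheory CategoryTheory.Limits AlgebraicGeometry TopologicalSpace Opposite Topology
open Groth.Agent.Lib.Helper22.FTIdeal

variable {X : Scheme.{u}}

theorem ft_of_forall_exists_ftOn (J : X.IdealSheafData)
    (h : ∀ x : X, ∃ U : X.Opens, x ∈ U ∧ FTOn J U) : FT J := by
  intro W
  have key : ∀ x : W.1, ∃ r : Γ(X, W.1), x.1 ∈ X.basicOpen r ∧
      ∃ U : X.Opens, FTOn J U ∧ X.basicOpen r ≤ U := by
    intro ⟨x, hx⟩
    obtain ⟨U, hxU, hU⟩ := h x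
    obtain ⟨r, hr, hxr⟩ := W.2.exists_basicOpen_le (V := U) ⟨x, hxU⟩ hx
    exact ⟨r, hxr, U, hU, hr⟩
  choose r hxr U hU hr using key
  have hspan : Ideal.span (Set.range r) = ⊤ := by
    rw [← W.2.self_le_iSup_basicOpen_iff]
    exact fun x hxW ↦ Opens.mem_iSup.mpr ⟨⟨_, ⟨x, hxW⟩, rfl⟩, hxr ⟨x, hxW⟩⟩
  have inst := W.2.isLocalization_basicOpen
  refine fg_of_span_isLocalization _ _ hspan (fun g => Γ(X, X.basicOpen g.1)) ?_
  rintro ⟨_, x, rfl⟩
  have hle : X.affineBasicOpen (r x) ≤ W := X.affineBasicOpen_le (r x)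
  have hmap := J.map_ideal hle
  have : (J.ideal (X.affineBasicOpen (r x))).FG := hU x _ (hr x)
  rw [← hmap] at this
  exact this

theorem ft_of_isEffCartier (J : X.IdealSheafData) (hJ : BlowUp.IsEffCartierIdeal J) : FT J := by
  apply ft_of_forall_exists_ftOn
  intro x
  obtain ⟨U, hxU, a, -, ha⟩ := hJ x
  refine ⟨U.1, hxU, ftOn_of_fg U ?_⟩
  rw [ha]
  exact ⟨{a}, by simp⟩

theorem lfp_subschemeι_of_isEffCartier (J : X.IdealSheafData) (hJ : BlowUp.IsEffCartierIdeal J) :
    LocallyOfFinitePresentation J.subschemeι :=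
  Groth.Agent.Lib.Helper22.FTLimit.locallyOfFinitePresentation_subschemeι J
    (ft_of_isEffCartier J hJ)

end Part4

section Part5

open CategoryTheory CategoryTheory.Limits AlgebraicGeometry TopologicalSpace Opposite Topology


variable {X S : Scheme.{u}} (f : X ⟶ S) [SmoothOfRelativeDimension 1 f] (I : X.IdealSheafData)

instance smoothOfRelDim_fiber (s : S) :
    SmoothOfRelativeDimension 1 (f.fiberToSpecResidueField s) := by
  haveI := smoothOfRelativeDimension_isStableUnderBaseChange.{u} 1
  exact MorphismProperty.pullback_snd (P := @SmoothOfRelativeDimension 1) _ _ inferInstance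

theorem lqf_lfp_of_relEffCartier (hI : BlowUp.IsEffCartierIdeal I) (hfl : Flat (I.subschemeι ≫ f)) :
    LocallyQuasiFinite (I.subschemeι ≫ f) ∧ LocallyOfFinitePresentation (I.subschemeι ≫ f) := by
  haveI : Smooth f := SmoothOfRelativeDimension.smooth 1 f
  haveI := lfp_subschemeι_of_isEffCartier I hI
  have hlfp : LocallyOfFinitePresentation (I.subschemeι ≫ f) := inferInstance
  refine ⟨?_, hlfp⟩
  rw [locallyQuasiFinite_iff_isDiscrete_preimage_singleton]
  intro s
  rw [isDiscrete_preimage_iff]
  have hEC : BlowUp.IsEffCartierIdeal (I.comap (f.fiberι s)) :=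
    Groth.Agent.S1662.result f I hI (S.fromSpecResidueField s)
  exact discreteTopology_of_isEffCartier (S.residueField s) (f.fiberToSpecResidueField s) _ hEC

theorem relEffCartier_of_lqf (hq : LocallyQuasiFinite (I.subschemeι ≫ f))
    (hfl : Flat (I.subschemeι ≫ f)) (hlfp : LocallyOfFinitePresentation (I.subschemeι ≫ f)) :
    BlowUp.IsEffCartierIdeal I := by
  haveI : Smooth f := SmoothOfRelativeDimension.smooth 1 f
  apply Groth.Agent.S8847.result f I
  intro s
  haveI : DiscreteTopology (I.comap (f.fiberι s)).subscheme := by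
    rw [← isDiscrete_preimage_iff]
    exact (I.subschemeι ≫ f).isDiscrete_preimage_singleton s
  exact isEffCartier_of_discreteTopology (S.residueField s) (f.fiberToSpecResidueField s) _

theorem main :
    ((BlowUp.IsEffCartierIdeal I ∧ Flat (I.subschemeι ≫ f)) ↔
      (LocallyQuasiFinite (I.subschemeι ≫ f) ∧ Flat (I.subschemeι ≫ f) ∧
        LocallyOfFinitePresentation (I.subschemeι ≫ f))) ∧
    (Mor2.IsFinLocFree (I.subschemeι ≫ f) →
      BlowUp.IsEffCartierIdeal I ∧ Flat (I.subschemeι ≫ f)) := by
  refine ⟨⟨fun ⟨h1, h2⟩ => ?_, fun ⟨h1, h2, h3⟩ => ⟨relEffCartier_of_lqf f I h1 h2 h3, h2⟩⟩, ?_⟩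
  · obtain ⟨h3, h4⟩ := lqf_lfp_of_relEffCartier f I h1 h2
    exact ⟨h3, h2, h4⟩
  · rintro ⟨h1, h2, h3⟩
    haveI := h1
    exact ⟨relEffCartier_of_lqf f I inferInstance h2 h3, h2⟩

end Part5

end Groth.Agent.Lib.R2H1.RelDivCurve
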