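import Mathlib
import Groth.Agent.Lib.Helper6QcDescent
import Groth.Agent.Lib.R2H1FinDegree
import Groth.Agent.Lib.R2H1RelDivCurve
import Groth.Agent.Lib.H9ModPair5
import Groth.Agent.S1702
import Groth.Agent.S1710
set_option backward.isDefEq.respectTransparency.types false

/-!
# Sums and differences of relative effective Cartier divisors on smooth relative curves (S1171, S1172)

`isClosed_range_comp_diagonal`, `isSeparated_of_closed_cover` (a scheme covered by two closed subschemes separated over the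
base is separated over the base), `isFinite_of_closed_cover` (covered by two closed subschemes finite over the base + lft + lqf
=> finite, via Zariski main theorem), `mul_le_left'`, `mul_le_right'`, `range_inclusion_union`, `isFinite_mul`,
`s1171` (D₁ + D₂ finite locally free of degree d₁ + d₂), `mul_comm'`, `s1172` (difference of divisors).
-/

set_option autoImplicit false
set_option linter.style.haveILetI false
set_option linter.unusedSectionVars false
universe u v

open CategoryTheory CategoryTheory.Limits AlgebraicGeometry TopologicalSpace Opposite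

namespace Groth.Agent.Lib.R2H1.CurveDivSum

section Part1

open CategoryTheory CategoryTheory.Limits AlgebraicGeometry TopologicalSpace Opposite

theorem isClosed_range_comp_diagonal {D D₁ S : Scheme.{u}} (φ : D ⟶ S) (j : D₁ ⟶ D)
    [IsClosedImmersion j] [IsSeparated (j ≫ φ)] :
    IsClosed (Set.range (j ≫ pullback.diagonal φ)) := by
  have hmap : IsClosedImmersion (pullback.map (j ≫ φ) (j ≫ φ) φ φ j j (𝟙 S)
      ((Category.comp_id _).trans rfl) ((Category.comp_id _).trans rfl)) :=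
    MorphismProperty.pullbackMap (P := @IsClosedImmersion) (f := j ≫ φ) (g := j ≫ φ)
      (f' := φ) (g' := φ) (i₁ := j) (i₂ := j) inferInstance inferInstance rfl rfl
  have e : j ≫ pullback.diagonal φ = pullback.diagonal (j ≫ φ) ≫
      pullback.map (j ≫ φ) (j ≫ φ) φ φ j j (𝟙 S)
        ((Category.comp_id _).trans rfl) ((Category.comp_id _).trans rfl) := by
    apply pullback.hom_ext
    · rw [Category.assoc, Category.assoc, pullback.diagonal_fst, Category.comp_id,
        pullback.lift_fst, ← Category.assoc, pullback.diagonal_fst, Category.id_comp]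
    · rw [Category.assoc, Category.assoc, pullback.diagonal_snd, Category.comp_id,
        pullback.lift_snd, ← Category.assoc, pullback.diagonal_snd, Category.id_comp]
  rw [e]
  exact (pullback.diagonal (j ≫ φ) ≫ pullback.map (j ≫ φ) (j ≫ φ) φ φ j j (𝟙 S)
    ((Category.comp_id _).trans rfl) ((Category.comp_id _).trans rfl)).isClosedEmbedding.isClosed_range

theorem isSeparated_of_closed_cover {D D₁ D₂ S : Scheme.{u}} (φ : D ⟶ S) (j₁ : D₁ ⟶ D)
    (j₂ : D₂ ⟶ D) [IsClosedImmersion j₁] [IsClosedImmersion j₂] [IsSeparated (j₁ ≫ φ)]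
    [IsSeparated (j₂ ≫ φ)] (hcov : Set.range j₁ ∪ Set.range j₂ = Set.univ) : IsSeparated φ := by
  constructor
  apply IsClosedImmersion.of_isPreimmersion
  have h : Set.range (pullback.diagonal φ) =
      Set.range (j₁ ≫ pullback.diagonal φ) ∪ Set.range (j₂ ≫ pullback.diagonal φ) := by
    rw [Scheme.Hom.comp_base, Scheme.Hom.comp_base, TopCat.coe_comp, TopCat.coe_comp,
      Set.range_comp, Set.range_comp, ← Set.image_union, hcov, Set.image_univ]
  rw [h]
  exact (isClosed_range_comp_diagonal φ j₁).union (isClosed_range_comp_diagonal φ j₂)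

/-- a scheme covered by two closed subschemes finite over the base, locally quasi-finite and
locally of finite type over the base, is finite over the base -/
theorem isFinite_of_closed_cover {D D₁ D₂ S : Scheme.{u}} (φ : D ⟶ S) (j₁ : D₁ ⟶ D)
    (j₂ : D₂ ⟶ D) [IsClosedImmersion j₁] [IsClosedImmersion j₂] [IsFinite (j₁ ≫ φ)]
    [IsFinite (j₂ ≫ φ)] (hcov : Set.range j₁ ∪ Set.range j₂ = Set.univ)
    [LocallyOfFiniteType φ] [LocallyQuasiFinite φ] : IsFinite φ := by
  haveI := isSeparated_of_closed_cover φ j₁ j₂ hcov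
  haveI : Surjective (coprod.desc j₁ j₂) := by
    refine ⟨fun d => ?_⟩
    have hd : d ∈ Set.range j₁ ∪ Set.range j₂ := hcov ▸ Set.mem_univ d
    rcases hd with ⟨d₁, rfl⟩ | ⟨d₂, rfl⟩
    · refine ⟨(coprod.inl : D₁ ⟶ D₁ ⨿ D₂) d₁, ?_⟩
      rw [← Scheme.Hom.comp_apply, coprod.inl_desc]
    · refine ⟨(coprod.inr : D₂ ⟶ D₁ ⨿ D₂) d₂, ?_⟩
      rw [← Scheme.Hom.comp_apply, coprod.inr_desc]
  haveI : IsFinite (coprod.desc j₁ j₂ ≫ φ) := by
    rw [coprod.desc_comp]
    infer_instance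
  haveI : UniversallyClosed φ := UniversallyClosed.of_comp_surjective (coprod.desc j₁ j₂) φ
  haveI : QuasiCompact φ :=
    Groth.Agent.Lib.Helper6.quasiCompact_of_comp_of_surjective (coprod.desc j₁ j₂) φ
  haveI : IsProper φ := {}
  exact IsFinite.of_isProper_of_locallyQuasiFinite φ

end Part1

section Part2

open CategoryTheory CategoryTheory.Limits AlgebraicGeometry TopologicalSpace Opposite
open Groth.Agent.Lib.R2H1.FinDegree

variable {X S : Scheme.{u}} (f : X ⟶ S)

theorem mul_le_left' (I₁ I₂ : X.IdealSheafData) : I₁ * I₂ ≤ I₁ := fun U =>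
  (Ideal.mul_le_left : I₁.ideal U * I₂.ideal U ≤ I₁.ideal U)

theorem mul_le_right' (I₁ I₂ : X.IdealSheafData) : I₁ * I₂ ≤ I₂ := fun U =>
  (Ideal.mul_le_right : I₁.ideal U * I₂.ideal U ≤ I₂.ideal U)

theorem range_inclusion_union (I₁ I₂ : X.IdealSheafData) :
    Set.range (Scheme.IdealSheafData.inclusion (mul_le_left' I₁ I₂)) ∪
      Set.range (Scheme.IdealSheafData.inclusion (mul_le_right' I₁ I₂)) = Set.univ := by
  rw [Set.eq_univ_iff_forall]
  intro d
  have hd : (I₁ * I₂).subschemeι d ∈ (I₁ * I₂).support := by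
    rw [← SetLike.mem_coe, ← Scheme.IdealSheafData.range_subschemeι]
    exact ⟨d, rfl⟩
  rw [Scheme.IdealSheafData.support_mul] at hd
  rcases hd with hd | hd
  · left
    rw [← I₁.range_subschemeι] at hd
    obtain ⟨d₁, hd₁⟩ := hd
    refine ⟨d₁, (I₁ * I₂).subschemeι.isEmbedding.injective ?_⟩
    rw [← hd₁, ← Scheme.Hom.comp_apply, Scheme.IdealSheafData.inclusion_subschemeι]
  · right
    rw [← I₂.range_subschemeι] at hd
    obtain ⟨d₂, hd₂⟩ := hd
    refine ⟨d₂, (I₁ * I₂).subschemeι.isEmbedding.injective ?_⟩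
    rw [← hd₂, ← Scheme.Hom.comp_apply, Scheme.IdealSheafData.inclusion_subschemeι]

/-- the sum of two closed subschemes finite over the base is finite over the base as soon as it
is locally quasi-finite and locally of finite type -/
theorem isFinite_mul (I₁ I₂ : X.IdealSheafData) [IsFinite (I₁.subschemeι ≫ f)]
    [IsFinite (I₂.subschemeι ≫ f)] [LocallyOfFiniteType ((I₁ * I₂).subschemeι ≫ f)]
    [LocallyQuasiFinite ((I₁ * I₂).subschemeι ≫ f)] : IsFinite ((I₁ * I₂).subschemeι ≫ f) := by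
  haveI : IsFinite (Scheme.IdealSheafData.inclusion (mul_le_left' I₁ I₂) ≫
      (I₁ * I₂).subschemeι ≫ f) := by
    rw [← Category.assoc, Scheme.IdealSheafData.inclusion_subschemeι]
    infer_instance
  haveI : IsFinite (Scheme.IdealSheafData.inclusion (mul_le_right' I₁ I₂) ≫
      (I₁ * I₂).subschemeι ≫ f) := by
    rw [← Category.assoc, Scheme.IdealSheafData.inclusion_subschemeι]
    infer_instance
  exact isFinite_of_closed_cover ((I₁ * I₂).subschemeι ≫ f) _ _ (range_inclusion_union I₁ I₂)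

theorem s1171 [SmoothOfRelativeDimension 1 f]
    (I₁ I₂ : X.IdealSheafData) (d₁ d₂ : ℕ) (h₁ : Mor2.IsFinLocFreeOfDeg d₁ (I₁.subschemeι ≫ f))
    (h₂ : Mor2.IsFinLocFreeOfDeg d₂ (I₂.subschemeι ≫ f)) :
    Mor2.IsFinLocFreeOfDeg (d₁ + d₂) ((I₁ * I₂).subschemeι ≫ f) := by
  obtain ⟨⟨hf1, hfl1, hlfp1⟩, hd1⟩ := h₁
  obtain ⟨⟨hf2, hfl2, hlfp2⟩, hd2⟩ := h₂
  have hc1 := (Groth.Agent.Lib.R2H1.RelDivCurve.main f I₁).2 ⟨hf1, hfl1, hlfp1⟩
  have hc2 := (Groth.Agent.Lib.R2H1.RelDivCurve.main f I₂).2 ⟨hf2, hfl2, hlfp2⟩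
  have h12 := Groth.Agent.S1702.result f I₁ I₂ hc1 hc2
  obtain ⟨hlqf, hfl, hlfp⟩ := (Groth.Agent.Lib.R2H1.RelDivCurve.main f (I₁ * I₂)).1.mp h12
  haveI := hf1
  haveI := hf2
  haveI := hfl1
  haveI := hfl2
  haveI := hfl
  haveI := hlfp
  haveI := hlqf
  haveI hfin : IsFinite ((I₁ * I₂).subschemeι ≫ f) := isFinite_mul f I₁ I₂
  refine ⟨⟨hfin, hfl, hlfp⟩, fun y => ?_⟩
  rw [finrank_mul f I₁ I₂ hc1.1 hc2.1 y, hd1 y, hd2 y]

end Part2

section Part3

open CategoryTheory CategoryTheory.Limits AlgebraicGeometry TopologicalSpace Opposite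
open Groth.Agent.Lib.R2H1.FinDegree

variable {X S : Scheme.{u}} (f : X ⟶ S)

theorem mul_comm' (I J : X.IdealSheafData) : I * J = J * I := by
  ext U : 2
  exact mul_comm _ _

theorem s1172 [SmoothOfRelativeDimension 1 f]
    (I₁ I₂ : X.IdealSheafData) (hle : I₂ ≤ I₁) (d₁ d₂ : ℕ)
    (h₁ : Mor2.IsFinLocFreeOfDeg d₁ (I₁.subschemeι ≫ f))
    (h₂ : Mor2.IsFinLocFreeOfDeg d₂ (I₂.subschemeι ≫ f)) :
    ∃ I : X.IdealSheafData, Mor2.IsFinLocFreeOfDeg (d₂ - d₁) (I.subschemeι ≫ f) ∧
      I₂ = I₁ * I := by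
  obtain ⟨⟨hf1, hfl1, hlfp1⟩, hd1⟩ := h₁
  have hc1 := (Groth.Agent.Lib.R2H1.RelDivCurve.main f I₁).2 ⟨hf1, hfl1, hlfp1⟩
  have hc2 := (Groth.Agent.Lib.R2H1.RelDivCurve.main f I₂).2 h₂.1
  obtain ⟨I, e, hI⟩ : ∃ I : X.IdealSheafData, I₁ * I = I₂ ∧ BlowUp.IsEffCartierIdeal I := by
    have e := Groth.Agent.Lib.H9ModPair5.colonIdeal_mul hc1.1 hle
    exact ⟨_, (mul_comm' _ _).trans e,
      Groth.Agent.Lib.H9ModPair2.isEffCartierIdeal_of_mul_eq hc1.1 hc2.1 e⟩
  subst e
  obtain ⟨⟨hf2, hfl2, hlfp2⟩, hd2⟩ := h₂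
  have hflat : Flat (I.subschemeι ≫ f) := Groth.Agent.S1710.result f I₁ (I₁ * I) I hc1 hc2 hI rfl
  obtain ⟨hlqf, -, hlfp⟩ := (Groth.Agent.Lib.R2H1.RelDivCurve.main f I).1.mp ⟨hI, hflat⟩
  haveI := hf1
  haveI := hf2
  haveI := hfl1
  haveI := hfl2
  haveI := hflat
  haveI hfin : IsFinite (I.subschemeι ≫ f) := by
    rw [← Scheme.IdealSheafData.inclusion_subschemeι (mul_le_right' I₁ I), Category.assoc]
    infer_instance
  refine ⟨I, ⟨⟨hfin, hflat, hlfp⟩, fun y => ?_⟩, rfl⟩
  have := finrank_mul f I₁ I hc1.1 hI y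
  rw [hd1 y, hd2 y] at this
  omega

end Part3

end Groth.Agent.Lib.R2H1.CurveDivSum
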