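/-
Determinant of a finite length module over a local ring (Stacks 42.68), part 1 (helper1, R2): flags spanBefore, the entering index/unit Cond, the reduction map PsiBar : DetOfLen R M (l+1) -> DetOfLen R (M/Rx) l killing the admissible relations, and main_1839: the symbol of a generating admissible tuple is nonzero (S1839).
-/
import Mathlib
import Groth.Prelude.Def_CycDet

set_option autoImplicit false
set_option linter.style.haveILetI false
set_option linter.unusedSectionVars false
universe u v w

namespace Groth.Agent.Lib.R2H1.CycDetLib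

section Part1

open IsLocalRing CycDet

variable {R : Type u} [CommRing R] [IsLocalRing R]

section basic
variable {M : Type v} [AddCommGroup M] [Module R M] {N : Type w} [AddCommGroup N] [Module R N]

theorem spanBefore_mono {l : ℕ} (e : Fin l → M) {i j : ℕ} (h : i ≤ j) :
    spanBefore R M e i ≤ spanBefore R M e j :=
  Submodule.span_mono (Set.image_mono (fun k (hk : (k : ℕ) < i) => lt_of_lt_of_le hk h))

theorem mem_spanBefore {l : ℕ} (e : Fin l → M) (k : Fin l) {n : ℕ} (h : (k : ℕ) < n) :
    e k ∈ spanBefore R M e n :=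
  Submodule.subset_span ⟨k, h, rfl⟩

theorem spanBefore_le_iff {l : ℕ} (e : Fin l → M) (n : ℕ) (T : Submodule R M) :
    spanBefore R M e n ≤ T ↔ ∀ k : Fin l, (k : ℕ) < n → e k ∈ T := by
  rw [spanBefore, Submodule.span_le]
  constructor
  · intro h k hk
    exact h ⟨k, hk, rfl⟩
  · rintro h _ ⟨k, hk, rfl⟩
    exact h k hk

theorem spanBefore_map {l : ℕ} (π : M →ₗ[R] N) (e : Fin l → M) (n : ℕ) :
    (spanBefore R M e n).map π = spanBefore R N (π ∘ e) n := by
  rw [spanBefore, spanBefore, Submodule.map_span, Set.image_comp]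

theorem spanBefore_zero {l : ℕ} (e : Fin l → M) : spanBefore R M e 0 = ⊥ := by
  rw [eq_bot_iff, spanBefore_le_iff]
  intro k hk
  exact absurd hk (Nat.not_lt_zero _)

theorem spanBefore_succ {l : ℕ} (e : Fin l → M) (i : Fin l) :
    spanBefore R M e ((i : ℕ) + 1) = spanBefore R M e i ⊔ Submodule.span R {e i} := by
  apply le_antisymm
  · rw [spanBefore_le_iff]
    intro k hk
    rcases Nat.lt_succ_iff_lt_or_eq.mp hk with h | h
    · exact Submodule.mem_sup_left (mem_spanBefore e k h)
    · have hki : k = i := Fin.ext h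
      subst hki
      exact Submodule.mem_sup_right (Submodule.mem_span_singleton_self _)
  · refine sup_le (spanBefore_mono e (Nat.le_succ _)) ?_
    rw [Submodule.span_singleton_le_iff_mem]
    exact mem_spanBefore e i (Nat.lt_succ_self _)

theorem spanBefore_eq_range {l : ℕ} (e : Fin l → M) {n : ℕ} (h : l ≤ n) :
    spanBefore R M e n = Submodule.span R (Set.range e) := by
  apply le_antisymm
  · rw [spanBefore_le_iff]
    intro k _
    exact Submodule.subset_span ⟨k, rfl⟩
  · rw [Submodule.span_le]
    rintro _ ⟨k, rfl⟩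
    exact mem_spanBefore e k (lt_of_lt_of_le k.2 h)

theorem spanBefore_le_range {l : ℕ} (e : Fin l → M) (n : ℕ) :
    spanBefore R M e n ≤ Submodule.span R (Set.range e) := by
  rw [spanBefore_le_iff]
  intro k _
  exact Submodule.subset_span ⟨k, rfl⟩

/-- the coefficient of `e i` is a unit -/
theorem exists_unit_of_mem_succ {l : ℕ} (e : Fin l → M) (he : IsAdmissible R M e) (i : Fin l)
    (x : M) (hx : x ∈ spanBefore R M e ((i : ℕ) + 1)) (hx' : x ∉ spanBefore R M e i) :
    ∃ u : Rˣ, x - (u : R) • e i ∈ spanBefore R M e i := by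
  rw [spanBefore_succ, Submodule.mem_sup] at hx
  obtain ⟨s, hs, t, ht, rfl⟩ := hx
  obtain ⟨r, rfl⟩ := Submodule.mem_span_singleton.mp ht
  by_cases hr : IsUnit r
  · obtain ⟨u, rfl⟩ := hr
    refine ⟨u, ?_⟩
    simpa using hs
  · exfalso
    apply hx'
    exact Submodule.add_mem _ hs (he i r ((mem_maximalIdeal r).mpr hr))

theorem exists_index {l : ℕ} (e : Fin l → M) (x : M)
    (hx : x ∈ Submodule.span R (Set.range e)) (hx0 : x ≠ 0) :
    ∃ i : Fin l, x ∈ spanBefore R M e ((i : ℕ) + 1) ∧ x ∉ spanBefore R M e i := by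
  classical
  have hex : ∃ n, x ∈ spanBefore R M e n := ⟨l, by rw [spanBefore_eq_range e le_rfl]; exact hx⟩
  have hmin : ∀ m, m < Nat.find hex → ¬ x ∈ spanBefore R M e m := fun m hm => Nat.find_min hex hm
  have hspec := Nat.find_spec hex
  have hle : Nat.find hex ≤ l := Nat.find_min' hex (by rw [spanBefore_eq_range e le_rfl]; exact hx)
  have hpos : Nat.find hex ≠ 0 := by
    intro h0
    rw [h0, spanBefore_zero] at hspec
    exact hx0 ((Submodule.mem_bot R).mp hspec)
  obtain ⟨m, hm⟩ := Nat.exists_eq_succ_of_ne_zero hpos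
  refine ⟨⟨m, by omega⟩, ?_, ?_⟩
  · have : ((⟨m, by omega⟩ : Fin l) : ℕ) + 1 = Nat.find hex := by simp [hm]
    rw [this]
    exact hspec
  · exact hmin m (by omega)

/-- The condition that `x` enters the flag of `e` at position `i` with coefficient `u`. -/
def Cond {l : ℕ} (e : Fin l → M) (x : M) (i : Fin l) (u : Rˣ) : Prop :=
  x - (u : R) • e i ∈ spanBefore R M e i ∧ x ∉ spanBefore R M e i

theorem Cond.mem_succ {l : ℕ} {e : Fin l → M} {x : M} {i : Fin l} {u : Rˣ} (h : Cond e x i u) :
    x ∈ spanBefore R M e ((i : ℕ) + 1) := by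
  have h1 : x = (x - (u : R) • e i) + (u : R) • e i := by abel
  rw [h1]
  exact Submodule.add_mem _ (spanBefore_mono e (Nat.le_succ _) h.1)
    (Submodule.smul_mem _ _ (mem_spanBefore e i (Nat.lt_succ_self _)))

theorem Cond.mem_range {l : ℕ} {e : Fin l → M} {x : M} {i : Fin l} {u : Rˣ} (h : Cond e x i u) :
    x ∈ Submodule.span R (Set.range e) :=
  spanBefore_le_range e _ h.mem_succ

theorem Cond.ne_zero {l : ℕ} {e : Fin l → M} {x : M} {i : Fin l} {u : Rˣ} (h : Cond e x i u) :
    x ≠ 0 := by
  rintro rfl
  exact h.2 (Submodule.zero_mem _)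

theorem Cond.notMem {l : ℕ} {e : Fin l → M} {x : M} {i : Fin l} {u : Rˣ} (h : Cond e x i u) :
    e i ∉ spanBefore R M e i := by
  intro hmem
  apply h.2
  have h1 : x = (x - (u : R) • e i) + (u : R) • e i := by abel
  rw [h1]
  exact Submodule.add_mem _ h.1 (Submodule.smul_mem _ _ hmem)

theorem exists_cond {l : ℕ} (e : Fin l → M) (he : IsAdmissible R M e) (x : M)
    (hx : x ∈ Submodule.span R (Set.range e)) (hx0 : x ≠ 0) : ∃ (i : Fin l) (u : Rˣ), Cond e x i u := by
  obtain ⟨i, h1, h2⟩ := exists_index e x hx hx0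
  obtain ⟨u, hu⟩ := exists_unit_of_mem_succ e he i x h1 h2
  exact ⟨i, u, hu, h2⟩

theorem exists_cond_iff {l : ℕ} (e : Fin l → M) (he : IsAdmissible R M e) (x : M) :
    (∃ (i : Fin l) (u : Rˣ), Cond e x i u) ↔ (x ∈ Submodule.span R (Set.range e) ∧ x ≠ 0) :=
  ⟨fun ⟨_, _, h⟩ => ⟨h.mem_range, h.ne_zero⟩, fun ⟨h1, h2⟩ => exists_cond e he x h1 h2⟩

theorem Cond.unique {l : ℕ} {e : Fin l → M} {x : M} {i i' : Fin l} {u u' : Rˣ}
    (h : Cond e x i u) (h' : Cond e x i' u') :
    i = i' ∧ residue R (u : R) = residue R (u' : R) := by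
  have hii : i = i' := by
    rcases lt_trichotomy i i' with hlt | heq | hgt
    · exfalso
      exact h'.2 (spanBefore_mono e (Nat.succ_le_of_lt (Fin.lt_def.mp hlt)) h.mem_succ)
    · exact heq
    · exfalso
      exact h.2 (spanBefore_mono e (Nat.succ_le_of_lt (Fin.lt_def.mp hgt)) h'.mem_succ)
  subst hii
  refine ⟨rfl, ?_⟩
  have hsub : ((u : R) - (u' : R)) • e i ∈ spanBefore R M e i := by
    have : ((u : R) - (u' : R)) • e i = (x - (u' : R) • e i) - (x - (u : R) • e i) := by
      rw [sub_smul]; abel
    rw [this]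
    exact Submodule.sub_mem _ h'.1 h.1
  have hnu : ¬ IsUnit ((u : R) - (u' : R)) := by
    intro hu
    exact h.notMem ((Submodule.smul_mem_iff_of_isUnit _ hu).mp hsub)
  have hmem : (u : R) - (u' : R) ∈ maximalIdeal R := (mem_maximalIdeal _).mpr hnu
  have := (residue_eq_zero_iff _).mpr hmem
  rw [map_sub, sub_eq_zero] at this
  exact this

/-- Two tuples related by relation (b) have the same flags. -/
theorem spanBefore_eq_of_relB {l : ℕ} (e e' : Fin l → M) (a : Fin l) (c : Rˣ)
    (h1 : ∀ j, j ≠ a → e j = e' j)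
    (h2 : e a - (c : R) • e' a ∈ spanBefore R M e a) (n : ℕ) :
    spanBefore R M e n = spanBefore R M e' n := by
  have hlow : ∀ m : ℕ, m ≤ a → spanBefore R M e m = spanBefore R M e' m := by
    intro m hm
    apply le_antisymm
    · rw [spanBefore_le_iff]
      intro k hk
      rw [h1 k (fun h => by subst h; omega)]
      exact mem_spanBefore e' k hk
    · rw [spanBefore_le_iff]
      intro k hk
      rw [← h1 k (fun h => by subst h; omega)]
      exact mem_spanBefore e k hk
  by_cases hn : n ≤ a
  · exact hlow n hn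
  · push_neg at hn
    apply le_antisymm
    · rw [spanBefore_le_iff]
      intro k hk
      by_cases hka : k = a
      · subst hka
        have h3 : e k = (e k - (c : R) • e' k) + (c : R) • e' k := by abel
        rw [h3]
        refine Submodule.add_mem _ ?_ (Submodule.smul_mem _ _ (mem_spanBefore e' k hk))
        have := hlow k le_rfl
        rw [this] at h2
        exact spanBefore_mono e' hn.le h2
      · rw [h1 k hka]
        exact mem_spanBefore e' k hk
    · rw [spanBefore_le_iff]
      intro k hk
      by_cases hka : k = a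
      · subst hka
        have h3 : e' k = ((c⁻¹ : Rˣ) : R) • (e k - (e k - (c : R) • e' k)) := by
          rw [sub_sub_cancel, smul_smul, Units.inv_mul, one_smul]
        rw [h3]
        refine Submodule.smul_mem _ _ (Submodule.sub_mem _ (mem_spanBefore e k hk) ?_)
        exact spanBefore_mono e hn.le h2
      · rw [← h1 k hka]
        exact mem_spanBefore e k hk

/-- Reindexing by a permutation preserving the initial segment `{k < n}` does not change the
`n`-th flag. -/
theorem spanBefore_comp_perm {l : ℕ} (e : Fin l → M) (σ : Equiv.Perm (Fin l)) (n : ℕ)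
    (hσ : ∀ k : Fin l, (k : ℕ) < n → ((σ k : Fin l) : ℕ) < n)
    (hσ' : ∀ k : Fin l, (k : ℕ) < n → ((σ.symm k : Fin l) : ℕ) < n) :
    spanBefore R M (e ∘ σ) n = spanBefore R M e n := by
  apply le_antisymm
  · rw [spanBefore_le_iff]
    intro k hk
    exact mem_spanBefore e (σ k) (hσ k hk)
  · rw [spanBefore_le_iff]
    intro k hk
    have : e k = (e ∘ σ) (σ.symm k) := by simp
    rw [this]
    exact mem_spanBefore (e ∘ σ) (σ.symm k) (hσ' k hk)

theorem spanBefore_comp_swap {l : ℕ} (e : Fin l → M) (a b : Fin l) (n : ℕ)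
    (h : ((a : ℕ) < n ∧ (b : ℕ) < n) ∨ (n ≤ (a : ℕ) ∧ n ≤ (b : ℕ))) :
    spanBefore R M (e ∘ Equiv.swap a b) n = spanBefore R M e n := by
  have key : ∀ k : Fin l, (k : ℕ) < n → ((Equiv.swap a b k : Fin l) : ℕ) < n := by
    intro k hk
    rw [Equiv.swap_apply_def]
    split_ifs with h1 h2
    · subst h1
      rcases h with h | h
      · exact h.2
      · omega
    · subst h2
      rcases h with h | h
      · exact h.1
      · omega
    · exact hk
  apply spanBefore_comp_perm e (Equiv.swap a b) n key
  intro k hk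
  rw [Equiv.symm_swap]
  exact key k hk

end basic

end Part1

section Part2

open IsLocalRing CycDet

variable {R : Type u} [CommRing R] [IsLocalRing R]

section removal
variable {N : Type w} [AddCommGroup N] [Module R N]

theorem succAbove_val {n : ℕ} (p : Fin (n + 1)) (j : Fin n) :
    ((p.succAbove j : Fin (n + 1)) : ℕ) = if (j : ℕ) < p then (j : ℕ) else (j : ℕ) + 1 := by
  unfold Fin.succAbove
  split_ifs with h1 h2 h2
  · simp
  · exfalso; exact h2 (by simpa [Fin.lt_def] using h1)
  · exfalso; exact h1 (by simpa [Fin.lt_def] using h2)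
  · simp

/-- removing an entry that lies in the span of the earlier ones does not change the flags -/
theorem spanBefore_succAbove' {l : ℕ} (g : Fin (l + 1) → N) (i : Fin (l + 1))
    (hi : g i ∈ spanBefore R N g i) (n m : ℕ)
    (hnm : ∀ k : Fin l, (k : ℕ) < n ↔ ((i.succAbove k : Fin (l + 1)) : ℕ) < m) :
    spanBefore R N (g ∘ i.succAbove) n = spanBefore R N g m := by
  have key : ∀ k : Fin (l + 1), k ≠ i → (k : ℕ) < m → g k ∈ spanBefore R N (g ∘ i.succAbove) n := by
    intro k hk hkm
    obtain ⟨k'', rfl⟩ := Fin.exists_succAbove_eq hk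
    exact mem_spanBefore (g ∘ i.succAbove) k'' ((hnm k'').mpr hkm)
  apply le_antisymm
  · rw [spanBefore_le_iff]
    intro k hk
    exact mem_spanBefore g (i.succAbove k) ((hnm k).mp hk)
  · rw [spanBefore_le_iff]
    intro k hk
    by_cases hki : k = i
    · subst hki
      have hle : spanBefore R N g k ≤ spanBefore R N (g ∘ k.succAbove) n := by
        rw [spanBefore_le_iff]
        intro k' hk'
        exact key k' (fun h => by subst h; omega) (lt_trans hk' hk)
      exact hle hi
    · exact key k hki hk

theorem spanBefore_succAbove {l : ℕ} (g : Fin (l + 1) → N) (i : Fin (l + 1))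
    (hi : g i ∈ spanBefore R N g i) (j : Fin l) :
    spanBefore R N (g ∘ i.succAbove) j = spanBefore R N g (i.succAbove j) := by
  apply spanBefore_succAbove' g i hi
  intro k
  rw [← Fin.lt_def, ← Fin.lt_def]
  exact ((Fin.strictMono_succAbove i).lt_iff_lt).symm

theorem span_range_succAbove {l : ℕ} (g : Fin (l + 1) → N) (i : Fin (l + 1))
    (hi : g i ∈ spanBefore R N g i) :
    Submodule.span R (Set.range (g ∘ i.succAbove)) = Submodule.span R (Set.range g) := by
  rw [← spanBefore_eq_range (g ∘ i.succAbove) (le_refl l), ← spanBefore_eq_range g (le_refl (l + 1))]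
  apply spanBefore_succAbove' g i hi
  intro k
  constructor
  · intro _; exact (i.succAbove k).2
  · intro _; exact k.2

/-- consecutive indices different from `i` have consecutive preimages under `succAbove` -/
theorem exists_preimages_consecutive {l : ℕ} (i a b : Fin (l + 1)) (hab : (b : ℕ) + 1 = a)
    (hia : a ≠ i) (hib : b ≠ i) :
    ∃ a' b' : Fin l, i.succAbove a' = a ∧ i.succAbove b' = b ∧ (b' : ℕ) + 1 = a' := by
  obtain ⟨a', ha'⟩ := Fin.exists_succAbove_eq hia
  obtain ⟨b', hb'⟩ := Fin.exists_succAbove_eq hib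
  refine ⟨a', b', ha', hb', ?_⟩
  have h1 := succAbove_val i a'
  have h2 := succAbove_val i b'
  rw [ha'] at h1
  rw [hb'] at h2
  have hia' : (a : ℕ) ≠ i := fun h => hia (Fin.ext h)
  have hib' : (b : ℕ) ≠ i := fun h => hib (Fin.ext h)
  split_ifs at h1 h2 <;> omega

theorem succAbove_swap {n : ℕ} (a b : Fin (n + 1)) (hab : (b : ℕ) + 1 = a) (j : Fin n) :
    b.succAbove j = Equiv.swap a b (a.succAbove j) := by
  have h1 := succAbove_val a j
  have h2 := succAbove_val b j
  rw [Equiv.swap_apply_def]
  split_ifs with h3 h4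
  · exact absurd h3 (Fin.succAbove_ne a j)
  · apply Fin.ext
    rw [h4] at h1
    rw [h2]
    split_ifs at h1 ⊢ <;> omega
  · apply Fin.ext
    have h3' : ((a.succAbove j : Fin (n + 1)) : ℕ) ≠ a := fun h => h3 (Fin.ext h)
    have h4' : ((a.succAbove j : Fin (n + 1)) : ℕ) ≠ b := fun h => h4 (Fin.ext h)
    rw [h1] at h3' h4'
    rw [h1, h2]
    split_ifs at h3' h4' ⊢ <;> omega

end removal

section quot
variable {M : Type v} [AddCommGroup M] [Module R M] (x : M)

/-- the quotient of `M` by the line spanned by `x` -/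
abbrev Q : Type v := M ⧸ Submodule.span R {x}

/-- the projection -/
abbrev pr : M →ₗ[R] Q (R := R) x := (Submodule.span R {x}).mkQ

theorem pr_self : pr (R := R) x x = 0 := by
  rw [Submodule.mkQ_apply, Submodule.Quotient.mk_eq_zero]
  exact Submodule.mem_span_singleton_self x

theorem pr_mem_of_cond {l : ℕ} (e : Fin l → M) (i : Fin l) (u : Rˣ) (h : Cond e x i u) :
    pr (R := R) x (e i) ∈ spanBefore R (Q (R := R) x) (pr (R := R) x ∘ e) i := by
  have h1 : pr (R := R) x (x - (u : R) • e i) ∈ (spanBefore R M e i).map (pr (R := R) x) :=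
    Submodule.mem_map_of_mem h.1
  rw [spanBefore_map, map_sub, pr_self, zero_sub, map_smul] at h1
  have h2 := Submodule.neg_mem _ h1
  rw [neg_neg] at h2
  exact (Submodule.smul_mem_iff_of_isUnit _ u.isUnit).mp h2

theorem isAdmissible_removal {l : ℕ} (e : Fin (l + 1) → M) (he : IsAdmissible R M e)
    (i : Fin (l + 1))
    (hi : pr (R := R) x (e i) ∈ spanBefore R (Q (R := R) x) (pr (R := R) x ∘ e) i) :
    IsAdmissible R (Q (R := R) x) (pr (R := R) x ∘ e ∘ i.succAbove) := by
  intro j r hr
  have h1 := he (i.succAbove j) r hr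
  have h2 : pr (R := R) x (r • e (i.succAbove j)) ∈
      (spanBefore R M e (i.succAbove j)).map (pr (R := R) x) := Submodule.mem_map_of_mem h1
  rw [spanBefore_map, map_smul] at h2
  have h3 := spanBefore_succAbove (pr (R := R) x ∘ e) i hi j
  change r • (pr (R := R) x (e (i.succAbove j))) ∈
    spanBefore R (Q (R := R) x) ((pr (R := R) x ∘ e) ∘ i.succAbove) j
  rw [h3]
  exact h2

/-- the admissible tuple in the quotient obtained by deleting position `i` -/
noncomputable def remAdm {l : ℕ} (e : Adm R M (l + 1)) (i : Fin (l + 1))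
    (hi : pr (R := R) x (e.1 i) ∈ spanBefore R (Q (R := R) x) (pr (R := R) x ∘ e.1) i) :
    Adm R (Q (R := R) x) l :=
  ⟨pr (R := R) x ∘ e.1 ∘ i.succAbove, isAdmissible_removal x e.1 e.2 i hi⟩

noncomputable def psiVal {l : ℕ} (e : Adm R M (l + 1)) (i : Fin (l + 1)) (u : Rˣ)
    (hc : Cond e.1 x i u) : DetOfLen R (Q (R := R) x) l :=
  ((-1 : ResidueField R) ^ (i : ℕ) * (residue R (u : R))⁻¹) •
    Submodule.Quotient.mk (sym R (Q (R := R) x) (remAdm x e i (pr_mem_of_cond x e.1 i u hc)))

theorem psiVal_congr {l : ℕ} (e : Adm R M (l + 1)) (i i' : Fin (l + 1)) (u u' : Rˣ)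
    (hc : Cond e.1 x i u) (hc' : Cond e.1 x i' u') : psiVal x e i u hc = psiVal x e i' u' hc' := by
  obtain ⟨hii, huu⟩ := hc.unique hc'
  subst hii
  unfold psiVal
  rw [huu]

open Classical in
noncomputable def psi {l : ℕ} (e : Adm R M (l + 1)) : DetOfLen R (Q (R := R) x) l :=
  if h : ∃ (i : Fin (l + 1)) (u : Rˣ), Cond e.1 x i u then
    psiVal x e h.choose h.choose_spec.choose h.choose_spec.choose_spec
  else 0

theorem psi_eq {l : ℕ} (e : Adm R M (l + 1)) (i : Fin (l + 1)) (u : Rˣ) (hc : Cond e.1 x i u) :
    psi x e = psiVal x e i u hc := by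
  have h : ∃ (i : Fin (l + 1)) (u : Rˣ), Cond e.1 x i u := ⟨i, u, hc⟩
  rw [psi, dif_pos h]
  exact psiVal_congr x e _ _ _ _ _ hc

theorem psi_eq_zero {l : ℕ} (e : Adm R M (l + 1))
    (h : ¬ ∃ (i : Fin (l + 1)) (u : Rˣ), Cond e.1 x i u) : psi x e = 0 := by
  rw [psi, dif_neg h]

theorem mk_sym_eq_zero_of_mem {N : Type w} [AddCommGroup N] [Module R N] {l : ℕ} (g : Adm R N l)
    (a : Fin l) (h : g.1 a ∈ spanBefore R N g.1 a) :
    (Submodule.Quotient.mk (sym R N g) : DetOfLen R N l) = 0 :=
  (Submodule.Quotient.mk_eq_zero _).mpr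
    (Submodule.subset_span (Or.inl (Or.inl ⟨g, a, h, rfl⟩)))

/-- Lemma V: `psiVal` vanishes when another entry becomes dependent in the quotient. -/
theorem psiVal_eq_zero {l : ℕ} (e : Adm R M (l + 1)) (i : Fin (l + 1)) (u : Rˣ)
    (hc : Cond e.1 x i u) (k : Fin (l + 1)) (hk : k ≠ i)
    (hmem : pr (R := R) x (e.1 k) ∈ spanBefore R (Q (R := R) x) (pr (R := R) x ∘ e.1) k) :
    psiVal x e i u hc = 0 := by
  obtain ⟨k', rfl⟩ := Fin.exists_succAbove_eq hk
  unfold psiVal
  rw [mk_sym_eq_zero_of_mem _ k', smul_zero]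
  change pr (R := R) x (e.1 (i.succAbove k')) ∈
    spanBefore R (Q (R := R) x) ((pr (R := R) x ∘ e.1) ∘ i.succAbove) k'
  rw [spanBefore_succAbove (pr (R := R) x ∘ e.1) i (pr_mem_of_cond x e.1 i u hc) k']
  exact hmem

end quot

end Part2

section Part3

open IsLocalRing CycDet

variable {R : Type u} [CommRing R] [IsLocalRing R]
variable {M : Type v} [AddCommGroup M] [Module R M] (x : M)

/-- membership of an element of `M` in the flags, read in the quotient -/
theorem pr_mem_spanBefore {l : ℕ} (e : Fin l → M) (n : ℕ) (y : M)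
    (hy : y ∈ spanBefore R M e n) :
    pr (R := R) x y ∈ spanBefore R (Q (R := R) x) (pr (R := R) x ∘ e) n := by
  rw [← spanBefore_map]
  exact Submodule.mem_map_of_mem hy

theorem psi_relA {l : ℕ} (e : Adm R M (l + 1)) (a : Fin (l + 1))
    (ha : e.1 a ∈ spanBefore R M e.1 a) : psi x e = 0 := by
  by_cases h : ∃ (i : Fin (l + 1)) (u : Rˣ), Cond e.1 x i u
  · obtain ⟨i, u, hc⟩ := h
    rw [psi_eq x e i u hc]
    have hai : a ≠ i := by
      rintro rfl
      exact hc.notMem ha
    exact psiVal_eq_zero x e i u hc a hai (pr_mem_spanBefore x e.1 a _ ha)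
  · exact psi_eq_zero x e h

theorem residue_unit_ne_zero (c : Rˣ) : residue R (c : R) ≠ 0 := by
  intro h
  have := (residue_eq_zero_iff _).mp h
  exact ((mem_maximalIdeal _).mp this) c.isUnit

theorem psi_relB {l : ℕ} (e e' : Adm R M (l + 1)) (a : Fin (l + 1)) (c : Rˣ)
    (h1 : ∀ j, j ≠ a → e.1 j = e'.1 j)
    (h2 : e.1 a - (c : R) • e'.1 a ∈ spanBefore R M e.1 a) :
    psi x e - residue R (c : R) • psi x e' = 0 := by
  have hS := spanBefore_eq_of_relB e.1 e'.1 a c h1 h2
  have hrange : Submodule.span R (Set.range e.1) = Submodule.span R (Set.range e'.1) := by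
    rw [← spanBefore_eq_range e.1 le_rfl, ← spanBefore_eq_range e'.1 le_rfl]
    exact hS _
  by_cases h : ∃ (i : Fin (l + 1)) (u : Rˣ), Cond e.1 x i u
  · obtain ⟨i, u, hc⟩ := h
    rw [psi_eq x e i u hc]
    by_cases hia : i = a
    · subst hia
      have hc' : Cond e'.1 x i (u * c) := by
        refine ⟨?_, ?_⟩
        · rw [← hS]
          have : x - ((u * c : Rˣ) : R) • e'.1 i =
              (x - (u : R) • e.1 i) + (u : R) • (e.1 i - (c : R) • e'.1 i) := by
            rw [Units.val_mul, mul_smul, smul_sub]; abel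
          rw [this]
          exact Submodule.add_mem _ hc.1 (Submodule.smul_mem _ _ h2)
        · rw [← hS]; exact hc.2
      rw [psi_eq x e' i (u * c) hc']
      have hfun : remAdm x e i (pr_mem_of_cond x e.1 i u hc) =
          remAdm x e' i (pr_mem_of_cond x e'.1 i (u * c) hc') := by
        apply Subtype.ext
        funext j
        change pr (R := R) x (e.1 (i.succAbove j)) = pr (R := R) x (e'.1 (i.succAbove j))
        rw [h1 _ (Fin.succAbove_ne i j)]
      unfold psiVal
      rw [hfun, smul_smul, ← sub_smul]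
      have hcne := residue_unit_ne_zero c
      have hune := residue_unit_ne_zero u
      have : (-1 : ResidueField R) ^ (i : ℕ) * (residue R (u : R))⁻¹ -
          residue R (c : R) * ((-1) ^ (i : ℕ) * (residue R (((u * c : Rˣ) : R)))⁻¹) = 0 := by
        rw [Units.val_mul, map_mul]
        field_simp
        ring
      rw [this, zero_smul]
    · have hc' : Cond e'.1 x i u := by
        refine ⟨?_, ?_⟩
        · rw [← hS, ← h1 i hia]; exact hc.1
        · rw [← hS]; exact hc.2
      rw [psi_eq x e' i u hc']
      obtain ⟨a', rfl⟩ := Fin.exists_succAbove_eq (Ne.symm hia)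
      unfold psiVal
      rw [smul_comm, ← smul_sub]
      have hrel : (Submodule.Quotient.mk (sym R (Q (R := R) x)
            (remAdm x e i (pr_mem_of_cond x e.1 i u hc))) : DetOfLen R (Q (R := R) x) l) -
          residue R (c : R) • Submodule.Quotient.mk (sym R (Q (R := R) x)
            (remAdm x e' i (pr_mem_of_cond x e'.1 i u hc'))) = 0 := by
        rw [← Submodule.Quotient.mk_smul, ← Submodule.Quotient.mk_sub,
          Submodule.Quotient.mk_eq_zero]
        refine Submodule.subset_span (Or.inl (Or.inr ⟨_, _, a', c, ?_, ?_, rfl⟩))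
        · intro j hj
          change pr (R := R) x (e.1 (i.succAbove j)) = pr (R := R) x (e'.1 (i.succAbove j))
          rw [h1 _ (fun h => hj (Fin.succAbove_right_injective h))]
        · change pr (R := R) x (e.1 (i.succAbove a')) - (c : R) • pr (R := R) x (e'.1 (i.succAbove a')) ∈
            spanBefore R (Q (R := R) x) ((pr (R := R) x ∘ e.1) ∘ i.succAbove) a'
          rw [spanBefore_succAbove (pr (R := R) x ∘ e.1) i (pr_mem_of_cond x e.1 i u hc) a',
            ← map_smul, ← map_sub]
          exact pr_mem_spanBefore x e.1 _ _ h2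
      rw [hrel, smul_zero]
  · rw [psi_eq_zero x e h]
    have h' : ¬ ∃ (i : Fin (l + 1)) (u : Rˣ), Cond e'.1 x i u := by
      rw [exists_cond_iff e'.1 e'.2, ← hrange, ← exists_cond_iff e.1 e.2]
      exact h
    rw [psi_eq_zero x e' h', smul_zero, sub_zero]

end Part3

section Part4

open IsLocalRing CycDet

variable {R : Type u} [CommRing R] [IsLocalRing R]
variable {M : Type v} [AddCommGroup M] [Module R M] (x : M)

theorem psi_relC_aux {l : ℕ} (e e' : Adm R M (l + 1)) (a b : Fin (l + 1))
    (hab : (b : ℕ) + 1 = a) (he' : e'.1 = e.1 ∘ Equiv.swap a b) (u : Rˣ)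
    (hc : Cond e.1 x b u) (hx : x ∉ spanBefore R M e'.1 a) : psi x e + psi x e' = 0 := by
  have hSb : spanBefore R M e'.1 b = spanBefore R M e.1 b := by
    rw [he']
    exact spanBefore_comp_swap e.1 a b b (Or.inr ⟨by omega, le_rfl⟩)
  have hea : e'.1 a = e.1 b := by rw [he']; simp
  have hc' : Cond e'.1 x a u := by
    refine ⟨?_, hx⟩
    rw [hea]
    apply spanBefore_mono e'.1 (show (b : ℕ) ≤ a by omega)
    rw [hSb]
    exact hc.1
  rw [psi_eq x e b u hc, psi_eq x e' a u hc']
  have hfun : remAdm x e b (pr_mem_of_cond x e.1 b u hc) =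
      remAdm x e' a (pr_mem_of_cond x e'.1 a u hc') := by
    apply Subtype.ext
    funext j
    change pr (R := R) x (e.1 (b.succAbove j)) = pr (R := R) x (e'.1 (a.succAbove j))
    rw [he', Function.comp_apply, ← succAbove_swap a b hab j]
  unfold psiVal
  rw [hfun, ← add_smul]
  have : (-1 : ResidueField R) ^ (b : ℕ) * (residue R (u : R))⁻¹ +
      (-1) ^ (a : ℕ) * (residue R (u : R))⁻¹ = 0 := by
    rw [← hab, pow_succ]; ring
  rw [this, zero_smul]

theorem psi_relC {l : ℕ} (e e' : Adm R M (l + 1)) (a b : Fin (l + 1))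
    (hab : (b : ℕ) + 1 = a)
    (hm : ∀ r ∈ maximalIdeal R, r • e.1 a ∈ spanBefore R M e.1 b)
    (he' : e'.1 = e.1 ∘ Equiv.swap a b) : psi x e + psi x e' = 0 := by
  have hne : a ≠ b := fun h => by subst h; omega
  have hSlow : ∀ n : ℕ, n ≤ b → spanBefore R M e'.1 n = spanBefore R M e.1 n := by
    intro n hn
    rw [he']
    exact spanBefore_comp_swap e.1 a b n (Or.inr ⟨by omega, hn⟩)
  have hShigh : ∀ n : ℕ, (a : ℕ) + 1 ≤ n → spanBefore R M e'.1 n = spanBefore R M e.1 n := by
    intro n hn
    rw [he']
    exact spanBefore_comp_swap e.1 a b n (Or.inl ⟨by omega, by omega⟩)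
  have hrange : Submodule.span R (Set.range e'.1) = Submodule.span R (Set.range e.1) := by
    rw [← spanBefore_eq_range e.1 le_rfl, ← spanBefore_eq_range e'.1 le_rfl]
    exact hShigh _ (by have := a.2; omega)
  have hea : e'.1 a = e.1 b := by rw [he']; simp
  have heb : e'.1 b = e.1 a := by rw [he']; simp
  have heswap : e.1 = e'.1 ∘ Equiv.swap a b := by
    rw [he']; funext j; simp
  have hSa : spanBefore R M e.1 a = spanBefore R M e.1 b ⊔ Submodule.span R {e.1 b} := by
    have := spanBefore_succ (R := R) e.1 b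
    rwa [hab] at this
  have hSa' : spanBefore R M e'.1 a = spanBefore R M e.1 b ⊔ Submodule.span R {e.1 a} := by
    have := spanBefore_succ (R := R) e'.1 b
    rwa [hab, hSlow b le_rfl, heb] at this
  have hQb : spanBefore R (Q (R := R) x) (pr (R := R) x ∘ e'.1) b =
      spanBefore R (Q (R := R) x) (pr (R := R) x ∘ e.1) b := by
    rw [← spanBefore_map, ← spanBefore_map, hSlow b le_rfl]
  by_cases h : ∃ (i : Fin (l + 1)) (u : Rˣ), Cond e.1 x i u
  · obtain ⟨i, u, hc⟩ := h
    by_cases hib : i = b
    · subst hib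
      by_cases hx : x ∈ spanBefore R M e'.1 a
      · -- both vanish
        have hx' := hx
        rw [hSa', Submodule.mem_sup] at hx'
        obtain ⟨s', hs', t, ht, hxst⟩ := hx'
        obtain ⟨r, rfl⟩ := Submodule.mem_span_singleton.mp ht
        have hr : IsUnit r := by
          by_contra hr
          apply hc.2
          rw [← hxst]
          exact Submodule.add_mem _ hs' (hm r ((mem_maximalIdeal r).mpr hr))
        obtain ⟨r', rfl⟩ := hr
        have hc' : Cond e'.1 x i r' := by
          refine ⟨?_, ?_⟩
          · rw [heb, hSlow i le_rfl, ← hxst]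
            simpa using hs'
          · rw [hSlow i le_rfl]; exact hc.2
        rw [psi_eq x e i u hc, psi_eq x e' i r' hc']
        have h1 : psiVal x e i u hc = 0 := by
          apply psiVal_eq_zero x e i u hc a hne
          have h2 := pr_mem_of_cond x e'.1 i r' hc'
          rw [heb, hQb] at h2
          exact spanBefore_mono _ (show (i : ℕ) ≤ a by omega) h2
        have h2 : psiVal x e' i r' hc' = 0 := by
          apply psiVal_eq_zero x e' i r' hc' a hne
          have h2 := pr_mem_of_cond x e.1 i u hc
          rw [← hQb] at h2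
          rw [hea]
          exact spanBefore_mono _ (show (i : ℕ) ≤ a by omega) h2
        rw [h1, h2, add_zero]
      · exact psi_relC_aux x e e' a i hab he' u hc hx
    · by_cases hia : i = a
      · subst hia
        by_cases hx : x ∈ spanBefore R M e'.1 i
        · have hxb : x ∉ spanBefore R M e'.1 b := by
            rw [hSlow b le_rfl]
            intro hxb
            exact hc.2 (spanBefore_mono e.1 (show (b : ℕ) ≤ i by omega) hxb)
          obtain ⟨r', hr'⟩ := exists_unit_of_mem_succ e'.1 e'.2 b x (by rw [hab]; exact hx) hxb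
          have hcb : Cond e'.1 x b r' := ⟨hr', hxb⟩
          have := psi_relC_aux x e' e i b hab heswap r' hcb hc.2
          rw [add_comm]
          exact this
        · have h1 := hc.1
          rw [hSa, Submodule.mem_sup] at h1
          obtain ⟨s, hs, t, ht, hst⟩ := h1
          obtain ⟨w, rfl⟩ := Submodule.mem_span_singleton.mp ht
          have hw : IsUnit w := by
            by_contra hw
            apply hx
            rw [hSa']
            have hxeq : x = (s + w • e.1 b) + (u : R) • e.1 i := by rw [hst]; abel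
            rw [hxeq]
            exact Submodule.add_mem _ (Submodule.mem_sup_left
              (Submodule.add_mem _ hs (e.2 b w ((mem_maximalIdeal w).mpr hw))))
              (Submodule.mem_sup_right (Submodule.smul_mem _ _
                (Submodule.mem_span_singleton_self _)))
          obtain ⟨w', rfl⟩ := hw
          have hc' : Cond e'.1 x i w' := by
            refine ⟨?_, hx⟩
            rw [hea, hSa']
            have hxeq : x - (w' : R) • e.1 b = s + (u : R) • e.1 i := by
              have : x = (s + (w' : R) • e.1 b) + (u : R) • e.1 i := by rw [hst]; abel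
              rw [this]; abel
            rw [hxeq]
            exact Submodule.add_mem _ (Submodule.mem_sup_left hs)
              (Submodule.mem_sup_right (Submodule.smul_mem _ _
                (Submodule.mem_span_singleton_self _)))
          obtain ⟨b'', hb''⟩ := Fin.exists_succAbove_eq (Ne.symm hne)
          rw [psi_eq x e i u hc, psi_eq x e' i w' hc']
          have hrel : (Submodule.Quotient.mk (sym R (Q (R := R) x)
                (remAdm x e' i (pr_mem_of_cond x e'.1 i w' hc'))) : DetOfLen R (Q (R := R) x) l) -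
              residue R ((-(w' * u⁻¹) : Rˣ) : R) • Submodule.Quotient.mk (sym R (Q (R := R) x)
                (remAdm x e i (pr_mem_of_cond x e.1 i u hc))) = 0 := by
            rw [← Submodule.Quotient.mk_smul, ← Submodule.Quotient.mk_sub,
              Submodule.Quotient.mk_eq_zero]
            refine Submodule.subset_span (Or.inl (Or.inr ⟨_, _, b'', -(w' * u⁻¹), ?_, ?_, rfl⟩))
            · intro j hj
              change pr (R := R) x (e'.1 (i.succAbove j)) = pr (R := R) x (e.1 (i.succAbove j))
              rw [he', Function.comp_apply, Equiv.swap_apply_of_ne_of_ne (Fin.succAbove_ne i j)]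
              intro h
              exact hj (Fin.succAbove_right_injective (h.trans hb''.symm))
            · change pr (R := R) x (e'.1 (i.succAbove b'')) -
                  ((-(w' * u⁻¹) : Rˣ) : R) • pr (R := R) x (e.1 (i.succAbove b'')) ∈
                spanBefore R (Q (R := R) x) ((pr (R := R) x ∘ e'.1) ∘ i.succAbove) b''
              rw [spanBefore_succAbove (pr (R := R) x ∘ e'.1) i (pr_mem_of_cond x e'.1 i w' hc') b'',
                hb'', heb, hQb, ← map_smul, ← map_sub]
              have hel : e.1 i - ((-(w' * u⁻¹) : Rˣ) : R) • e.1 b =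
                  ((u⁻¹ : Rˣ) : R) • (x - s) := by
                have hxeq : x - s = (w' : R) • e.1 b + (u : R) • e.1 i := by
                  have : x = (s + (w' : R) • e.1 b) + (u : R) • e.1 i := by rw [hst]; abel
                  rw [this]; abel
                rw [hxeq, smul_add, smul_smul, smul_smul, Units.inv_mul, one_smul, Units.val_neg,
                  Units.val_mul, neg_smul, sub_neg_eq_add, mul_comm ((u⁻¹ : Rˣ) : R)]
                abel
              rw [hel, map_smul, map_sub, pr_self, zero_sub]
              exact Submodule.smul_mem _ _ (Submodule.neg_mem _ (pr_mem_spanBefore x e.1 _ _ hs))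
          rw [sub_eq_zero] at hrel
          unfold psiVal
          rw [hrel, smul_smul, ← add_smul]
          have hune := residue_unit_ne_zero u
          have hwne := residue_unit_ne_zero w'
          have : (-1 : ResidueField R) ^ (i : ℕ) * (residue R (u : R))⁻¹ +
              (-1) ^ (i : ℕ) * (residue R (w' : R))⁻¹ *
                residue R ((-(w' * u⁻¹) : Rˣ) : R) = 0 := by
            have hinv : residue R ((u⁻¹ : Rˣ) : R) = (residue R (u : R))⁻¹ := by
              apply eq_inv_of_mul_eq_one_left
              rw [← map_mul, Units.inv_mul, map_one]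
            rw [Units.val_neg, Units.val_mul, map_neg, map_mul, hinv]
            field_simp
            ring
          rw [this, zero_smul]
      · -- generic position
        have hia' : (i : ℕ) ≠ a := fun h => hia (Fin.ext h)
        have hib' : (i : ℕ) ≠ b := fun h => hib (Fin.ext h)
        have hSi : spanBefore R M e'.1 i = spanBefore R M e.1 i := by
          by_cases hlt : (i : ℕ) < b
          · exact hSlow i hlt.le
          · exact hShigh i (by omega)
        have hei : e'.1 i = e.1 i := by
          rw [he', Function.comp_apply, Equiv.swap_apply_of_ne_of_ne hia hib]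
        have hc' : Cond e'.1 x i u := by
          refine ⟨?_, ?_⟩
          · rw [hSi, hei]; exact hc.1
          · rw [hSi]; exact hc.2
        obtain ⟨a', b', ha', hb', hab'⟩ := exists_preimages_consecutive i a b hab
          (Ne.symm hia) (Ne.symm hib)
        rw [psi_eq x e i u hc, psi_eq x e' i u hc']
        have hrel : (Submodule.Quotient.mk (sym R (Q (R := R) x)
              (remAdm x e i (pr_mem_of_cond x e.1 i u hc))) : DetOfLen R (Q (R := R) x) l) +
            Submodule.Quotient.mk (sym R (Q (R := R) x)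
              (remAdm x e' i (pr_mem_of_cond x e'.1 i u hc'))) = 0 := by
          rw [← Submodule.Quotient.mk_add, Submodule.Quotient.mk_eq_zero]
          refine Submodule.subset_span (Or.inr ⟨_, _, a', b', hab', ?_, ?_, rfl⟩)
          · intro r hr
            change r • pr (R := R) x (e.1 (i.succAbove a')) ∈
              spanBefore R (Q (R := R) x) ((pr (R := R) x ∘ e.1) ∘ i.succAbove) b'
            rw [spanBefore_succAbove (pr (R := R) x ∘ e.1) i (pr_mem_of_cond x e.1 i u hc) b',
              ha', hb', ← map_smul]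
            exact pr_mem_spanBefore x e.1 _ _ (hm r hr)
          · funext j
            change pr (R := R) x (e'.1 (i.succAbove j)) =
              pr (R := R) x (e.1 (i.succAbove (Equiv.swap a' b' j)))
            rw [he', Function.comp_apply,
              ← (Fin.succAbove_right_injective (p := i)).swap_apply a' b' j, ha', hb']
        unfold psiVal
        rw [← smul_add, hrel, smul_zero]
  · rw [psi_eq_zero x e h]
    have h' : ¬ ∃ (i : Fin (l + 1)) (u : Rˣ), Cond e'.1 x i u := by
      rw [exists_cond_iff e'.1 e'.2, hrange, ← exists_cond_iff e.1 e.2]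
      exact h
    rw [psi_eq_zero x e' h', add_zero]

end Part4

section Part5

open IsLocalRing CycDet

variable {R : Type u} [CommRing R] [IsLocalRing R]

section
variable {M : Type v} [AddCommGroup M] [Module R M] (x : M)

/-- the linear map on free symbols -/
noncomputable def Psi (l : ℕ) : Free R M (l + 1) →ₗ[ResidueField R] DetOfLen R (Q (R := R) x) l :=
  Finsupp.linearCombination (ResidueField R) (psi x)

theorem Psi_sym {l : ℕ} (e : Adm R M (l + 1)) : Psi x l (sym R M e) = psi x e := by
  rw [Psi, sym, Finsupp.linearCombination_single, one_smul]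

theorem Psi_relSet {l : ℕ} (y : Free R M (l + 1)) (hy : y ∈ relSet R M (l + 1)) :
    Psi x l y = 0 := by
  rcases hy with (⟨e, a, ha, rfl⟩ | ⟨e, e', a, c, h1, h2, rfl⟩) | ⟨e, e', a, b, hab, hm, he', rfl⟩
  · rw [Psi_sym]; exact psi_relA x e a ha
  · rw [map_sub, map_smul, Psi_sym, Psi_sym]; exact psi_relB x e e' a c h1 h2
  · rw [map_add, Psi_sym, Psi_sym]; exact psi_relC x e e' a b hab hm he'

noncomputable def PsiBar (l : ℕ) :
    DetOfLen R M (l + 1) →ₗ[ResidueField R] DetOfLen R (Q (R := R) x) l :=
  (Submodule.span (ResidueField R) (relSet R M (l + 1))).liftQ (Psi x l)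
    (Submodule.span_le.mpr (fun y hy => Psi_relSet x y hy))

theorem PsiBar_mk {l : ℕ} (e : Adm R M (l + 1)) :
    PsiBar x l (Submodule.Quotient.mk (sym R M e)) = psi x e := by
  rw [PsiBar, Submodule.liftQ_apply, Psi_sym]

end

theorem relSet_zero (M : Type v) [AddCommGroup M] [Module R M] : relSet R M 0 = ∅ := by
  ext y
  simp only [Set.mem_empty_iff_false, iff_false]
  rintro ((⟨e, a, -⟩ | ⟨e, e', a, -⟩) | ⟨e, e', a, -⟩) <;> exact a.elim0

/-- existence of a socle element generating a simple submodule -/
theorem exists_simple_span (M : Type v) [AddCommGroup M] [Module R M]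
    (hfin : IsFiniteLength R M) [Nontrivial M] :
    ∃ x : M, x ≠ 0 ∧ IsSimpleModule R (Submodule.span R {x}) := by
  obtain ⟨hN, hA⟩ := isFiniteLength_iff_isNoetherian_isArtinian.mp hfin
  haveI : IsAtomic (Submodule R M) := isAtomic_of_orderBot_wellFounded_lt (wellFounded_lt)
  obtain ⟨N, hN, -⟩ := (eq_bot_or_exists_atom_le (⊤ : Submodule R M)).resolve_left top_ne_bot
  obtain ⟨x, hxN, hx0⟩ := Submodule.exists_mem_ne_zero_of_ne_bot hN.1
  refine ⟨x, hx0, ?_⟩
  have hle : Submodule.span R {x} ≤ N := (Submodule.span_singleton_le_iff_mem x N).mpr hxN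
  have hne : Submodule.span R {x} ≠ ⊥ := by
    rw [Ne, Submodule.span_singleton_eq_bot]; exact hx0
  have heq : Submodule.span R {x} = N := (hN.le_iff.mp hle).resolve_left hne
  rw [heq]
  exact isSimpleModule_iff_isAtom.mpr hN

theorem length_quot_of_simple (M : Type v) [AddCommGroup M] [Module R M] (x : M)
    (hs : IsSimpleModule R (Submodule.span R {x})) (l : ℕ)
    (hlen : Module.length R M = ((l + 1 : ℕ) : ℕ∞)) :
    Module.length R (Q (R := R) x) = (l : ℕ∞) := by
  have h1 := Module.length_eq_add_of_exact (Submodule.span R {x}).subtype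
    (Submodule.span R {x}).mkQ (Submodule.subtype_injective _) (Submodule.mkQ_surjective _)
    (LinearMap.exact_subtype_mkQ _)
  rw [hlen, Module.length_eq_one_iff.mpr hs] at h1
  generalize Module.length R (Q (R := R) x) = y at h1
  cases y with
  | top => simp at h1
  | coe n =>
    have : l + 1 = 1 + n := by exact_mod_cast h1
    have : n = l := by omega
    rw [this]

theorem symbol_ne_zero_aux (l : ℕ) : ∀ (M : Type v) [AddCommGroup M] [Module R M],
    Module.length R M = (l : ℕ∞) → ∀ e : Adm R M l, Submodule.span R (Set.range e.1) = ⊤ →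
    (Submodule.Quotient.mk (sym R M e) : DetOfLen R M l) ≠ 0 := by
  induction l with
  | zero =>
    intro M _ _ _ e _
    rw [Ne, Submodule.Quotient.mk_eq_zero, relSet_zero, Submodule.span_empty,
      Submodule.mem_bot, sym, Finsupp.single_eq_zero]
    exact one_ne_zero
  | succ l ih =>
    intro M _ _ hlen e he
    have hfin : IsFiniteLength R M := by
      rw [← Module.length_ne_top_iff, hlen]; exact ENat.coe_ne_top _
    haveI : Nontrivial M := by
      rw [← Module.length_pos_iff (R := R), hlen]
      exact_mod_cast Nat.succ_pos l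
    obtain ⟨x, hx0, hs⟩ := exists_simple_span M hfin
    have hlenQ := length_quot_of_simple M x hs l hlen
    obtain ⟨i, u, hc⟩ := exists_cond e.1 e.2 x (by rw [he]; exact Submodule.mem_top) hx0
    have hgen : Submodule.span R (Set.range (remAdm x e i (pr_mem_of_cond x e.1 i u hc)).1) = ⊤ := by
      change Submodule.span R (Set.range ((pr (R := R) x ∘ e.1) ∘ i.succAbove)) = ⊤
      rw [span_range_succAbove (pr (R := R) x ∘ e.1) i (pr_mem_of_cond x e.1 i u hc),
        Set.range_comp, ← Submodule.map_span, he, Submodule.map_top, Submodule.range_mkQ]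
    have hne := ih (Q (R := R) x) hlenQ _ hgen
    intro h0
    have h1 := PsiBar_mk x e
    rw [h0, map_zero, psi_eq x e i u hc] at h1
    unfold psiVal at h1
    have hcoef : (-1 : ResidueField R) ^ (i : ℕ) * (residue R (u : R))⁻¹ ≠ 0 :=
      mul_ne_zero (pow_ne_zero _ (neg_ne_zero.mpr one_ne_zero))
        (inv_ne_zero (residue_unit_ne_zero u))
    exact hne ((smul_eq_zero.mp h1.symm).resolve_left hcoef)

theorem main_1839 (R : Type u) [CommRing R] [IsLocalRing R] (M : Type v) [AddCommGroup M]
    [Module R M] (hM : IsFiniteLength R M) (e : CycDet.Adm R M (Module.length R M).toNat)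
    (he : Submodule.span R (Set.range e.1) = ⊤) : CycDet.symbol R M e ≠ 0 := by
  have hlen : Module.length R M = ((Module.length R M).toNat : ℕ∞) :=
    (ENat.coe_toNat (Module.length_ne_top_iff.mpr hM)).symm
  exact symbol_ne_zero_aux _ M hlen e he

end Part5

end Groth.Agent.Lib.R2H1.CycDetLib
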