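/-
Determinant of a finite length module over a local ring (Stacks 42.68), part 2 (helper1, R2): the map PhiBar : DetOfLen R (M/Rx) l -> DetOfLen R M (l+1) prepending a socle element, its surjectivity, and main_1838: dim det(M) <= 1 (S1838).
-/
import Mathlib
import Groth.Agent.Lib.R2H1CycDet

set_option autoImplicit false
set_option linter.style.haveILetI false
set_option linter.unusedSectionVars false
universe u v w

namespace Groth.Agent.Lib.R2H1.CycDetLib2

section Part1

open IsLocalRing CycDet Groth.Agent.Lib.R2H1.CycDetLib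

variable {R : Type u} [CommRing R] [IsLocalRing R]
variable {M : Type v} [AddCommGroup M] [Module R M]

theorem spanBefore_congr {l : ℕ} (e e' : Fin l → M) (n : ℕ)
    (h : ∀ k : Fin l, (k : ℕ) < n → e k = e' k) : spanBefore R M e n = spanBefore R M e' n := by
  apply le_antisymm
  · rw [spanBefore_le_iff]
    intro k hk
    rw [h k hk]
    exact mem_spanBefore e' k hk
  · rw [spanBefore_le_iff]
    intro k hk
    rw [← h k hk]
    exact mem_spanBefore e k hk

/-- prepend an entry -/
def consT {l : ℕ} (x : M) (h : Fin l → M) : Fin (l + 1) → M := Fin.cons x h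

@[simp] theorem consT_zero {l : ℕ} (x : M) (h : Fin l → M) : consT x h 0 = x := rfl
@[simp] theorem consT_succ {l : ℕ} (x : M) (h : Fin l → M) (j : Fin l) :
    consT x h j.succ = h j := by
  simp [consT]

theorem spanBefore_cons {l : ℕ} (x : M) (h : Fin l → M) (n : ℕ) :
    spanBefore R M (consT x h) (n + 1) = Submodule.span R {x} ⊔ spanBefore R M h n := by
  apply le_antisymm
  · rw [spanBefore_le_iff]
    intro k
    refine Fin.cases (fun _ => ?_) (fun k' hk => ?_) k
    · rw [consT_zero]
      exact Submodule.mem_sup_left (Submodule.mem_span_singleton_self x)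
    · rw [consT_succ]
      rw [Fin.val_succ] at hk
      exact Submodule.mem_sup_right (mem_spanBefore h k' (by omega))
  · refine sup_le ?_ ?_
    · rw [Submodule.span_singleton_le_iff_mem]
      have := mem_spanBefore (R := R) (consT x h) 0 (n := n + 1) (by simp)
      rwa [consT_zero] at this
    · rw [spanBefore_le_iff]
      intro k hk
      have := mem_spanBefore (R := R) (consT x h) k.succ (n := n + 1)
        (by rw [Fin.val_succ]; omega)
      rwa [consT_succ] at this

variable (x : M)

theorem pr_mem_iff_cons {l : ℕ} (h : Fin l → M) (n : ℕ) (y : M) :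
    pr (R := R) x y ∈ spanBefore R (Q (R := R) x) (pr (R := R) x ∘ h) n ↔
      y ∈ spanBefore R M (consT x h) (n + 1) := by
  rw [spanBefore_cons, ← spanBefore_map]
  constructor
  · intro hy
    obtain ⟨t, ht, hty⟩ := Submodule.mem_map.mp hy
    have hker : t - y ∈ Submodule.span R {x} := by
      rw [← Submodule.Quotient.eq]
      exact hty
    have : y = (-(t - y)) + t := by abel
    rw [this]
    exact Submodule.add_mem _ (Submodule.mem_sup_left (Submodule.neg_mem _ hker))
      (Submodule.mem_sup_right ht)
  · intro hy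
    obtain ⟨a, ha, b, hb, rfl⟩ := Submodule.mem_sup.mp hy
    have ha0 : pr (R := R) x a = 0 := (Submodule.Quotient.mk_eq_zero _).mpr ha
    rw [map_add, ha0, zero_add]
    exact Submodule.mem_map_of_mem hb

/-- a set-theoretic section of the projection -/
noncomputable def sec (y : Q (R := R) x) : M :=
  Function.surjInv (Submodule.mkQ_surjective (Submodule.span R {x})) y

theorem pr_sec (y : Q (R := R) x) : pr (R := R) x (sec x y) = y :=
  Function.surjInv_eq (Submodule.mkQ_surjective (Submodule.span R {x})) y

theorem pr_comp_sec {l : ℕ} (g : Fin l → Q (R := R) x) :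
    pr (R := R) x ∘ (sec x ∘ g) = g := by
  funext j
  exact pr_sec x (g j)

variable (hx : ∀ r ∈ maximalIdeal R, r • x = 0)

include hx in
theorem isAdmissible_lift {l : ℕ} (g : Adm R (Q (R := R) x) l) :
    IsAdmissible R M (consT x (sec x ∘ g.1)) := by
  intro j
  refine Fin.cases ?_ (fun j' => ?_) j
  · intro r hr
    rw [consT_zero, hx r hr]
    exact Submodule.zero_mem _
  · intro r hr
    rw [consT_succ, Fin.val_succ, ← pr_mem_iff_cons, pr_comp_sec, map_smul]
    change r • pr (R := R) x (sec x (g.1 j')) ∈ _
    rw [pr_sec]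
    exact g.2 j' r hr

noncomputable def liftAdm {l : ℕ} (g : Adm R (Q (R := R) x) l) : Adm R M (l + 1) :=
  ⟨consT x (sec x ∘ g.1), isAdmissible_lift x hx g⟩

noncomputable def phi0 {l : ℕ} (g : Adm R (Q (R := R) x) l) : DetOfLen R M (l + 1) :=
  Submodule.Quotient.mk (sym R M (liftAdm x hx g))

noncomputable def Phi (l : ℕ) :
    Free R (Q (R := R) x) l →ₗ[ResidueField R] DetOfLen R M (l + 1) :=
  Finsupp.linearCombination (ResidueField R) (phi0 x hx)

theorem Phi_sym {l : ℕ} (g : Adm R (Q (R := R) x) l) :
    Phi x hx l (sym R (Q (R := R) x) g) = phi0 x hx g := by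
  rw [Phi, sym, Finsupp.linearCombination_single, one_smul]

theorem Phi_relSet {l : ℕ} (y : Free R (Q (R := R) x) l) (hy : y ∈ relSet R (Q (R := R) x) l) :
    Phi x hx l y = 0 := by
  rcases hy with (⟨g, a, ha, rfl⟩ | ⟨g, g', a, c, h1, h2, rfl⟩) | ⟨g, g', a, b, hab, hm, hg', rfl⟩
  · rw [Phi_sym, phi0]
    apply mk_sym_eq_zero_of_mem (liftAdm x hx g) a.succ
    change consT x (sec x ∘ g.1) a.succ ∈ spanBefore R M (consT x (sec x ∘ g.1)) (a.succ : ℕ)
    rw [consT_succ, Fin.val_succ, ← pr_mem_iff_cons, pr_comp_sec]
    change pr (R := R) x (sec x (g.1 a)) ∈ _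
    rw [pr_sec]
    exact ha
  · rw [map_sub, map_smul, Phi_sym, Phi_sym, phi0, phi0, ← Submodule.Quotient.mk_smul,
      ← Submodule.Quotient.mk_sub, Submodule.Quotient.mk_eq_zero]
    refine Submodule.subset_span (Or.inl (Or.inr ⟨_, _, a.succ, c, ?_, ?_, rfl⟩))
    · intro j
      refine Fin.cases (fun _ => rfl) (fun j' hj => ?_) j
      change consT x (sec x ∘ g.1) j'.succ = consT x (sec x ∘ g'.1) j'.succ
      rw [consT_succ, consT_succ, Function.comp_apply, Function.comp_apply,
        h1 j' (fun h => hj (by rw [h]))]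
    · change consT x (sec x ∘ g.1) a.succ - (c : R) • consT x (sec x ∘ g'.1) a.succ ∈
        spanBefore R M (consT x (sec x ∘ g.1)) (a.succ : ℕ)
      rw [consT_succ, consT_succ, Fin.val_succ, ← pr_mem_iff_cons, pr_comp_sec, map_sub, map_smul]
      change pr (R := R) x (sec x (g.1 a)) - (c : R) • pr (R := R) x (sec x (g'.1 a)) ∈ _
      rw [pr_sec, pr_sec]
      exact h2
  · rw [map_add, Phi_sym, Phi_sym, phi0, phi0, ← Submodule.Quotient.mk_add,
      Submodule.Quotient.mk_eq_zero]
    refine Submodule.subset_span (Or.inr ⟨_, _, a.succ, b.succ, ?_, ?_, ?_, rfl⟩)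
    · rw [Fin.val_succ, Fin.val_succ, hab]
    · intro r hr
      change r • consT x (sec x ∘ g.1) a.succ ∈
        spanBefore R M (consT x (sec x ∘ g.1)) (b.succ : ℕ)
      rw [consT_succ, Fin.val_succ, ← pr_mem_iff_cons, pr_comp_sec, map_smul]
      change r • pr (R := R) x (sec x (g.1 a)) ∈ _
      rw [pr_sec]
      exact hm r hr
    · change consT x (sec x ∘ g'.1) = consT x (sec x ∘ g.1) ∘ Equiv.swap a.succ b.succ
      funext k
      refine Fin.cases ?_ (fun k' => ?_) k
      · rw [Function.comp_apply, Equiv.swap_apply_of_ne_of_ne (Fin.succ_ne_zero a).symm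
          (Fin.succ_ne_zero b).symm]
        rfl
      · rw [Function.comp_apply, (Fin.succ_injective _).swap_apply a b k', consT_succ, consT_succ,
          Function.comp_apply, Function.comp_apply, hg', Function.comp_apply]

noncomputable def PhiBar (l : ℕ) :
    DetOfLen R (Q (R := R) x) l →ₗ[ResidueField R] DetOfLen R M (l + 1) :=
  (Submodule.span (ResidueField R) (relSet R (Q (R := R) x) l)).liftQ (Phi x hx l)
    (Submodule.span_le.mpr (fun y hy => Phi_relSet x hx y hy))

theorem PhiBar_mk {l : ℕ} (g : Adm R (Q (R := R) x) l) :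
    PhiBar x hx l (Submodule.Quotient.mk (sym R (Q (R := R) x) g)) = phi0 x hx g := by
  rw [PhiBar, Submodule.liftQ_apply, Phi_sym]

end Part1

section Part2

open IsLocalRing CycDet Groth.Agent.Lib.R2H1.CycDetLib

variable {R : Type u} [CommRing R] [IsLocalRing R]
variable {M : Type v} [AddCommGroup M] [Module R M]

/-- an admissible tuple of length `length M` which does not generate has a dependent entry -/
theorem exists_mem_spanBefore_of_not_generating {l : ℕ} (hlen : Module.length R M = (l : ℕ∞))
    (f : Adm R M l) (hf : Submodule.span R (Set.range f.1) ≠ ⊤) :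
    ∃ a : Fin l, f.1 a ∈ spanBefore R M f.1 a := by
  by_contra hcon
  push_neg at hcon
  let q : Fin (l + 1 + 1) → Submodule R M :=
    fun k => if (k : ℕ) ≤ l then spanBefore R M f.1 k else ⊤
  have hq : StrictMono q := by
    rw [Fin.strictMono_iff_lt_succ]
    intro k
    have hk1 : ((k.castSucc : Fin (l + 1 + 1)) : ℕ) ≤ l := by
      have := k.2; simp only [Fin.val_castSucc]; omega
    have hq1 : q k.castSucc = spanBefore R M f.1 k := by
      simp only [q]; rw [if_pos hk1]; simp
    rw [hq1]
    by_cases hkl : (k : ℕ) < l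
    · have hq2 : q k.succ = spanBefore R M f.1 ((k : ℕ) + 1) := by
        simp only [q]; rw [if_pos (by rw [Fin.val_succ]; omega)]; simp
      rw [hq2]
      refine lt_of_le_of_ne (spanBefore_mono f.1 (Nat.le_succ _)) ?_
      intro heq
      apply hcon ⟨k, hkl⟩
      change f.1 ⟨k, hkl⟩ ∈ spanBefore R M f.1 (k : ℕ)
      rw [heq]
      exact mem_spanBefore f.1 ⟨k, hkl⟩ (Nat.lt_succ_self _)
    · have hkl' : (k : ℕ) = l := by have := k.2; omega
      have hq2 : q k.succ = ⊤ := by
        simp only [q]; rw [if_neg (by rw [Fin.val_succ]; omega)]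
      rw [hq2, hkl', spanBefore_eq_range f.1 le_rfl]
      exact lt_top_iff_ne_top.mpr hf
  have h1 := Order.LTSeries.length_le_krullDim (LTSeries.mk (l + 1) q hq)
  rw [← Module.coe_length, hlen] at h1
  have h2 : ((l + 1 : ℕ) : ℕ∞) ≤ (l : ℕ∞) := by exact_mod_cast h1
  have h3 : l + 1 ≤ l := by exact_mod_cast h2
  omega

variable (x : M) (hx : ∀ r ∈ maximalIdeal R, r • x = 0)

include hx in
/-- replace the entry at which `x` enters by `x` itself -/
theorem exists_update {l : ℕ} (f : Adm R M (l + 1)) (i : Fin (l + 1)) (u : Rˣ)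
    (hc : Cond f.1 x i u) :
    ∃ f1 : Adm R M (l + 1), f1.1 i = x ∧
      (Submodule.Quotient.mk (sym R M f1) : DetOfLen R M (l + 1)) =
        residue R (u : R) • Submodule.Quotient.mk (sym R M f) := by
  classical
  have h1 : ∀ j, j ≠ i → Function.update f.1 i x j = f.1 j :=
    fun j hj => Function.update_of_ne hj _ _
  have hSi : spanBefore R M (Function.update f.1 i x) i = spanBefore R M f.1 i :=
    spanBefore_congr _ _ _ (fun k hk => h1 k (fun h => by subst h; omega))
  have h2 : Function.update f.1 i x i - (u : R) • f.1 i ∈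
      spanBefore R M (Function.update f.1 i x) i := by
    rw [Function.update_self, hSi]
    exact hc.1
  have hS := spanBefore_eq_of_relB (Function.update f.1 i x) f.1 i u h1 h2
  have hadm : IsAdmissible R M (Function.update f.1 i x) := by
    intro j r hr
    by_cases hj : j = i
    · subst hj
      rw [Function.update_self, hx r hr]
      exact Submodule.zero_mem _
    · rw [h1 j hj, hS]
      exact f.2 j r hr
  refine ⟨⟨Function.update f.1 i x, hadm⟩, Function.update_self _ _ _, ?_⟩
  rw [← sub_eq_zero, ← Submodule.Quotient.mk_smul, ← Submodule.Quotient.mk_sub,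
    Submodule.Quotient.mk_eq_zero]
  exact Submodule.subset_span (Or.inl (Or.inr ⟨⟨Function.update f.1 i x, hadm⟩, f, i, u, h1, h2, rfl⟩))

include hx in
/-- changing the entries after the first one (`= x`) by multiples of `x` does not change the
symbol -/
theorem mk_sym_eq_of_diff {l : ℕ} : ∀ (k : ℕ) (g g' : Adm R M (l + 1)), g.1 0 = x → g'.1 0 = x →
    (∀ j, g.1 j - g'.1 j ∈ Submodule.span R {x}) →
    (∀ j : Fin (l + 1), k ≤ (j : ℕ) → g.1 j = g'.1 j) →
    (Submodule.Quotient.mk (sym R M g) : DetOfLen R M (l + 1)) =
      Submodule.Quotient.mk (sym R M g') := by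
  classical
  intro k
  induction k with
  | zero =>
    intro g g' _ _ _ hag
    have : g = g' := Subtype.ext (funext fun j => hag j (Nat.zero_le _))
    rw [this]
  | succ k ih =>
    intro g g' hg0 hg0' hdiff hag
    by_cases hk : k < l + 1
    · obtain ⟨k', hk'⟩ : ∃ k' : Fin (l + 1), (k' : ℕ) = k := ⟨⟨k, hk⟩, rfl⟩
      have h1 : ∀ j, j ≠ k' → Function.update g'.1 k' (g.1 k') j = g'.1 j :=
        fun j hj => Function.update_of_ne hj _ _
      have hSk : spanBefore R M (Function.update g'.1 k' (g.1 k')) k' = spanBefore R M g'.1 k' :=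
        spanBefore_congr _ _ _ (fun j hj => h1 j (fun h => by subst h; omega))
      have h0 : Function.update g'.1 k' (g.1 k') 0 = x := by
        by_cases h : k' = 0
        · subst h; rw [Function.update_self]; exact hg0
        · rw [h1 0 (Ne.symm h)]; exact hg0'
      have h2 : Function.update g'.1 k' (g.1 k') k' - ((1 : Rˣ) : R) • g'.1 k' ∈
          spanBefore R M (Function.update g'.1 k' (g.1 k')) k' := by
        rw [Function.update_self, Units.val_one, one_smul]
        by_cases h : k' = 0
        · subst h
          rw [hg0, hg0', sub_self]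
          exact Submodule.zero_mem _
        · have hpos : 0 < (k' : ℕ) := by
            rcases Nat.eq_zero_or_pos (k' : ℕ) with h' | h'
            · exact absurd (Fin.ext h') h
            · exact h'
          have hxmem : x ∈ spanBefore R M (Function.update g'.1 k' (g.1 k')) k' := by
            have := mem_spanBefore (R := R) (Function.update g'.1 k' (g.1 k')) 0
              (n := (k' : ℕ)) (by simpa using hpos)
            rwa [h0] at this
          exact (Submodule.span_singleton_le_iff_mem _ _).mpr hxmem (hdiff k')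
      have hS := spanBefore_eq_of_relB (Function.update g'.1 k' (g.1 k')) g'.1 k' 1 h1 h2
      have hadm : IsAdmissible R M (Function.update g'.1 k' (g.1 k')) := by
        intro j r hr
        by_cases hj : j = k'
        · subst hj
          rw [Function.update_self, hS]
          obtain ⟨t, ht⟩ := Submodule.mem_span_singleton.mp (hdiff j)
          have : r • g.1 j = r • g'.1 j := by
            have h3 : g.1 j = g'.1 j + t • x := by rw [ht]; abel
            rw [h3, smul_add, smul_comm, hx r hr, smul_zero, add_zero]
          rw [this]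
          exact g'.2 j r hr
        · rw [h1 j hj, hS]
          exact g'.2 j r hr
      have e1 := ih g ⟨Function.update g'.1 k' (g.1 k'), hadm⟩ hg0 h0
        (by
          intro j
          change g.1 j - Function.update g'.1 k' (g.1 k') j ∈ _
          by_cases hj : j = k'
          · subst hj; rw [Function.update_self, sub_self]; exact Submodule.zero_mem _
          · rw [h1 j hj]; exact hdiff j)
        (by
          intro j hj
          change g.1 j = Function.update g'.1 k' (g.1 k') j
          by_cases hjk : j = k'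
          · subst hjk; rw [Function.update_self]
          · rw [h1 j hjk]
            apply hag j
            have : (j : ℕ) ≠ k := fun h => hjk (Fin.ext (h.trans hk'.symm))
            omega)
      rw [e1]
      have e2 : (Submodule.Quotient.mk (sym R M ⟨Function.update g'.1 k' (g.1 k'), hadm⟩) :
          DetOfLen R M (l + 1)) - residue R ((1 : Rˣ) : R) • Submodule.Quotient.mk (sym R M g') = 0 := by
        rw [← Submodule.Quotient.mk_smul, ← Submodule.Quotient.mk_sub,
          Submodule.Quotient.mk_eq_zero]
        exact Submodule.subset_span (Or.inl (Or.inr ⟨⟨Function.update g'.1 k' (g.1 k'), hadm⟩, g', k', 1, h1, h2, rfl⟩))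
      rw [Units.val_one, map_one, one_smul, sub_eq_zero] at e2
      exact e2
    · exact ih g g' hg0 hg0' hdiff (fun j hj => by have := j.2; omega)

theorem isAdmissible_swap {l : ℕ} (g : Adm R M (l + 1)) (a b : Fin (l + 1))
    (hab : (b : ℕ) + 1 = a) (hga : ∀ r ∈ maximalIdeal R, r • g.1 a = 0) :
    IsAdmissible R M (g.1 ∘ Equiv.swap a b) := by
  have hne : a ≠ b := fun h => by subst h; omega
  intro j r hr
  by_cases hjb : j = b
  · subst hjb
    rw [Function.comp_apply, Equiv.swap_apply_right, hga r hr]
    exact Submodule.zero_mem _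
  · by_cases hja : j = a
    · subst hja
      rw [Function.comp_apply, Equiv.swap_apply_left]
      have h1 := g.2 b r hr
      rw [← spanBefore_comp_swap g.1 j b b (Or.inr ⟨by omega, le_rfl⟩)] at h1
      exact spanBefore_mono _ (by omega) h1
    · rw [Function.comp_apply, Equiv.swap_apply_of_ne_of_ne hja hjb]
      have hja' : (j : ℕ) ≠ a := fun h => hja (Fin.ext h)
      have hjb' : (j : ℕ) ≠ b := fun h => hjb (Fin.ext h)
      rw [spanBefore_comp_swap g.1 a b j (by
        by_cases hlt : (j : ℕ) < b
        · exact Or.inr ⟨by omega, by omega⟩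
        · exact Or.inl ⟨by omega, by omega⟩)]
      exact g.2 j r hr

include hx in
theorem mk_sym_mem_range {l : ℕ} : ∀ (n : ℕ) (g : Adm R M (l + 1)) (i : Fin (l + 1)),
    (i : ℕ) = n → g.1 i = x →
    (Submodule.Quotient.mk (sym R M g) : DetOfLen R M (l + 1)) ∈
      LinearMap.range (PhiBar x hx l) := by
  intro n
  induction n with
  | zero =>
    intro g i hi hgi
    have hi0 : i = 0 := Fin.ext hi
    subst hi0
    have hgcons : g.1 = consT x (fun j => g.1 j.succ) := by
      funext k
      refine Fin.cases ?_ (fun k' => ?_) k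
      · rw [consT_zero]; exact hgi
      · rw [consT_succ]
    have hadm : IsAdmissible R (Q (R := R) x) (pr (R := R) x ∘ fun j => g.1 j.succ) := by
      intro j r hr
      have h1 := g.2 j.succ r hr
      rw [Fin.val_succ] at h1
      rw [Function.comp_apply, ← map_smul, pr_mem_iff_cons, ← hgcons]
      exact h1
    refine ⟨Submodule.Quotient.mk (sym R (Q (R := R) x) ⟨_, hadm⟩), ?_⟩
    rw [PhiBar_mk, phi0]
    symm
    apply mk_sym_eq_of_diff x hx (l + 1) g _ hgi rfl
    · intro j
      refine Fin.cases ?_ (fun j' => ?_) j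
      · change g.1 0 - x ∈ _
        rw [hgi, sub_self]; exact Submodule.zero_mem _
      · change g.1 j'.succ - consT x (sec x ∘ (pr (R := R) x ∘ fun j => g.1 j.succ)) j'.succ ∈ _
        rw [consT_succ, Function.comp_apply, Function.comp_apply,
          ← Submodule.Quotient.mk_eq_zero, Submodule.Quotient.mk_sub, sub_eq_zero]
        exact (pr_sec x _).symm
    · intro j hj
      have := j.2
      omega
  | succ n ih =>
    intro g i hi hgi
    obtain ⟨b, hb⟩ : ∃ b : Fin (l + 1), (b : ℕ) = n := ⟨⟨n, by have := i.2; omega⟩, rfl⟩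
    have hab : (b : ℕ) + 1 = i := by omega
    have hga : ∀ r ∈ maximalIdeal R, r • g.1 i = 0 := fun r hr => by rw [hgi]; exact hx r hr
    have hadm := isAdmissible_swap g i b hab hga
    have hrel : (Submodule.Quotient.mk (sym R M g) : DetOfLen R M (l + 1)) +
        Submodule.Quotient.mk (sym R M ⟨g.1 ∘ Equiv.swap i b, hadm⟩) = 0 := by
      rw [← Submodule.Quotient.mk_add, Submodule.Quotient.mk_eq_zero]
      refine Submodule.subset_span (Or.inr ⟨g, ⟨_, hadm⟩, i, b, hab, ?_, rfl, rfl⟩)
      intro r hr
      rw [hga r hr]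
      exact Submodule.zero_mem _
    have hmem := ih ⟨g.1 ∘ Equiv.swap i b, hadm⟩ b hb (by
      change g.1 (Equiv.swap i b b) = x
      rw [Equiv.swap_apply_right]; exact hgi)
    rw [eq_neg_of_add_eq_zero_left hrel]
    exact Submodule.neg_mem _ hmem

include hx in
theorem PhiBar_surjective {l : ℕ} (hx0 : x ≠ 0)
    (hlen : Module.length R M = ((l + 1 : ℕ) : ℕ∞)) :
    Function.Surjective (PhiBar x hx l) := by
  rw [← LinearMap.range_eq_top, eq_top_iff]
  rintro w -
  obtain ⟨y, rfl⟩ := Submodule.Quotient.mk_surjective _ w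
  induction y using Finsupp.induction_linear with
  | zero => rw [Submodule.Quotient.mk_zero]; exact Submodule.zero_mem _
  | add a b ha hb => rw [Submodule.Quotient.mk_add]; exact Submodule.add_mem _ ha hb
  | single f c =>
    have hsingle : (Finsupp.single f c : Free R M (l + 1)) = c • sym R M f := by
      rw [sym, Finsupp.smul_single, smul_eq_mul, mul_one]
    rw [hsingle, Submodule.Quotient.mk_smul]
    apply Submodule.smul_mem
    by_cases hgen : x ∈ Submodule.span R (Set.range f.1)
    · obtain ⟨i, u, hc⟩ := exists_cond f.1 f.2 x hgen hx0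
      obtain ⟨f1, hf1, hrel⟩ := exists_update x hx f i u hc
      have hmem := mk_sym_mem_range x hx (i : ℕ) f1 i rfl hf1
      have : (Submodule.Quotient.mk (sym R M f) : DetOfLen R M (l + 1)) =
          (residue R (u : R))⁻¹ • Submodule.Quotient.mk (sym R M f1) := by
        rw [hrel, smul_smul, inv_mul_cancel₀ (residue_unit_ne_zero u), one_smul]
      rw [this]
      exact Submodule.smul_mem _ _ hmem
    · have hne : Submodule.span R (Set.range f.1) ≠ ⊤ := by
        intro h
        exact hgen (by rw [h]; exact Submodule.mem_top)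
      obtain ⟨a, ha⟩ := exists_mem_spanBefore_of_not_generating hlen f hne
      rw [mk_sym_eq_zero_of_mem f a ha]
      exact Submodule.zero_mem _

theorem smul_eq_zero_of_simple (hs : IsSimpleModule R (Submodule.span R {x})) :
    ∀ r ∈ maximalIdeal R, r • x = 0 := by
  intro r hr
  have hmax := IsSimpleModule.annihilator_isMaximal (R := R) (M := Submodule.span R {x})
  have heq := IsLocalRing.eq_maximalIdeal hmax
  rw [← heq, Module.mem_annihilator] at hr
  have := hr ⟨x, Submodule.mem_span_singleton_self x⟩
  exact congrArg Subtype.val this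

theorem rank_le_one_aux (l : ℕ) : ∀ (M : Type v) [AddCommGroup M] [Module R M],
    Module.length R M = (l : ℕ∞) →
    ∃ v : DetOfLen R M l, ∀ w : DetOfLen R M l, ∃ c : ResidueField R, c • v = w := by
  induction l with
  | zero =>
    intro M _ _ _
    haveI : Subsingleton (Adm R M 0) := ⟨fun a b => Subtype.ext (funext fun i => i.elim0)⟩
    let e₀ : Adm R M 0 := ⟨fun i => i.elim0, fun i => i.elim0⟩
    refine ⟨Submodule.Quotient.mk (sym R M e₀), fun w => ?_⟩
    obtain ⟨y, rfl⟩ := Submodule.Quotient.mk_surjective _ w
    refine ⟨y e₀, ?_⟩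
    rw [← Submodule.Quotient.mk_smul]
    congr 1
    ext e
    rw [Subsingleton.elim e e₀]
    simp [sym]
  | succ l ih =>
    intro M _ _ hlen
    have hfin : IsFiniteLength R M := by
      rw [← Module.length_ne_top_iff, hlen]; exact ENat.coe_ne_top _
    haveI : Nontrivial M := by
      rw [← Module.length_pos_iff (R := R), hlen]
      exact_mod_cast Nat.succ_pos l
    obtain ⟨x, hx0, hs⟩ := exists_simple_span M hfin
    have hx := smul_eq_zero_of_simple x hs
    have hlenQ := length_quot_of_simple M x hs l hlen
    obtain ⟨v', hv'⟩ := ih (Q (R := R) x) hlenQ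
    refine ⟨PhiBar x hx l v', fun w => ?_⟩
    obtain ⟨w', rfl⟩ := PhiBar_surjective x hx hx0 hlen w
    obtain ⟨c, rfl⟩ := hv' w'
    exact ⟨c, (map_smul _ _ _).symm⟩

theorem main_1838 (R : Type u) [CommRing R] [IsLocalRing R] (M : Type v) [AddCommGroup M]
    [Module R M] (hM : IsFiniteLength R M) :
    Module.rank (IsLocalRing.ResidueField R) (CycDet.Det R M) ≤ 1 := by
  have hlen : Module.length R M = ((Module.length R M).toNat : ℕ∞) :=
    (ENat.coe_toNat (Module.length_ne_top_iff.mpr hM)).symm
  exact rank_le_one_iff.mpr (rank_le_one_aux _ M hlen)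

end Part2

end Groth.Agent.Lib.R2H1.CycDetLib2
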