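/-
Determinant of a finite length module over a local ring (Stacks 42.68), part 3 (helper1, R2): functoriality detMap/detEquiv, the reduction isomorphism redEquiv : det(M) = det(M/Rx), and main_1854: the isomorphism gamma : det(K) (x) det(M) = det(L) for a short exact sequence (S1854).
-/
import Mathlib
import Groth.Agent.Lib.R2H1CycDet2

set_option autoImplicit false
set_option linter.style.haveILetI false
set_option linter.unusedSectionVars false
universe u v w

namespace Groth.Agent.Lib.R2H1.CycDetLib3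

section Part1

open IsLocalRing CycDet TensorProduct Groth.Agent.Lib.R2H1.CycDetLib Groth.Agent.Lib.R2H1.CycDetLib2

variable {R : Type u} [CommRing R] [IsLocalRing R]

section homext
variable {L : Type v} [AddCommGroup L] [Module R L]

theorem det_hom_ext {l : ℕ} {V : Type*} [AddCommGroup V] [Module (ResidueField R) V]
    (A B : DetOfLen R L l →ₗ[ResidueField R] V)
    (h : ∀ e : Adm R L l, A (Submodule.Quotient.mk (sym R L e)) = B (Submodule.Quotient.mk (sym R L e))) :
    A = B := by
  apply LinearMap.ext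
  intro w
  obtain ⟨y, rfl⟩ := Submodule.Quotient.mk_surjective _ w
  induction y using Finsupp.induction_linear with
  | zero => rw [Submodule.Quotient.mk_zero, map_zero, map_zero]
  | add a b ha hb => rw [Submodule.Quotient.mk_add, map_add, map_add, ha, hb]
  | single f c =>
    have hsingle : (Finsupp.single f c : Free R L l) = c • sym R L f := by
      rw [sym, Finsupp.smul_single, smul_eq_mul, mul_one]
    rw [hsingle, Submodule.Quotient.mk_smul, map_smul, map_smul, h f]

end homext

section functorial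
variable {L : Type v} [AddCommGroup L] [Module R L] {M : Type v} [AddCommGroup M] [Module R M]
  {N : Type v} [AddCommGroup N] [Module R N]

theorem isAdmissible_map {l : ℕ} (φ : L →ₗ[R] M) (e : Adm R L l) : IsAdmissible R M (φ ∘ e.1) := by
  intro j r hr
  have h1 := e.2 j r hr
  rw [Function.comp_apply, ← map_smul, ← spanBefore_map]
  exact Submodule.mem_map_of_mem h1

def mapAdm {l : ℕ} (φ : L →ₗ[R] M) (e : Adm R L l) : Adm R M l := ⟨φ ∘ e.1, isAdmissible_map φ e⟩

noncomputable def detMap0 (φ : L →ₗ[R] M) (l : ℕ) : Free R L l →ₗ[ResidueField R] DetOfLen R M l :=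
  Finsupp.linearCombination (ResidueField R)
    (fun e => (Submodule.Quotient.mk (sym R M (mapAdm φ e)) : DetOfLen R M l))

theorem detMap0_sym (φ : L →ₗ[R] M) {l : ℕ} (e : Adm R L l) :
    detMap0 φ l (sym R L e) = Submodule.Quotient.mk (sym R M (mapAdm φ e)) := by
  rw [detMap0, sym, Finsupp.linearCombination_single, one_smul]

theorem detMap0_relSet (φ : L →ₗ[R] M) {l : ℕ} (y : Free R L l) (hy : y ∈ relSet R L l) :
    detMap0 φ l y = 0 := by
  rcases hy with (⟨e, a, ha, rfl⟩ | ⟨e, e', a, c, h1, h2, rfl⟩) | ⟨e, e', a, b, hab, hm, he', rfl⟩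
  · rw [detMap0_sym]
    apply mk_sym_eq_zero_of_mem (mapAdm φ e) a
    change φ (e.1 a) ∈ spanBefore R M (φ ∘ e.1) a
    rw [← spanBefore_map]
    exact Submodule.mem_map_of_mem ha
  · rw [map_sub, map_smul, detMap0_sym, detMap0_sym, ← Submodule.Quotient.mk_smul,
      ← Submodule.Quotient.mk_sub, Submodule.Quotient.mk_eq_zero]
    refine Submodule.subset_span (Or.inl (Or.inr ⟨mapAdm φ e, mapAdm φ e', a, c, ?_, ?_, rfl⟩))
    · intro j hj
      change φ (e.1 j) = φ (e'.1 j)
      rw [h1 j hj]
    · change φ (e.1 a) - (c : R) • φ (e'.1 a) ∈ spanBefore R M (φ ∘ e.1) a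
      rw [← map_smul, ← map_sub, ← spanBefore_map]
      exact Submodule.mem_map_of_mem h2
  · rw [map_add, detMap0_sym, detMap0_sym, ← Submodule.Quotient.mk_add,
      Submodule.Quotient.mk_eq_zero]
    refine Submodule.subset_span (Or.inr ⟨mapAdm φ e, mapAdm φ e', a, b, hab, ?_, ?_, rfl⟩)
    · intro r hr
      change r • φ (e.1 a) ∈ spanBefore R M (φ ∘ e.1) b
      rw [← map_smul, ← spanBefore_map]
      exact Submodule.mem_map_of_mem (hm r hr)
    · change φ ∘ e'.1 = (φ ∘ e.1) ∘ Equiv.swap a b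
      rw [he']
      rfl

noncomputable def detMap (φ : L →ₗ[R] M) (l : ℕ) : DetOfLen R L l →ₗ[ResidueField R] DetOfLen R M l :=
  (Submodule.span (ResidueField R) (relSet R L l)).liftQ (detMap0 φ l)
    (Submodule.span_le.mpr (fun y hy => detMap0_relSet φ y hy))

theorem detMap_mk (φ : L →ₗ[R] M) {l : ℕ} (e : Adm R L l) :
    detMap φ l (Submodule.Quotient.mk (sym R L e)) = Submodule.Quotient.mk (sym R M (mapAdm φ e)) := by
  rw [detMap, Submodule.liftQ_apply, detMap0_sym]

noncomputable def detEquiv (φ : L ≃ₗ[R] M) (l : ℕ) :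
    DetOfLen R L l ≃ₗ[ResidueField R] DetOfLen R M l :=
  LinearEquiv.ofLinear (detMap φ.toLinearMap l) (detMap φ.symm.toLinearMap l)
    (by
      apply det_hom_ext
      intro e
      rw [LinearMap.comp_apply, detMap_mk, detMap_mk, LinearMap.id_apply]
      congr 2
      apply Subtype.ext
      funext j
      change φ (φ.symm (e.1 j)) = e.1 j
      simp)
    (by
      apply det_hom_ext
      intro e
      rw [LinearMap.comp_apply, detMap_mk, detMap_mk, LinearMap.id_apply]
      congr 2
      apply Subtype.ext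
      funext j
      change φ.symm (φ (e.1 j)) = e.1 j
      simp)

theorem detEquiv_mk (φ : L ≃ₗ[R] M) {l : ℕ} (e : Adm R L l) :
    detEquiv φ l (Submodule.Quotient.mk (sym R L e)) =
      Submodule.Quotient.mk (sym R M (mapAdm φ.toLinearMap e)) :=
  detMap_mk φ.toLinearMap e

end functorial

section red
variable {M : Type v} [AddCommGroup M] [Module R M] (x : M)
  (hx : ∀ r ∈ maximalIdeal R, r • x = 0)

theorem PsiBar_PhiBar (hx0 : x ≠ 0) (l : ℕ) :
    (PsiBar x l).comp (PhiBar x hx l) = LinearMap.id := by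
  apply det_hom_ext
  intro g
  rw [LinearMap.comp_apply, PhiBar_mk, phi0, PsiBar_mk, LinearMap.id_apply]
  have hc : Cond (R := R) (liftAdm x hx g).1 x 0 (1 : Rˣ) := by
    refine ⟨?_, ?_⟩
    · change x - ((1 : Rˣ) : R) • consT x (sec x ∘ g.1) 0 ∈ _
      rw [consT_zero, Units.val_one, one_smul, sub_self]
      exact Submodule.zero_mem _
    · change x ∉ spanBefore R M _ ((0 : Fin (l + 1)) : ℕ)
      rw [Fin.val_zero, spanBefore_zero, Submodule.mem_bot]
      exact hx0
  rw [psi_eq x _ 0 1 hc]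
  unfold psiVal
  rw [Fin.val_zero, pow_zero, Units.val_one, map_one, inv_one, one_mul, one_smul]
  congr 2
  apply Subtype.ext
  funext j
  change pr (R := R) x (consT x (sec x ∘ g.1) ((0 : Fin (l + 1)).succAbove j)) = g.1 j
  rw [Fin.succAbove_zero, consT_succ, Function.comp_apply, pr_sec]

theorem PhiBar_PsiBar (hx0 : x ≠ 0) (l : ℕ) (hlen : Module.length R M = ((l + 1 : ℕ) : ℕ∞)) :
    (PhiBar x hx l).comp (PsiBar x l) = LinearMap.id := by
  apply LinearMap.ext
  intro w
  obtain ⟨w', rfl⟩ := PhiBar_surjective x hx hx0 hlen w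
  have := LinearMap.congr_fun (PsiBar_PhiBar x hx hx0 l) w'
  rw [LinearMap.comp_apply, LinearMap.id_apply] at this
  rw [LinearMap.comp_apply, this, LinearMap.id_apply]

/-- the reduction isomorphism `det(M) ≃ det(M/Rx)` -/
noncomputable def redEquiv (hx0 : x ≠ 0) (l : ℕ)
    (hlen : Module.length R M = ((l + 1 : ℕ) : ℕ∞)) :
    DetOfLen R M (l + 1) ≃ₗ[ResidueField R] DetOfLen R (Q (R := R) x) l :=
  LinearEquiv.ofLinear (PsiBar x l) (PhiBar x hx l) (PsiBar_PhiBar x hx hx0 l)
    (PhiBar_PsiBar x hx hx0 l hlen)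

theorem redEquiv_mk (hx0 : x ≠ 0) (l : ℕ) (hlen : Module.length R M = ((l + 1 : ℕ) : ℕ∞))
    (e : Adm R M (l + 1)) :
    redEquiv x hx hx0 l hlen (Submodule.Quotient.mk (sym R M e)) = psi x e :=
  PsiBar_mk x e

end red

section prefixes
variable {N : Type w} [AddCommGroup N] [Module R N]

theorem spanBefore_eq_of_prefix {a b : ℕ} (e : Fin a → N) (e' : Fin b → N) (n : ℕ)
    (hna : n ≤ a) (hnb : n ≤ b)
    (h : ∀ (j : ℕ) (hj : j < n), e ⟨j, lt_of_lt_of_le hj hna⟩ = e' ⟨j, lt_of_lt_of_le hj hnb⟩) :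
    spanBefore R N e n = spanBefore R N e' n := by
  apply le_antisymm
  · rw [spanBefore_le_iff]
    intro k hk
    have := h k hk
    rw [this]
    exact mem_spanBefore e' ⟨k, _⟩ hk
  · rw [spanBefore_le_iff]
    intro k hk
    have := h k hk
    rw [← this]
    exact mem_spanBefore e ⟨k, _⟩ hk

theorem succAbove_cast_castAdd {k m l : ℕ} (h : k + 1 + m = l + 1) (h' : k + m = l)
    (i : Fin (k + 1)) (j : Fin k) :
    (Fin.cast h (Fin.castAdd m i)).succAbove (Fin.cast h' (Fin.castAdd m j)) =
      Fin.cast h (Fin.castAdd m (i.succAbove j)) := by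
  apply Fin.ext
  rw [succAbove_val]
  simp only [Fin.val_cast, Fin.val_castAdd]
  rw [succAbove_val]

theorem succAbove_cast_natAdd {k m l : ℕ} (h : k + 1 + m = l + 1) (h' : k + m = l)
    (i : Fin (k + 1)) (j : Fin m) :
    (Fin.cast h (Fin.castAdd m i)).succAbove (Fin.cast h' (Fin.natAdd k j)) =
      Fin.cast h (Fin.natAdd (k + 1) j) := by
  apply Fin.ext
  rw [succAbove_val]
  simp only [Fin.val_cast, Fin.val_castAdd, Fin.val_natAdd]
  have := i.2
  split_ifs <;> omega

end prefixes

end Part1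

section Part2

open IsLocalRing CycDet TensorProduct Groth.Agent.Lib.R2H1.CycDetLib Groth.Agent.Lib.R2H1.CycDetLib2

variable {R : Type u} [CommRing R] [IsLocalRing R]

theorem exists_det_zero_equiv (K : Type v) [AddCommGroup K] [Module R K] :
    ∃ D : DetOfLen R K 0 ≃ₗ[ResidueField R] ResidueField R,
      ∀ e : Adm R K 0, D (Submodule.Quotient.mk (sym R K e)) = 1 := by
  haveI : Subsingleton (Adm R K 0) := ⟨fun a b => Subtype.ext (funext fun i => i.elim0)⟩
  let e₀ : Adm R K 0 := ⟨fun i => i.elim0, fun i => i.elim0⟩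
  let ε : Free R K 0 →ₗ[ResidueField R] ResidueField R :=
    Finsupp.linearCombination (ResidueField R) (fun _ => (1 : ResidueField R))
  have hε : ∀ e : Adm R K 0, ε (sym R K e) = 1 := by
    intro e
    simp only [ε]
    rw [sym, Finsupp.linearCombination_single, one_smul]
  let D' : DetOfLen R K 0 →ₗ[ResidueField R] ResidueField R :=
    (Submodule.span (ResidueField R) (relSet R K 0)).liftQ ε (by
      rw [relSet_zero, Submodule.span_empty]; exact bot_le)
  have hD' : ∀ e : Adm R K 0, D' (Submodule.Quotient.mk (sym R K e)) = 1 := by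
    intro e
    simp only [D']
    rw [Submodule.liftQ_apply, hε]
  let inv : ResidueField R →ₗ[ResidueField R] DetOfLen R K 0 :=
    LinearMap.toSpanSingleton (ResidueField R) (DetOfLen R K 0)
      (Submodule.Quotient.mk (sym R K e₀))
  refine ⟨LinearEquiv.ofLinear D' inv ?_ ?_, fun e => hD' e⟩
  · apply LinearMap.ext_ring
    rw [LinearMap.comp_apply, LinearMap.id_apply]
    simp only [inv]
    rw [LinearMap.toSpanSingleton_apply, one_smul, hD']
  · apply det_hom_ext
    intro e
    rw [LinearMap.comp_apply, LinearMap.id_apply, hD']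
    simp only [inv]
    rw [LinearMap.toSpanSingleton_apply, one_smul, Subsingleton.elim e e₀]

theorem gamma_zero (m n : ℕ) (h : 0 + m = n) (K L M : Type v)
    [AddCommGroup K] [Module R K] [AddCommGroup L] [Module R L] [AddCommGroup M] [Module R M]
    (f : K →ₗ[R] L) (g : L →ₗ[R] M) (hg : Function.Surjective g)
    (hfg : LinearMap.range f = LinearMap.ker g) (hK : Module.length R K = ((0 : ℕ) : ℕ∞)) :
    ∃ γ : (DetOfLen R K 0 ⊗[ResidueField R] DetOfLen R M m) ≃ₗ[ResidueField R] DetOfLen R L n,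
      ∀ (eK : Adm R K 0) (eM : Adm R M m) (eL : Adm R L n),
        (Submodule.Quotient.mk (sym R K eK) : DetOfLen R K 0) ≠ 0 →
        (∀ i : Fin 0, eL.1 (Fin.cast h (Fin.castAdd m i)) = f (eK.1 i)) →
        (∀ j : Fin m, g (eL.1 (Fin.cast h (Fin.natAdd 0 j))) = eM.1 j) →
        γ (Submodule.Quotient.mk (sym R K eK) ⊗ₜ Submodule.Quotient.mk (sym R M eM)) =
          Submodule.Quotient.mk (sym R L eL) := by
  obtain rfl : m = n := by omega
  haveI : Subsingleton K := Module.length_eq_zero_iff.mp (by simpa using hK)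
  have hinj : Function.Injective g := by
    rw [← LinearMap.ker_eq_bot, ← hfg, eq_bot_iff]
    rintro _ ⟨a, rfl⟩
    rw [Subsingleton.elim a 0, map_zero]
    exact Submodule.zero_mem _
  let gE : L ≃ₗ[R] M := LinearEquiv.ofBijective g ⟨hinj, hg⟩
  obtain ⟨D, hD⟩ := exists_det_zero_equiv (R := R) K
  refine ⟨(TensorProduct.congr D (detEquiv gE.symm m)) ≪≫ₗ
    TensorProduct.lid (ResidueField R) (DetOfLen R L m), ?_⟩
  intro eK eM eL _ _ hc2
  rw [LinearEquiv.trans_apply, TensorProduct.congr_tmul, TensorProduct.lid_tmul, hD, one_smul,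
    detEquiv_mk]
  congr 2
  apply Subtype.ext
  funext j
  change gE.symm (eM.1 j) = eL.1 j
  rw [← hc2 j, LinearEquiv.symm_apply_eq]
  have : Fin.cast h (Fin.natAdd 0 j) = j := Fin.ext (by simp)
  rw [this]
  rfl

theorem gamma_aux (k : ℕ) : ∀ (m n : ℕ) (h : k + m = n) (K L M : Type v)
    [AddCommGroup K] [Module R K] [AddCommGroup L] [Module R L] [AddCommGroup M] [Module R M]
    (f : K →ₗ[R] L) (g : L →ₗ[R] M), Function.Injective f → Function.Surjective g →
    LinearMap.range f = LinearMap.ker g → Module.length R K = (k : ℕ∞) →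
    Module.length R L = (n : ℕ∞) →
    ∃ γ : (DetOfLen R K k ⊗[ResidueField R] DetOfLen R M m) ≃ₗ[ResidueField R] DetOfLen R L n,
      ∀ (eK : Adm R K k) (eM : Adm R M m) (eL : Adm R L n),
        (Submodule.Quotient.mk (sym R K eK) : DetOfLen R K k) ≠ 0 →
        (∀ i : Fin k, eL.1 (Fin.cast h (Fin.castAdd m i)) = f (eK.1 i)) →
        (∀ j : Fin m, g (eL.1 (Fin.cast h (Fin.natAdd k j))) = eM.1 j) →
        γ (Submodule.Quotient.mk (sym R K eK) ⊗ₜ Submodule.Quotient.mk (sym R M eM)) =
          Submodule.Quotient.mk (sym R L eL) := by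
  induction k with
  | zero =>
    intro m n h K L M _ _ _ _ _ _ f g _ hg hfg hK _
    exact gamma_zero m n h K L M f g hg hfg hK
  | succ k ih =>
    intro m n h K L M _ _ _ _ _ _ f g hf hg hfg hK hL
    obtain ⟨l, rfl⟩ : ∃ l, n = l + 1 := ⟨k + m, by omega⟩
    have h' : k + m = l := by omega
    have hfinK : IsFiniteLength R K := by
      rw [← Module.length_ne_top_iff, hK]; exact ENat.coe_ne_top _
    haveI : Nontrivial K := by
      rw [← Module.length_pos_iff (R := R), hK]
      exact_mod_cast Nat.succ_pos k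
    obtain ⟨x₀, hx₀0, hs⟩ := exists_simple_span K hfinK
    have hx₀ := smul_eq_zero_of_simple x₀ hs
    obtain ⟨y₀, hy₀def⟩ : ∃ y₀ : L, y₀ = f x₀ := ⟨_, rfl⟩
    have hy₀0 : y₀ ≠ 0 := by
      rw [hy₀def]
      intro h0
      exact hx₀0 (hf (by rw [h0, map_zero]))
    have hy₀ : ∀ r ∈ maximalIdeal R, r • y₀ = 0 := by
      intro r hr
      rw [hy₀def, ← map_smul, hx₀ r hr, map_zero]
    have hmap : (Submodule.span R {x₀}).map f = Submodule.span R {y₀} := by
      rw [Submodule.map_span, Set.image_singleton, hy₀def]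
    have hs' : IsSimpleModule R (Submodule.span R {y₀}) := by
      haveI := hs
      have : IsSimpleModule R ((Submodule.span R {x₀}).map f) :=
        IsSimpleModule.congr (Submodule.equivMapOfInjective f hf (Submodule.span R {x₀})).symm
      rw [hmap] at this
      exact this
    have hK' := length_quot_of_simple K x₀ hs k hK
    have hL' := length_quot_of_simple L y₀ hs' l hL
    have hle1 : Submodule.span R {x₀} ≤ (Submodule.span R {y₀}).comap f := by
      rw [Submodule.span_le, Set.singleton_subset_iff]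
      change f x₀ ∈ Submodule.span R {y₀}
      rw [hy₀def]
      exact Submodule.mem_span_singleton_self _
    have hle2 : Submodule.span R {y₀} ≤ LinearMap.ker g := by
      rw [Submodule.span_le, Set.singleton_subset_iff, hy₀def, ← hfg]
      exact ⟨x₀, rfl⟩
    obtain ⟨f', hf'def⟩ : ∃ f' : Q (R := R) x₀ →ₗ[R] Q (R := R) y₀,
        f' = Submodule.mapQ (Submodule.span R {x₀}) (Submodule.span R {y₀}) f hle1 := ⟨_, rfl⟩
    obtain ⟨g', hg'def⟩ : ∃ g' : Q (R := R) y₀ →ₗ[R] M,
        g' = (Submodule.span R {y₀}).liftQ g hle2 := ⟨_, rfl⟩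
    have hf'apply : ∀ a : K, f' (pr (R := R) x₀ a) = pr (R := R) y₀ (f a) := by
      intro a; rw [hf'def]; rfl
    have hg'apply : ∀ b : L, g' (pr (R := R) y₀ b) = g b := by
      intro b; rw [hg'def]; rfl
    have hf'inj : Function.Injective f' := by
      rw [injective_iff_map_eq_zero]
      intro w hw
      obtain ⟨a, rfl⟩ := Submodule.Quotient.mk_surjective _ w
      change f' (pr (R := R) x₀ a) = 0 at hw
      rw [hf'apply, Submodule.mkQ_apply, Submodule.Quotient.mk_eq_zero, ← hmap] at hw
      obtain ⟨t, ht, hta⟩ := Submodule.mem_map.mp hw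
      rw [Submodule.Quotient.mk_eq_zero, ← hf hta]
      exact ht
    have hg'surj : Function.Surjective g' := by
      intro z
      obtain ⟨b, rfl⟩ := hg z
      exact ⟨pr (R := R) y₀ b, hg'apply b⟩
    have hfg' : LinearMap.range f' = LinearMap.ker g' := by
      ext w
      obtain ⟨b, rfl⟩ := Submodule.Quotient.mk_surjective _ w
      change pr (R := R) y₀ b ∈ _ ↔ pr (R := R) y₀ b ∈ _
      rw [LinearMap.mem_ker, hg'apply]
      constructor
      · rintro ⟨w', hw'⟩
        obtain ⟨a, rfl⟩ := Submodule.Quotient.mk_surjective _ w'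
        change f' (pr (R := R) x₀ a) = _ at hw'
        rw [hf'apply] at hw'
        have h1 : g (f a) = 0 := by
          rw [← LinearMap.mem_ker, ← hfg]; exact ⟨a, rfl⟩
        rw [← hg'apply, ← hw', hg'apply, h1]
      · intro hgb
        have : b ∈ LinearMap.range f := by rw [hfg]; exact hgb
        obtain ⟨a, rfl⟩ := this
        exact ⟨pr (R := R) x₀ a, hf'apply a⟩
    obtain ⟨γ', hγ'⟩ := ih m l h' (Q (R := R) x₀) (Q (R := R) y₀) M f' g' hf'inj hg'surj hfg'
      hK' hL'
    obtain ⟨EK, hEK⟩ : ∃ EK : DetOfLen R K (k + 1) ≃ₗ[ResidueField R] DetOfLen R (Q (R := R) x₀) k,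
        ∀ e, EK (Submodule.Quotient.mk (sym R K e)) = psi x₀ e :=
      ⟨redEquiv x₀ hx₀ hx₀0 k hK, redEquiv_mk x₀ hx₀ hx₀0 k hK⟩
    obtain ⟨EL, hEL⟩ : ∃ EL : DetOfLen R L (l + 1) ≃ₗ[ResidueField R] DetOfLen R (Q (R := R) y₀) l,
        ∀ e, EL (Submodule.Quotient.mk (sym R L e)) = psi y₀ e :=
      ⟨redEquiv y₀ hy₀ hy₀0 l hL, redEquiv_mk y₀ hy₀ hy₀0 l hL⟩
    refine ⟨(TensorProduct.congr EK (LinearEquiv.refl (ResidueField R) (DetOfLen R M m))) ≪≫ₗ
      γ' ≪≫ₗ EL.symm, ?_⟩
    intro eK eM eL hne hc1 hc2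
    -- eK generates
    have hgenK : Submodule.span R (Set.range eK.1) = ⊤ := by
      by_contra hnot
      obtain ⟨a, ha⟩ := exists_mem_spanBefore_of_not_generating hK eK hnot
      exact hne (mk_sym_eq_zero_of_mem eK a ha)
    obtain ⟨i, u, hc⟩ := exists_cond eK.1 eK.2 x₀ (by rw [hgenK]; exact Submodule.mem_top) hx₀0
    obtain ⟨iL, hiLdef⟩ : ∃ iL : Fin (l + 1), iL = Fin.cast h (Fin.castAdd m i) := ⟨_, rfl⟩
    have hiLval : (iL : ℕ) = i := by rw [hiLdef]; simp
    have heLi : eL.1 iL = f (eK.1 i) := by rw [hiLdef]; exact hc1 i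
    have hSi : spanBefore R L eL.1 (iL : ℕ) = (spanBefore R K eK.1 (i : ℕ)).map f := by
      rw [spanBefore_map, hiLval]
      apply spanBefore_eq_of_prefix eL.1 (f ∘ eK.1) (i : ℕ) (by have := i.2; omega)
        (by have := i.2; omega)
      intro j hj
      have := hc1 ⟨j, by have := i.2; omega⟩
      change eL.1 ⟨j, _⟩ = f (eK.1 ⟨j, _⟩)
      rw [← this]
      congr 1
    have hcL : Cond eL.1 y₀ iL u := by
      refine ⟨?_, ?_⟩
      · rw [hSi, heLi, hy₀def, ← map_smul, ← map_sub]
        exact Submodule.mem_map_of_mem hc.1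
      · rw [hSi, hy₀def]
        intro hmem
        obtain ⟨t, ht, htx⟩ := Submodule.mem_map.mp hmem
        rw [hf htx] at ht
        exact hc.2 ht
    rw [LinearEquiv.trans_apply, LinearEquiv.trans_apply, TensorProduct.congr_tmul,
      LinearEquiv.refl_apply, LinearEquiv.symm_apply_eq, hEK, hEL, psi_eq x₀ eK i u hc,
      psi_eq y₀ eL iL u hcL]
    unfold psiVal
    have hne' : (Submodule.Quotient.mk (sym R (Q (R := R) x₀)
        (remAdm x₀ eK i (pr_mem_of_cond x₀ eK.1 i u hc))) : DetOfLen R (Q (R := R) x₀) k) ≠ 0 := by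
      intro h0
      apply hne
      have h1 := hEK eK
      rw [psi_eq x₀ eK i u hc] at h1
      unfold psiVal at h1
      rw [h0, smul_zero] at h1
      exact (LinearEquiv.map_eq_zero_iff EK).mp h1
    have hP := hγ' (remAdm x₀ eK i (pr_mem_of_cond x₀ eK.1 i u hc)) eM
      (remAdm y₀ eL iL (pr_mem_of_cond y₀ eL.1 iL u hcL)) hne'
      (by
        intro j
        change pr (R := R) y₀ (eL.1 (iL.succAbove (Fin.cast h' (Fin.castAdd m j)))) =
          f' (pr (R := R) x₀ (eK.1 (i.succAbove j)))
        rw [hiLdef, succAbove_cast_castAdd h h' i j, hc1 (i.succAbove j), hf'apply])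
      (by
        intro j
        change g' (pr (R := R) y₀ (eL.1 (iL.succAbove (Fin.cast h' (Fin.natAdd k j))))) = eM.1 j
        rw [hiLdef, succAbove_cast_natAdd h h' i j, hg'apply]
        exact hc2 j)
    rw [← TensorProduct.smul_tmul', map_smul, hP, hiLval]

theorem main_1854 (R : Type u) [CommRing R] [IsLocalRing R] (K L M : Type u) [AddCommGroup K]
    [Module R K] [AddCommGroup L] [Module R L] [AddCommGroup M] [Module R M]
    (hK : IsFiniteLength R K) (hM : IsFiniteLength R M) (f : K →ₗ[R] L) (g : L →ₗ[R] M)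
    (hf : Function.Injective f) (hg : Function.Surjective g)
    (hfg : LinearMap.range f = LinearMap.ker g)
    (hlen : (Module.length R K).toNat + (Module.length R M).toNat = (Module.length R L).toNat) :
    ∃ γ : (CycDet.Det R K ⊗[IsLocalRing.ResidueField R] CycDet.Det R M) ≃ₗ[IsLocalRing.ResidueField R]
        CycDet.Det R L,
      ∀ (eK : CycDet.Adm R K (Module.length R K).toNat)
        (eM : CycDet.Adm R M (Module.length R M).toNat)
        (eL : CycDet.Adm R L (Module.length R L).toNat), CycDet.symbol R K eK ≠ 0 →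
        (∀ i : Fin (Module.length R K).toNat,
          eL.1 (Fin.cast hlen (Fin.castAdd (Module.length R M).toNat i)) = f (eK.1 i)) →
        (∀ j : Fin (Module.length R M).toNat,
          g (eL.1 (Fin.cast hlen (Fin.natAdd (Module.length R K).toNat j))) = eM.1 j) →
        γ (CycDet.symbol R K eK ⊗ₜ CycDet.symbol R M eM) = CycDet.symbol R L eL := by
  have hlenK : Module.length R K = ((Module.length R K).toNat : ℕ∞) :=
    (ENat.coe_toNat (Module.length_ne_top_iff.mpr hK)).symm
  have hlenM : Module.length R M = ((Module.length R M).toNat : ℕ∞) :=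
    (ENat.coe_toNat (Module.length_ne_top_iff.mpr hM)).symm
  have hadd := Module.length_eq_add_of_exact f g hf hg (LinearMap.exact_iff.mpr hfg.symm)
  have hlenL : Module.length R L = ((Module.length R L).toNat : ℕ∞) := by
    apply (ENat.coe_toNat _).symm
    rw [hadd, hlenK, hlenM]
    exact ENat.coe_ne_top _
  exact gamma_aux _ _ _ hlen K L M f g hf hg hfg hlenK hlenL

end Part2

end Groth.Agent.Lib.R2H1.CycDetLib3
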