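import Mathlib
import Groth.Agent.Lib.R2H1DblCoverFF
import Groth.Agent.Lib.Helper18Trace5
import Groth.Agent.Lib.R2H1InvHom
set_option backward.isDefEq.respectTransparency.types false

/-!
helper1 (round 2): the trace of a double cover of P^1. oneSec, tauOne, tau_unit_apply (tau o unit = multiplication by tau(1)), exists_section (tau split epi when tau(1) is a unit), finrank_global_eq_one_of_isAlgClosed, exists_basis (Gamma(r^-1 D+(T0)) free of rank 2 over Gamma(D+(T0))), deg_kernel_trace (deg ker tau = -g-1 when 2 is invertible).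
-/

set_option autoImplicit false
set_option linter.style.haveILetI false
set_option linter.unusedSectionVars false
universe u v

open CategoryTheory CategoryTheory.Limits AlgebraicGeometry TopologicalSpace Opposite

namespace Groth.Agent.Lib.R2H1.DblCoverTrace

section Part1

open Groth.Agent.Helper18Trace

section Split

variable {X Y : Scheme.{u}} (h : X ⟶ Y)
  (τ : (Scheme.Modules.pushforward h).obj (Coh.structureModule X) ⟶ Coh.structureModule Y)

/-- the unit section of `h_* O_X` -/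
noncomputable def oneSec (U : Y.Opens) :
    Γ((Scheme.Modules.pushforward h).obj (Coh.structureModule X), U) := (1 : Γ(X, h ⁻¹ᵁ U))

/-- the function `τ(1)` on `U` -/
noncomputable def tauOne (U : Y.Opens) : Γ(Y, U) := (τ.val.app (op U)).hom (oneSec h U)

theorem tauOne_res (U : Y.Opens) : tauOne h τ U = resTop (tauOne h τ ⊤) U := by
  have h3 := Groth.Agent.Lib.R2H1.InvHom.app_res τ (le_top : U ≤ ⊤) (oneSec h ⊤)
  have h4 : Groth.Agent.Lib.R2H1.InvHom.res
      ((Scheme.Modules.pushforward h).obj (Coh.structureModule X)) (le_top : U ≤ ⊤)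
      (oneSec h ⊤) = oneSec h U := by
    change (X.presheaf.map (homOfLE (show h ⁻¹ᵁ U ≤ h ⁻¹ᵁ ⊤ from fun _ _ => trivial)).op).hom 1 = 1
    rw [map_one]
  rw [h4] at h3
  exact h3

/-- `τ ∘ unit` is multiplication by `τ(1)` -/
theorem tau_unit_apply (U : Y.Opens) (r : Γ(Y, U)) :
    (τ.val.app (op U)).hom (((ClSub.unitToPush h).val.app (op U)).hom r) =
      r * resTop (tauOne h τ ⊤) U := by
  have h1 : ((ClSub.unitToPush h).val.app (op U)).hom r = r • oneSec h U := by
    change ((h.app U).hom r : Γ(X, h ⁻¹ᵁ U)) = ((h.app U).hom r : Γ(X, h ⁻¹ᵁ U)) * 1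
    rw [mul_one]
  rw [h1]
  refine ((τ.val.app (op U)).hom.map_smul r (oneSec h U)).trans ?_
  rw [← tauOne_res]
  rfl

theorem section_apply (hc : IsUnit (tauOne h τ ⊤)) (U : Y.Opens) (s : Γ(Y, U)) :
    (τ.val.app (op U)).hom (((ClSub.unitToPush h).val.app (op U)).hom
      (resTop (↑hc.unit⁻¹ : Γ(Y, ⊤)) U * s)) = s := by
  rw [tau_unit_apply, mul_comm (resTop _ U) s, mul_assoc]
  have h2 : (↑hc.unit⁻¹ : Γ(Y, ⊤)) * tauOne h τ ⊤ = 1 := hc.val_inv_mul
  have h3 := congrArg (Y.presheaf.map (homOfLE (le_top : U ≤ ⊤)).op).hom h2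
  rw [map_mul, map_one] at h3
  unfold resTop
  rw [h3, mul_one]

/-- if `τ(1)` is a unit, `τ` has a section -/
theorem exists_section (hc : IsUnit (tauOne h τ ⊤)) :
    ∃ σ : Coh.structureModule Y ⟶ (Scheme.Modules.pushforward h).obj (Coh.structureModule X),
      σ ≫ τ = 𝟙 _ := by
  refine ⟨mulEnd (↑hc.unit⁻¹ : Γ(Y, ⊤)) ≫ ClSub.unitToPush h, ?_⟩
  apply Scheme.Modules.hom_ext
  intro U
  ext s
  exact section_apply h τ hc U s

end Split

section AlgClosed

open Groth.Agent.Lib.H9SteinAlg Groth.Agent.Lib.H9SteinConn Groth.Agent.Lib.H9NormFin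

/-- global functions on a proper reduced connected scheme over an algebraically closed field are
the constants -/
theorem finrank_global_eq_one_of_isAlgClosed (k : Type u) [Field k] [IsAlgClosed k]
    {X : Scheme.{u}} (f : X ⟶ Spec (CommRingCat.of k)) [IsProper f] [IsReduced X]
    [ConnectedSpace X] :
    letI := algΓ k f
    Module.finrank k Γ(X, ⊤) = 1 := by
  letI := algΓ k f
  haveI : Module.Finite k Γ(X, ⊤) := finite_toGlobal k f
  obtain ⟨hne, hti⟩ := (connectedSpace_iff_trivIdem X).mp inferInstance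
  haveI := hne
  haveI : Nontrivial Γ(X, ⊤) := nontrivial_of_nonempty X
  haveI : _root_.IsReduced Γ(X, ⊤) := inferInstance
  haveI : IsArtinianRing Γ(X, ⊤) := IsArtinianRing.of_finite k Γ(X, ⊤)
  haveI : IsLocalRing Γ(X, ⊤) := isLocalRing_of_trivIdem hti
  have hfield : IsField Γ(X, ⊤) := IsArtinianRing.isField_of_isReduced_of_isLocalRing _
  haveI : IsDomain Γ(X, ⊤) := hfield.isDomain
  haveI : Algebra.IsIntegral k Γ(X, ⊤) := Algebra.IsIntegral.of_finite k _
  have hbij : Function.Bijective (algebraMap k Γ(X, ⊤)) :=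
    IsAlgClosed.algebraMap_bijective_of_isIntegral
  have := (LinearEquiv.ofBijective (Algebra.linearMap k Γ(X, ⊤)) hbij).finrank_eq
  rw [← this, Module.finrank_self]

end AlgClosed


open Groth.Agent.Helper18Trace
open Groth.Agent.Helper13ProjUP Groth.Agent.Helper13Dehom
open Groth.Agent.Lib.Helper6
open Groth.Agent.Lib.R2H1.PoleFilt Groth.Agent.Lib.R2H1.DblCoverGeom Groth.Agent.Lib.R2H1.DblCoverFF
open Groth.Agent.Lib.R2H1.DegPullback Groth.Agent.Lib.R2H1.IsoP1 Groth.Agent.Lib.R2H1.CurveEuler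
open Groth.Agent.Lib.R2H1.PicPn Groth.Agent.Lib.R2H1.BirDeg Groth.Agent.Lib.R2H1.EulerAdd

section Basis

variable (k : Type u) [Field k] (X : Scheme.{u}) [X.Over (Spec (CommRingCat.of k))]
  [IsProper (X ↘ Spec (CommRingCat.of k))] [Smooth (X ↘ Spec (CommRingCat.of k))]
  [GeometricallyConnected (X ↘ Spec (CommRingCat.of k))]

attribute [local instance] algU

/-- over the chart `D₊(T₀)` the functions of a double cover are free of rank two -/
theorem exists_basis [IsIntegral X] (hdim : topologicalKrullDim X = 1)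
    (hX0 : Module.finrank k (Coh.HH X (Coh.structureModule X) 0) = 1)
    (r : X ⟶ Proj (CohB1.polyGrading 1 k))
    (hr : r ≫ Groth.Agent.Helper13ProjUP.toBase (CohB1.polyGrading 1 k) =
      X ↘ Spec (CommRingCat.of k)) [IsFinite r]
    (hres : r.residueDegree (genericPoint X) = 2) :
    letI : Algebra Γ(Proj (CohB1.polyGrading 1 k),
        Proj.basicOpen (CohB1.polyGrading 1 k) (MvPolynomial.X 0))
      Γ(X, r ⁻¹ᵁ Proj.basicOpen (CohB1.polyGrading 1 k) (MvPolynomial.X 0)) :=
      (r.app (Proj.basicOpen (CohB1.polyGrading 1 k) (MvPolynomial.X 0))).hom.toAlgebra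
    Nonempty (Module.Basis (Fin 2) Γ(Proj (CohB1.polyGrading 1 k),
        Proj.basicOpen (CohB1.polyGrading 1 k) (MvPolynomial.X 0))
      Γ(X, r ⁻¹ᵁ Proj.basicOpen (CohB1.polyGrading 1 k) (MvPolynomial.X 0))) := by
  letI : Algebra Γ(Proj (CohB1.polyGrading 1 k),
        Proj.basicOpen (CohB1.polyGrading 1 k) (MvPolynomial.X 0))
      Γ(X, r ⁻¹ᵁ Proj.basicOpen (CohB1.polyGrading 1 k) (MvPolynomial.X 0)) :=
      (r.app (Proj.basicOpen (CohB1.polyGrading 1 k) (MvPolynomial.X 0))).hom.toAlgebra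
  obtain ⟨y, P, Q, c1, c2, c3, c4, -⟩ := geom_main k X hdim hX0 r hr hres
  have hsm : ∀ (b : Γ(Proj (CohB1.polyGrading 1 k),
        Proj.basicOpen (CohB1.polyGrading 1 k) (MvPolynomial.X 0)))
      (a : Γ(X, r ⁻¹ᵁ Proj.basicOpen (CohB1.polyGrading 1 k) (MvPolynomial.X 0))),
      b • a = (r.app (Proj.basicOpen (CohB1.polyGrading 1 k) (MvPolynomial.X 0))).hom b * a :=
    fun b a => rfl
  have hli : LinearIndependent Γ(Proj (CohB1.polyGrading 1 k),
        Proj.basicOpen (CohB1.polyGrading 1 k) (MvPolynomial.X 0))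
      (![1, y] : Fin 2 → Γ(X, r ⁻¹ᵁ Proj.basicOpen (CohB1.polyGrading 1 k) (MvPolynomial.X 0))) := by
    rw [LinearIndependent.pair_iff]
    intro s t hst
    obtain ⟨u, rfl⟩ := π₀_surjective s
    obtain ⟨v, rfl⟩ := π₀_surjective t
    rw [hsm, hsm, mul_one, ← aeval_ratio_eq r hr, ← aeval_ratio_eq r hr] at hst
    obtain ⟨hu, hv⟩ := c3 u v hst
    rw [hu, hv, map_zero]
    exact ⟨rfl, rfl⟩
  have hsp : ⊤ ≤ Submodule.span Γ(Proj (CohB1.polyGrading 1 k),
        Proj.basicOpen (CohB1.polyGrading 1 k) (MvPolynomial.X 0))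
      (Set.range (![1, y] : Fin 2 →
        Γ(X, r ⁻¹ᵁ Proj.basicOpen (CohB1.polyGrading 1 k) (MvPolynomial.X 0)))) := by
    intro a _
    obtain ⟨u, v, rfl⟩ := c4 a
    rw [aeval_ratio_eq r hr, aeval_ratio_eq r hr]
    refine Submodule.add_mem _ ?_ ?_
    · have : (r.app (Proj.basicOpen (CohB1.polyGrading 1 k) (MvPolynomial.X 0))).hom (π₀ u) =
          (π₀ u) • (1 : Γ(X, r ⁻¹ᵁ Proj.basicOpen (CohB1.polyGrading 1 k) (MvPolynomial.X 0))) := by
        rw [hsm, mul_one]
      rw [this]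
      exact Submodule.smul_mem _ _ (Submodule.subset_span ⟨0, rfl⟩)
    · have : (r.app (Proj.basicOpen (CohB1.polyGrading 1 k) (MvPolynomial.X 0))).hom (π₀ v) * y =
          (π₀ v) • y := (hsm _ _).symm
      rw [this]
      exact Submodule.smul_mem _ _ (Submodule.subset_span ⟨1, rfl⟩)
  exact ⟨Module.Basis.mk hli hsp⟩

end Basis


open Groth.Agent.Helper18Trace
open Groth.Agent.Helper13ProjUP Groth.Agent.Helper13Dehom
open Groth.Agent.Lib.Helper6
open Groth.Agent.Lib.R2H1.PoleFilt Groth.Agent.Lib.R2H1.DblCoverGeom Groth.Agent.Lib.R2H1.DblCoverFF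
open Groth.Agent.Lib.R2H1.DegPullback Groth.Agent.Lib.R2H1.IsoP1 Groth.Agent.Lib.R2H1.CurveEuler
open Groth.Agent.Lib.R2H1.PicPn Groth.Agent.Lib.R2H1.BirDeg Groth.Agent.Lib.R2H1.EulerAdd
open Groth.Agent.Lib.R2H1.GenusLe

section Main

variable (k : Type u) [Field k] (X : Scheme.{u}) [X.Over (Spec (CommRingCat.of k))]
  [IsProper (X ↘ Spec (CommRingCat.of k))] [Smooth (X ↘ Spec (CommRingCat.of k))]
  [GeometricallyConnected (X ↘ Spec (CommRingCat.of k))]

/-- the degree of the kernel of the trace of a double cover of the projective line -/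
theorem deg_kernel_trace [IsIntegral X] (h2 : (2 : k) ≠ 0) (hdim : topologicalKrullDim X = 1)
    (hX0 : Module.finrank k (Coh.HH X (Coh.structureModule X) 0) = 1)
    (r : X ⟶ CohB1.ProjSpace 1 k)
    (hr : r ≫ CohB1.ProjSpace.toSpec 1 k = X ↘ Spec (CommRingCat.of k)) [IsFinite r]
    (hres : r.residueDegree (genericPoint X) = 2)
    (τ : (Scheme.Modules.pushforward r).obj (Coh.structureModule X) ⟶
      Coh.structureModule (CohB1.ProjSpace 1 k))
    (hτ : FinCov.IsTraceHom r τ) :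
    Curv2.deg k (CohB1.ProjSpace 1 k) (kernel τ) 1 = -((Curv2.genus k X : ℤ) + 1) := by
  haveI := isNoetherian_of_proper k X
  haveI := isIntegral_P1k k
  haveI := isProper_P1k k
  have hdimP := dim_P1k k
  haveI := isNoetherian_of_proper k (CohB1.ProjSpace 1 k)
  have hfin : @IsFinite X (Proj (CohB1.polyGrading 1 k)) r := ‹IsFinite r›
  -- the trace of `1` on the chart
  have hU₀ : IsAffineOpen (LefPen.chart 1 k 0) :=
    isAffineOpen_basicOpen (hT (k := k) 0)
  letI : Algebra Γ(CohB1.ProjSpace 1 k, LefPen.chart 1 k 0) Γ(X, r ⁻¹ᵁ LefPen.chart 1 k 0) :=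
      (r.app (LefPen.chart 1 k 0)).hom.toAlgebra
  obtain ⟨b'⟩ := @exists_basis k _ X _ _ _ _ _ hdim hX0 r hr hfin hres
  have b : Module.Basis (Fin 2) Γ(CohB1.ProjSpace 1 k, LefPen.chart 1 k 0)
    Γ(X, r ⁻¹ᵁ LefPen.chart 1 k 0) := b'
  have h1 : tauOne r τ (LefPen.chart 1 k 0) = 2 := by
    have h3 := hτ _ hU₀ (Module.Free.of_basis b) (Module.Finite.of_basis b) 1
    have h4 := Algebra.trace_algebraMap_of_basis b 1
    rw [map_one] at h4
    refine h3.trans (h4.trans ?_)
    rw [Fintype.card_fin, nsmul_eq_mul, mul_one]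
    rfl
  -- the global function `τ(1)` is `2`
  have hne : ((LefPen.chart 1 k 0 : (CohB1.ProjSpace 1 k).Opens) :
      Set (CohB1.ProjSpace 1 k)).Nonempty := by
    obtain ⟨⟨z, hz⟩⟩ := nonempty_U 1 k 0
    exact ⟨z, hz⟩
  have h5 : tauOne r τ ⊤ = 2 := by
    apply Groth.Agent.Lib.R2H4TrivInt.resf_injective le_top hne
    have := tauOne_res r τ (LefPen.chart 1 k 0)
    rw [h1] at this
    change resTop _ _ = resf le_top 2
    rw [← this]
    exact (map_ofNat _ 2).symm
  have hc : IsUnit (tauOne r τ ⊤) := by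
    rw [h5]
    have : (2 : Γ(CohB1.ProjSpace 1 k, ⊤)) =
        Coh.toGlobal (CohB1.ProjSpace.toSpec 1 k) (2 : k) :=
      (map_ofNat _ 2).symm
    rw [this]
    exact (IsUnit.mk0 _ h2).map _
  obtain ⟨σ, hσ⟩ := exists_section r τ hc
  haveI : Epi τ := by
    haveI : Epi (σ ≫ τ) := by rw [hσ]; infer_instance
    exact epi_of_epi σ τ
  -- the short exact sequence
  have hS : (ShortComplex.mk (kernel.ι τ) τ (kernel.condition τ)).ShortExact :=
    { exact := ShortComplex.exact_kernel τ }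
  have cO := isCoh_structureModule X
  have cOP := isCoh_structureModule (CohB1.ProjSpace 1 k)
  have cA : Coh.IsCoh ((Scheme.Modules.pushforward r).obj (Coh.structureModule X)) :=
    Groth.Agent.S0019.result r _ cO
  have cK : Coh.IsCoh (kernel τ) := Groth.Agent.Lib.R2H2.PdSheaf.isCoh_kernel cA cOP τ
  have e1 := s1524 k (CohB1.ProjSpace 1 k) _ hS cK cA cOP
  have e2 := euler_push k r hr (Coh.structureModule X) cO.1
  have e3 := euler_eq_h0_sub_h1 k X hdim.le _ cO.1
  have e4 : Curv2.euler k (CohB1.ProjSpace 1 k) (Coh.structureModule (CohB1.ProjSpace 1 k)) = 1 :=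
    Groth.Agent.Lib.R2H1.EllPt.euler_structure_of_iso_P1 k (CohB1.ProjSpace 1 k) hdimP (Iso.refl _)
      (Category.id_comp _)
  unfold Curv2.deg
  unfold Curv2.genus
  rw [hX0] at e3
  change Curv2.euler k (CohB1.ProjSpace 1 k) ((Scheme.Modules.pushforward r).obj (Coh.structureModule X)) =
    Curv2.euler k (CohB1.ProjSpace 1 k) (kernel τ) +
      Curv2.euler k (CohB1.ProjSpace 1 k) (Coh.structureModule (CohB1.ProjSpace 1 k)) at e1
  push_cast at e3 ⊢
  linarith

end Main

end Part1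

end Groth.Agent.Lib.R2H1.DblCoverTrace
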