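/-
Henselization of a normal domain via the decomposition field (helper1, round 2).
For R a domain with fraction field K, Ks a separable closure, Ps a maximal ideal of the integral
closure Rs of R in Ks: `Dgrp` is the decomposition group (closed: `Dgrp_isClosed`), `At` the
localization of Rs at Ps inside Ks (henselian: `At_henselian`), `exists_mul_mem` the orbit-product
trick, and `henselian_of_le`: for any intermediate field L containing the fixed field of the
decomposition group, the localization of the integral closure of R in L at Ps ∩ L is henselian.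
`main_11105` (decomposition field), `main_11106` (inertia field).
-/
import Mathlib
import Groth.Agent.Lib.Helper18NormalSepClosed3

set_option autoImplicit false
set_option linter.style.haveILetI false
set_option linter.unusedSectionVars false
universe u

namespace Groth.Agent.Lib.R2H1.DecompHensel

section Part1

open IsLocalRing

section Decomp

variable (R K Ks : Type u) [CommRing R] [IsDomain R]
    [Field K] [Algebra R K] [IsFractionRing R K]
    [Field Ks] [Algebra K Ks] [Algebra R Ks] [IsScalarTower R K Ks]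
    (Ps : Ideal (integralClosure R Ks))

/-- the underlying set of `Ps` inside `Ks`. -/
def Pset : Set Ks := {x | ∃ h : x ∈ integralClosure R Ks, (⟨x, h⟩ : integralClosure R Ks) ∈ Ps}

variable {R K Ks}

theorem mem_Pset {x : Ks} : x ∈ Pset R Ks Ps ↔
    ∃ h : x ∈ integralClosure R Ks, (⟨x, h⟩ : integralClosure R Ks) ∈ Ps := Iff.rfl

theorem coe_mem_Pset {x : integralClosure R Ks} : (x : Ks) ∈ Pset R Ks Ps ↔ x ∈ Ps :=
  ⟨fun ⟨_, h⟩ => h, fun h => ⟨x.2, h⟩⟩

/-- automorphisms preserve integrality. -/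
theorem map_mem_integralClosure (σ : Ks ≃ₐ[K] Ks) {x : Ks} (hx : x ∈ integralClosure R Ks) :
    σ x ∈ integralClosure R Ks :=
  IsIntegral.map (σ.restrictScalars R) hx

variable (R K Ks)

/-- the decomposition group. -/
def Dgrp : Subgroup (Ks ≃ₐ[K] Ks) where
  carrier := {σ | ∀ x : Ks, x ∈ Pset R Ks Ps ↔ σ x ∈ Pset R Ks Ps}
  mul_mem' := by
    intro a b ha hb x
    rw [hb x, ha (b x)]
    rfl
  one_mem' := by intro x; rfl
  inv_mem' := by
    intro a ha x
    rw [ha (a⁻¹ x)]
    have : a (a⁻¹ x) = x := by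
      change a (a.symm x) = x
      exact a.apply_symm_apply x
    rw [this]

variable {R K Ks}

theorem mem_Dgrp {σ : Ks ≃ₐ[K] Ks} : σ ∈ Dgrp R K Ks Ps ↔
    ∀ x : Ks, x ∈ Pset R Ks Ps ↔ σ x ∈ Pset R Ks Ps := Iff.rfl

/-- an automorphism mapping `Ps` into itself lies in the decomposition group. -/
theorem mem_Dgrp_of_map_le [Ps.IsMaximal] (σ : Ks ≃ₐ[K] Ks)
    (h : ∀ x ∈ Pset R Ks Ps, σ x ∈ Pset R Ks Ps) : σ ∈ Dgrp R K Ks Ps := by
  intro x
  refine ⟨h x, fun hx => ?_⟩
  let σR : integralClosure R Ks ≃ₐ[R] integralClosure R Ks :=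
    (σ.restrictScalars R).mapIntegralClosure
  have hle : Ps ≤ Ps.comap (σR : integralClosure R Ks →+* integralClosure R Ks) := by
    intro y hy
    rw [Ideal.mem_comap]
    have := h y ((coe_mem_Pset Ps).mpr hy)
    exact (coe_mem_Pset Ps (x := σR y)).mp this
  have hne : Ps.comap (σR : integralClosure R Ks →+* integralClosure R Ks) ≠ ⊤ := by
    rw [Ne, Ideal.eq_top_iff_one, Ideal.mem_comap, map_one, ← Ideal.eq_top_iff_one]
    exact Ideal.IsMaximal.ne_top ‹_›
  have heq := Ideal.IsMaximal.eq_of_le ‹Ps.IsMaximal› hne hle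
  -- x is integral
  obtain ⟨hσx, hσx'⟩ := hx
  have hxint : x ∈ integralClosure R Ks := by
    have := map_mem_integralClosure (R := R) σ.symm hσx
    rwa [AlgEquiv.symm_apply_apply] at this
  refine ⟨hxint, ?_⟩
  rw [heq, Ideal.mem_comap]
  exact hσx'

end Decomp

end Part1

section Part2

open IsLocalRing

section Closed

variable {R K Ks : Type u} [CommRing R] [IsDomain R]
    [Field K] [Algebra R K] [IsFractionRing R K]
    [Field Ks] [Algebra K Ks] [Algebra R Ks] [IsScalarTower R K Ks]
    (Ps : Ideal (integralClosure R Ks))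

theorem Dgrp_isClosed [Algebra.IsIntegral K Ks] :
    IsClosed (Dgrp R K Ks Ps : Set (Ks ≃ₐ[K] Ks)) := by
  have : (Dgrp R K Ks Ps : Set (Ks ≃ₐ[K] Ks))
      = ⋂ x : Ks, {σ | x ∈ Pset R Ks Ps ↔ σ x ∈ Pset R Ks Ps} := by
    ext σ
    simp only [Set.mem_iInter, Set.mem_setOf_eq]
    rfl
  rw [this]
  refine isClosed_iInter fun x => ?_
  rw [← isOpen_compl_iff, isOpen_iff_mem_nhds]
  intro σ₀ hσ₀
  have hopen : IsOpen (MulAction.stabilizer (Ks ≃ₐ[K] Ks) x : Set (Ks ≃ₐ[K] Ks)) :=
    stabilizer_isOpen_of_isIntegral x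
  have h2 : IsOpen ((fun τ => σ₀ * τ) '' (MulAction.stabilizer (Ks ≃ₐ[K] Ks) x : Set _)) :=
    (Homeomorph.mulLeft σ₀).isOpenMap _ hopen
  refine Filter.mem_of_superset (h2.mem_nhds ⟨1, one_mem _, mul_one σ₀⟩) ?_
  rintro _ ⟨ρ, hρ, rfl⟩
  have hρx : ρ x = x := hρ
  simp only [Set.mem_compl_iff, Set.mem_setOf_eq] at hσ₀ ⊢
  have : (σ₀ * ρ) x = σ₀ x := by
    change σ₀ (ρ x) = σ₀ x
    rw [hρx]
  rw [this]
  exact hσ₀

theorem mem_Dgrp_of_fixes [IsGalois K Ks] (L : IntermediateField K Ks)
    (hL : IntermediateField.fixedField (Dgrp R K Ks Ps) ≤ L) (τ : Ks ≃ₐ[K] Ks)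
    (hτ : τ ∈ L.fixingSubgroup) : τ ∈ Dgrp R K Ks Ps := by
  let Dc : ClosedSubgroup (Ks ≃ₐ[K] Ks) := ⟨Dgrp R K Ks Ps, Dgrp_isClosed Ps⟩
  have h1 := InfiniteGalois.fixingSubgroup_fixedField Dc
  have h2 : τ ∈ (IntermediateField.fixedField (Dgrp R K Ks Ps)).fixingSubgroup :=
    IntermediateField.fixingSubgroup_le hL hτ
  have h3 : τ ∈ (IntermediateField.fixedField Dc.toSubgroup).fixingSubgroup := h2
  rw [h1] at h3
  exact h3

end Closed

end Part2

section Part3

open IsLocalRing

section IntClosure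

theorem isFractionRing_intClosure (R K M : Type u) [CommRing R] [IsDomain R]
    [Field K] [Algebra R K] [IsFractionRing R K]
    [Field M] [Algebra K M] [Algebra R M] [IsScalarTower R K M] [Algebra.IsAlgebraic K M] :
    IsFractionRing (integralClosure R M) M := by
  haveI : Algebra.IsAlgebraic R M := IsFractionRing.comap_isAlgebraic_iff.mpr
    (inferInstance : Algebra.IsAlgebraic K M)
  refine integralClosure.isFractionRing_of_algebraic (A := R) (L := M) ?_
  intro x hx
  exact IsFractionRing.to_map_eq_zero_iff.mp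
    ((map_eq_zero <| algebraMap K M).mp <| (IsScalarTower.algebraMap_apply _ _ _ _).symm.trans hx)

theorem isIntegrallyClosed_intClosure (R K M : Type u) [CommRing R] [IsDomain R]
    [Field K] [Algebra R K] [IsFractionRing R K]
    [Field M] [Algebra K M] [Algebra R M] [IsScalarTower R K M] [Algebra.IsAlgebraic K M] :
    IsIntegrallyClosed (integralClosure R M) := by
  letI : IsFractionRing (integralClosure R M) M := isFractionRing_intClosure R K M
  exact (IsIntegrallyClosed.integralClosure_eq_bot_iff M).mp integralClosure_idem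

end IntClosure

section Atilde

variable {R K Ks : Type u} [CommRing R] [IsDomain R]
    [Field K] [Algebra R K] [IsFractionRing R K]
    [Field Ks] [Algebra K Ks] [Algebra R Ks] [IsScalarTower R K Ks]
    (Ps : Ideal (integralClosure R Ks)) [Ps.IsMaximal]

theorem primeCompl_le : Ps.primeCompl ≤ nonZeroDivisors (integralClosure R Ks) := by
  intro s hs
  refine mem_nonZeroDivisors_of_ne_zero ?_
  rintro rfl
  exact hs Ps.zero_mem

/-- the localization of the integral closure at `Ps`, inside `Ks`. -/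
noncomputable def At [Algebra.IsAlgebraic K Ks] : Subalgebra (integralClosure R Ks) Ks :=
  letI : IsFractionRing (integralClosure R Ks) Ks := isFractionRing_intClosure R K Ks
  Localization.subalgebra.ofField Ks Ps.primeCompl (primeCompl_le Ps)

variable [Algebra.IsAlgebraic K Ks]

theorem mem_At {z : Ks} : z ∈ At (K := K) Ps ↔ ∃ (a s : integralClosure R Ks), s ∉ Ps ∧
    z = (a : Ks) * (s : Ks)⁻¹ := by
  constructor
  · rintro ⟨a, s, hs, rfl⟩
    exact ⟨a, s, hs, rfl⟩
  · rintro ⟨a, s, hs, rfl⟩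
    exact ⟨a, s, hs, rfl⟩

instance : IsLocalization.AtPrime (At (K := K) Ps) Ps := by
  letI : IsFractionRing (integralClosure R Ks) Ks := isFractionRing_intClosure R K Ks
  exact Localization.subalgebra.isLocalization_ofField Ks Ps.primeCompl (primeCompl_le Ps)

instance : IsLocalRing (At (K := K) Ps) := IsLocalization.AtPrime.isLocalRing _ Ps

instance : IsFractionRing (At (K := K) Ps) Ks := by
  letI : IsFractionRing (integralClosure R Ks) Ks := isFractionRing_intClosure R K Ks
  exact Localization.subalgebra.isFractionRing_ofField Ks Ps.primeCompl (primeCompl_le Ps)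

instance : IsIntegrallyClosed (At (K := K) Ps) := by
  haveI := isIntegrallyClosed_intClosure R K Ks
  exact isIntegrallyClosed_of_isLocalization _ Ps.primeCompl (primeCompl_le Ps)

theorem At_henselian [IsSepClosed Ks] : HenselianLocalRing (At (K := K) Ps) :=
  (Groth.Agent.Lib.Helper18NormalSepClosed3.main' (A := At (K := K) Ps) Ks).1

end Atilde

end Part3

section Part4

open IsLocalRing

section Invariance

variable {R K Ks : Type u} [CommRing R] [IsDomain R]
    [Field K] [Algebra R K] [IsFractionRing R K]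
    [Field Ks] [Algebra K Ks] [Algebra R Ks] [IsScalarTower R K Ks]
    (Ps : Ideal (integralClosure R Ks)) [Ps.IsMaximal] [Algebra.IsAlgebraic K Ks]

/-- the decomposition group preserves the localization. -/
theorem map_mem_At {τ : Ks ≃ₐ[K] Ks} (hτ : τ ∈ Dgrp R K Ks Ps) {z : Ks}
    (hz : z ∈ At (K := K) Ps) : τ z ∈ At (K := K) Ps := by
  obtain ⟨a, s, hs, rfl⟩ := (mem_At Ps).mp hz
  rw [mem_At]
  refine ⟨⟨τ a, map_mem_integralClosure τ a.2⟩, ⟨τ s, map_mem_integralClosure τ s.2⟩, ?_, ?_⟩
  · intro h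
    have h1 : τ (s : Ks) ∈ Pset R Ks Ps := ⟨_, h⟩
    have h2 := (hτ (s : Ks)).mpr h1
    exact hs ((coe_mem_Pset Ps).mp h2)
  · rw [map_mul, map_inv₀]

/-- orbit products: every element outside `Ps` has a multiple outside `Ps` lying in `L`. -/
theorem exists_mul_mem [IsGalois K Ks] (L : IntermediateField K Ks)
    (hL : IntermediateField.fixedField (Dgrp R K Ks Ps) ≤ L)
    (s : integralClosure R Ks) (hs : s ∉ Ps) :
    ∃ s' : integralClosure R Ks, ((s * s' : integralClosure R Ks) : Ks) ∈ L ∧ s * s' ∉ Ps := by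
  classical
  have hD : ∀ τ : Ks ≃ₐ[K] Ks, τ ∈ L.fixingSubgroup → τ ∈ Dgrp R K Ks Ps :=
    fun τ hτ => mem_Dgrp_of_fixes Ps L hL τ hτ
  -- the orbit
  let O : Set Ks := {z | ∃ τ : Ks ≃ₐ[K] Ks, τ ∈ L.fixingSubgroup ∧ τ (s : Ks) = z}
  have hOfin : O.Finite := by
    have hsalg : IsIntegral K (s : Ks) := Algebra.IsIntegral.isIntegral _
    refine Set.Finite.subset (Polynomial.rootSet_finite (minpoly K (s : Ks)) Ks) ?_
    rintro z ⟨τ, _, rfl⟩
    rw [Polynomial.mem_rootSet]
    refine ⟨minpoly.ne_zero hsalg, ?_⟩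
    rw [Polynomial.aeval_algHom_apply, minpoly.aeval, map_zero]
  let T : Finset Ks := hOfin.toFinset
  have hT : ∀ z, z ∈ T ↔ ∃ τ : Ks ≃ₐ[K] Ks, τ ∈ L.fixingSubgroup ∧ τ (s : Ks) = z := by
    intro z
    rw [Set.Finite.mem_toFinset]
    rfl
  have hsT : (s : Ks) ∈ T := (hT _).mpr ⟨1, one_mem _, rfl⟩
  -- each element of the orbit is integral and outside P
  have hp : ∀ z ∈ T, ∃ h : z ∈ integralClosure R Ks, (⟨z, h⟩ : integralClosure R Ks) ∉ Ps := by
    intro z hz
    obtain ⟨τ, hτ, rfl⟩ := (hT z).mp hz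
    refine ⟨map_mem_integralClosure τ s.2, fun h => hs ?_⟩
    have h1 : τ (s : Ks) ∈ Pset R Ks Ps := ⟨_, h⟩
    exact (coe_mem_Pset Ps).mp ((hD τ hτ (s : Ks)).mpr h1)
  have hprod : ∀ T' : Finset Ks, T' ⊆ T →
      ∃ h : (∏ z ∈ T', z) ∈ integralClosure R Ks,
        (⟨∏ z ∈ T', z, h⟩ : integralClosure R Ks) ∉ Ps := by
    intro T'
    induction T' using Finset.induction_on with
    | empty =>
      intro _
      refine ⟨by rw [Finset.prod_empty]; exact one_mem _, ?_⟩
      intro h
      have : (1 : integralClosure R Ks) ∈ Ps := by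
        convert h using 1
        apply Subtype.ext
        simp
      exact (Ideal.IsMaximal.ne_top ‹_›) ((Ideal.eq_top_iff_one _).mpr this)
    | insert a T' ha ih =>
      intro hsub
      obtain ⟨h1, h2⟩ := ih (fun z hz => hsub (Finset.mem_insert_of_mem hz))
      obtain ⟨h3, h4⟩ := hp a (hsub (Finset.mem_insert_self a T'))
      rw [Finset.prod_insert ha]
      refine ⟨mul_mem h3 h1, ?_⟩
      intro h
      have : (⟨a, h3⟩ : integralClosure R Ks) * ⟨∏ z ∈ T', z, h1⟩ ∈ Ps := h
      rcases (Ideal.IsMaximal.isPrime ‹_›).mem_or_mem this with h5 | h5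
      · exact h4 h5
      · exact h2 h5
  obtain ⟨h1, h2⟩ := hprod (T.erase (s : Ks)) (Finset.erase_subset _ _)
  refine ⟨⟨∏ z ∈ T.erase (s : Ks), z, h1⟩, ?_, ?_⟩
  · -- the full product is fixed by the fixing subgroup of L
    have hcoe : ((s * ⟨∏ z ∈ T.erase (s : Ks), z, h1⟩ : integralClosure R Ks) : Ks)
        = ∏ z ∈ T, z := by
      rw [← Finset.mul_prod_erase T (fun z => z) hsT]
      rfl
    rw [hcoe]
    have hfix : ∀ τ : Ks ≃ₐ[K] Ks, τ ∈ L.fixingSubgroup → τ (∏ z ∈ T, z) = ∏ z ∈ T, z := by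
      intro τ hτ
      rw [map_prod]
      refine Finset.prod_bij (fun z _ => τ z) ?_ ?_ ?_ ?_
      · intro z hz
        obtain ⟨ρ, hρ, rfl⟩ := (hT z).mp hz
        exact (hT _).mpr ⟨τ * ρ, mul_mem hτ hρ, rfl⟩
      · intro z₁ _ z₂ _ h
        exact τ.injective h
      · intro z hz
        obtain ⟨ρ, hρ, rfl⟩ := (hT z).mp hz
        refine ⟨τ⁻¹ (ρ (s : Ks)), (hT _).mpr ⟨τ⁻¹ * ρ, mul_mem (inv_mem hτ) hρ, rfl⟩, ?_⟩
        change τ (τ.symm (ρ (s : Ks))) = ρ (s : Ks)
        exact τ.apply_symm_apply _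
      · intro z _
        rfl
    have := InfiniteGalois.fixedField_fixingSubgroup L
    rw [← this, IntermediateField.mem_fixedField_iff]
    exact hfix
  · intro h
    rcases (Ideal.IsMaximal.isPrime ‹_›).mem_or_mem h with h5 | h5
    · exact hs h5
    · exact h2 h5

end Invariance

end Part4

section Part5

open IsLocalRing Polynomial

section Main

variable {R K Ks : Type u} [CommRing R] [IsDomain R]
    [Field K] [Algebra R K] [IsFractionRing R K]
    [Field Ks] [Algebra K Ks] [IsSepClosure K Ks] [Algebra R Ks] [IsScalarTower R K Ks]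
    (Ps : Ideal (integralClosure R Ks)) [Ps.IsMaximal]

theorem henselian_of_le (L : IntermediateField K Ks)
    (hL : IntermediateField.fixedField (Dgrp R K Ks Ps) ≤ L)
    (Q : Ideal (integralClosure R L)) [Q.IsPrime]
    (hQ : ∀ y : integralClosure R L, y ∈ Q ↔
      ∃ x : integralClosure R Ks, x ∈ Ps ∧ (x : Ks) = ((y : L) : Ks)) :
    HenselianLocalRing (Localization.AtPrime Q) := by
  classical
  haveI : IsSepClosed Ks := IsSepClosure.sep_closed K
  haveI : Algebra.IsAlgebraic K Ks := Algebra.IsSeparable.isAlgebraic K Ks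
  haveI : IsGalois K Ks := inferInstance
  haveI : IsScalarTower R L Ks := IsScalarTower.of_algebraMap_eq (fun x => rfl)
  have hint : ∀ y : integralClosure R L, ((y : L) : Ks) ∈ integralClosure R Ks := fun y =>
    IsIntegral.map (IsScalarTower.toAlgHom R L Ks) y.2
  let toRs : integralClosure R L → integralClosure R Ks := fun y => ⟨((y : L) : Ks), hint y⟩
  have hQ' : ∀ y : integralClosure R L, y ∈ Q ↔ toRs y ∈ Ps := by
    intro y
    rw [hQ]
    constructor
    · rintro ⟨x, hx, hxy⟩
      have : x = toRs y := Subtype.ext hxy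
      rwa [← this]
    · intro h
      exact ⟨toRs y, h, rfl⟩
  let φ₀ : integralClosure R L →+* Ks :=
    (algebraMap L Ks).comp (algebraMap (integralClosure R L) L)
  have hφ₀inj : Function.Injective φ₀ := by
    intro x y h
    apply Subtype.ext
    apply Subtype.ext
    exact h
  have hunits : ∀ y : Q.primeCompl, IsUnit (φ₀ y) := by
    intro y
    apply IsUnit.mk0
    intro h0
    have : (y : integralClosure R L) = 0 := hφ₀inj (by rw [h0, map_zero])
    exact y.2 (this ▸ Q.zero_mem)
  let φ : Localization.AtPrime Q →+* Ks := IsLocalization.lift hunits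
  have hφmk : ∀ (y : integralClosure R L) (t : Q.primeCompl),
      φ (IsLocalization.mk' _ y t) = φ₀ y * (φ₀ t)⁻¹ := by
    intro y t
    rw [IsLocalization.lift_mk', Units.mul_inv_eq_iff_eq_mul, IsUnit.coe_liftRight]
    have : φ₀ (t : integralClosure R L) ≠ 0 := (hunits t).ne_zero
    change φ₀ y = φ₀ y * (φ₀ t)⁻¹ * φ₀ t
    field_simp
  have hφinj : Function.Injective φ := by
    rw [IsLocalization.lift_injective_iff]
    intro x y
    have hinj : Function.Injective (algebraMap (integralClosure R L) (Localization.AtPrime Q)) :=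
      IsLocalization.injective _ (le_nonZeroDivisors_of_noZeroDivisors
        (fun h : (0 : integralClosure R L) ∈ Q.primeCompl => h Q.zero_mem))
    exact ⟨fun h => by rw [hinj h], fun h => by rw [hφ₀inj h]⟩
  -- the image of φ lies in L and in At
  have hφL : ∀ b, φ b ∈ L := by
    intro b
    obtain ⟨y, t, rfl⟩ := IsLocalization.exists_mk'_eq Q.primeCompl b
    rw [hφmk]
    exact mul_mem (y : L).2 (inv_mem ((t : integralClosure R L) : L).2)
  have hφAt : ∀ b, φ b ∈ At (K := K) Ps := by
    intro b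
    obtain ⟨y, t, rfl⟩ := IsLocalization.exists_mk'_eq Q.primeCompl b
    rw [hφmk, mem_At]
    exact ⟨toRs y, toRs t, fun h => t.2 ((hQ' _).mpr h), rfl⟩
  let j : Localization.AtPrime Q →+* At (K := K) Ps := φ.codRestrict (At (K := K) Ps) hφAt
  have hjφ : ∀ b, ((j b : At (K := K) Ps) : Ks) = φ b := fun _ => rfl
  have hjalg : ∀ y : integralClosure R L,
      j (algebraMap _ (Localization.AtPrime Q) y) = algebraMap _ (At (K := K) Ps) (toRs y) := by
    intro y
    apply Subtype.ext
    rw [hjφ, IsLocalization.lift_eq]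
    rfl
  have hloc : maximalIdeal (Localization.AtPrime Q)
      ≤ (maximalIdeal (At (K := K) Ps)).comap j := by
    rw [← IsLocalization.AtPrime.map_eq_maximalIdeal Q (Localization.AtPrime Q),
      Ideal.map_le_iff_le_comap]
    intro y hy
    rw [Ideal.mem_comap, Ideal.mem_comap, hjalg,
      IsLocalization.AtPrime.to_map_mem_maximal_iff _ Ps]
    exact (hQ' y).mp hy
  haveI hAt := At_henselian (K := K) Ps
  refine ⟨fun f hf a₀ h₁ h₂ => ?_⟩
  -- the lifted polynomial
  have e1 : (f.map j).eval (j a₀) = j (f.eval a₀) := by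
    rw [Polynomial.eval_map, Polynomial.eval₂_at_apply]
  have e2 : (f.map j).derivative.eval (j a₀) = j (f.derivative.eval a₀) := by
    rw [Polynomial.derivative_map, Polynomial.eval_map, Polynomial.eval₂_at_apply]
  obtain ⟨α, hα0, hα1⟩ := HenselianLocalRing.is_henselian (f.map j) (hf.map j) (j a₀)
    (by rw [e1]; exact hloc h₁) (by rw [e2]; exact h₂.map j)
  have hα0' : (f.map j).eval α = 0 := hα0
  -- derivative at α is a unit
  have hder : IsUnit ((f.map j).derivative.eval α) := by
    rw [← IsLocalRing.notMem_maximalIdeal]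
    intro hmem
    have hdvd := Polynomial.sub_dvd_eval_sub α (j a₀) (f.map j).derivative
    obtain ⟨c, hc⟩ := hdvd
    have h3 : (f.map j).derivative.eval (j a₀) ∈ maximalIdeal (At (K := K) Ps) := by
      have : (f.map j).derivative.eval (j a₀)
          = (f.map j).derivative.eval α - (α - j a₀) * c := by rw [← hc]; ring
      rw [this]
      exact Ideal.sub_mem _ hmem (Ideal.mul_mem_right _ _ hα1)
    rw [e2] at h3
    exact (IsLocalRing.notMem_maximalIdeal.mpr (h₂.map j)) h3
  -- the evaluation in Ks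
  have hvalφ : ∀ b, (Subalgebra.val (At (K := K) Ps)) (j b) = φ b := fun _ => rfl
  have hFs : (f.map j).map (Subalgebra.val (At (K := K) Ps)).toRingHom = f.map φ := by
    rw [Polynomial.map_map]
    rfl
  have hevalKs : ∀ β : At (K := K) Ps, (((f.map j).eval β : At (K := K) Ps) : Ks)
      = (f.map φ).eval (β : Ks) := by
    intro β
    rw [← hFs, Polynomial.eval_map (Subalgebra.val (At (K := K) Ps)).toRingHom]
    exact (Polynomial.eval₂_at_apply (Subalgebra.val (At (K := K) Ps)).toRingHom β).symm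
  -- invariance
  have hfix : ∀ τ : Ks ≃ₐ[K] Ks, τ ∈ L.fixingSubgroup → τ (α : Ks) = (α : Ks) := by
    intro τ hτ
    have hτD : τ ∈ Dgrp R K Ks Ps := mem_Dgrp_of_fixes Ps L hL τ hτ
    have hτinvD : τ⁻¹ ∈ Dgrp R K Ks Ps := inv_mem hτD
    have hτL : ∀ x : Ks, x ∈ L → τ x = x := fun x hx =>
      (IntermediateField.mem_fixingSubgroup_iff L τ).mp hτ x hx
    have hτinvL : ∀ x : Ks, x ∈ L → τ⁻¹ x = x := fun x hx =>
      (IntermediateField.mem_fixingSubgroup_iff L τ⁻¹).mp (inv_mem hτ) x hx
    let α' : At (K := K) Ps := ⟨τ (α : Ks), map_mem_At Ps hτD α.2⟩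
    -- α' is a root
    have hmapτ : (f.map φ).map (τ : Ks →+* Ks) = f.map φ := by
      rw [Polynomial.map_map]
      congr 1
      ext b
      exact hτL _ (hφL b)
    have hroot : (f.map j).eval α' = 0 := by
      apply Subtype.ext
      rw [hevalKs]
      change (f.map φ).eval (τ (α : Ks)) = 0
      have h4 : ((f.map φ).map (τ : Ks →+* Ks)).eval (τ (α : Ks)) = τ ((f.map φ).eval (α : Ks)) := by
        rw [Polynomial.eval_map]
        exact Polynomial.eval₂_at_apply (τ : Ks →+* Ks) (α : Ks)
      rw [hmapτ] at h4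
      rw [h4, ← hevalKs, hα0']
      exact map_zero τ
    -- α' ≡ j a₀
    have hcong : α' - j a₀ ∈ maximalIdeal (At (K := K) Ps) := by
      rw [IsLocalRing.mem_maximalIdeal, mem_nonunits_iff]
      intro hu
      obtain ⟨w, hw⟩ := hu.exists_right_inv
      have hw' : (τ (α : Ks) - φ a₀) * (w : Ks) = 1 := congrArg Subtype.val hw
      let w' : At (K := K) Ps := ⟨τ⁻¹ (w : Ks), map_mem_At Ps hτinvD w.2⟩
      have h5 : (α - j a₀) * w' = 1 := by
        apply Subtype.ext
        change ((α : Ks) - φ a₀) * τ⁻¹ (w : Ks) = 1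
        have h6 := congrArg (fun x => (τ⁻¹ : Ks ≃ₐ[K] Ks) x) hw'
        simp only [map_mul, map_sub, map_one] at h6
        rw [hτinvL _ (hφL a₀)] at h6
        have h7 : (τ⁻¹ : Ks ≃ₐ[K] Ks) (τ (α : Ks)) = (α : Ks) := τ.symm_apply_apply _
        rw [h7] at h6
        exact h6
      have : IsUnit (α - j a₀) := IsUnit.of_mul_eq_one _ h5
      exact (IsLocalRing.mem_maximalIdeal _).mp hα1 this
    have hnu : ¬ IsUnit (α - α') := by
      have : α - α' = (α - j a₀) - (α' - j a₀) := by ring
      rw [this]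
      exact (IsLocalRing.mem_maximalIdeal _).mp (Ideal.sub_mem _ hα1 hcong)
    have := IsLocalRing.eq_of_eval_eq_zero_of_not_isUnit_sub hα0' hroot hnu hder
    exact (congrArg Subtype.val this).symm
  have hαL : (α : Ks) ∈ L := by
    have := InfiniteGalois.fixedField_fixingSubgroup L
    rw [← this, IntermediateField.mem_fixedField_iff]
    exact hfix
  -- write α as a fraction with denominator in L
  obtain ⟨a, s, hs, hαas⟩ := (mem_At Ps).mp α.2
  obtain ⟨s', hs'L, hs'P⟩ := exists_mul_mem Ps L hL s hs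
  have hs0 : (s : Ks) ≠ 0 := by
    intro h
    apply hs
    have : s = 0 := Subtype.ext h
    rw [this]
    exact Ps.zero_mem
  have hyKs : ((a * s' : integralClosure R Ks) : Ks) = (α : Ks) * ((s * s' : integralClosure R Ks) : Ks) := by
    rw [hαas]
    change (a : Ks) * (s' : Ks) = (a : Ks) * (s : Ks)⁻¹ * ((s : Ks) * (s' : Ks))
    field_simp
  have hyL : ((a * s' : integralClosure R Ks) : Ks) ∈ L := by
    rw [hyKs]
    exact mul_mem hαL hs'L
  have hintL : ∀ (x : Ks) (hx : x ∈ L), x ∈ integralClosure R Ks →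
      (⟨x, hx⟩ : L) ∈ integralClosure R L := by
    intro x hx hxi
    have : IsIntegral R (algebraMap L Ks ⟨x, hx⟩) := hxi
    exact (isIntegral_algebraMap_iff (algebraMap L Ks).injective).mp this
  let yL : integralClosure R L := ⟨⟨_, hyL⟩, hintL _ hyL (a * s').2⟩
  let tL : integralClosure R L := ⟨⟨_, hs'L⟩, hintL _ hs'L (s * s').2⟩
  have htQ : tL ∈ Q.primeCompl := by
    intro h
    have := (hQ' tL).mp h
    exact hs'P this
  let b : Localization.AtPrime Q := IsLocalization.mk' _ yL ⟨tL, htQ⟩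
  have hφb : φ b = (α : Ks) := by
    rw [hφmk]
    change ((a * s' : integralClosure R Ks) : Ks) * (((s * s' : integralClosure R Ks) : Ks))⁻¹ = _
    rw [hyKs]
    have : ((s * s' : integralClosure R Ks) : Ks) ≠ 0 := by
      intro h
      apply hs'P
      have : s * s' = 0 := Subtype.ext h
      rw [this]
      exact Ps.zero_mem
    field_simp
  have hjb : j b = α := Subtype.ext hφb
  refine ⟨b, ?_, ?_⟩
  · change f.eval b = 0
    apply hφinj
    rw [map_zero]
    have : φ (f.eval b) = (f.map φ).eval (φ b) := by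
      rw [Polynomial.eval_map, Polynomial.eval₂_at_apply]
    rw [this, hφb, ← hevalKs, hα0']
    rfl
  · by_contra hnot
    have hu : IsUnit (b - a₀) := by
      rwa [IsLocalRing.mem_maximalIdeal, mem_nonunits_iff, not_not] at hnot
    have := hu.map j
    rw [map_sub, hjb] at this
    exact (IsLocalRing.mem_maximalIdeal _).mp hα1 this

end Main

end Part5

section Part6

open IsLocalRing Polynomial

theorem main_11105 (R K Ks : Type u) [CommRing R] [IsDomain R]
    [IsDiscreteValuationRing R] [Field K] [Algebra R K] [IsFractionRing R K]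
    [Field Ks] [Algebra K Ks] [IsSepClosure K Ks] [Algebra R Ks] [IsScalarTower R K Ks]
    (Ps : Ideal (integralClosure R Ks)) [Ps.IsMaximal]
    (L : IntermediateField K Ks)
    (hL : L = IntermediateField.fixedField
      (Subgroup.closure {σ : Ks ≃ₐ[K] Ks | ∀ x : integralClosure R Ks, x ∈ Ps →
        ∃ h : σ (x : Ks) ∈ integralClosure R Ks, (⟨σ (x : Ks), h⟩ : integralClosure R Ks) ∈ Ps}))
    (Q : Ideal (integralClosure R L)) [Q.IsPrime]
    (hQ : ∀ y : integralClosure R L, y ∈ Q ↔
      ∃ x : integralClosure R Ks, x ∈ Ps ∧ (x : Ks) = ((y : L) : Ks)) :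
    HenselianLocalRing (Localization.AtPrime Q) := by
  refine henselian_of_le Ps L ?_ Q hQ
  rw [hL]
  apply IntermediateField.fixedField_le
  rw [Subgroup.closure_le]
  intro σ hσ
  refine mem_Dgrp_of_map_le Ps σ ?_
  rintro x ⟨hx, hxP⟩
  exact hσ ⟨x, hx⟩ hxP

theorem main_11106 (R K Ks : Type u) [CommRing R] [IsDomain R]
    [IsDiscreteValuationRing R] [Field K] [Algebra R K] [IsFractionRing R K]
    [Field Ks] [Algebra K Ks] [IsSepClosure K Ks] [Algebra R Ks] [IsScalarTower R K Ks]
    (Ps : Ideal (integralClosure R Ks)) [Ps.IsMaximal]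
    (L : IntermediateField K Ks)
    (hL : L = IntermediateField.fixedField
      (Subgroup.closure {σ : Ks ≃ₐ[K] Ks | ∀ x : integralClosure R Ks,
        ∃ h : σ (x : Ks) ∈ integralClosure R Ks, (⟨σ (x : Ks), h⟩ : integralClosure R Ks) - x ∈ Ps}))
    (Q : Ideal (integralClosure R L)) [Q.IsPrime]
    (hQ : ∀ y : integralClosure R L, y ∈ Q ↔
      ∃ x : integralClosure R Ks, x ∈ Ps ∧ (x : Ks) = ((y : L) : Ks)) :
    HenselianLocalRing (Localization.AtPrime Q) := by
  refine henselian_of_le Ps L ?_ Q hQ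
  rw [hL]
  apply IntermediateField.fixedField_le
  rw [Subgroup.closure_le]
  intro σ hσ
  refine mem_Dgrp_of_map_le Ps σ ?_
  rintro x ⟨hx, hxP⟩
  obtain ⟨h, h2⟩ := hσ ⟨x, hx⟩
  refine ⟨h, ?_⟩
  have := Ps.add_mem h2 hxP
  rwa [sub_add_cancel] at this

end Part6

end Groth.Agent.Lib.R2H1.DecompHensel
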