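/-
delta invariant does not decrease along a flat local homomorphism (S1651). Contains: length_le_length_baseChange (faithfully flat), exists_smul_eq_tmul_one, mu_injective' and mu_isIntegral' (no finiteness of the normalization needed), Psi : B ⊗ A' → B', length_baseChange_quot_le, deltaInv_le_of_faithfullyFlat, deltaInv_le_of_flat_ringHom, main_1651.
-/
import Mathlib
import Groth.Prelude
import Groth.Agent.Lib.R2H1DeltaBC

set_option autoImplicit false
set_option linter.style.haveILetI false
set_option linter.unusedSectionVars false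
universe u

open IsLocalRing Function TensorProduct CategoryTheory AlgebraicGeometry

namespace Groth.Agent.Lib.R2H1.DeltaFlat

section Part1

open Groth.Agent.Lib.R2H1.DeltaBC

section Len

theorem length_le_length_baseChange (A B : Type*) [CommRing A] [CommRing B] [Algebra A B]
    [Module.FaithfullyFlat A B] (M : Type*) [AddCommGroup M] [Module A M] :
    Module.length A M ≤ Module.length B (B ⊗[A] M) := by
  rw [← WithBot.coe_le_coe, Module.coe_length, Module.coe_length]
  exact Order.krullDim_le_of_strictMono _ (Submodule.baseChangeOrderEmbedding A M B).strictMono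

end Len

section Mu

variable (A B : Type u) [CommRing A] [CommRing B] [Algebra A B] [Module.Flat A B]

theorem exists_smul_eq_tmul_one (t : B ⊗[A] (integralClosure A (FractionRing A))) :
    ∃ c ∈ nonZeroDivisors A, ∃ b : B,
      c • t = b ⊗ₜ[A] (1 : integralClosure A (FractionRing A)) := by
  induction t with
  | zero => exact ⟨1, one_mem _, 0, by simp⟩
  | tmul b y =>
    obtain ⟨c, hc⟩ := IsLocalization.exists_integer_multiple (nonZeroDivisors A)
      (y : FractionRing A)
    obtain ⟨a, ha⟩ := hc
    refine ⟨c.1, c.2, a • b, ?_⟩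
    have h1 : c.1 • y = algebraMap A (integralClosure A (FractionRing A)) a := by
      apply Subtype.ext
      exact ha.symm
    rw [TensorProduct.smul_tmul', TensorProduct.smul_tmul, h1, Algebra.algebraMap_eq_smul_one,
      ← TensorProduct.smul_tmul]
  | add t₁ t₂ h₁ h₂ =>
    obtain ⟨c₁, hc₁, b₁, hb₁⟩ := h₁
    obtain ⟨c₂, hc₂, b₂, hb₂⟩ := h₂
    refine ⟨c₁ * c₂, mul_mem hc₁ hc₂, c₂ • b₁ + c₁ • b₂, ?_⟩
    have e1 : (c₁ * c₂) • t₁ = c₂ • (c₁ • t₁) := by rw [mul_comm, mul_smul]
    have e2 : (c₁ * c₂) • t₂ = c₁ • (c₂ • t₂) := by rw [mul_smul]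
    rw [smul_add, e1, e2, hb₁, hb₂, TensorProduct.add_tmul, TensorProduct.smul_tmul',
      TensorProduct.smul_tmul']

theorem mu_injective' : Function.Injective (mu A B) := by
  rw [injective_iff_map_eq_zero]
  intro x hx
  obtain ⟨c, hc, b₀, hb₀⟩ := exists_smul_eq_tmul_one A B x
  have h1 : mu A B (c • x) = 0 := by
    rw [← algebraMap_smul B c x, map_smul, hx, smul_zero]
  rw [hb₀, mu_tmul] at h1
  have h2 : fracMap A B ((1 : integralClosure A (FractionRing A)) : FractionRing A) = 1 := by
    simp
  rw [h2, mul_one] at h1
  have h3 : b₀ = 0 := by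
    apply IsLocalization.injective (FractionRing B) (le_refl (nonZeroDivisors B))
    rw [h1, map_zero]
  rw [h3, TensorProduct.zero_tmul] at hb₀
  exact smul_injective_tensor A B hc x hb₀

theorem mu_isIntegral' (t : B ⊗[A] (integralClosure A (FractionRing A))) :
    IsIntegral B (mu A B t) := by
  haveI : Algebra.IsIntegral B (B ⊗[A] (integralClosure A (FractionRing A))) := inferInstance
  exact (Algebra.IsIntegral.isIntegral (R := B) t).map (mu A B)

end Mu

end Part1

section Part2

open Groth.Agent.Lib.R2H1.DeltaBC

section Main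

variable (A B : Type u) [CommRing A] [CommRing B] [Algebra A B] [Module.Flat A B]

/-- `B ⊗ A' → B'` -/
noncomputable def Psi : B ⊗[A] (integralClosure A (FractionRing A)) →ₗ[B]
    integralClosure B (FractionRing B) :=
  (mu A B).toLinearMap.codRestrict (Subalgebra.toSubmodule (integralClosure B (FractionRing B)))
    (fun t => mu_isIntegral' A B t)

theorem Psi_coe (t : B ⊗[A] (integralClosure A (FractionRing A))) :
    ((Psi A B t : integralClosure B (FractionRing B)) : FractionRing B) = mu A B t := rfl

theorem Psi_injective : Function.Injective (Psi A B) := by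
  intro x y hxy
  apply mu_injective' A B
  have := congrArg Subtype.val hxy
  exact this

theorem Psi_tmul_one (b : B) :
    Psi A B (b ⊗ₜ[A] (1 : integralClosure A (FractionRing A))) =
      algebraMap B (integralClosure B (FractionRing B)) b := by
  apply Subtype.ext
  rw [Psi_coe, mu_tmul]
  simp

/-- the quotient map tensored with `B` -/
noncomputable def qmap : B ⊗[A] (integralClosure A (FractionRing A)) →ₗ[B]
    B ⊗[A] ((integralClosure A (FractionRing A)) ⧸
      LinearMap.range (Algebra.linearMap A (integralClosure A (FractionRing A)))) :=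
  LinearMap.baseChange B (Submodule.mkQ _)

theorem qmap_tmul (b : B) (y : integralClosure A (FractionRing A)) :
    qmap A B (b ⊗ₜ[A] y) = b ⊗ₜ[A] Submodule.Quotient.mk y := rfl

theorem qmap_surjective : Function.Surjective (qmap A B) := by
  have h := LinearMap.lTensor_surjective B (Submodule.mkQ_surjective
    (LinearMap.range (Algebra.linearMap A (integralClosure A (FractionRing A)))))
  intro z
  obtain ⟨t, ht⟩ := h z
  exact ⟨t, ht⟩

theorem qmap_tmul_one (b : B) :
    qmap A B (b ⊗ₜ[A] (1 : integralClosure A (FractionRing A))) = 0 := by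
  rw [qmap_tmul]
  have : (Submodule.Quotient.mk (1 : integralClosure A (FractionRing A)) :
      (integralClosure A (FractionRing A)) ⧸
      LinearMap.range (Algebra.linearMap A (integralClosure A (FractionRing A)))) = 0 := by
    rw [Submodule.Quotient.mk_eq_zero]
    exact ⟨1, by simp⟩
  rw [this, TensorProduct.tmul_zero]

/-- kernel of qmap in terms of Psi -/
theorem ker_qmap_le : LinearMap.ker (qmap A B) ≤
    (LinearMap.range (Algebra.linearMap B (integralClosure B (FractionRing B)))).comap (Psi A B) := by
  intro t ht
  have hex := lTensor_exact (R := A)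
    (M := ↥(LinearMap.range (Algebra.linearMap A (integralClosure A (FractionRing A)))))
    (N := integralClosure A (FractionRing A))
    (P := (integralClosure A (FractionRing A)) ⧸
      LinearMap.range (Algebra.linearMap A (integralClosure A (FractionRing A)))) B
    (f := (LinearMap.range (Algebra.linearMap A (integralClosure A (FractionRing A)))).subtype)
    (g := (LinearMap.range (Algebra.linearMap A (integralClosure A (FractionRing A)))).mkQ)
    (LinearMap.exact_subtype_mkQ _) (Submodule.mkQ_surjective _)
  have ht' : LinearMap.lTensor B (Submodule.mkQ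
      (LinearMap.range (Algebra.linearMap A (integralClosure A (FractionRing A))))) t = 0 := ht
  obtain ⟨s, rfl⟩ := (hex t).mp ht'
  rw [Submodule.mem_comap]
  clear ht ht'
  induction s with
  | zero => simp
  | tmul b y =>
    obtain ⟨y, a, ha⟩ := y
    rw [LinearMap.lTensor_tmul, Submodule.subtype_apply]
    show Psi A B (b ⊗ₜ[A] y) ∈ _
    have h1 : y = a • (1 : integralClosure A (FractionRing A)) := by
      rw [← ha, Algebra.linearMap_apply, Algebra.algebraMap_eq_smul_one]
    rw [h1, ← TensorProduct.smul_tmul, Psi_tmul_one]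
    exact ⟨a • b, rfl⟩
  | add s₁ s₂ h₁ h₂ =>
    rw [map_add, map_add]
    exact Submodule.add_mem _ h₁ h₂

theorem comap_le_ker_qmap :
    (LinearMap.range (Algebra.linearMap B (integralClosure B (FractionRing B)))).comap (Psi A B) ≤
      LinearMap.ker (qmap A B) := by
  intro t ht
  rw [Submodule.mem_comap] at ht
  obtain ⟨b, hb⟩ := ht
  have h1 : Psi A B t = Psi A B (b ⊗ₜ[A] 1) := by
    rw [Psi_tmul_one]
    exact hb.symm
  rw [Psi_injective A B h1, LinearMap.mem_ker, qmap_tmul_one]

theorem length_baseChange_quot_le :
    Module.length B (B ⊗[A] ((integralClosure A (FractionRing A)) ⧸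
      LinearMap.range (Algebra.linearMap A (integralClosure A (FractionRing A))))) ≤
    Curv2.deltaInv B := by
  -- B ⊗ X_A ≅ (B ⊗ A') / ker q ↪ B'/B
  let e := (qmap A B).quotKerEquivOfSurjective (qmap_surjective A B)
  rw [← e.length_eq]
  let Φ := Submodule.mapQ (LinearMap.ker (qmap A B))
    (LinearMap.range (Algebra.linearMap B (integralClosure B (FractionRing B)))) (Psi A B)
    (ker_qmap_le A B)
  have hΦ : Function.Injective Φ := by
    rw [← LinearMap.ker_eq_bot, Submodule.ker_mapQ, eq_bot_iff]
    rintro _ ⟨t, ht, rfl⟩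
    rw [Submodule.mem_bot, Submodule.mkQ_apply, Submodule.Quotient.mk_eq_zero]
    exact comap_le_ker_qmap A B ht
  exact Module.length_le_of_injective Φ hΦ

theorem deltaInv_le_of_faithfullyFlat [Module.FaithfullyFlat A B] :
    Curv2.deltaInv A ≤ Curv2.deltaInv B :=
  (length_le_length_baseChange A B _).trans (length_baseChange_quot_le A B)

end Main

end Part2

section Part3

section Sch

theorem deltaInv_le_of_flat_ringHom {A B : Type u} [CommRing A] [CommRing B] [IsLocalRing A]
    [IsLocalRing B] (φ : A →+* B) (hflat : φ.Flat) [IsLocalHom φ] :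
    Curv2.deltaInv A ≤ Curv2.deltaInv B := by
  letI : Algebra A B := φ.toAlgebra
  haveI : Module.Flat A B := hflat
  haveI : IsLocalHom (algebraMap A B) := ‹IsLocalHom φ›
  haveI : Module.FaithfullyFlat A B := Module.FaithfullyFlat.of_flat_of_isLocalHom
  exact deltaInv_le_of_faithfullyFlat A B

theorem main_1651 (k : Type u) [Field k] (X : Scheme.{u}) [X.Over (Spec (CommRingCat.of k))]
    (K : Type u) [Field K] [Algebra k K]
    (y : Curv2.bc k X K) :
    Curv2.deltaInv (X.presheaf.stalk (Curv2.bcFst k X K y)) ≤
      Curv2.deltaInv ((Curv2.bc k X K).presheaf.stalk y) := by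
  haveI : Flat (Spec.map (CommRingCat.ofHom (algebraMap k K))) := by
    rw [Flat.SpecMap_iff]
    exact RingHom.flat_algebraMap_iff.mpr inferInstance
  haveI : Flat (Curv2.bcFst k X K) := inferInstance
  have hflat := Flat.stalkMap (Curv2.bcFst k X K) y
  exact deltaInv_le_of_flat_ringHom ((Curv2.bcFst k X K).stalkMap y).hom hflat

end Sch

end Part3

end Groth.Agent.Lib.R2H1.DeltaFlat
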