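import Mathlib
import Groth.Agent.Lib.R2H3AffineDesc

/-!
# A scheme covered by finitely many affine closed subschemes is affine

`universallyClosed_sigmaDesc`: a finite coproduct of universally closed morphisms is universally
closed. `isAffine_of_finite_closed_cover`: Stacks 01ZT-like consequence of
`AffineDesc.isAffine_of_surjective_universallyClosed`.
-/

set_option autoImplicit false
set_option linter.unusedSectionVars false
universe u v
open CategoryTheory CategoryTheory.Limits AlgebraicGeometry TopologicalSpace Opposite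

namespace Groth.Agent.Lib.R2H3.AffineCover

/-- a finite coproduct of universally closed morphisms is universally closed. -/
theorem universallyClosed_sigmaDesc {σ : Type u} [Finite σ] (g : σ → Scheme.{u}) {X : Scheme.{u}}
    (f : ∀ i, g i ⟶ X) [∀ i, UniversallyClosed (f i)] : UniversallyClosed (Sigma.desc f) := by
  constructor
  intro X' Y' i₁ i₂ f' H
  have hk : ∀ k, IsClosedMap (pullback.fst i₁ (Sigma.ι g k) ≫ f') := by
    intro k
    have sq : IsPullback (pullback.fst i₁ (Sigma.ι g k) ≫ f') (pullback.snd i₁ (Sigma.ι g k)) i₂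
        (Sigma.ι g k ≫ Sigma.desc f) :=
      (IsPullback.of_hasPullback i₁ (Sigma.ι g k)).paste_horiz H
    rw [Sigma.ι_desc] at sq
    have : UniversallyClosed (pullback.fst i₁ (Sigma.ι g k) ≫ f') :=
      MorphismProperty.of_isPullback (P := @UniversallyClosed) sq.flip inferInstance
    exact (pullback.fst i₁ (Sigma.ι g k) ≫ f').isClosedMap
  intro C hC
  have key : f' '' C = ⋃ k, (pullback.fst i₁ (Sigma.ι g k) ≫ f') ''
      ((pullback.fst i₁ (Sigma.ι g k)) ⁻¹' C) := by
    ext y
    simp only [Set.mem_image, Set.mem_iUnion, Set.mem_preimage]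
    constructor
    · rintro ⟨x, hx, rfl⟩
      obtain ⟨k, z, hz⟩ := (sigmaOpenCover g).exists_eq (i₁ x)
      obtain ⟨w, hw₁, hw₂⟩ := Scheme.Pullback.exists_preimage_pullback (f := i₁)
        (g := Sigma.ι g k) x z hz.symm
      refine ⟨k, w, ?_, ?_⟩
      · rw [hw₁]; exact hx
      · rw [Scheme.Hom.comp_apply, hw₁]
    · rintro ⟨k, z, hz, rfl⟩
      exact ⟨_, hz, (Scheme.Hom.comp_apply _ _ _).symm⟩
  rw [key]
  exact isClosed_iUnion_of_finite fun k =>
    hk k _ (hC.preimage (pullback.fst i₁ (Sigma.ι g k)).continuous)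

/-- A scheme covered by finitely many affine closed subschemes is affine (`S9203`). -/
theorem isAffine_of_finite_closed_cover (X : Scheme.{u}) {κ : Type v} [Finite κ]
    (Z : κ → Scheme.{u}) (ι : ∀ k, Z k ⟶ X) [∀ k, IsClosedImmersion (ι k)] [∀ k, IsAffine (Z k)]
    (hcov : ∀ x : X, ∃ k, x ∈ Set.range (ι k)) : IsAffine X := by
  obtain ⟨n, ⟨e⟩⟩ := Finite.exists_equiv_fin κ
  let σ : Type u := ULift.{u} (Fin n)
  let e' : σ ≃ κ := Equiv.ulift.trans e.symm
  let g : σ → Scheme.{u} := fun i => Z (e' i)
  let f : ∀ i, g i ⟶ X := fun i => ι (e' i)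
  have : ∀ i, IsAffine (g i) := fun i => inferInstanceAs (IsAffine (Z (e' i)))
  have : ∀ i, IsClosedImmersion (f i) := fun i => inferInstanceAs (IsClosedImmersion (ι (e' i)))
  have : ∀ i, UniversallyClosed (f i) := fun i => inferInstance
  have hsurj : Surjective (Sigma.desc f) := by
    apply Surjective.sigmaDesc_of_union_range_eq_univ
    rw [Set.eq_univ_iff_forall]
    intro x
    obtain ⟨k, hk⟩ := hcov x
    rw [Set.mem_iUnion]
    refine ⟨e'.symm k, ?_⟩
    show x ∈ Set.range (ι (e' (e'.symm k)))
    rw [Equiv.apply_symm_apply]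
    exact hk
  have huc : UniversallyClosed (Sigma.desc f) := universallyClosed_sigmaDesc g f
  exact AffineDesc.isAffine_of_surjective_universallyClosed (∐ g) X (Sigma.desc f)

end Groth.Agent.Lib.R2H3.AffineCover
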