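import Mathlib
import Groth.Prelude
import Groth.Agent.Lib.R2H1CurveAffProj
import Groth.Agent.Lib.Helper10RedInd
import Groth.Agent.S9203
import Groth.Agent.S9705
set_option backward.isDefEq.respectTransparency.types false

/-!
R2H1DimOneAffine: a separated finite type scheme of dimension at most one over a field with no proper one-dimensional irreducible component is affine (S7646). API: isAffine_of_subsingleton, subsingleton_of_dim_le_zero (irreducible sober T0 space of dim le 0 has at most one point), isReduced_subscheme_radical, le_zero_of_le_one_of_ne_one, s7646.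
-/

set_option autoImplicit false
set_option linter.style.haveILetI false
set_option linter.unusedSectionVars false
universe u v

open CategoryTheory CategoryTheory.Limits AlgebraicGeometry TopologicalSpace Opposite

namespace Groth.Agent.Lib.R2H1.DimOneAffine

section Part1

/-- a nonempty scheme with at most one point is affine -/
theorem isAffine_of_subsingleton (Z : Scheme.{u}) [Subsingleton Z] [Nonempty Z] : IsAffine Z := by
  obtain ⟨z⟩ := (inferInstance : Nonempty Z)
  obtain ⟨U, hU, hzU, -⟩ := exists_isAffineOpen_mem_and_subset (X := Z) (x := z) (U := ⊤) trivial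
  have hU' : U = ⊤ := by
    rw [eq_top_iff]
    intro y _
    rw [Subsingleton.elim y z]
    exact hzU
  rw [hU'] at hU
  haveI : IsAffine ((⊤ : Z.Opens) : Scheme.{u}) := hU
  exact IsAffine.of_isIso Z.topIso.inv

/-- an irreducible sober space of dimension `≤ 0` has at most one point -/
theorem subsingleton_of_dim_le_zero (Z : Type*) [TopologicalSpace Z] [IrreducibleSpace Z]
    [QuasiSober Z] [T0Space Z] (h : topologicalKrullDim Z ≤ 0) : Subsingleton Z := by
  refine ⟨fun x y => ?_⟩
  have hmax := Order.krullDim_nonpos_iff_forall_isMax.mp h
  have key : ∀ z : Z, closure ({z} : Set Z) = Set.univ := by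
    intro z
    let a : IrreducibleCloseds Z := ⟨closure {z}, isIrreducible_singleton.closure, isClosed_closure⟩
    let b : IrreducibleCloseds Z := ⟨Set.univ, IrreducibleSpace.isIrreducible_univ Z, isClosed_univ⟩
    have hab : a ≤ b := fun _ _ => trivial
    have hba := hmax a hab
    exact Set.eq_univ_of_univ_subset hba
  have hx : IsGenericPoint x Set.univ := key x
  have hy : IsGenericPoint y Set.univ := key y
  exact hx.eq hy

open Scheme.IdealSheafData in
/-- the closed subscheme defined by a radical ideal sheaf is reduced -/
theorem isReduced_subscheme_radical {X : Scheme.{u}} (J : X.IdealSheafData) :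
    IsReduced J.radical.subscheme := by
  have : ∀ U : J.radical.subschemeCover.openCover.I₀,
      IsReduced (J.radical.subschemeCover.openCover.X U) := by
    intro (U : X.affineOpens)
    have : _root_.IsReduced (Γ(X, U) ⧸ J.radical.ideal U) := by
      rw [← Ideal.isRadical_iff_quotient_reduced]
      exact Ideal.radical_isRadical _
    change IsReduced (Spec (CommRingCat.of (Γ(X, U) ⧸ J.radical.ideal U)))
    infer_instance
  exact IsReduced.of_openCover _ J.radical.subschemeCover.openCover

theorem le_zero_of_le_one_of_ne_one (x : WithBot ℕ∞) (h1 : x ≤ 1) (h2 : x ≠ 1) : x ≤ 0 := by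
  induction x using WithBot.recBotCoe with
  | bot => exact bot_le
  | coe n =>
    have h1' : n ≤ 1 := by exact_mod_cast h1
    have h2' : n ≠ 1 := by
      intro h; apply h2; rw [h]; rfl
    have : n = 0 := by
      induction n using ENat.recTopCoe with
      | top => simp at h1'
      | coe m =>
        have hm1 : m ≤ 1 := by exact_mod_cast h1'
        have hm2 : m ≠ 1 := by
          intro h; apply h2'; rw [h]; rfl
        have : m = 0 := by omega
        rw [this]; rfl
    rw [this]; rfl

/-- S7646 -/
theorem s7646 (k : Type u) [Field k] (X : Scheme.{u}) [X.Over (Spec (CommRingCat.of k))]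
    [IsSeparated (X ↘ (Spec (CommRingCat.of k)))]
    [LocallyOfFiniteType (X ↘ (Spec (CommRingCat.of k)))]
    [IsNoetherian X] (hdim : topologicalKrullDim X ≤ 1)
    (h : ∀ (C : Set X) (hC : C ∈ irreducibleComponents (X : Type u)), topologicalKrullDim C = 1 →
      ¬ IsProper ((X.irreducibleComponentIdeal C hC).radical.subschemeι ≫
        (X ↘ (Spec (CommRingCat.of k))))) :
    IsAffine X := by
  classical
  have hfin : (irreducibleComponents X).Finite := finite_irreducibleComponents_of_isNoetherian
  haveI : Finite (irreducibleComponents X) := hfin
  haveI : QuasiCompact (X ↘ (Spec (CommRingCat.of k))) :=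
    (HasAffineProperty.iff_of_isAffine (P := @QuasiCompact)).2 inferInstance
  have haff : ∀ c : irreducibleComponents X,
      IsAffine (X.irreducibleComponentIdeal c.1 c.2).radical.subscheme := by
    intro c
    obtain ⟨J, hJ⟩ : ∃ J : X.IdealSheafData, J = (X.irreducibleComponentIdeal c.1 c.2).radical :=
      ⟨_, rfl⟩
    haveI : IrreducibleSpace ↥((X.irreducibleComponentIdeal c.1 c.2).radical.subscheme) :=
      Subtype.irreducibleSpace (s := c.1) c.2.1
    haveI : IsReduced (X.irreducibleComponentIdeal c.1 c.2).radical.subscheme :=
      isReduced_subscheme_radical _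
    haveI : IsIntegral (X.irreducibleComponentIdeal c.1 c.2).radical.subscheme :=
      isIntegral_of_irreducibleSpace_of_isReduced _
    have hdimeq : topologicalKrullDim ↥((X.irreducibleComponentIdeal c.1 c.2).radical.subscheme) =
        topologicalKrullDim ↥(c.1) := rfl
    have hle : topologicalKrullDim ↥(c.1) ≤ 1 :=
      (topologicalKrullDim_subspace_le X c.1).trans hdim
    by_cases h1 : topologicalKrullDim ↥(c.1) = 1
    · letI : ((X.irreducibleComponentIdeal c.1 c.2).radical.subscheme).Over
          (Spec (CommRingCat.of k)) :=
        ⟨(X.irreducibleComponentIdeal c.1 c.2).radical.subschemeι ≫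
          (X ↘ (Spec (CommRingCat.of k)))⟩
      haveI : IsSeparated ((X.irreducibleComponentIdeal c.1 c.2).radical.subscheme ↘
          (Spec (CommRingCat.of k))) :=
        inferInstanceAs (IsSeparated ((X.irreducibleComponentIdeal c.1 c.2).radical.subschemeι ≫
          (X ↘ (Spec (CommRingCat.of k)))))
      haveI : LocallyOfFiniteType ((X.irreducibleComponentIdeal c.1 c.2).radical.subscheme ↘
          (Spec (CommRingCat.of k))) :=
        inferInstanceAs (LocallyOfFiniteType
          ((X.irreducibleComponentIdeal c.1 c.2).radical.subschemeι ≫
            (X ↘ (Spec (CommRingCat.of k)))))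
      haveI : QuasiCompact ((X.irreducibleComponentIdeal c.1 c.2).radical.subscheme ↘
          (Spec (CommRingCat.of k))) :=
        inferInstanceAs (QuasiCompact
          ((X.irreducibleComponentIdeal c.1 c.2).radical.subschemeι ≫
            (X ↘ (Spec (CommRingCat.of k)))))
      rcases Groth.Agent.Lib.R2H1.CurveAffProj.s1627 k
        (X.irreducibleComponentIdeal c.1 c.2).radical.subscheme (hdimeq.trans h1) with ha | hpr
      · exact ha
      · exfalso
        obtain ⟨d, cc, hcc, hck⟩ := hpr
        apply h c.1 c.2 h1
        haveI := hcc
        haveI : IsProper (CohB1.ProjSpace.toSpec d k) :=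
          Groth.Agent.S9705.isProper_projSpace_toSpec d k
        have : IsProper (cc ≫ CohB1.ProjSpace.toSpec d k) := inferInstance
        rw [hck] at this
        exact this
    · have h0 : topologicalKrullDim ↥(c.1) ≤ 0 := le_zero_of_le_one_of_ne_one _ hle h1
      haveI : Subsingleton ↥((X.irreducibleComponentIdeal c.1 c.2).radical.subscheme) :=
        subsingleton_of_dim_le_zero _ (hdimeq.le.trans h0)
      exact isAffine_of_subsingleton _
  haveI := haff
  refine Groth.Agent.S9203.result X
    (fun c : irreducibleComponents X => (X.irreducibleComponentIdeal c.1 c.2).radical.subscheme)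
    (fun c => (X.irreducibleComponentIdeal c.1 c.2).radical.subschemeι) ?_
  intro x
  refine ⟨⟨irreducibleComponent x, irreducibleComponent_mem_irreducibleComponents x⟩, ?_⟩
  rw [Scheme.IdealSheafData.range_subschemeι]
  exact mem_irreducibleComponent

end Part1

end Groth.Agent.Lib.R2H1.DimOneAffine
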