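import Mathlib
import Groth.Agent.Lib.R2H1ZeroSchemeDiv
import Groth.Agent.Lib.R2H1DivMul
set_option backward.isDefEq.respectTransparency.types false

/-!
helper1 (run 2): an effective divisor D (Mero) with L = O(D) on an integral scheme: the section 1 of O(D) gives a nonzero section of L with zero scheme D (S19458).
exists_rep_of_isEffective, divCond_one, oneSec, oneHomD (O -> O(D), 1 -> 1), exists_regular_rep (an effective divisor is locally the class of a regular function), main.
-/

set_option autoImplicit false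
set_option linter.style.haveILetI false
set_option linter.unusedSectionVars false
universe u v

open CategoryTheory CategoryTheory.Limits AlgebraicGeometry TopologicalSpace Opposite

namespace Groth.Agent.Lib.R2H1.EffDivSec

section Part1

open Mero Groth.Agent.Lib.Helper20.Kmod Groth.Agent.Lib.Helper20.Kmod5 Groth.Agent.S5097
  Groth.Agent.S5096 Groth.Agent.Lib.R2H1.DivMul Groth.Agent.Lib.R2H1.ZeroSchemeDiv

variable {X : Scheme.{u}}

/-- a representative of the germ of an effective divisor lies in the local ring, and is regular -/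
theorem exists_rep_of_isEffective (D : Divisor X) (hD : IsEffective D) (x : X) (g : (KStalk X x)ˣ)
    (hg : D.1 x = QuotientGroup.mk g) :
    ∃ c : X.presheaf.stalk x, c ∈ nonZeroDivisors (X.presheaf.stalk x) ∧
      (g : KStalk X x) = algebraMap (X.presheaf.stalk x) (KStalk X x) c := by
  obtain ⟨a, ha⟩ := hD x
  rw [ha] at hg
  obtain ⟨u, hu⟩ := QuotientGroup.eq.1 hg
  have h1 : g = (IsLocalization.map_units (KStalk X x) a).unit *
      Units.map (algebraMap (X.presheaf.stalk x) (KStalk X x)).toMonoidHom u := by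
    rw [hu, mul_inv_cancel_left]
  refine ⟨(a : X.presheaf.stalk x) * (u : X.presheaf.stalk x),
    mul_mem (regStalk_le_nonZeroDivisors x a.2) u.isUnit.mem_nonZeroDivisors, ?_⟩
  rw [h1, map_mul]
  rfl

theorem divCond_one (D : Divisor X) (hD : IsEffective D) (x : X) : DivCond D x 1 := by
  intro g hg
  obtain ⟨c, -, hc⟩ := exists_rep_of_isEffective D hD x g hg
  rw [one_mul, hc]
  exact ⟨c, rfl⟩

/-- the section `1` of `O_X(D)`, `D` effective -/
noncomputable def oneSec (D : Divisor X) (hD : IsEffective D) (V : X.Opens) : Γ(divMod D, V) :=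
  ⟨fun _ => 1, ⟨(1 : Γ(kmod X, V)).2, fun y => divCond_one D hD y.1⟩⟩

/-- the morphism `O_X ⟶ O_X(D)` with `1 ↦ 1`, `D` effective -/
noncomputable def oneHomD (D : Divisor X) (hD : IsEffective D) :
    Coh.structureModule X ⟶ divMod D :=
  (divMod D).unitHomEquiv.symm (PresheafOfModules.sectionsMk
    (fun V => (oneSec D hD V.unop : Γ(divMod D, V.unop))) (fun V V' i => rfl))

theorem oneHomD_app (D : Divisor X) (hD : IsEffective D) (V : X.Opens) (r : Γ(X, V)) :
    (oneHomD D hD).app V r = r • oneSec D hD V := rfl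

/-- an effective divisor is locally the class of a regular function -/
theorem exists_regular_rep (D : Divisor X) (hD : IsEffective D) (x : X) :
    ∃ (U : X.Opens) (_ : x ∈ U) (f : Γ(X, U)) (_ : f ∈ regSub X U) (F : (Γ(kmod X, U))ˣ),
      (F : Γ(kmod X, U)) = toK X U f ∧ ∀ y : U, D.1 y.1 = germOf F y := by
  obtain ⟨U, hxU, h, hh⟩ := D.2 x
  have hrange : ∀ y : U, (h : Γ(kmod X, U)).1 y ∈
      (algebraMap (X.presheaf.stalk y.1) (KStalk X y.1)).range := by
    intro y
    obtain ⟨c, -, hc⟩ := exists_rep_of_isEffective D hD y.1 _ (hh y)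
    exact ⟨c, hc.symm⟩
  obtain ⟨f, hf⟩ := exists_toK_eq (h : Γ(kmod X, U)) hrange
  refine ⟨U, hxU, f, ?_, h, hf.symm, hh⟩
  intro y
  obtain ⟨c, hc, hc'⟩ := exists_rep_of_isEffective D hD y.1 _ (hh y)
  have h1 : algebraMap (X.presheaf.stalk y.1) (KStalk X y.1) (X.presheaf.germ U y.1 y.2 f) =
      algebraMap (X.presheaf.stalk y.1) (KStalk X y.1) c := by
    rw [← hc', Groth.Agent.S10856.algebraMap_eq_mk, ← toK_apply, hf]
    rfl
  rw [algebraMap_KStalk_injective y.1 h1]
  exact hc

theorem main [IsIntegral X] (L : X.Modules) (hL : PicF.IsInvertible L) (D : Mero.Divisor X)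
    (hD : Mero.IsEffective D) (e : L ≅ Mero.divMod D) :
    ∃ s : Coh.structureModule X ⟶ L, s ≠ 0 ∧ Mero.IsDivOfIdeal D (PicF2.zeroScheme L s) := by
  have hinv : ∀ (W : X.Opens) (m : Γ(L, W)), e.inv.app W (e.hom.app W m) = m := fun W m =>
    congrArg (fun φ : L ⟶ L => φ.app W m) e.hom_inv_id
  have hinv' : ∀ (W : X.Opens) (m : Γ(divMod D, W)), e.hom.app W (e.inv.app W m) = m := fun W m =>
    congrArg (fun φ : divMod D ⟶ divMod D => φ.app W m) e.inv_hom_id
  refine ⟨oneHomD D hD ≫ e.inv, ?_, ?_⟩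
  · intro h0
    obtain ⟨x⟩ := (inferInstance : Nonempty X)
    have h1 : e.inv.app ⊤ ((oneHomD D hD).app ⊤ (1 : Γ(X, ⊤))) = 0 :=
      congrArg (fun φ : Coh.structureModule X ⟶ L => φ.app ⊤ (1 : Γ(X, ⊤))) h0
    have h2 := congrArg (e.hom.app ⊤) h1
    rw [hinv', oneHomD_app, one_smul, map_zero] at h2
    have h3 : (oneSec D hD ⊤).1 ⟨x, trivial⟩ = 0 := by rw [h2]; rfl
    exact one_ne_zero h3
  · intro x
    obtain ⟨U₁, hxU₁, f, hf, F, hF, hFD⟩ := exists_regular_rep D hD x
    obtain ⟨W, hW, hxW, hWU₀⟩ := exists_isAffineOpen_mem_and_subset (x := x) (U := U₁) hxU₁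
    have hWU : W ≤ U₁ := hWU₀
    set σ : Γ(divMod D, W) := invSec D F hFD W hWU with hσ
    set a : Γ(X, W) := X.presheaf.map (homOfLE hWU).op f with ha
    have hareg : a ∈ regSub X W := regSub_res _ hf
    have hFval : ∀ y : W, (F : Γ(kmod X, U₁)).1 ⟨y.1, hWU y.2⟩ =
        algebraMap (X.presheaf.stalk y.1) (KStalk X y.1) (X.presheaf.germ W y.1 y.2 a) := by
      intro y
      rw [hF, toK_apply, Groth.Agent.S10856.algebraMap_eq_mk, ha]
      exact mk_congr (TopCat.Presheaf.germ_res_apply X.presheaf (homOfLE hWU) y.1 y.2 f).symm rfl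
    have hFinv : ∀ y : W, (F : Γ(kmod X, U₁)).1 ⟨y.1, hWU y.2⟩ *
        ((F⁻¹ : (Γ(kmod X, U₁))ˣ) : Γ(kmod X, U₁)).1 ⟨y.1, hWU y.2⟩ = 1 := by
      intro y
      have h1 : (F : Γ(kmod X, U₁)) * ((F⁻¹ : (Γ(kmod X, U₁))ˣ) : Γ(kmod X, U₁)) = 1 := F.mul_inv
      exact congrArg (fun g : Γ(kmod X, U₁) => g.1 ⟨y.1, hWU y.2⟩) h1
    have hone : oneSec D hD W = a • σ := by
      apply Subtype.ext
      funext y
      change (1 : KStalk X y.1) = X.presheaf.germ W y.1 y.2 a •
        ((F⁻¹ : (Γ(kmod X, U₁))ˣ) : Γ(kmod X, U₁)).1 ⟨y.1, hWU y.2⟩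
      rw [Algebra.smul_def, ← hFval, hFinv]
    have hbij : Function.Bijective (fun r : Γ(X, W) => r • e.inv.app W σ) := by
      constructor
      · intro r r' hrr
        have h1 : r • e.inv.app W σ = r' • e.inv.app W σ := hrr
        rw [← Scheme.Modules.Hom.app_smul, ← Scheme.Modules.Hom.app_smul] at h1
        have h2 := congrArg (e.hom.app W) h1
        rw [hinv', hinv'] at h2
        refine TopCat.Presheaf.section_ext X.sheaf W r r' fun y hy => ?_
        apply algebraMap_KStalk_injective y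
        have h3 := congrArg (fun τ : Γ(divMod D, W) => τ.1 ⟨y, hy⟩) h2
        have h4 : X.presheaf.germ W y hy r •
            ((F⁻¹ : (Γ(kmod X, U₁))ˣ) : Γ(kmod X, U₁)).1 ⟨y, hWU hy⟩ =
          X.presheaf.germ W y hy r' •
            ((F⁻¹ : (Γ(kmod X, U₁))ˣ) : Γ(kmod X, U₁)).1 ⟨y, hWU hy⟩ := h3
        rw [Algebra.smul_def, Algebra.smul_def] at h4
        have h5 := congrArg (fun q => q * (F : Γ(kmod X, U₁)).1 ⟨y, hWU hy⟩) h4
        simp only [] at h5
        have h6 := hFinv ⟨y, hy⟩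
        rw [mul_comm] at h6
        rw [mul_assoc, mul_assoc, h6, mul_one, mul_one] at h5
        exact h5
      · intro m
        obtain ⟨r, hr⟩ := exists_smul_invSec D F hFD W hWU (e.hom.app W m)
        refine ⟨r, ?_⟩
        change r • e.inv.app W σ = m
        rw [← Scheme.Modules.Hom.app_smul, hσ, hr, hinv]
    have hsec : PicF2.secVal L (oneHomD D hD ≫ e.inv) W = a • e.inv.app W σ := by
      rw [← Scheme.Modules.Hom.app_smul, ← hone]
      have h1 := oneHomD_app D hD W 1
      rw [one_smul] at h1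
      rw [← h1]
      rfl
    refine ⟨⟨W, hW⟩, hxW, a, hareg, ?_, fun y => ?_⟩
    · rw [zeroScheme_ideal L hL _ ⟨W, hW⟩]
      exact zeroIdealOn_eq_span L _ W (e.inv.app W σ) a hbij hsec
    · rw [hFD ⟨y.1, hWU y.2⟩]
      refine congrArg _ (Units.ext ?_)
      exact hFval y

end Part1

end Groth.Agent.Lib.R2H1.EffDivSec
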