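import Mathlib
import Groth.Prelude
import Groth.Agent.Lib.R2H1EllInvol
import Groth.Agent.Lib.H9FEtDegA
set_option backward.isDefEq.respectTransparency.types false

/-!
helper1 (run 2): DOUBLE COVERS OF THE LINE BY A CURVE OF GENUS ONE. aeval_sub_eval_mem, prime_le / prime_unique (A = k[t] + k[t] y with y^2 + Q y = P, 2 invertible, t0 a root of Q^2 + 4P: only one prime of A contains t - t0), exists_root_disc (k alg closed, A a domain, y not in k[t]: the discriminant Q^2 + 4P has a root), exists_total_ramification k X hdim hX0 h2k r hr hres (double cover r : X -> P^1 of a smooth proper curve, char != 2: a closed point P with r x = r P -> x = P), iso_of_total_ramification (genus one, P of total ramification for f: (f^*O(1) tensor I_P) tensor I_P iso O), adjoin_eq (two double covers with isomorphic pullbacks of O(1): k(t1) = k(t2) in K(X)), range_ffMap (range of the function field map of r is k(t)), exists_hom_of_range_le / exists_aut k X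 f1 f2 hf1 hf2 e1 e2 hrange (dominant f1, f2 : X -> P^1 over k with the same image of K(P^1) in K(X): an automorphism tau of P^1 over k with f1 >> tau = f2), main (S11351: two finite degree two maps of a genus one curve to P^1 differ by automorphisms of X and P^1, char != 2).
-/

set_option autoImplicit false
set_option linter.style.haveILetI false
set_option linter.unusedSectionVars false
universe u v

open CategoryTheory CategoryTheory.Limits AlgebraicGeometry TopologicalSpace Opposite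

namespace Groth.Agent.Lib.R2H1.EllCover

section Part1

open Polynomial

section Alg

variable {k : Type*} [Field k] {A : Type*} [CommRing A] [Algebra k A]

theorem aeval_sub_eval_mem (t : A) (t₀ : k) (I : Ideal A) (hI : t - algebraMap k A t₀ ∈ I)
    (p : k[X]) : aeval t p - algebraMap k A (p.eval t₀) ∈ I := by
  obtain ⟨q, hq⟩ := Polynomial.X_sub_C_dvd_sub_C_eval (a := t₀) (p := p)
  have h := congrArg (aeval t) hq
  simp only [map_sub, map_mul, aeval_X, aeval_C] at h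
  rw [h]
  exact I.mul_mem_right _ hI

/-- over a root of the discriminant there is only one prime -/
theorem prime_le (h2 : (2 : k) ≠ 0) (t y : A) (P Q : k[X])
    (c4 : ∀ a : A, ∃ u v : k[X], a = aeval t u + aeval t v * y)
    (c5 : y ^ 2 + aeval t Q * y = aeval t P) (t₀ : k) (hroot : (Q ^ 2 + 4 * P).eval t₀ = 0)
    (𝔭 𝔭' : Ideal A) [h𝔭 : 𝔭.IsPrime] [h𝔭' : 𝔭'.IsPrime]
    (h : t - algebraMap k A t₀ ∈ 𝔭) (h' : t - algebraMap k A t₀ ∈ 𝔭') : 𝔭 ≤ 𝔭' := by
  have hsq : (2 * y + aeval t Q) ^ 2 = aeval t (Q ^ 2 + 4 * P) := by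
    simp only [map_add, map_mul, map_pow, map_ofNat]
    linear_combination 4 * c5
  have key : ∀ (I : Ideal A), I.IsPrime → t - algebraMap k A t₀ ∈ I → 2 * y + aeval t Q ∈ I := by
    intro I hIp hI
    apply hIp.mem_of_pow_mem 2
    rw [hsq]
    have := aeval_sub_eval_mem t t₀ I hI (Q ^ 2 + 4 * P)
    rwa [hroot, map_zero, sub_zero] at this
  have red : ∀ (I : Ideal A), I.IsPrime → t - algebraMap k A t₀ ∈ I → ∀ u v : k[X],
      2 * (aeval t u + aeval t v * y) -
        algebraMap k A (2 * u.eval t₀ - v.eval t₀ * Q.eval t₀) ∈ I := by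
    intro I hIp hI u v
    have e1 := aeval_sub_eval_mem t t₀ I hI u
    have e2 := aeval_sub_eval_mem t t₀ I hI (v * Q)
    have e3 := key I hIp hI
    have : 2 * (aeval t u + aeval t v * y) -
        algebraMap k A (2 * u.eval t₀ - v.eval t₀ * Q.eval t₀) =
        2 * (aeval t u - algebraMap k A (u.eval t₀)) + aeval t v * (2 * y + aeval t Q) -
          (aeval t (v * Q) - algebraMap k A ((v * Q).eval t₀)) := by
      simp only [map_sub, map_mul, eval_mul, map_ofNat]
      ring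
    rw [this]
    exact I.sub_mem (I.add_mem (I.mul_mem_left _ e1) (I.mul_mem_left _ e3)) e2
  intro a ha
  obtain ⟨u, v, rfl⟩ := c4 a
  have r1 := red 𝔭 h𝔭 h u v
  have r2 := red 𝔭' h𝔭' h' u v
  have hc : algebraMap k A (2 * u.eval t₀ - v.eval t₀ * Q.eval t₀) ∈ 𝔭 := by
    have := 𝔭.sub_mem (𝔭.mul_mem_left 2 ha) r1
    simpa using this
  have hc0 : 2 * u.eval t₀ - v.eval t₀ * Q.eval t₀ = 0 := by
    by_contra hne
    apply h𝔭.ne_top
    rw [Ideal.eq_top_iff_one]
    have : algebraMap k A (2 * u.eval t₀ - v.eval t₀ * Q.eval t₀)⁻¹ *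
        algebraMap k A (2 * u.eval t₀ - v.eval t₀ * Q.eval t₀) ∈ 𝔭 := 𝔭.mul_mem_left _ hc
    rwa [← map_mul, inv_mul_cancel₀ hne, map_one] at this
  rw [hc0, map_zero, sub_zero] at r2
  rcases h𝔭'.mem_or_mem r2 with h2' | h2'
  · exfalso
    apply h𝔭'.ne_top
    rw [Ideal.eq_top_iff_one]
    have h3 : algebraMap k A (2 : k)⁻¹ * 2 ∈ 𝔭' := 𝔭'.mul_mem_left _ h2'
    have e : algebraMap k A (2 : k)⁻¹ * 2 = 1 := by
      rw [← map_ofNat (algebraMap k A) 2, ← map_mul, inv_mul_cancel₀ h2, map_one]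
    rwa [e] at h3
  · exact h2'

theorem prime_unique (h2 : (2 : k) ≠ 0) (t y : A) (P Q : k[X])
    (c4 : ∀ a : A, ∃ u v : k[X], a = aeval t u + aeval t v * y)
    (c5 : y ^ 2 + aeval t Q * y = aeval t P) (t₀ : k) (hroot : (Q ^ 2 + 4 * P).eval t₀ = 0)
    (𝔭 𝔭' : Ideal A) [h𝔭 : 𝔭.IsPrime] [h𝔭' : 𝔭'.IsPrime]
    (h : t - algebraMap k A t₀ ∈ 𝔭) (h' : t - algebraMap k A t₀ ∈ 𝔭') : 𝔭 = 𝔭' :=
  le_antisymm (prime_le h2 t y P Q c4 c5 t₀ hroot 𝔭 𝔭' h h')
    (prime_le h2 t y P Q c4 c5 t₀ hroot 𝔭' 𝔭 h' h)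

/-- the discriminant of a quadratic extension of a polynomial ring over an algebraically closed
field has a root -/
theorem exists_root_disc [IsAlgClosed k] [IsDomain A] (h2 : (2 : k) ≠ 0) (t y : A) (P Q : k[X])
    (c2 : y ∉ Set.range (aeval t : k[X] →ₐ[k] A))
    (c5 : y ^ 2 + aeval t Q * y = aeval t P) : ∃ t₀ : k, (Q ^ 2 + 4 * P).eval t₀ = 0 := by
  by_cases hdeg : (Q ^ 2 + 4 * P).degree = 0
  · exfalso
    have hC := Polynomial.eq_C_of_degree_eq_zero hdeg
    obtain ⟨d, hd⟩ := IsAlgClosed.exists_pow_nat_eq ((Q ^ 2 + 4 * P).coeff 0) (n := 2) (by norm_num)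
    have hsq : (2 * y + aeval t Q) ^ 2 = aeval t (Q ^ 2 + 4 * P) := by
      simp only [map_add, map_mul, map_pow, map_ofNat]
      linear_combination 4 * c5
    rw [hC, aeval_C, ← hd, map_pow] at hsq
    have hprod : (2 * y + aeval t Q - algebraMap k A d) * (2 * y + aeval t Q + algebraMap k A d) = 0 := by
      linear_combination hsq
    have h2A : algebraMap k A (2 : k)⁻¹ * 2 = 1 := by
      rw [← map_ofNat (algebraMap k A) 2, ← map_mul, inv_mul_cancel₀ h2, map_one]
    rcases mul_eq_zero.1 hprod with h | h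
    · apply c2
      refine ⟨C (2 : k)⁻¹ * (C d - Q), ?_⟩
      simp only [map_mul, map_sub, aeval_C]
      linear_combination (-(algebraMap k A (2 : k)⁻¹)) * h + y * h2A
    · apply c2
      refine ⟨C (2 : k)⁻¹ * (- C d - Q), ?_⟩
      simp only [map_mul, map_sub, map_neg, aeval_C]
      linear_combination (-(algebraMap k A (2 : k)⁻¹)) * h + y * h2A
  · obtain ⟨t₀, ht₀⟩ := IsAlgClosed.exists_root _ hdeg
    exact ⟨t₀, ht₀⟩

end Alg

end Part1

section Part2

open CategoryTheory CategoryTheory.Limits AlgebraicGeometry TopologicalSpace Opposite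
open Groth.Agent.Helper13ProjUP Groth.Agent.Helper13Dehom
open Groth.Agent.Lib.Helper6
open Groth.Agent.Lib.R2H1.PoleFilt Groth.Agent.Lib.R2H1.DblCoverGeom
open Groth.Agent.Lib.R2H1.DegPullback Groth.Agent.Lib.R2H1.IsoP1
open Groth.Agent.Lib.R2H1.PicPn Groth.Agent.Lib.R2H1.DblCoverFF
open Groth.Agent.Lib.R2H1.CurveEuler


variable (k : Type u) [Field k] [IsAlgClosed k] (X : Scheme.{u}) [X.Over (Spec (CommRingCat.of k))]
  [IsProper (X ↘ Spec (CommRingCat.of k))] [Smooth (X ↘ Spec (CommRingCat.of k))]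
  [GeometricallyConnected (X ↘ Spec (CommRingCat.of k))]

attribute [local instance] algU

/-- a double cover of the projective line in characteristic different from two has a point of
total ramification -/
theorem exists_total_ramification [IsIntegral X] (hdim : topologicalKrullDim X = 1)
    (hX0 : Module.finrank k (Coh.HH X (Coh.structureModule X) 0) = 1) (h2k : (2 : k) ≠ 0)
    (r : X ⟶ Proj (CohB1.polyGrading 1 k))
    (hr : r ≫ Groth.Agent.Helper13ProjUP.toBase (CohB1.polyGrading 1 k) =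
      X ↘ Spec (CommRingCat.of k)) [IsFinite r]
    (hres : r.residueDegree (genericPoint X) = 2) :
    ∃ P : X, IsClosed ({P} : Set X) ∧ ∀ x : X, r x = r P → x = P := by
  haveI := isIntegral_P1k k
  obtain ⟨y, P, Q, c1, c2, c3, c4, c5, -⟩ := geom_main k X hdim hX0 r hr hres
  have hV : IsAffineOpen (VV r (MvPolynomial.X 0 : MvPolynomial (Fin (1 + 1)) k)) :=
    (isAffineOpen_basicOpen (hT (k := k) 0)).preimage r
  have hηV := genericPoint_mem_VV k X r (map_genericPoint k X hdim hX0 r) 0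
  haveI : Nonempty (VV r (MvPolynomial.X 0 : MvPolynomial (Fin (1 + 1)) k) : X.Opens) :=
    ⟨⟨_, hηV⟩⟩
  haveI : IsDomain Γ(X, VV r (MvPolynomial.X 0 : MvPolynomial (Fin (1 + 1)) k)) :=
    IsIntegral.component_integral _
  obtain ⟨t₀, ht₀⟩ := exists_root_disc h2k _ y P Q c2 c5
  have hg_eq : Polynomial.aeval (ratio r (hT (k := k) 0) (MvPolynomial.X 1)
      (le_rfl : VV r (MvPolynomial.X 0 : MvPolynomial (Fin (1 + 1)) k) ≤ _))
      (Polynomial.X - Polynomial.C t₀) =
      ratio r (hT (k := k) 0) (MvPolynomial.X 1) le_rfl - algebraMap k _ t₀ := by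
    rw [map_sub, Polynomial.aeval_X, Polynomial.aeval_C]
  have hnu : ¬ IsUnit (ratio r (hT (k := k) 0) (MvPolynomial.X 1)
      (le_rfl : VV r (MvPolynomial.X 0 : MvPolynomial (Fin (1 + 1)) k) ≤ _) -
      algebraMap k _ t₀) := by
    intro hu
    obtain ⟨a, ha⟩ := isUnit_iff_exists_inv.1 hu
    obtain ⟨u, v, rfl⟩ := c4 a
    have h0 : Polynomial.aeval (ratio r (hT (k := k) 0) (MvPolynomial.X 1) le_rfl)
          ((Polynomial.X - Polynomial.C t₀) * u - 1) +
        Polynomial.aeval (ratio r (hT (k := k) 0) (MvPolynomial.X 1) le_rfl)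
          ((Polynomial.X - Polynomial.C t₀) * v) * y = 0 := by
      rw [map_sub, map_mul, map_mul, map_one, hg_eq]
      linear_combination ha
    have h1 := (c3 _ _ h0).1
    have h2' := congrArg (Polynomial.eval t₀) h1
    simp at h2'
  obtain ⟨𝔪, hmax, hgm⟩ := Ideal.exists_le_maximal (Ideal.span {ratio r (hT (k := k) 0)
      (MvPolynomial.X 1) (le_rfl : VV r (MvPolynomial.X 0 : MvPolynomial (Fin (1 + 1)) k) ≤ _) -
      algebraMap k _ t₀}) (by rwa [Ne, Ideal.span_singleton_eq_top])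
  have hgm' : ratio r (hT (k := k) 0) (MvPolynomial.X 1)
      (le_rfl : VV r (MvPolynomial.X 0 : MvPolynomial (Fin (1 + 1)) k) ≤ _) -
      algebraMap k _ t₀ ∈ 𝔪 := hgm (Ideal.subset_span (Set.mem_singleton _))
  -- the point
  let pt : PrimeSpectrum Γ(X, VV r (MvPolynomial.X 0 : MvPolynomial (Fin (1 + 1)) k)) :=
    ⟨𝔪, hmax.isPrime⟩
  have hx₀V : hV.fromSpec pt ∈ VV r (MvPolynomial.X 0 : MvPolynomial (Fin (1 + 1)) k) := by
    rw [← SetLike.mem_coe, ← hV.range_fromSpec]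
    exact ⟨pt, rfl⟩
  have hx₀g : hV.fromSpec pt ∉ X.basicOpen (ratio r (hT (k := k) 0) (MvPolynomial.X 1)
      (le_rfl : VV r (MvPolynomial.X 0 : MvPolynomial (Fin (1 + 1)) k) ≤ _) -
      algebraMap k _ t₀) := by
    intro hmem
    have h1 : pt ∈ hV.fromSpec ⁻¹ᵁ X.basicOpen (ratio r (hT (k := k) 0) (MvPolynomial.X 1)
      (le_rfl : VV r (MvPolynomial.X 0 : MvPolynomial (Fin (1 + 1)) k) ≤ _) -
      algebraMap k _ t₀) := hmem
    rw [hV.fromSpec_preimage_basicOpen] at h1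
    exact h1 hgm'
  haveI : JacobsonSpace X := LocallyOfFiniteType.jacobsonSpace (X ↘ Spec (CommRingCat.of k))
  have hcl : IsClosed ({hV.fromSpec pt} : Set X) := by
    have h1 := hV.fromSpec.isOpenEmbedding.preimage_closedPoints
    have h2 : pt ∈ closedPoints (Spec Γ(X, VV r (MvPolynomial.X 0 : MvPolynomial (Fin (1 + 1)) k))) :=
      (PrimeSpectrum.isClosed_singleton_iff_isMaximal pt).2 hmax
    rw [← h1] at h2
    exact h2
  have hgb : ratio r (hT (k := k) 0) (MvPolynomial.X 1)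
      (le_rfl : VV r (MvPolynomial.X 0 : MvPolynomial (Fin (1 + 1)) k) ≤ _) -
      algebraMap k _ t₀ = (r.app (Proj.basicOpen (CohB1.polyGrading 1 k) (MvPolynomial.X 0))).hom
        (π₀ (Polynomial.X - Polynomial.C t₀)) := by
    rw [← hg_eq]
    exact aeval_ratio_eq r hr _
  have hp : ∀ (z : X) (hz : z ∈ VV r (MvPolynomial.X 0 : MvPolynomial (Fin (1 + 1)) k)),
      z ∉ X.basicOpen (ratio r (hT (k := k) 0) (MvPolynomial.X 1)
        (le_rfl : VV r (MvPolynomial.X 0 : MvPolynomial (Fin (1 + 1)) k) ≤ _) -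
        algebraMap k _ t₀) →
      ratio r (hT (k := k) 0) (MvPolynomial.X 1)
        (le_rfl : VV r (MvPolynomial.X 0 : MvPolynomial (Fin (1 + 1)) k) ≤ _) -
        algebraMap k _ t₀ ∈ (hV.primeIdealOf ⟨z, hz⟩).asIdeal := by
    intro z hz hzg
    by_contra hn
    apply hzg
    have h1 : hV.primeIdealOf ⟨z, hz⟩ ∈ hV.fromSpec ⁻¹ᵁ X.basicOpen (ratio r (hT (k := k) 0)
        (MvPolynomial.X 1)
        (le_rfl : VV r (MvPolynomial.X 0 : MvPolynomial (Fin (1 + 1)) k) ≤ _) -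
        algebraMap k _ t₀) := by
      rw [hV.fromSpec_preimage_basicOpen]
      exact hn
    have h3 : hV.fromSpec (hV.primeIdealOf ⟨z, hz⟩) ∈ X.basicOpen (ratio r (hT (k := k) 0)
        (MvPolynomial.X 1)
        (le_rfl : VV r (MvPolynomial.X 0 : MvPolynomial (Fin (1 + 1)) k) ≤ _) -
        algebraMap k _ t₀) := h1
    rwa [hV.fromSpec_primeIdealOf ⟨z, hz⟩] at h3
  refine ⟨hV.fromSpec pt, hcl, ?_⟩
  intro x hx
  have hxV : x ∈ VV r (MvPolynomial.X 0 : MvPolynomial (Fin (1 + 1)) k) := by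
    change r x ∈ Proj.basicOpen (CohB1.polyGrading 1 k) (MvPolynomial.X 0)
    rw [hx]
    exact hx₀V
  have hxg : x ∉ X.basicOpen (ratio r (hT (k := k) 0) (MvPolynomial.X 1)
      (le_rfl : VV r (MvPolynomial.X 0 : MvPolynomial (Fin (1 + 1)) k) ≤ _) -
      algebraMap k _ t₀) := by
    rw [hgb, ← Scheme.preimage_basicOpen]
    intro hmem
    apply hx₀g
    rw [hgb, ← Scheme.preimage_basicOpen]
    have hmem' : r x ∈ (Proj (CohB1.polyGrading 1 k)).basicOpen
        (π₀ (Polynomial.X - Polynomial.C t₀)) := hmem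
    rw [hx] at hmem'
    exact hmem'
  have e := prime_unique h2k _ y P Q c4 c5 t₀ ht₀ _ _ (hp x hxV hxg) (hp _ hx₀V hx₀g)
  have e' : hV.primeIdealOf ⟨x, hxV⟩ = hV.primeIdealOf ⟨hV.fromSpec pt, hx₀V⟩ :=
    PrimeSpectrum.ext e
  have e'' := congrArg (fun p => hV.fromSpec p) e'
  simp only [hV.fromSpec_primeIdealOf] at e''
  exact e''

end Part2

section Part3

open CategoryTheory CategoryTheory.Limits AlgebraicGeometry TopologicalSpace Opposite
open Groth.Agent.Lib.Helper23.SecTw Groth.Agent.Lib.Helper23.GenLocus Groth.Agent.Lib.Helper6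
open Groth.Agent.Lib.R2H1.DegCartier Groth.Agent.Lib.R2H1.LiftZero
open Groth.Agent.Lib.R2H1.PointTwist Groth.Agent.Lib.R2H1.CurveDegSec
open Groth.Agent.Lib.R2H1.PicLaw Groth.Agent.Lib.R2H1.PencilTrick
open Groth.Agent.Lib.R2H1.IsoP1 Groth.Agent.Lib.R2H1.CurveEuler
open Groth.Agent.Lib.R2H1.HyperellCanon Groth.Agent.Lib.R2H2.PnBeilinson
open Groth.Agent.Lib.R2H1.EllInvol

variable (k : Type u) [Field k] [IsAlgClosed k] (X : Scheme.{u}) [X.Over (Spec (CommRingCat.of k))]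
    [IsIntegral X] [IsProper (X ↘ (Spec (CommRingCat.of k)))]

/-- over a point of total ramification `P` of a double cover `f` of the projective line by a
curve of genus one, `f^* O(1)` is `O(2P)` -/
theorem iso_of_total_ramification (hdim : topologicalKrullDim X = 1)
    (hreg : ∀ x : X, IsRegularLocalRing (X.presheaf.stalk x)) (hg : Curv2.genus k X = 1)
    (f : X ⟶ CohB1.ProjSpace 1 k)
    (hf : f ≫ CohB1.ProjSpace.toSpec 1 k = X ↘ Spec (CommRingCat.of k)) [IsFinite f]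
    (hres : f.residueDegree (genericPoint X) = 2)
    (P : X) (hP : IsClosed ({P} : Set X)) (htot : ∀ x : X, f x = f P → x = P) :
    Nonempty (CohB1.tensorMod (CohB1.tensorMod
      ((Scheme.Modules.pullback f).obj (Twist.twistProjSpace 1 k 1)) (IP X P hP)) (IP X P hP) ≅
        Coh.structureModule X) := by
  haveI := isNoetherian_of_proper k X
  have hnX : Pi1.IsNormalScheme X := fun y => by
    haveI := hreg y
    exact ⟨Groth.Agent.Lib.Helper5.isDomain_of_isRegularLocalRing _,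
      Groth.Agent.Lib.Helper28.isIntegrallyClosed_of_isRegularLocalRing _⟩
  haveI : Smooth (X ↘ Spec (CommRingCat.of k)) :=
    Groth.Agent.Lib.R2H1.SmoothCompl.smooth_of_normal k X hdim hnX
  have hX0 := Groth.Agent.Lib.R2H1.RegPoint.finrank_H0_structure_eq_one k X
  haveI : GeometricallyConnected (X ↘ Spec (CommRingCat.of k)) :=
    Groth.Agent.Lib.R2H1.CurveBC.geometricallyConnected_of_h0 k X hX0
  haveI := isIntegral_P1k k
  haveI := isProper_P1k k
  have hO1 := Groth.Agent.Lib.R2Lead.KRR.isInvertible_twistProjSpace 1 k 1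
  have hL : PicF.IsInvertible ((Scheme.Modules.pullback f).obj (Twist.twistProjSpace 1 k 1)) :=
    Groth.Agent.Lib.Helper23.PB.isInvertible_pullback f _ hO1
  have hL1 := Groth.Agent.Lib.Helper23.SecTw.isFinLocFreeOfRank_one_of_isInvertible _ hL
  let f' : X ⟶ Proj (CohB1.polyGrading 1 k) := f
  haveI : IsFinite f' := ‹IsFinite f›
  have e : f (genericPoint X) = genericPoint ↥(CohB1.ProjSpace 1 k) :=
    Groth.Agent.Lib.R2H1.DblCoverGeom.map_genericPoint k X hdim hX0 f'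
  have dL : Curv2.deg k X ((Scheme.Modules.pullback f).obj (Twist.twistProjSpace 1 k 1)) 1 = 2 := by
    have := Groth.Agent.Lib.R2H1.DblCoverGeom.deg_LL k X hdim f' hf e 2 hres
    exact_mod_cast this
  have h0L : Module.finrank k
      (Coh.HH X ((Scheme.Modules.pullback f).obj (Twist.twistProjSpace 1 k 1)) 0) = 2 := by
    have := (Groth.Agent.Lib.R2H1.PushEll.h0_genus_one k X hdim hreg hg _ hL).1
      (by rw [dL]; norm_num)
    rw [dL] at this
    exact_mod_cast this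
  obtain ⟨σ, hσp, hσf, hσ2, -, hση, hfix⟩ := exists_involution k X hdim (by omega) f hf hres e
  haveI : Smooth (CohB1.ProjSpace.toSpec 1 k) := Groth.Agent.Lib.R2H1.P1Inter.smooth_toSpec 1 k
  have hnP : Pi1.IsNormalScheme (CohB1.ProjSpace 1 k) :=
    Groth.Agent.Lib.R2H1.SmoothCompl.isNormalScheme_of_smooth k _ (CohB1.ProjSpace.toSpec 1 k)
  have htrans := fibre_transitive f hnP e σ hσf hσ2 hση hfix
  have hσP : σ P = P := htot _ (by rw [← Scheme.Hom.comp_apply, hσf])
  have hIR := isInvertible_IP k X hdim hreg P hP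
  have hN := Groth.Agent.Lib.Helper23.SecTw.isInvertible_tensorMod hL hIR
  have b : Module.finrank k
      (Coh.HH X ((Scheme.Modules.pullback f).obj (Twist.twistProjSpace 1 k 1)) 0) ≤
      Module.finrank k (Coh.HH X (CohB1.tensorMod
        ((Scheme.Modules.pullback f).obj (Twist.twistProjSpace 1 k 1)) (IP X P hP)) 0) + 1 :=
    (h0_point_twist_bounds k X hdim hreg 1 _ hL1 P hP).2
  have hpos : 0 < Module.finrank k (Coh.HH X (CohB1.tensorMod
      ((Scheme.Modules.pullback f).obj (Twist.twistProjSpace 1 k 1)) (IP X P hP)) 0) := by omega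
  obtain ⟨σ₁, hσ₁⟩ := Groth.Agent.Lib.R2H1.GenusZero.exists_section_of_pos k X _
    (isCoh_of_isInvertible _ hN) hpos
  haveI := mono_tw (Scheme.IdealSheafData.vanishingIdeal ⟨{P}, hP⟩) _ hL
  have hs : σ₁ ≫ tw (Scheme.IdealSheafData.vanishingIdeal ⟨{P}, hP⟩)
      ((Scheme.Modules.pullback f).obj (Twist.twistProjSpace 1 k 1)) ≠ 0 := by
    intro h
    apply hσ₁
    rw [← cancel_mono (tw (Scheme.IdealSheafData.vanishingIdeal ⟨{P}, hP⟩)
      ((Scheme.Modules.pullback f).obj (Twist.twistProjSpace 1 k 1))), h, zero_comp]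
  have hRs : P ∉ CohB1.genLocus ((Scheme.Modules.pullback f).obj (Twist.twistProjSpace 1 k 1))
      (σ₁ ≫ tw (Scheme.IdealSheafData.vanishingIdeal ⟨{P}, hP⟩)
        ((Scheme.Modules.pullback f).obj (Twist.twistProjSpace 1 k 1))) := by
    intro h
    exact notMem_support_of_mem_genLocus_tw _ _ hL σ₁ P h (Set.mem_singleton P)
  exact iso_of_zeros k X hdim hreg _ hL dL _ hs P P hP hP
    (fun y _ => by
      have h1 := zeros_of_section k X hdim _ hL h0L f hf e (Iso.refl _) σ htrans hσf _ hs P hP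
        hRs y
      rw [hσP] at h1
      exact h1)

end Part3

section Part4

open CategoryTheory CategoryTheory.Limits AlgebraicGeometry TopologicalSpace Opposite
open Groth.Agent.Helper13ProjUP Groth.Agent.Helper13Dehom
open Groth.Agent.Lib.Helper6
open Groth.Agent.Lib.R2H1.PoleFilt Groth.Agent.Lib.R2H1.DblCoverGeom
open Groth.Agent.Lib.R2H1.DegPullback Groth.Agent.Lib.R2H1.IsoP1
open Groth.Agent.Lib.R2H1.PicPn Groth.Agent.Lib.R2H1.DblCoverFF
open Groth.Agent.Lib.R2H1.CurveEuler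
open Groth.Agent.Lib.R2H1.NormPush Groth.Agent.Lib.R2H1.HypInvol
open Groth.Agent.Lib.R2H1.NormCompl Groth.Agent.Lib.R2H1.GenusFinite
open Groth.Agent.Lib.R2H1.EllInvol

section Adjoin

variable (k : Type u) [Field k] (X : Scheme.{u}) [X.Over (Spec (CommRingCat.of k))]
  [IsProper (X ↘ Spec (CommRingCat.of k))] [Smooth (X ↘ Spec (CommRingCat.of k))]
  [GeometricallyConnected (X ↘ Spec (CommRingCat.of k))]

attribute [local instance] algU Curv2.stalkAlgebra

/-- two double covers with isomorphic `g¹₂` have the same field of invariants -/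
theorem adjoin_eq [IsIntegral X] (hdim : topologicalKrullDim X = 1)
    (hX0 : Module.finrank k (Coh.HH X (Coh.structureModule X) 0) = 1)
    (hg : 1 ≤ Curv2.genus k X)
    (r₁ r₂ : X ⟶ Proj (CohB1.polyGrading 1 k))
    (hr₁ : r₁ ≫ Groth.Agent.Helper13ProjUP.toBase (CohB1.polyGrading 1 k) =
      X ↘ Spec (CommRingCat.of k)) [IsFinite r₁]
    (hr₂ : r₂ ≫ Groth.Agent.Helper13ProjUP.toBase (CohB1.polyGrading 1 k) =
      X ↘ Spec (CommRingCat.of k)) [IsFinite r₂]
    (hres₁ : r₁.residueDegree (genericPoint X) = 2)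
    (hres₂ : r₂.residueDegree (genericPoint X) = 2)
    (φ : LL r₂ ≅ LL r₁)
    (hη₁ : genericPoint X ∈ VV r₁ (MvPolynomial.X 0 : MvPolynomial (Fin (1 + 1)) k))
    (hη₂ : genericPoint X ∈ VV r₂ (MvPolynomial.X 0 : MvPolynomial (Fin (1 + 1)) k)) :
    IntermediateField.adjoin k
        ({jGerm (k := k) _ hη₁ (ratio r₁ (hT (k := k) 0) (MvPolynomial.X 1) le_rfl)} :
          Set X.functionField) =
      IntermediateField.adjoin k
        ({jGerm (k := k) _ hη₂ (ratio r₂ (hT (k := k) 0) (MvPolynomial.X 1) le_rfl)} :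
          Set X.functionField) := by
  apply le_antisymm
  · rw [IntermediateField.adjoin_simple_le_iff]
    exact jGerm_mem_adjoin k X hdim hX0 hg r₂ r₁ hr₂ hr₁ hres₂ hres₁ φ.symm hη₂ hη₁
  · rw [IntermediateField.adjoin_simple_le_iff]
    exact jGerm_mem_adjoin k X hdim hX0 hg r₁ r₂ hr₁ hr₂ hres₁ hres₂ φ hη₁ hη₂

end Adjoin

section Range

variable {k : Type u} [Field k] {X : Scheme.{u}} [X.Over (Spec (CommRingCat.of k))] [IsIntegral X]

attribute [local instance] algU Curv2.stalkAlgebra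

/-- the image of the function field of the projective line is `k(t)` -/
theorem range_ffMap (r : X ⟶ Proj (CohB1.polyGrading 1 k))
    (hr : r ≫ Groth.Agent.Helper13ProjUP.toBase (CohB1.polyGrading 1 k) =
      X ↘ Spec (CommRingCat.of k))
    [IsIntegral (Proj (CohB1.polyGrading 1 k))]
    (e : r (genericPoint X) = genericPoint (Proj (CohB1.polyGrading 1 k)))
    (hη : genericPoint X ∈ VV r (MvPolynomial.X 0 : MvPolynomial (Fin (1 + 1)) k))
    (hcomm : ∀ c : k, algebraMap k X.functionField c ∈ Set.range (ffMap r e)) :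
    Set.range (ffMap r e) =
      (IntermediateField.adjoin k ({jGerm (k := k) _ hη
        (ratio r (hT (k := k) 0) (MvPolynomial.X 1) le_rfl)} : Set X.functionField) :
          Set X.functionField) := by
  have hU₀ : IsAffineOpen (Proj.basicOpen (CohB1.polyGrading 1 k)
      (MvPolynomial.X 0 : MvPolynomial (Fin (1 + 1)) k)) := isAffineOpen_basicOpen (hT (k := k) 0)
  haveI : Nonempty (Proj.basicOpen (CohB1.polyGrading 1 k)
      (MvPolynomial.X 0 : MvPolynomial (Fin (1 + 1)) k) : (Proj (CohB1.polyGrading 1 k)).Opens) :=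
    ⟨⟨r (genericPoint X), hη⟩⟩
  have key : ∀ p : Polynomial k, ffMap r e ((Proj (CohB1.polyGrading 1 k)).germToFunctionField
      (Proj.basicOpen (CohB1.polyGrading 1 k) (MvPolynomial.X 0)) (π₀ p)) =
      Polynomial.aeval (jGerm (k := k) _ hη
        (ratio r (hT (k := k) 0) (MvPolynomial.X 1) le_rfl)) p := by
    intro p
    rw [ffMap_germ r e _ (π₀ p), Polynomial.aeval_algHom_apply, aeval_ratio_eq r hr p]
    rfl
  apply Set.Subset.antisymm
  · rintro _ ⟨z, rfl⟩
    haveI := functionField_isFractionRing_of_isAffineOpen (Proj (CohB1.polyGrading 1 k)) _ hU₀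
    obtain ⟨⟨a, b⟩, hab⟩ := IsLocalization.surj (nonZeroDivisors Γ(Proj (CohB1.polyGrading 1 k),
      Proj.basicOpen (CohB1.polyGrading 1 k) (MvPolynomial.X 0))) z
    obtain ⟨pa, rfl⟩ := π₀_surjective a
    obtain ⟨pb, hpb⟩ := π₀_surjective b.1
    have h1 := congrArg (ffMap r e) hab
    rw [map_mul] at h1
    change ffMap r e z * ffMap r e ((Proj (CohB1.polyGrading 1 k)).germToFunctionField
      (Proj.basicOpen (CohB1.polyGrading 1 k) (MvPolynomial.X 0)) b.1) =
      ffMap r e ((Proj (CohB1.polyGrading 1 k)).germToFunctionField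
      (Proj.basicOpen (CohB1.polyGrading 1 k) (MvPolynomial.X 0)) (π₀ pa)) at h1
    rw [← hpb, key, key] at h1
    have hb0 : Polynomial.aeval (jGerm (k := k) _ hη
        (ratio r (hT (k := k) 0) (MvPolynomial.X 1) le_rfl)) pb ≠ 0 := by
      rw [← key, hpb]
      intro h0
      have h2 := (ffMap r e).injective (h0.trans (map_zero _).symm)
      exact nonZeroDivisors.ne_zero b.2
        ((Proj (CohB1.polyGrading 1 k)).germToFunctionField_injective _
          (h2.trans (map_zero _).symm))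
    have h3 : ffMap r e z = Polynomial.aeval (jGerm (k := k) _ hη
        (ratio r (hT (k := k) 0) (MvPolynomial.X 1) le_rfl)) pa /
        Polynomial.aeval (jGerm (k := k) _ hη
        (ratio r (hT (k := k) 0) (MvPolynomial.X 1) le_rfl)) pb := by
      rw [eq_div_iff hb0]
      exact h1
    rw [h3]
    exact div_mem (aeval_mem_adjoin _ _ (by simp) pa) (aeval_mem_adjoin _ _ (by simp) pb)
  · intro x hx
    let F : IntermediateField k X.functionField :=
      (ffMap r e).fieldRange.toIntermediateField (fun c => by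
        obtain ⟨w, hw⟩ := hcomm c
        exact ⟨w, hw⟩)
    have hτ : jGerm (k := k) _ hη (ratio r (hT (k := k) 0) (MvPolynomial.X 1) le_rfl) ∈ F := by
      refine ⟨(Proj (CohB1.polyGrading 1 k)).germToFunctionField
        (Proj.basicOpen (CohB1.polyGrading 1 k) (MvPolynomial.X 0)) (π₀ Polynomial.X), ?_⟩
      rw [key, Polynomial.aeval_X]
    have hle : IntermediateField.adjoin k ({jGerm (k := k) _ hη
        (ratio r (hT (k := k) 0) (MvPolynomial.X 1) le_rfl)} : Set X.functionField) ≤ F :=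
      IntermediateField.adjoin_simple_le_iff.2 hτ
    obtain ⟨z, hz⟩ := hle hx
    exact ⟨z, hz⟩

end Range

section Aut

variable (k : Type u) [Field k] (X : Scheme.{u}) [X.Over (Spec (CommRingCat.of k))] [IsIntegral X]

attribute [local instance] Curv2.stalkAlgebra

/-- a morphism of the projective line from an inclusion of fields of rational functions -/
theorem exists_hom_of_range_le (f₁ f₂ : X ⟶ CohB1.ProjSpace 1 k)
    (hf₁ : f₁ ≫ CohB1.ProjSpace.toSpec 1 k = X ↘ Spec (CommRingCat.of k))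
    (hf₂ : f₂ ≫ CohB1.ProjSpace.toSpec 1 k = X ↘ Spec (CommRingCat.of k))
    [IsIntegral (CohB1.ProjSpace 1 k)]
    (e₁ : f₁ (genericPoint X) = genericPoint ↥(CohB1.ProjSpace 1 k))
    (e₂ : f₂ (genericPoint X) = genericPoint ↥(CohB1.ProjSpace 1 k))
    (hle : ∀ z, ffMap f₂ e₂ z ∈ Set.range (ffMap f₁ e₁)) :
    ∃ (θ : (CohB1.ProjSpace 1 k).functionField →+* (CohB1.ProjSpace 1 k).functionField)
      (j : CohB1.ProjSpace 1 k ⟶ CohB1.ProjSpace 1 k),
      (ffMap f₁ e₁).comp θ = ffMap f₂ e₂ ∧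
      j ≫ CohB1.ProjSpace.toSpec 1 k = CohB1.ProjSpace.toSpec 1 k ∧ f₁ ≫ j = f₂ ∧
      (CohB1.ProjSpace 1 k).fromSpecStalk (genericPoint ↥(CohB1.ProjSpace 1 k)) ≫ j =
        Spec.map (CommRingCat.ofHom θ) ≫
          (CohB1.ProjSpace 1 k).fromSpecStalk (genericPoint ↥(CohB1.ProjSpace 1 k)) := by
  haveI := isProper_P1k k
  have hdimP := dim_P1k k
  haveI : Smooth (CohB1.ProjSpace.toSpec 1 k) := Groth.Agent.Lib.R2H1.P1Inter.smooth_toSpec 1 k
  have hnP : Pi1.IsNormalScheme (CohB1.ProjSpace 1 k) :=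
    Groth.Agent.Lib.R2H1.SmoothCompl.isNormalScheme_of_smooth k _ (CohB1.ProjSpace.toSpec 1 k)
  have hcurve : ∀ x : ↥(CohB1.ProjSpace 1 k), IsClosed ({x} : Set ↥(CohB1.ProjSpace 1 k)) →
      ringKrullDim ((CohB1.ProjSpace 1 k).presheaf.stalk x) = 1 :=
    fun x hx => Groth.Agent.Lib.Helper8CurveEt.ringKrullDim_stalk_eq_one hdimP x hx
  have hf₁' : f₁ ≫ ((CohB1.ProjSpace 1 k) ↘ Spec (CommRingCat.of k)) =
      X ↘ Spec (CommRingCat.of k) := hf₁
  have hf₂' : f₂ ≫ ((CohB1.ProjSpace 1 k) ↘ Spec (CommRingCat.of k)) =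
      X ↘ Spec (CommRingCat.of k) := hf₂
  choose g hg using hle
  have inj := (ffMap f₁ e₁).injective
  let θ : (CohB1.ProjSpace 1 k).functionField →+* (CohB1.ProjSpace 1 k).functionField :=
    { toFun := g
      map_one' := inj (by rw [hg, map_one, map_one])
      map_mul' := fun a b => inj (by rw [hg, map_mul, map_mul, hg, hg])
      map_zero' := inj (by rw [hg, map_zero, map_zero])
      map_add' := fun a b => inj (by rw [hg, map_add, map_add, hg, hg]) }
  have hθ : (ffMap f₁ e₁).comp θ = ffMap f₂ e₂ := by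
    ext z
    exact hg z
  have he : ∀ c : k, θ (algebraMap k ((CohB1.ProjSpace 1 k).presheaf.stalk
      (genericPoint ↥(CohB1.ProjSpace 1 k))) c) =
      algebraMap k ((CohB1.ProjSpace 1 k).presheaf.stalk
      (genericPoint ↥(CohB1.ProjSpace 1 k))) c := by
    intro c
    apply inj
    have h1 := Groth.Agent.Lib.R2H1.RatLine.ffMap_stalkMap k f₁ hf₁' e₁ c
    have h2 := Groth.Agent.Lib.R2H1.RatLine.ffMap_stalkMap k f₂ hf₂' e₂ c
    change ffMap f₁ e₁ (g (Curv2.stalkMap k _ _ c)) = ffMap f₁ e₁ (Curv2.stalkMap k _ _ c)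
    rw [hg, h1, h2]
  obtain ⟨j, hjp, hjg⟩ := exists_hom_of_functionField_hom k (CohB1.ProjSpace 1 k)
    (CohB1.ProjSpace 1 k) hcurve hnP θ he
  refine ⟨θ, j, hθ, hjp, ?_, hjg⟩
  apply ext_of_isDominant_of_isSeparated ((CohB1.ProjSpace 1 k) ↘ Spec (CommRingCat.of k)) (by
    rw [Category.assoc, hjp, hf₁', hf₂']) (X.fromSpecStalk (genericPoint X))
  rw [← Category.assoc, fromSpecStalk_comp_ffMap f₁ e₁, Category.assoc, hjg, ← Category.assoc,
    ← Spec.map_comp, ← CommRingCat.ofHom_comp, hθ, ← fromSpecStalk_comp_ffMap f₂ e₂]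

/-- two dominant morphisms to the projective line with the same field of rational functions
differ by an automorphism of the line -/
theorem exists_aut (f₁ f₂ : X ⟶ CohB1.ProjSpace 1 k)
    (hf₁ : f₁ ≫ CohB1.ProjSpace.toSpec 1 k = X ↘ Spec (CommRingCat.of k))
    (hf₂ : f₂ ≫ CohB1.ProjSpace.toSpec 1 k = X ↘ Spec (CommRingCat.of k))
    [IsIntegral (CohB1.ProjSpace 1 k)]
    (e₁ : f₁ (genericPoint X) = genericPoint ↥(CohB1.ProjSpace 1 k))
    (e₂ : f₂ (genericPoint X) = genericPoint ↥(CohB1.ProjSpace 1 k))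
    (hrange : Set.range (ffMap f₁ e₁) = Set.range (ffMap f₂ e₂)) :
    ∃ τ : CohB1.ProjSpace 1 k ≅ CohB1.ProjSpace 1 k,
      τ.hom ≫ CohB1.ProjSpace.toSpec 1 k = CohB1.ProjSpace.toSpec 1 k ∧ f₁ ≫ τ.hom = f₂ := by
  haveI := isProper_P1k k
  obtain ⟨θ, j, hθ, hjp, hj, hjg⟩ := exists_hom_of_range_le k X f₁ f₂ hf₁ hf₂ e₁ e₂
    (fun z => hrange ▸ ⟨z, rfl⟩)
  obtain ⟨θ', j', hθ', hjp', hj', hjg'⟩ := exists_hom_of_range_le k X f₂ f₁ hf₂ hf₁ e₂ e₁
    (fun z => hrange.symm ▸ ⟨z, rfl⟩)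
  have hθθ' : θ.comp θ' = RingHom.id _ := by
    ext z
    apply (ffMap f₁ e₁).injective
    have h1 := congrArg (fun φ : _ →+* _ => φ (θ' z)) hθ
    have h2 := congrArg (fun φ : _ →+* _ => φ z) hθ'
    simp only [RingHom.comp_apply] at h1 h2
    simp only [RingHom.comp_apply, RingHom.id_apply]
    rw [h1, h2]
  have hθ'θ : θ'.comp θ = RingHom.id _ := by
    ext z
    apply (ffMap f₂ e₂).injective
    have h1 := congrArg (fun φ : _ →+* _ => φ (θ z)) hθ'
    have h2 := congrArg (fun φ : _ →+* _ => φ z) hθ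
    simp only [RingHom.comp_apply] at h1 h2
    simp only [RingHom.comp_apply, RingHom.id_apply]
    rw [h1, h2]
  have hjp'' : j ≫ ((CohB1.ProjSpace 1 k) ↘ Spec (CommRingCat.of k)) =
      (CohB1.ProjSpace 1 k) ↘ Spec (CommRingCat.of k) := hjp
  have hjp''' : j' ≫ ((CohB1.ProjSpace 1 k) ↘ Spec (CommRingCat.of k)) =
      (CohB1.ProjSpace 1 k) ↘ Spec (CommRingCat.of k) := hjp'
  have h1 : j ≫ j' = 𝟙 _ := by
    apply ext_of_isDominant_of_isSeparated ((CohB1.ProjSpace 1 k) ↘ Spec (CommRingCat.of k)) (by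
      rw [Category.assoc, hjp''', hjp'', Category.id_comp])
      ((CohB1.ProjSpace 1 k).fromSpecStalk (genericPoint ↥(CohB1.ProjSpace 1 k)))
    rw [← Category.assoc, hjg, Category.assoc, hjg', ← Category.assoc, ← Spec.map_comp,
      ← CommRingCat.ofHom_comp, hθθ', Category.comp_id]
    simp
    exact (Category.id_comp _)
  have h2 : j' ≫ j = 𝟙 _ := by
    apply ext_of_isDominant_of_isSeparated ((CohB1.ProjSpace 1 k) ↘ Spec (CommRingCat.of k)) (by
      rw [Category.assoc, hjp'', hjp''', Category.id_comp])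
      ((CohB1.ProjSpace 1 k).fromSpecStalk (genericPoint ↥(CohB1.ProjSpace 1 k)))
    rw [← Category.assoc, hjg', Category.assoc, hjg, ← Category.assoc, ← Spec.map_comp,
      ← CommRingCat.ofHom_comp, hθ'θ, Category.comp_id]
    simp
    exact (Category.id_comp _)
  exact ⟨⟨j, j', h1, h2⟩, hjp, hj⟩

end Aut

end Part4

section Part5

open CategoryTheory CategoryTheory.Limits AlgebraicGeometry TopologicalSpace Opposite
open Groth.Agent.Helper13ProjUP Groth.Agent.Helper13Dehom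
open Groth.Agent.Lib.Helper6
open Groth.Agent.Lib.R2H1.PoleFilt Groth.Agent.Lib.R2H1.DblCoverGeom
open Groth.Agent.Lib.R2H1.DegPullback Groth.Agent.Lib.R2H1.IsoP1
open Groth.Agent.Lib.R2H1.PicPn Groth.Agent.Lib.R2H1.DblCoverFF
open Groth.Agent.Lib.R2H1.CurveEuler
open Groth.Agent.Lib.R2H1.NormPush Groth.Agent.Lib.R2H1.HypInvol
open Groth.Agent.Lib.R2H1.PicLaw Groth.Agent.Lib.R2H1.PencilTrick
open Groth.Agent.Lib.R2H1.EllInvol


variable (k : Type u) [Field k] [IsAlgClosed k] (X : Scheme.{u}) [X.Over (Spec (CommRingCat.of k))]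
    [IsIntegral X] [IsProper (X ↘ (Spec (CommRingCat.of k)))]

attribute [local instance] algU Curv2.stalkAlgebra

/-- **two double covers of the projective line by a curve of genus one differ by automorphisms** -/
theorem main (hdim : topologicalKrullDim X = 1)
    (hreg : ∀ x : X, IsRegularLocalRing (X.presheaf.stalk x)) (hchar : ringChar k ≠ 2)
    (hg : Curv2.genus k X = 1)
    (f₁ f₂ : X ⟶ (CohB1.ProjSpace 1 k)) [IsFinite f₁] [IsFinite f₂]
    (hf₁ : f₁ ≫ CohB1.ProjSpace.toSpec 1 k = (X ↘ (Spec (CommRingCat.of k))))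
    (hf₂ : f₂ ≫ CohB1.ProjSpace.toSpec 1 k = (X ↘ (Spec (CommRingCat.of k))))
    (hd₁ : FlatMod.IsFinLocFreeOfRank 2
      ((Scheme.Modules.pushforward f₁).obj (Coh.structureModule X)))
    (hd₂ : FlatMod.IsFinLocFreeOfRank 2
      ((Scheme.Modules.pushforward f₂).obj (Coh.structureModule X))) :
    ∃ (σ : X ≅ X) (τ : (CohB1.ProjSpace 1 k) ≅ (CohB1.ProjSpace 1 k)),
      σ.hom ≫ (X ↘ (Spec (CommRingCat.of k))) = (X ↘ (Spec (CommRingCat.of k))) ∧
      τ.hom ≫ CohB1.ProjSpace.toSpec 1 k = CohB1.ProjSpace.toSpec 1 k ∧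
      σ.hom ≫ f₂ = f₁ ≫ τ.hom := by
  haveI := isNoetherian_of_proper k X
  have hnX : Pi1.IsNormalScheme X := fun y => by
    haveI := hreg y
    exact ⟨Groth.Agent.Lib.Helper5.isDomain_of_isRegularLocalRing _,
      Groth.Agent.Lib.Helper28.isIntegrallyClosed_of_isRegularLocalRing _⟩
  haveI : Smooth (X ↘ Spec (CommRingCat.of k)) :=
    Groth.Agent.Lib.R2H1.SmoothCompl.smooth_of_normal k X hdim hnX
  have hX0 := Groth.Agent.Lib.R2H1.RegPoint.finrank_H0_structure_eq_one k X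
  haveI : GeometricallyConnected (X ↘ Spec (CommRingCat.of k)) :=
    Groth.Agent.Lib.R2H1.CurveBC.geometricallyConnected_of_h0 k X hX0
  haveI := isIntegral_P1k k
  haveI := isProper_P1k k
  have h2k : (2 : k) ≠ 0 := Ring.two_ne_zero hchar
  have hg1 : 1 ≤ Curv2.genus k X := by omega
  -- flatness and ranks
  have hD₁ := (Groth.Agent.Helper18FinFlat.main_S19692 f₁ 2).mpr ⟨inferInstance, hd₁⟩
  have hD₂ := (Groth.Agent.Helper18FinFlat.main_S19692 f₂ 2).mpr ⟨inferInstance, hd₂⟩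
  haveI : Flat f₁ := hD₁.1.2.1
  haveI : Flat f₂ := hD₂.1.2.1
  have hrk₁ : ∀ y, Scheme.Hom.finrank f₁ y = 2 := hD₁.2
  have hrk₂ : ∀ y, Scheme.Hom.finrank f₂ y = 2 := hD₂.2
  let r₁ : X ⟶ Proj (CohB1.polyGrading 1 k) := f₁
  let r₂ : X ⟶ Proj (CohB1.polyGrading 1 k) := f₂
  haveI : IsFinite r₁ := ‹IsFinite f₁›
  haveI : IsFinite r₂ := ‹IsFinite f₂›
  haveI : Flat r₁ := ‹Flat f₁›
  haveI : Flat r₂ := ‹Flat f₂›
  have hres₁ : f₁.residueDegree (genericPoint X) = 2 :=
    residueDegree_of_finrank k X hdim r₁ hf₁ 2 hrk₁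
  have hres₂ : f₂.residueDegree (genericPoint X) = 2 :=
    residueDegree_of_finrank k X hdim r₂ hf₂ 2 hrk₂
  have e₁ : f₁ (genericPoint X) = genericPoint ↥(CohB1.ProjSpace 1 k) :=
    map_genericPoint k X hdim hX0 r₁
  -- points of total ramification
  obtain ⟨P₁, hP₁, htot₁⟩ := exists_total_ramification k X hdim hX0 h2k r₁ hf₁ hres₁
  obtain ⟨P₂, hP₂, htot₂⟩ := exists_total_ramification k X hdim hX0 h2k r₂ hf₂ hres₂
  -- the involution exchanging them
  obtain ⟨ρ, hρp, hρ2, hρP, -⟩ := Groth.Agent.Lib.R2H1.EllInvol.main k X hdim hreg hg P₁ P₂ hP₁ hP₂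
  haveI : IsIso ρ := ⟨ρ, hρ2, hρ2⟩
  have hf₂' : (ρ ≫ f₂) ≫ CohB1.ProjSpace.toSpec 1 k = X ↘ Spec (CommRingCat.of k) := by
    rw [Category.assoc, hf₂, hρp]
  let r₂' : X ⟶ Proj (CohB1.polyGrading 1 k) := ρ ≫ f₂
  haveI : IsFinite (ρ ≫ f₂) := inferInstance
  haveI : IsFinite r₂' := ‹IsFinite (ρ ≫ f₂)›
  haveI : Flat (ρ ≫ f₂) := inferInstance
  haveI : Flat r₂' := ‹Flat (ρ ≫ f₂)›
  have hrk₂' : ∀ y, Scheme.Hom.finrank (ρ ≫ f₂) y = 2 := by
    intro y
    rw [Scheme.Hom.finrank_comp_left_of_isIso]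
    exact hrk₂ y
  have hres₂' : (ρ ≫ f₂).residueDegree (genericPoint X) = 2 :=
    residueDegree_of_finrank k X hdim r₂' hf₂' 2 hrk₂'
  have e₂' : (ρ ≫ f₂) (genericPoint X) = genericPoint ↥(CohB1.ProjSpace 1 k) :=
    map_genericPoint k X hdim hX0 r₂'
  have hρρ : ∀ x : X, ρ (ρ x) = x := by
    intro x
    rw [← Scheme.Hom.comp_apply, hρ2]
    rfl
  have htot₂' : ∀ x : X, (ρ ≫ f₂) x = (ρ ≫ f₂) P₁ → x = P₁ := by
    intro x hx
    rw [Scheme.Hom.comp_apply, Scheme.Hom.comp_apply, hρP] at hx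
    have h1 := htot₂ (ρ x) hx
    rw [← hρρ x, h1, ← hρP, hρρ]
  -- the two pullbacks of `O(1)` are isomorphic
  obtain ⟨i₁⟩ := iso_of_total_ramification k X hdim hreg hg f₁ hf₁ hres₁ P₁ hP₁ htot₁
  obtain ⟨i₂⟩ := iso_of_total_ramification k X hdim hreg hg (ρ ≫ f₂) hf₂' hres₂' P₁ hP₁ htot₂'
  have φ : LL r₂' ≅ LL r₁ :=
    invUnique (CohB1.tensorMod (IP X P₁ hP₁) (IP X P₁ hP₁)) _ _
      (commI _ _ ≪≫ (assocI _ _ _).symm ≪≫ i₂) (commI _ _ ≪≫ (assocI _ _ _).symm ≪≫ i₁)
  have hη₁ := genericPoint_mem_VV k X r₁ e₁ 0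
  have hη₂ := genericPoint_mem_VV k X r₂' e₂' 0
  have hadj := adjoin_eq k X hdim hX0 hg1 r₁ r₂' hf₁ hf₂' hres₁ hres₂' φ hη₁ hη₂
  have hf₁' : f₁ ≫ ((CohB1.ProjSpace 1 k) ↘ Spec (CommRingCat.of k)) =
      X ↘ Spec (CommRingCat.of k) := hf₁
  have hf₂'' : (ρ ≫ f₂) ≫ ((CohB1.ProjSpace 1 k) ↘ Spec (CommRingCat.of k)) =
      X ↘ Spec (CommRingCat.of k) := hf₂'
  have hR₁ := range_ffMap r₁ hf₁ e₁ hη₁ (fun c =>
    ⟨_, Groth.Agent.Lib.R2H1.RatLine.ffMap_stalkMap k f₁ hf₁' e₁ c⟩)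
  have hR₂ := range_ffMap r₂' hf₂' e₂' hη₂ (fun c =>
    ⟨_, Groth.Agent.Lib.R2H1.RatLine.ffMap_stalkMap k (ρ ≫ f₂) hf₂'' e₂' c⟩)
  have hrange : Set.range (ffMap f₁ e₁) = Set.range (ffMap (ρ ≫ f₂) e₂') := by
    refine hR₁.trans (Eq.trans ?_ hR₂.symm)
    rw [hadj]
  obtain ⟨τ, hτp, hτ⟩ := exists_aut k X f₁ (ρ ≫ f₂) hf₁ hf₂' e₁ e₂' hrange
  exact ⟨⟨ρ, ρ, hρ2, hρ2⟩, τ, hρp, hτp, hτ.symm⟩

end Part5

end Groth.Agent.Lib.R2H1.EllCover
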