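import Mathlib
import Groth.Agent.Lib.R2H1VBGlobGen
import Groth.Agent.Lib.R2H1SubDegBound
import Groth.Agent.Lib.R2H1VBTwist
import Groth.Agent.Lib.R2H2PdSheaf
set_option backward.isDefEq.respectTransparency.types false

/-!
# Rank-two bundles on a genus-one curve (helper1, round 2)

* `iso_biprod_of_retraction`, `hom_structure_eq_smul`, `exists_retraction_of_H1`
* `exists_nonsplit_ses`: a normalized indecomposable rank-two module of degree zero on a genus-one
  curve is a nonsplit extension of `O` by `O`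
* `section_comp_eq_zero`, `pullback_shortExact`, `exists_lift_of_nonsplit`, `iso_of_nonsplit`
-/

set_option autoImplicit false
set_option linter.style.haveILetI false
set_option linter.unusedSectionVars false
universe u v

open CategoryTheory CategoryTheory.Limits AlgebraicGeometry TopologicalSpace Opposite

namespace Groth.Agent.Lib.R2H1.EllRank2

section Part1

open Groth.Agent.Lib.R2H1.SerreDual
open Groth.Agent.Lib.R2H1.CurveEuler Groth.Agent.Lib.R2H1.CurveDegSec
  Groth.Agent.Lib.R2H1.EulerAdd Groth.Agent.Lib.R2H2.HHLin Groth.Agent.Lib.R2H2.PnLinRes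
  Groth.Agent.Lib.R2H1.VBSub Groth.Agent.Lib.R2H1.RegPoint
open Groth.Agent.Lib.R2H2.DualRep Groth.Agent.Lib.R2H2.PnBeilinson

section Gen

variable {X : Scheme.{u}}

/-- a monomorphism with a retraction splits off its source -/
theorem iso_biprod_of_retraction {A B : X.Modules} (s : A ⟶ B) (ρ : B ⟶ A)
    (h : s ≫ ρ = 𝟙 A) : Nonempty (B ≅ A ⊞ cokernel s) := by
  let S : ShortComplex X.Modules := ShortComplex.mk s (cokernel.π s) (cokernel.condition s)
  have hS : S.Exact := ShortComplex.exact_cokernel s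
  exact ⟨(ShortComplex.Splitting.ofExactOfRetraction S hS ρ h
    (inferInstanceAs (Epi (cokernel.π s)))).isoBinaryBiproduct⟩

end Gen

variable (k : Type u) [Field k] [IsAlgClosed k] (X : Scheme.{u}) [X.Over (Spec (CommRingCat.of k))]
    [IsIntegral X] [IsProper (X ↘ (Spec (CommRingCat.of k)))]

/-- endomorphisms of the structure module are scalars -/
theorem hom_structure_eq_smul (f : Coh.structureModule X ⟶ Coh.structureModule X) :
    ∃ c : k, f = c • 𝟙 (Coh.structureModule X) := by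
  have h1 : Module.finrank k (Coh.structureModule X ⟶ Coh.structureModule X) = 1 := by
    rw [(clsEquiv (k := k) (Coh.structureModule X)).finrank_eq]
    exact finrank_H0_structure_eq_one k X
  have hid : (𝟙 (Coh.structureModule X)) ≠ 0 :=
    Groth.Agent.Lib.R2H1.SubDegBound.id_structureModule_ne_zero' X
  obtain ⟨c, hc⟩ := (finrank_eq_one_iff_of_nonzero' (𝟙 (Coh.structureModule X)) hid).1 h1 f
  exact ⟨c, hc.symm⟩

/-- genus one: a map out of `O_X` which is nonzero on some class of `H¹` has a retraction -/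
theorem exists_retraction_of_H1 (hdim : topologicalKrullDim X = 1)
    (hreg : ∀ x : X, IsRegularLocalRing (X.presheaf.stalk x)) (hg : Curv2.genus k X = 1)
    {P : X.Modules} (cP : Coh.IsCoh P) (j : Coh.structureModule X ⟶ P)
    (x : Coh.HH X (Coh.structureModule X) 1) (hx : HmapL j 1 x ≠ 0) :
    ∃ ρ : P ⟶ Coh.structureModule X, j ≫ ρ = 𝟙 _ := by
  obtain ⟨ω, hω, t, hdeg, ht0, hrep⟩ := exists_dualizing k X hdim hreg
  haveI := isNoetherian_of_proper k X
  haveI := finite_HH k X P cP 1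
  obtain ⟨ψ, hψ⟩ : ∃ ψ : Coh.HH X P 1 →ₗ[k] k, ψ (HmapL j 1 x) ≠ 0 := by
    by_contra hcon
    push_neg at hcon
    exact hx ((Module.forall_dual_apply_eq_zero_iff k _).1 hcon)
  obtain ⟨φ, hφ⟩ := (hrep P cP).2 ψ
  have hne : j ≫ φ ≠ 0 := by
    intro h
    apply hψ
    rw [hφ, ← HmapL_comp, h, HmapL_zero, map_zero]
  have hd0 : Curv2.deg k X ω 1 ≤ 0 := by
    rw [hg] at hdeg
    simpa using hdeg
  haveI := isIso_of_deg_nonpos k X hdim ω hω (j ≫ φ) hne hd0
  exact ⟨φ ≫ inv (j ≫ φ), by rw [← Category.assoc, IsIso.hom_inv_id]⟩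

end Part1

section Part2


open Groth.Agent.Lib.R2H1.SerreDual
open Groth.Agent.Lib.R2H1.CurveEuler Groth.Agent.Lib.R2H1.CurveDegSec
  Groth.Agent.Lib.R2H1.EulerAdd Groth.Agent.Lib.R2H2.HHLin Groth.Agent.Lib.R2H2.PnLinRes
  Groth.Agent.Lib.R2H1.VBSub Groth.Agent.Lib.R2H1.RegPoint Groth.Agent.Lib.R2H1.VBHZero
open Groth.Agent.Lib.R2H2.DualRep Groth.Agent.Lib.R2H2.PnBeilinson

variable (k : Type u) [Field k] [IsAlgClosed k] (X : Scheme.{u}) [X.Over (Spec (CommRingCat.of k))]
    [IsIntegral X] [IsProper (X ↘ (Spec (CommRingCat.of k)))]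

/-- a normalized indecomposable rank-two module of degree zero on a genus-one curve is a nonsplit
extension of `O_X` by `O_X` -/
theorem exists_nonsplit_ses (hdim : topologicalKrullDim X = 1)
    (hreg : ∀ x : X, IsRegularLocalRing (X.presheaf.stalk x)) (hg : Curv2.genus k X = 1)
    (E : X.Modules) (hE : FlatMod.IsFinLocFreeOfRank 2 E)
    (hE0 : Nontrivial (Coh.HH X E 0))
    (hEneg : ∀ M : X.Modules, PicF.IsInvertible M → Curv2.deg k X M 1 < 0 →
      Subsingleton (Coh.HH X (CohB1.tensorMod E M) 0))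
    (hEind : ∀ L₁ L₂ : X.Modules, PicF.IsInvertible L₁ → PicF.IsInvertible L₂ →
      IsEmpty (E ≅ L₁ ⊞ L₂))
    (hEdeg : Curv2.deg k X E 2 = 0) :
    ∃ (s : Coh.structureModule X ⟶ E) (π : E ⟶ Coh.structureModule X) (w : s ≫ π = 0),
      (ShortComplex.mk s π w).ShortExact ∧
      ∀ ρ : E ⟶ Coh.structureModule X, s ≫ ρ ≠ 𝟙 _ := by
  haveI := isNoetherian_of_proper k X
  have cE := Groth.Agent.Lib.R2H1.DegTensor.isCoh_of_rank' hE
  have hO := Groth.Agent.Lib.Helper23.TensorUnit.isInvertible_structureModule X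
  obtain ⟨x, hx⟩ := exists_ne (0 : Coh.HH X E 0)
  obtain ⟨σ, rfl⟩ := cls_surjective _ x
  have hσ : σ ≠ 0 := by
    intro h
    apply hx
    rw [h]
    exact (clsEquiv (k := k) E).map_zero
  haveI : Mono σ := mono_of_section_ne_zero k X hdim hreg hE σ hσ
  have hM := Groth.Agent.Lib.R2H1.VBTwist.s12430 k X hdim hreg E hE hEneg σ hσ
  have hM1 := Groth.Agent.Lib.Helper23.SecTw.isFinLocFreeOfRank_one_of_isInvertible _ hM
  let T : ShortComplex X.Modules := ShortComplex.mk σ (cokernel.π σ) (cokernel.condition σ)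
  have hT : T.ShortExact :=
    { exact := ShortComplex.exact_cokernel σ
      mono_f := inferInstanceAs (Mono σ)
      epi_g := inferInstanceAs (Epi (cokernel.π σ)) }
  have hdeg := Groth.Agent.Lib.R2H4DegAdd.main k X T hT 1 2 1 (structure_rank_one X) hE hM1
  have hdM : Curv2.deg k X (cokernel σ) 1 = 0 := by
    have h1 : Curv2.deg k X E 2 = Curv2.deg k X (Coh.structureModule X) 1 +
        Curv2.deg k X (cokernel σ) 1 := hdeg
    rw [hEdeg, deg_structure k X] at h1
    linarith
  have hns : ∀ ρ : E ⟶ Coh.structureModule X, σ ≫ ρ ≠ 𝟙 _ := by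
    intro ρ hρ
    obtain ⟨e⟩ := iso_biprod_of_retraction σ ρ hρ
    exact (hEind _ _ hO hM).false e
  -- the quotient is trivial
  have hiso : Nonempty (cokernel σ ≅ Coh.structureModule X) := by
    by_contra hno
    have hH0 : ∀ y : Coh.HH X (cokernel σ) 0, y = 0 := by
      intro y
      obtain ⟨τ, rfl⟩ := cls_surjective _ y
      by_cases hτ : τ = 0
      · rw [hτ]
        exact (clsEquiv (k := k) (cokernel σ)).map_zero
      · exact absurd (s1520 k X hdim _ hM τ hτ (by rw [hdM])) hno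
    have hg' : Module.finrank k (Coh.HH X (Coh.structureModule X) 1) = 1 := hg
    haveI : Nontrivial (Coh.HH X (Coh.structureModule X) 1) :=
      Module.nontrivial_of_finrank_pos (R := k) (by omega)
    obtain ⟨x₁, hx₁⟩ := exists_ne (0 : Coh.HH X (Coh.structureModule X) 1)
    have hne : HmapL σ 1 x₁ ≠ 0 := by
      intro h0
      obtain ⟨x₃, hx₃⟩ := exact₁ T hT 0 x₁ h0
      apply hx₁
      rw [← hx₃, hH0 x₃, map_zero]
    obtain ⟨ρ, hρ⟩ := exists_retraction_of_H1 k X hdim hreg hg cE σ x₁ hne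
    exact hns ρ hρ
  obtain ⟨e⟩ := hiso
  have w : σ ≫ cokernel.π σ ≫ e.hom = 0 := by rw [cokernel.condition_assoc, zero_comp]
  refine ⟨σ, cokernel.π σ ≫ e.hom, w, ?_, hns⟩
  have iso : T ≅ ShortComplex.mk σ (cokernel.π σ ≫ e.hom) w :=
    ShortComplex.isoMk (Iso.refl _) (Iso.refl _) e (by simp [T]) (by simp [T])
  exact ShortComplex.shortExact_of_iso iso hT

end Part2

section Part3


open Groth.Agent.Lib.R2H1.SerreDual
open Groth.Agent.Lib.R2H1.CurveEuler Groth.Agent.Lib.R2H1.CurveDegSec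
  Groth.Agent.Lib.R2H1.EulerAdd Groth.Agent.Lib.R2H2.HHLin Groth.Agent.Lib.R2H2.PnLinRes
  Groth.Agent.Lib.R2H1.VBSub Groth.Agent.Lib.R2H1.RegPoint Groth.Agent.Lib.R2H1.VBHZero
open Groth.Agent.Lib.R2H2.DualRep Groth.Agent.Lib.R2H2.PnBeilinson

variable (k : Type u) [Field k] [IsAlgClosed k] (X : Scheme.{u}) [X.Over (Spec (CommRingCat.of k))]
    [IsIntegral X] [IsProper (X ↘ (Spec (CommRingCat.of k)))]

include k in
/-- sections of the middle term of a nonsplit extension of `O` by `O` die in the quotient -/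
theorem section_comp_eq_zero {E : X.Modules} (s : Coh.structureModule X ⟶ E)
    (π : E ⟶ Coh.structureModule X) (w : s ≫ π = 0)
    (hS : (ShortComplex.mk s π w).ShortExact)
    (hns : ∀ ρ : E ⟶ Coh.structureModule X, s ≫ ρ ≠ 𝟙 _)
    (y : Coh.structureModule X ⟶ E) : y ≫ π = 0 := by
  obtain ⟨c, hc⟩ := hom_structure_eq_smul k X (y ≫ π)
  by_cases h0 : c = 0
  · rw [hc, h0, zero_smul]
  · exfalso
    have hsec : (c⁻¹ • y) ≫ π = 𝟙 _ := by
      rw [Linear.smul_comp, hc, smul_smul, inv_mul_cancel₀ h0, one_smul]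
    haveI := hS.mono_f
    let sp := ShortComplex.Splitting.ofExactOfSection (ShortComplex.mk s π w) hS.exact
      (c⁻¹ • y) hsec hS.mono_f
    exact hns sp.r sp.f_r

section PB

variable {X}

/-- the pullback of two extensions by the same quotient is an extension of the first by the
kernel of the second -/
theorem pullback_shortExact {A E E' Q : X.Modules} (π : E ⟶ Q) (s' : A ⟶ E') (π' : E' ⟶ Q)
    (w' : s' ≫ π' = 0) (hS' : (ShortComplex.mk s' π' w').ShortExact) :
    ∃ (j : A ⟶ pullback π π') (wj : j ≫ pullback.fst π π' = 0),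
      j ≫ pullback.snd π π' = s' ∧
      (ShortComplex.mk j (pullback.fst π π') wj).ShortExact := by
  haveI := hS'.mono_f
  haveI := hS'.epi_g
  haveI : Mono s' := hS'.mono_f
  haveI : Epi π' := hS'.epi_g
  let j : A ⟶ pullback π π' := pullback.lift 0 s' (by rw [zero_comp, w'])
  have hj1 : j ≫ pullback.fst π π' = 0 := pullback.lift_fst _ _ _
  have hj2 : j ≫ pullback.snd π π' = s' := pullback.lift_snd _ _ _
  haveI : Mono j := mono_of_mono_fac hj2
  refine ⟨j, hj1, hj2, ?_⟩
  refine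
    { exact := ?_
      mono_f := inferInstanceAs (Mono j)
      epi_g := inferInstanceAs (Epi (pullback.fst π π')) }
  refine ShortComplex.exact_of_f_is_kernel _ ?_
  have hk : ∀ {W : X.Modules} (g : W ⟶ pullback π π'), g ≫ pullback.fst π π' = 0 →
      (g ≫ pullback.snd π π') ≫ π' = 0 := by
    intro W g hg
    rw [Category.assoc, ← pullback.condition, ← Category.assoc, hg, zero_comp]
  refine KernelFork.IsLimit.ofι _ _
    (fun {W} g hg => hS'.exact.lift (g ≫ pullback.snd π π') (hk g hg)) ?_ ?_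
  · intro W g hg
    apply pullback.hom_ext
    · change _ ≫ pullback.fst π π' = g ≫ pullback.fst π π'
      rw [Category.assoc]
      change _ ≫ j ≫ pullback.fst π π' = _
      rw [hj1, comp_zero]
      exact hg.symm
    · rw [Category.assoc]
      change _ ≫ j ≫ pullback.snd π π' = _
      rw [hj2]
      exact hS'.exact.lift_f _ _
  · intro W g hg b hb
    haveI : Mono s' := hS'.mono_f
    rw [← cancel_mono s']
    have h1 : hS'.exact.lift (g ≫ pullback.snd π π') (hk g hg) ≫ s' = g ≫ pullback.snd π π' :=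
      hS'.exact.lift_f _ _
    rw [h1, ← hb, Category.assoc]
    change b ≫ s' = b ≫ j ≫ pullback.snd π π'
    rw [hj2]

end PB

/-- a nonsplit extension of `O` by `O` maps to any extension of `O` by `O` over the quotient -/
theorem exists_lift_of_nonsplit (hdim : topologicalKrullDim X = 1)
    (hreg : ∀ x : X, IsRegularLocalRing (X.presheaf.stalk x)) (hg : Curv2.genus k X = 1)
    {E E' : X.Modules} (cE : Coh.IsCoh E)
    (s : Coh.structureModule X ⟶ E) (π : E ⟶ Coh.structureModule X) (w : s ≫ π = 0)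
    (hS : (ShortComplex.mk s π w).ShortExact)
    (hns : ∀ ρ : E ⟶ Coh.structureModule X, s ≫ ρ ≠ 𝟙 _)
    (s' : Coh.structureModule X ⟶ E') (π' : E' ⟶ Coh.structureModule X) (w' : s' ≫ π' = 0)
    (hS' : (ShortComplex.mk s' π' w').ShortExact) :
    ∃ f : E ⟶ E', f ≫ π' = π := by
  haveI := isNoetherian_of_proper k X
  obtain ⟨j, wj, hj2, hSP⟩ := pullback_shortExact π s' π' w' hS'
  have cO := Groth.Agent.Lib.R2H1.GenusLe.isCoh_structureModule X
  have cP : Coh.IsCoh (pullback π π') :=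
    Groth.Agent.Lib.R2H2.PdSheaf.isCoh_X₂ (ShortComplex.mk j (pullback.fst π π') wj) hSP cO cE
  have hg' : Module.finrank k (Coh.HH X (Coh.structureModule X) 1) = 1 := hg
  haveI : Nontrivial (Coh.HH X (Coh.structureModule X) 1) :=
    Module.nontrivial_of_finrank_pos (R := k) (by omega)
  obtain ⟨x₁, hx₁⟩ := exists_ne (0 : Coh.HH X (Coh.structureModule X) 1)
  have hne : HmapL j 1 x₁ ≠ 0 := by
    intro h0
    obtain ⟨y, hy⟩ := exact₁ (ShortComplex.mk j (pullback.fst π π') wj) hSP 0 x₁ h0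
    obtain ⟨σ, rfl⟩ := cls_surjective _ y
    have hσ : σ ≫ π = 0 := section_comp_eq_zero k X s π w hS hns σ
    obtain ⟨σ', hσ'⟩ : ∃ σ' : Coh.structureModule X ⟶ pullback π π',
        σ' ≫ pullback.fst π π' = σ :=
      ⟨pullback.lift σ 0 (by rw [hσ, zero_comp]), pullback.lift_fst _ _ _⟩
    apply hx₁
    rw [← hy, ← hσ', ← cls_comp]
    exact deltaL_HmapL_g (ShortComplex.mk j (pullback.fst π π') wj) hSP 0 (cls σ')
  obtain ⟨ρ, hρ⟩ := exists_retraction_of_H1 k X hdim hreg hg cP j x₁ hne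
  let sp := ShortComplex.Splitting.ofExactOfRetraction
    (ShortComplex.mk j (pullback.fst π π') wj) hSP.exact ρ hρ hSP.epi_g
  have hsg : sp.s ≫ pullback.fst π π' = 𝟙 E := sp.s_g
  refine ⟨sp.s ≫ pullback.snd π π', ?_⟩
  rw [Category.assoc, ← pullback.condition, ← Category.assoc, hsg, Category.id_comp]

/-- two nonsplit extensions of `O` by `O` on a genus-one curve have isomorphic middle terms -/
theorem iso_of_nonsplit (hdim : topologicalKrullDim X = 1)
    (hreg : ∀ x : X, IsRegularLocalRing (X.presheaf.stalk x)) (hg : Curv2.genus k X = 1)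
    {E E' : X.Modules} (cE : Coh.IsCoh E)
    (s : Coh.structureModule X ⟶ E) (π : E ⟶ Coh.structureModule X) (w : s ≫ π = 0)
    (hS : (ShortComplex.mk s π w).ShortExact)
    (hns : ∀ ρ : E ⟶ Coh.structureModule X, s ≫ ρ ≠ 𝟙 _)
    (s' : Coh.structureModule X ⟶ E') (π' : E' ⟶ Coh.structureModule X) (w' : s' ≫ π' = 0)
    (hS' : (ShortComplex.mk s' π' w').ShortExact)
    (hns' : ∀ ρ : E' ⟶ Coh.structureModule X, s' ≫ ρ ≠ 𝟙 _) :
    Nonempty (E ≅ E') := by
  obtain ⟨f, hf⟩ := exists_lift_of_nonsplit k X hdim hreg hg cE s π w hS hns s' π' w' hS'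
  haveI : Mono s' := hS'.mono_f
  haveI : Epi π := hS.epi_g
  have h1 : (s ≫ f) ≫ π' = 0 := by rw [Category.assoc, hf, w]
  obtain ⟨u, hu⟩ : ∃ u : Coh.structureModule X ⟶ Coh.structureModule X, u ≫ s' = s ≫ f :=
    ⟨hS'.exact.lift (s ≫ f) h1, hS'.exact.lift_f _ _⟩
  obtain ⟨c, hc⟩ := hom_structure_eq_smul k X u
  have hid : (𝟙 (Coh.structureModule X)) ≠ 0 :=
    Groth.Agent.Lib.R2H1.SubDegBound.id_structureModule_ne_zero' X
  by_cases h0 : c = 0
  · exfalso
    have hsf : s ≫ f = 0 := by rw [← hu, hc, h0, zero_smul, zero_comp]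
    obtain ⟨g, hg1⟩ : ∃ g : Coh.structureModule X ⟶ E', π ≫ g = f :=
      ⟨hS.exact.desc f hsf, hS.exact.g_desc _ _⟩
    have h2 : g ≫ π' = 𝟙 _ := by
      rw [← cancel_epi π, ← Category.assoc, hg1, hf, Category.comp_id]
    have h3 : g ≫ π' = 0 := section_comp_eq_zero k X s' π' w' hS' hns' g
    exact hid (h2.symm.trans h3)
  · have hu1 : IsIso u := by
      refine ⟨c⁻¹ • 𝟙 _, ?_, ?_⟩
      · rw [hc, Linear.smul_comp, Linear.comp_smul, Category.comp_id, smul_smul,
          mul_inv_cancel₀ h0, one_smul]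
      · rw [hc, Linear.smul_comp, Linear.comp_smul, Category.comp_id, smul_smul,
          inv_mul_cancel₀ h0, one_smul]
    let φ : ShortComplex.mk s π w ⟶ ShortComplex.mk s' π' w' :=
      { τ₁ := u
        τ₂ := f
        τ₃ := 𝟙 _
        comm₁₂ := hu
        comm₂₃ := by
          change f ≫ π' = π ≫ 𝟙 _
          rw [hf, Category.comp_id] }
    haveI : IsIso f := ShortComplex.isIso₂_of_shortExact_of_isIso₁₃' φ hS hS' hu1
      (inferInstanceAs (IsIso (𝟙 _)))
    exact ⟨asIso f⟩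

end Part3

end Groth.Agent.Lib.R2H1.EllRank2
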