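/-
Inertia trivial iff unramified with separable residue extension, for the integral closure of a
complete Noetherian normal local domain in a finite Galois extension (helper1, round 2).
Tools: `exists_moved_by_all` (field with finite Aut group has an element moved by every nontrivial
automorphism), `vandermonde_span`, `vandermonde_coeff_mem`, `isUnit_det_vandermonde`,
`finite_of_isGaloisGroup`, `isLocalRing_of_isGaloisGroup`, `forward`, `backward`, `main_18535`.
-/
import Mathlib
import Groth.Agent.Lib.R2H1AdicVal

set_option autoImplicit false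
set_option linter.style.haveILetI false
set_option linter.unusedSectionVars false
universe u

namespace Groth.Agent.Lib.R2H1.InertiaUnram

section Part1

open IsLocalRing

section Field

/-- a field with finite automorphism group has an element moved by every nontrivial
automorphism. -/
theorem exists_moved_by_all (k E : Type u) [Field k] [Field E] [Algebra k E]
    [Finite (E ≃ₐ[k] E)] : ∃ α : E, ∀ τ : E ≃ₐ[k] E, τ α = α → τ = 1 := by
  classical
  obtain ⟨α, hα⟩ := Field.exists_primitive_element (FixedPoints.subfield (E ≃ₐ[k] E) E) E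
  refine ⟨α, fun τ hτ => ?_⟩
  -- the fixed field of τ as an intermediate field
  let Fτ : IntermediateField (FixedPoints.subfield (E ≃ₐ[k] E) E) E :=
    { carrier := {y | τ y = y}
      mul_mem' := by
        intro a b ha hb
        simp only [Set.mem_setOf_eq] at ha hb ⊢
        rw [map_mul, ha, hb]
      one_mem' := by simp
      add_mem' := by
        intro a b ha hb
        simp only [Set.mem_setOf_eq] at ha hb ⊢
        rw [map_add, ha, hb]
      zero_mem' := by simp
      algebraMap_mem' := by
        intro r
        simp only [Set.mem_setOf_eq]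
        exact r.2 τ
      inv_mem' := by
        intro a ha
        simp only [Set.mem_setOf_eq] at ha ⊢
        rw [map_inv₀, ha] }
  have hle : IntermediateField.adjoin (FixedPoints.subfield (E ≃ₐ[k] E) E) {α} ≤ Fτ := by
    rw [IntermediateField.adjoin_simple_le_iff]
    exact hτ
  rw [hα] at hle
  ext y
  exact hle (IntermediateField.mem_top)

end Field

section Hensel

theorem henselian_of_complete (R : Type u) [CommRing R] [IsLocalRing R]
    [IsAdicComplete (maximalIdeal R) R] : HenselianLocalRing R := by
  refine ⟨fun f hf a₀ h₁ h₂ => ?_⟩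
  have := HenselianRing.is_henselian (I := maximalIdeal R) f hf a₀ h₁ (h₂.map _)
  exact this

end Hensel

end Part1

section Part2

open IsLocalRing

section Vandermonde

variable {R S G : Type u} [CommRing R] [CommRing S] [Algebra R S] [Group G] [Finite G]
  [MulSemiringAction G S] [SMulCommClass G R S] [Algebra.IsInvariant R S G]

/-- if the Vandermonde determinant of the conjugates of `x` is a unit, then `1, x, …, x^(N-1)`
span `S` over the invariants. -/
theorem vandermonde_span (N : ℕ) (e : Fin N ≃ G) (x : S)
    (hdet : IsUnit (Matrix.vandermonde (fun i => e i • x)).det) (s : S) :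
    ∃ r : Fin N → R, s = ∑ j : Fin N, algebraMap R S (r j) * x ^ (j : ℕ) := by
  classical
  set V := Matrix.vandermonde (fun i => e i • x) with hV
  let b : Fin N → S := fun i => e i • s
  let a : Fin N → S := V⁻¹.mulVec b
  have hVa : V.mulVec a = b := by
    rw [Matrix.mulVec_mulVec, Matrix.mul_nonsing_inv V hdet, Matrix.one_mulVec]
  have hVa_i : ∀ i, ∑ j : Fin N, (e i • x) ^ (j : ℕ) * a j = e i • s := fun i => congrFun hVa i
  -- invariance
  have hinv : ∀ (τ : G) (j : Fin N), τ • a j = a j := by
    intro τ j
    let π : Fin N ≃ Fin N := (e.trans (Equiv.mulLeft τ)).trans e.symm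
    have hπ : ∀ i, e (π i) = τ * e i := by intro i; simp [π]
    let a' : Fin N → S := fun j => τ • a j
    have hVa' : V.mulVec a' = b := by
      funext i'
      obtain ⟨i, rfl⟩ := π.surjective i'
      have h2 := congrArg (fun y => τ • y) (hVa_i i)
      simp only [Finset.smul_sum, smul_mul', smul_pow', smul_smul] at h2
      change ∑ j : Fin N, (e (π i) • x) ^ (j : ℕ) * (τ • a j) = e (π i) • s
      rw [hπ i]
      exact h2
    have h3 : a' = a := by
      have := congrArg (V⁻¹.mulVec) (hVa'.trans hVa.symm)
      rwa [Matrix.mulVec_mulVec, Matrix.mulVec_mulVec, Matrix.nonsing_inv_mul V hdet,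
        Matrix.one_mulVec, Matrix.one_mulVec] at this
    exact congrFun h3 j
  choose r hr using fun j => Algebra.IsInvariant.isInvariant (A := R) (a j) (fun τ => hinv τ j)
  refine ⟨r, ?_⟩
  have h1 := hVa_i (e.symm 1)
  rw [Equiv.apply_symm_apply, one_smul, one_smul] at h1
  rw [← h1]
  refine Finset.sum_congr rfl fun j _ => ?_
  rw [hr j, mul_comm]

/-- the coefficients of an element of a `G`-stable ideal lie in the ideal. -/
theorem vandermonde_coeff_mem (N : ℕ) (e : Fin N ≃ G) (x : S)
    (hdet : IsUnit (Matrix.vandermonde (fun i => e i • x)).det)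
    (n : Ideal S) (hn : ∀ σ : G, ∀ y ∈ n, σ • y ∈ n)
    (r : Fin N → R) (h : ∑ j : Fin N, algebraMap R S (r j) * x ^ (j : ℕ) ∈ n) :
    ∀ j, algebraMap R S (r j) ∈ n := by
  classical
  set V := Matrix.vandermonde (fun i => e i • x) with hV
  let a : Fin N → S := fun j => algebraMap R S (r j)
  have h1 : ∀ i, (V.mulVec a) i ∈ n := by
    intro i
    have h2 := hn (e i) _ h
    simp only [Finset.smul_sum, smul_mul', smul_pow', smul_algebraMap] at h2
    change ∑ j : Fin N, (e i • x) ^ (j : ℕ) * algebraMap R S (r j) ∈ n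
    convert h2 using 2 with j
    rw [mul_comm]
  have h2 : a = V⁻¹.mulVec (V.mulVec a) := by
    rw [Matrix.mulVec_mulVec, Matrix.nonsing_inv_mul V hdet, Matrix.one_mulVec]
  intro j
  have h3 : a j = ∑ i, V⁻¹ j i * (V.mulVec a) i := congrFun h2 j
  change a j ∈ n
  rw [h3]
  exact Ideal.sum_mem _ fun i _ => Ideal.mul_mem_left _ _ (h1 i)

omit [Finite G] [SMulCommClass G R S] [Algebra.IsInvariant R S G] in
/-- in a local ring, the Vandermonde determinant of the conjugates of `x` is a unit as soon as
the conjugates are pairwise distinct modulo the maximal ideal. -/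
theorem isUnit_det_vandermonde [IsLocalRing S] (N : ℕ) (e : Fin N ≃ G) (x : S)
    (hx : ∀ σ : G, σ ≠ 1 → σ • x - x ∉ maximalIdeal S) :
    IsUnit (Matrix.vandermonde (fun i => e i • x)).det := by
  rw [Matrix.det_vandermonde, IsUnit.prod_iff]
  intro i _
  rw [IsUnit.prod_iff]
  intro j hj
  rw [Finset.mem_Ioi] at hj
  have hne : (e i)⁻¹ * e j ≠ 1 := by
    intro h
    have : e j = e i := by
      have := congrArg (fun g => e i * g) h
      simpa using this
    exact (ne_of_gt hj) (e.injective this)
  have hu : IsUnit (((e i)⁻¹ * e j) • x - x) := by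
    have := hx _ hne
    rwa [IsLocalRing.mem_maximalIdeal, mem_nonunits_iff, not_not] at this
  have h2 : e j • x - e i • x = e i • (((e i)⁻¹ * e j) • x - x) := by
    rw [smul_sub, smul_smul, mul_inv_cancel_left]
  rw [h2]
  exact hu.map (MulSemiringAction.toRingHom G S (e i))

end Vandermonde

end Part2

section Part3

open IsLocalRing
open scoped Pointwise

section Setup

/-- `S` is a finite `R`-module. -/
theorem finite_of_isGaloisGroup (R S G : Type u) [CommRing R] [CommRing S] [IsDomain R] [IsDomain S]
    [IsNoetherianRing R] [IsIntegrallyClosed R]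
    [Algebra R S] [FaithfulSMul R S] [IsIntegrallyClosed S]
    [Group G] [Finite G] [MulSemiringAction G S] [SMulCommClass G R S] [IsGaloisGroup G R S] :
    Module.Finite R S := by
  haveI : Algebra.IsIntegral R S := Algebra.IsInvariant.isIntegral R S G
  letI := FractionRing.liftAlgebra R (FractionRing S)
  letI := IsFractionRing.mulSemiringAction G S (FractionRing S)
  have hgal : IsGaloisGroup G (FractionRing R) (FractionRing S) :=
    IsGaloisGroup.to_isFractionRing G R S _ _
  haveI : IsGalois (FractionRing R) (FractionRing S) :=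
    IsGaloisGroup.isGalois G (FractionRing R) (FractionRing S)
  haveI : FiniteDimensional (FractionRing R) (FractionRing S) :=
    IsGaloisGroup.finiteDimensional G (FractionRing R) (FractionRing S)
  haveI : IsIntegralClosure S R (FractionRing S) :=
    IsIntegralClosure.of_isIntegrallyClosed S R (FractionRing S)
  exact IsIntegralClosure.finite R (FractionRing R) (FractionRing S) S

/-- `S` is local when `R` is complete local. -/
theorem isLocalRing_of_isGaloisGroup (R S G : Type u) [CommRing R] [CommRing S] [IsDomain R]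
    [IsDomain S] [IsNoetherianRing R] [IsIntegrallyClosed R]
    [Algebra R S] [FaithfulSMul R S] [IsIntegrallyClosed S]
    [Group G] [Finite G] [MulSemiringAction G S] [SMulCommClass G R S] [IsGaloisGroup G R S]
    [IsLocalRing R] [IsAdicComplete (maximalIdeal R) R] :
    IsLocalRing S := by
  haveI := finite_of_isGaloisGroup R S G
  haveI := henselian_of_complete R
  exact AdicVal.isLocalRing_of_finite_of_isDomain R S

/-- the maximal ideal of a local ring is stable under automorphisms. -/
theorem smul_maximalIdeal (S G : Type u) [CommRing S] [Group G] [MulSemiringAction G S]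
    [IsLocalRing S] (σ : G) : σ • maximalIdeal S = maximalIdeal S := by
  ext y
  rw [Ideal.mem_pointwise_smul_iff_inv_smul_mem, mem_maximalIdeal, mem_maximalIdeal,
    mem_nonunits_iff, mem_nonunits_iff, not_iff_not]
  constructor
  · intro h
    have := h.map (MulSemiringAction.toRingHom G S σ)
    simpa using this
  · intro h
    exact h.map (MulSemiringAction.toRingHom G S σ⁻¹)

end Setup

end Part3

section Part4

open IsLocalRing
open scoped Pointwise

section Forward

theorem exists_moved (R S G : Type u) [CommRing R] [CommRing S] [IsDomain R] [IsDomain S]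
    [IsNoetherianRing R] [IsLocalRing R] [IsIntegrallyClosed R]
    [IsAdicComplete (IsLocalRing.maximalIdeal R) R]
    [Algebra R S] [FaithfulSMul R S] [IsIntegrallyClosed S]
    [Group G] [Finite G] [MulSemiringAction G S] [SMulCommClass G R S] [IsGaloisGroup G R S]
    (n : Ideal S) [n.IsMaximal] [n.LiesOver (IsLocalRing.maximalIdeal R)]
    (h : n.toAddSubgroup.inertia G = ⊥) :
    ∃ x : S, ∀ σ : G, σ ≠ 1 → σ • x - x ∉ n := by
  classical
  haveI : IsLocalRing S := isLocalRing_of_isGaloisGroup R S G
  have hn : n = maximalIdeal S := IsLocalRing.eq_maximalIdeal ‹_›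
  have hstab : ∀ σ : G, σ • n = n := by intro σ; rw [hn]; exact smul_maximalIdeal S G σ
  letI : Field (R ⧸ maximalIdeal R) := Ideal.Quotient.field _
  letI : Field (S ⧸ n) := Ideal.Quotient.field n
  have hsurj := Ideal.Quotient.stabilizerHom_surjective G (maximalIdeal R) n
  haveI : Finite ((S ⧸ n) ≃ₐ[R ⧸ maximalIdeal R] (S ⧸ n)) := Finite.of_surjective _ hsurj
  obtain ⟨α, hα⟩ := exists_moved_by_all (R ⧸ maximalIdeal R) (S ⧸ n)
  obtain ⟨x, rfl⟩ := Ideal.Quotient.mk_surjective α
  refine ⟨x, fun σ hσ hmem => hσ ?_⟩
  let σ' : MulAction.stabilizer G n := ⟨σ, hstab σ⟩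
  have h1 : Ideal.Quotient.stabilizerHom n (maximalIdeal R) G σ' (Ideal.Quotient.mk n x)
      = Ideal.Quotient.mk n x := by
    rw [Ideal.Quotient.stabilizerHom_apply]
    exact (Ideal.Quotient.eq).mpr hmem
  have h2 := hα _ h1
  have h3 : σ' ∈ (Ideal.Quotient.stabilizerHom n (maximalIdeal R) G).ker := h2
  rw [Ideal.Quotient.ker_stabilizerHom] at h3
  have h4 : σ ∈ n.toAddSubgroup.inertia G := (Ideal.coe_mem_inertia (σ := σ')).mpr h3
  rw [h] at h4
  exact Subgroup.mem_bot.mp h4

end Forward

end Part4

section Part5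

open IsLocalRing
open scoped Pointwise

section Forward2

theorem forward (R S G : Type u) [CommRing R] [CommRing S] [IsDomain R] [IsDomain S]
    [IsNoetherianRing R] [IsLocalRing R] [IsIntegrallyClosed R]
    [IsAdicComplete (IsLocalRing.maximalIdeal R) R]
    [Algebra R S] [FaithfulSMul R S] [IsIntegrallyClosed S]
    [Group G] [Finite G] [MulSemiringAction G S] [SMulCommClass G R S] [IsGaloisGroup G R S]
    (n : Ideal S) [n.IsMaximal] [n.LiesOver (IsLocalRing.maximalIdeal R)]
    (h : n.toAddSubgroup.inertia G = ⊥) :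
    (IsLocalRing.maximalIdeal R).map (algebraMap R S) = n ∧
        Module.Finite (R ⧸ IsLocalRing.maximalIdeal R) (S ⧸ n) ∧
        Algebra.IsSeparable (R ⧸ IsLocalRing.maximalIdeal R) (S ⧸ n) := by
  classical
  haveI : IsLocalRing S := isLocalRing_of_isGaloisGroup R S G
  have hn : n = maximalIdeal S := IsLocalRing.eq_maximalIdeal ‹_›
  have hstab : ∀ σ : G, σ • n = n := by intro σ; rw [hn]; exact smul_maximalIdeal S G σ
  have hstab' : ∀ σ : G, ∀ y ∈ n, σ • y ∈ n := by
    intro σ y hy
    have : σ • y ∈ σ • n := Ideal.smul_mem_pointwise_smul σ y n hy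
    rwa [hstab σ] at this
  obtain ⟨x, hx⟩ := exists_moved R S G n h
  let e : Fin (Nat.card G) ≃ G := (Finite.equivFin G).symm
  have hdet : IsUnit (Matrix.vandermonde (fun i => e i • x)).det :=
    isUnit_det_vandermonde (Nat.card G) e x (by rwa [← hn])
  have hspan := vandermonde_span (R := R) (Nat.card G) e x hdet
  have hcoef := vandermonde_coeff_mem (R := R) (Nat.card G) e x hdet n hstab'
  have hover : maximalIdeal R = n.under R := Ideal.LiesOver.over
  -- (1) mS = n
  have h1 : (maximalIdeal R).map (algebraMap R S) = n := by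
    apply le_antisymm
    · rw [Ideal.map_le_iff_le_comap]
      exact hover.le
    · intro y hy
      obtain ⟨r, hr⟩ := hspan y
      have h2 := hcoef r (hr ▸ hy)
      rw [hr]
      refine Ideal.sum_mem _ fun j _ => Ideal.mul_mem_right _ _ (Ideal.mem_map_of_mem _ ?_)
      rw [hover]
      exact h2 j
  refine ⟨h1, ?_⟩
  letI : Field (R ⧸ maximalIdeal R) := Ideal.Quotient.field _
  letI : Field (S ⧸ n) := Ideal.Quotient.field n
  -- (2) finite
  let F : (Fin (Nat.card G) → (R ⧸ maximalIdeal R)) →ₗ[R ⧸ maximalIdeal R] (S ⧸ n) :=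
    Fintype.linearCombination (R ⧸ maximalIdeal R)
      (fun j : Fin (Nat.card G) => (Ideal.Quotient.mk n x) ^ (j : ℕ))
  have hF : Function.Surjective F := by
    intro y
    obtain ⟨y, rfl⟩ := Ideal.Quotient.mk_surjective y
    obtain ⟨r, hr⟩ := hspan y
    refine ⟨fun j => Ideal.Quotient.mk _ (r j), ?_⟩
    rw [Fintype.linearCombination_apply, hr, map_sum]
    refine Finset.sum_congr rfl fun j _ => ?_
    rw [map_mul, map_pow, Algebra.smul_def]
    rfl
  haveI hfin : Module.Finite (R ⧸ maximalIdeal R) (S ⧸ n) := Module.Finite.of_surjective F hF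
  refine ⟨hfin, ?_⟩
  -- (3) separable via counting
  have hle1 : Module.finrank (R ⧸ maximalIdeal R) (S ⧸ n) ≤ Nat.card G := by
    have := LinearMap.finrank_le_finrank_of_surjective hF
    rwa [Module.finrank_fin_fun] at this
  have hsurj := Ideal.Quotient.stabilizerHom_surjective G (maximalIdeal R) n
  have hle2 : Nat.card G ≤ Nat.card ((S ⧸ n) ≃ₐ[R ⧸ maximalIdeal R] (S ⧸ n)) := by
    let f : G → ((S ⧸ n) ≃ₐ[R ⧸ maximalIdeal R] (S ⧸ n)) := fun σ =>
      Ideal.Quotient.stabilizerHom n (maximalIdeal R) G ⟨σ, hstab σ⟩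
    have hf : Function.Injective f := by
      intro σ τ hστ
      have h2 := congrArg (fun g => g (Ideal.Quotient.mk n x)) hστ
      simp only [f] at h2
      rw [Ideal.Quotient.stabilizerHom_apply, Ideal.Quotient.stabilizerHom_apply] at h2
      have h3 : σ • x - τ • x ∈ n := (Ideal.Quotient.eq).mp h2
      have h4 : (τ⁻¹ * σ) • x - x ∈ n := by
        have := hstab' τ⁻¹ _ h3
        rwa [smul_sub, smul_smul, smul_smul, inv_mul_cancel, one_smul] at this
      by_contra hne
      have hne' : τ⁻¹ * σ ≠ 1 := by
        intro h5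
        apply hne
        have := congrArg (fun g => τ * g) h5
        simpa using this
      exact hx _ hne' h4
    exact Nat.card_le_card_of_injective f hf
  have hle3 : Nat.card ((S ⧸ n) ≃ₐ[R ⧸ maximalIdeal R] (S ⧸ n))
      ≤ Module.finrank (R ⧸ maximalIdeal R) (S ⧸ n) := by
    rw [Nat.card_eq_fintype_card]
    exact AlgEquiv.card_le
  haveI : IsGalois (R ⧸ maximalIdeal R) (S ⧸ n) :=
    IsGalois.of_card_aut_eq_finrank _ _ (le_antisymm hle3 (hle1.trans hle2))
  infer_instance

end Forward2

end Part5

section Part6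

open IsLocalRing
open scoped Pointwise

section Backward

theorem backward (R S G : Type u) [CommRing R] [CommRing S] [IsDomain R] [IsDomain S]
    [IsNoetherianRing R] [IsLocalRing R] [IsIntegrallyClosed R]
    [IsAdicComplete (IsLocalRing.maximalIdeal R) R]
    [Algebra R S] [FaithfulSMul R S] [IsIntegrallyClosed S]
    [Group G] [Finite G] [MulSemiringAction G S] [SMulCommClass G R S] [IsGaloisGroup G R S]
    (n : Ideal S) [n.IsMaximal] [n.LiesOver (IsLocalRing.maximalIdeal R)]
    (h1 : (IsLocalRing.maximalIdeal R).map (algebraMap R S) = n)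
    (hfin : Module.Finite (R ⧸ IsLocalRing.maximalIdeal R) (S ⧸ n))
    (hsep : Algebra.IsSeparable (R ⧸ IsLocalRing.maximalIdeal R) (S ⧸ n)) :
    n.toAddSubgroup.inertia G = ⊥ := by
  classical
  haveI : Module.Finite R S := finite_of_isGaloisGroup R S G
  haveI : IsLocalRing S := isLocalRing_of_isGaloisGroup R S G
  have hn : n = maximalIdeal S := IsLocalRing.eq_maximalIdeal ‹_›
  have hstab : ∀ σ : G, σ • n = n := by intro σ; rw [hn]; exact smul_maximalIdeal S G σ
  letI : Field (R ⧸ maximalIdeal R) := Ideal.Quotient.field _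
  letI : Field (S ⧸ n) := Ideal.Quotient.field n
  haveI : Normal (R ⧸ maximalIdeal R) (S ⧸ n) := Ideal.Quotient.normal G (maximalIdeal R) n
  haveI : IsGalois (R ⧸ maximalIdeal R) (S ⧸ n) := { to_isSeparable := hsep, to_normal := ‹_› }
  have hcard : Nat.card G = Module.finrank R S := IsGaloisGroup.card_eq_finrank' G R S
  -- S is spanned by d elements
  let bE := Module.finBasis (R ⧸ maximalIdeal R) (S ⧸ n)
  choose b hb using fun i => Ideal.Quotient.mk_surjective (bE i)
  have hspan : Submodule.span R (Set.range b) = ⊤ := by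
    rw [eq_top_iff]
    refine Submodule.le_of_le_smul_of_le_jacobson_bot (I := maximalIdeal R) Module.Finite.fg_top
      (IsLocalRing.maximalIdeal_le_jacobson ⊥) ?_
    intro s _
    choose r hr using fun i => Ideal.Quotient.mk_surjective (bE.repr (Ideal.Quotient.mk n s) i)
    have hmem : s - ∑ i, r i • b i ∈ n := by
      rw [← Ideal.Quotient.eq_zero_iff_mem, map_sub, map_sum, sub_eq_zero]
      conv_lhs => rw [← bE.sum_repr (Ideal.Quotient.mk n s)]
      refine Finset.sum_congr rfl fun i _ => ?_
      rw [← hr i, ← hb i, Algebra.smul_def, Algebra.smul_def, map_mul]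
      rfl
    rw [Submodule.mem_sup]
    refine ⟨∑ i, r i • b i, Submodule.sum_mem _ fun i _ =>
      Submodule.smul_mem _ _ (Submodule.subset_span ⟨i, rfl⟩), s - ∑ i, r i • b i, ?_, by abel⟩
    rw [Ideal.smul_top_eq_map, Submodule.restrictScalars_mem, h1]
    exact hmem
  have hle : Module.finrank R S ≤ Module.finrank (R ⧸ maximalIdeal R) (S ⧸ n) := by
    have := finrank_range_le_card (R := R) b
    rw [Set.finrank, hspan, finrank_top, Fintype.card_fin] at this
    exact this
  -- counting
  have e1 := Ideal.Quotient.stabilizerQuotientInertiaEquiv G (maximalIdeal R) n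
  have c1 : Nat.card (MulAction.stabilizer G n ⧸ n.inertia (MulAction.stabilizer G n))
      = Module.finrank (R ⧸ maximalIdeal R) (S ⧸ n) := by
    rw [Nat.card_congr e1.toEquiv, IsGalois.card_aut_eq_finrank]
  have c2 : Nat.card (MulAction.stabilizer G n) = Nat.card G := by
    have : MulAction.stabilizer G n = ⊤ := by
      rw [eq_top_iff]
      intro σ _
      exact hstab σ
    rw [this, Subgroup.card_top]
  have c3 := Subgroup.card_eq_card_quotient_mul_card_subgroup
    (n.inertia (MulAction.stabilizer G n))
  have hdpos : 0 < Module.finrank (R ⧸ maximalIdeal R) (S ⧸ n) := Module.finrank_pos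
  have hNpos : 0 < Nat.card (n.inertia (MulAction.stabilizer G n)) := Nat.card_pos
  have hN1 : Nat.card (n.inertia (MulAction.stabilizer G n)) = 1 := by
    rw [c2, c1, hcard] at c3
    have h3 : Module.finrank (R ⧸ maximalIdeal R) (S ⧸ n)
        * Nat.card (n.inertia (MulAction.stabilizer G n))
        ≤ Module.finrank (R ⧸ maximalIdeal R) (S ⧸ n) * 1 := by
      rw [← c3, mul_one]; exact hle
    have := Nat.le_of_mul_le_mul_left h3 hdpos
    omega
  have hNbot : n.inertia (MulAction.stabilizer G n) = ⊥ := Subgroup.eq_bot_of_card_eq _ hN1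
  rw [eq_bot_iff]
  intro σ hσ
  have hσstab : σ ∈ MulAction.stabilizer G n := hstab σ
  have h5 : (⟨σ, hσstab⟩ : MulAction.stabilizer G n) ∈ n.inertia (MulAction.stabilizer G n) :=
    (Ideal.coe_mem_inertia (σ := (⟨σ, hσstab⟩ : MulAction.stabilizer G n))).mp hσ
  rw [hNbot, Subgroup.mem_bot] at h5
  rw [Subgroup.mem_bot]
  exact congrArg Subtype.val h5

theorem main_18535 (R S G : Type u) [CommRing R] [CommRing S] [IsDomain R] [IsDomain S]
    [IsNoetherianRing R] [IsLocalRing R] [IsIntegrallyClosed R]
    [IsAdicComplete (IsLocalRing.maximalIdeal R) R]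
    [Algebra R S] [FaithfulSMul R S] [IsIntegrallyClosed S]
    [Group G] [Finite G] [MulSemiringAction G S] [SMulCommClass G R S] [IsGaloisGroup G R S]
    (n : Ideal S) [n.IsMaximal] [n.LiesOver (IsLocalRing.maximalIdeal R)] :
    n.toAddSubgroup.inertia G = ⊥ ↔
      ((IsLocalRing.maximalIdeal R).map (algebraMap R S) = n ∧
        Module.Finite (R ⧸ IsLocalRing.maximalIdeal R) (S ⧸ n) ∧
        Algebra.IsSeparable (R ⧸ IsLocalRing.maximalIdeal R) (S ⧸ n)) :=
  ⟨forward R S G n, fun ⟨h1, h2, h3⟩ => backward R S G n h1 h2 h3⟩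

end Backward

end Part6

end Groth.Agent.Lib.R2H1.InertiaUnram
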