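/-
R2H1EssEtFin (helper1): essentially étale local algebras over a complete local ring come from finite étale algebras over a henselian coefficient-like ring (S16444).
* finite_flat_unram: ess. étale local algebra over henselian Noetherian local ring is finite, flat, formally unramified
* isLocalRing_of_isField_tensor: finite algebra over local ring with field closed fibre is local
* exists_lift_of_separable' (variant of Helper3.Hensel.exists_lift_of_separable with unit derivative)
* main_16444
-/
import Mathlib
import Groth.Prelude.Def_EssEt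
import Groth.Agent.Lib.Helper3HenselM
import Groth.Agent.Lib.Helper3HenselLF
import Groth.Agent.Lib.Helper24G0
import Groth.Agent.Lib.R2H1InertiaUnram

set_option autoImplicit false
set_option linter.style.haveILetI false
set_option linter.unusedSectionVars false
universe u

namespace Groth.Agent.Lib.R2H1.EssEtFin

section Part1

open IsLocalRing TensorProduct Polynomial


/-- Over a henselian Noetherian local ring, an essentially étale local algebra is finite, flat and
formally unramified. -/
theorem finite_flat_unram (A E : Type u) [CommRing A] [IsLocalRing A] [IsNoetherianRing A]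
    (hA : HenselianLocalRing A)
    [CommRing E] [Algebra A E] (hE : EGA4loc.IsEssentiallyEtale A E) :
    Module.Finite A E ∧ Module.Flat A E ∧ Algebra.FormallyUnramified A E := by
  obtain ⟨C, _, _, q, hq, hC, hcomap, ⟨e⟩⟩ := hE
  haveI : q.LiesOver (maximalIdeal A) := ⟨hcomap.symm⟩
  haveI : Algebra.QuasiFiniteAt A q := inferInstance
  haveI hfin : Module.Finite A (Localization.AtPrime q) :=
    Groth.Agent.Lib.Helper3.Hensel.finite_localization_of_quasiFiniteAt q
  haveI : Module.Flat A (Localization.AtPrime q) := Module.Flat.trans A C (Localization.AtPrime q)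
  haveI : Algebra.FormallyEtale A (Localization.AtPrime q) := inferInstance
  exact ⟨Module.Finite.equiv e.symm.toLinearEquiv, Module.Flat.of_linearEquiv e.toLinearEquiv,
    Algebra.FormallyUnramified.of_equiv e.symm⟩

end Part1

section Part2

open IsLocalRing TensorProduct Polynomial


/-- a finite algebra over a local ring whose closed fibre is a field is local. -/
theorem isLocalRing_of_isField_tensor (R S : Type u) [CommRing R] [IsLocalRing R] [CommRing S]
    [Algebra R S] [Module.Finite R S] (L : Type u) [Field L] [Algebra (ResidueField R) L]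
    (e : ResidueField R ⊗[R] S ≃ₐ[ResidueField R] L) : IsLocalRing S := by
  haveI : Algebra.IsIntegral R S := Algebra.IsIntegral.of_finite R S
  set I : Ideal S := (maximalIdeal R).map (algebraMap R S) with hI
  -- S ⧸ I ≃ S ⊗ κ ≃ κ ⊗ S ≃ L
  let e1 : (S ⧸ I) ≃ₐ[S] S ⊗[R] (R ⧸ maximalIdeal R) :=
    Algebra.TensorProduct.quotIdealMapEquivTensorQuot S (maximalIdeal R)
  let e2 : S ⊗[R] (R ⧸ maximalIdeal R) ≃ₐ[R] (R ⧸ maximalIdeal R) ⊗[R] S :=
    Algebra.TensorProduct.comm R S (R ⧸ maximalIdeal R)
  have hfield : IsField (S ⧸ I) := by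
    have h3 : IsField L := Field.toIsField L
    have h2 : IsField (ResidueField R ⊗[R] S) := e.toMulEquiv.isField h3
    have h1 : IsField (S ⊗[R] (R ⧸ maximalIdeal R)) := e2.toMulEquiv.isField h2
    exact e1.toMulEquiv.isField h1
  have hImax : I.IsMaximal := Ideal.Quotient.maximal_of_isField I hfield
  apply IsLocalRing.of_unique_max_ideal
  refine ⟨I, hImax, fun M hM => ?_⟩
  haveI := hM
  have h1 : (M.comap (algebraMap R S)).IsMaximal :=
    Ideal.isMaximal_comap_of_isIntegral_of_isMaximal M
  have h2 : M.comap (algebraMap R S) = maximalIdeal R := IsLocalRing.eq_maximalIdeal h1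
  have h3 : I ≤ M := by
    rw [hI, Ideal.map_le_iff_le_comap, h2]
  exact (hImax.eq_of_le hM.ne_top h3).symm

end Part2

section Part3

open IsLocalRing TensorProduct Polynomial


open IntermediateField in
/-- variant of `Helper3.Hensel.exists_lift_of_separable` also recording that the derivative is a
unit. -/
theorem exists_lift_of_separable' {R : Type u} [CommRing R] [IsLocalRing R] (L : Type u) [Field L]
    [Algebra (ResidueField R) L] [Module.Finite (ResidueField R) L]
    [Algebra.IsSeparable (ResidueField R) L] :
    ∃ p : R[X], p.Monic ∧ Algebra.Etale R (AdjoinRoot p) ∧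
      IsUnit (AdjoinRoot.mk p (derivative p)) ∧
      Nonempty (ResidueField R ⊗[R] AdjoinRoot p ≃ₐ[ResidueField R] L) := by
  let κ := ResidueField R
  obtain ⟨α, hα⟩ := Field.exists_primitive_element κ L
  have hint : IsIntegral κ α := Algebra.IsIntegral.isIntegral α
  have hmonic : (minpoly κ α).Monic := minpoly.monic hint
  have hsep : (minpoly κ α).Separable := Algebra.IsSeparable.isSeparable κ α
  obtain ⟨p, hpmap, -, hpmonic⟩ := lifts_and_natDegree_eq_and_monic
    ((mem_lifts (minpoly κ α)).mpr (map_surjective (residue R) residue_surjective _)) hmonic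
  have hu := Groth.Agent.Lib.Helper3.Hensel.isUnit_mk_derivative p hpmonic
    (by rw [hpmap]; exact hsep)
  refine ⟨p, hpmonic, Groth.Agent.Lib.Helper3.Hensel.etale_adjoinRoot p hpmonic hu, hu, ?_⟩
  let q : (κ ⊗[R] R)[X] :=
    p.map (Algebra.TensorProduct.includeRight (R := R) (A := κ) (B := R)).toRingHom
  let e1 : κ ⊗[R] AdjoinRoot p ≃ₐ[κ] AdjoinRoot q :=
    AdjoinRoot.tensorAlgEquiv (R := R) (S := R) (T := κ) p q rfl
  have hq : q.map (Algebra.TensorProduct.rid R κ κ : κ ⊗[R] R →+* κ) = minpoly κ α := by
    rw [← hpmap, Polynomial.map_map]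
    congr 1
    ext r
    simp only [RingHom.coe_comp, Function.comp_apply]
    change (Algebra.TensorProduct.rid R κ κ) ((1 : κ) ⊗ₜ[R] r) = residue R r
    rw [Algebra.TensorProduct.rid_tmul, Algebra.smul_def, mul_one]
    rfl
  let e2 : AdjoinRoot q ≃ₐ[κ] AdjoinRoot (minpoly κ α) :=
    AdjoinRoot.mapAlgEquiv (Algebra.TensorProduct.rid R κ κ) q (minpoly κ α) (by rw [hq])
  let e3 : AdjoinRoot (minpoly κ α) ≃ₐ[κ] κ⟮α⟯ := adjoinRootEquivAdjoin κ hint
  let e4 : κ⟮α⟯ ≃ₐ[κ] L := (IntermediateField.equivOfEq hα).trans IntermediateField.topEquiv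
  exact ⟨((e1.trans e2).trans e3).trans e4⟩

set_option maxHeartbeats 1600000 in
theorem main_16444
    (R A E : Type u) [CommRing R] [HenselianLocalRing R] [IsNoetherianRing R]
    [CommRing A] [IsLocalRing A] [IsNoetherianRing A] [IsAdicComplete (maximalIdeal A) A]
    [Algebra R A] [IsLocalHom (algebraMap R A)]
    (hres : Function.Bijective (ResidueField.map (algebraMap R A)))
    [CommRing E] [IsLocalRing E] [Algebra A E] [IsLocalHom (algebraMap A E)]
    (hE : EGA4loc.IsEssentiallyEtale A E) :
    ∃ (S : Type u) (_ : CommRing S) (_ : IsLocalRing S) (_ : Algebra R S),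
      Module.Finite R S ∧ Algebra.Etale R S ∧ Nonempty (E ≃ₐ[A] A ⊗[R] S) := by
  classical
  haveI hA : HenselianLocalRing A := Groth.Agent.Lib.R2H1.InertiaUnram.henselian_of_complete A
  obtain ⟨hfin, hflat, hunr⟩ := finite_flat_unram A E hA hE
  haveI := hfin
  haveI := hflat
  haveI := hunr
  haveI hEhens : HenselianLocalRing E := Groth.Agent.Lib.Helper24G0.henselian_of_finite A E
  letI : Algebra R E := ((algebraMap A E).comp (algebraMap R A)).toAlgebra
  haveI : IsScalarTower R A E := IsScalarTower.of_algebraMap_eq (fun _ => rfl)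
  haveI : IsLocalHom (algebraMap R E) := by
    show IsLocalHom ((algebraMap A E).comp (algebraMap R A)); infer_instance
  -- residue fields
  have hbij : Function.Bijective (algebraMap (ResidueField R) (ResidueField A)) := by
    have : ⇑(algebraMap (ResidueField R) (ResidueField A)) =
        ⇑(ResidueField.map (algebraMap R A)) := by
      funext x
      obtain ⟨x, rfl⟩ := residue_surjective x
      rfl
    rw [this]; exact hres
  haveI : Module.Finite (ResidueField A) (ResidueField E) := inferInstance
  haveI : Algebra.IsSeparable (ResidueField A) (ResidueField E) := inferInstance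
  haveI : Module.Finite (ResidueField R) (ResidueField A) :=
    Module.Finite.of_surjective (Algebra.linearMap (ResidueField R) (ResidueField A)) hbij.2
  haveI : Algebra.IsSeparable (ResidueField R) (ResidueField A) :=
    ⟨fun x => by obtain ⟨y, rfl⟩ := hbij.2 x; exact isSeparable_algebraMap y⟩
  haveI : Module.Finite (ResidueField R) (ResidueField E) :=
    Module.Finite.trans (ResidueField A) (ResidueField E)
  haveI : Algebra.IsSeparable (ResidueField R) (ResidueField E) :=
    Algebra.IsSeparable.trans (ResidueField R) (ResidueField A) (ResidueField E)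
  obtain ⟨p, hpm, hpet, hpu, ⟨e₀⟩⟩ := exists_lift_of_separable' (R := R) (ResidueField E)
  haveI := hpet
  haveI hSfin : Module.Finite R (AdjoinRoot p) := hpm.finite_adjoinRoot
  haveI hSfree : Module.Free R (AdjoinRoot p) := hpm.free_adjoinRoot
  haveI hSloc : IsLocalRing (AdjoinRoot p) :=
    isLocalRing_of_isField_tensor R (AdjoinRoot p) (ResidueField E) e₀
  refine ⟨AdjoinRoot p, inferInstance, hSloc, inferInstance, hSfin, hpet, ?_⟩
  -- the residue map of `S`
  let σ : AdjoinRoot p →ₐ[R] ResidueField E :=
    (e₀.toAlgHom.restrictScalars R).comp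
      (Algebra.TensorProduct.includeRight : AdjoinRoot p →ₐ[R] ResidueField R ⊗[R] AdjoinRoot p)
  have hσ : ∀ s, σ s = e₀ ((1 : ResidueField R) ⊗ₜ[R] s) := fun s => rfl
  set ρ' : ResidueField E := σ (AdjoinRoot.root p) with hρ'
  have h0 : aeval ρ' p = 0 := by
    rw [hρ', aeval_algHom_apply, AdjoinRoot.aeval_eq, AdjoinRoot.mk_self, map_zero]
  have hder : aeval ρ' (derivative p) ≠ 0 := by
    rw [hρ', aeval_algHom_apply, AdjoinRoot.aeval_eq]
    exact (hpu.map σ).ne_zero
  -- Hensel in `E`
  have hT := (HenselianLocalRing.TFAE E).out 0 1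
  have hH := hT.mp hEhens
  obtain ⟨θ, hθroot, hθres⟩ := hH (p.map (algebraMap R E)) (hpm.map _) ρ'
    (by rw [aeval_map_algebraMap]; exact h0)
    (by rw [derivative_map, aeval_map_algebraMap]; exact hder)
  have hθ0 : p.eval₂ (Algebra.ofId R E) θ = 0 := by
    have := hθroot
    rw [IsRoot, eval_map] at this
    exact this
  let g : AdjoinRoot p →ₐ[R] E := AdjoinRoot.liftAlgHom p (Algebra.ofId R E) θ hθ0
  have hgroot : g (AdjoinRoot.root p) = θ := AdjoinRoot.liftAlgHom_root p _ θ hθ0
  let Φ : A ⊗[R] AdjoinRoot p →ₐ[A] E :=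
    Algebra.TensorProduct.lift (Algebra.ofId A E) g (fun _ _ => Commute.all _ _)
  have hΦ : ∀ (a : A) (s : AdjoinRoot p), Φ (a ⊗ₜ s) = algebraMap A E a * g s := by
    intro a s; simp [Φ, Algebra.ofId_apply]
  have hresg : ∀ s, residue E (g s) = σ s := by
    have : (IsScalarTower.toAlgHom R E (ResidueField E)).comp g = σ := by
      apply AdjoinRoot.algHom_ext
      show residue E (g (AdjoinRoot.root p)) = σ (AdjoinRoot.root p)
      rw [hgroot, hθres]
    intro s
    exact congrArg (fun ψ : AdjoinRoot p →ₐ[R] ResidueField E => ψ s) this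
  -- surjectivity
  have hrange : ∀ t : ResidueField R ⊗[R] AdjoinRoot p,
      ∃ y : A ⊗[R] AdjoinRoot p, residue E (Φ y) = e₀ t := by
    intro t
    induction t using TensorProduct.induction_on with
    | zero => exact ⟨0, by simp⟩
    | tmul c s =>
      obtain ⟨r, rfl⟩ := residue_surjective c
      refine ⟨(algebraMap R A r) ⊗ₜ s, ?_⟩
      rw [hΦ, map_mul, hresg, hσ]
      have h1 : (residue R r) ⊗ₜ[R] s = (residue R r) • ((1 : ResidueField R) ⊗ₜ[R] s) := by
        rw [TensorProduct.smul_tmul', smul_eq_mul, mul_one]
      rw [h1, map_smul, Algebra.smul_def]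
      rfl
    | add x y hx hy =>
      obtain ⟨y1, h1⟩ := hx
      obtain ⟨y2, h2⟩ := hy
      exact ⟨y1 + y2, by rw [map_add, map_add, h1, h2, map_add]⟩
  have hmE : (maximalIdeal A).map (algebraMap A E) = maximalIdeal E :=
    Algebra.FormallyUnramified.map_maximalIdeal
  have hsurj : Function.Surjective Φ := by
    have hle : (⊤ : Submodule A E) ≤ LinearMap.range Φ.toLinearMap := by
      apply Submodule.le_of_le_smul_of_le_jacobson_bot (I := maximalIdeal A)
        Module.Finite.fg_top (IsLocalRing.maximalIdeal_le_jacobson _)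
      intro x _
      obtain ⟨t, ht⟩ := e₀.surjective (residue E x)
      obtain ⟨y, hy⟩ := hrange t
      have hx : x - Φ y ∈ maximalIdeal E := by
        rw [← residue_eq_zero_iff, map_sub, hy, ht, sub_self]
      rw [← hmE] at hx
      rw [Ideal.smul_top_eq_map]
      exact Submodule.mem_sup.mpr ⟨Φ y, ⟨y, rfl⟩, x - Φ y, hx, by ring⟩
    intro x
    obtain ⟨y, hy⟩ := hle (Submodule.mem_top : x ∈ ⊤)
    exact ⟨y, hy⟩
  -- injectivity by a rank count
  haveI : Module.Free A E := Module.free_of_flat_of_isLocalRing
  have hrank : Module.finrank A (A ⊗[R] AdjoinRoot p) ≤ Module.finrank A E := by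
    rw [Module.finrank_baseChange]
    have h1 : Module.finrank R (AdjoinRoot p) =
        Module.finrank (ResidueField R) (ResidueField E) := by
      rw [← Module.finrank_baseChange (R := ResidueField R) (S := R) (M' := AdjoinRoot p)]
      exact e₀.toLinearEquiv.finrank_eq
    have h2 : Module.finrank (ResidueField R) (ResidueField E) =
        Module.finrank (ResidueField A) (ResidueField E) :=
      Algebra.finrank_eq_of_equiv_equiv (RingEquiv.ofBijective _ hbij) (RingEquiv.refl _) (by
        ext x
        simp only [RingEquiv.toRingHom_eq_coe, RingHom.coe_comp, RingHom.coe_coe,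
          Function.comp_apply, RingEquiv.ofBijective_apply, RingEquiv.refl_apply]
        exact (IsScalarTower.algebraMap_apply _ _ _ x).symm)
    have h3 : Module.finrank (ResidueField A) (ResidueField E) ≤
        Module.finrank (ResidueField A) (ResidueField A ⊗[A] E) := by
      let π : ResidueField A ⊗[A] E →ₐ[ResidueField A] ResidueField E :=
        Algebra.TensorProduct.lift (Algebra.ofId _ _)
          (IsScalarTower.toAlgHom A E (ResidueField E)) (fun _ _ => Commute.all _ _)
      apply LinearMap.finrank_le_finrank_of_surjective (f := π.toLinearMap)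
      intro z
      obtain ⟨x, rfl⟩ := residue_surjective z
      exact ⟨1 ⊗ₜ x, by simp [π]⟩
    rw [Module.finrank_baseChange] at h3
    omega
  have hbijΦ := OrzechProperty.bijective_of_surjective_of_finrank_le Φ.toLinearMap hsurj hrank
  exact ⟨(AlgEquiv.ofBijective Φ hbijΦ).symm⟩

end Part3

end Groth.Agent.Lib.R2H1.EssEtFin
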