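import Mathlib
import Groth.Agent.Lib.R2H3SepFlat

/-!
# Fibrewise criterion for universally separating families of ring maps (EGA IV 11.10.9, ring level)

helper3, round 2.
-/

set_option autoImplicit false
set_option linter.style.haveILetI false
universe u

open TensorProduct

namespace Groth.Agent.Lib.R2H3.FibCrit

/-- a family of ring maps out of `R` is locally separating: `e` killed in every `(C i)_h` is killed
in `R_h`. -/
def RingLocSep {R : Type*} [CommRing R] {ι : Type*} {C : ι → Type*} [∀ i, CommRing (C i)]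
    (φ : ∀ i, R →+* C i) : Prop :=
  ∀ (h e : R), (∀ i, ∃ n : ℕ, φ i (h ^ n * e) = 0) → ∃ n : ℕ, h ^ n * e = 0

section F1
variable {A : Type*} [CommRing A] (𝔭 : Ideal A) [𝔭.IsPrime]

theorem exists_smul_mem_of_tmul_eq_zero {Y : Type*} [AddCommGroup Y] [Module A Y] (y : Y)
    (hy : (1 : 𝔭.ResidueField) ⊗ₜ[A] y = 0) :
    ∃ s : A, s ∉ 𝔭 ∧ s • y ∈ 𝔭 • (⊤ : Submodule A Y) := by
  have h1 : (1 : 𝔭.ResidueField) ⊗ₜ[A ⧸ 𝔭] ((1 : A ⧸ 𝔭) ⊗ₜ[A] y) = 0 := by
    apply (TensorProduct.AlgebraTensorModule.cancelBaseChange A (A ⧸ 𝔭) 𝔭.ResidueField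
      𝔭.ResidueField Y).injective
    rw [map_zero, TensorProduct.AlgebraTensorModule.cancelBaseChange_tmul, one_smul]
    exact hy
  have hloc : IsLocalizedModule (nonZeroDivisors (A ⧸ 𝔭))
      (TensorProduct.mk (A ⧸ 𝔭) 𝔭.ResidueField ((A ⧸ 𝔭) ⊗[A] Y) 1) :=
    (isLocalizedModule_iff_isBaseChange (nonZeroDivisors (A ⧸ 𝔭)) 𝔭.ResidueField _).mpr
      (TensorProduct.isBaseChange (A ⧸ 𝔭) ((A ⧸ 𝔭) ⊗[A] Y) 𝔭.ResidueField)
  obtain ⟨⟨d, hd⟩, hs⟩ := (IsLocalizedModule.eq_zero_iff (nonZeroDivisors (A ⧸ 𝔭))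
    (TensorProduct.mk (A ⧸ 𝔭) 𝔭.ResidueField ((A ⧸ 𝔭) ⊗[A] Y) 1)).mp h1
  obtain ⟨s, rfl⟩ := Ideal.Quotient.mk_surjective d
  refine ⟨s, fun hs' => ?_, ?_⟩
  · have : Ideal.Quotient.mk 𝔭 s = 0 := Ideal.Quotient.eq_zero_iff_mem.mpr hs'
    exact nonZeroDivisors.ne_zero hd this
  · have h2 : (1 : A ⧸ 𝔭) ⊗ₜ[A] (s • y) = 0 := by
      rw [← hs]
      change _ = (Ideal.Quotient.mk 𝔭 s) • ((1 : A ⧸ 𝔭) ⊗ₜ[A] y)
      rw [TensorProduct.smul_tmul', TensorProduct.tmul_smul, TensorProduct.smul_tmul', smul_eq_mul,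
        mul_one, Algebra.smul_def, mul_one]
      rfl
    have h3 := congrArg (TensorProduct.quotTensorEquivQuotSMul Y 𝔭) h2
    rw [map_zero, show (1 : A ⧸ 𝔭) = Ideal.Quotient.mk 𝔭 1 from rfl,
      TensorProduct.quotTensorEquivQuotSMul_mk_tmul, one_smul, Submodule.Quotient.mk_eq_zero] at h3
    exact h3

end F1

section coord
variable {A κ W : Type*} [CommRing A] [CommRing κ] [Algebra A κ]
  [AddCommGroup W] [Module A W] [Module κ W] [IsScalarTower A κ W] [Module.Free κ W]
  (X : Type*) [AddCommGroup X] [Module A X]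

/-- the coordinate maps `W → κ` of a chosen basis, as `A`-linear maps. -/
noncomputable def coord (j : Module.Free.ChooseBasisIndex κ W) : W →ₗ[A] κ :=
  ((Finsupp.lapply j : (Module.Free.ChooseBasisIndex κ W →₀ κ) →ₗ[κ] κ).restrictScalars A).comp
    ((Module.Free.chooseBasis κ W).repr.toLinearMap.restrictScalars A)

/-- the coordinates of an element of `W ⊗ X`, as a finitely supported family. -/
noncomputable def coords : W ⊗[A] X →ₗ[A] (Module.Free.ChooseBasisIndex κ W →₀ κ ⊗[A] X) :=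
  (TensorProduct.finsuppLeft A A κ X (Module.Free.ChooseBasisIndex κ W)).toLinearMap.comp
    (((Module.Free.chooseBasis κ W).repr.toLinearMap.restrictScalars A).rTensor X)

theorem coords_apply (w : W ⊗[A] X) (j : Module.Free.ChooseBasisIndex κ W) :
    coords (κ := κ) X w j = (coord (A := A) (κ := κ) (W := W) j).rTensor X w := by
  unfold coords coord
  rw [LinearMap.comp_apply, LinearEquiv.coe_coe, TensorProduct.finsuppLeft_apply,
    ← LinearMap.comp_apply, ← LinearMap.rTensor_comp]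
  rfl

theorem coords_injective : Function.Injective (coords (A := A) (κ := κ) (W := W) X) := by
  unfold coords
  rw [LinearMap.coe_comp]
  refine Function.Injective.comp (LinearEquiv.injective _) ?_
  have he : ⇑(((Module.Free.chooseBasis κ W).repr.toLinearMap.restrictScalars A).rTensor X) =
      ⇑(TensorProduct.congr ((Module.Free.chooseBasis κ W).repr.restrictScalars A)
        (LinearEquiv.refl A X)) := by
    funext z
    induction z using TensorProduct.induction_on with
    | zero => simp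
    | tmul a b => rfl
    | add a b ha hb => rw [map_add, map_add, ha, hb]
  rw [he]
  exact LinearEquiv.injective _

end coord

section theta
variable {A : Type*} [CommRing A] (J : Ideal A) (Q : Type*) [AddCommGroup Q] [Module A Q]

/-- the multiplication map `J ⊗ Q → Q`. -/
noncomputable def theta : J ⊗[A] Q →ₗ[A] Q :=
  (TensorProduct.lid A Q).toLinearMap.comp (J.subtype.rTensor Q)

theorem theta_tmul (a : J) (q : Q) : theta J Q (a ⊗ₜ q) = (a : A) • q := by
  simp [theta]

theorem theta_injective_of_flat [Module.Flat A Q] : Function.Injective (theta J Q) := by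
  unfold theta
  rw [LinearMap.coe_comp]
  exact (LinearEquiv.injective _).comp
    (Module.Flat.rTensor_preserves_injective_linearMap J.subtype Subtype.val_injective)

theorem range_theta : LinearMap.range (theta J Q) = J • (⊤ : Submodule A Q) := by
  unfold theta
  rw [LinearMap.range_comp]
  exact Submodule.map_range_rTensor_subtype_lid

variable {Q} in
theorem theta_lTensor {Q' : Type*} [AddCommGroup Q'] [Module A Q'] (f : Q →ₗ[A] Q')
    (w : J ⊗[A] Q) : theta J Q' (f.lTensor J w) = f (theta J Q w) := by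
  induction w using TensorProduct.induction_on with
  | zero => simp
  | tmul a q => rw [LinearMap.lTensor_tmul, theta_tmul, theta_tmul, map_smul]
  | add x y hx hy => rw [map_add, map_add, hx, hy, map_add, map_add]

end theta

section G
variable {A : Type u} [CommRing A] (𝔭 : Ideal A) [𝔭.IsPrime] {R : Type u} [CommRing R] [Algebra A R]
  {ι : Type*} {C : ι → Type u} [∀ i, CommRing (C i)] [∀ i, Algebra A (C i)]
  [∀ i, Module.Flat A (C i)] (φ : ∀ i, R →ₐ[A] C i)

omit [∀ i, Module.Flat A (C i)] in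
theorem map_apply_eq_lTensor {κ : Type*} [CommRing κ] [Algebra A κ] (i : ι) (y : κ ⊗[A] R) :
    (Algebra.TensorProduct.map (AlgHom.id A κ) (φ i)).toRingHom y =
      (φ i).toLinearMap.lTensor κ y := by
  induction y using TensorProduct.induction_on with
  | zero => simp
  | tmul c r => simp
  | add a b ha hb => rw [map_add, ha, hb, map_add]

theorem one_tmul_pow_mul {κ : Type*} [CommRing κ] [Algebra A κ] (h : R) (n : ℕ) (y : κ ⊗[A] R) :
    ((1 : κ) ⊗ₜ[A] h) ^ n * y = (LinearMap.mulLeft A (h ^ n)).lTensor κ y := by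
  rw [Algebra.TensorProduct.tmul_pow, one_pow]
  induction y using TensorProduct.induction_on with
  | zero => simp
  | tmul c r => simp
  | add a b ha hb => rw [mul_add, ha, hb, map_add]

/-- **the graded step**. -/
theorem gr_step
    (hκ : RingLocSep (fun i =>
      (Algebra.TensorProduct.map (AlgHom.id A 𝔭.ResidueField) (φ i)).toRingHom))
    (h x : R) (hx : ∀ i, ∃ n : ℕ, φ i (h ^ n * x) = 0) (k : ℕ)
    (hxk : x ∈ (𝔭 ^ k) • (⊤ : Submodule A R)) :
    ∃ (s : A) (a : ℕ), s ∉ 𝔭 ∧ s • (h ^ a * x) ∈ (𝔭 ^ (k + 1)) • (⊤ : Submodule A R) := by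
  classical
  rw [← range_theta] at hxk
  obtain ⟨ρ, hρ⟩ := hxk
  have hμ : ∀ (r : R) (w : (𝔭 ^ k : Ideal A) ⊗[A] R),
      theta (𝔭 ^ k) R ((LinearMap.mulLeft A r).lTensor (𝔭 ^ k : Ideal A) w) =
        r * theta (𝔭 ^ k) R w := fun r w => by
    rw [theta_lTensor]
    rfl
  have h1 : ∀ i, ∃ n : ℕ, (φ i).toLinearMap.lTensor (𝔭 ^ k : Ideal A)
      ((LinearMap.mulLeft A (h ^ n)).lTensor (𝔭 ^ k : Ideal A) ρ) = 0 := by
    intro i
    obtain ⟨n, hn⟩ := hx i
    refine ⟨n, theta_injective_of_flat (𝔭 ^ k) (C i) ?_⟩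
    rw [map_zero, theta_lTensor, hμ, hρ]
    exact hn
  have hcomm : ∀ (j : Module.Free.ChooseBasisIndex 𝔭.ResidueField
      (𝔭.ResidueField ⊗[A] (𝔭 ^ k : Ideal A))) (r : R) (w : (𝔭 ^ k : Ideal A) ⊗[A] R),
      (coord (A := A) (κ := 𝔭.ResidueField) (W := 𝔭.ResidueField ⊗[A] (𝔭 ^ k : Ideal A)) j).rTensor R
        ((TensorProduct.mk A 𝔭.ResidueField (𝔭 ^ k : Ideal A) 1).rTensor R
          ((LinearMap.mulLeft A r).lTensor (𝔭 ^ k : Ideal A) w)) =
      (LinearMap.mulLeft A r).lTensor 𝔭.ResidueField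
        ((coord (A := A) (κ := 𝔭.ResidueField) (W := 𝔭.ResidueField ⊗[A] (𝔭 ^ k : Ideal A)) j).rTensor R
          ((TensorProduct.mk A 𝔭.ResidueField (𝔭 ^ k : Ideal A) 1).rTensor R w)) := by
    intro j r w
    induction w using TensorProduct.induction_on with
    | zero => simp
    | tmul a r' => simp
    | add a b ha hb => simp only [map_add, ha, hb]
  have h2 : ∀ (j : Module.Free.ChooseBasisIndex 𝔭.ResidueField
      (𝔭.ResidueField ⊗[A] (𝔭 ^ k : Ideal A))) (i : ι), ∃ n : ℕ,
      (Algebra.TensorProduct.map (AlgHom.id A 𝔭.ResidueField) (φ i)).toRingHom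
        (((1 : 𝔭.ResidueField) ⊗ₜ[A] h) ^ n *
          coords (A := A) (κ := 𝔭.ResidueField) (W := 𝔭.ResidueField ⊗[A] (𝔭 ^ k : Ideal A)) R
            ((TensorProduct.mk A 𝔭.ResidueField (𝔭 ^ k : Ideal A) 1).rTensor R ρ) j) = 0 := by
    intro j i
    obtain ⟨n, hn⟩ := h1 i
    refine ⟨n, ?_⟩
    rw [one_tmul_pow_mul, map_apply_eq_lTensor, coords_apply, ← hcomm]
    have e3 : ∀ w : (𝔭 ^ k : Ideal A) ⊗[A] R, (φ i).toLinearMap.lTensor 𝔭.ResidueField
        ((coord (A := A) (κ := 𝔭.ResidueField)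
          (W := 𝔭.ResidueField ⊗[A] (𝔭 ^ k : Ideal A)) j).rTensor R
          ((TensorProduct.mk A 𝔭.ResidueField (𝔭 ^ k : Ideal A) 1).rTensor R w)) =
        (coord (A := A) (κ := 𝔭.ResidueField)
          (W := 𝔭.ResidueField ⊗[A] (𝔭 ^ k : Ideal A)) j).rTensor (C i)
          ((TensorProduct.mk A 𝔭.ResidueField (𝔭 ^ k : Ideal A) 1).rTensor (C i)
            ((φ i).toLinearMap.lTensor (𝔭 ^ k : Ideal A) w)) := by
      intro w
      induction w using TensorProduct.induction_on with
      | zero => simp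
      | tmul a r' => simp
      | add a b ha hb => simp only [map_add, ha, hb]
    rw [e3, hn, map_zero, map_zero]
  have h3 : ∀ j, ∃ n : ℕ, ((1 : 𝔭.ResidueField) ⊗ₜ[A] h) ^ n *
      coords (A := A) (κ := 𝔭.ResidueField) (W := 𝔭.ResidueField ⊗[A] (𝔭 ^ k : Ideal A)) R
        ((TensorProduct.mk A 𝔭.ResidueField (𝔭 ^ k : Ideal A) 1).rTensor R ρ) j = 0 :=
    fun j => hκ _ _ (h2 j)
  choose N hN using h3
  set F := coords (A := A) (κ := 𝔭.ResidueField) (W := 𝔭.ResidueField ⊗[A] (𝔭 ^ k : Ideal A)) R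
    ((TensorProduct.mk A 𝔭.ResidueField (𝔭 ^ k : Ideal A) 1).rTensor R ρ) with hF
  have h4 : ∀ j, ((1 : 𝔭.ResidueField) ⊗ₜ[A] h) ^ (F.support.sup N) * F j = 0 := by
    intro j
    by_cases hj : j ∈ F.support
    · have hle : N j ≤ F.support.sup N := Finset.le_sup hj
      rw [← Nat.sub_add_cancel hle, pow_add, mul_assoc, hN j, mul_zero]
    · rw [Finsupp.notMem_support_iff.mp hj, mul_zero]
  have h5 : (TensorProduct.mk A 𝔭.ResidueField (𝔭 ^ k : Ideal A) 1).rTensor R
      ((LinearMap.mulLeft A (h ^ (F.support.sup N))).lTensor (𝔭 ^ k : Ideal A) ρ) = 0 := by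
    apply coords_injective (A := A) (κ := 𝔭.ResidueField)
      (W := 𝔭.ResidueField ⊗[A] (𝔭 ^ k : Ideal A)) R
    rw [map_zero]
    apply Finsupp.ext
    intro j
    rw [coords_apply, Finsupp.zero_apply, hcomm, ← one_tmul_pow_mul, ← coords_apply]
    exact h4 j
  have h6 : (1 : 𝔭.ResidueField) ⊗ₜ[A]
      ((LinearMap.mulLeft A (h ^ (F.support.sup N))).lTensor (𝔭 ^ k : Ideal A) ρ) = 0 := by
    have hassoc : ∀ w : (𝔭 ^ k : Ideal A) ⊗[A] R,
        TensorProduct.assoc A 𝔭.ResidueField (𝔭 ^ k : Ideal A) R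
          ((TensorProduct.mk A 𝔭.ResidueField (𝔭 ^ k : Ideal A) 1).rTensor R w) =
        (1 : 𝔭.ResidueField) ⊗ₜ[A] w := by
      intro w
      induction w using TensorProduct.induction_on with
      | zero => simp
      | tmul a r' => rfl
      | add a b ha hb => rw [map_add, map_add, ha, hb, TensorProduct.tmul_add]
    rw [← hassoc, h5, map_zero]
  obtain ⟨s, hs, hsρ⟩ := exists_smul_mem_of_tmul_eq_zero 𝔭 _ h6
  refine ⟨s, F.support.sup N, hs, ?_⟩
  have h7 : theta (𝔭 ^ k) R (s • (LinearMap.mulLeft A (h ^ (F.support.sup N))).lTensor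
      (𝔭 ^ k : Ideal A) ρ) = s • (h ^ (F.support.sup N) * x) := by
    rw [map_smul, hμ, hρ]
  rw [← h7]
  have h8 := Submodule.mem_map_of_mem (f := theta (𝔭 ^ k) R) hsρ
  rw [Submodule.map_smul'', Submodule.map_top, range_theta, ← Submodule.mul_smul, ← pow_succ'] at h8
  exact h8

end G

section K
variable {A : Type u} [CommRing A] {R : Type u} [CommRing R] [Algebra A R] [IsNoetherianRing R]

theorem exists_notMem_mul_eq_zero (𝔭 : Ideal A) [𝔭.IsPrime] (q : Ideal R) [q.IsPrime]
    (hq : q.comap (algebraMap A R) = 𝔭) (h x : R) (hh : h ∉ q)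
    (H : ∀ k : ℕ, ∃ (s : A) (a : ℕ), s ∉ 𝔭 ∧
      s • (h ^ a * x) ∈ (𝔭 ^ k) • (⊤ : Submodule A R)) :
    ∃ t : R, t ∉ q ∧ t * x = 0 := by
  have hx0 : algebraMap R (Localization.AtPrime q) x = 0 := by
    have hmem : ∀ k, algebraMap R (Localization.AtPrime q) x ∈
        (IsLocalRing.maximalIdeal (Localization.AtPrime q)) ^ k := by
      intro k
      obtain ⟨s, a, hs, hmem⟩ := H k
      have h1 : ∀ y ∈ (𝔭 ^ k) • (⊤ : Submodule A R), algebraMap R (Localization.AtPrime q) y ∈
          (IsLocalRing.maximalIdeal (Localization.AtPrime q)) ^ k := by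
        intro y hy
        refine Submodule.smul_induction_on hy (fun c hc r _ => ?_)
          (fun y z hy hz => by rw [map_add]; exact Ideal.add_mem _ hy hz)
        rw [Algebra.smul_def, map_mul]
        refine Ideal.mul_mem_right _ _ ?_
        have hcq : algebraMap A R c ∈ q ^ k := by
          have hle : 𝔭 ^ k ≤ (q ^ k).comap (algebraMap A R) := by
            rw [← hq]
            exact Ideal.le_comap_pow _ _
          exact hle hc
        have h2 : Ideal.map (algebraMap R (Localization.AtPrime q)) (q ^ k) =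
            (IsLocalRing.maximalIdeal (Localization.AtPrime q)) ^ k := by
          rw [Ideal.map_pow, Localization.AtPrime.map_eq_maximalIdeal]
        rw [← h2]
        exact Ideal.mem_map_of_mem _ hcq
      have h2 := h1 _ hmem
      rw [Algebra.smul_def, map_mul, map_mul, map_pow] at h2
      have hu1 : IsUnit (algebraMap R (Localization.AtPrime q) (algebraMap A R s)) :=
        IsLocalization.map_units (Localization.AtPrime q)
          (⟨algebraMap A R s, fun hsq => hs (hq ▸ (Ideal.mem_comap.mpr hsq))⟩ : q.primeCompl)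
      have hu2 : IsUnit (algebraMap R (Localization.AtPrime q) h) :=
        IsLocalization.map_units (Localization.AtPrime q) (⟨h, hh⟩ : q.primeCompl)
      have h3 := (Ideal.unit_mul_mem_iff_mem _ hu1).mp h2
      exact (Ideal.unit_mul_mem_iff_mem _ (hu2.pow a)).mp h3
    have h3 : algebraMap R (Localization.AtPrime q) x ∈
        ⨅ k, (IsLocalRing.maximalIdeal (Localization.AtPrime q)) ^ k := by
      rw [Submodule.mem_iInf]
      exact hmem
    rw [Ideal.iInf_pow_eq_bot_of_isLocalRing _ (Ideal.IsMaximal.ne_top inferInstance)] at h3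
    exact h3
  obtain ⟨⟨t, ht⟩, htx⟩ := (IsLocalization.map_eq_zero_iff q.primeCompl
    (Localization.AtPrime q) x).mp hx0
  exact ⟨t, ht, htx⟩

end K

section N
variable {A R : Type u} [CommRing A] [CommRing R] [Algebra A R] [IsNoetherianRing R]
  {ι : Type*} {C : ι → Type u} [∀ i, CommRing (C i)] [∀ i, Algebra A (C i)]
  [∀ i, Module.Flat A (C i)] (φ : ∀ i, R →ₐ[A] C i)

/-- **Theorem N**: fibrewise locally separating implies locally separating (Noetherian source, flat
targets). -/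
theorem ringLocSep_of_fibrewise
    (hfib : ∀ (𝔭 : Ideal A) [𝔭.IsPrime], RingLocSep (fun i =>
      (Algebra.TensorProduct.map (AlgHom.id A 𝔭.ResidueField) (φ i)).toRingHom)) :
    RingLocSep (fun i => (φ i).toRingHom) := by
  intro h e he
  by_contra hcon
  push Not at hcon
  let 𝔞 : Ideal R :=
    { carrier := {r | ∃ n : ℕ, h ^ n * r * e = 0}
      add_mem' := by
        rintro r r' ⟨n, hn⟩ ⟨m, hm⟩
        refine ⟨n + m, ?_⟩
        have e1 : h ^ (n + m) * (r + r') * e = h ^ m * (h ^ n * r * e) + h ^ n * (h ^ m * r' * e) := by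
          ring
        rw [e1, hn, hm, mul_zero, mul_zero, add_zero]
      zero_mem' := ⟨0, by simp⟩
      smul_mem' := by
        rintro c r ⟨n, hn⟩
        refine ⟨n, ?_⟩
        have e1 : h ^ n * (c • r) * e = c * (h ^ n * r * e) := by
          rw [smul_eq_mul]
          ring
        rw [e1, hn, mul_zero] }
  have hdisj : Disjoint (𝔞 : Set R) (Submonoid.powers h) := by
    rw [Set.disjoint_left]
    rintro r ⟨n, hn⟩ ⟨m, rfl⟩
    exact hcon (n + m) (by rw [pow_add]; exact hn)
  obtain ⟨q, hqp, h𝔞q, hqdisj⟩ := Ideal.exists_le_prime_disjoint 𝔞 (Submonoid.powers h) hdisj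
  haveI := hqp
  have hhq : h ∉ q := fun hh => Set.disjoint_left.mp hqdisj hh (Submonoid.mem_powers h)
  have key : ∀ k : ℕ, ∃ (s : A) (a : ℕ), s ∉ q.comap (algebraMap A R) ∧
      s • (h ^ a * e) ∈ ((q.comap (algebraMap A R)) ^ k) • (⊤ : Submodule A R) := by
    intro k
    induction k with
    | zero =>
      refine ⟨1, 0, fun h1 => ?_, ?_⟩
      · exact (Ideal.IsPrime.ne_top inferInstance) ((Ideal.eq_top_iff_one _).mpr h1)
      · rw [pow_zero, Ideal.one_eq_top, Submodule.top_smul]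
        exact Submodule.mem_top
    | succ k ih =>
      obtain ⟨s, a, hs, hmem⟩ := ih
      obtain ⟨s', a', hs', hmem'⟩ := gr_step (q.comap (algebraMap A R)) φ
        (hfib (q.comap (algebraMap A R))) h (s • (h ^ a * e)) (fun i => by
          obtain ⟨n, hn⟩ := he i
          refine ⟨n, ?_⟩
          have e1 : h ^ n * s • (h ^ a * e) = s • (h ^ a * (h ^ n * e)) := by
            rw [mul_smul_comm]
            congr 1
            ring
          rw [e1, map_smul, map_mul]
          have hn' : φ i (h ^ n * e) = 0 := hn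
          rw [hn', mul_zero, smul_zero]) k hmem
      refine ⟨s' * s, a' + a, ?_, ?_⟩
      · exact (q.comap (algebraMap A R)).primeCompl.mul_mem hs' hs
      · have e2 : (s' * s) • (h ^ (a' + a) * e) = s' • (h ^ a' * s • (h ^ a * e)) := by
          rw [mul_smul, mul_smul_comm]
          congr 2
          ring
        rw [e2]
        exact hmem'
  obtain ⟨t, htq, hte⟩ := exists_notMem_mul_eq_zero (q.comap (algebraMap A R)) q rfl h e hhq key
  exact htq (h𝔞q ⟨0, by simpa using hte⟩)

end N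

section transfer

theorem RingLocSep.of_equiv {R₁ R₂ : Type*} [CommRing R₁] [CommRing R₂] {ι : Type*}
    {C₁ C₂ : ι → Type*} [∀ i, CommRing (C₁ i)] [∀ i, CommRing (C₂ i)]
    {φ₁ : ∀ i, R₁ →+* C₁ i} {φ₂ : ∀ i, R₂ →+* C₂ i} (e : R₁ ≃+* R₂) (ec : ∀ i, C₁ i ≃+* C₂ i)
    (hcomm : ∀ i x, ec i (φ₁ i x) = φ₂ i (e x)) (h₁ : RingLocSep φ₁) : RingLocSep φ₂ := by
  intro h x hx
  obtain ⟨n, hn⟩ := h₁ (e.symm h) (e.symm x) (fun i => by
    obtain ⟨n, hn⟩ := hx i
    refine ⟨n, (ec i).injective ?_⟩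
    rw [hcomm, map_mul, map_pow, RingEquiv.apply_symm_apply, RingEquiv.apply_symm_apply, hn,
      map_zero])
  refine ⟨n, ?_⟩
  have := congrArg e hn
  rw [map_mul, map_pow, RingEquiv.apply_symm_apply, RingEquiv.apply_symm_apply, map_zero] at this
  exact this

/-- pull back local separation along injective comparison maps. -/
theorem exists_pow_mul_eq_zero_of_injective {R₁ R₂ : Type*} [CommRing R₁] [CommRing R₂] {ι : Type*}
    {C₁ C₂ : ι → Type*} [∀ i, CommRing (C₁ i)] [∀ i, CommRing (C₂ i)]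
    {φ₁ : ∀ i, R₁ →+* C₁ i} {φ₂ : ∀ i, R₂ →+* C₂ i} (ρ : R₁ →+* R₂) (ρc : ∀ i, C₁ i →+* C₂ i)
    (hinj : ∀ i, Function.Injective (ρc i))
    (hcomm : ∀ i x, ρc i (φ₁ i x) = φ₂ i (ρ x)) (h₁ : RingLocSep φ₁)
    (h x : R₁) (hx : ∀ i, ∃ n : ℕ, φ₂ i (ρ h ^ n * ρ x) = 0) : ∃ n : ℕ, ρ h ^ n * ρ x = 0 := by
  obtain ⟨n, hn⟩ := h₁ h x (fun i => by
    obtain ⟨n, hn⟩ := hx i
    refine ⟨n, hinj i ?_⟩
    rw [hcomm, map_mul, map_pow, hn, map_zero])
  refine ⟨n, ?_⟩
  rw [← map_pow, ← map_mul, hn, map_zero]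

end transfer

section U
variable {A R : Type u} [CommRing A] [CommRing R] [Algebra A R] [IsNoetherianRing R]
  {ι : Type*} {C : ι → Type u} [∀ i, CommRing (C i)] [∀ i, Algebra A (C i)]
  [∀ i, Module.Flat A (C i)] (φ : ∀ i, R →ₐ[A] C i)

/-- finite type base change. -/
theorem ringLocSep_baseChange_of_finiteType
    (hfib : ∀ (L : Type u) [Field L] [Algebra A L], RingLocSep (fun i =>
      (Algebra.TensorProduct.map (AlgHom.id A L) (φ i)).toRingHom))
    (A₁ : Type u) [CommRing A₁] [Algebra A A₁] [Algebra.FiniteType A A₁] :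
    RingLocSep (fun i => (Algebra.TensorProduct.map (AlgHom.id A₁ A₁) (φ i)).toRingHom) := by
  haveI : IsNoetherianRing (R ⊗[A] A₁) := Algebra.FiniteType.isNoetherianRing R _
  haveI : IsNoetherianRing (A₁ ⊗[A] R) :=
    isNoetherianRing_of_ringEquiv _ (Algebra.TensorProduct.comm A R A₁).toRingEquiv
  refine ringLocSep_of_fibrewise
    (fun i => Algebra.TensorProduct.map (AlgHom.id A₁ A₁) (φ i)) (fun 𝔭₁ _ => ?_)
  refine RingLocSep.of_equiv
    (Algebra.TensorProduct.cancelBaseChange A A₁ 𝔭₁.ResidueField 𝔭₁.ResidueField R).symm.toRingEquiv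
    (fun i => (Algebra.TensorProduct.cancelBaseChange A A₁ 𝔭₁.ResidueField 𝔭₁.ResidueField
      (C i)).symm.toRingEquiv) ?_ (hfib 𝔭₁.ResidueField)
  intro i x
  induction x using TensorProduct.induction_on with
  | zero => simp
  | tmul c r => simp
  | add a b ha hb => simp only [map_add, ha, hb]

end U

section U2
variable {A R : Type u} [CommRing A] [CommRing R] [Algebra A R] [IsNoetherianRing R]
  {ι : Type*} {C : ι → Type u} [∀ i, CommRing (C i)] [∀ i, Algebra A (C i)]
  [∀ i, Module.Flat A (C i)] (φ : ∀ i, R →ₐ[A] C i)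

/-- **Theorem U**: if the family `φ` is locally separating after every base change to a field, it is
so after every base change. -/
theorem ringLocSep_baseChange
    (hfib : ∀ (L : Type u) [Field L] [Algebra A L], RingLocSep (fun i =>
      (Algebra.TensorProduct.map (AlgHom.id A L) (φ i)).toRingHom))
    (A' : Type u) [CommRing A'] [Algebra A A'] :
    RingLocSep (fun i => (Algebra.TensorProduct.map (AlgHom.id A A') (φ i)).toRingHom) := by
  classical
  intro h e he
  choose S hS using fun y : A' ⊗[A] R => TensorProduct.exists_finset y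
  let T : Finset A' := ((S h) ∪ (S e)).image Prod.fst
  let A₁ : Subalgebra A A' := Algebra.adjoin A (T : Set A')
  haveI : Algebra.FiniteType A A₁ :=
    (Subalgebra.fg_iff_finiteType _).mp (Subalgebra.fg_adjoin_finset T)
  have hrange : ∀ y : A' ⊗[A] R, S y ⊆ (S h) ∪ (S e) →
      y ∈ (Algebra.TensorProduct.map A₁.val (AlgHom.id A R)).range := by
    intro y hy
    rw [hS y]
    refine Subalgebra.sum_mem _ fun p hp => ?_
    have hpT : p.1 ∈ A₁ := Algebra.subset_adjoin (Finset.mem_coe.mpr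
      (Finset.mem_image_of_mem _ (hy hp)))
    exact ⟨(⟨p.1, hpT⟩ : A₁) ⊗ₜ[A] p.2, by simp⟩
  obtain ⟨h₁, hh₁⟩ := hrange h Finset.subset_union_left
  obtain ⟨e₁, he₁⟩ := hrange e Finset.subset_union_right
  have h1 := ringLocSep_baseChange_of_finiteType φ hfib A₁
  have hh₁' : (Algebra.TensorProduct.map A₁.val (AlgHom.id A R)).toRingHom h₁ = h := hh₁
  have he₁' : (Algebra.TensorProduct.map A₁.val (AlgHom.id A R)).toRingHom e₁ = e := he₁
  rw [← hh₁', ← he₁'] at he ⊢
  refine exists_pow_mul_eq_zero_of_injective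
    (φ₁ := fun i => (Algebra.TensorProduct.map (AlgHom.id A₁ A₁) (φ i)).toRingHom)
    (φ₂ := fun i => (Algebra.TensorProduct.map (AlgHom.id A A') (φ i)).toRingHom)
    (Algebra.TensorProduct.map A₁.val (AlgHom.id A R)).toRingHom
    (fun i => (Algebra.TensorProduct.map A₁.val (AlgHom.id A (C i))).toRingHom) (fun i => ?_)
    (fun i x => ?_) h1 h₁ e₁ he
  · have hinj : Function.Injective (A₁.val.toLinearMap.rTensor (C i)) :=
      Module.Flat.rTensor_preserves_injective_linearMap (M := C i) A₁.val.toLinearMap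
        Subtype.val_injective
    have heq : ⇑(Algebra.TensorProduct.map A₁.val (AlgHom.id A (C i))).toRingHom =
        ⇑(A₁.val.toLinearMap.rTensor (C i)) := by
      funext y
      induction y using TensorProduct.induction_on with
      | zero => simp
      | tmul a c => simp
      | add a b ha hb => rw [map_add, ha, hb, map_add]
    rw [heq]
    exact hinj
  · induction x using TensorProduct.induction_on with
    | zero => simp
    | tmul a r => simp
    | add a b ha hb => simp only [map_add, ha, hb]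

end U2

end Groth.Agent.Lib.R2H3.FibCrit
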