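import Mathlib

/-!
# Cotangent modules of extensions under localization of the base

If `P` is an extension of `S` over `R`, `P'` an extension of the same `S` over `R'`, and a morphism
`f : P.Hom P'` exhibits `P'.Ring` as a localization of `P.Ring`, then `Cotangent.map f` is bijective.
-/

universe u

namespace Groth.Agent.Lib.R2H3.CotLoc

open Algebra Algebra.Extension

variable {R S R' : Type u} [CommRing R] [CommRing S] [Algebra R S] [CommRing R'] [Algebra R' S]
  [Algebra R R'] [IsScalarTower R R' S]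

section

variable {P : Extension.{u} R S} {P' : Extension.{u} R' S} (f : P.Hom P')
  [Algebra P.Ring P'.Ring] (N : Submonoid P.Ring) [IsLocalization N P'.Ring]
  (hf : ∀ x, algebraMap P.Ring P'.Ring x = f.toRingHom x)

include hf in
omit [IsScalarTower R R' S] in
lemma algebraMap_comp (x : P.Ring) : algebraMap P'.Ring S (algebraMap P.Ring P'.Ring x) =
    algebraMap P.Ring S x := by
  rw [hf]
  simp

include hf N

lemma isUnit_algebraMap_of_mem {n : P.Ring} (hn : n ∈ N) : IsUnit (algebraMap P.Ring S n) := by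
  rw [← algebraMap_comp f hf]
  exact (IsLocalization.map_units P'.Ring ⟨n, hn⟩).map _

lemma ker_eq_map : P'.ker = P.ker.map (algebraMap P.Ring P'.Ring) := by
  apply le_antisymm
  · intro y hy
    obtain ⟨⟨a, n⟩, hy'⟩ := IsLocalization.surj N y
    have ha : a ∈ P.ker := by
      rw [Extension.ker, RingHom.mem_ker, ← algebraMap_comp f hf, ← hy', map_mul]
      rw [Extension.ker, RingHom.mem_ker] at hy
      rw [hy, zero_mul]
    have hu := IsLocalization.map_units P'.Ring n
    rw [← Ideal.mul_unit_mem_iff_mem _ hu, hy']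
    exact Ideal.mem_map_of_mem _ ha
  · rw [Ideal.map_le_iff_le_comap]
    intro a ha
    rw [Ideal.mem_comap, Extension.ker, RingHom.mem_ker, algebraMap_comp f hf]
    exact ha

lemma cotangent_map_injective : Function.Injective (Cotangent.map f) := by
  rw [injective_iff_map_eq_zero]
  intro x hx
  obtain ⟨⟨a, ha⟩, rfl⟩ := Cotangent.mk_surjective x
  rw [Cotangent.map_mk, Cotangent.mk_eq_zero_iff] at hx
  simp only [Hom.toAlgHom_apply] at hx
  rw [← hf, ker_eq_map f N hf, ← Ideal.map_pow,
    IsLocalization.algebraMap_mem_map_algebraMap_iff N] at hx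
  obtain ⟨m, hm, hma⟩ := hx
  have h0 : m • Cotangent.mk (P := P) ⟨a, ha⟩ = 0 := by
    rw [← map_smul, Cotangent.mk_eq_zero_iff]
    simpa using hma
  obtain ⟨u, hu⟩ := isUnit_algebraMap_of_mem f N hf hm
  have h1 : (u : S) • Cotangent.mk (P := P) ⟨a, ha⟩ = 0 := by
    rw [hu, algebraMap_smul]
    exact h0
  have := congrArg (fun z => ((u⁻¹ : Sˣ) : S) • z) h1
  simpa [smul_smul] using this

lemma cotangent_map_surjective : Function.Surjective (Cotangent.map f) := by
  intro y
  obtain ⟨⟨b, hb⟩, rfl⟩ := Cotangent.mk_surjective y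
  obtain ⟨⟨a, n⟩, hy'⟩ := IsLocalization.surj N b
  have ha : a ∈ P.ker := by
    rw [Extension.ker, RingHom.mem_ker, ← algebraMap_comp f hf, ← hy', map_mul]
    rw [Extension.ker, RingHom.mem_ker] at hb
    rw [hb, zero_mul]
  obtain ⟨u, hu⟩ := isUnit_algebraMap_of_mem f N hf n.2
  refine ⟨((u⁻¹ : Sˣ) : S) • Cotangent.mk ⟨a, ha⟩, ?_⟩
  rw [map_smul, Cotangent.map_mk]
  have h2 : ∀ h', (Cotangent.mk (P := P') ⟨f.toAlgHom a, h'⟩) =
      (u : S) • Cotangent.mk (P := P') ⟨b, hb⟩ := by
    intro h'
    rw [hu, ← algebraMap_comp f hf, algebraMap_smul, ← map_smul]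
    congr 1
    ext
    simp only [Hom.toAlgHom_apply, SetLike.val_smul, smul_eq_mul]
    rw [← hf, ← hy', mul_comm]
  rw [h2, smul_smul]
  simp

lemma cotangent_map_bijective : Function.Bijective (Cotangent.map f) :=
  ⟨cotangent_map_injective f N hf, cotangent_map_surjective f N hf⟩

end

end Groth.Agent.Lib.R2H3.CotLoc
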