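import Mathlib
import Groth.Agent.S7225

/-!
# Constants in the kernel and `H¹` of the naive cotangent complex (helper3, round 2)

For an algebra `B → R` and an extension `P` of `R` over `B`, an element `b` of `ker (B → R)` gives the class of the
constant `b` in `H¹(L_P)`.  This is natural, it induces a bijection `R ⊗[B] ker → H¹(L_{R/B})` when `B → R` is
surjective, and `H¹(L_{R/B}) → H¹(L_{R/B'})` is bijective when `B'` is a localization of `B`.
-/

set_option autoImplicit false
universe u
open TensorProduct

namespace Groth.Agent.Lib.R2H3.KerH1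

open Algebra Algebra.Extension

section def_

variable {B R : Type u} [CommRing B] [CommRing R] [Algebra B R] (P : Extension.{u} B R)

theorem algebraMap_mem_ker (b : RingHom.ker (algebraMap B R)) : algebraMap B P.Ring b.1 ∈ P.ker := by
  rw [Extension.ker, RingHom.mem_ker, ← IsScalarTower.algebraMap_apply]
  exact b.2

/-- the class of a constant of the kernel in the cotangent module. -/
noncomputable def kerToCot (b : RingHom.ker (algebraMap B R)) : P.Cotangent :=
  Cotangent.mk ⟨algebraMap B P.Ring b.1, algebraMap_mem_ker P b⟩

theorem kerToCot_mem (b : RingHom.ker (algebraMap B R)) :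
    kerToCot P b ∈ LinearMap.ker P.cotangentComplex := by
  rw [LinearMap.mem_ker, kerToCot, cotangentComplex_mk]
  have : KaehlerDifferential.D B P.Ring (algebraMap B P.Ring b.1) = 0 := Derivation.map_algebraMap ..
  simp [this]

/-- the class of a constant of the kernel in `H¹`. -/
noncomputable def kerToH1 (b : RingHom.ker (algebraMap B R)) : P.H1Cotangent :=
  ⟨kerToCot P b, kerToCot_mem P b⟩

theorem kerToH1_add (b b' : RingHom.ker (algebraMap B R)) :
    kerToH1 P (b + b') = kerToH1 P b + kerToH1 P b' := by
  apply Subtype.ext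
  change kerToCot P (b + b') = kerToCot P b + kerToCot P b'
  rw [kerToCot, kerToCot, kerToCot, ← map_add]
  congr 1
  ext
  simp

theorem kerToH1_smul (c : B) (b : RingHom.ker (algebraMap B R)) :
    kerToH1 P (c • b) = algebraMap B R c • kerToH1 P b := by
  apply Subtype.ext
  change kerToCot P (c • b) = algebraMap B R c • kerToCot P b
  rw [kerToCot, kerToCot, IsScalarTower.algebraMap_apply B P.Ring R, algebraMap_smul, ← map_smul]
  congr 1
  ext
  simp [Algebra.smul_def]

end def_

section nat

variable {B R B' R' : Type u} [CommRing B] [CommRing R] [Algebra B R] [CommRing B'] [CommRing R']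
  [Algebra B' R'] [Algebra B B'] [Algebra R R'] [Algebra B R'] [IsScalarTower B B' R']
  [IsScalarTower B R R'] {P : Extension.{u} B R} {P' : Extension.{u} B' R'}

theorem algebraMap_mem_ker' (b : RingHom.ker (algebraMap B R)) :
    algebraMap B B' b.1 ∈ RingHom.ker (algebraMap B' R') := by
  rw [RingHom.mem_ker, ← IsScalarTower.algebraMap_apply, IsScalarTower.algebraMap_apply B R R',
    (RingHom.mem_ker).mp b.2, map_zero]

theorem map_kerToH1 (f : P.Hom P') (b : RingHom.ker (algebraMap B R)) :
    Extension.H1Cotangent.map f (kerToH1 P b) = kerToH1 P' ⟨algebraMap B B' b.1, algebraMap_mem_ker' b⟩ := by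
  apply Subtype.ext
  change Cotangent.map f (kerToCot P b) = kerToCot P' _
  rw [kerToCot, Cotangent.map_mk, kerToCot]
  congr 1
  ext
  exact f.toRingHom_algebraMap b.1

end nat

end Groth.Agent.Lib.R2H3.KerH1

namespace Groth.Agent.Lib.R2H3.KerH1

open Algebra Algebra.Extension

section surj

variable (B R : Type u) [CommRing B] [CommRing R] [Algebra B R]

theorem exists_one_tmul (hs : Function.Surjective (algebraMap B R)) {M : Type u} [AddCommGroup M]
    [Module B M] (z : R ⊗[B] M) : ∃ m : M, z = (1 : R) ⊗ₜ[B] m := by
  induction z using TensorProduct.induction_on with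
  | zero => exact ⟨0, (TensorProduct.tmul_zero _ _).symm⟩
  | tmul r m =>
    obtain ⟨c, rfl⟩ := hs r
    refine ⟨c • m, ?_⟩
    rw [TensorProduct.tmul_smul, TensorProduct.smul_tmul', Algebra.smul_def, mul_one]
  | add x y hx hy =>
    obtain ⟨m, rfl⟩ := hx
    obtain ⟨m', rfl⟩ := hy
    exact ⟨m + m', (TensorProduct.tmul_add _ _ _).symm⟩

theorem one_tmul_eq_zero_of_mem_smul_top (I : Ideal B) (hI : I ≤ RingHom.ker (algebraMap B R))
    (y : I) (hy : y ∈ (I • ⊤ : Submodule B I)) : (1 : R) ⊗ₜ[B] y = 0 := by
  refine Submodule.smul_induction_on hy ?_ ?_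
  · intro u hu m _
    rw [TensorProduct.tmul_smul, TensorProduct.smul_tmul', Algebra.smul_def, mul_one,
      (RingHom.mem_ker).mp (hI hu), TensorProduct.zero_tmul]
  · intro a b ha hb
    rw [TensorProduct.tmul_add, ha, hb, add_zero]

/-- the extension of `R` over `B` with ring `B` itself, for `B → R` surjective. -/
noncomputable def P₀ (hs : Function.Surjective (algebraMap B R)) : Extension.{u} B R where
  Ring := B
  σ x := (hs x).choose
  algebraMap_σ x := (hs x).choose_spec

/-- the morphism from `P₀` to the standard extension, given by the constants. -/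
noncomputable def f₀ (hs : Function.Surjective (algebraMap B R)) :
    (P₀ B R hs).Hom (Generators.self B R).toExtension where
  toRingHom := (MvPolynomial.C : B →+* MvPolynomial R B)
  toRingHom_algebraMap x := rfl
  algebraMap_toRingHom x := by
    exact (MvPolynomial.aeval_C (R := B) (_root_.id : R → R) x)

variable {B R}

/-- `kerToH1` as a `B`-linear map. -/
noncomputable def kerToH1ₗ (P : Extension.{u} B R) : RingHom.ker (algebraMap B R) →ₗ[B] P.H1Cotangent where
  toFun := kerToH1 P
  map_add' := kerToH1_add P
  map_smul' c b := by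
    rw [kerToH1_smul, algebraMap_smul, RingHom.id_apply]

/-- `R ⊗[B] ker (B → R) → H¹(L_P)`, `r ⊗ b ↦ r • [b]`. -/
noncomputable def tensorToH1 (P : Extension.{u} B R) :
    R ⊗[B] RingHom.ker (algebraMap B R) →ₗ[R] P.H1Cotangent :=
  LinearMap.liftBaseChange R (kerToH1ₗ P)

theorem tensorToH1_tmul (P : Extension.{u} B R) (r : R) (b : RingHom.ker (algebraMap B R)) :
    tensorToH1 P (r ⊗ₜ[B] b) = r • kerToH1 P b :=
  LinearMap.liftBaseChange_tmul ..

theorem map_tensorToH1 {P P' : Extension.{u} B R} (f : P.Hom P') (z : R ⊗[B] RingHom.ker (algebraMap B R)) :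
    Extension.H1Cotangent.map f (tensorToH1 P z) = tensorToH1 P' z := by
  induction z using TensorProduct.induction_on with
  | zero => simp
  | tmul r b =>
    rw [tensorToH1_tmul, tensorToH1_tmul, map_smul, map_kerToH1]
    rfl
  | add x y hx hy => rw [map_add, map_add, map_add, hx, hy]

theorem tensorToH1_P₀_bijective (hs : Function.Surjective (algebraMap B R)) :
    Function.Bijective (tensorToH1 (P₀ B R hs)) := by
  constructor
  · rw [injective_iff_map_eq_zero]
    intro z hz
    obtain ⟨y, rfl⟩ := exists_one_tmul B R hs z
    rw [tensorToH1_tmul, one_smul] at hz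
    have h1 : kerToCot (P₀ B R hs) y = 0 := congrArg Subtype.val hz
    have h2 : (Cotangent.mk (P := P₀ B R hs) y) = 0 := h1
    have h3 : y ∈ LinearMap.ker (Cotangent.mk (P := P₀ B R hs)) := h2
    rw [Cotangent.ker_mk] at h3
    exact one_tmul_eq_zero_of_mem_smul_top B R _ le_rfl y h3
  · intro x
    obtain ⟨y', hy⟩ := Cotangent.mk_surjective x.1
    let y : RingHom.ker (algebraMap B R) := y'
    refine ⟨(1 : R) ⊗ₜ[B] y, ?_⟩
    rw [tensorToH1_tmul, one_smul]
    apply Subtype.ext
    exact hy

set_option backward.isDefEq.respectTransparency false in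
theorem map_f₀_bijective (hs : Function.Surjective (algebraMap B R)) :
    Function.Bijective (Extension.H1Cotangent.map (f₀ B R hs)) := by
  have : FormallySmooth B (P₀ B R hs).Ring := inferInstanceAs (FormallySmooth B B)
  have : FormallySmooth B (Generators.self B R).toExtension.Ring :=
    inferInstanceAs (FormallySmooth B (MvPolynomial _ _))
  have h := Extension.H1Cotangent.equivOfFormallySmooth_toLinearMap (f₀ B R hs)
  rw [← h]
  exact (Extension.H1Cotangent.equivOfFormallySmooth _ _).bijective

/-- `R ⊗[B] ker (B → R) ≃ H¹(L_{R/B})` for `B → R` surjective. -/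
theorem tensorToH1_self_bijective (hs : Function.Surjective (algebraMap B R)) :
    Function.Bijective (tensorToH1 (Generators.self B R).toExtension) := by
  have h : ⇑(tensorToH1 (Generators.self B R).toExtension) =
      ⇑(Extension.H1Cotangent.map (f₀ B R hs)) ∘ ⇑(tensorToH1 (P₀ B R hs)) := by
    funext z
    exact (map_tensorToH1 (f₀ B R hs) z).symm
  rw [h]
  exact (map_f₀_bijective hs).comp (tensorToH1_P₀_bijective hs)

end surj

end Groth.Agent.Lib.R2H3.KerH1

namespace Groth.Agent.Lib.R2H3.KerH1

open Algebra Algebra.Extension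

section baseLoc

/-- an `H¹` map is bijective when the map on `I/I²` is bijective and the map on the cotangent space is injective. -/
theorem h1map_bijective_of_bijective {A B A' B' : Type u} [CommRing A] [CommRing B] [Algebra A B]
    [CommRing A'] [CommRing B'] [Algebra A' B'] [Algebra A A'] [Algebra B B'] [Algebra A B']
    [IsScalarTower A A' B'] [IsScalarTower A B B']
    {P : Extension.{u} A B} {P' : Extension.{u} A' B'} (f : P.Hom P')
    (h1 : Function.Bijective (Extension.Cotangent.map f))
    (h2 : Function.Injective (Extension.CotangentSpace.map f)) :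
    Function.Bijective (Extension.H1Cotangent.map f) := by
  constructor
  · intro x y hxy
    apply Subtype.ext
    apply h1.1
    exact congrArg Subtype.val hxy
  · intro y
    obtain ⟨x, hx⟩ := h1.2 y.1
    have hx0 : P.cotangentComplex x = 0 := by
      apply h2
      rw [Extension.CotangentSpace.map_cotangentComplex, hx, map_zero]
      exact y.2
    exact ⟨⟨x, hx0⟩, Subtype.ext hx⟩

/-- `H¹(L_{B/A}) → H¹(L_{B/A'})` is bijective for `A'` a localization of `A`. -/
theorem h1map_bijective_of_isLocalization (A A' B : Type u) [CommRing A] [CommRing A'] [CommRing B]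
    [Algebra A A'] (M : Submonoid A) [IsLocalization M A'] [Algebra A' B] [Algebra A B]
    [IsScalarTower A A' B] :
    Function.Bijective (Algebra.H1Cotangent.map A A' B B) := by
  have h : ∀ i, (Generators.self A' B).val i = algebraMap B B ((Generators.self A B).val i) :=
    fun i => rfl
  have e : Algebra.H1Cotangent.map A A' B B = Extension.H1Cotangent.map
      (NLCx.sameVarsHom (S' := B) (Generators.self A B) (Generators.self A' B) h).toExtensionHom :=
    Extension.H1Cotangent.map_eq _ _
  rw [e]
  exact h1map_bijective_of_bijective _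
    (Groth.Agent.S7225.cotangent_map_bijective A A' B M _ _ h)
    (Groth.Agent.S7225.cotangentSpace_map_bijective _ _ h).1

/-- the same with an arbitrary algebra structure `B → B` which is the identity. -/
theorem h1map_bijective_of_isLocalization' (A A' B : Type u) [CommRing A] [CommRing A'] [CommRing B]
    [Algebra A A'] (M : Submonoid A) [IsLocalization M A'] [Algebra A' B] [Algebra A B]
    [IsScalarTower A A' B] (instBB : Algebra B B) (hBB : ∀ b, algebraMap B B b = b)
    [hST : @IsScalarTower A B B _ instBB.toSMul _] :
    Function.Bijective (@Algebra.H1Cotangent.map A A' _ _ _ B _ _ B _ _ _ _ instBB hST) := by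
  obtain rfl : instBB = Algebra.id B := Algebra.algebra_ext _ _ hBB
  exact h1map_bijective_of_isLocalization A A' B M

end baseLoc

end Groth.Agent.Lib.R2H3.KerH1

namespace Groth.Agent.Lib.R2H3.KerH1

open Algebra Algebra.Extension

section topLoc

/-- `H¹(L_{B/A}) → H¹(L_{B'/A})` is a localization for `B'` a localization of `B`, with an arbitrary algebra
structure `A → A` which is the identity. -/
theorem isLocalizedModule_h1map' (A B B' : Type u) [CommRing A] [CommRing B] [CommRing B']
    [Algebra A B] [Algebra A B'] [Algebra B B'] [IsScalarTower A B B'] (N : Submonoid B)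
    [IsLocalization N B'] (instAA : Algebra A A) (hAA : ∀ a, algebraMap A A a = a)
    [hST : @IsScalarTower A A B' instAA.toSMul _ _] :
    IsLocalizedModule N (@Algebra.H1Cotangent.map A A _ _ instAA B _ _ B' _ _ _ hST _ _) := by
  obtain rfl : instAA = Algebra.id A := Algebra.algebra_ext _ _ hAA
  exact Algebra.H1Cotangent.isLocalizedModule A B' N

end topLoc

section localGlobal

/-- a linear map is bijective if it is so after localizing at elements spanning the unit ideal, the localized
maps being given by any linear maps compatible with the localization maps. -/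
theorem bijective_of_span_of_comm {R : Type u} [CommRing R] (s : Set R) (spn : Ideal.span s = ⊤)
    {M N : Type u} [AddCommGroup M] [Module R M] [AddCommGroup N] [Module R N] (F : M →ₗ[R] N)
    (Mₚ : s → Type u) [∀ r, AddCommGroup (Mₚ r)] [∀ r, Module R (Mₚ r)]
    (f : ∀ r : s, M →ₗ[R] Mₚ r) [∀ r : s, IsLocalizedModule.Away r.1 (f r)]
    (Nₚ : s → Type u) [∀ r, AddCommGroup (Nₚ r)] [∀ r, Module R (Nₚ r)]
    (g : ∀ r : s, N →ₗ[R] Nₚ r) [∀ r : s, IsLocalizedModule.Away r.1 (g r)]
    (Fₚ : ∀ r : s, Mₚ r →ₗ[R] Nₚ r) (hFₚ : ∀ r : s, Function.Bijective (Fₚ r))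
    (hcomm : ∀ (r : s) (m : M), Fₚ r (f r m) = g r (F m)) :
    Function.Bijective F := by
  refine bijective_of_isLocalized_span s spn Mₚ f Nₚ g F fun r => ?_
  have h : IsLocalizedModule.map (.powers r.1) (f r) (g r) F = Fₚ r := by
    apply IsLocalizedModule.linearMap_ext (.powers r.1) (f r) (g r)
    rw [IsLocalizedModule.map_comp]
    ext m
    exact (hcomm r m).symm
  rw [h]
  exact hFₚ r

end localGlobal

end Groth.Agent.Lib.R2H3.KerH1
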