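import Mathlib
import Groth.Prelude.Def_SheafNL
import Groth.Prelude.Def_Omega2
import Groth.Prelude.Def_Omega3
import Groth.Agent.Lib.R2H3KerH1
import Groth.Agent.Lib.Helper18OmLS13
import Groth.Agent.Lib.Helper20ConormalStalk
import Groth.Agent.Lib.Helper2QCoh

/-!
# The conormal sheaf of an immersion is `H^{-1}` of the naive cotangent complex (helper3, round 2)

For a quasi-compact immersion `i : Z ⟶ X` and an affine chart pair `U ≤ i⁻¹ V`, the map
`Γ(C_{Z/X}, U) → H¹(L_{Γ(Z,U)/Γ(X,V)})` sending the class of a section `t` of the ideal to the class of the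
constant `t`, its naturality and its bijectivity.
-/

set_option autoImplicit false
set_option linter.style.haveILetI false
universe u
open CategoryTheory CategoryTheory.Limits AlgebraicGeometry TopologicalSpace Opposite TensorProduct
open Groth.Agent.Helper13PullbackUnit Groth.Agent.Helper18OmLS Groth.Agent.Lib.R2H3.KerH1

namespace Groth.Agent.Lib.R2H3.ConormalH1

variable {Z X : Scheme.{u}} (i : Z ⟶ X)

section chart
variable {V : X.Opens} {U : Z.Opens} (hle : U ≤ i ⁻¹ᵁ V)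
  [Algebra Γ(X, V) Γ(Z, U)] (halg : algebraMap Γ(X, V) Γ(Z, U) = (i.appLE V U hle).hom)

include halg in
theorem idealSect_mem_ker (t : Γ(ClSub.idealMod i.ker, V)) :
    OmegaSh.idealSect i.ker V t ∈ RingHom.ker (algebraMap Γ(X, V) Γ(Z, U)) := by
  rw [RingHom.mem_ker, halg, Scheme.Hom.appLE]
  change (Z.presheaf.map (homOfLE hle).op) ((i.app V) (OmegaSh.idealSect i.ker V t)) = 0
  rw [app_idealSect_eq_zero, map_zero]

/-- the class in `H¹(L_{Γ(Z,U)/Γ(X,V)})` of a section of the ideal. -/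
noncomputable def idealToH1 : Γ(ClSub.idealMod i.ker, V) →+ Algebra.H1Cotangent Γ(X, V) Γ(Z, U) :=
  (kerToH1ₗ (Algebra.Generators.self Γ(X, V) Γ(Z, U)).toExtension).toAddMonoidHom.comp
    ((OmegaSh.idealSect i.ker V).codRestrict (RingHom.ker (algebraMap Γ(X, V) Γ(Z, U)))
      (idealSect_mem_ker i hle halg))

theorem idealToH1_apply (t : Γ(ClSub.idealMod i.ker, V)) :
    idealToH1 i hle halg t = kerToH1 (Algebra.Generators.self Γ(X, V) Γ(Z, U)).toExtension
      ⟨OmegaSh.idealSect i.ker V t, idealSect_mem_ker i hle halg t⟩ := rfl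

theorem idealToH1_smul (r : Γ(X, V)) (t : Γ(ClSub.idealMod i.ker, V)) :
    idealToH1 i hle halg (r • t) = (i.appLE V U hle r : Γ(Z, U)) • idealToH1 i hle halg t := by
  rw [idealToH1_apply, idealToH1_apply, ← RingHom.congr_fun halg r, ← kerToH1_smul]
  congr 1
  apply Subtype.ext
  exact idealSect_smul i.ker V r t

end chart

theorem map_map_homOfLE {Y : Scheme.{u}} (M : Y.Modules) {A B C : Y.Opens} (h1 : A ≤ B) (h2 : B ≤ C)
    (y : Γ(M, C)) :
    M.presheaf.map (homOfLE h1).op (M.presheaf.map (homOfLE h2).op y) =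
      M.presheaf.map (homOfLE (h1.trans h2)).op y := by
  rw [← ConcreteCategory.comp_apply, ← Functor.map_comp]
  rfl

section unitSecSrc
variable {X Y : Scheme.{u}} (f : Y ⟶ X) (F : X.Modules) {V : X.Opens} {U : Y.Opens} (hle : U ≤ f ⁻¹ᵁ V)

/-- `unitSec` is compatible with restriction on the source. -/
theorem unitSec_resSrc {U' : Y.Opens} (hUU : U' ≤ U) (t : Γ(F, V)) :
    ((Scheme.Modules.pullback f).obj F).presheaf.map (homOfLE hUU).op (unitSec f F hle t) =
      unitSec f F (hUU.trans hle) t := by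
  rw [unitSec_apply, unitSec_apply]
  exact map_map_homOfLE _ hUU hle _

end unitSecSrc

section F
variable {V : X.Opens} (hV : IsAffineOpen V) {U : Z.Opens} (hU : IsAffineOpen U) (hle : U ≤ i ⁻¹ᵁ V)
  [Algebra Γ(X, V) Γ(Z, U)] (halg : algebraMap Γ(X, V) Γ(Z, U) = (i.appLE V U hle).hom)

include hV hU in
theorem existsUnique_conormalToH1 :
    ∃! F : Γ((Scheme.Modules.pullback i).obj (ClSub.idealMod i.ker), U) →ₗ[Γ(Z, U)]
        Algebra.H1Cotangent Γ(X, V) Γ(Z, U),
      ∀ t, F (unitSec i (ClSub.idealMod i.ker) hle t) = idealToH1 i hle halg t :=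
  existsUnique_lift i (ClSub.idealMod i.ker) hV hU hle _ (idealToH1 i hle halg)
    (idealToH1_smul i hle halg)

/-- the comparison map `Γ(C_{Z/X}, U) → H¹(L_{Γ(Z,U)/Γ(X,V)})`. -/
noncomputable def conormalToH1 :
    Γ((Scheme.Modules.pullback i).obj (ClSub.idealMod i.ker), U) →ₗ[Γ(Z, U)]
      Algebra.H1Cotangent Γ(X, V) Γ(Z, U) :=
  (existsUnique_conormalToH1 i hV hU hle halg).exists.choose

theorem conormalToH1_unitSec (t : Γ(ClSub.idealMod i.ker, V)) :
    conormalToH1 i hV hU hle halg (unitSec i (ClSub.idealMod i.ker) hle t) = idealToH1 i hle halg t :=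
  (existsUnique_conormalToH1 i hV hU hle halg).exists.choose_spec t

include hV hU halg in
/-- sections of the conormal sheaf over `U` are generated by the classes of sections of the ideal. -/
theorem conormal_induction
    (p : Γ((Scheme.Modules.pullback i).obj (ClSub.idealMod i.ker), U) → Prop) (h0 : p 0)
    (hadd : ∀ a b, p a → p b → p (a + b))
    (hsm : ∀ (r : Γ(Z, U)) (t : Γ(ClSub.idealMod i.ker, V)),
      p (r • unitSec i (ClSub.idealMod i.ker) hle t))
    (s : Γ((Scheme.Modules.pullback i).obj (ClSub.idealMod i.ker), U)) : p s := by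
  obtain ⟨e, he⟩ := exists_pullback_equiv i (ClSub.idealMod i.ker) hle hV hU halg
  obtain ⟨z, rfl⟩ := e.surjective s
  induction z using TensorProduct.induction_on with
  | zero => rw [map_zero]; exact h0
  | tmul r t => rw [he]; exact hsm r t
  | add x y hx hy => rw [map_add]; exact hadd _ _ hx hy

end F

section res
variable {V V' : X.Opens} (hV : IsAffineOpen V) (hV' : IsAffineOpen V') {U U' : Z.Opens}
  (hU : IsAffineOpen U) (hU' : IsAffineOpen U') (hle : U ≤ i ⁻¹ᵁ V) (hle' : U' ≤ i ⁻¹ᵁ V')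
  (hUU : U' ≤ U) (hVV : V' ≤ V)
  [Algebra Γ(X, V) Γ(Z, U)] (halg : algebraMap Γ(X, V) Γ(Z, U) = (i.appLE V U hle).hom)
  [Algebra Γ(X, V') Γ(Z, U')] (halg' : algebraMap Γ(X, V') Γ(Z, U') = (i.appLE V' U' hle').hom)
  [Algebra Γ(X, V) Γ(Z, U')]
  [Algebra Γ(Z, U) Γ(Z, U')]
  (hresU : algebraMap Γ(Z, U) Γ(Z, U') = (Z.presheaf.map (homOfLE hUU).op).hom)
  [Algebra Γ(X, V) Γ(X, V')]
  (hresV : algebraMap Γ(X, V) Γ(X, V') = (X.presheaf.map (homOfLE hVV).op).hom)
  [IsScalarTower Γ(X, V) Γ(X, V') Γ(Z, U')] [IsScalarTower Γ(X, V) Γ(Z, U) Γ(Z, U')]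

include hresU hresV in
/-- the comparison maps are compatible with restriction to a nested chart pair. -/
theorem conormalToH1_res (s : Γ((Scheme.Modules.pullback i).obj (ClSub.idealMod i.ker), U)) :
    conormalToH1 i hV' hU' hle' halg'
        (((Scheme.Modules.pullback i).obj (ClSub.idealMod i.ker)).presheaf.map (homOfLE hUU).op s) =
      Algebra.H1Cotangent.map Γ(X, V) Γ(X, V') Γ(Z, U) Γ(Z, U') (conormalToH1 i hV hU hle halg s) := by
  induction s using conormal_induction i hV hU hle halg with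
  | h0 => rw [map_zero, map_zero, map_zero, map_zero]
  | hadd a b ha hb => rw [map_add, map_add, map_add, map_add, ha, hb]
  | hsm r t =>
    rw [Scheme.Modules.map_smul, map_smul, map_smul, map_smul, unitSec_resSrc,
      conormalToH1_unitSec, ← unitSec_res i (ClSub.idealMod i.ker) hVV hle' t, conormalToH1_unitSec,
      idealToH1_apply, idealToH1_apply]
    rw [← algebraMap_smul Γ(Z, U') r, hresU, Algebra.H1Cotangent.map, map_kerToH1]
    congr 2
    apply Subtype.ext
    change OmegaSh.idealSect i.ker V' _ = algebraMap Γ(X, V) Γ(X, V') _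
    rw [hresV]
    exact idealSect_res i.ker hVV t

end res

section good
variable [QuasiCompact i] {V : X.Opens} (hV : IsAffineOpen V) (hU : IsAffineOpen (i ⁻¹ᵁ V))
  [Algebra Γ(X, V) Γ(Z, i ⁻¹ᵁ V)]
  (halg : algebraMap Γ(X, V) Γ(Z, i ⁻¹ᵁ V) = (i.appLE V (i ⁻¹ᵁ V) le_rfl).hom)
  (hs : Function.Surjective (algebraMap Γ(X, V) Γ(Z, i ⁻¹ᵁ V)))

include halg in
/-- sections of the ideal over `V` are the kernel of `Γ(X, V) → Γ(Z, i⁻¹ V)`. -/
noncomputable def idealEquivKer :
    Γ(ClSub.idealMod i.ker, V) ≃ₗ[Γ(X, V)] RingHom.ker (algebraMap Γ(X, V) Γ(Z, i ⁻¹ᵁ V)) :=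
  LinearEquiv.ofBijective
    { toFun := fun t => ⟨OmegaSh.idealSect i.ker V t, idealSect_mem_ker i le_rfl halg t⟩
      map_add' := fun s t => Subtype.ext (map_add _ s t)
      map_smul' := fun r t => Subtype.ext (idealSect_smul i.ker V r t) }
    ⟨fun s t h => idealSect_injective i.ker V (congrArg Subtype.val h), fun x => by
      obtain ⟨x, hx⟩ := x
      obtain ⟨t, ht⟩ := exists_idealSect_eq i V x (by
        rw [RingHom.mem_ker, halg, Scheme.Hom.appLE_eq_app] at hx
        exact hx)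
      exact ⟨t, Subtype.ext ht⟩⟩

include hs in
/-- **good case**: for `U = i⁻¹ V` affine with `Γ(X, V) → Γ(Z, U)` surjective the comparison map is bijective. -/
theorem conormalToH1_bijective_of_surjective :
    Function.Bijective (conormalToH1 i hV hU le_rfl halg) := by
  obtain ⟨e, he⟩ := exists_pullback_equiv i (ClSub.idealMod i.ker) le_rfl hV hU halg
  let k := idealEquivKer i halg
  have hΘ := tensorToH1_self_bijective (B := Γ(X, V)) (R := Γ(Z, i ⁻¹ᵁ V)) hs
  have hcomp : ∀ z, conormalToH1 i hV hU le_rfl halg (e z) =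
      tensorToH1 (Algebra.Generators.self Γ(X, V) Γ(Z, i ⁻¹ᵁ V)).toExtension
        (LinearEquiv.lTensor Γ(Z, i ⁻¹ᵁ V) k z) := by
    intro z
    induction z using TensorProduct.induction_on with
    | zero => rw [map_zero, map_zero, map_zero, map_zero]
    | tmul r t =>
      rw [he, map_smul, conormalToH1_unitSec, LinearEquiv.lTensor_tmul, tensorToH1_tmul]
      rfl
    | add x y hx hy => rw [map_add, map_add, map_add, map_add, hx, hy]
  have h : ⇑(conormalToH1 i hV hU le_rfl halg) =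
      ⇑(tensorToH1 (Algebra.Generators.self Γ(X, V) Γ(Z, i ⁻¹ᵁ V)).toExtension) ∘
        ⇑(LinearEquiv.lTensor Γ(Z, i ⁻¹ᵁ V) k) ∘ ⇑e.symm := by
    funext s
    rw [Function.comp_apply, Function.comp_apply, ← hcomp, LinearEquiv.apply_symm_apply]
  rw [h]
  exact hΘ.comp ((LinearEquiv.bijective _).comp e.symm.bijective)

end good

section basic

theorem isLocalization_away_of_algebraMap_eq {V V'' : X.Opens} (hV : IsAffineOpen V) (β : Γ(X, V))
    (hVV : V'' ≤ V) (e : V'' = X.basicOpen β) [inst : Algebra Γ(X, V) Γ(X, V'')]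
    (hres : algebraMap Γ(X, V) Γ(X, V'') = (X.presheaf.map (homOfLE hVV).op).hom) :
    IsLocalization.Away β Γ(X, V'') := by
  have h : inst = (X.presheaf.map (homOfLE hVV).op).hom.toAlgebra :=
    Algebra.algebra_ext _ _ (fun r => by rw [hres]; rfl)
  subst h
  exact hV.isLocalization_of_eq_basicOpen β (homOfLE hVV) e

theorem presheaf_map_homOfLE_refl {Y : Scheme.{u}} (M : Y.Modules) (A : Y.Opens) (y : Γ(M, A)) :
    M.presheaf.map (homOfLE (le_refl A)).op y = y := by
  have : (homOfLE (le_refl A)).op = 𝟙 (op A) := rfl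
  rw [this, M.presheaf.map_id]
  rfl

variable [IsImmersion i] [QuasiCompact i] {V V'' : X.Opens} (hV : IsAffineOpen V) (β : Γ(X, V))
  (e : V'' = X.basicOpen β) (hVc : V'' ≤ i.coborderRange) (hU'' : IsAffineOpen (i ⁻¹ᵁ V''))
  (hle : i ⁻¹ᵁ V'' ≤ i ⁻¹ᵁ V)
  [Algebra Γ(X, V) Γ(Z, i ⁻¹ᵁ V'')]
  (halg : algebraMap Γ(X, V) Γ(Z, i ⁻¹ᵁ V'') = (i.appLE V (i ⁻¹ᵁ V'') hle).hom)

include e hVc in
/-- the comparison map is bijective for the pair `(i⁻¹ D(β), V)` when `D(β) ⊆ V` lies in the coborder of the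
range. -/
theorem conormalToH1_bijective_of_basicOpen :
    Function.Bijective (conormalToH1 i hV hU'' hle halg) := by
  have hVV : V'' ≤ V := e ▸ X.basicOpen_le β
  have hV'' : IsAffineOpen V'' := e ▸ hV.basicOpen β
  letI algVU : Algebra Γ(X, V'') Γ(Z, i ⁻¹ᵁ V'') := (i.appLE V'' (i ⁻¹ᵁ V'') le_rfl).hom.toAlgebra
  letI algUU : Algebra Γ(Z, i ⁻¹ᵁ V'') Γ(Z, i ⁻¹ᵁ V'') :=
    (Z.presheaf.map (homOfLE (le_refl (i ⁻¹ᵁ V''))).op).hom.toAlgebra
  letI algVV : Algebra Γ(X, V) Γ(X, V'') := (X.presheaf.map (homOfLE hVV).op).hom.toAlgebra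
  haveI t1 : IsScalarTower Γ(X, V) Γ(X, V'') Γ(Z, i ⁻¹ᵁ V'') :=
    IsScalarTower.of_algebraMap_eq' (by
      rw [halg]
      change (i.appLE _ _ _).hom = (i.appLE _ _ _).hom.comp (X.presheaf.map _).hom
      rw [← CommRingCat.hom_comp, Scheme.Hom.map_appLE])
  have t2' : algebraMap Γ(X, V) Γ(Z, i ⁻¹ᵁ V'') =
      (algebraMap Γ(Z, i ⁻¹ᵁ V'') Γ(Z, i ⁻¹ᵁ V'')).comp (algebraMap Γ(X, V) Γ(Z, i ⁻¹ᵁ V'')) := by
    rw [halg]
    change (i.appLE _ _ _).hom = (Z.presheaf.map _).hom.comp (i.appLE _ _ _).hom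
    rw [← CommRingCat.hom_comp, Scheme.Hom.appLE_map]
  haveI t2 : @IsScalarTower Γ(X, V) Γ(Z, i ⁻¹ᵁ V'') Γ(Z, i ⁻¹ᵁ V'') _ algUU.toSMul _ :=
    IsScalarTower.of_algebraMap_eq' t2'
  have hres := conormalToH1_res i hV hV'' hU'' hU'' hle le_rfl le_rfl hVV halg rfl rfl rfl
  haveI : IsLocalization.Away β Γ(X, V'') := isLocalization_away_of_algebraMap_eq hV β hVV e rfl
  have hH := h1map_bijective_of_isLocalization' Γ(X, V) Γ(X, V'') Γ(Z, i ⁻¹ᵁ V'')
    (Submonoid.powers β) algUU (fun b => by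
      change (Z.presheaf.map (homOfLE (le_refl (i ⁻¹ᵁ V''))).op).hom b = b
      have : (homOfLE (le_refl (i ⁻¹ᵁ V''))).op = 𝟙 (op (i ⁻¹ᵁ V'')) := rfl
      rw [this, Z.presheaf.map_id]
      rfl)
  have hs : Function.Surjective (algebraMap Γ(X, V'') Γ(Z, i ⁻¹ᵁ V'')) := by
    change Function.Surjective (i.appLE V'' (i ⁻¹ᵁ V'') le_rfl).hom
    rw [Scheme.Hom.appLE_eq_app]
    exact Groth.Agent.Lib.Helper20.ConormalStalk.app_surjective i hV'' hVc
  have hF'' := conormalToH1_bijective_of_surjective i hV'' hU'' (halg := rfl) hs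
  have h : ⇑(Algebra.H1Cotangent.map Γ(X, V) Γ(X, V'') Γ(Z, i ⁻¹ᵁ V'') Γ(Z, i ⁻¹ᵁ V'')) ∘
      ⇑(conormalToH1 i hV hU'' hle halg) = ⇑(conormalToH1 i hV'' hU'' le_rfl rfl) := by
    funext s
    rw [Function.comp_apply, ← hres, presheaf_map_homOfLE_refl]
  have h2 : Function.Bijective
      (⇑(Algebra.H1Cotangent.map Γ(X, V) Γ(X, V'') Γ(Z, i ⁻¹ᵁ V'') Γ(Z, i ⁻¹ᵁ V'')) ∘
        ⇑(conormalToH1 i hV hU'' hle halg)) := by
    rw [h]
    exact hF''
  exact (Function.Bijective.of_comp_iff' hH _).mp h2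

end basic

section cover
variable [IsImmersion i] {V : X.Opens} (hV : IsAffineOpen V) {U : Z.Opens} (hle : U ≤ i ⁻¹ᵁ V)

include hV hle in
/-- around every point of `U ⊆ i⁻¹ V` there is a basic open `D(β)` of `V` inside the coborder of the range
with `i⁻¹ D(β) ⊆ U`. -/
theorem exists_basicOpen_good (z : Z) (hz : z ∈ U) :
    ∃ β : Γ(X, V), X.basicOpen β ≤ i.coborderRange ∧ i ⁻¹ᵁ X.basicOpen β ≤ U ∧
      z ∈ i ⁻¹ᵁ X.basicOpen β := by
  obtain ⟨W, hW, hWU⟩ := (i.isEmbedding.isInducing.isOpen_iff).mp U.isOpen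
  let W' : X.Opens := ⟨W, hW⟩
  have hzW : i z ∈ W' := by
    change z ∈ i ⁻¹' W
    rw [hWU]
    exact hz
  have hzc : i z ∈ i.coborderRange := subset_coborder (Set.mem_range_self z)
  obtain ⟨β, hβ1, hβ2⟩ := hV.exists_basicOpen_le (V := i.coborderRange ⊓ W')
    ⟨i z, ⟨hzc, hzW⟩⟩ (hle hz)
  refine ⟨β, hβ1.trans inf_le_left, ?_, hβ2⟩
  intro y hy
  have : i y ∈ W' := (hβ1 hy).2
  change y ∈ (U : Set Z)
  rw [← hWU]
  exact this

end cover

section resLoc
variable {Y : Scheme.{u}} (M : Y.Modules)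

/-- sections over a basic open as a module over the functions on the ambient open. -/
@[reducible] noncomputable def basicModule {U : Y.Opens} (g : Γ(Y, U)) :
    Module Γ(Y, U) Γ(M, Y.basicOpen g) :=
  Module.compHom _ (algebraMap Γ(Y, U) Γ(Y, Y.basicOpen g))

/-- restriction to a basic open, as a linear map. -/
noncomputable def basicRes {U : Y.Opens} (g : Γ(Y, U)) :
    letI := basicModule M g
    Γ(M, U) →ₗ[Γ(Y, U)] Γ(M, Y.basicOpen g) :=
  letI := basicModule M g
  { toFun := fun t => M.presheaf.map (homOfLE (Y.basicOpen_le g)).op t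
    map_add' := fun a b => map_add _ a b
    map_smul' := fun a t => Scheme.Modules.map_smul M (homOfLE (Y.basicOpen_le g)) a t }

theorem basicRes_apply {U : Y.Opens} (g : Γ(Y, U)) (t : Γ(M, U)) :
    basicRes M g t = M.presheaf.map (homOfLE (Y.basicOpen_le g)).op t := rfl

theorem basicModule_smul {U : Y.Opens} (g : Γ(Y, U)) (a : Γ(Y, U)) (x : Γ(M, Y.basicOpen g)) :
    letI := basicModule M g
    a • x = (algebraMap Γ(Y, U) Γ(Y, Y.basicOpen g) a) • x := rfl

variable [M.IsQuasicoherent] {U : Y.Opens} (hU : IsAffineOpen U)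

include hU in
/-- for a quasi-coherent module, restriction to a basic open of an affine open is a localization. -/
theorem isLocalizedModule_basicRes (g : Γ(Y, U)) :
    letI := basicModule M g
    IsLocalizedModule.Away g (basicRes M g) := by
  letI := basicModule M g
  have hloc : IsLocalization.Away g Γ(Y, Y.basicOpen g) := hU.isLocalization_basicOpen g
  refine IsLocalizedModule.Away.mk_of_addCommGroup ?_ ?_ ?_
  · have hu : IsUnit (algebraMap Γ(Y, U) Γ(Y, Y.basicOpen g) g) :=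
      IsLocalization.Away.algebraMap_isUnit g
    obtain ⟨u, hu⟩ := hu
    rw [Module.End.isUnit_iff]
    constructor
    · intro a b hab
      have h1 : (algebraMap Γ(Y, U) Γ(Y, Y.basicOpen g) g) • a =
        (algebraMap Γ(Y, U) Γ(Y, Y.basicOpen g) g) • b := hab
      rw [← hu] at h1
      have := congrArg (fun z => (↑u⁻¹ : Γ(Y, Y.basicOpen g)) • z) h1
      simpa [smul_smul] using this
    · intro b
      refine ⟨(↑u⁻¹ : Γ(Y, Y.basicOpen g)) • b, ?_⟩
      show (algebraMap Γ(Y, U) Γ(Y, Y.basicOpen g) g) • ((↑u⁻¹ : Γ(Y, Y.basicOpen g)) • b) = b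
      rw [← hu, smul_smul, Units.mul_inv, one_smul]
  · intro s
    obtain ⟨n, t, ht⟩ := Groth.Agent.Lib.Helper2.QCoh.exists_extension hU M g s
    refine ⟨n, t, ?_⟩
    show (algebraMap Γ(Y, U) Γ(Y, Y.basicOpen g) (g ^ n)) • s = _
    rw [map_pow]
    exact ht.symm
  · intro t ht
    exact Groth.Agent.Lib.Helper2.QCoh.exists_pow_smul_eq_zero hU M g t ht

end resLoc

section general
variable [IsImmersion i] [QuasiCompact i] {V : X.Opens} (hV : IsAffineOpen V)

include hV in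
theorem conormalToH1_bijective_of_basicOpen' (β : Γ(X, V)) (hVc : X.basicOpen β ≤ i.coborderRange)
    {U'' : Z.Opens} (hUeq : U'' = i ⁻¹ᵁ X.basicOpen β) (hU'' : IsAffineOpen U'')
    (hle : U'' ≤ i ⁻¹ᵁ V) [Algebra Γ(X, V) Γ(Z, U'')]
    (halg : algebraMap Γ(X, V) Γ(Z, U'') = (i.appLE V U'' hle).hom) :
    Function.Bijective (conormalToH1 i hV hU'' hle halg) := by
  subst hUeq
  exact conormalToH1_bijective_of_basicOpen i hV β rfl hVc hU'' hle halg

variable {U : Z.Opens} (hU : IsAffineOpen U) (hle : U ≤ i ⁻¹ᵁ V)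
  [Algebra Γ(X, V) Γ(Z, U)] (halg : algebraMap Γ(X, V) Γ(Z, U) = (i.appLE V U hle).hom)

/-- the algebra structure `Γ(X, V) → Γ(Z, D(ρ))`. -/
@[reducible] noncomputable def algBasic (ρ : Γ(Z, U)) : Algebra Γ(X, V) Γ(Z, Z.basicOpen ρ) :=
  (i.appLE V (Z.basicOpen ρ) ((Z.basicOpen_le ρ).trans hle)).hom.toAlgebra

omit [IsImmersion i] [QuasiCompact i] in
include halg in
theorem isScalarTower_algBasic (ρ : Γ(Z, U)) :
    letI := algBasic i hle ρ
    IsScalarTower Γ(X, V) Γ(Z, U) Γ(Z, Z.basicOpen ρ) := by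
  letI := algBasic i hle ρ
  have h : algebraMap Γ(X, V) Γ(Z, Z.basicOpen ρ) =
      (algebraMap Γ(Z, U) Γ(Z, Z.basicOpen ρ)).comp (algebraMap Γ(X, V) Γ(Z, U)) := by
    rw [halg]
    change (i.appLE _ _ _).hom = (Z.presheaf.map _).hom.comp (i.appLE _ _ _).hom
    rw [← CommRingCat.hom_comp, Scheme.Hom.appLE_map]
  exact IsScalarTower.of_algebraMap_eq' h

include hV hU in
/-- **the comparison map is bijective on every affine chart pair.** -/
theorem conormalToH1_bijective : Function.Bijective (conormalToH1 i hV hU hle halg) := by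
  let s : Set Γ(Z, U) := {ρ | ∃ β : Γ(X, V), X.basicOpen β ≤ i.coborderRange ∧
    i ⁻¹ᵁ X.basicOpen β ≤ U ∧ ρ = i.appLE V U hle β}
  have spn : Ideal.span s = ⊤ := by
    rw [← hU.self_le_iSup_basicOpen_iff]
    intro z hz
    obtain ⟨β, h1, h2, h3⟩ := exists_basicOpen_good i hV hle z hz
    rw [Opens.mem_iSup]
    refine ⟨⟨i.appLE V U hle β, β, h1, h2, rfl⟩, ?_⟩
    change z ∈ Z.basicOpen (i.appLE V U hle β)
    rw [Scheme.basicOpen_appLE]
    exact ⟨hz, h3⟩
  letI algB : ∀ ρ : Γ(Z, U), Algebra Γ(X, V) Γ(Z, Z.basicOpen ρ) := fun ρ => algBasic i hle ρ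
  haveI tow : ∀ ρ : Γ(Z, U), IsScalarTower Γ(X, V) Γ(Z, U) Γ(Z, Z.basicOpen ρ) :=
    fun ρ => isScalarTower_algBasic i hle halg ρ
  letI modM : ∀ r : s, Module Γ(Z, U)
      Γ((Scheme.Modules.pullback i).obj (ClSub.idealMod i.ker), Z.basicOpen r.1) :=
    fun r => basicModule _ r.1
  haveI locM : ∀ r : s, IsLocalizedModule.Away r.1
      (basicRes ((Scheme.Modules.pullback i).obj (ClSub.idealMod i.ker)) r.1) :=
    fun r => isLocalizedModule_basicRes _ hU r.1
  haveI locR : ∀ ρ : Γ(Z, U), IsLocalization.Away ρ Γ(Z, Z.basicOpen ρ) :=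
    fun ρ => hU.isLocalization_basicOpen ρ
  refine bijective_of_span_of_comm s spn (conormalToH1 i hV hU hle halg)
    (fun r => Γ((Scheme.Modules.pullback i).obj (ClSub.idealMod i.ker), Z.basicOpen r.1))
    (fun r => basicRes ((Scheme.Modules.pullback i).obj (ClSub.idealMod i.ker)) r.1)
    (fun r => Algebra.H1Cotangent Γ(X, V) Γ(Z, Z.basicOpen r.1))
    (fun r => Algebra.H1Cotangent.map Γ(X, V) Γ(X, V) Γ(Z, U) Γ(Z, Z.basicOpen r.1))
    (fun r =>
      { toFun := conormalToH1 i hV (hU.basicOpen r.1) ((Z.basicOpen_le r.1).trans hle) rfl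
        map_add' := map_add _
        map_smul' := fun a x => by
          rw [basicModule_smul, map_smul, algebraMap_smul]
          rfl }) ?_ ?_
  · intro r
    obtain ⟨β, h1, h2, h3⟩ := r.2
    have hUeq : Z.basicOpen r.1 = i ⁻¹ᵁ X.basicOpen β := by
      rw [h3, Scheme.basicOpen_appLE]
      exact inf_eq_right.mpr h2
    exact conormalToH1_bijective_of_basicOpen' i hV β h1 hUeq (hU.basicOpen r.1)
      ((Z.basicOpen_le r.1).trans hle) rfl
  · intro r m
    have hresV : algebraMap Γ(X, V) Γ(X, V) = (X.presheaf.map (homOfLE (le_refl V)).op).hom := by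
      have : (homOfLE (le_refl V)).op = 𝟙 (op V) := rfl
      rw [this, X.presheaf.map_id]
      rfl
    exact conormalToH1_res i hV hV hU (hU.basicOpen r.1) hle ((Z.basicOpen_le r.1).trans hle)
      (Z.basicOpen_le r.1) le_rfl halg rfl rfl hresV m

end general

end Groth.Agent.Lib.R2H3.ConormalH1
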