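import Mathlib
import Groth.Agent.Lib.R2H3SepFlat
import Groth.Agent.Lib.R2H3ProdChart

/-!
# Schematically dominant families under flat l.f.p. base change: chart lemmas (helper3, round 2)
-/

set_option autoImplicit false
set_option linter.style.haveILetI false
universe u
open CategoryTheory CategoryTheory.Limits AlgebraicGeometry TopologicalSpace TensorProduct

namespace Groth.Agent.Lib.R2H3.SchDom

theorem eq_zero_of_locally {X : Scheme.{u}} {W : X.Opens} (s : Γ(X, W))
    (h : ∀ x ∈ W, ∃ (U : X.Opens) (hUW : U ≤ W), x ∈ U ∧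
      X.presheaf.map (homOfLE hUW).op s = 0) : s = 0 := by
  choose U hUW hxU hs using fun x : W => h x.1 x.2
  refine X.sheaf.eq_of_locally_eq' (fun x : W => U x) W (fun x => homOfLE (hUW x))
    (fun x hx => Opens.mem_iSup.mpr ⟨⟨x, hx⟩, hxU _⟩) s 0 (fun x => ?_)
  rw [map_zero]
  exact hs x

theorem res_res {X : Scheme.{u}} {U1 U2 U3 : X.Opens} (h1 : U1 ≤ U2) (h2 : U2 ≤ U3)
    (s : Γ(X, U3)) :
    X.presheaf.map (homOfLE h1).op (X.presheaf.map (homOfLE h2).op s) =
      X.presheaf.map (homOfLE (h1.trans h2)).op s := by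
  rw [← CommRingCat.comp_apply, ← Functor.map_comp]
  rfl

/-- ring-level core for families of algebras. -/
theorem ring_core2 {A B : Type u} [CommRing A] [CommRing B] [Algebra A B]
    [Algebra.FinitePresentation A B] [Module.Flat A B]
    {ι : Type*} (C : ι → Type u) [∀ i, CommRing (C i)] [∀ i, Algebra A (C i)]
    (hsep : ∀ (g m : A), (∀ i, ∃ n : ℕ, g ^ n • algebraMap A (C i) m = 0) → ∃ n : ℕ, g ^ n * m = 0)
    (b : B) (hb : ∀ i, b ⊗ₜ[A] (1 : C i) = 0) : b = 0 := by
  have ht : b ⊗ₜ[A] (1 : A) = 0 := by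
    refine Groth.Agent.Lib.R2H3.SepFlat.eq_zero_of_flat_finitePresentation
      (fun i => Algebra.linearMap A (C i)) ?_ _ fun i => ?_
    · intro g m hm
      obtain ⟨n, hn⟩ := hsep g m hm
      exact ⟨n, by rw [smul_eq_mul]; exact hn⟩
    · rw [LinearMap.lTensor_tmul, Algebra.linearMap_apply, map_one]
      exact hb i
  have := congrArg (TensorProduct.rid A B) ht
  rw [TensorProduct.rid_tmul, one_smul, map_zero] at this
  exact this

/-- in a pushout square of commutative rings, an element of `R'` dying in the pushout dies in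
`R' ⊗[R] S`. -/
theorem tmul_one_eq_zero_of_isPushout {R S R' S' : CommRingCat.{u}} (f : R ⟶ S) (g : R ⟶ R')
    (g' : S ⟶ S') (f' : R' ⟶ S') (H : IsPushout f g g' f') (b : R') (hb : f'.hom b = 0) :
    letI := f.hom.toAlgebra
    letI := g.hom.toAlgebra
    (b ⊗ₜ[R] (1 : S) : R' ⊗[R] S) = 0 := by
  letI := f.hom.toAlgebra
  letI := g.hom.toAlgebra
  letI := f'.hom.toAlgebra
  letI := g'.hom.toAlgebra
  letI : Algebra R S' := (f'.hom.comp g.hom).toAlgebra
  haveI t1 : IsScalarTower R R' S' := IsScalarTower.of_algebraMap_eq (fun r => rfl)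
  haveI t2 : IsScalarTower R S S' := IsScalarTower.of_algebraMap_eq (fun r => by
    have := congrArg (fun φ => φ.hom r) H.w
    exact this.symm)
  have H' : IsPushout (CommRingCat.ofHom (algebraMap R R')) (CommRingCat.ofHom (algebraMap R S))
      (CommRingCat.ofHom (algebraMap R' S')) (CommRingCat.ofHom (algebraMap S S')) := H.flip
  haveI hpo : Algebra.IsPushout R R' S S' := CommRingCat.isPushout_iff_isPushout.1 H'
  apply (Algebra.IsPushout.equiv R R' S S').injective
  rw [map_zero, Algebra.IsPushout.equiv_tmul, map_one, mul_one]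
  exact hb

end Groth.Agent.Lib.R2H3.SchDom
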