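import Mathlib
import Groth.Agent.Lib.R2H3SepFlat

/-!
# Locally separating families under base change: ind-(flat f.p.) pure algebras, fields
(helper3, round 2; EGA IV 11.9.10-type statements at ring level)
-/

set_option autoImplicit false
set_option linter.style.haveILetI false
universe u

open TensorProduct

namespace Groth.Agent.Lib.R2H3.SepField

/-- the family of maps is locally separating. -/
def LocSepMaps {A : Type*} [CommRing A] {M : Type*} [AddCommGroup M] [Module A M] {ι : Type*}
    {N : ι → Type*} [∀ i, AddCommGroup (N i)] [∀ i, Module A (N i)] (f : ∀ i, M →ₗ[A] N i) : Prop :=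
  ∀ (g : A) (m : M), (∀ i, ∃ n : ℕ, g ^ n • f i m = 0) → ∃ n : ℕ, g ^ n • m = 0

section Q
variable {A D : Type u} [CommRing A] [CommRing D] [Algebra A D]
  {ι : Type*} {M : Type u} [AddCommGroup M] [Module A M] {N : ι → Type u}
  [∀ i, AddCommGroup (N i)] [∀ i, Module A (N i)] (f : ∀ i, M →ₗ[A] N i)

theorem isLocalizedModule_mk (h : D) (B : Type*) [CommRing B] [Algebra D B]
    [IsLocalization.Away h B] (X : Type*) [AddCommGroup X] [Module D X] :
    IsLocalizedModule (Submonoid.powers h) (TensorProduct.mk D B X 1) :=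
  (isLocalizedModule_iff_isBaseChange (Submonoid.powers h) B _).mpr
    (TensorProduct.isBaseChange D X B)

theorem cancel_nat {B : Type*} [CommRing B] [Algebra D B] [Algebra A B] [IsScalarTower A D B]
    (i : ι) (z : B ⊗[D] (D ⊗[A] M)) :
    (f i).lTensor B (TensorProduct.AlgebraTensorModule.cancelBaseChange A D B B M z) =
      TensorProduct.AlgebraTensorModule.cancelBaseChange A D B B (N i)
        (((f i).baseChange D).lTensor B z) := by
  induction z using TensorProduct.induction_on with
  | zero => simp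
  | tmul b w =>
    induction w using TensorProduct.induction_on with
    | zero => simp
    | tmul d m => simp
    | add x y hx hy =>
      rw [TensorProduct.tmul_add, map_add, map_add, hx, hy, map_add, map_add]
  | add x y hx hy => rw [map_add, map_add, hx, hy, map_add, map_add]

/-- **Lemma Q**: flat finitely presented base change preserves locally separating families. -/
theorem locSep_of_flat_fp [Algebra.FinitePresentation A D] [Module.Flat A D]
    (hf : LocSepMaps f) (h : D) (y : D ⊗[A] M)
    (hy : ∀ i, ∃ n : ℕ, h ^ n • (f i).baseChange D y = 0) : ∃ n : ℕ, h ^ n • y = 0 := by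
  haveI : Algebra.FinitePresentation D (Localization.Away h) :=
    IsLocalization.Away.finitePresentation h
  haveI : Algebra.FinitePresentation A (Localization.Away h) :=
    Algebra.FinitePresentation.trans A D (Localization.Away h)
  haveI : Module.Flat A (Localization.Away h) := Module.Flat.trans A D (Localization.Away h)
  have ht : TensorProduct.AlgebraTensorModule.cancelBaseChange A D (Localization.Away h)
      (Localization.Away h) M ((1 : Localization.Away h) ⊗ₜ[D] y) = 0 := by
    refine Groth.Agent.Lib.R2H3.SepFlat.eq_zero_of_flat_finitePresentation f hf _ (fun i => ?_)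
    rw [cancel_nat, LinearMap.lTensor_tmul]
    obtain ⟨n, hn⟩ := hy i
    haveI := isLocalizedModule_mk h (Localization.Away h) (D ⊗[A] N i)
    have h0 : (1 : Localization.Away h) ⊗ₜ[D] ((f i).baseChange D y) = 0 :=
      (IsLocalizedModule.eq_zero_iff (Submonoid.powers h)
        (TensorProduct.mk D (Localization.Away h) (D ⊗[A] N i) 1)).mpr ⟨⟨h ^ n, n, rfl⟩, hn⟩
    rw [h0, map_zero]
  have h1 : (1 : Localization.Away h) ⊗ₜ[D] y = 0 :=
    (TensorProduct.AlgebraTensorModule.cancelBaseChange A D (Localization.Away h)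
      (Localization.Away h) M).injective (by rw [ht, map_zero])
  haveI := isLocalizedModule_mk h (Localization.Away h) (D ⊗[A] M)
  obtain ⟨⟨_, n, rfl⟩, hn⟩ := (IsLocalizedModule.eq_zero_iff (Submonoid.powers h)
    (TensorProduct.mk D (Localization.Away h) (D ⊗[A] M) 1)).mp h1
  exact ⟨n, hn⟩

end Q

section L
variable {A E B : Type u} [CommRing A] [CommRing E] [CommRing B] [Algebra A E] [Algebra E B]
  [Algebra A B] [IsScalarTower A E B]
  {ι : Type*} {M : Type u} [AddCommGroup M] [Module A M] {N : ι → Type u}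
  [∀ i, AddCommGroup (N i)] [∀ i, Module A (N i)] (f : ∀ i, M →ₗ[A] N i)

/-- **Lemma L**: from local separation over `E` at `h` to joint injectivity after tensoring with
`B = E_h`. -/
theorem eq_zero_of_away (h : E) [IsLocalization.Away h B]
    (hP : ∀ y : E ⊗[A] M, (∀ i, ∃ n : ℕ, h ^ n • (f i).baseChange E y = 0) →
      ∃ n : ℕ, h ^ n • y = 0)
    (t : B ⊗[A] M) (ht : ∀ i, (f i).lTensor B t = 0) : t = 0 := by
  obtain ⟨z, rfl⟩ := (TensorProduct.AlgebraTensorModule.cancelBaseChange A E B B M).surjective t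
  haveI := isLocalizedModule_mk h B (E ⊗[A] M)
  obtain ⟨⟨y, ⟨_, k, rfl⟩⟩, hyz⟩ := IsLocalizedModule.surj (Submonoid.powers h)
    (TensorProduct.mk E B (E ⊗[A] M) 1) z
  replace hyz : h ^ k • z = (1 : B) ⊗ₜ[E] y := hyz
  have hy : ∀ i, ∃ n : ℕ, h ^ n • (f i).baseChange E y = 0 := by
    intro i
    have h1 := ht i
    rw [cancel_nat] at h1
    have h2 : ((f i).baseChange E).lTensor B z = 0 :=
      (TensorProduct.AlgebraTensorModule.cancelBaseChange A E B B (N i)).injective
        (by rw [h1, map_zero])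
    have h3 : (1 : B) ⊗ₜ[E] ((f i).baseChange E y) = 0 := by
      have := congrArg (((f i).baseChange E).lTensor B) hyz
      rw [map_smul, h2, smul_zero, LinearMap.lTensor_tmul] at this
      exact this.symm
    haveI := isLocalizedModule_mk h B (E ⊗[A] N i)
    obtain ⟨⟨_, n, rfl⟩, hn⟩ := (IsLocalizedModule.eq_zero_iff (Submonoid.powers h)
      (TensorProduct.mk E B (E ⊗[A] N i) 1)).mp h3
    exact ⟨n, hn⟩
  obtain ⟨n, hn⟩ := hP y hy
  have h4 : (1 : B) ⊗ₜ[E] y = 0 := (IsLocalizedModule.eq_zero_iff (Submonoid.powers h)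
      (TensorProduct.mk E B (E ⊗[A] M) 1)).mpr ⟨⟨h ^ n, n, rfl⟩, hn⟩
  have h5 : h ^ k • z = 0 := by rw [hyz, h4]
  have hu : IsUnit (algebraMap E B (h ^ k)) := by
    rw [map_pow]
    exact (IsLocalization.Away.algebraMap_isUnit h).pow k
  obtain ⟨v, hv⟩ := hu
  have h6 : z = (↑v⁻¹ : B) • ((algebraMap E B (h ^ k)) • z) := by
    rw [smul_smul, ← hv, Units.inv_mul, one_smul]
  rw [h6, algebraMap_smul, h5, smul_zero, map_zero]

end L

section C

/-- `E` is, locally on finite subsets, a pure extension of flat finitely presented `A`-algebras. -/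
def IndFPPure (A E : Type u) [CommRing A] [CommRing E] [Algebra A E] : Prop :=
  ∀ Sg : Finset E, ∃ (E' : Type u) (_ : CommRing E') (_ : Algebra A E')
    (_ : Algebra.FinitePresentation A E') (_ : Module.Flat A E') (ρ : E' →ₐ[A] E),
    (∀ e ∈ Sg, e ∈ Set.range ρ) ∧
      ∀ (N : Type u) [AddCommGroup N] [Module A N], Function.Injective (ρ.toLinearMap.rTensor N)

variable {A E : Type u} [CommRing A] [CommRing E] [Algebra A E]
  {ι : Type*} {M : Type u} [AddCommGroup M] [Module A M] {N : ι → Type u}
  [∀ i, AddCommGroup (N i)] [∀ i, Module A (N i)] (f : ∀ i, M →ₗ[A] N i)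

theorem rTensor_smul {E' : Type*} [CommRing E'] [Algebra A E'] (ρ : E' →ₐ[A] E)
    (X : Type*) [AddCommGroup X] [Module A X] (e' : E') (z : E' ⊗[A] X) :
    ρ.toLinearMap.rTensor X (e' • z) = ρ e' • ρ.toLinearMap.rTensor X z := by
  induction z using TensorProduct.induction_on with
  | zero => simp
  | tmul b x => simp [TensorProduct.smul_tmul', smul_eq_mul]
  | add a b ha hb => rw [smul_add, map_add, ha, hb, map_add, smul_add]

/-- **Lemma C**. -/
theorem locSep_of_indFPPure (hE : IndFPPure A E) (hf : LocSepMaps f) (h : E) (y : E ⊗[A] M)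
    (hy : ∀ i, ∃ n : ℕ, h ^ n • (f i).baseChange E y = 0) : ∃ n : ℕ, h ^ n • y = 0 := by
  classical
  obtain ⟨S, rfl⟩ := TensorProduct.exists_finset y
  obtain ⟨E', _, _, _, _, ρ, hρ, hinj⟩ := hE (insert h (S.image Prod.fst))
  obtain ⟨h', rfl⟩ := hρ h (Finset.mem_insert_self _ _)
  have hpre : ∀ e ∈ S.image Prod.fst, ∃ e' : E', ρ e' = e :=
    fun e he => hρ e (Finset.mem_insert_of_mem he)
  choose! σ hσ using hpre
  have hy' : ρ.toLinearMap.rTensor M (∑ p ∈ S, σ p.1 ⊗ₜ[A] p.2) = ∑ p ∈ S, p.1 ⊗ₜ[A] p.2 := by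
    simp only [map_sum, LinearMap.rTensor_tmul, AlgHom.toLinearMap_apply]
    refine Finset.sum_congr rfl fun p hp => ?_
    rw [hσ p.1 (Finset.mem_image_of_mem _ hp)]
  have key : ∃ n : ℕ, h' ^ n • (∑ p ∈ S, σ p.1 ⊗ₜ[A] p.2 : E' ⊗[A] M) = 0 := by
    refine locSep_of_flat_fp f hf h' _ (fun i => ?_)
    obtain ⟨n, hn⟩ := hy i
    refine ⟨n, hinj (N i) ?_⟩
    rw [map_zero, rTensor_smul, map_pow]
    have h1 : ρ.toLinearMap.rTensor (N i) ((f i).baseChange E' (∑ p ∈ S, σ p.1 ⊗ₜ[A] p.2)) =
        (f i).baseChange E (ρ.toLinearMap.rTensor M (∑ p ∈ S, σ p.1 ⊗ₜ[A] p.2)) := by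
      rw [LinearMap.baseChange_eq_ltensor, LinearMap.baseChange_eq_ltensor,
        ← LinearMap.comp_apply, ← LinearMap.comp_apply, LinearMap.rTensor_comp_lTensor,
        LinearMap.lTensor_comp_rTensor]
    rw [h1, hy']
    exact hn
  obtain ⟨n, hn⟩ := key
  refine ⟨n, ?_⟩
  rw [← hy', ← map_pow, ← rTensor_smul, hn, map_zero]

theorem IndFPPure.of_algEquiv {E₂ : Type u} [CommRing E₂] [Algebra A E₂] (e : E ≃ₐ[A] E₂)
    (hE : IndFPPure A E) : IndFPPure A E₂ := by
  classical
  intro Sg
  obtain ⟨E', i1, i2, i3, i4, ρ, hρ, hinj⟩ := hE (Sg.image e.symm)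
  refine ⟨E', i1, i2, i3, i4, (e : E →ₐ[A] E₂).comp ρ, ?_, ?_⟩
  · intro x hx
    obtain ⟨y, hy⟩ := hρ (e.symm x) (Finset.mem_image_of_mem _ hx)
    exact ⟨y, by simp [hy]⟩
  · intro N _ _
    have h1 : ((e : E →ₐ[A] E₂).comp ρ).toLinearMap.rTensor N =
        ((e : E →ₐ[A] E₂).toLinearMap.rTensor N).comp (ρ.toLinearMap.rTensor N) := by
      rw [← LinearMap.rTensor_comp]
      rfl
    rw [h1, LinearMap.coe_comp]
    refine Function.Injective.comp ?_ (hinj N)
    have h2 : Function.Injective ((TensorProduct.congr e.toLinearEquiv (LinearEquiv.refl A N))) :=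
      LinearEquiv.injective _
    have h3 : ⇑((e : E →ₐ[A] E₂).toLinearMap.rTensor N) =
        ⇑(TensorProduct.congr e.toLinearEquiv (LinearEquiv.refl A N)) := by
      funext z
      induction z using TensorProduct.induction_on with
      | zero => simp
      | tmul a b => rfl
      | add a b ha hb => rw [map_add, map_add, ha, hb]
    rw [h3]
    exact h2

end C

section T
variable (k : Type u) [Field k] (A C : Type u) [CommRing A] [CommRing C] [Algebra k A] [Algebra k C]

/-- purity of `A ⊗ C' → A ⊗ C` for a subalgebra `C'` of an algebra over a field. -/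
theorem injective_rTensor_map_val (C' : Subalgebra k C) (N : Type u) [AddCommGroup N] [Module A N] :
    Function.Injective
      ((Algebra.TensorProduct.map (AlgHom.id A A) C'.val).toLinearMap.rTensor N) := by
  letI : Module k N := Module.compHom N (algebraMap k A)
  haveI : IsScalarTower k A N := IsScalarTower.of_algebraMap_smul fun r m => rfl
  let φ : ∀ (Q : Type u) [CommRing Q] [Algebra k Q], (A ⊗[k] Q) ⊗[A] N ≃ₗ[A] N ⊗[k] Q :=
    fun Q _ _ => (TensorProduct.comm A (A ⊗[k] Q) N) ≪≫ₗ
      TensorProduct.AlgebraTensorModule.cancelBaseChange k A A N Q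
  have hcomm : ∀ z : (A ⊗[k] C') ⊗[A] N,
      φ C ((Algebra.TensorProduct.map (AlgHom.id A A) C'.val).toLinearMap.rTensor N z) =
        (C'.val.toLinearMap.lTensor N) (φ C' z) := by
    intro z
    induction z using TensorProduct.induction_on with
    | zero => simp
    | tmul w n =>
      induction w using TensorProduct.induction_on with
      | zero => simp
      | tmul a c => simp [φ]
      | add x y hx hy =>
        rw [TensorProduct.add_tmul, map_add, map_add, hx, hy, map_add, map_add]
    | add x y hx hy => rw [map_add, map_add, hx, hy, map_add, map_add]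
  have hinj : Function.Injective (C'.val.toLinearMap.lTensor N) :=
    Module.Flat.lTensor_preserves_injective_linearMap (M := N) C'.val.toLinearMap
      (Subtype.val_injective)
  intro z1 z2 hz
  apply (φ C').injective
  apply hinj
  rw [← hcomm, ← hcomm, hz]

/-- **Lemma T**: over a field, `A ⊗ C` is ind-(flat f.p.) pure over `A`. -/
theorem indFPPure_tensor : IndFPPure A (A ⊗[k] C) := by
  classical
  intro Sg
  choose S hS using fun e : A ⊗[k] C => TensorProduct.exists_finset e
  let T : Finset C := Sg.biUnion (fun e => (S e).image Prod.snd)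
  let C' : Subalgebra k C := Algebra.adjoin k (T : Set C)
  haveI : Algebra.FiniteType k C' :=
    (Subalgebra.fg_iff_finiteType _).mp (Subalgebra.fg_adjoin_finset T)
  haveI : Algebra.FinitePresentation k C' :=
    Algebra.FinitePresentation.of_finiteType.mp inferInstance
  refine ⟨A ⊗[k] C', inferInstance, inferInstance, inferInstance, inferInstance,
    Algebra.TensorProduct.map (AlgHom.id A A) C'.val, ?_, ?_⟩
  · intro e he
    change e ∈ (Algebra.TensorProduct.map (AlgHom.id A A) C'.val).range
    rw [hS e]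
    refine Subalgebra.sum_mem _ fun p hp => ?_
    have hpT : p.2 ∈ C' := Algebra.subset_adjoin (Finset.mem_coe.mpr
      (Finset.mem_biUnion.mpr ⟨e, he, Finset.mem_image_of_mem _ hp⟩))
    exact ⟨p.1 ⊗ₜ[k] (⟨p.2, hpT⟩ : C'), by simp⟩
  · intro N _ _
    exact injective_rTensor_map_val k A C C' N

end T

section assemble

theorem eq_zero_of_indFPPure_away {A E B : Type u} [CommRing A] [CommRing E] [CommRing B]
    [Algebra A E] [Algebra E B] [Algebra A B] [IsScalarTower A E B]
    {ι : Type*} {M : Type u} [AddCommGroup M] [Module A M] {N : ι → Type u}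
    [∀ i, AddCommGroup (N i)] [∀ i, Module A (N i)] (f : ∀ i, M →ₗ[A] N i)
    (hE : IndFPPure A E) (h : E) [IsLocalization.Away h B] (hf : LocSepMaps f)
    (t : B ⊗[A] M) (ht : ∀ i, (f i).lTensor B t = 0) : t = 0 :=
  eq_zero_of_away f h (fun y hy => locSep_of_indFPPure f hE hf h y hy) t ht

theorem indFPPure_of_isPushout {k : Type u} [Field k] {A C E : Type u} [CommRing A] [CommRing C]
    [CommRing E] [Algebra k A] [Algebra k C] [Algebra A E] [Algebra C E] [Algebra k E]
    [IsScalarTower k A E] [IsScalarTower k C E] [Algebra.IsPushout k A C E] : IndFPPure A E :=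
  (indFPPure_tensor k A C).of_algEquiv (Algebra.IsPushout.equiv k A C E)

open CategoryTheory CategoryTheory.Limits in
/-- categorical form: a pushout square of commutative rings over (a ring isomorphic to) a field. -/
theorem indFPPure_of_isPushout_cat {k : Type u} [Field k] {R₀ A C E : CommRingCat.{u}}
    (e : CommRingCat.of k ≅ R₀) (a : R₀ ⟶ A) (c : R₀ ⟶ C) (a' : A ⟶ E) (c' : C ⟶ E)
    (H : IsPushout a c a' c') :
    letI := a'.hom.toAlgebra
    IndFPPure A E := by
  letI := a'.hom.toAlgebra
  letI : Algebra k A := (e.hom ≫ a).hom.toAlgebra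
  letI : Algebra k C := (e.hom ≫ c).hom.toAlgebra
  letI : Algebra C E := c'.hom.toAlgebra
  letI : Algebra k E := (e.hom ≫ a ≫ a').hom.toAlgebra
  haveI t1 : IsScalarTower k A E := IsScalarTower.of_algebraMap_eq (fun r => rfl)
  haveI t2 : IsScalarTower k C E := IsScalarTower.of_algebraMap_eq (fun r => by
    have := congrArg (fun φ => φ.hom (e.hom.hom r)) H.w
    exact this)
  have H1 : IsPushout (e.hom ≫ a) (e.hom ≫ c) a' c' :=
    IsPushout.of_iso H e.symm (Iso.refl _) (Iso.refl _) (Iso.refl _) (by simp) (by simp)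
      (by simp) (by simp)
  have H' : IsPushout (CommRingCat.ofHom (algebraMap k A)) (CommRingCat.ofHom (algebraMap k C))
      (CommRingCat.ofHom (algebraMap A E)) (CommRingCat.ofHom (algebraMap C E)) := H1
  haveI hpo : Algebra.IsPushout k A C E := CommRingCat.isPushout_iff_isPushout.1 H'
  exact indFPPure_of_isPushout (k := k) (A := A) (C := C) (E := E)

end assemble

section tensorSep

/-- `B` over `A` preserves locally separating families (joint injectivity after `B ⊗ -`). -/
def TensorSep (A B : Type u) [CommRing A] [CommRing B] [Algebra A B] : Prop :=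
  ∀ {ι : Type u} {M : Type u} [AddCommGroup M] [Module A M] {N : ι → Type u}
    [∀ i, AddCommGroup (N i)] [∀ i, Module A (N i)] (f : ∀ i, M →ₗ[A] N i), LocSepMaps f →
    ∀ t : B ⊗[A] M, (∀ i, (f i).lTensor B t = 0) → t = 0

theorem tensorSep_of_flat_fp (A B : Type u) [CommRing A] [CommRing B] [Algebra A B]
    [Algebra.FinitePresentation A B] [Module.Flat A B] : TensorSep A B :=
  fun f hf t ht => Groth.Agent.Lib.R2H3.SepFlat.eq_zero_of_flat_finitePresentation f hf t ht

theorem tensorSep_of_indFPPure_away {A E B : Type u} [CommRing A] [CommRing E] [CommRing B]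
    [Algebra A E] [Algebra E B] [Algebra A B] [IsScalarTower A E B]
    (hE : IndFPPure A E) (h : E) [IsLocalization.Away h B] : TensorSep A B :=
  fun f hf t ht => eq_zero_of_indFPPure_away f hE h hf t ht

/-- algebra form. -/
theorem TensorSep.ring {A B : Type u} [CommRing A] [CommRing B] [Algebra A B]
    (hAB : TensorSep A B)
    {ι : Type u} (C : ι → Type u) [∀ i, CommRing (C i)] [∀ i, Algebra A (C i)]
    (hsep : ∀ (g m : A), (∀ i, ∃ n : ℕ, g ^ n • algebraMap A (C i) m = 0) → ∃ n : ℕ, g ^ n * m = 0)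
    (b : B) (hb : ∀ i, b ⊗ₜ[A] (1 : C i) = 0) : b = 0 := by
  have ht : b ⊗ₜ[A] (1 : A) = 0 := by
    refine hAB (fun i => Algebra.linearMap A (C i)) ?_ _ fun i => ?_
    · intro g m hm
      obtain ⟨n, hn⟩ := hsep g m hm
      exact ⟨n, by rw [smul_eq_mul]; exact hn⟩
    · rw [LinearMap.lTensor_tmul, Algebra.linearMap_apply, map_one]
      exact hb i
  have := congrArg (TensorProduct.rid A B) ht
  rw [TensorProduct.rid_tmul, one_smul, map_zero] at this
  exact this

end tensorSep

end Groth.Agent.Lib.R2H3.SepField
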