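import Mathlib
import Groth.Agent.Lib.Helper18OmLS13

/-!
# Pull-back of separating families of homomorphisms of quasi-coherent modules (R2 helper3)

Chart-level reduction: for `g : X' ⟶ X`, quasi-coherent `F`, `G i` on `X` and `u i : F ⟶ G i`, the
statement "a section of `g^*F` killed by all `g^*(u i)` is zero" follows from the corresponding
statement for the base-changed linear maps `B' ⊗[A'] Γ(F, V) → B' ⊗[A'] Γ(G i, V)` on affine charts
`U ≤ g⁻¹ V` (`A' = Γ(X, V)`, `B' = Γ(X', U)`).
-/

set_option autoImplicit false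
set_option linter.style.haveILetI false
universe u
open CategoryTheory CategoryTheory.Limits AlgebraicGeometry TopologicalSpace Opposite TensorProduct
open Groth.Agent.Helper13PullbackUnit

namespace Groth.Agent.Lib.R2H3.SepPull

variable {X X' : Scheme.{u}} (g : X' ⟶ X)

/-- `unitSec` is natural in the module. -/
theorem map_unitSec {F G : X.Modules} (u : F ⟶ G) {V : X.Opens} {U : X'.Opens}
    (hle : U ≤ g ⁻¹ᵁ V) (m : Γ(F, V)) :
    ((Scheme.Modules.pullback g).map u).app U (unitSec g F hle m) =
      unitSec g G hle (u.app V m) := by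
  rw [unitSec_apply, unitSec_apply]
  have h1 : ((Scheme.Modules.pullback g).map u).app U
      (((Scheme.Modules.pullback g).obj F).presheaf.map (homOfLE hle).op
        (((Scheme.Modules.pullbackPushforwardAdjunction g).unit.app F).app V m)) =
      ((Scheme.Modules.pullback g).obj G).presheaf.map (homOfLE hle).op
        (((Scheme.Modules.pullback g).map u).app (g ⁻¹ᵁ V)
          (((Scheme.Modules.pullbackPushforwardAdjunction g).unit.app F).app V m)) := by
    have := ((Scheme.Modules.pullback g).map u).mapPresheaf.naturality (homOfLE hle).op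
    exact congr($this _)
  refine h1.trans ?_
  congr 1
  have h2 := (Scheme.Modules.pullbackPushforwardAdjunction g).unit.naturality u
  have h3 : ((Scheme.Modules.pullback g).map u).app (g ⁻¹ᵁ V)
      (((Scheme.Modules.pullbackPushforwardAdjunction g).unit.app F).app V m) =
      ((Scheme.Modules.pullbackPushforwardAdjunction g).unit.app G).app V (u.app V m) :=
    (congr($(congrArg (fun θ => Scheme.Modules.Hom.app θ V) h2) m)).symm
  exact h3

/-- the linear map on sections over `V` induced by a morphism of modules. -/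
noncomputable def appL {F G : X.Modules} (u : F ⟶ G) (V : X.Opens) : Γ(F, V) →ₗ[Γ(X, V)] Γ(G, V) where
  toFun := fun m => u.app V m
  map_add' := fun x y => map_add _ x y
  map_smul' := fun r x => Scheme.Modules.Hom.app_smul u r x

@[simp] theorem appL_apply {F G : X.Modules} (u : F ⟶ G) (V : X.Opens) (m : Γ(F, V)) :
    appL u V m = u.app V m := rfl

section chart
variable {ι : Type*} (F : X.Modules) [F.IsQuasicoherent] (G : ι → X.Modules)
  [∀ i, (G i).IsQuasicoherent] (u : ∀ i, F ⟶ G i)
  {V : X.Opens} (hV : IsAffineOpen V) {U : X'.Opens} (hU : IsAffineOpen U) (hle : U ≤ g ⁻¹ᵁ V)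
  [Algebra Γ(X, V) Γ(X', U)] (halg : algebraMap Γ(X, V) Γ(X', U) = (g.appLE V U hle).hom)

include hV hU halg in
/-- chart-level reduction. -/
theorem eq_zero_of_chart
    (H : ∀ t : Γ(X', U) ⊗[Γ(X, V)] Γ(F, V),
      (∀ i, (appL (u i) V).lTensor Γ(X', U) t = 0) → t = 0)
    (s : Γ((Scheme.Modules.pullback g).obj F, U))
    (hs : ∀ i, ((Scheme.Modules.pullback g).map (u i)).app U s = 0) : s = 0 := by
  obtain ⟨e, he⟩ := Groth.Agent.Helper18OmLS.exists_pullback_equiv g F hle hV hU halg
  obtain ⟨t, rfl⟩ := e.surjective s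
  rw [H t, map_zero]
  intro i
  obtain ⟨ei, hei⟩ := Groth.Agent.Helper18OmLS.exists_pullback_equiv g (G i) hle hV hU halg
  apply ei.injective
  rw [map_zero, ← hs i]
  clear hs H
  induction t using TensorProduct.induction_on with
  | zero => simp
  | tmul b m =>
    rw [LinearMap.lTensor_tmul, hei, he, Scheme.Modules.Hom.app_smul, map_unitSec, appL_apply]
  | add x y hx hy => rw [map_add, map_add, hx, hy, map_add, map_add]

end chart

section global
variable {ι : Type*} (F : X.Modules) [F.IsQuasicoherent] (G : ι → X.Modules)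
  [∀ i, (G i).IsQuasicoherent] (u : ∀ i, F ⟶ G i)

/-- global reduction: if the ring-level statement holds on all affine charts, the pulled back family
is separating. -/
theorem separating_pullback_of_charts
    (H : ∀ (V : X.Opens) (U : X'.Opens) (_ : IsAffineOpen V) (_ : IsAffineOpen U)
      (hle : U ≤ g ⁻¹ᵁ V),
      letI := (g.appLE V U hle).hom.toAlgebra
      ∀ t : Γ(X', U) ⊗[Γ(X, V)] Γ(F, V),
        (∀ i, (appL (u i) V).lTensor Γ(X', U) t = 0) → t = 0)
    (W : X'.Opens) (t : Γ((Scheme.Modules.pullback g).obj F, W))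
    (ht : ∀ i, ((Scheme.Modules.pullback g).map (u i)).app W t = 0) : t = 0 := by
  refine ((Scheme.Modules.pullback g).obj F).isSheaf.section_ext (U := op W) fun x' hx' => ?_
  obtain ⟨V, hV, hxV, -⟩ := exists_isAffineOpen_mem_and_subset (x := g x') (U := ⊤) trivial
  obtain ⟨U, hU, hxU, hUle⟩ := exists_isAffineOpen_mem_and_subset (x := x') (U := g ⁻¹ᵁ V ⊓ W)
    ⟨hxV, hx'⟩
  refine ⟨U, hUle.trans inf_le_right, hxU, ?_⟩
  rw [map_zero]
  letI := (g.appLE V U (hUle.trans inf_le_left)).hom.toAlgebra
  refine eq_zero_of_chart g F G u hV hU (hUle.trans inf_le_left) rfl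
    (H V U hV hU (hUle.trans inf_le_left)) _ fun i => ?_
  have hn : ((Scheme.Modules.pullback g).map (u i)).app U
      (((Scheme.Modules.pullback g).obj F).presheaf.map (homOfLE (hUle.trans inf_le_right)).op t) =
      ((Scheme.Modules.pullback g).obj (G i)).presheaf.map (homOfLE (hUle.trans inf_le_right)).op
        (((Scheme.Modules.pullback g).map (u i)).app W t) := by
    have := ((Scheme.Modules.pullback g).map (u i)).mapPresheaf.naturality
      (homOfLE (hUle.trans inf_le_right)).op
    exact congr($this _)
  refine hn.trans ?_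
  rw [ht i, map_zero]

end global

end Groth.Agent.Lib.R2H3.SepPull
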