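import Mathlib
import Groth.Agent.Lib.R2H3SepField
import Groth.Agent.Lib.R2H3SepPull
import Groth.Agent.Lib.R2H3ConormalH1
import Groth.Agent.Lib.R2H3ProdChart
import Groth.Agent.Lib.R2H3SchDom

/-!
# Separating / schematically dominant families: chart reductions (helper3, round 2)
-/

set_option autoImplicit false
set_option linter.style.haveILetI false
universe u
open CategoryTheory CategoryTheory.Limits AlgebraicGeometry TopologicalSpace Opposite TensorProduct

namespace Groth.Agent.Lib.R2H3.SepFieldGeo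

open Groth.Agent.Lib.R2H3.SepField Groth.Agent.Lib.R2H3.SepPull

section locsep
variable {X : Scheme.{u}} {ι : Type*} (F : X.Modules) [F.IsQuasicoherent] (G : ι → X.Modules)
  [∀ i, (G i).IsQuasicoherent] (u : ∀ i, F ⟶ G i)

/-- a separating family of maps of quasi-coherent modules is locally separating on sections over an
affine open. -/
theorem locSepMaps_appL
    (h : ∀ (V : X.Opens) (t : Γ(F, V)), (∀ i, (u i).app V t = 0) → t = 0)
    {V : X.Opens} (hV : IsAffineOpen V) : LocSepMaps (fun i => appL (u i) V) := by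
  intro a m hm
  letI := Groth.Agent.Lib.R2H3.ConormalH1.basicModule F a
  letI := fun i => Groth.Agent.Lib.R2H3.ConormalH1.basicModule (G i) a
  have hlocF := Groth.Agent.Lib.R2H3.ConormalH1.isLocalizedModule_basicRes F hV a
  have hm' : Groth.Agent.Lib.R2H3.ConormalH1.basicRes F a m = 0 := by
    apply h (X.basicOpen a)
    intro i
    obtain ⟨n, hn⟩ := hm i
    have hlocG := Groth.Agent.Lib.R2H3.ConormalH1.isLocalizedModule_basicRes (G i) hV a
    have hnat : (u i).app (X.basicOpen a)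
        (Groth.Agent.Lib.R2H3.ConormalH1.basicRes F a m) =
        Groth.Agent.Lib.R2H3.ConormalH1.basicRes (G i) a (appL (u i) V m) := by
      have := (Scheme.Modules.Hom.mapPresheaf (u i)).naturality (homOfLE (X.basicOpen_le a)).op
      exact congr($this m)
    rw [hnat]
    exact (IsLocalizedModule.eq_zero_iff (Submonoid.powers a)
      (Groth.Agent.Lib.R2H3.ConormalH1.basicRes (G i) a)).mpr ⟨⟨a ^ n, n, rfl⟩, hn⟩
  obtain ⟨⟨_, n, rfl⟩, hn⟩ := (IsLocalizedModule.eq_zero_iff (Submonoid.powers a)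
    (Groth.Agent.Lib.R2H3.ConormalH1.basicRes F a)).mp hm'
  exact ⟨n, hn⟩

end locsep

section charts
variable {X X' : Scheme.{u}} (g : X' ⟶ X)

/-- `g` has enough charts on which locally separating families stay jointly injective. -/
def HasSepCharts : Prop :=
  ∀ (W : X'.Opens) (x' : X'), x' ∈ W → ∃ (V : X.Opens) (U : X'.Opens) (_ : IsAffineOpen V)
    (_ : IsAffineOpen U) (hle : U ≤ g ⁻¹ᵁ V), x' ∈ U ∧ U ≤ W ∧
      letI := (g.appLE V U hle).hom.toAlgebra
      TensorSep Γ(X, V) Γ(X', U)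

variable {g}

/-- modules version. -/
theorem separating_pullback_of_hasSepCharts (hg : HasSepCharts g)
    {ι : Type u} (F : X.Modules) [F.IsQuasicoherent] (G : ι → X.Modules)
    [∀ i, (G i).IsQuasicoherent] (u : ∀ i, F ⟶ G i)
    (h : ∀ (V : X.Opens) (t : Γ(F, V)), (∀ i, (u i).app V t = 0) → t = 0)
    (W : X'.Opens) (t : Γ((Scheme.Modules.pullback g).obj F, W))
    (ht : ∀ i, ((Scheme.Modules.pullback g).map (u i)).app W t = 0) : t = 0 := by
  refine ((Scheme.Modules.pullback g).obj F).isSheaf.section_ext (U := op W) fun x' hx' => ?_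
  obtain ⟨V, U, hV, hU, hle, hxU, hUW, hTS⟩ := hg W x' hx'
  refine ⟨U, hUW, hxU, ?_⟩
  rw [map_zero]
  letI := (g.appLE V U hle).hom.toAlgebra
  refine eq_zero_of_chart g F G u hV hU hle rfl
    (fun t' ht' => hTS (fun i => appL (u i) V) (locSepMaps_appL F G u h hV) t' ht') _ fun i => ?_
  have hn : ((Scheme.Modules.pullback g).map (u i)).app U
      (((Scheme.Modules.pullback g).obj F).presheaf.map (homOfLE hUW).op t) =
      ((Scheme.Modules.pullback g).obj (G i)).presheaf.map (homOfLE hUW).op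
        (((Scheme.Modules.pullback g).map (u i)).app W t) := by
    have := ((Scheme.Modules.pullback g).map (u i)).mapPresheaf.naturality (homOfLE hUW).op
    exact congr($this _)
  refine hn.trans ?_
  rw [ht i, map_zero]

end charts

section charts2
variable {X X' : Scheme.{u}} {g : X' ⟶ X}

/-- schematically dominant families version, for arbitrary pullback squares. -/
theorem schDominant_of_hasSepCharts (hg : HasSepCharts g) {ι : Type u} (Z Z' : ι → Scheme.{u})
    (f : ∀ i, Z i ⟶ X) (fst' : ∀ i, Z' i ⟶ Z i) (m : ∀ i, Z' i ⟶ X')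
    (H : ∀ i, IsPullback (fst' i) (m i) (f i) g)
    (h : ∀ (V : X.Opens) (t : Γ(X, V)), (∀ i, (f i).app V t = 0) → t = 0)
    (V' : X'.Opens) (t : Γ(X', V')) (ht : ∀ i, (m i).app V' t = 0) : t = 0 := by
  apply Groth.Agent.Lib.R2H3.SchDom.eq_zero_of_locally
  intro x' hx'
  obtain ⟨U, U', hU, hU', hle, hxU', hU'V', hTS⟩ := hg V' x' hx'
  refine ⟨U', hU'V', hxU', ?_⟩
  letI := (g.appLE U U' hle).hom.toAlgebra
  letI : ∀ j : (Σ i, {T : (Z i).Opens // IsAffineOpen T ∧ T ≤ (f i) ⁻¹ᵁ U}),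
      Algebra Γ(X, U) Γ(Z j.1, j.2.1) :=
    fun j => ((f j.1).appLE U j.2.1 j.2.2.2).hom.toAlgebra
  refine hTS.ring
    (fun j : (Σ i, {T : (Z i).Opens // IsAffineOpen T ∧ T ≤ (f i) ⁻¹ᵁ U}) => Γ(Z j.1, j.2.1))
    ?_ _ (fun j => ?_)
  · intro g₀ m₀ hm
    have H0 : X.presheaf.map (homOfLE (X.basicOpen_le g₀)).op m₀ = 0 := by
      apply h (X.basicOpen g₀)
      intro i
      apply Groth.Agent.Lib.R2H3.SchDom.eq_zero_of_locally
      intro z hz
      have hzU : z ∈ (f i) ⁻¹ᵁ U := X.basicOpen_le g₀ hz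
      obtain ⟨T, hT, hzT, hTle0⟩ := exists_isAffineOpen_mem_and_subset (x := z)
        (U := (f i) ⁻¹ᵁ U) hzU
      have hTle : T ≤ (f i) ⁻¹ᵁ U := hTle0
      obtain ⟨n, hn⟩ := hm ⟨i, T, hT, hTle⟩
      refine ⟨T ⊓ (f i) ⁻¹ᵁ (X.basicOpen g₀), inf_le_right, ⟨hzT, hz⟩, ?_⟩
      have e1 : (Z i).presheaf.map (homOfLE (inf_le_right :
          T ⊓ (f i) ⁻¹ᵁ (X.basicOpen g₀) ≤ (f i) ⁻¹ᵁ (X.basicOpen g₀))).op
          ((f i).app (X.basicOpen g₀) (X.presheaf.map (homOfLE (X.basicOpen_le g₀)).op m₀)) =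
          (f i).appLE U (T ⊓ (f i) ⁻¹ᵁ (X.basicOpen g₀)) (inf_le_left.trans hTle) m₀ := by
        have h1 : (f i).appLE (X.basicOpen g₀) (T ⊓ (f i) ⁻¹ᵁ (X.basicOpen g₀)) inf_le_right =
            (f i).app (X.basicOpen g₀) ≫ (Z i).presheaf.map (homOfLE inf_le_right).op := rfl
        rw [← CommRingCat.comp_apply, ← CommRingCat.comp_apply, ← h1, Scheme.Hom.map_appLE]
      rw [e1]
      have hn' : (f i).appLE U T hTle g₀ ^ n * (f i).appLE U T hTle m₀ = 0 := by
        rw [Algebra.smul_def, map_pow] at hn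
        exact hn
      have h1 := congrArg ((Z i).presheaf.map (homOfLE (inf_le_left :
        T ⊓ (f i) ⁻¹ᵁ (X.basicOpen g₀) ≤ T)).op) hn'
      rw [map_mul, map_pow, map_zero] at h1
      have e2 : ∀ x, (Z i).presheaf.map (homOfLE (inf_le_left :
          T ⊓ (f i) ⁻¹ᵁ (X.basicOpen g₀) ≤ T)).op ((f i).appLE U T hTle x) =
          (f i).appLE U (T ⊓ (f i) ⁻¹ᵁ (X.basicOpen g₀)) (inf_le_left.trans hTle) x := fun x => by
        rw [← CommRingCat.comp_apply, Scheme.Hom.appLE_map]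
      rw [e2, e2] at h1
      have hu : IsUnit ((f i).appLE U (T ⊓ (f i) ⁻¹ᵁ (X.basicOpen g₀))
          (inf_le_left.trans hTle) g₀) := by
        have e3 : (f i).appLE U (T ⊓ (f i) ⁻¹ᵁ (X.basicOpen g₀)) (inf_le_left.trans hTle) g₀ =
            (f i).appLE (X.basicOpen g₀) (T ⊓ (f i) ⁻¹ᵁ (X.basicOpen g₀)) inf_le_right
              (X.presheaf.map (homOfLE (X.basicOpen_le g₀)).op g₀) := by
          rw [← CommRingCat.comp_apply, Scheme.Hom.map_appLE]
        rw [e3]
        exact (RingedSpace.isUnit_res_basicOpen X.toRingedSpace g₀).map _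
      exact (hu.pow n).mul_right_eq_zero.mp h1
    exact exists_pow_mul_eq_zero_of_res_basicOpen_eq_zero_of_isAffineOpen X hU m₀ g₀ H0
  · obtain ⟨i, T, hT, hTle⟩ := j
    have Hpo := Groth.Agent.Lib.R2H3.ProdChart.isPushout_appLE (H i) hU hT hU' hTle hle
    refine Groth.Agent.Lib.R2H3.SchDom.tmul_one_eq_zero_of_isPushout _ _ _ _ Hpo _ ?_
    rw [← CommRingCat.comp_apply, Scheme.Hom.map_appLE, Scheme.Hom.appLE, CommRingCat.comp_apply,
      ht i, map_zero]

end charts2

section field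
variable {k : Type u} [Field k] {X S' : Scheme.{u}}
  (p : X ⟶ Spec (CommRingCat.of k)) (q : S' ⟶ Spec (CommRingCat.of k))

/-- the projection `X ×_k S' ⟶ X` has enough separating charts. -/
theorem hasSepCharts_fst_field : HasSepCharts (pullback.fst p q) := by
  intro W x' hx'
  obtain ⟨V, hV, hxV, -⟩ := exists_isAffineOpen_mem_and_subset (x := pullback.fst p q x')
    (U := ⊤) trivial
  obtain ⟨T, hT, hxT, -⟩ := exists_isAffineOpen_mem_and_subset (x := pullback.snd p q x')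
    (U := ⊤) trivial
  have Hpb : IsPullback (pullback.fst p q) (pullback.snd p q) p q := IsPullback.of_hasPullback p q
  have hW0 : IsAffineOpen (⊤ : (Spec (CommRingCat.of k)).Opens) := isAffineOpen_top _
  have hVW : V ≤ p ⁻¹ᵁ ⊤ := fun _ _ => trivial
  have hTW : T ≤ q ⁻¹ᵁ ⊤ := fun _ _ => trivial
  have hP : IsAffineOpen ((pullback.fst p q) ⁻¹ᵁ V ⊓ (pullback.snd p q) ⁻¹ᵁ T) :=
    Groth.Agent.Lib.R2H3.ProdChart.isAffineOpen_inf Hpb hW0 hV hT hVW hTW
  have Hpo := Groth.Agent.Lib.R2H3.ProdChart.isPushout_appLE Hpb hW0 hV hT hVW hTW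
  have hE := indFPPure_of_isPushout_cat (k := k) (Scheme.ΓSpecIso (CommRingCat.of k)).symm
    _ _ _ _ Hpo
  obtain ⟨h, hhle, hxh⟩ := hP.exists_basicOpen_le
    (V := ((pullback.fst p q) ⁻¹ᵁ V ⊓ (pullback.snd p q) ⁻¹ᵁ T) ⊓ W) ⟨x', ⟨⟨hxV, hxT⟩, hx'⟩⟩
    ⟨hxV, hxT⟩
  have hUle : (pullback p q).basicOpen h ≤ (pullback.fst p q) ⁻¹ᵁ V :=
    (hhle.trans inf_le_left).trans inf_le_left
  refine ⟨V, (pullback p q).basicOpen h, hV, hP.basicOpen h, hUle, hxh, hhle.trans inf_le_right, ?_⟩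
  letI := ((pullback.fst p q).appLE V ((pullback.fst p q) ⁻¹ᵁ V ⊓ (pullback.snd p q) ⁻¹ᵁ T)
    inf_le_left).hom.toAlgebra
  letI := ((pullback.fst p q).appLE V ((pullback p q).basicOpen h) hUle).hom.toAlgebra
  haveI : IsScalarTower Γ(X, V) Γ(pullback p q, (pullback.fst p q) ⁻¹ᵁ V ⊓ (pullback.snd p q) ⁻¹ᵁ T)
      Γ(pullback p q, (pullback p q).basicOpen h) := IsScalarTower.of_algebraMap_eq (fun r => by
    change ((pullback.fst p q).appLE V ((pullback p q).basicOpen h) hUle).hom r =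
      ((pullback p q).presheaf.map (homOfLE ((pullback p q).basicOpen_le h)).op).hom
        (((pullback.fst p q).appLE V _ inf_le_left).hom r)
    rw [← CommRingCat.comp_apply, Scheme.Hom.appLE_map])
  haveI : IsLocalization.Away h Γ(pullback p q, (pullback p q).basicOpen h) :=
    hP.isLocalization_basicOpen h
  intro ι M _ _ N _ _ f hf t ht
  exact eq_zero_of_indFPPure_away f hE h hf t ht

end field

end Groth.Agent.Lib.R2H3.SepFieldGeo
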