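import Mathlib
import Groth.Agent.Lib.R2H3FibCrit
import Groth.Agent.Lib.R2H3SepFieldGeo

/-!
# Fibrewise criterion for universally schematically dominant families: chart reductions
(EGA IV 11.10.9; helper3, round 2)
-/

set_option autoImplicit false
set_option linter.style.haveILetI false
universe u
open CategoryTheory CategoryTheory.Limits AlgebraicGeometry TopologicalSpace Opposite TensorProduct

namespace Groth.Agent.Lib.R2H3.FibCritGeo

open Groth.Agent.Lib.R2H3.FibCrit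

section interface

/-- a pushout square of commutative rings whose two source legs are `algebraMap`s identifies the
pushout with the tensor product. -/
theorem exists_equiv_of_isPushout {A B A' : Type u} [CommRing A] [CommRing B] [CommRing A']
    [Algebra A B] [Algebra A A'] {B' : CommRingCat.{u}} (α' : CommRingCat.of B ⟶ B')
    (β' : CommRingCat.of A' ⟶ B')
    (H : IsPushout (CommRingCat.ofHom (algebraMap A B)) (CommRingCat.ofHom (algebraMap A A')) α' β') :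
    ∃ e : A' ⊗[A] B ≃+* B', ∀ (a' : A') (b : B), e (a' ⊗ₜ[A] b) = β'.hom a' * α'.hom b := by
  letI : Algebra A' B' := β'.hom.toAlgebra
  letI : Algebra B B' := α'.hom.toAlgebra
  letI : Algebra A B' := (β'.hom.comp (algebraMap A A')).toAlgebra
  haveI t1 : IsScalarTower A A' B' := IsScalarTower.of_algebraMap_eq (fun r => rfl)
  haveI t2 : IsScalarTower A B B' := IsScalarTower.of_algebraMap_eq (fun r => by
    have := congrArg (fun φ => φ.hom r) H.w
    exact this.symm)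
  have H' : IsPushout (CommRingCat.ofHom (algebraMap A A')) (CommRingCat.ofHom (algebraMap A B))
      (CommRingCat.ofHom (algebraMap A' B')) (CommRingCat.ofHom (algebraMap B B')) := H.flip
  haveI hpo : Algebra.IsPushout A A' B B' := CommRingCat.isPushout_iff_isPushout.1 H'
  refine ⟨(Algebra.IsPushout.equiv A A' B B').toRingEquiv, fun a' b => ?_⟩
  exact Algebra.IsPushout.equiv_tmul A A' B B' a' b

/-- the interface between pushout squares of rings of sections and the tensor model. -/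
theorem ringLocSep_tensor_iff {A R A' : Type u} [CommRing A] [CommRing R] [CommRing A']
    [Algebra A R] [Algebra A A'] {R' : CommRingCat.{u}} (α' : CommRingCat.of R ⟶ R')
    (β' : CommRingCat.of A' ⟶ R')
    (H : IsPushout (CommRingCat.ofHom (algebraMap A R)) (CommRingCat.ofHom (algebraMap A A')) α' β')
    {ι : Type*} {C : ι → Type u} [∀ τ, CommRing (C τ)] [∀ τ, Algebra A (C τ)]
    (φ : ∀ τ, R →ₐ[A] C τ) (C' : ι → CommRingCat.{u}) (γ : ∀ τ, CommRingCat.of (C τ) ⟶ C' τ)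
    (φ' : ∀ τ, R' ⟶ C' τ)
    (Hτ : ∀ τ, IsPushout (CommRingCat.ofHom (φ τ).toRingHom) α' (γ τ) (φ' τ)) :
    RingLocSep (fun τ => (φ' τ).hom) ↔
      RingLocSep (fun τ => (Algebra.TensorProduct.map (AlgHom.id A A') (φ τ)).toRingHom) := by
  obtain ⟨eR, heR⟩ := exists_equiv_of_isPushout α' β' H
  have Hp : ∀ τ, IsPushout (CommRingCat.ofHom (algebraMap A (C τ)))
      (CommRingCat.ofHom (algebraMap A A')) (γ τ) (β' ≫ φ' τ) := fun τ => by
    have h1 := H.paste_horiz (Hτ τ)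
    have e1 : CommRingCat.ofHom (algebraMap A R) ≫ CommRingCat.ofHom (φ τ).toRingHom =
        CommRingCat.ofHom (algebraMap A (C τ)) := by
      ext r
      exact (φ τ).commutes r
    rw [e1] at h1
    exact h1
  choose eC heC using fun τ => exists_equiv_of_isPushout (γ τ) (β' ≫ φ' τ) (Hp τ)
  have hcomm : ∀ τ (x : A' ⊗[A] R), eC τ ((Algebra.TensorProduct.map (AlgHom.id A A') (φ τ)) x) =
      (φ' τ).hom (eR x) := by
    intro τ x
    induction x using TensorProduct.induction_on with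
    | zero => simp
    | tmul a' r =>
      rw [Algebra.TensorProduct.map_tmul, heC, heR, map_mul]
      have := congrArg (fun ψ => ψ.hom r) (Hτ τ).w
      simp only [CommRingCat.hom_comp, RingHom.comp_apply, CommRingCat.hom_ofHom] at this
      rw [← this]
      rfl
    | add a b ha hb => simp only [map_add, ha, hb]
  constructor
  · intro h1
    refine RingLocSep.of_equiv eR.symm (fun τ => (eC τ).symm) (fun τ x => ?_) h1
    rw [RingEquiv.symm_apply_eq]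
    have := hcomm τ (eR.symm x)
    rw [RingEquiv.apply_symm_apply] at this
    exact this.symm
  · intro h1
    exact RingLocSep.of_equiv eR eC (fun τ x => hcomm τ x) h1

end interface


section charts
variable {X X' : Scheme.{u}} {g : X' ⟶ X} {ι : Type u} {Z Z' : ι → Scheme.{u}}
  (f : ∀ i, Z i ⟶ X) (c : ∀ i, Z' i ⟶ Z i) (m : ∀ i, Z' i ⟶ X')

/-- index type of the affine charts of the family lying over `U`. -/
abbrev Idx (U : X.Opens) : Type u :=
  Sigma fun i => {T : (Z i).Opens // IsAffineOpen T ∧ T ≤ (f i) ⁻¹ᵁ U}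

/-- the chart opens of the base-changed family. -/
abbrev chartOpen {U : X.Opens} (P : X'.Opens) (τ : Idx f U) : (Z' τ.1).Opens :=
  (c τ.1) ⁻¹ᵁ τ.2.1 ⊓ (m τ.1) ⁻¹ᵁ P

/-- the chart ring maps of the base-changed family. -/
abbrev chartHom {U : X.Opens} (P : X'.Opens) (τ : Idx f U) :
    Γ(X', P) →+* Γ(Z' τ.1, chartOpen f c m P τ) :=
  ((m τ.1).appLE P (chartOpen f c m P τ) inf_le_right).hom

variable {f c m}

/-- a schematically dominant family is locally separating on charts. -/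
theorem ringLocSep_of_schDominant (hw : ∀ i, c i ≫ f i = m i ≫ g)
    (hdom : ∀ (V' : X'.Opens) (t : Γ(X', V')), (∀ i, (m i).app V' t = 0) → t = 0)
    {U : X.Opens} {P : X'.Opens} (hP : IsAffineOpen P) (hle : P ≤ g ⁻¹ᵁ U) :
    RingLocSep (chartHom f c m P (U := U)) := by
  intro h e he
  have H0 : X'.presheaf.map (homOfLE (X'.basicOpen_le h)).op e = 0 := by
    apply hdom (X'.basicOpen h)
    intro i
    apply Groth.Agent.Lib.R2H3.SchDom.eq_zero_of_locally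
    intro z hz
    have hzP : (m i) z ∈ P := X'.basicOpen_le h hz
    have hzU : (c i) z ∈ (f i) ⁻¹ᵁ U := by
      change (f i) ((c i) z) ∈ U
      rw [← Scheme.Hom.comp_apply, hw i, Scheme.Hom.comp_apply]
      exact hle hzP
    obtain ⟨T, hT, hzT, hTle0⟩ := exists_isAffineOpen_mem_and_subset (x := (c i) z)
      (U := (f i) ⁻¹ᵁ U) hzU
    have hTle : T ≤ (f i) ⁻¹ᵁ U := hTle0
    obtain ⟨n, hn⟩ := he ⟨i, T, hT, hTle⟩
    have hQle : ((c i) ⁻¹ᵁ T ⊓ (m i) ⁻¹ᵁ P) ⊓ (m i) ⁻¹ᵁ (X'.basicOpen h) ≤ (m i) ⁻¹ᵁ P :=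
      inf_le_left.trans inf_le_right
    refine ⟨((c i) ⁻¹ᵁ T ⊓ (m i) ⁻¹ᵁ P) ⊓ (m i) ⁻¹ᵁ (X'.basicOpen h), inf_le_right,
      ⟨⟨hzT, hzP⟩, hz⟩, ?_⟩
    have e1 : (Z' i).presheaf.map (homOfLE (inf_le_right :
        ((c i) ⁻¹ᵁ T ⊓ (m i) ⁻¹ᵁ P) ⊓ (m i) ⁻¹ᵁ (X'.basicOpen h) ≤
          (m i) ⁻¹ᵁ (X'.basicOpen h))).op
        ((m i).app (X'.basicOpen h) (X'.presheaf.map (homOfLE (X'.basicOpen_le h)).op e)) =
        (m i).appLE P (((c i) ⁻¹ᵁ T ⊓ (m i) ⁻¹ᵁ P) ⊓ (m i) ⁻¹ᵁ (X'.basicOpen h)) hQle e := by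
      have h1 : (m i).appLE (X'.basicOpen h)
          (((c i) ⁻¹ᵁ T ⊓ (m i) ⁻¹ᵁ P) ⊓ (m i) ⁻¹ᵁ (X'.basicOpen h)) inf_le_right =
          (m i).app (X'.basicOpen h) ≫ (Z' i).presheaf.map (homOfLE inf_le_right).op := rfl
      rw [← CommRingCat.comp_apply, ← CommRingCat.comp_apply, ← h1, Scheme.Hom.map_appLE]
    rw [e1]
    have hn' : (m i).appLE P ((c i) ⁻¹ᵁ T ⊓ (m i) ⁻¹ᵁ P) inf_le_right h ^ n *
        (m i).appLE P ((c i) ⁻¹ᵁ T ⊓ (m i) ⁻¹ᵁ P) inf_le_right e = 0 := by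
      have hn2 : (m i).appLE P ((c i) ⁻¹ᵁ T ⊓ (m i) ⁻¹ᵁ P) inf_le_right (h ^ n * e) = 0 := hn
      rw [map_mul, map_pow] at hn2
      exact hn2
    have h1 := congrArg ((Z' i).presheaf.map (homOfLE (inf_le_left :
      ((c i) ⁻¹ᵁ T ⊓ (m i) ⁻¹ᵁ P) ⊓ (m i) ⁻¹ᵁ (X'.basicOpen h) ≤
        (c i) ⁻¹ᵁ T ⊓ (m i) ⁻¹ᵁ P)).op) hn'
    rw [map_mul, map_pow, map_zero] at h1
    have e2 : ∀ x, (Z' i).presheaf.map (homOfLE (inf_le_left :
        ((c i) ⁻¹ᵁ T ⊓ (m i) ⁻¹ᵁ P) ⊓ (m i) ⁻¹ᵁ (X'.basicOpen h) ≤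
          (c i) ⁻¹ᵁ T ⊓ (m i) ⁻¹ᵁ P)).op
        ((m i).appLE P ((c i) ⁻¹ᵁ T ⊓ (m i) ⁻¹ᵁ P) inf_le_right x) =
        (m i).appLE P (((c i) ⁻¹ᵁ T ⊓ (m i) ⁻¹ᵁ P) ⊓ (m i) ⁻¹ᵁ (X'.basicOpen h)) hQle x :=
      fun x => by rw [← CommRingCat.comp_apply, Scheme.Hom.appLE_map]
    rw [e2, e2] at h1
    have hu : IsUnit ((m i).appLE P
        (((c i) ⁻¹ᵁ T ⊓ (m i) ⁻¹ᵁ P) ⊓ (m i) ⁻¹ᵁ (X'.basicOpen h)) hQle h) := by
      have e3 : (m i).appLE P
          (((c i) ⁻¹ᵁ T ⊓ (m i) ⁻¹ᵁ P) ⊓ (m i) ⁻¹ᵁ (X'.basicOpen h)) hQle h =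
          (m i).appLE (X'.basicOpen h)
            (((c i) ⁻¹ᵁ T ⊓ (m i) ⁻¹ᵁ P) ⊓ (m i) ⁻¹ᵁ (X'.basicOpen h)) inf_le_right
            (X'.presheaf.map (homOfLE (X'.basicOpen_le h)).op h) := by
        rw [← CommRingCat.comp_apply, Scheme.Hom.map_appLE]
      rw [e3]
      exact (RingedSpace.isUnit_res_basicOpen X'.toRingedSpace h).map _
    exact (hu.pow n).mul_right_eq_zero.mp h1
  exact exists_pow_mul_eq_zero_of_res_basicOpen_eq_zero_of_isAffineOpen X' hP e h H0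

/-- a family which is locally separating on charts around every point is schematically
dominant. -/
theorem schDominant_of_ringLocSep (H : ∀ i, IsPullback (c i) (m i) (f i) g)
    (hloc : ∀ x' : X', ∃ (U : X.Opens) (P : X'.Opens) (_ : IsAffineOpen U) (_ : IsAffineOpen P)
      (_ : P ≤ g ⁻¹ᵁ U), x' ∈ P ∧ RingLocSep (chartHom f c m P (U := U)))
    (V' : X'.Opens) (t : Γ(X', V')) (ht : ∀ i, (m i).app V' t = 0) : t = 0 := by
  apply Groth.Agent.Lib.R2H3.SchDom.eq_zero_of_locally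
  intro x' hx'
  obtain ⟨U, P, hU, hP, hle, hxP, hsep⟩ := hloc x'
  obtain ⟨h, hhle, hxh⟩ := hP.exists_basicOpen_le (V := P ⊓ V') ⟨x', ⟨hxP, hx'⟩⟩ hxP
  have hDV : X'.basicOpen h ≤ V' := hhle.trans inf_le_right
  refine ⟨X'.basicOpen h, hDV, hxh, ?_⟩
  haveI := hP.isLocalization_basicOpen h
  obtain ⟨⟨e, ⟨_, k, rfl⟩⟩, hek⟩ := IsLocalization.surj (Submonoid.powers h)
    (X'.presheaf.map (homOfLE hDV).op t)
  have hek' : X'.presheaf.map (homOfLE hDV).op t *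
      (X'.presheaf.map (homOfLE (X'.basicOpen_le h)).op h) ^ k =
      X'.presheaf.map (homOfLE (X'.basicOpen_le h)).op e := by
    rw [← map_pow]
    exact hek
  have hu := RingedSpace.isUnit_res_basicOpen X'.toRingedSpace h
  have hτ : ∀ τ : Idx f U, ∃ n : ℕ, chartHom f c m P τ (h ^ n * e) = 0 := by
    intro τ
    obtain ⟨i, T, hT, hTle⟩ := τ
    have hPτ : IsAffineOpen ((c i) ⁻¹ᵁ T ⊓ (m i) ⁻¹ᵁ P) :=
      Groth.Agent.Lib.R2H3.ProdChart.isAffineOpen_inf (H i) hU hT hP hTle hle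
    have hb : (Z' i).basicOpen ((m i).appLE P ((c i) ⁻¹ᵁ T ⊓ (m i) ⁻¹ᵁ P) inf_le_right h) =
        ((c i) ⁻¹ᵁ T ⊓ (m i) ⁻¹ᵁ P) ⊓ (m i) ⁻¹ᵁ (X'.basicOpen h) :=
      Scheme.basicOpen_appLE (m i) _ P inf_le_right h
    have hQD : (Z' i).basicOpen ((m i).appLE P ((c i) ⁻¹ᵁ T ⊓ (m i) ⁻¹ᵁ P) inf_le_right h) ≤
        (m i) ⁻¹ᵁ (X'.basicOpen h) := hb.le.trans inf_le_right
    have hQV : (Z' i).basicOpen ((m i).appLE P ((c i) ⁻¹ᵁ T ⊓ (m i) ⁻¹ᵁ P) inf_le_right h) ≤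
        (m i) ⁻¹ᵁ V' := hQD.trans ((m i).preimage_mono hDV)
    have H0 : (Z' i).presheaf.map (homOfLE ((Z' i).basicOpen_le
        ((m i).appLE P ((c i) ⁻¹ᵁ T ⊓ (m i) ⁻¹ᵁ P) inf_le_right h))).op
        ((m i).appLE P ((c i) ⁻¹ᵁ T ⊓ (m i) ⁻¹ᵁ P) inf_le_right e) = 0 := by
      rw [← CommRingCat.comp_apply, Scheme.Hom.appLE_map]
      have e1 : (m i).appLE P _ (((Z' i).basicOpen_le _).trans inf_le_right) e =
          (m i).appLE (X'.basicOpen h) _ hQD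
            (X'.presheaf.map (homOfLE (X'.basicOpen_le h)).op e) := by
        rw [← CommRingCat.comp_apply, Scheme.Hom.map_appLE]
      rw [e1, ← hek', map_mul]
      have e2 : (m i).appLE (X'.basicOpen h) _ hQD (X'.presheaf.map (homOfLE hDV).op t) =
          (Z' i).presheaf.map (homOfLE hQV).op ((m i).app V' t) := by
        rw [← CommRingCat.comp_apply, Scheme.Hom.map_appLE]
        rfl
      rw [e2, ht i, map_zero, zero_mul]
    obtain ⟨n, hn⟩ := exists_pow_mul_eq_zero_of_res_basicOpen_eq_zero_of_isAffineOpen (Z' i) hPτ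
      _ _ H0
    refine ⟨n, ?_⟩
    change (m i).appLE P ((c i) ⁻¹ᵁ T ⊓ (m i) ⁻¹ᵁ P) inf_le_right (h ^ n * e) = 0
    rw [map_mul, map_pow]
    exact hn
  obtain ⟨n, hn⟩ := hsep h e hτ
  have h1 := congrArg (X'.presheaf.map (homOfLE (X'.basicOpen_le h)).op) hn
  rw [map_mul, map_pow, map_zero] at h1
  have h2 := (hu.pow n).mul_right_eq_zero.mp h1
  rw [h2] at hek'
  exact (hu.pow k).mul_left_eq_zero.mp hek'

end charts


section field
open Groth.Agent.Lib.R2H3.SepField Groth.Agent.Lib.R2H3.SepFieldGeo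

variable {k : Type u} [Field k] {K : CommRingCat.{u}} (e : CommRingCat.of k ≅ K)
  {X S' Y : Scheme.{u}} {a : Y ⟶ X} {b : Y ⟶ S'} {p : X ⟶ Spec K} {q : S' ⟶ Spec K}

include e in
/-- in a pullback square over the spectrum of a field, the projection to `X` has enough separating
charts. -/
theorem hasSepCharts_of_isPullback_field (Hpb : IsPullback a b p q) : HasSepCharts a := by
  intro W x' hx'
  obtain ⟨V, hV, hxV, -⟩ := exists_isAffineOpen_mem_and_subset (x := a x')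
    (U := ⊤) trivial
  obtain ⟨T, hT, hxT, -⟩ := exists_isAffineOpen_mem_and_subset (x := b x')
    (U := ⊤) trivial
  have hW0 : IsAffineOpen (⊤ : (Spec K).Opens) := isAffineOpen_top _
  have hVW : V ≤ p ⁻¹ᵁ ⊤ := fun _ _ => trivial
  have hTW : T ≤ q ⁻¹ᵁ ⊤ := fun _ _ => trivial
  have hP : IsAffineOpen (a ⁻¹ᵁ V ⊓ b ⁻¹ᵁ T) :=
    Groth.Agent.Lib.R2H3.ProdChart.isAffineOpen_inf Hpb hW0 hV hT hVW hTW
  have Hpo := Groth.Agent.Lib.R2H3.ProdChart.isPushout_appLE Hpb hW0 hV hT hVW hTW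
  have hE := indFPPure_of_isPushout_cat (k := k) (e ≪≫ (Scheme.ΓSpecIso K).symm)
    _ _ _ _ Hpo
  obtain ⟨h, hhle, hxh⟩ := hP.exists_basicOpen_le
    (V := (a ⁻¹ᵁ V ⊓ b ⁻¹ᵁ T) ⊓ W) ⟨x', ⟨⟨hxV, hxT⟩, hx'⟩⟩
    ⟨hxV, hxT⟩
  have hUle : Y.basicOpen h ≤ a ⁻¹ᵁ V :=
    (hhle.trans inf_le_left).trans inf_le_left
  refine ⟨V, Y.basicOpen h, hV, hP.basicOpen h, hUle, hxh, hhle.trans inf_le_right, ?_⟩
  letI := (a.appLE V (a ⁻¹ᵁ V ⊓ b ⁻¹ᵁ T) inf_le_left).hom.toAlgebra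
  letI := (a.appLE V (Y.basicOpen h) hUle).hom.toAlgebra
  haveI : IsScalarTower Γ(X, V) Γ(Y, a ⁻¹ᵁ V ⊓ b ⁻¹ᵁ T)
      Γ(Y, Y.basicOpen h) := IsScalarTower.of_algebraMap_eq (fun r => by
    change (a.appLE V (Y.basicOpen h) hUle).hom r =
      (Y.presheaf.map (homOfLE (Y.basicOpen_le h)).op).hom
        ((a.appLE V _ inf_le_left).hom r)
    rw [← CommRingCat.comp_apply, Scheme.Hom.appLE_map])
  haveI : IsLocalization.Away h Γ(Y, Y.basicOpen h) :=
    hP.isLocalization_basicOpen h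
  intro ι M _ _ N _ _ f hf t ht
  exact eq_zero_of_indFPPure_away f hE h hf t ht

end field


section fibreL
variable {X S : Scheme.{u}} (p : X ⟶ S) {ι : Type u} (Z : ι → Scheme.{u}) (f : ∀ i, Z i ⟶ X)

/-- the base change of the family along `g`. -/
noncomputable abbrev bcMap {S' : Scheme.{u}} (g : S' ⟶ S) (i : ι) :
    pullback (f i ≫ p) g ⟶ pullback p g :=
  pullback.map (f i ≫ p) g p g (f i) (𝟙 S') (𝟙 S) (Category.comp_id _)
    ((Category.comp_id _).trans (Category.id_comp _).symm)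

theorem bcMap_fst {S' : Scheme.{u}} (g : S' ⟶ S) (i : ι) :
    bcMap p Z f g i ≫ pullback.fst p g = pullback.fst (f i ≫ p) g ≫ f i :=
  pullback.lift_fst _ _ _

theorem bcMap_snd {S' : Scheme.{u}} (g : S' ⟶ S) (i : ι) :
    bcMap p Z f g i ≫ pullback.snd p g = pullback.snd (f i ≫ p) g :=
  (pullback.lift_snd _ _ _).trans (Category.comp_id _)

theorem isPullback_bcMap {S' : Scheme.{u}} (g : S' ⟶ S) (i : ι) :
    IsPullback (pullback.fst (f i ≫ p) g) (bcMap p Z f g i) (f i) (pullback.fst p g) := by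
  have A := (IsPullback.of_hasPullback (f i ≫ p) g).flip
  have B := (IsPullback.of_hasPullback p g).flip
  rw [← bcMap_snd p Z f g i] at A
  exact (IsPullback.of_right A (bcMap_fst p Z f g i) B).flip

theorem fiberMap_eq (s : S) (i : ι) :
    MoreMor.fiberMap (f i) p s = bcMap p Z f (S.fromSpecResidueField s) i := by
  apply pullback.hom_ext
  · exact (pullback.lift_fst _ _ _).trans (bcMap_fst p Z f (S.fromSpecResidueField s) i).symm
  · exact (pullback.lift_snd _ _ _).trans (bcMap_snd p Z f (S.fromSpecResidueField s) i).symm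

/-- comparison of base changes along `ψ ≫ g` and `g`. -/
noncomputable abbrev cmp {S' S'' : Scheme.{u}} (g : S' ⟶ S) (ψ : S'' ⟶ S') (ℓ : S'' ⟶ S)
    (hψ : ψ ≫ g = ℓ) {Y : Scheme.{u}} (q : Y ⟶ S) : pullback q ℓ ⟶ pullback q g :=
  pullback.lift (pullback.fst q ℓ) (pullback.snd q ℓ ≫ ψ)
    (by rw [pullback.condition, Category.assoc, hψ])

theorem isPullback_cmp {S' S'' : Scheme.{u}} (g : S' ⟶ S) (ψ : S'' ⟶ S') (ℓ : S'' ⟶ S)
    (hψ : ψ ≫ g = ℓ) {Y : Scheme.{u}} (q : Y ⟶ S) :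
    IsPullback (cmp g ψ ℓ hψ q) (pullback.snd q ℓ) (pullback.snd q g) ψ := by
  have A : IsPullback (cmp g ψ ℓ hψ q ≫ pullback.fst q g) (pullback.snd q ℓ) q (ψ ≫ g) := by
    rw [hψ]
    have : cmp g ψ ℓ hψ q ≫ pullback.fst q g = pullback.fst q ℓ := pullback.lift_fst _ _ _
    rw [this]
    exact IsPullback.of_hasPullback q ℓ
  exact IsPullback.of_right A (pullback.lift_snd _ _ _) (IsPullback.of_hasPullback q g)

theorem isPullback_cmp_bcMap {S' S'' : Scheme.{u}} (g : S' ⟶ S) (ψ : S'' ⟶ S') (ℓ : S'' ⟶ S)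
    (hψ : ψ ≫ g = ℓ) (i : ι) :
    IsPullback (cmp g ψ ℓ hψ (f i ≫ p)) (bcMap p Z f ℓ i) (bcMap p Z f g i)
      (cmp g ψ ℓ hψ p) := by
  have e1 : cmp g ψ ℓ hψ (f i ≫ p) ≫ pullback.fst (f i ≫ p) g = pullback.fst (f i ≫ p) ℓ :=
    pullback.lift_fst _ _ _
  have e2 : cmp g ψ ℓ hψ p ≫ pullback.fst p g = pullback.fst p ℓ := pullback.lift_fst _ _ _
  have A : IsPullback (cmp g ψ ℓ hψ (f i ≫ p) ≫ pullback.fst (f i ≫ p) g) (bcMap p Z f ℓ i)
      (f i) (cmp g ψ ℓ hψ p ≫ pullback.fst p g) := by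
    rw [e1, e2]
    exact isPullback_bcMap p Z f ℓ i
  refine IsPullback.of_right A ?_ (isPullback_bcMap p Z f g i)
  apply pullback.hom_ext
  · rw [Category.assoc, bcMap_fst, ← Category.assoc, e1, Category.assoc, e2, bcMap_fst]
  · have e3 : cmp g ψ ℓ hψ (f i ≫ p) ≫ pullback.snd (f i ≫ p) g =
        pullback.snd (f i ≫ p) ℓ ≫ ψ := pullback.lift_snd _ _ _
    have e4 : cmp g ψ ℓ hψ p ≫ pullback.snd p g = pullback.snd p ℓ ≫ ψ := pullback.lift_snd _ _ _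
    rw [Category.assoc, bcMap_snd, e3, Category.assoc, e4, ← Category.assoc, bcMap_snd]

/-- if all fibre families are schematically dominant, so is every base change to the spectrum
of a field. -/
theorem schDominant_field
    (hB : ∀ s : S, ∀ (V : (p.fiber s).Opens) (t : Γ(p.fiber s, V)),
      (∀ i, (MoreMor.fiberMap (f i) p s).app V t = 0) → t = 0)
    (L : Type u) [Field L] (ℓ : Spec (CommRingCat.of L) ⟶ S)
    (V : (pullback p ℓ).Opens) (t : Γ(pullback p ℓ, V))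
    (ht : ∀ i, (bcMap p Z f ℓ i).app V t = 0) : t = 0 := by
  have hψ : Spec.map (Scheme.descResidueField (Scheme.stalkClosedPointTo ℓ)) ≫
      S.fromSpecResidueField (ℓ (IsLocalRing.closedPoint L)) = ℓ :=
    Scheme.descResidueField_stalkClosedPointTo_fromSpecResidueField L S ℓ
  have hg : Groth.Agent.Lib.R2H3.SepFieldGeo.HasSepCharts
      (cmp (S.fromSpecResidueField (ℓ (IsLocalRing.closedPoint L))) _ ℓ hψ p) :=
    hasSepCharts_of_isPullback_field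
      (k := S.residueField (ℓ (IsLocalRing.closedPoint L))) (Iso.refl _)
      (isPullback_cmp (S.fromSpecResidueField (ℓ (IsLocalRing.closedPoint L))) _ ℓ hψ p)
  refine Groth.Agent.Lib.R2H3.SepFieldGeo.schDominant_of_hasSepCharts hg
    (fun i => pullback (f i ≫ p) (S.fromSpecResidueField (ℓ (IsLocalRing.closedPoint L))))
    (fun i => pullback (f i ≫ p) ℓ)
    (fun i => bcMap p Z f (S.fromSpecResidueField (ℓ (IsLocalRing.closedPoint L))) i)
    (fun i => cmp (S.fromSpecResidueField (ℓ (IsLocalRing.closedPoint L))) _ ℓ hψ (f i ≫ p))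
    (fun i => bcMap p Z f ℓ i)
    (fun i => isPullback_cmp_bcMap p Z f _ _ ℓ hψ i) ?_ V t ht
  intro V₀ t₀ ht₀
  refine hB (ℓ (IsLocalRing.closedPoint L)) V₀ t₀ (fun i => ?_)
  rw [fiberMap_eq]
  exact ht₀ i

end fibreL


section assembly
variable {X S : Scheme.{u}} (p : X ⟶ S) {ι : Type u} (Z : ι → Scheme.{u}) (f : ∀ i, Z i ⟶ X)

/-- chart dictionary: local separation of the chart maps of the base-changed family is local
separation in the tensor model. -/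
theorem chart_iff {S' : Scheme.{u}} (g : S' ⟶ S) {W : S.Opens} {W' : S'.Opens} {U : X.Opens}
    (hW : IsAffineOpen W) (hW' : IsAffineOpen W') (hU : IsAffineOpen U) (hUle : U ≤ p ⁻¹ᵁ W)
    (hW'le : W' ≤ g ⁻¹ᵁ W) {A' : Type u} [CommRing A'] [Algebra Γ(S, W) A']
    (eA : CommRingCat.of A' ≅ Γ(S', W'))
    (heA : CommRingCat.ofHom (algebraMap Γ(S, W) A') ≫ eA.hom = g.appLE W W' hW'le) :
    letI : Algebra Γ(S, W) Γ(X, U) := (p.appLE W U hUle).hom.toAlgebra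
    letI : ∀ τ : Idx f U, Algebra Γ(S, W) Γ(Z τ.1, τ.2.1) := fun τ =>
      ((p.appLE W U hUle) ≫ (f τ.1).appLE U τ.2.1 τ.2.2.2).hom.toAlgebra
    RingLocSep (chartHom f (fun i => pullback.fst (f i ≫ p) g) (fun i => bcMap p Z f g i)
      ((pullback.fst p g) ⁻¹ᵁ U ⊓ (pullback.snd p g) ⁻¹ᵁ W') (U := U)) ↔
    RingLocSep (fun τ : Idx f U => (Algebra.TensorProduct.map (AlgHom.id Γ(S, W) A')
      (⟨((f τ.1).appLE U τ.2.1 τ.2.2.2).hom, fun _ => rfl⟩ :
        Γ(X, U) →ₐ[Γ(S, W)] Γ(Z τ.1, τ.2.1))).toRingHom) := by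
  letI : Algebra Γ(S, W) Γ(X, U) := (p.appLE W U hUle).hom.toAlgebra
  letI : ∀ τ : Idx f U, Algebra Γ(S, W) Γ(Z τ.1, τ.2.1) := fun τ =>
    ((p.appLE W U hUle) ≫ (f τ.1).appLE U τ.2.1 τ.2.2.2).hom.toAlgebra
  have Hpb := IsPullback.of_hasPullback p g
  have hP : IsAffineOpen ((pullback.fst p g) ⁻¹ᵁ U ⊓ (pullback.snd p g) ⁻¹ᵁ W') :=
    Groth.Agent.Lib.R2H3.ProdChart.isAffineOpen_inf Hpb hW hU hW' hUle hW'le
  have Hpo := Groth.Agent.Lib.R2H3.ProdChart.isPushout_appLE Hpb hW hU hW' hUle hW'le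
  have H1 : IsPushout (CommRingCat.ofHom (algebraMap Γ(S, W) Γ(X, U)))
      (CommRingCat.ofHom (algebraMap Γ(S, W) A'))
      ((pullback.fst p g).appLE U ((pullback.fst p g) ⁻¹ᵁ U ⊓ (pullback.snd p g) ⁻¹ᵁ W')
        inf_le_left)
      (eA.hom ≫ (pullback.snd p g).appLE W'
        ((pullback.fst p g) ⁻¹ᵁ U ⊓ (pullback.snd p g) ⁻¹ᵁ W') inf_le_right) := by
    refine IsPushout.of_iso Hpo (Iso.refl _) (Iso.refl _) eA.symm (Iso.refl _) ?_ ?_ ?_ ?_
    · simp only [Iso.refl_hom, Category.comp_id, Category.id_comp]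
      rfl
    · rw [Iso.refl_hom, Category.id_comp, Iso.symm_hom, ← heA, Category.assoc, Iso.hom_inv_id,
        Category.comp_id]
    · simp
    · simp
  exact ringLocSep_tensor_iff (A := Γ(S, W)) (R := Γ(X, U)) (A' := A') _ _ H1
    (fun τ : Idx f U => (⟨((f τ.1).appLE U τ.2.1 τ.2.2.2).hom, fun _ => rfl⟩ :
        Γ(X, U) →ₐ[Γ(S, W)] Γ(Z τ.1, τ.2.1)))
    (fun τ => Γ(pullback (f τ.1 ≫ p) g,
      chartOpen f (fun i => pullback.fst (f i ≫ p) g) (fun i => bcMap p Z f g i)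
        ((pullback.fst p g) ⁻¹ᵁ U ⊓ (pullback.snd p g) ⁻¹ᵁ W') τ))
    (fun τ => (pullback.fst (f τ.1 ≫ p) g).appLE τ.2.1 _ inf_le_left)
    (fun τ => (bcMap p Z f g τ.1).appLE _ _ inf_le_right)
    (fun τ => Groth.Agent.Lib.R2H3.ProdChart.isPushout_appLE (isPullback_bcMap p Z f g τ.1) hU
      τ.2.2.1 hP τ.2.2.2 inf_le_left)

end assembly


section main
variable {X S : Scheme.{u}} [IsLocallyNoetherian X] (p : X ⟶ S) {ι : Type u} (Z : ι → Scheme.{u})
  (f : ∀ i, Z i ⟶ X) [∀ i, Flat (f i ≫ p)]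

theorem appLE_top_spec {L : Type u} [Field L] {W : S.Opens} (hW : IsAffineOpen W)
    (φ : Γ(S, W) ⟶ CommRingCat.of L)
    (hle : (⊤ : (Spec (CommRingCat.of L)).Opens) ≤ (Spec.map φ ≫ hW.fromSpec) ⁻¹ᵁ W) :
    φ ≫ (Scheme.ΓSpecIso (CommRingCat.of L)).inv =
      (Spec.map φ ≫ hW.fromSpec).appLE W ⊤ hle := by
  have h1 := IsAffineOpen.SpecMap_appLE_fromSpec (Spec.map φ ≫ hW.fromSpec) hW
    (isAffineOpen_top _) hle
  rw [IsAffineOpen.fromSpec_top, Scheme.isoSpec_Spec_inv, ← Category.assoc,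
    cancel_mono, ← Spec.map_comp] at h1
  exact (Spec.map_injective h1).symm

include p Z f in
/-- the chart-level statement: local separation after an arbitrary base change follows from
schematic dominance after base change to fields. -/
theorem ringLocSep_chart
    (hL : ∀ (L : Type u) [Field L] (ℓ : Spec (CommRingCat.of L) ⟶ S) (V : (pullback p ℓ).Opens)
      (t : Γ(pullback p ℓ, V)), (∀ i, (bcMap p Z f ℓ i).app V t = 0) → t = 0)
    {S' : Scheme.{u}} (g : S' ⟶ S) {W : S.Opens} {W' : S'.Opens} {U : X.Opens}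
    (hW : IsAffineOpen W) (hW' : IsAffineOpen W') (hU : IsAffineOpen U) (hUle : U ≤ p ⁻¹ᵁ W)
    (hW'le : W' ≤ g ⁻¹ᵁ W) :
    RingLocSep (chartHom f (fun i => pullback.fst (f i ≫ p) g) (fun i => bcMap p Z f g i)
      ((pullback.fst p g) ⁻¹ᵁ U ⊓ (pullback.snd p g) ⁻¹ᵁ W') (U := U)) := by
  letI : Algebra Γ(S, W) Γ(X, U) := (p.appLE W U hUle).hom.toAlgebra
  letI : ∀ τ : Idx f U, Algebra Γ(S, W) Γ(Z τ.1, τ.2.1) := fun τ =>
    ((p.appLE W U hUle) ≫ (f τ.1).appLE U τ.2.1 τ.2.2.2).hom.toAlgebra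
  letI : Algebra Γ(S, W) Γ(S', W') := (g.appLE W W' hW'le).hom.toAlgebra
  haveI : IsNoetherianRing Γ(X, U) := IsLocallyNoetherian.component_noetherian ⟨U, hU⟩
  haveI : ∀ τ : Idx f U, Module.Flat Γ(S, W) Γ(Z τ.1, τ.2.1) := fun τ => by
    have h1 := HasRingHomProperty.appLE (P := @Flat) (f τ.1 ≫ p) inferInstance ⟨W, hW⟩
      ⟨τ.2.1, τ.2.2.1⟩ (τ.2.2.2.trans ((f τ.1).preimage_mono hUle))
    rw [← Scheme.Hom.appLE_comp_appLE (f τ.1) p W U τ.2.1 hUle τ.2.2.2] at h1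
    exact h1
  rw [chart_iff p Z f g hW hW' hU hUle hW'le (A' := Γ(S', W')) (Iso.refl _) rfl]
  refine ringLocSep_baseChange (fun τ : Idx f U =>
    (⟨((f τ.1).appLE U τ.2.1 τ.2.2.2).hom, fun _ => rfl⟩ :
        Γ(X, U) →ₐ[Γ(S, W)] Γ(Z τ.1, τ.2.1))) (fun L _ _ => ?_) Γ(S', W')
  have hle : (⊤ : (Spec (CommRingCat.of L)).Opens) ≤
      (Spec.map (CommRingCat.ofHom (algebraMap Γ(S, W) L)) ≫ hW.fromSpec) ⁻¹ᵁ W := by
    intro x _
    change hW.fromSpec _ ∈ W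
    have := hW.range_fromSpec
    exact this.le ⟨_, rfl⟩
  rw [← chart_iff p Z f (Spec.map (CommRingCat.ofHom (algebraMap Γ(S, W) L)) ≫ hW.fromSpec) hW
    (isAffineOpen_top _) hU hUle hle (A' := L) (Scheme.ΓSpecIso (CommRingCat.of L)).symm
    (appLE_top_spec hW _ hle)]
  have Hpb := IsPullback.of_hasPullback p
    (Spec.map (CommRingCat.ofHom (algebraMap Γ(S, W) L)) ≫ hW.fromSpec)
  have hP := Groth.Agent.Lib.R2H3.ProdChart.isAffineOpen_inf Hpb hW hU (isAffineOpen_top _)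
    hUle hle
  exact ringLocSep_of_schDominant (fun i => (isPullback_bcMap p Z f _ i).w) (hL L _) hP
    inf_le_left

include p Z f in
/-- if the family is schematically dominant after every base change to the spectrum of a field,
it is so after every base change. -/
theorem schDominant_baseChange
    (hL : ∀ (L : Type u) [Field L] (ℓ : Spec (CommRingCat.of L) ⟶ S) (V : (pullback p ℓ).Opens)
      (t : Γ(pullback p ℓ, V)), (∀ i, (bcMap p Z f ℓ i).app V t = 0) → t = 0)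
    {S' : Scheme.{u}} (g : S' ⟶ S) (V : (pullback p g).Opens) (t : Γ(pullback p g, V))
    (ht : ∀ i, (bcMap p Z f g i).app V t = 0) : t = 0 := by
  refine schDominant_of_ringLocSep (g := pullback.fst p g) (f := f)
    (c := fun i => pullback.fst (f i ≫ p) g) (m := fun i => bcMap p Z f g i)
    (fun i => isPullback_bcMap p Z f g i) (fun x' => ?_) V t ht
  obtain ⟨W, hW, hxW, -⟩ := exists_isAffineOpen_mem_and_subset
    (x := p (pullback.fst p g x')) (U := ⊤) trivial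
  have hx1 : pullback.snd p g x' ∈ g ⁻¹ᵁ W := by
    change g (pullback.snd p g x') ∈ W
    rw [← Scheme.Hom.comp_apply, ← pullback.condition, Scheme.Hom.comp_apply]
    exact hxW
  obtain ⟨W', hW', hxW', hW'le0⟩ := exists_isAffineOpen_mem_and_subset
    (x := pullback.snd p g x') (U := g ⁻¹ᵁ W) hx1
  have hW'le : W' ≤ g ⁻¹ᵁ W := hW'le0
  have hx2 : pullback.fst p g x' ∈ p ⁻¹ᵁ W := hxW
  obtain ⟨U, hU, hxU, hUle0⟩ := exists_isAffineOpen_mem_and_subset
    (x := pullback.fst p g x') (U := p ⁻¹ᵁ W) hx2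
  have hUle : U ≤ p ⁻¹ᵁ W := hUle0
  have Hpb := IsPullback.of_hasPullback p g
  have hP : IsAffineOpen ((pullback.fst p g) ⁻¹ᵁ U ⊓ (pullback.snd p g) ⁻¹ᵁ W') :=
    Groth.Agent.Lib.R2H3.ProdChart.isAffineOpen_inf Hpb hW hU hW' hUle hW'le
  exact ⟨U, _, hU, hP, inf_le_left, ⟨hxU, hxW'⟩,
    ringLocSep_chart p Z f hL g hW hW' hU hUle hW'le⟩

end main

end Groth.Agent.Lib.R2H3.FibCritGeo
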