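import Mathlib

/-!
# The Weil restriction algebra along a finite projective algebra

For a commutative ring `A`, an `A`-algebra `B` with a finite dual basis `(e i, lam i)` (i.e. `B` is
finite projective), and an `A`-algebra `C`, we construct an `A`-algebra `R = WR D C` with an
`A`-algebra map `PhiBar : C → R ⊗_A B` such that for every `A`-algebra `A'` the map
`Hom_A(R, A') → Hom_A(C, A' ⊗_A B)`, `α ↦ (α ⊗ id) ∘ PhiBar`, is bijective.
(Generalisation of `R2H3WeilAlg` from finite free to finite projective.)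
-/

universe u

set_option linter.unusedSectionVars false

namespace Groth.Agent.Lib.R2H3.WeilAlgP

open TensorProduct

/-- a finite dual basis of an algebra (as a module). -/
structure DualBasis (ι : Type u) [Fintype ι] (A B : Type u) [CommRing A] [CommRing B]
    [Algebra A B] where
  /-- the vectors -/
  e : ι → B
  /-- the functionals -/
  lam : ι → B →ₗ[A] A
  hel : ∀ b, ∑ i, lam i b • e i = b

variable {A : Type u} [CommRing A] {B : Type u} [CommRing B] [Algebra A B]
  {ι : Type u} [Fintype ι] [DecidableEq ι] (D : DualBasis ι A B)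

section Coord

variable (A' : Type u) [CommRing A'] [Algebra A A']

/-- the `k`-th coordinate of an element of `A' ⊗ B` with respect to the dual basis. -/
noncomputable def crd (k : ι) : A' ⊗[A] B →ₗ[A'] A' :=
  (Algebra.TensorProduct.rid A A' A').toLinearMap.comp (LinearMap.baseChange A' (D.lam k))

lemma crd_tmul (k : ι) (a' : A') (b : B) :
    crd D A' k (a' ⊗ₜ b) = a' * algebraMap A A' (D.lam k b) := by
  simp [crd, Algebra.smul_def, mul_comm]

lemma sum_crd (d : A' ⊗[A] B) : ∑ k, crd D A' k d ⊗ₜ[A] D.e k = d := by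
  induction d using TensorProduct.induction_on with
  | zero => simp
  | tmul a' b =>
    have h1 : ∀ k, crd D A' k (a' ⊗ₜ b) ⊗ₜ[A] D.e k = a' ⊗ₜ[A] (D.lam k b • D.e k) := by
      intro k
      rw [crd_tmul, mul_comm, ← Algebra.smul_def, TensorProduct.smul_tmul]
    simp only [h1]
    rw [← TensorProduct.tmul_sum, D.hel]
  | add x y hx hy =>
    simp only [map_add, TensorProduct.add_tmul, Finset.sum_add_distrib, hx, hy]

lemma eq_zero_of_crd (d : A' ⊗[A] B) (h : ∀ k, crd D A' k d = 0) : d = 0 := by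
  rw [← sum_crd D A' d]
  simp [h]

variable {A'}

lemma crd_map {P' : Type u} [CommRing P'] [Algebra A P'] (g : P' →ₐ[A] A') (k : ι)
    (d : P' ⊗[A] B) :
    crd D A' k (Algebra.TensorProduct.map g (AlgHom.id A B) d) = g (crd D P' k d) := by
  induction d using TensorProduct.induction_on with
  | zero => simp
  | tmul p b => simp [crd_tmul]
  | add x y hx hy => simp only [map_add, hx, hy]

end Coord

section Phi

variable {C : Type u} [CommRing C] [Algebra A C]
variable {A' : Type u} [CommRing A'] [Algebra A A']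

/-- the map `C → A' ⊗ B` with coordinates `x`. -/
noncomputable def phi (x : C × ι → A') (c : C) : A' ⊗[A] B := ∑ i, x (c, i) ⊗ₜ[A] D.e i

lemma map_phi {P' : Type u} [CommRing P'] [Algebra A P'] (g : P' →ₐ[A] A') (x : C × ι → P')
    (c : C) :
    Algebra.TensorProduct.map g (AlgHom.id A B) (phi D x c) = phi D (fun p => g (x p)) c := by
  simp [phi]

lemma phi_crd (ψ : C → A' ⊗[A] B) (c : C) :
    phi D (fun p => crd D A' p.2 (ψ p.1)) c = ψ c :=
  sum_crd D A' (ψ c)

/-- the defects of `phi x` from being an algebra homomorphism. -/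
def Defect (x : C × ι → A') (d : A' ⊗[A] B) : Prop :=
  (∃ c c', d = phi D x (c + c') - phi D x c - phi D x c') ∨
  (∃ c c', d = phi D x (c * c') - phi D x c * phi D x c') ∨
  (∃ a : A, d = phi D x (algebraMap A C a) - algebraMap A (A' ⊗[A] B) a)

lemma defect_comp {P' : Type u} [CommRing P'] [Algebra A P'] (g : P' →ₐ[A] A') (x : C × ι → P')
    (d' : A' ⊗[A] B) (h : Defect D (fun p => g (x p)) d') :
    ∃ d₀, Defect D x d₀ ∧ d' = Algebra.TensorProduct.map g (AlgHom.id A B) d₀ := by
  rcases h with ⟨c, c', rfl⟩ | ⟨c, c', rfl⟩ | ⟨a, rfl⟩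
  · exact ⟨_, Or.inl ⟨c, c', rfl⟩, by simp only [map_sub, map_phi]⟩
  · exact ⟨_, Or.inr (Or.inl ⟨c, c', rfl⟩), by simp only [map_sub, map_mul, map_phi]⟩
  · exact ⟨_, Or.inr (Or.inr ⟨a, rfl⟩), by simp only [map_sub, map_phi, AlgHom.commutes]⟩

/-- if all defects vanish, `phi x` is an algebra homomorphism. -/
noncomputable def homOfDefect (x : C × ι → A') (h : ∀ d, Defect D x d → d = 0) :
    C →ₐ[A] A' ⊗[A] B where
  toFun := phi D x
  map_one' := by
    have := h _ (Or.inr (Or.inr ⟨1, rfl⟩))
    rw [sub_eq_zero, map_one, map_one] at this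
    exact this
  map_mul' c c' := by
    have := h _ (Or.inr (Or.inl ⟨c, c', rfl⟩))
    rwa [sub_eq_zero] at this
  map_zero' := by
    have := h _ (Or.inr (Or.inr ⟨0, rfl⟩))
    rw [sub_eq_zero, map_zero, map_zero] at this
    exact this
  map_add' c c' := by
    have := h _ (Or.inl ⟨c, c', rfl⟩)
    rwa [sub_sub, sub_eq_zero] at this
  commutes' a := by
    have := h _ (Or.inr (Or.inr ⟨a, rfl⟩))
    rwa [sub_eq_zero] at this

lemma homOfDefect_apply (x : C × ι → A') (h : ∀ d, Defect D x d → d = 0) (c : C) :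
    homOfDefect D x h c = phi D x c := rfl

lemma defect_of_hom (ψ : C →ₐ[A] A' ⊗[A] B) (d : A' ⊗[A] B)
    (h : Defect D (fun p => crd D A' p.2 (ψ p.1)) d) : d = 0 := by
  rcases h with ⟨c, c', rfl⟩ | ⟨c, c', rfl⟩ | ⟨a, rfl⟩
  · simp only [phi_crd D (fun c => ψ c), map_add]
    abel
  · simp only [phi_crd D (fun c => ψ c), map_mul, sub_self]
  · simp only [phi_crd D (fun c => ψ c), AlgHom.commutes, sub_self]

end Phi

section WR

variable (C : Type u) [CommRing C] [Algebra A C]

/-- the polynomial ring on the coordinates. -/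
abbrev Pol : Type u := MvPolynomial (C × ι) A

/-- the universal coordinates. -/
noncomputable def Xc : C × ι → Pol (ι := ι) (A := A) C := fun p => MvPolynomial.X p

/-- the ideal of coordinates of defects and of the coordinate relations. -/
noncomputable def J : Ideal (Pol (ι := ι) (A := A) C) :=
  Ideal.span ({p | ∃ d, Defect D (Xc C) d ∧ ∃ k, p = crd D (Pol (ι := ι) (A := A) C) k d} ∪
    {p | ∃ c k, p = Xc C (c, k) - crd D (Pol (ι := ι) (A := A) C) k (phi D (Xc C) c)})

/-- the Weil restriction algebra. -/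
abbrev WR : Type u := Pol (ι := ι) (A := A) C ⧸ J D C

/-- the quotient map. -/
noncomputable def mkW : Pol (ι := ι) (A := A) C →ₐ[A] WR D C :=
  Ideal.Quotient.mkₐ A (J D C)

lemma defect_mk_zero (d : WR D C ⊗[A] B)
    (h : Defect D (fun p => mkW D C (Xc C p)) d) : d = 0 := by
  obtain ⟨d₀, hd₀, rfl⟩ := defect_comp D (mkW D C) (Xc C) d h
  apply eq_zero_of_crd D _
  intro k
  rw [crd_map]
  exact Ideal.Quotient.eq_zero_iff_mem.mpr (Ideal.subset_span (Or.inl ⟨d₀, hd₀, k, rfl⟩))

/-- the universal homomorphism `C → WR ⊗ B`. -/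
noncomputable def PhiBar : C →ₐ[A] WR D C ⊗[A] B :=
  homOfDefect D (fun p => mkW D C (Xc C p)) (defect_mk_zero D C)

lemma crd_PhiBar (c : C) (k : ι) :
    crd D (WR D C) k (PhiBar D C c) = mkW D C (Xc C (c, k)) := by
  rw [PhiBar, homOfDefect_apply, ← map_phi, crd_map]
  symm
  rw [← sub_eq_zero, ← map_sub]
  exact Ideal.Quotient.eq_zero_iff_mem.mpr (Ideal.subset_span (Or.inr ⟨c, k, rfl⟩))

variable {C}
variable {A' : Type u} [CommRing A'] [Algebra A A']

/-- the comparison map of the universal property. -/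
noncomputable def toHom (α : WR D C →ₐ[A] A') : C →ₐ[A] A' ⊗[A] B :=
  (Algebra.TensorProduct.map α (AlgHom.id A B)).comp (PhiBar D C)

lemma toHom_apply (α : WR D C →ₐ[A] A') (c : C) :
    toHom D α c = Algebra.TensorProduct.map α (AlgHom.id A B) (PhiBar D C c) := rfl

lemma crd_toHom (α : WR D C →ₐ[A] A') (c : C) (k : ι) :
    crd D A' k (toHom D α c) = α (mkW D C (Xc C (c, k))) := by
  rw [toHom_apply, crd_map, crd_PhiBar]

theorem toHom_injective : Function.Injective (toHom (C := C) (A' := A') D) := by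
  intro α α' h
  apply Ideal.Quotient.algHom_ext
  apply MvPolynomial.algHom_ext
  rintro ⟨c, k⟩
  have h1 := crd_toHom D α c k
  have h2 := crd_toHom D α' c k
  rw [h] at h1
  exact h1.symm.trans h2

theorem toHom_surjective : Function.Surjective (toHom (C := C) (A' := A') D) := by
  intro ψ
  let x : C × ι → A' := fun p => crd D A' p.2 (ψ p.1)
  let g : Pol (ι := ι) (A := A) C →ₐ[A] A' := MvPolynomial.aeval x
  have hgx : (fun p => g (Xc C p)) = x := by
    funext p
    simp [g, Xc]
  have hg : ∀ p ∈ J D C, g p = 0 := by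
    intro p hp
    refine Submodule.span_induction (p := fun p _ => g p = 0) ?_ (map_zero _)
      (fun a b _ _ ha hb => by rw [map_add, ha, hb, add_zero])
      (fun a b _ hb => by rw [smul_eq_mul, map_mul, hb, mul_zero]) hp
    rintro _ (⟨d, hd, k, rfl⟩ | ⟨c, k, rfl⟩)
    · rw [← crd_map]
      have hd' : Defect D x (Algebra.TensorProduct.map g (AlgHom.id A B) d) := by
        rw [← hgx]
        rcases hd with ⟨c, c', rfl⟩ | ⟨c, c', rfl⟩ | ⟨a, rfl⟩
        · exact Or.inl ⟨c, c', by simp only [map_sub, map_phi]⟩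
        · exact Or.inr (Or.inl ⟨c, c', by simp only [map_sub, map_mul, map_phi]⟩)
        · exact Or.inr (Or.inr ⟨a, by simp only [map_sub, map_phi, AlgHom.commutes]⟩)
      rw [defect_of_hom D ψ _ hd', map_zero]
    · rw [map_sub, ← crd_map, map_phi, hgx, phi_crd D (fun c => ψ c), sub_eq_zero]
      exact congrFun hgx (c, k)
  let α : WR D C →ₐ[A] A' := Ideal.Quotient.liftₐ (J D C) g hg
  refine ⟨α, ?_⟩
  apply AlgHom.ext
  intro c
  apply sub_eq_zero.mp
  apply eq_zero_of_crd D _
  intro k
  rw [map_sub, crd_toHom, sub_eq_zero]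
  show g (Xc C (c, k)) = _
  rw [congrFun hgx (c, k)]

theorem toHom_bijective : Function.Bijective (toHom (C := C) (A' := A') D) :=
  ⟨toHom_injective D, toHom_surjective D⟩

end WR

/-- a finite projective algebra has a finite dual basis. -/
theorem exists_dualBasis (A B : Type u) [CommRing A] [CommRing B] [Algebra A B]
    [Module.Finite A B] [Module.Projective A B] :
    ∃ n : ℕ, Nonempty (DualBasis (ULift.{u} (Fin n)) A B) := by
  obtain ⟨n, f, g, -, -, hfg⟩ := Module.Finite.exists_comp_eq_id_of_projective A B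
  refine ⟨n, ⟨⟨fun i => f (fun j => if i.down = j then 1 else 0),
    fun i => (LinearMap.proj i.down).comp g, ?_⟩⟩⟩
  intro b
  have h1 : f (g b) = b := LinearMap.congr_fun hfg b
  have h2 := LinearMap.pi_apply_eq_sum_univ f (g b)
  rw [h1] at h2
  refine Eq.trans ?_ h2.symm
  exact Fintype.sum_equiv Equiv.ulift _ _ (fun i => rfl)

end Groth.Agent.Lib.R2H3.WeilAlgP
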