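import Mathlib
import Groth.Agent.Lib.R2H3WeilAlgP
import Groth.Agent.Lib.R2H3FibCritGeo

/-!
# The content ideal of an ideal of a finite projective algebra (helper3, round 2)

Let `B` be an `A`-algebra which is finite projective as an `A`-module and `J` an ideal of `B`.
The *content* of `J` is the ideal of `A` generated by the `φ(j)`, `φ ∈ Hom_A(B, A)`, `j ∈ J`.
It is the smallest ideal `I` of `A` with `J ⊆ I B`; more precisely, for every ring map `A → R`,
the image of `J` in `R ⊗_A B` vanishes iff the content of `J` is contained in the kernel of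
`A → R` (`tmul_eq_zero_iff`, `content_le_ker_iff`).  The content commutes with base change
(`content_map`).
-/

set_option autoImplicit false
set_option linter.style.haveILetI false
set_option linter.unusedVariables false
set_option linter.unusedSectionVars false

universe u

open CategoryTheory CategoryTheory.Limits TensorProduct

namespace Groth.Agent.Lib.R2H3.ClosedWeilAlg

section Tensor

variable {A B R : Type u} [CommRing A] [CommRing B] [CommRing R] [Algebra A B] [Algebra A R]

/-- the content of an ideal. -/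
def cont (J : Ideal B) : Ideal A :=
  Ideal.span {a | ∃ (φ : B →ₗ[A] A) (j : B), j ∈ J ∧ φ j = a}

lemma mem_cont (J : Ideal B) (φ : B →ₗ[A] A) {j : B} (hj : j ∈ J) : φ j ∈ cont (A := A) J :=
  Ideal.subset_span ⟨φ, j, hj, rfl⟩

lemma cont_le_iff (J : Ideal B) (K : Ideal A) :
    cont (A := A) J ≤ K ↔ ∀ (φ : B →ₗ[A] A) (j : B), j ∈ J → φ j ∈ K := by
  unfold cont
  rw [Ideal.span_le]
  constructor
  · intro h φ j hj
    exact h ⟨φ, j, hj, rfl⟩
  · rintro h _ ⟨φ, j, hj, rfl⟩
    exact h φ j hj

/-- **Characterisation of the content.** -/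
theorem tmul_eq_zero_iff [Module.Finite A B] [Module.Projective A B] (J : Ideal B) :
    (∀ j ∈ J, (1 : R) ⊗ₜ[A] j = 0) ↔ cont (A := A) J ≤ RingHom.ker (algebraMap A R) := by
  rw [cont_le_iff]
  constructor
  · intro h φ j hj
    rw [RingHom.mem_ker]
    have h1 := congrArg (fun t => TensorProduct.rid A R (φ.lTensor R t)) (h j hj)
    simp only [LinearMap.lTensor_tmul, TensorProduct.rid_tmul, map_zero] at h1
    rw [Algebra.algebraMap_eq_smul_one]
    exact h1
  · intro h j hj
    obtain ⟨n, ⟨D⟩⟩ := Groth.Agent.Lib.R2H3.WeilAlgP.exists_dualBasis A B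
    have hj' := D.hel j
    rw [← hj', TensorProduct.tmul_sum]
    refine Finset.sum_eq_zero (fun k _ => ?_)
    have h2 := h (D.lam k) j hj
    rw [RingHom.mem_ker, Algebra.algebraMap_eq_smul_one] at h2
    first
      | rw [TensorProduct.smul_tmul', h2, TensorProduct.zero_tmul]
      | rw [TensorProduct.tmul_smul, TensorProduct.smul_tmul', h2, TensorProduct.zero_tmul]

end Tensor

section Cat

variable {A B R C : CommRingCat.{u}} (f : A ⟶ B) (ψ : A ⟶ R) (β : B ⟶ C) (ρ : R ⟶ C)

/-- the content of an ideal of `B`, with respect to a morphism `f : A ⟶ B` of commutative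
rings. -/
def contC (J : Ideal B) : Ideal A :=
  letI := f.hom.toAlgebra
  cont (A := A) J

/-- `B` is a finite projective `A`-module through `f`. -/
def FinProj : Prop :=
  letI := f.hom.toAlgebra
  Module.Finite A B ∧ Module.Projective A B

variable {f ψ β ρ}

/-- **Characterisation of the content, for a pushout square of commutative rings.** -/
theorem contC_le_ker_iff (H : IsPushout f ψ β ρ) (hf : FinProj f) (J : Ideal B) :
    contC f J ≤ RingHom.ker ψ.hom ↔ J ≤ RingHom.ker β.hom := by
  letI := f.hom.toAlgebra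
  letI : Algebra A R := ψ.hom.toAlgebra
  haveI : Module.Finite A B := hf.1
  haveI : Module.Projective A B := hf.2
  obtain ⟨e, he⟩ := Groth.Agent.Lib.R2H3.FibCritGeo.exists_equiv_of_isPushout
    (A := A) (B := B) (A' := R) β ρ H
  have hβ : ∀ b : B, β.hom b = e ((1 : R) ⊗ₜ[A] b) := by
    intro b
    rw [he, map_one, one_mul]
  change cont (A := A) J ≤ RingHom.ker (algebraMap A R) ↔ _
  rw [← tmul_eq_zero_iff (R := R) J]
  constructor
  · intro h j hj
    rw [RingHom.mem_ker, hβ, h j hj, map_zero]
  · intro h j hj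
    have h1 := h hj
    rw [RingHom.mem_ker, hβ] at h1
    exact (map_eq_zero_iff e e.injective).mp h1

/-- **The content commutes with base change.** -/
theorem contC_map {A' B' : CommRingCat.{u}} {r : A ⟶ A'} {σ : B ⟶ B'} {f' : A' ⟶ B'}
    (H : IsPushout f r σ f') (hf : FinProj f) (hf' : FinProj f') (J : Ideal B) :
    contC f' (J.map σ.hom) = (contC f J).map r.hom := by
  have key : ∀ 𝔠 : Ideal A', (contC f J).map r.hom ≤ 𝔠 ↔ contC f' (J.map σ.hom) ≤ 𝔠 := by
    intro 𝔠
    obtain ⟨q, hq⟩ : ∃ q : A' ⟶ CommRingCat.of (A' ⧸ 𝔠),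
        q = CommRingCat.ofHom (Ideal.Quotient.mk 𝔠) := ⟨_, rfl⟩
    have hker : RingHom.ker q.hom = 𝔠 := by
      rw [hq]
      exact Ideal.mk_ker
    have H₂ : IsPushout f' q (pushout.inl f' q) (pushout.inr f' q) := IsPushout.of_hasPushout f' q
    have H₃ : IsPushout f (r ≫ q) (σ ≫ pushout.inl f' q) (pushout.inr f' q) := H.paste_vert H₂
    have e1 := contC_le_ker_iff H₂ hf' (J.map σ.hom)
    have e2 := contC_le_ker_iff H₃ hf J
    rw [hker] at e1
    rw [e1, Ideal.map_le_iff_le_comap]
    have h3 : RingHom.ker (r ≫ q).hom = 𝔠.comap r.hom := by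
      rw [CommRingCat.hom_comp, ← RingHom.comap_ker, hker]
    have h4 : RingHom.ker (σ ≫ pushout.inl f' q).hom =
        (RingHom.ker (pushout.inl f' q).hom).comap σ.hom := by
      rw [CommRingCat.hom_comp, ← RingHom.comap_ker]
    rw [h3, h4] at e2
    rw [e2, Ideal.map_le_iff_le_comap]
  exact le_antisymm ((key _).mp le_rfl) ((key _).mpr le_rfl)

/-- a variant of `contC_map`. -/
theorem contC_map' {A' B' : CommRingCat.{u}} {r : A ⟶ A'} {σ : B ⟶ B'} {f' : A' ⟶ B'}
    (H : IsPushout f r σ f') (hf : FinProj f) (hf' : FinProj f') (J : Ideal B) (J' : Ideal B')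
    (hJ : J.map σ.hom = J') :
    (contC f J).map r.hom = contC f' J' := by
  rw [← hJ, contC_map H hf hf']

end Cat

end Groth.Agent.Lib.R2H3.ClosedWeilAlg
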