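import Mathlib
import Groth.Agent.Lib.R2H3ProdChart
import Groth.Agent.Lib.R2H3ClosedWeilAlg

/-!
# Weil restriction of a closed subscheme along a finite locally free morphism
(helper3, round 2)

Let `g : Z ⟶ S` be finite, flat and of finite presentation and `𝒥` an ideal sheaf on `Z` (e.g.
the ideal of a closed subscheme `Y` of `Z`).  There is an ideal sheaf `idealW g 𝒥` on `S` such
that a morphism `a : T ⟶ S` factors through the closed subscheme of `S` it defines if and only if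
`Z ×_S T ⟶ Z` factors through `V(𝒥)` (`idealW_le_ker_iff`, `exists_closed_weil`).
-/

set_option autoImplicit false
set_option linter.style.haveILetI false
set_option linter.unusedVariables false
set_option linter.unusedSectionVars false

universe u

open CategoryTheory CategoryTheory.Limits AlgebraicGeometry
open Groth.Agent.Lib.R2H3.ClosedWeilAlg

namespace Groth.Agent.Lib.R2H3.ClosedWeil

section Res

variable {Z S : Scheme.{u}} (g : Z ⟶ S) [IsAffineHom g]

/-- for an affine morphism, the sections over the preimage of `D ⊆ U` are the base change of the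
sections over the preimage of `U`. -/
theorem isPushout_res {U D : S.Opens} (hU : IsAffineOpen U) (hD : IsAffineOpen D) (h : D ≤ U) :
    IsPushout (g.app U) (S.presheaf.map (homOfLE h).op)
      (Z.presheaf.map (homOfLE (show g ⁻¹ᵁ D ≤ g ⁻¹ᵁ U from fun x hx => h hx)).op)
      (g.app D) := by
  have H : IsPullback (𝟙 Z) g g (𝟙 S) := IsPullback.of_id_fst
  have hgU : IsAffineOpen (g ⁻¹ᵁ U) := hU.preimage g
  have hgD : IsAffineOpen (g ⁻¹ᵁ D) := hD.preimage g
  have h1 := Groth.Agent.Lib.R2H3.ProdChart.isPushout_appLE H hU hgU hD le_rfl (by simpa using h)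
  have hO : (𝟙 Z) ⁻¹ᵁ (g ⁻¹ᵁ U) ⊓ g ⁻¹ᵁ D = g ⁻¹ᵁ D := by
    simp only [Scheme.Hom.id_preimage]
    exact inf_eq_right.mpr (fun x hx => h hx)
  refine IsPushout.of_iso h1 (Iso.refl _) (Iso.refl _) (Iso.refl _)
    (Z.presheaf.mapIso (eqToIso (congrArg Opposite.op hO))) ?_ ?_ ?_ ?_
  · simp only [Iso.refl_hom, Category.comp_id, Category.id_comp]
    exact (Scheme.Hom.app_eq_appLE ..).symm
  · simp only [Iso.refl_hom, Category.comp_id, Category.id_comp]
    rw [Scheme.Hom.appLE, Scheme.Hom.id_app]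
    exact Category.id_comp _
  · simp only [Iso.refl_hom, Category.id_comp, Functor.mapIso_hom, eqToIso.hom]
    rw [Scheme.Hom.appLE, Scheme.Hom.id_app]
    erw [Category.id_comp]
    exact (Z.presheaf.map_comp _ _).symm.trans (congrArg Z.presheaf.map (Subsingleton.elim _ _))
  · simp only [Iso.refl_hom, Category.id_comp, Functor.mapIso_hom, eqToIso.hom]
    rw [Scheme.Hom.appLE, Category.assoc, ← Functor.map_comp]
    rw [show ((homOfLE (inf_le_right : (𝟙 Z) ⁻¹ᵁ (g ⁻¹ᵁ U) ⊓ g ⁻¹ᵁ D ≤ g ⁻¹ᵁ D)).op ≫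
      eqToHom (congrArg Opposite.op hO)) = 𝟙 _ from Subsingleton.elim _ _,
      CategoryTheory.Functor.map_id, Category.comp_id]

/-- the preimage of an affine open, as an affine open. -/
abbrev pre (U : S.affineOpens) : Z.affineOpens := ⟨g ⁻¹ᵁ U.1, U.2.preimage g⟩

end Res

section Ker

/-- an ideal sheaf is contained in the kernel of a morphism as soon as this holds on the members
of an affine open covering. -/
theorem le_ker_of_cover {X W : Scheme.{u}} (𝒥 : X.IdealSheafData) (f : W ⟶ X) {ι : Type*}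
    (V : ι → X.affineOpens) (hV : ∀ x : X, ∃ i, x ∈ (V i).1)
    (H : ∀ i, 𝒥.ideal (V i) ≤ RingHom.ker (f.app (V i).1).hom) : 𝒥 ≤ f.ker := by
  rw [Scheme.Hom.ker, Scheme.IdealSheafData.le_ofIdeals_iff]
  intro V₀ s hs
  rw [RingHom.mem_ker]
  refine W.IsSheaf.section_ext fun w hw => ?_
  obtain ⟨i, hi⟩ := hV (f w)
  obtain ⟨_, ⟨D, hD, rfl⟩, hwD, hDle⟩ := X.isBasis_affineOpens.exists_subset_of_mem_open
    (show f w ∈ ((V₀.1 ⊓ (V i).1 : X.Opens) : Set X) from ⟨hw, hi⟩) (V₀.1 ⊓ (V i).1).2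
  have hD0 : D ≤ V₀.1 := fun x hx => (hDle hx).1
  have hDi : D ≤ (V i).1 := fun x hx => (hDle hx).2
  refine ⟨f ⁻¹ᵁ D, fun x hx => hD0 hx, hwD, ?_⟩
  rw [map_zero]
  -- the restriction of `s` to `D` lies in `𝒥(D)`, which is generated by `𝒥(V i)`
  have h1 : (X.presheaf.map (homOfLE hD0).op).hom s ∈ 𝒥.ideal ⟨D, hD⟩ :=
    𝒥.ideal_le_comap_ideal (U := ⟨D, hD⟩) (V := V₀) hD0 hs
  have h2 : 𝒥.ideal ⟨D, hD⟩ ≤ RingHom.ker (f.app D).hom := by
    rw [← 𝒥.map_ideal (U := ⟨D, hD⟩) (V := V i) hDi, Ideal.map_le_iff_le_comap]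
    intro t ht
    rw [Ideal.mem_comap, RingHom.mem_ker]
    have h3 := H i ht
    rw [RingHom.mem_ker] at h3
    have h4 := congrArg (fun φ => φ.hom t)
      (f.naturality (homOfLE hDi).op)
    simp only [CommRingCat.hom_comp, RingHom.coe_comp, Function.comp_apply] at h4
    refine h4.trans ?_
    rw [h3, map_zero]
  have h5 := h2 h1
  rw [RingHom.mem_ker] at h5
  have h6 := congrArg (fun φ => φ.hom s) (f.naturality (homOfLE hD0).op)
  simp only [CommRingCat.hom_comp, RingHom.coe_comp, Function.comp_apply] at h6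
  exact h6.symm.trans h5

end Ker

section Main

variable {Z S : Scheme.{u}} (g : Z ⟶ S) [IsFinite g] [Flat g] [LocallyOfFinitePresentation g]
  (𝒥 : Z.IdealSheafData)

theorem finProj_app (U : S.affineOpens) : FinProj (g.app U.1) := by
  letI := (g.app U.1).hom.toAlgebra
  have hU' : IsAffineOpen (g ⁻¹ᵁ U.1) := U.2.preimage g
  have h1 : (g.app U.1).hom.Finite := g.finite_app U.1 U.2
  have h2 : (g.app U.1).hom.Flat := by
    rw [Scheme.Hom.app_eq_appLE]
    exact HasRingHomProperty.appLE (P := @Flat) g inferInstance U ⟨_, hU'⟩ le_rfl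
  have h3 : (g.app U.1).hom.FinitePresentation := by
    rw [Scheme.Hom.app_eq_appLE]
    exact HasRingHomProperty.appLE (P := @LocallyOfFinitePresentation) g inferInstance U
      ⟨_, hU'⟩ le_rfl
  haveI : Module.Finite Γ(S, U.1) Γ(Z, g ⁻¹ᵁ U.1) := h1
  haveI : Module.Flat Γ(S, U.1) Γ(Z, g ⁻¹ᵁ U.1) := h2
  haveI : Algebra.FinitePresentation Γ(S, U.1) Γ(Z, g ⁻¹ᵁ U.1) := h3
  haveI : Module.FinitePresentation Γ(S, U.1) Γ(Z, g ⁻¹ᵁ U.1) :=
    Module.FinitePresentation.of_finite_of_finitePresentation _ _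
  exact ⟨inferInstance, Module.Flat.projective_of_finitePresentation⟩

/-- the content ideals of `𝒥`. -/
noncomputable def cI (U : S.affineOpens) : Ideal Γ(S, U.1) :=
  contC (g.app U.1) (𝒥.ideal (pre g U))

/-- **The ideal sheaf of the Weil restriction of `V(𝒥)`.** -/
noncomputable def idealW : S.IdealSheafData where
  ideal U := cI g 𝒥 U
  map_ideal_basicOpen U f := by
    have hle : S.basicOpen f ≤ U.1 := S.basicOpen_le f
    have H := isPushout_res g U.2 (S.affineBasicOpen f).2 hle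
    exact contC_map' H (finProj_app g U) (finProj_app g (S.affineBasicOpen f))
      (𝒥.ideal (pre g U)) (𝒥.ideal (pre g (S.affineBasicOpen f)))
      (𝒥.map_ideal (U := pre g (S.affineBasicOpen f)) (V := pre g U) (fun x hx => hle hx))

lemma idealW_ideal (U : S.affineOpens) : (idealW g 𝒥).ideal U = cI g 𝒥 U := rfl

/-- the chart characterisation of the content ideals. -/
theorem chart_char {T : Scheme.{u}} (a : T ⟶ S) (U : S.affineOpens) (UT : T.affineOpens)
    (h : UT.1 ≤ a ⁻¹ᵁ U.1) :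
    cI g 𝒥 U ≤ RingHom.ker (a.appLE U.1 UT.1 h).hom ↔
      𝒥.ideal (pre g U) ≤ RingHom.ker ((pullback.fst g a).appLE (g ⁻¹ᵁ U.1)
        ((pullback.fst g a) ⁻¹ᵁ (g ⁻¹ᵁ U.1) ⊓ (pullback.snd g a) ⁻¹ᵁ UT.1) inf_le_left).hom := by
  have H := Groth.Agent.Lib.R2H3.ProdChart.isPushout_appLE (IsPullback.of_hasPullback g a)
    U.2 (pre g U).2 UT.2 le_rfl h
  have e : g.app U.1 = g.appLE U.1 (pre g U).1 le_rfl := Scheme.Hom.app_eq_appLE ..
  rw [← e] at H
  exact contC_le_ker_iff H (finProj_app g U) (𝒥.ideal (pre g U))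

/-- **The universal property of the Weil restriction of `V(𝒥)`.** -/
theorem idealW_le_ker_iff {T : Scheme.{u}} (a : T ⟶ S) :
    idealW g 𝒥 ≤ a.ker ↔ 𝒥 ≤ (pullback.fst g a).ker := by
  constructor
  · intro hle
    refine le_ker_of_cover 𝒥 (pullback.fst g a) (fun U : S.affineOpens => pre g U) ?_ ?_
    · intro x
      obtain ⟨_, ⟨U, hU, rfl⟩, hxU, -⟩ := S.isBasis_affineOpens.exists_subset_of_mem_open
        (Set.mem_univ (g x)) isOpen_univ
      exact ⟨⟨U, hU⟩, hxU⟩
    · intro U j hj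
      rw [RingHom.mem_ker]
      refine (pullback g a).IsSheaf.section_ext fun p hp => ?_
      have hpU : a (pullback.snd g a p) ∈ U.1 := by
        have h1 : a (pullback.snd g a p) = g (pullback.fst g a p) := by
          rw [← Scheme.Hom.comp_apply, ← Scheme.Hom.comp_apply, pullback.condition]
        rw [h1]
        exact hp
      obtain ⟨_, ⟨UT, hUT, rfl⟩, hpUT, hUTle⟩ := T.isBasis_affineOpens.exists_subset_of_mem_open
        (show pullback.snd g a p ∈ ((a ⁻¹ᵁ U.1 : T.Opens) : Set T) from hpU) (a ⁻¹ᵁ U.1).2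
      refine ⟨(pullback.fst g a) ⁻¹ᵁ (g ⁻¹ᵁ U.1) ⊓ (pullback.snd g a) ⁻¹ᵁ UT, inf_le_left,
        ⟨hp, hpUT⟩, ?_⟩
      rw [map_zero]
      have h2 : cI g 𝒥 U ≤ RingHom.ker (a.appLE U.1 UT hUTle).hom := by
        intro r hr
        have h3 := (a.ideal_ker_le U) (hle U hr)
        rw [RingHom.mem_ker] at h3 ⊢
        rw [Scheme.Hom.appLE, CommRingCat.hom_comp, RingHom.comp_apply, h3, map_zero]
      have h4 := RingHom.mem_ker.mp ((chart_char g 𝒥 a U ⟨UT, hUT⟩ hUTle).mp h2 hj)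
      rw [Scheme.Hom.appLE, CommRingCat.hom_comp] at h4
      exact h4
  · intro hle
    rw [Scheme.Hom.ker, Scheme.IdealSheafData.le_ofIdeals_iff]
    intro U r hr
    rw [RingHom.mem_ker]
    refine T.IsSheaf.section_ext fun t ht => ?_
    obtain ⟨_, ⟨UT, hUT, rfl⟩, htUT, hUTle⟩ := T.isBasis_affineOpens.exists_subset_of_mem_open
      (show t ∈ ((a ⁻¹ᵁ U.1 : T.Opens) : Set T) from ht) (a ⁻¹ᵁ U.1).2
    refine ⟨UT, hUTle, htUT, ?_⟩
    rw [map_zero]
    have h2 : 𝒥.ideal (pre g U) ≤ RingHom.ker ((pullback.fst g a).appLE (g ⁻¹ᵁ U.1)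
        ((pullback.fst g a) ⁻¹ᵁ (g ⁻¹ᵁ U.1) ⊓ (pullback.snd g a) ⁻¹ᵁ UT) inf_le_left).hom := by
      intro j hj
      have h3 := RingHom.mem_ker.mp
        (((pullback.fst g a).ideal_ker_le (pre g U)) (hle (pre g U) hj))
      refine RingHom.mem_ker.mpr ?_
      rw [Scheme.Hom.appLE, CommRingCat.hom_comp]
      exact (congrArg ((pullback g a).presheaf.map (homOfLE _).op).hom h3).trans (map_zero _)
    have h4 := RingHom.mem_ker.mp ((chart_char g 𝒥 a U ⟨UT, hUT⟩ hUTle).mpr h2 hr)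
    rw [Scheme.Hom.appLE, CommRingCat.hom_comp] at h4
    exact h4

end Main

section Closed

variable {Z S : Scheme.{u}} (g : Z ⟶ S) [IsFinite g] [Flat g] [LocallyOfFinitePresentation g]
  {Y : Scheme.{u}} (y : Y ⟶ Z) [IsClosedImmersion y]

/-- factoring through a closed immersion, in terms of kernels. -/
theorem exists_lift_iff {W : Scheme.{u}} (f : W ⟶ Z) :
    (∃ l : W ⟶ Y, l ≫ y = f) ↔ y.ker ≤ f.ker := by
  constructor
  · rintro ⟨l, rfl⟩
    exact l.le_ker_comp y
  · intro h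
    exact ⟨IsClosedImmersion.lift y f h, IsClosedImmersion.lift_fac y f h⟩

/-- **Weil restriction of a closed subscheme along a finite locally free morphism.** -/
theorem exists_closed_weil :
    ∃ I : S.IdealSheafData, ∀ {T : Scheme.{u}} (a : T ⟶ S),
      I ≤ a.ker ↔ ∃ l : pullback g a ⟶ Y, l ≫ y = pullback.fst g a := by
  refine ⟨idealW g y.ker, fun a => ?_⟩
  rw [idealW_le_ker_iff, exists_lift_iff]

end Closed

end Groth.Agent.Lib.R2H3.ClosedWeil
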