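import Mathlib
import Groth.Prelude.Def_SGA3x
import Groth.Agent.Lib.R2H3ClosedWeil
import Groth.Agent.Lib.H5bIdealDesc
set_option backward.isDefEq.respectTransparency.types false

/-!
Closed Weil restriction along an essentially free morphism (helper1; SGA3 VIII 6.4): content ideals for arbitrary projective modules (tmul_eq_zero_iff_proj, contC_le_ker_iff_proj, contC_fg, ProjMod), local form over an affine base covered by projective charts (Iloc, iloc_le_ker_iff), a jointly surjective flat family detects the zero ideal sheaf (eq_bot_of_forall_comap_eq_bot), LocData + fpqc descent via H5bIdealDesc (JJ, JJ_le_ker_iff), finite presentation (lfp_subschemeι), exists_locData (from SGA3x.IsEssentiallyFree), exists_ideal, main (= S4101).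
-/

set_option autoImplicit false
set_option linter.style.haveILetI false
set_option linter.unusedSectionVars false
universe u v

open CategoryTheory CategoryTheory.Limits AlgebraicGeometry TopologicalSpace Opposite

namespace Groth.Agent.Lib.R2H1.EssFreeWeil

section Part1

open CategoryTheory CategoryTheory.Limits TensorProduct
open Groth.Agent.Lib.R2H3.ClosedWeilAlg

section Tensor

variable {A B R : Type u} [CommRing A] [CommRing B] [CommRing R] [Algebra A B] [Algebra A R]

/-- an element of a projective module is the combination of its coordinates. -/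
theorem tmul_eq_zero_of_coords [Module.Projective A B] (K : Ideal A)
    (hK : K ≤ RingHom.ker (algebraMap A R)) (j : B)
    (hj : ∀ φ : B →ₗ[A] A, φ j ∈ K) : (1 : R) ⊗ₜ[A] j = 0 := by
  obtain ⟨s, hs⟩ := (Module.projective_def' (R := A) (P := B)).mp inferInstance
  have h1 : j = Finsupp.linearCombination A (id : B → B) (s j) := by
    have := congrArg (fun φ : B →ₗ[A] B => φ j) hs
    simpa using this.symm
  rw [h1, Finsupp.linearCombination_apply, Finsupp.sum, TensorProduct.tmul_sum]
  refine Finset.sum_eq_zero (fun b _ => ?_)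
  have h2 : (s j) b ∈ K := hj ((Finsupp.lapply b).comp s)
  have h3 := hK h2
  rw [RingHom.mem_ker, Algebra.algebraMap_eq_smul_one] at h3
  rw [id, TensorProduct.tmul_smul, TensorProduct.smul_tmul', h3, TensorProduct.zero_tmul]

/-- **Characterisation of the content, projective case.** -/
theorem tmul_eq_zero_iff_proj [Module.Projective A B] (J : Ideal B) :
    (∀ j ∈ J, (1 : R) ⊗ₜ[A] j = 0) ↔ cont (A := A) J ≤ RingHom.ker (algebraMap A R) := by
  constructor
  · intro h
    rw [cont_le_iff]
    intro φ j hj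
    rw [RingHom.mem_ker]
    have h1 := congrArg (fun t => TensorProduct.rid A R (φ.lTensor R t)) (h j hj)
    simp only [LinearMap.lTensor_tmul, TensorProduct.rid_tmul, map_zero] at h1
    rw [Algebra.algebraMap_eq_smul_one]
    exact h1
  · intro h j hj
    exact tmul_eq_zero_of_coords (cont (A := A) J) h j (fun φ => mem_cont J φ hj)

/-- the content of a finitely generated ideal is finitely generated. -/
theorem cont_fg [Module.Projective A B] (J : Ideal B) (hJ : J.FG) : (cont (A := A) J).FG := by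
  classical
  obtain ⟨F, rfl⟩ := hJ
  obtain ⟨s, hs⟩ := (Module.projective_def' (R := A) (P := B)).mp inferInstance
  let G : Finset A := F.biUnion (fun x => (s x).support.image (fun b => s x b))
  refine ⟨G, le_antisymm ?_ ?_⟩
  · rw [Submodule.span_le]
    intro a ha
    obtain ⟨x, hx, ha⟩ := Finset.mem_biUnion.mp ha
    obtain ⟨b, hb, rfl⟩ := Finset.mem_image.mp ha
    exact mem_cont (A := A) (Ideal.span (F : Set B)) ((Finsupp.lapply b).comp s)
      (Ideal.subset_span hx)
  · -- use the characterisation with `R = A ⧸ span G`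
    have key : ∀ j ∈ Ideal.span (F : Set B),
        (1 : A ⧸ Ideal.span (G : Set A)) ⊗ₜ[A] j = 0 := by
      intro j hj
      refine Submodule.span_induction (p := fun j _ =>
        (1 : A ⧸ Ideal.span (G : Set A)) ⊗ₜ[A] j = 0) ?_ ?_ ?_ ?_ hj
      · intro x hx
        have h1 : x = Finsupp.linearCombination A (id : B → B) (s x) := by
          have := congrArg (fun φ : B →ₗ[A] B => φ x) hs
          simpa using this.symm
        rw [h1, Finsupp.linearCombination_apply, Finsupp.sum, TensorProduct.tmul_sum]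
        refine Finset.sum_eq_zero (fun b hb => ?_)
        have h2 : (s x) b ∈ Ideal.span (G : Set A) :=
          Ideal.subset_span (Finset.mem_biUnion.mpr ⟨x, hx, Finset.mem_image.mpr ⟨b, hb, rfl⟩⟩)
        have h3 : ((s x) b) • (1 : A ⧸ Ideal.span (G : Set A)) = 0 := by
          rw [← Algebra.algebraMap_eq_smul_one]
          exact Ideal.Quotient.eq_zero_iff_mem.mpr h2
        rw [id, TensorProduct.tmul_smul, TensorProduct.smul_tmul', h3, TensorProduct.zero_tmul]
      · exact TensorProduct.tmul_zero _ _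
      · intro x y _ _ hx hy
        rw [TensorProduct.tmul_add, hx, hy, add_zero]
      · intro b x _ hx
        have : (1 : A ⧸ Ideal.span (G : Set A)) ⊗ₜ[A] (b • x) =
            ((1 : A ⧸ Ideal.span (G : Set A)) ⊗ₜ[A] b) * ((1 : A ⧸ Ideal.span (G : Set A)) ⊗ₜ[A] x) := by
          rw [Algebra.TensorProduct.tmul_mul_tmul, one_mul, smul_eq_mul]
        rw [this, hx, mul_zero]
    have h4 := (tmul_eq_zero_iff_proj (R := A ⧸ Ideal.span (G : Set A))
      (Ideal.span (F : Set B))).mp key
    rwa [Ideal.Quotient.algebraMap_eq, Ideal.mk_ker] at h4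

end Tensor

section Cat

variable {A B R C : CommRingCat.{u}} (f : A ⟶ B) (ψ : A ⟶ R) (β : B ⟶ C) (ρ : R ⟶ C)

/-- `B` is a projective `A`-module through `f`. -/
def ProjMod : Prop :=
  letI := f.hom.toAlgebra
  Module.Projective A B

variable {f ψ β ρ}

/-- **Characterisation of the content, for a pushout square of commutative rings.** -/
theorem contC_le_ker_iff_proj (H : IsPushout f ψ β ρ) (hf : ProjMod f) (J : Ideal B) :
    contC f J ≤ RingHom.ker ψ.hom ↔ J ≤ RingHom.ker β.hom := by
  letI := f.hom.toAlgebra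
  letI : Algebra A R := ψ.hom.toAlgebra
  haveI : Module.Projective A B := hf
  obtain ⟨e, he⟩ := Groth.Agent.Lib.R2H3.FibCritGeo.exists_equiv_of_isPushout
    (A := A) (B := B) (A' := R) β ρ H
  have hβ : ∀ b : B, β.hom b = e ((1 : R) ⊗ₜ[A] b) := by
    intro b
    rw [he, map_one, one_mul]
  change cont (A := A) J ≤ RingHom.ker (algebraMap A R) ↔ _
  rw [← tmul_eq_zero_iff_proj (R := R) J]
  constructor
  · intro h j hj
    rw [RingHom.mem_ker, hβ, h j hj, map_zero]
  · intro h j hj
    have h1 := h hj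
    rw [RingHom.mem_ker, hβ] at h1
    exact (map_eq_zero_iff e e.injective).mp h1

theorem contC_fg (hf : ProjMod f) (J : Ideal B) (hJ : J.FG) : (contC f J).FG := by
  letI := f.hom.toAlgebra
  haveI : Module.Projective A B := hf
  exact cont_fg J hJ

end Cat

end Part1

section Part2

open CategoryTheory CategoryTheory.Limits AlgebraicGeometry
open Groth.Agent.Lib.R2H3.ClosedWeilAlg


variable {Z' S' : Scheme.{u}} (p : Z' ⟶ S') [IsAffine S'] (𝒥 : Z'.IdealSheafData)
  {ι : Type*} (V : ι → Z'.affineOpens)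

/-- the sum of the content ideals. -/
noncomputable def Iloc : Ideal Γ(S', ⊤) :=
  ⨆ i, contC (p.appLE ⊤ (V i).1 le_top) (𝒥.ideal (V i))

/-- the chart characterisation of the content ideals. -/
theorem chart_char (i : ι) (hproj : ProjMod (p.appLE ⊤ (V i).1 le_top))
    {T : Scheme.{u}} (a : T ⟶ S') (UT : T.affineOpens) :
    contC (p.appLE ⊤ (V i).1 le_top) (𝒥.ideal (V i)) ≤
        RingHom.ker (a.appLE ⊤ UT.1 le_top).hom ↔
      𝒥.ideal (V i) ≤ RingHom.ker ((pullback.fst p a).appLE (V i).1
        ((pullback.fst p a) ⁻¹ᵁ (V i).1 ⊓ (pullback.snd p a) ⁻¹ᵁ UT.1) inf_le_left).hom := by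
  have H := Groth.Agent.Lib.R2H3.ProdChart.isPushout_appLE (IsPullback.of_hasPullback p a)
    (isAffineOpen_top S') (V i).2 UT.2 le_top le_top
  exact contC_le_ker_iff_proj H hproj (𝒥.ideal (V i))

variable (hV : ∀ x : Z', ∃ i, x ∈ (V i).1)
  (hproj : ∀ i, ProjMod (p.appLE ⊤ (V i).1 le_top))

include hV hproj in
/-- **The universal property, local form.** -/
theorem iloc_le_ker_iff {T : Scheme.{u}} (a : T ⟶ S') :
    Iloc p 𝒥 V ≤ RingHom.ker a.appTop.hom ↔ 𝒥 ≤ (pullback.fst p a).ker := by
  constructor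
  · intro hle
    refine Groth.Agent.Lib.R2H3.ClosedWeil.le_ker_of_cover 𝒥 (pullback.fst p a) V hV ?_
    intro i j hj
    rw [RingHom.mem_ker]
    refine (pullback p a).IsSheaf.section_ext fun q hq => ?_
    obtain ⟨_, ⟨UT, hUT, rfl⟩, hqUT, -⟩ := T.isBasis_affineOpens.exists_subset_of_mem_open
      (Set.mem_univ (pullback.snd p a q)) isOpen_univ
    refine ⟨(pullback.fst p a) ⁻¹ᵁ (V i).1 ⊓ (pullback.snd p a) ⁻¹ᵁ UT, inf_le_left,
      ⟨hq, hqUT⟩, ?_⟩
    rw [map_zero]
    have h2 : contC (p.appLE ⊤ (V i).1 le_top) (𝒥.ideal (V i)) ≤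
        RingHom.ker (a.appLE ⊤ UT le_top).hom := by
      intro r hr
      have h3 := hle ((le_iSup (fun i => contC (p.appLE ⊤ (V i).1 le_top) (𝒥.ideal (V i))) i) hr)
      rw [RingHom.mem_ker] at h3 ⊢
      rw [Scheme.Hom.appLE, CommRingCat.hom_comp, RingHom.comp_apply]
      change (T.presheaf.map _).hom (a.appTop.hom r) = 0
      rw [h3, map_zero]
    have h4 := RingHom.mem_ker.mp ((chart_char p 𝒥 V i (hproj i) a ⟨UT, hUT⟩).mp h2 hj)
    rw [Scheme.Hom.appLE, CommRingCat.hom_comp] at h4
    exact h4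
  · intro hle
    unfold Iloc
    refine iSup_le fun i => ?_
    intro r hr
    rw [RingHom.mem_ker]
    refine T.IsSheaf.section_ext fun t ht => ?_
    obtain ⟨_, ⟨UT, hUT, rfl⟩, htUT, -⟩ := T.isBasis_affineOpens.exists_subset_of_mem_open
      (Set.mem_univ t) isOpen_univ
    refine ⟨UT, le_top, htUT, ?_⟩
    rw [map_zero]
    have h2 : 𝒥.ideal (V i) ≤ RingHom.ker ((pullback.fst p a).appLE (V i).1
        ((pullback.fst p a) ⁻¹ᵁ (V i).1 ⊓ (pullback.snd p a) ⁻¹ᵁ UT) inf_le_left).hom := by
      intro j hj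
      have h3 := RingHom.mem_ker.mp
        (((pullback.fst p a).ideal_ker_le (V i)) (hle (V i) hj))
      refine RingHom.mem_ker.mpr ?_
      rw [Scheme.Hom.appLE, CommRingCat.hom_comp]
      exact (congrArg ((pullback p a).presheaf.map (homOfLE _).op).hom h3).trans (map_zero _)
    have h4 := RingHom.mem_ker.mp ((chart_char p 𝒥 V i (hproj i) a ⟨UT, hUT⟩).mpr h2 hr)
    rw [Scheme.Hom.appLE, CommRingCat.hom_comp] at h4
    exact h4

include hV hproj in
/-- the ideal sheaf form. -/
theorem ofIdealTop_iloc_le_ker_iff {T : Scheme.{u}} (a : T ⟶ S') :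
    Scheme.IdealSheafData.ofIdealTop (Iloc p 𝒥 V) ≤ a.ker ↔ 𝒥 ≤ (pullback.fst p a).ker := by
  rw [← iloc_le_ker_iff p 𝒥 V hV hproj a, Scheme.ker_of_isAffine]
  constructor
  · intro h
    have := h ⟨⊤, isAffineOpen_top S'⟩
    simpa using this
  · intro h
    refine Scheme.IdealSheafData.le_of_isAffine ?_
    simpa using h

end Part2

section Part3

open CategoryTheory CategoryTheory.Limits AlgebraicGeometry

/-- `I.comap f = ⊥` iff `I ≤ f.ker`. -/
lemma comap_eq_bot_iff {X Y : Scheme.{u}} (f : X ⟶ Y) (I : Y.IdealSheafData) :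
    I.comap f = ⊥ ↔ I ≤ f.ker := by
  rw [← le_bot_iff, ← Scheme.IdealSheafData.le_map_iff_comap_le, Scheme.IdealSheafData.map_bot]

/-- the stalk maps of a flat morphism are injective. -/
lemma stalkMap_injective_of_flat {W X : Scheme.{u}} (q : W ⟶ X) [Flat q] (w : W) :
    Function.Injective (q.stalkMap w).hom := by
  have hfl := Flat.stalkMap q w
  letI := (q.stalkMap w).hom.toAlgebra
  haveI : Module.Flat (X.presheaf.stalk (q w)) (W.presheaf.stalk w) := hfl
  haveI : IsLocalHom (algebraMap (X.presheaf.stalk (q w)) (W.presheaf.stalk w)) :=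
    inferInstanceAs (IsLocalHom (q.stalkMap w).hom)
  haveI := Module.FaithfullyFlat.of_flat_of_isLocalHom (A := X.presheaf.stalk (q w))
    (B := W.presheaf.stalk w)
  exact FaithfulSMul.algebraMap_injective (X.presheaf.stalk (q w)) (W.presheaf.stalk w)

/-- **a jointly surjective flat family detects the zero ideal sheaf.** -/
theorem eq_bot_of_forall_comap_eq_bot {X : Scheme.{u}} (K : X.IdealSheafData) {ι : Type*}
    (W : ι → Scheme.{u}) (q : ∀ i, W i ⟶ X) (hflat : ∀ i, Flat (q i))
    (hsurj : ∀ x : X, ∃ i, ∃ w : W i, q i w = x) (h : ∀ i, K.comap (q i) = ⊥) : K = ⊥ := by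
  rw [eq_bot_iff]
  intro U a ha
  have hle : ∀ i, K ≤ (q i).ker := fun i => (comap_eq_bot_iff (q i) K).mp (h i)
  change a ∈ (⊥ : Ideal Γ(X, U.1))
  rw [Ideal.mem_bot]
  refine TopCat.Presheaf.section_ext X.sheaf U.1 a 0 (fun x hx => ?_)
  obtain ⟨i, w, rfl⟩ := hsurj x
  have h1 : ((q i).app U.1).hom a = 0 := RingHom.mem_ker.mp ((q i).ideal_ker_le U (hle i U ha))
  haveI := hflat i
  have h2 : (X.presheaf.germ U.1 ((q i) w) hx).hom a = 0 := by
    apply stalkMap_injective_of_flat (q i) w
    rw [Scheme.Hom.germ_stalkMap_apply (q i) U.1 w hx a, h1, map_zero, map_zero]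
  exact h2.trans (map_zero _).symm

end Part3

section Part4

open CategoryTheory CategoryTheory.Limits AlgebraicGeometry
open Groth.Agent.Lib.R2H3.ClosedWeilAlg


variable {S Z Y : Scheme.{u}} (f : Z ⟶ S) (j : Y ⟶ Z)

/-- the base change of `j` along `a` is an isomorphism, in terms of kernels. -/
def PP {T : Scheme.{u}} (a : T ⟶ S) : Prop := j.ker ≤ (pullback.fst f a).ker

lemma PP_comp {T T' : Scheme.{u}} (a : T ⟶ S) (h : T' ⟶ T) (ha : PP f j a) : PP f j (h ≫ a) := by
  unfold PP at ha ⊢
  have e : pullback.fst f (h ≫ a) =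
      pullback.lift (pullback.fst f (h ≫ a)) (pullback.snd f (h ≫ a) ≫ h)
        (by rw [Category.assoc, pullback.condition]) ≫ pullback.fst f a := by
    rw [pullback.lift_fst]
  rw [e]
  exact ha.trans (Scheme.Hom.le_ker_comp _ _)

/-- local trivialising data for an essentially free morphism. -/
structure LocData (f : Z ⟶ S) where
  U : S.Opens
  hU : IsAffineOpen U
  S' : Scheme.{u}
  aff : IsAffine S'
  g : S' ⟶ (U : Scheme.{u})
  flat : Flat g
  surj : Surjective g
  ι : Type u
  V : ι → (pullback f (g ≫ U.ι)).affineOpens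
  cov : ∀ x : ↥(pullback f (g ≫ U.ι)), ∃ i, x ∈ (V i).1
  proj : ∀ i, ProjMod ((pullback.snd f (g ≫ U.ι)).appLE ⊤ (V i).1 le_top)

namespace LocData

variable {f} (d : LocData f)

/-- the structure map to `S`. -/
def G : d.S' ⟶ S := d.g ≫ d.U.ι

instance : IsAffine d.S' := d.aff

instance : Flat d.G := by
  haveI := d.flat
  unfold G
  infer_instance

/-- the local ideal. -/
noncomputable def I : d.S'.IdealSheafData :=
  Scheme.IdealSheafData.ofIdealTop
    (Iloc (pullback.snd f d.G) (j.ker.comap (pullback.fst f d.G)) d.V)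

theorem I_le_ker_iff {T : Scheme.{u}} (a : T ⟶ d.S') : d.I j ≤ a.ker ↔ PP f j (a ≫ d.G) := by
  unfold I
  rw [ofIdealTop_iloc_le_ker_iff (pullback.snd f d.G) _ d.V d.cov d.proj a]
  rw [← Scheme.IdealSheafData.le_map_iff_comap_le, Scheme.IdealSheafData.map_ker]
  have e : pullback.fst (pullback.snd f d.G) a ≫ pullback.fst f d.G =
      (pullbackLeftPullbackSndIso f d.G a).hom ≫ pullback.fst f (a ≫ d.G) :=
    (pullbackLeftPullbackSndIso_hom_fst f d.G a).symm
  rw [e, Scheme.Hom.ker_comp_of_isIso]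
  rfl

theorem comap_le_comap (d₁ d₂ : LocData f) {T : Scheme.{u}} (a₁ : T ⟶ d₁.S') (a₂ : T ⟶ d₂.S')
    (h : a₁ ≫ d₁.G = a₂ ≫ d₂.G) : (d₁.I j).comap a₁ ≤ (d₂.I j).comap a₂ := by
  set c := ((d₂.I j).comap a₂).subschemeι with hc
  have hker : c.ker = (d₂.I j).comap a₂ := Scheme.IdealSheafData.ker_subschemeι _
  have h1 : d₂.I j ≤ (c ≫ a₂).ker := by
    rw [Scheme.Hom.ker_comp, Scheme.IdealSheafData.le_map_iff_comap_le, hker]
  have h2 : PP f j ((c ≫ a₂) ≫ d₂.G) := (d₂.I_le_ker_iff j (c ≫ a₂)).mp h1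
  have h3 : PP f j ((c ≫ a₁) ≫ d₁.G) := by
    rw [Category.assoc, h, ← Category.assoc]
    exact h2
  have h4 : d₁.I j ≤ (c ≫ a₁).ker := (d₁.I_le_ker_iff j (c ≫ a₁)).mpr h3
  rw [Scheme.Hom.ker_comp, Scheme.IdealSheafData.le_map_iff_comap_le, hker] at h4
  exact h4

theorem comap_eq_comap (d₁ d₂ : LocData f) {T : Scheme.{u}} (a₁ : T ⟶ d₁.S') (a₂ : T ⟶ d₂.S')
    (h : a₁ ≫ d₁.G = a₂ ≫ d₂.G) : (d₁.I j).comap a₁ = (d₂.I j).comap a₂ :=
  le_antisymm (comap_le_comap j d₁ d₂ a₁ a₂ h) (comap_le_comap j d₂ d₁ a₂ a₁ h.symm)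

end LocData

end Part4

section Part5

open CategoryTheory CategoryTheory.Limits AlgebraicGeometry
open Groth.Agent.Lib.R2H3.ClosedWeilAlg Groth.Agent.Lib.H5bIdealDesc


variable {S Z Y : Scheme.{u}} {f : Z ⟶ S} (j : Y ⟶ Z)
  (D : S → LocData f) (hD : ∀ s : S, s ∈ (D s).U)

/-- preimages of small affine opens are affine. -/
lemma isAffineOpen_preimage_G (d : LocData f) {E : S.Opens} (hE : IsAffineOpen E) (hEU : E ≤ d.U) :
    IsAffineOpen (d.G ⁻¹ᵁ E) := by
  have h1 : IsAffineOpen (d.U.ι ⁻¹ᵁ E) := by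
    rw [← Scheme.Hom.isAffineOpen_iff_of_isOpenImmersion d.U.ι,
      Scheme.Hom.image_preimage_eq_opensRange_inf, Scheme.Opens.opensRange_ι,
      inf_eq_right.mpr hEU]
    exact hE
  haveI : IsAffine (d.U : Scheme.{u}) := d.hU
  haveI : IsAffine d.S' := d.aff
  exact h1.preimage d.g

include hD in
theorem hyp : Hyp (fun s => (D s).G) (fun s => (D s).I j) where
  flat s := inferInstance
  cover W := by
    classical
    -- small affine neighbourhoods
    have h1 : ∀ x : S, x ∈ W.1 → ∃ E : S.Opens, IsAffineOpen E ∧ x ∈ E ∧ E ≤ W.1 ∧ E ≤ (D x).U := by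
      intro x hx
      obtain ⟨_, ⟨E, hE, rfl⟩, hxE, hEle⟩ := S.isBasis_affineOpens.exists_subset_of_mem_open
        (show x ∈ ((W.1 ⊓ (D x).U : S.Opens) : Set S) from ⟨hx, hD x⟩) (W.1 ⊓ (D x).U).2
      exact ⟨E, hE, hxE, fun y hy => (hEle hy).1, fun y hy => (hEle hy).2⟩
    choose E hE hxE hEW hEU using h1
    obtain ⟨t, ht⟩ := W.2.isCompact.elim_nhds_subcover' (fun x hx => (E x hx : Set S))
      (fun x hx => (E x hx).2.mem_nhds (hxE x hx))
    let ch : W.1 → Chart (fun s => (D s).G) W := fun x =>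
      ⟨x.1, ⟨(D x.1).G ⁻¹ᵁ (E x.1 x.2), isAffineOpen_preimage_G (D x.1) (hE x.1 x.2) (hEU x.1 x.2)⟩,
        fun w hw => hEW x.1 x.2 hw⟩
    refine ⟨t.image ch, fun y hy => ?_⟩
    obtain ⟨x, hxt, hyx⟩ := Set.mem_iUnion₂.mp (ht hy)
    refine ⟨ch x, Finset.mem_image_of_mem _ hxt, ?_⟩
    have hyU : y ∈ (D x.1).U := hEU x.1 x.2 hyx
    haveI := (D x.1).surj
    obtain ⟨w, hw⟩ := (D x.1).g.surjective ⟨y, hyU⟩
    have hGw : (D x.1).G w = y := by
      change ((D x.1).g ≫ (D x.1).U.ι) w = y
      rw [Scheme.Hom.comp_apply, hw]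
      rfl
    refine ⟨w, ?_, hGw⟩
    change (D x.1).G w ∈ E x.1 x.2
    rw [hGw]
    exact hyx
  compat s s' := LocData.comap_eq_comap j (D s) (D s') _ _ pullback.condition

/-- **The descended ideal sheaf.** -/
noncomputable def JJ : S.IdealSheafData := Jdesc (hyp j D hD)

theorem JJ_comap (s : S) : (JJ j D hD).comap (D s).G = (D s).I j := Jdesc_comap (hyp j D hD) s

include hD in
/-- joint surjectivity of the base changed family. -/
lemma exists_point {T : Scheme.{u}} (a : T ⟶ S) (t : T) :
    ∃ w : ↥(pullback a (D (a t)).G), pullback.fst a (D (a t)).G w = t := by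
  haveI := (D (a t)).surj
  obtain ⟨w, hw⟩ := (D (a t)).g.surjective ⟨a t, hD (a t)⟩
  have hGw : (D (a t)).G w = a t := by
    change ((D (a t)).g ≫ (D (a t)).U.ι) w = a t
    rw [Scheme.Hom.comp_apply, hw]
    rfl
  obtain ⟨z, hz1, hz2⟩ := Scheme.Pullback.exists_preimage_pullback t w hGw.symm
  exact ⟨z, hz1⟩

/-- **The universal property.** -/
theorem JJ_le_ker_iff {T : Scheme.{u}} (a : T ⟶ S) : JJ j D hD ≤ a.ker ↔ PP f j a := by
  constructor
  · intro hle
    -- `K = 0` on `pullback f a`
    unfold PP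
    rw [← comap_eq_bot_iff]
    refine eq_bot_of_forall_comap_eq_bot _
      (fun s : S => pullback (pullback.snd f a) (pullback.fst a (D s).G))
      (fun s => pullback.fst (pullback.snd f a) (pullback.fst a (D s).G))
      (fun s => inferInstance) ?_ ?_
    · intro z
      obtain ⟨w, hw⟩ := exists_point D hD a (pullback.snd f a z)
      obtain ⟨y, hy1, hy2⟩ := Scheme.Pullback.exists_preimage_pullback
        (f := pullback.snd f a) (g := pullback.fst a (D (a (pullback.snd f a z))).G) z w hw.symm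
      exact ⟨a (pullback.snd f a z), y, hy1⟩
    · intro s
      rw [← Scheme.IdealSheafData.comap_comp, comap_eq_bot_iff]
      have e : pullback.fst (pullback.snd f a) (pullback.fst a (D s).G) ≫ pullback.fst f a =
          (pullbackLeftPullbackSndIso f a (pullback.fst a (D s).G)).hom ≫
            pullback.fst f (pullback.fst a (D s).G ≫ a) :=
        (pullbackLeftPullbackSndIso_hom_fst f a _).symm
      rw [e, Scheme.Hom.ker_comp_of_isIso]
      change PP f j (pullback.fst a (D s).G ≫ a)
      rw [pullback.condition]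
      rw [← LocData.I_le_ker_iff, ← JJ_comap j D hD s, ← Scheme.IdealSheafData.le_map_iff_comap_le,
        Scheme.IdealSheafData.map_ker, ← pullback.condition]
      exact hle.trans (Scheme.Hom.le_ker_comp _ _)
  · intro hP
    rw [← comap_eq_bot_iff]
    refine eq_bot_of_forall_comap_eq_bot _
      (fun s : S => pullback a (D s).G) (fun s => pullback.fst a (D s).G)
      (fun s => inferInstance) ?_ ?_
    · intro t
      obtain ⟨w, hw⟩ := exists_point D hD a t
      exact ⟨a t, w, hw⟩
    · intro s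
      rw [← Scheme.IdealSheafData.comap_comp, pullback.condition, Scheme.IdealSheafData.comap_comp,
        JJ_comap, comap_eq_bot_iff, LocData.I_le_ker_iff, ← pullback.condition]
      exact PP_comp f j a _ hP

end Part5

section Part6

open CategoryTheory CategoryTheory.Limits AlgebraicGeometry
open Groth.Agent.Lib.R2H3.ClosedWeilAlg Groth.Agent.Lib.H5bIdealDesc



/-- the base change of a closed immersion is an isomorphism iff the map factors. -/
lemma isIso_snd_iff {Y Z Q : Scheme.{u}} (j : Y ⟶ Z) [IsClosedImmersion j] (q : Q ⟶ Z) :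
    IsIso (pullback.snd j q) ↔ j.ker ≤ q.ker := by
  constructor
  · intro h
    have : q = (inv (pullback.snd j q) ≫ pullback.fst j q) ≫ j := by
      rw [Category.assoc, pullback.condition, IsIso.inv_hom_id_assoc]
    rw [this]
    exact Scheme.Hom.le_ker_comp _ _
  · intro h
    have hl : IsClosedImmersion.lift j q h ≫ j = q := IsClosedImmersion.lift_fac j q h
    have h1 : pullback.lift (IsClosedImmersion.lift j q h) (𝟙 Q) (by rw [hl, Category.id_comp]) ≫
        pullback.snd j q = 𝟙 _ := pullback.lift_snd _ _ _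
    refine ⟨pullback.lift (IsClosedImmersion.lift j q h) (𝟙 Q) (by rw [hl, Category.id_comp]), ?_, h1⟩
    rw [← cancel_mono (pullback.snd j q), Category.assoc, h1, Category.comp_id, Category.id_comp]

/-- the ideals of a closed immersion locally of finite presentation are finitely generated. -/
lemma ideal_ker_fg {Y Z : Scheme.{u}} (c : Y ⟶ Z) [IsClosedImmersion c]
    [LocallyOfFinitePresentation c] (V : Z.affineOpens) : (c.ker.ideal V).FG := by
  rw [Scheme.Hom.ker_apply]
  have h1 : Function.Surjective (c.app V.1).hom := c.app_surjective V.1 V.2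
  have hV' : IsAffineOpen (c ⁻¹ᵁ V.1) := V.2.preimage c
  have h2 : (c.app V.1).hom.FinitePresentation := by
    rw [Scheme.Hom.app_eq_appLE]
    exact HasRingHomProperty.appLE (P := @LocallyOfFinitePresentation) c inferInstance V
      ⟨_, hV'⟩ le_rfl
  letI := (c.app V.1).hom.toAlgebra
  haveI : Algebra.FinitePresentation Γ(Z, V.1) Γ(Y, c ⁻¹ᵁ V.1) := h2
  have := Algebra.FinitePresentation.ker_fG_of_surjective
    (Algebra.ofId Γ(Z, V.1) Γ(Y, c ⁻¹ᵁ V.1)) h1
  exact this

/-- a closed immersion into an affine scheme with finitely generated ideal is of finite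
presentation. -/
lemma lfp_of_ker_fg {X T : Scheme.{u}} [IsAffine T] (c : X ⟶ T) [IsClosedImmersion c]
    (I₀ : Ideal Γ(T, ⊤)) (hI : I₀.FG) (hc : c.ker = Scheme.IdealSheafData.ofIdealTop I₀) :
    LocallyOfFinitePresentation c := by
  obtain ⟨hX, hsurj⟩ := IsClosedImmersion.isAffine_surjective_of_isAffine c
  haveI := hX
  rw [HasRingHomProperty.iff_of_isAffine (P := @LocallyOfFinitePresentation)]
  refine RingHom.FinitePresentation.of_surjective _ hsurj ?_
  have h1 : RingHom.ker c.appTop.hom = I₀ := by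
    have h2 := hc
    rw [Scheme.ker_of_isAffine] at h2
    have h3 := congrArg (fun K : T.IdealSheafData => K.ideal ⟨⊤, isAffineOpen_top T⟩) h2
    simpa using h3
  rw [h1]
  exact hI

section FP

variable {S Z Y : Scheme.{u}} {f : Z ⟶ S} (j : Y ⟶ Z) [IsClosedImmersion j]
  (D : S → LocData f) (hD : ∀ s : S, s ∈ (D s).U)

/-- the local ideals are finitely generated. -/
theorem iloc_fg [LocallyOfFinitePresentation j] (d : LocData f) [Finite d.ι] :
    (Iloc (pullback.snd f d.G) (j.ker.comap (pullback.fst f d.G)) d.V).FG := by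
  unfold Iloc
  refine Submodule.fg_iSup _ (fun i => contC_fg (d.proj i) _ ?_)
  rw [← Scheme.IdealSheafData.ker_fst_of_isClosedImmersion j (pullback.fst f d.G)]
  exact ideal_ker_fg _ _

/-- **finite presentation.** -/
theorem lfp_subschemeι [LocallyOfFinitePresentation j] (hfin : ∀ s, Finite (D s).ι) :
    LocallyOfFinitePresentation (JJ j D hD).subschemeι := by
  set t := (JJ j D hD).subschemeι with ht
  have hU : (⨆ s : S, (D s).U) = ⊤ := by
    rw [eq_top_iff]
    intro x _
    exact TopologicalSpace.Opens.mem_iSup.mpr ⟨x, hD x⟩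
  refine IsZariskiLocalAtTarget.of_openCover (P := @LocallyOfFinitePresentation)
    (S.openCoverOfIsOpenCover (fun s => (D s).U) (TopologicalSpace.IsOpenCover.mk hU))
    (fun s => ?_)
  change LocallyOfFinitePresentation (pullback.snd t (D s).U.ι)
  haveI := (D s).aff
  haveI : IsAffine ((D s).U : Scheme.{u}) := (D s).hU
  haveI := hfin s
  -- the base change to `S'`
  have h1 : LocallyOfFinitePresentation (pullback.fst ((D s).g ≫ (D s).U.ι) t) := by
    refine lfp_of_ker_fg _ _ (iloc_fg j (D s)) ?_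
    exact JJ_comap j D hD s
  have hsq : IsPullback (pullback.fst ((D s).g ≫ (D s).U.ι) t)
      (pullback.lift (pullback.snd ((D s).g ≫ (D s).U.ι) t)
        (pullback.fst ((D s).g ≫ (D s).U.ι) t ≫ (D s).g)
        (by rw [Category.assoc, pullback.condition])) (D s).g (pullback.snd t (D s).U.ι) := by
    refine (IsPullback.of_right ?_ ?_ (IsPullback.of_hasPullback t (D s).U.ι)).flip
    · rw [pullback.lift_fst]
      exact (IsPullback.of_hasPullback ((D s).g ≫ (D s).U.ι) t).flip
    · rw [pullback.lift_snd]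
  haveI := (D s).flat
  haveI := (D s).surj
  exact MorphismProperty.of_isPullback_of_descendsAlong
    (P := @LocallyOfFinitePresentation) (Q := @Surjective ⊓ @Flat ⊓ @QuasiCompact) hsq
    ⟨⟨inferInstance, inferInstance⟩, inferInstance⟩ h1

end FP

end Part6

section Part7

open CategoryTheory CategoryTheory.Limits AlgebraicGeometry
open Groth.Agent.Lib.R2H3.ClosedWeilAlg Groth.Agent.Lib.H5bIdealDesc



/-- projectivity transfers along an isomorphism of the target. -/
lemma proj_of_iso {A B₁ B₂ : CommRingCat.{u}} (φ₁ : A ⟶ B₁) (φ₂ : A ⟶ B₂) (e : B₁ ≅ B₂)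
    (h : φ₁ ≫ e.hom = φ₂) (h1 : ProjMod φ₁) : ProjMod φ₂ := by
  unfold ProjMod at *
  letI i1 := φ₁.hom.toAlgebra
  letI i2 := φ₂.hom.toAlgebra
  haveI : Module.Projective A B₁ := h1
  let E : B₁ ≃ₗ[A] B₂ :=
    { e.commRingCatIsoToRingEquiv with
      map_smul' := fun a b => by
        change e.hom.hom (a • b) = a • e.hom.hom b
        rw [Algebra.smul_def, Algebra.smul_def, map_mul]
        congr 1
        change e.hom.hom (φ₁.hom a) = φ₂.hom a
        rw [← h]
        rfl }
  exact Module.Projective.of_equiv E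

/-- sections over an open, as global sections of the open subscheme. -/
lemma proj_of_top {Z' S' : Scheme.{u}} (p : Z' ⟶ S') (V : Z'.Opens)
    (h : ProjMod (V.ι ≫ p).appTop) : ProjMod (p.appLE ⊤ V le_top) := by
  refine proj_of_iso _ _ V.topIso ?_ h
  rw [Scheme.Hom.comp_appTop, Category.assoc, Scheme.Hom.appLE]
  congr 1
  simp only [Scheme.Opens.ι_appTop, Scheme.Opens.topIso_hom]
  exact (Z'.presheaf.map_comp _ _).symm.trans (congrArg Z'.presheaf.map (Subsingleton.elim _ _))

variable {S Z Y : Scheme.{u}} (f : Z ⟶ S)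

/-- local data from essential freeness. -/
theorem exists_locData (hf : SGA3x.IsEssentiallyFree f) (s : S) :
    ∃ d : LocData f, s ∈ d.U ∧ (QuasiCompact f → Finite d.ι) := by
  obtain ⟨U, hsU, hU, S', hS', g, hflat, hsurj, hV⟩ := hf s
  choose V hxV hVaff hVproj using hV
  by_cases hqc : QuasiCompact f
  · haveI : CompactSpace ↥(pullback f (g ≫ U.ι)) :=
      QuasiCompact.compactSpace_of_compactSpace (pullback.snd f (g ≫ U.ι))
    obtain ⟨t, ht⟩ := CompactSpace.elim_nhds_subcover (fun x => ((V x : (pullback f (g ≫ U.ι)).Opens) : Set _))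
      (fun x => (V x).2.mem_nhds (hxV x))
    refine ⟨⟨U, hU, S', hS', g, hflat, hsurj, ↥t, fun x => ⟨V x.1, hVaff x.1⟩, ?_, ?_⟩, hsU,
      fun _ => inferInstance⟩
    · intro x
      have hx : x ∈ (⊤ : Set _) := trivial
      rw [← ht] at hx
      obtain ⟨y, hyt, hxy⟩ := Set.mem_iUnion₂.mp hx
      exact ⟨⟨y, hyt⟩, hxy⟩
    · intro x
      exact proj_of_top _ _ (hVproj x.1)
  · refine ⟨⟨U, hU, S', hS', g, hflat, hsurj, ↥(pullback f (g ≫ U.ι)),
      fun x => ⟨V x, hVaff x⟩, fun x => ⟨x, hxV x⟩, fun x => proj_of_top _ _ (hVproj x)⟩, hsU,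
      fun h => absurd h hqc⟩

/-- **Closed Weil restriction along an essentially free morphism** (ideal sheaf form). -/
theorem exists_ideal (hf : SGA3x.IsEssentiallyFree f) (j : Y ⟶ Z) [IsClosedImmersion j] :
    ∃ I : S.IdealSheafData, (∀ {T : Scheme.{u}} (a : T ⟶ S), I ≤ a.ker ↔ j.ker ≤ (pullback.fst f a).ker) ∧
      (QuasiCompact f → LocallyOfFinitePresentation j → LocallyOfFinitePresentation I.subschemeι) := by
  choose D hD hfin using exists_locData f hf
  refine ⟨JJ j D hD, fun a => JJ_le_ker_iff j D hD a, fun hqc hj => ?_⟩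
  haveI := hj
  exact lfp_subschemeι j D hD (fun s => hfin s hqc)

/-- **Closed Weil restriction along an essentially free morphism.** -/
theorem main (S Z Y : Scheme.{u}) (f : Z ⟶ S)
    (hf : SGA3x.IsEssentiallyFree f) (j : Y ⟶ Z) [IsClosedImmersion j] :
    ∃ (T : Scheme.{u}) (t : T ⟶ S), IsClosedImmersion t ∧
      (∀ (S' : Scheme.{u}) (g : S' ⟶ S),
        (∃ g' : S' ⟶ T, g' ≫ t = g) ↔ IsIso (pullback.snd j (pullback.fst f g))) ∧
      (QuasiCompact f → LocallyOfFinitePresentation j → LocallyOfFinitePresentation t) := by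
  obtain ⟨I, hI, hfp⟩ := exists_ideal f hf j
  refine ⟨I.subscheme, I.subschemeι, inferInstance, fun S' g => ?_, hfp⟩
  rw [Groth.Agent.Lib.R2H3.ClosedWeil.exists_lift_iff, Scheme.IdealSheafData.ker_subschemeι,
    isIso_snd_iff, hI]

end Part7

end Groth.Agent.Lib.R2H1.EssFreeWeil
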