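import Mathlib
import Groth.Agent.Lib.R2H3ClosedWeil

/-!
# Weil restriction of closed subschemes along a morphism carrying a universally schematically
dense family of finite locally free schemes (helper3, round 2)

Let `p : X ⟶ S` be a morphism and `f i : Z i ⟶ X` a family of morphisms with every `Z i` finite
locally free over `S`, universally schematically dominant relative to `S`.  For a closed
subscheme `Y` of `X`, the condition "`X ×_S T ⟶ X` factors through `Y`" on `T ⟶ S` is
represented by a closed subscheme of `S`, the intersection of the closed subschemes representing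
"`Z i ×_S T ⟶ X` factors through `Y`" (`exists_ideals`).  Over a Noetherian base a directed
family of ideal sheaves has a greatest element (`exists_eq_iSup_of_directed`).
-/

set_option autoImplicit false
set_option linter.style.haveILetI false
set_option linter.unusedVariables false
set_option linter.unusedSectionVars false

universe u

open CategoryTheory CategoryTheory.Limits AlgebraicGeometry
open Groth.Agent.Lib.R2H3.ClosedWeil

namespace Groth.Agent.Lib.R2H3.DenseWeil

section Family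

variable {X S : Scheme.{u}} (p : X ⟶ S) {ι : Type*} (Z : ι → Scheme.{u}) (f : ∀ i, Z i ⟶ X)
  {Y : Scheme.{u}} (y : Y ⟶ X) [IsClosedImmersion y]

/-- the base change of the `i`-th member of the family. -/
noncomputable abbrev bcm {T : Scheme.{u}} (a : T ⟶ S) (i : ι) :
    pullback (f i ≫ p) a ⟶ pullback p a :=
  pullback.map (f i ≫ p) a p a (f i) (𝟙 T) (𝟙 S) (Category.comp_id _)
    ((Category.comp_id _).trans (Category.id_comp _).symm)

/-- the family is universally schematically dominant relative to `S`. -/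
def UnivDominant : Prop :=
  ∀ (T : Scheme.{u}) (a : T ⟶ S) (V : (pullback p a).Opens) (t : Γ(pullback p a, V)),
    (∀ i, (bcm p Z f a i).app V t = 0) → t = 0

/-- `Z i ×_S T ⟶ X` factors through `Y`. -/
def FacI {T : Scheme.{u}} (a : T ⟶ S) (i : ι) : Prop :=
  ∃ l : pullback (f i ≫ p) a ⟶ Y, l ≫ y = pullback.fst (f i ≫ p) a ≫ f i

/-- `X ×_S T ⟶ X` factors through `Y`. -/
def FacX {T : Scheme.{u}} (a : T ⟶ S) : Prop :=
  ∃ l : pullback p a ⟶ Y, l ≫ y = pullback.fst p a

omit [IsClosedImmersion y] in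
lemma facI_of_facX {T : Scheme.{u}} (a : T ⟶ S) (h : FacX p y a) (i : ι) : FacI p Z f y a i := by
  obtain ⟨l, hl⟩ := h
  refine ⟨bcm p Z f a i ≫ l, ?_⟩
  rw [Category.assoc, hl, pullback.lift_fst]

/-- **Density**: if the family is universally schematically dominant, `X ×_S T ⟶ X` factors
through `Y` as soon as all the `Z i ×_S T ⟶ X` do. -/
theorem facX_of_facI (hd : UnivDominant p Z f) {T : Scheme.{u}} (a : T ⟶ S)
    (h : ∀ i, FacI p Z f y a i) : FacX p y a := by
  obtain ⟨j, hj⟩ : ∃ j : pullback y (pullback.fst p a) ⟶ pullback p a,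
      j = pullback.snd y (pullback.fst p a) := ⟨_, rfl⟩
  haveI : IsClosedImmersion j := by
    rw [hj]
    infer_instance
  have hker : j.ker = ⊥ := by
    rw [eq_bot_iff]
    intro V s hs
    have h1 := RingHom.mem_ker.mp (j.ideal_ker_le V hs)
    have h2 : s = 0 := by
      apply hd T a V.1 s
      intro i
      obtain ⟨l, hl⟩ := h i
      obtain ⟨k, hk⟩ : ∃ k : pullback (f i ≫ p) a ⟶ pullback y (pullback.fst p a),
          k ≫ j = bcm p Z f a i := by
        refine ⟨pullback.lift l (bcm p Z f a i) ?_, ?_⟩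
        · rw [hl, pullback.lift_fst]
        · rw [hj, pullback.lift_snd]
      rw [← hk, Scheme.Hom.comp_app]
      exact (congrArg (k.app (j ⁻¹ᵁ V.1)).hom h1).trans (map_zero _)
    rw [h2]
    exact Submodule.zero_mem _
  haveI : IsIso j := IsClosedImmersion.isIso_iff_ker_eq_bot.mpr hker
  refine ⟨inv j ≫ pullback.fst y (pullback.fst p a), ?_⟩
  rw [Category.assoc, pullback.condition, ← hj, IsIso.inv_hom_id_assoc]

variable [∀ i, IsFinite (f i ≫ p)] [∀ i, Flat (f i ≫ p)]
  [∀ i, LocallyOfFinitePresentation (f i ≫ p)]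

/-- the ideal sheaf on `S` of the closed subscheme representing `FacI · i`. -/
noncomputable def idealI (i : ι) : S.IdealSheafData :=
  idealW (f i ≫ p) (pullback.snd y (f i)).ker

theorem idealI_le_ker_iff {T : Scheme.{u}} (a : T ⟶ S) (i : ι) :
    idealI p Z f y i ≤ a.ker ↔ FacI p Z f y a i := by
  unfold idealI
  rw [idealW_le_ker_iff, ← exists_lift_iff]
  constructor
  · rintro ⟨l, hl⟩
    refine ⟨l ≫ pullback.fst y (f i), ?_⟩
    rw [Category.assoc, pullback.condition, ← Category.assoc, hl]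
  · rintro ⟨l, hl⟩
    exact ⟨pullback.lift l (pullback.fst (f i ≫ p) a) hl, pullback.lift_snd _ _ _⟩

/-- **The closed subscheme of `S` representing `FacX`.** -/
theorem iSup_idealI_le_ker_iff (hd : UnivDominant p Z f) {T : Scheme.{u}} (a : T ⟶ S) :
    (⨆ i, idealI p Z f y i) ≤ a.ker ↔ FacX p y a := by
  rw [iSup_le_iff]
  constructor
  · intro h
    exact facX_of_facI p Z f y hd a (fun i => (idealI_le_ker_iff p Z f y a i).mp (h i))
  · intro h i
    exact (idealI_le_ker_iff p Z f y a i).mpr (facI_of_facX p Z f y a h i)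

end Family

section Noeth

/-- **Over a Noetherian scheme, a directed family of ideal sheaves has a greatest element.** -/
theorem exists_eq_iSup_of_directed {S : Scheme.{u}} [IsNoetherian S] {ι : Type*} [Nonempty ι]
    (I : ι → S.IdealSheafData) (hdir : Directed (· ≤ ·) I) :
    ∃ i₀, ⨆ i, I i = I i₀ := by
  obtain ⟨𝒰, h𝒰⟩ : ∃ 𝒰 : S.OpenCover, 𝒰 = S.affineCover.finiteSubcover := ⟨_, rfl⟩
  haveI : Finite 𝒰.I₀ := by
    rw [h𝒰]
    infer_instance
  haveI : ∀ k, IsAffine (𝒰.X k) := by
    rw [h𝒰]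
    intro k
    infer_instance
  have hU : ∀ k, IsAffineOpen (𝒰.f k).opensRange := fun k => isAffineOpen_opensRange (𝒰.f k)
  have hcov : ⨆ k, (⟨(𝒰.f k).opensRange, hU k⟩ : S.affineOpens).1 = ⊤ := 𝒰.iSup_opensRange
  -- a maximal ideal among the `(I i)(U k)`
  have hmax : ∀ k, ∃ ik : ι, ∀ i, (I ik).ideal ⟨_, hU k⟩ ≤ (I i).ideal ⟨_, hU k⟩ →
      (I i).ideal ⟨_, hU k⟩ = (I ik).ideal ⟨_, hU k⟩ := by
    intro k
    haveI : IsNoetherianRing Γ(S, (𝒰.f k).opensRange) :=
      IsLocallyNoetherian.component_noetherian ⟨_, hU k⟩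
    have hwf : WellFoundedGT (Ideal Γ(S, (𝒰.f k).opensRange)) := inferInstance
    obtain ⟨_, ⟨ik, rfl⟩, hik⟩ := hwf.wf.has_min
      (Set.range fun i => (I i).ideal ⟨(𝒰.f k).opensRange, hU k⟩) ⟨_, ⟨Classical.arbitrary ι, rfl⟩⟩
    refine ⟨ik, fun i hle => ?_⟩
    by_contra hne
    exact hik _ ⟨i, rfl⟩ (lt_of_le_of_ne hle (Ne.symm hne))
  choose ik hik using hmax
  cases nonempty_fintype 𝒰.I₀
  classical
  obtain ⟨i₀, hi₀⟩ := hdir.finset_le (Finset.univ.image ik)
  refine ⟨i₀, le_antisymm (iSup_le fun i => ?_) (le_iSup I i₀)⟩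
  refine Scheme.IdealSheafData.le_of_iSup_eq_top
    (fun k => (⟨(𝒰.f k).opensRange, hU k⟩ : S.affineOpens)) hcov (fun k => ?_)
  obtain ⟨j, hij, hi₀j⟩ := hdir i i₀
  have h1 : I (ik k) ≤ I i₀ := hi₀ (ik k) (Finset.mem_image_of_mem _ (Finset.mem_univ k))
  have h2 : (I j).ideal ⟨_, hU k⟩ = (I (ik k)).ideal ⟨_, hU k⟩ :=
    hik k j ((h1.trans hi₀j) _)
  calc (I i).ideal ⟨_, hU k⟩ ≤ (I j).ideal ⟨_, hU k⟩ := hij _
    _ = (I (ik k)).ideal ⟨_, hU k⟩ := h2
    _ ≤ (I i₀).ideal ⟨_, hU k⟩ := h1 _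

end Noeth

end Groth.Agent.Lib.R2H3.DenseWeil
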