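import Mathlib
import Groth.Agent.Lib.R2H3DenseWeil

/-!
# Transporter-type conditions cut out closed subschemes (helper3, round 2)

Let `H`, `G`, `W`, `K` be `S`-schemes, `c : H ⊗ G ⟶ W` an `S`-morphism and `k : K ⟶ W` a closed
immersion.  If `H` carries a universally schematically dominant family of finite locally free
`S`-schemes `f i : Z i ⟶ H`, the subfunctor of `G` of those `g` with `c (h, g) ∈ K` for all
points `h` of `H` is a closed subscheme of `G` (`exists_closed`), the intersection of the
closed subschemes where `c (f i z, g) ∈ K` for all points `z` of `Z i`.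
-/

set_option autoImplicit false
set_option linter.style.haveILetI false
set_option linter.unusedVariables false
set_option linter.unusedSectionVars false

universe u

open CategoryTheory CategoryTheory.Limits AlgebraicGeometry MonoidalCategory
  CartesianMonoidalCategory
open Groth.Agent.Lib.R2H3.ClosedWeil Groth.Agent.Lib.R2H3.DenseWeil

namespace Groth.Agent.Lib.R2H3.Transp

section BaseChange

variable {X S : Scheme.{u}} (p : X ⟶ S) {ι : Type*} (Z : ι → Scheme.{u}) (f : ∀ i, Z i ⟶ X)

/-- **Universal schematic dominance is stable under base change.** -/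
theorem univDominant_bc (hd : UnivDominant p Z f) {B : Scheme.{u}} (b : B ⟶ S) :
    UnivDominant (pullback.snd p b) (fun i => pullback (f i ≫ p) b)
      (fun i => bcm p Z f b i) := by
  intro T a V t ht
  let e := pullbackLeftPullbackSndIso p b a
  have h0 : e.inv.app V t = 0 := by
    apply hd T (a ≫ b) (e.inv ⁻¹ᵁ V) (e.inv.app V t)
    intro i
    obtain ⟨ki, hki⟩ : ∃ ki : pullback (f i ≫ p) (a ≫ b) ⟶
        pullback (bcm p Z f b i ≫ pullback.snd p b) a,
        ki ≫ bcm (pullback.snd p b) (fun i => pullback (f i ≫ p) b) (fun i => bcm p Z f b i) a i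
          = bcm p Z f (a ≫ b) i ≫ e.inv := by
      refine ⟨pullback.lift (pullback.lift (pullback.fst _ _) (pullback.snd _ _ ≫ a)
        (by rw [pullback.condition, Category.assoc])) (pullback.snd _ _) ?_, ?_⟩
      · simp [bcm, pullback.map, pullback.lift_fst, pullback.lift_snd, pullback.lift_fst_assoc, pullback.lift_snd_assoc]
      · apply pullback.hom_ext
        · apply pullback.hom_ext
          · simp [e, bcm, pullback.map, pullback.lift_fst, pullback.lift_snd, pullback.lift_fst_assoc, pullback.lift_snd_assoc]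
          · simp [e, bcm, pullback.map, pullback.lift_fst, pullback.lift_snd, pullback.lift_fst_assoc, pullback.lift_snd_assoc]
        · simp [e, bcm, pullback.map, pullback.lift_fst, pullback.lift_snd, pullback.lift_fst_assoc, pullback.lift_snd_assoc]
    have h1 : (bcm p Z f (a ≫ b) i ≫ e.inv).app V t = 0 := by
      rw [← hki, Scheme.Hom.comp_app]
      exact (congrArg (ki.app _).hom (ht i)).trans (map_zero _)
    rw [Scheme.Hom.comp_app] at h1
    exact h1
  have hinj : Function.Injective (e.inv.app V).hom :=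
    (ConcreteCategory.bijective_of_isIso (e.inv.app V)).injective
  exact hinj (h0.trans (map_zero _).symm)

variable {Y : Scheme.{u}} (y : Y ⟶ X) [IsClosedImmersion y]
  [∀ i, IsFinite (f i ≫ p)] [∀ i, Flat (f i ≫ p)] [∀ i, LocallyOfFinitePresentation (f i ≫ p)]

/-- the ideals `idealI` are monotone along morphisms of the family. -/
theorem idealI_mono {i j : ι} (c : Z j ⟶ Z i) (hc : c ≫ f i = f j) :
    idealI p Z f y j ≤ idealI p Z f y i := by
  have h1 : idealI p Z f y i ≤ (idealI p Z f y i).subschemeι.ker := by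
    rw [Scheme.IdealSheafData.ker_subschemeι]
  obtain ⟨l, hl⟩ := (idealI_le_ker_iff p Z f y _ i).mp h1
  have h2 : idealI p Z f y j ≤ (idealI p Z f y i).subschemeι.ker := by
    rw [idealI_le_ker_iff]
    refine ⟨pullback.map (f j ≫ p) _ (f i ≫ p) _ c (𝟙 _) (𝟙 _) ?_ ?_ ≫ l, ?_⟩
    · rw [Category.comp_id, ← Category.assoc, hc]
    · rw [Category.comp_id, Category.id_comp]
    · rw [Category.assoc, hl, pullback.lift_fst_assoc, Category.assoc, hc]
  rw [Scheme.IdealSheafData.ker_subschemeι] at h2
  exact h2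

end BaseChange

section Pointwise

/-- lifting through a pullback `c⁻¹(K)`. -/
lemma exists_lift_pullback_iff {Q A B C : Scheme.{u}} (c : A ⟶ B) (k : C ⟶ B) (φ : Q ⟶ A) :
    (∃ l : Q ⟶ pullback c k, l ≫ pullback.fst c k = φ) ↔ ∃ l' : Q ⟶ C, l' ≫ k = φ ≫ c := by
  constructor
  · rintro ⟨l, hl⟩
    refine ⟨l ≫ pullback.snd c k, ?_⟩
    rw [Category.assoc, ← pullback.condition, ← Category.assoc, hl]
  · rintro ⟨l', hl'⟩
    exact ⟨pullback.lift φ l' hl'.symm, pullback.lift_fst _ _ _⟩

variable {S : Scheme.{u}} {G W K : Over S} (k : K ⟶ W)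

/-- the universal point of `P ×_G X`. -/
lemma exists_lift_iff_forall {P : Scheme.{u}} (π : P ⟶ G.left) (ψ : P ⟶ W.left)
    (hψ : ψ ≫ W.hom = π ≫ G.hom) {X : Over S} (g : X ⟶ G) :
    (∃ l' : pullback π g.left ⟶ K.left, l' ≫ k.left = pullback.fst π g.left ≫ ψ) ↔
      ∀ (X' : Over S) (x : X' ⟶ X) (m : X'.left ⟶ P), m ≫ π = x.left ≫ g.left →
        ∃ κ : X' ⟶ K, κ.left ≫ k.left = m ≫ ψ := by
  constructor
  · rintro ⟨l', hl'⟩ X' x m hm
    refine ⟨Over.homMk (pullback.lift m x.left hm ≫ l') ?_, ?_⟩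
    · rw [← CategoryTheory.Over.w k, Category.assoc, ← Category.assoc l', hl', Category.assoc,
        pullback.lift_fst_assoc, hψ, ← Category.assoc, hm, Category.assoc,
        CategoryTheory.Over.w g, CategoryTheory.Over.w x]
    · simp only [Over.homMk_left]
      rw [Category.assoc, hl', pullback.lift_fst_assoc]
  · intro h
    obtain ⟨κ, hκ⟩ := h (Over.mk (pullback.snd π g.left ≫ X.hom))
      (Over.homMk (pullback.snd π g.left)) (pullback.fst π g.left) pullback.condition
    exact ⟨κ.left, hκ⟩

variable {H : Over S} (c : H ⊗ G ⟶ W)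

/-- `c.left` as a morphism from the fibre product. -/
noncomputable abbrev cl : pullback H.hom G.hom ⟶ W.left := c.left

/-- **Pointwise description of `FacX` over the base `G`.** -/
theorem facX_iff {X : Over S} (g : X ⟶ G) :
    FacX (pullback.snd H.hom G.hom) (pullback.fst (cl c) k.left) g.left ↔
      ∀ (X' : Over S) (x : X' ⟶ X) (h : X' ⟶ H), ∃ κ : X' ⟶ K, lift h (x ≫ g) ≫ c = κ ≫ k := by
  unfold FacX
  rw [exists_lift_pullback_iff, exists_lift_iff_forall k (pullback.snd H.hom G.hom) (cl c)
    ((CategoryTheory.Over.w c).trans (CategoryTheory.Over.w (snd H G)).symm) g]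
  constructor
  · intro h0 X' x h
    obtain ⟨κ, hκ⟩ := h0 X' x (lift h (x ≫ g)).left (by
      rw [← Over.snd_left, ← Over.comp_left, lift_snd, Over.comp_left])
    refine ⟨κ, ?_⟩
    ext
    rw [Over.comp_left, Over.comp_left]
    exact hκ.symm
  · intro h0 X' x m hm
    have hw : m ≫ (H ⊗ G).hom = X'.hom := by
      rw [← CategoryTheory.Over.w (snd H G), Over.snd_left, ← Category.assoc, hm, Category.assoc,
        CategoryTheory.Over.w g, CategoryTheory.Over.w x]
    obtain ⟨κ, hκ⟩ := h0 X' x ((Over.homMk m hw : X' ⟶ H ⊗ G) ≫ fst H G)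
    have h1 : lift ((Over.homMk m hw : X' ⟶ H ⊗ G) ≫ fst H G) (x ≫ g) = Over.homMk m hw := by
      apply CartesianMonoidalCategory.hom_ext
      · rw [lift_fst]
      · rw [lift_snd]
        ext
        simp only [Over.comp_left, Over.homMk_left, Over.snd_left]
        exact hm.symm
    refine ⟨κ, ?_⟩
    rw [h1] at hκ
    have := congrArg (fun t => t.left) hκ
    exact this.symm

variable {ι : Type*} (Z : ι → Scheme.{u}) (f : ∀ i, Z i ⟶ H.left)

/-- **Pointwise description of `FacI` over the base `G`.** -/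
theorem facI_iff (i : ι) {X : Over S} (g : X ⟶ G) :
    FacI (pullback.snd H.hom G.hom) (fun i => pullback (f i ≫ H.hom) G.hom)
        (fun i => bcm H.hom Z f G.hom i) (pullback.fst (cl c) k.left) g.left i ↔
      ∀ (X' : Over S) (x : X' ⟶ X) (z : X' ⟶ Over.mk (f i ≫ H.hom)),
        ∃ κ : X' ⟶ K, lift (z ≫ (Over.homMk (f i) rfl : Over.mk (f i ≫ H.hom) ⟶ H)) (x ≫ g) ≫ c
          = κ ≫ k := by
  unfold FacI
  rw [exists_lift_pullback_iff, Category.assoc,
    exists_lift_iff_forall k (bcm H.hom Z f G.hom i ≫ pullback.snd H.hom G.hom)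
      (bcm H.hom Z f G.hom i ≫ cl c)
      (by rw [Category.assoc, Category.assoc]; congr 1
          exact (CategoryTheory.Over.w c).trans (CategoryTheory.Over.w (snd H G)).symm) g]
  have hb1 : bcm H.hom Z f G.hom i ≫ pullback.snd H.hom G.hom =
      pullback.snd (f i ≫ H.hom) G.hom := by
    rw [pullback.lift_snd, Category.comp_id]
  have hb2 : bcm H.hom Z f G.hom i ≫ pullback.fst H.hom G.hom =
      pullback.fst (f i ≫ H.hom) G.hom ≫ f i := pullback.lift_fst _ _ _
  constructor
  · intro h0 X' x z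
    have hz : z.left ≫ f i ≫ H.hom = X'.hom := CategoryTheory.Over.w z
    obtain ⟨κ, hκ⟩ := h0 X' x (pullback.lift z.left (x ≫ g).left (by
      rw [hz, CategoryTheory.Over.w (x ≫ g)])) (by
      rw [hb1, pullback.lift_snd, Over.comp_left])
    refine ⟨κ, ?_⟩
    ext
    rw [Over.comp_left, Over.comp_left]
    refine Eq.trans ?_ hκ.symm
    rw [← Category.assoc]
    congr 1
    apply pullback.hom_ext
    · rw [Category.assoc, hb2, pullback.lift_fst_assoc, ← Over.fst_left, ← Over.comp_left,
        lift_fst, Over.comp_left]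
      simp only [Over.homMk_left]
    · rw [Category.assoc, hb1, pullback.lift_snd, ← Over.snd_left, ← Over.comp_left, lift_snd]
  · intro h0 X' x m hm
    have hw : (m ≫ pullback.fst (f i ≫ H.hom) G.hom) ≫ (Over.mk (f i ≫ H.hom)).hom = X'.hom := by
      change (m ≫ pullback.fst (f i ≫ H.hom) G.hom) ≫ f i ≫ H.hom = X'.hom
      rw [Category.assoc, pullback.condition, ← hb1, ← Category.assoc m, hm,
        Category.assoc, CategoryTheory.Over.w g, CategoryTheory.Over.w x]
    obtain ⟨κ, hκ⟩ := h0 X' x (Over.homMk (m ≫ pullback.fst (f i ≫ H.hom) G.hom) hw)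
    refine ⟨κ, ?_⟩
    have := congrArg (fun t => t.left) hκ
    refine Eq.trans this.symm ?_
    rw [Over.comp_left, ← Category.assoc]
    congr 1
    apply pullback.hom_ext
    · rw [← Over.fst_left, ← Over.comp_left, lift_fst, Over.comp_left]
      simp only [Over.homMk_left]
      rw [Category.assoc, Category.assoc, Over.fst_left, hb2]
    · rw [← Over.snd_left, ← Over.comp_left, lift_snd, Over.comp_left, Category.assoc]
      exact hm.symm

end Pointwise

section Main

variable {S : Scheme.{u}} {H G W K : Over S} (c : H ⊗ G ⟶ W) (k : K ⟶ W)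
  [IsClosedImmersion k.left]
  {ι : Type*} (Z : ι → Scheme.{u}) (f : ∀ i, Z i ⟶ H.left)
  [∀ i, IsFinite (f i ≫ H.hom)] [∀ i, Flat (f i ≫ H.hom)]
  [∀ i, LocallyOfFinitePresentation (f i ≫ H.hom)]

omit [IsClosedImmersion k.left] in
/-- factoring through the closed subscheme of `G` cut out by an ideal sheaf, in `Over S`. -/
lemma exists_over_lift_iff (I : G.left.IdealSheafData) {X : Over S} (g : X ⟶ G) :
    (∃ t : X ⟶ Over.mk (I.subschemeι ≫ G.hom),
        t ≫ (Over.homMk I.subschemeι rfl : Over.mk (I.subschemeι ≫ G.hom) ⟶ G) = g) ↔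
      I ≤ g.left.ker := by
  have h1 := exists_lift_iff I.subschemeι g.left
  rw [Scheme.IdealSheafData.ker_subschemeι] at h1
  rw [← h1]
  constructor
  · rintro ⟨t, ht⟩
    refine ⟨t.left, ?_⟩
    have := congrArg (fun t => t.left) ht
    exact this
  · rintro ⟨l, hl⟩
    refine ⟨Over.homMk l ?_, ?_⟩
    · change l ≫ I.subschemeι ≫ G.hom = X.hom
      rw [← Category.assoc, hl, CategoryTheory.Over.w g]
    · ext
      exact hl

/-- **The closed subscheme of `G` of points `g` with `c (h, g) ∈ K` for all `h`.** -/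
theorem exists_ideals (hd : UnivDominant H.hom Z f) :
    ∃ (J : ι → G.left.IdealSheafData),
      (∀ (i j : ι) (d : Z j ⟶ Z i), d ≫ f i = f j → J j ≤ J i) ∧
      (∀ {X : Over S} (g : X ⟶ G), (⨆ i, J i) ≤ g.left.ker ↔
        ∀ (X' : Over S) (x : X' ⟶ X) (h : X' ⟶ H),
          ∃ κ : X' ⟶ K, lift h (x ≫ g) ≫ c = κ ≫ k) ∧
      (∀ (i : ι) {X : Over S} (g : X ⟶ G), J i ≤ g.left.ker ↔
        ∀ (X' : Over S) (x : X' ⟶ X) (z : X' ⟶ Over.mk (f i ≫ H.hom)),
          ∃ κ : X' ⟶ K,
            lift (z ≫ (Over.homMk (f i) rfl : Over.mk (f i ≫ H.hom) ⟶ H)) (x ≫ g) ≫ c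
              = κ ≫ k) := by
  have hb1 : ∀ i, bcm H.hom Z f G.hom i ≫ pullback.snd H.hom G.hom =
      pullback.snd (f i ≫ H.hom) G.hom := fun i => by
    rw [pullback.lift_snd, Category.comp_id]
  haveI : ∀ i, IsFinite (bcm H.hom Z f G.hom i ≫ pullback.snd H.hom G.hom) := fun i => by
    rw [hb1]; infer_instance
  haveI : ∀ i, Flat (bcm H.hom Z f G.hom i ≫ pullback.snd H.hom G.hom) := fun i => by
    rw [hb1]; infer_instance
  haveI : ∀ i, LocallyOfFinitePresentation
      (bcm H.hom Z f G.hom i ≫ pullback.snd H.hom G.hom) := fun i => by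
    rw [hb1]; infer_instance
  refine ⟨fun i => idealI (pullback.snd H.hom G.hom) (fun i => pullback (f i ≫ H.hom) G.hom)
    (fun i => bcm H.hom Z f G.hom i) (pullback.fst (cl c) k.left) i, ?_, ?_, ?_⟩
  · intro i j d hd'
    refine idealI_mono (pullback.snd H.hom G.hom) (fun i => pullback (f i ≫ H.hom) G.hom)
      (fun i => bcm H.hom Z f G.hom i) (pullback.fst (cl c) k.left)
      (pullback.map (f j ≫ H.hom) G.hom (f i ≫ H.hom) G.hom d (𝟙 _) (𝟙 _) ?_ ?_) ?_
    · rw [Category.comp_id, ← Category.assoc, hd']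
    · rw [Category.comp_id, Category.id_comp]
    · apply pullback.hom_ext
      · simp [bcm, pullback.map, pullback.lift_fst, pullback.lift_snd, pullback.lift_fst_assoc,
          pullback.lift_snd_assoc, hd']
      · simp [bcm, pullback.map, pullback.lift_fst, pullback.lift_snd, pullback.lift_fst_assoc,
          pullback.lift_snd_assoc]
  · intro X g
    rw [iSup_idealI_le_ker_iff _ _ _ _ (univDominant_bc H.hom Z f hd G.hom) g.left]
    exact facX_iff k c g
  · intro i X g
    rw [idealI_le_ker_iff]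
    exact facI_iff k c Z f i g

end Main

end Groth.Agent.Lib.R2H3.Transp
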