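import Mathlib
import Groth.Prelude.Def_AlgGrp
import Groth.Agent.Lib.R2H1EssFreeWeil
import Groth.Agent.Lib.R2H3Transp
set_option backward.isDefEq.respectTransparency.types false

/-!
Transporter-type closed subschemes from local trivialising data (helper1, on top of R2H1EssFreeWeil + helper3 R2H3Transp): projMod_of_isPushout (projectivity stable under base change, pushout form), exists_closed_of_locData (c : H ⊗ G ⟶ W, k closed immersion, LocData for H ×_S G ⟶ G at every point: points g with c(h,g) in K for all h form a closed subscheme), exists_locData_of_proj (H affine over S with projective coordinate ring over an affine open), isClosedImmersion_equalizer_ι_left (separated target), s14840 (fixed points of an affine group with locally free coordinate ring).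
-/

set_option autoImplicit false
set_option linter.style.haveILetI false
set_option linter.unusedSectionVars false
universe u v

open CategoryTheory CategoryTheory.Limits AlgebraicGeometry TopologicalSpace Opposite

namespace Groth.Agent.Lib.R2H1.EssFreeTransp

section Part1

open CategoryTheory CategoryTheory.Limits AlgebraicGeometry MonoidalCategory
  CartesianMonoidalCategory TensorProduct
open Groth.Agent.Lib.R2H3.ClosedWeilAlg Groth.Agent.Lib.R2H3.ClosedWeil
open Groth.Agent.Lib.R2H3.DenseWeil Groth.Agent.Lib.R2H3.Transp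
open Groth.Agent.Lib.R2H1.EssFreeWeil

/-- projectivity is stable under base change (pushout form). -/
theorem projMod_of_isPushout {A B R C : CommRingCat.{u}} {f : A ⟶ B} {ψ : A ⟶ R} {β : B ⟶ C}
    {ρ : R ⟶ C} (H : IsPushout f ψ β ρ) (hf : ProjMod f) : ProjMod ρ := by
  unfold ProjMod at *
  letI := f.hom.toAlgebra
  letI : Algebra A R := ψ.hom.toAlgebra
  letI : Algebra R C := ρ.hom.toAlgebra
  haveI : Module.Projective A B := hf
  obtain ⟨e, he⟩ := Groth.Agent.Lib.R2H3.FibCritGeo.exists_equiv_of_isPushout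
    (A := A) (B := B) (A' := R) β ρ H
  let E : (R ⊗[A] B) ≃ₗ[R] C :=
    { e with
      map_smul' := fun r x => by
        change e (r • x) = r • e x
        rw [Algebra.smul_def, Algebra.smul_def, map_mul]
        congr 1
        rw [Algebra.TensorProduct.algebraMap_apply, he]
        simp only [Algebra.algebraMap_self, RingHom.id_apply, map_one, mul_one]
        rfl }
  exact Module.Projective.of_equiv E

section Transp

variable {S : Scheme.{u}} {H G W K : Over S} (c : H ⊗ G ⟶ W) (k : K ⟶ W)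
  [IsClosedImmersion k.left]

/-- **transporter-type closed subscheme from local trivialising data.** -/
theorem exists_closed_of_locData (D : G.left → LocData (pullback.snd H.hom G.hom))
    (hD : ∀ y : G.left, y ∈ (D y).U) :
    ∃ (C : Over S) (j : C ⟶ G), IsClosedImmersion j.left ∧
      ∀ (X : Over S) (g : X ⟶ G), (∃ z : X ⟶ C, z ≫ j = g) ↔
        ∀ (X' : Over S) (x : X' ⟶ X) (a : X' ⟶ H),
          ∃ κ : X' ⟶ K, lift a (x ≫ g) ≫ c = κ ≫ k := by
  refine ⟨Over.mk ((JJ (pullback.fst (cl c) k.left) D hD).subschemeι ≫ G.hom),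
    Over.homMk (JJ (pullback.fst (cl c) k.left) D hD).subschemeι rfl, ?_, fun X g => ?_⟩
  · change IsClosedImmersion (JJ (pullback.fst (cl c) k.left) D hD).subschemeι
    infer_instance
  · rw [exists_over_lift_iff, JJ_le_ker_iff, ← facX_iff k c g]
    unfold PP FacX
    exact (exists_lift_iff (pullback.fst (cl c) k.left) _).symm

end Transp

end Part1

section Part2

open CategoryTheory CategoryTheory.Limits AlgebraicGeometry MonoidalCategory
  CartesianMonoidalCategory TensorProduct
open Groth.Agent.Lib.R2H3.ClosedWeilAlg Groth.Agent.Lib.R2H3.ClosedWeil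
open Groth.Agent.Lib.R2H3.DenseWeil Groth.Agent.Lib.R2H3.Transp
open Groth.Agent.Lib.R2H1.EssFreeWeil


variable {S : Scheme.{u}} {H G : Over S} [IsAffineHom H.hom]

/-- local trivialising data for `H ×_S G ⟶ G` when `H` is affine over `S` with projective
coordinate ring over an affine open. -/
theorem exists_locData_of_proj (y : G.left) (U₀ : S.affineOpens) (hy : G.hom y ∈ U₀.1)
    (hproj : ProjMod (H.hom.app U₀.1)) :
    ∃ d : LocData (pullback.snd H.hom G.hom), y ∈ d.U := by
  obtain ⟨U, hU, hyU, hUle⟩ : ∃ U : G.left.Opens, IsAffineOpen U ∧ y ∈ U ∧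
      U ≤ G.hom ⁻¹ᵁ U₀.1 := by
    obtain ⟨_, ⟨U, hU, rfl⟩, hyU, hUle⟩ := G.left.isBasis_affineOpens.exists_subset_of_mem_open
      (show y ∈ ((G.hom ⁻¹ᵁ U₀.1 : G.left.Opens) : Set G.left) from hy) (G.hom ⁻¹ᵁ U₀.1).2
    exact ⟨U, hU, hyU, hUle⟩
  haveI : IsAffine (U : Scheme.{u}) := hU
  have Hsq : IsPullback
      (pullback.fst (pullback.snd H.hom G.hom) (𝟙 (U : Scheme.{u}) ≫ U.ι) ≫ pullback.fst H.hom G.hom)
      (pullback.snd (pullback.snd H.hom G.hom) (𝟙 (U : Scheme.{u}) ≫ U.ι))
      H.hom ((𝟙 (U : Scheme.{u}) ≫ U.ι) ≫ G.hom) :=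
    (IsPullback.of_hasPullback (pullback.snd H.hom G.hom) (𝟙 (U : Scheme.{u}) ≫ U.ι)).paste_horiz
      (IsPullback.of_hasPullback H.hom G.hom)
  have hle : (⊤ : (U : Scheme.{u}).Opens) ≤ ((𝟙 (U : Scheme.{u}) ≫ U.ι) ≫ G.hom) ⁻¹ᵁ U₀.1 := by
    intro x _
    change G.hom (U.ι ((𝟙 (U : Scheme.{u})) x)) ∈ U₀.1
    exact hUle x.2
  have hHU : IsAffineOpen (H.hom ⁻¹ᵁ U₀.1) := U₀.2.preimage H.hom
  have hproj' : ProjMod (H.hom.appLE U₀.1 (H.hom ⁻¹ᵁ U₀.1) le_rfl) := by
    rw [← Scheme.Hom.app_eq_appLE]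
    exact hproj
  have hVaff := Groth.Agent.Lib.R2H3.ProdChart.isAffineOpen_inf Hsq U₀.2 hHU
    (isAffineOpen_top (U : Scheme.{u})) le_rfl hle
  have hpush := Groth.Agent.Lib.R2H3.ProdChart.isPushout_appLE Hsq U₀.2 hHU
    (isAffineOpen_top (U : Scheme.{u})) le_rfl hle
  refine ⟨⟨U, hU, (U : Scheme.{u}), hU, 𝟙 _, inferInstance, inferInstance, PUnit.{u + 1},
    fun _ => ⟨_, hVaff⟩, fun x => ⟨PUnit.unit, ?_⟩, fun _ => projMod_of_isPushout hpush hproj'⟩, hyU⟩
  refine ⟨?_, trivial⟩
  change H.hom ((pullback.fst (pullback.snd H.hom G.hom) (𝟙 (U : Scheme.{u}) ≫ U.ι) ≫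
    pullback.fst H.hom G.hom) x) ∈ U₀.1
  rw [← Scheme.Hom.comp_apply, Hsq.w, Scheme.Hom.comp_apply]
  exact hle trivial

end Part2

section Part3

open CategoryTheory CategoryTheory.Limits AlgebraicGeometry MonoidalCategory
  CartesianMonoidalCategory TensorProduct
open Groth.Agent.Lib.R2H3.ClosedWeilAlg Groth.Agent.Lib.R2H3.ClosedWeil
open Groth.Agent.Lib.R2H3.DenseWeil Groth.Agent.Lib.R2H3.Transp
open Groth.Agent.Lib.R2H1.EssFreeWeil


set_option backward.isDefEq.respectTransparency false in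
/-- the equalizer of two morphisms to a separated `S`-scheme is a closed immersion. -/
theorem isClosedImmersion_equalizer_ι_left {S : Scheme.{u}} {X Y : Over S} [IsSeparated Y.hom]
    (f g : X ⟶ Y) : IsClosedImmersion (equalizer.ι f g).left := by
  refine MorphismProperty.of_isPullback
    ((Limits.isPullback_equalizer_prod f g).map (Over.forget _)).flip ?_
  rw [← MorphismProperty.cancel_right_of_respectsIso @IsClosedImmersion _
    (Over.prodLeftIsoPullback Y Y).hom]
  convert! (inferInstance : IsClosedImmersion (pullback.diagonal Y.hom))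
  ext1 <;> simp [← Over.comp_left]

theorem s14840 {S : Scheme.{u}} (G Y : Over S) [GrpObj G] (a : AlgGrp.Action G Y)
    [IsAffineHom G.hom] [IsSeparated Y.hom]
    (hfree : ∀ s : S, ∃ U : S.affineOpens, s ∈ (U : S.Opens) ∧
      @Module.Free Γ(S, U) Γ(G.left, G.hom ⁻¹ᵁ U) _ _ (G.hom.app U).hom.toAlgebra.toModule) :
    ∃ (Z : Over S) (i : Z ⟶ Y), IsClosedImmersion i.left ∧
      ∀ (T : Over S) (y : T ⟶ Y),
        (∀ (T' : Over S) (t : T' ⟶ T) (g : T' ⟶ G), lift g (t ≫ y) ≫ a.act = t ≫ y) ↔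
          ∃ z : T ⟶ Z, z ≫ i = y := by
  haveI : IsClosedImmersion (equalizer.ι a.act (snd G Y)).left :=
    isClosedImmersion_equalizer_ι_left a.act (snd G Y)
  have hloc : ∀ y : Y.left, ∃ d : LocData (pullback.snd G.hom Y.hom), y ∈ d.U := by
    intro y
    obtain ⟨U₀, hy, hfr⟩ := hfree (Y.hom y)
    refine exists_locData_of_proj (H := G) (G := Y) y U₀ hy ?_
    unfold ProjMod
    letI := (G.hom.app U₀.1).hom.toAlgebra
    haveI : Module.Free Γ(S, U₀.1) Γ(G.left, G.hom ⁻¹ᵁ U₀.1) := hfr
    exact Module.Projective.of_free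
  choose D hD using hloc
  obtain ⟨C, j, h1, h2⟩ := exists_closed_of_locData (H := G) (G := Y) (𝟙 (G ⊗ Y))
    (equalizer.ι a.act (snd G Y)) D hD
  refine ⟨C, j, h1, fun T y => ?_⟩
  rw [h2 T y]
  refine forall_congr' fun T' => forall_congr' fun t => forall_congr' fun g => ?_
  rw [Category.comp_id]
  constructor
  · intro h
    have h' : lift g (t ≫ y) ≫ a.act = lift g (t ≫ y) ≫ snd G Y := by
      rw [h, lift_snd]
    exact ⟨equalizer.lift _ h', (equalizer.lift_ι _ _).symm⟩
  · rintro ⟨κ, hκ⟩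
    rw [hκ, Category.assoc, equalizer.condition, ← Category.assoc, ← hκ, lift_snd]

end Part3

end Groth.Agent.Lib.R2H1.EssFreeTransp
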