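import Groth.Prelude.Def_EtRam
import Mathlib

/-!
# Valuation subrings dominating a DVR in a finite separable extension (helper1, round 2)

* `isLocalHom_codRestrict`, `dominates_iff`, `dominates_comap`, `dominates_comap_iff`
* `exists_comap_eq`: every valuation subring extends to a field extension
* `exists_eq_ofPrime`, `isDiscreteValuationRing_of_dominates(')`: a valuation subring of a finite
  separable extension of `Frac A` dominating the DVR `A` is a localization of the integral closure,
  hence a DVR
* `ramificationIdx'_tower`, `map_eq_pow_ramificationIdx'`, `isWeaklyUnramified_iff`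
-/

set_option autoImplicit false
set_option linter.style.haveILetI false
set_option linter.unusedSectionVars false
universe u

namespace Groth.Agent.Lib.R2H1.EtRam

open IsLocalRing


section Basic

variable {A : Type u} [CommRing A] [IsLocalRing A] {L : Type u} [Field L]

theorem isLocalHom_codRestrict (g : A →+* L) (V : ValuationSubring L) (h : EtRam.Dominates A g V) :
    IsLocalHom (RingHom.codRestrict g V h.1) := by
  constructor
  intro a ha
  by_contra hna
  have hm : a ∈ maximalIdeal A := (IsLocalRing.mem_maximalIdeal a).mpr hna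
  have h1 := h.2 a hm
  have h2 : V.valuation ((RingHom.codRestrict g V h.1 a : V) : L) = 1 :=
    (V.valuation_eq_one_iff _).mp ha
  rw [show ((RingHom.codRestrict g V h.1 a : V) : L) = g a from rfl] at h2
  exact absurd h2 (ne_of_lt h1)

/-- Domination in terms of the maximal ideal. -/
theorem dominates_iff (g : A →+* L) (V : ValuationSubring L) :
    EtRam.Dominates A g V ↔ ∃ h : ∀ a, g a ∈ V, ∀ a ∈ maximalIdeal A,
      (⟨g a, h a⟩ : V) ∈ maximalIdeal V := by
  constructor
  · intro h
    exact ⟨h.1, fun a ha => (V.valuation_lt_one_iff ⟨g a, h.1 a⟩).mpr (h.2 a ha)⟩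
  · rintro ⟨h, h2⟩
    exact ⟨h, fun a ha => (V.valuation_lt_one_iff ⟨g a, h a⟩).mp (h2 a ha)⟩

/-- Restriction of a dominating valuation subring along a field map. -/
theorem dominates_comap {M : Type u} [Field M] (f : L →+* M) (g : A →+* L)
    (W : ValuationSubring M) (h : EtRam.Dominates A (f.comp g) W) :
    EtRam.Dominates A g (W.comap f) := by
  refine ⟨fun a => h.1 a, fun a ha => ?_⟩
  have h1 := h.2 a ha
  rw [← ValuationSubring.mem_nonunits_iff] at h1 ⊢
  rw [ValuationSubring.mem_nonunits_iff_or] at h1 ⊢
  rcases h1 with h1 | h1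
  · left
    exact (map_eq_zero f).mp h1
  · right
    intro hc
    apply h1
    have : f ((g a)⁻¹) ∈ W := hc
    rwa [map_inv₀] at this

end Basic



section Ext

variable {L M : Type u} [Field L] [Field M]

/-- Every valuation subring of `L` is the restriction of a valuation subring of an extension `M`. -/
theorem exists_comap_eq (f : L →+* M) (V : ValuationSubring L) :
    ∃ W : ValuationSubring M, W.comap f = V := by
  obtain ⟨W, hW⟩ := (LocalSubring.map f V.toLocalSubring).exists_le_valuationSubring
  refine ⟨W, ?_⟩
  obtain ⟨hle, hloc⟩ := hW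
  have hVW : V ≤ W.comap f := by
    intro x hx
    show f x ∈ W
    exact hle ⟨x, hx, rfl⟩
  have hmax := V.isMax_toLocalSubring
  have hle2 : V.toLocalSubring ≤ (W.comap f).toLocalSubring := by
    refine ⟨hVW, ⟨?_⟩⟩
    rintro ⟨x, hx⟩ hu
    -- x is a unit in W.comap f
    have hu' : IsUnit (Subring.inclusion hle ⟨f x, ⟨x, hx, rfl⟩⟩) := by
      obtain ⟨⟨y, hy⟩, hxy⟩ := isUnit_iff_exists_inv.mp hu
      refine isUnit_iff_exists_inv.mpr ⟨⟨f y, hy⟩, ?_⟩
      apply Subtype.ext
      have := congrArg (fun z : (W.comap f).toLocalSubring.toSubring => f z.1) hxy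
      simpa [Subring.inclusion] using this
    have hu2 := hloc.1 _ hu'
    obtain ⟨⟨y, hy⟩, hxy⟩ := isUnit_iff_exists_inv.mp hu2
    obtain ⟨y', hy', rfl⟩ := hy
    refine isUnit_iff_exists_inv.mpr ⟨⟨y', hy'⟩, ?_⟩
    apply Subtype.ext
    have := congrArg Subtype.val hxy
    simp only [Subring.coe_mul, Subring.coe_one] at this
    apply f.injective
    simpa using this
  have := hmax hle2
  exact ValuationSubring.toLocalSubring_injective (le_antisymm this hle2)

end Ext



section DVR

theorem integralClosure_le {A L : Type u} [CommRing A] [Field L] [Algebra A L]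
    (V : ValuationSubring L) (hV : ∀ a : A, algebraMap A L a ∈ V) :
    (integralClosure A L).toSubring ≤ V.toSubring := by
  intro x hx
  obtain ⟨p, hp, hpx⟩ := hx
  have hint : IsIntegral V x := by
    refine ⟨p.map (RingHom.codRestrict (algebraMap A L) V hV), hp.map _, ?_⟩
    rw [Polynomial.eval₂_map]
    exact hpx
  obtain ⟨y, hy⟩ := IsIntegrallyClosed.isIntegral_iff.mp hint
  rw [← hy]
  exact y.2

/-- A subring of a field which is a valuation ring with that fraction field. -/
theorem mem_or_inv_mem_of_valuationRing {L : Type u} [Field L] (S : Subring L) [ValuationRing S]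
    [IsFractionRing S L] (x : L) : x ∈ S ∨ x⁻¹ ∈ S := by
  rcases ValuationRing.isInteger_or_isInteger S x with ⟨y, hy⟩ | ⟨y, hy⟩
  · left; rw [← hy]; exact y.2
  · right; rw [← hy]; exact y.2

set_option maxHeartbeats 400000 in
theorem exists_eq_ofPrime (A K L : Type u) [CommRing A] [IsDomain A] [IsDiscreteValuationRing A]
    [Field K] [Algebra A K] [IsFractionRing A K] [Field L] [Algebra K L] [Algebra A L]
    [IsScalarTower A K L] [FiniteDimensional K L] [Algebra.IsSeparable K L]
    (V : ValuationSubring L)
    (h : EtRam.Dominates A (algebraMap A L) V) :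
    ∃ (Q : Ideal (integralClosure A L).toSubring) (_ : Q.IsPrime), Q ≠ ⊥ ∧
      V.toSubring = (LocalSubring.ofPrime (integralClosure A L).toSubring Q).toSubring := by
  classical
  set R : Subring L := (integralClosure A L).toSubring with hR
  have hRV : R ≤ V.toSubring := integralClosure_le V h.1
  haveI : IsDedekindDomain R :=
    show IsDedekindDomain (integralClosure A L) from IsIntegralClosure.isDedekindDomain A K L _
  haveI : IsFractionRing R L :=
    show IsFractionRing (integralClosure A L) L from
      IsIntegralClosure.isFractionRing_of_finite_extension A K L _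
  let Q : Ideal R := (maximalIdeal V).comap (Subring.inclusion hRV)
  haveI hQp : Q.IsPrime := Ideal.comap_isPrime _ _
  have hinj : Function.Injective (algebraMap A L) := by
    rw [IsScalarTower.algebraMap_eq A K L]
    exact (algebraMap K L).injective.comp (IsFractionRing.injective A K)
  have hQ0 : Q ≠ ⊥ := by
    obtain ⟨π, hπ⟩ := IsDiscreteValuationRing.exists_irreducible A
    have hπm : π ∈ maximalIdeal A := by
      rw [IsLocalRing.mem_maximalIdeal]; exact hπ.not_isUnit
    have hπR : algebraMap A L π ∈ R := (integralClosure A L).algebraMap_mem π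
    intro hbot
    have hmem : (⟨algebraMap A L π, hπR⟩ : R) ∈ Q := by
      show Subring.inclusion hRV ⟨algebraMap A L π, hπR⟩ ∈ maximalIdeal V
      exact (V.valuation_lt_one_iff ⟨algebraMap A L π, h.1 π⟩).mpr (h.2 π hπm)
    rw [hbot, Ideal.mem_bot] at hmem
    have : algebraMap A L π = 0 := congrArg Subtype.val hmem
    exact hπ.ne_zero (hinj (by rw [this, map_zero]))
  refine ⟨Q, hQp, hQ0, ?_⟩
  set S : Subring L := (LocalSubring.ofPrime R Q).toSubring with hS
  haveI : IsDiscreteValuationRing S :=
    IsLocalization.AtPrime.isDiscreteValuationRing_of_dedekind_domain R hQ0 S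
  haveI : IsFractionRing S L :=
    IsFractionRing.isFractionRing_of_isDomain_of_isLocalization Q.primeCompl S L
  have hSv : ∀ x : L, x ∈ S ∨ x⁻¹ ∈ S := mem_or_inv_mem_of_valuationRing S
  -- elements of `S` as fractions
  have hfrac : ∀ y : S, ∃ (b : R) (s : R), s ∉ Q ∧ (y : L) * (s : L) = (b : L) := by
    intro y
    obtain ⟨⟨b, s⟩, hbs⟩ := IsLocalization.surj Q.primeCompl y
    refine ⟨b, s.1, s.2, ?_⟩
    exact congrArg Subtype.val hbs
  -- elements of `R` outside `Q` are units of `V`
  have hunit : ∀ s : R, s ∉ Q → (s : L)⁻¹ ∈ V := by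
    intro s hs
    have hs' : ¬ (Subring.inclusion hRV s) ∈ maximalIdeal V := hs
    have hs'' : IsUnit (Subring.inclusion hRV s : V) :=
      (IsLocalRing.notMem_maximalIdeal (R := V)).mp hs'
    obtain ⟨⟨t, ht⟩, hst⟩ := isUnit_iff_exists_inv.mp hs''
    have h1 : (s : L) * t = 1 := congrArg Subtype.val hst
    rw [← eq_inv_of_mul_eq_one_right h1]
    exact ht
  have hSV : S ≤ V.toSubring := by
    intro y hy
    obtain ⟨b, s, hs, hbs⟩ := hfrac ⟨y, hy⟩
    have hs0 : (s : L) ≠ 0 := by
      intro h0
      apply hs
      have : s = 0 := Subtype.ext h0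
      rw [this]; exact Q.zero_mem
    have : y = (b : L) * (s : L)⁻¹ := by
      rw [← hbs]; field_simp
    rw [this]
    exact V.mul_mem _ _ (hRV b.2) (hunit s hs)
  have hle : LocalSubring.ofPrime R Q ≤ V.toLocalSubring := by
    refine ⟨hSV, ⟨?_⟩⟩
    intro y hy
    obtain ⟨b, s, hs, hbs⟩ := hfrac y
    -- `b` is a unit of `V`, hence not in `Q`
    have hb : b ∉ Q := by
      intro hbQ
      have hbm : Subring.inclusion hRV b ∈ maximalIdeal V := hbQ
      have hsm : ¬ (Subring.inclusion hRV s) ∈ maximalIdeal V := hs
      have hsu : IsUnit (Subring.inclusion hRV s : V) :=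
        (IsLocalRing.notMem_maximalIdeal (R := V)).mp hsm
      have : Subring.inclusion hRV b = Subring.inclusion hSV y * Subring.inclusion hRV s := by
        apply Subtype.ext
        exact hbs.symm
      rw [this] at hbm
      have hu : IsUnit ((Subring.inclusion hSV y : V) * (Subring.inclusion hRV s : V)) :=
        IsUnit.mul hy hsu
      exact (IsLocalRing.notMem_maximalIdeal (R := V)).mpr hu hbm
    have hbu : IsUnit (algebraMap R S b) :=
      IsLocalization.map_units S (⟨b, hb⟩ : Q.primeCompl)
    have hys : y * algebraMap R S s = algebraMap R S b := Subtype.ext hbs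
    rw [← hys] at hbu
    exact isUnit_of_mul_isUnit_left hbu
  have hmax := (ValuationSubring.ofSubring S hSv).isMax_toLocalSubring
  have heq : (ValuationSubring.ofSubring S hSv).toLocalSubring = LocalSubring.ofPrime R Q :=
    LocalSubring.toSubring_injective rfl
  rw [heq] at hmax
  have := le_antisymm (hmax hle) hle
  exact congrArg LocalSubring.toSubring this

end DVR



theorem isDiscreteValuationRing_of_dominates (A K L : Type u) [CommRing A] [IsDomain A]
    [IsDiscreteValuationRing A]
    [Field K] [Algebra A K] [IsFractionRing A K] [Field L] [Algebra K L] [Algebra A L]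
    [IsScalarTower A K L] [FiniteDimensional K L] [Algebra.IsSeparable K L]
    (V : ValuationSubring L)
    (h : EtRam.Dominates A (algebraMap A L) V) : IsDiscreteValuationRing V := by
  obtain ⟨Q, hQp, hQ0, heq⟩ := exists_eq_ofPrime A K L V h
  haveI : IsDedekindDomain (integralClosure A L).toSubring :=
    show IsDedekindDomain (integralClosure A L) from IsIntegralClosure.isDedekindDomain A K L _
  haveI : IsDiscreteValuationRing (LocalSubring.ofPrime (integralClosure A L).toSubring Q).toSubring :=
    IsLocalization.AtPrime.isDiscreteValuationRing_of_dedekind_domain _ hQ0 _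
  exact IsDiscreteValuationRing.RingEquivClass.isDiscreteValuationRing (RingEquiv.subringCongr heq.symm)

/-- Version with the structure map `A → K → L`. -/
theorem isDiscreteValuationRing_of_dominates' (A K L : Type u) [CommRing A] [IsDomain A]
    [IsDiscreteValuationRing A]
    [Field K] [Algebra A K] [IsFractionRing A K] [Field L] [Algebra K L]
    [FiniteDimensional K L] [Algebra.IsSeparable K L]
    (V : ValuationSubring L)
    (h : EtRam.Dominates A ((algebraMap K L).comp (algebraMap A K)) V) :
    IsDiscreteValuationRing V := by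
  letI : Algebra A L := ((algebraMap K L).comp (algebraMap A K)).toAlgebra
  haveI : IsScalarTower A K L := IsScalarTower.of_algebraMap_eq (fun _ => rfl)
  exact isDiscreteValuationRing_of_dominates A K L V h



section Tower

theorem map_maximalIdeal_ne_bot {V W : Type u} [CommRing V] [IsDomain V] [IsDiscreteValuationRing V]
    [CommRing W] [Algebra V W] (hVW : Function.Injective (algebraMap V W)) :
    (maximalIdeal V).map (algebraMap V W) ≠ ⊥ := by
  rw [Ne, Ideal.map_eq_bot_iff_of_injective hVW]
  exact IsDiscreteValuationRing.not_a_field V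

theorem map_maximalIdeal_le {V W : Type u} [CommRing V] [IsLocalRing V]
    [CommRing W] [IsLocalRing W] [Algebra V W] [h : IsLocalHom (algebraMap V W)] :
    (maximalIdeal V).map (algebraMap V W) ≤ maximalIdeal W :=
  ((local_hom_TFAE (algebraMap V W)).out 0 2).mp h

variable {A V W : Type u} [CommRing A] [IsLocalRing A]
  [CommRing V] [IsDomain V] [IsDiscreteValuationRing V]
  [CommRing W] [IsDomain W] [IsDiscreteValuationRing W]
  [Algebra A V] [Algebra V W] [Algebra A W] [IsScalarTower A V W]
  [IsLocalHom (algebraMap V W)]

theorem ramificationIdx'_tower (hVW : Function.Injective (algebraMap V W))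
    (hAW : (maximalIdeal A).map (algebraMap A W) ≠ ⊥) :
    Ideal.ramificationIdx' (maximalIdeal A) (maximalIdeal W) =
      Ideal.ramificationIdx' (maximalIdeal A) (maximalIdeal V) *
        Ideal.ramificationIdx' (maximalIdeal V) (maximalIdeal W) :=
  Ideal.ramificationIdx'_algebra_tower (map_maximalIdeal_ne_bot hVW) hAW map_maximalIdeal_le

end Tower

section DVRIdx

variable {A V : Type u} [CommRing A] [CommRing V] [IsDomain V] [IsDiscreteValuationRing V]
  [Algebra A V]

/-- In a DVR, an extended ideal is the power of the maximal ideal given by the ramification index. -/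
theorem map_eq_pow_ramificationIdx' (I : Ideal A) (hI : I.map (algebraMap A V) ≠ ⊥) :
    I.map (algebraMap A V) = maximalIdeal V ^ Ideal.ramificationIdx' I (maximalIdeal V) := by
  obtain ⟨π, hπ⟩ := IsDiscreteValuationRing.exists_irreducible V
  obtain ⟨n, hn⟩ := IsDiscreteValuationRing.ideal_eq_span_pow_irreducible hI hπ
  have hm : maximalIdeal V = Ideal.span {π} := (IsDiscreteValuationRing.irreducible_iff_uniformizer π).mp hπ
  have hpow : I.map (algebraMap A V) = maximalIdeal V ^ n := by
    rw [hn, hm, Ideal.span_singleton_pow]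
  have : Ideal.ramificationIdx' I (maximalIdeal V) = n := by
    apply Ideal.ramificationIdx'_spec
    · rw [hpow]
    · rw [hpow]
      intro hle
      have := Ideal.pow_succ_lt_pow (IsDiscreteValuationRing.not_a_field V) n
      exact absurd hle (not_le_of_gt this)
  rw [this, hpow]

theorem isWeaklyUnramified_iff [IsLocalRing A] (hA : (maximalIdeal A).map (algebraMap A V) ≠ ⊥) :
    EtRam.IsWeaklyUnramified A V ↔
      Ideal.ramificationIdx' (maximalIdeal A) (maximalIdeal V) = 1 := by
  unfold EtRam.IsWeaklyUnramified
  constructor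
  · intro h
    apply Ideal.ramificationIdx'_spec
    · rw [h, pow_one]
    · rw [h]
      intro hle
      have := Ideal.pow_succ_lt_pow (IsDiscreteValuationRing.not_a_field V) 1
      rw [pow_one] at this
      exact absurd hle (not_le_of_gt this)
  · intro h
    rw [map_eq_pow_ramificationIdx' _ hA, h, pow_one]

end DVRIdx

section Basic2

variable {A : Type u} [CommRing A] [IsLocalRing A] {L M : Type u} [Field L] [Field M]

/-- Converse of `dominates_comap`. -/
theorem dominates_of_comap (f : L →+* M) (g : A →+* L)
    (W : ValuationSubring M) (h : EtRam.Dominates A g (W.comap f)) :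
    EtRam.Dominates A (f.comp g) W := by
  refine ⟨fun a => h.1 a, fun a ha => ?_⟩
  have h1 := h.2 a ha
  rw [← ValuationSubring.mem_nonunits_iff] at h1 ⊢
  rw [ValuationSubring.mem_nonunits_iff_or] at h1 ⊢
  rcases h1 with h1 | h1
  · left
    simp [h1]
  · right
    intro hc
    apply h1
    show f ((g a)⁻¹) ∈ W
    rw [map_inv₀]
    exact hc

theorem dominates_comap_iff (f : L →+* M) (g : A →+* L) (W : ValuationSubring M) :
    EtRam.Dominates A g (W.comap f) ↔ EtRam.Dominates A (f.comp g) W :=
  ⟨dominates_of_comap f g W, dominates_comap f g W⟩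

end Basic2

end Groth.Agent.Lib.R2H1.EtRam
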