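import Mathlib
import Groth.Prelude.Def_EtRam
import Groth.Agent.Lib.R2H1EtRam

/-!
# (Weak) solutions go down a tower of discrete valuation rings (R2H1)

Given extensions of discrete valuation rings `B → C` with fraction fields `L ⊂ M₀`, an algebraic
extension `M/L` and a valuation subring `W` of `M` dominating `B`, we construct a field `N`
receiving `M₀` and `M` compatibly, generated by them, with a valuation subring `W'` dominating `C`
and restricting to `W` (`exists_extension`, via a minimal prime of `C ⊗[B] W` below a prime over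
both maximal ideals).  Weak unramifiedness and geometric reducedness of the residue extension
descend from `W'` to `W` (`isWeaklyUnramified_descend`, `isGeometricallyReduced_descend`), which
gives `exists_local_ext_over` (S1988).
-/

set_option autoImplicit false
set_option linter.unusedSectionVars false
set_option linter.style.haveILetI false

universe u

namespace Groth.Agent.Lib.R2H1.EtRamTower

section
open IsLocalRing TensorProduct

section Amalgam

variable (B C W₀ : Type u) [CommRing B] [IsDomain B] [IsLocalRing B]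
  [CommRing C] [IsDomain C] [IsLocalRing C] [Algebra B C] [IsLocalHom (algebraMap B C)]
  [CommRing W₀] [IsDomain W₀] [IsLocalRing W₀] [Algebra B W₀] [IsLocalHom (algebraMap B W₀)]

/-- the map to the tensor product of residue fields -/
noncomputable def rho : C ⊗[B] W₀ →+* ResidueField C ⊗[ResidueField B] ResidueField W₀ :=
  (Algebra.TensorProduct.mapOfCompatibleSMul (ResidueField B) B B (ResidueField C)
    (ResidueField W₀)).toRingHom.comp
  (Algebra.TensorProduct.map (IsScalarTower.toAlgHom B C (ResidueField C))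
    (IsScalarTower.toAlgHom B W₀ (ResidueField W₀))).toRingHom

theorem rho_tmul (c : C) (w : W₀) : rho B C W₀ (c ⊗ₜ w) = residue C c ⊗ₜ residue W₀ w := rfl

/-- a prime of `C ⊗ W₀` over both maximal ideals -/
theorem exists_prime_over : ∃ r : Ideal (C ⊗[B] W₀), r.IsPrime ∧
    (∀ c ∈ maximalIdeal C, c ⊗ₜ[B] (1 : W₀) ∈ r) ∧ ∀ w ∈ maximalIdeal W₀, (1 : C) ⊗ₜ[B] w ∈ r := by
  haveI : Nontrivial (ResidueField C ⊗[ResidueField B] ResidueField W₀) :=
    Algebra.TensorProduct.nontrivial_of_algebraMap_injective_of_isDomain _ _ _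
      (algebraMap (ResidueField B) (ResidueField C)).injective
      (algebraMap (ResidueField B) (ResidueField W₀)).injective
  obtain ⟨m, hm⟩ := Ideal.exists_maximal (ResidueField C ⊗[ResidueField B] ResidueField W₀)
  refine ⟨m.comap (rho B C W₀), Ideal.comap_isPrime _ _, fun c hc => ?_, fun w hw => ?_⟩
  · rw [Ideal.mem_comap, rho_tmul, (residue_eq_zero_iff c).mpr hc, zero_tmul]
    exact m.zero_mem
  · rw [Ideal.mem_comap, rho_tmul, (residue_eq_zero_iff w).mpr hw, tmul_zero]
    exact m.zero_mem

end Amalgam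

end

section
open IsLocalRing TensorProduct

section Amalgam

variable (B C W₀ : Type u) [CommRing B] [IsDomain B] [IsLocalRing B]
  [CommRing C] [IsDomain C] [IsLocalRing C] [Algebra B C] [IsLocalHom (algebraMap B C)]
  [CommRing W₀] [IsDomain W₀] [IsLocalRing W₀] [Algebra B W₀] [IsLocalHom (algebraMap B W₀)]

theorem exists_amalgam [Module.Flat B C] [Module.Flat B W₀]
    (hC : ∀ c : C, c ≠ 0 → ∃ b : B, b ≠ 0 ∧ algebraMap B C b ∈ Ideal.span {c})
    (hW : ∀ w : W₀, w ≠ 0 → ∃ b : B, b ≠ 0 ∧ algebraMap B W₀ b ∈ Ideal.span {w}) :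
    ∃ (N : Type u) (_ : Field N) (i : C →+* N) (j : W₀ →+* N) (W' : ValuationSubring N),
      Function.Injective i ∧ Function.Injective j ∧
      i.comp (algebraMap B C) = j.comp (algebraMap B W₀) ∧
      (∀ c, i c ∈ W') ∧ (∀ w, j w ∈ W') ∧
      (∀ c ∈ maximalIdeal C, i c ∈ W'.nonunits) ∧ (∀ w ∈ maximalIdeal W₀, j w ∈ W'.nonunits) ∧
      ∀ F : Subfield N, (∀ c, i c ∈ F) → (∀ w, j w ∈ F) → F = ⊤ := by
  classical
  obtain ⟨r, hr, hrC, hrW⟩ := exists_prime_over B C W₀
  obtain ⟨P, hPmin, hPr⟩ := Ideal.exists_minimalPrimes_le (I := ⊥) (J := r) bot_le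
  haveI hPprime : P.IsPrime := hPmin.1.1
  -- nonzero elements of `B` are not in `P`
  have hBP : ∀ b : B, b ≠ 0 → algebraMap B (C ⊗[B] W₀) b ∉ P := by
    intro b hb hbP
    have hreg : IsSMulRegular (C ⊗[B] W₀) b :=
      Module.Flat.isSMulRegular_of_nonZeroDivisors (mem_nonZeroDivisors_of_ne_zero hb)
    have hnzd : algebraMap B (C ⊗[B] W₀) b ∈ nonZeroDivisors (C ⊗[B] W₀) := by
      rw [mem_nonZeroDivisors_iff_right]
      intro x hx
      apply hreg
      show b • x = b • 0
      rw [smul_zero, Algebra.smul_def, mul_comm]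
      exact hx
    exact Set.disjoint_left.mp (Ideal.disjoint_nonZeroDivisors_of_mem_minimalPrimes hPmin) hbP hnzd
  let N := P.ResidueField
  let φ : C ⊗[B] W₀ →+* N := algebraMap (C ⊗[B] W₀) N
  have hφ : ∀ x, φ x = 0 ↔ x ∈ P := fun x => Ideal.algebraMap_residueField_eq_zero
  let i : C →+* N := φ.comp (Algebra.TensorProduct.includeLeft (R := B) (S := B) (A := C)
    (B := W₀)).toRingHom
  let j : W₀ →+* N := φ.comp (Algebra.TensorProduct.includeRight (R := B) (A := C)
    (B := W₀)).toRingHom
  have hi : ∀ c, i c = φ (c ⊗ₜ 1) := fun c => rfl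
  have hj : ∀ w, j w = φ (1 ⊗ₜ w) := fun w => rfl
  have hiB : ∀ b : B, i (algebraMap B C b) = φ (algebraMap B _ b) := by
    intro b
    rw [hi, Algebra.TensorProduct.algebraMap_apply]
  have hjB : ∀ b : B, j (algebraMap B W₀ b) = φ (algebraMap B _ b) := by
    intro b
    have h1 : (1 : C) ⊗ₜ[B] (algebraMap B W₀ b) = (algebraMap B C b) ⊗ₜ[B] (1 : W₀) := by
      rw [Algebra.algebraMap_eq_smul_one (A := W₀), Algebra.algebraMap_eq_smul_one (A := C),
        TensorProduct.smul_tmul]
    rw [hj, Algebra.TensorProduct.algebraMap_apply, h1]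
  have hiinj : Function.Injective i := by
    rw [injective_iff_map_eq_zero]
    intro c hc
    by_contra hc0
    obtain ⟨b, hb, hbc⟩ := hC c hc0
    obtain ⟨c', hc'⟩ := Ideal.mem_span_singleton'.mp hbc
    have h1 : i (algebraMap B C b) = 0 := by rw [← hc', map_mul, hc, mul_zero]
    rw [hiB, hφ] at h1
    exact hBP b hb h1
  have hjinj : Function.Injective j := by
    rw [injective_iff_map_eq_zero]
    intro w hw
    by_contra hw0
    obtain ⟨b, hb, hbw⟩ := hW w hw0
    obtain ⟨w', hw'⟩ := Ideal.mem_span_singleton'.mp hbw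
    have h1 : j (algebraMap B W₀ b) = 0 := by rw [← hw', map_mul, hw, mul_zero]
    rw [hjB, hφ] at h1
    exact hBP b hb h1
  -- the local ring and the valuation ring
  have hunit : ∀ s : r.primeCompl, IsUnit (φ s) := by
    intro s
    rw [isUnit_iff_ne_zero, Ne, hφ]
    exact fun h => s.2 (hPr h)
  let g : Localization.AtPrime r →+* N := IsLocalization.lift hunit
  have hg : ∀ x, g (algebraMap _ _ x) = φ x := fun x => IsLocalization.lift_eq hunit x
  obtain ⟨W', hW'mem, hW'loc⟩ := IsLocalRing.exists_factor_valuationRing g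
  have hφW : ∀ x, φ x ∈ W' := fun x => by rw [← hg]; exact hW'mem _
  have hφr : ∀ x ∈ r, φ x ∈ W'.nonunits := by
    intro x hx
    rw [ValuationSubring.mem_nonunits_iff_exists_mem_maximalIdeal]
    refine ⟨hφW x, ?_⟩
    rw [mem_maximalIdeal, mem_nonunits_iff]
    intro hu
    have hu' : IsUnit (g.codRestrict W'.toSubring hW'mem (algebraMap _ _ x)) := by
      convert hu using 1
      exact Subtype.ext (hg x)
    have := hW'loc.map_nonunit _ hu'
    have h2 : algebraMap (C ⊗[B] W₀) (Localization.AtPrime r) x ∈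
        maximalIdeal (Localization.AtPrime r) :=
      (IsLocalization.AtPrime.to_map_mem_maximal_iff _ r x).mpr hx
    exact h2 this
  refine ⟨N, inferInstance, i, j, W', hiinj, hjinj, ?_, fun c => hφW _, fun w => hφW _,
    fun c hc => hφr _ (hrC c hc), fun w hw => hφr _ (hrW w hw), ?_⟩
  · ext b
    simp only [RingHom.comp_apply]
    rw [hiB, hjB]
  · intro F hFi hFj
    have hFφ : ∀ x, φ x ∈ F := by
      intro x
      induction x using TensorProduct.induction_on with
      | zero => rw [map_zero]; exact F.zero_mem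
      | tmul c w =>
        have : c ⊗ₜ[B] w = (c ⊗ₜ 1) * (1 ⊗ₜ w) := by
          rw [Algebra.TensorProduct.tmul_mul_tmul, mul_one, one_mul]
        rw [this, map_mul]
        exact F.mul_mem (hFi c) (hFj w)
      | add x y hx hy => rw [map_add]; exact F.add_mem hx hy
    rw [eq_top_iff]
    intro z _
    obtain ⟨z', rfl⟩ := IsLocalRing.residue_surjective z
    obtain ⟨x, s, rfl⟩ := IsLocalization.exists_mk'_eq P.primeCompl z'
    have h1 : residue _ (IsLocalization.mk' (Localization.AtPrime P) x s) * φ s = φ x := by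
      show residue _ _ * residue _ (algebraMap _ _ (s : C ⊗[B] W₀)) = residue _ (algebraMap _ _ x)
      rw [← map_mul, IsLocalization.mk'_spec]
    have h2 : φ s ≠ 0 := by
      rw [Ne, hφ]; exact s.2
    have h3 : residue _ (IsLocalization.mk' (Localization.AtPrime P) x s) = φ x / φ s := by
      rw [eq_div_iff h2, h1]
    rw [h3]
    exact F.div_mem (hFφ x) (hFφ s)

end Amalgam

end

section
open IsLocalRing TensorProduct Polynomial

theorem eval₂_mem_subring {B M : Type u} [CommRing B] [CommRing M] (g : B →+* M) (W : Subring M)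
    (hg : ∀ b, g b ∈ W) (w : M) (hw : w ∈ W) (r : B[X]) : eval₂ g w r ∈ W := by
  rw [eval₂_eq_sum_range]
  exact Subring.sum_mem _ fun k _ => W.mul_mem (hg _) (W.pow_mem hw k)

theorem exists_ne_zero_mul_eq {B L M : Type u} [CommRing B] [IsDomain B] [Field L] [Algebra B L]
    [IsFractionRing B L] [Field M] [Algebra L M] (W : Subring M)
    (hBW : ∀ b : B, algebraMap L M (algebraMap B L b) ∈ W) (w : M) (hw : w ∈ W) (hw0 : w ≠ 0)
    (halg : IsAlgebraic L w) :
    ∃ b : B, b ≠ 0 ∧ ∃ y ∈ W, algebraMap L M (algebraMap B L b) = y * w := by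
  set p := minpoly L w with hp
  have hp0 : p.coeff 0 ≠ 0 := minpoly.coeff_zero_ne_zero halg.isIntegral hw0
  set q := IsLocalization.integerNormalization (nonZeroDivisors B) p with hq
  have hpw : eval₂ (algebraMap L M) w p = 0 := by
    rw [← aeval_def]; exact minpoly.aeval L w
  have hqw : eval₂ ((algebraMap L M).comp (algebraMap B L)) w q = 0 :=
    IsLocalization.integerNormalization_eval₂_eq_zero (nonZeroDivisors B) (algebraMap L M) p hpw
  obtain ⟨b, hb, hbq⟩ := IsLocalization.integerNormalization_spec (nonZeroDivisors B) p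
  have hq0 : q.coeff 0 ≠ 0 := by
    intro h0
    have h1 := congrArg (fun r => r.coeff 0) hbq
    simp only [coeff_map, coeff_smul] at h1
    rw [← hq, h0, map_zero, Algebra.smul_def] at h1
    have hb0 : algebraMap B L b ≠ 0 := by
      rw [Ne, IsFractionRing.to_map_eq_zero_iff]; exact nonZeroDivisors.ne_zero hb
    exact (mul_ne_zero hb0 hp0) h1.symm
  refine ⟨q.coeff 0, hq0, -(eval₂ ((algebraMap L M).comp (algebraMap B L)) w (divX q)),
    W.neg_mem (eval₂_mem_subring _ W hBW w hw _), ?_⟩
  have h2 : eval₂ ((algebraMap L M).comp (algebraMap B L)) w (divX q * X + C (q.coeff 0)) = 0 := by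
    rw [divX_mul_X_add]; exact hqw
  rw [eval₂_add, eval₂_mul, eval₂_X, eval₂_C] at h2
  have h3 : ((algebraMap L M).comp (algebraMap B L)) (q.coeff 0) =
      algebraMap L M (algebraMap B L (q.coeff 0)) := rfl
  rw [h3] at h2
  linear_combination h2

theorem exists_ne_zero_mem_span_of_dvr {B C : Type u} [CommRing B] [IsDomain B] [IsLocalRing B]
    (hB : ¬ IsField B) [CommRing C] [IsDomain C] [IsDiscreteValuationRing C] [Algebra B C]
    [IsLocalHom (algebraMap B C)] (c : C)
    (hc : c ≠ 0) : ∃ b : B, b ≠ 0 ∧ algebraMap B C b ∈ Ideal.span {c} := by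
  have hm : maximalIdeal B ≠ ⊥ := fun h => hB (IsLocalRing.isField_iff_maximalIdeal_eq.mpr h)
  obtain ⟨π, hπm, hπ0⟩ := Submodule.exists_mem_ne_zero_of_ne_bot hm
  have hπC : algebraMap B C π ∈ maximalIdeal C := by
    rw [mem_maximalIdeal, mem_nonunits_iff]
    intro hu
    exact hπm (IsLocalHom.map_nonunit π hu)
  obtain ⟨ϖ, hϖ⟩ := IsDiscreteValuationRing.exists_irreducible C
  have hspan : Ideal.span {c} ≠ ⊥ := by
    rw [Ne, Ideal.span_singleton_eq_bot]; exact hc
  obtain ⟨k, hk⟩ := IsDiscreteValuationRing.ideal_eq_span_pow_irreducible hspan hϖ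
  refine ⟨π ^ k, pow_ne_zero k hπ0, ?_⟩
  rw [hk, map_pow, ← Ideal.span_singleton_pow, ← hϖ.maximalIdeal_eq]
  exact Ideal.pow_mem_pow hπC k

end

section
open IsLocalRing TensorProduct Polynomial Groth.Agent.Lib.R2H1.EtRam

theorem exists_extension (B C L M₀ M : Type u) [CommRing B] [IsDomain B]
    [IsDiscreteValuationRing B]
    [CommRing C] [IsDomain C] [IsDiscreteValuationRing C] [Algebra B C]
    [IsLocalHom (algebraMap B C)] (hinj : Function.Injective (algebraMap B C))
    [Field L] [Field M₀] [Field M] [Algebra L M₀] [Algebra L M] [Algebra.IsAlgebraic L M]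
    [Algebra B L] [IsFractionRing B L] [Algebra C M₀] [IsFractionRing C M₀] [Algebra B M₀]
    [IsScalarTower B C M₀] [IsScalarTower B L M₀]
    (W : ValuationSubring M)
    (hdom : EtRam.Dominates B ((algebraMap L M).comp (algebraMap B L)) W) :
    ∃ (N : Type u) (_ : Field N) (i : M₀ →+* N) (j : M →+* N) (W' : ValuationSubring N),
      i.comp (algebraMap L M₀) = j.comp (algebraMap L M) ∧
      EtRam.Dominates C (i.comp (algebraMap C M₀)) W' ∧ W'.comap j = W ∧
      ∀ F : Subfield N, (∀ x, i x ∈ F) → (∀ y, j y ∈ F) → F = ⊤ := by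
  classical
  set g : B →+* M := (algebraMap L M).comp (algebraMap B L) with hg
  have hginj : Function.Injective g :=
    (algebraMap L M).injective.comp (IsFractionRing.injective B L)
  letI : Algebra B W := (RingHom.codRestrict g W hdom.1).toAlgebra
  haveI : IsLocalHom (algebraMap B W) := isLocalHom_codRestrict g W hdom
  have hBW : ∀ b : B, ((algebraMap B W b : W) : M) = g b := fun b => rfl
  have hinjW : Function.Injective (algebraMap B W) := by
    intro a b hab
    apply hginj
    rw [← hBW, ← hBW, hab]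
  haveI : Module.IsTorsionFree B C := Module.isTorsionFree_iff_algebraMap_injective.mpr hinj
  haveI : Module.IsTorsionFree B W := Module.isTorsionFree_iff_algebraMap_injective.mpr hinjW
  haveI : Module.Flat B C := inferInstance
  haveI : Module.Flat B W := inferInstance
  have hBnf : ¬ IsField B := IsDiscreteValuationRing.not_isField B
  have hC : ∀ c : C, c ≠ 0 → ∃ b : B, b ≠ 0 ∧ algebraMap B C b ∈ Ideal.span {c} :=
    fun c hc => exists_ne_zero_mem_span_of_dvr hBnf c hc
  have hW : ∀ w : W, w ≠ 0 → ∃ b : B, b ≠ 0 ∧ algebraMap B W b ∈ Ideal.span {w} := by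
    intro w hw
    have hw0 : (w : M) ≠ 0 := fun h => hw (Subtype.ext h)
    obtain ⟨b, hb, y, hy, hby⟩ := exists_ne_zero_mul_eq (B := B) (L := L) W.toSubring
      (fun b => hdom.1 b) (w : M) w.2 hw0 (Algebra.IsAlgebraic.isAlgebraic _)
    refine ⟨b, hb, Ideal.mem_span_singleton'.mpr ⟨⟨y, hy⟩, ?_⟩⟩
    apply Subtype.ext
    rw [hBW]
    exact hby.symm
  obtain ⟨N, hN, i, j, W', hiinj, hjinj, hij, hiW, hjW, hiC, hjWm, hgen⟩ :=
    exists_amalgam B C W hC hW
  let i' : M₀ →+* N := IsFractionRing.lift hiinj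
  let j' : M →+* N := IsFractionRing.lift hjinj
  have hi' : ∀ c : C, i' (algebraMap C M₀ c) = i c := fun c => IsFractionRing.lift_algebraMap hiinj c
  have hj' : ∀ w : W, j' (w : M) = j w := fun w => IsFractionRing.lift_algebraMap hjinj w
  refine ⟨N, hN, i', j', W', ?_, ⟨fun c => ?_, fun c hc => ?_⟩, ?_, ?_⟩
  · apply IsLocalization.ringHom_ext (nonZeroDivisors B)
    ext b
    simp only [RingHom.comp_apply]
    rw [← IsScalarTower.algebraMap_apply B L M₀, IsScalarTower.algebraMap_apply B C M₀, hi']
    have h1 : algebraMap L M (algebraMap B L b) = ((algebraMap B W b : W) : M) := rfl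
    rw [h1, hj']
    exact congrArg (fun f => f b) hij
  · show i' (algebraMap C M₀ c) ∈ W'
    rw [hi']; exact hiW c
  · show W'.valuation (i' (algebraMap C M₀ c)) < 1
    rw [hi', ← ValuationSubring.mem_nonunits_iff]; exact hiC c hc
  · ext y
    show j' y ∈ W' ↔ y ∈ W
    constructor
    · intro hy
      by_contra hyW
      have hy0 : y ≠ 0 := fun h => hyW (h ▸ W.zero_mem)
      have hinvW : y⁻¹ ∈ W := (W.mem_or_inv_mem y).resolve_left hyW
      have hinvm : (⟨y⁻¹, hinvW⟩ : W) ∈ maximalIdeal W := by
        rw [mem_maximalIdeal, mem_nonunits_iff]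
        intro hu
        apply hyW
        obtain ⟨⟨z, hz⟩, hzz⟩ := isUnit_iff_exists_inv.mp hu
        have h1 : y⁻¹ * z = 1 := congrArg Subtype.val hzz
        have h2 : z = y := by
          field_simp at h1
          exact h1
        rw [← h2]; exact hz
      have h3 := hjWm _ hinvm
      rw [← hj', ValuationSubring.mem_nonunits_iff] at h3
      have h4 : W'.valuation (j' y) ≤ 1 := (W'.valuation_le_one_iff _).mpr hy
      have h5 : W'.valuation (j' y) * W'.valuation (j' (y⁻¹ : M)) = 1 := by
        rw [← map_mul, ← map_mul, mul_inv_cancel₀ hy0, map_one, map_one]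
      have h6 : W'.valuation (j' y) * W'.valuation (j' (y⁻¹ : M)) < 1 := by
        calc W'.valuation (j' y) * W'.valuation (j' (y⁻¹ : M))
            ≤ 1 * W'.valuation (j' (y⁻¹ : M)) := mul_le_mul_left h4 _
          _ = W'.valuation (j' (y⁻¹ : M)) := one_mul _
          _ < 1 := h3
      rw [h5] at h6
      exact lt_irrefl _ h6
    · intro hy
      have := hj' ⟨y, hy⟩
      rw [show ((⟨y, hy⟩ : W) : M) = y from rfl] at this
      rw [this]; exact hjW _
  · intro F hFi hFj
    exact hgen F (fun c => by rw [← hi']; exact hFi _) (fun w => by rw [← hj']; exact hFj _)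

end

section
open IsLocalRing TensorProduct Polynomial Groth.Agent.Lib.R2H1.EtRam

theorem mem_map_maximalIdeal_iff {V R : Type*} [CommRing V] [IsDomain V] [ValuationRing V]
    [IsLocalRing V] [CommRing R] (φ : V →+* R) (x : R) :
    x ∈ Ideal.map φ (maximalIdeal V) ↔ ∃ a ∈ maximalIdeal V, ∃ y : R, x = φ a * y := by
  constructor
  · intro hx
    refine Submodule.span_induction (p := fun x _ => ∃ a ∈ maximalIdeal V, ∃ y : R, x = φ a * y)
      ?_ ?_ ?_ ?_ hx
    · rintro _ ⟨a, ha, rfl⟩
      exact ⟨a, ha, 1, (mul_one _).symm⟩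
    · exact ⟨0, Ideal.zero_mem _, 0, by simp⟩
    · rintro x₁ x₂ _ _ ⟨a₁, ha₁, y₁, rfl⟩ ⟨a₂, ha₂, y₂, rfl⟩
      rcases ValuationRing.dvd_total a₁ a₂ with ⟨c, rfl⟩ | ⟨c, rfl⟩
      · exact ⟨a₁, ha₁, y₁ + φ c * y₂, by rw [map_mul]; ring⟩
      · exact ⟨a₂, ha₂, φ c * y₁ + y₂, by rw [map_mul]; ring⟩
    · rintro r x _ ⟨a, ha, y, rfl⟩
      exact ⟨a, ha, r * y, by rw [smul_eq_mul]; ring⟩
  · rintro ⟨a, ha, y, rfl⟩
    exact Ideal.mul_mem_right _ _ (Ideal.mem_map_of_mem _ ha)

section Descend

variable {K₁ M N : Type u} [Field K₁] [Field M] [Field N]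

theorem mem_maximalIdeal_comap_iff (W : ValuationSubring M) (f : K₁ →+* M) (a : W.comap f) :
    a ∈ maximalIdeal (W.comap f) ↔ W.valuation (f a) < 1 := by
  rw [← ValuationSubring.mem_nonunits_iff, ValuationSubring.mem_nonunits_iff_or, mem_maximalIdeal,
    mem_nonunits_iff]
  constructor
  · intro hnu
    by_cases h0 : f a = 0
    · exact Or.inl h0
    · right
      intro hinv
      apply hnu
      have ha0 : (a : K₁) ≠ 0 := fun h => h0 (by rw [h, map_zero])
      have hmem : (a : K₁)⁻¹ ∈ W.comap f := by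
        show f _ ∈ W
        rw [map_inv₀]; exact hinv
      exact isUnit_iff_exists_inv.mpr ⟨⟨_, hmem⟩, Subtype.ext (mul_inv_cancel₀ ha0)⟩
  · rintro (h0 | hinv) hu
    · have ha0 : (a : K₁) = 0 := (map_eq_zero f).mp h0
      have : a = 0 := Subtype.ext ha0
      rw [this] at hu
      exact not_isUnit_zero hu
    · obtain ⟨⟨z, hz⟩, hzz⟩ := isUnit_iff_exists_inv.mp hu
      have h1 : (a : K₁) * z = 1 := congrArg Subtype.val hzz
      have ha0 : (a : K₁) ≠ 0 := left_ne_zero_of_mul_eq_one h1
      have h2 : z = (a : K₁)⁻¹ := eq_inv_of_mul_eq_one_right h1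
      apply hinv
      rw [← map_inv₀, ← h2]
      exact hz

theorem isWeaklyUnramified_descend (f : K₁ →+* M) (j : M →+* N) (W : ValuationSubring M)
    (W' : ValuationSubring N) (hW : W'.comap j = W)
    (h : letI : Algebra (W'.comap (j.comp f)) W' := (EtRam.inclOfComap W' (j.comp f)).toAlgebra
      EtRam.IsWeaklyUnramified (W'.comap (j.comp f)) W') :
    letI : Algebra (W.comap f) W := (EtRam.inclOfComap W f).toAlgebra
    EtRam.IsWeaklyUnramified (W.comap f) W := by
  letI : Algebra (W'.comap (j.comp f)) W' := (EtRam.inclOfComap W' (j.comp f)).toAlgebra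
  letI : Algebra (W.comap f) W := (EtRam.inclOfComap W f).toAlgebra
  have hmemW : ∀ y : M, y ∈ W ↔ j y ∈ W' := fun y => by rw [← hW]; rfl
  have hvalW : ∀ y : M, W.valuation y < 1 ↔ W'.valuation (j y) < 1 := by
    intro y
    rw [← ValuationSubring.mem_nonunits_iff, ← ValuationSubring.mem_nonunits_iff,
      ValuationSubring.mem_nonunits_iff_or, ValuationSubring.mem_nonunits_iff_or, map_eq_zero,
      hmemW, map_inv₀]
  unfold EtRam.IsWeaklyUnramified at h ⊢
  apply le_antisymm
  · rw [Ideal.map_le_iff_le_comap]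
    intro a ha
    rw [Ideal.mem_comap, mem_maximalIdeal, mem_nonunits_iff]
    intro hu
    exact ha (IsLocalHom.map_nonunit (f := EtRam.inclOfComap W f) a hu)
  · intro w hw
    have hw1 : W.valuation (w : M) < 1 := (W.valuation_lt_one_iff w).mp hw
    have hjw : j (w : M) ∈ W' := (hmemW _).mp w.2
    have hjwm : (⟨j (w : M), hjw⟩ : W') ∈ maximalIdeal W' :=
      (W'.valuation_lt_one_iff _).mpr ((hvalW _).mp hw1)
    rw [← h, mem_map_maximalIdeal_iff] at hjwm
    obtain ⟨a, ha, y, hy⟩ := hjwm
    have hy' : j (w : M) = j (f (a : K₁)) * (y : N) := congrArg Subtype.val hy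
    by_cases ha0 : (a : K₁) = 0
    · rw [ha0, map_zero, map_zero, zero_mul, map_eq_zero] at hy'
      have : w = 0 := Subtype.ext hy'
      rw [this]; exact Ideal.zero_mem _
    · have hfaW : f (a : K₁) ∈ W := (hmemW _).mpr a.2
      let a' : W.comap f := ⟨(a : K₁), hfaW⟩
      have ha' : a' ∈ maximalIdeal (W.comap f) := by
        rw [mem_maximalIdeal_comap_iff, hvalW]
        exact (mem_maximalIdeal_comap_iff W' (j.comp f) a).mp ha
      have hfa0 : f (a : K₁) ≠ 0 := fun h => ha0 ((map_eq_zero f).mp h)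
      have hy0 : (w : M) / f (a : K₁) ∈ W := by
        rw [hmemW, map_div₀, hy', mul_div_assoc, mul_comm, div_mul_cancel₀]
        · exact y.2
        · exact fun h => hfa0 ((map_eq_zero j).mp h)
      have hw' : w = algebraMap (W.comap f) W a' * ⟨(w : M) / f (a : K₁), hy0⟩ := by
        apply Subtype.ext
        show (w : M) = f (a : K₁) * ((w : M) / f (a : K₁))
        field_simp
      rw [hw']
      exact Ideal.mul_mem_right _ _ (Ideal.mem_map_of_mem _ ha')

end Descend

end

section
open IsLocalRing TensorProduct Polynomial Groth.Agent.Lib.R2H1.EtRam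

section Descend2

variable {K₁ M N : Type u} [Field K₁] [Field M] [Field N]

theorem isGeometricallyReduced_descend (f : K₁ →+* M) (j : M →+* N) (W : ValuationSubring M)
    (W' : ValuationSubring N) (hW : W'.comap j = W)
    (h : @Algebra.IsGeometricallyReduced (ResidueField (W'.comap (j.comp f))) (ResidueField W') _ _
        (ResidueField.map (EtRam.inclOfComap W' (j.comp f))).toAlgebra) :
    @Algebra.IsGeometricallyReduced (ResidueField (W.comap f)) (ResidueField W) _ _
        (ResidueField.map (EtRam.inclOfComap W f)).toAlgebra := by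
  subst hW
  letI a1 : Algebra (ResidueField ((W'.comap j).comap f)) (ResidueField (W'.comap j)) :=
    (ResidueField.map (EtRam.inclOfComap (W'.comap j) f)).toAlgebra
  letI a2 : Algebra (ResidueField ((W'.comap j).comap f)) (ResidueField W') :=
    (ResidueField.map (EtRam.inclOfComap W' (j.comp f))).toAlgebra
  haveI : Algebra.IsGeometricallyReduced (ResidueField ((W'.comap j).comap f)) (ResidueField W') := h
  let τ : ResidueField (W'.comap j) →ₐ[ResidueField ((W'.comap j).comap f)] ResidueField W' :=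
    { ResidueField.map (EtRam.inclOfComap W' j) with
      commutes' := by
        intro x
        obtain ⟨x, rfl⟩ := residue_surjective x
        rfl }
  exact Algebra.IsGeometricallyReduced.of_injective τ (RingHom.injective _)

end Descend2

section Assembly

variable (K L K₁ M : Type u) [Field K] [Field L] [Field K₁] [Field M] [Algebra K L] [Algebra K K₁]
  [Algebra K M] [Algebra L M] [Algebra K₁ M] [IsScalarTower K L M] [IsScalarTower K K₁ M]

theorem isAlgebraic_of_adjoin [Algebra.IsAlgebraic K K₁]
    (hgen : Algebra.adjoin L (Set.range (algebraMap K₁ M)) = ⊤) : Algebra.IsAlgebraic L M := by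
  have hle : Algebra.adjoin L (Set.range (algebraMap K₁ M)) ≤ integralClosure L M := by
    apply Algebra.adjoin_le
    rintro _ ⟨x, rfl⟩
    have h1 : IsIntegral K x := Algebra.IsIntegral.isIntegral x
    have h2 : IsIntegral K (algebraMap K₁ M x) := h1.algebraMap
    exact h2.tower_top
  rw [hgen] at hle
  refine ⟨fun y => ?_⟩
  have : IsIntegral L y := hle Algebra.mem_top
  exact this.isAlgebraic

end Assembly

end

section
open IsLocalRing TensorProduct Polynomial Groth.Agent.Lib.R2H1.EtRam

/-- the data needed to apply a (weak) solution hypothesis for `C` to a local extension for `B` -/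
theorem exists_local_ext_over (B C K L M₀ K₁ : Type u)
    [CommRing B] [IsDomain B] [IsDiscreteValuationRing B]
    [CommRing C] [IsDomain C] [IsDiscreteValuationRing C] [Algebra B C]
    [IsLocalHom (algebraMap B C)] (hinj : Function.Injective (algebraMap B C))
    [Field K] [Field L] [Field M₀] [Field K₁] [Algebra K L] [Algebra K M₀] [Algebra L M₀]
    [IsScalarTower K L M₀] [Algebra K K₁] [FiniteDimensional K K₁]
    [Algebra B L] [IsFractionRing B L]
    [Algebra C M₀] [IsFractionRing C M₀] [Algebra B M₀]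
    [IsScalarTower B C M₀] [IsScalarTower B L M₀]
    (P : ∀ (M : Type u) [Field M], ValuationSubring M → (K₁ →+* M) → Prop)
    (Q : ∀ (M : Type u) [Field M], ValuationSubring M → (K₁ →+* M) → Prop)
    (hPQ : ∀ (M N : Type u) [Field M] [Field N] (f : K₁ →+* M) (j : M →+* N)
      (W : ValuationSubring M) (W' : ValuationSubring N), W'.comap j = W →
      P N W' (j.comp f) → Q M W f)
    (hsol : EtRam.ForallLocalExt C K M₀ K₁ P) : EtRam.ForallLocalExt B K L K₁ Q := by
  intro M _ _ _ _ _ _ hgen W hdom
  haveI : Algebra.IsAlgebraic L M := isAlgebraic_of_adjoin K L K₁ M hgen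
  obtain ⟨N, hN, i, j, W', hij, hdomC, hcomap, hgenN⟩ :=
    exists_extension B C L M₀ M hinj W hdom
  letI := hN
  letI : Algebra M₀ N := i.toAlgebra
  letI : Algebra K₁ N := (j.comp (algebraMap K₁ M)).toAlgebra
  letI : Algebra K N := (i.comp (algebraMap K M₀)).toAlgebra
  haveI : IsScalarTower K M₀ N := IsScalarTower.of_algebraMap_eq (fun x => rfl)
  have hijL : ∀ y : L, i (algebraMap L M₀ y) = j (algebraMap L M y) := fun y =>
    congrArg (fun f => f y) hij
  haveI : IsScalarTower K K₁ N := IsScalarTower.of_algebraMap_eq (fun x => by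
    show i (algebraMap K M₀ x) = j (algebraMap K₁ M (algebraMap K K₁ x))
    rw [← IsScalarTower.algebraMap_apply K K₁ M, IsScalarTower.algebraMap_apply K L M, ← hijL,
      ← IsScalarTower.algebraMap_apply K L M₀])
  have hgen' : Algebra.adjoin M₀ (Set.range (algebraMap K₁ N)) = ⊤ := by
    have halg : ∀ x ∈ Set.range (algebraMap K₁ N), IsAlgebraic M₀ x := by
      rintro _ ⟨x, rfl⟩
      have h1 : IsIntegral K x := Algebra.IsIntegral.isIntegral x
      have h2 : IsIntegral K (algebraMap K₁ N x) := h1.algebraMap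
      exact (h2.tower_top (A := M₀)).isAlgebraic
    rw [← IntermediateField.adjoin_toSubalgebra_of_isAlgebraic halg]
    set F := IntermediateField.adjoin M₀ (Set.range (algebraMap K₁ N)) with hF
    have hFi : ∀ x, i x ∈ F.toSubfield := fun x => F.algebraMap_mem x
    have hFj : ∀ y, j y ∈ F.toSubfield := by
      intro y
      have hy : y ∈ Algebra.adjoin L (Set.range (algebraMap K₁ M)) := hgen ▸ Algebra.mem_top
      induction hy using Algebra.adjoin_induction with
      | mem x hx =>
        obtain ⟨x, rfl⟩ := hx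
        exact IntermediateField.subset_adjoin M₀ _ ⟨x, rfl⟩
      | algebraMap r =>
        rw [← hijL]; exact F.algebraMap_mem _
      | add x y _ _ hx hy => rw [map_add]; exact F.toSubfield.add_mem hx hy
      | mul x y _ _ hx hy => rw [map_mul]; exact F.toSubfield.mul_mem hx hy
    have htop := hgenN F.toSubfield hFi hFj
    rw [eq_top_iff]
    intro z _
    have : z ∈ F.toSubfield := htop ▸ Subfield.mem_top z
    exact this
  have h1 := @hsol N _ _ _ _ _ _ hgen' W' hdomC
  exact hPQ M N (algebraMap K₁ M) j W W' hcomap h1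

end

end Groth.Agent.Lib.R2H1.EtRamTower
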