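import Mathlib
import Groth.Prelude.Def_EtRam
import Groth.Agent.Lib.R2H1EtRam
import Groth.Agent.Lib.R2H1EtRamTower
import Groth.Agent.Lib.Helper5KrullAkizuki2

/-!
# R2H1EtRamSmooth: a weakly unramified extension of DVRs with separable residue field extension
stays so after any finite base extension (all finite extensions are solutions).

Main results:
* `exists_eq_mul_self_mul`, `isReduced_of_surjective_of_vnr`, `forall_isMaximal_tensor`
  (von Neumann regular rings)
* `theta`, `step`, `descent`, `exists_eq_mul_of_lt_one`, `exists_eq_div_of_eq_one` (lemma R)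
* `ka_facts` (Krull–Akizuki consequences for a valuation subring of a finite extension)
* `isGeometricallyReduced_of_span`
* `local_ext` (the main theorem for one local extension)
-/

set_option autoImplicit false
set_option linter.unusedSectionVars false
set_option linter.style.haveILetI false

universe u

namespace Groth.Agent.Lib.R2H1.EtRamSmooth

section
open IsLocalRing TensorProduct

section VNR

variable {R : Type*} [CommRing R]

/-- In a reduced ring, an element of a minimal prime is killed by an element outside it. -/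
theorem exists_mul_eq_zero_of_mem_minimalPrimes [IsReduced R] {p : Ideal R}
    (hp : p ∈ minimalPrimes R) {x : R} (hx : x ∈ p) : ∃ s, s ∉ p ∧ s * x = 0 := by
  haveI hpp : p.IsPrime := hp.1.1
  have h1 := IsLocalization.AtPrime.radical_map_of_mem_minimalPrimes
    (A := Localization.AtPrime p) p ⊥ hp
  have h2 : algebraMap R (Localization.AtPrime p) x ∈
      ((⊥ : Ideal R).map (algebraMap R (Localization.AtPrime p))).radical := by
    rw [h1]; exact Ideal.mem_map_of_mem _ hx
  obtain ⟨n, hn⟩ := h2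
  rw [Ideal.map_bot, Ideal.mem_bot, ← map_pow, IsLocalization.map_eq_zero_iff p.primeCompl] at hn
  obtain ⟨m, hm⟩ := hn
  refine ⟨m, m.2, ?_⟩
  have h3 : ((m : R) * x) ^ (n + 1) = 0 := by
    calc ((m : R) * x) ^ (n + 1) = (m : R) ^ n * x * ((m : R) * x ^ n) := by ring
      _ = 0 := by rw [hm, mul_zero]
  exact IsNilpotent.eq_zero ⟨_, h3⟩

theorem mem_minimalPrimes_of_forall_isMaximal (hmax : ∀ p : Ideal R, p.IsPrime → p.IsMaximal)
    (p : Ideal R) [hp : p.IsPrime] : p ∈ minimalPrimes R := by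
  refine ⟨⟨hp, bot_le⟩, fun q hq hqp => ?_⟩
  have hqm := hmax q hq.1
  exact (hqm.eq_of_le hp.ne_top hqp).ge

/-- A reduced ring all of whose primes are maximal is von Neumann regular. -/
theorem exists_eq_mul_self_mul [IsReduced R] (hmax : ∀ p : Ideal R, p.IsPrime → p.IsMaximal)
    (a : R) : ∃ b, a = a * a * b := by
  by_cases htop : Ideal.span {a} ⊔ (Ideal.span {a}).annihilator = ⊤
  · rw [Ideal.eq_top_iff_one, Submodule.mem_sup] at htop
    obtain ⟨y, hy, z, hz, hyz⟩ := htop
    obtain ⟨b, rfl⟩ := Ideal.mem_span_singleton'.mp hy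
    have hza : z * a = 0 := by
      have := (Submodule.mem_annihilator.mp hz) a (Ideal.mem_span_singleton_self a)
      simpa using this
    refine ⟨b, ?_⟩
    have : a = (b * a + z) * a := by rw [hyz, one_mul]
    rw [add_mul, hza, add_zero] at this
    linear_combination this
  · obtain ⟨m, hm, hle⟩ := Ideal.exists_le_maximal _ htop
    haveI := hm.isPrime
    have hmin := mem_minimalPrimes_of_forall_isMaximal hmax m
    have ha : a ∈ m := hle (Ideal.mem_sup_left (Ideal.mem_span_singleton_self a))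
    obtain ⟨s, hs, hsa⟩ := exists_mul_eq_zero_of_mem_minimalPrimes hmin ha
    exfalso
    apply hs
    apply hle
    apply Ideal.mem_sup_right
    rw [Submodule.mem_annihilator]
    intro y hy
    obtain ⟨c, rfl⟩ := Ideal.mem_span_singleton'.mp hy
    rw [smul_eq_mul, mul_comm c, ← mul_assoc, hsa, zero_mul]

end VNR
end

section
open IsLocalRing TensorProduct

section VNR2

variable {R R' : Type*} [CommRing R] [CommRing R']

theorem isReduced_of_surjective_of_vnr (φ : R →+* R') (hφ : Function.Surjective φ)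
    (h : ∀ a : R, ∃ b, a = a * a * b) : IsReduced R' := by
  constructor
  rintro a' ⟨n, hn⟩
  obtain ⟨a, rfl⟩ := hφ a'
  obtain ⟨b, hb⟩ := h a
  have key : ∀ m : ℕ, φ a = (φ a) ^ (m + 1) * (φ b) ^ m := by
    intro m
    induction m with
    | zero => simp
    | succ m ih =>
      have h1 : φ a = φ a * φ a * φ b := by rw [← map_mul, ← map_mul, ← hb]
      calc φ a = (φ a) ^ (m + 1) * (φ b) ^ m := ih
        _ = (φ a) ^ m * (φ a) * (φ b) ^ m := by rw [pow_succ]
        _ = (φ a) ^ m * (φ a * φ a * φ b) * (φ b) ^ m := by rw [← h1]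
        _ = (φ a) ^ (m + 1 + 1) * (φ b) ^ (m + 1) := by ring
  rw [key n, pow_succ, hn, zero_mul, zero_mul]

theorem forall_isMaximal_of_surjective (φ : R →+* R') (hφ : Function.Surjective φ)
    (hmax : ∀ p : Ideal R, p.IsPrime → p.IsMaximal) : ∀ p : Ideal R', p.IsPrime → p.IsMaximal := by
  intro p hp
  have h1 : (p.comap φ).IsMaximal := hmax _ (Ideal.comap_isPrime φ p)
  have h2 := Ideal.map_eq_top_or_isMaximal_of_surjective φ hφ h1
  rw [Ideal.map_comap_of_surjective φ hφ] at h2
  exact h2.resolve_left hp.ne_top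

end VNR2

section ZD

variable (k A B : Type*) [Field k] [CommRing A] [Algebra k A] [Algebra.IsIntegral k A]
  [Field B] [Algebra k B]

/-- all primes of `A ⊗[k] B` are maximal when `A` is integral over the field `k` and `B` is a
field -/
theorem forall_isMaximal_tensor : ∀ p : Ideal (A ⊗[k] B), p.IsPrime → p.IsMaximal := by
  intro p hp
  let e : A ⊗[k] B ≃+* B ⊗[k] A := (Algebra.TensorProduct.comm k A B).toRingEquiv
  have hp' : (p.comap e.symm.toRingHom).IsPrime := Ideal.comap_isPrime _ _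
  have hbot : ((p.comap e.symm.toRingHom).comap (algebraMap B (B ⊗[k] A))).IsMaximal := by
    have : (p.comap e.symm.toRingHom).comap (algebraMap B (B ⊗[k] A)) = ⊥ := by
      have hprime : ((p.comap e.symm.toRingHom).comap (algebraMap B (B ⊗[k] A))).IsPrime :=
        Ideal.comap_isPrime _ _
      exact (Ideal.eq_bot_or_top _).resolve_right hprime.ne_top
    rw [this]; exact Ideal.bot_isMaximal
  have hmax' := Ideal.isMaximal_of_isIntegral_of_isMaximal_comap (R := B) (S := B ⊗[k] A)
    (p.comap e.symm.toRingHom) hbot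
  have h3 : p = (p.comap e.symm.toRingHom).comap e.toRingHom := by
    ext x
    simp [Ideal.mem_comap]
  rw [h3]
  exact Ideal.comap_isMaximal_of_surjective e.toRingHom e.surjective

end ZD
end

section
open IsLocalRing TensorProduct Groth.Agent.Lib.R2H1.EtRamTower

section Rho

variable (A V B : Type u) [CommRing A] [IsLocalRing A]
  [CommRing V] [IsLocalRing V] [Algebra A V] [IsLocalHom (algebraMap A V)]
  [CommRing B] [IsLocalRing B] [Algebra A B] [IsLocalHom (algebraMap A B)]

theorem rho_surjective : Function.Surjective (rho A V B) := by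
  intro t
  induction t using TensorProduct.induction_on with
  | zero => exact ⟨0, map_zero _⟩
  | tmul x y =>
    obtain ⟨x, rfl⟩ := residue_surjective x
    obtain ⟨y, rfl⟩ := residue_surjective y
    exact ⟨x ⊗ₜ y, rfl⟩
  | add x y hx hy =>
    obtain ⟨x', rfl⟩ := hx
    obtain ⟨y', rfl⟩ := hy
    exact ⟨x' + y', map_add _ _ _⟩

theorem ker_rho_le (hw : EtRam.IsWeaklyUnramified A B) :
    RingHom.ker (rho A V B) ≤ (maximalIdeal V).map
      (Algebra.TensorProduct.includeLeft : V →ₐ[A] V ⊗[A] B) := by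
  haveI : TensorProduct.CompatibleSMul A (ResidueField A) (ResidueField V) (ResidueField B) :=
    TensorProduct.CompatibleSMul.of_algebraMap_surjective _ _ residue_surjective
  intro x hx
  rw [RingHom.mem_ker] at hx
  have h1 : (Algebra.TensorProduct.map (IsScalarTower.toAlgHom A V (ResidueField V))
      (IsScalarTower.toAlgHom A B (ResidueField B))) x = 0 := by
    have hinj : Function.Injective (Algebra.TensorProduct.mapOfCompatibleSMul (ResidueField A) A A
        (ResidueField V) (ResidueField B)) :=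
      (Algebra.TensorProduct.equivOfCompatibleSMul (ResidueField A) A A
        (ResidueField V) (ResidueField B)).injective
    apply hinj
    rw [map_zero]
    exact hx
  have h2 : x ∈ RingHom.ker (Algebra.TensorProduct.map (IsScalarTower.toAlgHom A V (ResidueField V))
      (IsScalarTower.toAlgHom A B (ResidueField B))) := h1
  rw [Algebra.TensorProduct.map_ker _ _ residue_surjective residue_surjective] at h2
  have hkV : RingHom.ker (IsScalarTower.toAlgHom A V (ResidueField V)) = maximalIdeal V :=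
    IsLocalRing.ker_residue
  have hkB : RingHom.ker (IsScalarTower.toAlgHom A B (ResidueField B)) = maximalIdeal B :=
    IsLocalRing.ker_residue
  rw [hkV, hkB] at h2
  suffices hle : (maximalIdeal B).map
      (Algebra.TensorProduct.includeRight : B →ₐ[A] V ⊗[A] B) ≤ (maximalIdeal V).map
      (Algebra.TensorProduct.includeLeft : V →ₐ[A] V ⊗[A] B) from (sup_le le_rfl hle) h2
  rw [← hw, Ideal.map_le_iff_le_comap, Ideal.map_le_iff_le_comap]
  intro a ha
  rw [Ideal.mem_comap, Ideal.mem_comap]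
  have h3 : (Algebra.TensorProduct.includeRight : B →ₐ[A] V ⊗[A] B)
      (algebraMap A B a) = (Algebra.TensorProduct.includeLeft : V →ₐ[A] V ⊗[A] B)
        (algebraMap A V a) := by
    simp only [Algebra.TensorProduct.includeRight_apply, Algebra.TensorProduct.includeLeft_apply]
    rw [Algebra.algebraMap_eq_smul_one (A := B), Algebra.algebraMap_eq_smul_one (A := V),
      TensorProduct.smul_tmul]
  rw [h3]
  apply Ideal.mem_map_of_mem
  rw [mem_maximalIdeal, mem_nonunits_iff]
  intro hu
  exact ha (IsLocalHom.map_nonunit a hu)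

end Rho
end

section
open IsLocalRing TensorProduct Groth.Agent.Lib.R2H1.EtRamTower

section LemmaR

variable {A B K₁ M : Type u} [CommRing A] [IsLocalRing A] [CommRing B] [IsLocalRing B]
  [Algebra A B] [IsLocalHom (algebraMap A B)] [Field K₁] [Field M]
  (f : K₁ →+* M) (W : ValuationSubring M)
  [Algebra A (W.comap f)] [IsLocalHom (algebraMap A (W.comap f))]
  (g : B →+* M)
  (hcompat : ∀ a : A, f ((algebraMap A (W.comap f) a : W.comap f) : K₁) = g (algebraMap A B a))

/-- the natural map `V₁ ⊗[A] B → M` -/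
noncomputable def theta : (W.comap f) ⊗[A] B →+* M :=
  letI : Algebra A M := (g.comp (algebraMap A B)).toAlgebra
  (Algebra.TensorProduct.productMap (R := A) (A := W.comap f) (B := B) (S := M)
    { toRingHom := f.comp (W.comap f).subtype, commutes' := hcompat }
    { toRingHom := g, commutes' := fun _ => rfl }).toRingHom

theorem theta_tmul (v : W.comap f) (b : B) :
    theta f W g hcompat (v ⊗ₜ b) = f (v : K₁) * g b := by
  unfold theta
  letI : Algebra A M := (g.comp (algebraMap A B)).toAlgebra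
  exact Algebra.TensorProduct.productMap_apply_tmul _ _ _ _

theorem theta_mem (hgW : ∀ b, g b ∈ W) (x : (W.comap f) ⊗[A] B) : theta f W g hcompat x ∈ W := by
  induction x using TensorProduct.induction_on with
  | zero => rw [map_zero]; exact W.zero_mem
  | tmul v b => rw [theta_tmul]; exact mul_mem (show f (v : K₁) ∈ W from v.2) (hgW b)
  | add x y hx hy => rw [map_add]; exact add_mem hx hy

end LemmaR
end

section
open IsLocalRing TensorProduct Groth.Agent.Lib.R2H1.EtRamTower

section LemmaR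

variable {A B K₁ M : Type u} [CommRing A] [IsLocalRing A] [CommRing B] [IsLocalRing B]
  [Algebra A B] [IsLocalHom (algebraMap A B)] [Field K₁] [Field M]
  (f : K₁ →+* M) (W : ValuationSubring M)
  [Algebra A (W.comap f)] [IsLocalHom (algebraMap A (W.comap f))]
  (g : B →+* M)
  (hcompat : ∀ a : A, f ((algebraMap A (W.comap f) a : W.comap f) : K₁) = g (algebraMap A B a))

theorem step (hgW : ∀ b, g b ∈ W) (hw : EtRam.IsWeaklyUnramified A B)
    (π₁ : W.comap f) (hπ₁ : maximalIdeal (W.comap f) = Ideal.span {π₁})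
    [IsReduced (ResidueField (W.comap f) ⊗[ResidueField A] ResidueField B)]
    (hmax : ∀ p : Ideal (ResidueField (W.comap f) ⊗[ResidueField A] ResidueField B),
      p.IsPrime → p.IsMaximal)
    (x : (W.comap f) ⊗[A] B) (hx : W.valuation (theta f W g hcompat x) < 1) :
    ∃ s x' : (W.comap f) ⊗[A] B, W.valuation (theta f W g hcompat s) = 1 ∧
      s * x = (π₁ ⊗ₜ 1) * x' := by
  classical
  set Θ := theta f W g hcompat with hΘ
  let ΘW : (W.comap f) ⊗[A] B →+* W := Θ.codRestrict W.toSubring (theta_mem f W g hcompat hgW)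
  have hΘW : ∀ z, ((ΘW z : W) : M) = Θ z := fun z => rfl
  let q : Ideal ((W.comap f) ⊗[A] B) := (maximalIdeal W).comap ΘW
  haveI hqp : q.IsPrime := Ideal.comap_isPrime _ _
  have hq : ∀ z, z ∈ q ↔ W.valuation (Θ z) < 1 := fun z => by
    rw [Ideal.mem_comap, W.valuation_lt_one_iff, hΘW]
  have hπq : (π₁ ⊗ₜ[A] (1 : B)) ∈ q := by
    rw [hq, hΘ, theta_tmul, map_one, mul_one]
    have : π₁ ∈ maximalIdeal (W.comap f) := hπ₁ ▸ Ideal.mem_span_singleton_self π₁
    exact (mem_maximalIdeal_comap_iff W f π₁).mp this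
  set ρ := rho A (W.comap f) B with hρ
  have hker : RingHom.ker ρ ≤ Ideal.span {π₁ ⊗ₜ[A] (1 : B)} := by
    refine (ker_rho_le A (W.comap f) B hw).trans ?_
    rw [hπ₁, Ideal.map_span, Set.image_singleton]
    rfl
  have hkerq : RingHom.ker ρ ≤ q := hker.trans ((Ideal.span_singleton_le_iff_mem q).mpr hπq)
  have hsurj := rho_surjective A (W.comap f) B
  haveI hqT : (q.map ρ).IsPrime := Ideal.map_isPrime_of_surjective hsurj hkerq
  have hmin := mem_minimalPrimes_of_forall_isMaximal hmax (q.map ρ)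
  have hxq : ρ x ∈ q.map ρ := Ideal.mem_map_of_mem _ ((hq x).mpr hx)
  obtain ⟨sT, hsT, hsx⟩ := exists_mul_eq_zero_of_mem_minimalPrimes hmin hxq
  obtain ⟨s, rfl⟩ := hsurj sT
  have hsq : s ∉ q := fun h => hsT (Ideal.mem_map_of_mem _ h)
  have h1 : s * x ∈ RingHom.ker ρ := by rw [RingHom.mem_ker, map_mul, hsx]
  obtain ⟨x', hx'⟩ := Ideal.mem_span_singleton'.mp (hker h1)
  refine ⟨s, x', ?_, by rw [← hx', mul_comm]⟩
  have h2 : ¬ W.valuation (Θ s) < 1 := fun h => hsq ((hq s).mpr h)
  have h3 : W.valuation (Θ s) ≤ 1 := (W.valuation_le_one_iff _).mpr (theta_mem f W g hcompat hgW s)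
  exact le_antisymm h3 (not_lt.mp h2)

end LemmaR
end

section
open IsLocalRing TensorProduct Groth.Agent.Lib.R2H1.EtRamTower

section LemmaR

variable {A B K₁ M : Type u} [CommRing A] [IsLocalRing A] [CommRing B] [IsLocalRing B]
  [Algebra A B] [IsLocalHom (algebraMap A B)] [Field K₁] [Field M]
  (f : K₁ →+* M) (W : ValuationSubring M)
  [Algebra A (W.comap f)] [IsLocalHom (algebraMap A (W.comap f))]
  (g : B →+* M)
  (hcompat : ∀ a : A, f ((algebraMap A (W.comap f) a : W.comap f) : K₁) = g (algebraMap A B a))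

theorem theta_pi_pow (π₁ : W.comap f) (k : ℕ) :
    theta f W g hcompat ((π₁ ^ k) ⊗ₜ[A] (1 : B)) = f (π₁ : K₁) ^ k := by
  rw [theta_tmul, map_one, mul_one]
  simp

theorem descent (hgW : ∀ b, g b ∈ W) (hw : EtRam.IsWeaklyUnramified A B)
    (π₁ : W.comap f) (hπ₁ : maximalIdeal (W.comap f) = Ideal.span {π₁})
    (hπ₁0 : (π₁ : K₁) ≠ 0)
    [IsReduced (ResidueField (W.comap f) ⊗[ResidueField A] ResidueField B)]
    (hmax : ∀ p : Ideal (ResidueField (W.comap f) ⊗[ResidueField A] ResidueField B),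
      p.IsPrime → p.IsMaximal) :
    ∀ n : ℕ, ∀ x : (W.comap f) ⊗[A] B, theta f W g hcompat x ≠ 0 →
      W.valuation (f (π₁ : K₁)) ^ (n + 1) < W.valuation (theta f W g hcompat x) →
      ∃ (k : ℕ) (s x'' : (W.comap f) ⊗[A] B), W.valuation (theta f W g hcompat s) = 1 ∧
        W.valuation (theta f W g hcompat x'') = 1 ∧ s * x = ((π₁ ^ k) ⊗ₜ 1) * x'' := by
  set Θ := theta f W g hcompat with hΘ
  set q := W.valuation (f (π₁ : K₁)) with hq
  have hq0 : q ≠ 0 := by
    rw [hq, Ne, Valuation.zero_iff, map_eq_zero]; exact hπ₁0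
  have hqpos : 0 < q := zero_lt_iff.mpr hq0
  have hle1 : ∀ z, W.valuation (Θ z) ≤ 1 := fun z =>
    (W.valuation_le_one_iff _).mpr (theta_mem f W g hcompat hgW z)
  intro n
  induction n with
  | zero =>
    intro x hx0 hlt
    by_cases h1 : W.valuation (Θ x) = 1
    · exact ⟨0, 1, x, by rw [map_one, map_one], h1, by rw [pow_zero, one_mul, ← Algebra.TensorProduct.one_def, one_mul]⟩
    · exfalso
      have h2 : W.valuation (Θ x) < 1 := lt_of_le_of_ne (hle1 x) h1
      obtain ⟨s, x', hs, hsx⟩ := step f W g hcompat hgW hw π₁ hπ₁ hmax x h2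
      have h3 := congrArg (fun z => W.valuation (Θ z)) hsx
      simp only [map_mul] at h3
      rw [hs, one_mul, hΘ, ← pow_one π₁, theta_pi_pow, pow_one, ← hΘ, ← hq] at h3
      rw [h3, zero_add, pow_one] at hlt
      have h4 : q * W.valuation (Θ x') ≤ q * 1 := mul_le_mul_right (hle1 x') q
      rw [mul_one] at h4
      exact absurd hlt (not_lt.mpr h4)
  | succ n ih =>
    intro x hx0 hlt
    by_cases h1 : W.valuation (Θ x) = 1
    · exact ⟨0, 1, x, by rw [map_one, map_one], h1, by rw [pow_zero, one_mul, ← Algebra.TensorProduct.one_def, one_mul]⟩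
    · have h2 : W.valuation (Θ x) < 1 := lt_of_le_of_ne (hle1 x) h1
      obtain ⟨s, x', hs, hsx⟩ := step f W g hcompat hgW hw π₁ hπ₁ hmax x h2
      have h3 := congrArg (fun z => W.valuation (Θ z)) hsx
      simp only [map_mul] at h3
      rw [hs, one_mul, hΘ, ← pow_one π₁, theta_pi_pow, pow_one, ← hΘ, ← hq] at h3
      have hx'0 : Θ x' ≠ 0 := by
        intro h0
        rw [h0, map_zero, mul_zero, Valuation.zero_iff] at h3
        exact hx0 h3
      have hlt' : q ^ (n + 1) < W.valuation (Θ x') := by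
        rw [h3, pow_succ' q (n + 1)] at hlt
        exact (mul_lt_mul_iff_right₀ hqpos).mp hlt
      obtain ⟨k, s₂, x'', hs₂, hx'', hsx₂⟩ := ih x' hx'0 hlt'
      refine ⟨k + 1, s₂ * s, x'', by rw [map_mul, map_mul, hs₂, hs, one_mul], hx'', ?_⟩
      calc s₂ * s * x = s₂ * (s * x) := by ring
        _ = s₂ * ((π₁ ⊗ₜ 1) * x') := by rw [hsx]
        _ = (π₁ ⊗ₜ 1) * (s₂ * x') := by ring
        _ = (π₁ ⊗ₜ 1) * (((π₁ ^ k) ⊗ₜ 1) * x'') := by rw [hsx₂]
        _ = ((π₁ ⊗ₜ[A] (1 : B)) * ((π₁ ^ k) ⊗ₜ 1)) * x'' := by ring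
        _ = ((π₁ ^ (k + 1)) ⊗ₜ 1) * x'' := by
          rw [Algebra.TensorProduct.tmul_mul_tmul, mul_one, pow_succ']

end LemmaR
end

section
open IsLocalRing TensorProduct Groth.Agent.Lib.R2H1.EtRamTower

section LemmaR

variable {A B K₁ M : Type u} [CommRing A] [IsLocalRing A] [CommRing B] [IsLocalRing B]
  [Algebra A B] [IsLocalHom (algebraMap A B)] [Field K₁] [Field M]
  (f : K₁ →+* M) (W : ValuationSubring M)
  [Algebra A (W.comap f)] [IsLocalHom (algebraMap A (W.comap f))]
  (g : B →+* M)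
  (hcompat : ∀ a : A, f ((algebraMap A (W.comap f) a : W.comap f) : K₁) = g (algebraMap A B a))

theorem exists_factor (hgW : ∀ b, g b ∈ W) (hw : EtRam.IsWeaklyUnramified A B)
    (π₁ : W.comap f) (hπ₁ : maximalIdeal (W.comap f) = Ideal.span {π₁})
    (hπ₁0 : (π₁ : K₁) ≠ 0)
    [IsReduced (ResidueField (W.comap f) ⊗[ResidueField A] ResidueField B)]
    (hmax : ∀ p : Ideal (ResidueField (W.comap f) ⊗[ResidueField A] ResidueField B),
      p.IsPrime → p.IsMaximal)
    (hsep : ∀ w : M, w ≠ 0 → ∃ n : ℕ, W.valuation (f (π₁ : K₁)) ^ n < W.valuation w)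
    (x : (W.comap f) ⊗[A] B) (hx0 : theta f W g hcompat x ≠ 0) :
    ∃ (k : ℕ) (s x'' : (W.comap f) ⊗[A] B), W.valuation (theta f W g hcompat s) = 1 ∧
      W.valuation (theta f W g hcompat x'') = 1 ∧
      theta f W g hcompat s * theta f W g hcompat x =
        f (π₁ : K₁) ^ k * theta f W g hcompat x'' := by
  have hq1 : W.valuation (f (π₁ : K₁)) < 1 := by
    have : π₁ ∈ maximalIdeal (W.comap f) := hπ₁ ▸ Ideal.mem_span_singleton_self π₁
    exact (mem_maximalIdeal_comap_iff W f π₁).mp this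
  obtain ⟨n, hn⟩ := hsep _ hx0
  have hn' : W.valuation (f (π₁ : K₁)) ^ (n + 1) < W.valuation (theta f W g hcompat x) := by
    refine lt_of_le_of_lt ?_ hn
    rw [pow_succ]
    calc W.valuation (f (π₁ : K₁)) ^ n * W.valuation (f (π₁ : K₁))
        ≤ W.valuation (f (π₁ : K₁)) ^ n * 1 := mul_le_mul_right hq1.le _
      _ = W.valuation (f (π₁ : K₁)) ^ n := mul_one _
  obtain ⟨k, s, x'', hs, hx'', hsx⟩ :=
    descent f W g hcompat hgW hw π₁ hπ₁ hπ₁0 hmax n x hx0 hn'
  refine ⟨k, s, x'', hs, hx'', ?_⟩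
  have := congrArg (theta f W g hcompat) hsx
  rwa [map_mul, map_mul, theta_pi_pow] at this

theorem exists_eq_mul_of_lt_one (hgW : ∀ b, g b ∈ W) (hw : EtRam.IsWeaklyUnramified A B)
    (π₁ : W.comap f) (hπ₁ : maximalIdeal (W.comap f) = Ideal.span {π₁})
    (hπ₁0 : (π₁ : K₁) ≠ 0)
    [IsReduced (ResidueField (W.comap f) ⊗[ResidueField A] ResidueField B)]
    (hmax : ∀ p : Ideal (ResidueField (W.comap f) ⊗[ResidueField A] ResidueField B),
      p.IsPrime → p.IsMaximal)
    (hsep : ∀ w : M, w ≠ 0 → ∃ n : ℕ, W.valuation (f (π₁ : K₁)) ^ n < W.valuation w)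
    (hgen : ∀ m : M, ∃ x y : (W.comap f) ⊗[A] B, theta f W g hcompat y ≠ 0 ∧
      m = theta f W g hcompat x / theta f W g hcompat y)
    (w : M) (hw1 : W.valuation w < 1) : ∃ y ∈ W, w = f (π₁ : K₁) * y := by
  set Θ := theta f W g hcompat with hΘ
  set q := W.valuation (f (π₁ : K₁)) with hq
  have hfπ0 : f (π₁ : K₁) ≠ 0 := fun h => hπ₁0 ((map_eq_zero f).mp h)
  have hq0 : q ≠ 0 := by rw [hq, Ne, Valuation.zero_iff]; exact hfπ0
  have hqpos : 0 < q := zero_lt_iff.mpr hq0
  have hq1 : q < 1 := by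
    have : π₁ ∈ maximalIdeal (W.comap f) := hπ₁ ▸ Ideal.mem_span_singleton_self π₁
    exact (mem_maximalIdeal_comap_iff W f π₁).mp this
  by_cases hw0 : w = 0
  · exact ⟨0, W.zero_mem, by rw [hw0, mul_zero]⟩
  obtain ⟨x, y, hy0, hwxy⟩ := hgen w
  have hx0 : Θ x ≠ 0 := by
    intro h; apply hw0; rw [hwxy, h, zero_div]
  obtain ⟨k, s, x'', hs, hx'', hsx⟩ :=
    exists_factor f W g hcompat hgW hw π₁ hπ₁ hπ₁0 hmax hsep x hx0
  obtain ⟨l, t, y'', ht, hy'', hty⟩ :=
    exists_factor f W g hcompat hgW hw π₁ hπ₁ hπ₁0 hmax hsep y hy0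
  have hvx : W.valuation (Θ x) = q ^ k := by
    have := congrArg W.valuation hsx
    rwa [map_mul, map_mul, hs, hx'', one_mul, mul_one, map_pow] at this
  have hvy : W.valuation (Θ y) = q ^ l := by
    have := congrArg W.valuation hty
    rwa [map_mul, map_mul, ht, hy'', one_mul, mul_one, map_pow] at this
  have hvw : W.valuation w * q ^ l = q ^ k := by
    rw [hwxy, map_div₀, hvx, hvy, div_mul_cancel₀]
    exact pow_ne_zero _ hq0
  have hlk : l < k := by
    by_contra hkl
    have hkl' : k ≤ l := not_lt.mp hkl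
    have h1 : q ^ l ≤ q ^ k := pow_le_pow_right_of_le_one' hq1.le hkl'
    have h2 : W.valuation w * q ^ l < 1 * q ^ l :=
      mul_lt_mul_of_pos_right hw1 (pow_pos hqpos l)
    rw [hvw, one_mul] at h2
    exact absurd h2 (not_lt.mpr h1)
  obtain ⟨d, rfl⟩ := Nat.exists_eq_add_of_lt hlk
  have hvw' : W.valuation w = q ^ (d + 1) := by
    have h1 : q ^ (l + d + 1) = q ^ (d + 1) * q ^ l := by rw [← pow_add]; congr 1; omega
    rw [h1] at hvw
    exact mul_right_cancel₀ (pow_ne_zero l hq0) hvw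
  refine ⟨w / f (π₁ : K₁), ?_, by field_simp⟩
  rw [← W.valuation_le_one_iff, map_div₀, hvw', ← hq, pow_succ, mul_div_assoc, div_self hq0,
    mul_one]
  exact pow_le_one₀ hqpos.le hq1.le

theorem exists_eq_div_of_eq_one (hgW : ∀ b, g b ∈ W) (hw : EtRam.IsWeaklyUnramified A B)
    (π₁ : W.comap f) (hπ₁ : maximalIdeal (W.comap f) = Ideal.span {π₁})
    (hπ₁0 : (π₁ : K₁) ≠ 0)
    [IsReduced (ResidueField (W.comap f) ⊗[ResidueField A] ResidueField B)]
    (hmax : ∀ p : Ideal (ResidueField (W.comap f) ⊗[ResidueField A] ResidueField B),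
      p.IsPrime → p.IsMaximal)
    (hsep : ∀ w : M, w ≠ 0 → ∃ n : ℕ, W.valuation (f (π₁ : K₁)) ^ n < W.valuation w)
    (hgen : ∀ m : M, ∃ x y : (W.comap f) ⊗[A] B, theta f W g hcompat y ≠ 0 ∧
      m = theta f W g hcompat x / theta f W g hcompat y)
    (w : M) (hw1 : W.valuation w = 1) :
    ∃ z z' : (W.comap f) ⊗[A] B, W.valuation (theta f W g hcompat z) = 1 ∧
      W.valuation (theta f W g hcompat z') = 1 ∧
      w = theta f W g hcompat z / theta f W g hcompat z' := by
  set Θ := theta f W g hcompat with hΘ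
  set q := W.valuation (f (π₁ : K₁)) with hq
  have hfπ0 : f (π₁ : K₁) ≠ 0 := fun h => hπ₁0 ((map_eq_zero f).mp h)
  have hq0 : q ≠ 0 := by rw [hq, Ne, Valuation.zero_iff]; exact hfπ0
  have hqpos : 0 < q := zero_lt_iff.mpr hq0
  have hq1 : q < 1 := by
    have : π₁ ∈ maximalIdeal (W.comap f) := hπ₁ ▸ Ideal.mem_span_singleton_self π₁
    exact (mem_maximalIdeal_comap_iff W f π₁).mp this
  have hw0 : w ≠ 0 := by
    intro h; rw [h, map_zero] at hw1; exact zero_ne_one hw1
  obtain ⟨x, y, hy0, hwxy⟩ := hgen w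
  have hx0 : Θ x ≠ 0 := by
    intro h; apply hw0; rw [hwxy, h, zero_div]
  obtain ⟨k, s, x'', hs, hx'', hsx⟩ :=
    exists_factor f W g hcompat hgW hw π₁ hπ₁ hπ₁0 hmax hsep x hx0
  obtain ⟨l, t, y'', ht, hy'', hty⟩ :=
    exists_factor f W g hcompat hgW hw π₁ hπ₁ hπ₁0 hmax hsep y hy0
  have hvx : W.valuation (Θ x) = q ^ k := by
    have := congrArg W.valuation hsx
    rwa [map_mul, map_mul, hs, hx'', one_mul, mul_one, map_pow] at this
  have hvy : W.valuation (Θ y) = q ^ l := by
    have := congrArg W.valuation hty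
    rwa [map_mul, map_mul, ht, hy'', one_mul, mul_one, map_pow] at this
  have hvw : q ^ l = q ^ k := by
    have : W.valuation w * q ^ l = q ^ k := by
      rw [hwxy, map_div₀, hvx, hvy, div_mul_cancel₀]
      exact pow_ne_zero _ hq0
    rwa [hw1, one_mul] at this
  have hkl : k = l := by
    rcases lt_trichotomy k l with h | h | h
    · exact absurd hvw (ne_of_lt (pow_lt_pow_right_of_lt_one₀ hqpos hq1 h))
    · exact h
    · exact absurd hvw.symm (ne_of_lt (pow_lt_pow_right_of_lt_one₀ hqpos hq1 h))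
  subst hkl
  have hs0 : Θ s ≠ 0 := by
    intro h; rw [h, map_zero] at hs; exact zero_ne_one hs
  have ht0 : Θ t ≠ 0 := by
    intro h; rw [h, map_zero] at ht; exact zero_ne_one ht
  have hy''0 : Θ y'' ≠ 0 := by
    intro h; rw [h, map_zero] at hy''; exact zero_ne_one hy''
  refine ⟨x'' * t, y'' * s, by rw [map_mul, map_mul, hx'', ht, one_mul],
    by rw [map_mul, map_mul, hy'', hs, one_mul], ?_⟩
  rw [hwxy, map_mul, map_mul, div_eq_div_iff hy0 (mul_ne_zero hy''0 hs0)]
  have hpow0 : f (π₁ : K₁) ^ k ≠ 0 := pow_ne_zero _ hfπ0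
  have e1 : Θ x * (Θ y'' * Θ s) * f (π₁ : K₁) ^ k = Θ x'' * Θ t * Θ y * f (π₁ : K₁) ^ k := by
    calc Θ x * (Θ y'' * Θ s) * f (π₁ : K₁) ^ k
        = (Θ s * Θ x) * (f (π₁ : K₁) ^ k * Θ y'') := by ring
      _ = (f (π₁ : K₁) ^ k * Θ x'') * (Θ t * Θ y) := by rw [hsx, hty]
      _ = Θ x'' * Θ t * Θ y * f (π₁ : K₁) ^ k := by ring
  exact mul_right_cancel₀ hpow0 e1

end LemmaR
end

section
open IsLocalRing TensorProduct Groth.Agent.Lib.R2H1.EtRamTower

section KA

variable (A K K₁ : Type u) [CommRing A] [IsDomain A] [IsDiscreteValuationRing A]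
  [Field K] [Field K₁] [Algebra A K] [IsFractionRing A K] [Algebra K K₁] [FiniteDimensional K K₁]
  (V : ValuationSubring K₁) [Algebra A V] [IsLocalHom (algebraMap A V)]
  (hAV : ∀ a, ((algebraMap A V a : V) : K₁) = algebraMap K K₁ (algebraMap A K a))

include hAV in
theorem ka_facts :
    (∃ π₁ : V, maximalIdeal V = Ideal.span {π₁} ∧ (π₁ : K₁) ≠ 0) ∧
    (∀ π₁ : V, maximalIdeal V = Ideal.span {π₁} → ∀ a : A, a ≠ 0 →
      algebraMap A V a ∈ maximalIdeal V →
      ∃ (N : ℕ) (c : V), π₁ ^ N = algebraMap A V a * c) ∧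
    Module.Finite A (ResidueField V) := by
  classical
  letI : Algebra A K₁ := ((algebraMap K K₁).comp (algebraMap A K)).toAlgebra
  haveI : IsScalarTower A K K₁ := IsScalarTower.of_algebraMap_eq (fun _ => rfl)
  haveI : IsScalarTower A V K₁ := IsScalarTower.of_algebraMap_eq (fun a => (hAV a).symm)
  have hinjAV : Function.Injective (algebraMap A V) := by
    intro a b hab
    have h1 := congrArg (fun x : V => (x : K₁)) hab
    simp only [hAV] at h1
    exact IsFractionRing.injective A K ((algebraMap K K₁).injective h1)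
  have hdim : ringKrullDim A ≤ 1 := by
    have : Ring.KrullDimLE 1 A := inferInstance
    rw [← Nat.cast_one, ← Ring.krullDimLE_iff]
    exact this
  have hfin : ∀ a : A, a ≠ 0 → Module.length A (A ⧸ Ideal.span ({a} : Set A)) ≠ ⊤ := fun a ha =>
    Groth.Agent.Lib.Helper5.KrullAkizuki.length_quot_ne_top hdim a ha
  obtain ⟨π, hπ⟩ := IsDiscreteValuationRing.exists_irreducible A
  have hπ0 : π ≠ 0 := hπ.ne_zero
  have hπm : algebraMap A V π ∈ maximalIdeal V := by
    rw [mem_maximalIdeal, mem_nonunits_iff]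
    intro hu
    exact hπ.not_isUnit (IsLocalHom.map_nonunit π hu)
  have hπV0 : algebraMap A V π ≠ 0 := fun h => hπ0 (hinjAV (by rw [h, map_zero]))
  refine ⟨?_, ?_, ?_⟩
  · -- the maximal ideal is principal
    set I₀ : Ideal V := Ideal.span {algebraMap A V π} with hI₀
    have hI₀m : I₀ ≤ maximalIdeal V := (Ideal.span_singleton_le_iff_mem _).mpr hπm
    haveI hf : Module.Finite A (V ⧸ I₀) :=
      Groth.Agent.Lib.Helper5.KrullAkizuki2.finite_quot A V K K₁ π hπ0 (hfin π hπ0) I₀
        (Ideal.mem_span_singleton_self _)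
    haveI hN : IsNoetherian A (V ⧸ I₀) := inferInstance
    haveI hN' : IsNoetherianRing (V ⧸ I₀) := isNoetherian_of_tower A hN
    have hfg : (maximalIdeal V).FG := by
      apply Ideal.fg_of_fg_map_of_fg_inf_ker_of_surjective (f := Ideal.Quotient.mk I₀)
        (IsNoetherian.noetherian _) _ Ideal.Quotient.mk_surjective
      rw [Ideal.mk_ker, inf_eq_right.mpr hI₀m]
      exact Submodule.fg_span_singleton _
    obtain ⟨π₁, hπ₁⟩ := (IsBezout.isPrincipal_of_FG (maximalIdeal V) hfg).1
    refine ⟨π₁, hπ₁, fun h0 => ?_⟩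
    have : π₁ = 0 := Subtype.ext h0
    rw [this] at hπ₁
    have h1 : algebraMap A V π ∈ Submodule.span V {(0 : V)} := hπ₁ ▸ hπm
    rw [Submodule.span_zero_singleton] at h1
    exact hπV0 ((Submodule.mem_bot V).mp h1)
  · intro π₁ hπ₁ a ha0 ham
    set Ia : Ideal V := Ideal.span {algebraMap A V a} with hIa
    haveI : IsArtinianRing (V ⧸ Ia) :=
      Groth.Agent.Lib.Helper5.KrullAkizuki2.isArtinianRing_quot A V K K₁ a ha0 (hfin a ha0) Ia
        (Ideal.mem_span_singleton_self _)
    have hjac : Ideal.Quotient.mk Ia π₁ ∈ Ideal.jacobson (⊥ : Ideal (V ⧸ Ia)) := by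
      rw [Ideal.jacobson, Ideal.mem_sInf]
      rintro J ⟨-, hJ⟩
      haveI := hJ
      have h1 : (J.comap (Ideal.Quotient.mk Ia)).IsMaximal :=
        Ideal.comap_isMaximal_of_surjective _ Ideal.Quotient.mk_surjective
      have h2 := IsLocalRing.eq_maximalIdeal h1
      have h3 : π₁ ∈ J.comap (Ideal.Quotient.mk Ia) := by
        rw [h2, hπ₁]; exact Ideal.mem_span_singleton_self _
      exact h3
    obtain ⟨N, hN⟩ := IsArtinianRing.isNilpotent_jacobson_bot (R := V ⧸ Ia)
    have h4 : (Ideal.Quotient.mk Ia π₁) ^ N ∈ (Ideal.jacobson (⊥ : Ideal (V ⧸ Ia))) ^ N :=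
      Ideal.pow_mem_pow hjac N
    rw [hN, Ideal.zero_eq_bot, Ideal.mem_bot, ← map_pow, Ideal.Quotient.eq_zero_iff_mem] at h4
    obtain ⟨c, hc⟩ := Ideal.mem_span_singleton'.mp h4
    exact ⟨N, c, by rw [← hc, mul_comm]⟩
  · exact Groth.Agent.Lib.Helper5.KrullAkizuki2.finite_quot A V K K₁ π hπ0 (hfin π hπ0)
      (maximalIdeal V) hπm

end KA
end

section
open IsLocalRing TensorProduct Groth.Agent.Lib.R2H1.EtRamTower

section GR

variable (kA k₁ kB kW : Type u) [Field kA] [Field k₁] [Field kB] [Field kW]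
  [Algebra kA k₁] [Algebra kA kB] [Algebra k₁ kW]

/-- geometric reducedness passes to a field spanned over `k₁` by the image of `kB` -/
theorem isGeometricallyReduced_of_span [Algebra.IsAlgebraic kA k₁]
    [Algebra.IsGeometricallyReduced kA kB] (g' : kB →+* kW)
    (hcompat : ∀ a : kA, g' (algebraMap kA kB a) = algebraMap k₁ kW (algebraMap kA k₁ a))
    (hspan : Submodule.span k₁ (Set.range g') = ⊤) :
    Algebra.IsGeometricallyReduced k₁ kW := by
  rw [Algebra.isGeometricallyReduced_field_iff]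
  set Ω := AlgebraicClosure k₁ with hΩ
  haveI : IsScalarTower kA k₁ Ω := inferInstance
  haveI : Algebra.IsAlgebraic kA Ω := Algebra.IsAlgebraic.trans kA k₁ Ω
  haveI hred : IsReduced (Ω ⊗[kA] kB) := inferInstance
  have hmax := forall_isMaximal_tensor kA Ω kB
  have hvnr := exists_eq_mul_self_mul hmax
  letI : Algebra kA (Ω ⊗[k₁] kW) :=
    ((Algebra.TensorProduct.includeLeft : Ω →ₐ[k₁] Ω ⊗[k₁] kW).toRingHom.comp
      (algebraMap kA Ω)).toAlgebra
  have hc2 : ∀ a : kA, (1 : Ω) ⊗ₜ[k₁] g' (algebraMap kA kB a) =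
      algebraMap kA (Ω ⊗[k₁] kW) a := by
    intro a
    rw [hcompat]
    show _ = (algebraMap k₁ Ω (algebraMap kA k₁ a)) ⊗ₜ[k₁] (1 : kW)
    rw [Algebra.algebraMap_eq_smul_one, Algebra.algebraMap_eq_smul_one (A := Ω),
      TensorProduct.smul_tmul]
  let Φ : Ω ⊗[kA] kB →ₐ[kA] Ω ⊗[k₁] kW :=
    Algebra.TensorProduct.productMap (R := kA) (A := Ω) (B := kB) (S := Ω ⊗[k₁] kW)
      { toRingHom := (Algebra.TensorProduct.includeLeft : Ω →ₐ[k₁] Ω ⊗[k₁] kW).toRingHom
        commutes' := fun _ => rfl }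
      { toRingHom := (Algebra.TensorProduct.includeRight : kW →ₐ[k₁] Ω ⊗[k₁] kW).toRingHom.comp g'
        commutes' := fun a => hc2 a }
  have hΦ : ∀ (ω : Ω) (b : kB), Φ (ω ⊗ₜ b) = ω ⊗ₜ[k₁] g' b := by
    intro ω b
    have := Algebra.TensorProduct.productMap_apply_tmul (R := kA)
      ({ toRingHom := (Algebra.TensorProduct.includeLeft : Ω →ₐ[k₁] Ω ⊗[k₁] kW).toRingHom
         commutes' := fun _ => rfl } : Ω →ₐ[kA] Ω ⊗[k₁] kW)
      ({ toRingHom :=
          (Algebra.TensorProduct.includeRight : kW →ₐ[k₁] Ω ⊗[k₁] kW).toRingHom.comp g'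
         commutes' := fun a => hc2 a } : kB →ₐ[kA] Ω ⊗[k₁] kW) ω b
    refine this.trans ?_
    show (ω ⊗ₜ[k₁] (1 : kW)) * ((1 : Ω) ⊗ₜ[k₁] g' b) = _
    rw [Algebra.TensorProduct.tmul_mul_tmul, mul_one, one_mul]
  have key : ∀ x : kW, ∀ ω : Ω, ∃ s, Φ s = ω ⊗ₜ[k₁] x := by
    intro x
    have hx : x ∈ Submodule.span k₁ (Set.range g') := by rw [hspan]; trivial
    induction hx using Submodule.span_induction with
    | mem y hy =>
      obtain ⟨b, rfl⟩ := hy
      exact fun ω => ⟨ω ⊗ₜ b, hΦ ω b⟩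
    | zero => exact fun ω => ⟨0, by rw [map_zero, TensorProduct.tmul_zero]⟩
    | add y z _ _ hy hz =>
      intro ω
      obtain ⟨s, hs⟩ := hy ω
      obtain ⟨t, ht⟩ := hz ω
      exact ⟨s + t, by rw [map_add, hs, ht, TensorProduct.tmul_add]⟩
    | smul c y _ hy =>
      intro ω
      obtain ⟨s, hs⟩ := hy (c • ω)
      exact ⟨s, by rw [hs, TensorProduct.smul_tmul]⟩
  have hsurjΦ : Function.Surjective Φ := by
    intro s
    induction s using TensorProduct.induction_on with
    | zero => exact ⟨0, map_zero _⟩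
    | add x y hx hy =>
      obtain ⟨x', rfl⟩ := hx
      obtain ⟨y', rfl⟩ := hy
      exact ⟨x' + y', map_add _ _ _⟩
    | tmul ω x => exact key x ω
  exact isReduced_of_surjective_of_vnr Φ.toRingHom hsurjΦ hvnr

end GR
end

section
open IsLocalRing TensorProduct Groth.Agent.Lib.R2H1.EtRamTower

section LemmaR

variable {A B K₁ M : Type u} [CommRing A] [IsLocalRing A] [CommRing B] [IsLocalRing B]
  [Algebra A B] [IsLocalHom (algebraMap A B)] [Field K₁] [Field M]
  (f : K₁ →+* M) (W : ValuationSubring M)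
  [Algebra A (W.comap f)] [IsLocalHom (algebraMap A (W.comap f))]
  (g : B →+* M)
  (hcompat : ∀ a : A, f ((algebraMap A (W.comap f) a : W.comap f) : K₁) = g (algebraMap A B a))

theorem weaklyUnramified_of (hgW : ∀ b, g b ∈ W) (hw : EtRam.IsWeaklyUnramified A B)
    (π₁ : W.comap f) (hπ₁ : maximalIdeal (W.comap f) = Ideal.span {π₁})
    (hπ₁0 : (π₁ : K₁) ≠ 0)
    [IsReduced (ResidueField (W.comap f) ⊗[ResidueField A] ResidueField B)]
    (hmax : ∀ p : Ideal (ResidueField (W.comap f) ⊗[ResidueField A] ResidueField B),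
      p.IsPrime → p.IsMaximal)
    (hsep : ∀ w : M, w ≠ 0 → ∃ n : ℕ, W.valuation (f (π₁ : K₁)) ^ n < W.valuation w)
    (hgen : ∀ m : M, ∃ x y : (W.comap f) ⊗[A] B, theta f W g hcompat y ≠ 0 ∧
      m = theta f W g hcompat x / theta f W g hcompat y) :
    letI : Algebra (W.comap f) W := (EtRam.inclOfComap W f).toAlgebra
    EtRam.IsWeaklyUnramified (W.comap f) W := by
  letI : Algebra (W.comap f) W := (EtRam.inclOfComap W f).toAlgebra
  show (maximalIdeal (W.comap f)).map (algebraMap (W.comap f) W) = maximalIdeal W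
  apply le_antisymm
  · rw [Ideal.map_le_iff_le_comap]
    intro x hx
    rw [Ideal.mem_comap, mem_maximalIdeal, mem_nonunits_iff]
    intro hu
    have : IsUnit x := (EtRam.isLocalHom_inclOfComap W f).map_nonunit x hu
    exact hx this
  · intro w hwm
    have hv : W.valuation (w : M) < 1 := (W.valuation_lt_one_iff w).mp hwm
    obtain ⟨y, hyW, hy⟩ := exists_eq_mul_of_lt_one f W g hcompat hgW hw π₁ hπ₁ hπ₁0 hmax hsep hgen
      (w : M) hv
    have : w = algebraMap (W.comap f) W π₁ * ⟨y, hyW⟩ := Subtype.ext hy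
    rw [this]
    exact Ideal.mul_mem_right _ _
      (Ideal.mem_map_of_mem _ (hπ₁ ▸ Ideal.mem_span_singleton_self π₁))

theorem span_residue_eq_top (hgW : ∀ b, g b ∈ W) (hw : EtRam.IsWeaklyUnramified A B)
    (π₁ : W.comap f) (hπ₁ : maximalIdeal (W.comap f) = Ideal.span {π₁})
    (hπ₁0 : (π₁ : K₁) ≠ 0)
    [IsReduced (ResidueField (W.comap f) ⊗[ResidueField A] ResidueField B)]
    (hmax : ∀ p : Ideal (ResidueField (W.comap f) ⊗[ResidueField A] ResidueField B),
      p.IsPrime → p.IsMaximal)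
    (hsep : ∀ w : M, w ≠ 0 → ∃ n : ℕ, W.valuation (f (π₁ : K₁)) ^ n < W.valuation w)
    (hgen : ∀ m : M, ∃ x y : (W.comap f) ⊗[A] B, theta f W g hcompat y ≠ 0 ∧
      m = theta f W g hcompat x / theta f W g hcompat y)
    (gW : B →+* W) (hgW' : ∀ b, ((gW b : W) : M) = g b) [IsLocalHom gW] :
    letI : Algebra (ResidueField (W.comap f)) (ResidueField W) :=
      (ResidueField.map (EtRam.inclOfComap W f)).toAlgebra
    Submodule.span (ResidueField (W.comap f)) (Set.range (ResidueField.map gW)) = ⊤ := by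
  letI : Algebra (ResidueField (W.comap f)) (ResidueField W) :=
    (ResidueField.map (EtRam.inclOfComap W f)).toAlgebra
  set Θ := theta f W g hcompat with hΘ
  let ΘW : (W.comap f) ⊗[A] B →+* W := Θ.codRestrict W.toSubring (theta_mem f W g hcompat hgW)
  have hΘW : ∀ z, ((ΘW z : W) : M) = Θ z := fun z => rfl
  let R' : (W.comap f) ⊗[A] B →+* ResidueField W := (residue W).comp ΘW
  set S := Submodule.span (ResidueField (W.comap f)) (Set.range (ResidueField.map gW)) with hS
  -- (a) the image of R' lies in the span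
  have ha : ∀ z, R' z ∈ S := by
    intro z
    induction z using TensorProduct.induction_on with
    | zero => rw [map_zero]; exact S.zero_mem
    | add x y hx hy => rw [map_add]; exact S.add_mem hx hy
    | tmul v b =>
      have h1 : ΘW (v ⊗ₜ b) = EtRam.inclOfComap W f v * gW b := by
        apply Subtype.ext
        rw [hΘW, hΘ, theta_tmul]
        show _ = ((EtRam.inclOfComap W f v : W) : M) * ((gW b : W) : M)
        rw [hgW']; rfl
      have h2 : R' (v ⊗ₜ b) = residue (W.comap f) v • ResidueField.map gW (residue B b) := by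
        show residue W (ΘW (v ⊗ₜ b)) = _
        rw [h1, map_mul, Algebra.smul_def]
        rfl
      rw [h2]
      exact S.smul_mem _ (Submodule.subset_span ⟨_, rfl⟩)
  -- valuation < 1 on the kernel of rho
  have hq1 : W.valuation (f (π₁ : K₁)) < 1 := by
    have : π₁ ∈ maximalIdeal (W.comap f) := hπ₁ ▸ Ideal.mem_span_singleton_self π₁
    exact (mem_maximalIdeal_comap_iff W f π₁).mp this
  set ρ := rho A (W.comap f) B with hρ
  have hker : ∀ y, ρ y = 0 → R' y = 0 := by
    intro y hy
    have h1 : y ∈ Ideal.span {π₁ ⊗ₜ[A] (1 : B)} := by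
      have := ker_rho_le A (W.comap f) B hw ((RingHom.mem_ker).mpr hy)
      rw [hπ₁, Ideal.map_span, Set.image_singleton] at this
      exact this
    obtain ⟨y', hy'⟩ := Ideal.mem_span_singleton'.mp h1
    show residue W (ΘW y) = 0
    rw [residue_eq_zero_iff, W.valuation_lt_one_iff, hΘW, ← hy', map_mul, hΘ, theta_tmul,
      map_one, mul_one, map_mul]
    have h3 : W.valuation (theta f W g hcompat y') ≤ 1 :=
      (W.valuation_le_one_iff _).mpr (theta_mem f W g hcompat hgW y')
    calc W.valuation (theta f W g hcompat y') * W.valuation (f (π₁ : K₁))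
        ≤ 1 * W.valuation (f (π₁ : K₁)) := mul_le_mul_left h3 _
      _ < 1 := by rw [one_mul]; exact hq1
  have hvnr := exists_eq_mul_self_mul (R := ResidueField (W.comap f) ⊗[ResidueField A] ResidueField B)
    hmax
  have hsurjρ := rho_surjective A (W.comap f) B
  -- (b) inverses
  have hb : ∀ z', W.valuation (Θ z') = 1 → ∃ z'', R' z' * R' z'' = 1 := by
    intro z' hz'
    obtain ⟨b', hb'⟩ := hvnr (ρ z')
    obtain ⟨z'', rfl⟩ := hsurjρ b'
    have h1 : ρ (z' - z' * z' * z'') = 0 := by
      rw [map_sub, map_mul, map_mul, ← hb', sub_self]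
    have h2 := hker _ h1
    rw [map_sub, map_mul, map_mul, sub_eq_zero] at h2
    have h3 : R' z' ≠ 0 := by
      show residue W (ΘW z') ≠ 0
      rw [Ne, residue_eq_zero_iff, W.valuation_lt_one_iff, hΘW, hz']
      exact lt_irrefl _
    refine ⟨z'', ?_⟩
    have h4 : R' z' * 1 = R' z' * (R' z' * R' z'') := by rw [mul_one, ← mul_assoc]; exact h2
    exact (mul_left_cancel₀ h3 h4).symm
  -- (c) surjectivity of R'
  rw [eq_top_iff]
  intro x _
  obtain ⟨w, rfl⟩ := residue_surjective x
  by_cases hx0 : residue W w = 0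
  · rw [hx0]; exact S.zero_mem
  have hw1 : W.valuation (w : M) = 1 := by
    have h1 : ¬ W.valuation (w : M) < 1 := by
      rw [← W.valuation_lt_one_iff, ← residue_eq_zero_iff]; exact hx0
    exact le_antisymm (W.valuation_le_one w) (not_lt.mp h1)
  obtain ⟨z, z', hz, hz', hwz⟩ :=
    exists_eq_div_of_eq_one f W g hcompat hgW hw π₁ hπ₁ hπ₁0 hmax hsep hgen (w : M) hw1
  obtain ⟨z'', hz''⟩ := hb z' hz'
  have hz'0 : Θ z' ≠ 0 := by
    intro h; rw [h, map_zero] at hz'; exact zero_ne_one hz'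
  have h5 : w * ΘW z' = ΘW z := by
    apply Subtype.ext
    show (w : M) * Θ z' = Θ z
    rw [hwz, div_mul_cancel₀ _ hz'0]
  have h6 : residue W w = R' (z * z'') := by
    rw [map_mul]
    show _ = residue W (ΘW z) * _
    rw [← h5, map_mul, mul_assoc]
    show _ = residue W w * (R' z' * R' z'')
    rw [hz'', mul_one]
  rw [h6]
  exact ha _

end LemmaR
end

section
open IsLocalRing TensorProduct Groth.Agent.Lib.R2H1.EtRamTower Groth.Agent.Lib.R2H1.EtRam

section Gen

variable {A B K₁ M : Type u} [CommRing A] [IsLocalRing A] [CommRing B] [IsLocalRing B] [IsDomain B]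
  [Algebra A B] [IsLocalHom (algebraMap A B)] [Field K₁] [Field M]
  (f : K₁ →+* M) (W : ValuationSubring M)
  [Algebra A (W.comap f)] [IsLocalHom (algebraMap A (W.comap f))]
  (g : B →+* M)
  (hcompat : ∀ a : A, f ((algebraMap A (W.comap f) a : W.comap f) : K₁) = g (algebraMap A B a))

/-- every element of `M` is a quotient of two elements in the image of `theta` -/
theorem exists_theta_div (L : Type u) [Field L] [Algebra B L] [IsFractionRing B L] [Algebra L M]
    (hg : ∀ b, g b = algebraMap L M (algebraMap B L b))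
    (hgen : Algebra.adjoin L (Set.range f) = ⊤) (m : M) :
    ∃ x y : (W.comap f) ⊗[A] B, theta f W g hcompat y ≠ 0 ∧
      m = theta f W g hcompat x / theta f W g hcompat y := by
  have hginj : Function.Injective g := by
    intro b b' h
    rw [hg, hg] at h
    exact IsFractionRing.injective B L ((algebraMap L M).injective h)
  let S : Subalgebra L M :=
    { carrier := {m | ∃ x y, theta f W g hcompat y ≠ 0 ∧
        m = theta f W g hcompat x / theta f W g hcompat y}
      mul_mem' := by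
        rintro _ _ ⟨x, y, hy, rfl⟩ ⟨x', y', hy', rfl⟩
        exact ⟨x * x', y * y', by rw [map_mul]; exact mul_ne_zero hy hy', by
          rw [map_mul, map_mul, div_mul_div_comm]⟩
      add_mem' := by
        rintro _ _ ⟨x, y, hy, rfl⟩ ⟨x', y', hy', rfl⟩
        refine ⟨x * y' + x' * y, y * y', by rw [map_mul]; exact mul_ne_zero hy hy', ?_⟩
        rw [map_add, map_mul, map_mul, map_mul, div_add_div _ _ hy hy']
        ring
      algebraMap_mem' := by
        intro l
        obtain ⟨b, b', hb', rfl⟩ := IsFractionRing.div_surjective (A := B) l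
        have hb'0 : b' ≠ 0 := nonZeroDivisors.ne_zero hb'
        refine ⟨1 ⊗ₜ b, 1 ⊗ₜ b', ?_, ?_⟩
        · rw [theta_tmul, OneMemClass.coe_one, map_one, one_mul]
          exact fun h => hb'0 (hginj (by rw [h, map_zero]))
        · rw [theta_tmul, theta_tmul, OneMemClass.coe_one, map_one, one_mul, one_mul, map_div₀,
            hg, hg] }
  have hle : Algebra.adjoin L (Set.range f) ≤ S := by
    apply Algebra.adjoin_le
    rintro _ ⟨k, rfl⟩
    show ∃ x y, theta f W g hcompat y ≠ 0 ∧ f k = theta f W g hcompat x / theta f W g hcompat y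
    rcases (W.comap f).mem_or_inv_mem k with hk | hk
    · refine ⟨(⟨k, hk⟩ : W.comap f) ⊗ₜ 1, 1, ?_, ?_⟩
      · rw [map_one]; exact one_ne_zero
      · rw [theta_tmul, map_one, map_one, mul_one, div_one]
    · by_cases hk0 : k = 0
      · exact ⟨0, 1, by rw [map_one]; exact one_ne_zero, by rw [hk0, map_zero, map_zero, zero_div]⟩
      refine ⟨1, (⟨k⁻¹, hk⟩ : W.comap f) ⊗ₜ 1, ?_, ?_⟩
      · rw [theta_tmul, map_one, mul_one]
        show f k⁻¹ ≠ 0
        rw [map_inv₀]; exact inv_ne_zero (fun h => hk0 ((map_eq_zero f).mp h))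
      · rw [theta_tmul, map_one, map_one, mul_one]
        show f k = 1 / f k⁻¹
        rw [map_inv₀, one_div, inv_inv]
  rw [hgen] at hle
  exact hle (Algebra.mem_top : m ∈ ⊤)

end Gen
end

section
open IsLocalRing TensorProduct Groth.Agent.Lib.R2H1.EtRamTower Groth.Agent.Lib.R2H1.EtRam

section Sep

variable {A B K₁ M : Type u} [CommRing A] [IsDomain A] [IsDiscreteValuationRing A]
  [CommRing B] [IsDomain B] [IsDiscreteValuationRing B]
  [Algebra A B] [IsLocalHom (algebraMap A B)] [Field K₁] [Field M]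
  (f : K₁ →+* M) (W : ValuationSubring M)
  [Algebra A (W.comap f)] [IsLocalHom (algebraMap A (W.comap f))]
  (g : B →+* M)
  (hcompat : ∀ a : A, f ((algebraMap A (W.comap f) a : W.comap f) : K₁) = g (algebraMap A B a))

include hcompat in
theorem exists_pow_lt (L : Type u) [Field L] [Algebra B L] [IsFractionRing B L] [Algebra L M]
    [Algebra.IsAlgebraic L M]
    (hg : ∀ b, g b = algebraMap L M (algebraMap B L b))
    (hgW : ∀ b, g b ∈ W) (hw : EtRam.IsWeaklyUnramified A B)
    (π₁ : W.comap f) (hπ₁m : π₁ ∈ maximalIdeal (W.comap f)) (hπ₁0 : (π₁ : K₁) ≠ 0)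
    (hpow : ∀ a : A, a ≠ 0 → algebraMap A (W.comap f) a ∈ maximalIdeal (W.comap f) →
      ∃ (N : ℕ) (c : W.comap f), π₁ ^ N = algebraMap A (W.comap f) a * c)
    (w : M) (hw0 : w ≠ 0) : ∃ n : ℕ, W.valuation (f (π₁ : K₁)) ^ n < W.valuation w := by
  set q := W.valuation (f (π₁ : K₁)) with hq
  have hfπ0 : f (π₁ : K₁) ≠ 0 := fun h => hπ₁0 ((map_eq_zero f).mp h)
  have hq0 : q ≠ 0 := by rw [hq, Ne, Valuation.zero_iff]; exact hfπ0
  have hqpos : 0 < q := zero_lt_iff.mpr hq0
  have hq1 : q < 1 := (mem_maximalIdeal_comap_iff W f π₁).mp hπ₁m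
  by_cases hw1 : 1 ≤ W.valuation w
  · exact ⟨1, by rw [pow_one]; exact lt_of_lt_of_le hq1 hw1⟩
  have hwW : w ∈ W := (W.valuation_le_one_iff w).mp (not_le.mp hw1).le
  obtain ⟨π, hπ⟩ := IsDiscreteValuationRing.exists_irreducible A
  have hπ0 : π ≠ 0 := hπ.ne_zero
  have hmA : maximalIdeal A = Ideal.span {π} := hπ.maximalIdeal_eq
  have hmB : maximalIdeal B = Ideal.span {algebraMap A B π} := by
    have h1 : (maximalIdeal A).map (algebraMap A B) = maximalIdeal B := hw
    rw [← h1, hmA, Ideal.map_span, Set.image_singleton]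
  have hϖ : Irreducible (algebraMap A B π) :=
    (IsDiscreteValuationRing.irreducible_iff_uniformizer _).mpr hmB
  have hBW : ∀ b : B, algebraMap L M (algebraMap B L b) ∈ W.toSubring := fun b => by
    rw [← hg]; exact hgW b
  obtain ⟨b, hb0, y, hyW, hby⟩ := exists_ne_zero_mul_eq (B := B) (L := L) W.toSubring hBW w hwW hw0
    (Algebra.IsAlgebraic.isAlgebraic w)
  obtain ⟨j, u, hbu⟩ := IsDiscreteValuationRing.eq_unit_mul_pow_irreducible hb0 hϖ
  have hvu : W.valuation (g (u : B)) = 1 := by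
    have h1 : W.valuation (g (u : B)) ≤ 1 := (W.valuation_le_one_iff _).mpr (hgW _)
    have h2 : W.valuation (g ((u⁻¹ : Bˣ) : B)) ≤ 1 := (W.valuation_le_one_iff _).mpr (hgW _)
    have h3 : W.valuation (g (u : B)) * W.valuation (g ((u⁻¹ : Bˣ) : B)) = 1 := by
      rw [← map_mul, ← map_mul, Units.mul_inv, map_one, map_one]
    refine le_antisymm h1 ?_
    calc (1 : _) = W.valuation (g (u : B)) * W.valuation (g ((u⁻¹ : Bˣ) : B)) := h3.symm
      _ ≤ W.valuation (g (u : B)) * 1 := mul_le_mul_right h2 _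
      _ = _ := mul_one _
  have hπm : algebraMap A (W.comap f) π ∈ maximalIdeal (W.comap f) := by
    rw [mem_maximalIdeal, mem_nonunits_iff]
    intro hu
    exact hπ.not_isUnit (IsLocalHom.map_nonunit π hu)
  obtain ⟨N, c, hNc⟩ := hpow π hπ0 hπm
  have hvπ : q ^ N ≤ W.valuation (g (algebraMap A B π)) := by
    rw [← hcompat]
    have h0 : ((π₁ : K₁)) ^ N =
        ((algebraMap A (W.comap f) π : W.comap f) : K₁) * (c : K₁) := by
      have := congrArg (fun x : W.comap f => (x : K₁)) hNc
      simpa using this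
    have h1 : q ^ N = W.valuation (f ((algebraMap A (W.comap f) π : W.comap f) : K₁)) *
        W.valuation (f (c : K₁)) := by
      rw [hq, ← map_pow, ← map_pow, h0, map_mul, map_mul]
    rw [h1]
    have h2 : W.valuation (f (c : K₁)) ≤ 1 := (W.valuation_le_one_iff _).mpr c.2
    calc _ ≤ W.valuation (f ((algebraMap A (W.comap f) π : W.comap f) : K₁)) * 1 :=
          mul_le_mul_right h2 _
      _ = _ := mul_one _
  have hvb : W.valuation (g b) = W.valuation (g (algebraMap A B π)) ^ j := by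
    rw [hbu, map_mul, map_mul, hvu, one_mul, map_pow, map_pow]
  have hvw : W.valuation (g b) ≤ W.valuation w := by
    rw [hg, hby, map_mul]
    have h2 : W.valuation y ≤ 1 := (W.valuation_le_one_iff _).mpr hyW
    calc _ ≤ 1 * W.valuation w := mul_le_mul_left h2 _
      _ = _ := one_mul _
  refine ⟨N * j + 1, ?_⟩
  calc q ^ (N * j + 1) < q ^ (N * j) :=
        pow_lt_pow_right_of_lt_one₀ hqpos hq1 (Nat.lt_succ_self _)
    _ = (q ^ N) ^ j := pow_mul _ _ _
    _ ≤ W.valuation (g (algebraMap A B π)) ^ j := pow_le_pow_left' hvπ j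
    _ = W.valuation (g b) := hvb.symm
    _ ≤ W.valuation w := hvw

end Sep
end

section
open IsLocalRing TensorProduct Groth.Agent.Lib.R2H1.EtRamTower Groth.Agent.Lib.R2H1.EtRam

section Main

variable (A B K L : Type u) [CommRing A] [IsDomain A] [IsDiscreteValuationRing A]
  [CommRing B] [IsDomain B] [IsDiscreteValuationRing B] [Algebra A B] [IsLocalHom (algebraMap A B)]
  [Field K] [Field L] [Algebra A K] [IsFractionRing A K] [Algebra B L] [IsFractionRing B L]
  [Algebra K L] [Algebra A L] [IsScalarTower A K L] [IsScalarTower A B L]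
  (K₁ : Type u) [Field K₁] [Algebra K K₁]
  (M : Type u) [Field M] [Algebra K M] [Algebra L M] [Algebra K₁ M] [IsScalarTower K L M]
  [IsScalarTower K K₁ M]

theorem algebraMap_compat (a : A) :
    algebraMap K₁ M (algebraMap K K₁ (algebraMap A K a)) =
      ((algebraMap L M).comp (algebraMap B L)) (algebraMap A B a) := by
  rw [← IsScalarTower.algebraMap_apply K K₁ M, IsScalarTower.algebraMap_apply K L M,
    ← IsScalarTower.algebraMap_apply A K L, IsScalarTower.algebraMap_apply A B L]
  rfl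

theorem local_ext [FiniteDimensional K K₁] (hw : EtRam.IsWeaklyUnramified A B)
    [Algebra.IsGeometricallyReduced (ResidueField A) (ResidueField B)]
    (hgen : Algebra.adjoin L (Set.range (algebraMap K₁ M)) = ⊤)
    (W : ValuationSubring M)
    (hdom : EtRam.Dominates B ((algebraMap L M).comp (algebraMap B L)) W) :
    letI : Algebra (W.comap (algebraMap K₁ M)) W :=
      (EtRam.inclOfComap W (algebraMap K₁ M)).toAlgebra
    EtRam.IsWeaklyUnramified (W.comap (algebraMap K₁ M)) W ∧
      @Algebra.IsGeometricallyReduced (ResidueField (W.comap (algebraMap K₁ M))) (ResidueField W)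
        _ _ (ResidueField.map (EtRam.inclOfComap W (algebraMap K₁ M))).toAlgebra := by
  have hmemA := algebraMap_compat A B K L K₁ M
  have hmem : ∀ a : A, ((algebraMap K K₁).comp (algebraMap A K)) a ∈
      W.comap (algebraMap K₁ M) := fun a => by
    show algebraMap K₁ M _ ∈ W
    rw [RingHom.comp_apply, hmemA]; exact hdom.1 _
  letI algAV : Algebra A (W.comap (algebraMap K₁ M)) :=
    (RingHom.codRestrict ((algebraMap K K₁).comp (algebraMap A K))
      (W.comap (algebraMap K₁ M)) hmem).toAlgebra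
  have hdomA : EtRam.Dominates A ((algebraMap K K₁).comp (algebraMap A K))
      (W.comap (algebraMap K₁ M)) := by
    apply dominates_comap
    refine ⟨fun a => ?_, fun a ha => ?_⟩
    · rw [RingHom.comp_apply, RingHom.comp_apply, hmemA]; exact hdom.1 _
    · rw [RingHom.comp_apply, RingHom.comp_apply, hmemA]
      apply hdom.2
      rw [mem_maximalIdeal, mem_nonunits_iff] at ha ⊢
      exact fun hu => ha (IsLocalHom.map_nonunit a hu)
  haveI locAV : IsLocalHom (algebraMap A (W.comap (algebraMap K₁ M))) :=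
    isLocalHom_codRestrict _ _ hdomA
  have hcompat : ∀ a : A, algebraMap K₁ M
      ((algebraMap A (W.comap (algebraMap K₁ M)) a : W.comap (algebraMap K₁ M)) : K₁) =
      ((algebraMap L M).comp (algebraMap B L)) (algebraMap A B a) := fun a => hmemA a
  have hAV : ∀ a, ((algebraMap A (W.comap (algebraMap K₁ M)) a : W.comap (algebraMap K₁ M)) : K₁) =
      algebraMap K K₁ (algebraMap A K a) := fun _ => rfl
  obtain ⟨⟨π₁, hπ₁, hπ₁0⟩, hpow, hfin⟩ := ka_facts A K K₁ (W.comap (algebraMap K₁ M)) hAV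
  haveI : Algebra.IsAlgebraic L M := isAlgebraic_of_adjoin K L K₁ M hgen
  have hπ₁m : π₁ ∈ maximalIdeal (W.comap (algebraMap K₁ M)) :=
    hπ₁ ▸ Ideal.mem_span_singleton_self π₁
  have hsep := exists_pow_lt (algebraMap K₁ M) W ((algebraMap L M).comp (algebraMap B L)) hcompat L
    (fun b => rfl) hdom.1 hw π₁ hπ₁m hπ₁0 (hpow π₁ hπ₁)
  have hgen' := exists_theta_div (algebraMap K₁ M) W ((algebraMap L M).comp (algebraMap B L))
    hcompat L (fun b => rfl) hgen
  haveI : Module.Finite (ResidueField A) (ResidueField (W.comap (algebraMap K₁ M))) :=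
    Module.Finite.of_restrictScalars_finite A _ _
  haveI : Algebra.IsAlgebraic (ResidueField A) (ResidueField (W.comap (algebraMap K₁ M))) :=
    Algebra.IsAlgebraic.of_finite _ _
  haveI hTred : IsReduced (ResidueField (W.comap (algebraMap K₁ M)) ⊗[ResidueField A]
      ResidueField B) := inferInstance
  have hmax := forall_isMaximal_tensor (ResidueField A)
    (ResidueField (W.comap (algebraMap K₁ M))) (ResidueField B)
  refine ⟨weaklyUnramified_of (algebraMap K₁ M) W ((algebraMap L M).comp (algebraMap B L)) hcompat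
    hdom.1 hw π₁ hπ₁ hπ₁0 hmax hsep hgen', ?_⟩
  letI : Algebra (ResidueField (W.comap (algebraMap K₁ M))) (ResidueField W) :=
    (ResidueField.map (EtRam.inclOfComap W (algebraMap K₁ M))).toAlgebra
  let gW : B →+* W := RingHom.codRestrict ((algebraMap L M).comp (algebraMap B L)) W hdom.1
  haveI : IsLocalHom gW := isLocalHom_codRestrict _ W hdom
  have hspan := span_residue_eq_top (algebraMap K₁ M) W ((algebraMap L M).comp (algebraMap B L))
    hcompat hdom.1 hw π₁ hπ₁ hπ₁0 hmax hsep hgen' gW (fun b => rfl)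
  refine isGeometricallyReduced_of_span (ResidueField A)
    (ResidueField (W.comap (algebraMap K₁ M))) (ResidueField B) (ResidueField W)
    (ResidueField.map gW) ?_ hspan
  intro a
  obtain ⟨a₀, rfl⟩ := residue_surjective a
  show residue W (gW (algebraMap A B a₀)) =
    residue W (EtRam.inclOfComap W (algebraMap K₁ M) (algebraMap A (W.comap (algebraMap K₁ M)) a₀))
  exact congrArg (residue W) (Subtype.ext (hcompat a₀).symm)

end Main
end

end Groth.Agent.Lib.R2H1.EtRamSmooth
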