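import Mathlib
import Groth.Prelude.Def_EtRam
import Groth.Agent.Lib.R2H1EtRam
import Groth.Agent.Lib.R2H1EtRamTower
import Groth.Agent.Lib.R2H1EtRamSmooth
import Groth.Agent.Lib.Helper14GeomRed

/-!
# Abhyankar's lemma for extensions of discrete valuation rings (helper1, round 2)

* abstract descent lemmas `astep`, `adescent`, `aexists_factor`, `aexists_eq_mul_of_lt_one`,
  `aexists_eq_div_of_eq_one`, `asurj` for a ring `R₁ → W` with reduced zero-dimensional fibre
* `isReduced_adjoinRoot`, `forall_isMaximal_adjoinRoot`: `R[X]/(g)` for `g` monic separable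
* `ker_rho_eq`, `ker_rho_eq_span`, `exists_unit_mul_pow`, `ramificationIdx'_eq_of_eq`
* `isGeometricallyReduced_of_adjoin`, `isGeometricallyReduced_of_charZero`
* `abh_poly`, `abh_core`, `local_ext_abh`: Abhyankar's lemma
-/

set_option autoImplicit false
set_option linter.unusedSectionVars false
set_option linter.style.haveILetI false

universe u

namespace Groth.Agent.Lib.R2H1.EtRamAbh

section
open IsLocalRing TensorProduct Polynomial Groth.Agent.Lib.R2H1.EtRamTower Groth.Agent.Lib.R2H1.EtRam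
  Groth.Agent.Lib.R2H1.EtRamSmooth
section Abstract

variable {M : Type u} [Field M] (W : ValuationSubring M)
  {R₁ T' : Type u} [CommRing R₁] [CommRing T']
  (Θ : R₁ →+* M) (hΘW : ∀ y, Θ y ∈ W) (ϖ₁ : R₁)
  (ρ : R₁ →+* T') (hρ : Function.Surjective ρ)
  (hker : ∀ z, ρ z = 0 → ∃ x', Θ z = Θ ϖ₁ * Θ x')

include hΘW hρ hker in
theorem astep (ht1 : W.valuation (Θ ϖ₁) < 1) [IsReduced T']
    (hmax : ∀ p : Ideal T', p.IsPrime → p.IsMaximal)
    (x : R₁) (hx : W.valuation (Θ x) < 1) :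
    ∃ s x' : R₁, W.valuation (Θ s) = 1 ∧ Θ s * Θ x = Θ ϖ₁ * Θ x' := by
  classical
  let ΘW : R₁ →+* W := Θ.codRestrict W.toSubring hΘW
  have hΘW' : ∀ z, ((ΘW z : W) : M) = Θ z := fun z => rfl
  let q : Ideal R₁ := (maximalIdeal W).comap ΘW
  haveI hqp : q.IsPrime := Ideal.comap_isPrime _ _
  have hq : ∀ z, z ∈ q ↔ W.valuation (Θ z) < 1 := fun z => by
    rw [Ideal.mem_comap, W.valuation_lt_one_iff, hΘW']
  have hle1 : ∀ z, W.valuation (Θ z) ≤ 1 := fun z =>
    (W.valuation_le_one_iff _).mpr (hΘW z)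
  have hkerq : RingHom.ker ρ ≤ q := by
    intro z hz
    obtain ⟨x', hx'⟩ := hker z ((RingHom.mem_ker).mp hz)
    rw [hq, hx', map_mul]
    calc W.valuation (Θ ϖ₁) * W.valuation (Θ x') ≤ W.valuation (Θ ϖ₁) * 1 :=
          mul_le_mul_right (hle1 x') _
      _ < 1 := by rw [mul_one]; exact ht1
  haveI hqT : (q.map ρ).IsPrime := Ideal.map_isPrime_of_surjective hρ hkerq
  have hmin := mem_minimalPrimes_of_forall_isMaximal hmax (q.map ρ)
  have hxq : ρ x ∈ q.map ρ := Ideal.mem_map_of_mem _ ((hq x).mpr hx)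
  obtain ⟨sT, hsT, hsx⟩ := exists_mul_eq_zero_of_mem_minimalPrimes hmin hxq
  obtain ⟨s, rfl⟩ := hρ sT
  have hsq : s ∉ q := fun h => hsT (Ideal.mem_map_of_mem _ h)
  have h1 : ρ (s * x) = 0 := by rw [map_mul, hsx]
  obtain ⟨x', hx'⟩ := hker _ h1
  refine ⟨s, x', ?_, by rw [← map_mul, hx']⟩
  have h2 : ¬ W.valuation (Θ s) < 1 := fun h => hsq ((hq s).mpr h)
  exact le_antisymm (hle1 s) (not_lt.mp h2)

include hΘW hρ hker in
theorem adescent (ht0 : Θ ϖ₁ ≠ 0) (ht1 : W.valuation (Θ ϖ₁) < 1) [IsReduced T']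
    (hmax : ∀ p : Ideal T', p.IsPrime → p.IsMaximal) :
    ∀ n : ℕ, ∀ x : R₁, Θ x ≠ 0 →
      W.valuation (Θ ϖ₁) ^ (n + 1) < W.valuation (Θ x) →
      ∃ (k : ℕ) (s x'' : R₁), W.valuation (Θ s) = 1 ∧
        W.valuation (Θ x'') = 1 ∧ Θ s * Θ x = Θ ϖ₁ ^ k * Θ x'' := by
  set q := W.valuation (Θ ϖ₁) with hq
  have hq0 : q ≠ 0 := by
    rw [hq, Ne, Valuation.zero_iff]; exact ht0
  have hqpos : 0 < q := zero_lt_iff.mpr hq0
  have hle1 : ∀ z, W.valuation (Θ z) ≤ 1 := fun z =>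
    (W.valuation_le_one_iff _).mpr (hΘW z)
  intro n
  induction n with
  | zero =>
    intro x hx0 hlt
    by_cases h1 : W.valuation (Θ x) = 1
    · exact ⟨0, 1, x, by rw [map_one, map_one], h1, by rw [pow_zero, map_one]⟩
    · exfalso
      have h2 : W.valuation (Θ x) < 1 := lt_of_le_of_ne (hle1 x) h1
      obtain ⟨s, x', hs, hsx⟩ := astep W Θ hΘW ϖ₁ ρ hρ hker ht1 hmax x h2
      have h3 := congrArg W.valuation hsx
      simp only [map_mul] at h3
      rw [hs, one_mul, ← hq] at h3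
      rw [h3, zero_add, pow_one] at hlt
      have h4 : q * W.valuation (Θ x') ≤ q * 1 := mul_le_mul_right (hle1 x') q
      rw [mul_one] at h4
      exact absurd hlt (not_lt.mpr h4)
  | succ n ih =>
    intro x hx0 hlt
    by_cases h1 : W.valuation (Θ x) = 1
    · exact ⟨0, 1, x, by rw [map_one, map_one], h1, by rw [pow_zero, map_one]⟩
    · have h2 : W.valuation (Θ x) < 1 := lt_of_le_of_ne (hle1 x) h1
      obtain ⟨s, x', hs, hsx⟩ := astep W Θ hΘW ϖ₁ ρ hρ hker ht1 hmax x h2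
      have h3 := congrArg W.valuation hsx
      simp only [map_mul] at h3
      rw [hs, one_mul, ← hq] at h3
      have hx'0 : Θ x' ≠ 0 := by
        intro h0
        rw [h0, map_zero, mul_zero, Valuation.zero_iff] at h3
        exact hx0 h3
      have hlt' : q ^ (n + 1) < W.valuation (Θ x') := by
        rw [h3, pow_succ' q (n + 1)] at hlt
        exact (mul_lt_mul_iff_right₀ hqpos).mp hlt
      obtain ⟨k, s₂, x'', hs₂, hx'', hsx₂⟩ := ih x' hx'0 hlt'
      refine ⟨k + 1, s₂ * s, x'', by rw [map_mul, map_mul, hs₂, hs, one_mul], hx'', ?_⟩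
      calc Θ (s₂ * s) * Θ x = Θ s₂ * (Θ s * Θ x) := by rw [map_mul]; ring
        _ = Θ s₂ * (Θ ϖ₁ * Θ x') := by rw [hsx]
        _ = Θ ϖ₁ * (Θ s₂ * Θ x') := by ring
        _ = Θ ϖ₁ * (Θ ϖ₁ ^ k * Θ x'') := by rw [hsx₂]
        _ = Θ ϖ₁ ^ (k + 1) * Θ x'' := by ring

include hΘW hρ hker in
theorem aexists_factor (ht0 : Θ ϖ₁ ≠ 0) (ht1 : W.valuation (Θ ϖ₁) < 1) [IsReduced T']
    (hmax : ∀ p : Ideal T', p.IsPrime → p.IsMaximal)
    (hsep : ∀ w : M, w ≠ 0 → ∃ n : ℕ, W.valuation (Θ ϖ₁) ^ n < W.valuation w)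
    (x : R₁) (hx0 : Θ x ≠ 0) :
    ∃ (k : ℕ) (s x'' : R₁), W.valuation (Θ s) = 1 ∧ W.valuation (Θ x'') = 1 ∧
      Θ s * Θ x = Θ ϖ₁ ^ k * Θ x'' := by
  obtain ⟨n, hn⟩ := hsep _ hx0
  have hn' : W.valuation (Θ ϖ₁) ^ (n + 1) < W.valuation (Θ x) := by
    refine lt_of_le_of_lt ?_ hn
    rw [pow_succ]
    calc W.valuation (Θ ϖ₁) ^ n * W.valuation (Θ ϖ₁)
        ≤ W.valuation (Θ ϖ₁) ^ n * 1 := mul_le_mul_right ht1.le _
      _ = W.valuation (Θ ϖ₁) ^ n := mul_one _
  exact adescent W Θ hΘW ϖ₁ ρ hρ hker ht0 ht1 hmax n x hx0 hn'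

include hΘW hρ hker in
theorem aexists_eq_mul_of_lt_one (ht0 : Θ ϖ₁ ≠ 0) (ht1 : W.valuation (Θ ϖ₁) < 1) [IsReduced T']
    (hmax : ∀ p : Ideal T', p.IsPrime → p.IsMaximal)
    (hsep : ∀ w : M, w ≠ 0 → ∃ n : ℕ, W.valuation (Θ ϖ₁) ^ n < W.valuation w)
    (hgen : ∀ m : M, ∃ x y : R₁, Θ y ≠ 0 ∧ m = Θ x / Θ y)
    (w : M) (hw1 : W.valuation w < 1) : ∃ y ∈ W, w = Θ ϖ₁ * y := by
  set q := W.valuation (Θ ϖ₁) with hq
  have hq0 : q ≠ 0 := by rw [hq, Ne, Valuation.zero_iff]; exact ht0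
  have hqpos : 0 < q := zero_lt_iff.mpr hq0
  by_cases hw0 : w = 0
  · exact ⟨0, W.zero_mem, by rw [hw0, mul_zero]⟩
  obtain ⟨x, y, hy0, hwxy⟩ := hgen w
  have hx0 : Θ x ≠ 0 := by
    intro h; apply hw0; rw [hwxy, h, zero_div]
  obtain ⟨k, s, x'', hs, hx'', hsx⟩ :=
    aexists_factor W Θ hΘW ϖ₁ ρ hρ hker ht0 ht1 hmax hsep x hx0
  obtain ⟨l, t, y'', ht, hy'', hty⟩ :=
    aexists_factor W Θ hΘW ϖ₁ ρ hρ hker ht0 ht1 hmax hsep y hy0
  have hvx : W.valuation (Θ x) = q ^ k := by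
    have := congrArg W.valuation hsx
    rwa [map_mul, map_mul, hs, hx'', one_mul, mul_one, map_pow] at this
  have hvy : W.valuation (Θ y) = q ^ l := by
    have := congrArg W.valuation hty
    rwa [map_mul, map_mul, ht, hy'', one_mul, mul_one, map_pow] at this
  have hvw : W.valuation w * q ^ l = q ^ k := by
    rw [hwxy, map_div₀, hvx, hvy, div_mul_cancel₀]
    exact pow_ne_zero _ hq0
  have hlk : l < k := by
    by_contra hkl
    have hkl' : k ≤ l := not_lt.mp hkl
    have h1 : q ^ l ≤ q ^ k := pow_le_pow_right_of_le_one' ht1.le hkl'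
    have h2 : W.valuation w * q ^ l < 1 * q ^ l :=
      mul_lt_mul_of_pos_right hw1 (pow_pos hqpos l)
    rw [hvw, one_mul] at h2
    exact absurd h2 (not_lt.mpr h1)
  obtain ⟨d, rfl⟩ := Nat.exists_eq_add_of_lt hlk
  have hvw' : W.valuation w = q ^ (d + 1) := by
    have h1 : q ^ (l + d + 1) = q ^ (d + 1) * q ^ l := by rw [← pow_add]; congr 1; omega
    rw [h1] at hvw
    exact mul_right_cancel₀ (pow_ne_zero l hq0) hvw
  refine ⟨w / Θ ϖ₁, ?_, by field_simp⟩
  rw [← W.valuation_le_one_iff, map_div₀, hvw', ← hq, pow_succ, mul_div_assoc, div_self hq0,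
    mul_one]
  exact pow_le_one₀ hqpos.le ht1.le

include hΘW hρ hker in
theorem aexists_eq_div_of_eq_one (ht0 : Θ ϖ₁ ≠ 0) (ht1 : W.valuation (Θ ϖ₁) < 1) [IsReduced T']
    (hmax : ∀ p : Ideal T', p.IsPrime → p.IsMaximal)
    (hsep : ∀ w : M, w ≠ 0 → ∃ n : ℕ, W.valuation (Θ ϖ₁) ^ n < W.valuation w)
    (hgen : ∀ m : M, ∃ x y : R₁, Θ y ≠ 0 ∧ m = Θ x / Θ y)
    (w : M) (hw1 : W.valuation w = 1) :
    ∃ z z' : R₁, W.valuation (Θ z) = 1 ∧ W.valuation (Θ z') = 1 ∧ w = Θ z / Θ z' := by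
  set q := W.valuation (Θ ϖ₁) with hq
  have hq0 : q ≠ 0 := by rw [hq, Ne, Valuation.zero_iff]; exact ht0
  have hqpos : 0 < q := zero_lt_iff.mpr hq0
  have hw0 : w ≠ 0 := by
    intro h; rw [h, map_zero] at hw1; exact zero_ne_one hw1
  obtain ⟨x, y, hy0, hwxy⟩ := hgen w
  have hx0 : Θ x ≠ 0 := by
    intro h; apply hw0; rw [hwxy, h, zero_div]
  obtain ⟨k, s, x'', hs, hx'', hsx⟩ :=
    aexists_factor W Θ hΘW ϖ₁ ρ hρ hker ht0 ht1 hmax hsep x hx0
  obtain ⟨l, t, y'', ht, hy'', hty⟩ :=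
    aexists_factor W Θ hΘW ϖ₁ ρ hρ hker ht0 ht1 hmax hsep y hy0
  have hvx : W.valuation (Θ x) = q ^ k := by
    have := congrArg W.valuation hsx
    rwa [map_mul, map_mul, hs, hx'', one_mul, mul_one, map_pow] at this
  have hvy : W.valuation (Θ y) = q ^ l := by
    have := congrArg W.valuation hty
    rwa [map_mul, map_mul, ht, hy'', one_mul, mul_one, map_pow] at this
  have hvw : q ^ l = q ^ k := by
    have : W.valuation w * q ^ l = q ^ k := by
      rw [hwxy, map_div₀, hvx, hvy, div_mul_cancel₀]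
      exact pow_ne_zero _ hq0
    rwa [hw1, one_mul] at this
  have hkl : k = l := by
    rcases lt_trichotomy k l with h | h | h
    · exact absurd hvw (ne_of_lt (pow_lt_pow_right_of_lt_one₀ hqpos ht1 h))
    · exact h
    · exact absurd hvw.symm (ne_of_lt (pow_lt_pow_right_of_lt_one₀ hqpos ht1 h))
  subst hkl
  have hs0 : Θ s ≠ 0 := by
    intro h; rw [h, map_zero] at hs; exact zero_ne_one hs
  have hy''0 : Θ y'' ≠ 0 := by
    intro h; rw [h, map_zero] at hy''; exact zero_ne_one hy''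
  refine ⟨x'' * t, y'' * s, by rw [map_mul, map_mul, hx'', ht, one_mul],
    by rw [map_mul, map_mul, hy'', hs, one_mul], ?_⟩
  rw [hwxy, map_mul, map_mul, div_eq_div_iff hy0 (mul_ne_zero hy''0 hs0)]
  have hpow0 : Θ ϖ₁ ^ k ≠ 0 := pow_ne_zero _ ht0
  have e1 : Θ x * (Θ y'' * Θ s) * Θ ϖ₁ ^ k = Θ x'' * Θ t * Θ y * Θ ϖ₁ ^ k := by
    calc Θ x * (Θ y'' * Θ s) * Θ ϖ₁ ^ k
        = (Θ s * Θ x) * (Θ ϖ₁ ^ k * Θ y'') := by ring
      _ = (Θ ϖ₁ ^ k * Θ x'') * (Θ t * Θ y) := by rw [hsx, hty]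
      _ = Θ x'' * Θ t * Θ y * Θ ϖ₁ ^ k := by ring
  exact mul_right_cancel₀ hpow0 e1

include hΘW hρ hker in
/-- the residue map `R₁ → κ(W)` is surjective -/
theorem asurj (ht0 : Θ ϖ₁ ≠ 0) (ht1 : W.valuation (Θ ϖ₁) < 1) [IsReduced T']
    (hmax : ∀ p : Ideal T', p.IsPrime → p.IsMaximal)
    (hsep : ∀ w : M, w ≠ 0 → ∃ n : ℕ, W.valuation (Θ ϖ₁) ^ n < W.valuation w)
    (hgen : ∀ m : M, ∃ x y : R₁, Θ y ≠ 0 ∧ m = Θ x / Θ y) (x : ResidueField W) :
    ∃ z : R₁, x = residue W ⟨Θ z, hΘW z⟩ := by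
  let ΘW : R₁ →+* W := Θ.codRestrict W.toSubring hΘW
  have hΘW' : ∀ z, ((ΘW z : W) : M) = Θ z := fun z => rfl
  let R' : R₁ →+* ResidueField W := (residue W).comp ΘW
  have hle1 : ∀ z, W.valuation (Θ z) ≤ 1 := fun z =>
    (W.valuation_le_one_iff _).mpr (hΘW z)
  have hker' : ∀ y, ρ y = 0 → R' y = 0 := by
    intro y hy
    obtain ⟨y', hy'⟩ := hker y hy
    show residue W (ΘW y) = 0
    rw [residue_eq_zero_iff, W.valuation_lt_one_iff, hΘW', hy', map_mul]
    calc W.valuation (Θ ϖ₁) * W.valuation (Θ y') ≤ W.valuation (Θ ϖ₁) * 1 :=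
          mul_le_mul_right (hle1 y') _
      _ < 1 := by rw [mul_one]; exact ht1
  have hvnr := exists_eq_mul_self_mul (R := T') hmax
  have hb : ∀ z', W.valuation (Θ z') = 1 → ∃ z'', R' z' * R' z'' = 1 := by
    intro z' hz'
    obtain ⟨b', hb'⟩ := hvnr (ρ z')
    obtain ⟨z'', rfl⟩ := hρ b'
    have h1 : ρ (z' - z' * z' * z'') = 0 := by
      rw [map_sub, map_mul, map_mul, ← hb', sub_self]
    have h2 := hker' _ h1
    rw [map_sub, map_mul, map_mul, sub_eq_zero] at h2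
    have h3 : R' z' ≠ 0 := by
      show residue W (ΘW z') ≠ 0
      rw [Ne, residue_eq_zero_iff, W.valuation_lt_one_iff, hΘW', hz']
      exact lt_irrefl _
    refine ⟨z'', ?_⟩
    have h4 : R' z' * 1 = R' z' * (R' z' * R' z'') := by rw [mul_one, ← mul_assoc]; exact h2
    exact (mul_left_cancel₀ h3 h4).symm
  obtain ⟨w, rfl⟩ := residue_surjective x
  by_cases hx0 : residue W w = 0
  · exact ⟨0, by rw [hx0]; symm; rw [residue_eq_zero_iff, W.valuation_lt_one_iff]
                 show W.valuation (Θ 0) < 1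
                 rw [map_zero, map_zero]; exact zero_lt_one⟩
  have hw1 : W.valuation (w : M) = 1 := by
    have h1 : ¬ W.valuation (w : M) < 1 := by
      rw [← W.valuation_lt_one_iff, ← residue_eq_zero_iff]; exact hx0
    exact le_antisymm (W.valuation_le_one w) (not_lt.mp h1)
  obtain ⟨z, z', hz, hz', hwz⟩ :=
    aexists_eq_div_of_eq_one W Θ hΘW ϖ₁ ρ hρ hker ht0 ht1 hmax hsep hgen (w : M) hw1
  obtain ⟨z'', hz''⟩ := hb z' hz'
  have hz'0 : Θ z' ≠ 0 := by
    intro h; rw [h, map_zero] at hz'; exact zero_ne_one hz'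
  have h5 : w * ΘW z' = ΘW z := by
    apply Subtype.ext
    show (w : M) * Θ z' = Θ z
    rw [hwz, div_mul_cancel₀ _ hz'0]
  refine ⟨z * z'', ?_⟩
  show residue W w = R' (z * z'')
  rw [map_mul]
  show _ = residue W (ΘW z) * _
  rw [← h5, map_mul, mul_assoc]
  show _ = residue W w * (R' z' * R' z'')
  rw [hz'', mul_one]

end Abstract

end

section
open IsLocalRing TensorProduct Polynomial Groth.Agent.Lib.R2H1.EtRamTower Groth.Agent.Lib.R2H1.EtRam
  Groth.Agent.Lib.R2H1.EtRamSmooth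
section AdjoinRootRed

variable {R : Type u} [CommRing R]

/-- `R[X]/(g)` is reduced for `R` reduced and `g` monic separable. -/
theorem isReduced_adjoinRoot [IsReduced R] {g : R[X]} (hgm : g.Monic) (hsep : g.Separable) :
    IsReduced (AdjoinRoot g) := by
  classical
  refine ⟨fun x hx => ?_⟩
  obtain ⟨h, rfl⟩ := AdjoinRoot.mk_surjective x
  set r := h %ₘ g with hr
  have hmk : AdjoinRoot.mk g h = AdjoinRoot.mk g r := by
    rw [AdjoinRoot.mk_eq_mk]
    refine ⟨h /ₘ g, ?_⟩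
    have := Polynomial.modByMonic_add_div h g
    rw [hr]
    linear_combination this.symm
  rw [hmk] at hx ⊢
  obtain ⟨n, hn⟩ := hx
  rw [← map_pow, AdjoinRoot.mk_eq_zero] at hn
  suffices r = 0 by rw [this, map_zero]
  ext i
  rw [coeff_zero]
  have hmem : r.coeff i ∈ nilradical R := by
    rw [nilradical_eq_sInf, Ideal.mem_sInf]
    intro p hp
    haveI : p.IsPrime := hp
    haveI : Nontrivial R := ⟨⟨0, 1, fun h01 => hp.ne_top (by
      rw [Ideal.eq_top_iff_one, ← h01]; exact p.zero_mem)⟩⟩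
    let ψ : R →+* p.ResidueField := algebraMap R p.ResidueField
    have hgsep : (g.map ψ).Separable := hsep.map
    have hdvd : g.map ψ ∣ (r.map ψ) ^ n := by
      rw [← Polynomial.map_pow]
      exact Polynomial.map_dvd ψ hn
    have hdvd' : g.map ψ ∣ r.map ψ := hgsep.squarefree.isRadical n _ hdvd
    have hdeg : (r.map ψ).degree < (g.map ψ).degree := by
      calc (r.map ψ).degree ≤ r.degree := Polynomial.degree_map_le
        _ < g.degree := Polynomial.degree_modByMonic_lt h hgm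
        _ = (g.map ψ).degree := (hgm.degree_map ψ).symm
    have h0 : r.map ψ = 0 := Polynomial.eq_zero_of_dvd_of_degree_lt hdvd' hdeg
    have h1 : ψ (r.coeff i) = 0 := by
      rw [← Polynomial.coeff_map, h0, coeff_zero]
    exact (Ideal.algebraMap_residueField_eq_zero).mp h1
  rw [nilradical_eq_zero] at hmem
  exact hmem

/-- all primes of `R[X]/(g)` are maximal if this holds for `R` and `g` is monic -/
theorem forall_isMaximal_adjoinRoot (hmax : ∀ p : Ideal R, p.IsPrime → p.IsMaximal)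
    {g : R[X]} (hgm : g.Monic) :
    ∀ q : Ideal (AdjoinRoot g), q.IsPrime → q.IsMaximal := by
  intro q hq
  haveI : Module.Finite R (AdjoinRoot g) := hgm.finite_adjoinRoot
  haveI : Algebra.IsIntegral R (AdjoinRoot g) := Algebra.IsIntegral.of_finite R _
  have h1 : (q.comap (algebraMap R (AdjoinRoot g))).IsMaximal :=
    hmax _ (Ideal.comap_isPrime _ _)
  exact Ideal.isMaximal_of_isIntegral_of_isMaximal_comap q h1

theorem separable_X_pow_sub_C' (e : ℕ) (he : IsUnit (e : R)) (c : R) (hc : IsUnit c) :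
    (X ^ e - C c : R[X]).Separable := by
  obtain ⟨u, rfl⟩ := hc
  exact Polynomial.separable_X_pow_sub_C_unit u he

theorem monic_X_pow_sub_C' [Nontrivial R] (e : ℕ) (he : e ≠ 0) (c : R) :
    (X ^ e - C c : R[X]).Monic := Polynomial.monic_X_pow_sub_C c he

end AdjoinRootRed

end

section
open IsLocalRing TensorProduct Polynomial Groth.Agent.Lib.R2H1.EtRamTower Groth.Agent.Lib.R2H1.EtRam
  Groth.Agent.Lib.R2H1.EtRamSmooth
section Rho

variable (A V B : Type u) [CommRing A] [IsLocalRing A]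
  [CommRing V] [IsLocalRing V] [Algebra A V] [IsLocalHom (algebraMap A V)]
  [CommRing B] [IsLocalRing B] [Algebra A B] [IsLocalHom (algebraMap A B)]

theorem ker_rho_eq :
    RingHom.ker (rho A V B) = (maximalIdeal V).map
      (Algebra.TensorProduct.includeLeft : V →ₐ[A] V ⊗[A] B) ⊔
      (maximalIdeal B).map (Algebra.TensorProduct.includeRight : B →ₐ[A] V ⊗[A] B) := by
  haveI : TensorProduct.CompatibleSMul A (ResidueField A) (ResidueField V) (ResidueField B) :=
    TensorProduct.CompatibleSMul.of_algebraMap_surjective _ _ residue_surjective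
  have hinj : Function.Injective (Algebra.TensorProduct.mapOfCompatibleSMul (ResidueField A) A A
      (ResidueField V) (ResidueField B)) :=
    (Algebra.TensorProduct.equivOfCompatibleSMul (ResidueField A) A A
      (ResidueField V) (ResidueField B)).injective
  have hkV : RingHom.ker (IsScalarTower.toAlgHom A V (ResidueField V)) = maximalIdeal V :=
    IsLocalRing.ker_residue
  have hkB : RingHom.ker (IsScalarTower.toAlgHom A B (ResidueField B)) = maximalIdeal B :=
    IsLocalRing.ker_residue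
  rw [← hkV, ← hkB, ← Algebra.TensorProduct.map_ker _ _ residue_surjective residue_surjective]
  ext x
  rw [RingHom.mem_ker, RingHom.mem_ker]
  constructor
  · intro hx
    apply hinj
    rw [map_zero]
    exact hx
  · intro hx
    show (Algebra.TensorProduct.mapOfCompatibleSMul (ResidueField A) A A
      (ResidueField V) (ResidueField B)) _ = 0
    have hx' : (Algebra.TensorProduct.map (IsScalarTower.toAlgHom A V (ResidueField V))
            (IsScalarTower.toAlgHom A B (ResidueField B))).toRingHom x = 0 := hx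
    rw [hx', map_zero]

theorem ker_rho_eq_span (π₁ : V) (hπ₁ : maximalIdeal V = Ideal.span {π₁})
    (ϖ : B) (hϖ : maximalIdeal B = Ideal.span {ϖ}) :
    RingHom.ker (rho A V B) = Ideal.span {π₁ ⊗ₜ[A] (1 : B), (1 : V) ⊗ₜ[A] ϖ} := by
  rw [ker_rho_eq, hπ₁, hϖ, Ideal.map_span, Ideal.map_span, Set.image_singleton,
    Set.image_singleton, ← Ideal.span_union]
  rfl

end Rho

section Elt

variable {K₁ : Type u} [Field K₁] (V : ValuationSubring K₁)

/-- in a valuation ring with principal maximal ideal `(π₁)`, a divisor of a power of `π₁` is a unit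
times a power of `π₁` -/
theorem exists_unit_mul_pow (π₁ : V) (hπ₁ : maximalIdeal V = Ideal.span {π₁}) (hπ₁0 : π₁ ≠ 0) :
    ∀ (N : ℕ) (x c : V), π₁ ^ N = x * c → ∃ (n : ℕ) (u : Vˣ), x = u * π₁ ^ n := by
  intro N
  induction N with
  | zero =>
    intro x c h
    rw [pow_zero] at h
    exact ⟨0, ⟨x, c, h.symm, by rw [mul_comm]; exact h.symm⟩, by rw [pow_zero, mul_one]⟩
  | succ N ih =>
    intro x c h
    by_cases hu : IsUnit x
    · obtain ⟨u, rfl⟩ := hu
      exact ⟨0, u, by rw [pow_zero, mul_one]⟩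
    · have hxm : x ∈ maximalIdeal V := (mem_maximalIdeal x).mpr hu
      rw [hπ₁] at hxm
      obtain ⟨x', rfl⟩ := Ideal.mem_span_singleton'.mp hxm
      have h2 : π₁ ^ N = x' * c := by
        have h3 : π₁ * π₁ ^ N = π₁ * (x' * c) := by
          rw [← pow_succ', h]; ring
        exact mul_left_cancel₀ hπ₁0 h3
      obtain ⟨n, u, hn⟩ := ih x' c h2
      exact ⟨n + 1, u, by rw [hn]; ring⟩

end Elt

section Elt2

variable {A V : Type u} [CommRing A] [IsLocalRing A] [CommRing V] [IsDomain V] [IsLocalRing V]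
  [Algebra A V]

theorem ramificationIdx'_eq_of_eq (π : A) (hπ : maximalIdeal A = Ideal.span {π})
    (π₁ : V) (hπ₁ : maximalIdeal V = Ideal.span {π₁}) (hπ₁0 : π₁ ≠ 0)
    (n : ℕ) (u : Vˣ) (h : algebraMap A V π = u * π₁ ^ n) :
    Ideal.ramificationIdx' (maximalIdeal A) (maximalIdeal V) = n := by
  have hmap : (maximalIdeal A).map (algebraMap A V) = Ideal.span {π₁ ^ n} := by
    rw [hπ, Ideal.map_span, Set.image_singleton, h, Ideal.span_singleton_eq_span_singleton]
    exact (associated_unit_mul_left _ _ u.isUnit)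
  apply Ideal.ramificationIdx'_spec
  · rw [hmap, hπ₁, Ideal.span_singleton_pow]
  · rw [hmap, hπ₁, Ideal.span_singleton_pow, Ideal.span_singleton_le_span_singleton]
    rintro ⟨c, hc⟩
    have h1 : π₁ ^ n * 1 = π₁ ^ n * (π₁ * c) := by
      rw [mul_one, ← mul_assoc, ← pow_succ]; exact hc
    have h2 : (1 : V) = π₁ * c := mul_left_cancel₀ (pow_ne_zero n hπ₁0) h1
    have h3 : π₁ ∈ maximalIdeal V := hπ₁ ▸ Ideal.mem_span_singleton_self π₁
    exact (mem_maximalIdeal π₁).mp h3 (IsUnit.of_mul_eq_one c h2.symm)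

theorem ne_zero_of_eq [IsLocalHom (algebraMap A V)] (π : A) (hπ : ¬ IsUnit π)
    (π₁ : V) (n : ℕ) (u : Vˣ) (h : algebraMap A V π = u * π₁ ^ n) : n ≠ 0 := by
  rintro rfl
  rw [pow_zero, mul_one] at h
  exact hπ (IsLocalHom.map_nonunit π (h ▸ u.isUnit))

end Elt2

end

section
open IsLocalRing TensorProduct Polynomial Groth.Agent.Lib.R2H1.EtRamTower Groth.Agent.Lib.R2H1.EtRam
  Groth.Agent.Lib.R2H1.EtRamSmooth
section GR

variable (kA k₁ kB kW : Type u) [Field kA] [Field k₁] [Field kB] [Field kW]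
  [Algebra kA k₁] [Algebra kA kB] [Algebra k₁ kW]

/-- geometric reducedness passes to a field generated over `k₁` by the image of `kB` and an
`e`-th root of a unit, `e` invertible -/
theorem isGeometricallyReduced_of_adjoin [Algebra.IsAlgebraic kA k₁]
    [Algebra.IsGeometricallyReduced kA kB] (g' : kB →+* kW)
    (hcompat : ∀ a : kA, g' (algebraMap kA kB a) = algebraMap k₁ kW (algebraMap kA k₁ a))
    (e : ℕ) (he : e ≠ 0) (heA : (e : kA) ≠ 0) (c₁ : k₁) (hc₁ : c₁ ≠ 0) (c₂ : kB) (hc₂ : c₂ ≠ 0)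
    (t : kW) (ht : t ^ e = algebraMap k₁ kW c₁ * g' c₂)
    (hadj : Algebra.adjoin k₁ (Set.range g' ∪ {t}) = ⊤) :
    Algebra.IsGeometricallyReduced k₁ kW := by
  rw [Algebra.isGeometricallyReduced_field_iff]
  set Ω := AlgebraicClosure k₁ with hΩ
  haveI : IsScalarTower kA k₁ Ω := inferInstance
  haveI : Algebra.IsAlgebraic kA Ω := Algebra.IsAlgebraic.trans kA k₁ Ω
  haveI hred : IsReduced (Ω ⊗[kA] kB) := inferInstance
  have hmax := forall_isMaximal_tensor kA Ω kB
  letI : Algebra kA (Ω ⊗[k₁] kW) :=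
    ((Algebra.TensorProduct.includeLeft : Ω →ₐ[k₁] Ω ⊗[k₁] kW).toRingHom.comp
      (algebraMap kA Ω)).toAlgebra
  have hc2 : ∀ a : kA, (1 : Ω) ⊗ₜ[k₁] g' (algebraMap kA kB a) =
      algebraMap kA (Ω ⊗[k₁] kW) a := by
    intro a
    rw [hcompat]
    show _ = (algebraMap k₁ Ω (algebraMap kA k₁ a)) ⊗ₜ[k₁] (1 : kW)
    rw [Algebra.algebraMap_eq_smul_one, Algebra.algebraMap_eq_smul_one (A := Ω),
      TensorProduct.smul_tmul]
  let Φ : Ω ⊗[kA] kB →ₐ[kA] Ω ⊗[k₁] kW :=
    Algebra.TensorProduct.productMap (R := kA) (A := Ω) (B := kB) (S := Ω ⊗[k₁] kW)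
      { toRingHom := (Algebra.TensorProduct.includeLeft : Ω →ₐ[k₁] Ω ⊗[k₁] kW).toRingHom
        commutes' := fun _ => rfl }
      { toRingHom := (Algebra.TensorProduct.includeRight : kW →ₐ[k₁] Ω ⊗[k₁] kW).toRingHom.comp g'
        commutes' := fun a => hc2 a }
  have hΦ : ∀ (ω : Ω) (b : kB), Φ (ω ⊗ₜ b) = ω ⊗ₜ[k₁] g' b := by
    intro ω b
    have := Algebra.TensorProduct.productMap_apply_tmul (R := kA)
      ({ toRingHom := (Algebra.TensorProduct.includeLeft : Ω →ₐ[k₁] Ω ⊗[k₁] kW).toRingHom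
         commutes' := fun _ => rfl } : Ω →ₐ[kA] Ω ⊗[k₁] kW)
      ({ toRingHom :=
          (Algebra.TensorProduct.includeRight : kW →ₐ[k₁] Ω ⊗[k₁] kW).toRingHom.comp g'
         commutes' := fun a => hc2 a } : kB →ₐ[kA] Ω ⊗[k₁] kW) ω b
    refine this.trans ?_
    show (ω ⊗ₜ[k₁] (1 : kW)) * ((1 : Ω) ⊗ₜ[k₁] g' b) = _
    rw [Algebra.TensorProduct.tmul_mul_tmul, mul_one, one_mul]
  -- the polynomial
  set wt : Ω ⊗[kA] kB := (algebraMap k₁ Ω c₁) ⊗ₜ[kA] c₂ with hwt
  have hwtu : IsUnit wt := by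
    refine IsUnit.of_mul_eq_one ((algebraMap k₁ Ω c₁)⁻¹ ⊗ₜ[kA] c₂⁻¹) ?_
    rw [hwt, Algebra.TensorProduct.tmul_mul_tmul, mul_inv_cancel₀, mul_inv_cancel₀ hc₂]
    · rfl
    · exact fun h => hc₁ ((map_eq_zero _).mp h)
  have heu : IsUnit ((e : ℕ) : Ω ⊗[kA] kB) := by
    have h1 : ((e : ℕ) : Ω ⊗[kA] kB) = algebraMap kA (Ω ⊗[kA] kB) (e : kA) := by
      rw [map_natCast]
    rw [h1]
    exact (IsUnit.mk0 _ heA).map _
  set P : (Ω ⊗[kA] kB)[X] := X ^ e - C wt with hP
  haveI : Nontrivial (Ω ⊗[kA] kB) := by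
    refine ⟨⟨0, 1, fun h01 => ?_⟩⟩
    have h2 : IsUnit (0 : Ω ⊗[kA] kB) := h01 ▸ isUnit_one
    have h3 := hmax
    -- nontrivial since it has a unit `wt` mapping to a nonzero element
    have h4 : Φ wt = 0 := by
      have : wt = 0 := by
        have := congrArg (fun z => z * wt) h01
        simpa using this.symm
      rw [this, map_zero]
    rw [hwt, hΦ] at h4
    have h5 : (algebraMap k₁ Ω c₁ ⊗ₜ[k₁] g' c₂) =
        (1 : Ω) ⊗ₜ[k₁] (algebraMap k₁ kW c₁ * g' c₂) := by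
      rw [Algebra.algebraMap_eq_smul_one, TensorProduct.smul_tmul, Algebra.smul_def]
    rw [h5, ← ht] at h4
    have h6 : Function.Injective (Algebra.TensorProduct.includeRight : kW →ₐ[k₁] Ω ⊗[k₁] kW) :=
      Algebra.TensorProduct.includeRight_injective (algebraMap k₁ Ω).injective
    have h7 : t ^ e = 0 := h6 (by rw [map_zero]; exact h4)
    rw [ht] at h7
    rcases mul_eq_zero.mp h7 with h8 | h8
    · exact hc₁ ((map_eq_zero _).mp h8)
    · exact hc₂ ((map_eq_zero _).mp h8)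
  have hPm : P.Monic := monic_X_pow_sub_C' e he wt
  have hPs : P.Separable := separable_X_pow_sub_C' e heu wt hwtu
  haveI hred' : IsReduced (AdjoinRoot P) := isReduced_adjoinRoot hPm hPs
  have hmax' := forall_isMaximal_adjoinRoot hmax hPm
  have hvnr := exists_eq_mul_self_mul hmax'
  -- the map
  have hroot : Polynomial.eval₂ Φ.toRingHom ((1 : Ω) ⊗ₜ[k₁] t) P = 0 := by
    rw [hP, Polynomial.eval₂_sub, Polynomial.eval₂_pow, Polynomial.eval₂_X, Polynomial.eval₂_C]
    show _ - Φ wt = 0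
    rw [hwt, hΦ, Algebra.TensorProduct.tmul_pow, one_pow, ht, sub_eq_zero,
      Algebra.algebraMap_eq_smul_one (A := Ω), TensorProduct.smul_tmul, Algebra.smul_def]
  let Ψ : AdjoinRoot P →+* Ω ⊗[k₁] kW := AdjoinRoot.lift Φ.toRingHom ((1 : Ω) ⊗ₜ[k₁] t) hroot
  have hΨof : ∀ z, Ψ (AdjoinRoot.of P z) = Φ z := fun z => AdjoinRoot.lift_of hroot
  have hΨroot : Ψ (AdjoinRoot.root P) = (1 : Ω) ⊗ₜ[k₁] t := AdjoinRoot.lift_root hroot
  let S : Subalgebra k₁ kW :=
    { carrier := {x | ∀ ω : Ω, ∃ s, Ψ s = ω ⊗ₜ[k₁] x}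
      mul_mem' := by
        intro x y hx hy ω
        obtain ⟨s, hs⟩ := hx ω
        obtain ⟨s', hs'⟩ := hy 1
        exact ⟨s * s', by rw [map_mul, hs, hs', Algebra.TensorProduct.tmul_mul_tmul, mul_one]⟩
      add_mem' := by
        intro x y hx hy ω
        obtain ⟨s, hs⟩ := hx ω
        obtain ⟨s', hs'⟩ := hy ω
        exact ⟨s + s', by rw [map_add, hs, hs', TensorProduct.tmul_add]⟩
      algebraMap_mem' := by
        intro c ω
        refine ⟨AdjoinRoot.of P ((c • ω) ⊗ₜ[kA] (1 : kB)), ?_⟩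
        rw [hΨof, hΦ, map_one, Algebra.algebraMap_eq_smul_one, TensorProduct.smul_tmul] }
  have hle : Algebra.adjoin k₁ (Set.range g' ∪ {t}) ≤ S := by
    apply Algebra.adjoin_le
    rintro x (⟨b, rfl⟩ | hx)
    · intro ω
      exact ⟨AdjoinRoot.of P (ω ⊗ₜ[kA] b), by rw [hΨof, hΦ]⟩
    · rw [Set.mem_singleton_iff] at hx
      subst hx
      intro ω
      refine ⟨AdjoinRoot.of P (ω ⊗ₜ[kA] (1 : kB)) * AdjoinRoot.root P, ?_⟩
      rw [map_mul, hΨof, hΦ, hΨroot, map_one, Algebra.TensorProduct.tmul_mul_tmul, mul_one,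
        one_mul]
  rw [hadj] at hle
  have hsurjΨ : Function.Surjective Ψ := by
    intro s
    induction s using TensorProduct.induction_on with
    | zero => exact ⟨0, map_zero _⟩
    | add x y hx hy =>
      obtain ⟨x', rfl⟩ := hx
      obtain ⟨y', rfl⟩ := hy
      exact ⟨x' + y', map_add _ _ _⟩
    | tmul ω x => exact hle (Algebra.mem_top : x ∈ ⊤) ω
  exact isReduced_of_surjective_of_vnr Ψ hsurjΨ hvnr

end GR

end

section
open IsLocalRing TensorProduct Polynomial Groth.Agent.Lib.R2H1.EtRamTower Groth.Agent.Lib.R2H1.EtRam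
  Groth.Agent.Lib.R2H1.EtRamSmooth
section Val

variable {M : Type u} [Field M] (W : ValuationSubring M)

theorem val_eq_one_of_mul_eq_one (x y : M) (hx : x ∈ W) (hy : y ∈ W) (hxy : x * y = 1) :
    W.valuation x = 1 := by
  have h1 : W.valuation x ≤ 1 := (W.valuation_le_one_iff _).mpr hx
  have h2 : W.valuation y ≤ 1 := (W.valuation_le_one_iff _).mpr hy
  have h3 : W.valuation x * W.valuation y = 1 := by rw [← map_mul, hxy, map_one]
  refine le_antisymm h1 ?_
  calc (1 : _) = W.valuation x * W.valuation y := h3.symm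
    _ ≤ W.valuation x * 1 := mul_le_mul_right h2 _
    _ = _ := mul_one _

theorem val_eq_one_of_pow_eq_one (x : M) (e : ℕ) (he : e ≠ 0) (h : W.valuation x ^ e = 1) :
    W.valuation x = 1 := by
  rcases lt_trichotomy (W.valuation x) 1 with h1 | h1 | h1
  · exact absurd h (ne_of_lt (pow_lt_one₀ zero_le h1 he))
  · exact h1
  · exact absurd h.symm (ne_of_lt (one_lt_pow₀ h1 he))

end Val

section Poly

variable {S₀ T M : Type u} [CommRing S₀] [CommRing T] [Field M] (W : ValuationSubring M)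
  (th : S₀ →+* M) (hthW : ∀ s, th s ∈ W) (r : S₀ →+* T) (hr : Function.Surjective r)
  (a₁ a₂ : S₀) (hkr : RingHom.ker r = Ideal.span {a₁, a₂})
  (θ : M) (hvθ : W.valuation θ = 1) (w : S₀) (e d : ℕ) (he : e ≠ 0) (hd : d ≠ 0)
  (hthw : th w = θ ^ e) (hθ1 : θ * th a₁ ^ d = th a₂)
  (hwu : IsUnit (r w)) (heu : IsUnit ((e : ℕ) : T))

include hthW hr hkr hvθ he hd hthw hθ1 hwu heu in
theorem abh_poly [Nontrivial T] [IsReduced T]
    (hmax : ∀ p : Ideal T, p.IsPrime → p.IsMaximal)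
    (h0 : th a₁ ≠ 0) (h1 : W.valuation (th a₁) < 1)
    (hsepB : ∀ x : M, x ≠ 0 → ∃ j : ℕ, W.valuation (th a₂) ^ j ≤ W.valuation x)
    (hgen : ∀ m : M, ∃ x y : S₀, th y ≠ 0 ∧ m = th x / th y) :
    (∀ x : M, W.valuation x < 1 → ∃ y ∈ W, x = th a₁ * y) ∧
    (∀ Sub : Subring (ResidueField W), (∀ s, residue W ⟨th s, hthW s⟩ ∈ Sub) →
      residue W ⟨θ, (W.valuation_le_one_iff _).mp hvθ.le⟩ ∈ Sub → ∀ x, x ∈ Sub) := by
  classical
  let Θ : S₀[X] →+* M := Polynomial.eval₂RingHom th θ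
  have hΘC : ∀ s, Θ (C s) = th s := fun s => Polynomial.eval₂_C _ _
  have hΘX : Θ X = θ := Polynomial.eval₂_X _ _
  have hθW : θ ∈ W := (W.valuation_le_one_iff _).mp hvθ.le
  have hΘW : ∀ y, Θ y ∈ W := by
    intro y
    show Polynomial.eval₂ th θ y ∈ W
    rw [Polynomial.eval₂_eq_sum_range]
    exact Subring.sum_mem W.toSubring fun i _ => W.mul_mem _ _ (hthW _) (pow_mem hθW i)
  set ϖ₁ : S₀[X] := C a₁ with hϖ₁
  have hΘϖ₁ : Θ ϖ₁ = th a₁ := by rw [hϖ₁, hΘC]
  -- the fibre ring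
  set wbar := r w with hwbar
  set Pbar : T[X] := X ^ e - C wbar with hPbar
  have hPm : Pbar.Monic := monic_X_pow_sub_C' e he wbar
  have hPs : Pbar.Separable := separable_X_pow_sub_C' e heu wbar hwu
  haveI hred' : IsReduced (AdjoinRoot Pbar) := isReduced_adjoinRoot hPm hPs
  have hmax' := forall_isMaximal_adjoinRoot hmax hPm
  let ρ : S₀[X] →+* AdjoinRoot Pbar := (AdjoinRoot.mk Pbar).comp (Polynomial.mapRingHom r)
  have hρ : Function.Surjective ρ := by
    intro t
    obtain ⟨p, rfl⟩ := AdjoinRoot.mk_surjective t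
    obtain ⟨p', rfl⟩ := Polynomial.map_surjective _ hr p
    exact ⟨p', rfl⟩
  -- the kernel
  set P : S₀[X] := X ^ e - C w with hP
  have hPmap : P.map r = Pbar := by
    rw [hP, hPbar, Polynomial.map_sub, Polynomial.map_pow, Polynomial.map_X, Polynomial.map_C]
  have hΘP : Θ P = 0 := by
    rw [hP, map_sub, map_pow, hΘX, hΘC, hthw, sub_self]
  let J : Ideal S₀[X] := Ideal.comap Θ.rangeRestrict (Ideal.span {Θ.rangeRestrict ϖ₁})
  have hJ : ∀ z, z ∈ J ↔ ∃ x', Θ z = Θ ϖ₁ * Θ x' := by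
    intro z
    rw [Ideal.mem_comap, Ideal.mem_span_singleton']
    constructor
    · rintro ⟨⟨a, x', rfl⟩, ha⟩
      refine ⟨x', ?_⟩
      have h1 := congrArg Subtype.val ha
      rw [mul_comm]
      exact h1.symm
    · rintro ⟨x', hx'⟩
      refine ⟨Θ.rangeRestrict x', Subtype.ext ?_⟩
      show Θ x' * Θ ϖ₁ = Θ z
      rw [hx', mul_comm]
  have hJ1 : C a₁ ∈ J := (hJ _).mpr ⟨1, by rw [map_one, mul_one]⟩
  have hJ2 : C a₂ ∈ J := by
    refine (hJ _).mpr ⟨C (a₁ ^ (d - 1)) * X, ?_⟩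
    rw [hΘC, hΘϖ₁, map_mul, hΘC, hΘX, ← hθ1]
    obtain ⟨d', rfl⟩ := Nat.exists_eq_succ_of_ne_zero hd
    rw [Nat.succ_sub_one, map_pow, pow_succ]
    ring
  have hJP : P ∈ J := (hJ _).mpr ⟨0, by rw [map_zero, mul_zero, hΘP]⟩
  have hkerJ : (RingHom.ker r).map C ≤ J := by
    rw [Ideal.map_le_iff_le_comap, hkr, Ideal.span_le]
    rintro x (rfl | hx)
    · exact hJ1
    · rw [Set.mem_singleton_iff] at hx
      subst hx
      exact hJ2
  have hker : ∀ z, ρ z = 0 → ∃ x', Θ z = Θ ϖ₁ * Θ x' := by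
    intro z hz
    rw [← hJ]
    have h1 : Pbar ∣ z.map r := AdjoinRoot.mk_eq_zero.mp hz
    obtain ⟨qbar, hq⟩ := h1
    obtain ⟨q, rfl⟩ := Polynomial.map_surjective _ hr qbar
    have h2 : (z - P * q) ∈ RingHom.ker (Polynomial.mapRingHom r) := by
      rw [RingHom.mem_ker, Polynomial.coe_mapRingHom, Polynomial.map_sub, Polynomial.map_mul,
        hPmap, hq, sub_self]
    rw [Polynomial.ker_mapRingHom] at h2
    have h3 : z = (z - P * q) + P * q := by ring
    rw [h3]
    exact J.add_mem (hkerJ h2) (J.mul_mem_right _ hJP)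
  -- separation and generation
  have ht0 : Θ ϖ₁ ≠ 0 := by rw [hΘϖ₁]; exact h0
  have ht1 : W.valuation (Θ ϖ₁) < 1 := by rw [hΘϖ₁]; exact h1
  have hq0 : W.valuation (th a₁) ≠ 0 := by
    rw [Ne, Valuation.zero_iff]; exact h0
  have hqpos : 0 < W.valuation (th a₁) := zero_lt_iff.mpr hq0
  have hvϖ : W.valuation (th a₂) = W.valuation (th a₁) ^ d := by
    rw [← hθ1, map_mul, hvθ, one_mul, map_pow]
  have hsep : ∀ x : M, x ≠ 0 → ∃ n : ℕ, W.valuation (Θ ϖ₁) ^ n < W.valuation x := by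
    intro x hx0
    obtain ⟨j, hj⟩ := hsepB x hx0
    refine ⟨d * j + 1, ?_⟩
    rw [hΘϖ₁]
    calc W.valuation (th a₁) ^ (d * j + 1) < W.valuation (th a₁) ^ (d * j) :=
          pow_lt_pow_right_of_lt_one₀ hqpos h1 (Nat.lt_succ_self _)
      _ = (W.valuation (th a₁) ^ d) ^ j := pow_mul _ _ _
      _ = W.valuation (th a₂) ^ j := by rw [hvϖ]
      _ ≤ W.valuation x := hj
  have hgen' : ∀ m : M, ∃ x y : S₀[X], Θ y ≠ 0 ∧ m = Θ x / Θ y := by
    intro m
    obtain ⟨x, y, hy, hm⟩ := hgen m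
    exact ⟨C x, C y, by rw [hΘC]; exact hy, by rw [hΘC, hΘC]; exact hm⟩
  refine ⟨fun x hx1 => ?_, fun Sub hS1 hS2 x => ?_⟩
  · obtain ⟨y, hyW, hy⟩ :=
      aexists_eq_mul_of_lt_one W Θ hΘW ϖ₁ ρ hρ hker ht0 ht1 hmax' hsep hgen' x hx1
    exact ⟨y, hyW, by rw [hy, hΘϖ₁]⟩
  · obtain ⟨z, hz⟩ := asurj W Θ hΘW ϖ₁ ρ hρ hker ht0 ht1 hmax' hsep hgen' x
    rw [hz]
    clear hz
    let ΘW : S₀[X] →+* W := Θ.codRestrict W.toSubring hΘW
    let R' : S₀[X] →+* ResidueField W := (residue W).comp ΘW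
    show R' z ∈ Sub
    induction z using Polynomial.induction_on with
    | C a =>
      have : R' (C a) = residue W ⟨th a, hthW a⟩ :=
        congrArg (residue W) (Subtype.ext (hΘC a))
      rw [this]; exact hS1 a
    | add p q hp hq => rw [map_add]; exact Sub.add_mem hp hq
    | monomial n a h =>
      have h2 : R' X = residue W ⟨θ, hθW⟩ := congrArg (residue W) (Subtype.ext hΘX)
      rw [pow_succ, ← mul_assoc, map_mul, h2]
      exact Sub.mul_mem h hS2

end Poly

end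

section
open IsLocalRing TensorProduct Polynomial Groth.Agent.Lib.R2H1.EtRamTower Groth.Agent.Lib.R2H1.EtRam
  Groth.Agent.Lib.R2H1.EtRamSmooth
section Core

variable {A B K₁ M : Type u} [CommRing A] [IsLocalRing A] [CommRing B] [IsLocalRing B]
  [Algebra A B] [IsLocalHom (algebraMap A B)] [Field K₁] [Field M]
  (f : K₁ →+* M) (W : ValuationSubring M)
  [Algebra A (W.comap f)] [IsLocalHom (algebraMap A (W.comap f))]
  (g : B →+* M)
  (hcompat : ∀ a : A, f ((algebraMap A (W.comap f) a : W.comap f) : K₁) = g (algebraMap A B a))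

theorem abh_core (hgW : ∀ b, g b ∈ W)
    (π₁ : W.comap f) (hπ₁ : maximalIdeal (W.comap f) = Ideal.span {π₁})
    (hπ₁0 : (π₁ : K₁) ≠ 0)
    (ϖ : B) (hϖ : maximalIdeal B = Ideal.span {ϖ})
    (u₁ : (W.comap f)ˣ) (u : Bˣ) (e d : ℕ) (he : e ≠ 0) (hd : d ≠ 0)
    (θ : M) (hθ1 : θ * f (π₁ : K₁) ^ d = g ϖ)
    (hθ2 : θ ^ e = f (((u₁ : (W.comap f)ˣ) : W.comap f) : K₁) * g ((u⁻¹ : Bˣ) : B))
    (heA : (e : ResidueField A) ≠ 0)
    [Algebra.IsAlgebraic (ResidueField A) (ResidueField (W.comap f))]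
    [Algebra.IsGeometricallyReduced (ResidueField A) (ResidueField B)]
    (hsepB : ∀ w : M, w ≠ 0 → ∃ j : ℕ, W.valuation (g ϖ) ^ j ≤ W.valuation w)
    (hgen : ∀ m : M, ∃ x y : (W.comap f) ⊗[A] B, theta f W g hcompat y ≠ 0 ∧
      m = theta f W g hcompat x / theta f W g hcompat y)
    (gW : B →+* W) (hgW' : ∀ b, ((gW b : W) : M) = g b) [IsLocalHom gW] :
    letI : Algebra (W.comap f) W := (EtRam.inclOfComap W f).toAlgebra
    EtRam.IsWeaklyUnramified (W.comap f) W ∧
      @Algebra.IsGeometricallyReduced (ResidueField (W.comap f)) (ResidueField W) _ _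
        (ResidueField.map (EtRam.inclOfComap W f)).toAlgebra := by
  classical
  letI : Algebra (W.comap f) W := (EtRam.inclOfComap W f).toAlgebra
  letI : Algebra (ResidueField (W.comap f)) (ResidueField W) :=
    (ResidueField.map (EtRam.inclOfComap W f)).toAlgebra
  set th := theta f W g hcompat with hth
  have hthW : ∀ s, th s ∈ W := theta_mem f W g hcompat hgW
  -- valuations
  have hfπ0 : f (π₁ : K₁) ≠ 0 := fun h => hπ₁0 ((map_eq_zero f).mp h)
  have hπ₁m : π₁ ∈ maximalIdeal (W.comap f) := hπ₁ ▸ Ideal.mem_span_singleton_self π₁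
  have hq1 : W.valuation (f (π₁ : K₁)) < 1 := (mem_maximalIdeal_comap_iff W f π₁).mp hπ₁m
  have hvu₁ : W.valuation (f (((u₁ : (W.comap f)ˣ) : W.comap f) : K₁)) = 1 := by
    refine val_eq_one_of_mul_eq_one W _ (f ((((u₁⁻¹ : (W.comap f)ˣ)) : W.comap f) : K₁))
      ((u₁ : W.comap f)).2 (((u₁⁻¹ : (W.comap f)ˣ) : W.comap f)).2 ?_
    rw [← map_mul]
    have h1 : ((u₁ : W.comap f) * ((u₁⁻¹ : (W.comap f)ˣ) : W.comap f)) = 1 := Units.mul_inv u₁
    have h2 := congrArg (fun x : W.comap f => (x : K₁)) h1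
    simp only [MulMemClass.coe_mul, OneMemClass.coe_one] at h2
    rw [h2, map_one]
  have hvu : W.valuation (g ((u⁻¹ : Bˣ) : B)) = 1 := by
    refine val_eq_one_of_mul_eq_one W _ (g (u : B)) (hgW _) (hgW _) ?_
    rw [← map_mul, Units.inv_mul, map_one]
  have hvθ : W.valuation θ = 1 := by
    apply val_eq_one_of_pow_eq_one W θ e he
    rw [← map_pow, hθ2, map_mul, hvu₁, hvu, one_mul]
  have hθW : θ ∈ W := (W.valuation_le_one_iff _).mp hvθ.le
  have hth1 : th (π₁ ⊗ₜ[A] (1 : B)) = f (π₁ : K₁) := by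
    rw [hth, theta_tmul, map_one, mul_one]
  have hth2 : th ((1 : W.comap f) ⊗ₜ[A] ϖ) = g ϖ := by
    rw [hth, theta_tmul, OneMemClass.coe_one, map_one, one_mul]
  set w : (W.comap f) ⊗[A] B := ((u₁ : (W.comap f)ˣ) : W.comap f) ⊗ₜ[A] ((u⁻¹ : Bˣ) : B) with hw
  have hthw : th w = θ ^ e := by rw [hw, hth, theta_tmul, hθ2]
  have hwu : IsUnit w := by
    refine IsUnit.of_mul_eq_one ((((u₁⁻¹ : (W.comap f)ˣ)) : W.comap f) ⊗ₜ[A] (u : B)) ?_
    rw [hw, Algebra.TensorProduct.tmul_mul_tmul, Units.mul_inv, Units.inv_mul]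
    rfl
  haveI : Nontrivial (ResidueField (W.comap f) ⊗[ResidueField A] ResidueField B) :=
    Algebra.TensorProduct.nontrivial_of_algebraMap_injective_of_isDomain _ _ _
      (RingHom.injective (algebraMap (ResidueField A) (ResidueField (W.comap f))))
      (RingHom.injective (algebraMap (ResidueField A) (ResidueField B)))
  have heu : IsUnit ((e : ℕ) : ResidueField (W.comap f) ⊗[ResidueField A] ResidueField B) := by
    have h1 : ((e : ℕ) : ResidueField (W.comap f) ⊗[ResidueField A] ResidueField B) =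
        algebraMap (ResidueField A) _ (e : ResidueField A) := by
      rw [map_natCast]
    rw [h1]
    exact (IsUnit.mk0 _ heA).map _
  haveI hTred : IsReduced (ResidueField (W.comap f) ⊗[ResidueField A] ResidueField B) :=
    inferInstance
  have hmax := forall_isMaximal_tensor (ResidueField A) (ResidueField (W.comap f)) (ResidueField B)
  obtain ⟨hc1, hc2⟩ := abh_poly W th hthW (rho A (W.comap f) B) (rho_surjective A (W.comap f) B)
    (π₁ ⊗ₜ[A] (1 : B)) ((1 : W.comap f) ⊗ₜ[A] ϖ)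
    (ker_rho_eq_span A (W.comap f) B π₁ hπ₁ ϖ hϖ) θ hvθ w e d he hd hthw
    (by rw [hth1, hth2]; exact hθ1) (hwu.map _) heu hmax
    (by rw [hth1]; exact hfπ0) (by rw [hth1]; exact hq1)
    (by rw [hth2]; exact hsepB) hgen
  refine ⟨?_, ?_⟩
  · show (maximalIdeal (W.comap f)).map (algebraMap (W.comap f) W) = maximalIdeal W
    apply le_antisymm
    · rw [Ideal.map_le_iff_le_comap]
      intro x hx
      rw [Ideal.mem_comap, mem_maximalIdeal, mem_nonunits_iff]
      intro hu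
      have : IsUnit x := (EtRam.isLocalHom_inclOfComap W f).map_nonunit x hu
      exact hx this
    · intro x hxm
      have hv : W.valuation (x : M) < 1 := (W.valuation_lt_one_iff x).mp hxm
      obtain ⟨y, hyW, hy⟩ := hc1 (x : M) hv
      rw [hth1] at hy
      have : x = algebraMap (W.comap f) W π₁ * ⟨y, hyW⟩ := Subtype.ext hy
      rw [this]
      exact Ideal.mul_mem_right _ _ (Ideal.mem_map_of_mem _ hπ₁m)
  · let tbar : ResidueField W := residue W ⟨θ, hθW⟩
    have hu₁0 : residue (W.comap f) (u₁ : W.comap f) ≠ 0 :=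
      ((residue (W.comap f)).isUnit_map u₁.isUnit).ne_zero
    have hu0 : residue B ((u⁻¹ : Bˣ) : B) ≠ 0 :=
      ((residue B).isUnit_map (u⁻¹).isUnit).ne_zero
    have ht : tbar ^ e = algebraMap (ResidueField (W.comap f)) (ResidueField W)
        (residue (W.comap f) (u₁ : W.comap f)) *
        ResidueField.map gW (residue B ((u⁻¹ : Bˣ) : B)) := by
      show (residue W ⟨θ, hθW⟩) ^ e = residue W (EtRam.inclOfComap W f (u₁ : W.comap f)) *
        residue W (gW ((u⁻¹ : Bˣ) : B))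
      rw [← map_pow, ← map_mul]
      congr 1
      apply Subtype.ext
      show θ ^ e = f (((u₁ : (W.comap f)ˣ) : W.comap f) : K₁) * ((gW ((u⁻¹ : Bˣ) : B) : W) : M)
      rw [hgW', hθ2]
    have hcompat' : ∀ a : ResidueField A, ResidueField.map gW (algebraMap _ (ResidueField B) a) =
        algebraMap (ResidueField (W.comap f)) (ResidueField W)
          (algebraMap (ResidueField A) (ResidueField (W.comap f)) a) := by
      intro a
      obtain ⟨a₀, rfl⟩ := residue_surjective a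
      show residue W (gW (algebraMap A B a₀)) =
        residue W (EtRam.inclOfComap W f (algebraMap A (W.comap f) a₀))
      refine congrArg (residue W) (Subtype.ext ?_)
      rw [hgW']
      exact (hcompat a₀).symm
    refine isGeometricallyReduced_of_adjoin (ResidueField A) (ResidueField (W.comap f))
      (ResidueField B) (ResidueField W) (ResidueField.map gW) hcompat' e he heA _ hu₁0 _ hu0
      tbar ht ?_
    rw [Algebra.eq_top_iff]
    set Adj := Algebra.adjoin (ResidueField (W.comap f))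
      (Set.range (ResidueField.map gW) ∪ {tbar}) with hAdj
    refine hc2 Adj.toSubring ?_ ?_
    · intro s
      show residue W ⟨th s, hthW s⟩ ∈ Adj
      let thW : (W.comap f) ⊗[A] B →+* W := th.codRestrict W.toSubring hthW
      show ((residue W).comp thW) s ∈ Adj
      induction s using TensorProduct.induction_on with
      | zero => rw [map_zero]; exact Adj.zero_mem
      | add x y hx hy => rw [map_add]; exact Adj.add_mem hx hy
      | tmul v b =>
        have h1 : thW (v ⊗ₜ b) = EtRam.inclOfComap W f v * gW b := by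
          apply Subtype.ext
          show th (v ⊗ₜ b) = _
          rw [hth, theta_tmul]
          show _ = ((EtRam.inclOfComap W f v : W) : M) * ((gW b : W) : M)
          rw [hgW']; rfl
        have h2 : ((residue W).comp thW) (v ⊗ₜ b) =
            algebraMap (ResidueField (W.comap f)) (ResidueField W) (residue (W.comap f) v) *
              ResidueField.map gW (residue B b) := by
          show residue W (thW (v ⊗ₜ b)) = _
          rw [h1, map_mul]
          rfl
        rw [h2]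
        exact Adj.mul_mem (Adj.algebraMap_mem _)
          (Algebra.subset_adjoin (Or.inl ⟨_, rfl⟩))
    · exact Algebra.subset_adjoin (Or.inr rfl)

end Core

end

section
open IsLocalRing TensorProduct Polynomial Groth.Agent.Lib.R2H1.EtRamTower Groth.Agent.Lib.R2H1.EtRam
  Groth.Agent.Lib.R2H1.EtRamSmooth
section CharZero

theorem isGeometricallyReduced_of_charZero (k F : Type u) [Field k] [Field F] [Algebra k F]
    [CharZero k] : Algebra.IsGeometricallyReduced k F := by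
  rw [Algebra.isGeometricallyReduced_field_iff]
  haveI : Algebra.IsSeparable k (AlgebraicClosure k) :=
    Algebra.IsAlgebraic.isSeparable_of_perfectField
  exact Groth.Agent.Lib.Helper14.GeomRed.isReduced_tensor_of_isSeparable

end CharZero

section SepB

variable {B L M : Type u} [CommRing B] [IsDomain B] [IsDiscreteValuationRing B]
  [Field L] [Algebra B L] [IsFractionRing B L] [Field M] [Algebra L M] [Algebra.IsAlgebraic L M]
  (W : ValuationSubring M) (g : B →+* M)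

theorem exists_pow_le (hg : ∀ b, g b = algebraMap L M (algebraMap B L b))
    (hgW : ∀ b, g b ∈ W) (ϖ : B) (hϖ : Irreducible ϖ)
    (w : M) (hw0 : w ≠ 0) : ∃ j : ℕ, W.valuation (g ϖ) ^ j ≤ W.valuation w := by
  by_cases hw1 : 1 ≤ W.valuation w
  · exact ⟨0, by rw [pow_zero]; exact hw1⟩
  have hwW : w ∈ W := (W.valuation_le_one_iff w).mp (not_le.mp hw1).le
  have hBW : ∀ b : B, algebraMap L M (algebraMap B L b) ∈ W.toSubring := fun b => by
    rw [← hg]; exact hgW b
  obtain ⟨b, hb0, y, hyW, hby⟩ := exists_ne_zero_mul_eq (B := B) (L := L) W.toSubring hBW w hwW hw0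
    (Algebra.IsAlgebraic.isAlgebraic w)
  obtain ⟨j, u, hbu⟩ := IsDiscreteValuationRing.eq_unit_mul_pow_irreducible hb0 hϖ
  have hvu : W.valuation (g (u : B)) = 1 := by
    refine val_eq_one_of_mul_eq_one W _ (g ((u⁻¹ : Bˣ) : B)) (hgW _) (hgW _) ?_
    rw [← map_mul, Units.mul_inv, map_one]
  have hvb : W.valuation (g b) = W.valuation (g ϖ) ^ j := by
    rw [hbu, map_mul, map_mul, hvu, one_mul, map_pow, map_pow]
  have hvw : W.valuation (g b) ≤ W.valuation w := by
    rw [hg, hby, map_mul]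
    have h2 : W.valuation y ≤ 1 := (W.valuation_le_one_iff _).mpr hyW
    calc _ ≤ 1 * W.valuation w := mul_le_mul_left h2 _
      _ = _ := one_mul _
  exact ⟨j, by rw [← hvb]; exact hvw⟩

end SepB

section Theta

variable {A B K₁ M : Type u} [CommRing A] [CommRing B]
  [Algebra A B] [Field K₁] [Field M]
  (f : K₁ →+* M) (W : ValuationSubring M)
  [Algebra A (W.comap f)]
  (g : B →+* M)
  (hcompat : ∀ a : A, f ((algebraMap A (W.comap f) a : W.comap f) : K₁) = g (algebraMap A B a))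

include hcompat in
theorem exists_theta (π : A) (π₁ : W.comap f) (hπ₁0 : (π₁ : K₁) ≠ 0) (ϖ : B)
    (u₁ : (W.comap f)ˣ) (u : Bˣ) (e d n₁ : ℕ) (hd : n₁ = e * d)
    (hu : algebraMap A B π = u * ϖ ^ e)
    (hu₁ : algebraMap A (W.comap f) π = u₁ * π₁ ^ n₁) :
    ∃ θ : M, θ * f (π₁ : K₁) ^ d = g ϖ ∧
      θ ^ e = f (((u₁ : (W.comap f)ˣ) : W.comap f) : K₁) * g ((u⁻¹ : Bˣ) : B) := by
  have hfπ0 : f (π₁ : K₁) ≠ 0 := fun h => hπ₁0 ((map_eq_zero f).mp h)
  refine ⟨g ϖ / f (π₁ : K₁) ^ d, div_mul_cancel₀ _ (pow_ne_zero d hfπ0), ?_⟩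
  have h1 : f ((algebraMap A (W.comap f) π : W.comap f) : K₁) =
      f (((u₁ : (W.comap f)ˣ) : W.comap f) : K₁) * f (π₁ : K₁) ^ n₁ := by
    rw [hu₁, MulMemClass.coe_mul, SubmonoidClass.coe_pow, map_mul, map_pow]
  have h2 : g (algebraMap A B π) = g (u : B) * g ϖ ^ e := by
    rw [hu, map_mul, map_pow]
  have h3 : g ((u⁻¹ : Bˣ) : B) * g (u : B) = 1 := by
    rw [← map_mul, Units.inv_mul, map_one]
  have h4 : f (((u₁ : (W.comap f)ˣ) : W.comap f) : K₁) * f (π₁ : K₁) ^ n₁ =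
      g (u : B) * g ϖ ^ e := by rw [← h1, ← h2]; exact hcompat π
  have h5 : g ϖ ^ e = g ((u⁻¹ : Bˣ) : B) *
      (f (((u₁ : (W.comap f)ˣ) : W.comap f) : K₁) * f (π₁ : K₁) ^ n₁) := by
    rw [h4, ← mul_assoc, h3, one_mul]
  rw [div_pow, h5, hd, ← pow_mul, mul_comm d e]
  field_simp

end Theta

section Main

variable (A B K L : Type u) [CommRing A] [IsDomain A] [IsDiscreteValuationRing A]
  [CommRing B] [IsDomain B] [IsDiscreteValuationRing B] [Algebra A B] [IsLocalHom (algebraMap A B)]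
  [Field K] [Field L] [Algebra A K] [IsFractionRing A K] [Algebra B L] [IsFractionRing B L]
  [Algebra K L] [Algebra A L] [IsScalarTower A K L] [IsScalarTower A B L]
  (K₁ : Type u) [Field K₁] [Algebra K K₁]
  (M : Type u) [Field M] [Algebra K M] [Algebra L M] [Algebra K₁ M] [IsScalarTower K L M]
  [IsScalarTower K K₁ M]

theorem local_ext_abh [FiniteDimensional K K₁] (hinj : Function.Injective (algebraMap A B))
    (htame : CharZero (ResidueField A) ∨
      ∃ p : ℕ, p.Prime ∧ CharP (ResidueField A) p ∧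
        ¬ p ∣ Ideal.ramificationIdx' (maximalIdeal A) (maximalIdeal B) ∧
        Algebra.IsGeometricallyReduced (ResidueField A) (ResidueField B))
    (hgen : Algebra.adjoin L (Set.range (algebraMap K₁ M)) = ⊤)
    (W : ValuationSubring M)
    (hdom : EtRam.Dominates B ((algebraMap L M).comp (algebraMap B L)) W)
    (hA : ∀ a : A, (algebraMap K K₁) (algebraMap A K a) ∈ W.comap (algebraMap K₁ M)) :
    letI : Algebra A (W.comap (algebraMap K₁ M)) :=
      (RingHom.codRestrict ((algebraMap K K₁).comp (algebraMap A K))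
        (W.comap (algebraMap K₁ M)) hA).toAlgebra
    letI : Algebra (W.comap (algebraMap K₁ M)) W :=
      (EtRam.inclOfComap W (algebraMap K₁ M)).toAlgebra
    Ideal.ramificationIdx' (maximalIdeal A) (maximalIdeal B) ∣
      Ideal.ramificationIdx' (maximalIdeal A) (maximalIdeal (W.comap (algebraMap K₁ M))) →
    EtRam.IsWeaklyUnramified (W.comap (algebraMap K₁ M)) W ∧
      @Algebra.IsGeometricallyReduced (ResidueField (W.comap (algebraMap K₁ M))) (ResidueField W)
        _ _ (ResidueField.map (EtRam.inclOfComap W (algebraMap K₁ M))).toAlgebra := by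
  have hmemA := algebraMap_compat A B K L K₁ M
  letI algAV : Algebra A (W.comap (algebraMap K₁ M)) :=
    (RingHom.codRestrict ((algebraMap K K₁).comp (algebraMap A K))
      (W.comap (algebraMap K₁ M)) hA).toAlgebra
  have hdomA : EtRam.Dominates A ((algebraMap K K₁).comp (algebraMap A K))
      (W.comap (algebraMap K₁ M)) := by
    apply dominates_comap
    refine ⟨fun a => ?_, fun a ha => ?_⟩
    · rw [RingHom.comp_apply, RingHom.comp_apply, hmemA]; exact hdom.1 _
    · rw [RingHom.comp_apply, RingHom.comp_apply, hmemA]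
      apply hdom.2
      rw [mem_maximalIdeal, mem_nonunits_iff] at ha ⊢
      exact fun hu => ha (IsLocalHom.map_nonunit a hu)
  haveI locAV : IsLocalHom (algebraMap A (W.comap (algebraMap K₁ M))) :=
    isLocalHom_codRestrict _ _ hdomA
  have hcompat : ∀ a : A, algebraMap K₁ M
      ((algebraMap A (W.comap (algebraMap K₁ M)) a : W.comap (algebraMap K₁ M)) : K₁) =
      ((algebraMap L M).comp (algebraMap B L)) (algebraMap A B a) := fun a => hmemA a
  have hAV : ∀ a, ((algebraMap A (W.comap (algebraMap K₁ M)) a : W.comap (algebraMap K₁ M)) : K₁) =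
      algebraMap K K₁ (algebraMap A K a) := fun _ => rfl
  obtain ⟨⟨π₁, hπ₁, hπ₁0⟩, hpow, hfin⟩ := ka_facts A K K₁ (W.comap (algebraMap K₁ M)) hAV
  haveI : Algebra.IsAlgebraic L M := isAlgebraic_of_adjoin K L K₁ M hgen
  have hπ₁0' : π₁ ≠ 0 := fun h => hπ₁0 (by rw [h]; rfl)
  -- uniformizers
  obtain ⟨π, hπ⟩ := IsDiscreteValuationRing.exists_irreducible A
  have hπ0 : π ≠ 0 := hπ.ne_zero
  have hmA : maximalIdeal A = Ideal.span {π} := hπ.maximalIdeal_eq
  obtain ⟨ϖ, hϖ⟩ := IsDiscreteValuationRing.exists_irreducible B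
  have hmB : maximalIdeal B = Ideal.span {ϖ} := hϖ.maximalIdeal_eq
  have hπB0 : algebraMap A B π ≠ 0 := fun h => hπ0 (hinj (by rw [h, map_zero]))
  obtain ⟨e, u, hu⟩ := IsDiscreteValuationRing.eq_unit_mul_pow_irreducible hπB0 hϖ
  have he_eq : Ideal.ramificationIdx' (maximalIdeal A) (maximalIdeal B) = e :=
    ramificationIdx'_eq_of_eq π hmA ϖ hmB hϖ.ne_zero e u hu
  have he : e ≠ 0 := ne_zero_of_eq π hπ.not_isUnit ϖ e u hu
  have hπm : algebraMap A (W.comap (algebraMap K₁ M)) π ∈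
      maximalIdeal (W.comap (algebraMap K₁ M)) := by
    rw [mem_maximalIdeal, mem_nonunits_iff]
    intro hunit
    exact hπ.not_isUnit (IsLocalHom.map_nonunit π hunit)
  obtain ⟨N, c, hNc⟩ := hpow π₁ hπ₁ π hπ0 hπm
  obtain ⟨n₁, u₁, hu₁⟩ := exists_unit_mul_pow (W.comap (algebraMap K₁ M)) π₁ hπ₁ hπ₁0' N _ c hNc
  have hn₁_eq : Ideal.ramificationIdx' (maximalIdeal A)
      (maximalIdeal (W.comap (algebraMap K₁ M))) = n₁ :=
    ramificationIdx'_eq_of_eq π hmA π₁ hπ₁ hπ₁0' n₁ u₁ hu₁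
  have hn₁ : n₁ ≠ 0 := ne_zero_of_eq π hπ.not_isUnit π₁ n₁ u₁ hu₁
  intro hdvd
  rw [he_eq, hn₁_eq] at hdvd
  obtain ⟨d, hd⟩ := hdvd
  have hd0 : d ≠ 0 := by
    rintro rfl
    rw [mul_zero] at hd
    exact hn₁ hd
  obtain ⟨θ, hθ1, hθ2⟩ := exists_theta (algebraMap K₁ M) W ((algebraMap L M).comp (algebraMap B L))
    hcompat π π₁ hπ₁0 ϖ u₁ u e d n₁ hd hu hu₁
  -- tameness
  have heA : (e : ResidueField A) ≠ 0 := by
    rcases htame with h0 | ⟨p, hp, hchar, hndvd, -⟩
    · exact Nat.cast_ne_zero.mpr he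
    · rw [he_eq] at hndvd
      rw [Ne, CharP.cast_eq_zero_iff (ResidueField A) p]
      exact hndvd
  haveI hGR : Algebra.IsGeometricallyReduced (ResidueField A) (ResidueField B) := by
    rcases htame with h0 | ⟨p, hp, hchar, hndvd, h⟩
    · exact isGeometricallyReduced_of_charZero _ _
    · exact h
  haveI : Module.Finite (ResidueField A) (ResidueField (W.comap (algebraMap K₁ M))) :=
    Module.Finite.of_restrictScalars_finite A _ _
  haveI : Algebra.IsAlgebraic (ResidueField A) (ResidueField (W.comap (algebraMap K₁ M))) :=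
    Algebra.IsAlgebraic.of_finite _ _
  have hsepB := exists_pow_le (L := L) W ((algebraMap L M).comp (algebraMap B L)) (fun b => rfl) hdom.1 ϖ hϖ
  have hgen' := exists_theta_div (algebraMap K₁ M) W ((algebraMap L M).comp (algebraMap B L))
    hcompat L (fun b => rfl) hgen
  let gW : B →+* W := RingHom.codRestrict ((algebraMap L M).comp (algebraMap B L)) W hdom.1
  haveI : IsLocalHom gW := isLocalHom_codRestrict _ W hdom
  exact abh_core (algebraMap K₁ M) W ((algebraMap L M).comp (algebraMap B L)) hcompat hdom.1 π₁ hπ₁ hπ₁0 ϖ hmB u₁ u e d he hd0 θ hθ1 hθ2 heA hsepB hgen'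
    gW (fun b => rfl)

end Main

end

end Groth.Agent.Lib.R2H1.EtRamAbh
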