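import Mathlib

/-!
# Wild and tame inertia for a group acting on a ring (helper1, round 2)

Abstract setting: a group `G` acting on a commutative ring `B` by ring automorphisms, `m` a maximal
ideal of `B`.  `D` is the stabilizer of `m`, `I` the inertia group of `m` and
`P = D ⊓ inertia (m ^ 2)` the wild inertia group.
-/

set_option autoImplicit false
set_option linter.unusedSectionVars false

open scoped Pointwise

namespace Groth.Agent.Lib.R2H1.Tame

variable {B : Type*} [CommRing B] {G : Type*} [Group G] [MulSemiringAction G B] (m : Ideal B)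

theorem smul_mem_of_mem_stabilizer {σ : G} (hσ : σ ∈ MulAction.stabilizer G m) {x : B}
    (hx : x ∈ m) : σ • x ∈ m := by
  have h := Ideal.smul_mem_pointwise_smul σ x m hx
  rwa [MulAction.mem_stabilizer_iff.mp hσ] at h

theorem smul_pow_eq_of_mem_stabilizer {σ : G} (hσ : σ ∈ MulAction.stabilizer G m) (k : ℕ) :
    σ • (m ^ k) = m ^ k := by
  rw [Ideal.pointwise_smul_def, Ideal.map_pow, ← Ideal.pointwise_smul_def,
    MulAction.mem_stabilizer_iff.mp hσ]

theorem smul_mem_pow_of_mem_stabilizer {σ : G} (hσ : σ ∈ MulAction.stabilizer G m) {k : ℕ} {x : B}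
    (hx : x ∈ m ^ k) : σ • x ∈ m ^ k := by
  have h := Ideal.smul_mem_pointwise_smul σ x (m ^ k) hx
  rwa [smul_pow_eq_of_mem_stabilizer m hσ k] at h

/-- the wild inertia group -/
def wild : Subgroup G := MulAction.stabilizer G m ⊓ (m ^ 2).inertia G

theorem mem_wild {σ : G} :
    σ ∈ wild (G := G) m ↔ σ ∈ MulAction.stabilizer G m ∧ ∀ x : B, σ • x - x ∈ m ^ 2 := Iff.rfl

theorem wild_le_inertia : wild (G := G) m ≤ m.inertia G := by
  intro σ hσ x
  exact Ideal.pow_le_self (by norm_num) (hσ.2 x)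

theorem wild_normal : ((wild (G := G) m).subgroupOf (MulAction.stabilizer G m)).Normal := by
  refine (Subgroup.normal_subgroupOf_iff inf_le_left).mpr fun g s hg hs => ?_
  refine ⟨(MulAction.stabilizer G m).mul_mem ((MulAction.stabilizer G m).mul_mem hs hg.1)
    ((MulAction.stabilizer G m).inv_mem hs), fun x => ?_⟩
  have h1 : (s * g * s⁻¹) • x - x = s • (g • (s⁻¹ • x) - s⁻¹ • x) := by
    rw [smul_sub, mul_smul, mul_smul, smul_inv_smul]
  rw [h1]
  exact smul_mem_pow_of_mem_stabilizer m hs (hg.2 (s⁻¹ • x))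

section pgroup

variable [m.IsMaximal]

omit [m.IsMaximal] in
/-- `τ = σ - 1` raises the `m`-adic filtration when `σ` is wild. -/
theorem sub_mem_pow_succ {σ : G} (hσ : σ ∈ wild (G := G) m) (k : ℕ) {y : B} (hy : y ∈ m ^ k) :
    σ • y - y ∈ m ^ (k + 1) := by
  induction k generalizing y with
  | zero => exact Ideal.pow_le_pow_right (by norm_num) (hσ.2 y)
  | succ k ih =>
    rw [pow_succ'] at hy
    refine Submodule.mul_induction_on hy ?_ ?_
    · intro a ha b hb
      have e : σ • (a * b) - a * b = σ • a * (σ • b - b) + (σ • a - a) * b := by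
        rw [smul_mul']; ring
      rw [e]
      refine Ideal.add_mem _ ?_ ?_
      · have h1 : σ • a * (σ • b - b) ∈ m * m ^ (k + 1) :=
          Ideal.mul_mem_mul (smul_mem_of_mem_stabilizer m hσ.1 ha) (ih hb)
        rw [← pow_succ'] at h1
        exact Ideal.pow_le_pow_right (by omega) h1
      · have h1 : (σ • a - a) * b ∈ m ^ 2 * m ^ k := Ideal.mul_mem_mul (hσ.2 a) hb
        rw [← pow_add] at h1
        exact Ideal.pow_le_pow_right (by omega) h1
    · intro y₁ y₂ h₁ h₂
      have e : σ • (y₁ + y₂) - (y₁ + y₂) = (σ • y₁ - y₁) + (σ • y₂ - y₂) := by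
        rw [smul_add]; ring
      rw [e]
      exact Ideal.add_mem _ h₁ h₂

theorem eq_one_of_pow_eq_one [FaithfulSMul G B] (hinf : ⨅ k : ℕ, m ^ k = ⊥)
    {σ : G} (hσ : σ ∈ wild (G := G) m) (r : ℕ) (hr : (r : B) ∉ m) (hσr : σ ^ r = 1) : σ = 1 := by
  -- key: for all k ≥ 2, σ x - x ∈ m ^ k
  have key : ∀ k : ℕ, ∀ x : B, σ • x - x ∈ m ^ (k + 2) := by
    intro k
    induction k with
    | zero => exact fun x => hσ.2 x
    | succ k ih =>
      intro x
      -- σ^j x - x ∈ m^(k+2)
      have hj : ∀ j : ℕ, (σ ^ j) • x - x ∈ m ^ (k + 2) := by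
        intro j
        induction j with
        | zero => simp
        | succ j ihj =>
          have e : (σ ^ (j + 1)) • x - x = (σ • ((σ ^ j) • x) - (σ ^ j) • x) + ((σ ^ j) • x - x) := by
            rw [pow_succ', mul_smul]; ring
          rw [e]
          exact Ideal.add_mem _ (ih _) ihj
      -- telescoping
      have htel : ∑ j ∈ Finset.range r, (σ • ((σ ^ j) • x) - (σ ^ j) • x) = 0 := by
        have h1 : ∀ j, σ • ((σ ^ j) • x) = (σ ^ (j + 1)) • x := fun j => by
          rw [pow_succ', mul_smul]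
        simp_rw [h1]
        rw [Finset.sum_range_sub (fun j => (σ ^ j) • x), hσr, pow_zero, sub_self]
      have hsum : (r : B) * (σ • x - x) ∈ m ^ (k + 3) := by
        have h2 : (r : B) * (σ • x - x) =
            - ∑ j ∈ Finset.range r, ((σ • ((σ ^ j) • x) - (σ ^ j) • x) - (σ • x - x)) := by
          rw [Finset.sum_sub_distrib, htel, Finset.sum_const, Finset.card_range, nsmul_eq_mul]
          ring
        rw [h2]
        refine Ideal.neg_mem_iff _ |>.mpr (Ideal.sum_mem _ fun j _ => ?_)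
        have e : (σ • ((σ ^ j) • x) - (σ ^ j) • x) - (σ • x - x) =
            σ • ((σ ^ j) • x - x) - ((σ ^ j) • x - x) := by
          rw [smul_sub]; ring
        rw [e]
        exact sub_mem_pow_succ m hσ (k + 2) (hj j)
      -- r is a unit modulo m^(k+3)
      have hcop : Ideal.span {(r : B)} ⊔ m ^ (k + 3) = ⊤ := by
        apply Ideal.sup_pow_eq_top
        have := (‹m.IsMaximal›).1.2 (Ideal.span {(r : B)} ⊔ m)
          (lt_of_le_of_ne le_sup_right (fun h => hr (h ▸ Ideal.mem_sup_left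
            (Ideal.mem_span_singleton_self _))))
        exact this
      obtain ⟨u, hu, c, hc, huc⟩ := Submodule.mem_sup.mp (hcop ▸ Submodule.mem_top : (1 : B) ∈ _)
      obtain ⟨a, rfl⟩ := Ideal.mem_span_singleton'.mp hu
      have e : σ • x - x = a * ((r : B) * (σ • x - x)) + c * (σ • x - x) := by
        calc σ • x - x = (a * (r : B) + c) * (σ • x - x) := by rw [huc, one_mul]
          _ = a * ((r : B) * (σ • x - x)) + c * (σ • x - x) := by ring
      rw [e]
      exact Ideal.add_mem _ (Ideal.mul_mem_left _ _ hsum) (Ideal.mul_mem_right _ _ hc)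
  apply FaithfulSMul.eq_of_smul_eq_smul (α := B)
  intro x
  rw [one_smul]
  have hx : σ • x - x ∈ ⨅ k : ℕ, m ^ k := by
    rw [Ideal.mem_iInf]
    intro k
    rcases Nat.lt_or_ge k 2 with hk | hk
    · exact Ideal.pow_le_pow_right (by omega) (key 0 x)
    · obtain ⟨k', rfl⟩ : ∃ k', k = k' + 2 := ⟨k - 2, by omega⟩
      exact key k' x
  rw [hinf, Ideal.mem_bot] at hx
  exact sub_eq_zero.mp hx

end pgroup

section tame

variable [m.IsMaximal] (π : B) (hπ : π ∈ m)
  (hgen : ∀ y ∈ m, ∃ b : B, y - b * π ∈ m ^ 2)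
  (hinj : ∀ b : B, b * π ∈ m ^ 2 → b ∈ m)

open Classical in
/-- the tame character as a function on `G` (junk outside the stabilizer) -/
noncomputable def thetaFun (σ : G) : B ⧸ m :=
  if h : σ ∈ MulAction.stabilizer G m then
    Ideal.Quotient.mk m (Classical.choose (hgen (σ • π) (smul_mem_of_mem_stabilizer m h hπ)))
  else 0

include hinj in
theorem thetaFun_eq {σ : G} (h : σ ∈ MulAction.stabilizer G m) {b : B}
    (hb : σ • π - b * π ∈ m ^ 2) : thetaFun m π hπ hgen σ = Ideal.Quotient.mk m b := by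
  unfold thetaFun
  rw [dif_pos h]
  have hc := Classical.choose_spec (hgen (σ • π) (smul_mem_of_mem_stabilizer m h hπ))
  set c := Classical.choose (hgen (σ • π) (smul_mem_of_mem_stabilizer m h hπ)) with hcdef
  rw [Ideal.Quotient.eq]
  apply hinj
  have e : (c - b) * π = (σ • π - b * π) - (σ • π - c * π) := by ring
  rw [e]
  exact Ideal.sub_mem _ hb hc

theorem thetaFun_spec {σ : G} (h : σ ∈ MulAction.stabilizer G m) :
    ∃ b : B, σ • π - b * π ∈ m ^ 2 ∧ thetaFun m π hπ hgen σ = Ideal.Quotient.mk m b := by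
  refine ⟨Classical.choose (hgen (σ • π) (smul_mem_of_mem_stabilizer m h hπ)),
    Classical.choose_spec (hgen (σ • π) (smul_mem_of_mem_stabilizer m h hπ)), ?_⟩
  unfold thetaFun
  rw [dif_pos h]

include hinj in
theorem thetaFun_one : thetaFun (G := G) m π hπ hgen 1 = 1 := by
  rw [thetaFun_eq m π hπ hgen hinj (Subgroup.one_mem _) (b := 1)]
  · rfl
  · simp

include hinj in
theorem thetaFun_mul {σ τ : G} (hσ : σ ∈ m.inertia G) (hτ : τ ∈ m.inertia G) :
    thetaFun m π hπ hgen (σ * τ) = thetaFun m π hπ hgen σ * thetaFun m π hπ hgen τ := by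
  have hσD := Ideal.inertia_le_stabilizer m hσ
  have hτD := Ideal.inertia_le_stabilizer m hτ
  obtain ⟨bσ, hbσ, eσ⟩ := thetaFun_spec m π hπ hgen hσD
  obtain ⟨bτ, hbτ, eτ⟩ := thetaFun_spec m π hπ hgen hτD
  rw [eσ, eτ, ← map_mul]
  apply thetaFun_eq m π hπ hgen hinj (Subgroup.mul_mem _ hσD hτD)
  have e : (σ * τ) • π - bσ * bτ * π =
      σ • (τ • π - bτ * π) + (σ • bτ - bτ) * (σ • π) + bτ * (σ • π - bσ * π) := by
    rw [mul_smul, smul_sub, smul_mul']; ring
  rw [e]
  refine Ideal.add_mem _ (Ideal.add_mem _ ?_ ?_) (Ideal.mul_mem_left _ _ hbσ)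
  · exact smul_mem_pow_of_mem_stabilizer m hσD hbτ
  · rw [pow_two]
    exact Ideal.mul_mem_mul (hσ bτ) (smul_mem_of_mem_stabilizer m hσD hπ)

include hinj in
theorem thetaFun_eq_one_iff {σ : G} (h : σ ∈ MulAction.stabilizer G m) :
    thetaFun m π hπ hgen σ = 1 ↔ σ • π - π ∈ m ^ 2 := by
  constructor
  · intro h1
    obtain ⟨b, hb, e⟩ := thetaFun_spec m π hπ hgen h
    rw [e] at h1
    have hb1 : b - 1 ∈ m := by
      rw [← Ideal.Quotient.eq]; exact h1
    have e2 : σ • π - π = (σ • π - b * π) + (b - 1) * π := by ring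
    rw [e2]
    refine Ideal.add_mem _ hb ?_
    rw [pow_two]
    exact Ideal.mul_mem_mul hb1 hπ
  · intro h1
    rw [thetaFun_eq m π hπ hgen hinj h (b := 1)]
    · rfl
    · simpa using h1

/-- the tame character as a monoid homomorphism on the inertia group -/
noncomputable def thetaHom : ↥(m.inertia G) →* B ⧸ m where
  toFun σ := thetaFun m π hπ hgen σ.1
  map_one' := thetaFun_one m π hπ hgen hinj
  map_mul' σ τ := thetaFun_mul m π hπ hgen hinj σ.2 τ.2

/-- the tame character with values in the units of the residue field -/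
noncomputable def thetaUnits : ↥(m.inertia G) →* (B ⧸ m)ˣ :=
  (thetaHom m π hπ hgen hinj).toHomUnits

theorem thetaUnits_eq_one_iff (σ : ↥(m.inertia G)) :
    thetaUnits m π hπ hgen hinj σ = 1 ↔ σ.1 • π - π ∈ m ^ 2 := by
  rw [← thetaFun_eq_one_iff m π hπ hgen hinj (Ideal.inertia_le_stabilizer m σ.2), Units.ext_iff]
  rfl

include hπ hgen in
/-- Under a separability hypothesis, the kernel of the tame character is the wild inertia group. -/
theorem mem_wild_of_sub_mem
    (hsep : ∀ x : B, ∃ f : Polynomial B, (∀ σ ∈ m.inertia G, ∀ n, σ • f.coeff n = f.coeff n) ∧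
      f.eval x ∈ m ∧ f.derivative.eval x ∉ m)
    {σ : G} (hσ : σ ∈ m.inertia G) (h1 : σ • π - π ∈ m ^ 2) : σ ∈ wild (G := G) m := by
  have hσD := Ideal.inertia_le_stabilizer m hσ
  refine ⟨hσD, ?_⟩
  -- step (i): elements of m
  have hm : ∀ y ∈ m, σ • y - y ∈ m ^ 2 := by
    intro y hy
    obtain ⟨b, hb⟩ := hgen y hy
    have e : σ • y - y = (σ • (y - b * π) - (y - b * π)) + σ • b * (σ • π - π) + (σ • b - b) * π := by
      rw [smul_sub, smul_mul']; ring
    rw [e]
    refine Ideal.add_mem _ (Ideal.add_mem _ (Ideal.sub_mem _ ?_ hb) (Ideal.mul_mem_left _ _ h1)) ?_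
    · exact smul_mem_pow_of_mem_stabilizer m hσD hb
    · rw [pow_two]; exact Ideal.mul_mem_mul (hσ b) hπ
  intro x
  obtain ⟨f, hf, hfx, hfx'⟩ := hsep x
  -- σ (f x) = f (σ x)
  have hσf : σ • f.eval x = f.eval (σ • x) := by
    rw [Polynomial.eval_eq_sum_range, Polynomial.eval_eq_sum_range, Finset.smul_sum]
    refine Finset.sum_congr rfl fun n _ => ?_
    rw [smul_mul', smul_pow', hf σ hσ n]
  obtain ⟨k, hk⟩ := Polynomial.binomExpansion f x (σ • x - x)
  rw [add_sub_cancel] at hk
  have h2 : f.derivative.eval x * (σ • x - x) ∈ m ^ 2 := by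
    have e : f.derivative.eval x * (σ • x - x) =
        (σ • f.eval x - f.eval x) - k * (σ • x - x) ^ 2 := by
      rw [hσf, hk]; ring
    rw [e]
    refine Ideal.sub_mem _ (hm _ hfx) (Ideal.mul_mem_left _ _ ?_)
    exact Ideal.pow_mem_pow (hσ x) 2
  -- f'(x) is a unit modulo m^2
  have hcop : Ideal.span {f.derivative.eval x} ⊔ m ^ 2 = ⊤ := by
    apply Ideal.sup_pow_eq_top
    exact (‹m.IsMaximal›).1.2 (Ideal.span {f.derivative.eval x} ⊔ m)
      (lt_of_le_of_ne le_sup_right (fun h => hfx' (h ▸ Ideal.mem_sup_left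
        (Ideal.mem_span_singleton_self _))))
  obtain ⟨u, hu, c, hc, huc⟩ := Submodule.mem_sup.mp (hcop ▸ Submodule.mem_top : (1 : B) ∈ _)
  obtain ⟨a, rfl⟩ := Ideal.mem_span_singleton'.mp hu
  have e : σ • x - x = a * (f.derivative.eval x * (σ • x - x)) + c * (σ • x - x) := by
    calc σ • x - x = (a * f.derivative.eval x + c) * (σ • x - x) := by rw [huc, one_mul]
      _ = _ := by ring
  rw [e]
  exact Ideal.add_mem _ (Ideal.mul_mem_left _ _ h2) (Ideal.mul_mem_right _ _ hc)

end tame

section counting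

variable {Q : Type*} [Group Q] [Finite Q] {k : Type*} [Field k]

/-- an injective character of a finite group killed by `e`, with at least as many elements as
there are `e`-th roots of unity, identifies the group with the roots of unity -/
theorem nonempty_mulEquiv_rootsOfUnity (ψ : Q →* kˣ) (hψ : Function.Injective ψ) (e : ℕ) [NeZero e]
    (hpow : ∀ q : Q, q ^ e = 1) (hcard : Nat.card (rootsOfUnity e k) ≤ Nat.card Q) :
    Nonempty (Q ≃* rootsOfUnity e k) := by
  have hmem : ∀ q : Q, ψ q ∈ rootsOfUnity e k := by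
    intro q
    rw [mem_rootsOfUnity, ← map_pow, hpow, map_one]
  let ψ' : Q →* rootsOfUnity e k := ψ.codRestrict _ hmem
  have hinj : Function.Injective ψ' := by
    intro a b hab
    apply hψ
    exact congrArg Subtype.val hab
  have hle : Nat.card Q ≤ Nat.card (rootsOfUnity e k) := Nat.card_le_card_of_injective ψ' hinj
  have hbij : Function.Bijective ψ' :=
    (Nat.bijective_iff_injective_and_card ψ').mpr ⟨hinj, le_antisymm hle hcard⟩
  exact ⟨MulEquiv.ofBijective ψ' hbij⟩

theorem card_rootsOfUnity_le_ordCompl (p : ℕ) [hp : Fact p.Prime] [CharP k p] (e : ℕ) [NeZero e] :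
    Nat.card (rootsOfUnity e k) ≤ e / p ^ e.factorization p := by
  have : ExpChar k p := ExpChar.prime hp.out
  have : NeZero (e / p ^ e.factorization p) := ⟨(Nat.ordCompl_pos p (NeZero.ne e)).ne'⟩
  have heq : rootsOfUnity e k = rootsOfUnity (e / p ^ e.factorization p) k := by
    ext ζ
    rw [mem_rootsOfUnity, mem_rootsOfUnity]
    conv_lhs => rw [← Nat.ordProj_mul_ordCompl_eq_self e p]
    rw [Units.ext_iff, Units.ext_iff, Units.val_pow_eq_pow_val, Units.val_pow_eq_pow_val,
      Units.val_one]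
    exact ExpChar.pow_prime_pow_mul_eq_one_iff p _ _ (ζ : k)
  rw [heq]
  exact card_rootsOfUnity _ _

end counting

section structure_thm

variable {I : Type*} [Group I] [Finite I] (N : Subgroup I) [N.Normal] {k : Type*} [Field k]
  (φ : I →* kˣ) (hker : φ.ker = N) (e : ℕ) (he : Nat.card I = e)

include hker in
theorem kerLift_data : ∃ ψ : I ⧸ N →* kˣ, Function.Injective ψ := by
  subst hker
  exact ⟨QuotientGroup.kerLift φ, QuotientGroup.kerLift_injective φ⟩

include hker in
theorem isCyclic_quotient : IsCyclic (I ⧸ N) := by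
  obtain ⟨ψ, hψ⟩ := kerLift_data N φ hker
  exact isCyclic_of_injective_ringHom ((Units.coeHom k).comp ψ)
    (Units.val_injective.comp hψ)

include he in
theorem pow_card_quotient (q : I ⧸ N) : q ^ e = 1 := by
  have h1 : Nat.card (I ⧸ N) ∣ e := by
    rw [← he]
    exact ⟨Nat.card N, N.card_eq_card_quotient_mul_card_subgroup⟩
  obtain ⟨c, hc⟩ := h1
  rw [hc, pow_mul, pow_card_eq_one', one_pow]

include hker he in
theorem structure_charP (p : ℕ) (hp : p.Prime) [CharP k p] (hN : IsPGroup p N) :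
    Nat.card (I ⧸ N) = e / p ^ e.factorization p ∧ Nonempty (I ⧸ N ≃* rootsOfUnity e k) := by
  have : Fact p.Prime := ⟨hp⟩
  obtain ⟨ψ, hψ⟩ := kerLift_data N φ hker
  have hepos : 0 < e := by rw [← he]; exact Nat.card_pos
  have : NeZero e := ⟨hepos.ne'⟩
  obtain ⟨b, hb⟩ := IsPGroup.iff_card.mp hN
  have hmul : e = Nat.card (I ⧸ N) * p ^ b := by
    rw [← he, ← hb]; exact N.card_eq_card_quotient_mul_card_subgroup
  have hble : b ≤ e.factorization p :=
    (hp.pow_dvd_iff_le_factorization hepos.ne').mp ⟨Nat.card (I ⧸ N), by rw [hmul]; ring⟩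
  have hQ : e / p ^ e.factorization p ≤ Nat.card (I ⧸ N) := by
    have h1 : Nat.card (I ⧸ N) = e / p ^ b := by
      rw [hmul, Nat.mul_div_cancel _ (pow_pos hp.pos b)]
    rw [h1]
    exact Nat.div_le_div_left (Nat.pow_le_pow_right hp.pos hble) (pow_pos hp.pos b)
  have hμ := card_rootsOfUnity_le_ordCompl (k := k) p e
  have hinj : Nat.card (I ⧸ N) ≤ Nat.card (rootsOfUnity e k) := by
    have hmem : ∀ q : I ⧸ N, ψ q ∈ rootsOfUnity e k := by
      intro q
      rw [mem_rootsOfUnity, ← map_pow, pow_card_quotient N e he, map_one]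
    exact Nat.card_le_card_of_injective (ψ.codRestrict _ hmem)
      (fun a b hab => hψ (congrArg Subtype.val hab))
  refine ⟨le_antisymm (hinj.trans hμ) hQ, ?_⟩
  exact nonempty_mulEquiv_rootsOfUnity ψ hψ e (pow_card_quotient N e he) (hμ.trans hQ)

include hker he in
theorem structure_charZero (hN : N = ⊥) :
    Nat.card (I ⧸ N) = e ∧ Nonempty (I ⧸ N ≃* rootsOfUnity e k) := by
  obtain ⟨ψ, hψ⟩ := kerLift_data N φ hker
  have hepos : 0 < e := by rw [← he]; exact Nat.card_pos
  have : NeZero e := ⟨hepos.ne'⟩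
  have hcard : Nat.card (I ⧸ N) = e := by
    have h := N.card_eq_card_quotient_mul_card_subgroup
    rw [he] at h
    have hN1 : Nat.card N = 1 := by rw [hN]; exact Subgroup.card_bot
    rw [hN1, mul_one] at h
    exact h.symm
  refine ⟨hcard, ?_⟩
  refine nonempty_mulEquiv_rootsOfUnity ψ hψ e (pow_card_quotient N e he) ?_
  rw [hcard]
  exact card_rootsOfUnity _ _

end structure_thm

end Groth.Agent.Lib.R2H1.Tame
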