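import Mathlib
import Groth.Agent.Lib.R2H1Tame0

/-!
# Inertia, wild inertia and the tame character for a Galois group acting on a Dedekind domain
(helper1, round 2).  Concrete input for the abstract results of `R2H1Tame`.
-/

set_option autoImplicit false
open scoped Pointwise

namespace Groth.Agent.Lib.R2H1.TameGal

open Ideal

attribute [local instance] Ideal.Quotient.field in
theorem card_stabilizer_eq {A B : Type*} [CommRing A] [CommRing B] [Algebra A B]
    {G : Type*} [Group G] [Finite G] [MulSemiringAction G B] [IsGaloisGroup G A B]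
    (p : Ideal A) [p.IsMaximal] (m : Ideal B) [m.IsMaximal] [m.LiesOver p]
    [Algebra.IsSeparable (A ⧸ p) (B ⧸ m)] :
    Nat.card (MulAction.stabilizer G m) =
      Nat.card (m.inertia G) * Module.finrank (A ⧸ p) (B ⧸ m) := by
  have hinv : Algebra.IsInvariant A B G := IsGaloisGroup.isInvariant
  have hcomm : SMulCommClass G A B := IsGaloisGroup.commutes
  have hnormal : Normal (A ⧸ p) (B ⧸ m) := Ideal.Quotient.normal G p m
  have : IsGalois (A ⧸ p) (B ⧸ m) := { __ := hnormal }
  have : Module.Finite (A ⧸ p) (B ⧸ m) := Ideal.Quotient.finite_of_isInvariant G p m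
  have h1 : Subgroup.index (m.inertia (MulAction.stabilizer G m)) = Nat.card (Gal((B ⧸ m)/(A ⧸ p))) :=
    Nat.card_congr (Ideal.Quotient.stabilizerQuotientInertiaEquiv G p m).toEquiv
  rw [← IsGalois.card_aut_eq_finrank (A ⧸ p) (B ⧸ m), ← h1,
    ← ((m.inertia G).subgroupOf (MulAction.stabilizer G m)).card_mul_index,
    Nat.card_congr (Subgroup.subgroupOfEquivOfLe (Ideal.inertia_le_stabilizer (M := G) m)).toEquiv,
    AddSubgroup.subgroupOf_inertia]

theorem card_inertia_eq {A B : Type*} [CommRing A] [IsDomain A] [CommRing B] [Algebra A B]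
    [Module.Finite A B] [Module.Flat A B] [IsDedekindDomain B] [Module.IsTorsionFree A B]
    {G : Type*} [Group G] [Finite G] [MulSemiringAction G B] [IsGaloisGroup G A B]
    (p : Ideal A) [p.IsMaximal] (hp : p ≠ ⊥) (m : Ideal B) [m.IsMaximal] [m.LiesOver p]
    [Algebra.IsSeparable (A ⧸ p) (B ⧸ m)] :
    Nat.card (m.inertia G) = p.ramificationIdx' m := by
  have hcomm : SMulCommClass G A B := IsGaloisGroup.commutes
  have hinv : Algebra.IsInvariant A B G := IsGaloisGroup.isInvariant
  have H1 := Ideal.ncard_primesOver_mul_ramificationIdxIn_mul_inertiaDegIn p B G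
  rw [Ideal.ramificationIdxIn_eq_ramificationIdx p m G, Ideal.inertiaDegIn_eq_inertiaDeg p m G,
    Ideal.inertiaDeg_eq_of_isMaximal p m, ← Ideal.ramificationIdx'_eq_ramificationIdx p m hp] at H1
  have H2 : (p.primesOver B).ncard * Nat.card (MulAction.stabilizer G m) = Nat.card G := by
    rw [← Algebra.IsInvariant.orbit_eq_primesOver A B G p m]
    simpa using Nat.card_congr (MulAction.orbitProdStabilizerEquivGroup G m)
  rw [card_stabilizer_eq p m, ← H1] at H2
  have h1 : (p.primesOver B).ncard ≠ 0 := by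
    intro h0
    rw [h0, zero_mul] at H1
    exact (Nat.card_pos (α := G)).ne' H1.symm
  have h2 : Module.finrank (A ⧸ p) (B ⧸ m) ≠ 0 := by
    intro h0
    rw [h0, mul_zero, mul_zero] at H1
    exact (Nat.card_pos (α := G)).ne' H1.symm
  have := Nat.eq_of_mul_eq_mul_left (Nat.pos_of_ne_zero h1) H2
  exact Nat.eq_of_mul_eq_mul_right (Nat.pos_of_ne_zero h2) this

theorem exists_uniformizer {B : Type*} [CommRing B] [IsDedekindDomain B] (m : Ideal B) [m.IsMaximal]
    (hm : m ≠ ⊥) :
    ∃ π ∈ m, (∀ y ∈ m, ∃ b : B, y - b * π ∈ m ^ 2) ∧ (∀ b : B, b * π ∈ m ^ 2 → b ∈ m) := by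
  have hlt : m ^ (1 + 1) < m ^ 1 := Ideal.pow_succ_lt_pow hm 1
  rw [pow_one] at hlt
  obtain ⟨π, hπm, hπ2⟩ := SetLike.exists_of_lt hlt
  refine ⟨π, hπm, ?_, ?_⟩
  · have hJ : Ideal.span {π} ⊔ m ^ (1 + 1) = m ^ 1 := by
      apply Ideal.eq_prime_pow_of_succ_lt_of_le hm
      · refine lt_of_le_of_ne le_sup_right ?_
        intro h
        apply hπ2
        rw [h]
        exact Ideal.mem_sup_left (Ideal.mem_span_singleton_self π)
      · rw [pow_one]
        exact sup_le ((Ideal.span_singleton_le_iff_mem _).mpr hπm) hlt.le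
    rw [pow_one] at hJ
    intro y hy
    rw [← hJ] at hy
    obtain ⟨u, hu, c, hc, rfl⟩ := Submodule.mem_sup.mp hy
    obtain ⟨b, rfl⟩ := Ideal.mem_span_singleton'.mp hu
    exact ⟨b, by simpa using hc⟩
  · intro b hb
    rcases Ideal.IsPrime.mul_mem_pow m hb with h | h
    · exact h
    · exact absurd h hπ2

attribute [local instance] Ideal.Quotient.field in
/-- the separability input: every element of `B` is killed mod `m` by a polynomial with coefficients
in `A` whose derivative does not vanish mod `m` -/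
theorem exists_sep_poly {A B : Type*} [CommRing A] [CommRing B] [Algebra A B]
    (p : Ideal A) [p.IsMaximal] (m : Ideal B) [m.IsMaximal] [m.LiesOver p]
    [Algebra.IsSeparable (A ⧸ p) (B ⧸ m)] (x : B) :
    ∃ f : Polynomial A, (f.map (algebraMap A B)).eval x ∈ m ∧
      (f.map (algebraMap A B)).derivative.eval x ∉ m := by
  have hsep : (minpoly (A ⧸ p) (Ideal.Quotient.mk m x)).Separable :=
    Algebra.IsSeparable.isSeparable (A ⧸ p) (Ideal.Quotient.mk m x)
  obtain ⟨f, hf⟩ := Polynomial.map_surjective (Ideal.Quotient.mk p) Ideal.Quotient.mk_surjective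
    (minpoly (A ⧸ p) (Ideal.Quotient.mk m x))
  have hcomm : (algebraMap (A ⧸ p) (B ⧸ m)).comp (Ideal.Quotient.mk p) =
      (Ideal.Quotient.mk m).comp (algebraMap A B) := by
    ext a
    rfl
  have key : ∀ g : Polynomial A, Ideal.Quotient.mk m ((g.map (algebraMap A B)).eval x) =
      Polynomial.aeval (Ideal.Quotient.mk m x) (g.map (Ideal.Quotient.mk p)) := by
    intro g
    rw [Polynomial.aeval_def, Polynomial.eval₂_map, hcomm, ← Polynomial.eval₂_map,
      Polynomial.eval₂_hom, Polynomial.eval_map]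
  refine ⟨f, ?_, ?_⟩
  · rw [← Ideal.Quotient.eq_zero_iff_mem, key, hf, minpoly.aeval]
  · rw [← Ideal.Quotient.eq_zero_iff_mem, Polynomial.derivative_map, key,
      ← Polynomial.derivative_map, hf]
    exact hsep.aeval_derivative_ne_zero (minpoly.aeval _ _)

open Groth.Agent.Lib.R2H1.Tame

attribute [local instance] Ideal.Quotient.field in
/-- Main structure theorem in the setting of a finite group acting on a Dedekind domain `B` with
invariants `A`, for a maximal ideal `m` of `B` with separable residue field extension. -/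
theorem main {A B : Type*} [CommRing A] [IsDomain A] [CommRing B] [Algebra A B]
    [Module.Finite A B] [Module.Flat A B] [IsDedekindDomain B] [Module.IsTorsionFree A B]
    {G : Type*} [Group G] [Finite G] [MulSemiringAction G B] [IsGaloisGroup G A B]
    (p : Ideal A) [p.IsMaximal] (hp : p ≠ ⊥) (m : Ideal B) [m.IsMaximal] [m.LiesOver p]
    [Algebra.IsSeparable (A ⧸ p) (B ⧸ m)] :
    wild (G := G) m ≤ m.inertia G ∧ m.inertia G ≤ MulAction.stabilizer G m ∧
    ((wild (G := G) m).subgroupOf (MulAction.stabilizer G m)).Normal ∧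
    (∀ q : ℕ, q.Prime → CharP (A ⧸ p) q → IsPGroup q (wild (G := G) m)) ∧
    (CharZero (A ⧸ p) → wild (G := G) m = ⊥) ∧
    (∀ [((wild (G := G) m).subgroupOf (m.inertia G)).Normal],
      IsCyclic (m.inertia G ⧸ (wild (G := G) m).subgroupOf (m.inertia G)) ∧
      (∀ q : ℕ, q.Prime → CharP (A ⧸ p) q →
        Nat.card (m.inertia G ⧸ (wild (G := G) m).subgroupOf (m.inertia G)) =
          p.ramificationIdx' m / q ^ (p.ramificationIdx' m).factorization q) ∧
      (CharZero (A ⧸ p) →
        Nat.card (m.inertia G ⧸ (wild (G := G) m).subgroupOf (m.inertia G)) = p.ramificationIdx' m) ∧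
      Nonempty (m.inertia G ⧸ (wild (G := G) m).subgroupOf (m.inertia G) ≃*
        ↥(rootsOfUnity (p.ramificationIdx' m) (B ⧸ m)))) := by
  classical
  have hcomm : SMulCommClass G A B := IsGaloisGroup.commutes
  have hfaith : FaithfulSMul G B := IsGaloisGroup.faithful A
  have hinjAB : Function.Injective (algebraMap (A ⧸ p) (B ⧸ m)) := RingHom.injective _
  have hinf : ⨅ k : ℕ, m ^ k = ⊥ := Ideal.iInf_pow_eq_bot_of_isDomain m (Ideal.IsMaximal.ne_top ‹_›)
  have hm0 : m ≠ ⊥ := by
    intro h0
    apply hp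
    rw [Ideal.over_def m p, h0]
    exact (RingHom.injective_iff_ker_eq_bot _).mp (FaithfulSMul.algebraMap_injective A B)
  -- characteristic transfer
  have hcharP : ∀ q : ℕ, CharP (A ⧸ p) q → CharP (B ⧸ m) q := fun q _ =>
    charP_of_injective_algebraMap hinjAB q
  have hchar0 : CharZero (A ⧸ p) → CharZero (B ⧸ m) := fun _ =>
    charZero_of_injective_algebraMap hinjAB
  have hnotmem : ∀ r : ℕ, ((r : B ⧸ m) ≠ 0) → (r : B) ∉ m := by
    intro r hr hmem
    apply hr
    have : (Ideal.Quotient.mk m) (r : B) = 0 := Ideal.Quotient.eq_zero_iff_mem.mpr hmem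
    simpa using this
  have hP1 : ∀ q : ℕ, q.Prime → CharP (A ⧸ p) q → IsPGroup q (wild (G := G) m) := by
    intro q hq hqc
    have := hcharP q hqc
    rintro ⟨σ, hσ⟩
    have hn0 : orderOf σ ≠ 0 := (orderOf_pos σ).ne'
    obtain ⟨a, r, hr, hn⟩ := Nat.exists_eq_pow_mul_and_not_dvd hn0 q hq.ne_one
    refine ⟨a, Subtype.ext ?_⟩
    have hσ' : σ ^ q ^ a ∈ wild (G := G) m := Subgroup.pow_mem _ hσ _
    have hr' : (r : B) ∉ m := by
      apply hnotmem
      rw [Ne, CharP.cast_eq_zero_iff (B ⧸ m) q]
      exact hr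
    have hpow : (σ ^ q ^ a) ^ r = 1 := by
      rw [← pow_mul, ← hn, pow_orderOf_eq_one]
    exact eq_one_of_pow_eq_one m hinf hσ' r hr' hpow
  have hP0 : CharZero (A ⧸ p) → wild (G := G) m = ⊥ := by
    intro h0
    have := hchar0 h0
    rw [eq_bot_iff]
    intro σ hσ
    rw [Subgroup.mem_bot]
    have hn0 : orderOf σ ≠ 0 := (orderOf_pos σ).ne'
    refine eq_one_of_pow_eq_one m hinf hσ (orderOf σ) (hnotmem _ ?_) (pow_orderOf_eq_one σ)
    exact Nat.cast_ne_zero.mpr hn0
  refine ⟨wild_le_inertia m, Ideal.inertia_le_stabilizer m, wild_normal m, hP1, hP0, ?_⟩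
  intro hN
  -- the tame character
  obtain ⟨π, hπ, hgen, hinj⟩ := exists_uniformizer m hm0
  have hsep : ∀ x : B, ∃ f : Polynomial B,
      (∀ σ ∈ m.inertia G, ∀ n, σ • f.coeff n = f.coeff n) ∧
      f.eval x ∈ m ∧ f.derivative.eval x ∉ m := by
    intro x
    obtain ⟨g, hg1, hg2⟩ := exists_sep_poly p m x
    refine ⟨g.map (algebraMap A B), ?_, hg1, hg2⟩
    intro σ _ n
    rw [Polynomial.coeff_map, smul_algebraMap]
  have hker : (thetaUnits m π hπ hgen hinj).ker = (wild (G := G) m).subgroupOf (m.inertia G) := by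
    ext σ
    rw [MonoidHom.mem_ker, thetaUnits_eq_one_iff, Subgroup.mem_subgroupOf]
    constructor
    · intro h
      exact mem_wild_of_sub_mem m π hπ hgen hsep σ.2 h
    · intro h
      exact h.2 π
  have hcard : Nat.card (m.inertia G) = p.ramificationIdx' m := card_inertia_eq p hp m
  refine ⟨isCyclic_quotient _ (thetaUnits m π hπ hgen hinj) hker, ?_, ?_, ?_⟩
  · intro q hq hqc
    have := hcharP q hqc
    have hPq : IsPGroup q ((wild (G := G) m).subgroupOf (m.inertia G)) :=
      (hP1 q hq hqc).comap_subtype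
    exact (structure_charP _ (thetaUnits m π hπ hgen hinj) hker _ hcard q hq hPq).1
  · intro h0
    have := hchar0 h0
    have hbot : (wild (G := G) m).subgroupOf (m.inertia G) = ⊥ := by
      rw [hP0 h0]; exact Subgroup.bot_subgroupOf _
    exact (structure_charZero _ (thetaUnits m π hπ hgen hinj) hker _ hcard hbot).1
  · obtain ⟨q, hqc⟩ := CharP.exists (A ⧸ p)
    rcases CharP.char_is_prime_or_zero (A ⧸ p) q with hq | hq
    · have := hcharP q hqc
      have hPq : IsPGroup q ((wild (G := G) m).subgroupOf (m.inertia G)) :=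
        (hP1 q hq hqc).comap_subtype
      exact (structure_charP _ (thetaUnits m π hπ hgen hinj) hker _ hcard q hq hPq).2
    · subst hq
      have h0 : CharZero (A ⧸ p) := CharP.charP_to_charZero _
      have := hchar0 h0
      have hbot : (wild (G := G) m).subgroupOf (m.inertia G) = ⊥ := by
        rw [hP0 h0]; exact Subgroup.bot_subgroupOf _
      exact (structure_charZero _ (thetaUnits m π hπ hgen hinj) hker _ hcard hbot).2

end Groth.Agent.Lib.R2H1.TameGal
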