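import Mathlib
import Groth.Agent.Lib.R2H1EtRam
import Groth.Agent.Lib.R2H1TameGal

/-!
# Inertia groups of valuation subrings in finite Galois extensions of the fraction field of a DVR
(helper1, round 2)

Main results (`A` a DVR, `K = Frac A`, `M/K` finite Galois, `W` a valuation subring of `M`
dominating `A`):

* `card_inertia_eq`: `|I_Q| = e · f_insep` for a finite group acting on a Dedekind domain
  (no separability assumption on the residue field extension).
* `inertiaSub K W`: the inertia group of `W` in `Gal(M/K)`; `card_inertiaSub`: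
  `|I_W| = e(W/A) · [κ(W):κ(A)]_insep`.
* `relIndex_fixL`: for `K ⊂ L ⊂ M`, `[I_W : I_W ∩ Gal(M/L)] = e(V/A) · [κ(V):κ(A)]_insep`, `V = W ∩ L`.
* `isUnramifiedExt_iff`, `isTamelyRamified_iff`: `EtRam.IsUnramifiedExt` / `EtRam.IsTamelyRamified`
  of `L` in terms of the inertia groups of the valuation subrings of `M`.
* `exists_sylow_inertiaSub`: in residue characteristic `p`, `I_W` has a normal Sylow `p`-subgroup.
* `exists_galois_unramified`, `exists_galois_tame`, `exists_common_unramified`, `exists_common_tame`:
  Galois closure and compositum of unramified / tame extensions.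
-/

set_option autoImplicit false
set_option linter.style.haveILetI false
set_option linter.unusedSectionVars false
open scoped Pointwise
universe u

namespace Groth.Agent.Lib.R2H1.EtRamGal

open Ideal IsLocalRing Groth.Agent.Lib.R2H1.EtRam Groth.Agent.Lib.R2H1.Tame



/-- The automorphism group of a finite normal extension has cardinality the separable degree. -/
theorem card_aut_eq_finSepDegree (F E : Type*) [Field F] [Field E] [Algebra F E] [Normal F E] :
    Nat.card (E ≃ₐ[F] E) = Field.finSepDegree F E :=
  (Nat.card_congr (Normal.algHomEquivAut F (AlgebraicClosure E) E)).symm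

attribute [local instance] Ideal.Quotient.field in
theorem card_stabilizer_eq {A B : Type*} [CommRing A] [CommRing B] [Algebra A B]
    {G : Type*} [Group G] [Finite G] [MulSemiringAction G B] [IsGaloisGroup G A B]
    (p : Ideal A) [p.IsMaximal] (m : Ideal B) [m.IsMaximal] [m.LiesOver p] :
    Nat.card (MulAction.stabilizer G m) =
      Nat.card (m.inertia G) * Field.finSepDegree (A ⧸ p) (B ⧸ m) := by
  have hinv : Algebra.IsInvariant A B G := IsGaloisGroup.isInvariant
  have hcomm : SMulCommClass G A B := IsGaloisGroup.commutes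
  have hnormal : Normal (A ⧸ p) (B ⧸ m) := Ideal.Quotient.normal G p m
  have h1 : Subgroup.index (m.inertia (MulAction.stabilizer G m)) = Nat.card (Gal((B ⧸ m)/(A ⧸ p))) :=
    Nat.card_congr (Ideal.Quotient.stabilizerQuotientInertiaEquiv G p m).toEquiv
  rw [← card_aut_eq_finSepDegree (A ⧸ p) (B ⧸ m), ← h1,
    ← ((m.inertia G).subgroupOf (MulAction.stabilizer G m)).card_mul_index,
    Nat.card_congr (Subgroup.subgroupOfEquivOfLe (Ideal.inertia_le_stabilizer (M := G) m)).toEquiv,
    AddSubgroup.subgroupOf_inertia]

attribute [local instance] Ideal.Quotient.field in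
theorem card_inertia_eq {A B : Type*} [CommRing A] [IsDomain A] [CommRing B] [Algebra A B]
    [Module.Finite A B] [Module.Flat A B] [IsDedekindDomain B] [Module.IsTorsionFree A B]
    {G : Type*} [Group G] [Finite G] [MulSemiringAction G B] [IsGaloisGroup G A B]
    (p : Ideal A) [p.IsMaximal] (hp : p ≠ ⊥) (m : Ideal B) [m.IsMaximal] [m.LiesOver p] :
    Nat.card (m.inertia G) = p.ramificationIdx' m * Field.finInsepDegree (A ⧸ p) (B ⧸ m) := by
  have hcomm : SMulCommClass G A B := IsGaloisGroup.commutes
  have hinv : Algebra.IsInvariant A B G := IsGaloisGroup.isInvariant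
  have H1 := Ideal.ncard_primesOver_mul_ramificationIdxIn_mul_inertiaDegIn p B G
  rw [Ideal.ramificationIdxIn_eq_ramificationIdx p m G, Ideal.inertiaDegIn_eq_inertiaDeg p m G,
    Ideal.inertiaDeg_eq_of_isMaximal p m, ← Ideal.ramificationIdx'_eq_ramificationIdx p m hp] at H1
  have H2 : (p.primesOver B).ncard * Nat.card (MulAction.stabilizer G m) = Nat.card G := by
    rw [← Algebra.IsInvariant.orbit_eq_primesOver A B G p m]
    simpa using Nat.card_congr (MulAction.orbitProdStabilizerEquivGroup G m)
  rw [card_stabilizer_eq p m, ← H1] at H2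
  have h1 : (p.primesOver B).ncard ≠ 0 := by
    intro h0
    rw [h0, zero_mul] at H1
    exact (Nat.card_pos (α := G)).ne' H1.symm
  have h2 : Module.finrank (A ⧸ p) (B ⧸ m) ≠ 0 := by
    intro h0
    rw [h0, mul_zero, mul_zero] at H1
    exact (Nat.card_pos (α := G)).ne' H1.symm
  have h3 := Nat.eq_of_mul_eq_mul_left (Nat.pos_of_ne_zero h1) H2
  -- h3 : card I * finSep = e * finrank
  have h4 := Field.finSepDegree_mul_finInsepDegree (A ⧸ p) (B ⧸ m)
  have h5 : Field.finSepDegree (A ⧸ p) (B ⧸ m) ≠ 0 := by
    intro h0
    rw [h0, zero_mul] at h4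
    exact h2 h4.symm
  rw [← h4] at h3
  have h6 : Nat.card (m.inertia G) * Field.finSepDegree (A ⧸ p) (B ⧸ m) =
      (p.ramificationIdx' m * Field.finInsepDegree (A ⧸ p) (B ⧸ m)) *
        Field.finSepDegree (A ⧸ p) (B ⧸ m) := by
    rw [h3]; ring
  exact Nat.eq_of_mul_eq_mul_right (Nat.pos_of_ne_zero h5) h6




section Bridge

variable {A C W : Type*} [CommRing A] [CommRing C] [CommRing W] [Algebra A C] [Algebra C W]
  [Algebra A W] [IsScalarTower A C W] (Q : Ideal C) [Q.IsMaximal] [IsLocalization.AtPrime W Q]
  [IsLocalRing W]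

/-- The ramification index does not change under localization at the upper prime. -/
theorem ramificationIdx'_localization (P : Ideal A) :
    Ideal.ramificationIdx' P (maximalIdeal W) = Ideal.ramificationIdx' P Q := by
  unfold Ideal.ramificationIdx'
  congr 1
  ext n
  simp only [Set.mem_ofPred_eq]
  constructor
  · intro h
    have h1 : P.map (algebraMap A C) ≤ (maximalIdeal W ^ n).under C := by
      rw [Ideal.under_def, ← Ideal.map_le_iff_le_comap, Ideal.map_map,
        ← IsScalarTower.algebraMap_eq]
      exact h
    rwa [IsLocalization.AtPrime.under_maximalIdeal_pow Q W n] at h1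
  · intro h
    rw [IsScalarTower.algebraMap_eq A C W, ← Ideal.map_map,
      ← IsLocalization.AtPrime.map_eq_maximalIdeal Q W, ← Ideal.map_pow]
    exact Ideal.map_mono h

attribute [local instance] Ideal.Quotient.field in
/-- The residue field of the localization, as an algebra over the residue field below. -/
noncomputable def residueEquiv (P : Ideal A) [P.IsMaximal] [Q.LiesOver P] [(maximalIdeal W).LiesOver P] :
    (C ⧸ Q) ≃ₐ[A ⧸ P] (W ⧸ maximalIdeal W) :=
  AlgEquiv.ofRingEquiv (f := IsLocalization.AtPrime.equivQuotMaximalIdeal Q W) (by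
    intro x
    obtain ⟨a, rfl⟩ := Ideal.Quotient.mk_surjective x
    rw [Ideal.Quotient.algebraMap_mk_of_liesOver, Ideal.Quotient.algebraMap_mk_of_liesOver,
      IsLocalization.AtPrime.equivQuotMaximalIdeal_apply_mk, ← IsScalarTower.algebraMap_apply])

end Bridge




/-- The valuation subring `V` as an algebra over the integral closure. -/
noncomputable abbrev algIntegralClosure {A L : Type u} [CommRing A] [Field L] [Algebra A L]
    (V : ValuationSubring L) (hV : ∀ a : A, algebraMap A L a ∈ V) :
    Algebra (integralClosure A L) V :=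
  (Subring.inclusion (integralClosure_le V hV)).toAlgebra

set_option maxHeartbeats 400000 in
theorem isLocalization_of_dominates (A K L : Type u) [CommRing A] [IsDomain A]
    [IsDiscreteValuationRing A]
    [Field K] [Algebra A K] [IsFractionRing A K] [Field L] [Algebra K L] [Algebra A L]
    [IsScalarTower A K L] [FiniteDimensional K L] [Algebra.IsSeparable K L]
    (V : ValuationSubring L) (h : EtRam.Dominates A (algebraMap A L) V) :
    letI := algIntegralClosure V h.1
    (maximalIdeal V).comap (algebraMap (integralClosure A L) V) ≠ ⊥ ∧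
      IsLocalization.AtPrime V ((maximalIdeal V).comap (algebraMap (integralClosure A L) V)) := by
  letI alg := algIntegralClosure V h.1
  obtain ⟨Q, hQp, hQ0, heq⟩ := exists_eq_ofPrime A K L V h
  let S : Subring L := (LocalSubring.ofPrime (integralClosure A L).toSubring Q).toSubring
  let e0 : S ≃+* V := RingEquiv.subringCongr heq.symm
  let e : S ≃ₐ[(integralClosure A L).toSubring] V :=
    AlgEquiv.ofRingEquiv (f := e0) (fun x => Subtype.ext rfl)
  haveI hloc : IsLocalization.AtPrime V Q :=
    IsLocalization.isLocalization_of_algEquiv Q.primeCompl e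
  have hQ : (maximalIdeal V).comap (algebraMap (integralClosure A L) V) = Q :=
    IsLocalization.AtPrime.under_maximalIdeal V Q
  subst hQ
  exact ⟨hQ0, hloc⟩




section InertiaSub

variable (K : Type u) {M : Type u} [Field K] [Field M] [Algebra K M]

/-- `σ` moves every element of `W` by an element of the maximal ideal. -/
def IsInertial (W : ValuationSubring M) (σ : M → M) : Prop :=
  ∀ x ∈ W, σ x - x ∈ W.nonunits

theorem IsInertial.map_mem {W : ValuationSubring M} {σ : M → M} (h : IsInertial W σ) {x : M}
    (hx : x ∈ W) : σ x ∈ W := by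
  have h1 := W.nonunits_subset (h x hx)
  have : σ x = (σ x - x) + x := by ring
  rw [this]
  exact W.add_mem _ _ h1 hx

theorem IsInertial.map_mem_nonunits {W : ValuationSubring M} {σ : M → M} (h : IsInertial W σ) {x : M}
    (hx : x ∈ W.nonunits) : σ x ∈ W.nonunits := by
  have h1 := h x (W.nonunits_subset hx)
  have : σ x = (σ x - x) + x := by ring
  rw [this]
  exact W.nonunits.add_mem h1 hx

theorem IsInertial.comp {W : ValuationSubring M} {σ τ : M ≃ₐ[K] M} (hσ : IsInertial W σ)
    (hτ : IsInertial W τ) : IsInertial W (σ * τ : M ≃ₐ[K] M) := by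
  intro x hx
  have h1 : (σ * τ : M ≃ₐ[K] M) x - x = σ (τ x - x) + (σ x - x) := by
    rw [AlgEquiv.mul_apply, map_sub]; ring
  rw [h1]
  exact W.nonunits.add_mem (hσ.map_mem_nonunits (hτ x hx)) (hσ x hx)

/-- The inertia group of a valuation subring. -/
def inertiaSub (W : ValuationSubring M) : Subgroup (M ≃ₐ[K] M) where
  carrier := {σ | IsInertial W σ ∧ IsInertial W σ.symm}
  one_mem' := by
    constructor
    · intro x _
      show (1 : M ≃ₐ[K] M) x - x ∈ W.nonunits
      rw [AlgEquiv.one_apply, sub_self]; exact W.nonunits.zero_mem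
    · intro x _
      show (1 : M ≃ₐ[K] M).symm x - x ∈ W.nonunits
      rw [show (1 : M ≃ₐ[K] M).symm = 1 from rfl, AlgEquiv.one_apply, sub_self]
      exact W.nonunits.zero_mem
  mul_mem' := by
    rintro σ τ ⟨h1, h2⟩ ⟨h3, h4⟩
    refine ⟨h1.comp K h3, ?_⟩
    have : (σ * τ).symm = (τ.symm * σ.symm : M ≃ₐ[K] M) := rfl
    rw [this]
    exact h4.comp K h2
  inv_mem' := by
    rintro σ ⟨h1, h2⟩
    exact ⟨h2, h1⟩

theorem mem_inertiaSub_iff [Finite (M ≃ₐ[K] M)] (W : ValuationSubring M) (σ : M ≃ₐ[K] M) :
    σ ∈ inertiaSub K W ↔ IsInertial W σ := by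
  refine ⟨fun h => h.1, fun h => ⟨h, ?_⟩⟩
  have hpow : ∀ n : ℕ, IsInertial W (σ ^ n : M ≃ₐ[K] M) := by
    intro n
    induction n with
    | zero =>
      intro x _
      rw [pow_zero, AlgEquiv.one_apply, sub_self]; exact W.nonunits.zero_mem
    | succ n ih => rw [pow_succ]; exact ih.comp K h
  obtain ⟨n, hn, hσn⟩ := isOfFinOrder_iff_pow_eq_one.mp (isOfFinOrder_of_finite σ)
  have : σ.symm = (σ ^ (n - 1) : M ≃ₐ[K] M) := by
    have h1 : σ * σ ^ (n - 1) = 1 := by
      rw [← pow_succ', Nat.sub_add_cancel hn, hσn]
    have h2 : σ⁻¹ = σ ^ (n - 1) := inv_eq_of_mul_eq_one_right h1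
    exact h2
  rw [this]
  exact hpow _

end InertiaSub




section pgroup

variable {B : Type*} [CommRing B] {G : Type*} [Group G] [MulSemiringAction G B] (m : Ideal B)
  (π : B) (hπ : π ∈ m) (hgen : ∀ y ∈ m, ∃ b : B, y - b * π ∈ m ^ 2)

include hπ hgen in
/-- elements of the kernel of the tame character raise the `m`-adic filtration -/
theorem sub_mem_pow_succ_of_theta {σ : G} (hσ : σ ∈ m.inertia G) (h1 : σ • π - π ∈ m ^ 2)
    (k : ℕ) {y : B} (hy : y ∈ m ^ k) : σ • y - y ∈ m ^ (k + 1) := by
  have hσD := Ideal.inertia_le_stabilizer m hσ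
  have hm : ∀ y ∈ m, σ • y - y ∈ m ^ 2 := by
    intro y hy
    obtain ⟨b, hb⟩ := hgen y hy
    have e : σ • y - y = (σ • (y - b * π) - (y - b * π)) + σ • b * (σ • π - π) + (σ • b - b) * π := by
      rw [smul_sub, smul_mul']; ring
    rw [e]
    refine Ideal.add_mem _ (Ideal.add_mem _ (Ideal.sub_mem _ ?_ hb) (Ideal.mul_mem_left _ _ h1)) ?_
    · exact smul_mem_pow_of_mem_stabilizer m hσD hb
    · rw [pow_two]; exact Ideal.mul_mem_mul (hσ b) hπ
  induction k generalizing y with
  | zero => rw [zero_add, pow_one]; exact hσ y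
  | succ k ih =>
    rcases Nat.eq_zero_or_pos k with hk | hk
    · subst hk
      rw [zero_add, pow_one] at hy
      exact hm y hy
    · rw [pow_succ'] at hy
      refine Submodule.mul_induction_on hy ?_ ?_
      · intro a ha b hb
        have e : σ • (a * b) - a * b = σ • a * (σ • b - b) + (σ • a - a) * b := by
          rw [smul_mul']; ring
        rw [e]
        refine Ideal.add_mem _ ?_ ?_
        · have h2 : σ • a * (σ • b - b) ∈ m * m ^ (k + 1) :=
            Ideal.mul_mem_mul (smul_mem_of_mem_stabilizer m hσD ha) (ih hb)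
          rw [← pow_succ'] at h2
          exact h2
        · have h2 : (σ • a - a) * b ∈ m ^ 2 * m ^ k := Ideal.mul_mem_mul (hm a ha) hb
          rw [← pow_add] at h2
          exact Ideal.pow_le_pow_right (by omega) h2
      · intro y₁ y₂ h₁ h₂
        have e : σ • (y₁ + y₂) - (y₁ + y₂) = (σ • y₁ - y₁) + (σ • y₂ - y₂) := by
          rw [smul_add]; ring
        rw [e]
        exact Ideal.add_mem _ h₁ h₂

include hπ hgen in
theorem eq_one_of_pow_eq_one_of_theta [m.IsMaximal] [FaithfulSMul G B] (hinf : ⨅ k : ℕ, m ^ k = ⊥)
    {σ : G} (hσ : σ ∈ m.inertia G) (h1 : σ • π - π ∈ m ^ 2)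
    (r : ℕ) (hr : (r : B) ∉ m) (hσr : σ ^ r = 1) : σ = 1 := by
  have key : ∀ k : ℕ, ∀ x : B, σ • x - x ∈ m ^ (k + 1) := by
    intro k
    induction k with
    | zero => intro x; rw [zero_add, pow_one]; exact hσ x
    | succ k ih =>
      intro x
      have hj : ∀ j : ℕ, (σ ^ j) • x - x ∈ m ^ (k + 1) := by
        intro j
        induction j with
        | zero => simp
        | succ j ihj =>
          have e : (σ ^ (j + 1)) • x - x = (σ • ((σ ^ j) • x) - (σ ^ j) • x) + ((σ ^ j) • x - x) := by
            rw [pow_succ', mul_smul]; ring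
          rw [e]
          exact Ideal.add_mem _ (ih _) ihj
      have htel : ∑ j ∈ Finset.range r, (σ • ((σ ^ j) • x) - (σ ^ j) • x) = 0 := by
        have h1 : ∀ j, σ • ((σ ^ j) • x) = (σ ^ (j + 1)) • x := fun j => by
          rw [pow_succ', mul_smul]
        simp_rw [h1]
        rw [Finset.sum_range_sub (fun j => (σ ^ j) • x), hσr, pow_zero, sub_self]
      have hsum : (r : B) * (σ • x - x) ∈ m ^ (k + 2) := by
        have h2 : (r : B) * (σ • x - x) =
            - ∑ j ∈ Finset.range r, ((σ • ((σ ^ j) • x) - (σ ^ j) • x) - (σ • x - x)) := by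
          rw [Finset.sum_sub_distrib, htel, Finset.sum_const, Finset.card_range, nsmul_eq_mul]
          ring
        rw [h2]
        refine Ideal.neg_mem_iff _ |>.mpr (Ideal.sum_mem _ fun j _ => ?_)
        have e : (σ • ((σ ^ j) • x) - (σ ^ j) • x) - (σ • x - x) =
            σ • ((σ ^ j) • x - x) - ((σ ^ j) • x - x) := by
          rw [smul_sub]; ring
        rw [e]
        exact sub_mem_pow_succ_of_theta m π hπ hgen hσ h1 (k + 1) (hj j)
      have hcop : Ideal.span {(r : B)} ⊔ m ^ (k + 2) = ⊤ := by
        apply Ideal.sup_pow_eq_top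
        have := (‹m.IsMaximal›).1.2 (Ideal.span {(r : B)} ⊔ m)
          (lt_of_le_of_ne le_sup_right (fun h => hr (h ▸ Ideal.mem_sup_left
            (Ideal.mem_span_singleton_self _))))
        exact this
      obtain ⟨u, hu, c, hc, huc⟩ := Submodule.mem_sup.mp (hcop ▸ Submodule.mem_top : (1 : B) ∈ _)
      obtain ⟨a, rfl⟩ := Ideal.mem_span_singleton'.mp hu
      have e : σ • x - x = a * ((r : B) * (σ • x - x)) + c * (σ • x - x) := by
        calc σ • x - x = (a * (r : B) + c) * (σ • x - x) := by rw [huc, one_mul]
          _ = a * ((r : B) * (σ • x - x)) + c * (σ • x - x) := by ring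
      rw [e]
      exact Ideal.add_mem _ (Ideal.mul_mem_left _ _ hsum) (Ideal.mul_mem_right _ _ hc)
  apply FaithfulSMul.eq_of_smul_eq_smul (α := B)
  intro x
  rw [one_smul]
  have hx : σ • x - x ∈ ⨅ k : ℕ, m ^ k := by
    rw [Ideal.mem_iInf]
    intro k
    exact Ideal.pow_le_pow_right (Nat.le_succ k) (key k x)
  rw [hinf, Ideal.mem_bot] at hx
  exact sub_eq_zero.mp hx

end pgroup




/-- In a finite group with a normal Sylow `q`-subgroup `N`, the subgroups of index prime to `q`
are those containing `N`. -/
theorem not_dvd_index_iff {I : Type*} [Group I] [Finite I] (N : Subgroup I) [N.Normal] (q : ℕ)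
    [Fact q.Prime] (hN : IsPGroup q N) (hidx : ¬ q ∣ N.index) (H : Subgroup I) :
    ¬ q ∣ H.index ↔ N ≤ H := by
  constructor
  · intro h
    have hcard : ¬ q ∣ Nat.card (I ⧸ H) := h
    obtain ⟨x, hx⟩ := hN.nonempty_fixed_point_of_prime_not_dvd_card (I ⧸ H) hcard
    obtain ⟨g, rfl⟩ := QuotientGroup.mk_surjective x
    intro n hn
    have hn' : g * n * g⁻¹ ∈ N := ‹N.Normal›.conj_mem n hn g
    have := hx ⟨g * n * g⁻¹, hn'⟩
    have h2 : ((g * n * g⁻¹ * g : I) : I ⧸ H) = (g : I ⧸ H) := this
    rw [QuotientGroup.eq] at h2
    have h3 : (g * n * g⁻¹ * g)⁻¹ * g = n⁻¹ := by group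
    rw [h3] at h2
    exact (H.inv_mem_iff).mp h2
  · intro h hdvd
    exact hidx (dvd_trans hdvd (Subgroup.index_dvd_of_le h))

attribute [local instance] Ideal.Quotient.field in
/-- The inertia group of a maximal ideal of a Dedekind domain with residue characteristic `q` has a
normal Sylow `q`-subgroup; consequently the subgroups `H` with `[I : I ∩ H]` prime to `q` are those
containing it. -/
theorem exists_sylow_inertia {B : Type*} [CommRing B] [IsDedekindDomain B]
    {G : Type*} [Group G] [Finite G] [MulSemiringAction G B] [FaithfulSMul G B]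
    (m : Ideal B) [m.IsMaximal] (hm : m ≠ ⊥) (q : ℕ) (hq : q.Prime) [CharP (B ⧸ m) q] :
    ∃ J : Subgroup G, J ≤ m.inertia G ∧
      ∀ H : Subgroup G, (¬ q ∣ H.relIndex (m.inertia G)) ↔ J ≤ H := by
  haveI : Fact q.Prime := ⟨hq⟩
  obtain ⟨π, hπm, hgen, hinj⟩ := TameGal.exists_uniformizer m hm
  let θ := thetaUnits (G := G) m π hπm hgen hinj
  have hinf : ⨅ k : ℕ, m ^ k = ⊥ :=
    Ideal.iInf_pow_eq_bot_of_isDomain m (Ideal.IsMaximal.ne_top inferInstance)
  have hN : IsPGroup q θ.ker := by
    intro g
    obtain ⟨k, r, hr, hkr⟩ := Nat.exists_eq_pow_mul_and_not_dvd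
      (orderOf_pos g).ne' q hq.ne_one
    refine ⟨k, ?_⟩
    have hτr : (g ^ q ^ k) ^ r = 1 := by
      rw [← pow_mul, ← hkr, pow_orderOf_eq_one]
    have hτmem : (g ^ q ^ k).1 ∈ θ.ker := (g ^ q ^ k).2
    have hτ1 : ((g ^ q ^ k).1.1 : G) • π - π ∈ m ^ 2 :=
      (thetaUnits_eq_one_iff m π hπm hgen hinj _).mp hτmem
    have hrB : ((r : ℕ) : B) ∉ m := by
      intro hmem
      have : ((r : ℕ) : B ⧸ m) = 0 := by
        rw [← map_natCast (Ideal.Quotient.mk m), Ideal.Quotient.eq_zero_iff_mem]
        exact hmem
      exact hr ((CharP.cast_eq_zero_iff (B ⧸ m) q r).mp this)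
    have hτrG : ((g ^ q ^ k).1.1 : G) ^ r = 1 := by
      have := congrArg (fun x : θ.ker => (x.1.1 : G)) hτr
      simpa using this
    have := eq_one_of_pow_eq_one_of_theta m π hπm hgen hinf (g ^ q ^ k).1.2 hτ1 r hrB hτrG
    apply Subtype.ext
    apply Subtype.ext
    exact this
  have hidx : ¬ q ∣ θ.ker.index := by
    have h1 := (structure_charP (I := ↥(m.inertia G)) θ.ker θ rfl _ rfl q hq hN).1
    rw [Subgroup.index_eq_card, h1]
    exact Nat.not_dvd_ordCompl hq Nat.card_pos.ne'
  refine ⟨θ.ker.map (m.inertia G).subtype, ?_, ?_⟩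
  · rintro _ ⟨x, _, rfl⟩
    exact x.2
  · intro H
    have h1 : H.relIndex (m.inertia G) = (H.subgroupOf (m.inertia G)).index := rfl
    rw [h1, not_dvd_index_iff θ.ker q hN hidx, Subgroup.map_le_iff_le_comap]
    rfl




section Setup

variable (A K M : Type u) [CommRing A] [IsDomain A] [IsDiscreteValuationRing A]
    [Field K] [Algebra A K] [IsFractionRing A K] [Field M] [Algebra K M] [Algebra A M]
    [IsScalarTower A K M] [FiniteDimensional K M] [IsGalois K M]
    (W : ValuationSubring M) (hW : EtRam.Dominates A (algebraMap A M) W)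

include hW in
theorem mem_comap_iff (x : integralClosure A M) :
    letI := algIntegralClosure W hW.1
    x ∈ (maximalIdeal W).comap (algebraMap (integralClosure A M) W) ↔ (x : M) ∈ W.nonunits := by
  letI := algIntegralClosure W hW.1
  rw [Ideal.mem_comap, ← ValuationSubring.coe_mem_nonunits_iff]
  rfl

set_option maxHeartbeats 800000 in
/-- The inertia group of `W` is the inertia group of the corresponding prime of the integral
closure. -/
theorem inertiaSub_eq :
    letI := algIntegralClosure W hW.1
    letI := IsIntegralClosure.MulSemiringAction A K M (integralClosure A M)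
    inertiaSub K W =
      ((maximalIdeal W).comap (algebraMap (integralClosure A M) W)).inertia (M ≃ₐ[K] M) := by
  letI algCW := algIntegralClosure W hW.1
  letI act := IsIntegralClosure.MulSemiringAction A K M (integralClosure A M)
  obtain ⟨hQ0, hloc⟩ := isLocalization_of_dominates A K M W hW
  set Q : Ideal (integralClosure A M) :=
    (maximalIdeal W).comap (algebraMap (integralClosure A M) W) with hQdef
  have hmemQ : ∀ x : integralClosure A M, x ∈ Q ↔ (x : M) ∈ W.nonunits :=
    mem_comap_iff A M W hW
  have hsmul : ∀ (σ : M ≃ₐ[K] M) (x : integralClosure A M), ((σ • x : integralClosure A M) : M) =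
      σ (x : M) := fun σ x => algebraMap_galRestrict_apply A σ x
  ext σ
  rw [mem_inertiaSub_iff]
  constructor
  · intro h x
    show σ • x - x ∈ Q
    rw [hmemQ]
    have := h (x : M) (integralClosure_le W hW.1 x.2)
    rw [← hsmul] at this
    exact this
  · intro h y hy
    obtain ⟨⟨b, s⟩, hbs⟩ := IsLocalization.surj Q.primeCompl (⟨y, hy⟩ : W)
    have hbs' : y * (s : M) = (b : M) := congrArg Subtype.val hbs
    have hb : σ (b : M) - b ∈ W.nonunits := by
      have := (hmemQ _).mp (show σ • b - b ∈ Q from h b)
      rwa [AddSubgroupClass.coe_sub, hsmul] at this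
    have hs : σ ((s : integralClosure A M) : M) - (s : integralClosure A M) ∈ W.nonunits := by
      have := (hmemQ _).mp (show σ • (s : integralClosure A M) - s ∈ Q from h s)
      rwa [AddSubgroupClass.coe_sub, hsmul] at this
    have hsQ : ¬ ((s : integralClosure A M) : M) ∈ W.nonunits := by
      rw [← hmemQ]; exact s.2
    have hsW : ((s : integralClosure A M) : M) ∈ W :=
      integralClosure_le W hW.1 (s : integralClosure A M).2
    rw [ValuationSubring.mem_nonunits_iff] at hb hs hsQ ⊢
    have hvs : W.valuation ((s : integralClosure A M) : M) = 1 := by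
      rcases W.valuation_lt_one_or_eq_one ⟨_, hsW⟩ with h1 | h1
      · exact absurd h1 hsQ
      · exact h1
    have hvσs : W.valuation (σ ((s : integralClosure A M) : M)) = 1 := by
      have e1 : σ ((s : integralClosure A M) : M) =
          (s : integralClosure A M) + (σ ((s : integralClosure A M) : M) - (s : integralClosure A M)) := by
        ring
      rw [e1, Valuation.map_add_eq_of_lt_left _ (by rw [hvs]; exact hs), hvs]
    have hvy : W.valuation y ≤ 1 := (W.valuation_le_one_iff y).mpr hy
    have key : (σ y - y) * σ ((s : integralClosure A M) : M) =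
        (σ (b : M) - b) - y * (σ ((s : integralClosure A M) : M) - (s : integralClosure A M)) := by
      rw [← hbs', map_mul]; ring
    have h1 : W.valuation ((σ y - y) * σ ((s : integralClosure A M) : M)) < 1 := by
      rw [key]
      refine lt_of_le_of_lt (Valuation.map_sub _ _ _) (max_lt hb ?_)
      rw [map_mul]
      calc W.valuation y * W.valuation (σ ((s : integralClosure A M) : M) - (s : integralClosure A M))
          ≤ 1 * W.valuation (σ ((s : integralClosure A M) : M) - (s : integralClosure A M)) :=
            mul_le_mul_left hvy _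
        _ < 1 := by rw [one_mul]; exact hs
    rwa [map_mul, hvσs, mul_one] at h1

attribute [local instance] Ideal.Quotient.field in
set_option maxHeartbeats 800000 in
theorem card_inertiaSub :
    letI : Algebra A W := (RingHom.codRestrict (algebraMap A M) W hW.1).toAlgebra
    ∀ [IsLocalHom (algebraMap A W)],
    Module.Finite (ResidueField A) (ResidueField W) ∧
    Nat.card (inertiaSub K W) = Ideal.ramificationIdx' (maximalIdeal A) (maximalIdeal W) *
      Field.finInsepDegree (ResidueField A) (ResidueField W) := by
  intro locW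
  letI algAW : Algebra A W := (RingHom.codRestrict (algebraMap A M) W hW.1).toAlgebra
  letI algCW := algIntegralClosure W hW.1
  obtain ⟨hQ0, hloc⟩ := isLocalization_of_dominates A K M W hW
  set Q : Ideal (integralClosure A M) :=
    (maximalIdeal W).comap (algebraMap (integralClosure A M) W) with hQdef
  haveI hded : IsDedekindDomain (integralClosure A M) :=
    IsIntegralClosure.isDedekindDomain A K M _
  haveI hfr : IsFractionRing (integralClosure A M) M :=
    IsIntegralClosure.isFractionRing_of_finite_extension A K M _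
  haveI hQmax : Q.IsMaximal := Ring.DimensionLEOne.maximalOfPrime hQ0 inferInstance
  letI act := IsIntegralClosure.MulSemiringAction A K M (integralClosure A M)
  have hint : Algebra.IsIntegral A (integralClosure A M) := IsIntegralClosure.isIntegral_algebra A M
  haveI hGal : IsGaloisGroup (M ≃ₐ[K] M) A (integralClosure A M) :=
    IsGaloisGroup.of_isFractionRing _ _ _ K M
  haveI hfin : Module.Finite A (integralClosure A M) := IsIntegralClosure.finite A K M _
  have hinjAM : Function.Injective (algebraMap A M) := by
    rw [IsScalarTower.algebraMap_eq A K M]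
    exact (algebraMap K M).injective.comp (IsFractionRing.injective A K)
  have hinjAC : Function.Injective (algebraMap A (integralClosure A M)) := by
    rw [IsScalarTower.algebraMap_eq A (integralClosure A M) M, RingHom.coe_comp] at hinjAM
    exact Function.Injective.of_comp hinjAM
  haveI hfaith : FaithfulSMul A (integralClosure A M) :=
    (faithfulSMul_iff_algebraMap_injective A _).mpr hinjAC
  haveI htf : Module.IsTorsionFree A (integralClosure A M) := inferInstance
  haveI hflat : Module.Flat A (integralClosure A M) := inferInstance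
  haveI htower : IsScalarTower A (integralClosure A M) W :=
    IsScalarTower.of_algebraMap_eq (fun a => Subtype.ext rfl)
  haveI hliesW : (maximalIdeal W).LiesOver (maximalIdeal A) := inferInstance
  haveI hlies : Q.LiesOver (maximalIdeal A) := by
    constructor
    rw [hQdef, Ideal.under_def, Ideal.comap_comap, ← IsScalarTower.algebraMap_eq]
    exact hliesW.over
  have hp0 : maximalIdeal A ≠ ⊥ := IsDiscreteValuationRing.not_a_field A
  have H := card_inertia_eq (G := M ≃ₐ[K] M) (maximalIdeal A) hp0 Q
  rw [← ramificationIdx'_localization (W := W) Q (maximalIdeal A),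
    Field.finInsepDegree_eq_of_equiv _ _ _ (residueEquiv (W := W) Q (maximalIdeal A))] at H
  have heq := inertiaSub_eq A K M W hW
  refine ⟨?_, ?_⟩
  · haveI h1 : Module.Finite A (integralClosure A M ⧸ Q) :=
      Module.Finite.of_surjective (Ideal.Quotient.mkₐ A Q).toLinearMap
        (Ideal.Quotient.mkₐ_surjective A Q)
    haveI h2 : Module.Finite (A ⧸ maximalIdeal A) (integralClosure A M ⧸ Q) :=
      Module.Finite.of_restrictScalars_finite A (A ⧸ maximalIdeal A) (integralClosure A M ⧸ Q)
    exact Module.Finite.of_surjective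
      (residueEquiv (W := W) Q (maximalIdeal A)).toLinearEquiv.toLinearMap
      (residueEquiv (W := W) Q (maximalIdeal A)).surjective
  · rw [heq]
    exact H

include hW in
attribute [local instance] Ideal.Quotient.field in
set_option maxHeartbeats 800000 in
/-- In residue characteristic `q`, the inertia group of `W` has a normal Sylow `q`-subgroup `J`, and
the subgroups `H` with `[I : I ∩ H]` prime to `q` are exactly those containing `J`. -/
theorem exists_sylow_inertiaSub (q : ℕ) (hq : q.Prime) [CharP (ResidueField A) q] :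
    ∃ J : Subgroup (M ≃ₐ[K] M), J ≤ inertiaSub K W ∧
      ∀ H : Subgroup (M ≃ₐ[K] M), (¬ q ∣ H.relIndex (inertiaSub K W)) ↔ J ≤ H := by
  letI algAW : Algebra A W := (RingHom.codRestrict (algebraMap A M) W hW.1).toAlgebra
  haveI locW : IsLocalHom (algebraMap A W) := isLocalHom_codRestrict _ W hW
  letI algCW := algIntegralClosure W hW.1
  obtain ⟨hQ0, hloc⟩ := isLocalization_of_dominates A K M W hW
  set Q : Ideal (integralClosure A M) :=
    (maximalIdeal W).comap (algebraMap (integralClosure A M) W) with hQdef
  haveI hded : IsDedekindDomain (integralClosure A M) :=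
    IsIntegralClosure.isDedekindDomain A K M _
  haveI hfr : IsFractionRing (integralClosure A M) M :=
    IsIntegralClosure.isFractionRing_of_finite_extension A K M _
  haveI hQmax : Q.IsMaximal := Ring.DimensionLEOne.maximalOfPrime hQ0 inferInstance
  letI act := IsIntegralClosure.MulSemiringAction A K M (integralClosure A M)
  have hint : Algebra.IsIntegral A (integralClosure A M) := IsIntegralClosure.isIntegral_algebra A M
  haveI hGal : IsGaloisGroup (M ≃ₐ[K] M) A (integralClosure A M) :=
    IsGaloisGroup.of_isFractionRing _ _ _ K M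
  haveI hfaithG : FaithfulSMul (M ≃ₐ[K] M) (integralClosure A M) := hGal.faithful
  haveI htower : IsScalarTower A (integralClosure A M) W :=
    IsScalarTower.of_algebraMap_eq (fun a => Subtype.ext rfl)
  haveI hliesW : (maximalIdeal W).LiesOver (maximalIdeal A) := inferInstance
  haveI hlies : Q.LiesOver (maximalIdeal A) := by
    constructor
    rw [hQdef, Ideal.under_def, Ideal.comap_comap, ← IsScalarTower.algebraMap_eq]
    exact hliesW.over
  haveI hcharA : CharP (A ⧸ maximalIdeal A) q := ‹CharP (ResidueField A) q›
  haveI hchar : CharP (integralClosure A M ⧸ Q) q :=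
    charP_of_injective_algebraMap
      (algebraMap (A ⧸ maximalIdeal A) (integralClosure A M ⧸ Q)).injective q
  have heq := inertiaSub_eq A K M W hW
  rw [heq]
  exact exists_sylow_inertia (G := M ≃ₐ[K] M) Q hQ0 q hq

end Setup




section FixL

variable (K L M : Type u) [Field K] [Field L] [Field M] [Algebra K L] [Algebra L M] [Algebra K M]
  [IsScalarTower K L M]

/-- The subgroup of `Gal(M/K)` of automorphisms which are `L`-linear. -/
def fixL : Subgroup (M ≃ₐ[K] M) :=
  (AlgEquiv.restrictScalarsHom K : (M ≃ₐ[L] M) →* (M ≃ₐ[K] M)).range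

theorem mem_fixL (σ : M ≃ₐ[K] M) :
    σ ∈ fixL K L M ↔ ∀ x : L, σ (algebraMap L M x) = algebraMap L M x := by
  constructor
  · rintro ⟨τ, rfl⟩ x
    exact τ.commutes x
  · intro h
    refine ⟨{ σ.toRingEquiv with commutes' := h }, ?_⟩
    ext x
    rfl

theorem map_inertiaSub [Finite (M ≃ₐ[K] M)] [Finite (M ≃ₐ[L] M)] (W : ValuationSubring M) :
    (inertiaSub L W).map (AlgEquiv.restrictScalarsHom K : (M ≃ₐ[L] M) →* (M ≃ₐ[K] M)) =
      inertiaSub K W ⊓ fixL K L M := by
  ext σ
  constructor
  · rintro ⟨τ, hτ, rfl⟩
    refine ⟨?_, ⟨τ, rfl⟩⟩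
    exact (mem_inertiaSub_iff K W _).mpr ((mem_inertiaSub_iff L W τ).mp hτ)
  · rintro ⟨h1, ⟨τ, rfl⟩⟩
    refine ⟨τ, ?_, rfl⟩
    exact (mem_inertiaSub_iff L W τ).mpr ((mem_inertiaSub_iff K W _).mp h1)

theorem card_inertiaSub_inf_fixL [Finite (M ≃ₐ[K] M)] [Finite (M ≃ₐ[L] M)]
    (W : ValuationSubring M) :
    Nat.card (inertiaSub K W ⊓ fixL K L M : Subgroup (M ≃ₐ[K] M)) = Nat.card (inertiaSub L W) := by
  rw [← map_inertiaSub]
  exact Subgroup.card_map_of_injective (AlgEquiv.restrictScalarsHom_injective K)

end FixL




theorem dominates_subtype_comap {L M : Type u} [Field L] [Field M] (f : L →+* M)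
    (W : ValuationSubring M) :
    EtRam.Dominates (W.comap f) (f.comp (W.comap f).subtype) W := by
  refine ⟨fun v => v.2, fun v hv => ?_⟩
  have h1 : (W.comap f).valuation (v : L) < 1 := ((W.comap f).valuation_lt_one_iff v).mp hv
  rw [← ValuationSubring.mem_nonunits_iff] at h1 ⊢
  rw [ValuationSubring.mem_nonunits_iff_or] at h1 ⊢
  rcases h1 with h1 | h1
  · left
    show f (v : L) = 0
    simp [h1]
  · right
    intro hc
    apply h1
    show f ((v : L)⁻¹) ∈ W
    rw [map_inv₀]
    exact hc

set_option maxHeartbeats 1600000 in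
/-- The index of `I_W ∩ Gal(M/L)` in `I_W` is `e · f_insep` for the restriction of `W` to `L`. -/
theorem relIndex_fixL (A K : Type u) [CommRing A] [IsDomain A] [IsDiscreteValuationRing A] [Field K]
    [Algebra A K] [IsFractionRing A K] (L M : Type u) [Field L] [Field M]
    [Algebra K L] [Algebra K M] [Algebra L M] [IsScalarTower K L M] [FiniteDimensional K M]
    [IsGalois K M] (W : ValuationSubring M)
    (hV : EtRam.Dominates A ((algebraMap K L).comp (algebraMap A K)) (W.comap (algebraMap L M)))
    (hW : EtRam.Dominates A ((algebraMap K M).comp (algebraMap A K)) W) :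
    letI : Algebra A (W.comap (algebraMap L M)) :=
      (RingHom.codRestrict ((algebraMap K L).comp (algebraMap A K)) _ hV.1).toAlgebra
    ∀ [IsLocalHom (algebraMap A (W.comap (algebraMap L M)))],
    Module.Finite (ResidueField A) (ResidueField (W.comap (algebraMap L M))) ∧
    (fixL K L M).relIndex (inertiaSub K W) =
      Ideal.ramificationIdx' (maximalIdeal A) (maximalIdeal (W.comap (algebraMap L M))) *
      Field.finInsepDegree (ResidueField A) (ResidueField (W.comap (algebraMap L M))) := by
  intro locV
  letI algV : Algebra A (W.comap (algebraMap L M)) :=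
    (RingHom.codRestrict ((algebraMap K L).comp (algebraMap A K)) _ hV.1).toAlgebra
  letI algW : Algebra A W :=
    (RingHom.codRestrict ((algebraMap K M).comp (algebraMap A K)) W hW.1).toAlgebra
  have hVW := dominates_subtype_comap (algebraMap L M) W
  letI algVW : Algebra (W.comap (algebraMap L M)) W :=
    (RingHom.codRestrict ((algebraMap L M).comp (W.comap (algebraMap L M)).subtype) W
      hVW.1).toAlgebra
  haveI locW : IsLocalHom (algebraMap A W) := isLocalHom_codRestrict _ W hW
  haveI locVW : IsLocalHom (algebraMap (W.comap (algebraMap L M)) W) :=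
    isLocalHom_codRestrict _ W hVW
  haveI : Algebra.IsSeparable K L := Algebra.isSeparable_tower_bot_of_isSeparable K L M
  haveI : FiniteDimensional K L := FiniteDimensional.left K L M
  haveI : FiniteDimensional L M := FiniteDimensional.right K L M
  haveI : IsGalois L M := IsGalois.tower_top_of_isGalois K L M
  haveI : IsDiscreteValuationRing (W.comap (algebraMap L M)) :=
    isDiscreteValuationRing_of_dominates' A K L _ hV
  haveI : IsDiscreteValuationRing W := isDiscreteValuationRing_of_dominates' A K M _ hW
  haveI : IsScalarTower A (W.comap (algebraMap L M)) W := by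
    refine IsScalarTower.of_algebraMap_eq (fun a => ?_)
    apply Subtype.ext
    show algebraMap K M (algebraMap A K a) = algebraMap L M (algebraMap K L (algebraMap A K a))
    rw [← IsScalarTower.algebraMap_apply K L M]
  have hinjVW : Function.Injective (algebraMap (W.comap (algebraMap L M)) W) := by
    intro x y hxy
    apply Subtype.ext
    apply (algebraMap L M).injective
    exact congrArg Subtype.val hxy
  have hinjAW : Function.Injective (algebraMap A W) := by
    intro x y hxy
    have h1 : algebraMap K M (algebraMap A K x) = algebraMap K M (algebraMap A K y) :=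
      congrArg Subtype.val hxy
    exact IsFractionRing.injective A K ((algebraMap K M).injective h1)
  have hAW : (maximalIdeal A).map (algebraMap A W) ≠ ⊥ := by
    rw [Ne, Ideal.map_eq_bot_iff_of_injective hinjAW]
    exact IsDiscreteValuationRing.not_a_field A
  have htower := ramificationIdx'_tower (A := A) (V := W.comap (algebraMap L M)) (W := W)
    hinjVW hAW
  -- the formula for `M/K`
  obtain ⟨hfinW, hcardK⟩ : Module.Finite (ResidueField A) (ResidueField W) ∧
      Nat.card (inertiaSub K W) = Ideal.ramificationIdx' (maximalIdeal A) (maximalIdeal W) *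
        Field.finInsepDegree (ResidueField A) (ResidueField W) := by
    letI : Algebra A M := ((algebraMap K M).comp (algebraMap A K)).toAlgebra
    haveI : IsScalarTower A K M := IsScalarTower.of_algebraMap_eq (fun _ => rfl)
    exact card_inertiaSub A K M W hW
  -- the formula for `M/L`
  obtain ⟨hfinVW, hcardL⟩ : Module.Finite (ResidueField (W.comap (algebraMap L M))) (ResidueField W) ∧
      Nat.card (inertiaSub L W) =
        Ideal.ramificationIdx' (maximalIdeal (W.comap (algebraMap L M))) (maximalIdeal W) *
        Field.finInsepDegree (ResidueField (W.comap (algebraMap L M))) (ResidueField W) := by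
    letI : Algebra (W.comap (algebraMap L M)) M :=
      ((algebraMap L M).comp (W.comap (algebraMap L M)).subtype).toAlgebra
    haveI : IsScalarTower (W.comap (algebraMap L M)) L M :=
      IsScalarTower.of_algebraMap_eq (fun _ => rfl)
    exact card_inertiaSub (W.comap (algebraMap L M)) L M W hVW
  -- residue field tower
  haveI hfinV : Module.Finite (ResidueField A) (ResidueField (W.comap (algebraMap L M))) :=
    FiniteDimensional.of_injective
      (IsScalarTower.toAlgHom (ResidueField A) (ResidueField (W.comap (algebraMap L M)))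
        (ResidueField W)).toLinearMap
      (algebraMap (ResidueField (W.comap (algebraMap L M))) (ResidueField W)).injective
  have hins := Field.finInsepDegree_mul_finInsepDegree_of_isAlgebraic (ResidueField A)
    (ResidueField (W.comap (algebraMap L M))) (ResidueField W)
  refine ⟨hfinV, ?_⟩
  haveI : Finite (M ≃ₐ[K] M) := inferInstance
  haveI : Finite (M ≃ₐ[L] M) := inferInstance
  have hc := card_inertiaSub_inf_fixL K L M W
  rw [hcardL] at hc
  -- card I = relIndex * card (I ⊓ H)
  have h1 : (fixL K L M).relIndex (inertiaSub K W) *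
      Nat.card (inertiaSub K W ⊓ fixL K L M : Subgroup (M ≃ₐ[K] M)) = Nat.card (inertiaSub K W) := by
    rw [← Subgroup.inf_relIndex_right, inf_comm,
      ← Subgroup.relIndex_bot_left (inertiaSub K W ⊓ fixL K L M),
      ← Subgroup.relIndex_bot_left (inertiaSub K W), mul_comm]
    exact Subgroup.relIndex_mul_relIndex _ _ _ bot_le inf_le_left
  rw [hc, hcardK, htower, ← hins] at h1
  have hpos : Ideal.ramificationIdx' (maximalIdeal (W.comap (algebraMap L M))) (maximalIdeal W) *
      Field.finInsepDegree (ResidueField (W.comap (algebraMap L M))) (ResidueField W) ≠ 0 := by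
    rw [← hcardL]
    exact Nat.card_pos.ne'
  have h2 : (fixL K L M).relIndex (inertiaSub K W) *
      (Ideal.ramificationIdx' (maximalIdeal (W.comap (algebraMap L M))) (maximalIdeal W) *
      Field.finInsepDegree (ResidueField (W.comap (algebraMap L M))) (ResidueField W)) =
      (Ideal.ramificationIdx' (maximalIdeal A) (maximalIdeal (W.comap (algebraMap L M))) *
      Field.finInsepDegree (ResidueField A) (ResidueField (W.comap (algebraMap L M)))) *
      (Ideal.ramificationIdx' (maximalIdeal (W.comap (algebraMap L M))) (maximalIdeal W) *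
      Field.finInsepDegree (ResidueField (W.comap (algebraMap L M))) (ResidueField W)) := by
    rw [h1]; ring
  exact Nat.eq_of_mul_eq_mul_right (Nat.pos_of_ne_zero hpos) h2




section Crit

variable (A K : Type u) [CommRing A] [IsDomain A] [IsDiscreteValuationRing A] [Field K]
    [Algebra A K] [IsFractionRing A K] (L M : Type u) [Field L] [Field M]
    [Algebra K L] [Algebra K M] [Algebra L M] [IsScalarTower K L M] [FiniteDimensional K M]
    [IsGalois K M]

/-- Unramifiedness at the restriction of `W` to `L`, in terms of the inertia group. -/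
theorem unramified_at_iff (W : ValuationSubring M)
    (hV : EtRam.Dominates A ((algebraMap K L).comp (algebraMap A K)) (W.comap (algebraMap L M)))
    (hW : EtRam.Dominates A ((algebraMap K M).comp (algebraMap A K)) W) :
    letI : Algebra A (W.comap (algebraMap L M)) :=
      (RingHom.codRestrict ((algebraMap K L).comp (algebraMap A K)) _ hV.1).toAlgebra
    ∀ [IsLocalHom (algebraMap A (W.comap (algebraMap L M)))],
    (EtRam.IsWeaklyUnramified A (W.comap (algebraMap L M)) ∧
      Algebra.IsSeparable (ResidueField A) (ResidueField (W.comap (algebraMap L M)))) ↔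
    inertiaSub K W ≤ fixL K L M := by
  intro locV
  letI algV : Algebra A (W.comap (algebraMap L M)) :=
    (RingHom.codRestrict ((algebraMap K L).comp (algebraMap A K)) _ hV.1).toAlgebra
  obtain ⟨hfin, hrel⟩ := relIndex_fixL A K L M W hV hW
  haveI : Algebra.IsSeparable K L := Algebra.isSeparable_tower_bot_of_isSeparable K L M
  haveI : FiniteDimensional K L := FiniteDimensional.left K L M
  haveI : IsDiscreteValuationRing (W.comap (algebraMap L M)) :=
    isDiscreteValuationRing_of_dominates' A K L _ hV
  have hinjAV : Function.Injective (algebraMap A (W.comap (algebraMap L M))) := by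
    intro x y hxy
    have h1 : algebraMap K L (algebraMap A K x) = algebraMap K L (algebraMap A K y) :=
      congrArg Subtype.val hxy
    exact IsFractionRing.injective A K ((algebraMap K L).injective h1)
  have hAV : (maximalIdeal A).map (algebraMap A (W.comap (algebraMap L M))) ≠ ⊥ := by
    rw [Ne, Ideal.map_eq_bot_iff_of_injective hinjAV]
    exact IsDiscreteValuationRing.not_a_field A
  rw [← Subgroup.relIndex_eq_one, hrel, isWeaklyUnramified_iff hAV,
    isSeparable_iff_finInsepDegree_eq_one]
  constructor
  · rintro ⟨h1, h2⟩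
    rw [h1, h2]
  · intro h
    exact ⟨Nat.eq_one_of_mul_eq_one_right h, Nat.eq_one_of_mul_eq_one_left h⟩

/-- Tameness at the restriction of `W` to `L`, in terms of the inertia group. -/
theorem tame_at_iff (W : ValuationSubring M)
    (hV : EtRam.Dominates A ((algebraMap K L).comp (algebraMap A K)) (W.comap (algebraMap L M)))
    (hW : EtRam.Dominates A ((algebraMap K M).comp (algebraMap A K)) W) :
    letI : Algebra A (W.comap (algebraMap L M)) :=
      (RingHom.codRestrict ((algebraMap K L).comp (algebraMap A K)) _ hV.1).toAlgebra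
    ∀ [IsLocalHom (algebraMap A (W.comap (algebraMap L M)))],
    (Algebra.IsSeparable (ResidueField A) (ResidueField (W.comap (algebraMap L M))) ∧
      ∀ p : ℕ, p.Prime → CharP (ResidueField A) p →
        ¬ p ∣ Ideal.ramificationIdx' (maximalIdeal A) (maximalIdeal (W.comap (algebraMap L M)))) ↔
    ∀ p : ℕ, p.Prime → CharP (ResidueField A) p → ¬ p ∣ (fixL K L M).relIndex (inertiaSub K W) := by
  intro locV
  letI algV : Algebra A (W.comap (algebraMap L M)) :=
    (RingHom.codRestrict ((algebraMap K L).comp (algebraMap A K)) _ hV.1).toAlgebra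
  obtain ⟨hfin, hrel⟩ := relIndex_fixL A K L M W hV hW
  rw [hrel]
  constructor
  · rintro ⟨hsep, hp⟩ p hpp hchar
    rw [(isSeparable_iff_finInsepDegree_eq_one _ _).mp hsep, mul_one]
    exact hp p hpp hchar
  · intro h
    constructor
    · -- separability
      obtain ⟨q, hq⟩ := ExpChar.exists (ResidueField A)
      rcases hq with _ | ⟨hqp⟩
      · -- characteristic zero
        exact Algebra.IsSeparable.of_integral _ _
      · rename_i hchar
        haveI : ExpChar (ResidueField A) q := ExpChar.prime hqp
        obtain ⟨n, hn⟩ := finInsepDegree_eq_pow (ResidueField A)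
          (ResidueField (W.comap (algebraMap L M))) q
        rw [isSeparable_iff_finInsepDegree_eq_one, hn]
        have := h q hqp hchar
        rw [hn] at this
        rcases Nat.eq_zero_or_pos n with h0 | h0
        · rw [h0, pow_zero]
        · exact absurd (Dvd.dvd.mul_left (dvd_pow_self q h0.ne') _) this
    · intro p hpp hchar hdvd
      exact h p hpp hchar (Dvd.dvd.mul_right hdvd _)

end Crit




section Crit

variable (A K : Type u) [CommRing A] [IsDomain A] [IsDiscreteValuationRing A] [Field K]
    [Algebra A K] [IsFractionRing A K] (L M : Type u) [Field L] [Field M]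
    [Algebra K L] [Algebra K M] [Algebra L M] [IsScalarTower K L M] [FiniteDimensional K M]
    [IsGalois K M]

omit [FiniteDimensional K M] [IsGalois K M] [IsDomain A] [IsDiscreteValuationRing A]
  [IsFractionRing A K] in
theorem comp_eq : (algebraMap K M).comp (algebraMap A K) =
    (algebraMap L M).comp ((algebraMap K L).comp (algebraMap A K)) := by
  ext a
  simp [← IsScalarTower.algebraMap_apply K L M]

theorem isUnramifiedExt_iff :
    EtRam.IsUnramifiedExt A ((algebraMap K L).comp (algebraMap A K)) ↔
    ∀ W : ValuationSubring M, EtRam.Dominates A ((algebraMap K M).comp (algebraMap A K)) W →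
      inertiaSub K W ≤ fixL K L M := by
  constructor
  · intro h W hW
    have hV : EtRam.Dominates A ((algebraMap K L).comp (algebraMap A K))
        (W.comap (algebraMap L M)) := by
      apply dominates_comap
      rw [← comp_eq A K L M]; exact hW
    have hlocV := isLocalHom_codRestrict _ _ hV
    have h1 := @h _ hV hlocV
    exact (@unramified_at_iff A K _ _ _ _ _ _ L M _ _ _ _ _ _ _ _ W hV hW hlocV).mp h1
  · intro h V hV locV
    obtain ⟨W, rfl⟩ := exists_comap_eq (algebraMap L M) V
    have hW : EtRam.Dominates A ((algebraMap K M).comp (algebraMap A K)) W := by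
      rw [comp_eq A K L M]; exact dominates_of_comap _ _ W hV
    exact (@unramified_at_iff A K _ _ _ _ _ _ L M _ _ _ _ _ _ _ _ W hV hW locV).mpr (h W hW)

theorem isTamelyRamified_iff :
    EtRam.IsTamelyRamified A ((algebraMap K L).comp (algebraMap A K)) ↔
    ∀ W : ValuationSubring M, EtRam.Dominates A ((algebraMap K M).comp (algebraMap A K)) W →
      ∀ p : ℕ, p.Prime → CharP (ResidueField A) p →
        ¬ p ∣ (fixL K L M).relIndex (inertiaSub K W) := by
  constructor
  · intro h W hW
    have hV : EtRam.Dominates A ((algebraMap K L).comp (algebraMap A K))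
        (W.comap (algebraMap L M)) := by
      apply dominates_comap
      rw [← comp_eq A K L M]; exact hW
    have hlocV := isLocalHom_codRestrict _ _ hV
    have h1 := @h _ hV hlocV
    exact (@tame_at_iff A K _ _ _ _ _ _ L M _ _ _ _ _ _ _ _ W hV hW hlocV).mp h1
  · intro h V hV locV
    obtain ⟨W, rfl⟩ := exists_comap_eq (algebraMap L M) V
    have hW : EtRam.Dominates A ((algebraMap K M).comp (algebraMap A K)) W := by
      rw [comp_eq A K L M]; exact dominates_of_comap _ _ W hV
    exact (@tame_at_iff A K _ _ _ _ _ _ L M _ _ _ _ _ _ _ _ W hV hW locV).mpr (h W hW)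

end Crit




section Conj

variable {K M : Type u} [Field K] [Field M] [Algebra K M]

/-- The translate `b(W)` of a valuation subring. -/
def translate (b : M ≃ₐ[K] M) (W : ValuationSubring M) : ValuationSubring M :=
  W.comap (b.symm : M ≃ₐ[K] M).toAlgHom.toRingHom

theorem mem_translate (b : M ≃ₐ[K] M) (W : ValuationSubring M) (x : M) :
    x ∈ translate b W ↔ b.symm x ∈ W := Iff.rfl

theorem mem_nonunits_translate (b : M ≃ₐ[K] M) (W : ValuationSubring M) (x : M) :
    x ∈ (translate b W).nonunits ↔ b.symm x ∈ W.nonunits := by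
  rw [ValuationSubring.mem_nonunits_iff_or, ValuationSubring.mem_nonunits_iff_or, mem_translate,
    map_inv₀]
  constructor
  · rintro (h | h)
    · left; rw [h, map_zero]
    · right; exact h
  · rintro (h | h)
    · left; exact (map_eq_zero_iff _ b.symm.injective).mp h
    · right; exact h

theorem isInertial_translate (b a : M ≃ₐ[K] M) (W : ValuationSubring M) :
    IsInertial (translate b W) (b * a * b⁻¹ : M ≃ₐ[K] M) ↔ IsInertial W a := by
  constructor
  · intro h x hx
    have h1 := h (b x) (by rw [mem_translate]; simpa using hx)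
    rw [mem_nonunits_translate] at h1
    have e : b.symm ((b * a * b⁻¹ : M ≃ₐ[K] M) (b x) - b x) = a x - x := by
      rw [map_sub, AlgEquiv.mul_apply, AlgEquiv.mul_apply]
      have : (b⁻¹ : M ≃ₐ[K] M) (b x) = x := b.symm_apply_apply x
      rw [this, AlgEquiv.symm_apply_apply, AlgEquiv.symm_apply_apply]
    rwa [e] at h1
  · intro h x hx
    rw [mem_translate] at hx
    have h1 := h (b.symm x) hx
    rw [mem_nonunits_translate]
    have e : b.symm ((b * a * b⁻¹ : M ≃ₐ[K] M) x - x) = a (b.symm x) - b.symm x := by
      rw [map_sub, AlgEquiv.mul_apply, AlgEquiv.mul_apply, AlgEquiv.symm_apply_apply]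
      rfl
    rwa [e]

theorem inertiaSub_translate [Finite (M ≃ₐ[K] M)] (b : M ≃ₐ[K] M) (W : ValuationSubring M) :
    inertiaSub K (translate b W) = (inertiaSub K W).map (MulAut.conj b).toMonoidHom := by
  ext σ
  rw [mem_inertiaSub_iff, Subgroup.mem_map]
  constructor
  · intro h
    refine ⟨b⁻¹ * σ * b, ?_, ?_⟩
    · rw [mem_inertiaSub_iff, ← isInertial_translate b]
      have : b * (b⁻¹ * σ * b) * b⁻¹ = σ := by group
      rwa [this]
    · show b * (b⁻¹ * σ * b) * b⁻¹ = σ
      group
  · rintro ⟨a, ha, rfl⟩
    rw [mem_inertiaSub_iff] at ha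
    exact (isInertial_translate b a W).mpr ha

theorem dominates_translate {A : Type u} [CommRing A] [IsLocalRing A] (g : A →+* K)
    (b : M ≃ₐ[K] M) (W : ValuationSubring M)
    (h : EtRam.Dominates A ((algebraMap K M).comp g) W) :
    EtRam.Dominates A ((algebraMap K M).comp g) (translate b W) := by
  have hb : ∀ a : A, b.symm (algebraMap K M (g a)) = algebraMap K M (g a) :=
    fun a => b.symm.commutes (g a)
  refine ⟨fun a => ?_, fun a ha => ?_⟩
  · rw [mem_translate]
    show b.symm (algebraMap K M (g a)) ∈ W
    rw [hb]; exact h.1 a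
  · rw [← ValuationSubring.mem_nonunits_iff, mem_nonunits_translate]
    show b.symm (algebraMap K M (g a)) ∈ W.nonunits
    rw [hb, ValuationSubring.mem_nonunits_iff]
    exact h.2 a ha

end Conj




section Closure

variable (A K : Type u) [CommRing A] [IsDomain A] [IsDiscreteValuationRing A] [Field K]
    [Algebra A K] [IsFractionRing A K] (M : Type u) [Field M]
    [Algebra K M] [FiniteDimensional K M] [IsGalois K M]

/-- `fixL` for an intermediate field is its fixing subgroup. -/
theorem fixL_intermediateField (F : IntermediateField K M) :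
    fixL K F M = F.fixingSubgroup := by
  ext σ
  rw [mem_fixL, IntermediateField.mem_fixingSubgroup_iff]
  constructor
  · intro h x hx
    exact h ⟨x, hx⟩
  · intro h x
    exact h x x.2

theorem fixL_fixedField (N : Subgroup (M ≃ₐ[K] M)) :
    fixL K (IntermediateField.fixedField N) M = N := by
  rw [fixL_intermediateField, IntermediateField.fixingSubgroup_fixedField]

/-- Unramified: passing to the fixed field of a subgroup containing all inertia groups. -/
theorem unramified_fixedField (N : Subgroup (M ≃ₐ[K] M))
    (h : ∀ W : ValuationSubring M, EtRam.Dominates A ((algebraMap K M).comp (algebraMap A K)) W →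
      inertiaSub K W ≤ N) :
    EtRam.IsUnramifiedExt A ((algebraMap K (IntermediateField.fixedField N)).comp (algebraMap A K)) := by
  rw [isUnramifiedExt_iff A K (IntermediateField.fixedField N) M, fixL_fixedField]
  exact h

/-- Tame: passing to the fixed field of a subgroup. -/
theorem tame_fixedField (N : Subgroup (M ≃ₐ[K] M))
    (h : ∀ W : ValuationSubring M, EtRam.Dominates A ((algebraMap K M).comp (algebraMap A K)) W →
      ∀ p : ℕ, p.Prime → CharP (ResidueField A) p → ¬ p ∣ N.relIndex (inertiaSub K W)) :
    EtRam.IsTamelyRamified A ((algebraMap K (IntermediateField.fixedField N)).comp (algebraMap A K)) := by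
  rw [isTamelyRamified_iff A K (IntermediateField.fixedField N) M, fixL_fixedField]
  exact h

/-- The Sylow subgroup at the level of `Dominates A ((algebraMap K M).comp (algebraMap A K)) W`. -/
theorem exists_sylow (W : ValuationSubring M)
    (hW : EtRam.Dominates A ((algebraMap K M).comp (algebraMap A K)) W) (q : ℕ) (hq : q.Prime)
    [CharP (ResidueField A) q] :
    ∃ J : Subgroup (M ≃ₐ[K] M), J ≤ inertiaSub K W ∧
      ∀ H : Subgroup (M ≃ₐ[K] M), (¬ q ∣ H.relIndex (inertiaSub K W)) ↔ J ≤ H := by
  letI : Algebra A M := ((algebraMap K M).comp (algebraMap A K)).toAlgebra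
  haveI : IsScalarTower A K M := IsScalarTower.of_algebraMap_eq (fun _ => rfl)
  exact exists_sylow_inertiaSub A K M W hW q hq

variable {A K M}

/-- The good subgroups for the unramified condition are stable under normal cores. -/
theorem unramified_normalCore (H : Subgroup (M ≃ₐ[K] M))
    (h : ∀ W : ValuationSubring M, EtRam.Dominates A ((algebraMap K M).comp (algebraMap A K)) W →
      inertiaSub K W ≤ H) :
    ∀ W : ValuationSubring M, EtRam.Dominates A ((algebraMap K M).comp (algebraMap A K)) W →
      inertiaSub K W ≤ H.normalCore := by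
  intro W hW a ha b
  have h1 := h (translate b W) (dominates_translate _ b W hW)
  rw [inertiaSub_translate] at h1
  exact h1 ⟨a, ha, rfl⟩

/-- The good subgroups for the tame condition are stable under normal cores. -/
theorem tame_normalCore (H : Subgroup (M ≃ₐ[K] M))
    (h : ∀ W : ValuationSubring M, EtRam.Dominates A ((algebraMap K M).comp (algebraMap A K)) W →
      ∀ p : ℕ, p.Prime → CharP (ResidueField A) p → ¬ p ∣ H.relIndex (inertiaSub K W)) :
    ∀ W : ValuationSubring M, EtRam.Dominates A ((algebraMap K M).comp (algebraMap A K)) W →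
      ∀ p : ℕ, p.Prime → CharP (ResidueField A) p →
        ¬ p ∣ H.normalCore.relIndex (inertiaSub K W) := by
  intro W hW p hp hchar
  obtain ⟨J, -, hJ⟩ := exists_sylow A K M W hW p hp
  rw [hJ]
  intro j hj b
  -- `J ≤ b⁻¹ H b`
  have h1 := h (translate b W) (dominates_translate _ b W hW) p hp hchar
  rw [inertiaSub_translate] at h1
  have h2 : (H.map (MulAut.conj b⁻¹).toMonoidHom).relIndex (inertiaSub K W) =
      H.relIndex ((inertiaSub K W).map (MulAut.conj b).toMonoidHom) := by
    have e1 : inertiaSub K W =
        ((inertiaSub K W).map (MulAut.conj b).toMonoidHom).map (MulAut.conj b⁻¹).toMonoidHom := by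
      rw [Subgroup.map_map]
      have : (MulAut.conj b⁻¹).toMonoidHom.comp (MulAut.conj b).toMonoidHom =
          MonoidHom.id _ := by
        refine MonoidHom.ext fun x => ?_
        show (b⁻¹ * (b * x * b⁻¹) * b⁻¹⁻¹ : M ≃ₐ[K] M) = x
        group
      rw [this, Subgroup.map_id]
    conv_lhs => rw [e1]
    exact Subgroup.relIndex_map_map_of_injective _ _ (MulAut.conj b⁻¹).injective
  rw [← h2, hJ] at h1
  obtain ⟨x, hx, hxj⟩ := h1 hj
  have : x = b * j * b⁻¹ := by
    have : b⁻¹ * x * b⁻¹⁻¹ = j := hxj
    rw [← this]; group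
  rw [← this]
  exact hx

/-- The good subgroups for the tame condition are stable under intersections. -/
theorem tame_inf (H₁ H₂ : Subgroup (M ≃ₐ[K] M))
    (h₁ : ∀ W : ValuationSubring M, EtRam.Dominates A ((algebraMap K M).comp (algebraMap A K)) W →
      ∀ p : ℕ, p.Prime → CharP (ResidueField A) p → ¬ p ∣ H₁.relIndex (inertiaSub K W))
    (h₂ : ∀ W : ValuationSubring M, EtRam.Dominates A ((algebraMap K M).comp (algebraMap A K)) W →
      ∀ p : ℕ, p.Prime → CharP (ResidueField A) p → ¬ p ∣ H₂.relIndex (inertiaSub K W)) :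
    ∀ W : ValuationSubring M, EtRam.Dominates A ((algebraMap K M).comp (algebraMap A K)) W →
      ∀ p : ℕ, p.Prime → CharP (ResidueField A) p →
        ¬ p ∣ (H₁ ⊓ H₂).relIndex (inertiaSub K W) := by
  intro W hW p hp hchar
  obtain ⟨J, -, hJ⟩ := exists_sylow A K M W hW p hp
  have e1 := h₁ W hW p hp hchar
  have e2 := h₂ W hW p hp hchar
  rw [hJ] at e1 e2 ⊢
  exact le_inf e1 e2

end Closure




section Final

/-- An extension `L` of `K` inside `M` lands in the fixed field of any subgroup of `fixL`. -/
noncomputable def algHomFixedField (K L M : Type u) [Field K] [Field L] [Field M] [Algebra K L]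
    [Algebra L M] [Algebra K M] [IsScalarTower K L M] (N : Subgroup (M ≃ₐ[K] M))
    (hN : N ≤ fixL K L M) : L →ₐ[K] IntermediateField.fixedField N :=
  (IsScalarTower.toAlgHom K L M).codRestrict (IntermediateField.fixedField N).toSubalgebra
    (fun x σ => (mem_fixL K L M σ.1).mp (hN σ.2) x)

variable (A K : Type u) [CommRing A] [IsDomain A] [IsDiscreteValuationRing A] [Field K]
    [Algebra A K] [IsFractionRing A K]

/-- Every finite separable extension embeds into a finite Galois extension, with the algebra
structures in place. -/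
theorem exists_galois_over (L : Type u) [Field L] [Algebra K L] [FiniteDimensional K L]
    [Algebra.IsSeparable K L] :
    ∃ (M : Type u) (_ : Field M) (_ : Algebra K M) (_ : FiniteDimensional K M) (_ : IsGalois K M)
      (_ : Algebra L M), IsScalarTower K L M := by
  let φ : L →ₐ[K] SeparableClosure K := IsSepClosed.lift
  letI : Algebra L (SeparableClosure K) := φ.toRingHom.toAlgebra
  haveI : IsScalarTower K L (SeparableClosure K) :=
    IsScalarTower.of_algebraMap_eq (fun x => (φ.commutes x).symm)
  exact ⟨IntermediateField.normalClosure K L (SeparableClosure K), inferInstance, inferInstance,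
    inferInstance, inferInstance, inferInstance, inferInstance⟩

theorem exists_galois_unramified (L : Type u) [Field L] [Algebra K L] [FiniteDimensional K L]
    [Algebra.IsSeparable K L]
    (hL : EtRam.IsUnramifiedExt A ((algebraMap K L).comp (algebraMap A K))) :
    ∃ (M : Type u) (_ : Field M) (_ : Algebra K M) (_ : FiniteDimensional K M) (_ : IsGalois K M)
      (_ : L →ₐ[K] M), EtRam.IsUnramifiedExt A ((algebraMap K M).comp (algebraMap A K)) := by
  obtain ⟨M, _, _, _, _, _, _⟩ := exists_galois_over K L
  have h1 := (isUnramifiedExt_iff A K L M).mp hL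
  have h2 := unramified_normalCore (fixL K L M) h1
  have h3 := unramified_fixedField A K M _ h2
  exact ⟨IntermediateField.fixedField (fixL K L M).normalCore, inferInstance, inferInstance,
    inferInstance, IsGalois.of_fixedField_normal_subgroup _,
    algHomFixedField K L M _ (Subgroup.normalCore_le _), h3⟩

theorem exists_galois_tame (L : Type u) [Field L] [Algebra K L] [FiniteDimensional K L]
    [Algebra.IsSeparable K L]
    (hL : EtRam.IsTamelyRamified A ((algebraMap K L).comp (algebraMap A K))) :
    ∃ (M : Type u) (_ : Field M) (_ : Algebra K M) (_ : FiniteDimensional K M) (_ : IsGalois K M)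
      (_ : L →ₐ[K] M), EtRam.IsTamelyRamified A ((algebraMap K M).comp (algebraMap A K)) := by
  obtain ⟨M, _, _, _, _, _, _⟩ := exists_galois_over K L
  have h1 := (isTamelyRamified_iff A K L M).mp hL
  have h2 := tame_normalCore (fixL K L M) h1
  have h3 := tame_fixedField A K M _ h2
  exact ⟨IntermediateField.fixedField (fixL K L M).normalCore, inferInstance, inferInstance,
    inferInstance, IsGalois.of_fixedField_normal_subgroup _,
    algHomFixedField K L M _ (Subgroup.normalCore_le _), h3⟩

end Final




section Final2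

variable (A K : Type u) [CommRing A] [IsDomain A] [IsDiscreteValuationRing A] [Field K]
    [Algebra A K] [IsFractionRing A K]

theorem exists_galois_over₂ (L₁ L₂ : Type u) [Field L₁] [Field L₂] [Algebra K L₁] [Algebra K L₂]
    [FiniteDimensional K L₁] [FiniteDimensional K L₂]
    [Algebra.IsSeparable K L₁] [Algebra.IsSeparable K L₂] :
    ∃ (M : Type u) (_ : Field M) (_ : Algebra K M) (_ : FiniteDimensional K M) (_ : IsGalois K M)
      (_ : Algebra L₁ M) (_ : Algebra L₂ M), IsScalarTower K L₁ M ∧ IsScalarTower K L₂ M := by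
  let φ₁ : L₁ →ₐ[K] SeparableClosure K := IsSepClosed.lift
  let φ₂ : L₂ →ₐ[K] SeparableClosure K := IsSepClosed.lift
  let E : IntermediateField K (SeparableClosure K) :=
    IntermediateField.normalClosure K L₁ (SeparableClosure K) ⊔
      IntermediateField.normalClosure K L₂ (SeparableClosure K)
  haveI : Normal K E := IntermediateField.normal_sup K (SeparableClosure K) _ _
  haveI : Algebra.IsSeparable K E :=
    Algebra.isSeparable_tower_bot_of_isSeparable K E (SeparableClosure K)
  haveI : IsGalois K E := ⟨⟩
  haveI : FiniteDimensional K E := IntermediateField.finiteDimensional_sup _ _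
  let ψ₁ : L₁ →ₐ[K] E := φ₁.codRestrict E.toSubalgebra
    (fun x => le_sup_left (a := IntermediateField.normalClosure K L₁ (SeparableClosure K))
      (φ₁.fieldRange_le_normalClosure ⟨x, rfl⟩))
  let ψ₂ : L₂ →ₐ[K] E := φ₂.codRestrict E.toSubalgebra
    (fun x => le_sup_right (b := IntermediateField.normalClosure K L₂ (SeparableClosure K))
      (φ₂.fieldRange_le_normalClosure ⟨x, rfl⟩))
  refine ⟨E, inferInstance, inferInstance, inferInstance, inferInstance,
    ψ₁.toRingHom.toAlgebra, ψ₂.toRingHom.toAlgebra, ?_, ?_⟩
  · letI : Algebra L₁ E := ψ₁.toRingHom.toAlgebra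
    exact IsScalarTower.of_algebraMap_eq (fun x => (ψ₁.commutes x).symm)
  · letI : Algebra L₂ E := ψ₂.toRingHom.toAlgebra
    exact IsScalarTower.of_algebraMap_eq (fun x => (ψ₂.commutes x).symm)

theorem exists_common_unramified (L₁ L₂ : Type u) [Field L₁] [Field L₂] [Algebra K L₁] [Algebra K L₂]
    [FiniteDimensional K L₁] [FiniteDimensional K L₂]
    [Algebra.IsSeparable K L₁] [Algebra.IsSeparable K L₂]
    (h₁ : EtRam.IsUnramifiedExt A ((algebraMap K L₁).comp (algebraMap A K)))
    (h₂ : EtRam.IsUnramifiedExt A ((algebraMap K L₂).comp (algebraMap A K))) :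
    ∃ (M : Type u) (_ : Field M) (_ : Algebra K M) (_ : FiniteDimensional K M)
      (_ : Algebra.IsSeparable K M) (_ : L₁ →ₐ[K] M) (_ : L₂ →ₐ[K] M),
      EtRam.IsUnramifiedExt A ((algebraMap K M).comp (algebraMap A K)) := by
  obtain ⟨M, _, _, _, _, _, _, _, _⟩ := exists_galois_over₂ K L₁ L₂
  have e₁ := (isUnramifiedExt_iff A K L₁ M).mp h₁
  have e₂ := (isUnramifiedExt_iff A K L₂ M).mp h₂
  have h3 := unramified_fixedField A K M (fixL K L₁ M ⊓ fixL K L₂ M)
    (fun W hW => le_inf (e₁ W hW) (e₂ W hW))
  exact ⟨IntermediateField.fixedField (fixL K L₁ M ⊓ fixL K L₂ M), inferInstance, inferInstance,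
    inferInstance, Algebra.isSeparable_tower_bot_of_isSeparable K _ M,
    algHomFixedField K L₁ M _ inf_le_left, algHomFixedField K L₂ M _ inf_le_right, h3⟩

theorem exists_common_tame (L₁ L₂ : Type u) [Field L₁] [Field L₂] [Algebra K L₁] [Algebra K L₂]
    [FiniteDimensional K L₁] [FiniteDimensional K L₂]
    [Algebra.IsSeparable K L₁] [Algebra.IsSeparable K L₂]
    (h₁ : EtRam.IsTamelyRamified A ((algebraMap K L₁).comp (algebraMap A K)))
    (h₂ : EtRam.IsTamelyRamified A ((algebraMap K L₂).comp (algebraMap A K))) :
    ∃ (M : Type u) (_ : Field M) (_ : Algebra K M) (_ : FiniteDimensional K M)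
      (_ : Algebra.IsSeparable K M) (_ : L₁ →ₐ[K] M) (_ : L₂ →ₐ[K] M),
      EtRam.IsTamelyRamified A ((algebraMap K M).comp (algebraMap A K)) := by
  obtain ⟨M, _, _, _, _, _, _, _, _⟩ := exists_galois_over₂ K L₁ L₂
  have e₁ := (isTamelyRamified_iff A K L₁ M).mp h₁
  have e₂ := (isTamelyRamified_iff A K L₂ M).mp h₂
  have h3 := tame_fixedField A K M (fixL K L₁ M ⊓ fixL K L₂ M) (tame_inf _ _ e₁ e₂)
  exact ⟨IntermediateField.fixedField (fixL K L₁ M ⊓ fixL K L₂ M), inferInstance, inferInstance,
    inferInstance, Algebra.isSeparable_tower_bot_of_isSeparable K _ M,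
    algHomFixedField K L₁ M _ inf_le_left, algHomFixedField K L₂ M _ inf_le_right, h3⟩

end Final2

end Groth.Agent.Lib.R2H1.EtRamGal
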