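import Mathlib
import Groth.Agent.Lib.R2H1EtRamGal
import Groth.Agent.Lib.R2H1EtRamAbh

/-!
# Ramification of Artin–Schreier extensions of the fraction field of a DVR (helper1, round 2)

`A` a DVR with fraction field `K` of characteristic `p`, `L = K(z)`, `z^p - z = ξ`.

* `isGalois`, `finrank_eq_one_or`: `L/K` is Galois of degree `1` or `p`.
* `efg`: the fundamental identity `g · e · f = [M : K]` at a valuation subring dominating `A` in a
  finite Galois extension, with uniqueness of the dominating valuation subring when `g = 1`.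
* `exists_dominates`: a local ring mapping to a field is dominated by a valuation subring.
* `caseA_global`, `caseB_global`, `caseC_global`, `general`, `main`: the classification of the
  ramification behaviour (unramified / totally ramified / weakly unramified with purely
  inseparable residue extension).
-/

set_option autoImplicit false
set_option linter.style.haveILetI false
set_option linter.unusedSectionVars false
universe u

namespace Groth.Agent.Lib.R2H1.EtRamAS

section Part1

open Polynomial IsLocalRing

section Field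

variable {p : ℕ} [hp : Fact p.Prime] {K L : Type u} [Field K] [Field L] [Algebra K L] [CharP K p]

theorem charP_L (K : Type u) {L : Type u} [Field K] [Field L] [Algebra K L] (p : ℕ) [CharP K p] :
    CharP L p :=
  charP_of_injective_algebraMap (algebraMap K L).injective p

theorem natCast_pow_char (R : Type*) [CommRing R] (p : ℕ) [Fact p.Prime] [CharP R p] (i : ℕ) :
    ((i : R)) ^ p = i := by
  induction i with
  | zero => simp [(Fact.out : p.Prime).ne_zero]
  | succ n ih => rw [Nat.cast_succ, add_pow_char, ih, one_pow]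

/-- The Artin–Schreier polynomial. -/
noncomputable def asPoly (p : ℕ) {K : Type u} [Field K] (ξ : K) : K[X] := X ^ p - X - C ξ

theorem asPoly_natDegree (ξ : K) : (asPoly p ξ).natDegree = p := by
  have h2 : 2 ≤ p := hp.out.two_le
  unfold asPoly
  rw [sub_sub]
  have h1 : (X + C ξ : K[X]).natDegree < (X ^ p : K[X]).natDegree := by
    rw [natDegree_X_pow]
    refine lt_of_le_of_lt (natDegree_add_le _ _) ?_
    rw [natDegree_X, natDegree_C]
    simp only [zero_le, sup_of_le_left]
    omega
  rw [natDegree_sub_eq_left_of_natDegree_lt h1, natDegree_X_pow]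

theorem asPoly_monic (ξ : K) : (asPoly p ξ).Monic := by
  have h2 : 2 ≤ p := hp.out.two_le
  unfold asPoly
  rw [sub_sub]
  apply Monic.sub_of_left (monic_X_pow p)
  rw [degree_X_pow]
  refine lt_of_le_of_lt (degree_add_le _ _) ?_
  refine max_lt ?_ ?_
  · rw [degree_X]; exact_mod_cast (by omega : 1 < p)
  · refine lt_of_le_of_lt degree_C_le ?_
    exact_mod_cast (by omega : 0 < p)

theorem asPoly_separable (ξ : K) : (asPoly p ξ).Separable := by
  unfold asPoly
  rw [separable_def]
  have hd : derivative (X ^ p - X - C ξ : K[X]) = -1 := by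
    rw [derivative_sub, derivative_sub, derivative_X_pow, derivative_X, derivative_C, sub_zero,
      CharP.cast_eq_zero K p, map_zero, zero_mul, zero_sub]
  rw [hd]
  exact (isCoprime_one_right).neg_right

theorem asPoly_map (ξ : K) : (asPoly p ξ).map (algebraMap K L) = asPoly p (algebraMap K L ξ) := by
  unfold asPoly
  simp

theorem asPoly_eval_add [CharP L p] (z : L) (ξ : L) (hz : z ^ p - z = ξ) (i : ℕ) :
    (asPoly p ξ).eval (z + i) = 0 := by
  unfold asPoly
  simp only [eval_sub, eval_pow, eval_X, eval_C]
  rw [add_pow_char, natCast_pow_char L p i, ← hz]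
  ring

end Field

end Part1

section Part2

open Polynomial IsLocalRing
open scoped Classical

section Field

variable {p : ℕ} [hp : Fact p.Prime] {K L : Type u} [Field K] [Field L] [Algebra K L] [CharP K p]

/-- The set of roots `z + i`. -/
noncomputable def rootFinset (p : ℕ) {L : Type u} [Field L] (z : L) : Finset L :=
  (Finset.range p).image (fun i : ℕ => z + (i : L))

theorem card_rootFinset [CharP L p] (z : L) : (rootFinset p z).card = p := by
  unfold rootFinset
  rw [Finset.card_image_of_injOn, Finset.card_range]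
  intro i hi j hj hij
  simp only [Finset.coe_range, Set.mem_Iio] at hi hj
  have : (i : L) = j := add_left_cancel hij
  exact CharP.natCast_injOn_Iio L p hi hj this

theorem rootFinset_val_le [CharP L p] (z : L) (ξ : L) (hz : z ^ p - z = ξ) :
    (rootFinset p z).val ≤ (asPoly p ξ).roots := by
  rw [Finset.val_le_iff_val_subset]
  intro y hy
  rw [Finset.mem_val] at hy
  unfold rootFinset at hy
  rw [Finset.mem_image] at hy
  obtain ⟨i, _, rfl⟩ := hy
  rw [mem_roots (asPoly_monic (p := p) ξ).ne_zero]
  exact asPoly_eval_add z ξ hz i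

theorem asPoly_roots [CharP L p] (z : L) (ξ : L) (hz : z ^ p - z = ξ) :
    (asPoly p ξ).roots = (rootFinset p z).val := by
  symm
  apply Multiset.eq_of_le_of_card_le (rootFinset_val_le z ξ hz)
  calc Multiset.card (asPoly p ξ).roots ≤ (asPoly p ξ).natDegree := card_roots' _
    _ = p := asPoly_natDegree ξ
    _ = Multiset.card (rootFinset p z).val := (card_rootFinset z).symm

theorem asPoly_splits [CharP L p] (z : L) (ξ : L) (hz : z ^ p - z = ξ) :
    (asPoly p ξ).Splits := by
  rw [splits_iff_card_roots, asPoly_roots z ξ hz, asPoly_natDegree]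
  exact card_rootFinset z

theorem exists_eq_add_of_root [CharP L p] (z : L) (ξ : L) (hz : z ^ p - z = ξ) (y : L)
    (hy : y ^ p - y = ξ) : ∃ i : ℕ, i < p ∧ y = z + i := by
  have h1 : y ∈ (asPoly p ξ).roots := by
    rw [mem_roots (asPoly_monic (p := p) ξ).ne_zero]
    unfold asPoly
    simp only [IsRoot.def, eval_sub, eval_pow, eval_X, eval_C]
    rw [hy, sub_self]
  rw [asPoly_roots z ξ hz, Finset.mem_val] at h1
  unfold rootFinset at h1
  rw [Finset.mem_image] at h1
  obtain ⟨i, hi, rfl⟩ := h1
  exact ⟨i, Finset.mem_range.mp hi, rfl⟩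

end Field

section Galois

variable {p : ℕ} [hp : Fact p.Prime] {K L : Type u} [Field K] [Field L] [Algebra K L] [CharP K p]
  (ξ : K) (z : L) (hz : z ^ p - z = algebraMap K L ξ) (hgen : IntermediateField.adjoin K {z} = ⊤)

include hz in
theorem isIntegral_z : IsIntegral K z := by
  refine ⟨asPoly p ξ, asPoly_monic ξ, ?_⟩
  unfold asPoly
  simp only [eval₂_sub, eval₂_pow, eval₂_X, eval₂_C]
  rw [hz, sub_self]

include hz hgen in
theorem adjoin_eq_top : Algebra.adjoin K {z} = ⊤ := by
  rw [← IntermediateField.adjoin_simple_toSubalgebra_of_isAlgebraic (isIntegral_z ξ z hz).isAlgebraic,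
    hgen, IntermediateField.top_toSubalgebra]

include hz hgen in
theorem finiteDimensional : FiniteDimensional K L := by
  haveI := IntermediateField.adjoin.finiteDimensional (isIntegral_z ξ z hz)
  rw [hgen] at this
  exact (IntermediateField.topEquiv (F := K) (E := L)).toLinearEquiv.finiteDimensional

include hz hgen in
theorem isSplittingField : (asPoly p ξ).IsSplittingField K L := by
  haveI := charP_L K (L := L) p
  refine ⟨?_, ?_⟩
  · rw [asPoly_map]
    exact asPoly_splits z _ hz
  · rw [eq_top_iff, ← adjoin_eq_top ξ z hz hgen]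
    apply Algebra.adjoin_mono
    rw [Set.singleton_subset_iff, mem_rootSet]
    refine ⟨(asPoly_monic (p := p) ξ).ne_zero, ?_⟩
    unfold asPoly
    simp only [map_sub, map_pow, aeval_X, aeval_C]
    rw [hz, sub_self]

include hz hgen in
theorem isGalois : IsGalois K L := by
  haveI := isSplittingField ξ z hz hgen
  exact IsGalois.of_separable_splitting_field (asPoly_separable (p := p) ξ)

include hz in
theorem exists_map_eq (σ : L ≃ₐ[K] L) : ∃ i : ℕ, i < p ∧ σ z = z + i := by
  haveI := charP_L K (L := L) p
  apply exists_eq_add_of_root z _ hz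
  rw [← map_pow, ← map_sub, hz, σ.commutes]

include hz hgen in
theorem eq_one_of_map_eq (σ : L ≃ₐ[K] L) (h : σ z = z) : σ = 1 := by
  have h1 : (σ : L →ₐ[K] L) = AlgHom.id K L := by
    apply AlgHom.ext_of_adjoin_eq_top (adjoin_eq_top ξ z hz hgen)
    intro x hx
    rw [Set.mem_singleton_iff] at hx
    subst hx
    simpa using h
  ext x
  exact congrArg (fun f : L →ₐ[K] L => f x) h1

include hz hgen in
theorem finrank_le : Module.finrank K L ≤ p := by
  have h1 := IntermediateField.adjoin.finrank (isIntegral_z ξ z hz)
  rw [hgen, IntermediateField.finrank_top'] at h1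
  rw [h1]
  have h2 : minpoly K z ∣ asPoly p ξ := by
    apply minpoly.dvd
    unfold asPoly
    simp only [map_sub, map_pow, aeval_X, aeval_C]
    rw [hz, sub_self]
  calc (minpoly K z).natDegree ≤ (asPoly p ξ).natDegree :=
        natDegree_le_of_dvd h2 (asPoly_monic (p := p) ξ).ne_zero
    _ = p := asPoly_natDegree ξ

include hz hgen in
theorem pow_p_eq_one (σ : L ≃ₐ[K] L) : σ ^ p = 1 := by
  haveI := charP_L K (L := L) p
  obtain ⟨i, _, hi⟩ := exists_map_eq ξ z hz σ
  apply eq_one_of_map_eq ξ z hz hgen
  have h1 : ∀ k : ℕ, (σ ^ k) z = z + (k * i : ℕ) := by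
    intro k
    induction k with
    | zero => simp
    | succ k ih =>
      rw [pow_succ, AlgEquiv.mul_apply, hi, map_add, ih, map_natCast]
      push_cast
      ring
  rw [h1 p]
  push_cast
  rw [CharP.cast_eq_zero L p, zero_mul, add_zero]

include hz hgen in
theorem finrank_eq_one_or : Module.finrank K L = 1 ∨ Module.finrank K L = p := by
  haveI := finiteDimensional ξ z hz hgen
  haveI := isGalois ξ z hz hgen
  have hcard := IsGalois.card_aut_eq_finrank K L
  by_cases h : ∀ σ : L ≃ₐ[K] L, σ = 1
  · left
    rw [← hcard]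
    haveI : Subsingleton (L ≃ₐ[K] L) := ⟨fun a b => by rw [h a, h b]⟩
    exact Nat.card_unique
  · right
    push Not at h
    obtain ⟨σ, hσ⟩ := h
    have h1 : orderOf σ = p := orderOf_eq_prime (pow_p_eq_one ξ z hz hgen σ) hσ
    have h2 : p ∣ Nat.card (L ≃ₐ[K] L) := by
      rw [← h1]; exact orderOf_dvd_natCard σ
    rw [hcard] at h2
    have h3 := finrank_le ξ z hz hgen
    have h4 : 0 < Module.finrank K L := Module.finrank_pos
    exact le_antisymm h3 (Nat.le_of_dvd h4 h2)

end Galois

end Part2

section Part3

open Polynomial IsLocalRing Ideal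
open Groth.Agent.Lib.R2H1.EtRam Groth.Agent.Lib.R2H1.EtRamGal
open scoped Classical

section EFG

variable (A K M : Type u) [CommRing A] [IsDomain A] [IsDiscreteValuationRing A]
    [Field K] [Algebra A K] [IsFractionRing A K] [Field M] [Algebra K M] [Algebra A M]
    [IsScalarTower A K M] [FiniteDimensional K M] [IsGalois K M]

include K in
/-- Two dominating valuation subrings with the same trace of the maximal ideal on the integral
closure are contained in each other. -/
theorem le_of_forall_nonunits (W W' : ValuationSubring M)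
    (hW : EtRam.Dominates A (algebraMap A M) W) (hW' : EtRam.Dominates A (algebraMap A M) W')
    (h : ∀ x : integralClosure A M, (x : M) ∈ W'.nonunits → (x : M) ∈ W.nonunits) :
    W ≤ W' := by
  letI algCW := algIntegralClosure W hW.1
  obtain ⟨hQ0, hloc⟩ := isLocalization_of_dominates A K M W hW
  intro y hy
  obtain ⟨⟨b, s⟩, hbs⟩ := IsLocalization.surj
    ((maximalIdeal W).comap (algebraMap (integralClosure A M) W)).primeCompl (⟨y, hy⟩ : W)
  have hbs' : y * ((s : integralClosure A M) : M) = (b : M) := congrArg Subtype.val hbs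
  have hs1 : ¬ ((s : integralClosure A M) : M) ∈ W.nonunits := by
    rw [← mem_comap_iff A M W hW]; exact s.2
  have hs2 : ¬ ((s : integralClosure A M) : M) ∈ W'.nonunits := fun h2 => hs1 (h _ h2)
  have hsW' : ((s : integralClosure A M) : M) ∈ W' :=
    integralClosure_le W' hW'.1 (s : integralClosure A M).2
  have hbW' : (b : M) ∈ W' := integralClosure_le W' hW'.1 b.2
  rw [ValuationSubring.mem_nonunits_iff] at hs2
  have hvs : W'.valuation ((s : integralClosure A M) : M) = 1 := by
    rcases W'.valuation_lt_one_or_eq_one ⟨_, hsW'⟩ with h1 | h1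
    · exact absurd h1 hs2
    · exact h1
  rw [← ValuationSubring.valuation_le_one_iff] at hbW' ⊢
  rw [← hbs', map_mul, hvs, mul_one] at hbW'
  exact hbW'

set_option maxHeartbeats 800000 in
attribute [local instance] Ideal.Quotient.field in
/-- The fundamental identity `g · e · f = [M : K]` at a dominating valuation subring, with
uniqueness of the dominating valuation subring when `g = 1`. -/
theorem efg (W : ValuationSubring M) (hW : EtRam.Dominates A (algebraMap A M) W) :
    letI : Algebra A W := (RingHom.codRestrict (algebraMap A M) W hW.1).toAlgebra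
    ∀ [IsLocalHom (algebraMap A W)],
    Module.Finite (ResidueField A) (ResidueField W) ∧
    ∃ g : ℕ, g * (Ideal.ramificationIdx' (maximalIdeal A) (maximalIdeal W) *
      Module.finrank (ResidueField A) (ResidueField W)) = Module.finrank K M ∧
      (g = 1 → ∀ W' : ValuationSubring M, EtRam.Dominates A (algebraMap A M) W' → W' = W) := by
  intro locW
  letI algAW : Algebra A W := (RingHom.codRestrict (algebraMap A M) W hW.1).toAlgebra
  letI algCW := algIntegralClosure W hW.1
  obtain ⟨hQ0, hloc⟩ := isLocalization_of_dominates A K M W hW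
  set Q : Ideal (integralClosure A M) :=
    (maximalIdeal W).comap (algebraMap (integralClosure A M) W) with hQdef
  haveI hded : IsDedekindDomain (integralClosure A M) :=
    IsIntegralClosure.isDedekindDomain A K M _
  haveI hfr : IsFractionRing (integralClosure A M) M :=
    IsIntegralClosure.isFractionRing_of_finite_extension A K M _
  haveI hQmax : Q.IsMaximal := Ring.DimensionLEOne.maximalOfPrime hQ0 inferInstance
  letI act := IsIntegralClosure.MulSemiringAction A K M (integralClosure A M)
  have hint : Algebra.IsIntegral A (integralClosure A M) := IsIntegralClosure.isIntegral_algebra A M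
  haveI hGal : IsGaloisGroup (M ≃ₐ[K] M) A (integralClosure A M) :=
    IsGaloisGroup.of_isFractionRing _ _ _ K M
  haveI hfin : Module.Finite A (integralClosure A M) := IsIntegralClosure.finite A K M _
  have hinjAM : Function.Injective (algebraMap A M) := by
    rw [IsScalarTower.algebraMap_eq A K M]
    exact (algebraMap K M).injective.comp (IsFractionRing.injective A K)
  have hinjAC : Function.Injective (algebraMap A (integralClosure A M)) := by
    rw [IsScalarTower.algebraMap_eq A (integralClosure A M) M, RingHom.coe_comp] at hinjAM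
    exact Function.Injective.of_comp hinjAM
  haveI hfaith : FaithfulSMul A (integralClosure A M) :=
    (faithfulSMul_iff_algebraMap_injective A _).mpr hinjAC
  haveI htf : Module.IsTorsionFree A (integralClosure A M) := inferInstance
  haveI hflat : Module.Flat A (integralClosure A M) := inferInstance
  haveI htower : IsScalarTower A (integralClosure A M) W :=
    IsScalarTower.of_algebraMap_eq (fun a => Subtype.ext rfl)
  haveI hliesW : (maximalIdeal W).LiesOver (maximalIdeal A) := inferInstance
  haveI hlies : Q.LiesOver (maximalIdeal A) := by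
    constructor
    rw [hQdef, Ideal.under_def, Ideal.comap_comap, ← IsScalarTower.algebraMap_eq]
    exact hliesW.over
  have hp0 : maximalIdeal A ≠ ⊥ := IsDiscreteValuationRing.not_a_field A
  have hcomm : SMulCommClass (M ≃ₐ[K] M) A (integralClosure A M) := IsGaloisGroup.commutes
  have hinv : Algebra.IsInvariant A (integralClosure A M) (M ≃ₐ[K] M) := IsGaloisGroup.isInvariant
  have H1 := Ideal.ncard_primesOver_mul_ramificationIdxIn_mul_inertiaDegIn (maximalIdeal A)
    (integralClosure A M) (M ≃ₐ[K] M)
  rw [Ideal.ramificationIdxIn_eq_ramificationIdx (maximalIdeal A) Q (M ≃ₐ[K] M),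
    Ideal.inertiaDegIn_eq_inertiaDeg (maximalIdeal A) Q (M ≃ₐ[K] M),
    Ideal.inertiaDeg_eq_of_isMaximal (maximalIdeal A) Q,
    ← Ideal.ramificationIdx'_eq_ramificationIdx (maximalIdeal A) Q hp0,
    ← ramificationIdx'_localization (W := W) Q (maximalIdeal A),
    (residueEquiv (W := W) Q (maximalIdeal A)).toLinearEquiv.finrank_eq,
    IsGalois.card_aut_eq_finrank K M] at H1
  have hfinres : Module.Finite (ResidueField A) (ResidueField W) := by
    haveI h1 : Module.Finite A (integralClosure A M ⧸ Q) :=
      Module.Finite.of_surjective (Ideal.Quotient.mkₐ A Q).toLinearMap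
        (Ideal.Quotient.mkₐ_surjective A Q)
    haveI h2 : Module.Finite (A ⧸ maximalIdeal A) (integralClosure A M ⧸ Q) :=
      Module.Finite.of_restrictScalars_finite A (A ⧸ maximalIdeal A) (integralClosure A M ⧸ Q)
    exact Module.Finite.of_surjective
      (residueEquiv (W := W) Q (maximalIdeal A)).toLinearEquiv.toLinearMap
      (residueEquiv (W := W) Q (maximalIdeal A)).surjective
  refine ⟨hfinres, _, H1, ?_⟩
  intro hg1 W' hW'
  rw [Set.ncard_eq_one] at hg1
  obtain ⟨Q0, hQ0eq⟩ := hg1
  -- the prime of W'
  letI algCW' := algIntegralClosure W' hW'.1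
  set Q' : Ideal (integralClosure A M) :=
    (maximalIdeal W').comap (algebraMap (integralClosure A M) W') with hQ'def
  have hQmem : Q ∈ (maximalIdeal A).primesOver (integralClosure A M) := ⟨inferInstance, hlies⟩
  have hQ'mem : Q' ∈ (maximalIdeal A).primesOver (integralClosure A M) := by
    refine ⟨Ideal.comap_isPrime _ _, ?_⟩
    constructor
    ext a
    rw [Ideal.under_def, Ideal.mem_comap, hQ'def, Ideal.mem_comap]
    have : algebraMap (integralClosure A M) W' (algebraMap A (integralClosure A M) a) =
        RingHom.codRestrict (algebraMap A M) W' hW'.1 a := Subtype.ext rfl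
    rw [this]
    have hl := isLocalHom_codRestrict _ W' hW'
    constructor
    · intro ha
      rw [← ValuationSubring.coe_mem_nonunits_iff, ValuationSubring.mem_nonunits_iff]
      exact hW'.2 a ha
    · intro ha
      by_contra hcon
      have hu : IsUnit a := by
        by_contra hnu
        exact hcon ((IsLocalRing.mem_maximalIdeal a).mpr hnu)
      exact (IsLocalRing.mem_maximalIdeal _).mp ha (hu.map _)
  rw [hQ0eq, Set.mem_singleton_iff] at hQmem hQ'mem
  have hQQ' : Q = Q' := hQmem.trans hQ'mem.symm
  have hiff : ∀ x : integralClosure A M, (x : M) ∈ W'.nonunits ↔ (x : M) ∈ W.nonunits := by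
    intro x
    rw [← mem_comap_iff A M W hW, ← mem_comap_iff A M W' hW']
    show x ∈ Q' ↔ x ∈ Q
    rw [hQQ']
  exact le_antisymm (le_of_forall_nonunits A K M W' W hW' hW (fun x hx => (hiff x).mpr hx))
    (le_of_forall_nonunits A K M W W' hW hW' (fun x hx => (hiff x).mp hx))

end EFG

end Part3

section Part4

open Polynomial IsLocalRing Ideal
open Groth.Agent.Lib.R2H1.EtRam Groth.Agent.Lib.R2H1.EtRamGal
open scoped Classical

theorem exists_dominates {A L : Type u} [CommRing A] [IsLocalRing A] [Field L] (g : A →+* L) :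
    ∃ V : ValuationSubring L, EtRam.Dominates A g V := by
  obtain ⟨W, hle, hloc⟩ := (LocalSubring.range g).exists_le_valuationSubring
  have hmem : ∀ a, g a ∈ W := fun a => hle ⟨a, rfl⟩
  refine ⟨W, hmem, fun a ha => ?_⟩
  by_contra hcon
  have h1 : W.valuation (g a) = 1 :=
    le_antisymm ((W.valuation_le_one_iff _).mpr (hmem a)) (not_lt.mp hcon)
  have hu : IsUnit (Subring.inclusion hle ⟨g a, a, rfl⟩) := by
    have : IsUnit (⟨g a, hmem a⟩ : W) := (W.valuation_eq_one_iff ⟨g a, hmem a⟩).mpr h1
    exact this
  have hu2 := hloc.1 _ hu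
  obtain ⟨⟨y, b, rfl⟩, hy⟩ := isUnit_iff_exists_inv.mp hu2
  have h2 : g (a * b) = 1 := by
    have := congrArg Subtype.val hy
    rw [map_mul]
    exact this
  have h3 : IsUnit (a * b) := by
    by_contra hnu
    have h4 : a * b - 1 ∈ RingHom.ker g := by
      rw [RingHom.mem_ker, map_sub, h2, map_one, sub_self]
    have h5 : RingHom.ker g ≤ maximalIdeal A :=
      IsLocalRing.le_maximalIdeal (RingHom.ker_ne_top g)
    have h6 : a * b ∈ maximalIdeal A := (IsLocalRing.mem_maximalIdeal _).mpr hnu
    have h7 : (1 : A) ∈ maximalIdeal A := by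
      have := (maximalIdeal A).sub_mem h6 (h5 h4)
      simp at this
    exact (maximalIdeal A).ne_top_iff_one.mp (IsLocalRing.maximalIdeal.isMaximal A).ne_top h7
  exact (IsLocalRing.mem_maximalIdeal a).mp ha (isUnit_of_mul_isUnit_left h3)

/-- natural number casts not divisible by `p` have valuation one -/
theorem val_natCast_eq_one {L : Type u} [Field L] (p : ℕ) [hp : Fact p.Prime] [CharP L p]
    (W : ValuationSubring L) (i : ℕ) (hi : ¬ p ∣ i) : W.valuation (i : L) = 1 := by
  have hcop : Nat.Coprime i p := ((Nat.Prime.coprime_iff_not_dvd hp.out).mpr hi).symm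
  obtain ⟨j, _, hj⟩ := Nat.exists_mul_mod_eq_one_of_coprime hcop hp.out.one_lt
  have h1 : ((i : L)) * (j : L) = 1 := by
    rw [← Nat.cast_mul, CharP.cast_eq_mod L p, hj, Nat.cast_one]
  exact Groth.Agent.Lib.R2H1.EtRamAbh.val_eq_one_of_mul_eq_one W _ _ (natCast_mem W i)
    (natCast_mem W j) h1

section Local

variable (p : ℕ) [hp : Fact p.Prime] (A K L : Type u) [CommRing A] [IsDomain A]
    [IsDiscreteValuationRing A] [Field K] [Algebra A K] [IsFractionRing A K] [Field L] [Algebra K L]
    [Algebra A L] [IsScalarTower A K L] [CharP K p] [FiniteDimensional K L] [IsGalois K L]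
    (ξ : K) (z : L) (hz : z ^ p - z = algebraMap K L ξ) (hgen : IntermediateField.adjoin K {z} = ⊤)
    (W : ValuationSubring L) (hW : EtRam.Dominates A (algebraMap A L) W)

include hz hgen hW in
theorem caseA_inertia (a : A) (ha : algebraMap A K a = ξ) : inertiaSub K W = ⊥ := by
  haveI := charP_L K (L := L) p
  have hzW : z ∈ W := by
    apply integralClosure_le W hW.1
    refine ⟨X ^ p - X - C a, ?_, ?_⟩
    · have h2 : 2 ≤ p := hp.out.two_le
      rw [sub_sub]
      apply Monic.sub_of_left (monic_X_pow p)
      rw [degree_X_pow]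
      refine lt_of_le_of_lt (degree_add_le _ _) ?_
      refine max_lt ?_ ?_
      · rw [degree_X]; exact_mod_cast (by omega : 1 < p)
      · refine lt_of_le_of_lt degree_C_le ?_
        exact_mod_cast (by omega : 0 < p)
    · simp only [eval₂_sub, eval₂_pow, eval₂_X, eval₂_C]
      rw [IsScalarTower.algebraMap_apply A K L, ha, hz, sub_self]
  rw [eq_bot_iff]
  intro σ hσ
  rw [mem_inertiaSub_iff] at hσ
  rw [Subgroup.mem_bot]
  obtain ⟨i, hip, hi⟩ := exists_map_eq ξ z hz σ
  apply eq_one_of_map_eq ξ z hz hgen
  have h1 := hσ z hzW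
  rw [hi, add_sub_cancel_left, ValuationSubring.mem_nonunits_iff] at h1
  by_cases hdvd : p ∣ i
  · rw [hi, (CharP.cast_eq_zero_iff L p i).mpr hdvd, add_zero]
  · rw [val_natCast_eq_one p W i hdvd] at h1
    exact absurd h1 (lt_irrefl _)

include hz hgen in
theorem caseA_unram (a : A) (ha : algebraMap A K a = ξ) :
    letI : Algebra A W := (RingHom.codRestrict (algebraMap A L) W hW.1).toAlgebra
    ∀ [IsLocalHom (algebraMap A W)],
    EtRam.IsWeaklyUnramified A W ∧ Algebra.IsSeparable (ResidueField A) (ResidueField W) := by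
  intro locW
  letI algAW : Algebra A W := (RingHom.codRestrict (algebraMap A L) W hW.1).toAlgebra
  obtain ⟨hfin, hcard⟩ := card_inertiaSub A K L W hW
  rw [caseA_inertia p A K L ξ z hz hgen W hW a ha] at hcard
  haveI : IsDiscreteValuationRing W := isDiscreteValuationRing_of_dominates A K L W hW
  have hinjAW : Function.Injective (algebraMap A W) := by
    intro x y hxy
    have h1 : algebraMap A L x = algebraMap A L y := congrArg Subtype.val hxy
    rw [IsScalarTower.algebraMap_apply A K L, IsScalarTower.algebraMap_apply A K L] at h1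
    exact IsFractionRing.injective A K ((algebraMap K L).injective h1)
  have hAW : (maximalIdeal A).map (algebraMap A W) ≠ ⊥ := by
    rw [Ne, Ideal.map_eq_bot_iff_of_injective hinjAW]
    exact IsDiscreteValuationRing.not_a_field A
  have h1 : Ideal.ramificationIdx' (maximalIdeal A) (maximalIdeal W) *
      Field.finInsepDegree (ResidueField A) (ResidueField W) = 1 := by
    rw [← hcard]
    simp
  rw [isWeaklyUnramified_iff hAW, isSeparable_iff_finInsepDegree_eq_one]
  exact ⟨Nat.eq_one_of_mul_eq_one_right h1, Nat.eq_one_of_mul_eq_one_left h1⟩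

end Local

end Part4

section Part5

open Polynomial IsLocalRing Ideal
open Groth.Agent.Lib.R2H1.EtRam Groth.Agent.Lib.R2H1.EtRamGal
open scoped Classical

section LocalB

variable (p : ℕ) [hp : Fact p.Prime] (A K L : Type u) [CommRing A] [IsDomain A]
    [IsDiscreteValuationRing A] [Field K] [Algebra A K] [IsFractionRing A K] [Field L] [Algebra K L]
    [Algebra A L] [IsScalarTower A K L] [CharP K p] [FiniteDimensional K L] [IsGalois K L]
    (π : A) (hπ : maximalIdeal A = Ideal.span {π})
    (ξ : K) (z : L) (hz : z ^ p - z = algebraMap K L ξ)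
    (W : ValuationSubring L) (hW : EtRam.Dominates A (algebraMap A L) W)

include hπ hW in
theorem val_pi_lt_one : W.valuation (algebraMap A L π) < 1 := by
  apply hW.2
  rw [hπ]
  exact Ideal.mem_span_singleton_self π

include hW in
theorem val_unit_eq_one (a : Aˣ) : W.valuation (algebraMap A L a) = 1 := by
  apply Groth.Agent.Lib.R2H1.EtRamAbh.val_eq_one_of_mul_eq_one W _ (algebraMap A L (a⁻¹ : Aˣ))
    (hW.1 _) (hW.1 _)
  rw [← map_mul, ← Units.val_mul, mul_inv_cancel, Units.val_one, map_one]

include hπ hz hW in
/-- in the situation of (B) or (C) with a unit numerator, `z` has a pole at `W` -/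
theorem z_not_mem (n : ℕ) (a : Aˣ) (hn : 0 < n)
    (hξ : ξ * algebraMap A K π ^ n = algebraMap A K a) : z ∉ W := by
  intro hzW
  have hξL : algebraMap K L ξ * algebraMap A L π ^ n = algebraMap A L a := by
    rw [IsScalarTower.algebraMap_apply A K L, IsScalarTower.algebraMap_apply A K L, ← map_pow,
      ← map_mul, hξ]
  have h1 : W.valuation (algebraMap K L ξ) ≤ 1 := by
    rw [ValuationSubring.valuation_le_one_iff, ← hz]
    exact W.sub_mem (W.pow_mem hzW p) hzW
  have h2 : W.valuation (algebraMap A L π) ^ n < 1 :=
    pow_lt_one₀ zero_le (val_pi_lt_one A L π hπ W hW) hn.ne'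
  have h3 := congrArg W.valuation hξL
  rw [map_mul, map_pow, val_unit_eq_one A L W hW a] at h3
  have h4 : W.valuation (algebraMap K L ξ) * W.valuation (algebraMap A L π) ^ n < 1 := by
    calc W.valuation (algebraMap K L ξ) * W.valuation (algebraMap A L π) ^ n
        ≤ 1 * W.valuation (algebraMap A L π) ^ n := mul_le_mul_left h1 _
      _ = W.valuation (algebraMap A L π) ^ n := one_mul _
      _ < 1 := h2
  rw [h3] at h4
  exact lt_irrefl _ h4

include hπ hz hW in
theorem caseB_dvd (n : ℕ) (a : Aˣ) (hn : 0 < n) (hpn : ¬ p ∣ n)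
    (hξ : ξ * algebraMap A K π ^ n = algebraMap A K a) :
    letI : Algebra A W := (RingHom.codRestrict (algebraMap A L) W hW.1).toAlgebra
    ∀ [IsLocalHom (algebraMap A W)],
    p ∣ Ideal.ramificationIdx' (maximalIdeal A) (maximalIdeal W) := by
  intro locW
  letI algAW : Algebra A W := (RingHom.codRestrict (algebraMap A L) W hW.1).toAlgebra
  haveI : IsDiscreteValuationRing W := isDiscreteValuationRing_of_dominates A K L W hW
  have h2 : 2 ≤ p := hp.out.two_le
  have hξL : algebraMap K L ξ * algebraMap A L π ^ n = algebraMap A L a := by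
    rw [IsScalarTower.algebraMap_apply A K L, IsScalarTower.algebraMap_apply A K L, ← map_pow,
      ← map_mul, hξ]
  have hinjAW : Function.Injective (algebraMap A W) := by
    intro x y hxy
    have h1 : algebraMap A L x = algebraMap A L y := congrArg Subtype.val hxy
    rw [IsScalarTower.algebraMap_apply A K L, IsScalarTower.algebraMap_apply A K L] at h1
    exact IsFractionRing.injective A K ((algebraMap K L).injective h1)
  obtain ⟨ϖ, hϖ⟩ := IsDiscreteValuationRing.exists_irreducible W
  have hϖm : maximalIdeal W = Ideal.span {ϖ} :=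
    (IsDiscreteValuationRing.irreducible_iff_uniformizer ϖ).mp hϖ
  have hϖ0 : ϖ ≠ 0 := hϖ.ne_zero
  have hπ0 : π ≠ 0 := by
    rintro rfl
    apply IsDiscreteValuationRing.not_a_field A
    rw [hπ, Ideal.span_singleton_eq_bot]
  have hπW0 : algebraMap A W π ≠ 0 := fun h => hπ0 (hinjAW (by rw [h, map_zero]))
  obtain ⟨e, u₂, he⟩ := IsDiscreteValuationRing.eq_unit_mul_pow_irreducible hπW0 hϖ
  have hram := Groth.Agent.Lib.R2H1.EtRamAbh.ramificationIdx'_eq_of_eq π hπ ϖ hϖm hϖ0 e u₂ he
  rw [hram]
  -- the pole of z
  have hzW : z ∉ W := z_not_mem p A K L π hπ ξ z hz W hW n a hn hξ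
  have hz0 : z ≠ 0 := fun h => hzW (h ▸ W.zero_mem)
  have hwW : z⁻¹ ∈ W := (W.mem_or_inv_mem z).resolve_left hzW
  set w : W := ⟨z⁻¹, hwW⟩ with hwdef
  have hw0 : w ≠ 0 := by
    intro h
    have := congrArg Subtype.val h
    exact inv_ne_zero hz0 this
  have hwm : w ∈ maximalIdeal W := by
    rw [← ValuationSubring.coe_mem_nonunits_iff, ValuationSubring.mem_nonunits_iff]
    show W.valuation z⁻¹ < 1
    rw [map_inv₀]
    apply inv_lt_one_of_one_lt₀
    exact not_le.mp (fun h => hzW ((W.valuation_le_one_iff z).mp h))
  -- the key equation in L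
  have hkeyL : (1 - z⁻¹ ^ (p - 1)) * algebraMap A L π ^ n = algebraMap A L a * z⁻¹ ^ p := by
    rw [← hξL, ← hz]
    have e1 : z ^ p * z⁻¹ ^ p = 1 := by rw [← mul_pow, mul_inv_cancel₀ hz0, one_pow]
    have e2 : z * z⁻¹ ^ p = z⁻¹ ^ (p - 1) := by
      have : p = (p - 1) + 1 := by omega
      conv_lhs => rw [this, pow_succ]
      rw [mul_comm, mul_assoc, inv_mul_cancel₀ hz0, mul_one]
    calc (1 - z⁻¹ ^ (p - 1)) * algebraMap A L π ^ n
        = (z ^ p * z⁻¹ ^ p - z * z⁻¹ ^ p) * algebraMap A L π ^ n := by rw [e1, e2]
      _ = (z ^ p - z) * algebraMap A L π ^ n * z⁻¹ ^ p := by ring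
  have hkeyW : (1 - w ^ (p - 1)) * algebraMap A W π ^ n = algebraMap A W a * w ^ p := by
    apply Subtype.ext
    exact hkeyL
  have hu1 : IsUnit (1 - w ^ (p - 1)) := by
    apply IsLocalRing.isUnit_one_sub_self_of_mem_nonunits
    rw [← IsLocalRing.mem_maximalIdeal]
    exact Ideal.pow_mem_of_mem _ hwm _ (by omega)
  have hua : IsUnit (algebraMap A W a) := a.isUnit.map _
  obtain ⟨k, u₁, hk⟩ := IsDiscreteValuationRing.eq_unit_mul_pow_irreducible hw0 hϖ
  obtain ⟨v₁, hv₁⟩ := hu1
  obtain ⟨va, hva⟩ := hua
  rw [← hv₁, ← hva, he, hk, mul_pow, mul_pow, ← pow_mul, ← pow_mul, ← mul_assoc, ← mul_assoc] at hkeyW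
  have hkey2 : ((v₁ * u₂ ^ n : Wˣ) : W) * ϖ ^ (e * n) = ((va * u₁ ^ p : Wˣ) : W) * ϖ ^ (k * p) := by
    push_cast
    exact hkeyW
  have hen := IsDiscreteValuationRing.unit_mul_pow_congr_pow hϖ hϖ _ _ _ _ hkey2
  have hdvd : p ∣ e * n := ⟨k, by rw [hen]; ring⟩
  exact ((Nat.Prime.dvd_mul hp.out).mp hdvd).resolve_right hpn

end LocalB

end Part5

section Part6

open Polynomial IsLocalRing Ideal
open Groth.Agent.Lib.R2H1.EtRam Groth.Agent.Lib.R2H1.EtRamGal
open scoped Classical IntermediateField

section LocalC

variable (p : ℕ) [hp : Fact p.Prime] (A K L : Type u) [CommRing A] [IsDomain A]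
    [IsDiscreteValuationRing A] [Field K] [Algebra A K] [IsFractionRing A K] [Field L] [Algebra K L]
    [Algebra A L] [IsScalarTower A K L] [CharP K p] [FiniteDimensional K L] [IsGalois K L]
    (π : A) (hπ : maximalIdeal A = Ideal.span {π})
    (ξ : K) (z : L) (hz : z ^ p - z = algebraMap K L ξ)
    (W : ValuationSubring L) (hW : EtRam.Dominates A (algebraMap A L) W)

theorem charP_residue (p : ℕ) [hp : Fact p.Prime] (A K : Type u) [CommRing A] [IsDomain A]
    [IsDiscreteValuationRing A] [Field K] [Algebra A K] [IsFractionRing A K] [CharP K p] :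
    CharP (ResidueField A) p := by
  rw [CharP.charP_iff_prime_eq_zero hp.out]
  have h1 : ((p : ℕ) : A) = 0 := by
    apply IsFractionRing.injective A K
    rw [map_natCast, map_zero]
    exact CharP.cast_eq_zero K p
  rw [← map_natCast (residue A), h1, map_zero]

theorem monic_aux (c a : A) : (X ^ p - (C c * X + C a) : A[X]).Monic := by
  have h2 : 2 ≤ p := hp.out.two_le
  apply Monic.sub_of_left (monic_X_pow p)
  rw [degree_X_pow]
  refine lt_of_le_of_lt (degree_add_le _ _) ?_
  refine max_lt ?_ ?_
  · refine lt_of_le_of_lt (degree_C_mul_X_le c) ?_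
    exact_mod_cast (by omega : 1 < p)
  · refine lt_of_le_of_lt degree_C_le ?_
    exact_mod_cast (by omega : 0 < p)

include hz in
theorem caseC_eq (m : ℕ) (a : A)
    (hξ : ξ * algebraMap A K π ^ (p * m) = algebraMap A K a) :
    (algebraMap A L π ^ m * z) ^ p =
      algebraMap A L (π ^ (p * m - m)) * (algebraMap A L π ^ m * z) + algebraMap A L a := by
  have hξL : algebraMap K L ξ * algebraMap A L π ^ (p * m) = algebraMap A L a := by
    rw [IsScalarTower.algebraMap_apply A K L, IsScalarTower.algebraMap_apply A K L, ← map_pow,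
      ← map_mul, hξ]
  have h2 : 2 ≤ p := hp.out.two_le
  have hle : m ≤ p * m := Nat.le_mul_of_pos_left m (by omega)
  have hzp : z ^ p = z + algebraMap K L ξ := by rw [← hz]; ring
  have e1 : algebraMap A L π ^ (p * m) = algebraMap A L π ^ (p * m - m) * algebraMap A L π ^ m := by
    rw [← pow_add, Nat.sub_add_cancel hle]
  rw [mul_pow, ← pow_mul, mul_comm m p, hzp, mul_add, mul_comm _ (algebraMap K L ξ), hξL, map_pow, e1]
  ring

include hπ hz hW in
set_option maxHeartbeats 400000 in
theorem caseC_local (m : ℕ) (hm : 0 < m) (a : A)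
    (hres : ∀ r : A, residue A a ≠ residue A r ^ p)
    (hξ : ξ * algebraMap A K π ^ (p * m) = algebraMap A K a) :
    letI : Algebra A W := (RingHom.codRestrict (algebraMap A L) W hW.1).toAlgebra
    ∀ [IsLocalHom (algebraMap A W)], Module.Finite (ResidueField A) (ResidueField W) →
    p ≤ Module.finrank (ResidueField A) (ResidueField W) ∧
      (Module.finrank (ResidueField A) (ResidueField W) = p →
        IsPurelyInseparable (ResidueField A) (ResidueField W)) := by
  intro locW hfin
  letI algAW : Algebra A W := (RingHom.codRestrict (algebraMap A L) W hW.1).toAlgebra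
  have h2 : 2 ≤ p := hp.out.two_le
  have hlt : m < p * m := by nlinarith
  have heq := caseC_eq p A K L π ξ z hz m a hξ
  have hz'W : algebraMap A L π ^ m * z ∈ W := by
    apply integralClosure_le W hW.1
    refine ⟨X ^ p - (C (π ^ (p * m - m)) * X + C a), monic_aux p A _ _, ?_⟩
    simp only [eval₂_sub, eval₂_pow, eval₂_X, eval₂_C, eval₂_add, eval₂_mul]
    rw [heq, sub_self]
  set z' : W := ⟨algebraMap A L π ^ m * z, hz'W⟩ with hz'def
  have heqW : z' ^ p = algebraMap A W (π ^ (p * m - m)) * z' + algebraMap A W a := by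
    apply Subtype.ext
    exact heq
  have hπres : residue W (algebraMap A W (π ^ (p * m - m))) = 0 := by
    rw [residue_eq_zero_iff]
    have : π ^ (p * m - m) ∈ maximalIdeal A := by
      apply Ideal.pow_mem_of_mem _ _ _ (by omega)
      rw [hπ]; exact Ideal.mem_span_singleton_self π
    by_contra hcon
    have hu : IsUnit (algebraMap A W (π ^ (p * m - m))) := by
      by_contra hnu
      exact hcon ((IsLocalRing.mem_maximalIdeal _).mpr hnu)
    exact (IsLocalRing.mem_maximalIdeal _).mp this (IsLocalHom.map_nonunit _ hu)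
  set t : ResidueField W := residue W z' with htdef
  have htp : t ^ p = algebraMap (ResidueField A) (ResidueField W) (residue A a) := by
    rw [htdef, ← map_pow, heqW, map_add, map_mul, hπres, zero_mul, zero_add,
      IsLocalRing.ResidueField.algebraMap_residue]
  have hirr : Irreducible (X ^ p - C (residue A a) : (ResidueField A)[X]) := by
    apply X_pow_sub_C_irreducible_of_prime hp.out
    intro b hb
    obtain ⟨r, rfl⟩ := residue_surjective b
    exact hres r hb.symm
  have hmin : (X ^ p - C (residue A a) : (ResidueField A)[X]) = minpoly (ResidueField A) t := by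
    apply minpoly.eq_of_irreducible_of_monic hirr
    · simp only [map_sub, map_pow, aeval_X, aeval_C]
      rw [htp, sub_self]
    · exact monic_X_pow_sub_C _ (by omega)
  have hdeg : (minpoly (ResidueField A) t).natDegree = p := by
    rw [← hmin, natDegree_X_pow_sub_C]
  refine ⟨?_, ?_⟩
  · rw [← hdeg]
    exact minpoly.natDegree_le t
  · intro hf
    haveI := charP_residue p A K
    haveI : ExpChar (ResidueField A) p := ExpChar.prime hp.out
    have htop : (ResidueField A)⟮t⟯ = ⊤ := by
      rw [Field.primitive_element_iff_minpoly_natDegree_eq, hdeg, hf]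
    rw [isPurelyInseparable_iff_perfectClosure_eq_top, eq_top_iff, ← htop,
      IntermediateField.adjoin_simple_le_iff, mem_perfectClosure_iff_pow_mem p]
    exact ⟨1, residue A a, by rw [pow_one, htp]⟩

end LocalC

end Part6

section Part7

open Polynomial IsLocalRing Ideal
open Groth.Agent.Lib.R2H1.EtRam Groth.Agent.Lib.R2H1.EtRamGal
open scoped Classical IntermediateField

theorem nat_aux (g e f N p : ℕ) (h : g * (e * f) = N) (hN : N ≤ p) (hN0 : 0 < N) (he : p ≤ e) :
    g = 1 ∧ e = p ∧ f = 1 ∧ N = p := by
  have hg : 0 < g := by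
    rcases Nat.eq_zero_or_pos g with h0 | h0
    · rw [h0, zero_mul] at h; omega
    · exact h0
  have hf : 0 < f := by
    rcases Nat.eq_zero_or_pos f with h0 | h0
    · rw [h0, mul_zero, mul_zero] at h; omega
    · exact h0
  have h1 : e ≤ g * (e * f) := by
    calc e = 1 * (e * 1) := by ring
      _ ≤ g * (e * f) := Nat.mul_le_mul hg (Nat.mul_le_mul le_rfl hf)
  have he' : e = p := by omega
  have hN' : N = p := by omega
  have h2 : g * f = 1 := by
    have : p * (g * f) = p * 1 := by
      rw [mul_one]
      calc p * (g * f) = g * (e * f) := by rw [he']; ring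
        _ = p := by rw [h, hN']
    exact Nat.eq_of_mul_eq_mul_left (by omega) this
  exact ⟨Nat.eq_one_of_mul_eq_one_right h2, he', Nat.eq_one_of_mul_eq_one_left h2, hN'⟩

section Global

variable (p : ℕ) [hp : Fact p.Prime] (A K L : Type u) [CommRing A] [IsDomain A]
    [IsDiscreteValuationRing A] [Field K] [Algebra A K] [IsFractionRing A K] [Field L] [Algebra K L]
    [Algebra A L] [IsScalarTower A K L] [CharP K p]
    (π : A) (hπ : maximalIdeal A = Ideal.span {π})
    (ξ : K) (z : L) (hz : z ^ p - z = algebraMap K L ξ) (hgen : IntermediateField.adjoin K {z} = ⊤)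

/-- The four cases. -/
def Case1 (K L : Type u) [Field K] [Field L] [Algebra K L] : Prop := Module.finrank K L = 1

def Case2 (p : ℕ) (A K L : Type u) [CommRing A] [IsLocalRing A] [Field K] [Field L] [Algebra K L]
    [Algebra A L] : Prop :=
  EtRam.IsUnramifiedExt A (algebraMap A L) ∧ Module.finrank K L = p

def Case3 (p : ℕ) (A K L : Type u) [CommRing A] [IsLocalRing A] [Field K] [Field L] [Algebra K L]
    [Algebra A L] : Prop :=
  EtRam.IsTotallyRamified A (algebraMap A L) ∧ Module.finrank K L = p

def Case4 (p : ℕ) (A L : Type u) [CommRing A] [IsLocalRing A] [Field L]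
    [Algebra A L] : Prop :=
  (∃ V : ValuationSubring L, EtRam.Dominates A (algebraMap A L) V) ∧
      (∀ V V' : ValuationSubring L, EtRam.Dominates A (algebraMap A L) V →
        EtRam.Dominates A (algebraMap A L) V' → V = V') ∧
      ∀ (V : ValuationSubring L) (h : EtRam.Dominates A (algebraMap A L) V),
        letI : Algebra A V := (RingHom.codRestrict (algebraMap A L) V h.1).toAlgebra
        ∀ [IsLocalHom (algebraMap A V)],
          EtRam.IsWeaklyUnramified A V ∧
            IsPurelyInseparable (IsLocalRing.ResidueField A) (IsLocalRing.ResidueField V) ∧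
            Module.finrank (IsLocalRing.ResidueField A) (IsLocalRing.ResidueField V) = p

include hz hgen in
theorem caseA_global (a : A) (ha : algebraMap A K a = ξ) : Case1 K L ∨ Case2 p A K L := by
  haveI := finiteDimensional ξ z hz hgen
  haveI := isGalois ξ z hz hgen
  rcases finrank_eq_one_or ξ z hz hgen with h1 | h1
  · exact Or.inl h1
  · refine Or.inr ⟨?_, h1⟩
    intro V hV locV
    exact caseA_unram p A K L ξ z hz hgen V hV a ha

include hπ hz hgen in
theorem caseB_global (n : ℕ) (a : Aˣ) (hn : 0 < n) (hpn : ¬ p ∣ n)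
    (hξ : ξ * algebraMap A K π ^ n = algebraMap A K a) : Case3 p A K L := by
  haveI := finiteDimensional ξ z hz hgen
  haveI := isGalois ξ z hz hgen
  have hN := finrank_le ξ z hz hgen
  have hN0 : 0 < Module.finrank K L := Module.finrank_pos
  have key : ∀ (W : ValuationSubring L) (hW : EtRam.Dominates A (algebraMap A L) W),
      (∀ W' : ValuationSubring L, EtRam.Dominates A (algebraMap A L) W' → W' = W) ∧
      Module.finrank K L = p ∧
      Function.Surjective (fun a : A => IsLocalRing.residue W
        (RingHom.codRestrict (algebraMap A L) W hW.1 a)) := by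
    intro W hW
    letI algAW : Algebra A W := (RingHom.codRestrict (algebraMap A L) W hW.1).toAlgebra
    haveI locW : IsLocalHom (algebraMap A W) := isLocalHom_codRestrict _ W hW
    obtain ⟨hfin, g, hg, huniq⟩ := efg A K L W hW
    have hdvd := caseB_dvd p A K L π hπ ξ z hz W hW n a hn hpn hξ
    have he0 : 0 < Ideal.ramificationIdx' (maximalIdeal A) (maximalIdeal W) := by
      rcases Nat.eq_zero_or_pos (Ideal.ramificationIdx' (maximalIdeal A) (maximalIdeal W)) with h0 | h0
      · rw [h0, zero_mul, mul_zero] at hg; omega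
      · exact h0
    obtain ⟨hg1, he, hf, hNp⟩ := nat_aux _ _ _ _ p hg hN hN0 (Nat.le_of_dvd he0 hdvd)
    refine ⟨huniq hg1, hNp, ?_⟩
    intro x
    have hbot := Subalgebra.bot_eq_top_of_finrank_eq_one hf
    have hx : x ∈ (⊥ : Subalgebra (ResidueField A) (ResidueField W)) := by
      rw [hbot]; exact Algebra.mem_top
    rw [Algebra.mem_bot] at hx
    obtain ⟨c, rfl⟩ := hx
    obtain ⟨a', rfl⟩ := residue_surjective c
    exact ⟨a', rfl⟩
  obtain ⟨W₀, hW₀⟩ := exists_dominates (algebraMap A L)
  refine ⟨⟨⟨W₀, hW₀⟩, ?_, ?_⟩, (key W₀ hW₀).2.1⟩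
  · intro V V' hV hV'
    exact ((key V' hV').1 V hV)
  · intro V hV
    exact (key V hV).2.2

include hπ hz hgen in
theorem caseC_global (n : ℕ) (a : A) (hn : 0 < n) (hpn : p ∣ n)
    (hres : ∀ r : A, residue A a ≠ residue A r ^ p)
    (hξ : ξ * algebraMap A K π ^ n = algebraMap A K a) : Case4 p A L := by
  haveI := finiteDimensional ξ z hz hgen
  haveI := isGalois ξ z hz hgen
  have hN := finrank_le ξ z hz hgen
  have hN0 : 0 < Module.finrank K L := Module.finrank_pos
  obtain ⟨m, rfl⟩ := hpn
  have hm : 0 < m := by
    rcases Nat.eq_zero_or_pos m with h0 | h0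
    · rw [h0, mul_zero] at hn; omega
    · exact h0
  have key : ∀ (W : ValuationSubring L) (hW : EtRam.Dominates A (algebraMap A L) W),
      (∀ W' : ValuationSubring L, EtRam.Dominates A (algebraMap A L) W' → W' = W) ∧
      (letI : Algebra A W := (RingHom.codRestrict (algebraMap A L) W hW.1).toAlgebra
        ∀ [IsLocalHom (algebraMap A W)],
          EtRam.IsWeaklyUnramified A W ∧
            IsPurelyInseparable (IsLocalRing.ResidueField A) (IsLocalRing.ResidueField W) ∧
            Module.finrank (IsLocalRing.ResidueField A) (IsLocalRing.ResidueField W) = p) := by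
    intro W hW
    letI algAW : Algebra A W := (RingHom.codRestrict (algebraMap A L) W hW.1).toAlgebra
    haveI locW : IsLocalHom (algebraMap A W) := isLocalHom_codRestrict _ W hW
    obtain ⟨hfin, g, hg, huniq⟩ := efg A K L W hW
    obtain ⟨hle, hpi⟩ := caseC_local p A K L π hπ ξ z hz W hW m hm a hres hξ hfin
    have hg' : g * (Module.finrank (ResidueField A) (ResidueField W) *
        Ideal.ramificationIdx' (maximalIdeal A) (maximalIdeal W)) = Module.finrank K L := by
      rw [← hg]; ring
    obtain ⟨hg1, hf, he, hNp⟩ := nat_aux _ _ _ _ p hg' hN hN0 hle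
    refine ⟨huniq hg1, ?_⟩
    intro locW'
    haveI : IsDiscreteValuationRing W := isDiscreteValuationRing_of_dominates A K L W hW
    have hinjAW : Function.Injective (algebraMap A W) := by
      intro x y hxy
      have h1 : algebraMap A L x = algebraMap A L y := congrArg Subtype.val hxy
      rw [IsScalarTower.algebraMap_apply A K L, IsScalarTower.algebraMap_apply A K L] at h1
      exact IsFractionRing.injective A K ((algebraMap K L).injective h1)
    have hAW : (maximalIdeal A).map (algebraMap A W) ≠ ⊥ := by
      rw [Ne, Ideal.map_eq_bot_iff_of_injective hinjAW]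
      exact IsDiscreteValuationRing.not_a_field A
    exact ⟨(isWeaklyUnramified_iff hAW).mpr he, hpi hf, hf⟩
  obtain ⟨W₀, hW₀⟩ := exists_dominates (algebraMap A L)
  refine ⟨⟨W₀, hW₀⟩, ?_, ?_⟩
  · intro V V' hV hV'
    exact ((key V' hV').1 V hV)
  · intro V hV
    exact (key V hV).2

end Global

end Part7

section Part8

open Polynomial IsLocalRing Ideal
open Groth.Agent.Lib.R2H1.EtRam Groth.Agent.Lib.R2H1.EtRamGal
open scoped Classical IntermediateField

section Final

variable (p : ℕ) [hp : Fact p.Prime] (A K L : Type u) [CommRing A] [IsDomain A]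
    [IsDiscreteValuationRing A] [Field K] [Algebra A K] [IsFractionRing A K] [Field L] [Algebra K L]
    [Algebra A L] [IsScalarTower A K L] [CharP K p]
    (π : A) (hπ : maximalIdeal A = Ideal.span {π})

include hπ in
theorem general_aux (n : ℕ) : ∀ (ξ : K) (z : L), z ^ p - z = algebraMap K L ξ →
    IntermediateField.adjoin K {z} = ⊤ →
    (∃ a : A, ξ * algebraMap A K π ^ n = algebraMap A K a) →
    Case1 K L ∨ Case2 p A K L ∨ Case3 p A K L ∨ Case4 p A L := by
  have h2 : 2 ≤ p := hp.out.two_le
  have hπ0 : π ≠ 0 := by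
    rintro rfl
    apply IsDiscreteValuationRing.not_a_field A
    rw [hπ, Ideal.span_singleton_eq_bot]
  have hP0 : algebraMap A K π ≠ 0 := fun h =>
    hπ0 (IsFractionRing.injective A K (by rw [h, map_zero]))
  induction n with
  | zero =>
    intro ξ z hz hgen ⟨a, ha⟩
    rw [pow_zero, mul_one] at ha
    rcases caseA_global p A K L ξ z hz hgen a ha.symm with h | h
    · exact Or.inl h
    · exact Or.inr (Or.inl h)
  | succ n ih =>
    intro ξ z hz hgen ⟨a, ha⟩
    by_cases hu : IsUnit a
    · by_cases hpn : p ∣ n + 1
      · by_cases hres : ∀ r : A, residue A a ≠ residue A r ^ p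
        · exact Or.inr (Or.inr (Or.inr
            (caseC_global p A K L π hπ ξ z hz hgen (n + 1) a (Nat.succ_pos n) hpn hres ha)))
        · push Not at hres
          obtain ⟨r, hr⟩ := hres
          obtain ⟨m, hm⟩ := hpn
          have hm0 : 0 < m := by
            rcases Nat.eq_zero_or_pos m with h0 | h0
            · rw [h0, mul_zero] at hm; omega
            · exact h0
          have hmn : m ≤ n := by
            have := Nat.mul_le_mul_right m h2
            omega
          haveI := charP_L K (L := L) p
          set P := algebraMap A K π with hPdef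
          set c : K := algebraMap A K r / P ^ m with hc
          have hz₂ : (z - algebraMap K L c) ^ p - (z - algebraMap K L c) =
              algebraMap K L (ξ - c ^ p + c) := by
            rw [sub_pow_char, map_add, map_sub, map_pow, ← hz]
            ring
          have hgen₂ : IntermediateField.adjoin K {z - algebraMap K L c} = ⊤ := by
            rw [eq_top_iff, ← hgen, IntermediateField.adjoin_simple_le_iff]
            have h1 : (z - algebraMap K L c) + algebraMap K L c ∈
                K⟮z - algebraMap K L c⟯ :=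
              add_mem (IntermediateField.mem_adjoin_simple_self K _)
                (IntermediateField.algebraMap_mem _ c)
            rwa [sub_add_cancel] at h1
          have hmem : a - r ^ p ∈ maximalIdeal A := by
            rw [← residue_eq_zero_iff, map_sub, map_pow, hr, sub_self]
          rw [hπ] at hmem
          obtain ⟨b, hb⟩ := Ideal.mem_span_singleton'.mp hmem
          apply ih (ξ - c ^ p + c) (z - algebraMap K L c) hz₂ hgen₂
          refine ⟨b + r * π ^ (n - m), ?_⟩
          apply mul_right_cancel₀ hP0
          have e1 : c ^ p * P ^ (n + 1) = algebraMap A K r ^ p := by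
            rw [hc, div_pow, ← pow_mul, hm, mul_comm m p]
            exact div_mul_cancel₀ _ (pow_ne_zero _ hP0)
          have e2 : c * P ^ (n + 1) = algebraMap A K r * P ^ (n - m) * P := by
            have h3 : P ^ (n + 1) = P ^ m * (P ^ (n - m) * P) := by
              rw [← pow_succ, ← pow_add]
              congr 1
              omega
            rw [hc, h3, ← mul_assoc, div_mul_cancel₀ _ (pow_ne_zero _ hP0), mul_assoc]
          have e3 : algebraMap A K a - algebraMap A K r ^ p = algebraMap A K b * P := by
            rw [← map_pow, ← map_sub, ← hb, map_mul]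
          calc (ξ - c ^ p + c) * P ^ n * P = ξ * P ^ (n + 1) - c ^ p * P ^ (n + 1) + c * P ^ (n + 1) := by
                ring
            _ = algebraMap A K a - algebraMap A K r ^ p + algebraMap A K r * P ^ (n - m) * P := by
                rw [ha, e1, e2]
            _ = algebraMap A K (b + r * π ^ (n - m)) * P := by
                rw [e3, map_add, map_mul, map_pow]
                ring
      · exact Or.inr (Or.inr (Or.inl
          (caseB_global p A K L π hπ ξ z hz hgen (n + 1) hu.unit (Nat.succ_pos n) hpn ha)))
    · have hmem : a ∈ maximalIdeal A := (IsLocalRing.mem_maximalIdeal a).mpr hu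
      rw [hπ] at hmem
      obtain ⟨b, hb⟩ := Ideal.mem_span_singleton'.mp hmem
      apply ih ξ z hz hgen
      refine ⟨b, ?_⟩
      apply mul_right_cancel₀ hP0
      rw [mul_assoc, ← pow_succ, ha, ← hb, map_mul]

include hπ in
theorem general (ξ : K) (z : L) (hz : z ^ p - z = algebraMap K L ξ)
    (hgen : IntermediateField.adjoin K {z} = ⊤) :
    Case1 K L ∨ Case2 p A K L ∨ Case3 p A K L ∨ Case4 p A L := by
  obtain ⟨x, s, hxs⟩ := IsLocalization.exists_mk'_eq (nonZeroDivisors A) ξ
  have hs0 : (s : A) ≠ 0 := nonZeroDivisors.ne_zero s.2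
  haveI : IsDiscreteValuationRing A := inferInstance
  have hπirr : Irreducible π := by
    rw [IsDiscreteValuationRing.irreducible_iff_uniformizer]
    exact hπ
  obtain ⟨n, u, hn⟩ := IsDiscreteValuationRing.eq_unit_mul_pow_irreducible hs0 hπirr
  apply general_aux p A K L π hπ n ξ z hz hgen
  refine ⟨x * (u⁻¹ : Aˣ), ?_⟩
  have h1 : ξ * algebraMap A K s = algebraMap A K x := by
    rw [← hxs]
    exact IsLocalization.mk'_spec _ _ _
  have h2 : algebraMap A K π ^ n = algebraMap A K s * algebraMap A K ((u⁻¹ : Aˣ) : A) := by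
    rw [hn, map_mul, map_pow, mul_comm (algebraMap A K u), mul_assoc, ← map_mul, ← Units.val_mul,
      mul_inv_cancel, Units.val_one, map_one, mul_one]
  rw [h2, ← mul_assoc, h1, map_mul]

end Final

theorem main (p : ℕ) (hp : p.Prime) (A K L : Type u) [CommRing A] [IsDomain A]
    [IsDiscreteValuationRing A] [Field K] [Algebra A K] [IsFractionRing A K] [Field L] [Algebra K L] [Algebra A L]
    [IsScalarTower A K L] [CharP K p] (π : A) (hπ : IsLocalRing.maximalIdeal A = Ideal.span {π})
    (ξ : K) (z : L) (hz : z ^ p - z = algebraMap K L ξ) (hgen : IntermediateField.adjoin K {z} = ⊤) :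
    let g : A →+* L := algebraMap A L
    let case1 : Prop := Module.finrank K L = 1
    let case2 : Prop := EtRam.IsUnramifiedExt A g ∧ Module.finrank K L = p
    let case3 : Prop := EtRam.IsTotallyRamified A g ∧ Module.finrank K L = p
    let case4 : Prop := (∃ V : ValuationSubring L, EtRam.Dominates A g V) ∧
      (∀ V V' : ValuationSubring L, EtRam.Dominates A g V → EtRam.Dominates A g V' → V = V') ∧
      ∀ (V : ValuationSubring L) (h : EtRam.Dominates A g V),
        letI : Algebra A V := (RingHom.codRestrict g V h.1).toAlgebra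
        ∀ [IsLocalHom (algebraMap A V)],
          EtRam.IsWeaklyUnramified A V ∧
            IsPurelyInseparable (IsLocalRing.ResidueField A) (IsLocalRing.ResidueField V) ∧
            Module.finrank (IsLocalRing.ResidueField A) (IsLocalRing.ResidueField V) = p
    IsGalois K L ∧ (case1 ∨ case2 ∨ case3 ∨ case4) ∧
      ((∃ a : A, algebraMap A K a = ξ) → case1 ∨ case2) ∧
      (∀ (n : ℕ) (a : Aˣ), 0 < n → ¬ p ∣ n → ξ * algebraMap A K π ^ n = algebraMap A K a → case3) ∧
      (∀ (n : ℕ) (a : A), 0 < n → p ∣ n → (∀ r : A, IsLocalRing.residue A a ≠ IsLocalRing.residue A r ^ p) →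
          ξ * algebraMap A K π ^ n = algebraMap A K a → case4) := by
  haveI : Fact p.Prime := ⟨hp⟩
  intro g case1 case2 case3 case4
  refine ⟨isGalois ξ z hz hgen, general p A K L π hπ ξ z hz hgen, ?_, ?_, ?_⟩
  · rintro ⟨a, ha⟩
    exact caseA_global p A K L ξ z hz hgen a ha
  · intro n a hn hpn hξ
    exact caseB_global p A K L π hπ ξ z hz hgen n a hn hpn hξ
  · intro n a hn hpn hres hξ
    exact caseC_global p A K L π hπ ξ z hz hgen n a hn hpn hres hξ

end Part8

end Groth.Agent.Lib.R2H1.EtRamAS
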