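import Mathlib
import Groth.Prelude.Def_EtRam
import Groth.Agent.Lib.R2H1EtRam
import Groth.Agent.Lib.R2H1EtRamTower
import Groth.Agent.Lib.R2H1EtRamSmooth
import Groth.Agent.Lib.R2H1EtRamAbh
import Groth.Agent.Lib.Helper14GeomRed

/-!
# Base change of unramified extensions along an extension of DVRs (helper1, run 2)

* `unram_core`: ring-level core: if `W ∩ K₁` is unramified over `A` (weakly unramified with separable
  algebraic residue extension) and `B` is a DVR over `A` mapping to `W`, then the uniformiser of `B`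
  generates the maximal ideal of `W` and `κ(W)/κ(B)` is separable algebraic.
* `unram_local`: in a compositum `M` of `L = Frac B` and `K₁` (algebraic over `K`, unramified w.r.t. `A`),
  `M` is unramified with respect to `B`.
* `unram_baseChange`: the same for a quotient field `F` of `K' ⊗[K] L` (statement S9306).
-/

set_option autoImplicit false
set_option linter.unusedSectionVars false
set_option linter.style.haveILetI false

universe u

namespace Groth.Agent.Lib.R2H1.EtRamBC

section
open IsLocalRing TensorProduct Groth.Agent.Lib.R2H1.EtRamTower Groth.Agent.Lib.R2H1.EtRam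
  Groth.Agent.Lib.R2H1.EtRamSmooth Groth.Agent.Lib.R2H1.EtRamAbh
section Core

variable {A B K₁ M : Type u} [CommRing A] [IsLocalRing A] [CommRing B] [IsLocalRing B]
  [Algebra A B] [IsLocalHom (algebraMap A B)] [Field K₁] [Field M]
  (f : K₁ →+* M) (W : ValuationSubring M)
  [Algebra A (W.comap f)] [IsLocalHom (algebraMap A (W.comap f))]
  (g : B →+* M)
  (hcompat : ∀ a : A, f ((algebraMap A (W.comap f) a : W.comap f) : K₁) = g (algebraMap A B a))

/-- `W.comap f` is unramified over `A`; then `W` is unramified over the discrete valuation ring `B`. -/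
theorem unram_core (hgW : ∀ b, g b ∈ W) (hw : EtRam.IsWeaklyUnramified A (W.comap f))
    [Algebra.IsSeparable (ResidueField A) (ResidueField (W.comap f))]
    (π : A) (hπ : maximalIdeal A = Ideal.span {π})
    (ϖ : B) (hϖ : maximalIdeal B = Ideal.span {ϖ}) (hϖ0 : g ϖ ≠ 0)
    (hsep : ∀ w : M, w ≠ 0 → ∃ n : ℕ, W.valuation (g ϖ) ^ n < W.valuation w)
    (hgen : ∀ m : M, ∃ x y : (W.comap f) ⊗[A] B, theta f W g hcompat y ≠ 0 ∧
      m = theta f W g hcompat x / theta f W g hcompat y)
    [Algebra B W] [IsLocalHom (algebraMap B W)]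
    (hgW' : ∀ b, ((algebraMap B W b : W) : M) = g b) :
    (∀ w : M, W.valuation w < 1 → ∃ y ∈ W, w = g ϖ * y) ∧
      Algebra.IsSeparable (ResidueField B) (ResidueField W) := by
  classical
  set Θ := theta f W g hcompat with hΘ
  have hΘW : ∀ y, Θ y ∈ W := theta_mem f W g hcompat hgW
  have hπ₁ : maximalIdeal (W.comap f) = Ideal.span {algebraMap A (W.comap f) π} := by
    have h1 : (maximalIdeal A).map (algebraMap A (W.comap f)) = maximalIdeal (W.comap f) := hw
    rw [← h1, hπ, Ideal.map_span, Set.image_singleton]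
  have hΘϖ : Θ ((1 : W.comap f) ⊗ₜ[A] ϖ) = g ϖ := by
    rw [hΘ, theta_tmul, OneMemClass.coe_one, map_one, one_mul]
  have hπm : π ∈ maximalIdeal A := hπ ▸ Ideal.mem_span_singleton_self π
  have hϖm : ϖ ∈ maximalIdeal B := hϖ ▸ Ideal.mem_span_singleton_self ϖ
  -- kernel
  have hker : ∀ z, rho A (W.comap f) B z = 0 →
      ∃ x', Θ z = Θ ((1 : W.comap f) ⊗ₜ[A] ϖ) * Θ x' := by
    intro z hz
    have h1 : z ∈ RingHom.ker (rho A (W.comap f) B) := hz
    rw [ker_rho_eq_span A (W.comap f) B _ hπ₁ ϖ hϖ] at h1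
    have hπB : algebraMap A B π ∈ maximalIdeal B := by
      rw [mem_maximalIdeal, mem_nonunits_iff]
      intro hu
      exact (mem_maximalIdeal π).mp hπm (IsLocalHom.map_nonunit π hu)
    rw [hϖ] at hπB
    obtain ⟨c, hc⟩ := Ideal.mem_span_singleton'.mp hπB
    have h2 : (algebraMap A (W.comap f) π) ⊗ₜ[A] (1 : B) =
        ((1 : W.comap f) ⊗ₜ[A] ϖ) * ((1 : W.comap f) ⊗ₜ[A] c) := by
      rw [Algebra.TensorProduct.tmul_mul_tmul, one_mul, mul_comm ϖ c, hc,
        Algebra.algebraMap_eq_smul_one, Algebra.algebraMap_eq_smul_one, TensorProduct.smul_tmul]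
    have h3 : z ∈ Ideal.span {(1 : W.comap f) ⊗ₜ[A] ϖ} := by
      refine (Ideal.span_le.mpr ?_) h1
      rintro _ (rfl | rfl)
      · rw [h2]; exact Ideal.mul_mem_right _ _ (Ideal.mem_span_singleton_self _)
      · exact Ideal.mem_span_singleton_self _
    obtain ⟨x', hx'⟩ := Ideal.mem_span_singleton'.mp h3
    exact ⟨x', by rw [← hx', map_mul, mul_comm]⟩
  haveI hTred : IsReduced (ResidueField (W.comap f) ⊗[ResidueField A] ResidueField B) :=
    Groth.Agent.Lib.Helper14.GeomRed.isReduced_tensor_of_isSeparable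
  have hmax := forall_isMaximal_tensor (ResidueField A) (ResidueField (W.comap f)) (ResidueField B)
  have hρ := rho_surjective A (W.comap f) B
  have hΘ0 : Θ ((1 : W.comap f) ⊗ₜ[A] ϖ) ≠ 0 := by rw [hΘϖ]; exact hϖ0
  have hvϖ : W.valuation (g ϖ) < 1 := by
    have h1 : algebraMap B W ϖ ∈ maximalIdeal W := by
      rw [mem_maximalIdeal, mem_nonunits_iff]
      intro hu
      exact (mem_maximalIdeal ϖ).mp hϖm (IsLocalHom.map_nonunit ϖ hu)
    have h2 := (W.valuation_lt_one_iff _).mp h1
    rwa [hgW'] at h2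
  have hΘ1 : W.valuation (Θ ((1 : W.comap f) ⊗ₜ[A] ϖ)) < 1 := by rw [hΘϖ]; exact hvϖ
  have hsep' : ∀ w : M, w ≠ 0 →
      ∃ n : ℕ, W.valuation (Θ ((1 : W.comap f) ⊗ₜ[A] ϖ)) ^ n < W.valuation w := by
    rw [hΘϖ]; exact hsep
  refine ⟨fun w hw1 => ?_, ?_⟩
  · obtain ⟨y, hyW, hy⟩ := aexists_eq_mul_of_lt_one W Θ hΘW ((1 : W.comap f) ⊗ₜ[A] ϖ)
      (rho A (W.comap f) B) hρ hker hΘ0 hΘ1 hmax hsep' hgen w hw1
    exact ⟨y, hyW, by rw [hy, hΘϖ]⟩
  · -- separability of the residue extension
    let ψ' : ResidueField (W.comap f) →+* ResidueField W :=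
      ResidueField.map (EtRam.inclOfComap W f)
    have hcomp : ∀ a : ResidueField A,
        ψ' (algebraMap (ResidueField A) (ResidueField (W.comap f)) a) =
        algebraMap (ResidueField B) (ResidueField W)
          (algebraMap (ResidueField A) (ResidueField B) a) := by
      intro a
      obtain ⟨a₀, rfl⟩ := residue_surjective a
      show residue W (EtRam.inclOfComap W f (algebraMap A (W.comap f) a₀)) =
        residue W (algebraMap B W (algebraMap A B a₀))
      refine congrArg (residue W) (Subtype.ext ?_)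
      rw [hgW']; exact hcompat a₀
    have hsep1 : ∀ x' : ResidueField (W.comap f), IsSeparable (ResidueField B) (ψ' x') := by
      intro x'
      have h1 : IsSeparable (ResidueField A) x' := Algebra.IsSeparable.isSeparable _ x'
      have hpx : Polynomial.aeval x' (minpoly (ResidueField A) x') = 0 := minpoly.aeval _ _
      have h2 : Polynomial.aeval (ψ' x') ((minpoly (ResidueField A) x').map
          (algebraMap (ResidueField A) (ResidueField B))) = 0 := by
        have hcomp' : ψ'.comp (algebraMap (ResidueField A) (ResidueField (W.comap f))) =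
            (algebraMap (ResidueField B) (ResidueField W)).comp
              (algebraMap (ResidueField A) (ResidueField B)) := RingHom.ext hcomp
        rw [Polynomial.aeval_def, Polynomial.eval₂_map, ← hcomp']
        have h3 := congrArg ψ' hpx
        rw [Polynomial.aeval_def, Polynomial.hom_eval₂, map_zero] at h3
        exact h3
      have h4 : minpoly (ResidueField B) (ψ' x') ∣ (minpoly (ResidueField A) x').map
          (algebraMap (ResidueField A) (ResidueField B)) := minpoly.dvd _ _ h2
      exact (Polynomial.Separable.map h1).of_dvd h4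
    let ΘW : (W.comap f) ⊗[A] B →+* W := Θ.codRestrict W.toSubring hΘW
    let R' : (W.comap f) ⊗[A] B →+* ResidueField W := (residue W).comp ΘW
    have hall : ∀ z : (W.comap f) ⊗[A] B,
        R' z ∈ separableClosure (ResidueField B) (ResidueField W) := by
      intro z
      induction z using TensorProduct.induction_on with
      | zero => rw [map_zero]; exact zero_mem _
      | add x y hx hy => rw [map_add]; exact add_mem hx hy
      | tmul v b =>
        have h1 : ΘW (v ⊗ₜ b) = EtRam.inclOfComap W f v * algebraMap B W b := by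
          apply Subtype.ext
          show Θ (v ⊗ₜ b) = ((EtRam.inclOfComap W f v : W) : M) * ((algebraMap B W b : W) : M)
          rw [hΘ, theta_tmul, hgW']; rfl
        have h2 : R' (v ⊗ₜ b) = ψ' (residue (W.comap f) v) *
            algebraMap (ResidueField B) (ResidueField W) (residue B b) := by
          show residue W (ΘW (v ⊗ₜ b)) = _
          rw [h1, map_mul]
          rfl
        rw [h2]
        exact mul_mem (mem_separableClosure_iff.mpr (hsep1 _)) (algebraMap_mem _ _)
    rw [← separableClosure.eq_top_iff, eq_top_iff]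
    intro x _
    obtain ⟨z, hz⟩ := asurj W Θ hΘW ((1 : W.comap f) ⊗ₜ[A] ϖ)
      (rho A (W.comap f) B) hρ hker hΘ0 hΘ1 hmax hsep' hgen x
    have : x = R' z := hz
    rw [this]
    exact hall z

end Core

end

section
open IsLocalRing TensorProduct Groth.Agent.Lib.R2H1.EtRamTower Groth.Agent.Lib.R2H1.EtRam
  Groth.Agent.Lib.R2H1.EtRamSmooth Groth.Agent.Lib.R2H1.EtRamAbh
section Main

variable (A B K L : Type u) [CommRing A] [IsDomain A] [IsDiscreteValuationRing A]
  [CommRing B] [IsDomain B] [IsDiscreteValuationRing B] [Algebra A B] [IsLocalHom (algebraMap A B)]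
  [Field K] [Field L] [Algebra A K] [IsFractionRing A K] [Algebra B L] [IsFractionRing B L]
  [Algebra K L] [Algebra A L] [IsScalarTower A K L] [IsScalarTower A B L]
  (K₁ : Type u) [Field K₁] [Algebra K K₁]
  (M : Type u) [Field M] [Algebra K M] [Algebra L M] [Algebra K₁ M] [IsScalarTower K L M]
  [IsScalarTower K K₁ M]

theorem unram_local [Algebra.IsAlgebraic K K₁]
    (h : EtRam.IsUnramifiedExt A ((algebraMap K K₁).comp (algebraMap A K)))
    (hgen : Algebra.adjoin L (Set.range (algebraMap K₁ M)) = ⊤) :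
    EtRam.IsUnramifiedExt B ((algebraMap L M).comp (algebraMap B L)) := by
  intro W hdom hloc
  letI algBW : Algebra B W :=
    (RingHom.codRestrict ((algebraMap L M).comp (algebraMap B L)) W hdom.1).toAlgebra
  have hmemA := algebraMap_compat A B K L K₁ M
  have hmem : ∀ a : A, ((algebraMap K K₁).comp (algebraMap A K)) a ∈
      W.comap (algebraMap K₁ M) := fun a => by
    show algebraMap K₁ M _ ∈ W
    rw [RingHom.comp_apply, hmemA]; exact hdom.1 _
  have hdomA : EtRam.Dominates A ((algebraMap K K₁).comp (algebraMap A K))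
      (W.comap (algebraMap K₁ M)) := by
    apply dominates_comap
    refine ⟨fun a => ?_, fun a ha => ?_⟩
    · rw [RingHom.comp_apply, RingHom.comp_apply, hmemA]; exact hdom.1 _
    · rw [RingHom.comp_apply, RingHom.comp_apply, hmemA]
      apply hdom.2
      rw [mem_maximalIdeal, mem_nonunits_iff] at ha ⊢
      exact fun hu => ha (IsLocalHom.map_nonunit a hu)
  letI algAV : Algebra A (W.comap (algebraMap K₁ M)) :=
    (RingHom.codRestrict ((algebraMap K K₁).comp (algebraMap A K))
      (W.comap (algebraMap K₁ M)) hdomA.1).toAlgebra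
  haveI locAV : IsLocalHom (algebraMap A (W.comap (algebraMap K₁ M))) :=
    isLocalHom_codRestrict _ _ hdomA
  have hcompat : ∀ a : A, algebraMap K₁ M
      ((algebraMap A (W.comap (algebraMap K₁ M)) a : W.comap (algebraMap K₁ M)) : K₁) =
      ((algebraMap L M).comp (algebraMap B L)) (algebraMap A B a) := fun a => hmemA a
  obtain ⟨hwu, hsepres⟩ := @h (W.comap (algebraMap K₁ M)) hdomA locAV
  haveI := hsepres
  obtain ⟨π, hπ⟩ := IsDiscreteValuationRing.exists_irreducible A
  obtain ⟨ϖ, hϖ⟩ := IsDiscreteValuationRing.exists_irreducible B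
  haveI : Algebra.IsAlgebraic L M := isAlgebraic_of_adjoin K L K₁ M hgen
  have hϖ0 : ((algebraMap L M).comp (algebraMap B L)) ϖ ≠ 0 := by
    intro h0
    have h1 : algebraMap B L ϖ = 0 := (map_eq_zero (algebraMap L M)).mp h0
    exact hϖ.ne_zero ((IsFractionRing.to_map_eq_zero_iff (K := L)).mp h1)
  have hϖm : ϖ ∈ maximalIdeal B := hϖ.maximalIdeal_eq ▸ Ideal.mem_span_singleton_self ϖ
  have hvϖ : W.valuation (((algebraMap L M).comp (algebraMap B L)) ϖ) < 1 := hdom.2 ϖ hϖm
  have hsep : ∀ w : M, w ≠ 0 →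
      ∃ n : ℕ, W.valuation (((algebraMap L M).comp (algebraMap B L)) ϖ) ^ n < W.valuation w := by
    intro w hw0
    obtain ⟨j, hj⟩ := exists_pow_le W ((algebraMap L M).comp (algebraMap B L)) (fun b => rfl)
      hdom.1 ϖ hϖ w hw0
    refine ⟨j + 1, lt_of_lt_of_le ?_ hj⟩
    exact pow_lt_pow_right_of_lt_one₀ (zero_lt_iff.mpr ((W.valuation.ne_zero_iff).mpr hϖ0)) hvϖ
      (Nat.lt_succ_self _)
  have hgen' := exists_theta_div (algebraMap K₁ M) W ((algebraMap L M).comp (algebraMap B L))
    hcompat L (fun b => rfl) hgen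
  obtain ⟨hmaxW, hsepW⟩ := unram_core (algebraMap K₁ M) W ((algebraMap L M).comp (algebraMap B L))
    hcompat hdom.1 hwu π hπ.maximalIdeal_eq ϖ hϖ.maximalIdeal_eq hϖ0 hsep hgen' (fun b => rfl)
  refine ⟨?_, hsepW⟩
  show (maximalIdeal B).map (algebraMap B W) = maximalIdeal W
  apply le_antisymm
  · rw [Ideal.map_le_iff_le_comap]
    intro x hx
    rw [Ideal.mem_comap, mem_maximalIdeal, mem_nonunits_iff]
    intro hu
    exact (mem_maximalIdeal x).mp hx (IsLocalHom.map_nonunit x hu)
  · intro w hwm
    have hv : W.valuation (w : M) < 1 := (W.valuation_lt_one_iff w).mp hwm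
    obtain ⟨y, hyW, hy⟩ := hmaxW (w : M) hv
    have : w = algebraMap B W ϖ * ⟨y, hyW⟩ := Subtype.ext hy
    rw [this]
    exact Ideal.mul_mem_right _ _ (Ideal.mem_map_of_mem _ hϖm)

end Main

theorem unram_baseChange (A B K L K' : Type u) [CommRing A] [IsDomain A]
    [IsDiscreteValuationRing A] [CommRing B] [IsDomain B] [IsDiscreteValuationRing B] [Algebra A B]
    [IsLocalHom (algebraMap A B)]
    [Field K] [Field L] [Field K'] [Algebra A K] [IsFractionRing A K] [Algebra B L]
    [IsFractionRing B L]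
    [Algebra K L] [Algebra A L] [IsScalarTower A K L] [IsScalarTower A B L]
    [Algebra K K'] [Algebra.IsAlgebraic K K']
    (h : EtRam.IsUnramifiedExt A ((algebraMap K K').comp (algebraMap A K)))
    (F : Type u) [Field F] [Algebra (K' ⊗[K] L) F]
    (hF : Function.Surjective (algebraMap (K' ⊗[K] L) F)) :
    EtRam.IsUnramifiedExt B ((algebraMap (K' ⊗[K] L) F).comp
      ((Algebra.TensorProduct.includeRight : L →ₐ[K] K' ⊗[K] L).toRingHom.comp
        (algebraMap B L))) := by
  letI algK'F : Algebra K' F := ((algebraMap (K' ⊗[K] L) F).comp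
    (Algebra.TensorProduct.includeLeft : K' →ₐ[K] K' ⊗[K] L).toRingHom).toAlgebra
  letI algLF : Algebra L F := ((algebraMap (K' ⊗[K] L) F).comp
    (Algebra.TensorProduct.includeRight : L →ₐ[K] K' ⊗[K] L).toRingHom).toAlgebra
  letI algKF : Algebra K F := ((algebraMap L F).comp (algebraMap K L)).toAlgebra
  haveI : IsScalarTower K L F := IsScalarTower.of_algebraMap_eq (fun _ => rfl)
  haveI : IsScalarTower K K' F := IsScalarTower.of_algebraMap_eq (fun x => by
    show algebraMap (K' ⊗[K] L) F (1 ⊗ₜ algebraMap K L x) =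
      algebraMap (K' ⊗[K] L) F (algebraMap K K' x ⊗ₜ 1)
    congr 1
    rw [Algebra.algebraMap_eq_smul_one, Algebra.algebraMap_eq_smul_one, TensorProduct.smul_tmul])
  have key : ∀ t : K' ⊗[K] L, algebraMap (K' ⊗[K] L) F t ∈
      Algebra.adjoin L (Set.range (algebraMap K' F)) := by
    intro t
    induction t using TensorProduct.induction_on with
    | zero => rw [map_zero]; exact zero_mem _
    | add x y hx hy => rw [map_add]; exact add_mem hx hy
    | tmul k l =>
      have : algebraMap (K' ⊗[K] L) F (k ⊗ₜ l) = algebraMap L F l * algebraMap K' F k := by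
        show _ = algebraMap (K' ⊗[K] L) F (1 ⊗ₜ l) * algebraMap (K' ⊗[K] L) F (k ⊗ₜ 1)
        rw [← map_mul, Algebra.TensorProduct.tmul_mul_tmul, one_mul, mul_one]
      rw [this]
      exact mul_mem (Subalgebra.algebraMap_mem _ _) (Algebra.subset_adjoin ⟨k, rfl⟩)
  have hgen : Algebra.adjoin L (Set.range (algebraMap K' F)) = ⊤ := by
    rw [eq_top_iff]
    intro m _
    obtain ⟨t, rfl⟩ := hF m
    exact key t
  exact unram_local A B K L K' F h hgen

end

end Groth.Agent.Lib.R2H1.EtRamBC
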