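import Mathlib
import Groth.Prelude.Def_EtRam
import Groth.Agent.Lib.R2H1EtRam
import Groth.Agent.Lib.R2H1EtRamTower
import Groth.Agent.Lib.R2H1EtRamSmooth
import Groth.Agent.Lib.R2H1EtRamAbh
import Groth.Agent.Lib.Helper14GeomRed
import Groth.Agent.Lib.R2H1EtRamBC

/-!
# Base change of tamely ramified extensions along an extension of DVRs (helper1, run 2)

Generalised Abhyankar lemma (no divisibility assumption on the ramification indices).

* `abh_poly2`: abstract descent over `S₀[X][Y]` with `X ↦ θ` (a `d`-th root of a unit) and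
  `Y ↦ τ` (the new uniformiser), `th a₁ = τ^k θ^s`, `th a₂ = τ^m θ^t`.
* `exists_bezout_nat`: `gcd(m,k) = 1 → ∃ s t, s m = t k + 1`.
* `residue_theta_mem_separableClosure`.
* `tame_core`: ring-level statement: `W ∩ K₁` tame over `A` of index `e₁`, `B` a DVR over `A`; then
  `e(W/B) ∣ e₁` and `κ(W)/κ(B)` is separable algebraic.
* `tame_local`, `tame_baseChange` (statement S9307).
-/

set_option autoImplicit false
set_option linter.unusedSectionVars false
set_option linter.style.haveILetI false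

universe u

namespace Groth.Agent.Lib.R2H1.EtRamBCTame

section
open IsLocalRing TensorProduct Polynomial Groth.Agent.Lib.R2H1.EtRamTower Groth.Agent.Lib.R2H1.EtRam
  Groth.Agent.Lib.R2H1.EtRamSmooth Groth.Agent.Lib.R2H1.EtRamAbh
section Poly

variable {S₀ T M : Type u} [CommRing S₀] [CommRing T] [Field M] (W : ValuationSubring M)
  (th : S₀ →+* M) (hthW : ∀ s, th s ∈ W) (r : S₀ →+* T) (hr : Function.Surjective r)
  (a₁ a₂ : S₀) (hkr : RingHom.ker r = Ideal.span {a₁, a₂})
  (θ τ : M) (hvθ : W.valuation θ = 1) (w : S₀) (d m k s t : ℕ) (hd : d ≠ 0) (hm : m ≠ 0)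
  (hk : k ≠ 0)
  (hthw : th w = θ ^ d) (h1 : th a₁ = τ ^ k * θ ^ s) (h2 : th a₂ = τ ^ m * θ ^ t)
  (hwu : IsUnit (r w)) (hdu : IsUnit ((d : ℕ) : T))

include hthW hr hkr hvθ hd hm hk hthw h1 h2 hwu hdu in
theorem abh_poly2 [Nontrivial T] [IsReduced T]
    (hmax : ∀ p : Ideal T, p.IsPrime → p.IsMaximal)
    (hτ0 : τ ≠ 0) (hτ1 : W.valuation τ < 1)
    (hsepB : ∀ x : M, x ≠ 0 → ∃ j : ℕ, W.valuation (th a₂) ^ j ≤ W.valuation x)
    (hgen : ∀ m' : M, ∃ x y : S₀, th y ≠ 0 ∧ m' = th x / th y) :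
    (∀ x : M, W.valuation x < 1 → ∃ y ∈ W, x = τ * y) ∧
    (∀ Sub : Subring (ResidueField W), (∀ s, residue W ⟨th s, hthW s⟩ ∈ Sub) →
      residue W ⟨θ, (W.valuation_le_one_iff _).mp hvθ.le⟩ ∈ Sub → ∀ x, x ∈ Sub) := by
  classical
  have hθW : θ ∈ W := (W.valuation_le_one_iff _).mp hvθ.le
  have hτW : τ ∈ W := (W.valuation_le_one_iff _).mp hτ1.le
  let Θ₀ : S₀[X] →+* M := Polynomial.eval₂RingHom th θ
  have hΘ₀C : ∀ s, Θ₀ (C s) = th s := fun s => Polynomial.eval₂_C _ _
  have hΘ₀X : Θ₀ X = θ := Polynomial.eval₂_X _ _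
  have hΘ₀W : ∀ y, Θ₀ y ∈ W := by
    intro y
    show Polynomial.eval₂ th θ y ∈ W
    rw [Polynomial.eval₂_eq_sum_range]
    exact Subring.sum_mem W.toSubring fun i _ => W.mul_mem _ _ (hthW _) (pow_mem hθW i)
  let Θ : S₀[X][X] →+* M := Polynomial.eval₂RingHom Θ₀ τ
  have hΘC : ∀ s, Θ (C s) = Θ₀ s := fun s => Polynomial.eval₂_C _ _
  have hΘX : Θ X = τ := Polynomial.eval₂_X _ _
  have hΘW : ∀ y, Θ y ∈ W := by
    intro y
    show Polynomial.eval₂ Θ₀ τ y ∈ W
    rw [Polynomial.eval₂_eq_sum_range]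
    exact Subring.sum_mem W.toSubring fun i _ => W.mul_mem _ _ (hΘ₀W _) (pow_mem hτW i)
  -- the fibre ring
  set wbar := r w with hwbar
  set Pbar : T[X] := X ^ d - C wbar with hPbar
  have hPm : Pbar.Monic := monic_X_pow_sub_C' d hd wbar
  have hPs : Pbar.Separable := separable_X_pow_sub_C' d hdu wbar hwu
  haveI hred' : IsReduced (AdjoinRoot Pbar) := isReduced_adjoinRoot hPm hPs
  have hmax' := forall_isMaximal_adjoinRoot hmax hPm
  let ρ : S₀[X][X] →+* AdjoinRoot Pbar :=
    ((AdjoinRoot.mk Pbar).comp (Polynomial.mapRingHom r)).comp Polynomial.constantCoeff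
  have hρ : Function.Surjective ρ := by
    intro x
    obtain ⟨p, rfl⟩ := AdjoinRoot.mk_surjective x
    obtain ⟨p', rfl⟩ := Polynomial.map_surjective _ hr p
    refine ⟨C p', ?_⟩
    show AdjoinRoot.mk Pbar (Polynomial.map r ((C p' : S₀[X][X]).coeff 0)) = _
    rw [Polynomial.coeff_C_zero]
  -- the kernel
  set P : S₀[X] := X ^ d - C w with hP
  have hPmap : P.map r = Pbar := by
    rw [hP, hPbar, Polynomial.map_sub, Polynomial.map_pow, Polynomial.map_X, Polynomial.map_C]
  have hΘP : Θ₀ P = 0 := by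
    rw [hP, map_sub, map_pow, hΘ₀X, hΘ₀C, hthw, sub_self]
  let J : Ideal S₀[X][X] := Ideal.comap Θ.rangeRestrict (Ideal.span {Θ.rangeRestrict X})
  have hJ : ∀ z, z ∈ J ↔ ∃ x', Θ z = Θ X * Θ x' := by
    intro z
    rw [Ideal.mem_comap, Ideal.mem_span_singleton']
    constructor
    · rintro ⟨⟨a, x', rfl⟩, ha⟩
      refine ⟨x', ?_⟩
      have h1 := congrArg Subtype.val ha
      rw [mul_comm]
      exact h1.symm
    · rintro ⟨x', hx'⟩
      refine ⟨Θ.rangeRestrict x', Subtype.ext ?_⟩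
      show Θ x' * Θ X = Θ z
      rw [hx', mul_comm]
  have hJX : (X : S₀[X][X]) ∈ J := (hJ _).mpr ⟨1, by rw [map_one, mul_one]⟩
  have hJ1 : C (C a₁) ∈ J := by
    refine (hJ _).mpr ⟨X ^ (k - 1) * C (X ^ s), ?_⟩
    rw [hΘC, hΘ₀C, h1, map_mul, map_pow, hΘX, hΘC, map_pow, hΘ₀X, ← mul_assoc, ← pow_succ']
    congr 2
    omega
  have hJ2 : C (C a₂) ∈ J := by
    refine (hJ _).mpr ⟨X ^ (m - 1) * C (X ^ t), ?_⟩
    rw [hΘC, hΘ₀C, h2, map_mul, map_pow, hΘX, hΘC, map_pow, hΘ₀X, ← mul_assoc, ← pow_succ']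
    congr 2
    omega
  have hJP : C P ∈ J := (hJ _).mpr ⟨0, by rw [map_zero, mul_zero, hΘC, hΘP]⟩
  have hkerJ : (RingHom.ker r).map (C : S₀ →+* S₀[X]) ≤ J.comap (C : S₀[X] →+* S₀[X][X]) := by
    rw [Ideal.map_le_iff_le_comap, hkr, Ideal.span_le]
    rintro x (rfl | hx)
    · exact hJ1
    · rw [Set.mem_singleton_iff] at hx
      subst hx
      exact hJ2
  have hker : ∀ z, ρ z = 0 → ∃ x', Θ z = Θ X * Θ x' := by
    intro z hz
    rw [← hJ]
    have h3 : C (z.coeff 0) ∈ J := by
      have h1 : Pbar ∣ (z.coeff 0).map r := AdjoinRoot.mk_eq_zero.mp hz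
      obtain ⟨qbar, hq⟩ := h1
      obtain ⟨q, rfl⟩ := Polynomial.map_surjective _ hr qbar
      have h2 : (z.coeff 0 - P * q) ∈ RingHom.ker (Polynomial.mapRingHom r) := by
        rw [RingHom.mem_ker, Polynomial.coe_mapRingHom, Polynomial.map_sub, Polynomial.map_mul,
          hPmap, hq, sub_self]
      rw [Polynomial.ker_mapRingHom] at h2
      have h3 : z.coeff 0 = (z.coeff 0 - P * q) + P * q := by ring
      rw [h3, map_add, map_mul]
      exact J.add_mem (hkerJ h2) (J.mul_mem_right _ hJP)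
    have h4 : (X : S₀[X][X]) ∣ z - C (z.coeff 0) := by
      rw [Polynomial.X_dvd_iff, Polynomial.coeff_sub, Polynomial.coeff_C_zero, sub_self]
    obtain ⟨q, hq⟩ := h4
    have h5 : z = X * q + C (z.coeff 0) := by rw [← hq]; ring
    rw [h5]
    exact J.add_mem (J.mul_mem_right _ hJX) h3
  -- separation and generation
  have ht0 : Θ X ≠ 0 := by rw [hΘX]; exact hτ0
  have ht1 : W.valuation (Θ X) < 1 := by rw [hΘX]; exact hτ1
  have hq0 : W.valuation τ ≠ 0 := by
    rw [Ne, Valuation.zero_iff]; exact hτ0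
  have hqpos : 0 < W.valuation τ := zero_lt_iff.mpr hq0
  have hvϖ : W.valuation (th a₂) = W.valuation τ ^ m := by
    rw [h2, map_mul, map_pow, map_pow, hvθ, one_pow, mul_one]
  have hsep : ∀ x : M, x ≠ 0 → ∃ n : ℕ, W.valuation (Θ X) ^ n < W.valuation x := by
    intro x hx0
    obtain ⟨j, hj⟩ := hsepB x hx0
    refine ⟨m * j + 1, ?_⟩
    rw [hΘX]
    calc W.valuation τ ^ (m * j + 1) < W.valuation τ ^ (m * j) :=
          pow_lt_pow_right_of_lt_one₀ hqpos hτ1 (Nat.lt_succ_self _)
      _ = (W.valuation τ ^ m) ^ j := pow_mul _ _ _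
      _ = W.valuation (th a₂) ^ j := by rw [hvϖ]
      _ ≤ W.valuation x := hj
  have hgen' : ∀ m' : M, ∃ x y : S₀[X][X], Θ y ≠ 0 ∧ m' = Θ x / Θ y := by
    intro m'
    obtain ⟨x, y, hy, hm'⟩ := hgen m'
    exact ⟨C (C x), C (C y), by rw [hΘC, hΘ₀C]; exact hy, by
      rw [hΘC, hΘC, hΘ₀C, hΘ₀C]; exact hm'⟩
  refine ⟨fun x hx1 => ?_, fun Sub hS1 hS2 x => ?_⟩
  · obtain ⟨y, hyW, hy⟩ :=
      aexists_eq_mul_of_lt_one W Θ hΘW X ρ hρ hker ht0 ht1 hmax' hsep hgen' x hx1
    exact ⟨y, hyW, by rw [hy, hΘX]⟩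
  · obtain ⟨z, hz⟩ := asurj W Θ hΘW X ρ hρ hker ht0 ht1 hmax' hsep hgen' x
    rw [hz]
    clear hz
    let ΘW : S₀[X][X] →+* W := Θ.codRestrict W.toSubring hΘW
    let R' : S₀[X][X] →+* ResidueField W := (residue W).comp ΘW
    show R' z ∈ Sub
    have hR'0 : ∀ z₀ : S₀[X], R' (C z₀) ∈ Sub := by
      intro z₀
      induction z₀ using Polynomial.induction_on with
      | C a =>
        have : R' (C (C a)) = residue W ⟨th a, hthW a⟩ :=
          congrArg (residue W) (Subtype.ext (by show Θ (C (C a)) = th a; rw [hΘC, hΘ₀C]))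
        rw [this]; exact hS1 a
      | add p q hp hq => rw [map_add, map_add]; exact Sub.add_mem hp hq
      | monomial n a h =>
        have h2 : R' (C X) = residue W ⟨θ, hθW⟩ :=
          congrArg (residue W) (Subtype.ext (by show Θ (C X) = θ; rw [hΘC, hΘ₀X]))
        rw [pow_succ, ← mul_assoc, map_mul, map_mul, h2]
        exact Sub.mul_mem h hS2
    induction z using Polynomial.induction_on with
    | C a => exact hR'0 a
    | add p q hp hq => rw [map_add]; exact Sub.add_mem hp hq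
    | monomial n a h =>
      have h2 : R' X = 0 := by
        show residue W (ΘW X) = 0
        rw [residue_eq_zero_iff, W.valuation_lt_one_iff]
        show W.valuation (Θ X) < 1
        exact ht1
      rw [pow_succ, ← mul_assoc, map_mul, h2, mul_zero]
      exact Sub.zero_mem

end Poly

end

section
open IsLocalRing TensorProduct Polynomial Groth.Agent.Lib.R2H1.EtRamTower Groth.Agent.Lib.R2H1.EtRam
  Groth.Agent.Lib.R2H1.EtRamSmooth Groth.Agent.Lib.R2H1.EtRamAbh
theorem exists_bezout_nat (m k : ℕ) (hm : m ≠ 0) (hk : k ≠ 0) (h : Nat.Coprime m k) :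
    ∃ s t : ℕ, s * m = t * k + 1 := by
  by_cases hk1 : k = 1
  · subst hk1
    exact ⟨1, m - 1, by omega⟩
  · have hk2 : 1 < k := by omega
    obtain ⟨s, -, hs⟩ := Nat.exists_mul_mod_eq_one_of_coprime h hk2
    refine ⟨s, m * s / k, ?_⟩
    have := Nat.div_add_mod (m * s) k
    rw [hs] at this
    rw [mul_comm s m, mul_comm (m * s / k) k]
    exact this.symm

section Core

variable {A B K₁ M : Type u} [CommRing A] [IsLocalRing A] [CommRing B] [IsLocalRing B]
  [Algebra A B] [IsLocalHom (algebraMap A B)] [Field K₁] [Field M]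
  (f : K₁ →+* M) (W : ValuationSubring M)
  [Algebra A (W.comap f)] [IsLocalHom (algebraMap A (W.comap f))]
  (g : B →+* M)
  (hcompat : ∀ a : A, f ((algebraMap A (W.comap f) a : W.comap f) : K₁) = g (algebraMap A B a))

/-- residues of `theta`-images are separable over `κ(B)` when `κ(W ∩ K₁)/κ(A)` is separable -/
theorem residue_theta_mem_separableClosure (hgW : ∀ b, g b ∈ W)
    [Algebra.IsSeparable (ResidueField A) (ResidueField (W.comap f))]
    [Algebra B W] [IsLocalHom (algebraMap B W)]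
    (hgW' : ∀ b, ((algebraMap B W b : W) : M) = g b) (z : (W.comap f) ⊗[A] B) :
    residue W ⟨theta f W g hcompat z, theta_mem f W g hcompat hgW z⟩ ∈
      separableClosure (ResidueField B) (ResidueField W) := by
  set Θ := theta f W g hcompat with hΘ
  have hΘW : ∀ y, Θ y ∈ W := theta_mem f W g hcompat hgW
  let ψ' : ResidueField (W.comap f) →+* ResidueField W :=
    ResidueField.map (EtRam.inclOfComap W f)
  have hcomp : ∀ a : ResidueField A,
      ψ' (algebraMap (ResidueField A) (ResidueField (W.comap f)) a) =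
      algebraMap (ResidueField B) (ResidueField W)
        (algebraMap (ResidueField A) (ResidueField B) a) := by
    intro a
    obtain ⟨a₀, rfl⟩ := residue_surjective a
    show residue W (EtRam.inclOfComap W f (algebraMap A (W.comap f) a₀)) =
      residue W (algebraMap B W (algebraMap A B a₀))
    refine congrArg (residue W) (Subtype.ext ?_)
    rw [hgW']; exact hcompat a₀
  have hsep1 : ∀ x' : ResidueField (W.comap f), IsSeparable (ResidueField B) (ψ' x') := by
    intro x'
    have h1 : IsSeparable (ResidueField A) x' := Algebra.IsSeparable.isSeparable _ x'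
    have hpx : Polynomial.aeval x' (minpoly (ResidueField A) x') = 0 := minpoly.aeval _ _
    have h2 : Polynomial.aeval (ψ' x') ((minpoly (ResidueField A) x').map
        (algebraMap (ResidueField A) (ResidueField B))) = 0 := by
      have hcomp' : ψ'.comp (algebraMap (ResidueField A) (ResidueField (W.comap f))) =
          (algebraMap (ResidueField B) (ResidueField W)).comp
            (algebraMap (ResidueField A) (ResidueField B)) := RingHom.ext hcomp
      rw [Polynomial.aeval_def, Polynomial.eval₂_map, ← hcomp']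
      have h3 := congrArg ψ' hpx
      rw [Polynomial.aeval_def, Polynomial.hom_eval₂, map_zero] at h3
      exact h3
    have h4 : minpoly (ResidueField B) (ψ' x') ∣ (minpoly (ResidueField A) x').map
        (algebraMap (ResidueField A) (ResidueField B)) := minpoly.dvd _ _ h2
    exact (Polynomial.Separable.map h1).of_dvd h4
  let ΘW : (W.comap f) ⊗[A] B →+* W := Θ.codRestrict W.toSubring hΘW
  let R' : (W.comap f) ⊗[A] B →+* ResidueField W := (residue W).comp ΘW
  show R' z ∈ separableClosure (ResidueField B) (ResidueField W)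
  induction z using TensorProduct.induction_on with
  | zero => rw [map_zero]; exact zero_mem _
  | add x y hx hy => rw [map_add]; exact add_mem hx hy
  | tmul v b =>
    have h1 : ΘW (v ⊗ₜ b) = EtRam.inclOfComap W f v * algebraMap B W b := by
      apply Subtype.ext
      show Θ (v ⊗ₜ b) = ((EtRam.inclOfComap W f v : W) : M) * ((algebraMap B W b : W) : M)
      rw [hΘ, theta_tmul, hgW']; rfl
    have h2 : R' (v ⊗ₜ b) = ψ' (residue (W.comap f) v) *
        algebraMap (ResidueField B) (ResidueField W) (residue B b) := by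
      show residue W (ΘW (v ⊗ₜ b)) = _
      rw [h1, map_mul]
      rfl
    rw [h2]
    exact mul_mem (mem_separableClosure_iff.mpr (hsep1 _)) (algebraMap_mem _ _)

theorem tame_core (hgW : ∀ b, g b ∈ W) (π : A)
    (π₁ : W.comap f) (hπ₁ : maximalIdeal (W.comap f) = Ideal.span {π₁}) (hπ₁0 : (π₁ : K₁) ≠ 0)
    (ϖ : B) (hϖ : maximalIdeal B = Ideal.span {ϖ}) (hϖ0 : g ϖ ≠ 0)
    (u₁ : (W.comap f)ˣ) (u : Bˣ) (e₁ e₂ : ℕ) (he₁ : e₁ ≠ 0) (he₂ : e₂ ≠ 0)
    (hu₁ : algebraMap A (W.comap f) π = u₁ * π₁ ^ e₁)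
    (hu : algebraMap A B π = u * ϖ ^ e₂)
    (he₁A : (e₁ : ResidueField A) ≠ 0)
    [Algebra.IsSeparable (ResidueField A) (ResidueField (W.comap f))]
    (hsepB : ∀ w : M, w ≠ 0 → ∃ j : ℕ, W.valuation (g ϖ) ^ j ≤ W.valuation w)
    (hgen : ∀ m : M, ∃ x y : (W.comap f) ⊗[A] B, theta f W g hcompat y ≠ 0 ∧
      m = theta f W g hcompat x / theta f W g hcompat y)
    [Algebra B W] [IsLocalHom (algebraMap B W)]
    (hgW' : ∀ b, ((algebraMap B W b : W) : M) = g b) :
    (∃ m : ℕ, m ∣ e₁ ∧ Ideal.ramificationIdx' (maximalIdeal B) (maximalIdeal W) = m) ∧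
      Algebra.IsSeparable (ResidueField B) (ResidueField W) := by
  classical
  set th := theta f W g hcompat with hth
  have hthW : ∀ s, th s ∈ W := theta_mem f W g hcompat hgW
  set x : M := f (π₁ : K₁) with hx
  set y : M := g ϖ with hy
  have hx0 : x ≠ 0 := fun h => hπ₁0 ((map_eq_zero f).mp h)
  have hy0 : y ≠ 0 := hϖ0
  -- arithmetic
  set d := Nat.gcd e₁ e₂ with hd
  have hdpos : 0 < d := Nat.gcd_pos_of_pos_left _ (Nat.pos_of_ne_zero he₁)
  have hd0 : d ≠ 0 := hdpos.ne'
  set m := e₁ / d with hm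
  set k := e₂ / d with hk
  have he₁' : e₁ = d * m := (Nat.mul_div_cancel' (Nat.gcd_dvd_left e₁ e₂)).symm
  have he₂' : e₂ = d * k := (Nat.mul_div_cancel' (Nat.gcd_dvd_right e₁ e₂)).symm
  have hm0 : m ≠ 0 := by
    intro h; rw [h, mul_zero] at he₁'; exact he₁ he₁'
  have hk0 : k ≠ 0 := by
    intro h; rw [h, mul_zero] at he₂'; exact he₂ he₂'
  have hcop : Nat.Coprime m k := Nat.coprime_div_gcd_div_gcd hdpos
  obtain ⟨s, t, hst⟩ := exists_bezout_nat m k hm0 hk0 hcop
  set θ : M := x ^ m / y ^ k with hθ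
  set τ : M := y ^ s / x ^ t with hτ
  -- units
  have hfu₁ : f ((u₁ : W.comap f) : K₁) *
      f (((u₁⁻¹ : (W.comap f)ˣ) : W.comap f) : K₁) = 1 := by
    rw [← map_mul]
    have h1 : ((u₁ : W.comap f) * ((u₁⁻¹ : (W.comap f)ˣ) : W.comap f)) = 1 := Units.mul_inv u₁
    have h2 := congrArg (fun x : W.comap f => (x : K₁)) h1
    simp only [MulMemClass.coe_mul, OneMemClass.coe_one] at h2
    rw [h2, map_one]
  have hgu : g (u : B) * g ((u⁻¹ : Bˣ) : B) = 1 := by rw [← map_mul, Units.mul_inv, map_one]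
  have hrel : f ((u₁ : W.comap f) : K₁) * x ^ e₁ = g (u : B) * y ^ e₂ := by
    have h1 : f ((algebraMap A (W.comap f) π : W.comap f) : K₁) =
        f ((u₁ : W.comap f) : K₁) * x ^ e₁ := by
      rw [hu₁, MulMemClass.coe_mul, SubmonoidClass.coe_pow, map_mul, map_pow]
    have h2 : g (algebraMap A B π) = g (u : B) * y ^ e₂ := by rw [hu, map_mul, map_pow]
    rw [← h1, ← h2]; exact hcompat π
  have hθd : θ ^ d = f (((u₁⁻¹ : (W.comap f)ˣ) : W.comap f) : K₁) * g (u : B) := by
    rw [hθ, div_pow, ← pow_mul, ← pow_mul, mul_comm m d, mul_comm k d, ← he₁', ← he₂',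
      div_eq_iff (pow_ne_zero _ hy0)]
    calc x ^ e₁ = (f ((u₁ : W.comap f) : K₁) *
          f (((u₁⁻¹ : (W.comap f)ˣ) : W.comap f) : K₁)) * x ^ e₁ := by rw [hfu₁, one_mul]
      _ = f (((u₁⁻¹ : (W.comap f)ˣ) : W.comap f) : K₁) *
          (f ((u₁ : W.comap f) : K₁) * x ^ e₁) := by ring
      _ = _ := by rw [hrel]; ring
  have hvu₁ : W.valuation (f (((u₁⁻¹ : (W.comap f)ˣ) : W.comap f) : K₁)) = 1 := by
    refine val_eq_one_of_mul_eq_one W _ (f ((u₁ : W.comap f) : K₁))
      (((u₁⁻¹ : (W.comap f)ˣ) : W.comap f)).2 ((u₁ : W.comap f)).2 ?_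
    rw [mul_comm]; exact hfu₁
  have hvu : W.valuation (g (u : B)) = 1 :=
    val_eq_one_of_mul_eq_one W _ (g ((u⁻¹ : Bˣ) : B)) (hgW _) (hgW _) hgu
  have hvθ : W.valuation θ = 1 := by
    apply val_eq_one_of_pow_eq_one W θ d hd0
    rw [← map_pow, hθd, map_mul, hvu₁, hvu, one_mul]
  have hθW : θ ∈ W := (W.valuation_le_one_iff _).mp hvθ.le
  have hθ0 : θ ≠ 0 := by
    intro h; rw [h, map_zero] at hvθ; exact zero_ne_one hvθ
  -- the relations
  have hxτ : x = τ ^ k * θ ^ s := by
    rw [hτ, hθ, div_pow, div_pow, ← pow_mul, ← pow_mul, ← pow_mul, ← pow_mul, div_mul_div_comm,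
      eq_div_iff (mul_ne_zero (pow_ne_zero _ hx0) (pow_ne_zero _ hy0)),
      show m * s = t * k + 1 by rw [mul_comm]; exact hst, pow_succ, mul_comm k s]
    ring
  have hyτ : y = τ ^ m * θ ^ t := by
    rw [hτ, hθ, div_pow, div_pow, ← pow_mul, ← pow_mul, ← pow_mul, ← pow_mul, div_mul_div_comm,
      eq_div_iff (mul_ne_zero (pow_ne_zero _ hx0) (pow_ne_zero _ hy0)),
      hst, pow_succ, mul_comm k t, mul_comm m t]
    ring
  have hτ0 : τ ≠ 0 := div_ne_zero (pow_ne_zero _ hy0) (pow_ne_zero _ hx0)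
  have hϖm : ϖ ∈ maximalIdeal B := hϖ ▸ Ideal.mem_span_singleton_self ϖ
  have hvy : W.valuation y < 1 := by
    have h1 : algebraMap B W ϖ ∈ maximalIdeal W := by
      rw [mem_maximalIdeal, mem_nonunits_iff]
      intro hunit
      exact (mem_maximalIdeal ϖ).mp hϖm (IsLocalHom.map_nonunit ϖ hunit)
    have h2 := (W.valuation_lt_one_iff _).mp h1
    rwa [hgW'] at h2
  have hvyτ : W.valuation y = W.valuation τ ^ m := by
    rw [hyτ, map_mul, map_pow, map_pow, hvθ, one_pow, mul_one]
  have hτ1 : W.valuation τ < 1 := by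
    by_contra hge
    have h1 : 1 ≤ W.valuation τ := not_lt.mp hge
    have h2 : 1 ≤ W.valuation τ ^ m := one_le_pow₀ h1
    rw [← hvyτ] at h2
    exact absurd hvy (not_lt.mpr h2)
  have hτW : τ ∈ W := (W.valuation_le_one_iff _).mp hτ1.le
  -- the data for abh_poly2
  have hth1 : th (π₁ ⊗ₜ[A] (1 : B)) = x := by
    rw [hth, theta_tmul, map_one, mul_one]
  have hth2 : th ((1 : W.comap f) ⊗ₜ[A] ϖ) = y := by
    rw [hth, theta_tmul, OneMemClass.coe_one, map_one, one_mul]
  set w : (W.comap f) ⊗[A] B :=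
    (((u₁⁻¹ : (W.comap f)ˣ)) : W.comap f) ⊗ₜ[A] (u : B) with hw
  have hthw : th w = θ ^ d := by rw [hw, hth, theta_tmul, hθd]
  have hwu : IsUnit w := by
    refine IsUnit.of_mul_eq_one ((u₁ : W.comap f) ⊗ₜ[A] ((u⁻¹ : Bˣ) : B)) ?_
    rw [hw, Algebra.TensorProduct.tmul_mul_tmul, Units.inv_mul, Units.mul_inv]
    rfl
  haveI : Nontrivial (ResidueField (W.comap f) ⊗[ResidueField A] ResidueField B) :=
    Algebra.TensorProduct.nontrivial_of_algebraMap_injective_of_isDomain _ _ _
      (RingHom.injective (algebraMap (ResidueField A) (ResidueField (W.comap f))))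
      (RingHom.injective (algebraMap (ResidueField A) (ResidueField B)))
  have hdA : (d : ResidueField A) ≠ 0 := by
    intro h; apply he₁A; rw [he₁', Nat.cast_mul, h, zero_mul]
  have hdu : IsUnit ((d : ℕ) : ResidueField (W.comap f) ⊗[ResidueField A] ResidueField B) := by
    have h1 : ((d : ℕ) : ResidueField (W.comap f) ⊗[ResidueField A] ResidueField B) =
        algebraMap (ResidueField A) _ (d : ResidueField A) := by
      rw [map_natCast]
    rw [h1]
    exact (IsUnit.mk0 _ hdA).map _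
  haveI hTred : IsReduced (ResidueField (W.comap f) ⊗[ResidueField A] ResidueField B) :=
    Groth.Agent.Lib.Helper14.GeomRed.isReduced_tensor_of_isSeparable
  have hmax := forall_isMaximal_tensor (ResidueField A) (ResidueField (W.comap f)) (ResidueField B)
  obtain ⟨hc1, hc2⟩ := abh_poly2 W th hthW (rho A (W.comap f) B)
    (rho_surjective A (W.comap f) B)
    (π₁ ⊗ₜ[A] (1 : B)) ((1 : W.comap f) ⊗ₜ[A] ϖ)
    (ker_rho_eq_span A (W.comap f) B π₁ hπ₁ ϖ hϖ) θ τ hvθ w d m k s t hd0 hm0 hk0 hthw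
    (by rw [hth1]; exact hxτ) (by rw [hth2]; exact hyτ) (hwu.map _) hdu hmax hτ0 hτ1
    (by rw [hth2]; exact hsepB) hgen
  refine ⟨?_, ?_⟩
  · -- the ramification index
    have hmaxW : maximalIdeal W = Ideal.span {(⟨τ, hτW⟩ : W)} := by
      apply le_antisymm
      · intro z hz
        have hz1 : W.valuation (z : M) < 1 := (W.valuation_lt_one_iff _).mp hz
        obtain ⟨y', hy'W, hy'⟩ := hc1 _ hz1
        rw [Ideal.mem_span_singleton']
        exact ⟨⟨y', hy'W⟩, Subtype.ext (by rw [hy', mul_comm]; rfl)⟩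
      · rw [Ideal.span_le, Set.singleton_subset_iff]
        exact (W.valuation_lt_one_iff _).mpr hτ1
    have hne : (⟨τ, hτW⟩ : W) ≠ 0 := fun h => hτ0 (congrArg Subtype.val h)
    have hθinvW : θ⁻¹ ∈ W := by
      rw [← W.valuation_le_one_iff, map_inv₀, hvθ, inv_one]
    let uθ : Wˣ := ⟨⟨θ, hθW⟩, ⟨θ⁻¹, hθinvW⟩, Subtype.ext (mul_inv_cancel₀ hθ0),
      Subtype.ext (inv_mul_cancel₀ hθ0)⟩
    have hram : Ideal.ramificationIdx' (maximalIdeal B) (maximalIdeal W) = m := by
      refine ramificationIdx'_eq_of_eq ϖ hϖ (⟨τ, hτW⟩ : W) hmaxW hne m (uθ ^ t) ?_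
      apply Subtype.ext
      rw [hgW', Units.val_pow_eq_pow_val]
      show y = θ ^ t * τ ^ m
      rw [hyτ]; ring
    exact ⟨m, Dvd.intro_left d he₁'.symm, hram⟩
  · -- separability
    rw [← separableClosure.eq_top_iff, eq_top_iff]
    intro z _
    refine hc2 (separableClosure (ResidueField B) (ResidueField W)).toSubring ?_ ?_ z
    · intro s'
      exact residue_theta_mem_separableClosure f W g hcompat hgW hgW' s'
    · set Sc := separableClosure (ResidueField B) (ResidueField W) with hSc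
      set tbar : ResidueField W := residue W ⟨θ, hθW⟩ with htbar
      have hc : residue W ⟨th w, hthW w⟩ ∈ Sc :=
        residue_theta_mem_separableClosure f W g hcompat hgW hgW' w
      have htd : tbar ^ d = residue W ⟨th w, hthW w⟩ := by
        rw [htbar, ← map_pow]
        congr 1
        exact Subtype.ext hthw.symm
      have ht0 : tbar ≠ 0 := by
        rw [htbar, Ne, residue_eq_zero_iff, W.valuation_lt_one_iff]
        show ¬ W.valuation θ < 1
        rw [hvθ]; exact lt_irrefl _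
      have hc0 : (⟨residue W ⟨th w, hthW w⟩, hc⟩ : Sc) ≠ 0 := by
        intro h
        have h1 := congrArg Subtype.val h
        simp only at h1
        rw [← htd] at h1
        exact pow_ne_zero d ht0 h1
      have hdSc : ((d : ℕ) : Sc) ≠ 0 := by
        let φ : ResidueField A →+* Sc :=
          (algebraMap (ResidueField B) Sc).comp (algebraMap (ResidueField A) (ResidueField B))
        have h1 : ((d : ℕ) : Sc) = φ (d : ResidueField A) := by rw [map_natCast]
        rw [h1]
        exact (map_ne_zero φ).mpr hdA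
      have hq : (X ^ d - C (⟨residue W ⟨th w, hthW w⟩, hc⟩ : Sc) : Sc[X]).Separable :=
        separable_X_pow_sub_C _ hdSc hc0
      have haeval : Polynomial.aeval tbar
          (X ^ d - C (⟨residue W ⟨th w, hthW w⟩, hc⟩ : Sc) : Sc[X]) = 0 := by
        rw [map_sub, map_pow, Polynomial.aeval_X, Polynomial.aeval_C, htd]
        exact sub_self _
      have h4 := minpoly.dvd Sc tbar haeval
      have hsepθ : IsSeparable Sc tbar := hq.of_dvd h4
      have hmem : tbar ∈ separableClosure Sc (ResidueField W) :=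
        mem_separableClosure_iff.mpr hsepθ
      rw [separableClosure.separableClosure_eq_bot] at hmem
      obtain ⟨z', hz'⟩ := IntermediateField.mem_bot.mp hmem
      rw [← hz']
      exact z'.2

end Core

end

section
open IsLocalRing TensorProduct Polynomial Groth.Agent.Lib.R2H1.EtRamTower Groth.Agent.Lib.R2H1.EtRam
  Groth.Agent.Lib.R2H1.EtRamSmooth Groth.Agent.Lib.R2H1.EtRamAbh
section Main

variable (A B K L : Type u) [CommRing A] [IsDomain A] [IsDiscreteValuationRing A]
  [CommRing B] [IsDomain B] [IsDiscreteValuationRing B] [Algebra A B] [IsLocalHom (algebraMap A B)]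
  [Field K] [Field L] [Algebra A K] [IsFractionRing A K] [Algebra B L] [IsFractionRing B L]
  [Algebra K L] [Algebra A L] [IsScalarTower A K L] [IsScalarTower A B L]
  (K₁ : Type u) [Field K₁] [Algebra K K₁]
  (M : Type u) [Field M] [Algebra K M] [Algebra L M] [Algebra K₁ M] [IsScalarTower K L M]
  [IsScalarTower K K₁ M]

theorem tame_local [FiniteDimensional K K₁] (hinj : Function.Injective (algebraMap A B))
    (h : EtRam.IsTamelyRamified A ((algebraMap K K₁).comp (algebraMap A K)))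
    (hgen : Algebra.adjoin L (Set.range (algebraMap K₁ M)) = ⊤) :
    EtRam.IsTamelyRamified B ((algebraMap L M).comp (algebraMap B L)) := by
  intro W hdom hloc
  letI algBW : Algebra B W :=
    (RingHom.codRestrict ((algebraMap L M).comp (algebraMap B L)) W hdom.1).toAlgebra
  have hmemA := algebraMap_compat A B K L K₁ M
  have hdomA : EtRam.Dominates A ((algebraMap K K₁).comp (algebraMap A K))
      (W.comap (algebraMap K₁ M)) := by
    apply dominates_comap
    refine ⟨fun a => ?_, fun a ha => ?_⟩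
    · rw [RingHom.comp_apply, RingHom.comp_apply, hmemA]; exact hdom.1 _
    · rw [RingHom.comp_apply, RingHom.comp_apply, hmemA]
      apply hdom.2
      rw [mem_maximalIdeal, mem_nonunits_iff] at ha ⊢
      exact fun hu => ha (IsLocalHom.map_nonunit a hu)
  letI algAV : Algebra A (W.comap (algebraMap K₁ M)) :=
    (RingHom.codRestrict ((algebraMap K K₁).comp (algebraMap A K))
      (W.comap (algebraMap K₁ M)) hdomA.1).toAlgebra
  haveI locAV : IsLocalHom (algebraMap A (W.comap (algebraMap K₁ M))) :=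
    isLocalHom_codRestrict _ _ hdomA
  have hcompat : ∀ a : A, algebraMap K₁ M
      ((algebraMap A (W.comap (algebraMap K₁ M)) a : W.comap (algebraMap K₁ M)) : K₁) =
      ((algebraMap L M).comp (algebraMap B L)) (algebraMap A B a) := fun a => hmemA a
  obtain ⟨hsepres, htameA⟩ := @h (W.comap (algebraMap K₁ M)) hdomA locAV
  haveI := hsepres
  have hAV : ∀ a, ((algebraMap A (W.comap (algebraMap K₁ M)) a : W.comap (algebraMap K₁ M)) : K₁) =
      algebraMap K K₁ (algebraMap A K a) := fun _ => rfl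
  obtain ⟨⟨π₁, hπ₁, hπ₁0⟩, hpow, hfin⟩ := ka_facts A K K₁ (W.comap (algebraMap K₁ M)) hAV
  haveI : Algebra.IsAlgebraic L M := isAlgebraic_of_adjoin K L K₁ M hgen
  have hπ₁0' : π₁ ≠ 0 := fun h => hπ₁0 (by rw [h]; rfl)
  -- uniformizers
  obtain ⟨π, hπ⟩ := IsDiscreteValuationRing.exists_irreducible A
  have hπ0 : π ≠ 0 := hπ.ne_zero
  have hmA : maximalIdeal A = Ideal.span {π} := hπ.maximalIdeal_eq
  obtain ⟨ϖ, hϖ⟩ := IsDiscreteValuationRing.exists_irreducible B
  have hmB : maximalIdeal B = Ideal.span {ϖ} := hϖ.maximalIdeal_eq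
  have hπB0 : algebraMap A B π ≠ 0 := fun h => hπ0 (hinj (by rw [h, map_zero]))
  obtain ⟨e₂, u, hu⟩ := IsDiscreteValuationRing.eq_unit_mul_pow_irreducible hπB0 hϖ
  have he₂ : e₂ ≠ 0 := ne_zero_of_eq π hπ.not_isUnit ϖ e₂ u hu
  have hπm : algebraMap A (W.comap (algebraMap K₁ M)) π ∈
      maximalIdeal (W.comap (algebraMap K₁ M)) := by
    rw [mem_maximalIdeal, mem_nonunits_iff]
    intro hunit
    exact hπ.not_isUnit (IsLocalHom.map_nonunit π hunit)
  obtain ⟨N, c, hNc⟩ := hpow π₁ hπ₁ π hπ0 hπm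
  obtain ⟨e₁, u₁, hu₁⟩ := exists_unit_mul_pow (W.comap (algebraMap K₁ M)) π₁ hπ₁ hπ₁0' N _ c hNc
  have he₁_eq : Ideal.ramificationIdx' (maximalIdeal A)
      (maximalIdeal (W.comap (algebraMap K₁ M))) = e₁ :=
    ramificationIdx'_eq_of_eq π hmA π₁ hπ₁ hπ₁0' e₁ u₁ hu₁
  have he₁ : e₁ ≠ 0 := ne_zero_of_eq π hπ.not_isUnit π₁ e₁ u₁ hu₁
  -- tameness
  have he₁A : (e₁ : ResidueField A) ≠ 0 := by
    obtain ⟨c', hc'⟩ := CharP.exists (ResidueField A)
    rcases CharP.char_is_prime_or_zero (ResidueField A) c' with hpr | h0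
    · rw [Ne, CharP.cast_eq_zero_iff (ResidueField A) c', ← he₁_eq]
      exact htameA c' hpr hc'
    · subst h0
      haveI := CharP.charP_to_charZero (ResidueField A)
      exact Nat.cast_ne_zero.mpr he₁
  have hϖ0 : ((algebraMap L M).comp (algebraMap B L)) ϖ ≠ 0 := by
    intro h0
    have h1 : algebraMap B L ϖ = 0 := (map_eq_zero (algebraMap L M)).mp h0
    exact hϖ.ne_zero ((IsFractionRing.to_map_eq_zero_iff (K := L)).mp h1)
  have hsepB := exists_pow_le (L := L) W ((algebraMap L M).comp (algebraMap B L)) (fun b => rfl)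
    hdom.1 ϖ hϖ
  have hgen' := exists_theta_div (algebraMap K₁ M) W ((algebraMap L M).comp (algebraMap B L))
    hcompat L (fun b => rfl) hgen
  obtain ⟨⟨m, hmdvd, hram⟩, hsepW⟩ := tame_core (algebraMap K₁ M) W
    ((algebraMap L M).comp (algebraMap B L)) hcompat hdom.1 π π₁ hπ₁ hπ₁0 ϖ hmB hϖ0 u₁ u e₁ e₂
    he₁ he₂ hu₁ hu he₁A hsepB hgen' (fun b => rfl)
  refine ⟨hsepW, ?_⟩
  intro p hp hcharB hdvd
  rw [hram] at hdvd
  have hcharA : CharP (ResidueField A) p :=
    (algebraMap (ResidueField A) (ResidueField B)).charP (RingHom.injective _) p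
  apply htameA p hp hcharA
  rw [he₁_eq]
  exact dvd_trans hdvd hmdvd

end Main

theorem tame_baseChange (A B K L K' : Type u) [CommRing A] [IsDomain A]
    [IsDiscreteValuationRing A] [CommRing B] [IsDomain B] [IsDiscreteValuationRing B] [Algebra A B]
    [IsLocalHom (algebraMap A B)] (hinj : Function.Injective (algebraMap A B))
    [Field K] [Field L] [Field K'] [Algebra A K] [IsFractionRing A K] [Algebra B L]
    [IsFractionRing B L]
    [Algebra K L] [Algebra A L] [IsScalarTower A K L] [IsScalarTower A B L]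
    [Algebra K K'] [FiniteDimensional K K']
    (h : EtRam.IsTamelyRamified A ((algebraMap K K').comp (algebraMap A K)))
    (F : Type u) [Field F] [Algebra (K' ⊗[K] L) F]
    (hF : Function.Surjective (algebraMap (K' ⊗[K] L) F)) :
    EtRam.IsTamelyRamified B ((algebraMap (K' ⊗[K] L) F).comp
      ((Algebra.TensorProduct.includeRight : L →ₐ[K] K' ⊗[K] L).toRingHom.comp
        (algebraMap B L))) := by
  letI algK'F : Algebra K' F := ((algebraMap (K' ⊗[K] L) F).comp
    (Algebra.TensorProduct.includeLeft : K' →ₐ[K] K' ⊗[K] L).toRingHom).toAlgebra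
  letI algLF : Algebra L F := ((algebraMap (K' ⊗[K] L) F).comp
    (Algebra.TensorProduct.includeRight : L →ₐ[K] K' ⊗[K] L).toRingHom).toAlgebra
  letI algKF : Algebra K F := ((algebraMap L F).comp (algebraMap K L)).toAlgebra
  haveI : IsScalarTower K L F := IsScalarTower.of_algebraMap_eq (fun _ => rfl)
  haveI : IsScalarTower K K' F := IsScalarTower.of_algebraMap_eq (fun x => by
    show algebraMap (K' ⊗[K] L) F (1 ⊗ₜ algebraMap K L x) =
      algebraMap (K' ⊗[K] L) F (algebraMap K K' x ⊗ₜ 1)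
    congr 1
    rw [Algebra.algebraMap_eq_smul_one, Algebra.algebraMap_eq_smul_one, TensorProduct.smul_tmul])
  have key : ∀ t : K' ⊗[K] L, algebraMap (K' ⊗[K] L) F t ∈
      Algebra.adjoin L (Set.range (algebraMap K' F)) := by
    intro t
    induction t using TensorProduct.induction_on with
    | zero => rw [map_zero]; exact zero_mem _
    | add x y hx hy => rw [map_add]; exact add_mem hx hy
    | tmul k l =>
      have : algebraMap (K' ⊗[K] L) F (k ⊗ₜ l) = algebraMap L F l * algebraMap K' F k := by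
        show _ = algebraMap (K' ⊗[K] L) F (1 ⊗ₜ l) * algebraMap (K' ⊗[K] L) F (k ⊗ₜ 1)
        rw [← map_mul, Algebra.TensorProduct.tmul_mul_tmul, one_mul, mul_one]
      rw [this]
      exact mul_mem (Subalgebra.algebraMap_mem _ _) (Algebra.subset_adjoin ⟨k, rfl⟩)
  have hgen : Algebra.adjoin L (Set.range (algebraMap K' F)) = ⊤ := by
    rw [eq_top_iff]
    intro m _
    obtain ⟨t, rfl⟩ := hF m
    exact key t
  exact tame_local A B K L K' F hinj h hgen

end

end Groth.Agent.Lib.R2H1.EtRamBCTame
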