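import Mathlib
import Groth.Prelude.Def_EtRam
import Groth.Agent.Lib.R2H1EtRam

/-!
# Totally ramified Eisenstein-type extensions of degree `p^k` (helper1, run 2)

* `maximal_eq`, `isLocalRing`, `maximalIdeal_eq`, `isDVR`: a finite domain `B = A[ϖ]` over a DVR `A`
  with `π ∈ ϖB`, `ϖ^N ∈ πB` and `B = A + ϖB` is a DVR with uniformiser `ϖ`.
* `V0`, `ram`: such a `B` gives a totally ramified extension (`ϖ^n = π · unit`); adapted from the
  earlier team's proof of S1987.
* `eisPoly π n q = X^q + π^n X - π`: monic, Eisenstein, irreducible; `eisPoly_map_separable`.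
* `package`: field-level data on `FractionRing B`.
* `exists_totRam_pos`, `totRam_self`, `exists_totRam` (statement S7157).
-/

set_option autoImplicit false
set_option linter.unusedSectionVars false
set_option linter.style.haveILetI false

universe u

namespace Groth.Agent.Lib.R2H1.EtRamEis

section
open IsLocalRing Polynomial Groth.Agent.Lib.R2H1.EtRam
section abs

variable {A : Type u} [CommRing A] [IsDomain A] [IsDiscreteValuationRing A] {π : A}
  {B : Type u} [CommRing B] [IsDomain B] [Algebra A B] [Module.Finite A B]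

theorem unif_mem_of_isMaximal (hπ : Irreducible π) (ϖ : B) (N : ℕ) (c' : B)
    (h2 : ϖ ^ N = algebraMap A B π * c') (Q : Ideal B) [Q.IsMaximal] :
    ϖ ∈ Q ∧ Q.comap (algebraMap A B) = maximalIdeal A := by
  haveI : Algebra.IsIntegral A B := Algebra.IsIntegral.of_finite A B
  have h1 : (Q.comap (algebraMap A B)).IsMaximal :=
    Ideal.isMaximal_comap_of_isIntegral_of_isMaximal Q
  have h2' : Q.comap (algebraMap A B) = maximalIdeal A := IsLocalRing.eq_maximalIdeal h1
  refine ⟨?_, h2'⟩
  have h3 : π ∈ Q.comap (algebraMap A B) := by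
    rw [h2', hπ.maximalIdeal_eq]; exact Ideal.mem_span_singleton_self π
  have h4 : ϖ ^ N ∈ Q := by rw [h2]; exact Q.mul_mem_right _ h3
  exact (Ideal.IsMaximal.isPrime inferInstance).mem_of_pow_mem N h4

theorem maximal_eq (hπ : Irreducible π) (ϖ : B) (N : ℕ) (c c' : B)
    (h1 : algebraMap A B π = ϖ * c) (h2 : ϖ ^ N = algebraMap A B π * c')
    (hdec : ∀ x : B, ∃ (a : A) (y : B), x = algebraMap A B a + ϖ * y)
    (Q : Ideal B) [Q.IsMaximal] : Q = Ideal.span {ϖ} := by
  obtain ⟨h3, h4⟩ := unif_mem_of_isMaximal hπ ϖ N c' h2 Q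
  apply le_antisymm
  · intro x hx
    obtain ⟨a, y, rfl⟩ := hdec x
    have ha : algebraMap A B a ∈ Q := by
      have : ϖ * y ∈ Q := Q.mul_mem_right _ h3
      exact (Ideal.add_mem_iff_left Q this).mp hx
    have ha' : a ∈ maximalIdeal A := by rw [← h4]; exact ha
    rw [hπ.maximalIdeal_eq, Ideal.mem_span_singleton] at ha'
    obtain ⟨b, rfl⟩ := ha'
    refine Ideal.add_mem _ ?_ (Ideal.mul_mem_right _ _ (Ideal.mem_span_singleton_self ϖ))
    rw [map_mul, h1, mul_assoc]
    exact Ideal.mul_mem_right _ _ (Ideal.mem_span_singleton_self ϖ)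
  · rw [Ideal.span_singleton_le_iff_mem]; exact h3

theorem isLocalRing (hπ : Irreducible π) (ϖ : B) (N : ℕ) (c c' : B)
    (h1 : algebraMap A B π = ϖ * c) (h2 : ϖ ^ N = algebraMap A B π * c')
    (hdec : ∀ x : B, ∃ (a : A) (y : B), x = algebraMap A B a + ϖ * y) : IsLocalRing B := by
  obtain ⟨Q, hQ⟩ := Ideal.exists_maximal B
  refine IsLocalRing.of_unique_max_ideal ⟨Q, hQ, fun Q' hQ' => ?_⟩
  haveI := hQ
  haveI := hQ'
  rw [maximal_eq hπ ϖ N c c' h1 h2 hdec Q', maximal_eq hπ ϖ N c c' h1 h2 hdec Q]

theorem maximalIdeal_eq [IsLocalRing B] (hπ : Irreducible π) (ϖ : B) (N : ℕ) (c c' : B)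
    (h1 : algebraMap A B π = ϖ * c) (h2 : ϖ ^ N = algebraMap A B π * c')
    (hdec : ∀ x : B, ∃ (a : A) (y : B), x = algebraMap A B a + ϖ * y) :
    maximalIdeal B = Ideal.span {ϖ} :=
  maximal_eq hπ ϖ N c c' h1 h2 hdec (maximalIdeal B)

theorem isDVR (hinj : Function.Injective (algebraMap A B)) (hπ : Irreducible π) (ϖ : B) (N : ℕ)
    (c c' : B)
    (h1 : algebraMap A B π = ϖ * c) (h2 : ϖ ^ N = algebraMap A B π * c')
    (hdec : ∀ x : B, ∃ (a : A) (y : B), x = algebraMap A B a + ϖ * y) :
    IsDiscreteValuationRing B := by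
  haveI := isLocalRing hπ ϖ N c c' h1 h2 hdec
  haveI : IsNoetherianRing B := IsNoetherianRing.of_finite A B
  have hmax := maximalIdeal_eq hπ ϖ N c c' h1 h2 hdec
  have hϖ0 : ϖ ≠ 0 := by
    intro h
    rw [h, zero_mul] at h1
    exact hπ.ne_zero (hinj (by rw [h1, map_zero]))
  have hnf : ¬ IsField B := by
    rw [IsLocalRing.isField_iff_maximalIdeal_eq, hmax, Ideal.span_singleton_eq_bot]
    exact hϖ0
  have hpr : (maximalIdeal B).IsPrincipal := ⟨⟨ϖ, hmax⟩⟩
  exact ((IsDiscreteValuationRing.TFAE B hnf).out 0 4).mpr hpr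

end abs

section ram

variable {A : Type u} [CommRing A] [IsDomain A] [IsDiscreteValuationRing A] {π : A}
  {n : ℕ} {B : Type u} [CommRing B] [IsDomain B] [IsDiscreteValuationRing B] [Algebra A B]
  {K : Type u} [Field K] [Algebra B K] [IsFractionRing B K]

/-- the valuation subring of `K` given by `B` -/
def V0 (B : Type u) [CommRing B] [IsDomain B] [IsDiscreteValuationRing B]
    (K : Type u) [Field K] [Algebra B K] [IsFractionRing B K] : ValuationSubring K :=
  { (algebraMap B K).range with
    mem_or_inv_mem' := fun x => by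
      rcases ValuationRing.isInteger_or_isInteger B x with ⟨b, hb⟩ | ⟨b, hb⟩
      · exact Or.inl ⟨b, hb⟩
      · exact Or.inr ⟨b, hb⟩ }

theorem mem_V0 (x : K) : x ∈ V0 B K ↔ ∃ b : B, algebraMap B K b = x := Iff.rfl

theorem ram (hπ : Irreducible π) (hn : 0 < n) (ϖ : B) (c : B) (u : Bˣ)
    (h1 : algebraMap A B π = ϖ * c)
    (hϖ : ϖ ^ n = algebraMap A B π * u)
    (hint : IsIntegral A ϖ)
    (hgen : ∀ x : B, ∃ p : A[X], x = aeval ϖ p)
    (hdec : ∀ x : B, ∃ (a : A) (y : B), x = algebraMap A B a + ϖ * y)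
    (hmax : maximalIdeal B = Ideal.span {ϖ}) :
    EtRam.IsTotallyRamified A ((algebraMap B K).comp (algebraMap A B)) := by
  set g : A →+* K := (algebraMap B K).comp (algebraMap A B) with hg
  have hιinj : Function.Injective (algebraMap B K) := IsFractionRing.injective B K
  have hϖm : ϖ ∈ maximalIdeal B := by rw [hmax]; exact Ideal.mem_span_singleton_self ϖ
  -- key facts for a dominating valuation subring
  have key : ∀ V : ValuationSubring K, EtRam.Dominates A g V →
      (∀ x : B, algebraMap B K x ∈ V) ∧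
        ∀ x : B, x ∈ maximalIdeal B → V.valuation (algebraMap B K x) < 1 := by
    intro V hV
    have hϖV : algebraMap B K ϖ ∈ V := by
      obtain ⟨P, hPm, hP⟩ := hint
      have hP' : eval₂ g (algebraMap B K ϖ) P = 0 := by
        have := congrArg (algebraMap B K) hP
        rw [Polynomial.hom_eval₂, map_zero] at this
        exact this
      have hintV : IsIntegral V (algebraMap B K ϖ) := by
        refine ⟨P.map (RingHom.codRestrict g V hV.1), hPm.map _, ?_⟩
        rw [Polynomial.eval₂_map]
        exact hP'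
      obtain ⟨y, hy⟩ := IsIntegrallyClosed.isIntegral_iff.mp hintV
      rw [← hy]; exact y.2
    have hmem : ∀ x : B, algebraMap B K x ∈ V := by
      intro x
      obtain ⟨p, rfl⟩ := hgen x
      induction p using Polynomial.induction_on with
      | C a => rw [aeval_C]; exact hV.1 a
      | add p q hp hq => rw [map_add, map_add]; exact V.add_mem _ _ hp hq
      | monomial k a ih =>
        rw [pow_succ, ← mul_assoc, map_mul, aeval_X, map_mul]
        exact V.mul_mem _ _ ih hϖV
    have hv : V.valuation (algebraMap B K ϖ) < 1 := by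
      by_contra hcon
      rw [not_lt] at hcon
      have h1' : V.valuation (g π) < 1 := hV.2 π (by
        rw [hπ.maximalIdeal_eq]; exact Ideal.mem_span_singleton_self π)
      have h2 : V.valuation (algebraMap B K ϖ) ^ n =
          V.valuation (g π) * V.valuation (algebraMap B K (u : B)) := by
        rw [← map_pow, ← map_pow, hϖ, map_mul, map_mul]; rfl
      have h3 : V.valuation (algebraMap B K (u : B)) ≤ 1 :=
        (V.valuation_le_one_iff _).mpr (hmem _)
      have h4 : V.valuation (algebraMap B K ϖ) ^ n < 1 := by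
        rw [h2]
        calc _ ≤ V.valuation (g π) * 1 := mul_le_mul' le_rfl h3
          _ = V.valuation (g π) := mul_one _
          _ < 1 := h1'
      exact absurd (one_le_pow₀ hcon) (not_le.mpr h4)
    refine ⟨hmem, fun x hx => ?_⟩
    rw [hmax, Ideal.mem_span_singleton] at hx
    obtain ⟨y, rfl⟩ := hx
    rw [map_mul, map_mul]
    calc V.valuation (algebraMap B K ϖ) * V.valuation (algebraMap B K y)
        ≤ V.valuation (algebraMap B K ϖ) * 1 :=
          mul_le_mul' le_rfl ((V.valuation_le_one_iff _).mpr (hmem y))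
      _ = V.valuation (algebraMap B K ϖ) := mul_one _
      _ < 1 := hv
  -- V0 dominates
  have hV0m : ∀ x : B, x ∈ maximalIdeal B → (V0 B K).valuation (algebraMap B K x) < 1 := by
    intro x hx
    rw [← ValuationSubring.mem_nonunits_iff, ValuationSubring.mem_nonunits_iff_or]
    by_cases h0 : algebraMap B K x = 0
    · exact Or.inl h0
    · refine Or.inr ?_
      rintro ⟨y, hy⟩
      have h1 : algebraMap B K (x * y) = algebraMap B K 1 := by
        rw [map_mul, hy, map_one, mul_inv_cancel₀ h0]
      have h2 : x * y = 1 := hιinj h1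
      exact (IsLocalRing.mem_maximalIdeal x).mp hx (IsUnit.of_mul_eq_one y h2)
  have hofm : ∀ a : A, a ∈ maximalIdeal A → algebraMap A B a ∈ maximalIdeal B := by
    intro a ha
    rw [hπ.maximalIdeal_eq, Ideal.mem_span_singleton] at ha
    obtain ⟨b, rfl⟩ := ha
    rw [map_mul, h1, mul_assoc]
    exact Ideal.mul_mem_right _ _ hϖm
  have hdom0 : EtRam.Dominates A g (V0 B K) :=
    ⟨fun a => ⟨algebraMap A B a, rfl⟩, fun a ha => hV0m _ (hofm a ha)⟩
  -- uniqueness
  have hle : ∀ V : ValuationSubring K, EtRam.Dominates A g V → ∀ x : K, x ∈ V → x ∈ V0 B K := by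
    intro V hV x hx
    rcases ValuationRing.isInteger_or_isInteger B x with ⟨b, hb⟩ | ⟨b, hb⟩
    · exact ⟨b, hb⟩
    · by_cases hbu : IsUnit b
      · obtain ⟨u', rfl⟩ := hbu
        refine ⟨((u'⁻¹ : Bˣ) : B), ?_⟩
        have h1 : algebraMap B K ((u'⁻¹ : Bˣ) : B) * algebraMap B K (u' : B) = 1 := by
          rw [← map_mul, Units.inv_mul, map_one]
        have hb' : algebraMap B K (u' : B) = x⁻¹ := hb
        rw [hb'] at h1
        by_cases hx0 : x = 0
        · rw [hx0, inv_zero, mul_zero] at h1; exact absurd h1 zero_ne_one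
        · field_simp at h1
          exact h1
      · have hbm : b ∈ maximalIdeal B := (IsLocalRing.mem_maximalIdeal b).mpr hbu
        have h1 := (key V hV).2 b hbm
        have hb' : algebraMap B K b = x⁻¹ := hb
        rw [hb'] at h1
        by_cases hx0 : x = 0
        · exact ⟨0, by rw [map_zero, hx0]⟩
        · exfalso
          have h2 : V.valuation x ≤ 1 := (V.valuation_le_one_iff _).mpr hx
          have h3 : V.valuation x * V.valuation x⁻¹ = 1 := by
            rw [← map_mul, mul_inv_cancel₀ hx0, map_one]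
          have h4 : V.valuation x * V.valuation x⁻¹ < 1 := by
            calc V.valuation x * V.valuation x⁻¹ ≤ 1 * V.valuation x⁻¹ :=
                  mul_le_mul' h2 le_rfl
              _ = V.valuation x⁻¹ := one_mul _
              _ < 1 := h1
          rw [h3] at h4
          exact lt_irrefl _ h4
  have huniq : ∀ V : ValuationSubring K, EtRam.Dominates A g V → V = V0 B K := by
    intro V hV
    apply le_antisymm
    · intro x hx; exact hle V hV x hx
    · rintro x ⟨b, rfl⟩; exact (key V hV).1 b
  refine ⟨⟨V0 B K, hdom0⟩, fun V V' hV hV' => (huniq V hV).trans (huniq V' hV').symm, ?_⟩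
  intro V hV r
  obtain ⟨⟨x, hx⟩, rfl⟩ := Ideal.Quotient.mk_surjective r
  obtain ⟨y, rfl⟩ := hle V hV x hx
  obtain ⟨a, z, rfl⟩ := hdec y
  refine ⟨a, ?_⟩
  apply Ideal.Quotient.eq.mpr
  rw [ValuationSubring.valuation_lt_one_iff]
  have h1 : ((RingHom.codRestrict g V hV.1 a - ⟨algebraMap B K (algebraMap A B a + ϖ * z), hx⟩ : V) : K) =
      - algebraMap B K (ϖ * z) := by
    show g a - algebraMap B K (algebraMap A B a + ϖ * z) = _
    rw [map_add, hg]
    simp
  rw [h1, Valuation.map_neg]
  exact (key V hV).2 _ (Ideal.mul_mem_right _ _ hϖm)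

end ram

end

section
open IsLocalRing Polynomial Groth.Agent.Lib.R2H1.EtRam
section Poly

variable {A : Type u} [CommRing A] [IsDomain A] [IsDiscreteValuationRing A]
  (π : A) (n q : ℕ)

/-- the Eisenstein polynomial `X^q + π^n X - π` -/
noncomputable def eisPoly : A[X] := X ^ q + (C (π ^ n) * X - C π)

theorem eisPoly_degree_lt (hq : 2 ≤ q) : (C (π ^ n) * X - C π : A[X]).degree < q := by
  have h1 : (C (π ^ n) * X - C π : A[X]).degree ≤ 1 := by
    refine (degree_sub_le _ _).trans (max_le ?_ ?_)
    · exact (degree_C_mul_X_le _)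
    · exact degree_C_le.trans (by norm_num)
  refine lt_of_le_of_lt h1 ?_
  exact_mod_cast hq

theorem eisPoly_monic (hq : 2 ≤ q) : (eisPoly π n q).Monic :=
  monic_X_pow_add (eisPoly_degree_lt π n q hq)

theorem eisPoly_natDegree (hq : 2 ≤ q) : (eisPoly π n q).natDegree = q := by
  unfold eisPoly
  rw [natDegree_add_eq_left_of_degree_lt, natDegree_X_pow]
  rw [degree_X_pow]
  exact eisPoly_degree_lt π n q hq

theorem eisPoly_degree (hq : 2 ≤ q) : (eisPoly π n q).degree = q := by
  rw [degree_eq_natDegree (eisPoly_monic π n q hq).ne_zero, eisPoly_natDegree π n q hq]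

theorem eisPoly_coeff_zero (hq : 2 ≤ q) : (eisPoly π n q).coeff 0 = -π := by
  unfold eisPoly
  rw [coeff_add, coeff_X_pow, if_neg (by omega), coeff_sub, coeff_C_mul, coeff_X_zero, mul_zero,
    coeff_C_zero]
  ring

theorem eisPoly_coeff_mem (hq : 2 ≤ q) (hn : 1 ≤ n) (k : ℕ) (hk : k < q) :
    (eisPoly π n q).coeff k ∈ Ideal.span {π} := by
  unfold eisPoly
  rw [coeff_add, coeff_X_pow, if_neg hk.ne, coeff_sub, coeff_C_mul, coeff_X, coeff_C, zero_add]
  refine Ideal.sub_mem _ ?_ ?_
  · refine Ideal.mul_mem_right _ _ ?_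
    exact Ideal.pow_mem_of_mem _ (Ideal.mem_span_singleton_self π) n hn
  · split_ifs
    · exact Ideal.mem_span_singleton_self π
    · exact Ideal.zero_mem _

theorem eisPoly_irreducible (hπ : Irreducible π) (hq : 2 ≤ q) (hn : 1 ≤ n) :
    Irreducible (eisPoly π n q) := by
  have hπp : Prime π := hπ.prime
  have hprime : (Ideal.span {π}).IsPrime := (Ideal.span_singleton_prime hπ.ne_zero).mpr hπp
  have hmonic := eisPoly_monic π n q hq
  apply irreducible_of_eisenstein_criterion hprime
  · rw [hmonic.leadingCoeff]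
    exact (Ideal.ne_top_iff_one _).mp hprime.ne_top
  · intro k hk
    rw [eisPoly_degree π n q hq] at hk
    have hk' : k < q := by exact_mod_cast hk
    exact eisPoly_coeff_mem π n q hq hn k hk'
  · rw [eisPoly_degree π n q hq]; exact_mod_cast (by omega : 0 < q)
  · rw [eisPoly_coeff_zero π n q hq, Ideal.span_singleton_pow, Ideal.neg_mem_iff,
      Ideal.mem_span_singleton]
    rintro ⟨c, hc⟩
    have h1 : π * (1 - π * c) = 0 := by linear_combination hc
    rcases mul_eq_zero.mp h1 with h | h
    · exact hπ.ne_zero h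
    · exact hπ.not_isUnit (IsUnit.of_mul_eq_one c (by linear_combination -h))
  · exact hmonic.isPrimitive

theorem eisPoly_root : (AdjoinRoot.root (eisPoly π n q)) ^ q +
    (algebraMap A (AdjoinRoot (eisPoly π n q)) (π ^ n) * AdjoinRoot.root (eisPoly π n q) -
      algebraMap A (AdjoinRoot (eisPoly π n q)) π) = 0 := by
  have := AdjoinRoot.eval₂_root (eisPoly π n q)
  unfold eisPoly at this ⊢
  rw [eval₂_add, eval₂_X_pow, eval₂_sub, eval₂_mul, eval₂_C, eval₂_X, eval₂_C] at this
  rw [AdjoinRoot.algebraMap_eq]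
  exact this

end Poly

end

section
open IsLocalRing Polynomial Groth.Agent.Lib.R2H1.EtRam
/-- from a DVR `B` finite over `A` to the field-level data -/
theorem package (A K : Type u) [CommRing A] [IsDomain A] [IsDiscreteValuationRing A]
    [Field K] [Algebra A K] [IsFractionRing A K]
    (B : Type u) [CommRing B] [IsDomain B] [Algebra A B] [Module.Finite A B]
    (hinj : Function.Injective (algebraMap A B)) (q : ℕ) (hrank : Module.finrank A B = q)
    (ϖ : B) (hgen : ∀ x : B, ∃ P : A[X], x = aeval ϖ P)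
    (F : A[X]) (hF : aeval ϖ F = 0) (hFsep : (F.map (algebraMap A K)).Separable)
    (htot : EtRam.IsTotallyRamified A
      ((algebraMap B (FractionRing B)).comp (algebraMap A B))) :
    ∃ (L : Type u) (_ : Field L) (_ : Algebra K L) (_ : Algebra A L) (_ : IsScalarTower A K L)
      (ι : B →+* L), Module.finrank K L = q ∧ Algebra.IsSeparable K L ∧
      EtRam.IsTotallyRamified A (algebraMap A L) ∧ (∀ a, ι (algebraMap A B a) = algebraMap A L a) ∧
      ∀ b : B, ι b ∈ integralClosure A L := by
  have hinjAL : Function.Injective (algebraMap A (FractionRing B)) := by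
    rw [IsScalarTower.algebraMap_eq A B (FractionRing B)]
    exact (IsFractionRing.injective B (FractionRing B)).comp hinj
  letI algKL : Algebra K (FractionRing B) := (IsFractionRing.lift hinjAL : K →+* _).toAlgebra
  haveI : IsScalarTower A K (FractionRing B) :=
    IsScalarTower.of_algebraMap_eq (fun a => (IsFractionRing.lift_algebraMap hinjAL a).symm)
  refine ⟨FractionRing B, inferInstance, algKL, inferInstance, inferInstance,
    algebraMap B (FractionRing B), ?_, ?_, ?_, ?_, ?_⟩
  · rw [IsFractionRing.finrank_eq A K B (FractionRing B), hrank]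
  · -- separability
    rw [← separableClosure.eq_top_iff, eq_top_iff]
    intro x _
    have hϖsep : algebraMap B (FractionRing B) ϖ ∈ separableClosure K (FractionRing B) := by
      rw [mem_separableClosure_iff]
      have h1 : aeval (algebraMap B (FractionRing B) ϖ) (F.map (algebraMap A K)) = 0 := by
        rw [aeval_map_algebraMap, aeval_algebraMap_apply, hF, map_zero]
      exact hFsep.of_dvd (minpoly.dvd K _ h1)
    have hB : ∀ b : B, algebraMap B (FractionRing B) b ∈ separableClosure K (FractionRing B) := by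
      intro b
      obtain ⟨P, rfl⟩ := hgen b
      induction P using Polynomial.induction_on with
      | C a =>
        rw [aeval_C, ← IsScalarTower.algebraMap_apply A B (FractionRing B),
          IsScalarTower.algebraMap_apply A K (FractionRing B)]
        exact algebraMap_mem _ _
      | add p q hp hq => rw [map_add, map_add]; exact add_mem hp hq
      | monomial k a ih =>
        rw [pow_succ, ← mul_assoc, map_mul, aeval_X, map_mul]
        exact mul_mem ih hϖsep
    obtain ⟨b₁, b₂, hb₂, rfl⟩ := IsFractionRing.div_surjective (A := B) x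
    exact div_mem (hB b₁) (hB b₂)
  · have : algebraMap A (FractionRing B) =
        (algebraMap B (FractionRing B)).comp (algebraMap A B) :=
      IsScalarTower.algebraMap_eq A B (FractionRing B)
    rw [this]
    exact htot
  · intro a
    exact (IsScalarTower.algebraMap_apply A B (FractionRing B) a).symm
  · intro b
    haveI : Algebra.IsIntegral A B := Algebra.IsIntegral.of_finite A B
    exact (Algebra.IsIntegral.isIntegral (R := A) b).map (IsScalarTower.toAlgHom A B (FractionRing B))

end

section
open IsLocalRing Polynomial Groth.Agent.Lib.R2H1.EtRam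
theorem eisPoly_map_separable (p : ℕ) (hp : p.Prime) (A K : Type u) [CommRing A] [IsDomain A]
    [IsDiscreteValuationRing A] [Field K] [Algebra A K] [IsFractionRing A K]
    [CharP (ResidueField A) p] (π : A) (hπ : Irreducible π) (n : ℕ) (hn : 1 ≤ n) (k : ℕ)
    (hk : 1 ≤ k) :
    ((eisPoly π n (p ^ k)).map (algebraMap A K)).Separable := by
  have hq : 2 ≤ p ^ k := by
    calc 2 ≤ p := hp.two_le
      _ = p ^ 1 := (pow_one p).symm
      _ ≤ p ^ k := Nat.pow_le_pow_right hp.pos hk
  have hπK : algebraMap A K π ≠ 0 := by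
    rw [Ne, IsFractionRing.to_map_eq_zero_iff]; exact hπ.ne_zero
  by_cases hqK : ((p ^ k : ℕ) : K) = 0
  · rw [separable_def]
    have hder : derivative ((eisPoly π n (p ^ k)).map (algebraMap A K)) =
        C (algebraMap A K (π ^ n)) := by
      unfold eisPoly
      rw [Polynomial.map_add, Polynomial.map_pow, Polynomial.map_X, Polynomial.map_sub,
        Polynomial.map_mul, Polynomial.map_C, Polynomial.map_X, Polynomial.map_C, derivative_add,
        derivative_X_pow, derivative_sub, derivative_C_mul, derivative_X, derivative_C, mul_one,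
        sub_zero, hqK, C_0, zero_mul, zero_add]
    rw [hder]
    have hu : IsUnit (C (algebraMap A K (π ^ n)) : K[X]) := by
      rw [Polynomial.isUnit_iff]
      refine ⟨_, ?_, rfl⟩
      rw [map_pow]
      exact (pow_ne_zero n hπK).isUnit
    obtain ⟨v, hv⟩ := hu.exists_left_inv
    exact ⟨0, v, by rw [zero_mul, zero_add, hv]⟩
  · -- characteristic zero
    haveI : CharZero K := by
      obtain ⟨c, hc⟩ := CharP.exists K
      rcases CharP.char_is_prime_or_zero K c with hpr | h0
      · exfalso
        apply hqK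
        have h1 : ((c : ℕ) : K) = 0 := CharP.cast_eq_zero K c
        have h2 : ((c : ℕ) : A) = 0 := by
          apply IsFractionRing.injective A K
          rw [map_natCast, map_zero]; exact h1
        have h3 : ((c : ℕ) : ResidueField A) = 0 := by
          have : ((c : ℕ) : ResidueField A) = residue A ((c : ℕ) : A) := by rw [map_natCast]
          rw [this, h2, map_zero]
        have h4 : p ∣ c := (CharP.cast_eq_zero_iff (ResidueField A) p c).mp h3
        have h5 : p = c := (Nat.prime_dvd_prime_iff_eq hp hpr).mp h4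
        rw [Nat.cast_pow, h5, h1, zero_pow (by omega)]
      · subst h0
        exact CharP.charP_to_charZero K
    have hirr := eisPoly_irreducible π n (p ^ k) hπ hq hn
    have hirrK : Irreducible ((eisPoly π n (p ^ k)).map (algebraMap A K)) :=
      (Monic.irreducible_iff_irreducible_map_fraction_map (eisPoly_monic π n (p ^ k) hq)).mp hirr
    exact hirrK.separable

end

section
open IsLocalRing Polynomial Groth.Agent.Lib.R2H1.EtRam
theorem exists_totRam_pos (p : ℕ) (hp : p.Prime) (A K : Type u) [CommRing A] [IsDomain A]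
    [IsDiscreteValuationRing A] [Field K] [Algebra A K] [IsFractionRing A K]
    [CharP (ResidueField A) p] (π : A) (hπ : maximalIdeal A = Ideal.span {π}) (n : ℕ)
    (hn : 1 < n) (k : ℕ) (hk : 1 ≤ k) :
    ∃ (L : Type u) (_ : Field L) (_ : Algebra K L) (_ : Algebra A L) (_ : IsScalarTower A K L),
      Module.finrank K L = p ^ k ∧ Algebra.IsSeparable K L ∧
      EtRam.IsTotallyRamified A (algebraMap A L) ∧
      ∃ πB b b' : L, πB ∈ integralClosure A L ∧ b ∈ integralClosure A L ∧
        b' ∈ integralClosure A L ∧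
        πB ^ (p ^ k) = algebraMap A L π + algebraMap A L π ^ n * b ∧
        πB ^ (p ^ k) = algebraMap A L π + πB ^ (n * p ^ k) * b' := by
  classical
  have hπirr : Irreducible π := (IsDiscreteValuationRing.irreducible_iff_uniformizer π).mpr hπ
  set q := p ^ k with hqdef
  have hq : 2 ≤ q := by
    calc 2 ≤ p := hp.two_le
      _ = p ^ 1 := (pow_one p).symm
      _ ≤ p ^ k := Nat.pow_le_pow_right hp.pos hk
  have hq0 : 0 < q := by omega
  have hn1 : 1 ≤ n := by omega
  have hmonic := eisPoly_monic π n q hq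
  have hirr := eisPoly_irreducible π n q hπirr hq hn1
  have hprimef : Prime (eisPoly π n q) := hirr.prime
  haveI hdom : IsDomain (AdjoinRoot (eisPoly π n q)) := AdjoinRoot.isDomain_of_prime hprimef
  haveI hfin : Module.Finite A (AdjoinRoot (eisPoly π n q)) := hmonic.finite_adjoinRoot
  have hinj : Function.Injective (algebraMap A (AdjoinRoot (eisPoly π n q))) := by
    rw [AdjoinRoot.algebraMap_eq]
    apply AdjoinRoot.of.injective_of_degree_ne_zero
    rw [eisPoly_degree π n q hq]; exact_mod_cast hq0.ne'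
  set ϖ : AdjoinRoot (eisPoly π n q) := AdjoinRoot.root _ with hϖdef
  have hrel := eisPoly_root π n q
  rw [← hϖdef] at hrel
  have hgen : ∀ x : AdjoinRoot (eisPoly π n q), ∃ P : A[X], x = aeval ϖ P := by
    intro x
    obtain ⟨P, rfl⟩ := AdjoinRoot.mk_surjective x
    exact ⟨P, (AdjoinRoot.aeval_eq P).symm⟩
  have hdec : ∀ x : AdjoinRoot (eisPoly π n q),
      ∃ (a : A) (y : AdjoinRoot (eisPoly π n q)), x = algebraMap A _ a + ϖ * y := by
    intro x
    obtain ⟨P, rfl⟩ := hgen x
    refine ⟨P.coeff 0, aeval ϖ P.divX, ?_⟩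
    conv_lhs => rw [← divX_mul_X_add P]
    rw [map_add, map_mul, aeval_X, aeval_C, add_comm, mul_comm]
  have hπeq : algebraMap A (AdjoinRoot (eisPoly π n q)) π =
      ϖ ^ q + algebraMap A (AdjoinRoot (eisPoly π n q)) (π ^ n) * ϖ := by
    linear_combination -hrel
  have hpowq : ϖ ^ q = ϖ * ϖ ^ (q - 1) := by rw [← pow_succ', Nat.sub_add_cancel hq0]
  have hpown : π ^ n = π * π ^ (n - 1) := by rw [← pow_succ', Nat.sub_add_cancel hn1]
  have h1 : algebraMap A (AdjoinRoot (eisPoly π n q)) π =
      ϖ * (ϖ ^ (q - 1) + algebraMap A (AdjoinRoot (eisPoly π n q)) (π ^ n)) := by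
    rw [hπeq, hpowq]
    ring
  have h2 : ϖ ^ q = algebraMap A (AdjoinRoot (eisPoly π n q)) π *
      (1 - algebraMap A (AdjoinRoot (eisPoly π n q)) (π ^ (n - 1)) * ϖ) := by
    have h3 : algebraMap A (AdjoinRoot (eisPoly π n q)) (π ^ n) =
        algebraMap A (AdjoinRoot (eisPoly π n q)) π *
          algebraMap A (AdjoinRoot (eisPoly π n q)) (π ^ (n - 1)) := by
      rw [← map_mul, ← hpown]
    rw [h3] at hrel
    linear_combination hrel
  haveI hdvr : IsDiscreteValuationRing (AdjoinRoot (eisPoly π n q)) :=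
    isDVR hinj hπirr ϖ q _ _ h1 h2 hdec
  have hmaxB := maximalIdeal_eq hπirr ϖ q _ _ h1 h2 hdec
  have hϖm : ϖ ∈ maximalIdeal (AdjoinRoot (eisPoly π n q)) := by
    rw [hmaxB]; exact Ideal.mem_span_singleton_self ϖ
  have hcu : IsUnit (1 - algebraMap A (AdjoinRoot (eisPoly π n q)) (π ^ (n - 1)) * ϖ) := by
    by_contra hnu
    have hm : (1 - algebraMap A (AdjoinRoot (eisPoly π n q)) (π ^ (n - 1)) * ϖ) ∈
        maximalIdeal (AdjoinRoot (eisPoly π n q)) := (mem_maximalIdeal _).mpr hnu
    have h3 : (1 : AdjoinRoot (eisPoly π n q)) ∈ maximalIdeal (AdjoinRoot (eisPoly π n q)) := by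
      have := Ideal.add_mem _ hm (Ideal.mul_mem_left _
        (algebraMap A (AdjoinRoot (eisPoly π n q)) (π ^ (n - 1))) hϖm)
      rwa [sub_add_cancel] at this
    exact (Ideal.ne_top_iff_one _).mp (maximalIdeal.isMaximal _).ne_top h3
  obtain ⟨u, hu⟩ := hcu
  rw [← hu] at h2
  have hint : IsIntegral A ϖ := by
    refine ⟨eisPoly π n q, hmonic, ?_⟩
    rw [AdjoinRoot.algebraMap_eq]
    exact AdjoinRoot.eval₂_root _
  have htot := ram (K := FractionRing (AdjoinRoot (eisPoly π n q))) hπirr hq0 ϖ _ u h1 h2 hint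
    hgen hdec hmaxB
  have hrank : Module.finrank A (AdjoinRoot (eisPoly π n q)) = q := by
    rw [(AdjoinRoot.powerBasis' hmonic).finrank, AdjoinRoot.powerBasis'_dim,
      eisPoly_natDegree π n q hq]
  have hF : aeval ϖ (eisPoly π n q) = 0 := by
    rw [aeval_def, AdjoinRoot.algebraMap_eq]
    exact AdjoinRoot.eval₂_root _
  have hFsep := eisPoly_map_separable p hp A K π hπirr n hn1 k hk
  obtain ⟨L, fL, aKL, aAL, tAKL, ι, hfr, hsepL, htotL, hι, hιint⟩ :=
    package A K (AdjoinRoot (eisPoly π n q)) hinj q hrank ϖ hgen (eisPoly π n q) hF hFsep htot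
  refine ⟨L, fL, aKL, aAL, tAKL, hfr, hsepL, htotL, ι ϖ, ι (-ϖ),
    ι (-ϖ * ((u⁻¹ : (AdjoinRoot (eisPoly π n q))ˣ) : AdjoinRoot (eisPoly π n q)) ^ n),
    hιint _, hιint _, hιint _, ?_, ?_⟩
  · have h3 : ϖ ^ q = algebraMap A (AdjoinRoot (eisPoly π n q)) π +
        algebraMap A (AdjoinRoot (eisPoly π n q)) π ^ n * (-ϖ) := by
      rw [← map_pow]
      linear_combination hrel
    have h4 := congrArg ι h3
    rw [map_pow, map_add, map_mul, map_pow, hι] at h4
    exact h4
  · have h5 : algebraMap A (AdjoinRoot (eisPoly π n q)) π =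
        ϖ ^ q * ((u⁻¹ : (AdjoinRoot (eisPoly π n q))ˣ) : AdjoinRoot (eisPoly π n q)) := by
      rw [h2, mul_assoc, Units.mul_inv, mul_one]
    have h3 : ϖ ^ q = algebraMap A (AdjoinRoot (eisPoly π n q)) π +
        ϖ ^ (n * q) * (-ϖ * ((u⁻¹ : (AdjoinRoot (eisPoly π n q))ˣ) :
          AdjoinRoot (eisPoly π n q)) ^ n) := by
      have h6 : algebraMap A (AdjoinRoot (eisPoly π n q)) π ^ n =
          ϖ ^ (n * q) * ((u⁻¹ : (AdjoinRoot (eisPoly π n q))ˣ) :
            AdjoinRoot (eisPoly π n q)) ^ n := by
        rw [h5, mul_pow, ← pow_mul, mul_comm q n]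
      have h7 : ϖ ^ q = algebraMap A (AdjoinRoot (eisPoly π n q)) π +
          algebraMap A (AdjoinRoot (eisPoly π n q)) π ^ n * (-ϖ) := by
        rw [← map_pow]
        linear_combination hrel
      rw [h7, h6]
      ring
    have h4 := congrArg ι h3
    rw [map_pow, map_add, map_mul, map_pow, hι] at h4
    exact h4

end

section
open IsLocalRing Polynomial Groth.Agent.Lib.R2H1.EtRam
theorem totRam_self (A K : Type u) [CommRing A] [IsDomain A]
    [IsDiscreteValuationRing A] [Field K] [Algebra A K] [IsFractionRing A K]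
    (π : A) (hπ : maximalIdeal A = Ideal.span {π}) :
    EtRam.IsTotallyRamified A (algebraMap A K) := by
  have hπirr : Irreducible π := (IsDiscreteValuationRing.irreducible_iff_uniformizer π).mpr hπ
  have h := ram (A := A) (B := A) (K := K) (n := 1) hπirr one_pos π 1 1
    (by rw [mul_one]; rfl) (by rw [pow_one, Units.val_one, mul_one]; rfl)
    (isIntegral_algebraMap (R := A) (A := A) (x := π))
    (fun x => ⟨C x, by rw [aeval_C]; rfl⟩)
    (fun x => ⟨x, 0, by rw [mul_zero, add_zero]; rfl⟩) hπ
  have h2 : (algebraMap A K).comp (algebraMap A A) = algebraMap A K := RingHom.ext fun _ => rfl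
  rw [h2] at h
  exact h

/-- statement S7157 -/
theorem exists_totRam (p : ℕ) (hp : p.Prime) (A K : Type u) [CommRing A] [IsDomain A]
    [IsDiscreteValuationRing A] [Field K] [Algebra A K] [IsFractionRing A K]
    [CharP (ResidueField A) p] (π : A) (hπ : maximalIdeal A = Ideal.span {π}) (n : ℕ)
    (hn : 1 < n) (k : ℕ) :
    ∃ (L : Type u) (_ : Field L) (_ : Algebra K L) (_ : Algebra A L) (_ : IsScalarTower A K L),
      Module.finrank K L = p ^ k ∧ Algebra.IsSeparable K L ∧
      EtRam.IsTotallyRamified A (algebraMap A L) ∧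
      ∃ πB b b' : L, πB ∈ integralClosure A L ∧ b ∈ integralClosure A L ∧
        b' ∈ integralClosure A L ∧
        πB ^ (p ^ k) = algebraMap A L π + algebraMap A L π ^ n * b ∧
        πB ^ (p ^ k) = algebraMap A L π + πB ^ (n * p ^ k) * b' := by
  rcases Nat.eq_zero_or_pos k with hk | hk
  · subst hk
    refine ⟨K, inferInstance, inferInstance, inferInstance, inferInstance, ?_, inferInstance,
      totRam_self A K π hπ, algebraMap A K π, 0, 0, isIntegral_algebraMap, isIntegral_zero,
      isIntegral_zero, ?_, ?_⟩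
    · rw [pow_zero, Module.finrank_self]
    · rw [pow_zero, pow_one, mul_zero, add_zero]
    · rw [pow_zero, pow_one, mul_zero, add_zero]
  · exact exists_totRam_pos p hp A K π hπ n hn k hk

end

end Groth.Agent.Lib.R2H1.EtRamEis
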