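import Mathlib
import Groth.Agent.Lib.R2H1EtRamAS

/-!
# Ramification of Kummer-type extensions of degree `p` of the fraction field of a DVR of mixed
characteristic `(0, p)` (helper1, round 2)

`A` a DVR with fraction field `K` of characteristic `0` and residue characteristic `p`, containing
a primitive `p`-th root of unity `ζ`; `w = 1 - ζ`, `w^p P(t) = (1 + w t)^p - 1`, `L = K(z)`,
`P(z) = ξ`.

* `isGalois`, `finrank_eq_one_or`: Kummer extensions `K(y)`, `y^p = c`, are Galois of degree `1`
  or `p`.
* `efg'`: the fundamental identity `g · e · f = [M : K]` with explicit `g = gNum A M`.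
* `cases_of_prime`: a Galois extension of prime degree is unramified, totally ramified or weakly
  unramified with purely inseparable residue extension.
* `case2_of_inertia`, `case3_of_dvd`, `case4_of_residue`: criteria for the three cases.
* `val_aeval_monic`: valuation of a monic integral polynomial at a pole.
* `main`: the classification (= S7159).
-/

set_option autoImplicit false
set_option linter.style.haveILetI false
set_option linter.unusedSectionVars false
universe u

namespace Groth.Agent.Lib.R2H1.EtRamKum

section Part1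

open Polynomial IsLocalRing
open scoped Classical IntermediateField

section Basic

variable {p : ℕ} [hp : Fact p.Prime] {A K L : Type u} [CommRing A] [IsDomain A]
    [Field K] [Algebra A K] [IsFractionRing A K] [Field L] [Algebra K L]
    [Algebra A L] [IsScalarTower A K L] [CharZero K]

theorem natCast_ne_zero_A (A K : Type u) [CommRing A] [Field K] [Algebra A K]
    [CharZero K] (n : ℕ) (hn : n ≠ 0) : (n : A) ≠ 0 := by
  intro h
  have := congrArg (algebraMap A K) h
  rw [map_natCast, map_zero] at this
  exact hn (Nat.cast_eq_zero.mp this)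

theorem isPrimitiveRoot_A (K : Type u) [Field K] [Algebra A K] [IsFractionRing A K] [CharZero K]
    (ζ : A) (hζ : aeval ζ (cyclotomic p ℤ) = 0) : IsPrimitiveRoot ζ p := by
  haveI : NeZero ((p : ℕ) : A) := ⟨natCast_ne_zero_A A K p hp.out.ne_zero⟩
  rw [← isRoot_cyclotomic_iff, IsRoot.def, ← map_cyclotomic_int, eval_map]
  rw [aeval_def] at hζ
  have h1 : algebraMap ℤ A = Int.castRingHom A := RingHom.ext_int _ _
  rw [← h1]
  exact hζ

theorem injective_AL (A K L : Type u) [CommRing A] [IsDomain A]
    [Field K] [Algebra A K] [IsFractionRing A K] [Field L] [Algebra K L]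
    [Algebra A L] [IsScalarTower A K L] : Function.Injective (algebraMap A L) := by
  rw [IsScalarTower.algebraMap_eq A K L]
  exact (algebraMap K L).injective.comp (IsFractionRing.injective A K)

end Basic

section Kummer

variable {p : ℕ} [hp : Fact p.Prime] {K L : Type u} [Field K] [Field L] [Algebra K L] [CharZero K]
  (ζ : K) (hζ : IsPrimitiveRoot ζ p) (c : K) (y : L) (hy : y ^ p = algebraMap K L c)
  (hgen : IntermediateField.adjoin K {y} = ⊤)

include hy in
theorem isIntegral_y : IsIntegral K y := by
  refine ⟨X ^ p - C c, monic_X_pow_sub_C c hp.out.ne_zero, ?_⟩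
  simp only [eval₂_sub, eval₂_pow, eval₂_X, eval₂_C]
  rw [hy, sub_self]

include hy hgen in
theorem adjoin_eq_top : Algebra.adjoin K {y} = ⊤ := by
  rw [← IntermediateField.adjoin_simple_toSubalgebra_of_isAlgebraic (isIntegral_y c y hy).isAlgebraic,
    hgen, IntermediateField.top_toSubalgebra]

include hy hgen in
theorem finiteDimensional : FiniteDimensional K L := by
  haveI := IntermediateField.adjoin.finiteDimensional (isIntegral_y c y hy)
  rw [hgen] at this
  exact (IntermediateField.topEquiv (F := K) (E := L)).toLinearEquiv.finiteDimensional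

include hζ hy hgen in
theorem isGalois : IsGalois K L := by
  by_cases hc : c = 0
  · -- degenerate case: y = 0
    have hy0 : y = 0 := by
      rw [hc, map_zero] at hy
      exact pow_eq_zero_iff hp.out.ne_zero |>.mp hy
    rw [← isGalois_iff_isGalois_top, ← hgen, hy0,
      IntermediateField.adjoin_simple_eq_bot_iff.mpr (zero_mem _)]
    infer_instance
  · haveI : (X ^ p - C c : K[X]).IsSplittingField K L := by
      refine ⟨?_, ?_⟩
      · rw [Polynomial.map_sub, Polynomial.map_pow, Polynomial.map_C, Polynomial.map_X]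
        exact X_pow_sub_C_splits_of_isPrimitiveRoot
          (hζ.map_of_injective (algebraMap K L).injective) hy
      · rw [eq_top_iff, ← adjoin_eq_top c y hy hgen]
        apply Algebra.adjoin_mono
        rw [Set.singleton_subset_iff, mem_rootSet]
        refine ⟨X_pow_sub_C_ne_zero hp.out.pos c, ?_⟩
        simp only [map_sub, map_pow, aeval_X, aeval_C]
        rw [hy, sub_self]
    exact IsGalois.of_separable_splitting_field
      (separable_X_pow_sub_C c (Nat.cast_ne_zero.mpr hp.out.ne_zero) hc)

include hζ hy in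
theorem exists_map_eq (σ : L ≃ₐ[K] L) : ∃ i : ℕ, i < p ∧ σ y = algebraMap K L ζ ^ i * y := by
  by_cases hy0 : y = 0
  · exact ⟨0, hp.out.pos, by rw [hy0, map_zero, mul_zero]⟩
  · haveI : NeZero p := ⟨hp.out.ne_zero⟩
    have h1 : (σ y / y) ^ p = 1 := by
      rw [div_pow, ← map_pow, hy, σ.commutes, div_self]
      rw [← hy]
      exact pow_ne_zero _ hy0
    obtain ⟨i, hi, hi2⟩ := (hζ.map_of_injective (algebraMap K L).injective).eq_pow_of_pow_eq_one h1
    refine ⟨i, hi, ?_⟩
    rw [hi2, div_mul_cancel₀ _ hy0]

include hy hgen in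
theorem eq_one_of_map_eq (σ : L ≃ₐ[K] L) (h : σ y = y) : σ = 1 := by
  have h1 : (σ : L →ₐ[K] L) = AlgHom.id K L := by
    apply AlgHom.ext_of_adjoin_eq_top (adjoin_eq_top c y hy hgen)
    intro x hx
    rw [Set.mem_singleton_iff] at hx
    subst hx
    simpa using h
  ext x
  exact congrArg (fun f : L →ₐ[K] L => f x) h1

include hy hgen in
theorem finrank_le : Module.finrank K L ≤ p := by
  have h1 := IntermediateField.adjoin.finrank (isIntegral_y c y hy)
  rw [hgen, IntermediateField.finrank_top'] at h1
  rw [h1]
  have h2 : minpoly K y ∣ X ^ p - C c := by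
    apply minpoly.dvd
    simp only [map_sub, map_pow, aeval_X, aeval_C]
    rw [hy, sub_self]
  calc (minpoly K y).natDegree ≤ (X ^ p - C c : K[X]).natDegree :=
        natDegree_le_of_dvd h2 (X_pow_sub_C_ne_zero hp.out.pos c)
    _ = p := natDegree_X_pow_sub_C

include hζ hy hgen in
theorem pow_p_eq_one (σ : L ≃ₐ[K] L) : σ ^ p = 1 := by
  obtain ⟨i, _, hi⟩ := exists_map_eq ζ hζ c y hy σ
  apply eq_one_of_map_eq c y hy hgen
  have h1 : ∀ k : ℕ, (σ ^ k) y = algebraMap K L ζ ^ (i * k) * y := by
    intro k
    induction k with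
    | zero => simp
    | succ k ih =>
      rw [pow_succ, AlgEquiv.mul_apply, hi, map_mul, map_pow,
        show (σ ^ k) (algebraMap K L ζ) = algebraMap K L ζ from (σ ^ k).commutes ζ, ih]
      ring
  rw [h1 p, pow_mul, pow_right_comm, ← map_pow, hζ.pow_eq_one, map_one, one_pow, one_mul]

include hζ hy hgen in
theorem finrank_eq_one_or : Module.finrank K L = 1 ∨ Module.finrank K L = p := by
  haveI := finiteDimensional c y hy hgen
  haveI := isGalois ζ hζ c y hy hgen
  have hcard := IsGalois.card_aut_eq_finrank K L
  by_cases h : ∀ σ : L ≃ₐ[K] L, σ = 1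
  · left
    rw [← hcard]
    haveI : Subsingleton (L ≃ₐ[K] L) := ⟨fun a b => by rw [h a, h b]⟩
    exact Nat.card_unique
  · right
    push Not at h
    obtain ⟨σ, hσ⟩ := h
    have h1 : orderOf σ = p := orderOf_eq_prime (pow_p_eq_one ζ hζ c y hy hgen σ) hσ
    have h2 : p ∣ Nat.card (L ≃ₐ[K] L) := by
      rw [← h1]; exact orderOf_dvd_natCard σ
    rw [hcard] at h2
    have h3 := finrank_le c y hy hgen
    have h4 : 0 < Module.finrank K L := Module.finrank_pos
    exact le_antisymm h3 (Nat.le_of_dvd h4 h2)

end Kummer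

end Part1

section Part2

open Polynomial IsLocalRing Ideal
open Groth.Agent.Lib.R2H1.EtRam Groth.Agent.Lib.R2H1.EtRamGal Groth.Agent.Lib.R2H1.EtRamAS
open scoped Classical IntermediateField

section EFG

variable (A K M : Type u) [CommRing A] [IsDomain A] [IsDiscreteValuationRing A]
    [Field K] [Algebra A K] [IsFractionRing A K] [Field M] [Algebra K M] [Algebra A M]
    [IsScalarTower A K M] [FiniteDimensional K M] [IsGalois K M]

/-- The number of primes of the integral closure above the maximal ideal. -/
noncomputable def gNum (A M : Type u) [CommRing A] [IsLocalRing A] [Field M] [Algebra A M] : ℕ :=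
  ((maximalIdeal A).primesOver (integralClosure A M)).ncard

set_option maxHeartbeats 800000 in
attribute [local instance] Ideal.Quotient.field in
/-- The fundamental identity `g · e · f = [M : K]` at a dominating valuation subring, with
`g` the number of primes of the integral closure above the maximal ideal of `A`, and
uniqueness of the dominating valuation subring when `g = 1`. -/
theorem efg' (W : ValuationSubring M) (hW : EtRam.Dominates A (algebraMap A M) W) :
    letI : Algebra A W := (RingHom.codRestrict (algebraMap A M) W hW.1).toAlgebra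
    ∀ [IsLocalHom (algebraMap A W)],
    Module.Finite (ResidueField A) (ResidueField W) ∧
    gNum A M * (Ideal.ramificationIdx' (maximalIdeal A) (maximalIdeal W) *
      Module.finrank (ResidueField A) (ResidueField W)) = Module.finrank K M ∧
      (gNum A M = 1 → ∀ W' : ValuationSubring M, EtRam.Dominates A (algebraMap A M) W' → W' = W) := by
  intro locW
  letI algAW : Algebra A W := (RingHom.codRestrict (algebraMap A M) W hW.1).toAlgebra
  letI algCW := algIntegralClosure W hW.1
  obtain ⟨hQ0, hloc⟩ := isLocalization_of_dominates A K M W hW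
  set Q : Ideal (integralClosure A M) :=
    (maximalIdeal W).comap (algebraMap (integralClosure A M) W) with hQdef
  haveI hded : IsDedekindDomain (integralClosure A M) :=
    IsIntegralClosure.isDedekindDomain A K M _
  haveI hfr : IsFractionRing (integralClosure A M) M :=
    IsIntegralClosure.isFractionRing_of_finite_extension A K M _
  haveI hQmax : Q.IsMaximal := Ring.DimensionLEOne.maximalOfPrime hQ0 inferInstance
  letI act := IsIntegralClosure.MulSemiringAction A K M (integralClosure A M)
  have hint : Algebra.IsIntegral A (integralClosure A M) := IsIntegralClosure.isIntegral_algebra A M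
  haveI hGal : IsGaloisGroup (M ≃ₐ[K] M) A (integralClosure A M) :=
    IsGaloisGroup.of_isFractionRing _ _ _ K M
  haveI hfin : Module.Finite A (integralClosure A M) := IsIntegralClosure.finite A K M _
  have hinjAM : Function.Injective (algebraMap A M) := by
    rw [IsScalarTower.algebraMap_eq A K M]
    exact (algebraMap K M).injective.comp (IsFractionRing.injective A K)
  have hinjAC : Function.Injective (algebraMap A (integralClosure A M)) := by
    rw [IsScalarTower.algebraMap_eq A (integralClosure A M) M, RingHom.coe_comp] at hinjAM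
    exact Function.Injective.of_comp hinjAM
  haveI hfaith : FaithfulSMul A (integralClosure A M) :=
    (faithfulSMul_iff_algebraMap_injective A _).mpr hinjAC
  haveI htf : Module.IsTorsionFree A (integralClosure A M) := inferInstance
  haveI hflat : Module.Flat A (integralClosure A M) := inferInstance
  haveI htower : IsScalarTower A (integralClosure A M) W :=
    IsScalarTower.of_algebraMap_eq (fun a => Subtype.ext rfl)
  haveI hliesW : (maximalIdeal W).LiesOver (maximalIdeal A) := inferInstance
  haveI hlies : Q.LiesOver (maximalIdeal A) := by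
    constructor
    rw [hQdef, Ideal.under_def, Ideal.comap_comap, ← IsScalarTower.algebraMap_eq]
    exact hliesW.over
  have hp0 : maximalIdeal A ≠ ⊥ := IsDiscreteValuationRing.not_a_field A
  have hcomm : SMulCommClass (M ≃ₐ[K] M) A (integralClosure A M) := IsGaloisGroup.commutes
  have hinv : Algebra.IsInvariant A (integralClosure A M) (M ≃ₐ[K] M) := IsGaloisGroup.isInvariant
  have H1 := Ideal.ncard_primesOver_mul_ramificationIdxIn_mul_inertiaDegIn (maximalIdeal A)
    (integralClosure A M) (M ≃ₐ[K] M)
  rw [Ideal.ramificationIdxIn_eq_ramificationIdx (maximalIdeal A) Q (M ≃ₐ[K] M),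
    Ideal.inertiaDegIn_eq_inertiaDeg (maximalIdeal A) Q (M ≃ₐ[K] M),
    Ideal.inertiaDeg_eq_of_isMaximal (maximalIdeal A) Q,
    ← Ideal.ramificationIdx'_eq_ramificationIdx (maximalIdeal A) Q hp0,
    ← ramificationIdx'_localization (W := W) Q (maximalIdeal A),
    (residueEquiv (W := W) Q (maximalIdeal A)).toLinearEquiv.finrank_eq,
    IsGalois.card_aut_eq_finrank K M] at H1
  have hfinres : Module.Finite (ResidueField A) (ResidueField W) := by
    haveI h1 : Module.Finite A (integralClosure A M ⧸ Q) :=
      Module.Finite.of_surjective (Ideal.Quotient.mkₐ A Q).toLinearMap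
        (Ideal.Quotient.mkₐ_surjective A Q)
    haveI h2 : Module.Finite (A ⧸ maximalIdeal A) (integralClosure A M ⧸ Q) :=
      Module.Finite.of_restrictScalars_finite A (A ⧸ maximalIdeal A) (integralClosure A M ⧸ Q)
    exact Module.Finite.of_surjective
      (residueEquiv (W := W) Q (maximalIdeal A)).toLinearEquiv.toLinearMap
      (residueEquiv (W := W) Q (maximalIdeal A)).surjective
  refine ⟨hfinres, H1, ?_⟩
  intro hg1 W' hW'
  unfold gNum at hg1
  rw [Set.ncard_eq_one] at hg1
  obtain ⟨Q0, hQ0eq⟩ := hg1
  -- the prime of W'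
  letI algCW' := algIntegralClosure W' hW'.1
  set Q' : Ideal (integralClosure A M) :=
    (maximalIdeal W').comap (algebraMap (integralClosure A M) W') with hQ'def
  have hQmem : Q ∈ (maximalIdeal A).primesOver (integralClosure A M) := ⟨inferInstance, hlies⟩
  have hQ'mem : Q' ∈ (maximalIdeal A).primesOver (integralClosure A M) := by
    refine ⟨Ideal.comap_isPrime _ _, ?_⟩
    constructor
    ext a
    rw [Ideal.under_def, Ideal.mem_comap, hQ'def, Ideal.mem_comap]
    have : algebraMap (integralClosure A M) W' (algebraMap A (integralClosure A M) a) =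
        RingHom.codRestrict (algebraMap A M) W' hW'.1 a := Subtype.ext rfl
    rw [this]
    have hl := isLocalHom_codRestrict _ W' hW'
    constructor
    · intro ha
      rw [← ValuationSubring.coe_mem_nonunits_iff, ValuationSubring.mem_nonunits_iff]
      exact hW'.2 a ha
    · intro ha
      by_contra hcon
      have hu : IsUnit a := by
        by_contra hnu
        exact hcon ((IsLocalRing.mem_maximalIdeal a).mpr hnu)
      exact (IsLocalRing.mem_maximalIdeal _).mp ha (hu.map _)
  rw [hQ0eq, Set.mem_singleton_iff] at hQmem hQ'mem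
  have hQQ' : Q = Q' := hQmem.trans hQ'mem.symm
  have hiff : ∀ x : integralClosure A M, (x : M) ∈ W'.nonunits ↔ (x : M) ∈ W.nonunits := by
    intro x
    rw [← mem_comap_iff A M W hW, ← mem_comap_iff A M W' hW']
    show x ∈ Q' ↔ x ∈ Q
    rw [hQQ']
  exact le_antisymm (le_of_forall_nonunits A K M W' W hW' hW (fun x hx => (hiff x).mpr hx))
    (le_of_forall_nonunits A K M W W' hW hW' (fun x hx => (hiff x).mp hx))

end EFG

end Part2

section Part3

open Polynomial IsLocalRing Ideal
open Groth.Agent.Lib.R2H1.EtRam Groth.Agent.Lib.R2H1.EtRamGal Groth.Agent.Lib.R2H1.EtRamAS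
open scoped Classical IntermediateField

section Abstract

variable (p : ℕ) [hp : Fact p.Prime] (A K L : Type u) [CommRing A] [IsDomain A]
    [IsDiscreteValuationRing A] [Field K] [Algebra A K] [IsFractionRing A K] [Field L] [Algebra K L]
    [Algebra A L] [IsScalarTower A K L] [FiniteDimensional K L] [IsGalois K L]

include K in
theorem injective_AW (W : ValuationSubring L) (hW : EtRam.Dominates A (algebraMap A L) W) :
    letI : Algebra A W := (RingHom.codRestrict (algebraMap A L) W hW.1).toAlgebra
    Function.Injective (algebraMap A W) := by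
  letI algAW : Algebra A W := (RingHom.codRestrict (algebraMap A L) W hW.1).toAlgebra
  intro x y hxy
  have h1 : algebraMap A L x = algebraMap A L y := congrArg Subtype.val hxy
  exact injective_AL A K L h1

include K in
theorem map_ne_bot (W : ValuationSubring L) (hW : EtRam.Dominates A (algebraMap A L) W) :
    letI : Algebra A W := (RingHom.codRestrict (algebraMap A L) W hW.1).toAlgebra
    (maximalIdeal A).map (algebraMap A W) ≠ ⊥ := by
  letI algAW : Algebra A W := (RingHom.codRestrict (algebraMap A L) W hW.1).toAlgebra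
  rw [Ne, Ideal.map_eq_bot_iff_of_injective (injective_AW A K L W hW)]
  exact IsDiscreteValuationRing.not_a_field A

theorem residue_surjective_of_finrank (W : ValuationSubring L)
    (hW : EtRam.Dominates A (algebraMap A L) W) :
    letI : Algebra A W := (RingHom.codRestrict (algebraMap A L) W hW.1).toAlgebra
    ∀ [IsLocalHom (algebraMap A W)],
    Module.finrank (ResidueField A) (ResidueField W) = 1 →
    Function.Surjective (fun a : A => IsLocalRing.residue W
        (RingHom.codRestrict (algebraMap A L) W hW.1 a)) := by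
  intro locW hf x
  letI algAW : Algebra A W := (RingHom.codRestrict (algebraMap A L) W hW.1).toAlgebra
  have hbot := Subalgebra.bot_eq_top_of_finrank_eq_one hf
  have hx : x ∈ (⊥ : Subalgebra (ResidueField A) (ResidueField W)) := by
    rw [hbot]; exact Algebra.mem_top
  rw [Algebra.mem_bot] at hx
  obtain ⟨c, rfl⟩ := hx
  obtain ⟨a', rfl⟩ := residue_surjective c
  exact ⟨a', rfl⟩

theorem case3_of_dvd (hN : Module.finrank K L ≤ p)
    (h : ∀ (W : ValuationSubring L) (hW : EtRam.Dominates A (algebraMap A L) W),
      letI : Algebra A W := (RingHom.codRestrict (algebraMap A L) W hW.1).toAlgebra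
      ∀ [IsLocalHom (algebraMap A W)],
      p ∣ Ideal.ramificationIdx' (maximalIdeal A) (maximalIdeal W)) : Case3 p A K L := by
  have hN0 : 0 < Module.finrank K L := Module.finrank_pos
  have key : ∀ (W : ValuationSubring L) (hW : EtRam.Dominates A (algebraMap A L) W),
      (∀ W' : ValuationSubring L, EtRam.Dominates A (algebraMap A L) W' → W' = W) ∧
      Module.finrank K L = p ∧
      Function.Surjective (fun a : A => IsLocalRing.residue W
        (RingHom.codRestrict (algebraMap A L) W hW.1 a)) := by
    intro W hW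
    letI algAW : Algebra A W := (RingHom.codRestrict (algebraMap A L) W hW.1).toAlgebra
    haveI locW : IsLocalHom (algebraMap A W) := isLocalHom_codRestrict _ W hW
    obtain ⟨hfin, hg, huniq⟩ := efg' A K L W hW
    have hdvd := h W hW
    have he0 : 0 < Ideal.ramificationIdx' (maximalIdeal A) (maximalIdeal W) := by
      rcases Nat.eq_zero_or_pos (Ideal.ramificationIdx' (maximalIdeal A) (maximalIdeal W)) with h0 | h0
      · rw [h0, zero_mul, mul_zero] at hg; omega
      · exact h0
    obtain ⟨hg1, he, hf, hNp⟩ := nat_aux _ _ _ _ p hg hN hN0 (Nat.le_of_dvd he0 hdvd)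
    exact ⟨huniq hg1, hNp, residue_surjective_of_finrank A L W hW hf⟩
  obtain ⟨W₀, hW₀⟩ := exists_dominates (algebraMap A L)
  refine ⟨⟨⟨W₀, hW₀⟩, ?_, ?_⟩, (key W₀ hW₀).2.1⟩
  · intro V V' hV hV'
    exact ((key V' hV').1 V hV)
  · intro V hV
    exact (key V hV).2.2

theorem case4_of_residue (hN : Module.finrank K L ≤ p)
    (h : ∀ (W : ValuationSubring L) (hW : EtRam.Dominates A (algebraMap A L) W),
      letI : Algebra A W := (RingHom.codRestrict (algebraMap A L) W hW.1).toAlgebra
      ∀ [IsLocalHom (algebraMap A W)], Module.Finite (ResidueField A) (ResidueField W) →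
      p ≤ Module.finrank (ResidueField A) (ResidueField W) ∧
      (Module.finrank (ResidueField A) (ResidueField W) = p →
        IsPurelyInseparable (ResidueField A) (ResidueField W))) : Case4 p A L := by
  have hN0 : 0 < Module.finrank K L := Module.finrank_pos
  have key : ∀ (W : ValuationSubring L) (hW : EtRam.Dominates A (algebraMap A L) W),
      (∀ W' : ValuationSubring L, EtRam.Dominates A (algebraMap A L) W' → W' = W) ∧
      (letI : Algebra A W := (RingHom.codRestrict (algebraMap A L) W hW.1).toAlgebra
        ∀ [IsLocalHom (algebraMap A W)],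
          EtRam.IsWeaklyUnramified A W ∧
            IsPurelyInseparable (IsLocalRing.ResidueField A) (IsLocalRing.ResidueField W) ∧
            Module.finrank (IsLocalRing.ResidueField A) (IsLocalRing.ResidueField W) = p) := by
    intro W hW
    letI algAW : Algebra A W := (RingHom.codRestrict (algebraMap A L) W hW.1).toAlgebra
    haveI locW : IsLocalHom (algebraMap A W) := isLocalHom_codRestrict _ W hW
    obtain ⟨hfin, hg, huniq⟩ := efg' A K L W hW
    obtain ⟨hle, hpi⟩ := h W hW hfin
    have hg' : gNum A L * (Module.finrank (ResidueField A) (ResidueField W) *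
        Ideal.ramificationIdx' (maximalIdeal A) (maximalIdeal W)) = Module.finrank K L := by
      rw [← hg]; ring
    obtain ⟨hg1, hf, he, hNp⟩ := nat_aux _ _ _ _ p hg' hN hN0 hle
    refine ⟨huniq hg1, ?_⟩
    intro locW'
    haveI : IsDiscreteValuationRing W := isDiscreteValuationRing_of_dominates A K L W hW
    exact ⟨(isWeaklyUnramified_iff (map_ne_bot A K L W hW)).mpr he, hpi hf, hf⟩
  obtain ⟨W₀, hW₀⟩ := exists_dominates (algebraMap A L)
  refine ⟨⟨W₀, hW₀⟩, ?_, ?_⟩
  · intro V V' hV hV'
    exact ((key V' hV').1 V hV)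
  · intro V hV
    exact (key V hV).2

theorem case2_of_inertia (hN : Module.finrank K L = p)
    (h : ∀ (W : ValuationSubring L), EtRam.Dominates A (algebraMap A L) W → inertiaSub K W = ⊥) :
    Case2 p A K L := by
  refine ⟨?_, hN⟩
  intro W hW locW
  letI algAW : Algebra A W := (RingHom.codRestrict (algebraMap A L) W hW.1).toAlgebra
  obtain ⟨hfin, hcard⟩ := card_inertiaSub A K L W hW
  rw [h W hW] at hcard
  haveI : IsDiscreteValuationRing W := isDiscreteValuationRing_of_dominates A K L W hW
  have h1 : Ideal.ramificationIdx' (maximalIdeal A) (maximalIdeal W) *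
      Field.finInsepDegree (ResidueField A) (ResidueField W) = 1 := by
    rw [← hcard]
    simp
  rw [isWeaklyUnramified_iff (map_ne_bot A K L W hW), isSeparable_iff_finInsepDegree_eq_one]
  exact ⟨Nat.eq_one_of_mul_eq_one_right h1, Nat.eq_one_of_mul_eq_one_left h1⟩

/-- A Galois extension of prime degree of the fraction field of a DVR is unramified, totally
ramified, or weakly unramified with purely inseparable residue extension. -/
theorem cases_of_prime (hN : Module.finrank K L = p) :
    Case2 p A K L ∨ Case3 p A K L ∨ Case4 p A L := by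
  obtain ⟨W₀, hW₀⟩ := exists_dominates (algebraMap A L)
  have hfacts : ∀ (W : ValuationSubring L) (hW : EtRam.Dominates A (algebraMap A L) W),
      letI : Algebra A W := (RingHom.codRestrict (algebraMap A L) W hW.1).toAlgebra
      ∀ [IsLocalHom (algebraMap A W)],
      Module.Finite (ResidueField A) (ResidueField W) ∧
      gNum A L * (Ideal.ramificationIdx' (maximalIdeal A) (maximalIdeal W) *
        Module.finrank (ResidueField A) (ResidueField W)) = p ∧
      (gNum A L = 1 → ∀ W' : ValuationSubring L, EtRam.Dominates A (algebraMap A L) W' → W' = W) := by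
    intro W hW locW
    have := efg' A K L W hW
    rwa [hN] at this
  have hg0 : gNum A L ∣ p := by
    letI algAW : Algebra A W₀ := (RingHom.codRestrict (algebraMap A L) W₀ hW₀.1).toAlgebra
    haveI locW : IsLocalHom (algebraMap A W₀) := isLocalHom_codRestrict _ W₀ hW₀
    exact ⟨_, (hfacts W₀ hW₀).2.1.symm⟩
  rcases (Nat.dvd_prime hp.out).mp hg0 with hg1 | hgp
  · -- unique valuation subring
    have huniq : ∀ V : ValuationSubring L, EtRam.Dominates A (algebraMap A L) V → V = W₀ := by
      intro V hV
      letI algAW : Algebra A W₀ := (RingHom.codRestrict (algebraMap A L) W₀ hW₀.1).toAlgebra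
      haveI locW : IsLocalHom (algebraMap A W₀) := isLocalHom_codRestrict _ W₀ hW₀
      exact (hfacts W₀ hW₀).2.2 hg1 V hV
    letI algAW : Algebra A W₀ := (RingHom.codRestrict (algebraMap A L) W₀ hW₀.1).toAlgebra
    haveI locW : IsLocalHom (algebraMap A W₀) := isLocalHom_codRestrict _ W₀ hW₀
    haveI : IsDiscreteValuationRing W₀ := isDiscreteValuationRing_of_dominates A K L W₀ hW₀
    obtain ⟨hfin, hg, -⟩ := hfacts W₀ hW₀
    rw [hg1, one_mul] at hg
    have he : Ideal.ramificationIdx' (maximalIdeal A) (maximalIdeal W₀) ∣ p := ⟨_, hg.symm⟩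
    rcases (Nat.dvd_prime hp.out).mp he with he1 | hep
    · -- e = 1, f = p
      rw [he1, one_mul] at hg
      have hsi := Field.finSepDegree_mul_finInsepDegree (ResidueField A) (ResidueField W₀)
      rw [hg] at hsi
      have hs : Field.finSepDegree (ResidueField A) (ResidueField W₀) ∣ p := ⟨_, hsi.symm⟩
      rcases (Nat.dvd_prime hp.out).mp hs with hs1 | hsp
      · -- purely inseparable
        refine Or.inr (Or.inr ⟨⟨W₀, hW₀⟩, ?_, ?_⟩)
        · intro V V' hV hV'
          rw [huniq V hV, huniq V' hV']
        · intro V hV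
          obtain rfl := huniq V hV
          intro locV
          exact ⟨(isWeaklyUnramified_iff (map_ne_bot A K L V hW₀)).mpr he1,
            (isPurelyInseparable_iff_finSepDegree_eq_one _ _).mpr hs1, hg⟩
      · -- separable
        rw [hsp] at hsi
        have hi1 : Field.finInsepDegree (ResidueField A) (ResidueField W₀) = 1 := by
          have : p * Field.finInsepDegree (ResidueField A) (ResidueField W₀) = p * 1 := by
            rw [hsi, mul_one]
          exact Nat.eq_of_mul_eq_mul_left hp.out.pos this
        refine Or.inl ⟨?_, hN⟩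
        intro V hV
        obtain rfl := huniq V hV
        intro locV
        exact ⟨(isWeaklyUnramified_iff (map_ne_bot A K L V hW₀)).mpr he1,
          (isSeparable_iff_finInsepDegree_eq_one _ _).mpr hi1⟩
    · -- e = p, f = 1
      rw [hep] at hg
      have hf1 : Module.finrank (ResidueField A) (ResidueField W₀) = 1 := by
        have : p * Module.finrank (ResidueField A) (ResidueField W₀) = p * 1 := by
          rw [hg, mul_one]
        exact Nat.eq_of_mul_eq_mul_left hp.out.pos this
      refine Or.inr (Or.inl ⟨⟨⟨W₀, hW₀⟩, ?_, ?_⟩, hN⟩)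
      · intro V V' hV hV'
        rw [huniq V hV, huniq V' hV']
      · intro V hV
        obtain rfl := huniq V hV
        exact residue_surjective_of_finrank A L V hW₀ hf1
  · -- g = p: e = f = 1 everywhere
    refine Or.inl ⟨?_, hN⟩
    intro V hV locV
    letI algAV : Algebra A V := (RingHom.codRestrict (algebraMap A L) V hV.1).toAlgebra
    haveI : IsDiscreteValuationRing V := isDiscreteValuationRing_of_dominates A K L V hV
    obtain ⟨hfin, hg, -⟩ := hfacts V hV
    rw [hgp] at hg
    have hef : Ideal.ramificationIdx' (maximalIdeal A) (maximalIdeal V) *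
        Module.finrank (ResidueField A) (ResidueField V) = 1 := by
      have : p * (Ideal.ramificationIdx' (maximalIdeal A) (maximalIdeal V) *
          Module.finrank (ResidueField A) (ResidueField V)) = p * 1 := by
        rw [hg, mul_one]
      exact Nat.eq_of_mul_eq_mul_left hp.out.pos this
    have he1 := Nat.eq_one_of_mul_eq_one_right hef
    have hf1 := Nat.eq_one_of_mul_eq_one_left hef
    have hsi := Field.finSepDegree_mul_finInsepDegree (ResidueField A) (ResidueField V)
    rw [hf1] at hsi
    exact ⟨(isWeaklyUnramified_iff (map_ne_bot A K L V hV)).mpr he1,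
      (isSeparable_iff_finInsepDegree_eq_one _ _).mpr (Nat.eq_one_of_mul_eq_one_left hsi)⟩

end Abstract

end Part3

section Part4

open Polynomial IsLocalRing Ideal
open Groth.Agent.Lib.R2H1.EtRam Groth.Agent.Lib.R2H1.EtRamGal Groth.Agent.Lib.R2H1.EtRamAS
open scoped Classical IntermediateField

section PFacts

variable {p : ℕ} [hp : Fact p.Prime] {A : Type u} [CommRing A] [IsDomain A]
    (ζ : A) (hζ : IsPrimitiveRoot ζ p)
    (P : A[X]) (hP : C ((1 - ζ) ^ p) * P = (1 + C (1 - ζ) * X) ^ p - 1)

include hζ in
theorem w_ne_zero : (1 - ζ : A) ≠ 0 := by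
  intro h
  exact hζ.ne_one hp.out.one_lt (sub_eq_zero.mp h).symm

include hζ hP in
theorem P_natDegree_monic : P.natDegree = p ∧ P.Monic := by
  have hw := w_ne_zero ζ hζ
  have hwp : (1 - ζ : A) ^ p ≠ 0 := pow_ne_zero _ hw
  have h1 : (1 + C (1 - ζ) * X : A[X]) = C (1 - ζ) * X + C 1 := by rw [C_1, add_comm]
  have hd1 : (1 + C (1 - ζ) * X : A[X]).natDegree = 1 := by rw [h1, natDegree_linear hw]
  have hl1 : (1 + C (1 - ζ) * X : A[X]).leadingCoeff = 1 - ζ := by rw [h1, leadingCoeff_linear hw]
  have hd2 : ((1 + C (1 - ζ) * X : A[X]) ^ p).natDegree = p := by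
    rw [natDegree_pow, hd1, mul_one]
  have hl2 : ((1 + C (1 - ζ) * X : A[X]) ^ p).leadingCoeff = (1 - ζ) ^ p := by
    rw [leadingCoeff_pow, hl1]
  have hlt : (1 : A[X]).natDegree < ((1 + C (1 - ζ) * X : A[X]) ^ p).natDegree := by
    rw [hd2, natDegree_one]; exact hp.out.pos
  have hd3 : ((1 + C (1 - ζ) * X : A[X]) ^ p - 1).natDegree = p := by
    rw [natDegree_sub_eq_left_of_natDegree_lt hlt, hd2]
  have hl3 : ((1 + C (1 - ζ) * X : A[X]) ^ p - 1).leadingCoeff = (1 - ζ) ^ p := by
    rw [leadingCoeff_sub_of_degree_lt (degree_lt_degree hlt), hl2]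
  have hd : P.natDegree = p := by
    rw [← natDegree_C_mul hwp, hP, hd3]
  refine ⟨hd, ?_⟩
  have := congrArg Polynomial.leadingCoeff hP
  rw [leadingCoeff_mul, leadingCoeff_C, hl3] at this
  have h2 : (1 - ζ) ^ p * P.leadingCoeff = (1 - ζ) ^ p * 1 := by rw [this, mul_one]
  exact mul_left_cancel₀ hwp h2

variable {K L : Type u} [Field K] [Algebra A K] [IsFractionRing A K] [Field L] [Algebra K L]
    [Algebra A L] [IsScalarTower A K L]
    (ξ : K) (z : L) (hz : aeval z P = algebraMap K L ξ)

include hP hz in
theorem y_pow : (1 + algebraMap A L (1 - ζ) * z) ^ p =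
    algebraMap K L (1 + algebraMap A K (1 - ζ) ^ p * ξ) := by
  have := congrArg (aeval z) hP
  simp only [map_mul, map_sub, map_pow, map_add, map_one, aeval_C, aeval_X] at this
  rw [hz] at this
  rw [map_add, map_one, map_mul, map_pow, ← IsScalarTower.algebraMap_apply A K L, map_sub,
    map_one]
  rw [← sub_eq_iff_eq_add'] 
  exact this.symm

include hζ in
theorem adjoin_y_eq_top (hgen : K⟮z⟯ = ⊤) : K⟮1 + algebraMap A L (1 - ζ) * z⟯ = ⊤ := by
  have hw := w_ne_zero ζ hζ
  have hwL : algebraMap A L (1 - ζ) ≠ 0 := fun h =>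
    hw (injective_AL A K L (by rw [h, map_zero]))
  rw [eq_top_iff, ← hgen, IntermediateField.adjoin_simple_le_iff]
  set y := 1 + algebraMap A L (1 - ζ) * z with hy
  have h1 : z = (y - 1) * algebraMap K L (algebraMap A K (1 - ζ))⁻¹ := by
    rw [map_inv₀, ← IsScalarTower.algebraMap_apply A K L, hy, add_sub_cancel_left,
      mul_comm, ← mul_assoc, inv_mul_cancel₀ hwL, one_mul]
  rw [h1]
  exact mul_mem (sub_mem (IntermediateField.mem_adjoin_simple_self K y) (one_mem _))
    (IntermediateField.algebraMap_mem _ _)

end PFacts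

section Res

variable {p : ℕ} [hp : Fact p.Prime] {A : Type u} [CommRing A] [IsLocalRing A]
    [CharP (ResidueField A) p] (ζ : A) (hζ : ζ ^ p = 1)

include hζ in
theorem residue_zeta : residue A ζ = 1 := by
  have h1 : (residue A ζ - 1) ^ p = 0 := by
    rw [sub_pow_char, one_pow, ← map_pow, hζ, map_one, sub_self]
  exact sub_eq_zero.mp (pow_eq_zero_iff hp.out.ne_zero |>.mp h1)

include hζ in
theorem w_mem : (1 - ζ : A) ∈ maximalIdeal A := by
  rw [← residue_eq_zero_iff, map_sub, map_one, residue_zeta ζ hζ, sub_self]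

include hζ in
theorem isUnit_geom_sum (i : ℕ) (hi : ¬ p ∣ i) : IsUnit (∑ k ∈ Finset.range i, ζ ^ k) := by
  by_contra hnu
  have h1 : (∑ k ∈ Finset.range i, ζ ^ k) ∈ maximalIdeal A := (IsLocalRing.mem_maximalIdeal _).mpr hnu
  rw [← residue_eq_zero_iff, map_sum] at h1
  simp only [map_pow, residue_zeta ζ hζ, one_pow, Finset.sum_const, Finset.card_range,
    nsmul_eq_mul, mul_one] at h1
  exact hi ((CharP.cast_eq_zero_iff (ResidueField A) p i).mp h1)

end Res

end Part4

section Part5

open Polynomial IsLocalRing Ideal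
open Groth.Agent.Lib.R2H1.EtRam Groth.Agent.Lib.R2H1.EtRamGal Groth.Agent.Lib.R2H1.EtRamAS
open scoped Classical IntermediateField

section Val

variable {A L : Type u} [CommRing A] [Field L] [Algebra A L] (W : ValuationSubring L)
  (hW : ∀ a : A, algebraMap A L a ∈ W)

include hW in
/-- the valuation of a monic integral polynomial at an element with a pole -/
theorem val_aeval_monic (P : A[X]) (hP : P.Monic) (z : L) (hz : 1 < W.valuation z) :
    W.valuation (aeval z P) = W.valuation z ^ P.natDegree := by
  rw [aeval_eq_sum_range, Finset.sum_range_succ, hP.coeff_natDegree, one_smul]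
  have hz0 : W.valuation z ≠ 0 := (lt_trans zero_lt_one hz).ne'
  have hlt : W.valuation (∑ i ∈ Finset.range P.natDegree, P.coeff i • z ^ i) <
      W.valuation (z ^ P.natDegree) := by
    apply Valuation.map_sum_lt
    · rw [map_pow]; exact pow_ne_zero _ hz0
    · intro i hi
      rw [Finset.mem_range] at hi
      rw [Algebra.smul_def, map_mul, map_pow, map_pow]
      calc W.valuation (algebraMap A L (P.coeff i)) * W.valuation z ^ i
          ≤ 1 * W.valuation z ^ i :=
            mul_le_mul_left ((W.valuation_le_one_iff _).mpr (hW _)) _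
        _ = W.valuation z ^ i := one_mul _
        _ < W.valuation z ^ P.natDegree := pow_lt_pow_right₀ hz hi
  rw [Valuation.map_add_eq_of_lt_right _ hlt, map_pow]

end Val

section CaseA

variable (p : ℕ) [hp : Fact p.Prime] (A K L : Type u) [CommRing A] [IsDomain A]
    [IsDiscreteValuationRing A] [Field K] [Algebra A K] [IsFractionRing A K] [Field L] [Algebra K L]
    [Algebra A L] [IsScalarTower A K L] [CharZero K] [CharP (ResidueField A) p]
    [FiniteDimensional K L] [IsGalois K L]
    (ζ : A) (hζ : IsPrimitiveRoot ζ p)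
    (P : A[X]) (hP : C ((1 - ζ) ^ p) * P = (1 + C (1 - ζ) * X) ^ p - 1)
    (ξ : K) (z : L) (hz : aeval z P = algebraMap K L ξ) (hgen : K⟮z⟯ = ⊤)
    (W : ValuationSubring L) (hW : EtRam.Dominates A (algebraMap A L) W)

include hζ hP hz hgen hW in
theorem caseA_inertia (a : A) (ha : algebraMap A K a = ξ) : inertiaSub K W = ⊥ := by
  obtain ⟨hdeg, hmonic⟩ := P_natDegree_monic ζ hζ P hP
  have hw := w_ne_zero ζ hζ
  have hwL : algebraMap A L (1 - ζ) ≠ 0 := fun h =>
    hw (injective_AL A K L (by rw [h, map_zero]))
  have hzW : z ∈ W := by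
    apply integralClosure_le W hW.1
    refine ⟨P - C a, ?_, ?_⟩
    · apply hmonic.sub_of_left
      refine lt_of_le_of_lt degree_C_le ?_
      rw [degree_eq_natDegree hmonic.ne_zero, hdeg]
      exact_mod_cast hp.out.pos
    · rw [eval₂_sub, eval₂_C, ← aeval_def, hz, IsScalarTower.algebraMap_apply A K L, ha, sub_self]
  set y := 1 + algebraMap A L (1 - ζ) * z with hy
  have hypow := y_pow ζ P hP ξ z hz
  have hygen := adjoin_y_eq_top (K := K) ζ hζ z hgen
  have hζK : IsPrimitiveRoot (algebraMap A K ζ) p :=
    hζ.map_of_injective (IsFractionRing.injective A K)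
  have hwm : W.valuation (algebraMap A L (1 - ζ)) < 1 := hW.2 _ (w_mem ζ hζ.pow_eq_one)
  have hvy : W.valuation y = 1 := by
    apply Valuation.map_one_add_of_lt
    rw [map_mul]
    calc W.valuation (algebraMap A L (1 - ζ)) * W.valuation z
        ≤ W.valuation (algebraMap A L (1 - ζ)) * 1 :=
          mul_le_mul_right ((W.valuation_le_one_iff _).mpr hzW) _
      _ = W.valuation (algebraMap A L (1 - ζ)) := mul_one _
      _ < 1 := hwm
  rw [eq_bot_iff]
  intro σ hσ
  rw [mem_inertiaSub_iff] at hσ
  rw [Subgroup.mem_bot]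
  obtain ⟨i, hip, hi⟩ := exists_map_eq (algebraMap A K ζ) hζK _ y hypow σ
  apply eq_one_of_map_eq _ y hypow hygen
  rw [← IsScalarTower.algebraMap_apply A K L] at hi
  by_cases hdvd : p ∣ i
  · obtain ⟨k, rfl⟩ := hdvd
    rw [hi, pow_mul, ← map_pow, hζ.pow_eq_one, map_one, one_pow, one_mul]
  · exfalso
    have h1 := hσ z hzW
    rw [ValuationSubring.mem_nonunits_iff] at h1
    -- σ z - z = - S_i * y
    have hσy : σ y = 1 + algebraMap A L (1 - ζ) * σ z := by
      rw [hy, map_add, map_one, map_mul, IsScalarTower.algebraMap_apply A K L, σ.commutes]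
    have hgeo : algebraMap A L ζ ^ i - 1 =
        - (algebraMap A L (∑ k ∈ Finset.range i, ζ ^ k) * algebraMap A L (1 - ζ)) := by
      rw [← map_mul, ← map_neg, ← mul_neg, neg_sub, geom_sum_mul, map_sub, map_pow, map_one]
    have hkey : algebraMap A L (1 - ζ) * (σ z - z) =
        algebraMap A L (1 - ζ) * (- (algebraMap A L (∑ k ∈ Finset.range i, ζ ^ k) * y)) := by
      have e1 : algebraMap A L (1 - ζ) * (σ z - z) = σ y - y := by rw [hσy, hy]; ring
      rw [e1, hi]
      calc algebraMap A L ζ ^ i * y - y = (algebraMap A L ζ ^ i - 1) * y := by ring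
        _ = _ := by rw [hgeo]; ring
    have hkey2 := mul_left_cancel₀ hwL hkey
    rw [hkey2, Valuation.map_neg, map_mul, hvy, mul_one] at h1
    have hu := isUnit_geom_sum ζ hζ.pow_eq_one i hdvd
    have h2 := val_unit_eq_one A L W hW hu.unit
    rw [IsUnit.unit_spec] at h2
    rw [h2] at h1
    exact lt_irrefl _ h1

end CaseA

end Part5

section Part6

open Polynomial IsLocalRing Ideal
open Groth.Agent.Lib.R2H1.EtRam Groth.Agent.Lib.R2H1.EtRamGal Groth.Agent.Lib.R2H1.EtRamAS
open scoped Classical IntermediateField

section CaseB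

variable (p : ℕ) [hp : Fact p.Prime] (A K L : Type u) [CommRing A] [IsDomain A]
    [IsDiscreteValuationRing A] [Field K] [Algebra A K] [IsFractionRing A K] [Field L] [Algebra K L]
    [Algebra A L] [IsScalarTower A K L]
    [FiniteDimensional K L] [IsGalois K L]
    (P : A[X]) (hdeg : P.natDegree = p) (hmonic : P.Monic)
    (π : A) (hπ : maximalIdeal A = Ideal.span {π})
    (ξ : K) (z : L) (hz : aeval z P = algebraMap K L ξ)
    (W : ValuationSubring L) (hW : EtRam.Dominates A (algebraMap A L) W)

include hπ hW in
theorem xi_not_mem (n : ℕ) (a : Aˣ) (hn : 0 < n)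
    (hξ : ξ * algebraMap A K π ^ n = algebraMap A K a) : algebraMap K L ξ ∉ W := by
  intro hmem
  have hξL : algebraMap K L ξ * algebraMap A L π ^ n = algebraMap A L a := by
    rw [IsScalarTower.algebraMap_apply A K L, IsScalarTower.algebraMap_apply A K L, ← map_pow,
      ← map_mul, hξ]
  have h1 : W.valuation (algebraMap K L ξ) ≤ 1 := (W.valuation_le_one_iff _).mpr hmem
  have h2 : W.valuation (algebraMap A L π) ^ n < 1 :=
    pow_lt_one₀ zero_le (val_pi_lt_one A L π hπ W hW) hn.ne'
  have h3 := congrArg W.valuation hξL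
  rw [map_mul, map_pow, val_unit_eq_one A L W hW a] at h3
  have h4 : W.valuation (algebraMap K L ξ) * W.valuation (algebraMap A L π) ^ n < 1 := by
    calc W.valuation (algebraMap K L ξ) * W.valuation (algebraMap A L π) ^ n
        ≤ 1 * W.valuation (algebraMap A L π) ^ n := mul_le_mul_left h1 _
      _ = W.valuation (algebraMap A L π) ^ n := one_mul _
      _ < 1 := h2
  rw [h3] at h4
  exact lt_irrefl _ h4

include hdeg hmonic hπ hz hW in
theorem caseB_dvd (n : ℕ) (a : Aˣ) (hn : 0 < n) (hpn : ¬ p ∣ n)
    (hξ : ξ * algebraMap A K π ^ n = algebraMap A K a) :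
    letI : Algebra A W := (RingHom.codRestrict (algebraMap A L) W hW.1).toAlgebra
    ∀ [IsLocalHom (algebraMap A W)],
    p ∣ Ideal.ramificationIdx' (maximalIdeal A) (maximalIdeal W) := by
  intro locW
  letI algAW : Algebra A W := (RingHom.codRestrict (algebraMap A L) W hW.1).toAlgebra
  haveI : IsDiscreteValuationRing W := isDiscreteValuationRing_of_dominates A K L W hW
  have hξL : algebraMap K L ξ * algebraMap A L π ^ n = algebraMap A L a := by
    rw [IsScalarTower.algebraMap_apply A K L, IsScalarTower.algebraMap_apply A K L, ← map_pow,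
      ← map_mul, hξ]
  have hinjAW : Function.Injective (algebraMap A W) := injective_AW A K L W hW
  obtain ⟨ϖ, hϖ⟩ := IsDiscreteValuationRing.exists_irreducible W
  have hϖm : maximalIdeal W = Ideal.span {ϖ} :=
    (IsDiscreteValuationRing.irreducible_iff_uniformizer ϖ).mp hϖ
  have hϖ0 : ϖ ≠ 0 := hϖ.ne_zero
  have hπ0 : π ≠ 0 := by
    rintro rfl
    apply IsDiscreteValuationRing.not_a_field A
    rw [hπ, Ideal.span_singleton_eq_bot]
  have hπW0 : algebraMap A W π ≠ 0 := fun h => hπ0 (hinjAW (by rw [h, map_zero]))
  obtain ⟨e, u₂, he⟩ := IsDiscreteValuationRing.eq_unit_mul_pow_irreducible hπW0 hϖ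
  have hram := Groth.Agent.Lib.R2H1.EtRamAbh.ramificationIdx'_eq_of_eq π hπ ϖ hϖm hϖ0 e u₂ he
  rw [hram]
  -- the pole of z
  have hzW : z ∉ W := by
    intro hzW
    apply xi_not_mem A K L π hπ ξ W hW n a hn hξ
    rw [← hz, aeval_def]
    exact Groth.Agent.Lib.R2H1.EtRamTower.eval₂_mem_subring (algebraMap A L) W.toSubring hW.1 z hzW P
  have hz0 : z ≠ 0 := fun h => hzW (h ▸ W.zero_mem)
  have hvz : 1 < W.valuation z := not_le.mp (fun h => hzW ((W.valuation_le_one_iff z).mp h))
  have hwW : z⁻¹ ∈ W := (W.mem_or_inv_mem z).resolve_left hzW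
  set x : W := ⟨z⁻¹, hwW⟩ with hxdef
  have hx0 : x ≠ 0 := by
    intro h
    have := congrArg Subtype.val h
    exact inv_ne_zero hz0 this
  obtain ⟨k, u₁, hk⟩ := IsDiscreteValuationRing.eq_unit_mul_pow_irreducible hx0 hϖ
  have hvu : ∀ u : Wˣ, W.valuation ((u : W) : L) = 1 := fun u =>
    (W.valuation_eq_one_iff (u : W)).mp u.isUnit
  have hvϖ1 : W.valuation (ϖ : L) < 1 := by
    rw [← ValuationSubring.mem_nonunits_iff, ValuationSubring.coe_mem_nonunits_iff, hϖm]
    exact Ideal.mem_span_singleton_self ϖ
  have hvϖ0 : 0 < W.valuation (ϖ : L) := by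
    rw [zero_lt_iff, Ne, map_eq_zero]
    exact fun h => hϖ0 (Subtype.ext h)
  have hvx : W.valuation z⁻¹ = W.valuation (ϖ : L) ^ k := by
    have e1 : z⁻¹ = ((u₁ : W) : L) * (ϖ : L) ^ k := congrArg Subtype.val hk
    rw [e1, map_mul, map_pow, hvu, one_mul]
  have hvπ : W.valuation (algebraMap A L π) = W.valuation (ϖ : L) ^ e := by
    have e1 : algebraMap A L π = ((u₂ : W) : L) * (ϖ : L) ^ e := congrArg Subtype.val he
    rw [e1, map_mul, map_pow, hvu, one_mul]
  have hvP := val_aeval_monic W hW.1 P hmonic z hvz
  rw [hz, hdeg] at hvP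
  have h3 := congrArg W.valuation hξL
  rw [map_mul, map_pow, val_unit_eq_one A L W hW a, hvP, hvπ, ← pow_mul] at h3
  have h4 : W.valuation (ϖ : L) ^ (e * n) = W.valuation (ϖ : L) ^ (k * p) := by
    rw [pow_mul _ k p, ← hvx, map_inv₀, inv_pow]
    exact eq_inv_of_mul_eq_one_right h3
  have hen := pow_right_injective₀ hvϖ0 hvϖ1.ne h4
  have hdvd : p ∣ e * n := ⟨k, by rw [hen]; ring⟩
  exact ((Nat.Prime.dvd_mul hp.out).mp hdvd).resolve_right hpn

end CaseB

end Part6

section Part7

open Polynomial IsLocalRing Ideal
open Groth.Agent.Lib.R2H1.EtRam Groth.Agent.Lib.R2H1.EtRamGal Groth.Agent.Lib.R2H1.EtRamAS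
open scoped Classical IntermediateField

section CaseC

variable (p : ℕ) [hp : Fact p.Prime] (A K L : Type u) [CommRing A] [IsDomain A]
    [IsDiscreteValuationRing A] [Field K] [Algebra A K] [IsFractionRing A K] [Field L] [Algebra K L]
    [Algebra A L] [IsScalarTower A K L] [CharP (ResidueField A) p]
    [FiniteDimensional K L] [IsGalois K L]
    (P : A[X]) (hdeg : P.natDegree = p) (hmonic : P.Monic)
    (π : A) (hπ : maximalIdeal A = Ideal.span {π})
    (ξ : K) (z : L) (hz : aeval z P = algebraMap K L ξ)
    (W : ValuationSubring L) (hW : EtRam.Dominates A (algebraMap A L) W)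

include hdeg hmonic hπ hz hW in
set_option maxHeartbeats 400000 in
theorem caseC_local (m : ℕ) (hm : 0 < m) (a : A)
    (hres : ∀ r : A, residue A a ≠ residue A r ^ p)
    (hξ : ξ * algebraMap A K π ^ (p * m) = algebraMap A K a) :
    letI : Algebra A W := (RingHom.codRestrict (algebraMap A L) W hW.1).toAlgebra
    ∀ [IsLocalHom (algebraMap A W)], Module.Finite (ResidueField A) (ResidueField W) →
    p ≤ Module.finrank (ResidueField A) (ResidueField W) ∧
      (Module.finrank (ResidueField A) (ResidueField W) = p →
        IsPurelyInseparable (ResidueField A) (ResidueField W)) := by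
  intro locW hfin
  letI algAW : Algebra A W := (RingHom.codRestrict (algebraMap A L) W hW.1).toAlgebra
  have h2 : 2 ≤ p := hp.out.two_le
  have hξL : algebraMap K L ξ * algebraMap A L π ^ (p * m) = algebraMap A L a := by
    rw [IsScalarTower.algebraMap_apply A K L, IsScalarTower.algebraMap_apply A K L, ← map_pow,
      ← map_mul, hξ]
  set s : A := π ^ m with hs
  have hsm : s ∈ maximalIdeal A := by
    apply Ideal.pow_mem_of_mem _ _ _ hm
    rw [hπ]; exact Ideal.mem_span_singleton_self π
  set Q : A[X] := scaleRoots P s with hQ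
  have hQmonic : Q.Monic := (monic_scaleRoots_iff s).mpr hmonic
  have hQdeg : Q.natDegree = p := by rw [hQ, natDegree_scaleRoots, hdeg]
  have hroot : eval₂ (algebraMap A L) (algebraMap A L s * z) Q = algebraMap A L a := by
    rw [hQ, scaleRoots_eval₂_mul, hdeg, ← aeval_def, hz, hs, map_pow, ← pow_mul, mul_comm m p,
      mul_comm]
    exact hξL
  have hz'W : algebraMap A L s * z ∈ W := by
    apply integralClosure_le W hW.1
    refine ⟨Q - C a, ?_, ?_⟩
    · apply hQmonic.sub_of_left
      refine lt_of_le_of_lt degree_C_le ?_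
      rw [degree_eq_natDegree hQmonic.ne_zero, hQdeg]
      exact_mod_cast hp.out.pos
    · rw [eval₂_sub, eval₂_C, hroot, sub_self]
  set z' : W := ⟨algebraMap A L s * z, hz'W⟩ with hz'def
  have hrootW : eval₂ (algebraMap A W) z' Q = algebraMap A W a := by
    apply Subtype.ext
    have h1 := Polynomial.hom_eval₂ Q (algebraMap A W) W.subtype z'
    have h3 : W.subtype.comp (algebraMap A W) = algebraMap A L := RingHom.ext fun _ => rfl
    rw [h3] at h1
    exact h1.trans hroot
  set t : ResidueField W := residue W z' with htdef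
  have htp : t ^ p = algebraMap (ResidueField A) (ResidueField W) (residue A a) := by
    have h1 := congrArg (residue W) hrootW
    rw [Polynomial.hom_eval₂, eval₂_eq_sum_range, hQdeg, Finset.sum_range_succ] at h1
    rw [← hQdeg, hQmonic.coeff_natDegree, hQdeg, map_one, one_mul] at h1
    rw [Finset.sum_eq_zero, zero_add] at h1
    · rw [IsLocalRing.ResidueField.algebraMap_residue]
      exact h1
    · intro i hi
      rw [Finset.mem_range] at hi
      have hc : Q.coeff i ∈ maximalIdeal A := by
        rw [hQ, coeff_scaleRoots, hdeg]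
        apply Ideal.mul_mem_left
        exact Ideal.pow_mem_of_mem _ hsm _ (by omega)
      have hcW : algebraMap A W (Q.coeff i) ∈ maximalIdeal W := by
        by_contra hcon
        have hu : IsUnit (algebraMap A W (Q.coeff i)) := by
          by_contra hnu
          exact hcon ((IsLocalRing.mem_maximalIdeal _).mpr hnu)
        exact (IsLocalRing.mem_maximalIdeal _).mp hc (IsLocalHom.map_nonunit _ hu)
      rw [RingHom.comp_apply, (residue_eq_zero_iff _).mpr hcW, zero_mul]
  have hirr : Irreducible (X ^ p - C (residue A a) : (ResidueField A)[X]) := by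
    apply X_pow_sub_C_irreducible_of_prime hp.out
    intro b hb
    obtain ⟨r, rfl⟩ := residue_surjective b
    exact hres r hb.symm
  have hmin : (X ^ p - C (residue A a) : (ResidueField A)[X]) = minpoly (ResidueField A) t := by
    apply minpoly.eq_of_irreducible_of_monic hirr
    · simp only [map_sub, map_pow, aeval_X, aeval_C]
      rw [htp, sub_self]
    · exact monic_X_pow_sub_C _ (by omega)
  have hdegm : (minpoly (ResidueField A) t).natDegree = p := by
    rw [← hmin, natDegree_X_pow_sub_C]
  refine ⟨?_, ?_⟩
  · rw [← hdegm]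
    exact minpoly.natDegree_le t
  · intro hf
    haveI : ExpChar (ResidueField A) p := ExpChar.prime hp.out
    have htop : (ResidueField A)⟮t⟯ = ⊤ := by
      rw [Field.primitive_element_iff_minpoly_natDegree_eq, hdegm, hf]
    rw [isPurelyInseparable_iff_perfectClosure_eq_top, eq_top_iff, ← htop,
      IntermediateField.adjoin_simple_le_iff, mem_perfectClosure_iff_pow_mem p]
    exact ⟨1, residue A a, by rw [pow_one, htp]⟩

end CaseC

end Part7

section Part8

open Polynomial IsLocalRing Ideal
open Groth.Agent.Lib.R2H1.EtRam Groth.Agent.Lib.R2H1.EtRamGal Groth.Agent.Lib.R2H1.EtRamAS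
open scoped Classical IntermediateField

open Polynomial in
theorem main (p : ℕ) (hp : p.Prime) (A K L : Type u) [CommRing A] [IsDomain A]
    [IsDiscreteValuationRing A] [Field K] [Algebra A K] [IsFractionRing A K] [Field L] [Algebra K L] [Algebra A L]
    [IsScalarTower A K L] [CharZero K] [CharP (IsLocalRing.ResidueField A) p] (ζ : A)
    (hζ : aeval ζ (cyclotomic p ℤ) = 0) (P : A[X]) (hP : C ((1 - ζ) ^ p) * P = (1 + C (1 - ζ) * X) ^ p - 1) (π : A) (hπ : IsLocalRing.maximalIdeal A = Ideal.span {π})
    (ξ : K) (z : L) (hz : aeval z P = algebraMap K L ξ) (hgen : IntermediateField.adjoin K {z} = ⊤) :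
    let g : A →+* L := algebraMap A L
    let case1 : Prop := Module.finrank K L = 1
    let case2 : Prop := EtRam.IsUnramifiedExt A g ∧ Module.finrank K L = p
    let case3 : Prop := EtRam.IsTotallyRamified A g ∧ Module.finrank K L = p
    let case4 : Prop := (∃ V : ValuationSubring L, EtRam.Dominates A g V) ∧
      (∀ V V' : ValuationSubring L, EtRam.Dominates A g V → EtRam.Dominates A g V' → V = V') ∧
      ∀ (V : ValuationSubring L) (h : EtRam.Dominates A g V),
        letI : Algebra A V := (RingHom.codRestrict g V h.1).toAlgebra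
        ∀ [IsLocalHom (algebraMap A V)],
          EtRam.IsWeaklyUnramified A V ∧
            IsPurelyInseparable (IsLocalRing.ResidueField A) (IsLocalRing.ResidueField V) ∧
            Module.finrank (IsLocalRing.ResidueField A) (IsLocalRing.ResidueField V) = p
    IsGalois K L ∧ (case1 ∨ case2 ∨ case3 ∨ case4) ∧
      ((∃ a : A, algebraMap A K a = ξ) → case1 ∨ case2) ∧
      (∀ (n : ℕ) (a : Aˣ), 0 < n → ¬ p ∣ n → ξ * algebraMap A K π ^ n = algebraMap A K a → case3) ∧
      (∀ (n : ℕ) (a : A), 0 < n → p ∣ n → (∀ r : A, IsLocalRing.residue A a ≠ IsLocalRing.residue A r ^ p) →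
          ξ * algebraMap A K π ^ n = algebraMap A K a → case4) := by
  haveI : Fact p.Prime := ⟨hp⟩
  intro g case1 case2 case3 case4
  have hζ' : IsPrimitiveRoot ζ p := isPrimitiveRoot_A K ζ hζ
  have hζK : IsPrimitiveRoot (algebraMap A K ζ) p :=
    hζ'.map_of_injective (IsFractionRing.injective A K)
  obtain ⟨hdeg, hmonic⟩ := P_natDegree_monic ζ hζ' P hP
  have hypow := y_pow ζ P hP ξ z hz
  have hygen := adjoin_y_eq_top (K := K) ζ hζ' z hgen
  haveI hfd : FiniteDimensional K L := finiteDimensional _ _ hypow hygen
  haveI hgal : IsGalois K L := isGalois (algebraMap A K ζ) hζK _ _ hypow hygen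
  have hN := finrank_le _ _ hypow hygen
  have hN1 := finrank_eq_one_or (algebraMap A K ζ) hζK _ _ hypow hygen
  refine ⟨hgal, ?_, ?_, ?_, ?_⟩
  · rcases hN1 with h1 | h1
    · exact Or.inl h1
    · exact Or.inr (cases_of_prime p A K L h1)
  · rintro ⟨a, ha⟩
    rcases hN1 with h1 | h1
    · exact Or.inl h1
    · refine Or.inr (case2_of_inertia p A K L h1 ?_)
      intro W hW
      exact caseA_inertia p A K L ζ hζ' P hP ξ z hz hgen W hW a ha
  · intro n a hn hpn hξ
    apply case3_of_dvd p A K L hN
    intro W hW locW
    exact caseB_dvd p A K L P hdeg hmonic π hπ ξ z hz W hW n a hn hpn hξ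
  · intro n a hn hpn hres hξ
    obtain ⟨m, rfl⟩ := hpn
    have hm : 0 < m := by
      rcases Nat.eq_zero_or_pos m with h0 | h0
      · rw [h0, mul_zero] at hn; omega
      · exact h0
    apply case4_of_residue p A K L hN
    intro W hW locW hfin
    exact caseC_local p A K L P hdeg hmonic π hπ ξ z hz W hW m hm a hres hξ hfin

end Part8

end Groth.Agent.Lib.R2H1.EtRamKum
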