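import Mathlib
import Groth.Prelude.Def_EtRam
import Groth.Agent.Lib.R2H1EtRam
import Groth.Agent.Lib.R2H1EtRamTower
import Groth.Agent.Lib.R2H1EtRamSmooth

/-!
# R2H1EtRamTotRam: base change of a weakly unramified extension of DVRs along a totally
ramified finite separable extension.

Main results:
* `isIntegral_of_unique`: the unique valuation subring dominating a DVR `A` is integral over `A`
* `pi_mem_pow`: total ramification, `π ∈ π₁ ^ [K₁ : K] V`
* `linearIndependent_pow`, `le_finrank`: powers of a uniformiser are linearly independent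
* `local_ext_totRam`: weak unramifiedness of each local extension + degree bound
* `isField_tensor`: `L ⊗[K] K₁` is a field
-/

set_option autoImplicit false
set_option linter.unusedSectionVars false
set_option linter.style.haveILetI false

universe u

namespace Groth.Agent.Lib.R2H1.EtRamTotRam

section
open IsLocalRing TensorProduct Polynomial Groth.Agent.Lib.R2H1.EtRamTower Groth.Agent.Lib.R2H1.EtRam

section Unique

/-- a valuation subring containing `A` but not dominating it is everything -/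
theorem eq_top_of_not_dominates (A K K₁ : Type u) [CommRing A] [IsDomain A]
    [IsDiscreteValuationRing A]
    [Field K] [Field K₁] [Algebra A K] [IsFractionRing A K] [Algebra K K₁] [Algebra A K₁]
    [IsScalarTower A K K₁] [Algebra.IsAlgebraic K K₁] (V' : ValuationSubring K₁) (hA : ∀ a, algebraMap A K₁ a ∈ V')
    (π : A) (hπ : Irreducible π) (h1 : ¬ V'.valuation (algebraMap A K₁ π) < 1) (y : K₁) : y ∈ V' := by
  have hπ0 : algebraMap A K₁ π ≠ 0 := by
    rw [IsScalarTower.algebraMap_apply A K K₁]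
    intro h
    have := (algebraMap K K₁).injective (h.trans (map_zero _).symm)
    exact hπ.ne_zero (IsFractionRing.injective A K (this.trans (map_zero _).symm))
  have hπinv : (algebraMap A K₁ π)⁻¹ ∈ V' := by
    rw [← V'.valuation_le_one_iff, map_inv₀]
    have h2 : V'.valuation (algebraMap A K₁ π) = 1 :=
      le_antisymm ((V'.valuation_le_one_iff _).mpr (hA π)) (not_lt.mp h1)
    rw [h2, inv_one]
  -- units of A have inverses in V'
  have hK : ∀ k : K, algebraMap K K₁ k ∈ V' := by
    intro k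
    obtain ⟨a, b, hb, rfl⟩ := IsFractionRing.div_surjective (A := A) k
    have hb0 : b ≠ 0 := nonZeroDivisors.ne_zero hb
    obtain ⟨m, u, hbu⟩ := IsDiscreteValuationRing.eq_unit_mul_pow_irreducible hb0 hπ
    have e1 : algebraMap K K₁ (algebraMap A K a / algebraMap A K b) =
        algebraMap A K₁ a * (algebraMap A K₁ ((u⁻¹ : Aˣ) : A) * ((algebraMap A K₁ π)⁻¹) ^ m) := by
      have hu : algebraMap A K₁ ((u⁻¹ : Aˣ) : A) = (algebraMap A K₁ (u : A))⁻¹ :=
        eq_inv_of_mul_eq_one_left (by rw [← map_mul, Units.inv_mul, map_one])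
      rw [map_div₀, ← IsScalarTower.algebraMap_apply A K K₁, ← IsScalarTower.algebraMap_apply A K K₁,
        hbu, map_mul, map_pow, hu, div_eq_mul_inv, mul_inv, inv_pow]
    rw [e1]
    exact mul_mem (hA a) (mul_mem (hA _) (pow_mem hπinv m))
  have hint : IsIntegral K y := Algebra.IsIntegral.isIntegral y
  obtain ⟨p, hp, hpy⟩ := hint
  have hint' : IsIntegral V' y := by
    refine ⟨p.map (RingHom.codRestrict (algebraMap K K₁) V' hK), hp.map _, ?_⟩
    rw [Polynomial.eval₂_map]
    exact hpy
  obtain ⟨z, hz⟩ := IsIntegrallyClosed.isIntegral_iff.mp hint'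
  rw [← hz]
  exact z.2

/-- if `V` is the only valuation subring dominating `A`, it is integral over `A` -/
theorem isIntegral_of_unique (A K K₁ : Type u) [CommRing A] [IsDomain A]
    [IsDiscreteValuationRing A]
    [Field K] [Field K₁] [Algebra A K] [IsFractionRing A K] [Algebra K K₁] [Algebra A K₁]
    [IsScalarTower A K K₁] [Algebra.IsAlgebraic K K₁] (V : ValuationSubring K₁)
    (huniq : ∀ V' : ValuationSubring K₁, EtRam.Dominates A (algebraMap A K₁) V' → V' = V)
    (x : K₁) (hx : x ∈ V) : IsIntegral A x := by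
  obtain ⟨π, hπ⟩ := IsDiscreteValuationRing.exists_irreducible A
  have hmA : maximalIdeal A = Ideal.span {π} := hπ.maximalIdeal_eq
  set s : Set K₁ := Set.range (algebraMap A K₁) with hs
  have key := iInf_valuationSubring_superset (K := K₁) (s := s)
  have hxmem : x ∈ (⨅ V' : {V' : ValuationSubring K₁ // s ⊆ V'.toSubring}, V'.1.toSubring) := by
    rw [Subring.mem_iInf]
    rintro ⟨V', hV'⟩
    have hA : ∀ a, algebraMap A K₁ a ∈ V' := fun a => hV' ⟨a, rfl⟩
    show x ∈ V'
    by_cases h1 : V'.valuation (algebraMap A K₁ π) < 1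
    · have hdom : EtRam.Dominates A (algebraMap A K₁) V' := by
        refine ⟨hA, fun a ha => ?_⟩
        rw [hmA, Ideal.mem_span_singleton'] at ha
        obtain ⟨a', rfl⟩ := ha
        rw [map_mul, map_mul]
        have h2 : V'.valuation (algebraMap A K₁ a') ≤ 1 := (V'.valuation_le_one_iff _).mpr (hA a')
        calc _ ≤ 1 * V'.valuation (algebraMap A K₁ π) := mul_le_mul_left h2 _
          _ < 1 := by rw [one_mul]; exact h1
      rw [huniq V' hdom]; exact hx
    · exact eq_top_of_not_dominates A K K₁ V' hA π hπ h1 x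
  rw [key] at hxmem
  obtain ⟨p, hp, hpx⟩ := (show IsIntegral (Subring.closure s) x from hxmem)
  -- lift the polynomial to `A`
  let φ : A →+* Subring.closure s :=
    RingHom.codRestrict (algebraMap A K₁) (Subring.closure s) (fun a => Subring.subset_closure ⟨a, rfl⟩)
  have hφ : Function.Surjective φ := by
    rintro ⟨c, hc⟩
    have : c ∈ (algebraMap A K₁).range :=
      (Subring.closure_le (t := (algebraMap A K₁).range)).mpr (by rintro _ ⟨a, rfl⟩; exact ⟨a, rfl⟩) hc
    obtain ⟨a, rfl⟩ := this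
    exact ⟨a, rfl⟩
  have hlift : p ∈ Polynomial.lifts φ := by
    rw [Polynomial.mem_lifts]
    exact Polynomial.map_surjective φ hφ p
  obtain ⟨q, hq, -, hqm⟩ := Polynomial.lifts_and_degree_eq_and_monic hlift hp
  refine ⟨q, hqm, ?_⟩
  rw [← hq, Polynomial.eval₂_map] at hpx
  exact hpx

end Unique
end

section
open IsLocalRing TensorProduct Polynomial Groth.Agent.Lib.R2H1.EtRamTower Groth.Agent.Lib.R2H1.EtRam

section Fin

/-- the unique valuation subring dominating `A` is the integral closure: linear equivalence -/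
theorem exists_linearEquiv_of_unique (A K K₁ : Type u) [CommRing A] [IsDomain A]
    [IsDiscreteValuationRing A]
    [Field K] [Field K₁] [Algebra A K] [IsFractionRing A K] [Algebra K K₁] [Algebra A K₁]
    [IsScalarTower A K K₁] [Algebra.IsAlgebraic K K₁] (V : ValuationSubring K₁)
    [Algebra A V] (hAV : ∀ a, ((algebraMap A V a : V) : K₁) = algebraMap A K₁ a)
    (hdomV : EtRam.Dominates A (algebraMap A K₁) V)
    (huniq : ∀ V' : ValuationSubring K₁, EtRam.Dominates A (algebraMap A K₁) V' → V' = V) :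
    Nonempty (integralClosure A K₁ ≃ₗ[A] V) := by
  have hle : ∀ s : integralClosure A K₁, (s : K₁) ∈ V := fun s =>
    integralClosure_le V hdomV.1 s.2
  let F : integralClosure A K₁ →ₗ[A] V :=
    { toFun := fun s => ⟨s, hle s⟩
      map_add' := fun _ _ => rfl
      map_smul' := fun a s => by
        apply Subtype.ext
        show ((a • s : integralClosure A K₁) : K₁) = ((a • (⟨s, hle s⟩ : V) : V) : K₁)
        rw [Algebra.smul_def, Algebra.smul_def]
        show algebraMap A K₁ a * (s : K₁) = ((algebraMap A V a : V) : K₁) * (s : K₁)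
        rw [hAV] }
  have hinj : Function.Injective F := by
    intro s t hst
    apply Subtype.ext
    exact congrArg (fun x : V => (x : K₁)) hst
  have hsurj : Function.Surjective F := by
    rintro ⟨x, hx⟩
    exact ⟨⟨x, isIntegral_of_unique A K K₁ V huniq x hx⟩, rfl⟩
  exact ⟨LinearEquiv.ofBijective F ⟨hinj, hsurj⟩⟩

/-- expansion in powers of the uniformiser -/
theorem expansion {A V : Type u} [CommRing A] [CommRing V] [IsLocalRing V] [Algebra A V]
    (π₁ : V) (hπ₁ : maximalIdeal V = Ideal.span {π₁})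
    (hres : ∀ x : V, ∃ a : A, x - algebraMap A V a ∈ maximalIdeal V) (e : ℕ) (x : V) :
    ∃ (c : ℕ → A) (y : V),
      x = ∑ j ∈ Finset.range e, algebraMap A V (c j) * π₁ ^ j + π₁ ^ e * y := by
  induction e with
  | zero => exact ⟨fun _ => 0, x, by simp⟩
  | succ e ih =>
    obtain ⟨c, y, hxy⟩ := ih
    obtain ⟨a, ha⟩ := hres y
    rw [hπ₁, Ideal.mem_span_singleton'] at ha
    obtain ⟨y', hy'⟩ := ha
    refine ⟨fun j => if j = e then a else c j, y', ?_⟩
    rw [Finset.sum_range_succ]
    have h0 : (fun j => if j = e then a else c j) e = a := if_pos rfl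
    have h1 : ∑ j ∈ Finset.range e, algebraMap A V ((fun j => if j = e then a else c j) j) * π₁ ^ j =
        ∑ j ∈ Finset.range e, algebraMap A V (c j) * π₁ ^ j := by
      apply Finset.sum_congr rfl
      intro j hj
      show algebraMap A V (if j = e then a else c j) * π₁ ^ j = _
      rw [if_neg (Finset.mem_range.mp hj).ne]
    rw [h0, h1, hxy]
    have h2 : y = algebraMap A V a + y' * π₁ := by rw [hy']; ring
    rw [h2]
    ring

/-- if `π₁ ^ N ∈ π V` then `V` is spanned over `A` by the first `N` powers of `π₁` -/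
theorem span_pow_eq_top {A V : Type u} [CommRing A] [IsLocalRing A] [CommRing V] [IsLocalRing V]
    [Algebra A V] [Module.Finite A V]
    (π₁ : V) (hπ₁ : maximalIdeal V = Ideal.span {π₁})
    (hres : ∀ x : V, ∃ a : A, x - algebraMap A V a ∈ maximalIdeal V)
    (π : A) (hπ : π ∈ maximalIdeal A) (N : ℕ) (c : V) (hN : π₁ ^ N = algebraMap A V π * c) :
    Submodule.span A (Set.range (fun j : Fin N => π₁ ^ (j : ℕ))) = ⊤ := by
  rw [eq_top_iff]
  apply Submodule.le_of_le_smul_of_le_jacobson_bot (I := maximalIdeal A) Module.Finite.fg_top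
    (IsLocalRing.maximalIdeal_le_jacobson _)
  intro x _
  obtain ⟨a, y, hx⟩ := expansion π₁ hπ₁ hres N x
  rw [hx]
  apply Submodule.add_mem_sup
  · apply Submodule.sum_mem
    intro j hj
    rw [← Algebra.smul_def]
    apply Submodule.smul_mem
    exact Submodule.subset_span ⟨⟨j, Finset.mem_range.mp hj⟩, rfl⟩
  · rw [hN, mul_assoc, ← Algebra.smul_def]
    exact Submodule.smul_mem_smul hπ Submodule.mem_top

end Fin
end

section
open IsLocalRing TensorProduct Polynomial Groth.Agent.Lib.R2H1.EtRamTower Groth.Agent.Lib.R2H1.EtRam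

section Ram

/-- total ramification: `π ∈ π₁ ^ [K₁ : K] V` -/
theorem pi_mem_pow (A K K₁ : Type u) [CommRing A] [IsDomain A]
    [IsDiscreteValuationRing A]
    [Field K] [Field K₁] [Algebra A K] [IsFractionRing A K] [Algebra K K₁] [Algebra A K₁]
    [IsScalarTower A K K₁] [FiniteDimensional K K₁] [Algebra.IsSeparable K K₁]
    (V : ValuationSubring K₁)
    [Algebra A V] (hAV : ∀ a, ((algebraMap A V a : V) : K₁) = algebraMap A K₁ a)
    (hdomV : EtRam.Dominates A (algebraMap A K₁) V)
    (huniq : ∀ V' : ValuationSubring K₁, EtRam.Dominates A (algebraMap A K₁) V' → V' = V)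
    (π₁ : V) (hπ₁ : maximalIdeal V = Ideal.span {π₁}) (hπ₁0 : π₁ ≠ 0)
    (hres : ∀ x : V, ∃ a : A, x - algebraMap A V a ∈ maximalIdeal V)
    (π : A) (hπ : π ∈ maximalIdeal A) :
    ∃ c : V, algebraMap A V π = π₁ ^ (Module.finrank K K₁) * c := by
  set n := Module.finrank K K₁ with hn
  have hnpos : 0 < n := Module.finrank_pos
  rcases ValuationRing.dvd_total (π₁ ^ n) (algebraMap A V π) with ⟨c, hc⟩ | ⟨c, hc⟩
  · exact ⟨c, hc⟩
  by_cases hcu : IsUnit c
  · obtain ⟨u, rfl⟩ := hcu
    refine ⟨((u⁻¹ : Vˣ) : V), ?_⟩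
    rw [hc, mul_assoc, Units.mul_inv, mul_one]
  exfalso
  have hcm : c ∈ maximalIdeal V := (mem_maximalIdeal c).mpr hcu
  rw [hπ₁, Ideal.mem_span_singleton'] at hcm
  obtain ⟨c', rfl⟩ := hcm
  obtain ⟨m, hm⟩ : ∃ m, n = m + 1 := ⟨n - 1, by omega⟩
  have hN : π₁ ^ m = algebraMap A V π * c' := by
    have h1 : π₁ ^ m * π₁ = (algebraMap A V π * c') * π₁ := by
      rw [← pow_succ, ← hm, hc]; ring
    exact mul_right_cancel₀ hπ₁0 h1
  haveI : Algebra.IsAlgebraic K K₁ := Algebra.IsAlgebraic.of_finite K K₁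
  obtain ⟨E⟩ := exists_linearEquiv_of_unique A K K₁ V hAV hdomV huniq
  haveI : Module.Finite A (integralClosure A K₁) :=
    IsIntegralClosure.finite A K K₁ (integralClosure A K₁)
  haveI : Module.Finite A V := Module.Finite.equiv E
  have hspan := span_pow_eq_top π₁ hπ₁ hres π hπ m c' hN
  have h1 : Module.finrank A V ≤ m := by
    have h2 := finrank_range_le_card (R := A) (fun j : Fin m => π₁ ^ (j : ℕ))
    unfold Set.finrank at h2
    rw [hspan, finrank_top, Fintype.card_fin] at h2
    exact h2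
  have hinj : Function.Injective (algebraMap A K₁) := by
    rw [IsScalarTower.algebraMap_eq A K K₁]
    exact (algebraMap K K₁).injective.comp (IsFractionRing.injective A K)
  haveI : Module.IsTorsionFree A K₁ := (Module.isTorsionFree_iff_algebraMap_injective).mpr hinj
  have h3 : Module.finrank A (integralClosure A K₁) = n :=
    IsIntegralClosure.rank A K K₁ (integralClosure A K₁)
  rw [← E.finrank_eq, h3] at h1
  omega

end Ram
end

section
open IsLocalRing TensorProduct Polynomial Groth.Agent.Lib.R2H1.EtRamTower Groth.Agent.Lib.R2H1.EtRam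

section LinInd

variable {B M : Type u} [CommRing B] [IsDomain B] [IsDiscreteValuationRing B] [Field M]
  (g : B →+* M) (W : ValuationSubring M) (hgW : ∀ b, g b ∈ W)
  (ϖ : B) (hϖ : maximalIdeal B = Ideal.span {ϖ})
  (t : M) (n : ℕ) (ht0 : t ≠ 0) (ht1 : W.valuation t < 1)
  (hϖt : W.valuation (g ϖ) ≤ W.valuation t ^ n)

include hgW hϖ ht0 ht1 hϖt in
theorem sum_ne_zero_of_isUnit (c : ℕ → B) (h : ∃ j, j < n ∧ IsUnit (c j)) :
    ∑ j ∈ Finset.range n, g (c j) * t ^ j ≠ 0 := by
  classical
  set q := W.valuation t with hq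
  have hq0 : q ≠ 0 := by rw [hq, Ne, Valuation.zero_iff]; exact ht0
  have hqpos : 0 < q := zero_lt_iff.mpr hq0
  have hle1 : ∀ b, W.valuation (g b) ≤ 1 := fun b => (W.valuation_le_one_iff _).mpr (hgW b)
  have hvu : ∀ b : B, IsUnit b → W.valuation (g b) = 1 := by
    rintro _ ⟨u, rfl⟩
    have h3 : W.valuation (g (u : B)) * W.valuation (g ((u⁻¹ : Bˣ) : B)) = 1 := by
      rw [← map_mul, ← map_mul, Units.mul_inv, map_one, map_one]
    refine le_antisymm (hle1 _) ?_
    calc (1 : _) = W.valuation (g (u : B)) * W.valuation (g ((u⁻¹ : Bˣ) : B)) := h3.symm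
      _ ≤ W.valuation (g (u : B)) * 1 := mul_le_mul_right (hle1 _) _
      _ = _ := mul_one _
  have hvm : ∀ b : B, ¬ IsUnit b → W.valuation (g b) ≤ q ^ n := by
    intro b hb
    have hbm : b ∈ maximalIdeal B := (mem_maximalIdeal b).mpr hb
    rw [hϖ, Ideal.mem_span_singleton'] at hbm
    obtain ⟨b', rfl⟩ := hbm
    rw [map_mul, map_mul]
    calc _ ≤ 1 * W.valuation (g ϖ) := mul_le_mul_left (hle1 b') _
      _ = W.valuation (g ϖ) := one_mul _
      _ ≤ q ^ n := hϖt
  set j₀ := Nat.find h with hj₀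
  obtain ⟨hj₀n, hj₀u⟩ := Nat.find_spec h
  have hmin : ∀ j, j < j₀ → j < n → ¬ IsUnit (c j) := fun j hj hjn hu =>
    Nat.find_min h hj ⟨hjn, hu⟩
  have hmem : j₀ ∈ Finset.range n := Finset.mem_range.mpr hj₀n
  rw [← Finset.add_sum_erase _ _ hmem]
  have hothers : W.valuation (∑ j ∈ (Finset.range n).erase j₀, g (c j) * t ^ j) < q ^ j₀ := by
    apply Valuation.map_sum_lt _ (pow_ne_zero _ hq0)
    intro j hj
    rw [Finset.mem_erase, Finset.mem_range] at hj
    obtain ⟨hjne, hjn⟩ := hj
    rw [map_mul, map_pow]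
    rcases lt_or_gt_of_ne hjne with hlt | hgt
    · calc W.valuation (g (c j)) * q ^ j ≤ q ^ n * q ^ j :=
            mul_le_mul_left (hvm _ (hmin j hlt hjn)) _
        _ = q ^ (n + j) := (pow_add _ _ _).symm
        _ < q ^ j₀ := pow_lt_pow_right_of_lt_one₀ hqpos ht1 (by omega)
    · calc W.valuation (g (c j)) * q ^ j ≤ 1 * q ^ j := mul_le_mul_left (hle1 _) _
        _ = q ^ j := one_mul _
        _ < q ^ j₀ := pow_lt_pow_right_of_lt_one₀ hqpos ht1 hgt
  intro hsum
  have h1 : g (c j₀) * t ^ j₀ = - ∑ j ∈ (Finset.range n).erase j₀, g (c j) * t ^ j :=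
    eq_neg_of_add_eq_zero_left hsum
  have h2 := congrArg W.valuation h1
  rw [Valuation.map_neg, map_mul, map_pow, hvu _ hj₀u, one_mul] at h2
  rw [← h2] at hothers
  exact lt_irrefl _ hothers

include hgW hϖ ht0 ht1 hϖt in
theorem forall_mem_pow (hg : Function.Injective g) (k : ℕ) :
    ∀ c : ℕ → B, ∑ j ∈ Finset.range n, g (c j) * t ^ j = 0 →
      ∀ j, j < n → c j ∈ (maximalIdeal B) ^ k := by
  induction k with
  | zero => intro c _ j _; rw [pow_zero, Ideal.one_eq_top]; trivial
  | succ k ih =>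
    intro c hc j hj
    have hnu : ∀ j, j < n → ¬ IsUnit (c j) := by
      intro j hj hu
      exact sum_ne_zero_of_isUnit g W hgW ϖ hϖ t n ht0 ht1 hϖt c ⟨j, hj, hu⟩ hc
    have hex : ∀ j, ∃ c' : B, j < n → c' * ϖ = c j := by
      intro j
      by_cases hj : j < n
      · have : c j ∈ maximalIdeal B := (mem_maximalIdeal _).mpr (hnu j hj)
        rw [hϖ, Ideal.mem_span_singleton'] at this
        obtain ⟨c', hc'⟩ := this
        exact ⟨c', fun _ => hc'⟩
      · exact ⟨0, fun h => absurd h hj⟩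
    choose c' hc' using hex
    have hϖ0 : ϖ ≠ 0 := by
      intro h0
      apply IsDiscreteValuationRing.not_a_field B
      rw [hϖ, h0]
      exact Ideal.span_singleton_eq_bot.mpr rfl
    have hgϖ : g ϖ ≠ 0 := fun h => hϖ0 (hg (h.trans (map_zero g).symm))
    have hc'sum : ∑ j ∈ Finset.range n, g (c' j) * t ^ j = 0 := by
      have h1 : (∑ j ∈ Finset.range n, g (c' j) * t ^ j) * g ϖ = 0 := by
        rw [Finset.sum_mul, ← hc]
        apply Finset.sum_congr rfl
        intro j hj
        rw [← hc' j (Finset.mem_range.mp hj), map_mul]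
        ring
      exact (mul_eq_zero.mp h1).resolve_right hgϖ
    have h2 := ih c' hc'sum j hj
    rw [← hc' j hj, pow_succ]
    exact Ideal.mul_mem_mul h2 (hϖ ▸ Ideal.mem_span_singleton_self ϖ)

include hgW hϖ ht0 ht1 hϖt in
theorem eq_zero_of_sum_eq_zero (hg : Function.Injective g) (c : ℕ → B)
    (hc : ∑ j ∈ Finset.range n, g (c j) * t ^ j = 0) (j : ℕ) (hj : j < n) : c j = 0 := by
  have h1 : c j ∈ ⨅ k, (maximalIdeal B) ^ k := by
    rw [Ideal.mem_iInf]
    intro k
    exact forall_mem_pow g W hgW ϖ hϖ t n ht0 ht1 hϖt hg k c hc j hj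
  rw [Ideal.iInf_pow_eq_bot_of_isLocalRing _ (Ideal.IsPrime.ne_top inferInstance)] at h1
  exact h1

end LinInd
end

section
open IsLocalRing TensorProduct Polynomial Groth.Agent.Lib.R2H1.EtRamTower Groth.Agent.Lib.R2H1.EtRam

section LinInd2

theorem linearIndependent_pow {B L M : Type u} [CommRing B] [IsDomain B]
    [IsDiscreteValuationRing B] [Field L] [Algebra B L] [IsFractionRing B L] [Field M]
    [Algebra L M] (W : ValuationSubring M)
    (hBW : ∀ b : B, algebraMap L M (algebraMap B L b) ∈ W)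
    (ϖ : B) (hϖ : maximalIdeal B = Ideal.span {ϖ})
    (t : M) (n : ℕ) (ht0 : t ≠ 0) (ht1 : W.valuation t < 1)
    (hϖt : W.valuation (algebraMap L M (algebraMap B L ϖ)) ≤ W.valuation t ^ n) :
    LinearIndependent L (fun j : Fin n => t ^ (j : ℕ)) := by
  classical
  set g : B →+* M := (algebraMap L M).comp (algebraMap B L) with hg
  have hginj : Function.Injective g :=
    (algebraMap L M).injective.comp (IsFractionRing.injective B L)
  rw [Fintype.linearIndependent_iff]
  intro l hl i
  obtain ⟨b, hb⟩ := IsLocalization.exist_integer_multiples (nonZeroDivisors B) Finset.univ l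
  have hex : ∀ i : Fin n, ∃ c : B, algebraMap B L c = (b : B) • l i := fun i =>
    hb i (Finset.mem_univ i)
  choose c' hc' using hex
  set c : ℕ → B := fun j => if h : j < n then c' ⟨j, h⟩ else 0 with hc
  have hsum : ∑ j ∈ Finset.range n, g (c j) * t ^ j = 0 := by
    rw [Finset.sum_range]
    have h1 : ∀ i : Fin n, g (c i) * t ^ (i : ℕ) =
        algebraMap L M (algebraMap B L (b : B)) * (l i • t ^ (i : ℕ)) := by
      intro i
      have : c i = c' i := by
        show (if h : (i : ℕ) < n then c' ⟨i, h⟩ else 0) = c' i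
        rw [dif_pos i.2]
      rw [this]
      show algebraMap L M (algebraMap B L (c' i)) * _ = _
      rw [hc', Algebra.smul_def, Algebra.smul_def, map_mul]
      ring
    rw [Finset.sum_congr rfl (fun i _ => h1 i), ← Finset.mul_sum, hl, mul_zero]
  have h2 := eq_zero_of_sum_eq_zero g W hBW ϖ hϖ t n ht0 ht1 hϖt hginj c hsum i i.2
  have h3 : c i = c' i := by
    show (if h : (i : ℕ) < n then c' ⟨i, h⟩ else 0) = c' i
    rw [dif_pos i.2]
  rw [h3] at h2
  have h4 := hc' i
  rw [h2, map_zero, Algebra.smul_def] at h4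
  have hb0 : algebraMap B L (b : B) ≠ 0 := by
    rw [Ne, IsFractionRing.to_map_eq_zero_iff]; exact nonZeroDivisors.ne_zero b.2
  exact (mul_eq_zero.mp h4.symm).resolve_left hb0

theorem le_finrank {B L M : Type u} [CommRing B] [IsDomain B]
    [IsDiscreteValuationRing B] [Field L] [Algebra B L] [IsFractionRing B L] [Field M]
    [Algebra L M] [Module.Finite L M] (W : ValuationSubring M)
    (hBW : ∀ b : B, algebraMap L M (algebraMap B L b) ∈ W)
    (ϖ : B) (hϖ : maximalIdeal B = Ideal.span {ϖ})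
    (t : M) (n : ℕ) (ht0 : t ≠ 0) (ht1 : W.valuation t < 1)
    (hϖt : W.valuation (algebraMap L M (algebraMap B L ϖ)) ≤ W.valuation t ^ n) :
    n ≤ Module.finrank L M := by
  have h := (linearIndependent_pow W hBW ϖ hϖ t n ht0 ht1 hϖt).fintype_card_le_finrank
  rwa [Fintype.card_fin] at h

end LinInd2
end

section
open IsLocalRing TensorProduct Polynomial Groth.Agent.Lib.R2H1.EtRamTower Groth.Agent.Lib.R2H1.EtRam
  Groth.Agent.Lib.R2H1.EtRamSmooth

section Main

variable (A B K L : Type u) [CommRing A] [IsDomain A] [IsDiscreteValuationRing A]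
  [CommRing B] [IsDomain B] [IsDiscreteValuationRing B] [Algebra A B] [IsLocalHom (algebraMap A B)]
  [Field K] [Field L] [Algebra A K] [IsFractionRing A K] [Algebra B L] [IsFractionRing B L]
  [Algebra K L] [Algebra A L] [IsScalarTower A K L] [IsScalarTower A B L]
  (K₁ : Type u) [Field K₁] [Algebra K K₁]
  (M : Type u) [Field M] [Algebra K M] [Algebra L M] [Algebra K₁ M] [IsScalarTower K L M]
  [IsScalarTower K K₁ M]

theorem local_ext_totRam [FiniteDimensional K K₁] [Algebra.IsSeparable K K₁]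
    (hw : EtRam.IsWeaklyUnramified A B)
    (ht : EtRam.IsTotallyRamified A ((algebraMap K K₁).comp (algebraMap A K)))
    (hgen : Algebra.adjoin L (Set.range (algebraMap K₁ M)) = ⊤)
    (W : ValuationSubring M)
    (hdom : EtRam.Dominates B ((algebraMap L M).comp (algebraMap B L)) W) :
    (letI : Algebra (W.comap (algebraMap K₁ M)) W :=
      (EtRam.inclOfComap W (algebraMap K₁ M)).toAlgebra
    EtRam.IsWeaklyUnramified (W.comap (algebraMap K₁ M)) W) ∧
      (Module.Finite L M → Module.finrank K K₁ ≤ Module.finrank L M) := by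
  have hmemA := algebraMap_compat A B K L K₁ M
  have hmem : ∀ a : A, ((algebraMap K K₁).comp (algebraMap A K)) a ∈
      W.comap (algebraMap K₁ M) := fun a => by
    show algebraMap K₁ M _ ∈ W
    rw [RingHom.comp_apply, hmemA]; exact hdom.1 _
  letI algAV : Algebra A (W.comap (algebraMap K₁ M)) :=
    (RingHom.codRestrict ((algebraMap K K₁).comp (algebraMap A K))
      (W.comap (algebraMap K₁ M)) hmem).toAlgebra
  have hdomA : EtRam.Dominates A ((algebraMap K K₁).comp (algebraMap A K))
      (W.comap (algebraMap K₁ M)) := by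
    apply dominates_comap
    refine ⟨fun a => ?_, fun a ha => ?_⟩
    · rw [RingHom.comp_apply, RingHom.comp_apply, hmemA]; exact hdom.1 _
    · rw [RingHom.comp_apply, RingHom.comp_apply, hmemA]
      apply hdom.2
      rw [mem_maximalIdeal, mem_nonunits_iff] at ha ⊢
      exact fun hu => ha (IsLocalHom.map_nonunit a hu)
  haveI locAV : IsLocalHom (algebraMap A (W.comap (algebraMap K₁ M))) :=
    isLocalHom_codRestrict _ _ hdomA
  have hcompat : ∀ a : A, algebraMap K₁ M
      ((algebraMap A (W.comap (algebraMap K₁ M)) a : W.comap (algebraMap K₁ M)) : K₁) =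
      ((algebraMap L M).comp (algebraMap B L)) (algebraMap A B a) := fun a => hmemA a
  have hAV : ∀ a, ((algebraMap A (W.comap (algebraMap K₁ M)) a : W.comap (algebraMap K₁ M)) : K₁) =
      algebraMap K K₁ (algebraMap A K a) := fun _ => rfl
  obtain ⟨⟨π₁, hπ₁, hπ₁0⟩, hpow, hfin⟩ := ka_facts A K K₁ (W.comap (algebraMap K₁ M)) hAV
  haveI : Algebra.IsAlgebraic L M := isAlgebraic_of_adjoin K L K₁ M hgen
  have hπ₁m : π₁ ∈ maximalIdeal (W.comap (algebraMap K₁ M)) :=
    hπ₁ ▸ Ideal.mem_span_singleton_self π₁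
  have hsep := exists_pow_lt (algebraMap K₁ M) W ((algebraMap L M).comp (algebraMap B L)) hcompat L
    (fun b => rfl) hdom.1 hw π₁ hπ₁m hπ₁0 (hpow π₁ hπ₁)
  have hgen' := exists_theta_div (algebraMap K₁ M) W ((algebraMap L M).comp (algebraMap B L))
    hcompat L (fun b => rfl) hgen
  -- the residue field of `W ∩ K₁` is that of `A`
  have hres_surj : Function.Surjective (fun a : A =>
      residue (W.comap (algebraMap K₁ M)) (algebraMap A (W.comap (algebraMap K₁ M)) a)) :=
    ht.2.2 (W.comap (algebraMap K₁ M)) hdomA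
  have hinclR : Function.Surjective (Algebra.TensorProduct.includeRight :
      ResidueField B →ₐ[ResidueField A]
        ResidueField (W.comap (algebraMap K₁ M)) ⊗[ResidueField A] ResidueField B) := by
    intro x
    induction x using TensorProduct.induction_on with
    | zero => exact ⟨0, map_zero _⟩
    | add x y hx hy =>
      obtain ⟨x', rfl⟩ := hx
      obtain ⟨y', rfl⟩ := hy
      exact ⟨x' + y', map_add _ _ _⟩
    | tmul x b =>
      obtain ⟨v, rfl⟩ := residue_surjective x
      obtain ⟨a, ha⟩ := hres_surj (residue _ v)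
      refine ⟨residue A a • b, ?_⟩
      show (1 : ResidueField (W.comap (algebraMap K₁ M))) ⊗ₜ[ResidueField A] (residue A a • b) = _
      rw [← TensorProduct.smul_tmul, Algebra.smul_def, mul_one]
      congr 1
  have hfield : ∀ a : ResidueField B, ∃ b, a = a * a * b := by
    intro a
    by_cases ha : a = 0
    · exact ⟨0, by rw [ha]; ring⟩
    · exact ⟨a⁻¹, by field_simp⟩
  haveI hTred : IsReduced (ResidueField (W.comap (algebraMap K₁ M)) ⊗[ResidueField A]
      ResidueField B) :=
    isReduced_of_surjective_of_vnr _ hinclR hfield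
  have hmaxB : ∀ p : Ideal (ResidueField B), p.IsPrime → p.IsMaximal := by
    intro p hp
    have : p = ⊥ := (Ideal.eq_bot_or_top p).resolve_right hp.ne_top
    rw [this]; exact Ideal.bot_isMaximal
  have hmax := forall_isMaximal_of_surjective
    (Algebra.TensorProduct.includeRight :
      ResidueField B →ₐ[ResidueField A]
        ResidueField (W.comap (algebraMap K₁ M)) ⊗[ResidueField A] ResidueField B).toRingHom
    hinclR hmaxB
  refine ⟨weaklyUnramified_of (algebraMap K₁ M) W ((algebraMap L M).comp (algebraMap B L)) hcompat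
    hdom.1 hw π₁ hπ₁ hπ₁0 hmax hsep hgen', ?_⟩
  intro hfinLM
  -- the ramification bound
  letI : Algebra A K₁ := ((algebraMap K K₁).comp (algebraMap A K)).toAlgebra
  haveI : IsScalarTower A K K₁ := IsScalarTower.of_algebraMap_eq (fun _ => rfl)
  obtain ⟨π, hπ⟩ := IsDiscreteValuationRing.exists_irreducible A
  have hπmA : π ∈ maximalIdeal A := (mem_maximalIdeal π).mpr hπ.not_isUnit
  have hmA : maximalIdeal A = Ideal.span {π} := hπ.maximalIdeal_eq
  have hmB : maximalIdeal B = Ideal.span {algebraMap A B π} := by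
    have h1 : (maximalIdeal A).map (algebraMap A B) = maximalIdeal B := hw
    rw [← h1, hmA, Ideal.map_span, Set.image_singleton]
  have hres : ∀ x : W.comap (algebraMap K₁ M), ∃ a : A,
      x - algebraMap A (W.comap (algebraMap K₁ M)) a ∈
        maximalIdeal (W.comap (algebraMap K₁ M)) := by
    intro x
    obtain ⟨a, ha⟩ := hres_surj (residue _ x)
    refine ⟨a, ?_⟩
    rw [← residue_eq_zero_iff, map_sub, sub_eq_zero]
    exact ha.symm
  have hπ₁0' : π₁ ≠ 0 := fun h => hπ₁0 (by rw [h]; rfl)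
  obtain ⟨c, hc⟩ := pi_mem_pow A K K₁ (W.comap (algebraMap K₁ M)) (fun _ => rfl) hdomA
    (fun V' h => ht.2.1 V' _ h hdomA) π₁ hπ₁ hπ₁0' hres π hπmA
  refine le_finrank W hdom.1 (algebraMap A B π) hmB (algebraMap K₁ M (π₁ : K₁))
    (Module.finrank K K₁) (fun h => hπ₁0 ((map_eq_zero _).mp h))
    ((mem_maximalIdeal_comap_iff W (algebraMap K₁ M) π₁).mp hπ₁m) ?_
  have h1 : algebraMap L M (algebraMap B L (algebraMap A B π)) =
      algebraMap K₁ M (π₁ : K₁) ^ (Module.finrank K K₁) * algebraMap K₁ M (c : K₁) := by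
    have h2 := (hcompat π).symm
    rw [RingHom.comp_apply] at h2
    rw [h2, hc]
    simp only [MulMemClass.coe_mul, SubmonoidClass.coe_pow, map_mul, map_pow]
  rw [h1, map_mul, map_pow]
  have h3 : W.valuation (algebraMap K₁ M (c : K₁)) ≤ 1 := (W.valuation_le_one_iff _).mpr c.2
  calc _ ≤ W.valuation (algebraMap K₁ M (π₁ : K₁)) ^ (Module.finrank K K₁) * 1 :=
        mul_le_mul_right h3 _
    _ = _ := mul_one _

end Main
end

section
open IsLocalRing TensorProduct Polynomial Groth.Agent.Lib.R2H1.EtRamTower Groth.Agent.Lib.R2H1.EtRam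
  Groth.Agent.Lib.R2H1.EtRamSmooth

section Main

variable (A B K L : Type u) [CommRing A] [IsDomain A] [IsDiscreteValuationRing A]
  [CommRing B] [IsDomain B] [IsDiscreteValuationRing B] [Algebra A B] [IsLocalHom (algebraMap A B)]
  [Field K] [Field L] [Algebra A K] [IsFractionRing A K] [Algebra B L] [IsFractionRing B L]
  [Algebra K L] [Algebra A L] [IsScalarTower A K L] [IsScalarTower A B L]
  (K₁ : Type u) [Field K₁] [Algebra K K₁]

theorem isField_tensor [FiniteDimensional K K₁] [Algebra.IsSeparable K K₁]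
    (hw : EtRam.IsWeaklyUnramified A B)
    (ht : EtRam.IsTotallyRamified A ((algebraMap K K₁).comp (algebraMap A K))) :
    IsField (L ⊗[K] K₁) := by
  haveI : Nontrivial (L ⊗[K] K₁) := inferInstance
  obtain ⟨𝔪, h𝔪⟩ := Ideal.exists_maximal (L ⊗[K] K₁)
  letI : Field ((L ⊗[K] K₁) ⧸ 𝔪) := Ideal.Quotient.field 𝔪
  letI : Algebra K₁ ((L ⊗[K] K₁) ⧸ 𝔪) :=
    ((Ideal.Quotient.mk 𝔪).comp
      (Algebra.TensorProduct.includeRight : K₁ →ₐ[K] L ⊗[K] K₁).toRingHom).toAlgebra
  haveI : IsScalarTower K L ((L ⊗[K] K₁) ⧸ 𝔪) := inferInstance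
  haveI : IsScalarTower K K₁ ((L ⊗[K] K₁) ⧸ 𝔪) := by
    refine IsScalarTower.of_algebraMap_eq (fun k => ?_)
    show Ideal.Quotient.mk 𝔪 (algebraMap K (L ⊗[K] K₁) k) =
      Ideal.Quotient.mk 𝔪 ((Algebra.TensorProduct.includeRight : K₁ →ₐ[K] L ⊗[K] K₁)
        (algebraMap K K₁ k))
    rw [AlgHom.commutes]
  have hgen : Algebra.adjoin L (Set.range (algebraMap K₁ ((L ⊗[K] K₁) ⧸ 𝔪))) = ⊤ := by
    rw [eq_top_iff]
    intro m _
    obtain ⟨r, rfl⟩ := Ideal.Quotient.mk_surjective m
    clear * -
    induction r using TensorProduct.induction_on with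
    | zero => rw [map_zero]; exact Subalgebra.zero_mem _
    | add x y hx hy => rw [map_add]; exact Subalgebra.add_mem _ hx hy
    | tmul l k =>
      have h1 : Ideal.Quotient.mk 𝔪 (l ⊗ₜ[K] k) =
          l • algebraMap K₁ ((L ⊗[K] K₁) ⧸ 𝔪) k := by
        show _ = l • Ideal.Quotient.mk 𝔪 ((1 : L) ⊗ₜ[K] k)
        rw [← Ideal.Quotient.mkₐ_eq_mk L, ← map_smul, TensorProduct.smul_tmul', smul_eq_mul, mul_one]
      rw [h1]
      exact Subalgebra.smul_mem _ (Algebra.subset_adjoin (Set.mem_range_self k)) l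
  obtain ⟨W, hW, hloc⟩ := IsLocalRing.exists_factor_valuationRing
    ((algebraMap L ((L ⊗[K] K₁) ⧸ 𝔪)).comp (algebraMap B L))
  have hdom : EtRam.Dominates B ((algebraMap L ((L ⊗[K] K₁) ⧸ 𝔪)).comp (algebraMap B L)) W := by
    refine ⟨hW, fun b hb => ?_⟩
    have h1 : ¬ IsUnit (RingHom.codRestrict
        ((algebraMap L ((L ⊗[K] K₁) ⧸ 𝔪)).comp (algebraMap B L)) W.toSubring hW b) := by
      intro hu
      exact ((mem_maximalIdeal b).mp hb) (hloc.map_nonunit b hu)
    have h2 := (W.valuation_lt_one_iff _).mp ((mem_maximalIdeal _).mpr h1)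
    exact h2
  haveI : Module.Finite L ((L ⊗[K] K₁) ⧸ 𝔪) :=
    Module.Finite.of_surjective (Ideal.Quotient.mkₐ L 𝔪).toLinearMap
      (Ideal.Quotient.mkₐ_surjective L 𝔪)
  have h2 := (local_ext_totRam A B K L K₁ ((L ⊗[K] K₁) ⧸ 𝔪) hw ht hgen W hdom).2 inferInstance
  have h3 : Module.finrank L (L ⊗[K] K₁) = Module.finrank K K₁ := Module.finrank_baseChange
  have h4 : Module.finrank L ((L ⊗[K] K₁) ⧸ 𝔪) ≤ Module.finrank L (L ⊗[K] K₁) :=
    LinearMap.finrank_le_finrank_of_surjective (f := (Ideal.Quotient.mkₐ L 𝔪).toLinearMap)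
      (Ideal.Quotient.mkₐ_surjective L 𝔪)
  have h5 : Module.finrank L (L ⊗[K] K₁) = Module.finrank L ((L ⊗[K] K₁) ⧸ 𝔪) := by omega
  have hinj : Function.Injective (Ideal.Quotient.mkₐ L 𝔪).toLinearMap :=
    (LinearMap.injective_iff_surjective_of_finrank_eq_finrank h5).mpr
      (Ideal.Quotient.mkₐ_surjective L 𝔪)
  have hbij : Function.Bijective (Ideal.Quotient.mk 𝔪) :=
    ⟨hinj, Ideal.Quotient.mk_surjective⟩
  exact (RingEquiv.ofBijective (Ideal.Quotient.mk 𝔪) hbij).toMulEquiv.isField
    (Field.toIsField _)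

end Main
end

end Groth.Agent.Lib.R2H1.EtRamTotRam
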