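/-
Helper library (helper1, round 2): purely inseparable degree-`p` steps over a Nagata discrete
valuation ring (statement S7156).

Let `A → B → C` be injective local homomorphisms of discrete valuation rings with fraction fields
`K ⊆ L ⊆ M`, `B` Nagata, `A → B` weakly unramified and `M / L` purely inseparable of prime degree `p`.
Then `A → C` is weakly unramified, or `C = B[π^(1/p)]`, or a separable totally ramified extension
`K₁ / K` of degree `p` is a weak solution for `B` and for `C`.

Contents: characteristic and `p`-th powers in a purely inseparable extension of degree `p`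
(`charP_of_purelyInsep`, `pow_mem_range`), `C ∩ L = B`, the dichotomy `e = 1` or `e = p, f = 1`
(`e_cases`, `exists_uniformizer`), expansions of a unit in `p`-th powers (`Expands`, `Good`,
`dichotomy`), finiteness of integral closures over a Nagata DVR and discreteness of dominating
valuation subrings (`finite_integralClosure`, `isDedekindDomain_integralClosure`,
`isDVR_of_dominates_of_nagata`), the Krull-intersection argument giving `π ∈ M ^ p`
(`mem_span_of_expands`, `exists_root_of_expands`, `adjoin_eq_top_of_root`), the fundamental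
inequality argument at a compositum (`exists_x`, `ef_bound`, `core`, `isField_tensor_M`) and `main`.
-/
import Mathlib
import Groth.Agent.Lib.R2H1EtRamKum
import Groth.Agent.Lib.R2H1EtRamTotRam
import Groth.Agent.Lib.R2H1EtRamEis
import Groth.Agent.Lib.Helper24DvrEF
import Groth.Agent.Lib.Helper24DvrInsepRam
import Groth.Agent.Lib.Helper4TotalFrac

set_option autoImplicit false
set_option linter.style.haveILetI false
set_option linter.unusedSectionVars false
universe u

namespace Groth.Agent.Lib.R2H1.EtRamPI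

section Part1

open Polynomial IsLocalRing Ideal
open Groth.Agent.Lib.R2H1.EtRam
open scoped Classical IntermediateField

section Char

variable (p : ℕ) [hp : Fact p.Prime] (L M : Type u) [Field L] [Field M] [Algebra L M]
  [IsPurelyInseparable L M] (hdeg : Module.finrank L M = p)

include hdeg in
theorem charP_of_purelyInsep : CharP L p := by
  haveI : FiniteDimensional L M := by
    apply Module.finite_of_finrank_pos
    rw [hdeg]; exact hp.out.pos
  obtain ⟨q, hq⟩ := ExpChar.exists L
  obtain ⟨n, hn⟩ := IsPurelyInseparable.finrank_eq_pow (F := L) M q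
  rw [hdeg] at hn
  rcases hq with _ | ⟨hqp⟩
  · rw [one_pow] at hn
    exact absurd hn hp.out.one_lt.ne'
  · rename_i hchar
    have hn0 : n ≠ 0 := by
      rintro rfl
      rw [pow_zero] at hn
      exact hp.out.one_lt.ne' hn
    have hdvd : q ∣ p := by rw [hn]; exact dvd_pow_self q hn0
    have := (Nat.prime_dvd_prime_iff_eq hqp hp.out).mp hdvd
    subst this
    exact hchar

include hdeg in
theorem pow_mem_range (x : M) : ∃ l : L, algebraMap L M l = x ^ p := by
  haveI := charP_of_purelyInsep p L M hdeg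
  haveI : ExpChar L p := ExpChar.prime hp.out
  haveI : FiniteDimensional L M := by
    apply Module.finite_of_finrank_pos
    rw [hdeg]; exact hp.out.pos
  obtain ⟨n, y, hy⟩ := IsPurelyInseparable.minpoly_eq_X_pow_sub_C L p x
  have hle : (minpoly L x).natDegree ≤ p := by
    rw [← hdeg]; exact minpoly.natDegree_le x
  rw [hy, natDegree_X_pow_sub_C] at hle
  have hn1 : n ≤ 1 := by
    by_contra hcon
    push Not at hcon
    have : p ^ 2 ≤ p ^ n := Nat.pow_le_pow_right hp.out.pos hcon
    have h2 : p < p ^ 2 := by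
      rw [pow_two]; nlinarith [hp.out.two_le]
    omega
  have hroot : aeval x (minpoly L x) = 0 := minpoly.aeval L x
  rw [hy] at hroot
  simp only [map_sub, map_pow, aeval_X, aeval_C] at hroot
  rw [sub_eq_zero] at hroot
  interval_cases n
  · rw [pow_zero, pow_one] at hroot
    exact ⟨y ^ p, by rw [map_pow, ← hroot]⟩
  · rw [pow_one] at hroot
    exact ⟨y, hroot.symm⟩

end Char

end Part1

section Part2

open Polynomial IsLocalRing Ideal
open Groth.Agent.Lib.R2H1.EtRam
open scoped Classical IntermediateField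

section BC

variable (p : ℕ) [hp : Fact p.Prime] (B C L M : Type u)
    [CommRing B] [IsDomain B] [IsDiscreteValuationRing B]
    [CommRing C] [IsDomain C] [IsDiscreteValuationRing C]
    [Algebra B C] (hBC : Function.Injective (algebraMap B C)) [IsLocalHom (algebraMap B C)]
    [Field L] [Field M] [Algebra B L] [IsFractionRing B L]
    [Algebra C M] [IsFractionRing C M] [Algebra L M]
    [Algebra B M] [IsScalarTower B L M] [IsScalarTower B C M]
    [IsPurelyInseparable L M] (hdeg : Module.finrank L M = p)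

/-- `C ∩ L = B` -/
theorem mem_range_of_mem (l : L) (c : C) (h : algebraMap L M l = algebraMap C M c) :
    ∃ b : B, algebraMap B L b = l := by
  by_cases hl0 : l = 0
  · exact ⟨0, by rw [map_zero, hl0]⟩
  rcases ValuationRing.isInteger_or_isInteger B l with ⟨b, hb⟩ | ⟨b, hb⟩
  · exact ⟨b, hb⟩
  · have hu : IsUnit b := by
      apply isUnit_of_map_unit (algebraMap B C)
      refine IsUnit.of_mul_eq_one c ?_
      apply IsFractionRing.injective C M
      rw [map_mul, map_one, ← IsScalarTower.algebraMap_apply B C M,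
        IsScalarTower.algebraMap_apply B L M, hb, ← h, ← map_mul, inv_mul_cancel₀ hl0, map_one]
    obtain ⟨b', hb'⟩ := hu.exists_right_inv
    refine ⟨b', ?_⟩
    have h1 : algebraMap B L b * algebraMap B L b' = 1 := by
      rw [← map_mul, hb', map_one]
    rw [hb] at h1
    calc algebraMap B L b' = l * (l⁻¹ * algebraMap B L b') := by
          rw [← mul_assoc, mul_inv_cancel₀ hl0, one_mul]
      _ = l := by rw [h1, mul_one]

include hBC hdeg in
theorem e_cases :
    Ideal.ramificationIdx' (maximalIdeal B) (maximalIdeal C) = 1 ∨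
    (Ideal.ramificationIdx' (maximalIdeal B) (maximalIdeal C) = p ∧
      Module.finrank (ResidueField B) (ResidueField C) = 1) := by
  haveI := charP_of_purelyInsep p L M hdeg
  haveI : FiniteDimensional L M := by
    apply Module.finite_of_finrank_pos
    rw [hdeg]; exact hp.out.pos
  obtain ⟨k, hk⟩ := Groth.Agent.Lib.Helper24DvrInsepRam.s7133 B C L M hBC p hp.out
  obtain ⟨hfin, hle⟩ := Groth.Agent.Lib.Helper24DvrEF.s7132 B C L M hBC
  rw [hdeg, hk] at hle
  have hf0 : 0 < Module.finrank (ResidueField B) (ResidueField C) := Module.finrank_pos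
  rw [hk]
  rcases Nat.eq_zero_or_pos k with h0 | h0
  · left; rw [h0, pow_zero]
  · right
    have h1 : p ^ 1 ≤ p ^ k := Nat.pow_le_pow_right hp.out.pos h0
    rw [pow_one] at h1
    have h2 : p ^ k * 1 ≤ p ^ k * Module.finrank (ResidueField B) (ResidueField C) :=
      Nat.mul_le_mul_left _ hf0
    have h3 : p ^ k = p := by nlinarith
    refine ⟨h3, ?_⟩
    rw [h3] at hle
    have : p * Module.finrank (ResidueField B) (ResidueField C) ≤ p * 1 := by rw [mul_one]; exact hle
    have := Nat.le_of_mul_le_mul_left this hp.out.pos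
    omega

include hBC hdeg in
/-- in the ramified case, a uniformizer of `C` has `p`-th power a unit of `B` times the
uniformizer of `B` -/
theorem exists_uniformizer (πB : B) (hπB : maximalIdeal B = Ideal.span {πB})
    (he : Ideal.ramificationIdx' (maximalIdeal B) (maximalIdeal C) = p) :
    ∃ (πC : C) (u : Bˣ), maximalIdeal C = Ideal.span {πC} ∧
      πC ^ p = algebraMap B C (u * πB) := by
  obtain ⟨ϖ, hϖ⟩ := IsDiscreteValuationRing.exists_irreducible C
  have hϖm : maximalIdeal C = Ideal.span {ϖ} :=
    (IsDiscreteValuationRing.irreducible_iff_uniformizer ϖ).mp hϖ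
  have hπB0 : πB ≠ 0 := by
    rintro rfl
    apply IsDiscreteValuationRing.not_a_field B
    rw [hπB, Ideal.span_singleton_eq_bot]
  have hπC0 : algebraMap B C πB ≠ 0 := fun h => hπB0 (hBC (by rw [h, map_zero]))
  obtain ⟨e, w, hw⟩ := IsDiscreteValuationRing.eq_unit_mul_pow_irreducible hπC0 hϖ
  have hram := Groth.Agent.Lib.R2H1.EtRamAbh.ramificationIdx'_eq_of_eq πB hπB ϖ hϖm hϖ.ne_zero e w hw
  rw [he] at hram
  subst hram
  -- ϖ ^ p = w⁻¹ * πB, and w⁻¹ ∈ L ∩ C = B
  have h1 : ϖ ^ p = (w⁻¹ : Cˣ) * algebraMap B C πB := by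
    rw [hw, ← mul_assoc, ← Units.val_mul, inv_mul_cancel, Units.val_one, one_mul]
  obtain ⟨l, hl⟩ := pow_mem_range p L M hdeg (algebraMap C M ϖ)
  have hπL0 : algebraMap B L πB ≠ 0 := fun h =>
    hπB0 (IsFractionRing.injective B L (by rw [h, map_zero]))
  have h2 : algebraMap L M (l / algebraMap B L πB) = algebraMap C M ((w⁻¹ : Cˣ) : C) := by
    rw [map_div₀, hl, ← map_pow, h1, map_mul, ← IsScalarTower.algebraMap_apply B C M,
      IsScalarTower.algebraMap_apply B L M]
    rw [mul_div_assoc, div_self, mul_one]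
    exact fun h => hπL0 ((algebraMap L M).injective (by rw [h, map_zero]))
  obtain ⟨b, hb⟩ := mem_range_of_mem B C L M _ _ h2
  have hbC : algebraMap B C b = ((w⁻¹ : Cˣ) : C) := by
    apply IsFractionRing.injective C M
    rw [← h2, ← hb, ← IsScalarTower.algebraMap_apply B L M, IsScalarTower.algebraMap_apply B C M]
  have hbu : IsUnit b := by
    apply isUnit_of_map_unit (algebraMap B C)
    rw [hbC]; exact (w⁻¹).isUnit
  refine ⟨ϖ, hbu.unit, hϖm, ?_⟩
  rw [h1, map_mul, IsUnit.unit_spec, hbC]

end BC

end Part2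

section Part3

open Polynomial IsLocalRing Ideal
open Groth.Agent.Lib.R2H1.EtRam
open scoped Classical IntermediateField

section Dich

variable {B : Type u} [CommRing B] [IsLocalRing B] (p : ℕ) (πB : B)
  (hπB : maximalIdeal B = Ideal.span {πB}) (u : B)

/-- `u` is a "`p`-th power polynomial in `πB`" up to order `m`. -/
def Expands (m : ℕ) : Prop :=
  ∃ (bs : ℕ → B) (r : B), u = ∑ i ∈ Finset.range m, bs i ^ p * πB ^ i + r * πB ^ m

/-- `u` is a "`p`-th power polynomial in `πB`" up to order `m` with a remainder whose residue is not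
a `p`-th power. -/
def Good (m : ℕ) : Prop :=
  ∃ (bs : ℕ → B) (r : B), u = ∑ i ∈ Finset.range m, bs i ^ p * πB ^ i + r * πB ^ m ∧
    ∀ c : B, residue B r ≠ residue B c ^ p

theorem expands_zero : Expands p πB u 0 :=
  ⟨fun _ => 0, u, by simp⟩

include hπB in
theorem good_or_expands_succ (m : ℕ) (h : Expands p πB u m) :
    Good p πB u m ∨ Expands p πB u (m + 1) := by
  obtain ⟨bs, r, hu⟩ := h
  by_cases hr : ∀ c : B, residue B r ≠ residue B c ^ p
  · exact Or.inl ⟨bs, r, hu, hr⟩
  · right
    push Not at hr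
    obtain ⟨c, hc⟩ := hr
    have hmem : r - c ^ p ∈ maximalIdeal B := by
      rw [← residue_eq_zero_iff, map_sub, map_pow, hc, sub_self]
    rw [hπB] at hmem
    obtain ⟨r', hr'⟩ := Ideal.mem_span_singleton'.mp hmem
    refine ⟨fun i => if i = m then c else bs i, r', ?_⟩
    rw [Finset.sum_range_succ]
    have h1 : ∑ i ∈ Finset.range m, (if i = m then c else bs i) ^ p * πB ^ i =
        ∑ i ∈ Finset.range m, bs i ^ p * πB ^ i := by
      apply Finset.sum_congr rfl
      intro i hi
      rw [if_neg (Finset.mem_range.mp hi).ne]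
    have h0 : (fun i => if i = m then c else bs i) m = c := if_pos rfl
    rw [h0]
    rw [h1, hu]
    have h2 : r = c ^ p + r' * πB := by rw [hr']; ring
    rw [h2]
    ring

include hπB in
theorem dichotomy : (∃ m, Good p πB u m) ∨ ∀ m, Expands p πB u m := by
  by_cases h : ∃ m, Good p πB u m
  · exact Or.inl h
  · right
    push Not at h
    intro m
    induction m with
    | zero => exact expands_zero p πB u
    | succ m ih =>
      rcases good_or_expands_succ p πB hπB u m ih with h1 | h1
      · exact absurd h1 (h m)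
      · exact h1

end Dich

end Part3

section Part4

open Polynomial IsLocalRing Ideal
open Groth.Agent.Lib.R2H1.EtRam
open scoped Classical IntermediateField

section Nag

variable (B L N : Type u) [CommRing B] [IsDomain B] [IsDiscreteValuationRing B]
  [Field L] [Algebra B L] [IsFractionRing B L] [Field N] [Algebra L N] [Algebra B N]
  [IsScalarTower B L N] [FiniteDimensional L N]

include L in
theorem finite_integralClosure (hB : CAlg.IsNagata B) : Module.Finite B (integralClosure B N) := by
  haveI : Algebra.EssFiniteType B L := Algebra.EssFiniteType.of_isLocalization L (nonZeroDivisors B)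
  haveI : Algebra.EssFiniteType L N := inferInstance
  haveI : Algebra.EssFiniteType B N := Algebra.EssFiniteType.comp B L N
  exact Groth.Agent.Lib.Helper4.TotalFrac.finite_integralClosure_field B hB N

include L in
theorem isDedekindDomain_integralClosure (hB : CAlg.IsNagata B) :
    IsDedekindDomain (integralClosure B N) := by
  haveI hfin : Module.Finite B (integralClosure B N) := finite_integralClosure B L N hB
  haveI h1 : IsNoetherianRing (integralClosure B N) := by
    haveI : IsNoetherian B (integralClosure B N) := isNoetherian_of_isNoetherianRing_of_finite B _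
    exact isNoetherianRing_iff.mpr (isNoetherian_of_tower B inferInstance)
  haveI h2 : Ring.DimensionLEOne (integralClosure B N) := inferInstance
  haveI h3 : IsIntegrallyClosed (integralClosure B N) :=
    integralClosure.isIntegrallyClosedOfFiniteExtension L
  exact { }

end Nag

end Part4

section Part5

open Polynomial IsLocalRing Ideal
open Groth.Agent.Lib.R2H1.EtRam
open scoped Classical IntermediateField

section DVR

set_option maxHeartbeats 400000 in
/-- generalisation of `EtRam.exists_eq_ofPrime`: separability replaced by the hypothesis that the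
integral closure is a Dedekind domain -/
theorem exists_eq_ofPrime' (A K L : Type u) [CommRing A] [IsDomain A] [IsDiscreteValuationRing A]
    [Field K] [Algebra A K] [IsFractionRing A K] [Field L] [Algebra K L] [Algebra A L]
    [IsScalarTower A K L] [FiniteDimensional K L]
    (hD : IsDedekindDomain (integralClosure A L))
    (V : ValuationSubring L)
    (h : EtRam.Dominates A (algebraMap A L) V) :
    ∃ (Q : Ideal (integralClosure A L).toSubring) (_ : Q.IsPrime), Q ≠ ⊥ ∧
      V.toSubring = (LocalSubring.ofPrime (integralClosure A L).toSubring Q).toSubring := by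
  classical
  set R : Subring L := (integralClosure A L).toSubring with hR
  have hRV : R ≤ V.toSubring := integralClosure_le V h.1
  haveI : IsDedekindDomain R := hD
  haveI : IsFractionRing R L :=
    show IsFractionRing (integralClosure A L) L from
      IsIntegralClosure.isFractionRing_of_finite_extension A K L _
  let Q : Ideal R := (maximalIdeal V).comap (Subring.inclusion hRV)
  haveI hQp : Q.IsPrime := Ideal.comap_isPrime _ _
  have hinj : Function.Injective (algebraMap A L) := by
    rw [IsScalarTower.algebraMap_eq A K L]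
    exact (algebraMap K L).injective.comp (IsFractionRing.injective A K)
  have hQ0 : Q ≠ ⊥ := by
    obtain ⟨π, hπ⟩ := IsDiscreteValuationRing.exists_irreducible A
    have hπm : π ∈ maximalIdeal A := by
      rw [IsLocalRing.mem_maximalIdeal]; exact hπ.not_isUnit
    have hπR : algebraMap A L π ∈ R := (integralClosure A L).algebraMap_mem π
    intro hbot
    have hmem : (⟨algebraMap A L π, hπR⟩ : R) ∈ Q := by
      show Subring.inclusion hRV ⟨algebraMap A L π, hπR⟩ ∈ maximalIdeal V
      exact (V.valuation_lt_one_iff ⟨algebraMap A L π, h.1 π⟩).mpr (h.2 π hπm)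
    rw [hbot, Ideal.mem_bot] at hmem
    have : algebraMap A L π = 0 := congrArg Subtype.val hmem
    exact hπ.ne_zero (hinj (by rw [this, map_zero]))
  refine ⟨Q, hQp, hQ0, ?_⟩
  set S : Subring L := (LocalSubring.ofPrime R Q).toSubring with hS
  haveI : IsDiscreteValuationRing S :=
    IsLocalization.AtPrime.isDiscreteValuationRing_of_dedekind_domain R hQ0 S
  haveI : IsFractionRing S L :=
    IsFractionRing.isFractionRing_of_isDomain_of_isLocalization Q.primeCompl S L
  have hSv : ∀ x : L, x ∈ S ∨ x⁻¹ ∈ S := mem_or_inv_mem_of_valuationRing S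
  -- elements of `S` as fractions
  have hfrac : ∀ y : S, ∃ (b : R) (s : R), s ∉ Q ∧ (y : L) * (s : L) = (b : L) := by
    intro y
    obtain ⟨⟨b, s⟩, hbs⟩ := IsLocalization.surj Q.primeCompl y
    refine ⟨b, s.1, s.2, ?_⟩
    exact congrArg Subtype.val hbs
  -- elements of `R` outside `Q` are units of `V`
  have hunit : ∀ s : R, s ∉ Q → (s : L)⁻¹ ∈ V := by
    intro s hs
    have hs' : ¬ (Subring.inclusion hRV s) ∈ maximalIdeal V := hs
    have hs'' : IsUnit (Subring.inclusion hRV s : V) :=
      (IsLocalRing.notMem_maximalIdeal (R := V)).mp hs'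
    obtain ⟨⟨t, ht⟩, hst⟩ := isUnit_iff_exists_inv.mp hs''
    have h1 : (s : L) * t = 1 := congrArg Subtype.val hst
    rw [← eq_inv_of_mul_eq_one_right h1]
    exact ht
  have hSV : S ≤ V.toSubring := by
    intro y hy
    obtain ⟨b, s, hs, hbs⟩ := hfrac ⟨y, hy⟩
    have hs0 : (s : L) ≠ 0 := by
      intro h0
      apply hs
      have : s = 0 := Subtype.ext h0
      rw [this]; exact Q.zero_mem
    have : y = (b : L) * (s : L)⁻¹ := by
      rw [← hbs]; field_simp
    rw [this]
    exact V.mul_mem _ _ (hRV b.2) (hunit s hs)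
  have hle : LocalSubring.ofPrime R Q ≤ V.toLocalSubring := by
    refine ⟨hSV, ⟨?_⟩⟩
    intro y hy
    obtain ⟨b, s, hs, hbs⟩ := hfrac y
    -- `b` is a unit of `V`, hence not in `Q`
    have hb : b ∉ Q := by
      intro hbQ
      have hbm : Subring.inclusion hRV b ∈ maximalIdeal V := hbQ
      have hsm : ¬ (Subring.inclusion hRV s) ∈ maximalIdeal V := hs
      have hsu : IsUnit (Subring.inclusion hRV s : V) :=
        (IsLocalRing.notMem_maximalIdeal (R := V)).mp hsm
      have : Subring.inclusion hRV b = Subring.inclusion hSV y * Subring.inclusion hRV s := by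
        apply Subtype.ext
        exact hbs.symm
      rw [this] at hbm
      have hu : IsUnit ((Subring.inclusion hSV y : V) * (Subring.inclusion hRV s : V)) :=
        IsUnit.mul hy hsu
      exact (IsLocalRing.notMem_maximalIdeal (R := V)).mpr hu hbm
    have hbu : IsUnit (algebraMap R S b) :=
      IsLocalization.map_units S (⟨b, hb⟩ : Q.primeCompl)
    have hys : y * algebraMap R S s = algebraMap R S b := Subtype.ext hbs
    rw [← hys] at hbu
    exact isUnit_of_mul_isUnit_left hbu
  have hmax := (ValuationSubring.ofSubring S hSv).isMax_toLocalSubring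
  have heq : (ValuationSubring.ofSubring S hSv).toLocalSubring = LocalSubring.ofPrime R Q :=
    LocalSubring.toSubring_injective rfl
  rw [heq] at hmax
  have := le_antisymm (hmax hle) hle
  exact congrArg LocalSubring.toSubring this

theorem isDVR_of_dominates_of_dedekind (A K L : Type u) [CommRing A] [IsDomain A]
    [IsDiscreteValuationRing A]
    [Field K] [Algebra A K] [IsFractionRing A K] [Field L] [Algebra K L] [Algebra A L]
    [IsScalarTower A K L] [FiniteDimensional K L]
    (hD : IsDedekindDomain (integralClosure A L))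
    (V : ValuationSubring L)
    (h : EtRam.Dominates A (algebraMap A L) V) : IsDiscreteValuationRing V := by
  obtain ⟨Q, hQp, hQ0, heq⟩ := exists_eq_ofPrime' A K L hD V h
  haveI : IsDedekindDomain (integralClosure A L).toSubring := hD
  haveI : IsDiscreteValuationRing (LocalSubring.ofPrime (integralClosure A L).toSubring Q).toSubring :=
    IsLocalization.AtPrime.isDiscreteValuationRing_of_dedekind_domain _ hQ0 _
  exact IsDiscreteValuationRing.RingEquivClass.isDiscreteValuationRing (RingEquiv.subringCongr heq.symm)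

/-- a valuation subring of a finite extension of the fraction field of a Nagata discrete valuation
ring dominating it is a discrete valuation ring -/
theorem isDVR_of_dominates_of_nagata (B L N : Type u) [CommRing B] [IsDomain B]
    [IsDiscreteValuationRing B]
    [Field L] [Algebra B L] [IsFractionRing B L] [Field N] [Algebra L N] [Algebra B N]
    [IsScalarTower B L N] [FiniteDimensional L N] (hB : CAlg.IsNagata B)
    (V : ValuationSubring N)
    (h : EtRam.Dominates B (algebraMap B N) V) : IsDiscreteValuationRing V :=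
  isDVR_of_dominates_of_dedekind B L N (isDedekindDomain_integralClosure B L N hB) V h

end DVR

end Part5

section Part6

open Polynomial IsLocalRing Ideal
open Groth.Agent.Lib.R2H1.EtRam
open scoped Classical IntermediateField

section Step1

variable (A B C : Type u)
    [CommRing A] [IsDomain A] [IsDiscreteValuationRing A]
    [CommRing B] [IsDomain B] [IsDiscreteValuationRing B]
    [CommRing C] [IsDomain C] [IsDiscreteValuationRing C]
    [Algebra A B] [Algebra B C] [Algebra A C] [IsScalarTower A B C]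
    (hBC : Function.Injective (algebraMap B C)) [IsLocalHom (algebraMap B C)]

include hBC in
theorem weaklyUnramified_of_e_one (hw : EtRam.IsWeaklyUnramified A B)
    (he : Ideal.ramificationIdx' (maximalIdeal B) (maximalIdeal C) = 1) :
    EtRam.IsWeaklyUnramified A C := by
  have h1 : EtRam.IsWeaklyUnramified B C :=
    (isWeaklyUnramified_iff (map_maximalIdeal_ne_bot hBC)).mpr he
  unfold EtRam.IsWeaklyUnramified at *
  rw [IsScalarTower.algebraMap_eq A B C, ← Ideal.map_map, hw, h1]

end Step1

section Step4End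

variable (p : ℕ) [hp : Fact p.Prime] (B C L M : Type u)
    [CommRing B] [IsDomain B] [IsDiscreteValuationRing B]
    [CommRing C] [IsDomain C] [IsDiscreteValuationRing C]
    [Algebra B C] (hBC : Function.Injective (algebraMap B C)) [IsLocalHom (algebraMap B C)]
    [Field L] [Field M] [Algebra B L] [IsFractionRing B L]
    [Algebra C M] [IsFractionRing C M] [Algebra L M]
    [Algebra B M] [IsScalarTower B L M] [IsScalarTower B C M]
    [IsPurelyInseparable L M] (hdeg : Module.finrank L M = p)

include hdeg in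
theorem isIntegral_of_mem (c : C) : IsIntegral B (algebraMap C M c) := by
  obtain ⟨l, hl⟩ := pow_mem_range p L M hdeg (algebraMap C M c)
  rw [← map_pow] at hl
  obtain ⟨b, hb⟩ := mem_range_of_mem B C L M l (c ^ p) hl
  refine ⟨X ^ p - Polynomial.C b, monic_X_pow_sub_C b hp.out.ne_zero, ?_⟩
  rw [eval₂_sub, eval₂_pow, eval₂_X, eval₂_C, IsScalarTower.algebraMap_apply B L M, hb, hl,
    map_pow, sub_self]

include hdeg in
theorem finite_of_nagata (hB : CAlg.IsNagata B) : Module.Finite B C := by
  haveI : FiniteDimensional L M := by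
    apply Module.finite_of_finrank_pos
    rw [hdeg]; exact hp.out.pos
  haveI hfin : Module.Finite B (integralClosure B M) := finite_integralClosure B L M hB
  haveI : IsNoetherian B (integralClosure B M) := isNoetherian_of_isNoetherianRing_of_finite B _
  let F : C →ₗ[B] integralClosure B M :=
    { toFun := fun c => ⟨algebraMap C M c, isIntegral_of_mem p B C L M hdeg c⟩
      map_add' := fun x y => Subtype.ext (map_add _ x y)
      map_smul' := fun b x => by
        apply Subtype.ext
        show algebraMap C M (b • x) = b • algebraMap C M x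
        rw [Algebra.smul_def, Algebra.smul_def, map_mul, ← IsScalarTower.algebraMap_apply B C M] }
  have hF : Function.Injective F := by
    intro x y hxy
    apply IsFractionRing.injective C M
    exact congrArg Subtype.val hxy
  exact Module.Finite.of_injective F hF

theorem residue_surj (hf : Module.finrank (ResidueField B) (ResidueField C) = 1) (x : C) :
    ∃ b : B, x - algebraMap B C b ∈ maximalIdeal C := by
  have hbot := Subalgebra.bot_eq_top_of_finrank_eq_one hf
  have hx : residue C x ∈ (⊥ : Subalgebra (ResidueField B) (ResidueField C)) := by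
    rw [hbot]; exact Algebra.mem_top
  rw [Algebra.mem_bot] at hx
  obtain ⟨c, hc⟩ := hx
  obtain ⟨b, rfl⟩ := residue_surjective c
  refine ⟨b, ?_⟩
  rw [← residue_eq_zero_iff, map_sub, ← hc, sub_eq_zero]
  rfl

include hBC hdeg in
theorem adjoin_eq_top_of_root (hB : CAlg.IsNagata B)
    (hf : Module.finrank (ResidueField B) (ResidueField C) = 1)
    (πB : B) (hπB : maximalIdeal B = Ideal.span {πB})
    (πC : C) (u : Bˣ) (hπC : maximalIdeal C = Ideal.span {πC})
    (hpow : πC ^ p = algebraMap B C (u * πB))
    (x : M) (hx : x ^ p = algebraMap B M πB) :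
    ∃ c : C, c ^ p = algebraMap B C πB ∧ Algebra.adjoin B {c} = ⊤ := by
  have hxint : IsIntegral C x := by
    refine ⟨X ^ p - Polynomial.C (algebraMap B C πB), monic_X_pow_sub_C _ hp.out.ne_zero, ?_⟩
    rw [eval₂_sub, eval₂_pow, eval₂_X, eval₂_C, hx, ← IsScalarTower.algebraMap_apply B C M,
      sub_self]
  obtain ⟨c, hc⟩ := IsIntegrallyClosed.algebraMap_eq_of_integral hxint
  have hcp : c ^ p = algebraMap B C πB := by
    apply IsFractionRing.injective C M
    rw [map_pow, hc, hx, ← IsScalarTower.algebraMap_apply B C M]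
  refine ⟨c, hcp, ?_⟩
  have hπBm : πB ∈ maximalIdeal B := hπB ▸ Ideal.mem_span_singleton_self πB
  have hπB0 : πB ≠ 0 := by
    rintro rfl
    apply IsDiscreteValuationRing.not_a_field B
    rw [hπB, Ideal.span_singleton_eq_bot]
  have hπC0 : algebraMap B C πB ≠ 0 := fun h => hπB0 (hBC (by rw [h, map_zero]))
  -- `c` is a uniformiser
  have hcm : c ∈ maximalIdeal C := by
    rw [mem_maximalIdeal, mem_nonunits_iff]
    intro hcu
    have h1 : IsUnit (algebraMap B C πB) := by rw [← hcp]; exact hcu.pow p
    exact (mem_maximalIdeal πB).mp hπBm (isUnit_of_map_unit (algebraMap B C) πB h1)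
  rw [hπC, Ideal.mem_span_singleton'] at hcm
  obtain ⟨t, ht⟩ := hcm
  have htu : IsUnit t := by
    have h1 : algebraMap B C πB * (algebraMap B C u * t ^ p) = algebraMap B C πB * 1 := by
      rw [mul_one]
      calc algebraMap B C πB * (algebraMap B C u * t ^ p)
          = t ^ p * algebraMap B C (u * πB) := by rw [map_mul]; ring
        _ = (t * πC) ^ p := by rw [← hpow]; ring
        _ = algebraMap B C πB := by rw [ht, hcp]
    have h2 := mul_left_cancel₀ hπC0 h1
    have h3 : IsUnit (t ^ p) := IsUnit.of_mul_eq_one_right _ h2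
    exact (isUnit_pow_iff hp.out.ne_zero).mp h3
  have hcmax : maximalIdeal C = Ideal.span {c} := by
    rw [hπC, ← ht, mul_comm]
    exact (Ideal.span_singleton_mul_right_unit htu πC).symm
  haveI : Module.Finite B C := finite_of_nagata p B C L M hdeg hB
  have hspan := Groth.Agent.Lib.R2H1.EtRamTotRam.span_pow_eq_top (A := B) (V := C) c hcmax
    (residue_surj B C hf) πB hπBm p 1 (by rw [mul_one, hcp])
  rw [eq_top_iff]
  intro y _
  have hy : y ∈ Submodule.span B (Set.range (fun j : Fin p => c ^ (j : ℕ))) := by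
    rw [hspan]; exact Submodule.mem_top
  have hle : Submodule.span B (Set.range (fun j : Fin p => c ^ (j : ℕ))) ≤
      Subalgebra.toSubmodule (Algebra.adjoin B {c}) := by
    rw [Submodule.span_le]
    rintro _ ⟨j, rfl⟩
    exact Subalgebra.pow_mem _ (Algebra.subset_adjoin (Set.mem_singleton c)) _
  exact hle hy

end Step4End

end Part6

section Part7

open Polynomial IsLocalRing Ideal
open Groth.Agent.Lib.R2H1.EtRam
open scoped Classical IntermediateField

section K1

variable (p : ℕ) [hp : Fact p.Prime] (B N : Type u)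
    [CommRing B] [IsDomain B] [IsDiscreteValuationRing B]
    [Field N] [Algebra B N] [CharP N p]
    (πB : B) (c₀ : N) (hc₀ : c₀ ^ p = algebraMap B N πB)

include hc₀ in
theorem pow_mem_span (i : ℕ) :
    c₀ ^ i ∈ Submodule.span B (Set.range fun j : Fin p => c₀ ^ (j : ℕ)) := by
  have hp0 : 0 < p := hp.out.pos
  have h1 : c₀ ^ i = (πB ^ (i / p)) • c₀ ^ (i % p) := by
    rw [Algebra.smul_def, map_pow, ← hc₀, ← pow_mul, ← pow_add, Nat.div_add_mod]
  rw [h1]
  apply Submodule.smul_mem
  exact Submodule.subset_span ⟨⟨i % p, Nat.mod_lt _ hp0⟩, rfl⟩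

include hc₀ in
theorem sum_mem_span (bs : ℕ → B) (n : ℕ) :
    ∑ i ∈ Finset.range n, algebraMap B N (bs i) * c₀ ^ i ∈
      Submodule.span B (Set.range fun j : Fin p => c₀ ^ (j : ℕ)) := by
  apply Submodule.sum_mem
  intro i _
  rw [← Algebra.smul_def]
  exact Submodule.smul_mem _ _ (pow_mem_span p B N πB c₀ hc₀ i)

include hc₀ in
/-- the approximation step -/
theorem approx (hc₀0 : c₀ ≠ 0) (y : N) (u : B) (hy : y ^ p = algebraMap B N u)
    (k : ℕ) (hexp : Expands p πB u (p * k)) :
    ∃ s ∈ Submodule.span B (Set.range fun j : Fin p => c₀ ^ (j : ℕ)),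
      ∃ z : N, IsIntegral B z ∧ y = s + πB ^ k • z := by
  obtain ⟨bs, r, hu⟩ := hexp
  set s : N := ∑ i ∈ Finset.range (p * k), algebraMap B N (bs i) * c₀ ^ i with hs
  have hsp : s ^ p = ∑ i ∈ Finset.range (p * k), algebraMap B N (bs i ^ p * πB ^ i) := by
    rw [hs, sum_pow_char]
    apply Finset.sum_congr rfl
    intro i _
    rw [mul_pow, ← pow_mul, mul_comm i p, pow_mul, hc₀, map_mul, map_pow, map_pow]
  have hyu : y ^ p = s ^ p + algebraMap B N r * (c₀ ^ (p * k)) ^ p := by
    rw [hy, hu, map_add, map_sum, hsp, map_mul, map_pow, ← hc₀, ← pow_mul, ← pow_mul]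
    congr 2
    ring
  have hck0 : c₀ ^ (p * k) ≠ 0 := pow_ne_zero _ hc₀0
  refine ⟨s, sum_mem_span p B N πB c₀ hc₀ bs _, (y - s) / c₀ ^ (p * k), ?_, ?_⟩
  · refine ⟨X ^ p - Polynomial.C r, monic_X_pow_sub_C r hp.out.ne_zero, ?_⟩
    rw [eval₂_sub, eval₂_pow, eval₂_X, eval₂_C, div_pow, sub_pow_char, hyu, add_sub_cancel_left,
      mul_div_assoc, div_self (pow_ne_zero _ hck0), mul_one, sub_self]
  · rw [Algebra.smul_def, map_pow, ← hc₀, ← pow_mul, mul_div_cancel₀ _ hck0]
    ring

include hc₀ in
theorem mem_span_of_expands (hfin : Module.Finite B (integralClosure B N))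
    (hπBm : πB ∈ maximalIdeal B) (hc₀0 : c₀ ≠ 0) (y : N) (u : B) (hy : y ^ p = algebraMap B N u)
    (hexp : ∀ m, Expands p πB u m) :
    y ∈ Submodule.span B (Set.range fun j : Fin p => c₀ ^ (j : ℕ)) := by
  set S₀ : Submodule B N := Submodule.span B (Set.range fun j : Fin p => c₀ ^ (j : ℕ)) with hS₀
  set R' : Submodule B N := Subalgebra.toSubmodule (integralClosure B N) with hR'
  haveI : Module.Finite B R' := hfin
  have hyR : y ∈ R' := by
    show IsIntegral B y
    refine ⟨X ^ p - Polynomial.C u, monic_X_pow_sub_C u hp.out.ne_zero, ?_⟩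
    rw [eval₂_sub, eval₂_pow, eval₂_X, eval₂_C, hy, sub_self]
  have hc₀R : c₀ ∈ integralClosure B N := by
    show IsIntegral B c₀
    refine ⟨X ^ p - Polynomial.C πB, monic_X_pow_sub_C πB hp.out.ne_zero, ?_⟩
    rw [eval₂_sub, eval₂_pow, eval₂_X, eval₂_C, hc₀, sub_self]
  have hS₀R : S₀ ≤ R' := by
    rw [hS₀, Submodule.span_le]
    rintro _ ⟨j, rfl⟩
    exact Subalgebra.pow_mem _ hc₀R _
  set S₁ : Submodule B R' := Submodule.comap R'.subtype S₀ with hS₁
  have hkrull := Ideal.iInf_pow_smul_eq_bot_of_isLocalRing (maximalIdeal B) (M := R' ⧸ S₁)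
    (Ideal.IsPrime.ne_top inferInstance)
  have hmem : S₁.mkQ ⟨y, hyR⟩ ∈ ⨅ i : ℕ, maximalIdeal B ^ i • (⊤ : Submodule B (R' ⧸ S₁)) := by
    rw [Submodule.mem_iInf]
    intro k
    obtain ⟨s, hs, z, hz, hyz⟩ := approx p B N πB c₀ hc₀ hc₀0 y u hy k (hexp (p * k))
    have hzR : z ∈ R' := hz
    have h1 : (⟨y, hyR⟩ : R') = ⟨s, hS₀R hs⟩ + πB ^ k • ⟨z, hzR⟩ := Subtype.ext hyz
    rw [h1, map_add, map_smul]
    have h2 : S₁.mkQ ⟨s, hS₀R hs⟩ = 0 := by
      rw [Submodule.mkQ_apply, Submodule.Quotient.mk_eq_zero]
      exact hs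
    rw [h2, zero_add]
    apply Submodule.smul_mem_smul _ Submodule.mem_top
    exact Ideal.pow_mem_pow hπBm k
  rw [hkrull, Submodule.mem_bot, Submodule.mkQ_apply, Submodule.Quotient.mk_eq_zero] at hmem
  exact hmem

end K1

end Part7

section Part8

open Polynomial IsLocalRing Ideal
open Groth.Agent.Lib.R2H1.EtRam
open scoped Classical IntermediateField

section K2

variable (p : ℕ) [hp : Fact p.Prime] (B C L M : Type u)
    [CommRing B] [IsDomain B] [IsDiscreteValuationRing B]
    [CommRing C] [IsDomain C] [IsDiscreteValuationRing C]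
    [Algebra B C] (hBC : Function.Injective (algebraMap B C)) [IsLocalHom (algebraMap B C)]
    [Field L] [Field M] [Algebra B L] [IsFractionRing B L]
    [Algebra C M] [IsFractionRing C M] [Algebra L M]
    [Algebra B M] [IsScalarTower B L M] [IsScalarTower B C M]
    [IsPurelyInseparable L M] (hdeg : Module.finrank L M = p)

include hBC hdeg in
theorem false_of_expands (N : Type u) [Field N] [Algebra M N] [Algebra L N] [Algebra B N]
    [IsScalarTower L M N] [IsScalarTower B L N] [IsScalarTower B M N] [FiniteDimensional L N]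
    (hB : CAlg.IsNagata B) (πB : B) (hπB : maximalIdeal B = Ideal.span {πB})
    (πC : C) (u : Bˣ) (hpow : πC ^ p = algebraMap B C (u * πB))
    (hexp : ∀ m, Expands p πB (u : B) m)
    (c₀ : N) (hc₀ : c₀ ^ p = algebraMap B N πB)
    (hind : ∀ a : ℕ → M, ∑ j ∈ Finset.range p, algebraMap M N (a j) * c₀ ^ j = 0 → a 0 = 0) :
    False := by
  haveI := charP_of_purelyInsep p L M hdeg
  haveI : CharP N p := charP_of_injective_algebraMap (algebraMap L N).injective p
  have hfin := finite_integralClosure B L N hB
  have hπBm : πB ∈ maximalIdeal B := hπB ▸ Ideal.mem_span_singleton_self πB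
  have hπB0 : πB ≠ 0 := by
    rintro rfl
    apply IsDiscreteValuationRing.not_a_field B
    rw [hπB, Ideal.span_singleton_eq_bot]
  have hginj : Function.Injective (algebraMap B N) := by
    rw [IsScalarTower.algebraMap_eq B L N]
    exact (algebraMap L N).injective.comp (IsFractionRing.injective B L)
  have hgπ0 : algebraMap B N πB ≠ 0 := fun h => hπB0 (hginj (by rw [h, map_zero]))
  have hc₀0 : c₀ ≠ 0 := by
    rintro rfl
    rw [zero_pow hp.out.ne_zero] at hc₀
    exact hgπ0 hc₀.symm
  set ιπC : N := algebraMap M N (algebraMap C M πC) with hι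
  have hιp : ιπC ^ p = algebraMap B N (u * πB) := by
    rw [hι, ← map_pow, ← map_pow, hpow, ← IsScalarTower.algebraMap_apply B C M,
      ← IsScalarTower.algebraMap_apply B M N]
  set y : N := ιπC / c₀ with hy
  have hyp : y ^ p = algebraMap B N (u : B) := by
    rw [hy, div_pow, hιp, hc₀, map_mul, mul_div_assoc, div_self hgπ0, mul_one]
  have hmem := mem_span_of_expands p B N πB c₀ hc₀ hfin hπBm hc₀0 y (u : B) hyp hexp
  obtain ⟨β, hβ⟩ := (Submodule.mem_span_range_iff_exists_fun B).mp hmem
  obtain ⟨q, hq⟩ : ∃ q, p = q + 1 := ⟨p - 1, by have := hp.out.pos; omega⟩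
  have hq1 : 1 ≤ q := by have := hp.out.two_le; omega
  set β' : ℕ → B := fun j => if h : j < p then β ⟨j, h⟩ else 0 with hβ'
  have hysum : y = ∑ j ∈ Finset.range p, algebraMap B N (β' j) * c₀ ^ j := by
    rw [← hβ, Finset.sum_range]
    apply Finset.sum_congr rfl
    intro j _
    have : β' j = β j := by
      show (if h : (j : ℕ) < p then β ⟨j, h⟩ else 0) = β j
      rw [dif_pos j.2]
    rw [this, Algebra.smul_def]
  set a : ℕ → M := fun j => if j = 0 then
      algebraMap B M (β' q) * algebraMap B M πB - algebraMap C M πC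
    else algebraMap B M (β' (j - 1)) with ha
  have ha0 : a 0 = algebraMap B M (β' q) * algebraMap B M πB - algebraMap C M πC := if_pos rfl
  have hasucc : ∀ j, a (j + 1) = algebraMap B M (β' j) := fun j => by
    show (if j + 1 = 0 then _ else algebraMap B M (β' (j + 1 - 1))) = _
    rw [if_neg (Nat.succ_ne_zero j), Nat.add_sub_cancel]
  have hyc : y * c₀ = ιπC := by rw [hy, div_mul_cancel₀ _ hc₀0]
  have hsum : ∑ j ∈ Finset.range p, algebraMap M N (a j) * c₀ ^ j = 0 := by
    have h1 : y * c₀ = ∑ j ∈ Finset.range q, algebraMap B N (β' j) * c₀ ^ (j + 1) +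
        algebraMap B N (β' q) * algebraMap B N πB := by
      rw [hysum, Finset.sum_mul]
      conv_lhs => rw [hq]
      rw [Finset.sum_range_succ]
      congr 1
      · apply Finset.sum_congr rfl
        intro j _
        rw [pow_succ]; ring
      · rw [mul_assoc, ← pow_succ, ← hq, hc₀]
    conv_lhs => rw [hq]
    rw [Finset.sum_range_succ', ha0, pow_zero, mul_one, map_sub, map_mul,
      ← IsScalarTower.algebraMap_apply B M N, ← IsScalarTower.algebraMap_apply B M N, ← hι, ← hyc, h1]
    have h2 : ∑ j ∈ Finset.range q, algebraMap M N (a (j + 1)) * c₀ ^ (j + 1) =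
        ∑ j ∈ Finset.range q, algebraMap B N (β' j) * c₀ ^ (j + 1) := by
      apply Finset.sum_congr rfl
      intro j _
      rw [hasucc, ← IsScalarTower.algebraMap_apply B M N]
    rw [h2]
    ring
  have h0 := hind a hsum
  rw [ha0, sub_eq_zero] at h0
  have hπCeq : πC = algebraMap B C (β' q * πB) := by
    apply IsFractionRing.injective C M
    rw [← IsScalarTower.algebraMap_apply B C M, map_mul, h0]
  have h3 : (β' q * πB) ^ p = u * πB := by
    apply hBC
    rw [map_pow, ← hπCeq, hpow]
  have h4 : πB * (β' q ^ p * πB ^ q) = πB * u := by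
    calc πB * (β' q ^ p * πB ^ q) = (β' q * πB) ^ p := by rw [hq]; ring
      _ = πB * u := by rw [h3]; ring
  have h5 := mul_left_cancel₀ hπB0 h4
  have h6 : (u : B) ∈ maximalIdeal B := by
    rw [← h5, hπB]
    apply Ideal.mul_mem_left
    exact Ideal.pow_mem_of_mem _ (Ideal.mem_span_singleton_self πB) q (by omega)
  exact (mem_maximalIdeal _).mp h6 u.isUnit

end K2

end Part8

section Part9

open Polynomial IsLocalRing Ideal
open Groth.Agent.Lib.R2H1.EtRam
open scoped Classical IntermediateField

section K3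

variable (p : ℕ) [hp : Fact p.Prime] (B C L M : Type u)
    [CommRing B] [IsDomain B] [IsDiscreteValuationRing B]
    [CommRing C] [IsDomain C] [IsDiscreteValuationRing C]
    [Algebra B C] (hBC : Function.Injective (algebraMap B C)) [IsLocalHom (algebraMap B C)]
    [Field L] [Field M] [Algebra B L] [IsFractionRing B L]
    [Algebra C M] [IsFractionRing C M] [Algebra L M]
    [Algebra B M] [IsScalarTower B L M] [IsScalarTower B C M]
    [IsPurelyInseparable L M] (hdeg : Module.finrank L M = p)

include hBC hdeg in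
theorem exists_root_of_expands
    (hB : CAlg.IsNagata B) (πB : B) (hπB : maximalIdeal B = Ideal.span {πB})
    (πC : C) (u : Bˣ) (hpow : πC ^ p = algebraMap B C (u * πB))
    (hexp : ∀ m, Expands p πB (u : B) m) :
    ∃ x : M, x ^ p = algebraMap B M πB := by
  by_contra hne
  push Not at hne
  have hirr : Irreducible (X ^ p - Polynomial.C (algebraMap B M πB) : M[X]) :=
    X_pow_sub_C_irreducible_of_prime hp.out hne
  haveI : Fact (Irreducible (X ^ p - Polynomial.C (algebraMap B M πB) : M[X])) := ⟨hirr⟩
  haveI : IsScalarTower L M (AdjoinRoot (X ^ p - Polynomial.C (algebraMap B M πB) : M[X])) :=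
    inferInstance
  haveI : IsScalarTower B M (AdjoinRoot (X ^ p - Polynomial.C (algebraMap B M πB) : M[X])) :=
    inferInstance
  haveI : IsScalarTower B L (AdjoinRoot (X ^ p - Polynomial.C (algebraMap B M πB) : M[X])) :=
    IsScalarTower.of_algebraMap_eq (fun b => by
      rw [IsScalarTower.algebraMap_apply B M (AdjoinRoot _), IsScalarTower.algebraMap_apply L M (AdjoinRoot _),
        ← IsScalarTower.algebraMap_apply B L M])
  haveI : FiniteDimensional L M := by
    apply Module.finite_of_finrank_pos
    rw [hdeg]; exact hp.out.pos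
  have hmonic : (X ^ p - Polynomial.C (algebraMap B M πB) : M[X]).Monic :=
    monic_X_pow_sub_C _ hp.out.ne_zero
  haveI : FiniteDimensional M (AdjoinRoot (X ^ p - Polynomial.C (algebraMap B M πB) : M[X])) :=
    hmonic.finite_adjoinRoot
  haveI : FiniteDimensional L (AdjoinRoot (X ^ p - Polynomial.C (algebraMap B M πB) : M[X])) :=
    Module.Finite.trans M _
  refine false_of_expands p B C L M hBC hdeg
    (AdjoinRoot (X ^ p - Polynomial.C (algebraMap B M πB) : M[X])) hB πB hπB πC u hpow hexp
    (AdjoinRoot.root _) ?_ ?_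
  · have h1 := AdjoinRoot.eval₂_root (X ^ p - Polynomial.C (algebraMap B M πB) : M[X])
    rw [eval₂_sub, eval₂_pow, eval₂_X, eval₂_C, sub_eq_zero] at h1
    rw [h1]
    rfl
  · intro a ha
    set Q : M[X] := ∑ j ∈ Finset.range p, Polynomial.C (a j) * X ^ j with hQ
    have hQ0 : AdjoinRoot.mk (X ^ p - Polynomial.C (algebraMap B M πB) : M[X]) Q = 0 := by
      rw [← AdjoinRoot.aeval_eq, hQ, map_sum, ← ha]
      apply Finset.sum_congr rfl
      intro j _
      rw [map_mul, aeval_C, map_pow, aeval_X]
    rw [AdjoinRoot.mk_eq_zero] at hQ0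
    have hdegQ : Q.degree < (X ^ p - Polynomial.C (algebraMap B M πB) : M[X]).degree := by
      rw [degree_X_pow_sub_C hp.out.pos]
      refine lt_of_le_of_lt (degree_sum_le _ _) ?_
      rw [Finset.sup_lt_iff (by exact WithBot.bot_lt_coe p)]
      intro j hj
      refine lt_of_le_of_lt (degree_C_mul_X_pow_le j (a j)) ?_
      exact_mod_cast Finset.mem_range.mp hj
    have hQz : Q = 0 := eq_zero_of_dvd_of_degree_lt hQ0 hdegQ
    have hcoeff : Q.coeff 0 = a 0 := by
      rw [hQ, finset_sum_coeff]
      simp only [coeff_C_mul_X_pow]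
      rw [Finset.sum_ite_eq, if_pos (Finset.mem_range.mpr hp.out.pos)]
    rw [← hcoeff, hQz, coeff_zero]

end K3

end Part9

section Part10

open Polynomial IsLocalRing Ideal
open Groth.Agent.Lib.R2H1.EtRam
open scoped Classical IntermediateField

section X

variable (p : ℕ) [hp : Fact p.Prime] {B M' : Type u} [CommRing B] [Field M'] [CharP M' p]
  (W : ValuationSubring M') (g : B →+* M') (hgW : ∀ b, g b ∈ W)
  (πB : B) (hP0 : g πB ≠ 0) (hP1 : W.valuation (g πB) < 1)

include hP0 hP1 in
/-- valuation facts on `ε = 1 + P ^ (m+1) b''` -/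
theorem eps_facts (m : ℕ) (b'' : M') (hb'' : b'' ∈ W) :
    W.valuation (1 + g πB ^ (m + 1) * b'') = 1 ∧
    ∀ j : ℕ, W.valuation ((1 + g πB ^ (m + 1) * b'') ^ j - 1) ≤ W.valuation (g πB) ^ (m + 1) := by
  set q := W.valuation (g πB) with hq
  have hq0 : q ≠ 0 := by rw [hq, Ne, Valuation.zero_iff]; exact hP0
  have hb1 : W.valuation b'' ≤ 1 := (W.valuation_le_one_iff _).mpr hb''
  have hδ : W.valuation (g πB ^ (m + 1) * b'') ≤ q ^ (m + 1) := by
    rw [map_mul, map_pow]
    calc q ^ (m + 1) * W.valuation b'' ≤ q ^ (m + 1) * 1 := mul_le_mul_right hb1 _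
      _ = _ := mul_one _
  have hδ1 : W.valuation (g πB ^ (m + 1) * b'') < 1 :=
    lt_of_le_of_lt hδ (pow_lt_one₀ zero_le' hP1 (Nat.succ_ne_zero m))
  have hε : W.valuation (1 + g πB ^ (m + 1) * b'') = 1 := W.valuation.map_one_add_of_lt hδ1
  refine ⟨hε, fun j => ?_⟩
  have h1 : (1 + g πB ^ (m + 1) * b'') ^ j - 1 =
      (∑ i ∈ Finset.range j, (1 + g πB ^ (m + 1) * b'') ^ i) * (g πB ^ (m + 1) * b'') := by
    have := geom_sum_mul (1 + g πB ^ (m + 1) * b'') j
    rw [add_sub_cancel_left] at this
    exact this.symm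
  rw [h1, map_mul]
  have h2 : W.valuation (∑ i ∈ Finset.range j, (1 + g πB ^ (m + 1) * b'') ^ i) ≤ 1 := by
    apply Valuation.map_sum_le
    intro i _
    rw [map_pow, hε, one_pow]
  calc _ ≤ 1 * q ^ (m + 1) := mul_le_mul' h2 hδ
    _ = _ := one_mul _

include hgW hP0 hP1 in
/-- the construction of the element `x` with `x ^ p ≡ r` -/
theorem exists_x (m : ℕ) (bs : ℕ → B) (r u : B)
    (hu : u = ∑ i ∈ Finset.range m, bs i ^ p * πB ^ i + r * πB ^ m)
    (πC' π' b'' : M') (hπC' : πC' ^ p = g u * g πB) (hb'' : b'' ∈ W)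
    (hπ' : π' ^ p = g πB + g πB ^ (m + 2) * b'') :
    W.valuation π' ^ p = W.valuation (g πB) ∧
    ∃ x : M', W.valuation (x ^ p - g r) < 1 := by
  set P := g πB with hP
  set q := W.valuation P with hq
  have hq0 : q ≠ 0 := by rw [hq, Ne, Valuation.zero_iff]; exact hP0
  have hqpos : 0 < q := zero_lt_iff.mpr hq0
  have hqle : q ≤ 1 := hP1.le
  set ε := 1 + P ^ (m + 1) * b'' with hε
  obtain ⟨hε1, hεj⟩ := eps_facts W g πB hP0 hP1 m b'' hb''
  have hπ'ε : π' ^ p = P * ε := by rw [hπ', hε]; ring
  have hvπ' : W.valuation π' ^ p = q := by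
    rw [← map_pow, hπ'ε, map_mul, hε1, mul_one]
  refine ⟨hvπ', ?_⟩
  have hπ'0 : π' ≠ 0 := by
    rintro rfl
    rw [map_zero, zero_pow hp.out.ne_zero] at hvπ'
    exact hq0 hvπ'.symm
  have hle1 : ∀ b, W.valuation (g b) ≤ 1 := fun b => (W.valuation_le_one_iff _).mpr (hgW b)
  set s : M' := ∑ i ∈ Finset.range m, g (bs i) * π' ^ (i + 1) with hs
  have hsp : s ^ p = ∑ i ∈ Finset.range m, g (bs i) ^ p * (P ^ (i + 1) * ε ^ (i + 1)) := by
    rw [hs, sum_pow_char]
    apply Finset.sum_congr rfl
    intro i _
    rw [mul_pow, ← pow_mul, mul_comm (i + 1) p, pow_mul, hπ'ε, mul_pow]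
  have hCp : πC' ^ p = ∑ i ∈ Finset.range m, g (bs i) ^ p * P ^ (i + 1) + g r * P ^ (m + 1) := by
    rw [hπC', hu, map_add, map_sum, add_mul, Finset.sum_mul]
    congr 1
    · apply Finset.sum_congr rfl
      intro i _
      rw [map_mul, map_pow, map_pow, pow_succ]; ring
    · rw [map_mul, map_pow, pow_succ]; ring
  set Nm : M' := (πC' - s) ^ p - g r * (P ^ (m + 1) * ε ^ (m + 1)) with hNm
  have hNm' : Nm = ∑ i ∈ Finset.range m, g (bs i) ^ p * P ^ (i + 1) * (1 - ε ^ (i + 1)) +
      g r * P ^ (m + 1) * (1 - ε ^ (m + 1)) := by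
    rw [hNm, sub_pow_char, hCp, hsp]
    have : ∀ i, g (bs i) ^ p * P ^ (i + 1) * (1 - ε ^ (i + 1)) =
        g (bs i) ^ p * P ^ (i + 1) - g (bs i) ^ p * (P ^ (i + 1) * ε ^ (i + 1)) := fun i => by ring
    rw [Finset.sum_congr rfl (fun i _ => this i), Finset.sum_sub_distrib]
    ring
  have hvNm : W.valuation Nm ≤ q ^ (m + 2) := by
    rw [hNm']
    refine Valuation.map_add_le _ ?_ ?_
    · apply Valuation.map_sum_le
      intro i _
      rw [map_mul, map_mul, map_pow, map_pow, ← Valuation.map_sub_swap]
      calc W.valuation (g (bs i)) ^ p * q ^ (i + 1) * W.valuation (ε ^ (i + 1) - 1)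
          ≤ 1 * q ^ (i + 1) * q ^ (m + 1) :=
            mul_le_mul' (mul_le_mul' (pow_le_one' (hle1 _) p) le_rfl) (hεj _)
        _ = q ^ (i + 1 + (m + 1)) := by rw [one_mul, ← pow_add]
        _ ≤ q ^ (m + 2) := pow_le_pow_of_le_one zero_le' hqle (by omega)
    · rw [map_mul, map_mul, map_pow, ← Valuation.map_sub_swap]
      calc W.valuation (g r) * q ^ (m + 1) * W.valuation (ε ^ (m + 1) - 1)
          ≤ 1 * q ^ (m + 1) * q ^ (m + 1) :=
            mul_le_mul' (mul_le_mul' (hle1 _) le_rfl) (hεj _)
        _ = q ^ (m + 1 + (m + 1)) := by rw [one_mul, ← pow_add]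
        _ ≤ q ^ (m + 2) := pow_le_pow_of_le_one zero_le' hqle (by omega)
  refine ⟨(πC' - s) / π' ^ (m + 1), ?_⟩
  have hden : (π' ^ (m + 1)) ^ p = P ^ (m + 1) * ε ^ (m + 1) := by
    rw [← pow_mul, mul_comm (m + 1) p, pow_mul, hπ'ε, mul_pow]
  have hden0 : P ^ (m + 1) * ε ^ (m + 1) ≠ 0 := by
    rw [← hden]; exact pow_ne_zero _ (pow_ne_zero _ hπ'0)
  have hxr : ((πC' - s) / π' ^ (m + 1)) ^ p - g r = Nm / (P ^ (m + 1) * ε ^ (m + 1)) := by
    rw [div_pow, hden, hNm, sub_div, mul_div_assoc, div_self hden0, mul_one]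
  rw [hxr, map_div₀, map_mul, map_pow, map_pow, hε1, one_pow, mul_one]
  have hqm0 : q ^ (m + 1) ≠ 0 := pow_ne_zero _ hq0
  calc W.valuation Nm / q ^ (m + 1) ≤ q ^ (m + 2) / q ^ (m + 1) :=
        div_le_div_of_nonneg_right hvNm zero_le'
    _ = q := by rw [pow_succ, mul_comm, mul_div_assoc, div_self hqm0, mul_one]
    _ < 1 := hP1

end X

end Part10

section Part11

open Polynomial IsLocalRing Ideal
open Groth.Agent.Lib.R2H1.EtRam
open scoped Classical IntermediateField

section E

variable (p : ℕ) [hp : Fact p.Prime] (B L M' : Type u) [CommRing B] [IsDomain B]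
  [IsDiscreteValuationRing B]
  [Field L] [Algebra B L] [IsFractionRing B L] [Field M'] [Algebra L M'] [Algebra B M']
  [IsScalarTower B L M'] [FiniteDimensional L M']

set_option maxHeartbeats 800000 in
theorem ef_bound (hB : CAlg.IsNagata B) (W : ValuationSubring M')
    (hdom : EtRam.Dominates B (algebraMap B M') W)
    (πB : B) (hπB : maximalIdeal B = Ideal.span {πB}) (t : M')
    (ht : W.valuation t ^ p = W.valuation (algebraMap B M' πB))
    (x : M') (r : B) (hr : ∀ c : B, residue B r ≠ residue B c ^ p)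
    (hx : W.valuation (x ^ p - algebraMap B M' r) < 1) :
    p * p ≤ Module.finrank L M' ∧
      (Module.finrank L M' ≤ p * p →
        ∀ w : M', W.valuation w < 1 → W.valuation w ≤ W.valuation t) := by
  haveI : IsDiscreteValuationRing W := isDVR_of_dominates_of_nagata B L M' hB W hdom
  letI algBW : Algebra B W := (RingHom.codRestrict (algebraMap B M') W hdom.1).toAlgebra
  haveI locW : IsLocalHom (algebraMap B W) := isLocalHom_codRestrict _ W hdom
  haveI : IsScalarTower B W M' := IsScalarTower.of_algebraMap_eq (fun _ => rfl)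
  have hinjM : Function.Injective (algebraMap B M') := by
    rw [IsScalarTower.algebraMap_eq B L M']
    exact (algebraMap L M').injective.comp (IsFractionRing.injective B L)
  have hinj : Function.Injective (algebraMap B W) := fun a b h =>
    hinjM (congrArg Subtype.val h)
  obtain ⟨hfin, hef⟩ := Groth.Agent.Lib.Helper24DvrEF.s7132 B W L M' hinj
  have hp0 : 0 < p := hp.out.pos
  -- the residue degree
  have hr' : W.valuation (algebraMap B M' r) ≤ 1 := (W.valuation_le_one_iff _).mpr (hdom.1 r)
  have hxW : x ∈ W := by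
    rw [← W.valuation_le_one_iff]
    have h1 : W.valuation (x ^ p) ≤ 1 := by
      have : x ^ p = (x ^ p - algebraMap B M' r) + algebraMap B M' r := by ring
      rw [this]
      exact Valuation.map_add_le _ hx.le hr'
    rw [map_pow] at h1
    by_contra hcon
    push Not at hcon
    exact absurd h1 (not_le.mpr (one_lt_pow₀ hcon hp.out.ne_zero))
  have hxbar : residue W ⟨x, hxW⟩ ^ p =
      algebraMap (IsLocalRing.ResidueField B) (IsLocalRing.ResidueField W) (residue B r) := by
    have h1 : (⟨x, hxW⟩ : W) ^ p - algebraMap B W r ∈ maximalIdeal W := by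
      rw [W.valuation_lt_one_iff]
      exact hx
    rw [← residue_eq_zero_iff, map_sub, map_pow, sub_eq_zero] at h1
    rw [h1]
    rfl
  have hirr : Irreducible (X ^ p - Polynomial.C (residue B r) : (IsLocalRing.ResidueField B)[X]) := by
    apply X_pow_sub_C_irreducible_of_prime hp.out
    intro b hb
    obtain ⟨c, rfl⟩ := residue_surjective b
    exact hr c hb.symm
  have hmin : X ^ p - Polynomial.C (residue B r) =
      minpoly (IsLocalRing.ResidueField B) (residue W ⟨x, hxW⟩) := by
    apply minpoly.eq_of_irreducible_of_monic hirr _ (monic_X_pow_sub_C _ hp.out.ne_zero)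
    rw [map_sub, map_pow, aeval_X, aeval_C, hxbar, sub_self]
  have hf : p ≤ Module.finrank (IsLocalRing.ResidueField B) (IsLocalRing.ResidueField W) := by
    have h1 := minpoly.natDegree_le (A := IsLocalRing.ResidueField B) (residue W ⟨x, hxW⟩)
    rw [← hmin, natDegree_X_pow_sub_C] at h1
    exact h1
  -- the ramification index
  obtain ⟨ϖ, hϖ⟩ := IsDiscreteValuationRing.exists_irreducible W
  have hϖm : maximalIdeal W = Ideal.span {ϖ} :=
    (IsDiscreteValuationRing.irreducible_iff_uniformizer ϖ).mp hϖ
  have hπB0 : πB ≠ 0 := by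
    rintro rfl
    apply IsDiscreteValuationRing.not_a_field B
    rw [hπB, Ideal.span_singleton_eq_bot]
  have hπW0 : algebraMap B W πB ≠ 0 := fun h => hπB0 (hinj (by rw [h, map_zero]))
  obtain ⟨e, w, hw⟩ := IsDiscreteValuationRing.eq_unit_mul_pow_irreducible hπW0 hϖ
  have hram := Groth.Agent.Lib.R2H1.EtRamAbh.ramificationIdx'_eq_of_eq πB hπB ϖ hϖm hϖ.ne_zero e w hw
  set ρ := W.valuation (ϖ : M') with hρ
  have hρ1 : ρ < 1 := by
    rw [hρ, ← W.valuation_lt_one_iff, hϖm]
    exact Ideal.mem_span_singleton_self ϖ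
  have hρ0 : ρ ≠ 0 := by
    rw [hρ, Ne, Valuation.zero_iff]
    intro h
    exact hϖ.ne_zero (Subtype.ext h)
  have hρpos : 0 < ρ := zero_lt_iff.mpr hρ0
  have hvπ : W.valuation (algebraMap B M' πB) = ρ ^ e := by
    have h1 : algebraMap B M' πB = ((w : W) : M') * (ϖ : M') ^ e := by
      have := congrArg (Subtype.val : W → M') hw
      rw [MulMemClass.coe_mul, SubmonoidClass.coe_pow] at this
      exact this
    rw [h1, map_mul, map_pow, W.valuation_unit, one_mul]
  have ht1 : W.valuation t < 1 := by
    by_contra hcon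
    push Not at hcon
    have h1 : 1 ≤ W.valuation t ^ p := one_le_pow₀ hcon
    rw [ht, hvπ] at h1
    rcases Nat.eq_zero_or_pos e with he0 | he0
    · rw [he0, pow_zero] at hvπ
      have h2 : W.valuation (algebraMap B M' πB) < 1 := hdom.2 πB (hπB ▸ Ideal.mem_span_singleton_self πB)
      rw [hvπ] at h2
      exact lt_irrefl _ h2
    · exact absurd h1 (not_le.mpr (pow_lt_one₀ zero_le' hρ1 he0.ne'))
  have ht0 : t ≠ 0 := by
    rintro rfl
    rw [map_zero, zero_pow hp.out.ne_zero, hvπ] at ht
    exact pow_ne_zero _ hρ0 ht.symm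
  have htW : t ∈ W := (W.valuation_le_one_iff _).mp ht1.le
  have htW0 : (⟨t, htW⟩ : W) ≠ 0 := fun h => ht0 (congrArg Subtype.val h)
  obtain ⟨k, w', hw'⟩ := IsDiscreteValuationRing.eq_unit_mul_pow_irreducible htW0 hϖ
  have hvt : W.valuation t = ρ ^ k := by
    have h1 : t = ((w' : W) : M') * (ϖ : M') ^ k := by
      have := congrArg (Subtype.val : W → M') hw'
      simpa using this
    rw [h1, map_mul, map_pow, W.valuation_unit, one_mul]
  have hke : k * p = e := by
    rw [hvt, hvπ, ← pow_mul] at ht
    exact pow_right_injective₀ hρpos hρ1.ne ht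
  have hk1 : 1 ≤ k := by
    rcases Nat.eq_zero_or_pos k with hk0 | hk0
    · rw [hk0, pow_zero] at hvt
      rw [hvt] at ht1
      exact absurd ht1 (lt_irrefl _)
    · exact hk0
  rw [hram, ← hke] at hef
  have h1 : p * p ≤ k * p * Module.finrank (IsLocalRing.ResidueField B) (IsLocalRing.ResidueField W) := by
    calc p * p = 1 * p * p := by ring
      _ ≤ k * p * Module.finrank (IsLocalRing.ResidueField B) (IsLocalRing.ResidueField W) :=
        Nat.mul_le_mul (Nat.mul_le_mul hk1 le_rfl) hf
  refine ⟨h1.trans hef, ?_⟩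
  intro hle w hw1
  have hk : k = 1 := by
    have h2 : k * p * p ≤ p * p :=
      (Nat.mul_le_mul le_rfl hf).trans (hef.trans hle)
    have h3 : k * (p * p) ≤ 1 * (p * p) := by rw [← mul_assoc, one_mul]; exact h2
    have := Nat.le_of_mul_le_mul_right h3 (Nat.mul_pos hp0 hp0)
    omega
  rw [hvt, hk, pow_one]
  have hwW : w ∈ W := (W.valuation_le_one_iff _).mp hw1.le
  have hwm : (⟨w, hwW⟩ : W) ∈ maximalIdeal W := (W.valuation_lt_one_iff _).mpr hw1
  rw [hϖm, Ideal.mem_span_singleton'] at hwm
  obtain ⟨c, hc⟩ := hwm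
  have h4 : w = (c : M') * (ϖ : M') := by
    have := congrArg (Subtype.val : W → M') hc
    simpa using this.symm
  rw [h4, map_mul]
  calc W.valuation (c : M') * ρ ≤ 1 * ρ := mul_le_mul' ((W.valuation_le_one_iff _).mpr c.2) le_rfl
    _ = ρ := one_mul _

end E

end Part11

section Part12

open Polynomial IsLocalRing Ideal TensorProduct
open Groth.Agent.Lib.R2H1.EtRam
open scoped Classical IntermediateField

section Gen

variable (K L K₁ M : Type u) [Field K] [Field L] [Field K₁] [Field M]
  [Algebra K L] [Algebra K K₁] [Algebra K M] [Algebra L M] [Algebra K₁ M]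
  [IsScalarTower K L M] [IsScalarTower K K₁ M]

theorem finrank_le_of_adjoin [FiniteDimensional K K₁]
    (hgen : Algebra.adjoin L (Set.range (algebraMap K₁ M)) = ⊤) :
    Module.Finite L M ∧ Module.finrank L M ≤ Module.finrank K K₁ := by
  let φ : L ⊗[K] K₁ →ₐ[L] M :=
    Algebra.TensorProduct.productLeftAlgHom (Algebra.ofId L M) (IsScalarTower.toAlgHom K K₁ M)
  have hφ : Function.Surjective φ := by
    rw [← AlgHom.range_eq_top, eq_top_iff, ← hgen]
    apply Algebra.adjoin_le
    rintro _ ⟨k, rfl⟩
    refine ⟨(1 : L) ⊗ₜ[K] k, ?_⟩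
    show φ ((1 : L) ⊗ₜ[K] k) = _
    simp [φ]
  haveI : Module.Finite L M := Module.Finite.of_surjective φ.toLinearMap hφ
  refine ⟨inferInstance, ?_⟩
  have h1 : Module.finrank L M ≤ Module.finrank L (L ⊗[K] K₁) :=
    LinearMap.finrank_le_finrank_of_surjective (f := φ.toLinearMap) hφ
  rw [Module.finrank_baseChange] at h1
  exact h1

end Gen

section WU

variable {K₁ M' : Type u} [Field K₁] [Field M']

theorem weaklyUnramified_of_val (f : K₁ →+* M') (W : ValuationSubring M') (π₁ : K₁)
    (h1 : W.valuation (f π₁) < 1)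
    (h2 : ∀ w : M', W.valuation w < 1 → W.valuation w ≤ W.valuation (f π₁)) :
    letI : Algebra (W.comap f) W := (EtRam.inclOfComap W f).toAlgebra
    EtRam.IsWeaklyUnramified (W.comap f) W := by
  letI alg : Algebra (W.comap f) W := (EtRam.inclOfComap W f).toAlgebra
  haveI : IsLocalHom (algebraMap (W.comap f) W) := EtRam.isLocalHom_inclOfComap W f
  unfold EtRam.IsWeaklyUnramified
  apply le_antisymm map_maximalIdeal_le
  intro w hw
  have hw1 : W.valuation (w : M') < 1 := (W.valuation_lt_one_iff _).mp hw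
  have hπ₁W : π₁ ∈ W.comap f := (W.valuation_le_one_iff _).mp h1.le
  have hπ₁m : (⟨π₁, hπ₁W⟩ : W.comap f) ∈ maximalIdeal (W.comap f) :=
    (Groth.Agent.Lib.R2H1.EtRamTower.mem_maximalIdeal_comap_iff W f ⟨π₁, hπ₁W⟩).mpr h1
  by_cases hw0 : (w : M') = 0
  · have : w = 0 := Subtype.ext hw0
    rw [this]; exact Ideal.zero_mem _
  have hle := h2 w hw1
  have hf0 : f π₁ ≠ 0 := by
    intro h
    rw [h, map_zero] at hle
    exact hw0 ((Valuation.zero_iff _).mp (le_antisymm hle zero_le'))
  have hcW : (w : M') / f π₁ ∈ W := by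
    rw [← W.valuation_le_one_iff, map_div₀]
    exact div_le_one_of_le₀ hle zero_le'
  have hweq : w = algebraMap (W.comap f) W ⟨π₁, hπ₁W⟩ * ⟨(w : M') / f π₁, hcW⟩ := by
    apply Subtype.ext
    show (w : M') = f π₁ * ((w : M') / f π₁)
    rw [mul_div_cancel₀ _ hf0]
  rw [hweq]
  exact Ideal.mul_mem_right _ _ (Ideal.mem_map_of_mem _ hπ₁m)

end WU

end Part12

section Part13

open Polynomial IsLocalRing Ideal TensorProduct
open Groth.Agent.Lib.R2H1.EtRam
open scoped Classical IntermediateField

section Core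

variable (p : ℕ) [hp : Fact p.Prime] (A B C K L M : Type u)
    [CommRing A] [IsDomain A] [IsDiscreteValuationRing A] [CommRing B] [IsDomain B]
    [IsDiscreteValuationRing B]
    [CommRing C] [IsDomain C] [IsDiscreteValuationRing C]
    [Algebra A B] [Algebra B C] [Algebra A C] [IsScalarTower A B C]
    (hBC : Function.Injective (algebraMap B C))
    [IsLocalHom (algebraMap B C)]
    [Field K] [Field L] [Field M] [Algebra A K] [IsFractionRing A K] [Algebra B L]
    [IsFractionRing B L]
    [Algebra C M] [IsFractionRing C M] [Algebra K L] [Algebra L M] [Algebra K M]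
    [IsScalarTower K L M]
    [Algebra A L] [IsScalarTower A K L] [IsScalarTower A B L] [Algebra B M] [IsScalarTower B L M]
    [IsScalarTower B C M]
    [Algebra A M] [IsScalarTower A K M] [IsScalarTower A C M]
    (π : A) (hπ : IsLocalRing.maximalIdeal A = Ideal.span {π}) (hB : CAlg.IsNagata B)
    (hw : EtRam.IsWeaklyUnramified A B) [IsPurelyInseparable L M]
    (hdeg : Module.finrank L M = p)
    (K₁ : Type u) [Field K₁] [Algebra K K₁] [Algebra A K₁] [IsScalarTower A K K₁]
    (M' : Type u) [Field M'] [Algebra K M'] [Algebra M M'] [Algebra K₁ M'] [IsScalarTower K M M']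
    [IsScalarTower K K₁ M']

include hBC hπ hB hw hdeg in
set_option maxHeartbeats 800000 in
theorem core (hK₁ : Module.finrank K K₁ = p)
    (πC : C) (u : Bˣ) (hpow : πC ^ p = algebraMap B C (u * algebraMap A B π))
    (m : ℕ) (bs : ℕ → B) (r : B)
    (hu : (u : B) = ∑ i ∈ Finset.range m, bs i ^ p * algebraMap A B π ^ i +
      r * algebraMap A B π ^ m)
    (hr : ∀ c : B, residue B r ≠ residue B c ^ p)
    (π₁ b : K₁) (hb : IsIntegral A b)
    (hπ₁ : π₁ ^ p = algebraMap A K₁ π + algebraMap A K₁ π ^ (m + 2) * b)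
    (hgen : Algebra.adjoin M (Set.range (algebraMap K₁ M')) = ⊤)
    (W : ValuationSubring M')
    (hdom : EtRam.Dominates C ((algebraMap M M').comp (algebraMap C M)) W) :
    (letI : Algebra (W.comap (algebraMap K₁ M')) W :=
      (EtRam.inclOfComap W (algebraMap K₁ M')).toAlgebra
    EtRam.IsWeaklyUnramified (W.comap (algebraMap K₁ M')) W) ∧
      p ≤ Module.finrank M M' := by
  have hp0 : 0 < p := hp.out.pos
  letI algLM' : Algebra L M' := ((algebraMap M M').comp (algebraMap L M)).toAlgebra
  letI algBM' : Algebra B M' := ((algebraMap M M').comp (algebraMap B M)).toAlgebra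
  letI algAM' : Algebra A M' := ((algebraMap K₁ M').comp (algebraMap A K₁)).toAlgebra
  haveI : IsScalarTower L M M' := IsScalarTower.of_algebraMap_eq (fun _ => rfl)
  haveI : IsScalarTower B M M' := IsScalarTower.of_algebraMap_eq (fun _ => rfl)
  haveI : IsScalarTower A K₁ M' := IsScalarTower.of_algebraMap_eq (fun _ => rfl)
  haveI : IsScalarTower B L M' := IsScalarTower.of_algebraMap_eq (fun b => by
    show algebraMap M M' (algebraMap B M b) = algebraMap M M' (algebraMap L M (algebraMap B L b))
    rw [← IsScalarTower.algebraMap_apply B L M])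
  -- finiteness
  haveI : FiniteDimensional K K₁ := by
    apply Module.finite_of_finrank_pos
    rw [hK₁]; exact hp0
  obtain ⟨hfinMM', hleMM'⟩ := finrank_le_of_adjoin K M K₁ M' hgen
  haveI : FiniteDimensional L M := by
    apply Module.finite_of_finrank_pos
    rw [hdeg]; exact hp0
  haveI : FiniteDimensional L M' := Module.Finite.trans M M'
  have hmul : Module.finrank L M' = Module.finrank L M * Module.finrank M M' :=
    (Module.finrank_mul_finrank L M M').symm
  rw [hdeg] at hmul
  rw [hK₁] at hleMM'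
  -- domination for `B`
  have hBM' : ∀ b : B, algebraMap B M' b =
      ((algebraMap M M').comp (algebraMap C M)) (algebraMap B C b) := fun b => by
    show algebraMap M M' (algebraMap B M b) = algebraMap M M' (algebraMap C M (algebraMap B C b))
    rw [← IsScalarTower.algebraMap_apply B C M]
  have hdomB : EtRam.Dominates B (algebraMap B M') W := by
    refine ⟨fun b => ?_, fun b hb => ?_⟩
    · rw [hBM']; exact hdom.1 _
    · rw [hBM']
      apply hdom.2
      rw [mem_maximalIdeal, mem_nonunits_iff] at hb ⊢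
      exact fun hu => hb (isUnit_of_map_unit (algebraMap B C) b hu)
  haveI := charP_of_purelyInsep p L M hdeg
  haveI : CharP M' p := charP_of_injective_algebraMap (algebraMap L M').injective p
  -- the uniformiser of `B`
  have hπB : maximalIdeal B = Ideal.span {algebraMap A B π} := by
    have h1 : (maximalIdeal A).map (algebraMap A B) = maximalIdeal B := hw
    rw [← h1, hπ, Ideal.map_span, Set.image_singleton]
  have hπB0 : algebraMap A B π ≠ 0 := by
    intro h0
    apply IsDiscreteValuationRing.not_a_field B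
    rw [hπB, h0, Ideal.span_singleton_eq_bot]
  have hginj : Function.Injective (algebraMap B M') := by
    rw [IsScalarTower.algebraMap_eq B L M']
    exact (algebraMap L M').injective.comp (IsFractionRing.injective B L)
  have hP0 : algebraMap B M' (algebraMap A B π) ≠ 0 := fun h => hπB0 (hginj (by rw [h, map_zero]))
  have hP1 : W.valuation (algebraMap B M' (algebraMap A B π)) < 1 :=
    hdomB.2 _ (hπB ▸ Ideal.mem_span_singleton_self _)
  -- compatibility of the images of `π`
  have hcompat : algebraMap K₁ M' (algebraMap A K₁ π) = algebraMap B M' (algebraMap A B π) := by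
    show _ = algebraMap M M' (algebraMap B M (algebraMap A B π))
    rw [IsScalarTower.algebraMap_apply A K K₁, ← IsScalarTower.algebraMap_apply K K₁ M',
      IsScalarTower.algebraMap_apply K M M', ← IsScalarTower.algebraMap_apply A K M,
      IsScalarTower.algebraMap_apply A C M, IsScalarTower.algebraMap_apply A B C,
      ← IsScalarTower.algebraMap_apply B C M]
  have hAW : ∀ a : A, algebraMap A M' a ∈ W := by
    intro a
    have h1 : algebraMap A M' a = algebraMap B M' (algebraMap A B a) := by
      show algebraMap K₁ M' (algebraMap A K₁ a) = algebraMap M M' (algebraMap B M (algebraMap A B a))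
      rw [IsScalarTower.algebraMap_apply A K K₁, ← IsScalarTower.algebraMap_apply K K₁ M',
        IsScalarTower.algebraMap_apply K M M', ← IsScalarTower.algebraMap_apply A K M,
        IsScalarTower.algebraMap_apply A C M, IsScalarTower.algebraMap_apply A B C,
        ← IsScalarTower.algebraMap_apply B C M]
    rw [h1]; exact hdomB.1 _
  have hb'' : algebraMap K₁ M' b ∈ W := by
    have h1 : IsIntegral A (algebraMap K₁ M' b) := hb.algebraMap
    exact integralClosure_le W hAW h1
  have hπ' : algebraMap K₁ M' π₁ ^ p = algebraMap B M' (algebraMap A B π) +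
      algebraMap B M' (algebraMap A B π) ^ (m + 2) * algebraMap K₁ M' b := by
    rw [← map_pow, hπ₁, map_add, map_mul, map_pow, hcompat]
  have hπC' : (algebraMap M M' (algebraMap C M πC)) ^ p =
      algebraMap B M' (u : B) * algebraMap B M' (algebraMap A B π) := by
    rw [← map_pow, ← map_pow, hpow, ← map_mul, hBM']
    rfl
  obtain ⟨hvπ', x, hx⟩ := exists_x p W (algebraMap B M') hdomB.1 (algebraMap A B π) hP0 hP1 m bs r
    (u : B) hu _ _ _ hπC' hb'' hπ'
  obtain ⟨h1, h2⟩ := ef_bound p B L M' hB W hdomB (algebraMap A B π) hπB (algebraMap K₁ M' π₁)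
    hvπ' x r hr hx
  rw [hmul] at h1 h2
  have hpM : p ≤ Module.finrank M M' := Nat.le_of_mul_le_mul_left h1 hp0
  refine ⟨?_, hpM⟩
  have h3 := h2 (Nat.mul_le_mul le_rfl hleMM')
  have hπ'1 : W.valuation (algebraMap K₁ M' π₁) < 1 := by
    by_contra hcon
    push Not at hcon
    have h4 : 1 ≤ W.valuation (algebraMap K₁ M' π₁) ^ p := one_le_pow₀ hcon
    rw [hvπ'] at h4
    exact absurd hP1 (not_lt.mpr h4)
  exact weaklyUnramified_of_val (algebraMap K₁ M') W π₁ hπ'1 h3

end Core

end Part13

section Part14

open Polynomial IsLocalRing Ideal TensorProduct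
open Groth.Agent.Lib.R2H1.EtRam
open scoped Classical IntermediateField

section Fld

variable (p : ℕ) [hp : Fact p.Prime] (A B C K L M : Type u)
    [CommRing A] [IsDomain A] [IsDiscreteValuationRing A] [CommRing B] [IsDomain B]
    [IsDiscreteValuationRing B]
    [CommRing C] [IsDomain C] [IsDiscreteValuationRing C]
    [Algebra A B] [Algebra B C] [Algebra A C] [IsScalarTower A B C]
    (hBC : Function.Injective (algebraMap B C))
    [IsLocalHom (algebraMap B C)]
    [Field K] [Field L] [Field M] [Algebra A K] [IsFractionRing A K] [Algebra B L]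
    [IsFractionRing B L]
    [Algebra C M] [IsFractionRing C M] [Algebra K L] [Algebra L M] [Algebra K M]
    [IsScalarTower K L M]
    [Algebra A L] [IsScalarTower A K L] [IsScalarTower A B L] [Algebra B M] [IsScalarTower B L M]
    [IsScalarTower B C M]
    [Algebra A M] [IsScalarTower A K M] [IsScalarTower A C M]
    (π : A) (hπ : IsLocalRing.maximalIdeal A = Ideal.span {π}) (hB : CAlg.IsNagata B)
    (hw : EtRam.IsWeaklyUnramified A B) [IsPurelyInseparable L M]
    (hdeg : Module.finrank L M = p)
    (K₁ : Type u) [Field K₁] [Algebra K K₁] [Algebra A K₁] [IsScalarTower A K K₁]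

include hBC hπ hB hw hdeg in
set_option maxHeartbeats 800000 in
theorem isField_tensor_M (hK₁ : Module.finrank K K₁ = p)
    (πC : C) (u : Bˣ) (hpow : πC ^ p = algebraMap B C (u * algebraMap A B π))
    (m : ℕ) (bs : ℕ → B) (r : B)
    (hu : (u : B) = ∑ i ∈ Finset.range m, bs i ^ p * algebraMap A B π ^ i +
      r * algebraMap A B π ^ m)
    (hr : ∀ c : B, residue B r ≠ residue B c ^ p)
    (π₁ b : K₁) (hb : IsIntegral A b)
    (hπ₁ : π₁ ^ p = algebraMap A K₁ π + algebraMap A K₁ π ^ (m + 2) * b) :
    IsField (M ⊗[K] K₁) := by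
  haveI : FiniteDimensional K K₁ := by
    apply Module.finite_of_finrank_pos
    rw [hK₁]; exact hp.out.pos
  haveI : Nontrivial (M ⊗[K] K₁) := inferInstance
  obtain ⟨𝔪, h𝔪⟩ := Ideal.exists_maximal (M ⊗[K] K₁)
  letI : Field ((M ⊗[K] K₁) ⧸ 𝔪) := Ideal.Quotient.field 𝔪
  letI : Algebra K₁ ((M ⊗[K] K₁) ⧸ 𝔪) :=
    ((Ideal.Quotient.mk 𝔪).comp
      (Algebra.TensorProduct.includeRight : K₁ →ₐ[K] M ⊗[K] K₁).toRingHom).toAlgebra
  haveI : IsScalarTower K M ((M ⊗[K] K₁) ⧸ 𝔪) := inferInstance
  haveI : IsScalarTower K K₁ ((M ⊗[K] K₁) ⧸ 𝔪) := by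
    refine IsScalarTower.of_algebraMap_eq (fun k => ?_)
    show Ideal.Quotient.mk 𝔪 (algebraMap K (M ⊗[K] K₁) k) =
      Ideal.Quotient.mk 𝔪 ((Algebra.TensorProduct.includeRight : K₁ →ₐ[K] M ⊗[K] K₁)
        (algebraMap K K₁ k))
    rw [AlgHom.commutes]
  have hgen : Algebra.adjoin M (Set.range (algebraMap K₁ ((M ⊗[K] K₁) ⧸ 𝔪))) = ⊤ := by
    rw [eq_top_iff]
    intro m' _
    obtain ⟨r', rfl⟩ := Ideal.Quotient.mk_surjective m'
    clear * -
    induction r' using TensorProduct.induction_on with
    | zero => rw [map_zero]; exact Subalgebra.zero_mem _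
    | add x y hx hy => rw [map_add]; exact Subalgebra.add_mem _ hx hy
    | tmul l k =>
      have h1 : Ideal.Quotient.mk 𝔪 (l ⊗ₜ[K] k) =
          l • algebraMap K₁ ((M ⊗[K] K₁) ⧸ 𝔪) k := by
        show _ = l • Ideal.Quotient.mk 𝔪 ((1 : M) ⊗ₜ[K] k)
        rw [← Ideal.Quotient.mkₐ_eq_mk M, ← map_smul, TensorProduct.smul_tmul', smul_eq_mul, mul_one]
      rw [h1]
      exact Subalgebra.smul_mem _ (Algebra.subset_adjoin (Set.mem_range_self k)) l
  obtain ⟨W, hW, hloc⟩ := IsLocalRing.exists_factor_valuationRing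
    ((algebraMap M ((M ⊗[K] K₁) ⧸ 𝔪)).comp (algebraMap C M))
  have hdom : EtRam.Dominates C ((algebraMap M ((M ⊗[K] K₁) ⧸ 𝔪)).comp (algebraMap C M)) W := by
    refine ⟨hW, fun b hb => ?_⟩
    have h1 : ¬ IsUnit (RingHom.codRestrict
        ((algebraMap M ((M ⊗[K] K₁) ⧸ 𝔪)).comp (algebraMap C M)) W.toSubring hW b) := by
      intro hu
      exact ((mem_maximalIdeal b).mp hb) (hloc.map_nonunit b hu)
    have h2 := (W.valuation_lt_one_iff _).mp ((mem_maximalIdeal _).mpr h1)
    exact h2
  haveI : Module.Finite M ((M ⊗[K] K₁) ⧸ 𝔪) :=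
    Module.Finite.of_surjective (Ideal.Quotient.mkₐ M 𝔪).toLinearMap
      (Ideal.Quotient.mkₐ_surjective M 𝔪)
  have h2 := (core p A B C K L M hBC π hπ hB hw hdeg K₁ ((M ⊗[K] K₁) ⧸ 𝔪) hK₁ πC u hpow m bs r
    hu hr π₁ b hb hπ₁ hgen W hdom).2
  have h3 : Module.finrank M (M ⊗[K] K₁) = Module.finrank K K₁ := Module.finrank_baseChange
  have h4 : Module.finrank M ((M ⊗[K] K₁) ⧸ 𝔪) ≤ Module.finrank M (M ⊗[K] K₁) :=
    LinearMap.finrank_le_finrank_of_surjective (f := (Ideal.Quotient.mkₐ M 𝔪).toLinearMap)
      (Ideal.Quotient.mkₐ_surjective M 𝔪)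
  have h5 : Module.finrank M (M ⊗[K] K₁) = Module.finrank M ((M ⊗[K] K₁) ⧸ 𝔪) := by omega
  have hinj : Function.Injective (Ideal.Quotient.mkₐ M 𝔪).toLinearMap :=
    (LinearMap.injective_iff_surjective_of_finrank_eq_finrank h5).mpr
      (Ideal.Quotient.mkₐ_surjective M 𝔪)
  have hbij : Function.Bijective (Ideal.Quotient.mk 𝔪) :=
    ⟨hinj, Ideal.Quotient.mk_surjective⟩
  exact (RingEquiv.ofBijective (Ideal.Quotient.mk 𝔪) hbij).toMulEquiv.isField
    (Field.toIsField _)

end Fld

end Part14

section Part15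

open Polynomial IsLocalRing Ideal TensorProduct
open Groth.Agent.Lib.R2H1.EtRam
open scoped Classical IntermediateField

section Main

set_option maxHeartbeats 1600000 in
/-- statement S7156 -/
theorem main (p : ℕ) (hp : p.Prime) (A B C K L M : Type u)
    [CommRing A] [IsDomain A] [IsDiscreteValuationRing A] [CommRing B] [IsDomain B] [IsDiscreteValuationRing B]
    [CommRing C] [IsDomain C] [IsDiscreteValuationRing C]
    [Algebra A B] [Algebra B C] [Algebra A C] [IsScalarTower A B C]
    (hAB : Function.Injective (algebraMap A B)) (hBC : Function.Injective (algebraMap B C))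
    [IsLocalHom (algebraMap A B)] [IsLocalHom (algebraMap B C)]
    [Field K] [Field L] [Field M] [Algebra A K] [IsFractionRing A K] [Algebra B L] [IsFractionRing B L]
    [Algebra C M] [IsFractionRing C M] [Algebra K L] [Algebra L M] [Algebra K M] [IsScalarTower K L M]
    [Algebra A L] [IsScalarTower A K L] [IsScalarTower A B L] [Algebra B M] [IsScalarTower B L M] [IsScalarTower B C M]
    [Algebra A M] [IsScalarTower A K M] [IsScalarTower A C M]
    (π : A) (hπ : IsLocalRing.maximalIdeal A = Ideal.span {π}) (hB : CAlg.IsNagata B)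
    (hw : EtRam.IsWeaklyUnramified A B) [IsPurelyInseparable L M] (hdeg : Module.finrank L M = p) :
    EtRam.IsWeaklyUnramified A C ∨
      (∃ c : C, c ^ p = algebraMap A C π ∧ Algebra.adjoin B {c} = ⊤) ∨
      ∃ (K₁ : Type u) (_ : Field K₁) (_ : Algebra K K₁),
        Module.finrank K K₁ = p ∧ Algebra.IsSeparable K K₁ ∧
          EtRam.IsTotallyRamified A ((algebraMap K K₁).comp (algebraMap A K)) ∧
          IsField (L ⊗[K] K₁) ∧ IsField (M ⊗[K] K₁) ∧
          EtRam.IsWeakSolution B K L K₁ ∧ EtRam.IsWeakSolution C K M K₁ := by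
  haveI : Fact p.Prime := ⟨hp⟩
  rcases e_cases p B C L M hBC hdeg with he | ⟨he, hf⟩
  · exact Or.inl (weaklyUnramified_of_e_one A B C hBC hw he)
  right
  have hπB : maximalIdeal B = Ideal.span {algebraMap A B π} := by
    have h1 : (maximalIdeal A).map (algebraMap A B) = maximalIdeal B := hw
    rw [← h1, hπ, Ideal.map_span, Set.image_singleton]
  obtain ⟨πC, u, hπC, hpow⟩ := exists_uniformizer p B C L M hBC hdeg (algebraMap A B π) hπB he
  rcases dichotomy p (algebraMap A B π) hπB (u : B) with ⟨m, bs, r, hu, hr⟩ | hexp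
  · right
    haveI hcL := charP_of_purelyInsep p L M hdeg
    haveI hcK : CharP K p := RingHom.charP (algebraMap K L) (algebraMap K L).injective p
    haveI hcA : CharP A p := RingHom.charP (algebraMap A K) (IsFractionRing.injective A K) p
    haveI hcκ : CharP (IsLocalRing.ResidueField A) p := by
      rw [CharP.charP_iff_prime_eq_zero hp, ← map_natCast (residue A), CharP.cast_eq_zero,
        map_zero]
    obtain ⟨K₁, instF, instAlgK, instAlgA, instTower, hK₁, hsep, htot, π₁, b, b', hπ₁int, hbint,
      hb'int, hπ₁, -⟩ :=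
      Groth.Agent.Lib.R2H1.EtRamEis.exists_totRam p hp A K π hπ (m + 2) (by omega) 1
    rw [pow_one] at hK₁ hπ₁
    have htot' : EtRam.IsTotallyRamified A ((algebraMap K K₁).comp (algebraMap A K)) := by
      rw [← IsScalarTower.algebraMap_eq A K K₁]; exact htot
    haveI : FiniteDimensional K K₁ := by
      apply Module.finite_of_finrank_pos
      rw [hK₁]; exact hp.pos
    refine ⟨K₁, instF, instAlgK, hK₁, hsep, htot',
      Groth.Agent.Lib.R2H1.EtRamTotRam.isField_tensor A B K L K₁ hw htot',
      isField_tensor_M p A B C K L M hBC π hπ hB hw hdeg K₁ hK₁ πC u hpow m bs r hu hr π₁ b hbint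
        hπ₁, ?_, ?_⟩
    · intro M' _ _ _ _ _ _ hgen W hdom
      exact (Groth.Agent.Lib.R2H1.EtRamTotRam.local_ext_totRam A B K L K₁ M' hw htot' hgen W hdom).1
    · intro M' _ _ _ _ _ _ hgen W hdom
      exact (core p A B C K L M hBC π hπ hB hw hdeg K₁ M' hK₁ πC u hpow m bs r hu hr π₁ b hbint
        hπ₁ hgen W hdom).1
  · left
    obtain ⟨x, hx⟩ := exists_root_of_expands p B C L M hBC hdeg hB _ hπB πC u hpow hexp
    obtain ⟨c, hc, hadj⟩ := adjoin_eq_top_of_root p B C L M hBC hdeg hB hf _ hπB πC u hπC hpow x hx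
    exact ⟨c, by rw [hc, ← IsScalarTower.algebraMap_apply], hadj⟩

end Main

end Part15

end Groth.Agent.Lib.R2H1.EtRamPI
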