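/-
Helper library (helper1, round 2): the Galois degree-`p` step in characteristic `p` for eliminating
ramification (statement S7155).

Let `A → B → C` be injective local homomorphisms of discrete valuation rings with fraction fields
`K ⊆ L ⊆ M` of characteristic `p`, `A → B` weakly unramified, `M / L` Galois of degree `p`, and the
residue field of `A` equal to the perfect core of the residue field of `B`.  Then some finite
separable extension `K₁ / K`, totally ramified with respect to `A`, is a weak solution for `C`.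

Contents: consequences of the perfect-core hypothesis (`root_mem_range`, `exists_pow_add`,
`exists_height`), the normal form of an element of `L` modulo Artin--Schreier (`NF`, `exists_NF`),
valuation computations at a compositum (`telescope`, `term_reduce`, `apart_reduce`,
`exists_x_of_leading`, `bad_case_x`), the fundamental inequality argument (`ef_bound'`),
separability of composita (`isSeparable_of_adjoin`), the bad case (`bad_core`), reduction of
Artin--Schreier classes over `K` and the totally ramified Artin--Schreier extension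
(`reduce_K`, `exists_AS_ext`), the case without bad levels (`nobad_core`) and `main`.
-/
import Mathlib
import Groth.Agent.Lib.R2H1EtRamPI
import Groth.Agent.Lib.R2H1EtRamAS
import Groth.Agent.Lib.Helper29Fields3

set_option autoImplicit false
set_option linter.style.haveILetI false
set_option linter.unusedSectionVars false
universe u

namespace Groth.Agent.Lib.R2H1.EtRamGalP

section Part1

open Polynomial IsLocalRing Ideal
open Groth.Agent.Lib.R2H1.EtRam
open scoped Classical IntermediateField

section Res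

variable (p : ℕ) [hp : Fact p.Prime] (A B : Type u) [CommRing A] [IsLocalRing A] [CommRing B]
  [IsLocalRing B] [Algebra A B] [IsLocalHom (algebraMap A B)]
  [CharP (IsLocalRing.ResidueField B) p]
  (hk : ∀ x : IsLocalRing.ResidueField B,
    (∀ n : ℕ, ∃ y : IsLocalRing.ResidueField B, y ^ (p ^ n) = x) ↔
      x ∈ Set.range (algebraMap (IsLocalRing.ResidueField A) (IsLocalRing.ResidueField B)))

theorem pow_inj {F : Type u} [Field F] [CharP F p] (N : ℕ) (a b : F)
    (h : a ^ (p ^ N) = b ^ (p ^ N)) : a = b := by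
  have h1 : (a - b) ^ (p ^ N) = 0 := by rw [sub_pow_char_pow, h, sub_self]
  exact sub_eq_zero.mp (pow_eq_zero_iff (pow_ne_zero _ hp.out.ne_zero) |>.mp h1)

include hk in
theorem root_mem_range (x : IsLocalRing.ResidueField B)
    (hx : x ∈ Set.range (algebraMap (IsLocalRing.ResidueField A) (IsLocalRing.ResidueField B)))
    (N : ℕ) (y : IsLocalRing.ResidueField B) (hy : y ^ (p ^ N) = x) :
    y ∈ Set.range (algebraMap (IsLocalRing.ResidueField A) (IsLocalRing.ResidueField B)) := by
  rw [← hk]
  intro n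
  obtain ⟨w, hw⟩ := (hk x).mpr hx (n + N)
  refine ⟨w, ?_⟩
  apply pow_inj p N
  calc (w ^ p ^ n) ^ p ^ N = w ^ (p ^ n * p ^ N) := (pow_mul w _ _).symm
    _ = w ^ p ^ (n + N) := by rw [pow_add]
    _ = y ^ p ^ N := by rw [hw, hy]

include hk in
theorem exists_pow_add (π : A) (hπ : maximalIdeal A = Ideal.span {π}) (a : A) (N : ℕ) :
    ∃ e a' : A, a = e ^ (p ^ N) + π * a' := by
  have hx : algebraMap (IsLocalRing.ResidueField A) (IsLocalRing.ResidueField B) (residue A a) ∈
      Set.range (algebraMap (IsLocalRing.ResidueField A) (IsLocalRing.ResidueField B)) :=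
    ⟨_, rfl⟩
  obtain ⟨y, hy⟩ := (hk _).mpr hx N
  obtain ⟨e', he'⟩ := root_mem_range p A B hk _ hx N y hy
  obtain ⟨e, rfl⟩ := residue_surjective e'
  have h1 : residue A (e ^ (p ^ N)) = residue A a := by
    apply (algebraMap (IsLocalRing.ResidueField A) (IsLocalRing.ResidueField B)).injective
    rw [map_pow, map_pow, he', hy]
  have h2 : a - e ^ (p ^ N) ∈ maximalIdeal A := by
    rw [← residue_eq_zero_iff, map_sub, h1, sub_self]
  rw [hπ, Ideal.mem_span_singleton'] at h2
  obtain ⟨a', ha'⟩ := h2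
  exact ⟨e, a', by rw [mul_comm, ha']; ring⟩

include hk in
theorem exists_height (l : IsLocalRing.ResidueField B)
    (hl : l ∉ Set.range (algebraMap (IsLocalRing.ResidueField A) (IsLocalRing.ResidueField B))) :
    ∃ (h : ℕ) (μ : IsLocalRing.ResidueField B), μ ^ (p ^ h) = l ∧
      ∀ ν : IsLocalRing.ResidueField B, ν ^ p ≠ μ := by
  have h1 : ¬ ∀ n : ℕ, ∃ y : IsLocalRing.ResidueField B, y ^ (p ^ n) = l := fun h =>
    hl ((hk l).mp h)
  push Not at h1
  have h0 : Nat.find h1 ≠ 0 := by
    intro h0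
    have := Nat.find_spec h1
    rw [h0] at this
    exact this l (by rw [pow_zero, pow_one])
  obtain ⟨h, hh⟩ := Nat.exists_eq_succ_of_ne_zero h0
  have hmin : ¬ ∀ y : IsLocalRing.ResidueField B, y ^ (p ^ h) ≠ l :=
    Nat.find_min h1 (by rw [hh]; exact Nat.lt_succ_self h)
  push Not at hmin
  obtain ⟨μ, hμ⟩ := hmin
  refine ⟨h, μ, hμ, ?_⟩
  intro ν hν
  have := Nat.find_spec h1
  rw [hh] at this
  apply this ν
  rw [Nat.succ_eq_add_one, pow_succ, mul_comm, pow_mul, hν, hμ]

end Res

end Part1

section Part2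

open Polynomial IsLocalRing Ideal
open Groth.Agent.Lib.R2H1.EtRam
open scoped Classical IntermediateField

section NF

variable (p : ℕ) [hp : Fact p.Prime] (A B K L : Type u)
    [CommRing A] [IsDomain A] [IsDiscreteValuationRing A] [CommRing B] [IsDomain B]
    [IsDiscreteValuationRing B]
    [Algebra A B] [IsLocalHom (algebraMap A B)]
    [Field K] [Field L] [Algebra A K] [IsFractionRing A K] [Algebra B L] [IsFractionRing B L]
    [Algebra K L] [Algebra A L] [IsScalarTower A K L] [IsScalarTower A B L]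
    [CharP L p] [CharP (IsLocalRing.ResidueField B) p]
    (π : A)

/-- the bad part of a normal form -/
noncomputable def badSum (T : Finset (ℕ × ℕ × B)) : L :=
  ∑ t ∈ T, algebraMap B L t.2.2 ^ (p ^ t.2.1) * (algebraMap A L π)⁻¹ ^ t.1

/-- normal form of level `n` of an element of `L` modulo Artin--Schreier -/
def NF (n : ℕ) (ξ : L) : Prop :=
  ∃ (y₀ : L) (ξA : K) (T : Finset (ℕ × ℕ × B)) (b₀ : B),
    ξ = (y₀ ^ p - y₀) + algebraMap K L ξA + badSum p A B L π T + algebraMap B L b₀ ∧
    (∃ a : A, ξA * algebraMap A K π ^ n = algebraMap A K a) ∧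
    (∀ t ∈ T, 1 ≤ t.1 ∧ t.1 ≤ n ∧ (∀ c : B, residue B t.2.2 ≠ residue B c ^ p) ∧
      (¬ p ∣ t.1 ∨ t.2.1 = 0)) ∧
    ∀ t ∈ T, ∀ t' ∈ T, t.1 = t'.1 → t = t'

variable (hk : ∀ x : IsLocalRing.ResidueField B,
    (∀ n : ℕ, ∃ y : IsLocalRing.ResidueField B, y ^ (p ^ n) = x) ↔
      x ∈ Set.range (algebraMap (IsLocalRing.ResidueField A) (IsLocalRing.ResidueField B)))
  (hπ : maximalIdeal A = Ideal.span {π})
  (hπB : maximalIdeal B = Ideal.span {algebraMap A B π})

include hπ hπB in
theorem piL_ne_zero : algebraMap A L π ≠ 0 := by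
  rw [IsScalarTower.algebraMap_apply A B L]
  intro h
  have h0 : algebraMap A B π = 0 := IsFractionRing.injective B L (by rw [h, map_zero])
  apply IsDiscreteValuationRing.not_a_field B
  rw [hπB, h0, Ideal.span_singleton_eq_bot]

theorem NF_mono (n : ℕ) (ξ : L) (h : NF p A B K L π n ξ) : NF p A B K L π (n + 1) ξ := by
  obtain ⟨y₀, ξA, T, b₀, h1, ⟨a, ha⟩, h3, h4⟩ := h
  refine ⟨y₀, ξA, T, b₀, h1, ⟨a * π, ?_⟩, ?_, h4⟩
  · rw [pow_succ, ← mul_assoc, ha, map_mul]
  · intro t ht
    obtain ⟨h5, h6, h7, h8⟩ := h3 t ht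
    exact ⟨h5, by omega, h7, h8⟩

include hk hπ hπB in
set_option maxHeartbeats 800000 in
theorem exists_NF (n : ℕ) : ∀ (ξ : L) (c : B), ξ * algebraMap A L π ^ n = algebraMap B L c →
    NF p A B K L π n ξ := by
  have hP0 := piL_ne_zero A B L π hπ hπB
  have hPB : algebraMap A L π = algebraMap B L (algebraMap A B π) :=
    IsScalarTower.algebraMap_apply A B L π
  have hPK : algebraMap A L π = algebraMap K L (algebraMap A K π) :=
    IsScalarTower.algebraMap_apply A K L π
  induction n with
  | zero =>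
    intro ξ c hc
    rw [pow_zero, mul_one] at hc
    refine ⟨0, 0, ∅, c, ?_, ⟨0, by simp⟩, by simp, by simp⟩
    rw [hc]
    simp [badSum, hp.out.ne_zero]
  | succ n ih =>
    intro ξ c hc
    have hξ : ξ = algebraMap B L c * (algebraMap A L π)⁻¹ ^ (n + 1) := by
      rw [← hc, mul_assoc, ← mul_pow, mul_inv_cancel₀ hP0, one_pow, mul_one]
    by_cases hcA : residue B c ∈
        Set.range (algebraMap (IsLocalRing.ResidueField A) (IsLocalRing.ResidueField B))
    · -- an `A`-level
      obtain ⟨a', ha'⟩ := hcA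
      obtain ⟨a, rfl⟩ := residue_surjective a'
      have h1 : c - algebraMap A B a ∈ maximalIdeal B := by
        rw [← residue_eq_zero_iff, map_sub, ← ha', sub_eq_zero]
        rfl
      rw [hπB, Ideal.mem_span_singleton'] at h1
      obtain ⟨e, he⟩ := h1
      have hce : c = algebraMap A B a + e * algebraMap A B π := by rw [he]; ring
      have hξ' : (algebraMap B L e * (algebraMap A L π)⁻¹ ^ n) * algebraMap A L π ^ n =
          algebraMap B L e := by
        rw [mul_assoc, ← mul_pow, inv_mul_cancel₀ hP0, one_pow, mul_one]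
      obtain ⟨y₀, ξA, T, b₀, h1, ⟨a₁, ha₁⟩, h3, h4⟩ :=
        NF_mono p A B K L π n _ (ih _ e hξ')
      refine ⟨y₀, ξA + algebraMap A K a * (algebraMap A K π)⁻¹ ^ (n + 1), T, b₀, ?_,
        ⟨a₁ + a, ?_⟩, h3, h4⟩
      · have h5 : ξ = algebraMap B L e * (algebraMap A L π)⁻¹ ^ n +
            algebraMap K L (algebraMap A K a * (algebraMap A K π)⁻¹ ^ (n + 1)) := by
          rw [hξ, hce, map_add, map_mul, map_mul, map_pow, map_inv₀, ← hPK, ← hPB,
            ← IsScalarTower.algebraMap_apply A K L, ← IsScalarTower.algebraMap_apply A B L, add_mul,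
            pow_succ (algebraMap A L π)⁻¹ n]
          have : algebraMap B L e * algebraMap A L π * ((algebraMap A L π)⁻¹ ^ n * (algebraMap A L π)⁻¹)
              = algebraMap B L e * (algebraMap A L π)⁻¹ ^ n := by
            field_simp
          rw [this]; ring
        rw [h5, h1, map_add]; ring
      · have hK0 : algebraMap A K π ≠ 0 := by
          intro h
          apply hP0
          rw [hPK, h, map_zero]
        rw [add_mul, ha₁, mul_assoc, ← mul_pow, inv_mul_cancel₀ hK0, one_pow, mul_one, map_add]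
    · by_cases hpush : p ∣ n + 1 ∧ ∃ c' : B, residue B c = residue B c' ^ p
      · -- push down
        obtain ⟨⟨k, hk1⟩, g, hg⟩ := hpush
        have h1 : c - g ^ p ∈ maximalIdeal B := by
          rw [← residue_eq_zero_iff, map_sub, map_pow, hg, sub_self]
        rw [hπB, Ideal.mem_span_singleton'] at h1
        obtain ⟨e, he⟩ := h1
        have hce : c = g ^ p + e * algebraMap A B π := by rw [he]; ring
        have hk0 : 1 ≤ k := by
          rcases Nat.eq_zero_or_pos k with h0 | h0
          · rw [h0, mul_zero] at hk1; omega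
          · exact h0
        have hkn : k ≤ n := by
          have := hp.out.two_le
          nlinarith
        have hξ' : (algebraMap B L g * (algebraMap A L π)⁻¹ ^ k +
            algebraMap B L e * (algebraMap A L π)⁻¹ ^ n) * algebraMap A L π ^ n =
            algebraMap B L (g * algebraMap A B π ^ (n - k) + e) := by
          have e1 : algebraMap A L π ^ n = algebraMap A L π ^ (n - k) * algebraMap A L π ^ k := by
            rw [← pow_add, Nat.sub_add_cancel hkn]
          rw [add_mul, mul_assoc (algebraMap B L e), ← mul_pow, inv_mul_cancel₀ hP0, one_pow, mul_one,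
            map_add, map_mul, map_pow, ← hPB]
          congr 1
          rw [e1, mul_assoc, mul_comm (algebraMap A L π ^ (n - k)), ← mul_assoc ((algebraMap A L π)⁻¹ ^ k),
            ← mul_pow, inv_mul_cancel₀ hP0, one_pow, one_mul]
        obtain ⟨y₀, ξA, T, b₀, h1, h2, h3, h4⟩ :=
          NF_mono p A B K L π n _ (ih _ _ hξ')
        refine ⟨y₀ + algebraMap B L g * (algebraMap A L π)⁻¹ ^ k, ξA, T, b₀, ?_, h2, h3, h4⟩
        have h5 : ξ = ((algebraMap B L g * (algebraMap A L π)⁻¹ ^ k) ^ p -
            algebraMap B L g * (algebraMap A L π)⁻¹ ^ k) +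
            (algebraMap B L g * (algebraMap A L π)⁻¹ ^ k +
              algebraMap B L e * (algebraMap A L π)⁻¹ ^ n) := by
          have e2 : (algebraMap A L π)⁻¹ ^ (n + 1) = ((algebraMap A L π)⁻¹ ^ k) ^ p := by
            rw [← pow_mul, mul_comm k p, ← hk1]
          have e3 : algebraMap B L e * algebraMap A L π * (algebraMap A L π)⁻¹ ^ (n + 1)
              = algebraMap B L e * (algebraMap A L π)⁻¹ ^ n := by
            rw [pow_succ]
            field_simp
          rw [hξ, hce, map_add, map_mul, map_pow, ← hPB, add_mul, e3, e2, mul_pow]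
          ring
        rw [h5, h1, add_pow_char]
        ring
      · -- a bad level
        obtain ⟨h, μ, hμ, hμp⟩ := exists_height p A B hk _ hcA
        obtain ⟨d, rfl⟩ := residue_surjective μ
        have hh : ¬ p ∣ n + 1 ∨ h = 0 := by
          by_cases hdiv : p ∣ n + 1
          · right
            by_contra h0
            apply hpush
            refine ⟨hdiv, d ^ (p ^ (h - 1)), ?_⟩
            rw [← hμ, map_pow, ← pow_mul, ← pow_succ, Nat.sub_add_cancel (by omega)]
          · exact Or.inl hdiv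
        have h1 : c - d ^ (p ^ h) ∈ maximalIdeal B := by
          rw [← residue_eq_zero_iff, map_sub, map_pow, hμ, sub_self]
        rw [hπB, Ideal.mem_span_singleton'] at h1
        obtain ⟨e, he⟩ := h1
        have hce : c = d ^ (p ^ h) + e * algebraMap A B π := by rw [he]; ring
        have hξ' : (algebraMap B L e * (algebraMap A L π)⁻¹ ^ n) * algebraMap A L π ^ n =
            algebraMap B L e := by
          rw [mul_assoc, ← mul_pow, inv_mul_cancel₀ hP0, one_pow, mul_one]
        obtain ⟨y₀, ξA, T, b₀, h1, h2, h3, h4⟩ := ih _ e hξ'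
        obtain ⟨y₀', ξA', T', b₀', h1', h2', h3', h4'⟩ :=
          NF_mono p A B K L π n _ ⟨y₀, ξA, T, b₀, h1, h2, h3, h4⟩
        have hnotin : ((n + 1, h, d) : ℕ × ℕ × B) ∉ T := by
          intro hmem
          have := (h3 _ hmem).2.1
          simp at this
        refine ⟨y₀, ξA, insert (n + 1, h, d) T, b₀, ?_, ?_, ?_, ?_⟩
        · have h5 : ξ = algebraMap B L d ^ (p ^ h) * (algebraMap A L π)⁻¹ ^ (n + 1) +
              algebraMap B L e * (algebraMap A L π)⁻¹ ^ n := by
            rw [hξ, hce, map_add, map_mul, map_pow, ← hPB, add_mul,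
              pow_succ (algebraMap A L π)⁻¹ n]
            have : algebraMap B L e * algebraMap A L π * ((algebraMap A L π)⁻¹ ^ n * (algebraMap A L π)⁻¹)
                = algebraMap B L e * (algebraMap A L π)⁻¹ ^ n := by
              field_simp
            rw [this]
          rw [h5, h1]
          unfold badSum
          rw [Finset.sum_insert hnotin]
          ring
        · obtain ⟨a, ha⟩ := h2
          exact ⟨a * π, by rw [pow_succ, ← mul_assoc, ha, map_mul]⟩
        · intro t ht
          rw [Finset.mem_insert] at ht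
          rcases ht with rfl | ht
          · exact ⟨by simp, le_rfl, fun c' hc' => hμp _ hc'.symm, hh⟩
          · obtain ⟨h5, h6, h7, h8⟩ := h3 t ht
            exact ⟨h5, by omega, h7, h8⟩
        · intro t ht t' ht' htt
          rw [Finset.mem_insert] at ht ht'
          rcases ht with rfl | ht
          · rcases ht' with rfl | ht'
            · rfl
            · have := (h3 _ ht').2.1
              simp only at htt
              omega
          · rcases ht' with rfl | ht'
            · have := (h3 _ ht).2.1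
              simp only at htt
              omega
            · exact h4 t ht t' ht' htt

end NF

end Part2

section Part3

open Polynomial IsLocalRing Ideal
open Groth.Agent.Lib.R2H1.EtRam
open scoped Classical IntermediateField

section Val

variable (p : ℕ) [hp : Fact p.Prime] {M' : Type u} [Field M'] [CharP M' p]

/-- telescoping: `Y ^ (p ^ h) = ℘(∑ Y ^ (p ^ t)) + Y` -/
theorem telescope (Y : M') (h : ℕ) :
    Y ^ (p ^ h) = ((∑ t ∈ Finset.range h, Y ^ (p ^ t)) ^ p - ∑ t ∈ Finset.range h, Y ^ (p ^ t)) + Y := by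
  induction h with
  | zero => simp [hp.out.ne_zero]
  | succ h ih =>
    rw [Finset.sum_range_succ, add_pow_char, ← pow_mul, ← pow_succ]
    linear_combination ih

variable (W : ValuationSubring M') (P π' ε : M') (N n : ℕ)
  (hP0 : P ≠ 0) (hP1 : W.valuation P < 1) (hπ' : π' ^ (p ^ N) = P * ε)
  (hε1 : W.valuation ε = 1) (hεj : ∀ j : ℕ, W.valuation (ε ^ j - 1) ≤ W.valuation P ^ n)

include hP0 hε1 hπ' in
theorem val_pi' : W.valuation π' ^ (p ^ N) = W.valuation P ∧ π' ≠ 0 ∧ W.valuation π' ≠ 0 := by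
  have h1 : W.valuation π' ^ (p ^ N) = W.valuation P := by
    rw [← map_pow, hπ', map_mul, hε1, mul_one]
  have h2 : π' ≠ 0 := by
    rintro rfl
    rw [map_zero, zero_pow (pow_ne_zero _ hp.out.ne_zero)] at h1
    exact hP0 ((Valuation.zero_iff _).mp h1.symm)
  exact ⟨h1, h2, by rw [Ne, Valuation.zero_iff]; exact h2⟩

include hP0 hP1 hε1 hπ' in
theorem val_pi'_lt : W.valuation π' < 1 := by
  obtain ⟨h1, -, -⟩ := val_pi' p W P π' ε N hP0 hπ' hε1
  by_contra hcon
  push Not at hcon
  have h4 : 1 ≤ W.valuation π' ^ (p ^ N) := one_le_pow₀ hcon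
  rw [h1] at h4
  exact absurd hP1 (not_lt.mpr h4)

include hP0 hP1 hε1 hεj hπ' in
/-- a term `D ^ (p ^ h) P ^ (-i)` is `D π' ^ (-i p ^ (N - h))` modulo Artin--Schreier and `W` -/
theorem term_reduce (D : M') (hD : W.valuation D ≤ 1) (i h : ℕ) (hi : i ≤ n) (hh : h ≤ N) :
    ∃ y w : M', D ^ (p ^ h) * P⁻¹ ^ i = (y ^ p - y) + D * π'⁻¹ ^ (i * p ^ (N - h)) + w ∧
      W.valuation w ≤ 1 := by
  obtain ⟨hv, hπ'0, hvπ'0⟩ := val_pi' p W P π' ε N hP0 hπ' hε1
  have hε0 : ε ≠ 0 := by
    intro h0
    rw [h0, map_zero] at hε1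
    exact zero_ne_one hε1
  set Y : M' := D * π'⁻¹ ^ (i * p ^ (N - h)) with hY
  have hYp : Y ^ (p ^ h) = D ^ (p ^ h) * P⁻¹ ^ i * ε⁻¹ ^ i := by
    rw [hY, mul_pow, ← pow_mul, mul_assoc i, ← pow_add, Nat.sub_add_cancel hh, mul_comm i, pow_mul,
      inv_pow, hπ', mul_inv, mul_pow, mul_assoc]
  have hterm : D ^ (p ^ h) * P⁻¹ ^ i = Y ^ (p ^ h) + Y ^ (p ^ h) * (ε ^ i - 1) := by
    rw [hYp]
    have : ε⁻¹ ^ i * ε ^ i = 1 := by rw [← mul_pow, inv_mul_cancel₀ hε0, one_pow]
    calc D ^ p ^ h * P⁻¹ ^ i = D ^ p ^ h * P⁻¹ ^ i * (ε⁻¹ ^ i * ε ^ i) := by rw [this, mul_one]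
      _ = _ := by ring
  refine ⟨∑ t ∈ Finset.range h, Y ^ (p ^ t), Y ^ (p ^ h) * (ε ^ i - 1), ?_, ?_⟩
  · rw [hterm, telescope p Y h]
  · rw [hYp, map_mul, map_mul, map_mul, map_pow, map_pow, map_pow, map_inv₀, map_inv₀, hε1, inv_one,
      one_pow, mul_one]
    have hq0 : W.valuation P ≠ 0 := by rw [Ne, Valuation.zero_iff]; exact hP0
    calc W.valuation D ^ p ^ h * (W.valuation P)⁻¹ ^ i * W.valuation (ε ^ i - 1)
        ≤ 1 * (W.valuation P)⁻¹ ^ i * W.valuation P ^ n :=
          mul_le_mul' (mul_le_mul' (pow_le_one' hD _) le_rfl) (hεj i)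
      _ = W.valuation P ^ (n - i) := by
          have e1 : W.valuation P ^ n = W.valuation P ^ i * W.valuation P ^ (n - i) := by
            rw [← pow_add, Nat.add_sub_cancel' hi]
          rw [one_mul, inv_pow, e1, ← mul_assoc, inv_mul_cancel₀ (pow_ne_zero _ hq0), one_mul]
      _ ≤ 1 := pow_le_one' hP1.le _

end Val

end Part3

section Part4

open Polynomial IsLocalRing Ideal
open Groth.Agent.Lib.R2H1.EtRam
open scoped Classical IntermediateField

section Arith

theorem level_inj_aux (p : ℕ) (hp : p.Prime) (N i h i' h' : ℕ) (hh : h ≤ h') (hh' : h' ≤ N)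
    (hc' : ¬ p ∣ i' ∨ h' = 0) (heq : i * p ^ (N - h) = i' * p ^ (N - h')) : i = i' := by
  have e1 : p ^ (N - h) = p ^ (h' - h) * p ^ (N - h') := by
    rw [← pow_add]; congr 1; omega
  rw [e1, ← mul_assoc] at heq
  have h2 := Nat.eq_of_mul_eq_mul_right (pow_pos hp.pos _) heq
  rcases Nat.eq_zero_or_pos (h' - h) with h0 | h0
  · rw [h0, pow_zero, mul_one] at h2; exact h2
  · exfalso
    rcases hc' with hc' | hc'
    · apply hc'
      rw [← h2]
      exact Dvd.dvd.mul_left (dvd_pow_self p h0.ne') i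
    · omega

theorem level_inj (p : ℕ) (hp : p.Prime) (N i h i' h' : ℕ) (hh : h ≤ N) (hh' : h' ≤ N)
    (hc : ¬ p ∣ i ∨ h = 0) (hc' : ¬ p ∣ i' ∨ h' = 0)
    (heq : i * p ^ (N - h) = i' * p ^ (N - h')) : i = i' := by
  rcases le_total h h' with h1 | h1
  · exact level_inj_aux p hp N i h i' h' h1 hh' hc' heq
  · exact (level_inj_aux p hp N i' h' i h h1 hh hc heq.symm).symm

end Arith

section Val2

variable (p : ℕ) [hp : Fact p.Prime] {M' : Type u} [Field M'] [CharP M' p]
  (W : ValuationSubring M') (P π' ε : M') (N n : ℕ)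
  (hP0 : P ≠ 0) (hP1 : W.valuation P < 1) (hπ' : π' ^ (p ^ N) = P * ε)
  (hε1 : W.valuation ε = 1) (hεj : ∀ j : ℕ, W.valuation (ε ^ j - 1) ≤ W.valuation P ^ n)

include hP0 hP1 hε1 hπ' in
theorem one_le_inv_val : 1 ≤ (W.valuation π')⁻¹ := by
  obtain ⟨-, -, h0⟩ := val_pi' p W P π' ε N hP0 hπ' hε1
  exact (one_le_inv₀ (zero_lt_iff.mpr h0)).mpr (val_pi'_lt p W P π' ε N hP0 hP1 hπ' hε1).le

include hP0 hP1 hε1 hεj hπ' in
/-- the `A`-part: reduction to pole order at most `n` in `π'` -/
theorem apart_reduce {A : Type u} [CommRing A] (gA : A →+* M') (π : A) (hgπ : gA π = P)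
    (hgA : ∀ a, W.valuation (gA a) ≤ 1)
    (hdec : ∀ a : A, ∃ e a' : A, a = e ^ (p ^ N) + π * a') (i : ℕ) :
    i ≤ n → ∀ a : A, ∃ y θ : M', gA a * P⁻¹ ^ i = (y ^ p - y) + θ ∧
      W.valuation θ ≤ (W.valuation π')⁻¹ ^ n := by
  have h1le := one_le_inv_val p W P π' ε N hP0 hP1 hπ' hε1
  induction i with
  | zero =>
    intro _ a
    refine ⟨0, gA a, by simp [hp.out.ne_zero], ?_⟩
    exact (hgA a).trans (one_le_pow₀ h1le)
  | succ i ih =>
    intro hi a
    obtain ⟨e, a', hea⟩ := hdec a
    obtain ⟨y₁, w, h1, hw⟩ := term_reduce p W P π' ε N n hP0 hP1 hπ' hε1 hεj (gA e) (hgA e)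
      (i + 1) N hi le_rfl
    obtain ⟨y₂, θ₂, h2, hθ₂⟩ := ih (by omega) a'
    rw [Nat.sub_self, pow_zero, mul_one] at h1
    refine ⟨y₁ + y₂, gA e * π'⁻¹ ^ (i + 1) + w + θ₂, ?_, ?_⟩
    · have h3 : gA a * P⁻¹ ^ (i + 1) = gA e ^ (p ^ N) * P⁻¹ ^ (i + 1) + gA a' * P⁻¹ ^ i := by
        rw [hea, map_add, map_mul, map_pow, hgπ, add_mul, pow_succ P⁻¹ i]
        congr 1
        field_simp
      rw [h3, h1, h2, add_pow_char]
      ring
    · refine Valuation.map_add_le _ (Valuation.map_add_le _ ?_ ?_) hθ₂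
      · rw [map_mul, map_pow, map_inv₀]
        calc W.valuation (gA e) * (W.valuation π')⁻¹ ^ (i + 1)
            ≤ 1 * (W.valuation π')⁻¹ ^ n :=
              mul_le_mul' (hgA e) (pow_le_pow_right₀ h1le hi)
          _ = _ := one_mul _
      · exact hw.trans (one_le_pow₀ h1le)

include hP0 hP1 hε1 hπ' in
/-- the final step: the element `x` -/
theorem exists_x_of_leading (z' D ρ : M') (k : ℕ) (hk : 1 ≤ k) (hD : W.valuation D ≤ 1)
    (hz' : z' ^ p - z' = D * π'⁻¹ ^ (p * k) + ρ)
    (hρ : W.valuation ρ ≤ (W.valuation π')⁻¹ ^ (p * k - 1)) :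
    ∃ x : M', W.valuation (x ^ p - D) < 1 := by
  obtain ⟨-, hπ'0, hv0⟩ := val_pi' p W P π' ε N hP0 hπ' hε1
  have hvlt := val_pi'_lt p W P π' ε N hP0 hP1 hπ' hε1
  have h2 : 2 ≤ p := hp.out.two_le
  have hpk : 1 ≤ p * k - k := by
    have : 2 * k ≤ p * k := Nat.mul_le_mul_right k h2
    omega
  set x : M' := π' ^ k * z' with hx
  have hxp : x ^ p = π' ^ (p * k - k) * x + D + π' ^ (p * k) * ρ := by
    have e1 : z' ^ p = z' + (D * π'⁻¹ ^ (p * k) + ρ) := by rw [← hz']; ring
    have e2 : π' ^ (p * k) = π' ^ (p * k - k) * π' ^ k := by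
      rw [← pow_add]; congr 1
      have : k ≤ p * k := Nat.le_mul_of_pos_left k (by omega)
      omega
    rw [hx, mul_pow, ← pow_mul, mul_comm k p, e1, mul_add, mul_add, ← mul_assoc (π' ^ (p * k)) D,
      mul_comm (π' ^ (p * k)) D, mul_assoc D, ← mul_pow, mul_inv_cancel₀ hπ'0, one_pow,
      mul_one]
    rw [e2]; ring
  have hρ' : W.valuation (π' ^ (p * k) * ρ) ≤ W.valuation π' := by
    rw [map_mul, map_pow]
    calc W.valuation π' ^ (p * k) * W.valuation ρ
        ≤ W.valuation π' ^ (p * k) * (W.valuation π')⁻¹ ^ (p * k - 1) := mul_le_mul' le_rfl hρ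
      _ = W.valuation π' := by
          have e3 : W.valuation π' ^ (p * k) = W.valuation π' * W.valuation π' ^ (p * k - 1) := by
            rw [← pow_succ']; congr 1; omega
          rw [e3, mul_assoc, inv_pow, mul_inv_cancel₀ (pow_ne_zero _ hv0), mul_one]
  have hτ : W.valuation (π' ^ (p * k - k)) ≤ W.valuation π' := by
    rw [map_pow]
    calc W.valuation π' ^ (p * k - k) ≤ W.valuation π' ^ 1 :=
          pow_le_pow_of_le_one zero_le' hvlt.le hpk
      _ = _ := pow_one _
  have hx1 : W.valuation x ≤ 1 := by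
    by_contra hcon
    push Not at hcon
    have h3 : W.valuation x < W.valuation x ^ p := lt_self_pow₀ hcon (by omega)
    have h4 : W.valuation (x ^ p) < W.valuation x := by
      rw [hxp]
      refine Valuation.map_add_lt _ (Valuation.map_add_lt _ ?_ ?_) ?_
      · rw [map_mul]
        calc W.valuation (π' ^ (p * k - k)) * W.valuation x
            ≤ W.valuation π' * W.valuation x := mul_le_mul' hτ le_rfl
          _ < 1 * W.valuation x :=
            mul_lt_mul_of_pos_right hvlt (lt_trans zero_lt_one hcon)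
          _ = _ := one_mul _
      · exact lt_of_le_of_lt hD hcon
      · exact lt_of_le_of_lt hρ' (lt_trans hvlt hcon)
    rw [map_pow] at h4
    exact absurd (lt_trans h3 h4) (lt_irrefl _)
  refine ⟨x, ?_⟩
  have e4 : x ^ p - D = π' ^ (p * k - k) * x + π' ^ (p * k) * ρ := by rw [hxp]; ring
  rw [e4]
  refine Valuation.map_add_lt _ ?_ (lt_of_le_of_lt hρ' hvlt)
  rw [map_mul]
  calc W.valuation (π' ^ (p * k - k)) * W.valuation x ≤ W.valuation π' * 1 := mul_le_mul' hτ hx1
    _ = W.valuation π' := mul_one _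
    _ < 1 := hvlt

end Val2

end Part4

section Part5

open Polynomial IsLocalRing Ideal
open Groth.Agent.Lib.R2H1.EtRam
open scoped Classical IntermediateField

section Val3

variable (p : ℕ) [hp : Fact p.Prime] {M' : Type u} [Field M'] [CharP M' p]
  (W : ValuationSubring M') (P π' ε : M') (N n : ℕ)
  (hP0 : P ≠ 0) (hP1 : W.valuation P < 1) (hπ' : π' ^ (p ^ N) = P * ε)
  (hε1 : W.valuation ε = 1) (hεj : ∀ j : ℕ, W.valuation (ε ^ j - 1) ≤ W.valuation P ^ n)

include hP0 hP1 hε1 hεj hπ' in
set_option maxHeartbeats 1000000 in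
theorem bad_case_x {A B : Type u} [CommRing A] [CommRing B] [Algebra A B] (g : B →+* M')
    (hgW : ∀ b, W.valuation (g b) ≤ 1) (π : A) (hgπ : g (algebraMap A B π) = P)
    (hdec : ∀ a : A, ∃ e a' : A, a = e ^ (p ^ N) + π * a')
    (T : Finset (ℕ × ℕ × B)) (hT : T.Nonempty)
    (hT1 : ∀ t ∈ T, 1 ≤ t.1 ∧ t.1 ≤ n ∧ (¬ p ∣ t.1 ∨ t.2.1 = 0))
    (hT2 : ∀ t ∈ T, ∀ t' ∈ T, t.1 = t'.1 → t = t')
    (hN : ∀ t ∈ T, t.2.1 < N ∧ n < p ^ (N - t.2.1))
    (ξ' z Y₀ ΞA : M') (a : A) (b₀ : B)
    (hz : z ^ p - z = ξ')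
    (hξ' : ξ' = (Y₀ ^ p - Y₀) + ΞA + ∑ t ∈ T, g t.2.2 ^ (p ^ t.2.1) * P⁻¹ ^ t.1 + g b₀)
    (hΞA : ΞA * P ^ n = g (algebraMap A B a)) :
    ∃ t ∈ T, ∃ x : M', W.valuation (x ^ p - g t.2.2) < 1 := by
  have h1le := one_le_inv_val p W P π' ε N hP0 hP1 hπ' hε1
  -- the `A`-part
  have hΞA' : ΞA = (g.comp (algebraMap A B)) a * P⁻¹ ^ n := by
    rw [RingHom.comp_apply, ← hΞA, mul_assoc, ← mul_pow, mul_inv_cancel₀ hP0, one_pow, mul_one]
  obtain ⟨yA, θA, hA, hθA⟩ := apart_reduce p W P π' ε N n hP0 hP1 hπ' hε1 hεj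
    (g.comp (algebraMap A B)) π hgπ (fun a => hgW _) hdec n le_rfl a
  -- the bad terms
  have hterm : ∀ t ∈ T, ∃ y w : M', g t.2.2 ^ (p ^ t.2.1) * P⁻¹ ^ t.1 =
      (y ^ p - y) + g t.2.2 * π'⁻¹ ^ (t.1 * p ^ (N - t.2.1)) + w ∧ W.valuation w ≤ 1 := by
    intro t ht
    exact term_reduce p W P π' ε N n hP0 hP1 hπ' hε1 hεj (g t.2.2) (hgW _) t.1 t.2.1
      (hT1 t ht).2.1 (hN t ht).1.le
  choose! y w hyw using hterm
  -- the maximal level
  obtain ⟨ts, hts, hmax⟩ := Finset.exists_max_image T (fun t => t.1 * p ^ (N - t.2.1)) hT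
  have hlt : ∀ t ∈ T, t ≠ ts → t.1 * p ^ (N - t.2.1) < ts.1 * p ^ (N - ts.2.1) := by
    intro t ht hne
    refine lt_of_le_of_ne (hmax t ht) ?_
    intro heq
    apply hne
    apply hT2 t ht ts hts
    exact level_inj p hp.out N t.1 t.2.1 ts.1 ts.2.1 (hN t ht).1.le (hN ts hts).1.le
      (hT1 t ht).2.2 (hT1 ts hts).2.2 heq
  -- `m* = p k`
  set k := ts.1 * p ^ (N - ts.2.1 - 1) with hk
  have hmk : ts.1 * p ^ (N - ts.2.1) = p * k := by
    rw [hk, mul_comm p, mul_assoc, ← pow_succ]
    congr 2
    have := (hN ts hts).1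
    omega
  have hk1 : 1 ≤ k := Nat.mul_pos (hT1 ts hts).1 (pow_pos hp.out.pos _)
  have hmn : n < p * k := by
    rw [← hmk]
    calc n < p ^ (N - ts.2.1) := (hN ts hts).2
      _ = 1 * p ^ (N - ts.2.1) := (one_mul _).symm
      _ ≤ ts.1 * p ^ (N - ts.2.1) := Nat.mul_le_mul_right _ (hT1 ts hts).1
  refine ⟨ts, hts, ?_⟩
  set ρ : M' := θA + ∑ t ∈ T.erase ts, g t.2.2 * π'⁻¹ ^ (t.1 * p ^ (N - t.2.1)) +
    ∑ t ∈ T, w t + g b₀ with hρ
  apply exists_x_of_leading p W P π' ε N hP0 hP1 hπ' hε1
    (z - Y₀ - yA - ∑ t ∈ T, y t) (g ts.2.2) ρ k hk1 (hgW _)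
  · -- the equation
    have hsum : ∑ t ∈ T, g t.2.2 ^ (p ^ t.2.1) * P⁻¹ ^ t.1 =
        ((∑ t ∈ T, y t) ^ p - ∑ t ∈ T, y t) +
          ∑ t ∈ T, g t.2.2 * π'⁻¹ ^ (t.1 * p ^ (N - t.2.1)) + ∑ t ∈ T, w t := by
      rw [sum_pow_char, ← Finset.sum_sub_distrib, ← Finset.sum_add_distrib,
        ← Finset.sum_add_distrib]
      exact Finset.sum_congr rfl (fun t ht => (hyw t ht).1)
    have hsplit : ∑ t ∈ T, g t.2.2 * π'⁻¹ ^ (t.1 * p ^ (N - t.2.1)) =
        g ts.2.2 * π'⁻¹ ^ (p * k) + ∑ t ∈ T.erase ts, g t.2.2 * π'⁻¹ ^ (t.1 * p ^ (N - t.2.1)) := by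
      rw [← Finset.add_sum_erase T _ hts, hmk]
    rw [sub_pow_char, sub_pow_char, sub_pow_char, hρ]
    have : z ^ p - z = (Y₀ ^ p - Y₀) + ΞA + ∑ t ∈ T, g t.2.2 ^ (p ^ t.2.1) * P⁻¹ ^ t.1 + g b₀ := by
      rw [hz, hξ']
    rw [hΞA', hA, hsum] at this
    linear_combination this + hsplit
  · -- the valuation bound
    have hn' : n ≤ p * k - 1 := by omega
    rw [hρ]
    refine Valuation.map_add_le _ (Valuation.map_add_le _ (Valuation.map_add_le _ ?_ ?_) ?_) ?_
    · exact hθA.trans (pow_le_pow_right₀ h1le hn')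
    · apply Valuation.map_sum_le
      intro t ht
      rw [Finset.mem_erase] at ht
      rw [map_mul, map_pow, map_inv₀]
      have h5 := hlt t ht.2 ht.1
      rw [hmk] at h5
      calc W.valuation (g t.2.2) * (W.valuation π')⁻¹ ^ (t.1 * p ^ (N - t.2.1))
          ≤ 1 * (W.valuation π')⁻¹ ^ (p * k - 1) :=
            mul_le_mul' (hgW _) (pow_le_pow_right₀ h1le (by omega))
        _ = _ := one_mul _
    · apply Valuation.map_sum_le
      intro t ht
      exact (hyw t ht).2.trans (one_le_pow₀ h1le)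
    · exact (hgW _).trans (one_le_pow₀ h1le)

end Val3

end Part5

section Part6

open Polynomial IsLocalRing Ideal
open Groth.Agent.Lib.R2H1.EtRam
open scoped Classical IntermediateField

section E'

variable (p : ℕ) [hp : Fact p.Prime] (B L M' : Type u) [CommRing B] [IsDomain B]
  [IsDiscreteValuationRing B]
  [Field L] [Algebra B L] [IsFractionRing B L] [Field M'] [Algebra L M'] [Algebra B M']
  [IsScalarTower B L M'] [FiniteDimensional L M']

set_option maxHeartbeats 800000 in
theorem ef_bound' (W : ValuationSubring M') (hdvr : IsDiscreteValuationRing W)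
    (hdom : EtRam.Dominates B (algebraMap B M') W)
    (πB : B) (hπB : maximalIdeal B = Ideal.span {πB}) (t : M') (q : ℕ) (hq : 0 < q)
    (ht : W.valuation t ^ q = W.valuation (algebraMap B M' πB))
    (x : M') (r : B) (hr : ∀ c : B, residue B r ≠ residue B c ^ p)
    (hx : W.valuation (x ^ p - algebraMap B M' r) < 1) :
    q * p ≤ Module.finrank L M' ∧
      (Module.finrank L M' ≤ q * p →
        ∀ w : M', W.valuation w < 1 → W.valuation w ≤ W.valuation t) := by
  haveI : IsDiscreteValuationRing W := hdvr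
  letI algBW : Algebra B W := (RingHom.codRestrict (algebraMap B M') W hdom.1).toAlgebra
  haveI locW : IsLocalHom (algebraMap B W) := isLocalHom_codRestrict _ W hdom
  haveI : IsScalarTower B W M' := IsScalarTower.of_algebraMap_eq (fun _ => rfl)
  have hinjM : Function.Injective (algebraMap B M') := by
    rw [IsScalarTower.algebraMap_eq B L M']
    exact (algebraMap L M').injective.comp (IsFractionRing.injective B L)
  have hinj : Function.Injective (algebraMap B W) := fun a b h =>
    hinjM (congrArg Subtype.val h)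
  obtain ⟨hfin, hef⟩ := Groth.Agent.Lib.Helper24DvrEF.s7132 B W L M' hinj
  have hp0 : 0 < p := hp.out.pos
  -- the residue degree
  have hr' : W.valuation (algebraMap B M' r) ≤ 1 := (W.valuation_le_one_iff _).mpr (hdom.1 r)
  have hxW : x ∈ W := by
    rw [← W.valuation_le_one_iff]
    have h1 : W.valuation (x ^ p) ≤ 1 := by
      have : x ^ p = (x ^ p - algebraMap B M' r) + algebraMap B M' r := by ring
      rw [this]
      exact Valuation.map_add_le _ hx.le hr'
    rw [map_pow] at h1
    by_contra hcon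
    push Not at hcon
    exact absurd h1 (not_le.mpr (one_lt_pow₀ hcon hp.out.ne_zero))
  have hxbar : residue W ⟨x, hxW⟩ ^ p =
      algebraMap (IsLocalRing.ResidueField B) (IsLocalRing.ResidueField W) (residue B r) := by
    have h1 : (⟨x, hxW⟩ : W) ^ p - algebraMap B W r ∈ maximalIdeal W := by
      rw [W.valuation_lt_one_iff]
      exact hx
    rw [← residue_eq_zero_iff, map_sub, map_pow, sub_eq_zero] at h1
    rw [h1]
    rfl
  have hirr : Irreducible (X ^ p - Polynomial.C (residue B r) : (IsLocalRing.ResidueField B)[X]) := by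
    apply X_pow_sub_C_irreducible_of_prime hp.out
    intro b hb
    obtain ⟨c, rfl⟩ := residue_surjective b
    exact hr c hb.symm
  have hmin : X ^ p - Polynomial.C (residue B r) =
      minpoly (IsLocalRing.ResidueField B) (residue W ⟨x, hxW⟩) := by
    apply minpoly.eq_of_irreducible_of_monic hirr _ (monic_X_pow_sub_C _ hp.out.ne_zero)
    rw [map_sub, map_pow, aeval_X, aeval_C, hxbar, sub_self]
  have hf : p ≤ Module.finrank (IsLocalRing.ResidueField B) (IsLocalRing.ResidueField W) := by
    have h1 := minpoly.natDegree_le (A := IsLocalRing.ResidueField B) (residue W ⟨x, hxW⟩)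
    rw [← hmin, natDegree_X_pow_sub_C] at h1
    exact h1
  -- the ramification index
  obtain ⟨ϖ, hϖ⟩ := IsDiscreteValuationRing.exists_irreducible W
  have hϖm : maximalIdeal W = Ideal.span {ϖ} :=
    (IsDiscreteValuationRing.irreducible_iff_uniformizer ϖ).mp hϖ
  have hπB0 : πB ≠ 0 := by
    rintro rfl
    apply IsDiscreteValuationRing.not_a_field B
    rw [hπB, Ideal.span_singleton_eq_bot]
  have hπW0 : algebraMap B W πB ≠ 0 := fun h => hπB0 (hinj (by rw [h, map_zero]))
  obtain ⟨e, w, hw⟩ := IsDiscreteValuationRing.eq_unit_mul_pow_irreducible hπW0 hϖ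
  have hram := Groth.Agent.Lib.R2H1.EtRamAbh.ramificationIdx'_eq_of_eq πB hπB ϖ hϖm hϖ.ne_zero e w hw
  set ρ := W.valuation (ϖ : M') with hρ
  have hρ1 : ρ < 1 := by
    rw [hρ, ← W.valuation_lt_one_iff, hϖm]
    exact Ideal.mem_span_singleton_self ϖ
  have hρ0 : ρ ≠ 0 := by
    rw [hρ, Ne, Valuation.zero_iff]
    intro h
    exact hϖ.ne_zero (Subtype.ext h)
  have hρpos : 0 < ρ := zero_lt_iff.mpr hρ0
  have hvπ : W.valuation (algebraMap B M' πB) = ρ ^ e := by
    have h1 : algebraMap B M' πB = ((w : W) : M') * (ϖ : M') ^ e := by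
      have := congrArg (Subtype.val : W → M') hw
      rw [MulMemClass.coe_mul, SubmonoidClass.coe_pow] at this
      exact this
    rw [h1, map_mul, map_pow, W.valuation_unit, one_mul]
  have ht1 : W.valuation t < 1 := by
    by_contra hcon
    push Not at hcon
    have h1 : 1 ≤ W.valuation t ^ q := one_le_pow₀ hcon
    rw [ht, hvπ] at h1
    rcases Nat.eq_zero_or_pos e with he0 | he0
    · rw [he0, pow_zero] at hvπ
      have h2 : W.valuation (algebraMap B M' πB) < 1 := hdom.2 πB (hπB ▸ Ideal.mem_span_singleton_self πB)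
      rw [hvπ] at h2
      exact lt_irrefl _ h2
    · exact absurd h1 (not_le.mpr (pow_lt_one₀ zero_le' hρ1 he0.ne'))
  have ht0 : t ≠ 0 := by
    rintro rfl
    rw [map_zero, zero_pow hq.ne', hvπ] at ht
    exact pow_ne_zero _ hρ0 ht.symm
  have htW : t ∈ W := (W.valuation_le_one_iff _).mp ht1.le
  have htW0 : (⟨t, htW⟩ : W) ≠ 0 := fun h => ht0 (congrArg Subtype.val h)
  obtain ⟨k, w', hw'⟩ := IsDiscreteValuationRing.eq_unit_mul_pow_irreducible htW0 hϖ
  have hvt : W.valuation t = ρ ^ k := by
    have h1 : t = ((w' : W) : M') * (ϖ : M') ^ k := by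
      have := congrArg (Subtype.val : W → M') hw'
      simpa using this
    rw [h1, map_mul, map_pow, W.valuation_unit, one_mul]
  have hke : k * q = e := by
    rw [hvt, hvπ, ← pow_mul] at ht
    exact pow_right_injective₀ hρpos hρ1.ne ht
  have hk1 : 1 ≤ k := by
    rcases Nat.eq_zero_or_pos k with hk0 | hk0
    · rw [hk0, pow_zero] at hvt
      rw [hvt] at ht1
      exact absurd ht1 (lt_irrefl _)
    · exact hk0
  rw [hram, ← hke] at hef
  have h1 : q * p ≤ k * q * Module.finrank (IsLocalRing.ResidueField B) (IsLocalRing.ResidueField W) := by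
    calc q * p = 1 * q * p := by ring
      _ ≤ k * q * Module.finrank (IsLocalRing.ResidueField B) (IsLocalRing.ResidueField W) :=
        Nat.mul_le_mul (Nat.mul_le_mul hk1 le_rfl) hf
  refine ⟨h1.trans hef, ?_⟩
  intro hle w hw1
  have hk : k = 1 := by
    have h2 : k * q * p ≤ q * p :=
      (Nat.mul_le_mul le_rfl hf).trans (hef.trans hle)
    have h3 : k * (q * p) ≤ 1 * (q * p) := by rw [← mul_assoc, one_mul]; exact h2
    have := Nat.le_of_mul_le_mul_right h3 (Nat.mul_pos hq hp0)
    omega
  rw [hvt, hk, pow_one]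
  have hwW : w ∈ W := (W.valuation_le_one_iff _).mp hw1.le
  have hwm : (⟨w, hwW⟩ : W) ∈ maximalIdeal W := (W.valuation_lt_one_iff _).mpr hw1
  rw [hϖm, Ideal.mem_span_singleton'] at hwm
  obtain ⟨c, hc⟩ := hwm
  have h4 : w = (c : M') * (ϖ : M') := by
    have := congrArg (Subtype.val : W → M') hc
    simpa using this.symm
  rw [h4, map_mul]
  calc W.valuation (c : M') * ρ ≤ 1 * ρ := mul_le_mul' ((W.valuation_le_one_iff _).mpr c.2) le_rfl
    _ = ρ := one_mul _

end E'

end Part6

section Part7

open Polynomial IsLocalRing Ideal TensorProduct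
open Groth.Agent.Lib.R2H1.EtRam
open scoped Classical IntermediateField

section Sep

variable (K L K₁ M : Type u) [Field K] [Field L] [Field K₁] [Field M]
  [Algebra K L] [Algebra K K₁] [Algebra K M] [Algebra L M] [Algebra K₁ M]
  [IsScalarTower K L M] [IsScalarTower K K₁ M]

theorem isSeparable_of_adjoin [Algebra.IsSeparable K K₁]
    (hgen : Algebra.adjoin L (Set.range (algebraMap K₁ M)) = ⊤) : Algebra.IsSeparable L M := by
  rw [← separableClosure.eq_top_iff, eq_top_iff]
  intro x _
  have hx : x ∈ Algebra.adjoin L (Set.range (algebraMap K₁ M)) := by rw [hgen]; exact Algebra.mem_top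
  have hle : Algebra.adjoin L (Set.range (algebraMap K₁ M)) ≤ (separableClosure L M).toSubalgebra := by
    apply Algebra.adjoin_le
    rintro _ ⟨k, rfl⟩
    show algebraMap K₁ M k ∈ separableClosure L M
    rw [mem_separableClosure_iff]
    have h1 : IsSeparable K k := Algebra.IsSeparable.isSeparable K k
    have h2 : IsSeparable K (IsScalarTower.toAlgHom K K₁ M k) :=
      h1.map (IsScalarTower.toAlgHom K K₁ M) (algebraMap K₁ M).injective
    exact h2.tower_top L
  exact hle hx

end Sep

section Arith2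

theorem exists_N (p : ℕ) (hp : p.Prime) {β : Type*} (T : Finset β) (h : β → ℕ) (n : ℕ) :
    ∃ N : ℕ, ∀ t ∈ T, h t < N ∧ n < p ^ (N - h t) := by
  refine ⟨T.sup h + n + 1, fun t ht => ?_⟩
  have h1 : h t ≤ T.sup h := Finset.le_sup ht
  refine ⟨by omega, ?_⟩
  have h2 : n + 1 ≤ T.sup h + n + 1 - h t := by omega
  calc n < 2 ^ n := Nat.lt_two_pow_self
    _ ≤ p ^ n := Nat.pow_le_pow_left hp.two_le n
    _ ≤ p ^ (T.sup h + n + 1 - h t) := Nat.pow_le_pow_right hp.pos (by omega)

end Arith2

end Part7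

section Part8

open Polynomial IsLocalRing Ideal TensorProduct
open Groth.Agent.Lib.R2H1.EtRam Groth.Agent.Lib.R2H1.EtRamPI
open scoped Classical IntermediateField

section Bad

variable (p : ℕ) [hp : Fact p.Prime] (A B C K L M : Type u)
    [CommRing A] [IsDomain A] [IsDiscreteValuationRing A] [CommRing B] [IsDomain B]
    [IsDiscreteValuationRing B]
    [CommRing C] [IsDomain C] [IsDiscreteValuationRing C]
    [Algebra A B] [Algebra B C] [Algebra A C] [IsScalarTower A B C]
    [IsLocalHom (algebraMap A B)] [IsLocalHom (algebraMap B C)]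
    [Field K] [Field L] [Field M] [Algebra A K] [IsFractionRing A K] [Algebra B L]
    [IsFractionRing B L]
    [Algebra C M] [IsFractionRing C M] [Algebra K L] [Algebra L M] [Algebra K M]
    [IsScalarTower K L M]
    [Algebra A L] [IsScalarTower A K L] [IsScalarTower A B L] [Algebra B M] [IsScalarTower B L M]
    [IsScalarTower B C M]
    [Algebra A M] [IsScalarTower A K M] [IsScalarTower A C M]
    (π : A) (hπ : IsLocalRing.maximalIdeal A = Ideal.span {π})
    (hw : EtRam.IsWeaklyUnramified A B) [CharP K p] [IsGalois L M]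
    (hdeg : Module.finrank L M = p)
    (hk : ∀ x : IsLocalRing.ResidueField B,
      (∀ n : ℕ, ∃ y : IsLocalRing.ResidueField B, y ^ (p ^ n) = x) ↔
      x ∈ Set.range (algebraMap (IsLocalRing.ResidueField A) (IsLocalRing.ResidueField B)))
    (K₁ : Type u) [Field K₁] [Algebra K K₁] [Algebra A K₁] [IsScalarTower A K K₁]
    (M' : Type u) [Field M'] [Algebra K M'] [Algebra M M'] [Algebra K₁ M'] [IsScalarTower K M M']
    [IsScalarTower K K₁ M']

include hπ hw hdeg hk in
set_option maxHeartbeats 1600000 in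
theorem bad_core [Algebra.IsSeparable K K₁] (N n : ℕ) (hn : 1 ≤ n)
    (hK₁ : Module.finrank K K₁ = p ^ N)
    (π₁ b : K₁) (hb : IsIntegral A b)
    (hπ₁ : π₁ ^ (p ^ N) = algebraMap A K₁ π + algebraMap A K₁ π ^ (n + 1) * b)
    (ξ : L) (z : M) (hz : z ^ p - z = algebraMap L M ξ)
    (y₀ : L) (ξA : K) (T : Finset (ℕ × ℕ × B)) (b₀ : B)
    (hNF1 : ξ = (y₀ ^ p - y₀) + algebraMap K L ξA + badSum p A B L π T + algebraMap B L b₀)
    (hNF2 : ∃ a : A, ξA * algebraMap A K π ^ n = algebraMap A K a)
    (hNF3 : ∀ t ∈ T, 1 ≤ t.1 ∧ t.1 ≤ n ∧ (∀ c : B, residue B t.2.2 ≠ residue B c ^ p) ∧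
      (¬ p ∣ t.1 ∨ t.2.1 = 0))
    (hNF4 : ∀ t ∈ T, ∀ t' ∈ T, t.1 = t'.1 → t = t')
    (hT : T.Nonempty) (hN : ∀ t ∈ T, t.2.1 < N ∧ n < p ^ (N - t.2.1))
    (hgen : Algebra.adjoin M (Set.range (algebraMap K₁ M')) = ⊤)
    (W : ValuationSubring M')
    (hdom : EtRam.Dominates C ((algebraMap M M').comp (algebraMap C M)) W) :
    (letI : Algebra (W.comap (algebraMap K₁ M')) W :=
      (EtRam.inclOfComap W (algebraMap K₁ M')).toAlgebra
    EtRam.IsWeaklyUnramified (W.comap (algebraMap K₁ M')) W) := by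
  have hp0 : 0 < p := hp.out.pos
  letI algLM' : Algebra L M' := ((algebraMap M M').comp (algebraMap L M)).toAlgebra
  letI algBM' : Algebra B M' := ((algebraMap M M').comp (algebraMap B M)).toAlgebra
  letI algAM' : Algebra A M' := ((algebraMap K₁ M').comp (algebraMap A K₁)).toAlgebra
  haveI : IsScalarTower L M M' := IsScalarTower.of_algebraMap_eq (fun _ => rfl)
  haveI : IsScalarTower B M M' := IsScalarTower.of_algebraMap_eq (fun _ => rfl)
  haveI : IsScalarTower A K₁ M' := IsScalarTower.of_algebraMap_eq (fun _ => rfl)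
  haveI : IsScalarTower B L M' := IsScalarTower.of_algebraMap_eq (fun b => by
    show algebraMap M M' (algebraMap B M b) = algebraMap M M' (algebraMap L M (algebraMap B L b))
    rw [← IsScalarTower.algebraMap_apply B L M])
  -- finiteness and separability
  haveI : FiniteDimensional K K₁ := by
    apply Module.finite_of_finrank_pos
    rw [hK₁]; exact pow_pos hp0 _
  obtain ⟨hfinMM', hleMM'⟩ := finrank_le_of_adjoin K M K₁ M' hgen
  haveI : FiniteDimensional L M := by
    apply Module.finite_of_finrank_pos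
    rw [hdeg]; exact hp0
  haveI : FiniteDimensional L M' := Module.Finite.trans M M'
  have hmul : Module.finrank L M' = Module.finrank L M * Module.finrank M M' :=
    (Module.finrank_mul_finrank L M M').symm
  rw [hdeg] at hmul
  rw [hK₁] at hleMM'
  haveI : Algebra.IsSeparable M M' := isSeparable_of_adjoin K M K₁ M' hgen
  haveI : Algebra.IsSeparable L M' := Algebra.IsSeparable.trans L M M'
  -- domination for `B`
  have hBM' : ∀ b : B, algebraMap B M' b =
      ((algebraMap M M').comp (algebraMap C M)) (algebraMap B C b) := fun b => by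
    show algebraMap M M' (algebraMap B M b) = algebraMap M M' (algebraMap C M (algebraMap B C b))
    rw [← IsScalarTower.algebraMap_apply B C M]
  have hdomB : EtRam.Dominates B (algebraMap B M') W := by
    refine ⟨fun b => ?_, fun b hb => ?_⟩
    · rw [hBM']; exact hdom.1 _
    · rw [hBM']
      apply hdom.2
      rw [mem_maximalIdeal, mem_nonunits_iff] at hb ⊢
      exact fun hu => hb (isUnit_of_map_unit (algebraMap B C) b hu)
  have hdvr : IsDiscreteValuationRing W := isDiscreteValuationRing_of_dominates B L M' W hdomB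
  haveI hcL : CharP L p := charP_of_injective_algebraMap (algebraMap K L).injective p
  haveI : CharP M' p := charP_of_injective_algebraMap (algebraMap L M').injective p
  haveI hcκ : CharP (IsLocalRing.ResidueField B) p :=
    Groth.Agent.Lib.R2H1.EtRamAS.charP_residue p B L
  -- the uniformiser of `B`
  have hπB : maximalIdeal B = Ideal.span {algebraMap A B π} := by
    have h1 : (maximalIdeal A).map (algebraMap A B) = maximalIdeal B := hw
    rw [← h1, hπ, Ideal.map_span, Set.image_singleton]
  have hπB0 : algebraMap A B π ≠ 0 := by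
    intro h0
    apply IsDiscreteValuationRing.not_a_field B
    rw [hπB, h0, Ideal.span_singleton_eq_bot]
  have hginj : Function.Injective (algebraMap B M') := by
    rw [IsScalarTower.algebraMap_eq B L M']
    exact (algebraMap L M').injective.comp (IsFractionRing.injective B L)
  have hP0 : algebraMap B M' (algebraMap A B π) ≠ 0 := fun h => hπB0 (hginj (by rw [h, map_zero]))
  have hP1 : W.valuation (algebraMap B M' (algebraMap A B π)) < 1 :=
    hdomB.2 _ (hπB ▸ Ideal.mem_span_singleton_self _)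
  -- compatibility
  have hAcompat : ∀ a : A, algebraMap K₁ M' (algebraMap A K₁ a) =
      algebraMap B M' (algebraMap A B a) := by
    intro a
    show _ = algebraMap M M' (algebraMap B M (algebraMap A B a))
    rw [IsScalarTower.algebraMap_apply A K K₁, ← IsScalarTower.algebraMap_apply K K₁ M',
      IsScalarTower.algebraMap_apply K M M', ← IsScalarTower.algebraMap_apply A K M,
      IsScalarTower.algebraMap_apply A C M, IsScalarTower.algebraMap_apply A B C,
      ← IsScalarTower.algebraMap_apply B C M]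
  have hAW : ∀ a : A, algebraMap A M' a ∈ W := by
    intro a
    have h1 : algebraMap A M' a = algebraMap B M' (algebraMap A B a) := hAcompat a
    rw [h1]; exact hdomB.1 _
  have hb'' : algebraMap K₁ M' b ∈ W := by
    have h1 : IsIntegral A (algebraMap K₁ M' b) := hb.algebraMap
    exact integralClosure_le W hAW h1
  obtain ⟨m, rfl⟩ : ∃ m, n = m + 1 := ⟨n - 1, by omega⟩
  have hπ' : algebraMap K₁ M' π₁ ^ (p ^ N) = algebraMap B M' (algebraMap A B π) *
      (1 + algebraMap B M' (algebraMap A B π) ^ (m + 1) * algebraMap K₁ M' b) := by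
    rw [← map_pow, hπ₁, map_add, map_mul, map_pow, hAcompat]
    ring
  obtain ⟨hε1, hεj⟩ := eps_facts W (algebraMap B M') (algebraMap A B π) hP0 hP1 m _ hb''
  have hgW : ∀ b : B, W.valuation (algebraMap B M' b) ≤ 1 := fun b =>
    (W.valuation_le_one_iff _).mpr (hdomB.1 b)
  have hdec : ∀ a : A, ∃ e a' : A, a = e ^ (p ^ N) + π * a' := fun a =>
    exists_pow_add p A B hk π hπ a N
  -- the normal form in `M'`
  obtain ⟨a, ha⟩ := hNF2
  have hLM' : ∀ l : L, algebraMap L M' l = algebraMap M M' (algebraMap L M l) := fun _ => rfl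
  have hPL : algebraMap L M' (algebraMap A L π) = algebraMap B M' (algebraMap A B π) := by
    rw [IsScalarTower.algebraMap_apply A B L, ← IsScalarTower.algebraMap_apply B L M']
  have hz' : (algebraMap M M' z) ^ p - algebraMap M M' z = algebraMap L M' ξ := by
    rw [← map_pow, ← map_sub, hz]; rfl
  have hξ' : algebraMap L M' ξ = ((algebraMap L M' y₀) ^ p - algebraMap L M' y₀) +
      algebraMap L M' (algebraMap K L ξA) +
      ∑ t ∈ T, algebraMap B M' t.2.2 ^ (p ^ t.2.1) *
        (algebraMap B M' (algebraMap A B π))⁻¹ ^ t.1 + algebraMap B M' b₀ := by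
    rw [hNF1, map_add, map_add, map_add, map_sub, map_pow, ← IsScalarTower.algebraMap_apply B L M']
    congr 2
    unfold badSum
    rw [map_sum]
    apply Finset.sum_congr rfl
    intro t _
    rw [map_mul, map_pow, map_pow, map_inv₀, hPL, ← IsScalarTower.algebraMap_apply B L M']
  have hΞA : algebraMap L M' (algebraMap K L ξA) * algebraMap B M' (algebraMap A B π) ^ (m + 1) =
      algebraMap B M' (algebraMap A B a) := by
    have h1 : algebraMap B M' (algebraMap A B π) = algebraMap L M' (algebraMap K L (algebraMap A K π)) := by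
      rw [← IsScalarTower.algebraMap_apply A K L, hPL]
    have h2 : algebraMap B M' (algebraMap A B a) = algebraMap L M' (algebraMap K L (algebraMap A K a)) := by
      rw [← IsScalarTower.algebraMap_apply A K L, IsScalarTower.algebraMap_apply A B L,
        ← IsScalarTower.algebraMap_apply B L M']
    rw [h1, h2, ← map_pow, ← map_pow, ← map_mul, ← map_mul, ha]
  obtain ⟨ts, hts, x, hx⟩ := bad_case_x p W (algebraMap B M' (algebraMap A B π))
    (algebraMap K₁ M' π₁) _ N (m + 1) hP0 hP1 hπ' hε1 hεj (algebraMap B M') hgW π rfl hdec T hT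
    (fun t ht => ⟨(hNF3 t ht).1, (hNF3 t ht).2.1, (hNF3 t ht).2.2.2⟩) hNF4 hN
    (algebraMap L M' ξ) (algebraMap M M' z) (algebraMap L M' y₀)
    (algebraMap L M' (algebraMap K L ξA)) a b₀ hz' hξ' hΞA
  obtain ⟨hvπ', -, -⟩ := val_pi' p W _ (algebraMap K₁ M' π₁) _ N hP0 hπ' hε1
  obtain ⟨h1, h2⟩ := ef_bound' p B L M' W hdvr hdomB (algebraMap A B π) hπB (algebraMap K₁ M' π₁)
    (p ^ N) (pow_pos hp0 _) hvπ' x ts.2.2 (hNF3 ts hts).2.2.1 hx
  rw [hmul] at h2
  have h3 := h2 (by rw [mul_comm]; exact Nat.mul_le_mul hleMM' le_rfl)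
  have hπ'1 : W.valuation (algebraMap K₁ M' π₁) < 1 :=
    val_pi'_lt p W _ (algebraMap K₁ M' π₁) _ N hP0 hP1 hπ' hε1
  exact weaklyUnramified_of_val (algebraMap K₁ M') W π₁ hπ'1 h3

end Bad

end Part8

section Part9

open Polynomial IsLocalRing Ideal TensorProduct
open Groth.Agent.Lib.R2H1.EtRam Groth.Agent.Lib.R2H1.EtRamPI Groth.Agent.Lib.R2H1.EtRamAS
open scoped Classical IntermediateField

section ASK

variable (p : ℕ) [hp : Fact p.Prime] (A K : Type u)
    [CommRing A] [IsDomain A] [IsDiscreteValuationRing A]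
    [Field K] [Algebra A K] [IsFractionRing A K] [CharP K p]
    (π : A) (hπ : IsLocalRing.maximalIdeal A = Ideal.span {π})
    (hdec1 : ∀ a : A, ∃ e a' : A, a = e ^ p + π * a')

include hπ hdec1 in
theorem reduce_K (n : ℕ) : ∀ ξ : K, (∃ c : A, ξ * algebraMap A K π ^ n = algebraMap A K c) →
    ∃ y : K, (∃ a : A, ξ - (y ^ p - y) = algebraMap A K a) ∨
      ∃ (m : ℕ) (u : Aˣ), 0 < m ∧ ¬ p ∣ m ∧
        (ξ - (y ^ p - y)) * algebraMap A K π ^ m = algebraMap A K u := by
  have hπ0 : π ≠ 0 := by
    rintro rfl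
    apply IsDiscreteValuationRing.not_a_field A
    rw [hπ, Ideal.span_singleton_eq_bot]
  have hP0 : algebraMap A K π ≠ 0 := fun h =>
    hπ0 (IsFractionRing.injective A K (by rw [h, map_zero]))
  induction n with
  | zero =>
    rintro ξ ⟨c, hc⟩
    rw [pow_zero, mul_one] at hc
    exact ⟨0, Or.inl ⟨c, by rw [hc]; simp [hp.out.ne_zero]⟩⟩
  | succ n ih =>
    rintro ξ ⟨c, hc⟩
    by_cases hdiv : p ∣ n + 1
    · obtain ⟨k, hk1⟩ := hdiv
      obtain ⟨e, c', hec⟩ := hdec1 c
      have hk0 : 1 ≤ k := by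
        rcases Nat.eq_zero_or_pos k with h0 | h0
        · rw [h0, mul_zero] at hk1; omega
        · exact h0
      have hkn : k ≤ n := by
        have := hp.out.two_le
        nlinarith
      set y₁ : K := algebraMap A K e * (algebraMap A K π)⁻¹ ^ k with hy₁
      have hξ : ξ = algebraMap A K c * (algebraMap A K π)⁻¹ ^ (n + 1) := by
        rw [← hc, mul_assoc, ← mul_pow, mul_inv_cancel₀ hP0, one_pow, mul_one]
      have h1 : (ξ - (y₁ ^ p - y₁)) * algebraMap A K π ^ n =
          algebraMap A K (c' + e * π ^ (n - k)) := by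
        have e1 : algebraMap A K π ^ n = algebraMap A K π ^ (n - k) * algebraMap A K π ^ k := by
          rw [← pow_add, Nat.sub_add_cancel hkn]
        have e2 : (algebraMap A K π)⁻¹ ^ (n + 1) = ((algebraMap A K π)⁻¹ ^ k) ^ p := by
          rw [← pow_mul, mul_comm k p, ← hk1]
        have e3 : y₁ * algebraMap A K π ^ n = algebraMap A K e * algebraMap A K π ^ (n - k) := by
          rw [hy₁, e1, mul_assoc, mul_comm (algebraMap A K π ^ (n - k)),
            ← mul_assoc ((algebraMap A K π)⁻¹ ^ k), ← mul_pow, inv_mul_cancel₀ hP0, one_pow, one_mul]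
        have e4 : (ξ - y₁ ^ p) * algebraMap A K π ^ n = algebraMap A K c' := by
          rw [hξ, hy₁, mul_pow, ← e2, ← sub_mul, ← map_pow, ← map_sub, hec, add_sub_cancel_left,
            map_mul, pow_succ (algebraMap A K π)⁻¹ n]
          have : algebraMap A K π * algebraMap A K c' *
              ((algebraMap A K π)⁻¹ ^ n * (algebraMap A K π)⁻¹) * algebraMap A K π ^ n =
              algebraMap A K c' * ((algebraMap A K π)⁻¹ * algebraMap A K π) ^ n *
                ((algebraMap A K π)⁻¹ * algebraMap A K π) := by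
            rw [mul_pow]; ring
          rw [this, inv_mul_cancel₀ hP0, one_pow, mul_one, mul_one]
        have : (ξ - (y₁ ^ p - y₁)) * algebraMap A K π ^ n =
            (ξ - y₁ ^ p) * algebraMap A K π ^ n + y₁ * algebraMap A K π ^ n := by ring
        rw [this, e3, e4, map_add, map_mul, map_pow]
      obtain ⟨y', hy'⟩ := ih _ ⟨_, h1⟩
      refine ⟨y' + y₁, ?_⟩
      have h2 : ξ - ((y' + y₁) ^ p - (y' + y₁)) = (ξ - (y₁ ^ p - y₁)) - (y' ^ p - y') := by
        rw [add_pow_char]; ring
      rw [h2]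
      exact hy'
    · by_cases hu : IsUnit c
      · refine ⟨0, Or.inr ⟨n + 1, hu.unit, Nat.succ_pos n, hdiv, ?_⟩⟩
        rw [IsUnit.unit_spec, ← hc]
        simp [hp.out.ne_zero]
      · have hcm : c ∈ maximalIdeal A := (mem_maximalIdeal c).mpr hu
        rw [hπ, Ideal.mem_span_singleton'] at hcm
        obtain ⟨c', rfl⟩ := hcm
        apply ih
        refine ⟨c', ?_⟩
        apply mul_right_cancel₀ hP0
        rw [mul_assoc, ← pow_succ, hc, map_mul]

end ASK

end Part9

section Part10

open Polynomial IsLocalRing Ideal TensorProduct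
open Groth.Agent.Lib.R2H1.EtRam Groth.Agent.Lib.R2H1.EtRamPI Groth.Agent.Lib.R2H1.EtRamAS
open scoped Classical IntermediateField

section ASK2

variable (p : ℕ) [hp : Fact p.Prime] (A K : Type u)
    [CommRing A] [IsDomain A] [IsDiscreteValuationRing A]
    [Field K] [Algebra A K] [IsFractionRing A K] [CharP K p]
    (π : A) (hπ : IsLocalRing.maximalIdeal A = Ideal.span {π})
    (hdec1 : ∀ a : A, ∃ e a' : A, a = e ^ p + π * a')

include hπ in
theorem exists_pole (ξ : K) : ∃ (n : ℕ) (c : A), ξ * algebraMap A K π ^ n = algebraMap A K c := by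
  obtain ⟨x, s, hxs⟩ := IsLocalization.exists_mk'_eq (nonZeroDivisors A) ξ
  have hs0 : (s : A) ≠ 0 := nonZeroDivisors.ne_zero s.2
  have hπirr : Irreducible π := by
    rw [IsDiscreteValuationRing.irreducible_iff_uniformizer]
    exact hπ
  obtain ⟨n, u, hn⟩ := IsDiscreteValuationRing.eq_unit_mul_pow_irreducible hs0 hπirr
  refine ⟨n, x * (u⁻¹ : Aˣ), ?_⟩
  have h1 : ξ * algebraMap A K s = algebraMap A K x := by
    rw [← hxs]
    exact IsLocalization.mk'_spec _ _ _
  have h2 : algebraMap A K π ^ n = algebraMap A K s * algebraMap A K ((u⁻¹ : Aˣ) : A) := by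
    rw [hn, map_mul, map_pow, mul_comm (algebraMap A K u), mul_assoc, ← map_mul, ← Units.val_mul,
      mul_inv_cancel, Units.val_one, map_one, mul_one]
  rw [h2, ← mul_assoc, h1, map_mul]

include hπ hdec1 in
set_option maxHeartbeats 800000 in
theorem exists_AS_ext (ξA : K) :
    ∃ (K₂ : Type u) (_ : Field K₂) (_ : Algebra K K₂), FiniteDimensional K K₂ ∧
      Algebra.IsSeparable K K₂ ∧
      EtRam.IsTotallyRamified A ((algebraMap K K₂).comp (algebraMap A K)) ∧
      ∃ (z₁ : K₂) (a : A), z₁ ^ p - z₁ = algebraMap K K₂ (ξA - algebraMap A K a) := by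
  obtain ⟨n, c, hc⟩ := exists_pole A K π hπ ξA
  obtain ⟨y, hy⟩ := reduce_K p A K π hπ hdec1 n ξA ⟨c, hc⟩
  rcases hy with ⟨a, ha⟩ | ⟨m, u, hm, hpm, hu⟩
  · refine ⟨K, inferInstance, inferInstance, inferInstance, inferInstance, ?_, y, a, ?_⟩
    · have h1 : (algebraMap K K).comp (algebraMap A K) = algebraMap A K := by
        rw [Algebra.algebraMap_self, RingHom.id_comp]
      rw [h1]
      exact Groth.Agent.Lib.R2H1.EtRamEis.totRam_self A K π hπ
    · rw [Algebra.algebraMap_self, RingHom.id_apply, ← ha]; ring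
  · set ξ'' : K := ξA - (y ^ p - y) with hξ''
    haveI : IsScalarTower A K (asPoly p ξ'').SplittingField := inferInstance
    haveI hcharK₂ : CharP (asPoly p ξ'').SplittingField p :=
      charP_of_injective_algebraMap (algebraMap K (asPoly p ξ'').SplittingField).injective p
    have hsplits := SplittingField.splits (asPoly p ξ'')
    have hdeg0 : ((asPoly p ξ'').map (algebraMap K (asPoly p ξ'').SplittingField)).degree ≠ 0 := by
      rw [degree_map]
      intro h0
      have h1 := asPoly_natDegree (p := p) ξ''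
      rw [natDegree_eq_of_degree_eq_some (n := 0) (by exact_mod_cast h0)] at h1
      exact hp.out.ne_zero h1.symm
    obtain ⟨z₀, hz₀⟩ := hsplits.exists_eval_eq_zero hdeg0
    have hz₀' : z₀ ^ p - z₀ = algebraMap K (asPoly p ξ'').SplittingField ξ'' := by
      rw [asPoly_map] at hz₀
      unfold asPoly at hz₀
      simp only [eval_sub, eval_pow, eval_X, eval_C] at hz₀
      exact sub_eq_zero.mp hz₀
    have hgen : IntermediateField.adjoin K {z₀} = ⊤ := by
      rw [eq_top_iff]
      intro x _
      have hx : x ∈ Algebra.adjoin K ((asPoly p ξ'').rootSet (asPoly p ξ'').SplittingField) := by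
        rw [IsSplittingField.adjoin_rootSet]; exact Algebra.mem_top
      have hle : Algebra.adjoin K ((asPoly p ξ'').rootSet (asPoly p ξ'').SplittingField) ≤
          (IntermediateField.adjoin K {z₀}).toSubalgebra := by
        apply Algebra.adjoin_le
        intro r hr
        rw [mem_rootSet] at hr
        have hr' : r ^ p - r = algebraMap K (asPoly p ξ'').SplittingField ξ'' := by
          have := hr.2
          unfold asPoly at this
          simp only [map_sub, map_pow, aeval_X, aeval_C] at this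
          exact sub_eq_zero.mp this
        obtain ⟨i, -, hi⟩ := exists_eq_add_of_root (p := p) z₀ _ hz₀' r hr'
        rw [hi]
        show z₀ + (i : (asPoly p ξ'').SplittingField) ∈ IntermediateField.adjoin K {z₀}
        exact add_mem (IntermediateField.mem_adjoin_simple_self K z₀) (natCast_mem _ i)
      exact hle hx
    have hcase := caseB_global p A K (asPoly p ξ'').SplittingField π hπ ξ'' z₀ hz₀' hgen m u hm hpm hu
    haveI := Groth.Agent.Lib.R2H1.EtRamAS.finiteDimensional ξ'' z₀ hz₀' hgen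
    haveI := Groth.Agent.Lib.R2H1.EtRamAS.isGalois ξ'' z₀ hz₀' hgen
    refine ⟨(asPoly p ξ'').SplittingField, inferInstance, inferInstance, inferInstance,
      inferInstance, ?_, z₀ + algebraMap K _ y, 0, ?_⟩
    · rw [← IsScalarTower.algebraMap_eq A K (asPoly p ξ'').SplittingField]
      exact hcase.1
    rw [add_pow_char, map_zero, sub_zero]
    have h5 : algebraMap K (asPoly p ξ'').SplittingField ξA =
        algebraMap K (asPoly p ξ'').SplittingField ξ'' +
          ((algebraMap K (asPoly p ξ'').SplittingField y) ^ p -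
            algebraMap K (asPoly p ξ'').SplittingField y) := by
      rw [← map_pow, ← map_sub, ← map_add, hξ'']
      congr 1
      ring
    rw [h5, ← hz₀']
    ring

end ASK2

end Part10

section Part11

open Polynomial IsLocalRing Ideal TensorProduct
open Groth.Agent.Lib.R2H1.EtRam Groth.Agent.Lib.R2H1.EtRamPI Groth.Agent.Lib.R2H1.EtRamAS
open scoped Classical IntermediateField

section NoBad

variable (p : ℕ) [hp : Fact p.Prime] (A B C K L M : Type u)
    [CommRing A] [IsDomain A] [IsDiscreteValuationRing A] [CommRing B] [IsDomain B]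
    [IsDiscreteValuationRing B]
    [CommRing C] [IsDomain C] [IsDiscreteValuationRing C]
    [Algebra A B] [Algebra B C] [Algebra A C] [IsScalarTower A B C]
    [IsLocalHom (algebraMap A B)] [IsLocalHom (algebraMap B C)]
    [Field K] [Field L] [Field M] [Algebra A K] [IsFractionRing A K] [Algebra B L]
    [IsFractionRing B L]
    [Algebra C M] [IsFractionRing C M] [Algebra K L] [Algebra L M] [Algebra K M]
    [IsScalarTower K L M]
    [Algebra A L] [IsScalarTower A K L] [IsScalarTower A B L] [Algebra B M] [IsScalarTower B L M]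
    [IsScalarTower B C M]
    [Algebra A M] [IsScalarTower A K M] [IsScalarTower A C M]
    (hw : EtRam.IsWeaklyUnramified A B) [CharP K p]
    (K₂ : Type u) [Field K₂] [Algebra K K₂]
    (M' : Type u) [Field M'] [Algebra K M'] [Algebra M M'] [Algebra K₂ M'] [IsScalarTower K M M']
    [IsScalarTower K K₂ M']

include hw in
set_option maxHeartbeats 1600000 in
theorem nobad_core [FiniteDimensional K K₂] [Algebra.IsSeparable K K₂]
    (htot : EtRam.IsTotallyRamified A ((algebraMap K K₂).comp (algebraMap A K)))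
    (z₁ : K₂) (a : A) (ξA : K) (hz₁ : z₁ ^ p - z₁ = algebraMap K K₂ (ξA - algebraMap A K a))
    (ξ : L) (z : M) (hz : z ^ p - z = algebraMap L M ξ)
    (hzgen : Algebra.adjoin L {z} = ⊤)
    (y₀ : L) (b₀ : B)
    (hNF : ξ = (y₀ ^ p - y₀) + algebraMap K L ξA + algebraMap B L b₀)
    (hgen : Algebra.adjoin M (Set.range (algebraMap K₂ M')) = ⊤)
    (W : ValuationSubring M')
    (hdom : EtRam.Dominates C ((algebraMap M M').comp (algebraMap C M)) W) :
    (letI : Algebra (W.comap (algebraMap K₂ M')) W :=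
      (EtRam.inclOfComap W (algebraMap K₂ M')).toAlgebra
    EtRam.IsWeaklyUnramified (W.comap (algebraMap K₂ M')) W) := by
  have hp0 : 0 < p := hp.out.pos
  letI algLM' : Algebra L M' := ((algebraMap M M').comp (algebraMap L M)).toAlgebra
  letI algBM' : Algebra B M' := ((algebraMap M M').comp (algebraMap B M)).toAlgebra
  letI algAM' : Algebra A M' := ((algebraMap K M').comp (algebraMap A K)).toAlgebra
  haveI : IsScalarTower L M M' := IsScalarTower.of_algebraMap_eq (fun _ => rfl)
  haveI : IsScalarTower B M M' := IsScalarTower.of_algebraMap_eq (fun _ => rfl)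
  haveI : IsScalarTower A K M' := IsScalarTower.of_algebraMap_eq (fun _ => rfl)
  haveI : IsScalarTower B L M' := IsScalarTower.of_algebraMap_eq (fun b => by
    show algebraMap M M' (algebraMap B M b) = algebraMap M M' (algebraMap L M (algebraMap B L b))
    rw [← IsScalarTower.algebraMap_apply B L M])
  haveI : IsScalarTower K L M' := IsScalarTower.of_algebraMap_eq (fun k => by
    show algebraMap K M' k = algebraMap M M' (algebraMap L M (algebraMap K L k))
    rw [← IsScalarTower.algebraMap_apply K L M, ← IsScalarTower.algebraMap_apply K M M'])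
  haveI : IsScalarTower A L M' := IsScalarTower.of_algebraMap_eq (fun a => by
    show algebraMap K M' (algebraMap A K a) = algebraMap L M' (algebraMap A L a)
    rw [IsScalarTower.algebraMap_apply A K L, ← IsScalarTower.algebraMap_apply K L M'])
  have hAB : ∀ a : A, algebraMap A M' a = algebraMap B M' (algebraMap A B a) := by
    intro a
    rw [IsScalarTower.algebraMap_apply A L M', IsScalarTower.algebraMap_apply A B L,
      ← IsScalarTower.algebraMap_apply B L M']
  haveI hcL : CharP L p := charP_of_injective_algebraMap (algebraMap K L).injective p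
  haveI : CharP M' p := charP_of_injective_algebraMap (algebraMap L M').injective p
  -- domination for `B`
  have hBM' : ∀ b : B, algebraMap B M' b =
      ((algebraMap M M').comp (algebraMap C M)) (algebraMap B C b) := fun b => by
    show algebraMap M M' (algebraMap B M b) = algebraMap M M' (algebraMap C M (algebraMap B C b))
    rw [← IsScalarTower.algebraMap_apply B C M]
  have hdomB : EtRam.Dominates B (algebraMap B M') W := by
    refine ⟨fun b => ?_, fun b hb => ?_⟩
    · rw [hBM']; exact hdom.1 _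
    · rw [hBM']
      apply hdom.2
      rw [mem_maximalIdeal, mem_nonunits_iff] at hb ⊢
      exact fun hu => hb (isUnit_of_map_unit (algebraMap B C) b hu)
  -- the element `z'`
  set z' : M' := algebraMap M M' z - algebraMap L M' y₀ - algebraMap K₂ M' z₁ with hz'
  have hz'eq : z' ^ p - z' = algebraMap L M' (algebraMap B L (b₀ + algebraMap A B a)) := by
    have h1 : (algebraMap M M' z) ^ p - algebraMap M M' z = algebraMap L M' ξ := by
      rw [← map_pow, ← map_sub, hz]; rfl
    have h2 : (algebraMap K₂ M' z₁) ^ p - algebraMap K₂ M' z₁ =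
        algebraMap L M' (algebraMap K L ξA) - algebraMap B M' (algebraMap A B a) := by
      rw [← map_pow, ← map_sub, hz₁, ← IsScalarTower.algebraMap_apply K K₂ M', map_sub,
        IsScalarTower.algebraMap_apply K L M', ← IsScalarTower.algebraMap_apply A K M', hAB]
    rw [hz', sub_pow_char, sub_pow_char, ← IsScalarTower.algebraMap_apply B L M', map_add]
    have h3 : algebraMap L M' ξ = ((algebraMap L M' y₀) ^ p - algebraMap L M' y₀) +
        algebraMap L M' (algebraMap K L ξA) + algebraMap B M' b₀ := by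
      rw [hNF, map_add, map_add, map_sub, map_pow, ← IsScalarTower.algebraMap_apply B L M']
    linear_combination h1 + h3 - h2
  -- the intermediate field `L' = L(z')`
  have hz''eq : (IntermediateField.AdjoinSimple.gen L z') ^ p - IntermediateField.AdjoinSimple.gen L z' =
      algebraMap L L⟮z'⟯ (algebraMap B L (b₀ + algebraMap A B a)) := by
    apply Subtype.ext
    exact hz'eq
  have hgen'' : IntermediateField.adjoin L {IntermediateField.AdjoinSimple.gen L z'} = ⊤ := by
    apply IntermediateField.lift_injective L⟮z'⟯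
    rw [IntermediateField.lift_adjoin_simple, IntermediateField.lift_top]
    rfl
  haveI hfinL' : FiniteDimensional L L⟮z'⟯ :=
    Groth.Agent.Lib.R2H1.EtRamAS.finiteDimensional (p := p) _ _ hz''eq hgen''
  haveI hgalL' : IsGalois L L⟮z'⟯ :=
    Groth.Agent.Lib.R2H1.EtRamAS.isGalois (p := p) _ _ hz''eq hgen''
  haveI towerBL'M' : IsScalarTower B L⟮z'⟯ M' := IsScalarTower.of_algebraMap_eq (fun _ => rfl)
  haveI towerAL'M' : IsScalarTower A L⟮z'⟯ M' := IsScalarTower.of_algebraMap_eq (fun _ => rfl)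
  haveI towerKL'M' : IsScalarTower K L⟮z'⟯ M' := IsScalarTower.of_algebraMap_eq (fun _ => rfl)
  haveI towerAKL' : IsScalarTower A K L⟮z'⟯ := IsScalarTower.of_algebraMap_eq (fun a => by
    apply Subtype.ext
    exact IsScalarTower.algebraMap_apply A K M' a)
  have hdomV : EtRam.Dominates B (algebraMap B L⟮z'⟯) (W.comap (algebraMap L⟮z'⟯ M')) := by
    apply dominates_comap
    have : (algebraMap L⟮z'⟯ M').comp (algebraMap B L⟮z'⟯) = algebraMap B M' :=
      RingHom.ext (fun _ => rfl)
    rw [this]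
    exact hdomB
  haveI hdvrV : IsDiscreteValuationRing (W.comap (algebraMap L⟮z'⟯ M')) :=
    isDiscreteValuationRing_of_dominates B L L⟮z'⟯ _ hdomV
  -- `B → V` is weakly unramified
  letI algBV : Algebra B (W.comap (algebraMap L⟮z'⟯ M')) :=
    (RingHom.codRestrict (algebraMap B L⟮z'⟯) (W.comap (algebraMap L⟮z'⟯ M')) hdomV.1).toAlgebra
  haveI locBV : IsLocalHom (algebraMap B (W.comap (algebraMap L⟮z'⟯ M'))) :=
    isLocalHom_codRestrict _ _ hdomV
  have hBV : EtRam.IsWeaklyUnramified B (W.comap (algebraMap L⟮z'⟯ M')) :=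
    (caseA_unram p B L L⟮z'⟯ _ _ hz''eq hgen'' (W.comap (algebraMap L⟮z'⟯ M')) hdomV
      (b₀ + algebraMap A B a) rfl).1
  -- `A → V`
  have hAV : ∀ a : A, algebraMap A L⟮z'⟯ a ∈ W.comap (algebraMap L⟮z'⟯ M') := by
    intro a
    show algebraMap A M' a ∈ W
    rw [hAB]; exact hdomB.1 _
  letI algAV : Algebra A (W.comap (algebraMap L⟮z'⟯ M')) :=
    (RingHom.codRestrict (algebraMap A L⟮z'⟯) (W.comap (algebraMap L⟮z'⟯ M')) hAV).toAlgebra
  haveI towerABV : IsScalarTower A B (W.comap (algebraMap L⟮z'⟯ M')) :=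
    IsScalarTower.of_algebraMap_eq (fun a => by
      apply Subtype.ext
      apply Subtype.ext
      exact hAB a)
  haveI locAV : IsLocalHom (algebraMap A (W.comap (algebraMap L⟮z'⟯ M'))) := by
    rw [IsScalarTower.algebraMap_eq A B (W.comap (algebraMap L⟮z'⟯ M'))]
    exact RingHom.isLocalHom_comp _ _
  haveI towerAVL' : IsScalarTower A (W.comap (algebraMap L⟮z'⟯ M')) L⟮z'⟯ :=
    IsScalarTower.of_algebraMap_eq (fun _ => rfl)
  have hAVw : EtRam.IsWeaklyUnramified A (W.comap (algebraMap L⟮z'⟯ M')) := by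
    unfold EtRam.IsWeaklyUnramified at hw hBV ⊢
    rw [IsScalarTower.algebraMap_eq A B (W.comap (algebraMap L⟮z'⟯ M')), ← Ideal.map_map, hw, hBV]
  -- `M'` is generated over `L'` by `K₂`
  have hgen' : Algebra.adjoin L⟮z'⟯ (Set.range (algebraMap K₂ M')) = ⊤ := by
    rw [eq_top_iff]
    intro x _
    have hzS : algebraMap M M' z ∈ Algebra.adjoin L⟮z'⟯ (Set.range (algebraMap K₂ M')) := by
      have e1 : algebraMap M M' z = algebraMap L⟮z'⟯ M' (IntermediateField.AdjoinSimple.gen L z') +
          algebraMap L⟮z'⟯ M' (algebraMap L L⟮z'⟯ y₀) + algebraMap K₂ M' z₁ := by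
        show _ = z' + algebraMap L M' y₀ + algebraMap K₂ M' z₁
        rw [hz']; ring
      rw [e1]
      exact Subalgebra.add_mem _ (Subalgebra.add_mem _ (Subalgebra.algebraMap_mem _ _)
        (Subalgebra.algebraMap_mem _ _)) (Algebra.subset_adjoin (Set.mem_range_self z₁))
    have hMS : ∀ m : M, algebraMap M M' m ∈ Algebra.adjoin L⟮z'⟯ (Set.range (algebraMap K₂ M')) := by
      intro m
      have hm : m ∈ Algebra.adjoin L {z} := by rw [hzgen]; exact Algebra.mem_top
      induction hm using Algebra.adjoin_induction with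
      | mem x hx =>
        rw [Set.mem_singleton_iff] at hx
        rw [hx]; exact hzS
      | algebraMap l =>
        have : algebraMap M M' (algebraMap L M l) = algebraMap L⟮z'⟯ M' (algebraMap L L⟮z'⟯ l) := rfl
        rw [this]
        exact Subalgebra.algebraMap_mem _ _
      | add x y _ _ hx hy => rw [map_add]; exact Subalgebra.add_mem _ hx hy
      | mul x y _ _ hx hy => rw [map_mul]; exact Subalgebra.mul_mem _ hx hy
    have hx : x ∈ Algebra.adjoin M (Set.range (algebraMap K₂ M')) := by
      rw [hgen]; exact Algebra.mem_top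
    induction hx using Algebra.adjoin_induction with
    | mem x hx => exact Algebra.subset_adjoin hx
    | algebraMap m => exact hMS m
    | add x y _ _ hx hy => exact Subalgebra.add_mem _ (hx trivial) (hy trivial)
    | mul x y _ _ hx hy => exact Subalgebra.mul_mem _ (hx trivial) (hy trivial)
  have hdomV' : EtRam.Dominates (W.comap (algebraMap L⟮z'⟯ M'))
      ((algebraMap L⟮z'⟯ M').comp (algebraMap (W.comap (algebraMap L⟮z'⟯ M')) L⟮z'⟯)) W := by
    refine ⟨fun v => v.2, fun v hv => ?_⟩
    exact (Groth.Agent.Lib.R2H1.EtRamTower.mem_maximalIdeal_comap_iff W (algebraMap L⟮z'⟯ M') v).mp hv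
  exact (Groth.Agent.Lib.R2H1.EtRamTotRam.local_ext_totRam A (W.comap (algebraMap L⟮z'⟯ M')) K L⟮z'⟯
    K₂ M' hAVw htot hgen' W hdomV').1

end NoBad

end Part11

section Part12

open Polynomial IsLocalRing Ideal TensorProduct
open Groth.Agent.Lib.R2H1.EtRam Groth.Agent.Lib.R2H1.EtRamPI Groth.Agent.Lib.R2H1.EtRamAS
open scoped Classical IntermediateField

section Main

set_option maxHeartbeats 1600000 in
/-- statement S7155 -/
theorem main (p : ℕ) (hp : p.Prime) (A B C K L M : Type u)
    [CommRing A] [IsDomain A] [IsDiscreteValuationRing A] [CommRing B] [IsDomain B] [IsDiscreteValuationRing B]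
    [CommRing C] [IsDomain C] [IsDiscreteValuationRing C]
    [Algebra A B] [Algebra B C] [Algebra A C] [IsScalarTower A B C]
    (hAB : Function.Injective (algebraMap A B)) (hBC : Function.Injective (algebraMap B C))
    [IsLocalHom (algebraMap A B)] [IsLocalHom (algebraMap B C)]
    [Field K] [Field L] [Field M] [Algebra A K] [IsFractionRing A K] [Algebra B L] [IsFractionRing B L]
    [Algebra C M] [IsFractionRing C M] [Algebra K L] [Algebra L M] [Algebra K M] [IsScalarTower K L M]
    [Algebra A L] [IsScalarTower A K L] [IsScalarTower A B L] [Algebra B M] [IsScalarTower B L M] [IsScalarTower B C M]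
    [Algebra A M] [IsScalarTower A K M] [IsScalarTower A C M]
    (hw : EtRam.IsWeaklyUnramified A B) [CharP K p] [IsGalois L M] (hdeg : Module.finrank L M = p)
    (hk : ∀ x : IsLocalRing.ResidueField B, (∀ n : ℕ, ∃ y : IsLocalRing.ResidueField B, y ^ (p ^ n) = x) ↔
      x ∈ Set.range (algebraMap (IsLocalRing.ResidueField A) (IsLocalRing.ResidueField B))) :
    ∃ (K₁ : Type u) (_ : Field K₁) (_ : Algebra K K₁), FiniteDimensional K K₁ ∧ Algebra.IsSeparable K K₁ ∧
      EtRam.IsTotallyRamified A ((algebraMap K K₁).comp (algebraMap A K)) ∧ EtRam.IsWeakSolution C K M K₁ := by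
  haveI : Fact p.Prime := ⟨hp⟩
  obtain ⟨π, hπirr⟩ := IsDiscreteValuationRing.exists_irreducible A
  have hπ : maximalIdeal A = Ideal.span {π} := hπirr.maximalIdeal_eq
  have hπB : maximalIdeal B = Ideal.span {algebraMap A B π} := by
    have h1 : (maximalIdeal A).map (algebraMap A B) = maximalIdeal B := hw
    rw [← h1, hπ, Ideal.map_span, Set.image_singleton]
  haveI hcL : CharP L p := charP_of_injective_algebraMap (algebraMap K L).injective p
  haveI hcκB : CharP (IsLocalRing.ResidueField B) p := charP_residue p B L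
  haveI hcκA : CharP (IsLocalRing.ResidueField A) p := charP_residue p A K
  haveI : FiniteDimensional L M := by
    apply Module.finite_of_finrank_pos
    rw [hdeg]; exact hp.pos
  -- the Artin--Schreier generator
  obtain ⟨z, ⟨ξ, hξ⟩, hzgen⟩ :=
    Groth.Agent.Lib.Helper29.Fields.artin_schreier_generator (K := L) (L := M) p hdeg
  have hz : z ^ p - z = algebraMap L M ξ := hξ.symm
  have hzgen' : Algebra.adjoin L {z} = ⊤ :=
    Groth.Agent.Lib.R2H1.EtRamAS.adjoin_eq_top (p := p) ξ z hz hzgen
  -- the normal form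
  obtain ⟨n, c, hc⟩ := exists_pole B L (algebraMap A B π) hπB ξ
  obtain ⟨y₀, ξA, T, b₀, h1, h2, h3, h4⟩ := exists_NF p A B K L π hk hπ hπB n ξ c
    (by rw [IsScalarTower.algebraMap_apply A B L]; exact hc)
  by_cases hT : T.Nonempty
  · -- a bad level exists
    have hn : 1 ≤ n := by
      obtain ⟨t, ht⟩ := hT
      have := h3 t ht
      omega
    obtain ⟨N, hN⟩ := exists_N p hp T (fun t => t.2.1) n
    obtain ⟨K₁, instF, instAlgK, instAlgA, instTower, hK₁, hsep, htot, π₁, b, b', hπ₁int, hbint,
      hb'int, hπ₁, -⟩ :=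
      Groth.Agent.Lib.R2H1.EtRamEis.exists_totRam p hp A K π hπ (n + 1) (by omega) N
    have htot' : EtRam.IsTotallyRamified A ((algebraMap K K₁).comp (algebraMap A K)) := by
      rw [← IsScalarTower.algebraMap_eq A K K₁]; exact htot
    have hfin : FiniteDimensional K K₁ := by
      apply Module.finite_of_finrank_pos
      rw [hK₁]; exact pow_pos hp.pos _
    refine ⟨K₁, instF, instAlgK, hfin, hsep, htot', ?_⟩
    intro M' _ _ _ _ _ _ hgen W hdom
    exact bad_core p A B C K L M π hπ hw hdeg hk K₁ M' N n hn hK₁ π₁ b hbint hπ₁ ξ z hz y₀ ξA T b₀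
      h1 h2 h3 h4 hT hN hgen W hdom
  · -- no bad level
    rw [Finset.not_nonempty_iff_eq_empty] at hT
    subst hT
    have hdec1 : ∀ a : A, ∃ e a' : A, a = e ^ p + π * a' := fun a => by
      have := exists_pow_add p A B hk π hπ a 1
      rwa [pow_one] at this
    obtain ⟨K₂, instF, instAlg, hfin, hsep, htot, z₁, a, hz₁⟩ := exists_AS_ext p A K π hπ hdec1 ξA
    refine ⟨K₂, instF, instAlg, hfin, hsep, htot, ?_⟩
    intro M' _ _ _ _ _ _ hgen W hdom
    have h1' : ξ = (y₀ ^ p - y₀) + algebraMap K L ξA + algebraMap B L b₀ := by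
      rw [h1]
      simp [badSum]
    exact nobad_core p A B C K L M hw K₂ M' htot z₁ a ξA hz₁ ξ z hz hzgen' y₀ b₀ h1' hgen W hdom

end Main

end Part12

end Groth.Agent.Lib.R2H1.EtRamGalP
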