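import Mathlib
import Groth.Prelude.Def_EtRam
import Groth.Agent.Lib.R2H1EtRam
import Groth.Agent.Lib.R2H1EtRamTower
import Groth.Agent.Lib.R2H1EtRamSmooth
import Groth.Agent.Lib.R2H1EtRamAbh
import Groth.Agent.Lib.R2H1EtRamTotRam
import Groth.Agent.Lib.Helper14GeomRed
import Groth.Agent.Lib.R2H1EtRamBC
import Groth.Agent.Lib.R2H1EtRamBCTame

/-!
# Tame extensions become unramified after adjoining a root of the uniformiser (helper1, run 2)

* `root_pow`, `exists_decomp`, `maximal_eq`, `isLocalRing'`, `maximalIdeal_eq'`, `isLocalHom'`,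
  `residue_surjective'`: the ring `A[z]/(z^e - π)` over a local domain `A` with `m_A = (π)`.
* `tame_core'`: `EtRamBCTame.tame_core` with the uniformiser of `W` made explicit.
* `unram_over_root`: if `L/K` is tame w.r.t. `A` with all ramification indices dividing `e`, then
  `L' = L[z]` is unramified over `A[z]/(z^e - π)`.
* `exists_unram_over_root`: construction of `L'` as `AdjoinRoot q`, `q ∣ X^e - π` irreducible over `L`.
* `ramIdx_facts`, `exists_e₀`, `tame_root_uniform` (statement S9329).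
-/

set_option autoImplicit false
set_option linter.unusedSectionVars false
set_option linter.style.haveILetI false

universe u

namespace Groth.Agent.Lib.R2H1.EtRamRoot

section
open IsLocalRing TensorProduct Polynomial Groth.Agent.Lib.R2H1.EtRamTower Groth.Agent.Lib.R2H1.EtRam
  Groth.Agent.Lib.R2H1.EtRamSmooth Groth.Agent.Lib.R2H1.EtRamAbh Groth.Agent.Lib.R2H1.EtRamBCTame
section AdjRoot

variable {A : Type u} [CommRing A] [IsDomain A] [IsLocalRing A]
  (π : A) (hπ : maximalIdeal A = Ideal.span {π}) (e : ℕ) (he : 0 < e)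

theorem root_pow : (AdjoinRoot.root (X ^ e - C π : A[X])) ^ e =
    algebraMap A (AdjoinRoot (X ^ e - C π : A[X])) π := by
  have := AdjoinRoot.eval₂_root (X ^ e - C π : A[X])
  rw [eval₂_sub, eval₂_X_pow, eval₂_C, sub_eq_zero] at this
  rw [AdjoinRoot.algebraMap_eq]; exact this

theorem exists_decomp (x : AdjoinRoot (X ^ e - C π : A[X])) :
    ∃ (a : A) (y : AdjoinRoot (X ^ e - C π : A[X])),
      x = algebraMap A _ a + AdjoinRoot.root (X ^ e - C π : A[X]) * y := by
  obtain ⟨p, rfl⟩ := AdjoinRoot.mk_surjective x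
  refine ⟨p.coeff 0, aeval (AdjoinRoot.root (X ^ e - C π : A[X])) p.divX, ?_⟩
  rw [← AdjoinRoot.aeval_eq]
  conv_lhs => rw [← divX_mul_X_add p]
  rw [map_add, map_mul, aeval_X, aeval_C, add_comm, mul_comm]

include he in
theorem monic' : (X ^ e - C π : A[X]).Monic := monic_X_pow_sub_C π he.ne'

include he in
theorem finite' : Module.Finite A (AdjoinRoot (X ^ e - C π : A[X])) :=
  (monic' π e he).finite_adjoinRoot

include he in
theorem nontrivial' : Nontrivial (AdjoinRoot (X ^ e - C π : A[X])) := by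
  apply AdjoinRoot.nontrivial
  rw [degree_X_pow_sub_C he π]
  exact_mod_cast he.ne'

include hπ he in
theorem mem_of_isMaximal (Q : Ideal (AdjoinRoot (X ^ e - C π : A[X]))) [Q.IsMaximal] :
    AdjoinRoot.root (X ^ e - C π : A[X]) ∈ Q ∧
      Q.comap (algebraMap A (AdjoinRoot (X ^ e - C π : A[X]))) = maximalIdeal A := by
  haveI := finite' π e he
  haveI : Algebra.IsIntegral A (AdjoinRoot (X ^ e - C π : A[X])) := Algebra.IsIntegral.of_finite A _
  have h1 : (Q.comap (algebraMap A (AdjoinRoot (X ^ e - C π : A[X])))).IsMaximal :=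
    Ideal.isMaximal_comap_of_isIntegral_of_isMaximal Q
  have h2 : Q.comap (algebraMap A (AdjoinRoot (X ^ e - C π : A[X]))) = maximalIdeal A :=
    IsLocalRing.eq_maximalIdeal h1
  refine ⟨?_, h2⟩
  have h3 : π ∈ Q.comap (algebraMap A (AdjoinRoot (X ^ e - C π : A[X]))) := by
    rw [h2, hπ]; exact Ideal.mem_span_singleton_self π
  have h4 : (AdjoinRoot.root (X ^ e - C π : A[X])) ^ e ∈ Q := by rw [root_pow]; exact h3
  exact (Ideal.IsMaximal.isPrime inferInstance).mem_of_pow_mem e h4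

include hπ he in
theorem maximal_eq (Q : Ideal (AdjoinRoot (X ^ e - C π : A[X]))) [Q.IsMaximal] :
    Q = Ideal.span {AdjoinRoot.root (X ^ e - C π : A[X])} := by
  obtain ⟨h1, h2⟩ := mem_of_isMaximal π hπ e he Q
  apply le_antisymm
  · intro x hx
    obtain ⟨a, y, rfl⟩ := exists_decomp π e x
    have ha : algebraMap A _ a ∈ Q := by
      have : AdjoinRoot.root (X ^ e - C π : A[X]) * y ∈ Q := Q.mul_mem_right _ h1
      exact (Ideal.add_mem_iff_left Q this).mp hx
    have ha' : a ∈ maximalIdeal A := by rw [← h2]; exact ha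
    rw [hπ, Ideal.mem_span_singleton] at ha'
    obtain ⟨b, rfl⟩ := ha'
    refine Ideal.add_mem _ ?_ (Ideal.mul_mem_right _ _ (Ideal.mem_span_singleton_self _))
    rw [map_mul, ← root_pow]
    exact Ideal.mul_mem_right _ _
      (Ideal.pow_mem_of_mem _ (Ideal.mem_span_singleton_self _) e he)
  · rw [Ideal.span_singleton_le_iff_mem]; exact h1

include hπ he in
theorem isLocalRing' : IsLocalRing (AdjoinRoot (X ^ e - C π : A[X])) := by
  haveI := nontrivial' π e he
  obtain ⟨Q, hQ⟩ := Ideal.exists_maximal (AdjoinRoot (X ^ e - C π : A[X]))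
  refine IsLocalRing.of_unique_max_ideal ⟨Q, hQ, fun Q' hQ' => ?_⟩
  haveI := hQ
  haveI := hQ'
  rw [maximal_eq π hπ e he Q', maximal_eq π hπ e he Q]

include hπ he in
theorem maximalIdeal_eq' [IsLocalRing (AdjoinRoot (X ^ e - C π : A[X]))] :
    maximalIdeal (AdjoinRoot (X ^ e - C π : A[X])) =
      Ideal.span {AdjoinRoot.root (X ^ e - C π : A[X])} :=
  maximal_eq π hπ e he (maximalIdeal _)

include hπ he in
theorem isLocalHom' [IsLocalRing (AdjoinRoot (X ^ e - C π : A[X]))] :
    IsLocalHom (algebraMap A (AdjoinRoot (X ^ e - C π : A[X]))) := by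
  constructor
  intro a ha
  by_contra hna
  have hm : a ∈ maximalIdeal A := (mem_maximalIdeal a).mpr hna
  have h2 := (mem_of_isMaximal π hπ e he (maximalIdeal _)).2
  rw [← h2] at hm
  exact (mem_maximalIdeal _).mp hm ha

include hπ he in
theorem residue_surjective' [IsLocalRing (AdjoinRoot (X ^ e - C π : A[X]))]
    (x : ResidueField (AdjoinRoot (X ^ e - C π : A[X]))) :
    ∃ a : A, x = residue _ (algebraMap A (AdjoinRoot (X ^ e - C π : A[X])) a) := by
  obtain ⟨x, rfl⟩ := residue_surjective x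
  obtain ⟨a, y, rfl⟩ := exists_decomp π e x
  refine ⟨a, ?_⟩
  rw [map_add, add_eq_left, residue_eq_zero_iff, maximalIdeal_eq' π hπ e he]
  exact Ideal.mul_mem_right _ _ (Ideal.mem_span_singleton_self _)

end AdjRoot

end

section
open IsLocalRing TensorProduct Polynomial Groth.Agent.Lib.R2H1.EtRamTower Groth.Agent.Lib.R2H1.EtRam
  Groth.Agent.Lib.R2H1.EtRamSmooth Groth.Agent.Lib.R2H1.EtRamAbh Groth.Agent.Lib.R2H1.EtRamBCTame
section Core

variable {A B K₁ M : Type u} [CommRing A] [IsLocalRing A] [CommRing B] [IsLocalRing B]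
  [Algebra A B] [IsLocalHom (algebraMap A B)] [Field K₁] [Field M]
  (f : K₁ →+* M) (W : ValuationSubring M)
  [Algebra A (W.comap f)] [IsLocalHom (algebraMap A (W.comap f))]
  (g : B →+* M)
  (hcompat : ∀ a : A, f ((algebraMap A (W.comap f) a : W.comap f) : K₁) = g (algebraMap A B a))

theorem tame_core' (hgW : ∀ b, g b ∈ W) (π : A)
    (π₁ : W.comap f) (hπ₁ : maximalIdeal (W.comap f) = Ideal.span {π₁}) (hπ₁0 : (π₁ : K₁) ≠ 0)
    (ϖ : B) (hϖ : maximalIdeal B = Ideal.span {ϖ}) (hϖ0 : g ϖ ≠ 0)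
    (u₁ : (W.comap f)ˣ) (u : Bˣ) (e₁ e₂ : ℕ) (he₁ : e₁ ≠ 0) (he₂ : e₂ ≠ 0)
    (hu₁ : algebraMap A (W.comap f) π = u₁ * π₁ ^ e₁)
    (hu : algebraMap A B π = u * ϖ ^ e₂)
    (he₁A : (e₁ : ResidueField A) ≠ 0)
    [Algebra.IsSeparable (ResidueField A) (ResidueField (W.comap f))]
    (hsepB : ∀ w : M, w ≠ 0 → ∃ j : ℕ, W.valuation (g ϖ) ^ j ≤ W.valuation w)
    (hgen : ∀ m : M, ∃ x y : (W.comap f) ⊗[A] B, theta f W g hcompat y ≠ 0 ∧
      m = theta f W g hcompat x / theta f W g hcompat y)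
    [Algebra B W] [IsLocalHom (algebraMap B W)]
    (hgW' : ∀ b, ((algebraMap B W b : W) : M) = g b) :
    ∃ (τ' : W) (uu : Wˣ), maximalIdeal W = Ideal.span {τ'} ∧ τ' ≠ 0 ∧
      algebraMap B W ϖ = uu * τ' ^ (e₁ / Nat.gcd e₁ e₂) ∧
      Algebra.IsSeparable (ResidueField B) (ResidueField W) := by
  classical
  set th := theta f W g hcompat with hth
  have hthW : ∀ s, th s ∈ W := theta_mem f W g hcompat hgW
  set x : M := f (π₁ : K₁) with hx
  set y : M := g ϖ with hy
  have hx0 : x ≠ 0 := fun h => hπ₁0 ((map_eq_zero f).mp h)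
  have hy0 : y ≠ 0 := hϖ0
  -- arithmetic
  set d := Nat.gcd e₁ e₂ with hd
  have hdpos : 0 < d := Nat.gcd_pos_of_pos_left _ (Nat.pos_of_ne_zero he₁)
  have hd0 : d ≠ 0 := hdpos.ne'
  set m := e₁ / d with hm
  set k := e₂ / d with hk
  have he₁' : e₁ = d * m := (Nat.mul_div_cancel' (Nat.gcd_dvd_left e₁ e₂)).symm
  have he₂' : e₂ = d * k := (Nat.mul_div_cancel' (Nat.gcd_dvd_right e₁ e₂)).symm
  have hm0 : m ≠ 0 := by
    intro h; rw [h, mul_zero] at he₁'; exact he₁ he₁'
  have hk0 : k ≠ 0 := by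
    intro h; rw [h, mul_zero] at he₂'; exact he₂ he₂'
  have hcop : Nat.Coprime m k := Nat.coprime_div_gcd_div_gcd hdpos
  obtain ⟨s, t, hst⟩ := exists_bezout_nat m k hm0 hk0 hcop
  set θ : M := x ^ m / y ^ k with hθ
  set τ : M := y ^ s / x ^ t with hτ
  -- units
  have hfu₁ : f ((u₁ : W.comap f) : K₁) *
      f (((u₁⁻¹ : (W.comap f)ˣ) : W.comap f) : K₁) = 1 := by
    rw [← map_mul]
    have h1 : ((u₁ : W.comap f) * ((u₁⁻¹ : (W.comap f)ˣ) : W.comap f)) = 1 := Units.mul_inv u₁
    have h2 := congrArg (fun x : W.comap f => (x : K₁)) h1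
    simp only [MulMemClass.coe_mul, OneMemClass.coe_one] at h2
    rw [h2, map_one]
  have hgu : g (u : B) * g ((u⁻¹ : Bˣ) : B) = 1 := by rw [← map_mul, Units.mul_inv, map_one]
  have hrel : f ((u₁ : W.comap f) : K₁) * x ^ e₁ = g (u : B) * y ^ e₂ := by
    have h1 : f ((algebraMap A (W.comap f) π : W.comap f) : K₁) =
        f ((u₁ : W.comap f) : K₁) * x ^ e₁ := by
      rw [hu₁, MulMemClass.coe_mul, SubmonoidClass.coe_pow, map_mul, map_pow]
    have h2 : g (algebraMap A B π) = g (u : B) * y ^ e₂ := by rw [hu, map_mul, map_pow]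
    rw [← h1, ← h2]; exact hcompat π
  have hθd : θ ^ d = f (((u₁⁻¹ : (W.comap f)ˣ) : W.comap f) : K₁) * g (u : B) := by
    rw [hθ, div_pow, ← pow_mul, ← pow_mul, mul_comm m d, mul_comm k d, ← he₁', ← he₂',
      div_eq_iff (pow_ne_zero _ hy0)]
    calc x ^ e₁ = (f ((u₁ : W.comap f) : K₁) *
          f (((u₁⁻¹ : (W.comap f)ˣ) : W.comap f) : K₁)) * x ^ e₁ := by rw [hfu₁, one_mul]
      _ = f (((u₁⁻¹ : (W.comap f)ˣ) : W.comap f) : K₁) *
          (f ((u₁ : W.comap f) : K₁) * x ^ e₁) := by ring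
      _ = _ := by rw [hrel]; ring
  have hvu₁ : W.valuation (f (((u₁⁻¹ : (W.comap f)ˣ) : W.comap f) : K₁)) = 1 := by
    refine val_eq_one_of_mul_eq_one W _ (f ((u₁ : W.comap f) : K₁))
      (((u₁⁻¹ : (W.comap f)ˣ) : W.comap f)).2 ((u₁ : W.comap f)).2 ?_
    rw [mul_comm]; exact hfu₁
  have hvu : W.valuation (g (u : B)) = 1 :=
    val_eq_one_of_mul_eq_one W _ (g ((u⁻¹ : Bˣ) : B)) (hgW _) (hgW _) hgu
  have hvθ : W.valuation θ = 1 := by
    apply val_eq_one_of_pow_eq_one W θ d hd0
    rw [← map_pow, hθd, map_mul, hvu₁, hvu, one_mul]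
  have hθW : θ ∈ W := (W.valuation_le_one_iff _).mp hvθ.le
  have hθ0 : θ ≠ 0 := by
    intro h; rw [h, map_zero] at hvθ; exact zero_ne_one hvθ
  -- the relations
  have hxτ : x = τ ^ k * θ ^ s := by
    rw [hτ, hθ, div_pow, div_pow, ← pow_mul, ← pow_mul, ← pow_mul, ← pow_mul, div_mul_div_comm,
      eq_div_iff (mul_ne_zero (pow_ne_zero _ hx0) (pow_ne_zero _ hy0)),
      show m * s = t * k + 1 by rw [mul_comm]; exact hst, pow_succ, mul_comm k s]
    ring
  have hyτ : y = τ ^ m * θ ^ t := by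
    rw [hτ, hθ, div_pow, div_pow, ← pow_mul, ← pow_mul, ← pow_mul, ← pow_mul, div_mul_div_comm,
      eq_div_iff (mul_ne_zero (pow_ne_zero _ hx0) (pow_ne_zero _ hy0)),
      hst, pow_succ, mul_comm k t, mul_comm m t]
    ring
  have hτ0 : τ ≠ 0 := div_ne_zero (pow_ne_zero _ hy0) (pow_ne_zero _ hx0)
  have hϖm : ϖ ∈ maximalIdeal B := hϖ ▸ Ideal.mem_span_singleton_self ϖ
  have hvy : W.valuation y < 1 := by
    have h1 : algebraMap B W ϖ ∈ maximalIdeal W := by
      rw [mem_maximalIdeal, mem_nonunits_iff]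
      intro hunit
      exact (mem_maximalIdeal ϖ).mp hϖm (IsLocalHom.map_nonunit ϖ hunit)
    have h2 := (W.valuation_lt_one_iff _).mp h1
    rwa [hgW'] at h2
  have hvyτ : W.valuation y = W.valuation τ ^ m := by
    rw [hyτ, map_mul, map_pow, map_pow, hvθ, one_pow, mul_one]
  have hτ1 : W.valuation τ < 1 := by
    by_contra hge
    have h1 : 1 ≤ W.valuation τ := not_lt.mp hge
    have h2 : 1 ≤ W.valuation τ ^ m := one_le_pow₀ h1
    rw [← hvyτ] at h2
    exact absurd hvy (not_lt.mpr h2)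
  have hτW : τ ∈ W := (W.valuation_le_one_iff _).mp hτ1.le
  -- the data for abh_poly2
  have hth1 : th (π₁ ⊗ₜ[A] (1 : B)) = x := by
    rw [hth, theta_tmul, map_one, mul_one]
  have hth2 : th ((1 : W.comap f) ⊗ₜ[A] ϖ) = y := by
    rw [hth, theta_tmul, OneMemClass.coe_one, map_one, one_mul]
  set w : (W.comap f) ⊗[A] B :=
    (((u₁⁻¹ : (W.comap f)ˣ)) : W.comap f) ⊗ₜ[A] (u : B) with hw
  have hthw : th w = θ ^ d := by rw [hw, hth, theta_tmul, hθd]
  have hwu : IsUnit w := by
    refine IsUnit.of_mul_eq_one ((u₁ : W.comap f) ⊗ₜ[A] ((u⁻¹ : Bˣ) : B)) ?_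
    rw [hw, Algebra.TensorProduct.tmul_mul_tmul, Units.inv_mul, Units.mul_inv]
    rfl
  haveI : Nontrivial (ResidueField (W.comap f) ⊗[ResidueField A] ResidueField B) :=
    Algebra.TensorProduct.nontrivial_of_algebraMap_injective_of_isDomain _ _ _
      (RingHom.injective (algebraMap (ResidueField A) (ResidueField (W.comap f))))
      (RingHom.injective (algebraMap (ResidueField A) (ResidueField B)))
  have hdA : (d : ResidueField A) ≠ 0 := by
    intro h; apply he₁A; rw [he₁', Nat.cast_mul, h, zero_mul]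
  have hdu : IsUnit ((d : ℕ) : ResidueField (W.comap f) ⊗[ResidueField A] ResidueField B) := by
    have h1 : ((d : ℕ) : ResidueField (W.comap f) ⊗[ResidueField A] ResidueField B) =
        algebraMap (ResidueField A) _ (d : ResidueField A) := by
      rw [map_natCast]
    rw [h1]
    exact (IsUnit.mk0 _ hdA).map _
  haveI hTred : IsReduced (ResidueField (W.comap f) ⊗[ResidueField A] ResidueField B) :=
    Groth.Agent.Lib.Helper14.GeomRed.isReduced_tensor_of_isSeparable
  have hmax := forall_isMaximal_tensor (ResidueField A) (ResidueField (W.comap f)) (ResidueField B)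
  obtain ⟨hc1, hc2⟩ := abh_poly2 W th hthW (rho A (W.comap f) B)
    (rho_surjective A (W.comap f) B)
    (π₁ ⊗ₜ[A] (1 : B)) ((1 : W.comap f) ⊗ₜ[A] ϖ)
    (ker_rho_eq_span A (W.comap f) B π₁ hπ₁ ϖ hϖ) θ τ hvθ w d m k s t hd0 hm0 hk0 hthw
    (by rw [hth1]; exact hxτ) (by rw [hth2]; exact hyτ) (hwu.map _) hdu hmax hτ0 hτ1
    (by rw [hth2]; exact hsepB) hgen
  have hmaxW : maximalIdeal W = Ideal.span {(⟨τ, hτW⟩ : W)} := by
    apply le_antisymm
    · intro z hz
      have hz1 : W.valuation (z : M) < 1 := (W.valuation_lt_one_iff _).mp hz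
      obtain ⟨y', hy'W, hy'⟩ := hc1 _ hz1
      rw [Ideal.mem_span_singleton']
      exact ⟨⟨y', hy'W⟩, Subtype.ext (by rw [hy', mul_comm]; rfl)⟩
    · rw [Ideal.span_le, Set.singleton_subset_iff]
      exact (W.valuation_lt_one_iff _).mpr hτ1
  have hne : (⟨τ, hτW⟩ : W) ≠ 0 := fun h => hτ0 (congrArg Subtype.val h)
  have hθinvW : θ⁻¹ ∈ W := by
    rw [← W.valuation_le_one_iff, map_inv₀, hvθ, inv_one]
  let uθ : Wˣ := ⟨⟨θ, hθW⟩, ⟨θ⁻¹, hθinvW⟩, Subtype.ext (mul_inv_cancel₀ hθ0),
    Subtype.ext (inv_mul_cancel₀ hθ0)⟩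
  have hϖeq : algebraMap B W ϖ = ((uθ ^ t : Wˣ) : W) * (⟨τ, hτW⟩ : W) ^ m := by
    apply Subtype.ext
    rw [hgW', Units.val_pow_eq_pow_val]
    show y = θ ^ t * τ ^ m
    rw [hyτ]; ring
  refine ⟨⟨τ, hτW⟩, uθ ^ t, hmaxW, hne, hϖeq, ?_⟩
  · -- separability
    rw [← separableClosure.eq_top_iff, eq_top_iff]
    intro z _
    refine hc2 (separableClosure (ResidueField B) (ResidueField W)).toSubring ?_ ?_ z
    · intro s'
      exact residue_theta_mem_separableClosure f W g hcompat hgW hgW' s'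
    · set Sc := separableClosure (ResidueField B) (ResidueField W) with hSc
      set tbar : ResidueField W := residue W ⟨θ, hθW⟩ with htbar
      have hc : residue W ⟨th w, hthW w⟩ ∈ Sc :=
        residue_theta_mem_separableClosure f W g hcompat hgW hgW' w
      have htd : tbar ^ d = residue W ⟨th w, hthW w⟩ := by
        rw [htbar, ← map_pow]
        congr 1
        exact Subtype.ext hthw.symm
      have ht0 : tbar ≠ 0 := by
        rw [htbar, Ne, residue_eq_zero_iff, W.valuation_lt_one_iff]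
        show ¬ W.valuation θ < 1
        rw [hvθ]; exact lt_irrefl _
      have hc0 : (⟨residue W ⟨th w, hthW w⟩, hc⟩ : Sc) ≠ 0 := by
        intro h
        have h1 := congrArg Subtype.val h
        simp only at h1
        rw [← htd] at h1
        exact pow_ne_zero d ht0 h1
      have hdSc : ((d : ℕ) : Sc) ≠ 0 := by
        let φ : ResidueField A →+* Sc :=
          (algebraMap (ResidueField B) Sc).comp (algebraMap (ResidueField A) (ResidueField B))
        have h1 : ((d : ℕ) : Sc) = φ (d : ResidueField A) := by rw [map_natCast]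
        rw [h1]
        exact (map_ne_zero φ).mpr hdA
      have hq : (X ^ d - C (⟨residue W ⟨th w, hthW w⟩, hc⟩ : Sc) : Sc[X]).Separable :=
        separable_X_pow_sub_C _ hdSc hc0
      have haeval : Polynomial.aeval tbar
          (X ^ d - C (⟨residue W ⟨th w, hthW w⟩, hc⟩ : Sc) : Sc[X]) = 0 := by
        rw [map_sub, map_pow, Polynomial.aeval_X, Polynomial.aeval_C, htd]
        exact sub_self _
      have h4 := minpoly.dvd Sc tbar haeval
      have hsepθ : IsSeparable Sc tbar := hq.of_dvd h4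
      have hmem : tbar ∈ separableClosure Sc (ResidueField W) :=
        mem_separableClosure_iff.mpr hsepθ
      rw [separableClosure.separableClosure_eq_bot] at hmem
      obtain ⟨z', hz'⟩ := IntermediateField.mem_bot.mp hmem
      rw [← hz']
      exact z'.2

end Core

end

section
open IsLocalRing TensorProduct Polynomial Groth.Agent.Lib.R2H1.EtRamTower Groth.Agent.Lib.R2H1.EtRam
  Groth.Agent.Lib.R2H1.EtRamSmooth Groth.Agent.Lib.R2H1.EtRamAbh Groth.Agent.Lib.R2H1.EtRamBCTame
section Unram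

theorem unram_over_root (A K L : Type u) [CommRing A] [IsDomain A] [IsDiscreteValuationRing A]
    [Field K] [Algebra A K] [IsFractionRing A K]
    [Field L] [Algebra K L] [Algebra A L] [IsScalarTower A K L] [FiniteDimensional K L]
    (π : A) (hπ : maximalIdeal A = Ideal.span {π}) (e : ℕ) (he : 0 < e)
    (h : EtRam.IsTamelyRamified A (algebraMap A L))
    (hdiv : ∀ (V : ValuationSubring L) (hV : EtRam.Dominates A (algebraMap A L) V),
      letI : Algebra A V := (RingHom.codRestrict (algebraMap A L) V hV.1).toAlgebra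
      Ideal.ramificationIdx' (maximalIdeal A) (maximalIdeal V) ∣ e)
    (L' : Type u) [Field L'] [Algebra L L'] [Algebra.IsAlgebraic L L']
    [Algebra (AdjoinRoot (X ^ e - C π : A[X])) L']
    (hcompat : ∀ a : A, algebraMap (AdjoinRoot (X ^ e - C π : A[X])) L'
      (algebraMap A (AdjoinRoot (X ^ e - C π : A[X])) a) = algebraMap L L' (algebraMap A L a))
    (hgenL' : Algebra.adjoin L {algebraMap (AdjoinRoot (X ^ e - C π : A[X])) L'
      (AdjoinRoot.root (X ^ e - C π : A[X]))} = ⊤)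
    [IsLocalRing (AdjoinRoot (X ^ e - C π : A[X]))] :
    EtRam.IsUnramifiedExt (AdjoinRoot (X ^ e - C π : A[X]))
      (algebraMap (AdjoinRoot (X ^ e - C π : A[X])) L') := by
  classical
  intro W hdom hloc
  letI algA'W : Algebra (AdjoinRoot (X ^ e - C π : A[X])) W :=
    (RingHom.codRestrict (algebraMap (AdjoinRoot (X ^ e - C π : A[X])) L') W hdom.1).toAlgebra
  haveI hlocA' : IsLocalHom (algebraMap A (AdjoinRoot (X ^ e - C π : A[X]))) :=
    isLocalHom' π hπ e he
  set z : L' := algebraMap (AdjoinRoot (X ^ e - C π : A[X])) L'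
    (AdjoinRoot.root (X ^ e - C π : A[X])) with hz
  have hze : z ^ e = algebraMap L L' (algebraMap A L π) := by
    rw [hz, ← map_pow, root_pow, hcompat]
  have hπirr : Irreducible π := (IsDiscreteValuationRing.irreducible_iff_uniformizer π).mpr hπ
  have hπ0 : π ≠ 0 := hπirr.ne_zero
  have hAL : ∀ a : A, algebraMap A L a = algebraMap K L (algebraMap A K a) :=
    fun a => IsScalarTower.algebraMap_apply A K L a
  have hπL0 : algebraMap L L' (algebraMap A L π) ≠ 0 := by
    intro h0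
    have h1 : algebraMap A L π = 0 := (map_eq_zero (algebraMap L L')).mp h0
    rw [hAL] at h1
    have h2 : algebraMap A K π = 0 := (map_eq_zero (algebraMap K L)).mp h1
    exact hπ0 ((IsFractionRing.to_map_eq_zero_iff (K := K)).mp h2)
  have hz0 : z ≠ 0 := by
    intro h0
    rw [h0, zero_pow he.ne'] at hze
    exact hπL0 hze.symm
  -- the valuation ring of L
  have hdomA : EtRam.Dominates A (algebraMap A L) (W.comap (algebraMap L L')) := by
    apply dominates_comap
    refine ⟨fun a => ?_, fun a ha => ?_⟩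
    · rw [RingHom.comp_apply, ← hcompat]; exact hdom.1 _
    · rw [RingHom.comp_apply, ← hcompat]
      apply hdom.2
      rw [mem_maximalIdeal, mem_nonunits_iff] at ha ⊢
      exact fun hu => ha (IsLocalHom.map_nonunit a hu)
  letI algAV : Algebra A (W.comap (algebraMap L L')) :=
    (RingHom.codRestrict (algebraMap A L) (W.comap (algebraMap L L')) hdomA.1).toAlgebra
  haveI locAV : IsLocalHom (algebraMap A (W.comap (algebraMap L L'))) :=
    isLocalHom_codRestrict _ _ hdomA
  obtain ⟨hsepres, htameA⟩ := @h (W.comap (algebraMap L L')) hdomA locAV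
  haveI := hsepres
  have hcompat' : ∀ a : A, algebraMap L L'
      ((algebraMap A (W.comap (algebraMap L L')) a : W.comap (algebraMap L L')) : L) =
      (algebraMap (AdjoinRoot (X ^ e - C π : A[X])) L')
        (algebraMap A (AdjoinRoot (X ^ e - C π : A[X])) a) := fun a => (hcompat a).symm
  have hAV : ∀ a, ((algebraMap A (W.comap (algebraMap L L')) a : W.comap (algebraMap L L')) : L) =
      algebraMap K L (algebraMap A K a) := fun a => hAL a
  obtain ⟨⟨π₁, hπ₁, hπ₁0⟩, hpow, hfin⟩ := ka_facts A K L (W.comap (algebraMap L L')) hAV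
  have hπ₁0' : π₁ ≠ 0 := fun h => hπ₁0 (by rw [h]; rfl)
  have hπm : algebraMap A (W.comap (algebraMap L L')) π ∈
      maximalIdeal (W.comap (algebraMap L L')) := by
    rw [mem_maximalIdeal, mem_nonunits_iff]
    intro hunit
    exact hπirr.not_isUnit (IsLocalHom.map_nonunit π hunit)
  obtain ⟨N, c, hNc⟩ := hpow π₁ hπ₁ π hπ0 hπm
  obtain ⟨e₁, u₁, hu₁⟩ := exists_unit_mul_pow (W.comap (algebraMap L L')) π₁ hπ₁ hπ₁0' N _ c hNc
  have he₁_eq : Ideal.ramificationIdx' (maximalIdeal A)
      (maximalIdeal (W.comap (algebraMap L L'))) = e₁ :=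
    ramificationIdx'_eq_of_eq π hπ π₁ hπ₁ hπ₁0' e₁ u₁ hu₁
  have he₁ : e₁ ≠ 0 := ne_zero_of_eq π hπirr.not_isUnit π₁ e₁ u₁ hu₁
  have he₁dvd : e₁ ∣ e := by
    have := hdiv (W.comap (algebraMap L L')) hdomA
    rw [he₁_eq] at this
    exact this
  have he₁A : (e₁ : ResidueField A) ≠ 0 := by
    obtain ⟨c', hc'⟩ := CharP.exists (ResidueField A)
    rcases CharP.char_is_prime_or_zero (ResidueField A) c' with hpr | h0
    · rw [Ne, CharP.cast_eq_zero_iff (ResidueField A) c', ← he₁_eq]
      exact htameA c' hpr hc'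
    · subst h0
      haveI := CharP.charP_to_charZero (ResidueField A)
      exact Nat.cast_ne_zero.mpr he₁
  -- separation
  letI algKL' : Algebra K L' := ((algebraMap L L').comp (algebraMap K L)).toAlgebra
  haveI : IsScalarTower K L L' := IsScalarTower.of_algebraMap_eq (fun _ => rfl)
  haveI : Algebra.IsAlgebraic K L' := Algebra.IsAlgebraic.trans K L L'
  have hgA : ∀ a : A, ((algebraMap L L').comp (algebraMap A L)) a ∈ W := fun a => by
    rw [RingHom.comp_apply, ← hcompat]; exact hdom.1 _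
  have hsepB : ∀ w : L', w ≠ 0 → ∃ j : ℕ, W.valuation z ^ j ≤ W.valuation w := by
    intro w hw0
    obtain ⟨j, hj⟩ := exists_pow_le (B := A) (L := K) W ((algebraMap L L').comp (algebraMap A L))
      (fun b => by rw [RingHom.comp_apply, hAL]; rfl) hgA π hπirr w hw0
    refine ⟨e * j, ?_⟩
    rw [pow_mul, ← map_pow, hze]
    exact hj
  -- generation
  have hgen : ∀ m : L', ∃ x y : (W.comap (algebraMap L L')) ⊗[A] (AdjoinRoot (X ^ e - C π : A[X])),
      theta (algebraMap L L') W (algebraMap (AdjoinRoot (X ^ e - C π : A[X])) L') hcompat' y ≠ 0 ∧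
      m = theta (algebraMap L L') W (algebraMap (AdjoinRoot (X ^ e - C π : A[X])) L') hcompat' x /
        theta (algebraMap L L') W (algebraMap (AdjoinRoot (X ^ e - C π : A[X])) L') hcompat' y := by
    intro m
    have hm : m ∈ Algebra.adjoin L {z} := by rw [hgenL']; exact Algebra.mem_top
    induction hm using Algebra.adjoin_induction with
    | mem x hx =>
      rw [Set.mem_singleton_iff] at hx
      subst hx
      refine ⟨1 ⊗ₜ AdjoinRoot.root (X ^ e - C π : A[X]), 1, by rw [map_one]; exact one_ne_zero, ?_⟩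
      rw [theta_tmul, map_one, div_one, OneMemClass.coe_one, map_one, one_mul]
    | algebraMap l =>
      rcases (W.comap (algebraMap L L')).mem_or_inv_mem l with hl | hl
      · refine ⟨(⟨l, hl⟩ : W.comap (algebraMap L L')) ⊗ₜ 1, 1,
          by rw [map_one]; exact one_ne_zero, ?_⟩
        rw [theta_tmul, map_one, map_one, mul_one, div_one]
      · by_cases hl0 : l = 0
        · exact ⟨0, 1, by rw [map_one]; exact one_ne_zero, by
            rw [hl0, map_zero, map_zero, zero_div]⟩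
        refine ⟨1, (⟨l⁻¹, hl⟩ : W.comap (algebraMap L L')) ⊗ₜ 1, ?_, ?_⟩
        · rw [theta_tmul, map_one, mul_one]
          show algebraMap L L' l⁻¹ ≠ 0
          rw [map_inv₀]; exact inv_ne_zero (fun h => hl0 ((map_eq_zero _).mp h))
        · rw [theta_tmul, map_one, map_one, mul_one]
          show algebraMap L L' l = 1 / algebraMap L L' l⁻¹
          rw [map_inv₀, one_div, inv_inv]
    | add x y hx hy ihx ihy =>
      obtain ⟨x₁, y₁, hy₁, rfl⟩ := ihx
      obtain ⟨x₂, y₂, hy₂, rfl⟩ := ihy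
      refine ⟨x₁ * y₂ + x₂ * y₁, y₁ * y₂, by rw [map_mul]; exact mul_ne_zero hy₁ hy₂, ?_⟩
      rw [map_add, map_mul, map_mul, map_mul, div_add_div _ _ hy₁ hy₂]
      ring
    | mul x y hx hy ihx ihy =>
      obtain ⟨x₁, y₁, hy₁, rfl⟩ := ihx
      obtain ⟨x₂, y₂, hy₂, rfl⟩ := ihy
      exact ⟨x₁ * x₂, y₁ * y₂, by rw [map_mul]; exact mul_ne_zero hy₁ hy₂, by
        rw [map_mul, map_mul, div_mul_div_comm]⟩
  have hu : algebraMap A (AdjoinRoot (X ^ e - C π : A[X])) π =
      ((1 : (AdjoinRoot (X ^ e - C π : A[X]))ˣ) : AdjoinRoot (X ^ e - C π : A[X])) *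
        (AdjoinRoot.root (X ^ e - C π : A[X])) ^ e := by
    rw [Units.val_one, one_mul, root_pow]
  obtain ⟨τ', uu, hmaxW, hne, hϖeq, hsepW⟩ := tame_core' (algebraMap L L') W
    (algebraMap (AdjoinRoot (X ^ e - C π : A[X])) L') hcompat' hdom.1 π π₁ hπ₁ hπ₁0
    (AdjoinRoot.root (X ^ e - C π : A[X])) (maximalIdeal_eq' π hπ e he) hz0 u₁ 1 e₁ e he₁ he.ne'
    hu₁ hu he₁A hsepB hgen (fun b => rfl)
  refine ⟨?_, hsepW⟩
  show (maximalIdeal (AdjoinRoot (X ^ e - C π : A[X]))).map
    (algebraMap (AdjoinRoot (X ^ e - C π : A[X])) W) = maximalIdeal W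
  rw [Nat.gcd_eq_left he₁dvd, Nat.div_self (Nat.pos_of_ne_zero he₁), pow_one] at hϖeq
  rw [maximalIdeal_eq' π hπ e he, Ideal.map_span, Set.image_singleton, hϖeq, hmaxW,
    Ideal.span_singleton_eq_span_singleton]
  exact associated_unit_mul_left _ _ uu.isUnit

end Unram

end

section
open IsLocalRing TensorProduct Polynomial Groth.Agent.Lib.R2H1.EtRamTower Groth.Agent.Lib.R2H1.EtRam
  Groth.Agent.Lib.R2H1.EtRamSmooth Groth.Agent.Lib.R2H1.EtRamAbh Groth.Agent.Lib.R2H1.EtRamBCTame
theorem exists_unram_over_root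
    {A K L : Type u} [CommRing A] [IsDomain A] [IsDiscreteValuationRing A] [Field K] [Algebra A K]
    [IsFractionRing A K] [Field L] [Algebra K L]
    [Algebra A L] [IsScalarTower A K L] [FiniteDimensional K L] [Algebra.IsSeparable K L]
    (π : A) (hπ : maximalIdeal A = Ideal.span {π})
    (h : EtRam.IsTamelyRamified A (algebraMap A L))
    (e : ℕ) (he : 0 < e) (heA : (e : ResidueField A) ≠ 0)
    (hdiv : ∀ (V : ValuationSubring L) (hV : EtRam.Dominates A (algebraMap A L) V),
      letI : Algebra A V := (RingHom.codRestrict (algebraMap A L) V hV.1).toAlgebra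
      Ideal.ramificationIdx' (maximalIdeal A) (maximalIdeal V) ∣ e) :
    ∃ (L' : Type u) (_ : Field L') (_ : Algebra K L')
      (_ : Algebra (AdjoinRoot (X ^ e - C π : A[X])) L') (_ : L →ₐ[K] L'),
      FiniteDimensional K L' ∧ Algebra.IsSeparable K L' ∧
      (algebraMap (AdjoinRoot (X ^ e - C π : A[X])) L').comp (AdjoinRoot.of (X ^ e - C π)) =
        (algebraMap K L').comp (algebraMap A K) ∧
      ∀ [IsLocalRing (AdjoinRoot (X ^ e - C π : A[X]))],
        EtRam.IsUnramifiedExt (AdjoinRoot (X ^ e - C π : A[X]))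
          (algebraMap (AdjoinRoot (X ^ e - C π : A[X])) L') := by
  classical
  have hπirr : Irreducible π := (IsDiscreteValuationRing.irreducible_iff_uniformizer π).mpr hπ
  have hπ0 : π ≠ 0 := hπirr.ne_zero
  have hAL : ∀ a : A, algebraMap A L a = algebraMap K L (algebraMap A K a) :=
    fun a => IsScalarTower.algebraMap_apply A K L a
  have hALinj : Function.Injective (algebraMap A L) := by
    intro a b hab
    rw [hAL, hAL] at hab
    exact IsFractionRing.injective A K ((algebraMap K L).injective hab)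
  have hπL0 : algebraMap A L π ≠ 0 := fun h0 => hπ0 (hALinj (by rw [h0, map_zero]))
  have heL : ((e : ℕ) : L) ≠ 0 := by
    intro h0
    apply heA
    have h1 : algebraMap A L ((e : ℕ) : A) = 0 := by rw [map_natCast]; exact h0
    have h2 : ((e : ℕ) : A) = 0 := hALinj (by rw [h1, map_zero])
    have h3 : ((e : ℕ) : ResidueField A) = residue A ((e : ℕ) : A) := by rw [map_natCast]
    rw [h3, h2, map_zero]
  -- the polynomial over L
  set PL : L[X] := X ^ e - C (algebraMap A L π) with hPL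
  have hPLsep : PL.Separable := separable_X_pow_sub_C _ heL hπL0
  have hPLdeg : 0 < PL.degree := by
    rw [hPL, degree_X_pow_sub_C he]; exact_mod_cast he
  obtain ⟨q, hq, hqdvd⟩ := Polynomial.exists_irreducible_of_degree_pos hPLdeg
  haveI : Fact (Irreducible q) := ⟨hq⟩
  have hq0 : q ≠ 0 := hq.ne_zero
  -- the root
  have hzroot : eval₂ (algebraMap L (AdjoinRoot q)) (AdjoinRoot.root q) PL = 0 := by
    obtain ⟨r, hr⟩ := hqdvd
    rw [hr, eval₂_mul, AdjoinRoot.algebraMap_eq, AdjoinRoot.eval₂_root, zero_mul]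
  have hze : (AdjoinRoot.root q) ^ e = algebraMap L (AdjoinRoot q) (algebraMap A L π) := by
    rw [hPL, eval₂_sub, eval₂_X_pow, eval₂_C, sub_eq_zero] at hzroot
    exact hzroot
  have hlift : eval₂ ((algebraMap L (AdjoinRoot q)).comp (algebraMap A L)) (AdjoinRoot.root q)
      (X ^ e - C π : A[X]) = 0 := by
    rw [eval₂_sub, eval₂_X_pow, eval₂_C, RingHom.comp_apply, hze, sub_self]
  letI algA'L' : Algebra (AdjoinRoot (X ^ e - C π : A[X])) (AdjoinRoot q) :=
    (AdjoinRoot.lift ((algebraMap L (AdjoinRoot q)).comp (algebraMap A L)) (AdjoinRoot.root q)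
      hlift).toAlgebra
  have halg_of : ∀ a : A, algebraMap (AdjoinRoot (X ^ e - C π : A[X])) (AdjoinRoot q)
      (algebraMap A (AdjoinRoot (X ^ e - C π : A[X])) a) =
      algebraMap L (AdjoinRoot q) (algebraMap A L a) := by
    intro a
    rw [AdjoinRoot.algebraMap_eq]
    exact AdjoinRoot.lift_of hlift
  have halg_root : algebraMap (AdjoinRoot (X ^ e - C π : A[X])) (AdjoinRoot q)
      (AdjoinRoot.root (X ^ e - C π : A[X])) = AdjoinRoot.root q :=
    AdjoinRoot.lift_root hlift
  haveI hfinLL' : FiniteDimensional L (AdjoinRoot q) := (AdjoinRoot.powerBasis hq0).finite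
  haveI : FiniteDimensional K (AdjoinRoot q) := FiniteDimensional.trans K L (AdjoinRoot q)
  haveI : Algebra.IsAlgebraic L (AdjoinRoot q) := Algebra.IsAlgebraic.of_finite _ _
  -- separability
  have hzsep : IsSeparable L (AdjoinRoot.root q) := by
    have h1 : aeval (AdjoinRoot.root q) PL = 0 := by rw [aeval_def]; exact hzroot
    exact hPLsep.of_dvd (minpoly.dvd L _ h1)
  haveI hsepLL' : Algebra.IsSeparable L (AdjoinRoot q) := by
    rw [← separableClosure.eq_top_iff, eq_top_iff]
    intro x _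
    have hx : x ∈ Algebra.adjoin L ({AdjoinRoot.root q} : Set (AdjoinRoot q)) := by
      rw [AdjoinRoot.adjoinRoot_eq_top]; exact Algebra.mem_top
    have hle : Algebra.adjoin L ({AdjoinRoot.root q} : Set (AdjoinRoot q)) ≤
        (separableClosure L (AdjoinRoot q)).toSubalgebra := by
      apply Algebra.adjoin_le
      rintro _ hx
      rw [Set.mem_singleton_iff] at hx
      subst hx
      exact mem_separableClosure_iff.mpr hzsep
    exact hle hx
  haveI : Algebra.IsSeparable K (AdjoinRoot q) := Algebra.IsSeparable.trans K L (AdjoinRoot q)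
  refine ⟨AdjoinRoot q, inferInstance, inferInstance, algA'L',
    IsScalarTower.toAlgHom K L (AdjoinRoot q), inferInstance, inferInstance, ?_, ?_⟩
  · ext a
    rw [RingHom.comp_apply, RingHom.comp_apply, ← AdjoinRoot.algebraMap_eq, halg_of, hAL,
      ← IsScalarTower.algebraMap_apply K L (AdjoinRoot q)]
  · intro hlocal
    refine unram_over_root A K L π hπ e he h hdiv (AdjoinRoot q) halg_of ?_
    rw [halg_root]
    exact AdjoinRoot.adjoinRoot_eq_top

end

section
open IsLocalRing TensorProduct Polynomial Groth.Agent.Lib.R2H1.EtRamTower Groth.Agent.Lib.R2H1.EtRam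
  Groth.Agent.Lib.R2H1.EtRamSmooth Groth.Agent.Lib.R2H1.EtRamAbh Groth.Agent.Lib.R2H1.EtRamBCTame
  Groth.Agent.Lib.R2H1.EtRamTotRam
/-- structure of a valuation ring of a finite extension dominating a DVR -/
theorem ramIdx_facts {A K L : Type u} [CommRing A] [IsDomain A] [IsDiscreteValuationRing A]
    [Field K] [Algebra A K] [IsFractionRing A K] [Field L] [Algebra K L]
    [Algebra A L] [IsScalarTower A K L] [FiniteDimensional K L]
    (π : A) (hπ : maximalIdeal A = Ideal.span {π})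
    (V : ValuationSubring L) (hV : EtRam.Dominates A (algebraMap A L) V) :
    letI : Algebra A V := (RingHom.codRestrict (algebraMap A L) V hV.1).toAlgebra
    ∃ (π₁ : V) (e₁ : ℕ) (u₁ : Vˣ), maximalIdeal V = Ideal.span {π₁} ∧ π₁ ≠ 0 ∧
      algebraMap A V π = u₁ * π₁ ^ e₁ ∧ e₁ ≠ 0 ∧ e₁ ≤ Module.finrank K L ∧
      Ideal.ramificationIdx' (maximalIdeal A) (maximalIdeal V) = e₁ := by
  letI algAV : Algebra A V := (RingHom.codRestrict (algebraMap A L) V hV.1).toAlgebra
  haveI locAV : IsLocalHom (algebraMap A V) := isLocalHom_codRestrict _ _ hV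
  have hπirr : Irreducible π := (IsDiscreteValuationRing.irreducible_iff_uniformizer π).mpr hπ
  have hπ0 : π ≠ 0 := hπirr.ne_zero
  have hAL : ∀ a : A, algebraMap A L a = algebraMap K L (algebraMap A K a) :=
    fun a => IsScalarTower.algebraMap_apply A K L a
  have hAV : ∀ a, ((algebraMap A V a : V) : L) = algebraMap K L (algebraMap A K a) :=
    fun a => hAL a
  obtain ⟨⟨π₁, hπ₁, hπ₁0⟩, hpow, hfin⟩ := ka_facts A K L V hAV
  have hπ₁0' : π₁ ≠ 0 := fun h => hπ₁0 (by rw [h]; rfl)
  have hπm : algebraMap A V π ∈ maximalIdeal V := by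
    rw [mem_maximalIdeal, mem_nonunits_iff]
    intro hunit
    exact hπirr.not_isUnit (IsLocalHom.map_nonunit π hunit)
  obtain ⟨N, c, hNc⟩ := hpow π₁ hπ₁ π hπ0 hπm
  obtain ⟨e₁, u₁, hu₁⟩ := exists_unit_mul_pow V π₁ hπ₁ hπ₁0' N _ c hNc
  have he₁_eq : Ideal.ramificationIdx' (maximalIdeal A) (maximalIdeal V) = e₁ :=
    ramificationIdx'_eq_of_eq π hπ π₁ hπ₁ hπ₁0' e₁ u₁ hu₁
  have he₁ : e₁ ≠ 0 := ne_zero_of_eq π hπirr.not_isUnit π₁ e₁ u₁ hu₁
  refine ⟨π₁, e₁, u₁, hπ₁, hπ₁0', hu₁, he₁, ?_, he₁_eq⟩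
  have hπ₁m : π₁ ∈ maximalIdeal V := hπ₁ ▸ Ideal.mem_span_singleton_self π₁
  refine le_finrank (B := A) (L := K) (M := L) V (fun b => by rw [← hAL]; exact hV.1 b) π hπ
    (π₁ : L) e₁ hπ₁0 ((V.valuation_lt_one_iff π₁).mp hπ₁m) ?_
  have h1 : algebraMap K L (algebraMap A K π) = ((u₁ : V) : L) * (π₁ : L) ^ e₁ := by
    rw [← hAV, hu₁]; rfl
  rw [h1, map_mul, map_pow]
  calc V.valuation ((u₁ : V) : L) * V.valuation (π₁ : L) ^ e₁
      ≤ 1 * V.valuation (π₁ : L) ^ e₁ :=
        mul_le_mul_left ((V.valuation_le_one_iff _).mpr (u₁ : V).2) _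
    _ = _ := one_mul _

/-- the uniform exponent -/
theorem exists_e₀ {A K L : Type u} [CommRing A] [IsDomain A] [IsDiscreteValuationRing A]
    [Field K] [Algebra A K] [IsFractionRing A K] [Field L] [Algebra K L]
    [Algebra A L] [IsScalarTower A K L] [FiniteDimensional K L]
    (π : A) (hπ : maximalIdeal A = Ideal.span {π})
    (h : EtRam.IsTamelyRamified A (algebraMap A L)) :
    ∃ e₀ : ℕ, 0 < e₀ ∧ (e₀ : ResidueField A) ≠ 0 ∧
      ∀ (V : ValuationSubring L) (hV : EtRam.Dominates A (algebraMap A L) V),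
        letI : Algebra A V := (RingHom.codRestrict (algebraMap A L) V hV.1).toAlgebra
        Ideal.ramificationIdx' (maximalIdeal A) (maximalIdeal V) ∣ e₀ := by
  classical
  set S : Finset ℕ := (Finset.Icc 1 (Module.finrank K L)).filter
    (fun j => (j : ResidueField A) ≠ 0) with hS
  refine ⟨∏ j ∈ S, j, ?_, ?_, ?_⟩
  · apply Finset.prod_pos
    intro j hj
    rw [hS, Finset.mem_filter, Finset.mem_Icc] at hj
    omega
  · rw [Nat.cast_prod, Finset.prod_ne_zero_iff]
    intro j hj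
    rw [hS, Finset.mem_filter] at hj
    exact hj.2
  · intro V hV
    letI algAV : Algebra A V := (RingHom.codRestrict (algebraMap A L) V hV.1).toAlgebra
    haveI locAV : IsLocalHom (algebraMap A V) := isLocalHom_codRestrict _ _ hV
    obtain ⟨π₁, e₁, u₁, hπ₁, hπ₁0, hu₁, he₁, hle, he₁_eq⟩ := ramIdx_facts (K := K) π hπ V hV
    obtain ⟨-, htameA⟩ := @h V hV locAV
    have he₁A : (e₁ : ResidueField A) ≠ 0 := by
      obtain ⟨c', hc'⟩ := CharP.exists (ResidueField A)
      rcases CharP.char_is_prime_or_zero (ResidueField A) c' with hpr | h0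
      · rw [Ne, CharP.cast_eq_zero_iff (ResidueField A) c', ← he₁_eq]
        exact htameA c' hpr hc'
      · subst h0
        haveI := CharP.charP_to_charZero (ResidueField A)
        exact Nat.cast_ne_zero.mpr he₁
    show Ideal.ramificationIdx' (maximalIdeal A) (maximalIdeal V) ∣ ∏ j ∈ S, j
    rw [he₁_eq]
    have hmem : e₁ ∈ S := by
      rw [hS, Finset.mem_filter, Finset.mem_Icc]
      exact ⟨⟨Nat.one_le_iff_ne_zero.mpr he₁, hle⟩, he₁A⟩
    exact Finset.dvd_prod_of_mem (fun j => j) hmem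

/-- statement S9329 -/
theorem tame_root_uniform {A K L : Type u} [CommRing A] [IsDomain A]
    [IsDiscreteValuationRing A] [Field K] [Algebra A K] [IsFractionRing A K] [Field L] [Algebra K L]
    [Algebra A L] [IsScalarTower A K L] [FiniteDimensional K L] [Algebra.IsSeparable K L]
    (π : A) (hπ : maximalIdeal A = Ideal.span {π})
    (h : EtRam.IsTamelyRamified A (algebraMap A L)) :
    ∃ e₀ : ℕ, 0 < e₀ ∧ (e₀ : ResidueField A) ≠ 0 ∧
      ∀ d : ℕ, 0 < d → (d : ResidueField A) ≠ 0 →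
        ∃ (L' : Type u) (_ : Field L') (_ : Algebra K L')
          (_ : Algebra (AdjoinRoot (X ^ (d * e₀) - C π : A[X])) L') (_ : L →ₐ[K] L'),
          FiniteDimensional K L' ∧ Algebra.IsSeparable K L' ∧
          (algebraMap (AdjoinRoot (X ^ (d * e₀) - C π : A[X])) L').comp
              (AdjoinRoot.of (X ^ (d * e₀) - C π)) =
            (algebraMap K L').comp (algebraMap A K) ∧
          ∀ [IsLocalRing (AdjoinRoot (X ^ (d * e₀) - C π : A[X]))],
            EtRam.IsUnramifiedExt (AdjoinRoot (X ^ (d * e₀) - C π : A[X]))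
              (algebraMap (AdjoinRoot (X ^ (d * e₀) - C π : A[X])) L') := by
  obtain ⟨e₀, he₀, he₀A, hdiv⟩ := exists_e₀ (K := K) π hπ h
  refine ⟨e₀, he₀, he₀A, fun d hd hdA => ?_⟩
  refine exists_unram_over_root (K := K) π hπ h (d * e₀) (Nat.mul_pos hd he₀) ?_ ?_
  · rw [Nat.cast_mul]; exact mul_ne_zero hdA he₀A
  · intro V hV
    exact dvd_mul_of_dvd_right (hdiv V hV) d

end

end Groth.Agent.Lib.R2H1.EtRamRoot
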