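import Mathlib
import Groth.Prelude.Def_EtRam
import Groth.Agent.Lib.R2H1EtRam
import Groth.Agent.Lib.R2H1EtRamTower
import Groth.Agent.Lib.R2H1EtRamSmooth
import Groth.Agent.Lib.R2H1EtRamAbh
import Groth.Agent.Lib.R2H1EtRamTotRam
import Groth.Agent.Lib.Helper14GeomRed
import Groth.Agent.Lib.R2H1EtRamBC
import Groth.Agent.Lib.R2H1EtRamBCTame
import Groth.Agent.Lib.R2H1EtRamRoot

/-!
# Tame ⇔ unramified after adjoining a root of the uniformiser (helper1, run 2)

* `tame_of_unram_over_root`: if `L ⊆ L'` and `L'` is unramified over `A[z]/(z^e - π)` with `e`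
  invertible in the residue field, then `L` is tame over `A`.
* `tame_iff_unram_over_root` (statement S9328).
-/

set_option autoImplicit false
set_option linter.unusedSectionVars false
set_option linter.style.haveILetI false

universe u

namespace Groth.Agent.Lib.R2H1.EtRamRoot2

open IsLocalRing TensorProduct Polynomial Groth.Agent.Lib.R2H1.EtRamTower Groth.Agent.Lib.R2H1.EtRam
  Groth.Agent.Lib.R2H1.EtRamSmooth Groth.Agent.Lib.R2H1.EtRamAbh Groth.Agent.Lib.R2H1.EtRamBCTame
  Groth.Agent.Lib.R2H1.EtRamTotRam Groth.Agent.Lib.R2H1.EtRamRoot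

theorem tame_of_unram_over_root {A K L : Type u} [CommRing A] [IsDomain A]
    [IsDiscreteValuationRing A] [Field K] [Algebra A K] [IsFractionRing A K] [Field L] [Algebra K L]
    [Algebra A L] [IsScalarTower A K L] [FiniteDimensional K L]
    (π : A) (hπ : maximalIdeal A = Ideal.span {π}) (e : ℕ) (he : 0 < e)
    (heA : (e : ResidueField A) ≠ 0)
    (L' : Type u) [Field L'] [Algebra K L'] [Algebra (AdjoinRoot (X ^ e - C π : A[X])) L']
    (φ : L →ₐ[K] L')
    (hcompat : (algebraMap (AdjoinRoot (X ^ e - C π : A[X])) L').comp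
      (AdjoinRoot.of (X ^ e - C π)) = (algebraMap K L').comp (algebraMap A K))
    (hunr : ∀ [IsLocalRing (AdjoinRoot (X ^ e - C π : A[X]))],
      EtRam.IsUnramifiedExt (AdjoinRoot (X ^ e - C π : A[X]))
        (algebraMap (AdjoinRoot (X ^ e - C π : A[X])) L')) :
    EtRam.IsTamelyRamified A (algebraMap A L) := by
  classical
  haveI hlocalA' : IsLocalRing (AdjoinRoot (X ^ e - C π : A[X])) := isLocalRing' π hπ e he
  have hunr' := @hunr hlocalA'
  haveI hlocA' : IsLocalHom (algebraMap A (AdjoinRoot (X ^ e - C π : A[X]))) :=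
    isLocalHom' π hπ e he
  have hπirr : Irreducible π := (IsDiscreteValuationRing.irreducible_iff_uniformizer π).mpr hπ
  have hπm : π ∈ maximalIdeal A := hπ ▸ Ideal.mem_span_singleton_self π
  have hAL : ∀ a : A, algebraMap A L a = algebraMap K L (algebraMap A K a) :=
    fun a => IsScalarTower.algebraMap_apply A K L a
  have hcompat' : ∀ a : A, algebraMap (AdjoinRoot (X ^ e - C π : A[X])) L'
      (algebraMap A (AdjoinRoot (X ^ e - C π : A[X])) a) = φ (algebraMap A L a) := by
    intro a
    have h1 := RingHom.congr_fun hcompat a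
    rw [RingHom.comp_apply, RingHom.comp_apply] at h1
    rw [AdjoinRoot.algebraMap_eq, h1, hAL, φ.commutes]
  intro V hV hloc
  obtain ⟨W, rfl⟩ := exists_comap_eq (φ : L →+* L') V
  letI algAV : Algebra A (W.comap (φ : L →+* L')) :=
    (RingHom.codRestrict (algebraMap A L) (W.comap (φ : L →+* L')) hV.1).toAlgebra
  have hdomW : EtRam.Dominates A ((φ : L →+* L').comp (algebraMap A L)) W :=
    dominates_of_comap (φ : L →+* L') (algebraMap A L) W hV
  set z : L' := algebraMap (AdjoinRoot (X ^ e - C π : A[X])) L'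
    (AdjoinRoot.root (X ^ e - C π : A[X])) with hz
  have hze : z ^ e = (φ : L →+* L') (algebraMap A L π) := by
    rw [hz, ← map_pow, root_pow, hcompat']; rfl
  have hvπ : W.valuation ((φ : L →+* L') (algebraMap A L π)) < 1 := hdomW.2 π hπm
  have hvz : W.valuation z < 1 := by
    by_contra hge
    have h1 : 1 ≤ W.valuation z := not_lt.mp hge
    have h2 : 1 ≤ W.valuation z ^ e := one_le_pow₀ h1
    rw [← map_pow, hze] at h2
    exact absurd hvπ (not_lt.mpr h2)
  have hzW : z ∈ W := (W.valuation_le_one_iff _).mp hvz.le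
  have hπL0 : (φ : L →+* L') (algebraMap A L π) ≠ 0 := by
    intro h0
    have h1 : algebraMap A L π = 0 := (map_eq_zero (φ : L →+* L')).mp h0
    rw [hAL] at h1
    have h2 : algebraMap A K π = 0 := (map_eq_zero (algebraMap K L)).mp h1
    exact hπirr.ne_zero ((IsFractionRing.to_map_eq_zero_iff (K := K)).mp h2)
  have hz0 : z ≠ 0 := by
    intro h0
    rw [h0, zero_pow he.ne'] at hze
    exact hπL0 hze.symm
  have hdomA' : EtRam.Dominates (AdjoinRoot (X ^ e - C π : A[X]))
      (algebraMap (AdjoinRoot (X ^ e - C π : A[X])) L') W := by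
    have h1 : ∀ x, algebraMap (AdjoinRoot (X ^ e - C π : A[X])) L' x ∈ W := by
      intro x
      obtain ⟨p, rfl⟩ := AdjoinRoot.mk_surjective x
      rw [← AdjoinRoot.aeval_eq p, aeval_def, Polynomial.hom_eval₂]
      refine eval₂_mem_subring _ W.toSubring (fun a => ?_) z hzW p
      rw [RingHom.comp_apply, hcompat']
      exact hdomW.1 a
    refine ⟨h1, fun x hx => ?_⟩
    rw [maximalIdeal_eq' π hπ e he] at hx
    obtain ⟨y, rfl⟩ := Ideal.mem_span_singleton'.mp hx
    rw [map_mul, map_mul]
    calc W.valuation (algebraMap _ L' y) * W.valuation z ≤ 1 * W.valuation z :=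
          mul_le_mul_left ((W.valuation_le_one_iff _).mpr (h1 y)) _
      _ = W.valuation z := one_mul _
      _ < 1 := hvz
  letI algA'W : Algebra (AdjoinRoot (X ^ e - C π : A[X])) W :=
    (RingHom.codRestrict (algebraMap (AdjoinRoot (X ^ e - C π : A[X])) L') W hdomA'.1).toAlgebra
  haveI locA'W : IsLocalHom (algebraMap (AdjoinRoot (X ^ e - C π : A[X])) W) :=
    isLocalHom_codRestrict _ _ hdomA'
  obtain ⟨hwu, hsepW⟩ := @hunr' W hdomA' locA'W
  refine ⟨?_, ?_⟩
  · -- separability
    rw [← separableClosure.eq_top_iff, eq_top_iff]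
    intro x _
    rw [mem_separableClosure_iff]
    let ψ : ResidueField (W.comap (φ : L →+* L')) →+* ResidueField W :=
      ResidueField.map (EtRam.inclOfComap W (φ : L →+* L'))
    have hιsurj : Function.Surjective (algebraMap (ResidueField A)
        (ResidueField (AdjoinRoot (X ^ e - C π : A[X])))) := by
      intro y
      obtain ⟨a, ha⟩ := residue_surjective' π hπ e he y
      exact ⟨residue A a, ha.symm⟩
    have hcomp : ψ.comp (algebraMap (ResidueField A) (ResidueField (W.comap (φ : L →+* L')))) =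
        (algebraMap (ResidueField (AdjoinRoot (X ^ e - C π : A[X]))) (ResidueField W)).comp
          (algebraMap (ResidueField A) (ResidueField (AdjoinRoot (X ^ e - C π : A[X])))) := by
      ext a
      obtain ⟨a₀, rfl⟩ := residue_surjective a
      show residue W (EtRam.inclOfComap W (φ : L →+* L')
          (algebraMap A (W.comap (φ : L →+* L')) a₀)) =
        residue W (algebraMap (AdjoinRoot (X ^ e - C π : A[X])) W
          (algebraMap A (AdjoinRoot (X ^ e - C π : A[X])) a₀))
      refine congrArg (residue W) (Subtype.ext ?_)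
      exact (hcompat' a₀).symm
    have hsepψ : IsSeparable (ResidueField (AdjoinRoot (X ^ e - C π : A[X]))) (ψ x) :=
      Algebra.IsSeparable.isSeparable _ _
    obtain ⟨p, hp⟩ := Polynomial.map_surjective _ hιsurj
      (minpoly (ResidueField (AdjoinRoot (X ^ e - C π : A[X]))) (ψ x))
    have hpsep : p.Separable := by
      rw [← Polynomial.separable_map (algebraMap (ResidueField A)
        (ResidueField (AdjoinRoot (X ^ e - C π : A[X])))), hp]
      exact hsepψ
    have haeval : aeval x p = 0 := by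
      apply ψ.injective
      rw [map_zero, aeval_def, Polynomial.hom_eval₂, hcomp, ← Polynomial.eval₂_map, hp]
      exact minpoly.aeval _ _
    exact hpsep.of_dvd (minpoly.dvd _ _ haeval)
  · -- the ramification index
    obtain ⟨π₁, e₁, u₁, hπ₁, hπ₁0, hu₁, he₁, hle, he₁_eq⟩ :=
      ramIdx_facts (K := K) π hπ (W.comap (φ : L →+* L')) hV
    intro p hp hchar hdvd
    rw [he₁_eq] at hdvd
    have hmaxW : maximalIdeal W = Ideal.span {(⟨z, hzW⟩ : W)} := by
      have h1 : (maximalIdeal (AdjoinRoot (X ^ e - C π : A[X]))).map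
          (algebraMap (AdjoinRoot (X ^ e - C π : A[X])) W) = maximalIdeal W := hwu
      rw [← h1, maximalIdeal_eq' π hπ e he, Ideal.map_span, Set.image_singleton]
      rfl
    have hzW0 : (⟨z, hzW⟩ : W) ≠ 0 := fun h => hz0 (congrArg Subtype.val h)
    have hrelL : (φ : L →+* L') (algebraMap A L π) =
        (φ : L →+* L') ((u₁ : W.comap (φ : L →+* L')) : L) *
          (φ : L →+* L') (π₁ : L) ^ e₁ := by
      have h1 : algebraMap A L π = (((u₁ : W.comap (φ : L →+* L')) : L)) * (π₁ : L) ^ e₁ := by
        have := congrArg (fun v : W.comap (φ : L →+* L') => (v : L)) hu₁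
        exact this
      rw [h1, map_mul, map_pow]
    have he₁' : e₁ = (e₁ - 1) + 1 := by omega
    have hrelW : (⟨z, hzW⟩ : W) ^ e = EtRam.inclOfComap W (φ : L →+* L') π₁ *
        (EtRam.inclOfComap W (φ : L →+* L') (u₁ : W.comap (φ : L →+* L')) *
          EtRam.inclOfComap W (φ : L →+* L') π₁ ^ (e₁ - 1)) := by
      apply Subtype.ext
      show z ^ e = (φ : L →+* L') (π₁ : L) * ((φ : L →+* L') ((u₁ : W.comap (φ : L →+* L')) : L) *
        (φ : L →+* L') (π₁ : L) ^ (e₁ - 1))
      rw [hze, hrelL]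
      conv_lhs => rw [he₁', pow_succ]
      ring
    obtain ⟨j, uu, hj⟩ := exists_unit_mul_pow W (⟨z, hzW⟩ : W) hmaxW hzW0 e _ _ hrelW
    have hvu₁ : W.valuation ((φ : L →+* L') ((u₁ : W.comap (φ : L →+* L')) : L)) = 1 := by
      refine val_eq_one_of_mul_eq_one W _
        ((φ : L →+* L') (((u₁⁻¹ : (W.comap (φ : L →+* L'))ˣ) : W.comap (φ : L →+* L')) : L))
        ((u₁ : W.comap (φ : L →+* L'))).2
        (((u₁⁻¹ : (W.comap (φ : L →+* L'))ˣ) : W.comap (φ : L →+* L'))).2 ?_
      rw [← map_mul]
      have h1 : ((u₁ : W.comap (φ : L →+* L')) *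
          ((u₁⁻¹ : (W.comap (φ : L →+* L'))ˣ) : W.comap (φ : L →+* L'))) = 1 := Units.mul_inv u₁
      have h2 := congrArg (fun x : W.comap (φ : L →+* L') => (x : L)) h1
      simp only [MulMemClass.coe_mul, OneMemClass.coe_one] at h2
      rw [h2, map_one]
    have hvπ₁ : W.valuation ((φ : L →+* L') (π₁ : L)) = W.valuation z ^ j := by
      have h1 : (φ : L →+* L') (π₁ : L) = ((uu : W) : L') * z ^ j := by
        have := congrArg (fun v : W => (v : L')) hj
        exact this
      rw [h1, map_mul, map_pow, W.valuation_unit uu, one_mul]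
    have hpow : W.valuation z ^ e = W.valuation z ^ (j * e₁) := by
      rw [← map_pow, hze, hrelL, map_mul, map_pow, hvu₁, one_mul, hvπ₁, ← pow_mul]
    have hvz0 : W.valuation z ≠ 0 := (W.valuation.ne_zero_iff).mpr hz0
    have hinj := pow_right_injective₀ (zero_lt_iff.mpr hvz0) hvz.ne hpow
    have hdvd' : p ∣ e := by
      have h2 : e = j * e₁ := hinj
      rw [h2]
      exact dvd_mul_of_dvd_right hdvd j
    exact heA ((CharP.cast_eq_zero_iff (ResidueField A) p e).mpr hdvd')

/-- statement S9328 -/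
theorem tame_iff_unram_over_root {A K L : Type u} [CommRing A] [IsDomain A]
    [IsDiscreteValuationRing A] [Field K] [Algebra A K] [IsFractionRing A K] [Field L] [Algebra K L]
    [Algebra A L] [IsScalarTower A K L] [FiniteDimensional K L] [Algebra.IsSeparable K L]
    (π : A) (hπ : maximalIdeal A = Ideal.span {π}) :
    EtRam.IsTamelyRamified A (algebraMap A L) ↔
      ∃ e : ℕ, 0 < e ∧ (e : ResidueField A) ≠ 0 ∧
        ∃ (L' : Type u) (_ : Field L') (_ : Algebra K L')
          (_ : Algebra (AdjoinRoot (X ^ e - C π : A[X])) L') (_ : L →ₐ[K] L'),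
          FiniteDimensional K L' ∧ Algebra.IsSeparable K L' ∧
          (algebraMap (AdjoinRoot (X ^ e - C π : A[X])) L').comp (AdjoinRoot.of (X ^ e - C π)) =
            (algebraMap K L').comp (algebraMap A K) ∧
          ∀ [IsLocalRing (AdjoinRoot (X ^ e - C π : A[X]))],
            EtRam.IsUnramifiedExt (AdjoinRoot (X ^ e - C π : A[X]))
              (algebraMap (AdjoinRoot (X ^ e - C π : A[X])) L') := by
  constructor
  · intro h
    obtain ⟨e₀, he₀, he₀A, hdiv⟩ := exists_e₀ (K := K) π hπ h
    exact ⟨e₀, he₀, he₀A, exists_unram_over_root (K := K) π hπ h e₀ he₀ he₀A hdiv⟩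
  · rintro ⟨e, he, heA, L', _, _, _, φ, -, -, hcompat, hunr⟩
    exact tame_of_unram_over_root π hπ e he heA L' φ hcompat hunr

end Groth.Agent.Lib.R2H1.EtRamRoot2
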