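import Mathlib
import Groth.Prelude.Def_EtRam
import Groth.Agent.Lib.R2H1EtRam
import Groth.Agent.Lib.R2H1EtRamTower
import Groth.Agent.Lib.R2H1EtRamSmooth

/-!
# Separable solutions from solutions (helper1, round 2)

If `L/K` is separable algebraic and a finite extension `K₂/K` is a solution for the extension of
discrete valuation rings `A → B`, then the separable closure `K₁` of `K` in `K₂` is a solution.
The proof transports the solution property along the iterated Frobenius `K₂ → K₁`
(twisted algebra structures on the synonym `Tw M`) and then climbs back up with the ring-level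
form `local_ext_gen` of `EtRamSmooth.local_ext`.

* `local_ext_gen`, `solution_subfield`, `mem_of_pow_mem`, `isAlgebraic_residue_of_pow`
* `solution_of_frobenius`, `exists_separable_solution`
-/

set_option autoImplicit false
set_option linter.unusedSectionVars false
set_option linter.style.haveILetI false

universe u

namespace Groth.Agent.Lib.R2H1.EtRamSepSol

section
open IsLocalRing TensorProduct Groth.Agent.Lib.R2H1.EtRamTower Groth.Agent.Lib.R2H1.EtRam
  Groth.Agent.Lib.R2H1.EtRamSmooth
section Gen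

variable {A B K₁ M : Type u} [CommRing A] [IsLocalRing A] [CommRing B] [IsLocalRing B]
  [Algebra A B] [IsLocalHom (algebraMap A B)] [Field K₁] [Field M]
  (f : K₁ →+* M) (W : ValuationSubring M)
  [Algebra A (W.comap f)] [IsLocalHom (algebraMap A (W.comap f))]
  (g : B →+* M)
  (hcompat : ∀ a : A, f ((algebraMap A (W.comap f) a : W.comap f) : K₁) = g (algebraMap A B a))

/-- ring-level form of `local_ext`: no finiteness of `K₁` over the fraction field of `A`. -/
theorem local_ext_gen (hgW : ∀ b, g b ∈ W) (hw : EtRam.IsWeaklyUnramified A B)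
    [Algebra.IsGeometricallyReduced (ResidueField A) (ResidueField B)]
    [Algebra.IsAlgebraic (ResidueField A) (ResidueField (W.comap f))]
    (π₁ : W.comap f) (hπ₁ : maximalIdeal (W.comap f) = Ideal.span {π₁})
    (hπ₁0 : (π₁ : K₁) ≠ 0)
    (hsep : ∀ w : M, w ≠ 0 → ∃ n : ℕ, W.valuation (f (π₁ : K₁)) ^ n < W.valuation w)
    (hgen : ∀ m : M, ∃ x y : (W.comap f) ⊗[A] B, theta f W g hcompat y ≠ 0 ∧
      m = theta f W g hcompat x / theta f W g hcompat y)
    (gW : B →+* W) (hgW' : ∀ b, ((gW b : W) : M) = g b) [IsLocalHom gW] :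
    letI : Algebra (W.comap f) W := (EtRam.inclOfComap W f).toAlgebra
    EtRam.IsWeaklyUnramified (W.comap f) W ∧
      @Algebra.IsGeometricallyReduced (ResidueField (W.comap f)) (ResidueField W) _ _
        (ResidueField.map (EtRam.inclOfComap W f)).toAlgebra := by
  haveI hTred : IsReduced (ResidueField (W.comap f) ⊗[ResidueField A] ResidueField B) :=
    inferInstance
  have hmax := forall_isMaximal_tensor (ResidueField A) (ResidueField (W.comap f)) (ResidueField B)
  refine ⟨weaklyUnramified_of f W g hcompat hgW hw π₁ hπ₁ hπ₁0 hmax hsep hgen, ?_⟩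
  letI : Algebra (ResidueField (W.comap f)) (ResidueField W) :=
    (ResidueField.map (EtRam.inclOfComap W f)).toAlgebra
  have hspan := span_residue_eq_top f W g hcompat hgW hw π₁ hπ₁ hπ₁0 hmax hsep hgen gW hgW'
  refine isGeometricallyReduced_of_span (ResidueField A) (ResidueField (W.comap f))
    (ResidueField B) (ResidueField W) (ResidueField.map gW) ?_ hspan
  intro a
  obtain ⟨a₀, rfl⟩ := residue_surjective a
  show residue W (gW (algebraMap A B a₀)) =
    residue W (EtRam.inclOfComap W f (algebraMap A (W.comap f) a₀))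
  refine congrArg (residue W) (Subtype.ext ?_)
  rw [hgW']
  exact (hcompat a₀).symm

end Gen

section Subfield

variable (B K L K₂ : Type u) [CommRing B] [IsLocalRing B] [Field K] [Field L] [Field K₂]
  [Algebra K L] [Algebra K K₂] [Algebra B L]

/-- a solution gives weakly unramified + separable local extensions also at non-generated
composita, after passing to the generated subfield -/
theorem solution_subfield (h₂ : EtRam.IsSolution B K L K₂)
    (M₁ : Type u) [Field M₁] [Algebra K M₁] [Algebra L M₁] [Algebra K₂ M₁] [IsScalarTower K L M₁]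
    [IsScalarTower K K₂ M₁] [Algebra.IsAlgebraic L M₁]
    (W₁ : ValuationSubring M₁)
    (hdom : EtRam.Dominates B ((algebraMap L M₁).comp (algebraMap B L)) W₁)
    (M₀ : IntermediateField L M₁)
    (hM₀ : M₀ = IntermediateField.adjoin L (Set.range (algebraMap K₂ M₁)))
    (j : K₂ →+* M₀) (hj : ∀ x, ((j x : M₀) : M₁) = algebraMap K₂ M₁ x) :
    letI : Algebra ((W₁.comap (algebraMap M₀ M₁)).comap j) (W₁.comap (algebraMap M₀ M₁)) :=
      (EtRam.inclOfComap (W₁.comap (algebraMap M₀ M₁)) j).toAlgebra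
    EtRam.IsWeaklyUnramified ((W₁.comap (algebraMap M₀ M₁)).comap j)
        (W₁.comap (algebraMap M₀ M₁)) ∧
      @Algebra.IsGeometricallyReduced
        (ResidueField ((W₁.comap (algebraMap M₀ M₁)).comap j))
        (ResidueField (W₁.comap (algebraMap M₀ M₁))) _ _
        (ResidueField.map (EtRam.inclOfComap (W₁.comap (algebraMap M₀ M₁)) j)).toAlgebra := by
  letI algK₂ : Algebra K₂ M₀ := j.toAlgebra
  haveI : IsScalarTower K K₂ M₀ := IsScalarTower.of_algebraMap_eq (fun k => by
    apply Subtype.ext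
    show algebraMap K M₁ k = ((j (algebraMap K K₂ k) : M₀) : M₁)
    rw [hj, ← IsScalarTower.algebraMap_apply])
  have hgen : Algebra.adjoin L (Set.range (algebraMap K₂ M₀)) = ⊤ := by
    have hinj : Function.Injective M₀.val := M₀.val.injective
    apply Subalgebra.map_injective hinj
    rw [Algebra.map_top, AlgHom.map_adjoin, IntermediateField.range_val]
    have h1 : M₀.toSubalgebra = Algebra.adjoin L (Set.range (algebraMap K₂ M₁)) := by
      rw [hM₀, IntermediateField.adjoin_toSubalgebra_of_isAlgebraic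
        (fun x _ => Algebra.IsAlgebraic.isAlgebraic x)]
    rw [h1]
    congr 1
    ext x
    constructor
    · rintro ⟨_, ⟨y, rfl⟩, rfl⟩
      exact ⟨y, (hj y).symm⟩
    · rintro ⟨y, rfl⟩
      exact ⟨j y, ⟨y, rfl⟩, hj y⟩
  have hdom₀ : EtRam.Dominates B ((algebraMap L M₀).comp (algebraMap B L))
      (W₁.comap (algebraMap M₀ M₁)) := by
    apply dominates_comap
    exact hdom
  exact h₂ M₀ hgen (W₁.comap (algebraMap M₀ M₁)) hdom₀

end Subfield

end

section
open IsLocalRing TensorProduct Groth.Agent.Lib.R2H1.EtRamTower Groth.Agent.Lib.R2H1.EtRam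
  Groth.Agent.Lib.R2H1.EtRamSmooth
section GenTwist

variable (K L K₁ M₁ : Type u) [Field K] [Field L] [Field K₁] [Field M₁]
  [Algebra K L] [Algebra K K₁] [Algebra K M₁] [Algebra L M₁] [Algebra K₁ M₁]
  [IsScalarTower K L M₁] [IsScalarTower K K₁ M₁] [Algebra.IsSeparable K L]

theorem mem_of_pow_mem (p a : ℕ) [ExpChar K p]
    (hgen₁ : Algebra.adjoin L (Set.range (algebraMap K₁ M₁)) = ⊤) (S : Subring M₁)
    (hL : ∀ l : L, (algebraMap L M₁ l) ^ p ^ a ∈ S) (hK₁ : ∀ x : K₁, algebraMap K₁ M₁ x ∈ S)
    (m : M₁) : m ∈ S := by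
  let Lgood : Subalgebra K L :=
    { carrier := {l | algebraMap L M₁ l ∈ S}
      mul_mem' := fun {x y} hx hy => by
        show algebraMap L M₁ (x * y) ∈ S
        rw [map_mul]; exact S.mul_mem hx hy
      add_mem' := fun {x y} hx hy => by
        show algebraMap L M₁ (x + y) ∈ S
        rw [map_add]; exact S.add_mem hx hy
      algebraMap_mem' := fun k => by
        show algebraMap L M₁ (algebraMap K L k) ∈ S
        rw [← IsScalarTower.algebraMap_apply, IsScalarTower.algebraMap_apply K K₁ M₁]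
        exact hK₁ _ }
  have htop : Lgood = ⊤ := by
    rw [eq_top_iff]
    have h1 := IntermediateField.adjoin_eq_adjoin_pow_expChar_pow_of_isSeparable' K L Set.univ p a
    rw [IntermediateField.adjoin_univ] at h1
    have h2 : (⊤ : IntermediateField K L).toSubalgebra =
        Algebra.adjoin K ((· ^ p ^ a) '' (Set.univ : Set L)) := by
      rw [h1, IntermediateField.adjoin_toSubalgebra_of_isAlgebraic
        (fun x _ => Algebra.IsAlgebraic.isAlgebraic x)]
    rw [IntermediateField.top_toSubalgebra] at h2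
    rw [h2]
    apply Algebra.adjoin_le
    rintro _ ⟨l, -, rfl⟩
    show algebraMap L M₁ (l ^ p ^ a) ∈ S
    rw [map_pow]; exact hL l
  have hLmem : ∀ l : L, algebraMap L M₁ l ∈ S := fun l => by
    have : l ∈ Lgood := by rw [htop]; trivial
    exact this
  have hm : m ∈ Algebra.adjoin L (Set.range (algebraMap K₁ M₁)) := by rw [hgen₁]; trivial
  induction hm using Algebra.adjoin_induction with
  | mem x hx =>
    obtain ⟨y, rfl⟩ := hx
    exact hK₁ y
  | algebraMap l => exact hLmem l
  | add x y _ _ hx hy => exact S.add_mem hx hy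
  | mul x y _ _ hx hy => exact S.mul_mem hx hy

end GenTwist

section ResAlg

variable {A' V₁ : Type u} [CommRing A'] [IsLocalRing A'] [CommRing V₁] [IsLocalRing V₁]
  [Algebra A' V₁] [IsLocalHom (algebraMap A' V₁)]

theorem isAlgebraic_residue_of_pow (n : ℕ) (hn : 0 < n)
    (h : ∀ x : V₁, ∃ y : A', algebraMap A' V₁ y = x ^ n) :
    Algebra.IsAlgebraic (ResidueField A') (ResidueField V₁) := by
  refine ⟨fun x => ?_⟩
  obtain ⟨x, rfl⟩ := residue_surjective x
  obtain ⟨y, hy⟩ := h x
  apply IsAlgebraic.of_pow hn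
  have h1 : (residue V₁ x) ^ n = algebraMap (ResidueField A') (ResidueField V₁) (residue A' y) := by
    rw [← map_pow, ← hy]
    rfl
  rw [h1]
  exact isAlgebraic_algebraMap _

end ResAlg

end

section
open IsLocalRing TensorProduct Groth.Agent.Lib.R2H1.EtRamTower Groth.Agent.Lib.R2H1.EtRam
  Groth.Agent.Lib.R2H1.EtRamSmooth
/-- type synonym carrying Frobenius-twisted algebra structures -/
def Tw (M : Type u) : Type u := M

noncomputable instance (M : Type u) [Field M] : Field (Tw M) := inferInstanceAs (Field M)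

/-- the identity map into the synonym -/
def toTw (M : Type u) [Field M] : M →+* Tw M := RingHom.id M

/-- the identity map out of the synonym -/
def ofTw (M : Type u) [Field M] : Tw M →+* M := RingHom.id M

theorem dominates_self {K : Type u} [Field K] (V : ValuationSubring K) :
    EtRam.Dominates V V.subtype V :=
  ⟨fun a => a.2, fun a ha => (V.valuation_lt_one_iff a).mp ha⟩

section Key

variable (A B K L : Type u) [CommRing A] [IsDomain A] [IsDiscreteValuationRing A]
  [CommRing B] [IsDomain B] [IsDiscreteValuationRing B] [Algebra A B] [IsLocalHom (algebraMap A B)]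
  [Field K] [Field L] [Algebra A K] [IsFractionRing A K] [Algebra B L] [IsFractionRing B L]
  [Algebra K L] [Algebra A L] [IsScalarTower A K L] [IsScalarTower A B L] [Algebra.IsSeparable K L]
  (K₁ K₂ : Type u) [Field K₁] [Field K₂] [Algebra K K₁] [Algebra K K₂] [Algebra K₁ K₂]
  [IsScalarTower K K₁ K₂] [FiniteDimensional K K₁]
  (p : ℕ) [hp : Fact p.Prime] [CharP K p] (a : ℕ) (ψ : K₂ →+* K₁)
  (hψ : ∀ x, algebraMap K₁ K₂ (ψ x) = x ^ p ^ a)

include A hψ in
theorem solution_of_frobenius (h₂ : EtRam.IsSolution B K L K₂) : EtRam.IsSolution B K L K₁ := by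
  intro M₁ _ _ _ _ _ _ hgen₁ W₁ hdom₁
  -- the DVR-side data, as in `local_ext`
  have hmemA := algebraMap_compat A B K L K₁ M₁
  have hA : ∀ a : A, ((algebraMap K K₁).comp (algebraMap A K)) a ∈
      W₁.comap (algebraMap K₁ M₁) := fun a => by
    show algebraMap K₁ M₁ _ ∈ W₁
    rw [RingHom.comp_apply, hmemA]; exact hdom₁.1 _
  letI algAV : Algebra A (W₁.comap (algebraMap K₁ M₁)) :=
    (RingHom.codRestrict ((algebraMap K K₁).comp (algebraMap A K))
      (W₁.comap (algebraMap K₁ M₁)) hA).toAlgebra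
  have hdomA : EtRam.Dominates A ((algebraMap K K₁).comp (algebraMap A K))
      (W₁.comap (algebraMap K₁ M₁)) := by
    apply dominates_comap
    refine ⟨fun a => ?_, fun a ha => ?_⟩
    · rw [RingHom.comp_apply, RingHom.comp_apply, hmemA]; exact hdom₁.1 _
    · rw [RingHom.comp_apply, RingHom.comp_apply, hmemA]
      apply hdom₁.2
      rw [mem_maximalIdeal, mem_nonunits_iff] at ha ⊢
      exact fun hu => ha (IsLocalHom.map_nonunit a hu)
  haveI locAV : IsLocalHom (algebraMap A (W₁.comap (algebraMap K₁ M₁))) :=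
    isLocalHom_codRestrict _ _ hdomA
  have hAV : ∀ a, ((algebraMap A (W₁.comap (algebraMap K₁ M₁)) a :
      W₁.comap (algebraMap K₁ M₁)) : K₁) = algebraMap K K₁ (algebraMap A K a) := fun _ => rfl
  obtain ⟨⟨π₁, hπ₁, hπ₁0⟩, hpow, hfin⟩ := ka_facts A K K₁ (W₁.comap (algebraMap K₁ M₁)) hAV
  haveI : Algebra.IsAlgebraic L M₁ := isAlgebraic_of_adjoin K L K₁ M₁ hgen₁
  haveI : Algebra.IsAlgebraic K M₁ := Algebra.IsAlgebraic.trans K L M₁
  have hπ₁m : π₁ ∈ maximalIdeal (W₁.comap (algebraMap K₁ M₁)) :=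
    hπ₁ ▸ Ideal.mem_span_singleton_self π₁
  -- characteristic
  haveI : ExpChar K p := ExpChar.prime hp.out
  haveI : CharP M₁ p := charP_of_injective_algebraMap (algebraMap K M₁).injective p
  haveI : ExpChar M₁ p := ExpChar.prime hp.out
  have hpa : 0 < p ^ a := pow_pos hp.out.pos a
  let Fr : M₁ →+* M₁ := iterateFrobenius M₁ p a
  have hFr : ∀ x, Fr x = x ^ p ^ a := fun x => rfl
  have hψ₁ : ∀ x : K₁, ψ (algebraMap K₁ K₂ x) = x ^ p ^ a := by
    intro x
    apply (algebraMap K₁ K₂).injective
    rw [hψ, map_pow]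
  let κ₂ : K₂ →+* M₁ := (algebraMap K₁ M₁).comp ψ
  have hκ₂K : ∀ k : K, κ₂ (algebraMap K K₂ k) = Fr (algebraMap K M₁ k) := by
    intro k
    show algebraMap K₁ M₁ (ψ (algebraMap K K₂ k)) = _
    rw [IsScalarTower.algebraMap_apply K K₁ K₂, hψ₁, map_pow,
      ← IsScalarTower.algebraMap_apply, hFr]
  -- twisted structures
  letI twK : Algebra K (Tw M₁) := ((toTw M₁).comp (Fr.comp (algebraMap K M₁))).toAlgebra
  letI twL : Algebra L (Tw M₁) := ((toTw M₁).comp (Fr.comp (algebraMap L M₁))).toAlgebra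
  letI twK₂ : Algebra K₂ (Tw M₁) := ((toTw M₁).comp κ₂).toAlgebra
  haveI : IsScalarTower K L (Tw M₁) := IsScalarTower.of_algebraMap_eq (fun k => by
    show Fr (algebraMap K M₁ k) = Fr (algebraMap L M₁ (algebraMap K L k))
    rw [← IsScalarTower.algebraMap_apply])
  haveI : IsScalarTower K K₂ (Tw M₁) :=
    IsScalarTower.of_algebraMap_eq (fun k => (hκ₂K k).symm)
  haveI : Algebra.IsAlgebraic L (Tw M₁) := by
    refine ⟨fun x => ?_⟩
    apply IsAlgebraic.of_pow hpa
    obtain ⟨P, hP0, hP⟩ := Algebra.IsAlgebraic.isAlgebraic (R := L) (ofTw M₁ x)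
    refine ⟨P, hP0, ?_⟩
    rw [Polynomial.aeval_def] at hP ⊢
    have h1 := Polynomial.hom_eval₂ P (algebraMap L M₁) Fr (ofTw M₁ x)
    rw [hP, map_zero, hFr] at h1
    exact h1.symm
  let W₁' : ValuationSubring (Tw M₁) := W₁.comap (ofTw M₁)
  have hdom' : EtRam.Dominates B ((algebraMap L (Tw M₁)).comp (algebraMap B L)) W₁' := by
    apply dominates_comap
    refine ⟨fun b => ?_, fun b hb => ?_⟩
    · show Fr (algebraMap L M₁ (algebraMap B L b)) ∈ W₁
      rw [hFr]; exact pow_mem (hdom₁.1 b) _
    · show W₁.valuation (Fr (algebraMap L M₁ (algebraMap B L b))) < 1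
      rw [hFr, map_pow]
      exact pow_lt_one₀ zero_le (hdom₁.2 b hb) hpa.ne'
  let M₀ : IntermediateField L (Tw M₁) :=
    IntermediateField.adjoin L (Set.range (algebraMap K₂ (Tw M₁)))
  let j : K₂ →+* M₀ := (algebraMap K₂ (Tw M₁)).codRestrict M₀
    (fun x => IntermediateField.subset_adjoin _ _ ⟨x, rfl⟩)
  obtain ⟨hWU, hGR⟩ := solution_subfield B K L K₂ h₂ (Tw M₁) W₁' hdom' M₀ rfl j (fun _ => rfl)
  -- the extension `A' → B'`
  let W₀ : ValuationSubring M₀ := W₁'.comap (algebraMap M₀ (Tw M₁))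
  letI algA'B' : Algebra (W₀.comap j) W₀ := (EtRam.inclOfComap W₀ j).toAlgebra
  haveI locA'B' : IsLocalHom (algebraMap (W₀.comap j) W₀) := EtRam.isLocalHom_inclOfComap W₀ j
  have hA'V : ∀ x : W₀.comap j, (ψ.comp (W₀.comap j).subtype) x ∈
      W₁.comap (algebraMap K₁ M₁) := fun x => x.2
  letI algA'V : Algebra (W₀.comap j) (W₁.comap (algebraMap K₁ M₁)) :=
    ((ψ.comp (W₀.comap j).subtype).codRestrict (W₁.comap (algebraMap K₁ M₁)) hA'V).toAlgebra
  let ι : M₀ →+* M₁ := (ofTw M₁).comp (algebraMap M₀ (Tw M₁))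
  have hdomA' : EtRam.Dominates (W₀.comap j) (ψ.comp (W₀.comap j).subtype)
      (W₁.comap (algebraMap K₁ M₁)) := by
    apply dominates_comap
    have h1 : EtRam.Dominates (W₀.comap j) (j.comp (W₀.comap j).subtype) W₀ :=
      dominates_of_comap j _ W₀ (dominates_self (W₀.comap j))
    have h2 : EtRam.Dominates (W₀.comap j)
        ((algebraMap M₀ (Tw M₁)).comp (j.comp (W₀.comap j).subtype)) W₁' :=
      dominates_of_comap _ _ W₁' h1
    have h3 : EtRam.Dominates (W₀.comap j)
        ((ofTw M₁).comp ((algebraMap M₀ (Tw M₁)).comp (j.comp (W₀.comap j).subtype))) W₁ :=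
      dominates_of_comap _ _ W₁ h2
    exact ⟨fun x => h3.1 x, fun x hx => h3.2 x hx⟩
  haveI locA'V : IsLocalHom (algebraMap (W₀.comap j) (W₁.comap (algebraMap K₁ M₁))) :=
    isLocalHom_codRestrict _ _ hdomA'
  let g : W₀ →+* M₁ := ι.comp W₀.subtype
  have hcompat : ∀ x : W₀.comap j, algebraMap K₁ M₁
      ((algebraMap (W₀.comap j) (W₁.comap (algebraMap K₁ M₁)) x :
        W₁.comap (algebraMap K₁ M₁)) : K₁) = g (algebraMap (W₀.comap j) W₀ x) := fun x => rfl
  have hgW : ∀ b : W₀, g b ∈ W₁ := fun b => b.2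
  haveI hGR' : Algebra.IsGeometricallyReduced (ResidueField (W₀.comap j)) (ResidueField W₀) := by
    have halgeq : (ResidueField.map (EtRam.inclOfComap W₀ j)).toAlgebra =
        (ResidueField.instAlgebra : Algebra (ResidueField (W₀.comap j)) (ResidueField W₀)) := by
      apply Algebra.algebra_ext
      intro r
      obtain ⟨r, rfl⟩ := residue_surjective r
      rfl
    rw [← halgeq]
    exact hGR
  haveI halg' : Algebra.IsAlgebraic (ResidueField (W₀.comap j))
      (ResidueField (W₁.comap (algebraMap K₁ M₁))) := by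
    apply isAlgebraic_residue_of_pow (p ^ a) hpa
    intro x
    have hmem : algebraMap K₁ K₂ (x : K₁) ∈ W₀.comap j := by
      show algebraMap K₁ M₁ (ψ (algebraMap K₁ K₂ (x : K₁))) ∈ W₁
      rw [hψ₁, map_pow]
      exact pow_mem (show algebraMap K₁ M₁ (x : K₁) ∈ W₁ from x.2) _
    refine ⟨⟨algebraMap K₁ K₂ (x : K₁), hmem⟩, Subtype.ext ?_⟩
    show ψ (algebraMap K₁ K₂ (x : K₁)) = ((x ^ p ^ a : W₁.comap (algebraMap K₁ M₁)) : K₁)
    rw [hψ₁, SubmonoidClass.coe_pow]
  -- separation
  have hsep : ∀ w : M₁, w ≠ 0 → ∃ n : ℕ,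
      W₁.valuation (algebraMap K₁ M₁ (π₁ : K₁)) ^ n < W₁.valuation w := by
    haveI : IsLocalHom (algebraMap A A) := ⟨fun a h => h⟩
    have hcA : ∀ a : A, algebraMap K₁ M₁
        ((algebraMap A (W₁.comap (algebraMap K₁ M₁)) a : W₁.comap (algebraMap K₁ M₁)) : K₁) =
        ((algebraMap K M₁).comp (algebraMap A K)) (algebraMap A A a) := by
      intro a
      show algebraMap K₁ M₁ (algebraMap K K₁ (algebraMap A K a)) = _
      rw [← IsScalarTower.algebraMap_apply K K₁ M₁]
      rfl
    have hgWA : ∀ a : A, ((algebraMap K M₁).comp (algebraMap A K)) a ∈ W₁ := by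
      intro a
      rw [RingHom.comp_apply, IsScalarTower.algebraMap_apply K K₁ M₁, hmemA]
      exact hdom₁.1 _
    have hwA : EtRam.IsWeaklyUnramified A A := by
      show (maximalIdeal A).map (algebraMap A A) = maximalIdeal A
      rw [Algebra.algebraMap_self, Ideal.map_id]
    exact exists_pow_lt (algebraMap K₁ M₁) W₁ ((algebraMap K M₁).comp (algebraMap A K)) hcA K
      (fun b => rfl) hgWA hwA π₁ hπ₁m hπ₁0 (hpow π₁ hπ₁)
  -- generation
  letI algM₀ : Algebra M₀ M₁ := ι.toAlgebra
  have hgenM : Algebra.adjoin M₀ (Set.range (algebraMap K₁ M₁)) = ⊤ := by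
    rw [Algebra.eq_top_iff]
    intro m
    refine mem_of_pow_mem K L K₁ M₁ p a hgen₁
      (Algebra.adjoin M₀ (Set.range (algebraMap K₁ M₁))).toSubring ?_ ?_ m
    · intro l
      have h1 : (algebraMap L M₁ l) ^ p ^ a = algebraMap M₀ M₁ (algebraMap L M₀ l) := by
        rw [← hFr]; rfl
      rw [h1]
      exact Subalgebra.algebraMap_mem _ _
    · intro x
      exact Algebra.subset_adjoin ⟨x, rfl⟩
  have hgen' := exists_theta_div (algebraMap K₁ M₁) W₁ g hcompat M₀ (fun b => rfl) hgenM
  let gW : W₀ →+* W₁ := RingHom.codRestrict g W₁ hgW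
  have hdomB' : EtRam.Dominates W₀ g W₁ := by
    have h2 : EtRam.Dominates W₀ ((algebraMap M₀ (Tw M₁)).comp W₀.subtype) W₁' :=
      dominates_of_comap _ _ W₁' (dominates_self W₀)
    have h3 : EtRam.Dominates W₀
        ((ofTw M₁).comp ((algebraMap M₀ (Tw M₁)).comp W₀.subtype)) W₁ :=
      dominates_of_comap _ _ W₁ h2
    exact ⟨fun x => h3.1 x, fun x hx => h3.2 x hx⟩
  haveI : IsLocalHom gW := isLocalHom_codRestrict _ W₁ hdomB'
  exact local_ext_gen (algebraMap K₁ M₁) W₁ g hcompat hgW hWU π₁ hπ₁ hπ₁0 hsep hgen' gW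
    (fun _ => rfl)

end Key

end

section
open IsLocalRing TensorProduct Groth.Agent.Lib.R2H1.EtRamTower Groth.Agent.Lib.R2H1.EtRam
  Groth.Agent.Lib.R2H1.EtRamSmooth
section Final

variable (A B K L : Type u) [CommRing A] [IsDomain A] [IsDiscreteValuationRing A]
  [CommRing B] [IsDomain B] [IsDiscreteValuationRing B] [Algebra A B] [IsLocalHom (algebraMap A B)]
  [Field K] [Field L] [Algebra A K] [IsFractionRing A K] [Algebra B L] [IsFractionRing B L]
  [Algebra K L] [Algebra A L] [IsScalarTower A K L] [IsScalarTower A B L] [Algebra.IsSeparable K L]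
  (K₂ : Type u) [Field K₂] [Algebra K K₂] [FiniteDimensional K K₂]

include A in
theorem exists_separable_solution (h₂ : EtRam.IsSolution B K L K₂) :
    ∃ (K₃ : Type u) (_ : Field K₃) (_ : Algebra K K₃) (_ : FiniteDimensional K K₃)
      (_ : Algebra.IsSeparable K K₃), EtRam.IsSolution B K L K₃ := by
  obtain ⟨p, hp⟩ := CharP.exists K
  rcases CharP.char_is_prime_or_zero K p with hpp | hp0
  · haveI := Fact.mk hpp
    haveI : IsPurelyInseparable (separableClosure K K₂) K₂ :=
      separableClosure.isPurelyInseparable K K₂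
    haveI : CharP (separableClosure K K₂) p :=
      charP_of_injective_algebraMap (algebraMap K (separableClosure K K₂)).injective p
    haveI : ExpChar (separableClosure K K₂) p := ExpChar.prime hpp
    refine ⟨separableClosure K K₂, inferInstance, inferInstance, inferInstance, inferInstance, ?_⟩
    exact solution_of_frobenius A B K L (separableClosure K K₂) K₂ p
      (IsPurelyInseparable.exponent (separableClosure K K₂) K₂)
      (IsPurelyInseparable.iterateFrobenius (separableClosure K K₂) K₂ p (le_refl _))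
      (fun x => IsPurelyInseparable.algebraMap_iterateFrobenius (separableClosure K K₂) p
        (le_refl _) x) h₂
  · subst hp0
    haveI : CharZero K := CharP.charP_to_charZero K
    haveI : Algebra.IsSeparable K K₂ := Algebra.IsAlgebraic.isSeparable_of_perfectField
    exact ⟨K₂, inferInstance, inferInstance, inferInstance, inferInstance, h₂⟩

end Final

end

end Groth.Agent.Lib.R2H1.EtRamSepSol
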