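/-
One-dimensional closed irreducible subsets of a fibred surface (S7919): chains of points and
topological Krull dimension.
Main results: le_topologicalKrullDim_of_chain (n+1 distinct points each specializing to the previous
give dim >= n), exists_specializes_ne (dim >= 1 in quasi-sober T0 space gives two comparable distinct
points), main.
-/
import Mathlib
import Groth.Prelude

set_option autoImplicit false
set_option linter.style.haveILetI false
set_option linter.unusedSectionVars false
universe u v

namespace Groth.Agent.Lib.R2H1.FibSurfCurve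

section Part1

open TopologicalSpace

/-- a chain of `n + 1` distinct points, each specializing to the previous, forces dimension `≥ n`. -/
theorem le_topologicalKrullDim_of_chain {Y : Type*} [TopologicalSpace Y] [T0Space Y] (n : ℕ)
    (y : Fin (n + 1) → Y)
    (h : ∀ i : Fin n, y i.succ ⤳ y i.castSucc ∧ y i.succ ≠ y i.castSucc) :
    (n : WithBot ℕ∞) ≤ topologicalKrullDim Y := by
  let g : Fin (n + 1) → IrreducibleCloseds Y := fun i =>
    ⟨closure {y i}, isIrreducible_singleton.closure, isClosed_closure⟩
  have hg : StrictMono g := by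
    rw [Fin.strictMono_iff_lt_succ]
    intro i
    obtain ⟨h1, h2⟩ := h i
    have hle : closure {y i.castSucc} ⊆ closure {y i.succ} :=
      specializes_iff_closure_subset.mp h1
    refine lt_of_le_of_ne (show g i.castSucc ≤ g i.succ from hle) ?_
    intro heq
    apply h2
    have h3 : closure {y i.castSucc} = closure {y i.succ} := congrArg (fun Z => Z.carrier) heq
    have h4 : y i.castSucc ⤳ y i.succ := specializes_iff_closure_subset.mpr h3.ge
    exact (h1.antisymm h4).eq
  have := Order.LTSeries.length_le_krullDim (LTSeries.mk n g hg)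
  exact this

/-- in a quasi-sober T0 space of dimension `≥ 1` there are two distinct points, one specializing to
the other. -/
theorem exists_specializes_ne {Y : Type*} [TopologicalSpace Y] [T0Space Y] [QuasiSober Y]
    (h : (1 : WithBot ℕ∞) ≤ topologicalKrullDim Y) : ∃ a b : Y, b ⤳ a ∧ a ≠ b := by
  have h' : ((1 : ℕ) : WithBot ℕ∞) ≤ Order.krullDim (IrreducibleCloseds Y) := by exact_mod_cast h
  obtain ⟨l, hl⟩ := Order.le_krullDim_iff.mp h'
  have hlt : l ⟨0, by omega⟩ < l ⟨1, by omega⟩ := l.strictMono (by simp [Fin.lt_def])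
  obtain ⟨a, ha⟩ := QuasiSober.sober (l ⟨0, by omega⟩).isIrreducible' (l ⟨0, by omega⟩).isClosed'
  obtain ⟨b, hb⟩ := QuasiSober.sober (l ⟨1, by omega⟩).isIrreducible' (l ⟨1, by omega⟩).isClosed'
  refine ⟨a, b, ?_, ?_⟩
  · rw [specializes_iff_mem_closure, hb.def]
    have hmem : a ∈ (l ⟨0, by omega⟩ : Set Y) := by
      have h0 : closure {a} = (l ⟨0, by omega⟩ : Set Y) := ha.def
      rw [← h0]; exact subset_closure rfl
    exact hlt.le hmem
  · rintro rfl
    exact hlt.ne (IrreducibleCloseds.ext (ha.def.symm.trans hb.def))

end Part1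

section Part2

open CategoryTheory AlgebraicGeometry TopologicalSpace

/-- a one-dimensional closed irreducible subset of a flat proper integral scheme of dimension two
over a Dedekind domain is a fibre component or the closure of a closed point of the generic fibre. -/
theorem main {R : Type u} [CommRing R] [IsDedekindDomain R]
    (hR : ¬ IsField R) (X : Scheme.{u}) (f : X ⟶ Spec (CommRingCat.of R)) [IsIntegral X]
    (hdim : topologicalKrullDim X = 2) [Flat f] [UniversallyClosed f]
    (D : Set X) (hD : IsClosed D) (hirr : IsIrreducible D) (hD1 : topologicalKrullDim D = 1) :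
    (∃ s : (Spec (CommRingCat.of R) : Scheme.{u}), s.asIdeal.IsMaximal ∧ D ⊆ f.base ⁻¹' {s} ∧
        ∀ D' : Set X, IsIrreducible D' → D' ⊆ f.base ⁻¹' {s} → D ⊆ D' → D' = D) ∨
      (∃ x : X, (f.base x).asIdeal = ⊥ ∧
        (∀ z : X, (f.base z).asIdeal = ⊥ → x ⤳ z → z = x) ∧ D = closure {x}) := by
  obtain ⟨ξ, hξ⟩ := QuasiSober.sober hirr hD
  have hξD : closure {ξ} = D := hξ.def
  -- the generic point of Spec R
  let η : (Spec (CommRingCat.of R) : Scheme.{u}) := ⟨⊥, Ideal.bot_prime⟩
  have hη : ∀ t : (Spec (CommRingCat.of R) : Scheme.{u}), η ⤳ t := by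
    intro t
    exact (PrimeSpectrum.le_iff_specializes η t).mp bot_le
  haveI : QuasiSober D := hD.isClosedEmbedding_subtypeVal.quasiSober
  by_cases hs : (f.base ξ).asIdeal = ⊥
  · -- horizontal case
    right
    refine ⟨ξ, hs, ?_, hξD.symm⟩
    intro z hz hsp
    by_contra hne
    -- a maximal ideal of R which is not zero
    obtain ⟨𝔪, h𝔪⟩ := Ideal.exists_maximal R
    have h𝔪0 : 𝔪 ≠ ⊥ := by
      rintro rfl
      exact hR (Ring.isField_iff_maximal_bot.mpr h𝔪)
    let t : (Spec (CommRingCat.of R) : Scheme.{u}) := ⟨𝔪, h𝔪.isPrime⟩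
    -- the image of closure {z} is closed and contains the generic point
    have hcl : IsClosed (f.base '' closure {z}) := f.isClosedMap _ isClosed_closure
    have hfz : f.base z = η := PrimeSpectrum.ext hz
    have ht : t ∈ f.base '' closure {z} := by
      have h1 : η ∈ f.base '' closure {z} := ⟨z, subset_closure rfl, hfz⟩
      exact (hη t).mem_closed hcl h1
    obtain ⟨z', hz', hfz'⟩ := ht
    have hzz' : z ⤳ z' := specializes_iff_mem_closure.mpr hz'
    have hne' : z ≠ z' := by
      rintro rfl
      apply h𝔪0
      have : η = t := hfz.symm.trans hfz'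
      exact (congrArg PrimeSpectrum.asIdeal this).symm
    have hzD : z ∈ D := by rw [← hξD]; exact hsp.mem_closure
    have hz'D : z' ∈ D := by rw [← hξD]; exact (hsp.trans hzz').mem_closure
    have hξD' : ξ ∈ D := by rw [← hξD]; exact subset_closure rfl
    have key := le_topologicalKrullDim_of_chain (Y := D) 2
      ![⟨z', hz'D⟩, ⟨z, hzD⟩, ⟨ξ, hξD'⟩] (by
        intro i
        fin_cases i
        · exact ⟨(subtype_specializes_iff _ _).mpr hzz', fun h => hne' (congrArg Subtype.val h)⟩
        · exact ⟨(subtype_specializes_iff _ _).mpr hsp,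
            fun h => hne (congrArg Subtype.val h).symm⟩)
    rw [hD1] at key
    exact absurd key (by decide)
  · -- vertical case
    left
    have hmax : (f.base ξ).asIdeal.IsMaximal :=
      Ideal.IsPrime.isMaximal (f.base ξ).2 hs
    have hclosed : IsClosed ({f.base ξ} : Set (Spec (CommRingCat.of R) : Scheme.{u})) :=
      (PrimeSpectrum.isClosed_singleton_iff_isMaximal _).mpr hmax
    have hFcl : IsClosed (f.base ⁻¹' {f.base ξ}) := hclosed.preimage f.base.hom.continuous
    have hDF : D ⊆ f.base ⁻¹' {f.base ξ} := by
      rw [← hξD]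
      exact hFcl.closure_subset_iff.mpr (Set.singleton_subset_iff.mpr rfl)
    refine ⟨f.base ξ, hmax, hDF, ?_⟩
    intro D' hD'irr hD'F hDD'
    by_contra hne
    -- generic point of the closure of D'
    obtain ⟨ζ, hζ⟩ := QuasiSober.sober hD'irr.closure isClosed_closure
    have hζdef : closure {ζ} = closure D' := hζ.def
    have hζF : ζ ∈ f.base ⁻¹' {f.base ξ} := by
      have : ζ ∈ closure D' := by rw [← hζdef]; exact subset_closure rfl
      exact (hFcl.closure_subset_iff.mpr hD'F) this
    have hζξ : ζ ⤳ ξ := by
      rw [specializes_iff_mem_closure, hζdef]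
      exact subset_closure (hDD' (by rw [← hξD]; exact subset_closure rfl))
    have hζne : ζ ≠ ξ := by
      rintro rfl
      apply hne
      apply Set.Subset.antisymm _ hDD'
      rw [← hξD, hζdef]
      exact subset_closure
    -- the generic point of X is not in the fibre
    have hgen : genericPoint X ∉ f.base ⁻¹' {f.base ξ} := by
      intro hmem
      have huniv : (Set.univ : Set X) ⊆ f.base ⁻¹' {f.base ξ} := by
        rw [← (genericPoint_spec X).def]
        exact hFcl.closure_subset_iff.mpr (Set.singleton_subset_iff.mpr hmem)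
      obtain ⟨x', -, hx'⟩ := Flat.generalizingMap f (hη (f.base ξ))
      have h1 : f.base x' = f.base ξ := huniv (Set.mem_univ x')
      apply hs
      rw [← h1, hx']
    have hgζ : genericPoint X ⤳ ζ := genericPoint_specializes ζ
    have hgne : genericPoint X ≠ ζ := fun h => hgen (h ▸ hζF)
    -- two points in D
    obtain ⟨a, b, hba, hab⟩ := exists_specializes_ne (Y := D) (by rw [hD1])
    have hba' : (b : X) ⤳ a := (subtype_specializes_iff _ _).mp hba
    have hξb : ξ ⤳ (b : X) := by
      rw [specializes_iff_mem_closure, hξD]; exact b.2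
    have hξa : ξ ⤳ (a : X) := hξb.trans hba'
    have hξane : ξ ≠ (a : X) := by
      intro h
      apply hab
      apply Subtype.ext
      have h2 : (a : X) ⤳ b := h ▸ hξb
      exact (h2.antisymm hba').eq
    have key := le_topologicalKrullDim_of_chain (Y := X) 3
      ![(a : X), ξ, ζ, genericPoint X] (by
        intro i
        fin_cases i
        · exact ⟨hξa, hξane⟩
        · exact ⟨hζξ, hζne⟩
        · exact ⟨hgζ, hgne⟩)
    rw [hdim] at key
    exact absurd key (by decide)

end Part2

end Groth.Agent.Lib.R2H1.FibSurfCurve
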