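/-
Lifting an isomorphism of quotients `A'/fⁿ ≃ B'/gⁿ` to a finite extension `B ⊇ B'` with
`A/fA ≃ B/gB`, where `A ⊇ A'` is finite with `A'_f = A_f` (helper1, round 2). Main result
`main_7152`; the construction is carried by the structure `Setup`.
-/
import Mathlib

set_option autoImplicit false
set_option linter.style.haveILetI false
set_option linter.unusedSectionVars false
universe u

namespace Groth.Agent.Lib.R2H1.FinExtLift

section Part1

section Step1

variable {A' A : Type u} [CommRing A'] [CommRing A] [Algebra A' A]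

/-- every element of `A` becomes an element of `A'` after multiplication by a power of `f`. -/
theorem exists_pow_mul_mem_one (f : A')
    (hf : algebraMap A' A f ∈ nonZeroDivisors A)
    (hloc : Function.Bijective (IsLocalization.Away.map (Localization.Away f)
      (Localization.Away (algebraMap A' A f)) (algebraMap A' A) f)) (a : A) :
    ∃ (k : ℕ) (a' : A'), algebraMap A' A a' = (algebraMap A' A f) ^ k * a := by
  obtain ⟨z, hz⟩ := hloc.2 (algebraMap A (Localization.Away (algebraMap A' A f)) a)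
  obtain ⟨a', ⟨_, k, rfl⟩, rfl⟩ := IsLocalization.exists_mk'_eq (Submonoid.powers f) z
  rw [IsLocalization.Away.map, IsLocalization.map_mk', eq_comm,
    IsLocalization.eq_mk'_iff_mul_eq, ← map_mul] at hz
  obtain ⟨⟨_, l, rfl⟩, hc⟩ := (IsLocalization.eq_iff_exists
    (Submonoid.powers (algebraMap A' A f)) _).mp hz
  dsimp only at hc
  have hnz : (algebraMap A' A f) ^ l ∈ nonZeroDivisors A := pow_mem hf l
  have := mul_cancel_left_mem_nonZeroDivisors hnz |>.mp hc
  refine ⟨k, a', ?_⟩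
  rw [← this, map_pow, mul_comm]

theorem exists_pow_mul_mem [Module.Finite A' A] (f : A')
    (hf : algebraMap A' A f ∈ nonZeroDivisors A)
    (hloc : Function.Bijective (IsLocalization.Away.map (Localization.Away f)
      (Localization.Away (algebraMap A' A f)) (algebraMap A' A) f)) :
    ∃ t : ℕ, ∀ a : A, ∃ a' : A', algebraMap A' A a' = (algebraMap A' A f) ^ t * a := by
  classical
  obtain ⟨s, hs⟩ := (Module.Finite.fg_top : (⊤ : Submodule A' A).FG)
  -- monotonicity
  have hmono : ∀ (k k' : ℕ) (a : A), k ≤ k' →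
      (∃ a' : A', algebraMap A' A a' = (algebraMap A' A f) ^ k * a) →
      ∃ a' : A', algebraMap A' A a' = (algebraMap A' A f) ^ k' * a := by
    rintro k k' a hkk' ⟨a', ha'⟩
    refine ⟨f ^ (k' - k) * a', ?_⟩
    rw [map_mul, map_pow, ha', ← mul_assoc, ← pow_add, Nat.sub_add_cancel hkk']
  have hfin : ∀ s : Finset A, ∃ t : ℕ, ∀ a ∈ s,
      ∃ a' : A', algebraMap A' A a' = (algebraMap A' A f) ^ t * a := by
    intro s
    induction s using Finset.induction_on with
    | empty => exact ⟨0, fun a ha => by simp at ha⟩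
    | insert b s _ ih =>
      obtain ⟨t, ht⟩ := ih
      obtain ⟨k, hk⟩ := exists_pow_mul_mem_one f hf hloc b
      refine ⟨max t k, fun a ha => ?_⟩
      rcases Finset.mem_insert.mp ha with rfl | ha
      · exact hmono k _ _ (le_max_right _ _) hk
      · exact hmono t _ _ (le_max_left _ _) (ht a ha)
  obtain ⟨t, ht⟩ := hfin s
  refine ⟨t, fun a => ?_⟩
  have ha : a ∈ Submodule.span A' (s : Set A) := by rw [hs]; trivial
  induction ha using Submodule.span_induction with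
  | mem x hx => exact ht x hx
  | zero => exact ⟨0, by simp⟩
  | add x y _ _ hx hy =>
    obtain ⟨x', hx'⟩ := hx
    obtain ⟨y', hy'⟩ := hy
    exact ⟨x' + y', by rw [map_add, hx', hy', mul_add]⟩
  | smul c x _ hx =>
    obtain ⟨x', hx'⟩ := hx
    exact ⟨c * x', by rw [map_mul, hx', Algebra.smul_def]; ring⟩

end Step1

end Part1

section Part2

/-- the data of the construction. -/
structure Setup (A' A B' : Type u) [CommRing A'] [CommRing A] [Algebra A' A] [CommRing B'] where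
  f : A'
  t : ℕ
  n : ℕ
  hn : 2 * t + 1 ≤ n
  μ : A → A'
  hμ : ∀ a, algebraMap A' A (μ a) = (algebraMap A' A f) ^ t * a
  hinj : Function.Injective (algebraMap A' A)
  hf : algebraMap A' A f ∈ nonZeroDivisors A
  g : B'
  hg : g ∈ nonZeroDivisors B'
  φ' : (A' ⧸ Ideal.span {f ^ n}) ≃+* (B' ⧸ Ideal.span {g ^ n})
  hφ' : φ' (Ideal.Quotient.mk _ f) = Ideal.Quotient.mk _ g
  X : A → B'
  hX : ∀ a, Ideal.Quotient.mk (Ideal.span {g ^ n}) (X a) = φ' (Ideal.Quotient.mk _ (μ a))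

namespace Setup

variable {A' A B' : Type u} [CommRing A'] [CommRing A] [Algebra A' A] [CommRing B']
  (D : Setup A' A B')

theorem mu_inj {a b : A} (h : D.μ a = D.μ b) : a = b := by
  have h1 := congrArg (algebraMap A' A) h
  rw [D.hμ, D.hμ] at h1
  exact (mul_cancel_left_mem_nonZeroDivisors (pow_mem D.hf D.t)).mp h1

theorem mu_add (a b : A) : D.μ (a + b) = D.μ a + D.μ b := by
  apply D.hinj
  rw [map_add, D.hμ, D.hμ, D.hμ, mul_add]

theorem mu_zero : D.μ 0 = 0 := by
  apply D.hinj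
  rw [D.hμ, mul_zero, map_zero]

theorem mu_one : D.μ 1 = D.f ^ D.t := by
  apply D.hinj
  rw [D.hμ, mul_one, map_pow]

theorem mu_mul (a b : A) : D.μ a * D.μ b = D.f ^ D.t * D.μ (a * b) := by
  apply D.hinj
  rw [map_mul, map_mul, D.hμ, D.hμ, D.hμ, map_pow]
  ring

theorem mu_algebraMap (a' : A') : D.μ (algebraMap A' A a') = D.f ^ D.t * a' := by
  apply D.hinj
  rw [D.hμ, map_mul, map_pow]

theorem mu_smul (c : A') (a : A) : D.μ (algebraMap A' A c * a) = c * D.μ a := by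
  apply D.hinj
  rw [D.hμ, map_mul, D.hμ]
  ring

theorem q_eq_iff (x y : B') : Ideal.Quotient.mk (Ideal.span {D.g ^ D.n}) x
    = Ideal.Quotient.mk (Ideal.span {D.g ^ D.n}) y ↔ ∃ b, x = y + D.g ^ D.n * b := by
  rw [Ideal.Quotient.eq, Ideal.mem_span_singleton']
  constructor
  · rintro ⟨b, hb⟩
    exact ⟨b, by rw [mul_comm, hb]; ring⟩
  · rintro ⟨b, hb⟩
    exact ⟨b, by rw [hb]; ring⟩

theorem p_eq_iff (x y : A') : Ideal.Quotient.mk (Ideal.span {D.f ^ D.n}) x
    = Ideal.Quotient.mk (Ideal.span {D.f ^ D.n}) y ↔ ∃ b, x = y + D.f ^ D.n * b := by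
  rw [Ideal.Quotient.eq, Ideal.mem_span_singleton']
  constructor
  · rintro ⟨b, hb⟩
    exact ⟨b, by rw [mul_comm, hb]; ring⟩
  · rintro ⟨b, hb⟩
    exact ⟨b, by rw [hb]; ring⟩

theorem phi_pow (k : ℕ) : D.φ' (Ideal.Quotient.mk _ (D.f ^ k)) = Ideal.Quotient.mk _ (D.g ^ k) := by
  rw [map_pow, map_pow, D.hφ', map_pow]

theorem exists_phi_eq (b : B') : ∃ c : A', D.φ' (Ideal.Quotient.mk _ c) = Ideal.Quotient.mk _ b := by
  obtain ⟨c, hc⟩ := Ideal.Quotient.mk_surjective (D.φ'.symm (Ideal.Quotient.mk _ b))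
  exact ⟨c, by rw [hc, RingEquiv.apply_symm_apply]⟩

/-- the ideal of `B'` corresponding to `f^t A ⊆ A'`. -/
def JB : Ideal B' where
  carrier := {x | ∃ a : A, Ideal.Quotient.mk (Ideal.span {D.g ^ D.n}) x
    = D.φ' (Ideal.Quotient.mk _ (D.μ a))}
  add_mem' := by
    rintro x y ⟨a, ha⟩ ⟨b, hb⟩
    exact ⟨a + b, by rw [map_add, ha, hb, D.mu_add, map_add, map_add]⟩
  zero_mem' := ⟨0, by rw [D.mu_zero, map_zero, map_zero, map_zero]⟩
  smul_mem' := by
    rintro c x ⟨a, ha⟩
    obtain ⟨c', hc'⟩ := D.exists_phi_eq c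
    exact ⟨algebraMap A' A c' * a, by
      rw [smul_eq_mul, map_mul, ha, ← hc', D.mu_smul, map_mul, map_mul]⟩

theorem mem_JB {x : B'} : x ∈ D.JB ↔ ∃ a : A, Ideal.Quotient.mk (Ideal.span {D.g ^ D.n}) x
    = D.φ' (Ideal.Quotient.mk _ (D.μ a)) := Iff.rfl

theorem X_mem (a : A) : D.X a ∈ D.JB := ⟨a, D.hX a⟩

theorem gt_mem : D.g ^ D.t ∈ D.JB := ⟨1, by rw [D.mu_one, D.phi_pow]⟩

theorem gpow_mem (k : ℕ) (hk : D.t ≤ k) (b : B') : D.g ^ k * b ∈ D.JB := by
  have : D.g ^ k * b = (D.g ^ (k - D.t) * b) * D.g ^ D.t := by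
    rw [mul_assoc, mul_comm b, ← mul_assoc, ← pow_add, Nat.sub_add_cancel hk]
  rw [this]
  exact D.JB.mul_mem_left _ D.gt_mem

theorem X_add (a b : A) : ∃ c, D.X (a + b) = D.X a + D.X b + D.g ^ D.n * c := by
  rw [← D.q_eq_iff, D.hX, D.mu_add, map_add, map_add, map_add, D.hX, D.hX]

theorem X_mul (a b : A) : ∃ c, D.X a * D.X b = D.g ^ D.t * D.X (a * b) + D.g ^ D.n * c := by
  rw [← D.q_eq_iff, map_mul, map_mul, D.hX, D.hX, D.hX, ← D.phi_pow, ← map_mul, ← map_mul,
    ← map_mul, ← map_mul, D.mu_mul]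

theorem X_one : ∃ c, D.X 1 = D.g ^ D.t + D.g ^ D.n * c := by
  rw [← D.q_eq_iff, D.hX, D.mu_one, D.phi_pow]

theorem X_algebraMap (a' : A') (b' : B')
    (h : D.φ' (Ideal.Quotient.mk _ a') = Ideal.Quotient.mk _ b') :
    ∃ c, D.X (algebraMap A' A a') = D.g ^ D.t * b' + D.g ^ D.n * c := by
  rw [← D.q_eq_iff, D.hX, D.mu_algebraMap, map_mul, map_mul, map_mul, h, D.phi_pow]

theorem JB_mul {x₁ x₂ : B'} (h₁ : x₁ ∈ D.JB) (h₂ : x₂ ∈ D.JB) :
    ∃ x₃ ∈ D.JB, x₁ * x₂ = D.g ^ D.t * x₃ := by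
  obtain ⟨a₁, ha₁⟩ := h₁
  obtain ⟨a₂, ha₂⟩ := h₂
  have h : Ideal.Quotient.mk (Ideal.span {D.g ^ D.n}) (x₁ * x₂)
      = Ideal.Quotient.mk _ (D.g ^ D.t * D.X (a₁ * a₂)) := by
    rw [map_mul, map_mul, ha₁, ha₂, D.hX, ← D.phi_pow, ← map_mul, ← map_mul, ← map_mul,
      ← map_mul, D.mu_mul]
  obtain ⟨b, hb⟩ := (D.q_eq_iff _ _).mp h
  have hn := D.hn
  refine ⟨D.X (a₁ * a₂) + D.g ^ (D.n - D.t) * b,
    D.JB.add_mem (D.X_mem _) (D.gpow_mem _ (by omega) b), ?_⟩
  rw [hb, mul_add, ← mul_assoc, ← pow_add]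
  congr 3
  omega

end Setup

end Part2

section Part3

namespace Setup

variable {A' A B' : Type u} [CommRing A'] [CommRing A] [Algebra A' A] [CommRing B']
  (D : Setup A' A B')

/-- the localization `B'_g`. -/
abbrev L : Type u := Localization.Away D.g

/-- the image of `g` in `B'_g`. -/
noncomputable abbrev gL : D.L := algebraMap B' D.L D.g

theorem iota_inj : Function.Injective (algebraMap B' D.L) :=
  IsLocalization.injective D.L (M := Submonoid.powers D.g)
    ((Submonoid.powers_le (P := nonZeroDivisors B')).mpr D.hg)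

theorem gL_isUnit (k : ℕ) : IsUnit (D.gL ^ k) :=
  IsLocalization.Away.algebraMap_pow_isUnit D.g k

theorem gL_cancel (k : ℕ) {z w : D.L} (h : D.gL ^ k * z = D.gL ^ k * w) : z = w :=
  (D.gL_isUnit k).mul_left_cancel h

/-- the finite extension `B` of `B'` inside `B'_g`. -/
noncomputable def Bsub : Subalgebra B' D.L where
  carrier := {z | ∃ x ∈ D.JB, algebraMap B' D.L x = D.gL ^ D.t * z}
  mul_mem' := by
    rintro z₁ z₂ ⟨x₁, hx₁, e₁⟩ ⟨x₂, hx₂, e₂⟩
    obtain ⟨x₃, hx₃, e₃⟩ := D.JB_mul hx₁ hx₂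
    refine ⟨x₃, hx₃, ?_⟩
    apply D.gL_cancel D.t
    have := congrArg (algebraMap B' D.L) e₃
    rw [map_mul, map_mul, map_pow, e₁, e₂] at this
    rw [← this]
    ring
  add_mem' := by
    rintro z₁ z₂ ⟨x₁, hx₁, e₁⟩ ⟨x₂, hx₂, e₂⟩
    exact ⟨x₁ + x₂, D.JB.add_mem hx₁ hx₂, by rw [map_add, e₁, e₂, mul_add]⟩
  algebraMap_mem' := by
    intro b
    exact ⟨D.g ^ D.t * b, D.gpow_mem _ le_rfl b, by rw [map_mul, map_pow]⟩

theorem mem_Bsub {z : D.L} : z ∈ D.Bsub ↔ ∃ x ∈ D.JB, algebraMap B' D.L x = D.gL ^ D.t * z :=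
  Iff.rfl

/-- the inverse of `g` in `B'_g`. -/
noncomputable abbrev ginv : D.L := IsLocalization.Away.invSelf (S := D.L) D.g

theorem gL_mul_ginv (k : ℕ) : D.gL ^ k * D.ginv ^ k = 1 := by
  rw [← mul_pow, IsLocalization.Away.mul_invSelf, one_pow]

/-- the element `X a / g^t` of `B'_g`. -/
noncomputable def Zval (a : A) : D.L := algebraMap B' D.L (D.X a) * D.ginv ^ D.t

theorem gL_mul_Zval (a : A) : D.gL ^ D.t * D.Zval a = algebraMap B' D.L (D.X a) := by
  rw [Zval, mul_comm, mul_assoc, mul_comm (D.ginv ^ D.t), D.gL_mul_ginv, mul_one]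

theorem Zval_mem (a : A) : D.Zval a ∈ D.Bsub :=
  ⟨D.X a, D.X_mem a, (D.gL_mul_Zval a).symm⟩

/-- the element `X a / g^t` of `B`. -/
noncomputable def Zel (a : A) : D.Bsub := ⟨D.Zval a, D.Zval_mem a⟩

/-- the ideal `g B`. -/
noncomputable abbrev gB : Ideal D.Bsub := Ideal.span {algebraMap B' D.Bsub D.g}

/-- the error lemma: two elements of `B` differing by `g^m b` with `m ≥ 1` agree mod `g B`. -/
theorem mk_eq_of_sub (z₁ z₂ : D.Bsub) (k m : ℕ) (hm : 1 ≤ m) (b : B')
    (h : D.gL ^ k * (z₁ : D.L) = D.gL ^ k * (z₂ : D.L) + D.gL ^ (k + m) * algebraMap B' D.L b) :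
    Ideal.Quotient.mk D.gB z₁ = Ideal.Quotient.mk D.gB z₂ := by
  rw [Ideal.Quotient.eq, Ideal.mem_span_singleton']
  refine ⟨algebraMap B' D.Bsub (D.g ^ (m - 1) * b), ?_⟩
  apply Subtype.ext
  apply D.gL_cancel k
  have e1 : ((algebraMap B' D.Bsub (D.g ^ (m - 1) * b) * algebraMap B' D.Bsub D.g : D.Bsub) : D.L)
      = D.gL ^ (m - 1) * algebraMap B' D.L b * D.gL := by
    change algebraMap B' D.L (D.g ^ (m - 1) * b) * algebraMap B' D.L D.g = _
    rw [map_mul, map_pow]
  have e2 : ((z₁ - z₂ : D.Bsub) : D.L) = (z₁ : D.L) - (z₂ : D.L) := rfl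
  rw [e1, e2, mul_sub, h]
  have : k + m = k + (m - 1) + 1 := by omega
  rw [this, pow_succ, pow_add]
  ring

end Setup

end Part3

section Part4

namespace Setup

variable {A' A B' : Type u} [CommRing A'] [CommRing A] [Algebra A' A] [CommRing B']
  (D : Setup A' A B')

theorem Zel_add (a b : A) : Ideal.Quotient.mk D.gB (D.Zel (a + b))
    = Ideal.Quotient.mk D.gB (D.Zel a + D.Zel b) := by
  obtain ⟨c, hc⟩ := D.X_add a b
  have hn := D.hn
  refine D.mk_eq_of_sub _ _ D.t (D.n - D.t) (by omega) c ?_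
  change D.gL ^ D.t * D.Zval (a + b) = D.gL ^ D.t * (D.Zval a + D.Zval b) + _
  rw [mul_add, D.gL_mul_Zval, D.gL_mul_Zval, D.gL_mul_Zval, hc, map_add, map_add, map_mul,
    map_pow]
  congr 3
  omega

theorem Zel_mul (a b : A) : Ideal.Quotient.mk D.gB (D.Zel a * D.Zel b)
    = Ideal.Quotient.mk D.gB (D.Zel (a * b)) := by
  obtain ⟨c, hc⟩ := D.X_mul a b
  have hn := D.hn
  refine D.mk_eq_of_sub _ _ (D.t + D.t) (D.n - (D.t + D.t)) (by omega) c ?_
  change D.gL ^ (D.t + D.t) * (D.Zval a * D.Zval b) = D.gL ^ (D.t + D.t) * D.Zval (a * b) + _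
  have e1 : D.gL ^ (D.t + D.t) * (D.Zval a * D.Zval b)
      = (D.gL ^ D.t * D.Zval a) * (D.gL ^ D.t * D.Zval b) := by rw [pow_add]; ring
  have e2 : D.gL ^ (D.t + D.t) * D.Zval (a * b) = D.gL ^ D.t * (D.gL ^ D.t * D.Zval (a * b)) := by
    rw [pow_add]; ring
  rw [e1, e2, D.gL_mul_Zval, D.gL_mul_Zval, D.gL_mul_Zval, ← map_mul, hc, map_add, map_mul,
    map_mul, map_pow, map_pow]
  congr 3
  omega

theorem Zel_one : Ideal.Quotient.mk D.gB (D.Zel 1) = 1 := by
  obtain ⟨c, hc⟩ := D.X_one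
  have hn := D.hn
  rw [← map_one (Ideal.Quotient.mk D.gB)]
  refine D.mk_eq_of_sub _ _ D.t (D.n - D.t) (by omega) c ?_
  change D.gL ^ D.t * D.Zval 1 = D.gL ^ D.t * 1 + _
  rw [D.gL_mul_Zval, hc, map_add, map_mul, map_pow, map_pow, mul_one]
  congr 3
  omega

theorem Zel_zero : Ideal.Quotient.mk D.gB (D.Zel 0) = 0 := by
  have h := D.Zel_add 0 0
  rw [add_zero, map_add] at h
  have : Ideal.Quotient.mk D.gB (D.Zel 0) + 0
      = Ideal.Quotient.mk D.gB (D.Zel 0) + Ideal.Quotient.mk D.gB (D.Zel 0) := by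
    rw [add_zero]; exact h
  exact (add_left_cancel this).symm

/-- the ring homomorphism `A → B / g B`. -/
noncomputable def Phi : A →+* D.Bsub ⧸ D.gB where
  toFun a := Ideal.Quotient.mk D.gB (D.Zel a)
  map_one' := D.Zel_one
  map_mul' a b := by rw [← map_mul, D.Zel_mul]
  map_zero' := D.Zel_zero
  map_add' a b := by rw [D.Zel_add, map_add]

theorem Phi_apply (a : A) : D.Phi a = Ideal.Quotient.mk D.gB (D.Zel a) := rfl

theorem Phi_algebraMap (a' : A') (b' : B')
    (h : D.φ' (Ideal.Quotient.mk _ a') = Ideal.Quotient.mk _ b') :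
    D.Phi (algebraMap A' A a') = Ideal.Quotient.mk D.gB (algebraMap B' D.Bsub b') := by
  obtain ⟨c, hc⟩ := D.X_algebraMap a' b' h
  have hn := D.hn
  rw [Phi_apply]
  refine D.mk_eq_of_sub _ _ D.t (D.n - D.t) (by omega) c ?_
  change D.gL ^ D.t * D.Zval (algebraMap A' A a') = D.gL ^ D.t * algebraMap B' D.L b' + _
  rw [D.gL_mul_Zval, hc, map_add, map_mul, map_mul, map_pow, map_pow]
  congr 3
  omega

theorem Phi_f : D.Phi (algebraMap A' A D.f) = 0 := by
  rw [D.Phi_algebraMap D.f D.g D.hφ']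
  exact Ideal.Quotient.eq_zero_iff_mem.mpr (Ideal.subset_span rfl)

theorem Phi_surjective : Function.Surjective D.Phi := by
  intro y
  obtain ⟨⟨z, x, ⟨a, ha⟩, hx⟩, rfl⟩ := Ideal.Quotient.mk_surjective y
  refine ⟨a, ?_⟩
  rw [← D.hX a, eq_comm] at ha
  obtain ⟨b, hb⟩ := (D.q_eq_iff _ _).mp ha
  have hn := D.hn
  rw [Phi_apply]
  refine D.mk_eq_of_sub _ _ D.t (D.n - D.t) (by omega) b ?_
  change D.gL ^ D.t * D.Zval a = D.gL ^ D.t * z + _
  rw [D.gL_mul_Zval, hb, map_add, hx, map_mul, map_pow]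
  congr 3
  omega

end Setup

end Part4

section Part5

namespace Setup

variable {A' A B' : Type u} [CommRing A'] [CommRing A] [Algebra A' A] [CommRing B']
  (D : Setup A' A B')

theorem ker_Phi : RingHom.ker D.Phi = Ideal.span {algebraMap A' A D.f} := by
  apply le_antisymm
  · intro a ha
    rw [RingHom.mem_ker, Phi_apply, Ideal.Quotient.eq_zero_iff_mem, Ideal.mem_span_singleton'] at ha
    obtain ⟨⟨w, x', ⟨a₁, ha₁⟩, hx'⟩, hw⟩ := ha
    have hw' : w * D.gL = D.Zval a := congrArg Subtype.val hw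
    -- X a = x' * g
    have h1 : D.X a = x' * D.g := by
      apply D.iota_inj
      rw [← D.gL_mul_Zval, ← hw', map_mul, hx']
      ring
    -- μ a ≡ μ a₁ * f
    have h2 : Ideal.Quotient.mk (Ideal.span {D.f ^ D.n}) (D.μ a)
        = Ideal.Quotient.mk _ (D.μ a₁ * D.f) := by
      apply D.φ'.injective
      rw [← D.hX a, h1, map_mul, map_mul, map_mul, ha₁, D.hφ']
    obtain ⟨c, hc⟩ := (D.p_eq_iff _ _).mp h2
    have hn := D.hn
    have h3 : a = algebraMap A' A D.f * a₁ + algebraMap A' A (D.f ^ (D.n - D.t) * c) := by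
      apply D.mu_inj
      rw [D.mu_add, D.mu_smul, D.mu_algebraMap, hc, ← mul_assoc, ← pow_add]
      have : D.t + (D.n - D.t) = D.n := by omega
      rw [this]
      ring
    rw [Ideal.mem_span_singleton']
    refine ⟨a₁ + algebraMap A' A (D.f ^ (D.n - D.t - 1) * c), ?_⟩
    rw [h3, add_mul, map_mul, map_mul, map_pow, map_pow]
    have : D.n - D.t = (D.n - D.t - 1) + 1 := by omega
    conv_rhs => rw [this, pow_succ]
    ring
  · rw [Ideal.span_le]
    intro a ha
    rw [Set.mem_singleton_iff] at ha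
    rw [ha]
    exact D.Phi_f

/-- the isomorphism `A / f A ≃ B / g B`. -/
noncomputable def phi : (A ⧸ Ideal.span {algebraMap A' A D.f}) ≃+* (D.Bsub ⧸ D.gB) :=
  (Ideal.quotEquivOfEq D.ker_Phi.symm).trans
    (RingHom.quotientKerEquivOfSurjective D.Phi_surjective)

theorem phi_mk (a : A) : D.phi (Ideal.Quotient.mk _ a) = D.Phi a := by
  rw [phi, RingEquiv.trans_apply, Ideal.quotEquivOfEq_mk,
    RingHom.quotientKerEquivOfSurjective_apply_mk]

theorem algebraMap_Bsub_injective : Function.Injective (algebraMap B' D.Bsub) := by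
  intro x y h
  apply D.iota_inj
  exact congrArg Subtype.val h

theorem finite_Bsub [Module.Finite A' A] : Module.Finite B' D.Bsub := by
  classical
  obtain ⟨s, hs⟩ := (Module.Finite.fg_top : (⊤ : Submodule A' A).FG)
  have hn := D.hn
  set Sp : Submodule B' D.L := Submodule.span B' ((s.image D.Zval : Set D.L) ∪ {1}) with hSp
  have h1mem : ∀ b : B', algebraMap B' D.L b ∈ Sp := by
    intro b
    have : algebraMap B' D.L b = b • (1 : D.L) := by rw [Algebra.smul_def, mul_one]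
    rw [this]
    exact Sp.smul_mem _ (Submodule.subset_span (Or.inr rfl))
  -- the basic decomposition
  have key : ∀ (x y : B') (z w : D.L), Ideal.Quotient.mk (Ideal.span {D.g ^ D.n}) x
      = Ideal.Quotient.mk _ y → algebraMap B' D.L x = D.gL ^ D.t * z →
      algebraMap B' D.L y = D.gL ^ D.t * w → w ∈ Sp → z ∈ Sp := by
    intro x y z w hxy hx hy hw
    obtain ⟨b, hb⟩ := (D.q_eq_iff _ _).mp hxy
    have : z = w + algebraMap B' D.L (D.g ^ (D.n - D.t) * b) := by
      apply D.gL_cancel D.t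
      rw [← hx, hb, map_add, hy, mul_add, map_mul, map_mul, map_pow, map_pow, ← mul_assoc,
        ← pow_add]
      congr 3
      omega
    rw [this]
    exact Sp.add_mem hw (h1mem _)
  have hP : ∀ a : A, ∀ (x : B') (z : D.L), Ideal.Quotient.mk (Ideal.span {D.g ^ D.n}) x
      = D.φ' (Ideal.Quotient.mk _ (D.μ a)) → algebraMap B' D.L x = D.gL ^ D.t * z → z ∈ Sp := by
    intro a
    have ha : a ∈ Submodule.span A' (s : Set A) := by rw [hs]; trivial
    induction ha using Submodule.span_induction with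
    | mem a ha =>
      intro x z hx hz
      refine key x (D.X a) z (D.Zval a) (by rw [hx, D.hX]) hz (D.gL_mul_Zval a).symm ?_
      exact Submodule.subset_span (Or.inl (Finset.mem_coe.mpr (Finset.mem_image_of_mem _ ha)))
    | zero =>
      intro x z hx hz
      refine key x 0 z 0 (by rw [hx, D.mu_zero, map_zero, map_zero, map_zero]) hz
        (by rw [map_zero, mul_zero]) Sp.zero_mem
    | add a₁ a₂ _ _ ih₁ ih₂ =>
      intro x z hx hz
      refine key x (D.X a₁ + D.X a₂) z (D.Zval a₁ + D.Zval a₂)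
        (by rw [hx, D.mu_add, map_add, map_add, map_add, D.hX, D.hX]) hz
        (by rw [map_add, mul_add, D.gL_mul_Zval, D.gL_mul_Zval]) ?_
      exact Sp.add_mem (ih₁ _ _ (D.hX a₁) (D.gL_mul_Zval a₁).symm)
        (ih₂ _ _ (D.hX a₂) (D.gL_mul_Zval a₂).symm)
    | smul c a₁ _ ih =>
      intro x z hx hz
      obtain ⟨d, hd⟩ := Ideal.Quotient.mk_surjective (D.φ' (Ideal.Quotient.mk _ c))
      refine key x (d * D.X a₁) z (d • D.Zval a₁) ?_ hz ?_ ?_
      · rw [hx, Algebra.smul_def, D.mu_smul, map_mul, map_mul, map_mul, hd, D.hX]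
      · rw [map_mul, Algebra.smul_def, ← D.gL_mul_Zval]
        ring
      · exact Sp.smul_mem _ (ih _ _ (D.hX a₁) (D.gL_mul_Zval a₁).symm)
  have hle : Subalgebra.toSubmodule D.Bsub ≤ Sp := by
    rintro z ⟨x, ⟨a, ha⟩, hx⟩
    exact hP a x z ha hx
  have hge : Sp ≤ Subalgebra.toSubmodule D.Bsub := by
    rw [hSp, Submodule.span_le]
    rintro z (hz | hz)
    · obtain ⟨a, _, rfl⟩ := Finset.mem_image.mp (Finset.mem_coe.mp hz)
      exact D.Zval_mem a
    · rw [Set.mem_singleton_iff] at hz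
      rw [hz]
      exact D.Bsub.one_mem
  have hfg : (Subalgebra.toSubmodule D.Bsub).FG := by
    rw [le_antisymm hle hge]
    exact Submodule.fg_span ((Finset.finite_toSet _).union (Set.finite_singleton _))
  exact Module.Finite.iff_fg.mpr hfg

end Setup

end Part5

section Part6

theorem main_7152 (A' A : Type u) [CommRing A'] [CommRing A] [Algebra A' A]
    (hinj : Function.Injective (algebraMap A' A)) [Module.Finite A' A] (f : A')
    (hf : algebraMap A' A f ∈ nonZeroDivisors A)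
    (hloc : Function.Bijective (IsLocalization.Away.map (Localization.Away f)
      (Localization.Away (algebraMap A' A f)) (algebraMap A' A) f)) :
    ∃ n₀ : ℕ, 0 < n₀ ∧ ∀ n : ℕ, n₀ ≤ n →
      ∀ (B' : Type u) [CommRing B'] (g : B'), g ∈ nonZeroDivisors B' →
        ∀ φ' : (A' ⧸ Ideal.span {f ^ n}) ≃+* (B' ⧸ Ideal.span {g ^ n}),
        φ' (Ideal.Quotient.mk (Ideal.span {f ^ n}) f) = Ideal.Quotient.mk (Ideal.span {g ^ n}) g →
        ∃ (B : Type u) (_ : CommRing B) (_ : Algebra B' B),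
          Function.Injective (algebraMap B' B) ∧ Module.Finite B' B ∧
          ∃ φ : (A ⧸ Ideal.span {algebraMap A' A f}) ≃+* (B ⧸ Ideal.span {algebraMap B' B g}),
            ∀ (a' : A') (b' : B'),
              φ' (Ideal.Quotient.mk (Ideal.span {f ^ n}) a') = Ideal.Quotient.mk (Ideal.span {g ^ n}) b' →
              φ (Ideal.Quotient.mk (Ideal.span {algebraMap A' A f}) (algebraMap A' A a')) =
                Ideal.Quotient.mk (Ideal.span {algebraMap B' B g}) (algebraMap B' B b') := by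
  obtain ⟨t, ht⟩ := exists_pow_mul_mem f hf hloc
  choose μ hμ using ht
  refine ⟨2 * t + 1, by omega, ?_⟩
  intro n hn B' _ g hg φ' hφ'
  choose X hX using fun a => Ideal.Quotient.mk_surjective (φ' (Ideal.Quotient.mk _ (μ a)))
  let D : Setup A' A B' :=
    { f := f, t := t, n := n, hn := hn, μ := μ, hμ := hμ, hinj := hinj, hf := hf, g := g,
      hg := hg, φ' := φ', hφ' := hφ', X := X, hX := hX }
  refine ⟨D.Bsub, inferInstance, inferInstance, D.algebraMap_Bsub_injective, D.finite_Bsub,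
    D.phi, ?_⟩
  intro a' b' h
  rw [D.phi_mk]
  exact D.Phi_algebraMap a' b' h

end Part6

end Groth.Agent.Lib.R2H1.FinExtLift
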