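import Groth.Agent.Lib.Helper25ClosedOrb
import Mathlib

/-!
# Closed orbits and finite equivariant maps (helper1, R2)

For a finite (integral) equivariant map of affine `G`-schemes of finite type over an
algebraically closed field of characteristic zero, the orbit of a rational point is closed
iff the orbit of its image is closed.
-/

set_option autoImplicit false
set_option linter.unusedSectionVars false
universe u
open TensorProduct HopfRep Topology

namespace Groth.Agent.Lib.R2H1.FinOrbit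

open Groth.Agent.Lib.Helper25 Groth.Agent.Lib.Helper25.OrbCl

section
variable {k : Type u} [Field k] [IsAlgClosed k] [CharZero k]
  {A : Type u} [CommRing A] [HopfAlgebra k A] [Algebra.FiniteType k A]
  {S : Type u} [CommRing S] [Algebra k S] [Algebra.FiniteType k S] [HopfRep.Comod k A S]
  [GLin.IsCoactAlg k A S]
  {R : Type u} [CommRing R] [Algebra k R] [Algebra.FiniteType k R] [HopfRep.Comod k A R]
  [GLin.IsCoactAlg k A R]

/-- Equivariance of the orbit map along an equivariant algebra map. -/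
theorem orbitHom_comp (φ : S →ₐ[k] R)
    (hequiv : ∀ s : S, HopfRep.Comod.coact (k := k) (A := A) (φ s) =
      Algebra.TensorProduct.map φ (AlgHom.id k A) (HopfRep.Comod.coact (k := k) (A := A) s))
    (x : R →ₐ[k] k) :
    GLin.orbitHom k A (x.comp φ) = (GLin.orbitHom k A x).comp φ := by
  apply AlgHom.ext
  intro s
  change (Algebra.TensorProduct.lid k A)
      ((Algebra.TensorProduct.map (x.comp φ) (AlgHom.id k A))
        (HopfRep.Comod.coact (k := k) (A := A) s)) =
    (Algebra.TensorProduct.lid k A)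
      ((Algebra.TensorProduct.map x (AlgHom.id k A))
        (HopfRep.Comod.coact (k := k) (A := A) (φ s)))
  rw [hequiv s]
  congr 1
  generalize HopfRep.Comod.coact (k := k) (A := A) s = z
  induction z using TensorProduct.induction_on with
  | zero => simp
  | add a b ha hb => simp only [map_add, ha, hb]
  | tmul a b => simp

theorem range_comp (φ : S →ₐ[k] R)
    (hequiv : ∀ s : S, HopfRep.Comod.coact (k := k) (A := A) (φ s) =
      Algebra.TensorProduct.map φ (AlgHom.id k A) (HopfRep.Comod.coact (k := k) (A := A) s))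
    (w : R →ₐ[k] k) :
    Set.range (PrimeSpectrum.comap (GLin.orbitHom k A (w.comp φ)).toRingHom) =
      PrimeSpectrum.comap φ.toRingHom ''
        Set.range (PrimeSpectrum.comap (GLin.orbitHom k A w).toRingHom) := by
  rw [orbitHom_comp φ hequiv w]
  ext p
  constructor
  · rintro ⟨q, rfl⟩
    exact ⟨_, ⟨q, rfl⟩, rfl⟩
  · rintro ⟨_, ⟨q, rfl⟩, rfl⟩
    exact ⟨q, rfl⟩

theorem mem_range_of_actPt {x x' : R →ₐ[k] k} (g : A →ₐ[k] k) (h : GLin.actPt k g x = x')
    (u : PrimeSpectrum R) (hu : u.asIdeal = RingHom.ker x') :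
    u ∈ Set.range (PrimeSpectrum.comap (GLin.orbitHom k A x).toRingHom) := by
  have hprime : (RingHom.ker (g : A →+* k)).IsPrime := RingHom.ker_isPrime _
  refine ⟨⟨RingHom.ker (g : A →+* k), hprime⟩, ?_⟩
  apply PrimeSpectrum.ext
  rw [hu]
  ext f
  change GLin.orbitHom k A x f ∈ RingHom.ker (g : A →+* k) ↔ f ∈ RingHom.ker x'
  rw [RingHom.mem_ker, RingHom.mem_ker, ← h]
  rfl

/-- Finite equivariant maps send closed orbits to closed orbits. -/
theorem isClosedOrbit_comp (φ : S →ₐ[k] R) (hint : φ.toRingHom.IsIntegral)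
    (hequiv : ∀ s : S, HopfRep.Comod.coact (k := k) (A := A) (φ s) =
      Algebra.TensorProduct.map φ (AlgHom.id k A) (HopfRep.Comod.coact (k := k) (A := A) s))
    (x : R →ₐ[k] k) (hx : GLin.IsClosedOrbit k A x) :
    GLin.IsClosedOrbit k A (x.comp φ) := by
  unfold GLin.IsClosedOrbit at hx ⊢
  rw [range_comp φ hequiv x]
  exact PrimeSpectrum.isClosedMap_comap_of_isIntegral _ hint _ hx

/-- If the image orbit under a finite equivariant map is closed, so is the orbit. -/
theorem isClosedOrbit_of_comp (φ : S →ₐ[k] R) (hint : φ.toRingHom.IsIntegral)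
    (hequiv : ∀ s : S, HopfRep.Comod.coact (k := k) (A := A) (φ s) =
      Algebra.TensorProduct.map φ (AlgHom.id k A) (HopfRep.Comod.coact (k := k) (A := A) s))
    (x : R →ₐ[k] k) (hy : GLin.IsClosedOrbit k A (x.comp φ)) :
    GLin.IsClosedOrbit k A x := by
  haveI : IsNoetherianRing R := Algebra.FiniteType.isNoetherianRing k R
  haveI : IsJacobsonRing R := isJacobsonRing_of_finiteType (A := k) (B := R)
  haveI : Nontrivial A := (Bialgebra.counitAlgHom k A).toRingHom.domain_nontrivial
  have hOc : IsConstructible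
      (Set.range (PrimeSpectrum.comap (GLin.orbitHom k A x).toRingHom)) :=
    PrimeSpectrum.isConstructible_range_comap (finitePresentation_orbitHom x)
  unfold GLin.IsClosedOrbit
  rw [← closure_subset_iff_isClosed]
  by_contra hnot
  rw [Set.not_subset] at hnot
  obtain ⟨a, ha, ha'⟩ := hnot
  have hZc : IsConstructible
      (closure (Set.range (PrimeSpectrum.comap (GLin.orbitHom k A x).toRingHom))) := by
    have h1 : IsConstructible
        (closure (Set.range (PrimeSpectrum.comap (GLin.orbitHom k A x).toRingHom)))ᶜ :=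
      (TopologicalSpace.NoetherianSpace.isCompact _).isConstructible
        isClosed_closure.isOpen_compl
    simpa using h1.compl
  have hDc := hZc.inter hOc.compl
  obtain ⟨u, ⟨huZ, huO⟩, hucl⟩ :=
    exists_isClosed_singleton_of_isConstructible hDc ⟨a, ha, ha'⟩
  have humax : u.asIdeal.IsMaximal := (PrimeSpectrum.isClosed_singleton_iff_isMaximal u).mp hucl
  obtain ⟨x', hx'⟩ := exists_point_vanishing_on (k := k) u.asIdeal humax.ne_top
  have hu : u.asIdeal = RingHom.ker x' :=
    humax.eq_of_le (RingHom.ker_ne_top _) (fun f hf => hx' f hf)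
  -- x' kills the ideal of the orbit closure
  have hx'I : ∀ f, GLin.orbitHom k A x f = 0 → x' f = 0 := by
    intro f hf
    have huZ' := huZ
    rw [PrimeSpectrum.closure_range_comap, PrimeSpectrum.mem_zeroLocus] at huZ'
    have h1 : f ∈ u.asIdeal := huZ' (RingHom.mem_ker.mpr hf)
    rw [hu] at h1
    exact h1
  -- Step A: the image point lies in the (closed) image orbit
  have hπu : PrimeSpectrum.comap φ.toRingHom u ∈
      Set.range (PrimeSpectrum.comap (GLin.orbitHom k A (x.comp φ)).toRingHom) := by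
    have h1 : PrimeSpectrum.comap φ.toRingHom u ∈ closure (PrimeSpectrum.comap φ.toRingHom ''
        Set.range (PrimeSpectrum.comap (GLin.orbitHom k A x).toRingHom)) :=
      image_closure_subset_closure_image (PrimeSpectrum.continuous_comap _) ⟨u, huZ, rfl⟩
    rw [← range_comp φ hequiv x, hy.closure_eq] at h1
    exact h1
  have hπu' : (PrimeSpectrum.comap φ.toRingHom u).asIdeal = RingHom.ker (x'.comp φ) := by
    ext s
    change φ s ∈ u.asIdeal ↔ _
    rw [hu, RingHom.mem_ker, RingHom.mem_ker]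
    rfl
  obtain ⟨g, hg⟩ := exists_actPt_eq_of_mem_range (x.comp φ) (x'.comp φ) _ hπu' hπu
  -- Step B
  have hact_comp : ∀ (h : A →ₐ[k] k) (w : R →ₐ[k] k),
      GLin.actPt k h (w.comp φ) = (GLin.actPt k h w).comp φ := by
    intro h w
    unfold GLin.actPt
    rw [orbitHom_comp φ hequiv w]
    rfl
  obtain ⟨gi, hgi⟩ : ∃ gi : A →ₐ[k] k, gi = g.comp (HopfAlgebra.antipodeAlgHom k A) := ⟨_, rfl⟩
  obtain ⟨x'', hx''⟩ : ∃ x'' : R →ₐ[k] k, x'' = GLin.actPt k gi x' := ⟨_, rfl⟩
  have hx''φ : x''.comp φ = x.comp φ := by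
    rw [hx'', ← hact_comp, ← hg, hgi, actPt_inv_actPt]
  -- Step C
  have hI' : RingHom.ker (GLin.orbitHom k A x) ≤ RingHom.ker (GLin.orbitHom k A x') :=
    ker_le_ker_of_vanishing x x' hx'I
  have hx''I : ∀ f, GLin.orbitHom k A x f = 0 → x'' f = 0 := by
    intro f hf
    rw [hx'', actPt_apply]
    have h1 : GLin.orbitHom k A x' f = 0 := RingHom.mem_ker.mp (hI' (RingHom.mem_ker.mpr hf))
    rw [h1, map_zero]
  have hI'' : RingHom.ker (GLin.orbitHom k A x) ≤ RingHom.ker (GLin.orbitHom k A x'') :=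
    ker_le_ker_of_vanishing x x'' hx''I
  -- Step D
  have hJ : ∀ w : R →ₐ[k] k,
      Ideal.comap φ.toRingHom (RingHom.ker (GLin.orbitHom k A w)) =
        RingHom.ker (GLin.orbitHom k A (w.comp φ)) := by
    intro w
    ext s
    rw [Ideal.mem_comap, RingHom.mem_ker, RingHom.mem_ker, orbitHom_comp φ hequiv w]
    rfl
  -- Step E
  have hJne : RingHom.ker (GLin.orbitHom k A (x.comp φ)) ≠ ⊤ := RingHom.ker_ne_top _
  obtain ⟨M, hM, hJM⟩ := Ideal.exists_le_maximal _ hJne
  obtain ⟨p, hp, hpM⟩ := Ideal.exists_minimalPrimes_le hJM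
  haveI hpprime : p.IsPrime := hp.1.1
  letI : Algebra S R := φ.toRingHom.toAlgebra
  haveI : Algebra.IsIntegral S R := ⟨hint⟩
  obtain ⟨P'', hP''ge, hP''prime, hP''comap⟩ :=
    Ideal.exists_ideal_over_prime_of_isIntegral p (RingHom.ker (GLin.orbitHom k A x'')) (by
      change Ideal.comap φ.toRingHom _ ≤ p
      rw [hJ x'', hx''φ]
      exact hp.1.2)
  haveI := hP''prime
  obtain ⟨P, hPmin, hPle⟩ := Ideal.exists_minimalPrimes_le (hI''.trans hP''ge)
  haveI hPprime : P.IsPrime := hPmin.1.1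
  have hPcomap : Ideal.comap φ.toRingHom P = p := by
    apply le_antisymm
    · rw [← hP''comap]; exact Ideal.comap_mono hPle
    · apply hp.2 ⟨Ideal.comap_isPrime _ _, ?_⟩ ?_
      · rw [← hJ x]; exact Ideal.comap_mono hPmin.1.2
      · rw [← hP''comap]; exact Ideal.comap_mono hPle
  have hPeq : P = P'' := by
    by_contra hne
    have hlt : P < P'' := lt_of_le_of_ne hPle hne
    obtain ⟨r, hrP'', hrP⟩ := SetLike.exists_of_lt hlt
    have h1 := Ideal.comap_lt_comap_of_integral_mem_sdiff hPle ⟨hrP'', hrP⟩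
      (Algebra.IsIntegral.isIntegral (R := S) r)
    rw [hP''comap] at h1
    exact h1.ne hPcomap
  -- Step G
  have hPmin'' : P ∈ (RingHom.ker (GLin.orbitHom k A x'')).minimalPrimes := by
    refine ⟨⟨hPprime, by rw [hPeq]; exact hP''ge⟩, ?_⟩
    intro q hq hqP
    exact hPmin.2 ⟨hq.1, hI''.trans hq.2⟩ hqP
  -- Step H
  have hPx : (⟨P, hPprime⟩ : PrimeSpectrum R) ∈
      Set.range (PrimeSpectrum.comap (GLin.orbitHom k A x).toRingHom) := by
    have hP1 : P ∈ ((⊥ : Ideal A).comap (GLin.orbitHom k A x).toRingHom).minimalPrimes := hPmin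
    obtain ⟨q, hq, -, hq'⟩ := Ideal.exists_comap_eq_of_mem_minimalPrimes _ P hP1
    exact ⟨⟨q, hq⟩, PrimeSpectrum.ext hq'⟩
  have hPx'' : (⟨P, hPprime⟩ : PrimeSpectrum R) ∈
      Set.range (PrimeSpectrum.comap (GLin.orbitHom k A x'').toRingHom) := by
    have hP1 : P ∈ ((⊥ : Ideal A).comap (GLin.orbitHom k A x'').toRingHom).minimalPrimes :=
      hPmin''
    obtain ⟨q, hq, -, hq'⟩ := Ideal.exists_comap_eq_of_mem_minimalPrimes _ P hP1
    exact ⟨⟨q, hq⟩, PrimeSpectrum.ext hq'⟩
  have hCc : IsConstructible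
      (Set.range (PrimeSpectrum.comap (GLin.orbitHom k A x).toRingHom) ∩
        Set.range (PrimeSpectrum.comap (GLin.orbitHom k A x'').toRingHom)) :=
    hOc.inter (PrimeSpectrum.isConstructible_range_comap (finitePresentation_orbitHom x''))
  obtain ⟨u₀, ⟨hu₀x, hu₀x''⟩, hu₀cl⟩ :=
    exists_isClosed_singleton_of_isConstructible hCc ⟨_, hPx, hPx''⟩
  have hu₀max : u₀.asIdeal.IsMaximal :=
    (PrimeSpectrum.isClosed_singleton_iff_isMaximal u₀).mp hu₀cl
  obtain ⟨x₀, hx₀⟩ := exists_point_vanishing_on (k := k) u₀.asIdeal hu₀max.ne_top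
  have hu₀ : u₀.asIdeal = RingHom.ker x₀ :=
    hu₀max.eq_of_le (RingHom.ker_ne_top _) (fun f hf => hx₀ f hf)
  obtain ⟨g₁, hg₁⟩ := exists_actPt_eq_of_mem_range x x₀ u₀ hu₀ hu₀x
  obtain ⟨g₂, hg₂⟩ := exists_actPt_eq_of_mem_range x'' x₀ u₀ hu₀ hu₀x''
  have h1 : x'' = GLin.actPt k (convPt g₁ (g₂.comp (HopfAlgebra.antipodeAlgHom k A))) x := by
    rw [← actPt_actPt, hg₁, ← hg₂, actPt_inv_actPt]
  have h2 : x' = GLin.actPt k (gi.comp (HopfAlgebra.antipodeAlgHom k A)) x'' := by
    rw [hx'', actPt_inv_actPt]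
  have h3 : GLin.actPt k (convPt (convPt g₁ (g₂.comp (HopfAlgebra.antipodeAlgHom k A)))
      (gi.comp (HopfAlgebra.antipodeAlgHom k A))) x = x' := by
    rw [← actPt_actPt, ← h1, ← h2]
  exact huO (mem_range_of_actPt _ h3 u hu)

end

end Groth.Agent.Lib.R2H1.FinOrbit
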