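import Mathlib
import Groth.Agent.Lib.R2H3Transp
import Groth.Agent.Lib.Helper6ClosedLfp

/-!
# Finite presentation of closed Weil restrictions (helper3, round 2)

The content ideal of a finitely generated ideal of a finite projective algebra is finitely
generated (`cont_fg`); hence the Weil restriction along a finite locally free morphism of a closed
subscheme of finite presentation is a closed subscheme of finite presentation
(`lfp_subschemeι_idealW`), and so are the transporter-type closed subschemes of `R2H3Transp`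
(`exists_ideals_fp`).
-/

set_option autoImplicit false
set_option linter.style.haveILetI false
set_option linter.unusedVariables false
set_option linter.unusedSectionVars false

universe u

open CategoryTheory CategoryTheory.Limits AlgebraicGeometry TensorProduct MonoidalCategory
  CartesianMonoidalCategory
open Groth.Agent.Lib.R2H3.ClosedWeilAlg Groth.Agent.Lib.R2H3.ClosedWeil
  Groth.Agent.Lib.R2H3.DenseWeil Groth.Agent.Lib.R2H3.Transp

namespace Groth.Agent.Lib.R2H3.ClosedWeilFP

section Alg

variable {A B : Type u} [CommRing A] [CommRing B] [Algebra A B]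

/-- **The content of a finitely generated ideal is finitely generated.** -/
theorem cont_fg [Module.Finite A B] [Module.Projective A B] (J : Ideal B) (hJ : J.FG) :
    (cont (A := A) J).FG := by
  classical
  obtain ⟨n, ⟨D⟩⟩ := Groth.Agent.Lib.R2H3.WeilAlgP.exists_dualBasis A B
  obtain ⟨s, rfl⟩ := hJ
  refine ⟨(s ×ˢ (Finset.univ : Finset (ULift.{u} (Fin n)))).image (fun p => D.lam p.2 p.1), ?_⟩
  obtain ⟨K₀, hK₀⟩ : ∃ K₀ : Ideal A, K₀ = Ideal.span
      (((s ×ˢ (Finset.univ : Finset (ULift.{u} (Fin n)))).image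
        (fun p => D.lam p.2 p.1) : Finset A) : Set A) := ⟨_, rfl⟩
  rw [← hK₀]
  have hmem : ∀ j ∈ s, ∀ k, D.lam k j ∈ K₀ := by
    intro j hj k
    rw [hK₀]
    apply Ideal.subset_span
    rw [Finset.mem_coe, Finset.mem_image]
    exact ⟨(j, k), Finset.mem_product.mpr ⟨hj, Finset.mem_univ _⟩, rfl⟩
  apply le_antisymm
  · rw [hK₀, Ideal.span_le]
    intro a ha
    rw [Finset.mem_coe, Finset.mem_image] at ha
    obtain ⟨p, hp, rfl⟩ := ha
    exact mem_cont _ _ (Ideal.subset_span (Finset.mem_product.mp hp).1)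
  · have h1 := (tmul_eq_zero_iff (A := A) (R := A ⧸ K₀) (Ideal.span (s : Set B))).mp ?_
    · have h2 : RingHom.ker (algebraMap A (A ⧸ K₀)) = K₀ := Ideal.mk_ker
      rw [h2] at h1
      exact h1
    · obtain ⟨φ, hφ⟩ : ∃ φ : B →+* (A ⧸ K₀) ⊗[A] B, ∀ b, φ b = (1 : A ⧸ K₀) ⊗ₜ[A] b :=
        ⟨(Algebra.TensorProduct.includeRight : B →ₐ[A] (A ⧸ K₀) ⊗[A] B).toRingHom, fun b => rfl⟩
      have h3 : Ideal.span (s : Set B) ≤ RingHom.ker φ := by
        rw [Ideal.span_le]
        intro j hj
        rw [SetLike.mem_coe, RingHom.mem_ker, hφ]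
        rw [← D.hel j, TensorProduct.tmul_sum]
        refine Finset.sum_eq_zero (fun k _ => ?_)
        have h4 : (D.lam k j) • (1 : A ⧸ K₀) = 0 := by
          rw [← Algebra.algebraMap_eq_smul_one]
          exact Ideal.Quotient.eq_zero_iff_mem.mpr (hmem j hj k)
        rw [TensorProduct.tmul_smul, TensorProduct.smul_tmul', h4, TensorProduct.zero_tmul]
      intro j hj
      have h5 := h3 hj
      rw [RingHom.mem_ker, hφ] at h5
      exact h5

end Alg

section Cat

variable {A B : CommRingCat.{u}} {f : A ⟶ B}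

theorem contC_fg (hf : FinProj f) (J : Ideal B) (hJ : J.FG) : (contC f J).FG := by
  letI := f.hom.toAlgebra
  haveI : Module.Finite A B := hf.1
  haveI : Module.Projective A B := hf.2
  exact cont_fg (A := A) J hJ

end Cat

section Sch

variable {Z S : Scheme.{u}} (g : Z ⟶ S) [IsFinite g] [Flat g] [LocallyOfFinitePresentation g]

theorem idealW_fg (𝒥 : Z.IdealSheafData) (h𝒥 : ∀ V : Z.affineOpens, (𝒥.ideal V).FG)
    (U : S.affineOpens) : ((idealW g 𝒥).ideal U).FG := by
  rw [idealW_ideal]
  exact contC_fg (finProj_app g U) _ (h𝒥 _)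

/-- **The Weil restriction of a closed subscheme of finite presentation is of finite
presentation.** -/
theorem lfp_subschemeι_idealW {Y : Scheme.{u}} (y : Y ⟶ Z) [IsClosedImmersion y]
    [LocallyOfFinitePresentation y] :
    LocallyOfFinitePresentation (idealW g y.ker).subschemeι := by
  rw [Groth.Agent.Lib.Helper6.locallyOfFinitePresentation_iff_ker_fg_of_isClosedImmersion]
  intro U
  rw [← Scheme.Hom.ker_apply, Scheme.IdealSheafData.ker_subschemeι]
  refine idealW_fg g y.ker (fun V => ?_) U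
  rw [Scheme.Hom.ker_apply]
  exact (Groth.Agent.Lib.Helper6.locallyOfFinitePresentation_iff_ker_fg_of_isClosedImmersion
    y).mp inferInstance V

end Sch

section Family

variable {X S : Scheme.{u}} (p : X ⟶ S) {ι : Type*} (Z : ι → Scheme.{u}) (f : ∀ i, Z i ⟶ X)
  {Y : Scheme.{u}} (y : Y ⟶ X) [IsClosedImmersion y] [LocallyOfFinitePresentation y]
  [∀ i, IsFinite (f i ≫ p)] [∀ i, Flat (f i ≫ p)] [∀ i, LocallyOfFinitePresentation (f i ≫ p)]

theorem lfp_subschemeι_idealI (i : ι) :
    LocallyOfFinitePresentation (idealI p Z f y i).subschemeι := by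
  unfold idealI
  exact lfp_subschemeι_idealW (f i ≫ p) (pullback.snd y (f i))

end Family

section Transp

variable {S : Scheme.{u}} {H G W K : Over S} (c : H ⊗ G ⟶ W) (k : K ⟶ W)
  [IsClosedImmersion k.left] [LocallyOfFinitePresentation k.left]
  {ι : Type*} (Z : ι → Scheme.{u}) (f : ∀ i, Z i ⟶ H.left)
  [∀ i, IsFinite (f i ≫ H.hom)] [∀ i, Flat (f i ≫ H.hom)]
  [∀ i, LocallyOfFinitePresentation (f i ≫ H.hom)]

/-- `Transp.exists_ideals` with finite presentation of the closed subschemes `V(J i)`. -/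
theorem exists_ideals_fp (hd : UnivDominant H.hom Z f) :
    ∃ (J : ι → G.left.IdealSheafData),
      (∀ i, LocallyOfFinitePresentation (J i).subschemeι) ∧
      (∀ (i j : ι) (d : Z j ⟶ Z i), d ≫ f i = f j → J j ≤ J i) ∧
      (∀ {X : Over S} (g : X ⟶ G), (⨆ i, J i) ≤ g.left.ker ↔
        ∀ (X' : Over S) (x : X' ⟶ X) (h : X' ⟶ H),
          ∃ κ : X' ⟶ K, lift h (x ≫ g) ≫ c = κ ≫ k) ∧
      (∀ (i : ι) {X : Over S} (g : X ⟶ G), J i ≤ g.left.ker ↔
        ∀ (X' : Over S) (x : X' ⟶ X) (z : X' ⟶ Over.mk (f i ≫ H.hom)),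
          ∃ κ : X' ⟶ K,
            lift (z ≫ (Over.homMk (f i) rfl : Over.mk (f i ≫ H.hom) ⟶ H)) (x ≫ g) ≫ c
              = κ ≫ k) := by
  have hb1 : ∀ i, bcm H.hom Z f G.hom i ≫ pullback.snd H.hom G.hom =
      pullback.snd (f i ≫ H.hom) G.hom := fun i => by
    rw [pullback.lift_snd, Category.comp_id]
  haveI : ∀ i, IsFinite (bcm H.hom Z f G.hom i ≫ pullback.snd H.hom G.hom) := fun i => by
    rw [hb1]; infer_instance
  haveI : ∀ i, Flat (bcm H.hom Z f G.hom i ≫ pullback.snd H.hom G.hom) := fun i => by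
    rw [hb1]; infer_instance
  haveI : ∀ i, LocallyOfFinitePresentation
      (bcm H.hom Z f G.hom i ≫ pullback.snd H.hom G.hom) := fun i => by
    rw [hb1]; infer_instance
  refine ⟨fun i => idealI (pullback.snd H.hom G.hom) (fun i => pullback (f i ≫ H.hom) G.hom)
    (fun i => bcm H.hom Z f G.hom i) (pullback.fst (cl c) k.left) i, ?_, ?_, ?_, ?_⟩
  · intro i
    exact lfp_subschemeι_idealI (pullback.snd H.hom G.hom)
      (fun i => pullback (f i ≫ H.hom) G.hom)
      (fun i => bcm H.hom Z f G.hom i) (pullback.fst (cl c) k.left) i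
  · intro i j d hd'
    refine idealI_mono (pullback.snd H.hom G.hom) (fun i => pullback (f i ≫ H.hom) G.hom)
      (fun i => bcm H.hom Z f G.hom i) (pullback.fst (cl c) k.left)
      (pullback.map (f j ≫ H.hom) G.hom (f i ≫ H.hom) G.hom d (𝟙 _) (𝟙 _) ?_ ?_) ?_
    · rw [Category.comp_id, ← Category.assoc, hd']
    · rw [Category.comp_id, Category.id_comp]
    · apply pullback.hom_ext
      · simp [bcm, pullback.map, pullback.lift_fst, pullback.lift_fst_assoc, hd']
      · simp [bcm, pullback.map, pullback.lift_snd, pullback.lift_snd_assoc]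
  · intro X g
    rw [iSup_idealI_le_ker_iff _ _ _ _ (univDominant_bc H.hom Z f hd G.hom) g.left]
    exact facX_iff k c g
  · intro i X g
    rw [idealI_le_ker_iff]
    exact facI_iff k c Z f i g

end Transp

end Groth.Agent.Lib.R2H3.ClosedWeilFP
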