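import Mathlib
import Groth.Agent.Lib.R2H3Transp
import Groth.Agent.Lib.R2H3ClosedWeilFP

/-!
# Transporter-type conditions for a finite locally free scheme (helper3, round 2)

`exists_closed_finite`: for `Y` finite flat of finite presentation over `S`, `c : Y ⊗ G ⟶ W` and a
closed immersion `k : K ⟶ W`, the points `g` of `G` with `c (a, g) ∈ K` for all points `a` of `Y`
form a closed subscheme of `G`.
-/

set_option autoImplicit false
set_option linter.style.haveILetI false
set_option linter.unusedVariables false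
set_option linter.unusedSectionVars false

universe u

open CategoryTheory CategoryTheory.Limits AlgebraicGeometry MonoidalCategory
  CartesianMonoidalCategory
open Groth.Agent.Lib.R2H3.ClosedWeil Groth.Agent.Lib.R2H3.DenseWeil Groth.Agent.Lib.R2H3.Transp

namespace Groth.Agent.Lib.R2H3.TranspFin

/-- the one-member family `𝟙 : X ⟶ X` is universally schematically dominant. -/
theorem univDominant_id {X S : Scheme.{u}} (p : X ⟶ S) :
    UnivDominant p (fun _ : PUnit.{1} => X) (fun _ => 𝟙 X) := by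
  intro T a V t ht
  have h0 := ht PUnit.unit
  haveI : IsIso (bcm p (fun _ : PUnit.{1} => X) (fun _ => 𝟙 X) a PUnit.unit) := by
    unfold bcm
    infer_instance
  have hinj : Function.Injective
      ((bcm p (fun _ : PUnit.{1} => X) (fun _ => 𝟙 X) a PUnit.unit).app V).hom :=
    (ConcreteCategory.bijective_of_isIso _).injective
  exact hinj (h0.trans (map_zero _).symm)

variable {S : Scheme.{u}} {Y G W K : Over S} (c : Y ⊗ G ⟶ W) (k : K ⟶ W)
  [IsClosedImmersion k.left] [IsFinite Y.hom] [Flat Y.hom] [LocallyOfFinitePresentation Y.hom]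

/-- **Transporter-type closed subscheme for a finite locally free `Y`.** -/
theorem exists_closed_finite :
    ∃ (C : Over S) (j : C ⟶ G), IsClosedImmersion j.left ∧
      ∀ (X : Over S) (g : X ⟶ G), (∃ z : X ⟶ C, z ≫ j = g) ↔
        ∀ (X' : Over S) (x : X' ⟶ X) (a : X' ⟶ Y),
          ∃ κ : X' ⟶ K, lift a (x ≫ g) ≫ c = κ ≫ k := by
  haveI : ∀ i : PUnit.{1}, IsFinite ((fun _ : PUnit.{1} => 𝟙 Y.left) i ≫ Y.hom) := fun i => by
    rw [Category.id_comp]; infer_instance
  haveI : ∀ i : PUnit.{1}, Flat ((fun _ : PUnit.{1} => 𝟙 Y.left) i ≫ Y.hom) := fun i => by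
    rw [Category.id_comp]; infer_instance
  haveI : ∀ i : PUnit.{1}, LocallyOfFinitePresentation
      ((fun _ : PUnit.{1} => 𝟙 Y.left) i ≫ Y.hom) := fun i => by
    rw [Category.id_comp]; infer_instance
  obtain ⟨J, -, hsup, -⟩ := exists_ideals c k (fun _ : PUnit.{1} => Y.left)
    (fun _ => 𝟙 Y.left) (univDominant_id Y.hom)
  refine ⟨Over.mk ((⨆ i, J i).subschemeι ≫ G.hom), Over.homMk (⨆ i, J i).subschemeι rfl,
    ?_, fun X g => ?_⟩
  · change IsClosedImmersion (⨆ i, J i).subschemeι
    infer_instance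
  · rw [exists_over_lift_iff]
    exact hsup g

/-- **Transporter-type closed subscheme for a finite locally free `Y`, finite presentation.** -/
theorem exists_closed_finite_fp [LocallyOfFinitePresentation k.left] :
    ∃ (C : Over S) (j : C ⟶ G), IsClosedImmersion j.left ∧ LocallyOfFinitePresentation j.left ∧
      ∀ (X : Over S) (g : X ⟶ G), (∃ z : X ⟶ C, z ≫ j = g) ↔
        ∀ (X' : Over S) (x : X' ⟶ X) (a : X' ⟶ Y),
          ∃ κ : X' ⟶ K, lift a (x ≫ g) ≫ c = κ ≫ k := by
  haveI : ∀ i : PUnit.{1}, IsFinite ((fun _ : PUnit.{1} => 𝟙 Y.left) i ≫ Y.hom) := fun i => by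
    rw [Category.id_comp]; infer_instance
  haveI : ∀ i : PUnit.{1}, Flat ((fun _ : PUnit.{1} => 𝟙 Y.left) i ≫ Y.hom) := fun i => by
    rw [Category.id_comp]; infer_instance
  haveI : ∀ i : PUnit.{1}, LocallyOfFinitePresentation
      ((fun _ : PUnit.{1} => 𝟙 Y.left) i ≫ Y.hom) := fun i => by
    rw [Category.id_comp]; infer_instance
  obtain ⟨J, hfp, -, hsup, -⟩ := Groth.Agent.Lib.R2H3.ClosedWeilFP.exists_ideals_fp c k
    (fun _ : PUnit.{1} => Y.left) (fun _ => 𝟙 Y.left) (univDominant_id Y.hom)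
  have hJ : (⨆ i, J i) = J PUnit.unit := iSup_unique J
  refine ⟨Over.mk ((J PUnit.unit).subschemeι ≫ G.hom), Over.homMk (J PUnit.unit).subschemeι rfl,
    ?_, ?_, fun X g => ?_⟩
  · change IsClosedImmersion (J PUnit.unit).subschemeι
    infer_instance
  · exact hfp PUnit.unit
  · rw [exists_over_lift_iff, ← hJ]
    exact hsup g

end Groth.Agent.Lib.R2H3.TranspFin
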