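import Mathlib
import Groth.Prelude.Def_AlgGrp
import Groth.Agent.Lib.R2H3TranspFin
set_option backward.isDefEq.respectTransparency.types false

/-!
Fixed points of an infinitesimal pointed finite locally free S-scheme acting on X (helper1, via helper3 R2H3TranspFin.exists_closed_finite): isImmersion_equalizer_ι_left (equalizer of two S-morphisms is an immersion, no separatedness), s17685.
-/

set_option autoImplicit false
set_option linter.style.haveILetI false
set_option linter.unusedSectionVars false
universe u v

open CategoryTheory CategoryTheory.Limits AlgebraicGeometry TopologicalSpace Opposite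

namespace Groth.Agent.Lib.R2H1.FixedInf

section Part1

open CategoryTheory CategoryTheory.Limits AlgebraicGeometry MonObj GrpObj MonoidalCategory
  CartesianMonoidalCategory

set_option backward.isDefEq.respectTransparency false in
/-- the equalizer of two morphisms of `S`-schemes is an immersion. -/
theorem isImmersion_equalizer_ι_left {S : Scheme.{u}} {X Y : Over S} (f g : X ⟶ Y) :
    IsImmersion (equalizer.ι f g).left := by
  refine MorphismProperty.of_isPullback
    ((Limits.isPullback_equalizer_prod f g).map (Over.forget _)).flip ?_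
  rw [← MorphismProperty.cancel_right_of_respectsIso @IsImmersion _
    (Over.prodLeftIsoPullback Y Y).hom]
  convert! (inferInstance : IsImmersion (pullback.diagonal Y.hom))
  ext1 <;> simp [← Over.comp_left]

theorem s17685 (S : Scheme.{u})
    (F X : Over S) (e : 𝟙_ (Over S) ⟶ F) (act : F ⊗ X ⟶ X) (he : (e ▷ X) ≫ act = (λ_ X).hom)
    [IsFinite F.hom] [Flat F.hom] [LocallyOfFinitePresentation F.hom]
    [IsClosedImmersion e.left] [Surjective e.left] :
    ∃ (Z : Scheme.{u}) (i : Z ⟶ X.left), IsClosedImmersion i ∧
      ∀ (T : Over S) (x : T ⟶ X), (∃ y : T.left ⟶ Z, y ≫ i = x.left) ↔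
        ∀ (T' : Over S) (t : T' ⟶ T) (g : T' ⟶ F), lift g (t ≫ x) ≫ act = t ≫ x := by
  let k : equalizer act (snd F X) ⟶ F ⊗ X := equalizer.ι act (snd F X)
  -- `e ▷ X` factors through the equalizer
  have hes : (e ▷ X) ≫ act = (e ▷ X) ≫ snd F X := by
    rw [he, CartesianMonoidalCategory.whiskerRight_snd]
    exact CartesianMonoidalCategory.leftUnitor_hom X
  let l : 𝟙_ (Over S) ⊗ X ⟶ equalizer act (snd F X) := equalizer.lift (e ▷ X) hes
  have hl : l ≫ k = e ▷ X := equalizer.lift_ι _ _
  haveI hsurj : Surjective (e ▷ X).left := by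
    have := MorphismProperty.pullbackMap (P := @Surjective) (f := (𝟙_ (Over S)).hom)
      (g := X.hom) (f' := F.hom) (g' := X.hom) (i₁ := e.left) (i₂ := 𝟙 X.left)
      inferInstance inferInstance (Over.w e).symm (Category.id_comp _).symm
    exact this
  haveI : IsImmersion k.left := isImmersion_equalizer_ι_left act (snd F X)
  haveI : IsClosedImmersion k.left := by
    apply IsClosedImmersion.of_isPreimmersion
    have : Set.range k.left = Set.univ := by
      rw [Set.eq_univ_iff_forall]
      intro p
      obtain ⟨q, rfl⟩ := hsurj.surj p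
      refine ⟨l.left q, ?_⟩
      rw [← Scheme.Hom.comp_apply, ← Over.comp_left, hl]
    rw [this]
    exact isClosed_univ
  obtain ⟨C, j, h1, h2⟩ := Groth.Agent.Lib.R2H3.TranspFin.exists_closed_finite
    (Y := F) (G := X) (𝟙 (F ⊗ X)) k
  refine ⟨C.left, j.left, h1, fun T x => ?_⟩
  have e1 : (∃ y : T.left ⟶ C.left, y ≫ j.left = x.left) ↔ ∃ z : T ⟶ C, z ≫ j = x := by
    constructor
    · rintro ⟨y, hy⟩
      refine ⟨Over.homMk y ?_, ?_⟩
      · rw [← Over.w j, ← Category.assoc, hy]
        exact Over.w x
      · ext
        exact hy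
    · rintro ⟨z, rfl⟩
      exact ⟨z.left, rfl⟩
  rw [e1, h2 T x]
  refine forall_congr' fun T' => forall_congr' fun t => forall_congr' fun g => ?_
  rw [Category.comp_id]
  constructor
  · rintro ⟨κ, hκ⟩
    rw [hκ, Category.assoc, equalizer.condition, ← Category.assoc, ← hκ, lift_snd]
  · intro h
    have h' : lift g (t ≫ x) ≫ act = lift g (t ≫ x) ≫ snd F X := by
      rw [h, lift_snd]
    exact ⟨equalizer.lift _ h', (equalizer.lift_ι _ _).symm⟩

end Part1

end Groth.Agent.Lib.R2H1.FixedInf
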