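import Mathlib

/-!
# Flat local extensions with prescribed residue field (helper1, round 2)

For a local ring `R` with residue field `k` and a field extension `K/k` there is a flat local
`R`-algebra `R'` with `𝔪_R R' = 𝔪_{R'}` and residue field `K` (EGA 0_III 10.3.1 without Noetherian
hypotheses).  The proof is by Zorn's lemma on rigidified partial solutions ("models"): flat local
`R`-algebras `S` with `𝔪_R S` maximal, a map `S → K` with kernel the maximal ideal, and a family of
generators making morphisms of models unique.  Chains have upper bounds (direct limits, shrunk back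
to the universe of `R`), and a model whose residue field is not all of `K` can be extended either by
a localized polynomial ring (transcendental case) or by `AdjoinRoot` of a monic polynomial
(algebraic case).
-/

set_option autoImplicit false
set_option linter.style.haveILetI false
set_option linter.unusedSectionVars false
universe u v w

namespace Groth.Agent.Lib.R2H1.FlatResExt

section Part1

open IsLocalRing Polynomial

/-- terms in generators indexed by `K`, constants from `R`, ring operations and inverse -/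
inductive Tm (R K : Type u) : Type u
  | gen : K → Tm R K
  | const : R → Tm R K
  | add : Tm R K → Tm R K → Tm R K
  | mul : Tm R K → Tm R K → Tm R K
  | inv : Tm R K → Tm R K

namespace Tm

variable {R K : Type u}

/-- generators used by a term -/
def supp : Tm R K → Set K
  | gen β => {β}
  | const _ => ∅
  | add a b => a.supp ∪ b.supp
  | mul a b => a.supp ∪ b.supp
  | inv a => a.supp

/-- evaluation of a term -/
noncomputable def ev [CommRing R] {S : Type v} [CommRing S] [Algebra R S] (g : K → S) : Tm R K → S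
  | gen β => g β
  | const r => algebraMap R S r
  | add a b => a.ev g + b.ev g
  | mul a b => a.ev g * b.ev g
  | inv a => Ring.inverse (a.ev g)

end Tm

variable (R : Type u) (K : Type u) [CommRing R] [IsLocalRing R] [Field K] [Algebra R K]

/-- A rigidified partial solution: a flat local `R`-algebra with `𝔪 S` maximal, with an embedding of
its residue field in `K`, generated (allowing inverses) by chosen lifts of its residue field. -/
structure Model where
  S : Type v
  [cr : CommRing S]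
  [alg : Algebra R S]
  ψ : S →ₐ[R] K
  gen : K → S
  isUnit_of_ne : ∀ s, ψ s ≠ 0 → IsUnit s
  flat : Module.Flat R S
  ker_eq : RingHom.ker ψ = (maximalIdeal R).map (algebraMap R S)
  generated : ∀ s, ∃ t : Tm R K, t.supp ⊆ Set.range ψ ∧ t.ev gen = s

attribute [instance] Model.cr Model.alg

variable {R K}

namespace Model

theorem isUnit_iff (M : Model.{u, v} R K) (s : M.S) : IsUnit s ↔ M.ψ s ≠ 0 :=
  ⟨fun h => (h.map M.ψ).ne_zero, M.isUnit_of_ne s⟩

theorem nontrivial (M : Model.{u, v} R K) : Nontrivial M.S :=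
  ⟨⟨0, 1, fun h => by
    have := congrArg M.ψ h
    simp at this⟩⟩

theorem isLocalRing (M : Model.{u, v} R K) : IsLocalRing M.S := by
  haveI := M.nontrivial
  refine IsLocalRing.of_nonunits_add fun a b ha hb => ?_
  rw [mem_nonunits_iff, M.isUnit_iff, not_not] at ha hb ⊢
  rw [map_add, ha, hb, add_zero]

theorem maximalIdeal_eq (M : Model.{u, v} R K) :
    haveI := M.isLocalRing
    maximalIdeal M.S = RingHom.ker M.ψ := by
  haveI := M.isLocalRing
  ext s
  rw [mem_maximalIdeal, mem_nonunits_iff, M.isUnit_iff, not_not, RingHom.mem_ker]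

theorem small (M : Model.{u, v} R K) : Small.{u} M.S :=
  small_of_surjective (f := fun t : Tm R K => t.ev M.gen) fun s => by
    obtain ⟨t, -, ht⟩ := M.generated s
    exact ⟨t, ht⟩

end Model

/-- morphisms of models -/
structure IsHom (M : Model.{u, v} R K) (M' : Model.{u, w} R K) (f : M.S →ₐ[R] M'.S) : Prop where
  comp_ψ : ∀ s, M'.ψ (f s) = M.ψ s
  map_gen : ∀ β ∈ Set.range M.ψ, f (M.gen β) = M'.gen β

/-- evaluation of terms commutes with local maps compatible with the generators -/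
theorem ev_map (M : Model.{u, v} R K) {S' : Type w} [CommRing S'] [Algebra R S']
    (ψ' : S' →ₐ[R] K) (gen' : K → S') (f : M.S →ₐ[R] S')
    (hψ : ∀ s, ψ' (f s) = M.ψ s) (hgen : ∀ β ∈ Set.range M.ψ, f (M.gen β) = gen' β)
    (t : Tm R K) (ht : t.supp ⊆ Set.range M.ψ) : f (t.ev M.gen) = t.ev gen' := by
  induction t with
  | gen β => exact hgen β (ht (by simp [Tm.supp]))
  | const r => simp [Tm.ev]
  | add a b iha ihb =>
    simp only [Tm.supp, Set.union_subset_iff] at ht
    simp [Tm.ev, iha ht.1, ihb ht.2]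
  | mul a b iha ihb =>
    simp only [Tm.supp, Set.union_subset_iff] at ht
    simp [Tm.ev, iha ht.1, ihb ht.2]
  | inv a iha =>
    simp only [Tm.supp] at ht
    simp only [Tm.ev]
    rw [← iha ht]
    by_cases hx : IsUnit (a.ev M.gen)
    · obtain ⟨u, hu⟩ := hx
      rw [← hu, Ring.inverse_unit]
      have : f (u : M.S) = ((Units.map (f : M.S →* S') u : S'ˣ) : S') := rfl
      rw [this, Ring.inverse_unit]
      rfl
    · rw [Ring.inverse_non_unit _ hx, map_zero, Ring.inverse_non_unit]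
      intro h
      apply hx
      apply M.isUnit_of_ne
      rw [← hψ]
      exact (h.map ψ').ne_zero

theorem IsHom.ev_map {M : Model.{u, v} R K} {M' : Model.{u, w} R K} {f : M.S →ₐ[R] M'.S}
    (hf : IsHom M M' f) (t : Tm R K) (ht : t.supp ⊆ Set.range M.ψ) :
    f (t.ev M.gen) = t.ev M'.gen :=
  Groth.Agent.Lib.R2H1.FlatResExt.ev_map M M'.ψ M'.gen f hf.comp_ψ hf.map_gen t ht

theorem IsHom.unique {M : Model.{u, v} R K} {M' : Model.{u, w} R K} {f g : M.S →ₐ[R] M'.S}
    (hf : IsHom M M' f) (hg : IsHom M M' g) : f = g := by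
  ext s
  obtain ⟨t, ht, rfl⟩ := M.generated s
  rw [hf.ev_map t ht, hg.ev_map t ht]

theorem IsHom.id (M : Model.{u, v} R K) : IsHom M M (AlgHom.id R M.S) :=
  ⟨fun _ => rfl, fun _ _ => rfl⟩

theorem IsHom.range_subset {M : Model.{u, v} R K} {M' : Model.{u, w} R K} {f : M.S →ₐ[R] M'.S}
    (hf : IsHom M M' f) : Set.range M.ψ ⊆ Set.range M'.ψ := by
  rintro _ ⟨s, rfl⟩
  exact ⟨f s, hf.comp_ψ s⟩

universe w'

theorem IsHom.comp {M₁ : Model.{u, v} R K} {M₂ : Model.{u, w} R K} {M₃ : Model.{u, w'} R K}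
    {f : M₁.S →ₐ[R] M₂.S} {g : M₂.S →ₐ[R] M₃.S} (hf : IsHom M₁ M₂ f) (hg : IsHom M₂ M₃ g) :
    IsHom M₁ M₃ (g.comp f) :=
  ⟨fun s => by rw [AlgHom.comp_apply, hg.comp_ψ, hf.comp_ψ],
    fun β hβ => by rw [AlgHom.comp_apply, hf.map_gen β hβ, hg.map_gen β (hf.range_subset hβ)]⟩

/-- the set of elements obtained by evaluating admissible terms -/
def genSet {S' : Type w} [CommRing S'] [Algebra R S'] (ψ' : S' →ₐ[R] K) (gen' : K → S') : Set S' :=
  {s | ∃ t : Tm R K, t.supp ⊆ Set.range ψ' ∧ t.ev gen' = s}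

section genSet

variable {S' : Type w} [CommRing S'] [Algebra R S'] (ψ' : S' →ₐ[R] K) (gen' : K → S')

theorem genSet_gen {β : K} (hβ : β ∈ Set.range ψ') : gen' β ∈ genSet ψ' gen' :=
  ⟨Tm.gen β, by simpa [Tm.supp] using hβ, rfl⟩

theorem genSet_algebraMap (r : R) : algebraMap R S' r ∈ genSet ψ' gen' :=
  ⟨Tm.const r, by simp [Tm.supp], rfl⟩

variable {ψ' gen'}

theorem genSet_add {x y : S'} (hx : x ∈ genSet ψ' gen') (hy : y ∈ genSet ψ' gen') :
    x + y ∈ genSet ψ' gen' := by
  obtain ⟨a, ha, rfl⟩ := hx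
  obtain ⟨b, hb, rfl⟩ := hy
  exact ⟨Tm.add a b, by simp [Tm.supp, ha, hb], rfl⟩

theorem genSet_mul {x y : S'} (hx : x ∈ genSet ψ' gen') (hy : y ∈ genSet ψ' gen') :
    x * y ∈ genSet ψ' gen' := by
  obtain ⟨a, ha, rfl⟩ := hx
  obtain ⟨b, hb, rfl⟩ := hy
  exact ⟨Tm.mul a b, by simp [Tm.supp, ha, hb], rfl⟩

theorem genSet_pow {x : S'} (hx : x ∈ genSet ψ' gen') (n : ℕ) : x ^ n ∈ genSet ψ' gen' := by
  induction n with
  | zero => simpa using genSet_algebraMap ψ' gen' 1
  | succ n ih => rw [pow_succ]; exact genSet_mul ih hx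

theorem genSet_inv {x y : S'} (hx : x ∈ genSet ψ' gen') (hxy : x * y = 1) :
    y ∈ genSet ψ' gen' := by
  obtain ⟨a, ha, rfl⟩ := hx
  refine ⟨Tm.inv a, by simpa [Tm.supp] using ha, ?_⟩
  simp only [Tm.ev]
  have hu : IsUnit (a.ev gen') := IsUnit.of_mul_eq_one _ hxy
  obtain ⟨u, hu⟩ := hu
  rw [← hu, Ring.inverse_unit]
  rw [← hu] at hxy
  exact (Units.inv_eq_of_mul_eq_one_right hxy)

end genSet

/-- the base model `R` itself -/
noncomputable def baseModel (hRK : RingHom.ker (algebraMap R K) = maximalIdeal R) :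
    Model.{u, u} R K where
  S := R
  ψ := Algebra.ofId R K
  gen := fun _ => 0
  isUnit_of_ne := fun s hs => by
    by_contra h
    have : s ∈ maximalIdeal R := h
    rw [← hRK, RingHom.mem_ker] at this
    exact hs this
  flat := inferInstance
  ker_eq := by
    rw [Algebra.algebraMap_self, Ideal.map_id, ← hRK]
    rfl
  generated := fun s => ⟨Tm.const s, by simp [Tm.supp], rfl⟩

/-- transport of a model along an algebra isomorphism -/
noncomputable def Model.transport (M : Model.{u, v} R K) {S₀ : Type w} [CommRing S₀] [Algebra R S₀]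
    (e : S₀ ≃ₐ[R] M.S) : Model.{u, w} R K where
  S := S₀
  ψ := M.ψ.comp e.toAlgHom
  gen := fun β => e.symm (M.gen β)
  isUnit_of_ne := fun s hs => by
    have := M.isUnit_of_ne (e s) hs
    simpa using this.map e.symm
  flat := by
    haveI := M.flat
    exact Module.Flat.of_linearEquiv e.toLinearEquiv
  ker_eq := by
    ext s
    rw [RingHom.mem_ker]
    change M.ψ (e s) = 0 ↔ _
    rw [← RingHom.mem_ker, M.ker_eq]
    have h1 : (maximalIdeal R).map (algebraMap R M.S) =
        ((maximalIdeal R).map (algebraMap R S₀)).map (e : S₀ →+* M.S) := by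
      rw [Ideal.map_map]
      congr 1
      ext r
      simp
    rw [h1]
    constructor
    · intro h
      have := Ideal.mem_map_of_mem (e.symm : M.S →+* S₀) h
      rw [Ideal.map_map] at this
      have h2 : ((e.symm : M.S →+* S₀).comp (e : S₀ →+* M.S)) = RingHom.id S₀ := by
        ext x; simp
      rw [h2, Ideal.map_id] at this
      simpa using this
    · intro h
      exact Ideal.mem_map_of_mem (e : S₀ →+* M.S) h
  generated := fun s => by
    obtain ⟨t, ht, hts⟩ := M.generated (e s)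
    have hr : Set.range (M.ψ.comp e.toAlgHom) = Set.range M.ψ := by
      ext β
      constructor
      · rintro ⟨x, rfl⟩; exact ⟨e x, rfl⟩
      · rintro ⟨x, rfl⟩; exact ⟨e.symm x, by simp⟩
    refine ⟨t, by rw [hr]; exact ht, ?_⟩
    have := ev_map M (M.ψ.comp e.toAlgHom) (fun β => e.symm (M.gen β)) e.symm.toAlgHom
      (fun s => by
        change M.ψ (e (e.symm s)) = _
        rw [AlgEquiv.apply_symm_apply]) (fun β _ => rfl) t ht
    rw [← this, hts]
    simp

theorem Model.transport_isHom (M : Model.{u, v} R K) {S₀ : Type w} [CommRing S₀] [Algebra R S₀]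
    (e : S₀ ≃ₐ[R] M.S) : IsHom M (M.transport e) e.symm.toAlgHom :=
  ⟨fun s => by
    change M.ψ (e (e.symm s)) = _
    rw [AlgEquiv.apply_symm_apply], fun β _ => rfl⟩

/-- every model can be shrunk to the universe of `R` and `K` -/
theorem Model.exists_shrink (M : Model.{u, v} R K) :
    ∃ (M₀ : Model.{u, u} R K) (f : M.S →ₐ[R] M₀.S), IsHom M M₀ f := by
  haveI := M.small
  exact ⟨M.transport (Shrink.algEquiv R M.S), _, M.transport_isHom _⟩

end Part1

section Part2

open IsLocalRing Polynomial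

variable {R : Type u} {K : Type u} [CommRing R] [IsLocalRing R] [Field K] [Algebra R K]

theorem Model.algebraMap_eq_zero (M : Model.{u, v} R K) {r : R} (hr : r ∈ maximalIdeal R) :
    algebraMap R K r = 0 := by
  have h1 : algebraMap R M.S r ∈ RingHom.ker M.ψ := by
    rw [M.ker_eq]
    exact Ideal.mem_map_of_mem _ hr
  rw [RingHom.mem_ker] at h1
  simpa using h1

theorem Model.map_le_ker (M : Model.{u, v} R K) {S' : Type w} [CommRing S'] [Algebra R S']
    (ψ' : S' →ₐ[R] K) : (maximalIdeal R).map (algebraMap R S') ≤ RingHom.ker ψ' := by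
  rw [Ideal.map_le_iff_le_comap]
  intro r hr
  rw [Ideal.mem_comap, RingHom.mem_ker, AlgHom.commutes]
  exact M.algebraMap_eq_zero hr

section Colim

variable {ι : Type w} [Preorder ι] [IsDirectedOrder ι] [Nonempty ι]
  (Mi : ι → Model.{u, v} R K)
  (f : ∀ i j, i ≤ j → (Mi i).S →ₐ[R] (Mi j).S)
  (hf : ∀ i j (h : i ≤ j), IsHom (Mi i) (Mi j) (f i j h))

include hf in
theorem directedSystem : DirectedSystem (fun i => (Mi i).S) (fun i j h => f i j h) where
  map_self i x := by
    have := IsHom.unique (hf i i le_rfl) (IsHom.id (Mi i))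
    rw [this]; rfl
  map_map k j i hij hjk x := by
    have := IsHom.unique ((hf i j hij).comp (hf j k hjk)) (hf i k (hij.trans hjk))
    rw [← this]; rfl

end Colim

section Colim2

variable {ι : Type w} [Preorder ι] [IsDirectedOrder ι] [Nonempty ι]
  (Mi : ι → Model.{u, v} R K)
  (f : ∀ i j, i ≤ j → (Mi i).S →ₐ[R] (Mi j).S)
  (hf : ∀ i j (h : i ≤ j), IsHom (Mi i) (Mi j) (f i j h))
  [DirectedSystem (fun i => (Mi i).S) (fun i j h => f i j h)]

/-- the colimit ring -/
abbrev CL : Type (max v w) := DirectLimit (fun i => (Mi i).S) f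

/-- the maps to the colimit -/
noncomputable def colimOf (i : ι) : (Mi i).S →ₐ[R] CL Mi f :=
  DirectLimit.Algebra.of (fun i => (Mi i).S) f i

include hf in
theorem colimψ_aux (i j : ι) (hij : i ≤ j) (x : (Mi i).S) :
    (Mi j).ψ (f i j hij x) = (Mi i).ψ x := (hf i j hij).comp_ψ x

/-- the residue map of the colimit -/
noncomputable def colimψ : CL Mi f →ₐ[R] K :=
  DirectLimit.Algebra.lift (fun i => (Mi i).S) f K (fun i => (Mi i).ψ) (colimψ_aux Mi f hf)

theorem colimψ_of (i : ι) (x : (Mi i).S) : colimψ Mi f hf (colimOf Mi f i x) = (Mi i).ψ x := rfl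

theorem colimOf_f (i j : ι) (hij : i ≤ j) (x : (Mi i).S) :
    colimOf Mi f j (f i j hij x) = colimOf Mi f i x :=
  DirectLimit.Algebra.of_f (R := R) (G := fun i => (Mi i).S) (f := f) hij x

theorem colim_exists_of (z : CL Mi f) : ∃ i x, colimOf Mi f i x = z := by
  obtain ⟨i, x, rfl⟩ := DirectLimit.exists_eq_mk _ z
  exact ⟨i, x, rfl⟩

theorem colimOf_eq_zero {i : ι} {x : (Mi i).S} (h : colimOf Mi f i x = 0) :
    ∃ (j : ι) (hij : i ≤ j), f i j hij x = 0 := by
  have h0 : (0 : CL Mi f) = colimOf Mi f i 0 := (map_zero _).symm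
  rw [h0] at h
  obtain ⟨k, h1, h2, hk⟩ := Quotient.exact h
  refine ⟨k, h1, ?_⟩
  have : f i k h2 0 = 0 := map_zero _
  rw [this] at hk
  exact hk

open Classical in
/-- the generators of the colimit -/
noncomputable def colimGen (β : K) : CL Mi f :=
  if h : ∃ i, β ∈ Set.range (Mi i).ψ then colimOf Mi f h.choose ((Mi h.choose).gen β) else 0

include hf in
theorem colimGen_eq {β : K} (i : ι) (hi : β ∈ Set.range (Mi i).ψ) :
    colimGen Mi f β = colimOf Mi f i ((Mi i).gen β) := by
  have h : ∃ i, β ∈ Set.range (Mi i).ψ := ⟨i, hi⟩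
  rw [colimGen, dif_pos h]
  obtain ⟨k, hik, hjk⟩ := exists_ge_ge i h.choose
  rw [← colimOf_f Mi f i k hik, ← colimOf_f Mi f h.choose k hjk,
    (hf i k hik).map_gen β hi, (hf h.choose k hjk).map_gen β h.choose_spec]

theorem colim_range_subset (i : ι) :
    Set.range (Mi i).ψ ⊆ Set.range (colimψ Mi f hf) := by
  rintro _ ⟨x, rfl⟩
  exact ⟨colimOf Mi f i x, rfl⟩

theorem colim_isUnit_of_ne (s : CL Mi f) (hs : colimψ Mi f hf s ≠ 0) : IsUnit s := by
  obtain ⟨i, x, rfl⟩ := colim_exists_of Mi f s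
  rw [colimψ_of] at hs
  exact ((Mi i).isUnit_of_ne x hs).map _

theorem colim_exists_common {l : ℕ} (x : Fin l → CL Mi f) :
    ∃ (N : ι) (z : Fin l → (Mi N).S), ∀ i, x i = colimOf Mi f N (z i) := by
  classical
  choose n y hy using fun i => colim_exists_of Mi f (x i)
  obtain ⟨N, hN⟩ := Finset.exists_le (Finset.univ.image n)
  have hN' : ∀ i, n i ≤ N := fun i => hN _ (Finset.mem_image_of_mem _ (Finset.mem_univ i))
  refine ⟨N, fun i => f (n i) N (hN' i) (y i), fun i => ?_⟩
  rw [colimOf_f, hy]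

theorem colim_flat : Module.Flat R (CL Mi f) := by
  refine Module.Flat.of_forall_isTrivialRelation ?_
  intro l c x hx
  obtain ⟨N, z, hz⟩ := colim_exists_common Mi f x
  have h1 : colimOf Mi f N (∑ i, c i • z i) = 0 := by
    rw [map_sum, ← hx]
    refine Finset.sum_congr rfl fun i _ => ?_
    rw [map_smul, hz]
  obtain ⟨N', hNN', h2⟩ := colimOf_eq_zero Mi f h1
  haveI := (Mi N').flat
  have h3 : ∑ i, c i • f N N' hNN' (z i) = 0 := by
    rw [← h2, map_sum]
    refine Finset.sum_congr rfl fun i _ => ?_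
    rw [map_smul]
  obtain ⟨k, a, y, hy1, hy2⟩ := Module.Flat.isTrivialRelation_of_sum_smul_eq_zero
    (R := R) (M := (Mi N').S) (f := c) (x := fun i => f N N' hNN' (z i)) h3
  refine ⟨k, a, fun j => colimOf Mi f N' (y j), fun i => ?_, hy2⟩
  have hy1' : f N N' hNN' (z i) = ∑ j, a i j • y j := hy1 i
  rw [hz, ← colimOf_f Mi f N N' hNN', hy1', map_sum]
  refine Finset.sum_congr rfl fun j _ => ?_
  rw [map_smul]

theorem colim_ker_eq :
    RingHom.ker (colimψ Mi f hf) = (maximalIdeal R).map (algebraMap R (CL Mi f)) := by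
  refine le_antisymm ?_ ((Mi (Classical.arbitrary ι)).map_le_ker _)
  intro s hs
  obtain ⟨i, x, rfl⟩ := colim_exists_of Mi f s
  rw [RingHom.mem_ker, colimψ_of, ← RingHom.mem_ker, (Mi i).ker_eq] at hs
  have := Ideal.mem_map_of_mem (colimOf Mi f i : (Mi i).S →+* CL Mi f) hs
  rw [Ideal.map_map] at this
  have h2 : ((colimOf Mi f i : (Mi i).S →+* CL Mi f).comp (algebraMap R (Mi i).S)) =
      algebraMap R (CL Mi f) := (colimOf Mi f i).comp_algebraMap
  rw [h2] at this
  exact this

theorem colim_generated (s : CL Mi f) :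
    ∃ t : Tm R K, t.supp ⊆ Set.range (colimψ Mi f hf) ∧ t.ev (colimGen Mi f) = s := by
  obtain ⟨i, x, rfl⟩ := colim_exists_of Mi f s
  obtain ⟨t, ht, rfl⟩ := (Mi i).generated x
  refine ⟨t, ht.trans (colim_range_subset Mi f hf i), ?_⟩
  exact (ev_map (Mi i) (colimψ Mi f hf) (colimGen Mi f) (colimOf Mi f i)
    (fun s => colimψ_of Mi f hf i s) (fun β hβ => (colimGen_eq Mi f hf i hβ).symm) t ht).symm

/-- the colimit model -/
noncomputable def colimModel : Model.{u, max v w} R K where
  S := CL Mi f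
  ψ := colimψ Mi f hf
  gen := colimGen Mi f
  isUnit_of_ne := colim_isUnit_of_ne Mi f hf
  flat := colim_flat Mi f
  ker_eq := colim_ker_eq Mi f hf
  generated := colim_generated Mi f hf

theorem colimModel_isHom (i : ι) : IsHom (Mi i) (colimModel Mi f hf) (colimOf Mi f i) :=
  ⟨fun s => colimψ_of Mi f hf i s, fun β hβ => (colimGen_eq Mi f hf i hβ).symm⟩

end Colim2

end Part2

section Part3

open IsLocalRing Polynomial

variable {R : Type u} {K : Type u} [CommRing R] [IsLocalRing R] [Field K] [Algebra R K]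

section CaseA

variable (M : Model.{u, u} R K) (α : K)

/-- evaluation at `α` -/
noncomputable def evalα : M.S[X] →ₐ[R] K :=
  Polynomial.eval₂AlgHom M.ψ α (fun _ => Commute.all _ _)

theorem evalα_apply (p : M.S[X]) : evalα M α p = eval₂ (M.ψ : M.S →+* K) α p := rfl

theorem evalα_C (s : M.S) : evalα M α (C s) = M.ψ s := by
  rw [evalα_apply, eval₂_C]; rfl

theorem evalα_X : evalα M α X = α := by
  rw [evalα_apply, eval₂_X]

/-- the prime ideal of polynomials vanishing at `α` -/
noncomputable abbrev primeA : Ideal M.S[X] := RingHom.ker (evalα M α)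

instance : (primeA M α).IsPrime := RingHom.ker_isPrime _

/-- the localization -/
abbrev SA : Type u := Localization.AtPrime (primeA M α)

theorem isUnit_evalα (y : (primeA M α).primeCompl) : IsUnit (evalα M α y) := by
  rw [isUnit_iff_ne_zero]
  intro h
  exact y.2 (RingHom.mem_ker.2 h)

/-- the residue map of the localization -/
noncomputable def ψA : SA M α →ₐ[R] K :=
  IsLocalization.liftAlgHom (M := (primeA M α).primeCompl) (f := evalα M α) (isUnit_evalα M α)

theorem ψA_algebraMap (p : M.S[X]) : ψA M α (algebraMap M.S[X] (SA M α) p) = evalα M α p := by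
  rw [ψA, IsLocalization.coe_liftAlgHom, IsLocalization.lift_eq]
  rfl

/-- the structure map -/
noncomputable def ιA : M.S →ₐ[R] SA M α :=
  (IsScalarTower.toAlgHom R M.S[X] (SA M α)).comp (Polynomial.CAlgHom)

theorem ιA_apply (s : M.S) : ιA M α s = algebraMap M.S[X] (SA M α) (C s) := rfl

theorem ψA_ιA (s : M.S) : ψA M α (ιA M α s) = M.ψ s := by
  rw [ιA_apply, ψA_algebraMap, evalα_C]

open Classical in
/-- the generators -/
noncomputable def genA (β : K) : SA M α :=
  if β ∈ Set.range M.ψ then ιA M α (M.gen β)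
  else if β = α then algebraMap M.S[X] (SA M α) X else 0

theorem genA_of_mem {β : K} (hβ : β ∈ Set.range M.ψ) : genA M α β = ιA M α (M.gen β) := by
  rw [genA, if_pos hβ]

theorem genA_α (hα : α ∉ Set.range M.ψ) : genA M α α = algebraMap M.S[X] (SA M α) X := by
  rw [genA, if_neg hα, if_pos rfl]

theorem ψA_X : ψA M α (algebraMap M.S[X] (SA M α) X) = α := by
  rw [ψA_algebraMap, evalα_X]

theorem rangeA_subset : Set.range M.ψ ⊆ Set.range (ψA M α) := by
  rintro _ ⟨s, rfl⟩
  exact ⟨ιA M α s, ψA_ιA M α s⟩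

theorem α_mem_rangeA : α ∈ Set.range (ψA M α) := ⟨_, ψA_X M α⟩

theorem isUnit_of_ne_A (s : SA M α) (hs : ψA M α s ≠ 0) : IsUnit s := by
  obtain ⟨a, b, rfl⟩ := IsLocalization.exists_mk'_eq (primeA M α).primeCompl s
  have h1 : ψA M α (IsLocalization.mk' (SA M α) a b) * evalα M α b = evalα M α a := by
    rw [← ψA_algebraMap, ← map_mul, IsLocalization.mk'_spec, ψA_algebraMap]
  have h2 : evalα M α a ≠ 0 := by
    rw [← h1]
    exact mul_ne_zero hs (isUnit_evalα M α b).ne_zero
  have h3 : a ∈ (primeA M α).primeCompl := fun h => h2 (RingHom.mem_ker.1 h)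
  exact (IsLocalization.AtPrime.isUnit_mk'_iff (SA M α) (primeA M α) a b).2 h3

theorem flat_A : Module.Flat R (SA M α) := by
  haveI := M.flat
  haveI : Module.Flat R M.S[X] := Module.Flat.trans R M.S M.S[X]
  haveI : Module.Flat M.S[X] (SA M α) := IsLocalization.flat _ (primeA M α).primeCompl
  exact Module.Flat.trans R M.S[X] (SA M α)

theorem map_maximalIdeal_A :
    ((RingHom.ker M.ψ).map (C : M.S →+* M.S[X])).map (algebraMap M.S[X] (SA M α)) =
      (maximalIdeal R).map (algebraMap R (SA M α)) := by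
  rw [M.ker_eq, Ideal.map_map, Ideal.map_map]
  rfl

/-- the transcendence hypothesis -/
def IsTransc : Prop := ∀ a : M.S[X], evalα M α a = 0 → ∀ n, M.ψ (a.coeff n) = 0

variable {M α}

theorem ker_eq_A (hA : IsTransc M α) :
    RingHom.ker (ψA M α) = (maximalIdeal R).map (algebraMap R (SA M α)) := by
  refine le_antisymm ?_ (M.map_le_ker _)
  intro s hs
  obtain ⟨a, b, rfl⟩ := IsLocalization.exists_mk'_eq (primeA M α).primeCompl s
  have h1 : ψA M α (IsLocalization.mk' (SA M α) a b) * evalα M α b = evalα M α a := by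
    rw [← ψA_algebraMap, ← map_mul, IsLocalization.mk'_spec, ψA_algebraMap]
  rw [RingHom.mem_ker] at hs
  rw [hs, zero_mul] at h1
  have h2 : a ∈ (RingHom.ker M.ψ).map (C : M.S →+* M.S[X]) := by
    rw [Ideal.mem_map_C_iff]
    intro n
    exact RingHom.mem_ker.2 (hA a h1.symm n)
  have h3 := Ideal.mem_map_of_mem (algebraMap M.S[X] (SA M α)) h2
  rw [map_maximalIdeal_A] at h3
  have h4 : IsLocalization.mk' (SA M α) a b =
      algebraMap M.S[X] (SA M α) a * IsLocalization.mk' (SA M α) 1 b := by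
    rw [IsLocalization.mul_mk'_eq_mk'_of_mul, mul_one]
  rw [h4]
  exact Ideal.mul_mem_right _ _ h3

theorem generated_A (hα : α ∉ Set.range M.ψ) (s : SA M α) :
    s ∈ genSet (ψA M α) (genA M α) := by
  have hι : ∀ x : M.S, ιA M α x ∈ genSet (ψA M α) (genA M α) := by
    intro x
    obtain ⟨t, ht, rfl⟩ := M.generated x
    refine ⟨t, ht.trans (rangeA_subset M α), ?_⟩
    exact (ev_map M (ψA M α) (genA M α) (ιA M α) (ψA_ιA M α)
      (fun β hβ => (genA_of_mem M α hβ).symm) t ht).symm
  have hX : algebraMap M.S[X] (SA M α) X ∈ genSet (ψA M α) (genA M α) := by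
    rw [← genA_α M α hα]
    exact genSet_gen _ _ (α_mem_rangeA M α)
  have hpoly : ∀ p : M.S[X], algebraMap M.S[X] (SA M α) p ∈ genSet (ψA M α) (genA M α) := by
    intro p
    induction p using Polynomial.induction_on' with
    | add p q hp hq => rw [map_add]; exact genSet_add hp hq
    | monomial n c =>
      rw [← C_mul_X_pow_eq_monomial, map_mul, map_pow]
      exact genSet_mul (hι c) (genSet_pow hX n)
  obtain ⟨a, b, rfl⟩ := IsLocalization.exists_mk'_eq (primeA M α).primeCompl s
  have h4 : IsLocalization.mk' (SA M α) a b =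
      algebraMap M.S[X] (SA M α) a * IsLocalization.mk' (SA M α) 1 b := by
    rw [IsLocalization.mul_mk'_eq_mk'_of_mul, mul_one]
  rw [h4]
  refine genSet_mul (hpoly a) (genSet_inv (hpoly b) ?_)
  rw [mul_comm, IsLocalization.mk'_spec, map_one]

/-- the extension model in the transcendental case -/
noncomputable def modelA (hA : IsTransc M α) (hα : α ∉ Set.range M.ψ) : Model.{u, u} R K where
  S := SA M α
  ψ := ψA M α
  gen := genA M α
  isUnit_of_ne := isUnit_of_ne_A M α
  flat := flat_A M α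
  ker_eq := ker_eq_A hA
  generated := generated_A hα

theorem modelA_isHom (hA : IsTransc M α) (hα : α ∉ Set.range M.ψ) :
    IsHom M (modelA hA hα) (ιA M α) :=
  ⟨ψA_ιA M α, fun _ hβ => (genA_of_mem M α hβ).symm⟩

end CaseA

end Part3

section Part4

open IsLocalRing Polynomial

variable {R : Type u} {K : Type u} [CommRing R] [IsLocalRing R] [Field K] [Algebra R K]

section CaseB

variable (M : Model.{u, u} R K) (α : K)

theorem evalα_eq_eval_map (g : M.S[X]) :
    evalα M α g = eval α (g.map (M.ψ : M.S →+* K)) := by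
  rw [evalα_apply, eval₂_eq_eval_map]

theorem exists_monic_min (h : ¬ IsTransc M α) :
    ∃ F : M.S[X], F.Monic ∧ evalα M α F = 0 ∧
      ∀ g : M.S[X], evalα M α g = 0 → g.map (M.ψ : M.S →+* K) ≠ 0 →
        F.natDegree ≤ (g.map (M.ψ : M.S →+* K)).natDegree := by
  classical
  let P : ℕ → Prop := fun d => ∃ a : M.S[X], evalα M α a = 0 ∧ a.map (M.ψ : M.S →+* K) ≠ 0 ∧
    (a.map (M.ψ : M.S →+* K)).natDegree = d
  have hP : ∃ d, P d := by
    rw [IsTransc] at h
    push Not at h
    obtain ⟨a, ha, n, hn⟩ := h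
    refine ⟨_, a, ha, ?_, rfl⟩
    intro h0
    apply hn
    have := congrArg (fun p => p.coeff n) h0
    simpa [coeff_map] using this
  obtain ⟨a, ha0, hane, hadeg⟩ := Nat.find_spec hP
  set n := Nat.find hP with hn
  have hlc : M.ψ (a.coeff n) ≠ 0 := by
    have h1 : (a.map (M.ψ : M.S →+* K)).leadingCoeff ≠ 0 := leadingCoeff_ne_zero.2 hane
    rw [leadingCoeff, hadeg, coeff_map] at h1
    exact h1
  obtain ⟨c, hc⟩ := M.isUnit_of_ne _ hlc
  have hψc : M.ψ (↑c⁻¹ : M.S) * M.ψ (a.coeff n) = 1 := by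
    rw [← hc, ← map_mul, Units.inv_mul, map_one]
  have hψc0 : M.ψ (↑c⁻¹ : M.S) ≠ 0 := left_ne_zero_of_mul_eq_one hψc
  set a₁ : M.S[X] := C (↑c⁻¹ : M.S) * a with ha₁
  have hmap : a₁.map (M.ψ : M.S →+* K) = C (M.ψ (↑c⁻¹ : M.S)) * a.map (M.ψ : M.S →+* K) := by
    rw [ha₁, Polynomial.map_mul, map_C]; rfl
  have hdeg : (a₁.map (M.ψ : M.S →+* K)).natDegree = n := by
    rw [hmap, natDegree_C_mul hψc0, hadeg]
  have hmonic : (a₁.map (M.ψ : M.S →+* K)).Monic := by
    rw [Monic, hmap, leadingCoeff_mul, leadingCoeff_C, leadingCoeff, hadeg, coeff_map]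
    exact hψc
  have hlifts : a₁.map (M.ψ : M.S →+* K) ∈ lifts (M.ψ : M.S →+* K) := by
    rw [mem_lifts]; exact ⟨a₁, rfl⟩
  obtain ⟨F, hF1, hF2, hF3⟩ := lifts_and_natDegree_eq_and_monic hlifts hmonic
  refine ⟨F, hF3, ?_, ?_⟩
  · rw [evalα_eq_eval_map, hF1, ← evalα_eq_eval_map, ha₁, map_mul, ha0, mul_zero]
  · intro g hg0 hgne
    rw [hF2, hdeg]
    exact Nat.find_min' hP ⟨g, hg0, hgne, rfl⟩

variable (F : M.S[X])

/-- the residue map of `AdjoinRoot F` -/
noncomputable def ψB (hF0 : evalα M α F = 0) : AdjoinRoot F →ₐ[R] K :=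
  AdjoinRoot.liftAlgHom F M.ψ α (show eval₂ (M.ψ : M.S →+* K) α F = 0 from hF0)

/-- the structure map -/
noncomputable def ιB : M.S →ₐ[R] AdjoinRoot F := IsScalarTower.toAlgHom R M.S (AdjoinRoot F)

theorem ιB_apply (s : M.S) : ιB M F s = AdjoinRoot.of F s := rfl

variable {F} (hF0 : evalα M α F = 0)

theorem ψB_mk (g : M.S[X]) : ψB M α F hF0 (AdjoinRoot.mk F g) = evalα M α g := by
  exact AdjoinRoot.lift_mk (f := F) (i := M.ψ.toRingHom) (a := α)
    (show eval₂ M.ψ.toRingHom α F = 0 from hF0) g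

theorem ψB_ιB (s : M.S) : ψB M α F hF0 (ιB M F s) = M.ψ s := by
  rw [ιB_apply, ← AdjoinRoot.mk_C, ψB_mk, evalα_C]

theorem ψB_root : ψB M α F hF0 (AdjoinRoot.root F) = α := by
  rw [← AdjoinRoot.mk_X, ψB_mk, evalα_X]

open Classical in
/-- the generators -/
noncomputable def genB (β : K) : AdjoinRoot F :=
  if β ∈ Set.range M.ψ then ιB M F (M.gen β)
  else if β = α then AdjoinRoot.root F else 0

theorem genB_of_mem {β : K} (hβ : β ∈ Set.range M.ψ) :
    genB M α (F := F) β = ιB M F (M.gen β) := by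
  rw [genB, if_pos hβ]

theorem genB_α (hα : α ∉ Set.range M.ψ) : genB M α (F := F) α = AdjoinRoot.root F := by
  rw [genB, if_neg hα, if_pos rfl]

theorem rangeB_subset : Set.range M.ψ ⊆ Set.range (ψB M α F hF0) := by
  rintro _ ⟨s, rfl⟩
  exact ⟨ιB M F s, ψB_ιB M α hF0 s⟩

theorem α_mem_rangeB : α ∈ Set.range (ψB M α F hF0) := ⟨_, ψB_root M α hF0⟩

theorem map_maximalIdeal_B :
    ((RingHom.ker M.ψ).map (C : M.S →+* M.S[X])).map (AdjoinRoot.mk F) =
      (maximalIdeal R).map (algebraMap R (AdjoinRoot F)) := by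
  rw [M.ker_eq, Ideal.map_map, Ideal.map_map]
  rfl

theorem generated_B (hα : α ∉ Set.range M.ψ) (s : AdjoinRoot F) :
    s ∈ genSet (ψB M α F hF0) (genB M α) := by
  have hι : ∀ x : M.S, ιB M F x ∈ genSet (ψB M α F hF0) (genB M α) := by
    intro x
    obtain ⟨t, ht, rfl⟩ := M.generated x
    refine ⟨t, ht.trans (rangeB_subset M α hF0), ?_⟩
    exact (ev_map M (ψB M α F hF0) (genB M α) (ιB M F) (ψB_ιB M α hF0)
      (fun β hβ => (genB_of_mem M α hβ).symm) t ht).symm
  have hX : AdjoinRoot.root F ∈ genSet (ψB M α F hF0) (genB M α) := by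
    rw [← genB_α M α hα]
    exact genSet_gen _ _ (α_mem_rangeB M α hF0)
  obtain ⟨p, rfl⟩ := AdjoinRoot.mk_surjective s
  induction p using Polynomial.induction_on' with
  | add p q hp hq => rw [map_add]; exact genSet_add hp hq
  | monomial n c =>
    rw [← C_mul_X_pow_eq_monomial, map_mul, map_pow, AdjoinRoot.mk_C, AdjoinRoot.mk_X]
    exact genSet_mul (hι c) (genSet_pow hX n)

theorem flat_B (hF : F.Monic) : Module.Flat R (AdjoinRoot F) := by
  haveI := M.flat
  haveI : Module.Free M.S (AdjoinRoot F) := Module.Free.of_basis (AdjoinRoot.powerBasis' hF).basis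
  exact Module.Flat.trans R M.S (AdjoinRoot F)

theorem ker_eq_B (hF : F.Monic)
    (hmin : ∀ g : M.S[X], evalα M α g = 0 → g.map (M.ψ : M.S →+* K) ≠ 0 →
        F.natDegree ≤ (g.map (M.ψ : M.S →+* K)).natDegree) :
    RingHom.ker (ψB M α F hF0) = (maximalIdeal R).map (algebraMap R (AdjoinRoot F)) := by
  refine le_antisymm ?_ (M.map_le_ker _)
  intro s hs
  obtain ⟨g, rfl⟩ := AdjoinRoot.mk_surjective s
  have hF1 : F ≠ 1 := by
    rintro rfl
    rw [map_one] at hF0
    exact one_ne_zero hF0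
  have h1 : AdjoinRoot.mk F g = AdjoinRoot.mk F (g %ₘ F) := by
    rw [AdjoinRoot.mk_eq_mk]
    refine ⟨g /ₘ F, ?_⟩
    have := modByMonic_add_div g F
    rw [eq_comm, eq_sub_iff_add_eq, add_comm]
    exact this
  rw [h1] at hs ⊢
  rw [RingHom.mem_ker, ψB_mk] at hs
  have h2 : (g %ₘ F).map (M.ψ : M.S →+* K) = 0 := by
    by_contra hne
    have h3 := hmin _ hs hne
    have h4 : ((g %ₘ F).map (M.ψ : M.S →+* K)).natDegree ≤ (g %ₘ F).natDegree :=
      natDegree_map_le
    have h5 := natDegree_modByMonic_lt g hF hF1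
    omega
  have h6 : g %ₘ F ∈ (RingHom.ker M.ψ).map (C : M.S →+* M.S[X]) := by
    rw [Ideal.mem_map_C_iff]
    intro n
    rw [RingHom.mem_ker]
    have := congrArg (fun p => p.coeff n) h2
    simpa [coeff_map] using this
  have h7 := Ideal.mem_map_of_mem (AdjoinRoot.mk F) h6
  rw [map_maximalIdeal_B] at h7
  exact h7

theorem isUnit_of_ne_B (hF : F.Monic)
    (hmin : ∀ g : M.S[X], evalα M α g = 0 → g.map (M.ψ : M.S →+* K) ≠ 0 →
        F.natDegree ≤ (g.map (M.ψ : M.S →+* K)).natDegree)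
    (s : AdjoinRoot F) (hs : ψB M α F hF0 s ≠ 0) : IsUnit s := by
  by_contra hns
  obtain ⟨𝔐, h𝔐, hs𝔐⟩ := exists_max_ideal_of_mem_nonunits (mem_nonunits_iff.2 hns)
  haveI := M.isLocalRing
  haveI : Module.Finite M.S (AdjoinRoot F) := Module.Finite.of_basis (AdjoinRoot.powerBasis' hF).basis
  haveI : Algebra.IsIntegral M.S (AdjoinRoot F) := Algebra.IsIntegral.of_finite _ _
  have hcomap : (RingHom.ker (ψB M α F hF0)).comap (algebraMap M.S (AdjoinRoot F)) =
      maximalIdeal M.S := by
    rw [M.maximalIdeal_eq]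
    ext x
    rw [Ideal.mem_comap, RingHom.mem_ker, RingHom.mem_ker]
    have : ψB M α F hF0 (algebraMap M.S (AdjoinRoot F) x) = M.ψ x := ψB_ιB M α hF0 x
    rw [this]
  haveI : (RingHom.ker (ψB M α F hF0)).IsPrime := RingHom.ker_isPrime _
  have hPmax : (RingHom.ker (ψB M α F hF0)).IsMaximal :=
    Ideal.isMaximal_of_isIntegral_of_isMaximal_comap (R := M.S) _
      (by rw [hcomap]; exact maximalIdeal.isMaximal _)
  have h𝔐comap : 𝔐.comap (algebraMap M.S (AdjoinRoot F)) = maximalIdeal M.S :=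
    IsLocalRing.eq_maximalIdeal (Ideal.isMaximal_comap_of_isIntegral_of_isMaximal (R := M.S) 𝔐)
  have hle : RingHom.ker (ψB M α F hF0) ≤ 𝔐 := by
    rw [ker_eq_B M α hF0 hF hmin]
    have h1 : (maximalIdeal R).map (algebraMap R (AdjoinRoot F)) =
        ((maximalIdeal R).map (algebraMap R M.S)).map (algebraMap M.S (AdjoinRoot F)) := by
      rw [Ideal.map_map, ← IsScalarTower.algebraMap_eq]
    rw [h1, ← M.ker_eq, ← M.maximalIdeal_eq, Ideal.map_le_iff_le_comap, h𝔐comap]
  have heq : RingHom.ker (ψB M α F hF0) = 𝔐 := hPmax.eq_of_le h𝔐.ne_top hle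
  rw [← heq, RingHom.mem_ker] at hs𝔐
  exact hs hs𝔐

/-- the extension model in the algebraic case -/
noncomputable def modelB (hF : F.Monic)
    (hmin : ∀ g : M.S[X], evalα M α g = 0 → g.map (M.ψ : M.S →+* K) ≠ 0 →
        F.natDegree ≤ (g.map (M.ψ : M.S →+* K)).natDegree)
    (hα : α ∉ Set.range M.ψ) : Model.{u, u} R K where
  S := AdjoinRoot F
  ψ := ψB M α F hF0
  gen := genB M α
  isUnit_of_ne := isUnit_of_ne_B M α hF0 hF hmin
  flat := flat_B M hF
  ker_eq := ker_eq_B M α hF0 hF hmin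
  generated := generated_B M α hF0 hα

theorem modelB_isHom (hF : F.Monic)
    (hmin : ∀ g : M.S[X], evalα M α g = 0 → g.map (M.ψ : M.S →+* K) ≠ 0 →
        F.natDegree ≤ (g.map (M.ψ : M.S →+* K)).natDegree)
    (hα : α ∉ Set.range M.ψ) :
    IsHom M (modelB M α hF0 hF hmin hα) (ιB M F) :=
  ⟨ψB_ιB M α hF0, fun _ hβ => (genB_of_mem M α hβ).symm⟩

end CaseB

end Part4

section Part5

open IsLocalRing Polynomial

variable {R : Type u} {K : Type u} [CommRing R] [IsLocalRing R] [Field K] [Algebra R K]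

/-- the Zorn relation -/
def Le (M M' : Model.{u, u} R K) : Prop := ∃ f : M.S →ₐ[R] M'.S, IsHom M M' f

theorem Le.refl (M : Model.{u, u} R K) : Le M M := ⟨_, IsHom.id M⟩

theorem Le.trans {M₁ M₂ M₃ : Model.{u, u} R K} (h₁ : Le M₁ M₂) (h₂ : Le M₂ M₃) : Le M₁ M₃ := by
  obtain ⟨f, hf⟩ := h₁
  obtain ⟨g, hg⟩ := h₂
  exact ⟨_, hf.comp hg⟩

theorem exists_extension (M : Model.{u, u} R K) (α : K) (hα : α ∉ Set.range M.ψ) :
    ∃ M' : Model.{u, u} R K, Le M M' ∧ α ∈ Set.range M'.ψ := by
  by_cases hA : IsTransc M α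
  · exact ⟨modelA hA hα, ⟨_, modelA_isHom hA hα⟩, α_mem_rangeA M α⟩
  · obtain ⟨F, hF, hF0, hmin⟩ := exists_monic_min M α hA
    exact ⟨modelB M α hF0 hF hmin hα, ⟨_, modelB_isHom M α hF0 hF hmin hα⟩, α_mem_rangeB M α hF0⟩

theorem exists_upper_bound (hRK : RingHom.ker (algebraMap R K) = maximalIdeal R)
    (c : Set (Model.{u, u} R K)) (hc : IsChain Le c) : ∃ ub, ∀ a ∈ c, Le a ub := by
  by_cases hne : c.Nonempty
  · letI : Preorder ↥c :=
      { le := fun a b => Le a.1 b.1
        le_refl := fun a => Le.refl a.1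
        le_trans := fun a b d h₁ h₂ => Le.trans h₁ h₂ }
    haveI : Nonempty ↥c := hne.to_subtype
    haveI : IsDirectedOrder ↥c := ⟨fun a b => by
      by_cases hab : a.1 = b.1
      · exact ⟨b, by rw [Subtype.ext hab], Le.refl _⟩
      · rcases hc a.2 b.2 hab with h | h
        · exact ⟨b, h, Le.refl _⟩
        · exact ⟨a, Le.refl _, h⟩⟩
    let Mi : ↥c → Model.{u, u} R K := fun a => a.1
    let f : ∀ i j : ↥c, i ≤ j → (Mi i).S →ₐ[R] (Mi j).S := fun i j h => h.choose
    have hf : ∀ i j (h : i ≤ j), IsHom (Mi i) (Mi j) (f i j h) := fun i j h => h.choose_spec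
    haveI := directedSystem Mi f hf
    obtain ⟨M₀, g, hg⟩ := (colimModel Mi f hf).exists_shrink
    exact ⟨M₀, fun a ha => ⟨_, (colimModel_isHom Mi f hf ⟨a, ha⟩).comp hg⟩⟩
  · rw [Set.not_nonempty_iff_eq_empty] at hne
    exact ⟨baseModel hRK, fun a ha => by rw [hne] at ha; exact absurd ha (Set.notMem_empty a)⟩

theorem exists_model_surjective (hRK : RingHom.ker (algebraMap R K) = maximalIdeal R) :
    ∃ M : Model.{u, u} R K, Function.Surjective M.ψ := by
  obtain ⟨M, hM⟩ := exists_maximal_of_chains_bounded (r := Le (R := R) (K := K))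
    (exists_upper_bound hRK) Le.trans
  refine ⟨M, fun α => ?_⟩
  by_contra hα
  obtain ⟨M', hle, hα'⟩ := exists_extension M α hα
  obtain ⟨g, hg⟩ := hM M' hle
  exact hα (hg.range_subset hα')

theorem main {R K : Type u} [CommRing R] [IsLocalRing R] [Field K]
    [Algebra (IsLocalRing.ResidueField R) K] :
    ∃ (R' : Type u) (_ : CommRing R') (_ : IsLocalRing R') (_ : Algebra R R')
      (_ : IsLocalHom (algebraMap R R')),
      Module.Flat R R' ∧
      (IsLocalRing.maximalIdeal R).map (algebraMap R R') = IsLocalRing.maximalIdeal R' ∧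
      Nonempty (IsLocalRing.ResidueField R' ≃ₐ[IsLocalRing.ResidueField R] K) := by
  letI : Algebra R K := ((algebraMap (ResidueField R) K).comp (residue R)).toAlgebra
  have halg : ∀ r : R, algebraMap R K r = algebraMap (ResidueField R) K (residue R r) :=
    fun _ => rfl
  have hRK : RingHom.ker (algebraMap R K) = maximalIdeal R := by
    ext x
    rw [RingHom.mem_ker, halg, map_eq_zero_iff _ (algebraMap (ResidueField R) K).injective,
      residue_eq_zero_iff]
  obtain ⟨M, hM⟩ := exists_model_surjective (R := R) (K := K) hRK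
  have hloc : IsLocalHom (algebraMap R M.S) := ⟨fun a ha => by
    by_contra hna
    have h1 : a ∈ maximalIdeal R := hna
    rw [← hRK, RingHom.mem_ker] at h1
    have h2 := (M.isUnit_iff _).1 ha
    rw [AlgHom.commutes] at h2
    exact h2 h1⟩
  refine ⟨M.S, M.cr, M.isLocalRing, M.alg, hloc, M.flat, ?_, ⟨?_⟩⟩
  · rw [← M.ker_eq, M.maximalIdeal_eq]
  · letI := M.isLocalRing
    haveI : IsLocalHom (M.ψ : M.S →+* K) := ⟨fun a ha => M.isUnit_of_ne a ha.ne_zero⟩
    let ψbar : ResidueField M.S →+* K := IsLocalRing.ResidueField.lift (M.ψ : M.S →+* K)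
    have hψbar : ∀ s, ψbar (residue M.S s) = M.ψ s := fun s => rfl
    let ψalg : ResidueField M.S →ₐ[ResidueField R] K :=
      { ψbar with
        commutes' := fun x => by
          obtain ⟨r, rfl⟩ := residue_surjective x
          change ψbar (residue M.S (algebraMap R M.S r)) = _
          rw [hψbar, AlgHom.commutes, halg] }
    refine AlgEquiv.ofBijective ψalg ⟨ψbar.injective, fun β => ?_⟩
    obtain ⟨s, rfl⟩ := hM β
    exact ⟨residue M.S s, hψbar s⟩

end Part5

end Groth.Agent.Lib.R2H1.FlatResExt
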