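/-
helper1 (round 2): exists_theta (P^n_Y -> P^n_Z x_Z P^m_Z induced by j : Y -> P^m_Z is a base change of j), s9692 (composition of H-projective morphisms is H-projective, via the Segre embedding S1616).
-/
import Mathlib
import Groth.Prelude
import Groth.Agent.S1616

set_option autoImplicit false
set_option linter.style.haveILetI false
set_option linter.unusedSectionVars false
universe u v

namespace Groth.Agent.Lib.R2H1.HProjComp

section Part1

open CategoryTheory CategoryTheory.Limits AlgebraicGeometry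

/-- `P^n_Y ⟶ P^n_Z ×_Z P^m_Z` induced by a morphism `j : Y ⟶ P^m_Z`, a base change of `j`. -/
theorem exists_theta {Y Z : Scheme.{u}} (n m : ℕ) (j : Y ⟶ CohB1.ProjSpaceOver m Z) :
    ∃ θ : CohB1.ProjSpaceOver n Y ⟶
        pullback (CohB1.ProjSpaceOver.toBase n Z) (CohB1.ProjSpaceOver.toBase m Z),
      IsPullback θ (CohB1.ProjSpaceOver.toBase n Y)
        (pullback.snd (CohB1.ProjSpaceOver.toBase n Z) (CohB1.ProjSpaceOver.toBase m Z)) j ∧
      θ ≫ pullback.fst (CohB1.ProjSpaceOver.toBase n Z) (CohB1.ProjSpaceOver.toBase m Z) ≫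
        CohB1.ProjSpaceOver.toBase n Z =
        CohB1.ProjSpaceOver.toBase n Y ≫ j ≫ CohB1.ProjSpaceOver.toBase m Z := by
  let g : Y ⟶ Z := j ≫ CohB1.ProjSpaceOver.toBase m Z
  let fstY : CohB1.ProjSpaceOver n Y ⟶ CohB1.ProjSpace n (ULift.{u} ℤ) :=
    pullback.fst (CohB1.ProjSpace.toSpec n (ULift.{u} ℤ)) (specULiftZIsTerminal.from Y)
  let fstZ : CohB1.ProjSpaceOver n Z ⟶ CohB1.ProjSpace n (ULift.{u} ℤ) :=
    pullback.fst (CohB1.ProjSpace.toSpec n (ULift.{u} ℤ)) (specULiftZIsTerminal.from Z)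
  let α : CohB1.ProjSpaceOver n Y ⟶ CohB1.ProjSpaceOver n Z :=
    pullback.lift fstY (CohB1.ProjSpaceOver.toBase n Y ≫ g) (specULiftZIsTerminal.hom_ext _ _)
  have hα1 : α ≫ fstZ = fstY := pullback.lift_fst _ _ _
  have hα2 : α ≫ CohB1.ProjSpaceOver.toBase n Z = CohB1.ProjSpaceOver.toBase n Y ≫ g :=
    pullback.lift_snd _ _ _
  let θ : CohB1.ProjSpaceOver n Y ⟶
      pullback (CohB1.ProjSpaceOver.toBase n Z) (CohB1.ProjSpaceOver.toBase m Z) :=
    pullback.lift α (CohB1.ProjSpaceOver.toBase n Y ≫ j) (by rw [hα2, Category.assoc])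
  have hθ1 : θ ≫ pullback.fst (CohB1.ProjSpaceOver.toBase n Z) (CohB1.ProjSpaceOver.toBase m Z) = α :=
    pullback.lift_fst _ _ _
  have hθ2 : θ ≫ pullback.snd (CohB1.ProjSpaceOver.toBase n Z) (CohB1.ProjSpaceOver.toBase m Z) =
      CohB1.ProjSpaceOver.toBase n Y ≫ j := pullback.lift_snd _ _ _
  have R1 : IsPullback fstZ (CohB1.ProjSpaceOver.toBase n Z) (CohB1.ProjSpace.toSpec n (ULift.{u} ℤ))
      (specULiftZIsTerminal.from Z) := IsPullback.of_hasPullback _ _
  have M : IsPullback (pullback.fst (CohB1.ProjSpaceOver.toBase n Z) (CohB1.ProjSpaceOver.toBase m Z))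
      (pullback.snd (CohB1.ProjSpaceOver.toBase n Z) (CohB1.ProjSpaceOver.toBase m Z))
      (CohB1.ProjSpaceOver.toBase n Z) (CohB1.ProjSpaceOver.toBase m Z) := IsPullback.of_hasPullback _ _
  have MR := M.paste_horiz R1
  have T : IsPullback fstY (CohB1.ProjSpaceOver.toBase n Y) (CohB1.ProjSpace.toSpec n (ULift.{u} ℤ))
      (specULiftZIsTerminal.from Y) := IsPullback.of_hasPullback _ _
  have e1 : θ ≫ pullback.fst (CohB1.ProjSpaceOver.toBase n Z) (CohB1.ProjSpaceOver.toBase m Z) ≫ fstZ =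
      fstY := by rw [← Category.assoc, hθ1, hα1]
  have e2 : j ≫ CohB1.ProjSpaceOver.toBase m Z ≫ specULiftZIsTerminal.from Z =
      specULiftZIsTerminal.from Y := specULiftZIsTerminal.hom_ext _ _
  have T' : IsPullback
      (θ ≫ pullback.fst (CohB1.ProjSpaceOver.toBase n Z) (CohB1.ProjSpaceOver.toBase m Z) ≫ fstZ)
      (CohB1.ProjSpaceOver.toBase n Y) (CohB1.ProjSpace.toSpec n (ULift.{u} ℤ))
      (j ≫ CohB1.ProjSpaceOver.toBase m Z ≫ specULiftZIsTerminal.from Z) := by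
    rw [e1, e2]; exact T
  refine ⟨θ, IsPullback.of_right T' hθ2 MR, ?_⟩
  rw [← Category.assoc, hθ1, hα2]

theorem s9692 {X Y Z : Scheme.{u}} (f : X ⟶ Y) (g : Y ⟶ Z)
    (hf : RelProj.IsHProjective f) (hg : RelProj.IsHProjective g) :
    RelProj.IsHProjective (f ≫ g) := by
  obtain ⟨n, i, hi, hif⟩ := hf
  obtain ⟨m, j, hj, hjg⟩ := hg
  obtain ⟨θ, hθ, hθ2⟩ := exists_theta n m j
  obtain ⟨φ, hφ, hφ2⟩ := Groth.Agent.S1616.result Z n m
  haveI : IsClosedImmersion θ :=
    MorphismProperty.of_isPullback (P := @IsClosedImmersion) hθ.flip hj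
  refine ⟨n * m + n + m, i ≫ θ ≫ φ, inferInstance, ?_⟩
  rw [Category.assoc, Category.assoc, hφ2, hθ2, ← Category.assoc, hif, hjg]

end Part1

end Groth.Agent.Lib.R2H1.HProjComp
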