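/-
R2H1HensGLim (helper1): every henselian local ring is the directed union (direct limit) of henselian local G-subrings with local inclusions: isGRing_ulift_int, isGRing_of_finiteType_int (finite type over ℤ ⇒ G-ring), Cs/Ps/Ls/phi/psi/stage (image in A of the henselization of the local ring of ℤ[s]), stage_mono, subset_stage, exists_directLimit_of_subrings, main_9309.
-/
import Mathlib
import Groth.Agent.Lib.Helper3HzD
import Groth.Agent.Lib.Helper3HzP
import Groth.Agent.Lib.Helper3HenselInt
import Groth.Agent.Lib.Helper7PolyGRing2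
import Groth.Agent.Lib.Helper7ExcLoc
import Groth.Agent.Lib.Helper7ExcDim1
import Groth.Agent.Lib.Helper14Japanese
import Groth.Agent.S2045

set_option autoImplicit false
set_option linter.style.haveILetI false
set_option linter.unusedSectionVars false
universe u

namespace Groth.Agent.Lib.R2H1.HensGLim

section Part1

open IsLocalRing

/-- `ULift ℤ` is a G-ring. -/
theorem isGRing_ulift_int : CAlg.IsGRing (ULift.{u} ℤ) := by
  haveI : IsDomain (ULift.{u} ℤ) :=
    (ULift.ringEquiv : ULift.{u} ℤ ≃+* ℤ).injective.isDomain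
      (ULift.ringEquiv : ULift.{u} ℤ ≃+* ℤ).toRingHom
  haveI : IsPrincipalIdealRing (ULift.{u} ℤ) :=
    IsPrincipalIdealRing.of_surjective (ULift.ringEquiv.symm : ℤ ≃+* ULift.{u} ℤ).toRingHom
      (ULift.ringEquiv.symm : ℤ ≃+* ULift.{u} ℤ).surjective
  haveI : CharZero (ULift.{u} ℤ) :=
    charZero_of_injective_ringHom (f := (ULift.ringEquiv.symm : ℤ ≃+* ULift.{u} ℤ).toRingHom)
      (ULift.ringEquiv.symm : ℤ ≃+* ULift.{u} ℤ).injective
  have hN1 : CAlg.IsN1 (ULift.{u} ℤ) := by
    unfold CAlg.IsN1
    rw [IsIntegrallyClosed.integralClosure_eq_bot (ULift.{u} ℤ) (FractionRing (ULift.{u} ℤ))]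
    infer_instance
  have hN2 : CAlg.IsN2 (ULift.{u} ℤ) :=
    Groth.Agent.Lib.Helper14.isN2_of_isN1_of_charZero (ULift.{u} ℤ) hN1
  have hNag : CAlg.IsNagata (ULift.{u} ℤ) := by
    refine ⟨inferInstance, fun p hp => ?_⟩
    by_cases hp0 : p = ⊥
    · subst hp0
      exact Groth.Agent.Lib.Helper14.isN2_of_ringEquiv (RingEquiv.quotientBot (ULift.{u} ℤ)).symm hN2
    · have hmax : p.IsMaximal := IsPrime.to_maximal_ideal hp0
      exact Groth.Agent.Lib.Helper14.isN2_of_isField _
        ((Ideal.Quotient.maximal_ideal_iff_isField_quotient _).mp hmax)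
  have hdim : ringKrullDim (ULift.{u} ℤ) ≤ 1 := Ring.krullDimLE_iff.mp inferInstance
  exact Groth.Agent.Lib.Helper7.ExcDim1.isGRing_of_isNagata_of_dim_le_one _ hNag hdim

/-- A commutative ring of finite type over `ℤ` is a G-ring. -/
theorem isGRing_of_finiteType_int (S : Type u) [CommRing S] [Algebra.FiniteType ℤ S] :
    CAlg.IsGRing S := by
  obtain ⟨n, f, hf⟩ := Algebra.FiniteType.iff_quotient_mvPolynomial''.1
    (inferInstance : Algebra.FiniteType ℤ S)
  let g : MvPolynomial (Fin n) (ULift.{u} ℤ) →+* S :=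
    f.toRingHom.comp (MvPolynomial.map (ULift.ringEquiv : ULift.{u} ℤ ≃+* ℤ).toRingHom)
  have hg : Function.Surjective g := by
    refine hf.comp ?_
    exact MvPolynomial.map_surjective _ (ULift.ringEquiv : ULift.{u} ℤ ≃+* ℤ).surjective
  have h1 := Groth.Agent.Lib.Helper7.PolyGRing2.isGRing_quotient _
    (Groth.Agent.Lib.Helper7.PolyGRing2.isGRing_mvPolynomial_fin (ULift.{u} ℤ)
      isGRing_ulift_int n) (RingHom.ker g)
  exact Groth.Agent.Lib.Helper7.PolyGRing2.isGRing_of_ringEquiv
    (RingHom.quotientKerEquivOfSurjective hg) h1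

end Part1

section Part2

open IsLocalRing Groth.Agent.Lib.Helper3.Hz

section stage
variable (A : Type u) [CommRing A] [HenselianLocalRing A]

/-- the subring generated by a finite set -/
def Cs (s : Finset A) : Subalgebra ℤ A := Algebra.adjoin ℤ (↑s : Set A)

/-- the contraction of the maximal ideal -/
def Ps (s : Finset A) : Ideal (Cs A s) := (maximalIdeal A).comap (algebraMap (Cs A s) A)

instance (s : Finset A) : (Ps A s).IsPrime := Ideal.comap_isPrime _ _

/-- the local ring of `Cs` -/
abbrev Ls (s : Finset A) : Type u := Localization.AtPrime (Ps A s)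

theorem isUnit_of_mem_primeCompl (s : Finset A) (y : (Ps A s).primeCompl) :
    IsUnit (algebraMap (Cs A s) A y) := by
  have h1 : (y : Cs A s) ∉ Ps A s := y.2
  by_contra h
  exact h1 ((mem_maximalIdeal _).2 h)

/-- the canonical map `Ls → A` -/
noncomputable def phi (s : Finset A) : Ls A s →+* A :=
  IsLocalization.lift (M := (Ps A s).primeCompl) (g := algebraMap (Cs A s) A)
    (isUnit_of_mem_primeCompl A s)

theorem phi_algebraMap (s : Finset A) (c : Cs A s) :
    phi A s (algebraMap (Cs A s) (Ls A s) c) = (c : A) :=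
  IsLocalization.lift_eq _ _

instance isLocalHom_phi (s : Finset A) : IsLocalHom (phi A s) := by
  refine ⟨fun x hx => ?_⟩
  obtain ⟨a, b, rfl⟩ := IsLocalization.exists_mk'_eq (Ps A s).primeCompl x
  rw [IsLocalization.AtPrime.isUnit_mk'_iff]
  have h1 : phi A s (IsLocalization.mk' (Ls A s) a b) * ((b : Cs A s) : A) = (a : A) := by
    rw [← phi_algebraMap A s (b : Cs A s), ← map_mul, IsLocalization.mk'_spec, phi_algebraMap]
  have h2 : IsUnit ((a : Cs A s) : A) := by
    rw [← h1]
    exact hx.mul (isUnit_of_mem_primeCompl A s b)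
  intro ha
  exact ((mem_maximalIdeal _).1 ha) h2

theorem exists_psi (s : Finset A) :
    ∃! g : Rh (Ls A s) →+* A, g.comp (algebraMap (Ls A s) (Rh (Ls A s))) = phi A s :=
  Hensel.IsHenselization.universal (R := Ls A s) (S := Rh (Ls A s)) A (phi A s)
    (isLocalHom_phi A s)

/-- the induced map from the henselization -/
noncomputable def psi (s : Finset A) : Rh (Ls A s) →+* A := (exists_psi A s).exists.choose

theorem psi_comp (s : Finset A) :
    (psi A s).comp (algebraMap (Ls A s) (Rh (Ls A s))) = phi A s :=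
  (exists_psi A s).exists.choose_spec

theorem psi_unique (s : Finset A) (g : Rh (Ls A s) →+* A)
    (hg : g.comp (algebraMap (Ls A s) (Rh (Ls A s))) = phi A s) : g = psi A s :=
  (exists_psi A s).unique hg (psi_comp A s)

instance isLocalHom_psi (s : Finset A) : IsLocalHom (psi A s) := by
  have hle : maximalIdeal (Rh (Ls A s)) ≤ (maximalIdeal A).comap (psi A s) := by
    rw [← Groth.Agent.Lib.Helper3.HzP.hz_map_maximalIdeal (Ls A s) (Rh (Ls A s)),
      Ideal.map_le_iff_le_comap, Ideal.comap_comap, psi_comp]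
    intro x hx
    rw [Ideal.mem_comap, mem_maximalIdeal, mem_nonunits_iff]
    intro hu
    exact ((mem_maximalIdeal x).1 hx) (isUnit_of_map_unit (phi A s) x hu)
  refine ⟨fun x hx => ?_⟩
  by_contra hnu
  have h1 := hle ((mem_maximalIdeal x).2 hnu)
  exact ((mem_maximalIdeal _).1 h1) hx

/-- the image of the henselization of `Ls` -/
noncomputable def stage (s : Finset A) : Subring A := (psi A s).range

theorem stage_mono {s t : Finset A} (h : s ⊆ t) : stage A s ≤ stage A t := by
  have hle : Cs A s ≤ Cs A t := Algebra.adjoin_mono (Finset.coe_subset.2 h)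
  let ι : Cs A s →+* Cs A t := (Subalgebra.inclusion hle).toRingHom
  have hP : Ps A s = (Ps A t).comap ι := rfl
  let lam : Ls A s →+* Ls A t := Localization.localRingHom (Ps A s) (Ps A t) ι hP
  have hlam : (phi A t).comp lam = phi A s := by
    apply IsLocalization.ringHom_ext (Ps A s).primeCompl
    ext c
    simp only [RingHom.comp_apply]
    rw [phi_algebraMap]
    change phi A t (Localization.localRingHom (Ps A s) (Ps A t) ι hP
      (algebraMap (Cs A s) (Ls A s) c)) = _
    rw [Localization.localRingHom_to_map, phi_algebraMap]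
    rfl
  haveI : IsLocalHom lam := Localization.isLocalHom_localRingHom _ _ _ _
  have hloc : IsLocalHom ((algebraMap (Ls A t) (Rh (Ls A t))).comp lam) :=
    RingHom.isLocalHom_comp _ _
  obtain ⟨g, hg, -⟩ := Hensel.IsHenselization.universal (R := Ls A s) (S := Rh (Ls A s))
    (Rh (Ls A t)) _ hloc
  have h1 : (psi A t).comp g = psi A s := by
    apply psi_unique
    rw [RingHom.comp_assoc, hg, ← RingHom.comp_assoc, psi_comp, hlam]
  rintro x ⟨y, rfl⟩
  exact ⟨g y, by rw [← h1]; rfl⟩

theorem subset_stage (s : Finset A) : (↑s : Set A) ⊆ stage A s := by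
  intro a ha
  have haC : a ∈ Cs A s := Algebra.subset_adjoin ha
  refine ⟨algebraMap (Ls A s) (Rh (Ls A s)) (algebraMap (Cs A s) (Ls A s) ⟨a, haC⟩), ?_⟩
  have h1 := congrArg (fun φ => φ (algebraMap (Cs A s) (Ls A s) ⟨a, haC⟩)) (psi_comp A s)
  simp only [RingHom.comp_apply] at h1
  rw [h1, phi_algebraMap]

end stage

end Part2

section Part3

open IsLocalRing Groth.Agent.Lib.Helper3.Hz

section props
variable (A : Type u) [CommRing A] [HenselianLocalRing A]

theorem isGRing_Ls (s : Finset A) : CAlg.IsGRing (Ls A s) := by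
  haveI : Algebra.FiniteType ℤ (Cs A s) :=
    (Subalgebra.fg_iff_finiteType _).1 (Subalgebra.fg_adjoin_finset s)
  exact Groth.Agent.Lib.Helper7.ExcLoc.isGRing_localization (Cs A s)
    (isGRing_of_finiteType_int (Cs A s)) (Ps A s).primeCompl

theorem isGRing_Rh (s : Finset A) : CAlg.IsGRing (Rh (Ls A s)) := by
  have h := isGRing_Ls A s
  haveI := h.1
  exact Groth.Agent.S2045.result (R := Ls A s) (S := Rh (Ls A s)) h

theorem isGRing_stage (s : Finset A) : CAlg.IsGRing (stage A s) :=
  Groth.Agent.Lib.Helper7.PolyGRing2.isGRing_of_ringEquiv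
    (RingHom.quotientKerEquivRange (psi A s))
    (Groth.Agent.Lib.Helper7.PolyGRing2.isGRing_quotient _ (isGRing_Rh A s) _)

theorem rangeRestrict_surjective (s : Finset A) :
    Function.Surjective ((psi A s).rangeRestrict) := (psi A s).rangeRestrict_surjective

instance isLocalRing_stage (s : Finset A) : IsLocalRing (stage A s) :=
  IsLocalRing.of_surjective' ((psi A s).rangeRestrict) (rangeRestrict_surjective A s)

theorem henselian_stage (s : Finset A) : HenselianLocalRing (stage A s) := by
  letI : Algebra (Rh (Ls A s)) (stage A s) := ((psi A s).rangeRestrict).toAlgebra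
  haveI : Algebra.IsIntegral (Rh (Ls A s)) (stage A s) := ⟨fun x => by
    obtain ⟨y, rfl⟩ := rangeRestrict_surjective A s x
    exact isIntegral_algebraMap⟩
  exact Groth.Agent.Lib.Helper3.HenselInt.henselian_of_isIntegral (Rh (Ls A s)) (stage A s)

theorem isLocalHom_subtype (s : Finset A) : IsLocalHom (stage A s).subtype := by
  refine ⟨fun x hx => ?_⟩
  obtain ⟨y, hy⟩ := x.2
  have h1 : IsUnit (psi A s y) := by rw [hy]; exact hx
  have h2 : IsUnit y := isUnit_of_map_unit (psi A s) y h1
  have h3 : (psi A s).rangeRestrict y = x := Subtype.ext hy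
  rw [← h3]
  exact h2.map _

end props

end Part3

section Part4

open IsLocalRing

/-- A ring which is the directed union of a monotone family of subrings indexed by finite subsets
is the direct limit of that family. -/
theorem exists_directLimit_of_subrings (A : Type u) [CommRing A] (H : Finset A → Subring A)
    (hmono : ∀ s t : Finset A, s ≤ t → H s ≤ H t) (hsub : ∀ s : Finset A, (↑s : Set A) ⊆ H s)
    (hprop : ∀ s, HenselianLocalRing (H s) ∧ CAlg.IsGRing (H s))
    (hloc : ∀ s, IsLocalHom (H s).subtype) :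
    ∃ (ι : Type u) (_ : Preorder ι) (_ : IsDirectedOrder ι) (_ : Nonempty ι) (G : ι → Type u)
      (_ : ∀ i, CommRing (G i)) (f : ∀ i j : ι, i ≤ j → (G i →+* G j))
      (_ : DirectedSystem G (fun i j h => f i j h)),
      (∀ i, HenselianLocalRing (G i) ∧ CAlg.IsGRing (G i)) ∧
      (∀ (i j : ι) (h : i ≤ j), IsLocalHom (f i j h)) ∧
      Nonempty (A ≃+* DirectLimit G f) := by
  classical
  haveI hds : DirectedSystem (fun s : Finset A => ↥(H s))
      (fun s t h => ⇑(Subring.inclusion (hmono s t h))) :=
    ⟨fun i x => rfl, fun i j k hij hjk x => rfl⟩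
  refine ⟨Finset A, inferInstance, inferInstance, inferInstance, fun s => H s,
    fun s => inferInstance, fun s t h => Subring.inclusion (hmono s t h),
    hds, hprop, ?_, ?_⟩
  · intro s t h
    refine ⟨fun x hx => ?_⟩
    haveI := hloc s
    apply isUnit_of_map_unit (H s).subtype
    have h1 := hx.map (H t).subtype
    exact h1
  · let Ψ : DirectLimit (fun s : Finset A => H s)
        (fun s t h => Subring.inclusion (hmono s t h)) →+* A :=
      DirectLimit.Ring.lift _ _ A (fun s => (H s).subtype) (fun i j hij x => rfl)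
    have hinj : Function.Injective Ψ := by
      intro x y
      refine DirectLimit.induction₂ _ (fun i x y hxy => ?_) x y
      have h1 : (x : A) = (y : A) := hxy
      rw [Subtype.ext h1]
    have hsurj : Function.Surjective Ψ := by
      intro a
      exact ⟨⟦⟨{a}, ⟨a, hsub {a} (by simp)⟩⟩⟧, rfl⟩
    exact ⟨(RingEquiv.ofBijective Ψ ⟨hinj, hsurj⟩).symm⟩

theorem main_9309 (A : Type u) [CommRing A] [HenselianLocalRing A] :
    ∃ (ι : Type u) (_ : Preorder ι) (_ : IsDirectedOrder ι) (_ : Nonempty ι) (G : ι → Type u)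
      (_ : ∀ i, CommRing (G i)) (f : ∀ i j : ι, i ≤ j → (G i →+* G j))
      (_ : DirectedSystem G (fun i j h => f i j h)),
      (∀ i, HenselianLocalRing (G i) ∧ CAlg.IsGRing (G i)) ∧
      (∀ (i j : ι) (h : i ≤ j), IsLocalHom (f i j h)) ∧
      Nonempty (A ≃+* DirectLimit G f) :=
  exists_directLimit_of_subrings A (stage A) (fun _ _ h => stage_mono A h) (subset_stage A)
    (fun s => ⟨henselian_stage A s, isGRing_stage A s⟩) (isLocalHom_subtype A)

end Part4

end Groth.Agent.Lib.R2H1.HensGLim
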