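import Mathlib
import Groth.Prelude.Def_CycAlg

/-!
# Herbrand quotients of nilpotent endomorphisms (helper1, round 2)

`rl A B = ℓ(B / A ∩ B)` relative lengths of submodules (`rl_add`, `rl_inf_sup`, `rl_map`), and for an
endomorphism `φ` with `φ^n = 0`: `hh_symm : ℓ(ker φ^i / im φ^(n-i)) = ℓ(ker φ^(n-i) / im φ^i)` and
`hh_lt_top`, assuming `ℓ(ker φ / im φ^(n-1)) < ∞`.
-/

set_option autoImplicit false
set_option linter.unusedSectionVars false
universe u v

namespace Groth.Agent.Lib.R2H1.Herbrand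

section Part0


variable {R : Type u} [CommRing R] {M : Type v} [AddCommGroup M] [Module R M]

/-- relative length `ℓ(B / A ∩ B)` -/
noncomputable def rl (A B : Submodule R M) : ℕ∞ := Module.length R (B ⧸ A.submoduleOf B)

theorem rl_add (N P Q : Submodule R M) (hNP : N ≤ P) (hPQ : P ≤ Q) :
    rl N Q = rl N P + rl P Q := by
  unfold rl
  have h1 : N.submoduleOf P ≤ Submodule.comap (Submodule.inclusion hPQ) (N.submoduleOf Q) :=
    fun z hz => hz
  have h2 : N.submoduleOf Q ≤ P.submoduleOf Q := fun z hz => hNP hz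
  refine Module.length_eq_add_of_exact (Submodule.mapQ _ _ (Submodule.inclusion hPQ) h1)
    (Submodule.factor h2) ?_ (Submodule.factor_surjective h2) ?_
  · rw [injective_iff_map_eq_zero]
    intro y hy
    obtain ⟨z, rfl⟩ := Submodule.Quotient.mk_surjective _ y
    rw [Submodule.mapQ_apply, Submodule.Quotient.mk_eq_zero] at hy
    rw [Submodule.Quotient.mk_eq_zero]
    exact hy
  · rw [LinearMap.exact_iff]
    ext y
    obtain ⟨z, rfl⟩ := Submodule.Quotient.mk_surjective _ y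
    have hfm : Submodule.factor h2 (Submodule.Quotient.mk z) = Submodule.Quotient.mk z := rfl
    rw [LinearMap.mem_ker, hfm, Submodule.Quotient.mk_eq_zero, LinearMap.mem_range]
    constructor
    · intro hz
      refine ⟨Submodule.Quotient.mk ⟨(z : M), hz⟩, ?_⟩
      rw [Submodule.mapQ_apply]
      rfl
    · rintro ⟨w, hw⟩
      obtain ⟨p, rfl⟩ := Submodule.Quotient.mk_surjective _ w
      rw [Submodule.mapQ_apply, Submodule.Quotient.eq] at hw
      have hw' : ((p : M) - (z : M)) ∈ N := hw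
      have hzP : (z : M) = (p : M) - ((p : M) - (z : M)) := by abel
      change (z : M) ∈ P
      rw [hzP]
      exact P.sub_mem p.2 (hNP hw')

theorem rl_self (A : Submodule R M) : rl A A = 0 := by
  unfold rl
  rw [Module.length_eq_zero_iff]
  constructor
  intro x y
  obtain ⟨x, rfl⟩ := Submodule.Quotient.mk_surjective _ x
  obtain ⟨y, rfl⟩ := Submodule.Quotient.mk_surjective _ y
  rw [Submodule.Quotient.eq]
  exact A.sub_mem x.2 y.2

theorem rl_of_le (A B : Submodule R M) (h : B ≤ A) : rl A B = 0 := by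
  unfold rl
  rw [Module.length_eq_zero_iff]
  constructor
  intro x y
  obtain ⟨x, rfl⟩ := Submodule.Quotient.mk_surjective _ x
  obtain ⟨y, rfl⟩ := Submodule.Quotient.mk_surjective _ y
  rw [Submodule.Quotient.eq]
  exact A.sub_mem (h x.2) (h y.2)

/-- second isomorphism theorem -/
theorem rl_inf_sup (A B : Submodule R M) : rl (A ⊓ B) A = rl B (A ⊔ B) := by
  unfold rl
  exact (LinearMap.quotientInfEquivSupQuotient A B).length_eq

/-- first isomorphism theorem: `B / (B ∩ f⁻¹ A') ≅ f(B) / (f(B) ∩ A')` -/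
theorem rl_map (f : M →ₗ[R] M) (B A' : Submodule R M) :
    rl (Submodule.comap f A') B = rl A' (Submodule.map f B) := by
  unfold rl
  -- the map B → f(B) / A'
  let g : B →ₗ[R] (Submodule.map f B) :=
    f.restrict (p := B) (q := Submodule.map f B) (fun x hx => Submodule.mem_map_of_mem hx)
  let g' : B →ₗ[R] (Submodule.map f B ⧸ A'.submoduleOf (Submodule.map f B)) :=
    (Submodule.mkQ _).comp g
  have hsurj : Function.Surjective g' := by
    intro y
    obtain ⟨⟨z, hz⟩, rfl⟩ := Submodule.Quotient.mk_surjective _ y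
    obtain ⟨x, hx, rfl⟩ := hz
    exact ⟨⟨x, hx⟩, rfl⟩
  have hker : LinearMap.ker g' = (Submodule.comap f A').submoduleOf B := by
    ext x
    rw [LinearMap.mem_ker]
    show Submodule.Quotient.mk (g x) = 0 ↔ _
    rw [Submodule.Quotient.mk_eq_zero]
    rfl
  have e := LinearMap.quotKerEquivOfSurjective g' hsurj
  rw [← e.length_eq]
  exact (Submodule.quotEquivOfEq _ _ hker).symm.length_eq


end Part0

section Part1


variable {R : Type u} [CommRing R] {M : Type v} [AddCommGroup M] [Module R M]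

theorem rl_inf_left (A B : Submodule R M) : rl (A ⊓ B) B = rl A B := by
  unfold rl
  have : (A ⊓ B).submoduleOf B = A.submoduleOf B := by
    ext x
    show (x : M) ∈ A ⊓ B ↔ (x : M) ∈ A
    exact ⟨fun h => h.1, fun h => ⟨h, x.2⟩⟩
  rw [this]

section nilp

variable (φ : M →ₗ[R] M)

/-- kernel of `φ^i` -/
abbrev K (i : ℕ) : Submodule R M := LinearMap.ker (φ ^ i)
/-- image of `φ^j` -/
abbrev I (j : ℕ) : Submodule R M := LinearMap.range (φ ^ j)

theorem pow_add_apply (a b : ℕ) (x : M) : (φ ^ (a + b)) x = (φ ^ a) ((φ ^ b) x) := by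
  rw [pow_add]; rfl

theorem K_mono {i j : ℕ} (h : i ≤ j) : K φ i ≤ K φ j := by
  intro x hx
  obtain ⟨d, rfl⟩ := Nat.exists_eq_add_of_le h
  rw [LinearMap.mem_ker] at hx ⊢
  rw [add_comm, pow_add_apply, hx, map_zero]

theorem I_anti {i j : ℕ} (h : i ≤ j) : I φ j ≤ I φ i := by
  rintro _ ⟨x, rfl⟩
  obtain ⟨d, rfl⟩ := Nat.exists_eq_add_of_le h
  exact ⟨(φ ^ d) x, (pow_add_apply φ i d x).symm⟩

variable {φ} {n : ℕ} (hφ : φ ^ n = 0)

include hφ in
theorem I_le_K {i m : ℕ} (h : n ≤ i + m) : I φ m ≤ K φ i := by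
  rintro _ ⟨x, rfl⟩
  rw [LinearMap.mem_ker, ← pow_add_apply]
  obtain ⟨d, hd⟩ := Nat.exists_eq_add_of_le h
  rw [hd, add_comm, pow_add_apply, hφ, LinearMap.zero_apply, map_zero]

theorem map_pow_K (i : ℕ) : Submodule.map (φ ^ i) (K φ (i + 1)) = K φ 1 ⊓ I φ i := by
  ext y
  constructor
  · rintro ⟨x, hx, rfl⟩
    refine ⟨?_, ⟨x, rfl⟩⟩
    rw [SetLike.mem_coe, LinearMap.mem_ker] at hx
    show (φ ^ i) x ∈ LinearMap.ker (φ ^ 1)
    rw [LinearMap.mem_ker, ← pow_add_apply, add_comm]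
    exact hx
  · rintro ⟨hy1, ⟨x, rfl⟩⟩
    refine ⟨x, ?_, rfl⟩
    have hy2 : (φ ^ i) x ∈ LinearMap.ker (φ ^ 1) := hy1
    rw [LinearMap.mem_ker, ← pow_add_apply, add_comm] at hy2
    show x ∈ LinearMap.ker (φ ^ (i + 1))
    rw [LinearMap.mem_ker]
    exact hy2

theorem comap_pow_I (i m : ℕ) : Submodule.comap (φ ^ i) (I φ (i + m)) = K φ i ⊔ I φ m := by
  ext x
  rw [Submodule.mem_comap, Submodule.mem_sup]
  constructor
  · rintro ⟨z, hz⟩
    refine ⟨x - (φ ^ m) z, ?_, (φ ^ m) z, ⟨z, rfl⟩, by abel⟩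
    rw [LinearMap.mem_ker, map_sub, ← pow_add_apply, hz, sub_self]
  · rintro ⟨k, hk, y, ⟨z, rfl⟩, rfl⟩
    rw [LinearMap.mem_ker] at hk
    rw [map_add, hk, zero_add, ← pow_add_apply]
    exact ⟨z, rfl⟩

/-- (C1) -/
theorem C1 {i m : ℕ} (h : i + m + 1 = n) :
    rl (K φ i ⊔ I φ m) (K φ (i + 1)) = rl (I φ (n - 1)) (K φ 1 ⊓ I φ i) := by
  have h1 := rl_map (φ ^ i) (K φ (i + 1)) (I φ (i + m))
  rw [comap_pow_I, map_pow_K] at h1
  have : n - 1 = i + m := by omega
  rw [this]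
  exact h1

include hφ in
/-- (C3), (C4) combined: `h(i+1) + b(i) = h(i) + g(i)` -/
theorem step_h {i m : ℕ} (h : i + m + 1 = n) :
    rl (I φ m) (K φ (i + 1)) + rl (I φ (m + 1)) (K φ i ⊓ I φ m) =
      rl (I φ (m + 1)) (K φ i) + rl (I φ (n - 1)) (K φ 1 ⊓ I φ i) := by
  have hIK : I φ m ≤ K φ (i + 1) := I_le_K hφ (by omega)
  have hIK' : I φ (m + 1) ≤ K φ i := I_le_K hφ (by omega)
  have e3 : rl (I φ m) (K φ (i + 1)) =
      rl (I φ m) (K φ i ⊔ I φ m) + rl (K φ i ⊔ I φ m) (K φ (i + 1)) :=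
    rl_add _ _ _ le_sup_right (sup_le (K_mono φ (Nat.le_succ i)) hIK)
  have e4 : rl (I φ (m + 1)) (K φ i) =
      rl (I φ (m + 1)) (K φ i ⊓ I φ m) + rl (K φ i ⊓ I φ m) (K φ i) :=
    rl_add _ _ _ (le_inf hIK' (I_anti φ (Nat.le_succ m))) inf_le_left
  rw [e3, e4, C1 h, ← rl_inf_sup]
  ring

end nilp


end Part1

section Part2


variable {R : Type u} [CommRing R] {M : Type v} [AddCommGroup M] [Module R M]
  {φ : M →ₗ[R] M} {n : ℕ} (hφ : φ ^ n = 0)

theorem map_K_inf_I (i m : ℕ) :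
    Submodule.map (φ ^ 1) (K φ (i + 1) ⊓ I φ m) = K φ i ⊓ I φ (m + 1) := by
  ext y
  constructor
  · rintro ⟨x, ⟨hx1, ⟨z, rfl⟩⟩, rfl⟩
    constructor
    · have h1 : (φ ^ m) z ∈ LinearMap.ker (φ ^ (i + 1)) := hx1
      rw [LinearMap.mem_ker, pow_add_apply] at h1
      show (φ ^ 1) ((φ ^ m) z) ∈ LinearMap.ker (φ ^ i)
      rw [LinearMap.mem_ker]
      exact h1
    · refine ⟨z, ?_⟩
      rw [add_comm, pow_add_apply]
  · rintro ⟨hy1, ⟨z, rfl⟩⟩
    refine ⟨(φ ^ m) z, ⟨?_, ⟨z, rfl⟩⟩, ?_⟩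
    · have h1 : (φ ^ (m + 1)) z ∈ LinearMap.ker (φ ^ i) := hy1
      rw [LinearMap.mem_ker, add_comm m 1, pow_add_apply] at h1
      show (φ ^ m) z ∈ LinearMap.ker (φ ^ (i + 1))
      rw [LinearMap.mem_ker, pow_add_apply]
      exact h1
    · rw [add_comm m 1, pow_add_apply]

include hφ in
theorem C2 {i m : ℕ} (h : i + 1 + m + 1 = n) :
    rl (I φ (m + 1)) (K φ (i + 1) ⊓ I φ m) =
      rl (I φ (m + 2)) (K φ i ⊓ I φ (m + 1)) + rl (K φ 1 ⊓ I φ (m + 1)) (K φ 1 ⊓ I φ m) := by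
  set B := K φ (i + 1) ⊓ I φ m with hB
  have hIB : I φ (m + 1) ≤ B := le_inf (I_le_K hφ (by omega)) (I_anti φ (Nat.le_succ m))
  have hC : Submodule.comap (φ ^ 1) (I φ (1 + (m + 1))) = K φ 1 ⊔ I φ (m + 1) := comap_pow_I 1 (m + 1)
  have hCB : (K φ 1 ⊔ I φ (m + 1)) ⊓ B = (K φ 1 ⊓ I φ m) ⊔ I φ (m + 1) := by
    apply le_antisymm
    · rintro x ⟨hx1, hx2, hx3⟩
      obtain ⟨k, hk, y, hy, rfl⟩ := Submodule.mem_sup.mp hx1
      refine Submodule.mem_sup.mpr ⟨k, ⟨hk, ?_⟩, y, hy, rfl⟩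
      have : k = (k + y) - y := by abel
      rw [this]
      exact (I φ m).sub_mem hx3 (I_anti φ (Nat.le_succ m) hy)
    · refine sup_le (le_inf (inf_le_left.trans le_sup_left)
        (le_inf (inf_le_left.trans (K_mono φ (by omega))) inf_le_right))
        (le_inf le_sup_right hIB)
  have e1 : rl (I φ (m + 1)) B = rl (I φ (m + 1)) ((K φ 1 ⊔ I φ (m + 1)) ⊓ B) +
      rl ((K φ 1 ⊔ I φ (m + 1)) ⊓ B) B :=
    rl_add _ _ _ (le_inf le_sup_right hIB) inf_le_right
  have e2 : rl ((K φ 1 ⊔ I φ (m + 1)) ⊓ B) B = rl (I φ (m + 2)) (K φ i ⊓ I φ (m + 1)) := by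
    rw [rl_inf_left, ← hC, rl_map, hB, map_K_inf_I]
    have : 1 + (m + 1) = m + 2 := by omega
    rw [this]
  have e3 : rl (I φ (m + 1)) ((K φ 1 ⊔ I φ (m + 1)) ⊓ B) =
      rl (K φ 1 ⊓ I φ (m + 1)) (K φ 1 ⊓ I φ m) := by
    rw [hCB, ← rl_inf_sup, inf_assoc, inf_eq_right.mpr (I_anti φ (Nat.le_succ m))]
  rw [e1, e2, e3, add_comm]


end Part2

section Part3


variable {R : Type u} [CommRing R] {M : Type v} [AddCommGroup M] [Module R M]
  {φ : M →ₗ[R] M} {n : ℕ} (hφ : φ ^ n = 0)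

/-- `g j = ℓ((K₁ ∩ I_j) / I_{n-1})` -/
noncomputable def g (φ : M →ₗ[R] M) (n j : ℕ) : ℕ∞ := rl (I φ (n - 1)) (K φ 1 ⊓ I φ j)

/-- `hh k = ℓ(K_k / I_{n-k})` -/
noncomputable def hh (φ : M →ₗ[R] M) (n k : ℕ) : ℕ∞ := rl (I φ (n - k)) (K φ k)

include hφ in
theorem g_chain (hn : 0 < n) {m : ℕ} (hm : m + 1 ≤ n - 1) :
    g φ n m = g φ n (m + 1) + rl (K φ 1 ⊓ I φ (m + 1)) (K φ 1 ⊓ I φ m) := by
  unfold g
  refine rl_add _ _ _ (le_inf (I_le_K hφ (by omega)) (I_anti φ hm))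
    (le_inf inf_le_left (inf_le_right.trans (I_anti φ (Nat.le_succ m))))

include hφ in
theorem g_le (hn : 0 < n) {j : ℕ} (hj : j ≤ n - 1) : g φ n j ≤ rl (I φ (n - 1)) (K φ 1) := by
  unfold g
  rw [rl_add (I φ (n - 1)) (K φ 1 ⊓ I φ j) (K φ 1)
    (le_inf (I_le_K hφ (by omega)) (I_anti φ hj)) inf_le_left]
  exact le_self_add

theorem K_zero : K φ 0 = ⊥ := by
  ext x
  simp [K]

include hφ in
theorem b_eq_g (hn : 0 < n) : ∀ i m : ℕ, i + m + 1 = n →
    rl (I φ (m + 1)) (K φ i ⊓ I φ m) = g φ n m := by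
  intro i
  induction i with
  | zero =>
    intro m h
    have hm : m = n - 1 := by omega
    rw [rl_of_le _ _ (by rw [K_zero]; exact inf_le_left.trans bot_le)]
    unfold g
    rw [hm, rl_of_le _ _ inf_le_right]
  | succ i ih =>
    intro m h
    rw [C2 hφ h, ih (m + 1) (by omega), g_chain hφ hn (m := m) (by omega)]

include hφ in
theorem main_rec (hn : 0 < n) {i m : ℕ} (h : i + m + 1 = n) :
    hh φ n (i + 1) + g φ n m = hh φ n i + g φ n i := by
  have := step_h hφ h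
  rw [b_eq_g hφ hn i m h] at this
  unfold hh
  have e1 : n - (i + 1) = m := by omega
  have e2 : n - i = m + 1 := by omega
  rw [e1, e2]
  exact this

theorem hh_zero : hh φ n 0 = 0 := by
  unfold hh
  exact rl_of_le _ _ (by rw [K_zero]; exact bot_le)

include hφ in
theorem hh_lt_top (hn : 0 < n) (hfin : rl (I φ (n - 1)) (K φ 1) < ⊤) :
    ∀ k : ℕ, k ≤ n → hh φ n k < ⊤ := by
  intro k
  induction k with
  | zero => intro _; rw [hh_zero]; simp
  | succ k ih =>
    intro hk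
    have h1 := main_rec hφ hn (i := k) (m := n - 1 - k) (by omega)
    have h2 : hh φ n k + g φ n k < ⊤ :=
      ENat.add_lt_top.mpr ⟨ih (by omega), lt_of_le_of_lt (g_le hφ hn (by omega)) hfin⟩
    rw [← h1] at h2
    exact lt_of_le_of_lt le_self_add h2

include hφ in
theorem hh_symm (hn : 0 < n) (hfin : rl (I φ (n - 1)) (K φ 1) < ⊤) {i : ℕ} (hi : i ≤ n) :
    hh φ n i = hh φ n (n - i) := by
  -- pass to natural numbers
  set H : ℕ → ℕ := fun k => (hh φ n k).toNat with hH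
  set G : ℕ → ℕ := fun j => (g φ n j).toNat with hG
  have hHk : ∀ k, k ≤ n → hh φ n k = (H k : ℕ∞) := fun k hk =>
    (ENat.natCast_toNat (hh_lt_top hφ hn hfin k hk).ne).symm
  have hGj : ∀ j, j ≤ n - 1 → g φ n j = (G j : ℕ∞) := fun j hj =>
    (ENat.natCast_toNat (lt_of_le_of_lt (g_le hφ hn hj) hfin).ne).symm
  have hrec : ∀ k, k + 1 ≤ n → H (k + 1) + G (n - 1 - k) = H k + G k := by
    intro k hk
    have h1 := main_rec hφ hn (i := k) (m := n - 1 - k) (by omega)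
    rw [hHk (k + 1) hk, hHk k (by omega), hGj k (by omega), hGj (n - 1 - k) (by omega)] at h1
    exact_mod_cast h1
  have hH0 : H 0 = 0 := by
    simp only [hH, hh_zero, ENat.toNat_zero]
  let S : ℕ → ℤ := fun k => ∑ s ∈ Finset.range k, (G s : ℤ)
  have key : ∀ k, k ≤ n → (H k : ℤ) = S k + S (n - k) - S n := by
    intro k
    induction k with
    | zero => intro _; simp [hH0, S]
    | succ k ih =>
      intro hk
      have h1 := hrec k hk
      have h2 := ih (by omega)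
      have h3 : S (k + 1) = S k + G k := Finset.sum_range_succ _ _
      have h4 : S (n - k) = S (n - (k + 1)) + G (n - 1 - k) := by
        have : n - k = (n - (k + 1)) + 1 := by omega
        rw [this]
        have e : n - 1 - k = n - (k + 1) := by omega
        rw [e]
        exact Finset.sum_range_succ _ _
      have h1' : (H (k + 1) : ℤ) + G (n - 1 - k) = H k + G k := by exact_mod_cast h1
      linarith
  have e1 := key i hi
  have e2 := key (n - i) (by omega)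
  have e3 : n - (n - i) = i := by omega
  rw [e3] at e2
  rw [hHk i hi, hHk (n - i) (by omega)]
  have : (H i : ℤ) = H (n - i) := by rw [e1, e2]; ring
  exact_mod_cast this


end Part3

end Groth.Agent.Lib.R2H1.Herbrand
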