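import Mathlib
import Groth.Agent.Lib.R2H1VBHiggs
import Groth.Agent.Lib.R2H1NegFilt
import Groth.Agent.Lib.R2H1PicLaw
set_option backward.isDefEq.respectTransparency.types false

/-!
# Stable twisted pairs of rank two (helper1, round 2)

`s16006`: on a regular integral proper curve over an algebraically closed field, a stable rank-two pair
`(E, φ : E → E ⊗ L)` with `deg L = 0` and `L ⊗ L` nontrivial has stable underlying bundle (no genus
hypothesis needed).
-/

set_option autoImplicit false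
set_option linter.style.haveILetI false
set_option linter.unusedSectionVars false
universe u v

open CategoryTheory CategoryTheory.Limits AlgebraicGeometry TopologicalSpace Opposite

namespace Groth.Agent.Lib.R2H1.HiggsSt

section Part1

open Groth.Agent.Lib.R2H1.VBSub Groth.Agent.Lib.R2H1.VBRankTwo Groth.Agent.Lib.R2H1.VBSlopeB
open Groth.Agent.Lib.R2H1.VBSat Groth.Agent.Lib.R2H1.CurveEuler Groth.Agent.Lib.R2H1.VBHZero
open Groth.Agent.Lib.R2H1.VBTwist Groth.Agent.Lib.R2H1.VBTwistB Groth.Agent.Lib.R2H1.CurveDegSec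
open Groth.Agent.Lib.R2H1.VBDestab Groth.Agent.Lib.R2H1.DegCartier
open Groth.Agent.Lib.R2H1.VBHiggs Groth.Agent.Lib.R2H1.NegFilt Groth.Agent.Lib.R2H1.PicLaw
open Groth.Agent.Lib.Helper21.ModTensor3 Groth.Agent.Lib.Helper21.ModTensor5
  Groth.Agent.Lib.Helper21.ModTensor6 Groth.Agent.Lib.Helper21.ModTensor7

variable (k : Type u) [Field k] [IsAlgClosed k] (X : Scheme.{u}) [X.Over (Spec (CommRingCat.of k))]
    [IsIntegral X] [IsProper (X ↘ (Spec (CommRingCat.of k)))]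

/-- S16006 core: a stable rank-two pair with values in a degree-zero `L`, `L ⊗ L` nontrivial, has
stable underlying bundle -/
theorem s16006 (hdim : topologicalKrullDim X = 1)
    (hreg : ∀ x : X, IsRegularLocalRing (X.presheaf.stalk x))
    (L : X.Modules) (hL : PicF.IsInvertible L) (hL0 : Curv2.deg k X L 1 = 0)
    (hL2 : ¬ Nonempty (CohB1.tensorMod L L ≅ Coh.structureModule X))
    (E : X.Modules) (hE : FlatMod.IsFinLocFreeOfRank 2 E)
    (φ : E ⟶ CohB1.tensorMod E L)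
    (hst : (∀ (G : X.Modules) (n : ℕ) (j : G ⟶ E) (χ : G ⟶ CohB1.tensorMod G L), Mono j → 0 < n →
      n < 2 → FlatMod.IsFinLocFreeOfRank n G →
      χ ≫ (CohB1.sheafifyMod X).map (MonoidalCategoryStruct.whiskerRight (C := CohB1.PMod X) j.val (CohB1.toPMod L)) = j ≫ φ →
      Curv2.deg k X G n * (2 : ℤ) < Curv2.deg k X E 2 * (n : ℤ))) :
    ∀ (G : X.Modules) (n : ℕ) (j : G ⟶ E), Mono j → 0 < n → n < 2 →
      FlatMod.IsFinLocFreeOfRank n G →
      Curv2.deg k X G n * (2 : ℤ) < Curv2.deg k X E 2 * (n : ℤ) := by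
  haveI := isNoetherian_of_proper k X
  intro G₀ n j₀ hj₀ hn hn2 hG₀
  obtain rfl : n = 1 := by omega
  by_contra hcon
  push_neg at hcon
  haveI := hj₀
  obtain ⟨G, j, ℓ, s, hj, hℓ, hG, hle, hQ, hrs, hdegE⟩ :=
    exists_saturation' k X hdim hreg hE hG₀ j₀
  obtain rfl : s = 1 := by omega
  haveI := hj
  obtain ⟨L', hL', ⟨e⟩⟩ := Groth.Agent.Lib.R2H1.InvExists.exists_inverse L hL
  haveI : (tR X.sheaf L).IsEquivalence := isEquivalence_tR_of_inverse X.sheaf L L' e
  let T : ShortComplex X.Modules := ShortComplex.mk j (cokernel.π j) (cokernel.condition j)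
  have hT : T.ShortExact :=
    { exact := ShortComplex.exact_cokernel j
      mono_f := inferInstanceAs (Mono j)
      epi_g := inferInstanceAs (Epi (cokernel.π j)) }
  have hGi := isInvertible_of_rank_one hG
  have hQi := isInvertible_of_rank_one hQ
  have hQLi := Groth.Agent.Lib.Helper23.SecTw.isInvertible_tensorMod hQi hL
  have hQL1 := Groth.Agent.Lib.Helper23.SecTw.isFinLocFreeOfRank_one_of_isInvertible _ hQLi
  have hdQL := Groth.Agent.Lib.R2H1.VBIndecTwo.deg_tensor_invertible k X hdim hQi hL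
  rw [hL0, add_zero] at hdQL
  obtain ⟨θ, hθ⟩ : ∃ θ : G ⟶ CohB1.tensorMod (cokernel j) L,
      θ = (j ≫ φ) ≫ (tR X.sheaf L).map (cokernel.π j) := ⟨_, rfl⟩
  by_cases hθ0 : θ = 0
  · obtain ⟨χ, hχ⟩ := exists_lift_of_exact (tR X.sheaf L) T hT (j ≫ φ) (hθ ▸ hθ0)
    have := hst G 1 j χ hj one_pos (by norm_num) hG hχ
    push_cast at this hcon
    linarith
  obtain ⟨h1, h2⟩ := s1521 k X hdim G _ hGi hQLi θ hθ0
  push_cast at hcon
  have heq : Curv2.deg k X G 1 = Curv2.deg k X (CohB1.tensorMod (cokernel j) L) 1 := by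
    linarith
  haveI : IsIso θ := h2 heq
  obtain ⟨ψ, hψ⟩ : ∃ ψ : E ⟶ CohB1.tensorMod (cokernel j) L,
      ψ = φ ≫ (tR X.sheaf L).map (cokernel.π j) := ⟨_, rfl⟩
  have hjψ : j ≫ ψ = θ := by
    rw [hψ, hθ]
    exact (Category.assoc _ _ _).symm
  haveI : Epi ψ := by
    haveI : Epi (j ≫ ψ) := by rw [hjψ]; infer_instance
    exact epi_of_epi j ψ
  have hK := rank_kernel_epi k X hdim hreg (n := 1) hE hQL1 ψ
  let TK : ShortComplex X.Modules := ShortComplex.mk (kernel.ι ψ) ψ (kernel.condition ψ)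
  have hTK : TK.ShortExact :=
    { exact := ShortComplex.exact_kernel ψ
      mono_f := inferInstanceAs (Mono (kernel.ι ψ))
      epi_g := inferInstanceAs (Epi ψ) }
  have hdegK := Groth.Agent.Lib.R2H4DegAdd.main k X TK hTK 1 2 1 hK hE hQL1
  have hdegK' : Curv2.deg k X E 2 = Curv2.deg k X (kernel ψ) 1 +
      Curv2.deg k X (CohB1.tensorMod (cokernel j) L) 1 := hdegK
  obtain ⟨ζ, hζ⟩ : ∃ ζ : kernel ψ ⟶ CohB1.tensorMod (CohB1.tensorMod (cokernel j) L) L,
      ζ = (kernel.ι ψ ≫ φ) ≫ (tR X.sheaf L).map ψ := ⟨_, rfl⟩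
  by_cases hζ0 : ζ = 0
  · obtain ⟨χ, hχ⟩ := exists_lift_of_exact (tR X.sheaf L) TK hTK (kernel.ι ψ ≫ φ) (hζ ▸ hζ0)
    have := hst (kernel ψ) 1 (kernel.ι ψ) χ inferInstance one_pos (by norm_num) hK hχ
    push_cast at this
    linarith
  have hKi := isInvertible_of_rank_one hK
  have hQLLi := Groth.Agent.Lib.Helper23.SecTw.isInvertible_tensorMod hQLi hL
  have hdQLL := Groth.Agent.Lib.R2H1.VBIndecTwo.deg_tensor_invertible k X hdim hQLi hL
  rw [hL0, add_zero] at hdQLL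
  obtain ⟨-, h2'⟩ := s1521 k X hdim (kernel ψ) _ hKi hQLLi ζ hζ0
  haveI : IsIso ζ := h2' (by linarith)
  have hκπ : kernel.ι ψ ≫ cokernel.π j ≠ 0 := by
    intro h0
    haveI : Mono T.f := inferInstanceAs (Mono j)
    obtain ⟨u, hu⟩ : ∃ u : kernel ψ ⟶ G, u ≫ j = kernel.ι ψ :=
      ⟨hT.exact.lift (kernel.ι ψ) h0, hT.exact.lift_f _ _⟩
    have h3 : u ≫ θ = 0 := by rw [← hjψ, ← Category.assoc, hu, kernel.condition]
    have hu0 : u = 0 := by rw [← cancel_mono θ, h3, zero_comp]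
    have h4 : kernel.ι ψ = 0 := by rw [← hu, hu0, zero_comp]
    apply id_ne_zero_of_rank_succ X hK
    rw [← cancel_mono (kernel.ι ψ), h4, comp_zero, comp_zero]
  obtain ⟨-, h3⟩ := s1521 k X hdim (kernel ψ) _ hKi hQi (kernel.ι ψ ≫ cokernel.π j) hκπ
  haveI : IsIso (kernel.ι ψ ≫ cokernel.π j) := h3 (by linarith)
  apply hL2
  obtain ⟨Q', hQ', ⟨eQ⟩⟩ := Groth.Agent.Lib.R2H1.InvExists.exists_inverse (cokernel j) hQi
  let f : cokernel j ≅ CohB1.tensorMod (CohB1.tensorMod (cokernel j) L) L :=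
    (asIso (kernel.ι ψ ≫ cokernel.π j)).symm ≪≫ asIso ζ
  exact ⟨(tensorInvIso (CohB1.tensorMod L L) (cokernel j) Q' eQ).symm ≪≫
    (tR X.sheaf Q').mapIso (commI (CohB1.tensorMod L L) (cokernel j) ≪≫
      (assocI (cokernel j) L L).symm ≪≫ f.symm) ≪≫ eQ⟩

end Part1

end Groth.Agent.Lib.R2H1.HiggsSt
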