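import Mathlib
import Groth.Prelude.Def_HilbD

set_option autoImplicit false
set_option backward.isDefEq.respectTransparency.types false
universe u
open CategoryTheory CategoryTheory.Limits AlgebraicGeometry TopologicalSpace Opposite

namespace Groth.Agent.Lib.R2H2.HilbOne

/-- the graph of `x : T ⟶ X` is the pullback of the diagonal -/
theorem isPullback_graph {X S T : Scheme.{u}} (f : X ⟶ S) (t : T ⟶ S) (x : T ⟶ X)
    (d : X ⟶ pullback f f) (hd1 : d ≫ pullback.fst f f = 𝟙 X) (hd2 : d ≫ pullback.snd f f = 𝟙 X)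
    (Γ : T ⟶ pullback f t) (hΓ1 : Γ ≫ pullback.fst f t = x) (hΓ2 : Γ ≫ pullback.snd f t = 𝟙 T)
    (m : pullback f t ⟶ pullback f f) (hm1 : m ≫ pullback.fst f f = pullback.fst f t)
    (hm2 : m ≫ pullback.snd f f = pullback.snd f t ≫ x) :
    IsPullback x Γ d m := by
  have hw : x ≫ d = Γ ≫ m := by
    apply pullback.hom_ext
    · rw [Category.assoc, hd1, Category.comp_id, Category.assoc, hm1, hΓ1]
    · rw [Category.assoc, hd2, Category.comp_id, Category.assoc, hm2, ← Category.assoc, hΓ2,
        Category.id_comp]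
  refine ⟨⟨hw⟩, ⟨PullbackCone.IsLimit.mk _ (fun s => s.snd ≫ pullback.snd f t) ?_ ?_ ?_⟩⟩
  · intro s
    have h1 := s.condition
    -- s.fst ≫ d = s.snd ≫ m
    have := congrArg (fun k => k ≫ pullback.snd f f) h1
    simp only [Category.assoc, hd2, hm2, Category.comp_id] at this
    rw [Category.assoc]
    exact this.symm
  · intro s
    have h1 := s.condition
    apply pullback.hom_ext
    · rw [Category.assoc, Category.assoc, hΓ1]
      have h2 := congrArg (fun k => k ≫ pullback.snd f f) h1
      have h3 := congrArg (fun k => k ≫ pullback.fst f f) h1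
      simp only [Category.assoc, hd2, hm2, hd1, hm1, Category.comp_id] at h2 h3
      rw [← h2, h3]
    · rw [Category.assoc, Category.assoc, hΓ2, Category.comp_id]
  · intro s l _ h2
    have := congrArg (fun k => k ≫ pullback.snd f t) h2
    simp only [Category.assoc, hΓ2, Category.comp_id] at this
    exact this

/-- kernel of a base change of a closed immersion, computed on any pullback square -/
theorem ker_eq_of_isPullback {Z Y Y' T : Scheme.{u}} (i : Z ⟶ Y) [IsClosedImmersion i] (m : Y' ⟶ Y)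
    (x' : T ⟶ Z) (Γ : T ⟶ Y') (h : IsPullback x' Γ i m) :
    Γ.ker = (pullback.snd i.ker.subschemeι m).ker := by
  have h2 : IsPullback (x' ≫ i.toImage) Γ i.imageι m := by
    refine IsPullback.of_iso h (Iso.refl _) (asIso i.toImage) (Iso.refl _) (Iso.refl _) ?_ ?_ ?_ ?_
    · simp
    · simp
    · simp
    · simp
  have h3 : Γ = h2.isoPullback.hom ≫ pullback.snd i.imageι m := (h2.isoPullback_hom_snd).symm
  rw [h3, Scheme.Hom.ker_comp_of_isIso]

theorem main {X S : Scheme.{u}} (f : X ⟶ S) [IsSeparated f] :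
    ∃ Δ : HilbD.Obj f 1 (Over.mk f),
      Δ.1 = HilbD.secGraph f (Over.mk f) (𝟙 X) (Category.id_comp f) ∧
      HilbD.IsUniversal f 1 (Over.mk f) Δ := by
  let d : X ⟶ pullback f f := pullback.lift (𝟙 X) (𝟙 X) (by simp)
  have hd1 : d ≫ pullback.fst f f = 𝟙 X := pullback.lift_fst _ _ _
  have hd2 : d ≫ pullback.snd f f = 𝟙 X := pullback.lift_snd _ _ _
  haveI hdc : IsClosedImmersion d := (inferInstance : IsClosedImmersion (pullback.diagonal f))
  have hsub : d.ker.subschemeι ≫ pullback.snd f f = inv d.toImage := by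
    rw [← cancel_epi d.toImage]
    change d.toImage ≫ d.imageι ≫ pullback.snd f f = _
    rw [← Category.assoc, d.toImage_imageι, hd2, IsIso.hom_inv_id]
  have hΔ : Mor2.IsFinLocFreeOfDeg 1 (d.ker.subschemeι ≫ PicF.XTproj f (Over.mk f)) := by
    change Mor2.IsFinLocFreeOfDeg 1 (d.ker.subschemeι ≫ pullback.snd f f)
    rw [hsub]
    refine ⟨⟨inferInstance, inferInstance, inferInstance⟩, fun y => ?_⟩
    rw [Scheme.Hom.finrank_eq_one_of_isIso]
    rfl
  refine ⟨⟨d.ker, hΔ⟩, rfl, ?_⟩
  intro T Z'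
  obtain ⟨I', hI'⟩ := Z'
  obtain ⟨⟨hfin, hflat, hlfp⟩, hrank⟩ := hI'
  set p : I'.subscheme ⟶ T.left := I'.subschemeι ≫ PicF.XTproj f T with hp
  haveI : IsFinite p := hfin
  haveI : Flat p := hflat
  haveI : LocallyOfFinitePresentation p := hlfp
  haveI hpiso : IsIso p := by
    rw [Scheme.Hom.isIso_iff_finrank_eq]
    funext y
    exact hrank y
  -- the point
  let Γ : T.left ⟶ pullback f T.hom := inv p ≫ I'.subschemeι
  have hΓ2 : Γ ≫ pullback.snd f T.hom = 𝟙 T.left := by
    change (inv p ≫ I'.subschemeι) ≫ pullback.snd f T.hom = 𝟙 _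
    rw [Category.assoc]
    exact IsIso.inv_hom_id p
  let x : T.left ⟶ X := Γ ≫ pullback.fst f T.hom
  have hx : x ≫ f = T.hom := by
    change (Γ ≫ pullback.fst f T.hom) ≫ f = _
    rw [Category.assoc, pullback.condition, ← Category.assoc, hΓ2, Category.id_comp]
  let g : T ⟶ Over.mk f := Over.homMk x hx
  -- general fact: for any morphism over S, the pull of the diagonal is the kernel of the graph
  have key : ∀ (g' : T ⟶ Over.mk f) (Γ' : T.left ⟶ pullback f T.hom)
      (h1 : Γ' ≫ pullback.fst f T.hom = g'.left) (h2 : Γ' ≫ pullback.snd f T.hom = 𝟙 T.left),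
      IsPullback g'.left Γ' d (PicF.XTmap f g') := by
    intro g' Γ' h1 h2
    apply isPullback_graph f T.hom g'.left d hd1 hd2 Γ' h1 h2
    · exact pullback.lift_fst _ _ _ |>.trans (Category.comp_id _)
    · exact pullback.lift_snd _ _ _
  have key2 : ∀ (g' : T ⟶ Over.mk f) (Γ' : T.left ⟶ pullback f T.hom)
      (h1 : Γ' ≫ pullback.fst f T.hom = g'.left) (h2 : Γ' ≫ pullback.snd f T.hom = 𝟙 T.left),
      HilbD.pull f g' d.ker = Γ'.ker := by
    intro g' Γ' h1 h2
    exact (ker_eq_of_isPullback d (PicF.XTmap f g') g'.left Γ' (key g' Γ' h1 h2)).symm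
  have hΓker : Γ.ker = I' := by
    change (inv p ≫ I'.subschemeι).ker = I'
    rw [Scheme.Hom.ker_comp_of_isIso, Scheme.IdealSheafData.ker_subschemeι]
  refine ⟨g, ?_, ?_⟩
  · change HilbD.pull f g d.ker = I'
    rw [key2 g Γ rfl hΓ2, hΓker]
  · intro g' hg'
    change HilbD.pull f g' d.ker = I' at hg'
    have hw' : g'.left ≫ f = T.hom := Over.w g'
    let Γ' : T.left ⟶ pullback f T.hom := pullback.lift g'.left (𝟙 T.left) (by
      rw [hw', Category.id_comp])
    have h1' : Γ' ≫ pullback.fst f T.hom = g'.left := pullback.lift_fst _ _ _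
    have h2' : Γ' ≫ pullback.snd f T.hom = 𝟙 T.left := pullback.lift_snd _ _ _
    have hk' : Γ'.ker = I' := by rw [← key2 g' Γ' h1' h2', hg']
    haveI : IsClosedImmersion Γ := by
      change IsClosedImmersion (inv p ≫ I'.subschemeι)
      infer_instance
    let l := IsClosedImmersion.lift Γ Γ' (le_of_eq (hΓker.trans hk'.symm))
    have hl : l ≫ Γ = Γ' := IsClosedImmersion.lift_fac _ _ _
    have hl1 : l = 𝟙 _ := by
      have := congrArg (fun k => k ≫ pullback.snd f T.hom) hl
      simp only [Category.assoc, hΓ2, h2', Category.comp_id] at this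
      exact this
    have hΓΓ' : Γ = Γ' := by rw [← hl, hl1, Category.id_comp]
    apply Over.OverMorphism.ext
    change g'.left = x
    rw [← h1', ← hΓΓ']

end Groth.Agent.Lib.R2H2.HilbOne
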