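import Mathlib
import Groth.Prelude.Def_HilbD
import Groth.Agent.Lib.R2H1HilbDesc
import Groth.Agent.Lib.R2H2HilbOne
import Groth.Agent.Lib.R2H1CurveDivSum
import Groth.Agent.Lib.Helper20BlowUp
import Groth.Agent.Lib.H9ModPair2
import Groth.Agent.S15990
set_option backward.isDefEq.respectTransparency.types false

/-!
HilbD functoriality and the add-a-point map on a smooth relative curve (helper1): XTmap_comp, pull_comp, pull_mul, isFinLocFreeOfDeg_pull (base change preserves degree), gr (graph of a point), isPullback_gr, pull_secGraph, isFinLocFreeOfDeg_secGraph, smooth_XTproj, isEffCartier_secGraph, isFinLocFreeOfDeg_of_iso_comp, secGraph_congr, main (S1173: H x_S X -> H-prime, (D,x) -> D+x is finite locally free of degree d+1, via iso with the universal subscheme).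
-/

set_option autoImplicit false
set_option linter.style.haveILetI false
set_option linter.unusedSectionVars false
universe u v

open CategoryTheory CategoryTheory.Limits AlgebraicGeometry TopologicalSpace Opposite

namespace Groth.Agent.Lib.R2H1.HilbAddPoint

section Part1

open CategoryTheory CategoryTheory.Limits AlgebraicGeometry
open Groth.Agent.Lib.R2H1.HilbDesc

variable {X S : Scheme.{u}} (f : X ⟶ S)

/-- functoriality of `X_T` -/
theorem XTmap_comp {T T' T'' : Over S} (g : T'' ⟶ T') (h : T' ⟶ T) :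
    PicF.XTmap f (g ≫ h) = PicF.XTmap f g ≫ PicF.XTmap f h := by
  apply pullback.hom_ext
  · rw [XTmap_fst, Category.assoc, XTmap_fst, XTmap_fst]
  · rw [XTmap_snd, Category.assoc, XTmap_snd, ← Category.assoc, XTmap_snd, Category.assoc]
    rfl

theorem pull_comp {T T' T'' : Over S} (g : T'' ⟶ T') (h : T' ⟶ T)
    (I : (PicF.XT f T).IdealSheafData) :
    HilbD.pull f (g ≫ h) I = HilbD.pull f g (HilbD.pull f h I) := by
  rw [pull_eq_comap, pull_eq_comap, pull_eq_comap, XTmap_comp,
    Scheme.IdealSheafData.comap_comp]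

theorem pull_mul {T T' : Over S} (g : T' ⟶ T) (I J : (PicF.XT f T).IdealSheafData) :
    HilbD.pull f g (I * J) = HilbD.pull f g I * HilbD.pull f g J := by
  rw [pull_eq_comap, pull_eq_comap, pull_eq_comap,
    Groth.Agent.Lib.Helper20.BlowUpBasic.comap_mul]

/-- base change preserves finite locally free of degree `d` -/
theorem isFinLocFreeOfDeg_pull {T T' : Over S} (g : T' ⟶ T) (I : (PicF.XT f T).IdealSheafData)
    (d : ℕ) (h : Mor2.IsFinLocFreeOfDeg d (I.subschemeι ≫ PicF.XTproj f T)) :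
    Mor2.IsFinLocFreeOfDeg d ((HilbD.pull f g I).subschemeι ≫ PicF.XTproj f T') := by
  rw [pull_eq_comap]
  set p := PicF.XTmap f g with hp
  have hbig : IsPullback ((I.comap p).subschemeι ≫ PicF.XTproj f T')
      (Scheme.IdealSheafData.subschemeMap _ _ p (I.le_map_comap p)) g.left
      (I.subschemeι ≫ PicF.XTproj f T) :=
    ((isPullback_comap p I).flip.paste_vert (isPullback_XTmap f g)).flip
  obtain ⟨⟨h1, h2, h3⟩, h4⟩ := h
  have k1 : IsFinite ((I.comap p).subschemeι ≫ PicF.XTproj f T') :=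
    MorphismProperty.of_isPullback (P := @IsFinite) hbig.flip h1
  have k2 : Flat ((I.comap p).subschemeι ≫ PicF.XTproj f T') :=
    MorphismProperty.of_isPullback (P := @Flat) hbig.flip h2
  have k3 : LocallyOfFinitePresentation ((I.comap p).subschemeι ≫ PicF.XTproj f T') :=
    MorphismProperty.of_isPullback (P := @LocallyOfFinitePresentation) hbig.flip h3
  refine ⟨⟨k1, k2, k3⟩, fun t' => ?_⟩
  rw [Scheme.Hom.finrank_of_isPullback _ _ _ _ hbig.flip t']
  exact h4 _

/-- the graph of a point -/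
noncomputable abbrev gr (T : Over S) (x : T.left ⟶ X) (hx : x ≫ f = T.hom) :
    T.left ⟶ PicF.XT f T :=
  pullback.lift x (𝟙 T.left) (by simpa using hx)

theorem secGraph_eq (T : Over S) (x : T.left ⟶ X) (hx : x ≫ f = T.hom) :
    HilbD.secGraph f T x hx = (gr f T x hx).ker := rfl

instance [IsSeparated f] (T : Over S) (x : T.left ⟶ X) (hx : x ≫ f = T.hom) :
    IsClosedImmersion (gr f T x hx) := by
  haveI : IsClosedImmersion (gr f T x hx ≫ PicF.XTproj f T) := by
    have : gr f T x hx ≫ PicF.XTproj f T = 𝟙 _ := pullback.lift_snd _ _ _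
    rw [this]; infer_instance
  exact IsClosedImmersion.of_comp (gr f T x hx) (PicF.XTproj f T)

theorem isPullback_gr {T T' : Over S} (g : T' ⟶ T) (x : T.left ⟶ X) (hx : x ≫ f = T.hom)
    (hx' : (g.left ≫ x) ≫ f = T'.hom) :
    IsPullback g.left (gr f T' (g.left ≫ x) hx') (gr f T x hx) (PicF.XTmap f g) := by
  have hw : gr f T' (g.left ≫ x) hx' ≫ PicF.XTmap f g = g.left ≫ gr f T x hx := by
    apply pullback.hom_ext
    · rw [Category.assoc, XTmap_fst, pullback.lift_fst, Category.assoc, pullback.lift_fst]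
    · rw [Category.assoc, XTmap_snd, ← Category.assoc, pullback.lift_snd, Category.id_comp,
        Category.assoc, pullback.lift_snd, Category.comp_id]
  have h1 : gr f T' (g.left ≫ x) hx' ≫ PicF.XTproj f T' = 𝟙 _ := pullback.lift_snd _ _ _
  have h2 : gr f T x hx ≫ PicF.XTproj f T = 𝟙 _ := pullback.lift_snd _ _ _
  have hout : IsPullback (gr f T' (g.left ≫ x) hx' ≫ PicF.XTproj f T') g.left g.left
      (gr f T x hx ≫ PicF.XTproj f T) := by
    rw [h1, h2]
    exact IsPullback.of_horiz_isIso ⟨by simp⟩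
  exact (IsPullback.of_right hout hw (isPullback_XTmap f g).flip).flip

theorem pull_secGraph [IsSeparated f] {T T' : Over S} (g : T' ⟶ T) (x : T.left ⟶ X)
    (hx : x ≫ f = T.hom) (hx' : (g.left ≫ x) ≫ f = T'.hom) :
    HilbD.pull f g (HilbD.secGraph f T x hx) = HilbD.secGraph f T' (g.left ≫ x) hx' := by
  rw [secGraph_eq, secGraph_eq]
  exact (Groth.Agent.Lib.R2H2.HilbOne.ker_eq_of_isPullback (gr f T x hx) (PicF.XTmap f g) g.left
    (gr f T' (g.left ≫ x) hx') (isPullback_gr f g x hx hx')).symm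

end Part1

section Part2

open CategoryTheory CategoryTheory.Limits AlgebraicGeometry
open Groth.Agent.Lib.R2H1.HilbDesc


variable {X S : Scheme.{u}} (f : X ⟶ S)

theorem gr_snd (T : Over S) (x : T.left ⟶ X) (hx : x ≫ f = T.hom) :
    gr f T x hx ≫ PicF.XTproj f T = 𝟙 _ := pullback.lift_snd _ _ _

theorem gr_fst (T : Over S) (x : T.left ⟶ X) (hx : x ≫ f = T.hom) :
    gr f T x hx ≫ pullback.fst f T.hom = x := pullback.lift_fst _ _ _

/-- the graph of a point is finite locally free of degree one -/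
theorem isFinLocFreeOfDeg_secGraph [IsSeparated f] (T : Over S) (x : T.left ⟶ X)
    (hx : x ≫ f = T.hom) :
    Mor2.IsFinLocFreeOfDeg 1 ((HilbD.secGraph f T x hx).subschemeι ≫ PicF.XTproj f T) := by
  rw [secGraph_eq]
  set σ := gr f T x hx with hσ
  have hsub : σ.ker.subschemeι ≫ PicF.XTproj f T = inv σ.toImage := by
    rw [← cancel_epi σ.toImage]
    change σ.toImage ≫ σ.imageι ≫ _ = _
    rw [← Category.assoc, σ.toImage_imageι, gr_snd, IsIso.hom_inv_id]
  rw [hsub]
  refine ⟨⟨inferInstance, inferInstance, inferInstance⟩, fun y => ?_⟩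
  rw [Scheme.Hom.finrank_eq_one_of_isIso]
  rfl

instance smooth_XTproj [SmoothOfRelativeDimension 1 f] (T : Over S) :
    SmoothOfRelativeDimension 1 (PicF.XTproj f T) := by
  haveI := smoothOfRelativeDimension_isStableUnderBaseChange.{u} 1
  exact MorphismProperty.pullback_snd (P := @SmoothOfRelativeDimension 1) f T.hom inferInstance

theorem isEffCartier_secGraph [IsSeparated f] [SmoothOfRelativeDimension 1 f] (T : Over S)
    (x : T.left ⟶ X) (hx : x ≫ f = T.hom) :
    BlowUp.IsEffCartierIdeal (HilbD.secGraph f T x hx) := by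
  rw [secGraph_eq]
  exact (Groth.Agent.S15990.result (PicF.XTproj f T) (gr f T x hx) (gr_snd f T x hx)).1

end Part2

section Part3

open CategoryTheory CategoryTheory.Limits AlgebraicGeometry
open Groth.Agent.Lib.R2H1.HilbDesc


variable {X S : Scheme.{u}} (f : X ⟶ S)

theorem isFinLocFreeOfDeg_of_iso_comp {A B C : Scheme.{u}} (e : A ⟶ B) [IsIso e] (p : B ⟶ C) (d : ℕ)
    (h : Mor2.IsFinLocFreeOfDeg d p) : Mor2.IsFinLocFreeOfDeg d (e ≫ p) := by
  obtain ⟨⟨h1, h2, h3⟩, h4⟩ := h
  refine ⟨⟨inferInstance, inferInstance, inferInstance⟩, fun y => ?_⟩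
  rw [Scheme.Hom.finrank_comp_left_of_isIso]
  exact h4 y

theorem secGraph_congr (T : Over S) {x x' : T.left ⟶ X} (e : x = x') (hx : x ≫ f = T.hom)
    (hx' : x' ≫ f = T.hom) : HilbD.secGraph f T x hx = HilbD.secGraph f T x' hx' := by
  subst e
  rfl

theorem main [SmoothOfRelativeDimension 1 f] [IsSeparated f]
    (d : ℕ) (H : Over S) (Z : HilbD.Obj f d H) (hZ : HilbD.IsUniversal f d H Z)
    (H' : Over S) (Z' : HilbD.Obj f (d + 1) H') (hZ' : HilbD.IsUniversal f (d + 1) H' Z')
    (m : Over.mk (pullback.fst H.hom f ≫ H.hom) ⟶ H')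
    (hm : HilbD.pull f m Z'.1 =
      HilbD.pull f (Over.homMk (pullback.fst H.hom f) rfl : Over.mk (pullback.fst H.hom f ≫ H.hom) ⟶ H) Z.1 *
        HilbD.secGraph f (Over.mk (pullback.fst H.hom f ≫ H.hom)) (pullback.snd H.hom f) pullback.condition.symm) :
    Mor2.IsFinLocFreeOfDeg (d + 1) m.left := by
  -- notation
  let TT : Over S := Over.mk (pullback.fst H.hom f ≫ H.hom)
  let x : TT.left ⟶ X := pullback.snd H.hom f
  have hx : x ≫ f = TT.hom := pullback.condition.symm
  let prH : TT ⟶ H := Over.homMk (pullback.fst H.hom f) rfl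
  change HilbD.pull f m Z'.1 = HilbD.pull f prH Z.1 * HilbD.secGraph f TT x hx at hm
  -- the universal subscheme
  let ι : Z'.1.subscheme ⟶ PicF.XT f H' := Z'.1.subschemeι
  let π : Z'.1.subscheme ⟶ H'.left := ι ≫ PicF.XTproj f H'
  have hπ : Mor2.IsFinLocFreeOfDeg (d + 1) π := Z'.2
  let WW : Over S := Over.mk (π ≫ H'.hom)
  let πo : WW ⟶ H' := Over.homMk π rfl
  let w : WW.left ⟶ X := ι ≫ pullback.fst f H'.hom
  have hw : w ≫ f = WW.hom := by
    change (ι ≫ pullback.fst f H'.hom) ≫ f = (ι ≫ pullback.snd f H'.hom) ≫ H'.hom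
    rw [Category.assoc, Category.assoc, pullback.condition]
  -- φ : T ⟶ W
  have hxm : x ≫ f = m.left ≫ H'.hom := hx.trans (Over.w m).symm
  let lm : TT.left ⟶ PicF.XT f H' := pullback.lift x m.left hxm
  have hlm : lm = gr f TT x hx ≫ PicF.XTmap f m := by
    apply pullback.hom_ext
    · rw [pullback.lift_fst, Category.assoc, XTmap_fst, gr_fst]
    · rw [pullback.lift_snd, Category.assoc, XTmap_snd, ← Category.assoc]
      erw [gr_snd]
      rw [Category.id_comp]
  have hle : ι.ker ≤ lm.ker := by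
    rw [hlm, ← Scheme.IdealSheafData.map_ker, Scheme.IdealSheafData.le_map_iff_comap_le,
      Scheme.IdealSheafData.ker_subschemeι, ← pull_eq_comap, hm, ← secGraph_eq]
    exact Groth.Agent.Lib.R2H1.CurveDivSum.mul_le_right' _ _
  let φ : TT.left ⟶ Z'.1.subscheme := IsClosedImmersion.lift ι lm hle
  have hφι : φ ≫ ι = lm := IsClosedImmersion.lift_fac ι lm hle
  have hφπ : φ ≫ π = m.left := by
    change φ ≫ ι ≫ _ = _
    rw [← Category.assoc, hφι]
    exact pullback.lift_snd _ _ _
  have hφw : φ ≫ w = x := by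
    change φ ≫ ι ≫ _ = _
    rw [← Category.assoc, hφι]
    exact pullback.lift_fst _ _ _
  -- the difference divisor on X_W
  have hI₁ : Mor2.IsFinLocFreeOfDeg 1
      ((HilbD.secGraph f WW w hw).subschemeι ≫ PicF.XTproj f WW) :=
    isFinLocFreeOfDeg_secGraph f WW w hw
  have hI₂ : Mor2.IsFinLocFreeOfDeg (d + 1)
      ((HilbD.pull f πo Z'.1).subschemeι ≫ PicF.XTproj f WW) :=
    isFinLocFreeOfDeg_pull f πo Z'.1 (d + 1) Z'.2
  have hle₂ : HilbD.pull f πo Z'.1 ≤ HilbD.secGraph f WW w hw := by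
    -- the tautological point lies on the universal divisor
    rw [secGraph_eq, pull_eq_comap, ← Scheme.IdealSheafData.le_map_iff_comap_le,
      Scheme.IdealSheafData.map_ker]
    have : gr f WW w hw ≫ PicF.XTmap f πo = ι := by
      apply pullback.hom_ext
      · rw [Category.assoc, XTmap_fst, gr_fst]
      · rw [Category.assoc, XTmap_snd, ← Category.assoc]
        erw [gr_snd]
        rw [Category.id_comp]
        rfl
    rw [this, Scheme.IdealSheafData.ker_subschemeι]
  obtain ⟨I, hI, hI₂eq⟩ := Groth.Agent.Lib.R2H1.CurveDivSum.s1172 (PicF.XTproj f WW)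
    (HilbD.secGraph f WW w hw) (HilbD.pull f πo Z'.1) hle₂ 1 (d + 1) hI₁ hI₂
  have hd : d + 1 - 1 = d := by omega
  rw [hd] at hI
  -- classify I
  obtain ⟨h, hh, -⟩ := hZ WW ⟨I, hI⟩
  change HilbD.pull f h Z.1 = I at hh
  have hhw : h.left ≫ H.hom = w ≫ f := (Over.w h).trans hw.symm
  let ψ : Z'.1.subscheme ⟶ TT.left := pullback.lift h.left w hhw
  have hψ1 : ψ ≫ pullback.fst H.hom f = h.left := pullback.lift_fst _ _ _
  have hψ2 : ψ ≫ x = w := pullback.lift_snd _ _ _
  let ψo : WW ⟶ TT := Over.homMk ψ (by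
    change ψ ≫ pullback.fst H.hom f ≫ H.hom = π ≫ H'.hom
    rw [← Category.assoc, hψ1]
    exact Over.w h)
  let φo : TT ⟶ WW := Over.homMk φ (by
    change φ ≫ π ≫ H'.hom = _
    rw [← Category.assoc, hφπ]
    exact Over.w m)
  -- ψ ≫ m = π
  have e1 : ψo ≫ m = πo := by
    apply (hZ' WW ⟨HilbD.pull f πo Z'.1, hI₂⟩).unique
    · change HilbD.pull f (ψo ≫ m) Z'.1 = HilbD.pull f πo Z'.1
      rw [pull_comp, hm, pull_mul, ← pull_comp, pull_secGraph f ψo x hx (by
        change (ψ ≫ x) ≫ f = _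
        rw [hψ2]; exact hw), hI₂eq]
      have e : ψo ≫ prH = h := by
        ext
        exact hψ1
      rw [e, hh, Groth.Agent.Lib.R2H1.CurveDivSum.mul_comm']
      rw [secGraph_congr f WW (x := Over.Hom.left ψo ≫ x) (x' := w) hψ2]
    · rfl
  have hψm : ψ ≫ m.left = π := congrArg (fun k => Over.Hom.left k) e1
  have hψφ : ψ ≫ φ = 𝟙 _ := by
    rw [← cancel_mono ι, Category.assoc, hφι, Category.id_comp]
    apply pullback.hom_ext
    · rw [Category.assoc, pullback.lift_fst, hψ2]
    · rw [Category.assoc, pullback.lift_snd]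
      exact hψm
  have e2 : φo ≫ h = prH := by
    apply (hZ TT ⟨HilbD.pull f prH Z.1, isFinLocFreeOfDeg_pull f prH Z.1 d Z.2⟩).unique
    · change HilbD.pull f (φo ≫ h) Z.1 = HilbD.pull f prH Z.1
      rw [pull_comp, hh]
      apply Groth.Agent.Lib.H9ModPair2.eq_of_mul_eq_mul_right (isEffCartier_secGraph f TT x hx)
      rw [← hm]
      have e3 : HilbD.pull f m Z'.1 = HilbD.pull f φo (HilbD.pull f πo Z'.1) := by
        rw [← pull_comp]
        congr 1
        ext
        exact hφπ.symm
      rw [e3, hI₂eq, pull_mul, pull_secGraph f φo w hw (by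
        change (φ ≫ w) ≫ f = _
        rw [hφw]; exact hx), Groth.Agent.Lib.R2H1.CurveDivSum.mul_comm']
      rw [secGraph_congr f TT (x := Over.Hom.left φo ≫ w) (x' := x) hφw]
    · rfl
  have hφh : φ ≫ h.left = pullback.fst H.hom f := congrArg (fun k => Over.Hom.left k) e2
  have hφψ : φ ≫ ψ = 𝟙 _ := by
    apply pullback.hom_ext
    · rw [Category.assoc, hψ1, Category.id_comp]
      exact hφh
    · rw [Category.assoc]
      erw [hψ2]
      rw [hφw, Category.id_comp]
  haveI : IsIso φ := ⟨ψ, hφψ, hψφ⟩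
  rw [← hφπ]
  exact isFinLocFreeOfDeg_of_iso_comp φ π (d + 1) hπ

end Part3

end Groth.Agent.Lib.R2H1.HilbAddPoint
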