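import Mathlib
import Groth.Agent.Lib.R2H3ClosedWeil
import Groth.Agent.Lib.R2H2HilbOne
import Groth.Agent.Lib.R2H1HilbAddPoint
set_option backward.isDefEq.respectTransparency.types false

/-!
Closed locus where one finite locally free closed subscheme is contained in another closed subscheme (helper1, on top of helper3 R2H3ClosedWeil.idealW): leIdeal f I I-prime (ideal sheaf on S), comap_eq_ker_of_isPullback, leIdeal_le_ker_iff (universal property on ANY pullback square), s16245; s1167 (Hilbert scheme of points is separated: diagonal = closed equaliser locus).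
-/

set_option autoImplicit false
set_option linter.style.haveILetI false
set_option linter.unusedSectionVars false
universe u v

open CategoryTheory CategoryTheory.Limits AlgebraicGeometry TopologicalSpace Opposite

namespace Groth.Agent.Lib.R2H1.HilbSep

section Part1

open CategoryTheory CategoryTheory.Limits AlgebraicGeometry

variable {X S : Scheme.{u}} (f : X ⟶ S) (𝓘 𝓘' : X.IdealSheafData)

/-- the ideal sheaf on `S` of the closed locus where `V(𝓘') ⊆ V(𝓘)`. -/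
noncomputable def leIdeal [IsFinite (𝓘'.subschemeι ≫ f)] [Flat (𝓘'.subschemeι ≫ f)]
    [LocallyOfFinitePresentation (𝓘'.subschemeι ≫ f)] : S.IdealSheafData :=
  Groth.Agent.Lib.R2H3.ClosedWeil.idealW (𝓘'.subschemeι ≫ f) (𝓘.comap 𝓘'.subschemeι)

theorem comap_eq_ker_of_isPullback {Z Y Y' P : Scheme.{u}} (i : Z ⟶ Y) [IsClosedImmersion i]
    (m : Y' ⟶ Y) (q : P ⟶ Z) (j : P ⟶ Y') (h : IsPullback q j i m) :
    i.ker.comap m = j.ker := by
  rw [Groth.Agent.Lib.R2H2.HilbOne.ker_eq_of_isPullback i m q j h]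
  unfold Scheme.IdealSheafData.comap
  rw [← pullbackSymmetry_hom_comp_fst, Scheme.Hom.ker_comp_of_isIso]

/-- universal property of `leIdeal` on any pullback square. -/
theorem leIdeal_le_ker_iff [IsFinite (𝓘'.subschemeι ≫ f)] [Flat (𝓘'.subschemeι ≫ f)]
    [LocallyOfFinitePresentation (𝓘'.subschemeι ≫ f)] {X' T : Scheme.{u}} (pr : X' ⟶ X)
    (p : X' ⟶ T) (a : T ⟶ S) (hpb : IsPullback pr p f a) :
    leIdeal f 𝓘 𝓘' ≤ a.ker ↔ 𝓘.comap pr ≤ 𝓘'.comap pr := by
  unfold leIdeal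
  rw [Groth.Agent.Lib.R2H3.ClosedWeil.idealW_le_ker_iff]
  set g := 𝓘'.subschemeι ≫ f with hg
  set q := pullback.fst g a with hq
  set r := pullback.snd g a with hr
  have hc : (q ≫ 𝓘'.subschemeι) ≫ f = r ≫ a := by
    rw [Category.assoc]
    exact pullback.condition
  let j : pullback g a ⟶ X' := hpb.lift (q ≫ 𝓘'.subschemeι) r hc
  have hj1 : j ≫ pr = q ≫ 𝓘'.subschemeι := hpb.lift_fst _ _ _
  have hj2 : j ≫ p = r := hpb.lift_snd _ _ _
  have hP : IsPullback q j 𝓘'.subschemeι pr := by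
    have hbig : IsPullback q (j ≫ p) (𝓘'.subschemeι ≫ f) a := by
      rw [hj2]
      exact IsPullback.of_hasPullback g a
    exact (IsPullback.of_right hbig.flip hj1 hpb.flip).flip
  have e1 : 𝓘'.comap pr = j.ker := by
    have := comap_eq_ker_of_isPullback 𝓘'.subschemeι pr q j hP
    rwa [Scheme.IdealSheafData.ker_subschemeι] at this
  have lhs : 𝓘.comap 𝓘'.subschemeι ≤ q.ker ↔ 𝓘.comap (q ≫ 𝓘'.subschemeι) ≤ ⊥ := by
    rw [← Scheme.IdealSheafData.map_bot q, Scheme.IdealSheafData.le_map_iff_comap_le,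
      ← Scheme.IdealSheafData.comap_comp]
  have rhs : 𝓘.comap pr ≤ j.ker ↔ 𝓘.comap (j ≫ pr) ≤ ⊥ := by
    rw [← Scheme.IdealSheafData.map_bot j, Scheme.IdealSheafData.le_map_iff_comap_le,
      ← Scheme.IdealSheafData.comap_comp]
  rw [e1, lhs, rhs, hj1]

theorem s16245 [IsFinite (𝓘'.subschemeι ≫ f)] [Flat (𝓘'.subschemeι ≫ f)]
    [LocallyOfFinitePresentation (𝓘'.subschemeι ≫ f)] :
    ∃ 𝓩 : S.IdealSheafData, ∀ (T : Scheme.{u}) (g : T ⟶ S),
      (∃ t : T ⟶ 𝓩.subscheme, t ≫ 𝓩.subschemeι = g) ↔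
        𝓘.comap (pullback.fst f g) ≤ 𝓘'.comap (pullback.fst f g) := by
  refine ⟨leIdeal f 𝓘 𝓘', fun T g => ?_⟩
  rw [Groth.Agent.Lib.R2H3.ClosedWeil.exists_lift_iff, Scheme.IdealSheafData.ker_subschemeι]
  exact leIdeal_le_ker_iff f 𝓘 𝓘' _ _ g (IsPullback.of_hasPullback f g)

end Part1

section Part2

open CategoryTheory CategoryTheory.Limits AlgebraicGeometry
open Groth.Agent.Lib.R2H1.HilbDesc Groth.Agent.Lib.R2H1.HilbAddPoint


theorem s1167 {X S : Scheme.{u}} (f : X ⟶ S) (d : ℕ)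
    (H : Over S) (Z : HilbD.Obj f d H) (hZ : HilbD.IsUniversal f d H Z) : IsSeparated H.hom := by
  let TT : Over S := Over.mk (pullback.fst H.hom H.hom ≫ H.hom)
  let p1 : TT ⟶ H := Over.homMk (pullback.fst H.hom H.hom) rfl
  let p2 : TT ⟶ H := Over.homMk (pullback.snd H.hom H.hom) pullback.condition.symm
  let I₁ := HilbD.pull f p1 Z.1
  let I₂ := HilbD.pull f p2 Z.1
  have h₁ : Mor2.IsFinLocFreeOfDeg d (I₁.subschemeι ≫ PicF.XTproj f TT) :=
    isFinLocFreeOfDeg_pull f p1 Z.1 d Z.2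
  have h₂ : Mor2.IsFinLocFreeOfDeg d (I₂.subschemeι ≫ PicF.XTproj f TT) :=
    isFinLocFreeOfDeg_pull f p2 Z.1 d Z.2
  haveI : IsFinite (I₁.subschemeι ≫ PicF.XTproj f TT) := h₁.1.1
  haveI : Flat (I₁.subschemeι ≫ PicF.XTproj f TT) := h₁.1.2.1
  haveI : LocallyOfFinitePresentation (I₁.subschemeι ≫ PicF.XTproj f TT) := h₁.1.2.2
  haveI : IsFinite (I₂.subschemeι ≫ PicF.XTproj f TT) := h₂.1.1
  haveI : Flat (I₂.subschemeι ≫ PicF.XTproj f TT) := h₂.1.2.1
  haveI : LocallyOfFinitePresentation (I₂.subschemeι ≫ PicF.XTproj f TT) := h₂.1.2.2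
  let 𝓩 : TT.left.IdealSheafData :=
    leIdeal (PicF.XTproj f TT) I₂ I₁ ⊔ leIdeal (PicF.XTproj f TT) I₁ I₂
  have key : ∀ (T' : Over S) (a : T' ⟶ TT),
      𝓩 ≤ a.left.ker ↔ HilbD.pull f a I₁ = HilbD.pull f a I₂ := by
    intro T' a
    rw [sup_le_iff, leIdeal_le_ker_iff (PicF.XTproj f TT) I₂ I₁ (PicF.XTmap f a)
      (PicF.XTproj f T') a.left (isPullback_XTmap f a),
      leIdeal_le_ker_iff (PicF.XTproj f TT) I₁ I₂ (PicF.XTmap f a)
      (PicF.XTproj f T') a.left (isPullback_XTmap f a), pull_eq_comap, pull_eq_comap]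
    exact ⟨fun h => le_antisymm h.2 h.1, fun h => ⟨h.ge, h.le⟩⟩
  let e : 𝓩.subscheme ⟶ TT.left := 𝓩.subschemeι
  let EE : Over S := Over.mk (e ≫ TT.hom)
  let eo : EE ⟶ TT := Over.homMk e rfl
  have he : HilbD.pull f eo I₁ = HilbD.pull f eo I₂ :=
    (key EE eo).mp (by
      change 𝓩 ≤ 𝓩.subschemeι.ker
      rw [Scheme.IdealSheafData.ker_subschemeι])
  have h12 : eo ≫ p1 = eo ≫ p2 := by
    refine (hZ EE ⟨HilbD.pull f (eo ≫ p1) Z.1, isFinLocFreeOfDeg_pull f _ Z.1 d Z.2⟩).unique rfl ?_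
    change HilbD.pull f (eo ≫ p2) Z.1 = HilbD.pull f (eo ≫ p1) Z.1
    rw [pull_comp, pull_comp]
    exact he.symm
  let Δ : H.left ⟶ TT.left := pullback.diagonal H.hom
  let Δo : H ⟶ TT := Over.homMk Δ (by
    change pullback.diagonal H.hom ≫ pullback.fst H.hom H.hom ≫ H.hom = H.hom
    rw [pullback.diagonal_fst_assoc])
  have hΔ12 : Δo ≫ p1 = Δo ≫ p2 := by
    ext
    change pullback.diagonal H.hom ≫ pullback.fst H.hom H.hom =
      pullback.diagonal H.hom ≫ pullback.snd H.hom H.hom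
    rw [pullback.diagonal_fst, pullback.diagonal_snd]
  have hΔ : 𝓩 ≤ Δ.ker := (key H Δo).mpr (by
    change HilbD.pull f Δo (HilbD.pull f p1 Z.1) = HilbD.pull f Δo (HilbD.pull f p2 Z.1)
    rw [← pull_comp, ← pull_comp, hΔ12])
  have hΔ' : e.ker ≤ Δ.ker := by
    change 𝓩.subschemeι.ker ≤ _
    rwa [Scheme.IdealSheafData.ker_subschemeι]
  let δ : H.left ⟶ 𝓩.subscheme := IsClosedImmersion.lift e Δ hΔ'
  have hδ : δ ≫ e = Δ := IsClosedImmersion.lift_fac e Δ hΔ'
  have h1 : δ ≫ (e ≫ pullback.fst H.hom H.hom) = 𝟙 _ := by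
    rw [← Category.assoc, hδ]
    exact pullback.diagonal_fst _
  have h12' : e ≫ pullback.fst H.hom H.hom = e ≫ pullback.snd H.hom H.hom :=
    congrArg (fun k => Over.Hom.left k) h12
  have h2 : (e ≫ pullback.fst H.hom H.hom) ≫ δ = 𝟙 _ := by
    rw [← cancel_mono e, Category.assoc, hδ, Category.id_comp]
    apply pullback.hom_ext
    · rw [Category.assoc, pullback.diagonal_fst, Category.comp_id]
    · rw [Category.assoc, pullback.diagonal_snd, Category.comp_id]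
      exact h12'
  haveI : IsIso δ := ⟨_, h1, h2⟩
  have hcl : IsClosedImmersion Δ := by
    rw [← hδ]
    infer_instance
  exact ⟨hcl⟩

end Part2

end Groth.Agent.Lib.R2H1.HilbSep
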