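import Mathlib
import Groth.Agent.Lib.R2H1HilbSep
set_option backward.isDefEq.respectTransparency.types false

/-!
Hilbert functor of points of a closed subscheme X of Y over S (helper1): closed immersion ideal correspondence (ker_comap_eq_ker_lift, map_comap_of_le, ker_le_map, map_eq_ker, comap_map), XTmap_id, pull_id, isFinLocFreeOfDeg_of_ker_eq; iT (X_T -> Y_T) with iT_fst/iT_snd/isPullback_iT/closed immersion instance, push_eq_map, iT_XTmap, isPullback_iT_XTmap, comap_ker_iT, comap_iT_pull; exists_universal (Hilb of X = closed subscheme of Hilb of Y cut out by leIdeal), main (S1168).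
-/

set_option autoImplicit false
set_option linter.style.haveILetI false
set_option linter.unusedSectionVars false
universe u v

open CategoryTheory CategoryTheory.Limits AlgebraicGeometry TopologicalSpace Opposite

namespace Groth.Agent.Lib.R2H1.HilbClosed

section Part1

open CategoryTheory CategoryTheory.Limits AlgebraicGeometry
open Groth.Agent.Lib.R2H1.HilbDesc Groth.Agent.Lib.R2H1.HilbAddPoint
open Groth.Agent.Lib.R2H1.HilbSep

section general

variable {X' Y' : Scheme.{u}} (j : X' ⟶ Y') [IsClosedImmersion j]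

/-- for a closed immersion `c` into `Y'` with `ker j ≤ ker c`, the pullback of `ker c` to `X'` is the
kernel of the lift. -/
theorem ker_comap_eq_ker_lift {V : Scheme.{u}} (c : V ⟶ Y') [IsClosedImmersion c]
    (h : j.ker ≤ c.ker) : c.ker.comap j = (IsClosedImmersion.lift j c h).ker := by
  set l := IsClosedImmersion.lift j c h with hl
  have hlj : l ≫ j = c := IsClosedImmersion.lift_fac _ _ _
  have hP : IsPullback (𝟙 V) l c j := by
    refine ⟨⟨by rw [Category.id_comp, hlj]⟩, ⟨PullbackCone.IsLimit.mk _ (fun s => s.fst) ?_ ?_ ?_⟩⟩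
    · intro s
      exact Category.comp_id _
    · intro s
      rw [← cancel_mono j, Category.assoc, hlj]
      exact s.condition
    · intro s m hm _
      rw [← hm]
      exact (Category.comp_id _).symm
  exact comap_eq_ker_of_isPullback c j (𝟙 _) l hP

theorem map_comap_of_le (J : Y'.IdealSheafData) (hJ : j.ker ≤ J) :
    (J.comap j).map j = J := by
  have h : j.ker ≤ J.subschemeι.ker := by rwa [Scheme.IdealSheafData.ker_subschemeι]
  have e := ker_comap_eq_ker_lift j J.subschemeι h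
  set l := IsClosedImmersion.lift j J.subschemeι h with hl
  have hlj : l ≫ j = J.subschemeι := IsClosedImmersion.lift_fac _ _ _
  rw [Scheme.IdealSheafData.ker_subschemeι] at e
  rw [e, Scheme.IdealSheafData.map_ker, hlj, Scheme.IdealSheafData.ker_subschemeι]

theorem ker_le_map (I : X'.IdealSheafData) : j.ker ≤ I.map j := by
  rw [← Scheme.IdealSheafData.map_bot]
  exact Scheme.IdealSheafData.map_mono j bot_le

theorem map_eq_ker (I : X'.IdealSheafData) : I.map j = (I.subschemeι ≫ j).ker := by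
  rw [← Scheme.IdealSheafData.map_ker, Scheme.IdealSheafData.ker_subschemeι]

theorem comap_map (I : X'.IdealSheafData) : (I.map j).comap j = I := by
  have h : j.ker ≤ (I.subschemeι ≫ j).ker := Scheme.Hom.le_ker_comp _ _
  have e := ker_comap_eq_ker_lift j (I.subschemeι ≫ j) h
  have e2 : IsClosedImmersion.lift j (I.subschemeι ≫ j) h = I.subschemeι := by
    rw [← cancel_mono j, IsClosedImmersion.lift_fac]
  rw [e2, Scheme.IdealSheafData.ker_subschemeι] at e
  rw [map_eq_ker]
  exact e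

end general

section more

variable {X S : Scheme.{u}} (f : X ⟶ S)

theorem XTmap_id (T : Over S) : PicF.XTmap f (𝟙 T) = 𝟙 _ := by
  apply pullback.hom_ext
  · rw [XTmap_fst, Category.id_comp]
  · rw [XTmap_snd, Category.id_comp]
    exact Category.comp_id _

theorem pull_id (T : Over S) (I : (PicF.XT f T).IdealSheafData) : HilbD.pull f (𝟙 T) I = I := by
  rw [pull_eq_comap, XTmap_id, Scheme.IdealSheafData.comap_id]

/-- transport of finite locally freeness to the image of a closed immersion. -/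
theorem isFinLocFreeOfDeg_of_ker_eq {V X' T : Scheme.{u}} (l : V ⟶ X') [IsClosedImmersion l]
    (p : X' ⟶ T) (I : X'.IdealSheafData) (hI : I = l.ker) (d : ℕ)
    (h : Mor2.IsFinLocFreeOfDeg d (l ≫ p)) : Mor2.IsFinLocFreeOfDeg d (I.subschemeι ≫ p) := by
  subst hI
  have e : l.ker.subschemeι ≫ p = inv l.toImage ≫ l ≫ p := by
    rw [← cancel_epi l.toImage, IsIso.hom_inv_id_assoc]
    change l.toImage ≫ l.imageι ≫ p = _
    rw [← Category.assoc, l.toImage_imageι]
  rw [e]
  exact isFinLocFreeOfDeg_of_iso_comp _ _ d h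

end more

end Part1

section Part2

open CategoryTheory CategoryTheory.Limits AlgebraicGeometry
open Groth.Agent.Lib.R2H1.HilbDesc Groth.Agent.Lib.R2H1.HilbAddPoint
open Groth.Agent.Lib.R2H1.HilbSep


variable {X Y S : Scheme.{u}} (i : X ⟶ Y) (g : Y ⟶ S)

/-- `X_T ⟶ Y_T` -/
noncomputable abbrev iT (T : Over S) : PicF.XT (i ≫ g) T ⟶ PicF.XT g T :=
  pullback.map (i ≫ g) T.hom g T.hom i (𝟙 _) (𝟙 S) (Category.comp_id _) (by simp)

theorem iT_fst (T : Over S) : iT i g T ≫ pullback.fst g T.hom = pullback.fst (i ≫ g) T.hom ≫ i :=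
  pullback.lift_fst _ _ _

theorem iT_snd (T : Over S) : iT i g T ≫ pullback.snd g T.hom = pullback.snd (i ≫ g) T.hom := by
  unfold iT
  rw [pullback.lift_snd]
  exact Category.comp_id _

theorem isPullback_iT (T : Over S) :
    IsPullback (pullback.fst (i ≫ g) T.hom) (iT i g T) i (pullback.fst g T.hom) := by
  have hout : IsPullback (iT i g T ≫ pullback.snd g T.hom) (pullback.fst (i ≫ g) T.hom) T.hom
      (i ≫ g) := by
    rw [iT_snd]
    exact (IsPullback.of_hasPullback (i ≫ g) T.hom).flip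
  exact (IsPullback.of_right hout (iT_fst i g T) (IsPullback.of_hasPullback g T.hom).flip).flip

instance [IsClosedImmersion i] (T : Over S) : IsClosedImmersion (iT i g T) :=
  MorphismProperty.of_isPullback (P := @IsClosedImmersion) (isPullback_iT i g T) inferInstance

theorem push_eq_map (T : Over S) (I : (PicF.XT (i ≫ g) T).IdealSheafData) :
    HilbD.push i g T I = I.map (iT i g T) := by
  unfold HilbD.push
  rw [← Scheme.IdealSheafData.map_ker, Scheme.IdealSheafData.ker_subschemeι]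

theorem iT_XTmap {T T' : Over S} (a : T' ⟶ T) :
    PicF.XTmap (i ≫ g) a ≫ iT i g T = iT i g T' ≫ PicF.XTmap g a := by
  apply pullback.hom_ext
  · rw [Category.assoc, iT_fst, ← Category.assoc, XTmap_fst, Category.assoc, XTmap_fst, iT_fst]
  · rw [Category.assoc, iT_snd, XTmap_snd, Category.assoc, XTmap_snd, ← Category.assoc, iT_snd]

theorem isPullback_iT_XTmap {T T' : Over S} (a : T' ⟶ T) :
    IsPullback (PicF.XTmap (i ≫ g) a) (iT i g T') (iT i g T) (PicF.XTmap g a) := by
  have hout : IsPullback (PicF.XTmap (i ≫ g) a ≫ pullback.fst (i ≫ g) T.hom) (iT i g T') i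
      (PicF.XTmap g a ≫ pullback.fst g T.hom) := by
    rw [XTmap_fst, XTmap_fst]
    exact isPullback_iT i g T'
  exact IsPullback.of_right hout (iT_XTmap i g a) (isPullback_iT i g T)

theorem comap_ker_iT [IsClosedImmersion i] {T T' : Over S} (a : T' ⟶ T) :
    (iT i g T).ker.comap (PicF.XTmap g a) = (iT i g T').ker :=
  comap_eq_ker_of_isPullback (iT i g T) (PicF.XTmap g a) (PicF.XTmap (i ≫ g) a) (iT i g T')
    (isPullback_iT_XTmap i g a)

/-- restriction to `X` commutes with base change. -/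
theorem comap_iT_pull {T T' : Over S} (a : T' ⟶ T) (J : (PicF.XT g T).IdealSheafData) :
    (HilbD.pull g a J).comap (iT i g T') = HilbD.pull (i ≫ g) a (J.comap (iT i g T)) := by
  rw [pull_eq_comap, pull_eq_comap, ← Scheme.IdealSheafData.comap_comp,
    ← Scheme.IdealSheafData.comap_comp, iT_XTmap]

end Part2

section Part3

open CategoryTheory CategoryTheory.Limits AlgebraicGeometry
open Groth.Agent.Lib.R2H1.HilbDesc Groth.Agent.Lib.R2H1.HilbAddPoint
open Groth.Agent.Lib.R2H1.HilbSep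


variable {X Y S : Scheme.{u}} (i : X ⟶ Y) [IsClosedImmersion i] (g : Y ⟶ S)
  (d : ℕ) (H : Over S) (Z : HilbD.Obj g d H)

theorem exists_universal (hZ : HilbD.IsUniversal g d H Z) :
    ∃ (H₀ : Over S) (e : H₀ ⟶ H) (Z₀ : HilbD.Obj (i ≫ g) d H₀), IsClosedImmersion e.left ∧
      HilbD.IsUniversal (i ≫ g) d H₀ Z₀ ∧
      ∀ (T : Over S) (a₀ : T ⟶ H₀), HilbD.pull g (a₀ ≫ e) Z.1 =
        HilbD.push i g T (HilbD.pull (i ≫ g) a₀ Z₀.1) := by
  haveI : IsFinite (Z.1.subschemeι ≫ PicF.XTproj g H) := Z.2.1.1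
  haveI : Flat (Z.1.subschemeι ≫ PicF.XTproj g H) := Z.2.1.2.1
  haveI : LocallyOfFinitePresentation (Z.1.subschemeι ≫ PicF.XTproj g H) := Z.2.1.2.2
  let 𝒦 := (iT i g H).ker
  let 𝓩 := leIdeal (PicF.XTproj g H) 𝒦 Z.1
  have key : ∀ (T : Over S) (a : T ⟶ H),
      𝓩 ≤ a.left.ker ↔ (iT i g T).ker ≤ HilbD.pull g a Z.1 := by
    intro T a
    rw [leIdeal_le_ker_iff (PicF.XTproj g H) 𝒦 Z.1 (PicF.XTmap g a) (PicF.XTproj g T) a.left
      (isPullback_XTmap g a), comap_ker_iT, pull_eq_comap]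
  let H₀ : Over S := Over.mk (𝓩.subschemeι ≫ H.hom)
  let e : H₀ ⟶ H := Over.homMk 𝓩.subschemeι rfl
  let J := HilbD.pull g e Z.1
  have hJ : Mor2.IsFinLocFreeOfDeg d (J.subschemeι ≫ PicF.XTproj g H₀) :=
    isFinLocFreeOfDeg_pull g e Z.1 d Z.2
  have hKJ : (iT i g H₀).ker ≤ J := (key H₀ e).mp (by
    change 𝓩 ≤ 𝓩.subschemeι.ker
    rw [Scheme.IdealSheafData.ker_subschemeι])
  let Z₀i := J.comap (iT i g H₀)
  have hZ₀ : Mor2.IsFinLocFreeOfDeg d (Z₀i.subschemeι ≫ PicF.XTproj (i ≫ g) H₀) := by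
    have h : (iT i g H₀).ker ≤ J.subschemeι.ker := by
      rwa [Scheme.IdealSheafData.ker_subschemeι]
    have e1 := ker_comap_eq_ker_lift (iT i g H₀) J.subschemeι h
    rw [Scheme.IdealSheafData.ker_subschemeι] at e1
    set l := IsClosedImmersion.lift (iT i g H₀) J.subschemeι h with hldef
    have hl : l ≫ iT i g H₀ = J.subschemeι := IsClosedImmersion.lift_fac _ _ _
    haveI : IsClosedImmersion l := by
      haveI : IsClosedImmersion (l ≫ iT i g H₀) := by rw [hl]; infer_instance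
      exact IsClosedImmersion.of_comp l (iT i g H₀)
    apply isFinLocFreeOfDeg_of_ker_eq l _ Z₀i e1 d
    have : l ≫ PicF.XTproj (i ≫ g) H₀ = J.subschemeι ≫ PicF.XTproj g H₀ := by
      rw [← hl, Category.assoc, iT_snd]
    rw [this]
    exact hJ
  have fact : ∀ (T : Over S) (a₀ : T ⟶ H₀), HilbD.pull g (a₀ ≫ e) Z.1 =
      HilbD.push i g T (HilbD.pull (i ≫ g) a₀ Z₀i) := by
    intro T a₀
    rw [push_eq_map, ← comap_iT_pull, pull_comp]
    symm
    apply map_comap_of_le
    rw [← comap_ker_iT i g a₀, pull_eq_comap]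
    exact Scheme.IdealSheafData.comap_mono (PicF.XTmap g a₀) hKJ
  have huniv : HilbD.IsUniversal (i ≫ g) d H₀ ⟨Z₀i, hZ₀⟩ := by
    intro T Z'
    obtain ⟨I', hI'⟩ := Z'
    have hP : Mor2.IsFinLocFreeOfDeg d
        ((HilbD.push i g T I').subschemeι ≫ PicF.XTproj g T) := by
      apply isFinLocFreeOfDeg_of_ker_eq (I'.subschemeι ≫ iT i g T) _ _ rfl d
      rw [Category.assoc, iT_snd]
      exact hI'
    obtain ⟨a, ha, hau⟩ := hZ T ⟨HilbD.push i g T I', hP⟩
    change HilbD.pull g a Z.1 = HilbD.push i g T I' at ha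
    have hfac : 𝓩 ≤ a.left.ker := (key T a).mpr (by
      rw [ha, push_eq_map]
      exact ker_le_map _ _)
    have hfac' : (𝓩.subschemeι).ker ≤ a.left.ker := by
      rwa [Scheme.IdealSheafData.ker_subschemeι]
    let a₀l : T.left ⟶ 𝓩.subscheme := IsClosedImmersion.lift 𝓩.subschemeι a.left hfac'
    have ha₀l : a₀l ≫ 𝓩.subschemeι = a.left := IsClosedImmersion.lift_fac _ _ _
    let a₀ : T ⟶ H₀ := Over.homMk a₀l (by
      change a₀l ≫ 𝓩.subschemeι ≫ H.hom = T.hom
      rw [← Category.assoc, ha₀l]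
      exact Over.w a)
    have ha₀e : a₀ ≫ e = a := by
      ext
      exact ha₀l
    refine ⟨a₀, ?_, ?_⟩
    · change HilbD.pull (i ≫ g) a₀ Z₀i = I'
      have h1 := fact T a₀
      rw [ha₀e, ha, push_eq_map, push_eq_map] at h1
      have h2 := congrArg (fun K => Scheme.IdealSheafData.comap K (iT i g T)) h1
      simp only [comap_map] at h2
      exact h2.symm
    · intro b₀ hb₀
      change HilbD.pull (i ≫ g) b₀ Z₀i = I' at hb₀
      have h1 := fact T b₀
      rw [hb₀] at h1
      have h2 : b₀ ≫ e = a := hau _ h1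
      have h3 : b₀.left ≫ 𝓩.subschemeι = a₀.left ≫ 𝓩.subschemeι := by
        have := congrArg (fun k => Over.Hom.left k) (h2.trans ha₀e.symm)
        exact this
      ext
      exact (cancel_mono 𝓩.subschemeι).mp h3
  exact ⟨H₀, e, ⟨Z₀i, hZ₀⟩, (inferInstance : IsClosedImmersion 𝓩.subschemeι), huniv, fact⟩

theorem main (hZ : HilbD.IsUniversal g d H Z) :
    HilbD.Representable (i ≫ g) d ∧
    ∀ (H' : Over S) (Z' : HilbD.Obj (i ≫ g) d H') (_ : HilbD.IsUniversal (i ≫ g) d H' Z') (m : H' ⟶ H),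
      HilbD.pull g m Z.1 = HilbD.push i g H' Z'.1 → IsClosedImmersion m.left := by
  obtain ⟨H₀, e, Z₀, he, huniv, fact⟩ := exists_universal i g d H Z hZ
  refine ⟨⟨H₀, Z₀, huniv⟩, fun H' Z' hZ' m hm => ?_⟩
  obtain ⟨a₀, ha₀, -⟩ := huniv H' Z'
  obtain ⟨b, hb, -⟩ := hZ' H₀ Z₀
  change HilbD.pull (i ≫ g) a₀ Z₀.1 = Z'.1 at ha₀
  change HilbD.pull (i ≫ g) b Z'.1 = Z₀.1 at hb
  have h1 : a₀ ≫ e = m := by
    apply (hZ H' ⟨HilbD.pull g m Z.1, isFinLocFreeOfDeg_pull g m Z.1 d Z.2⟩).unique _ rfl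
    change HilbD.pull g (a₀ ≫ e) Z.1 = HilbD.pull g m Z.1
    rw [fact, ha₀, hm]
  have h2 : b ≫ a₀ = 𝟙 H₀ := by
    apply (huniv H₀ Z₀).unique
    · change HilbD.pull (i ≫ g) (b ≫ a₀) Z₀.1 = Z₀.1
      rw [pull_comp, ha₀, hb]
    · exact pull_id _ _ _
  have h3 : a₀ ≫ b = 𝟙 H' := by
    apply (hZ' H' Z').unique
    · change HilbD.pull (i ≫ g) (a₀ ≫ b) Z'.1 = Z'.1
      rw [pull_comp, hb, ha₀]
    · exact pull_id _ _ _
  haveI : IsIso a₀.left :=
    ⟨b.left, congrArg (fun k => Over.Hom.left k) h3, congrArg (fun k => Over.Hom.left k) h2⟩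
  rw [← h1]
  change IsClosedImmersion (a₀.left ≫ e.left)
  infer_instance

end Part3

end Groth.Agent.Lib.R2H1.HilbClosed
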