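/-
Helper library (helper1, round 2): intermediate rings of the strict henselization of a henselian
local domain (EGA IV 18.10-type).  exists_monogenic (finite local unramified algebra with separable
residue extension over a henselian local ring is A[θ], θ a root of a monic polynomial with separable
reduction), splits_of_henselian, mem_lifts_of_dvd, exists_adjoinRoot_equiv, core (preimage in S of a
subfield of Frac S inside Frac of a stage is essentially etale), main_16434.
-/
import Mathlib
import Groth.Agent.Lib.R2H1ShTransfer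
import Groth.Agent.Lib.Helper24G0
import Groth.Agent.Lib.R2H1EssEtFin

set_option autoImplicit false
set_option linter.style.haveILetI false
set_option linter.unusedSectionVars false
universe u

namespace Groth.Agent.Lib.R2H1.ShHens

section Part1

open IsLocalRing Polynomial

theorem residue_eval_map (A E : Type*) [CommRing A] [IsLocalRing A] [CommRing E] [IsLocalRing E]
    [Algebra A E] [IsLocalHom (algebraMap A E)] (g : A[X]) (x : E) :
    residue E (eval x (g.map (algebraMap A E))) =
      aeval (residue E x) (g.map (residue A)) := by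
  rw [← Polynomial.eval₂_hom, Polynomial.eval₂_eq_eval_map, Polynomial.map_map, aeval_def,
    Polynomial.eval₂_eq_eval_map, Polynomial.map_map]
  rfl

/-- A finite local unramified algebra with separable residue extension over a henselian local ring
is generated by one element which is a root of a monic polynomial with separable reduction. -/
theorem exists_monogenic (A E : Type u) [CommRing A] [HenselianLocalRing A] [CommRing E]
    [IsLocalRing E] [Algebra A E] [IsLocalHom (algebraMap A E)] [Module.Finite A E]
    (hm : (maximalIdeal A).map (algebraMap A E) = maximalIdeal E)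
    [Algebra.IsSeparable (ResidueField A) (ResidueField E)] :
    ∃ (θ : E) (f : A[X]), f.Monic ∧ aeval θ f = 0 ∧ (f.map (residue A)).Separable ∧
      Algebra.adjoin A {θ} = ⊤ := by
  classical
  let k := ResidueField A
  let kE := ResidueField E
  obtain ⟨α, hα⟩ := Field.exists_primitive_element k kE
  have hint : IsIntegral k α := Algebra.IsIntegral.isIntegral α
  have hmonic : (minpoly k α).Monic := minpoly.monic hint
  have hsep : (minpoly k α).Separable := Algebra.IsSeparable.isSeparable k α
  obtain ⟨f, hfmap, -, hfmonic⟩ := lifts_and_natDegree_eq_and_monic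
    ((mem_lifts (minpoly k α)).mpr (map_surjective (residue A) residue_surjective _)) hmonic
  haveI : HenselianLocalRing E := Groth.Agent.Lib.Helper24G0.henselian_of_finite A E
  obtain ⟨θ₀, hθ₀⟩ := residue_surjective (R := E) α
  have h1 : eval θ₀ (f.map (algebraMap A E)) ∈ maximalIdeal E := by
    rw [← residue_eq_zero_iff, residue_eval_map, hθ₀, hfmap]
    exact minpoly.aeval k α
  have h2 : IsUnit (eval θ₀ (derivative (f.map (algebraMap A E)))) := by
    rw [← residue_ne_zero_iff_isUnit, derivative_map, residue_eval_map, hθ₀, ← derivative_map,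
      hfmap]
    exact hsep.aeval_derivative_ne_zero (minpoly.aeval k α)
  obtain ⟨θ, hθroot, hθ⟩ := HenselianLocalRing.is_henselian (f.map (algebraMap A E))
    (hfmonic.map _) θ₀ h1 h2
  have hres : residue E θ = α := by
    rw [← hθ₀, ← sub_eq_zero, ← map_sub, residue_eq_zero_iff]
    exact hθ
  refine ⟨θ, f, hfmonic, ?_, by rw [hfmap]; exact hsep, ?_⟩
  · rw [aeval_def, Polynomial.eval₂_eq_eval_map]
    exact hθroot
  · have hle : (⊤ : Submodule A E) ≤ Subalgebra.toSubmodule (Algebra.adjoin A {θ}) := by
      apply Submodule.le_of_le_smul_of_le_jacobson_bot (I := maximalIdeal A)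
        Module.Finite.fg_top (maximalIdeal_le_jacobson _)
      intro x _
      have hx : residue E x ∈ Algebra.adjoin k {α} := by
        rw [← IntermediateField.adjoin_simple_toSubalgebra_of_isAlgebraic hint.isAlgebraic, hα]
        trivial
      rw [Algebra.adjoin_singleton_eq_range_aeval] at hx
      obtain ⟨g', hg'⟩ := hx
      obtain ⟨g, rfl⟩ := map_surjective (residue A) residue_surjective g'
      have hxt : x - aeval θ g ∈ maximalIdeal E := by
        rw [← residue_eq_zero_iff, map_sub, sub_eq_zero, aeval_def,
          Polynomial.eval₂_eq_eval_map, residue_eval_map, hres]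
        exact hg'.symm
      rw [Ideal.smul_top_eq_map, hm]
      refine Submodule.mem_sup.mpr ⟨aeval θ g, ?_, x - aeval θ g, hxt, by ring⟩
      rw [Subalgebra.mem_toSubmodule, Algebra.adjoin_singleton_eq_range_aeval]
      exact ⟨g, rfl⟩
    rw [eq_top_iff]
    intro x _
    exact hle (Submodule.mem_top : x ∈ (⊤ : Submodule A E))

end Part1

section Part2

open IsLocalRing Polynomial

/-- Over a henselian local domain with separably closed residue field, a monic polynomial with
separable reduction splits into linear factors. -/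
theorem splits_of_henselian (S : Type*) [CommRing S] [HenselianLocalRing S] [IsDomain S]
    [IsSepClosed (ResidueField S)] (f : S[X]) (hf : f.Monic)
    (hsep : (f.map (residue S)).Separable) : f.Splits := by
  classical
  rw [splits_iff_card_roots]
  set fb := f.map (residue S) with hfb
  have hsplit : fb.Splits := IsSepClosed.splits_of_separable fb hsep
  have hcard : fb.roots.card = f.natDegree := by
    rw [← hsplit.natDegree_eq_card_roots, hfb, hf.natDegree_map]
  have hnodup : fb.roots.Nodup := nodup_roots hsep
  have hlift : ∀ a : ResidueField S, a ∈ fb.roots → ∃ α : S, f.IsRoot α ∧ residue S α = a := by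
    intro a ha
    have hfb0 : fb ≠ 0 := (hf.map _).ne_zero
    have hroot : fb.IsRoot a := (mem_roots hfb0).mp ha
    obtain ⟨a₀, rfl⟩ := residue_surjective a
    have h1 : f.eval a₀ ∈ maximalIdeal S := by
      rw [← residue_eq_zero_iff, ← Polynomial.eval₂_hom, Polynomial.eval₂_eq_eval_map]
      exact hroot
    have h2 : IsUnit (f.derivative.eval a₀) := by
      rw [← residue_ne_zero_iff_isUnit, ← Polynomial.eval₂_hom, Polynomial.eval₂_eq_eval_map,
        ← derivative_map]
      have h3 := hsep.aeval_derivative_ne_zero (x := residue S a₀)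
        (by rw [Polynomial.coe_aeval_eq_eval]; exact hroot)
      rwa [Polynomial.coe_aeval_eq_eval] at h3
    obtain ⟨α, hα, hα'⟩ := HenselianLocalRing.is_henselian f hf a₀ h1 h2
    refine ⟨α, hα, ?_⟩
    rw [← sub_eq_zero, ← map_sub, residue_eq_zero_iff]
    exact hα'
  let g : ResidueField S → S := fun a =>
    if h : a ∈ fb.roots then (hlift a h).choose else 0
  have hg1 : ∀ a ∈ fb.roots, f.IsRoot (g a) := fun a ha => by
    simp only [g, dif_pos ha]
    exact (hlift a ha).choose_spec.1
  have hg2 : ∀ a ∈ fb.roots, residue S (g a) = a := fun a ha => by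
    simp only [g, dif_pos ha]
    exact (hlift a ha).choose_spec.2
  have hginj : Set.InjOn g (fb.roots.toFinset : Set (ResidueField S)) := by
    intro a ha b hb hab
    rw [← hg2 a (Multiset.mem_toFinset.mp ha), ← hg2 b (Multiset.mem_toFinset.mp hb), hab]
  have hsub : fb.roots.toFinset.image g ⊆ f.roots.toFinset := by
    intro x hx
    obtain ⟨a, ha, rfl⟩ := Finset.mem_image.mp hx
    rw [Multiset.mem_toFinset, mem_roots hf.ne_zero]
    exact hg1 a (Multiset.mem_toFinset.mp ha)
  have h3 : f.natDegree ≤ f.roots.card := by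
    calc f.natDegree = fb.roots.card := hcard.symm
      _ = fb.roots.toFinset.card := (Multiset.toFinset_card_of_nodup hnodup).symm
      _ = (fb.roots.toFinset.image g).card := (Finset.card_image_of_injOn hginj).symm
      _ ≤ f.roots.toFinset.card := Finset.card_le_card hsub
      _ ≤ f.roots.card := Multiset.toFinset_card_le _
  exact le_antisymm (card_roots' f) h3

/-- A monic divisor (over a field `Ks ⊇ S`) of a monic polynomial splitting over `S` has
coefficients in `S`. -/
theorem mem_lifts_of_dvd (S Ks : Type*) [CommRing S] [IsDomain S] [Field Ks] (ι : S →+* Ks)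
    (hι : Function.Injective ι) (f : S[X]) (hf : f.Monic) (hfs : f.Splits) (h : Ks[X])
    (hh : h.Monic) (hdvd : h ∣ f.map ι) : h ∈ Polynomial.lifts ι := by
  have h1 : (f.map ι).Splits := hfs.map ι
  have h2 : h.Splits := h1.of_dvd (hf.map ι).ne_zero hdvd
  apply h2.mem_lift_of_roots_mem_range hh ι
  intro a ha
  have h3 : a ∈ (f.map ι).roots :=
    Multiset.mem_of_le (Polynomial.roots.le_of_dvd (hf.map ι).ne_zero hdvd) ha
  rw [hfs.roots_map_of_injective hι, Multiset.mem_map] at h3
  obtain ⟨x, -, hx⟩ := h3
  exact ⟨x, hx⟩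

end Part2

section Part3

open IsLocalRing Polynomial

/-- If `E = D[θ]` and the minimal polynomial of `θ` over a field `F ⊇ D` has coefficients in `D`,
then `E ≅ D[X]/(h)`. -/
theorem exists_adjoinRoot_equiv (D E F Ks : Type*) [CommRing D] [CommRing E] [Field F] [Field Ks]
    [Algebra D E] [Algebra D F] [Algebra F Ks] [Algebra E Ks] [Algebra D Ks]
    [IsScalarTower D F Ks] [IsScalarTower D E Ks]
    (hDF : Function.Injective (algebraMap D F)) (hEK : Function.Injective (algebraMap E Ks))
    (θ : E) (hgen : ∀ e : E, ∃ p : D[X], aeval θ p = e)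
    (hD : D[X]) (hDm : hD.Monic)
    (hint : IsIntegral F (algebraMap E Ks θ))
    (hDmap : hD.map (algebraMap D F) = minpoly F (algebraMap E Ks θ)) :
    Nonempty (AdjoinRoot hD ≃ₐ[D] E) := by
  haveI : Nontrivial D := (algebraMap D F).domain_nontrivial
  have H1 : ∀ r : D[X], algebraMap E Ks (eval₂ (algebraMap D E) θ r) =
      aeval (algebraMap E Ks θ) (r.map (algebraMap D F)) := by
    intro r
    rw [Polynomial.hom_eval₂, aeval_def, Polynomial.eval₂_map,
      ← IsScalarTower.algebraMap_eq D E Ks, ← IsScalarTower.algebraMap_eq D F Ks]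
  have h0 : hD.eval₂ (Algebra.ofId D E) θ = 0 := by
    apply hEK
    rw [map_zero]
    have := H1 hD
    rw [hDmap, minpoly.aeval] at this
    exact this
  let φ : AdjoinRoot hD →ₐ[D] E := AdjoinRoot.liftAlgHom hD (Algebra.ofId D E) θ h0
  have hφ : ∀ r : D[X], φ (AdjoinRoot.mk hD r) = eval₂ (algebraMap D E) θ r := fun r =>
    AdjoinRoot.lift_mk h0 r
  refine ⟨AlgEquiv.ofBijective φ ⟨?_, ?_⟩⟩
  · rw [injective_iff_map_eq_zero]
    intro z hz
    obtain ⟨r, rfl⟩ := AdjoinRoot.mk_surjective z
    have hr : AdjoinRoot.mk hD r = AdjoinRoot.mk hD (r %ₘ hD) := by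
      rw [AdjoinRoot.mk_eq_mk]
      exact ⟨r /ₘ hD, by
        have := modByMonic_add_div r hD
        linear_combination -this⟩
    rw [hr] at hz ⊢
    rw [hφ] at hz
    have h2 : aeval (algebraMap E Ks θ) ((r %ₘ hD).map (algebraMap D F)) = 0 := by
      rw [← H1, hz, map_zero]
    have h3 : (r %ₘ hD).map (algebraMap D F) = 0 := by
      by_contra hne
      have h4 := minpoly.degree_le_of_ne_zero F (algebraMap E Ks θ) hne h2
      rw [← hDmap, degree_map_eq_of_injective hDF, degree_map_eq_of_injective hDF] at h4
      exact absurd (degree_modByMonic_lt r hDm) (not_lt.mpr h4)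
    have h5 : r %ₘ hD = 0 := by
      apply Polynomial.map_injective _ hDF
      rw [h3, Polynomial.map_zero]
    rw [h5, map_zero]
  · intro e
    obtain ⟨p, rfl⟩ := hgen e
    exact ⟨AdjoinRoot.mk hD p, by rw [hφ, aeval_def]⟩

end Part3

section Part4

open IsLocalRing Polynomial

set_option maxHeartbeats 1600000 in
/-- Core: over a henselian Noetherian local domain `A` with `S = A^sh` a domain, the preimage in `S`
of a subfield `F` of `Frac S` contained in `Frac E` for a stage `E` is an essentially étale local
`A`-algebra. -/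
theorem core (A S : Type u) [CommRing A] [hAh : HenselianLocalRing A] [IsDomain A]
    [IsNoetherianRing A]
    [CommRing S] [IsLocalRing S] [IsDomain S] [Algebra A S] [IsLocalHom (algebraMap A S)]
    [hS : Hensel.IsStrictHenselization A S]
    (Ks : Type u) [Field Ks] [Algebra S Ks] [IsFractionRing S Ks]
    (F : Subfield Ks)
    (E : Subalgebra A S) [IsLocalRing E] (hE : EGA4loc.IsEssentiallyEtale A E)
    (hEunit : ∀ x : E, IsUnit (x : S) → IsUnit x)
    (hEdiv : ∀ (a : A) (d : S), algebraMap A S a * d ∈ E →
        ∃ d' ∈ E, algebraMap A S a * d' = algebraMap A S a * d)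
    (hFE : ∀ x ∈ F, ∃ e₁ e₂ : E, e₂ ≠ 0 ∧ x * algebraMap S Ks e₂ = algebraMap S Ks e₁)
    (D : Subalgebra A S) (hD : ∀ x : S, x ∈ D ↔ algebraMap S Ks x ∈ F) :
    ∃ _ : IsLocalRing D, IsLocalHom (algebraMap D S) ∧ EGA4loc.IsEssentiallyEtale A D := by
  classical
  have hι : Function.Injective (algebraMap S Ks) := IsFractionRing.injective S Ks
  haveI := Groth.Agent.Lib.Helper3.HzP.sh_faithfullyFlat A S
  have hAS : Function.Injective (algebraMap A S) := FaithfulSMul.algebraMap_injective A S
  -- Step 1: `D` is local, dominated by `S`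
  have hunitD : ∀ x : D, IsUnit (x : S) → IsUnit x := by
    intro x hx
    obtain ⟨y, hy⟩ := isUnit_iff_exists_inv.mp hx
    have hyD : y ∈ D := by
      rw [hD]
      have h1 : algebraMap S Ks y = (algebraMap S Ks (x : S))⁻¹ := by
        apply eq_inv_of_mul_eq_one_right
        rw [← map_mul, hy, map_one]
      rw [h1]
      exact F.inv_mem ((hD _).mp x.2)
    exact isUnit_iff_exists_inv.mpr ⟨⟨y, hyD⟩, Subtype.ext hy⟩
  obtain ⟨hDloc, hDlochom⟩ := Groth.Agent.Lib.R2H1.ShTransfer.isLocalRing_of_isUnit A S D hunitD
  haveI := hDloc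
  haveI := hDlochom
  -- Step 2: `D ≤ E`
  have hDE : D ≤ E := by
    intro x hx
    obtain ⟨e₁, e₂, he₂, he⟩ := hFE _ ((hD x).mp hx)
    have he' : x * (e₂ : S) = (e₁ : S) := hι (by rw [map_mul]; exact he)
    have halg : IsAlgebraic A e₂ := Subalgebra.isAlgebraic_iff_isAlgebraic_val.mpr
      (Groth.Agent.Lib.R2H1.ShTransfer.isAlgebraic_sh A S (e₂ : S))
    obtain ⟨a, ha0, ⟨e₃, he₃⟩⟩ := halg.exists_nonzero_dvd (mem_nonZeroDivisors_of_ne_zero he₂)
    have h2 : algebraMap A S a = (e₂ : S) * (e₃ : S) := by
      have := congrArg (fun z : E => (z : S)) he₃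
      exact this
    have h1 : algebraMap A S a * x ∈ E := by
      have h3 : algebraMap A S a * x = ((e₁ * e₃ : E) : S) := by
        rw [h2]
        push_cast
        rw [← he']
        ring
      rw [h3]
      exact (e₁ * e₃).2
    obtain ⟨d', hd'E, hd'⟩ := hEdiv a x h1
    have h3 : d' = x :=
      mul_left_cancel₀ (fun h0 => ha0 (hAS (by rw [h0, map_zero]))) hd'
    rw [← h3]
    exact hd'E
  -- Step 3: finiteness
  obtain ⟨hfin, -, -⟩ := Groth.Agent.Lib.R2H1.EssEtFin.finite_flat_unram A E hAh hE
  haveI := hfin
  haveI : Module.Finite A D := Module.Finite.of_injective (Subalgebra.inclusion hDE).toLinearMap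
    (Subalgebra.inclusion_injective hDE)
  -- Step 4: local homs, unramifiedness of `E`
  haveI hAE : IsLocalHom (algebraMap A E) := ⟨fun a ha => by
    have h1 : IsUnit (algebraMap A S a) := ha.map (E.val : E →+* S)
    exact isUnit_of_map_unit (algebraMap A S) a h1⟩
  haveI hAD : IsLocalHom (algebraMap A D) := ⟨fun a ha => by
    have h1 : IsUnit (algebraMap A S a) := ha.map (D.val : D →+* S)
    exact isUnit_of_map_unit (algebraMap A S) a h1⟩
  haveI hES : IsLocalHom (algebraMap E S) := ⟨hEunit⟩
  have hmE := Groth.Agent.Lib.Helper3.EssEt.map_maximalIdeal A E hE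
  haveI := hS.isSepClosure
  haveI : Algebra.IsSeparable (ResidueField A) (ResidueField S) := IsSepClosure.separable
  haveI : Algebra.IsSeparable (ResidueField A) (ResidueField E) :=
    Algebra.isSeparable_tower_bot_of_isSeparable (ResidueField A) (ResidueField E)
      (ResidueField S)
  -- Step 5: monogenic presentation
  obtain ⟨θ, f, hfm, hfθ, hfsep, hgen⟩ := exists_monogenic A E hmE
  -- Step 6: `f` splits in `S`
  haveI : HenselianLocalRing S := hS.henselian
  haveI : IsSepClosed (ResidueField S) := IsSepClosure.sep_closed (ResidueField A)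
  have hfS : (f.map (algebraMap A S)).Splits := by
    apply splits_of_henselian S _ (hfm.map _)
    have h1 : (f.map (algebraMap A S)).map (residue S) =
        (f.map (residue A)).map (algebraMap (ResidueField A) (ResidueField S)) := by
      rw [Polynomial.map_map, Polynomial.map_map]
      rfl
    rw [h1]
    exact hfsep.map
  -- Step 7: the minimal polynomial of `θ` over `F` has coefficients in `D`
  let θK : Ks := algebraMap S Ks (θ : S)
  let ιDF : D →+* F := ((algebraMap S Ks).comp (D.val : D →+* S)).codRestrict F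
    (fun d => (hD _).mp d.2)
  letI algDF : Algebra D F := ιDF.toAlgebra
  haveI : IsScalarTower D F Ks := IsScalarTower.of_algebraMap_eq (fun d => rfl)
  have hDFinj : Function.Injective (algebraMap D F) := by
    intro a b hab
    have h1 := congrArg (fun z : F => (z : Ks)) hab
    exact Subtype.ext (hι h1)
  have hcomp : ((algebraMap F Ks).comp (algebraMap D F)).comp (algebraMap A D) =
      (algebraMap S Ks).comp (algebraMap A S) := RingHom.ext fun a => rfl
  have hfF : aeval θK ((f.map (algebraMap A D)).map (algebraMap D F)) = 0 := by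
    rw [aeval_def, Polynomial.eval₂_map, Polynomial.eval₂_map, hcomp, ← Polynomial.eval₂_map]
    have h1 : Polynomial.eval₂ (algebraMap A S) (θ : S) f = 0 := by
      have h2 : ((eval₂ (algebraMap A E) θ f : E) : S) = 0 := by
        have h3 := congrArg (fun z : E => (z : S)) hfθ
        simpa [aeval_def] using h3
      rw [← h2]
      exact (Polynomial.hom_eval₂ f (algebraMap A E) (E.val : E →+* S) θ).symm
    rw [Polynomial.eval₂_eq_eval_map] at h1
    change eval₂ (algebraMap S Ks) (algebraMap S Ks (θ : S)) _ = 0
    rw [Polynomial.eval₂_at_apply, h1, map_zero]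
  have hintF : IsIntegral F θK :=
    ⟨(f.map (algebraMap A D)).map (algebraMap D F), (hfm.map _).map _, hfF⟩
  have hdvd : minpoly F θK ∣ (f.map (algebraMap A D)).map (algebraMap D F) :=
    minpoly.dvd F θK hfF
  have hKmonic : ((minpoly F θK).map (algebraMap F Ks)).Monic := (minpoly.monic hintF).map _
  have hKdvd : (minpoly F θK).map (algebraMap F Ks) ∣
      (f.map (algebraMap A S)).map (algebraMap S Ks) := by
    have h1 := Polynomial.map_dvd (algebraMap F Ks) hdvd
    rw [Polynomial.map_map, Polynomial.map_map, hcomp, ← Polynomial.map_map] at h1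
    exact h1
  have hKlifts : (minpoly F θK).map (algebraMap F Ks) ∈ Polynomial.lifts (algebraMap S Ks) :=
    mem_lifts_of_dvd S Ks (algebraMap S Ks) hι _ (hfm.map _) hfS _ hKmonic hKdvd
  obtain ⟨hS', hS'map, -, hS'monic⟩ := lifts_and_natDegree_eq_and_monic hKlifts hKmonic
  have hS'lifts : hS' ∈ Polynomial.lifts (D.val : D →+* S) := by
    rw [Polynomial.lifts_iff_coeff_lifts]
    intro n
    have h1 : hS'.coeff n ∈ D := by
      rw [hD, ← Polynomial.coeff_map, hS'map, Polynomial.coeff_map]
      exact ((minpoly F θK).coeff n).2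
    exact ⟨⟨_, h1⟩, rfl⟩
  obtain ⟨hDp, hDpmap, -, hDpmonic⟩ := lifts_and_natDegree_eq_and_monic hS'lifts hS'monic
  have hDmap : hDp.map (algebraMap D F) = minpoly F θK := by
    apply Polynomial.map_injective (algebraMap F Ks) (algebraMap F Ks).injective
    rw [← hS'map, ← hDpmap, Polynomial.map_map, Polynomial.map_map]
    rfl
  -- Step 8: `E` is free over `D`
  letI algDE : Algebra D E := (Subalgebra.inclusion hDE).toAlgebra
  haveI : IsScalarTower D E Ks := IsScalarTower.of_algebraMap_eq (fun d => rfl)
  haveI : IsScalarTower A D E := IsScalarTower.of_algebraMap_eq (fun a => rfl)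
  have hEK : Function.Injective (algebraMap E Ks) := hι.comp Subtype.val_injective
  have hgen' : ∀ e : E, ∃ p : D[X], aeval θ p = e := by
    intro e
    have he : e ∈ Algebra.adjoin A {θ} := by rw [hgen]; trivial
    rw [Algebra.adjoin_singleton_eq_range_aeval] at he
    obtain ⟨p, hp⟩ := he
    exact ⟨p.map (algebraMap A D), by rw [Polynomial.aeval_map_algebraMap]; exact hp⟩
  obtain ⟨eqv⟩ := exists_adjoinRoot_equiv D E F Ks hDFinj hEK θ hgen' hDp hDpmonic hintF hDmap
  haveI : Module.Free D (AdjoinRoot hDp) := hDpmonic.free_adjoinRoot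
  haveI : Module.Free D E := Module.Free.of_equiv eqv.toLinearEquiv
  haveI : IsLocalHom (algebraMap D E) := ⟨fun x hx => by
    have h1 : IsUnit ((x : D) : S) := hx.map (E.val : E →+* S)
    exact hunitD x h1⟩
  haveI : Module.FaithfullyFlat D E := Module.FaithfullyFlat.of_flat_of_isLocalHom
  -- Step 9: `m_A D = m_D`
  have hm : (maximalIdeal A).map (algebraMap A D) = maximalIdeal D := by
    apply le_antisymm
    · exact ((local_hom_TFAE (algebraMap A D)).out 0 2 rfl rfl).mp inferInstance
    · intro x hx
      have h1 : algebraMap D E x ∈ maximalIdeal E := by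
        rw [mem_maximalIdeal, mem_nonunits_iff]
        intro hu
        exact hx (isUnit_of_map_unit (algebraMap D E) x hu)
      rw [← hmE, IsScalarTower.algebraMap_eq A D E, ← Ideal.map_map] at h1
      have h2 : x ∈ (((maximalIdeal A).map (algebraMap A D)).map (algebraMap D E)).comap
          (algebraMap D E) := h1
      rwa [Ideal.comap_map_eq_self_of_faithfullyFlat] at h2
  exact ⟨hDloc, hDlochom,
    Groth.Agent.Lib.Helper8EssEtSub.isEssentiallyEtale_of_map_maximalIdeal A S D hm⟩

end Part4

section Part5

open IsLocalRing Polynomial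

/-- The preimage in `S` of a subfield of a field over `S` containing the image of `A`. -/
def preimageSubalgebra (A S Ks : Type*) [CommRing A] [CommRing S] [Algebra A S] [Field Ks]
    [Algebra S Ks] (F : Subfield Ks) (hAF : ∀ a : A, algebraMap S Ks (algebraMap A S a) ∈ F) :
    Subalgebra A S where
  carrier := {x | algebraMap S Ks x ∈ F}
  mul_mem' := fun {a b} ha hb => by
    simp only [Set.mem_setOf_eq, map_mul] at ha hb ⊢
    exact F.mul_mem ha hb
  one_mem' := by
    simp only [Set.mem_setOf_eq, map_one]
    exact F.one_mem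
  add_mem' := fun {a b} ha hb => by
    simp only [Set.mem_setOf_eq, map_add] at ha hb ⊢
    exact F.add_mem ha hb
  zero_mem' := by
    simp only [Set.mem_setOf_eq, map_zero]
    exact F.zero_mem
  algebraMap_mem' := hAF

theorem main_16434
    (A S : Type u) [CommRing A] [HenselianLocalRing A] [IsDomain A] [IsNoetherianRing A]
    [CommRing S] [IsLocalRing S] [Algebra A S] [IsLocalHom (algebraMap A S)]
    [Hensel.IsStrictHenselization A S] [IsDomain S] (t : Finset (FractionRing S)) :
    ∃ D : Subalgebra A S, (D : Set S) = (algebraMap S (FractionRing S)) ⁻¹'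
        (Subfield.closure (Set.range (algebraMap A (FractionRing S)) ∪ (t : Set (FractionRing S))) :
          Set (FractionRing S)) ∧
      ∃ _ : IsLocalRing D, IsLocalHom (algebraMap D S) ∧ EGA4loc.IsEssentiallyEtale A D := by
  classical
  let Ks := FractionRing S
  let F : Subfield Ks := Subfield.closure (Set.range (algebraMap A Ks) ∪ (t : Set Ks))
  have hAF : ∀ a : A, algebraMap S Ks (algebraMap A S a) ∈ F := fun a => by
    rw [← IsScalarTower.algebraMap_apply A S Ks]
    exact Subfield.subset_closure (Or.inl ⟨a, rfl⟩)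
  let D : Subalgebra A S := preimageSubalgebra A S Ks F hAF
  refine ⟨D, rfl, ?_⟩
  -- numerators and denominators
  have hnd : ∀ τ : Ks, ∃ p : S × S, p.2 ≠ 0 ∧ τ * algebraMap S Ks p.2 = algebraMap S Ks p.1 := by
    intro τ
    obtain ⟨x, y, hy, rfl⟩ := IsFractionRing.div_surjective (A := S) τ
    have hy0 : y ≠ 0 := nonZeroDivisors.ne_zero hy
    refine ⟨(x, y), hy0, ?_⟩
    rw [div_mul_cancel₀]
    exact fun h0 => hy0 (IsFractionRing.injective S Ks (by rw [h0, map_zero]))
  choose nd hnd1 hnd2 using hnd
  let s : Finset S := t.image (fun τ => (nd τ).1) ∪ t.image (fun τ => (nd τ).2)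
  obtain ⟨E, hsE, ⟨hEloc, hE⟩, hEunit, hEdiv⟩ :=
    Groth.Agent.Lib.Helper8ShStage.exists_stage A S s
  haveI := hEloc
  -- the fraction field of `E` inside `Ks`
  let FE := FractionRing E
  have hES : Function.Injective ((algebraMap S Ks).comp (E.val : E →+* S)) :=
    (IsFractionRing.injective S Ks).comp Subtype.val_injective
  let j : FE →+* Ks := IsFractionRing.lift (K := FE) hES
  have hj : ∀ e : E, j (algebraMap E FE e) = algebraMap S Ks (e : S) := fun e => by
    change IsFractionRing.lift hES (algebraMap E FE e) = _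
    rw [IsFractionRing.lift_algebraMap]
    rfl
  have hFle : F ≤ j.fieldRange := by
    rw [Subfield.closure_le]
    rintro x (⟨a, rfl⟩ | hx)
    · refine ⟨algebraMap E FE (algebraMap A E a), ?_⟩
      rw [hj, IsScalarTower.algebraMap_apply A S Ks]
      rfl
    · have hx' : x ∈ t := hx
      have h1 : (nd x).1 ∈ E := hsE (by
        simp only [s, Finset.coe_union, Finset.coe_image, Set.mem_union, Set.mem_image,
          Finset.mem_coe]
        exact Or.inl ⟨x, hx', rfl⟩)
      have h2 : (nd x).2 ∈ E := hsE (by
        simp only [s, Finset.coe_union, Finset.coe_image, Set.mem_union, Set.mem_image,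
          Finset.mem_coe]
        exact Or.inr ⟨x, hx', rfl⟩)
      refine ⟨algebraMap E FE ⟨_, h1⟩ / algebraMap E FE ⟨_, h2⟩, ?_⟩
      rw [map_div₀, hj, hj, div_eq_iff]
      · exact (hnd2 x).symm
      · exact fun h0 => hnd1 x (IsFractionRing.injective S Ks (by rw [h0, map_zero]))
  have hFE : ∀ x ∈ F, ∃ e₁ e₂ : E, e₂ ≠ 0 ∧
      x * algebraMap S Ks e₂ = algebraMap S Ks e₁ := by
    intro x hx
    obtain ⟨y, rfl⟩ := hFle hx
    obtain ⟨e₁, e₂, he₂, rfl⟩ := IsFractionRing.div_surjective (A := E) y
    have he₂0 : e₂ ≠ 0 := nonZeroDivisors.ne_zero he₂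
    refine ⟨e₁, e₂, he₂0, ?_⟩
    rw [map_div₀, hj, hj, div_mul_cancel₀]
    exact fun h0 => he₂0 (Subtype.ext (IsFractionRing.injective S Ks (by
      rw [h0]
      exact (map_zero (algebraMap S Ks)).symm)))
  exact core A S Ks F E hE hEunit hEdiv hFE D (fun x => Iff.rfl)

end Part5

end Groth.Agent.Lib.R2H1.ShHens
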