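/-
Helper library (helper1, round 2): intermediate rings of quotients S/Q of the strict henselization
of a henselian local ring by primes (EGA IV 18.10-type).  exists_stage_flat (stages E of A^sh with
S flat over E), core' (generalised core: D = F ∩ S₁ finite over A, m_A D = m_D), quotient setup
(henselian_quot, isSepClosed_quot, isSeparable_quot), image_stage, quot_main, main_16440,
main_16446.
-/
import Mathlib
import Groth.Agent.Lib.R2H1ShHens

set_option autoImplicit false
set_option linter.style.haveILetI false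
set_option linter.unusedSectionVars false
universe u

namespace Groth.Agent.Lib.R2H1.ShQuot

section Part1

open IsLocalRing Polynomial Groth.Agent.Lib.Helper3.Sh Groth.Agent.Lib.Helper3.EssEt
  Groth.Agent.Lib.Helper8EssEtSub

/-- Stage subalgebras with faithful flatness: every finite subset of a strict henselization `S`
of `A` lies in an essentially étale local `A`-subalgebra `E` dominated by `S`, with `S` faithfully
flat over `E`. -/
theorem exists_stage_flat (A S : Type u) [CommRing A] [IsLocalRing A] [CommRing S] [IsLocalRing S]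
    [Algebra A S] [IsLocalHom (algebraMap A S)] [hS : Hensel.IsStrictHenselization A S]
    (s : Finset S) :
    ∃ E : Subalgebra A S, (s : Set S) ⊆ (E : Set S) ∧
      (∃ _ : IsLocalRing E, EGA4loc.IsEssentiallyEtale A E) ∧
      (∀ x : E, IsUnit (x : S) → IsUnit x) ∧ Module.Flat E S := by
  classical
  let Ω := SeparableClosure (IsLocalRing.ResidueField A)
  letI : Algebra A Ω :=
    ((algebraMap (IsLocalRing.ResidueField A) Ω).comp (IsLocalRing.residue A)).toAlgebra
  haveI : IsScalarTower A (IsLocalRing.ResidueField A) Ω :=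
    IsScalarTower.of_algebraMap_eq (fun _ => rfl)
  obtain ⟨σ⟩ := nonempty_algEquiv (R := A) (Ω := Ω) S
  let x : Fin s.card → Rsh A Ω := fun k => σ ((s.equivFin.symm k : s) : S)
  obtain ⟨i, x', hx'⟩ := exists_ofL_fin x
  have hinj : Function.Injective (ofL i) := ofL_injective i
  let φ : i.L →ₐ[A] S := (σ.symm : Rsh A Ω →ₐ[A] S).comp (ofLₐ i)
  have hφ : ∀ y : i.L, φ y = σ.symm (ofL i y) := fun y => rfl
  have hφinj : Function.Injective φ := σ.symm.injective.comp hinj
  have hmemE : ∀ z : S, z ∈ φ.range ↔ ∃ y : i.L, φ y = z := fun z => Iff.rfl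
  have hgen : (s : Set S) ⊆ (φ.range : Set S) := by
    intro d hd
    have hd' : d ∈ s := hd
    refine (hmemE d).mpr ⟨x' (s.equivFin ⟨d, hd'⟩), ?_⟩
    rw [hφ, hx']
    simp only [x, Equiv.symm_apply_apply, AlgEquiv.symm_apply_apply]
  have hunit : ∀ y : i.L, IsUnit (φ y) → IsUnit y := by
    intro y hy
    have h1 : IsUnit (σ (φ y)) := hy.map σ
    rw [hφ, AlgEquiv.apply_symm_apply] at h1
    exact isUnit_ofL_iff.mp h1
  let eE : i.L ≃ₐ[A] φ.range := AlgEquiv.ofInjective φ hφinj
  have heE : ∀ y : i.L, ((eE y : φ.range) : S) = φ y := fun y => rfl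
  haveI : IsLocalRing φ.range := eE.toRingEquiv.isLocalRing
  refine ⟨φ.range, hgen, ⟨inferInstance, ?_⟩, ?_, ?_⟩
  · obtain ⟨C, hC1, hC2, q, hq, hEt, hcomap, ⟨e0⟩⟩ := i.isEssentiallyEtale
    exact ⟨C, hC1, hC2, q, hq, hEt, hcomap, ⟨eE.symm.trans e0⟩⟩
  · intro z hz
    obtain ⟨y, hy⟩ := eE.surjective z
    have h1 : IsUnit (φ y) := by rw [← heE, hy]; exact hz
    rw [← hy]
    exact (hunit y h1).map eE
  · rw [← RingHom.flat_algebraMap_iff]
    have h1 : (ofL i).Flat := flat_over_L i
    have h2 : (algebraMap φ.range S) =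
        ((σ.symm : Rsh A Ω →+* S).comp (ofL i)).comp (eE.symm : φ.range →+* i.L) := by
      ext z
      obtain ⟨y, rfl⟩ := eE.surjective z
      simp only [RingHom.comp_apply]
      have : (eE.symm : φ.range →+* i.L) (eE y) = y := eE.symm_apply_apply y
      rw [this]
      rfl
    rw [h2]
    exact RingHom.Flat.comp (RingHom.Flat.of_bijective eE.symm.bijective)
      (RingHom.Flat.comp h1 (RingHom.Flat.of_bijective σ.symm.bijective))

end Part1

section Part2

open IsLocalRing Polynomial Groth.Agent.Lib.R2H1.ShHens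

set_option maxHeartbeats 1600000 in
/-- Generalised core: `A` henselian Noetherian local, `S₁` a strictly henselian local domain over
`A` with separable residue extension, `E ⊆ S₁` a finite local unramified `A`-subalgebra, dominated
by `S₁` and saturated in `S₁`; then for a subfield `F ⊆ Frac E` of `Frac S₁`, `D = F ∩ S₁` is a
finite local `A`-algebra dominated by `S₁`, contained in `E`, with `m_A D = m_D`. -/
theorem core' (A S₁ : Type u) [CommRing A] [hAh : HenselianLocalRing A] [IsNoetherianRing A]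
    [CommRing S₁] [HenselianLocalRing S₁] [IsDomain S₁] [Algebra A S₁]
    [IsLocalHom (algebraMap A S₁)]
    [IsSepClosed (ResidueField S₁)] [Algebra.IsSeparable (ResidueField A) (ResidueField S₁)]
    (Ks : Type u) [Field Ks] [Algebra S₁ Ks] [IsFractionRing S₁ Ks]
    (F : Subfield Ks)
    (E : Subalgebra A S₁) [IsLocalRing E] [Module.Finite A E]
    (hEunit : ∀ x : E, IsUnit (x : S₁) → IsUnit x)
    (hmE : (maximalIdeal A).map (algebraMap A E) = maximalIdeal E)
    (hEsat : ∀ (x : S₁) (e₁ e₂ : E), e₂ ≠ 0 → x * (e₂ : S₁) = (e₁ : S₁) → x ∈ E)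
    (hFE : ∀ x ∈ F, ∃ e₁ e₂ : E, e₂ ≠ 0 ∧ x * algebraMap S₁ Ks e₂ = algebraMap S₁ Ks e₁)
    (D : Subalgebra A S₁) (hD : ∀ x : S₁, x ∈ D ↔ algebraMap S₁ Ks x ∈ F) :
    ∃ _ : IsLocalRing D, IsLocalHom (algebraMap D S₁) ∧ D ≤ E ∧ Module.Finite A D ∧
      (maximalIdeal A).map (algebraMap A D) = maximalIdeal D := by
  classical
  have hι : Function.Injective (algebraMap S₁ Ks) := IsFractionRing.injective S₁ Ks
  -- Step 1: `D` is local, dominated by `S₁`
  have hunitD : ∀ x : D, IsUnit (x : S₁) → IsUnit x := by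
    intro x hx
    obtain ⟨y, hy⟩ := isUnit_iff_exists_inv.mp hx
    have hyD : y ∈ D := by
      rw [hD]
      have h1 : algebraMap S₁ Ks y = (algebraMap S₁ Ks (x : S₁))⁻¹ := by
        apply eq_inv_of_mul_eq_one_right
        rw [← map_mul, hy, map_one]
      rw [h1]
      exact F.inv_mem ((hD _).mp x.2)
    exact isUnit_iff_exists_inv.mpr ⟨⟨y, hyD⟩, Subtype.ext hy⟩
  obtain ⟨hDloc, hDlochom⟩ := Groth.Agent.Lib.R2H1.ShTransfer.isLocalRing_of_isUnit A S₁ D hunitD
  haveI := hDloc
  haveI := hDlochom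
  -- Step 2: `D ≤ E`
  have hDE : D ≤ E := by
    intro x hx
    obtain ⟨e₁, e₂, he₂, he⟩ := hFE _ ((hD x).mp hx)
    have he' : x * (e₂ : S₁) = (e₁ : S₁) := hι (by rw [map_mul]; exact he)
    exact hEsat x e₁ e₂ he₂ he'
  -- Step 3: finiteness
  haveI : Module.Finite A D := Module.Finite.of_injective (Subalgebra.inclusion hDE).toLinearMap
    (Subalgebra.inclusion_injective hDE)
  -- Step 4: local homs
  haveI hAE : IsLocalHom (algebraMap A E) := ⟨fun a ha => by
    have h1 : IsUnit (algebraMap A S₁ a) := ha.map (E.val : E →+* S₁)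
    exact isUnit_of_map_unit (algebraMap A S₁) a h1⟩
  haveI hAD : IsLocalHom (algebraMap A D) := ⟨fun a ha => by
    have h1 : IsUnit (algebraMap A S₁ a) := ha.map (D.val : D →+* S₁)
    exact isUnit_of_map_unit (algebraMap A S₁) a h1⟩
  haveI hES : IsLocalHom (algebraMap E S₁) := ⟨hEunit⟩
  haveI : Algebra.IsSeparable (ResidueField A) (ResidueField E) :=
    Algebra.isSeparable_tower_bot_of_isSeparable (ResidueField A) (ResidueField E)
      (ResidueField S₁)
  -- Step 5: monogenic presentation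
  obtain ⟨θ, f, hfm, hfθ, hfsep, hgen⟩ := exists_monogenic A E hmE
  -- Step 6: `f` splits in `S₁`
  have hfS : (f.map (algebraMap A S₁)).Splits := by
    apply splits_of_henselian S₁ _ (hfm.map _)
    have h1 : (f.map (algebraMap A S₁)).map (residue S₁) =
        (f.map (residue A)).map (algebraMap (ResidueField A) (ResidueField S₁)) := by
      rw [Polynomial.map_map, Polynomial.map_map]
      rfl
    rw [h1]
    exact hfsep.map
  -- Step 7: the minimal polynomial of `θ` over `F` has coefficients in `D`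
  let θK : Ks := algebraMap S₁ Ks (θ : S₁)
  let ιDF : D →+* F := ((algebraMap S₁ Ks).comp (D.val : D →+* S₁)).codRestrict F
    (fun d => (hD _).mp d.2)
  letI algDF : Algebra D F := ιDF.toAlgebra
  haveI : IsScalarTower D F Ks := IsScalarTower.of_algebraMap_eq (fun d => rfl)
  have hDFinj : Function.Injective (algebraMap D F) := by
    intro a b hab
    have h1 := congrArg (fun z : F => (z : Ks)) hab
    exact Subtype.ext (hι h1)
  have hcomp : ((algebraMap F Ks).comp (algebraMap D F)).comp (algebraMap A D) =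
      (algebraMap S₁ Ks).comp (algebraMap A S₁) := RingHom.ext fun a => rfl
  have hfF : aeval θK ((f.map (algebraMap A D)).map (algebraMap D F)) = 0 := by
    rw [aeval_def, Polynomial.eval₂_map, Polynomial.eval₂_map, hcomp, ← Polynomial.eval₂_map]
    have h1 : Polynomial.eval₂ (algebraMap A S₁) (θ : S₁) f = 0 := by
      have h2 : ((eval₂ (algebraMap A E) θ f : E) : S₁) = 0 := by
        have h3 := congrArg (fun z : E => (z : S₁)) hfθ
        simpa [aeval_def] using h3
      rw [← h2]
      exact (Polynomial.hom_eval₂ f (algebraMap A E) (E.val : E →+* S₁) θ).symm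
    rw [Polynomial.eval₂_eq_eval_map] at h1
    change eval₂ (algebraMap S₁ Ks) (algebraMap S₁ Ks (θ : S₁)) _ = 0
    rw [Polynomial.eval₂_at_apply, h1, map_zero]
  have hintF : IsIntegral F θK :=
    ⟨(f.map (algebraMap A D)).map (algebraMap D F), (hfm.map _).map _, hfF⟩
  have hdvd : minpoly F θK ∣ (f.map (algebraMap A D)).map (algebraMap D F) :=
    minpoly.dvd F θK hfF
  have hKmonic : ((minpoly F θK).map (algebraMap F Ks)).Monic := (minpoly.monic hintF).map _
  have hKdvd : (minpoly F θK).map (algebraMap F Ks) ∣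
      (f.map (algebraMap A S₁)).map (algebraMap S₁ Ks) := by
    have h1 := Polynomial.map_dvd (algebraMap F Ks) hdvd
    rw [Polynomial.map_map, Polynomial.map_map, hcomp, ← Polynomial.map_map] at h1
    exact h1
  have hKlifts : (minpoly F θK).map (algebraMap F Ks) ∈ Polynomial.lifts (algebraMap S₁ Ks) :=
    mem_lifts_of_dvd S₁ Ks (algebraMap S₁ Ks) hι _ (hfm.map _) hfS _ hKmonic hKdvd
  obtain ⟨hS', hS'map, -, hS'monic⟩ := lifts_and_natDegree_eq_and_monic hKlifts hKmonic
  have hS'lifts : hS' ∈ Polynomial.lifts (D.val : D →+* S₁) := by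
    rw [Polynomial.lifts_iff_coeff_lifts]
    intro n
    have h1 : hS'.coeff n ∈ D := by
      rw [hD, ← Polynomial.coeff_map, hS'map, Polynomial.coeff_map]
      exact ((minpoly F θK).coeff n).2
    exact ⟨⟨_, h1⟩, rfl⟩
  obtain ⟨hDp, hDpmap, -, hDpmonic⟩ := lifts_and_natDegree_eq_and_monic hS'lifts hS'monic
  have hDmap : hDp.map (algebraMap D F) = minpoly F θK := by
    apply Polynomial.map_injective (algebraMap F Ks) (algebraMap F Ks).injective
    rw [← hS'map, ← hDpmap, Polynomial.map_map, Polynomial.map_map]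
    rfl
  -- Step 8: `E` is free over `D`
  letI algDE : Algebra D E := (Subalgebra.inclusion hDE).toAlgebra
  haveI : IsScalarTower D E Ks := IsScalarTower.of_algebraMap_eq (fun d => rfl)
  haveI : IsScalarTower A D E := IsScalarTower.of_algebraMap_eq (fun a => rfl)
  have hEK : Function.Injective (algebraMap E Ks) := hι.comp Subtype.val_injective
  have hgen' : ∀ e : E, ∃ p : D[X], aeval θ p = e := by
    intro e
    have he : e ∈ Algebra.adjoin A {θ} := by rw [hgen]; trivial
    rw [Algebra.adjoin_singleton_eq_range_aeval] at he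
    obtain ⟨p, hp⟩ := he
    exact ⟨p.map (algebraMap A D), by rw [Polynomial.aeval_map_algebraMap]; exact hp⟩
  obtain ⟨eqv⟩ := exists_adjoinRoot_equiv D E F Ks hDFinj hEK θ hgen' hDp hDpmonic hintF hDmap
  haveI : Module.Free D (AdjoinRoot hDp) := hDpmonic.free_adjoinRoot
  haveI : Module.Free D E := Module.Free.of_equiv eqv.toLinearEquiv
  haveI : IsLocalHom (algebraMap D E) := ⟨fun x hx => by
    have h1 : IsUnit ((x : D) : S₁) := hx.map (E.val : E →+* S₁)
    exact hunitD x h1⟩
  haveI : Module.FaithfullyFlat D E := Module.FaithfullyFlat.of_flat_of_isLocalHom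
  -- Step 9: `m_A D = m_D`
  have hm : (maximalIdeal A).map (algebraMap A D) = maximalIdeal D := by
    apply le_antisymm
    · exact ((local_hom_TFAE (algebraMap A D)).out 0 2 rfl rfl).mp inferInstance
    · intro x hx
      have h1 : algebraMap D E x ∈ maximalIdeal E := by
        rw [mem_maximalIdeal, mem_nonunits_iff]
        intro hu
        exact hx (isUnit_of_map_unit (algebraMap D E) x hu)
      rw [← hmE, IsScalarTower.algebraMap_eq A D E, ← Ideal.map_map] at h1
      have h2 : x ∈ (((maximalIdeal A).map (algebraMap A D)).map (algebraMap D E)).comap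
          (algebraMap D E) := h1
      rwa [Ideal.comap_map_eq_self_of_faithfullyFlat] at h2
  exact ⟨hDloc, hDlochom, hDE, inferInstance, hm⟩

end Part2

section Part3

open IsLocalRing Polynomial Groth.Agent.Lib.R2H1.ShHens

theorem henselian_quot (S : Type*) [CommRing S] [HenselianLocalRing S] (Q : Ideal S)
    [Q.IsPrime] : HenselianLocalRing (S ⧸ Q) := by
  obtain ⟨_, h⟩ := Groth.Agent.Lib.Helper24G0.henselian_of_surjective (Ideal.Quotient.mk Q)
    Ideal.Quotient.mk_surjective
  exact h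

theorem isLocalHom_mk (S : Type*) [CommRing S] [IsLocalRing S] (Q : Ideal S) [hQ : Q.IsPrime] :
    IsLocalHom (Ideal.Quotient.mk Q) := by
  apply isLocalHom_of_le_jacobson_bot
  rw [IsLocalRing.jacobson_eq_maximalIdeal ⊥ bot_ne_top]
  exact IsLocalRing.le_maximalIdeal hQ.ne_top

theorem isLocalHom_algebraMap_quot (A S : Type*) [CommRing A] [CommRing S] [IsLocalRing S]
    [Algebra A S] [IsLocalHom (algebraMap A S)] (Q : Ideal S) [hQ : Q.IsPrime] :
    IsLocalHom (algebraMap A (S ⧸ Q)) := by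
  haveI := isLocalHom_mk S Q
  constructor
  intro a ha
  have h1 : IsUnit (algebraMap A S a) := isUnit_of_map_unit (Ideal.Quotient.mk Q) _ ha
  exact isUnit_of_map_unit (algebraMap A S) a h1

/-- The residue field of `S ⧸ Q` is that of `S`. -/
theorem residue_quot_bijective (S : Type*) [CommRing S] [IsLocalRing S] (Q : Ideal S)
    [hQ : Q.IsPrime] [IsLocalRing (S ⧸ Q)] [IsLocalHom (Ideal.Quotient.mk Q)] :
    Function.Bijective (ResidueField.map (Ideal.Quotient.mk Q)) := by
  refine ⟨RingHom.injective _, ?_⟩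
  intro y
  obtain ⟨y, rfl⟩ := residue_surjective y
  obtain ⟨x, rfl⟩ := Ideal.Quotient.mk_surjective y
  exact ⟨residue S x, ResidueField.map_residue _ x⟩

theorem isSepClosed_quot (S : Type*) [CommRing S] [IsLocalRing S] [IsSepClosed (ResidueField S)]
    (Q : Ideal S) [hQ : Q.IsPrime] [IsLocalRing (S ⧸ Q)] :
    IsSepClosed (ResidueField (S ⧸ Q)) := by
  haveI := isLocalHom_mk S Q
  let e : ResidueField S ≃+* ResidueField (S ⧸ Q) :=
    RingEquiv.ofBijective _ (residue_quot_bijective S Q)
  exact Groth.Agent.Lib.Helper3.Sh.isSepClosed_of_ringEquiv e.symm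

theorem isSeparable_quot (A S : Type*) [CommRing A] [IsLocalRing A] [CommRing S] [IsLocalRing S]
    [Algebra A S] [IsLocalHom (algebraMap A S)]
    [Algebra.IsSeparable (ResidueField A) (ResidueField S)]
    (Q : Ideal S) [hQ : Q.IsPrime] [IsLocalRing (S ⧸ Q)] [IsLocalHom (algebraMap A (S ⧸ Q))] :
    Algebra.IsSeparable (ResidueField A) (ResidueField (S ⧸ Q)) := by
  haveI := isLocalHom_mk S Q
  let e : ResidueField S ≃ₐ[ResidueField A] ResidueField (S ⧸ Q) :=
    AlgEquiv.ofBijective
      { ResidueField.map (Ideal.Quotient.mk Q) with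
        commutes' := fun r => by
          obtain ⟨r, rfl⟩ := residue_surjective r
          rfl }
      (residue_quot_bijective S Q)
  exact AlgEquiv.Algebra.isSeparable e

end Part3

section Part4

open IsLocalRing Polynomial Groth.Agent.Lib.R2H1.ShHens

set_option maxHeartbeats 800000 in
/-- The image in `S ⧸ Q` of a stage `E ⊆ S` such that `Q` is generated by `Q ∩ E`. -/
theorem image_stage (A S : Type u) [CommRing A] [IsLocalRing A] [CommRing S] [IsLocalRing S]
    [Algebra A S] (Q : Ideal S) [hQ : Q.IsPrime]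
    (E : Subalgebra A S) [IsLocalRing E] [Module.Finite A E]
    (hEunit : ∀ x : E, IsUnit (x : S) → IsUnit x)
    (hmE : (maximalIdeal A).map (algebraMap A E) = maximalIdeal E)
    [Module.Flat E S]
    (hQE : Q = (Q.comap (algebraMap E S)).map (algebraMap E S)) :
    ∃ _ : IsLocalRing (E.map (Ideal.Quotient.mkₐ A Q)),
      Module.Finite A (E.map (Ideal.Quotient.mkₐ A Q)) ∧
      (∀ x : E.map (Ideal.Quotient.mkₐ A Q), IsUnit (x : S ⧸ Q) → IsUnit x) ∧
      (maximalIdeal A).map (algebraMap A (E.map (Ideal.Quotient.mkₐ A Q))) =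
        maximalIdeal (E.map (Ideal.Quotient.mkₐ A Q)) ∧
      (∀ (x : S ⧸ Q) (e₁ e₂ : E.map (Ideal.Quotient.mkₐ A Q)), e₂ ≠ 0 →
        x * (e₂ : S ⧸ Q) = (e₁ : S ⧸ Q) → x ∈ E.map (Ideal.Quotient.mkₐ A Q)) := by
  classical
  haveI := isLocalHom_mk S Q
  haveI hES : IsLocalHom (algebraMap E S) := ⟨hEunit⟩
  haveI : Module.FaithfullyFlat E S := Module.FaithfullyFlat.of_flat_of_isLocalHom
  let E₁ : Subalgebra A (S ⧸ Q) := E.map (Ideal.Quotient.mkₐ A Q)
  let π : E →ₐ[A] E₁ := AlgHom.codRestrict ((Ideal.Quotient.mkₐ A Q).comp E.val) E₁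
    (fun e => ⟨e, e.2, rfl⟩)
  have hπ : ∀ e : E, ((π e : E₁) : S ⧸ Q) = Ideal.Quotient.mk Q (e : S) := fun e => rfl
  have hπsurj : Function.Surjective π := by
    rintro ⟨x, e, he, rfl⟩
    exact ⟨⟨e, he⟩, rfl⟩
  haveI : Nontrivial E₁ := ⟨0, 1, fun h => zero_ne_one (congrArg Subtype.val h)⟩
  haveI hloc : IsLocalRing E₁ := IsLocalRing.of_surjective' (π : E →+* E₁) hπsurj
  have hπunit : ∀ e : E, IsUnit ((π e : E₁) : S ⧸ Q) → IsUnit e := by
    intro e he
    rw [hπ] at he
    exact hEunit e (isUnit_of_map_unit (Ideal.Quotient.mk Q) _ he)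
  refine ⟨hloc, Module.Finite.of_surjective π.toLinearMap hπsurj, ?_, ?_, ?_⟩
  · intro x hx
    obtain ⟨e, rfl⟩ := hπsurj x
    exact (hπunit e hx).map π
  · apply le_antisymm
    · rw [Ideal.map_le_iff_le_comap]
      intro a ha
      rw [Ideal.mem_comap, mem_maximalIdeal, mem_nonunits_iff]
      intro hu
      have h1 : algebraMap A E a ∈ maximalIdeal E := by
        rw [← hmE]
        exact Ideal.mem_map_of_mem _ ha
      have h2 : IsUnit (algebraMap A E a) := by
        apply hπunit
        have h3 : π (algebraMap A E a) = algebraMap A E₁ a := π.commutes a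
        rw [h3]
        exact hu.map (E₁.val : E₁ →+* S ⧸ Q)
      exact h1 h2
    · intro x hx
      obtain ⟨e, rfl⟩ := hπsurj x
      have he : e ∈ maximalIdeal E := by
        rw [mem_maximalIdeal, mem_nonunits_iff]
        intro hu
        exact hx (hu.map π)
      rw [← hmE] at he
      have h1 := Ideal.mem_map_of_mem (π : E →+* E₁) he
      rw [Ideal.map_map] at h1
      have h2 : (π : E →+* E₁).comp (algebraMap A E) = algebraMap A E₁ :=
        RingHom.ext fun a => π.commutes a
      rw [h2] at h1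
      exact h1
  · intro x e₁ e₂ he₂ hx
    obtain ⟨x', rfl⟩ := Ideal.Quotient.mk_surjective x
    obtain ⟨e₁', rfl⟩ := hπsurj e₁
    obtain ⟨e₂', rfl⟩ := hπsurj e₂
    rw [hπ, hπ, ← map_mul, Ideal.Quotient.eq] at hx
    let P : Ideal E := Q.comap (algebraMap E S)
    let I : Ideal E := Ideal.span {e₂'} ⊔ P
    have h1 : e₁' ∈ (I.map (algebraMap E S)).comap (algebraMap E S) := by
      rw [Ideal.mem_comap]
      have h2 : algebraMap E S e₁' = x' * (e₂' : S) - (x' * (e₂' : S) - (e₁' : S)) := by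
        rw [sub_sub_cancel]; rfl
      rw [h2]
      apply Ideal.sub_mem
      · apply Ideal.mul_mem_left
        exact Ideal.mem_map_of_mem (algebraMap E S)
          (Ideal.mem_sup_left (Ideal.mem_span_singleton_self e₂'))
      · have h3 : x' * (e₂' : S) - (e₁' : S) ∈ P.map (algebraMap E S) := by
          rw [← hQE]; exact hx
        exact Ideal.map_mono le_sup_right h3
    rw [Ideal.comap_map_eq_self_of_faithfullyFlat] at h1
    obtain ⟨y, hy, z, hz, hyz⟩ := Submodule.mem_sup.mp h1
    obtain ⟨c, rfl⟩ := Ideal.mem_span_singleton'.mp hy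
    have hz0 : Ideal.Quotient.mk Q (z : S) = 0 := Ideal.Quotient.eq_zero_iff_mem.mpr hz
    have h4 : Ideal.Quotient.mk Q (e₁' : S) =
        Ideal.Quotient.mk Q (c : S) * Ideal.Quotient.mk Q (e₂' : S) := by
      rw [← hyz]
      push_cast
      rw [map_add, map_mul, hz0, add_zero]
    have h5 : Ideal.Quotient.mk Q x' * Ideal.Quotient.mk Q (e₂' : S) =
        Ideal.Quotient.mk Q (c : S) * Ideal.Quotient.mk Q (e₂' : S) := by
      rw [← h4, ← map_mul, Ideal.Quotient.eq]
      exact hx
    have h6 : Ideal.Quotient.mk Q (e₂' : S) ≠ 0 := by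
      intro h0
      apply he₂
      exact Subtype.ext h0
    have h7 : Ideal.Quotient.mk Q x' = Ideal.Quotient.mk Q (c : S) := mul_right_cancel₀ h6 h5
    rw [h7]
    exact (π c).2

end Part4

section Part5

open IsLocalRing Polynomial Groth.Agent.Lib.R2H1.ShHens

set_option maxHeartbeats 1600000 in
/-- Main construction: for `A` henselian Noetherian local, `S = A^sh`, `Q` a prime of `S`, `t` a
finite subset of `Frac (S/Q)` and `s₀` a finite subset of `S`, there is a stage `E ⊇ s₀` of `S`
such that `D = A(t) ∩ S/Q` is contained in the image of `E`, finite and formally unramified over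
`A`. -/
theorem quot_main (A S : Type u) [CommRing A] [hAh : HenselianLocalRing A] [IsNoetherianRing A]
    [CommRing S] [IsLocalRing S] [Algebra A S] [IsLocalHom (algebraMap A S)]
    [hS : Hensel.IsStrictHenselization A S] (Q : Ideal S) [hQ : Q.IsPrime]
    (t : Finset (FractionRing (S ⧸ Q))) (s₀ : Finset S) :
    ∃ E : Subalgebra A S, (s₀ : Set S) ⊆ (E : Set S) ∧
      (∃ _ : IsLocalRing E, EGA4loc.IsEssentiallyEtale A E) ∧
      ∃ D : Subalgebra A (S ⧸ Q),
        (D : Set (S ⧸ Q)) = (algebraMap (S ⧸ Q) (FractionRing (S ⧸ Q))) ⁻¹'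
          (Subfield.closure (Set.range (algebraMap A (FractionRing (S ⧸ Q))) ∪
            (t : Set (FractionRing (S ⧸ Q)))) : Set (FractionRing (S ⧸ Q))) ∧
        D ≤ E.map (Ideal.Quotient.mkₐ A Q) ∧ Module.Finite A D ∧
          Algebra.FormallyUnramified A D := by
  classical
  haveI : HenselianLocalRing S := hS.henselian
  haveI := hS.isSepClosure
  haveI : IsSepClosed (ResidueField S) := IsSepClosure.sep_closed (ResidueField A)
  haveI : Algebra.IsSeparable (ResidueField A) (ResidueField S) := IsSepClosure.separable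
  haveI : IsNoetherianRing S := Groth.Agent.Lib.Helper3.HzP.sh_isNoetherianRing A S
  haveI hS₁ : HenselianLocalRing (S ⧸ Q) := henselian_quot S Q
  haveI : IsLocalHom (algebraMap A (S ⧸ Q)) := isLocalHom_algebraMap_quot A S Q
  haveI : IsSepClosed (ResidueField (S ⧸ Q)) := isSepClosed_quot S Q
  haveI : Algebra.IsSeparable (ResidueField A) (ResidueField (S ⧸ Q)) := isSeparable_quot A S Q
  let Ks := FractionRing (S ⧸ Q)
  let F : Subfield Ks := Subfield.closure (Set.range (algebraMap A Ks) ∪ (t : Set Ks))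
  have hAF : ∀ a : A, algebraMap (S ⧸ Q) Ks (algebraMap A (S ⧸ Q) a) ∈ F := fun a => by
    rw [← IsScalarTower.algebraMap_apply A (S ⧸ Q) Ks]
    exact Subfield.subset_closure (Or.inl ⟨a, rfl⟩)
  let D : Subalgebra A (S ⧸ Q) := preimageSubalgebra A (S ⧸ Q) Ks F hAF
  -- numerators and denominators, lifted to `S`
  have hnd : ∀ τ : Ks, ∃ p : S × S, Ideal.Quotient.mk Q p.2 ≠ 0 ∧
      τ * algebraMap (S ⧸ Q) Ks (Ideal.Quotient.mk Q p.2) =
        algebraMap (S ⧸ Q) Ks (Ideal.Quotient.mk Q p.1) := by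
    intro τ
    obtain ⟨x, y, hy, rfl⟩ := IsFractionRing.div_surjective (A := S ⧸ Q) τ
    have hy0 : y ≠ 0 := nonZeroDivisors.ne_zero hy
    obtain ⟨x', rfl⟩ := Ideal.Quotient.mk_surjective x
    obtain ⟨y', rfl⟩ := Ideal.Quotient.mk_surjective y
    refine ⟨(x', y'), hy0, ?_⟩
    rw [div_mul_cancel₀]
    exact fun h0 => hy0 (IsFractionRing.injective (S ⧸ Q) Ks (by rw [h0, map_zero]))
  choose nd hnd1 hnd2 using hnd
  obtain ⟨g, hg⟩ : ∃ g : Finset S, Ideal.span (g : Set S) = Q :=
    (isNoetherianRing_iff_ideal_fg S).mp inferInstance Q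
  let s : Finset S := s₀ ∪ g ∪ (t.image (fun τ => (nd τ).1) ∪ t.image (fun τ => (nd τ).2))
  obtain ⟨E, hsE, ⟨hEloc, hE⟩, hEunit, hEflat⟩ := exists_stage_flat A S s
  haveI := hEloc
  haveI := hEflat
  obtain ⟨hfin, -, -⟩ := Groth.Agent.Lib.R2H1.EssEtFin.finite_flat_unram A E hAh hE
  haveI := hfin
  haveI hAE : IsLocalHom (algebraMap A E) := ⟨fun a ha => by
    have h1 : IsUnit (algebraMap A S a) := ha.map (E.val : E →+* S)
    exact isUnit_of_map_unit (algebraMap A S) a h1⟩
  have hmE := Groth.Agent.Lib.Helper3.EssEt.map_maximalIdeal A E hE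
  have hQE : Q = (Q.comap (algebraMap E S)).map (algebraMap E S) := by
    apply le_antisymm
    · have h0 : Ideal.span (g : Set S) ≤ (Q.comap (algebraMap E S)).map (algebraMap E S) := by
        rw [Ideal.span_le]
        intro x hx
        have hxE : x ∈ E := hsE (by
          simp only [s, Finset.coe_union, Set.mem_union, Finset.mem_coe]
          exact Or.inl (Or.inr hx))
        have hxQ : x ∈ Q := by rw [← hg]; exact Ideal.subset_span hx
        have h1 : (⟨x, hxE⟩ : E) ∈ Q.comap (algebraMap E S) := hxQ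
        exact Ideal.mem_map_of_mem (algebraMap E S) h1
      rw [hg] at h0
      exact h0
    · exact Ideal.map_comap_le
  obtain ⟨hloc₁, hfin₁, hunit₁, hm₁, hsat₁⟩ := image_stage A S Q E hEunit hmE hQE
  haveI := hloc₁
  haveI := hfin₁
  let E₁ : Subalgebra A (S ⧸ Q) := E.map (Ideal.Quotient.mkₐ A Q)
  have hmemE₁ : ∀ x : S, x ∈ E → Ideal.Quotient.mk Q x ∈ E₁ := fun x hx => ⟨x, hx, rfl⟩
  -- the fraction field of `E₁` inside `Ks`
  let FE := FractionRing E₁
  have hES : Function.Injective ((algebraMap (S ⧸ Q) Ks).comp (E₁.val : E₁ →+* S ⧸ Q)) :=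
    (IsFractionRing.injective (S ⧸ Q) Ks).comp Subtype.val_injective
  let j : FE →+* Ks := IsFractionRing.lift (K := FE) hES
  have hj : ∀ e : E₁, j (algebraMap E₁ FE e) = algebraMap (S ⧸ Q) Ks (e : S ⧸ Q) := fun e => by
    change IsFractionRing.lift hES (algebraMap E₁ FE e) = _
    rw [IsFractionRing.lift_algebraMap]
    rfl
  have hFle : F ≤ j.fieldRange := by
    rw [Subfield.closure_le]
    rintro x (⟨a, rfl⟩ | hx)
    · refine ⟨algebraMap E₁ FE (algebraMap A E₁ a), ?_⟩
      rw [hj, IsScalarTower.algebraMap_apply A (S ⧸ Q) Ks]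
      rfl
    · have hx' : x ∈ t := hx
      have h1 : Ideal.Quotient.mk Q (nd x).1 ∈ E₁ := hmemE₁ _ (hsE (by
        simp only [s, Finset.coe_union, Finset.coe_image, Set.mem_union, Set.mem_image,
          Finset.mem_coe]
        exact Or.inr (Or.inl ⟨x, hx', rfl⟩)))
      have h2 : Ideal.Quotient.mk Q (nd x).2 ∈ E₁ := hmemE₁ _ (hsE (by
        simp only [s, Finset.coe_union, Finset.coe_image, Set.mem_union, Set.mem_image,
          Finset.mem_coe]
        exact Or.inr (Or.inr ⟨x, hx', rfl⟩)))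
      refine ⟨algebraMap E₁ FE ⟨_, h1⟩ / algebraMap E₁ FE ⟨_, h2⟩, ?_⟩
      rw [map_div₀, hj, hj, div_eq_iff]
      · exact (hnd2 x).symm
      · exact fun h0 => hnd1 x (IsFractionRing.injective (S ⧸ Q) Ks (by rw [h0, map_zero]))
  have hFE : ∀ x ∈ F, ∃ e₁ e₂ : E₁, e₂ ≠ 0 ∧
      x * algebraMap (S ⧸ Q) Ks e₂ = algebraMap (S ⧸ Q) Ks e₁ := by
    intro x hx
    obtain ⟨y, rfl⟩ := hFle hx
    obtain ⟨e₁, e₂, he₂, rfl⟩ := IsFractionRing.div_surjective (A := E₁) y
    have he₂0 : e₂ ≠ 0 := nonZeroDivisors.ne_zero he₂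
    refine ⟨e₁, e₂, he₂0, ?_⟩
    rw [map_div₀, hj, hj, div_mul_cancel₀]
    exact fun h0 => he₂0 (Subtype.ext (IsFractionRing.injective (S ⧸ Q) Ks (by
      rw [h0]
      exact (map_zero (algebraMap (S ⧸ Q) Ks)).symm)))
  obtain ⟨hDloc, hDlochom, hDE, hDfin, hmD⟩ :=
    core' A (S ⧸ Q) Ks F E₁ hunit₁ hm₁ hsat₁ hFE D (fun x => Iff.rfl)
  haveI := hDloc
  haveI := hDlochom
  haveI hAD : IsLocalHom (algebraMap A D) := ⟨fun a ha => by
    have h1 : IsUnit (algebraMap A (S ⧸ Q) a) := ha.map (D.val : D →+* S ⧸ Q)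
    exact isUnit_of_map_unit (algebraMap A (S ⧸ Q)) a h1⟩
  haveI : Algebra.IsSeparable (ResidueField A) (ResidueField D) :=
    Algebra.isSeparable_tower_bot_of_isSeparable (ResidueField A) (ResidueField D)
      (ResidueField (S ⧸ Q))
  refine ⟨E, fun x hx => hsE (by
      simp only [s, Finset.coe_union, Set.mem_union, Finset.mem_coe]
      exact Or.inl (Or.inl hx)), ⟨hEloc, hE⟩, D, rfl, hDE, hDfin, ?_⟩
  exact Algebra.FormallyUnramified.of_map_maximalIdeal hmD

end Part5

section Part6

open IsLocalRing Polynomial Groth.Agent.Lib.R2H1.ShHens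

theorem main_16440
    (A S : Type u) [CommRing A] [HenselianLocalRing A] [IsNoetherianRing A]
    [CommRing S] [IsLocalRing S] [Algebra A S] [IsLocalHom (algebraMap A S)]
    [Hensel.IsStrictHenselization A S] (Q : Ideal S) [Q.IsPrime]
    (t : Finset (FractionRing (S ⧸ Q))) :
    ∃ D' : Subalgebra A (S ⧸ Q), (D' : Set (S ⧸ Q)) = (algebraMap (S ⧸ Q) (FractionRing (S ⧸ Q))) ⁻¹'
        (Subfield.closure (Set.range (algebraMap A (FractionRing (S ⧸ Q))) ∪
          (t : Set (FractionRing (S ⧸ Q)))) : Set (FractionRing (S ⧸ Q))) ∧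
      Module.Finite A D' ∧ Algebra.FormallyUnramified A D' := by
  obtain ⟨E, -, -, D, hD, -, hfin, hunr⟩ := quot_main A S Q t ∅
  exact ⟨D, hD, hfin, hunr⟩

theorem main_16446
    (A S : Type u) [CommRing A] [HenselianLocalRing A] [IsNoetherianRing A]
    [CommRing S] [IsLocalRing S] [Algebra A S] [IsLocalHom (algebraMap A S)]
    [Hensel.IsStrictHenselization A S] (Q : Ideal S) [Q.IsPrime]
    (t : Finset (FractionRing (S ⧸ Q))) :
    ∃ E : Subalgebra A S, ∃ _ : IsLocalRing E, EGA4loc.IsEssentiallyEtale A E ∧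
      (∀ Q' ∈ ((Q.comap (algebraMap A S)).map (algebraMap A S)).minimalPrimes,
        Q' = Ideal.map (algebraMap E S) (Q'.comap (algebraMap E S))) ∧
      ∀ x : S, algebraMap (S ⧸ Q) (FractionRing (S ⧸ Q)) (Ideal.Quotient.mk Q x) ∈
          Subfield.closure (Set.range (algebraMap A (FractionRing (S ⧸ Q))) ∪
            (t : Set (FractionRing (S ⧸ Q)))) →
        ∃ e ∈ E, Ideal.Quotient.mk Q e = Ideal.Quotient.mk Q x := by
  classical
  haveI : IsNoetherianRing S := Groth.Agent.Lib.Helper3.HzP.sh_isNoetherianRing A S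
  let I : Ideal S := (Q.comap (algebraMap A S)).map (algebraMap A S)
  have hfinI : I.minimalPrimes.Finite := Ideal.finite_minimalPrimes_of_isNoetherianRing S I
  have hgen : ∀ J : Ideal S, ∃ g : Finset S, Ideal.span (g : Set S) = J := fun J =>
    (isNoetherianRing_iff_ideal_fg S).mp inferInstance J
  choose gen hgen' using hgen
  let s₀ : Finset S := hfinI.toFinset.biUnion gen
  obtain ⟨E, hs₀E, ⟨hEloc, hE⟩, D, hD, hDE, -, -⟩ := quot_main A S Q t s₀
  refine ⟨E, hEloc, hE, ?_, ?_⟩
  · intro Q' hQ'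
    apply le_antisymm
    · have h0 : Ideal.span (gen Q' : Set S) ≤
          (Q'.comap (algebraMap E S)).map (algebraMap E S) := by
        rw [Ideal.span_le]
        intro x hx
        have hxE : x ∈ E := hs₀E (by
          simp only [s₀, Finset.coe_biUnion, Set.mem_iUnion, Finset.mem_coe]
          exact ⟨Q', hfinI.mem_toFinset.mpr hQ', hx⟩)
        have hxQ : x ∈ Q' := by rw [← hgen' Q']; exact Ideal.subset_span hx
        have h1 : (⟨x, hxE⟩ : E) ∈ Q'.comap (algebraMap E S) := hxQ
        exact Ideal.mem_map_of_mem (algebraMap E S) h1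
      rw [hgen' Q'] at h0
      exact h0
    · exact Ideal.map_comap_le
  · intro x hx
    have hxD : Ideal.Quotient.mk Q x ∈ D := by
      have : Ideal.Quotient.mk Q x ∈ (D : Set (S ⧸ Q)) := by rw [hD]; exact hx
      exact this
    obtain ⟨e, he, hex⟩ := hDE hxD
    exact ⟨e, he, hex⟩

end Part6

end Groth.Agent.Lib.R2H1.ShQuot
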