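/-
Henselization and smooth maps with purely inseparable residue extension (helper1, R2): isLocalRing_tensor' (N integral local, B local with purely insep residue ext => N ⊗ B local), core_h/main_h (R henselian local domain, R' smooth, p over m_R with purely insep residue ext => R'_p unibranch domain), quot_unibranch_h, isPrime_map/flat/encard_eq for henselizations, main_2130 (S2130).
-/
import Mathlib
import Groth.Agent.Lib.Helper3GeomUnibranch
import Groth.Agent.Lib.Helper4Unibranch
import Groth.Agent.Lib.R2H1SmUnibranch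
import Groth.Agent.Lib.R2H1ShQuot
import Groth.Agent.Lib.Helper3ShQuot
import Groth.Agent.Lib.Helper3HzTensor
import Groth.Agent.Lib.Helper3Unibranch
import Groth.Agent.S13598
import Groth.Agent.S2749

set_option autoImplicit false
set_option linter.style.haveILetI false
set_option linter.unusedSectionVars false
universe u

namespace Groth.Agent.Lib.R2H1.HzSmooth

open IsLocalRing TensorProduct Algebra.TensorProduct

section Part1

open Groth.Agent.Lib.Helper3

section H1
variable {A N B : Type*} [CommRing A] [CommRing N] [CommRing B] [Algebra A N] [Algebra A B]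
  [IsLocalRing A] [IsLocalRing N] [IsLocalRing B] [IsLocalHom (algebraMap A B)]
  [Algebra.IsIntegral A N]
variable (q : ℕ) [ExpChar (ResidueField B) q]

theorem expChar_quotient' [Nontrivial (N ⊗[A] B)] :
    ExpChar ((N ⊗[A] B) ⧸ TensorLocal.K A N B) q := by
  haveI : Nontrivial ((N ⊗[A] B) ⧸ TensorLocal.K A N B) :=
    Ideal.Quotient.nontrivial_iff.mpr TensorLocal.K_ne_top
  let f : ResidueField B →+* (N ⊗[A] B) ⧸ TensorLocal.K A N B :=
    Ideal.Quotient.lift (maximalIdeal B)
      ((Ideal.Quotient.mk (TensorLocal.K A N B)).comp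
        (includeRight : B →ₐ[A] N ⊗[A] B).toRingHom)
      (fun b hb => by
        rw [RingHom.comp_apply, Ideal.Quotient.eq_zero_iff_mem]
        exact Ideal.mem_map_of_mem _ hb)
  exact expChar_of_injective_ringHom f.injective q

/-- Frobenius-power reduction to `N`. -/
theorem exists_pow_eq' [Nontrivial (N ⊗[A] B)]
    (hpi : ∀ b : B, ∃ (n : ℕ) (a : A), b ^ q ^ n - algebraMap A B a ∈ maximalIdeal B)
    (c : N ⊗[A] B) : ∃ (n : ℕ) (x : N),
      (Ideal.Quotient.mk (TensorLocal.K A N B) c) ^ q ^ n =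
        Ideal.Quotient.mk (TensorLocal.K A N B) (x ⊗ₜ[A] (1 : B)) := by
  haveI := expChar_quotient' (A := A) (N := N) (B := B) q
  induction c with
  | zero =>
    refine ⟨0, 0, ?_⟩
    simp
  | tmul x b =>
    obtain ⟨n, a, ha⟩ := hpi b
    refine ⟨n, a • x ^ q ^ n, ?_⟩
    rw [← map_pow, Ideal.Quotient.mk_eq_mk_iff_sub_mem]
    have e1 : (x ⊗ₜ[A] b) ^ q ^ n =
        ((x ^ q ^ n) ⊗ₜ[A] (1 : B)) * ((1 : N) ⊗ₜ[A] (b ^ q ^ n)) := by
      rw [Algebra.TensorProduct.tmul_pow, Algebra.TensorProduct.tmul_mul_tmul, mul_one, one_mul]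
    have e2 : (a • x ^ q ^ n) ⊗ₜ[A] (1 : B) =
        ((x ^ q ^ n) ⊗ₜ[A] (1 : B)) * ((1 : N) ⊗ₜ[A] (algebraMap A B a)) := by
      rw [Algebra.TensorProduct.tmul_mul_tmul, mul_one, one_mul, Algebra.algebraMap_eq_smul_one,
        TensorProduct.smul_tmul]
    have e3 : (x ⊗ₜ[A] b) ^ q ^ n - (a • x ^ q ^ n) ⊗ₜ[A] (1 : B) =
        ((x ^ q ^ n) ⊗ₜ[A] (1 : B)) * ((1 : N) ⊗ₜ[A] (b ^ q ^ n - algebraMap A B a)) := by
      rw [e1, e2, ← mul_sub, ← TensorProduct.tmul_sub]
    rw [e3]
    exact Ideal.mul_mem_left _ _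
      (Ideal.mem_map_of_mem (includeRight : B →ₐ[A] N ⊗[A] B).toRingHom ha)
  | add x y hx hy =>
    obtain ⟨n₁, s₁, h₁⟩ := hx
    obtain ⟨n₂, s₂, h₂⟩ := hy
    refine ⟨n₁ + n₂, s₁ ^ q ^ n₂ + s₂ ^ q ^ n₁, ?_⟩
    rw [map_add, add_pow_expChar_pow]
    have e1 : (Ideal.Quotient.mk (TensorLocal.K A N B) x) ^ q ^ (n₁ + n₂)
        = Ideal.Quotient.mk (TensorLocal.K A N B) ((s₁ ^ q ^ n₂) ⊗ₜ[A] (1 : B)) := by
      rw [pow_add, pow_mul, h₁, ← map_pow, Algebra.TensorProduct.tmul_pow, one_pow]
    have e2 : (Ideal.Quotient.mk (TensorLocal.K A N B) y) ^ q ^ (n₁ + n₂)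
        = Ideal.Quotient.mk (TensorLocal.K A N B) ((s₂ ^ q ^ n₁) ⊗ₜ[A] (1 : B)) := by
      rw [add_comm n₁ n₂, pow_add, pow_mul, h₂, ← map_pow, Algebra.TensorProduct.tmul_pow,
        one_pow]
    rw [e1, e2, ← map_add, ← TensorProduct.add_tmul]

/-- **Locality of `N ⊗ B`** for `N` integral local and `B` local with purely inseparable residue
field extension over `A`. -/
theorem isLocalRing_tensor' [Nontrivial (N ⊗[A] B)]
    (hpi : ∀ b : B, ∃ (n : ℕ) (a : A), b ^ q ^ n - algebraMap A B a ∈ maximalIdeal B) :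
    IsLocalRing (N ⊗[A] B) := by
  refine IsLocalRing.of_isUnit_or_isUnit_one_sub_self fun c => ?_
  obtain ⟨n, x, hnx⟩ := exists_pow_eq' q hpi c
  rw [← map_pow, Ideal.Quotient.mk_eq_mk_iff_sub_mem] at hnx
  have hjac := TensorLocal.K_le_jacobson (A := A) (B := N) (S := B) hnx
  have hpos : q ^ n ≠ 0 := pow_ne_zero _ (expChar_pos (ResidueField B) q).ne'
  by_cases hx : IsUnit x
  · left
    have hu : IsUnit (x ⊗ₜ[A] (1 : B)) := hx.map (includeLeftRingHom : N →+* N ⊗[A] B)
    have h2 : IsUnit (c ^ q ^ n) := by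
      obtain ⟨u, hu'⟩ := hu
      have h3 : c ^ q ^ n * ((u⁻¹ : (N ⊗[A] B)ˣ) : N ⊗[A] B) - 1
          ∈ Ideal.jacobson (⊥ : Ideal (N ⊗[A] B)) := by
        have : c ^ q ^ n * ((u⁻¹ : (N ⊗[A] B)ˣ) : N ⊗[A] B) - 1
            = (c ^ q ^ n - x ⊗ₜ[A] (1 : B)) * ((u⁻¹ : (N ⊗[A] B)ˣ) : N ⊗[A] B) := by
          rw [sub_mul, ← hu', Units.mul_inv]
        rw [this]
        exact Ideal.mul_mem_right _ _ hjac
      have h4 := Ideal.isUnit_of_sub_one_mem_jacobson_bot _ h3
      exact isUnit_of_mul_isUnit_left h4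
    exact (isUnit_pow_iff hpos).mp h2
  · right
    have hxm : x ∈ maximalIdeal N := hx
    have hc : c ∈ Ideal.jacobson (⊥ : Ideal (N ⊗[A] B)) := by
      rw [Ideal.jacobson, Ideal.mem_sInf]
      rintro M ⟨-, hM⟩
      haveI := hM
      have h1 : x ⊗ₜ[A] (1 : B) ∈ M := by
        apply TensorPI.J_le_of_isMaximal (A := A) (B := N) (S := B) M
        exact Ideal.mem_map_of_mem (includeLeftRingHom : N →+* N ⊗[A] B) hxm
      have h2 : c ^ q ^ n - x ⊗ₜ[A] (1 : B) ∈ M := TensorLocal.K_le_of_isMaximal M hnx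
      have h3 : c ^ q ^ n ∈ M := by
        have := M.add_mem h2 h1
        simpa using this
      exact Ideal.IsPrime.mem_of_pow_mem hM.isPrime _ h3
    apply Ideal.isUnit_of_sub_one_mem_jacobson_bot
    have : 1 - c - 1 = -c := by ring
    rw [this]
    exact neg_mem hc

end H1

section Transport
open Groth.Agent.Lib.Helper4.Unibranch Groth.Agent.Lib.Helper4.Branches

theorem isUnibranch_of_ringEquiv {A B : Type u} [CommRing A] [CommRing B] [IsLocalRing A]
    [IsLocalRing B] (e : A ≃+* B) (h : CAlg2.IsUnibranch A) : CAlg2.IsUnibranch B := by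
  have hnil : nilradical B = (nilradical A).map (e : A →+* B) := by
    ext b
    rw [Ideal.mem_map_iff_of_surjective (e : A →+* B) e.surjective]
    constructor
    · intro hb
      refine ⟨e.symm b, ?_, e.apply_symm_apply b⟩
      exact (mem_nilradical.mp hb).map e.symm
    · rintro ⟨a, ha, rfl⟩
      exact (mem_nilradical.mp ha).map e
  let ρ : CAlg2.red A ≃+* CAlg2.red B := Ideal.quotientEquiv _ _ e hnil
  let Ψ : CAlg2.normRed B ≃+* CAlg2.normRed A := normalizationEquiv ρ.symm
  rw [isUnibranch_iff_of_ringEquiv B Ψ]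
  exact ⟨ρ.toMulEquiv.isDomain_iff.mp h.1, h.2⟩

end Transport

end Part1

section Part2

open Groth.Agent.Lib.Helper3 Groth.Agent.Lib.R2H1.SmUnibranch

section H2
variable (R R' : Type u) [CommRing R] [IsDomain R] [HenselianLocalRing R]
  [CommRing R'] [Algebra R R'] [Algebra.Smooth R R'] (p : Ideal R') [p.IsPrime]
  (N : Type u) [CommRing N] [IsDomain N] [IsIntegrallyClosed N] [Algebra R N]
  [Algebra.IsIntegral R N]

attribute [local instance] Algebra.TensorProduct.rightAlgebra in
set_option maxHeartbeats 1600000 in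
theorem core_h (q : ℕ) [ExpChar (ResidueField R) q]
    (hp : (maximalIdeal R).map (algebraMap R R') ≤ p)
    (hinj : Function.Injective (algebraMap R N))
    (hfrac : ∀ n : N, ∃ r : R, r ≠ 0 ∧ ∃ a : R, algebraMap R N r * n = algebraMap R N a)
    (hpi : ∀ b : Localization.AtPrime p, ∃ (n : ℕ) (a : R),
      b ^ q ^ n - algebraMap R (Localization.AtPrime p) a ∈
        maximalIdeal (Localization.AtPrime p)) :
    IsDomain (Localization.AtPrime p) ∧ CAlg2.IsUnibranch (Localization.AtPrime p) := by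
  haveI : IsLocalRing N :=
    Groth.Agent.Lib.Helper7.GeomInt.isLocalRing_of_isIntegral_of_isDomain R N
  haveI : IsLocalHom (algebraMap R N) := isLocalHom_N R N hinj
  haveI : IsLocalHom (algebraMap R (Localization.AtPrime p)) := isLocalHom_B R R' p hp
  haveI : ExpChar (ResidueField (Localization.AtPrime p)) q :=
    expChar_of_injective_ringHom
      (f := IsLocalRing.ResidueField.map (algebraMap R (Localization.AtPrime p)))
      (RingHom.injective _) q
  have hιinj : Function.Injective (algebraMap (Localization.AtPrime p)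
      (N ⊗[R] Localization.AtPrime p)) :=
    Algebra.TensorProduct.includeRight_injective hinj
  haveI : Nontrivial (N ⊗[R] Localization.AtPrime p) := hιinj.nontrivial
  haveI hTloc : IsLocalRing (N ⊗[R] Localization.AtPrime p) := isLocalRing_tensor' q hpi
  obtain ⟨hTd, hTic⟩ := normal_T R R' p N
  haveI := hTd
  haveI := hTic
  have hιapp : ∀ b : Localization.AtPrime p,
      algebraMap (Localization.AtPrime p) (N ⊗[R] Localization.AtPrime p) b = (1 : N) ⊗ₜ[R] b :=
    fun b => rfl
  haveI hBd : IsDomain (Localization.AtPrime p) := hιinj.isDomain _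
  refine ⟨hBd, ?_⟩
  haveI : Module.FaithfullyFlat R (Localization.AtPrime p) :=
    Module.FaithfullyFlat.of_flat_of_isLocalHom
  have hRB : Function.Injective (algebraMap R (Localization.AtPrime p)) :=
    FaithfulSMul.algebraMap_injective R _
  -- clearing denominators
  have hclear : ∀ t : N ⊗[R] Localization.AtPrime p, ∃ r : R, r ≠ 0 ∧
      ∃ b : Localization.AtPrime p,
        algebraMap (Localization.AtPrime p) (N ⊗[R] Localization.AtPrime p)
          (algebraMap R (Localization.AtPrime p) r) * t =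
        algebraMap (Localization.AtPrime p) (N ⊗[R] Localization.AtPrime p) b := by
    intro t
    induction t using TensorProduct.induction_on with
    | zero => exact ⟨1, one_ne_zero, 0, by simp⟩
    | tmul n b =>
      obtain ⟨r, hr, a, ha⟩ := hfrac n
      refine ⟨r, hr, algebraMap R (Localization.AtPrime p) a * b, ?_⟩
      rw [hιapp, hιapp, Algebra.TensorProduct.tmul_mul_tmul, one_mul,
        Algebra.algebraMap_eq_smul_one, smul_mul_assoc, one_mul,
        Algebra.algebraMap_eq_smul_one, smul_mul_assoc, one_mul, ← TensorProduct.smul_tmul,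
        ← TensorProduct.smul_tmul, Algebra.smul_def, ha, Algebra.smul_def, mul_one]
    | add x y hx hy =>
      obtain ⟨r₁, hr₁, b₁, h₁⟩ := hx
      obtain ⟨r₂, hr₂, b₂, h₂⟩ := hy
      refine ⟨r₁ * r₂, mul_ne_zero hr₁ hr₂,
        algebraMap R (Localization.AtPrime p) r₂ * b₁ +
          algebraMap R (Localization.AtPrime p) r₁ * b₂, ?_⟩
      rw [map_mul, map_mul, mul_add, map_add, map_mul, map_mul, ← h₁, ← h₂]
      ring
  -- the fraction field
  have hTK : Function.Injective (algebraMap (N ⊗[R] Localization.AtPrime p)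
      (FractionRing (N ⊗[R] Localization.AtPrime p))) := IsFractionRing.injective _ _
  haveI : FaithfulSMul (Localization.AtPrime p) (FractionRing (N ⊗[R] Localization.AtPrime p)) :=
    (faithfulSMul_iff_algebraMap_injective _ _).mpr (by
      rw [IsScalarTower.algebraMap_eq (Localization.AtPrime p) (N ⊗[R] Localization.AtPrime p)
        (FractionRing (N ⊗[R] Localization.AtPrime p))]
      exact hTK.comp hιinj)
  haveI : IsFractionRing (Localization.AtPrime p) (FractionRing (N ⊗[R] Localization.AtPrime p)) := by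
    apply IsFractionRing.of_field
    intro z
    obtain ⟨t₁, t₂, ht₂, rfl⟩ := IsFractionRing.div_surjective (A := N ⊗[R] Localization.AtPrime p) z
    obtain ⟨r₁, hr₁, b₁, h₁⟩ := hclear t₁
    obtain ⟨r₂, hr₂, b₂, h₂⟩ := hclear t₂
    refine ⟨b₁ * algebraMap R (Localization.AtPrime p) r₂,
      b₂ * algebraMap R (Localization.AtPrime p) r₁, ?_⟩
    have ht₂0 : algebraMap (N ⊗[R] Localization.AtPrime p)
        (FractionRing (N ⊗[R] Localization.AtPrime p)) t₂ ≠ 0 := by
      intro h
      exact nonZeroDivisors.ne_zero ht₂ (hTK (by rw [h, map_zero]))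
    have hc : ∀ r : R, r ≠ 0 → algebraMap (Localization.AtPrime p)
        (FractionRing (N ⊗[R] Localization.AtPrime p))
        (algebraMap R (Localization.AtPrime p) r) ≠ 0 := by
      intro r hr h
      apply hr
      apply hRB
      apply FaithfulSMul.algebraMap_injective (Localization.AtPrime p)
        (FractionRing (N ⊗[R] Localization.AtPrime p))
      rw [h, map_zero, map_zero]
    have e₁ := congrArg (algebraMap (N ⊗[R] Localization.AtPrime p)
      (FractionRing (N ⊗[R] Localization.AtPrime p))) h₁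
    have e₂ := congrArg (algebraMap (N ⊗[R] Localization.AtPrime p)
      (FractionRing (N ⊗[R] Localization.AtPrime p))) h₂
    rw [map_mul, ← IsScalarTower.algebraMap_apply (Localization.AtPrime p),
      ← IsScalarTower.algebraMap_apply (Localization.AtPrime p)] at e₁ e₂
    have hb₂ : algebraMap (Localization.AtPrime p)
        (FractionRing (N ⊗[R] Localization.AtPrime p)) b₂ ≠ 0 := by
      rw [← e₂]
      exact mul_ne_zero (hc r₂ hr₂) ht₂0
    have hρ₁ := hc r₁ hr₁
    have hρ₂ := hc r₂ hr₂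
    rw [map_mul, map_mul, ← e₁, ← e₂]
    field_simp
  -- integrality
  have hint : Algebra.IsIntegral (Localization.AtPrime p) (N ⊗[R] Localization.AtPrime p) := by
    constructor
    intro t
    induction t using TensorProduct.induction_on with
    | zero => exact isIntegral_zero
    | tmul n b =>
      have h1 : n ⊗ₜ[R] b = (n ⊗ₜ[R] (1 : Localization.AtPrime p)) *
          algebraMap (Localization.AtPrime p) (N ⊗[R] Localization.AtPrime p) b := by
        rw [hιapp, Algebra.TensorProduct.tmul_mul_tmul, mul_one, one_mul]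
      rw [h1]
      refine IsIntegral.mul ?_ isIntegral_algebraMap
      have h2 : IsIntegral R n := Algebra.IsIntegral.isIntegral n
      exact h2.map_of_comp_eq (algebraMap R (Localization.AtPrime p))
        (Algebra.TensorProduct.includeLeft (R := R) (S := R) (A := N)
          (B := Localization.AtPrime p)).toRingHom (by
          ext r
          simp only [RingHom.comp_apply, AlgHom.toRingHom_eq_coe, RingHom.coe_coe,
            Algebra.TensorProduct.includeLeft_apply]
          rw [hιapp, Algebra.algebraMap_eq_smul_one, Algebra.algebraMap_eq_smul_one (R := R) (A := N),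
            TensorProduct.smul_tmul])
    | add x y hx hy => exact hx.add hy
  -- the isomorphism with the integral closure
  let f : N ⊗[R] Localization.AtPrime p →ₐ[Localization.AtPrime p]
      integralClosure (Localization.AtPrime p) (FractionRing (N ⊗[R] Localization.AtPrime p)) :=
    (IsScalarTower.toAlgHom (Localization.AtPrime p) (N ⊗[R] Localization.AtPrime p)
      (FractionRing (N ⊗[R] Localization.AtPrime p))).codRestrict _
      (fun t => (Algebra.IsIntegral.isIntegral (R := Localization.AtPrime p) t).algebraMap)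
  have hfbij : Function.Bijective f := by
    constructor
    · intro a b hab
      have := congrArg Subtype.val hab
      exact hTK this
    · intro x
      have h1 : IsIntegral (N ⊗[R] Localization.AtPrime p)
          (x : FractionRing (N ⊗[R] Localization.AtPrime p)) := x.2.tower_top
      obtain ⟨t, ht⟩ := IsIntegrallyClosed.algebraMap_eq_of_integral h1
      exact ⟨t, Subtype.ext ht⟩
  let e := AlgEquiv.ofBijective f hfbij
  rw [Groth.Agent.Lib.Helper4.Unibranch.isUnibranch_iff_of_isDomain (Localization.AtPrime p)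
    (FractionRing (N ⊗[R] Localization.AtPrime p))]
  exact e.toRingEquiv.isLocalRing

theorem main_h
    (R R' : Type u) [CommRing R] [IsDomain R] [HenselianLocalRing R]
    [CommRing R'] [Algebra R R'] [Algebra.Smooth R R']
    (p : Ideal R') [p.IsPrime] (q : ℕ) [ExpChar (ResidueField R) q]
    (hp : (IsLocalRing.maximalIdeal R).map (algebraMap R R') ≤ p)
    (hpi : ∀ b : Localization.AtPrime p, ∃ (n : ℕ) (a : R),
      b ^ q ^ n - algebraMap R (Localization.AtPrime p) a ∈
        maximalIdeal (Localization.AtPrime p)) :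
    IsDomain (Localization.AtPrime p) ∧ CAlg2.IsUnibranch (Localization.AtPrime p) := by
  haveI : IsIntegrallyClosed (integralClosure R (FractionRing R)) :=
    integralClosure.isIntegrallyClosedOfFiniteExtension (FractionRing R)
  have hinj : Function.Injective (algebraMap R (integralClosure R (FractionRing R))) := by
    intro a b hab
    have h1 : ((algebraMap R (integralClosure R (FractionRing R)) a :
        integralClosure R (FractionRing R)) : FractionRing R) =
        (algebraMap R (integralClosure R (FractionRing R)) b :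
          integralClosure R (FractionRing R)) := by rw [hab]
    exact IsFractionRing.injective R (FractionRing R) h1
  refine core_h R R' p (integralClosure R (FractionRing R)) q hp hinj ?_ hpi
  intro n
  obtain ⟨⟨a, s⟩, has⟩ := IsLocalization.surj (nonZeroDivisors R) (n : FractionRing R)
  refine ⟨s, nonZeroDivisors.ne_zero s.2, a, Subtype.ext ?_⟩
  simp only at has
  rw [mul_comm]
  exact has

end H2

end Part2

section Part3

open Groth.Agent.Lib.Helper3

section G

variable (Rh T₀ : Type u) [CommRing Rh] [HenselianLocalRing Rh]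
    [CommRing T₀] [Algebra Rh T₀] [Algebra.Smooth Rh T₀]
    (Q : Ideal T₀) [Q.IsPrime] (P : Ideal Rh) [P.IsPrime]

local notation "JJ" => Ideal.map (algebraMap Rh T₀) P
local notation "II" => Ideal.map (algebraMap T₀ (Localization.AtPrime Q)) (Ideal.map (algebraMap Rh T₀) P)

/-- Local rings of a smooth algebra over a henselian local ring with purely inseparable residue
field extension, modulo a prime of the base, are unibranch domains. -/
theorem quot_unibranch_h (q : ℕ) [ExpChar (ResidueField Rh) q]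
    (hQ : (maximalIdeal Rh).map (algebraMap Rh T₀) ≤ Q)
    (hpi : ∀ z : Localization.AtPrime Q, ∃ (n : ℕ) (a : Rh),
      z ^ q ^ n - algebraMap Rh (Localization.AtPrime Q) a ∈
        maximalIdeal (Localization.AtPrime Q))
    [IsLocalRing (Localization.AtPrime Q ⧸ II)] :
    IsDomain (Localization.AtPrime Q ⧸ II) ∧
    CAlg2.IsUnibranch (Localization.AtPrime Q ⧸ II) := by
  haveI : IsDomain (Rh ⧸ P) := Ideal.Quotient.isDomain P
  haveI : HenselianLocalRing (Rh ⧸ P) := Groth.Agent.Lib.R2H1.ShQuot.henselian_quot Rh P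
  haveI hmkP : IsLocalHom (Ideal.Quotient.mk P) := Groth.Agent.Lib.Helper3.ShQuot.isLocalHom_mk P
  haveI : ExpChar (ResidueField (Rh ⧸ P)) q :=
    expChar_of_injective_ringHom
      (f := IsLocalRing.ResidueField.map (Ideal.Quotient.mk P)) (RingHom.injective _) q
  haveI : Algebra.Smooth (Rh ⧸ P) (T₀ ⧸ JJ) :=
    Algebra.Smooth.of_equiv (Algebra.TensorProduct.quotIdealMapEquivQuotTensor T₀ P).symm
  have hPle : P ≤ maximalIdeal Rh :=
    IsLocalRing.le_maximalIdeal (Ideal.IsPrime.ne_top inferInstance)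
  have hJQ : JJ ≤ Q := (Ideal.map_mono hPle).trans hQ
  have hker : RingHom.ker (Ideal.Quotient.mk JJ) ≤ Q := by rw [Ideal.mk_ker]; exact hJQ
  haveI hQbar : (Q.map (Ideal.Quotient.mk JJ)).IsPrime :=
    Ideal.map_isPrime_of_surjective Ideal.Quotient.mk_surjective hker
  have hcomapQ : (Q.map (Ideal.Quotient.mk JJ)).comap (Ideal.Quotient.mk JJ) = Q := by
    rw [Ideal.comap_map_of_surjective _ Ideal.Quotient.mk_surjective,
      ← RingHom.ker_eq_comap_bot, Ideal.mk_ker]
    exact sup_eq_left.mpr hJQ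
  have hm : (maximalIdeal (Rh ⧸ P)).map (algebraMap (Rh ⧸ P) (T₀ ⧸ JJ)) ≤
      Q.map (Ideal.Quotient.mk JJ) := by
    rw [Ideal.map_le_iff_le_comap]
    intro x hx
    obtain ⟨a, rfl⟩ := Ideal.Quotient.mk_surjective x
    have ha : a ∈ maximalIdeal Rh := by
      rw [mem_maximalIdeal, mem_nonunits_iff]
      intro hu
      exact (mem_nonunits_iff.mp ((mem_maximalIdeal _).mp hx)) (hu.map _)
    rw [Ideal.mem_comap]
    have h1 : algebraMap (Rh ⧸ P) (T₀ ⧸ JJ) (Ideal.Quotient.mk P a) =
        Ideal.Quotient.mk JJ (algebraMap Rh T₀ a) := rfl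
    rw [h1]
    exact Ideal.mem_map_of_mem _ (hQ (Ideal.mem_map_of_mem _ ha))
  have hM : Algebra.algebraMapSubmonoid (T₀ ⧸ JJ) Q.primeCompl =
      (Q.map (Ideal.Quotient.mk JJ)).primeCompl := by
    ext x
    constructor
    · rintro ⟨y, hy, rfl⟩
      intro hmem
      have h1 : y ∈ (Q.map (Ideal.Quotient.mk JJ)).comap (Ideal.Quotient.mk JJ) := hmem
      rw [hcomapQ] at h1
      exact hy h1
    · intro hx
      obtain ⟨y, rfl⟩ := Ideal.Quotient.mk_surjective x
      refine ⟨y, ?_, rfl⟩
      intro hy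
      exact hx (Ideal.mem_map_of_mem _ hy)
  haveI hloc : IsLocalization.AtPrime
      (Localization.AtPrime Q ⧸ II)
      (Q.map (Ideal.Quotient.mk JJ)) := by
    have h0 : IsLocalization (Algebra.algebraMapSubmonoid (T₀ ⧸ JJ) Q.primeCompl)
        (Localization.AtPrime Q ⧸ II) :=
      inferInstance
    rw [hM] at h0
    exact h0
  let e : Localization.AtPrime (Q.map (Ideal.Quotient.mk JJ)) ≃ₐ[T₀ ⧸ JJ]
      (Localization.AtPrime Q ⧸ II) :=
    IsLocalization.algEquiv (Q.map (Ideal.Quotient.mk JJ)).primeCompl _ _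
  -- the purely inseparable condition transported
  haveI hmkII : IsLocalHom (Ideal.Quotient.mk II) :=
    Groth.Agent.Lib.Helper3.ShQuot.isLocalHom_mk II
  have hpi₁ : ∀ z₁ : Localization.AtPrime (Q.map (Ideal.Quotient.mk JJ)), ∃ (n : ℕ) (a₁ : Rh ⧸ P),
      z₁ ^ q ^ n - algebraMap (Rh ⧸ P) (Localization.AtPrime (Q.map (Ideal.Quotient.mk JJ))) a₁ ∈
        maximalIdeal (Localization.AtPrime (Q.map (Ideal.Quotient.mk JJ))) := by
    intro z₁
    obtain ⟨z, hz⟩ := Ideal.Quotient.mk_surjective (e z₁)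
    obtain ⟨n, a, hna⟩ := hpi z
    refine ⟨n, Ideal.Quotient.mk P a, ?_⟩
    rw [mem_maximalIdeal, mem_nonunits_iff]
    intro hu
    have hu' : IsUnit (e (z₁ ^ q ^ n - algebraMap (Rh ⧸ P)
        (Localization.AtPrime (Q.map (Ideal.Quotient.mk JJ))) (Ideal.Quotient.mk P a))) :=
      hu.map e
    have h1 : e (algebraMap (Rh ⧸ P) (Localization.AtPrime (Q.map (Ideal.Quotient.mk JJ)))
        (Ideal.Quotient.mk P a)) =
        Ideal.Quotient.mk II (algebraMap Rh (Localization.AtPrime Q) a) := by
      rw [IsScalarTower.algebraMap_apply (Rh ⧸ P) (T₀ ⧸ JJ)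
        (Localization.AtPrime (Q.map (Ideal.Quotient.mk JJ))), e.commutes]
      have h2 : algebraMap (Rh ⧸ P) (T₀ ⧸ JJ) (Ideal.Quotient.mk P a) =
          Ideal.Quotient.mk JJ (algebraMap Rh T₀ a) := rfl
      rw [h2, Ideal.Quotient.algebraMap_quotient_map_quotient,
        ← IsScalarTower.algebraMap_apply Rh T₀ (Localization.AtPrime Q)]
    rw [map_sub, map_pow, h1, ← hz, ← map_pow, ← map_sub] at hu'
    have hu'' : IsUnit (z ^ q ^ n - algebraMap Rh (Localization.AtPrime Q) a) :=
      isUnit_of_map_unit (Ideal.Quotient.mk II) _ hu'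
    exact (mem_nonunits_iff.mp ((mem_maximalIdeal _).mp hna)) hu''
  obtain ⟨hdom, hgu⟩ := main_h (Rh ⧸ P) (T₀ ⧸ JJ) (Q.map (Ideal.Quotient.mk JJ)) q hm hpi₁
  refine ⟨MulEquiv.isDomain (Localization.AtPrime (Q.map (Ideal.Quotient.mk JJ)))
    e.symm.toMulEquiv, ?_⟩
  exact isUnibranch_of_ringEquiv e.toRingEquiv hgu

end G

end Part3

section Part4

open Groth.Agent.Lib.Helper3

section main

variable (R : Type u) [CommRing R] (S : Type u) [CommRing S] [Algebra R S] [Algebra.Smooth R S]
  (p : Ideal R) [p.IsPrime] (q : Ideal S) [q.IsPrime] [q.LiesOver p]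
  (Rh : Type u) [CommRing Rh] [IsLocalRing Rh] [Algebra (Localization.AtPrime p) Rh]
  [IsLocalHom (algebraMap (Localization.AtPrime p) Rh)]
  [Hensel.IsHenselization (Localization.AtPrime p) Rh] [Algebra R Rh]
  [IsScalarTower R (Localization.AtPrime p) Rh]
  (Sh : Type u) [CommRing Sh] [IsLocalRing Sh] [Algebra (Localization.AtPrime q) Sh]
  [IsLocalHom (algebraMap (Localization.AtPrime q) Sh)]
  [Hensel.IsHenselization (Localization.AtPrime q) Sh] [Algebra S Sh]
  [IsScalarTower S (Localization.AtPrime q) Sh] [Algebra R Sh] [IsScalarTower R S Sh]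
  [Algebra Rh Sh] [IsScalarTower R Rh Sh] [IsLocalHom (algebraMap Rh Sh)]

local notation "T₀" => Rh ⊗[R] S
local notation "QQ" => HzTensor.Q R S Rh Sh
local notation "LL" => Localization.AtPrime (HzTensor.Q R S Rh Sh)

omit [Algebra.Smooth R S] in
theorem phiL_comp (a : Rh) :
    HzTensor.phiL R S Rh Sh (algebraMap Rh LL a) = algebraMap Rh Sh a := by
  rw [IsScalarTower.algebraMap_apply Rh T₀ LL, HzTensor.phiL_algebraMap]
  simp [HzTensor.phi]

omit [Algebra.Smooth R S] in
theorem maximalIdeal_map_le : (maximalIdeal Rh).map (algebraMap Rh T₀) ≤ QQ := by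
  rw [Ideal.map_le_iff_le_comap]
  intro a ha
  rw [Ideal.mem_comap, HzTensor.Q, Ideal.mem_comap]
  have h1 : HzTensor.phi R S Rh Sh (algebraMap Rh (Rh ⊗[R] S) a) = algebraMap Rh Sh a := by
    simp [HzTensor.phi]
  rw [h1, mem_maximalIdeal, mem_nonunits_iff]
  intro hu
  exact (mem_nonunits_iff.mp ((mem_maximalIdeal a).mp ha))
    (isUnit_of_map_unit (algebraMap Rh Sh) a hu)

include p q in
/-- **Primes of `R_p^h` extend to primes of `S_q^h`** for `R → S` smooth with purely inseparable
residue field extension. -/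
theorem isPrime_map (e : ℕ) [ExpChar (ResidueField Rh) e]
    (hpi : ∀ z : Sh, ∃ (n : ℕ) (a : Rh), z ^ e ^ n - algebraMap Rh Sh a ∈ maximalIdeal Sh)
    (P : Ideal Rh) [P.IsPrime] : (P.map (algebraMap Rh Sh)).IsPrime := by
  haveI hRh : HenselianLocalRing Rh :=
    Hensel.IsHenselization.henselian (R := Localization.AtPrime p)
  letI : Algebra LL Sh := (HzTensor.phiL R S Rh Sh).toAlgebra
  haveI : IsLocalHom (algebraMap LL Sh) := HzTensor.isLocalHom_phiL
  haveI hst : Hensel.IsHenselization LL Sh :=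
    ⟨Hensel.IsHenselization.henselian (R := Localization.AtPrime q), fun T _ _ f hf =>
      HzTensor.universal (fun T _ _ u v hu h => HzTensor.UA_of_hz R p Rh T u v hu h)
        (fun T _ _ w hw => HzTensor.UB_of_hz S q Sh T w hw) T f hf⟩
  haveI : IsScalarTower Rh LL Sh :=
    IsScalarTower.of_algebraMap_eq (fun a => (phiL_comp R S Rh Sh a).symm)
  have hIS : ((P.map (algebraMap Rh T₀)).map (algebraMap T₀ LL)).map (algebraMap LL Sh) =
      P.map (algebraMap Rh Sh) := by
    rw [Ideal.map_map, Ideal.map_map]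
    congr 1
    ext a
    simp only [RingHom.comp_apply]
    rw [← IsScalarTower.algebraMap_apply Rh T₀ LL]
    exact phiL_comp R S Rh Sh a
  have hPle : P ≤ maximalIdeal Rh :=
    IsLocalRing.le_maximalIdeal (Ideal.IsPrime.ne_top inferInstance)
  have hISle : P.map (algebraMap Rh Sh) ≤ maximalIdeal Sh := by
    rw [Ideal.map_le_iff_le_comap]
    intro a ha
    rw [Ideal.mem_comap, mem_maximalIdeal, mem_nonunits_iff]
    intro hu
    exact (mem_nonunits_iff.mp ((mem_maximalIdeal a).mp (hPle ha)))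
      (isUnit_of_map_unit (algebraMap Rh Sh) a hu)
  have hISne : ((P.map (algebraMap Rh T₀)).map (algebraMap T₀ LL)).map (algebraMap LL Sh) ≠ ⊤ := by
    rw [hIS]
    intro h
    exact (Ideal.IsMaximal.ne_top (maximalIdeal.isMaximal Sh)) (top_le_iff.mp (h ▸ hISle))
  have hIne : (P.map (algebraMap Rh T₀)).map (algebraMap T₀ LL) ≠ ⊤ :=
    fun h => hISne (by rw [h, Ideal.map_top])
  have hIle : (P.map (algebraMap Rh T₀)).map (algebraMap T₀ LL) ≤ maximalIdeal LL :=
    IsLocalRing.le_maximalIdeal hIne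
  haveI : Nontrivial (LL ⧸ (P.map (algebraMap Rh T₀)).map (algebraMap T₀ LL)) :=
    Ideal.Quotient.nontrivial_iff.mpr hIne
  haveI : IsLocalRing (LL ⧸ (P.map (algebraMap Rh T₀)).map (algebraMap T₀ LL)) :=
    IsLocalRing.of_surjective' (Ideal.Quotient.mk _) Ideal.Quotient.mk_surjective
  haveI : Nontrivial (Sh ⧸ ((P.map (algebraMap Rh T₀)).map (algebraMap T₀ LL)).map
      (algebraMap LL Sh)) := Ideal.Quotient.nontrivial_iff.mpr hISne
  haveI : IsLocalRing (Sh ⧸ ((P.map (algebraMap Rh T₀)).map (algebraMap T₀ LL)).map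
      (algebraMap LL Sh)) :=
    IsLocalRing.of_surjective' (Ideal.Quotient.mk _) Ideal.Quotient.mk_surjective
  haveI : IsLocalHom (algebraMap (LL ⧸ (P.map (algebraMap Rh T₀)).map (algebraMap T₀ LL))
      (Sh ⧸ ((P.map (algebraMap Rh T₀)).map (algebraMap T₀ LL)).map (algebraMap LL Sh))) := by
    refine ⟨fun a ha => ?_⟩
    obtain ⟨r, rfl⟩ := Ideal.Quotient.mk_surjective a
    have h1 : algebraMap (LL ⧸ (P.map (algebraMap Rh T₀)).map (algebraMap T₀ LL))
        (Sh ⧸ ((P.map (algebraMap Rh T₀)).map (algebraMap T₀ LL)).map (algebraMap LL Sh))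
        (Ideal.Quotient.mk _ r) = Ideal.Quotient.mk _ (algebraMap LL Sh r) :=
      Ideal.Quotient.algebraMap_quotient_map_quotient r
    rw [h1] at ha
    haveI := Groth.Agent.Lib.Helper3.ShQuot.isLocalHom_mk
      (((P.map (algebraMap Rh T₀)).map (algebraMap T₀ LL)).map (algebraMap LL Sh))
    have h2 : IsUnit (algebraMap LL Sh r) := isUnit_of_map_unit (Ideal.Quotient.mk _) _ ha
    exact (isUnit_of_map_unit (algebraMap LL Sh) r h2).map _
  haveI hstq : Hensel.IsHenselization
      (LL ⧸ (P.map (algebraMap Rh T₀)).map (algebraMap T₀ LL))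
      (Sh ⧸ ((P.map (algebraMap Rh T₀)).map (algebraMap T₀ LL)).map (algebraMap LL Sh)) :=
    Groth.Agent.S13598.result _ hIle
  -- the purely inseparable condition on `LL`
  have hpiL : ∀ z : LL, ∃ (n : ℕ) (a : Rh),
      z ^ e ^ n - algebraMap Rh LL a ∈ maximalIdeal LL := by
    intro z
    obtain ⟨n, a, hna⟩ := hpi (algebraMap LL Sh z)
    refine ⟨n, a, ?_⟩
    rw [mem_maximalIdeal, mem_nonunits_iff]
    intro hu
    have hu' := hu.map (algebraMap LL Sh)
    rw [map_sub, map_pow, ← IsScalarTower.algebraMap_apply Rh LL Sh] at hu'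
    exact (mem_nonunits_iff.mp ((mem_maximalIdeal _).mp hna)) hu'
  obtain ⟨hdom, hgu⟩ := quot_unibranch_h Rh T₀ QQ P e (maximalIdeal_map_le R S Rh Sh) hpiL
  haveI := hdom
  have hdomq : IsDomain (Sh ⧸ ((P.map (algebraMap Rh T₀)).map (algebraMap T₀ LL)).map
      (algebraMap LL Sh)) :=
    (Groth.Agent.S2749.result (LL ⧸ (P.map (algebraMap Rh T₀)).map (algebraMap T₀ LL))
      (Sh ⧸ ((P.map (algebraMap Rh T₀)).map (algebraMap T₀ LL)).map (algebraMap LL Sh))).mp
      ⟨inferInstance, hgu⟩
  have hprime : (((P.map (algebraMap Rh T₀)).map (algebraMap T₀ LL)).map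
      (algebraMap LL Sh)).IsPrime := (Ideal.Quotient.isDomain_iff_prime _).mp hdomq
  rw [hIS] at hprime
  exact hprime

include p q in
theorem flat : Module.Flat Rh Sh := by
  letI : Algebra LL Sh := (HzTensor.phiL R S Rh Sh).toAlgebra
  haveI : IsLocalHom (algebraMap LL Sh) := HzTensor.isLocalHom_phiL
  haveI hst : Hensel.IsHenselization LL Sh :=
    ⟨Hensel.IsHenselization.henselian (R := Localization.AtPrime q), fun T _ _ f hf =>
      HzTensor.universal (fun T _ _ u v hu h => HzTensor.UA_of_hz R p Rh T u v hu h)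
        (fun T _ _ w hw => HzTensor.UB_of_hz S q Sh T w hw) T f hf⟩
  haveI : IsScalarTower Rh LL Sh :=
    IsScalarTower.of_algebraMap_eq (fun a => (phiL_comp R S Rh Sh a).symm)
  haveI : Module.FaithfullyFlat LL Sh := HzP.hz_faithfullyFlat LL Sh
  haveI : Module.Flat R S := inferInstance
  haveI : Module.Flat Rh T₀ := inferInstance
  haveI : Module.Flat T₀ LL := IsLocalization.flat LL (QQ).primeCompl
  haveI : Module.Flat Rh LL := Module.Flat.trans Rh T₀ LL
  exact Module.Flat.trans Rh LL Sh

include p q in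
/-- **Henselizations of `R_p` and `S_q` have the same number of minimal primes** for
`R → S` smooth with purely inseparable residue field extension. -/
theorem encard_eq (e : ℕ) [ExpChar (ResidueField Rh) e]
    (hpi : ∀ z : Sh, ∃ (n : ℕ) (a : Rh), z ^ e ^ n - algebraMap Rh Sh a ∈ maximalIdeal Sh) :
    (minimalPrimes Rh).encard = (minimalPrimes Sh).encard := by
  haveI hflat : Module.Flat Rh Sh := flat R S p q Rh Sh
  haveI hff : Module.FaithfullyFlat Rh Sh := Module.FaithfullyFlat.of_flat_of_isLocalHom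
  have hA : ∀ (P : Ideal Rh) [P.IsPrime], (P.map (algebraMap Rh Sh)).IsPrime :=
    fun P _ => isPrime_map R S p q Rh Sh e hpi P
  have hmaps : ∀ 𝔔 ∈ minimalPrimes Sh, 𝔔.comap (algebraMap Rh Sh) ∈ minimalPrimes Rh := by
    intro 𝔔 h𝔔
    haveI : 𝔔.IsPrime := h𝔔.1.1
    refine ⟨⟨Ideal.comap_isPrime _ _, bot_le⟩, ?_⟩
    intro P' hP' hP'le
    haveI := hP'.1
    haveI : 𝔔.LiesOver (𝔔.comap (algebraMap Rh Sh)) := ⟨rfl⟩
    obtain ⟨𝔔', h𝔔'le, h𝔔'prime, h𝔔'over⟩ := Ideal.exists_ideal_le_liesOver_of_le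
      (p := P') (q := 𝔔.comap (algebraMap Rh Sh)) 𝔔 hP'le
    have h1 : 𝔔 ≤ 𝔔' := h𝔔.2 ⟨h𝔔'prime, bot_le⟩ h𝔔'le
    have h2 : 𝔔' = 𝔔 := le_antisymm h𝔔'le h1
    have h3 : P' = 𝔔'.under Rh := h𝔔'over.over
    rw [h3, h2]
  have hkey : ∀ 𝔔 ∈ minimalPrimes Sh,
      𝔔 = (𝔔.comap (algebraMap Rh Sh)).map (algebraMap Rh Sh) := by
    intro 𝔔 h𝔔
    haveI : 𝔔.IsPrime := h𝔔.1.1
    haveI : (𝔔.comap (algebraMap Rh Sh)).IsPrime := Ideal.comap_isPrime _ _
    have h1 := hA (𝔔.comap (algebraMap Rh Sh))
    exact le_antisymm (h𝔔.2 ⟨h1, bot_le⟩ Ideal.map_comap_le) Ideal.map_comap_le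
  have hinj : Set.InjOn (Ideal.comap (algebraMap Rh Sh)) (minimalPrimes Sh) := by
    intro 𝔔₁ h₁ 𝔔₂ h₂ heq
    calc 𝔔₁ = (𝔔₁.comap (algebraMap Rh Sh)).map (algebraMap Rh Sh) := hkey _ h₁
      _ = (𝔔₂.comap (algebraMap Rh Sh)).map (algebraMap Rh Sh) :=
        congrArg (Ideal.map (algebraMap Rh Sh)) heq
      _ = 𝔔₂ := (hkey _ h₂).symm
  have himg : Ideal.comap (algebraMap Rh Sh) '' (minimalPrimes Sh) = minimalPrimes Rh := by
    apply Set.Subset.antisymm
    · rintro _ ⟨𝔔, h𝔔, rfl⟩
      exact hmaps 𝔔 h𝔔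
    · intro P hP
      haveI : P.IsPrime := hP.1.1
      have h1 := hA P
      have hcm : (P.map (algebraMap Rh Sh)).comap (algebraMap Rh Sh) = P :=
        Ideal.comap_map_eq_self_of_faithfullyFlat P
      refine ⟨P.map (algebraMap Rh Sh), ⟨⟨h1, bot_le⟩, ?_⟩, hcm⟩
      intro 𝔔' h𝔔' hle
      haveI := h𝔔'.1
      have h2 : 𝔔'.comap (algebraMap Rh Sh) ≤ P :=
        calc 𝔔'.comap (algebraMap Rh Sh) ≤ (P.map (algebraMap Rh Sh)).comap (algebraMap Rh Sh) :=
            Ideal.comap_mono hle
          _ = P := hcm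
      have h3 : P ≤ 𝔔'.comap (algebraMap Rh Sh) := hP.2 ⟨Ideal.comap_isPrime _ _, bot_le⟩ h2
      exact Ideal.map_le_iff_le_comap.mpr h3
  rw [← himg, hinj.encard_image]

end main

end Part4

section Part5

open Groth.Agent.Lib.Helper3

theorem main_2130 {R S Ah Bh : Type u} [CommRing R] [CommRing S]
    [Algebra R S] [Algebra.Smooth R S] (q : Ideal S) [q.IsPrime] (p : Ideal R) [p.IsPrime]
    [q.LiesOver p]
    (hpi : @IsPurelyInseparable p.ResidueField q.ResidueField _ _
      (Ideal.ResidueField.mapₐ p q (Algebra.ofId R S) (q.over_def p)).toRingHom.toAlgebra)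
    [CommRing Ah] [IsLocalRing Ah] [Algebra (Localization.AtPrime p) Ah]
    [IsLocalHom (algebraMap (Localization.AtPrime p) Ah)]
    [Hensel.IsHenselization (Localization.AtPrime p) Ah]
    [CommRing Bh] [IsLocalRing Bh] [Algebra (Localization.AtPrime q) Bh]
    [IsLocalHom (algebraMap (Localization.AtPrime q) Bh)]
    [Hensel.IsHenselization (Localization.AtPrime q) Bh] :
    (minimalPrimes Ah).encard = (minimalPrimes Bh).encard := by
  letI : Algebra R Ah := ((algebraMap (Localization.AtPrime p) Ah).comp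
    (algebraMap R (Localization.AtPrime p))).toAlgebra
  haveI : IsScalarTower R (Localization.AtPrime p) Ah :=
    IsScalarTower.of_algebraMap_eq (fun _ => rfl)
  letI : Algebra S Bh := ((algebraMap (Localization.AtPrime q) Bh).comp
    (algebraMap S (Localization.AtPrime q))).toAlgebra
  haveI : IsScalarTower S (Localization.AtPrime q) Bh :=
    IsScalarTower.of_algebraMap_eq (fun _ => rfl)
  letI : Algebra R Bh := ((algebraMap S Bh).comp (algebraMap R S)).toAlgebra
  haveI : IsScalarTower R S Bh := IsScalarTower.of_algebraMap_eq (fun _ => rfl)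
  have hpq : p = q.comap (Algebra.ofId R S).toRingHom := q.over_def p
  haveI hlam : IsLocalHom (Localization.localRingHom p q (Algebra.ofId R S).toRingHom hpq) :=
    Localization.isLocalHom_localRingHom p q _ hpq
  haveI hBh : HenselianLocalRing Bh :=
    Hensel.IsHenselization.henselian (R := Localization.AtPrime q)
  obtain ⟨g, hg, -⟩ := Hensel.IsHenselization.universal (R := Localization.AtPrime p) (S := Ah) Bh
    ((algebraMap (Localization.AtPrime q) Bh).comp
      (Localization.localRingHom p q (Algebra.ofId R S).toRingHom hpq)) inferInstance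
  letI : Algebra Ah Bh := g.toAlgebra
  have hgapp : ∀ a₀ : Localization.AtPrime p, algebraMap Ah Bh (algebraMap _ Ah a₀) =
      algebraMap (Localization.AtPrime q) Bh
        (Localization.localRingHom p q (Algebra.ofId R S).toRingHom hpq a₀) :=
    fun a₀ => RingHom.congr_fun hg a₀
  haveI : IsScalarTower R Ah Bh := IsScalarTower.of_algebraMap_eq (fun r => by
    have h1 := hgapp (algebraMap R (Localization.AtPrime p) r)
    rw [Localization.localRingHom_to_map] at h1
    exact h1.symm)
  haveI : IsLocalHom (algebraMap Ah Bh) := HzTensor.isLocalHom_algebraMap R p Ah S q Bh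
  obtain ⟨e, he⟩ := ExpChar.exists p.ResidueField
  haveI := he
  haveI : ExpChar (ResidueField Ah) e := expChar_of_injective_ringHom
    (f := IsLocalRing.ResidueField.map (algebraMap (Localization.AtPrime p) Ah))
    (RingHom.injective _) e
  have hpiE : ∀ z : Bh, ∃ (n : ℕ) (a : Ah),
      z ^ e ^ n - algebraMap Ah Bh a ∈ maximalIdeal Bh := by
    intro z
    obtain ⟨s, hs⟩ := HzP.hz_exists_sub_mem_maximalIdeal (Localization.AtPrime q) Bh z
    letI : Algebra p.ResidueField q.ResidueField :=
      (Ideal.ResidueField.mapₐ p q (Algebra.ofId R S) (q.over_def p)).toRingHom.toAlgebra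
    haveI := hpi
    obtain ⟨n, x₀, hx₀⟩ := IsPurelyInseparable.pow_mem p.ResidueField e
      (IsLocalRing.residue (Localization.AtPrime q) s)
    obtain ⟨a₀, rfl⟩ := IsLocalRing.residue_surjective x₀
    refine ⟨n, algebraMap (Localization.AtPrime p) Ah a₀, ?_⟩
    have h1 : IsLocalRing.residue (Localization.AtPrime q)
        (Localization.localRingHom p q (Algebra.ofId R S).toRingHom hpq a₀) =
        (IsLocalRing.residue (Localization.AtPrime q) s) ^ e ^ n := hx₀
    have h2 : s ^ e ^ n - Localization.localRingHom p q (Algebra.ofId R S).toRingHom hpq a₀ ∈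
        maximalIdeal (Localization.AtPrime q) := by
      rw [← IsLocalRing.residue_eq_zero_iff, map_sub, map_pow, h1, sub_self]
    have h3 : algebraMap (Localization.AtPrime q) Bh
        (s ^ e ^ n - Localization.localRingHom p q (Algebra.ofId R S).toRingHom hpq a₀) ∈
        maximalIdeal Bh := map_nonunit _ _ h2
    have h4 : z ^ e ^ n - (algebraMap (Localization.AtPrime q) Bh s) ^ e ^ n ∈ maximalIdeal Bh := by
      obtain ⟨c, hc⟩ := sub_dvd_pow_sub_pow z (algebraMap (Localization.AtPrime q) Bh s) (e ^ n)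
      rw [hc]
      exact Ideal.mul_mem_right _ _ hs
    have h5 : z ^ e ^ n - algebraMap Ah Bh (algebraMap (Localization.AtPrime p) Ah a₀) =
        (z ^ e ^ n - (algebraMap (Localization.AtPrime q) Bh s) ^ e ^ n) +
        algebraMap (Localization.AtPrime q) Bh
          (s ^ e ^ n - Localization.localRingHom p q (Algebra.ofId R S).toRingHom hpq a₀) := by
      rw [hgapp, map_sub, map_pow]
      ring
    rw [h5]
    exact Ideal.add_mem _ h4 h3
  exact encard_eq R S p q Ah Bh e hpiE

end Part5

end Groth.Agent.Lib.R2H1.HzSmooth
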