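import Mathlib
import Groth.Agent.Lib.R2H1EtRamGal

/-!
# The inertia field is étale over the base (helper1, round 2)

`A` a DVR, `L/K` finite Galois, `B` the integral closure with its Galois action, `m` a maximal ideal
of `B`, `I` its inertia group, `B'` the integral closure of `A` in `L^I`.

* `goal1`: `B^I` is the image of `B'`.
* `inertia_field_unramified`: `e(m'/p) · [κ(m'):κ(p)]_insep = 1` for `m' = m ∩ B'` (general
  Dedekind version with `IsGaloisGroup`).
* `exists_pow_eq_mul`, `finitePresentation_atPrime`: the localization of a semilocal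
  one-dimensional domain finite over a Noetherian local ring at a maximal ideal is of finite
  presentation.
* `etale_atPrime_of_unramified`: a localization of a finite Dedekind extension of a DVR at an
  unramified prime with separable residue field extension is étale.
* `main` (= S7139).
-/

set_option autoImplicit false
set_option linter.style.haveILetI false
set_option linter.unusedSectionVars false
universe u

namespace Groth.Agent.Lib.R2H1.InertiaEtale

section Part1

open IsLocalRing Ideal
open Groth.Agent.Lib.R2H1.EtRam Groth.Agent.Lib.R2H1.EtRamGal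
open scoped Classical IntermediateField

section Setup

variable (A K L B : Type u) [CommRing A] [IsDomain A]
    [IsDiscreteValuationRing A] [Field K] [Field L] [Algebra A K] [IsFractionRing A K] [Algebra K L]
    [Algebra A L] [IsScalarTower A K L] [FiniteDimensional K L] [IsGalois K L]
    [CommRing B] [Algebra A B] [Algebra B L] [IsScalarTower A B L] [IsIntegralClosure B A L]
    [MulSemiringAction (L ≃ₐ[K] L) B]
    (hact : ∀ (σ : L ≃ₐ[K] L) (b : B), algebraMap B L (σ • b) = σ (algebraMap B L b))

include hact in
theorem smulDistribClass : SMulDistribClass (L ≃ₐ[K] L) B L := by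
  constructor
  intro σ b l
  rw [Algebra.smul_def, Algebra.smul_def, smul_mul', AlgEquiv.smul_def, AlgEquiv.smul_def, hact]

theorem isDomain_B (A L B : Type u) [CommRing A] [Field L] [Algebra A L] [CommRing B]
    [Algebra B L] [IsIntegralClosure B A L] : IsDomain B :=
  (IsIntegralClosure.algebraMap_injective B A L).isDomain _

include hact in
theorem isGaloisGroup_top : IsGaloisGroup (L ≃ₐ[K] L) A B := by
  haveI := smulDistribClass K L B hact
  haveI := isDomain_B A L B
  haveI : IsFractionRing B L := IsIntegralClosure.isFractionRing_of_finite_extension A K L B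
  haveI : Algebra.IsIntegral A B := IsIntegralClosure.isIntegral_algebra A L
  exact IsGaloisGroup.of_isFractionRing (L ≃ₐ[K] L) A B K L

variable (I : Subgroup (L ≃ₐ[K] L))
    (B' : Type u) [CommRing B'] [Algebra A B'] [Algebra B' B] [IsScalarTower A B' B] [Algebra B' L]
    [IsScalarTower B' B L]
    [Algebra B' (IntermediateField.fixedField I)]
    [IsScalarTower B' (IntermediateField.fixedField I) L]
    [IsIntegralClosure B' A (IntermediateField.fixedField I)]

include B in
theorem isScalarTower_F : IsScalarTower A B' (IntermediateField.fixedField I) := by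
  refine IsScalarTower.of_algebraMap_eq (fun a => ?_)
  apply (algebraMap (IntermediateField.fixedField I) L).injective
  rw [← IsScalarTower.algebraMap_apply B' (IntermediateField.fixedField I) L,
    IsScalarTower.algebraMap_apply B' B L, ← IsScalarTower.algebraMap_apply A B' B,
    ← IsScalarTower.algebraMap_apply A B L]
  rfl

include A hact in
theorem isGaloisGroup_sub : IsGaloisGroup I B' B := by
  haveI := isDomain_B A L B
  haveI := isDomain_B A (IntermediateField.fixedField I) B'
  haveI := isScalarTower_F A K L B I B'
  haveI : IsFractionRing B L := IsIntegralClosure.isFractionRing_of_finite_extension A K L B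
  haveI : Algebra.IsIntegral A B := IsIntegralClosure.isIntegral_algebra A L
  haveI : FiniteDimensional K (IntermediateField.fixedField I) := inferInstance
  haveI : Algebra.IsSeparable K (IntermediateField.fixedField I) := inferInstance
  haveI : IsFractionRing B' (IntermediateField.fixedField I) :=
    IsIntegralClosure.isFractionRing_of_finite_extension A K (IntermediateField.fixedField I) B'
  haveI : IsDedekindDomain B' :=
    IsIntegralClosure.isDedekindDomain A K (IntermediateField.fixedField I) B'
  haveI : Algebra.IsIntegral B' B := Algebra.IsIntegral.tower_top (R := A)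
  haveI : SMulDistribClass I B L := by
    constructor
    intro σ b l
    have := (smulDistribClass K L B hact).smul_distrib_smul (σ : L ≃ₐ[K] L) b l
    exact this
  haveI : IsGaloisGroup I (IntermediateField.fixedField I) L :=
    IsGaloisGroup.subgroup (L ≃ₐ[K] L) K L I
  exact IsGaloisGroup.of_isFractionRing I B' B (IntermediateField.fixedField I) L

include A hact in
theorem goal1 (b : B) :
    (∀ σ ∈ I, σ • b = b) ↔ b ∈ Set.range (algebraMap B' B) := by
  haveI := isGaloisGroup_sub A K L B hact I B'
  constructor
  · intro h
    have hinv : Algebra.IsInvariant B' B I := IsGaloisGroup.isInvariant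
    obtain ⟨b', hb'⟩ := hinv.isInvariant b (fun σ => h σ.1 σ.2)
    exact ⟨b', hb'⟩
  · rintro ⟨b', rfl⟩ σ hσ
    have hcomm : SMulCommClass I B' B := IsGaloisGroup.commutes
    have := hcomm.smul_comm (⟨σ, hσ⟩ : I) b' (1 : B)
    rw [smul_one, Algebra.smul_def, mul_one] at this
    exact this

end Setup

end Part1

section Part2

open IsLocalRing Ideal
open Groth.Agent.Lib.R2H1.EtRam Groth.Agent.Lib.R2H1.EtRamGal
open scoped Classical IntermediateField

section Num

attribute [local instance] Ideal.Quotient.field in
theorem inertia_field_unramified {A B' B : Type u} [CommRing A] [IsDomain A] [CommRing B']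
    [IsDedekindDomain B']
    [CommRing B] [IsDedekindDomain B]
    [Algebra A B'] [Algebra B' B] [Algebra A B] [IsScalarTower A B' B]
    [Module.Finite A B] [Module.Flat A B] [Module.IsTorsionFree A B]
    [Module.Finite B' B] [Module.Flat B' B] [Module.IsTorsionFree B' B]
    [Module.IsTorsionFree A B']
    {G : Type u} [Group G] [Finite G] [MulSemiringAction G B] [IsGaloisGroup G A B]
    (p : Ideal A) [p.IsMaximal] (hp : p ≠ ⊥) (m : Ideal B) [m.IsMaximal] [m.LiesOver p]
    (m' : Ideal B') [m'.IsMaximal] [m.LiesOver m'] [m'.LiesOver p]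
    [IsGaloisGroup (m.inertia G) B' B] :
    p.ramificationIdx' m' * Field.finInsepDegree (A ⧸ p) (B' ⧸ m') = 1 := by
  have hm'0 : m' ≠ ⊥ := Ideal.ne_bot_of_liesOver_of_ne_bot hp m'
  have h1 := card_inertia_eq (G := G) p hp m
  have h2 := card_inertia_eq (G := (m.inertia G)) m' hm'0 m
  have h3 : Nat.card (m.inertia (m.inertia G)) = Nat.card (m.inertia G) := by
    have : (m.inertia (m.inertia G) : Subgroup (m.inertia G)) = ⊤ := by
      rw [eq_top_iff]
      intro σ _
      exact Ideal.coe_mem_inertia.mp σ.2
    rw [this]
    exact Nat.card_congr Subgroup.topEquiv.toEquiv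
  rw [h3, h1] at h2
  -- towers
  have ht1 : p.ramificationIdx' m = p.ramificationIdx' m' * m'.ramificationIdx' m := by
    rw [ramificationIdx'_eq_ramificationIdx p m hp, ramificationIdx'_eq_ramificationIdx p m' hp,
      ramificationIdx'_eq_ramificationIdx m' m hm'0]
    exact Ideal.ramificationIdx_tower m' m
  haveI : Algebra.IsAlgebraic (A ⧸ p) (B' ⧸ m') := by
    haveI : Algebra.IsIntegral A B' := by
      have : Algebra.IsIntegral A B := Algebra.IsIntegral.of_finite A B
      refine ⟨fun x => ?_⟩
      have hx := Algebra.IsIntegral.isIntegral (R := A) (algebraMap B' B x)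
      exact (isIntegral_algebraMap_iff (FaithfulSMul.algebraMap_injective B' B)).mp hx
    exact Algebra.IsIntegral.isAlgebraic
  haveI : IsScalarTower (A ⧸ p) (B' ⧸ m') (B ⧸ m) := IsScalarTower.of_algebraMap_eq <| by
    rintro ⟨x⟩
    simp [Submodule.Quotient.quot_mk_eq_mk, IsScalarTower.algebraMap_apply A (B' ⧸ m') (B ⧸ m)]
  have ht2 := Field.finInsepDegree_mul_finInsepDegree_of_isAlgebraic (A ⧸ p) (B' ⧸ m') (B ⧸ m)
  rw [ht1, ← ht2] at h2
  have hpos : m'.ramificationIdx' m * Field.finInsepDegree (B' ⧸ m') (B ⧸ m) ≠ 0 := by
    intro h0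
    rw [← card_inertia_eq (G := (m.inertia G)) m' hm'0 m] at h0
    exact Nat.card_pos.ne' h0
  have h4 : (p.ramificationIdx' m' * Field.finInsepDegree (A ⧸ p) (B' ⧸ m')) *
      (m'.ramificationIdx' m * Field.finInsepDegree (B' ⧸ m') (B ⧸ m)) =
      1 * (m'.ramificationIdx' m * Field.finInsepDegree (B' ⧸ m') (B ⧸ m)) := by
    rw [one_mul]
    calc _ = p.ramificationIdx' m' * m'.ramificationIdx' m *
        (Field.finInsepDegree (A ⧸ p) (B' ⧸ m') * Field.finInsepDegree (B' ⧸ m') (B ⧸ m)) := by
          ring
      _ = _ := h2
  exact Nat.eq_of_mul_eq_mul_right (Nat.pos_of_ne_zero hpos) h4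

end Num

end Part2

section Part3

open IsLocalRing Ideal
open Groth.Agent.Lib.R2H1.EtRam Groth.Agent.Lib.R2H1.EtRamGal
open scoped Classical IntermediateField

section FP

variable (A B' : Type u) [CommRing A] [IsLocalRing A] [IsNoetherianRing A]
    [CommRing B'] [IsDomain B'] [Ring.DimensionLEOne B'] [Algebra A B'] [Module.Finite A B']
    (m' : Ideal B') [m'.IsMaximal]

include A in
/-- In a one-dimensional domain finite over a local ring, the complement of a maximal ideal is
generated up to divisibility by a single element. -/
theorem exists_pow_eq_mul :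
    ∃ s : B', s ∉ m' ∧ ∀ t : B', t ∉ m' → ∃ (N : ℕ) (c : B'), s ^ N = t * c := by
  have hfin : ((maximalIdeal A).primesOver B').Finite :=
    Algebra.QuasiFinite.finite_primesOver (maximalIdeal A)
  haveI hint : Algebra.IsIntegral A B' := Algebra.IsIntegral.of_finite A B'
  have hmaxover : ∀ P : Ideal B', P.IsMaximal → P ∈ (maximalIdeal A).primesOver B' := by
    intro P hP
    refine ⟨hP.isPrime, ⟨?_⟩⟩
    have : (P.under A).IsMaximal := Ideal.IsMaximal.under A P
    exact (IsLocalRing.eq_maximalIdeal this).symm
  set J : Ideal B' := ∏ P ∈ hfin.toFinset.erase m', P with hJ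
  have hJm : ¬ J ≤ m' := by
    intro hle
    rw [hJ, (inferInstance : m'.IsPrime).prod_le] at hle
    obtain ⟨P, hP, hPm⟩ := hle
    rw [Finset.mem_erase, Set.Finite.mem_toFinset] at hP
    obtain ⟨hne, hPp, hPo⟩ := hP
    haveI := hPp
    haveI := hPo
    have hPmax : P.IsMaximal :=
      Ideal.IsMaximal.of_liesOver_isMaximal P (maximalIdeal A)
    exact hne (hPmax.eq_of_le (Ideal.IsMaximal.ne_top inferInstance) hPm)
  obtain ⟨s, hsJ, hsm⟩ := SetLike.not_le_iff_exists.mp hJm
  refine ⟨s, hsm, fun t ht => ?_⟩
  have ht0 : t ≠ 0 := fun h => ht (h ▸ m'.zero_mem)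
  have hrad : s ∈ (Ideal.span {t}).radical := by
    rw [Ideal.radical_eq_sInf, Ideal.mem_sInf]
    rintro P ⟨hle, hP⟩
    have htP : t ∈ P := hle (Ideal.mem_span_singleton_self t)
    have hP0 : P ≠ ⊥ := fun h => ht0 (by rw [h] at htP; exact htP)
    have hPmax : P.IsMaximal := Ring.DimensionLEOne.maximalOfPrime hP0 hP
    have hPne : P ≠ m' := fun h => ht (h ▸ htP)
    have hmem : P ∈ hfin.toFinset.erase m' := by
      rw [Finset.mem_erase, Set.Finite.mem_toFinset]
      exact ⟨hPne, hmaxover P hPmax⟩
    have hJP : J ≤ P := by
      rw [hJ]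
      exact Ideal.prod_le_inf.trans (Finset.inf_le hmem)
    exact hJP hsJ
  obtain ⟨N, hN⟩ := Ideal.mem_radical_iff.mp hrad
  obtain ⟨c, hc⟩ := Ideal.mem_span_singleton'.mp hN
  exact ⟨N, c, by rw [← hc, mul_comm]⟩

theorem finitePresentation_atPrime :
    Algebra.FinitePresentation A (Localization.AtPrime m') := by
  obtain ⟨s, hsm, hs⟩ := exists_pow_eq_mul A B' m'
  haveI : Algebra.FinitePresentation A B' :=
    Algebra.FinitePresentation.of_finiteType.mp inferInstance
  haveI : Algebra.FinitePresentation B' (Localization.Away s) :=
    IsLocalization.Away.finitePresentation s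
  haveI : Algebra.FinitePresentation A (Localization.Away s) :=
    Algebra.FinitePresentation.trans A B' (Localization.Away s)
  haveI hloc : IsLocalization m'.primeCompl (Localization.Away s) := by
    apply IsLocalization.of_le (M := Submonoid.powers s) (N := m'.primeCompl)
    · rintro _ ⟨n, rfl⟩
      show s ^ n ∉ m'
      intro h
      exact hsm ((inferInstance : m'.IsPrime).mem_of_pow_mem n h)
    · intro t ht
      obtain ⟨N, c, hc⟩ := hs t ht
      have hu : IsUnit (algebraMap B' (Localization.Away s) (s ^ N)) := by
        rw [map_pow]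
        exact (IsLocalization.Away.algebraMap_isUnit s).pow N
      rw [hc, map_mul] at hu
      exact isUnit_of_mul_isUnit_left hu
  let e : Localization.Away s ≃ₐ[B'] Localization.AtPrime m' :=
    IsLocalization.algEquiv m'.primeCompl _ _
  exact Algebra.FinitePresentation.equiv (e.restrictScalars A)

end FP

end Part3

section Part4

open IsLocalRing Ideal
open Groth.Agent.Lib.R2H1.EtRam Groth.Agent.Lib.R2H1.EtRamGal
open scoped Classical IntermediateField

section Et

variable (A B' : Type u) [CommRing A] [IsDomain A] [IsDiscreteValuationRing A]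
    [CommRing B'] [IsDedekindDomain B'] [Algebra A B'] [Module.Finite A B']
    [Module.IsTorsionFree A B']
    (m' : Ideal B') [m'.IsMaximal] [m'.LiesOver (maximalIdeal A)]

attribute [local instance] Ideal.Quotient.field in
set_option maxHeartbeats 800000 in
theorem etale_atPrime_of_unramified
    (h : (maximalIdeal A).ramificationIdx' m' *
      Field.finInsepDegree (A ⧸ maximalIdeal A) (B' ⧸ m') = 1) :
    Algebra.Etale A (Localization.AtPrime m') := by
  have hp0 : maximalIdeal A ≠ ⊥ := IsDiscreteValuationRing.not_a_field A
  have hm'0 : m' ≠ ⊥ := Ideal.ne_bot_of_liesOver_of_ne_bot hp0 m'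
  haveI : IsDiscreteValuationRing (Localization.AtPrime m') :=
    IsLocalization.AtPrime.isDiscreteValuationRing_of_dedekind_domain B' hm'0 _
  have he := Nat.eq_one_of_mul_eq_one_right h
  have hi := Nat.eq_one_of_mul_eq_one_left h
  haveI hlies : (maximalIdeal (Localization.AtPrime m')).LiesOver (maximalIdeal A) := by
    constructor
    rw [Ideal.under_def, IsScalarTower.algebraMap_eq A B' (Localization.AtPrime m'),
      ← Ideal.comap_comap]
    have h1 : Ideal.comap (algebraMap B' (Localization.AtPrime m'))
        (maximalIdeal (Localization.AtPrime m')) = m' :=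
      IsLocalization.AtPrime.under_maximalIdeal (Localization.AtPrime m') m'
    rw [h1]
    exact (Ideal.over_def m' (maximalIdeal A))
  haveI hloc : IsLocalHom (algebraMap A (Localization.AtPrime m')) := by
    refine ((IsLocalRing.local_hom_TFAE (algebraMap A (Localization.AtPrime m'))).out 0 4).mpr ?_
    exact hlies.over.symm
  have hinj : Function.Injective (algebraMap A (Localization.AtPrime m')) := by
    rw [IsScalarTower.algebraMap_eq A B' (Localization.AtPrime m')]
    exact (IsLocalization.injective _ m'.primeCompl_le_nonZeroDivisors).comp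
      (FaithfulSMul.algebraMap_injective A B')
  have hAS : (maximalIdeal A).map (algebraMap A (Localization.AtPrime m')) ≠ ⊥ := by
    rw [Ne, Ideal.map_eq_bot_iff_of_injective hinj]
    exact hp0
  have hw : (maximalIdeal A).map (algebraMap A (Localization.AtPrime m')) =
      maximalIdeal (Localization.AtPrime m') := by
    have h1 := ramificationIdx'_localization (W := Localization.AtPrime m') m' (maximalIdeal A)
    rw [he] at h1
    exact (isWeaklyUnramified_iff hAS).mpr h1
  haveI hsep : Algebra.IsSeparable (ResidueField A) (ResidueField (Localization.AtPrime m')) := by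
    rw [isSeparable_iff_finInsepDegree_eq_one]
    have h2 := Field.finInsepDegree_eq_of_equiv _ _ _
      (residueEquiv (W := Localization.AtPrime m') m' (maximalIdeal A))
    rw [hi] at h2
    exact h2.symm
  haveI : Algebra.FinitePresentation A (Localization.AtPrime m') :=
    finitePresentation_atPrime A B' m'
  haveI : Algebra.FormallyUnramified A (Localization.AtPrime m') :=
    Algebra.FormallyUnramified.of_map_maximalIdeal hw
  haveI : Module.IsTorsionFree A (Localization.AtPrime m') :=
    (Module.isTorsionFree_iff_algebraMap_injective).mpr hinj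
  haveI : Module.Flat A (Localization.AtPrime m') := inferInstance
  exact Algebra.Etale.of_formallyUnramified_of_flat

end Et

end Part4

section Part5

open IsLocalRing Ideal
open Groth.Agent.Lib.R2H1.EtRam Groth.Agent.Lib.R2H1.EtRamGal
open scoped Classical IntermediateField

attribute [local instance] Ideal.Quotient.field in
set_option maxHeartbeats 1600000 in
theorem main (A K L B : Type u) [CommRing A] [IsDomain A]
    [IsDiscreteValuationRing A] [Field K] [Field L] [Algebra A K] [IsFractionRing A K] [Algebra K L]
    [Algebra A L] [IsScalarTower A K L] [FiniteDimensional K L] [IsGalois K L]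
    [CommRing B] [Algebra A B] [Algebra B L] [IsScalarTower A B L] [IsIntegralClosure B A L]
    [MulSemiringAction (L ≃ₐ[K] L) B]
    (hact : ∀ (σ : L ≃ₐ[K] L) (b : B), algebraMap B L (σ • b) = σ (algebraMap B L b))
    (m : Ideal B) [m.IsMaximal]
    (B' : Type u) [CommRing B'] [Algebra A B'] [Algebra B' B] [IsScalarTower A B' B] [Algebra B' L]
    [IsScalarTower B' B L]
    [Algebra B' (IntermediateField.fixedField (m.inertia (L ≃ₐ[K] L)))]
    [IsScalarTower B' (IntermediateField.fixedField (m.inertia (L ≃ₐ[K] L))) L]
    [IsIntegralClosure B' A (IntermediateField.fixedField (m.inertia (L ≃ₐ[K] L)))] :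
    (∀ b : B, (∀ σ ∈ m.inertia (L ≃ₐ[K] L), σ • b = b) ↔ b ∈ Set.range (algebraMap B' B)) ∧
      Algebra.Etale A (Localization.AtPrime (m.comap (algebraMap B' B))) := by
  refine ⟨fun b => goal1 A K L B hact _ B' b, ?_⟩
  haveI hdB := isDomain_B A L B
  haveI hdB' := isDomain_B A (IntermediateField.fixedField (m.inertia (L ≃ₐ[K] L))) B'
  haveI := isScalarTower_F A K L B (m.inertia (L ≃ₐ[K] L)) B'
  haveI hG := isGaloisGroup_top A K L B hact
  haveI hGI := isGaloisGroup_sub A K L B hact (m.inertia (L ≃ₐ[K] L)) B'
  haveI : IsDedekindDomain B := IsIntegralClosure.isDedekindDomain A K L B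
  haveI : IsDedekindDomain B' := IsIntegralClosure.isDedekindDomain A K (IntermediateField.fixedField (m.inertia (L ≃ₐ[K] L))) B'
  haveI : Module.Finite A B := IsIntegralClosure.finite A K L B
  haveI : Module.Finite A B' := IsIntegralClosure.finite A K (IntermediateField.fixedField (m.inertia (L ≃ₐ[K] L))) B'
  haveI : Module.Finite B' B := Module.Finite.of_restrictScalars_finite A B' B
  have hinjBL : Function.Injective (algebraMap B L) := IsIntegralClosure.algebraMap_injective B A L
  have hinjB'F : Function.Injective
      (algebraMap B' (IntermediateField.fixedField (m.inertia (L ≃ₐ[K] L)))) :=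
    IsIntegralClosure.algebraMap_injective B' A _
  have hinjAL : Function.Injective (algebraMap A L) := by
    rw [IsScalarTower.algebraMap_eq A K L]
    exact (algebraMap K L).injective.comp (IsFractionRing.injective A K)
  have hinjAB : Function.Injective (algebraMap A B) := by
    rw [IsScalarTower.algebraMap_eq A B L, RingHom.coe_comp] at hinjAL
    exact Function.Injective.of_comp hinjAL
  have hinjB'B : Function.Injective (algebraMap B' B) := by
    have h1 : Function.Injective (algebraMap B' L) := by
      rw [IsScalarTower.algebraMap_eq B' (IntermediateField.fixedField (m.inertia (L ≃ₐ[K] L))) L]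
      exact (algebraMap (IntermediateField.fixedField (m.inertia (L ≃ₐ[K] L))) L).injective.comp
        hinjB'F
    rw [IsScalarTower.algebraMap_eq B' B L, RingHom.coe_comp] at h1
    exact Function.Injective.of_comp h1
  have hinjAB' : Function.Injective (algebraMap A B') := by
    rw [IsScalarTower.algebraMap_eq A B' B, RingHom.coe_comp] at hinjAB
    exact Function.Injective.of_comp hinjAB
  haveI : Module.IsTorsionFree A B := (Module.isTorsionFree_iff_algebraMap_injective).mpr hinjAB
  haveI : Module.IsTorsionFree A B' := (Module.isTorsionFree_iff_algebraMap_injective).mpr hinjAB'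
  haveI : Module.IsTorsionFree B' B := (Module.isTorsionFree_iff_algebraMap_injective).mpr hinjB'B
  haveI : Module.Flat A B := inferInstance
  haveI : Module.Flat B' B := inferInstance
  haveI hintAB : Algebra.IsIntegral A B := Algebra.IsIntegral.of_finite A B
  haveI hintB'B : Algebra.IsIntegral B' B := Algebra.IsIntegral.of_finite B' B
  haveI hm_over : m.LiesOver (maximalIdeal A) := by
    constructor
    have : (m.under A).IsMaximal := Ideal.IsMaximal.under A m
    exact (IsLocalRing.eq_maximalIdeal this).symm
  haveI hm'max : (m.comap (algebraMap B' B)).IsMaximal := Ideal.IsMaximal.under B' m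
  haveI hmm' : m.LiesOver (m.comap (algebraMap B' B)) := ⟨rfl⟩
  haveI hm'p : (m.comap (algebraMap B' B)).LiesOver (maximalIdeal A) := by
    constructor
    rw [Ideal.under_def, Ideal.comap_comap, ← IsScalarTower.algebraMap_eq]
    exact hm_over.over
  have hp0 : maximalIdeal A ≠ ⊥ := IsDiscreteValuationRing.not_a_field A
  have hnum := inertia_field_unramified (G := L ≃ₐ[K] L) (maximalIdeal A) hp0 m
    (m.comap (algebraMap B' B))
  exact etale_atPrime_of_unramified A B' (m.comap (algebraMap B' B)) hnum

end Part5

end Groth.Agent.Lib.R2H1.InertiaEtale
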