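/-
R2H1Krasner (helper1): Krasner-type descent of finite separable extensions of the completed fraction field of a DVR (S7138).
* aeval_mem_map, exists_mul_eq_algebraMap (Bezout with cleared denominators in R[X]/(f))
* exists_root_near (Newton step in R[X]/(f)), adjoin_eq_top_of_sub_mem (Nakayama)
* exists_pow_le, dense (A dense in its completion), exists_monic_approx, exists_monic_approx'
* core (complete DVR with dense subring), main_7138
-/
import Mathlib
import Groth.Agent.Lib.Helper14Newton
import Groth.Agent.Lib.R2H1AdicPt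
import Groth.Agent.Lib.Helper19ComplDVR

set_option autoImplicit false
set_option linter.style.haveILetI false
set_option linter.unusedSectionVars false
universe u

namespace Groth.Agent.Lib.R2H1.Krasner

section Part1

open Polynomial


/-- A polynomial with coefficients in `J` takes values in `J B`. -/
theorem aeval_mem_map {R B : Type*} [CommRing R] [CommRing B] [Algebra R B] (J : Ideal R)
    (p : R[X]) (hp : ∀ i, p.coeff i ∈ J) (b : B) :
    aeval b p ∈ J.map (algebraMap R B) := by
  rw [aeval_eq_sum_range]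
  refine Ideal.sum_mem _ (fun i _ => ?_)
  rw [Algebra.smul_def]
  exact Ideal.mul_mem_right _ _ (Ideal.mem_map_of_mem _ (hp i))

/-- Bezout relation with cleared denominators: `f'(ρ) w = d` in `R[X]/(f)`. -/
theorem exists_mul_eq_algebraMap {R F : Type*} [CommRing R] [IsDomain R] [Field F] [Algebra R F]
    [IsFractionRing R F] (f : R[X]) (hsep : (f.map (algebraMap R F)).Separable) :
    ∃ (d : R) (w : AdjoinRoot f), d ≠ 0 ∧
      AdjoinRoot.mk f (derivative f) * w = algebraMap R (AdjoinRoot f) d := by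
  obtain ⟨a, b, hab⟩ := hsep
  obtain ⟨r₁, hr₁⟩ := IsLocalization.integerNormalization_map_to_map (nonZeroDivisors R) a
  obtain ⟨r₂, hr₂⟩ := IsLocalization.integerNormalization_map_to_map (nonZeroDivisors R) b
  set a₁ := IsLocalization.integerNormalization (nonZeroDivisors R) a
  set b₁ := IsLocalization.integerNormalization (nonZeroDivisors R) b
  have hsm : ∀ (r : R) (p : F[X]), r • p = C (algebraMap R F r) * p := by
    intro r p
    rw [Algebra.smul_def, Polynomial.algebraMap_apply]
  have key : C (r₂ : R) * a₁ * f + C (r₁ : R) * b₁ * derivative f = C ((r₁ : R) * r₂) := by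
    apply Polynomial.map_injective (algebraMap R F) (IsFractionRing.injective R F)
    simp only [Polynomial.map_add, Polynomial.map_mul, Polynomial.map_C, hr₁, hr₂,
      ← derivative_map, hsm]
    rw [map_mul, C_mul]
    linear_combination (C (algebraMap R F r₁) * C (algebraMap R F r₂)) * hab
  refine ⟨(r₁ : R) * r₂, AdjoinRoot.mk f (C (r₁ : R) * b₁), ?_, ?_⟩
  · exact mul_ne_zero (nonZeroDivisors.ne_zero r₁.2) (nonZeroDivisors.ne_zero r₂.2)
  · have h := congrArg (AdjoinRoot.mk f) key
    rw [map_add, map_mul, map_mul, AdjoinRoot.mk_self, mul_zero, zero_add] at h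
    rw [AdjoinRoot.algebraMap_eq, ← AdjoinRoot.mk_C, ← h, map_mul, map_mul, map_mul]
    ring

/-- The Newton step: a close monic polynomial has a root close to the tautological root. -/
theorem exists_root_near {R : Type*} [CommRing R] (m : Ideal R) (f g : R[X])
    [IsAdicComplete (m.map (algebraMap R (AdjoinRoot f))) (AdjoinRoot f)]
    (d : R) (w : AdjoinRoot f)
    (hw : AdjoinRoot.mk f (derivative f) * w = algebraMap R (AdjoinRoot f) d)
    (hg : ∀ i, (g - f).coeff i ∈ Ideal.span {d ^ 2} * m) :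
    ∃ b : AdjoinRoot f, aeval b g = 0 ∧
      b - AdjoinRoot.root f ∈ m.map (algebraMap R (AdjoinRoot f)) := by
  set I : Ideal (AdjoinRoot f) := m.map (algebraMap R (AdjoinRoot f)) with hI
  set ρ : AdjoinRoot f := AdjoinRoot.root f
  set D : AdjoinRoot f := algebraMap R (AdjoinRoot f) d with hD
  have hJ : (Ideal.span {d ^ 2} * m).map (algebraMap R (AdjoinRoot f)) =
      Ideal.span {D ^ 2} * I := by
    rw [Ideal.map_mul, Ideal.map_span, Set.image_singleton, map_pow]
  -- value of g at ρ
  obtain ⟨μ, hμ, hμe⟩ : ∃ μ ∈ I, D ^ 2 * μ = aeval ρ g := by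
    have h1 := aeval_mem_map (Ideal.span {d ^ 2} * m) (g - f) hg ρ
    rw [hJ, Ideal.mem_span_singleton_mul] at h1
    obtain ⟨μ, hμ, hμe⟩ := h1
    refine ⟨μ, hμ, ?_⟩
    rw [hμe, map_sub, AdjoinRoot.aeval_eq f, AdjoinRoot.mk_self, sub_zero]
  -- value of g' at ρ
  obtain ⟨ν, hν, hνe⟩ : ∃ ν ∈ I, D ^ 2 * ν = aeval ρ (derivative g) - aeval ρ (derivative f) := by
    have hd : ∀ i, (derivative (g - f)).coeff i ∈ Ideal.span {d ^ 2} * m := by
      intro i
      rw [coeff_derivative]
      exact Ideal.mul_mem_right _ _ (hg _)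
    have h1 := aeval_mem_map (Ideal.span {d ^ 2} * m) (derivative (g - f)) hd ρ
    rw [hJ, Ideal.mem_span_singleton_mul] at h1
    obtain ⟨ν, hν, hνe⟩ := h1
    refine ⟨ν, hν, ?_⟩
    rw [hνe, derivative_sub, map_sub]
  have hw' : aeval ρ (derivative f) * w = D := by
    rw [AdjoinRoot.aeval_eq]; exact hw
  -- unit
  have hjac : I ≤ (⊥ : Ideal (AdjoinRoot f)).jacobson := IsAdicComplete.le_jacobson_bot I
  have hmem : D * ν * w ∈ I := Ideal.mul_mem_right _ _ (Ideal.mul_mem_left _ _ hν)
  have hunit : IsUnit (1 + D * ν * w) := by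
    have := Ideal.mem_jacobson_bot.mp (hjac hmem) 1
    rwa [mul_one, add_comm] at this
  obtain ⟨v, hv⟩ := hunit
  set w₁ : AdjoinRoot f := w * ((v⁻¹ : (AdjoinRoot f)ˣ) : AdjoinRoot f) with hw₁
  have hG' : aeval ρ (derivative g) * w₁ = D := by
    have h2 : aeval ρ (derivative g) = aeval ρ (derivative f) + D ^ 2 * ν := by rw [hνe]; ring
    have h3 : aeval ρ (derivative g) * w = D * (v : AdjoinRoot f) := by
      rw [h2, add_mul, hw', hv]; ring
    rw [hw₁, ← mul_assoc, h3, mul_assoc, Units.mul_inv, mul_one]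
  -- Newton
  have hs : w₁ ^ 2 * μ ∈ I ^ 1 := by
    rw [pow_one]; exact Ideal.mul_mem_left _ _ hμ
  have hF : (g.map (algebraMap R (AdjoinRoot f))).eval ρ =
      ((g.map (algebraMap R (AdjoinRoot f))).derivative.eval ρ) ^ 2 * (w₁ ^ 2 * μ) := by
    rw [derivative_map, eval_map_algebraMap, eval_map_algebraMap, ← hμe]
    have : aeval ρ (derivative g) ^ 2 * (w₁ ^ 2 * μ) = (aeval ρ (derivative g) * w₁) ^ 2 * μ := by
      ring
    rw [this, hG']
  obtain ⟨b, hb0, hb1⟩ := Groth.Agent.Lib.Helper14.Newton.exists_root_of_eval_eq_sq_mul I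
    (g.map (algebraMap R (AdjoinRoot f))) ρ 1 le_rfl (w₁ ^ 2 * μ) hs hF
  rw [eval_map_algebraMap] at hb0
  rw [pow_one] at hb1
  exact ⟨b, hb0, hb1⟩

/-- Nakayama: an element close to the tautological root generates `R[X]/(f)`. -/
theorem adjoin_eq_top_of_sub_mem {R : Type*} [CommRing R] [IsLocalRing R] (f : R[X])
    (hf : f.Monic) (b : AdjoinRoot f)
    (hb : b - AdjoinRoot.root f ∈
      (IsLocalRing.maximalIdeal R).map (algebraMap R (AdjoinRoot f))) :
    Algebra.adjoin R {b} = ⊤ := by
  set I : Ideal (AdjoinRoot f) :=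
    (IsLocalRing.maximalIdeal R).map (algebraMap R (AdjoinRoot f)) with hI
  haveI : Module.Finite R (AdjoinRoot f) := hf.finite_adjoinRoot
  let q : AdjoinRoot f →ₐ[R] AdjoinRoot f ⧸ I := Ideal.Quotient.mkₐ R I
  have hq : q b = q (AdjoinRoot.root f) := by
    show Ideal.Quotient.mk I b = Ideal.Quotient.mk I _
    rw [Ideal.Quotient.eq]; exact hb
  have hmap : (Algebra.adjoin R {b}).map q = (⊤ : Subalgebra R (AdjoinRoot f)).map q := by
    rw [← AdjoinRoot.adjoinRoot_eq_top (f := f), AlgHom.map_adjoin, AlgHom.map_adjoin,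
      Set.image_singleton, Set.image_singleton, hq]
  have hle : (⊤ : Submodule R (AdjoinRoot f)) ≤ Subalgebra.toSubmodule (Algebra.adjoin R {b}) := by
    apply Submodule.le_of_le_smul_of_le_jacobson_bot (I := IsLocalRing.maximalIdeal R)
      Module.Finite.fg_top (IsLocalRing.maximalIdeal_le_jacobson _)
    intro x _
    have hx : q x ∈ (Algebra.adjoin R {b}).map q := by
      rw [hmap]; exact ⟨x, Algebra.mem_top, rfl⟩
    obtain ⟨t, ht, htx⟩ := hx
    have hxt : x - t ∈ I := by
      rw [← Ideal.Quotient.eq]; exact htx.symm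
    rw [Ideal.smul_top_eq_map]
    refine Submodule.mem_sup.mpr ⟨t, ht, x - t, hxt, by ring⟩
  rw [eq_top_iff]
  intro x _
  exact hle (Submodule.mem_top : x ∈ (⊤ : Submodule R (AdjoinRoot f)))

end Part1

section Part2

open Polynomial IsLocalRing


/-- In a DVR, `d² 𝔪` contains a power of `𝔪`. -/
theorem exists_pow_le {R : Type*} [CommRing R] [IsDomain R] [IsDiscreteValuationRing R] (d : R)
    (hd : d ≠ 0) : ∃ N : ℕ, maximalIdeal R ^ N ≤ Ideal.span {d ^ 2} * maximalIdeal R := by
  obtain ⟨ϖ, hϖ⟩ := IsDiscreteValuationRing.exists_irreducible R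
  have h1 : Ideal.span {d ^ 2} * maximalIdeal R ≠ ⊥ := by
    apply mul_ne_zero
    · rw [Ne, Ideal.zero_eq_bot, Ideal.span_singleton_eq_bot]
      exact pow_ne_zero 2 hd
    · exact IsDiscreteValuationRing.not_a_field R
  obtain ⟨n, hn⟩ := IsDiscreteValuationRing.ideal_eq_span_pow_irreducible h1 hϖ
  refine ⟨n, ?_⟩
  rw [hn, hϖ.maximalIdeal_eq, Ideal.span_singleton_pow]

/-- Elements of the completion are approximated by elements of the ring. -/
theorem dense (A : Type*) [CommRing A] [IsLocalRing A] [IsNoetherianRing A]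
    (r : AdicCompletion (maximalIdeal A) A) (N : ℕ) :
    ∃ a : A, r - algebraMap A (AdicCompletion (maximalIdeal A) A) a ∈
      (maximalIdeal (AdicCompletion (maximalIdeal A) A)) ^ N := by
  obtain ⟨a, ha⟩ := Submodule.Quotient.mk_surjective _
    (AdicCompletion.eval (maximalIdeal A) A N r)
  refine ⟨a, ?_⟩
  have hker : r - algebraMap A (AdicCompletion (maximalIdeal A) A) a ∈
      LinearMap.ker (AdicCompletion.eval (maximalIdeal A) A N) := by
    rw [LinearMap.mem_ker, map_sub, ← ha, sub_eq_zero]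
    rfl
  rw [← AdicCompletion.pow_smul_top_eq_ker_eval (maximalIdeal A).fg_of_isNoetherianRing] at hker
  rw [AdicCompletion.maximalIdeal_eq_map, ← Ideal.map_pow]
  have := (Ideal.smul_top_eq_map (R := A) (S := AdicCompletion (maximalIdeal A) A)
    (maximalIdeal A ^ N))
  rw [this] at hker
  exact hker

/-- Approximating a monic polynomial over the completion by a monic polynomial over the ring. -/
theorem exists_monic_approx (A : Type*) [CommRing A] [IsLocalRing A] [IsNoetherianRing A]
    (f : (AdicCompletion (maximalIdeal A) A)[X]) (hf : f.Monic) (N : ℕ) :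
    ∃ g : A[X], g.Monic ∧ g.natDegree = f.natDegree ∧
      ∀ i, (g.map (algebraMap A (AdicCompletion (maximalIdeal A) A)) - f).coeff i ∈
        (maximalIdeal (AdicCompletion (maximalIdeal A) A)) ^ N := by
  classical
  set n := f.natDegree with hn
  choose a ha using fun i : ℕ => dense A (f.coeff i) N
  let q : A[X] := ∑ i : Fin n, C (a i) * X ^ (i : ℕ)
  have hq : q.degree < n := Polynomial.degree_sum_fin_lt _
  have hmon : (X ^ n + q).Monic := Polynomial.monic_X_pow_add hq
  have hdeg : (X ^ n + q).natDegree = n := by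
    rw [natDegree_add_eq_left_of_degree_lt (by rw [degree_X_pow]; exact hq), natDegree_X_pow]
  have hcoeff : ∀ i, i < n → (X ^ n + q).coeff i = a i := by
    intro i hi
    rw [coeff_add, coeff_X_pow, if_neg (ne_of_lt hi), zero_add, Polynomial.finset_sum_coeff]
    simp only [coeff_C_mul, coeff_X_pow]
    rw [Finset.sum_eq_single (⟨i, hi⟩ : Fin n)]
    · simp
    · intro j _ hj
      have : i ≠ (j : ℕ) := fun h => hj (Fin.ext h.symm)
      simp [this]
    · intro h; exact absurd (Finset.mem_univ _) h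
  refine ⟨X ^ n + q, hmon, hdeg, fun i => ?_⟩
  rw [coeff_sub, coeff_map]
  rcases lt_trichotomy i n with hi | hi | hi
  · rw [hcoeff i hi]
    rw [← neg_sub]
    exact neg_mem (ha i)
  · subst hi
    have h1 : (X ^ n + q).coeff n = 1 := by
      have := hmon.coeff_natDegree
      rwa [hdeg] at this
    have h2 : f.coeff n = 1 := hf.coeff_natDegree
    rw [h1, h2, map_one, sub_self]
    exact Ideal.zero_mem _
  · have h1 : (X ^ n + q).coeff i = 0 := by
      apply coeff_eq_zero_of_natDegree_lt; rw [hdeg]; exact hi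
    have h2 : f.coeff i = 0 := coeff_eq_zero_of_natDegree_lt hi
    rw [h1, h2, map_zero, sub_self]
    exact Ideal.zero_mem _

end Part2

section Part3

open Polynomial IsLocalRing IntermediateField


/-- Approximating a monic polynomial by a monic polynomial over a dense subring. -/
theorem exists_monic_approx' (A₀ R : Type*) [CommRing A₀] [CommRing R] [Nontrivial A₀]
    [Algebra A₀ R] (m : Ideal R)
    (hdense : ∀ (r : R) (N : ℕ), ∃ a : A₀, r - algebraMap A₀ R a ∈ m ^ N)
    (f : R[X]) (hf : f.Monic) (N : ℕ) :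
    ∃ g : A₀[X], g.Monic ∧ g.natDegree = f.natDegree ∧
      ∀ i, (g.map (algebraMap A₀ R) - f).coeff i ∈ m ^ N := by
  classical
  set n := f.natDegree with hn
  choose a ha using fun i : ℕ => hdense (f.coeff i) N
  let q : A₀[X] := ∑ i : Fin n, C (a i) * X ^ (i : ℕ)
  have hq : q.degree < n := Polynomial.degree_sum_fin_lt _
  have hmon : (X ^ n + q).Monic := Polynomial.monic_X_pow_add hq
  have hdeg : (X ^ n + q).natDegree = n := by
    rw [natDegree_add_eq_left_of_degree_lt (by rw [degree_X_pow]; exact hq), natDegree_X_pow]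
  have hcoeff : ∀ i, i < n → (X ^ n + q).coeff i = a i := by
    intro i hi
    rw [coeff_add, coeff_X_pow, if_neg (ne_of_lt hi), zero_add, Polynomial.finset_sum_coeff]
    simp only [coeff_C_mul, coeff_X_pow]
    rw [Finset.sum_eq_single (⟨i, hi⟩ : Fin n)]
    · simp
    · intro j _ hj
      have : i ≠ (j : ℕ) := fun h => hj (Fin.ext h.symm)
      simp [this]
    · intro h; exact absurd (Finset.mem_univ _) h
  refine ⟨X ^ n + q, hmon, hdeg, fun i => ?_⟩
  rw [coeff_sub, coeff_map]
  rcases lt_trichotomy i n with hi | hi | hi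
  · rw [hcoeff i hi, ← neg_sub]
    exact neg_mem (ha i)
  · subst hi
    have h1 : (X ^ n + q).coeff n = 1 := by
      have := hmon.coeff_natDegree
      rwa [hdeg] at this
    have h2 : f.coeff n = 1 := hf.coeff_natDegree
    rw [h1, h2, map_one, sub_self]
    exact Ideal.zero_mem _
  · have h1 : (X ^ n + q).coeff i = 0 := by
      apply coeff_eq_zero_of_natDegree_lt; rw [hdeg]; exact hi
    have h2 : f.coeff i = 0 := coeff_eq_zero_of_natDegree_lt hi
    rw [h1, h2, map_zero, sub_self]
    exact Ideal.zero_mem _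

set_option maxHeartbeats 800000 in
/-- Core Krasner-type statement over a complete DVR with a dense subring. -/
theorem core (A₀ R F M : Type u) [CommRing A₀] [Nontrivial A₀] [CommRing R] [IsDomain R]
    [IsDiscreteValuationRing R]
    [IsAdicComplete (maximalIdeal R) R] [Algebra A₀ R]
    (hdense : ∀ (r : R) (N : ℕ), ∃ a : A₀, r - algebraMap A₀ R a ∈ maximalIdeal R ^ N)
    [Field F] [Algebra R F] [IsFractionRing R F] [Field M] [Algebra F M] [Algebra R M]
    [IsScalarTower R F M] [FiniteDimensional F M] [Algebra.IsSeparable F M] :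
    ∃ (g : A₀[X]) (ρ : M), g.Monic ∧ g.natDegree = Module.finrank F M ∧
      aeval ρ (g.map (algebraMap A₀ R)) = 0 ∧ F⟮ρ⟯ = ⊤ := by
  classical
  obtain ⟨α, hα⟩ := Field.exists_primitive_element F M
  have halgF : IsAlgebraic F α := Algebra.IsAlgebraic.isAlgebraic α
  have halg : IsAlgebraic R α := (IsFractionRing.isAlgebraic_iff R F M).mpr halgF
  obtain ⟨y, hy0, hy⟩ := halg.exists_integral_multiple
  set θ : M := y • α with hθ
  have hyF : algebraMap R F y ≠ 0 := by
    rw [Ne, IsFractionRing.to_map_eq_zero_iff]; exact hy0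
  have hθtop : F⟮θ⟯ = ⊤ := by
    rw [eq_top_iff, ← hα, adjoin_simple_le_iff]
    have h1 : θ ∈ F⟮θ⟯ := mem_adjoin_simple_self F θ
    have h2 : α = (algebraMap R F y)⁻¹ • θ := by
      rw [hθ, ← algebraMap_smul F y α, smul_smul, inv_mul_cancel₀ hyF, one_smul]
    rw [h2]
    exact F⟮θ⟯.smul_mem h1
  set f := minpoly R θ with hfdef
  have hfm : f.Monic := minpoly.monic hy
  have hf0 : aeval θ f = 0 := minpoly.aeval R θ
  have hmap : minpoly F θ = f.map (algebraMap R F) :=
    minpoly.isIntegrallyClosed_eq_field_fractions' F hy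
  have hsep : (f.map (algebraMap R F)).Separable := by
    rw [← hmap]; exact Algebra.IsSeparable.isSeparable F θ
  have hθint : IsIntegral F θ := Algebra.IsIntegral.isIntegral θ
  have hdeg : f.natDegree = Module.finrank F M := by
    rw [← finrank_top', ← hθtop, adjoin.finrank hθint, hmap, hfm.natDegree_map]
  obtain ⟨d, w, hd0, hw⟩ := exists_mul_eq_algebraMap (F := F) f hsep
  obtain ⟨N, hN⟩ := exists_pow_le d hd0
  obtain ⟨g, hgm, hgdeg, hgc⟩ := exists_monic_approx' A₀ R (maximalIdeal R) hdense f hfm N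
  haveI := hfm.finite_adjoinRoot
  haveI := hfm.free_adjoinRoot
  haveI h1 : IsAdicComplete (maximalIdeal R) (AdjoinRoot f) :=
    Groth.Agent.Lib.R2H1.AdicPt.isAdicComplete_of_free (maximalIdeal R) (AdjoinRoot f)
  haveI : IsAdicComplete ((maximalIdeal R).map (algebraMap R (AdjoinRoot f))) (AdjoinRoot f) :=
    (IsAdicComplete.map_algebraMap_iff _ _).mpr h1
  obtain ⟨b, hb0, hb1⟩ := exists_root_near (maximalIdeal R) f (g.map (algebraMap A₀ R)) d w hw
    (fun i => hN (hgc i))
  have hadj := adjoin_eq_top_of_sub_mem f hfm b hb1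
  have hf0' : f.eval₂ (Algebra.ofId R M) θ = 0 := by
    rw [← hf0, aeval_def]; rfl
  let φ : AdjoinRoot f →ₐ[R] M := AdjoinRoot.liftAlgHom f (Algebra.ofId R M) θ hf0'
  have hφroot : φ (AdjoinRoot.root f) = θ := AdjoinRoot.liftAlgHom_root f _ θ hf0'
  refine ⟨g, φ b, hgm, hgdeg.trans hdeg, ?_, ?_⟩
  · rw [aeval_algHom_apply, hb0, map_zero]
  · rw [eq_top_iff, ← hθtop, adjoin_simple_le_iff]
    have h2 : AdjoinRoot.root f ∈ Algebra.adjoin R {b} := by rw [hadj]; exact Algebra.mem_top
    have h3 : θ ∈ (Algebra.adjoin R {b}).map φ := ⟨_, h2, hφroot⟩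
    rw [AlgHom.map_adjoin, Set.image_singleton] at h3
    have h4 : Algebra.adjoin R {φ b} ≤ (F⟮φ b⟯.toSubalgebra).restrictScalars R := by
      apply Algebra.adjoin_le
      rw [Set.singleton_subset_iff]
      exact mem_adjoin_simple_self F (φ b)
    exact h4 h3

end Part3

section Part4

open Polynomial IsLocalRing IntermediateField TensorProduct


set_option maxHeartbeats 1600000 in
theorem main_7138 (A K : Type u) [CommRing A] [IsDomain A]
    [IsDiscreteValuationRing A] [Field K] [Algebra A K] [IsFractionRing A K]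
    (Kh : Type u) [Field Kh] [Algebra (AdicCompletion (IsLocalRing.maximalIdeal A) A) Kh]
    [IsFractionRing (AdicCompletion (IsLocalRing.maximalIdeal A) A) Kh] [Algebra A Kh] [Algebra K Kh]
    [IsScalarTower A (AdicCompletion (IsLocalRing.maximalIdeal A) A) Kh] [IsScalarTower A K Kh]
    (M : Type u) [Field M] [Algebra Kh M] [FiniteDimensional Kh M] [Algebra.IsSeparable Kh M] :
    ∃ (L : Type u) (_ : Field L) (_ : Algebra K L), FiniteDimensional K L ∧
      Algebra.IsSeparable K L ∧ Nonempty ((Kh ⊗[K] L) ≃ₐ[Kh] M) := by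
  classical
  obtain ⟨hdom, hdvr⟩ := (Groth.Agent.Lib.Helper19.isDiscreteValuationRing_iff_adicCompletion A).mp
    ⟨inferInstance, inferInstance⟩
  letI : Algebra (AdicCompletion (maximalIdeal A) A) M :=
    ((algebraMap Kh M).comp (algebraMap (AdicCompletion (maximalIdeal A) A) Kh)).toAlgebra
  haveI : IsScalarTower (AdicCompletion (maximalIdeal A) A) Kh M :=
    IsScalarTower.of_algebraMap_eq (fun _ => rfl)
  letI : Algebra K M := ((algebraMap Kh M).comp (algebraMap K Kh)).toAlgebra
  haveI : IsScalarTower K Kh M := IsScalarTower.of_algebraMap_eq (fun _ => rfl)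
  obtain ⟨g, ρ, hgm, hgdeg, hg0, hρtop⟩ :=
    core A (AdicCompletion (maximalIdeal A) A) Kh M (fun r N => dense A r N)
  -- polynomial over K
  set gK : K[X] := g.map (algebraMap A K) with hgK
  have hgKm : gK.Monic := hgm.map _
  have hgKdeg : gK.natDegree = Module.finrank Kh M := by
    rw [hgK, hgm.natDegree_map, hgdeg]
  have hρ0 : aeval ρ (gK.map (algebraMap K Kh)) = 0 := by
    rw [← hg0, aeval_def, aeval_def, hgK, eval₂_map, eval₂_map, eval₂_map]
    congr 1
    ext a
    show algebraMap Kh M (algebraMap K Kh (algebraMap A K a)) =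
      algebraMap Kh M (algebraMap (AdicCompletion (maximalIdeal A) A) Kh (algebraMap A _ a))
    rw [← IsScalarTower.algebraMap_apply A K Kh,
      ← IsScalarTower.algebraMap_apply A (AdicCompletion (maximalIdeal A) A) Kh]
  have hρint : IsIntegral Kh ρ := Algebra.IsIntegral.isIntegral ρ
  have hmin : gK.map (algebraMap K Kh) = minpoly Kh ρ := by
    apply Polynomial.eq_of_monic_of_dvd_of_natDegree_le (minpoly.monic hρint) (hgKm.map _)
      (minpoly.dvd Kh ρ hρ0)
    rw [(hgKm).natDegree_map, hgKdeg, ← finrank_top', ← hρtop, adjoin.finrank hρint]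
  have hirrKh : Irreducible (gK.map (algebraMap K Kh)) := hmin ▸ minpoly.irreducible hρint
  have hsepKh : (gK.map (algebraMap K Kh)).Separable :=
    hmin ▸ Algebra.IsSeparable.isSeparable Kh ρ
  have hirr : Irreducible gK :=
    Polynomial.Monic.irreducible_of_irreducible_map (algebraMap K Kh) gK hgKm hirrKh
  have hsep : gK.Separable := Polynomial.separable_map (algebraMap K Kh) |>.mp hsepKh
  haveI : Fact (Irreducible gK) := ⟨hirr⟩
  haveI hfinL : Module.Finite K (AdjoinRoot gK) := hgKm.finite_adjoinRoot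
  haveI hfreeL : Module.Free K (AdjoinRoot gK) := hgKm.free_adjoinRoot
  have hsepL : Algebra.IsSeparable K (AdjoinRoot gK) := by
    have hrootint : IsIntegral K (AdjoinRoot.root gK) := Algebra.IsIntegral.isIntegral _
    have h1 : K⟮AdjoinRoot.root gK⟯ = ⊤ :=
      (adjoin_simple_eq_top_iff_of_isAlgebraic hrootint.isAlgebraic).mpr
        (AdjoinRoot.adjoinRoot_eq_top (f := gK))
    have hminroot : minpoly K (AdjoinRoot.root gK) = gK := by
      rw [AdjoinRoot.minpoly_root hirr.ne_zero, hgKm.leadingCoeff, inv_one, map_one, mul_one]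
    have h2 : IsSeparable K (AdjoinRoot.root gK) := by
      show (minpoly K (AdjoinRoot.root gK)).Separable
      rw [hminroot]; exact hsep
    haveI h3 : Algebra.IsSeparable K K⟮AdjoinRoot.root gK⟯ :=
      (isSeparable_adjoin_simple_iff_isSeparable K (AdjoinRoot gK)).mpr h2
    rw [h1] at h3
    exact AlgEquiv.Algebra.isSeparable (topEquiv (F := K) (E := AdjoinRoot gK))
  refine ⟨AdjoinRoot gK, inferInstance, inferInstance, hfinL, hsepL, ?_⟩
  -- the comparison map
  have hρ0' : gK.eval₂ (Algebra.ofId K M) ρ = 0 := by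
    have : aeval ρ gK = 0 := by
      rw [← aeval_map_algebraMap Kh] ; exact hρ0
    rw [← this, aeval_def]; rfl
  let ℓ : AdjoinRoot gK →ₐ[K] M := AdjoinRoot.liftAlgHom gK (Algebra.ofId K M) ρ hρ0'
  have hℓroot : ℓ (AdjoinRoot.root gK) = ρ := AdjoinRoot.liftAlgHom_root gK _ ρ hρ0'
  let Ψ : Kh ⊗[K] AdjoinRoot gK →ₐ[Kh] M :=
    Algebra.TensorProduct.lift (Algebra.ofId Kh M) ℓ (fun _ _ => Commute.all _ _)
  have hΨ : Ψ (1 ⊗ₜ AdjoinRoot.root gK) = ρ := by
    simp [Ψ, hℓroot]
  have hsurj : Function.Surjective Ψ := by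
    have h1 : Algebra.adjoin Kh {ρ} = ⊤ :=
      (adjoin_simple_eq_top_iff_of_isAlgebraic hρint.isAlgebraic).mp hρtop
    have h2 : Algebra.adjoin Kh {ρ} ≤ Ψ.range := by
      apply Algebra.adjoin_le
      rw [Set.singleton_subset_iff]
      exact ⟨_, hΨ⟩
    rw [h1] at h2
    intro x
    exact h2 Algebra.mem_top
  have hfr : Module.finrank Kh (Kh ⊗[K] AdjoinRoot gK) = Module.finrank Kh M := by
    rw [Module.finrank_baseChange, ← hgKdeg]
    rw [(AdjoinRoot.powerBasis hirr.ne_zero).finrank, AdjoinRoot.powerBasis_dim]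
  have hinj : Function.Injective Ψ :=
    (LinearMap.injective_iff_surjective_of_finrank_eq_finrank hfr (f := Ψ.toLinearMap)).mpr hsurj
  exact ⟨AlgEquiv.ofBijective Ψ ⟨hinj, hsurj⟩⟩

end Part4

end Groth.Agent.Lib.R2H1.Krasner
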