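import Mathlib
import Groth.Agent.Lib.Helper5IntDim

/-!
# Kummer algebras `A[T_i]/(T_i^{n_i} - f_i)` (helper2, run 2)

* `retr`: an `A`-linear retraction of `A → A[T_i]/(T_i^{n_i} - f_i)`; `algebraMap_injective`.
* `isIntegral`: the Kummer algebra is integral over `A`.
* local structure over a local ring when `f_i ∈ m`, regularity, etaleness after inverting `f_i`.
-/

set_option autoImplicit false
universe u

namespace Groth.Agent.Lib.R2H2.KummerAlg

open MvPolynomial

variable {A : Type u} [CommRing A] {ι : Type} (f : ι → A) (n : ι → ℕ)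

/-- the Kummer ideal -/
noncomputable abbrev kI : Ideal (MvPolynomial ι A) :=
  Ideal.span (Set.range fun i => (X i : MvPolynomial ι A) ^ n i - C (f i))

/-- the Kummer algebra -/
noncomputable abbrev K : Type u := MvPolynomial ι A ⧸ kI f n

/-- the class of `T_i` -/
noncomputable def tGen (i : ι) : K f n := Ideal.Quotient.mk _ (X i)

theorem tGen_pow (i : ι) : tGen f n i ^ n i = algebraMap A (K f n) (f i) := by
  have h : (X i : MvPolynomial ι A) ^ n i - C (f i) ∈ kI f n := Ideal.subset_span ⟨i, rfl⟩
  have h2 := Ideal.Quotient.eq_zero_iff_mem.mpr h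
  rw [map_sub, map_pow, sub_eq_zero] at h2
  exact h2

theorem algebraMap_eq (a : A) : algebraMap A (K f n) a = Ideal.Quotient.mk _ (C a) := rfl

section Retraction

variable [Fintype ι]

/-- coefficient used for the retraction -/
noncomputable def cf (e : ι →₀ ℕ) : A :=
  open Classical in if ∀ j, n j ∣ e j then ∏ j, f j ^ (e j / n j) else 0

theorem cf_zero : cf f n 0 = 1 := by
  classical
  unfold cf
  rw [if_pos (fun j => by simp)]
  simp

theorem cf_add_single [DecidableEq ι] (hn : ∀ i, 0 < n i) (e : ι →₀ ℕ) (i : ι) :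
    cf f n (e + Finsupp.single i (n i)) = f i * cf f n e := by
  classical
  unfold cf
  have hdvd : (∀ j, n j ∣ (e + Finsupp.single i (n i)) j) ↔ ∀ j, n j ∣ e j := by
    refine forall_congr' fun j => ?_
    by_cases hj : j = i
    · subst hj
      simp
    · simp [Ne.symm hj]
  by_cases h : ∀ j, n j ∣ e j
  · rw [if_pos h, if_pos (hdvd.mpr h)]
    have : ∀ j, f j ^ ((e + Finsupp.single i (n i)) j / n j) =
        f j ^ (e j / n j) * (if j = i then f i else 1) := by
      intro j
      by_cases hj : j = i
      · subst hj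
        simp only [Finsupp.add_apply, Finsupp.single_eq_same, if_true]
        rw [Nat.add_div_right _ (hn j), pow_succ]
      · simp [hj]
    simp_rw [this]
    rw [Finset.prod_mul_distrib, Finset.prod_ite_eq' Finset.univ i]
    simp [mul_comm]
  · rw [if_neg h, if_neg (fun h' => h (hdvd.mp h')), mul_zero]

/-- the retraction on polynomials -/
noncomputable def retr₀ : MvPolynomial ι A →ₗ[A] A :=
  (MvPolynomial.basisMonomials ι A).constr A (fun e => cf f n e)

theorem retr₀_monomial (e : ι →₀ ℕ) (a : A) : retr₀ f n (monomial e a) = a * cf f n e := by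
  have h : monomial e a = a • (MvPolynomial.basisMonomials ι A) e := by
    rw [MvPolynomial.coe_basisMonomials, smul_monomial, smul_eq_mul, mul_one]
  rw [h, map_smul, retr₀, Module.Basis.constr_basis, smul_eq_mul]

theorem retr₀_C (a : A) : retr₀ f n (C a) = a := by
  rw [← monomial_zero', retr₀_monomial, cf_zero, mul_one]

theorem retr₀_mul_gen (hn : ∀ i, 0 < n i) (q : MvPolynomial ι A) (i : ι) :
    retr₀ f n (q * ((X i : MvPolynomial ι A) ^ n i - C (f i))) = 0 := by
  classical
  induction q using MvPolynomial.induction_on' with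
  | monomial e a =>
    rw [mul_sub, map_sub, X_pow_eq_monomial, monomial_mul, mul_one, mul_comm (monomial e a) (C (f i)),
      C_mul_monomial, retr₀_monomial, retr₀_monomial, cf_add_single f n hn]
    ring
  | add p q hp hq => rw [add_mul, map_add, hp, hq, add_zero]

theorem retr₀_eq_zero_of_mem (hn : ∀ i, 0 < n i) (p : MvPolynomial ι A) (hp : p ∈ kI f n) :
    retr₀ f n p = 0 := by
  have key : ∀ q : MvPolynomial ι A, retr₀ f n (q * p) = 0 := by
    induction hp using Submodule.span_induction with
    | mem x hx =>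
      obtain ⟨i, rfl⟩ := hx
      intro q
      exact retr₀_mul_gen f n hn q i
    | zero => intro q; rw [mul_zero, map_zero]
    | add x y _ _ hx hy => intro q; rw [mul_add, map_add, hx, hy, add_zero]
    | smul a x _ hx => intro q; rw [smul_eq_mul, ← mul_assoc]; exact hx _
  simpa using key 1

theorem algebraMap_injective (hn : ∀ i, 0 < n i) : Function.Injective (algebraMap A (K f n)) := by
  refine (injective_iff_map_eq_zero _).mpr fun a ha => ?_
  have hmem : (C a : MvPolynomial ι A) ∈ kI f n := Ideal.Quotient.eq_zero_iff_mem.mp ha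
  have := retr₀_eq_zero_of_mem f n hn _ hmem
  rwa [retr₀_C] at this

end Retraction

section Integral

theorem isIntegral_tGen (hn : ∀ i, 0 < n i) (i : ι) : IsIntegral A (tGen f n i) := by
  refine ⟨Polynomial.X ^ n i - Polynomial.C (f i), Polynomial.monic_X_pow_sub_C _ (hn i).ne', ?_⟩
  rw [Polynomial.eval₂_sub, Polynomial.eval₂_pow, Polynomial.eval₂_X, Polynomial.eval₂_C,
    tGen_pow, sub_self]

theorem isIntegral (hn : ∀ i, 0 < n i) : Algebra.IsIntegral A (K f n) := by
  refine ⟨fun x => ?_⟩
  obtain ⟨p, rfl⟩ := Ideal.Quotient.mk_surjective x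
  induction p using MvPolynomial.induction_on with
  | C a => exact isIntegral_algebraMap (R := A) (A := K f n) (x := a)
  | add p q hp hq => rw [map_add]; exact hp.add hq
  | mul_X p i hp =>
    rw [map_mul]
    exact hp.mul (isIntegral_tGen f n hn i)

end Integral

section Local

open IsLocalRing

variable [IsLocalRing A]

/-- the residue map on polynomials: `T_i ↦ 0` -/
noncomputable def resMap₀ : MvPolynomial ι A →+* ResidueField A :=
  eval₂Hom (residue A) (fun _ => 0)

theorem resMap₀_apply (p : MvPolynomial ι A) :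
    resMap₀ (ι := ι) p = residue A (constantCoeff p) :=
  eval₂Hom_zero'_apply _ _

theorem resMap₀_eq_zero_of_mem (hm : ∀ i, f i ∈ maximalIdeal A) (hn : ∀ i, 0 < n i)
    (p : MvPolynomial ι A) (hp : p ∈ kI f n) : resMap₀ p = 0 := by
  have hle : kI f n ≤ RingHom.ker (resMap₀ (A := A) (ι := ι)) := by
    rw [Ideal.span_le]
    rintro _ ⟨i, rfl⟩
    rw [SetLike.mem_coe, RingHom.mem_ker, resMap₀_apply, map_sub, map_pow, constantCoeff_X,
      constantCoeff_C, zero_pow (hn i).ne', zero_sub, map_neg, neg_eq_zero]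
    exact (residue_eq_zero_iff _).mpr (hm i)
  exact hle hp

/-- the residue map `K f n → k` -/
noncomputable def resMap (hm : ∀ i, f i ∈ maximalIdeal A) (hn : ∀ i, 0 < n i) :
    K f n →+* ResidueField A :=
  Ideal.Quotient.lift (kI f n) resMap₀ (resMap₀_eq_zero_of_mem f n hm hn)

theorem resMap_mk (hm : ∀ i, f i ∈ maximalIdeal A) (hn : ∀ i, 0 < n i) (p : MvPolynomial ι A) :
    resMap f n hm hn (Ideal.Quotient.mk _ p) = residue A (constantCoeff p) :=
  resMap₀_apply p

theorem resMap_algebraMap (hm : ∀ i, f i ∈ maximalIdeal A) (hn : ∀ i, 0 < n i) (a : A) :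
    resMap f n hm hn (algebraMap A (K f n) a) = residue A a := by
  rw [algebraMap_eq, resMap_mk, constantCoeff_C]

theorem resMap_tGen (hm : ∀ i, f i ∈ maximalIdeal A) (hn : ∀ i, 0 < n i) (i : ι) :
    resMap f n hm hn (tGen f n i) = 0 := by
  rw [tGen, resMap_mk, constantCoeff_X, map_zero]

theorem resMap_surjective (hm : ∀ i, f i ∈ maximalIdeal A) (hn : ∀ i, 0 < n i) :
    Function.Surjective (resMap f n hm hn) := by
  intro y
  obtain ⟨a, rfl⟩ := residue_surjective y
  exact ⟨algebraMap A (K f n) a, resMap_algebraMap f n hm hn a⟩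

/-- the candidate maximal ideal `(m, T_i)` -/
noncomputable def mI : Ideal (K f n) :=
  Ideal.map (algebraMap A (K f n)) (maximalIdeal A) ⊔ Ideal.span (Set.range (tGen f n))

omit [IsLocalRing A] in
theorem sub_C_constantCoeff_mem (p : MvPolynomial ι A) :
    p - C (constantCoeff p) ∈ Ideal.span (Set.range (X : ι → MvPolynomial ι A)) := by
  induction p using MvPolynomial.induction_on with
  | C a => simp
  | add p q hp hq =>
    have : p + q - C (constantCoeff (p + q)) =
        (p - C (constantCoeff p)) + (q - C (constantCoeff q)) := by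
      rw [map_add, map_add]; ring
    rw [this]
    exact Ideal.add_mem _ hp hq
  | mul_X p i _ =>
    rw [map_mul, constantCoeff_X, mul_zero, map_zero, sub_zero]
    exact Ideal.mul_mem_left _ _ (Ideal.subset_span ⟨i, rfl⟩)

theorem ker_resMap (hm : ∀ i, f i ∈ maximalIdeal A) (hn : ∀ i, 0 < n i) :
    RingHom.ker (resMap f n hm hn) = mI f n := by
  apply le_antisymm
  · intro x hx
    obtain ⟨p, rfl⟩ := Ideal.Quotient.mk_surjective x
    rw [RingHom.mem_ker, resMap_mk, residue_eq_zero_iff] at hx
    have h1 : Ideal.Quotient.mk (kI f n) (C (constantCoeff p)) ∈ mI f n :=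
      Ideal.mem_sup_left (Ideal.mem_map_of_mem _ hx)
    have h2 : Ideal.Quotient.mk (kI f n) (p - C (constantCoeff p)) ∈ mI f n := by
      apply Ideal.mem_sup_right
      have := Ideal.mem_map_of_mem (Ideal.Quotient.mk (kI f n)) (sub_C_constantCoeff_mem p)
      rw [Ideal.map_span, ← Set.range_comp] at this
      exact this
    have : Ideal.Quotient.mk (kI f n) p = Ideal.Quotient.mk (kI f n) (C (constantCoeff p)) +
        Ideal.Quotient.mk (kI f n) (p - C (constantCoeff p)) := by
      rw [← map_add]; congr 1; ring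
    rw [this]
    exact Ideal.add_mem _ h1 h2
  · rw [mI, sup_le_iff]
    constructor
    · rw [Ideal.map_le_iff_le_comap]
      intro a ha
      rw [Ideal.mem_comap, RingHom.mem_ker, resMap_algebraMap]
      exact (residue_eq_zero_iff _).mpr ha
    · rw [Ideal.span_le]
      rintro _ ⟨i, rfl⟩
      exact resMap_tGen f n hm hn i

theorem mI_isMaximal (hm : ∀ i, f i ∈ maximalIdeal A) (hn : ∀ i, 0 < n i) :
    (mI f n).IsMaximal := by
  rw [← ker_resMap f n hm hn]
  exact RingHom.ker_isMaximal_of_surjective _ (resMap_surjective f n hm hn)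

/-- every prime containing `m K` is `mI` -/
theorem eq_mI_of_isPrime (hm : ∀ i, f i ∈ maximalIdeal A) (hn : ∀ i, 0 < n i) (q : Ideal (K f n))
    [q.IsPrime] (hq : Ideal.map (algebraMap A (K f n)) (maximalIdeal A) ≤ q) : q = mI f n := by
  have hle : mI f n ≤ q := by
    rw [mI, sup_le_iff]
    refine ⟨hq, ?_⟩
    rw [Ideal.span_le]
    rintro _ ⟨i, rfl⟩
    apply Ideal.IsPrime.mem_of_pow_mem inferInstance (n i)
    rw [tGen_pow]
    exact hq (Ideal.mem_map_of_mem _ (hm i))
  exact ((mI_isMaximal f n hm hn).eq_of_le (Ideal.IsPrime.ne_top inferInstance) hle).symm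

theorem isLocalRing (hm : ∀ i, f i ∈ maximalIdeal A) (hn : ∀ i, 0 < n i) :
    IsLocalRing (K f n) := by
  have := isIntegral f n hn
  apply IsLocalRing.of_unique_max_ideal
  refine ⟨mI f n, mI_isMaximal f n hm hn, fun M hM => ?_⟩
  have hM' : M.IsMaximal := hM
  have hc : (M.comap (algebraMap A (K f n))).IsMaximal :=
    Ideal.isMaximal_comap_of_isIntegral_of_isMaximal M
  have hc' : M.comap (algebraMap A (K f n)) = maximalIdeal A := IsLocalRing.eq_maximalIdeal hc
  have : M.IsPrime := hM'.isPrime
  apply eq_mI_of_isPrime f n hm hn M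
  rw [Ideal.map_le_iff_le_comap, hc']

theorem maximalIdeal_eq (hm : ∀ i, f i ∈ maximalIdeal A) (hn : ∀ i, 0 < n i) :
    letI := isLocalRing f n hm hn
    maximalIdeal (K f n) = mI f n := by
  let := isLocalRing f n hm hn
  exact (IsLocalRing.eq_maximalIdeal (mI_isMaximal f n hm hn)).symm

end Local

section Regular

open IsLocalRing

variable [Fintype ι]

theorem isRegularLocalRing [IsRegularLocalRing A] (hm : ∀ i, f i ∈ maximalIdeal A)
    (hn : ∀ i, 0 < n i)
    (hf : LinearIndependent (ResidueField A)
      (fun i => (maximalIdeal A).toCotangent ⟨f i, hm i⟩)) :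
    IsRegularLocalRing (K f n) := by
  have hloc := isLocalRing f n hm hn
  have hint := isIntegral f n hn
  have hdim : ringKrullDim (K f n) = ringKrullDim A :=
    Groth.Agent.Lib.Helper5.ringKrullDim_eq_of_isIntegral_of_injective A (K f n)
      (algebraMap_injective f n hn)
  apply IsRegularLocalRing.of_spanFinrank_maximalIdeal_le
  have hmax : maximalIdeal (K f n) = mI f n :=
    (IsLocalRing.eq_maximalIdeal (mI_isMaximal f n hm hn)).symm
  rw [hdim, hmax]
  have hd : (Module.finrank (ResidueField A) (CotangentSpace A) : WithBot ℕ∞) = ringKrullDim A :=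
    (IsRegularLocalRing.iff_finrank_cotangentSpace A).mp inferInstance
  rw [← hd]
  -- extend to a basis
  let v : ι → CotangentSpace A := fun i => (maximalIdeal A).toCotangent ⟨f i, hm i⟩
  have hs : LinearIndepOn (ResidueField A) id (Set.range v) := hf.linearIndepOn_id
  let b : Set (CotangentSpace A) := hs.extend (Set.subset_univ _)
  have hb_sub : Set.range v ⊆ b := hs.subset_extend _
  let B : Module.Basis b (ResidueField A) (CotangentSpace A) := Module.Basis.extend hs
  have hBrange : Set.range B = b := Module.Basis.range_extend hs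
  have hbfin : b.Finite := by
    have : Finite b := Module.Finite.finite_basis B
    exact Set.toFinite b
  have hcard : (b.encard : ℕ∞) = Module.finrank (ResidueField A) (CotangentSpace A) := by
    rw [Module.finrank_eq_nat_card_basis B, Nat.card_coe_set_eq, hbfin.cast_ncard_eq]
  choose g hg using (maximalIdeal A).toCotangent_surjective
  let G : Set (maximalIdeal A) := g '' (b \ Set.range v)
  let s : Set (maximalIdeal A) := Set.range (fun i => (⟨f i, hm i⟩ : maximalIdeal A)) ∪ G
  have himg : (maximalIdeal A).toCotangent '' s = b := by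
    rw [Set.image_union, ← Set.range_comp, Set.image_image]
    simp only [hg, Set.image_id']
    exact Set.union_sdiff_cancel hb_sub
  have hspan : Submodule.span A s = ⊤ := by
    apply CotangentSpace.span_image_eq_top_iff.mp
    rw [himg, ← hBrange]
    exact B.span_eq
  have hm_eq : maximalIdeal A = Ideal.span (Subtype.val '' s) := by
    have := congrArg (Submodule.map (maximalIdeal A).subtype) hspan
    rw [Submodule.map_span, Submodule.map_top, Submodule.range_subtype] at this
    exact this.symm
  have hmI : mI f n =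
      Ideal.span (algebraMap A (K f n) '' (Subtype.val '' G) ∪ Set.range (tGen f n)) := by
    apply le_antisymm
    · rw [mI, sup_le_iff]
      constructor
      · have hmap : Ideal.map (algebraMap A (K f n)) (maximalIdeal A) =
            Ideal.span (algebraMap A (K f n) '' (Subtype.val '' s)) := by
          conv_lhs => rw [hm_eq]
          rw [Ideal.map_span]
        rw [hmap, Ideal.span_le]
        rintro _ ⟨_, ⟨x, hx, rfl⟩, rfl⟩
        rcases hx with ⟨i, rfl⟩ | hxG
        · show algebraMap A (K f n) (f i) ∈ _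
          rw [← tGen_pow]
          have ht : tGen f n i ∈ Ideal.span
              (algebraMap A (K f n) '' (Subtype.val '' G) ∪ Set.range (tGen f n)) :=
            Ideal.subset_span (Or.inr ⟨i, rfl⟩)
          exact Ideal.pow_mem_of_mem _ ht _ (hn i)
        · exact Ideal.subset_span (Or.inl ⟨_, ⟨x, hxG, rfl⟩, rfl⟩)
      · exact Ideal.span_mono Set.subset_union_right
    · rw [Ideal.span_le]
      rintro _ (⟨_, ⟨x, _, rfl⟩, rfl⟩ | ⟨i, rfl⟩)
      · exact Ideal.mem_sup_left (Ideal.mem_map_of_mem _ x.2)
      · exact Ideal.mem_sup_right (Ideal.subset_span ⟨i, rfl⟩)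
  rw [hmI]
  -- counting
  have hvinj : Function.Injective v := hf.injective
  have h1 : (Set.range (tGen f n)).encard ≤ (Set.range v).encard := by
    calc (Set.range (tGen f n)).encard = (tGen f n '' Set.univ).encard := by rw [Set.image_univ]
      _ ≤ (Set.univ : Set ι).encard := Set.encard_image_le _ _
      _ = (v '' Set.univ).encard := (hvinj.encard_image _).symm
      _ = (Set.range v).encard := by rw [Set.image_univ]
  have h2 : (algebraMap A (K f n) '' (Subtype.val '' G)).encard ≤ (b \ Set.range v).encard :=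
    ((Set.encard_image_le _ _).trans (Set.encard_image_le _ _)).trans (Set.encard_image_le _ _)
  have h3 : (algebraMap A (K f n) '' (Subtype.val '' G) ∪ Set.range (tGen f n)).encard ≤
      b.encard := by
    calc _ ≤ (algebraMap A (K f n) '' (Subtype.val '' G)).encard +
          (Set.range (tGen f n)).encard := Set.encard_union_le _ _
      _ ≤ (b \ Set.range v).encard + (Set.range v).encard := add_le_add h2 h1
      _ = b.encard := Set.encard_sdiff_add_encard_of_subset hb_sub
  have h4 := (Submodule.spanFinrank_span_le_encard (R := K f n)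
    (algebraMap A (K f n) '' (Subtype.val '' G) ∪ Set.range (tGen f n))).trans h3
  rw [hcard] at h4
  exact_mod_cast h4

end Regular

section Roots

variable {C : Type u} [CommRing C]

theorem add_pow_succ_of_sq_eq_zero (y η : C) (hη : η * η = 0) (m : ℕ) :
    (y + η) ^ (m + 1) = y ^ (m + 1) + (m + 1 : ℕ) * y ^ m * η := by
  induction m with
  | zero => simp
  | succ m ih =>
    rw [pow_succ, ih]
    have : (y ^ (m + 1) + ((m + 1 : ℕ) : C) * y ^ m * η) * (y + η) =
        y ^ (m + 1 + 1) + ((m + 1 + 1 : ℕ) : C) * y ^ (m + 1) * η +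
          ((m + 1 : ℕ) : C) * y ^ m * (η * η) := by
      push_cast
      ring
    rw [this, hη, mul_zero, add_zero]

/-- uniqueness of `m`-th roots modulo a square-zero ideal -/
theorem root_unique (J : Ideal C) (hJ : J ^ 2 = ⊥) (m : ℕ) (hm : 0 < m) (hmu : IsUnit ((m : ℕ) : C))
    (y y' : C) (hy : IsUnit y) (hd : y' - y ∈ J) (hpow : y' ^ m = y ^ m) : y' = y := by
  obtain ⟨k, rfl⟩ : ∃ k, m = k + 1 := ⟨m - 1, by omega⟩
  set η := y' - y with hη
  have hη2 : η * η = 0 := by
    have : η * η ∈ J ^ 2 := by rw [pow_two]; exact Ideal.mul_mem_mul hd hd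
    rwa [hJ, Ideal.mem_bot] at this
  have hy' : y' = y + η := by rw [hη]; ring
  rw [hy', add_pow_succ_of_sq_eq_zero y η hη2 k] at hpow
  have h0 : ((k + 1 : ℕ) : C) * y ^ k * η = 0 := by
    have := sub_eq_zero.mpr hpow
    rwa [add_sub_cancel_left] at this
  have hu : IsUnit (((k + 1 : ℕ) : C) * y ^ k) := hmu.mul (hy.pow k)
  have : η = 0 := (hu.mul_right_eq_zero).mp h0
  rw [hy', this, add_zero]

/-- existence of `m`-th roots modulo a square-zero ideal -/
theorem root_exists (J : Ideal C) (hJ : J ^ 2 = ⊥) (m : ℕ) (hm : 0 < m) (hmu : IsUnit ((m : ℕ) : C))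
    (y t : C) (hy : IsUnit y) (hd : y ^ m - t ∈ J) : ∃ ε ∈ J, (y + ε) ^ m = t := by
  obtain ⟨k, rfl⟩ : ∃ k, m = k + 1 := ⟨m - 1, by omega⟩
  have hu : IsUnit (((k + 1 : ℕ) : C) * y ^ k) := hmu.mul (hy.pow k)
  obtain ⟨w, hw⟩ := hu
  refine ⟨-(y ^ (k + 1) - t) * ↑w⁻¹, Ideal.mul_mem_right _ _ (J.neg_mem hd), ?_⟩
  have hε2 : (-(y ^ (k + 1) - t) * ↑w⁻¹) * (-(y ^ (k + 1) - t) * ↑w⁻¹) = 0 := by
    have hmem : -(y ^ (k + 1) - t) * ↑w⁻¹ ∈ J := Ideal.mul_mem_right _ _ (J.neg_mem hd)
    have : (-(y ^ (k + 1) - t) * ↑w⁻¹) * (-(y ^ (k + 1) - t) * ↑w⁻¹) ∈ J ^ 2 := by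
      rw [pow_two]; exact Ideal.mul_mem_mul hmem hmem
    rwa [hJ, Ideal.mem_bot] at this
  rw [add_pow_succ_of_sq_eq_zero _ _ hε2 k, ← hw]
  have : (w : C) * (-(y ^ (k + 1) - t) * ↑w⁻¹) = -(y ^ (k + 1) - t) := by
    rw [mul_comm, mul_assoc, Units.inv_mul, mul_one]
  rw [this]
  ring

end Roots

section Etale

variable [Fintype ι] (a : A) (R : Type u) [CommRing R] [Algebra A R] [IsLocalization.Away a R]
  (B : Type u) [CommRing B] [Algebra (K f n) B] [IsLocalization.Away (algebraMap A (K f n) a) B]
  [Algebra R B] [Algebra A B] [IsScalarTower A (K f n) B] [IsScalarTower A R B]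

/-- the image of `T_i` in `B` -/
noncomputable def τ (i : ι) : B := algebraMap (K f n) B (tGen f n i)

include a in
theorem algHom_ext {D : Type u} [CommRing D] [Algebra R D] (ψ ψ' : B →ₐ[R] D)
    (h : ∀ i, ψ (τ f n B i) = ψ' (τ f n B i)) : ψ = ψ' := by
  apply AlgHom.coe_ringHom_injective
  apply IsLocalization.ringHom_ext (Submonoid.powers (algebraMap A (K f n) a))
  apply Ideal.Quotient.ringHom_ext
  apply MvPolynomial.ringHom_ext
  · intro r
    have h1 : ∀ χ : B →ₐ[R] D, ((χ : B →+* D).comp (algebraMap (K f n) B)).comp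
        (Ideal.Quotient.mk (kI f n)) (C r) = algebraMap R D (algebraMap A R r) := by
      intro χ
      show χ (algebraMap (K f n) B (algebraMap A (K f n) r)) = _
      rw [← IsScalarTower.algebraMap_apply A (K f n) B, IsScalarTower.algebraMap_apply A R B,
        AlgHom.commutes]
    rw [h1 ψ, h1 ψ']
  · intro i
    exact h i

include a in
theorem exists_algHom {D : Type u} [CommRing D] [Algebra R D] (c : ι → D)
    (hc : ∀ i, c i ^ n i = algebraMap R D (algebraMap A R (f i))) :
    ∃ ψ : B →ₐ[R] D, ∀ i, ψ (τ f n B i) = c i := by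
  let γ : A →+* D := (algebraMap R D).comp (algebraMap A R)
  let φ₀ : MvPolynomial ι A →+* D := eval₂Hom γ c
  have hφ₀ : ∀ p ∈ kI f n, φ₀ p = 0 := by
    have hle : kI f n ≤ RingHom.ker φ₀ := by
      rw [Ideal.span_le]
      rintro _ ⟨i, rfl⟩
      rw [SetLike.mem_coe, RingHom.mem_ker, map_sub, map_pow]
      simp only [φ₀, eval₂Hom_X', eval₂Hom_C, γ, RingHom.comp_apply]
      rw [hc i, sub_self]
    exact fun p hp => hle hp
  let φ₁ : K f n →+* D := Ideal.Quotient.lift (kI f n) φ₀ hφ₀
  have hφ₁a : ∀ r : A, φ₁ (algebraMap A (K f n) r) = γ r := by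
    intro r
    show φ₀ (C r) = γ r
    simp [φ₀]
  have hunit : IsUnit (φ₁ (algebraMap A (K f n) a)) := by
    rw [hφ₁a]
    exact (IsLocalization.Away.algebraMap_isUnit (S := R) a).map (algebraMap R D)
  let φ₂ : B →+* D := IsLocalization.Away.lift (algebraMap A (K f n) a) hunit
  have hφ₂ : ∀ z : K f n, φ₂ (algebraMap (K f n) B z) = φ₁ z :=
    fun z => IsLocalization.Away.lift_eq _ hunit z
  have hcomm : ∀ r : R, φ₂ (algebraMap R B r) = algebraMap R D r := by
    have : φ₂.comp (algebraMap R B) = algebraMap R D := by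
      apply IsLocalization.ringHom_ext (Submonoid.powers a)
      ext r
      show φ₂ (algebraMap R B (algebraMap A R r)) = algebraMap R D (algebraMap A R r)
      rw [← IsScalarTower.algebraMap_apply A R B, IsScalarTower.algebraMap_apply A (K f n) B,
        hφ₂, hφ₁a]
      rfl
    exact fun r => RingHom.congr_fun this r
  refine ⟨{ φ₂ with commutes' := hcomm }, fun i => ?_⟩
  show φ₂ (algebraMap (K f n) B (tGen f n i)) = c i
  rw [hφ₂]
  show φ₀ (X i) = c i
  simp [φ₀]

include a in
theorem τ_pow (i : ι) :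
    τ f n B i ^ n i = algebraMap R B (algebraMap A R (f i)) := by
  rw [τ, ← map_pow, tGen_pow, ← IsScalarTower.algebraMap_apply A (K f n) B,
    IsScalarTower.algebraMap_apply A R B]

include a in
theorem formallyEtale (hn : ∀ i, 0 < n i) (h1 : ∀ i, IsUnit (algebraMap A R (f i)))
    (h2 : ∀ i, IsUnit ((n i : ℕ) : R)) : Algebra.FormallyEtale R B := by
  rw [Algebra.FormallyEtale.iff_comp_bijective]
  intro Cc _ _ J hJ
  have hnC : ∀ i, IsUnit ((n i : ℕ) : Cc) := fun i => by
    have := (h2 i).map (algebraMap R Cc)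
    rwa [map_natCast] at this
  have htC : ∀ i, IsUnit (algebraMap R Cc (algebraMap A R (f i))) :=
    fun i => (h1 i).map (algebraMap R Cc)
  constructor
  · -- injectivity
    intro φ φ' hφ
    apply algHom_ext f n a R B
    intro i
    have hpowφ : ∀ χ : B →ₐ[R] Cc, χ (τ f n B i) ^ n i =
        algebraMap R Cc (algebraMap A R (f i)) := by
      intro χ
      rw [← map_pow, τ_pow f n a R B, AlgHom.commutes]
    have hy : IsUnit (φ' (τ f n B i)) := by
      have : IsUnit (φ' (τ f n B i) ^ n i) := by rw [hpowφ φ']; exact htC i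
      exact (isUnit_pow_iff (hn i).ne').mp this
    have hd : φ (τ f n B i) - φ' (τ f n B i) ∈ J := by
      have := AlgHom.congr_fun hφ (τ f n B i)
      exact Ideal.Quotient.eq.mp this
    exact root_unique J hJ (n i) (hn i) (hnC i) _ _ hy hd ((hpowφ φ).trans (hpowφ φ').symm)
  · -- surjectivity
    intro φb
    choose c hc using fun i => Ideal.Quotient.mk_surjective (φb (τ f n B i))
    have hd : ∀ i, c i ^ n i - algebraMap R Cc (algebraMap A R (f i)) ∈ J := by
      intro i
      rw [← Ideal.Quotient.eq, map_pow, hc i, ← map_pow, τ_pow f n a R B, AlgHom.commutes]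
      rfl
    have hJnil : ∀ x ∈ J, IsNilpotent x := by
      intro x hx
      refine ⟨2, ?_⟩
      have : x ^ 2 ∈ J ^ 2 := Ideal.pow_mem_pow hx 2
      rwa [hJ, Ideal.mem_bot] at this
    have hcu : ∀ i, IsUnit (c i) := by
      intro i
      have : IsUnit (c i ^ n i) := by
        have h := (hJnil _ (hd i)).isUnit_add_left_of_commute (htC i) (Commute.all _ _)
        rwa [add_sub_cancel] at h
      exact (isUnit_pow_iff (hn i).ne').mp this
    choose ε hεJ hε using fun i =>
      root_exists J hJ (n i) (hn i) (hnC i) (c i) _ (hcu i) (hd i)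
    obtain ⟨ψ, hψ⟩ := exists_algHom f n a R B (fun i => c i + ε i) hε
    refine ⟨ψ, ?_⟩
    apply algHom_ext f n a R B
    intro i
    show Ideal.Quotient.mk J (ψ (τ f n B i)) = φb (τ f n B i)
    rw [hψ, map_add, hc i, Ideal.Quotient.eq_zero_iff_mem.mpr (hεJ i), add_zero]

include f n a in
theorem finitePresentation : Algebra.FinitePresentation R B := by
  have hfg : (kI f n).FG := Submodule.fg_span (Set.finite_range _)
  have h1 : Algebra.FinitePresentation A (K f n) := Algebra.FinitePresentation.quotient hfg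
  have h2 : Algebra.FinitePresentation (K f n) B :=
    IsLocalization.Away.finitePresentation (algebraMap A (K f n) a)
  have h3 : Algebra.FinitePresentation A B := Algebra.FinitePresentation.trans A (K f n) B
  have h4 : Algebra.FinitePresentation A R := IsLocalization.Away.finitePresentation a
  exact Algebra.FinitePresentation.of_restrict_scalars_finitePresentation A R B

include a in
theorem etale (hn : ∀ i, 0 < n i) (h1 : ∀ i, IsUnit (algebraMap A R (f i)))
    (h2 : ∀ i, IsUnit ((n i : ℕ) : R)) : Algebra.Etale R B :=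
  { formallyEtale := formallyEtale f n a R B hn h1 h2
    finitePresentation := finitePresentation f n a R B }

end Etale

end Groth.Agent.Lib.R2H2.KummerAlg
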