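import Mathlib
import Groth.Prelude.Def_EtRam
import Groth.Prelude.Def_SGA1
import Groth.Agent.Lib.R2H1EtRam
import Groth.Agent.Lib.R2H1EtRamTower
import Groth.Agent.Lib.R2H1EtRamSmooth
import Groth.Agent.Lib.R2H1EtRamAbh
import Groth.Agent.Lib.R2H2KummerAlg

/-!
# Kummer coverings are tamely ramified (helper1, run 2)

* `etale_K`, `isReduced_K`, `forall_isMaximal_K`: the Kummer algebra over a field with invertible
  exponents and nonzero `f_j` is étale, reduced, zero-dimensional.
* `kummer_val`: valuation-theoretic core: in a valuation ring `V ⊇ D[t'_j, tᵢ]` with `t'_j^{n_j} = unit`,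
  `tᵢ^{nᵢ} = π` the uniformiser of `D`, `tᵢ` generates the maximal ideal of `V` and the residue
  extension is separable.
* `kummer_tame_aux`, `kummer_tame`: `SGA1.IsTameAlong f (A → A[T_i]/(T_i^{n_i} - f_i))`.
-/

set_option autoImplicit false
set_option linter.unusedSectionVars false
set_option linter.style.haveILetI false

universe u

namespace Groth.Agent.Lib.R2H1.KummerTame

section
open IsLocalRing Groth.Agent.Lib.R2H1.EtRamTower Groth.Agent.Lib.R2H1.EtRam
  Groth.Agent.Lib.R2H1.EtRamSmooth Groth.Agent.Lib.R2H1.EtRamAbh Groth.Agent.Lib.R2H2.KummerAlg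
section EtField

variable {k : Type u} [Field k] {ι' : Type} [Fintype ι'] (fb : ι' → k) (n' : ι' → ℕ)

theorem etale_K (hn' : ∀ j, 0 < n' j) (hfb : ∀ j, fb j ≠ 0) (hnu : ∀ j, ((n' j : ℕ) : k) ≠ 0) :
    Algebra.Etale k (K fb n') := by
  haveI h1 : IsLocalization.Away (1 : k) k :=
    IsLocalization.self (by
      rintro _ ⟨m, rfl⟩
      simp)
  haveI h2 : IsLocalization.Away (algebraMap k (K fb n') 1) (K fb n') :=
    IsLocalization.self (by
      rintro _ ⟨m, rfl⟩
      simp)
  exact etale fb n' (1 : k) k (K fb n') hn' (fun j => (IsUnit.mk0 _ (hfb j)))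
    (fun j => IsUnit.mk0 _ (hnu j))

theorem isReduced_K (hn' : ∀ j, 0 < n' j) (hfb : ∀ j, fb j ≠ 0) (hnu : ∀ j, ((n' j : ℕ) : k) ≠ 0) :
    IsReduced (K fb n') := by
  haveI := etale_K fb n' hn' hfb hnu
  exact Algebra.FormallyUnramified.isReduced_of_field k (K fb n')

theorem forall_isMaximal_K (hn' : ∀ j, 0 < n' j) :
    ∀ q : Ideal (K fb n'), q.IsPrime → q.IsMaximal := by
  intro q hq
  haveI : Algebra.IsIntegral k (K fb n') := isIntegral fb n' hn'
  have h1 : (q.comap (algebraMap k (K fb n'))).IsMaximal := by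
    have : q.comap (algebraMap k (K fb n')) = ⊥ := by
      have hprime : (q.comap (algebraMap k (K fb n'))).IsPrime := Ideal.comap_isPrime _ _
      exact (Ideal.eq_bot_or_top _).resolve_right hprime.ne_top
    rw [this]; exact Ideal.bot_isMaximal
  exact Ideal.isMaximal_of_isIntegral_of_isMaximal_comap q h1

end EtField

end

section
open IsLocalRing Groth.Agent.Lib.R2H1.EtRamTower Groth.Agent.Lib.R2H1.EtRam
  Groth.Agent.Lib.R2H1.EtRamSmooth Groth.Agent.Lib.R2H1.EtRamAbh Groth.Agent.Lib.R2H2.KummerAlg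
section Kummer

variable {D L : Type u} [CommRing D] [IsLocalRing D] [Field L]
  (g₀ : D →+* L) (V : ValuationSubring L) [Algebra D V] [IsLocalHom (algebraMap D V)]
  (hcompat : ∀ d, ((algebraMap D V d : V) : L) = g₀ d)
  {ι' : Type} [Fintype ι'] (f' : ι' → D) (n' : ι' → ℕ) (t' : ι' → L)
  (hf' : ∀ j, IsUnit (f' j)) (hn' : ∀ j, 0 < n' j)
  (hnu : ∀ j, ((n' j : ℕ) : ResidueField D) ≠ 0)
  (ht' : ∀ j, t' j ^ n' j = g₀ (f' j))
  (π : D) (hπ : maximalIdeal D = Ideal.span {π}) (nᵢ : ℕ) (hnᵢ : 0 < nᵢ) (tᵢ : L)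
  (htᵢ : tᵢ ^ nᵢ = g₀ π)

include hcompat hf' hn' hnu ht' hπ hnᵢ htᵢ in
theorem kummer_val
    (hsep : ∀ w : L, w ≠ 0 → ∃ N : ℕ, V.valuation tᵢ ^ N < V.valuation w)
    (hgen : ∀ m : L, ∃ x y : Polynomial (MvPolynomial ι' D),
      Polynomial.eval₂ (MvPolynomial.eval₂Hom g₀ t') tᵢ y ≠ 0 ∧
      m = Polynomial.eval₂ (MvPolynomial.eval₂Hom g₀ t') tᵢ x /
        Polynomial.eval₂ (MvPolynomial.eval₂Hom g₀ t') tᵢ y) (ht0 : tᵢ ≠ 0) :
    (∀ w : L, V.valuation w < 1 → ∃ y ∈ V, w = tᵢ * y) ∧
      Algebra.IsSeparable (ResidueField D) (ResidueField V) := by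
  classical
  -- membership facts
  have hgV : ∀ d, g₀ d ∈ V := fun d => by rw [← hcompat]; exact (algebraMap D V d).2
  have hvu : ∀ d : D, IsUnit d → V.valuation (g₀ d) = 1 := by
    intro d hd
    obtain ⟨u, rfl⟩ := hd
    refine val_eq_one_of_mul_eq_one V _ (g₀ ((u⁻¹ : Dˣ) : D)) (hgV _) (hgV _) ?_
    rw [← map_mul, Units.mul_inv, map_one]
  have hvt' : ∀ j, V.valuation (t' j) = 1 := by
    intro j
    apply val_eq_one_of_pow_eq_one V (t' j) (n' j) (hn' j).ne'
    rw [← map_pow, ht', hvu _ (hf' j)]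
  have ht'V : ∀ j, t' j ∈ V := fun j => (V.valuation_le_one_iff _).mp (hvt' j).le
  have hπm : π ∈ maximalIdeal D := hπ ▸ Ideal.mem_span_singleton_self π
  have hvπ : V.valuation (g₀ π) < 1 := by
    have h1 : algebraMap D V π ∈ maximalIdeal V := by
      rw [mem_maximalIdeal, mem_nonunits_iff]
      intro hu
      exact (mem_maximalIdeal π).mp hπm (IsLocalHom.map_nonunit π hu)
    have h2 := (V.valuation_lt_one_iff _).mp h1
    rwa [hcompat] at h2
  have hvtᵢ : V.valuation tᵢ < 1 := by
    by_contra hge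
    have h1 : 1 ≤ V.valuation tᵢ := not_lt.mp hge
    have h2 : 1 ≤ V.valuation tᵢ ^ nᵢ := one_le_pow₀ h1
    rw [← map_pow, htᵢ] at h2
    exact absurd hvπ (not_lt.mpr h2)
  have htᵢV : tᵢ ∈ V := (V.valuation_le_one_iff _).mp hvtᵢ.le
  -- the maps
  let th : MvPolynomial ι' D →+* L := MvPolynomial.eval₂Hom g₀ t'
  have hthC : ∀ d, th (MvPolynomial.C d) = g₀ d := fun d => MvPolynomial.eval₂Hom_C _ _ _
  have hthX : ∀ j, th (MvPolynomial.X j) = t' j := fun j => MvPolynomial.eval₂Hom_X' _ _ _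
  have hthV : ∀ s, th s ∈ V := by
    intro s
    induction s using MvPolynomial.induction_on with
    | C a => rw [hthC]; exact hgV a
    | add p q hp hq => rw [map_add]; exact V.add_mem _ _ hp hq
    | mul_X p j hp => rw [map_mul, hthX]; exact V.mul_mem _ _ hp (ht'V j)
  let Θ : Polynomial (MvPolynomial ι' D) →+* L := Polynomial.eval₂RingHom th tᵢ
  have hΘC : ∀ s, Θ (Polynomial.C s) = th s := fun s => Polynomial.eval₂_C _ _
  have hΘX : Θ Polynomial.X = tᵢ := Polynomial.eval₂_X _ _
  have hΘV : ∀ y, Θ y ∈ V := by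
    intro y
    show Polynomial.eval₂ th tᵢ y ∈ V
    rw [Polynomial.eval₂_eq_sum_range]
    exact Subring.sum_mem V.toSubring fun i _ => V.mul_mem _ _ (hthV _) (pow_mem htᵢV i)
  -- the fibre ring
  let fb : ι' → ResidueField D := fun j => residue D (f' j)
  have hfb : ∀ j, fb j ≠ 0 := fun j => ((residue D).isUnit_map (hf' j)).ne_zero
  haveI hTred : IsReduced (K fb n') := isReduced_K fb n' hn' hfb hnu
  have hTmax := forall_isMaximal_K fb n' hn'
  let ρ : Polynomial (MvPolynomial ι' D) →+* K fb n' :=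
    (Ideal.Quotient.mk (kI fb n')).comp
      ((MvPolynomial.map (residue D)).comp Polynomial.constantCoeff)
  have hρ : Function.Surjective ρ := by
    intro x
    obtain ⟨x, rfl⟩ := Ideal.Quotient.mk_surjective x
    obtain ⟨y, rfl⟩ := MvPolynomial.map_surjective (residue D) residue_surjective x
    exact ⟨Polynomial.C y, by
      show Ideal.Quotient.mk _ (MvPolynomial.map (residue D) ((Polynomial.C y).coeff 0)) = _
      rw [Polynomial.coeff_C_zero]⟩
  -- the kernel
  let J : Ideal (Polynomial (MvPolynomial ι' D)) :=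
    Ideal.comap Θ.rangeRestrict (Ideal.span {Θ.rangeRestrict Polynomial.X})
  have hJ : ∀ z, z ∈ J ↔ ∃ x', Θ z = Θ Polynomial.X * Θ x' := by
    intro z
    rw [Ideal.mem_comap, Ideal.mem_span_singleton']
    constructor
    · rintro ⟨⟨a, x', rfl⟩, ha⟩
      refine ⟨x', ?_⟩
      have h1 := congrArg Subtype.val ha
      rw [mul_comm]
      exact h1.symm
    · rintro ⟨x', hx'⟩
      refine ⟨Θ.rangeRestrict x', Subtype.ext ?_⟩
      show Θ x' * Θ Polynomial.X = Θ z
      rw [hx', mul_comm]
  have hJX : (Polynomial.X : Polynomial (MvPolynomial ι' D)) ∈ J :=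
    (hJ _).mpr ⟨1, by rw [map_one, mul_one]⟩
  have hJgen : ∀ j, Polynomial.C ((MvPolynomial.X j : MvPolynomial ι' D) ^ n' j -
      MvPolynomial.C (f' j)) ∈ J := by
    intro j
    refine (hJ _).mpr ⟨0, ?_⟩
    rw [hΘC, map_sub, map_pow, hthX, hthC, ht', sub_self, map_zero, mul_zero]
  have hJπ : Polynomial.C (MvPolynomial.C π : MvPolynomial ι' D) ∈ J := by
    refine (hJ _).mpr ⟨Polynomial.X ^ (nᵢ - 1), ?_⟩
    rw [hΘC, hthC, ← htᵢ, map_pow, hΘX, ← pow_succ']
    congr 1
    omega
  have hmapkI : Ideal.map (MvPolynomial.map (residue D)) (kI f' n') = kI fb n' := by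
    rw [Ideal.map_span]
    congr 1
    ext x
    constructor
    · rintro ⟨_, ⟨j, rfl⟩, rfl⟩
      refine ⟨j, ?_⟩
      simp only [map_sub, map_pow, MvPolynomial.map_X, MvPolynomial.map_C]
      rfl
    · rintro ⟨j, rfl⟩
      refine ⟨_, ⟨j, rfl⟩, ?_⟩
      simp only [map_sub, map_pow, MvPolynomial.map_X, MvPolynomial.map_C]
      rfl
  have hker : ∀ z, ρ z = 0 → ∃ x', Θ z = Θ Polynomial.X * Θ x' := by
    intro z hz
    rw [← hJ]
    have h1 : MvPolynomial.map (residue D) (z.coeff 0) ∈ kI fb n' :=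
      Ideal.Quotient.eq_zero_iff_mem.mp hz
    rw [← hmapkI] at h1
    have h2 : z.coeff 0 ∈ Ideal.comap (MvPolynomial.map (residue D))
        (Ideal.map (MvPolynomial.map (residue D)) (kI f' n')) := h1
    rw [Ideal.comap_map_of_surjective _ (MvPolynomial.map_surjective _ residue_surjective),
      ← RingHom.ker_eq_comap_bot, MvPolynomial.ker_map, IsLocalRing.ker_residue, hπ,
      Ideal.map_span, Set.image_singleton] at h2
    have h3 : Polynomial.C (z.coeff 0) ∈ J := by
      have hle : kI f' n' ⊔ Ideal.span {(MvPolynomial.C π : MvPolynomial ι' D)} ≤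
          Ideal.comap (Polynomial.C : MvPolynomial ι' D →+* _) J := by
        apply sup_le
        · rw [Ideal.span_le]
          rintro _ ⟨j, rfl⟩
          exact hJgen j
        · rw [Ideal.span_le]
          rintro _ hx
          rw [Set.mem_singleton_iff] at hx
          subst hx
          exact hJπ
      exact hle h2
    have h4 : (Polynomial.X : Polynomial (MvPolynomial ι' D)) ∣ z - Polynomial.C (z.coeff 0) := by
      rw [Polynomial.X_dvd_iff, Polynomial.coeff_sub, Polynomial.coeff_C_zero, sub_self]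
    obtain ⟨q, hq⟩ := h4
    have h5 : z = Polynomial.X * q + Polynomial.C (z.coeff 0) := by rw [← hq]; ring
    rw [h5]
    exact J.add_mem (J.mul_mem_right _ hJX) h3
  have hsep' : ∀ w : L, w ≠ 0 → ∃ N : ℕ, V.valuation (Θ Polynomial.X) ^ N < V.valuation w := by
    rw [hΘX]; exact hsep
  have hΘX0 : Θ Polynomial.X ≠ 0 := by rw [hΘX]; exact ht0
  have hΘX1 : V.valuation (Θ Polynomial.X) < 1 := by rw [hΘX]; exact hvtᵢ
  refine ⟨fun w hw => ?_, ?_⟩
  · obtain ⟨y, hyV, hy⟩ := aexists_eq_mul_of_lt_one V Θ hΘV Polynomial.X ρ hρ hker hΘX0 hΘX1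
      hTmax hsep' hgen w hw
    exact ⟨y, hyV, by rw [hy, hΘX]⟩
  · -- the residue field is a quotient of the étale algebra `K fb n'`
    let tbar : ι' → ResidueField V := fun j => residue V ⟨t' j, ht'V j⟩
    have hτ : ∀ a ∈ kI fb n', (MvPolynomial.aeval tbar : MvPolynomial ι' (ResidueField D) →ₐ[_] _) a
        = 0 := by
      intro a ha
      have hle : kI fb n' ≤ RingHom.ker (MvPolynomial.aeval tbar :
          MvPolynomial ι' (ResidueField D) →ₐ[ResidueField D] ResidueField V).toRingHom := by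
        rw [Ideal.span_le]
        rintro _ ⟨j, rfl⟩
        show (MvPolynomial.aeval tbar) _ = 0
        rw [map_sub, map_pow, MvPolynomial.aeval_X, MvPolynomial.aeval_C]
        show (residue V ⟨t' j, ht'V j⟩) ^ n' j -
          residue V (algebraMap D V (f' j)) = 0
        rw [← map_pow, sub_eq_zero]
        congr 1
        apply Subtype.ext
        rw [hcompat, SubmonoidClass.coe_pow]
        exact ht' j
      exact hle ha
    let τ : K fb n' →ₐ[ResidueField D] ResidueField V :=
      Ideal.Quotient.liftₐ (kI fb n') (MvPolynomial.aeval tbar) hτ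
    have hτX : ∀ j, τ (tGen fb n' j) = tbar j := by
      intro j
      show (MvPolynomial.aeval tbar : MvPolynomial ι' (ResidueField D) →ₐ[_] _)
        (MvPolynomial.X j) = _
      exact MvPolynomial.aeval_X _ _
    let ΘV : Polynomial (MvPolynomial ι' D) →+* V := Θ.codRestrict V.toSubring hΘV
    let R' : Polynomial (MvPolynomial ι' D) →+* ResidueField V := (residue V).comp ΘV
    have hR'range : ∀ z, R' z ∈ τ.range := by
      intro z
      induction z using Polynomial.induction_on with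
      | C a =>
        induction a using MvPolynomial.induction_on with
        | C d =>
          have : R' (Polynomial.C (MvPolynomial.C d)) =
              algebraMap (ResidueField D) (ResidueField V) (residue D d) := by
            show residue V (ΘV _) = residue V (algebraMap D V d)
            congr 1
            apply Subtype.ext
            show Θ _ = _
            rw [hΘC, hthC, hcompat]
          rw [this]
          exact Subalgebra.algebraMap_mem _ _
        | add p q hp hq =>
          rw [map_add, map_add]; exact τ.range.add_mem hp hq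
        | mul_X p j hp =>
          rw [map_mul, map_mul]
          refine τ.range.mul_mem hp ?_
          have : R' (Polynomial.C (MvPolynomial.X j)) = tbar j := by
            show residue V (ΘV _) = residue V ⟨t' j, ht'V j⟩
            congr 1
            apply Subtype.ext
            show Θ _ = _
            rw [hΘC, hthX]
          rw [this, ← hτX]
          exact ⟨_, rfl⟩
      | add p q hp hq => rw [map_add]; exact τ.range.add_mem hp hq
      | monomial n a h =>
        rw [pow_succ, ← mul_assoc, map_mul]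
        refine τ.range.mul_mem h ?_
        have : R' Polynomial.X = 0 := by
          show residue V (ΘV Polynomial.X) = 0
          rw [residue_eq_zero_iff, V.valuation_lt_one_iff]
          show V.valuation (Θ Polynomial.X) < 1
          exact hΘX1
        rw [this]
        exact τ.range.zero_mem
    have hτsurj : Function.Surjective τ := by
      intro x
      obtain ⟨z, hz⟩ := asurj V Θ hΘV Polynomial.X ρ hρ hker hΘX0 hΘX1 hTmax hsep' hgen x
      have : x = R' z := hz
      rw [this]
      exact hR'range z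
    haveI := etale_K fb n' hn' hfb hnu
    haveI : Algebra.FormallyUnramified (ResidueField D) (ResidueField V) :=
      Algebra.FormallyUnramified.of_surjective τ hτsurj
    haveI : Algebra.FiniteType (ResidueField D) (ResidueField V) :=
      Algebra.FiniteType.of_surjective τ hτsurj
    exact Algebra.FormallyUnramified.isSeparable (ResidueField D) (ResidueField V)

end Kummer

end

section
open IsLocalRing Groth.Agent.Lib.R2H1.EtRamTower Groth.Agent.Lib.R2H1.EtRam
  Groth.Agent.Lib.R2H1.EtRamSmooth Groth.Agent.Lib.R2H1.EtRamAbh Groth.Agent.Lib.R2H2.KummerAlg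
theorem exists_ne_zero_mul_eq_of_eval₂ {B M : Type u} [CommRing B] [Field M] (g : B →+* M)
    (hg : Function.Injective g) (W : Subring M) (hgW : ∀ b, g b ∈ W) (w : M) (hw : w ∈ W)
    (hw0 : w ≠ 0) :
    ∀ (N : ℕ) (P : Polynomial B), P.natDegree ≤ N → P ≠ 0 → Polynomial.eval₂ g w P = 0 →
    ∃ b : B, b ≠ 0 ∧ ∃ y ∈ W, g b = y * w := by
  intro N
  induction N with
  | zero =>
    intro P hdeg hP0 hPw
    rw [Nat.le_zero] at hdeg
    exfalso
    apply hP0
    rw [Polynomial.eq_C_of_natDegree_eq_zero hdeg] at hPw ⊢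
    rw [Polynomial.eval₂_C] at hPw
    rw [hg (hPw.trans (map_zero g).symm), map_zero]
  | succ N ih =>
    intro P hdeg hP0 hPw
    by_cases h0 : P.coeff 0 = 0
    · have h1 : P = Polynomial.divX P * Polynomial.X := by
        conv_lhs => rw [← Polynomial.divX_mul_X_add P, h0, map_zero, add_zero]
      have h2 : Polynomial.eval₂ g w (Polynomial.divX P) = 0 := by
        rw [h1, Polynomial.eval₂_mul, Polynomial.eval₂_X] at hPw
        exact (mul_eq_zero.mp hPw).resolve_right hw0
      refine ih (Polynomial.divX P) ?_ ?_ h2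
      · rw [Polynomial.natDegree_divX_eq_natDegree_tsub_one]; omega
      · intro h; apply hP0; rw [h1, h, zero_mul]
    · refine ⟨P.coeff 0, h0, -(Polynomial.eval₂ g w (Polynomial.divX P)),
        W.neg_mem (eval₂_mem_subring g W hgW w hw _), ?_⟩
      have h2 : Polynomial.eval₂ g w
          (Polynomial.divX P * Polynomial.X + Polynomial.C (P.coeff 0)) = 0 := by
        rw [Polynomial.divX_mul_X_add]; exact hPw
      rw [Polynomial.eval₂_add, Polynomial.eval₂_mul, Polynomial.eval₂_X,
        Polynomial.eval₂_C] at h2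
      linear_combination h2

theorem not_mem_span_of_linearIndependent {A : Type u} [CommRing A] [IsLocalRing A] {ι : Type*}
    (f : ι → A) (hm : ∀ i, f i ∈ maximalIdeal A)
    (hf : LinearIndependent (ResidueField A)
      (fun i => (maximalIdeal A).toCotangent ⟨f i, hm i⟩))
    (i j : ι) (hij : j ≠ i) : f j ∉ Ideal.span {f i} := by
  intro hmem
  obtain ⟨c, hc⟩ := Ideal.mem_span_singleton'.mp hmem
  have h1 : (⟨f j, hm j⟩ : maximalIdeal A) = c • ⟨f i, hm i⟩ :=
    Subtype.ext (by simp [hc.symm])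
  have h2 : (maximalIdeal A).toCotangent ⟨f j, hm j⟩ =
      (residue A c) • (maximalIdeal A).toCotangent ⟨f i, hm i⟩ := by
    rw [h1, map_smul]
    exact (IsScalarTower.algebraMap_smul (ResidueField A) c _).symm
  have h3 := hf.notMem_span_image (s := {i}) (x := j) (by simpa using hij)
  apply h3
  rw [Set.image_singleton]
  exact Submodule.mem_span_singleton.mpr ⟨residue A c, h2.symm⟩

theorem exists_unit_mul_pow_of_principal {D : Type u} [CommRing D] [IsLocalRing D] [IsDomain D]
    [IsNoetherianRing D] (π : D) (hπ : maximalIdeal D = Ideal.span {π}) (hπ0 : π ≠ 0) (d : D)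
    (hd : d ≠ 0) : ∃ (j : ℕ) (u : Dˣ), d = u * π ^ j := by
  have hnf : ¬ IsField D := by
    intro hF
    have : maximalIdeal D = ⊥ := IsLocalRing.isField_iff_maximalIdeal_eq.mp hF
    rw [hπ, Ideal.span_singleton_eq_bot] at this
    exact hπ0 this
  haveI : IsDiscreteValuationRing D :=
    ((IsDiscreteValuationRing.TFAE D hnf).out 0 4).mpr (⟨⟨π, hπ⟩⟩ : (maximalIdeal D).IsPrincipal)
  have hirr : Irreducible π := (IsDiscreteValuationRing.irreducible_iff_uniformizer π).mpr hπ
  obtain ⟨j, u, hu⟩ := IsDiscreteValuationRing.eq_unit_mul_pow_irreducible hd hirr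
  exact ⟨j, u, hu⟩

end

section
open IsLocalRing Groth.Agent.Lib.R2H1.EtRamTower Groth.Agent.Lib.R2H1.EtRam
  Groth.Agent.Lib.R2H1.EtRamSmooth Groth.Agent.Lib.R2H1.EtRamAbh Groth.Agent.Lib.R2H2.KummerAlg
section Aux

variable {A D L : Type u} [CommRing A] [IsDomain A] [CommRing D] [IsLocalRing D] [IsDomain D]
  [IsNoetherianRing D] [Field L] (α : A →+* D) (g₀ : D →+* L) {r : ℕ} (f : Fin r → A)
  (n : Fin r → ℕ) (i : Fin r) (κ : MvPolynomial (Fin r) A →+* L)
  (hκC : ∀ a, κ (MvPolynomial.C a) = g₀ (α a))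
  (hκgen : ∀ j, κ (MvPolynomial.X j) ^ n j = g₀ (α (f j)))
  (hinj : ∀ a, g₀ (α a) = 0 → a = 0)
  (hfrac : ∀ m : L, ∃ x y, κ y ≠ 0 ∧ m = κ x / κ y)
  (hint : ∀ x, ∃ p : Polynomial A, p.Monic ∧ Polynomial.eval₂ (g₀.comp α) (κ x) p = 0)
  (hunit : ∀ j, j ≠ i → IsUnit (α (f j)))
  (hπ : maximalIdeal D = Ideal.span {α (f i)})
  (hnuD : ∀ j, ((n j : ℕ) : ResidueField D) ≠ 0)
  (hn : ∀ j, 0 < n j) (hfi : f i ≠ 0)

include hκC hκgen hinj hfrac hint hunit hπ hnuD hn hfi in
theorem kummer_tame_aux : EtRam.IsTamelyRamified D g₀ := by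
  classical
  intro V hdom hloc
  letI : Algebra D V := (RingHom.codRestrict g₀ V hdom.1).toAlgebra
  have hcompat : ∀ d, ((algebraMap D V d : V) : L) = g₀ d := fun d => rfl
  have hπ0 : α (f i) ≠ 0 := by
    intro h
    exact hfi (hinj _ (by rw [h, map_zero]))
  have hπm : α (f i) ∈ maximalIdeal D := hπ ▸ Ideal.mem_span_singleton_self _
  have hvπ : V.valuation (g₀ (α (f i))) < 1 := hdom.2 _ hπm
  have htᵢpow : κ (MvPolynomial.X i) ^ n i = g₀ (α (f i)) := hκgen i
  have hvtᵢ : V.valuation (κ (MvPolynomial.X i)) < 1 := by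
    by_contra hge
    have h1 : 1 ≤ V.valuation (κ (MvPolynomial.X i)) := not_lt.mp hge
    have h2 : 1 ≤ V.valuation (κ (MvPolynomial.X i)) ^ n i := one_le_pow₀ h1
    rw [← map_pow, htᵢpow] at h2
    exact absurd hvπ (not_lt.mpr h2)
  have htᵢV : κ (MvPolynomial.X i) ∈ V := (V.valuation_le_one_iff _).mp hvtᵢ.le
  have ht0 : κ (MvPolynomial.X i) ≠ 0 := by
    intro h
    rw [h, zero_pow (hn i).ne'] at htᵢpow
    exact hfi (hinj _ htᵢpow.symm)
  have hvt0 : V.valuation (κ (MvPolynomial.X i)) ≠ 0 := (V.valuation.ne_zero_iff).mpr ht0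
  have hgV : ∀ d, g₀ d ∈ V := hdom.1
  have hvu : ∀ u : Dˣ, V.valuation (g₀ (u : D)) = 1 := by
    intro u
    refine val_eq_one_of_mul_eq_one V _ (g₀ ((u⁻¹ : Dˣ) : D)) (hgV _) (hgV _) ?_
    rw [← map_mul, Units.mul_inv, map_one]
  have hvX : ∀ j, V.valuation (κ (MvPolynomial.X j)) ≤ 1 := by
    intro j
    by_contra hgt
    have h1 : 1 < V.valuation (κ (MvPolynomial.X j)) := not_le.mp hgt
    have h2 : 1 < V.valuation (κ (MvPolynomial.X j)) ^ n j := one_lt_pow₀ h1 (hn j).ne'
    rw [← map_pow, hκgen] at h2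
    exact absurd ((V.valuation_le_one_iff _).mpr (hgV _)) (not_le.mpr h2)
  have hκV : ∀ p, κ p ∈ V := by
    intro p
    induction p using MvPolynomial.induction_on with
    | C a => rw [hκC]; exact hgV _
    | add p q hp hq => rw [map_add]; exact V.add_mem _ _ hp hq
    | mul_X p j hp =>
      rw [map_mul]; exact V.mul_mem _ _ hp ((V.valuation_le_one_iff _).mp (hvX j))
  -- separation
  have hψinj : Function.Injective (g₀.comp α) := by
    rw [injective_iff_map_eq_zero]
    intro a ha
    exact hinj a ha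
  have hsep : ∀ w : L, w ≠ 0 →
      ∃ N : ℕ, V.valuation (κ (MvPolynomial.X i)) ^ N < V.valuation w := by
    intro w hw
    obtain ⟨x, y, hy0, hwxy⟩ := hfrac w
    have hx0 : κ x ≠ 0 := by
      intro h; apply hw; rw [hwxy, h, zero_div]
    have h1 : V.valuation (κ x) ≤ V.valuation w := by
      rw [hwxy, map_div₀]
      have hb1 : V.valuation (κ y) ≤ 1 := (V.valuation_le_one_iff _).mpr (hκV y)
      have hb0 : V.valuation (κ y) ≠ 0 := (V.valuation.ne_zero_iff).mpr hy0
      rw [le_div_iff₀ (zero_lt_iff.mpr hb0)]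
      calc V.valuation (κ x) * V.valuation (κ y) ≤ V.valuation (κ x) * 1 :=
            mul_le_mul_right hb1 _
        _ = _ := mul_one _
    obtain ⟨p, hpmonic, hp⟩ := hint x
    obtain ⟨b, hb0, y', hy'V, hby⟩ := exists_ne_zero_mul_eq_of_eval₂ (g₀.comp α) hψinj
      V.toSubring (fun b => hgV _) (κ x) (hκV x) hx0 _ p le_rfl hpmonic.ne_zero hp
    have hαb : α b ≠ 0 := by
      intro h
      exact hb0 (hinj b (by rw [h, map_zero]))
    obtain ⟨j, u, huj⟩ := exists_unit_mul_pow_of_principal (α (f i)) hπ hπ0 (α b) hαb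
    have hvb : V.valuation ((g₀.comp α) b) = V.valuation (κ (MvPolynomial.X i)) ^ (n i * j) := by
      rw [RingHom.comp_apply, huj, map_mul, map_pow, map_mul, map_pow, hvu u, one_mul,
        ← htᵢpow, map_pow, ← pow_mul]
    have h2 : V.valuation ((g₀.comp α) b) ≤ V.valuation (κ x) := by
      rw [hby, map_mul]
      calc V.valuation y' * V.valuation (κ x) ≤ 1 * V.valuation (κ x) :=
            mul_le_mul_left ((V.valuation_le_one_iff _).mpr hy'V) _
        _ = _ := one_mul _
    refine ⟨n i * j + 1, ?_⟩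
    calc V.valuation (κ (MvPolynomial.X i)) ^ (n i * j + 1)
        < V.valuation (κ (MvPolynomial.X i)) ^ (n i * j) :=
          pow_lt_pow_right_of_lt_one₀ (zero_lt_iff.mpr hvt0) hvtᵢ (Nat.lt_succ_self _)
      _ = V.valuation ((g₀.comp α) b) := hvb.symm
      _ ≤ V.valuation (κ x) := h2
      _ ≤ V.valuation w := h1
  -- the generation hypothesis
  have hrange : ∀ p : MvPolynomial (Fin r) A,
      ∃ z : Polynomial (MvPolynomial {j : Fin r // j ≠ i} D),
        Polynomial.eval₂ (MvPolynomial.eval₂Hom g₀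
          (fun j : {j : Fin r // j ≠ i} => κ (MvPolynomial.X j.1))) (κ (MvPolynomial.X i)) z =
          κ p := by
    intro p
    induction p using MvPolynomial.induction_on with
    | C a =>
      refine ⟨Polynomial.C (MvPolynomial.C (α a)), ?_⟩
      rw [Polynomial.eval₂_C, MvPolynomial.eval₂Hom_C, hκC]
    | add p q hp hq =>
      obtain ⟨zp, hzp⟩ := hp
      obtain ⟨zq, hzq⟩ := hq
      exact ⟨zp + zq, by rw [Polynomial.eval₂_add, hzp, hzq, map_add]⟩
    | mul_X p j hp =>
      obtain ⟨zp, hzp⟩ := hp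
      by_cases hji : j = i
      · subst hji
        exact ⟨zp * Polynomial.X, by rw [Polynomial.eval₂_mul, hzp, Polynomial.eval₂_X, map_mul]⟩
      · refine ⟨zp * Polynomial.C (MvPolynomial.X ⟨j, hji⟩), ?_⟩
        rw [Polynomial.eval₂_mul, hzp, Polynomial.eval₂_C, MvPolynomial.eval₂Hom_X', map_mul]
  have hgen : ∀ m : L, ∃ x y : Polynomial (MvPolynomial {j : Fin r // j ≠ i} D),
      Polynomial.eval₂ (MvPolynomial.eval₂Hom g₀
          (fun j : {j : Fin r // j ≠ i} => κ (MvPolynomial.X j.1))) (κ (MvPolynomial.X i)) y ≠ 0 ∧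
      m = Polynomial.eval₂ (MvPolynomial.eval₂Hom g₀
          (fun j : {j : Fin r // j ≠ i} => κ (MvPolynomial.X j.1))) (κ (MvPolynomial.X i)) x /
        Polynomial.eval₂ (MvPolynomial.eval₂Hom g₀
          (fun j : {j : Fin r // j ≠ i} => κ (MvPolynomial.X j.1))) (κ (MvPolynomial.X i)) y := by
    intro m
    obtain ⟨x, y, hy0, hm⟩ := hfrac m
    obtain ⟨zx, hzx⟩ := hrange x
    obtain ⟨zy, hzy⟩ := hrange y
    exact ⟨zx, zy, by rw [hzy]; exact hy0, by rw [hzx, hzy]; exact hm⟩
  obtain ⟨hmax, hsepble⟩ := kummer_val g₀ V hcompat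
    (fun j : {j : Fin r // j ≠ i} => α (f j.1)) (fun j => n j.1)
    (fun j : {j : Fin r // j ≠ i} => κ (MvPolynomial.X j.1))
    (fun j => hunit j.1 j.2) (fun j => hn j.1) (fun j => hnuD j.1) (fun j => hκgen j.1)
    (α (f i)) hπ (n i) (hn i) (κ (MvPolynomial.X i)) htᵢpow hsep hgen ht0
  refine ⟨hsepble, ?_⟩
  -- the ramification index
  have hmaxV : maximalIdeal V = Ideal.span {(⟨κ (MvPolynomial.X i), htᵢV⟩ : V)} := by
    apply le_antisymm
    · intro x hx
      have hx1 : V.valuation (x : L) < 1 := (V.valuation_lt_one_iff _).mp hx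
      obtain ⟨y, hyV, hy⟩ := hmax _ hx1
      rw [Ideal.mem_span_singleton']
      exact ⟨⟨y, hyV⟩, Subtype.ext (by rw [hy, mul_comm]; rfl)⟩
    · rw [Ideal.span_le, Set.singleton_subset_iff]
      exact (V.valuation_lt_one_iff _).mpr hvtᵢ
  have hne : (⟨κ (MvPolynomial.X i), htᵢV⟩ : V) ≠ 0 := by
    intro h
    exact ht0 (congrArg Subtype.val h)
  have hram : Ideal.ramificationIdx' (maximalIdeal D) (maximalIdeal V) = n i := by
    refine ramificationIdx'_eq_of_eq (α (f i)) hπ _ hmaxV hne (n i) 1 ?_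
    apply Subtype.ext
    rw [Units.val_one, one_mul]
    show g₀ (α (f i)) = _
    rw [← htᵢpow]
    rfl
  intro p hp hchar hdvd
  rw [hram] at hdvd
  exact hnuD i ((CharP.cast_eq_zero_iff (ResidueField D) p (n i)).mpr hdvd)

end Aux

theorem kummer_tame (A : Type u) [CommRing A] [IsRegularLocalRing A] [IsDomain A] (r : ℕ)
    (f : Fin r → A) (hm : ∀ i, f i ∈ maximalIdeal A)
    (hf : LinearIndependent (ResidueField A)
      (fun i => (maximalIdeal A).toCotangent ⟨f i, hm i⟩))
    [∀ i, (Ideal.span {f i}).IsPrime] (n : Fin r → ℕ) (hn : ∀ i, 1 ≤ n i)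
    (hu : ∀ i, IsUnit ((n i : ℕ) : ResidueField A)) :
    SGA1.IsTameAlong f (algebraMap A (SGA1.kummerAlg A f n)) := by
  classical
  intro i q _ hq
  have hn' : ∀ j, 0 < n j := fun j => hn j
  have hg₀alg : ∀ a : A, SGA1.genericResidueMap (algebraMap A (SGA1.kummerAlg A f n))
      (Ideal.span {f i}) q hq (algebraMap A (Localization.AtPrime (Ideal.span {f i})) a) =
      algebraMap (SGA1.kummerAlg A f n) q.ResidueField
        (algebraMap A (SGA1.kummerAlg A f n) a) := by
    intro a
    exact IsLocalization.lift_eq _ a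
  refine kummer_tame_aux (algebraMap A (Localization.AtPrime (Ideal.span {f i}))) _ f n i
    ((algebraMap (SGA1.kummerAlg A f n) q.ResidueField).comp (Ideal.Quotient.mk _))
    ?_ ?_ ?_ ?_ ?_ ?_ ?_ ?_ hn' ?_
  · -- hκC
    intro a
    exact (hg₀alg a).symm
  · -- hκgen
    intro j
    rw [← map_pow]
    have h1 : (MvPolynomial.X j : MvPolynomial (Fin r) A) ^ n j - MvPolynomial.C (f j) ∈
        kI f n := Ideal.subset_span ⟨j, rfl⟩
    have h2 := Ideal.Quotient.eq_zero_iff_mem.mpr h1
    rw [map_sub, sub_eq_zero] at h2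
    rw [RingHom.comp_apply, h2]
    exact (hg₀alg (f j)).symm
  · -- hinj
    intro a ha
    rw [hg₀alg, ← RingHom.mem_ker, Ideal.ker_algebraMap_residueField] at ha
    have : a ∈ Ideal.comap (algebraMap A (SGA1.kummerAlg A f n)) q := ha
    rw [hq] at this
    exact this
  · -- hfrac
    intro m
    obtain ⟨a, b, hb, hab⟩ := IsFractionRing.div_surjective (A := SGA1.kummerAlg A f n ⧸ q) m
    obtain ⟨a, rfl⟩ := Ideal.Quotient.mk_surjective a
    obtain ⟨b, rfl⟩ := Ideal.Quotient.mk_surjective b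
    obtain ⟨a, rfl⟩ := Ideal.Quotient.mk_surjective a
    obtain ⟨b, rfl⟩ := Ideal.Quotient.mk_surjective b
    refine ⟨a, b, ?_, hab.symm⟩
    intro h0
    have h1 : Ideal.Quotient.mk (kI f n) b ∈ q := by
      rw [← Ideal.ker_algebraMap_residueField (I := q), RingHom.mem_ker]
      exact h0
    have h2 : Ideal.Quotient.mk q (Ideal.Quotient.mk (kI f n) b) = 0 :=
      Ideal.Quotient.eq_zero_iff_mem.mpr h1
    exact nonZeroDivisors.ne_zero hb h2
  · -- hint
    intro x
    obtain ⟨p, hp, hpx⟩ := (isIntegral f n hn').isIntegral (Ideal.Quotient.mk _ x)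
    refine ⟨p, hp, ?_⟩
    have := congrArg (algebraMap (SGA1.kummerAlg A f n) q.ResidueField) hpx
    rw [Polynomial.hom_eval₂, map_zero] at this
    convert this using 2
    · ext a; exact hg₀alg a
    · rfl
  · -- hunit
    intro j hji
    exact IsLocalization.map_units _
      (⟨f j, not_mem_span_of_linearIndependent f hm hf i j hji⟩ : (Ideal.span {f i}).primeCompl)
  · -- hπ
    rw [← Localization.AtPrime.map_eq_maximalIdeal, Ideal.map_span, Set.image_singleton]
  · -- hnuD
    intro j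
    have h1 : IsUnit ((n j : ℕ) : A) := by
      apply isUnit_of_map_unit (residue A)
      rw [map_natCast]; exact hu j
    have h2 := (h1.map (algebraMap A (Localization.AtPrime (Ideal.span {f i})))).map
      (residue (Localization.AtPrime (Ideal.span {f i})))
    rw [map_natCast, map_natCast] at h2
    exact h2.ne_zero
  · -- hfi
    intro h
    apply hf.ne_zero i
    show (maximalIdeal A).toCotangent ⟨f i, hm i⟩ = 0
    have : (⟨f i, hm i⟩ : maximalIdeal A) = 0 := Subtype.ext h
    rw [this, map_zero]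

end

end Groth.Agent.Lib.R2H1.KummerTame
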