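import Mathlib

/-!
# The `ℓ`-torsion of the cokernel of a connected "Laplacian-like" integer matrix (R2H1)

`card_torsion_le`: for a symmetric integer matrix `A` with nonnegative off-diagonal entries,
connected, killing `m`, and a prime `ℓ` dividing no nonzero entry of `A` and no `m i`, the
`ℓ`-torsion of the cokernel of `A` has at most `ℓ ^ (e + 1 - n)` elements, `e` the number of edges.
The proof is the dimension count `dim ker (Dᵀ C D) ≤ dim ker D + dim ker Dᵀ` for the incidence
matrix `D` of the graph over `ZMod ℓ`.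
-/

set_option autoImplicit false
set_option linter.style.haveILetI false

namespace Groth.Agent.Lib.R2H1.LapTorsion

section
open Finset

section Field

variable {F : Type*} [Field F] {n : ℕ}

/-- the (oriented) incidence matrix of a set of edges -/
def inc (S : Finset (Fin n × Fin n)) : Matrix S (Fin n) F :=
  fun e i => (if i = e.1.2 then 1 else 0) - (if i = e.1.1 then 1 else 0)

theorem inc_mulVec (S : Finset (Fin n × Fin n)) (y : Fin n → F) (e : S) :
    (inc S).mulVec y e = y e.1.2 - y e.1.1 := by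
  simp only [Matrix.mulVec, dotProduct, inc, sub_mul, ite_mul, one_mul, zero_mul,
    Finset.sum_sub_distrib, Finset.sum_ite_eq', Finset.mem_univ, if_true]

theorem finrank_le_of_map {V U : Type*} [AddCommGroup V] [Module F V] [AddCommGroup U]
    [Module F U] [FiniteDimensional F V] [FiniteDimensional F U]
    (f : V →ₗ[F] U) (K P : Submodule F V) (W : Submodule F U)
    (h1 : ∀ x ∈ K, f x ∈ W) (h2 : ∀ x ∈ K, f x = 0 → x ∈ P) :
    Module.finrank F K ≤ Module.finrank F P + Module.finrank F W := by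
  have h := LinearMap.finrank_range_add_finrank_ker (f.domRestrict K)
  have e1 : Module.finrank F (LinearMap.range (f.domRestrict K)) ≤ Module.finrank F W := by
    apply Submodule.finrank_mono
    rintro _ ⟨x, rfl⟩
    exact h1 x.1 x.2
  have e2 : Module.finrank F (LinearMap.ker (f.domRestrict K)) ≤ Module.finrank F P := by
    rw [← Submodule.finrank_map_subtype_eq K (LinearMap.ker (f.domRestrict K))]
    apply Submodule.finrank_mono
    rintro _ ⟨x, hx, rfl⟩
    exact h2 x.1 x.2 hx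
  omega

theorem sum_antisymm (φ : Fin n → Fin n → F) (hφ : ∀ a b, φ a b = -φ b a)
    (hφ0 : ∀ a, φ a a = 0) (i : Fin n) :
    ∑ a, ∑ b, (if a < b then ((if i = b then (1 : F) else 0) - (if i = a then 1 else 0)) * φ a b
      else 0) = -∑ j, φ i j := by
  have h1 : ∀ a b, (if a < b then ((if i = b then (1 : F) else 0) - (if i = a then 1 else 0)) * φ a b
      else 0) = (if i = b then (if a < i then φ a i else 0) else 0) -
        (if i = a then (if i < b then φ i b else 0) else 0) := by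
    intro a b
    by_cases hab : a < b
    · rw [if_pos hab]
      by_cases hb : i = b
      · subst hb
        have hia : i ≠ a := fun h => by subst h; exact lt_irrefl _ hab
        rw [if_pos rfl, if_neg hia, if_pos rfl, if_pos hab, if_neg hia]; ring
      · rw [if_neg hb, if_neg hb]
        by_cases ha : i = a
        · subst ha
          rw [if_pos rfl, if_pos rfl, if_pos hab]; ring
        · rw [if_neg ha, if_neg ha]; ring
    · rw [if_neg hab]
      by_cases hb : i = b
      · subst hb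
        rw [if_pos rfl, if_neg hab]
        by_cases ha : i = a
        · subst ha; rw [if_pos rfl, if_neg (lt_irrefl _)]; ring
        · rw [if_neg ha]; ring
      · rw [if_neg hb]
        by_cases ha : i = a
        · subst ha; rw [if_pos rfl, if_neg hab]; ring
        · rw [if_neg ha]; ring
  simp only [h1, Finset.sum_sub_distrib, Finset.sum_ite_eq, Finset.mem_univ, if_true]
  rw [Finset.sum_comm (f := fun a b => if i = a then (if i < b then φ i b else 0) else 0)]
  simp only [Finset.sum_ite_eq, Finset.mem_univ, if_true]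
  rw [← Finset.sum_sub_distrib, ← Finset.sum_neg_distrib]
  refine Finset.sum_congr rfl fun j _ => ?_
  rcases lt_trichotomy j i with h | h | h
  · rw [if_pos h, if_neg (not_lt.mpr h.le), hφ j i]; ring
  · subst h; rw [if_neg (lt_irrefl _), hφ0]; ring
  · rw [if_neg (not_lt.mpr h.le), if_pos h]; ring

end Field

end

section
open Finset Matrix

section Field

variable {F : Type*} [Field F] {n : ℕ}

/-- the map `x ↦ (c_e (y_b - y_a))_e`, `y = x / μ` -/
def gmap (L : Matrix (Fin n) (Fin n) F) (μ : Fin n → F) (S : Finset (Fin n × Fin n)) :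
    (Fin n → F) →ₗ[F] (S → F) where
  toFun x e := L e.1.1 e.1.2 * μ e.1.1 * μ e.1.2 * (x e.1.2 / μ e.1.2 - x e.1.1 / μ e.1.1)
  map_add' x x' := by funext e; simp only [Pi.add_apply]; ring
  map_smul' c x := by
    funext e; simp only [Pi.smul_apply, smul_eq_mul, RingHom.id_apply]; ring

theorem gmap_apply (L : Matrix (Fin n) (Fin n) F) (μ : Fin n → F) (S : Finset (Fin n × Fin n))
    (x : Fin n → F) (e : S) : gmap L μ S x e =
      L e.1.1 e.1.2 * μ e.1.1 * μ e.1.2 * (x e.1.2 / μ e.1.2 - x e.1.1 / μ e.1.1) := rfl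

theorem gmap_mem_ker (L : Matrix (Fin n) (Fin n) F) (μ : Fin n → F) (S : Finset (Fin n × Fin n))
    (hsymm : ∀ i j, L i j = L j i) (hμ : ∀ i, μ i ≠ 0) (hLμ : L.mulVec μ = 0)
    (hS1 : ∀ p ∈ S, p.1 < p.2)
    (hS2 : ∀ a b, a < b → L a b ≠ 0 → (a, b) ∈ S)
    (x : Fin n → F) (hx : L.mulVec x = 0) :
    (inc (F := F) S)ᵀ.mulVec (gmap L μ S x) = 0 := by
  funext i
  simp only [Matrix.mulVec, dotProduct, Matrix.transpose_apply, Pi.zero_apply]
  set φ : Fin n → Fin n → F := fun a b => L a b * μ a * μ b * (x b / μ b - x a / μ a) with hφ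
  have e1 : ∑ e : S, inc (F := F) S e i * gmap L μ S x e =
      ∑ p ∈ S, ((if i = p.2 then (1 : F) else 0) - (if i = p.1 then 1 else 0)) * φ p.1 p.2 :=
    Finset.sum_coe_sort S
      (fun p => ((if i = p.2 then (1 : F) else 0) - (if i = p.1 then 1 else 0)) * φ p.1 p.2)
  rw [e1]
  have hsub : S ⊆ univ.filter (fun p : Fin n × Fin n => p.1 < p.2) := by
    intro p hp
    rw [Finset.mem_filter]
    exact ⟨Finset.mem_univ _, hS1 p hp⟩
  rw [Finset.sum_subset hsub (by
    intro p hp hpS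
    rw [Finset.mem_filter] at hp
    have : L p.1 p.2 = 0 := by
      by_contra hne
      exact hpS (hS2 p.1 p.2 hp.2 hne)
    simp only [hφ, this, zero_mul, mul_zero])]
  rw [Finset.sum_filter, Fintype.sum_prod_type]
  rw [sum_antisymm φ (fun a b => by simp only [hφ]; rw [hsymm b a]; ring)
    (fun a => by simp only [hφ, sub_self, mul_zero]) i]
  rw [neg_eq_zero]
  have h1 := congrFun hx i
  have h2 := congrFun hLμ i
  simp only [Matrix.mulVec, dotProduct, Pi.zero_apply] at h1 h2
  have e2 : ∀ j, φ i j = μ i * (L i j * x j) - x i * (L i j * μ j) := by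
    intro j
    simp only [hφ]
    have := hμ i
    have := hμ j
    field_simp
  simp only [e2, Finset.sum_sub_distrib, ← Finset.mul_sum, h1, h2, mul_zero, sub_zero]

theorem mem_span_of_gmap_eq_zero (L : Matrix (Fin n) (Fin n) F) (μ : Fin n → F)
    (S : Finset (Fin n × Fin n)) (i0 : Fin n) (hμ : ∀ i, μ i ≠ 0)
    (hS3 : ∀ p ∈ S, L p.1 p.2 ≠ 0)
    (hS4 : ∀ y : Fin n → F, (∀ p ∈ S, y p.1 = y p.2) → ∀ i j, y i = y j)
    (x : Fin n → F) (hx : gmap L μ S x = 0) : x ∈ Submodule.span F {μ} := by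
  have h1 : ∀ p ∈ S, x p.1 / μ p.1 = x p.2 / μ p.2 := by
    intro p hp
    have h2 := congrFun hx ⟨p, hp⟩
    rw [gmap_apply, Pi.zero_apply] at h2
    have h3 : L p.1 p.2 * μ p.1 * μ p.2 ≠ 0 :=
      mul_ne_zero (mul_ne_zero (hS3 p hp) (hμ _)) (hμ _)
    have h4 := (mul_eq_zero.mp h2).resolve_left h3
    exact (sub_eq_zero.mp h4).symm
  have h5 := hS4 (fun i => x i / μ i) h1
  rw [Submodule.mem_span_singleton]
  refine ⟨x i0 / μ i0, ?_⟩
  funext i
  have h6 : x i / μ i = x i0 / μ i0 := h5 i i0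
  rw [Pi.smul_apply, smul_eq_mul, ← h6]
  have := hμ i
  field_simp

theorem finrank_ker_le (L : Matrix (Fin n) (Fin n) F) (μ : Fin n → F)
    (S : Finset (Fin n × Fin n)) (i0 : Fin n)
    (hsymm : ∀ i j, L i j = L j i) (hμ : ∀ i, μ i ≠ 0) (hLμ : L.mulVec μ = 0)
    (hS1 : ∀ p ∈ S, p.1 < p.2)
    (hS2 : ∀ a b, a < b → L a b ≠ 0 → (a, b) ∈ S)
    (hS3 : ∀ p ∈ S, L p.1 p.2 ≠ 0)
    (hS4 : ∀ y : Fin n → F, (∀ p ∈ S, y p.1 = y p.2) → ∀ i j, y i = y j) :
    Module.finrank F (LinearMap.ker L.mulVecLin) + n ≤ S.card + 2 := by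
  classical
  -- the kernel of the incidence matrix
  have hkerD : Module.finrank F (LinearMap.ker (inc (F := F) S).mulVecLin) ≤ 1 := by
    have hle : LinearMap.ker (inc (F := F) S).mulVecLin ≤
        Submodule.span F {(fun _ => 1 : Fin n → F)} := by
      intro y hy
      rw [LinearMap.mem_ker, Matrix.mulVecLin_apply] at hy
      have h1 : ∀ p ∈ S, y p.1 = y p.2 := by
        intro p hp
        have := congrFun hy ⟨p, hp⟩
        rw [inc_mulVec, Pi.zero_apply] at this
        exact (sub_eq_zero.mp this).symm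
      have h2 := hS4 y h1
      rw [Submodule.mem_span_singleton]
      refine ⟨y i0, ?_⟩
      funext i
      rw [Pi.smul_apply, smul_eq_mul, mul_one, h2 i i0]
    refine (Submodule.finrank_mono hle).trans ?_
    rw [finrank_span_singleton]
    intro h
    have := congrFun h i0
    simp at this
  have hrank : n ≤ (inc (F := F) S).rank + 1 := by
    have h := LinearMap.finrank_range_add_finrank_ker (inc (F := F) S).mulVecLin
    rw [Module.finrank_fin_fun] at h
    unfold Matrix.rank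
    omega
  have hδ : Module.finrank F (LinearMap.ker (inc (F := F) S)ᵀ.mulVecLin) +
      (inc (F := F) S).rank = S.card := by
    have h := LinearMap.finrank_range_add_finrank_ker (inc (F := F) S)ᵀ.mulVecLin
    rw [Module.finrank_fintype_fun_eq_card, Fintype.card_coe] at h
    rw [← Matrix.rank_transpose]
    unfold Matrix.rank
    omega
  have hmain := finrank_le_of_map (gmap L μ S) (LinearMap.ker L.mulVecLin)
    (Submodule.span F {μ}) (LinearMap.ker (inc (F := F) S)ᵀ.mulVecLin)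
    (fun x hx => by
      rw [LinearMap.mem_ker, Matrix.mulVecLin_apply] at hx ⊢
      exact gmap_mem_ker L μ S hsymm hμ hLμ hS1 hS2 x hx)
    (fun x _ hx0 => mem_span_of_gmap_eq_zero L μ S i0 hμ hS3 hS4 x hx0)
  have hμ0 : μ ≠ 0 := fun h => hμ i0 (by rw [h]; rfl)
  rw [finrank_span_singleton hμ0] at hmain
  omega

end Field

end

section
open Finset Matrix

section Main

variable {n : ℕ} (A : Matrix (Fin n) (Fin n) ℤ) (m : Fin n → ℤ) (ℓ : ℕ)

/-- reduction mod `ℓ` -/
def red (v : Fin n → ℤ) : Fin n → ZMod ℓ := fun i => (v i : ZMod ℓ)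

theorem red_mulVec (u : Fin n → ℤ) :
    (A.map (Int.cast : ℤ → ZMod ℓ)).mulVec (red ℓ u) = red ℓ (A.mulVec u) := by
  funext i
  simp [Matrix.mulVec, dotProduct, red]

theorem red_add (u v : Fin n → ℤ) : red ℓ (u + v) = red ℓ u + red ℓ v := by
  funext i; simp [red]

theorem red_sub (u v : Fin n → ℤ) : red ℓ (u - v) = red ℓ u - red ℓ v := by
  funext i; simp [red]

theorem red_smul (k : ℤ) (v : Fin n → ℤ) : red ℓ (k • v) = (k : ZMod ℓ) • red ℓ v := by
  funext i; simp [red]

theorem red_eq_zero (v : Fin n → ℤ) (h : red ℓ v = 0) : ∃ u : Fin n → ℤ, v = (ℓ : ℤ) • u := by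
  have h1 : ∀ i, ∃ c, v i = (ℓ : ℤ) * c := fun i =>
    (ZMod.intCast_zmod_eq_zero_iff_dvd (v i) ℓ).mp (congrFun h i)
  choose u hu using h1
  exact ⟨u, funext fun i => by rw [Pi.smul_apply, smul_eq_mul, hu i]⟩

theorem card_torsion_mul_le [hℓ : Fact ℓ.Prime] (i0 : Fin n) (hAm : A.mulVec m = 0)
    (hℓm : ¬ ((ℓ : ℤ) ∣ m i0)) :
    Nat.card (Submodule.torsionBy ℤ ((Fin n → ℤ) ⧸ LinearMap.range (Matrix.mulVecLin A)) (ℓ : ℤ))
      * ℓ ≤ ℓ ^ Module.finrank (ZMod ℓ)
        (LinearMap.ker (A.map (Int.cast : ℤ → ZMod ℓ)).mulVecLin) := by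
  classical
  set L : Matrix (Fin n) (Fin n) (ZMod ℓ) := A.map (Int.cast : ℤ → ZMod ℓ) with hL
  have hℓ0 : (ℓ : ℤ) ≠ 0 := by exact_mod_cast hℓ.out.ne_zero
  have hLm : L.mulVec (red ℓ m) = 0 := by
    rw [hL, red_mulVec, hAm]; funext i; simp [red]
  have hm0 : red ℓ m i0 ≠ 0 := fun h =>
    hℓm ((ZMod.intCast_zmod_eq_zero_iff_dvd (m i0) ℓ).mp h)
  -- choose representatives
  have hrep : ∀ z : Submodule.torsionBy ℤ
      ((Fin n → ℤ) ⧸ LinearMap.range (Matrix.mulVecLin A)) (ℓ : ℤ),
      ∃ v u : Fin n → ℤ, Submodule.Quotient.mk v = z.1 ∧ A.mulVec u = (ℓ : ℤ) • v := by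
    intro z
    obtain ⟨v, hv⟩ := Submodule.Quotient.mk_surjective _ z.1
    have hz : (ℓ : ℤ) • z.1 = 0 := (Submodule.mem_torsionBy_iff _ _).mp z.2
    rw [← hv, ← Submodule.Quotient.mk_smul, Submodule.Quotient.mk_eq_zero] at hz
    obtain ⟨u, hu⟩ := hz
    exact ⟨v, u, hv, hu⟩
  choose vf uf hvf huf using hrep
  have hker : ∀ (z : Submodule.torsionBy ℤ
      ((Fin n → ℤ) ⧸ LinearMap.range (Matrix.mulVecLin A)) (ℓ : ℤ)) (c : ZMod ℓ),
      red ℓ (uf z) + c • red ℓ m ∈ LinearMap.ker L.mulVecLin := by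
    intro z c
    rw [LinearMap.mem_ker, Matrix.mulVecLin_apply, Matrix.mulVec_add, Matrix.mulVec_smul, hLm,
      smul_zero, add_zero, hL, red_mulVec, huf z, red_smul]
    simp
  let Φ : Submodule.torsionBy ℤ
      ((Fin n → ℤ) ⧸ LinearMap.range (Matrix.mulVecLin A)) (ℓ : ℤ) × ZMod ℓ →
      LinearMap.ker L.mulVecLin := fun p => ⟨red ℓ (uf p.1) + p.2 • red ℓ m, hker p.1 p.2⟩
  have hΦ : Function.Injective Φ := by
    rintro ⟨z1, c1⟩ ⟨z2, c2⟩ h12
    have h1 : red ℓ (uf z1) + c1 • red ℓ m = red ℓ (uf z2) + c2 • red ℓ m :=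
      congrArg Subtype.val h12
    obtain ⟨k1, rfl⟩ := ZMod.intCast_surjective c1
    obtain ⟨k2, rfl⟩ := ZMod.intCast_surjective c2
    have h2 : red ℓ (uf z1 - uf z2 + (k1 - k2) • m) = 0 := by
      rw [red_add, red_sub, red_smul, Int.cast_sub, sub_smul]
      linear_combination (exp := 1) h1
    obtain ⟨u'', hu''⟩ := red_eq_zero ℓ _ h2
    have h3 : A.mulVec (uf z1 - uf z2 + (k1 - k2) • m) = (ℓ : ℤ) • (vf z1 - vf z2) := by
      rw [Matrix.mulVec_add, Matrix.mulVec_sub, Matrix.mulVec_smul, hAm, huf, huf, smul_zero,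
        add_zero, smul_sub]
    rw [hu'', Matrix.mulVec_smul] at h3
    have h4 : A.mulVec u'' = vf z1 - vf z2 := by
      funext i
      have := congrFun h3 i
      simp only [Pi.smul_apply, smul_eq_mul] at this
      exact mul_left_cancel₀ hℓ0 this
    have h5 : z1 = z2 := by
      apply Subtype.ext
      rw [← hvf z1, ← hvf z2, Submodule.Quotient.eq]
      exact ⟨u'', h4⟩
    subst h5
    have h6 : ((k1 : ZMod ℓ)) • red ℓ m = (k2 : ZMod ℓ) • red ℓ m := add_left_cancel h1
    have h7 := congrFun h6 i0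
    simp only [Pi.smul_apply, smul_eq_mul] at h7
    rw [mul_right_cancel₀ hm0 h7]
  have hfin : Finite (LinearMap.ker L.mulVecLin) := inferInstance
  have hle := Nat.card_le_card_of_injective Φ hΦ
  rw [Nat.card_prod, Nat.card_zmod,
    Module.natCard_eq_pow_finrank (K := ZMod ℓ) (V := LinearMap.ker L.mulVecLin),
    Nat.card_zmod] at hle
  exact hle

end Main

end

section
open Finset Matrix

theorem card_torsion_le {n : ℕ} (A : Matrix (Fin n) (Fin n) ℤ)
    (m : Fin n → ℤ) (hsymm : A.IsSymm) (hA : ∀ i j, i ≠ j → 0 ≤ A i j)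
    (hAm : A.mulVec m = 0)
    (hconn : ∀ I : Finset (Fin n), I.Nonempty → I ≠ univ → ∃ i ∈ I, ∃ j ∉ I, A i j ≠ 0)
    (ℓ : ℕ) (hℓ : ℓ.Prime) (hℓA : ∀ i j, A i j ≠ 0 → ¬ ((ℓ : ℤ) ∣ A i j))
    (hℓm : ∀ i, ¬ ((ℓ : ℤ) ∣ m i))
    (S : Finset (Fin n × Fin n)) (hS : ∀ p, p ∈ S ↔ p.1 < p.2 ∧ 0 < A p.1 p.2) :
    Nat.card (Submodule.torsionBy ℤ ((Fin n → ℤ) ⧸ LinearMap.range (Matrix.mulVecLin A)) (ℓ : ℤ))
      ≤ ℓ ^ (S.card + 1 - n) := by
  classical
  haveI : Fact ℓ.Prime := ⟨hℓ⟩
  rcases Nat.eq_zero_or_pos n with hn | hn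
  · subst hn
    haveI : Subsingleton ((Fin 0 → ℤ) ⧸ LinearMap.range (Matrix.mulVecLin A)) :=
      (Submodule.Quotient.mk_surjective _).subsingleton
    rw [Nat.card_of_subsingleton (0 : Submodule.torsionBy ℤ
      ((Fin 0 → ℤ) ⧸ LinearMap.range (Matrix.mulVecLin A)) (ℓ : ℤ))]
    exact Nat.one_le_pow _ _ hℓ.pos
  · set i0 : Fin n := ⟨0, hn⟩
    set L : Matrix (Fin n) (Fin n) (ZMod ℓ) := A.map (Int.cast : ℤ → ZMod ℓ) with hL
    have hLne : ∀ a b, L a b ≠ 0 ↔ A a b ≠ 0 := by
      intro a b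
      rw [hL, Matrix.map_apply]
      constructor
      · intro h h0; apply h; rw [h0]; simp
      · intro h h0
        exact hℓA a b h ((ZMod.intCast_zmod_eq_zero_iff_dvd _ _).mp h0)
    have hfin := finrank_ker_le L (red ℓ m) S i0
      (fun i j => by rw [hL, Matrix.map_apply, Matrix.map_apply, hsymm.apply])
      (fun i h => hℓm i ((ZMod.intCast_zmod_eq_zero_iff_dvd _ _).mp h))
      (by rw [hL, red_mulVec, hAm]; funext i; simp [red])
      (fun p hp => ((hS p).mp hp).1)
      (fun a b hab hne => (hS (a, b)).mpr ⟨hab,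
        lt_of_le_of_ne (hA a b hab.ne) (Ne.symm ((hLne a b).mp hne))⟩)
      (fun p hp => (hLne _ _).mpr ((hS p).mp hp).2.ne')
      (by
        intro y hy i j
        by_contra hij
        set I : Finset (Fin n) := univ.filter (fun k => y k = y i) with hI
        have hne : I.Nonempty := ⟨i, by rw [hI, Finset.mem_filter]; exact ⟨mem_univ _, rfl⟩⟩
        have hnu : I ≠ univ := by
          intro he
          have : j ∈ I := he ▸ mem_univ j
          rw [hI, Finset.mem_filter] at this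
          exact hij this.2.symm
        obtain ⟨a, ha, b, hb, hab⟩ := hconn I hne hnu
        rw [hI, Finset.mem_filter] at ha hb
        have hanb : a ≠ b := by
          rintro rfl; exact hb ha
        apply hb
        refine ⟨mem_univ _, ?_⟩
        rcases lt_or_gt_of_ne hanb with h | h
        · have := hy (a, b) ((hS (a, b)).mpr ⟨h, lt_of_le_of_ne (hA a b hanb) (Ne.symm hab)⟩)
          simp only at this
          rw [← this]; exact ha.2
        · have hba : A b a ≠ 0 := by rwa [hsymm.apply]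
          have := hy (b, a) ((hS (b, a)).mpr ⟨h, lt_of_le_of_ne (hA b a hanb.symm) (Ne.symm hba)⟩)
          simp only at this
          rw [this]; exact ha.2)
    have hmul := card_torsion_mul_le A m ℓ i0 hAm (hℓm i0)
    rcases Nat.eq_zero_or_pos (Module.finrank (ZMod ℓ) (LinearMap.ker L.mulVecLin)) with h0 | h0
    · rw [← hL, h0, pow_zero] at hmul
      have h2 := hℓ.two_le
      have : Nat.card (Submodule.torsionBy ℤ
          ((Fin n → ℤ) ⧸ LinearMap.range (Matrix.mulVecLin A)) (ℓ : ℤ)) = 0 := by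
        by_contra hne
        have : 1 ≤ Nat.card (Submodule.torsionBy ℤ
          ((Fin n → ℤ) ⧸ LinearMap.range (Matrix.mulVecLin A)) (ℓ : ℤ)) := Nat.one_le_iff_ne_zero.mpr hne
        nlinarith
      rw [this]; exact Nat.zero_le _
    · obtain ⟨k, hk⟩ := Nat.exists_eq_succ_of_ne_zero h0.ne'
      rw [← hL, hk, pow_succ] at hmul
      have h1 := Nat.le_of_mul_le_mul_right hmul hℓ.pos
      refine h1.trans (Nat.pow_le_pow_right hℓ.pos ?_)
      omega

end

end Groth.Agent.Lib.R2H1.LapTorsion
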