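import Mathlib
import Groth.Agent.Lib.R2H1IsoP1F
import Groth.Agent.Lib.R2H1SkyDecomp
import Groth.Agent.Lib.R2H2PnMumford
import Groth.Agent.Lib.R2LeadKRR
set_option backward.isDefEq.respectTransparency.types false

/-!
helper1 (run 2): Castelnuovo-Mumford regularity passes from a coherent submodule to the module when the cokernel has finite support (S12905). API: s12905.
-/

set_option autoImplicit false
set_option linter.style.haveILetI false
set_option linter.unusedSectionVars false
universe u v

open CategoryTheory CategoryTheory.Limits AlgebraicGeometry TopologicalSpace Opposite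

namespace Groth.Agent.Lib.R2H1.MRegSuper

section Part1

open Groth.Agent.Lib.R2H2.HHLin Groth.Agent.Lib.R2H1.PicLaw Groth.Agent.Lib.R2H1.CurveDegSec

/-- S12905: regularity passes to a supermodule with cokernel of finite support -/
theorem s12905 (k : Type u) [Field k] (n : ℕ)
    (F' F : (CohB1.ProjSpace n k).Modules) (hF' : Coh.IsCoh F') (hF : Coh.IsCoh F) (φ : F' ⟶ F) [Mono φ]
    (hsupp : topologicalKrullDim (CohB1.support (cokernel φ)) ≤ 0) (m : ℤ)
    (h : Curv2.IsMRegular k n F' m) : Curv2.IsMRegular k n F m := by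
  intro i hi hin
  haveI : IsProper ((CohB1.ProjSpace n k) ↘ Spec (CommRingCat.of k)) :=
    Groth.Agent.S9705.isProper_projSpace_toSpec n k
  obtain ⟨E, hEdef⟩ : ∃ E : (CohB1.ProjSpace n k).Modules, E = Twist.twistProjSpace n k (m - i) :=
    ⟨_, rfl⟩
  have hE : PicF.IsInvertible E := by
    rw [hEdef]; exact Groth.Agent.Lib.R2Lead.KRR.isInvertible_twistProjSpace n k (m - i)
  have h1 := h i hi hin
  rw [← hEdef] at h1 ⊢
  have cE := isCoh_of_isInvertible E hE
  have cT : Coh.IsCoh (cokernel φ) := Groth.Agent.Lib.R2H2.NilFilt.isCoh_cokernel hF' hF φ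
  have hcl : IsClosed (CohB1.support (cokernel φ)) := Groth.Agent.S0020.result _ _ cT.2
  obtain ⟨S, hSdef⟩ : ∃ S : ShortComplex (CohB1.ProjSpace n k).Modules,
      S = ShortComplex.mk φ (cokernel.π φ) (cokernel.condition φ) := ⟨_, rfl⟩
  have hS : S.ShortExact := by
    subst hSdef
    exact { exact := ShortComplex.exact_cokernel φ
            mono_f := inferInstanceAs (Mono φ)
            epi_g := inferInstanceAs (Epi (cokernel.π φ)) }
  have hS' := Groth.Agent.Lib.R2Lead.TensorExact.shortExact_map_tensorBi_of_isInvertible E hE S hS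
  -- the outer terms have vanishing cohomology
  haveI h₁ : Subsingleton (Coh.HH (CohB1.ProjSpace n k) (S.map (DCoh.tensorBi.obj E)).X₁ i) := by
    subst hSdef
    have hb := Groth.Agent.Lib.R2H2.PnMumford.bijective_HmapL_of_iso (commI E F') i
    exact hb.injective.subsingleton
  haveI h₃ : Subsingleton (Coh.HH (CohB1.ProjSpace n k) (S.map (DCoh.tensorBi.obj E)).X₃ i) := by
    subst hSdef
    have hb := Groth.Agent.Lib.R2H2.PnMumford.bijective_HmapL_of_iso (commI E (cokernel φ)) i
    have cTE : Coh.IsCoh (CohB1.tensorMod (cokernel φ) E) :=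
      Groth.Agent.Lib.R2H1.BirDeg.isCoh_tensorMod cT cE
    have hsub : CohB1.support (CohB1.tensorMod (cokernel φ) E) ⊆ CohB1.support (cokernel φ) := by
      intro y hy
      by_contra hcon
      exact hy (Groth.Agent.Lib.R2H1.SkyDecomp.stalk_tensor_subsingleton (cokernel φ) E _ hcl
        (fun x hx => not_not.mp hx) y hcon)
    have hdim : topologicalKrullDim (CohB1.support (CohB1.tensorMod (cokernel φ) E)) ≤ 0 :=
      le_trans (Topology.IsInducing.topologicalKrullDim_le
        (Topology.IsEmbedding.inclusion hsub).isInducing) hsupp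
    haveI := Groth.Agent.Lib.R2H1.ZeroDimCoh.s1526 k _ _ cTE hdim i hi
    exact hb.injective.subsingleton
  haveI h₂ := Groth.Agent.Lib.R2H1.CurveVanish.subsingleton_mid _ hS' i
  subst hSdef
  haveI h₂' : Subsingleton (Coh.HH (CohB1.ProjSpace n k) (CohB1.tensorMod E F) i) := h₂
  have hb := Groth.Agent.Lib.R2H2.PnMumford.bijective_HmapL_of_iso (commI F E) i
  exact hb.injective.subsingleton

end Part1

end Groth.Agent.Lib.R2H1.MRegSuper
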