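/-
Cycle-level multiplicity one (helper1, round 2, S1954): local_core' (P+Q=m variant, with dim A/P + dim A/Q = dim A), eq_bot_of_ringKrullDim_quotient_eq, prime_eq_of_le_of_dim_eq, length_self_eq_one_of_isDomain, isField_of_length_self_eq_one, chi_congr; stalkIdeal_transport, nonempty_quot_stalkIdeal_equiv (O_X,x / stalkIdeal i.ker x = O_Y,y for closed immersions), ker_comp_eq_sup (ideal of Y x_X Z at a point = I_Y + I_Z), sup_eq_maximalIdeal; of_subschemeFun_ne_zero, subschemeFun_eq_length, subschemeFun_eq_one, support_ptIdeal, eq_of_ker_specMap_eq; stalkIdeal_ker_le, dim_ge, ker_eq_of_dim, main.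
-/
import Mathlib
import Groth.Prelude
import Groth.Agent.Lib.R2H1MultOne
import Groth.Agent.Lib.R2H1P1Inter
import Groth.Agent.Lib.R2H1PullbackKer
import Groth.Agent.Lib.Helper8LocFact

set_option autoImplicit false
set_option linter.style.haveILetI false
set_option linter.unusedSectionVars false
universe u v

namespace Groth.Agent.Lib.R2H1.MultOneCyc

section Part1

open IsLocalRing Module Groth.Agent.Lib.Helper5 RingTheory.Sequence Groth.Agent.Helper13Kz Pointwise
open Groth.Agent.Lib.R2H1.MultOne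

/-- length one of `A/𝔪`. -/
theorem length_quot_maximalIdeal (A : Type u) [CommRing A] [IsLocalRing A] :
    Module.length A (A ⧸ maximalIdeal A) = 1 := by
  rw [Module.length_eq_one_iff, isSimpleModule_iff_isCoatom]
  exact Ideal.isMaximal_def.mp (maximalIdeal.isMaximal A)

/-- if `P + Q = 𝔪` in a regular local ring, then `dim A/P + dim A/Q ≤ dim A`. -/
theorem dim_add_le (A : Type u) [CommRing A] [IsRegularLocalRing A] (P Q : Ideal A) (a b c : ℕ)
    (ha : ringKrullDim A = a) (hb : ringKrullDim (A ⧸ P) = b) (hc : ringKrullDim (A ⧸ Q) = c)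
    (hmax : P ⊔ Q = maximalIdeal A) : b + c ≤ a := by
  have hPle : P ≤ maximalIdeal A := hmax ▸ le_sup_left
  have hQle : Q ≤ maximalIdeal A := hmax ▸ le_sup_right
  have hPne : P ≠ ⊤ := fun h => (maximalIdeal.isMaximal A).ne_top (top_le_iff.mp (h ▸ hPle))
  have hQne : Q ≠ ⊤ := fun h => (maximalIdeal.isMaximal A).ne_top (top_le_iff.mp (h ▸ hQle))
  haveI : IsLocalRing (A ⧸ P) := isLocalRing_quotient hPne
  haveI : IsLocalRing (A ⧸ Q) := isLocalRing_quotient hQne
  have hsup : cotV P ⊔ cotV Q = ⊤ := by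
    rw [eq_top_iff]
    intro t _
    obtain ⟨z, rfl⟩ := (maximalIdeal A).toCotangent_surjective t
    have hz : (z : A) ∈ P ⊔ Q := by rw [hmax]; exact z.2
    obtain ⟨p, hp, q, hq, hpq⟩ := Submodule.mem_sup.mp hz
    have : z = ⟨p, hPle hp⟩ + ⟨q, hQle hq⟩ := Subtype.ext hpq.symm
    rw [this, map_add]
    exact Submodule.add_mem_sup (toCotangent_mem_cotV _ hp) (toCotangent_mem_cotV _ hq)
  have hregA : ((maximalIdeal A).spanFinrank : WithBot ℕ∞) = ringKrullDim A :=
    IsRegularLocalRing.spanFinrank_maximalIdeal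
  rw [ha] at hregA
  have heA : (maximalIdeal A).spanFinrank = a := by exact_mod_cast hregA
  have hP := spanFinrank_maximalIdeal_quotient_add_finrank_cotV P
  have hQ := spanFinrank_maximalIdeal_quotient_add_finrank_cotV Q
  have hbP : (b : WithBot ℕ∞) ≤ ((maximalIdeal (A ⧸ P)).spanFinrank : WithBot ℕ∞) := by
    rw [← hb]; exact ringKrullDim_le_spanFinrank_maximalIdeal (A ⧸ P)
  have hcQ : (c : WithBot ℕ∞) ≤ ((maximalIdeal (A ⧸ Q)).spanFinrank : WithBot ℕ∞) := by
    rw [← hc]; exact ringKrullDim_le_spanFinrank_maximalIdeal (A ⧸ Q)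
  have hbP' : b ≤ (maximalIdeal (A ⧸ P)).spanFinrank := by exact_mod_cast hbP
  have hcQ' : c ≤ (maximalIdeal (A ⧸ Q)).spanFinrank := by exact_mod_cast hcQ
  have hfin := Submodule.finrank_add_le_finrank_add_finrank (cotV P) (cotV Q)
  rw [hsup, finrank_top, ← spanFinrank_maximalIdeal_eq_finrank_cotangentSpace, heA] at hfin
  omega

/-- variant of `local_core` with the hypothesis `P + Q = 𝔪`, also giving `dim A/P + dim A/Q = dim A`. -/
theorem local_core' (A : Type u) [CommRing A] [IsRegularLocalRing A] (P Q : Ideal A) (a b c : ℕ)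
    (ha : ringKrullDim A = a) (hb : ringKrullDim (A ⧸ P) = b) (hc : ringKrullDim (A ⧸ Q) = c)
    (habc : a ≤ b + c) (hmax : P ⊔ Q = maximalIdeal A) :
    IntMult.chi A (A ⧸ Q) (A ⧸ P) = 1 ∧ IsRegularLocalRing (A ⧸ P) ∧
      IsRegularLocalRing (A ⧸ Q) ∧ b + c = a := by
  have h1 : Module.length A (A ⧸ (P ⊔ Q)) = 1 := by
    rw [hmax]; exact length_quot_maximalIdeal A
  obtain ⟨h2, h3, h4⟩ := local_core A P Q a b c ha hb hc habc h1
  exact ⟨h2, h3, h4, le_antisymm (dim_add_le A P Q a b c ha hb hc hmax) habc⟩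

/-- in a domain of finite Krull dimension, a prime whose quotient has full dimension is zero. -/
theorem eq_bot_of_ringKrullDim_quotient_eq (R : Type u) [CommRing R] [IsDomain R] (p : Ideal R)
    (d : ℕ) (hd : ringKrullDim R = d) (hp : ringKrullDim (R ⧸ p) = d) : p = ⊥ := by
  by_contra hne
  obtain ⟨t, htp, ht0⟩ := Submodule.exists_mem_ne_zero_of_ne_bot hne
  have h1 := ringKrullDim_quotient_succ_le_of_nonZeroDivisor (mem_nonZeroDivisors_of_ne_zero ht0)
  have hle : Ideal.span {t} ≤ p := by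
    rw [Ideal.span_le, Set.singleton_subset_iff]; exact htp
  have h2 : ringKrullDim (R ⧸ p) ≤ ringKrullDim (R ⧸ Ideal.span {t}) :=
    ringKrullDim_le_of_surjective (Ideal.Quotient.factor hle) (Ideal.Quotient.factor_surjective hle)
  rw [hd] at h1
  rw [hp] at h2
  have h3 : ((d : ℕ) : WithBot ℕ∞) + 1 ≤ d := (add_le_add_left h2 1).trans h1
  have h4 : ((d + 1 : ℕ) : WithBot ℕ∞) ≤ d := by exact_mod_cast h3
  have h5 : d + 1 ≤ d := by exact_mod_cast h4
  omega

/-- two comparable primes with quotients of the same finite dimension are equal. -/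
theorem prime_eq_of_le_of_dim_eq (A : Type u) [CommRing A] (P p : Ideal A) [P.IsPrime]
    (hle : P ≤ p) (d : ℕ) (hP : ringKrullDim (A ⧸ P) = d) (hp : ringKrullDim (A ⧸ p) = d) :
    P = p := by
  haveI : IsDomain (A ⧸ P) := Ideal.Quotient.isDomain P
  have e : ((A ⧸ P) ⧸ p.map (Ideal.Quotient.mk P)) ≃+* A ⧸ p := DoubleQuot.quotQuotEquivQuotOfLE hle
  have h1 : ringKrullDim ((A ⧸ P) ⧸ p.map (Ideal.Quotient.mk P)) = d := by
    rw [ringKrullDim_eq_of_ringEquiv e, hp]
  have h2 := eq_bot_of_ringKrullDim_quotient_eq (A ⧸ P) _ d hP h1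
  apply le_antisymm hle
  intro x hx
  have : Ideal.Quotient.mk P x ∈ p.map (Ideal.Quotient.mk P) := Ideal.mem_map_of_mem _ hx
  rw [h2, Ideal.mem_bot, Ideal.Quotient.eq_zero_iff_mem] at this
  exact this

/-- a domain of finite nonzero length over itself has length one. -/
theorem length_self_eq_one_of_isDomain (R : Type u) [CommRing R] [IsDomain R]
    (h : (Module.length R R).toNat ≠ 0) : Module.length R R = 1 := by
  have hne : Module.length R R ≠ ⊤ := by
    intro htop; rw [htop] at h; exact h rfl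
  have hfl := Module.length_ne_top_iff.mp hne
  obtain ⟨_, hart⟩ := isFiniteLength_iff_isNoetherian_isArtinian.mp hfl
  haveI : IsArtinianRing R := hart
  have hfield := IsArtinianRing.isField_of_isDomain R
  rw [Module.length_eq_one_iff]
  exact (isSimpleModule_iff R R).mpr (Ring.isField_iff_isSimpleOrder_ideal.mp hfield)

/-- a ring of length one over itself is a field. -/
theorem isField_of_length_self_eq_one (R : Type u) [CommRing R]
    (h : Module.length R R = 1) : IsField R := by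
  have hs : IsSimpleModule R R := Module.length_eq_one_iff.mp h
  exact Ring.isField_iff_isSimpleOrder_ideal.mpr hs.toIsSimpleOrder

theorem chi_congr (A : Type u) [CommRing A] (P P' Q Q' : Ideal A) (hP : P = P') (hQ : Q = Q') :
    IntMult.chi A (A ⧸ Q) (A ⧸ P) = IntMult.chi A (A ⧸ Q') (A ⧸ P') := by
  subst hP; subst hQ; rfl

end Part1

section Part2

open CategoryTheory AlgebraicGeometry Limits TopologicalSpace IsLocalRing
open Groth.Agent.Lib.R2H1.P1Inter Groth.Agent.Lib.R2H1.PullbackKer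
open Groth.Agent.Lib.R2H1.IntMultCartier

variable {X Y Z : Scheme.{u}}


theorem stalkIdeal_transport (I : X.IdealSheafData) (x x' : X) (e : x = x') :
    Ideal.map (X.presheaf.stalkSpecializes (specializes_of_eq e)).hom (IntMult.stalkIdeal I x') =
      IntMult.stalkIdeal I x := by
  subst e
  have : X.presheaf.stalkSpecializes (specializes_of_eq (rfl : x = x)) = 𝟙 _ :=
    TopCat.Presheaf.stalkSpecializes_refl _ _
  rw [this]
  exact Ideal.map_id _

theorem nonempty_quot_stalkIdeal_equiv (ι : Y ⟶ X) [IsClosedImmersion ι] (y : Y) (x : X)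
    (h : ι y = x) :
    Nonempty ((X.presheaf.stalk x ⧸ IntMult.stalkIdeal ι.ker x) ≃+* Y.presheaf.stalk y) := by
  subst h
  rw [stalkIdeal_ker]
  exact ⟨RingHom.quotientKerEquivOfSurjective (ι.stalkMap_surjective y)⟩

theorem ker_comp_eq_sup (ιY : Y ⟶ X) (ιZ : Z ⟶ X) [IsClosedImmersion ιY] [IsClosedImmersion ιZ]
    (w : ↥(pullback ιY ιZ)) :
    RingHom.ker (((pullback.fst ιY ιZ).stalkMap w).hom.comp
        (ιY.stalkMap (pullback.fst ιY ιZ w)).hom) =
      IntMult.stalkIdeal ιY.ker (ιY (pullback.fst ιY ιZ w)) ⊔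
        IntMult.stalkIdeal ιZ.ker (ιY (pullback.fst ιY ιZ w)) := by
  rw [← RingHom.comap_ker, ker_fst_stalkMap]
  have hθ : Ideal.map (thetaC ιY ιZ w).hom
      (RingHom.ker (ιZ.stalkMap (pullback.snd ιY ιZ w)).hom) =
      Ideal.map (ιY.stalkMap (pullback.fst ιY ιZ w)).hom
        (Ideal.map (X.presheaf.stalkSpecializes
          (specializes_of_eq (pullback_cond_apply ιY ιZ w))).hom
          (RingHom.ker (ιZ.stalkMap (pullback.snd ιY ιZ w)).hom)) := by
    unfold thetaC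
    rw [CommRingCat.hom_comp, Ideal.map_map]
  rw [hθ, Ideal.comap_map_of_surjective _ (ιY.stalkMap_surjective _), ← stalkIdeal_ker ιZ,
    stalkIdeal_transport _ _ _ (pullback_cond_apply ιY ιZ w), ← RingHom.ker_eq_comap_bot, ← stalkIdeal_ker ιY, sup_comm]

theorem sup_eq_maximalIdeal (ιY : Y ⟶ X) (ιZ : Z ⟶ X) [IsClosedImmersion ιY]
    [IsClosedImmersion ιZ] (w : ↥(pullback ιY ιZ))
    (h1 : Module.length ((pullback ιY ιZ).presheaf.stalk w) ((pullback ιY ιZ).presheaf.stalk w) = 1)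
    (x : X) (hx : ιY (pullback.fst ιY ιZ w) = x) :
    IntMult.stalkIdeal ιY.ker x ⊔ IntMult.stalkIdeal ιZ.ker x =
      maximalIdeal (X.presheaf.stalk x) := by
  subst hx
  rw [← ker_comp_eq_sup]
  have hf := isField_of_length_self_eq_one _ h1
  have hsurj : Function.Surjective (((pullback.fst ιY ιZ).stalkMap w).hom.comp
        (ιY.stalkMap (pullback.fst ιY ιZ w)).hom) :=
    ((pullback.fst ιY ιZ).stalkMap_surjective w).comp (ιY.stalkMap_surjective _)
  have hmax : (RingHom.ker (((pullback.fst ιY ιZ).stalkMap w).hom.comp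
        (ιY.stalkMap (pullback.fst ιY ιZ w)).hom)).IsMaximal := by
    have e := RingHom.quotientKerEquivOfSurjective hsurj
    exact Ideal.Quotient.maximal_of_isField _ (e.toMulEquiv.isField hf)
  exact IsLocalRing.eq_maximalIdeal hmax

end Part2

section Part3

open CategoryTheory AlgebraicGeometry Limits TopologicalSpace IsLocalRing
open Groth.Agent.Lib.R2H1.P1Inter Groth.Agent.Lib.R2H1.PullbackKer
open Groth.Agent.Lib.R2H1.IntMultCartier Groth.Agent.Lib.Helper4.DimFormula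
open Groth.Agent.Lib.Helper5

variable {X Y Z : Scheme.{u}}

theorem of_subschemeFun_ne_zero (δ : X → ℤ) (k : ℤ) (ι : Y ⟶ X) (ξ : X)
    (h : Cyc.subschemeFun δ k ι ξ ≠ 0) : δ ξ = k ∧ ∃ y : Y, ι y = ξ := by
  unfold Cyc.subschemeFun at h
  by_cases hk : δ ξ = k
  · refine ⟨hk, ?_⟩
    rw [if_pos hk] at h
    by_contra hne
    push_neg at hne
    have : {z : Y | ι z = ξ} = ∅ := by
      ext z; simp [hne z]
    rw [this, finsum_mem_empty] at h
    exact h rfl
  · rw [if_neg hk] at h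
    exact absurd rfl h

theorem subschemeFun_eq_length (δ : X → ℤ) (k : ℤ) (ι : Y ⟶ X) [IsClosedImmersion ι] (ξ : X)
    (hk : δ ξ = k) (y : Y) (hy : ι y = ξ) :
    Cyc.subschemeFun δ k ι ξ =
      ((Module.length (Y.presheaf.stalk y) (Y.presheaf.stalk y)).toNat : ℤ) := by
  unfold Cyc.subschemeFun
  rw [if_pos hk]
  have hset : {z : Y | ι z = ξ} = {y} := by
    ext z
    simp only [Set.mem_setOf_eq, Set.mem_singleton_iff]
    constructor
    · intro hz
      exact ι.isEmbedding.injective (hz.trans hy.symm)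
    · rintro rfl
      exact hy
  rw [hset, finsum_mem_singleton]

theorem subschemeFun_eq_one (δ : X → ℤ) (k : ℤ) (ι : Y ⟶ X) [IsClosedImmersion ι] (ξ : X)
    (h : Cyc.subschemeFun δ k ι ξ ≠ 0) (y : Y) (hy : ι y = ξ) [IsDomain (Y.presheaf.stalk y)] :
    Cyc.subschemeFun δ k ι ξ = 1 := by
  have hk := (of_subschemeFun_ne_zero δ k ι ξ h).1
  rw [subschemeFun_eq_length δ k ι ξ hk y hy] at h ⊢
  have h' : (Module.length (Y.presheaf.stalk y) (Y.presheaf.stalk y)).toNat ≠ 0 := by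
    exact_mod_cast h
  rw [length_self_eq_one_of_isDomain _ h']
  rfl

theorem support_ptIdeal (ξ : X) : ((IntMult.ptIdeal ξ).support : Set X) = closure {ξ} := by
  unfold IntMult.ptIdeal
  rw [Scheme.IdealSheafData.coe_support_vanishingIdeal]
  rfl

theorem eq_of_ker_specMap_eq (x ξ ξ' : X) (h : ξ ⤳ x) (h' : ξ' ⤳ x)
    (hker : RingHom.ker (Cyc.specMap x ξ h) = RingHom.ker (Cyc.specMap x ξ' h')) : ξ = ξ' := by
  have key : ∀ (a b : X) (ha : a ⤳ x) (hb : b ⤳ x),
      RingHom.ker (Cyc.specMap x a ha) ≤ RingHom.ker (Cyc.specMap x b hb) → a ⤳ b := by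
    intro a b ha hb hle
    rw [← stalkIdeal_ptIdeal a x ha] at hle
    have := (mem_support_iff_stalkIdeal_le (IntMult.ptIdeal a) x b hb).mpr hle
    rw [← SetLike.mem_coe, support_ptIdeal] at this
    exact specializes_iff_mem_closure.mpr this
  exact ((key ξ ξ' h h' hker.le).antisymm (key ξ' ξ h' h hker.ge)).eq

end Part3

section Part4

open CategoryTheory AlgebraicGeometry Limits TopologicalSpace IsLocalRing
open Groth.Agent.Lib.R2H1.P1Inter Groth.Agent.Lib.R2H1.PullbackKer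
open Groth.Agent.Lib.R2H1.IntMultCartier Groth.Agent.Lib.Helper4.DimFormula
open Groth.Agent.Lib.Helper5

variable {X Y Z : Scheme.{u}}

theorem stalkIdeal_ker_le {T : Scheme.{u}} (ι : T ⟶ X) (x ζ : X) (hζ : ζ ⤳ x) (t : T)
    (ht : ι t = ζ) : IntMult.stalkIdeal ι.ker x ≤ RingHom.ker (Cyc.specMap x ζ hζ) := by
  apply (mem_support_iff_stalkIdeal_le ι.ker x ζ hζ).mp
  exact ι.range_subset_ker_support ⟨t, ht⟩

theorem dim_ge [IsLocallyNoetherian X] (δ : X → ℤ) (hδ : Cyc.IsDimFun X δ) {T : Scheme.{u}}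
    (ι : T ⟶ X) (x ζ : X) (hζ : ζ ⤳ x) (t : T) (ht : ι t = ζ) (b : ℕ)
    (hb : ringKrullDim (X.presheaf.stalk x ⧸ IntMult.stalkIdeal ι.ker x) = b) :
    δ ζ ≤ δ x + b := by
  obtain ⟨k, hk, hδk⟩ := isDimFun_eq_add_locQuotDim X δ hδ x ζ hζ
  have hle := stalkIdeal_ker_le ι x ζ hζ t ht
  have h2 : ringKrullDim (Cyc.LocQuot x ζ hζ) ≤
      ringKrullDim (X.presheaf.stalk x ⧸ IntMult.stalkIdeal ι.ker x) :=
    ringKrullDim_le_of_surjective (Ideal.Quotient.factor hle) (Ideal.Quotient.factor_surjective hle)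
  rw [hk, hb] at h2
  have h3 : k ≤ b := by exact_mod_cast h2
  omega

theorem ker_eq_of_dim [IsLocallyNoetherian X] (δ : X → ℤ) (hδ : Cyc.IsDimFun X δ) {T : Scheme.{u}}
    (ι : T ⟶ X) (x ζ : X) (hζ : ζ ⤳ x) (t : T) (ht : ι t = ζ) (b : ℕ)
    (hP : (IntMult.stalkIdeal ι.ker x).IsPrime)
    (hb : ringKrullDim (X.presheaf.stalk x ⧸ IntMult.stalkIdeal ι.ker x) = b)
    (hδb : δ ζ = δ x + b) :
    IntMult.stalkIdeal ι.ker x = RingHom.ker (Cyc.specMap x ζ hζ) := by
  obtain ⟨k, hk, hδk⟩ := isDimFun_eq_add_locQuotDim X δ hδ x ζ hζ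
  have hkb : k = b := by omega
  rw [hkb] at hk
  exact prime_eq_of_le_of_dim_eq _ _ _ (stalkIdeal_ker_le ι x ζ hζ t ht) b hb hk

theorem main (K : Type u) [Field K] (X : Scheme.{u})
    (f : X ⟶ Spec (CommRingCat.of K)) [Smooth f] [IsIntegral X]
    (δ : X → ℤ) (hX : Cyc.IsSetup X δ)
    (n : ℤ) (hn : δ (genericPoint X) = n) (Y Z : Scheme.{u}) (ιY : Y ⟶ X) (ιZ : Z ⟶ X)
    [IsClosedImmersion ιY] [IsClosedImmersion ιZ] (r s : ℤ)
    (τ : X) (hτ : δ τ = r + s - n)
    (hξ : ∃ ξ η : X, Cyc.subschemeFun δ r ιY ξ ≠ 0 ∧ Cyc.subschemeFun δ s ιZ η ≠ 0 ∧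
      ξ ⤳ τ ∧ η ⤳ τ)
    (hmult : Cyc.subschemeFun δ (r + s - n) (pullback.fst ιY ιZ ≫ ιY) τ = 1) :
    IntMult.interProd δ n (Cyc.subschemeFun δ r ιY) (Cyc.subschemeFun δ s ιZ) τ = 1 ∧
      (∀ y : Y, ιY y = τ → IsRegularLocalRing (Y.presheaf.stalk y)) ∧
      (∀ z : Z, ιZ z = τ → IsRegularLocalRing (Z.presheaf.stalk z)) := by
  classical
  haveI : IsLocallyNoetherian X := hX.1
  have hδf : Cyc.IsDimFun X δ := hX.2.2
  haveI hregA : IsRegularLocalRing (X.presheaf.stalk τ) :=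
    Groth.Agent.Lib.Helper6.SmRegSch.isRegularLocalRing_stalk_of_smooth_over_field K X f τ
  -- the point w of the intersection over τ
  have hne1 : Cyc.subschemeFun δ (r + s - n) (pullback.fst ιY ιZ ≫ ιY) τ ≠ 0 := by
    rw [hmult]; exact one_ne_zero
  obtain ⟨-, w, hw⟩ := of_subschemeFun_ne_zero δ _ _ τ hne1
  rw [subschemeFun_eq_length δ _ _ τ hτ w hw] at hmult
  have hlenW : Module.length ((pullback ιY ιZ).presheaf.stalk w)
      ((pullback ιY ιZ).presheaf.stalk w) = 1 := by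
    have h' : (Module.length ((pullback ιY ιZ).presheaf.stalk w)
      ((pullback ιY ιZ).presheaf.stalk w)).toNat = 1 := by exact_mod_cast hmult
    have := (ENat.toNat_eq_iff (by norm_num)).mp h'
    exact_mod_cast this
  have hy0 : ιY (pullback.fst ιY ιZ w) = τ := hw
  have hz0 : ιZ (pullback.snd ιY ιZ w) = τ := (pullback_cond_apply ιY ιZ w).symm.trans hy0
  have hPQ : IntMult.stalkIdeal ιY.ker τ ⊔ IntMult.stalkIdeal ιZ.ker τ =
      maximalIdeal (X.presheaf.stalk τ) := sup_eq_maximalIdeal ιY ιZ w hlenW τ hy0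
  have hPle : IntMult.stalkIdeal ιY.ker τ ≤ maximalIdeal (X.presheaf.stalk τ) :=
    hPQ ▸ le_sup_left
  have hQle : IntMult.stalkIdeal ιZ.ker τ ≤ maximalIdeal (X.presheaf.stalk τ) :=
    hPQ ▸ le_sup_right
  have hPne : IntMult.stalkIdeal ιY.ker τ ≠ ⊤ := fun h =>
    (maximalIdeal.isMaximal _).ne_top (top_le_iff.mp (h ▸ hPle))
  have hQne : IntMult.stalkIdeal ιZ.ker τ ≠ ⊤ := fun h =>
    (maximalIdeal.isMaximal _).ne_top (top_le_iff.mp (h ▸ hQle))
  haveI : IsLocalRing (X.presheaf.stalk τ ⧸ IntMult.stalkIdeal ιY.ker τ) :=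
    isLocalRing_quotient hPne
  haveI : IsLocalRing (X.presheaf.stalk τ ⧸ IntMult.stalkIdeal ιZ.ker τ) :=
    isLocalRing_quotient hQne
  -- dimensions
  have hgen : genericPoint X ⤳ τ := (genericPoint_spec X).specializes trivial
  obtain ⟨a, ha, hae⟩ := isDimFun_eq_add_locQuotDim X δ hδf τ (genericPoint X) hgen
  have hker0 : RingHom.ker (Cyc.specMap τ (genericPoint X) hgen) = ⊥ :=
    (RingHom.injective_iff_ker_eq_bot _).mp (specMap_injective_of_isIntegral X τ hgen)
  have ha' : ringKrullDim (X.presheaf.stalk τ) = a := by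
    rw [← ha]
    exact (ringKrullDim_eq_of_ringEquiv
      ((Ideal.quotEquivOfEq hker0).trans (RingEquiv.quotientBot _))).symm
  obtain ⟨b, hb⟩ := Groth.Agent.Lib.Helper5.exists_nat_ringKrullDim_eq
    (X.presheaf.stalk τ ⧸ IntMult.stalkIdeal ιY.ker τ)
  obtain ⟨c, hc⟩ := Groth.Agent.Lib.Helper5.exists_nat_ringKrullDim_eq
    (X.presheaf.stalk τ ⧸ IntMult.stalkIdeal ιZ.ker τ)
  obtain ⟨ξ, η, hαξ, hβη, hξτ, hητ⟩ := hξ
  obtain ⟨hδξ, yξ, hyξ⟩ := of_subschemeFun_ne_zero δ r ιY ξ hαξ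
  obtain ⟨hδη, zη, hzη⟩ := of_subschemeFun_ne_zero δ s ιZ η hβη
  have hb1 := dim_ge δ hδf ιY τ ξ hξτ yξ hyξ b hb
  have hc1 := dim_ge δ hδf ιZ τ η hητ zη hzη c hc
  have habc : a ≤ b + c := by omega
  obtain ⟨hchi, hregP, hregQ, hbc⟩ := local_core' _ _ _ a b c ha' hb hc habc hPQ
  have hrb : r = δ τ + b := by omega
  have hsc : s = δ τ + c := by omega
  -- regularity of the stalks of Y and Z
  have hregY : ∀ y : Y, ιY y = τ → IsRegularLocalRing (Y.presheaf.stalk y) := by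
    intro y hy
    obtain ⟨e⟩ := nonempty_quot_stalkIdeal_equiv ιY y τ hy
    exact IsRegularLocalRing.of_ringEquiv e
  have hregZ : ∀ z : Z, ιZ z = τ → IsRegularLocalRing (Z.presheaf.stalk z) := by
    intro z hz
    obtain ⟨e⟩ := nonempty_quot_stalkIdeal_equiv ιZ z τ hz
    exact IsRegularLocalRing.of_ringEquiv e
  refine ⟨?_, hregY, hregZ⟩
  -- primality
  haveI hPprime : (IntMult.stalkIdeal ιY.ker τ).IsPrime := by
    haveI := isDomain_of_isRegularLocalRing
      (X.presheaf.stalk τ ⧸ IntMult.stalkIdeal ιY.ker τ)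
    exact (Ideal.Quotient.isDomain_iff_prime _).mp this
  haveI hQprime : (IntMult.stalkIdeal ιZ.ker τ).IsPrime := by
    haveI := isDomain_of_isRegularLocalRing
      (X.presheaf.stalk τ ⧸ IntMult.stalkIdeal ιZ.ker τ)
    exact (Ideal.Quotient.isDomain_iff_prime _).mp this
  -- kernels of points in the supports
  have hkerY : ∀ (ξ' : X) (h' : ξ' ⤳ τ), Cyc.subschemeFun δ r ιY ξ' ≠ 0 →
      IntMult.stalkIdeal ιY.ker τ = RingHom.ker (Cyc.specMap τ ξ' h') := by
    intro ξ' h' hα'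
    obtain ⟨hδ', y', hy'⟩ := of_subschemeFun_ne_zero δ r ιY ξ' hα'
    exact ker_eq_of_dim δ hδf ιY τ ξ' h' y' hy' b hPprime hb (by rw [hδ', hrb])
  have hkerZ : ∀ (η' : X) (h' : η' ⤳ τ), Cyc.subschemeFun δ s ιZ η' ≠ 0 →
      IntMult.stalkIdeal ιZ.ker τ = RingHom.ker (Cyc.specMap τ η' h') := by
    intro η' h' hβ'
    obtain ⟨hδ', z', hz'⟩ := of_subschemeFun_ne_zero δ s ιZ η' hβ'
    exact ker_eq_of_dim δ hδf ιZ τ η' h' z' hz' c hQprime hc (by rw [hδ', hsc])
  -- the coefficients at ξ and η are one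
  have hα1 : Cyc.subschemeFun δ r ιY ξ = 1 := by
    have hsp : yξ ⤳ pullback.fst ιY ιZ w :=
      (ιY.isEmbedding.isInducing.specializes_iff).mp (by rw [hyξ, hy0]; exact hξτ)
    haveI := hregY _ hy0
    haveI := isDomain_of_isRegularLocalRing (Y.presheaf.stalk (pullback.fst ιY ιZ w))
    haveI := Groth.Agent.Lib.Helper8.LocFact.isDomain_stalk_of_specializes Y hsp
    exact subschemeFun_eq_one δ r ιY ξ hαξ yξ hyξ
  have hβ1 : Cyc.subschemeFun δ s ιZ η = 1 := by
    have hsp : zη ⤳ pullback.snd ιY ιZ w :=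
      (ιZ.isEmbedding.isInducing.specializes_iff).mp (by rw [hzη, hz0]; exact hητ)
    haveI := hregZ _ hz0
    haveI := isDomain_of_isRegularLocalRing (Z.presheaf.stalk (pullback.snd ιY ιZ w))
    haveI := Groth.Agent.Lib.Helper8.LocFact.isDomain_stalk_of_specializes Z hsp
    exact subschemeFun_eq_one δ s ιZ η hβη zη hzη
  -- the sum
  unfold IntMult.interProd
  have hp0 : ξ ⤳ τ ∧ η ⤳ τ ∧ δ ξ + δ η - n = δ τ := ⟨hξτ, hητ, by rw [hδξ, hδη, hτ]⟩
  rw [finsum_eq_single _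
    (⟨(ξ, η), hp0⟩ : {p : X × X // p.1 ⤳ τ ∧ p.2 ⤳ τ ∧ δ p.1 + δ p.2 - n = δ τ})]
  · show Cyc.subschemeFun δ r ιY ξ * Cyc.subschemeFun δ s ιZ η *
      IntMult.mult (IntMult.ptIdeal ξ) (IntMult.ptIdeal η) τ = 1
    rw [hα1, hβ1, one_mul, one_mul]
    unfold IntMult.mult
    have e1 : IntMult.stalkIdeal (IntMult.ptIdeal ξ) τ = IntMult.stalkIdeal ιY.ker τ := by
      rw [stalkIdeal_ptIdeal ξ τ hξτ, hkerY ξ hξτ hαξ]
    have e2 : IntMult.stalkIdeal (IntMult.ptIdeal η) τ = IntMult.stalkIdeal ιZ.ker τ := by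
      rw [stalkIdeal_ptIdeal η τ hητ, hkerZ η hητ hβη]
    rw [chi_congr _ _ _ _ _ e1 e2]
    exact hchi
  · rintro ⟨⟨ξ', η'⟩, h1', h2', h3'⟩ hne
    by_contra hcon
    have hα' : Cyc.subschemeFun δ r ιY ξ' ≠ 0 := by
      intro h0
      apply hcon
      show Cyc.subschemeFun δ r ιY ξ' * Cyc.subschemeFun δ s ιZ η' * _ = 0
      rw [h0, zero_mul, zero_mul]
    have hβ' : Cyc.subschemeFun δ s ιZ η' ≠ 0 := by
      intro h0
      apply hcon
      show Cyc.subschemeFun δ r ιY ξ' * Cyc.subschemeFun δ s ιZ η' * _ = 0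
      rw [h0, mul_zero, zero_mul]
    have e1 : ξ' = ξ := eq_of_ker_specMap_eq τ ξ' ξ h1' hξτ
      ((hkerY ξ' h1' hα').symm.trans (hkerY ξ hξτ hαξ))
    have e2 : η' = η := eq_of_ker_specMap_eq τ η' η h2' hητ
      ((hkerZ η' h2' hβ').symm.trans (hkerZ η hητ hβη))
    apply hne
    apply Subtype.ext
    exact Prod.ext e1 e2

end Part4

end Groth.Agent.Lib.R2H1.MultOneCyc
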