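import Mathlib
import Groth.Prelude.Def_SGA3x
import Groth.Prelude.Def_AlgGrp
import Groth.Agent.Lib.R2H1EssFreeTransp
import Groth.Agent.Lib.R2H3Transp
import Groth.Agent.Lib.Helper6LfpComp
set_option backward.isDefEq.respectTransparency.types false

/-!
Transporter-type closed subschemes for groups of multiplicative type (helper1): LocPiece f (flat affine piece G : S' -> S with a finite affine cover of the pullback whose coordinate rings are projective), family version JF of the descended ideal with JF_le_ker_iff and lfp_JF, cover_of_local, exists_closed_of_pieces (c : H ⊗ G ⟶ W, k closed immersion: points g with c(h,g) in K for all h form a closed subscheme, lfp when k is), projMod_diag (group algebra is free), affine_proj_of_iso / affine_proj_of_triv / exists_piece (pieces from an fpqc trivialisation), exists_pieces_of_multType, s19599 (centralizer of mult type subgroup closed), s16777 (transporter of mult type subgroup into closed fp subscheme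 closed + lfp).
-/

set_option autoImplicit false
set_option linter.style.haveILetI false
set_option linter.unusedSectionVars false
universe u v

open CategoryTheory CategoryTheory.Limits AlgebraicGeometry TopologicalSpace Opposite

namespace Groth.Agent.Lib.R2H1.MultTypeTransp

section Part1

open CategoryTheory CategoryTheory.Limits AlgebraicGeometry
open Groth.Agent.Lib.R2H3.ClosedWeilAlg Groth.Agent.Lib.H5bIdealDesc
open Groth.Agent.Lib.R2H1.EssFreeWeil

variable {S Z Y : Scheme.{u}} (f : Z ⟶ S) (j : Y ⟶ Z)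

/-- a flat affine piece over which the source is covered by affine opens with projective rings. -/
structure LocPiece (f : Z ⟶ S) where
  S' : Scheme.{u}
  aff : IsAffine S'
  G : S' ⟶ S
  flat : Flat G
  ι : Type u
  V : ι → (pullback f G).affineOpens
  cov : ∀ x : ↥(pullback f G), ∃ i, x ∈ (V i).1
  proj : ∀ i, ProjMod ((pullback.snd f G).appLE ⊤ (V i).1 le_top)

namespace LocPiece

variable {f} (d : LocPiece f)

instance : IsAffine d.S' := d.aff

instance : Flat d.G := d.flat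

/-- the local ideal. -/
noncomputable def I : d.S'.IdealSheafData :=
  Scheme.IdealSheafData.ofIdealTop
    (Iloc (pullback.snd f d.G) (j.ker.comap (pullback.fst f d.G)) d.V)

theorem I_le_ker_iff {T : Scheme.{u}} (a : T ⟶ d.S') : d.I j ≤ a.ker ↔ PP f j (a ≫ d.G) := by
  unfold I
  rw [ofIdealTop_iloc_le_ker_iff (pullback.snd f d.G) _ d.V d.cov d.proj a]
  rw [← Scheme.IdealSheafData.le_map_iff_comap_le, Scheme.IdealSheafData.map_ker]
  have e : pullback.fst (pullback.snd f d.G) a ≫ pullback.fst f d.G =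
      (pullbackLeftPullbackSndIso f d.G a).hom ≫ pullback.fst f (a ≫ d.G) :=
    (pullbackLeftPullbackSndIso_hom_fst f d.G a).symm
  rw [e, Scheme.Hom.ker_comp_of_isIso]
  rfl

theorem comap_le_comap (d₁ d₂ : LocPiece f) {T : Scheme.{u}} (a₁ : T ⟶ d₁.S') (a₂ : T ⟶ d₂.S')
    (h : a₁ ≫ d₁.G = a₂ ≫ d₂.G) : (d₁.I j).comap a₁ ≤ (d₂.I j).comap a₂ := by
  set c := ((d₂.I j).comap a₂).subschemeι with hc
  have hker : c.ker = (d₂.I j).comap a₂ := Scheme.IdealSheafData.ker_subschemeι _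
  have h1 : d₂.I j ≤ (c ≫ a₂).ker := by
    rw [Scheme.Hom.ker_comp, Scheme.IdealSheafData.le_map_iff_comap_le, hker]
  have h2 : PP f j ((c ≫ a₂) ≫ d₂.G) := (d₂.I_le_ker_iff j (c ≫ a₂)).mp h1
  have h3 : PP f j ((c ≫ a₁) ≫ d₁.G) := by
    rw [Category.assoc, h, ← Category.assoc]
    exact h2
  have h4 : d₁.I j ≤ (c ≫ a₁).ker := (d₁.I_le_ker_iff j (c ≫ a₁)).mpr h3
  rw [Scheme.Hom.ker_comp, Scheme.IdealSheafData.le_map_iff_comap_le, hker] at h4
  exact h4

theorem comap_eq_comap (d₁ d₂ : LocPiece f) {T : Scheme.{u}} (a₁ : T ⟶ d₁.S') (a₂ : T ⟶ d₂.S')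
    (h : a₁ ≫ d₁.G = a₂ ≫ d₂.G) : (d₁.I j).comap a₁ = (d₂.I j).comap a₂ :=
  le_antisymm (comap_le_comap j d₁ d₂ a₁ a₂ h) (comap_le_comap j d₂ d₁ a₂ a₁ h.symm)

end LocPiece

section Family

variable {f} {κ : Type u} (P : κ → LocPiece f)
  (hcov : ∀ W : S.affineOpens, ∃ s : Finset (Chart (fun k => (P k).G) W),
    ∀ x ∈ W.1, ∃ t ∈ s, ∃ y ∈ t.V.1, (P t.i).G y = x)

include hcov in
theorem hypF : Hyp (fun k => (P k).G) (fun k => (P k).I j) where
  flat k := inferInstance
  cover := hcov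
  compat k k' := LocPiece.comap_eq_comap j (P k) (P k') _ _ pullback.condition

/-- **The descended ideal sheaf.** -/
noncomputable def JF : S.IdealSheafData := Jdesc (hypF j P hcov)

theorem JF_comap (k : κ) : (JF j P hcov).comap (P k).G = (P k).I j := Jdesc_comap (hypF j P hcov) k

include hcov in
/-- joint surjectivity. -/
lemma exists_index (x : S) : ∃ k, ∃ w : (P k).S', (P k).G w = x := by
  obtain ⟨_, ⟨W, hW, rfl⟩, hxW, -⟩ := S.isBasis_affineOpens.exists_subset_of_mem_open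
    (Set.mem_univ x) isOpen_univ
  obtain ⟨s, hs⟩ := hcov ⟨W, hW⟩
  obtain ⟨t, -, y, -, hy⟩ := hs x hxW
  exact ⟨t.i, y, hy⟩

include hcov in
lemma exists_pointF {T : Scheme.{u}} (a : T ⟶ S) (t : T) :
    ∃ k, ∃ w : ↥(pullback a (P k).G), pullback.fst a (P k).G w = t := by
  obtain ⟨k, w, hw⟩ := exists_index P hcov (a t)
  obtain ⟨z, hz1, hz2⟩ := Scheme.Pullback.exists_preimage_pullback t w hw.symm
  exact ⟨k, z, hz1⟩

/-- **The universal property.** -/
theorem JF_le_ker_iff {T : Scheme.{u}} (a : T ⟶ S) : JF j P hcov ≤ a.ker ↔ PP f j a := by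
  constructor
  · intro hle
    unfold PP
    rw [← comap_eq_bot_iff]
    refine eq_bot_of_forall_comap_eq_bot _
      (fun k : κ => pullback (pullback.snd f a) (pullback.fst a (P k).G))
      (fun k => pullback.fst (pullback.snd f a) (pullback.fst a (P k).G))
      (fun k => inferInstance) ?_ ?_
    · intro z
      obtain ⟨k, w, hw⟩ := exists_pointF P hcov a (pullback.snd f a z)
      obtain ⟨y, hy1, hy2⟩ := Scheme.Pullback.exists_preimage_pullback
        (f := pullback.snd f a) (g := pullback.fst a (P k).G) z w hw.symm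
      exact ⟨k, y, hy1⟩
    · intro k
      rw [← Scheme.IdealSheafData.comap_comp, comap_eq_bot_iff]
      have e : pullback.fst (pullback.snd f a) (pullback.fst a (P k).G) ≫ pullback.fst f a =
          (pullbackLeftPullbackSndIso f a (pullback.fst a (P k).G)).hom ≫
            pullback.fst f (pullback.fst a (P k).G ≫ a) :=
        (pullbackLeftPullbackSndIso_hom_fst f a _).symm
      rw [e, Scheme.Hom.ker_comp_of_isIso]
      change PP f j (pullback.fst a (P k).G ≫ a)
      rw [pullback.condition]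
      rw [← LocPiece.I_le_ker_iff, ← JF_comap j P hcov k, ← Scheme.IdealSheafData.le_map_iff_comap_le,
        Scheme.IdealSheafData.map_ker, ← pullback.condition]
      exact hle.trans (Scheme.Hom.le_ker_comp _ _)
  · intro hP
    rw [← comap_eq_bot_iff]
    refine eq_bot_of_forall_comap_eq_bot _
      (fun k : κ => pullback a (P k).G) (fun k => pullback.fst a (P k).G)
      (fun k => inferInstance) ?_ ?_
    · intro t
      exact exists_pointF P hcov a t
    · intro k
      rw [← Scheme.IdealSheafData.comap_comp, pullback.condition, Scheme.IdealSheafData.comap_comp,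
        JF_comap, comap_eq_bot_iff, LocPiece.I_le_ker_iff, ← pullback.condition]
      exact PP_comp f j a _ hP

end Family

end Part1

section Part2

open CategoryTheory CategoryTheory.Limits AlgebraicGeometry
open Groth.Agent.Lib.R2H3.ClosedWeilAlg Groth.Agent.Lib.H5bIdealDesc Groth.Agent.Lib.H5bIdealDescAlg
open Groth.Agent.Lib.R2H1.EssFreeWeil


/-- finite generation of ideals descends along a finite jointly surjective flat family. -/
theorem fg_of_map_fg {A : Type u} [CommRing A] {T : Type v} (B : T → Type u)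
    [∀ t, CommRing (B t)] [∀ t, Algebra A (B t)] [∀ t, Module.Flat A (B t)]
    (s : Finset T) (hs : JointlySurj (A := A) (fun t : (s : Set T) => B t)) (J : Ideal A)
    (h : ∀ t ∈ s, (J.map (algebraMap A (B t))).FG) : J.FG := by
  classical
  have h1 : ∀ t ∈ s, ∃ F : Finset A, (F : Set A) ⊆ J ∧
      J.map (algebraMap A (B t)) ≤ (Ideal.span (F : Set A)).map (algebraMap A (B t)) := by
    intro t ht
    have h2 : (Submodule.span (B t) (algebraMap A (B t) '' (J : Set A))).FG := h t ht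
    rw [Submodule.fg_span_iff_fg_span_finset_subset] at h2
    obtain ⟨s', hs', heq⟩ := h2
    obtain ⟨F, hF, hFs⟩ := Finset.subset_set_image_iff.mp hs'
    refine ⟨F, hF, ?_⟩
    rw [Ideal.map_span]
    change Submodule.span _ _ ≤ _
    rw [heq, ← hFs, Finset.coe_image]
  choose F hF hFle using h1
  set F₀ : Finset A := s.attach.biUnion (fun t => F t.1 t.2) with hF₀
  have hF₀J : Ideal.span (F₀ : Set A) ≤ J := by
    rw [Ideal.span_le]
    intro a ha
    rw [hF₀, Finset.mem_coe, Finset.mem_biUnion] at ha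
    obtain ⟨t, -, hat⟩ := ha
    exact hF t.1 t.2 hat
  have heq : Ideal.span (F₀ : Set A) = J := by
    refine eq_of_map_eq B (s : Set T) hs _ _ fun t ht => le_antisymm (Ideal.map_mono hF₀J) ?_
    refine (hFle t ht).trans (Ideal.map_mono (Ideal.span_mono ?_))
    intro a ha
    rw [hF₀, Finset.mem_coe, Finset.mem_biUnion]
    exact ⟨⟨t, ht⟩, Finset.mem_attach _ _, ha⟩
  rw [← heq]
  exact ⟨F₀, rfl⟩

/-- a closed subscheme with locally finitely generated ideal is of finite presentation. -/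
theorem lfp_subschemeι_of_fg {S : Scheme.{u}} (J : S.IdealSheafData)
    (h : ∀ W : S.affineOpens, (J.ideal W).FG) : LocallyOfFinitePresentation J.subschemeι := by
  have hsup : (⨆ W : S.affineOpens, W.1) = ⊤ := by
    rw [eq_top_iff]
    intro x _
    obtain ⟨_, ⟨W, hW, rfl⟩, hxW, -⟩ := S.isBasis_affineOpens.exists_subset_of_mem_open
      (Set.mem_univ x) isOpen_univ
    exact TopologicalSpace.Opens.mem_iSup.mpr ⟨⟨W, hW⟩, hxW⟩
  refine IsZariskiLocalAtTarget.of_iSup_eq_top (P := @LocallyOfFinitePresentation)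
    (fun W : S.affineOpens => W.1) hsup (fun W => ?_)
  haveI : IsAffine (W.1 : Scheme.{u}) := W.2
  haveI : IsClosedImmersion (J.subschemeι ∣_ W.1) :=
    IsZariskiLocalAtTarget.restrict (P := @IsClosedImmersion) inferInstance W.1
  refine lfp_of_ker_fg (J.subschemeι ∣_ W.1)
    ((J.subschemeι ∣_ W.1).ker.ideal ⟨⊤, isAffineOpen_top _⟩) ?_ ?_
  · rw [Scheme.ker_morphismRestrict_ideal, Scheme.IdealSheafData.ker_subschemeι]
    exact h _
  · exact (Scheme.IdealSheafData.equivOfIsAffine.symm_apply_apply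
      (J.subschemeι ∣_ W.1).ker).symm

section Family

variable {S Z Y : Scheme.{u}} {f : Z ⟶ S} (j : Y ⟶ Z) [IsClosedImmersion j]
  {κ : Type u} (P : κ → LocPiece f)
  (hcov : ∀ W : S.affineOpens, ∃ s : Finset (Chart (fun k => (P k).G) W),
    ∀ x ∈ W.1, ∃ t ∈ s, ∃ y ∈ t.V.1, (P t.i).G y = x)

/-- the local ideals are finitely generated. -/
theorem ilocF_fg [LocallyOfFinitePresentation j] (d : LocPiece f) [Finite d.ι] :
    (Iloc (pullback.snd f d.G) (j.ker.comap (pullback.fst f d.G)) d.V).FG := by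
  unfold Iloc
  refine Submodule.fg_iSup _ (fun i => contC_fg (d.proj i) _ ?_)
  rw [← Scheme.IdealSheafData.ker_fst_of_isClosedImmersion j (pullback.fst f d.G)]
  exact ideal_ker_fg _ _

/-- **finite presentation.** -/
theorem lfp_JF [LocallyOfFinitePresentation j] (hfin : ∀ k, Finite (P k).ι) :
    LocallyOfFinitePresentation (JF j P hcov).subschemeι := by
  refine lfp_subschemeι_of_fg _ (fun W => ?_)
  have hyp := hypF j P hcov
  obtain ⟨s, hs⟩ := hcov W
  letI : ∀ t : Chart (fun k => (P k).G) W, Algebra Γ(S, W.1) Γ((P t.i).S', t.V.1) :=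
    fun t => (((P t.i).G).appLE W.1 t.V.1 t.le).hom.toAlgebra
  haveI : ∀ t : Chart (fun k => (P k).G) W, Module.Flat Γ(S, W.1) Γ((P t.i).S', t.V.1) := fun t =>
    Scheme.Hom.flat_appLE ((P t.i).G) W.2 t.V.2 t.le
  refine fg_of_map_fg (A := Γ(S, W.1))
    (fun t : Chart (fun k => (P k).G) W => Γ((P t.i).S', t.V.1)) s (jointlySurj W s hs) _ ?_
  intro t _
  have h1 := map_J₀ hyp W t
  change ((JF j P hcov).ideal W).map (((P t.i).G).appLE W.1 t.V.1 t.le).hom = _ at h1
  change (((JF j P hcov).ideal W).map (((P t.i).G).appLE W.1 t.V.1 t.le).hom).FG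
  rw [h1]
  change ((Scheme.IdealSheafData.ofIdealTop _).ideal t.V).FG
  rw [Scheme.IdealSheafData.ofIdealTop_ideal]
  haveI := hfin t.i
  exact (ilocF_fg j (P t.i)).map _

end Family

end Part2

section Part3

open CategoryTheory CategoryTheory.Limits AlgebraicGeometry MonoidalCategory
  CartesianMonoidalCategory
open Groth.Agent.Lib.R2H3.ClosedWeilAlg Groth.Agent.Lib.H5bIdealDesc Groth.Agent.Lib.H5bIdealDescAlg
open Groth.Agent.Lib.R2H3.ClosedWeil Groth.Agent.Lib.R2H3.DenseWeil Groth.Agent.Lib.R2H3.Transp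
open Groth.Agent.Lib.R2H1.EssFreeWeil


variable {S Z : Scheme.{u}} {f : Z ⟶ S}

/-- preimages of small affine opens under a piece landing in an affine open are affine. -/
lemma isAffineOpen_preimage_piece (d : LocPiece f) {U E : S.Opens} (hU : IsAffineOpen U)
    (hr : Set.range d.G ⊆ U) (hE : IsAffineOpen E) (hEU : E ≤ U) :
    IsAffineOpen (d.G ⁻¹ᵁ E) := by
  have hr' : Set.range d.G ⊆ Set.range U.ι := by rwa [Scheme.Opens.range_ι]
  have hfac : IsOpenImmersion.lift U.ι d.G hr' ≫ U.ι = d.G := IsOpenImmersion.lift_fac _ _ _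
  have h1 : IsAffineOpen (U.ι ⁻¹ᵁ E) := by
    rw [← Scheme.Hom.isAffineOpen_iff_of_isOpenImmersion U.ι,
      Scheme.Hom.image_preimage_eq_opensRange_inf, Scheme.Opens.opensRange_ι,
      inf_eq_right.mpr hEU]
    exact hE
  haveI : IsAffine (U : Scheme.{u}) := hU
  haveI : IsAffine d.S' := d.aff
  have h2 := h1.preimage (IsOpenImmersion.lift U.ι d.G hr')
  have h3 : (IsOpenImmersion.lift U.ι d.G hr') ⁻¹ᵁ (U.ι ⁻¹ᵁ E) = d.G ⁻¹ᵁ E := by
    rw [← Scheme.Hom.comp_preimage, hfac]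
  rwa [h3] at h2

/-- the covering condition from local finite families. -/
theorem cover_of_local {κ : Type u} (P : κ → LocPiece f)
    (h : ∀ x : S, ∃ U : S.Opens, IsAffineOpen U ∧ x ∈ U ∧ ∃ F : Finset κ,
      (∀ k ∈ F, Set.range (P k).G ⊆ U) ∧ ∀ y ∈ U, ∃ k ∈ F, y ∈ Set.range (P k).G) :
    ∀ W : S.affineOpens, ∃ s : Finset (Chart (fun k => (P k).G) W),
      ∀ x ∈ W.1, ∃ t ∈ s, ∃ y ∈ t.V.1, (P t.i).G y = x := by
  classical
  choose U hU hxU F hFr hFs using h
  intro W
  have h1 : ∀ x : S, x ∈ W.1 → ∃ E : S.Opens, IsAffineOpen E ∧ x ∈ E ∧ E ≤ W.1 ∧ E ≤ U x := by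
    intro x hx
    obtain ⟨_, ⟨E, hE, rfl⟩, hxE, hEle⟩ := S.isBasis_affineOpens.exists_subset_of_mem_open
      (show x ∈ ((W.1 ⊓ U x : S.Opens) : Set S) from ⟨hx, hxU x⟩) (W.1 ⊓ U x).2
    exact ⟨E, hE, hxE, fun y hy => (hEle hy).1, fun y hy => (hEle hy).2⟩
  choose E hE hxE hEW hEU using h1
  obtain ⟨t, ht⟩ := W.2.isCompact.elim_nhds_subcover' (fun x hx => (E x hx : Set S))
    (fun x hx => (E x hx).2.mem_nhds (hxE x hx))
  let ch : ∀ x : W.1, {k // k ∈ F x.1} → Chart (fun k => (P k).G) W := fun x k =>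
    ⟨k.1, ⟨(P k.1).G ⁻¹ᵁ (E x.1 x.2), isAffineOpen_preimage_piece (P k.1) (hU x.1)
      (hFr x.1 k.1 k.2) (hE x.1 x.2) (hEU x.1 x.2)⟩, fun w hw => hEW x.1 x.2 hw⟩
  refine ⟨t.biUnion (fun x => (F x.1).attach.image (ch x)), fun y hy => ?_⟩
  obtain ⟨x, hxt, hyx⟩ := Set.mem_iUnion₂.mp (ht hy)
  obtain ⟨k, hk, w, hw⟩ := hFs x.1 y (hEU x.1 x.2 hyx)
  refine ⟨ch x ⟨k, hk⟩, ?_, w, ?_, hw⟩
  · exact Finset.mem_biUnion.mpr ⟨x, hxt, Finset.mem_image_of_mem _ (Finset.mem_attach _ _)⟩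
  · change (P k).G w ∈ E x.1 x.2
    rw [hw]
    exact hyx

section Transp

variable {S : Scheme.{u}} {H G W K : Over S} (c : H ⊗ G ⟶ W) (k : K ⟶ W)
  [IsClosedImmersion k.left]

/-- **transporter-type closed subscheme from a family of flat affine pieces.** -/
theorem exists_closed_of_pieces {κ : Type u} (P : κ → LocPiece (pullback.snd H.hom G.hom))
    (hcov : ∀ W : G.left.affineOpens, ∃ s : Finset (Chart (fun k => (P k).G) W),
      ∀ x ∈ W.1, ∃ t ∈ s, ∃ y ∈ t.V.1, (P t.i).G y = x) :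
    ∃ (C : Over S) (j : C ⟶ G), IsClosedImmersion j.left ∧
      (∀ (X : Over S) (g : X ⟶ G), (∃ z : X ⟶ C, z ≫ j = g) ↔
        ∀ (X' : Over S) (x : X' ⟶ X) (a : X' ⟶ H),
          ∃ κ : X' ⟶ K, lift a (x ≫ g) ≫ c = κ ≫ k) ∧
      ((∀ k, Finite (P k).ι) → LocallyOfFinitePresentation k.left →
        LocallyOfFinitePresentation j.left) := by
  refine ⟨Over.mk ((JF (pullback.fst (cl c) k.left) P hcov).subschemeι ≫ G.hom),
    Over.homMk (JF (pullback.fst (cl c) k.left) P hcov).subschemeι rfl, ?_, fun X g => ?_,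
    fun hfin hk => ?_⟩
  · change IsClosedImmersion (JF (pullback.fst (cl c) k.left) P hcov).subschemeι
    infer_instance
  · rw [exists_over_lift_iff, JF_le_ker_iff, ← facX_iff k c g]
    unfold PP FacX
    exact (exists_lift_iff (pullback.fst (cl c) k.left) _).symm
  · haveI := hk
    change LocallyOfFinitePresentation (JF (pullback.fst (cl c) k.left) P hcov).subschemeι
    exact lfp_JF _ P hcov hfin

end Transp

end Part3

section Part4

open CategoryTheory CategoryTheory.Limits AlgebraicGeometry MonoidalCategory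
  CartesianMonoidalCategory
open Groth.Agent.Lib.R2H3.ClosedWeilAlg
open Groth.Agent.Lib.R2H1.EssFreeWeil Groth.Agent.Lib.R2H1.EssFreeTransp


/-- projectivity transfers along an isomorphism of the base ring. -/
lemma projMod_of_iso_left {A A' B : CommRingCat.{u}} (φ : A ⟶ B) (e : A' ≅ A) (h : ProjMod φ) :
    ProjMod (e.hom ≫ φ) := by
  unfold ProjMod at *
  letI i1 : Algebra A B := φ.hom.toAlgebra
  letI i2 : Algebra A' B := (e.hom ≫ φ).hom.toAlgebra
  haveI : Module.Projective A B := h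
  letI : RingHomInvPair e.inv.hom e.hom.hom :=
    ⟨by ext x; exact congrArg (fun ψ : A ⟶ A => ψ.hom x) e.inv_hom_id,
     by ext x; exact congrArg (fun ψ : A' ⟶ A' => ψ.hom x) e.hom_inv_id⟩
  letI : RingHomInvPair e.hom.hom e.inv.hom :=
    ⟨by ext x; exact congrArg (fun ψ : A' ⟶ A' => ψ.hom x) e.hom_inv_id,
     by ext x; exact congrArg (fun ψ : A ⟶ A => ψ.hom x) e.inv_hom_id⟩
  let E : B ≃ₛₗ[e.inv.hom] B :=
    { toFun := id
      invFun := id
      left_inv := fun _ => rfl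
      right_inv := fun _ => rfl
      map_add' := fun _ _ => rfl
      map_smul' := fun a b => by
        change φ.hom a * b = (e.hom ≫ φ).hom (e.inv.hom a) * b
        congr 1
        have := congrArg (fun ψ : A ⟶ A => ψ.hom a) e.inv_hom_id
        simp only [CommRingCat.hom_comp, RingHom.comp_apply, CommRingCat.hom_id,
          RingHom.id_apply] at this ⊢
        rw [this] }
  exact Module.Projective.of_equiv E

/-- global sections of `Spec.map`. -/
lemma projMod_SpecMap {A B : CommRingCat.{u}} (ψ : A ⟶ B) (h : ProjMod ψ) :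
    ProjMod (Spec.map ψ).appTop := by
  have e : (Spec.map ψ).appTop =
      (Scheme.ΓSpecIso A).hom ≫ (ψ ≫ (Scheme.ΓSpecIso B).inv) := by
    rw [← Category.assoc, ← Scheme.ΓSpecIso_naturality, Category.assoc, Iso.hom_inv_id,
      Category.comp_id]
  rw [e]
  exact projMod_of_iso_left _ _ (proj_of_iso ψ _ (Scheme.ΓSpecIso B).symm rfl h)

/-- the coordinate ring of a diagonalisable group is free. -/
lemma projMod_diag (R : Type u) [CommRing R] (M : Type) [AddCommGroup M] :
    ProjMod (Red.diag R M).hom.appTop := by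
  change ProjMod (Spec.map (CommRingCat.ofHom
    (algebraMap R (MonoidAlgebra R (Multiplicative M))))).appTop
  refine projMod_SpecMap _ ?_
  unfold ProjMod
  have key : ∀ (alg : Algebra R (MonoidAlgebra R (Multiplicative M))), alg = (MonoidAlgebra.algebra : Algebra R (MonoidAlgebra R (Multiplicative M))) →
      @Module.Projective R _ (MonoidAlgebra R (Multiplicative M)) _ alg.toModule := by
    rintro _ rfl
    infer_instance
  exact key _ (Algebra.algebra_ext _ _ (fun r => rfl))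

/-- `appLE` between the top opens. -/
lemma projMod_appLE_top {X Y : Scheme.{u}} (q : X ⟶ Y) (h : ProjMod q.appTop) :
    ProjMod (q.appLE ⊤ ⊤ le_top) := by
  have : q.appLE ⊤ ⊤ le_top = q.appTop := by
    simp [Scheme.Hom.appLE]
  rw [this]
  exact h

section Piece

variable {S : Scheme.{u}} {H G : Over S}

/-- a piece from an affine flat `γ : S' ⟶ G` over which `H ×_S G` becomes affine with projective
coordinate ring. -/
noncomputable def pieceOfAffine (S' : Scheme.{u}) (hS' : IsAffine S') (γ : S' ⟶ G.left)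
    (hγ : Flat γ) (haff : IsAffine (pullback (pullback.snd H.hom G.hom) γ))
    (hproj : ProjMod (pullback.snd (pullback.snd H.hom G.hom) γ).appTop) :
    LocPiece (pullback.snd H.hom G.hom) where
  S' := S'
  aff := hS'
  G := γ
  flat := hγ
  ι := PUnit.{u + 1}
  V _ := ⟨⊤, isAffineOpen_top _⟩
  cov x := ⟨PUnit.unit, trivial⟩
  proj _ := projMod_appLE_top _ hproj

/-- transfer along an isomorphism over `S'`. -/
lemma affine_proj_of_iso {Z' Q S' : Scheme.{u}} (q : Z' ⟶ S') (r : Q ⟶ S') (e : Z' ≅ Q)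
    (he : e.hom ≫ r = q) [IsAffine Q] (hr : ProjMod r.appTop) :
    IsAffine Z' ∧ ProjMod q.appTop := by
  refine ⟨IsAffine.of_isIso e.hom, ?_⟩
  have h1 : q.appTop = r.appTop ≫ e.hom.appTop := by
    rw [← he, Scheme.Hom.comp_appTop]
  rw [h1]
  haveI : IsIso e.hom.appTop := inferInstanceAs (IsIso (e.hom.app ⊤))
  exact proj_of_iso r.appTop _ (asIso e.hom.appTop) rfl hr

end Piece

end Part4

section Part5

open CategoryTheory CategoryTheory.Limits AlgebraicGeometry MonoidalCategory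
  CartesianMonoidalCategory
open Groth.Agent.Lib.R2H3.ClosedWeilAlg
open Groth.Agent.Lib.R2H1.EssFreeWeil Groth.Agent.Lib.R2H1.EssFreeTransp


variable {S : Scheme.{u}} {H G : Over S}

/-- over an affine flat `γ : S' ⟶ G` along which `H` becomes diagonalisable, `H ×_S G` is affine
with projective coordinate ring. -/
theorem affine_proj_of_triv {S₁ : Scheme.{u}} (φ : S₁ ⟶ S) (U₁ : S₁.Opens) (M : Type)
    [AddCommGroup M] (Ψ : Red.bc (U₁.ι ≫ φ) H ≅ Red.DS (U₁ : Scheme.{u}) M)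
    (S' : Scheme.{u}) [IsAffine S'] (α : S' ⟶ (U₁ : Scheme.{u})) (γ : S' ⟶ G.left)
    (hαγ : α ≫ U₁.ι ≫ φ = γ ≫ G.hom) :
    IsAffine (pullback (pullback.snd H.hom G.hom) γ) ∧
      ProjMod (pullback.snd (pullback.snd H.hom G.hom) γ).appTop := by
  -- the pasted square over `S`
  have hA : IsPullback
      (pullback.fst (pullback.snd H.hom G.hom) γ ≫ pullback.fst H.hom G.hom)
      (pullback.snd (pullback.snd H.hom G.hom) γ) H.hom (α ≫ U₁.ι ≫ φ) := by
    rw [hαγ]
    exact (IsPullback.of_hasPullback (pullback.snd H.hom G.hom) γ).paste_horiz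
      (IsPullback.of_hasPullback H.hom G.hom)
  have hC : IsPullback (pullback.fst H.hom (U₁.ι ≫ φ)) (pullback.snd H.hom (U₁.ι ≫ φ))
      H.hom (U₁.ι ≫ φ) := IsPullback.of_hasPullback _ _
  have hB : IsPullback
      (hC.lift (pullback.fst (pullback.snd H.hom G.hom) γ ≫ pullback.fst H.hom G.hom)
        (pullback.snd (pullback.snd H.hom G.hom) γ ≫ α)
        (by rw [Category.assoc]; exact hA.w))
      (pullback.snd (pullback.snd H.hom G.hom) γ) (pullback.snd H.hom (U₁.ι ≫ φ)) α := by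
    refine IsPullback.of_right ?_ (hC.lift_snd _ _ _) hC
    rw [hC.lift_fst]
    exact hA
  -- transport along `Ψ`
  have hΨ : IsPullback Ψ.hom.left (pullback.snd H.hom (U₁.ι ≫ φ))
      (pullback.snd (Red.diag (ULift.{u} ℤ) M).hom
        (Limits.IsTerminal.from specULiftZIsTerminal (U₁ : Scheme.{u})))
      (𝟙 (U₁ : Scheme.{u})) := by
    haveI : IsIso Ψ.hom.left := inferInstanceAs (IsIso ((Over.forget _).map Ψ.hom))
    refine IsPullback.of_horiz_isIso ⟨?_⟩
    rw [Category.comp_id]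
    exact Over.w Ψ.hom
  have hD := IsPullback.of_hasPullback (Red.diag (ULift.{u} ℤ) M).hom
    (Limits.IsTerminal.from specULiftZIsTerminal (U₁ : Scheme.{u}))
  have hE := (hB.paste_horiz hΨ).paste_horiz hD
  rw [Category.comp_id] at hE
  haveI : IsAffine (Red.diag (ULift.{u} ℤ) M).left :=
    inferInstanceAs (IsAffine (Spec _))
  refine ⟨IsAffine.of_isPullback hE, ?_⟩
  exact projMod_of_isPushout (isPushout_appTop_of_isPullback hE) (projMod_diag _ M)

end Part5

section Part6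

open CategoryTheory CategoryTheory.Limits AlgebraicGeometry MonoidalCategory
  CartesianMonoidalCategory
open Groth.Agent.Lib.R2H3.ClosedWeilAlg
open Groth.Agent.Lib.R2H1.EssFreeWeil Groth.Agent.Lib.R2H1.EssFreeTransp



variable {S : Scheme.{u}} {H G : Over S}

/-- one piece. -/
theorem exists_piece {S₁ : Scheme.{u}} (φ : S₁ ⟶ S) [Flat φ] (U₁ : S₁.Opens) (M : Type)
    [AddCommGroup M] (Ψ : Red.bc (U₁.ι ≫ φ) H ≅ Red.DS (U₁ : Scheme.{u}) M)
    (V : S.Opens) (hV : IsAffineOpen V) (U : G.left.Opens) (hU : IsAffineOpen U)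
    (hUV : U ≤ G.hom ⁻¹ᵁ V) (W' : S₁.Opens) (hW' : IsAffineOpen W') (hW'U : W' ≤ U₁)
    (hW'V : W' ≤ φ ⁻¹ᵁ V) :
    ∃ d : LocPiece (pullback.snd H.hom G.hom), Finite d.ι ∧ Set.range d.G ⊆ U ∧
      ∀ u ∈ U, (∃ w ∈ W', φ w = G.hom u) → u ∈ Set.range d.G := by
  haveI : IsAffine (V : Scheme.{u}) := hV
  haveI : IsAffine (U : Scheme.{u}) := hU
  haveI : IsAffine (W' : Scheme.{u}) := hW'
  have hr1 : Set.range (W'.ι ≫ φ) ⊆ Set.range V.ι := by
    rw [Scheme.Opens.range_ι]
    rintro _ ⟨x, rfl⟩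
    exact hW'V x.2
  have hr2 : Set.range (U.ι ≫ G.hom) ⊆ Set.range V.ι := by
    rw [Scheme.Opens.range_ι]
    rintro _ ⟨x, rfl⟩
    exact hUV x.2
  obtain ⟨a, ha⟩ : ∃ a : (W' : Scheme.{u}) ⟶ (V : Scheme.{u}), a ≫ V.ι = W'.ι ≫ φ :=
    ⟨IsOpenImmersion.lift V.ι (W'.ι ≫ φ) hr1, IsOpenImmersion.lift_fac _ _ _⟩
  obtain ⟨b, hb⟩ : ∃ b : (U : Scheme.{u}) ⟶ (V : Scheme.{u}), b ≫ V.ι = U.ι ≫ G.hom :=
    ⟨IsOpenImmersion.lift V.ι (U.ι ≫ G.hom) hr2, IsOpenImmersion.lift_fac _ _ _⟩
  haveI : Flat a := by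
    refine MorphismProperty.of_postcomp (W := @Flat) (W' := @IsOpenImmersion) _ V.ι
      inferInstance ?_
    rw [ha]
    infer_instance
  have hαγ : (pullback.fst a b ≫ S₁.homOfLE hW'U) ≫ U₁.ι ≫ φ =
      (pullback.snd a b ≫ U.ι) ≫ G.hom := by
    rw [Category.assoc, Scheme.homOfLE_ι_assoc, ← ha, Category.assoc, ← hb,
      pullback.condition_assoc]
  obtain ⟨haff, hproj⟩ := affine_proj_of_triv (G := G) φ U₁ M Ψ (pullback a b)
    (pullback.fst a b ≫ S₁.homOfLE hW'U) (pullback.snd a b ≫ U.ι) hαγ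
  refine ⟨pieceOfAffine (pullback a b) inferInstance (pullback.snd a b ≫ U.ι) inferInstance
    haff hproj, inferInstanceAs (Finite PUnit), ?_, ?_⟩
  · rintro _ ⟨z, rfl⟩
    change (pullback.snd a b ≫ U.ι) z ∈ U
    rw [Scheme.Hom.comp_apply]
    exact ((pullback.snd a b) z).2
  · rintro u hu ⟨w, hw, hwu⟩
    have h1 : a ⟨w, hw⟩ = b ⟨u, hu⟩ := by
      apply V.ι.isOpenEmbedding.injective
      rw [← Scheme.Hom.comp_apply, ← Scheme.Hom.comp_apply, ha, hb, Scheme.Hom.comp_apply,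
        Scheme.Hom.comp_apply]
      exact hwu
    obtain ⟨z, hz1, hz2⟩ := Scheme.Pullback.exists_preimage_pullback _ _ h1
    refine ⟨z, ?_⟩
    change (pullback.snd a b ≫ U.ι) z = u
    rw [Scheme.Hom.comp_apply, hz2]
    rfl

end Part6

section Part7

open CategoryTheory CategoryTheory.Limits AlgebraicGeometry MonoidalCategory
  CartesianMonoidalCategory
open Groth.Agent.Lib.R2H3.ClosedWeilAlg Groth.Agent.Lib.H5bIdealDesc
open Groth.Agent.Lib.R2H1.EssFreeWeil Groth.Agent.Lib.R2H1.EssFreeTransp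



variable {S : Scheme.{u}} {H G : Over S}

/-- local finite families of pieces for a group of multiplicative type. -/
theorem exists_local_pieces [GrpObj H] (hH : SGA3x.IsMultTypeFT H) (y : G.left) :
    ∃ U : G.left.Opens, IsAffineOpen U ∧ y ∈ U ∧
      ∃ L : List (LocPiece (pullback.snd H.hom G.hom)),
        (∀ d ∈ L, Finite d.ι ∧ Set.range d.G ⊆ U) ∧ ∀ u ∈ U, ∃ d ∈ L, u ∈ Set.range d.G := by
  obtain ⟨S₁, φ, hflat, hsurj, hfpqc, htriv⟩ := hH
  haveI := hflat
  obtain ⟨V, hV, hyV⟩ : ∃ V : S.Opens, IsAffineOpen V ∧ G.hom y ∈ V := by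
    obtain ⟨_, ⟨V, hV, rfl⟩, hyV, -⟩ := S.isBasis_affineOpens.exists_subset_of_mem_open
      (Set.mem_univ (G.hom y)) isOpen_univ
    exact ⟨V, hV, hyV⟩
  obtain ⟨U, hU, hyU, hUV⟩ : ∃ U : G.left.Opens, IsAffineOpen U ∧ y ∈ U ∧ U ≤ G.hom ⁻¹ᵁ V := by
    obtain ⟨_, ⟨U, hU, rfl⟩, hyU, hUle⟩ := G.left.isBasis_affineOpens.exists_subset_of_mem_open
      (show y ∈ ((G.hom ⁻¹ᵁ V : G.left.Opens) : Set G.left) from hyV) (G.hom ⁻¹ᵁ V).2
    exact ⟨U, hU, hyU, hUle⟩
  obtain ⟨W, hWc, hWV⟩ := hfpqc V hV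
  have hWle : W ≤ φ ⁻¹ᵁ V := by
    intro w hw
    have : φ w ∈ φ.base '' (W : Set S₁) := ⟨w, hw, rfl⟩
    rw [hWV] at this
    exact this
  -- a piece for every point of `W`
  have h1 : ∀ w : S₁, w ∈ W → ∃ W' : S₁.Opens, w ∈ W' ∧ W' ≤ W ∧
      ∃ d : LocPiece (pullback.snd H.hom G.hom), Finite d.ι ∧ Set.range d.G ⊆ U ∧
        ∀ u ∈ U, (∃ w' ∈ W', φ w' = G.hom u) → u ∈ Set.range d.G := by
    intro w hw
    obtain ⟨U₁, hwU₁, M, instM, -, ⟨Φ⟩⟩ := htriv w
    obtain ⟨W', hW', hwW', hW'le⟩ : ∃ W' : S₁.Opens, IsAffineOpen W' ∧ w ∈ W' ∧ W' ≤ W ⊓ U₁ := by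
      obtain ⟨_, ⟨W', hW', rfl⟩, hwW', hle⟩ := S₁.isBasis_affineOpens.exists_subset_of_mem_open
        (show w ∈ ((W ⊓ U₁ : S₁.Opens) : Set S₁) from ⟨hw, hwU₁⟩) (W ⊓ U₁).2
      exact ⟨W', hW', hwW', hle⟩
    obtain ⟨d, hd1, hd2, hd3⟩ := exists_piece (G := G) φ U₁ M
      ((Grp.forget (Over (U₁ : Scheme.{u}))).mapIso Φ) V hV U hU hUV W' hW'
      (fun x hx => (hW'le hx).2) (fun x hx => hWle (hW'le hx).1)
    exact ⟨W', hwW', fun x hx => (hW'le hx).1, d, hd1, hd2, hd3⟩
  choose W' hwW' hW'W d hd1 hd2 hd3 using h1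
  obtain ⟨t, ht⟩ := hWc.elim_nhds_subcover' (fun w hw => (W' w hw : Set S₁))
    (fun w hw => (W' w hw).2.mem_nhds (hwW' w hw))
  refine ⟨U, hU, hyU, t.toList.map (fun w => d w.1 w.2), ?_, ?_⟩
  · intro e he
    obtain ⟨w, -, rfl⟩ := List.mem_map.mp he
    exact ⟨hd1 w.1 w.2, hd2 w.1 w.2⟩
  · intro u hu
    have hu' : G.hom u ∈ (V : Set S) := hUV hu
    rw [← hWV] at hu'
    obtain ⟨w₀, hw₀, hw₀u⟩ := hu'
    obtain ⟨w, hwt, hw₀w⟩ := Set.mem_iUnion₂.mp (ht hw₀)
    exact ⟨d w.1 w.2, List.mem_map.mpr ⟨w, Finset.mem_toList.mpr hwt, rfl⟩,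
      hd3 w.1 w.2 u hu ⟨w₀, hw₀w, hw₀u⟩⟩

/-- **the family of pieces of a group of multiplicative type.** -/
theorem exists_pieces_of_multType [GrpObj H] (hH : SGA3x.IsMultTypeFT H) :
    ∃ (κ : Type u) (P : κ → LocPiece (pullback.snd H.hom G.hom)),
      (∀ k, Finite (P k).ι) ∧
      ∀ W : G.left.affineOpens, ∃ s : Finset (Chart (fun k => (P k).G) W),
        ∀ x ∈ W.1, ∃ t ∈ s, ∃ y ∈ t.V.1, (P t.i).G y = x := by
  classical
  choose U hU hyU L hL1 hL2 using exists_local_pieces (G := G) hH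
  refine ⟨Σ y : G.left, Fin (L y).length, fun k => (L k.1).get k.2, fun k => ?_, ?_⟩
  · exact (hL1 k.1 _ (List.get_mem _ _)).1
  · refine cover_of_local _ (fun x => ⟨U x, hU x, hyU x,
      Finset.univ.image (fun i : Fin (L x).length => (⟨x, i⟩ : Σ y : G.left, Fin (L y).length)),
      ?_, ?_⟩)
    · intro k hk
      obtain ⟨i, -, rfl⟩ := Finset.mem_image.mp hk
      exact (hL1 x _ (List.get_mem _ _)).2
    · intro u hu
      obtain ⟨e, he, hue⟩ := hL2 x u hu
      obtain ⟨i, rfl⟩ := List.mem_iff_get.mp he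
      exact ⟨⟨x, i⟩, Finset.mem_image_of_mem _ (Finset.mem_univ i), hue⟩

end Part7

section Part8

open CategoryTheory CategoryTheory.Limits AlgebraicGeometry MonoidalCategory
  CartesianMonoidalCategory MonObj GrpObj
open Groth.Agent.Lib.R2H3.ClosedWeilAlg Groth.Agent.Lib.H5bIdealDesc
open Groth.Agent.Lib.R2H1.EssFreeWeil Groth.Agent.Lib.R2H1.EssFreeTransp



/-- centralizer of a (not necessarily closed) morphism from a group of multiplicative type into an
affine group scheme is a closed subscheme. -/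
theorem s19599 {S : Scheme.{u}} (G H : Over S) [GrpObj G] [GrpObj H]
    (hGa : IsAffineHom G.hom) (i : H ⟶ G) (hH : SGA3x.IsMultTypeFT H) :
    ∃ (C : Over S) (c : C ⟶ G), IsClosedImmersion c.left ∧
      ∀ (X : Over S) (g : X ⟶ G), (∃ z : X ⟶ C, z ≫ c = g) ↔
        ∀ (X' : Over S) (x : X' ⟶ X) (a : X' ⟶ H),
          (x ≫ g) * (a ≫ i) = (a ≫ i) * (x ≫ g) := by
  haveI := hGa
  haveI : IsSeparated G.hom := inferInstance
  let m₁ : H ⊗ G ⟶ G := snd H G * (fst H G ≫ i)
  let m₂ : H ⊗ G ⟶ G := (fst H G ≫ i) * snd H G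
  haveI : IsClosedImmersion (equalizer.ι m₁ m₂).left :=
    AlgebraicGeometry.isClosedImmersion_equalizer_ι_left m₁ m₂
  obtain ⟨κ, P, hfin, hcov⟩ := exists_pieces_of_multType (H := H) (G := G) hH
  obtain ⟨C, j, h1, h2, -⟩ := exists_closed_of_pieces (H := H) (G := G) (𝟙 (H ⊗ G))
    (equalizer.ι m₁ m₂) P hcov
  refine ⟨C, j, h1, fun X g => ?_⟩
  rw [h2 X g]
  refine forall_congr' fun X' => forall_congr' fun x => forall_congr' fun a => ?_
  rw [Category.comp_id]
  have e1 : lift a (x ≫ g) ≫ m₁ = (x ≫ g) * (a ≫ i) := by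
    simp only [m₁, MonObj.comp_mul, lift_snd, lift_fst_assoc]
  have e2 : lift a (x ≫ g) ≫ m₂ = (a ≫ i) * (x ≫ g) := by
    simp only [m₂, MonObj.comp_mul, lift_snd, lift_fst_assoc]
  constructor
  · rintro ⟨κ, hκ⟩
    rw [← e1, ← e2, hκ, Category.assoc, equalizer.condition, Category.assoc]
  · intro h
    have h' : lift a (x ≫ g) ≫ m₁ = lift a (x ≫ g) ≫ m₂ := by rw [e1, e2, h]
    exact ⟨equalizer.lift _ h', (equalizer.lift_ι _ _).symm⟩

/-- transporter of a group of multiplicative type into a closed subscheme of finite presentation. -/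
theorem s16777 {S : Scheme.{u}} (G H Y' : Over S) [GrpObj G] [GrpObj H]
    (hGfp : LocallyOfFinitePresentation G.hom)
    (i : H ⟶ G) (hH : SGA3x.IsMultTypeFT H)
    (y' : Y' ⟶ G) (hy' : IsClosedImmersion y'.left) (hY'fp : LocallyOfFinitePresentation Y'.hom) :
    ∃ (C : Over S) (c : C ⟶ G), IsClosedImmersion c.left ∧ LocallyOfFinitePresentation C.hom ∧
      ∀ (X : Over S) (g : X ⟶ G), (∃ z : X ⟶ C, z ≫ c = g) ↔
        ∀ (X' : Over S) (x : X' ⟶ X) (h : X' ⟶ H),
          ∃ a' : X' ⟶ Y', (x ≫ g) * (h ≫ i) * (x ≫ g)⁻¹ = a' ≫ y' := by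
  haveI := hy'
  haveI := hGfp
  let c : H ⊗ G ⟶ G := snd H G * (fst H G ≫ i) * (snd H G)⁻¹
  obtain ⟨κ, P, hfin, hcov⟩ := exists_pieces_of_multType (H := H) (G := G) hH
  obtain ⟨C, j, h1, h2, h3⟩ := exists_closed_of_pieces (H := H) (G := G) c y' P hcov
  have hy'fp : LocallyOfFinitePresentation y'.left := by
    refine Groth.Agent.Lib.Helper6.locallyOfFinitePresentation_of_comp (g := G.hom)
      inferInstance ?_
    rw [Over.w y']
    exact hY'fp
  refine ⟨C, j, h1, ?_, fun X g => ?_⟩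
  · haveI := h3 hfin hy'fp
    rw [← Over.w j]
    infer_instance
  · rw [h2 X g]
    refine forall_congr' fun X' => forall_congr' fun x => forall_congr' fun a => ?_
    have e1 : lift a (x ≫ g) ≫ c = (x ≫ g) * (a ≫ i) * (x ≫ g)⁻¹ := by
      simp only [c, MonObj.comp_mul, GrpObj.comp_inv, lift_snd, lift_fst_assoc]
    rw [e1]

end Part8

end Groth.Agent.Lib.R2H1.MultTypeTransp
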