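import Mathlib
import Groth.Agent.Lib.R2H1VBSub
import Groth.Agent.Lib.R2H1VBTwist
import Groth.Agent.Lib.R2H2PullLF
set_option backward.isDefEq.respectTransparency.types false

/-!
Extension of curve-test nef finite locally free modules is curve-test nef (S17280).
-/

set_option autoImplicit false
set_option linter.style.haveILetI false
set_option linter.unusedSectionVars false
universe u v

open CategoryTheory CategoryTheory.Limits AlgebraicGeometry TopologicalSpace Opposite

namespace Groth.Agent.Lib.R2H1.NefExt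

section Part1

open Groth.Agent.Lib.R2H1.VBSub Groth.Agent.Lib.R2H1.CurveDegSec Groth.Agent.Lib.R2H1.CurveEuler

/-- S17280: an extension of curve-test nef finite locally free modules is curve-test nef -/
theorem s17280 (k : Type u) [Field k] (X : Scheme.{u})
    [X.Over (Spec (CommRingCat.of k))] [IsProper (X ↘ (Spec (CommRingCat.of k)))] (S : ShortComplex X.Modules) (hS : S.ShortExact)
    (h₁ : FlatMod.IsFinLocFree S.X₁) (h₂ : FlatMod.IsFinLocFree S.X₂) (h₃ : FlatMod.IsFinLocFree S.X₃)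
    (hnef₁ : ∀ (C : Scheme.{u}) [C.Over (Spec (CommRingCat.of k))] [IsProper (C ↘ (Spec (CommRingCat.of k)))] [IsIntegral C],
      topologicalKrullDim C = 1 → (∀ x : C, IsRegularLocalRing (C.presheaf.stalk x)) →
      ∀ (f : C ⟶ X), f ≫ (X ↘ (Spec (CommRingCat.of k))) = C ↘ (Spec (CommRingCat.of k)) →
      ∀ (M : C.Modules), PicF.IsInvertible M →
      ∀ (q : (Scheme.Modules.pullback f).obj S.X₁ ⟶ M), Epi q → 0 ≤ Curv2.deg k C M 1)
    (hnef₃ : ∀ (C : Scheme.{u}) [C.Over (Spec (CommRingCat.of k))] [IsProper (C ↘ (Spec (CommRingCat.of k)))] [IsIntegral C],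
      topologicalKrullDim C = 1 → (∀ x : C, IsRegularLocalRing (C.presheaf.stalk x)) →
      ∀ (f : C ⟶ X), f ≫ (X ↘ (Spec (CommRingCat.of k))) = C ↘ (Spec (CommRingCat.of k)) →
      ∀ (M : C.Modules), PicF.IsInvertible M →
      ∀ (q : (Scheme.Modules.pullback f).obj S.X₃ ⟶ M), Epi q → 0 ≤ Curv2.deg k C M 1) :
    ∀ (C : Scheme.{u}) [C.Over (Spec (CommRingCat.of k))] [IsProper (C ↘ (Spec (CommRingCat.of k)))] [IsIntegral C],
    topologicalKrullDim C = 1 → (∀ x : C, IsRegularLocalRing (C.presheaf.stalk x)) →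
    ∀ (f : C ⟶ X), f ≫ (X ↘ (Spec (CommRingCat.of k))) = C ↘ (Spec (CommRingCat.of k)) →
    ∀ (M : C.Modules), PicF.IsInvertible M →
    ∀ (q : (Scheme.Modules.pullback f).obj S.X₂ ⟶ M), Epi q → 0 ≤ Curv2.deg k C M 1 := by
  intro C _ _ _ hdim hreg f hf M hM q hq
  haveI := isNoetherian_of_proper k C
  have l₁ := Groth.Agent.Lib.R2H2.PullLF.isFinLocFree_pullback f S.X₁ h₁
  obtain ⟨r, hr⟩ := exists_rank_of_isFinLocFree _ l₁
  have hM1 : FlatMod.IsFinLocFreeOfRank 1 M :=
    Groth.Agent.Lib.Helper23.SecTw.isFinLocFreeOfRank_one_of_isInvertible M hM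
  obtain ⟨g, hg⟩ : ∃ g : (Scheme.Modules.pullback f).obj S.X₁ ⟶ M,
      g = (Scheme.Modules.pullback f).map S.f ≫ q := ⟨_, rfl⟩
  obtain ⟨K, I, a, p, j, r₀, r₁, -, hp, hj, hpj, -, -, hI, -, -, -, hzero, hle⟩ :=
    exists_ker_im k C hdim hreg hr hM1 g
  by_cases hg00 : g = 0
  · -- `q` factors through the pullback of `S.X₃`
    have hg0 : (Scheme.Modules.pullback f).map S.f ≫ q = 0 := hg ▸ hg00
    haveI : Epi S.g := hS.epi_g
    haveI : (Scheme.Modules.pullback f).IsLeftAdjoint :=
      (Scheme.Modules.pullbackPushforwardAdjunction f).isLeftAdjoint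
    have hex : (S.map (Scheme.Modules.pullback f)).Exact :=
      hS.exact.map_of_epi_of_preservesCokernel _ inferInstance inferInstance
    haveI : Epi (S.map (Scheme.Modules.pullback f)).g :=
      inferInstanceAs (Epi ((Scheme.Modules.pullback f).map S.g))
    obtain ⟨q'', hq''⟩ : ∃ q'' : (Scheme.Modules.pullback f).obj S.X₃ ⟶ M,
        (Scheme.Modules.pullback f).map S.g ≫ q'' = q :=
      ⟨hex.desc q hg0, hex.g_desc q hg0⟩
    haveI : Epi ((Scheme.Modules.pullback f).map S.g ≫ q'') := by rw [hq'']; exact hq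
    haveI : Epi q'' := epi_of_epi ((Scheme.Modules.pullback f).map S.g) q''
    exact hnef₃ C hdim hreg f hf M hM q'' inferInstance
  · have hr1 : r₁ ≠ 0 := fun h => hg00 (hzero h)
    have hr1' : r₁ = 1 := by omega
    subst hr1'
    have hIinv : PicF.IsInvertible I := Groth.Agent.Lib.R2H1.VBTwist.isInvertible_of_rank_one hI
    have hdI := hnef₁ C hdim hreg f hf I hIinv p hp
    have hj0 : j ≠ 0 := by
      intro h
      apply hg00
      rw [← hpj, h, comp_zero]
    exact hdI.trans (s1521 k C hdim I M hIinv hM j hj0).1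

end Part1

end Groth.Agent.Lib.R2H1.NefExt
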