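import Mathlib
import Groth.Agent.Lib.R2H1VBGlobGen
import Groth.Agent.Lib.R2H2AmpleRes
import Groth.Agent.Lib.R2H2AmpleElt
set_option backward.isDefEq.respectTransparency.types false

/-!
# Nef bundle twisted by degree at least 2g is globally generated on a regular proper curve (helper1, round 2): s17281.
-/

set_option autoImplicit false
set_option linter.style.haveILetI false
set_option linter.unusedSectionVars false
universe u v

open CategoryTheory CategoryTheory.Limits AlgebraicGeometry TopologicalSpace Opposite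

namespace Groth.Agent.Lib.R2H1.NefGG

section Part1

open Groth.Agent.Lib.R2H1.VBGlobGen
open Groth.Agent.Lib.R2H1.SerreDual
open Groth.Agent.Lib.R2H1.CurveEuler Groth.Agent.Lib.R2H1.CurveDegSec
  Groth.Agent.Lib.R2H1.EulerAdd Groth.Agent.Lib.R2H2.HHLin Groth.Agent.Lib.R2H2.PnLinRes
  Groth.Agent.Lib.R2H1.VBSub Groth.Agent.Lib.R2H1.DegCartier
open Groth.Agent.Lib.R2H2.PnSerre Groth.Agent.Lib.R2H2.AmpleRes

attribute [local instance] Abelian.hasFiniteBiproducts

/-- S17281 -/
theorem s17281 (k : Type u) [Field k] [IsAlgClosed k]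
    (X : Scheme.{u}) [X.Over (Spec (CommRingCat.of k))] [IsProper (X ↘ (Spec (CommRingCat.of k)))] [IsIntegral X]
    (hdim : topologicalKrullDim X = 1) (hreg : ∀ x : X, IsRegularLocalRing (X.presheaf.stalk x))
    (E : X.Modules) (hE : FlatMod.IsFinLocFree E)
    (hnef : ∀ (C : Scheme.{u}) [C.Over (Spec (CommRingCat.of k))] [IsProper (C ↘ (Spec (CommRingCat.of k)))] [IsIntegral C],
      topologicalKrullDim C = 1 → (∀ x : C, IsRegularLocalRing (C.presheaf.stalk x)) →
      ∀ (f : C ⟶ X), f ≫ (X ↘ (Spec (CommRingCat.of k))) = C ↘ (Spec (CommRingCat.of k)) →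
      ∀ (M : C.Modules), PicF.IsInvertible M →
      ∀ (q : (Scheme.Modules.pullback f).obj E ⟶ M), Epi q → 0 ≤ Curv2.deg k C M 1)
    (H : X.Modules) (hH : PicF.IsInvertible H)
    (hdeg : 2 * (Curv2.genus k X : ℤ) ≤ Curv2.deg k X H 1) :
    Curv2.IsGloballyGenerated (CohB1.tensorMod E H) := by
  haveI := isNoetherian_of_proper k X
  obtain ⟨r, hEr⟩ := exists_rank_of_isFinLocFree E hE
  have hF : FlatMod.IsFinLocFreeOfRank r (CohB1.tensorMod E H) :=
    isFinLocFreeOfRank_tensor_invertible r E H hEr hH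
  by_contra hng
  obtain ⟨K, r₀, a, d, ha, hK, hr0, hd, hdle⟩ := exists_sub_of_not_gg k X hdim hreg hF hng
  haveI := ha
  obtain ⟨K', j, ℓ, s, hj, hℓj, hK', hle, hQ, hrs, hdd⟩ :=
    Groth.Agent.Lib.R2H1.VBSat.exists_saturation' k X hdim hreg hF hK a
  haveI := hj
  have hs : s = 1 := by omega
  subst hs
  have hM := Groth.Agent.Lib.R2H1.VBTwist.isInvertible_of_rank_one hQ
  obtain ⟨N, hN, ⟨e⟩⟩ := Groth.Agent.Lib.R2H1.InvExists.exists_inverse H hH
  haveI : Epi ((twR N).map (cokernel.π j)) := epi_twR_map N hN (cokernel.π j)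
  have hMN := Groth.Agent.Lib.Helper23.SecTw.isInvertible_tensorMod hM hN
  obtain ⟨q, hq⟩ : ∃ q : (Scheme.Modules.pullback (𝟙 X)).obj E ⟶ CohB1.tensorMod (cokernel j) N,
      q = (Scheme.Modules.pullbackId X).hom.app E ≫ (cancelIso E H N e).inv ≫
        (twR N).map (cokernel.π j) := ⟨_, rfl⟩
  have hqe : Epi q := by
    rw [hq]
    have h1 : Epi ((twR N).map (cokernel.π j)) := epi_twR_map N hN (cokernel.π j)
    have h2 : Epi ((cancelIso E H N e).inv ≫ (twR N).map (cokernel.π j)) :=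
      @epi_comp _ _ _ _ _ _ inferInstance _ h1
    exact @epi_comp _ _ _ _ _ _ inferInstance _ h2
  have h0 := hnef X hdim hreg (𝟙 X) (Category.id_comp _) _ hMN q hqe
  have hH1 := Groth.Agent.Lib.Helper23.SecTw.isFinLocFreeOfRank_one_of_isInvertible _ hH
  have hN1 := Groth.Agent.Lib.Helper23.SecTw.isFinLocFreeOfRank_one_of_isInvertible _ hN
  rw [Groth.Agent.Lib.R2H1.VBIndecTwo.deg_tensor_invertible k X hdim hM hN,
    Groth.Agent.Lib.R2H1.VBTwist.deg_inverse k X hdim hH1 hN1 e] at h0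
  linarith

end Part1

end Groth.Agent.Lib.R2H1.NefGG
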