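import Mathlib
import Groth.Agent.Lib.R2H1CurveLift
import Groth.Agent.Lib.R2H1DegComponents
set_option backward.isDefEq.respectTransparency.types false

/-!
helper1 (run 2): curve-test nefness on regular curves implies the degree inequality on arbitrary proper curves (S17284). deg_nonneg_of_integral (integral proper curve W -> X: invertible quotients of the pullback have deg >= 0), s17284 (via S1641 decomposition over components).
-/

set_option autoImplicit false
set_option linter.style.haveILetI false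
set_option linter.unusedSectionVars false
universe u v

open CategoryTheory CategoryTheory.Limits AlgebraicGeometry TopologicalSpace Opposite

namespace Groth.Agent.Lib.R2H1.NefGen

section Part1

open Groth.Agent.Lib.R2H1.CurveLift Groth.Agent.Lib.R2H1.BirGenus
  Groth.Agent.Lib.R2H1.DegComponents Groth.Agent.Lib.R2H1.CurveEuler

/-- curve-test nefness on regular curves implies the degree inequality on integral curves -/
theorem deg_nonneg_of_integral (k : Type u) [Field k]
    (X : Scheme.{u}) [X.Over (Spec (CommRingCat.of k))] [IsProper (X ↘ (Spec (CommRingCat.of k)))] (E : X.Modules)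
    (hnef : ∀ (C : Scheme.{u}) [C.Over (Spec (CommRingCat.of k))] [IsProper (C ↘ (Spec (CommRingCat.of k)))] [IsIntegral C],
      topologicalKrullDim C = 1 → (∀ x : C, IsRegularLocalRing (C.presheaf.stalk x)) →
      ∀ (f : C ⟶ X), f ≫ (X ↘ (Spec (CommRingCat.of k))) = C ↘ (Spec (CommRingCat.of k)) →
      ∀ (M : C.Modules), PicF.IsInvertible M →
      ∀ (q : (Scheme.Modules.pullback f).obj E ⟶ M), Epi q → 0 ≤ Curv2.deg k C M 1)
    (W : Scheme.{u}) [W.Over (Spec (CommRingCat.of k))] [IsProper (W ↘ (Spec (CommRingCat.of k)))]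
    [IsIntegral W] (hdim : topologicalKrullDim W = 1)
    (h : W ⟶ X) (hh : h ≫ (X ↘ (Spec (CommRingCat.of k))) = W ↘ (Spec (CommRingCat.of k)))
    (M : W.Modules) (hM : PicF.IsInvertible M)
    (q : (Scheme.Modules.pullback h).obj E ⟶ M) (hq : Epi q) : 0 ≤ Curv2.deg k W M 1 := by
  obtain ⟨C', ν, hintC', hfinν, hsurjν, hdimC', hreg⟩ := exists_regular_model k W hdim
  letI : C'.Over (Spec (CommRingCat.of k)) := ⟨ν ≫ (W ↘ Spec (CommRingCat.of k))⟩
  haveI : IsProper (C' ↘ Spec (CommRingCat.of k)) := isProper_of_comp k ν rfl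
  have hgen : ν.base (genericPoint C') = genericPoint W := by
    obtain ⟨c, hc⟩ := ν.surjective (genericPoint W)
    have hsp : genericPoint C' ⤳ c := (genericPoint_spec C').specializes trivial
    have hsp' : ν.base (genericPoint C') ⤳ genericPoint W := hc ▸ hsp.map ν.continuous
    exact (((genericPoint_spec W).specializes trivial).antisymm hsp').eq.symm
  have hM' := Groth.Agent.Lib.Helper23.PB.isInvertible_pullback ν M hM
  have hM1 : FlatMod.IsFinLocFreeOfRank 1 M :=
    Groth.Agent.Lib.Helper23.SecTw.isFinLocFreeOfRank_one_of_isInvertible M hM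
  have key := Groth.Agent.Lib.R2H1.DegPullback.s7640 k C' W hdimC' hdim ν rfl hgen 1 M hM1
  have hpos : 0 < ν.residueDegree (genericPoint C') := by
    have hfin := Groth.Agent.Lib.Helper20.ResFld.finite_residueFieldMap_of_quasiFiniteAt ν
      (genericPoint C') (ν.quasiFiniteAt _)
    unfold Scheme.Hom.residueDegree
    letI := (ν.residueFieldMap (genericPoint C')).hom.toAlgebra
    haveI : Module.Finite (W.residueField (ν.base (genericPoint C')))
        (C'.residueField (genericPoint C')) := hfin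
    exact Module.finrank_pos
  haveI : (Scheme.Modules.pullback ν).IsLeftAdjoint :=
    (Scheme.Modules.pullbackPushforwardAdjunction ν).isLeftAdjoint
  haveI := hq
  haveI : Epi ((Scheme.Modules.pullback ν).map q) := inferInstance
  have e : (Scheme.Modules.pullback (ν ≫ h)).obj E ≅
      (Scheme.Modules.pullback ν).obj ((Scheme.Modules.pullback h).obj E) :=
    ((Scheme.Modules.pullbackComp ν h).app E).symm
  have hover : (ν ≫ h) ≫ (X ↘ Spec (CommRingCat.of k)) = C' ↘ Spec (CommRingCat.of k) := by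
    rw [Category.assoc, hh]
    rfl
  have h0 := hnef C' hdimC' hreg (ν ≫ h) hover _ hM' (e.hom ≫ (Scheme.Modules.pullback ν).map q)
    inferInstance
  rw [key] at h0
  have hpos' : (0 : ℤ) < (ν.residueDegree (genericPoint C') : ℤ) := by exact_mod_cast hpos
  exact (mul_nonneg_iff_of_pos_left hpos').mp h0

/-- S17284 -/
theorem s17284 (k : Type u) [Field k]
    (X : Scheme.{u}) [X.Over (Spec (CommRingCat.of k))] [IsProper (X ↘ (Spec (CommRingCat.of k)))] (E : X.Modules) (hE : FlatMod.IsFinLocFree E)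
    (hnef : ∀ (C : Scheme.{u}) [C.Over (Spec (CommRingCat.of k))] [IsProper (C ↘ (Spec (CommRingCat.of k)))] [IsIntegral C],
      topologicalKrullDim C = 1 → (∀ x : C, IsRegularLocalRing (C.presheaf.stalk x)) →
      ∀ (f : C ⟶ X), f ≫ (X ↘ (Spec (CommRingCat.of k))) = C ↘ (Spec (CommRingCat.of k)) →
      ∀ (M : C.Modules), PicF.IsInvertible M →
      ∀ (q : (Scheme.Modules.pullback f).obj E ⟶ M), Epi q → 0 ≤ Curv2.deg k C M 1) :
    ∀ (C : Scheme.{u}) [C.Over (Spec (CommRingCat.of k))] [IsProper (C ↘ (Spec (CommRingCat.of k)))], topologicalKrullDim C = 1 →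
    ∀ (f : C ⟶ X), f ≫ (X ↘ (Spec (CommRingCat.of k))) = C ↘ (Spec (CommRingCat.of k)) →
    ∀ (M : C.Modules), PicF.IsInvertible M →
    ∀ (q : (Scheme.Modules.pullback f).obj E ⟶ M), Epi q → 0 ≤ Curv2.deg k C M 1 := by
  intro C _ _ hdim f hf M hM q hq
  haveI := isNoetherian_of_proper k C
  have hM1 : FlatMod.IsFinLocFreeOfRank 1 M :=
    Groth.Agent.Lib.Helper23.SecTw.isFinLocFreeOfRank_one_of_isInvertible M hM
  rw [s1641 k C hdim.le 1 M hM1]
  refine finsum_nonneg fun Z => ?_
  split_ifs with hZ1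
  · refine mul_nonneg (by positivity) ?_
    obtain ⟨ι, hι⟩ : ∃ ι : (cI Z.1 Z.2).subscheme ⟶ C, ι = (cI Z.1 Z.2).subschemeι := ⟨_, rfl⟩
    letI : (cI Z.1 Z.2).subscheme.Over (Spec (CommRingCat.of k)) :=
      ⟨(cI Z.1 Z.2).subschemeι ≫ (C ↘ Spec (CommRingCat.of k))⟩
    haveI : IsProper ((cI Z.1 Z.2).subscheme ↘ Spec (CommRingCat.of k)) :=
      inferInstanceAs (IsProper ((cI Z.1 Z.2).subschemeι ≫ (C ↘ Spec (CommRingCat.of k))))
    haveI := isIntegral_cS Z.1 Z.2
    have hdimW : topologicalKrullDim (cI Z.1 Z.2).subscheme = 1 := by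
      rw [dim_cS Z.1 Z.2, hZ1]
    have hM' := Groth.Agent.Lib.Helper23.PB.isInvertible_pullback (cI Z.1 Z.2).subschemeι M hM
    haveI : (Scheme.Modules.pullback (cI Z.1 Z.2).subschemeι).IsLeftAdjoint :=
      (Scheme.Modules.pullbackPushforwardAdjunction (cI Z.1 Z.2).subschemeι).isLeftAdjoint
    haveI := hq
    haveI : Epi ((Scheme.Modules.pullback (cI Z.1 Z.2).subschemeι).map q) := inferInstance
    have e : (Scheme.Modules.pullback ((cI Z.1 Z.2).subschemeι ≫ f)).obj E ≅
        (Scheme.Modules.pullback (cI Z.1 Z.2).subschemeι).obj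
          ((Scheme.Modules.pullback f).obj E) :=
      ((Scheme.Modules.pullbackComp (cI Z.1 Z.2).subschemeι f).app E).symm
    have hover : ((cI Z.1 Z.2).subschemeι ≫ f) ≫ (X ↘ Spec (CommRingCat.of k)) =
        (cI Z.1 Z.2).subscheme ↘ Spec (CommRingCat.of k) := by
      rw [Category.assoc, hf]
      rfl
    exact deg_nonneg_of_integral k X E hnef (cI Z.1 Z.2).subscheme hdimW
      ((cI Z.1 Z.2).subschemeι ≫ f) hover _ hM'
      (e.hom ≫ (Scheme.Modules.pullback (cI Z.1 Z.2).subschemeι).map q) inferInstance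
  · exact le_refl _

end Part1

end Groth.Agent.Lib.R2H1.NefGen
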