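import Mathlib
import Groth.Prelude
import Groth.Agent.Lib.R2H1GenusFinite
import Groth.Agent.Lib.R2H1LurothCurve
import Groth.Agent.Lib.R2H1NormGenusZero
import Groth.Agent.Lib.R2H1CurveLift
import Groth.Agent.S1566
set_option backward.isDefEq.respectTransparency.types false

/-!
Normal models of integral proper curves with genus bound: exists_normal_model (normalization: normal integral proper curve C finite surjective over X with genus C le genus X); h1_le_of_finite_component (S14835).
-/

set_option autoImplicit false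
set_option linter.style.haveILetI false
set_option linter.unusedSectionVars false
universe u v

open CategoryTheory CategoryTheory.Limits AlgebraicGeometry TopologicalSpace Opposite

namespace Groth.Agent.Lib.R2H1.NormModel

section Part1

open CategoryTheory CategoryTheory.Limits AlgebraicGeometry TopologicalSpace

section Model

open Groth.Agent.Lib.Helper4.NormCurve Groth.Agent.Lib.R2H1.BirGenus
  Groth.Agent.Lib.R2H1.CurveEuler Groth.Agent.Lib.R2H1.EulerAdd
  Groth.Agent.Lib.R2H1.CurveLift

variable (k : Type u) [Field k] (X : Scheme.{u}) [X.Over (Spec (CommRingCat.of k))]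
    [IsIntegral X] [IsProper (X ↘ (Spec (CommRingCat.of k)))]

/-- the normalization of an integral proper curve: a normal integral proper curve, finite over the
given one, of smaller genus -/
theorem exists_normal_model (hdim : topologicalKrullDim X = 1) :
    ∃ (C : Scheme.{u}) (_ : C.Over (Spec (CommRingCat.of k))) (ν : C ⟶ X),
      ν ≫ (X ↘ Spec (CommRingCat.of k)) = C ↘ Spec (CommRingCat.of k) ∧
      IsIntegral C ∧ IsProper (C ↘ Spec (CommRingCat.of k)) ∧ IsFinite ν ∧ Surjective ν ∧
      topologicalKrullDim C = 1 ∧ Pi1.IsNormalScheme C ∧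
      Curv2.genus k C ≤ Curv2.genus k X := by
  obtain ⟨g, hg⟩ : ∃ g : Spec (CommRingCat.of X.functionField) ⟶ X,
      g = gen X X.functionField (RingHom.id _) := ⟨_, rfl⟩
  haveI : QuasiCompact g := inferInstance
  haveI : QuasiSeparated g := inferInstance
  have hN2 : ∀ (U : X.Opens), IsAffineOpen U → ∀ (hne : Nonempty ↥U),
      @CAlg.IsN2 Γ(X, U) _ (@IsIntegral.component_integral X _ U hne) := fun U hU hne =>
    isN2_sections_of_locallyOfFiniteType_field k X U hU (hne := hne)
  haveI : IsFinite g.fromNormalization :=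
    isFinite_fromNormalization_of_eq X.functionField (RingHom.id _) g hg
      (RingHom.Finite.id _) hN2
  haveI hsurj := surjective_fromNormalization_of_eq X.functionField (RingHom.id _) g hg
  have hnorm := isNormalScheme_normalization_of_eq X.functionField (RingHom.id _) g hg
  letI oN : g.normalization.Over (Spec (CommRingCat.of k)) :=
    ⟨g.fromNormalization ≫ (X ↘ Spec (CommRingCat.of k))⟩
  haveI : IsProper (g.normalization ↘ Spec (CommRingCat.of k)) :=
    isProper_of_comp k g.fromNormalization rfl
  haveI : CompactSpace X :=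
    QuasiCompact.compactSpace_of_compactSpace (X ↘ Spec (CommRingCat.of k))
  have hdim' : topologicalKrullDim g.normalization = 1 := by
    rw [topologicalKrullDim_eq_of_isFinite_of_surjective k g.fromNormalization rfl, hdim]
  obtain ⟨V, hVne, hV⟩ := exists_isIso_morphismRestrict_of_eq g hg
    (fun U hU hne => @Groth.Agent.Lib.Helper14.IsN2.isN1 _ _
        (@IsIntegral.component_integral X _ U hne) (hN2 U hU hne))
  have hVd : Dense (V : Set X) := V.isOpen.dense hVne
  have hV'ne : ((g.fromNormalization ⁻¹ᵁ V : g.normalization.Opens) :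
      Set g.normalization).Nonempty := by
    obtain ⟨v, hv⟩ := hVne
    obtain ⟨y, hy⟩ := hsurj.surj v
    exact ⟨y, by change g.fromNormalization y ∈ V; rw [hy]; exact hv⟩
  have hV'd : Dense ((g.fromNormalization ⁻¹ᵁ V : g.normalization.Opens) :
      Set g.normalization) :=
    (g.fromNormalization ⁻¹ᵁ V).isOpen.dense hV'ne
  have hle := genus_le_of_birational k hdim.le g.fromNormalization rfl V hVd hV'd hV
  exact ⟨g.normalization, oN, g.fromNormalization, rfl, inferInstance, inferInstance,
    inferInstance, hsurj, hdim', hnorm, hle⟩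

end Model

section Comp

open Groth.Agent.Lib.R2H1.GenusFinite Groth.Agent.Lib.R2H1.LurothCurve

variable (k : Type u) [Field k] [IsAlgClosed k]
    (C B Ci : Scheme.{u}) [C.Over (Spec (CommRingCat.of k))] [B.Over (Spec (CommRingCat.of k))]
    [Ci.Over (Spec (CommRingCat.of k))]
    [IsProper (C ↘ Spec (CommRingCat.of k))] [IsProper (B ↘ Spec (CommRingCat.of k))]

/-- S14835 -/
theorem h1_le_of_finite_component (hC : topologicalKrullDim ↥C = 1)
    (hB : topologicalKrullDim ↥B = 1) [ConnectedSpace ↥B]
    (hBreg : ∀ b : B, IsRegularLocalRing (B.presheaf.stalk b))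
    (φ : C ⟶ B) (hφ : φ ≫ (B ↘ Spec (CommRingCat.of k)) = C ↘ Spec (CommRingCat.of k))
    (ι : Ci ⟶ C) [IsClosedImmersion ι] [IsIntegral Ci] (hCi : topologicalKrullDim ↥Ci = 1)
    (hι : ι ≫ (C ↘ Spec (CommRingCat.of k)) = Ci ↘ Spec (CommRingCat.of k)) [IsFinite (ι ≫ φ)] :
    Module.finrank k (Coh.HH Ci (Coh.structureModule Ci) 1) ≤
        Module.finrank k (Coh.HH C (Coh.structureModule C) 1) ∧
      Module.finrank k (Coh.HH B (Coh.structureModule B) 1) ≤
        Module.finrank k (Coh.HH Ci (Coh.structureModule Ci) 1) := by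
  constructor
  · have hcl : IsClosedImmersion (ι ∣_ (⊤ : C.Opens)) := inferInstance
    exact Groth.Agent.S1566.result k C Ci hC.le ι hι ⊤ (by simp) hcl
  · haveI : IsProper (Ci ↘ Spec (CommRingCat.of k)) := by
      rw [← hι]; infer_instance
    obtain ⟨N, oN, ν, hν, hNi, hNp, hνf, hνs, hdN, hNn, hle⟩ := exists_normal_model k Ci hCi
    have hBn : Pi1.IsNormalScheme B := fun y => by
      haveI := hBreg y
      exact ⟨Groth.Agent.Lib.Helper5.isDomain_of_isRegularLocalRing _,
        Groth.Agent.Lib.Helper28.isIntegrallyClosed_of_isRegularLocalRing _⟩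
    haveI : IsLocallyNoetherian B :=
      LocallyOfFiniteType.isLocallyNoetherian (B ↘ Spec (CommRingCat.of k))
    haveI : CompactSpace B :=
      QuasiCompact.compactSpace_of_compactSpace (B ↘ Spec (CommRingCat.of k))
    haveI := isIntegral_of_normal_of_connected B hBn
    haveI := Groth.Agent.Lib.R2H1.SmoothCompl.smooth_of_normal k B hB hBn
    haveI := Groth.Agent.Lib.R2H1.SmoothCompl.smooth_of_normal k N hdN hNn
    haveI : IsFinite (ν ≫ ι ≫ φ) := inferInstance
    have hcomp : (ν ≫ ι ≫ φ) ≫ (B ↘ Spec (CommRingCat.of k)) = N ↘ Spec (CommRingCat.of k) := by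
      rw [Category.assoc, Category.assoc, hφ, hι, hν]
    have h := genus_le_of_isFinite_algClosed k N B hdN hB (ν ≫ ι ≫ φ) hcomp
    exact h.trans hle

end Comp

end Part1

end Groth.Agent.Lib.R2H1.NormModel
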