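import Mathlib
import Groth.Prelude
import Groth.Agent.Lib.R2H1CurveBC
import Groth.Agent.Lib.R2H1GenusZeroPic
import Groth.Agent.Lib.R2H1PicLaw
import Groth.Agent.S6541
set_option backward.isDefEq.respectTransparency.types false

/-!
Genus zero curves with an invertible module of odd degree: geometricallyConnected_of_geometricallyIrreducible, iso_P1_of_odd_of_two (odd degree and degree two invertible modules give degree one), iso_P1_of_odd_of_smooth (S6544).
-/

set_option autoImplicit false
set_option linter.style.haveILetI false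
set_option linter.unusedSectionVars false
universe u v

open CategoryTheory CategoryTheory.Limits AlgebraicGeometry TopologicalSpace Opposite

namespace Groth.Agent.Lib.R2H1.OddP1

section Part1

open CategoryTheory CategoryTheory.Limits AlgebraicGeometry TopologicalSpace
open Groth.Agent.Lib.R2H1.CurveBC

section A

theorem geometricallyConnected_of_geometricallyIrreducible {X S : Scheme.{u}} (f : X ⟶ S)
    [h : GeometricallyIrreducible f] : GeometricallyConnected f := by
  refine ⟨fun K _ y Z fst snd hp => ?_⟩
  haveI : IrreducibleSpace Z := h.1 y fst snd hp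
  change ConnectedSpace Z
  infer_instance

variable (k : Type u) [Field k] (X : Scheme.{u}) [X.Over (Spec (CommRingCat.of k))]
  [IsIntegral X] [IsProper (X ↘ Spec (CommRingCat.of k))]

/-- an integral proper curve of genus zero with invertible modules of odd degree and of degree two
is the projective line -/
theorem iso_P1_of_odd_of_two (hdim : topologicalKrullDim X = 1) (hg : Curv2.genus k X = 0)
    (L : X.Modules) (hL : PicF.IsInvertible L) (hodd : Odd (Curv2.deg k X L 1))
    (W : X.Modules) (hW : PicF.IsInvertible W)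
    (hW2 : Curv2.deg k X W 1 = 2 ∨ Curv2.deg k X W 1 = -2) :
    ∃ e : X ≅ CohB1.ProjSpace 1 k,
      e.hom ≫ CohB1.ProjSpace.toSpec 1 k = X ↘ (Spec (CommRingCat.of k)) := by
  letI := Groth.Agent.Lib.R2H1.PicLaw.lawOfIntegral X
  obtain ⟨W', hW', ⟨eW⟩⟩ := Groth.Agent.Lib.R2H1.InvExists.exists_inverse W hW
  obtain ⟨m, hm⟩ := hodd
  have h1 : Subsingleton (Coh.HH X (Coh.structureModule X) 1) := by
    haveI : Module.Finite k (Coh.HH X (Coh.structureModule X) 1) :=
      Groth.Agent.Lib.R2H1.EulerAdd.finite_HH k X _
        (Groth.Agent.Lib.R2H1.GenusLe.isCoh_structureModule X) 1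
    exact Module.finrank_zero_iff.mp hg
  rcases hW2 with h2 | h2
  · -- use I = W', L = W
    obtain ⟨N, hN, -, hdeg⟩ := Groth.Agent.Lib.R2H1.GenusZeroPic.exists_twist k X hdim W' W hW' hW
      eW L hL m
    refine Groth.Agent.S6541.result k X hdim h1 N hN ?_
    rw [hdeg, hm, h2]; ring
  · obtain ⟨N, hN, -, hdeg⟩ := Groth.Agent.Lib.R2H1.GenusZeroPic.exists_twist k X hdim W' W hW' hW
      eW L hL (-m)
    refine Groth.Agent.S6541.result k X hdim h1 N hN ?_
    rw [hdeg, hm, h2]; push_cast; ring

/-- S6544 -/
theorem iso_P1_of_odd_of_smooth (hdim : topologicalKrullDim X = 1)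
    [Smooth (X ↘ Spec (CommRingCat.of k))]
    [GeometricallyIrreducible (X ↘ Spec (CommRingCat.of k))] (hg : Curv2.genus k X = 0)
    (L : X.Modules) (hL : PicF.IsInvertible L) (hodd : Odd (Curv2.deg k X L 1)) :
    ∃ e : X ≅ CohB1.ProjSpace 1 k,
      e.hom ≫ CohB1.ProjSpace.toSpec 1 k = X ↘ (Spec (CommRingCat.of k)) := by
  haveI := geometricallyConnected_of_geometricallyIrreducible (X ↘ Spec (CommRingCat.of k))
  have hΩ := isInvertible_omega k X hdim
  obtain ⟨-, hd⟩ := numerics_omega_of_geometricallyConnected k X hdim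
  refine iso_P1_of_odd_of_two k X hdim hg L hL hodd _ hΩ (Or.inr ?_)
  rw [hd, hg]; norm_num

end A

end Part1

end Groth.Agent.Lib.R2H1.OddP1
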