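import Mathlib
import Groth.Prelude
import Groth.Agent.Lib.R2H1CliffordEq
import Groth.Agent.Lib.R2H1PointTwist
import Groth.Agent.Lib.R2H1SerreNum
import Groth.Agent.Lib.R2H1OmegaDual
import Groth.Agent.Lib.R2H1VBSub
import Groth.Agent.Lib.R2H1VBTwist
import Groth.Agent.Lib.R2H1PicLaw
import Groth.Agent.Lib.R2H3NegTwist
set_option backward.isDefEq.respectTransparency.types false

/-!
helper1 (run 2): the canonical module is n-1-very ample iff there is no pencil of degree n, numerical form (S18805). API: isEffCartier_of_h0 (ideal sheaf on a regular proper curve over alg closed k with h0(O/I) ≠ 1 is effective Cartier), h0_omega_twist (h0(Ω ⊗ I) + h0(O/I) = g - 1 + h0(M) for M inverse to idealMod I), main.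
-/

set_option autoImplicit false
set_option linter.style.haveILetI false
set_option linter.unusedSectionVars false
universe u v

open CategoryTheory CategoryTheory.Limits AlgebraicGeometry TopologicalSpace Opposite

namespace Groth.Agent.Lib.R2H1.OmegaKVA

section Part1

open Groth.Agent.Lib.R2H1.CurveEuler Groth.Agent.Lib.R2H1.CurveDegSec
open Groth.Agent.Lib.R2H1.EulerAdd Groth.Agent.Lib.R2H2.HHLin
open Groth.Agent.Lib.R2H1.DegCartier Groth.Agent.Lib.R2H1.OmegaCurve Groth.Agent.Lib.R2H1.OmegaDual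
open Groth.Agent.Lib.R2H1.VBSub Groth.Agent.Lib.R2H1.PicLaw

variable (k : Type u) [Field k] [IsAlgClosed k] (X : Scheme.{u}) [X.Over (Spec (CommRingCat.of k))]
    [IsIntegral X] [IsProper (X ↘ (Spec (CommRingCat.of k)))]

/-- an ideal sheaf on a regular curve whose quotient has more than one section is effective
Cartier -/
theorem isEffCartier_of_h0 (hdim : topologicalKrullDim X = 1)
    (hreg : ∀ x : X, IsRegularLocalRing (X.presheaf.stalk x))
    (I : X.IdealSheafData) (hI : Module.finrank k (Coh.HH X (ClSub.quotMod I) 0) ≠ 1) :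
    BlowUp.IsEffCartierIdeal I := by
  haveI := isNoetherian_of_proper k X
  have hO := Groth.Agent.Lib.Helper23.TensorUnit.isInvertible_structureModule X
  have hO1 := Groth.Agent.Lib.Helper23.SecTw.isFinLocFreeOfRank_one_of_isInvertible _ hO
  have lO := Groth.Agent.Lib.R2H4DegAdd.isFinLocFree_of_rank hO1
  have cO := isCoh_of_isInvertible _ hO
  have hQ : Coh.IsCoh (ClSub.quotMod I) :=
    Groth.Agent.S0019.result I.subschemeι _
      (Groth.Agent.Lib.R2H1.GenusLe.isCoh_structureModule _)
  have cI : Coh.IsCoh (ClSub.idealMod I) :=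
    Groth.Agent.Lib.R2H2.PdSheaf.isCoh_kernel cO hQ (ClSub.toSubscheme I)
  haveI : Mono (ClSub.idealModι I) := (idealSeq_shortExact I).mono_f
  obtain ⟨r, hr⟩ := exists_rank_of_mono hdim.le hreg _ lO _ cI (ClSub.idealModι I)
  have hle : r ≤ 1 := rank_le_of_mono hr hO1 (ClSub.idealModι I)
  rcases Nat.lt_or_ge r 1 with h | h
  · exfalso
    have h0 : r = 0 := by omega
    subst h0
    have hz : IsZero (ClSub.idealMod I) := Groth.Agent.Lib.R2H2.AmpleElt.isZero_of_rank_zero hr
    have hS := idealSeq_shortExact I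
    haveI : Epi (ClSub.toSubscheme I) := hS.epi_g
    haveI : Mono (ClSub.toSubscheme I) := by
      refine Preadditive.mono_of_kernel_zero ?_
      exact hz.eq_of_src _ _
    haveI : IsIso (ClSub.toSubscheme I) := isIso_of_mono_of_epi _
    apply hI
    rw [← Groth.Agent.Lib.R2H2.ClosedPnLin.finrank_HH_of_iso k (asIso (ClSub.toSubscheme I)) 0]
    exact Groth.Agent.Lib.R2H1.RegPoint.finrank_H0_structure_eq_one k X
  · have h1 : r = 1 := by omega
    subst h1
    exact Groth.Agent.Helper18Cart.isEffCartier_of_isInvertible I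
      (Groth.Agent.Lib.R2H1.VBTwist.isInvertible_of_rank_one hr)

/-- the key numerical identity: `h⁰(Ω ⊗ I) + h⁰(O/I) = g - 1 + h⁰(M)` for `M` inverse to `I` -/
theorem h0_omega_twist (hdim : topologicalKrullDim X = 1)
    (hreg : ∀ x : X, IsRegularLocalRing (X.presheaf.stalk x))
    (I : X.IdealSheafData) (hI : BlowUp.IsEffCartierIdeal I)
    (M : X.Modules) (hM : ClSub.IsInverseOf (ClSub.idealMod I) M) :
    (Module.finrank k (Coh.HH X (CohB1.tensorMod (Om k X) (ClSub.idealMod I)) 0) : ℤ) +
      Module.finrank k (Coh.HH X (ClSub.quotMod I) 0) =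
      (Curv2.genus k X : ℤ) - 1 + Module.finrank k (Coh.HH X M 0) := by
  haveI := isNoetherian_of_proper k X
  obtain ⟨e⟩ := hM
  have hId : PicF.IsInvertible (ClSub.idealMod I) :=
    Groth.Agent.Helper18Cart.isInvertible_of_isEffCartier I hI
  have hΩ := isInvertible_Om k X hdim hreg
  have hΩ1 := Groth.Agent.Lib.Helper23.SecTw.isFinLocFreeOfRank_one_of_isInvertible _ hΩ
  have hMi : PicF.IsInvertible M :=
    Groth.Agent.Lib.R2H3.NegTwist.isInvertible_of_isInverseOf (ClSub.idealMod I) M ⟨e⟩
  have hQ : Coh.IsCoh (ClSub.quotMod I) :=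
    Groth.Agent.S0019.result I.subschemeι _
      (Groth.Agent.Lib.R2H1.GenusLe.isCoh_structureModule _)
  have hsuppQ := dim_support_quotMod_le_zero I hdim.le hI
  have hΩI := Groth.Agent.Lib.Helper23.SecTw.isInvertible_tensorMod hΩ hId
  have cΩI := isCoh_of_isInvertible _ hΩI
  have cΩ := isCoh_of_isInvertible _ hΩ
  have main := euler_tensor_ideal k X I 1 (Om k X) hΩ1 hQ hsuppQ cΩI
  rw [euler_eq_h0 k X (ClSub.quotMod I) hQ hsuppQ,
    euler_eq_h0_sub_h1 k X hdim.le _ cΩ.1, euler_eq_h0_sub_h1 k X hdim.le _ cΩI.1] at main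
  obtain ⟨h0Ω, h1Ω, -⟩ := numerics_Om k X hdim hreg
  rw [h0Ω, h1Ω] at main
  obtain ⟨-, sn⟩ := Groth.Agent.Lib.R2H1.SerreNum.serre_numerics k X hdim hreg M _ hMi hId e
  have e2 := Groth.Agent.Lib.R2H2.ClosedPnLin.finrank_HH_of_iso k
    (commI (ClSub.idealMod I) (Om k X)) 1
  rw [e2] at sn
  rw [sn]
  push_cast at main
  linarith

/-- `Ω` is 3-very ample iff there is no `g¹₄` (numerical form, for any number `n` of points in
place of `4`) -/
theorem main (hdim : topologicalKrullDim X = 1)
    (hreg : ∀ x : X, IsRegularLocalRing (X.presheaf.stalk x)) (n : ℕ) (hn : n ≠ 1) :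
    (∀ (I : X.IdealSheafData), Module.finrank k (Coh.HH X (ClSub.quotMod I) 0) = n →
      Module.finrank k (Coh.HH X (CohB1.tensorMod (Om k X) (ClSub.idealMod I)) 0) + n =
        Module.finrank k (Coh.HH X (Om k X) 0)) ↔
    (∀ (I : X.IdealSheafData), Module.finrank k (Coh.HH X (ClSub.quotMod I) 0) = n →
      ∀ (M : X.Modules), ClSub.IsInverseOf (ClSub.idealMod I) M →
        Module.finrank k (Coh.HH X M 0) = 1) := by
  obtain ⟨h0Ω, -, -⟩ := numerics_Om k X hdim hreg
  constructor
  · intro h I hI4 M hM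
    have hc := isEffCartier_of_h0 k X hdim hreg I (by omega)
    have key := h0_omega_twist k X hdim hreg I hc M hM
    have h1 := h I hI4
    rw [h0Ω] at h1
    rw [hI4] at key
    omega
  · intro h I hI4
    have hc := isEffCartier_of_h0 k X hdim hreg I (by omega)
    have hId : PicF.IsInvertible (ClSub.idealMod I) :=
      Groth.Agent.Helper18Cart.isInvertible_of_isEffCartier I hc
    obtain ⟨M, -, ⟨e⟩⟩ := Groth.Agent.Lib.R2H1.InvExists.exists_inverse _ hId
    have h1 := h I hI4 M ⟨e⟩
    have key := h0_omega_twist k X hdim hreg I hc M ⟨e⟩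
    rw [h0Ω]
    rw [hI4, h1] at key
    omega

end Part1

end Groth.Agent.Lib.R2H1.OmegaKVA
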