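/-
R2H1OpKronecker: operational classes and exterior products over a field (S17675): c cap (u x v) = (c cap u) x v via the coproduct of the closures of the support of v, pushforward of an exterior product to the second factor = degree times v, Kronecker-type graph decomposition formula.
-/
import Mathlib
import Groth.Prelude
import Groth.Agent.Lib.R2H1BivarBirat
import Groth.Agent.Lib.R2H1ExtProd
import Groth.Agent.S1859
import Groth.Agent.Lib.R2H1IsoTransport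
import Groth.Agent.Lib.R2H1CycLimB

set_option autoImplicit false
set_option linter.style.haveILetI false
set_option linter.unusedSectionVars false
universe u v

namespace Groth.Agent.Lib.R2H1.OpKronecker

section Part1

open AlgebraicGeometry CategoryTheory TopologicalSpace Opposite CategoryTheory.Limits
  Groth.Agent.Lib.R2H1.Clopen Groth.Agent.Lib.R2H1.SigmaProper Bivar
  Groth.Agent.Lib.R2H1.ProperPushRat Groth.Agent.Lib.R2H1.BivarBirat

section Pieces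

variable {A : Type u} (V : A → Scheme.{u}) {Y P : Scheme.{u}} (g : ∀ a, V a ⟶ Y) (q : P ⟶ Y)

/-- the inclusion of a piece of the base change of a coproduct. -/
noncomputable def piX (a : A) : pullback q (g a) ⟶ pullback q (Sigma.desc g) :=
  pullback.lift (pullback.fst q (g a)) (pullback.snd q (g a) ≫ Sigma.ι V a)
    (by rw [Category.assoc, Sigma.ι_desc, pullback.condition])

@[reassoc] theorem piX_fst (a : A) :
    piX V g q a ≫ pullback.fst q (Sigma.desc g) = pullback.fst q (g a) :=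
  pullback.lift_fst _ _ _

@[reassoc] theorem piX_snd (a : A) :
    piX V g q a ≫ pullback.snd q (Sigma.desc g) = pullback.snd q (g a) ≫ Sigma.ι V a :=
  pullback.lift_snd _ _ _

theorem isPullback_piX (a : A) :
    IsPullback (pullback.snd q (g a)) (piX V g q a) (Sigma.ι V a)
      (pullback.snd q (Sigma.desc g)) := by
  have hbig : IsPullback (pullback.snd q (g a)) (pullback.fst q (g a)) (g a) q :=
    (IsPullback.of_hasPullback q (g a)).flip
  have hbot : IsPullback (pullback.snd q (Sigma.desc g)) (pullback.fst q (Sigma.desc g))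
      (Sigma.desc g) q := (IsPullback.of_hasPullback q (Sigma.desc g)).flip
  have hbig' : IsPullback (pullback.snd q (g a))
      (piX V g q a ≫ pullback.fst q (Sigma.desc g)) (Sigma.ι V a ≫ Sigma.desc g) q := by
    rw [piX_fst]
    have e : Sigma.ι V a ≫ Sigma.desc g = g a := Sigma.ι_desc g a
    exact IsPullback.of_iso hbig (Iso.refl _) (Iso.refl _) (Iso.refl _) (Iso.refl _)
      (by simp) (by simp) (by simp [e]) (by simp)
  exact IsPullback.of_bot hbig' (piX_snd V g q a).symm hbot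

instance (a : A) : IsOpenImmersion (piX V g q a) :=
  MorphismProperty.of_isPullback (P := @IsOpenImmersion) (isPullback_piX V g q a) inferInstance

theorem range_piX (a : A) : Set.range (piX V g q a) =
    (pullback.snd q (Sigma.desc g)) ⁻¹' Set.range (Sigma.ι V a) :=
  range_snd_of_isPullback (isPullback_piX V g q a)

theorem piX_disj (a b : A) (h : a ≠ b) :
    Disjoint (Set.range (piX V g q a)) (Set.range (piX V g q b)) := by
  rw [range_piX, range_piX]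
  exact (sigma_disj V a b h).preimage _

theorem piX_cov (x : ↥(pullback q (Sigma.desc g))) : ∃ a, x ∈ Set.range (piX V g q a) := by
  obtain ⟨a, ha⟩ := sigma_cov V (pullback.snd q (Sigma.desc g) x)
  exact ⟨a, by rw [range_piX]; exact ha⟩

end Pieces

end Part1

section Part2

open AlgebraicGeometry CategoryTheory TopologicalSpace Opposite CategoryTheory.Limits
  Groth.Agent.Lib.R2H1.Clopen Groth.Agent.Lib.R2H1.SigmaProper Bivar
  Groth.Agent.Lib.R2H1.ProperPushRat Groth.Agent.Lib.R2H1.BivarBirat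
  Groth.Agent.Lib.R2H1.ChowDesc Groth.Agent.Lib.R2H1.C1Chow Groth.Agent.Lib.R2H1.FlatPullRat
  Groth.Agent.Lib.R2H1.Envelope Groth.Agent.Lib.R2H1.RatEquivClosed

section Ops

variable {S S' T T' : Scheme.{u}} {δS : S → ℤ} {δS' : S' → ℤ} {δT : T → ℤ} {δT' : T' → ℤ}

/-- compatibility with flat pullback, for arbitrary representatives. -/
theorem pullOK_rep (hS' : Cyc.IsSetup S' δS') (hT' : Cyc.IsSetup T' δT') (h : T ⟶ S)
    (h' : T' ⟶ S') [Flat h'] [LocallyOfFiniteType h'] (r : ℕ) (hr' : Cyc.HasRelDim h' r)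
    (hδ' : Cyc.DeltaCompat h' δT' δS') {k l k₁ l₁ : ℤ} (e : l₁ = l + r)
    (φ : ChowOps.CH S δS k →+ ChowOps.CH S' δS' l) (ψ : ChowOps.CH T δT k₁ →+ ChowOps.CH T' δT' l₁)
    (hOK : PullOK δS δS' δT δT' h h' (r : ℤ) φ ψ)
    (α : AlgebraicCycle S ℤ) (hα : α ∈ Cyc.Zk S δS k) (β : AlgebraicCycle S' ℤ)
    (hβ : β ∈ Cyc.Zk S' δS' l) (hφ : φ (ChowOps.cl α hα) = ChowOps.cl β hβ)
    (α₁ : AlgebraicCycle T ℤ) (hα₁c : ⇑α₁ = Cyc.pullFun h δT δS r ⇑α)
    (hα₁ : α₁ ∈ Cyc.Zk T δT k₁) (β₁ : AlgebraicCycle T' ℤ)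
    (hβ₁c : ⇑β₁ = Cyc.pullFun h' δT' δS' r ⇑β) (hβ₁ : β₁ ∈ Cyc.Zk T' δT' l₁) :
    ψ (ChowOps.cl α₁ hα₁) = ChowOps.cl β₁ hβ₁ := by
  obtain ⟨β', hβ', e1, e2⟩ := hOK α hα
  obtain ⟨β₁', hβ₁', c1, c2⟩ := e2 α₁ hα₁c hα₁
  rw [c2]
  subst e
  apply cl_eq_of_ratEquiv
  have hrat : Cyc.RatEquiv δS' l β' β := ratEquiv_of_cl_eq hβ' hβ (by rw [← e1, hφ])
  exact main1856 T' S' δT' δS' hT' hS' h' r hr' hδ' l β' β hrat β₁' β₁ c1 hβ₁c

/-- compatibility with proper pushforward, for arbitrary representatives. -/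
theorem pushOK_rep (hT' : Cyc.IsSetup T' δT') (hS' : Cyc.IsSetup S' δS') (h : T ⟶ S)
    [QuasiCompact h] (h' : T' ⟶ S') [IsProper h'] (hδ' : Cyc.DeltaCompat h' δT' δS') {k l : ℤ}
    (φ : ChowOps.CH T δT k →+ ChowOps.CH T' δT' l) (ψ : ChowOps.CH S δS k →+ ChowOps.CH S' δS' l)
    (hOK : PushOK δT δT' δS δS' h h' φ ψ) (θ : AlgebraicCycle T ℤ) (hθ : θ ∈ Cyc.Zk T δT k)
    (θ' : AlgebraicCycle T' ℤ) (hθ' : θ' ∈ Cyc.Zk T' δT' l)
    (hφ : φ (ChowOps.cl θ hθ) = ChowOps.cl θ' hθ') :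
    ψ (ChowOps.cl (AlgebraicCycle.map h δT δS θ) (cycMap_mem_Zk h δT δS k hθ)) =
      ChowOps.cl (AlgebraicCycle.map h' δT' δS' θ') (cycMap_mem_Zk h' δT' δS' l hθ') := by
  obtain ⟨β, hβ, e1, e2⟩ := hOK θ hθ
  rw [e2]
  exact push_cl_eq hT' hS' h' hδ' l β θ' hβ hθ' (by rw [← e1, hφ])

end Ops

section Piece

variable {U T S : Scheme.{u}}

theorem mapCoeff_comp_openImmersion (ι : U ⟶ T) [IsOpenImmersion ι] (h : T ⟶ S) (δU : U → ℤ)
    (δT : T → ℤ) (δS : S → ℤ) (hδ : ∀ w', δU w' = δT (ι w')) (w' : U) :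
    AlgebraicCycle.mapCoeff (ι ≫ h) δU δS w' = AlgebraicCycle.mapCoeff h δT δS (ι w') := by
  unfold AlgebraicCycle.mapCoeff
  have e1 : (ι ≫ h) w' = h (ι w') := rfl
  rw [hδ w', e1, residueDegree_comp,
    residueDegree_eq_one_of_surjective ι w' (residueFieldMap_surjective ι w'), mul_one]

/-- if all points of the support of a cycle over a point lie in an open piece, the pushforward
at that point may be computed on the piece. -/
theorem map_eq_map_piece (ι : U ⟶ T) [IsOpenImmersion ι] (h : T ⟶ S) [QuasiCompact h]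
    [QuasiCompact (ι ≫ h)] (δU : U → ℤ) (δT : T → ℤ) (δS : S → ℤ)
    (hδ : ∀ w', δU w' = δT (ι w')) (θ : AlgebraicCycle T ℤ) (x : S)
    (hsupp : ∀ w, h w = x → θ w ≠ 0 → w ∈ Set.range ι) :
    AlgebraicCycle.map h δT δS θ x = AlgebraicCycle.map (ι ≫ h) δU δS (resCyc ι θ) x := by
  rw [map_apply, map_apply]
  have hinj : Function.Injective ι := ι.isOpenEmbedding.injective
  have h1 : ∑ᶠ w ∈ h ⁻¹' {x}, θ w * (AlgebraicCycle.mapCoeff h δT δS w : ℤ) =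
      ∑ᶠ w ∈ ι '' ((ι ≫ h) ⁻¹' {x}), θ w * (AlgebraicCycle.mapCoeff h δT δS w : ℤ) := by
    apply finsum_mem_inter_support_eq'
    intro w hw
    have hθw : θ w ≠ 0 := fun h0 => hw (by simp only [h0, zero_mul])
    constructor
    · intro hmem
      obtain ⟨w', rfl⟩ := hsupp w hmem hθw
      exact ⟨w', hmem, rfl⟩
    · rintro ⟨w', hw', rfl⟩
      exact hw'
  rw [h1, finsum_mem_image hinj.injOn]
  refine finsum_mem_congr rfl fun w' _ => ?_
  rw [mapCoeff_comp_openImmersion ι h δU δT δS hδ w']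
  rfl

/-- if no point of the support of a cycle lies over a point, the pushforward vanishes there. -/
theorem map_eq_zero_of_support (h : T ⟶ S) [QuasiCompact h] (δT : T → ℤ) (δS : S → ℤ)
    (θ : AlgebraicCycle T ℤ) (x : S) (hsupp : ∀ w, h w = x → θ w = 0) :
    AlgebraicCycle.map h δT δS θ x = 0 := by
  rw [map_apply]
  apply finsum_mem_eq_zero_of_forall_eq_zero
  intro w hw
  rw [hsupp w hw, zero_mul]

end Piece

end Part2

section Part3

open AlgebraicGeometry CategoryTheory TopologicalSpace Opposite CategoryTheory.Limits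
  Groth.Agent.Lib.R2H1.Clopen Groth.Agent.Lib.R2H1.SigmaProper Bivar
  Groth.Agent.Lib.R2H1.ProperPushRat Groth.Agent.Lib.R2H1.BivarBirat
  Groth.Agent.Lib.R2H1.ChowDesc Groth.Agent.Lib.R2H1.C1Chow Groth.Agent.Lib.R2H1.FlatPullRat
  Groth.Agent.Lib.R2H1.Envelope Groth.Agent.Lib.R2H1.RatEquivClosed
  Groth.Agent.Lib.R2H1.ExtProd Groth.Agent.Lib.R2H1.BivarC1 Groth.Agent.Lib.R2H1.MVClosed

variable {K : Type u} [Field K] {X Y P : Scheme.{u}}

section Data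

variable (v : AlgebraicCycle Y ℤ)

/-- the support of a cycle, as an index type. -/
abbrev Idx : Type u := {η : Y // v η ≠ 0}

/-- the closures of the points of the support. -/
noncomputable abbrev Vc (a : Idx v) : Scheme.{u} := ptScheme Y a.1

/-- their inclusions. -/
noncomputable abbrev gV (a : Idx v) : Vc v a ⟶ Y := ptι Y a.1

theorem hlf (y : Y) : ∃ U : Set Y, IsOpen U ∧ y ∈ U ∧
    {a : Idx v | (Set.range (gV v a) ∩ U).Nonempty}.Finite := by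
  obtain ⟨U0, hU0, hfin⟩ := v.supportLocallyFiniteWithinDomain' y (Set.mem_univ _)
  refine ⟨interior U0, isOpen_interior, mem_interior_iff_mem_nhds.2 hU0, ?_⟩
  refine (hfin.preimage (f := (Subtype.val : Idx v → Y)) Subtype.val_injective.injOn).subset ?_
  rintro a ⟨x, hx1, hx2⟩
  have hx1' : x ∈ closure {a.1} := by rw [← range_ptι]; exact hx1
  have hsp : a.1 ⤳ x := specializes_iff_mem_closure.mpr hx1'
  have : a.1 ∈ interior U0 := hsp.mem_open isOpen_interior hx2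
  exact ⟨interior_subset this, a.2⟩

/-- the map from the coproduct of the closures. -/
noncomputable abbrev GW : (∐ Vc v) ⟶ Y := Sigma.desc (gV v)

theorem isProper_GW [IsLocallyNoetherian Y] : IsProper (GW v) :=
  isProper_sigmaDesc (Vc v) (gV v) (hlf v)

end Data

variable (pX : X ⟶ Spec (CommRingCat.of K)) (pY : Y ⟶ Spec (CommRingCat.of K))
  [LocallyOfFiniteType pX] [LocallyOfFiniteType pY]
  (q₁ : P ⟶ X) (q₂ : P ⟶ Y) (hP : IsPullback q₁ q₂ pX pY)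
  (δX : X → ℤ) (δY : Y → ℤ) (δP : P → ℤ)
  (v : AlgebraicCycle Y ℤ)

include hP in
theorem lft_q₁ : LocallyOfFiniteType q₁ :=
  MorphismProperty.of_isPullback (P := @LocallyOfFiniteType) hP.flip inferInstance

include hP in
theorem isProper_q₂ [IsProper pX] : IsProper q₂ :=
  MorphismProperty.of_isPullback (P := @IsProper) hP inferInstance

/-- the projection from the base change of the coproduct. -/
noncomputable abbrev iP : pullback q₂ (GW v) ⟶ P := pullback.fst q₂ (GW v)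

theorem isProper_iP [IsLocallyNoetherian Y] : IsProper (iP q₂ v) := by
  haveI := isProper_GW v
  exact MorphismProperty.pullback_fst (P := @IsProper) _ _ inferInstance

/-- the inclusion of a piece. -/
noncomputable abbrev ιX (a : Idx v) : pullback q₂ (ptι Y a.1) ⟶ pullback q₂ (GW v) :=
  piX (Vc v) (gV v) q₂ a

theorem ιX_iP (a : Idx v) : ιX q₂ v a ≫ iP q₂ v = pullback.fst q₂ (ptι Y a.1) :=
  piX_fst (Vc v) (gV v) q₂ a

/-- the dimension function on the base change of the coproduct. -/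
noncomputable def δXW [IsLocallyNoetherian Y] : ↥(pullback q₂ (GW v)) → ℤ :=
  haveI := isProper_iP q₂ v
  indDelta (iP q₂ v) δP

theorem compat_iP [IsLocallyNoetherian Y] : Cyc.DeltaCompat (iP q₂ v) (δXW q₂ δP v) δP := by
  haveI := isProper_iP q₂ v
  exact deltaCompat_indDelta _ _

/-- the dimension function on a piece. -/
noncomputable abbrev δXa (a : Idx v) : ↥(pullback q₂ (ptι Y a.1)) → ℤ :=
  fun z' => δP (pullback.fst q₂ (ptι Y a.1) z')

theorem compat_ιX [IsLocallyNoetherian Y] (a : Idx v) :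
    Cyc.DeltaCompat (ιX q₂ v a) (δXa q₂ δP v a) (δXW q₂ δP v) := by
  apply deltaCompat_cancel (ιX q₂ v a) (iP q₂ v) _ (compat_iP q₂ δP v)
  rw [ιX_iP]
  exact deltaCompat_closedImmersion _ δP

theorem δXW_ιX [IsLocallyNoetherian Y] (a : Idx v) (z' : ↥(pullback q₂ (ptι Y a.1))) :
    δXa q₂ δP v a z' = δXW q₂ δP v (ιX q₂ v a z') :=
  delta_openImmersion (ιX q₂ v a) _ _ (compat_ιX q₂ δP v a) z'

theorem isSetup_XW [IsLocallyNoetherian Y] (hPδ : Cyc.IsSetup P δP) :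
    Cyc.IsSetup (pullback q₂ (GW v)) (δXW q₂ δP v) := by
  haveI := isProper_iP q₂ v
  exact isSetup_of_lft (iP q₂ v) δP hPδ _ (compat_iP q₂ δP v)

theorem isSetup_Xa (hPδ : Cyc.IsSetup P δP) (a : Idx v) :
    Cyc.IsSetup (pullback q₂ (ptι Y a.1)) (δXa q₂ δP v a) :=
  isSetup_of_lft (pullback.fst q₂ (ptι Y a.1)) δP hPδ _ (deltaCompat_closedImmersion _ δP)

end Part3

section Part4

open AlgebraicGeometry CategoryTheory TopologicalSpace Opposite CategoryTheory.Limits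
  Groth.Agent.Lib.R2H1.Clopen Groth.Agent.Lib.R2H1.SigmaProper Bivar
  Groth.Agent.Lib.R2H1.ProperPushRat Groth.Agent.Lib.R2H1.BivarBirat
  Groth.Agent.Lib.R2H1.ChowDesc Groth.Agent.Lib.R2H1.C1Chow Groth.Agent.Lib.R2H1.FlatPullRat
  Groth.Agent.Lib.R2H1.Envelope Groth.Agent.Lib.R2H1.RatEquivClosed
  Groth.Agent.Lib.R2H1.ExtProd Groth.Agent.Lib.R2H1.BivarC1 Groth.Agent.Lib.R2H1.MVClosed
  Groth.Agent.Lib.R2H1.BivarFlat

section General

variable {T S : Scheme.{u}}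

theorem map_congr_hom {j j' : T ⟶ S} (e : j = j') [QuasiCompact j] [QuasiCompact j']
    (wx : T → ℤ) (wy : S → ℤ) (c : AlgebraicCycle T ℤ) :
    AlgebraicCycle.map j wx wy c = AlgebraicCycle.map j' wx wy c := by
  subst e; rfl

theorem pullFun_const_mul (h : T ⟶ S) (δT : T → ℤ) (δS : S → ℤ) (r : ℤ) (n : ℤ) (α : S → ℤ) :
    Cyc.pullFun h δT δS r (fun x => n * α x) = fun z => n * Cyc.pullFun h δT δS r α z := by
  funext z
  simp only [Cyc.pullFun]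
  split_ifs <;> ring

end General

variable {K : Type u} [Field K] {X Y P : Scheme.{u}}

variable (pX : X ⟶ Spec (CommRingCat.of K)) (pY : Y ⟶ Spec (CommRingCat.of K))
  [LocallyOfFiniteType pX] [LocallyOfFiniteType pY]
  (q₁ : P ⟶ X) (q₂ : P ⟶ Y) (hP : IsPullback q₁ q₂ pX pY)
  (δX : X → ℤ) (δY : Y → ℤ) (δP : P → ℤ)
  (hPδ : Cyc.IsSetup P δP) (hYs : Cyc.IsSetup Y δY)
  (hδY : Cyc.DeltaCompat pY δY (fun _ => 0)) (hδP : Cyc.DeltaCompat q₁ δP δX)
  (v : AlgebraicCycle Y ℤ)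

/-- the relative dimension of a piece. -/
noncomputable def rr (a : Idx v) : ℕ := Classical.choose (hδY a.1)

theorem rr_spec (a : Idx v) : ((rr pY δY hδY v a : ℕ) : ℤ) = δY a.1 := by
  have h := (Classical.choose_spec (hδY a.1)).2
  simp only [] at h
  unfold rr
  omega

theorem rr_eq {b : ℤ} (hv : v ∈ Cyc.Zk Y δY b) (a : Idx v) :
    ((rr pY δY hδY v a : ℕ) : ℤ) = b := by
  rw [rr_spec]
  by_contra hne
  exact a.2 (hv a.1 hne)

/-- the projection of a piece to the first factor. -/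
noncomputable abbrev pa (a : Idx v) : pullback q₂ (ptι Y a.1) ⟶ X :=
  pullback.fst q₂ (ptι Y a.1) ≫ q₁

include hP in
theorem relDim_pa (a : Idx v) : Cyc.HasRelDim (pa q₁ q₂ v a) (rr pY δY hδY v a) :=
  relDim_pV pX pY q₁ q₂ hP δY hδY a.1 _ (rr_spec pY δY hδY v a)

include hδP in
theorem compat_pa (a : Idx v) : Cyc.DeltaCompat (pa q₁ q₂ v a) (δXa q₂ δP v a) δX :=
  compat_pV q₁ q₂ δX δP hδP a.1

include hP hPδ hδP in
theorem exists_pcyc (u' : AlgebraicCycle X ℤ) (a : Idx v) :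
    ∃ β : AlgebraicCycle (pullback q₂ (ptι Y a.1)) ℤ,
      ⇑β = Cyc.pullFun (pa q₁ q₂ v a) (δXa q₂ δP v a) δX (rr pY δY hδY v a : ℤ) ⇑u' := by
  haveI := lft_pV pX pY q₁ q₂ hP a.1
  exact Groth.Agent.Lib.R2H1.CycLimC.exists_pullCycle (isSetup_Xa q₂ δP v hPδ a) (pa q₁ q₂ v a)
    (rr pY δY hδY v a : ℤ)
    (shift_of _ δX (pa q₁ q₂ v a) _ (relDim_pa pX pY q₁ q₂ hP δY hδY v a)
      (compat_pa q₁ q₂ δX δP hδP v a)) u'

/-- the flat pullback of a cycle to a piece. -/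
noncomputable def pcyc (u' : AlgebraicCycle X ℤ) (a : Idx v) :
    AlgebraicCycle (pullback q₂ (ptι Y a.1)) ℤ :=
  Classical.choose (exists_pcyc pX pY q₁ q₂ hP δX δY δP hPδ hδY hδP v u' a)

theorem pcyc_coe (u' : AlgebraicCycle X ℤ) (a : Idx v) :
    ⇑(pcyc pX pY q₁ q₂ hP δX δY δP hPδ hδY hδP v u' a) =
      Cyc.pullFun (pa q₁ q₂ v a) (δXa q₂ δP v a) δX (rr pY δY hδY v a : ℤ) ⇑u' :=
  Classical.choose_spec (exists_pcyc pX pY q₁ q₂ hP δX δY δP hPδ hδY hδP v u' a)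

theorem pcyc_mem (u' : AlgebraicCycle X ℤ) {a' : ℤ} (hu' : u' ∈ Cyc.Zk X δX a') (a : Idx v) :
    pcyc pX pY q₁ q₂ hP δX δY δP hPδ hδY hδP v u' a ∈
      Cyc.Zk (pullback q₂ (ptι Y a.1)) (δXa q₂ δP v a) (a' + (rr pY δY hδY v a : ℤ)) :=
  pullFun_mem_Zk _ _ δX _ a' hu' _ (pcyc_coe pX pY q₁ q₂ hP δX δY δP hPδ hδY hδP v u' a)

include hYs in
open Classical in
/-- the pushforward of the pullback to a piece is the exterior product with the point. -/
theorem map_pcyc (n : ℤ) (u' : AlgebraicCycle X ℤ) (a : Idx v)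
    (θa : AlgebraicCycle (pullback q₂ (ptι Y a.1)) ℤ)
    (hθa : ∀ z', θa z' = n * pcyc pX pY q₁ q₂ hP δX δY δP hPδ hδY hδP v u' a z') (x : P) :
    AlgebraicCycle.map (pullback.fst q₂ (ptι Y a.1)) (δXa q₂ δP v a) δP θa x =
      extP q₁ q₂ δX δY δP (fun x => n * u' x) (fun y => if y = a.1 then 1 else 0) x := by
  refine extP_single pX pY q₁ q₂ hP δX δY δP hPδ hYs.2.2 hδY hδP a.1 (rr pY δY hδY v a)
    (rr_spec pY δY hδY v a) (fun x => n * u' x) θa ?_ x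
  rw [pullFun_const_mul]
  funext z'
  rw [hθa, pcyc_coe]

include hYs in
/-- the pullback to a piece is supported over the generic point of the piece. -/
theorem pcyc_support (u' : AlgebraicCycle X ℤ) (a : Idx v) (z' : ↥(pullback q₂ (ptι Y a.1)))
    (hz' : pcyc pX pY q₁ q₂ hP δX δY δP hPδ hδY hδP v u' a z' ≠ 0) :
    q₂ (pullback.fst q₂ (ptι Y a.1) z') = a.1 := by
  classical
  by_contra hne
  apply hz'
  have h1 := map_pcyc pX pY q₁ q₂ hP δX δY δP hPδ hYs hδY hδP v 1 u' a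
    (pcyc pX pY q₁ q₂ hP δX δY δP hPδ hδY hδP v u' a) (fun z' => by rw [one_mul])
    (pullback.fst q₂ (ptι Y a.1) z')
  rw [map_apply_of_injective (pullback.fst q₂ (ptι Y a.1))
    (pullback.fst q₂ (ptι Y a.1)).isClosedEmbedding.injective δP] at h1
  rw [h1]
  unfold extP
  simp only []
  rw [if_neg hne, mul_zero, zero_mul, ite_self]

end Part4

section Part5

open AlgebraicGeometry CategoryTheory TopologicalSpace Opposite CategoryTheory.Limits
  Groth.Agent.Lib.R2H1.Clopen Groth.Agent.Lib.R2H1.SigmaProper Bivar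
  Groth.Agent.Lib.R2H1.ProperPushRat Groth.Agent.Lib.R2H1.BivarBirat
  Groth.Agent.Lib.R2H1.ChowDesc Groth.Agent.Lib.R2H1.C1Chow Groth.Agent.Lib.R2H1.FlatPullRat
  Groth.Agent.Lib.R2H1.Envelope Groth.Agent.Lib.R2H1.RatEquivClosed
  Groth.Agent.Lib.R2H1.ExtProd Groth.Agent.Lib.R2H1.BivarC1 Groth.Agent.Lib.R2H1.MVClosed
  Groth.Agent.Lib.R2H1.BivarFlat

variable {K : Type u} [Field K] {X Y P : Scheme.{u}}

variable (pX : X ⟶ Spec (CommRingCat.of K)) (pY : Y ⟶ Spec (CommRingCat.of K))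
  [LocallyOfFiniteType pX] [LocallyOfFiniteType pY]
  (q₁ : P ⟶ X) (q₂ : P ⟶ Y) (hP : IsPullback q₁ q₂ pX pY)
  (δX : X → ℤ) (δY : Y → ℤ) (δP : P → ℤ)
  (hPδ : Cyc.IsSetup P δP) (hYs : Cyc.IsSetup Y δY)
  (hδY : Cyc.DeltaCompat pY δY (fun _ => 0)) (hδP : Cyc.DeltaCompat q₁ δP δX)
  (v : AlgebraicCycle Y ℤ) [IsLocallyNoetherian Y]

instance instProperIP : IsProper (iP q₂ v) := isProper_iP q₂ v

/-- the glued cycle on the base change of the coproduct. -/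
theorem exists_θ (u' : AlgebraicCycle X ℤ) :
    ∃ θ : AlgebraicCycle (pullback q₂ (GW v)) ℤ, ∀ (a : Idx v) z',
      θ (ιX q₂ v a z') = v a.1 * pcyc pX pY q₁ q₂ hP δX δY δP hPδ hδY hδP v u' a z' := by
  obtain ⟨θ, hθ⟩ := exists_glueCyc (fun a => ιX q₂ v a) (piX_disj (Vc v) (gV v) q₂)
    (piX_cov (Vc v) (gV v) q₂)
    (fun a => v a.1 • pcyc pX pY q₁ q₂ hP δX δY δP hPδ hδY hδP v u' a)
  refine ⟨θ, fun a z' => ?_⟩
  rw [hθ, Function.locallyFinsuppWithin.coe_zsmul, Pi.smul_apply, smul_eq_mul]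

/-- the glued cycle, chosen. -/
noncomputable def θc (u' : AlgebraicCycle X ℤ) : AlgebraicCycle (pullback q₂ (GW v)) ℤ :=
  Classical.choose (exists_θ pX pY q₁ q₂ hP δX δY δP hPδ hδY hδP v u')

theorem θc_apply (u' : AlgebraicCycle X ℤ) (a : Idx v) (z' : ↥(pullback q₂ (ptι Y a.1))) :
    θc pX pY q₁ q₂ hP δX δY δP hPδ hδY hδP v u' (ιX q₂ v a z') =
      v a.1 * pcyc pX pY q₁ q₂ hP δX δY δP hPδ hδY hδP v u' a z' :=
  Classical.choose_spec (exists_θ pX pY q₁ q₂ hP δX δY δP hPδ hδY hδP v u') a z'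

theorem θc_mem (u' : AlgebraicCycle X ℤ) {a' b : ℤ} (hu' : u' ∈ Cyc.Zk X δX a')
    (hv : v ∈ Cyc.Zk Y δY b) :
    θc pX pY q₁ q₂ hP δX δY δP hPδ hδY hδP v u' ∈
      Cyc.Zk (pullback q₂ (GW v)) (δXW q₂ δP v) (a' + b) := by
  intro w hw
  obtain ⟨a, z', rfl⟩ := piX_cov (Vc v) (gV v) q₂ w
  have h1 := θc_apply pX pY q₁ q₂ hP δX δY δP hPδ hδY hδP v u' a z'
  have h2 : pcyc pX pY q₁ q₂ hP δX δY δP hPδ hδY hδP v u' a z' = 0 := by
    apply pcyc_mem pX pY q₁ q₂ hP δX δY δP hPδ hδY hδP v u' hu' a z'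
    rw [rr_eq pY δY hδY v hv a, δXW_ιX q₂ δP v a z']
    exact hw
  rw [h2, mul_zero] at h1
  exact h1

theorem resCyc_θc (u' : AlgebraicCycle X ℤ) (a : Idx v) (z' : ↥(pullback q₂ (ptι Y a.1))) :
    resCyc (ιX q₂ v a) (θc pX pY q₁ q₂ hP δX δY δP hPδ hδY hδP v u') z' =
      v a.1 * pcyc pX pY q₁ q₂ hP δX δY δP hPδ hδY hδP v u' a z' :=
  θc_apply pX pY q₁ q₂ hP δX δY δP hPδ hδY hδP v u' a z'

include hYs in
/-- the pushforward of the glued cycle is the exterior product. -/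
theorem map_θc (u' : AlgebraicCycle X ℤ) (x : P) :
    AlgebraicCycle.map (iP q₂ v) (δXW q₂ δP v) δP
        (θc pX pY q₁ q₂ hP δX δY δP hPδ hδY hδP v u') x =
      extP q₁ q₂ δX δY δP ⇑u' ⇑v x := by
  classical
  have hiP : ∀ (b : Idx v) (z' : ↥(pullback q₂ (ptι Y b.1))),
      iP q₂ v (ιX q₂ v b z') = pullback.fst q₂ (ptι Y b.1) z' := by
    intro b z'
    change (ιX q₂ v b ≫ iP q₂ v) z' = _
    rw [ιX_iP]
  by_cases hy : v (q₂ x) = 0
  · rw [map_eq_zero_of_support]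
    · unfold extP
      simp only []
      rw [hy, mul_zero, zero_mul, ite_self]
    · intro w hw
      obtain ⟨b, z', rfl⟩ := piX_cov (Vc v) (gV v) q₂ w
      rw [θc_apply]
      by_contra hne
      have hp : pcyc pX pY q₁ q₂ hP δX δY δP hPδ hδY hδP v u' b z' ≠ 0 :=
        fun h0 => hne (by rw [h0, mul_zero])
      have := pcyc_support pX pY q₁ q₂ hP δX δY δP hPδ hYs hδY hδP v u' b z' hp
      rw [← hiP b z', hw] at this
      exact b.2 (this ▸ hy)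
  · let a : Idx v := ⟨q₂ x, hy⟩
    haveI : QuasiCompact (ιX q₂ v a ≫ iP q₂ v) := by rw [ιX_iP]; infer_instance
    rw [map_eq_map_piece (ιX q₂ v a) (iP q₂ v) (δXa q₂ δP v a) (δXW q₂ δP v) δP
      (δXW_ιX q₂ δP v a)]
    · rw [map_congr_hom (ιX_iP q₂ v a), map_pcyc pX pY q₁ q₂ hP δX δY δP hPδ hYs hδY hδP v
        (v a.1) u' a _ (resCyc_θc pX pY q₁ q₂ hP δX δY δP hPδ hδY hδP v u' a) x]
      unfold extP
      simp only []
      rw [if_pos rfl, mul_one]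
      split_ifs
      · ring
      · rfl
    · intro w hw hne
      obtain ⟨b, z', rfl⟩ := piX_cov (Vc v) (gV v) q₂ w
      rw [θc_apply] at hne
      have hp : pcyc pX pY q₁ q₂ hP δX δY δP hPδ hδY hδP v u' b z' ≠ 0 :=
        fun h0 => hne (by rw [h0, mul_zero])
      have := pcyc_support pX pY q₁ q₂ hP δX δY δP hPδ hYs hδY hδP v u' b z' hp
      rw [← hiP b z', hw] at this
      have hb : b = a := Subtype.ext this.symm
      subst hb
      exact ⟨z', rfl⟩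

end Part5

section Part6

open AlgebraicGeometry CategoryTheory TopologicalSpace Opposite CategoryTheory.Limits
  Groth.Agent.Lib.R2H1.Clopen Groth.Agent.Lib.R2H1.SigmaProper Bivar
  Groth.Agent.Lib.R2H1.ProperPushRat Groth.Agent.Lib.R2H1.BivarBirat
  Groth.Agent.Lib.R2H1.ChowDesc Groth.Agent.Lib.R2H1.C1Chow Groth.Agent.Lib.R2H1.FlatPullRat
  Groth.Agent.Lib.R2H1.Envelope Groth.Agent.Lib.R2H1.RatEquivClosed
  Groth.Agent.Lib.R2H1.ExtProd Groth.Agent.Lib.R2H1.BivarC1 Groth.Agent.Lib.R2H1.MVClosed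
  Groth.Agent.Lib.R2H1.BivarFlat

section General

variable {T T' : Scheme.{u}} {δT : T → ℤ} {δT' : T' → ℤ}

theorem op_cl_zsmul_eq {k l : ℤ} (op : ChowOps.CH T δT k →+ ChowOps.CH T' δT' l) (n : ℤ)
    (e : AlgebraicCycle T ℤ) (he : e ∈ Cyc.Zk T δT k) (e' : AlgebraicCycle T' ℤ)
    (he' : e' ∈ Cyc.Zk T' δT' l) (h : op (ChowOps.cl e he) = ChowOps.cl e' he')
    (β : AlgebraicCycle T ℤ) (hβ : β ∈ Cyc.Zk T δT k) (hres : β = n • e)
    (β' : AlgebraicCycle T' ℤ) (hβ' : β' ∈ Cyc.Zk T' δT' l) (hres' : β' = n • e') :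
    op (ChowOps.cl β hβ) = ChowOps.cl β' hβ' := by
  subst hres hres'
  rw [cl_zsmul n e he hβ, map_zsmul, h, ← cl_zsmul n e' he' hβ']

end General

variable {K : Type u} [Field K] {X Y P : Scheme.{u}}

variable (pX : X ⟶ Spec (CommRingCat.of K)) (pY : Y ⟶ Spec (CommRingCat.of K))
  [LocallyOfFiniteType pX] [LocallyOfFiniteType pY]
  (q₁ : P ⟶ X) (q₂ : P ⟶ Y) (hP : IsPullback q₁ q₂ pX pY)
  (δX : X → ℤ) (δY : Y → ℤ) (δP : P → ℤ)
  (hXs : Cyc.IsSetup X δX) (hPδ : Cyc.IsSetup P δP) (hYs : Cyc.IsSetup Y δY)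
  (hδY : Cyc.DeltaCompat pY δY (fun _ => 0)) (hδP : Cyc.DeltaCompat q₁ δP δX)
  (v : AlgebraicCycle Y ℤ) [IsLocallyNoetherian Y]

/-- the product, as a test scheme over `X`. -/
@[reducible] noncomputable def sP : OSq X δX :=
  ⟨P, q₁, lft_q₁ pX pY q₁ q₂ hP, δP, hδP⟩

/-- the base change of the coproduct, as a test scheme over `X`. -/
@[reducible] noncomputable def sXW : OSq X δX :=
  ⟨pullback q₂ (GW v), iP q₂ v ≫ q₁,
    by haveI := lft_q₁ pX pY q₁ q₂ hP; infer_instance, δXW q₂ δP v,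
    deltaCompat_comp _ _ _ _ _ (compat_iP q₂ δP v) hδP⟩

/-- a piece, as a test scheme over `X`. -/
@[reducible] noncomputable def sa (a : Idx v) : OSq X δX :=
  ⟨pullback q₂ (ptι Y a.1), pa q₁ q₂ v a, lft_pV pX pY q₁ q₂ hP a.1, δXa q₂ δP v a,
    compat_pa q₁ q₂ δX δP hδP v a⟩

variable {p : ℤ} (c : OpCl p X δX)

include hXs in
/-- the class on a piece. -/
theorem op_piece {a' b : ℤ} (hv : v ∈ Cyc.Zk Y δY b) (u' β' : AlgebraicCycle X ℤ)
    (hu' : u' ∈ Cyc.Zk X δX a') (hβ' : β' ∈ Cyc.Zk X δX (a' - p))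
    (hcβ : c.cap a' (ChowOps.cl u' hu') = ChowOps.cl β' hβ') (m : ℤ) (hm : m = a' + b)
    (a : Idx v)
    (h1 : pcyc pX pY q₁ q₂ hP δX δY δP hPδ hδY hδP v u' a ∈
      Cyc.Zk (pullback q₂ (ptι Y a.1)) (δXa q₂ δP v a) m)
    (h2 : pcyc pX pY q₁ q₂ hP δX δY δP hPδ hδY hδP v β' a ∈
      Cyc.Zk (pullback q₂ (ptι Y a.1)) (δXa q₂ δP v a) (m - p)) :
    c.op (sa pX pY q₁ q₂ hP δX δP hδP v a) m (ChowOps.cl _ h1) = ChowOps.cl _ h2 := by
  haveI : Flat (pa q₁ q₂ v a) := flat_pV pX pY q₁ q₂ hP a.1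
  haveI : LocallyOfFiniteType (pa q₁ q₂ v a) := lft_pV pX pY q₁ q₂ hP a.1
  have hr := rr_eq pY δY hδY v hv a
  have hOK := c.pull (OSq.self X δX) (sa pX pY q₁ q₂ hP δX δP hδP v a) (pa q₁ q₂ v a)
    (rr pY δY hδY v a) (relDim_pa pX pY q₁ q₂ hP δY hδY v a) (Category.comp_id _) a'
  have hidx : a' + ((rr pY δY hδY v a : ℕ) : ℤ) = m := by rw [hr, hm]
  rw [hidx] at hOK
  exact pullOK_rep hXs (isSetup_Xa q₂ δP v hPδ a) (pa q₁ q₂ v a) (pa q₁ q₂ v a)
    (rr pY δY hδY v a) (relDim_pa pX pY q₁ q₂ hP δY hδY v a)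
    (compat_pa q₁ q₂ δX δP hδP v a) (by rw [hr, hm]; ring) (c.op (OSq.self X δX) a')
    (c.op (sa pX pY q₁ q₂ hP δX δP hδP v a) m) hOK u' hu' β' hβ' hcβ _
    (pcyc_coe pX pY q₁ q₂ hP δX δY δP hPδ hδY hδP v u' a) h1 _
    (pcyc_coe pX pY q₁ q₂ hP δX δY δP hPδ hδY hδP v β' a) h2

end Part6

section Part7

open AlgebraicGeometry CategoryTheory TopologicalSpace Opposite CategoryTheory.Limits
  Groth.Agent.Lib.R2H1.Clopen Groth.Agent.Lib.R2H1.SigmaProper Bivar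
  Groth.Agent.Lib.R2H1.ProperPushRat Groth.Agent.Lib.R2H1.BivarBirat
  Groth.Agent.Lib.R2H1.ChowDesc Groth.Agent.Lib.R2H1.C1Chow Groth.Agent.Lib.R2H1.FlatPullRat
  Groth.Agent.Lib.R2H1.Envelope Groth.Agent.Lib.R2H1.RatEquivClosed
  Groth.Agent.Lib.R2H1.ExtProd Groth.Agent.Lib.R2H1.BivarC1 Groth.Agent.Lib.R2H1.MVClosed
  Groth.Agent.Lib.R2H1.BivarFlat

variable {K : Type u} [Field K] {X Y P : Scheme.{u}}

variable (pX : X ⟶ Spec (CommRingCat.of K)) (pY : Y ⟶ Spec (CommRingCat.of K))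
  [LocallyOfFiniteType pX] [LocallyOfFiniteType pY]
  (q₁ : P ⟶ X) (q₂ : P ⟶ Y) (hP : IsPullback q₁ q₂ pX pY)
  (δX : X → ℤ) (δY : Y → ℤ) (δP : P → ℤ)
  (hXs : Cyc.IsSetup X δX) (hPδ : Cyc.IsSetup P δP) (hYs : Cyc.IsSetup Y δY)
  (hδY : Cyc.DeltaCompat pY δY (fun _ => 0)) (hδP : Cyc.DeltaCompat q₁ δP δX)
  (v : AlgebraicCycle Y ℤ) [IsLocallyNoetherian Y]
  {p : ℤ} (c : OpCl p X δX)

include hXs in
/-- the class on the base change of the coproduct. -/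
theorem op_θc {a' b : ℤ} (hv : v ∈ Cyc.Zk Y δY b) (u' β' : AlgebraicCycle X ℤ)
    (hu' : u' ∈ Cyc.Zk X δX a') (hβ' : β' ∈ Cyc.Zk X δX (a' - p))
    (hcβ : c.cap a' (ChowOps.cl u' hu') = ChowOps.cl β' hβ') (m : ℤ) (hm : m = a' + b)
    (h1 : θc pX pY q₁ q₂ hP δX δY δP hPδ hδY hδP v u' ∈
      Cyc.Zk (pullback q₂ (GW v)) (δXW q₂ δP v) m)
    (h2 : θc pX pY q₁ q₂ hP δX δY δP hPδ hδY hδP v β' ∈
      Cyc.Zk (pullback q₂ (GW v)) (δXW q₂ δP v) (m - p)) :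
    c.op (sXW pX pY q₁ q₂ hP δX δP hδP v) m (ChowOps.cl _ h1) = ChowOps.cl _ h2 := by
  apply eq_of_resCH_eq (fun a => ιX q₂ v a) (piX_disj (Vc v) (gV v) q₂)
    (piX_cov (Vc v) (gV v) q₂) (isSetup_XW q₂ δP v hPδ) (fun a => isSetup_Xa q₂ δP v hPδ a)
    (fun a => compat_ιX q₂ δP v a) (m - p)
  intro a
  have hw : ιX q₂ v a ≫ (sXW pX pY q₁ q₂ hP δX δP hδP v).g =
      (sa pX pY q₁ q₂ hP δX δP hδP v a).g := by
    change ιX q₂ v a ≫ (iP q₂ v ≫ q₁) = pullback.fst q₂ (ptι Y a.1) ≫ q₁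
    rw [← Category.assoc, ιX_iP]
  have hpull := c.pull (sXW pX pY q₁ q₂ hP δX δP hδP v) (sa pX pY q₁ q₂ hP δX δP hδP v a)
    (ιX q₂ v a) 0 (hasRelDim_openImmersion _) hw m
  rw [resCH_of_pullOK (ιX q₂ v a) (ιX q₂ v a) (isSetup_XW q₂ δP v hPδ) (isSetup_XW q₂ δP v hPδ)
    (isSetup_Xa q₂ δP v hPδ a) (isSetup_Xa q₂ δP v hPδ a) (compat_ιX q₂ δP v a)
    (compat_ιX q₂ δP v a) (fun k => c.op (sa pX pY q₁ q₂ hP δX δP hδP v a) k) m
    (c.op (sXW pX pY q₁ q₂ hP δX δP hδP v) m) hpull, resCH_cl, resCH_cl]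
  have hr := rr_eq pY δY hδY v hv a
  have hp1 : pcyc pX pY q₁ q₂ hP δX δY δP hPδ hδY hδP v u' a ∈
      Cyc.Zk (pullback q₂ (ptι Y a.1)) (δXa q₂ δP v a) m := by
    have := pcyc_mem pX pY q₁ q₂ hP δX δY δP hPδ hδY hδP v u' hu' a
    rwa [hr, ← hm] at this
  have hp2 : pcyc pX pY q₁ q₂ hP δX δY δP hPδ hδY hδP v β' a ∈
      Cyc.Zk (pullback q₂ (ptι Y a.1)) (δXa q₂ δP v a) (m - p) := by
    have := pcyc_mem pX pY q₁ q₂ hP δX δY δP hPδ hδY hδP v β' hβ' a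
    rwa [hr, show a' - p + b = m - p by rw [hm]; ring] at this
  refine op_cl_zsmul_eq (c.op (sa pX pY q₁ q₂ hP δX δP hδP v a) m) (v a.1) _ hp1 _ hp2
    (op_piece pX pY q₁ q₂ hP δX δY δP hXs hPδ hδY hδP v c hv u' β' hu' hβ' hcβ m hm a hp1 hp2)
    _ _ ?_ _ _ ?_
  · ext z'
    rw [resCyc_θc, Function.locallyFinsuppWithin.coe_zsmul, Pi.smul_apply, smul_eq_mul]
  · ext z'
    rw [resCyc_θc, Function.locallyFinsuppWithin.coe_zsmul, Pi.smul_apply, smul_eq_mul]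

end Part7

section Part8

open AlgebraicGeometry CategoryTheory TopologicalSpace Opposite CategoryTheory.Limits
  Groth.Agent.Lib.R2H1.Clopen Groth.Agent.Lib.R2H1.SigmaProper Bivar
  Groth.Agent.Lib.R2H1.ProperPushRat Groth.Agent.Lib.R2H1.BivarBirat
  Groth.Agent.Lib.R2H1.ChowDesc Groth.Agent.Lib.R2H1.C1Chow Groth.Agent.Lib.R2H1.FlatPullRat
  Groth.Agent.Lib.R2H1.Envelope Groth.Agent.Lib.R2H1.RatEquivClosed
  Groth.Agent.Lib.R2H1.ExtProd Groth.Agent.Lib.R2H1.BivarC1 Groth.Agent.Lib.R2H1.MVClosed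
  Groth.Agent.Lib.R2H1.BivarFlat Groth.Agent.Lib.R2H1.IsoTransport

section General

variable {T S : Scheme.{u}}

theorem cycMap_zsmul (f : T ⟶ S) [QuasiCompact f] (δT : T → ℤ) (δS : S → ℤ) (n : ℤ)
    (α : AlgebraicCycle T ℤ) :
    AlgebraicCycle.map f δT δS (n • α) = n • AlgebraicCycle.map f δT δS α :=
  (AddMonoidHom.mk' (fun α => AlgebraicCycle.map f δT δS α) (cycMap_add f δT δS)).map_zsmul n α

/-- the fibre multiplicity at the generic point of an integral scheme is one. -/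
theorem mult_genericPoint [IsIntegral T] (g : T ⟶ S) : mult g (genericPoint T) = 1 := by
  apply Groth.Agent.Lib.R2H1.CycLimB.mult_eq_one
  letI : Field (T.presheaf.stalk (genericPoint T)) := inferInstanceAs (Field T.functionField)
  have : IsLocalRing.maximalIdeal (T.presheaf.stalk (genericPoint T)) = ⊥ := by
    convert IsLocalRing.maximalIdeal_eq_bot (R := T.presheaf.stalk (genericPoint T))
  rw [this]
  exact bot_le

end General

variable {K : Type u} [Field K] {X Y P : Scheme.{u}}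

variable (pX : X ⟶ Spec (CommRingCat.of K)) (pY : Y ⟶ Spec (CommRingCat.of K))
  [LocallyOfFiniteType pX] [LocallyOfFiniteType pY]
  (q₁ : P ⟶ X) (q₂ : P ⟶ Y) (hP : IsPullback q₁ q₂ pX pY)
  (δX : X → ℤ) (δY : Y → ℤ) (δP : P → ℤ)
  (hXs : Cyc.IsSetup X δX) (hPδ : Cyc.IsSetup P δP) (hYs : Cyc.IsSetup Y δY)
  (hδX : Cyc.DeltaCompat pX δX (fun _ => 0))
  (hδY : Cyc.DeltaCompat pY δY (fun _ => 0)) (hδP : Cyc.DeltaCompat q₁ δP δX)
  (v : AlgebraicCycle Y ℤ)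

include hP hδX hδY hδP in
theorem compat_q₂ [LocallyOfFiniteType q₂] : Cyc.DeltaCompat q₂ δP δY := by
  apply deltaCompat_cancel q₂ pY _ hδY
  rw [← hP.w]
  exact deltaCompat_comp q₁ pX δP δX _ hδP hδX

include hP hδX hδY hδP in
theorem compat_snd [LocallyOfFiniteType q₂] (a : Idx v) :
    Cyc.DeltaCompat (pullback.snd q₂ (ptι Y a.1)) (δXa q₂ δP v a) (fun w => δY (ptι Y a.1 w)) := by
  apply deltaCompat_cancel (pullback.snd q₂ (ptι Y a.1)) (ptι Y a.1) _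
    (deltaCompat_closedImmersion (ptι Y a.1) δY)
  rw [← pullback.condition]
  exact deltaCompat_comp _ q₂ _ δP δY (deltaCompat_closedImmersion _ δP)
    (compat_q₂ pX pY q₁ q₂ hP δX δY δP hδX hδY hδP)

include hP hPδ hYs hδX hδY hδP in
open Classical in
/-- the pushforward of an exterior product to the second factor. -/
theorem map_q₂_extP [IsProper pX] [IsProper q₂] (β' : AlgebraicCycle X ℤ) {d : ℤ}
    (hβ' : β' ∈ Cyc.Zk X δX d) (ζ : AlgebraicCycle P ℤ)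
    (hζ : ∀ x, ζ x = extP q₁ q₂ δX δY δP ⇑β' ⇑v x) (y : Y) :
    AlgebraicCycle.map q₂ δP δY ζ y = ChowOps.deg pX δX β' * v y := by
  by_cases hy : v y = 0
  · rw [hy, mul_zero]
    apply map_eq_zero_of_support
    intro x hx
    rw [hζ]
    have hvx : v (q₂ x) = 0 := by rw [hx]; exact hy
    unfold extP
    simp only []
    rw [hvx, mul_zero, zero_mul, ite_self]
  · obtain ⟨a, ha⟩ : ∃ a : Idx v, a.1 = y := ⟨⟨y, hy⟩, rfl⟩
    subst ha
    obtain ⟨θa, hθa⟩ : ∃ θa : AlgebraicCycle (pullback q₂ (ptι Y a.1)) ℤ,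
        θa = v a.1 • pcyc pX pY q₁ q₂ hP δX δY δP hPδ hδY hδP v β' a := ⟨_, rfl⟩
    have hθa_apply : ∀ z', θa z' =
        v a.1 * pcyc pX pY q₁ q₂ hP δX δY δP hPδ hδY hδP v β' a z' := fun z' => by
      rw [hθa, Function.locallyFinsuppWithin.coe_zsmul, Pi.smul_apply, smul_eq_mul]
    have hθa_mem : θa ∈ Cyc.Zk (pullback q₂ (ptι Y a.1)) (δXa q₂ δP v a)
        (d + (rr pY δY hδY v a : ℤ)) := by
      rw [hθa]
      exact zsmul_mem_Zk _ _ (pcyc_mem pX pY q₁ q₂ hP δX δY δP hPδ hδY hδP v β' hβ' a)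
    haveI : IsProper (pullback.snd q₂ (ptι Y a.1)) :=
      MorphismProperty.pullback_snd (P := @IsProper) _ _ inferInstance
    have hXa := isSetup_Xa q₂ δP v hPδ a
    have hVa : Cyc.IsSetup (ptScheme Y a.1) (fun w => δY (ptι Y a.1 w)) :=
      Groth.Agent.Lib.R2H1.PullInv.isSetup_of_closedImmersion (ptι Y a.1) hYs
    have hcq₂ := compat_q₂ pX pY q₁ q₂ hP δX δY δP hδX hδY hδP
    have hcs := compat_snd pX pY q₁ q₂ hP δX δY δP hδX hδY hδP v a
    -- step 1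
    have s1 : AlgebraicCycle.map q₂ δP δY ζ a.1 = AlgebraicCycle.map q₂ δP δY
        (AlgebraicCycle.map (pullback.fst q₂ (ptι Y a.1)) (δXa q₂ δP v a) δP θa) a.1 := by
      rw [map_apply, map_apply]
      refine finsum_mem_congr rfl fun x hx => ?_
      have hx' : q₂ x = a.1 := hx
      rw [hζ, map_pcyc pX pY q₁ q₂ hP δX δY δP hPδ hYs hδY hδP v (v a.1) β' a θa hθa_apply x]
      have hvx : v (q₂ x) = v a.1 := by rw [hx']
      unfold extP
      simp only []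
      rw [hvx, if_pos hx', mul_one]
      split_ifs
      · ring
      · rfl
    rw [s1, Groth.Agent.S1859.result _ _ _ (δXa q₂ δP v a) δP δY hXa hPδ hYs
      (pullback.fst q₂ (ptι Y a.1)) q₂ (deltaCompat_closedImmersion _ δP) hcq₂ _ θa hθa_mem,
      map_congr_hom (pullback.condition : pullback.fst q₂ (ptι Y a.1) ≫ q₂ = _),
      ← Groth.Agent.S1859.result _ _ _ (δXa q₂ δP v a) (fun w => δY (ptι Y a.1 w)) δY hXa hVa hYs
      (pullback.snd q₂ (ptι Y a.1)) (ptι Y a.1) hcs (deltaCompat_closedImmersion _ δY) _ θa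
      hθa_mem]
    have key := map_apply_of_injective (ptι Y a.1) (ptι Y a.1).isClosedEmbedding.injective δY
      (AlgebraicCycle.map (pullback.snd q₂ (ptι Y a.1)) (δXa q₂ δP v a)
        (fun w => δY (ptι Y a.1 w)) θa) (genericPoint (ptScheme Y a.1))
    rw [ptι_genericPoint] at key
    rw [key]
    have hθa_coe : ⇑θa = Cyc.pullFun (pa q₁ q₂ v a) (δXa q₂ δP v a) δX
        (rr pY δY hδY v a : ℤ) ⇑(v a.1 • β') := by
      funext z'
      rw [hθa_apply, pcyc_coe]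
      simp only [Cyc.pullFun, Function.locallyFinsuppWithin.coe_zsmul, Pi.smul_apply, smul_eq_mul]
      split_ifs <;> ring
    have hB : ∀ w : ptScheme Y a.1, δY (ptι Y a.1 w) ≤ (fun _ => (0 : ℤ)) ((ptι Y a.1 ≫ pY) w) +
        (rr pY δY hδY v a : ℤ) := by
      intro w
      simp only [zero_add]
      rw [rr_spec]
      have hsp : a.1 ⤳ ptι Y a.1 w := by
        rw [specializes_iff_mem_closure, ← range_ptι]
        exact ⟨w, rfl⟩
      by_cases hw : a.1 = ptι Y a.1 w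
      · rw [← hw]
      · exact (hYs.2.2 a.1 _ hsp hw).1.le
    have ML := ML_sq (isPullback_V pX pY q₁ q₂ hP a.1) δX (fun _ => (0 : ℤ))
      (fun w => δY (ptι Y a.1 w)) (δXa q₂ δP v a) (rr pY δY hδY v a : ℤ) hδX hcs hB
      (v a.1 • β') θa hθa_coe
    rw [congrFun ML (genericPoint (ptScheme Y a.1)), pullFun_eq, if_pos, cycMap_zsmul,
      Function.locallyFinsuppWithin.coe_zsmul, Pi.smul_apply, smul_eq_mul, mult_genericPoint,
      mul_one, mul_comm]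
    · congr 1
      unfold ChowOps.deg
      exact congrArg _ (Subsingleton.elim _ _)
    · simp only [zero_add]
      rw [ptι_genericPoint, rr_spec]

end Part8

section Part9

open AlgebraicGeometry CategoryTheory TopologicalSpace Opposite CategoryTheory.Limits
  Groth.Agent.Lib.R2H1.Clopen Groth.Agent.Lib.R2H1.SigmaProper Bivar
  Groth.Agent.Lib.R2H1.ProperPushRat Groth.Agent.Lib.R2H1.BivarBirat
  Groth.Agent.Lib.R2H1.ChowDesc Groth.Agent.Lib.R2H1.C1Chow Groth.Agent.Lib.R2H1.FlatPullRat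
  Groth.Agent.Lib.R2H1.Envelope Groth.Agent.Lib.R2H1.RatEquivClosed
  Groth.Agent.Lib.R2H1.ExtProd Groth.Agent.Lib.R2H1.BivarC1 Groth.Agent.Lib.R2H1.MVClosed
  Groth.Agent.Lib.R2H1.BivarFlat Groth.Agent.Lib.R2H1.IsoTransport

section General

variable {S : Scheme.{u}} {δ : S → ℤ} {k : ℤ}

theorem cl_finset_sum {ι : Type*} [Fintype ι] (n : ι → ℤ) (w : ι → AlgebraicCycle S ℤ)
    (hw : ∀ i, w i ∈ Cyc.Zk S δ k) (H : ∑ i, n i • w i ∈ Cyc.Zk S δ k) :
    ChowOps.cl (∑ i, n i • w i) H = ∑ i, n i • ChowOps.cl (w i) (hw i) := by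
  unfold ChowOps.cl
  simp_rw [← map_zsmul]
  rw [← map_sum]
  congr 1
  apply Subtype.ext
  rw [AddSubgroup.val_finset_sum]
  rfl

end General

variable {K : Type u} [Field K] {X Y P : Scheme.{u}}

variable (pX : X ⟶ Spec (CommRingCat.of K)) (pY : Y ⟶ Spec (CommRingCat.of K))
  [IsProper pX] [LocallyOfFiniteType pY]
  (q₁ : P ⟶ X) (q₂ : P ⟶ Y) (hP : IsPullback q₁ q₂ pX pY)
  (δX : X → ℤ) (δY : Y → ℤ) (δP : P → ℤ)
  (hXs : Cyc.IsSetup X δX) (hYs : Cyc.IsSetup Y δY) (hPδ : Cyc.IsSetup P δP)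
  (hδX : Cyc.DeltaCompat pX δX (fun _ => 0))
  (hδY : Cyc.DeltaCompat pY δY (fun _ => 0)) (hδP : Cyc.DeltaCompat q₁ δP δX)
  [IsLocallyNoetherian Y] [IsProper q₂]
  {p m : ℤ} (c : OpCl p X δX)

include hXs hYs hδX hδY in
/-- the class of an exterior product, pushed forward to the second factor. -/
theorem push_op_extP (hcq₂ : Cyc.DeltaCompat q₂ δP δY) (u v β : AlgebraicCycle _ ℤ) {a : ℤ}
    (hu : u ∈ Cyc.Zk X δX a)
    (hv : v ∈ Cyc.Zk Y δY (m - a)) (hβ : β ∈ Cyc.Zk X δX (a - p))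
    (hcβ : c.cap a (ChowOps.cl u hu) = ChowOps.cl β hβ) (ζ : AlgebraicCycle P ℤ)
    (hζm : ζ ∈ Cyc.Zk P δP m) (hζ : ∀ t, ζ t = extP q₁ q₂ δX δY δP ⇑u ⇑v t) :
    ∃ hmem : ChowOps.deg pX δX β • v ∈ Cyc.Zk Y δY (m - p),
      pushCH hPδ hYs q₂ hcq₂ (m - p)
        (c.op (sP pX pY q₁ q₂ hP δX δP hδP) m (ChowOps.cl ζ hζm)) =
      ChowOps.cl (ChowOps.deg pX δX β • v) hmem := by
  have e1 : ζ = AlgebraicCycle.map (iP q₂ v) (δXW q₂ δP v) δP
      (θc pX pY q₁ q₂ hP δX δY δP hPδ hδY hδP v u) := by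
    ext t
    rw [hζ, map_θc pX pY q₁ q₂ hP δX δY δP hPδ hYs hδY hδP v u t]
  have hθu : θc pX pY q₁ q₂ hP δX δY δP hPδ hδY hδP v u ∈
      Cyc.Zk (pullback q₂ (GW v)) (δXW q₂ δP v) m := by
    have := θc_mem pX pY q₁ q₂ hP δX δY δP hPδ hδY hδP v u hu hv
    rwa [show a + (m - a) = m by ring] at this
  have hθβ : θc pX pY q₁ q₂ hP δX δY δP hPδ hδY hδP v β ∈
      Cyc.Zk (pullback q₂ (GW v)) (δXW q₂ δP v) (m - p) := by
    have := θc_mem pX pY q₁ q₂ hP δX δY δP hPδ hδY hδP v β hβ hv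
    rwa [show a - p + (m - a) = m - p by ring] at this
  have e2 : c.op (sP pX pY q₁ q₂ hP δX δP hδP) m (ChowOps.cl ζ hζm) =
      ChowOps.cl (AlgebraicCycle.map (iP q₂ v) (δXW q₂ δP v) δP
        (θc pX pY q₁ q₂ hP δX δY δP hPδ hδY hδP v β))
        (cycMap_mem_Zk (iP q₂ v) (δXW q₂ δP v) δP (m - p) hθβ) := by
    rw [cl_congr e1 hζm (cycMap_mem_Zk (iP q₂ v) (δXW q₂ δP v) δP m hθu)]
    exact pushOK_rep (isSetup_XW q₂ δP v hPδ) hPδ (iP q₂ v) (iP q₂ v) (compat_iP q₂ δP v)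
      (c.op (sXW pX pY q₁ q₂ hP δX δP hδP v) m) (c.op (sP pX pY q₁ q₂ hP δX δP hδP) m)
      (c.push (sP pX pY q₁ q₂ hP δX δP hδP) (sXW pX pY q₁ q₂ hP δX δP hδP v) (iP q₂ v) rfl m)
      _ hθu _ hθβ
      (op_θc pX pY q₁ q₂ hP δX δY δP hXs hPδ hδY hδP v c hv u β hu hβ hcβ m (by ring) hθu hθβ)
  rw [e2, pushCH_cl]
  have e3 : AlgebraicCycle.map q₂ δP δY (AlgebraicCycle.map (iP q₂ v) (δXW q₂ δP v) δP
      (θc pX pY q₁ q₂ hP δX δY δP hPδ hδY hδP v β)) = ChowOps.deg pX δX β • v := by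
    ext y
    rw [map_q₂_extP pX pY q₁ q₂ hP δX δY δP hPδ hYs hδX hδY hδP v β hβ _
      (fun x => map_θc pX pY q₁ q₂ hP δX δY δP hPδ hYs hδY hδP v β x) y,
      Function.locallyFinsuppWithin.coe_zsmul, Pi.smul_apply, smul_eq_mul]
  have hmem : ChowOps.deg pX δX β • v ∈ Cyc.Zk Y δY (m - p) := by
    rw [← e3]
    exact cycMap_mem_Zk q₂ δP δY (m - p) (cycMap_mem_Zk (iP q₂ v) (δXW q₂ δP v) δP (m - p) hθβ)
  exact ⟨hmem, cl_congr e3 _ _⟩

end Part9

section Part10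

open AlgebraicGeometry CategoryTheory TopologicalSpace Opposite CategoryTheory.Limits
  Groth.Agent.Lib.R2H1.Clopen Groth.Agent.Lib.R2H1.SigmaProper Bivar
  Groth.Agent.Lib.R2H1.ProperPushRat Groth.Agent.Lib.R2H1.BivarBirat
  Groth.Agent.Lib.R2H1.ChowDesc Groth.Agent.Lib.R2H1.C1Chow Groth.Agent.Lib.R2H1.FlatPullRat
  Groth.Agent.Lib.R2H1.Envelope Groth.Agent.Lib.R2H1.RatEquivClosed
  Groth.Agent.Lib.R2H1.ExtProd Groth.Agent.Lib.R2H1.BivarC1 Groth.Agent.Lib.R2H1.MVClosed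
  Groth.Agent.Lib.R2H1.BivarFlat Groth.Agent.Lib.R2H1.IsoTransport

/-- the Kronecker-type formula for operational classes: if the graph of `f` decomposes into
exterior products, the class acts through degrees. -/
theorem main17675 {K : Type u} [Field K] {X Y P : Scheme.{u}}
    (pX : X ⟶ Spec (CommRingCat.of K)) (pY : Y ⟶ Spec (CommRingCat.of K)) [IsProper pX]
    [LocallyOfFiniteType pY]
    (q₁ : P ⟶ X) (q₂ : P ⟶ Y) (hP : IsPullback q₁ q₂ pX pY)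
    (δX : X → ℤ) (δY : Y → ℤ) (δP : P → ℤ)
    (hX : Cyc.IsSetup X δX) (hY : Cyc.IsSetup Y δY) (hPδ : Cyc.IsSetup P δP)
    (hδX : Cyc.DeltaCompat pX δX (fun _ => 0)) (hδY : Cyc.DeltaCompat pY δY (fun _ => 0))
    (hδP : Cyc.DeltaCompat q₁ δP δX)
    (f : Y ⟶ X) (hfl : LocallyOfFiniteType f) (hfδ : Cyc.DeltaCompat f δY δX)
    (γ : Y ⟶ P) [IsClosedImmersion γ] (hγ₁ : γ ≫ q₁ = f) (hγ₂ : γ ≫ q₂ = 𝟙 Y)
    {p m : ℤ} (c : Bivar.OpCl p X δX) (z : AlgebraicCycle Y ℤ) (hz : z ∈ Cyc.Zk Y δY m)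
    {ι : Type} [Fintype ι] (n : ι → ℤ) (a : ι → ℤ)
    (u : ι → AlgebraicCycle X ℤ) (hu : ∀ i, u i ∈ Cyc.Zk X δX (a i))
    (v : ι → AlgebraicCycle Y ℤ) (hv : ∀ i, v i ∈ Cyc.Zk Y δY (m - a i))
    (ζ : ι → AlgebraicCycle P ℤ) (hζm : ∀ i, ζ i ∈ Cyc.Zk P δP m)
    (hζ : ∀ (i : ι) (t : P), ζ i t = extP q₁ q₂ δX δY δP ⇑(u i) ⇑(v i) t)
    (hdec : ChowOps.cl (AlgebraicCycle.map γ δY δP z) (Bivar.cycMap_mem_Zk γ δY δP m hz) =
      ∑ i, n i • ChowOps.cl (ζ i) (hζm i))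
    (β : ι → AlgebraicCycle X ℤ) (hβ : ∀ i, β i ∈ Cyc.Zk X δX (a i - p))
    (hcβ : ∀ i, c.cap (a i) (ChowOps.cl (u i) (hu i)) = ChowOps.cl (β i) (hβ i))
    (H : (∑ i, (n i * ChowOps.deg pX δX (β i)) • v i) ∈ Cyc.Zk Y δY (m - p)) :
    c.op ⟨Y, f, hfl, δY, hfδ⟩ m (ChowOps.cl z hz) =
      ChowOps.cl (∑ i, (n i * ChowOps.deg pX δX (β i)) • v i) H := by
  haveI : IsLocallyNoetherian Y := hY.1
  haveI : IsProper q₂ := isProper_q₂ pX pY q₁ q₂ hP
  have hcq₂ := compat_q₂ pX pY q₁ q₂ hP δX δY δP hδX hδY hδP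
  obtain ⟨β₀, hβ₀, e1, e2⟩ := c.push (sP pX pY q₁ q₂ hP δX δP hδP) ⟨Y, f, hfl, δY, hfδ⟩ γ hγ₁ m
    z hz
  rw [e1]
  have hγc : Cyc.DeltaCompat γ δY δP := by
    apply deltaCompat_cancel γ q₂ _ hcq₂
    rw [hγ₂]
    exact deltaCompat_id δY
  have e3 : ChowOps.cl β₀ hβ₀ = pushCH hPδ hY q₂ hcq₂ (m - p)
      (ChowOps.cl (AlgebraicCycle.map γ δY δP β₀) (cycMap_mem_Zk γ δY δP (m - p) hβ₀)) := by
    rw [pushCH_cl]
    apply cl_congr
    haveI : QuasiCompact (γ ≫ q₂) := by rw [hγ₂]; infer_instance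
    rw [Groth.Agent.S1859.result Y P Y δY δP δY hY hPδ hY γ q₂ hγc hcq₂ (m - p) β₀ hβ₀,
      map_congr_hom hγ₂, AlgebraicCycle.map_id]
  have e2' : c.op (sP pX pY q₁ q₂ hP δX δP hδP) m
      (ChowOps.cl (AlgebraicCycle.map γ δY δP z) (cycMap_mem_Zk γ δY δP m hz)) =
      ChowOps.cl (AlgebraicCycle.map γ δY δP β₀) (cycMap_mem_Zk γ δY δP (m - p) hβ₀) := e2
  rw [e3, ← e2', hdec, map_sum, map_sum]
  simp_rw [map_zsmul]
  choose hmem hkey using fun i => push_op_extP pX pY q₁ q₂ hP δX δY δP hX hY hPδ hδX hδY hδP c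
    hcq₂ (u i) (v i) (β i) (hu i) (hv i) (hβ i) (hcβ i) (ζ i) (hζm i) (hζ i)
  simp_rw [hkey]
  have e4 : (∑ i, (n i * ChowOps.deg pX δX (β i)) • v i) =
      ∑ i, n i • (ChowOps.deg pX δX (β i) • v i) := by
    refine Finset.sum_congr rfl fun i _ => ?_
    rw [mul_smul]
  have H' : (∑ i, n i • (ChowOps.deg pX δX (β i) • v i)) ∈ Cyc.Zk Y δY (m - p) := e4 ▸ H
  rw [cl_congr e4 H H', cl_finset_sum n _ hmem H']

end Part10

end Groth.Agent.Lib.R2H1.OpKronecker
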