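/-
Kronecker duality for operational classes on a proper scheme over a field with the Kunneth property (S17676): exterior product classes with points, slant product with a functional, the operational class attached to a functional (compatibility with proper pushforward, flat pullback and Gysin maps), its Kronecker functional, and uniqueness via the Kronecker-type graph decomposition.
-/
import Mathlib
import Groth.Prelude
import Groth.Agent.Lib.R2H1OpKronecker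
import Groth.Agent.Lib.R2H1BivarPush
import Groth.Agent.Lib.R2H1BivarGysin

set_option autoImplicit false
set_option linter.style.haveILetI false
set_option linter.unusedSectionVars false
universe u v

namespace Groth.Agent.Lib.R2H1.OpKunneth

section Part1

open AlgebraicGeometry CategoryTheory TopologicalSpace Opposite CategoryTheory.Limits
  Bivar Groth.Agent.Lib.R2H1.OpKronecker Groth.Agent.Lib.R2H1.ExtProd
  Groth.Agent.Lib.R2H1.BivarEnv Groth.Agent.Lib.R2H1.MVClosed Groth.Agent.Lib.R2H1.ChowDesc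
  TensorProduct

variable {K : Type u} [Field K] {X : Scheme.{u}} (pX : X ⟶ Spec (CommRingCat.of K))
  (δX : X → ℤ)

/-- the Künneth hypothesis, in the form of the statement. -/
def KunnethHyp : Prop :=
  ∀ (Y P : Scheme.{u}) (pY : Y ⟶ Spec (.of K)) [LocallyOfFiniteType pY]
      (q₁ : P ⟶ X) (q₂ : P ⟶ Y), IsPullback q₁ q₂ pX pY →
      ∀ (δY : Y → ℤ) (δP : P → ℤ), Cyc.IsSetup Y δY → Cyc.IsSetup P δP →
      Cyc.DeltaCompat pY δY (fun _ => 0) → Cyc.DeltaCompat q₁ δP δX →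
      ∃ κ : ∀ a m : ℤ, ChowOps.CH X δX a →ₗ[ℤ] ChowOps.CH Y δY (m - a) →ₗ[ℤ] ChowOps.CH P δP m,
        (∀ (a m : ℤ) (α : AlgebraicCycle X ℤ) (hα : α ∈ Cyc.Zk X δX a)
          (β : AlgebraicCycle Y ℤ) (hβ : β ∈ Cyc.Zk Y δY (m - a))
          (ζ : AlgebraicCycle P ℤ) (hζ : ζ ∈ Cyc.Zk P δP m),
          (∀ t : P, ζ t =
            if δP t = δX (q₁ t) + δY (q₂ t) then
            α (q₁ t) * β (q₂ t) *
              ((Module.length (P.presheaf.stalk t) (P.presheaf.stalk t ⧸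
                (Ideal.map (q₁.stalkMap t).hom (IsLocalRing.maximalIdeal (X.presheaf.stalk (q₁ t))) ⊔
                  Ideal.map (q₂.stalkMap t).hom (IsLocalRing.maximalIdeal (Y.presheaf.stalk (q₂ t)))))).toNat : ℤ)
          else 0) →
          κ a m (ChowOps.cl α hα) (ChowOps.cl β hβ) = ChowOps.cl ζ hζ) ∧
        ∀ m : ℤ, Function.Bijective
          (DirectSum.toModule ℤ ℤ (ChowOps.CH P δP m) (fun a : ℤ => TensorProduct.lift (κ a m)))

variable (hX : Cyc.IsSetup X δX) (hK : KunnethHyp pX δX)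

/-- the dimension function on the base point. -/
abbrev δ0 : ↥(Spec (CommRingCat.of K)) → ℤ := fun _ => 0

variable (sq : Sq pX δX (δ0 (K := K)))

include hX hK in
theorem exists_kap : ∃ κ : ∀ a m : ℤ, ChowOps.CH X δX a →ₗ[ℤ]
    ChowOps.CH sq.Y' sq.δY' (m - a) →ₗ[ℤ] ChowOps.CH sq.X' sq.δX' m,
    (∀ (a m : ℤ) (α : AlgebraicCycle X ℤ) (hα : α ∈ Cyc.Zk X δX a)
      (β : AlgebraicCycle sq.Y' ℤ) (hβ : β ∈ Cyc.Zk sq.Y' sq.δY' (m - a))
      (ζ : AlgebraicCycle sq.X' ℤ) (hζ : ζ ∈ Cyc.Zk sq.X' sq.δX' m),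
      (∀ t : sq.X', ζ t = extP sq.g' sq.f' δX sq.δY' sq.δX' ⇑α ⇑β t) →
      κ a m (ChowOps.cl α hα) (ChowOps.cl β hβ) = ChowOps.cl ζ hζ) ∧
    ∀ m : ℤ, Function.Bijective
      (DirectSum.toModule ℤ ℤ (ChowOps.CH sq.X' sq.δX' m)
        (fun a : ℤ => TensorProduct.lift (κ a m))) := by
  haveI := sq.lft
  obtain ⟨κ, h1, h2⟩ := hK sq.Y' sq.X' sq.g sq.g' sq.f' sq.isPullback.flip sq.δY' sq.δX'
    (isSetup_Y' (isSetup_spec_field K) sq) (isSetup_X' hX sq) sq.compatY sq.compatX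
  exact ⟨κ, fun a m α hα β hβ ζ hζ hc => h1 a m α hα β hβ ζ hζ hc, h2⟩

/-- the Künneth maps of a square. -/
noncomputable def kap (a m : ℤ) : ChowOps.CH X δX a →ₗ[ℤ]
    ChowOps.CH sq.Y' sq.δY' (m - a) →ₗ[ℤ] ChowOps.CH sq.X' sq.δX' m :=
  Classical.choose (exists_kap pX δX hX hK sq) a m

theorem kap_cl (a m : ℤ) (α : AlgebraicCycle X ℤ) (hα : α ∈ Cyc.Zk X δX a)
    (β : AlgebraicCycle sq.Y' ℤ) (hβ : β ∈ Cyc.Zk sq.Y' sq.δY' (m - a))
    (ζ : AlgebraicCycle sq.X' ℤ) (hζ : ζ ∈ Cyc.Zk sq.X' sq.δX' m)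
    (hc : ∀ t : sq.X', ζ t = extP sq.g' sq.f' δX sq.δY' sq.δX' ⇑α ⇑β t) :
    kap pX δX hX hK sq a m (ChowOps.cl α hα) (ChowOps.cl β hβ) = ChowOps.cl ζ hζ :=
  (Classical.choose_spec (exists_kap pX δX hX hK sq)).1 a m α hα β hβ ζ hζ hc

/-- the total Künneth map. -/
noncomputable def Ktot (m : ℤ) :
    (DirectSum ℤ fun a : ℤ => ChowOps.CH X δX a ⊗[ℤ] ChowOps.CH sq.Y' sq.δY' (m - a)) →ₗ[ℤ]
      ChowOps.CH sq.X' sq.δX' m :=
  DirectSum.toModule ℤ ℤ (ChowOps.CH sq.X' sq.δX' m)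
    (fun a : ℤ => TensorProduct.lift (kap pX δX hX hK sq a m))

theorem Ktot_bijective (m : ℤ) : Function.Bijective (Ktot pX δX hX hK sq m) :=
  (Classical.choose_spec (exists_kap pX δX hX hK sq)).2 m

theorem Ktot_of (m a : ℤ) (x : ChowOps.CH X δX a) (y : ChowOps.CH sq.Y' sq.δY' (m - a)) :
    Ktot pX δX hX hK sq m (DirectSum.of
      (fun a : ℤ => ChowOps.CH X δX a ⊗[ℤ] ChowOps.CH sq.Y' sq.δY' (m - a)) a (x ⊗ₜ y)) =
      kap pX δX hX hK sq a m x y := by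
  unfold Ktot
  rw [← DirectSum.lof_eq_of ℤ]
  erw [DirectSum.toModule_lof]
  exact TensorProduct.lift.tmul x y

end Part1

section Part2

open AlgebraicGeometry CategoryTheory TopologicalSpace Opposite CategoryTheory.Limits
  Bivar Groth.Agent.Lib.R2H1.OpKronecker Groth.Agent.Lib.R2H1.ExtProd
  Groth.Agent.Lib.R2H1.BivarEnv Groth.Agent.Lib.R2H1.MVClosed Groth.Agent.Lib.R2H1.ChowDesc
  Groth.Agent.Lib.R2H1.BivarBirat
  TensorProduct

variable {K : Type u} [Field K] {X : Scheme.{u}} (pX : X ⟶ Spec (CommRingCat.of K))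
  [LocallyOfFiniteType pX] (δX : X → ℤ) (hX : Cyc.IsSetup X δX)
  (sq : Sq pX δX (δ0 (K := K)))

include hX in
/-- the exterior product of two cycles, as a cycle on the fibre product. -/
theorem exists_exCyc (u : AlgebraicCycle X ℤ) (v : AlgebraicCycle sq.Y' ℤ) :
    ∃ ζ : AlgebraicCycle sq.X' ℤ,
      (∀ t, ζ t = extP sq.g' sq.f' δX sq.δY' sq.δX' ⇑u ⇑v t) ∧
      ∀ a b : ℤ, u ∈ Cyc.Zk X δX a → v ∈ Cyc.Zk sq.Y' sq.δY' b →
        ζ ∈ Cyc.Zk sq.X' sq.δX' (a + b) := by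
  haveI := sq.lft
  have hYs := isSetup_Y' (isSetup_spec_field K) sq
  have hPs := isSetup_X' hX sq
  haveI : IsLocallyNoetherian sq.Y' := hYs.1
  refine ⟨AlgebraicCycle.map (iP sq.f' v) (δXW sq.f' sq.δX' v) sq.δX'
    (θc pX sq.g sq.g' sq.f' sq.isPullback.flip δX sq.δY' sq.δX' hPs sq.compatY sq.compatX v u),
    fun t => map_θc pX sq.g sq.g' sq.f' sq.isPullback.flip δX sq.δY' sq.δX' hPs hYs sq.compatY
      sq.compatX v u t, fun a b hu hv => ?_⟩
  exact cycMap_mem_Zk _ _ _ _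
    (θc_mem pX sq.g sq.g' sq.f' sq.isPullback.flip δX sq.δY' sq.δX' hPs sq.compatY sq.compatX v u
      hu hv)

/-- the chosen exterior product cycle. -/
noncomputable def exCyc (u : AlgebraicCycle X ℤ) (v : AlgebraicCycle sq.Y' ℤ) :
    AlgebraicCycle sq.X' ℤ :=
  Classical.choose (exists_exCyc pX δX hX sq u v)

theorem exCyc_apply (u : AlgebraicCycle X ℤ) (v : AlgebraicCycle sq.Y' ℤ) (t : sq.X') :
    exCyc pX δX hX sq u v t = extP sq.g' sq.f' δX sq.δY' sq.δX' ⇑u ⇑v t :=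
  (Classical.choose_spec (exists_exCyc pX δX hX sq u v)).1 t

theorem exCyc_mem (u : AlgebraicCycle X ℤ) (v : AlgebraicCycle sq.Y' ℤ) {a b : ℤ}
    (hu : u ∈ Cyc.Zk X δX a) (hv : v ∈ Cyc.Zk sq.Y' sq.δY' b) :
    exCyc pX δX hX sq u v ∈ Cyc.Zk sq.X' sq.δX' (a + b) :=
  (Classical.choose_spec (exists_exCyc pX δX hX sq u v)).2 a b hu hv

theorem exCyc_mem' (u : AlgebraicCycle X ℤ) (v : AlgebraicCycle sq.Y' ℤ) {a m : ℤ}
    (hu : u ∈ Cyc.Zk X δX a) (hv : v ∈ Cyc.Zk sq.Y' sq.δY' (m - a)) :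
    exCyc pX δX hX sq u v ∈ Cyc.Zk sq.X' sq.δX' m := by
  have := exCyc_mem pX δX hX sq u v hu hv
  rwa [show a + (m - a) = m by ring] at this

variable (hK : KunnethHyp pX δX)

theorem kap_exCyc (a m : ℤ) (u : AlgebraicCycle X ℤ) (hu : u ∈ Cyc.Zk X δX a)
    (v : AlgebraicCycle sq.Y' ℤ) (hv : v ∈ Cyc.Zk sq.Y' sq.δY' (m - a)) :
    kap pX δX hX hK sq a m (ChowOps.cl u hu) (ChowOps.cl v hv) =
      ChowOps.cl (exCyc pX δX hX sq u v) (exCyc_mem' pX δX hX sq u v hu hv) :=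
  kap_cl pX δX hX hK sq a m u hu v hv _ _ (exCyc_apply pX δX hX sq u v)

end Part2

section Part3

open AlgebraicGeometry CategoryTheory TopologicalSpace Opposite CategoryTheory.Limits
  Bivar Groth.Agent.Lib.R2H1.OpKronecker Groth.Agent.Lib.R2H1.ExtProd
  Groth.Agent.Lib.R2H1.BivarEnv Groth.Agent.Lib.R2H1.MVClosed Groth.Agent.Lib.R2H1.ChowDesc
  Groth.Agent.Lib.R2H1.BivarBirat
  TensorProduct

variable {K : Type u} [Field K] {X : Scheme.{u}} (pX : X ⟶ Spec (CommRingCat.of K))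
  [IsProper pX] (δX : X → ℤ) (hX : Cyc.IsSetup X δX)
  (hδX : Cyc.DeltaCompat pX δX (δ0 (K := K)))

section Deg

theorem deg_eq_zero_of_ne (β : AlgebraicCycle X ℤ) {j : ℤ} (hβ : β ∈ Cyc.Zk X δX j)
    (hj : j ≠ 0) : ChowOps.deg pX δX β = 0 := by
  unfold ChowOps.deg
  exact cycMap_mem_Zk pX δX (fun _ => (0 : ℤ)) j hβ _ (fun h => hj h.symm)

end Deg

section TestData

variable (s : OSq X δX)

/-- the structure morphism of a test scheme to the base point. -/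
noncomputable abbrev pYs : s.Y ⟶ Spec (CommRingCat.of K) := s.g ≫ pX

instance lft_pYs : LocallyOfFiniteType (pYs pX δX s) := by
  haveI := s.lft
  infer_instance

include hδX in
theorem compat_pYs : Cyc.DeltaCompat (pYs pX δX s) s.δ (δ0 (K := K)) :=
  deltaCompat_comp s.g pX s.δ δX _ s.compat hδX

/-- the product of `X` with a test scheme, as a square over `X ⟶ Spec K`. -/
@[reducible] noncomputable def sqOf : Sq pX δX (δ0 (K := K)) where
  Y' := s.Y
  X' := pullback pX (pYs pX δX s)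
  g := pYs pX δX s
  f' := pullback.snd pX (pYs pX δX s)
  g' := pullback.fst pX (pYs pX δX s)
  isPullback := (IsPullback.of_hasPullback pX (pYs pX δX s)).flip
  lft := inferInstance
  δY' := s.δ
  δX' := indDelta (pullback.fst pX (pYs pX δX s)) δX
  compatY := compat_pYs pX δX hδX s
  compatX := deltaCompat_indDelta _ _

/-- the graph of the structure morphism of a test scheme. -/
noncomputable def gam : s.Y ⟶ pullback pX (pYs pX δX s) :=
  pullback.lift s.g (𝟙 s.Y) (by simp)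

@[reassoc] theorem gam_fst : gam pX δX s ≫ pullback.fst pX (pYs pX δX s) = s.g :=
  pullback.lift_fst _ _ _

@[reassoc] theorem gam_snd : gam pX δX s ≫ pullback.snd pX (pYs pX δX s) = 𝟙 s.Y :=
  pullback.lift_snd _ _ _

instance isClosedImmersion_gam : IsClosedImmersion (gam pX δX s) := by
  haveI : IsClosedImmersion (gam pX δX s ≫ pullback.snd pX (pYs pX δX s)) := by
    rw [gam_snd]; infer_instance
  exact IsClosedImmersion.of_comp _ (pullback.snd pX (pYs pX δX s))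

end TestData

end Part3

section Part4

open AlgebraicGeometry CategoryTheory TopologicalSpace Opposite CategoryTheory.Limits
  Bivar Groth.Agent.Lib.R2H1.OpKronecker Groth.Agent.Lib.R2H1.ExtProd
  Groth.Agent.Lib.R2H1.BivarEnv Groth.Agent.Lib.R2H1.MVClosed Groth.Agent.Lib.R2H1.ChowDesc
  Groth.Agent.Lib.R2H1.BivarBirat
  TensorProduct

variable {K : Type u} [Field K] {X : Scheme.{u}} (pX : X ⟶ Spec (CommRingCat.of K))
  [LocallyOfFiniteType pX] (δX : X → ℤ) (hX : Cyc.IsSetup X δX)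
  (sq : Sq pX δX (δ0 (K := K))) (hK : KunnethHyp pX δX)

/-- a term of a Künneth decomposition. -/
structure Term (m : ℤ) where
  /-- the coefficient -/
  n : ℤ
  /-- the dimension of the first factor -/
  a : ℤ
  /-- the cycle on the first factor -/
  u : AlgebraicCycle X ℤ
  hu : u ∈ Cyc.Zk X δX a
  /-- the cycle on the second factor -/
  v : AlgebraicCycle sq.Y' ℤ
  hv : v ∈ Cyc.Zk sq.Y' sq.δY' (m - a)

/-- the class of a term. -/
noncomputable def termCl {m : ℤ} (T : Term pX δX sq m) : ChowOps.CH sq.X' sq.δX' m :=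
  T.n • ChowOps.cl (exCyc pX δX hX sq T.u T.v) (exCyc_mem' pX δX hX sq T.u T.v T.hu T.hv)

/-- every class on the product is a finite sum of exterior products. -/
theorem exists_decomp (m : ℤ)
    (y : DirectSum ℤ fun a : ℤ => ChowOps.CH X δX a ⊗[ℤ] ChowOps.CH sq.Y' sq.δY' (m - a)) :
    ∃ (ι : Type) (_ : Fintype ι) (T : ι → Term pX δX sq m),
      Ktot pX δX hX hK sq m y = ∑ i, termCl pX δX hX sq (T i) := by
  have hadd : ∀ y₁ y₂ : DirectSum ℤ fun a : ℤ =>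
      ChowOps.CH X δX a ⊗[ℤ] ChowOps.CH sq.Y' sq.δY' (m - a),
      (∃ (ι : Type) (_ : Fintype ι) (T : ι → Term pX δX sq m),
        Ktot pX δX hX hK sq m y₁ = ∑ i, termCl pX δX hX sq (T i)) →
      (∃ (ι : Type) (_ : Fintype ι) (T : ι → Term pX δX sq m),
        Ktot pX δX hX hK sq m y₂ = ∑ i, termCl pX δX hX sq (T i)) →
      ∃ (ι : Type) (_ : Fintype ι) (T : ι → Term pX δX sq m),
        Ktot pX δX hX hK sq m (y₁ + y₂) = ∑ i, termCl pX δX hX sq (T i) := by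
    rintro y₁ y₂ ⟨ι₁, i₁, T₁, h₁⟩ ⟨ι₂, i₂, T₂, h₂⟩
    refine ⟨ι₁ ⊕ ι₂, inferInstance, Sum.elim T₁ T₂, ?_⟩
    rw [map_add, h₁, h₂, Fintype.sum_sum_type]
    rfl
  have hzero : ∃ (ι : Type) (_ : Fintype ι) (T : ι → Term pX δX sq m),
      Ktot pX δX hX hK sq m 0 = ∑ i, termCl pX δX hX sq (T i) :=
    ⟨Empty, inferInstance, Empty.elim, by rw [map_zero]; simp⟩
  induction y using DirectSum.induction_on with
  | zero => exact hzero
  | of a z =>
    induction z using TensorProduct.induction_on with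
    | zero => rw [map_zero]; exact hzero
    | tmul x y =>
      obtain ⟨u, hu, rfl⟩ := exists_rep x
      obtain ⟨v, hv, rfl⟩ := exists_rep y
      refine ⟨Unit, inferInstance, fun _ => ⟨1, a, u, hu, v, hv⟩, ?_⟩
      rw [Ktot_of, kap_exCyc]
      simp [termCl]
    | add z₁ z₂ h₁ h₂ => rw [map_add]; exact hadd _ _ h₁ h₂
  | add y₁ y₂ h₁ h₂ => exact hadd _ _ h₁ h₂

end Part4

section Part5

open AlgebraicGeometry CategoryTheory TopologicalSpace Opposite CategoryTheory.Limits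
  Bivar Groth.Agent.Lib.R2H1.OpKronecker Groth.Agent.Lib.R2H1.ExtProd
  Groth.Agent.Lib.R2H1.BivarEnv Groth.Agent.Lib.R2H1.MVClosed Groth.Agent.Lib.R2H1.ChowDesc
  Groth.Agent.Lib.R2H1.BivarBirat
  TensorProduct

variable {K : Type u} [Field K] {X : Scheme.{u}} (pX : X ⟶ Spec (CommRingCat.of K))
  [IsProper pX] (δX : X → ℤ) (hX : Cyc.IsSetup X δX)
  (hδX : Cyc.DeltaCompat pX δX (δ0 (K := K))) (hK : KunnethHyp pX δX)

/-- the Kronecker functional property. -/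
def HasFunctional {p : ℤ} (φ : ChowOps.CH X δX p →+ ℤ) (c : OpCl p X δX) : Prop :=
  ∀ (α : AlgebraicCycle X ℤ) (hα : α ∈ Cyc.Zk X δX p)
    (β : AlgebraicCycle X ℤ) (hβ : β ∈ Cyc.Zk X δX (p - p)),
    c.cap p (ChowOps.cl α hα) = ChowOps.cl β hβ → φ (ChowOps.cl α hα) = ChowOps.deg pX δX β

theorem deg_of_functional {p : ℤ} (φ : ChowOps.CH X δX p →+ ℤ) (c : OpCl p X δX)
    (hc : HasFunctional pX δX φ c) (a : ℤ) (h : a = p) (u : AlgebraicCycle X ℤ)
    (hu : u ∈ Cyc.Zk X δX a) (β : AlgebraicCycle X ℤ) (hβ : β ∈ Cyc.Zk X δX (a - p))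
    (hcβ : c.cap a (ChowOps.cl u hu) = ChowOps.cl β hβ) :
    ChowOps.deg pX δX β = φ (ChowOps.cl u (h ▸ hu)) := by
  subst h
  exact (hc u hu β hβ hcβ).symm

include hX hδX hK in
/-- the value of an operational class on a test scheme, through a Künneth decomposition of the
graph. -/
theorem op_eq_of_decomp (s : OSq X δX) (m : ℤ)
    (z : AlgebraicCycle s.Y ℤ) (hz : z ∈ Cyc.Zk s.Y s.δ m) :
    ∃ (ι : Type) (_ : Fintype ι) (T : ι → Term pX δX (sqOf pX δX hδX s) m),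
      ∀ {p : ℤ} (c : OpCl p X δX)
        (β : ι → AlgebraicCycle X ℤ) (hβ : ∀ i, β i ∈ Cyc.Zk X δX ((T i).a - p)),
        (∀ i, c.cap (T i).a (ChowOps.cl (T i).u (T i).hu) = ChowOps.cl (β i) (hβ i)) →
        ∀ H : (∑ i, ((T i).n * ChowOps.deg pX δX (β i)) • (T i).v) ∈ Cyc.Zk s.Y s.δ (m - p),
          c.op s m (ChowOps.cl z hz) =
            ChowOps.cl (∑ i, ((T i).n * ChowOps.deg pX δX (β i)) • (T i).v) H := by
  have hYs := isSetup_Y' (isSetup_spec_field K) (sqOf pX δX hδX s)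
  have hPs := isSetup_X' hX (sqOf pX δX hδX s)
  obtain ⟨y, hy⟩ := (Ktot_bijective pX δX hX hK (sqOf pX δX hδX s) m).2
    (ChowOps.cl (AlgebraicCycle.map (gam pX δX s) s.δ (sqOf pX δX hδX s).δX' z)
      (cycMap_mem_Zk (gam pX δX s) s.δ (sqOf pX δX hδX s).δX' m hz))
  obtain ⟨ι, _, T, hT⟩ := exists_decomp pX δX hX (sqOf pX δX hδX s) hK m y
  refine ⟨ι, inferInstance, T, fun {p} c β hβ hcβ H => ?_⟩
  exact main17675 pX (pYs pX δX s) (pullback.fst pX (pYs pX δX s))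
    (pullback.snd pX (pYs pX δX s)) (IsPullback.of_hasPullback pX (pYs pX δX s)) δX s.δ
    (sqOf pX δX hδX s).δX' hX hYs hPs hδX (compat_pYs pX δX hδX s) (sqOf pX δX hδX s).compatX
    s.g s.lft s.compat (gam pX δX s) (gam_fst pX δX s) (gam_snd pX δX s) c z hz
    (fun i => (T i).n) (fun i => (T i).a) (fun i => (T i).u) (fun i => (T i).hu)
    (fun i => (T i).v) (fun i => (T i).hv)
    (fun i => exCyc pX δX hX (sqOf pX δX hδX s) (T i).u (T i).v)
    (fun i => exCyc_mem' pX δX hX (sqOf pX δX hδX s) (T i).u (T i).v (T i).hu (T i).hv)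
    (fun i t => exCyc_apply pX δX hX (sqOf pX δX hδX s) (T i).u (T i).v t)
    (by rw [← hy, hT]; rfl) β hβ hcβ H

include hX hδX hK in
/-- an operational class is determined by its Kronecker functional. -/
theorem unique_functional {p : ℤ} (φ : ChowOps.CH X δX p →+ ℤ) (c c' : OpCl p X δX)
    (hc : HasFunctional pX δX φ c) (hc' : HasFunctional pX δX φ c') : c = c' := by
  apply OpCl.ext
  funext s m
  apply AddMonoidHom.ext
  intro x
  obtain ⟨z, hz, rfl⟩ := exists_rep x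
  obtain ⟨ι, _, T, hT⟩ := op_eq_of_decomp pX δX hX hδX hK s m z hz
  have hrep : ∀ i, ∃ (b : AlgebraicCycle X ℤ) (hb : b ∈ Cyc.Zk X δX ((T i).a - p)),
      ChowOps.cl b hb = c.cap (T i).a (ChowOps.cl (T i).u (T i).hu) := fun i => exists_rep _
  choose β hβ hcβ using hrep
  have hrep' : ∀ i, ∃ (b : AlgebraicCycle X ℤ) (hb : b ∈ Cyc.Zk X δX ((T i).a - p)),
      ChowOps.cl b hb = c'.cap (T i).a (ChowOps.cl (T i).u (T i).hu) := fun i => exists_rep _
  choose β' hβ' hcβ' using hrep'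
  have hdeg : ∀ i, ChowOps.deg pX δX (β i) = ChowOps.deg pX δX (β' i) := by
    intro i
    by_cases h : (T i).a = p
    · rw [deg_of_functional pX δX φ c hc _ h _ (T i).hu _ (hβ i) (hcβ i).symm,
        deg_of_functional pX δX φ c' hc' _ h _ (T i).hu _ (hβ' i) (hcβ' i).symm]
    · rw [deg_eq_zero_of_ne pX δX (β i) (hβ i) (sub_ne_zero.mpr h),
        deg_eq_zero_of_ne pX δX (β' i) (hβ' i) (sub_ne_zero.mpr h)]
  have hmem : ∀ i, ((T i).n * ChowOps.deg pX δX (β i)) • (T i).v ∈ Cyc.Zk s.Y s.δ (m - p) := by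
    intro i
    by_cases h : (T i).a = p
    · apply zsmul_mem_Zk
      have := (T i).hv
      rwa [h] at this
    · rw [deg_eq_zero_of_ne pX δX (β i) (hβ i) (sub_ne_zero.mpr h), mul_zero, zero_smul]
      exact (ChowOps.zk s.Y s.δ (m - p)).zero_mem
  have H : (∑ i, ((T i).n * ChowOps.deg pX δX (β i)) • (T i).v) ∈ Cyc.Zk s.Y s.δ (m - p) :=
    (ChowOps.zk s.Y s.δ (m - p)).sum_mem fun i _ => hmem i
  have H' : (∑ i, ((T i).n * ChowOps.deg pX δX (β' i)) • (T i).v) ∈ Cyc.Zk s.Y s.δ (m - p) := by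
    simp_rw [← hdeg]
    exact H
  rw [hT c β hβ (fun i => (hcβ i).symm) H, hT c' β' hβ' (fun i => (hcβ' i).symm) H']
  apply cl_congr
  simp_rw [hdeg]

end Part5

section Part6

open AlgebraicGeometry CategoryTheory TopologicalSpace Opposite CategoryTheory.Limits
  Bivar Groth.Agent.Lib.R2H1.OpKronecker Groth.Agent.Lib.R2H1.ExtProd
  Groth.Agent.Lib.R2H1.BivarEnv Groth.Agent.Lib.R2H1.MVClosed Groth.Agent.Lib.R2H1.ChowDesc
  Groth.Agent.Lib.R2H1.BivarBirat Groth.Agent.Lib.R2H1.BivarFlat Groth.Agent.Lib.R2H1.BivarPush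
  Groth.Agent.Lib.R2H1.ProperPushRat Groth.Agent.Lib.R2H1.BivarC1
  TensorProduct

variable {K : Type u} [Field K] {X : Scheme.{u}} (pX : X ⟶ Spec (CommRingCat.of K))
  [LocallyOfFiniteType pX] (δX : X → ℤ) (hX : Cyc.IsSetup X δX)
  (hδX : Cyc.DeltaCompat pX δX (δ0 (K := K)))

open Classical in
/-- the cycle of a point. -/
noncomputable def pt (ξ : X) : AlgebraicCycle X ℤ := Function.locallyFinsuppWithin.single ξ 1

open Classical in
theorem pt_apply (ξ x : X) : pt ξ x = if x = ξ then 1 else 0 :=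
  Function.locallyFinsuppWithin.single_apply

open Classical in
theorem coe_pt (ξ : X) : ⇑(pt ξ) = fun x => if x = ξ then 1 else 0 :=
  funext (pt_apply ξ)

theorem pt_mem (ξ : X) {a : ℤ} (h : δX ξ = a) : pt ξ ∈ Cyc.Zk X δX a := by
  intro x hx
  rw [pt_apply, if_neg]
  rintro rfl
  exact hx h

section Class

variable (ξ : X) (r : ℕ) (hr : (r : ℤ) = δX ξ)

include hX in
theorem hV : Cyc.IsSetup (ptScheme X ξ) (fun w => δX (ptι X ξ w)) :=
  Groth.Agent.Lib.R2H1.PullInv.isSetup_of_closedImmersion (ptι X ξ) hX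

include hδX in
theorem compat_gV : Cyc.DeltaCompat (ptι X ξ ≫ pX) (fun w => δX (ptι X ξ w)) (δ0 (K := K)) :=
  deltaCompat_comp _ pX _ δX _ (deltaCompat_closedImmersion (ptι X ξ) δX) hδX

/-- the class of exterior product with a point: the proper pushforward of the flat pullback
class of the closure of the point. -/
noncomputable def Ept : Cl (-(r : ℤ)) pX δX (δ0 (K := K)) :=
  pushCl (ptι X ξ) (hV δX hX ξ) hX (deltaCompat_closedImmersion (ptι X ξ) δX)
    (flatCl (hV δX hX ξ) (isSetup_spec_field K) r (hasRelDim_ptScheme pX δX hδX ξ r hr)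
      (compat_gV pX δX hδX ξ))

end Class

end Part6

section Part7

open AlgebraicGeometry CategoryTheory TopologicalSpace Opposite CategoryTheory.Limits
  Bivar Groth.Agent.Lib.R2H1.OpKronecker Groth.Agent.Lib.R2H1.ExtProd
  Groth.Agent.Lib.R2H1.BivarEnv Groth.Agent.Lib.R2H1.MVClosed Groth.Agent.Lib.R2H1.ChowDesc
  Groth.Agent.Lib.R2H1.BivarBirat Groth.Agent.Lib.R2H1.BivarFlat Groth.Agent.Lib.R2H1.BivarPush
  Groth.Agent.Lib.R2H1.ProperPushRat Groth.Agent.Lib.R2H1.BivarC1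
  TensorProduct

variable {K : Type u} [Field K] {X : Scheme.{u}} (pX : X ⟶ Spec (CommRingCat.of K))
  [LocallyOfFiniteType pX] (δX : X → ℤ) (hX : Cyc.IsSetup X δX)
  (hδX : Cyc.DeltaCompat pX δX (δ0 (K := K)))
  (ξ : X) (r : ℕ) (hr : (r : ℤ) = δX ξ) (sq : Sq pX δX (δ0 (K := K)))

open Classical in
/-- the class of exterior product with a point, computed. -/
theorem Ept_op (k : ℤ) (v : AlgebraicCycle sq.Y' ℤ) (hv : v ∈ Cyc.Zk sq.Y' sq.δY' k)
    (hmem : exCyc pX δX hX sq (pt ξ) v ∈ Cyc.Zk sq.X' sq.δX' (k - -(r : ℤ))) :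
    (Ept pX δX hX hδX ξ r hr).op sq k (ChowOps.cl v hv) =
      ChowOps.cl (exCyc pX δX hX sq (pt ξ) v) hmem := by
  haveI := sq.lft
  haveI : LocallyOfFiniteType sq.g' := lft_g' sq
  have hPs := isSetup_X' hX sq
  -- the fibre product with the closure of the point
  have hX''c : Cyc.DeltaCompat (pullback.snd sq.g' (ptι X ξ))
      (fun z => sq.δX' (pullback.fst sq.g' (ptι X ξ) z)) (fun w => δX (ptι X ξ w)) := by
    apply deltaCompat_cancel (pullback.snd sq.g' (ptι X ξ)) (ptι X ξ) _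
      (deltaCompat_closedImmersion (ptι X ξ) δX)
    rw [← pullback.condition]
    exact deltaCompat_comp _ sq.g' _ sq.δX' δX (deltaCompat_closedImmersion _ sq.δX')
      sq.compatX
  -- the flat pullback of `v`
  obtain ⟨θ, hθc, hθ⟩ := exists_opS_rep (hV δX hX ξ) r
    (hasRelDim_ptScheme pX δX hδX ξ r hr) (compat_gV pX δX hδX ξ)
    (mkSq (ptι X ξ) sq (pullback sq.g' (ptι X ξ)) (pullback.fst sq.g' (ptι X ξ))
      (pullback.snd sq.g' (ptι X ξ)) (IsPullback.of_hasPullback sq.g' (ptι X ξ)) _ hX''c) k v hv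
  have hyp := opS_cl (hV δX hX ξ) (isSetup_spec_field K) r
    (hasRelDim_ptScheme pX δX hδX ξ r hr) (compat_gV pX δX hδX ξ)
    (mkSq (ptι X ξ) sq (pullback sq.g' (ptι X ξ)) (pullback.fst sq.g' (ptι X ξ))
      (pullback.snd sq.g' (ptι X ξ)) (IsPullback.of_hasPullback sq.g' (ptι X ξ)) _ hX''c)
    k v hv θ hθc hθ
  have h1 := opP_spec (ptι X ξ) (hV δX hX ξ) hX (deltaCompat_closedImmersion (ptι X ξ) δX)
    (flatCl (hV δX hX ξ) (isSetup_spec_field K) r (hasRelDim_ptScheme pX δX hδX ξ r hr)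
      (compat_gV pX δX hδX ξ)) sq (pullback sq.g' (ptι X ξ)) (pullback.fst sq.g' (ptι X ξ))
    (pullback.snd sq.g' (ptι X ξ)) (IsPullback.of_hasPullback sq.g' (ptι X ξ)) _ hX''c k v hv θ
    hθ hyp
  refine h1.trans ?_
  apply cl_congr
  ext t
  rw [exCyc_apply, extP_symm, coe_pt]
  exact extP_single sq.g pX sq.f' sq.g' sq.isPullback sq.δY' δX sq.δX' hPs hX.2.2 hδX
    (compat_f' hδX sq) ξ r hr ⇑v θ hθc t

end Part7

section Part8

open AlgebraicGeometry CategoryTheory TopologicalSpace Opposite CategoryTheory.Limits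
  Bivar Groth.Agent.Lib.R2H1.OpKronecker Groth.Agent.Lib.R2H1.ExtProd
  Groth.Agent.Lib.R2H1.BivarEnv Groth.Agent.Lib.R2H1.MVClosed Groth.Agent.Lib.R2H1.ChowDesc
  Groth.Agent.Lib.R2H1.BivarBirat Groth.Agent.Lib.R2H1.BivarFlat Groth.Agent.Lib.R2H1.BivarPush
  Groth.Agent.Lib.R2H1.ProperPushRat Groth.Agent.Lib.R2H1.BivarC1
  TensorProduct

variable {K : Type u} [Field K] {X : Scheme.{u}} (pX : X ⟶ Spec (CommRingCat.of K))
  [LocallyOfFiniteType pX] (δX : X → ℤ) (hX : Cyc.IsSetup X δX)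

open Classical in
/-- on a quasi-compact scheme every cycle class is a finite combination of classes of points. -/
theorem cl_eq_sum_pts [CompactSpace X] (u : AlgebraicCycle X ℤ) {a : ℤ}
    (hu : u ∈ Cyc.Zk X δX a) :
    ∃ (S : Finset X) (hS : ∀ ξ ∈ S, δX ξ = a),
      ChowOps.cl u hu = ∑ ξ : S, u ξ.1 • ChowOps.cl (pt ξ.1) (pt_mem δX ξ.1 (hS ξ.1 ξ.2)) := by
  have hfin := finite_support u
  have hS : ∀ ξ ∈ hfin.toFinset, δX ξ = a := by
    intro ξ hξ
    have hne : u ξ ≠ 0 := hfin.mem_toFinset.1 hξ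
    by_contra h
    exact hne (hu ξ h)
  refine ⟨hfin.toFinset, hS, ?_⟩
  have e : u = ∑ ξ : hfin.toFinset, u ξ.1 • pt ξ.1 := by
    ext x
    rw [Function.locallyFinsuppWithin.coe_sum, Finset.sum_apply,
      Finset.sum_coe_sort hfin.toFinset (fun ξ => (u ξ • pt ξ) x)]
    have e1 : ∀ ξ ∈ hfin.toFinset, (u ξ • pt ξ) x = if x = ξ then u x else 0 := by
      intro ξ _
      rw [Function.locallyFinsuppWithin.coe_zsmul, Pi.smul_apply, pt_apply, smul_eq_mul]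
      split_ifs with h
      · rw [h, mul_one]
      · rw [mul_zero]
    rw [Finset.sum_congr rfl e1, Finset.sum_ite_eq]
    split_ifs with hmem
    · rfl
    · by_contra hne
      exact hmem (hfin.mem_toFinset.2 hne)
  have H : (∑ ξ : hfin.toFinset, u ξ.1 • pt ξ.1) ∈ Cyc.Zk X δX a := e ▸ hu
  rw [cl_congr e hu H, cl_finset_sum (fun ξ : hfin.toFinset => u ξ.1) (fun ξ => pt ξ.1)
    (fun ξ => pt_mem δX ξ.1 (hS ξ.1 ξ.2)) H]

variable (sq : Sq pX δX (δ0 (K := K))) (hK : KunnethHyp pX δX)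

include hK in
/-- additive maps on the Chow group of the product agreeing on exterior products with points
agree. -/
theorem hom_ext_of_pts [CompactSpace X] {M : Type*} [AddCommGroup M] (m : ℤ)
    (F G : ChowOps.CH sq.X' sq.δX' m →+ M)
    (h : ∀ (a : ℤ) (ξ : X) (hξ : δX ξ = a) (v : AlgebraicCycle sq.Y' ℤ)
      (hv : v ∈ Cyc.Zk sq.Y' sq.δY' (m - a)),
      F (ChowOps.cl (exCyc pX δX hX sq (pt ξ) v)
        (exCyc_mem' pX δX hX sq (pt ξ) v (pt_mem δX ξ hξ) hv)) =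
      G (ChowOps.cl (exCyc pX δX hX sq (pt ξ) v)
        (exCyc_mem' pX δX hX sq (pt ξ) v (pt_mem δX ξ hξ) hv))) : F = G := by
  apply AddMonoidHom.ext
  intro w
  obtain ⟨y, rfl⟩ := (Ktot_bijective pX δX hX hK sq m).2 w
  induction y using DirectSum.induction_on with
  | zero => rw [map_zero, map_zero, map_zero]
  | of a z =>
    induction z using TensorProduct.induction_on with
    | zero => rw [map_zero, map_zero, map_zero, map_zero]
    | tmul x y =>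
      obtain ⟨u, hu, rfl⟩ := exists_rep x
      obtain ⟨v, hv, rfl⟩ := exists_rep y
      obtain ⟨S, hS, e⟩ := cl_eq_sum_pts δX u hu
      rw [Ktot_of, e, map_sum, LinearMap.sum_apply, map_sum, map_sum]
      refine Finset.sum_congr rfl fun ξ _ => ?_
      rw [map_zsmul, LinearMap.smul_apply, map_zsmul, map_zsmul, kap_exCyc]
      congr 1
      exact h a ξ.1 (hS ξ.1 ξ.2) v hv
    | add z₁ z₂ h₁ h₂ => rw [map_add, map_add, map_add, map_add, h₁, h₂]
  | add y₁ y₂ h₁ h₂ => rw [map_add, map_add, map_add, h₁, h₂]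

end Part8

section Part9

open AlgebraicGeometry CategoryTheory TopologicalSpace Opposite CategoryTheory.Limits
  Bivar Groth.Agent.Lib.R2H1.OpKronecker Groth.Agent.Lib.R2H1.ExtProd
  Groth.Agent.Lib.R2H1.BivarEnv Groth.Agent.Lib.R2H1.MVClosed Groth.Agent.Lib.R2H1.ChowDesc
  Groth.Agent.Lib.R2H1.BivarBirat Groth.Agent.Lib.R2H1.BivarFlat Groth.Agent.Lib.R2H1.BivarPush
  Groth.Agent.Lib.R2H1.ProperPushRat Groth.Agent.Lib.R2H1.BivarC1
  TensorProduct

variable {K : Type u} [Field K] {X : Scheme.{u}} (pX : X ⟶ Spec (CommRingCat.of K))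
  [LocallyOfFiniteType pX] (δX : X → ℤ) (hX : Cyc.IsSetup X δX)
  (hK : KunnethHyp pX δX) (sq : Sq pX δX (δ0 (K := K)))
  {p : ℤ} (φ : ChowOps.CH X δX p →+ ℤ)

/-- the Künneth isomorphism. -/
noncomputable def Kequiv (m : ℤ) :
    (DirectSum ℤ fun a : ℤ => ChowOps.CH X δX a ⊗[ℤ] ChowOps.CH sq.Y' sq.δY' (m - a)) ≃+
      ChowOps.CH sq.X' sq.δX' m :=
  AddEquiv.ofBijective (Ktot pX δX hX hK sq m).toAddMonoidHom (Ktot_bijective pX δX hX hK sq m)

theorem Kequiv_apply (m : ℤ)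
    (y : DirectSum ℤ fun a : ℤ => ChowOps.CH X δX a ⊗[ℤ] ChowOps.CH sq.Y' sq.δY' (m - a)) :
    Kequiv pX δX hX hK sq m y = Ktot pX δX hX hK sq m y := rfl

/-- the bilinear map `(x, y) ↦ φ(x) y`. -/
noncomputable def φbil (m : ℤ) : ChowOps.CH X δX p →ₗ[ℤ]
    ChowOps.CH sq.Y' sq.δY' (m - p) →ₗ[ℤ] ChowOps.CH sq.Y' sq.δY' (m - p) :=
  (LinearMap.lsmul ℤ (ChowOps.CH sq.Y' sq.δY' (m - p))).comp φ.toIntLinearMap

theorem φbil_apply (m : ℤ) (x : ChowOps.CH X δX p) (y : ChowOps.CH sq.Y' sq.δY' (m - p)) :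
    φbil pX δX sq φ m x y = φ x • y := rfl

/-- the slant product with the functional `φ`. -/
noncomputable def slant (m : ℤ) : ChowOps.CH sq.X' sq.δX' m →+ ChowOps.CH sq.Y' sq.δY' (m - p) :=
  (TensorProduct.lift (φbil pX δX sq φ m)).toAddMonoidHom.comp
    ((DFinsupp.evalAddMonoidHom p).comp (Kequiv pX δX hX hK sq m).symm.toAddMonoidHom)

theorem slant_Ktot (m : ℤ)
    (y : DirectSum ℤ fun a : ℤ => ChowOps.CH X δX a ⊗[ℤ] ChowOps.CH sq.Y' sq.δY' (m - a)) :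
    slant pX δX hX hK sq φ m (Ktot pX δX hX hK sq m y) =
      TensorProduct.lift (φbil pX δX sq φ m) (y p) := by
  unfold slant
  rw [AddMonoidHom.comp_apply, AddMonoidHom.comp_apply, ← Kequiv_apply]
  change (TensorProduct.lift (φbil pX δX sq φ m))
    (DFinsupp.evalAddMonoidHom p ((Kequiv pX δX hX hK sq m).symm (Kequiv pX δX hX hK sq m y))) = _
  rw [AddEquiv.symm_apply_apply]
  rfl

/-- the slant product of an exterior product, in the degree of the functional. -/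
theorem slant_of_eq (m : ℤ) (u : AlgebraicCycle X ℤ) (hu : u ∈ Cyc.Zk X δX p)
    (v : AlgebraicCycle sq.Y' ℤ) (hv : v ∈ Cyc.Zk sq.Y' sq.δY' (m - p)) :
    slant pX δX hX hK sq φ m (ChowOps.cl (exCyc pX δX hX sq u v)
      (exCyc_mem' pX δX hX sq u v hu hv)) = φ (ChowOps.cl u hu) • ChowOps.cl v hv := by
  rw [← kap_exCyc pX δX hX sq hK p m u hu v hv, ← Ktot_of, slant_Ktot, DirectSum.of_eq_same,
    TensorProduct.lift.tmul, φbil_apply]

/-- the slant product of an exterior product, outside the degree of the functional. -/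
theorem slant_of_ne (m a : ℤ) (ha : a ≠ p) (u : AlgebraicCycle X ℤ) (hu : u ∈ Cyc.Zk X δX a)
    (v : AlgebraicCycle sq.Y' ℤ) (hv : v ∈ Cyc.Zk sq.Y' sq.δY' (m - a)) :
    slant pX δX hX hK sq φ m (ChowOps.cl (exCyc pX δX hX sq u v)
      (exCyc_mem' pX δX hX sq u v hu hv)) = 0 := by
  rw [← kap_exCyc pX δX hX sq hK a m u hu v hv, ← Ktot_of, slant_Ktot,
    DirectSum.of_eq_of_ne _ _ _ (Ne.symm ha), map_zero]

end Part9

section Part10

open AlgebraicGeometry CategoryTheory TopologicalSpace Opposite CategoryTheory.Limits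
  Bivar Groth.Agent.Lib.R2H1.OpKronecker Groth.Agent.Lib.R2H1.ExtProd
  Groth.Agent.Lib.R2H1.BivarEnv Groth.Agent.Lib.R2H1.MVClosed Groth.Agent.Lib.R2H1.ChowDesc
  Groth.Agent.Lib.R2H1.BivarBirat Groth.Agent.Lib.R2H1.BivarFlat Groth.Agent.Lib.R2H1.BivarPush
  Groth.Agent.Lib.R2H1.ProperPushRat Groth.Agent.Lib.R2H1.BivarC1
  TensorProduct

variable {K : Type u} [Field K] {X : Scheme.{u}} (pX : X ⟶ Spec (CommRingCat.of K))
  [IsProper pX] (δX : X → ℤ) (hX : Cyc.IsSetup X δX)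
  (hδX : Cyc.DeltaCompat pX δX (δ0 (K := K)))
  (hK : KunnethHyp pX δX) {p : ℤ} (φ : ChowOps.CH X δX p →+ ℤ)

section One

variable (s : OSq X δX)

theorem compat_gam : Cyc.DeltaCompat (gam pX δX s) s.δ (sqOf pX δX hδX s).δX' := by
  apply deltaCompat_cancel (gam pX δX s) (pullback.fst pX (pYs pX δX s)) _
    (sqOf pX δX hδX s).compatX
  rw [gam_fst]
  exact s.compat

include hX hδX in
theorem isSetup_s : Cyc.IsSetup s.Y s.δ :=
  isSetup_Y' (isSetup_spec_field K) (sqOf pX δX hδX s)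

include hX in
theorem isSetup_P : Cyc.IsSetup (pullback pX (pYs pX δX s)) (sqOf pX δX hδX s).δX' :=
  isSetup_X' hX (sqOf pX δX hδX s)

/-- the operation of the class attached to a functional. -/
noncomputable def opK (m : ℤ) : ChowOps.CH s.Y s.δ m →+ ChowOps.CH s.Y s.δ (m - p) :=
  (slant pX δX hX hK (sqOf pX δX hδX s) φ m).comp
    (pushCH (isSetup_s pX δX hX hδX s) (isSetup_P pX δX hX hδX s) (gam pX δX s)
      (compat_gam pX δX hδX s) m)

end One

section Two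

variable (s t : OSq X δX) (h : t.Y ⟶ s.Y) (w : h ≫ s.g = t.g)

/-- the induced morphism of products. -/
noncomputable def Hm : pullback pX (pYs pX δX t) ⟶ pullback pX (pYs pX δX s) :=
  pullback.map pX (pYs pX δX t) pX (pYs pX δX s) (𝟙 X) h (𝟙 _) (by simp)
    (by rw [Category.comp_id, ← Category.assoc, w])

@[reassoc] theorem Hm_fst : Hm pX δX s t h w ≫ pullback.fst pX (pYs pX δX s) =
    pullback.fst pX (pYs pX δX t) := by
  unfold Hm
  rw [pullback.lift_fst, Category.comp_id]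

@[reassoc] theorem Hm_snd : Hm pX δX s t h w ≫ pullback.snd pX (pYs pX δX s) =
    pullback.snd pX (pYs pX δX t) ≫ h := by
  unfold Hm
  rw [pullback.lift_snd]

theorem isPullback_Hm : IsPullback (Hm pX δX s t h w) (pullback.snd pX (pYs pX δX t))
    (pullback.snd pX (pYs pX δX s)) h := by
  have hright : IsPullback (pullback.fst pX (pYs pX δX s)) (pullback.snd pX (pYs pX δX s)) pX
      (pYs pX δX s) := IsPullback.of_hasPullback _ _
  have hbig : IsPullback (Hm pX δX s t h w ≫ pullback.fst pX (pYs pX δX s))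
      (pullback.snd pX (pYs pX δX t)) pX (h ≫ pYs pX δX s) := by
    rw [Hm_fst]
    have e : h ≫ pYs pX δX s = pYs pX δX t := by
      rw [← Category.assoc, w]
    rw [e]
    exact IsPullback.of_hasPullback _ _
  exact IsPullback.of_right hbig (Hm_snd pX δX s t h w) hright

@[reassoc] theorem gam_Hm : gam pX δX t ≫ Hm pX δX s t h w = h ≫ gam pX δX s := by
  apply pullback.hom_ext
  · rw [Category.assoc, Hm_fst, gam_fst, Category.assoc, gam_fst, w]
  · rw [Category.assoc, Hm_snd, gam_snd_assoc, Category.assoc, gam_snd, Category.comp_id]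

theorem isPullback_gam : IsPullback h (gam pX δX t) (gam pX δX s) (Hm pX δX s t h w) := by
  have hright : IsPullback (pullback.snd pX (pYs pX δX t)) (Hm pX δX s t h w) h
      (pullback.snd pX (pYs pX δX s)) := (isPullback_Hm pX δX s t h w).flip
  have hbig : IsPullback (gam pX δX t ≫ pullback.snd pX (pYs pX δX t)) h h
      (gam pX δX s ≫ pullback.snd pX (pYs pX δX s)) := by
    rw [gam_snd, gam_snd]
    exact IsPullback.of_horiz_isIso ⟨by simp⟩
  exact (IsPullback.of_right hbig (gam_Hm pX δX s t h w) hright).flip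

include w in
theorem lft_hT : LocallyOfFiniteType h := by
  haveI := s.lft
  haveI : LocallyOfFiniteType (h ≫ s.g) := by rw [w]; exact t.lft
  exact locallyOfFiniteType_of_comp h s.g

include w in
theorem compat_hT : Cyc.DeltaCompat h t.δ s.δ := by
  haveI := lft_hT δX s t h w
  apply deltaCompat_cancel h s.g _ s.compat
  rw [w]
  exact t.compat

theorem compat_Hm : Cyc.DeltaCompat (Hm pX δX s t h w) (sqOf pX δX hδX t).δX'
    (sqOf pX δX hδX s).δX' := by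
  haveI := lft_hT δX s t h w
  haveI : LocallyOfFiniteType (Hm pX δX s t h w) :=
    MorphismProperty.of_isPullback (P := @LocallyOfFiniteType) (isPullback_Hm pX δX s t h w).flip
      inferInstance
  apply deltaCompat_cancel (Hm pX δX s t h w) (pullback.fst pX (pYs pX δX s)) _
    (sqOf pX δX hδX s).compatX
  rw [Hm_fst]
  exact (sqOf pX δX hδX t).compatX

include w in
/-- the three compatibilities of a morphism of squares. -/
theorem sqw₁ : h ≫ (sqOf pX δX hδX s).g = (sqOf pX δX hδX t).g := by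
  change h ≫ (s.g ≫ pX) = t.g ≫ pX
  rw [← Category.assoc, w]

theorem sqw₂ : Hm pX δX s t h w ≫ (sqOf pX δX hδX s).f' = (sqOf pX δX hδX t).f' ≫ h :=
  Hm_snd pX δX s t h w

theorem sqw₃ : Hm pX δX s t h w ≫ (sqOf pX δX hδX s).g' = (sqOf pX δX hδX t).g' :=
  Hm_fst pX δX s t h w

end Two

end Part10

section Part11

open AlgebraicGeometry CategoryTheory TopologicalSpace Opposite CategoryTheory.Limits
  Bivar Groth.Agent.Lib.R2H1.OpKronecker Groth.Agent.Lib.R2H1.ExtProd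
  Groth.Agent.Lib.R2H1.BivarEnv Groth.Agent.Lib.R2H1.MVClosed Groth.Agent.Lib.R2H1.ChowDesc
  Groth.Agent.Lib.R2H1.BivarBirat Groth.Agent.Lib.R2H1.BivarFlat Groth.Agent.Lib.R2H1.BivarPush
  Groth.Agent.Lib.R2H1.ProperPushRat Groth.Agent.Lib.R2H1.BivarC1 Groth.Agent.Lib.R2H1.Clopen
  TensorProduct

variable {K : Type u} [Field K] {X : Scheme.{u}} (pX : X ⟶ Spec (CommRingCat.of K))
  [IsProper pX] (δX : X → ℤ) (hX : Cyc.IsSetup X δX)
  (hδX : Cyc.DeltaCompat pX δX (δ0 (K := K)))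
  (hK : KunnethHyp pX δX) {p : ℤ} (φ : ChowOps.CH X δX p →+ ℤ)
  (s t : OSq X δX) (h : t.Y ⟶ s.Y) (w : h ≫ s.g = t.g)

include hδX in
theorem exists_r (ξ : X) : ∃ r : ℕ, (r : ℤ) = δX ξ := by
  obtain ⟨n, -, hn⟩ := hδX ξ
  refine ⟨n, ?_⟩
  have h0 : δ0 (K := K) (pX ξ) = 0 := rfl
  rw [h0] at hn
  omega

theorem isProper_Hm [IsProper h] : IsProper (Hm pX δX s t h w) :=
  MorphismProperty.of_isPullback (P := @IsProper) (isPullback_Hm pX δX s t h w).flip inferInstance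

include hX in
/-- proper pushforward of an exterior product with a point. -/
theorem push_exCyc_pt [IsProper h] [IsProper (Hm pX δX s t h w)] (m a : ℤ) (ξ : X)
    (hξ : δX ξ = a) (v : AlgebraicCycle t.Y ℤ) (hv : v ∈ Cyc.Zk t.Y t.δ (m - a)) :
    ChowOps.cl (AlgebraicCycle.map (Hm pX δX s t h w) (sqOf pX δX hδX t).δX'
        (sqOf pX δX hδX s).δX' (exCyc pX δX hX (sqOf pX δX hδX t) (pt ξ) v))
      (cycMap_mem_Zk _ _ _ m
        (exCyc_mem' pX δX hX (sqOf pX δX hδX t) (pt ξ) v (pt_mem δX ξ hξ) hv)) =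
    ChowOps.cl (exCyc pX δX hX (sqOf pX δX hδX s) (pt ξ) (AlgebraicCycle.map h t.δ s.δ v))
      (exCyc_mem' pX δX hX (sqOf pX δX hδX s) (pt ξ) _ (pt_mem δX ξ hξ)
        (cycMap_mem_Zk h t.δ s.δ (m - a) hv)) := by
  obtain ⟨r, hr⟩ := exists_r pX δX hδX ξ
  have hidx : m - a - -(r : ℤ) = m := by rw [hr, hξ]; ring
  have hmem_t : exCyc pX δX hX (sqOf pX δX hδX t) (pt ξ) v ∈
      Cyc.Zk (sqOf pX δX hδX t).X' (sqOf pX δX hδX t).δX' (m - a - -(r : ℤ)) := by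
    rw [hidx]
    exact exCyc_mem' pX δX hX (sqOf pX δX hδX t) (pt ξ) v (pt_mem δX ξ hξ) hv
  have hmem_s : exCyc pX δX hX (sqOf pX δX hδX s) (pt ξ) (AlgebraicCycle.map h t.δ s.δ v) ∈
      Cyc.Zk (sqOf pX δX hδX s).X' (sqOf pX δX hδX s).δX' (m - a - -(r : ℤ)) := by
    rw [hidx]
    exact exCyc_mem' pX δX hX (sqOf pX δX hδX s) (pt ξ) _ (pt_mem δX ξ hξ)
      (cycMap_mem_Zk h t.δ s.δ (m - a) hv)
  have e_t := Ept_op pX δX hX hδX ξ r hr (sqOf pX δX hδX t) (m - a) v hv hmem_t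
  have e_s := Ept_op pX δX hX hδX ξ r hr (sqOf pX δX hδX s) (m - a)
    (AlgebraicCycle.map h t.δ s.δ v) (cycMap_mem_Zk h t.δ s.δ (m - a) hv) hmem_s
  have hpush := (Ept pX δX hX hδX ξ r hr).push (sqOf pX δX hδX s) (sqOf pX δX hδX t) h
    (Hm pX δX s t h w) (sqw₁ pX δX hδX s t h w) (sqw₂ pX δX hδX s t h w)
    (sqw₃ pX δX hδX s t h w) (m - a)
  have e1 := pushOK_rep (isSetup_P pX δX hX hδX t) (isSetup_P pX δX hX hδX s) h
    (Hm pX δX s t h w) (compat_Hm pX δX hδX s t h w) _ _ hpush v hv _ hmem_t e_t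
  exact cl_index_congr hidx _ _ _ _ _ _ (e1.symm.trans e_s)

end Part11

section Part12

open AlgebraicGeometry CategoryTheory TopologicalSpace Opposite CategoryTheory.Limits
  Bivar Groth.Agent.Lib.R2H1.OpKronecker Groth.Agent.Lib.R2H1.ExtProd
  Groth.Agent.Lib.R2H1.BivarEnv Groth.Agent.Lib.R2H1.MVClosed Groth.Agent.Lib.R2H1.ChowDesc
  Groth.Agent.Lib.R2H1.BivarBirat Groth.Agent.Lib.R2H1.BivarFlat Groth.Agent.Lib.R2H1.BivarPush
  Groth.Agent.Lib.R2H1.ProperPushRat Groth.Agent.Lib.R2H1.BivarC1 Groth.Agent.Lib.R2H1.Clopen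
  TensorProduct

variable {K : Type u} [Field K] {X : Scheme.{u}} (pX : X ⟶ Spec (CommRingCat.of K))
  [IsProper pX] (δX : X → ℤ) (hX : Cyc.IsSetup X δX)
  (hδX : Cyc.DeltaCompat pX δX (δ0 (K := K)))
  (hK : KunnethHyp pX δX) {p : ℤ} (φ : ChowOps.CH X δX p →+ ℤ)
  (s t : OSq X δX) (h : t.Y ⟶ s.Y) (w : h ≫ s.g = t.g)

/-- the slant product commutes with proper pushforward. -/
theorem slant_push [IsProper h] [IsProper (Hm pX δX s t h w)] [CompactSpace X] (m : ℤ)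
    (x : ChowOps.CH (sqOf pX δX hδX t).X' (sqOf pX δX hδX t).δX' m) :
    slant pX δX hX hK (sqOf pX δX hδX s) φ m
      (pushCH (isSetup_P pX δX hX hδX t) (isSetup_P pX δX hX hδX s) (Hm pX δX s t h w)
        (compat_Hm pX δX hδX s t h w) m x) =
    pushCH (isSetup_s pX δX hX hδX t) (isSetup_s pX δX hX hδX s) h (compat_hT δX s t h w) (m - p)
      (slant pX δX hX hK (sqOf pX δX hδX t) φ m x) := by
  have key := hom_ext_of_pts pX δX hX (sqOf pX δX hδX t) hK m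
    ((slant pX δX hX hK (sqOf pX δX hδX s) φ m).comp
      (pushCH (isSetup_P pX δX hX hδX t) (isSetup_P pX δX hX hδX s) (Hm pX δX s t h w)
        (compat_Hm pX δX hδX s t h w) m))
    ((pushCH (isSetup_s pX δX hX hδX t) (isSetup_s pX δX hX hδX s) h (compat_hT δX s t h w)
      (m - p)).comp (slant pX δX hX hK (sqOf pX δX hδX t) φ m)) ?_
  · exact DFunLike.congr_fun key x
  · intro a ξ hξ v hv
    rw [AddMonoidHom.comp_apply, AddMonoidHom.comp_apply, pushCH_cl,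
      push_exCyc_pt pX δX hX hδX s t h w m a ξ hξ v hv]
    by_cases ha : a = p
    · subst ha
      rw [slant_of_eq pX δX hX hK (sqOf pX δX hδX s) φ m (pt ξ) (pt_mem δX ξ hξ) _
        (cycMap_mem_Zk h t.δ s.δ (m - a) hv),
        slant_of_eq pX δX hX hK (sqOf pX δX hδX t) φ m (pt ξ) (pt_mem δX ξ hξ) v hv, map_zsmul,
        pushCH_cl]
    · rw [slant_of_ne pX δX hX hK (sqOf pX δX hδX s) φ m a ha (pt ξ) (pt_mem δX ξ hξ) _
        (cycMap_mem_Zk h t.δ s.δ (m - a) hv),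
        slant_of_ne pX δX hX hK (sqOf pX δX hδX t) φ m a ha (pt ξ) (pt_mem δX ξ hξ) v hv,
        map_zero]

include w in
/-- the class attached to a functional is compatible with proper pushforward. -/
theorem opK_push [IsProper h] [CompactSpace X] (k : ℤ) :
    PushOK t.δ t.δ s.δ s.δ h h (opK pX δX hX hδX hK φ t k) (opK pX δX hX hδX hK φ s k) := by
  haveI := isProper_Hm pX δX s t h w
  intro α hα
  obtain ⟨β, hβ, e⟩ := exists_rep (opK pX δX hX hδX hK φ t k (ChowOps.cl α hα))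
  refine ⟨β, hβ, e.symm, ?_⟩
  have hfun : AlgebraicCycle.map (gam pX δX s) s.δ (sqOf pX δX hδX s).δX'
      (AlgebraicCycle.map h t.δ s.δ α) =
      AlgebraicCycle.map (Hm pX δX s t h w) (sqOf pX δX hδX t).δX' (sqOf pX δX hδX s).δX'
        (AlgebraicCycle.map (gam pX δX t) t.δ (sqOf pX δX hδX t).δX' α) := by
    haveI : QuasiCompact (gam pX δX t ≫ Hm pX δX s t h w) := inferInstance
    haveI : QuasiCompact (h ≫ gam pX δX s) := inferInstance
    rw [Groth.Agent.S1859.result _ _ _ t.δ s.δ (sqOf pX δX hδX s).δX'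
      (isSetup_s pX δX hX hδX t) (isSetup_s pX δX hX hδX s) (isSetup_P pX δX hX hδX s) h
      (gam pX δX s) (compat_hT δX s t h w) (compat_gam pX δX hδX s) k α hα,
      Groth.Agent.S1859.result _ _ _ t.δ (sqOf pX δX hδX t).δX' (sqOf pX δX hδX s).δX'
      (isSetup_s pX δX hX hδX t) (isSetup_P pX δX hX hδX t) (isSetup_P pX δX hX hδX s)
      (gam pX δX t) (Hm pX δX s t h w) (compat_gam pX δX hδX t) (compat_Hm pX δX hδX s t h w) k α
      hα]
    exact (map_congr_hom (gam_Hm pX δX s t h w) _ _ _).symm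
  unfold opK
  rw [AddMonoidHom.comp_apply, pushCH_cl, cl_congr hfun _
    (cycMap_mem_Zk _ _ _ k (cycMap_mem_Zk (gam pX δX t) t.δ (sqOf pX δX hδX t).δX' k hα)),
    ← pushCH_cl (isSetup_P pX δX hX hδX t) (isSetup_P pX δX hX hδX s) (Hm pX δX s t h w)
      (compat_Hm pX δX hδX s t h w) k, slant_push pX δX hX hδX hK φ s t h w k,
    ← pushCH_cl (isSetup_s pX δX hX hδX t) (isSetup_s pX δX hX hδX s) h (compat_hT δX s t h w)
      (k - p) β hβ, e]
  rfl

end Part12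

section Part13

open AlgebraicGeometry CategoryTheory TopologicalSpace Opposite CategoryTheory.Limits
  Bivar Groth.Agent.Lib.R2H1.OpKronecker Groth.Agent.Lib.R2H1.ExtProd
  Groth.Agent.Lib.R2H1.BivarEnv Groth.Agent.Lib.R2H1.MVClosed Groth.Agent.Lib.R2H1.ChowDesc
  Groth.Agent.Lib.R2H1.BivarBirat Groth.Agent.Lib.R2H1.BivarFlat Groth.Agent.Lib.R2H1.BivarPush
  Groth.Agent.Lib.R2H1.ProperPushRat Groth.Agent.Lib.R2H1.BivarC1 Groth.Agent.Lib.R2H1.Clopen
  Groth.Agent.Lib.R2H1.RelDimBC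
  TensorProduct

variable {K : Type u} [Field K] {X : Scheme.{u}} (pX : X ⟶ Spec (CommRingCat.of K))
  [IsProper pX] (δX : X → ℤ) (hX : Cyc.IsSetup X δX)
  (hδX : Cyc.DeltaCompat pX δX (δ0 (K := K)))
  (hK : KunnethHyp pX δX) {p : ℤ} (φ : ChowOps.CH X δX p →+ ℤ)
  (s t : OSq X δX) (h : t.Y ⟶ s.Y) (w : h ≫ s.g = t.g)

theorem flat_Hm [Flat h] : Flat (Hm pX δX s t h w) :=
  MorphismProperty.of_isPullback (P := @Flat) (isPullback_Hm pX δX s t h w).flip inferInstance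

theorem lft_Hm : LocallyOfFiniteType (Hm pX δX s t h w) := by
  haveI := lft_hT δX s t h w
  exact MorphismProperty.of_isPullback (P := @LocallyOfFiniteType)
    (isPullback_Hm pX δX s t h w).flip inferInstance

theorem relDim_Hm (r : ℕ) (hr : Cyc.HasRelDim h r) : Cyc.HasRelDim (Hm pX δX s t h w) r := by
  haveI := lft_hT δX s t h w
  exact hasRelDim_of_isPullback (isPullback_Hm pX δX s t h w) r hr

include hX in
/-- flat pullback of an exterior product with a point. -/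
theorem pull_exCyc_pt [Flat h] [Flat (Hm pX δX s t h w)]
    [LocallyOfFiniteType (Hm pX δX s t h w)] (r : ℕ) (hr : Cyc.HasRelDim h r) (k a : ℤ) (ξ : X)
    (hξ : δX ξ = a) (v : AlgebraicCycle s.Y ℤ) (hv : v ∈ Cyc.Zk s.Y s.δ (k - a))
    (v₁ : AlgebraicCycle t.Y ℤ) (hv₁c : ⇑v₁ = Cyc.pullFun h t.δ s.δ (r : ℤ) ⇑v)
    (hv₁ : v₁ ∈ Cyc.Zk t.Y t.δ (k + r - a))
    (θ : AlgebraicCycle (sqOf pX δX hδX t).X' ℤ)
    (hθc : ⇑θ = Cyc.pullFun (Hm pX δX s t h w) (sqOf pX δX hδX t).δX' (sqOf pX δX hδX s).δX'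
      (r : ℤ) ⇑(exCyc pX δX hX (sqOf pX δX hδX s) (pt ξ) v))
    (hθ : θ ∈ Cyc.Zk (sqOf pX δX hδX t).X' (sqOf pX δX hδX t).δX' (k + r)) :
    ChowOps.cl θ hθ = ChowOps.cl (exCyc pX δX hX (sqOf pX δX hδX t) (pt ξ) v₁)
      (exCyc_mem' pX δX hX (sqOf pX δX hδX t) (pt ξ) v₁ (pt_mem δX ξ hξ) hv₁) := by
  obtain ⟨r₀, hr₀⟩ := exists_r pX δX hδX ξ
  have hidx_s : k - a - -(r₀ : ℤ) = k := by rw [hr₀, hξ]; ring
  have hidx_t : k - a + r - -(r₀ : ℤ) = k + r := by rw [hr₀, hξ]; ring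
  have hv₁' : v₁ ∈ Cyc.Zk t.Y t.δ (k - a + r) := by
    rwa [show k - a + (r : ℤ) = k + r - a by ring]
  have hmem_s : exCyc pX δX hX (sqOf pX δX hδX s) (pt ξ) v ∈
      Cyc.Zk (sqOf pX δX hδX s).X' (sqOf pX δX hδX s).δX' (k - a - -(r₀ : ℤ)) := by
    rw [hidx_s]
    exact exCyc_mem' pX δX hX (sqOf pX δX hδX s) (pt ξ) v (pt_mem δX ξ hξ) hv
  have hmem_t : exCyc pX δX hX (sqOf pX δX hδX t) (pt ξ) v₁ ∈
      Cyc.Zk (sqOf pX δX hδX t).X' (sqOf pX δX hδX t).δX' (k - a + r - -(r₀ : ℤ)) := by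
    rw [hidx_t]
    exact exCyc_mem' pX δX hX (sqOf pX δX hδX t) (pt ξ) v₁ (pt_mem δX ξ hξ) hv₁
  have hθ' : θ ∈ Cyc.Zk (sqOf pX δX hδX t).X' (sqOf pX δX hδX t).δX'
      (k - a + r - -(r₀ : ℤ)) := by
    rwa [hidx_t]
  have e_s := Ept_op pX δX hX hδX ξ r₀ hr₀ (sqOf pX δX hδX s) (k - a) v hv hmem_s
  have e_t := Ept_op pX δX hX hδX ξ r₀ hr₀ (sqOf pX δX hδX t) (k - a + r) v₁ hv₁' hmem_t
  have hpull := (Ept pX δX hX hδX ξ r₀ hr₀).pull (sqOf pX δX hδX s) (sqOf pX δX hδX t) h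
    (Hm pX δX s t h w) r hr (relDim_Hm pX δX s t h w r hr) (sqw₁ pX δX hδX s t h w)
    (sqw₂ pX δX hδX s t h w) (sqw₃ pX δX hδX s t h w) (k - a)
  have e1 := pullOK_rep (isSetup_P pX δX hX hδX s) (isSetup_P pX δX hX hδX t) h
    (Hm pX δX s t h w) r (relDim_Hm pX δX s t h w r hr) (compat_Hm pX δX hδX s t h w)
    (by ring) _ _ hpull v hv _ hmem_s e_s v₁ hv₁c hv₁' θ hθc hθ'
  exact cl_index_congr hidx_t _ _ _ _ _ _ (e1.symm.trans e_t)

end Part13

section Part14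

open AlgebraicGeometry CategoryTheory TopologicalSpace Opposite CategoryTheory.Limits
  Bivar Groth.Agent.Lib.R2H1.OpKronecker Groth.Agent.Lib.R2H1.ExtProd
  Groth.Agent.Lib.R2H1.BivarEnv Groth.Agent.Lib.R2H1.MVClosed Groth.Agent.Lib.R2H1.ChowDesc
  Groth.Agent.Lib.R2H1.BivarBirat Groth.Agent.Lib.R2H1.BivarFlat Groth.Agent.Lib.R2H1.BivarPush
  Groth.Agent.Lib.R2H1.ProperPushRat Groth.Agent.Lib.R2H1.BivarC1 Groth.Agent.Lib.R2H1.Clopen
  Groth.Agent.Lib.R2H1.RelDimBC Groth.Agent.Lib.R2H1.IsoTransport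
  TensorProduct

variable {K : Type u} [Field K] {X : Scheme.{u}} (pX : X ⟶ Spec (CommRingCat.of K))
  [IsProper pX] (δX : X → ℤ) (hX : Cyc.IsSetup X δX)
  (hδX : Cyc.DeltaCompat pX δX (δ0 (K := K)))
  (hK : KunnethHyp pX δX) {p : ℤ} (φ : ChowOps.CH X δX p →+ ℤ)
  (s t : OSq X δX) (h : t.Y ⟶ s.Y) (w : h ≫ s.g = t.g)

/-- the slant product commutes with flat pullback. -/
theorem slant_pull [Flat h] [LocallyOfFiniteType h] [Flat (Hm pX δX s t h w)]
    [LocallyOfFiniteType (Hm pX δX s t h w)] [CompactSpace X] (r : ℕ)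
    (hr : Cyc.HasRelDim h r) (k : ℤ)
    (x : ChowOps.CH (sqOf pX δX hδX s).X' (sqOf pX δX hδX s).δX' k) :
    slant pX δX hX hK (sqOf pX δX hδX t) φ (k + r)
      (pullCH (sqOf pX δX hδX t).δX' (sqOf pX δX hδX s).δX' (isSetup_P pX δX hX hδX t)
        (isSetup_P pX δX hX hδX s) (Hm pX δX s t h w) r (relDim_Hm pX δX s t h w r hr)
        (compat_Hm pX δX hδX s t h w) k x) =
    chCast t.Y t.δ (show k - p + (r : ℤ) = k + r - p by ring)
      (pullCH t.δ s.δ (isSetup_s pX δX hX hδX t) (isSetup_s pX δX hX hδX s) h r hr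
        (compat_hT δX s t h w) (k - p) (slant pX δX hX hK (sqOf pX δX hδX s) φ k x)) := by
  have key := hom_ext_of_pts pX δX hX (sqOf pX δX hδX s) hK k
    ((slant pX δX hX hK (sqOf pX δX hδX t) φ (k + r)).comp
      (pullCH (sqOf pX δX hδX t).δX' (sqOf pX δX hδX s).δX' (isSetup_P pX δX hX hδX t)
        (isSetup_P pX δX hX hδX s) (Hm pX δX s t h w) r (relDim_Hm pX δX s t h w r hr)
        (compat_Hm pX δX hδX s t h w) k))
    ((chCast t.Y t.δ (show k - p + (r : ℤ) = k + r - p by ring)).toAddMonoidHom.comp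
      ((pullCH t.δ s.δ (isSetup_s pX δX hX hδX t) (isSetup_s pX δX hX hδX s) h r hr
        (compat_hT δX s t h w) (k - p)).comp (slant pX δX hX hK (sqOf pX δX hδX s) φ k))) ?_
  · exact DFunLike.congr_fun key x
  · intro a ξ hξ v hv
    obtain ⟨θ, hθc, hθ⟩ := exists_pull (sqOf pX δX hδX t).δX' (sqOf pX δX hδX s).δX'
      (isSetup_P pX δX hX hδX t) (Hm pX δX s t h w) r (relDim_Hm pX δX s t h w r hr)
      (compat_Hm pX δX hδX s t h w) k (exCyc pX δX hX (sqOf pX δX hδX s) (pt ξ) v)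
      (exCyc_mem' pX δX hX (sqOf pX δX hδX s) (pt ξ) v (pt_mem δX ξ hξ) hv)
    obtain ⟨v₁, hv₁c, hv₁'⟩ := exists_pull t.δ s.δ (isSetup_s pX δX hX hδX t) h r hr
      (compat_hT δX s t h w) (k - a) v hv
    have hv₁ : v₁ ∈ Cyc.Zk t.Y t.δ (k + r - a) := by
      rwa [show k + (r : ℤ) - a = k - a + r by ring]
    rw [AddMonoidHom.comp_apply, AddMonoidHom.comp_apply, AddMonoidHom.comp_apply,
      pullCH_cl _ _ _ _ _ _ _ _ _ _ _ θ hθc hθ,
      pull_exCyc_pt pX δX hX hδX s t h w r hr k a ξ hξ v hv v₁ hv₁c hv₁ θ hθc hθ]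
    by_cases ha : a = p
    · subst ha
      rw [slant_of_eq pX δX hX hK (sqOf pX δX hδX t) φ (k + r) (pt ξ) (pt_mem δX ξ hξ) v₁ hv₁,
        slant_of_eq pX δX hX hK (sqOf pX δX hδX s) φ k (pt ξ) (pt_mem δX ξ hξ) v hv, map_zsmul,
        pullCH_cl _ _ _ _ _ _ _ _ _ _ _ v₁ hv₁c hv₁']
      change _ = chCast t.Y t.δ _ _
      rw [map_zsmul, chCast_cl]
    · rw [slant_of_ne pX δX hX hK (sqOf pX δX hδX t) φ (k + r) a ha (pt ξ) (pt_mem δX ξ hξ) v₁
        hv₁,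
        slant_of_ne pX δX hX hK (sqOf pX δX hδX s) φ k a ha (pt ξ) (pt_mem δX ξ hξ) v hv,
        map_zero, map_zero]

include w in
/-- the class attached to a functional is compatible with flat pullback. -/
theorem opK_pull [Flat h] [CompactSpace X] (r : ℕ) (hr : Cyc.HasRelDim h r) (k : ℤ) :
    PullOK s.δ s.δ t.δ t.δ h h (r : ℤ) (opK pX δX hX hδX hK φ s k)
      (opK pX δX hX hδX hK φ t (k + r)) := by
  haveI := lft_hT δX s t h w
  haveI := flat_Hm pX δX s t h w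
  haveI := lft_Hm pX δX s t h w
  intro α hα
  obtain ⟨β, hβ, e⟩ := exists_rep (opK pX δX hX hδX hK φ s k (ChowOps.cl α hα))
  refine ⟨β, hβ, e.symm, fun α₁ hα₁c hα₁ => ?_⟩
  obtain ⟨β₁, hβ₁c, hβ₁'⟩ := exists_pull t.δ s.δ (isSetup_s pX δX hX hδX t) h r hr
    (compat_hT δX s t h w) (k - p) β hβ
  have hβ₁ : β₁ ∈ Cyc.Zk t.Y t.δ (k + r - p) := by
    rwa [show k + (r : ℤ) - p = k - p + r by ring]
  refine ⟨β₁, hβ₁, hβ₁c, ?_⟩
  have hfun : ⇑(AlgebraicCycle.map (gam pX δX t) t.δ (sqOf pX δX hδX t).δX' α₁) =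
      Cyc.pullFun (Hm pX δX s t h w) (sqOf pX δX hδX t).δX' (sqOf pX δX hδX s).δX' (r : ℤ)
        ⇑(AlgebraicCycle.map (gam pX δX s) s.δ (sqOf pX δX hδX s).δX' α) := by
    refine ML_sq (isPullback_gam pX δX s t h w) s.δ (sqOf pX δX hδX s).δX'
      (sqOf pX δX hδX t).δX' t.δ (r : ℤ) (compat_gam pX δX hδX s) (compat_gam pX δX hδX t) ?_
      α α₁ hα₁c
    intro y'
    exact (Groth.Agent.Lib.R2H3.CycFlat.delta_le (Hm pX δX s t h w) (sqOf pX δX hδX s).δX'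
      (sqOf pX δX hδX t).δX' (isSetup_P pX δX hX hδX t).2.2 (r : ℤ)
      (shift_of (sqOf pX δX hδX t).δX' (sqOf pX δX hδX s).δX' (Hm pX δX s t h w) r
        (relDim_Hm pX δX s t h w r hr) (compat_Hm pX δX hδX s t h w)) y').1
  unfold opK
  rw [AddMonoidHom.comp_apply, pushCH_cl,
    ← pullCH_cl (sqOf pX δX hδX t).δX' (sqOf pX δX hδX s).δX' (isSetup_P pX δX hX hδX t)
      (isSetup_P pX δX hX hδX s) (Hm pX δX s t h w) r (relDim_Hm pX δX s t h w r hr)
      (compat_Hm pX δX hδX s t h w) k _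
      (cycMap_mem_Zk (gam pX δX s) s.δ (sqOf pX δX hδX s).δX' k hα) _ hfun,
    slant_pull pX δX hX hδX hK φ s t h w r hr k, ← pushCH_cl (isSetup_s pX δX hX hδX s)
      (isSetup_P pX δX hX hδX s) (gam pX δX s) (compat_gam pX δX hδX s) k α hα]
  have e' : slant pX δX hX hK (sqOf pX δX hδX s) φ k
      (pushCH (isSetup_s pX δX hX hδX s) (isSetup_P pX δX hX hδX s) (gam pX δX s)
        (compat_gam pX δX hδX s) k (ChowOps.cl α hα)) = ChowOps.cl β hβ := e.symm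
  rw [e', pullCH_cl _ _ _ _ _ _ _ _ _ _ _ β₁ hβ₁c hβ₁', chCast_cl]

end Part14

section Part15

open AlgebraicGeometry CategoryTheory TopologicalSpace Opposite CategoryTheory.Limits
  Bivar Groth.Agent.Lib.R2H1.OpKronecker Groth.Agent.Lib.R2H1.ExtProd
  Groth.Agent.Lib.R2H1.BivarEnv Groth.Agent.Lib.R2H1.MVClosed Groth.Agent.Lib.R2H1.ChowDesc
  Groth.Agent.Lib.R2H1.BivarBirat Groth.Agent.Lib.R2H1.BivarFlat Groth.Agent.Lib.R2H1.BivarPush
  Groth.Agent.Lib.R2H1.ProperPushRat Groth.Agent.Lib.R2H1.BivarC1 Groth.Agent.Lib.R2H1.Clopen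
  Groth.Agent.Lib.R2H1.RelDimBC Groth.Agent.Lib.R2H1.IsoTransport Groth.Agent.Lib.R2H1.BivarGysin
  Groth.Agent.Lib.R2H1.ZeroBC Groth.Agent.Lib.R2H1.C1Chow
  TensorProduct

section General

variable {S D S' E : Scheme.{u}} {δS : S → ℤ} {δD : D → ℤ} {δS' : S' → ℤ} {δE : E → ℤ}

/-- compatibility with Gysin maps, for arbitrary representatives. -/
theorem gysinOK_rep (hS' : Cyc.IsSetup S' δS') (i : D ⟶ S) (L : S.Modules)
    (σ : L.presheaf.obj (op ⊤)) (j : E ⟶ S') [IsClosedImmersion j]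
    (hδE : δE = fun e => δS' (j e)) (N : S'.Modules) (hN : PicF.IsInvertible N)
    (τ : N.presheaf.obj (op ⊤)) (hτ : Cyc.IsZeroSchemeOf j N τ) {k l k₁ l₁ : ℤ}
    (e : l₁ = l - 1)
    (φ : ChowOps.CH S δS k →+ ChowOps.CH S' δS' l) (ψ : ChowOps.CH D δD k₁ →+ ChowOps.CH E δE l₁)
    (hOK : GysinOK δS δD δS' δE i L σ j N τ φ ψ)
    (α : AlgebraicCycle S ℤ) (hα : α ∈ Cyc.Zk S δS k) (β : AlgebraicCycle S' ℤ)
    (hβ : β ∈ Cyc.Zk S' δS' l) (hφ : φ (ChowOps.cl α hα) = ChowOps.cl β hβ)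
    (w : (ξ : S) → Cyc.secFibre L ξ) (hw : ∀ ξ, w ξ ≠ 0) (γ : AlgebraicCycle D ℤ)
    (hγc : ∀ d, γ d = Cyc.c1CapFun δS L ⇑α (Cyc.gysinChoice L σ w) (i d))
    (hγ : γ ∈ Cyc.Zk D δD k₁)
    (w' : (ξ : S') → Cyc.secFibre N ξ) (hw' : ∀ ξ, w' ξ ≠ 0) (ζ : AlgebraicCycle E ℤ)
    (hζc : ∀ e, ζ e = Cyc.c1CapFun δS' N ⇑β (Cyc.gysinChoice N τ w') (j e))
    (hζ : ζ ∈ Cyc.Zk E δE l₁) :
    ψ (ChowOps.cl γ hγ) = ChowOps.cl ζ hζ := by
  obtain ⟨β', hβ', e1, e2⟩ := hOK α hα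
  obtain ⟨ζ', hζ', c1, c2⟩ := e2 w hw γ hγc hγ w' hw'
  rw [c2]
  subst e
  rw [← gysCH_cl δS' hS' j δE hδE N hN τ hτ l β' hβ' τ hτ w' hw' ζ' c1 hζ',
    ← gysCH_cl δS' hS' j δE hδE N hN τ hτ l β hβ τ hτ w' hw' ζ hζc hζ, ← e1, hφ]

end General

variable {K : Type u} [Field K] {X : Scheme.{u}} (pX : X ⟶ Spec (CommRingCat.of K))
  [IsProper pX] (δX : X → ℤ) (hX : Cyc.IsSetup X δX)
  (hδX : Cyc.DeltaCompat pX δX (δ0 (K := K)))
  (hK : KunnethHyp pX δX) {p : ℤ} (φ : ChowOps.CH X δX p →+ ℤ)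
  (s t : OSq X δX) (i : t.Y ⟶ s.Y) (w : i ≫ s.g = t.g)

theorem isClosedImmersion_Hm [IsClosedImmersion i] : IsClosedImmersion (Hm pX δX s t i w) :=
  MorphismProperty.of_isPullback (P := @IsClosedImmersion) (isPullback_Hm pX δX s t i w).flip
    inferInstance

include w in
theorem δt_eq [IsClosedImmersion i] : t.δ = fun d => s.δ (i d) :=
  delta_closedImmersion i t.δ s.δ (compat_hT δX s t i w)

theorem δPt_eq [IsClosedImmersion i] [IsClosedImmersion (Hm pX δX s t i w)] :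
    (sqOf pX δX hδX t).δX' = fun z => (sqOf pX δX hδX s).δX' (Hm pX δX s t i w z) :=
  delta_closedImmersion (Hm pX δX s t i w) _ _ (compat_Hm pX δX hδX s t i w)

variable (L : s.Y.Modules) (hL : PicF.IsInvertible L) (σ : L.presheaf.obj (op ⊤))
  (hσ : Cyc.IsZeroSchemeOf i L σ)

/-- the pulled back module on the product. -/
noncomputable abbrev Nm : (pullback pX (pYs pX δX s)).Modules :=
  (Scheme.Modules.pullback (pullback.snd pX (pYs pX δX s))).obj L

include hL in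
theorem inv_Nm : PicF.IsInvertible (Nm pX δX s L) := inv_pull _ L hL

/-- the pulled back section on the product. -/
noncomputable abbrev τm : (Nm pX δX s L).presheaf.obj (op ⊤) :=
  pullTop (pullback.snd pX (pYs pX δX s)) L σ

include hL hσ in
theorem hτm [IsClosedImmersion i] :
    Cyc.IsZeroSchemeOf (Hm pX δX s t i w) (Nm pX δX s L) (τm pX δX s L σ) :=
  isZeroSchemeOf_base (pullback.snd pX (pYs pX δX s)) i (Hm pX δX s t i w)
    (pullback.snd pX (pYs pX δX t)) (isPullback_Hm pX δX s t i w) L hL σ hσ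

/-- the comparison of `L` with the restriction of its pullback to the graph. -/
noncomputable def Ψm : L ≅ (Scheme.Modules.pullback (gam pX δX s)).obj (Nm pX δX s L) :=
  (pullIso (gam pX δX s) (pullback.snd pX (pYs pX δX s)) (𝟙 s.Y) (gam_snd pX δX s) L ≪≫
    (Scheme.Modules.pullbackId s.Y).app L).symm

end Part15

section Part16

open AlgebraicGeometry CategoryTheory TopologicalSpace Opposite CategoryTheory.Limits
  Bivar Groth.Agent.Lib.R2H1.OpKronecker Groth.Agent.Lib.R2H1.ExtProd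
  Groth.Agent.Lib.R2H1.BivarEnv Groth.Agent.Lib.R2H1.MVClosed Groth.Agent.Lib.R2H1.ChowDesc
  Groth.Agent.Lib.R2H1.BivarBirat Groth.Agent.Lib.R2H1.BivarFlat Groth.Agent.Lib.R2H1.BivarPush
  Groth.Agent.Lib.R2H1.ProperPushRat Groth.Agent.Lib.R2H1.BivarC1 Groth.Agent.Lib.R2H1.Clopen
  Groth.Agent.Lib.R2H1.RelDimBC Groth.Agent.Lib.R2H1.IsoTransport Groth.Agent.Lib.R2H1.BivarGysin
  Groth.Agent.Lib.R2H1.ZeroBC Groth.Agent.Lib.R2H1.C1Chow
  TensorProduct

variable {K : Type u} [Field K] {X : Scheme.{u}} (pX : X ⟶ Spec (CommRingCat.of K))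
  [IsProper pX] (δX : X → ℤ) (hX : Cyc.IsSetup X δX)
  (hδX : Cyc.DeltaCompat pX δX (δ0 (K := K)))
  (s t : OSq X δX) (i : t.Y ⟶ s.Y) (w : i ≫ s.g = t.g)
  (L : s.Y.Modules) (hL : PicF.IsInvertible L) (σ : L.presheaf.obj (op ⊤))
  (hσ : Cyc.IsZeroSchemeOf i L σ)

include hX in
/-- the Gysin map of the product commutes with the pushforward along the graphs. -/
theorem gam_gys [IsClosedImmersion i] [IsClosedImmersion (Hm pX δX s t i w)] (k : ℤ)
    (α : AlgebraicCycle s.Y ℤ) (hα : α ∈ Cyc.Zk s.Y s.δ k)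
    (v : (ξ : s.Y) → Cyc.secFibre L ξ) (hv : ∀ ξ, v ξ ≠ 0) (γ : AlgebraicCycle t.Y ℤ)
    (hγc : ∀ d, γ d = Cyc.c1CapFun s.δ L ⇑α (Cyc.gysinChoice L σ v) (i d))
    (hγ : γ ∈ Cyc.Zk t.Y t.δ (k - 1)) :
    gysCH (sqOf pX δX hδX s).δX' (isSetup_P pX δX hX hδX s) (Hm pX δX s t i w)
      (sqOf pX δX hδX t).δX' (δPt_eq pX δX hδX s t i w) (Nm pX δX s L) (inv_Nm pX δX s L hL)
      (τm pX δX s L σ) (hτm pX δX s t i w L hL σ hσ) k
      (ChowOps.cl (AlgebraicCycle.map (gam pX δX s) s.δ (sqOf pX δX hδX s).δX' α)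
        (cycMap_mem_Zk (gam pX δX s) s.δ (sqOf pX δX hδX s).δX' k hα)) =
    ChowOps.cl (AlgebraicCycle.map (gam pX δX t) t.δ (sqOf pX δX hδX t).δX' γ)
      (cycMap_mem_Zk (gam pX δX t) t.δ (sqOf pX δX hδX t).δX' (k - 1) hγ) := by
  have hPs := isSetup_P pX δX hX hδX s
  have hSs := isSetup_s pX δX hX hδX s
  haveI : IsLocallyNoetherian s.Y := hSs.1
  have hN := inv_Nm pX δX s L hL
  obtain ⟨ζ, hζc, hζ⟩ := exists_gys (sqOf pX δX hδX s).δX' hPs (Hm pX δX s t i w)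
    (sqOf pX δX hδX t).δX' (δPt_eq pX δX hδX s t i w) (Nm pX δX s L) hN (τm pX δX s L σ)
    (hτm pX δX s t i w L hL σ hσ) k _
    (cycMap_mem_Zk (gam pX δX s) s.δ (sqOf pX δX hδX s).δX' k hα) (v₀ _ hN) (v₀_ne _ hN)
  rw [gysCH_cl _ hPs (Hm pX δX s t i w) _ (δPt_eq pX δX hδX s t i w) _ hN _
    (hτm pX δX s t i w L hL σ hσ) k _ _ _ (hτm pX δX s t i w L hL σ hσ) (v₀ _ hN) (v₀_ne _ hN)
    ζ hζc hζ]
  apply cl_eq_of_ratEquiv
  have hα' : α ∈ Cyc.Zk s.Y s.δ (k - 1 + 1) := by rw [sub_add_cancel]; exact hα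
  have key := main1932_sq (pullback pX (pYs pX δX s)) s.Y (pullback pX (pYs pX δX t)) t.Y
    (sqOf pX δX hδX s).δX' s.δ hPs hSs (gam pX δX s) (compat_gam pX δX hδX s) (Nm pX δX s L) hN
    (τm pX δX s L σ) (Hm pX δX s t i w) (hτm pX δX s t i w L hL σ hσ) i (gam pX δX t)
    (isPullback_gam pX δX s t i w) _
    (isZeroSchemeOf_of_moduleIso i (Ψm pX δX s L) σ hσ) (k - 1) α hα' (v₀ _ hN) (v₀_ne _ hN)
    (fun ξ => fibMap (Ψm pX δX s L) ξ (v ξ))
    (fun ξ => fibMap_ne_zero (Ψm pX δX s L) hL ξ _ (hv ξ)) ζ hζc γ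
    (fun z => by
      rw [hγc z, c1CapFun_gysinChoice_moduleIso hSs.2.2 (Ψm pX δX s L) hL])
  rw [← δPt_eq pX δX hδX s t i w, ← δt_eq δX s t i w] at key
  exact key

end Part16

section Part17

open AlgebraicGeometry CategoryTheory TopologicalSpace Opposite CategoryTheory.Limits
  Bivar Groth.Agent.Lib.R2H1.OpKronecker Groth.Agent.Lib.R2H1.ExtProd
  Groth.Agent.Lib.R2H1.BivarEnv Groth.Agent.Lib.R2H1.MVClosed Groth.Agent.Lib.R2H1.ChowDesc
  Groth.Agent.Lib.R2H1.BivarBirat Groth.Agent.Lib.R2H1.BivarFlat Groth.Agent.Lib.R2H1.BivarPush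
  Groth.Agent.Lib.R2H1.ProperPushRat Groth.Agent.Lib.R2H1.BivarC1 Groth.Agent.Lib.R2H1.Clopen
  Groth.Agent.Lib.R2H1.RelDimBC Groth.Agent.Lib.R2H1.IsoTransport Groth.Agent.Lib.R2H1.BivarGysin
  Groth.Agent.Lib.R2H1.ZeroBC Groth.Agent.Lib.R2H1.C1Chow
  TensorProduct

variable {K : Type u} [Field K] {X : Scheme.{u}} (pX : X ⟶ Spec (CommRingCat.of K))
  [IsProper pX] (δX : X → ℤ) (hX : Cyc.IsSetup X δX)
  (hδX : Cyc.DeltaCompat pX δX (δ0 (K := K)))
  (s t : OSq X δX) (i : t.Y ⟶ s.Y) (w : i ≫ s.g = t.g)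
  (L : s.Y.Modules) (hL : PicF.IsInvertible L) (σ : L.presheaf.obj (op ⊤))
  (hσ : Cyc.IsZeroSchemeOf i L σ)

include hX in
/-- the Gysin map of the product on an exterior product with a point. -/
theorem gys_exCyc_pt [IsClosedImmersion i] [IsClosedImmersion (Hm pX δX s t i w)] (k a : ℤ)
    (ξ : X) (hξ : δX ξ = a) (v : AlgebraicCycle s.Y ℤ) (hv : v ∈ Cyc.Zk s.Y s.δ (k - a))
    (u : (ξ : s.Y) → Cyc.secFibre L ξ) (hu : ∀ ξ, u ξ ≠ 0) (γ : AlgebraicCycle t.Y ℤ)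
    (hγc : ∀ d, γ d = Cyc.c1CapFun s.δ L ⇑v (Cyc.gysinChoice L σ u) (i d))
    (hγ : γ ∈ Cyc.Zk t.Y t.δ (k - 1 - a)) :
    gysCH (sqOf pX δX hδX s).δX' (isSetup_P pX δX hX hδX s) (Hm pX δX s t i w)
      (sqOf pX δX hδX t).δX' (δPt_eq pX δX hδX s t i w) (Nm pX δX s L) (inv_Nm pX δX s L hL)
      (τm pX δX s L σ) (hτm pX δX s t i w L hL σ hσ) k
      (ChowOps.cl (exCyc pX δX hX (sqOf pX δX hδX s) (pt ξ) v)
        (exCyc_mem' pX δX hX (sqOf pX δX hδX s) (pt ξ) v (pt_mem δX ξ hξ) hv)) =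
    ChowOps.cl (exCyc pX δX hX (sqOf pX δX hδX t) (pt ξ) γ)
      (exCyc_mem' pX δX hX (sqOf pX δX hδX t) (pt ξ) γ (pt_mem δX ξ hξ) hγ) := by
  have hPs := isSetup_P pX δX hX hδX s
  have hN := inv_Nm pX δX s L hL
  obtain ⟨r₀, hr₀⟩ := exists_r pX δX hδX ξ
  have hidx_s : k - a - -(r₀ : ℤ) = k := by rw [hr₀, hξ]; ring
  have hidx_t : k - a - 1 - -(r₀ : ℤ) = k - 1 := by rw [hr₀, hξ]; ring
  have hγ' : γ ∈ Cyc.Zk t.Y t.δ (k - a - 1) := by
    rwa [show k - a - 1 = k - 1 - a by ring]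
  have hmem_s : exCyc pX δX hX (sqOf pX δX hδX s) (pt ξ) v ∈
      Cyc.Zk (sqOf pX δX hδX s).X' (sqOf pX δX hδX s).δX' (k - a - -(r₀ : ℤ)) := by
    rw [hidx_s]
    exact exCyc_mem' pX δX hX (sqOf pX δX hδX s) (pt ξ) v (pt_mem δX ξ hξ) hv
  have hmem_t : exCyc pX δX hX (sqOf pX δX hδX t) (pt ξ) γ ∈
      Cyc.Zk (sqOf pX δX hδX t).X' (sqOf pX δX hδX t).δX' (k - a - 1 - -(r₀ : ℤ)) := by
    rw [hidx_t]
    exact exCyc_mem' pX δX hX (sqOf pX δX hδX t) (pt ξ) γ (pt_mem δX ξ hξ) hγ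
  obtain ⟨ζ, hζc, hζ⟩ := exists_gys (sqOf pX δX hδX s).δX' hPs (Hm pX δX s t i w)
    (sqOf pX δX hδX t).δX' (δPt_eq pX δX hδX s t i w) (Nm pX δX s L) hN (τm pX δX s L σ)
    (hτm pX δX s t i w L hL σ hσ) k _
    (exCyc_mem' pX δX hX (sqOf pX δX hδX s) (pt ξ) v (pt_mem δX ξ hξ) hv) (v₀ _ hN) (v₀_ne _ hN)
  rw [gysCH_cl _ hPs (Hm pX δX s t i w) _ (δPt_eq pX δX hδX s t i w) _ hN _
    (hτm pX δX s t i w L hL σ hσ) k _ _ _ (hτm pX δX s t i w L hL σ hσ) (v₀ _ hN) (v₀_ne _ hN)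
    ζ hζc hζ]
  have hζ' : ζ ∈ Cyc.Zk (sqOf pX δX hδX t).X' (sqOf pX δX hδX t).δX'
      (k - a - 1 - -(r₀ : ℤ)) := by
    rwa [hidx_t]
  have e_s := Ept_op pX δX hX hδX ξ r₀ hr₀ (sqOf pX δX hδX s) (k - a) v hv hmem_s
  have e_t := Ept_op pX δX hX hδX ξ r₀ hr₀ (sqOf pX δX hδX t) (k - a - 1) γ hγ' hmem_t
  have hgys := (Ept pX δX hX hδX ξ r₀ hr₀).gysin (sqOf pX δX hδX s) (sqOf pX δX hδX t) i
    (Hm pX δX s t i w) (sqw₁ pX δX hδX s t i w) (sqw₂ pX δX hδX s t i w)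
    (sqw₃ pX δX hδX s t i w) L hL σ hσ (τm pX δX s L σ) (hτm pX δX s t i w L hL σ hσ) (k - a)
  have e1 := gysinOK_rep hPs i L σ (Hm pX δX s t i w) (δPt_eq pX δX hδX s t i w) (Nm pX δX s L)
    hN (τm pX δX s L σ) (hτm pX δX s t i w L hL σ hσ) (by ring) _ _ hgys v hv _ hmem_s e_s u hu γ
    hγc hγ' (v₀ _ hN) (v₀_ne _ hN) ζ hζc hζ'
  exact cl_index_congr hidx_t _ _ _ _ _ _ (e1.symm.trans e_t)

end Part17

section Part18

open AlgebraicGeometry CategoryTheory TopologicalSpace Opposite CategoryTheory.Limits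
  Bivar Groth.Agent.Lib.R2H1.OpKronecker Groth.Agent.Lib.R2H1.ExtProd
  Groth.Agent.Lib.R2H1.BivarEnv Groth.Agent.Lib.R2H1.MVClosed Groth.Agent.Lib.R2H1.ChowDesc
  Groth.Agent.Lib.R2H1.BivarBirat Groth.Agent.Lib.R2H1.BivarFlat Groth.Agent.Lib.R2H1.BivarPush
  Groth.Agent.Lib.R2H1.ProperPushRat Groth.Agent.Lib.R2H1.BivarC1 Groth.Agent.Lib.R2H1.Clopen
  Groth.Agent.Lib.R2H1.RelDimBC Groth.Agent.Lib.R2H1.IsoTransport Groth.Agent.Lib.R2H1.BivarGysin
  Groth.Agent.Lib.R2H1.ZeroBC Groth.Agent.Lib.R2H1.C1Chow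
  TensorProduct

variable {K : Type u} [Field K] {X : Scheme.{u}} (pX : X ⟶ Spec (CommRingCat.of K))
  [IsProper pX] (δX : X → ℤ) (hX : Cyc.IsSetup X δX)
  (hδX : Cyc.DeltaCompat pX δX (δ0 (K := K)))
  (hK : KunnethHyp pX δX) {p : ℤ} (φ : ChowOps.CH X δX p →+ ℤ)
  (s t : OSq X δX) (i : t.Y ⟶ s.Y) (w : i ≫ s.g = t.g)
  (L : s.Y.Modules) (hL : PicF.IsInvertible L) (σ : L.presheaf.obj (op ⊤))
  (hσ : Cyc.IsZeroSchemeOf i L σ)

/-- the slant product commutes with Gysin maps. -/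
theorem slant_gys [IsClosedImmersion i] [IsClosedImmersion (Hm pX δX s t i w)] [CompactSpace X]
    (k : ℤ) (x : ChowOps.CH (sqOf pX δX hδX s).X' (sqOf pX δX hδX s).δX' k) :
    slant pX δX hX hK (sqOf pX δX hδX t) φ (k - 1)
      (gysCH (sqOf pX δX hδX s).δX' (isSetup_P pX δX hX hδX s) (Hm pX δX s t i w)
        (sqOf pX δX hδX t).δX' (δPt_eq pX δX hδX s t i w) (Nm pX δX s L) (inv_Nm pX δX s L hL)
        (τm pX δX s L σ) (hτm pX δX s t i w L hL σ hσ) k x) =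
    chCast t.Y t.δ (show k - p - 1 = k - 1 - p by ring)
      (gysCH s.δ (isSetup_s pX δX hX hδX s) i t.δ (δt_eq δX s t i w) L hL σ hσ (k - p)
        (slant pX δX hX hK (sqOf pX δX hδX s) φ k x)) := by
  have hSs := isSetup_s pX δX hX hδX s
  have key := hom_ext_of_pts pX δX hX (sqOf pX δX hδX s) hK k
    ((slant pX δX hX hK (sqOf pX δX hδX t) φ (k - 1)).comp
      (gysCH (sqOf pX δX hδX s).δX' (isSetup_P pX δX hX hδX s) (Hm pX δX s t i w)
        (sqOf pX δX hδX t).δX' (δPt_eq pX δX hδX s t i w) (Nm pX δX s L) (inv_Nm pX δX s L hL)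
        (τm pX δX s L σ) (hτm pX δX s t i w L hL σ hσ) k))
    ((chCast t.Y t.δ (show k - p - 1 = k - 1 - p by ring)).toAddMonoidHom.comp
      ((gysCH s.δ hSs i t.δ (δt_eq δX s t i w) L hL σ hσ (k - p)).comp
        (slant pX δX hX hK (sqOf pX δX hδX s) φ k))) ?_
  · exact DFunLike.congr_fun key x
  · intro a ξ hξ v hv
    obtain ⟨γ, hγc, hγ'⟩ := exists_gys s.δ hSs i t.δ (δt_eq δX s t i w) L hL σ hσ (k - a) v hv
      (v₀ L hL) (v₀_ne L hL)
    have hγ : γ ∈ Cyc.Zk t.Y t.δ (k - 1 - a) := by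
      rwa [show k - 1 - a = k - a - 1 by ring]
    rw [AddMonoidHom.comp_apply, AddMonoidHom.comp_apply, AddMonoidHom.comp_apply,
      gys_exCyc_pt pX δX hX hδX s t i w L hL σ hσ k a ξ hξ v hv (v₀ L hL) (v₀_ne L hL) γ hγc hγ]
    by_cases ha : a = p
    · subst ha
      rw [slant_of_eq pX δX hX hK (sqOf pX δX hδX t) φ (k - 1) (pt ξ) (pt_mem δX ξ hξ) γ hγ,
        slant_of_eq pX δX hX hK (sqOf pX δX hδX s) φ k (pt ξ) (pt_mem δX ξ hξ) v hv, map_zsmul,
        gysCH_cl s.δ hSs i t.δ (δt_eq δX s t i w) L hL σ hσ (k - a) v hv σ hσ (v₀ L hL)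
          (v₀_ne L hL) γ hγc hγ']
      change _ = chCast t.Y t.δ _ _
      rw [map_zsmul, chCast_cl]
    · rw [slant_of_ne pX δX hX hK (sqOf pX δX hδX t) φ (k - 1) a ha (pt ξ) (pt_mem δX ξ hξ) γ hγ,
        slant_of_ne pX δX hX hK (sqOf pX δX hδX s) φ k a ha (pt ξ) (pt_mem δX ξ hξ) v hv,
        map_zero, map_zero]

include w hL hσ in
/-- the class attached to a functional is compatible with Gysin maps. -/
theorem opK_gysin [IsClosedImmersion i] [CompactSpace X] (k : ℤ) :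
    GysinOK₁ s.δ t.δ i L σ (opK pX δX hX hδX hK φ s k) (opK pX δX hX hδX hK φ t (k - 1)) := by
  haveI := isClosedImmersion_Hm pX δX s t i w
  have hSs := isSetup_s pX δX hX hδX s
  intro α hα
  obtain ⟨β, hβ, e⟩ := exists_rep (opK pX δX hX hδX hK φ s k (ChowOps.cl α hα))
  refine ⟨β, hβ, e.symm, fun v hv γ hγc hγ => ?_⟩
  obtain ⟨ζ, hζc, hζ'⟩ := exists_gys s.δ hSs i t.δ (δt_eq δX s t i w) L hL σ hσ (k - p) β hβ
    v hv
  have hζ : ζ ∈ Cyc.Zk t.Y t.δ (k - 1 - p) := by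
    rwa [show k - 1 - p = k - p - 1 by ring]
  refine ⟨ζ, hζ, hζc, ?_⟩
  unfold opK
  rw [AddMonoidHom.comp_apply, pushCH_cl,
    ← gam_gys pX δX hX hδX s t i w L hL σ hσ k α hα v hv γ hγc hγ,
    slant_gys pX δX hX hδX hK φ s t i w L hL σ hσ k, ← pushCH_cl (isSetup_s pX δX hX hδX s)
      (isSetup_P pX δX hX hδX s) (gam pX δX s) (compat_gam pX δX hδX s) k α hα]
  have e' : slant pX δX hX hK (sqOf pX δX hδX s) φ k
      (pushCH (isSetup_s pX δX hX hδX s) (isSetup_P pX δX hX hδX s) (gam pX δX s)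
        (compat_gam pX δX hδX s) k (ChowOps.cl α hα)) = ChowOps.cl β hβ := e.symm
  rw [e', gysCH_cl s.δ hSs i t.δ (δt_eq δX s t i w) L hL σ hσ (k - p) β hβ σ hσ v hv ζ hζc hζ',
    chCast_cl]

end Part18

section Part19

open AlgebraicGeometry CategoryTheory TopologicalSpace Opposite CategoryTheory.Limits
  Bivar Groth.Agent.Lib.R2H1.OpKronecker Groth.Agent.Lib.R2H1.ExtProd
  Groth.Agent.Lib.R2H1.BivarEnv Groth.Agent.Lib.R2H1.MVClosed Groth.Agent.Lib.R2H1.ChowDesc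
  Groth.Agent.Lib.R2H1.BivarBirat Groth.Agent.Lib.R2H1.BivarFlat Groth.Agent.Lib.R2H1.BivarPush
  Groth.Agent.Lib.R2H1.ProperPushRat Groth.Agent.Lib.R2H1.BivarC1 Groth.Agent.Lib.R2H1.Clopen
  Groth.Agent.Lib.R2H1.RelDimBC Groth.Agent.Lib.R2H1.IsoTransport Groth.Agent.Lib.R2H1.BivarGysin
  Groth.Agent.Lib.R2H1.ZeroBC Groth.Agent.Lib.R2H1.C1Chow
  TensorProduct

variable {K : Type u} [Field K] {X : Scheme.{u}} (pX : X ⟶ Spec (CommRingCat.of K))
  [IsProper pX] (δX : X → ℤ) (hX : Cyc.IsSetup X δX)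
  (hδX : Cyc.DeltaCompat pX δX (δ0 (K := K)))

/-- on the spectrum of a field there is no nontrivial rational equivalence (away from weight
`-1`). -/
theorem eq_zero_of_ratEquivZero_field {j : ℤ} (hj : j + 1 ≠ 0)
    (α : AlgebraicCycle (Spec (CommRingCat.of K)) ℤ)
    (h : Cyc.RatEquivZero (δ0 (K := K)) j α) : α = 0 := by
  obtain ⟨ι, ξ, f, hξ, -, -, hα⟩ := h
  haveI : IsEmpty ι := ⟨fun i => hj (hξ i).symm⟩
  ext x
  rw [hα x, finsum_of_isEmpty]
  rfl

/-- the degree, as an additive map on cycles. -/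
noncomputable def degZ (j : ℤ) : ↥(ChowOps.zk X δX j) →+ ℤ where
  toFun a := ChowOps.deg pX δX a.1
  map_zero' := by
    change ChowOps.deg pX δX (0 : AlgebraicCycle X ℤ) = 0
    unfold ChowOps.deg
    rw [cycMap_zero]
    rfl
  map_add' a b := by
    change ChowOps.deg pX δX (a.1 + b.1) = _
    unfold ChowOps.deg
    rw [cycMap_add]
    rfl

include hX hδX in
theorem degZ_ratTriv {j : ℤ} (hj : j + 1 ≠ 0) :
    ChowOps.ratTriv X δX j ≤ (degZ pX δX j).ker := by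
  unfold ChowOps.ratTriv
  rw [AddSubgroup.closure_le]
  intro a ha
  change Cyc.RatEquivZero δX j (a : AlgebraicCycle X ℤ) at ha
  rw [SetLike.mem_coe, AddMonoidHom.mem_ker]
  change ChowOps.deg pX δX a.1 = 0
  have h1 : Cyc.RatEquiv δX j a.1 0 := by
    unfold Cyc.RatEquiv
    rwa [sub_zero]
  have h2 := Groth.Agent.Lib.R2H1.ProperPushRat.main X _ δX (δ0 (K := K)) hX
    (isSetup_spec_field K) pX hδX j a.1 0 h1
  unfold Cyc.RatEquiv at h2
  rw [cycMap_zero, sub_zero] at h2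
  unfold ChowOps.deg
  have h3 := eq_zero_of_ratEquivZero_field hj _ h2
  change AlgebraicCycle.map pX δX (δ0 (K := K)) a.1 _ = 0
  rw [h3]
  rfl

/-- the degree on Chow groups. -/
noncomputable def degCH {j : ℤ} (hj : j + 1 ≠ 0) : ChowOps.CH X δX j →+ ℤ :=
  QuotientAddGroup.lift (ChowOps.ratTriv X δX j) (degZ pX δX j) (degZ_ratTriv pX δX hX hδX hj)

theorem degCH_cl {j : ℤ} (hj : j + 1 ≠ 0) (β : AlgebraicCycle X ℤ) (hβ : β ∈ Cyc.Zk X δX j) :
    degCH pX δX hX hδX hj (ChowOps.cl β hβ) = ChowOps.deg pX δX β := rfl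

end Part19

section Part20

open AlgebraicGeometry CategoryTheory TopologicalSpace Opposite CategoryTheory.Limits
  Bivar Groth.Agent.Lib.R2H1.OpKronecker Groth.Agent.Lib.R2H1.ExtProd
  Groth.Agent.Lib.R2H1.BivarEnv Groth.Agent.Lib.R2H1.MVClosed Groth.Agent.Lib.R2H1.ChowDesc
  Groth.Agent.Lib.R2H1.BivarBirat Groth.Agent.Lib.R2H1.BivarFlat Groth.Agent.Lib.R2H1.BivarPush
  Groth.Agent.Lib.R2H1.ProperPushRat Groth.Agent.Lib.R2H1.BivarC1 Groth.Agent.Lib.R2H1.Clopen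
  Groth.Agent.Lib.R2H1.RelDimBC Groth.Agent.Lib.R2H1.IsoTransport Groth.Agent.Lib.R2H1.BivarGysin
  Groth.Agent.Lib.R2H1.ZeroBC Groth.Agent.Lib.R2H1.C1Chow
  TensorProduct

variable {K : Type u} [Field K] {X : Scheme.{u}} (pX : X ⟶ Spec (CommRingCat.of K))
  [IsProper pX] (δX : X → ℤ) (hX : Cyc.IsSetup X δX)
  (hδX : Cyc.DeltaCompat pX δX (δ0 (K := K)))
  (hK : KunnethHyp pX δX) {p : ℤ} (φ : ChowOps.CH X δX p →+ ℤ)

section Fst

variable (s : OSq X δX)

include hX hδX in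
/-- the pushforward of an exterior product to the first factor. -/
theorem map_fst_exCyc [IsProper (pYs pX δX s)]
    [IsProper (pullback.fst pX (pYs pX δX s))] (u : AlgebraicCycle X ℤ)
    (v : AlgebraicCycle s.Y ℤ) {d : ℤ} (hv : v ∈ Cyc.Zk s.Y s.δ d) :
    AlgebraicCycle.map (pullback.fst pX (pYs pX δX s)) (sqOf pX δX hδX s).δX' δX
      (exCyc pX δX hX (sqOf pX δX hδX s) u v) = ChowOps.deg (pYs pX δX s) s.δ v • u := by
  ext y
  rw [Function.locallyFinsuppWithin.coe_zsmul, Pi.smul_apply, smul_eq_mul]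
  exact map_q₂_extP (pYs pX δX s) pX (pullback.snd pX (pYs pX δX s))
    (pullback.fst pX (pYs pX δX s)) (sqOf pX δX hδX s).isPullback s.δ δX
    (sqOf pX δX hδX s).δX' (isSetup_P pX δX hX hδX s) hX (compat_pYs pX δX hδX s) hδX
    (compat_f' hδX (sqOf pX δX hδX s)) u v hv _
    (fun x => by rw [exCyc_apply, extP_symm]) y

end Fst

section Class

variable [CompactSpace X]

/-- the operational class attached to a functional. -/
noncomputable def cK : OpCl p X δX where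
  op s k := opK pX δX hX hδX hK φ s k
  push s t h _ w k := opK_push pX δX hX hδX hK φ s t h w k
  pull s t h _ r hr w k := opK_pull pX δX hX hδX hK φ s t h w r hr k
  gysin s t i _ w L hL σ hσ k := opK_gysin pX δX hX hδX hK φ s t i w L hL σ hσ k

theorem deg_self (v : AlgebraicCycle X ℤ) :
    ChowOps.deg (pYs pX δX (OSq.self X δX)) δX v = ChowOps.deg pX δX v := by
  unfold ChowOps.deg
  rw [Groth.Agent.Lib.R2H1.OpKronecker.map_congr_hom
    (show pYs pX δX (OSq.self X δX) = pX from Category.id_comp pX)]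

instance isProper_fst_self :
    IsProper (pullback.fst pX (pYs pX δX (OSq.self X δX))) :=
  MorphismProperty.pullback_fst (P := @IsProper) _ _ inferInstance

/-- the degree of the slant product is the functional of the pushforward to the first factor. -/
theorem deg_slant_eq (hj : p - p + 1 ≠ 0)
    (x : ChowOps.CH (sqOf pX δX hδX (OSq.self X δX)).X' (sqOf pX δX hδX (OSq.self X δX)).δX' p) :
    degCH pX δX hX hδX hj (slant pX δX hX hK (sqOf pX δX hδX (OSq.self X δX)) φ p x) =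
      φ (pushCH (isSetup_P pX δX hX hδX (OSq.self X δX)) hX
        (pullback.fst pX (pYs pX δX (OSq.self X δX)))
        (sqOf pX δX hδX (OSq.self X δX)).compatX p x) := by
  have key := hom_ext_of_pts pX δX hX (sqOf pX δX hδX (OSq.self X δX)) hK p
    ((degCH pX δX hX hδX hj).comp (slant pX δX hX hK (sqOf pX δX hδX (OSq.self X δX)) φ p))
    (φ.comp (pushCH (isSetup_P pX δX hX hδX (OSq.self X δX)) hX
        (pullback.fst pX (pYs pX δX (OSq.self X δX)))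
        (sqOf pX δX hδX (OSq.self X δX)).compatX p)) ?_
  · exact DFunLike.congr_fun key x
  · intro a ξ hξ v hv
    rw [AddMonoidHom.comp_apply, AddMonoidHom.comp_apply, pushCH_cl]
    have hmap := map_fst_exCyc pX δX hX hδX (OSq.self X δX) (pt ξ) v hv
    by_cases ha : a = p
    · subst ha
      rw [slant_of_eq pX δX hX hK (sqOf pX δX hδX (OSq.self X δX)) φ a (pt ξ)
        (pt_mem δX ξ hξ) v hv, map_zsmul]
      have hv' : v ∈ Cyc.Zk X δX (a - a) := hv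
      have h1 : degCH pX δX hX hδX hj (ChowOps.cl v hv) = ChowOps.deg pX δX v :=
        degCH_cl pX δX hX hδX hj v hv'
      rw [h1]
      have H : ChowOps.deg (pYs pX δX (OSq.self X δX)) δX v • pt ξ ∈ Cyc.Zk X δX a :=
        zsmul_mem_Zk _ _ (pt_mem δX ξ hξ)
      rw [cl_congr hmap _ H, cl_zsmul _ _ (pt_mem δX ξ hξ) H, map_zsmul, deg_self, smul_eq_mul,
        smul_eq_mul, mul_comm]
    · rw [slant_of_ne pX δX hX hK (sqOf pX δX hδX (OSq.self X δX)) φ p a ha (pt ξ)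
        (pt_mem δX ξ hξ) v hv, map_zero]
      have hv' : v ∈ Cyc.Zk X δX (p - a) := hv
      have hd : ChowOps.deg pX δX v = 0 :=
        deg_eq_zero_of_ne pX δX v hv' (sub_ne_zero.mpr (Ne.symm ha))
      have H : (0 : AlgebraicCycle X ℤ) ∈ Cyc.Zk X δX p := (ChowOps.zk X δX p).zero_mem
      have hmap0 : AlgebraicCycle.map (pullback.fst pX (pYs pX δX (OSq.self X δX)))
          (sqOf pX δX hδX (OSq.self X δX)).δX' δX
          (exCyc pX δX hX (sqOf pX δX hδX (OSq.self X δX)) (pt ξ) v) = 0 := by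
        rw [hmap, deg_self, hd, zero_smul]
      rw [cl_congr hmap0 _ H, cl_zero, map_zero]

/-- the Kronecker functional of the class attached to `φ` is `φ`. -/
theorem cK_functional : HasFunctional pX δX φ (cK pX δX hX hδX hK φ) := by
  intro α hα β hβ hcap
  have hj : p - p + 1 ≠ 0 := by omega
  have hPs := isSetup_P pX δX hX hδX (OSq.self X δX)
  have h1 : (cK pX δX hX hδX hK φ).cap p (ChowOps.cl α hα) =
      slant pX δX hX hK (sqOf pX δX hδX (OSq.self X δX)) φ p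
        (ChowOps.cl (AlgebraicCycle.map (gam pX δX (OSq.self X δX)) δX
          (sqOf pX δX hδX (OSq.self X δX)).δX' α)
          (cycMap_mem_Zk (gam pX δX (OSq.self X δX)) δX
            (sqOf pX δX hδX (OSq.self X δX)).δX' p hα)) := rfl
  rw [h1] at hcap
  have h2 := deg_slant_eq pX δX hX hδX hK φ hj
    (ChowOps.cl (AlgebraicCycle.map (gam pX δX (OSq.self X δX)) δX
      (sqOf pX δX hδX (OSq.self X δX)).δX' α)
      (cycMap_mem_Zk (gam pX δX (OSq.self X δX)) δX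
        (sqOf pX δX hδX (OSq.self X δX)).δX' p hα))
  rw [hcap, pushCH_cl] at h2
  have h3 : degCH pX δX hX hδX hj (ChowOps.cl β hβ) = ChowOps.deg pX δX β :=
    degCH_cl pX δX hX hδX hj β hβ
  rw [← h3, h2]
  apply congrArg
  apply cl_congr
  haveI : QuasiCompact (gam pX δX (OSq.self X δX) ≫
      pullback.fst pX (pYs pX δX (OSq.self X δX))) := inferInstance
  haveI : QuasiCompact (OSq.self X δX).g := by
    change QuasiCompact (𝟙 X)
    infer_instance
  rw [Groth.Agent.S1859.result _ _ _ δX (sqOf pX δX hδX (OSq.self X δX)).δX' δX hX hPs hX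
    (gam pX δX (OSq.self X δX)) (pullback.fst pX (pYs pX δX (OSq.self X δX)))
    (compat_gam pX δX hδX (OSq.self X δX)) (sqOf pX δX hδX (OSq.self X δX)).compatX p α hα,
    Groth.Agent.Lib.R2H1.OpKronecker.map_congr_hom (gam_fst pX δX (OSq.self X δX))]
  exact (AlgebraicCycle.map_id _ _).symm

include hX hδX hK in
/-- Kronecker duality for operational classes under the Künneth property. -/
theorem main17676 :
    ∃! c : OpCl p X δX, ∀ (α : AlgebraicCycle X ℤ) (hα : α ∈ Cyc.Zk X δX p)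
      (β : AlgebraicCycle X ℤ) (hβ : β ∈ Cyc.Zk X δX (p - p)),
      c.cap p (ChowOps.cl α hα) = ChowOps.cl β hβ →
        φ (ChowOps.cl α hα) = ChowOps.deg pX δX β :=
  ⟨cK pX δX hX hδX hK φ, cK_functional pX δX hX hδX hK φ,
    fun c hc => unique_functional pX δX hX hδX hK φ c (cK pX δX hX hδX hK φ) hc
      (cK_functional pX δX hX hδX hK φ)⟩

end Class

end Part20

end Groth.Agent.Lib.R2H1.OpKunneth
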