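/-
Converse direction for rational equivalence via P^1: base change of P^1_X along Z -> X (toP1 is a pullback of the base, compatible with the sections cartesianly), invariance of [T]_k under isomorphisms over X, principal divisors as fibre differences of graph closures over closures of points. (helper1)
-/
import Mathlib
import Groth.Prelude
import Groth.Agent.Lib.R2H1P1Graph
import Groth.Agent.Lib.R2H1PowLen
import Groth.Agent.Lib.R2H1CIPush
import Groth.Agent.Lib.R2H1IsoTransport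
import Groth.Agent.Lib.R2H1ProperPushRat
import Groth.Agent.Lib.R2H1PullInv

set_option autoImplicit false
set_option linter.style.haveILetI false
set_option linter.unusedSectionVars false
universe u v

namespace Groth.Agent.Lib.R2H1.P1Converse

section Part1

open AlgebraicGeometry CategoryTheory CategoryTheory.Limits
  Groth.Agent.Lib.R2H1.P1Geom Groth.Agent.Lib.R2H1.P1Graph

variable {Z X : Scheme.{u}} (c : Z ⟶ X)

theorem toP1_toBase : P1.toP1 c ≫ CohB1.ProjSpaceOver.toBase 1 X =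
    CohB1.ProjSpaceOver.toBase 1 Z ≫ c := by
  unfold P1.toP1 CohB1.ProjSpaceOver.toBase
  exact pullback.lift_snd _ _ _

theorem toP1_qq : P1.toP1 c ≫ qq X = qq Z := by
  unfold P1.toP1 qq
  exact (pullback.lift_fst _ _ _).trans (Category.comp_id _)

theorem toP1_toBase_apply (y : CohB1.ProjSpaceOver 1 Z) :
    CohB1.ProjSpaceOver.toBase 1 X (P1.toP1 c y) = c (CohB1.ProjSpaceOver.toBase 1 Z y) := by
  rw [← Scheme.Hom.comp_apply, toP1_toBase, Scheme.Hom.comp_apply]

theorem toP1_mem_VV (i : Fin (1 + 1)) (y : CohB1.ProjSpaceOver 1 Z) :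
    P1.toP1 c y ∈ VV X i ↔ y ∈ VV Z i := by
  show qq X (P1.toP1 c y) ∈ DD i ↔ qq Z y ∈ DD i
  rw [← Scheme.Hom.comp_apply, toP1_qq]

/-- `P¹_Z → P¹_X` is the base change of `Z → X`. -/
theorem isPullback_toP1 : IsPullback (P1.toP1 c) (CohB1.ProjSpaceOver.toBase 1 Z)
    (CohB1.ProjSpaceOver.toBase 1 X) c := by
  have hright : IsPullback (qq X) (CohB1.ProjSpaceOver.toBase 1 X)
      (CohB1.ProjSpace.toSpec 1 P1.R0.{u}) (specULiftZIsTerminal.from X) :=
    IsPullback.of_hasPullback _ _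
  have houter : IsPullback (P1.toP1 c ≫ qq X) (CohB1.ProjSpaceOver.toBase 1 Z)
      (CohB1.ProjSpace.toSpec 1 P1.R0.{u}) (c ≫ specULiftZIsTerminal.from X) := by
    rw [toP1_qq, show c ≫ specULiftZIsTerminal.from X = specULiftZIsTerminal.from Z from
      specULiftZIsTerminal.hom_ext _ _]
    exact IsPullback.of_hasPullback _ _
  exact IsPullback.of_right houter (toP1_toBase c) hright

theorem sect_toP1 (i : Fin (1 + 1)) : P1.sect Z i ≫ P1.toP1 c = c ≫ P1.sect X i := by
  apply (IsPullback.of_hasPullback (CohB1.ProjSpace.toSpec 1 P1.R0.{u})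
    (specULiftZIsTerminal.from X)).hom_ext
  · show (P1.sect Z i ≫ P1.toP1 c) ≫ qq X = (c ≫ P1.sect X i) ≫ qq X
    rw [Category.assoc, toP1_qq, sect_qq, Category.assoc, sect_qq, ← Category.assoc]
    congr 1
    exact specULiftZIsTerminal.hom_ext _ _
  · show (P1.sect Z i ≫ P1.toP1 c) ≫ CohB1.ProjSpaceOver.toBase 1 X =
      (c ≫ P1.sect X i) ≫ CohB1.ProjSpaceOver.toBase 1 X
    rw [Category.assoc, toP1_toBase, ← Category.assoc, sect_toBase, Category.id_comp,
      Category.assoc, sect_toBase, Category.comp_id]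

/-- the sections are compatible with base change, cartesian-ly. -/
theorem isPullback_sect_toP1 (i : Fin (1 + 1)) :
    IsPullback (P1.sect Z i) c (P1.toP1 c) (P1.sect X i) := by
  have houter : IsPullback (P1.sect Z i ≫ CohB1.ProjSpaceOver.toBase 1 Z) c c
      (P1.sect X i ≫ CohB1.ProjSpaceOver.toBase 1 X) := by
    rw [sect_toBase, sect_toBase]
    exact IsPullback.of_horiz_isIso ⟨by simp⟩
  exact IsPullback.of_right houter (sect_toP1 c i) (isPullback_toP1 c).flip

instance isClosedImmersion_toP1 [IsClosedImmersion c] : IsClosedImmersion (P1.toP1 c) :=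
  MorphismProperty.of_isPullback (P := @IsClosedImmersion) (isPullback_toP1 c).flip inferInstance

end Part1

section Part2

open AlgebraicGeometry CategoryTheory CategoryTheory.Limits
  Groth.Agent.Lib.R2H1.P1Geom Groth.Agent.Lib.R2H1.P1Graph
  Groth.Agent.Lib.R2H1.IsoTransport Groth.Agent.Lib.R2H1.PowLen Groth.Agent.Lib.R2H1.CIPush

variable {X Z T T' : Scheme.{u}}

theorem subschemeFun_comp_injective (c : Z ⟶ X) (hc : Function.Injective c) (j : T ⟶ Z)
    (δ : X → ℤ) (k : ℤ) (z : Z) :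
    Cyc.subschemeFun δ k (j ≫ c) (c z) = Cyc.subschemeFun (fun z => δ (c z)) k j z := by
  unfold Cyc.subschemeFun
  have : {t : T | (j ≫ c) t = c z} = {t : T | j t = z} := by
    ext t
    simp only [Set.mem_setOf_eq, Scheme.Hom.comp_apply]
    exact ⟨fun h => hc h, fun h => by rw [h]⟩
  rw [this]

theorem length_stalk_iso (e : T ≅ T') (t : T) :
    Module.length (T.presheaf.stalk t) (T.presheaf.stalk t) =
      Module.length (T'.presheaf.stalk (e.hom t)) (T'.presheaf.stalk (e.hom t)) :=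
  (length_self_ringEquiv (asIso (e.hom.stalkMap t)).commRingCatIsoToRingEquiv).symm

/-- `[T]_k` only depends on the isomorphism class of `T` over `X`. -/
theorem subschemeFun_congr_iso (e : T ≅ T') (i : T ⟶ X) (i' : T' ⟶ X) (h : e.hom ≫ i' = i)
    (δ : X → ℤ) (k : ℤ) : Cyc.subschemeFun δ k i = Cyc.subschemeFun δ k i' := by
  funext x
  unfold Cyc.subschemeFun
  split_ifs with hx
  · refine finsum_mem_eq_of_bijOn (fun t => e.hom t) ⟨?_, ?_, ?_⟩ ?_
    · intro t ht
      simp only [Set.mem_setOf_eq] at ht ⊢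
      rw [← ht, ← h, Scheme.Hom.comp_apply]
    · intro t _ t' _ htt
      exact iso_injective e htt
    · intro t' ht'
      simp only [Set.mem_setOf_eq] at ht'
      refine ⟨e.inv t', ?_, iso_inv_hom_apply e t'⟩
      simp only [Set.mem_setOf_eq]
      rw [← h, Scheme.Hom.comp_apply, iso_inv_hom_apply, ht']
    · intro t _
      rw [length_stalk_iso e t]
  · rfl

variable (c : Z ⟶ X) {Y : Scheme.{u}} (ι : Y ⟶ CohB1.ProjSpaceOver 1 Z) (i : Fin (1 + 1))

theorem isPullback_fibre_toP1 :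
    IsPullback (pullback.fst ι (P1.sect Z i)) (pullback.snd ι (P1.sect Z i) ≫ c)
      (ι ≫ P1.toP1 c) (P1.sect X i) :=
  (IsPullback.of_hasPullback ι (P1.sect Z i)).paste_vert (isPullback_sect_toP1 c i)

theorem subschemeFun_fibre_toP1_eq (δ : X → ℤ) (k : ℤ) :
    Cyc.subschemeFun δ k (pullback.snd (ι ≫ P1.toP1 c) (P1.sect X i)) =
      Cyc.subschemeFun δ k (pullback.snd ι (P1.sect Z i) ≫ c) :=
  (subschemeFun_congr_iso (isPullback_fibre_toP1 c ι i).isoPullback _ _
    (isPullback_fibre_toP1 c ι i).isoPullback_hom_snd δ k).symm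

/-- the fibres of `Y → P¹_Z → P¹_X` over the sections of `P¹_X`, at the points of `Z`. -/
theorem subschemeFun_fibre_toP1 (hc : Function.Injective c) (δ : X → ℤ) (k : ℤ) (z : Z) :
    Cyc.subschemeFun δ k (pullback.snd (ι ≫ P1.toP1 c) (P1.sect X i)) (c z) =
      Cyc.subschemeFun (fun z => δ (c z)) k (pullback.snd ι (P1.sect Z i)) z := by
  rw [subschemeFun_fibre_toP1_eq, subschemeFun_comp_injective c hc]

theorem subschemeFun_fibre_toP1_of_notMem (δ : X → ℤ) (k : ℤ) (x : X) (hx : x ∉ Set.range c) :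
    Cyc.subschemeFun δ k (pullback.snd (ι ≫ P1.toP1 c) (P1.sect X i)) x = 0 := by
  rw [subschemeFun_fibre_toP1_eq]
  apply subschemeFun_of_notMem_range
  rintro ⟨t, ht⟩
  apply hx
  rw [Scheme.Hom.comp_apply] at ht
  exact ⟨_, ht⟩

/-- every nonzero rational function on an integral scheme is an invertible function on a nonempty
open. -/
theorem exists_unit_evaluation (Z : Scheme.{u}) [IsIntegral Z]
    (g : Z.residueField (genericPoint Z)) (hg : g ≠ 0) :
    ∃ (U : Z.Opens) (hη : genericPoint Z ∈ U) (f : Γ(Z, U)), IsUnit f ∧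
      (Z.evaluation U (genericPoint Z) hη).hom f = g := by
  obtain ⟨s, rfl⟩ := Z.residue_surjective (genericPoint Z) g
  obtain ⟨U, hη, f, rfl⟩ := Z.presheaf.exists_germ_eq s
  have hu : IsUnit ((Z.presheaf.germ U (genericPoint Z) hη).hom f) := by
    rw [← IsLocalRing.residue_ne_zero_iff_isUnit]
    exact hg
  have hb : genericPoint Z ∈ Z.basicOpen f := (Z.mem_basicOpen f _ hη).mpr hu
  refine ⟨Z.basicOpen f, hb, (Z.presheaf.map (homOfLE (Z.basicOpen_le f)).op).hom f, ?_, ?_⟩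
  · exact RingedSpace.isUnit_res_basicOpen _ f
  · exact evaluation_res (Z.basicOpen f) U (Z.basicOpen_le f) _ hb f

end Part2

section Part3

open AlgebraicGeometry CategoryTheory CategoryTheory.Limits TopologicalSpace Topology
  Groth.Agent.Lib.R2H1.P1Geom Groth.Agent.Lib.R2H1.P1Graph
  Groth.Agent.Lib.R2H1.PerfCyc Groth.Agent.Lib.R2H1.RelDimBC
  Groth.Agent.Lib.R2H1.RatEquivClosed Groth.Agent.Lib.R2H1.ProperPushRat
  Groth.Agent.Lib.R2H1.PullInv

variable {A B C : Scheme.{u}}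

theorem resTrdeg_eq_zero_of_comp_surj (g : A ⟶ B) (π : B ⟶ C) (j : A ⟶ C)
    [SurjectiveOnStalks j] (h : g ≫ π = j) (u : A) : resTrdeg π (g u) = 0 := by
  have h1 : resTrdeg (g ≫ π) u = 0 := by
    rw [resTrdeg_congr h]
    exact resTrdeg_eq_zero_of_surjective j u
      (Groth.Agent.Lib.R2H1.RatEquivClosed.residueFieldMap_bijective j u).2
  rw [resTrdeg_comp] at h1
  exact (add_eq_zero.mp h1).1

theorem delta_of_comp_surj (g : A ⟶ B) (π : B ⟶ C) (j : A ⟶ C)
    [SurjectiveOnStalks j] (h : g ≫ π = j) (δB : B → ℤ) (δC : C → ℤ)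
    (hP : Cyc.DeltaCompat π δB δC) (u : A) : δB (g u) = δC (j u) := by
  rw [deltaCompat_iff] at hP
  obtain ⟨n, hn, hδ⟩ := hP (g u)
  rw [resTrdeg_eq_zero_of_comp_surj g π j h u] at hn
  have hn0 : n = 0 := by exact_mod_cast hn.symm
  rw [hδ, hn0]
  have : π (g u) = j u := by
    have := congrArg (fun φ : A ⟶ C => φ u) h
    simpa using this
  rw [this]
  simp

theorem graph_mem_VV_one (X : Scheme.{u}) (U : X.Opens) (f : Γ(X, U)) (hf : IsUnit f) (u : U) :
    P1.graph X U f u ∈ VV X 1 := by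
  show qq X (P1.graph X U f u) ∈ DD 1
  rw [qq_graph_apply, aι_mem_iff]
  intro hmem
  have h2 : P1.chartMap 0 Γ(X, U) f (uu 0 1) ∈ (U.toSpecΓ u).asIdeal := hmem
  rw [chartMap_uu] at h2
  exact (U.toSpecΓ u).isPrime.ne_top (Ideal.eq_top_of_isUnit_mem _ h2 hf)

/-- a principal divisor on `X` is the difference of the fibres over `0` and `∞` of an integral
closed subscheme of `P¹_X`. -/
theorem exists_W (X : Scheme.{u}) (δ : X → ℤ) (hX : Cyc.IsSetup X δ)
    (δP : ↥(CohB1.ProjSpaceOver 1 X) → ℤ)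
    (hP : Cyc.DeltaCompat (CohB1.ProjSpaceOver.toBase 1 X) δP δ) (k : ℤ) (ξ : X)
    (hξ : δ ξ = k + 1) (f : X.residueField ξ) (hf : f ≠ 0) :
    ∃ (W : Scheme.{u}) (ι : W ⟶ CohB1.ProjSpaceOver 1 X) (_ : IsIntegral W)
      (_ : IsClosedImmersion ι),
      δP (ι (genericPoint W)) = k + 1 ∧ ι (genericPoint W) ∉ Set.range ⇑(P1.sect X 0) ∧
      ι (genericPoint W) ∉ Set.range ⇑(P1.sect X 1) ∧
      (∀ w : W, CohB1.ProjSpaceOver.toBase 1 X (ι w) ∈ closure {ξ}) ∧
      ∀ x : X, Cyc.divFun δ ξ f x =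
        Cyc.subschemeFun δ k (pullback.snd ι (P1.sect X 0)) x -
          Cyc.subschemeFun δ k (pullback.snd ι (P1.sect X 1)) x := by
  classical
  have hcη : ptι X ξ (genericPoint (ptScheme X ξ)) = ξ := ptι_genericPoint X ξ
  have hcinj : Function.Injective (ptι X ξ) := (ptι X ξ).isClosedEmbedding.injective
  have hZs : Cyc.IsSetup (ptScheme X ξ) (fun z => δ (ptι X ξ z)) :=
    isSetup_of_closedImmersion (ptι X ξ) hX
  have hf' : (X.residueFieldCongr hcη.symm).hom.hom f ≠ 0 :=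
    (map_ne_zero_iff _ (RingHom.injective _)).mpr hf
  have hg₀ : ((ptι X ξ).residueFieldMap (genericPoint (ptScheme X ξ))).hom
      ((X.residueFieldCongr hcη.symm).hom.hom f) ≠ 0 :=
    (map_ne_zero_iff _ (RingHom.injective _)).mpr hf'
  obtain ⟨U, hη, fU, hfU, hev⟩ := exists_unit_evaluation (ptScheme X ξ) _ hg₀
  haveI : Nonempty (U : Scheme.{u}) := ⟨⟨genericPoint (ptScheme X ξ), hη⟩⟩
  haveI : IsIntegral (U : Scheme.{u}) := inferInstance
  haveI : IsIntegral (P1.graph (ptScheme X ξ) U fU).image := isIntegral_image _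
  haveI : IsDominant (P1.graph (ptScheme X ξ) U fU).toImage :=
    isDominant_toImage_of_isReduced _
  have hιdef : P1.graphClosureι (ptScheme X ξ) U fU =
    (P1.graph (ptScheme X ξ) U fU).imageι := rfl
  haveI : IsClosedImmersion (P1.graphClosureι (ptScheme X ξ) U fU) := by
    rw [hιdef]; infer_instance
  haveI : IsClosedImmersion (P1.toP1 (ptι X ξ)) := isClosedImmersion_toP1 _
  have hηY : (P1.graph (ptScheme X ξ) U fU).toImage (genericPoint (U : Scheme.{u})) =
      genericPoint (P1.graph (ptScheme X ξ) U fU).image :=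
    map_genericPoint_of_isDominant (P1.graph (ptScheme X ξ) U fU).toImage
  have hηU : U.ι (genericPoint (U : Scheme.{u})) = genericPoint (ptScheme X ξ) :=
    genericPoint_eq_of_isOpenImmersion U.ι
  have hιη : (P1.graphClosureι (ptScheme X ξ) U fU ≫ P1.toP1 (ptι X ξ))
      (genericPoint (P1.graph (ptScheme X ξ) U fU).image) =
      P1.toP1 (ptι X ξ) (P1.graph (ptScheme X ξ) U fU (genericPoint (U : Scheme.{u}))) := by
    rw [← hηY, hιdef, Scheme.Hom.comp_apply, toImage_imageι_apply]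
  have hm0 : P1.toP1 (ptι X ξ) (P1.graph (ptScheme X ξ) U fU (genericPoint (U : Scheme.{u}))) ∈
      VV X 0 := (toP1_mem_VV _ 0 _).mpr (graph_mem_VV _ U fU _)
  have hm1 : P1.toP1 (ptι X ξ) (P1.graph (ptScheme X ξ) U fU (genericPoint (U : Scheme.{u}))) ∈
      VV X 1 := (toP1_mem_VV _ 1 _).mpr (graph_mem_VV_one _ U fU hfU _)
  refine ⟨(P1.graph (ptScheme X ξ) U fU).image,
    P1.graphClosureι (ptScheme X ξ) U fU ≫ P1.toP1 (ptι X ξ), inferInstance, inferInstance,
    ?_, ?_, ?_, ?_, ?_⟩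
  · rw [hιη]
    haveI : IsPreimmersion (U.ι ≫ ptι X ξ) := inferInstance
    have hcomp : (P1.graph (ptScheme X ξ) U fU ≫ P1.toP1 (ptι X ξ)) ≫
        CohB1.ProjSpaceOver.toBase 1 X = U.ι ≫ ptι X ξ := by
      rw [Category.assoc, toP1_toBase, ← Category.assoc, graph_toBase]
    have := delta_of_comp_surj (P1.graph (ptScheme X ξ) U fU ≫ P1.toP1 (ptι X ξ))
      (CohB1.ProjSpaceOver.toBase 1 X) (U.ι ≫ ptι X ξ) hcomp δP δ hP
      (genericPoint (U : Scheme.{u}))
    rw [Scheme.Hom.comp_apply, Scheme.Hom.comp_apply, hηU, hcη, hξ] at this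
    exact this
  · rw [hιη]
    rintro ⟨x, hx⟩
    rw [← hx] at hm1
    exact sect_notMem X 0 1 (by decide) x hm1
  · rw [hιη]
    rintro ⟨x, hx⟩
    rw [← hx] at hm0
    exact sect_notMem X 1 0 (by decide) x hm0
  · intro w
    rw [Scheme.Hom.comp_apply, toP1_toBase_apply, ← range_ptι]
    exact ⟨_, rfl⟩
  · intro x
    by_cases hx : x ∈ Set.range (ptι X ξ)
    · obtain ⟨z, rfl⟩ := hx
      rw [subschemeFun_fibre_toP1 (ptι X ξ) _ 0 hcinj δ k z,
        subschemeFun_fibre_toP1 (ptι X ξ) _ 1 hcinj δ k z]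
      rw [← divFun_congr_point δ hcη.symm f, ← divFun_preimmersion (ptι X ξ) δ _ z]
      have h1904 := divFun_eq_graph_fibres (ptScheme X ξ) (fun z => δ (ptι X ξ z)) hZs (k + 1)
        (by rw [hcη]; exact hξ) U hη fU hfU
      rw [hev] at h1904
      have := congrFun h1904 z
      rw [add_sub_cancel_right] at this
      exact this
    · rw [subschemeFun_fibre_toP1_of_notMem (ptι X ξ) _ 0 δ k x hx,
        subschemeFun_fibre_toP1_of_notMem (ptι X ξ) _ 1 δ k x hx, sub_zero]
      by_contra hne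
      apply hx
      rw [range_ptι]
      exact specializes_iff_mem_closure.mp (divFun_ne_zero_specializes hne).1

/-- a cycle rationally equivalent to zero is a locally finite sum of differences of the fibres over
`0` and `∞` of integral closed subschemes of `P¹_X`. -/
theorem ratEquivZero_eq_sum (X : Scheme.{u}) (δ : X → ℤ) (hX : Cyc.IsSetup X δ)
    (δP : ↥(CohB1.ProjSpaceOver 1 X) → ℤ)
    (hP : Cyc.DeltaCompat (CohB1.ProjSpaceOver.toBase 1 X) δP δ) (k : ℤ)
    (α : AlgebraicCycle X ℤ) (h0 : Cyc.RatEquivZero δ k α) :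
    ∃ (I : Type u) (W : I → Scheme.{u}) (ι : (i : I) → (W i ⟶ CohB1.ProjSpaceOver 1 X))
      (_ : ∀ i, IsIntegral (W i)) (_ : ∀ i, IsClosedImmersion (ι i)),
      (∀ i, δP (ι i (genericPoint (W i))) = k + 1 ∧
        ι i (genericPoint (W i)) ∉ Set.range ⇑(P1.sect X 0) ∧
        ι i (genericPoint (W i)) ∉ Set.range ⇑(P1.sect X 1)) ∧
      (∀ p : ↥(CohB1.ProjSpaceOver 1 X), ∃ U : Set ↥(CohB1.ProjSpaceOver 1 X),
        IsOpen U ∧ p ∈ U ∧ {i | (Set.range ⇑(ι i) ∩ U).Nonempty}.Finite) ∧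
      ∀ x : X, α x = ∑ᶠ i, (Cyc.subschemeFun δ k (pullback.snd (ι i) (P1.sect X 0)) x -
        Cyc.subschemeFun δ k (pullback.snd (ι i) (P1.sect X 1)) x) := by
  obtain ⟨I, ξ, f, hξ, hf, hlf, hsum⟩ := h0
  choose W ι hint hcl h1 h2 h3 h4 h5 using
    fun i => exists_W X δ hX δP hP k (ξ i) (hξ i) (f i) (hf i)
  refine ⟨I, W, ι, hint, hcl, fun i => ⟨h1 i, h2 i, h3 i⟩, ?_, ?_⟩
  · intro p
    obtain ⟨U, hU, hpU, hfin⟩ := hlf (CohB1.ProjSpaceOver.toBase 1 X p)
    refine ⟨CohB1.ProjSpaceOver.toBase 1 X ⁻¹' U,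
      hU.preimage (CohB1.ProjSpaceOver.toBase 1 X).continuous, hpU, hfin.subset ?_⟩
    rintro i ⟨q, ⟨w, rfl⟩, hq⟩
    exact ⟨CohB1.ProjSpaceOver.toBase 1 X (ι i w), h4 i w, hq⟩
  · intro x
    rw [hsum x]
    exact finsum_congr (fun i => h5 i x)

end Part3

end Groth.Agent.Lib.R2H1.P1Converse
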