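/-
helper1 (round 2): irreducibleSpace_P1K (the projective line REq.P1K K over a field is irreducible, via helper2 ProjOver.a iso and helper13 irreducibleSpace_proj), link_imp (a direct R-link cannot leave a closed set V when V, W closed cover with no K-point in the intersection), s18573.
-/
import Mathlib
import Groth.Prelude
import Groth.Agent.Lib.R2H1Segre
import Groth.Agent.Lib.R2H2ProjOver
import Groth.Agent.Lib.Helper13RelProjC

set_option autoImplicit false
set_option linter.style.haveILetI false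
set_option linter.unusedSectionVars false
universe u v

namespace Groth.Agent.Lib.R2H1.REqIrr

section Part1

open CategoryTheory CategoryTheory.Limits AlgebraicGeometry TopologicalSpace Opposite MvPolynomial
open scoped HomogeneousIdeal

/-- the projective line over a field is irreducible -/
theorem irreducibleSpace_P1K (K : Type u) [Field K] : IrreducibleSpace (REq.P1K K) := by
  have hpb := Groth.Agent.Lib.R2H2.ProjOver.isPullback_a 1 K (𝟙 (Spec (CommRingCat.of K)))
  haveI : IsIso (Groth.Agent.Lib.R2H2.ProjOver.a 1 K (𝟙 (Spec (CommRingCat.of K)))) :=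
    hpb.isIso_fst_of_isIso
  have hirr : ((CohB1.polyGrading 1 K)₊).toIdeal ≠ ⊥ := by
    intro h
    have hmem : (X 0 : MvPolynomial (Fin (1 + 1)) K) ∈ ((CohB1.polyGrading 1 K)₊).toIdeal := by
      change (X 0 : MvPolynomial (Fin (1 + 1)) K) ∈ (CohB1.polyGrading 1 K)₊
      rw [HomogeneousIdeal.mem_irrelevant_iff, GradedRing.proj_apply]
      exact DirectSum.decompose_of_mem_ne _
        (Groth.Agent.Lib.Helper27PnChart.X_mem_one 1 K 0) (by norm_num)
    rw [h, Ideal.mem_bot] at hmem
    exact MvPolynomial.X_ne_zero (0 : Fin (1 + 1)) hmem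
  haveI h1 : IrreducibleSpace (CohB1.ProjSpace 1 K) :=
    Groth.Agent.Helper13RelProj.irreducibleSpace_proj (CohB1.polyGrading 1 K) hirr
  have h2 := (irreducibleSpace_def _).1 h1
  have h3 := h2.image (Groth.Agent.Lib.R2H2.ProjOver.a 1 K (𝟙 (Spec (CommRingCat.of K))))
    (Groth.Agent.Lib.R2H2.ProjOver.a 1 K (𝟙 (Spec (CommRingCat.of K)))).continuous.continuousOn
  have hs : Function.Surjective (Groth.Agent.Lib.R2H2.ProjOver.a 1 K (𝟙 (Spec (CommRingCat.of K)))) :=
    (Groth.Agent.Lib.R2H2.ProjOver.a 1 K (𝟙 (Spec (CommRingCat.of K)))).homeomorph.surjective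
  rw [Set.top_eq_univ, Set.image_univ, hs.range_eq, ← Set.top_eq_univ] at h3
  exact (irreducibleSpace_def _).2 h3

theorem link_imp (k : Type u) [Field k] (Y : Scheme.{u}) (g : Y ⟶ Spec (CommRingCat.of k))
    (K : Type u) [Field K] [Algebra k K] (V W : Set Y) (hV : IsClosed V) (hW : IsClosed W)
    (hVW : V ∪ W = Set.univ) (hT : ∀ z : REq.Pts g K, ¬ (Set.range z.1.base ⊆ V ∩ W))
    (U : (REq.P1K K).Opens) (h : (U : Scheme.{u}) ⟶ Y)
    (a b : Spec (CommRingCat.of K) ⟶ (U : Scheme.{u}))
    (hg : h ≫ g = U.ι ≫ REq.P1K.toSpec K ≫ REq.specMap k K)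
    (ha : a ≫ U.ι ≫ REq.P1K.toSpec K = 𝟙 _)
    (haV : Set.range (a ≫ h).base ⊆ V) : Set.range (b ≫ h).base ⊆ V := by
  haveI := irreducibleSpace_P1K K
  have hUirr : IsPreirreducible (Set.univ : Set (U : Scheme.{u})) := by
    have h1 : IsPreirreducible (U : Set (REq.P1K K)) :=
      (PreirreducibleSpace.isPreirreducible_univ).open_subset U.2 (Set.subset_univ _)
    haveI : PreirreducibleSpace (U : Set (REq.P1K K)) := Subtype.preirreducibleSpace h1
    exact PreirreducibleSpace.isPreirreducible_univ (X := (U : Set (REq.P1K K)))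
  have hcl := isPreirreducible_iff_isClosed_union_isClosed.1 hUirr (h ⁻¹' V) (h ⁻¹' W)
    (hV.preimage h.continuous) (hW.preimage h.continuous)
    (by
      intro x _
      have : h x ∈ V ∪ W := hVW ▸ Set.mem_univ _
      exact this)
  rcases hcl with h1 | h1
  · rintro _ ⟨y, rfl⟩
    exact h1 (Set.mem_univ (x := b y))
  · exfalso
    have hz : (a ≫ h) ≫ g = REq.specMap k K := by
      rw [Category.assoc, hg, reassoc_of% ha]
    apply hT ⟨a ≫ h, hz⟩
    rintro _ ⟨y, rfl⟩
    exact ⟨haV ⟨y, rfl⟩, h1 (Set.mem_univ (x := a y))⟩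

theorem s18573 (k : Type u) [Field k] (Y : Scheme.{u})
    (g : Y ⟶ Spec (CommRingCat.of k)) (K : Type u) [Field K] [Algebra k K]
    (V W : Set Y) (hV : IsClosed V) (hW : IsClosed W) (hVW : V ∪ W = Set.univ)
    (hT : ∀ z : REq.Pts g K, ¬ (Set.range z.1.base ⊆ V ∩ W))
    (p q : REq.Pts g K) (hp : Set.range p.1.base ⊆ V) (hq : Set.range q.1.base ⊆ W) :
    ¬ REq.REquiv g K p q := by
  intro hpq
  have key : ∀ A B : REq.Pts g K, REq.REquiv g K A B →
      (Set.range A.1.base ⊆ V ↔ Set.range B.1.base ⊆ V) := by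
    intro A B hAB
    induction hAB with
    | rel A B hl =>
      obtain ⟨U, h, a, b, hg, ha, hb, haA, hbB⟩ := hl
      constructor
      · intro hA
        rw [← hbB]
        exact link_imp k Y g K V W hV hW hVW hT U h a b hg ha (by rw [haA]; exact hA)
      · intro hB
        rw [← haA]
        exact link_imp k Y g K V W hV hW hVW hT U h b a hg hb (by rw [hbB]; exact hB)
    | refl A => exact Iff.rfl
    | symm A B _ ih => exact ih.symm
    | trans A B C _ _ ih1 ih2 => exact ih1.trans ih2
  have hqV := (key p q hpq).1 hp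
  exact hT q (fun x hx => ⟨hqV hx, hq hx⟩)

end Part1

end Groth.Agent.Lib.R2H1.REqIrr
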