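/-
helper1 (round 2): clopen subsets of P^1_S and finite flat covers. clopen_eq_empty (a clopen subset of P^1_S missing the zero section is empty: fibres are irreducible), s13906 (finite flat lfp X -> P^1_S: a clopen containing the preimage of the zero section is everything), s13902 (rank of a finite flat lfp T -> X is constant if constant over the zero section), preconnectedSpace_P1 (P^1_S preconnected for S preconnected), exists_mem_connectedComponent (finite flat lfp f : X -> Y, Y preconnected: every connected component of X surjects onto Y; induction on the cardinality of a fibre), s13901.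
-/
import Mathlib
import Groth.Prelude
import Groth.Agent.Lib.R2H1P1Converse
import Groth.Agent.Lib.R2H1REqIrr

set_option autoImplicit false
set_option linter.style.haveILetI false
set_option linter.unusedSectionVars false
universe u v

namespace Groth.Agent.Lib.R2H1.P1Fin

section Part1

open CategoryTheory CategoryTheory.Limits AlgebraicGeometry TopologicalSpace Opposite
open Groth.Agent.Lib.R2H1.P1Geom Groth.Agent.Lib.R2H1.P1Converse

/-- a clopen subset of `P¹_S` which misses the zero section is empty (the fibres of `P¹_S → S` are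
irreducible and meet the zero section) -/
theorem clopen_eq_empty (S : Scheme.{u}) (C : Set (CohB1.ProjSpaceOver 1 S)) (hC : IsClopen C)
    (h0 : ∀ s : S, P1.sect S 0 s ∉ C) : C = ∅ := by
  by_contra hne
  obtain ⟨p, hp⟩ := Set.nonempty_iff_ne_empty.mpr hne
  let c : Spec (CommRingCat.of (S.residueField (CohB1.ProjSpaceOver.toBase 1 S p))) ⟶ S :=
    S.fromSpecResidueField (CohB1.ProjSpaceOver.toBase 1 S p)
  haveI : IrreducibleSpace (CohB1.ProjSpaceOver 1
      (Spec (CommRingCat.of (S.residueField (CohB1.ProjSpaceOver.toBase 1 S p))))) :=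
    Groth.Agent.Lib.R2H1.REqIrr.irreducibleSpace_P1K
      (S.residueField (CohB1.ProjSpaceOver.toBase 1 S p))
  have hD : IsClopen ((P1.toP1 c) ⁻¹' C) := hC.preimage (P1.toP1 c).continuous
  have hw : ∀ w : Spec (CommRingCat.of (S.residueField (CohB1.ProjSpaceOver.toBase 1 S p))),
      c w = CohB1.ProjSpaceOver.toBase 1 S p := fun w =>
    Scheme.fromSpecResidueField_apply _ _
  -- the preimage misses the zero point
  obtain ⟨w⟩ : Nonempty (Spec (CommRingCat.of (S.residueField (CohB1.ProjSpaceOver.toBase 1 S p)))) :=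
    inferInstance
  have hzero : P1.sect _ 0 w ∉ (P1.toP1 c) ⁻¹' C := by
    intro h
    have h1 : P1.toP1 c (P1.sect _ 0 w) = P1.sect S 0 (c w) := by
      rw [← Scheme.Hom.comp_apply, sect_toP1, Scheme.Hom.comp_apply]
    exact h0 (c w) (h1 ▸ h)
  have hempty : (P1.toP1 c) ⁻¹' C = ∅ := by
    rcases isClopen_iff.mp hD with h | h
    · exact h
    · exact absurd (h ▸ Set.mem_univ _) hzero
  -- but `p` lifts to the fibre
  have hrange := Scheme.image_preimage_eq_of_isPullback (isPullback_toP1 c).flip Set.univ
  rw [Set.preimage_univ, Set.image_univ, Set.image_univ] at hrange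
  have hpr : p ∈ Set.range (P1.toP1 c) := by
    rw [hrange]
    exact ⟨w, hw w⟩
  obtain ⟨q, hq⟩ := hpr
  have : q ∈ (P1.toP1 c) ⁻¹' C := by
    show P1.toP1 c q ∈ C
    rw [hq]; exact hp
  rw [hempty] at this
  exact this

theorem s13906 (S X : Scheme.{u})
    (g : X ⟶ CohB1.ProjSpaceOver 1 S) [IsFinite g] [Flat g] [LocallyOfFinitePresentation g]
    (W : Set X) (hW : IsClopen W)
    (h0 : ∀ x : X, g x ∈ Set.range (P1.sect S 0) → x ∈ W) : W = Set.univ := by
  have hD : IsClopen (g '' Wᶜ) :=
    ⟨g.isClosedMap _ hW.compl.1, g.isOpenMap _ hW.compl.2⟩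
  have hempty : g '' Wᶜ = ∅ := by
    apply clopen_eq_empty S _ hD
    rintro s ⟨x, hx, hxs⟩
    exact hx (h0 x ⟨s, hxs.symm⟩)
  rw [Set.image_eq_empty, Set.compl_empty_iff] at hempty
  exact hempty

theorem s13902 (S X T : Scheme.{u})
    (g : X ⟶ CohB1.ProjSpaceOver 1 S) (f : T ⟶ X)
    [IsFinite g] [Flat g] [LocallyOfFinitePresentation g]
    [IsFinite f] [Flat f] [LocallyOfFinitePresentation f] (r : ℕ)
    (h : ∀ x : X, g x ∈ Set.range (P1.sect S 0) → f.finrank x = r) (x : X) :
    f.finrank x = r := by
  have hW : IsClopen {x : X | f.finrank x = r} := f.isLocallyConstant_finrank.isClopen_fiber r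
  have := s13906 S X g {x : X | f.finrank x = r} hW h
  have hx : x ∈ {x : X | f.finrank x = r} := this ▸ Set.mem_univ x
  exact hx

end Part1

section Part2

open CategoryTheory CategoryTheory.Limits AlgebraicGeometry TopologicalSpace Opposite
open Groth.Agent.Lib.R2H1.P1Geom Groth.Agent.Lib.R2H1.P1Converse

/-- `P¹_S` is preconnected when `S` is -/
theorem preconnectedSpace_P1 (S : Scheme.{u}) [PreconnectedSpace S] :
    PreconnectedSpace (CohB1.ProjSpaceOver 1 S) := by
  rw [preconnectedSpace_iff_clopen]
  intro C hC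
  have hT : IsClopen ((P1.sect S 0) ⁻¹' C) := hC.preimage (P1.sect S 0).continuous
  rcases isClopen_iff.mp hT with h | h
  · left
    apply clopen_eq_empty S C hC
    intro s hs
    have : s ∈ (P1.sect S 0) ⁻¹' C := hs
    rw [h] at this
    exact this
  · right
    have h2 : Cᶜ = ∅ := by
      apply clopen_eq_empty S Cᶜ hC.compl
      intro s hs
      have : s ∈ (P1.sect S 0) ⁻¹' C := h ▸ Set.mem_univ s
      exact hs this
    exact Set.compl_empty_iff.mp h2

/-- a finite flat finitely presented morphism to a preconnected scheme is surjective on every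
connected component of the source -/
theorem exists_mem_connectedComponent (Y : Scheme.{u}) [PreconnectedSpace Y] (p : Y) :
    ∀ (n : ℕ) (X : Scheme.{u}) (f : X ⟶ Y) [IsFinite f] [Flat f] [LocallyOfFinitePresentation f],
      (f ⁻¹' {p}).ncard = n → ∀ x : X, ∃ y ∈ connectedComponent x, f y = p := by
  intro n
  induction n using Nat.strong_induction_on with
  | _ n ih =>
    intro X f _ _ _ hn x
    -- images of nonempty clopen subsets are everything
    have himg : ∀ A : Set X, IsClopen A → A.Nonempty → f '' A = Set.univ := by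
      intro A hA hne
      have hD : IsClopen (f '' A) := ⟨f.isClosedMap _ hA.1, f.isOpenMap _ hA.2⟩
      rcases isClopen_iff.mp hD with h | h
      · exact absurd (Set.image_eq_empty.mp h) hne.ne_empty
      · exact h
    by_cases hX : PreconnectedSpace X
    · have hu : connectedComponent x = Set.univ := PreconnectedSpace.connectedComponent_eq_univ x
      have h1 := himg Set.univ isClopen_univ ⟨x, trivial⟩
      have hp : p ∈ f '' Set.univ := h1 ▸ Set.mem_univ p
      obtain ⟨y, -, hy⟩ := hp
      exact ⟨y, hu ▸ Set.mem_univ y, hy⟩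
    · rw [preconnectedSpace_iff_clopen] at hX
      push_neg at hX
      obtain ⟨A0, hA0, hne0, hnu0⟩ := hX
      -- a clopen `A` containing `x` with nonempty complement
      obtain ⟨A, hA, hxA, hAc⟩ : ∃ A : Set X, IsClopen A ∧ x ∈ A ∧ (Aᶜ).Nonempty := by
        by_cases hx : x ∈ A0
        · exact ⟨A0, hA0, hx, Set.nonempty_compl.mpr hnu0⟩
        · exact ⟨A0ᶜ, hA0.compl, hx, by rw [compl_compl]; exact hne0⟩
      let AO : X.Opens := ⟨A, hA.2⟩
      haveI : IsClosedImmersion AO.ι := IsClosedImmersion.of_isPreimmersion _ (by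
        rw [Scheme.Opens.range_ι]; exact hA.1)
      -- a point of the fibre outside `A`
      have h2 := himg Aᶜ hA.compl hAc
      have hp : p ∈ f '' Aᶜ := h2 ▸ Set.mem_univ p
      obtain ⟨a', ha'A, ha'p⟩ := hp
      have hfin : (f ⁻¹' {p}).Finite := IsFinite.finite_preimage_singleton f p
      have hsub : AO.ι '' ((AO.ι ≫ f) ⁻¹' {p}) ⊂ f ⁻¹' {p} := by
        refine ⟨?_, ?_⟩
        · rintro _ ⟨z, hz, rfl⟩
          exact hz
        · intro h
          obtain ⟨z, -, hz⟩ := h (show a' ∈ f ⁻¹' {p} from ha'p)
          exact ha'A (hz ▸ z.2)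
      have hlt : ((AO.ι ≫ f) ⁻¹' {p}).ncard < n := by
        rw [← hn, ← Set.ncard_image_of_injective _ AO.ι.injective]
        exact Set.ncard_lt_ncard hsub hfin
      obtain ⟨y', hy', hy'p⟩ := ih _ hlt (AO : Scheme.{u}) (AO.ι ≫ f) rfl ⟨x, hxA⟩
      refine ⟨AO.ι y', ?_, hy'p⟩
      exact (AO.ι.continuous.image_connectedComponent_subset ⟨x, hxA⟩) ⟨y', hy', rfl⟩

theorem s13901 (S X : Scheme.{u}) [PreconnectedSpace S]
    (f : X ⟶ CohB1.ProjSpaceOver 1 S) [IsFinite f] [Flat f] [LocallyOfFinitePresentation f]
    (x : X) (p : CohB1.ProjSpaceOver 1 S) : ∃ y ∈ connectedComponent x, f y = p := by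
  haveI := preconnectedSpace_P1 S
  exact exists_mem_connectedComponent (CohB1.ProjSpaceOver 1 S) p _ X f rfl x

end Part2

end Groth.Agent.Lib.R2H1.P1Fin
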