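/-
Rational equivalence of the pullbacks of a coherent module along two sections (helper1, round 2; S1903). Contains: finite_stalk_of_isCoh, nontrivial_stalk_iff, locallyFinite_top_support (points of top dimension of the support of a coherent module are locally finite), nontrivial_pullback_stalk (Nakayama), sheafFun_fibre_eq, nontrivial_of_sheafFun_ne_zero, ratEquiv_sheaf (S1903 in abstract form).
-/
import Mathlib
import Groth.Prelude
import Groth.Agent.Lib.R2H1SheafGysin
import Groth.Agent.Lib.Helper4VarDim2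
import Groth.Agent.Lib.R2H1P1Fibres

set_option autoImplicit false
set_option linter.style.haveILetI false
set_option linter.unusedSectionVars false
universe u v

namespace Groth.Agent.Lib.R2H1.P1Sheaf

section Part1

open AlgebraicGeometry CategoryTheory CategoryTheory.Limits TopologicalSpace Topology IsLocalRing
  Groth.Agent.Lib.Helper2.FlatOver Groth.Agent.Lib.Helper2.QCoh
  Groth.Agent.Lib.Helper4.VarDim

variable {P : Scheme.{u}}

/-- the stalks of a coherent module on a locally Noetherian scheme are finite modules. -/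
theorem finite_stalk_of_isCoh [IsLocallyNoetherian P] (F : P.Modules) (hF : Coh.IsCoh F) (p : P) :
    Module.Finite (P.presheaf.stalk p) (F.presheaf.stalk p) := by
  obtain ⟨hqc, hft⟩ := hF
  haveI : F.IsQuasicoherent := hqc
  haveI : SheafOfModules.IsFiniteType (R := P.ringCatSheaf) F := hft
  obtain ⟨U, hU, hxU, -⟩ :=
    (TopologicalSpace.Opens.isBasis_iff_nbhd.mp P.isBasis_affineOpens) (Opens.mem_top p)
  haveI : IsNoetherianRing Γ(P, U) := IsLocallyNoetherian.component_noetherian ⟨U, hU⟩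
  haveI : Module.Finite Γ(P, U) Γ(F, U) :=
    Groth.Agent.Lib.Helper23.FinType.finite_of_isFiniteType F hU
  exact Groth.Agent.S8871.finite_stalk hU F p hxU

/-- the stalk at a point of an affine open is nonzero iff the prime is in the support of the
sections. -/
theorem nontrivial_stalk_iff {U : P.Opens} (hU : IsAffineOpen U) (F : P.Modules)
    [F.IsQuasicoherent] (ξ : P) (hξ : ξ ∈ U) :
    Nontrivial (F.presheaf.stalk ξ) ↔
      hU.primeIdealOf ⟨ξ, hξ⟩ ∈ Module.support Γ(P, U) Γ(F, U) := by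
  letI := moduleStalkSections F U ξ hξ
  haveI := isLocalizedModule_germ hU F ξ hξ
  exact (Groth.Agent.Lib.R2H1.SheafGysin.mem_support_iff_of_isLocalizedModule
    (hU.primeIdealOf ⟨ξ, hξ⟩) Γ(F, U) (F.presheaf.stalk ξ) (germₗ F U ξ hξ)).symm

/-- the points of top dimension of the support of a coherent module form a locally finite
family. -/
theorem locallyFinite_top_support (δP : P → ℤ) (hPs : Cyc.IsSetup P δP) (F : P.Modules)
    (hF : Coh.IsCoh F) (c : ℤ) (hsupp : ∀ p : P, Nontrivial (F.presheaf.stalk p) → δP p ≤ c)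
    (p : P) :
    ∃ U : Set P, IsOpen U ∧ p ∈ U ∧
      {ξ : P | (δP ξ = c ∧ Nontrivial (F.presheaf.stalk ξ)) ∧ (closure {ξ} ∩ U).Nonempty}.Finite := by
  classical
  haveI : IsLocallyNoetherian P := hPs.1
  obtain ⟨hqc, hft⟩ := hF
  haveI : F.IsQuasicoherent := hqc
  haveI : SheafOfModules.IsFiniteType (R := P.ringCatSheaf) F := hft
  obtain ⟨U, hU, hpU, -⟩ :=
    (TopologicalSpace.Opens.isBasis_iff_nbhd.mp P.isBasis_affineOpens) (Opens.mem_top p)
  haveI : IsNoetherianRing Γ(P, U) := IsLocallyNoetherian.component_noetherian ⟨U, hU⟩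
  haveI : Module.Finite Γ(P, U) Γ(F, U) :=
    Groth.Agent.Lib.Helper23.FinType.finite_of_isFiniteType F hU
  refine ⟨U, U.isOpen, hpU, ?_⟩
  have hfin := Ideal.finite_minimalPrimes_of_isNoetherianRing Γ(P, U)
    (Module.annihilator Γ(P, U) Γ(F, U))
  refine (hfin.image (fun q => if h : q.IsPrime then hU.fromSpec ⟨q, h⟩ else p)).subset ?_
  rintro ξ ⟨⟨hξc, hξnt⟩, ⟨y, hy1, hy2⟩⟩
  have hsp : ξ ⤳ y := specializes_iff_mem_closure.mpr hy1
  have hξU : ξ ∈ U := hsp.mem_open U.isOpen hy2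
  have hmem := (nontrivial_stalk_iff hU F ξ hξU).mp hξnt
  refine ⟨(hU.primeIdealOf ⟨ξ, hξU⟩).asIdeal, ?_, ?_⟩
  · rw [Module.support_eq_zeroLocus, PrimeSpectrum.mem_zeroLocus] at hmem
    refine ⟨⟨(hU.primeIdealOf ⟨ξ, hξU⟩).isPrime, hmem⟩, ?_⟩
    rintro q ⟨hqp, hqa⟩ hqle
    have hηU : hU.fromSpec ⟨q, hqp⟩ ∈ U := Groth.Agent.Lib.Helper4.VarDim.fromSpec_mem hU _
    have hq_eq : hU.primeIdealOf ⟨hU.fromSpec ⟨q, hqp⟩, hηU⟩ = ⟨q, hqp⟩ :=
      primeIdealOf_fromSpec hU _ hηU
    have hηnt : Nontrivial (F.presheaf.stalk (hU.fromSpec ⟨q, hqp⟩)) := by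
      rw [nontrivial_stalk_iff hU F _ hηU, hq_eq, Module.support_eq_zeroLocus,
        PrimeSpectrum.mem_zeroLocus]
      exact hqa
    have hηsp : hU.fromSpec ⟨q, hqp⟩ ⤳ ξ := by
      rw [← primeIdealOf_le_iff hU _ _ hηU hξU, hq_eq]
      exact hqle
    by_cases hne : hU.fromSpec ⟨q, hqp⟩ = ξ
    · have h1 : (hU.primeIdealOf ⟨ξ, hξU⟩) = ⟨q, hqp⟩ := by
        rw [← hq_eq]
        congr 1
        exact Subtype.ext hne.symm
      rw [h1]
    · exfalso
      have h1 := (hPs.2.2 _ _ hηsp hne).1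
      have h2 := hsupp _ hηnt
      omega
  · simp only
    rw [dif_pos (hU.primeIdealOf ⟨ξ, hξU⟩).isPrime]
    exact hU.fromSpec_primeIdealOf ⟨ξ, hξU⟩

end Part1

section Part2

open AlgebraicGeometry CategoryTheory CategoryTheory.Limits TopologicalSpace Topology IsLocalRing
  Pointwise
  Groth.Agent.Lib.Helper2.FlatOver Groth.Agent.Lib.Helper2.QCoh
  Groth.Agent.Lib.R2H1.LocQuot Groth.Agent.Lib.R2H1.SheafGysin

variable {P X : Scheme.{u}}

/-- Nakayama: the pullback of a nonzero finite module to a closed subscheme through the point is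
nonzero. -/
theorem nontrivial_pullback_stalk (s : X ⟶ P) [IsClosedImmersion s] (F : P.Modules) (x : X)
    (b : P.presheaf.stalk (s x)) (hb : RingHom.ker (s.stalkMap x).hom = Ideal.span {b})
    [Module.Finite (P.presheaf.stalk (s x)) (F.presheaf.stalk (s x))]
    (hnt : Nontrivial (F.presheaf.stalk (s x))) :
    Nontrivial (((Scheme.Modules.pullback s).obj F).presheaf.stalk x) := by
  by_contra hsub
  rw [not_nontrivial_iff_subsingleton] at hsub
  have hlen := length_stalk_pullback_closedImmersion s F x b hb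
  rw [Module.length_eq_zero] at hlen
  have hq := Module.length_eq_zero_iff.mp hlen.symm
  have htop : b • (⊤ : Submodule (P.presheaf.stalk (s x)) (F.presheaf.stalk (s x))) = ⊤ :=
    Submodule.Quotient.subsingleton_iff.mp hq
  have hbm : b ∈ maximalIdeal (P.presheaf.stalk (s x)) := by
    have h1 : b ∈ RingHom.ker (s.stalkMap x).hom := by
      rw [hb]; exact Ideal.subset_span rfl
    exact IsLocalRing.le_maximalIdeal (RingHom.ker_ne_top _) h1
  have hle : (⊤ : Submodule (P.presheaf.stalk (s x)) (F.presheaf.stalk (s x))) ≤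
      maximalIdeal (P.presheaf.stalk (s x)) •
        (⊤ : Submodule (P.presheaf.stalk (s x)) (F.presheaf.stalk (s x))) := by
    intro m _
    have hm : m ∈ b • (⊤ : Submodule (P.presheaf.stalk (s x)) (F.presheaf.stalk (s x))) := by
      rw [htop]; trivial
    obtain ⟨m', -, rfl⟩ := (Submodule.mem_smul_pointwise_iff_exists _ _ _).mp hm
    exact Submodule.smul_mem_smul hbm trivial
  have hbot : (⊤ : Submodule (P.presheaf.stalk (s x)) (F.presheaf.stalk (s x))) = ⊥ :=
    Submodule.eq_bot_of_le_smul_of_le_jacobson_bot (maximalIdeal (P.presheaf.stalk (s x))) ⊤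
      (Module.finite_def.mp inferInstance) hle (IsLocalRing.maximalIdeal_le_jacobson ⊥)
  obtain ⟨m, hm0⟩ := exists_ne (0 : F.presheaf.stalk (s x))
  have : m ∈ (⊥ : Submodule (P.presheaf.stalk (s x)) (F.presheaf.stalk (s x))) :=
    hbot ▸ (trivial : m ∈ (⊤ : Submodule (P.presheaf.stalk (s x)) (F.presheaf.stalk (s x))))
  exact hm0 ((Submodule.mem_bot _).mp this)

open Classical in
/-- the coefficient of `[s^*F]_k` at a point `x` of dimension `k`, for a section `s` with principal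
ideal. -/
theorem sheafFun_fibre_eq (s : X ⟶ P) [IsClosedImmersion s] (δ : X → ℤ) (δP : P → ℤ)
    (hPs : Cyc.IsSetup P δP) (hδs : ∀ x, δP (s x) = δ x) (k : ℤ) (F : P.Modules)
    (hF : Coh.IsCoh F) (hsupp : ∀ p : P, Nontrivial (F.presheaf.stalk p) → δP p ≤ k + 1)
    (hemb : ∀ p : P, IsAssociatedPrime (maximalIdeal (P.presheaf.stalk p)) (F.presheaf.stalk p) →
      p ∉ Set.range s ∨ δP p < k)
    (x : X) (hx : δ x = k) (b : P.presheaf.stalk (s x))
    (hb : RingHom.ker (s.stalkMap x).hom = Ideal.span {b})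
    (hne : ∀ (ξ : P) (h : ξ ⤳ s x), δP ξ = k + 1 → Nontrivial (F.presheaf.stalk ξ) →
      Cyc.specMap (s x) ξ h b ≠ 0) :
    Cyc.sheafFun δ k ((Scheme.Modules.pullback s).obj F) x =
      ∑ᶠ ξ : P, if h : ξ ⤳ s x ∧ δP (s x) + 1 = δP ξ then
        Cyc.sheafFun δP (k + 1) F ξ * Cyc.ordAt (s x) ξ h.1 (Cyc.specMap (s x) ξ h.1 b)
      else 0 := by
  haveI : IsLocallyNoetherian P := hPs.1
  have hδ := hPs.2.2
  haveI : F.IsQuasicoherent := hF.1
  haveI := finite_stalk_of_isCoh F hF (s x)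
  have hPk : δP (s x) = k := (hδs x).trans hx
  have hdim' : ∀ ξ : P, ξ ⤳ s x → Nontrivial (F.presheaf.stalk ξ) → δP ξ ≤ δP (s x) + 1 := by
    intro ξ _ hnt
    have := hsupp ξ hnt
    omega
  have haξ : ∀ (ξ : P) (h : ξ ⤳ s x), ξ ≠ s x → Nontrivial (F.presheaf.stalk ξ) →
      Cyc.specMap (s x) ξ h b ≠ 0 := by
    intro ξ h hξ hnt
    apply hne ξ h _ hnt
    have h1 := (hδ _ _ h hξ).1
    have h2 := hsupp ξ hnt
    omega
  have hreg : IsSMulRegular (F.presheaf.stalk (s x)) b := by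
    rw [isSMulRegular_iff_right_eq_zero_of_smul]
    intro m hm
    by_contra hm0
    have h1 : b ∈ ⋃ q ∈ associatedPrimes (P.presheaf.stalk (s x)) (F.presheaf.stalk (s x)),
        (q : Set (P.presheaf.stalk (s x))) := by
      rw [biUnion_associatedPrimes_eq_zero_divisors]
      exact ⟨m, hm0, hm⟩
    obtain ⟨q, hq, hbq⟩ := Set.mem_iUnion₂.mp h1
    have hqa : IsAssociatedPrime q (F.presheaf.stalk (s x)) := hq
    haveI hqp : q.IsPrime := hqa.isPrime
    by_cases hqm : q = maximalIdeal (P.presheaf.stalk (s x))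
    · rcases hemb (s x) (hqm ▸ hqa) with h | h
      · exact h ⟨x, rfl⟩
      · omega
    · have hsp : P.fromSpecStalk (s x) ⟨q, hqp⟩ ⤳ s x := by
        have : P.fromSpecStalk (s x) ⟨q, hqp⟩ ∈ Set.range (P.fromSpecStalk (s x)) := ⟨_, rfl⟩
        rwa [Scheme.range_fromSpecStalk] at this
      have hne' := fromSpecStalk_ne_of_ne_maximal (s x) ⟨q, hqp⟩ hqm
      have hker := ker_specMap_fromSpecStalk (s x) q hsp
      have hsupp' : (⟨q, hqp⟩ : PrimeSpectrum (P.presheaf.stalk (s x))) ∈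
          Module.support (P.presheaf.stalk (s x)) (F.presheaf.stalk (s x)) := by
        rw [Module.mem_support_iff_of_finite, ← Submodule.annihilator_top]
        exact hqa.annihilator_le
      have hnt := (mem_support_stalk_iff_nontrivial F (s x) ⟨q, hqp⟩).mp hsupp'
      apply haξ _ hsp hne' hnt
      rw [← RingHom.mem_ker, hker]
      exact hbq
  have hL : Cyc.sheafFun δ k ((Scheme.Modules.pullback s).obj F) x =
      ((Module.length (X.presheaf.stalk x)
        (((Scheme.Modules.pullback s).obj F).presheaf.stalk x)).toNat : ℤ) := by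
    unfold Cyc.sheafFun
    rw [if_pos hx]
  rw [hL, length_stalk_pullback_closedImmersion s F x b hb,
    length_module_eq_finsum hδ F (s x) hdim' b hreg haξ]
  refine finsum_congr (fun ξ => ?_)
  by_cases hc : ξ ⤳ s x ∧ δP (s x) + 1 = δP ξ
  · rw [dif_pos hc, dif_pos hc]
    have hξk : δP ξ = k + 1 := by omega
    unfold Cyc.sheafFun
    rw [if_pos hξk]
  · rw [dif_neg hc, dif_neg hc]

end Part2

section Part3

open AlgebraicGeometry CategoryTheory CategoryTheory.Limits TopologicalSpace Topology IsLocalRing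
  Groth.Agent.Lib.R2H1.P1Fibres

variable {P X : Scheme.{u}}

theorem nontrivial_of_sheafFun_ne_zero (δP : P → ℤ) (c : ℤ) (F : P.Modules) (ξ : P)
    (h : Cyc.sheafFun δP c F ξ ≠ 0) : δP ξ = c ∧ Nontrivial (F.presheaf.stalk ξ) := by
  have h1 : δP ξ = c := by
    by_contra hne
    apply h
    unfold Cyc.sheafFun
    rw [if_neg hne]
  refine ⟨h1, ?_⟩
  by_contra hnt
  rw [not_nontrivial_iff_subsingleton] at hnt
  apply h
  unfold Cyc.sheafFun
  rw [if_pos h1, Module.length_eq_zero, ENat.toNat_zero, Nat.cast_zero]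

/-- **the pullbacks of a coherent module along the two sections have rationally equivalent
cycles.** -/
theorem ratEquiv_sheaf (π : P ⟶ X) [IsProper π] (s0 s1 : X ⟶ P) [IsClosedImmersion s0]
    [IsClosedImmersion s1] (hs0 : s0 ≫ π = 𝟙 X) (hs1 : s1 ≫ π = 𝟙 X)
    (δ : X → ℤ) (δP : P → ℤ) (hX : Cyc.IsSetup X δ) (hPs : Cyc.IsSetup P δP)
    (hP : Cyc.DeltaCompat π δP δ)
    (Φ : (p : P) → P.residueField p) (hΦ : IsLineData s0 s1 Φ) (k : ℤ)
    (F : P.Modules) (hF : Coh.IsCoh F)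
    (hsupp : ∀ p : P, Nontrivial (F.presheaf.stalk p) → δP p ≤ k + 1)
    (h0 : ∀ x : X, Nontrivial (((Scheme.Modules.pullback s0).obj F).presheaf.stalk x) → δ x ≤ k)
    (h1 : ∀ x : X, Nontrivial (((Scheme.Modules.pullback s1).obj F).presheaf.stalk x) → δ x ≤ k)
    (hemb : ∀ p : P, IsAssociatedPrime (maximalIdeal (P.presheaf.stalk p)) (F.presheaf.stalk p) →
      p ∉ Set.range s0 ∪ Set.range s1 ∨ δP p < k)
    (α β : AlgebraicCycle X ℤ)
    (hα : ⇑α = Cyc.sheafFun δ k ((Scheme.Modules.pullback s0).obj F))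
    (hβ : ⇑β = Cyc.sheafFun δ k ((Scheme.Modules.pullback s1).obj F)) :
    Cyc.RatEquiv δ k α β := by
  haveI : IsLocallyNoetherian P := hPs.1
  have hδ0 : ∀ x, δP (s0 x) = δ x := delta_sect π s0 hs0 δ δP hP
  have hδ1 : ∀ x, δP (s1 x) = δ x := delta_sect π s1 hs1 δ δP hP
  have hoff : ∀ ξ : P, δP ξ = k + 1 → Nontrivial (F.presheaf.stalk ξ) →
      ξ ∉ Set.range s0 ∧ ξ ∉ Set.range s1 := by
    intro ξ hξ hnt
    constructor
    · rintro ⟨x, rfl⟩
      obtain ⟨b, hb, -⟩ := hΦ.zero x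
      haveI := finite_stalk_of_isCoh F hF (s0 x)
      have := h0 x (nontrivial_pullback_stalk s0 F x b hb hnt)
      have := hδ0 x
      omega
    · rintro ⟨x, rfl⟩
      obtain ⟨b, hb, -⟩ := hΦ.infty x
      haveI := finite_stalk_of_isCoh F hF (s1 x)
      have := h1 x (nontrivial_pullback_stalk s1 F x b hb hnt)
      have := hδ1 x
      omega
  refine ratEquiv_of_lineData π s0 s1 hs0 hs1 δ δP hX hPs hP Φ hΦ k
    (Cyc.sheafFun δP (k + 1) F) ?_ ?_ α β ?_ ?_ ?_ ?_
  · intro ξ hξ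
    obtain ⟨h1', h2'⟩ := nontrivial_of_sheafFun_ne_zero δP (k + 1) F ξ hξ
    exact ⟨h1', hoff ξ h1' h2'⟩
  · intro p
    obtain ⟨U, hU, hpU, hfin⟩ := locallyFinite_top_support δP hPs F hF (k + 1) hsupp p
    refine ⟨U, hU, hpU, hfin.subset ?_⟩
    rintro ξ ⟨hξ, hne⟩
    exact ⟨nontrivial_of_sheafFun_ne_zero δP (k + 1) F ξ hξ, hne⟩
  · intro x hx
    rw [hα]
    unfold Cyc.sheafFun
    rw [if_neg hx]
  · intro x hx
    rw [hβ]
    unfold Cyc.sheafFun
    rw [if_neg hx]
  · intro x hx b hb hbΦ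
    rw [hα]
    refine sheafFun_fibre_eq s0 δ δP hPs hδ0 k F hF hsupp ?_ x hx b hb ?_
    · intro p hp
      rcases hemb p hp with h | h
      · exact Or.inl (fun h' => h (Or.inl h'))
      · exact Or.inr h
    · intro ξ h hξ hnt
      obtain ⟨h0', h1'⟩ := hoff ξ hξ hnt
      rw [hbΦ ξ h h0' h1']
      exact hΦ.ne_zero _ h0' h1'
  · intro x hx b hb hbΦ
    rw [hβ]
    refine sheafFun_fibre_eq s1 δ δP hPs hδ1 k F hF hsupp ?_ x hx b hb ?_
    · intro p hp
      rcases hemb p hp with h | h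
      · exact Or.inl (fun h' => h (Or.inr h'))
      · exact Or.inr h
    · intro ξ h hξ hnt
      obtain ⟨h0', h1'⟩ := hoff ξ hξ hnt
      rw [hbΦ ξ h h0' h1']
      exact inv_ne_zero (hΦ.ne_zero _ h0' h1')

end Part3

end Groth.Agent.Lib.R2H1.P1Sheaf
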