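/-
helper1 (round 2): spreading out from the generic fibre of P^1_Y -> Y (Y integral). toP1_comp, fromSpecStalkOfMem_specializes/homOfLE, fromSpecStalkOfMem_toPartialMap' (stalk restriction of RationalMap.toPartialMap), jj (P^1_K(Y) -> P^1_Y, a monomorphism), psi (Spec O_{P^1_Y,y} -> P^1_K for y over the generic point), exists_spread: a morphism hbar : P^1_{K(Y)} -> T (T/S locally of finite type, separated) and two K(Y)-points of P^1 spread out to H : P^1_W -> T and sections sa, sb over an affine open W of Y (inside a given V0), compatibly.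
-/
import Mathlib
import Groth.Prelude
import Groth.Agent.Lib.R2H1P1Converse

set_option autoImplicit false
set_option linter.style.haveILetI false
set_option linter.unusedSectionVars false
universe u v

namespace Groth.Agent.Lib.R2H1.P1Spread

section Part1

open CategoryTheory CategoryTheory.Limits AlgebraicGeometry TopologicalSpace Opposite
open Groth.Agent.Lib.R2H1.P1Geom Groth.Agent.Lib.R2H1.P1Converse

theorem toP1_comp {A B C : Scheme.{u}} (a : A ⟶ B) (b : B ⟶ C) :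
    P1.toP1 (a ≫ b) = P1.toP1 a ≫ P1.toP1 b := by
  apply (IsPullback.of_hasPullback (CohB1.ProjSpace.toSpec 1 P1.R0.{u})
    (specULiftZIsTerminal.from C)).hom_ext
  · show P1.toP1 (a ≫ b) ≫ qq C = (P1.toP1 a ≫ P1.toP1 b) ≫ qq C
    rw [toP1_qq, Category.assoc, toP1_qq, toP1_qq]
  · show P1.toP1 (a ≫ b) ≫ CohB1.ProjSpaceOver.toBase 1 C =
      (P1.toP1 a ≫ P1.toP1 b) ≫ CohB1.ProjSpaceOver.toBase 1 C
    rw [toP1_toBase, Category.assoc, toP1_toBase, ← Category.assoc (P1.toP1 a), toP1_toBase,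
      Category.assoc]

theorem fromSpecStalkOfMem_specializes {X : Scheme.{u}} (U : X.Opens) {x y : X} (h : x ⤳ y)
    (hy : y ∈ U) :
    U.fromSpecStalkOfMem x (h.mem_open U.2 hy) =
      Spec.map (X.presheaf.stalkSpecializes h) ≫ U.fromSpecStalkOfMem y hy := by
  rw [← cancel_mono U.ι, Category.assoc, Scheme.Opens.fromSpecStalkOfMem_ι,
    Scheme.Opens.fromSpecStalkOfMem_ι, Scheme.SpecMap_stalkSpecializes_fromSpecStalk]

theorem fromSpecStalkOfMem_homOfLE {X : Scheme.{u}} {W U : X.Opens} (h : W ≤ U) (x : X) (hx : x ∈ W) :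
    W.fromSpecStalkOfMem x hx ≫ X.homOfLE h = U.fromSpecStalkOfMem x (h hx) := by
  rw [← cancel_mono U.ι, Category.assoc, X.homOfLE_ι, Scheme.Opens.fromSpecStalkOfMem_ι,
    Scheme.Opens.fromSpecStalkOfMem_ι]

theorem fromSpecStalkOfMem_toPartialMap' {X T : Scheme.{u}} [IsReduced X] [T.IsSeparated]
    (r : X ⤏ T) (g : X.PartialMap T) (hg : g.toRationalMap = r) {x : X} (hx : x ∈ g.domain)
    (hx' : x ∈ r.toPartialMap.domain) :
    r.toPartialMap.fromSpecStalkOfMem hx' = g.fromSpecStalkOfMem hx := by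
  subst hg
  refine (Scheme.PartialMap.fromSpecStalkOfMem_restrict _ g.dense_domain
    g.le_domain_toRationalMap hx).symm.trans ?_
  exact congrArg (fun t => g.domain.fromSpecStalkOfMem x hx ≫ t)
    (Scheme.PartialMap.toPartialMap_toRationalMap_restrict g)

section

variable (Y : Scheme.{u}) [IsIntegral Y]

noncomputable abbrev PP : Scheme.{u} := CohB1.ProjSpaceOver 1 Y
noncomputable abbrev ππ : PP Y ⟶ Y := CohB1.ProjSpaceOver.toBase 1 Y
noncomputable abbrev PK : Scheme.{u} := CohB1.ProjSpaceOver 1 (Spec Y.functionField)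
noncomputable abbrev πK : PK Y ⟶ Spec Y.functionField :=
  CohB1.ProjSpaceOver.toBase 1 (Spec Y.functionField)
noncomputable abbrev ee : Spec Y.functionField ⟶ Y := Y.fromSpecStalk (genericPoint Y)
noncomputable abbrev jj : PK Y ⟶ PP Y := P1.toP1 (ee Y)

instance mono_jj : Mono (jj Y) := (isPullback_toP1 (ee Y)).mono_fst_of_mono

theorem toBase_jj_apply (z : PK Y) : ππ Y (jj Y z) = genericPoint Y := by
  rw [toP1_toBase_apply]
  have hw : πK Y z = IsLocalRing.closedPoint Y.functionField :=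
    (inferInstance : Subsingleton (PrimeSpectrum Y.functionField)).elim _ _
  rw [hw]
  exact Scheme.fromSpecStalk_closedPoint

noncomputable def psi (y : PP Y) (hy : ππ Y y = genericPoint Y) :
    Spec ((PP Y).presheaf.stalk y) ⟶ PK Y :=
  (isPullback_toP1 (ee Y)).lift ((PP Y).fromSpecStalk y)
    (Spec.map ((ππ Y).stalkMap y) ≫ Spec.map (Y.presheaf.stalkSpecializes (specializes_of_eq hy)))
    (by rw [Category.assoc, Scheme.SpecMap_stalkSpecializes_fromSpecStalk,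
      Scheme.SpecMap_stalkMap_fromSpecStalk])

theorem psi_jj (y : PP Y) (hy : ππ Y y = genericPoint Y) :
    psi Y y hy ≫ jj Y = (PP Y).fromSpecStalk y :=
  IsPullback.lift_fst _ _ _ _

theorem exists_spread {S T : Scheme.{u}} (p : Y ⟶ S) (q : T ⟶ S) [LocallyOfFiniteType q]
    [T.IsSeparated] [S.IsSeparated] [IsIntegral (PP Y)] [IsIntegral (PK Y)]
    (V0 : Y.Opens) (hV0 : genericPoint Y ∈ V0)
    (hbar : PK Y ⟶ T) (hq : hbar ≫ q = πK Y ≫ ee Y ≫ p)
    (σa σb : Spec Y.functionField ⟶ PK Y)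
    (ha : σa ≫ πK Y = 𝟙 _) (hb : σb ≫ πK Y = 𝟙 _) :
    ∃ (W : Y.Opens) (hW : genericPoint Y ∈ W) (_ : IsAffineOpen W) (_ : W ≤ V0)
      (H : CohB1.ProjSpaceOver 1 (W : Scheme.{u}) ⟶ T)
      (sa sb : (W : Scheme.{u}) ⟶ CohB1.ProjSpaceOver 1 (W : Scheme.{u})),
      H ≫ q = CohB1.ProjSpaceOver.toBase 1 (W : Scheme.{u}) ≫ W.ι ≫ p ∧
      sa ≫ CohB1.ProjSpaceOver.toBase 1 (W : Scheme.{u}) = 𝟙 _ ∧
      sb ≫ CohB1.ProjSpaceOver.toBase 1 (W : Scheme.{u}) = 𝟙 _ ∧
      W.fromSpecStalkOfMem (genericPoint Y) hW ≫ sa ≫ H = σa ≫ hbar ∧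
      W.fromSpecStalkOfMem (genericPoint Y) hW ≫ sb ≫ H = σb ≫ hbar := by
  classical
  haveI : IsProper (ππ Y) := Groth.Agent.S9705.isProper_toBase 1 Y
  have hpbw : jj Y ≫ ππ Y = πK Y ≫ ee Y := (isPullback_toP1 (ee Y)).w
  -- the spread-out partial maps at points over the generic point
  have hφ : ∀ (y : PP Y) (hy : ππ Y y = genericPoint Y),
      (psi Y y hy ≫ hbar) ≫ q = (PP Y).fromSpecStalk y ≫ (ππ Y ≫ p) := by
    intro y hy
    calc (psi Y y hy ≫ hbar) ≫ q = psi Y y hy ≫ (πK Y ≫ ee Y) ≫ p := by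
          rw [Category.assoc, hq]; simp only [Category.assoc]
      _ = psi Y y hy ≫ (jj Y ≫ ππ Y) ≫ p := by rw [hpbw]
      _ = (psi Y y hy ≫ jj Y) ≫ ππ Y ≫ p := by simp only [Category.assoc]
      _ = _ := by rw [psi_jj]
  have key : ∀ (y : PP Y) (hy : ππ Y y = genericPoint Y), ∃ g : (PP Y).PartialMap T,
      ∃ hm : y ∈ g.domain, g.fromSpecStalkOfMem hm = psi Y y hy ≫ hbar ∧
        g.hom ≫ q = g.domain.ι ≫ (ππ Y ≫ p) := fun y hy =>
    ⟨Scheme.PartialMap.ofFromSpecStalk (ππ Y ≫ p) q (psi Y y hy ≫ hbar) (hφ y hy),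
      Scheme.PartialMap.mem_domain_ofFromSpecStalk _ _ _ _,
      Scheme.PartialMap.fromSpecStalkOfMem_ofFromSpecStalk _ _ _ _,
      Scheme.PartialMap.ofFromSpecStalk_comp _ _ _ _⟩
  choose G hmemG hG hGq using key
  -- pairwise equivalence
  have hequiv : ∀ (y y' : PP Y) (hy : ππ Y y = genericPoint Y) (hy' : ππ Y y' = genericPoint Y),
      (G y hy).toRationalMap = (G y' hy').toRationalMap := by
    intro y y' hy hy'
    rw [Scheme.PartialMap.toRationalMap_eq_iff]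
    have hs : genericPoint (PP Y) ⤳ y := genericPoint_specializes y
    have hs' : genericPoint (PP Y) ⤳ y' := genericPoint_specializes y'
    refine Scheme.PartialMap.equiv_of_fromSpecStalkOfMem_eq (x := genericPoint (PP Y))
      (G y hy) (G y' hy')
      (hs.mem_open (G y hy).domain.2 (hmemG y hy))
      (hs'.mem_open (G y' hy').domain.2 (hmemG y' hy')) ?_
    have e1 : (G y hy).domain.fromSpecStalkOfMem y (hmemG y hy) ≫ (G y hy).hom =
        psi Y y hy ≫ hbar := hG y hy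
    have e1' : (G y' hy').domain.fromSpecStalkOfMem y' (hmemG y' hy') ≫ (G y' hy').hom =
        psi Y y' hy' ≫ hbar := hG y' hy'
    show (G y hy).domain.fromSpecStalkOfMem _ _ ≫ (G y hy).hom =
      (G y' hy').domain.fromSpecStalkOfMem _ _ ≫ (G y' hy').hom
    rw [fromSpecStalkOfMem_specializes _ hs (hmemG y hy),
      fromSpecStalkOfMem_specializes _ hs' (hmemG y' hy'), Category.assoc, Category.assoc, e1, e1',
      ← Category.assoc, ← Category.assoc]
    congr 1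
    rw [← cancel_mono (jj Y), Category.assoc, Category.assoc, psi_jj, psi_jj,
      Scheme.SpecMap_stalkSpecializes_fromSpecStalk, Scheme.SpecMap_stalkSpecializes_fromSpecStalk]
  -- the rational map
  have hy0 : ππ Y (P1.sect Y 0 (genericPoint Y)) = genericPoint Y := by
    rw [← Scheme.Hom.comp_apply, sect_toBase]; rfl
  obtain ⟨Frat, hFrat⟩ : ∃ r : (PP Y) ⤏ T, r = (G _ hy0).toRationalMap := ⟨_, rfl⟩
  have hGr : ∀ (y : PP Y) (hy : ππ Y y = genericPoint Y), (G y hy).toRationalMap = Frat :=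
    fun y hy => (hequiv y _ hy hy0).trans hFrat.symm
  have hN : ∀ (y : PP Y) (hy : ππ Y y = genericPoint Y), y ∈ Frat.toPartialMap.domain :=
    fun y hy => Scheme.RationalMap.mem_domain.mpr ⟨G y hy, hmemG y hy, hGr y hy⟩
  have hF : ∀ (y : PP Y) (hy : ππ Y y = genericPoint Y),
      Frat.toPartialMap.fromSpecStalkOfMem (hN y hy) = psi Y y hy ≫ hbar := fun y hy =>
    (fromSpecStalkOfMem_toPartialMap' Frat (G y hy) (hGr y hy) (hmemG y hy) (hN y hy)).trans (hG y hy)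
  -- F is over S
  have hFq : Frat.toPartialMap.hom ≫ q = Frat.toPartialMap.domain.ι ≫ (ππ Y ≫ p) := by
    letI : (PP Y).Over S := ⟨ππ Y ≫ p⟩
    letI : T.Over S := ⟨q⟩
    haveI : (G _ hy0).IsOver S := ⟨hGq _ hy0⟩
    haveI : Frat.IsOver S := by rw [hFrat]; infer_instance
    haveI : Frat.toPartialMap.IsOver S := inferInstance
    exact comp_over Frat.toPartialMap.hom S
  -- the lift of j
  have hrange : Set.range (jj Y) ⊆ Set.range Frat.toPartialMap.domain.ι := by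
    rintro _ ⟨z, rfl⟩
    rw [Scheme.Opens.range_ι]
    exact hN _ (toBase_jj_apply Y z)
  have hj' : IsOpenImmersion.lift Frat.toPartialMap.domain.ι (jj Y) hrange ≫
      Frat.toPartialMap.domain.ι = jj Y := IsOpenImmersion.lift_fac _ _ _
  have hcore : IsOpenImmersion.lift Frat.toPartialMap.domain.ι (jj Y) hrange ≫
      Frat.toPartialMap.hom = hbar := by
    apply Scheme.hom_ext_of_forall
    intro z
    refine spread_out_unique_of_isGermInjective' (x := z) _ _ ?_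
    have hz := hN _ (toBase_jj_apply Y z)
    have h1 : (PK Y).fromSpecStalk z ≫
        IsOpenImmersion.lift Frat.toPartialMap.domain.ι (jj Y) hrange =
        Spec.map ((jj Y).stalkMap z) ≫
          Frat.toPartialMap.domain.fromSpecStalkOfMem (jj Y z) hz := by
      rw [← cancel_mono Frat.toPartialMap.domain.ι, Category.assoc, hj', Category.assoc,
        Scheme.Opens.fromSpecStalkOfMem_ι, Scheme.SpecMap_stalkMap_fromSpecStalk]
    have h2 : Spec.map ((jj Y).stalkMap z) ≫ psi Y (jj Y z) (toBase_jj_apply Y z) =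
        (PK Y).fromSpecStalk z := by
      rw [← cancel_mono (jj Y), Category.assoc, psi_jj, Scheme.SpecMap_stalkMap_fromSpecStalk]
    have h3 : Frat.toPartialMap.domain.fromSpecStalkOfMem (jj Y z) hz ≫ Frat.toPartialMap.hom =
        psi Y (jj Y z) (toBase_jj_apply Y z) ≫ hbar := hF _ (toBase_jj_apply Y z)
    rw [← Category.assoc, h1, Category.assoc, h3, ← Category.assoc, h2]
  -- the open W0 of the base over which everything is defined
  have hcl : IsClosed (ππ Y '' ((Frat.toPartialMap.domain : Set (PP Y))ᶜ)) :=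
    (ππ Y).isClosedMap _ Frat.toPartialMap.domain.2.isClosed_compl
  have hη : genericPoint Y ∉ ππ Y '' ((Frat.toPartialMap.domain : Set (PP Y))ᶜ) := by
    rintro ⟨c, hc, hcη⟩
    exact hc (hN c hcη)
  -- sections
  have hσ : ∀ σ : Spec Y.functionField ⟶ PK Y, σ ≫ πK Y = 𝟙 _ →
      (σ ≫ jj Y) ≫ ππ Y = Y.fromSpecStalk (genericPoint Y) ≫ 𝟙 Y := by
    intro σ h
    rw [Category.assoc, hpbw, ← Category.assoc, h, Category.id_comp, Category.comp_id]
  obtain ⟨Ua, hUa, sa0, hsa0, hsa0π⟩ :=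
    spread_out_of_isGermInjective' (𝟙 Y) (ππ Y) (σa ≫ jj Y) (hσ σa ha)
  obtain ⟨Ub, hUb, sb0, hsb0, hsb0π⟩ :=
    spread_out_of_isGermInjective' (𝟙 Y) (ππ Y) (σb ≫ jj Y) (hσ σb hb)
  let W0 : Y.Opens := ⟨(ππ Y '' ((Frat.toPartialMap.domain : Set (PP Y))ᶜ))ᶜ, hcl.isOpen_compl⟩
  have hmem : genericPoint Y ∈ (W0 ⊓ V0 ⊓ Ua ⊓ Ub : Y.Opens) := ⟨⟨⟨hη, hV0⟩, hUa⟩, hUb⟩
  have hexW : ∃ W : Y.Opens, IsAffineOpen W ∧ genericPoint Y ∈ W ∧
      (W : Set Y) ⊆ ((W0 ⊓ V0 ⊓ Ua ⊓ Ub : Y.Opens) : Set Y) := by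
    obtain ⟨_, ⟨W, hWaff, rfl⟩, hηW, hWsub⟩ :=
      Y.isBasis_affineOpens.exists_subset_of_mem_open hmem (W0 ⊓ V0 ⊓ Ua ⊓ Ub : Y.Opens).2
    exact ⟨W, hWaff, hηW, hWsub⟩
  obtain ⟨W, hWaff, hηW, hWsub⟩ := hexW
  have hW0 : W ≤ W0 := fun x hx => (hWsub hx).1.1.1
  have hWV0 : W ≤ V0 := fun x hx => (hWsub hx).1.1.2
  have hWa : W ≤ Ua := fun x hx => (hWsub hx).1.2
  have hWb : W ≤ Ub := fun x hx => (hWsub hx).2
  have hr : Set.range (P1.toP1 W.ι) ⊆ Set.range Frat.toPartialMap.domain.ι := by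
    rintro _ ⟨t, rfl⟩
    rw [Scheme.Opens.range_ι]
    by_contra hnot
    have h1 : ππ Y (P1.toP1 W.ι t) ∈ ππ Y '' ((Frat.toPartialMap.domain : Set (PP Y))ᶜ) :=
      ⟨_, hnot, rfl⟩
    have h2 : ππ Y (P1.toP1 W.ι t) ∈ W0 := by
      rw [toP1_toBase_apply]
      exact hW0 (CohB1.ProjSpaceOver.toBase 1 (W : Scheme.{u}) t).2
    exact h2 h1
  have hlift : IsOpenImmersion.lift Frat.toPartialMap.domain.ι (P1.toP1 W.ι) hr ≫
      Frat.toPartialMap.domain.ι = P1.toP1 W.ι := IsOpenImmersion.lift_fac _ _ _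
  -- sections over W
  have hsec : ∀ (U : Y.Opens) (hWU : W ≤ U) (s0 : (U : Scheme.{u}) ⟶ PP Y),
      s0 ≫ ππ Y = U.ι ≫ 𝟙 Y → (Y.homOfLE hWU ≫ s0) ≫ ππ Y = 𝟙 (W : Scheme.{u}) ≫ W.ι := by
    intro U hWU s0 h
    rw [Category.assoc, h, Category.comp_id, Y.homOfLE_ι, Category.id_comp]
  have hfin : ∀ (U : Y.Opens) (hU : genericPoint Y ∈ U) (hWU : W ≤ U) (s0 : (U : Scheme.{u}) ⟶ PP Y)
      (hs0π : s0 ≫ ππ Y = U.ι ≫ 𝟙 Y) (σ : Spec Y.functionField ⟶ PK Y)
      (hs0 : σ ≫ jj Y = U.fromSpecStalkOfMem (genericPoint Y) hU ≫ s0),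
      W.fromSpecStalkOfMem (genericPoint Y) hηW ≫
        (isPullback_toP1 W.ι).lift (Y.homOfLE hWU ≫ s0) (𝟙 _) (hsec U hWU s0 hs0π) ≫
        IsOpenImmersion.lift Frat.toPartialMap.domain.ι (P1.toP1 W.ι) hr ≫
          Frat.toPartialMap.hom = σ ≫ hbar := by
    intro U hU hWU s0 hs0π σ hs0
    have k1 : W.fromSpecStalkOfMem (genericPoint Y) hηW ≫
        (isPullback_toP1 W.ι).lift (Y.homOfLE hWU ≫ s0) (𝟙 _) (hsec U hWU s0 hs0π) ≫
        IsOpenImmersion.lift Frat.toPartialMap.domain.ι (P1.toP1 W.ι) hr =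
        σ ≫ IsOpenImmersion.lift Frat.toPartialMap.domain.ι (jj Y) hrange := by
      rw [← cancel_mono Frat.toPartialMap.domain.ι]
      simp only [Category.assoc]
      rw [hlift, hj', IsPullback.lift_fst, ← Category.assoc, fromSpecStalkOfMem_homOfLE hWU, hs0]
    calc _ = (W.fromSpecStalkOfMem (genericPoint Y) hηW ≫
        (isPullback_toP1 W.ι).lift (Y.homOfLE hWU ≫ s0) (𝟙 _) (hsec U hWU s0 hs0π) ≫
        IsOpenImmersion.lift Frat.toPartialMap.domain.ι (P1.toP1 W.ι) hr) ≫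
          Frat.toPartialMap.hom := by simp only [Category.assoc]
      _ = _ := by rw [k1, Category.assoc, hcore]
  refine ⟨W, hηW, hWaff, hWV0,
    IsOpenImmersion.lift Frat.toPartialMap.domain.ι (P1.toP1 W.ι) hr ≫ Frat.toPartialMap.hom,
    (isPullback_toP1 W.ι).lift (Y.homOfLE hWa ≫ sa0) (𝟙 _) (hsec Ua hWa sa0 hsa0π),
    (isPullback_toP1 W.ι).lift (Y.homOfLE hWb ≫ sb0) (𝟙 _) (hsec Ub hWb sb0 hsb0π),
    ?_, IsPullback.lift_snd _ _ _ _, IsPullback.lift_snd _ _ _ _,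
    hfin Ua hUa hWa sa0 hsa0π σa hsa0, hfin Ub hUb hWb sb0 hsb0π σb hsb0⟩
  rw [Category.assoc, hFq, ← Category.assoc, hlift, ← Category.assoc, toP1_toBase, Category.assoc]

end

end Part1

end Groth.Agent.Lib.R2H1.P1Spread
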