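/-
helper1 (round 2): the henselization of a pair (A, I) with A a G-ring is a G-ring (S9276).
Key: for a maximal ideal m of the pair henselization B, the henselization of A at m ∩ A is also a
henselization of B_m (universal properties), then S2772 twice.
-/
import Mathlib
import Groth.Agent.Lib.Helper26HzNoeth
import Groth.Agent.Lib.Helper3HzD
import Groth.Agent.Lib.Helper3HzN
import Groth.Agent.Lib.Helper7GRingMax
import Groth.Agent.S2772

set_option autoImplicit false
set_option linter.style.haveILetI false
set_option linter.unusedSectionVars false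
universe u

namespace Groth.Agent.Lib.R2H1.PairHzGRing

section Part1

open IsLocalRing Groth.Agent.Lib.Helper3.Hz

variable {A : Type u} [CommRing A] {I : Ideal A} {B : Type u} [CommRing B] [Algebra A B]

/-- surjectivity of `A → B/IB` for a henselization of a pair -/
theorem exists_sub_mem (hB : Hens2.IsPairHenselization A I B) (b : B) :
    ∃ a : A, b - algebraMap A B a ∈ I.map (algebraMap A B) := by
  have h := (Groth.Agent.Lib.Helper26.PairHz.quotientMap_pow_bijective hB 1).2
  obtain ⟨x, hx⟩ := h (Ideal.Quotient.mk _ b)
  obtain ⟨a, rfl⟩ := Ideal.Quotient.mk_surjective x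
  refine ⟨a, ?_⟩
  rw [Ideal.quotientMap_mk] at hx
  have h2 := Ideal.Quotient.eq.mp hx
  rw [pow_one] at h2
  have h3 := Ideal.neg_mem_iff _ |>.mpr h2
  rwa [neg_sub] at h3

theorem map_le_of_isMaximal (hB : Hens2.IsPairHenselization A I B) (m : Ideal B) [m.IsMaximal] :
    I.map (algebraMap A B) ≤ m := by
  refine le_trans hB.1.jac ?_
  exact sInf_le ⟨bot_le, ‹m.IsMaximal›⟩

theorem le_comap_of_isMaximal (hB : Hens2.IsPairHenselization A I B) (m : Ideal B) [m.IsMaximal] :
    I ≤ m.comap (algebraMap A B) := by
  intro a ha
  exact map_le_of_isMaximal hB m (Ideal.mem_map_of_mem _ ha)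

/-- A ring map from the henselization `B` to a local ring `C`, whose restriction to `A` sends
`m ∩ A` into the maximal ideal, pulls back the maximal ideal of `C` to `m`. -/
theorem comap_eq_of_isMaximal (hB : Hens2.IsPairHenselization A I B) (m : Ideal B) [m.IsMaximal]
    {C : Type u} [CommRing C] [IsLocalRing C] (g : B →+* C)
    (hg : ∀ a : A, algebraMap A B a ∈ m → g (algebraMap A B a) ∈ maximalIdeal C) :
    (maximalIdeal C).comap g = m := by
  have hle : m ≤ (maximalIdeal C).comap g := by
    intro x hx
    obtain ⟨a, ha⟩ := exists_sub_mem hB x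
    have hIm := map_le_of_isMaximal hB m
    have ham : algebraMap A B a ∈ m := by
      have : algebraMap A B a = x - (x - algebraMap A B a) := by ring
      rw [this]
      exact m.sub_mem hx (hIm ha)
    have h1 : g (x - algebraMap A B a) ∈ maximalIdeal C := by
      have h2 : (I.map (algebraMap A B)).map g ≤ maximalIdeal C := by
        rw [Ideal.map_map, Ideal.map_le_iff_le_comap]
        intro a' ha'
        exact hg a' (hIm (Ideal.mem_map_of_mem _ ha'))
      exact h2 (Ideal.mem_map_of_mem _ ha)
    have h3 : g x = g (x - algebraMap A B a) + g (algebraMap A B a) := by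
      rw [← map_add]; congr 1; ring
    rw [Ideal.mem_comap, h3]
    exact (maximalIdeal C).add_mem h1 (hg a ham)
  have hne : (maximalIdeal C).comap g ≠ ⊤ := Ideal.comap_ne_top _ (maximalIdeal.isMaximal C).ne_top
  exact (Ideal.IsMaximal.eq_of_le ‹m.IsMaximal› hne hle).symm

end Part1

section Part2

open IsLocalRing Groth.Agent.Lib.Helper3.Hz

variable {A : Type u} [CommRing A] {I : Ideal A} {B : Type u} [CommRing B] [Algebra A B]

section Constr

variable (hB : Hens2.IsPairHenselization A I B) (m : Ideal B) [m.IsMaximal]

/-- the prime `m ∩ A` -/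
abbrev nn : Ideal A := m.comap (algebraMap A B)

instance : (nn (A := A) m).IsPrime := Ideal.comap_isPrime _ _

/-- the henselization of `A` at `m ∩ A` -/
abbrev HH : Type u := Rh (Localization.AtPrime (nn (A := A) m))

/-- the structure map `A → (A_n)^h` -/
noncomputable def ff : A →+* HH (A := A) m :=
  (algebraMap (Localization.AtPrime (nn (A := A) m)) (HH (A := A) m)).comp
    (algebraMap A (Localization.AtPrime (nn (A := A) m)))

theorem ff_mem (a : A) (ha : algebraMap A B a ∈ m) : ff m a ∈ maximalIdeal (HH (A := A) m) := by
  have h1 : algebraMap A (Localization.AtPrime (nn (A := A) m)) a ∈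
      maximalIdeal (Localization.AtPrime (nn (A := A) m)) :=
    (IsLocalization.AtPrime.to_map_mem_maximal_iff _ (nn (A := A) m) a).mpr ha
  intro hu
  apply h1
  exact (isUnit_map_iff (algebraMap (Localization.AtPrime (nn (A := A) m)) (HH (A := A) m)) _).mp hu

include hB in
theorem map_ff_le : I.map (ff (A := A) m) ≤ maximalIdeal (HH (A := A) m) := by
  rw [Ideal.map_le_iff_le_comap]
  intro a ha
  exact ff_mem m a (le_comap_of_isMaximal hB m ha)

/-- the map `B → (A_n)^h` from the universal property -/
noncomputable def gg : B →+* HH (A := A) m :=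
  (hB.2 (HH (A := A) m) (maximalIdeal _) (ff m) inferInstance (map_ff_le hB m)).exists.choose

theorem gg_comp : (gg hB m).comp (algebraMap A B) = ff m :=
  (hB.2 (HH (A := A) m) (maximalIdeal _) (ff m) inferInstance (map_ff_le hB m)).exists.choose_spec

theorem gg_algebraMap (a : A) : gg hB m (algebraMap A B a) = ff m a :=
  congrArg (fun k : A →+* HH (A := A) m => k a) (gg_comp hB m)

theorem comap_gg : (maximalIdeal (HH (A := A) m)).comap (gg hB m) = m := by
  apply comap_eq_of_isMaximal hB m
  intro a ha
  rw [gg_algebraMap]
  exact ff_mem m a ha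

theorem isUnit_gg (y : m.primeCompl) : IsUnit (gg hB m y) := by
  by_contra h
  have h1 : (y : B) ∈ (maximalIdeal (HH (A := A) m)).comap (gg hB m) := h
  rw [comap_gg] at h1
  exact y.2 h1

/-- the induced map `B_m → (A_n)^h` -/
noncomputable def gm : Localization.AtPrime m →+* HH (A := A) m :=
  IsLocalization.lift (M := m.primeCompl) (g := gg hB m) (isUnit_gg hB m)

theorem gm_comp : (gm hB m).comp (algebraMap B (Localization.AtPrime m)) = gg hB m :=
  IsLocalization.lift_comp _

theorem gm_algebraMap (b : B) : gm hB m (algebraMap B (Localization.AtPrime m) b) = gg hB m b :=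
  IsLocalization.lift_eq _ b

theorem isLocalHom_gm : IsLocalHom (gm hB m) := by
  constructor
  intro x hx
  obtain ⟨b, s, rfl⟩ := IsLocalization.exists_mk'_eq m.primeCompl x
  have h1 : IsLocalization.mk' (Localization.AtPrime m) b s * algebraMap B _ (s : B) =
      algebraMap B _ b := IsLocalization.mk'_spec _ b s
  have h2 : gm hB m (IsLocalization.mk' (Localization.AtPrime m) b s) * gg hB m s = gg hB m b := by
    rw [← gm_algebraMap, ← gm_algebraMap, ← map_mul, h1]
  have h3 : IsUnit (gg hB m b) := by
    rw [← h2]; exact hx.mul (isUnit_gg hB m s)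
  have h4 : b ∉ m := by
    intro hb
    have : b ∈ (maximalIdeal (HH (A := A) m)).comap (gg hB m) := by rw [comap_gg]; exact hb
    exact this h3
  have h5 : IsUnit (algebraMap B (Localization.AtPrime m) b) :=
    IsLocalization.map_units (M := m.primeCompl) _ ⟨b, h4⟩
  rw [← h1] at h5
  exact isUnit_of_mul_isUnit_left h5

/-- the local map `A_n → B_m` -/
noncomputable def rho : Localization.AtPrime (nn (A := A) m) →+* Localization.AtPrime m :=
  Localization.localRingHom (nn (A := A) m) m (algebraMap A B) rfl

theorem rho_algebraMap (a : A) :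
    rho (A := A) m (algebraMap A _ a) = algebraMap B (Localization.AtPrime m) (algebraMap A B a) :=
  Localization.localRingHom_to_map _ _ _ _ a

instance : IsLocalHom (rho (A := A) m) := by
  unfold rho; infer_instance

theorem gm_comp_rho : (gm hB m).comp (rho (A := A) m) =
    algebraMap (Localization.AtPrime (nn (A := A) m)) (HH (A := A) m) := by
  apply IsLocalization.ringHom_ext (nn (A := A) m).primeCompl
  ext a
  simp only [RingHom.comp_apply, rho_algebraMap, gm_algebraMap, gg_algebraMap]
  rfl

end Constr

end Part2

section Part3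

open IsLocalRing Groth.Agent.Lib.Helper3.Hz

variable {A : Type u} [CommRing A] {I : Ideal A} {B : Type u} [CommRing B] [Algebra A B]

theorem isHenselization_gm (hB : Hens2.IsPairHenselization A I B) (m : Ideal B) [m.IsMaximal] :
    letI : Algebra (Localization.AtPrime m) (HH (A := A) m) := (gm hB m).toAlgebra
    haveI : IsLocalHom (algebraMap (Localization.AtPrime m) (HH (A := A) m)) := isLocalHom_gm hB m
    Hensel.IsHenselization (Localization.AtPrime m) (HH (A := A) m) := by
  letI : Algebra (Localization.AtPrime m) (HH (A := A) m) := (gm hB m).toAlgebra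
  haveI : IsLocalHom (algebraMap (Localization.AtPrime m) (HH (A := A) m)) := isLocalHom_gm hB m
  have halg : algebraMap (Localization.AtPrime m) (HH (A := A) m) = gm hB m := rfl
  refine ⟨inferInstance, ?_⟩
  intro T _ _ φ hφ
  rw [halg]
  haveI := hφ
  let ψ : Localization.AtPrime (nn (A := A) m) →+* T := φ.comp (rho (A := A) m)
  have hψ : IsLocalHom ψ := RingHom.isLocalHom_comp φ (rho (A := A) m)
  obtain ⟨h, hh, huniq⟩ :=
    (isHenselization (R := Localization.AtPrime (nn (A := A) m))).universal T ψ hψ
  -- the common restriction to `A`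
  let F : A →+* T := ψ.comp (algebraMap A (Localization.AtPrime (nn (A := A) m)))
  have hF : I.map F ≤ maximalIdeal T := by
    rw [Ideal.map_le_iff_le_comap]
    intro a ha
    have h1 : algebraMap A (Localization.AtPrime (nn (A := A) m)) a ∈
        maximalIdeal (Localization.AtPrime (nn (A := A) m)) :=
      (IsLocalization.AtPrime.to_map_mem_maximal_iff _ (nn (A := A) m) a).mpr
        (le_comap_of_isMaximal hB m ha)
    intro hu
    apply h1
    exact (isUnit_map_iff ψ _).mp hu
  have hU := hB.2 T (maximalIdeal T) F inferInstance hF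
  refine ⟨h, ?_, ?_⟩
  · -- h ∘ gm = φ
    apply IsLocalization.ringHom_ext m.primeCompl
    have e1 : ((h.comp (gm hB m)).comp (algebraMap B (Localization.AtPrime m))).comp
        (algebraMap A B) = F := by
      ext a
      have hha : ∀ x, h (algebraMap _ _ x) = ψ x := fun x =>
        congrArg (fun k : Localization.AtPrime (nn (A := A) m) →+* T => k x) hh
      simp only [RingHom.comp_apply, gm_algebraMap, gg_algebraMap]
      exact hha _
    have e2 : (φ.comp (algebraMap B (Localization.AtPrime m))).comp (algebraMap A B) = F := by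
      ext a
      simp only [RingHom.comp_apply, F, ψ, rho_algebraMap]
    exact hU.unique e1 e2
  · intro h' hh'
    apply huniq
    rw [← gm_comp_rho hB m, ← RingHom.comp_assoc, hh']

theorem isRegularHom_cpl_localization (hA : CAlg.IsGRing A)
    (hB : Hens2.IsPairHenselization A I B) (m : Ideal B) [m.IsMaximal] :
    CAlg.IsRegularHom (Localization.AtPrime m)
      (AdicCompletion (maximalIdeal (Localization.AtPrime m)) (Localization.AtPrime m)) := by
  haveI := hA.1
  haveI : IsNoetherianRing B :=
    Groth.Agent.Lib.Helper26.HzNoeth.isNoetherianRing_of_isPairHenselization hB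
  haveI : IsNoetherianRing (Localization.AtPrime (nn (A := A) m)) :=
    IsLocalization.isNoetherianRing (nn (A := A) m).primeCompl _ inferInstance
  haveI : IsNoetherianRing (Localization.AtPrime m) :=
    IsLocalization.isNoetherianRing m.primeCompl _ inferInstance
  have h1 := hA.2 (nn (A := A) m)
  have h2 := (Groth.Agent.S2772.result (Localization.AtPrime (nn (A := A) m)) (HH (A := A) m)).mpr h1
  letI : Algebra (Localization.AtPrime m) (HH (A := A) m) := (gm hB m).toAlgebra
  haveI : IsLocalHom (algebraMap (Localization.AtPrime m) (HH (A := A) m)) := isLocalHom_gm hB m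
  haveI := isHenselization_gm hB m
  exact (Groth.Agent.S2772.result (Localization.AtPrime m) (HH (A := A) m)).mp h2

/-- **S9276**: the henselization of a pair `(A, I)` with `A` a G-ring is a G-ring. -/
theorem main_9276 (A : Type u) [CommRing A] (hA : CAlg.IsGRing A) (I : Ideal A)
    (B : Type u) [CommRing B] [Algebra A B] (hB : Hens2.IsPairHenselization A I B) :
    CAlg.IsGRing B := by
  haveI := hA.1
  haveI : IsNoetherianRing B :=
    Groth.Agent.Lib.Helper26.HzNoeth.isNoetherianRing_of_isPairHenselization hB
  rw [Groth.Agent.Lib.Helper7.GRingMax.isGRing_iff_maximalIdeals]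
  intro m _
  exact isRegularHom_cpl_localization hA hB m

end Part3

end Groth.Agent.Lib.R2H1.PairHzGRing
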