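import Mathlib
import Groth.Prelude
import Groth.Agent.Lib.R2H1CliffordEq
import Groth.Agent.Lib.R2H1DoubleCover
import Groth.Agent.Lib.Helper23ModLocal
import Groth.Agent.Lib.R2H1GenusZeroPic
import Groth.Agent.Lib.R2H1NonSpecial
import Groth.Agent.Lib.R2H1VBIndecTwo
import Groth.Agent.Lib.Helper23AmpleIso
import Groth.Agent.Lib.R2H1InvPair
import Groth.Agent.Lib.R2H1PicLaw
import Groth.Agent.Lib.Helper21Dual11
set_option backward.isDefEq.respectTransparency.types false

/-!
helper1 (run 2): the base point free pencil trick on an integral proper curve over a field, and its applications to curves of genus 9 and Clifford index 3 (S16322, S16320, S16319). API: Site level: mu (multiplication by a section F ⟶ F ⊗ D), mu_nat, mu_unit, exists_factor (a relation a t0 + b t1 = 0 between sections of F, with t0 t1 generating D, comes from a map D ⟶ F); scheme level: epi_desc_of_cover (two sections whose genLoci cover X generate), mono_mu, exists_hom_to_sections (Hom(D,F)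 injects into H0(M ⊗ F) for M inverse to D), pencil_trick_aux, pencil_trick (2 h0(F) ≤ h0(M ⊗ F) + h0(F ⊗ D)), cancelIso (M ⊗ (D ⊗ N) ≅ N), tensorIsoRight, two_g15, pow_g15, g15_in_g27.
-/

set_option autoImplicit false
set_option linter.style.haveILetI false
set_option linter.unusedSectionVars false
universe u v

open CategoryTheory CategoryTheory.Limits AlgebraicGeometry TopologicalSpace Opposite

namespace Groth.Agent.Lib.R2H1.PencilTrick

section Part1

open Groth.Agent.Lib.Helper21.ModTensor Groth.Agent.Lib.Helper21.ModTensor2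
open Groth.Agent.Lib.Helper21.ModTensor5 Groth.Agent.Lib.Helper21.ModTensor6
open Groth.Agent.Lib.Helper21.ModTensor7 Groth.Agent.Lib.Helper21.ModTensor3
open Groth.Agent.Lib.Helper21.Dual
open MonoidalCategory

section Site

variable {C : Type u} [SmallCategory C] {J : GrothendieckTopology C} (O : Sheaf J CommRingCat.{u})

/-- multiplication by a section `t` of `D`: `F ⟶ F ⊗ D` -/
noncomputable def mu (F : ModSite.Mod O) {D : ModSite.Mod O} (t : ModSite.unit O ⟶ D) :
    F ⟶ (tL O F).obj D :=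
  (rU O F).inv ≫ (tL O F).map t

theorem mu_nat {F F' D : ModSite.Mod O} (c : F ⟶ F') (t : ModSite.unit O ⟶ D) :
    mu O F t ≫ (tR O D).map c = c ≫ mu O F' t := by
  unfold mu
  have h1 : (tL O F).map t ≫ (tR O D).map c = (tR O (ModSite.unit O)).map c ≫ (tL O F').map t :=
    tensor_exchange O c t
  have h2 : (rU O F).inv ≫ (tR O (ModSite.unit O)).map c = c ≫ (rU O F').inv := by
    have := rU_nat (O := O) c
    rw [Iso.inv_comp_eq, ← Category.assoc, Iso.eq_comp_inv]
    exact this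
  rw [Category.assoc, h1, ← Category.assoc, h2, Category.assoc]

theorem rU_unit_eq : (rU O (ModSite.unit O)).hom = (tLUnitIso O).hom.app (ModSite.unit O) := by
  have h : (ρ_ (𝟙_ (PM O))).hom = (λ_ (𝟙_ (PM O))).hom := MonoidalCategory.unitors_equal.symm
  change (shf O).map (ρ_ ((fgt O).obj (ModSite.unit O) : PM O)).hom ≫
      (adj O).counit.app (ModSite.unit O) =
    (shf O).map (λ_ ((fgt O).obj (ModSite.unit O) : PM O)).hom ≫
      (adj O).counit.app (ModSite.unit O)
  exact congrArg (fun z => (shf O).map z ≫ (adj O).counit.app (ModSite.unit O)) h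

theorem mu_unit {D : ModSite.Mod O} (t : ModSite.unit O ⟶ D) :
    mu O (ModSite.unit O) t = t ≫ (tLUnitIso O).inv.app D := by
  unfold mu
  have h1 : (tL O (ModSite.unit O)).map t ≫ (tLUnitIso O).hom.app D =
      (tLUnitIso O).hom.app (ModSite.unit O) ≫ t := (tLUnitIso O).hom.naturality t
  have h2 : (tL O (ModSite.unit O)).map t =
      (tLUnitIso O).hom.app (ModSite.unit O) ≫ t ≫ (tLUnitIso O).inv.app D := by
    rw [← Category.assoc, ← h1, Category.assoc, Iso.hom_inv_id_app, Category.comp_id]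
  rw [h2, ← rU_unit_eq, ← Category.assoc, Iso.inv_hom_id, Category.id_comp]

/-- the gluing step of the base point free pencil trick: a relation `a t₀ + b t₁ = 0` between
sections of `F` comes from a map `D ⟶ F` when `t₀, t₁` generate `D` -/
theorem exists_factor [HasBinaryBiproduct (ModSite.unit O) (ModSite.unit O)]
    {D F : ModSite.Mod O} (t₀ t₁ : ModSite.unit O ⟶ D)
    (hσ : Epi (biprod.desc t₀ t₁)) (hm : Mono (mu O F t₁))
    (a b : ModSite.unit O ⟶ F) (hab : a ≫ mu O F t₀ + b ≫ mu O F t₁ = 0) :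
    ∃ c : D ⟶ F, t₁ ≫ c = a ∧ t₀ ≫ c = -b := by
  haveI := hσ
  haveI := hm
  obtain ⟨j, hj⟩ : ∃ j : kernel (biprod.desc t₀ t₁) ⟶ ModSite.unit O ⊞ ModSite.unit O,
      j = kernel.ι (biprod.desc t₀ t₁) := ⟨_, rfl⟩
  have hjσ : j ≫ biprod.desc t₀ t₁ = 0 := by rw [hj]; exact kernel.condition _
  obtain ⟨p₀, hp₀⟩ : ∃ p₀ : kernel (biprod.desc t₀ t₁) ⟶ ModSite.unit O, p₀ = j ≫ biprod.fst :=
    ⟨_, rfl⟩
  obtain ⟨p₁, hp₁⟩ : ∃ p₁ : kernel (biprod.desc t₀ t₁) ⟶ ModSite.unit O, p₁ = j ≫ biprod.snd :=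
    ⟨_, rfl⟩
  have hdec : ∀ {Z : ModSite.Mod O} (x y : ModSite.unit O ⟶ Z),
      j ≫ biprod.desc x y = p₀ ≫ x + p₁ ≫ y := by
    intro Z x y
    have h2 : j = j ≫ (biprod.fst ≫ biprod.inl + biprod.snd ≫ biprod.inr) := by
      rw [biprod.total, Category.comp_id]
    conv_lhs => rw [h2]
    rw [hp₀, hp₁]
    simp only [Preadditive.comp_add, Preadditive.add_comp, Category.assoc, biprod.inl_desc,
      biprod.inr_desc]
  have hrel : p₀ ≫ t₀ + p₁ ≫ t₁ = 0 := by rw [← hdec, hjσ]
  have hb : b ≫ mu O F t₁ = -(a ≫ mu O F t₀) := by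
    rw [eq_neg_iff_add_eq_zero, add_comm]; exact hab
  have hkey : j ≫ biprod.desc (-b) a = 0 := by
    rw [← cancel_mono (mu O F t₁), zero_comp, hdec]
    calc (p₀ ≫ (-b) + p₁ ≫ a) ≫ mu O F t₁
        = p₀ ≫ (-(b ≫ mu O F t₁)) + p₁ ≫ (a ≫ mu O F t₁) := by
          simp only [Preadditive.add_comp, Category.assoc, Preadditive.neg_comp,
            Preadditive.comp_neg]
      _ = p₀ ≫ (a ≫ mu O F t₀) + p₁ ≫ (a ≫ mu O F t₁) := by rw [hb, neg_neg]
      _ = p₀ ≫ ((t₀ ≫ (tLUnitIso O).inv.app D) ≫ (tR O D).map a) +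
            p₁ ≫ ((t₁ ≫ (tLUnitIso O).inv.app D) ≫ (tR O D).map a) := by
          rw [← mu_nat O a t₀, ← mu_nat O a t₁, mu_unit, mu_unit]
      _ = (p₀ ≫ t₀ + p₁ ≫ t₁) ≫ (tLUnitIso O).inv.app D ≫ (tR O D).map a := by
          simp only [Preadditive.add_comp, Category.assoc]
      _ = 0 := by rw [hrel, zero_comp]
  have hkey' : kernel.ι (biprod.desc t₀ t₁) ≫ biprod.desc (-b) a = 0 := by rw [← hj]; exact hkey
  have h := Abelian.comp_epiDesc (biprod.desc t₀ t₁) (biprod.desc (-b) a) hkey'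
  refine ⟨Abelian.epiDesc (biprod.desc t₀ t₁) (biprod.desc (-b) a) hkey', ?_, ?_⟩
  · have h2 : biprod.inr ≫ biprod.desc t₀ t₁ ≫
        Abelian.epiDesc (biprod.desc t₀ t₁) (biprod.desc (-b) a) hkey' =
        biprod.inr ≫ biprod.desc (-b) a := congrArg (fun z => biprod.inr ≫ z) h
    rw [← Category.assoc, biprod.inr_desc, biprod.inr_desc] at h2
    exact h2
  · have h2 : biprod.inl ≫ biprod.desc t₀ t₁ ≫
        Abelian.epiDesc (biprod.desc t₀ t₁) (biprod.desc (-b) a) hkey' =
        biprod.inl ≫ biprod.desc (-b) a := congrArg (fun z => biprod.inl ≫ z) h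
    rw [← Category.assoc, biprod.inl_desc, biprod.inl_desc] at h2
    exact h2

end Site

end Part1

section Part2

open Groth.Agent.Lib.Helper21.ModTensor Groth.Agent.Lib.Helper21.ModTensor2
open Groth.Agent.Lib.Helper21.ModTensor5 Groth.Agent.Lib.Helper21.ModTensor6
open Groth.Agent.Lib.Helper21.ModTensor7 Groth.Agent.Lib.Helper21.ModTensor3
open Groth.Agent.Lib.Helper21.Dual
open Groth.Agent.Lib.R2H1.CurveEuler Groth.Agent.Lib.R2H1.CurveDegSec
open Groth.Agent.Lib.R2H1.EulerAdd Groth.Agent.Lib.R2H2.HHLin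
open Groth.Agent.Lib.R2H1.CliffordEq

attribute [local instance] Abelian.hasFiniteBiproducts

/-- two sections whose generating loci cover `X` generate the module -/
theorem epi_desc_of_cover {X : Scheme.{u}} (D : X.Modules) (t₀ t₁ : Coh.structureModule X ⟶ D)
    (hcov : ∀ x : X, x ∈ CohB1.genLocus D t₀ ∨ x ∈ CohB1.genLocus D t₁) :
    Epi (biprod.desc t₀ t₁) := by
  have h : ∀ x : X, ∃ U : X.Opens, x ∈ U ∧
      Epi ((Scheme.Modules.restrictFunctor U.ι).map (biprod.desc t₀ t₁)) := by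
    intro x
    rcases hcov x with hx | hx
    · unfold CohB1.genLocus at hx
      rw [Opens.mem_sSup] at hx
      obtain ⟨U, hU, hxU⟩ : ∃ U : X.Opens,
        U ∈ {U : X.Opens | IsIso ((Scheme.Modules.restrictFunctor U.ι).map t₀)} ∧ x ∈ U := hx
      refine ⟨U, hxU, ?_⟩
      have hU' : IsIso ((Scheme.Modules.restrictFunctor U.ι).map t₀) := hU
      have h1 : (Scheme.Modules.restrictFunctor U.ι).map biprod.inl ≫
          (Scheme.Modules.restrictFunctor U.ι).map (biprod.desc t₀ t₁) =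
          (Scheme.Modules.restrictFunctor U.ι).map t₀ := by
        rw [← Functor.map_comp, biprod.inl_desc]
      haveI : Epi ((Scheme.Modules.restrictFunctor U.ι).map biprod.inl ≫
          (Scheme.Modules.restrictFunctor U.ι).map (biprod.desc t₀ t₁)) := by
        rw [h1]; infer_instance
      exact epi_of_epi ((Scheme.Modules.restrictFunctor U.ι).map biprod.inl) _
    · unfold CohB1.genLocus at hx
      rw [Opens.mem_sSup] at hx
      obtain ⟨U, hU, hxU⟩ : ∃ U : X.Opens,
        U ∈ {U : X.Opens | IsIso ((Scheme.Modules.restrictFunctor U.ι).map t₁)} ∧ x ∈ U := hx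
      refine ⟨U, hxU, ?_⟩
      have hU' : IsIso ((Scheme.Modules.restrictFunctor U.ι).map t₁) := hU
      have h1 : (Scheme.Modules.restrictFunctor U.ι).map biprod.inr ≫
          (Scheme.Modules.restrictFunctor U.ι).map (biprod.desc t₀ t₁) =
          (Scheme.Modules.restrictFunctor U.ι).map t₁ := by
        rw [← Functor.map_comp, biprod.inr_desc]
      haveI : Epi ((Scheme.Modules.restrictFunctor U.ι).map biprod.inr ≫
          (Scheme.Modules.restrictFunctor U.ι).map (biprod.desc t₀ t₁)) := by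
        rw [h1]; infer_instance
      exact epi_of_epi ((Scheme.Modules.restrictFunctor U.ι).map biprod.inr) _
  choose U hxU hU using h
  exact Groth.Agent.Lib.Helper23.ModLocal.epi_of_epi_restrict _ (fun x => ((U x : X.Opens) : Scheme.{u}))
    (fun x => (U x).ι) (fun x => ⟨x, ⟨x, hxU x⟩, rfl⟩) hU

section Main

variable (k : Type u) [Field k] (X : Scheme.{u}) [X.Over (Spec (CommRingCat.of k))]
    [IsIntegral X] [IsProper (X ↘ (Spec (CommRingCat.of k)))]

theorem mono_mu (F D : X.Modules) (hF : PicF.IsInvertible F) (hD : PicF.IsInvertible D)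
    (t : Coh.structureModule X ⟶ D) (ht : t ≠ 0) : Mono (mu X.sheaf F t) := by
  obtain ⟨F', hF', ⟨e⟩⟩ := Groth.Agent.Lib.R2H1.InvExists.exists_inverse F hF
  have hFD := Groth.Agent.Lib.Helper23.SecTw.isInvertible_tensorMod hF hD
  have h1 : (tL X.sheaf F).map t ≠ 0 := tL_map_ne_zero X.sheaf F F' e t ht
  have h2 : mu X.sheaf F t ≠ 0 := by
    intro h0
    apply h1
    have h3 : (tL X.sheaf F).map t = (rU X.sheaf F).hom ≫ mu X.sheaf F t := by
      unfold mu
      rw [Iso.hom_inv_id_assoc]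
    rw [h3, h0, comp_zero]
  exact Groth.Agent.Lib.R2H1.InvHom.mono_of_ne_zero (N := F) (L := CohB1.tensorMod F D) hF hFD
    (mu X.sheaf F t) h2

/-- the injection `Hom(D, F) → H⁰(M ⊗ F)` for `M` inverse to `D` -/
theorem exists_hom_to_sections (D M F : X.Modules)
    (θ : CohB1.tensorMod M D ≅ Coh.structureModule X) :
    ∃ Ξ : (D ⟶ F) →ₗ[k] (Coh.structureModule X ⟶ CohB1.tensorMod M F), Function.Injective Ξ := by
  refine ⟨Linear.leftComp k (CohB1.tensorMod M F) θ.inv ∘ₗ
    (DCoh.tensorBi.obj M).mapLinearMap k, ?_⟩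
  intro c c' h
  haveI := Groth.Agent.Lib.R2H1.InvPair.faithful_tL_of_inverse X.sheaf M D θ
  have h' : θ.inv ≫ (tL X.sheaf M).map c = θ.inv ≫ (tL X.sheaf M).map c' := h
  have h2 : (tL X.sheaf M).map c = (tL X.sheaf M).map c' := (cancel_epi θ.inv).1 h'
  exact (tL X.sheaf M).map_injective h2

open Groth.Agent.Lib.R2H2.PnBeilinson in
/-- the base point free pencil trick, with `t₁ ≠ 0` -/
theorem pencil_trick_aux (D M F : X.Modules) (hD : PicF.IsInvertible D)
    (hM : PicF.IsInvertible M) (hF : PicF.IsInvertible F)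
    (θ : CohB1.tensorMod M D ≅ Coh.structureModule X)
    (t₀ t₁ : Coh.structureModule X ⟶ D) (ht₁ : t₁ ≠ 0)
    (hcov : ∀ x : X, x ∈ CohB1.genLocus D t₀ ∨ x ∈ CohB1.genLocus D t₁) :
    2 * Module.finrank k (Coh.HH X F 0) ≤
      Module.finrank k (Coh.HH X (CohB1.tensorMod M F) 0) +
      Module.finrank k (Coh.HH X (CohB1.tensorMod F D) 0) := by
  haveI := isNoetherian_of_proper k X
  have hσ := epi_desc_of_cover D t₀ t₁ hcov
  have hm := mono_mu X F D hF hD t₁ ht₁
  obtain ⟨Ξ, hΞ⟩ := exists_hom_to_sections k X D M F θ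
  have cF := isCoh_of_isInvertible F hF
  have cMF := isCoh_of_isInvertible _ (Groth.Agent.Lib.Helper23.SecTw.isInvertible_tensorMod hM hF)
  have cFD := isCoh_of_isInvertible _ (Groth.Agent.Lib.Helper23.SecTw.isInvertible_tensorMod hF hD)
  haveI := finite_HH k X _ cF 0
  haveI := finite_HH k X _ cMF 0
  haveI := finite_HH k X _ cFD 0
  haveI fV : Module.Finite k (Coh.structureModule X ⟶ F) :=
    Module.Finite.equiv (clsEquiv (k := k) F).symm
  haveI fMF : Module.Finite k (Coh.structureModule X ⟶ CohB1.tensorMod M F) :=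
    Module.Finite.equiv (clsEquiv (k := k) _).symm
  haveI fW : Module.Finite k (Coh.structureModule X ⟶ CohB1.tensorMod F D) :=
    Module.Finite.equiv (clsEquiv (k := k) _).symm
  haveI fH : Module.Finite k (D ⟶ F) := Module.Finite.of_injective Ξ hΞ
  have eV := (clsEquiv (k := k) F).finrank_eq
  have eMF := (clsEquiv (k := k) (CohB1.tensorMod M F)).finrank_eq
  have eW := (clsEquiv (k := k) (CohB1.tensorMod F D)).finrank_eq
  obtain ⟨S, hS⟩ : ∃ S : ((Coh.structureModule X ⟶ F) × (Coh.structureModule X ⟶ F)) →ₗ[k]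
      (Coh.structureModule X ⟶ CohB1.tensorMod F D),
      S = (Linear.rightComp k (Coh.structureModule X) (mu X.sheaf F t₀)).coprod
        (Linear.rightComp k (Coh.structureModule X) (mu X.sheaf F t₁)) := ⟨_, rfl⟩
  obtain ⟨Θ, hΘ⟩ : ∃ Θ : (D ⟶ F) →ₗ[k]
      ((Coh.structureModule X ⟶ F) × (Coh.structureModule X ⟶ F)),
      Θ = (Linear.leftComp k F t₁).prod (-(Linear.leftComp k F t₀)) := ⟨_, rfl⟩
  have hker : LinearMap.ker S ≤ LinearMap.range Θ := by
    rintro ⟨a, b⟩ hab
    rw [LinearMap.mem_ker, hS] at hab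
    have hab' : a ≫ mu X.sheaf F t₀ + b ≫ mu X.sheaf F t₁ = 0 := hab
    obtain ⟨c, hc1, hc2⟩ := exists_factor X.sheaf t₀ t₁ hσ hm a b hab'
    refine ⟨c, ?_⟩
    rw [hΘ, LinearMap.prod_apply]
    have h1 : Linear.leftComp k F t₁ c = a := hc1
    have h2 : (-(Linear.leftComp k F t₀)) c = b := by
      rw [LinearMap.neg_apply]
      have : Linear.leftComp k F t₀ c = -b := hc2
      rw [this, neg_neg]
    exact Prod.ext h1 h2
  have r1 := LinearMap.finrank_range_add_finrank_ker S
  have r2 : Module.finrank k ((Coh.structureModule X ⟶ F) × (Coh.structureModule X ⟶ F)) =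
      Module.finrank k (Coh.structureModule X ⟶ F) + Module.finrank k (Coh.structureModule X ⟶ F) :=
    Module.finrank_prod
  have r3 : Module.finrank k (LinearMap.ker S) ≤ Module.finrank k (LinearMap.range Θ) :=
    Submodule.finrank_mono hker
  have r4 : Module.finrank k (LinearMap.range Θ) ≤ Module.finrank k (D ⟶ F) :=
    LinearMap.finrank_range_le Θ
  have r5 : Module.finrank k (D ⟶ F) ≤
      Module.finrank k (Coh.structureModule X ⟶ CohB1.tensorMod M F) :=
    LinearMap.finrank_le_finrank_of_injective hΞ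
  have r6 : Module.finrank k (LinearMap.range S) ≤
      Module.finrank k (Coh.structureModule X ⟶ CohB1.tensorMod F D) :=
    Submodule.finrank_le _
  omega

/-- **the base point free pencil trick**: `2 h⁰(F) ≤ h⁰(F ⊗ D⁻¹) + h⁰(F ⊗ D)` for `D` generated
by two sections -/
theorem pencil_trick (D M F : X.Modules) (hD : PicF.IsInvertible D)
    (hM : PicF.IsInvertible M) (hF : PicF.IsInvertible F)
    (θ : CohB1.tensorMod M D ≅ Coh.structureModule X)
    (t₀ t₁ : Coh.structureModule X ⟶ D)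
    (hcov : ∀ x : X, x ∈ CohB1.genLocus D t₀ ∨ x ∈ CohB1.genLocus D t₁) :
    2 * Module.finrank k (Coh.HH X F 0) ≤
      Module.finrank k (Coh.HH X (CohB1.tensorMod M F) 0) +
      Module.finrank k (Coh.HH X (CohB1.tensorMod F D) 0) := by
  by_cases ht₁ : t₁ = 0
  · have ht₀ : t₀ ≠ 0 := by
      intro ht₀
      obtain ⟨x⟩ : Nonempty X := inferInstance
      rcases hcov x with h | h
      · rw [ht₀] at h
        exact Groth.Agent.Lib.R2H1.GenusZeroPic.notMem_genLocus_zero hD x h
      · rw [ht₁] at h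
        exact Groth.Agent.Lib.R2H1.GenusZeroPic.notMem_genLocus_zero hD x h
    exact pencil_trick_aux k X D M F hD hM hF θ t₁ t₀ ht₀ (fun x => (hcov x).symm)
  · exact pencil_trick_aux k X D M F hD hM hF θ t₀ t₁ ht₁ hcov

end Main

end Part2

section Part3

open Groth.Agent.Lib.Helper21.ModTensor Groth.Agent.Lib.Helper21.ModTensor2
open Groth.Agent.Lib.Helper21.ModTensor5 Groth.Agent.Lib.Helper21.ModTensor6
open Groth.Agent.Lib.Helper21.ModTensor7 Groth.Agent.Lib.Helper21.ModTensor3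
open Groth.Agent.Lib.Helper21.Dual
open Groth.Agent.Lib.R2H1.CurveEuler Groth.Agent.Lib.R2H1.CurveDegSec
open Groth.Agent.Lib.R2H1.EulerAdd Groth.Agent.Lib.R2H2.HHLin
open Groth.Agent.Lib.R2H1.CliffordEq
open Groth.Agent.Lib.R2H1.PicLaw Groth.Agent.Lib.Helper23.SecTw

section Isos

variable {X : Scheme.{u}}

/-- `M ⊗ (D ⊗ N) ≅ N` for `M` inverse to `D` -/
noncomputable def cancelIso (M D : X.Modules) (θ : CohB1.tensorMod M D ≅ Coh.structureModule X)
    (N : X.Modules) : CohB1.tensorMod M (CohB1.tensorMod D N) ≅ N :=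
  (invNat X.sheaf D M θ).app N

/-- `M ⊗ A ≅ M ⊗ B` from `A ≅ B` -/
noncomputable def tensorIsoRight (M : X.Modules) {A B : X.Modules} (e : A ≅ B) :
    CohB1.tensorMod M A ≅ CohB1.tensorMod M B :=
  (tL X.sheaf M).mapIso e

end Isos

section Apps

variable (k : Type u) [Field k] [IsAlgClosed k] (X : Scheme.{u}) [X.Over (Spec (CommRingCat.of k))]
    [IsIntegral X] [IsProper (X ↘ (Spec (CommRingCat.of k)))]

/-- two different base point free pencils of degree 5 on a curve of genus 9 and Clifford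
index 3 -/
theorem two_g15 (hdim : topologicalKrullDim X = 1)
    (hreg : ∀ x : X, IsRegularLocalRing (X.presheaf.stalk x))
    (hg : Curv2.genus k X = 9)
    (hmin : ∀ M : X.Modules, PicF.IsInvertible M → 2 ≤ Module.finrank k (Coh.HH X M 0) →
      2 ≤ Module.finrank k (Coh.HH X M 1) →
      2 * (Module.finrank k (Coh.HH X M 0) : ℤ) + 1 ≤ Curv2.deg k X M 1)
    (D₁ D₂ : X.Modules) (h₁ : PicF.IsInvertible D₁) (h₂ : PicF.IsInvertible D₂)
    (hg₁ : Curv2.IsGloballyGenerated D₁)
    (hd₁ : Curv2.deg k X D₁ 1 = 5) (hd₂ : Curv2.deg k X D₂ 1 = 5)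
    (h0₁ : Module.finrank k (Coh.HH X D₁ 0) = 2) (h0₂ : Module.finrank k (Coh.HH X D₂ 0) = 2)
    (hne : IsEmpty (D₁ ≅ D₂)) :
    Module.finrank k (Coh.HH X (CohB1.tensorMod D₁ D₂) 0) = 4 := by
  haveI := isNoetherian_of_proper k X
  obtain ⟨M, hM, ⟨e⟩⟩ := Groth.Agent.Lib.R2H1.InvExists.exists_inverse D₁ h₁
  have θ : CohB1.tensorMod M D₁ ≅ Coh.structureModule X := commI M D₁ ≪≫ e
  obtain ⟨t₀, t₁, hcov⟩ :=
    Groth.Agent.Lib.R2H1.DoubleCover.exists_two_sections_cover k X D₁ h₁ hg₁ h0₁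
  have trick := pencil_trick k X D₁ M D₂ h₁ hM h₂ θ t₀ t₁ hcov
  have hMD₂ := isInvertible_tensorMod hM h₂
  have h12 := isInvertible_tensorMod h₁ h₂
  have hdM : Curv2.deg k X M 1 = -5 := by
    rw [Groth.Agent.Lib.R2H1.VBTwist.deg_inverse k X hdim
      (isFinLocFreeOfRank_one_of_isInvertible _ h₁) (isFinLocFreeOfRank_one_of_isInvertible _ hM) e,
      hd₁]
  have hdMD₂ : Curv2.deg k X (CohB1.tensorMod M D₂) 1 = 0 := by
    rw [Groth.Agent.Lib.R2H1.VBIndecTwo.deg_tensor_invertible k X hdim hM h₂, hdM, hd₂]; norm_num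
  have hz : Module.finrank k (Coh.HH X (CohB1.tensorMod M D₂) 0) = 0 := by
    by_contra hcon
    have hpos : 0 < Module.finrank k (Coh.HH X (CohB1.tensorMod M D₂) 0) := Nat.pos_of_ne_zero hcon
    obtain ⟨s, hs⟩ := Groth.Agent.Lib.R2H1.GenusZero.exists_section_of_pos k X _
      (isCoh_of_isInvertible _ hMD₂) hpos
    haveI := isIso_of_deg_nonpos k X hdim _ hMD₂ s hs hdMD₂.le
    exact hne.false ((runitI D₁).symm ≪≫ tensorIsoRight D₁ (asIso s) ≪≫ cancelIso D₁ M e D₂)
  have e21 := Groth.Agent.Lib.R2H2.ClosedPnLin.finrank_HH_of_iso k (commI D₂ D₁) 0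
  have hd12 : Curv2.deg k X (CohB1.tensorMod D₁ D₂) 1 = 10 := by
    rw [Groth.Agent.Lib.R2H1.VBIndecTwo.deg_tensor_invertible k X hdim h₁ h₂, hd₁, hd₂]; norm_num
  have rr := Groth.Agent.Lib.R2H1.SerreNum.riemann_roch k X hdim hreg _ h12
  rw [hd12, hg] at rr
  have hm := hmin _ h12
  rw [hd12] at hm
  have lower : 4 ≤ Module.finrank k (Coh.HH X (CohB1.tensorMod D₁ D₂) 0) := by omega
  by_contra hcon
  have h5 : 5 ≤ Module.finrank k (Coh.HH X (CohB1.tensorMod D₁ D₂) 0) := by omega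
  have h1' : 2 ≤ Module.finrank k (Coh.HH X (CohB1.tensorMod D₁ D₂) 1) := by
    push_cast at rr; omega
  have := hm (by omega) h1'
  omega

/-- the powers of a base point free `g¹₅` on a curve of genus 9 and Clifford index 3 -/
theorem pow_g15 (hdim : topologicalKrullDim X = 1)
    (hreg : ∀ x : X, IsRegularLocalRing (X.presheaf.stalk x))
    (hg : Curv2.genus k X = 9)
    (hmin : ∀ M : X.Modules, PicF.IsInvertible M → 2 ≤ Module.finrank k (Coh.HH X M 0) →
      2 ≤ Module.finrank k (Coh.HH X M 1) →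
      2 * (Module.finrank k (Coh.HH X M 0) : ℤ) + 1 ≤ Curv2.deg k X M 1)
    (D : X.Modules) (hD : PicF.IsInvertible D) (hgD : Curv2.IsGloballyGenerated D)
    (hdD : Curv2.deg k X D 1 = 5) (h0D : Module.finrank k (Coh.HH X D 0) = 2) :
    (Module.finrank k (Coh.HH X (CohB1.tensorPow D 2) 0) = 3 ∨
        Module.finrank k (Coh.HH X (CohB1.tensorPow D 2) 0) = 4) ∧
      (Module.finrank k (Coh.HH X (CohB1.tensorPow D 3) 0) = 7 ∨
        Module.finrank k (Coh.HH X (CohB1.tensorPow D 3) 0) = 8) ∧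
      (Module.finrank k (Coh.HH X (CohB1.tensorPow D 2) 0) = 3 →
        Module.finrank k (Coh.HH X (CohB1.tensorPow D 3) 0) = 7) := by
  haveI := isNoetherian_of_proper k X
  have hP2 := isInvertible_tensorPow hD 2
  have hP3 := isInvertible_tensorPow hD 3
  have hP4 := isInvertible_tensorPow hD 4
  have d2 := Groth.Agent.Lib.R2H1.PointTwist.deg_tensorPow k X hdim D hD 2
  have d3 := Groth.Agent.Lib.R2H1.PointTwist.deg_tensorPow k X hdim D hD 3
  have d4 := Groth.Agent.Lib.R2H1.PointTwist.deg_tensorPow k X hdim D hD 4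
  rw [hdD] at d2 d3 d4
  have rr2 := Groth.Agent.Lib.R2H1.SerreNum.riemann_roch k X hdim hreg _ hP2
  have rr3 := Groth.Agent.Lib.R2H1.SerreNum.riemann_roch k X hdim hreg _ hP3
  have rr4 := Groth.Agent.Lib.R2H1.SerreNum.riemann_roch k X hdim hreg _ hP4
  rw [d2, hg] at rr2
  rw [d3, hg] at rr3
  rw [d4, hg] at rr4
  have m2 := hmin _ hP2
  have m3 := hmin _ hP3
  rw [d2] at m2
  rw [d3] at m3
  have ge2 := Groth.Agent.Lib.R2H1.PointTwist.h0_tensorPow_ge k X hdim hreg D hD 1 h0D 2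
  have v4 : Subsingleton (Coh.HH X (CohB1.tensorPow D 4) 1) :=
    Groth.Agent.Lib.R2H1.NonSpecial.s1522 k X hdim _ hP4 (by rw [d4, hg]; norm_num)
  have z4 : Module.finrank k (Coh.HH X (CohB1.tensorPow D 4) 1) = 0 :=
    Module.finrank_zero_of_subsingleton
  -- the pencil trick for F = D^3
  obtain ⟨M, hM, ⟨e⟩⟩ := Groth.Agent.Lib.R2H1.InvExists.exists_inverse D hD
  have θ : CohB1.tensorMod M D ≅ Coh.structureModule X := commI M D ≪≫ e
  obtain ⟨t₀, t₁, hcov⟩ :=
    Groth.Agent.Lib.R2H1.DoubleCover.exists_two_sections_cover k X D hD hgD h0D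
  have trick := pencil_trick k X D M (CohB1.tensorPow D 3) hD hM hP3 θ t₀ t₁ hcov
  have e43 : Module.finrank k (Coh.HH X (CohB1.tensorMod (CohB1.tensorPow D 3) D) 0) =
      Module.finrank k (Coh.HH X (CohB1.tensorPow D 4) 0) := rfl
  have i2 : CohB1.tensorMod M (CohB1.tensorPow D 3) ≅ CohB1.tensorPow D 2 :=
    tensorIsoRight M (commI (CohB1.tensorPow D 2) D) ≪≫ cancelIso M D θ (CohB1.tensorPow D 2)
  have e2 := Groth.Agent.Lib.R2H2.ClosedPnLin.finrank_HH_of_iso k i2 0
  push_cast at rr2 rr3 rr4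
  refine ⟨?_, ?_, ?_⟩
  · by_contra hcon
    have h5 : 5 ≤ Module.finrank k (Coh.HH X (CohB1.tensorPow D 2) 0) := by omega
    have h1' : 2 ≤ Module.finrank k (Coh.HH X (CohB1.tensorPow D 2) 1) := by omega
    have := m2 (by omega) h1'
    omega
  · by_contra hcon
    have h9 : 9 ≤ Module.finrank k (Coh.HH X (CohB1.tensorPow D 3) 0) := by omega
    have h1' : 2 ≤ Module.finrank k (Coh.HH X (CohB1.tensorPow D 3) 1) := by omega
    have := m3 (by omega) h1'
    omega
  · intro h3
    omega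

/-- the residual of a base point free `g¹₅` in a `g²₇` on a curve of genus 9 and Clifford
index 3 has exactly one section -/
theorem g15_in_g27 (hdim : topologicalKrullDim X = 1)
    (hreg : ∀ x : X, IsRegularLocalRing (X.presheaf.stalk x))
    (hg : Curv2.genus k X = 9)
    (hmin : ∀ M : X.Modules, PicF.IsInvertible M → 2 ≤ Module.finrank k (Coh.HH X M 0) →
      2 ≤ Module.finrank k (Coh.HH X M 1) →
      2 * (Module.finrank k (Coh.HH X M 0) : ℤ) + 1 ≤ Curv2.deg k X M 1)
    (H : X.Modules) (hH : PicF.IsInvertible H) (hdH : Curv2.deg k X H 1 = 7)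
    (h0H : Module.finrank k (Coh.HH X H 0) = 3)
    (D : X.Modules) (hD : PicF.IsInvertible D) (hgD : Curv2.IsGloballyGenerated D)
    (hdD : Curv2.deg k X D 1 = 5) (h0D : Module.finrank k (Coh.HH X D 0) = 2)
    (N : X.Modules) (e : CohB1.tensorMod D N ≅ H) :
    Module.finrank k (Coh.HH X N 0) = 1 := by
  haveI := isNoetherian_of_proper k X
  obtain ⟨M, hM, ⟨eM⟩⟩ := Groth.Agent.Lib.R2H1.InvExists.exists_inverse D hD
  have θ : CohB1.tensorMod M D ≅ Coh.structureModule X := commI M D ≪≫ eM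
  obtain ⟨t₀, t₁, hcov⟩ :=
    Groth.Agent.Lib.R2H1.DoubleCover.exists_two_sections_cover k X D hD hgD h0D
  have trick := pencil_trick k X D M H hD hM hH θ t₀ t₁ hcov
  have hMH := isInvertible_tensorMod hM hH
  have hHD := isInvertible_tensorMod hH hD
  have iN : CohB1.tensorMod M H ≅ N := (tensorIsoRight M e).symm ≪≫ cancelIso M D θ N
  have hN : PicF.IsInvertible N := Groth.Agent.Lib.Helper23.AmpleIso.isInvertible_of_iso iN hMH
  have eN := Groth.Agent.Lib.R2H2.ClosedPnLin.finrank_HH_of_iso k iN 0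
  have hdM : Curv2.deg k X M 1 = -5 := by
    rw [Groth.Agent.Lib.R2H1.VBTwist.deg_inverse k X hdim
      (isFinLocFreeOfRank_one_of_isInvertible _ hD) (isFinLocFreeOfRank_one_of_isInvertible _ hM) eM,
      hdD]
  have hdN : Curv2.deg k X N 1 = 2 := by
    rw [← Groth.Agent.Lib.R2H1.CurveAmple.deg_congr k X iN 1,
      Groth.Agent.Lib.R2H1.VBIndecTwo.deg_tensor_invertible k X hdim hM hH, hdM, hdH]; norm_num
  have hdHD : Curv2.deg k X (CohB1.tensorMod H D) 1 = 12 := by
    rw [Groth.Agent.Lib.R2H1.VBIndecTwo.deg_tensor_invertible k X hdim hH hD, hdH, hdD]; norm_num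
  have rrN := Groth.Agent.Lib.R2H1.SerreNum.riemann_roch k X hdim hreg _ hN
  have rrHD := Groth.Agent.Lib.R2H1.SerreNum.riemann_roch k X hdim hreg _ hHD
  rw [hdN, hg] at rrN
  rw [hdHD, hg] at rrHD
  have mN := hmin _ hN
  have mHD := hmin _ hHD
  rw [hdN] at mN
  rw [hdHD] at mHD
  push_cast at rrN rrHD
  have upHD : Module.finrank k (Coh.HH X (CohB1.tensorMod H D) 0) ≤ 5 := by
    by_contra hcon
    have h6 : 6 ≤ Module.finrank k (Coh.HH X (CohB1.tensorMod H D) 0) := by omega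
    have h1' : 2 ≤ Module.finrank k (Coh.HH X (CohB1.tensorMod H D) 1) := by omega
    have := mHD (by omega) h1'
    omega
  have upN : Module.finrank k (Coh.HH X N 0) ≤ 1 := by
    by_contra hcon
    have h2 : 2 ≤ Module.finrank k (Coh.HH X N 0) := by omega
    have h1' : 2 ≤ Module.finrank k (Coh.HH X N 1) := by omega
    have := mN h2 h1'
    omega
  omega

end Apps

end Part3

end Groth.Agent.Lib.R2H1.PencilTrick
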