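/-
R2H1PerfClosDVR (helper1): a henselian DVR admits a henselian DVR extension with the same uniformizer, directed union of finite free subalgebras of p-power rank, whose residue field is a perfect closure (Zorn on subalgebras of an algebraic closure). IsUnif, polyOf, exists_rep_sum, isUnit_aeval, isUnif_ext, pi_ext, Good, good_bot/iSup/ext, adjoin_finite_free, exists_max, main_16360.
-/
import Mathlib
import Groth.Agent.Lib.Helper7GeomInt
import Groth.Agent.Lib.Helper3HenselInt

set_option autoImplicit false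
set_option linter.style.haveILetI false
set_option linter.unusedSectionVars false
universe u

namespace Groth.Agent.Lib.R2H1.PerfClosDVR

section Part1

open Polynomial IsLocalRing

/-- `π` is uniformizer-like: a non-unit such that every nonzero element is a power of `π`
times a unit. -/
def IsUnif (A : Type*) [CommRing A] (π : A) : Prop :=
  ¬ IsUnit π ∧ ∀ x : A, x ≠ 0 → ∃ (n : ℕ) (u : Aˣ), x = π ^ n * u

section basics
variable {A : Type*} [CommRing A] {π : A}

theorem IsUnif.mem_span_of_not_isUnit (h : IsUnif A π) {x : A} (hx : ¬ IsUnit x) :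
    x ∈ Ideal.span {π} := by
  by_cases h0 : x = 0
  · rw [h0]; exact zero_mem _
  obtain ⟨n, u, rfl⟩ := h.2 x h0
  rcases Nat.eq_zero_or_pos n with rfl | hn
  · exact absurd (by simpa using u.isUnit) hx
  · rw [Ideal.mem_span_singleton]
    exact Dvd.dvd.mul_right (dvd_pow_self π hn.ne') _

theorem IsUnif.isLocalRing [Nontrivial A] (h : IsUnif A π) : IsLocalRing A := by
  refine IsLocalRing.of_nonunits_add (fun {a b} ha hb hab => ?_)
  have ha' := h.mem_span_of_not_isUnit ha
  have hb' := h.mem_span_of_not_isUnit hb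
  have hab' : a + b ∈ Ideal.span {π} := add_mem ha' hb'
  rw [Ideal.mem_span_singleton] at hab'
  obtain ⟨c, hc⟩ := hab'
  rw [hc] at hab
  exact h.1 (isUnit_of_mul_isUnit_left hab)

theorem IsUnif.maximalIdeal_eq [IsLocalRing A] (h : IsUnif A π) :
    maximalIdeal A = Ideal.span {π} := by
  apply le_antisymm
  · intro x hx
    rw [mem_maximalIdeal, mem_nonunits_iff] at hx
    exact h.mem_span_of_not_isUnit hx
  · rw [Ideal.span_le, Set.singleton_subset_iff]
    exact (mem_maximalIdeal π).2 h.1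

theorem IsUnif.exists_prim (h : IsUnif A π) (r : A[X]) (hr : r ≠ 0) :
    ∃ (n : ℕ) (r' : A[X]), r = C (π ^ n) * r' ∧ (∃ i, IsUnit (r'.coeff i)) := by
  classical
  have hex : ∀ i : r.support, ∃ (n : ℕ) (u : Aˣ), r.coeff i = π ^ n * u := fun i =>
    h.2 _ (mem_support_iff.1 i.2)
  choose v w hvw using hex
  let V : ℕ → ℕ := fun i => if hi : i ∈ r.support then v ⟨i, hi⟩ else 0
  let W : ℕ → A := fun i => if hi : i ∈ r.support then (w ⟨i, hi⟩ : A) else 0
  have hVW : ∀ i ∈ r.support, r.coeff i = π ^ V i * W i := by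
    intro i hi
    simp only [V, W, dif_pos hi]
    exact hvw ⟨i, hi⟩
  have hne : r.support.Nonempty := nonempty_support_iff.2 hr
  obtain ⟨i0, hi0, hmin⟩ := Finset.exists_min_image r.support V hne
  refine ⟨V i0, ∑ i ∈ r.support, monomial i (π ^ (V i - V i0) * W i), ?_, i0, ?_⟩
  · rw [Finset.mul_sum]
    conv_lhs => rw [r.as_sum_support]
    refine Finset.sum_congr rfl (fun i hi => ?_)
    rw [C_mul_monomial, hVW i hi, ← mul_assoc, ← pow_add, Nat.add_sub_cancel' (hmin i hi)]
  · rw [finset_sum_coeff, Finset.sum_eq_single i0]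
    · rw [coeff_monomial, if_pos rfl, Nat.sub_self, pow_zero, one_mul]
      simp only [W, dif_pos hi0]
      exact (w ⟨i0, hi0⟩).isUnit
    · intro j _ hj
      rw [coeff_monomial, if_neg hj]
    · intro hn; exact absurd hi0 hn

end basics

section general
variable {A B : Type*} [CommRing A] [CommRing B] [Algebra A B] {p : ℕ}

/-- The polynomial with prescribed coefficients in degrees `< p`. -/
noncomputable def polyOf (c : Fin p → A) : A[X] := ∑ i : Fin p, monomial (i : ℕ) (c i)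

theorem polyOf_coeff_ge (c : Fin p → A) (m : ℕ) (hm : p ≤ m) : (polyOf c).coeff m = 0 := by
  rw [polyOf, finset_sum_coeff]
  refine Finset.sum_eq_zero (fun i _ => ?_)
  rw [coeff_monomial, if_neg]
  exact fun h => absurd (h ▸ i.2) (not_lt.2 hm)

theorem polyOf_degree_lt (c : Fin p → A) : (polyOf c).degree < p :=
  (degree_lt_iff_coeff_zero _ _).2 (fun m hm => polyOf_coeff_ge c m hm)

theorem polyOf_coeff (c : Fin p → A) (j : Fin p) : (polyOf c).coeff j = c j := by
  rw [polyOf, finset_sum_coeff, Finset.sum_eq_single j]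
  · rw [coeff_monomial, if_pos rfl]
  · intro i _ hij
    rw [coeff_monomial, if_neg]
    exact fun h => hij (Fin.ext h)
  · intro h; exact absurd (Finset.mem_univ j) h

theorem aeval_polyOf (c : Fin p → A) (θ : B) :
    aeval θ (polyOf c) = ∑ i : Fin p, algebraMap A B (c i) * θ ^ (i : ℕ) := by
  rw [polyOf, map_sum]
  refine Finset.sum_congr rfl (fun i _ => ?_)
  rw [aeval_monomial]

/-- Elements of `A[θ]` with `θ ^ p ∈ A` are `A`-combinations of `1, θ, …, θ^(p-1)`. -/
theorem exists_rep_sum (hp : 0 < p) (a : A) (θ : B) (hθ : θ ^ p = algebraMap A B a)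
    (y : B) (hy : y ∈ Algebra.adjoin A {θ}) :
    ∃ c : Fin p → A, y = ∑ i : Fin p, algebraMap A B (c i) * θ ^ (i : ℕ) := by
  rcases subsingleton_or_nontrivial A with hA | hA
  · refine ⟨fun _ => 0, ?_⟩
    have : (1 : B) = 0 := by
      rw [← map_one (algebraMap A B), Subsingleton.elim (1 : A) 0, map_zero]
    have hy0 : y = 0 := by rw [← mul_one y, this, mul_zero]
    simp [hy0]
  rw [Algebra.adjoin_singleton_eq_range_aeval] at hy
  obtain ⟨q, rfl⟩ := hy
  have hf : (X ^ p - C a : A[X]).Monic := monic_X_pow_sub_C a hp.ne'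
  set r := q %ₘ (X ^ p - C a) with hr
  have hdeg : r.degree < p := by
    have := degree_modByMonic_lt q hf
    rwa [degree_X_pow_sub_C hp] at this
  have h0 : aeval θ (X ^ p - C a : A[X]) = 0 := by
    rw [map_sub, map_pow, aeval_X, aeval_C, hθ, sub_self]
  have hqr : aeval θ q = aeval θ r := by
    conv_lhs => rw [← modByMonic_add_div q (X ^ p - C a)]
    rw [map_add, map_mul, h0, zero_mul, add_zero]
  refine ⟨fun i => r.coeff i, ?_⟩
  have hnat : r.natDegree < p := by
    by_cases hr0 : r = 0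
    · rw [hr0, natDegree_zero]; exact hp
    · exact (natDegree_lt_iff_degree_lt hr0).2 hdeg
  change aeval θ q = _
  rw [hqr, aeval_eq_sum_range' hnat, ← Fin.sum_univ_eq_sum_range (fun i => r.coeff i • θ ^ i) p]
  refine Finset.sum_congr rfl (fun i _ => ?_)
  rw [Algebra.smul_def]

end general

section ext
variable (A : Type u) [CommRing A] [IsDomain A] [HenselianLocalRing A] (π : A) (hU : IsUnif A π)
  (hπ0 : π ≠ 0) (p : ℕ) (hp : p.Prime)
  (B : Type u) [CommRing B] [IsDomain B] [Algebra A B]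
  (hinj : Function.Injective (algebraMap A B))
  [Algebra.IsIntegral A B] (a : A) (ha : ∀ z : A, z ^ p - a ∉ Ideal.span {π})
  (θ : B) (hθ : θ ^ p = algebraMap A B a)

include hU hp hinj ha hθ in
theorem isUnit_aeval (r : A[X]) (hdeg : r.degree < p) (hunit : ∃ i, IsUnit (r.coeff i)) :
    IsUnit (aeval θ r) := by
  haveI : IsLocalRing B :=
    Groth.Agent.Lib.Helper7.GeomInt.isLocalRing_of_isIntegral_of_isDomain A B
  haveI hloc : IsLocalHom (algebraMap A B) :=
    RingHom.IsIntegral.isLocalHom (fun x => Algebra.IsIntegral.isIntegral x) hinj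
  let φ : ResidueField A →+* ResidueField B := ResidueField.map (algebraMap A B)
  set θb : ResidueField B := residue B θ with hθb
  set ab : ResidueField A := residue A a with hab
  have hirr : Irreducible (X ^ p - C ab : (ResidueField A)[X]) := by
    apply X_pow_sub_C_irreducible_of_prime hp
    intro b hb
    obtain ⟨z, rfl⟩ := residue_surjective b
    have : residue A (z ^ p - a) = 0 := by rw [map_sub, map_pow, hb, sub_self]
    rw [residue_eq_zero_iff, hU.maximalIdeal_eq] at this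
    exact ha z this
  set rb : (ResidueField A)[X] := r.map (residue A) with hrb
  have hrb0 : rb ≠ 0 := by
    obtain ⟨i, hi⟩ := hunit
    intro h0
    have : rb.coeff i = 0 := by rw [h0, coeff_zero]
    rw [hrb, coeff_map, residue_eq_zero_iff, mem_maximalIdeal, mem_nonunits_iff] at this
    exact this hi
  have hdegb : rb.degree < p := lt_of_le_of_lt degree_map_le hdeg
  have hndvd : ¬ (X ^ p - C ab : (ResidueField A)[X]) ∣ rb := by
    intro hd
    have := degree_le_of_dvd hd hrb0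
    rw [degree_X_pow_sub_C hp.pos] at this
    exact absurd (lt_of_le_of_lt this hdegb) (lt_irrefl _)
  have hcop : IsCoprime (X ^ p - C ab : (ResidueField A)[X]) rb :=
    hirr.coprime_iff_not_dvd.2 hndvd
  obtain ⟨u, v, huv⟩ := hcop
  have hf0 : eval₂ φ θb (X ^ p - C ab : (ResidueField A)[X]) = 0 := by
    rw [eval₂_sub, eval₂_pow, eval₂_X, eval₂_C, hθb, ← map_pow, hθ, hab]
    simp only [φ]
    rw [ResidueField.map_residue, sub_self]
  have hev : eval₂ φ θb rb ≠ 0 := by
    intro h0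
    have := congrArg (eval₂ φ θb) huv
    rw [eval₂_add, eval₂_mul, eval₂_mul, hf0, h0, mul_zero, mul_zero, add_zero, eval₂_one] at this
    exact zero_ne_one this
  have hres : residue B (aeval θ r) = eval₂ φ θb rb := by
    have hcomp : (residue B).comp (algebraMap A B) = φ.comp (residue A) := by
      ext x
      simp only [φ, RingHom.comp_apply, ResidueField.map_residue]
    rw [aeval_def, hom_eval₂, hrb, eval₂_map, hcomp]
  have : aeval θ r ∉ maximalIdeal B := by
    rw [← residue_eq_zero_iff, hres]; exact hev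
  rwa [mem_maximalIdeal, mem_nonunits_iff, not_not] at this

include hU hπ0 hp hinj ha hθ in
theorem aeval_eq_unit_mul (r : A[X]) (hr : r ≠ 0) (hdeg : r.degree < p) :
    ∃ (n : ℕ) (u : Bˣ), aeval θ r = (algebraMap A B π) ^ n * u := by
  obtain ⟨n, r', hrr', hunit⟩ := hU.exists_prim r hr
  have hc : (π ^ n : A) ≠ 0 := pow_ne_zero _ hπ0
  have hdeg' : r'.degree < p := by
    rw [hrr', degree_C_mul hc] at hdeg; exact hdeg
  obtain ⟨u, hu⟩ := isUnit_aeval A π hU p hp B hinj a ha θ hθ r' hdeg' hunit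
  refine ⟨n, u, ?_⟩
  rw [hrr', map_mul, aeval_C, map_pow, hu]

include hU hπ0 hp hinj ha hθ in
/-- Uniqueness of the representation. -/
theorem eq_zero_of_sum_eq_zero (c : Fin p → A)
    (hc : ∑ i : Fin p, algebraMap A B (c i) * θ ^ (i : ℕ) = 0) : c = 0 := by
  by_contra hne
  have hr : polyOf c ≠ 0 := by
    intro h0
    apply hne
    funext j
    rw [← polyOf_coeff c j, h0, coeff_zero]; rfl
  obtain ⟨n, u, hu⟩ := aeval_eq_unit_mul A π hU hπ0 p hp B hinj a ha θ hθ (polyOf c) hr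
    (polyOf_degree_lt c)
  rw [aeval_polyOf, hc] at hu
  have h1 : (algebraMap A B π) ^ n ≠ 0 :=
    pow_ne_zero _ (fun h => hπ0 (hinj (by rw [h, map_zero])))
  exact mul_ne_zero h1 u.ne_zero hu.symm

include hU hπ0 hp hinj ha hθ in
theorem isUnif_ext
    (hrep : ∀ y : B, ∃ c : Fin p → A, y = ∑ i : Fin p, algebraMap A B (c i) * θ ^ (i : ℕ)) :
    IsUnif B (algebraMap A B π) := by
  haveI hloc : IsLocalHom (algebraMap A B) :=
    RingHom.IsIntegral.isLocalHom (fun x => Algebra.IsIntegral.isIntegral x) hinj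
  constructor
  · intro hu
    exact hU.1 (isUnit_of_map_unit (algebraMap A B) π hu)
  · intro y hy
    obtain ⟨c, rfl⟩ := hrep y
    have hr : polyOf c ≠ 0 := by
      intro h0
      apply hy
      rw [← aeval_polyOf, h0, map_zero]
    rw [← aeval_polyOf]
    exact aeval_eq_unit_mul A π hU hπ0 p hp B hinj a ha θ hθ (polyOf c) hr (polyOf_degree_lt c)

include hU hπ0 hp hinj ha hθ in
theorem pi_ext (R₀ : Type*) [CommRing R₀] [Algebra R₀ A] [Algebra R₀ B] [IsScalarTower R₀ A B]
    (hpπ : (p : A) ∈ Ideal.span {π})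
    (hPI : ∀ y : A, ∃ (m : ℕ) (z : R₀), algebraMap R₀ A z - y ^ (p ^ m) ∈ Ideal.span {π})
    (hrep : ∀ y : B, ∃ c : Fin p → A, y = ∑ i : Fin p, algebraMap A B (c i) * θ ^ (i : ℕ))
    (y : B) :
    ∃ (m : ℕ) (z : R₀), algebraMap R₀ B z - y ^ (p ^ m) ∈ Ideal.span {algebraMap A B π} := by
  have hUB := isUnif_ext A π hU hπ0 p hp B hinj a ha θ hθ hrep
  set J : Ideal B := Ideal.span {algebraMap A B π} with hJ
  have hmapJ : ∀ x : A, x ∈ Ideal.span {π} → algebraMap A B x ∈ J := by
    intro x hx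
    rw [Ideal.mem_span_singleton] at hx ⊢
    exact map_dvd (algebraMap A B) hx
  have hJtop : J ≠ ⊤ := by
    rw [hJ, Ne, Ideal.span_singleton_eq_top]; exact hUB.1
  haveI : Nontrivial (B ⧸ J) := Ideal.Quotient.nontrivial_iff.2 hJtop
  have hp0 : ((p : ℕ) : B ⧸ J) = 0 := by
    have : ((p : ℕ) : B) ∈ J := by
      have := hmapJ _ hpπ
      rwa [map_natCast] at this
    rw [← map_natCast (Ideal.Quotient.mk J), Ideal.Quotient.eq_zero_iff_mem]
    exact this
  haveI : CharP (B ⧸ J) p := (CharP.charP_iff_prime_eq_zero hp).2 hp0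
  haveI : ExpChar (B ⧸ J) p := ExpChar.prime hp
  obtain ⟨c, rfl⟩ := hrep y
  set s : A := ∑ i : Fin p, (c i) ^ p * a ^ (i : ℕ) with hs
  have h1 : Ideal.Quotient.mk J ((∑ i : Fin p, algebraMap A B (c i) * θ ^ (i : ℕ)) ^ p) =
      Ideal.Quotient.mk J (algebraMap A B s) := by
    rw [map_pow, map_sum, sum_pow_char, hs, map_sum, map_sum]
    refine Finset.sum_congr rfl (fun i _ => ?_)
    rw [← map_pow, mul_pow, ← pow_mul, mul_comm (i : ℕ) p, pow_mul, hθ]
    simp only [map_mul, map_pow]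
  obtain ⟨m, z, hz⟩ := hPI s
  refine ⟨m + 1, z, ?_⟩
  rw [← Ideal.Quotient.eq_zero_iff_mem, map_sub, pow_succ', pow_mul, map_pow, h1, ← map_pow,
    ← map_pow, ← map_sub, IsScalarTower.algebraMap_apply R₀ A B, ← map_sub,
    Ideal.Quotient.eq_zero_iff_mem]
  exact hmapJ _ hz

end ext

end Part1

section Part2

open Polynomial IsLocalRing

theorem IsUnif.irreducible {A : Type*} [CommRing A] [IsDomain A] {π : A} (h : IsUnif A π)
    (h0 : π ≠ 0) : Irreducible π := by
  refine ⟨h.1, fun x y hxy => ?_⟩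
  have hx0 : x ≠ 0 := by rintro rfl; exact h0 (by rw [hxy, zero_mul])
  have hy0 : y ≠ 0 := by rintro rfl; exact h0 (by rw [hxy, mul_zero])
  obtain ⟨n, u, rfl⟩ := h.2 x hx0
  obtain ⟨m, v, rfl⟩ := h.2 y hy0
  rcases n with _ | n
  · left; simpa using u.isUnit
  rcases m with _ | m
  · right; simpa using v.isUnit
  · exfalso
    have h1 : π * 1 = π * (π ^ n * u * (π ^ (m + 1) * v)) := by
      rw [mul_one]
      conv_lhs => rw [hxy]
      ring
    have h2 := mul_left_cancel₀ h0 h1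
    apply h.1
    exact isUnit_of_dvd_one ⟨π ^ n * u * (π ^ m * v), by rw [h2]; ring⟩

section defs
variable (R : Type u) [CommRing R] (Ω : Type u) [Field Ω] [Algebra R Ω] (π : R) (p : ℕ)

/-- The class of subalgebras over which we run Zorn's lemma. -/
structure Good (S : Subalgebra R Ω) : Prop where
  unif : IsUnif S (algebraMap R S π)
  pi : ∀ y : S, ∃ (m : ℕ) (z : R),
    algebraMap R S z - y ^ (p ^ m) ∈ Ideal.span {algebraMap R S π}
  fin : ∀ s : Finset Ω, (↑s : Set Ω) ⊆ S → ∃ T : Subalgebra R Ω, T ≤ S ∧ (↑s : Set Ω) ⊆ T ∧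
      Module.Finite R T ∧ Module.Free R T ∧ ∃ m : ℕ, Module.finrank R T = p ^ m

variable {R Ω π p}

theorem Good.isIntegral {S : Subalgebra R Ω} (hS : Good R Ω π p S) (x : S) : IsIntegral R x := by
  obtain ⟨T, hTS, hxT, hfin, -, -⟩ := hS.fin {x.1} (by simpa using x.2)
  have hxT' : x.1 ∈ T := hxT (by simp)
  haveI := hfin
  have h1 : IsIntegral R (⟨x.1, hxT'⟩ : T) := IsIntegral.of_finite R _
  have h2 : IsIntegral R (T.val ⟨x.1, hxT'⟩) := h1.map T.val
  exact (isIntegral_algHom_iff S.val Subtype.val_injective).1 h2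

end defs

section zorn
variable (R : Type u) [CommRing R] [IsDomain R] [IsDiscreteValuationRing R] [HenselianLocalRing R]
  (Ω : Type u) [Field Ω] [IsAlgClosed Ω] [Algebra R Ω] (hΩ : Function.Injective (algebraMap R Ω))
  (π : R) (hπ : Irreducible π) (p : ℕ) (hp : p.Prime) (hpπ : (p : R) ∈ Ideal.span {π})

include hΩ hπ in
theorem good_bot : Good R Ω π p (⊥ : Subalgebra R Ω) := by
  have hinjbot : Function.Injective (algebraMap R (⊥ : Subalgebra R Ω)) := by
    intro x y hxy
    exact hΩ (congrArg Subtype.val hxy)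
  have hsurj : ∀ y : (⊥ : Subalgebra R Ω), ∃ r : R, algebraMap R (⊥ : Subalgebra R Ω) r = y := by
    intro y
    obtain ⟨r, hr⟩ := Algebra.mem_bot.1 y.2
    exact ⟨r, Subtype.ext hr⟩
  refine ⟨⟨?_, ?_⟩, ?_, ?_⟩
  · intro hu
    obtain ⟨v, hv⟩ := isUnit_iff_exists_inv.1 hu
    obtain ⟨r, rfl⟩ := hsurj v
    rw [← map_mul, ← map_one (algebraMap R (⊥ : Subalgebra R Ω))] at hv
    exact hπ.not_isUnit (isUnit_iff_exists_inv.2 ⟨r, hinjbot hv⟩)
  · intro y hy
    obtain ⟨r, rfl⟩ := hsurj y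
    have hr : r ≠ 0 := by rintro rfl; exact hy (map_zero _)
    obtain ⟨n, u, hu⟩ := IsDiscreteValuationRing.eq_unit_mul_pow_irreducible hr hπ
    refine ⟨n, Units.map (algebraMap R (⊥ : Subalgebra R Ω)).toMonoidHom u, ?_⟩
    rw [hu, map_mul, map_pow, mul_comm]
    rfl
  · intro y
    obtain ⟨r, rfl⟩ := hsurj y
    exact ⟨0, r, by simp⟩
  · intro s hs
    let e := Algebra.botEquivOfInjective hΩ
    refine ⟨⊥, le_rfl, hs, Module.Finite.equiv e.symm.toLinearEquiv,
      Module.Free.of_equiv e.symm.toLinearEquiv, 0, ?_⟩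
    rw [pow_zero, e.toLinearEquiv.finrank_eq, Module.finrank_self]

theorem good_iSup (c : Set (Subalgebra R Ω)) (hc : IsChain (· ≤ ·) c) (hne : c.Nonempty)
    (hgood : ∀ S ∈ c, Good R Ω π p S) : Good R Ω π p (⨆ S : c, (S : Subalgebra R Ω)) := by
  haveI : Nonempty c := hne.to_subtype
  have hdir : Directed (· ≤ ·) (fun S : c => (S : Subalgebra R Ω)) := hc.directedOn.directed_val
  set ub : Subalgebra R Ω := ⨆ S : c, (S : Subalgebra R Ω) with hub
  have hmem : ∀ x : Ω, x ∈ ub ↔ ∃ S : c, x ∈ (S : Subalgebra R Ω) := by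
    intro x
    rw [← SetLike.mem_coe, hub, Subalgebra.coe_iSup_of_directed hdir, Set.mem_iUnion]
    rfl
  have hle : ∀ S : c, (S : Subalgebra R Ω) ≤ ub :=
    fun S => le_iSup (fun S : c => (S : Subalgebra R Ω)) S
  refine ⟨⟨?_, ?_⟩, ?_, ?_⟩
  · intro hu
    obtain ⟨v, hv⟩ := isUnit_iff_exists_inv.1 hu
    obtain ⟨S, hvS⟩ := (hmem v.1).1 v.2
    apply (hgood S S.2).unif.1
    refine isUnit_iff_exists_inv.2 ⟨⟨v.1, hvS⟩, ?_⟩
    apply Subtype.ext
    have h3 : algebraMap R Ω π * (v : Ω) = 1 := congrArg Subtype.val hv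
    exact h3
  · intro y hy
    obtain ⟨S, hyS⟩ := (hmem y.1).1 y.2
    have hy' : (⟨y.1, hyS⟩ : (S : Subalgebra R Ω)) ≠ 0 := by
      intro h0; apply hy; apply Subtype.ext
      have h4 : (y : Ω) = 0 := congrArg Subtype.val h0
      exact h4
    obtain ⟨n, u, hu⟩ := (hgood S S.2).unif.2 _ hy'
    let ι := Subalgebra.inclusion (hle S)
    refine ⟨n, Units.map ι.toRingHom.toMonoidHom u, ?_⟩
    have h1 : y = ι ⟨y.1, hyS⟩ := Subtype.ext rfl
    rw [h1, hu, map_mul, map_pow, AlgHom.commutes]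
    rfl
  · intro y
    obtain ⟨S, hyS⟩ := (hmem y.1).1 y.2
    obtain ⟨m, z, hz⟩ := (hgood S S.2).pi ⟨y.1, hyS⟩
    refine ⟨m, z, ?_⟩
    let ι := Subalgebra.inclusion (hle S)
    rw [Ideal.mem_span_singleton] at hz ⊢
    have h2 := map_dvd ι hz
    rw [AlgHom.commutes, map_sub, map_pow, AlgHom.commutes] at h2
    exact h2
  · have key : ∀ s : Finset Ω, (↑s : Set Ω) ⊆ ub →
        ∃ S : c, (↑s : Set Ω) ⊆ (S : Subalgebra R Ω) := by
      classical
      intro s
      induction s using Finset.induction_on with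
      | empty => intro _; exact ⟨Classical.arbitrary c, by simp⟩
      | insert a s ha ih =>
        intro hs
        rw [Finset.coe_insert, Set.insert_subset_iff] at hs
        obtain ⟨S1, h1⟩ := (hmem a).1 hs.1
        obtain ⟨S2, h2⟩ := ih hs.2
        obtain ⟨S3, h13, h23⟩ := hdir S1 S2
        refine ⟨S3, ?_⟩
        rw [Finset.coe_insert, Set.insert_subset_iff]
        exact ⟨h13 h1, fun x hx => h23 (h2 hx)⟩
    intro s hs
    obtain ⟨S, hsS⟩ := key s hs
    obtain ⟨T, hTS, hsT, h1, h2, h3⟩ := (hgood S S.2).fin s hsS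
    exact ⟨T, hTS.trans (hle S), hsT, h1, h2, h3⟩

include hΩ hπ hp hpπ in
theorem good_ext_core (S : Subalgebra R Ω) (hS : Good R Ω π p S) (a : S)
    (ha : ∀ z : S, z ^ p - a ∉ Ideal.span {algebraMap R S π}) (θ : Ω) (hθ : θ ^ p = (a : Ω))
    (S' : Subalgebra R Ω) (hS' : ∀ x, x ∈ S' ↔ x ∈ Algebra.adjoin S {θ}) :
    IsUnif S' (algebraMap R S' π) ∧
    (∀ y : S', ∃ (m : ℕ) (z : R),
      algebraMap R S' z - y ^ (p ^ m) ∈ Ideal.span {algebraMap R S' π}) ∧
    (∀ c : Fin p → S, ∑ i : Fin p, ((c i : S) : Ω) * θ ^ (i : ℕ) = 0 → c = 0) ∧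
    (∀ y ∈ S', ∃ c : Fin p → S, y = ∑ i : Fin p, ((c i : S) : Ω) * θ ^ (i : ℕ)) := by
  classical
  haveI : IsLocalRing S := hS.unif.isLocalRing
  haveI : Algebra.IsIntegral R S := ⟨hS.isIntegral⟩
  haveI : HenselianLocalRing S := Groth.Agent.Lib.Helper3.HenselInt.henselian_of_isIntegral R S
  have hle : S ≤ S' := by
    intro x hx
    rw [hS']
    exact Subalgebra.algebraMap_mem _ (⟨x, hx⟩ : S)
  letI algSS' : Algebra S S' := (Subalgebra.inclusion hle).toRingHom.toAlgebra
  haveI : IsScalarTower R S S' := IsScalarTower.of_algebraMap_eq (fun r => rfl)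
  have hinj : Function.Injective (algebraMap S S') := Subalgebra.inclusion_injective hle
  have hθS' : θ ∈ S' := by
    rw [hS']; exact Algebra.subset_adjoin (Set.mem_singleton θ)
  obtain ⟨θ', hθ'⟩ : ∃ θ' : S', (θ' : Ω) = θ := ⟨⟨θ, hθS'⟩, rfl⟩
  have hθp : θ' ^ p = algebraMap S S' a := Subtype.ext (by
    rw [SubmonoidClass.coe_pow, hθ']; exact hθ)
  obtain ⟨πS, hπS⟩ : ∃ πS : S, πS = algebraMap R S π := ⟨_, rfl⟩
  have hπS0 : πS ≠ 0 := by
    intro h0
    rw [hπS] at h0
    have h1 : algebraMap R Ω π = 0 := congrArg Subtype.val h0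
    exact hπ.ne_zero (hΩ (by rw [h1, map_zero]))
  have hθint : IsIntegral S θ := by
    refine ⟨X ^ p - C a, monic_X_pow_sub_C a hp.ne_zero, ?_⟩
    rw [eval₂_sub, eval₂_pow, eval₂_X, eval₂_C, hθ]
    exact sub_self _
  let ιS : S' →ₐ[S] Ω := { toRingHom := S'.val.toRingHom, commutes' := fun _ => rfl }
  haveI : Algebra.IsIntegral S S' := by
    refine ⟨fun y => ?_⟩
    have hy : y.1 ∈ integralClosure S Ω :=
      adjoin_le_integralClosure hθint ((hS' y.1).1 y.2)
    exact (isIntegral_algHom_iff ιS Subtype.val_injective).1 hy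
  have hrepΩ : ∀ y ∈ S', ∃ c : Fin p → S, y = ∑ i : Fin p, ((c i : S) : Ω) * θ ^ (i : ℕ) := by
    intro y hy
    exact exists_rep_sum hp.pos a θ hθ y ((hS' y).1 hy)
  have hcoe : ∀ c : Fin p → S,
      ((∑ i : Fin p, algebraMap S S' (c i) * θ' ^ (i : ℕ) : S') : Ω) =
        ∑ i : Fin p, ((c i : S) : Ω) * θ ^ (i : ℕ) := by
    intro c
    rw [AddSubmonoidClass.coe_finset_sum]
    refine Finset.sum_congr rfl (fun i _ => ?_)
    rw [MulMemClass.coe_mul, SubmonoidClass.coe_pow, hθ']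
    rfl
  have hrep : ∀ y : S', ∃ c : Fin p → S,
      y = ∑ i : Fin p, algebraMap S S' (c i) * θ' ^ (i : ℕ) := by
    intro y
    obtain ⟨c, hc⟩ := hrepΩ y.1 y.2
    exact ⟨c, Subtype.ext (by rw [hcoe c]; exact hc)⟩
  have hpS : ((p : ℕ) : S) ∈ Ideal.span {πS} := by
    rw [Ideal.mem_span_singleton] at hpπ ⊢
    have := map_dvd (algebraMap R S) hpπ
    rwa [map_natCast, ← hπS] at this
  have hUS : IsUnif S πS := by rw [hπS]; exact hS.unif
  have ha' : ∀ z : S, z ^ p - a ∉ Ideal.span {πS} := by rw [hπS]; exact ha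
  have hpi : ∀ y : S, ∃ (m : ℕ) (z : R), algebraMap R S z - y ^ (p ^ m) ∈ Ideal.span {πS} := by
    rw [hπS]; exact hS.pi
  have hUS' := isUnif_ext S πS hUS hπS0 p hp S' hinj a ha' θ' hθp hrep
  have hπS' : algebraMap S S' πS = algebraMap R S' π := by
    rw [hπS]; exact (IsScalarTower.algebraMap_apply R S S' π).symm
  refine ⟨?_, ?_, ?_, hrepΩ⟩
  · rw [← hπS']; exact hUS'
  · intro y
    rw [← hπS']
    exact pi_ext S πS hUS hπS0 p hp S' hinj a ha' θ' hθp R hpS hpi hrep y
  · intro c hc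
    apply eq_zero_of_sum_eq_zero S πS hUS hπS0 p hp S' hinj a ha' θ' hθp c
    apply Subtype.ext
    rw [hcoe c, hc]
    rfl

/-- Adjoining a `p`-th root with unique representation multiplies the rank by `p`. -/
theorem adjoin_finite_free (R : Type u) [CommRing R] [IsDomain R] (Ω : Type u) [Field Ω]
    [Algebra R Ω] (T : Subalgebra R Ω) [Module.Finite R T] [Module.Free R T] (p : ℕ) (hp : 0 < p)
    (aT : T) (θ : Ω) (hθ : θ ^ p = (aT : Ω))
    (huniq : ∀ c : Fin p → T, ∑ i : Fin p, ((c i : T) : Ω) * θ ^ (i : ℕ) = 0 → c = 0)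
    (T' : Subalgebra R Ω) (hT' : ∀ x, x ∈ T' ↔ x ∈ Algebra.adjoin T {θ}) :
    Module.Finite R T' ∧ Module.Free R T' ∧ Module.finrank R T' = p * Module.finrank R T := by
  classical
  have hθT' : θ ∈ Algebra.adjoin T {θ} := Algebra.subset_adjoin (Set.mem_singleton θ)
  have hmemT' : ∀ c : Fin p → T, ∑ i : Fin p, ((c i : T) : Ω) * θ ^ (i : ℕ) ∈ T' := by
    intro c
    rw [hT']
    refine Subalgebra.sum_mem _ (fun i _ =>
      Subalgebra.mul_mem _ ?_ (Subalgebra.pow_mem _ hθT' _))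
    exact Subalgebra.algebraMap_mem _ (c i)
  let Φ : (Fin p → T) →ₗ[R] Ω :=
    { toFun := fun c => ∑ i : Fin p, ((c i : T) : Ω) * θ ^ (i : ℕ)
      map_add' := fun c d => by
        simp only [Pi.add_apply, Subalgebra.coe_add, add_mul, Finset.sum_add_distrib]
      map_smul' := fun r c => by
        simp only [Pi.smul_apply, Subalgebra.coe_smul, smul_mul_assoc, Finset.smul_sum,
          RingHom.id_apply] }
  have hΦmem : ∀ c, Φ c ∈ Subalgebra.toSubmodule T' := fun c => hmemT' c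
  have hΦinj : Function.Injective Φ := by
    rw [← LinearMap.ker_eq_bot, LinearMap.ker_eq_bot']
    intro c hc
    exact huniq c hc
  have hΦsurj : ∀ y ∈ T', ∃ c, Φ c = y := by
    intro y hy
    rw [hT'] at hy
    obtain ⟨c, hc⟩ := exists_rep_sum hp aT θ hθ y hy
    exact ⟨c, hc.symm⟩
  let e : (Fin p → T) ≃ₗ[R] T' :=
    (LinearEquiv.ofBijective (Φ.codRestrict (Subalgebra.toSubmodule T') hΦmem)
      ⟨fun x y h => hΦinj (congrArg Subtype.val h), fun y => by
        obtain ⟨c, hc⟩ := hΦsurj y.1 y.2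
        exact ⟨c, Subtype.ext hc⟩⟩).trans T'.toSubmoduleEquiv
  refine ⟨Module.Finite.equiv e, Module.Free.of_equiv e, ?_⟩
  rw [← e.finrank_eq, Module.finrank_pi_fintype, Finset.sum_const, Finset.card_univ,
    Fintype.card_fin, smul_eq_mul]

include hΩ hπ hp hpπ in
theorem good_ext (S : Subalgebra R Ω) (hS : Good R Ω π p S) (a : S)
    (ha : ∀ z : S, z ^ p - a ∉ Ideal.span {algebraMap R S π}) (θ : Ω) (hθ : θ ^ p = (a : Ω))
    (S' : Subalgebra R Ω) (hS' : ∀ x, x ∈ S' ↔ x ∈ Algebra.adjoin S {θ}) :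
    Good R Ω π p S' := by
  classical
  obtain ⟨hU, hpi, huniq, hrepΩ⟩ := good_ext_core R Ω hΩ π hπ p hp hpπ S hS a ha θ hθ S' hS'
  refine ⟨hU, hpi, ?_⟩
  intro s hs
  have hex : ∀ x ∈ s, ∃ c : Fin p → S, x = ∑ i : Fin p, ((c i : S) : Ω) * θ ^ (i : ℕ) :=
    fun x hx => hrepΩ x (hs hx)
  choose! cf hcf using hex
  obtain ⟨s₀, hs₀def⟩ : ∃ s₀ : Finset Ω, s₀ =
      (s.biUnion fun x => Finset.univ.image (fun i : Fin p => ((cf x i : S) : Ω))) ∪ {(a : Ω)} :=
    ⟨_, rfl⟩
  have hs₀ : (↑s₀ : Set Ω) ⊆ S := by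
    intro y hy
    rw [Finset.mem_coe, hs₀def, Finset.mem_union] at hy
    rcases hy with hy | hy
    · rw [Finset.mem_biUnion] at hy
      obtain ⟨x, _, hy⟩ := hy
      rw [Finset.mem_image] at hy
      obtain ⟨i, _, rfl⟩ := hy
      exact (cf x i).2
    · rw [Finset.mem_singleton] at hy
      rw [hy]; exact a.2
  obtain ⟨T, hTS, hsT, hfin, hfree, m, hrank⟩ := hS.fin s₀ hs₀
  have haT : (a : Ω) ∈ T := by
    apply hsT
    rw [Finset.mem_coe, hs₀def, Finset.mem_union]; right
    exact Finset.mem_singleton_self _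
  have hcT : ∀ x ∈ s, ∀ i : Fin p, ((cf x i : S) : Ω) ∈ T := by
    intro x hx i
    apply hsT
    rw [Finset.mem_coe, hs₀def, Finset.mem_union]; left
    rw [Finset.mem_biUnion]
    exact ⟨x, hx, Finset.mem_image.2 ⟨i, Finset.mem_univ _, rfl⟩⟩
  obtain ⟨T', hT'⟩ : ∃ T' : Subalgebra R Ω, ∀ x, x ∈ T' ↔ x ∈ Algebra.adjoin T {θ} :=
    ⟨(Algebra.adjoin T {θ}).restrictScalars R, fun x => Iff.rfl⟩
  have hθT' : θ ∈ Algebra.adjoin T {θ} := Algebra.subset_adjoin (Set.mem_singleton θ)
  have hθS'' : θ ∈ Algebra.adjoin S {θ} := Algebra.subset_adjoin (Set.mem_singleton θ)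
  have huniqT : ∀ c : Fin p → T, ∑ i : Fin p, ((c i : T) : Ω) * θ ^ (i : ℕ) = 0 → c = 0 := by
    intro c hc
    have h1 := huniq (fun i => ⟨((c i : T) : Ω), hTS (c i).2⟩) hc
    funext i
    have hi := congrFun h1 i
    have h5 : ((c i : T) : Ω) = 0 := congrArg Subtype.val hi
    exact Subtype.ext h5
  haveI := hfin
  haveI := hfree
  obtain ⟨h1, h2, h3⟩ := adjoin_finite_free R Ω T p hp.pos ⟨a, haT⟩ θ hθ huniqT T' hT'
  refine ⟨T', ?_, ?_, h1, h2, m + 1, ?_⟩
  · intro y hy
    rw [hT'] at hy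
    obtain ⟨c, hc⟩ := exists_rep_sum hp.pos (⟨a, haT⟩ : T) θ hθ y hy
    rw [hc, hS']
    refine Subalgebra.sum_mem _ (fun i _ =>
      Subalgebra.mul_mem _ ?_ (Subalgebra.pow_mem _ hθS'' _))
    exact Subalgebra.algebraMap_mem _ (⟨((c i : T) : Ω), hTS (c i).2⟩ : S)
  · intro x hx
    rw [SetLike.mem_coe, hcf x hx, hT']
    refine Subalgebra.sum_mem _ (fun i _ =>
      Subalgebra.mul_mem _ ?_ (Subalgebra.pow_mem _ hθT' _))
    exact Subalgebra.algebraMap_mem _ (⟨((cf x i : S) : Ω), hcT x hx i⟩ : T)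
  · rw [h3, hrank, pow_succ']

include hΩ hπ hp hpπ in
theorem exists_max : ∃ S : Subalgebra R Ω, Good R Ω π p S ∧
    ∀ y : S, ∃ z : S, z ^ p - y ∈ Ideal.span {algebraMap R S π} := by
  obtain ⟨S, -, hSmax⟩ := zorn_le_nonempty₀ {S : Subalgebra R Ω | Good R Ω π p S}
    (fun c hcs hc y hy => ⟨⨆ S : c, (S : Subalgebra R Ω),
      good_iSup R Ω π p c hc ⟨y, hy⟩ (fun S hS => hcs hS),
      fun z hz => le_iSup (fun S : c => (S : Subalgebra R Ω)) ⟨z, hz⟩⟩)
    ⊥ (good_bot R Ω hΩ π hπ p)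
  have hS : Good R Ω π p S := hSmax.1
  refine ⟨S, hS, ?_⟩
  by_contra hcon
  push_neg at hcon
  obtain ⟨a, ha⟩ := hcon
  obtain ⟨θ, hθ⟩ := IsAlgClosed.exists_pow_nat_eq (a : Ω) hp.pos
  have hgood' := good_ext R Ω hΩ π hπ p hp hpπ S hS a ha θ hθ
    ((Algebra.adjoin S {θ}).restrictScalars R) (fun x => Iff.rfl)
  have hle : S ≤ (Algebra.adjoin S {θ}).restrictScalars R := by
    intro x hx
    rw [Subalgebra.mem_restrictScalars]
    exact Subalgebra.algebraMap_mem _ (⟨x, hx⟩ : S)
  have hge := hSmax.2 hgood' hle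
  have hθS : θ ∈ S := hge (by
    rw [Subalgebra.mem_restrictScalars]; exact Algebra.subset_adjoin rfl)
  apply ha ⟨θ, hθS⟩
  have h0 : (⟨θ, hθS⟩ : S) ^ p - a = 0 := by
    apply Subtype.ext
    rw [AddSubgroupClass.coe_sub, SubmonoidClass.coe_pow]
    exact sub_eq_zero.2 hθ
  rw [h0]; exact zero_mem _

end zorn

end Part2

section Part3

open Polynomial IsLocalRing

theorem main_16360 (R : Type u) [CommRing R] [IsDomain R]
    [IsDiscreteValuationRing R] [HenselianLocalRing R] :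
    ∃ (R' : Type u) (_ : CommRing R') (_ : IsDomain R') (_ : IsDiscreteValuationRing R')
      (_ : HenselianLocalRing R') (_ : Algebra R R'),
      Function.Injective (algebraMap R R') ∧
      Ideal.map (algebraMap R R') (IsLocalRing.maximalIdeal R) = IsLocalRing.maximalIdeal R' ∧
      (∀ s : Finset R', ∃ S : Subalgebra R R', (↑s : Set R') ⊆ ↑S ∧ Module.Finite R S ∧ Module.Free R S ∧
        ∃ m : ℕ, Module.finrank R S = ringExpChar (IsLocalRing.ResidueField R) ^ m) ∧
      (∀ y : R', ∃ z : R', z ^ ringExpChar (IsLocalRing.ResidueField R) - y ∈ IsLocalRing.maximalIdeal R') ∧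
      (∀ y : R', ∃ (m : ℕ) (z : R),
        algebraMap R R' z - y ^ (ringExpChar (IsLocalRing.ResidueField R) ^ m) ∈ IsLocalRing.maximalIdeal R') := by
  classical
  obtain hE : ExpChar (ResidueField R) (ringExpChar (ResidueField R)) := inferInstance
  generalize ringExpChar (ResidueField R) = q at hE ⊢
  cases hE with
  | zero =>
    refine ⟨R, inferInstance, inferInstance, inferInstance, inferInstance, Algebra.id R,
      Function.injective_id, Ideal.map_id _, ?_, ?_, ?_⟩
    · intro s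
      refine ⟨⊤, fun x _ => Algebra.mem_top, ?_, ?_, 0, ?_⟩
      · exact Module.Finite.equiv (Subalgebra.topEquiv (R := R) (A := R)).symm.toLinearEquiv
      · exact Module.Free.of_equiv (Subalgebra.topEquiv (R := R) (A := R)).symm.toLinearEquiv
      · rw [pow_zero, (Subalgebra.topEquiv (R := R) (A := R)).toLinearEquiv.finrank_eq,
          Module.finrank_self]
    · intro y; exact ⟨y, by simp⟩
    · intro y; exact ⟨0, y, by simp⟩
  | prime hq =>
    obtain ⟨π, hπ⟩ := IsDiscreteValuationRing.exists_irreducible R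
    have hqπ : (q : R) ∈ Ideal.span {π} := by
      rw [← hπ.maximalIdeal_eq, ← residue_eq_zero_iff, map_natCast]
      exact CharP.cast_eq_zero _ q
    let K := FractionRing R
    let Ω := AlgebraicClosure K
    have hΩ : Function.Injective (algebraMap R Ω) := by
      rw [IsScalarTower.algebraMap_eq R K Ω]
      exact (algebraMap K Ω).injective.comp (IsFractionRing.injective R K)
    obtain ⟨S, hS, hperf⟩ := exists_max R Ω hΩ π hπ q hq hqπ
    have hπS0 : algebraMap R S π ≠ 0 := by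
      intro h0
      have h1 : algebraMap R Ω π = 0 := congrArg Subtype.val h0
      exact hπ.ne_zero (hΩ (by rw [h1, map_zero]))
    haveI hloc : IsLocalRing S := hS.unif.isLocalRing
    haveI : Algebra.IsIntegral R S := ⟨hS.isIntegral⟩
    have hirr : Irreducible (algebraMap R S π) := hS.unif.irreducible hπS0
    have hDVR : IsDiscreteValuationRing S := by
      apply IsDiscreteValuationRing.ofHasUnitMulPowIrreducibleFactorization
      refine ⟨algebraMap R S π, hirr, fun {x} hx => ?_⟩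
      obtain ⟨n, u, hu⟩ := hS.unif.2 x hx
      exact ⟨n, u, hu.symm⟩
    have hhens : HenselianLocalRing S :=
      Groth.Agent.Lib.Helper3.HenselInt.henselian_of_isIntegral R S
    have hmax : maximalIdeal S = Ideal.span {algebraMap R S π} := hS.unif.maximalIdeal_eq
    refine ⟨S, inferInstance, inferInstance, hDVR, hhens, inferInstance, ?_, ?_, ?_, ?_, ?_⟩
    · intro x y hxy; exact hΩ (congrArg Subtype.val hxy)
    · rw [hπ.maximalIdeal_eq, Ideal.map_span, Set.image_singleton]; exact hmax.symm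
    · intro s
      obtain ⟨T, hTS, hsT, hfin, hfree, m, hrank⟩ := hS.fin (s.image Subtype.val) (by
        intro x hx
        rw [Finset.mem_coe, Finset.mem_image] at hx
        obtain ⟨y, _, rfl⟩ := hx
        exact y.2)
      let T₀ : Subalgebra R S := T.comap S.val
      let e : T₀ ≃ₗ[R] T :=
        { toFun := fun x => ⟨x.1.1, x.2⟩
          map_add' := fun _ _ => rfl
          map_smul' := fun _ _ => rfl
          invFun := fun y => ⟨⟨y.1, hTS y.2⟩, y.2⟩
          left_inv := fun _ => rfl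
          right_inv := fun _ => rfl }
      haveI := hfin
      haveI := hfree
      refine ⟨T₀, ?_, Module.Finite.equiv e.symm, Module.Free.of_equiv e.symm, m, ?_⟩
      · intro x hx
        show (x : Ω) ∈ T
        apply hsT
        rw [Finset.mem_coe, Finset.mem_image]
        exact ⟨x, hx, rfl⟩
      · rw [e.finrank_eq, hrank]
    · intro y
      obtain ⟨z, hz⟩ := hperf y
      exact ⟨z, by rw [hmax]; exact hz⟩
    · intro y
      obtain ⟨m, z, hz⟩ := hS.pi y
      exact ⟨m, z, by rw [hmax]; exact hz⟩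

end Part3

end Groth.Agent.Lib.R2H1.PerfClosDVR
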