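import Mathlib
import Groth.Prelude.Def_Curve
import Groth.Agent.Lib.R2H1TwistBC
import Groth.Agent.Lib.Helper12AffineDescent
import Groth.Agent.Lib.Helper3AbHom
set_option backward.isDefEq.respectTransparency.types false

/-!
helper1 (run 2): O_T = f_T_* O_{X_T} universally for a smooth proper curve with a rational point. API: isIso_appTop_of_finrank_eq_one (h0(O)=1 gives f.appTop iso), isIso_snd_app_of_isIso_appTop (flat base change of f_*O = O on affine opens of the base), isIso_c_of_isIso_app_affine (comorphism iso on affine opens gives IsIso p.c), s6463.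
-/

set_option autoImplicit false
set_option linter.style.haveILetI false
set_option linter.unusedSectionVars false
universe u v

open CategoryTheory CategoryTheory.Limits AlgebraicGeometry TopologicalSpace Opposite

namespace Groth.Agent.Lib.R2H1.PicCurveBC

section Part1

open Groth.Agent.Lib.H9SteinH0 Groth.Agent.Lib.H9SteinConn Groth.Agent.Lib.H9NormFin

/-- if the global functions of a proper `k`-scheme are the constants then `f.appTop` is an iso -/
theorem isIso_appTop_of_finrank_eq_one (k : Type u) [Field k] {X : Scheme.{u}}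
    (f : X ⟶ Spec (CommRingCat.of k))
    (h : letI := algΓ k f; Module.finrank k Γ(X, ⊤) = 1) : IsIso f.appTop := by
  letI := algΓ k f
  haveI : Nontrivial Γ(X, ⊤) := by
    by_contra hn
    rw [not_nontrivial_iff_subsingleton] at hn
    have : Module.finrank k Γ(X, ⊤) = 0 := Module.finrank_zero_of_subsingleton
    omega
  have hbt : (⊥ : Subalgebra k Γ(X, ⊤)) = ⊤ := Subalgebra.bot_eq_top_of_finrank_eq_one h
  have hsurj : Function.Surjective (algebraMap k Γ(X, ⊤)) := by
    intro a
    have : a ∈ (⊥ : Subalgebra k Γ(X, ⊤)) := hbt ▸ Algebra.mem_top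
    exact Algebra.mem_bot.mp this
  have hbij : Function.Bijective (algebraMap k Γ(X, ⊤)) :=
    ⟨(algebraMap k Γ(X, ⊤)).injective, hsurj⟩
  have hbij' : Function.Bijective ((Scheme.ΓSpecIso (CommRingCat.of k)).inv ≫ f.appTop) := hbij
  haveI : IsIso ((Scheme.ΓSpecIso (CommRingCat.of k)).inv ≫ f.appTop) :=
    (ConcreteCategory.isIso_iff_bijective _).2 hbij'
  exact IsIso.of_isIso_comp_left (Scheme.ΓSpecIso (CommRingCat.of k)).inv f.appTop

/-- base change of `O_S = f_* O_X` along a flat morphism, on affine opens of the base -/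
theorem isIso_snd_app_of_isIso_appTop {X S T : Scheme.{u}} [IsAffine S] (f : X ⟶ S) (t : T ⟶ S)
    [CompactSpace X] [QuasiSeparatedSpace X] [IsIso f.appTop]
    (hflat : ∀ V : T.Opens, Flat (V.ι ≫ t))
    (V : T.Opens) (hV : IsAffineOpen V) : IsIso ((pullback.snd f t).app V) := by
  have H1 := isPullback_morphismRestrict (pullback.snd f t) V
  have H2 : IsPullback (pullback.fst f t) (pullback.snd f t) f t := IsPullback.of_hasPullback f t
  have H := H1.flip.paste_horiz H2
  haveI := hflat V
  haveI : IsAffine (↑V : Scheme.{u}) := hV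
  have hpo := Groth.Agent.Lib.Helper12.isPushout_appTop H
  have h1 : IsIso ((pullback.snd f t ∣_ V).appTop) := hpo.isIso_inr_of_isIso
  rw [morphismRestrict_appTop] at h1
  have h2 : IsIso ((pullback.snd f t).app (V.ι ''ᵁ ⊤)) := by
    haveI hg : IsIso ((pullback f t).presheaf.map
        (eqToHom (image_morphismRestrict_preimage (pullback.snd f t) V ⊤)).op) := by
      haveI : IsIso (eqToHom (image_morphismRestrict_preimage (pullback.snd f t) V ⊤)).op :=
        inferInstance
      exact Functor.map_isIso _ _
    exact @IsIso.of_isIso_comp_right _ _ _ _ _ _ _ hg h1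
  have h3 : ∀ V' : T.Opens, V' = V → IsIso ((pullback.snd f t).app V') →
      IsIso ((pullback.snd f t).app V) := by
    rintro _ rfl h
    exact h
  exact h3 _ V.ι_image_top h2

/-- a morphism of schemes whose comorphism is an isomorphism on affine opens has `IsIso c` -/
theorem isIso_c_of_isIso_app_affine {P T : Scheme.{u}} (p : P ⟶ T)
    (h : ∀ V : T.Opens, IsAffineOpen V → IsIso (p.app V)) : IsIso p.c := by
  let F : TopCat.Sheaf CommRingCat T := T.sheaf
  let G : TopCat.Sheaf CommRingCat T := (TopCat.Sheaf.pushforward CommRingCat p.base).obj P.sheaf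
  let α : F ⟶ G := ⟨p.c⟩
  have hB : Opens.IsBasis (Set.range (fun U : T.affineOpens => (U.1 : T.Opens))) := by
    have := T.isBasis_affineOpens
    rwa [← Subtype.range_coe (s := T.affineOpens)] at this
  have h1 : IsIso α := TopCat.Sheaf.isIso_iff_isIso_basis
    (B := fun U : T.affineOpens => (U.1 : T.Opens)) hB fun U => h U.1 U.2
  have : IsIso ((TopCat.Sheaf.forget CommRingCat T).map α) := Functor.map_isIso _ α
  exact this

/-- S6463 -/
theorem s6463 (k : Type u) [Field k] (X : Scheme.{u}) (f : X ⟶ Spec (CommRingCat.of k))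
    (hX : Curve.IsSmoothProperCurve k X f) (σ : Spec (CommRingCat.of k) ⟶ X)
    (hσ : σ ≫ f = 𝟙 (Spec (CommRingCat.of k))) (T : Scheme.{u})
    (t : T ⟶ Spec (CommRingCat.of k)) : IsIso (pullback.snd f t).c := by
  obtain ⟨hprop, hsm, hint, hdim⟩ := hX
  letI : X.Over (Spec (CommRingCat.of k)) := ⟨f⟩
  haveI : IsProper (X ↘ Spec (CommRingCat.of k)) := hprop
  haveI := hint
  have h0 := Groth.Agent.Lib.R2H1.TwistBC.h0_structure_eq_one_of_section k X hdim σ hσ
  have h0' : letI := algΓ k f; Module.finrank k Γ(X, ⊤) = 1 := by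
    letI := algΓ k f
    exact (hh0LinearEquiv k X).finrank_eq.symm.trans h0
  haveI := isIso_appTop_of_finrank_eq_one k f h0'
  haveI : CompactSpace X := (quasiCompact_iff_compactSpace f).mp inferInstance
  haveI : QuasiSeparatedSpace X := (quasiSeparated_iff_quasiSeparatedSpace f).mp inferInstance
  refine isIso_c_of_isIso_app_affine _ fun V hV =>
    isIso_snd_app_of_isIso_appTop f t (fun V' => ?_) V hV
  exact Groth.Agent.Lib.Helper3.AbHom.flat_of_isField (K := CommRingCat.of k)
    (Field.toIsField k) _

end Part1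

end Groth.Agent.Lib.R2H1.PicCurveBC
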