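import Mathlib
import Groth.Agent.Lib.R2H1IsoP1F
set_option backward.isDefEq.respectTransparency.types false

/-!
helper1 (run 2): twisting an invertible module up by a closed point on a proper scheme over a field increases h0 by at most the degree of the point (S7837). API: s7837.
-/

set_option autoImplicit false
set_option linter.style.haveILetI false
set_option linter.unusedSectionVars false
universe u v

open CategoryTheory CategoryTheory.Limits AlgebraicGeometry TopologicalSpace Opposite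

namespace Groth.Agent.Lib.R2H1.PointH0

section Part1

open Groth.Agent.Lib.R2H2.HHLin Groth.Agent.Lib.R2H1.DegCartier Groth.Agent.Lib.R2H1.EulerAdd
  Groth.Agent.Lib.R2H1.CurveEuler Groth.Agent.Lib.R2H1.GenusLe Groth.Agent.Lib.R2H1.CurveDegSec
  Groth.Agent.Lib.R2H1.FinrankChain Groth.Agent.Lib.R2H1.IsoP1D

attribute [local instance] Curv2.resAlgebra

variable (k : Type u) [Field k] (C : Scheme.{u}) [C.Over (Spec (CommRingCat.of k))]
    [IsProper (C ↘ (Spec (CommRingCat.of k)))]

/-- S7837: twisting up by a closed point increases `h⁰` by at most the degree of the point -/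
theorem s7837 (x : C) (hx : IsClosed ({x} : Set C))
    (L L' : C.Modules) (hL : PicF.IsInvertible L) (hL' : PicF.IsInvertible L')
    (hLL' : Nonempty (L ≅ CohB1.tensorMod L' (ClSub.idealMod (C.fromSpecResidueField x).ker))) :
    Module.finrank k (Coh.HH C L 0) ≤ Module.finrank k (Coh.HH C L' 0) ∧
      Module.finrank k (Coh.HH C L' 0) ≤ Module.finrank k (Coh.HH C L 0) + Module.finrank k (C.residueField x) := by
  haveI := isNoetherian_of_proper k C
  obtain ⟨e⟩ := hLL'
  have hk := ker_eq_vanishingIdeal (C.fromSpecResidueField x) x hx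
    (Scheme.range_fromSpecResidueField x)
  rw [hk] at e
  obtain ⟨D, hDdef⟩ : ∃ D : C.IdealSheafData, D = Scheme.IdealSheafData.vanishingIdeal ⟨{x}, hx⟩ :=
    ⟨_, rfl⟩
  have hdeg := Groth.Agent.Lib.R2H1.IsoP1F.h0_quotMod_point_eq k C x hx
  rw [← hDdef] at e hdeg
  have hL1 : FlatMod.IsFinLocFreeOfRank 1 L' :=
    Groth.Agent.Lib.Helper23.SecTw.isFinLocFreeOfRank_one_of_isInvertible L' hL'
  have hLf : FlatMod.IsFinLocFree L' := fun y => by
    obtain ⟨V, hy, e⟩ := hL1 y
    exact ⟨V, 1, hy, e⟩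
  have cL := isCoh_of_isInvertible L hL
  have cL' := isCoh_of_isInvertible L' hL'
  have cO := isCoh_structureModule C
  have cQ : Coh.IsCoh (ClSub.quotMod D) :=
    Groth.Agent.S0019.result D.subschemeι _ (isCoh_structureModule _)
  have hfl := Groth.Agent.Lib.R2H2.PullLF.isFlat_of_isFinLocFree L' hLf
  have c₁' : Coh.IsCoh (CohB1.tensorMod L' (ClSub.idealMod D)) :=
    Groth.Agent.Lib.R2H2.PdSheaf.isCoh_of_iso e cL
  obtain ⟨S, hSdef⟩ : ∃ S : ShortComplex C.Modules,
      S = (idealSeq D).map (DCoh.tensorBi.obj L') := ⟨_, rfl⟩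
  have hS : S.ShortExact := by
    rw [hSdef]
    exact Groth.Agent.Lib.R2Lead.TensorExact.shortExact_map_tensorBi L' (fun y => hfl y)
      (idealSeq D) (idealSeq_shortExact D)
  have c₁ : Coh.IsCoh S.X₁ := by rw [hSdef]; exact c₁'
  have c₂ : Coh.IsCoh S.X₂ := by
    rw [hSdef]
    exact Groth.Agent.Lib.R2H2.PdSheaf.isCoh_of_iso (Groth.Agent.Lib.Helper21.Dual.rU C.sheaf L').symm cL'
  have c₃ := isCoh_X₃ _ hS c₁ c₂
  have hsuppD : (D.support : Set C) = {x} := by
    rw [hDdef]; exact Scheme.IdealSheafData.coe_support_vanishingIdeal _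
  have hdimD : topologicalKrullDim (D.support : Set C) ≤ 0 := by
    rw [hsuppD]
    exact Groth.Agent.Lib.R2H1.H0One.topologicalKrullDim_le_zero_of_subsingleton _
  have hsuppQ : topologicalKrullDim (CohB1.support (ClSub.quotMod D)) ≤ 0 :=
    le_trans (Topology.IsInducing.topologicalKrullDim_le
      (Topology.IsEmbedding.inclusion (support_quotMod_subset D)).isInducing) hdimD
  have eQ := euler_eq_h0 k C (ClSub.quotMod D) cQ hsuppQ
  have main := euler_tensor_ideal k C D 1 L' hL1 cQ hsuppQ c₁'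
  have hadd := s1524 k C S hS c₁ c₂ c₃
  have e₂ : Curv2.euler k C S.X₂ = Curv2.euler k C L' := by
    rw [hSdef]; exact euler_congr k (Groth.Agent.Lib.Helper21.Dual.rU C.sheaf L')
  have e₁ : Curv2.euler k C S.X₁ = Curv2.euler k C (CohB1.tensorMod L' (ClSub.idealMod D)) := by
    rw [hSdef]; rfl
  have hsupp₃ : CohB1.support S.X₃ ⊆ (D.support : Set C) := by
    intro y hy
    by_contra hcon
    rw [hSdef] at hy
    exact hy (Groth.Agent.Lib.R2H1.LiftZero.stalk_X₃_subsingleton D L' y hcon)
  have hdim₃ : topologicalKrullDim (CohB1.support S.X₃) ≤ 0 :=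
    le_trans (Topology.IsInducing.topologicalKrullDim_le
      (Topology.IsEmbedding.inclusion hsupp₃).isInducing) hdimD
  have e3 := euler_eq_h0 k C _ c₃ hdim₃
  have h0X₃ : Module.finrank k (Coh.HH C S.X₃ 0) =
      Module.finrank k (Coh.HH C (ClSub.quotMod D) 0) := by
    have : (Module.finrank k (Coh.HH C S.X₃ 0) : ℤ) =
        (Module.finrank k (Coh.HH C (ClSub.quotMod D) 0) : ℤ) := by
      rw [← e3]
      rw [e₂, e₁] at hadd
      rw [eQ] at main
      push_cast at main
      linarith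
    exact_mod_cast this
  have hX₁ : Module.finrank k (Coh.HH C S.X₁ 0) = Module.finrank k (Coh.HH C L 0) := by
    rw [hSdef]
    exact (Groth.Agent.Lib.R2H2.ClosedPnLin.finrank_HH_of_iso k e 0).symm
  have hX₂ : Module.finrank k (Coh.HH C S.X₂ 0) = Module.finrank k (Coh.HH C L' 0) := by
    rw [hSdef]
    exact Groth.Agent.Lib.R2H2.ClosedPnLin.finrank_HH_of_iso k
      (Groth.Agent.Lib.Helper21.Dual.rU C.sheaf L') 0
  have hle1 := hh_left_zero_le k S hS c₁ c₂
  have hle2 := hh_mid_le k S hS c₁ c₂ c₃ 0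
  unfold hh at hle1 hle2
  rw [hX₁, hX₂] at hle1
  rw [hX₁, hX₂, h0X₃, hdeg] at hle2
  exact ⟨hle1, hle2⟩

end Part1

end Groth.Agent.Lib.R2H1.PointH0
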