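/-
Injective amplitude of A[X] ⊗ E over A[X] (E injective over Noetherian A) is in [0,1].
Contents: `injective_of_linearEquiv`; the coinduced module `Coind A B N` (= Hom_A(B,N) with B acting on the source) and
`Coind.injective`; the exact sequence 0 → N → Hom_A(A[X],N) → Hom_A(A[X],N) → 0 (`iota`, `delta`, `iota_injective`,
`exact_iota_delta`, `delta_surjective`); `injective_poly_tensor`; derived-category lemmas `injAmp_single`, `injAmp_shift`,
`injAmp_of_shortExact` (module with injective resolution of length one has amplitude [0,1]); `main_1748`.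
-/
import Mathlib
import Groth.Agent.S0300
import Groth.Agent.S6965

set_option autoImplicit false
set_option linter.style.haveILetI false
set_option linter.unusedSectionVars false
universe u
open scoped TensorProduct
open Polynomial
open CategoryTheory CategoryTheory.Limits
attribute [local instance] HasDerivedCategory.standard

namespace Groth.Agent.Lib.R2H1.PolyInj

section Part1

/-- Injectivity transfers along linear equivalences (same universe). -/
lemma injective_of_linearEquiv {R : Type u} [CommRing R] {M N : Type u} [AddCommGroup M]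
    [AddCommGroup N] [Module R M] [Module R N] (e : M ≃ₗ[R] N) [h : Module.Injective R M] :
    Module.Injective R N := by
  refine ⟨fun X Y _ _ _ _ f hf g => ?_⟩
  obtain ⟨h', hh'⟩ := h.out f hf (e.symm.toLinearMap ∘ₗ g)
  refine ⟨e.toLinearMap ∘ₗ h', fun x => ?_⟩
  simp only [LinearMap.coe_comp, LinearEquiv.coe_coe, Function.comp_apply, hh']
  simp

/-- The coinduced module `Hom_A(B, N)` as a type synonym, to carry its `B`-module structure. -/
def Coind (A B N : Type u) [CommRing A] [CommRing B] [Algebra A B] [AddCommGroup N]
    [Module A N] : Type u := B →ₗ[A] N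

namespace Coind

variable {A B N : Type u} [CommRing A] [CommRing B] [Algebra A B] [AddCommGroup N] [Module A N]

instance : AddCommGroup (Coind A B N) := inferInstanceAs (AddCommGroup (B →ₗ[A] N))

/-- The underlying linear map. -/
def toLin (g : Coind A B N) : B →ₗ[A] N := g

/-- Constructor. -/
def ofLin (g : B →ₗ[A] N) : Coind A B N := g

@[simp] lemma toLin_ofLin (g : B →ₗ[A] N) : toLin (ofLin g) = g := rfl
@[simp] lemma ofLin_toLin (g : Coind A B N) : ofLin (toLin g) = g := rfl
@[simp] lemma toLin_add (g h : Coind A B N) : toLin (g + h) = toLin g + toLin h := rfl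
@[simp] lemma toLin_zero : toLin (0 : Coind A B N) = 0 := rfl
@[simp] lemma toLin_neg (g : Coind A B N) : toLin (-g) = -toLin g := rfl
@[simp] lemma toLin_sub (g h : Coind A B N) : toLin (g - h) = toLin g - toLin h := rfl

lemma ext {g h : Coind A B N} (H : ∀ b, toLin g b = toLin h b) : g = h :=
  LinearMap.ext H

instance : SMul B (Coind A B N) := ⟨fun b g => ofLin (toLin g ∘ₗ LinearMap.mul A B b)⟩

@[simp] lemma toLin_smul (b : B) (g : Coind A B N) (x : B) : toLin (b • g) x = toLin g (b * x) :=
  rfl

instance : Module B (Coind A B N) where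
  one_smul g := ext fun x => by simp
  mul_smul b c g := ext fun x => by
    simp only [toLin_smul]
    congr 1
    ring
  smul_zero b := ext fun x => by simp
  smul_add b g h := ext fun x => by simp
  add_smul b c g := ext fun x => by simp [add_mul]
  zero_smul g := ext fun x => by simp

/-- The coinduced module of an injective module is injective. -/
theorem injective [hN : Module.Injective A N] : Module.Injective B (Coind A B N) := by
  refine ⟨fun X Y _ _ _ _ f hf g => ?_⟩
  letI : Module A X := Module.compHom X (algebraMap A B)
  letI : Module A Y := Module.compHom Y (algebraMap A B)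
  haveI : IsScalarTower A B X := ⟨fun a b x => by
    rw [Algebra.smul_def, mul_smul]; rfl⟩
  haveI : IsScalarTower A B Y := ⟨fun a b x => by
    rw [Algebra.smul_def, mul_smul]; rfl⟩
  -- g' : X → N, x ↦ g x 1
  let g' : X →ₗ[A] N :=
    { toFun := fun x => toLin (g x) 1
      map_add' := fun x y => by simp
      map_smul' := fun a x => by
        have h1 : a • x = (algebraMap A B a) • x := rfl
        rw [h1, map_smul, toLin_smul, mul_one, RingHom.id_apply,
          Algebra.algebraMap_eq_smul_one, map_smul] }
  obtain ⟨h', hh'⟩ := hN.out (f.restrictScalars A) hf g'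
  -- h : Y → Coind
  let hfun : Y → Coind A B N := fun y => ofLin
    { toFun := fun b => h' (b • y)
      map_add' := fun b c => by rw [add_smul, map_add]
      map_smul' := fun a b => by rw [smul_assoc, map_smul, RingHom.id_apply] }
  have hfun_apply : ∀ y b, toLin (hfun y) b = h' (b • y) := fun y b => rfl
  let h : Y →ₗ[B] Coind A B N :=
    { toFun := hfun
      map_add' := fun y z => ext fun b => by
        simp only [hfun_apply, toLin_add, LinearMap.add_apply, smul_add, map_add]
      map_smul' := fun c y => ext fun b => by
        simp only [hfun_apply, RingHom.id_apply, toLin_smul]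
        rw [smul_smul, mul_comm] }
  refine ⟨h, fun x => ext fun b => ?_⟩
  change toLin (hfun (f x)) b = _
  rw [hfun_apply, ← map_smul]
  have := hh' (b • x)
  simp only [LinearMap.coe_restrictScalars] at this
  rw [this]
  change toLin (g (b • x)) 1 = _
  rw [map_smul, toLin_smul, mul_one]

end Coind

end Part1

section Part2

open Coind

variable {A : Type u} [CommRing A] {N : Type u} [AddCommGroup N] [Module A N] [Module A[X] N]
  [IsScalarTower A A[X] N]

/-- `n ↦ (b ↦ b • n)`. -/
noncomputable def iota : N →ₗ[A[X]] Coind A A[X] N where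
  toFun n := ofLin ((LinearMap.toSpanSingleton A[X] N n).restrictScalars A)
  map_add' n m := Coind.ext fun b => by
    simp [LinearMap.toSpanSingleton_apply]
  map_smul' c n := Coind.ext fun b => by
    simp only [toLin_ofLin, LinearMap.coe_restrictScalars, LinearMap.toSpanSingleton_apply,
      RingHom.id_apply, toLin_smul]
    rw [smul_smul, mul_comm]

lemma iota_apply (n : N) (b : A[X]) : toLin (iota (A := A) n) b = b • n := rfl

/-- `g ↦ (b ↦ g (X b) - X g(b))`. -/
noncomputable def delta : Coind A A[X] N →ₗ[A[X]] Coind A A[X] N where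
  toFun g := ofLin (toLin g ∘ₗ LinearMap.mul A A[X] X -
    ((LinearMap.lsmul A[X] N X).restrictScalars A) ∘ₗ toLin g)
  map_add' g h := Coind.ext fun b => by
    simp only [toLin_ofLin, toLin_add, LinearMap.sub_apply, LinearMap.coe_comp,
      Function.comp_apply, LinearMap.add_apply, LinearMap.mul_apply_apply,
      LinearMap.coe_restrictScalars, LinearMap.lsmul_apply, smul_add]
    abel
  map_smul' c g := Coind.ext fun b => by
    simp only [toLin_ofLin, LinearMap.sub_apply, LinearMap.coe_comp,
      Function.comp_apply, LinearMap.mul_apply_apply,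
      LinearMap.coe_restrictScalars, LinearMap.lsmul_apply, RingHom.id_apply, toLin_smul]
    congr 2
    ring

lemma delta_apply (g : Coind A A[X] N) (b : A[X]) :
    toLin (delta g) b = toLin g (X * b) - (X : A[X]) • toLin g b := rfl

lemma iota_injective : Function.Injective (iota (A := A) (N := N)) := by
  intro n m h
  have := congrArg (fun g => toLin g 1) h
  simpa [iota_apply] using this

lemma delta_iota (n : N) : delta (iota (A := A) n) = 0 := by
  apply Coind.ext
  intro b
  rw [delta_apply, iota_apply, iota_apply, mul_smul, sub_self]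
  rfl

lemma lin_of_delta_eq_zero (g : Coind A A[X] N) (hg : delta g = 0) (p b : A[X]) :
    toLin g (p * b) = p • toLin g b := by
  have hX : ∀ b, toLin g (X * b) = (X : A[X]) • toLin g b := by
    intro b
    have := congrArg (fun g => toLin g b) hg
    simp only [delta_apply, toLin_zero, LinearMap.zero_apply] at this
    exact sub_eq_zero.mp this
  have hXn : ∀ (n : ℕ) b, toLin g (X ^ n * b) = (X : A[X]) ^ n • toLin g b := by
    intro n
    induction n with
    | zero => intro b; simp
    | succ n ih =>
      intro b
      rw [pow_succ', mul_assoc, hX, ih, smul_smul]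
  induction p using Polynomial.induction_on' with
  | add p q hp hq => rw [add_mul, map_add, hp, hq, add_smul]
  | monomial n a =>
    rw [← Polynomial.smul_X_eq_monomial, smul_mul_assoc, map_smul, hXn, smul_assoc]

lemma exact_iota_delta : Function.Exact (iota (A := A) (N := N)) delta := by
  intro g
  constructor
  · intro hg
    refine ⟨toLin g 1, ?_⟩
    apply Coind.ext
    intro b
    rw [iota_apply]
    have := lin_of_delta_eq_zero g hg b 1
    rw [mul_one] at this
    exact this.symm
  · rintro ⟨n, rfl⟩
    exact delta_iota n

lemma delta_surjective : Function.Surjective (delta (A := A) (N := N)) := by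
  intro g
  let hseq : ℕ → N := fun n => Nat.rec 0 (fun k hk => (X : A[X]) • hk + toLin g (X ^ k)) n
  have hseq_succ : ∀ n, hseq (n + 1) = (X : A[X]) • hseq n + toLin g (X ^ n) := fun n => rfl
  let h : A[X] →ₗ[A] N := (Polynomial.basisMonomials A).constr A hseq
  have hh : ∀ n : ℕ, h (X ^ n) = hseq n := by
    intro n
    have := (Polynomial.basisMonomials A).constr_basis A hseq n
    rw [Polynomial.coe_basisMonomials] at this
    simp only at this
    rw [Polynomial.X_pow_eq_monomial]
    exact this
  refine ⟨ofLin h, ?_⟩
  have : toLin (delta (ofLin h)) = toLin g := by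
    apply (Polynomial.basisMonomials A).ext
    intro n
    rw [Polynomial.coe_basisMonomials]
    simp only
    rw [← Polynomial.X_pow_eq_monomial, delta_apply, toLin_ofLin, ← pow_succ', hh, hh, hseq_succ,
      add_sub_cancel_left]
  exact this

end Part2

section Part3

/-- Over a Noetherian ring, `A[X] ⊗ E` is an injective `A`-module for injective `E`. -/
theorem injective_poly_tensor (A : Type u) [CommRing A] [IsNoetherianRing A] (E : Type u)
    [AddCommGroup E] [Module A E] [Module.Injective A E] :
    Module.Injective A (A[X] ⊗[A] E) := by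
  classical
  have h0 : Module.Injective A (DirectSum (ULift.{u} ℕ) (fun _ => E)) :=
    Groth.Agent.S0300.result A (fun _ : ULift.{u} ℕ => E) (fun _ => inferInstance)
  let e1 : A[X] ≃ₗ[A] (ULift.{u} ℕ →₀ A) :=
    (Polynomial.basisMonomials A).repr ≪≫ₗ Finsupp.domLCongr Equiv.ulift.symm
  let e : A[X] ⊗[A] E ≃ₗ[A] DirectSum (ULift.{u} ℕ) (fun _ => E) :=
    TensorProduct.congr e1 (LinearEquiv.refl A E) ≪≫ₗ
      TensorProduct.finsuppScalarLeft A E (ULift.{u} ℕ) ≪≫ₗ
      finsuppLEquivDirectSum A E (ULift.{u} ℕ)
  exact injective_of_linearEquiv e.symm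

end Part3

section Part4

open DerivedCategory Pretriangulated

variable {R : Type u} [CommRing R]

/-- An injective module placed in degree `0` has injective amplitude in `[0, 0]`. -/
lemma injAmp_single (Q : ModuleCat.{u} R) [Module.Injective R Q] :
    DRing.HasInjAmplitudeIn R 0 0 ((DerivedCategory.singleFunctor (ModuleCat.{u} R) 0).obj Q) := by
  refine ⟨(HomologicalComplex.single (ModuleCat.{u} R) (ComplexShape.up ℤ) 0).obj Q, ?_, ?_, ⟨?_⟩⟩
  · intro i hi
    exact HomologicalComplex.isZero_single_obj_X _ _ _ _ (by omega)
  · intro i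
    by_cases hi : i = 0
    · subst hi
      have e := HomologicalComplex.singleObjXSelf (ComplexShape.up ℤ) (0 : ℤ) Q
      haveI : Injective Q := Module.injective_object_of_injective_module R Q
      haveI : Injective (((HomologicalComplex.single (ModuleCat.{u} R)
          (ComplexShape.up ℤ) 0).obj Q).X 0) := Injective.of_iso e.symm inferInstance
      exact Module.injective_module_of_injective_object R _
    · have hz : IsZero (((HomologicalComplex.single (ModuleCat.{u} R)
          (ComplexShape.up ℤ) 0).obj Q).X i) :=
        HomologicalComplex.isZero_single_obj_X _ _ _ _ hi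
      haveI := hz.injective
      exact Module.injective_module_of_injective_object R _
  · exact ((DerivedCategory.singleFunctorIsoCompQ (ModuleCat.{u} R) 0).app Q).symm

lemma injAmp_shift {K : Dual.D R} {a b : ℤ} (h : DRing.HasInjAmplitudeIn R a b K) (n : ℤ) :
    DRing.HasInjAmplitudeIn R (a - n) (b - n) ((shiftFunctor (Dual.D R) n).obj K) := by
  obtain ⟨E, hE, hinj, ⟨e⟩⟩ := h
  exact ⟨(shiftFunctor (DRing.Cx R) n).obj E, fun i hi => hE (i + n) (by omega),
    fun i => hinj (i + n), ⟨(Q.commShiftIso n).app E ≪≫ (shiftFunctor _ n).mapIso e⟩⟩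

/-- A module with an injective resolution of length one has injective amplitude in `[0, 1]`. -/
theorem injAmp_of_shortExact (S : ShortComplex (ModuleCat.{u} R)) (hS : S.ShortExact)
    [Module.Injective R S.X₂] [Module.Injective R S.X₃] :
    DRing.HasInjAmplitudeIn R 0 1
      ((DerivedCategory.singleFunctor (ModuleCat.{u} R) 0).obj S.X₁) := by
  have hT := hS.singleTriangle_distinguished
  have hT' := inv_rot_of_distTriang _ hT
  have h2 := injAmp_single (R := R) S.X₂
  have h3 := injAmp_shift (injAmp_single (R := R) S.X₃) (-1)
  have t2 := (Groth.Agent.S6965.result R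
    ((DerivedCategory.singleFunctor (ModuleCat.{u} R) 0).obj S.X₂) 0 0).out 0 1
  have t3 := (Groth.Agent.S6965.result R ((shiftFunctor (Dual.D R) (-1 : ℤ)).obj
    ((DerivedCategory.singleFunctor (ModuleCat.{u} R) 0).obj S.X₃)) (0 - -1) (0 - -1)).out 0 1
  have t1 := (Groth.Agent.S6965.result R
    ((DerivedCategory.singleFunctor (ModuleCat.{u} R) 0).obj S.X₁) 0 1).out 0 1
  rw [t1]
  intro N _ _ i hi
  have s2 := t2.1 h2 N i (by omega)
  have s3 := t3.1 h3 N i (by omega)
  have hTi := Triangle.shift_distinguished _ hT' i
  refine ⟨fun f g => ?_⟩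
  have hz : ∀ f : Dual.inD R N ⟶ (shiftFunctor (Dual.D R) i).obj
      ((DerivedCategory.singleFunctor (ModuleCat.{u} R) 0).obj S.X₁), f = 0 := by
    intro f
    obtain ⟨g, hg⟩ := Triangle.coyoneda_exact₂ _ hTi f (s2.elim _ _)
    have : g = 0 := s3.elim _ _
    rw [hg, this, Limits.zero_comp]
    rfl
  rw [hz f, hz g]

end Part4

section Part5

/-- `A[X] ⊗ E` has injective amplitude in `[0, 1]` over `A[X]`, for `E` injective over Noetherian
`A`. -/
theorem main_1748 (A : Type u) [CommRing A] [IsNoetherianRing A] (E : Type u) [AddCommGroup E]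
    [Module A E] [Module.Injective A E] :
    DRing.HasInjAmplitudeIn A[X] 0 1 (Dual.inD A[X] (A[X] ⊗[A] E)) := by
  haveI hN : Module.Injective A (A[X] ⊗[A] E) := injective_poly_tensor A E
  haveI hQ : Module.Injective A[X] (Coind A A[X] (A[X] ⊗[A] E)) := Coind.injective
  let S : ShortComplex (ModuleCat.{u} A[X]) :=
    ModuleCat.shortComplexOfCompEqZero (iota (A := A) (N := A[X] ⊗[A] E)) delta
      (LinearMap.ext fun n => delta_iota n)
  have hS : S.ShortExact :=
    ModuleCat.shortComplex_shortExact S exact_iota_delta iota_injective delta_surjective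
  haveI : Module.Injective A[X] S.X₂ := hQ
  haveI : Module.Injective A[X] S.X₃ := hQ
  exact injAmp_of_shortExact S hS

end Part5

end Groth.Agent.Lib.R2H1.PolyInj
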