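import Mathlib
import Groth.Prelude.Def_Coh
import Groth.Prelude.Def_CohB1
import Groth.Prelude.Def_FlatMod2
import Groth.Prelude.Def_MeroDiv
import Groth.Agent.Lib.Helper6EquiSubB
import Groth.Agent.Lib.Helper11RedCl
import Groth.Agent.Lib.Helper23GenLocus
import Groth.Agent.Lib.R2H1GenusLe
import Groth.Agent.S0019
set_option backward.isDefEq.respectTransparency.types false

/-!
helper1 (run 2): pushforward of the structure sheaf of an integral closed subscheme along a finite surjective morphism (S0820). G iota f = f_* iota_* O_T; stalk_subsingleton (stalk vanishes off the image), stalk_nontrivial (stalk at image points is nonzero), smul_eq_zero (T integral: the maximal ideal at the image of the generic point kills the stalk), s0820.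
-/

set_option autoImplicit false
set_option linter.style.haveILetI false
set_option linter.unusedSectionVars false
universe u v

open CategoryTheory CategoryTheory.Limits AlgebraicGeometry TopologicalSpace Opposite

namespace Groth.Agent.Lib.R2H1.PushSupp

section Part1

open Groth.Agent.Lib.Helper23.GenLocus

section gen

variable {T Y X : Scheme.{u}} (ι : T ⟶ Y) (f : Y ⟶ X)

/-- `f_* ι_* O_T` -/
noncomputable abbrev G : X.Modules :=
  (Coh.push f).obj ((Scheme.Modules.pushforward ι).obj (Coh.structureModule T))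

theorem stalk_subsingleton (x : X) (U : X.Opens) (hxU : x ∈ U)
    (hU : ∀ t : T, f (ι t) ∉ U) : Subsingleton ((G ι f).presheaf.stalk x) := by
  refine ⟨fun m m' => ?_⟩
  have key : ∀ m : (G ι f).presheaf.stalk x, m = 0 := by
    intro m
    obtain ⟨W, hxW, t, rfl⟩ := (G ι f).presheaf.exists_germ_eq m
    have hx : x ∈ W ⊓ U := ⟨hxW, hxU⟩
    rw [← TopCat.Presheaf.germ_res_apply (G ι f).presheaf (homOfLE (inf_le_left : W ⊓ U ≤ W)) x hx t]
    have hbot : ι ⁻¹ᵁ (f ⁻¹ᵁ (W ⊓ U)) = ⊥ := by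
      ext z
      simp only [Opens.coe_bot, Set.mem_empty_iff_false, iff_false]
      intro hz
      exact hU z hz.2
    haveI : Subsingleton Γ(T, ι ⁻¹ᵁ (f ⁻¹ᵁ (W ⊓ U))) := by rw [hbot]; infer_instance
    have h0 : (G ι f).presheaf.map (homOfLE (inf_le_left : W ⊓ U ≤ W)).op t = 0 := by
      have : ofS (ι ⁻¹ᵁ (f ⁻¹ᵁ (W ⊓ U)))
          ((G ι f).presheaf.map (homOfLE (inf_le_left : W ⊓ U ≤ W)).op t) =
          ofS (ι ⁻¹ᵁ (f ⁻¹ᵁ (W ⊓ U))) 0 := Subsingleton.elim _ _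
      exact this
    rw [h0, map_zero]
  rw [key m, key m']

end gen

end Part1

section Part2

open Groth.Agent.Lib.Helper23.GenLocus

section gen

variable {T Y X : Scheme.{u}} (ι : T ⟶ Y) (f : Y ⟶ X)

theorem stalk_nontrivial (z : T) : ¬ Subsingleton ((G ι f).presheaf.stalk (f (ι z))) := by
  intro hsub
  have h0 : (G ι f).presheaf.germ ⊤ (f (ι z)) trivial (toS (ι ⁻¹ᵁ (f ⁻¹ᵁ ⊤)) 1) =
      (G ι f).presheaf.germ ⊤ (f (ι z)) trivial 0 := Subsingleton.elim _ _
  obtain ⟨W, hxW, i₁, i₂, hW⟩ := (G ι f).presheaf.germ_eq (U := ⊤) (V := ⊤) (f (ι z)) trivial trivial _ _ h0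
  rw [map_zero] at hW
  have h1 : (1 : Γ(T, ι ⁻¹ᵁ (f ⁻¹ᵁ W))) = 0 := by
    have h2 : ofS (ι ⁻¹ᵁ (f ⁻¹ᵁ W)) ((G ι f).presheaf.map i₁.op (toS (ι ⁻¹ᵁ (f ⁻¹ᵁ ⊤)) 1)) =
        ofS (ι ⁻¹ᵁ (f ⁻¹ᵁ W)) 0 := congrArg _ hW
    have h3 : ofS (ι ⁻¹ᵁ (f ⁻¹ᵁ W)) ((G ι f).presheaf.map i₁.op (toS (ι ⁻¹ᵁ (f ⁻¹ᵁ ⊤)) 1)) =
        T.presheaf.map (homOfLE (show ι ⁻¹ᵁ (f ⁻¹ᵁ W) ≤ ι ⁻¹ᵁ (f ⁻¹ᵁ ⊤) from fun _ _ => trivial)).op 1 := rfl
    rw [h3, map_one] at h2
    exact h2
  haveI : Nonempty (ι ⁻¹ᵁ (f ⁻¹ᵁ W) : T.Opens) := ⟨⟨z, hxW⟩⟩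
  haveI : Nontrivial Γ(T, ι ⁻¹ᵁ (f ⁻¹ᵁ W)) := inferInstance
  exact one_ne_zero h1

theorem smul_eq_zero [IsIntegral T]
    (a : X.presheaf.stalk (f (ι (genericPoint T))))
    (ha : a ∈ IsLocalRing.maximalIdeal (X.presheaf.stalk (f (ι (genericPoint T)))))
    (m : (G ι f).presheaf.stalk (f (ι (genericPoint T)))) : a • m = 0 := by
  obtain ⟨V₁, hV₁, r, rfl⟩ := X.presheaf.exists_germ_eq (x := f (ι (genericPoint T))) a
  obtain ⟨V₂, hV₂, t, rfl⟩ := (G ι f).presheaf.exists_germ_eq m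
  have hV : f (ι (genericPoint T)) ∈ V₁ ⊓ V₂ := ⟨hV₁, hV₂⟩
  rw [← TopCat.Presheaf.germ_res_apply X.presheaf (homOfLE (inf_le_left : V₁ ⊓ V₂ ≤ V₁)) _ hV r,
    ← TopCat.Presheaf.germ_res_apply (G ι f).presheaf (homOfLE (inf_le_right : V₁ ⊓ V₂ ≤ V₂))
      _ hV t] at *
  set r' := X.presheaf.map (homOfLE (inf_le_left : V₁ ⊓ V₂ ≤ V₁)).op r
  set t' := (G ι f).presheaf.map (homOfLE (inf_le_right : V₁ ⊓ V₂ ≤ V₂)).op t
  rw [← Mero.germ_smul (G ι f) (V₁ ⊓ V₂) _ hV r' t']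
  -- the function pulled back to `T` vanishes
  obtain ⟨b, hb⟩ : ∃ b : Γ(T, ι ⁻¹ᵁ (f ⁻¹ᵁ (V₁ ⊓ V₂))),
      b = (ι.app (f ⁻¹ᵁ (V₁ ⊓ V₂))).hom ((f.app (V₁ ⊓ V₂)).hom r') := ⟨_, rfl⟩
  have hb0 : b = 0 := by
    rw [← basicOpen_eq_bot_iff]
    by_contra hne
    have hne' : (T.basicOpen b : Set T).Nonempty := by
      rw [Set.nonempty_iff_ne_empty]
      intro h
      apply hne
      ext z
      simp only [Opens.coe_bot]
      exact h ▸ Iff.rfl
    have hgen : genericPoint T ∈ T.basicOpen b :=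
      ((genericPoint_spec T).mem_open_set_iff (T.basicOpen b).isOpen).2
        (by simpa [Set.inter_comm] using hne')
    have h2 : T.basicOpen b = ι ⁻¹ᵁ (f ⁻¹ᵁ (X.basicOpen r')) := by
      rw [hb, Scheme.preimage_basicOpen, Scheme.preimage_basicOpen]
    rw [h2] at hgen
    have h3 : f (ι (genericPoint T)) ∈ X.basicOpen r' := hgen
    exact ha ((Scheme.mem_basicOpen X r' _ hV).1 h3)
  have hsm : r' • t' = toS (ι ⁻¹ᵁ (f ⁻¹ᵁ (V₁ ⊓ V₂))) (b * ofS (ι ⁻¹ᵁ (f ⁻¹ᵁ (V₁ ⊓ V₂))) t') := by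
    rw [hb]; rfl
  rw [hsm, hb0, zero_mul]
  exact map_zero _

end gen

end Part2

section Part3

open Groth.Agent.Lib.Helper23.GenLocus
open Groth.Agent.Lib.Helper6.EquiSub Groth.Agent.Lib.Helper11RedCl

theorem s0820 {Y X : Scheme.{u}} (f : Y ⟶ X) [IsFinite f]
    [Surjective f] [IsLocallyNoetherian X] (Z : Scheme.{u}) (i : Z ⟶ X) [IsClosedImmersion i] [IsIntegral Z] :
    ∃ F : Y.Modules, Coh.IsCoh F ∧ CohB1.support ((Coh.push f).obj F) = Set.range ⇑i ∧
      ∀ a ∈ IsLocalRing.maximalIdeal (X.presheaf.stalk (i (genericPoint Z))),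
        ∀ m : ↑(((Coh.push f).obj F).presheaf.stalk (i (genericPoint Z))), a • m = 0 := by
  haveI : IsLocallyNoetherian Y := LocallyOfFiniteType.isLocallyNoetherian f
  obtain ⟨y, hy⟩ := f.surjective (i (genericPoint Z))
  obtain ⟨C, hC⟩ : ∃ C : Closeds Y, (C : Set Y) = closure {y} :=
    ⟨⟨closure {y}, isClosed_closure⟩, rfl⟩
  haveI : IrreducibleSpace ↥(Scheme.IdealSheafData.vanishingIdeal C).subscheme :=
    irreducibleSpace_subscheme C y hC.symm
  haveI : IsIntegral (Scheme.IdealSheafData.vanishingIdeal C).subscheme :=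
    isIntegral_of_irreducibleSpace_of_isReduced _
  have hgen : (Scheme.IdealSheafData.vanishingIdeal C).subschemeι
      (genericPoint ↥(Scheme.IdealSheafData.vanishingIdeal C).subscheme) = y :=
    subschemeι_genericPoint C y hC.symm
  set I' : Y.IdealSheafData := Scheme.IdealSheafData.vanishingIdeal C with hI'
  -- the image of the subscheme is the image of `Z`
  have hrange : ∀ x : X, x ∈ Set.range i ↔ ∃ t : I'.subscheme, f (I'.subschemeι t) = x := by
    intro x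
    have h1 : Set.range i = closure {i (genericPoint Z)} := by
      rw [← Set.image_univ, ← (genericPoint_spec Z).def,
        ← i.isClosedEmbedding.isClosedMap.closure_image_eq_of_continuous i.continuous,
        Set.image_singleton]
    have h2 : f '' closure {y} = closure {i (genericPoint Z)} := by
      rw [← f.isClosedMap.closure_image_eq_of_continuous f.continuous, Set.image_singleton, hy]
    have h3 : Set.range I'.subschemeι = closure {y} := by
      rw [hI', Groth.Agent.Lib.Helper11RedCl.range_subschemeι_vanishingIdeal, hC]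
    rw [h1, ← h2, ← h3]
    constructor
    · rintro ⟨_, ⟨t, rfl⟩, rfl⟩
      exact ⟨t, rfl⟩
    · rintro ⟨t, rfl⟩
      exact ⟨_, ⟨t, rfl⟩, rfl⟩
  refine ⟨ClSub.quotMod I', ?_, ?_, ?_⟩
  · exact Groth.Agent.S0019.result I'.subschemeι _
      (Groth.Agent.Lib.R2H1.GenusLe.isCoh_structureModule _)
  · ext x
    constructor
    · intro hx
      by_contra hni
      apply hx
      refine stalk_subsingleton I'.subschemeι f x
        ⟨(Set.range i)ᶜ, i.isClosedEmbedding.isClosed_range.isOpen_compl⟩ hni (fun t ht => ?_)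
      exact ht ((hrange _).2 ⟨t, rfl⟩)
    · intro hx
      obtain ⟨t, rfl⟩ := (hrange x).1 hx
      exact stalk_nontrivial I'.subschemeι f t
  · have hpt : f (I'.subschemeι (genericPoint I'.subscheme)) = i (genericPoint Z) := by
      rw [hgen, hy]
    rw [← hpt]
    intro a ha m
    exact smul_eq_zero I'.subschemeι f a ha m

end Part3

end Groth.Agent.Lib.R2H1.PushSupp
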