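import Mathlib
import Groth.Prelude
import Groth.Agent.Lib.R2H1HypIdeal
import Groth.Agent.Lib.R2H2PnBott3
import Groth.Agent.Lib.R2H2PnBeilinson
import Groth.Agent.Lib.R2H2ClosedPnLin
import Groth.Agent.Lib.Helper23Restr
import Groth.Agent.Lib.Helper23PB
import Groth.Agent.Lib.R2H1QuadG4
import Groth.Agent.Lib.R2H1RegPoint
import Groth.Agent.Lib.R2H4TensorPows
import Groth.Agent.Lib.Helper27TwistGen2
set_option backward.isDefEq.respectTransparency.types false

/-!
S16534: a smooth quintic curve of genus two in P^4 lies in a hyperplane and on a quadric not containing that hyperplane. Tools: global sections of O(d) on P^r as forms (sGL, linear iso), finrank Hom(O,O(d)) = binom(d+r,r), vanishing of pulled back section implies factorization through hypersurface (hypIdeal_le_ker), division of forms (exists_form_of_dvd).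
-/

set_option autoImplicit false
set_option linter.style.haveILetI false
set_option linter.unusedSectionVars false
universe u v

open CategoryTheory CategoryTheory.Limits AlgebraicGeometry TopologicalSpace Opposite

namespace Groth.Agent.Lib.R2H1.QuinticG2

section Part1

open CategoryTheory CategoryTheory.Limits AlgebraicGeometry TopologicalSpace Opposite
open Groth.Agent.Lib.Helper23.SecTw Groth.Agent.Lib.Helper6
open Groth.Agent.Lib.Helper27GrTildeSect Groth.Agent.Helper13Dehom
open Groth.Agent.Lib.Helper27ClosedProj Groth.Agent.Lib.R2H1.HypIdeal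
open Groth.Agent.Lib.Helper27PnSections Groth.Agent.Lib.R2H2.PnBeilinson

variable (r : ℕ) (k : Type u) [Field k]

local notation "𝒫" => CohB1.polyGrading r k
local notation "PJ" => Proj (CohB1.polyGrading r k)

/-- comparison with the prelude's twisting sheaf -/
noncomputable def tIso (d : ℤ) :
    GrTilde.tilde 𝒫 𝒫 d ≅ Twist.twistProjSpace r k d := Iso.refl _

/-- the section of `O(d)` attached to a form, as a `k`-linear map -/
noncomputable def sGL (d : ℕ) : LefPen.Form r k d →ₗ[k]
    (Coh.structureModule PJ ⟶ GrTilde.tilde 𝒫 𝒫 (d : ℤ)) where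
  toFun G := sG G
  map_add' G G' := by
    apply Groth.Agent.Lib.Helper23.SecTw.hom_ext_of_sv
    rw [sv_add, sv_sG, sv_sG, sv_sG]
    exact gsec_add r k d G.2 G'.2
  map_smul' c G := by
    apply Groth.Agent.Lib.Helper23.SecTw.hom_ext_of_sv
    rw [RingHom.id_apply, sv_sG]
    have h1 : sv (c • sG G) ⊤ = (c • sG G).app ⊤ (Groth.Agent.Lib.Helper23.GenLocus.toS ⊤ 1) := val_eq_app _ _ _
    rw [h1, KLin.smul_app_apply]
    have h2 : (sG G).app ⊤ (Groth.Agent.Lib.Helper23.GenLocus.toS ⊤ 1) = gsec 𝒫 d ⊤ G.2 := by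
      rw [← sv_sG G ⊤]
      exact (val_eq_app _ _ _).symm
    rw [h2]
    have h3 := gsec_smul r k d c G.2
    refine h3.trans ?_
    congr 1

theorem sGL_apply (d : ℕ) (G : LefPen.Form r k d) : sGL r k d G = sG G := rfl

theorem sGL_injective (d : ℕ) : Function.Injective (sGL r k d) := by
  rw [injective_iff_map_eq_zero]
  intro G hG
  by_contra hne
  exact sG_ne_zero G hne hG

theorem sGL_surjective (d : ℕ) : Function.Surjective (sGL r k d) := by
  intro q
  obtain ⟨b, hb, hq⟩ := exists_global_poly r k d (sv q ⊤)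
  refine ⟨⟨b, hb⟩, ?_⟩
  apply Groth.Agent.Lib.Helper23.SecTw.hom_ext_of_sv
  rw [sGL_apply, sv_sG, hq]

/-- dimension of the space of global sections of `O(d)` -/
theorem finrank_hom (d : ℕ) :
    Module.finrank k (Coh.structureModule PJ ⟶ GrTilde.tilde 𝒫 𝒫 (d : ℤ)) =
      Nat.choose (d + r) r := by
  have h2 := (Groth.Agent.Lib.R2H2.PnBott.H0_twist k r (d : ℤ) (Or.inr (by positivity))).2
  rw [if_pos (by positivity), Int.toNat_natCast] at h2
  rw [(clsEquiv (k := k) (X := PJ) (GrTilde.tilde 𝒫 𝒫 (d : ℤ))).finrank_eq,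
    Groth.Agent.Lib.R2H2.ClosedPnLin.finrank_HH_of_iso k (tIso r k (d : ℤ)) 0]
  exact h2

/-- dimension of the space of forms -/
theorem finrank_form (d : ℕ) :
    Module.finrank k (LefPen.Form r k d) = Nat.choose (d + r) r := by
  have e1 : LefPen.Form r k d ≃ₗ[k] (Coh.structureModule PJ ⟶ GrTilde.tilde 𝒫 𝒫 (d : ℤ)) :=
    LinearEquiv.ofBijective (sGL r k d) ⟨sGL_injective r k d, sGL_surjective r k d⟩
  rw [e1.finrank_eq, finrank_hom]

end Part1

section Part2

open CategoryTheory CategoryTheory.Limits AlgebraicGeometry TopologicalSpace Opposite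
open Groth.Agent.Lib.Helper23.SecTw Groth.Agent.Lib.Helper6 Groth.Agent.Lib.Helper23.GenLocus
open Groth.Agent.Lib.Helper27GrTildeSect Groth.Agent.Helper13Dehom
open Groth.Agent.Lib.Helper27ClosedProj Groth.Agent.Lib.R2H1.HypIdeal
open Groth.Agent.Lib.Helper23.PB Groth.Agent.Helper13PullbackUnit

variable {r : ℕ} {k : Type u} [Field k]

local notation "𝒫" => CohB1.polyGrading r k
local notation "PJ" => Proj (CohB1.polyGrading r k)

/-- if the pullback of the section `G / 1` of `O(d)` along `i` vanishes, then `i` factors through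
the hypersurface `V₊(G)`: the ideal of the hypersurface lies in the kernel of `i` -/
theorem hypIdeal_le_ker {X : Scheme.{u}} (i : X ⟶ PJ) [QuasiCompact i] {d : ℕ}
    (G : LefPen.Form r k d) (h : (Scheme.Modules.pullback i).map (sG G) = 0) :
    hypI G ≤ i.ker := by
  haveI : (GrTilde.tilde 𝒫 𝒫 (d : ℤ)).IsQuasicoherent :=
    Groth.Agent.Lib.Helper23.SecTw.isQuasicoherent_of_isInvertible _ (isInv (d : ℤ))
  refine Scheme.IdealSheafData.le_of_iSup_eq_top (chartAff (r := r) (k := k)) iSup_chartAff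
    (fun j => ?_)
  have hW : IsAffineOpen (chartO (r := r) (k := k) j) := (chartAff j).2
  have key : (i.app (chartO j)).hom (deh G j) = 0 := by
    have h1 := map_unitSec i (sG G) (le_refl (i ⁻¹ᵁ chartO j)) (toS (chartO j) 1)
    rw [h] at h1
    have h2 : (sG G).app (chartO j) (toS (chartO j) 1) = deh G j • gen d j :=
      (val_eq_app _ _ _).symm.trans (sv_sG_chart G j)
    rw [h2, unitSec_smul] at h1
    have hgen := isGen_unitSec i (GrTilde.tilde 𝒫 𝒫 (d : ℤ)) hW (gen d j) (isGen_gen d j)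
    have h3 := (hgen _ le_rfl).1 (a₁ := i.appLE (chartO j) (i ⁻¹ᵁ chartO j) le_rfl (deh G j))
      (a₂ := 0) (by
        simp only [res_self]
        rw [zero_smul]
        exact h1.symm)
    rw [Scheme.Hom.appLE] at h3
    simpa using h3
  intro x hx
  rw [hypI_ideal_chart] at hx
  obtain ⟨c, hc⟩ := Ideal.mem_span_singleton'.1 hx
  rw [Scheme.Hom.ker_apply, RingHom.mem_ker]
  have hc' : x = (show Γ(PJ, chartO j) from c) * deh G j := hc.symm
  rw [hc']
  change (i.app (chartO j)).hom ((show Γ(PJ, chartO j) from c) * deh G j) = 0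
  rw [map_mul, key, mul_zero]

end Part2

section Part3

open CategoryTheory CategoryTheory.Limits AlgebraicGeometry TopologicalSpace Opposite
open Groth.Agent.Lib.Helper23.SecTw Groth.Agent.Lib.Helper23.PB Groth.Agent.Helper13PullbackUnit
open Groth.Agent.Lib.R2H1.HyperellCanon Groth.Agent.Lib.R2H2.PnBeilinson Groth.Agent.Lib.Helper23.GenLocus
open Groth.Agent.Lib.R2H1.HypIdeal


section Alg

variable {r : ℕ} {k : Type u} [Field k]

local notation "𝒫" => CohB1.polyGrading r k

/-- multiplication by a linear form, from linear forms to quadratic forms -/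
noncomputable def mulForm {a b : ℕ} (l : LefPen.Form r k a) :
    LefPen.Form r k b →ₗ[k] LefPen.Form r k (a + b) where
  toFun m := ⟨l.1 * m.1, SetLike.GradedMul.mul_mem l.2 m.2⟩
  map_add' m m' := Subtype.ext (by simp [mul_add])
  map_smul' c m := Subtype.ext (by simp)

theorem mulForm_coe {a b : ℕ} (l : LefPen.Form r k a) (m : LefPen.Form r k b) :
    (mulForm l m).1 = l.1 * m.1 := rfl

/-- a form of degree `a + b` divisible by a form `l` of degree `a` is `l` times a form of
degree `b` -/
theorem exists_form_of_dvd {a b : ℕ} (l : LefPen.Form r k a) (Q : LefPen.Form r k (a + b))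
    (h : Q.1 ∈ Ideal.span {l.1}) : ∃ m : LefPen.Form r k b, Q = mulForm l m := by
  rw [Ideal.mem_span_singleton'] at h
  obtain ⟨c, hc⟩ := h
  refine ⟨DirectSum.decompose 𝒫 c b, Subtype.ext ?_⟩
  rw [mulForm_coe]
  have h1 : (DirectSum.decompose 𝒫 Q.1 (a + b) : MvPolynomial (Fin (r + 1)) k) = Q.1 :=
    DirectSum.decompose_of_mem_same 𝒫 Q.2
  rw [← h1, ← hc, mul_comm c l.1]
  exact DirectSum.coe_decompose_mul_add_of_left_mem 𝒫 l.2

end Alg

section Main

open Groth.Agent.Lib.Helper27GrTildeSect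


/-- a smooth quintic curve of genus two in `P⁴` lies in a hyperplane and on a quadric not
containing that hyperplane -/
theorem main (k : Type u) [Field k] [IsAlgClosed k] [CharZero k] (C : Scheme.{u})
    [C.Over (Spec (CommRingCat.of k))] [Smooth (C ↘ Spec (CommRingCat.of k))]
    [IsProper (C ↘ Spec (CommRingCat.of k))] [IsIntegral C]
    (hC : topologicalKrullDim C = 1) (hg : Curv2.genus k C = 2)
    (i : C ⟶ CohB1.ProjSpace 4 k) [IsClosedImmersion i]
    (hi : i ≫ CohB1.ProjSpace.toSpec 4 k = C ↘ Spec (CommRingCat.of k))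
    (hdeg : Curv2.deg k C ((Scheme.Modules.pullback i).obj (Twist.twistProjSpace 4 k 1)) 1 = 5) :
    ∃ (l : LefPen.Form 4 k 1) (q : LefPen.Form 4 k 2), l ≠ 0 ∧ q.1 ∉ Ideal.span {l.1} ∧
      ∃ j : C ⟶ (LefPen.hypIdeal l ⊔ LefPen.hypIdeal q).subscheme,
        j ≫ (LefPen.hypIdeal l ⊔ LefPen.hypIdeal q).subschemeι = i := by
  have hX0 := Groth.Agent.Lib.R2H1.RegPoint.finrank_H0_structure_eq_one k C
  haveI : GeometricallyConnected (C ↘ Spec (CommRingCat.of k)) :=
    Groth.Agent.Lib.R2H1.CurveBC.geometricallyConnected_of_h0 k C hX0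
  -- the twisting sheaves in `GrTilde` form
  set T1 : (CohB1.ProjSpace 4 k).Modules :=
    GrTilde.tilde (CohB1.polyGrading 4 k) (CohB1.polyGrading 4 k) ((1 : ℕ) : ℤ) with hT1
  set T2 : (CohB1.ProjSpace 4 k).Modules :=
    GrTilde.tilde (CohB1.polyGrading 4 k) (CohB1.polyGrading 4 k) ((2 : ℕ) : ℤ) with hT2
  have hT1inv : PicF.IsInvertible T1 := isInv (r := 4) (k := k) ((1 : ℕ) : ℤ)
  have hT2inv : PicF.IsInvertible T2 := isInv (r := 4) (k := k) ((2 : ℕ) : ℤ)
  have hL1 : PicF.IsInvertible ((Scheme.Modules.pullback i).obj T1) :=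
    isInvertible_pullback i _ hT1inv
  have hL2 : PicF.IsInvertible ((Scheme.Modules.pullback i).obj T2) :=
    isInvertible_pullback i _ hT2inv
  have hdegL : Curv2.deg k C ((Scheme.Modules.pullback i).obj T1) 1 = ((5 : ℕ) : ℤ) :=
    (Groth.Agent.Lib.R2H1.CurveAmple.deg_congr k C
      ((Scheme.Modules.pullback i).mapIso (tIso 4 k ((1 : ℕ) : ℤ))) 1).trans hdeg
  -- dimensions on the curve
  have h4 := Groth.Agent.Lib.R2H1.DblCoverGeom.finrank_H0_tensorPow k C hC hX0 _ hL1 5 hdegL 1
    (by rw [hg]; norm_num)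
  have h9 := Groth.Agent.Lib.R2H1.DblCoverGeom.finrank_H0_tensorPow k C hC hX0 _ hL1 5 hdegL 2
    (by rw [hg]; norm_num)
  have hX1 : Module.finrank k (Coh.HH C ((Scheme.Modules.pullback i).obj T1) 0) = 4 := by
    rw [← Groth.Agent.Lib.R2H2.ClosedPnLin.finrank_HH_of_iso k
      (Groth.Agent.Lib.R2H4TensorPows.lUnit ((Scheme.Modules.pullback i).obj T1)) 0]
    rw [hg] at h4
    norm_num at h4
    exact_mod_cast h4
  have hcov : ∀ y : Proj (CohB1.polyGrading 4 k), ∃ f : (CohB1.polyGrading 4 k) 1,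
      y ∈ Proj.basicOpen (CohB1.polyGrading 4 k) (f : MvPolynomial (Fin (4 + 1)) k) := by
    intro y
    obtain ⟨j, hj⟩ := Groth.Agent.Lib.Helper27PnSections.exists_X_not_mem 4 k y
    exact ⟨⟨MvPolynomial.X j, Groth.Agent.Lib.Helper27PnChart.X_mem_one 4 k j⟩,
      (ProjectiveSpectrum.mem_basicOpen _ _ y).mpr hj⟩
  obtain ⟨e1⟩ := nonempty_pow_iso (CohB1.polyGrading 4 k) hcov 2
  have e1' : T2 ≅ CohB1.tensorPow T1 2 := e1
  obtain ⟨e2⟩ := nonempty_pullback_tensorPow_iso i T1 hT1inv 2
  have e : (Scheme.Modules.pullback i).obj T2 ≅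
      CohB1.tensorPow ((Scheme.Modules.pullback i).obj T1) 2 :=
    (Scheme.Modules.pullback i).mapIso e1' ≪≫ e2
  have hX2 : Module.finrank k (Coh.HH C ((Scheme.Modules.pullback i).obj T2) 0) = 9 := by
    rw [Groth.Agent.Lib.R2H2.ClosedPnLin.finrank_HH_of_iso k e 0]
    rw [hg] at h9
    norm_num at h9
    exact_mod_cast h9
  -- dimensions on projective space
  have hP1 : Module.finrank k (Coh.structureModule (CohB1.ProjSpace 4 k) ⟶ T1) = 5 := by
    have h1 : Module.finrank k (Coh.structureModule (CohB1.ProjSpace 4 k) ⟶ T1) =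
        Nat.choose (1 + 4) 4 := finrank_hom 4 k 1
    rw [h1]
    decide
  have hP2 : Module.finrank k (Coh.structureModule (CohB1.ProjSpace 4 k) ⟶ T2) = 15 := by
    have h1 : Module.finrank k (Coh.structureModule (CohB1.ProjSpace 4 k) ⟶ T2) =
        Nat.choose (2 + 4) 4 := finrank_hom 4 k 2
    rw [h1]
    decide
  haveI : Module.Finite k (Coh.structureModule (CohB1.ProjSpace 4 k) ⟶ T1) :=
    Module.finite_of_finrank_pos (by rw [hP1]; norm_num)
  haveI : Module.Finite k (Coh.structureModule (CohB1.ProjSpace 4 k) ⟶ T2) :=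
    Module.finite_of_finrank_pos (by rw [hP2]; norm_num)
  have cN1 := Groth.Agent.Lib.R2H1.CurveDegSec.isCoh_of_isInvertible _ hL1
  have cN2 := Groth.Agent.Lib.R2H1.CurveDegSec.isCoh_of_isInvertible _ hL2
  haveI := Groth.Agent.Lib.R2H1.EulerAdd.finite_HH k C _ cN1 0
  haveI := Groth.Agent.Lib.R2H1.EulerAdd.finite_HH k C _ cN2 0
  haveI : Module.Finite k (Coh.structureModule C ⟶ (Scheme.Modules.pullback i).obj T1) :=
    Module.Finite.equiv (clsEquiv (k := k) ((Scheme.Modules.pullback i).obj T1)).symm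
  haveI : Module.Finite k (Coh.structureModule C ⟶ (Scheme.Modules.pullback i).obj T2) :=
    Module.Finite.equiv (clsEquiv (k := k) ((Scheme.Modules.pullback i).obj T2)).symm
  have hC1 : Module.finrank k (Coh.structureModule C ⟶ (Scheme.Modules.pullback i).obj T1) = 4 := by
    rw [(clsEquiv (k := k) ((Scheme.Modules.pullback i).obj T1)).finrank_eq, hX1]
  have hC2 : Module.finrank k (Coh.structureModule C ⟶ (Scheme.Modules.pullback i).obj T2) = 9 := by
    rw [(clsEquiv (k := k) ((Scheme.Modules.pullback i).obj T2)).finrank_eq, hX2]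
  -- the linear form
  have hni : ¬ Function.Injective (pullHom k i hi T1) := by
    intro hinj
    have h1 := LinearMap.finrank_le_finrank_of_injective hinj
    rw [hP1, hC1] at h1
    omega
  obtain ⟨l', hl', hl'0⟩ : ∃ l' : Coh.structureModule (CohB1.ProjSpace 4 k) ⟶ T1,
      pullHom k i hi T1 l' = 0 ∧ l' ≠ 0 := by
    by_contra hcon
    push_neg at hcon
    apply hni
    rw [injective_iff_map_eq_zero]
    exact hcon
  obtain ⟨l, hl⟩ := sGL_surjective 4 k 1 l'
  have hl0 : l ≠ 0 := by
    intro h0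
    apply hl'0
    rw [← hl, h0]
    exact map_zero _
  -- the quadratic form
  have hker : 6 ≤ Module.finrank k (LinearMap.ker (pullHom k i hi T2)) := by
    have h1 := LinearMap.finrank_range_add_finrank_ker (pullHom k i hi T2)
    have h2 : Module.finrank k (LinearMap.range (pullHom k i hi T2)) ≤ 9 := by
      rw [← hC2]
      exact Submodule.finrank_le _
    rw [hP2] at h1
    omega
  set W : Submodule k (Coh.structureModule (CohB1.ProjSpace 4 k) ⟶ T2) :=
    LinearMap.range ((sGL 4 k 2).comp (mulForm (a := 1) (b := 1) l)) with hW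
  have hWle : Module.finrank k W ≤ 5 := by
    haveI : Module.Finite k (LefPen.Form 4 k 1) :=
      Module.finite_of_finrank_pos (by rw [finrank_form 4 k 1]; decide)
    have h1 := LinearMap.finrank_range_le ((sGL 4 k 2).comp (mulForm (a := 1) (b := 1) l))
    have h2 : Module.finrank k (LefPen.Form 4 k 1) = 5 := by
      rw [finrank_form 4 k 1]
      decide
    rw [h2] at h1
    exact h1
  obtain ⟨q', hq'K, hq'W⟩ : ∃ q' : Coh.structureModule (CohB1.ProjSpace 4 k) ⟶ T2,
      q' ∈ LinearMap.ker (pullHom k i hi T2) ∧ q' ∉ W := by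
    by_contra hcon
    push_neg at hcon
    have hle : LinearMap.ker (pullHom k i hi T2) ≤ W := fun x hx => hcon x hx
    have := Submodule.finrank_mono hle
    omega
  obtain ⟨q, hq⟩ := sGL_surjective 4 k 2 q'
  refine ⟨l, q, hl0, ?_, ?_⟩
  · intro hmem
    obtain ⟨m, hm⟩ := exists_form_of_dvd (a := 1) (b := 1) l q hmem
    apply hq'W
    rw [hW, LinearMap.mem_range]
    refine ⟨m, ?_⟩
    show sGL 4 k 2 (mulForm l m) = q'
    rw [← hm, hq]
  · have hzl : (Scheme.Modules.pullback i).map (sG l) = 0 := by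
      have h1 : pullHom k i hi T1 (sGL 4 k 1 l) = 0 := by rw [hl]; exact hl'
      rw [pullHom_apply, sGL_apply] at h1
      exact (Iso.cancel_iso_hom_left (pullbackUnitIso i).symm _ _).1 (h1.trans comp_zero.symm)
    have hzq : (Scheme.Modules.pullback i).map (sG q) = 0 := by
      have h1 : pullHom k i hi T2 (sGL 4 k 2 q) = 0 := by rw [hq]; exact hq'K
      rw [pullHom_apply, sGL_apply] at h1
      exact (Iso.cancel_iso_hom_left (pullbackUnitIso i).symm _ _).1 (h1.trans comp_zero.symm)
    let i' : C ⟶ Proj (CohB1.polyGrading 4 k) := i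
    haveI : QuasiCompact i' := (inferInstance : QuasiCompact i)
    have hle : (LefPen.hypIdeal l ⊔ LefPen.hypIdeal q).subschemeι.ker ≤ i.ker := by
      rw [Scheme.IdealSheafData.ker_subschemeι]
      exact sup_le (hypIdeal_le_ker i' l hzl) (hypIdeal_le_ker i' q hzq)
    exact ⟨IsClosedImmersion.lift _ i hle, IsClosedImmersion.lift_fac _ i hle⟩

end Main

end Part3

end Groth.Agent.Lib.R2H1.QuinticG2
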