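/-
helper1 (round 2): R-equivalence (S18577, S18571, S18572). restrict (restrict a morphism from an open W of Q to the preimage of an open V, with lifting of points), pt_factor, Wc/chart (affine-line chart of P^1_K: affine open W, K -> Gamma(W), coordinate tau, evaluation maps theta_c and K-points pt_c for each c in K), line_aux/line (straight line through two K-points of P^n_Z in a common chart D+(l), l a sum of coordinates), elemLink_of_line, isPullback_P1K, s18577 (any two K-points of an open of P^n_k are directly R-linked), line_aff/aff_link (same for opens of affine space), retract_link/s18571 (retract rational => directly linked on an open), exists_kpoint (k infinite: nonempty open of A^n_k has a k-point), s18572 (retract rational over infinite field => almost R-trivial).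
-/
import Mathlib
import Groth.Prelude
import Groth.Agent.Lib.R2H1Segre

set_option autoImplicit false
set_option linter.style.haveILetI false
set_option linter.unusedSectionVars false
universe u v

namespace Groth.Agent.Lib.R2H1.REq

section Part1

open CategoryTheory CategoryTheory.Limits AlgebraicGeometry TopologicalSpace Opposite MvPolynomial
open Groth.Agent.Helper13Dehom Groth.Agent.Helper13AffMor Groth.Agent.Helper13ProjUP
open Groth.Agent.Lib.R2H1.Segre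

/-- restricting a morphism `h₀ : W ⟶ P` from an open `W` of `Q` to the preimage of an open `V` of `P`,
as an open of `Q`, together with lifting of points. -/
theorem restrict {Q P : Scheme.{u}} (W : Q.Opens) (h₀ : (W : Scheme.{u}) ⟶ P) (V : P.Opens) :
    ∃ (U : Q.Opens) (h : (U : Scheme.{u}) ⟶ (V : Scheme.{u}))
      (j : (U : Scheme.{u}) ⟶ (W : Scheme.{u})),
      j ≫ W.ι = U.ι ∧ h ≫ V.ι = j ≫ h₀ ∧
      ∀ (T : Scheme.{u}) (a₀ : T ⟶ (W : Scheme.{u})) (A : T ⟶ (V : Scheme.{u})),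
        a₀ ≫ h₀ = A ≫ V.ι → ∃ a : T ⟶ (U : Scheme.{u}), a ≫ j = a₀ ∧ a ≫ h = A := by
  have hUW : W.ι ''ᵁ (h₀ ⁻¹ᵁ V) ≤ W := W.ι_image_le _
  have hj : Q.homOfLE hUW ≫ W.ι = (W.ι ''ᵁ (h₀ ⁻¹ᵁ V)).ι := Q.homOfLE_ι hUW
  have hmem : ∀ x : ((W.ι ''ᵁ (h₀ ⁻¹ᵁ V) : Q.Opens) : Scheme.{u}),
      h₀ (Q.homOfLE hUW x) ∈ V := by
    intro x
    obtain ⟨w, hw, hwx⟩ : ∃ w, w ∈ (h₀ ⁻¹ᵁ V) ∧ W.ι w = x.1 := x.2
    have h1 : W.ι (Q.homOfLE hUW x) = x.1 := by
      have := congrArg (fun φ : ((W.ι ''ᵁ (h₀ ⁻¹ᵁ V) : Q.Opens) : Scheme.{u}) ⟶ Q => φ x) hj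
      simpa using this
    have h2 : w = Q.homOfLE hUW x := W.ι.isOpenEmbedding.injective (hwx.trans h1.symm)
    rw [← h2]
    exact hw
  have hr : Set.range (Q.homOfLE hUW ≫ h₀) ⊆ Set.range V.ι := by
    rintro _ ⟨x, rfl⟩
    exact ⟨⟨_, hmem x⟩, rfl⟩
  refine ⟨W.ι ''ᵁ (h₀ ⁻¹ᵁ V), IsOpenImmersion.lift V.ι (Q.homOfLE hUW ≫ h₀) hr, Q.homOfLE hUW, hj,
    IsOpenImmersion.lift_fac _ _ _, ?_⟩
  intro T a₀ A hA
  have hr2 : Set.range (a₀ ≫ W.ι) ⊆ Set.range (W.ι ''ᵁ (h₀ ⁻¹ᵁ V)).ι := by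
    rintro _ ⟨t, rfl⟩
    have h3 : h₀ (a₀ t) ∈ V := by
      have := congrArg (fun φ : T ⟶ P => φ t) hA
      have h4 : h₀ (a₀ t) = V.ι (A t) := by simpa using this
      rw [h4]
      exact (A t).2
    exact ⟨⟨W.ι (a₀ t), ⟨a₀ t, h3, rfl⟩⟩, rfl⟩
  refine ⟨IsOpenImmersion.lift (W.ι ''ᵁ (h₀ ⁻¹ᵁ V)).ι (a₀ ≫ W.ι) hr2, ?_, ?_⟩
  · rw [← cancel_mono W.ι, Category.assoc, hj, IsOpenImmersion.lift_fac]
  · rw [← cancel_mono V.ι, Category.assoc, IsOpenImmersion.lift_fac, ← Category.assoc]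
    have : IsOpenImmersion.lift (W.ι ''ᵁ (h₀ ⁻¹ᵁ V)).ι (a₀ ≫ W.ι) hr2 ≫ Q.homOfLE hUW = a₀ := by
      rw [← cancel_mono W.ι, Category.assoc, hj, IsOpenImmersion.lift_fac]
    rw [this, hA]

/-- a morphism from an affine scheme landing in an affine open factors through it -/
theorem pt_factor {Z : Scheme.{u}} {D : Z.Opens} (hD : IsAffineOpen D) {R : CommRingCat.{u}}
    (A₁ : Spec R ⟶ Z) (h : ∀ x, A₁ x ∈ D) :
    ∃ φ : Γ(Z, D) ⟶ R, A₁ = Spec.map φ ≫ hD.fromSpec := by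
  have hle : (⊤ : (Spec R).Opens) ≤ A₁ ⁻¹ᵁ D := fun x _ => h x
  refine ⟨A₁.appLE D ⊤ hle ≫ (Scheme.ΓSpecIso R).hom, ?_⟩
  rw [Spec.map_comp, Category.assoc,
    IsAffineOpen.SpecMap_appLE_fromSpec A₁ hD (isAffineOpen_top _) hle,
    IsAffineOpen.fromSpec_top, Scheme.isoSpec_Spec_inv, ← Category.assoc, ← Spec.map_comp,
    Iso.inv_hom_id, Spec.map_id, Category.id_comp]

section Chart

variable {K : Type u} [CommRing K] {Q : Scheme.{u}}
  {p : Q ⟶ Proj (CohB1.polyGrading 1 ZZ.{u})} {q : Q ⟶ Spec (CommRingCat.of K)}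
  {a : Proj (CohB1.polyGrading 1 ZZ.{u}) ⟶ Spec (CommRingCat.of ZZ.{u})}
  {b : Spec (CommRingCat.of K) ⟶ Spec (CommRingCat.of ZZ.{u})}

/-- the affine line chart `T₀ ≠ 0` of `P¹_K` -/
noncomputable def Wc (p : Q ⟶ Proj (CohB1.polyGrading 1 ZZ.{u})) (q : Q ⟶ Spec (CommRingCat.of K)) :
    Q.Opens :=
  p ⁻¹ᵁ Dx 1 0 ⊓ q ⁻¹ᵁ ⊤

theorem Wc_le_p (p : Q ⟶ Proj (CohB1.polyGrading 1 ZZ.{u})) (q : Q ⟶ Spec (CommRingCat.of K)) :
    Wc p q ≤ p ⁻¹ᵁ Dx 1 0 := inf_le_left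

theorem Wc_le_q (p : Q ⟶ Proj (CohB1.polyGrading 1 ZZ.{u})) (q : Q ⟶ Spec (CommRingCat.of K)) :
    Wc p q ≤ q ⁻¹ᵁ ⊤ := inf_le_right

theorem le_a (a : Proj (CohB1.polyGrading 1 ZZ.{u}) ⟶ Spec (CommRingCat.of ZZ.{u})) :
    Dx.{u} 1 0 ≤ a ⁻¹ᵁ (⊤ : (Spec (CommRingCat.of ZZ.{u})).Opens) :=
  fun x _ => show a.base x ∈ (⊤ : (Spec (CommRingCat.of ZZ.{u})).Opens) from Opens.mem_top _

theorem le_b (b : Spec (CommRingCat.of K) ⟶ Spec (CommRingCat.of ZZ.{u})) :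
    (⊤ : (Spec (CommRingCat.of K)).Opens) ≤ b ⁻¹ᵁ (⊤ : (Spec (CommRingCat.of ZZ.{u})).Opens) :=
  fun x _ => show b.base x ∈ (⊤ : (Spec (CommRingCat.of ZZ.{u})).Opens) from Opens.mem_top _

theorem isAffineOpen_Wc (H : IsPullback p q a b) : IsAffineOpen (Wc p q) :=
  Groth.Agent.Lib.R2H3.ProdChart.isAffineOpen_inf H (isAffineOpen_top _)
    (isAffineOpen_basicOpen (hX 1 0)) (isAffineOpen_top _) (le_a a) (le_b b)

theorem isPushout_Wc (H : IsPullback p q a b) :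
    IsPushout (a.appLE ⊤ (Dx 1 0) (le_a a)) (b.appLE ⊤ ⊤ (le_b b))
      (p.appLE (Dx 1 0) (Wc p q) (Wc_le_p p q)) (q.appLE ⊤ (Wc p q) (Wc_le_q p q)) :=
  Groth.Agent.Lib.R2H3.ProdChart.isPushout_appLE H (isAffineOpen_top _)
    (isAffineOpen_basicOpen (hX 1 0)) (isAffineOpen_top _) (le_a a) (le_b b)

/-- the affine-line chart of `P¹_K`: an affine open `W` with `K ⟶ Γ(W)`, a coordinate `τ`, and for each
`c : K` an evaluation `θ : Γ(W) ⟶ K` at `τ = c` with the corresponding `K`-rational point. -/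
theorem chart (H : IsPullback p q a b) :
    ∃ (W : Q.Opens) (_ : IsAffineOpen W) (κ : CommRingCat.of K ⟶ Γ(Q, W)) (τ : Γ(Q, W)),
      W.toSpecΓ ≫ Spec.map κ = W.ι ≫ q ∧
      ∀ c : K, ∃ (θ : Γ(Q, W) ⟶ CommRingCat.of K)
        (pt : Spec (CommRingCat.of K) ⟶ (W : Scheme.{u})),
        κ ≫ θ = 𝟙 _ ∧ θ.hom τ = c ∧ pt ≫ W.ι ≫ q = 𝟙 _ ∧ pt ≫ W.toSpecΓ = Spec.map θ := by
  classical
  have hW := isAffineOpen_Wc H
  have hPO := isPushout_Wc H
  have e2 := IsAffineOpen.SpecMap_appLE_fromSpec q (isAffineOpen_top (Spec (CommRingCat.of K))) hW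
    (Wc_le_q p q)
  have e1 : hW.isoSpec.inv ≫ (Wc p q).ι = hW.fromSpec := rfl
  refine ⟨Wc p q, hW, (Scheme.ΓSpecIso (CommRingCat.of K)).inv ≫ q.appLE ⊤ (Wc p q) (Wc_le_q p q),
    (p.appLE (Dx 1 0) (Wc p q) (Wc_le_p p q)).hom (dehom (hX 1 0) (X 1)), ?_, fun c => ?_⟩
  · rw [← cancel_epi hW.isoSpec.inv, ← hW.isoSpec_hom, Iso.inv_hom_id_assoc, ← Category.assoc, e1,
      ← e2, IsAffineOpen.fromSpec_top, Scheme.isoSpec_Spec_inv, ← Spec.map_comp]
  · let c0 : ZZ.{u} →+* K := (Int.castRingHom K).comp ULift.ringEquiv.toRingHom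
    let ψ : MvPolynomial (Fin (1 + 1)) ZZ.{u} →+* K :=
      MvPolynomial.eval₂Hom c0 (fun i => if i = 0 then (1 : K) else c)
    have hψ : ψ (X 0) = 1 := by simp [ψ]
    have hψ1 : ψ (X 1) = c := by simp [ψ]
    obtain ⟨ρ, hρ⟩ := exists_dehomLift (hX 1 0) ψ hψ
    have hcompat : a.appLE ⊤ (Dx 1 0) (le_a a) ≫ CommRingCat.ofHom ρ =
        b.appLE ⊤ ⊤ (le_b b) ≫ (Scheme.ΓSpecIso (CommRingCat.of K)).hom := by
      rw [← cancel_epi (Scheme.ΓSpecIso (CommRingCat.of ZZ.{u})).inv]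
      ext1
      exact ringHom_unique _ _
    have h1 := hPO.inl_desc (CommRingCat.ofHom ρ) (Scheme.ΓSpecIso (CommRingCat.of K)).hom hcompat
    have h2 := hPO.inr_desc (CommRingCat.ofHom ρ) (Scheme.ΓSpecIso (CommRingCat.of K)).hom hcompat
    refine ⟨hPO.desc (CommRingCat.ofHom ρ) (Scheme.ΓSpecIso (CommRingCat.of K)).hom hcompat,
      Spec.map (hPO.desc (CommRingCat.ofHom ρ) (Scheme.ΓSpecIso (CommRingCat.of K)).hom hcompat) ≫
        hW.isoSpec.inv, ?_, ?_, ?_, ?_⟩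
    · rw [Category.assoc, h2, Iso.inv_hom_id]
    · have h3 := congrArg (fun φ => φ.hom (dehom (hX 1 0) (X 1))) h1
      refine Eq.trans h3 ?_
      change ρ (dehom (hX 1 0) (X 1)) = c
      rw [hρ, hψ1]
    · rw [Category.assoc, ← Category.assoc hW.isoSpec.inv, e1, ← e2, IsAffineOpen.fromSpec_top,
        Scheme.isoSpec_Spec_inv, ← Category.assoc, ← Spec.map_comp, h2, ← Spec.map_comp,
        Iso.inv_hom_id, Spec.map_id]
    · rw [Category.assoc, ← hW.isoSpec_hom, Iso.inv_hom_id, Category.comp_id]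

end Chart

end Part1

section Part2

open CategoryTheory CategoryTheory.Limits AlgebraicGeometry TopologicalSpace Opposite MvPolynomial
open Groth.Agent.Helper13Dehom Groth.Agent.Helper13AffMor Groth.Agent.Helper13ProjUP
open Groth.Agent.Lib.R2H1.Segre

section LineAux

variable {K : Type u} [CommRing K] {Q : Scheme.{u}}
  {p : Q ⟶ Proj (CohB1.polyGrading 1 ZZ.{u})} {q : Q ⟶ Spec (CommRingCat.of K)}
  {a : Proj (CohB1.polyGrading 1 ZZ.{u}) ⟶ Spec (CommRingCat.of ZZ.{u})}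
  {b : Spec (CommRingCat.of K) ⟶ Spec (CommRingCat.of ZZ.{u})}

/-- the "straight line" through two `K`-points of `P^n_ℤ` lying in a common chart `D₊(ℓ)`,
`ℓ` a sum of coordinates, as a morphism from the affine-line chart of `P¹_K`. -/
theorem line_aux (H : IsPullback p q a b) (n : ℕ) (s : Finset (Fin (n + 1)))
    (ℓ : MvPolynomial (Fin (n + 1)) ZZ.{u}) (hs : ℓ = ∑ m ∈ s, X m)
    (A₁ B₁ : Spec (CommRingCat.of K) ⟶ Proj (CohB1.polyGrading n ZZ.{u}))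
    (hA : ∀ x, A₁ x ∈ Proj.basicOpen (CohB1.polyGrading n ZZ.{u}) ℓ)
    (hB : ∀ x, B₁ x ∈ Proj.basicOpen (CohB1.polyGrading n ZZ.{u}) ℓ) :
    ∃ (W : Q.Opens) (h₁ : (W : Scheme.{u}) ⟶ Proj (CohB1.polyGrading n ZZ.{u}))
      (a₀ b₀ : Spec (CommRingCat.of K) ⟶ (W : Scheme.{u})),
      a₀ ≫ W.ι ≫ q = 𝟙 _ ∧ b₀ ≫ W.ι ≫ q = 𝟙 _ ∧ a₀ ≫ h₁ = A₁ ∧ b₀ ≫ h₁ = B₁ := by
  classical
  have hℓ : ℓ ∈ CohB1.polyGrading n ZZ.{u} 1 := by
    rw [hs]; exact Submodule.sum_mem _ (fun m _ => hX n m)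
  have hD := isAffineOpen_basicOpen hℓ
  obtain ⟨A', hA'⟩ := pt_factor hD A₁ hA
  obtain ⟨B', hB'⟩ := pt_factor hD B₁ hB
  obtain ⟨W, hW, κ, τ, -, hch⟩ := chart H
  obtain ⟨θ0, a₀, h01, h02, h03, h04⟩ := hch 0
  obtain ⟨θ1, b₀, h11, h12, h13, h14⟩ := hch 1
  obtain ⟨α, hαdef⟩ : ∃ α : Fin (n + 1) → K, ∀ m, α m = A'.hom (dehom hℓ (X m)) :=
    ⟨_, fun _ => rfl⟩
  obtain ⟨β, hβdef⟩ : ∃ β : Fin (n + 1) → K, ∀ m, β m = B'.hom (dehom hℓ (X m)) :=
    ⟨_, fun _ => rfl⟩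
  have hdl : (1 : Γ(Proj (CohB1.polyGrading n ZZ.{u}), Proj.basicOpen (CohB1.polyGrading n ZZ.{u}) ℓ)) =
      ∑ m ∈ s, dehom hℓ (X m) := by
    rw [← map_sum, ← hs, dehom_self]
  have hα : ∑ m ∈ s, α m = 1 := by
    simp only [hαdef]
    rw [← map_sum, ← hdl, map_one]
  have hβ : ∑ m ∈ s, β m = 1 := by
    simp only [hβdef]
    rw [← map_sum, ← hdl, map_one]
  obtain ⟨ψ, hψX⟩ : ∃ ψ : MvPolynomial (Fin (n + 1)) ZZ.{u} →+* Γ(Q, W),
      ∀ m, ψ (X m) = κ.hom (α m) + τ * κ.hom (β m - α m) :=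
    ⟨MvPolynomial.eval₂Hom ((Int.castRingHom Γ(Q, W)).comp ULift.ringEquiv.toRingHom)
      (fun m => κ.hom (α m) + τ * κ.hom (β m - α m)), fun m => by simp⟩
  have hψ : ψ ℓ = 1 := by
    rw [hs, map_sum]
    simp only [hψX]
    rw [Finset.sum_add_distrib, ← Finset.mul_sum, ← map_sum, ← map_sum, Finset.sum_sub_distrib, hα,
      hβ, sub_self, map_zero, mul_zero, add_zero, map_one]
  obtain ⟨φ, hφ⟩ := exists_dehomLift hℓ ψ hψ
  have key : ∀ (θ : Γ(Q, W) ⟶ CommRingCat.of K) (c : K)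
      (γ : Γ(Proj (CohB1.polyGrading n ZZ.{u}), Proj.basicOpen (CohB1.polyGrading n ZZ.{u}) ℓ) ⟶
        CommRingCat.of K), κ ≫ θ = 𝟙 _ → θ.hom τ = c →
      (∀ m, γ.hom (dehom hℓ (X m)) = α m + c * (β m - α m)) → CommRingCat.ofHom φ ≫ θ = γ := by
    intro θ c γ hκ hτ hγ
    have hk : ∀ x : K, θ.hom (κ.hom x) = x := fun x => by
      have := congrArg (fun f => f.hom x) hκ
      exact this
    ext1
    refine RingHom.ext fun r => ?_
    obtain ⟨j, z, _, rfl⟩ := exists_dehom_eq hℓ r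
    have hcomp : ((CommRingCat.ofHom φ ≫ θ).hom.comp (dehom hℓ)) = γ.hom.comp (dehom hℓ) := by
      apply hom_ext_X
      intro m
      change θ.hom (φ (dehom hℓ (X m))) = γ.hom (dehom hℓ (X m))
      rw [hφ, hψX, hγ, map_add, map_mul, hτ, hk, hk]
    exact RingHom.congr_fun hcomp z
  have hpt : ∀ (θ : Γ(Q, W) ⟶ CommRingCat.of K) (pt : Spec (CommRingCat.of K) ⟶ (W : Scheme.{u})),
      pt ≫ W.toSpecΓ = Spec.map θ →
      pt ≫ toAff hD (CommRingCat.ofHom φ) = Spec.map (CommRingCat.ofHom φ ≫ θ) ≫ hD.fromSpec := by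
    intro θ pt h
    unfold toAff
    rw [← Category.assoc, h, ← Category.assoc, ← Spec.map_comp]
    rfl
  refine ⟨W, toAff hD (CommRingCat.ofHom φ), a₀, b₀, h03, h13, ?_, ?_⟩
  · rw [hpt θ0 a₀ h04, key θ0 0 A' h01 h02 (fun m => by rw [zero_mul, add_zero, hαdef]), ← hA']
  · rw [hpt θ1 b₀ h14, key θ1 1 B' h11 h12 (fun m => by rw [one_mul, add_sub_cancel, hβdef]), ← hB']

end LineAux

theorem mem_add {n : ℕ} (y : Proj (CohB1.polyGrading n ZZ.{u})) (i j : Fin (n + 1))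
    (hi : y ∈ Dx n i) (hj : y ∉ Dx n j) :
    y ∈ Proj.basicOpen (CohB1.polyGrading n ZZ.{u}) (X i + X j) := by
  rw [Proj.mem_basicOpen] at hi hj ⊢
  rw [not_not] at hj
  intro h
  apply hi
  have := Ideal.sub_mem y.asHomogeneousIdeal.toIdeal
    (show _ ∈ y.asHomogeneousIdeal.toIdeal from h) (show _ ∈ y.asHomogeneousIdeal.toIdeal from hj)
  rw [add_sub_cancel_right] at this
  exact this

section Line

variable {K : Type u} [Field K] {Q : Scheme.{u}}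
  {p : Q ⟶ Proj (CohB1.polyGrading 1 ZZ.{u})} {q : Q ⟶ Spec (CommRingCat.of K)}
  {a : Proj (CohB1.polyGrading 1 ZZ.{u}) ⟶ Spec (CommRingCat.of ZZ.{u})}
  {b : Spec (CommRingCat.of K) ⟶ Spec (CommRingCat.of ZZ.{u})}

theorem line (H : IsPullback p q a b) (n : ℕ)
    (A₁ B₁ : Spec (CommRingCat.of K) ⟶ Proj (CohB1.polyGrading n ZZ.{u})) :
    ∃ (W : Q.Opens) (h₁ : (W : Scheme.{u}) ⟶ Proj (CohB1.polyGrading n ZZ.{u}))
      (a₀ b₀ : Spec (CommRingCat.of K) ⟶ (W : Scheme.{u})),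
      a₀ ≫ W.ι ≫ q = 𝟙 _ ∧ b₀ ≫ W.ι ≫ q = 𝟙 _ ∧ a₀ ≫ h₁ = A₁ ∧ b₀ ≫ h₁ = B₁ := by
  classical
  have hsub : ∀ x y : Spec (CommRingCat.of K), x = y := fun x y =>
    (inferInstance : Subsingleton (PrimeSpectrum K)).elim x y
  let x₀ : Spec (CommRingCat.of K) := (default : PrimeSpectrum K)
  have hcov := Groth.Agent.Lib.Helper27PnChart.iSup_basicOpen_X n ZZ.{u}
  have hex : ∀ y : Proj (CohB1.polyGrading n ZZ.{u}), ∃ i, y ∈ Dx n i := by
    intro y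
    have : y ∈ (⊤ : (Proj (CohB1.polyGrading n ZZ.{u})).Opens) := Opens.mem_top _
    rw [← hcov] at this
    exact Opens.mem_iSup.1 this
  obtain ⟨i, hi⟩ := hex (A₁ x₀)
  obtain ⟨j, hj⟩ := hex (B₁ x₀)
  by_cases h1 : A₁ x₀ ∈ Dx n j
  · refine line_aux H n {j} (X j) (Finset.sum_singleton _ _).symm A₁ B₁ (fun x => ?_) (fun x => ?_)
    · rw [hsub x x₀]; exact h1
    · rw [hsub x x₀]; exact hj
  · by_cases h2 : B₁ x₀ ∈ Dx n i
    · refine line_aux H n {i} (X i) (Finset.sum_singleton _ _).symm A₁ B₁ (fun x => ?_) (fun x => ?_)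
      · rw [hsub x x₀]; exact hi
      · rw [hsub x x₀]; exact h2
    · have hij : i ≠ j := fun e => h1 (e ▸ hi)
      refine line_aux H n {i, j} (X i + X j) (Finset.sum_pair hij).symm A₁ B₁ (fun x => ?_)
        (fun x => ?_)
      · rw [hsub x x₀]; exact mem_add _ i j hi h1
      · rw [hsub x x₀, add_comm (X i : MvPolynomial (Fin (n + 1)) ZZ.{u}) (X j)]
        exact mem_add _ j i hj h2

end Line

theorem elemLink_of_line {k : Type u} [Field k] {K : Type u} [Field K] [Algebra k K] {P : Scheme.{u}}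
    (g : P ⟶ Spec (CommRingCat.of k)) (V : P.Opens) (A B : REq.Pts (V.ι ≫ g) K)
    (W : (REq.P1K K).Opens) (h₀ : (W : Scheme.{u}) ⟶ P)
    (a₀ b₀ : Spec (CommRingCat.of K) ⟶ (W : Scheme.{u}))
    (hg : h₀ ≫ g = W.ι ≫ REq.P1K.toSpec K ≫ REq.specMap k K)
    (ha : a₀ ≫ W.ι ≫ REq.P1K.toSpec K = 𝟙 _) (hb : b₀ ≫ W.ι ≫ REq.P1K.toSpec K = 𝟙 _)
    (haA : a₀ ≫ h₀ = A.1 ≫ V.ι) (hbB : b₀ ≫ h₀ = B.1 ≫ V.ι) :
    REq.ElemLink (V.ι ≫ g) K A B := by
  obtain ⟨U, h, j, hj, hh, hlift⟩ := restrict W h₀ V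
  obtain ⟨a, haj, hah⟩ := hlift _ a₀ A.1 haA
  obtain ⟨b, hbj, hbh⟩ := hlift _ b₀ B.1 hbB
  refine ⟨U, h, a, b, ?_, ?_, ?_, hah, hbh⟩
  · rw [← Category.assoc, hh, Category.assoc, hg, ← hj, Category.assoc]
  · rw [← hj, Category.assoc, reassoc_of% haj]; exact ha
  · rw [← hj, Category.assoc, reassoc_of% hbj]; exact hb

theorem isPullback_P1K (K : Type u) [Field K] : IsPullback
    (pullback.fst (CohB1.ProjSpace.toSpec 1 ZZ.{u})
      (specULiftZIsTerminal.from (Spec (CommRingCat.of K))) :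
        REq.P1K K ⟶ Proj (CohB1.polyGrading 1 ZZ.{u}))
    (REq.P1K.toSpec K)
    (CohB1.ProjSpace.toSpec 1 ZZ.{u} :
      Proj (CohB1.polyGrading 1 ZZ.{u}) ⟶ Spec (CommRingCat.of ZZ.{u}))
    (specULiftZIsTerminal.from (Spec (CommRingCat.of K))) :=
  IsPullback.of_hasPullback _ _

theorem s18577 (k : Type u) [Field k] (n : ℕ)
    (V : (CohB1.ProjSpaceOver n (Spec (CommRingCat.of k))).Opens) (K : Type u) [Field K] [Algebra k K]
    (A B : REq.Pts (V.ι ≫ CohB1.ProjSpaceOver.toBase n (Spec (CommRingCat.of k))) K) :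
    REq.ElemLink (V.ι ≫ CohB1.ProjSpaceOver.toBase n (Spec (CommRingCat.of k))) K A B := by
  have H := isPullback_P1K K
  let fstP : CohB1.ProjSpaceOver n (Spec (CommRingCat.of k)) ⟶ Proj (CohB1.polyGrading n ZZ.{u}) :=
    pullback.fst (CohB1.ProjSpace.toSpec n ZZ.{u}) (specULiftZIsTerminal.from (Spec (CommRingCat.of k)))
  obtain ⟨W, h₁, a₀, b₀, ha, hb, haA, hbB⟩ := line H n (A.1 ≫ V.ι ≫ fstP) (B.1 ≫ V.ι ≫ fstP)
  let h₀ : (W : Scheme.{u}) ⟶ CohB1.ProjSpaceOver n (Spec (CommRingCat.of k)) :=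
    pullback.lift (h₁ : (W : Scheme.{u}) ⟶ CohB1.ProjSpace n ZZ.{u})
      (W.ι ≫ REq.P1K.toSpec K ≫ REq.specMap k K) (specULiftZIsTerminal.hom_ext _ _)
  have hfst : h₀ ≫ fstP = h₁ := pullback.lift_fst _ _ _
  have hsnd : h₀ ≫ CohB1.ProjSpaceOver.toBase n (Spec (CommRingCat.of k)) =
      W.ι ≫ REq.P1K.toSpec K ≫ REq.specMap k K := pullback.lift_snd _ _ _
  have hpts : ∀ (a₀ : Spec (CommRingCat.of K) ⟶ (W : Scheme.{u}))
      (A : REq.Pts (V.ι ≫ CohB1.ProjSpaceOver.toBase n (Spec (CommRingCat.of k))) K),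
      a₀ ≫ W.ι ≫ REq.P1K.toSpec K = 𝟙 _ → a₀ ≫ h₁ = A.1 ≫ V.ι ≫ fstP → a₀ ≫ h₀ = A.1 ≫ V.ι := by
    intro a₀ A h1 h2
    apply pullback.hom_ext
    · exact (Category.assoc a₀ h₀ _).trans
        (((congrArg (a₀ ≫ ·) hfst).trans h2).trans (Category.assoc A.1 V.ι _).symm)
    · refine (Category.assoc a₀ h₀ _).trans ?_
      refine (congrArg (a₀ ≫ ·) hsnd).trans ?_
      rw [reassoc_of% h1]
      exact A.2.symm.trans (Category.assoc A.1 V.ι _).symm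
  exact elemLink_of_line _ V A B W h₀ a₀ b₀ hsnd ha hb (hpts a₀ A ha haA) (hpts b₀ B hb hbB)

end Part2

section Part3

open CategoryTheory CategoryTheory.Limits AlgebraicGeometry TopologicalSpace Opposite MvPolynomial
open Groth.Agent.Helper13Dehom Groth.Agent.Helper13AffMor Groth.Agent.Helper13ProjUP
open Groth.Agent.Lib.R2H1.Segre

section LineAff

variable {K : Type u} [CommRing K] {Q : Scheme.{u}}
  {p : Q ⟶ Proj (CohB1.polyGrading 1 ZZ.{u})} {q : Q ⟶ Spec (CommRingCat.of K)}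
  {a : Proj (CohB1.polyGrading 1 ZZ.{u}) ⟶ Spec (CommRingCat.of ZZ.{u})}
  {b : Spec (CommRingCat.of K) ⟶ Spec (CommRingCat.of ZZ.{u})}

/-- the straight line through two `K`-points of affine `n`-space over `k`, from the affine-line chart
of `P¹_K`. -/
theorem line_aff (H : IsPullback p q a b) {k : Type u} [CommRing k] [Algebra k K] (n : ℕ)
    (A₁ B₁ : Spec (CommRingCat.of K) ⟶ Spec (CommRingCat.of (MvPolynomial (Fin n) k)))
    (hA : A₁ ≫ Spec.map (CommRingCat.ofHom (algebraMap k (MvPolynomial (Fin n) k))) =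
      Spec.map (CommRingCat.ofHom (algebraMap k K)))
    (hB : B₁ ≫ Spec.map (CommRingCat.ofHom (algebraMap k (MvPolynomial (Fin n) k))) =
      Spec.map (CommRingCat.ofHom (algebraMap k K))) :
    ∃ (W : Q.Opens) (h₁ : (W : Scheme.{u}) ⟶ Spec (CommRingCat.of (MvPolynomial (Fin n) k)))
      (a₀ b₀ : Spec (CommRingCat.of K) ⟶ (W : Scheme.{u})),
      a₀ ≫ W.ι ≫ q = 𝟙 _ ∧ b₀ ≫ W.ι ≫ q = 𝟙 _ ∧ a₀ ≫ h₁ = A₁ ∧ b₀ ≫ h₁ = B₁ ∧
      h₁ ≫ Spec.map (CommRingCat.ofHom (algebraMap k (MvPolynomial (Fin n) k))) =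
        W.ι ≫ q ≫ Spec.map (CommRingCat.ofHom (algebraMap k K)) := by
  classical
  obtain ⟨W, hW, κ, τ, hκq, hch⟩ := chart H
  obtain ⟨θ0, a₀, h01, h02, h03, h04⟩ := hch 0
  obtain ⟨θ1, b₀, h11, h12, h13, h14⟩ := hch 1
  obtain ⟨A', hA'⟩ : ∃ A' : CommRingCat.of (MvPolynomial (Fin n) k) ⟶ CommRingCat.of K,
      Spec.map A' = A₁ := ⟨Spec.preimage A₁, Spec.map_preimage A₁⟩
  obtain ⟨B', hB'⟩ : ∃ B' : CommRingCat.of (MvPolynomial (Fin n) k) ⟶ CommRingCat.of K,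
      Spec.map B' = B₁ := ⟨Spec.preimage B₁, Spec.map_preimage B₁⟩
  have hk : ∀ (γ : CommRingCat.of (MvPolynomial (Fin n) k) ⟶ CommRingCat.of K),
      Spec.map γ ≫ Spec.map (CommRingCat.ofHom (algebraMap k (MvPolynomial (Fin n) k))) =
        Spec.map (CommRingCat.ofHom (algebraMap k K)) → ∀ r : k, γ.hom (C r) = algebraMap k K r := by
    intro γ h r
    have h1 : CommRingCat.ofHom (algebraMap k (MvPolynomial (Fin n) k)) ≫ γ =
        CommRingCat.ofHom (algebraMap k K) := by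
      apply Spec.map_injective
      rw [Spec.map_comp, h]
    exact congrArg (fun f => f.hom r) h1
  have hAk := hk A' (by rw [hA']; exact hA)
  have hBk := hk B' (by rw [hB']; exact hB)
  obtain ⟨φ, hφC, hφX⟩ : ∃ φ : MvPolynomial (Fin n) k →+* Γ(Q, W),
      (∀ r, φ (C r) = κ.hom (algebraMap k K r)) ∧
      ∀ m, φ (X m) = κ.hom (A'.hom (X m)) + τ * κ.hom (B'.hom (X m) - A'.hom (X m)) :=
    ⟨MvPolynomial.eval₂Hom (κ.hom.comp (algebraMap k K))
      (fun m => κ.hom (A'.hom (X m)) + τ * κ.hom (B'.hom (X m) - A'.hom (X m))),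
      fun r => by simp, fun m => by simp⟩
  have key : ∀ (θ : Γ(Q, W) ⟶ CommRingCat.of K) (c : K)
      (γ : CommRingCat.of (MvPolynomial (Fin n) k) ⟶ CommRingCat.of K), κ ≫ θ = 𝟙 _ → θ.hom τ = c →
      (∀ r, γ.hom (C r) = algebraMap k K r) →
      (∀ m, γ.hom (X m) = A'.hom (X m) + c * (B'.hom (X m) - A'.hom (X m))) →
      CommRingCat.ofHom φ ≫ θ = γ := by
    intro θ c γ hκ hτ hγC hγ
    have hkk : ∀ x : K, θ.hom (κ.hom x) = x := fun x => by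
      have := congrArg (fun f => f.hom x) hκ
      exact this
    ext1
    apply MvPolynomial.ringHom_ext
    · intro r
      change θ.hom (φ (C r)) = γ.hom (C r)
      rw [hφC, hkk, hγC]
    · intro m
      change θ.hom (φ (X m)) = γ.hom (X m)
      rw [hφX, hγ, map_add, map_mul, hτ, hkk, hkk]
  have hlast : CommRingCat.ofHom (algebraMap k (MvPolynomial (Fin n) k)) ≫ CommRingCat.ofHom φ =
      CommRingCat.ofHom (algebraMap k K) ≫ κ := by
    ext1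
    refine RingHom.ext fun r => ?_
    change φ (algebraMap k (MvPolynomial (Fin n) k) r) = κ.hom (algebraMap k K r)
    rw [MvPolynomial.algebraMap_eq, hφC]
  have hpt : ∀ (θ : Γ(Q, W) ⟶ CommRingCat.of K) (pt : Spec (CommRingCat.of K) ⟶ (W : Scheme.{u})),
      pt ≫ W.toSpecΓ = Spec.map θ →
      pt ≫ W.toSpecΓ ≫ Spec.map (CommRingCat.ofHom φ) = Spec.map (CommRingCat.ofHom φ ≫ θ) := by
    intro θ pt h
    rw [← Category.assoc, h, ← Spec.map_comp]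
  refine ⟨W, W.toSpecΓ ≫ Spec.map (CommRingCat.ofHom φ), a₀, b₀, h03, h13, ?_, ?_, ?_⟩
  · rw [hpt θ0 a₀ h04, key θ0 0 A' h01 h02 hAk (fun m => by rw [zero_mul, add_zero]), hA']
  · rw [hpt θ1 b₀ h14, key θ1 1 B' h11 h12 hBk (fun m => by rw [one_mul, add_sub_cancel]), hB']
  · rw [Category.assoc, ← Spec.map_comp, hlast, Spec.map_comp, ← Category.assoc, hκq, Category.assoc]

end LineAff

theorem aff_link (k : Type u) [Field k] (n : ℕ)
    (V : (Spec (CommRingCat.of (MvPolynomial (Fin n) k))).Opens)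
    (K : Type u) [Field K] [Algebra k K]
    (A B : REq.Pts (V.ι ≫ Spec.map (CommRingCat.ofHom (algebraMap k (MvPolynomial (Fin n) k)))) K) :
    REq.ElemLink (V.ι ≫ Spec.map (CommRingCat.ofHom (algebraMap k (MvPolynomial (Fin n) k)))) K A B := by
  have H := isPullback_P1K K
  obtain ⟨W, h₁, a₀, b₀, ha, hb, haA, hbB, hk⟩ := line_aff H (k := k) n (A.1 ≫ V.ι) (B.1 ≫ V.ι)
    (by rw [Category.assoc]; exact A.2) (by rw [Category.assoc]; exact B.2)
  exact elemLink_of_line _ V A B W h₁ a₀ b₀ hk ha hb haA hbB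

theorem retract_link {k : Type u} [Field k] {X : Scheme.{u}} (f : X ⟶ Spec (CommRingCat.of k))
    (U : X.Opens) (n : ℕ) (V : (Spec (CommRingCat.of (MvPolynomial (Fin n) k))).Opens)
    (a : (U : Scheme.{u}) ⟶ (V : Scheme.{u})) (b : (V : Scheme.{u}) ⟶ (U : Scheme.{u}))
    (hab : a ≫ b = 𝟙 (U : Scheme.{u}))
    (ha : a ≫ V.ι ≫ Spec.map (CommRingCat.ofHom (algebraMap k (MvPolynomial (Fin n) k))) = U.ι ≫ f)
    (hb : b ≫ U.ι ≫ f = V.ι ≫ Spec.map (CommRingCat.ofHom (algebraMap k (MvPolynomial (Fin n) k))))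
    (K : Type u) [Field K] [Algebra k K] (A B : REq.Pts (U.ι ≫ f) K) :
    REq.ElemLink (U.ι ≫ f) K A B := by
  have hA : (A.1 ≫ a) ≫ (V.ι ≫ Spec.map (CommRingCat.ofHom (algebraMap k (MvPolynomial (Fin n) k)))) =
      REq.specMap k K := by
    rw [Category.assoc, ha]; exact A.2
  have hB : (B.1 ≫ a) ≫ (V.ι ≫ Spec.map (CommRingCat.ofHom (algebraMap k (MvPolynomial (Fin n) k)))) =
      REq.specMap k K := by
    rw [Category.assoc, ha]; exact B.2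
  obtain ⟨U', h, a', b', h1, h2, h3, h4, h5⟩ := aff_link k n V K ⟨A.1 ≫ a, hA⟩ ⟨B.1 ≫ a, hB⟩
  have h4' : a' ≫ h = A.1 ≫ a := h4
  have h5' : b' ≫ h = B.1 ≫ a := h5
  refine ⟨U', h ≫ b, a', b', ?_, h2, h3, ?_, ?_⟩
  · rw [Category.assoc, hb]; exact h1
  · rw [reassoc_of% h4', hab, Category.comp_id]
  · rw [reassoc_of% h5', hab, Category.comp_id]

theorem s18571 (k : Type u) [Field k] (X : Scheme.{u})
    (f : X ⟶ Spec (CommRingCat.of k)) (hX : REq.IsRetractRational f) :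
    ∃ U : X.Opens, (U : Set X).Nonempty ∧
      ∀ (K : Type u) [Field K] [Algebra k K] (A B : REq.Pts (U.ι ≫ f) K),
        REq.ElemLink (U.ι ≫ f) K A B := by
  obtain ⟨U, n, V, a, b, hne, hab, ha, hb⟩ := hX
  exact ⟨U, hne, fun K _ _ A B => retract_link f U n V a b hab ha hb K A B⟩

theorem exists_kpoint {k : Type u} [Field k] [Infinite k] (n : ℕ)
    (V : (Spec (CommRingCat.of (MvPolynomial (Fin n) k))).Opens)
    (hV : (V : Set (Spec (CommRingCat.of (MvPolynomial (Fin n) k)))).Nonempty) :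
    ∃ v : Spec (CommRingCat.of k) ⟶ (V : Scheme.{u}),
      v ≫ V.ι ≫ Spec.map (CommRingCat.ofHom (algebraMap k (MvPolynomial (Fin n) k))) = 𝟙 _ := by
  classical
  obtain ⟨x, hx⟩ := hV
  obtain ⟨_, ⟨g, rfl⟩, hxg, hgV⟩ :=
    (PrimeSpectrum.isTopologicalBasis_basic_opens (R := MvPolynomial (Fin n) k)).exists_subset_of_mem_open
      (a := x) (u := V.1) hx V.2
  have hg0 : g ≠ 0 := by
    rintro rfl
    have hx0 : x ∈ PrimeSpectrum.basicOpen (0 : MvPolynomial (Fin n) k) := hxg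
    rw [PrimeSpectrum.basicOpen_zero] at hx0
    exact hx0
  obtain ⟨c, hc⟩ : ∃ c : Fin n → k, MvPolynomial.eval c g ≠ 0 := by
    by_contra hcon
    push_neg at hcon
    exact hg0 (MvPolynomial.funext (fun c => by rw [hcon c, map_zero]))
  have hr : Set.range (Spec.map (CommRingCat.ofHom (MvPolynomial.eval c))) ⊆ Set.range V.ι := by
    rintro _ ⟨y, rfl⟩
    have hy : Spec.map (CommRingCat.ofHom (MvPolynomial.eval c)) y ∈ V := by
      apply hgV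
      change g ∉ (PrimeSpectrum.comap (MvPolynomial.eval c) y).asIdeal
      rw [PrimeSpectrum.comap_asIdeal, Ideal.mem_comap]
      intro hmem
      exact y.isPrime.ne_top (Ideal.eq_top_of_isUnit_mem _ hmem (IsUnit.mk0 _ hc))
    exact ⟨⟨_, hy⟩, rfl⟩
  refine ⟨IsOpenImmersion.lift V.ι (Spec.map (CommRingCat.ofHom (MvPolynomial.eval c))) hr, ?_⟩
  rw [IsOpenImmersion.lift_fac_assoc, ← Spec.map_comp]
  have : CommRingCat.ofHom (algebraMap k (MvPolynomial (Fin n) k)) ≫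
      CommRingCat.ofHom (MvPolynomial.eval c) = 𝟙 _ := by
    ext1
    refine RingHom.ext fun r => ?_
    change MvPolynomial.eval c (algebraMap k (MvPolynomial (Fin n) k) r) = r
    rw [MvPolynomial.algebraMap_eq, MvPolynomial.eval_C]
  rw [this, Spec.map_id]

theorem s18572 (k : Type u) [Field k] [Infinite k] (X : Scheme.{u})
    (f : X ⟶ Spec (CommRingCat.of k)) [IsIntegral X] (hX : REq.IsRetractRational f) :
    REq.IsAlmostRTrivial f := by
  obtain ⟨U, n, V, a, b, hne, hab, ha, hb⟩ := hX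
  refine ⟨U, U.2.dense hne, fun K _ _ => ⟨?_, ?_⟩⟩
  · obtain ⟨x, hx⟩ := hne
    have hV : (V : Set (Spec (CommRingCat.of (MvPolynomial (Fin n) k)))).Nonempty :=
      ⟨(a ⟨x, hx⟩).1, (a ⟨x, hx⟩).2⟩
    obtain ⟨v, hv⟩ := exists_kpoint n V hV
    refine ⟨⟨REq.specMap k K ≫ v ≫ b ≫ U.ι, ?_⟩, ?_⟩
    · simp only [Category.assoc]
      rw [hb, hv, Category.comp_id]
    · rintro _ ⟨y, rfl⟩
      have e : (REq.specMap k K ≫ v ≫ b ≫ U.ι) = (REq.specMap k K ≫ v ≫ b) ≫ U.ι := by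
        simp only [Category.assoc]
      change (REq.specMap k K ≫ v ≫ b ≫ U.ι) y ∈ U
      rw [e]
      exact ((REq.specMap k K ≫ v ≫ b) y).2
  · intro A B hA hB
    have hrA : Set.range A.1 ⊆ Set.range U.ι := by
      rw [Scheme.Opens.range_ι]; exact hA
    have hrB : Set.range B.1 ⊆ Set.range U.ι := by
      rw [Scheme.Opens.range_ι]; exact hB
    have hA2 : IsOpenImmersion.lift U.ι A.1 hrA ≫ U.ι ≫ f = REq.specMap k K := by
      rw [IsOpenImmersion.lift_fac_assoc]; exact A.2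
    have hB2 : IsOpenImmersion.lift U.ι B.1 hrB ≫ U.ι ≫ f = REq.specMap k K := by
      rw [IsOpenImmersion.lift_fac_assoc]; exact B.2
    obtain ⟨U', h, a', b', h1, h2, h3, h4, h5⟩ := retract_link f U n V a b hab ha hb K
      ⟨IsOpenImmersion.lift U.ι A.1 hrA, hA2⟩ ⟨IsOpenImmersion.lift U.ι B.1 hrB, hB2⟩
    have h4' : a' ≫ h = IsOpenImmersion.lift U.ι A.1 hrA := h4
    have h5' : b' ≫ h = IsOpenImmersion.lift U.ι B.1 hrB := h5
    refine Relation.EqvGen.rel _ _ ⟨U', h ≫ U.ι, a', b', ?_, h2, h3, ?_, ?_⟩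
    · rw [Category.assoc]; exact h1
    · rw [reassoc_of% h4', IsOpenImmersion.lift_fac]
    · rw [reassoc_of% h5', IsOpenImmersion.lift_fac]

end Part3

end Groth.Agent.Lib.R2H1.REq
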