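/-
helper1 (round 2): S18574 (P^1-invariant functors on almost R-trivial proper integral schemes). isDominant_fromSpecStalkOfMem, spread_unique (morphisms from an open of an integral scheme to a separated target agreeing at the generic point are equal), res/res_shrink/res_congr (pullback of classes of a functor on Sch/k), res_eq_of_sections (P^1-invariance: two sections of P^1_W -> W induce the same pullback), Rel (equivalence relation on K(X)-points: spreadings induce the same pullback over some open), rel_of_link (a direct R-link gives Rel: extend over P^1_K by the valuative criterion, spread out over an open W), s18574.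
-/
import Mathlib
import Groth.Prelude
import Groth.Agent.Lib.R2H1PLineA
import Groth.Agent.Lib.R2H1P1Spread
import Groth.Agent.Lib.Helper4RatMapExt
import Groth.Agent.Lib.Helper4CurveValRings

set_option autoImplicit false
set_option linter.style.haveILetI false
set_option linter.unusedSectionVars false
universe u v

namespace Groth.Agent.Lib.R2H1.REqInv

section Part1

open CategoryTheory CategoryTheory.Limits AlgebraicGeometry TopologicalSpace Opposite
open Groth.Agent.Lib.R2H1.PLineA Groth.Agent.Lib.R2H1.P1Spread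

section Dominant

variable {X : Scheme.{u}} [IsIntegral X]

theorem isDominant_fromSpecStalkOfMem (U : X.Opens) (hU : genericPoint X ∈ U) :
    IsDominant (U.fromSpecStalkOfMem (genericPoint X) hU) := by
  refine ⟨?_⟩
  have hm : U.ι (U.fromSpecStalkOfMem (genericPoint X) hU
      (IsLocalRing.closedPoint (X.presheaf.stalk (genericPoint X)))) = genericPoint X := by
    rw [← Scheme.Hom.comp_apply, Scheme.Opens.fromSpecStalkOfMem_ι]
    exact Scheme.fromSpecStalk_closedPoint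
  have hcl : closure ({U.fromSpecStalkOfMem (genericPoint X) hU
      (IsLocalRing.closedPoint (X.presheaf.stalk (genericPoint X)))} : Set (U : Scheme.{u})) =
      Set.univ := by
    rw [U.ι.isOpenEmbedding.toIsEmbedding.toIsInducing.closure_eq_preimage_closure_image,
      Set.image_singleton, hm, (genericPoint_spec X).def]
    rfl
  exact (dense_iff_closure_eq.mpr hcl).mono (Set.singleton_subset_iff.mpr ⟨_, rfl⟩)

theorem spread_unique {Z : Scheme.{u}} (s : X ⟶ Z) [IsSeparated s] (U : X.Opens)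
    (hU : genericPoint X ∈ U) (g1 g2 : (U : Scheme.{u}) ⟶ X) (h : g1 ≫ s = g2 ≫ s)
    (e : U.fromSpecStalkOfMem (genericPoint X) hU ≫ g1 =
      U.fromSpecStalkOfMem (genericPoint X) hU ≫ g2) : g1 = g2 := by
  haveI := isDominant_fromSpecStalkOfMem U hU
  haveI : Nonempty U := ⟨⟨_, hU⟩⟩
  exact ext_of_isDominant_of_isSeparated s h (U.fromSpecStalkOfMem (genericPoint X) hU) e

end Dominant

section Res

variable {k : Type u} [Field k] (Φ : (Over (Spec (CommRingCat.of k)))ᵒᵖ ⥤ Type v)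
  {X : Scheme.{u}} (f : X ⟶ Spec (CommRingCat.of k))

/-- pullback of classes along a `k`-morphism from an open subscheme of `X` to `X` -/
noncomputable def res (U : X.Opens) (g : (U : Scheme.{u}) ⟶ X) (hg : g ≫ f = U.ι ≫ f) :
    Φ.obj (op (Over.mk f)) → Φ.obj (op (Over.mk (U.ι ≫ f))) :=
  Φ.map (Over.homMk g hg : Over.mk (U.ι ≫ f) ⟶ Over.mk f).op

theorem res_congr (U : X.Opens) {g g' : (U : Scheme.{u}) ⟶ X} (e : g = g')
    (hg : g ≫ f = U.ι ≫ f) (hg' : g' ≫ f = U.ι ≫ f) (α : Φ.obj (op (Over.mk f))) :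
    res Φ f U g hg α = res Φ f U g' hg' α := by
  subst e; rfl

theorem hle {U' U : X.Opens} (h : U' ≤ U) : X.homOfLE h ≫ U.ι ≫ f = U'.ι ≫ f := by
  rw [← Category.assoc, X.homOfLE_ι]

theorem hshr {U' U : X.Opens} (h : U' ≤ U) (g : (U : Scheme.{u}) ⟶ X) (hg : g ≫ f = U.ι ≫ f) :
    (X.homOfLE h ≫ g) ≫ f = U'.ι ≫ f := by
  rw [Category.assoc, hg, hle]

theorem res_shrink {U' U : X.Opens} (h : U' ≤ U) (g : (U : Scheme.{u}) ⟶ X)
    (hg : g ≫ f = U.ι ≫ f) (α : Φ.obj (op (Over.mk f))) :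
    res Φ f U' (X.homOfLE h ≫ g) (hshr f h g hg) α =
      Φ.map (Over.homMk (X.homOfLE h) (hle f h) :
        Over.mk (U'.ι ≫ f) ⟶ Over.mk (U.ι ≫ f)).op (res Φ f U g hg α) := by
  have e : (Over.homMk (X.homOfLE h ≫ g) (hshr f h g hg) : Over.mk (U'.ι ≫ f) ⟶ Over.mk f) =
      (Over.homMk (X.homOfLE h) (hle f h) : Over.mk (U'.ι ≫ f) ⟶ Over.mk (U.ι ≫ f)) ≫
        (Over.homMk g hg : Over.mk (U.ι ≫ f) ⟶ Over.mk f) := by
    ext; simp
  unfold res
  rw [e, op_comp, FunctorToTypes.map_comp_apply]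

theorem res_shrink_eq {U' U : X.Opens} (h : U' ≤ U) (g g' : (U : Scheme.{u}) ⟶ X)
    (hg : g ≫ f = U.ι ≫ f) (hg' : g' ≫ f = U.ι ≫ f) (α : Φ.obj (op (Over.mk f)))
    (e : res Φ f U g hg α = res Φ f U g' hg' α) :
    res Φ f U' (X.homOfLE h ≫ g) (hshr f h g hg) α =
      res Φ f U' (X.homOfLE h ≫ g') (hshr f h g' hg') α := by
  rw [res_shrink Φ f h g hg α, res_shrink Φ f h g' hg' α, e]

/-- consequence of `P¹`-invariance: two sections of `P¹_W → W` induce the same pullback -/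
theorem res_eq_of_sections
    (hΦ : ∀ (Y : Scheme.{u}) (g : Y ⟶ Spec (CommRingCat.of k)) [IsIntegral Y] [Smooth g]
      [IsSeparated g] [QuasiCompact g],
      Function.Bijective (Φ.map (Over.homMk (CohB1.ProjSpaceOver.toBase 1 Y) rfl :
        Over.mk (CohB1.ProjSpaceOver.toBase 1 Y ≫ g) ⟶ Over.mk g).op))
    (W : X.Opens) [IsIntegral (W : Scheme.{u})] [Smooth (W.ι ≫ f)] [IsSeparated (W.ι ≫ f)]
    [QuasiCompact (W.ι ≫ f)]
    (H : CohB1.ProjSpaceOver 1 (W : Scheme.{u}) ⟶ X)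
    (hH : H ≫ f = CohB1.ProjSpaceOver.toBase 1 (W : Scheme.{u}) ≫ W.ι ≫ f)
    (sa sb : (W : Scheme.{u}) ⟶ CohB1.ProjSpaceOver 1 (W : Scheme.{u}))
    (hsa : sa ≫ CohB1.ProjSpaceOver.toBase 1 (W : Scheme.{u}) = 𝟙 _)
    (hsb : sb ≫ CohB1.ProjSpaceOver.toBase 1 (W : Scheme.{u}) = 𝟙 _)
    (ha : (sa ≫ H) ≫ f = W.ι ≫ f) (hb : (sb ≫ H) ≫ f = W.ι ≫ f)
    (α : Φ.obj (op (Over.mk f))) :
    res Φ f W (sa ≫ H) ha α = res Φ f W (sb ≫ H) hb α := by
  obtain ⟨γ, hγ⟩ := (hΦ (W : Scheme.{u}) (W.ι ≫ f)).2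
    (Φ.map (Over.homMk H hH : Over.mk (CohB1.ProjSpaceOver.toBase 1 (W : Scheme.{u}) ≫ W.ι ≫ f) ⟶
      Over.mk f).op α)
  have key : ∀ (s : (W : Scheme.{u}) ⟶ CohB1.ProjSpaceOver 1 (W : Scheme.{u}))
      (hs : s ≫ CohB1.ProjSpaceOver.toBase 1 (W : Scheme.{u}) = 𝟙 _)
      (h' : (s ≫ H) ≫ f = W.ι ≫ f), res Φ f W (s ≫ H) h' α = γ := by
    intro s hs h'
    have hs' : s ≫ CohB1.ProjSpaceOver.toBase 1 (W : Scheme.{u}) ≫ W.ι ≫ f = W.ι ≫ f := by
      rw [← Category.assoc, hs, Category.id_comp]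
    have e1 : (Over.homMk (s ≫ H) h' : Over.mk (W.ι ≫ f) ⟶ Over.mk f) =
        (Over.homMk s hs' : Over.mk (W.ι ≫ f) ⟶
          Over.mk (CohB1.ProjSpaceOver.toBase 1 (W : Scheme.{u}) ≫ W.ι ≫ f)) ≫
        (Over.homMk H hH : Over.mk (CohB1.ProjSpaceOver.toBase 1 (W : Scheme.{u}) ≫ W.ι ≫ f) ⟶
          Over.mk f) := by
      ext; simp
    have e2 : (Over.homMk s hs' : Over.mk (W.ι ≫ f) ⟶
          Over.mk (CohB1.ProjSpaceOver.toBase 1 (W : Scheme.{u}) ≫ W.ι ≫ f)) ≫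
        (Over.homMk (CohB1.ProjSpaceOver.toBase 1 (W : Scheme.{u})) rfl :
          Over.mk (CohB1.ProjSpaceOver.toBase 1 (W : Scheme.{u}) ≫ W.ι ≫ f) ⟶ Over.mk (W.ι ≫ f)) =
        𝟙 _ := by
      ext; simp [hs]
    unfold res
    rw [e1, op_comp, FunctorToTypes.map_comp_apply, ← hγ, ← FunctorToTypes.map_comp_apply,
      ← op_comp, e2, op_id, FunctorToTypes.map_id_apply]
  rw [key sa hsa ha, key sb hsb hb]

variable [IsIntegral X]

/-- the two `K(X)`-points `A`, `B` admit spreadings over a common open `W ≤ V0` which induce the same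
pullback of classes -/
def Rel (V0 : X.Opens) (A B : Spec X.functionField ⟶ X) : Prop :=
  ∃ (W : X.Opens) (hW : genericPoint X ∈ W) (_ : W ≤ V0) (a b : (W : Scheme.{u}) ⟶ X)
    (ha : a ≫ f = W.ι ≫ f) (hb : b ≫ f = W.ι ≫ f),
    W.fromSpecStalkOfMem (genericPoint X) hW ≫ a = A ∧
    W.fromSpecStalkOfMem (genericPoint X) hW ≫ b = B ∧
    ∀ α, res Φ f W a ha α = res Φ f W b hb α

theorem rel_refl [LocallyOfFiniteType f] (V0 : X.Opens) (hV0 : genericPoint X ∈ V0)
    (A : Spec X.functionField ⟶ X) (hA : A ≫ f = X.fromSpecStalk (genericPoint X) ≫ f) :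
    Rel Φ f V0 A A := by
  obtain ⟨W0, hW0, a0, ha0, ha0f⟩ := spread_out_of_isGermInjective' f f A hA
  have hA' : (W0 ⊓ V0).fromSpecStalkOfMem (genericPoint X) ⟨hW0, hV0⟩ ≫
      X.homOfLE (inf_le_left : W0 ⊓ V0 ≤ W0) ≫ a0 = A := by
    rw [← Category.assoc, fromSpecStalkOfMem_homOfLE, ← ha0]
  exact ⟨W0 ⊓ V0, ⟨hW0, hV0⟩, inf_le_right, X.homOfLE inf_le_left ≫ a0, X.homOfLE inf_le_left ≫ a0,
    hshr f _ a0 ha0f, hshr f _ a0 ha0f, hA', hA', fun α => rfl⟩

theorem rel_symm {V0 : X.Opens} {A B : Spec X.functionField ⟶ X} (h : Rel Φ f V0 A B) :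
    Rel Φ f V0 B A := by
  obtain ⟨W, hW, hWV, a, b, ha, hb, hA, hB, hres⟩ := h
  exact ⟨W, hW, hWV, b, a, hb, ha, hB, hA, fun α => (hres α).symm⟩

theorem rel_trans [IsSeparated f] {V0 : X.Opens} {A B C : Spec X.functionField ⟶ X}
    (h1 : Rel Φ f V0 A B) (h2 : Rel Φ f V0 B C) : Rel Φ f V0 A C := by
  obtain ⟨W, hW, hWV, a, b, ha, hb, hA, hB, hres⟩ := h1
  obtain ⟨W', hW', hWV', b', c', hb', hc', hB', hC', hres'⟩ := h2
  have eb : X.homOfLE (inf_le_left : W ⊓ W' ≤ W) ≫ b = X.homOfLE (inf_le_right : W ⊓ W' ≤ W') ≫ b' := by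
    refine spread_unique f (W ⊓ W') ⟨hW, hW'⟩ _ _ ?_ ?_
    · rw [hshr f _ b hb, hshr f _ b' hb']
    · rw [← Category.assoc, ← Category.assoc, fromSpecStalkOfMem_homOfLE, fromSpecStalkOfMem_homOfLE,
        hB, hB']
  refine ⟨W ⊓ W', ⟨hW, hW'⟩, inf_le_left.trans hWV, X.homOfLE inf_le_left ≫ a,
    X.homOfLE inf_le_right ≫ c', hshr f _ a ha, hshr f _ c' hc', ?_, ?_, fun α => ?_⟩
  · rw [← Category.assoc, fromSpecStalkOfMem_homOfLE, hA]
  · rw [← Category.assoc, fromSpecStalkOfMem_homOfLE, hC']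
  · calc res Φ f (W ⊓ W') (X.homOfLE inf_le_left ≫ a) (hshr f _ a ha) α
        = res Φ f (W ⊓ W') (X.homOfLE inf_le_left ≫ b) (hshr f _ b hb) α :=
          res_shrink_eq Φ f _ a b ha hb α (hres α)
      _ = res Φ f (W ⊓ W') (X.homOfLE inf_le_right ≫ b') (hshr f _ b' hb') α :=
          res_congr Φ f _ eb _ _ α
      _ = res Φ f (W ⊓ W') (X.homOfLE inf_le_right ≫ c') (hshr f _ c' hc') α :=
          res_shrink_eq Φ f _ b' c' hb' hc' α (hres' α)

theorem rel_of_link [IsProper f]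
    (hΦ : ∀ (Y : Scheme.{u}) (g : Y ⟶ Spec (CommRingCat.of k)) [IsIntegral Y] [Smooth g]
      [IsSeparated g] [QuasiCompact g],
      Function.Bijective (Φ.map (Over.homMk (CohB1.ProjSpaceOver.toBase 1 Y) rfl :
        Over.mk (CohB1.ProjSpaceOver.toBase 1 Y ≫ g) ⟶ Over.mk g).op))
    (V0 : X.Opens) (hV0 : genericPoint X ∈ V0) (hV0sm : Smooth (V0.ι ≫ f))
    (U' : (PK X).Opens) (h : (U' : Scheme.{u}) ⟶ X)
    (pa pb : Spec X.functionField ⟶ (U' : Scheme.{u}))
    (hh : h ≫ f = U'.ι ≫ πK X ≫ ee X ≫ f)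
    (hpa : pa ≫ U'.ι ≫ πK X = 𝟙 _) (hpb : pb ≫ U'.ι ≫ πK X = 𝟙 _) :
    Rel Φ f V0 (pa ≫ h) (pb ≫ h) := by
  haveI hPK : IsIntegral (PK X) := isIntegral_P1 (Spec X.functionField)
  haveI hPP : IsIntegral (PP X) := isIntegral_P1 X
  have h0 : (ValuativeCriterion.Existence ⊓ @QuasiCompact) f := by
    rw [← UniversallyClosed.eq_valuativeCriterion]
    infer_instance
  have hXval : ∀ x : PK X, ValuationRing ((PK X).presheaf.stalk x) := fun x =>
    @valuationRing_stalk_P1K X.functionField _ hPK x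
  have hU'ne : (U' : Set (PK X)).Nonempty :=
    ⟨(pa (IsLocalRing.closedPoint X.functionField)).1,
      (pa (IsLocalRing.closedPoint X.functionField)).2⟩
  obtain ⟨hbar, hbarq, hbarU⟩ :=
    Groth.Agent.Lib.Helper4.RatMapExt.exists_extension_of_valuationRing
      (πK X ≫ ee X ≫ f) f h0.1 hXval U' hU'ne h hh
  haveI : X.IsSeparated := ⟨by rw [← terminal.comp_from f]; infer_instance⟩
  obtain ⟨W, hW, hWaff, hWV0, H, sa, sb, hHq, hsa, hsb, hfa, hfb⟩ :=
    exists_spread X f f V0 hV0 hbar hbarq (pa ≫ U'.ι) (pb ≫ U'.ι)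
      (by rw [Category.assoc]; exact hpa) (by rw [Category.assoc]; exact hpb)
  haveI : Nonempty W := ⟨⟨_, hW⟩⟩
  haveI : Smooth (W.ι ≫ f) := by
    haveI := hV0sm
    rw [← X.homOfLE_ι hWV0, Category.assoc]
    infer_instance
  haveI : IsAffine (W : Scheme.{u}) := hWaff
  haveI : QuasiCompact (W.ι ≫ f) := inferInstance
  have ha' : (sa ≫ H) ≫ f = W.ι ≫ f := by
    rw [Category.assoc, hHq, ← Category.assoc, hsa, Category.id_comp]
  have hb' : (sb ≫ H) ≫ f = W.ι ≫ f := by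
    rw [Category.assoc, hHq, ← Category.assoc, hsb, Category.id_comp]
  refine ⟨W, hW, hWV0, sa ≫ H, sb ≫ H, ha', hb', ?_, ?_, fun α =>
    res_eq_of_sections Φ f hΦ W H hHq sa sb hsa hsb ha' hb' α⟩
  · rw [hfa, Category.assoc, hbarU]
  · rw [hfb, Category.assoc, hbarU]

end Res

end Part1

section Part2

open CategoryTheory CategoryTheory.Limits AlgebraicGeometry TopologicalSpace Opposite
open Groth.Agent.Lib.R2H1.PLineA Groth.Agent.Lib.R2H1.P1Spread

theorem s18574 (k : Type u) [Field k]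
    (Φ : (Over (Spec (CommRingCat.of k)))ᵒᵖ ⥤ Type v)
    (hΦ : ∀ (Y : Scheme.{u}) (g : Y ⟶ Spec (CommRingCat.of k)) [IsIntegral Y] [Smooth g]
      [IsSeparated g] [QuasiCompact g],
      Function.Bijective (Φ.map (Over.homMk (CohB1.ProjSpaceOver.toBase 1 Y) rfl :
        Over.mk (CohB1.ProjSpaceOver.toBase 1 Y ≫ g) ⟶ Over.mk g).op))
    (X : Scheme.{u}) (f : X ⟶ Spec (CommRingCat.of k)) [IsIntegral X] [IsProper f]
    (hsm : ∃ V : X.Opens, (V : Set X).Nonempty ∧ Smooth (V.ι ≫ f))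
    (hR : REq.IsAlmostRTrivial f) :
    ∃ U : X.Opens, (U : Set X).Nonempty ∧ Smooth (U.ι ≫ f) ∧
      Set.range (Φ.map (Over.homMk U.ι rfl : Over.mk (U.ι ≫ f) ⟶ Over.mk f).op) =
        Set.range (Φ.map (Over.homMk (U.ι ≫ f) (Category.comp_id _) :
          Over.mk (U.ι ≫ f) ⟶ Over.mk (𝟙 (Spec (CommRingCat.of k)))).op) := by
  classical
  obtain ⟨V0, hV0ne, hV0sm⟩ := hsm
  obtain ⟨U0, hU0d, hU0⟩ := hR
  have hV0 : genericPoint X ∈ V0 := by
    obtain ⟨x, hx⟩ := hV0ne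
    exact (genericPoint_specializes x).mem_open V0.2 hx
  have hηU0 : genericPoint X ∈ U0 := by
    obtain ⟨x, hx⟩ := hU0d.nonempty
    exact (genericPoint_specializes x).mem_open U0.2 hx
  -- the function field as an extension of `k`
  letI algK : Algebra k X.functionField :=
    ((X.presheaf.germ ⊤ (genericPoint X) trivial).hom.comp (Coh.toGlobal f)).toAlgebra
  have hη : X.fromSpecStalk (genericPoint X) ≫ f = REq.specMap k X.functionField :=
    Groth.Agent.Lib.Helper4.RatMapExt.fromSpecStalk_comp_toSpec f (genericPoint X)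
  obtain ⟨-, hequiv⟩ := hU0 X.functionField
  -- the generic point as a `K(X)`-point
  let Aη : REq.Pts f X.functionField := ⟨X.fromSpecStalk (genericPoint X), hη⟩
  have hsub : ∀ w : Spec X.functionField, w = IsLocalRing.closedPoint X.functionField := fun w =>
    (inferInstance : Subsingleton (PrimeSpectrum X.functionField)).elim _ _
  have hAη : REq.InOpen f U0 Aη := by
    rintro _ ⟨w, rfl⟩
    show X.fromSpecStalk (genericPoint X) w ∈ U0
    rw [hsub w, Scheme.fromSpecStalk_closedPoint]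
    exact hηU0
  -- a `k`-point in `U0`
  obtain ⟨⟨A0, hA0f⟩, hA0⟩ := (hU0 k).1
  have hx0 : A0 ≫ f = 𝟙 (Spec (CommRingCat.of k)) := by
    rw [hA0f]
    exact Spec.map_id _
  let B : REq.Pts f X.functionField := ⟨REq.specMap k X.functionField ≫ A0, by
    rw [Category.assoc, hx0, Category.comp_id]⟩
  have hB : REq.InOpen f U0 B := by
    rintro _ ⟨w, rfl⟩
    exact hA0 ⟨(REq.specMap k X.functionField).base w, rfl⟩
  have hlink : REq.REquiv f X.functionField Aη B := hequiv Aη B hAη hB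
  -- R-equivalent points are related
  have key : ∀ A B : REq.Pts f X.functionField, REq.REquiv f X.functionField A B →
      Rel Φ f V0 A.1 B.1 := by
    intro A B hAB
    induction hAB with
    | rel A B hl =>
      obtain ⟨U', h, pa, pb, hh, hpa, hpb, hA, hB⟩ := hl
      rw [← hA, ← hB]
      refine rel_of_link Φ f hΦ V0 hV0 hV0sm U' h pa pb ?_ hpa hpb
      rw [hh, hη]
      rfl
    | refl A => exact rel_refl Φ f V0 hV0 A.1 (by rw [A.2, hη])
    | symm A B _ ih => exact rel_symm Φ f ih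
    | trans A B C _ _ ih1 ih2 => exact rel_trans Φ f ih1 ih2
  obtain ⟨W, hW, hWV0, a, b, ha, hb, hA, hB', hres⟩ := key Aη B hlink
  have hb'' : (W.ι ≫ f ≫ A0) ≫ f = W.ι ≫ f := by
    rw [Category.assoc, Category.assoc, hx0, Category.comp_id]
  have ea : a = W.ι := by
    refine spread_unique f W hW a W.ι (by rw [ha]) ?_
    rw [hA, Scheme.Opens.fromSpecStalkOfMem_ι]
  have eb : b = W.ι ≫ f ≫ A0 := by
    refine spread_unique f W hW b _ (by rw [hb, hb'']) ?_
    rw [hB', ← Category.assoc, Scheme.Opens.fromSpecStalkOfMem_ι, ← Category.assoc, hη]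
  have hsmW : Smooth (W.ι ≫ f) := by
    haveI := hV0sm
    rw [← X.homOfLE_ι hWV0, Category.assoc]
    infer_instance
  refine ⟨W, ⟨_, hW⟩, hsmW, ?_⟩
  apply Set.Subset.antisymm
  · rintro _ ⟨α, rfl⟩
    refine ⟨Φ.map (Over.homMk A0 hx0 : Over.mk (𝟙 (Spec (CommRingCat.of k))) ⟶ Over.mk f).op α, ?_⟩
    have h1 := hres α
    rw [res_congr Φ f W ea ha rfl α, res_congr Φ f W eb hb hb'' α] at h1
    have e3 : (Over.homMk (W.ι ≫ f ≫ A0) hb'' : Over.mk (W.ι ≫ f) ⟶ Over.mk f) =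
        (Over.homMk (W.ι ≫ f) (Category.comp_id _) :
          Over.mk (W.ι ≫ f) ⟶ Over.mk (𝟙 (Spec (CommRingCat.of k)))) ≫
        (Over.homMk A0 hx0 : Over.mk (𝟙 (Spec (CommRingCat.of k))) ⟶ Over.mk f) := by
      ext; simp
    calc Φ.map (Over.homMk (W.ι ≫ f) (Category.comp_id _) :
          Over.mk (W.ι ≫ f) ⟶ Over.mk (𝟙 (Spec (CommRingCat.of k)))).op
          (Φ.map (Over.homMk A0 hx0 : Over.mk (𝟙 (Spec (CommRingCat.of k))) ⟶ Over.mk f).op α)
        = Φ.map (Over.homMk (W.ι ≫ f ≫ A0) hb'' : Over.mk (W.ι ≫ f) ⟶ Over.mk f).op α := by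
          rw [e3, op_comp, FunctorToTypes.map_comp_apply]
      _ = _ := h1.symm
  · rintro _ ⟨γ, rfl⟩
    refine ⟨Φ.map (Over.homMk f (Category.comp_id f) :
      Over.mk f ⟶ Over.mk (𝟙 (Spec (CommRingCat.of k)))).op γ, ?_⟩
    have e4 : (Over.homMk (W.ι ≫ f) (Category.comp_id _) :
          Over.mk (W.ι ≫ f) ⟶ Over.mk (𝟙 (Spec (CommRingCat.of k)))) =
        (Over.homMk W.ι rfl : Over.mk (W.ι ≫ f) ⟶ Over.mk f) ≫
        (Over.homMk f (Category.comp_id f) :
          Over.mk f ⟶ Over.mk (𝟙 (Spec (CommRingCat.of k)))) := by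
      ext; simp
    rw [e4, op_comp, FunctorToTypes.map_comp_apply]

end Part2

end Groth.Agent.Lib.R2H1.REqInv
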