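import Mathlib
import Groth.Prelude
import Groth.Agent.Lib.R2H4DiffCartier
import Groth.Agent.Lib.R2H1InvExists
import Groth.Agent.Lib.R2H1PicLaw
import Groth.Agent.Lib.R2H1PencilTrick
import Groth.Agent.Lib.Helper18FittSh1
import Groth.Agent.Lib.Helper18Fitt6
import Groth.Agent.Lib.Helper23FinTypeLocal
import Groth.Agent.Lib.Helper2ModExact
import Groth.Agent.Lib.Helper8FrameIso
import Groth.Agent.Lib.Helper20UFDPic
import Groth.Agent.Lib.Helper23PB
import Groth.Agent.Lib.R2H1RiemannHurwitz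
import Groth.Agent.Lib.Helper20OmegaQCoh
set_option backward.isDefEq.respectTransparency.types false

/-!
Ramification divisor as a Fitting ideal: zeroth Fitting ideal of a cyclic module, local computation of Fitt0 of the cokernel of a map of invertible modules, L tensor Fitt0(Q) iso N for a short exact sequence 0 -> N -> L -> Q -> 0 of invertible modules on an integral scheme, and K_X ~ f^*K_Y + R for a finite separable morphism of curves.
-/

set_option autoImplicit false
set_option linter.style.haveILetI false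
set_option linter.unusedSectionVars false
universe u v

open CategoryTheory CategoryTheory.Limits AlgebraicGeometry TopologicalSpace Opposite

namespace Groth.Agent.Lib.R2H1.RamFitt

section Part1

open CategoryTheory CategoryTheory.Limits AlgebraicGeometry TopologicalSpace Opposite
open Groth.Agent.Lib.Helper23.SecTw Groth.Agent.Lib.Helper23.GenLocus
open Groth.Agent.Lib.Helper23.Extend Groth.Agent.Lib.Helper6

/-- the zeroth Fitting ideal of a cyclic module is the annihilator of the generator -/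
theorem fitt_zero_cyclic {R : Type u} [CommRing R] {M : Type u} [AddCommGroup M] [Module R M]
    (x₀ : M) (hx : Submodule.span R {x₀} = ⊤) (a : R)
    (ha : ∀ r : R, r • x₀ = 0 ↔ r ∈ Ideal.span {a}) :
    Fitt.ideal R M 0 = Ideal.span {a} := by
  have hx' : Submodule.span R (Set.range (fun _ : Fin 1 => x₀)) = ⊤ := by
    rw [Set.range_const]; exact hx
  rw [Groth.Agent.Helper18Fitt.fitt_eq_minors (R := R) (M := M) (fun _ : Fin 1 => x₀) hx' 0]
  apply le_antisymm
  · unfold Groth.Agent.Helper18Fitt.minors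
    rw [Ideal.span_le]
    rintro d ⟨z, e, hz, rfl⟩
    have h1 := hz 0
    simp only [Fin.sum_univ_one] at h1
    have h2 : (Matrix.of fun a b => z b (e a)).det = z 0 0 := by
      rw [Matrix.det_fin_one]
      simp only [Matrix.of_apply]
      congr 1
      exact Subsingleton.elim _ _
    rw [h2]
    exact (ha _).1 h1
  · rw [Ideal.span_le]
    intro r hr
    rw [Set.mem_singleton_iff] at hr
    subst hr
    apply Ideal.subset_span
    refine ⟨fun _ _ => r, fun _ => 0, ?_, ?_⟩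
    · intro j
      simp only [Fin.sum_univ_one]
      exact (ha r).2 (Ideal.subset_span rfl)
    · rw [Matrix.det_fin_one]
      rfl

variable {X : Scheme.{u}}

/-- local computation of the zeroth Fitting ideal of the cokernel of a map of invertible
modules -/
theorem fitt_ideal_eq_span (S : ShortComplex X.Modules) (hS : S.ShortExact)
    [S.X₂.IsQuasicoherent] [S.X₃.IsQuasicoherent]
    (hfin : ∀ V : X.affineOpens, Module.Finite Γ(X, V.1) Γ(S.X₃, V.1))
    (V : X.affineOpens) (tN : Γ(S.X₁, V.1)) (tL : Γ(S.X₂, V.1)) (a : Γ(X, V.1))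
    (hN : IsGen S.X₁ V.1 tN) (hL : IsGen S.X₂ V.1 tL) (hc : S.f.app V.1 tN = a • tL) :
    (Fitt.sheafIdeal S.X₃ 0).ideal V = Ideal.span {a} := by
  rw [Groth.Agent.Helper18FittSh.sheafIdeal_ideal S.X₃ 0 hfin V]
  haveI := hS.epi_g
  have hLs : ∀ l : Γ(S.X₂, V.1), ∃ r : Γ(X, V.1), r • tL = l := by
    intro l
    obtain ⟨r, hr⟩ := (hL V.1 le_rfl).2 l
    simp only [res_self] at hr
    exact ⟨r, hr⟩
  have hNs : ∀ l : Γ(S.X₁, V.1), ∃ r : Γ(X, V.1), r • tN = l := by
    intro l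
    obtain ⟨r, hr⟩ := (hN V.1 le_rfl).2 l
    simp only [res_self] at hr
    exact ⟨r, hr⟩
  have hLi : ∀ r r' : Γ(X, V.1), r • tL = r' • tL → r = r' := by
    intro r r' h
    apply (hL V.1 le_rfl).1
    simp only [res_self]
    exact h
  have hfg : ∀ n : Γ(S.X₁, V.1), S.g.app V.1 (S.f.app V.1 n) = 0 := by
    intro n
    have h1 := congrArg (fun φ => Scheme.Modules.Hom.app φ V.1 n) S.zero
    exact h1
  apply fitt_zero_cyclic (S.g.app V.1 tL)
  · rw [eq_top_iff]
    intro q _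
    obtain ⟨l, rfl⟩ := Groth.Agent.Lib.Helper23.FinType.surjective_app_of_epi S.g V.2 q
    obtain ⟨r, rfl⟩ := hLs l
    rw [Scheme.Modules.Hom.app_smul]
    exact Submodule.smul_mem _ _ (Submodule.mem_span_singleton_self _)
  · intro r
    constructor
    · intro h
      have h1 : S.g.app V.1 (r • tL) = 0 := by
        rw [Scheme.Modules.Hom.app_smul, h]
      obtain ⟨n, hn⟩ := Groth.Agent.Lib.Helper2.ModExact.exists_app_eq_of_shortExact S hS V.1 _ h1
      obtain ⟨b, rfl⟩ := hNs n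
      rw [Scheme.Modules.Hom.app_smul, hc, ← mul_smul] at hn
      have h2 := hLi _ _ hn
      rw [Ideal.mem_span_singleton']
      exact ⟨b, h2⟩
    · intro h
      rw [Ideal.mem_span_singleton'] at h
      obtain ⟨b, rfl⟩ := h
      rw [mul_smul, ← Scheme.Modules.Hom.app_smul, ← Scheme.Modules.Hom.app_smul, ← hc,
        ← Scheme.Modules.Hom.app_smul, hfg]

end Part1

section Part2

open CategoryTheory CategoryTheory.Limits AlgebraicGeometry TopologicalSpace Opposite
open Groth.Agent.Lib.Helper23.SecTw Groth.Agent.Lib.Helper23.GenLocus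
open Groth.Agent.Lib.Helper23.Extend Groth.Agent.Lib.Helper6
open Groth.Agent.Lib.R2H1.PicLaw Groth.Agent.Lib.R2H1.PencilTrick


variable {X : Scheme.{u}}

/-- for a short exact sequence `0 → N → L → Q → 0` with `N`, `L` invertible on an integral scheme:
`L ⊗ Fitt₀(Q) ≅ N` -/
theorem nonempty_iso_of_shortExact [IsIntegral X] (S : ShortComplex X.Modules) (hS : S.ShortExact)
    (hN : PicF.IsInvertible S.X₁) (hL : PicF.IsInvertible S.X₂) [S.X₃.IsQuasicoherent]
    (hfin : ∀ V : X.affineOpens, Module.Finite Γ(X, V.1) Γ(S.X₃, V.1)) :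
    Nonempty (CohB1.tensorMod S.X₂ (ClSub.idealMod (Fitt.sheafIdeal S.X₃ 0)) ≅ S.X₁) := by
  haveI : S.X₂.IsQuasicoherent :=
    Groth.Agent.Lib.Helper23.SecTw.isQuasicoherent_of_isInvertible _ hL
  obtain ⟨Ni, hNi, ⟨e₀⟩⟩ := Groth.Agent.Lib.R2H1.InvExists.exists_inverse S.X₁ hN
  let e' : CohB1.tensorMod Ni S.X₁ ≅ Coh.structureModule X := commI Ni S.X₁ ≪≫ e₀
  have hM : PicF.IsInvertible (CohB1.tensorMod Ni S.X₂) := isInvertible_tensorMod hNi hL
  have hS' := Groth.Agent.Lib.R2Lead.TensorExact.shortExact_map_tensorBi_of_isInvertible Ni hNi S hS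
  haveI : Mono ((DCoh.tensorBi.obj Ni).map S.f) := hS'.mono_f
  let s' : Coh.structureModule X ⟶ CohB1.tensorMod Ni S.X₂ :=
    e'.inv ≫ (DCoh.tensorBi.obj Ni).map S.f
  haveI : Mono s' := mono_comp' (inferInstance : Mono e'.inv) hS'.mono_f
  obtain ⟨iso₁⟩ := Groth.Agent.Lib.R2H4DiffCartier.nonempty_iso_tensor_idealMod'
    (CohB1.tensorMod Ni S.X₂) hM s' (Fitt.sheafIdeal S.X₃ 0) (by
    intro x
    obtain ⟨W₁, tN, hx₁, hgN⟩ := exists_gen S.X₁ hN x
    obtain ⟨W₂, tL, hx₂, hgL⟩ := exists_gen S.X₂ hL x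
    obtain ⟨W₃, tI, hx₃, hgI⟩ := exists_gen Ni hNi x
    obtain ⟨V, hV, hxV, hle⟩ := exists_isAffineOpen_mem_and_subset (X := X) (x := x)
      (U := W₁ ⊓ W₂ ⊓ W₃) ⟨⟨hx₁, hx₂⟩, hx₃⟩
    have hle₁ : V ≤ W₁ := fun y hy => (hle hy).1.1
    have hle₂ : V ≤ W₂ := fun y hy => (hle hy).1.2
    have hle₃ : V ≤ W₃ := fun y hy => (hle hy).2
    have hgN' : IsGen S.X₁ V (res S.X₁ hle₁ tN) := hgN.mono hle₁
    have hgL' : IsGen S.X₂ V (res S.X₂ hle₂ tL) := hgL.mono hle₂
    have hgI' : IsGen Ni V (res Ni hle₃ tI) := hgI.mono hle₃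
    obtain ⟨a, ha⟩ := (hgL' V le_rfl).2 (S.f.app V (res S.X₁ hle₁ tN))
    simp only [res_self] at ha
    have hg : IsGen (CohB1.tensorMod Ni S.X₁) V (tm Ni S.X₁ V (res Ni hle₃ tI) (res S.X₁ hle₁ tN)) :=
      isGen_tm Ni S.X₁ V _ _ hgI' hgN'
    have hg₀ : IsGen (CohB1.tensorMod Ni S.X₁) V (e'.symm.hom.app V (toS V 1)) :=
      Groth.Agent.Lib.Helper23.PB.isGen_of_iso e'.symm (isGen_one V)
    obtain ⟨c, hc⟩ := Groth.Agent.Lib.Helper8FrameIso.exists_unit_of_isGen hg hg₀
    have hgM : IsGen (CohB1.tensorMod Ni S.X₂) V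
        ((c : Γ(X, V)) • tm Ni S.X₂ V (res Ni hle₃ tI) (res S.X₂ hle₂ tL)) :=
      Groth.Agent.Lib.Helper20.UFDPic.isGen_unit_smul (isGen_tm Ni S.X₂ V _ _ hgI' hgL') _ c.isUnit
    have hsv : sv s' V =
        a • ((c : Γ(X, V)) • tm Ni S.X₂ V (res Ni hle₃ tI) (res S.X₂ hle₂ tL)) := by
      have h1 : sv s' V = ((DCoh.tensorBi.obj Ni).map S.f).app V (e'.symm.hom.app V (toS V 1)) := rfl
      have h2 : ((DCoh.tensorBi.obj Ni).map S.f).app V
          ((c : Γ(X, V)) • tm Ni S.X₁ V (res Ni hle₃ tI) (res S.X₁ hle₁ tN)) =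
          (c : Γ(X, V)) • ((DCoh.tensorBi.obj Ni).map S.f).app V
            (tm Ni S.X₁ V (res Ni hle₃ tI) (res S.X₁ hle₁ tN)) :=
        Scheme.Modules.Hom.app_smul _ _ _
      have h3 : ((DCoh.tensorBi.obj Ni).map S.f).app V
            (tm Ni S.X₁ V (res Ni hle₃ tI) (res S.X₁ hle₁ tN)) =
          tm Ni S.X₂ V (res Ni hle₃ tI) (S.f.app V (res S.X₁ hle₁ tN)) :=
        Groth.Agent.Lib.R2H1.CurveAmple.tensorBi_map_tm Ni S.f V _ _
      have h4 : ∀ m : Γ(CohB1.tensorMod Ni S.X₂, V),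
          (c : Γ(X, V)) • (a • m) = a • ((c : Γ(X, V)) • m) := by
        intro m
        rw [← mul_smul, ← mul_smul, mul_comm]
      rw [h1, hc, h2, h3, ← ha, tm_smul_right]
      exact h4 _
    refine ⟨⟨V, hV⟩, _, a, hxV, hgM, hsv, ?_⟩
    · exact fitt_ideal_eq_span S hS hfin ⟨V, hV⟩ _ _ a hgN' hgL' ha.symm)
  set I := ClSub.idealMod (Fitt.sheafIdeal S.X₃ 0)
  have i1 : S.X₁ ≅ CohB1.tensorMod S.X₁ (Coh.structureModule X) := (runitI S.X₁).symm
  have i2 : CohB1.tensorMod S.X₁ (Coh.structureModule X) ≅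
      CohB1.tensorMod S.X₁ (CohB1.tensorMod (CohB1.tensorMod Ni S.X₂) I) :=
    tensorIsoRight S.X₁ iso₁
  have i3 : CohB1.tensorMod S.X₁ (CohB1.tensorMod (CohB1.tensorMod Ni S.X₂) I) ≅
      CohB1.tensorMod S.X₁ (CohB1.tensorMod Ni (CohB1.tensorMod S.X₂ I)) :=
    tensorIsoRight S.X₁ (assocI Ni S.X₂ I)
  have i4 : CohB1.tensorMod S.X₁ (CohB1.tensorMod Ni (CohB1.tensorMod S.X₂ I)) ≅
      CohB1.tensorMod S.X₂ I := cancelIso S.X₁ Ni e₀ _
  exact ⟨(i1 ≪≫ i2 ≪≫ i3 ≪≫ i4).symm⟩

end Part2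

section Part3

open CategoryTheory CategoryTheory.Limits AlgebraicGeometry TopologicalSpace Opposite
open Groth.Agent.Lib.R2H1.RiemannHurwitz Groth.Agent.Lib.R2H1.OmegaCurve
  Groth.Agent.Lib.R2H1.OmegaDual


/-- `K_X ~ f^* K_Y + R` with `R` the ramification divisor (zeroth Fitting ideal of `Ω_{X/Y}`) -/
theorem main (k : Type u) [Field k] [IsAlgClosed k] (X : Scheme.{u})
    [X.Over (Spec (CommRingCat.of k))]
    [IsIntegral X] [IsProper (X ↘ (Spec (CommRingCat.of k)))] (hdimX : topologicalKrullDim X = 1)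
    (hregX : ∀ x : X, IsRegularLocalRing (X.presheaf.stalk x))
    (Y : Scheme.{u}) [Y.Over (Spec (CommRingCat.of k))]
    [IsIntegral Y] [IsProper (Y ↘ (Spec (CommRingCat.of k)))] (hdimY : topologicalKrullDim Y = 1)
    (hregY : ∀ x : Y, IsRegularLocalRing (Y.presheaf.stalk x))
    (f : X ⟶ Y) [IsFinite f]
    (hf : f ≫ (Y ↘ (Spec (CommRingCat.of k))) = X ↘ (Spec (CommRingCat.of k)))
    (e : f (genericPoint X) = genericPoint Y)
    (hsep : letI := ((Y.presheaf.stalkSpecializes (specializes_of_eq e) ≫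
        f.stalkMap (genericPoint X)).hom).toAlgebra
      Algebra.IsSeparable Y.functionField X.functionField) :
    Nonempty (CohB1.tensorMod (Omega.sheaf (X ↘ (Spec (CommRingCat.of k))))
        (ClSub.idealMod (Fitt.sheafIdeal (Omega.sheaf f) 0)) ≅
      (Scheme.Modules.pullback f).obj (Omega.sheaf (Y ↘ (Spec (CommRingCat.of k))))) := by
  haveI := Groth.Agent.Lib.R2H1.SmoothCompl.smooth_of_normal k Y hdimY
    (isNormalScheme_of_regular Y hregY)
  obtain ⟨c, hmono, ⟨ι⟩⟩ := exists_mono_cotangent k (X ↘ Spec (CommRingCat.of k))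
    (Y ↘ Spec (CommRingCat.of k)) f hf (denseRange_of_map_genericPoint f e)
    (isSeparable_residueField_of_functionField f e hsep)
  have hN := Groth.Agent.Lib.Helper23.PB.isInvertible_pullback f _ (isInvertible_Om k Y hdimY hregY)
  have hL := isInvertible_Om k X hdimX hregX
  let S : ShortComplex X.Modules := ShortComplex.mk c (cokernel.π c ≫ ι.hom) (by
    rw [← Category.assoc, cokernel.condition, zero_comp])
  let S₀ : ShortComplex X.Modules := ShortComplex.mk c (cokernel.π c) (cokernel.condition c)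
  have hS₀ : S₀.ShortExact :=
    { exact := ShortComplex.exact_cokernel c
      mono_f := hmono
      epi_g := inferInstanceAs (Epi (cokernel.π c)) }
  have hS : S.ShortExact := by
    refine ShortComplex.shortExact_of_iso (S₁ := S₀) (S₂ := S)
      (ShortComplex.isoMk (Iso.refl _) (Iso.refl _) ι ?_ ?_) hS₀
    · simp [S, S₀]
    · simp [S, S₀]
  haveI : (Omega.sheaf f).IsQuasicoherent :=
    Groth.Agent.Lib.Helper20.OmegaQCoh.isQuasicoherent_omega f
  haveI : S.X₃.IsQuasicoherent := ‹(Omega.sheaf f).IsQuasicoherent›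
  exact nonempty_iso_of_shortExact S hS hN hL
    (fun V => Groth.Agent.Lib.Helper20.OmegaQCoh.finite_sections_omega f V.2)

end Part3

end Groth.Agent.Lib.R2H1.RamFitt
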