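/-
R2H1ResExtDVR (helper1): for a DVR R and an algebraic extension k' of its residue field there is a DVR extension of ramification index 1 with residue field k', all of whose elements are separable algebraic over Frac R (Zorn on subalgebras of AlgebraicClosure K × k'). exists_rep_of_monic, isUnit_one_add_of_mem_maximalIdeal, isUnit_aeval', isUnif_ext', Good, good_bot/iSup/adjoin/ext, exists_lift_poly, exists_max, main_7898.
-/
import Mathlib
import Groth.Agent.Lib.R2H1PerfClosDVR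

set_option autoImplicit false
set_option linter.style.haveILetI false
set_option linter.unusedSectionVars false
universe u

namespace Groth.Agent.Lib.R2H1.ResExtDVR

section Part1

open Polynomial IsLocalRing
open Groth.Agent.Lib.R2H1.PerfClosDVR

section abstract
variable {A B : Type*} [CommRing A] [CommRing B] [Algebra A B]

/-- Elements of `A[θ]`, `θ` a root of the monic `f`, are values of polynomials of degree `< deg f`. -/
theorem exists_rep_of_monic [Nontrivial A] (f : A[X]) (hf : f.Monic) (θ : B)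
    (hθ : aeval θ f = 0) (y : B) (hy : y ∈ Algebra.adjoin A {θ}) :
    ∃ r : A[X], r.degree < f.degree ∧ y = aeval θ r := by
  rw [Algebra.adjoin_singleton_eq_range_aeval] at hy
  obtain ⟨q, rfl⟩ := hy
  refine ⟨q %ₘ f, degree_modByMonic_lt q hf, ?_⟩
  change aeval θ q = _
  conv_lhs => rw [← modByMonic_add_div q f]
  rw [map_add, map_mul, hθ, zero_mul, add_zero]

/-- The maximal ideal of a local ring lands in the Jacobson radical of an integral extension. -/
theorem isUnit_one_add_of_mem_maximalIdeal [IsLocalRing A] [Algebra.IsIntegral A B] (x : A)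
    (hx : x ∈ maximalIdeal A) (b : B) : IsUnit (1 + algebraMap A B x * b) := by
  have h : algebraMap A B x ∈ Ideal.jacobson (⊥ : Ideal B) := by
    rw [Ideal.jacobson, Ideal.mem_sInf]
    intro M hM
    obtain ⟨-, hMmax⟩ := hM
    haveI := hMmax
    have hc : (M.comap (algebraMap A B)).IsMaximal :=
      Ideal.isMaximal_comap_of_isIntegral_of_isMaximal (R := A) M
    have h1 : M.comap (algebraMap A B) = maximalIdeal A := IsLocalRing.eq_maximalIdeal hc
    have hx' : x ∈ M.comap (algebraMap A B) := by rw [h1]; exact hx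
    exact hx'
  have h2 := Ideal.mem_jacobson_bot.1 h b
  rwa [add_comm] at h2

theorem isUnit_aeval' [IsLocalRing A] [Algebra.IsIntegral A B] {π : A} (hU : IsUnif A π)
    (f : A[X]) (hf : f.Monic) (hirr : Irreducible (f.map (residue A))) (θ : B)
    (hθ : aeval θ f = 0) (r : A[X]) (hdeg : r.degree < f.degree)
    (hunit : ∃ i, IsUnit (r.coeff i)) : IsUnit (aeval θ r) := by
  obtain ⟨fb, hfb⟩ : ∃ fb, fb = f.map (residue A) := ⟨_, rfl⟩
  obtain ⟨rb, hrb⟩ : ∃ rb, rb = r.map (residue A) := ⟨_, rfl⟩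
  rw [← hfb] at hirr
  have hrb0 : rb ≠ 0 := by
    obtain ⟨i, hi⟩ := hunit
    intro h0
    have h1 : rb.coeff i = 0 := by rw [h0, coeff_zero]
    rw [hrb, coeff_map, residue_eq_zero_iff, mem_maximalIdeal, mem_nonunits_iff] at h1
    exact h1 hi
  have hdegf : fb.degree = f.degree := by rw [hfb]; exact hf.degree_map (residue A)
  have hdegb : rb.degree < fb.degree := by
    rw [hdegf, hrb]; exact lt_of_le_of_lt degree_map_le hdeg
  have hndvd : ¬ fb ∣ rb := by
    intro hd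
    have h1 := degree_le_of_dvd hd hrb0
    exact absurd (lt_of_le_of_lt h1 hdegb) (lt_irrefl _)
  obtain ⟨ub, vb, huv⟩ : IsCoprime fb rb := hirr.coprime_iff_not_dvd.2 hndvd
  obtain ⟨u, hu⟩ := map_surjective (residue A) residue_surjective ub
  obtain ⟨v, hv⟩ := map_surjective (residue A) residue_surjective vb
  have hq : (u * f + v * r - 1).map (residue A) = 0 := by
    rw [Polynomial.map_sub, Polynomial.map_add, Polynomial.map_mul, Polynomial.map_mul, hu, hv,
      Polynomial.map_one, ← hfb, ← hrb, huv, sub_self]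
  have hdvd : C π ∣ (u * f + v * r - 1) := by
    rw [← Ideal.mem_span_singleton, ← Set.image_singleton, ← Ideal.map_span, Ideal.mem_map_C_iff]
    intro n
    rw [← hU.maximalIdeal_eq, ← residue_eq_zero_iff, ← coeff_map, hq, coeff_zero]
  obtain ⟨w, hw⟩ := hdvd
  have hev : aeval θ v * aeval θ r = 1 + algebraMap A B π * aeval θ w := by
    have h1 := congrArg (aeval θ) hw
    rw [map_sub, map_add, map_mul, map_mul, hθ, mul_zero, zero_add, map_one, map_mul,
      aeval_C] at h1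
    rw [← h1]; ring
  have hπm : π ∈ maximalIdeal A := (mem_maximalIdeal π).2 hU.1
  have hunit' := isUnit_one_add_of_mem_maximalIdeal (B := B) π hπm (aeval θ w)
  rw [← hev] at hunit'
  exact isUnit_of_mul_isUnit_right hunit'

theorem aeval_eq_unit_mul' [IsDomain A] [IsLocalRing A] [Algebra.IsIntegral A B] {π : A}
    (hU : IsUnif A π) (hπ0 : π ≠ 0)
    (f : A[X]) (hf : f.Monic) (hirr : Irreducible (f.map (residue A))) (θ : B)
    (hθ : aeval θ f = 0) (r : A[X]) (hr : r ≠ 0) (hdeg : r.degree < f.degree) :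
    ∃ (n : ℕ) (u : Bˣ), aeval θ r = (algebraMap A B π) ^ n * u := by
  obtain ⟨n, r', hrr', hunit⟩ := hU.exists_prim r hr
  have hc : (π ^ n : A) ≠ 0 := pow_ne_zero _ hπ0
  have hdeg' : r'.degree < f.degree := by
    rw [hrr', degree_C_mul hc] at hdeg; exact hdeg
  obtain ⟨u, hu⟩ := isUnit_aeval' hU f hf hirr θ hθ r' hdeg' hunit
  refine ⟨n, u, ?_⟩
  rw [hrr', map_mul, aeval_C, map_pow, hu]

theorem isUnif_ext' [IsDomain A] [IsLocalRing A] [Algebra.IsIntegral A B] {π : A}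
    (hU : IsUnif A π) (hπ0 : π ≠ 0)
    (f : A[X]) (hf : f.Monic) (hirr : Irreducible (f.map (residue A))) (θ : B)
    (hθ : aeval θ f = 0) (hnu : ¬ IsUnit (algebraMap A B π))
    (hrep : ∀ y : B, ∃ r : A[X], r.degree < f.degree ∧ y = aeval θ r) :
    IsUnif B (algebraMap A B π) := by
  refine ⟨hnu, fun y hy => ?_⟩
  obtain ⟨r, hdeg, rfl⟩ := hrep y
  have hr : r ≠ 0 := by
    intro h0
    apply hy
    rw [h0, map_zero]
  exact aeval_eq_unit_mul' hU hπ0 f hf hirr θ hθ r hr hdeg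

theorem aeval_ne_zero' [IsDomain A] [IsLocalRing A] [Algebra.IsIntegral A B] {π : A}
    (hU : IsUnif A π) (hπ0 : π ≠ 0)
    (f : A[X]) (hf : f.Monic) (hirr : Irreducible (f.map (residue A))) (θ : B)
    (hθ : aeval θ f = 0) (hpow : ∀ n : ℕ, ∀ u : Bˣ, (algebraMap A B π) ^ n * u ≠ 0)
    (r : A[X]) (hr : r ≠ 0) (hdeg : r.degree < f.degree) : aeval θ r ≠ 0 := by
  obtain ⟨n, u, hu⟩ := aeval_eq_unit_mul' hU hπ0 f hf hirr θ hθ r hr hdeg
  rw [hu]; exact hpow n u

end abstract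

end Part1

section Part2

open Polynomial IsLocalRing
open Groth.Agent.Lib.R2H1.PerfClosDVR

section defs
variable (R : Type u) [CommRing R] (K : Type u) [Field K] (Ω : Type u) [Field Ω] [Algebra K Ω]
  [Algebra R Ω] (k' : Type u) [Field k'] [Algebra R k'] (π : R)

/-- The class of subalgebras of `Ω × k'` over which we run Zorn's lemma. -/
structure Good (Γ : Subalgebra R (Ω × k')) : Prop where
  unif : IsUnif Γ (algebraMap R Γ π)
  sep : ∀ z ∈ Γ, IsSeparable K (z : Ω × k').1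

end defs

section basic
variable {R : Type u} [CommRing R] {Ω : Type u} [Field Ω] [Algebra R Ω]
  {k' : Type u} [Field k'] [Algebra R k'] {π : R}
  (hΩπ : algebraMap R Ω π ≠ 0) (hπk : algebraMap R k' π = 0)
  (Γ : Subalgebra R (Ω × k')) (hU : IsUnif Γ (algebraMap R Γ π))

theorem unit_fst_ne (u : Γˣ) : ((u : Γ) : Ω × k').1 ≠ 0 := by
  intro h0
  have h1 : (u : Γ) * ((u⁻¹ : Γˣ) : Γ) = 1 := u.mul_inv
  have h2 : ((u : Γ) : Ω × k') * (((u⁻¹ : Γˣ) : Γ) : Ω × k') = 1 := congrArg Subtype.val h1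
  have h3 := congrArg Prod.fst h2
  rw [Prod.fst_mul, h0, zero_mul] at h3
  exact zero_ne_one h3

theorem unit_snd_ne (u : Γˣ) : ((u : Γ) : Ω × k').2 ≠ 0 := by
  intro h0
  have h1 : (u : Γ) * ((u⁻¹ : Γˣ) : Γ) = 1 := u.mul_inv
  have h2 : ((u : Γ) : Ω × k') * (((u⁻¹ : Γˣ) : Γ) : Ω × k') = 1 := congrArg Subtype.val h1
  have h3 := congrArg Prod.snd h2
  rw [Prod.snd_mul, h0, zero_mul] at h3
  exact zero_ne_one h3

theorem coe_pi_fst : ((algebraMap R Γ π : Γ) : Ω × k').1 = algebraMap R Ω π := rfl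

theorem coe_pi_snd : ((algebraMap R Γ π : Γ) : Ω × k').2 = algebraMap R k' π := rfl

include hΩπ hU in
theorem fst_ne_zero (z : Γ) (hz : z ≠ 0) : (z : Ω × k').1 ≠ 0 := by
  obtain ⟨n, u, rfl⟩ := hU.2 z hz
  have h1 : ((algebraMap R Γ π ^ n * (u : Γ) : Γ) : Ω × k').1 =
      algebraMap R Ω π ^ n * ((u : Γ) : Ω × k').1 := by
    simp only [MulMemClass.coe_mul, SubmonoidClass.coe_pow, Prod.fst_mul, Prod.pow_fst]
    rw [coe_pi_fst]
  rw [h1]
  exact mul_ne_zero (pow_ne_zero _ hΩπ) (unit_fst_ne Γ u)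

include hπk hU in
theorem snd_eq_zero_iff (z : Γ) : (z : Ω × k').2 = 0 ↔ ¬ IsUnit z := by
  constructor
  · intro h0 hu
    exact unit_snd_ne Γ hu.unit h0
  · intro hnu
    have h1 := hU.mem_span_of_not_isUnit hnu
    rw [Ideal.mem_span_singleton] at h1
    obtain ⟨c, rfl⟩ := h1
    simp only [MulMemClass.coe_mul, Prod.snd_mul]
    rw [coe_pi_snd, hπk, zero_mul]

/-- first projection restricted to `Γ`. -/
def fstΓ : Γ →+* Ω := (RingHom.fst Ω k').comp (algebraMap Γ (Ω × k'))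

/-- second projection restricted to `Γ`. -/
def sndΓ : Γ →+* k' := (RingHom.snd Ω k').comp (algebraMap Γ (Ω × k'))

theorem fstΓ_apply (z : Γ) : fstΓ Γ z = (z : Ω × k').1 := rfl

theorem sndΓ_apply (z : Γ) : sndΓ Γ z = (z : Ω × k').2 := rfl

include hΩπ hU in
theorem fstΓ_injective : Function.Injective (fstΓ Γ) := by
  rw [injective_iff_map_eq_zero]
  intro z hz
  by_contra hne
  exact fst_ne_zero hΩπ Γ hU z hne hz

include hΩπ hU in
theorem isDomain_of_isUnif : IsDomain Γ :=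
  (fstΓ_injective hΩπ Γ hU).isDomain (fstΓ Γ)

include hπk hU in
theorem isLocalHom_sndΓ : IsLocalHom (sndΓ Γ) := by
  refine ⟨fun z hz => ?_⟩
  by_contra hnu
  have h0 := (snd_eq_zero_iff hπk Γ hU z).2 hnu
  rw [sndΓ_apply, h0] at hz
  exact not_isUnit_zero hz

end basic

section zorn
variable (R : Type u) [CommRing R] [IsDomain R] [IsDiscreteValuationRing R]
  (K : Type u) [Field K] [Algebra R K] [IsFractionRing R K]
  (Ω : Type u) [Field Ω] [Algebra K Ω] [Algebra R Ω] [IsScalarTower R K Ω]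
  (k' : Type u) [Field k'] [Algebra R k']
  (π : R) (hπ : Irreducible π)

include K in
theorem algebraMap_injective_Ω : Function.Injective (algebraMap R Ω) := by
  rw [IsScalarTower.algebraMap_eq R K Ω]
  exact (algebraMap K Ω).injective.comp (IsFractionRing.injective R K)

include hπ in
theorem good_bot : Good R K Ω k' π (⊥ : Subalgebra R (Ω × k')) := by
  have hΩ := algebraMap_injective_Ω R K Ω
  have hinjbot : Function.Injective (algebraMap R (⊥ : Subalgebra R (Ω × k'))) := by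
    intro x y hxy
    have h1 : algebraMap R (Ω × k') x = algebraMap R (Ω × k') y := congrArg Subtype.val hxy
    exact hΩ (congrArg Prod.fst h1)
  have hsurj : ∀ y : (⊥ : Subalgebra R (Ω × k')),
      ∃ r : R, algebraMap R (⊥ : Subalgebra R (Ω × k')) r = y := by
    intro y
    obtain ⟨r, hr⟩ := Algebra.mem_bot.1 y.2
    exact ⟨r, Subtype.ext hr⟩
  refine ⟨⟨?_, ?_⟩, ?_⟩
  · intro hu
    obtain ⟨v, hv⟩ := isUnit_iff_exists_inv.1 hu
    obtain ⟨r, rfl⟩ := hsurj v
    rw [← map_mul, ← map_one (algebraMap R (⊥ : Subalgebra R (Ω × k')))] at hv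
    exact hπ.not_isUnit (isUnit_iff_exists_inv.2 ⟨r, hinjbot hv⟩)
  · intro y hy
    obtain ⟨r, rfl⟩ := hsurj y
    have hr : r ≠ 0 := by rintro rfl; exact hy (map_zero _)
    obtain ⟨n, u, hu⟩ := IsDiscreteValuationRing.eq_unit_mul_pow_irreducible hr hπ
    refine ⟨n, Units.map (algebraMap R (⊥ : Subalgebra R (Ω × k'))).toMonoidHom u, ?_⟩
    rw [hu, map_mul, map_pow, mul_comm]
    rfl
  · intro z hz
    obtain ⟨r, rfl⟩ := Algebra.mem_bot.1 hz
    have h1 : (algebraMap R (Ω × k') r).1 = algebraMap K Ω (algebraMap R K r) := by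
      rw [← IsScalarTower.algebraMap_apply]; rfl
    rw [h1]
    exact isSeparable_algebraMap _

theorem good_iSup (c : Set (Subalgebra R (Ω × k'))) (hc : IsChain (· ≤ ·) c) (hne : c.Nonempty)
    (hgood : ∀ S ∈ c, Good R K Ω k' π S) :
    Good R K Ω k' π (⨆ S : c, (S : Subalgebra R (Ω × k'))) := by
  haveI : Nonempty c := hne.to_subtype
  have hdir : Directed (· ≤ ·) (fun S : c => (S : Subalgebra R (Ω × k'))) :=
    hc.directedOn.directed_val
  set ub : Subalgebra R (Ω × k') := ⨆ S : c, (S : Subalgebra R (Ω × k')) with hub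
  have hmem : ∀ x : Ω × k', x ∈ ub ↔ ∃ S : c, x ∈ (S : Subalgebra R (Ω × k')) := by
    intro x
    rw [← SetLike.mem_coe, hub, Subalgebra.coe_iSup_of_directed hdir, Set.mem_iUnion]
    rfl
  have hle : ∀ S : c, (S : Subalgebra R (Ω × k')) ≤ ub :=
    fun S => le_iSup (fun S : c => (S : Subalgebra R (Ω × k'))) S
  refine ⟨⟨?_, ?_⟩, ?_⟩
  · intro hu
    obtain ⟨v, hv⟩ := isUnit_iff_exists_inv.1 hu
    obtain ⟨S, hvS⟩ := (hmem v.1).1 v.2
    apply (hgood S S.2).unif.1
    refine isUnit_iff_exists_inv.2 ⟨⟨v.1, hvS⟩, ?_⟩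
    apply Subtype.ext
    have h3 : algebraMap R (Ω × k') π * (v : Ω × k') = 1 := congrArg Subtype.val hv
    exact h3
  · intro y hy
    obtain ⟨S, hyS⟩ := (hmem y.1).1 y.2
    have hy' : (⟨y.1, hyS⟩ : (S : Subalgebra R (Ω × k'))) ≠ 0 := by
      intro h0; apply hy; apply Subtype.ext
      have h4 : (y : Ω × k') = 0 := congrArg Subtype.val h0
      exact h4
    obtain ⟨n, u, hu⟩ := (hgood S S.2).unif.2 _ hy'
    let ι := Subalgebra.inclusion (hle S)
    refine ⟨n, Units.map ι.toRingHom.toMonoidHom u, ?_⟩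
    have h1 : y = ι ⟨y.1, hyS⟩ := Subtype.ext rfl
    rw [h1, hu, map_mul, map_pow, AlgHom.commutes]
    rfl
  · intro z hz
    obtain ⟨S, hzS⟩ := (hmem z).1 hz
    exact (hgood S S.2).sep z hzS

end zorn

end Part2

section Part3

open Polynomial IsLocalRing
open Groth.Agent.Lib.R2H1.PerfClosDVR

section basic2
variable {R : Type u} [CommRing R] {Ω : Type u} [Field Ω] [Algebra R Ω]
  {k' : Type u} [Field k'] [Algebra R k'] {π : R}
  (hΩπ : algebraMap R Ω π ≠ 0) (Γ : Subalgebra R (Ω × k'))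

include hΩπ in
theorem fst_pow_mul_unit_ne (n : ℕ) (u : Γˣ) :
    ((algebraMap R Γ π ^ n * (u : Γ) : Γ) : Ω × k').1 ≠ 0 := by
  have h1 : ((algebraMap R Γ π ^ n * (u : Γ) : Γ) : Ω × k').1 =
      algebraMap R Ω π ^ n * ((u : Γ) : Ω × k').1 := by
    simp only [MulMemClass.coe_mul, SubmonoidClass.coe_pow, Prod.fst_mul, Prod.pow_fst]
    rw [coe_pi_fst]
  rw [h1]
  exact mul_ne_zero (pow_ne_zero _ hΩπ) (unit_fst_ne Γ u)

theorem fst_aeval (f : Γ[X]) (θ' : Ω × k') : (aeval θ' f).1 = eval₂ (fstΓ Γ) θ'.1 f := by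
  rw [aeval_def]
  exact hom_eval₂ f (algebraMap Γ (Ω × k')) (RingHom.fst Ω k') θ'

theorem snd_aeval (f : Γ[X]) (θ' : Ω × k') : (aeval θ' f).2 = eval₂ (sndΓ Γ) θ'.2 f := by
  rw [aeval_def]
  exact hom_eval₂ f (algebraMap Γ (Ω × k')) (RingHom.snd Ω k') θ'

end basic2

section ext
variable (R : Type u) [CommRing R] [IsDomain R] [IsDiscreteValuationRing R]
  (K : Type u) [Field K] [Algebra R K] [IsFractionRing R K]
  (Ω : Type u) [Field Ω] [Algebra K Ω] [Algebra R Ω] [IsScalarTower R K Ω]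
  (k' : Type u) [Field k'] [Algebra R k']
  (π : R) (hπ : Irreducible π) (hπk : algebraMap R k' π = 0)

include hπ hπk in
theorem good_adjoin_unif (Γ : Subalgebra R (Ω × k')) (hΓ : Good R K Ω k' π Γ)
    [IsLocalRing Γ] [IsDomain Γ]
    (f : Γ[X]) (hf : f.Monic) (hirr : Irreducible (f.map (residue Γ)))
    (θ' : Ω × k') (hθ' : aeval θ' f = 0)
    (Γ' : Subalgebra R (Ω × k')) (hΓ' : ∀ x, x ∈ Γ' ↔ x ∈ Algebra.adjoin Γ {θ'}) :
    IsUnif Γ' (algebraMap R Γ' π) ∧
    (∀ r : Γ[X], r ≠ 0 → r.degree < f.degree → (aeval θ' r).1 ≠ 0) := by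
  classical
  have hΩ := algebraMap_injective_Ω R K Ω
  have hΩπ : algebraMap R Ω π ≠ 0 := fun h => hπ.ne_zero (hΩ (by rw [h, map_zero]))
  have hle : Γ ≤ Γ' := by
    intro x hx
    rw [hΓ']
    exact Subalgebra.algebraMap_mem _ (⟨x, hx⟩ : Γ)
  letI algΓΓ' : Algebra Γ Γ' := (Subalgebra.inclusion hle).toRingHom.toAlgebra
  haveI : IsScalarTower R Γ Γ' := IsScalarTower.of_algebraMap_eq (fun r => rfl)
  have hθΓ' : θ' ∈ Γ' := by
    rw [hΓ']; exact Algebra.subset_adjoin (Set.mem_singleton θ')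
  obtain ⟨θ'', hθ''⟩ : ∃ θ'' : Γ', (θ'' : Ω × k') = θ' := ⟨⟨θ', hθΓ'⟩, rfl⟩
  let ιS : Γ' →ₐ[Γ] (Ω × k') := { toRingHom := Γ'.val.toRingHom, commutes' := fun _ => rfl }
  have hcoe : ∀ r : Γ[X], ((aeval θ'' r : Γ') : Ω × k') = aeval θ' r := by
    intro r
    have h1 := Polynomial.aeval_algHom_apply ιS θ'' r
    rw [← hθ'']
    exact h1.symm
  have hθ0 : aeval θ'' f = 0 := Subtype.ext (by rw [hcoe, hθ']; rfl)
  obtain ⟨πΓ, hπΓ⟩ : ∃ πΓ : Γ, πΓ = algebraMap R Γ π := ⟨_, rfl⟩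
  have hπΓ0 : πΓ ≠ 0 := by
    intro h0
    rw [hπΓ] at h0
    have h1 : algebraMap R (Ω × k') π = 0 := congrArg Subtype.val h0
    exact hΩπ (congrArg Prod.fst h1)
  have hθint : IsIntegral Γ θ' := ⟨f, hf, by rw [← aeval_def]; exact hθ'⟩
  haveI : Algebra.IsIntegral Γ Γ' := by
    refine ⟨fun y => ?_⟩
    have hy : y.1 ∈ integralClosure Γ (Ω × k') :=
      adjoin_le_integralClosure hθint ((hΓ' y.1).1 y.2)
    exact (isIntegral_algHom_iff ιS Subtype.val_injective).1 hy
  have hrep : ∀ y : Γ', ∃ r : Γ[X], r.degree < f.degree ∧ y = aeval θ'' r := by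
    intro y
    obtain ⟨r, hdeg, hr⟩ := exists_rep_of_monic f hf θ' hθ' y.1 ((hΓ' y.1).1 y.2)
    exact ⟨r, hdeg, Subtype.ext (by rw [hcoe]; exact hr)⟩
  have hUΓ : IsUnif Γ πΓ := by rw [hπΓ]; exact hΓ.unif
  have hπΓ' : algebraMap Γ Γ' πΓ = algebraMap R Γ' π := by
    rw [hπΓ]; exact (IsScalarTower.algebraMap_apply R Γ Γ' π).symm
  have hnu : ¬ IsUnit (algebraMap Γ Γ' πΓ) := by
    rw [hπΓ']
    intro hu
    have h1 := hu.map (sndΓ Γ')
    rw [sndΓ_apply, coe_pi_snd, hπk] at h1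
    exact not_isUnit_zero h1
  have hU' := isUnif_ext' hUΓ hπΓ0 f hf hirr θ'' hθ0 hnu hrep
  refine ⟨by rw [← hπΓ']; exact hU', ?_⟩
  intro r hr hdeg
  obtain ⟨n, u, hu⟩ := aeval_eq_unit_mul' hUΓ hπΓ0 f hf hirr θ'' hθ0 r hr hdeg
  rw [← hcoe, hu, hπΓ']
  exact fst_pow_mul_unit_ne hΩπ Γ' n u

include hπ hπk in
theorem good_adjoin (Γ : Subalgebra R (Ω × k')) (hΓ : Good R K Ω k' π Γ)
    [IsLocalRing Γ] [IsDomain Γ]
    (f : Γ[X]) (hf : f.Monic) (hirr : Irreducible (f.map (residue Γ)))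
    (hder : derivative f ≠ 0)
    (θ' : Ω × k') (hθ' : aeval θ' f = 0)
    (Γ' : Subalgebra R (Ω × k')) (hΓ' : ∀ x, x ∈ Γ' ↔ x ∈ Algebra.adjoin Γ {θ'}) :
    Good R K Ω k' π Γ' := by
  obtain ⟨hU', hne⟩ := good_adjoin_unif R K Ω k' π hπ hπk Γ hΓ f hf hirr θ' hθ' Γ' hΓ'
  refine ⟨hU', ?_⟩
  have hfne : f ≠ 0 := hf.ne_zero
  have hd := hne (derivative f) hder (degree_derivative_lt hfne)
  have hΓF : ∀ z : Γ, fstΓ Γ z ∈ separableClosure K Ω :=
    fun z => mem_separableClosure_iff.2 (hΓ.sep z.1 z.2)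
  let φF : Γ →+* separableClosure K Ω := (fstΓ Γ).codRestrict (separableClosure K Ω) hΓF
  have hφF : (algebraMap (separableClosure K Ω) Ω).comp φF = fstΓ Γ := RingHom.ext fun z => rfl
  obtain ⟨θ, hθdef⟩ : ∃ θ : Ω, θ = θ'.1 := ⟨_, rfl⟩
  obtain ⟨fF, hfF⟩ : ∃ fF : (separableClosure K Ω)[X], fF = f.map φF := ⟨_, rfl⟩
  have hroot : aeval θ fF = 0 := by
    rw [hfF, aeval_def, eval₂_map, hφF, hθdef, ← fst_aeval, hθ']; rfl
  have hder' : aeval θ (derivative fF) ≠ 0 := by
    rw [hfF, derivative_map, aeval_def, eval₂_map, hφF, hθdef, ← fst_aeval]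
    exact hd
  have hfFmonic : fF.Monic := by rw [hfF]; exact hf.map φF
  have hint : IsIntegral (separableClosure K Ω) θ :=
    ⟨fF, hfFmonic, by rw [← aeval_def]; exact hroot⟩
  have hsepF : IsSeparable (separableClosure K Ω) θ := by
    have hmirr := minpoly.irreducible hint
    rw [IsSeparable, Polynomial.separable_iff_derivative_ne_zero hmirr]
    intro h0
    obtain ⟨g, hg⟩ := minpoly.dvd (separableClosure K Ω) θ hroot
    apply hder'
    rw [hg, derivative_mul, h0, zero_mul, zero_add, map_mul, minpoly.aeval, zero_mul]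
  have hsepK : IsSeparable K θ := IsSeparable.of_algebra_isSeparable_of_isSeparable K hsepF
  intro z hz
  rw [hΓ'] at hz
  rw [← mem_separableClosure_iff]
  induction hz using Algebra.adjoin_induction with
  | mem x hx =>
    rw [Set.mem_singleton_iff] at hx
    rw [hx, ← hθdef]
    exact mem_separableClosure_iff.2 hsepK
  | algebraMap r => exact hΓF r
  | add x y _ _ hx hy =>
    rw [Prod.fst_add]; exact add_mem hx hy
  | mul x y _ _ hx hy =>
    rw [Prod.fst_mul]; exact mul_mem hx hy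

end ext

end Part3

section Part4

open Polynomial IsLocalRing
open Groth.Agent.Lib.R2H1.PerfClosDVR

section ext2
variable (R : Type u) [CommRing R] [IsDomain R] [IsDiscreteValuationRing R]
  (K : Type u) [Field K] [Algebra R K] [IsFractionRing R K]
  (Ω : Type u) [Field Ω] [Algebra K Ω] [Algebra R Ω] [IsScalarTower R K Ω]
  (k' : Type u) [Field k'] [Algebra R k']
  (π : R) (hπ : Irreducible π) (hπk : algebraMap R k' π = 0)
  (halg : ∀ α : k', IsIntegral R α)

include hπ hπk halg in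
theorem exists_lift_poly (Γ : Subalgebra R (Ω × k')) (hΓ : Good R K Ω k' π Γ)
    [IsLocalRing Γ] [IsDomain Γ] (α : k') (hα : ∀ z : Γ, (z : Ω × k').2 ≠ α) :
    ∃ f : Γ[X], f.Monic ∧ Irreducible (f.map (residue Γ)) ∧ derivative f ≠ 0 ∧
      eval₂ (sndΓ Γ) α f = 0 ∧ f.degree ≠ 0 := by
  have hΩ := algebraMap_injective_Ω R K Ω
  have hΩπ : algebraMap R Ω π ≠ 0 := fun h => hπ.ne_zero (hΩ (by rw [h, map_zero]))
  haveI : IsLocalHom (sndΓ Γ) := isLocalHom_sndΓ hπk Γ hΓ.unif
  let ψ : ResidueField Γ →+* k' := ResidueField.lift (sndΓ Γ)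
  have hψ : ∀ z : Γ, ψ (residue Γ z) = (z : Ω × k').2 :=
    fun z => ResidueField.lift_residue_apply (sndΓ Γ) z
  letI : Algebra (ResidueField Γ) k' := ψ.toAlgebra
  have hint : IsIntegral (ResidueField Γ) α := by
    obtain ⟨g, hg, hg0⟩ := halg α
    refine ⟨(g.map (algebraMap R Γ)).map (residue Γ), (hg.map _).map _, ?_⟩
    rw [eval₂_map, eval₂_map]
    have h1 : ((algebraMap (ResidueField Γ) k').comp (residue Γ)).comp (algebraMap R Γ) =
        algebraMap R k' := by
      ext r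
      simp only [RingHom.comp_apply]
      exact hψ (algebraMap R Γ r)
    rw [h1]; exact hg0
  obtain ⟨fb, hfb⟩ : ∃ fb, fb = minpoly (ResidueField Γ) α := ⟨_, rfl⟩
  have hfbm : fb.Monic := by rw [hfb]; exact minpoly.monic hint
  have hfbirr : Irreducible fb := by rw [hfb]; exact minpoly.irreducible hint
  have hnr : α ∉ (algebraMap (ResidueField Γ) k').range := by
    rintro ⟨x, hx⟩
    obtain ⟨z, rfl⟩ := residue_surjective x
    exact hα z ((hψ z).symm.trans hx)
  have h2 : 2 ≤ fb.natDegree := by rw [hfb]; exact (minpoly.two_le_natDegree_iff hint).2 hnr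
  obtain ⟨f, hfmap, hfdeg, hfm⟩ := lifts_and_natDegree_eq_and_monic
    ((mem_lifts fb).2 (map_surjective (residue Γ) residue_surjective fb)) hfbm
  have hπres : residue Γ (algebraMap R Γ π) = 0 :=
    (residue_eq_zero_iff _).2 ((mem_maximalIdeal _).2 hΓ.unif.1)
  have hπΓ0 : algebraMap R Γ π ≠ 0 := by
    intro h0
    have h1 : algebraMap R (Ω × k') π = 0 := congrArg Subtype.val h0
    exact hΩπ (congrArg Prod.fst h1)
  have hroot : ∀ f' : Γ[X], f'.map (residue Γ) = fb → eval₂ (sndΓ Γ) α f' = 0 := by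
    intro f' hf'
    have h1 : sndΓ Γ = ψ.comp (residue Γ) := RingHom.ext fun z => (hψ z).symm
    rw [h1, ← eval₂_map, hf', hfb]
    exact minpoly.aeval (ResidueField Γ) α
  have hdegne : ∀ f' : Γ[X], f'.Monic → f'.map (residue Γ) = fb → f'.degree ≠ 0 := by
    intro f' hf'm hf' h0
    have h3 : f'.natDegree = fb.natDegree := by rw [← hf', hf'm.natDegree_map]
    have h4 : f'.natDegree = 0 := natDegree_eq_zero_iff_degree_le_zero.2 (le_of_eq h0)
    omega
  by_cases hd : derivative f = 0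
  · have hmap' : (f + C (algebraMap R Γ π) * X).map (residue Γ) = fb := by
      rw [Polynomial.map_add, Polynomial.map_mul, map_C, map_X, hπres, C_0, zero_mul, add_zero,
        hfmap]
    have hmon' : (f + C (algebraMap R Γ π) * X).Monic := by
      apply hfm.add_of_left
      refine lt_of_le_of_lt (degree_C_mul_X_le _) ?_
      rw [degree_eq_natDegree hfm.ne_zero, hfdeg]
      exact_mod_cast (by omega : 1 < fb.natDegree)
    refine ⟨f + C (algebraMap R Γ π) * X, hmon', by rw [hmap']; exact hfbirr, ?_,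
      hroot _ hmap', hdegne _ hmon' hmap'⟩
    rw [derivative_add, hd, zero_add, derivative_C_mul, derivative_X, mul_one]
    exact C_ne_zero.2 hπΓ0
  · exact ⟨f, hfm, by rw [hfmap]; exact hfbirr, hd, hroot f hfmap, hdegne f hfm hfmap⟩

include hπ hπk halg in
theorem good_ext [IsAlgClosed Ω] (Γ : Subalgebra R (Ω × k')) (hΓ : Good R K Ω k' π Γ)
    (α : k') (hα : ∀ z : Γ, (z : Ω × k').2 ≠ α) :
    ∃ Γ' : Subalgebra R (Ω × k'), Good R K Ω k' π Γ' ∧ Γ ≤ Γ' ∧ ∃ z ∈ Γ', (z : Ω × k').2 = α := by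
  have hΩ := algebraMap_injective_Ω R K Ω
  have hΩπ : algebraMap R Ω π ≠ 0 := fun h => hπ.ne_zero (hΩ (by rw [h, map_zero]))
  haveI : IsDomain Γ := isDomain_of_isUnif hΩπ Γ hΓ.unif
  haveI : IsLocalRing Γ := hΓ.unif.isLocalRing
  obtain ⟨f, hfm, hirr, hder, hroot, hdeg⟩ :=
    exists_lift_poly R K Ω k' π hπ hπk halg Γ hΓ α hα
  obtain ⟨θ, hθ⟩ := IsAlgClosed.exists_eval₂_eq_zero_of_injective (fstΓ Γ)
    (fstΓ_injective hΩπ Γ hΓ.unif) f hdeg
  have hθ' : aeval ((θ, α) : Ω × k') f = 0 := by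
    apply Prod.ext
    · rw [fst_aeval]; exact hθ
    · rw [snd_aeval]; exact hroot
  refine ⟨(Algebra.adjoin Γ {((θ, α) : Ω × k')}).restrictScalars R,
    good_adjoin R K Ω k' π hπ hπk Γ hΓ f hfm hirr hder (θ, α) hθ' _ (fun x => Iff.rfl), ?_,
    (θ, α), ?_, rfl⟩
  · intro x hx
    rw [Subalgebra.mem_restrictScalars]
    exact Subalgebra.algebraMap_mem _ (⟨x, hx⟩ : Γ)
  · rw [Subalgebra.mem_restrictScalars]
    exact Algebra.subset_adjoin rfl

include hπ hπk halg in
theorem exists_max [IsAlgClosed Ω] : ∃ Γ : Subalgebra R (Ω × k'), Good R K Ω k' π Γ ∧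
    ∀ α : k', ∃ z : Γ, (z : Ω × k').2 = α := by
  obtain ⟨Γ, -, hmax⟩ := zorn_le_nonempty₀ {S : Subalgebra R (Ω × k') | Good R K Ω k' π S}
    (fun c hcs hc y hy => ⟨⨆ S : c, (S : Subalgebra R (Ω × k')),
      good_iSup R K Ω k' π c hc ⟨y, hy⟩ (fun S hS => hcs hS),
      fun z hz => le_iSup (fun S : c => (S : Subalgebra R (Ω × k'))) ⟨z, hz⟩⟩)
    ⊥ (good_bot R K Ω k' π hπ)
  have hΓ : Good R K Ω k' π Γ := hmax.1
  refine ⟨Γ, hΓ, ?_⟩
  intro α
  by_contra hcon
  push_neg at hcon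
  obtain ⟨Γ', hΓ', hle, z, hz, hzα⟩ := good_ext R K Ω k' π hπ hπk halg Γ hΓ α hcon
  have hge := hmax.2 hΓ' hle
  exact hcon ⟨z, hge hz⟩ hzα

end ext2

end Part4

section Part5

open Polynomial IsLocalRing
open Groth.Agent.Lib.R2H1.PerfClosDVR

theorem main_7898 (OK : Type u) [CommRing OK] [IsDomain OK] [IsDiscreteValuationRing OK]
    (k' : Type u) [Field k'] [Algebra (IsLocalRing.ResidueField OK) k']
    [Algebra.IsAlgebraic (IsLocalRing.ResidueField OK) k'] :
    ∃ (OL : Type u) (_ : CommRing OL) (_ : IsDomain OL) (_ : IsDiscreteValuationRing OL)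
      (φ : OK →+* OL),
      Function.Injective φ ∧ IsLocalHom φ ∧
      Ideal.map φ (IsLocalRing.maximalIdeal OK) = IsLocalRing.maximalIdeal OL ∧
      (∃ e : IsLocalRing.ResidueField OL ≃+* k',
        ∀ a : OK, e (IsLocalRing.residue OL (φ a)) =
          algebraMap (IsLocalRing.ResidueField OK) k' (IsLocalRing.residue OK a)) ∧
      ∀ x : OL, ∃ p : Polynomial OK,
        (p.map (algebraMap OK (FractionRing OK))).Separable ∧ Polynomial.eval₂ φ x p = 0 := by
  classical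
  obtain ⟨π, hπ⟩ := IsDiscreteValuationRing.exists_irreducible OK
  let K := FractionRing OK
  let Ω := AlgebraicClosure K
  letI algk' : Algebra OK k' := ((algebraMap (ResidueField OK) k').comp (residue OK)).toAlgebra
  have hπk : algebraMap OK k' π = 0 := by
    change algebraMap (ResidueField OK) k' (residue OK π) = 0
    rw [(residue_eq_zero_iff π).2 ((mem_maximalIdeal π).2 hπ.not_isUnit), map_zero]
  have halg : ∀ α : k', IsIntegral OK α := by
    intro α
    have h1 : IsIntegral (ResidueField OK) α := Algebra.IsIntegral.isIntegral α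
    obtain ⟨g, hg, hg0⟩ := h1
    obtain ⟨g', hg'map, -, hg'm⟩ := lifts_and_natDegree_eq_and_monic
      ((mem_lifts g).2 (map_surjective (residue OK) residue_surjective g)) hg
    refine ⟨g', hg'm, ?_⟩
    have h2 : algebraMap OK k' = (algebraMap (ResidueField OK) k').comp (residue OK) := rfl
    rw [h2, ← eval₂_map, hg'map]; exact hg0
  obtain ⟨Γ, hΓ, hsurj⟩ := exists_max OK K Ω k' π hπ hπk halg
  have hΩ := algebraMap_injective_Ω OK K Ω
  have hΩπ : algebraMap OK Ω π ≠ 0 := fun h => hπ.ne_zero (hΩ (by rw [h, map_zero]))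
  haveI : IsDomain Γ := isDomain_of_isUnif hΩπ Γ hΓ.unif
  haveI : IsLocalRing Γ := hΓ.unif.isLocalRing
  have hπΓ0 : algebraMap OK Γ π ≠ 0 := by
    intro h0
    have h1 : algebraMap OK (Ω × k') π = 0 := congrArg Subtype.val h0
    exact hΩπ (congrArg Prod.fst h1)
  have hirr : Irreducible (algebraMap OK Γ π) := hΓ.unif.irreducible hπΓ0
  have hDVR : IsDiscreteValuationRing Γ := by
    apply IsDiscreteValuationRing.ofHasUnitMulPowIrreducibleFactorization
    refine ⟨algebraMap OK Γ π, hirr, fun {x} hx => ?_⟩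
    obtain ⟨n, u, hu⟩ := hΓ.unif.2 x hx
    exact ⟨n, u, hu.symm⟩
  have hmax : maximalIdeal Γ = Ideal.span {algebraMap OK Γ π} := hΓ.unif.maximalIdeal_eq
  haveI : IsLocalHom (sndΓ Γ) := isLocalHom_sndΓ hπk Γ hΓ.unif
  let ψ : ResidueField Γ →+* k' := ResidueField.lift (sndΓ Γ)
  have hψ : ∀ z : Γ, ψ (residue Γ z) = (z : Ω × k').2 :=
    fun z => ResidueField.lift_residue_apply (sndΓ Γ) z
  have hψbij : Function.Bijective ψ := ⟨ψ.injective, fun α => by
    obtain ⟨z, hz⟩ := hsurj α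
    exact ⟨residue Γ z, (hψ z).trans hz⟩⟩
  have hfinj := fstΓ_injective hΩπ Γ hΓ.unif
  refine ⟨Γ, inferInstance, inferInstance, hDVR, algebraMap OK Γ, ?_, ?_, ?_,
    ⟨RingEquiv.ofBijective ψ hψbij, ?_⟩, ?_⟩
  · intro x y hxy
    have h1 : algebraMap OK (Ω × k') x = algebraMap OK (Ω × k') y := congrArg Subtype.val hxy
    exact hΩ (congrArg Prod.fst h1)
  · refine ⟨fun a ha => ?_⟩
    by_contra hnu
    have h1 : a ∈ maximalIdeal OK := (mem_maximalIdeal a).2 hnu
    rw [hπ.maximalIdeal_eq, Ideal.mem_span_singleton] at h1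
    obtain ⟨b, rfl⟩ := h1
    rw [map_mul] at ha
    exact hΓ.unif.1 (isUnit_of_mul_isUnit_left ha)
  · rw [hπ.maximalIdeal_eq, Ideal.map_span, Set.image_singleton]; exact hmax.symm
  · intro a
    change ψ (residue Γ (algebraMap OK Γ a)) = _
    rw [hψ]; rfl
  · intro x
    have hsep : IsSeparable K (x : Ω × k').1 := hΓ.sep x.1 x.2
    obtain ⟨m, hm⟩ : ∃ m, m = minpoly K (x : Ω × k').1 := ⟨_, rfl⟩
    have hmsep : m.Separable := by rw [hm]; exact hsep
    obtain ⟨b, hb, hbm⟩ := IsLocalization.integerNormalization_spec (nonZeroDivisors OK) m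
    refine ⟨IsLocalization.integerNormalization (nonZeroDivisors OK) m, ?_, ?_⟩
    · rw [hbm, ← IsScalarTower.algebraMap_smul K b m, smul_eq_C_mul]
      refine Separable.unit_mul (isUnit_C.2 (isUnit_iff_ne_zero.2 ?_)) hmsep
      intro h0
      exact nonZeroDivisors.ne_zero hb (IsFractionRing.injective OK K (by rw [h0, map_zero]))
    · apply hfinj
      rw [map_zero, hom_eval₂]
      have h1 : (fstΓ Γ).comp (algebraMap OK Γ) = (algebraMap K Ω).comp (algebraMap OK K) := by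
        ext r
        simp only [RingHom.comp_apply]
        rw [← IsScalarTower.algebraMap_apply]; rfl
      rw [h1]
      apply IsLocalization.integerNormalization_eval₂_eq_zero
      rw [hm, ← aeval_def, fstΓ_apply]
      exact minpoly.aeval K _

end Part5

end Groth.Agent.Lib.R2H1.ResExtDVR
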