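import Mathlib
import Groth.Prelude
import Groth.Agent.Lib.R2H1OmegaDual
import Groth.Agent.Lib.R2H1SerreNum
import Groth.Agent.Lib.R2H1NonSpecial
import Groth.Agent.Lib.R2H1VBIndecTwo
import Groth.Agent.Lib.R2H1VBRankTwo
import Groth.Agent.Lib.R2H1VBTwist
import Groth.Agent.Lib.R2H4AmplePos
import Groth.Agent.Lib.Helper1StalkTensorB
import Groth.Agent.Lib.R2H2PullLF
import Groth.Agent.Lib.Helper18PBUnit2
import Groth.Agent.Lib.R2H1ProjLF
import Groth.Agent.Lib.R2H2TensorLin
import Groth.Agent.Lib.R2H1InvExists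
set_option backward.isDefEq.respectTransparency.types false

/-!
Secant divisors of curves embedded by K tensor N: tensoring monos with invertible modules, sections of inverses of ideals, invertible modules of degree 2g-2 with nonzero H1 are canonical, linear tensoring maps on Hom spaces, no (g-1)-secant and a unique g-secant.
-/

set_option autoImplicit false
set_option linter.style.haveILetI false
set_option linter.unusedSectionVars false
universe u v

open CategoryTheory CategoryTheory.Limits AlgebraicGeometry TopologicalSpace Opposite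

namespace Groth.Agent.Lib.R2H1.Secant

section Part1

open Groth.Agent.Lib.R2H1.PicLaw Groth.Agent.Lib.R2H1.Clifford Groth.Agent.Lib.R2H1.CurveDegSec
  Groth.Agent.Lib.R2H1.CurveAmple Groth.Agent.Lib.R2H2.PnBeilinson Groth.Agent.Lib.R2H1.InvHom
  Groth.Agent.Lib.R2H1.OmegaCurve Groth.Agent.Lib.R2H1.OmegaDual
  Groth.Agent.Lib.R2H1.SerreNum Groth.Agent.Lib.R2H1.CurveEuler

section A

variable {X : Scheme.{u}}

/-- tensoring a monomorphism with an invertible module (on the right) gives a monomorphism -/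
theorem mono_tensor_right_of_isInvertible {A B : X.Modules} (φ : A ⟶ B) [Mono φ] (N : X.Modules)
    (hN : PicF.IsInvertible N) : Mono ((DCoh.tensorBi.map φ).app N) :=
  Groth.Agent.Lib.Helper1.StalkTensor.mono_tensor_of_isFlat φ N
    (Groth.Agent.Lib.R2H2.PullLF.isFlat_of_isFinLocFree N
      (Groth.Agent.Helper18PBUnit.isFinLocFree_of_isInvertible hN))

end A

section B

variable (k : Type u) [Field k] [IsAlgClosed k] (X : Scheme.{u}) [X.Over (Spec (CommRingCat.of k))]
  [IsIntegral X] [IsProper (X ↘ Spec (CommRingCat.of k))]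

/-- if `I ⊗ N ≅ O` and `I` embeds into `O`, then `N` has a nonzero section -/
theorem finrank_H0_pos_of_inverse_of_mono {I N : X.Modules} (hI : PicF.IsInvertible I)
    (hN : PicF.IsInvertible N) (e : CohB1.tensorMod I N ≅ Coh.structureModule X)
    (ι : I ⟶ Coh.structureModule X) [Mono ι] :
    0 < Module.finrank k (Coh.HH X N 0) := by
  have m1 : Mono ((DCoh.tensorBi.map ι).app N) := mono_tensor_right_of_isInvertible ι N hN
  let t : CohB1.tensorMod I N ⟶ CohB1.tensorMod (Coh.structureModule X) N :=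
    (DCoh.tensorBi.map ι).app N
  haveI : Mono t := m1
  let s : Coh.structureModule X ⟶ N :=
    e.inv ≫ t ≫ (commI (Coh.structureModule X) N).hom ≫ (runitI N).hom
  haveI : Mono ((commI (Coh.structureModule X) N).hom ≫ (runitI N).hom) := mono_comp _ _
  haveI : Mono (t ≫ (commI (Coh.structureModule X) N).hom ≫ (runitI N).hom) := mono_comp _ _
  haveI : Mono s := mono_comp _ _
  have hO := Groth.Agent.Lib.Helper23.TensorUnit.isInvertible_structureModule X
  exact Groth.Agent.Lib.R2H4AmplePos.finrank_HH_zero_pos (k := k) N (isCoh_of_isInvertible N hN) s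
    (Groth.Agent.Lib.R2H1.VBRankTwo.mono_ne_zero_of_isInvertible hO s)

end B

end Part1

section Part2

open Groth.Agent.Lib.R2H1.PicLaw Groth.Agent.Lib.R2H1.Clifford Groth.Agent.Lib.R2H1.CurveDegSec
  Groth.Agent.Lib.R2H1.CurveAmple Groth.Agent.Lib.R2H2.PnBeilinson Groth.Agent.Lib.R2H1.InvHom
  Groth.Agent.Lib.R2H1.OmegaCurve Groth.Agent.Lib.R2H1.OmegaDual
  Groth.Agent.Lib.R2H1.SerreNum Groth.Agent.Lib.R2H1.CurveEuler

section C

variable (k : Type u) [Field k] [IsAlgClosed k] (X : Scheme.{u}) [X.Over (Spec (CommRingCat.of k))]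
  [IsIntegral X] [IsProper (X ↘ Spec (CommRingCat.of k))]
  (hdim : topologicalKrullDim X = 1) (hreg : ∀ x : X, IsRegularLocalRing (X.presheaf.stalk x))

include hdim hreg in
/-- an invertible module of degree `2g - 2` with `H¹ ≠ 0` is the canonical sheaf -/
theorem iso_Om_of_deg_of_h1 (M : X.Modules) (hM : PicF.IsInvertible M)
    (hdeg : Curv2.deg k X M 1 = 2 * (Curv2.genus k X : ℤ) - 2)
    (h1 : Module.finrank k (Coh.HH X M 1) ≠ 0) : Nonempty (M ≅ Om k X) := by
  haveI := isNoetherian_of_proper k X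
  have hΩ := isInvertible_Om k X hdim hreg
  obtain ⟨-, -, dΩ⟩ := numerics_Om k X hdim hreg
  rw [h1_eq_finrank_hom k X hdim hreg M (isCoh_of_isInvertible M hM)] at h1
  obtain ⟨φ, hφ⟩ : ∃ φ : M ⟶ Om k X, φ ≠ 0 := by
    by_contra hcon
    push_neg at hcon
    haveI : Subsingleton (M ⟶ Om k X) := ⟨fun a b => (hcon a).trans (hcon b).symm⟩
    exact h1 (Module.finrank_zero_of_subsingleton)
  obtain ⟨m1, m2⟩ := main k X hdim _ _ hM hΩ φ hφ
  haveI : IsIso φ := m2 (by
    unfold Curv2.deg at dΩ hdeg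
    have : (0 : ℤ) ≤ Module.finrank k (Coh.HH X (cokernel φ) 0) := Int.natCast_nonneg _
    omega)
  exact ⟨asIso φ⟩

include hdim hreg in
/-- there is no `(g-1)`-secant divisor -/
theorem no_secant (K : X.Modules) (eK : K ≅ Om k X) (g : ℕ) (hg3 : 3 ≤ g)
    (hgen : Curv2.genus k X = g) (N : X.Modules) (hN : PicF.IsInvertible N)
    (hdN : Curv2.deg k X N 1 = (g : ℤ) - 1)
    (h0 : Module.finrank k (Coh.HH X N 0) = 0) :
    ¬ ∃ (I : X.Modules) (ι : I ⟶ Coh.structureModule X),
        PicF.IsInvertible I ∧ Mono ι ∧ Curv2.deg k X I 1 = -((g : ℤ) - 1) ∧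
        Module.finrank k (Coh.HH X (CohB1.tensorMod I (CohB1.tensorMod K N)) 0) + (g - 2) =
          Module.finrank k (Coh.HH X (CohB1.tensorMod K N) 0) := by
  haveI := isNoetherian_of_proper k X
  have hΩ := isInvertible_Om k X hdim hreg
  obtain ⟨-, -, dΩ⟩ := numerics_Om k X hdim hreg
  have hK := Groth.Agent.Lib.Helper23.AmpleIso.isInvertible_of_iso eK.symm hΩ
  have dK := deg_congr k X eK 1
  have hKN := Groth.Agent.Lib.Helper23.SecTw.isInvertible_tensorMod hK hN
  have dKN := Groth.Agent.Lib.R2H1.VBIndecTwo.deg_tensor_invertible k X hdim hK hN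
  haveI h1KN := Groth.Agent.Lib.R2H1.NonSpecial.s1522 k X hdim _ hKN (by
    rw [dKN, dK, dΩ, hdN, hgen]; omega)
  have rKN := riemann_roch k X hdim hreg _ hKN
  rw [Module.finrank_zero_of_subsingleton (M := Coh.HH X (CohB1.tensorMod K N) 1)] at rKN
  rintro ⟨I, ι, hI, hmono, dI, heq⟩
  have hM := Groth.Agent.Lib.Helper23.SecTw.isInvertible_tensorMod hI hKN
  have dM := Groth.Agent.Lib.R2H1.VBIndecTwo.deg_tensor_invertible k X hdim hI hKN
  have rM := riemann_roch k X hdim hreg _ hM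
  by_cases h1M : Module.finrank k (Coh.HH X (CohB1.tensorMod I (CohB1.tensorMod K N)) 1) = 0
  · rw [dKN, dK, dΩ, hdN, hgen] at rKN
    rw [dM, dI, dKN, dK, dΩ, hdN, hgen, h1M] at rM
    push_cast at rKN rM
    omega
  · obtain ⟨eM⟩ := iso_Om_of_deg_of_h1 k X hdim hreg _ hM (by
      rw [dM, dI, dKN, dK, dΩ, hdN, hgen]; ring) h1M
    obtain ⟨eIN⟩ : Nonempty (CohB1.tensorMod I N ≅ Coh.structureModule X) := by
      letI := lawOfIntegral X
      have hO := Groth.Agent.Lib.Helper23.TensorUnit.isInvertible_structureModule X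
      apply iso_of_cls_mul_eq hI hN hO
      have g1 := cls_mul_eq_of_iso hI hKN hΩ eM
      have g2 : PicGrp.cls K hK = PicGrp.cls _ hΩ := (PicGrp.cls_eq_cls_iff hK hΩ).2 ⟨eK⟩
      rw [← cls_mul hK hN, g2] at g1
      rw [PicGrp.cls_structureModule_eq_one]
      have g3 : PicGrp.cls _ hΩ * (PicGrp.cls I hI * PicGrp.cls N hN) = PicGrp.cls _ hΩ * 1 :=
        (mul_left_comm _ _ _).trans (g1.trans (mul_one _).symm)
      exact mul_left_cancel g3
    haveI := hmono
    have := finrank_H0_pos_of_inverse_of_mono k X hI hN eIN ι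
    omega

end C

end Part2

section Part3

open Groth.Agent.Lib.R2H1.PicLaw Groth.Agent.Lib.R2H1.Clifford Groth.Agent.Lib.R2H1.CurveDegSec
  Groth.Agent.Lib.R2H1.CurveAmple Groth.Agent.Lib.R2H2.PnBeilinson Groth.Agent.Lib.R2H1.InvHom
  Groth.Agent.Lib.R2H1.OmegaCurve Groth.Agent.Lib.R2H1.OmegaDual
  Groth.Agent.Lib.R2H1.SerreNum Groth.Agent.Lib.R2H1.CurveEuler

section D

variable (k : Type u) [Field k] {X : Scheme.{u}} [X.Over (Spec (CommRingCat.of k))]

/-- tensoring on the left with `N`, as a linear map on Hom-spaces -/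
noncomputable def tensL (N A B : X.Modules) :
    (A ⟶ B) →ₗ[k] (CohB1.tensorMod N A ⟶ CohB1.tensorMod N B) where
  toFun f := (DCoh.tensorBi.obj N).map f
  map_add' f g := Functor.map_add _
  map_smul' c f := by
    rw [smul_eq_comp_smulMod, Functor.map_comp, RingHom.id_apply]
    have h := Groth.Agent.Lib.R2H2.TensorLin.tensorBi_map_smulModΓ N B
      (Coh.toGlobal (X ↘ Spec (CommRingCat.of k)) c)
    exact (congrArg (fun t => (DCoh.tensorBi.obj N).map f ≫ t) h).trans
      (smul_eq_comp_smulMod c _).symm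

theorem tensL_injective [IsIntegral X] (N A B : X.Modules) (hN : PicF.IsInvertible N)
    (hA : PicF.IsInvertible A) (hB : PicF.IsInvertible B) :
    Function.Injective (tensL k N A B) := by
  rw [injective_iff_map_eq_zero]
  intro f hf
  by_contra hne
  haveI : Mono f := mono_of_ne_zero hA hB f hne
  haveI := Groth.Agent.Lib.R2H1.ProjLF.preservesFiniteLimits_tensorBi_obj N
    (Groth.Agent.Helper18PBUnit.isFinLocFree_of_isInvertible hN)
  haveI hm : Mono ((DCoh.tensorBi.obj N).map f) := (DCoh.tensorBi.obj N).map_mono f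
  let t : CohB1.tensorMod N A ⟶ CohB1.tensorMod N B := (DCoh.tensorBi.obj N).map f
  haveI : Mono t := hm
  exact Groth.Agent.Lib.R2H1.VBRankTwo.mono_ne_zero_of_isInvertible
    (Groth.Agent.Lib.Helper23.SecTw.isInvertible_tensorMod hN hA) t hf

end D

section E

variable (k : Type u) [Field k] [IsAlgClosed k] (X : Scheme.{u}) [X.Over (Spec (CommRingCat.of k))]
  [IsIntegral X] [IsProper (X ↘ Spec (CommRingCat.of k))]

/-- if `N ⊗ I ≅ O` and `h⁰(N) ≤ 1`, any two maps `I ⟶ O` are proportional -/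
theorem exists_smul_eq_of_h0_le_one {I N : X.Modules} (hI : PicF.IsInvertible I)
    (hN : PicF.IsInvertible N) (e : CohB1.tensorMod N I ≅ Coh.structureModule X)
    (h0 : Module.finrank k (Coh.HH X N 0) ≤ 1) (a b : I ⟶ Coh.structureModule X) (ha : a ≠ 0) :
    ∃ c : k, b = c • a := by
  have hO := Groth.Agent.Lib.Helper23.TensorUnit.isInvertible_structureModule X
  let Ψ : (I ⟶ Coh.structureModule X) →ₗ[k] (Coh.structureModule X ⟶ N) :=
    Linear.rightComp k _ (runitI N).hom ∘ₗ Linear.leftComp k _ e.inv ∘ₗ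
      tensL k N I (Coh.structureModule X)
  have hΨ : Function.Injective Ψ := by
    intro f g hfg
    apply tensL_injective k N I _ hN hI hO
    have h1 : e.inv ≫ tensL k N I (Coh.structureModule X) f ≫ (runitI N).hom =
        e.inv ≫ tensL k N I (Coh.structureModule X) g ≫ (runitI N).hom := by
      simpa [Ψ] using hfg
    have h2 := (cancel_epi e.inv).1 h1
    exact (cancel_mono (runitI N).hom).1 h2
  haveI := Groth.Agent.Lib.R2H1.EulerAdd.finite_HH k X N (isCoh_of_isInvertible N hN) 0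
  haveI : Module.Finite k (Coh.structureModule X ⟶ N) :=
    Module.Finite.equiv (clsEquiv (k := k) N).symm
  have hv : Ψ a ≠ 0 := fun h => ha (hΨ (h.trans (map_zero Ψ).symm))
  have hfr : Module.finrank k (Coh.structureModule X ⟶ N) = 1 := by
    rw [(clsEquiv (k := k) N).finrank_eq]
    have : 0 < Module.finrank k (Coh.HH X N 0) := by
      rw [← (clsEquiv (k := k) N).finrank_eq]
      exact Module.finrank_pos_iff_exists_ne_zero.mpr ⟨_, hv⟩
    omega
  obtain ⟨c, hc⟩ := (finrank_eq_one_iff_of_nonzero' (Ψ a) hv).mp hfr (Ψ b)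
  refine ⟨c, hΨ ?_⟩
  rw [map_smul, hc]

end E

end Part3

section Part4

open Groth.Agent.Lib.R2H1.PicLaw Groth.Agent.Lib.R2H1.Clifford Groth.Agent.Lib.R2H1.CurveDegSec
  Groth.Agent.Lib.R2H1.CurveAmple Groth.Agent.Lib.R2H2.PnBeilinson Groth.Agent.Lib.R2H1.InvHom
  Groth.Agent.Lib.R2H1.OmegaCurve Groth.Agent.Lib.R2H1.OmegaDual
  Groth.Agent.Lib.R2H1.SerreNum Groth.Agent.Lib.R2H1.CurveEuler

section F

variable (k : Type u) [Field k] [IsAlgClosed k] (X : Scheme.{u}) [X.Over (Spec (CommRingCat.of k))]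
  [IsIntegral X] [IsProper (X ↘ Spec (CommRingCat.of k))]
  (hdim : topologicalKrullDim X = 1) (hreg : ∀ x : X, IsRegularLocalRing (X.presheaf.stalk x))

/-- a nonzero scalar multiple of an isomorphism is an isomorphism -/
noncomputable def smulIso {A B : X.Modules} (c : k) (hc : c ≠ 0) (φ : A ≅ B) : A ≅ B where
  hom := c • φ.hom
  inv := c⁻¹ • φ.inv
  hom_inv_id := by
    rw [Linear.smul_comp, Linear.comp_smul, smul_smul, mul_inv_cancel₀ hc, one_smul, φ.hom_inv_id]
  inv_hom_id := by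
    rw [Linear.smul_comp, Linear.comp_smul, smul_smul, inv_mul_cancel₀ hc, one_smul, φ.inv_hom_id]

include hdim hreg in
/-- there is exactly one `g`-secant divisor -/
theorem unique_secant (K : X.Modules) (eK : K ≅ Om k X) (g : ℕ) (hg3 : 3 ≤ g)
    (hgen : Curv2.genus k X = g) (N : X.Modules) (hN : PicF.IsInvertible N)
    (hdN : Curv2.deg k X N 1 = (g : ℤ))
    (h0 : Module.finrank k (Coh.HH X N 0) ≤ 1) :
    (∃ (I : X.Modules) (ι : I ⟶ Coh.structureModule X),
        PicF.IsInvertible I ∧ Mono ι ∧ Curv2.deg k X I 1 = -((g : ℤ)) ∧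
        Module.finrank k (Coh.HH X (CohB1.tensorMod I (CohB1.tensorMod K N)) 0) + (g - 1) =
          Module.finrank k (Coh.HH X (CohB1.tensorMod K N) 0)) ∧
      ∀ (I I' : X.Modules) (ι : I ⟶ Coh.structureModule X) (ι' : I' ⟶ Coh.structureModule X),
        (PicF.IsInvertible I ∧ Mono ι ∧ Curv2.deg k X I 1 = -((g : ℤ)) ∧
        Module.finrank k (Coh.HH X (CohB1.tensorMod I (CohB1.tensorMod K N)) 0) + (g - 1) =
          Module.finrank k (Coh.HH X (CohB1.tensorMod K N) 0)) →
        (PicF.IsInvertible I' ∧ Mono ι' ∧ Curv2.deg k X I' 1 = -((g : ℤ)) ∧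
        Module.finrank k (Coh.HH X (CohB1.tensorMod I' (CohB1.tensorMod K N)) 0) + (g - 1) =
          Module.finrank k (Coh.HH X (CohB1.tensorMod K N) 0)) →
        ∃ φ : I' ≅ I, φ.hom ≫ ι = ι' := by
  haveI := isNoetherian_of_proper k X
  letI := lawOfIntegral X
  have hO := Groth.Agent.Lib.Helper23.TensorUnit.isInvertible_structureModule X
  have hΩ := isInvertible_Om k X hdim hreg
  obtain ⟨h0Ω, -, dΩ⟩ := numerics_Om k X hdim hreg
  have hK := Groth.Agent.Lib.Helper23.AmpleIso.isInvertible_of_iso eK.symm hΩ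
  have dK := deg_congr k X eK 1
  have hKN := Groth.Agent.Lib.Helper23.SecTw.isInvertible_tensorMod hK hN
  have dKN := Groth.Agent.Lib.R2H1.VBIndecTwo.deg_tensor_invertible k X hdim hK hN
  haveI h1KN := Groth.Agent.Lib.R2H1.NonSpecial.s1522 k X hdim _ hKN (by
    rw [dKN, dK, dΩ, hdN, hgen]; omega)
  have rKN := riemann_roch k X hdim hreg _ hKN
  rw [Module.finrank_zero_of_subsingleton (M := Coh.HH X (CohB1.tensorMod K N) 1),
    dKN, dK, dΩ, hdN, hgen] at rKN
  have g2 : PicGrp.cls K hK = PicGrp.cls _ hΩ := (PicGrp.cls_eq_cls_iff hK hΩ).2 ⟨eK⟩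
  -- the condition forces `I ⊗ N ≅ O`
  have key1 : ∀ (I : X.Modules) (hI : PicF.IsInvertible I),
      Curv2.deg k X I 1 = -((g : ℤ)) →
      Module.finrank k (Coh.HH X (CohB1.tensorMod I (CohB1.tensorMod K N)) 0) + (g - 1) =
        Module.finrank k (Coh.HH X (CohB1.tensorMod K N) 0) →
      PicGrp.cls I hI * PicGrp.cls N hN = 1 := by
    intro I hI dI heq
    have hM := Groth.Agent.Lib.Helper23.SecTw.isInvertible_tensorMod hI hKN
    have dM := Groth.Agent.Lib.R2H1.VBIndecTwo.deg_tensor_invertible k X hdim hI hKN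
    have rM := riemann_roch k X hdim hreg _ hM
    rw [dM, dI, dKN, dK, dΩ, hdN, hgen] at rM
    obtain ⟨eM⟩ := iso_Om_of_deg_of_h1 k X hdim hreg _ hM (by
      rw [dM, dI, dKN, dK, dΩ, hdN, hgen]; ring) (by
      push_cast at rKN rM
      omega)
    have g1 := cls_mul_eq_of_iso hI hKN hΩ eM
    rw [← cls_mul hK hN, g2] at g1
    have g3 : PicGrp.cls _ hΩ * (PicGrp.cls I hI * PicGrp.cls N hN) = PicGrp.cls _ hΩ * 1 :=
      (mul_left_comm _ _ _).trans (g1.trans (mul_one _).symm)
    exact mul_left_cancel g3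
  -- conversely
  have key2 : ∀ (I : X.Modules) (hI : PicF.IsInvertible I),
      PicGrp.cls I hI * PicGrp.cls N hN = 1 →
      Module.finrank k (Coh.HH X (CohB1.tensorMod I (CohB1.tensorMod K N)) 0) + (g - 1) =
        Module.finrank k (Coh.HH X (CohB1.tensorMod K N) 0) := by
    intro I hI hIN
    have hM := Groth.Agent.Lib.Helper23.SecTw.isInvertible_tensorMod hI hKN
    obtain ⟨eM⟩ : Nonempty (CohB1.tensorMod I (CohB1.tensorMod K N) ≅ Om k X) := by
      apply iso_of_cls_mul_eq hI hKN hΩ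
      rw [← cls_mul hK hN, g2, mul_left_comm, hIN, mul_one]
    rw [Groth.Agent.Lib.R2H2.ClosedPnLin.finrank_HH_of_iso k eM 0, h0Ω, hgen]
    push_cast at rKN
    omega
  refine ⟨?_, ?_⟩
  · -- existence
    have rN := riemann_roch k X hdim hreg _ hN
    rw [hdN, hgen] at rN
    have hpos : 0 < Module.finrank k (Coh.HH X N 0) := by
      have : (0 : ℤ) ≤ Module.finrank k (Coh.HH X N 1) := Int.natCast_nonneg _
      omega
    haveI := Groth.Agent.Lib.R2H1.EulerAdd.finite_HH k X N (isCoh_of_isInvertible N hN) 0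
    obtain ⟨x, hx⟩ := Module.finrank_pos_iff_exists_ne_zero.mp hpos
    let s : Coh.structureModule X ⟶ N := (clsEquiv (k := k) N).symm x
    have hs : s ≠ 0 := fun h => hx (by
      have := congrArg (clsEquiv (k := k) N) h
      rwa [LinearEquiv.apply_symm_apply, map_zero] at this)
    obtain ⟨P, hP, ⟨e⟩⟩ := Groth.Agent.Lib.R2H1.InvExists.exists_inverse N hN
    let ι : P ⟶ Coh.structureModule X := mulSec P s ≫ (commI P N).hom ≫ e.hom
    have hι : ι ≠ 0 := by
      intro h
      apply mulSec_ne_zero P hP hN s hs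
      have h' : mulSec P s ≫ ((commI P N).hom ≫ e.hom) = 0 ≫ ((commI P N).hom ≫ e.hom) := by
        rw [zero_comp]; exact h
      exact (cancel_mono _).1 h'
    have hmono : Mono ι := mono_of_ne_zero hP hO ι hι
    have dP := Groth.Agent.Lib.R2H1.VBTwist.deg_inverse k X hdim
      (Groth.Agent.Lib.Helper23.SecTw.isFinLocFreeOfRank_one_of_isInvertible _ hN)
      (Groth.Agent.Lib.Helper23.SecTw.isFinLocFreeOfRank_one_of_isInvertible _ hP) e
    refine ⟨P, ι, hP, hmono, by rw [dP, hdN], key2 P hP ?_⟩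
    have := cls_mul_eq_of_iso hP hN hO ((commI P N) ≪≫ e)
    rw [PicGrp.cls_structureModule_eq_one] at this
    exact this
  · -- uniqueness
    rintro I I' ι ι' ⟨hI, hm, dI, hc⟩ ⟨hI', hm', dI', hc'⟩
    have c1 := key1 I hI dI hc
    have c2 := key1 I' hI' dI' hc'
    obtain ⟨φ₀⟩ : Nonempty (I' ≅ I) := by
      rw [← PicGrp.cls_eq_cls_iff hI' hI]
      exact mul_right_cancel (c2.trans c1.symm)
    haveI := hm
    haveI := hm'
    have hι : ι ≠ 0 := Groth.Agent.Lib.R2H1.VBRankTwo.mono_ne_zero_of_isInvertible hI ι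
    have hι' : ι' ≠ 0 := Groth.Agent.Lib.R2H1.VBRankTwo.mono_ne_zero_of_isInvertible hI' ι'
    have ha : φ₀.hom ≫ ι ≠ 0 := by
      intro h
      apply hι
      have h' : φ₀.hom ≫ ι = φ₀.hom ≫ 0 := by rw [comp_zero]; exact h
      exact (cancel_epi _).1 h'
    obtain ⟨e'⟩ : Nonempty (CohB1.tensorMod N I' ≅ Coh.structureModule X) := by
      apply iso_of_cls_mul_eq hN hI' hO
      rw [mul_comm, c2, PicGrp.cls_structureModule_eq_one]
    obtain ⟨c, hcc⟩ := exists_smul_eq_of_h0_le_one k X hI' hN e' h0 (φ₀.hom ≫ ι) ι' ha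
    have hc0 : c ≠ 0 := by
      rintro rfl
      rw [zero_smul] at hcc
      exact hι' hcc
    refine ⟨smulIso k X c hc0 φ₀, ?_⟩
    change (c • φ₀.hom) ≫ ι = ι'
    rw [Linear.smul_comp, hcc]

end F

end Part4

end Groth.Agent.Lib.R2H1.Secant
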