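/-
Sections of regular models over a DVR meet the closed fibre at a smooth rational point on a unique
component of multiplicity one (S7920).
Main results: pow_eq_self_imp, residue_comp_surjective, isRegularLocalRing_quotient_map (local
retraction of R -> A, A regular local: A / m_R A regular), ker_specMap_eq_of_eq, support_subset_iUnion,
unique_component (where the stalk of D is prime exactly one component passes), mult_eq_one,
retr (retraction of stalkHom from a section), retr_stalkHom, main.
-/
import Mathlib
import Groth.Prelude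
import Groth.Agent.Lib.R2H1SpecialFibreProd
import Groth.Agent.Lib.Helper5RLR

set_option autoImplicit false
set_option linter.style.haveILetI false
set_option linter.unusedSectionVars false
universe u v

namespace Groth.Agent.Lib.R2H1.SectionFibre

section Part1

open IsLocalRing

/-- a principal ideal generated by a nonzerodivisor which equals its own `m`-th power and is proper
forces `m = 1`. -/
theorem pow_eq_self_imp {A : Type*} [CommRing A] (f : A) (hf : f ∈ nonZeroDivisors A)
    (hne : Ideal.span {f} ≠ ⊤) (m : ℕ) (h : Ideal.span {f} = Ideal.span {f} ^ m) : m = 1 := by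
  rcases m with _ | _ | m
  · exfalso; apply hne; rw [h, pow_zero, Ideal.one_eq_top]
  · rfl
  · exfalso
    apply hne
    rw [Ideal.span_singleton_pow] at h
    have hmem : f ∈ Ideal.span {f ^ (m + 1 + 1)} := by
      rw [← h]; exact Ideal.mem_span_singleton_self f
    obtain ⟨c, hc⟩ := Ideal.mem_span_singleton'.mp hmem
    -- c * f^(m+2) = f
    have h1 : (c * f ^ m * f - 1) * f = 0 := by
      have : c * f ^ (m + 1 + 1) = f := hc
      ring_nf
      ring_nf at this
      linear_combination this
    have h2 := (mem_nonZeroDivisors_iff_right.mp hf) _ h1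
    have h3 : c * f ^ m * f = 1 := sub_eq_zero.mp h2
    rw [Ideal.eq_top_iff_one]
    rw [← h3]
    exact Ideal.mul_mem_left _ _ (Ideal.mem_span_singleton_self f)

variable {R : Type u} [CommRing R] [IsDomain R] [IsDiscreteValuationRing R]
variable {A : Type u} [CommRing A] [IsRegularLocalRing A]

/-- a local retraction of `φ : R → A`, `R` a DVR: the residue field of `A` is generated by `R`. -/
theorem residue_comp_surjective (φ : R →+* A) (ψ : A →+* R) [IsLocalHom ψ]
    (hψφ : ∀ r, ψ (φ r) = r) : Function.Surjective ((residue A).comp φ) := by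
  intro y
  obtain ⟨a, rfl⟩ := residue_surjective y
  refine ⟨ψ a, ?_⟩
  rw [RingHom.comp_apply]
  symm
  rw [← sub_eq_zero, ← map_sub, residue_eq_zero_iff]
  by_contra hn
  have hu : IsUnit (a - φ (ψ a)) := by
    by_contra h'
    exact hn ((mem_maximalIdeal _).mpr h')
  have h2 : IsUnit (ψ (a - φ (ψ a))) := hu.map ψ
  rw [map_sub, hψφ, sub_self] at h2
  exact not_isUnit_zero h2

/-- a local retraction of `φ : R → A`, `R` a DVR, `A` regular local: then `A / 𝔪_R A` is regular. -/
theorem isRegularLocalRing_quotient_map (φ : R →+* A) (ψ : A →+* R) [IsLocalHom ψ]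
    (hψφ : ∀ r, ψ (φ r) = r) :
    IsRegularLocalRing (A ⧸ (maximalIdeal R).map φ) ∧
      ∃ f : A, (maximalIdeal R).map φ = Ideal.span {f} ∧ f ∈ maximalIdeal A := by
  obtain ⟨ϖ, hϖ⟩ := IsDiscreteValuationRing.exists_irreducible R
  have hm : maximalIdeal R = Ideal.span {ϖ} :=
    (IsDiscreteValuationRing.irreducible_iff_uniformizer ϖ).mp hϖ
  have hmap : (maximalIdeal R).map φ = Ideal.span {φ ϖ} := by
    rw [hm, Ideal.map_span, Set.image_singleton]
  have hψm : ∀ a ∈ maximalIdeal A, ψ a ∈ maximalIdeal R := by
    intro a ha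
    rw [mem_maximalIdeal, mem_nonunits_iff] at ha ⊢
    exact fun hu => ha (isUnit_of_map_unit ψ a hu)
  have hx : φ ϖ ∈ maximalIdeal A := by
    rw [mem_maximalIdeal, mem_nonunits_iff]
    intro hu
    have := hu.map ψ
    rw [hψφ] at this
    exact hϖ.not_isUnit this
  have hx2 : φ ϖ ∉ maximalIdeal A ^ 2 := by
    intro h
    have h1 : ψ (φ ϖ) ∈ (maximalIdeal A ^ 2).map ψ := Ideal.mem_map_of_mem ψ h
    rw [Ideal.map_pow, hψφ] at h1
    have h2 : (maximalIdeal A).map ψ ≤ maximalIdeal R := by
      rw [Ideal.map_le_iff_le_comap]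
      exact fun a ha => hψm a ha
    have h3 : ϖ ∈ maximalIdeal R ^ 2 := Ideal.pow_right_mono h2 2 h1
    rw [hm, Ideal.span_singleton_pow] at h3
    obtain ⟨c, hc⟩ := Ideal.mem_span_singleton'.mp h3
    have h4 : ϖ * (c * ϖ - 1) = 0 := by linear_combination hc
    rcases mul_eq_zero.mp h4 with h5 | h5
    · exact hϖ.ne_zero h5
    · have : IsUnit ϖ := IsUnit.of_mul_eq_one c (by linear_combination h5)
      exact hϖ.not_isUnit this
  have hne : Ideal.span {φ ϖ} ≠ ⊤ := by
    intro h
    have h1 : Ideal.span {φ ϖ} ≤ maximalIdeal A := by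
      rw [Ideal.span_le, Set.singleton_subset_iff]; exact hx
    rw [h] at h1
    exact (IsLocalRing.maximalIdeal.isMaximal A).ne_top (top_le_iff.mp h1)
  haveI : Nontrivial (A ⧸ Ideal.span {φ ϖ}) := Ideal.Quotient.nontrivial_iff.mpr hne
  haveI : IsLocalRing (A ⧸ Ideal.span {φ ϖ}) :=
    IsLocalRing.of_surjective' (Ideal.Quotient.mk _) Ideal.Quotient.mk_surjective
  have key := (Groth.Agent.Lib.Helper5.isRegularLocalRing_quotient_span_singleton hx hx2).1
  refine ⟨?_, φ ϖ, hmap, hx⟩
  rw [hmap]
  exact key

end Part1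

section Part2

open CategoryTheory AlgebraicGeometry TopologicalSpace IsLocalRing
open Groth.Agent.Lib.R2H1.CartierProd Groth.Agent.Lib.R2H1.IntMultCartier
open Groth.Agent.Lib.R2H1.SpecialFibreProd Groth.Agent.Lib.R2H1.LocQuot
open Groth.Agent.Lib.Helper4.DimFormula

variable {X : Scheme.{u}}

theorem ker_specMap_eq_of_eq (p ζ : X) (P : Ideal (X.presheaf.stalk p)) [hP : P.IsPrime]
    (hζ : ζ = X.fromSpecStalk p ⟨P, hP⟩) (ξ : X) (h : ξ ⤳ p) (hξ : ξ = ζ) :
    RingHom.ker (Cyc.specMap p ξ h) = P := by
  subst hξ
  subst hζ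
  exact ker_specMap_fromSpecStalk p P h

/-- every point of the support of `D` lies on one of the components. -/
theorem support_subset_iUnion (X : Scheme.{u}) [IsNoetherian X] (D : X.IdealSheafData) {n : ℕ}
    (E : Fin n → X.IdealSheafData)
    (hrange : Set.range (fun i => ((E i).support : Set X)) =
      {Z | Maximal (fun S : Set X => IsIrreducible S ∧ S ⊆ (D.support : Set X)) Z}) :
    (D.support : Set X) ⊆ ⋃ i, ((E i).support : Set X) := by
  intro x hx
  obtain ⟨η, hηD, hηx, hηmax⟩ :=
    Groth.Agent.Lib.H9AffIncl.exists_maximal_point D.support.isClosed hx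
  have h1 := maximal_of_maximal_point (D.support : Set X) D.support.isClosed η hηD hηmax
  have h2 : closure {η} ∈ Set.range (fun i => ((E i).support : Set X)) := by
    rw [hrange]; exact h1
  obtain ⟨i, hi⟩ := h2
  refine Set.mem_iUnion.mpr ⟨i, ?_⟩
  have hi' : ((E i).support : Set X) = closure {η} := hi
  rw [hi']
  exact hηx.mem_closure

/-- at a point `p` where the stalk of `D` is a prime ideal, exactly one component of the support of
`D` passes through `p`, and its stalk ideal at `p` is that prime. -/
theorem unique_component (X : Scheme.{u}) [IsNoetherian X] (D : X.IdealSheafData) {n : ℕ}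
    (E : Fin n → X.IdealSheafData) (hint : ∀ i, IsIntegral (E i).subscheme)
    (ξ : Fin n → X) (hξ : ∀ i, closure {ξ i} = ((E i).support : Set X))
    (hinj : Function.Injective (fun i => ((E i).support : Set X)))
    (hrange : Set.range (fun i => ((E i).support : Set X)) =
      {Z | Maximal (fun S : Set X => IsIrreducible S ∧ S ⊆ (D.support : Set X)) Z})
    (p : X) (hp : p ∈ D.support) (hP : (IntMult.stalkIdeal D p).IsPrime) :
    (∃! i : Fin n, p ∈ (E i).support) ∧
      ∀ i, p ∈ (E i).support → IntMult.stalkIdeal (E i) p = IntMult.stalkIdeal D p := by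
  have hmaxset : ∀ i, Maximal (fun S : Set X => IsIrreducible S ∧ S ⊆ (D.support : Set X))
      ((E i).support : Set X) := by
    intro i
    have : ((E i).support : Set X) ∈ Set.range (fun i => ((E i).support : Set X)) := ⟨i, rfl⟩
    rw [hrange] at this
    exact this
  have hmaxpt : ∀ i, ∀ ζ ∈ D.support, ζ ⤳ ξ i → ζ = ξ i := fun i =>
    maximal_point_of_maximal (D.support : Set X) D.support.isClosed (ξ i)
      (by rw [hξ i]; exact hmaxset i)
  have hξD : ∀ i, ξ i ∈ D.support := by
    intro i
    apply (hmaxset i).1.2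
    rw [← hξ i]
    exact subset_closure rfl
  set P := IntMult.stalkIdeal D p with hPdef
  set ζ := X.fromSpecStalk p ⟨P, hP⟩ with hζdef
  have hζp : ζ ⤳ p := fromSpecStalk_specializes p _
  have hkerζ : RingHom.ker (Cyc.specMap p ζ hζp) = P := ker_specMap_fromSpecStalk p P hζp
  have hζD : ζ ∈ D.support := by
    rw [mem_support_iff_stalkIdeal_le D p ζ hζp, hkerζ]
  have key : ∀ i, p ∈ (E i).support → ξ i = ζ := by
    intro i hi
    have hsp : ξ i ⤳ p := by
      rw [specializes_iff_mem_closure, hξ i]; exact hi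
    have hle : P ≤ RingHom.ker (Cyc.specMap p (ξ i) hsp) :=
      (mem_support_iff_stalkIdeal_le D p (ξ i) hsp).mp (hξD i)
    have h1 : ζ ⤳ ξ i := by
      rw [← fromSpecStalk_ker_specMap p (ξ i) hsp]
      exact (fromSpecStalk_specializes_iff p P _).mpr hle
    exact (hmaxpt i ζ hζD h1).symm
  refine ⟨?_, ?_⟩
  · obtain ⟨i, hi⟩ := Set.mem_iUnion.mp (support_subset_iUnion X D E hrange hp)
    refine ⟨i, hi, ?_⟩
    intro j hj
    apply hinj
    show ((E j).support : Set X) = ((E i).support : Set X)
    rw [← hξ j, ← hξ i, key j hj, key i hi]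
  · intro i hi
    haveI := hint i
    have hsp : ξ i ⤳ p := by
      rw [specializes_iff_mem_closure, hξ i]; exact hi
    have hgen := eq_generic (E i) (ξ i) (hξ i)
    have hsp' : (E i).subschemeι (genericPoint (E i).subscheme) ⤳ p := hgen ▸ hsp
    rw [stalkIdeal_eq_ker_specMap_generic (E i) p hi hsp']
    exact ker_specMap_eq_of_eq p ζ P hζdef _ hsp' (hgen ▸ key i hi)

end Part2

section Part3

open CategoryTheory AlgebraicGeometry TopologicalSpace IsLocalRing
open Groth.Agent.Lib.R2H1.CartierProd Groth.Agent.Lib.R2H1.IntMultCartier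
open Groth.Agent.Lib.R2H1.SpecialFibreProd Groth.Agent.Lib.R2H1.LocQuot
open Groth.Agent.Lib.Helper4.DimFormula

/-- at a point `p` where the stalk of the effective Cartier divisor `D` on a regular noetherian scheme
is a prime ideal, the component through `p` has multiplicity one in `D`. -/
theorem mult_eq_one (X : Scheme.{u}) [IsNoetherian X]
    (hreg : ∀ x : X, IsRegularLocalRing (X.presheaf.stalk x))
    (D : X.IdealSheafData) (hD : BlowUp.IsEffCartierIdeal D) {n : ℕ}
    (E : Fin n → X.IdealSheafData) (hint : ∀ i, IsIntegral (E i).subscheme)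
    (ξ : Fin n → X) (hξ : ∀ i, closure {ξ i} = ((E i).support : Set X))
    (hinj : Function.Injective (fun i => ((E i).support : Set X)))
    (hrange : Set.range (fun i => ((E i).support : Set X)) =
      {Z | Maximal (fun S : Set X => IsIrreducible S ∧ S ⊆ (D.support : Set X)) Z})
    (p : X) (hp : p ∈ D.support) (hP : (IntMult.stalkIdeal D p).IsPrime)
    (i : Fin n) (hi : p ∈ (E i).support) :
    (Module.length (X.presheaf.stalk (ξ i))
        (X.presheaf.stalk (ξ i) ⧸ IntMult.stalkIdeal D (ξ i))).toNat = 1 := by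
  obtain ⟨-, hprod⟩ := main_abstract X hreg D hD E hint ξ hξ hinj hrange
  obtain ⟨⟨i0, hi0, huniq⟩, hst⟩ := unique_component X D E hint ξ hξ hinj hrange p hp hP
  obtain ⟨f, hf, hDf⟩ := stalkIdeal_principal hD p
  have h1 := congrArg (fun I => IntMult.stalkIdeal I p) hprod
  beta_reduce at h1
  rw [stalkIdeal_prod, Finset.prod_eq_single i] at h1
  · rw [stalkIdeal_pow, hst i hi, hDf] at h1
    refine pow_eq_self_imp f hf ?_ _ h1
    rw [← hDf]
    exact hP.ne_top
  · intro j _ hj
    have hnot : p ∉ (E j).support := by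
      intro hmem
      exact hj ((huniq j hmem).trans (huniq i hi).symm)
    rw [stalkIdeal_pow, stalkIdeal_eq_top_of_notMem (E j) p hnot, ← Ideal.one_eq_top, one_pow]
  · intro h; exact absurd (Finset.mem_univ i) h

end Part3

section Part4

open CategoryTheory AlgebraicGeometry TopologicalSpace IsLocalRing

variable (R : Type u) [CommRing R] [IsDomain R] [IsDiscreteValuationRing R]
variable (X : Scheme.{u}) (q : X ⟶ Spec (CommRingCat.of R))
  (σ : Spec (CommRingCat.of R) ⟶ X)

/-- the retraction `O_{X,σ(s)} → R` given by a section. -/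
noncomputable def retr : X.presheaf.stalk (σ.base (closedPoint R)) →+* R :=
  (Scheme.stalkClosedPointTo σ).hom

instance : IsLocalHom (retr R X σ) := Scheme.isLocalHom_stalkClosedPointTo' σ

theorem retr_stalkHom (hσ : σ ≫ q = 𝟙 _) (r : R) :
    retr R X σ (Models.stalkHom R (Over.mk q) (σ.base (closedPoint R)) r) = r := by
  have h1 := Scheme.germ_stalkClosedPointTo σ ⊤ trivial
  have h2 : q.appTop ≫ σ.appTop = 𝟙 _ := by
    rw [← Scheme.Hom.comp_appTop, hσ, Scheme.Hom.id_appTop]
  unfold retr Models.stalkHom Coh.toGlobal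
  simp only [RingHom.comp_apply]
  have h3 := ConcreteCategory.congr_hom h1
    (q.appTop.hom ((Scheme.ΓSpecIso (CommRingCat.of R)).inv.hom r))
  rw [CommRingCat.comp_apply] at h3
  refine h3.trans ?_
  have h4 : Scheme.Hom.app σ ⊤ ≫ (Functor.mapIso (Spec (CommRingCat.of R)).presheaf
      (eqToIso (Scheme.preimage_eq_top_of_closedPoint_mem σ (U := ⊤) trivial).symm).op ≪≫
        Scheme.ΓSpecIso (CommRingCat.of R)).hom =
      σ.appTop ≫ (Scheme.ΓSpecIso (CommRingCat.of R)).hom := by
    rw [Iso.trans_hom, ← Category.assoc]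
    congr 1
  rw [h4, CommRingCat.comp_apply]
  have h5 := ConcreteCategory.congr_hom h2 ((Scheme.ΓSpecIso (CommRingCat.of R)).inv.hom r)
  rw [CommRingCat.comp_apply, CommRingCat.id_apply] at h5
  rw [h5]
  exact ConcreteCategory.congr_hom (Scheme.ΓSpecIso (CommRingCat.of R)).inv_hom_id r

end Part4

section Part5

open CategoryTheory AlgebraicGeometry TopologicalSpace IsLocalRing
open Groth.Agent.Lib.R2H1.CartierProd Groth.Agent.Lib.R2H1.IntMultCartier
open Groth.Agent.Lib.R2H1.SpecialFibreProd

/-- a section of a flat, finite type, regular scheme over a DVR meets the closed fibre in a rational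
point at which the closed fibre is regular, lying on a unique component, of multiplicity one. -/
theorem main (R : Type u) [CommRing R] [IsDomain R] [IsDiscreteValuationRing R]
    (X : Scheme.{u}) (q : X ⟶ Spec (CommRingCat.of R)) [Flat q] [LocallyOfFiniteType q]
    [QuasiCompact q] (hreg : ∀ x : X, IsRegularLocalRing (X.presheaf.stalk x))
    {n : ℕ} (Γ : Fin n → ArSurf.VertComp R (Over.mk q))
    (hΓ : Models.IsComponentList R (Over.mk q) Γ)
    (σ : Spec (CommRingCat.of R) ⟶ X) (hσ : σ ≫ q = 𝟙 _) :
    Function.Surjective ((X.residue (σ.base (closedPoint R))).hom.comp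
        (Models.stalkHom R (Over.mk q) (σ.base (closedPoint R)))) ∧
      IsRegularLocalRing (X.presheaf.stalk (σ.base (closedPoint R)) ⧸
        Ideal.map (Models.stalkHom R (Over.mk q) (σ.base (closedPoint R))) (maximalIdeal R)) ∧
      (∃! i : Fin n, σ.base (closedPoint R) ∈
        Set.range ((Γ i).ι.base : (Γ i).curve.left → (Over.mk q).left)) ∧
      ∀ i : Fin n, σ.base (closedPoint R) ∈
        Set.range ((Γ i).ι.base : (Γ i).curve.left → (Over.mk q).left) →
        Models.mult R (Over.mk q) (Γ i) = 1 := by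
  haveI : IsLocallyNoetherian X := LocallyOfFiniteType.isLocallyNoetherian q
  haveI : CompactSpace X := QuasiCompact.compactSpace_of_compactSpace q
  haveI : IsNoetherian X := {}
  set p : X := σ.base (closedPoint R) with hpdef
  haveI := hreg p
  have hψφ := retr_stalkHom R X q σ hσ
  have hreg2 := isRegularLocalRing_quotient_map (A := X.presheaf.stalk p)
    (Models.stalkHom R (Over.mk q) p) (retr R X σ) hψφ
  refine ⟨residue_comp_surjective (A := X.presheaf.stalk p)
    (Models.stalkHom R (Over.mk q) p) (retr R X σ) hψφ, hreg2.1, ?_⟩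
  -- the geometric data
  have hfun : (fun i => (((Γ i).ι.ker.support : Set (Over.mk q).left))) =
      fun i => Set.range ((Γ i).ι.base : (Γ i).curve.left → (Over.mk q).left) :=
    funext (fun i => support_ker_eq_range (Γ i))
  have hinj : Function.Injective (fun i => (((Γ i).ι.ker.support : Set (Over.mk q).left))) := by
    rw [hfun]; exact hΓ.1
  have hrange : Set.range (fun i => (((Γ i).ι.ker.support : Set (Over.mk q).left))) =
      {Z | Maximal (fun S : Set (Over.mk q).left => IsIrreducible S ∧
        S ⊆ ((Models.specialFibreIdeal R (Over.mk q)).support : Set (Over.mk q).left)) Z} := by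
    rw [hfun, hΓ.2, support_specialFibreIdeal]
    rfl
  have hp : p ∈ (Models.specialFibreIdeal R (Over.mk q)).support := by
    rw [← SetLike.mem_coe, support_specialFibreIdeal]
    have h : (σ ≫ q).base (closedPoint R) = closedPoint R := by rw [hσ]; rfl
    exact h
  have hP : (IntMult.stalkIdeal (Models.specialFibreIdeal R (Over.mk q)) p).IsPrime := by
    rw [stalkIdeal_specialFibreIdeal]
    haveI := hreg2.1
    haveI := Groth.Agent.Lib.Helper5.isDomain_of_isRegularLocalRing
      (X.presheaf.stalk p ⧸ Ideal.map (Models.stalkHom R (Over.mk q) p) (maximalIdeal R))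
    exact (Ideal.Quotient.isDomain_iff_prime _).mp inferInstance
  have hmem : ∀ i, p ∈ (Γ i).ι.ker.support ↔
      p ∈ Set.range ((Γ i).ι.base : (Γ i).curve.left → (Over.mk q).left) := fun i =>
    Set.ext_iff.mp (support_ker_eq_range (Γ i)) p
  have huc := unique_component X (Models.specialFibreIdeal R (Over.mk q))
    (fun i => (Γ i).ι.ker) (fun i => isIntegral_ker_subscheme (Γ i))
    (fun i => Models.genPtOf R (Over.mk q) (Γ i)) (fun i => closure_genPtOf (Γ i)) hinj hrange
    p hp hP
  refine ⟨?_, ?_⟩
  · obtain ⟨i, hi, hu⟩ := huc.1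
    exact ⟨i, (hmem i).mp hi, fun j hj => hu j ((hmem j).mpr hj)⟩
  · intro i hi
    have h1 := mult_eq_one X hreg (Models.specialFibreIdeal R (Over.mk q))
      (isEffCartier_specialFibreIdeal R X q)
      (fun i => (Γ i).ι.ker) (fun i => isIntegral_ker_subscheme (Γ i))
      (fun i => Models.genPtOf R (Over.mk q) (Γ i)) (fun i => closure_genPtOf (Γ i)) hinj hrange
      p hp hP i ((hmem i).mpr hi)
    unfold Models.mult
    rw [stalkIdeal_specialFibreIdeal] at h1
    exact h1

end Part5

end Groth.Agent.Lib.R2H1.SectionFibre
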