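/-
R2H1Seidenberg (helper1, round 2): Seidenberg's theorem in dimension one.
* extD : extension of a derivation to a localization (via dual numbers).
* expD : the Hasse-Schmidt exponential exp(tD) : K -> K[[t]] in characteristic zero (ring hom), coeff_key.
* mul_pow_mem, isIntegral_of_mul_pow_mem (almost integral => integral over a finite extension of a Noetherian ring).
* main_8738 : derivations of a reduced one-dimensional local ring essentially of finite type over a field of
  characteristic zero extend to the normalization.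
-/
import Mathlib
import Groth.Prelude
import Groth.Agent.Lib.R2H1DeltaBC
import Groth.Agent.Lib.Helper4FieldJapanese
import Groth.Agent.Lib.Helper14Japanese
import Groth.Agent.S7652

set_option autoImplicit false
set_option linter.style.haveILetI false
set_option linter.unusedSectionVars false
universe u

open Finset PowerSeries

namespace Groth.Agent.Lib.R2H1.Seidenberg

section Part1

section ExtendDerivation

variable {k A K : Type*} [CommRing k] [CommRing A] [Algebra k A] [CommRing K] [Algebra A K]
  [Algebra k K] [IsScalarTower k A K] (M : Submonoid A) [IsLocalization M K] (D : Derivation k A A)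

/-- the ring map `A → K[ε]`, `a ↦ a + D(a) ε` -/
noncomputable def toDual : A →+* TrivSqZeroExt K K where
  toFun a := TrivSqZeroExt.inl (algebraMap A K a) + TrivSqZeroExt.inr (algebraMap A K (D a))
  map_one' := by
    apply TrivSqZeroExt.ext
    · simp only [TrivSqZeroExt.fst_add, TrivSqZeroExt.fst_inl, TrivSqZeroExt.fst_inr, map_one,
        add_zero, TrivSqZeroExt.fst_one]
    · simp only [TrivSqZeroExt.snd_add, TrivSqZeroExt.snd_inl, TrivSqZeroExt.snd_inr,
        Derivation.map_one_eq_zero, map_zero, add_zero, TrivSqZeroExt.snd_one]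
  map_mul' a b := by
    apply TrivSqZeroExt.ext
    · simp only [TrivSqZeroExt.fst_add, TrivSqZeroExt.fst_inl, TrivSqZeroExt.fst_inr, map_mul,
        add_zero, TrivSqZeroExt.fst_mul]
    · simp only [TrivSqZeroExt.snd_add, TrivSqZeroExt.snd_inl, TrivSqZeroExt.snd_inr,
        TrivSqZeroExt.snd_mul, TrivSqZeroExt.fst_add, TrivSqZeroExt.fst_inl,
        TrivSqZeroExt.fst_inr, add_zero, zero_add, Derivation.leibniz, map_add, smul_eq_mul,
        map_mul, MulOpposite.smul_eq_mul_unop, MulOpposite.unop_op]
      ring
  map_zero' := by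
    apply TrivSqZeroExt.ext
    · simp only [TrivSqZeroExt.fst_add, TrivSqZeroExt.fst_inl, TrivSqZeroExt.fst_inr, map_zero,
        add_zero, TrivSqZeroExt.fst_zero]
    · simp only [TrivSqZeroExt.snd_add, TrivSqZeroExt.snd_inl, TrivSqZeroExt.snd_inr,
        map_zero, add_zero, TrivSqZeroExt.snd_zero]
  map_add' a b := by
    apply TrivSqZeroExt.ext
    · simp only [TrivSqZeroExt.fst_add, TrivSqZeroExt.fst_inl, TrivSqZeroExt.fst_inr, map_add,
        add_zero]
    · simp only [TrivSqZeroExt.snd_add, TrivSqZeroExt.snd_inl, TrivSqZeroExt.snd_inr,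
        map_add, zero_add]

theorem toDual_fst (a : A) : (toDual (K := K) D a).fst = algebraMap A K a := by
  show (TrivSqZeroExt.inl (algebraMap A K a) + TrivSqZeroExt.inr (algebraMap A K (D a))).fst = _
  simp only [TrivSqZeroExt.fst_add, TrivSqZeroExt.fst_inl, TrivSqZeroExt.fst_inr, add_zero]

theorem toDual_snd (a : A) : (toDual (K := K) D a).snd = algebraMap A K (D a) := by
  show (TrivSqZeroExt.inl (algebraMap A K a) + TrivSqZeroExt.inr (algebraMap A K (D a))).snd = _
  simp only [TrivSqZeroExt.snd_add, TrivSqZeroExt.snd_inl, TrivSqZeroExt.snd_inr, zero_add]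

theorem isUnit_toDual (y : M) : IsUnit (toDual (K := K) D y) := by
  rw [TrivSqZeroExt.isUnit_iff_isUnit_fst, toDual_fst]
  exact IsLocalization.map_units K y

/-- the lifted map `K → K[ε]` -/
noncomputable def liftDual : K →+* TrivSqZeroExt K K :=
  IsLocalization.lift (M := M) (g := toDual (K := K) D) (isUnit_toDual M D)

theorem liftDual_algebraMap (a : A) : liftDual M D (algebraMap A K a) = toDual (K := K) D a :=
  IsLocalization.lift_eq _ a

theorem liftDual_fst (z : K) : (liftDual M D z).fst = z := by
  have h : ((TrivSqZeroExt.fstHom K K K : TrivSqZeroExt K K →+* K).comp (liftDual M D)) =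
      RingHom.id K := by
    apply IsLocalization.ringHom_ext M
    ext a
    simp only [RingHom.coe_comp, Function.comp_apply, RingHom.id_apply]
    rw [liftDual_algebraMap]
    exact toDual_fst D a
  exact congrArg (fun f : K →+* K => f z) h

/-- the extended derivation, as a function -/
noncomputable def extFun (z : K) : K := (liftDual M D z).snd

theorem extFun_algebraMap (a : A) : extFun M D (algebraMap A K a) = algebraMap A K (D a) := by
  rw [extFun, liftDual_algebraMap, toDual_snd]

theorem extFun_add (x y : K) : extFun M D (x + y) = extFun M D x + extFun M D y := by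
  simp [extFun]

theorem extFun_mul (x y : K) : extFun M D (x * y) = x * extFun M D y + y * extFun M D x := by
  simp only [extFun, map_mul, TrivSqZeroExt.snd_mul, liftDual_fst, smul_eq_mul,
    MulOpposite.smul_eq_mul_unop, MulOpposite.unop_op]
  ring

theorem extFun_smul (r : k) (x : K) : extFun M D (r • x) = r • extFun M D x := by
  have h1 : r • x = algebraMap A K (algebraMap k A r) * x := by
    rw [← IsScalarTower.algebraMap_apply, Algebra.smul_def]
  rw [h1, extFun_mul, extFun_algebraMap, Derivation.map_algebraMap, map_zero, mul_zero, add_zero,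
    ← IsScalarTower.algebraMap_apply, ← Algebra.smul_def]

/-- the extension of a derivation to a localization -/
noncomputable def extD : Derivation k K K :=
  Derivation.mk'
    { toFun := extFun M D
      map_add' := extFun_add M D
      map_smul' := fun r x => by
        simp only [RingHom.id_apply]
        exact extFun_smul M D r x }
    (fun a b => by
      show extFun M D (a * b) = a • extFun M D b + b • extFun M D a
      rw [extFun_mul, smul_eq_mul, smul_eq_mul])

theorem extD_algebraMap (a : A) : extD M D (algebraMap A K a) = algebraMap A K (D a) :=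
  extFun_algebraMap M D a

end ExtendDerivation

end Part1

section Part2

open Finset PowerSeries

section Exp

variable {k K : Type*} [Field k] [CharZero k] [CommRing K] [Algebra k K] (D : Derivation k K K)

theorem iterate_mul (n : ℕ) (a b : K) :
    (⇑D)^[n] (a * b) =
      ∑ ij ∈ antidiagonal n, n.choose ij.1 • ((⇑D)^[ij.1] a * (⇑D)^[ij.2] b) := by
  induction n with
  | zero => simp
  | succ n ih =>
    rw [sum_antidiagonal_choose_succ_nsmul (M := K) (fun i j => (⇑D)^[i] a * (⇑D)^[j] b) n]
    simp only [Function.iterate_succ_apply', ih, map_sum, map_nsmul, Derivation.leibniz,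
      smul_eq_mul, smul_add, sum_add_distrib]
    congr 1
    refine sum_congr rfl fun ⟨i, j⟩ hij => ?_
    rw [n.choose_symm_of_eq_add (mem_antidiagonal.1 hij).symm, mul_comm ((⇑D)^[j] b)]

theorem iterate_one (n : ℕ) (hn : n ≠ 0) : (⇑D)^[n] (1 : K) = 0 := by
  obtain ⟨m, rfl⟩ := Nat.exists_eq_succ_of_ne_zero hn
  rw [Function.iterate_succ_apply, Derivation.map_one_eq_zero]
  exact iterate_map_zero D m

/-- the coefficient `1 / n!` -/
noncomputable def cf (n : ℕ) : K := algebraMap k K ((n.factorial : k)⁻¹)

/-- the `n`-th divided power operator `D^n / n!` -/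
noncomputable def hs (n : ℕ) (x : K) : K := cf (k := k) n * (⇑D)^[n] x

theorem hs_zero (x : K) : hs D 0 x = x := by
  simp [hs, cf]

theorem hs_one (x : K) : hs D 1 x = D x := by
  simp [hs, cf]

theorem hs_add (n : ℕ) (x y : K) : hs D n (x + y) = hs D n x + hs D n y := by
  simp only [hs]
  rw [iterate_map_add, mul_add]

theorem hs_map_zero (n : ℕ) : hs D n 0 = 0 := by
  simp only [hs]
  rw [iterate_map_zero, mul_zero]

theorem hs_map_one (n : ℕ) (hn : n ≠ 0) : hs D n 1 = 0 := by
  simp only [hs]
  rw [iterate_one D n hn, mul_zero]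

theorem cf_mul (i j : ℕ) :
    cf (k := k) (K := K) (i + j) * ((i + j).choose i : K) = cf (k := k) i * cf (k := k) j := by
  simp only [cf]
  have h1 : (((i + j).choose i : ℕ) : K) = algebraMap k K (((i + j).choose i : ℕ) : k) := by
    rw [map_natCast]
  rw [h1, ← map_mul, ← map_mul]
  congr 1
  have h2 : (((i + j).choose i : ℕ) : k) * (i.factorial : k) * (j.factorial : k) =
      ((i + j).factorial : k) := by
    have h3 := Nat.add_choose_mul_factorial_mul_factorial i j
    rw [← Nat.choose_symm_add] at h3
    exact_mod_cast h3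
  have hc : (((i + j).choose i : ℕ) : k) ≠ 0 :=
    Nat.cast_ne_zero.mpr (Nat.choose_pos (Nat.le_add_right i j)).ne'
  have hi : (i.factorial : k) ≠ 0 := Nat.cast_ne_zero.mpr (Nat.factorial_ne_zero i)
  have hj : (j.factorial : k) ≠ 0 := Nat.cast_ne_zero.mpr (Nat.factorial_ne_zero j)
  have hij : ((i + j).factorial : k) ≠ 0 := Nat.cast_ne_zero.mpr (Nat.factorial_ne_zero _)
  rw [← h2]
  field_simp

theorem hs_mul (n : ℕ) (a b : K) :
    hs D n (a * b) = ∑ ij ∈ antidiagonal n, hs D ij.1 a * hs D ij.2 b := by
  simp only [hs]
  rw [iterate_mul, mul_sum]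
  refine sum_congr rfl fun ⟨i, j⟩ hij => ?_
  have hn : i + j = n := mem_antidiagonal.1 hij
  subst hn
  simp only
  rw [nsmul_eq_mul, ← mul_assoc, cf_mul]
  ring

/-- the exponential `exp(tD) : K → K[[t]]` -/
noncomputable def expD : K →+* PowerSeries K where
  toFun x := PowerSeries.mk (fun n => hs D n x)
  map_one' := by
    ext n
    rw [coeff_mk, coeff_one]
    split_ifs with h
    · subst h; exact hs_zero D 1
    · exact hs_map_one D n h
  map_mul' a b := by
    ext n
    rw [coeff_mk, coeff_mul, hs_mul]
    refine sum_congr rfl fun ij _ => ?_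
    rw [coeff_mk, coeff_mk]
  map_zero' := by
    ext n
    rw [coeff_mk, map_zero]
    exact hs_map_zero D n
  map_add' a b := by
    ext n
    rw [coeff_mk, map_add, coeff_mk, coeff_mk]
    exact hs_add D n a b

theorem coeff_expD (n : ℕ) (x : K) : coeff n (expD D x) = hs D n x := by
  show coeff n (PowerSeries.mk fun n => hs D n x) = _
  exact coeff_mk _ _

theorem constantCoeff_expD (x : K) : constantCoeff (expD D x) = x := by
  rw [← coeff_zero_eq_constantCoeff_apply, coeff_expD, hs_zero]

/-- the key coefficient identity -/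
theorem coeff_key (c x : K) (n : ℕ) :
    coeff n (expD D c * (expD D x - C x) ^ n) = c * (D x) ^ n := by
  have h1 : expD D x - C x = X * PowerSeries.mk (fun p => coeff (p + 1) (expD D x)) := by
    have := PowerSeries.sub_const_eq_X_mul_shift (expD D x)
    rw [constantCoeff_expD] at this
    exact this
  rw [h1, mul_pow, ← mul_assoc, mul_comm (expD D c), mul_assoc, coeff_X_pow_mul', if_pos le_rfl,
    Nat.sub_self, coeff_zero_eq_constantCoeff_apply, map_mul, map_pow, constantCoeff_expD]
  congr 2
  rw [← coeff_zero_eq_constantCoeff_apply, coeff_mk, coeff_expD, hs_one]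

end Exp

end Part2

section Part3

open Finset PowerSeries

section Main

variable {k A K : Type*} [Field k] [CharZero k] [CommRing A] [Algebra k A] [CommRing K]
  [Algebra A K] [Algebra k K] [IsScalarTower k A K] (D : Derivation k A A) (DK : Derivation k K K)
  (hD : ∀ a : A, DK (algebraMap A K a) = algebraMap A K (D a))

include hD in
theorem iterate_algebraMap (n : ℕ) (a : A) :
    (⇑DK)^[n] (algebraMap A K a) = algebraMap A K ((⇑D)^[n] a) := by
  induction n generalizing a with
  | zero => rfl
  | succ n ih =>
    rw [Function.iterate_succ_apply, Function.iterate_succ_apply, hD, ih]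

include hD in
theorem coeff_expD_algebraMap (n : ℕ) (a : A) :
    coeff n (expD DK (algebraMap A K a)) ∈ (algebraMap A K).range := by
  rw [coeff_expD, hs, iterate_algebraMap D DK hD, cf]
  refine ⟨algebraMap k A ((n.factorial : k)⁻¹) * (⇑D)^[n] a, ?_⟩
  rw [map_mul, ← IsScalarTower.algebraMap_apply]

/-- power series with coefficients in a subalgebra -/
def coeffSubring (B : Subalgebra A K) : Subring (PowerSeries K) where
  carrier := {f | ∀ n, coeff n f ∈ B}
  mul_mem' := by
    intro f g hf hg n
    rw [coeff_mul]
    exact Subalgebra.sum_mem _ (fun ij _ => mul_mem (hf _) (hg _))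
  one_mem' := by
    intro n
    rw [coeff_one]
    split_ifs
    · exact one_mem _
    · exact zero_mem _
  add_mem' := by
    intro f g hf hg n
    rw [map_add]
    exact add_mem (hf n) (hg n)
  zero_mem' := by
    intro n
    rw [map_zero]
    exact zero_mem _
  neg_mem' := by
    intro f hf n
    rw [map_neg]
    exact neg_mem (hf n)

theorem mem_coeffSubring (B : Subalgebra A K) (f : PowerSeries K) :
    f ∈ coeffSubring B ↔ ∀ n, coeff n f ∈ B := Iff.rfl

theorem C_mem_coeffSubring (B : Subalgebra A K) {x : K} (hx : x ∈ B) :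
    (C x : PowerSeries K) ∈ coeffSubring B := by
  intro n
  rw [coeff_C]
  split_ifs
  · exact hx
  · exact zero_mem _

include hD in
theorem expD_mem_coeffSubring (B : Subalgebra A K) (a : A) :
    expD DK (algebraMap A K a) ∈ coeffSubring B := by
  intro n
  obtain ⟨a', ha'⟩ := coeff_expD_algebraMap D DK hD n a
  rw [← ha']
  exact B.algebraMap_mem a'

include hD in
/-- `c (D x)^n` lies in `B` when `c x^m ∈ A` for all `m`. -/
theorem mul_pow_mem (B : Subalgebra A K) (c x : K) (hx : x ∈ B)
    (hcx : ∀ m : ℕ, c * x ^ m ∈ (algebraMap A K).range) (n : ℕ) :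
    c * (DK x) ^ n ∈ B := by
  rw [← coeff_key DK c x n]
  have hmem : expD DK c * (expD DK x - C x) ^ n ∈ coeffSubring B := by
    rw [sub_eq_add_neg, add_pow, mul_sum]
    refine Subring.sum_mem _ (fun m _ => ?_)
    have h1 : expD DK c * (expD DK x ^ m * (-C x) ^ (n - m) * (n.choose m : PowerSeries K)) =
        expD DK (c * x ^ m) * (-C x) ^ (n - m) * (n.choose m : PowerSeries K) := by
      rw [map_mul, map_pow]
      ring
    rw [h1]
    obtain ⟨a, ha⟩ := hcx m
    rw [← ha]
    refine mul_mem (mul_mem (expD_mem_coeffSubring D DK hD B a) ?_) (natCast_mem _ _)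
    exact pow_mem (neg_mem (C_mem_coeffSubring B hx)) _
  exact hmem n

end Main

section AlmostIntegral

variable {A K : Type*} [CommRing A] [IsNoetherianRing A] [CommRing K] [Algebra A K]

/-- almost integral elements over a finite extension are integral -/
theorem isIntegral_of_mul_pow_mem (B : Subalgebra A K) [Module.Finite A B]
    (c : K) (hc : IsUnit c) (y : K) (hy : ∀ n : ℕ, c * y ^ n ∈ B) : IsIntegral A y := by
  obtain ⟨u, rfl⟩ := hc
  -- the submodule `c⁻¹ B`
  let Mm : Submodule A K := (Subalgebra.toSubmodule B).map (LinearMap.lsmul K K (↑u⁻¹ : K) |>.restrictScalars A)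
  have hBfg : (Subalgebra.toSubmodule B).FG := by
    have : Module.Finite A (Subalgebra.toSubmodule B) := ‹Module.Finite A B›
    exact Module.Finite.iff_fg.mp this
  have hMfg : Mm.FG := hBfg.map _
  haveI : IsNoetherian A Mm := isNoetherian_of_fg_of_noetherian Mm hMfg
  have hle : Subalgebra.toSubmodule (Algebra.adjoin A {y}) ≤ Mm := by
    rw [Algebra.adjoin_eq_span, Submodule.span_le]
    intro z hz
    obtain ⟨n, rfl⟩ := Submonoid.mem_closure_singleton.mp hz
    refine ⟨(u : K) * y ^ n, hy n, ?_⟩
    show (↑u⁻¹ : K) * ((u : K) * y ^ n) = y ^ n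
    rw [← mul_assoc, Units.inv_mul, one_mul]
  have hfg : (Subalgebra.toSubmodule (Algebra.adjoin A {y})).FG :=
    isNoetherian_submodule.mp (inferInstance : IsNoetherian A Mm) _ hle
  exact IsIntegral.of_mem_of_fg _ hfg y (Algebra.self_mem_adjoin_singleton A y)

end AlmostIntegral

end Part3

section Part4

section Final

theorem main_8738 (k : Type u) [Field k] [CharZero k] (A : Type u) [CommRing A]
    [Algebra k A] [IsReduced A] [IsNoetherianRing A] [IsLocalRing A] [Algebra.EssFiniteType k A]
    (hdim : ringKrullDim A = 1) (D : Derivation k A A) :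
    ∃ D' : Derivation k ↥(integralClosure A (FractionRing A)) ↥(integralClosure A (FractionRing A)),
      ∀ a : A, (D' (algebraMap A ↥(integralClosure A (FractionRing A)) a) : FractionRing A) =
        algebraMap A (FractionRing A) (D a) := by
  classical
  -- Nagata
  have h0 : CAlg.IsNagata (Algebra.EssFiniteType.subalgebra k A) :=
    Groth.Agent.Lib.Helper4.FieldJapanese.isNagata_of_finiteType_field k _
  have hN : CAlg.IsNagata A :=
    Groth.Agent.Lib.Helper14.isNagata_of_isLocalization (Algebra.EssFiniteType.subalgebra k A)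
      (Algebra.EssFiniteType.submonoid k A) A h0
  obtain ⟨hfin, -, -⟩ := Groth.Agent.S7652.result A hN hdim
  haveI := hfin
  let K := FractionRing A
  let B : Subalgebra A K := integralClosure A K
  let DK : Derivation k K K := extD (nonZeroDivisors A) D
  have hD : ∀ a : A, DK (algebraMap A K a) = algebraMap A K (D a) :=
    extD_algebraMap (nonZeroDivisors A) D
  obtain ⟨c, hc, hcx⟩ := Groth.Agent.Lib.R2H1.DeltaBC.exists_conductor A
  have hcu : IsUnit (algebraMap A K c) := IsLocalization.map_units K ⟨c, hc⟩
  have hcond : ∀ x : K, x ∈ B → algebraMap A K c * x ∈ (algebraMap A K).range := by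
    intro x hx
    obtain ⟨a, ha⟩ := hcx ⟨x, hx⟩
    refine ⟨a, ?_⟩
    have := congrArg Subtype.val ha
    rw [← Algebra.smul_def]
    exact this.symm
  have hmem : ∀ x : K, x ∈ B → DK x ∈ B := by
    intro x hx
    have h1 : ∀ n : ℕ, algebraMap A K c * (DK x) ^ n ∈ B :=
      mul_pow_mem D DK hD B (algebraMap A K c) x hx (fun m => hcond _ (pow_mem hx m))
    exact isIntegral_of_mul_pow_mem B (algebraMap A K c) hcu (DK x) h1
  let D'lin : B →ₗ[k] B :=
    { toFun := fun x => ⟨DK x.1, hmem x.1 x.2⟩
      map_add' := fun x y => Subtype.ext (by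
        show DK ((x + y : B) : K) = DK x.1 + DK y.1
        rw [Subalgebra.coe_add, map_add])
      map_smul' := fun r x => Subtype.ext (by
        show DK ((r • x : B) : K) = ((r • (⟨DK x.1, hmem x.1 x.2⟩ : B) : B) : K)
        rw [Subalgebra.coe_smul, Subalgebra.coe_smul, Derivation.map_smul]) }
  refine ⟨Derivation.mk' D'lin (fun a b => Subtype.ext ?_), fun a => ?_⟩
  · show DK ((a * b : B) : K) = ((a • (⟨DK b.1, hmem b.1 b.2⟩ : B) + b • (⟨DK a.1, hmem a.1 a.2⟩ : B) : B) : K)
    rw [Subalgebra.coe_mul, Derivation.leibniz, Subalgebra.coe_add]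
    rfl
  · show DK (algebraMap A K a) = _
    exact hD a

end Final

end Part4

end Groth.Agent.Lib.R2H1.Seidenberg
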