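/-
Helper library (helper1, round 2): A(t) ∩ S/Q is an excellent henselian local ring with fraction
field A(t) (S = A^sh, A excellent henselian, Q prime).  isIntegral_sh_of_henselian,
exists_dvd_of_isIntegral, main_16445.
-/
import Mathlib
import Groth.Agent.Lib.R2H1ShQuot
import Groth.Agent.S2651

set_option autoImplicit false
set_option linter.style.haveILetI false
set_option linter.unusedSectionVars false
universe u

namespace Groth.Agent.Lib.R2H1.ShExc

section Part1

open IsLocalRing Polynomial Groth.Agent.Lib.R2H1.ShHens Groth.Agent.Lib.R2H1.ShQuot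

/-- The strict henselization of a henselian Noetherian local ring is integral over it. -/
theorem isIntegral_sh_of_henselian (A S : Type u) [CommRing A] [hAh : HenselianLocalRing A]
    [IsNoetherianRing A] [CommRing S] [IsLocalRing S] [Algebra A S] [IsLocalHom (algebraMap A S)]
    [Hensel.IsStrictHenselization A S] (x : S) : IsIntegral A x := by
  classical
  obtain ⟨E, hxE, ⟨hEloc, hE⟩, -, -⟩ := Groth.Agent.Lib.Helper8ShStage.exists_stage A S {x}
  obtain ⟨hfin, -, -⟩ := Groth.Agent.Lib.R2H1.EssEtFin.finite_flat_unram A E hAh hE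
  haveI := hfin
  have hx : x ∈ E := hxE (by simp)
  have h1 : IsIntegral A (⟨x, hx⟩ : E) := Algebra.IsIntegral.isIntegral _
  exact h1.map E.val

/-- A nonzero element of a domain, integral over `A`, divides the image of an element of `A` with
nonzero image. -/
theorem exists_dvd_of_isIntegral (A S₁ : Type*) [CommRing A] [CommRing S₁] [IsDomain S₁]
    [Algebra A S₁] (d : S₁) (hd : d ≠ 0) (hint : IsIntegral A d) :
    ∃ a₀ : A, algebraMap A S₁ a₀ ≠ 0 ∧ d ∣ algebraMap A S₁ a₀ := by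
  let R₀ : Subring S₁ := (algebraMap A S₁).range
  have hint' : IsIntegral R₀ d := by
    obtain ⟨p, hp, hpd⟩ := hint
    refine ⟨p.map (algebraMap A S₁).rangeRestrict, hp.map _, ?_⟩
    rw [Polynomial.eval₂_map]
    exact hpd
  obtain ⟨r, hr0, hr⟩ := hint'.isAlgebraic.exists_nonzero_dvd (mem_nonZeroDivisors_of_ne_zero hd)
  obtain ⟨a₀, ha₀⟩ := r.2
  refine ⟨a₀, ?_, ?_⟩
  · rw [ha₀]
    exact fun h0 => hr0 (Subtype.ext h0)
  · rw [ha₀]
    exact hr

end Part1

section Part2

open IsLocalRing Polynomial Groth.Agent.Lib.R2H1.ShHens Groth.Agent.Lib.R2H1.ShQuot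

set_option maxHeartbeats 800000 in
theorem main_16445
    (A S : Type u) [CommRing A] [hAh : HenselianLocalRing A] (hA : EGA4.IsExcellent A)
    [CommRing S] [IsLocalRing S] [Algebra A S] [IsLocalHom (algebraMap A S)]
    [hS : Hensel.IsStrictHenselization A S] (Q : Ideal S) [Q.IsPrime]
    (t : Finset (FractionRing (S ⧸ Q))) :
    ∃ D' : Subalgebra A (S ⧸ Q), (D' : Set (S ⧸ Q)) = (algebraMap (S ⧸ Q) (FractionRing (S ⧸ Q))) ⁻¹'
        (Subfield.closure (Set.range (algebraMap A (FractionRing (S ⧸ Q))) ∪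
          (t : Set (FractionRing (S ⧸ Q)))) : Set (FractionRing (S ⧸ Q))) ∧
      EGA4.IsExcellent D' ∧ ∃ _ : HenselianLocalRing D',
        ∀ l ∈ Subfield.closure (Set.range (algebraMap A (FractionRing (S ⧸ Q))) ∪
            (t : Set (FractionRing (S ⧸ Q)))),
          ∃ a ∈ D', ∃ b ∈ D', algebraMap (S ⧸ Q) (FractionRing (S ⧸ Q)) b ≠ 0 ∧
            l * algebraMap (S ⧸ Q) (FractionRing (S ⧸ Q)) b =
              algebraMap (S ⧸ Q) (FractionRing (S ⧸ Q)) a := by
  classical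
  haveI : IsNoetherianRing A := hA.1
  haveI : HenselianLocalRing S := hS.henselian
  haveI hS₁ : HenselianLocalRing (S ⧸ Q) := henselian_quot S Q
  obtain ⟨D, hD, hfin, -⟩ := main_16440 A S Q t
  haveI := hfin
  let Ks := FractionRing (S ⧸ Q)
  let F : Subfield Ks := Subfield.closure (Set.range (algebraMap A Ks) ∪ (t : Set Ks))
  have hι : Function.Injective (algebraMap (S ⧸ Q) Ks) := IsFractionRing.injective _ _
  have hmem : ∀ x : S ⧸ Q, x ∈ D ↔ algebraMap (S ⧸ Q) Ks x ∈ F := by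
    intro x
    rw [← SetLike.mem_coe, hD]
    rfl
  have hAF : ∀ a : A, algebraMap (S ⧸ Q) Ks (algebraMap A (S ⧸ Q) a) ∈ F := fun a =>
    (hmem _).mp (D.algebraMap_mem a)
  refine ⟨D, hD, Groth.Agent.S2651.result A hA D, ?_⟩
  -- locality
  have hunitD : ∀ x : D, IsUnit (x : S ⧸ Q) → IsUnit x := by
    intro x hx
    obtain ⟨y, hy⟩ := isUnit_iff_exists_inv.mp hx
    have hyD : y ∈ D := by
      rw [hmem]
      have h1 : algebraMap (S ⧸ Q) Ks y = (algebraMap (S ⧸ Q) Ks (x : S ⧸ Q))⁻¹ := by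
        apply eq_inv_of_mul_eq_one_right
        rw [← map_mul, hy, map_one]
      rw [h1]
      exact F.inv_mem ((hmem _).mp x.2)
    exact isUnit_iff_exists_inv.mpr ⟨⟨y, hyD⟩, Subtype.ext hy⟩
  obtain ⟨hDloc, -⟩ := Groth.Agent.Lib.R2H1.ShTransfer.isLocalRing_of_isUnit A (S ⧸ Q) D hunitD
  haveI := hDloc
  refine ⟨Groth.Agent.Lib.Helper24G0.henselian_of_finite A D, ?_⟩
  intro l hl
  obtain ⟨n, d, hd, rfl⟩ := IsFractionRing.div_surjective (A := S ⧸ Q) l
  have hd0 : d ≠ 0 := nonZeroDivisors.ne_zero hd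
  have hdint : IsIntegral A d := by
    obtain ⟨d', rfl⟩ := Ideal.Quotient.mk_surjective d
    exact (isIntegral_sh_of_henselian A S d').map (Ideal.Quotient.mkₐ A Q)
  obtain ⟨a₀, ha₀, d', hd'⟩ := exists_dvd_of_isIntegral A (S ⧸ Q) d hd0 hdint
  have hιd : algebraMap (S ⧸ Q) Ks d ≠ 0 := fun h0 => hd0 (hι (by rw [h0, map_zero]))
  have hkey : algebraMap (S ⧸ Q) Ks n / algebraMap (S ⧸ Q) Ks d *
      algebraMap (S ⧸ Q) Ks (algebraMap A (S ⧸ Q) a₀) = algebraMap (S ⧸ Q) Ks (n * d') := by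
    rw [hd', map_mul, map_mul, div_mul_eq_mul_div, div_eq_iff hιd]
    ring
  refine ⟨n * d', ?_, algebraMap A (S ⧸ Q) a₀, D.algebraMap_mem a₀, ?_, hkey⟩
  · rw [hmem, ← hkey]
    exact F.mul_mem hl (hAF a₀)
  · exact fun h0 => ha₀ (hι (by rw [h0, map_zero]))

end Part2

end Groth.Agent.Lib.R2H1.ShExc
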