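/-
Smooth algebras over a strictly henselian local domain have geometrically unibranch domain local rings at primes over the closed point (via normalization N, S13198 and smooth ascent of normality). (helper1, run 2)
-/
import Mathlib
import Groth.Agent.S13198
import Groth.Agent.Lib.Helper7GeomInt
import Groth.Agent.Lib.Helper6SmNorm
import Groth.Agent.Lib.Helper4Unibranch

set_option autoImplicit false
set_option linter.style.haveILetI false
set_option linter.unusedSectionVars false
universe u

namespace Groth.Agent.Lib.R2H1.SmUnibranch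

section Part1

open IsLocalRing TensorProduct

/-- An integrally closed domain is a normal ring. -/
theorem isNormalRing_of_isIntegrallyClosed (N : Type u) [CommRing N] [IsDomain N]
    [IsIntegrallyClosed N] : EGA4.IsNormalRing N := by
  intro Q hQ
  exact ⟨inferInstance, isIntegrallyClosed_of_isLocalization (R := N) (Localization.AtPrime Q)
    Q.primeCompl Q.primeCompl_le_nonZeroDivisors⟩

section
variable (R : Type u) [CommRing R] [HenselianLocalRing R]
  (N : Type u) [CommRing N] [IsDomain N] [Algebra R N] [Algebra.IsIntegral R N]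

theorem isLocalHom_N [IsLocalRing N] (hinj : Function.Injective (algebraMap R N)) :
    IsLocalHom (algebraMap R N) :=
  RingHom.IsIntegral.isLocalHom
    (fun x => Algebra.IsIntegral.isIntegral (R := R) x) hinj

theorem isAlgebraic_residue_N [IsLocalRing N] [IsLocalHom (algebraMap R N)] :
    Algebra.IsAlgebraic (ResidueField R) (ResidueField N) := by
  haveI : Algebra.IsIntegral (ResidueField R) (ResidueField N) := by
    constructor
    intro x
    obtain ⟨n, rfl⟩ := IsLocalRing.residue_surjective x
    have h1 : IsIntegral R n := Algebra.IsIntegral.isIntegral n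
    have h2 : IsIntegral R (IsLocalRing.residue _ n) :=
      h1.map (IsScalarTower.toAlgHom R N (ResidueField N))
    exact h2.tower_top
  infer_instance

end

section Main
variable (R R' : Type u) [CommRing R] [IsLocalRing R]
  [CommRing R'] [Algebra R R'] [Algebra.Smooth R R']
  (p : Ideal R') [p.IsPrime]
  (N : Type u) [CommRing N] [IsDomain N] [IsIntegrallyClosed N] [Algebra R N]

theorem isLocalHom_B (hp : (maximalIdeal R).map (algebraMap R R') ≤ p) :
    IsLocalHom (algebraMap R (Localization.AtPrime p)) := by
  constructor
  intro r hr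
  by_contra hnu
  have hrm : r ∈ maximalIdeal R := (IsLocalRing.mem_maximalIdeal r).mpr hnu
  have h1 : algebraMap R R' r ∈ p := hp (Ideal.mem_map_of_mem _ hrm)
  have h2 : algebraMap R' (Localization.AtPrime p) (algebraMap R R' r) ∈
      maximalIdeal (Localization.AtPrime p) :=
    (IsLocalization.AtPrime.to_map_mem_maximal_iff _ p _).mpr h1
  rw [← IsScalarTower.algebraMap_apply R R' (Localization.AtPrime p)] at h2
  exact (IsLocalRing.mem_maximalIdeal _).mp h2 hr

instance flat_B : Module.Flat R (Localization.AtPrime p) :=
  Module.Flat.trans R R' (Localization.AtPrime p)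

/-- the map `N ⊗ R' → N ⊗ R'_p` -/
noncomputable def φ : N ⊗[R] R' →ₐ[N] N ⊗[R] (Localization.AtPrime p) :=
  Algebra.TensorProduct.map (AlgHom.id _ _) (IsScalarTower.toAlgHom R R' (Localization.AtPrime p))

/-- `N ⊗ R'_p` is a normal domain once it is local. -/
theorem normal_T [hT : IsLocalRing (N ⊗[R] (Localization.AtPrime p))] :
    IsDomain (N ⊗[R] (Localization.AtPrime p)) ∧
      IsIntegrallyClosed (N ⊗[R] (Localization.AtPrime p)) := by
  have hN : EGA4.IsNormalRing N := isNormalRing_of_isIntegrallyClosed _
  have hS : EGA4.IsNormalRing (N ⊗[R] R') :=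
    Groth.Agent.Lib.Helper6.SmNorm.isNormalRing_of_smooth _ _ hN
  letI : Algebra (N ⊗[R] R') (N ⊗[R] (Localization.AtPrime p)) :=
    (φ R R' p N).toRingHom.toAlgebra
  haveI : IsScalarTower N (N ⊗[R] R') (N ⊗[R] (Localization.AtPrime p)) :=
    IsScalarTower.of_algebraMap_eq (fun n => ((φ R R' p N).commutes n).symm)
  haveI hloc : IsLocalization (p.primeCompl.map (Algebra.TensorProduct.includeRight (R := R)
      (A := N))) (N ⊗[R] (Localization.AtPrime p)) := by
    refine IsLocalization.tensorProduct_tensorProduct_right R N p.primeCompl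
      (Localization.AtPrime p) ?_
    ext x
    change (φ R R' p N) ((1 : N) ⊗ₜ[R] x) = _
    simp [φ]
  haveI : IsLocalization.AtPrime (N ⊗[R] (Localization.AtPrime p))
      (maximalIdeal (N ⊗[R] (Localization.AtPrime p))) := by
    apply IsLocalization.self
    intro x hx
    exact (IsLocalRing.notMem_maximalIdeal).mp hx
  have hQ := IsLocalization.isLocalization_isLocalization_atPrime_isLocalization
    (p.primeCompl.map (Algebra.TensorProduct.includeRight (R := R) (A := N)))
    (N ⊗[R] (Localization.AtPrime p)) (maximalIdeal (N ⊗[R] (Localization.AtPrime p)))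
  have key : ∀ (Q : Ideal (N ⊗[R] R')) [Q.IsPrime]
      [IsLocalization.AtPrime (N ⊗[R] (Localization.AtPrime p)) Q],
      IsDomain (N ⊗[R] (Localization.AtPrime p)) ∧
      IsIntegrallyClosed (N ⊗[R] (Localization.AtPrime p)) := by
    intro Q _ _
    obtain ⟨hd, hic⟩ := hS Q
    let e : Localization.AtPrime Q ≃ₐ[N ⊗[R] R'] (N ⊗[R] (Localization.AtPrime p)) :=
      IsLocalization.algEquiv Q.primeCompl _ _
    exact ⟨e.symm.toRingEquiv.toMulEquiv.isDomain _, IsIntegrallyClosed.of_equiv e.toRingEquiv⟩
  exact @key _ (Ideal.comap_isPrime _ _) hQ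

end Main

end Part1

section Part2

open IsLocalRing TensorProduct

section Main2
variable (R R' : Type u) [CommRing R] [IsDomain R] [HenselianLocalRing R]
  [IsSepClosed (ResidueField R)]
  [CommRing R'] [Algebra R R'] [Algebra.Smooth R R'] (p : Ideal R') [p.IsPrime]
  (N : Type u) [CommRing N] [IsDomain N] [IsIntegrallyClosed N] [Algebra R N]
  [Algebra.IsIntegral R N]

attribute [local instance] Algebra.TensorProduct.rightAlgebra in
set_option maxHeartbeats 1600000 in
theorem core (hp : (maximalIdeal R).map (algebraMap R R') ≤ p)
    (hinj : Function.Injective (algebraMap R N))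
    (hfrac : ∀ n : N, ∃ r : R, r ≠ 0 ∧ ∃ a : R, algebraMap R N r * n = algebraMap R N a) :
    IsDomain (Localization.AtPrime p) ∧ CAlg2.IsGeomUnibranch (Localization.AtPrime p) := by
  haveI : IsLocalRing N :=
    Groth.Agent.Lib.Helper7.GeomInt.isLocalRing_of_isIntegral_of_isDomain R N
  haveI : IsLocalHom (algebraMap R N) := isLocalHom_N R N hinj
  haveI : Algebra.IsAlgebraic (ResidueField R) (ResidueField N) := isAlgebraic_residue_N R N
  haveI : IsPurelyInseparable (ResidueField R) (ResidueField N) := inferInstance
  haveI : IsLocalHom (algebraMap R (Localization.AtPrime p)) := isLocalHom_B R R' p hp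
  obtain ⟨hTloc, hιloc, hpow⟩ := Groth.Agent.S13198.result R N (Localization.AtPrime p)
  haveI := hTloc
  obtain ⟨hTd, hTic⟩ := normal_T R R' p N
  haveI := hTd
  haveI := hTic
  have hιinj : Function.Injective (algebraMap (Localization.AtPrime p)
      (N ⊗[R] Localization.AtPrime p)) :=
    Algebra.TensorProduct.includeRight_injective hinj
  have hιapp : ∀ b : Localization.AtPrime p,
      algebraMap (Localization.AtPrime p) (N ⊗[R] Localization.AtPrime p) b = (1 : N) ⊗ₜ[R] b :=
    fun b => rfl
  haveI hBd : IsDomain (Localization.AtPrime p) := hιinj.isDomain _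
  refine ⟨hBd, ?_⟩
  haveI : Module.FaithfullyFlat R (Localization.AtPrime p) :=
    Module.FaithfullyFlat.of_flat_of_isLocalHom
  have hRB : Function.Injective (algebraMap R (Localization.AtPrime p)) :=
    FaithfulSMul.algebraMap_injective R _
  -- clearing denominators
  have hclear : ∀ t : N ⊗[R] Localization.AtPrime p, ∃ r : R, r ≠ 0 ∧
      ∃ b : Localization.AtPrime p,
        algebraMap (Localization.AtPrime p) (N ⊗[R] Localization.AtPrime p)
          (algebraMap R (Localization.AtPrime p) r) * t =
        algebraMap (Localization.AtPrime p) (N ⊗[R] Localization.AtPrime p) b := by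
    intro t
    induction t using TensorProduct.induction_on with
    | zero => exact ⟨1, one_ne_zero, 0, by simp⟩
    | tmul n b =>
      obtain ⟨r, hr, a, ha⟩ := hfrac n
      refine ⟨r, hr, algebraMap R (Localization.AtPrime p) a * b, ?_⟩
      rw [hιapp, hιapp, Algebra.TensorProduct.tmul_mul_tmul, one_mul,
        Algebra.algebraMap_eq_smul_one, smul_mul_assoc, one_mul,
        Algebra.algebraMap_eq_smul_one, smul_mul_assoc, one_mul, ← TensorProduct.smul_tmul,
        ← TensorProduct.smul_tmul, Algebra.smul_def, ha, Algebra.smul_def, mul_one]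
    | add x y hx hy =>
      obtain ⟨r₁, hr₁, b₁, h₁⟩ := hx
      obtain ⟨r₂, hr₂, b₂, h₂⟩ := hy
      refine ⟨r₁ * r₂, mul_ne_zero hr₁ hr₂,
        algebraMap R (Localization.AtPrime p) r₂ * b₁ +
          algebraMap R (Localization.AtPrime p) r₁ * b₂, ?_⟩
      rw [map_mul, map_mul, mul_add, map_add, map_mul, map_mul, ← h₁, ← h₂]
      ring
  -- the fraction field
  have hTK : Function.Injective (algebraMap (N ⊗[R] Localization.AtPrime p)
      (FractionRing (N ⊗[R] Localization.AtPrime p))) := IsFractionRing.injective _ _
  haveI : FaithfulSMul (Localization.AtPrime p) (FractionRing (N ⊗[R] Localization.AtPrime p)) :=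
    (faithfulSMul_iff_algebraMap_injective _ _).mpr (by
      rw [IsScalarTower.algebraMap_eq (Localization.AtPrime p) (N ⊗[R] Localization.AtPrime p)
        (FractionRing (N ⊗[R] Localization.AtPrime p))]
      exact hTK.comp hιinj)
  haveI : IsFractionRing (Localization.AtPrime p) (FractionRing (N ⊗[R] Localization.AtPrime p)) := by
    apply IsFractionRing.of_field
    intro z
    obtain ⟨t₁, t₂, ht₂, rfl⟩ := IsFractionRing.div_surjective (A := N ⊗[R] Localization.AtPrime p) z
    obtain ⟨r₁, hr₁, b₁, h₁⟩ := hclear t₁
    obtain ⟨r₂, hr₂, b₂, h₂⟩ := hclear t₂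
    refine ⟨b₁ * algebraMap R (Localization.AtPrime p) r₂,
      b₂ * algebraMap R (Localization.AtPrime p) r₁, ?_⟩
    have ht₂0 : algebraMap (N ⊗[R] Localization.AtPrime p)
        (FractionRing (N ⊗[R] Localization.AtPrime p)) t₂ ≠ 0 := by
      intro h
      exact nonZeroDivisors.ne_zero ht₂ (hTK (by rw [h, map_zero]))
    have hc : ∀ r : R, r ≠ 0 → algebraMap (Localization.AtPrime p)
        (FractionRing (N ⊗[R] Localization.AtPrime p))
        (algebraMap R (Localization.AtPrime p) r) ≠ 0 := by
      intro r hr h
      apply hr
      apply hRB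
      apply FaithfulSMul.algebraMap_injective (Localization.AtPrime p)
        (FractionRing (N ⊗[R] Localization.AtPrime p))
      rw [h, map_zero, map_zero]
    have e₁ := congrArg (algebraMap (N ⊗[R] Localization.AtPrime p)
      (FractionRing (N ⊗[R] Localization.AtPrime p))) h₁
    have e₂ := congrArg (algebraMap (N ⊗[R] Localization.AtPrime p)
      (FractionRing (N ⊗[R] Localization.AtPrime p))) h₂
    rw [map_mul, ← IsScalarTower.algebraMap_apply (Localization.AtPrime p),
      ← IsScalarTower.algebraMap_apply (Localization.AtPrime p)] at e₁ e₂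
    have hb₂ : algebraMap (Localization.AtPrime p)
        (FractionRing (N ⊗[R] Localization.AtPrime p)) b₂ ≠ 0 := by
      rw [← e₂]
      exact mul_ne_zero (hc r₂ hr₂) ht₂0
    have hρ₁ := hc r₁ hr₁
    have hρ₂ := hc r₂ hr₂
    rw [map_mul, map_mul, ← e₁, ← e₂]
    field_simp
  -- integrality
  have hint : Algebra.IsIntegral (Localization.AtPrime p) (N ⊗[R] Localization.AtPrime p) := by
    constructor
    intro t
    induction t using TensorProduct.induction_on with
    | zero => exact isIntegral_zero
    | tmul n b =>
      have h1 : n ⊗ₜ[R] b = (n ⊗ₜ[R] (1 : Localization.AtPrime p)) *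
          algebraMap (Localization.AtPrime p) (N ⊗[R] Localization.AtPrime p) b := by
        rw [hιapp, Algebra.TensorProduct.tmul_mul_tmul, mul_one, one_mul]
      rw [h1]
      refine IsIntegral.mul ?_ isIntegral_algebraMap
      have h2 : IsIntegral R n := Algebra.IsIntegral.isIntegral n
      exact h2.map_of_comp_eq (algebraMap R (Localization.AtPrime p))
        (Algebra.TensorProduct.includeLeft (R := R) (S := R) (A := N)
          (B := Localization.AtPrime p)).toRingHom (by
          ext r
          simp only [RingHom.comp_apply, AlgHom.toRingHom_eq_coe, RingHom.coe_coe,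
            Algebra.TensorProduct.includeLeft_apply]
          rw [hιapp, Algebra.algebraMap_eq_smul_one, Algebra.algebraMap_eq_smul_one (R := R) (A := N),
            TensorProduct.smul_tmul])
    | add x y hx hy => exact hx.add hy
  -- the isomorphism with the integral closure
  let f : N ⊗[R] Localization.AtPrime p →ₐ[Localization.AtPrime p]
      integralClosure (Localization.AtPrime p) (FractionRing (N ⊗[R] Localization.AtPrime p)) :=
    (IsScalarTower.toAlgHom (Localization.AtPrime p) (N ⊗[R] Localization.AtPrime p)
      (FractionRing (N ⊗[R] Localization.AtPrime p))).codRestrict _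
      (fun t => (Algebra.IsIntegral.isIntegral (R := Localization.AtPrime p) t).algebraMap)
  have hfbij : Function.Bijective f := by
    constructor
    · intro a b hab
      have := congrArg Subtype.val hab
      exact hTK this
    · intro x
      have h1 : IsIntegral (N ⊗[R] Localization.AtPrime p)
          (x : FractionRing (N ⊗[R] Localization.AtPrime p)) := x.2.tower_top
      obtain ⟨t, ht⟩ := IsIntegrallyClosed.algebraMap_eq_of_integral h1
      exact ⟨t, Subtype.ext ht⟩
  let e := AlgEquiv.ofBijective f hfbij
  rw [Groth.Agent.Lib.Helper4.Unibranch.isGeomUnibranch_iff_of_isDomain (Localization.AtPrime p)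
    (FractionRing (N ⊗[R] Localization.AtPrime p))]
  refine ⟨e.toRingEquiv.isLocalRing, ?_⟩
  refine Groth.Agent.Lib.Helper4.Unibranch.powMem_of_ringEquiv
    (algebraMap (Localization.AtPrime p) (N ⊗[R] Localization.AtPrime p))
    (algebraMap (Localization.AtPrime p) _) e.toRingEquiv (fun a => e.commutes a) ?_
  intro M hM x
  obtain rfl : M = maximalIdeal (N ⊗[R] Localization.AtPrime p) := IsLocalRing.eq_maximalIdeal hM
  obtain ⟨t, rfl⟩ := Ideal.Quotient.mk_surjective x
  obtain ⟨n, b, hnb⟩ := hpow t
  haveI : IsLocalHom (algebraMap (Localization.AtPrime p) (N ⊗[R] Localization.AtPrime p)) :=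
    hιloc
  have hq : ringExpChar ((N ⊗[R] Localization.AtPrime p) ⧸
      maximalIdeal (N ⊗[R] Localization.AtPrime p)) =
      ringExpChar (ResidueField (Localization.AtPrime p)) := by
    haveI : ExpChar ((N ⊗[R] Localization.AtPrime p) ⧸
        maximalIdeal (N ⊗[R] Localization.AtPrime p))
        (ringExpChar (ResidueField (Localization.AtPrime p))) := expChar_of_injective_ringHom
      (f := IsLocalRing.ResidueField.map
        (algebraMap (Localization.AtPrime p) (N ⊗[R] Localization.AtPrime p)))
      (RingHom.injective _) (ringExpChar (ResidueField (Localization.AtPrime p)))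
    exact ringExpChar.eq _ _
  refine ⟨n, b, ?_⟩
  rw [hq, ← map_pow, RingHom.comp_apply, Ideal.Quotient.eq, hιapp]
  have h3 : (1 : N) ⊗ₜ[R] b - t ^ ringExpChar (ResidueField (Localization.AtPrime p)) ^ n =
      -(t ^ ringExpChar (ResidueField (Localization.AtPrime p)) ^ n - (1 : N) ⊗ₜ[R] b) := by ring
  rw [h3]
  exact neg_mem hnb

end Main2

end Part2

section Part3

open IsLocalRing TensorProduct

theorem main_13199
    (R R' : Type u) [CommRing R] [IsDomain R] [HenselianLocalRing R]
    [IsSepClosed (IsLocalRing.ResidueField R)]
    [CommRing R'] [Algebra R R'] [Algebra.Smooth R R']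
    (p : Ideal R') [p.IsPrime] (hp : (IsLocalRing.maximalIdeal R).map (algebraMap R R') ≤ p) :
    IsDomain (Localization.AtPrime p) ∧ CAlg2.IsGeomUnibranch (Localization.AtPrime p) := by
  haveI : IsIntegrallyClosed (integralClosure R (FractionRing R)) :=
    integralClosure.isIntegrallyClosedOfFiniteExtension (FractionRing R)
  have hinj : Function.Injective (algebraMap R (integralClosure R (FractionRing R))) := by
    intro a b hab
    have h1 : ((algebraMap R (integralClosure R (FractionRing R)) a :
        integralClosure R (FractionRing R)) : FractionRing R) =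
        (algebraMap R (integralClosure R (FractionRing R)) b :
          integralClosure R (FractionRing R)) := by rw [hab]
    exact IsFractionRing.injective R (FractionRing R) h1
  refine core R R' p (integralClosure R (FractionRing R)) hp hinj ?_
  intro n
  obtain ⟨⟨a, s⟩, has⟩ := IsLocalization.surj (nonZeroDivisors R) (n : FractionRing R)
  refine ⟨s, nonZeroDivisors.ne_zero s.2, a, Subtype.ext ?_⟩
  simp only at has
  rw [mul_comm]
  exact has

end Part3

end Groth.Agent.Lib.R2H1.SmUnibranch
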