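/-
Strict henselization and smooth maps (helper1, R2): for R → S smooth, q over p, primes of (R_p)^sh extend to primes of (S_q)^sh, the map is faithfully flat, and the numbers of minimal primes agree (S2129); étale-universally prime ⇔ smooth-universally prime (S13202).
-/
import Mathlib
import Groth.Agent.Lib.R2H1SmUnibranch
import Groth.Agent.Lib.R2H1ShQuot
import Groth.Agent.Lib.Helper3ShTensor2
import Groth.Agent.Lib.Helper3ShQuot
import Groth.Agent.Lib.Helper4Unibranch
import Groth.Agent.Lib.Helper3Branch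
import Groth.Agent.S2750

set_option autoImplicit false
set_option linter.style.haveILetI false
set_option linter.unusedSectionVars false
universe u

namespace Groth.Agent.Lib.R2H1.ShSmooth

open IsLocalRing TensorProduct

section Part1

section G

variable (Rh T₀ : Type u) [CommRing Rh] [HenselianLocalRing Rh]
    [IsSepClosed (ResidueField Rh)] [CommRing T₀] [Algebra Rh T₀] [Algebra.Smooth Rh T₀]
    (Q : Ideal T₀) [Q.IsPrime] (P : Ideal Rh) [P.IsPrime]

local notation "JJ" => Ideal.map (algebraMap Rh T₀) P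
local notation "II" => Ideal.map (algebraMap T₀ (Localization.AtPrime Q)) (Ideal.map (algebraMap Rh T₀) P)

/-- Local rings of a smooth algebra over a strictly henselian local ring, modulo a prime of the
base, are geometrically unibranch domains. -/
theorem quot_unibranch (hQ : (maximalIdeal Rh).map (algebraMap Rh T₀) ≤ Q)
    [IsLocalRing (Localization.AtPrime Q ⧸ II)] :
    IsDomain (Localization.AtPrime Q ⧸ II) ∧
    CAlg2.IsGeomUnibranch
      (Localization.AtPrime Q ⧸ II) := by
  haveI : IsDomain (Rh ⧸ P) := Ideal.Quotient.isDomain P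
  haveI : HenselianLocalRing (Rh ⧸ P) := Groth.Agent.Lib.R2H1.ShQuot.henselian_quot Rh P
  haveI : IsSepClosed (ResidueField (Rh ⧸ P)) :=
    Groth.Agent.Lib.R2H1.ShQuot.isSepClosed_quot Rh P
  haveI : Algebra.Smooth (Rh ⧸ P) (T₀ ⧸ JJ) :=
    Algebra.Smooth.of_equiv (Algebra.TensorProduct.quotIdealMapEquivQuotTensor T₀ P).symm
  have hPle : P ≤ maximalIdeal Rh :=
    IsLocalRing.le_maximalIdeal (Ideal.IsPrime.ne_top inferInstance)
  have hJQ : JJ ≤ Q := (Ideal.map_mono hPle).trans hQ
  have hker : RingHom.ker (Ideal.Quotient.mk JJ) ≤ Q := by rw [Ideal.mk_ker]; exact hJQ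
  haveI hQbar : (Q.map (Ideal.Quotient.mk JJ)).IsPrime :=
    Ideal.map_isPrime_of_surjective Ideal.Quotient.mk_surjective hker
  have hcomapQ : (Q.map (Ideal.Quotient.mk JJ)).comap (Ideal.Quotient.mk JJ) = Q := by
    rw [Ideal.comap_map_of_surjective _ Ideal.Quotient.mk_surjective,
      ← RingHom.ker_eq_comap_bot, Ideal.mk_ker]
    exact sup_eq_left.mpr hJQ
  have hm : (maximalIdeal (Rh ⧸ P)).map (algebraMap (Rh ⧸ P) (T₀ ⧸ JJ)) ≤
      Q.map (Ideal.Quotient.mk JJ) := by
    rw [Ideal.map_le_iff_le_comap]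
    intro x hx
    obtain ⟨a, rfl⟩ := Ideal.Quotient.mk_surjective x
    have ha : a ∈ maximalIdeal Rh := by
      rw [mem_maximalIdeal, mem_nonunits_iff]
      intro hu
      exact (mem_nonunits_iff.mp ((mem_maximalIdeal _).mp hx)) (hu.map _)
    rw [Ideal.mem_comap]
    have h1 : algebraMap (Rh ⧸ P) (T₀ ⧸ JJ) (Ideal.Quotient.mk P a) =
        Ideal.Quotient.mk JJ (algebraMap Rh T₀ a) := rfl
    rw [h1]
    exact Ideal.mem_map_of_mem _ (hQ (Ideal.mem_map_of_mem _ ha))
  obtain ⟨hdom, hgu⟩ := Groth.Agent.Lib.R2H1.SmUnibranch.main_13199 (Rh ⧸ P) (T₀ ⧸ JJ)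
    (Q.map (Ideal.Quotient.mk JJ)) hm
  have hM : Algebra.algebraMapSubmonoid (T₀ ⧸ JJ) Q.primeCompl =
      (Q.map (Ideal.Quotient.mk JJ)).primeCompl := by
    ext x
    constructor
    · rintro ⟨y, hy, rfl⟩
      intro hmem
      have h1 : y ∈ (Q.map (Ideal.Quotient.mk JJ)).comap (Ideal.Quotient.mk JJ) := hmem
      rw [hcomapQ] at h1
      exact hy h1
    · intro hx
      obtain ⟨y, rfl⟩ := Ideal.Quotient.mk_surjective x
      refine ⟨y, ?_, rfl⟩
      intro hy
      exact hx (Ideal.mem_map_of_mem _ hy)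
  haveI hloc : IsLocalization.AtPrime
      (Localization.AtPrime Q ⧸ II)
      (Q.map (Ideal.Quotient.mk JJ)) := by
    have h0 : IsLocalization (Algebra.algebraMapSubmonoid (T₀ ⧸ JJ) Q.primeCompl)
        (Localization.AtPrime Q ⧸ II) :=
      inferInstance
    rw [hM] at h0
    exact h0
  let e : Localization.AtPrime (Q.map (Ideal.Quotient.mk JJ)) ≃ₐ[T₀ ⧸ JJ]
      (Localization.AtPrime Q ⧸ II) :=
    IsLocalization.algEquiv (Q.map (Ideal.Quotient.mk JJ)).primeCompl _ _
  refine ⟨MulEquiv.isDomain (Localization.AtPrime (Q.map (Ideal.Quotient.mk JJ)))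
    e.symm.toMulEquiv, ?_⟩
  exact Groth.Agent.Lib.Helper4.Unibranch.isGeomUnibranch_of_ringEquiv e.toRingEquiv hgu

end G

end Part1

section Part2

open Groth.Agent.Lib.Helper3

section main

variable (R : Type u) [CommRing R] (S : Type u) [CommRing S] [Algebra R S] [Algebra.Smooth R S]
  (p : Ideal R) [p.IsPrime] (q : Ideal S) [q.IsPrime] [q.LiesOver p]
  (Rh : Type u) [CommRing Rh] [IsLocalRing Rh] [Algebra (Localization.AtPrime p) Rh]
  [IsLocalHom (algebraMap (Localization.AtPrime p) Rh)]
  [Hensel.IsStrictHenselization (Localization.AtPrime p) Rh] [Algebra R Rh]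
  [IsScalarTower R (Localization.AtPrime p) Rh]
  (Sh : Type u) [CommRing Sh] [IsLocalRing Sh] [Algebra (Localization.AtPrime q) Sh]
  [IsLocalHom (algebraMap (Localization.AtPrime q) Sh)]
  [Hensel.IsStrictHenselization (Localization.AtPrime q) Sh] [Algebra S Sh]
  [IsScalarTower S (Localization.AtPrime q) Sh] [Algebra R Sh] [IsScalarTower R S Sh]
  [Algebra Rh Sh] [IsScalarTower R Rh Sh] [IsLocalHom (algebraMap Rh Sh)]

local notation "T₀" => Rh ⊗[R] S
local notation "QQ" => HzTensor.Q R S Rh Sh
local notation "LL" => Localization.AtPrime (HzTensor.Q R S Rh Sh)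

omit [Algebra.Smooth R S] in
theorem phiL_comp (a : Rh) :
    HzTensor.phiL R S Rh Sh (algebraMap Rh LL a) = algebraMap Rh Sh a := by
  rw [IsScalarTower.algebraMap_apply Rh T₀ LL, HzTensor.phiL_algebraMap]
  simp [HzTensor.phi]

omit [Algebra.Smooth R S] in
theorem maximalIdeal_map_le : (maximalIdeal Rh).map (algebraMap Rh T₀) ≤ QQ := by
  rw [Ideal.map_le_iff_le_comap]
  intro a ha
  rw [Ideal.mem_comap, HzTensor.Q, Ideal.mem_comap]
  have h1 : HzTensor.phi R S Rh Sh (algebraMap Rh (Rh ⊗[R] S) a) = algebraMap Rh Sh a := by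
    simp [HzTensor.phi]
  rw [h1, mem_maximalIdeal, mem_nonunits_iff]
  intro hu
  exact (mem_nonunits_iff.mp ((mem_maximalIdeal a).mp ha))
    (isUnit_of_map_unit (algebraMap Rh Sh) a hu)

include p q in
/-- **Primes of `R_p^sh` extend to primes of `S_q^sh`** for `R → S` smooth. -/
theorem isPrime_map (P : Ideal Rh) [P.IsPrime] : (P.map (algebraMap Rh Sh)).IsPrime := by
  haveI hRh : HenselianLocalRing Rh :=
    Hensel.IsStrictHenselization.henselian (R := Localization.AtPrime p)
  haveI hRhsep := Hensel.IsStrictHenselization.isSepClosure (R := Localization.AtPrime p) (S := Rh)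
  haveI : IsSepClosed (ResidueField Rh) := hRhsep.sep_closed
  letI : Algebra LL Sh := (HzTensor.phiL R S Rh Sh).toAlgebra
  haveI : IsLocalHom (algebraMap LL Sh) := HzTensor.isLocalHom_phiL
  haveI hst : Hensel.IsStrictHenselization LL Sh := ShTensor2.isStrictHenselization R p Rh S q Sh
  haveI : IsScalarTower Rh LL Sh :=
    IsScalarTower.of_algebraMap_eq (fun a => (phiL_comp R S Rh Sh a).symm)
  have hIS : ((P.map (algebraMap Rh T₀)).map (algebraMap T₀ LL)).map (algebraMap LL Sh) =
      P.map (algebraMap Rh Sh) := by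
    rw [Ideal.map_map, Ideal.map_map]
    congr 1
    ext a
    simp only [RingHom.comp_apply]
    rw [← IsScalarTower.algebraMap_apply Rh T₀ LL]
    exact phiL_comp R S Rh Sh a
  have hPle : P ≤ maximalIdeal Rh :=
    IsLocalRing.le_maximalIdeal (Ideal.IsPrime.ne_top inferInstance)
  have hISle : P.map (algebraMap Rh Sh) ≤ maximalIdeal Sh := by
    rw [Ideal.map_le_iff_le_comap]
    intro a ha
    rw [Ideal.mem_comap, mem_maximalIdeal, mem_nonunits_iff]
    intro hu
    exact (mem_nonunits_iff.mp ((mem_maximalIdeal a).mp (hPle ha)))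
      (isUnit_of_map_unit (algebraMap Rh Sh) a hu)
  have hISne : ((P.map (algebraMap Rh T₀)).map (algebraMap T₀ LL)).map (algebraMap LL Sh) ≠ ⊤ := by
    rw [hIS]
    intro h
    exact (Ideal.IsMaximal.ne_top (maximalIdeal.isMaximal Sh)) (top_le_iff.mp (h ▸ hISle))
  have hIne : (P.map (algebraMap Rh T₀)).map (algebraMap T₀ LL) ≠ ⊤ :=
    fun h => hISne (by rw [h, Ideal.map_top])
  haveI : Nontrivial (LL ⧸ (P.map (algebraMap Rh T₀)).map (algebraMap T₀ LL)) :=
    Ideal.Quotient.nontrivial_iff.mpr hIne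
  haveI : IsLocalRing (LL ⧸ (P.map (algebraMap Rh T₀)).map (algebraMap T₀ LL)) :=
    IsLocalRing.of_surjective' (Ideal.Quotient.mk _) Ideal.Quotient.mk_surjective
  haveI : Nontrivial (Sh ⧸ ((P.map (algebraMap Rh T₀)).map (algebraMap T₀ LL)).map
      (algebraMap LL Sh)) := Ideal.Quotient.nontrivial_iff.mpr hISne
  haveI : IsLocalRing (Sh ⧸ ((P.map (algebraMap Rh T₀)).map (algebraMap T₀ LL)).map
      (algebraMap LL Sh)) :=
    IsLocalRing.of_surjective' (Ideal.Quotient.mk _) Ideal.Quotient.mk_surjective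
  haveI : IsLocalHom (algebraMap (LL ⧸ (P.map (algebraMap Rh T₀)).map (algebraMap T₀ LL))
      (Sh ⧸ ((P.map (algebraMap Rh T₀)).map (algebraMap T₀ LL)).map (algebraMap LL Sh))) := by
    refine ⟨fun a ha => ?_⟩
    obtain ⟨r, rfl⟩ := Ideal.Quotient.mk_surjective a
    have h1 : algebraMap (LL ⧸ (P.map (algebraMap Rh T₀)).map (algebraMap T₀ LL))
        (Sh ⧸ ((P.map (algebraMap Rh T₀)).map (algebraMap T₀ LL)).map (algebraMap LL Sh))
        (Ideal.Quotient.mk _ r) = Ideal.Quotient.mk _ (algebraMap LL Sh r) :=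
      Ideal.Quotient.algebraMap_quotient_map_quotient r
    rw [h1] at ha
    haveI := Groth.Agent.Lib.Helper3.ShQuot.isLocalHom_mk
      (((P.map (algebraMap Rh T₀)).map (algebraMap T₀ LL)).map (algebraMap LL Sh))
    have h2 : IsUnit (algebraMap LL Sh r) := isUnit_of_map_unit (Ideal.Quotient.mk _) _ ha
    exact (isUnit_of_map_unit (algebraMap LL Sh) r h2).map _
  haveI hstq : Hensel.IsStrictHenselization
      (LL ⧸ (P.map (algebraMap Rh T₀)).map (algebraMap T₀ LL))
      (Sh ⧸ ((P.map (algebraMap Rh T₀)).map (algebraMap T₀ LL)).map (algebraMap LL Sh)) :=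
    Groth.Agent.Lib.Helper3.ShQuot.isStrictHenselization_quotient _
  obtain ⟨hdom, hgu⟩ := quot_unibranch Rh T₀ QQ P (maximalIdeal_map_le R S Rh Sh)
  haveI := hdom
  have hdomq : IsDomain (Sh ⧸ ((P.map (algebraMap Rh T₀)).map (algebraMap T₀ LL)).map
      (algebraMap LL Sh)) :=
    (Groth.Agent.S2750.core (LL ⧸ (P.map (algebraMap Rh T₀)).map (algebraMap T₀ LL))
      (Sh ⧸ ((P.map (algebraMap Rh T₀)).map (algebraMap T₀ LL)).map (algebraMap LL Sh))).mp hgu
  have hprime : (((P.map (algebraMap Rh T₀)).map (algebraMap T₀ LL)).map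
      (algebraMap LL Sh)).IsPrime := (Ideal.Quotient.isDomain_iff_prime _).mp hdomq
  rw [hIS] at hprime
  exact hprime

include p q in
theorem flat : Module.Flat Rh Sh := by
  letI : Algebra LL Sh := (HzTensor.phiL R S Rh Sh).toAlgebra
  haveI : IsLocalHom (algebraMap LL Sh) := HzTensor.isLocalHom_phiL
  haveI hst : Hensel.IsStrictHenselization LL Sh := ShTensor2.isStrictHenselization R p Rh S q Sh
  haveI : IsScalarTower Rh LL Sh :=
    IsScalarTower.of_algebraMap_eq (fun a => (phiL_comp R S Rh Sh a).symm)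
  haveI : Module.FaithfullyFlat LL Sh := HzP.sh_faithfullyFlat LL Sh
  haveI : Module.Flat R S := inferInstance
  haveI : Module.Flat Rh T₀ := inferInstance
  haveI : Module.Flat T₀ LL := IsLocalization.flat LL (QQ).primeCompl
  haveI : Module.Flat Rh LL := Module.Flat.trans Rh T₀ LL
  exact Module.Flat.trans Rh LL Sh

include p q in
/-- **Strict henselizations of `R_p` and `S_q` have the same number of minimal primes** for
`R → S` smooth. -/
theorem encard_eq : (minimalPrimes Rh).encard = (minimalPrimes Sh).encard := by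
  haveI hflat : Module.Flat Rh Sh := flat R S p q Rh Sh
  haveI hff : Module.FaithfullyFlat Rh Sh := Module.FaithfullyFlat.of_flat_of_isLocalHom
  have hA : ∀ (P : Ideal Rh) [P.IsPrime], (P.map (algebraMap Rh Sh)).IsPrime :=
    fun P _ => isPrime_map R S p q Rh Sh P
  have hmaps : ∀ 𝔔 ∈ minimalPrimes Sh, 𝔔.comap (algebraMap Rh Sh) ∈ minimalPrimes Rh := by
    intro 𝔔 h𝔔
    haveI : 𝔔.IsPrime := h𝔔.1.1
    refine ⟨⟨Ideal.comap_isPrime _ _, bot_le⟩, ?_⟩
    intro P' hP' hP'le
    haveI := hP'.1
    haveI : 𝔔.LiesOver (𝔔.comap (algebraMap Rh Sh)) := ⟨rfl⟩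
    obtain ⟨𝔔', h𝔔'le, h𝔔'prime, h𝔔'over⟩ := Ideal.exists_ideal_le_liesOver_of_le
      (p := P') (q := 𝔔.comap (algebraMap Rh Sh)) 𝔔 hP'le
    have h1 : 𝔔 ≤ 𝔔' := h𝔔.2 ⟨h𝔔'prime, bot_le⟩ h𝔔'le
    have h2 : 𝔔' = 𝔔 := le_antisymm h𝔔'le h1
    have h3 : P' = 𝔔'.under Rh := h𝔔'over.over
    rw [h3, h2]
  have hkey : ∀ 𝔔 ∈ minimalPrimes Sh,
      𝔔 = (𝔔.comap (algebraMap Rh Sh)).map (algebraMap Rh Sh) := by
    intro 𝔔 h𝔔
    haveI : 𝔔.IsPrime := h𝔔.1.1
    haveI : (𝔔.comap (algebraMap Rh Sh)).IsPrime := Ideal.comap_isPrime _ _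
    have h1 := hA (𝔔.comap (algebraMap Rh Sh))
    exact le_antisymm (h𝔔.2 ⟨h1, bot_le⟩ Ideal.map_comap_le) Ideal.map_comap_le
  have hinj : Set.InjOn (Ideal.comap (algebraMap Rh Sh)) (minimalPrimes Sh) := by
    intro 𝔔₁ h₁ 𝔔₂ h₂ heq
    calc 𝔔₁ = (𝔔₁.comap (algebraMap Rh Sh)).map (algebraMap Rh Sh) := hkey _ h₁
      _ = (𝔔₂.comap (algebraMap Rh Sh)).map (algebraMap Rh Sh) :=
        congrArg (Ideal.map (algebraMap Rh Sh)) heq
      _ = 𝔔₂ := (hkey _ h₂).symm
  have himg : Ideal.comap (algebraMap Rh Sh) '' (minimalPrimes Sh) = minimalPrimes Rh := by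
    apply Set.Subset.antisymm
    · rintro _ ⟨𝔔, h𝔔, rfl⟩
      exact hmaps 𝔔 h𝔔
    · intro P hP
      haveI : P.IsPrime := hP.1.1
      have h1 := hA P
      have hcm : (P.map (algebraMap Rh Sh)).comap (algebraMap Rh Sh) = P :=
        Ideal.comap_map_eq_self_of_faithfullyFlat P
      refine ⟨P.map (algebraMap Rh Sh), ⟨⟨h1, bot_le⟩, ?_⟩, hcm⟩
      intro 𝔔' h𝔔' hle
      haveI := h𝔔'.1
      have h2 : 𝔔'.comap (algebraMap Rh Sh) ≤ P :=
        calc 𝔔'.comap (algebraMap Rh Sh) ≤ (P.map (algebraMap Rh Sh)).comap (algebraMap Rh Sh) :=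
            Ideal.comap_mono hle
          _ = P := hcm
      have h3 : P ≤ 𝔔'.comap (algebraMap Rh Sh) := hP.2 ⟨Ideal.comap_isPrime _ _, bot_le⟩ h2
      exact Ideal.map_le_iff_le_comap.mpr h3
  rw [← himg, hinj.encard_image]

end main

end Part2

section Part3

open Groth.Agent.Lib.Helper3

/-- Packaged form: for `R → S` smooth and `q` over `p`, any strict henselizations `Ash`, `Bsh` of
`R_p`, `S_q` are related by an injective map `ψ` over `R → S` along which primes extend to primes,
and they have the same number of minimal primes. -/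
theorem package {R S Ash Bsh : Type u} [CommRing R] [CommRing S] [Algebra R S]
    [Algebra.Smooth R S] (q : Ideal S) [q.IsPrime] (p : Ideal R) [p.IsPrime] [q.LiesOver p]
    [CommRing Ash] [IsLocalRing Ash] [Algebra (Localization.AtPrime p) Ash]
    [IsLocalHom (algebraMap (Localization.AtPrime p) Ash)]
    [Hensel.IsStrictHenselization (Localization.AtPrime p) Ash]
    [CommRing Bsh] [IsLocalRing Bsh] [Algebra (Localization.AtPrime q) Bsh]
    [IsLocalHom (algebraMap (Localization.AtPrime q) Bsh)]
    [Hensel.IsStrictHenselization (Localization.AtPrime q) Bsh] :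
    ∃ ψ : Ash →+* Bsh,
      (∀ r : R, ψ (algebraMap (Localization.AtPrime p) Ash
          (algebraMap R (Localization.AtPrime p) r)) =
        algebraMap (Localization.AtPrime q) Bsh
          (algebraMap S (Localization.AtPrime q) (algebraMap R S r))) ∧
      (∀ (P : Ideal Ash) [P.IsPrime], (P.map ψ).IsPrime) ∧ Function.Injective ψ ∧
      (minimalPrimes Ash).encard = (minimalPrimes Bsh).encard := by
  letI : Algebra R Ash := ((algebraMap (Localization.AtPrime p) Ash).comp
    (algebraMap R (Localization.AtPrime p))).toAlgebra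
  haveI : IsScalarTower R (Localization.AtPrime p) Ash :=
    IsScalarTower.of_algebraMap_eq (fun _ => rfl)
  letI : Algebra S Bsh := ((algebraMap (Localization.AtPrime q) Bsh).comp
    (algebraMap S (Localization.AtPrime q))).toAlgebra
  haveI : IsScalarTower S (Localization.AtPrime q) Bsh :=
    IsScalarTower.of_algebraMap_eq (fun _ => rfl)
  letI : Algebra R Bsh := ((algebraMap S Bsh).comp (algebraMap R S)).toAlgebra
  haveI : IsScalarTower R S Bsh := IsScalarTower.of_algebraMap_eq (fun _ => rfl)
  have hpq : p = q.comap (algebraMap R S) := q.over_def p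
  letI : Algebra (Localization.AtPrime p) (Localization.AtPrime q) :=
    (Localization.localRingHom p q (algebraMap R S) hpq).toAlgebra
  haveI : IsLocalHom (algebraMap (Localization.AtPrime p) (Localization.AtPrime q)) :=
    Localization.isLocalHom_localRingHom p q (algebraMap R S) hpq
  letI : Algebra (Localization.AtPrime p) Bsh := ((algebraMap (Localization.AtPrime q) Bsh).comp
    (algebraMap (Localization.AtPrime p) (Localization.AtPrime q))).toAlgebra
  haveI : IsScalarTower (Localization.AtPrime p) (Localization.AtPrime q) Bsh :=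
    IsScalarTower.of_algebraMap_eq (fun _ => rfl)
  obtain ⟨g, hg⟩ := ShTensor.exists_map (A := Localization.AtPrime p)
    (B := Localization.AtPrime q) (S := Ash) (T := Bsh)
  letI : Algebra Ash Bsh := g.toRingHom.toAlgebra
  haveI : IsLocalHom (algebraMap Ash Bsh) := hg
  have hcomm : ∀ r : R, g (algebraMap (Localization.AtPrime p) Ash
      (algebraMap R (Localization.AtPrime p) r)) =
      algebraMap (Localization.AtPrime q) Bsh
        (algebraMap S (Localization.AtPrime q) (algebraMap R S r)) := by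
    intro r
    rw [g.commutes]
    change algebraMap (Localization.AtPrime q) Bsh (Localization.localRingHom p q
      (algebraMap R S) hpq (algebraMap R (Localization.AtPrime p) r)) = _
    rw [Localization.localRingHom_to_map]
  haveI : IsScalarTower R Ash Bsh := IsScalarTower.of_algebraMap_eq (fun r => (hcomm r).symm)
  refine ⟨algebraMap Ash Bsh, hcomm, fun P _ => isPrime_map R S p q Ash Bsh P, ?_,
    encard_eq R S p q Ash Bsh⟩
  haveI : Module.Flat Ash Bsh := flat R S p q Ash Bsh
  haveI : Module.FaithfullyFlat Ash Bsh := Module.FaithfullyFlat.of_flat_of_isLocalHom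
  exact FaithfulSMul.algebraMap_injective Ash Bsh

theorem main_2129 {R S Ash Bsh : Type u} [CommRing R] [CommRing S] [Algebra R S]
    [Algebra.Smooth R S] (q : Ideal S) [q.IsPrime] (p : Ideal R) [p.IsPrime] [q.LiesOver p]
    [CommRing Ash] [IsLocalRing Ash] [Algebra (Localization.AtPrime p) Ash]
    [IsLocalHom (algebraMap (Localization.AtPrime p) Ash)]
    [Hensel.IsStrictHenselization (Localization.AtPrime p) Ash]
    [CommRing Bsh] [IsLocalRing Bsh] [Algebra (Localization.AtPrime q) Bsh]
    [IsLocalHom (algebraMap (Localization.AtPrime q) Bsh)]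
    [Hensel.IsStrictHenselization (Localization.AtPrime q) Bsh] :
    (minimalPrimes Ash).encard = (minimalPrimes Bsh).encard := by
  obtain ⟨ψ, -, -, -, h⟩ := package (R := R) (S := S) (Ash := Ash) (Bsh := Bsh) q p
  exact h

theorem main_13202 (R : Type u) [CommRing R] (Δ : R) :
    (∀ (p : Ideal R) [p.IsPrime], Δ ∈ p →
        ∀ (T : Type u) [CommRing T] [IsLocalRing T] [Algebra (Localization.AtPrime p) T]
          [IsLocalHom (algebraMap (Localization.AtPrime p) T)]
          [Hensel.IsStrictHenselization (Localization.AtPrime p) T],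
          Prime (algebraMap (Localization.AtPrime p) T (algebraMap R (Localization.AtPrime p) Δ))) ↔
    (∀ (R' : Type u) [CommRing R'] [Algebra R R'] [Algebra.Smooth R R'] (q : Ideal R') [q.IsPrime]
        (T : Type u) [CommRing T] [IsLocalRing T] [Algebra (Localization.AtPrime q) T]
          [IsLocalHom (algebraMap (Localization.AtPrime q) T)]
          [Hensel.IsStrictHenselization (Localization.AtPrime q) T],
        IsUnit (algebraMap (Localization.AtPrime q) T (algebraMap R' (Localization.AtPrime q) (algebraMap R R' Δ))) ∨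
          Prime (algebraMap (Localization.AtPrime q) T (algebraMap R' (Localization.AtPrime q) (algebraMap R R' Δ)))) := by
  constructor
  · intro h R' _ _ _ q _ T _ _ _ _ _
    by_cases hΔ : algebraMap R R' Δ ∈ q
    · right
      haveI : (q.comap (algebraMap R R')).IsPrime := Ideal.comap_isPrime _ _
      haveI : q.LiesOver (q.comap (algebraMap R R')) := ⟨rfl⟩
      obtain ⟨Tp, _, _, _, _, hTp⟩ := Branch.exists_isStrictHenselization
        (Localization.AtPrime (q.comap (algebraMap R R')))
      haveI := hTp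
      have hprime := h (q.comap (algebraMap R R')) hΔ Tp
      obtain ⟨ψ, hψ, hψprime, hψinj, -⟩ := package (R := R) (S := R') (Ash := Tp) (Bsh := T) q
        (q.comap (algebraMap R R'))
      have hne : algebraMap (Localization.AtPrime (q.comap (algebraMap R R'))) Tp
          (algebraMap R (Localization.AtPrime (q.comap (algebraMap R R'))) Δ) ≠ 0 := hprime.ne_zero
      haveI : (Ideal.span {algebraMap (Localization.AtPrime (q.comap (algebraMap R R'))) Tp
          (algebraMap R (Localization.AtPrime (q.comap (algebraMap R R'))) Δ)}).IsPrime :=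
        (Ideal.span_singleton_prime hne).mpr hprime
      have h1 := hψprime (Ideal.span {algebraMap (Localization.AtPrime (q.comap (algebraMap R R')))
        Tp (algebraMap R (Localization.AtPrime (q.comap (algebraMap R R'))) Δ)})
      rw [Ideal.map_span, Set.image_singleton, hψ Δ] at h1
      have hne' : algebraMap (Localization.AtPrime q) T
          (algebraMap R' (Localization.AtPrime q) (algebraMap R R' Δ)) ≠ 0 := by
        rw [← hψ Δ]
        intro h0
        exact hne (hψinj (by rw [h0, map_zero]))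
      exact (Ideal.span_singleton_prime hne').mp h1
    · left
      have h1 : IsUnit (algebraMap R' (Localization.AtPrime q) (algebraMap R R' Δ)) :=
        IsLocalization.map_units (Localization.AtPrime q) (⟨_, hΔ⟩ : q.primeCompl)
      exact h1.map _
  · intro h p _ hΔ T _ _ _ _ _
    haveI : Algebra.Smooth R R := ⟨inferInstance, inferInstance⟩
    rcases h R p T with hu | hp
    · exfalso
      have h1 : IsUnit (algebraMap R (Localization.AtPrime p) Δ) :=
        isUnit_of_map_unit (algebraMap (Localization.AtPrime p) T) _ hu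
      have h2 : algebraMap R (Localization.AtPrime p) Δ ∈
          maximalIdeal (Localization.AtPrime p) :=
        (IsLocalization.AtPrime.to_map_mem_maximal_iff (Localization.AtPrime p) p Δ).mpr hΔ
      exact h2 h1
    · exact hp

end Part3

end Groth.Agent.Lib.R2H1.ShSmooth
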