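/-
A prime element of a strictly henselian local ring stays prime in the strict henselization of a local ring of a smooth algebra at a prime over the closed point (S17730) (helper1, R2).
-/
import Mathlib
import Groth.Agent.Lib.R2H1ShSmooth

set_option autoImplicit false
universe u

namespace Groth.Agent.Lib.R2H1.ShSmoothPrime

open IsLocalRing TensorProduct Groth.Agent.Lib.Helper3

theorem main_17730
    (R R' T : Type u) [CommRing R] [HenselianLocalRing R]
    [IsSepClosed (ResidueField R)]
    [CommRing R'] [Algebra R R'] [Algebra.Smooth R R']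
    (q : Ideal R') [q.IsPrime] (hq : (maximalIdeal R).map (algebraMap R R') ≤ q)
    [CommRing T] [IsLocalRing T] [Algebra (Localization.AtPrime q) T]
    [IsLocalHom (algebraMap (Localization.AtPrime q) T)]
    [Hensel.IsStrictHenselization (Localization.AtPrime q) T]
    (Δ : R) (hΔ : Prime Δ) :
    Prime (algebraMap (Localization.AtPrime q) T
      (algebraMap R' (Localization.AtPrime q) (algebraMap R R' Δ))) := by
  have hne : Δ ≠ 0 := hΔ.ne_zero
  haveI hP : (Ideal.span {Δ}).IsPrime := (Ideal.span_singleton_prime hne).mpr hΔ
  -- notation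
  obtain ⟨P, hPdef⟩ : ∃ P : Ideal R, P = Ideal.span {Δ} := ⟨_, rfl⟩
  haveI : P.IsPrime := hPdef ▸ hP
  have hPle : P ≤ maximalIdeal R :=
    IsLocalRing.le_maximalIdeal (Ideal.IsPrime.ne_top inferInstance)
  obtain ⟨I, hIdef⟩ : ∃ I : Ideal (Localization.AtPrime q),
      I = (P.map (algebraMap R R')).map (algebraMap R' (Localization.AtPrime q)) := ⟨_, rfl⟩
  have hIle : I ≤ maximalIdeal (Localization.AtPrime q) := by
    rw [hIdef, Ideal.map_le_iff_le_comap]
    intro x hx
    have hxq : x ∈ q := (Ideal.map_mono hPle).trans hq hx
    rw [Ideal.mem_comap]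
    exact (IsLocalization.AtPrime.to_map_mem_maximal_iff (Localization.AtPrime q) q x).mpr hxq
  have hITle : I.map (algebraMap (Localization.AtPrime q) T) ≤ maximalIdeal T := by
    rw [Ideal.map_le_iff_le_comap]
    intro a ha
    rw [Ideal.mem_comap, mem_maximalIdeal, mem_nonunits_iff]
    intro hu
    exact (mem_nonunits_iff.mp ((mem_maximalIdeal a).mp (hIle ha)))
      (isUnit_of_map_unit (algebraMap (Localization.AtPrime q) T) a hu)
  have hITne : I.map (algebraMap (Localization.AtPrime q) T) ≠ ⊤ := by
    intro h
    exact (Ideal.IsMaximal.ne_top (maximalIdeal.isMaximal T)) (top_le_iff.mp (h ▸ hITle))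
  have hIne : I ≠ ⊤ := fun h => hITne (by rw [h, Ideal.map_top])
  haveI : Nontrivial (Localization.AtPrime q ⧸ I) := Ideal.Quotient.nontrivial_iff.mpr hIne
  haveI : IsLocalRing (Localization.AtPrime q ⧸ I) :=
    IsLocalRing.of_surjective' (Ideal.Quotient.mk _) Ideal.Quotient.mk_surjective
  haveI : Nontrivial (T ⧸ I.map (algebraMap (Localization.AtPrime q) T)) :=
    Ideal.Quotient.nontrivial_iff.mpr hITne
  haveI : IsLocalRing (T ⧸ I.map (algebraMap (Localization.AtPrime q) T)) :=
    IsLocalRing.of_surjective' (Ideal.Quotient.mk _) Ideal.Quotient.mk_surjective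
  haveI : IsLocalHom (algebraMap (Localization.AtPrime q ⧸ I)
      (T ⧸ I.map (algebraMap (Localization.AtPrime q) T))) := by
    refine ⟨fun a ha => ?_⟩
    obtain ⟨r, rfl⟩ := Ideal.Quotient.mk_surjective a
    have h1 : algebraMap (Localization.AtPrime q ⧸ I)
        (T ⧸ I.map (algebraMap (Localization.AtPrime q) T))
        (Ideal.Quotient.mk _ r) = Ideal.Quotient.mk _ (algebraMap (Localization.AtPrime q) T r) :=
      Ideal.Quotient.algebraMap_quotient_map_quotient r
    rw [h1] at ha
    haveI := Groth.Agent.Lib.Helper3.ShQuot.isLocalHom_mk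
      (I.map (algebraMap (Localization.AtPrime q) T))
    have h2 : IsUnit (algebraMap (Localization.AtPrime q) T r) :=
      isUnit_of_map_unit (Ideal.Quotient.mk _) _ ha
    exact (isUnit_of_map_unit (algebraMap (Localization.AtPrime q) T) r h2).map _
  haveI hstq : Hensel.IsStrictHenselization (Localization.AtPrime q ⧸ I)
      (T ⧸ I.map (algebraMap (Localization.AtPrime q) T)) :=
    Groth.Agent.Lib.Helper3.ShQuot.isStrictHenselization_quotient _
  subst hIdef
  obtain ⟨hdom, hgu⟩ := Groth.Agent.Lib.R2H1.ShSmooth.quot_unibranch R R' q P hq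
  haveI := hdom
  have hdomq : IsDomain (T ⧸ ((P.map (algebraMap R R')).map
      (algebraMap R' (Localization.AtPrime q))).map (algebraMap (Localization.AtPrime q) T)) :=
    (Groth.Agent.S2750.core (Localization.AtPrime q ⧸ (P.map (algebraMap R R')).map
      (algebraMap R' (Localization.AtPrime q)))
      (T ⧸ ((P.map (algebraMap R R')).map
      (algebraMap R' (Localization.AtPrime q))).map (algebraMap (Localization.AtPrime q) T))).mp hgu
  have hprime : (((P.map (algebraMap R R')).map
      (algebraMap R' (Localization.AtPrime q))).map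
      (algebraMap (Localization.AtPrime q) T)).IsPrime :=
    (Ideal.Quotient.isDomain_iff_prime _).mp hdomq
  rw [hPdef, Ideal.map_span, Set.image_singleton, Ideal.map_span, Set.image_singleton,
    Ideal.map_span, Set.image_singleton] at hprime
  -- injectivity
  haveI : Module.Flat R R' := inferInstance
  haveI : Module.Flat R' (Localization.AtPrime q) :=
    IsLocalization.flat (Localization.AtPrime q) q.primeCompl
  haveI : Module.Flat R (Localization.AtPrime q) := Module.Flat.trans R R' (Localization.AtPrime q)
  haveI : IsLocalHom (algebraMap R (Localization.AtPrime q)) := by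
    refine ⟨fun a ha => ?_⟩
    by_contra hna
    have ham : a ∈ maximalIdeal R := (mem_maximalIdeal a).mpr hna
    have hxq : algebraMap R R' a ∈ q := hq (Ideal.mem_map_of_mem _ ham)
    have hmem : algebraMap R' (Localization.AtPrime q) (algebraMap R R' a) ∈
        maximalIdeal (Localization.AtPrime q) :=
      (IsLocalization.AtPrime.to_map_mem_maximal_iff (Localization.AtPrime q) q _).mpr hxq
    rw [← IsScalarTower.algebraMap_apply R R' (Localization.AtPrime q)] at hmem
    exact hmem ha
  haveI : Module.FaithfullyFlat R (Localization.AtPrime q) :=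
    Module.FaithfullyFlat.of_flat_of_isLocalHom
  have hinj1 : Function.Injective (algebraMap R (Localization.AtPrime q)) :=
    FaithfulSMul.algebraMap_injective R (Localization.AtPrime q)
  haveI : Module.FaithfullyFlat (Localization.AtPrime q) T :=
    HzP.sh_faithfullyFlat (Localization.AtPrime q) T
  have hinj2 : Function.Injective (algebraMap (Localization.AtPrime q) T) :=
    FaithfulSMul.algebraMap_injective (Localization.AtPrime q) T
  have hne' : algebraMap (Localization.AtPrime q) T
      (algebraMap R' (Localization.AtPrime q) (algebraMap R R' Δ)) ≠ 0 := by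
    intro h0
    rw [← IsScalarTower.algebraMap_apply R R' (Localization.AtPrime q)] at h0
    exact hne (hinj1 (hinj2 (by rw [h0, map_zero, map_zero])))
  exact (Ideal.span_singleton_prime hne').mp hprime

end Groth.Agent.Lib.R2H1.ShSmoothPrime
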