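/-
Helper library (helper1, round 2): transfer of strict henselizations.
If S is a strict henselization of A and B is a normal local domain, local A-algebra dominated by and
injecting into S, then S is a strict henselization of B (transfer, transfer_equiv,
faithfullyFlat_of_dominated).  Separability/algebraicity of strict henselizations over the base
(sep_fin_of_essEtale, isSeparable_sh, isAlgebraic_sh).  Normal local intermediate rings of a strict
henselization of a normal Noetherian local domain with finite fraction field extension are
essentially etale (essEtale_of_normal, main_16432, main_16433).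
-/
import Mathlib
import Groth.Prelude.Def_EssEt
import Groth.Prelude.Def_Hensel
import Groth.Agent.Lib.Helper8ShStage
import Groth.Agent.Lib.Helper3HzNormal

set_option autoImplicit false
set_option linter.style.haveILetI false
set_option linter.unusedSectionVars false
universe u

namespace Groth.Agent.Lib.R2H1.ShTransfer

section Part1

open IsLocalRing

/-- The fraction field of an essentially étale local domain over a local domain `A` is finite
separable over the fraction field of `A`. -/
theorem sep_fin_of_essEtale (A E : Type u) [CommRing A] [IsDomain A] [IsLocalRing A] [CommRing E]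
    [IsDomain E] [Algebra A E] (hE : EGA4loc.IsEssentiallyEtale A E)
    (K F : Type*) [Field K] [Field F] [Algebra A K] [IsFractionRing A K] [Algebra E F]
    [IsFractionRing E F] [Algebra A F] [IsScalarTower A E F] [Algebra K F] [IsScalarTower A K F] :
    Algebra.IsSeparable K F ∧ Module.Finite K F := by
  obtain ⟨C, _, _, q, _, hEt, -, ⟨e⟩⟩ := hE
  haveI : Algebra.FormallyUnramified A (Localization.AtPrime q) :=
    Algebra.FormallyUnramified.comp A C _
  haveI : Algebra.FormallyUnramified A E := Algebra.FormallyUnramified.of_equiv e.symm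
  haveI : Algebra.FormallyUnramified E F :=
    Algebra.FormallyUnramified.of_isLocalization (nonZeroDivisors E)
  haveI : Algebra.FormallyUnramified A F := Algebra.FormallyUnramified.comp A E F
  haveI : Algebra.FormallyUnramified K F := Algebra.FormallyUnramified.of_restrictScalars A K F
  haveI : Algebra.EssFiniteType A (Localization.AtPrime q) :=
    Algebra.EssFiniteType.comp A C _
  haveI : Algebra.EssFiniteType A E :=
    (Algebra.EssFiniteType.iff_of_algEquiv e).mpr inferInstance
  haveI : Algebra.EssFiniteType E F :=
    Algebra.EssFiniteType.of_isLocalization F (nonZeroDivisors E)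
  haveI : Algebra.EssFiniteType A F := Algebra.EssFiniteType.comp A E F
  haveI : Algebra.EssFiniteType K F := Algebra.EssFiniteType.of_comp A K F
  exact ⟨Algebra.FormallyUnramified.isSeparable K F, Algebra.FormallyUnramified.finite_of_free K F⟩

end Part1

section Part2

open IsLocalRing

/-- Every element of a strict henselization `S` (a domain) of a local domain `A` is separable over
the fraction field of `A`. -/
theorem isSeparable_sh (A S : Type u) [CommRing A] [IsDomain A] [IsLocalRing A] [CommRing S]
    [IsLocalRing S] [IsDomain S] [Algebra A S] [IsLocalHom (algebraMap A S)]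
    [Hensel.IsStrictHenselization A S]
    (K Ks : Type u) [Field K] [Field Ks] [Algebra A K] [IsFractionRing A K] [Algebra S Ks]
    [IsFractionRing S Ks] [Algebra A Ks] [IsScalarTower A S Ks] [Algebra K Ks]
    [IsScalarTower A K Ks] (x : S) : IsSeparable K (algebraMap S Ks x) := by
  classical
  obtain ⟨E, hxE, ⟨_, hE⟩, -, -⟩ := Groth.Agent.Lib.Helper8ShStage.exists_stage A S {x}
  have hx : x ∈ E := hxE (by simp)
  -- injectivity of `A → S`
  haveI := Groth.Agent.Lib.Helper3.HzP.sh_faithfullyFlat A S
  have hAS : Function.Injective (algebraMap A S) :=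
    FaithfulSMul.algebraMap_injective A S
  have hAE : Function.Injective (algebraMap A E) := by
    intro a b hab
    apply hAS
    have := congrArg (fun z : E => (z : S)) hab
    exact this
  let F := FractionRing E
  have hAF : Function.Injective (algebraMap A F) := by
    rw [IsScalarTower.algebraMap_eq A E F]
    exact (IsFractionRing.injective E F).comp hAE
  letI : Algebra K F := (IsFractionRing.lift (K := K) hAF).toAlgebra
  haveI : IsScalarTower A K F := IsScalarTower.of_algebraMap_eq (fun a => by
    change _ = IsFractionRing.lift hAF (algebraMap A K a)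
    rw [IsFractionRing.lift_algebraMap])
  obtain ⟨hsep, -⟩ := sep_fin_of_essEtale A E hE K F
  -- the map `F → Ks`
  have hES : Function.Injective ((algebraMap S Ks).comp (E.val : E →+* S)) :=
    (IsFractionRing.injective S Ks).comp Subtype.val_injective
  let j : F →+* Ks := IsFractionRing.lift (K := F) hES
  have hjK : j.comp (algebraMap K F) = algebraMap K Ks := by
    apply IsLocalization.ringHom_ext (nonZeroDivisors A)
    ext a
    simp only [RingHom.comp_apply]
    rw [← IsScalarTower.algebraMap_apply A K F, ← IsScalarTower.algebraMap_apply A K Ks,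
      IsScalarTower.algebraMap_apply A E F, IsFractionRing.lift_algebraMap,
      IsScalarTower.algebraMap_apply A S Ks]
    rfl
  let jA : F →ₐ[K] Ks := { j with commutes' := fun r => congrArg (fun φ => φ r) hjK }
  have h1 : algebraMap S Ks x = jA (algebraMap E F ⟨x, hx⟩) := by
    change _ = j (algebraMap E F ⟨x, hx⟩)
    rw [IsFractionRing.lift_algebraMap]
    rfl
  rw [h1]
  have h2 : IsSeparable K (algebraMap E F ⟨x, hx⟩) := Algebra.IsSeparable.isSeparable K _
  unfold IsSeparable at h2 ⊢
  rw [minpoly.algHom_eq jA jA.injective]
  exact h2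

end Part2

section Part3

open IsLocalRing

theorem algebraMap_residueField_eq_map (R S : Type*) [CommRing R] [IsLocalRing R] [CommRing S]
    [IsLocalRing S] [Algebra R S] [IsLocalHom (algebraMap R S)] :
    algebraMap (ResidueField R) (ResidueField S) = ResidueField.map (algebraMap R S) := by
  ext x
  obtain ⟨x, rfl⟩ := residue_surjective x
  rfl

/-- **Transfer**: if `S` is a strict henselization of `A`, `B` is a local `A`-algebra dominated by
`S`, and `T` is a strict henselization of `B`, then there is a surjective `B`-algebra map `T → S`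
(with a ring-theoretic section). -/
theorem transfer (A S B T : Type u) [CommRing A] [IsLocalRing A] [CommRing S] [IsLocalRing S]
    [Algebra A S] [IsLocalHom (algebraMap A S)] [hS : Hensel.IsStrictHenselization A S]
    [CommRing B] [IsLocalRing B] [Algebra A B] [Algebra B S] [IsScalarTower A B S]
    [IsLocalHom (algebraMap B S)]
    [CommRing T] [IsLocalRing T] [Algebra B T] [IsLocalHom (algebraMap B T)]
    [hT : Hensel.IsStrictHenselization B T] :
    ∃ g : T →ₐ[B] S, Function.Surjective g := by
  haveI : HenselianLocalRing S := hS.henselian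
  haveI : HenselianLocalRing T := hT.henselian
  haveI hAB : IsLocalHom (algebraMap A B) := by
    constructor
    intro a ha
    have h1 : IsUnit (algebraMap B S (algebraMap A B a)) := ha.map _
    rw [← IsScalarTower.algebraMap_apply A B S] at h1
    exact isUnit_of_map_unit (algebraMap A S) a h1
  haveI := hS.isSepClosure
  haveI := hT.isSepClosure
  haveI : IsSepClosed (ResidueField S) := IsSepClosure.sep_closed (ResidueField A)
  haveI : Algebra.IsSeparable (ResidueField A) (ResidueField S) := IsSepClosure.separable
  haveI : IsSepClosure (ResidueField B) (ResidueField S) :=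
    ⟨inferInstance, Algebra.isSeparable_tower_top_of_isSeparable (ResidueField A)
      (ResidueField B) (ResidueField S)⟩
  let ε : ResidueField T ≃ₐ[ResidueField B] ResidueField S :=
    IsSepClosure.equiv (ResidueField B) _ _
  -- the map `g : T → S`
  have hε1 : (ε : ResidueField T →+* ResidueField S).comp
      (ResidueField.map (algebraMap B T)) = ResidueField.map (algebraMap B S) := by
    rw [← algebraMap_residueField_eq_map, ← algebraMap_residueField_eq_map]
    ext x
    exact ε.commutes x
  obtain ⟨g, ⟨hg1, hg2⟩, -⟩ := hT.universal S (algebraMap B S) _ hε1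
  -- the map `h : S → T`
  let f : A →+* T := (algebraMap B T).comp (algebraMap A B)
  haveI hf : IsLocalHom f := by
    constructor
    intro a ha
    have h1 : IsUnit (algebraMap A B a) := isUnit_of_map_unit (algebraMap B T) _ ha
    exact isUnit_of_map_unit (algebraMap A B) a h1
  have hε2 : (ε.symm : ResidueField S →+* ResidueField T).comp
      (ResidueField.map (algebraMap A S)) = ResidueField.map f := by
    have e1 : algebraMap A S = (algebraMap B S).comp (algebraMap A B) :=
      IsScalarTower.algebraMap_eq A B S
    have e2 : ResidueField.map (algebraMap A S) =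
        (ResidueField.map (algebraMap B S)).comp (ResidueField.map (algebraMap A B)) := by
      ext x
      obtain ⟨x, rfl⟩ := residue_surjective x
      simp only [RingHom.comp_apply, ResidueField.map_residue]
      rw [e1]
      rfl
    have e3 : ResidueField.map f =
        (ResidueField.map (algebraMap B T)).comp (ResidueField.map (algebraMap A B)) := by
      ext x
      obtain ⟨x, rfl⟩ := residue_surjective x
      simp only [RingHom.comp_apply, ResidueField.map_residue]
      rfl
    rw [e2, e3, ← RingHom.comp_assoc]
    congr 1
    rw [← algebraMap_residueField_eq_map, ← algebraMap_residueField_eq_map]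
    ext x
    exact ε.symm.commutes x
  obtain ⟨h, ⟨hh1, hh2⟩, -⟩ := hS.universal T f _ hε2
  -- `g ∘ h = id`
  have hgh : g.comp h = RingHom.id S := by
    obtain ⟨u, -, huniq⟩ := hS.universal S (algebraMap A S) (RingHom.id _) (by simp)
    rw [huniq (g.comp h) ⟨by
        rw [RingHom.comp_assoc, hh1]
        change (g.comp (algebraMap B T)).comp (algebraMap A B) = _
        rw [hg1]
        exact (IsScalarTower.algebraMap_eq A B S).symm, fun x => by
        rw [RingHom.comp_apply, hg2, hh2]
        simp⟩,
      huniq (RingHom.id S) ⟨by simp, fun x => by simp⟩]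
  refine ⟨{ g with commutes' := fun r => congrArg (fun φ => φ r) hg1 }, ?_⟩
  intro s
  exact ⟨h s, congrArg (fun φ => φ s) hgh⟩

end Part3

section Part4

open IsLocalRing

/-- A strict henselization (a domain) of a local domain is algebraic over it. -/
theorem isAlgebraic_sh (A S : Type u) [CommRing A] [IsDomain A] [IsLocalRing A] [CommRing S]
    [IsLocalRing S] [IsDomain S] [Algebra A S] [IsLocalHom (algebraMap A S)]
    [Hensel.IsStrictHenselization A S] (x : S) : IsAlgebraic A x := by
  haveI := Groth.Agent.Lib.Helper3.HzP.sh_faithfullyFlat A S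
  have hAS : Function.Injective (algebraMap A S) := FaithfulSMul.algebraMap_injective A S
  let K := FractionRing A
  let Ks := FractionRing S
  have hAKs : Function.Injective (algebraMap A Ks) := by
    rw [IsScalarTower.algebraMap_eq A S Ks]
    exact (IsFractionRing.injective S Ks).comp hAS
  letI : Algebra K Ks := (IsFractionRing.lift (K := K) hAKs).toAlgebra
  haveI : IsScalarTower A K Ks := IsScalarTower.of_algebraMap_eq (fun a => by
    change _ = IsFractionRing.lift hAKs (algebraMap A K a)
    rw [IsFractionRing.lift_algebraMap])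
  have h1 : IsSeparable K (algebraMap S Ks x) := isSeparable_sh A S K Ks x
  have h2 : IsAlgebraic K (algebraMap S Ks x) := h1.isIntegral.isAlgebraic
  have h3 : IsAlgebraic A (algebraMap S Ks x) := (IsFractionRing.isAlgebraic_iff A K Ks).mpr h2
  exact (isAlgebraic_algebraMap_iff (IsFractionRing.injective S Ks)).mp h3

/-- If `S` is a strict henselization of `A`, `B` is a normal local domain, a local `A`-algebra
dominated by `S` and injecting into `S`, then `S` is `B`-isomorphic to any strict henselization of
`B`. -/
theorem transfer_equiv (A S B T : Type u) [CommRing A] [IsLocalRing A] [CommRing S] [IsLocalRing S]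
    [Algebra A S] [IsLocalHom (algebraMap A S)] [hS : Hensel.IsStrictHenselization A S]
    [CommRing B] [IsLocalRing B] [Algebra A B] [Algebra B S] [IsScalarTower A B S]
    [IsLocalHom (algebraMap B S)] [IsDomain B] [IsIntegrallyClosed B]
    (hinj : Function.Injective (algebraMap B S))
    [CommRing T] [IsLocalRing T] [Algebra B T] [IsLocalHom (algebraMap B T)]
    [hT : Hensel.IsStrictHenselization B T] :
    Nonempty (T ≃ₐ[B] S) := by
  obtain ⟨hTd, -⟩ := (Groth.Agent.Lib.Helper3.HzP.sh_normal_iff B T).mp ⟨inferInstance, inferInstance⟩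
  obtain ⟨g, hg⟩ := transfer A S B T
  have hginj : Function.Injective g := by
    rw [injective_iff_map_eq_zero]
    intro t ht
    by_contra hne
    have halg : IsAlgebraic B t := isAlgebraic_sh B T t
    obtain ⟨q, hq0, hq⟩ := halg.exists_nonzero_coeff_and_aeval_eq_zero
      (mem_nonZeroDivisors_of_ne_zero hne)
    have h1 : Polynomial.aeval (g t) q = 0 := by
      rw [Polynomial.aeval_algHom_apply, hq, map_zero]
    rw [ht, ← Polynomial.coeff_zero_eq_aeval_zero'] at h1
    exact hq0 (hinj (by rw [h1, map_zero]))
  exact ⟨AlgEquiv.ofBijective g ⟨hginj, hg⟩⟩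

/-- Consequences: faithful flatness and unramifiedness of `S` over `B`. -/
theorem faithfullyFlat_of_dominated (A S B : Type u) [CommRing A] [IsLocalRing A] [CommRing S]
    [IsLocalRing S]
    [Algebra A S] [IsLocalHom (algebraMap A S)] [hS : Hensel.IsStrictHenselization A S]
    [CommRing B] [IsLocalRing B] [Algebra A B] [Algebra B S] [IsScalarTower A B S]
    [IsLocalHom (algebraMap B S)] [IsDomain B] [IsIntegrallyClosed B]
    (hinj : Function.Injective (algebraMap B S)) :
    Module.FaithfullyFlat B S ∧
      (maximalIdeal B).map (algebraMap B S) = maximalIdeal S := by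
  let Ω := SeparableClosure (ResidueField B)
  letI : Algebra B Ω := ((algebraMap (ResidueField B) Ω).comp (residue B)).toAlgebra
  haveI : IsScalarTower B (ResidueField B) Ω := IsScalarTower.of_algebraMap_eq (fun _ => rfl)
  let T := Groth.Agent.Lib.Helper3.Sh.Rsh B Ω
  obtain ⟨e⟩ := transfer_equiv A S B T hinj
  haveI := Groth.Agent.Lib.Helper3.HzP.sh_faithfullyFlat B T
  refine ⟨Module.FaithfullyFlat.of_linearEquiv B T e.symm.toLinearEquiv, ?_⟩
  exact Groth.Agent.Lib.Helper3.HzP.map_maximalIdeal_of_algEquiv e.symm
    (Groth.Agent.Lib.Helper3.HzP.sh_map_maximalIdeal B T)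

end Part4

section Part5

open IsLocalRing

/-- The local model: for a normal Noetherian domain `A` and a normal local domain `D ⊇ A` with
`Frac D / Frac A` finite separable, the localisation `B` of the integral closure of `A` in `Frac D`
at the prime under `m_D`. -/
theorem exists_model (A : Type u) [CommRing A] [IsDomain A] [IsIntegrallyClosed A]
    [IsNoetherianRing A]
    (D : Type u) [CommRing D] [IsLocalRing D] [IsDomain D] [IsIntegrallyClosed D] [Algebra A D]
    (K L : Type u) [Field K] [Field L] [Algebra A K] [IsFractionRing A K] [Algebra D L]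
    [IsFractionRing D L] [Algebra A L] [IsScalarTower A D L] [Algebra K L] [IsScalarTower A K L]
    [FiniteDimensional K L] [Algebra.IsSeparable K L] :
    ∃ (B : Type u) (_ : CommRing B) (_ : IsLocalRing B) (_ : IsDomain B)
      (_ : IsIntegrallyClosed B) (_ : Algebra A B) (_ : Algebra.EssFiniteType A B)
      (ψ : B →ₐ[A] D),
      (∀ b : B, IsUnit (ψ b) → IsUnit b) ∧ Function.Injective ψ ∧
        ∀ x : D, ∃ a b : B, b ≠ 0 ∧ x * ψ b = ψ a := by
  classical
  let A' := integralClosure A L
  haveI : Module.Finite A A' := IsIntegralClosure.finite A K L A'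
  haveI : IsIntegrallyClosed A' := integralClosure.isIntegrallyClosedOfFiniteExtension K
  haveI : IsFractionRing A' L := integralClosure.isFractionRing_of_finite_extension K L
  have hDL : Function.Injective (algebraMap D L) := IsFractionRing.injective D L
  -- φ
  have hmem : ∀ x : A', ∃ d : D, algebraMap D L d = (x : L) := fun x => by
    have h1 : IsIntegral A (x : L) := x.2
    have h2 : IsIntegral D (x : L) := h1.tower_top
    exact IsIntegrallyClosed.algebraMap_eq_of_integral h2
  have hle : A' ≤ (IsScalarTower.toAlgHom A D L).range := fun x hx => by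
    obtain ⟨d, hd⟩ := hmem ⟨x, hx⟩
    exact ⟨d, hd⟩
  let e0 : D ≃ₐ[A] (IsScalarTower.toAlgHom A D L).range :=
    AlgEquiv.ofInjective (IsScalarTower.toAlgHom A D L) hDL
  let φ : A' →ₐ[A] D := (e0.symm : _ →ₐ[A] D).comp (Subalgebra.inclusion hle)
  have hφ : ∀ x : A', algebraMap D L (φ x) = (x : L) := fun x => by
    have h1 : e0 (φ x) = Subalgebra.inclusion hle x := e0.apply_symm_apply _
    have h2 := congrArg Subtype.val h1
    exact h2
  let m' : Ideal A' := (maximalIdeal D).comap (φ : A' →+* D)
  haveI : m'.IsPrime := Ideal.comap_isPrime _ _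
  let B := Localization.AtPrime m'
  have hunit : ∀ y : m'.primeCompl, IsUnit (φ y) := fun y => by
    by_contra h
    exact y.2 (show φ y ∈ maximalIdeal D from h)
  let ψ : B →ₐ[A] D := IsLocalization.liftAlgHom (M := m'.primeCompl) (f := φ) hunit
  have hψ : ∀ x : A', ψ (algebraMap A' B x) = φ x := fun x => IsLocalization.lift_eq _ _
  have hψmk : ∀ (a : A') (s : m'.primeCompl), ψ (IsLocalization.mk' B a s) * φ s = φ a := by
    intro a s
    rw [← hψ, ← map_mul, IsLocalization.mk'_spec, hψ]
  haveI : IsIntegrallyClosed B :=
    isIntegrallyClosed_of_isLocalization B m'.primeCompl m'.primeCompl_le_nonZeroDivisors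
  haveI : Algebra.EssFiniteType A' B := Algebra.EssFiniteType.of_isLocalization B m'.primeCompl
  haveI : Algebra.EssFiniteType A B := Algebra.EssFiniteType.comp A A' B
  refine ⟨B, inferInstance, inferInstance, inferInstance, inferInstance, inferInstance,
    inferInstance, ψ, ?_, ?_, ?_⟩
  · intro b hb
    obtain ⟨a, s, rfl⟩ := IsLocalization.exists_mk'_eq m'.primeCompl b
    rw [IsLocalization.AtPrime.isUnit_mk'_iff]
    intro ha
    have h1 : IsUnit (φ a) := by
      rw [← hψmk a s]
      exact hb.mul (hunit s)
    exact ha h1
  · rw [injective_iff_map_eq_zero]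
    intro b hb
    obtain ⟨a, s, rfl⟩ := IsLocalization.exists_mk'_eq m'.primeCompl b
    have h1 : φ a = 0 := by rw [← hψmk a s, hb, zero_mul]
    have h2 : (a : L) = 0 := by rw [← hφ, h1, map_zero]
    have h3 : a = 0 := Subtype.ext h2
    rw [h3, IsLocalization.mk'_zero]
  · intro x
    obtain ⟨⟨p1, p2⟩, hp⟩ := IsLocalization.surj (nonZeroDivisors A') (algebraMap D L x)
    have hp' : algebraMap D L x * (p2 : A') = (p1 : L) := hp
    have h1 : x * φ p2 = φ p1 := by
      apply hDL
      rw [map_mul, hφ, hφ]
      exact hp'
    refine ⟨algebraMap A' B p1, algebraMap A' B p2, ?_, by rw [hψ, hψ]; exact h1⟩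
    intro h0
    have h2 : φ p2 = 0 := by rw [← hψ, h0, map_zero]
    have h3 : ((p2 : A') : L) = 0 := by rw [← hφ, h2, map_zero]
    exact nonZeroDivisors.ne_zero p2.2 (Subtype.ext h3)

end Part5

section Part6

open IsLocalRing

/-- Separability of the fraction field of an intermediate domain of a strict henselization. -/
theorem isSeparable_fractionRing (A S : Type u) [CommRing A] [IsLocalRing A] [IsDomain A]
    [CommRing S] [IsLocalRing S] [IsDomain S] [Algebra A S] [IsLocalHom (algebraMap A S)]
    [hS : Hensel.IsStrictHenselization A S]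
    (D : Subalgebra A S)
    (K L : Type u) [Field K] [Field L] [Algebra A K] [IsFractionRing A K] [Algebra D L]
    [IsFractionRing D L] [Algebra A L] [IsScalarTower A D L] [Algebra K L] [IsScalarTower A K L] :
    Algebra.IsSeparable K L := by
  haveI := Groth.Agent.Lib.Helper3.HzP.sh_faithfullyFlat A S
  have hAS : Function.Injective (algebraMap A S) := FaithfulSMul.algebraMap_injective A S
  let Ks := FractionRing S
  have hAKs : Function.Injective (algebraMap A Ks) := by
    rw [IsScalarTower.algebraMap_eq A S Ks]
    exact (IsFractionRing.injective S Ks).comp hAS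
  letI : Algebra K Ks := (IsFractionRing.lift (K := K) hAKs).toAlgebra
  haveI : IsScalarTower A K Ks := IsScalarTower.of_algebraMap_eq (fun a => by
    change _ = IsFractionRing.lift hAKs (algebraMap A K a)
    rw [IsFractionRing.lift_algebraMap])
  have hDS : Function.Injective ((algebraMap S Ks).comp (D.val : D →+* S)) :=
    (IsFractionRing.injective S Ks).comp Subtype.val_injective
  let j : L →+* Ks := IsFractionRing.lift (K := L) hDS
  have hjK : j.comp (algebraMap K L) = algebraMap K Ks := by
    apply IsLocalization.ringHom_ext (nonZeroDivisors A)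
    ext a
    simp only [RingHom.comp_apply]
    rw [← IsScalarTower.algebraMap_apply A K L, ← IsScalarTower.algebraMap_apply A K Ks,
      IsScalarTower.algebraMap_apply A D L, IsFractionRing.lift_algebraMap,
      IsScalarTower.algebraMap_apply A S Ks]
    rfl
  let jA : L →ₐ[K] Ks := { j with commutes' := fun r => congrArg (fun φ => φ r) hjK }
  have hjD : ∀ d : D, jA (algebraMap D L d) = algebraMap S Ks (d : S) := fun d => by
    change j (algebraMap D L d) = _
    rw [IsFractionRing.lift_algebraMap]
    rfl
  constructor
  intro y
  obtain ⟨d, s, -, rfl⟩ := IsFractionRing.div_surjective (A := D) y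
  have h1 : jA (algebraMap D L d / algebraMap D L s) ∈ separableClosure K Ks := by
    rw [map_div₀, hjD, hjD]
    exact div_mem (mem_separableClosure_iff.mpr (isSeparable_sh A S K Ks _))
      (mem_separableClosure_iff.mpr (isSeparable_sh A S K Ks _))
  have h2 : IsSeparable K (jA (algebraMap D L d / algebraMap D L s)) :=
    mem_separableClosure_iff.mp h1
  unfold IsSeparable at h2 ⊢
  rw [minpoly.algHom_eq jA jA.injective] at h2
  exact h2

theorem essEtale_of_normal (A S : Type u) [CommRing A] [IsLocalRing A] [IsDomain A]
    [IsIntegrallyClosed A] [IsNoetherianRing A]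
    [CommRing S] [IsLocalRing S] [Algebra A S] [IsLocalHom (algebraMap A S)]
    [hS : Hensel.IsStrictHenselization A S]
    (D : Subalgebra A S) [IsLocalRing D] [IsLocalHom (algebraMap D S)] [IsDomain D]
    [IsIntegrallyClosed D]
    (K L : Type u) [Field K] [Field L] [Algebra A K] [IsFractionRing A K] [Algebra D L]
    [IsFractionRing D L] [Algebra A L] [IsScalarTower A D L] [Algebra K L] [IsScalarTower A K L]
    [FiniteDimensional K L] :
    EGA4loc.IsEssentiallyEtale A D := by
  classical
  obtain ⟨hSd, -⟩ :=
    (Groth.Agent.Lib.Helper3.HzP.sh_normal_iff A S).mp ⟨inferInstance, inferInstance⟩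
  haveI : Algebra.IsSeparable K L := isSeparable_fractionRing A S D K L
  obtain ⟨B, _, _, _, _, _, _, ψ, hloc, hinj, hfrac⟩ := exists_model A D K L
  letI : Algebra B S := ((D.val : D →+* S).comp (ψ : B →+* D)).toAlgebra
  have hBS : ∀ b : B, algebraMap B S b = ((ψ b : D) : S) := fun b => rfl
  haveI : IsScalarTower A B S := IsScalarTower.of_algebraMap_eq (fun a => by
    rw [hBS, ψ.commutes]
    rfl)
  haveI : IsLocalHom (algebraMap B S) := by
    constructor
    intro b hb
    rw [hBS] at hb
    exact hloc b (isUnit_of_map_unit (algebraMap D S) (ψ b) hb)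
  have hinjBS : Function.Injective (algebraMap B S) := fun a b hab => by
    rw [hBS, hBS] at hab
    exact hinj (Subtype.ext hab)
  obtain ⟨hff, hmax⟩ := faithfullyFlat_of_dominated A S B hinjBS
  -- surjectivity of `ψ`
  have hsurj : Function.Surjective ψ := by
    intro x
    obtain ⟨a, b, hb, hab⟩ := hfrac x
    have hmem : a ∈ ((Ideal.span {b}).map (algebraMap B S)).comap (algebraMap B S) := by
      rw [Ideal.mem_comap, Ideal.map_span, Set.image_singleton, Ideal.mem_span_singleton']
      refine ⟨(x : S), ?_⟩
      rw [hBS, hBS, ← hab]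
      rfl
    rw [Ideal.comap_map_eq_self_of_faithfullyFlat, Ideal.mem_span_singleton'] at hmem
    obtain ⟨c, hc⟩ := hmem
    refine ⟨c, ?_⟩
    have hψb : ψ b ≠ 0 := fun h0 => hb (hinj (by rw [h0, map_zero]))
    apply mul_right_cancel₀ hψb
    rw [hab, ← map_mul, hc]
  let e : B ≃ₐ[A] D := AlgEquiv.ofBijective ψ ⟨hinj, hsurj⟩
  haveI : Algebra.EssFiniteType A D := (Algebra.EssFiniteType.iff_of_algEquiv e).mp inferInstance
  -- `m_A B = m_B`
  haveI hAB : IsLocalHom (algebraMap A B) := by
    constructor
    intro a ha
    have h1 : IsUnit (algebraMap B S (algebraMap A B a)) := ha.map _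
    rw [← IsScalarTower.algebraMap_apply A B S] at h1
    exact isUnit_of_map_unit (algebraMap A S) a h1
  have hmB : (maximalIdeal A).map (algebraMap A B) = maximalIdeal B := by
    apply le_antisymm
    · exact ((local_hom_TFAE (algebraMap A B)).out 0 2 rfl rfl).mp inferInstance
    · intro x hx
      have h1 : algebraMap B S x ∈ maximalIdeal S := by
        rw [← hmax]
        exact Ideal.mem_map_of_mem _ hx
      rw [← Groth.Agent.Lib.Helper3.HzP.sh_map_maximalIdeal A S,
        IsScalarTower.algebraMap_eq A B S, ← Ideal.map_map] at h1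
      have h2 : x ∈ (((maximalIdeal A).map (algebraMap A B)).map (algebraMap B S)).comap
          (algebraMap B S) := h1
      rw [Ideal.comap_map_eq_self_of_faithfullyFlat] at h2
      exact h2
  have hm : (maximalIdeal A).map (algebraMap A D) = maximalIdeal D :=
    Groth.Agent.Lib.Helper3.HzP.map_maximalIdeal_of_algEquiv e.symm hmB
  exact Groth.Agent.Lib.Helper8EssEtSub.isEssentiallyEtale_of_map_maximalIdeal A S D hm

end Part6

section Part7

open IsLocalRing

/-- An intermediate domain of a strict henselization has algebraic fraction field over `Frac A`: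
every element of `D`, seen in `L`, is integral over `K`. -/
theorem isIntegral_fractionRing (A S : Type u) [CommRing A] [IsLocalRing A] [IsDomain A]
    [CommRing S] [IsLocalRing S] [IsDomain S] [Algebra A S] [IsLocalHom (algebraMap A S)]
    [hS : Hensel.IsStrictHenselization A S]
    (D : Subalgebra A S)
    (K L : Type u) [Field K] [Field L] [Algebra A K] [IsFractionRing A K] [Algebra D L]
    [Algebra A L] [IsScalarTower A D L] [Algebra K L] [IsScalarTower A K L] (d : D) :
    IsIntegral K (algebraMap D L d) := by
  have h1 : IsAlgebraic A (d : S) := isAlgebraic_sh A S d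
  have h2 : IsAlgebraic A d := Subalgebra.isAlgebraic_iff_isAlgebraic_val.mpr h1
  have h3 : IsAlgebraic A (algebraMap D L d) := h2.algebraMap
  have h4 : IsAlgebraic K (algebraMap D L d) := (IsFractionRing.isAlgebraic_iff A K L).mp h3
  exact isAlgebraic_iff_isIntegral.mp h4

theorem main_16432
    (A S : Type u) [CommRing A] [IsLocalRing A] [IsDomain A] [IsIntegrallyClosed A]
    [IsNoetherianRing A] [CommRing S] [IsLocalRing S] [Algebra A S]
    [IsLocalHom (algebraMap A S)]
    [Hensel.IsStrictHenselization A S] (D : Subalgebra A S) [IsLocalRing D]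
    [IsLocalHom (algebraMap D S)] [IsDomain D] [IsIntegrallyClosed D]
    (hfg : ∃ s : Finset D, Subfield.closure (Set.range (algebraMap A (FractionRing D)) ∪
        (algebraMap D (FractionRing D)) '' (s : Set D)) = ⊤) :
    EGA4loc.IsEssentiallyEtale A D := by
  classical
  obtain ⟨hSd, -⟩ :=
    (Groth.Agent.Lib.Helper3.HzP.sh_normal_iff A S).mp ⟨inferInstance, inferInstance⟩
  haveI := Groth.Agent.Lib.Helper3.HzP.sh_faithfullyFlat A S
  have hAS : Function.Injective (algebraMap A S) := FaithfulSMul.algebraMap_injective A S
  have hAD : Function.Injective (algebraMap A D) := by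
    intro a b hab
    apply hAS
    exact congrArg (fun z : D => (z : S)) hab
  let K := FractionRing A
  let L := FractionRing D
  have hAL : Function.Injective (algebraMap A L) := by
    rw [IsScalarTower.algebraMap_eq A D L]
    exact (IsFractionRing.injective D L).comp hAD
  haveI : FaithfulSMul A L := (faithfulSMul_iff_algebraMap_injective A L).mpr hAL
  letI : Algebra K L := FractionRing.liftAlgebra A L
  haveI : IsScalarTower A K L := FractionRing.isScalarTower_liftAlgebra A L
  obtain ⟨s, hs⟩ := hfg
  let T : Set L := (algebraMap D L) '' (s : Set D)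
  haveI : Finite T := (s.finite_toSet.image _).to_subtype
  have hint : ∀ x ∈ T, IsIntegral K x := by
    rintro x ⟨d, -, rfl⟩
    exact isIntegral_fractionRing A S D K L d
  haveI hfd : FiniteDimensional K (IntermediateField.adjoin K T) :=
    IntermediateField.finiteDimensional_adjoin hint
  have htop : IntermediateField.adjoin K T = ⊤ := by
    rw [eq_top_iff]
    intro x _
    have hx : x ∈ Subfield.closure (Set.range (algebraMap A L) ∪ T) := by
      rw [hs]; trivial
    have hle : Subfield.closure (Set.range (algebraMap A L) ∪ T) ≤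
        (IntermediateField.adjoin K T).toSubfield := by
      rw [Subfield.closure_le]
      rintro y (⟨a, rfl⟩ | hy)
      · rw [IsScalarTower.algebraMap_apply A K L]
        exact (IntermediateField.adjoin K T).algebraMap_mem _
      · exact IntermediateField.subset_adjoin K T hy
    exact hle hx
  haveI : FiniteDimensional K L := by
    rw [htop] at hfd
    exact Module.Finite.equiv (IntermediateField.topEquiv (F := K) (E := L)).toLinearEquiv
  exact essEtale_of_normal A S D K L

end Part7

section Part8

open IsLocalRing

/-- A subalgebra of a local ring closed under inverses of units is local, with local inclusion. -/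
theorem isLocalRing_of_isUnit (A S : Type*) [CommRing A] [CommRing S] [IsLocalRing S]
    [Algebra A S] (D : Subalgebra A S) (h : ∀ x : D, IsUnit (x : S) → IsUnit x) :
    IsLocalRing D ∧ IsLocalHom (algebraMap D S) := by
  refine ⟨IsLocalRing.of_is_unit_or_is_unit_of_add_one ?_, ⟨fun x hx => h x hx⟩⟩
  intro a b hab
  have hab' : (a : S) + (b : S) = 1 := by
    have := congrArg (fun z : D => (z : S)) hab
    simpa using this
  rcases IsLocalRing.isUnit_or_isUnit_of_add_one hab' with h1 | h1
  · exact Or.inl (h a h1)
  · exact Or.inr (h b h1)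

/-- Integrally closed subalgebras of a domain, tested in the fraction field of the ambient
domain. -/
theorem mem_of_isIntegral (A S : Type u) [CommRing A] [CommRing S] [IsDomain S] [Algebra A S]
    (D : Subalgebra A S) [IsIntegrallyClosed D]
    (Ks : Type u) [Field Ks] [Algebra S Ks] [IsFractionRing S Ks]
    (a b : D) (y : Ks) (hb : b ≠ 0)
    (hy : y * algebraMap S Ks b = algebraMap S Ks a) (hint : IsIntegral D y) :
    ∃ d : D, algebraMap S Ks d = y := by
  let L := FractionRing D
  have hinj : Function.Injective (algebraMap D Ks) :=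
    (IsFractionRing.injective S Ks).comp Subtype.val_injective
  have hunit : ∀ z : nonZeroDivisors D, IsUnit ((Algebra.ofId D Ks) z) := fun z => by
    rw [isUnit_iff_ne_zero]
    intro h0
    exact nonZeroDivisors.ne_zero z.2 (hinj (by rw [map_zero]; exact h0))
  let j : L →ₐ[D] Ks := IsLocalization.liftAlgHom (M := nonZeroDivisors D)
    (f := Algebra.ofId D Ks) hunit
  have hj : ∀ d : D, j (algebraMap D L d) = algebraMap S Ks d := fun d =>
    IsLocalization.lift_eq _ _
  have hbK : algebraMap S Ks b ≠ 0 := fun h0 =>
    hb (hinj (by rw [map_zero]; exact h0))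
  have hbL : algebraMap D L b ≠ 0 := fun h0 =>
    hb (IsFractionRing.injective D L (by rw [map_zero]; exact h0))
  have hyj : y = j (algebraMap D L a / algebraMap D L b) := by
    rw [map_div₀, hj, hj, eq_div_iff hbK]
    exact hy
  rw [hyj] at hint
  have h1 : IsIntegral D (algebraMap D L a / algebraMap D L b) :=
    (isIntegral_algHom_iff j j.injective).mp hint
  obtain ⟨d, hd⟩ := IsIntegrallyClosed.algebraMap_eq_of_integral h1
  exact ⟨d, by rw [hyj, ← hd, hj]⟩

theorem isIntegrallyClosed_inf (A S : Type u) [CommRing A] [CommRing S] [IsDomain S]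
    [Algebra A S] (D E : Subalgebra A S) [IsIntegrallyClosed D] [IsIntegrallyClosed E] :
    IsIntegrallyClosed (D ⊓ E : Subalgebra A S) := by
  let D' : Subalgebra A S := D ⊓ E
  let Ks := FractionRing S
  let L' := FractionRing D'
  change IsIntegrallyClosed D'
  rw [isIntegrallyClosed_iff L']
  intro y' hy'
  have hinj : Function.Injective (algebraMap D' Ks) :=
    (IsFractionRing.injective S Ks).comp Subtype.val_injective
  have hunit : ∀ z : nonZeroDivisors D', IsUnit ((Algebra.ofId D' Ks) z) := fun z => by
    rw [isUnit_iff_ne_zero]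
    intro h0
    exact nonZeroDivisors.ne_zero z.2 (hinj (by rw [map_zero]; exact h0))
  let j : L' →ₐ[D'] Ks := IsLocalization.liftAlgHom (M := nonZeroDivisors D')
    (f := Algebra.ofId D' Ks) hunit
  have hj : ∀ d : D', j (algebraMap D' L' d) = algebraMap S Ks d := fun d =>
    IsLocalization.lift_eq _ _
  obtain ⟨a, b, hb, rfl⟩ := IsFractionRing.div_surjective (A := D') y'
  have hb0 : b ≠ 0 := nonZeroDivisors.ne_zero hb
  have hbK : algebraMap S Ks b ≠ 0 := fun h0 =>
    hb0 (hinj (by rw [map_zero]; exact h0))
  let y : Ks := j (algebraMap D' L' a / algebraMap D' L' b)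
  have hyab : y * algebraMap S Ks b = algebraMap S Ks a := by
    change j _ * _ = _
    rw [map_div₀, hj, hj, div_mul_cancel₀ _ hbK]
  have hyint : IsIntegral D' y := hy'.map j
  -- integrality over `D` and `E`
  letI algD : Algebra D' D := (Subalgebra.inclusion (inf_le_left : D' ≤ D)).toAlgebra
  haveI : IsScalarTower D' D Ks := IsScalarTower.of_algebraMap_eq (fun _ => rfl)
  have hyD : IsIntegral D y := hyint.tower_top
  letI algE : Algebra D' E := (Subalgebra.inclusion (inf_le_right : D' ≤ E)).toAlgebra
  haveI : IsScalarTower D' E Ks := IsScalarTower.of_algebraMap_eq (fun _ => rfl)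
  have hyE : IsIntegral E y := hyint.tower_top
  obtain ⟨d, hd⟩ := mem_of_isIntegral A S D Ks ⟨a.1, a.2.1⟩ ⟨b.1, b.2.1⟩ y
    (fun h0 => hb0 (Subtype.ext (congrArg (fun z : D => (z : S)) h0))) hyab hyD
  obtain ⟨e, he⟩ := mem_of_isIntegral A S E Ks ⟨a.1, a.2.2⟩ ⟨b.1, b.2.2⟩ y
    (fun h0 => hb0 (Subtype.ext (congrArg (fun z : E => (z : S)) h0))) hyab hyE
  have hde : (d : S) = (e : S) := IsFractionRing.injective S Ks (by rw [hd, he])
  refine ⟨⟨(d : S), ⟨d.2, by rw [hde]; exact e.2⟩⟩, ?_⟩
  apply j.injective
  change j _ = y
  rw [hj]
  exact hd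

end Part8

section Part9

open IsLocalRing

/-- Finite-dimensionality of the fraction field of a subalgebra contained in a stage. -/
theorem finiteDimensional_of_le (A S : Type u) [CommRing A] [IsLocalRing A] [IsDomain A]
    [CommRing S] [IsDomain S] [Algebra A S]
    (hAS : Function.Injective (algebraMap A S))
    (D' E : Subalgebra A S) (hle : D' ≤ E) (hE : EGA4loc.IsEssentiallyEtale A E)
    (K L' : Type u) [Field K] [Field L'] [Algebra A K] [IsFractionRing A K] [Algebra D' L']
    [IsFractionRing D' L'] [Algebra A L'] [IsScalarTower A D' L'] [Algebra K L']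
    [IsScalarTower A K L'] : FiniteDimensional K L' := by
  have hAE : Function.Injective (algebraMap A E) := by
    intro a b hab
    apply hAS
    exact congrArg (fun z : E => (z : S)) hab
  let F := FractionRing E
  have hAF : Function.Injective (algebraMap A F) := by
    rw [IsScalarTower.algebraMap_eq A E F]
    exact (IsFractionRing.injective E F).comp hAE
  letI : Algebra K F := (IsFractionRing.lift (K := K) hAF).toAlgebra
  haveI : IsScalarTower A K F := IsScalarTower.of_algebraMap_eq (fun a => by
    change _ = IsFractionRing.lift hAF (algebraMap A K a)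
    rw [IsFractionRing.lift_algebraMap])
  obtain ⟨-, hfin⟩ := sep_fin_of_essEtale A E hE K F
  have hDE : Function.Injective ((algebraMap E F).comp
      ((Subalgebra.inclusion hle : D' →ₐ[A] E) : D' →+* E)) :=
    (IsFractionRing.injective E F).comp (Subalgebra.inclusion_injective hle)
  let j : L' →+* F := IsFractionRing.lift (K := L') hDE
  have hjK : j.comp (algebraMap K L') = algebraMap K F := by
    apply IsLocalization.ringHom_ext (nonZeroDivisors A)
    ext a
    simp only [RingHom.comp_apply]
    rw [← IsScalarTower.algebraMap_apply A K L', ← IsScalarTower.algebraMap_apply A K F,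
      IsScalarTower.algebraMap_apply A D' L', IsFractionRing.lift_algebraMap,
      IsScalarTower.algebraMap_apply A E F]
    rfl
  let jA : L' →ₐ[K] F := { j with commutes' := fun r => congrArg (fun φ => φ r) hjK }
  exact Module.Finite.of_injective jA.toLinearMap jA.injective

theorem main_16433
    (A S : Type u) [CommRing A] [IsLocalRing A] [IsDomain A] [IsIntegrallyClosed A]
    [IsNoetherianRing A]
    [CommRing S] [IsLocalRing S] [Algebra A S] [IsLocalHom (algebraMap A S)]
    [Hensel.IsStrictHenselization A S] (D : Subalgebra A S) [IsLocalRing D]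
    [IsLocalHom (algebraMap D S)] [IsDomain D] [IsIntegrallyClosed D]
    (s : Finset S) (hs : (s : Set S) ⊆ (D : Set S)) :
    ∃ D' : Subalgebra A S, D' ≤ D ∧ (s : Set S) ⊆ (D' : Set S) ∧
      ∃ _ : IsLocalRing D', IsLocalHom (algebraMap D' S) ∧ EGA4loc.IsEssentiallyEtale A D' := by
  classical
  obtain ⟨hSd, -⟩ :=
    (Groth.Agent.Lib.Helper3.HzP.sh_normal_iff A S).mp ⟨inferInstance, inferInstance⟩
  haveI := Groth.Agent.Lib.Helper3.HzP.sh_faithfullyFlat A S
  have hAS : Function.Injective (algebraMap A S) := FaithfulSMul.algebraMap_injective A S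
  obtain ⟨E, hsE, ⟨hEloc, hE⟩, hEunit, -⟩ := Groth.Agent.Lib.Helper8ShStage.exists_stage A S s
  -- `E` is normal
  haveI : IsIntegrallyClosed E := by
    obtain ⟨C, _, _, q, _, hEt, -, ⟨e⟩⟩ := hE
    haveI := hEt
    obtain ⟨-, h2⟩ :=
      Groth.Agent.Lib.Helper3.EtNormal.isDomain_and_isIntegrallyClosed_localization A C q
    exact IsIntegrallyClosed.of_equiv e.symm.toRingEquiv
  let D' : Subalgebra A S := D ⊓ E
  have hunit : ∀ x : D', IsUnit (x : S) → IsUnit x := by
    intro x hx
    have h1 : IsUnit (⟨x.1, x.2.1⟩ : D) :=
      isUnit_of_map_unit (algebraMap D S) (⟨x.1, x.2.1⟩ : D) hx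
    have h2 : IsUnit (⟨x.1, x.2.2⟩ : E) := hEunit ⟨x.1, x.2.2⟩ hx
    obtain ⟨u, hu⟩ := isUnit_iff_exists_inv.mp h1
    obtain ⟨v, hv⟩ := isUnit_iff_exists_inv.mp h2
    have hu' : (x : S) * (u : S) = 1 := congrArg (fun z : D => (z : S)) hu
    have hv' : (x : S) * (v : S) = 1 := congrArg (fun z : E => (z : S)) hv
    have huv : (u : S) = (v : S) := by
      have h3 : (u : S) * (x : S) = 1 := by rw [mul_comm]; exact hu'
      exact left_inv_eq_right_inv h3 hv'
    refine isUnit_iff_exists_inv.mpr ⟨⟨(u : S), ⟨u.2, by rw [huv]; exact v.2⟩⟩, ?_⟩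
    exact Subtype.ext hu'
  obtain ⟨hloc, hlochom⟩ := isLocalRing_of_isUnit A S D' hunit
  haveI : IsIntegrallyClosed D' := isIntegrallyClosed_inf A S D E
  refine ⟨D', inf_le_left, fun x hx => ⟨hs hx, hsE hx⟩, hloc, hlochom, ?_⟩
  have hAD' : Function.Injective (algebraMap A D') := by
    intro a b hab
    apply hAS
    exact congrArg (fun z : D' => (z : S)) hab
  let K := FractionRing A
  let L' := FractionRing D'
  have hAL : Function.Injective (algebraMap A L') := by
    rw [IsScalarTower.algebraMap_eq A D' L']
    exact (IsFractionRing.injective D' L').comp hAD'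
  haveI : FaithfulSMul A L' := (faithfulSMul_iff_algebraMap_injective A L').mpr hAL
  letI : Algebra K L' := FractionRing.liftAlgebra A L'
  haveI : IsScalarTower A K L' := FractionRing.isScalarTower_liftAlgebra A L'
  haveI : FiniteDimensional K L' :=
    finiteDimensional_of_le A S hAS D' E inf_le_right hE K L'
  exact essEtale_of_normal A S D' K L'

end Part9

end Groth.Agent.Lib.R2H1.ShTransfer
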