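import Mathlib
import Groth.Prelude.Def_AgPol
import Groth.Agent.Lib.R2H1RelDivCurve
import Groth.Agent.Lib.R2H3ClosedWeil
set_option backward.isDefEq.respectTransparency.types false

/-!
Closed locus where a finite locally free closed subscheme D of an S-group scheme E is a subgroup scheme (helper1, on helper3 R2H3ClosedWeil.idealW): discreteTopology_of_isEffCartier_of_dim_le_one, isFinite_of_relEffCartier (rel. eff. Cartier divisor in a proper family with fibres of dim le 1 is finite over the base); comp_mul-prime/comp_one-prime/comp_inv-prime (naturality of the Yoneda group structure), Do, jo, memD, memD_iff, exists_lift_Do, mDD/iD/uS (universal product, inverse, unit), subgroupIdeal, c1/c2/c3, main (subgroupIdeal le g.ker iff for all T-prime the points on D form a subgroup), s16247.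
-/

set_option autoImplicit false
set_option linter.style.haveILetI false
set_option linter.unusedSectionVars false
universe u v

open CategoryTheory CategoryTheory.Limits AlgebraicGeometry TopologicalSpace Opposite

namespace Groth.Agent.Lib.R2H1.SubgroupLocus

section Part1

open CategoryTheory CategoryTheory.Limits AlgebraicGeometry
open Groth.Agent.Lib.R2H1.RelDivCurve

/-- an effective Cartier divisor on a locally Noetherian scheme of dimension `≤ 1` is discrete. -/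
theorem discreteTopology_of_isEffCartier_of_dim_le_one (Y : Scheme.{u}) [IsLocallyNoetherian Y]
    (hdim : topologicalKrullDim Y ≤ 1) (J : Y.IdealSheafData) (hJ : BlowUp.IsEffCartierIdeal J) :
    DiscreteTopology J.subscheme := by
  haveI : IsLocallyNoetherian J.subscheme := LocallyOfFiniteType.isLocallyNoetherian J.subschemeι
  rw [discreteTopology_iff_isOpen_singleton]
  intro d
  rw [Groth.Agent.Lib.Helper3.GrpHomQF.isOpen_singleton_iff_localDim_le_zero]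
  have hle : FlatMor.localDim Y (J.subschemeι d) ≤ 1 :=
    (Groth.Agent.Lib.Helper7.TopDim.localDim_le_dim _).trans hdim
  have hne : FlatMor.localDim Y (J.subschemeι d) ≠ ⊤ := by
    intro h
    rw [h] at hle
    exact absurd hle (by decide)
  have h1 := Groth.Agent.Lib.Helper6.CartDim.localDim_lt_of_isEffCartier Y J hJ d hne
  exact le_zero_of_lt_one (lt_of_lt_of_le h1 hle)

variable {X S : Scheme.{u}} (f : X ⟶ S) (I : X.IdealSheafData)

/-- a relative effective Cartier divisor in a proper family of curves is finite over the base. -/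
theorem isFinite_of_relEffCartier [IsProper f]
    (hdim : ∀ s : S, topologicalKrullDim ↥(f.fiber s) ≤ 1)
    (hI : BlowUp.IsEffCartierIdeal I) [Flat (I.subschemeι ≫ f)] :
    IsFinite (I.subschemeι ≫ f) := by
  haveI : LocallyQuasiFinite (I.subschemeι ≫ f) := by
    rw [locallyQuasiFinite_iff_isDiscrete_preimage_singleton]
    intro s
    rw [isDiscrete_preimage_iff]
    have hEC : BlowUp.IsEffCartierIdeal (I.comap (f.fiberι s)) :=
      Groth.Agent.S1662.result f I hI (S.fromSpecResidueField s)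
    haveI : IsLocallyNoetherian (f.fiber s) :=
      LocallyOfFiniteType.isLocallyNoetherian (f.fiberToSpecResidueField s)
    exact discreteTopology_of_isEffCartier_of_dim_le_one (f.fiber s) (hdim s) _ hEC
  exact IsFinite.of_isProper_of_locallyQuasiFinite _

end Part1

section Part2

open CategoryTheory CategoryTheory.Limits AlgebraicGeometry MonObj MonoidalCategory
  CartesianMonoidalCategory
open Groth.Agent.Lib.R2H3.ClosedWeil

variable {S : Scheme.{u}} (E : Over S) [GrpObj E]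

theorem comp_mul' {A B : Over S} (f : A ⟶ B) (x y : B ⟶ E) : f ≫ (x * y) = (f ≫ x) * (f ≫ y) := by
  rw [Hom.mul_def, Hom.mul_def, ← Category.assoc, comp_lift]

theorem comp_one' {A B : Over S} (f : A ⟶ B) : f ≫ (1 : B ⟶ E) = 1 := by
  rw [Hom.one_def, Hom.one_def, ← Category.assoc]
  congr 1
  exact toUnit_unique _ _

theorem comp_inv' {A B : Over S} (f : A ⟶ B) (x : B ⟶ E) : f ≫ x⁻¹ = (f ≫ x)⁻¹ := by
  rw [Hom.inv_def, Hom.inv_def, Category.assoc]

variable (𝓓 : E.left.IdealSheafData)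

/-- `D` as an `S`-scheme -/
noncomputable abbrev Dₒ : Over S := Over.mk (𝓓.subschemeι ≫ E.hom)

noncomputable abbrev jₒ : Dₒ E 𝓓 ⟶ E := Over.homMk 𝓓.subschemeι rfl

/-- the points of `E` lying on `D` -/
def memD (T : Over S) (x : T ⟶ E) : Prop := 𝓓 ≤ x.left.ker

theorem memD_iff (T : Over S) (x : T ⟶ E) :
    memD E 𝓓 T x ↔ ∃ d : T.left ⟶ 𝓓.subscheme, d ≫ 𝓓.subschemeι = x.left := by
  rw [exists_lift_iff, Scheme.IdealSheafData.ker_subschemeι]
  rfl

theorem memD_comp {T T' : Over S} (a : T' ⟶ T) (x : T ⟶ E) (h : memD E 𝓓 T x) :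
    memD E 𝓓 T' (a ≫ x) :=
  le_trans h (Scheme.Hom.le_ker_comp a.left x.left)

/-- a point on `D` as a morphism to `Dₒ` -/
theorem exists_lift_Dₒ (T : Over S) (x : T ⟶ E) (h : memD E 𝓓 T x) :
    ∃ d : T ⟶ Dₒ E 𝓓, d ≫ jₒ E 𝓓 = x := by
  obtain ⟨d, hd⟩ := (memD_iff E 𝓓 T x).mp h
  refine ⟨Over.homMk d ?_, ?_⟩
  · change d ≫ 𝓓.subschemeι ≫ E.hom = T.hom
    rw [← Category.assoc, hd]
    exact Over.w x
  · ext
    exact hd

theorem memD_jₒ : memD E 𝓓 (Dₒ E 𝓓) (jₒ E 𝓓) := by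
  change 𝓓 ≤ 𝓓.subschemeι.ker
  rw [Scheme.IdealSheafData.ker_subschemeι]

/-- the universal product of two points of `D` -/
noncomputable def mDD : Dₒ E 𝓓 ⊗ Dₒ E 𝓓 ⟶ E :=
  (fst (Dₒ E 𝓓) (Dₒ E 𝓓) ≫ jₒ E 𝓓) * (snd (Dₒ E 𝓓) (Dₒ E 𝓓) ≫ jₒ E 𝓓)

/-- the universal inverse of a point of `D` -/
noncomputable def iD : Dₒ E 𝓓 ⟶ E := (jₒ E 𝓓)⁻¹

/-- the unit section -/
noncomputable def uS : 𝟙_ (Over S) ⟶ E := 1

end Part2

section Part3

open CategoryTheory CategoryTheory.Limits AlgebraicGeometry MonObj MonoidalCategory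
  CartesianMonoidalCategory
open Groth.Agent.Lib.R2H3.ClosedWeil


variable {S : Scheme.{u}} (E : Over S) [GrpObj E] (𝓓 : E.left.IdealSheafData)
  [IsFinite (𝓓.subschemeι ≫ E.hom)] [Flat (𝓓.subschemeι ≫ E.hom)]
  [LocallyOfFinitePresentation (𝓓.subschemeι ≫ E.hom)]

instance : IsFinite (Dₒ E 𝓓 ⊗ Dₒ E 𝓓).hom := by
  change IsFinite (pullback.fst (𝓓.subschemeι ≫ E.hom) (𝓓.subschemeι ≫ E.hom) ≫
    (𝓓.subschemeι ≫ E.hom))
  infer_instance

instance : Flat (Dₒ E 𝓓 ⊗ Dₒ E 𝓓).hom := by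
  change Flat (pullback.fst (𝓓.subschemeι ≫ E.hom) (𝓓.subschemeι ≫ E.hom) ≫
    (𝓓.subschemeι ≫ E.hom))
  infer_instance

instance : LocallyOfFinitePresentation (Dₒ E 𝓓 ⊗ Dₒ E 𝓓).hom := by
  change LocallyOfFinitePresentation
    (pullback.fst (𝓓.subschemeι ≫ E.hom) (𝓓.subschemeι ≫ E.hom) ≫ (𝓓.subschemeι ≫ E.hom))
  infer_instance

instance : IsFinite (Dₒ E 𝓓).hom := ‹IsFinite (𝓓.subschemeι ≫ E.hom)›
instance : Flat (Dₒ E 𝓓).hom := ‹Flat (𝓓.subschemeι ≫ E.hom)›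
instance : LocallyOfFinitePresentation (Dₒ E 𝓓).hom :=
  ‹LocallyOfFinitePresentation (𝓓.subschemeι ≫ E.hom)›

/-- the unit section as a morphism of schemes -/
noncomputable def uS' : S ⟶ E.left := (uS E).left

/-- the ideal sheaf of the closed locus where `D` is a subgroup -/
noncomputable def subgroupIdeal : S.IdealSheafData :=
  𝓓.comap (uS' E) ⊔ idealW (Dₒ E 𝓓 ⊗ Dₒ E 𝓓).hom (𝓓.comap (mDD E 𝓓).left) ⊔
    idealW (Dₒ E 𝓓).hom (𝓓.comap (iD E 𝓓).left)

theorem c1 {T : Scheme.{u}} (g : T ⟶ S) :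
    𝓓.comap (uS' E) ≤ g.ker ↔ 𝓓 ≤ (g ≫ uS' E).ker := by
  rw [← Scheme.IdealSheafData.le_map_iff_comap_le, Scheme.IdealSheafData.map_ker]

theorem c2 {T : Scheme.{u}} (g : T ⟶ S) :
    idealW (Dₒ E 𝓓 ⊗ Dₒ E 𝓓).hom (𝓓.comap (mDD E 𝓓).left) ≤ g.ker ↔
      𝓓 ≤ (pullback.fst (Dₒ E 𝓓 ⊗ Dₒ E 𝓓).hom g ≫ (mDD E 𝓓).left).ker := by
  rw [idealW_le_ker_iff, ← Scheme.IdealSheafData.le_map_iff_comap_le,
    Scheme.IdealSheafData.map_ker]

theorem c3 {T : Scheme.{u}} (g : T ⟶ S) :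
    idealW (Dₒ E 𝓓).hom (𝓓.comap (iD E 𝓓).left) ≤ g.ker ↔
      𝓓 ≤ (pullback.fst (Dₒ E 𝓓).hom g ≫ (iD E 𝓓).left).ker := by
  rw [idealW_le_ker_iff, ← Scheme.IdealSheafData.le_map_iff_comap_le,
    Scheme.IdealSheafData.map_ker]

theorem one_left (TT : Over S) : (1 : TT ⟶ E).left = TT.hom ≫ uS' E := by
  have : (1 : TT ⟶ E) = toUnit TT ≫ uS E := (comp_one' E (toUnit TT)).symm
  rw [this]
  rfl

theorem main (T : Scheme.{u}) (g : T ⟶ S) :
    subgroupIdeal E 𝓓 ≤ g.ker ↔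
      ∀ (T' : Scheme.{u}) (a : T' ⟶ T), ∃ H : Subgroup (Over.mk (a ≫ g) ⟶ E),
        (H : Set (Over.mk (a ≫ g) ⟶ E)) =
          {x | ∃ d : T' ⟶ 𝓓.subscheme, d ≫ 𝓓.subschemeι = x.left} := by
  unfold subgroupIdeal
  rw [sup_le_iff, sup_le_iff, c1, c2, c3]
  constructor
  · rintro ⟨⟨h1, h2⟩, h3⟩ T' a
    let TT : Over S := Over.mk (a ≫ g)
    refine ⟨{ carrier := {x | memD E 𝓓 TT x}, mul_mem' := ?_, one_mem' := ?_, inv_mem' := ?_ }, ?_⟩
    · intro x y hx hy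
      obtain ⟨dx, rfl⟩ := exists_lift_Dₒ E 𝓓 TT x hx
      obtain ⟨dy, rfl⟩ := exists_lift_Dₒ E 𝓓 TT y hy
      let π : TT ⟶ Dₒ E 𝓓 ⊗ Dₒ E 𝓓 := lift dx dy
      have e : (dx ≫ jₒ E 𝓓) * (dy ≫ jₒ E 𝓓) = π ≫ mDD E 𝓓 := by
        unfold mDD
        rw [comp_mul', ← Category.assoc, ← Category.assoc, lift_fst, lift_snd]
      change memD E 𝓓 TT _
      rw [e]
      let p : T' ⟶ pullback (Dₒ E 𝓓 ⊗ Dₒ E 𝓓).hom g := pullback.lift π.left a (Over.w π)
      have hp : π.left = p ≫ pullback.fst _ _ := (pullback.lift_fst _ _ _).symm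
      change 𝓓 ≤ (π.left ≫ (mDD E 𝓓).left).ker
      rw [hp, Category.assoc]
      exact le_trans h2 (Scheme.Hom.le_ker_comp _ _)
    · change 𝓓 ≤ (1 : TT ⟶ E).left.ker
      rw [one_left]
      change 𝓓 ≤ ((a ≫ g) ≫ uS' E).ker
      rw [Category.assoc]
      exact le_trans h1 (Scheme.Hom.le_ker_comp _ _)
    · intro x hx
      obtain ⟨dx, rfl⟩ := exists_lift_Dₒ E 𝓓 TT x hx
      have e : (dx ≫ jₒ E 𝓓)⁻¹ = dx ≫ iD E 𝓓 := by
        unfold iD
        rw [comp_inv']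
      change memD E 𝓓 TT _
      rw [e]
      let p : T' ⟶ pullback (Dₒ E 𝓓).hom g := pullback.lift dx.left a (Over.w dx)
      have hp : dx.left = p ≫ pullback.fst _ _ := (pullback.lift_fst _ _ _).symm
      change 𝓓 ≤ (dx.left ≫ (iD E 𝓓).left).ker
      rw [hp, Category.assoc]
      exact le_trans h3 (Scheme.Hom.le_ker_comp _ _)
    · ext x
      exact memD_iff E 𝓓 TT x
  · intro hyp
    have mem_iff : ∀ (T' : Scheme.{u}) (a : T' ⟶ T) (H : Subgroup (Over.mk (a ≫ g) ⟶ E))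
        (_ : (H : Set (Over.mk (a ≫ g) ⟶ E)) =
          {x | ∃ d : T' ⟶ 𝓓.subscheme, d ≫ 𝓓.subschemeι = x.left}) (x : Over.mk (a ≫ g) ⟶ E),
        x ∈ H ↔ memD E 𝓓 (Over.mk (a ≫ g)) x := by
      intro T' a H hH x
      rw [← SetLike.mem_coe, hH]
      exact (memD_iff E 𝓓 (Over.mk (a ≫ g)) x).symm
    refine ⟨⟨?_, ?_⟩, ?_⟩
    · obtain ⟨H, hH⟩ := hyp T (𝟙 T)
      have h := (mem_iff T (𝟙 T) H hH 1).mp H.one_mem
      change 𝓓 ≤ (1 : Over.mk (𝟙 T ≫ g) ⟶ E).left.ker at h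
      rw [one_left] at h
      change 𝓓 ≤ ((𝟙 T ≫ g) ≫ uS' E).ker at h
      rwa [Category.id_comp] at h
    · let a := pullback.snd (Dₒ E 𝓓 ⊗ Dₒ E 𝓓).hom g
      obtain ⟨H, hH⟩ := hyp _ a
      let TT : Over S := Over.mk (a ≫ g)
      let π : TT ⟶ Dₒ E 𝓓 ⊗ Dₒ E 𝓓 :=
        Over.homMk (pullback.fst (Dₒ E 𝓓 ⊗ Dₒ E 𝓓).hom g) pullback.condition
      let x : TT ⟶ E := (π ≫ fst _ _) ≫ jₒ E 𝓓
      let y : TT ⟶ E := (π ≫ snd _ _) ≫ jₒ E 𝓓
      have hx : x ∈ H := (mem_iff _ a H hH x).mpr (memD_comp E 𝓓 _ _ (memD_jₒ E 𝓓))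
      have hy : y ∈ H := (mem_iff _ a H hH y).mpr (memD_comp E 𝓓 _ _ (memD_jₒ E 𝓓))
      have hxy := (mem_iff _ a H hH _).mp (H.mul_mem hx hy)
      have e : x * y = π ≫ mDD E 𝓓 := by
        unfold mDD
        rw [comp_mul', ← Category.assoc, ← Category.assoc]
      rw [e] at hxy
      exact hxy
    · let a := pullback.snd (Dₒ E 𝓓).hom g
      obtain ⟨H, hH⟩ := hyp _ a
      let TT : Over S := Over.mk (a ≫ g)
      let π : TT ⟶ Dₒ E 𝓓 := Over.homMk (pullback.fst (Dₒ E 𝓓).hom g) pullback.condition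
      let x : TT ⟶ E := π ≫ jₒ E 𝓓
      have hx : x ∈ H := (mem_iff _ a H hH x).mpr (memD_comp E 𝓓 _ _ (memD_jₒ E 𝓓))
      have hxi := (mem_iff _ a H hH _).mp (H.inv_mem hx)
      have e : x⁻¹ = π ≫ iD E 𝓓 := by
        unfold iD
        rw [comp_inv']
      rw [e] at hxi
      exact hxi

end Part3

section Part4

open CategoryTheory CategoryTheory.Limits AlgebraicGeometry MonObj MonoidalCategory
  CartesianMonoidalCategory
open Groth.Agent.Lib.R2H3.ClosedWeil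


theorem s16247 {S : Scheme.{u}} (E : Over S) [GrpObj E] (hE : AgPol.IsAbSch E 1)
    (𝓓 : E.left.IdealSheafData) (hD : BlowUp.IsEffCartierIdeal 𝓓) [Flat (𝓓.subschemeι ≫ E.hom)] :
    ∃ 𝓩 : S.IdealSheafData, ∀ (T : Scheme.{u}) (g : T ⟶ S),
      (∃ t : T ⟶ 𝓩.subscheme, t ≫ 𝓩.subschemeι = g) ↔
        ∀ (T' : Scheme.{u}) (a : T' ⟶ T), ∃ H : Subgroup (Over.mk (a ≫ g) ⟶ E),
          (H : Set (Over.mk (a ≫ g) ⟶ E)) =
            {x | ∃ d : T' ⟶ 𝓓.subscheme, d ≫ 𝓓.subschemeι = x.left} := by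
  haveI : IsProper E.hom := hE.proper
  haveI : Smooth E.hom := hE.smooth
  haveI : IsFinite (𝓓.subschemeι ≫ E.hom) :=
    isFinite_of_relEffCartier E.hom 𝓓 (fun s => by
      rw [hE.fibreDim s]
      exact le_of_eq Nat.cast_one) hD
  haveI := Groth.Agent.Lib.R2H1.RelDivCurve.lfp_subschemeι_of_isEffCartier 𝓓 hD
  haveI : LocallyOfFinitePresentation (𝓓.subschemeι ≫ E.hom) := inferInstance
  refine ⟨subgroupIdeal E 𝓓, fun T g => ?_⟩
  rw [exists_lift_iff, Scheme.IdealSheafData.ker_subschemeι]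
  exact main E 𝓓 T g

end Part4

end Groth.Agent.Lib.R2H1.SubgroupLocus
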