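import Mathlib
import Groth.Agent.Lib.R2H1HilbClosed
set_option backward.isDefEq.respectTransparency.types false

/-!
Relative effective Cartier divisors of degree d on smooth relative curves become sums of d sections after an fppf base change (helper1): ker_snd_eq_comap, isFinLocFreeOfDeg_comap (base change on any pullback square), isClosedImmersion_of_section, isFinLocFreeOfDeg_section, isPullback_section, eq_top_of_deg_zero, comap_prod, ker_comp_comap, main (induction on d via S1172, no Noetherian or properness hypothesis: only separated + smooth of relative dimension 1), s14675.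
-/

set_option autoImplicit false
set_option linter.style.haveILetI false
set_option linter.unusedSectionVars false
universe u v

open CategoryTheory CategoryTheory.Limits AlgebraicGeometry TopologicalSpace Opposite

namespace Groth.Agent.Lib.R2H1.SumSections

section Part1

open CategoryTheory CategoryTheory.Limits AlgebraicGeometry
open Groth.Agent.Lib.R2H1.HilbDesc Groth.Agent.Lib.R2H1.HilbAddPoint
open Groth.Agent.Lib.R2H1.HilbSep Groth.Agent.Lib.R2H1.HilbClosed

/-- the kernel of the base change of `V(I)` is `I.comap`. -/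
theorem ker_snd_eq_comap {X X' : Scheme.{u}} (pr : X' ⟶ X) (I : X.IdealSheafData) :
    (pullback.snd I.subschemeι pr).ker = I.comap pr := by
  unfold Scheme.IdealSheafData.comap
  rw [← pullbackSymmetry_hom_comp_fst, Scheme.Hom.ker_comp_of_isIso]

/-- base change preserves finite locally free of degree `d`, on any pullback square. -/
theorem isFinLocFreeOfDeg_comap {X S X' T : Scheme.{u}} (f : X ⟶ S) (pr : X' ⟶ X) (p' : X' ⟶ T)
    (a : T ⟶ S) (hpb : IsPullback pr p' f a) (I : X.IdealSheafData) (d : ℕ)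
    (h : Mor2.IsFinLocFreeOfDeg d (I.subschemeι ≫ f)) :
    Mor2.IsFinLocFreeOfDeg d ((I.comap pr).subschemeι ≫ p') := by
  have hbig : IsPullback ((I.comap pr).subschemeι ≫ p')
      (Scheme.IdealSheafData.subschemeMap _ _ pr (I.le_map_comap pr)) a (I.subschemeι ≫ f) :=
    ((isPullback_comap pr I).flip.paste_vert hpb).flip
  obtain ⟨⟨h1, h2, h3⟩, h4⟩ := h
  have k1 : IsFinite ((I.comap pr).subschemeι ≫ p') :=
    MorphismProperty.of_isPullback (P := @IsFinite) hbig.flip h1
  have k2 : Flat ((I.comap pr).subschemeι ≫ p') :=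
    MorphismProperty.of_isPullback (P := @Flat) hbig.flip h2
  have k3 : LocallyOfFinitePresentation ((I.comap pr).subschemeι ≫ p') :=
    MorphismProperty.of_isPullback (P := @LocallyOfFinitePresentation) hbig.flip h3
  refine ⟨⟨k1, k2, k3⟩, fun t' => ?_⟩
  rw [Scheme.Hom.finrank_of_isPullback _ _ _ _ hbig.flip t']
  exact h4 _

/-- a section of a separated morphism is a closed immersion. -/
theorem isClosedImmersion_of_section {X' T : Scheme.{u}} (p' : X' ⟶ T) [IsSeparated p']
    (σ : T ⟶ X') (hσ : σ ≫ p' = 𝟙 T) : IsClosedImmersion σ := by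
  haveI : IsClosedImmersion (σ ≫ p') := by rw [hσ]; infer_instance
  exact IsClosedImmersion.of_comp σ p'

theorem isFinLocFreeOfDeg_section {X' T : Scheme.{u}} (p' : X' ⟶ T) [IsSeparated p']
    (σ : T ⟶ X') (hσ : σ ≫ p' = 𝟙 T) :
    Mor2.IsFinLocFreeOfDeg 1 (σ.ker.subschemeι ≫ p') := by
  haveI := isClosedImmersion_of_section p' σ hσ
  apply isFinLocFreeOfDeg_of_ker_eq σ p' _ rfl 1
  rw [hσ]
  refine ⟨⟨inferInstance, inferInstance, inferInstance⟩, fun y => ?_⟩
  rw [Scheme.Hom.finrank_eq_one_of_isIso]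
  rfl

/-- base change of a section. -/
theorem isPullback_section {X' T X'' T'' : Scheme.{u}} (q : X'' ⟶ X') (p'' : X'' ⟶ T'')
    (p' : X' ⟶ T) (b : T'' ⟶ T) (hpb : IsPullback q p'' p' b) (τ : T ⟶ X') (hτ : τ ≫ p' = 𝟙 T)
    (τ'' : T'' ⟶ X'') (hτ'' : τ'' ≫ p'' = 𝟙 T'') (hw : τ'' ≫ q = b ≫ τ) :
    IsPullback b τ'' τ q := by
  have hout : IsPullback (τ'' ≫ p'') b b (τ ≫ p') := by
    rw [hτ, hτ'']
    exact IsPullback.of_horiz_isIso ⟨by simp⟩
  exact (IsPullback.of_right hout hw hpb.flip).flip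

/-- degree zero means empty. -/
theorem eq_top_of_deg_zero {X S : Scheme.{u}} (f : X ⟶ S) (I : X.IdealSheafData)
    (h : Mor2.IsFinLocFreeOfDeg 0 (I.subschemeι ≫ f)) : I = ⊤ := by
  obtain ⟨⟨h1, h2, h3⟩, h4⟩ := h
  haveI : IsEmpty I.subscheme := by
    refine ⟨fun x => ?_⟩
    have := Scheme.Hom.one_le_finrank_map (I.subschemeι ≫ f) x
    rw [h4] at this
    omega
  rw [← Scheme.IdealSheafData.ker_subschemeι I]
  exact Scheme.ker_eq_top_of_isEmpty _

theorem comap_prod {X X' : Scheme.{u}} (pr : X' ⟶ X) {ι : Type*} (s : Finset ι)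
    (J : ι → X.IdealSheafData) :
    (∏ i ∈ s, J i).comap pr = ∏ i ∈ s, (J i).comap pr := by
  classical
  induction s using Finset.induction_on with
  | empty =>
    rw [Finset.prod_empty, Finset.prod_empty, Scheme.IdealSheafData.one_eq_top,
      Scheme.IdealSheafData.one_eq_top, Scheme.IdealSheafData.comap_top]
  | insert a s ha ih =>
    rw [Finset.prod_insert ha, Finset.prod_insert ha,
      Groth.Agent.Lib.Helper20.BlowUpBasic.comap_mul, ih]

end Part1

section Part2

open CategoryTheory CategoryTheory.Limits AlgebraicGeometry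
open Groth.Agent.Lib.R2H1.HilbDesc Groth.Agent.Lib.R2H1.HilbAddPoint
open Groth.Agent.Lib.R2H1.HilbSep Groth.Agent.Lib.R2H1.HilbClosed


theorem ker_comp_comap {T Y' Y : Scheme.{u}} (σ : T ⟶ Y') (e : Y' ⟶ Y) [IsClosedImmersion e] :
    (σ ≫ e).ker.comap e = σ.ker := by
  rw [← Scheme.IdealSheafData.map_ker, comap_map]

theorem main (d : ℕ) : ∀ {C S : Scheme.{u}} (f : C ⟶ S) [IsSeparated f]
    [SmoothOfRelativeDimension 1 f] (I : C.IdealSheafData)
    (_ : Mor2.IsFinLocFreeOfDeg d (I.subschemeι ≫ f)),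
    ∃ (S' : Scheme.{u}) (b : S' ⟶ S), Flat b ∧ Surjective b ∧ LocallyOfFinitePresentation b ∧
      ∃ σ : Fin d → (S' ⟶ pullback f b), (∀ i, σ i ≫ pullback.snd f b = 𝟙 S') ∧
        I.comap (pullback.fst f b) = ∏ i, (σ i).ker := by
  induction d with
  | zero =>
    intro C S f _ _ I hD
    refine ⟨S, 𝟙 S, inferInstance, inferInstance, inferInstance, fun i => i.elim0,
      fun i => i.elim0, ?_⟩
    rw [eq_top_of_deg_zero f I hD, Scheme.IdealSheafData.comap_top, Finset.univ_eq_empty,
      Finset.prod_empty, Scheme.IdealSheafData.one_eq_top]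
  | succ d ih =>
    intro C S f _ _ I hD
    let p : I.subscheme ⟶ S := I.subschemeι ≫ f
    haveI : IsFinite p := hD.1.1
    haveI : Flat p := hD.1.2.1
    haveI : LocallyOfFinitePresentation p := hD.1.2.2
    haveI : Surjective p := by
      rw [← Scheme.Hom.one_le_finrank_iff_surjective]
      intro s
      have := hD.2 s
      change 1 ≤ Scheme.Hom.finrank p s
      rw [this]
      omega
    let q₁ := pullback.fst f p
    let p₁ := pullback.snd f p
    haveI : SmoothOfRelativeDimension 1 p₁ := by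
      haveI := smoothOfRelativeDimension_isStableUnderBaseChange.{u} 1
      exact MorphismProperty.pullback_snd (P := @SmoothOfRelativeDimension 1) f p inferInstance
    let τ : I.subscheme ⟶ pullback f p := pullback.lift I.subschemeι (𝟙 _) (by
      rw [Category.id_comp])
    have hτ : τ ≫ p₁ = 𝟙 _ := pullback.lift_snd _ _ _
    have hτ1 : τ ≫ q₁ = I.subschemeι := pullback.lift_fst _ _ _
    haveI : IsClosedImmersion τ := isClosedImmersion_of_section p₁ τ hτ
    have hI_D : Mor2.IsFinLocFreeOfDeg (d + 1) ((I.comap q₁).subschemeι ≫ p₁) :=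
      isFinLocFreeOfDeg_comap f q₁ p₁ p (IsPullback.of_hasPullback f p) I (d + 1) hD
    have hle : I.comap q₁ ≤ τ.ker := by
      rw [← Scheme.IdealSheafData.le_map_iff_comap_le, Scheme.IdealSheafData.map_ker, hτ1,
        Scheme.IdealSheafData.ker_subschemeι]
    obtain ⟨I', hI', hmul⟩ := Groth.Agent.Lib.R2H1.CurveDivSum.s1172 p₁ τ.ker (I.comap q₁) hle 1
      (d + 1) (isFinLocFreeOfDeg_section p₁ τ hτ) hI_D
    have hd : d + 1 - 1 = d := by omega
    rw [hd] at hI'
    obtain ⟨S'', b', hb1, hb2, hb3, σ', hσ', hprod⟩ := ih p₁ I' hI'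
    let φ := pullbackLeftPullbackSndIso f p b'
    let q₂ := pullback.fst p₁ b'
    let p₂ := pullback.snd p₁ b'
    let τ'' : S'' ⟶ pullback p₁ b' := pullback.lift (b' ≫ τ) (𝟙 S'') (by
      rw [Category.assoc, hτ, Category.comp_id, Category.id_comp])
    have hτ'' : τ'' ≫ p₂ = 𝟙 _ := pullback.lift_snd _ _ _
    have hw : τ'' ≫ q₂ = b' ≫ τ := pullback.lift_fst _ _ _
    have hsq : IsPullback b' τ'' τ q₂ :=
      isPullback_section q₂ p₂ p₁ b' (IsPullback.of_hasPullback p₁ b') τ hτ τ'' hτ'' hw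
    have eτ : τ.ker.comap q₂ = τ''.ker := comap_eq_ker_of_isPullback τ q₂ b' τ'' hsq
    let σ : Fin (d + 1) → (S'' ⟶ pullback f (b' ≫ p)) :=
      Fin.cons (τ'' ≫ φ.hom) (fun i => σ' i ≫ φ.hom)
    refine ⟨S'', b' ≫ p, inferInstance, inferInstance, inferInstance, σ, ?_, ?_⟩
    · intro i
      refine Fin.cases ?_ (fun j => ?_) i
      · change (τ'' ≫ φ.hom) ≫ pullback.snd f (b' ≫ p) = 𝟙 _
        rw [Category.assoc, pullbackLeftPullbackSndIso_hom_snd]
        exact hτ''
      · change (σ' j ≫ φ.hom) ≫ pullback.snd f (b' ≫ p) = 𝟙 _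
        rw [Category.assoc, pullbackLeftPullbackSndIso_hom_snd]
        exact hσ' j
    · apply comap_iso_injective φ
      rw [← Scheme.IdealSheafData.comap_comp, pullbackLeftPullbackSndIso_hom_fst,
        Scheme.IdealSheafData.comap_comp, hmul, Groth.Agent.Lib.Helper20.BlowUpBasic.comap_mul,
        eτ, hprod, comap_prod, Fin.prod_univ_succ]
      congr 1
      · change _ = ((τ'' ≫ φ.hom).ker).comap φ.hom
        rw [ker_comp_comap]
      · refine Finset.prod_congr rfl (fun j _ => ?_)
        change _ = ((σ' j ≫ φ.hom).ker).comap φ.hom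
        rw [ker_comp_comap]

theorem s14675 {C S : Scheme.{u}}
    (f : C ⟶ S) [IsProper f] [SmoothOfRelativeDimension 1 f] (d : ℕ) (I : C.IdealSheafData)
    (hD : Mor2.IsFinLocFreeOfDeg d (I.subschemeι ≫ f)) :
    ∃ (S' : Scheme.{u}) (b : S' ⟶ S), Flat b ∧ Surjective b ∧ LocallyOfFinitePresentation b ∧
      ∃ σ : Fin d → (S' ⟶ pullback f b), (∀ i, σ i ≫ pullback.snd f b = 𝟙 S') ∧
        (pullback.snd I.subschemeι (pullback.fst f b)).ker = ∏ i, (σ i).ker := by
  obtain ⟨S', b, h1, h2, h3, σ, h4, h5⟩ := main d f I hD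
  exact ⟨S', b, h1, h2, h3, σ, h4, by rw [ker_snd_eq_comap]; exact h5⟩

end Part2

end Groth.Agent.Lib.R2H1.SumSections
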