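/-
Swan's parameter lemma (Stacks 07CQ/07FB-type): in a Noetherian ring, a regular system of parameters of a regular localization can be chosen with powers in I and with Ann(pi_i) = Ann(pi_i^2) modulo e-th powers of the earlier ones. (helper1, run 2)
-/
import Mathlib
import Groth.Agent.Lib.Helper5RLR3
import Groth.Agent.Lib.Helper5RegSeqPow

set_option autoImplicit false
set_option linter.style.haveILetI false
set_option linter.unusedSectionVars false
universe u

namespace Groth.Agent.Lib.R2H1.SwanParam

section Part1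

open IsLocalRing

section L
variable {Λ : Type u} [CommRing Λ] [IsNoetherianRing Λ]

/-- The `S`-saturation of an ideal `J` in a Noetherian ring is killed into `J` by a single
element of `S`. -/
theorem exists_mul_mem_of_saturation (S : Submonoid Λ) (J : Ideal Λ) :
    ∃ s₀ ∈ S, ∀ y : Λ, (∃ s ∈ S, s * y ∈ J) → s₀ * y ∈ J := by
  classical
  let K : Ideal Λ := (J.map (algebraMap Λ (Localization S))).comap (algebraMap Λ (Localization S))
  have hK : ∀ y, y ∈ K ↔ ∃ s ∈ S, s * y ∈ J := by
    intro y
    rw [Ideal.mem_comap, IsLocalization.algebraMap_mem_map_algebraMap_iff S]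
  have hfg : K.FG := (isNoetherianRing_iff_ideal_fg Λ).mp inferInstance K
  obtain ⟨T, hT⟩ := hfg
  have h1 : ∀ t ∈ T, ∃ s ∈ S, s * t ∈ J := fun t ht =>
    (hK t).mp (hT ▸ Ideal.subset_span ht)
  choose! f hfS hfJ using h1
  refine ⟨∏ t ∈ T, f t, Submonoid.prod_mem S (fun t ht => hfS t ht), ?_⟩
  intro y hy
  have hyK : y ∈ K := (hK y).mpr hy
  have hle : K ≤ Submodule.comap (LinearMap.mulLeft Λ (∏ t ∈ T, f t)) J := by
    rw [← hT]
    apply Submodule.span_le.mpr
    intro t ht
    change (LinearMap.mulLeft Λ (∏ t ∈ T, f t)) t ∈ J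
    rw [LinearMap.mulLeft_apply, ← Finset.mul_prod_erase T f ht]
    have : (f t * ∏ x ∈ T.erase t, f x) * t = (∏ x ∈ T.erase t, f x) * (f t * t) := by ring
    rw [this]
    exact J.mul_mem_left _ (hfJ t ht)
  exact hle hyK

/-- If the annihilators of `x` and `x²` agree in `S⁻¹(Λ/J)`, then some multiple `u x`, `u ∈ S`, has
the same property in `Λ/J`. -/
theorem exists_mul_ann_eq (S : Submonoid Λ) (J : Ideal Λ) (x : Λ)
    (H : ∀ y, x ^ 2 * y ∈ J → ∃ s ∈ S, s * (x * y) ∈ J) :
    ∃ u ∈ S, ∀ y, (u * x) ^ 2 * y ∈ J → (u * x) * y ∈ J := by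
  obtain ⟨s₀, hs₀, hsat⟩ := exists_mul_mem_of_saturation S J
  let C : ℕ →o Submodule Λ Λ :=
    ⟨fun k => Submodule.comap (LinearMap.mulLeft Λ (s₀ ^ k)) J, by
      apply monotone_nat_of_le_succ
      intro k y hy
      change (LinearMap.mulLeft Λ (s₀ ^ (k + 1))) y ∈ J
      have hy' : (LinearMap.mulLeft Λ (s₀ ^ k)) y ∈ J := hy
      rw [LinearMap.mulLeft_apply] at hy' ⊢
      rw [pow_succ', mul_assoc]
      exact J.mul_mem_left _ hy'⟩
  have hCmem : ∀ k y, y ∈ C k ↔ s₀ ^ k * y ∈ J := by
    intro k y
    change (LinearMap.mulLeft Λ (s₀ ^ k)) y ∈ J ↔ _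
    rw [LinearMap.mulLeft_apply]
  obtain ⟨k, hk⟩ := monotone_stabilizes_iff_noetherian.mpr (inferInstance : IsNoetherian Λ Λ) C
  refine ⟨s₀ ^ k, pow_mem hs₀ k, ?_⟩
  intro y hy
  have h1 : x ^ 2 * ((s₀ ^ k) ^ 2 * y) ∈ J := by
    have : x ^ 2 * ((s₀ ^ k) ^ 2 * y) = (s₀ ^ k * x) ^ 2 * y := by ring
    rw [this]; exact hy
  obtain ⟨s, hs, hs'⟩ := H _ h1
  have h2 : s₀ * (x * ((s₀ ^ k) ^ 2 * y)) ∈ J := hsat _ ⟨s, hs, hs'⟩
  have h3 : x * y ∈ C (2 * k + 1) := by
    rw [hCmem]
    have : s₀ ^ (2 * k + 1) * (x * y) = s₀ * (x * ((s₀ ^ k) ^ 2 * y)) := by ring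
    rw [this]; exact h2
  rw [← hk (2 * k + 1) (by omega), hCmem] at h3
  have : s₀ ^ k * x * y = s₀ ^ k * (x * y) := by ring
  rw [this]; exact h3

end L

theorem span_range_eq_of_isUnit_mul {A : Type*} [CommRing A] {ι : Type*} (g h : ι → A)
    (H : ∀ i, ∃ c : A, IsUnit c ∧ g i = c * h i) :
    Ideal.span (Set.range g) = Ideal.span (Set.range h) := by
  apply le_antisymm
  · rw [Ideal.span_le]; rintro _ ⟨i, rfl⟩
    obtain ⟨c, hc, hgi⟩ := H i
    rw [hgi]; exact Ideal.mul_mem_left _ _ (Ideal.subset_span ⟨i, rfl⟩)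
  · rw [Ideal.span_le]; rintro _ ⟨i, rfl⟩
    obtain ⟨c, hc, hgi⟩ := H i
    obtain ⟨c', rfl⟩ := hc
    have : h i = ↑c'⁻¹ * g i := by rw [hgi, ← mul_assoc, Units.inv_mul, one_mul]
    rw [this]; exact Ideal.mul_mem_left _ _ (Ideal.subset_span ⟨i, rfl⟩)

section Reg
variable {A : Type u} [CommRing A] [IsRegularLocalRing A]

/-- In a regular local ring with regular system of parameters `g`, the element `g t` is a
nonzerodivisor modulo the `e`-th powers of the earlier parameters. -/
theorem nzd_pow_of_regular_sop {d : ℕ} (hd : ringKrullDim A = d) (g : Fin d → A)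
    (hg : Ideal.span (Set.range g) = maximalIdeal A) (e : ℕ) (he : 0 < e) (t : Fin d) (y : A)
    (hy : g t * y ∈ Ideal.span (Set.range fun j : {j : Fin d // (j : ℕ) < (t : ℕ)} => g j ^ e)) :
    y ∈ Ideal.span (Set.range fun j : {j : Fin d // (j : ℕ) < (t : ℕ)} => g j ^ e) := by
  classical
  have hNoeth : IsNoetherianRing A := inferInstance
  have hreg := Helper5.isRegular_ofFn_of_span_eq_maximalIdeal hd g hg
  let v : Fin d → ℕ := fun i => if (i : ℕ) < (t : ℕ) then e else 1
  have hv : ∀ i, 1 ≤ v i := by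
    intro i
    simp only [v]
    split_ifs <;> omega
  have hw := Helper5.isWeaklyRegular_ofFn_pow d (M := A) g v hv hreg.toIsWeaklyRegular
  have hlen : (t : ℕ) < (List.ofFn fun i => g i ^ v i).length := by
    rw [List.length_ofFn]; exact t.2
  have h1 := hw.regular_mod_prev (t : ℕ) hlen
  have hget : (List.ofFn fun i => g i ^ v i)[(t : ℕ)]'hlen = g t := by
    simp [v]
  have hJ : Ideal.ofList ((List.ofFn fun i => g i ^ v i).take (t : ℕ)) =
      Ideal.span (Set.range fun j : {j : Fin d // (j : ℕ) < (t : ℕ)} => g j ^ e) := by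
    rw [Ideal.ofList]
    congr 1
    ext a
    simp only [Set.mem_setOf_eq, Set.mem_range]
    constructor
    · intro ha
      rw [List.mem_take_iff_getElem] at ha
      obtain ⟨i, hi, rfl⟩ := ha
      rw [List.length_ofFn] at hi
      have hit : i < (t : ℕ) := by omega
      have hid : i < d := by omega
      refine ⟨⟨⟨i, hid⟩, hit⟩, ?_⟩
      have hvi : v ⟨i, hid⟩ = e := if_pos hit
      rw [List.getElem_ofFn]
      change g ⟨i, hid⟩ ^ e = g ⟨i, hid⟩ ^ v ⟨i, hid⟩
      rw [hvi]
    · rintro ⟨⟨j, hj⟩, rfl⟩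
      rw [List.mem_take_iff_getElem]
      refine ⟨(j : ℕ), ?_, ?_⟩
      · rw [List.length_ofFn]
        have := j.2
        omega
      · have hvj : v j = e := if_pos hj
        rw [List.getElem_ofFn]
        change g j ^ v j = g j ^ e
        rw [hvj]
  rw [hget, hJ, isSMulRegular_iff_right_eq_zero_of_smul] at h1
  have h2 := h1 (Submodule.Quotient.mk y) (by
    rw [← Submodule.Quotient.mk_smul, Submodule.Quotient.mk_eq_zero, smul_eq_mul, Ideal.mul_top,
      smul_eq_mul]
    exact hy)
  rw [Submodule.Quotient.mk_eq_zero, smul_eq_mul, Ideal.mul_top] at h2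
  exact h2

end Reg

end Part1

section Part2

open IsLocalRing

theorem main {Λ : Type u} [CommRing Λ] [IsNoetherianRing Λ] (I q : Ideal Λ)
    [q.IsPrime] (n e d : ℕ) (hn : 0 < n) (he : 0 < e)
    (hpow : (q ^ n).map (algebraMap Λ (Localization.AtPrime q)) ≤
      I.map (algebraMap Λ (Localization.AtPrime q)))
    [IsRegularLocalRing (Localization.AtPrime q)] (hd : ringKrullDim (Localization.AtPrime q) = d) :
    ∃ (N : ℕ) (π : Fin d → Λ), 0 < N ∧
      Ideal.span (Set.range fun i => algebraMap Λ (Localization.AtPrime q) (π i)) =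
        q.map (algebraMap Λ (Localization.AtPrime q)) ∧
      (∀ i, π i ^ N ∈ I) ∧
      ∀ i : Fin d, ∀ x : Λ ⧸ Ideal.span (Set.range fun j : {j : Fin d // (j : ℕ) < (i : ℕ)} => π j ^ e),
        Ideal.Quotient.mk _ (π i) ^ 2 * x = 0 → Ideal.Quotient.mk _ (π i) * x = 0 := by
  classical
  have hNA : IsNoetherianRing (Localization.AtPrime q) := inferInstance
  -- step 1: a regular system of parameters `z`
  have hreg : ((maximalIdeal (Localization.AtPrime q)).spanFinrank : WithBot ℕ∞) =
      ringKrullDim (Localization.AtPrime q) := IsRegularLocalRing.spanFinrank_maximalIdeal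
  rw [hd] at hreg
  have hreg' : (maximalIdeal (Localization.AtPrime q)).spanFinrank = d := by exact_mod_cast hreg
  obtain ⟨s, z, hs, hsup⟩ := Helper5.exists_extension_span_eq_maximalIdeal
    (R := Localization.AtPrime q) (r := 0) (fun i => i.elim0) (linearIndependent_empty_type)
  obtain rfl : d = s := by omega
  have hz : Ideal.span (Set.range fun i => (z i : Localization.AtPrime q)) =
      maximalIdeal (Localization.AtPrime q) := by
    have : (Set.range fun i : Fin 0 =>
        ((Fin.elim0 i : maximalIdeal (Localization.AtPrime q)) : Localization.AtPrime q)) = ∅ :=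
      Set.range_eq_empty _
    rw [this, Ideal.span_empty, sup_bot_eq] at hsup
    exact hsup
  -- numerators
  have h1 : ∀ i, ∃ x : Λ × q.primeCompl,
      (z i : Localization.AtPrime q) * algebraMap Λ (Localization.AtPrime q) x.2 =
        algebraMap Λ (Localization.AtPrime q) x.1 :=
    fun i => IsLocalization.surj q.primeCompl (z i : Localization.AtPrime q)
  choose x hx using h1
  have hunit : ∀ m : Λ, m ∈ q.primeCompl → IsUnit (algebraMap Λ (Localization.AtPrime q) m) :=
    fun m hm => IsLocalization.map_units (Localization.AtPrime q) (⟨m, hm⟩ : q.primeCompl)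
  -- `π⁰ i ∈ q`
  have hx1q : ∀ i, (x i).1 ∈ q := by
    intro i
    rw [← IsLocalization.AtPrime.to_map_mem_maximal_iff (Localization.AtPrime q) q, ← hx i]
    exact Ideal.mul_mem_right _ _ (z i).2
  have h2 : ∀ i, ∃ m ∈ q.primeCompl, m * (x i).1 ^ n ∈ I := by
    intro i
    have : algebraMap Λ (Localization.AtPrime q) ((x i).1 ^ n) ∈
        I.map (algebraMap Λ (Localization.AtPrime q)) :=
      hpow (Ideal.mem_map_of_mem _ (Ideal.pow_mem_pow (hx1q i) n))
    exact (IsLocalization.algebraMap_mem_map_algebraMap_iff q.primeCompl _ _ _).mp this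
  choose m hmS hmI using h2
  -- the induction
  have key : ∀ t : ℕ, t ≤ d → ∃ π : Fin d → Λ,
      (∀ i, ∃ c : Localization.AtPrime q, IsUnit c ∧
        algebraMap Λ (Localization.AtPrime q) (π i) = c * (z i : Localization.AtPrime q)) ∧
      (∀ i, π i ^ n ∈ I) ∧
      ∀ i : Fin d, (i : ℕ) < t → ∀ y : Λ,
        π i ^ 2 * y ∈ Ideal.span (Set.range fun j : {j : Fin d // (j : ℕ) < (i : ℕ)} => π j ^ e) →
        π i * y ∈ Ideal.span (Set.range fun j : {j : Fin d // (j : ℕ) < (i : ℕ)} => π j ^ e) := by
    intro t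
    induction t with
    | zero =>
      intro _
      refine ⟨fun i => m i * (x i).1, ?_, ?_, fun i hi => absurd hi (Nat.not_lt_zero _)⟩
      · intro i
        refine ⟨algebraMap Λ (Localization.AtPrime q) (m i) *
          algebraMap Λ (Localization.AtPrime q) (x i).2, (hunit _ (hmS i)).mul (hunit _ (x i).2.2), ?_⟩
        rw [map_mul, ← hx i]
        ring
      · intro i
        obtain ⟨k, hk⟩ : ∃ k, n = k + 1 := ⟨n - 1, by omega⟩
        have : (m i * (x i).1) ^ n = m i ^ k * (m i * (x i).1 ^ n) := by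
          rw [mul_pow]
          conv_lhs => rw [hk, pow_succ]
          rw [← hk]
          ring
        rw [this]
        exact I.mul_mem_left _ (hmI i)
    | succ t ih =>
      intro ht
      obtain ⟨π, h1, h2, h3⟩ := ih (by omega)
      obtain ⟨tt, htt⟩ : ∃ tt : Fin d, (tt : ℕ) = t := ⟨⟨t, by omega⟩, rfl⟩
      have H : ∀ y, π tt ^ 2 * y ∈
          Ideal.span (Set.range fun j : {j : Fin d // (j : ℕ) < (tt : ℕ)} => π j ^ e) →
          ∃ s ∈ q.primeCompl, s * (π tt * y) ∈
            Ideal.span (Set.range fun j : {j : Fin d // (j : ℕ) < (tt : ℕ)} => π j ^ e) := by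
        intro y hy
        have hspan : Ideal.span (Set.range fun i => algebraMap Λ (Localization.AtPrime q) (π i)) =
            maximalIdeal (Localization.AtPrime q) := by
          rw [span_range_eq_of_isUnit_mul _ _ h1]; exact hz
        have hmap : (Ideal.span (Set.range fun j : {j : Fin d // (j : ℕ) < (tt : ℕ)} => π j ^ e)).map
            (algebraMap Λ (Localization.AtPrime q)) =
            Ideal.span (Set.range fun j : {j : Fin d // (j : ℕ) < (tt : ℕ)} =>
              (algebraMap Λ (Localization.AtPrime q) (π j)) ^ e) := by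
          rw [Ideal.map_span, ← Set.range_comp]
          congr 2
          funext j
          simp only [Function.comp_apply, map_pow]
        have hy' : algebraMap Λ (Localization.AtPrime q) (π tt) *
            (algebraMap Λ (Localization.AtPrime q) (π tt) * algebraMap Λ (Localization.AtPrime q) y) ∈
            Ideal.span (Set.range fun j : {j : Fin d // (j : ℕ) < (tt : ℕ)} =>
              (algebraMap Λ (Localization.AtPrime q) (π j)) ^ e) := by
          rw [← hmap]
          have := Ideal.mem_map_of_mem (algebraMap Λ (Localization.AtPrime q)) hy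
          rwa [map_mul, map_pow, pow_two, mul_assoc] at this
        have h4 := nzd_pow_of_regular_sop hd
          (fun i => algebraMap Λ (Localization.AtPrime q) (π i)) hspan e he tt _ hy'
        rw [← hmap, ← map_mul] at h4
        exact (IsLocalization.algebraMap_mem_map_algebraMap_iff q.primeCompl _ _ _).mp h4
      obtain ⟨u, hu, hu'⟩ := exists_mul_ann_eq q.primeCompl _ (π tt) H
      refine ⟨Function.update π tt (u * π tt), ?_, ?_, ?_⟩
      · intro i
        by_cases hi : i = tt
        · rw [hi, Function.update_self]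
          obtain ⟨c, hc, hci⟩ := h1 tt
          exact ⟨algebraMap Λ (Localization.AtPrime q) u * c, (hunit u hu).mul hc, by
            rw [map_mul, hci, mul_assoc]⟩
        · rw [Function.update_of_ne hi]; exact h1 i
      · intro i
        by_cases hi : i = tt
        · rw [hi, Function.update_self, mul_pow]; exact I.mul_mem_left _ (h2 tt)
        · rw [Function.update_of_ne hi]; exact h2 i
      · intro i hi y hy
        have hJeq : (fun j : {j : Fin d // (j : ℕ) < (i : ℕ)} =>
            Function.update π tt (u * π tt) j ^ e) =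
            fun j : {j : Fin d // (j : ℕ) < (i : ℕ)} => π j ^ e := by
          funext j
          rw [Function.update_of_ne]
          intro hj
          have h5 : ((j : Fin d) : ℕ) = t := by rw [hj, htt]
          have h6 := j.2
          omega
        rw [hJeq] at hy ⊢
        by_cases hit : i = tt
        · subst hit
          rw [Function.update_self] at hy ⊢
          exact hu' y hy
        · have hilt : (i : ℕ) < t := by
            have : (i : ℕ) ≠ t := fun h => hit (Fin.ext (by rw [h, htt]))
            omega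
          rw [Function.update_of_ne hit] at hy ⊢
          exact h3 i hilt y hy
  obtain ⟨π, h1, h2, h3⟩ := key d le_rfl
  refine ⟨n, π, hn, ?_, h2, ?_⟩
  · rw [span_range_eq_of_isUnit_mul _ _ h1, hz]
    exact (Localization.AtPrime.map_eq_maximalIdeal).symm
  · intro i x hx
    obtain ⟨y, rfl⟩ := Ideal.Quotient.mk_surjective x
    rw [← map_pow, ← map_mul, Ideal.Quotient.eq_zero_iff_mem] at hx
    rw [← map_mul, Ideal.Quotient.eq_zero_iff_mem]
    exact h3 i i.2 y hx

end Part2

end Groth.Agent.Lib.R2H1.SwanParam
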