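/-
R2H1TameUniq (helper1): over a DVR R whose absolute Galois group is all inertia at a valuation ring W of the separable closure: r-th roots of units stay in their field (r prime to the residue characteristic), K(pi^(1/r)) is the unique Galois extension of degree r, and every Galois extension of degree r is totally ramified (S19917).
-/
import Mathlib
import Groth.Prelude.Def_SGA7a

set_option autoImplicit false
set_option linter.style.haveILetI false
set_option linter.unusedSectionVars false
universe u

namespace Groth.Agent.Lib.R2H1.TameUniq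

section Part1

open IsLocalRing

section Val

variable {Ω : Type*} [Field Ω] (W : ValuationSubring Ω)

theorem val_eq_one_of_mem {x : Ω} (hx0 : x ≠ 0) (h1 : x ∈ W) (h2 : x⁻¹ ∈ W) :
    W.valuation x = 1 := by
  have hx1 : W.valuation x ≤ 1 := (W.valuation_le_one_iff x).mpr h1
  have hx2 : W.valuation x⁻¹ ≤ 1 := (W.valuation_le_one_iff x⁻¹).mpr h2
  rw [map_inv₀] at hx2
  have hv0 : W.valuation x ≠ 0 := (W.valuation.ne_zero_iff).mpr hx0
  have : 1 ≤ W.valuation x := by
    rwa [inv_le_one₀ (zero_lt_iff.mpr hv0)] at hx2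
  exact le_antisymm hx1 this

theorem val_eq_one_of_pow {y : Ω} {n : ℕ} (hn : n ≠ 0) (h : W.valuation (y ^ n) = 1) :
    W.valuation y = 1 := by
  rw [map_pow] at h
  rcases lt_trichotomy (W.valuation y) 1 with h1 | h1 | h1
  · exfalso
    have := pow_lt_one₀ zero_le' h1 hn
    rw [h] at this
    exact lt_irrefl _ this
  · exact h1
  · exfalso
    have := one_lt_pow₀ h1 hn
    rw [h] at this
    exact lt_irrefl _ this

/-- a root of unity of order prime to the residue characteristic which is congruent to `1` is `1` -/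
theorem eq_one_of_pow_eq_one (r : ℕ) (hr : 0 < r) (hrv : W.valuation (r : Ω) = 1)
    (η : Ω) (hη : η ^ r = 1) (hv : W.valuation (η - 1) < 1) : η = 1 := by
  by_contra hne
  have hvη : W.valuation η = 1 := val_eq_one_of_pow W hr.ne' (by rw [hη, map_one])
  have hsum : ∑ i ∈ Finset.range r, η ^ i = 0 := by
    have h1 : (η - 1) * ∑ i ∈ Finset.range r, η ^ i = 0 := by
      rw [mul_geom_sum, hη, sub_self]
    rcases mul_eq_zero.mp h1 with h2 | h2
    · exact absurd (sub_eq_zero.mp h2) hne
    · exact h2
  have hterm : ∀ i : ℕ, W.valuation (1 - η ^ i) < 1 := by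
    intro i
    have h1 : 1 - η ^ i = -((η - 1) * ∑ j ∈ Finset.range i, η ^ j) := by
      rw [mul_geom_sum]
      ring
    rw [h1, Valuation.map_neg, map_mul]
    have h2 : W.valuation (∑ j ∈ Finset.range i, η ^ j) ≤ 1 := by
      refine Valuation.map_sum_le _ ?_
      intro j _
      rw [map_pow, hvη, one_pow]
    calc W.valuation (η - 1) * W.valuation (∑ j ∈ Finset.range i, η ^ j)
        ≤ W.valuation (η - 1) * 1 := mul_le_mul_right h2 _
      _ = W.valuation (η - 1) := mul_one _
      _ < 1 := hv
  have hr' : (r : Ω) = ∑ i ∈ Finset.range r, (1 - η ^ i) := by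
    rw [Finset.sum_sub_distrib, hsum, sub_zero, Finset.sum_const, Finset.card_range, nsmul_eq_mul,
      mul_one]
  have : W.valuation (r : Ω) < 1 := by
    rw [hr']
    exact Valuation.map_sum_lt _ one_ne_zero (fun i _ => hterm i)
  rw [hrv] at this
  exact lt_irrefl _ this

end Val

section Kummer

variable {K Ω : Type u} [Field K] [Field Ω] [Algebra K Ω] [IsSepClosure K Ω]
  (W : ValuationSubring Ω) (hI : ∀ σ : Ω ≃ₐ[K] Ω, SGA7.IsInertia W σ)
  (r : ℕ) (hr : 0 < r) (hrv : W.valuation (r : Ω) = 1)

include hI hr hrv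

/-- Kummer roots of units stay in the field -/
theorem mem_of_pow_mem (F : IntermediateField K Ω) (y : Ω) (hy : y ^ r ∈ F)
    (hv : W.valuation (y ^ r) = 1) : y ∈ F := by
  have hvy : W.valuation y = 1 := val_eq_one_of_pow W hr.ne' hv
  have hy0 : y ≠ 0 := by
    intro h
    rw [h, map_zero] at hvy
    exact zero_ne_one hvy
  have hyW : y ∈ W := (W.valuation_le_one_iff y).mp (le_of_eq hvy)
  have h1 : y ∈ Set.range (algebraMap F Ω) := by
    rw [InfiniteGalois.mem_range_algebraMap_iff_fixed]
    intro f
    let σ : Ω ≃ₐ[K] Ω := f.restrictScalars K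
    have hσ : σ y = f y := rfl
    obtain ⟨-, hlt⟩ := hI σ y hyW
    have hη : (f y / y) ^ r = 1 := by
      rw [div_pow, ← map_pow]
      have h2 : f (y ^ r) = y ^ r := f.commutes ⟨y ^ r, hy⟩
      rw [h2, div_self (pow_ne_zero _ hy0)]
    have hv1 : W.valuation (f y / y - 1) < 1 := by
      have h3 : f y / y - 1 = (σ y - y) / y := by
        rw [hσ]
        field_simp
      rw [h3, map_div₀, hvy, div_one]
      exact hlt
    have := eq_one_of_pow_eq_one W r hr hrv _ hη hv1
    rw [div_eq_one_iff_eq hy0] at this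
    exact this
  obtain ⟨z, hz⟩ := h1
  rw [← hz]
  exact z.2

theorem mem_range_of_pow_eq_one (η : Ω) (hη : η ^ r = 1) : η ∈ Set.range (algebraMap K Ω) := by
  have h1 : η ∈ (⊥ : IntermediateField K Ω) := by
    refine mem_of_pow_mem W hI r hr hrv ⊥ η ?_ ?_
    · rw [hη]
      exact one_mem _
    · rw [hη, map_one]
  exact IntermediateField.mem_bot.mp h1

end Kummer

end Part1

section Part2

open IsLocalRing Polynomial IntermediateField

section Basic

variable {R K Ω : Type u} [CommRing R] [IsDomain R] [IsDiscreteValuationRing R]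
  [Field K] [Algebra R K] [IsFractionRing R K] [Field Ω] [Algebra K Ω]
  [Algebra R Ω] [IsScalarTower R K Ω]
  (W : ValuationSubring Ω) (hW : SGA7.LiesOver K R W)

include hW in
theorem algebraMap_mem (a : R) : algebraMap R Ω a ∈ W := by
  rw [IsScalarTower.algebraMap_apply R K Ω]
  exact hW.1 a

include hW in
theorem val_lt_one_of_mem {a : R} (ha : a ∈ maximalIdeal R) : W.valuation (algebraMap R Ω a) < 1 := by
  rw [IsScalarTower.algebraMap_apply R K Ω]
  exact hW.2 a ha

include K in
omit [IsDiscreteValuationRing R] in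
theorem algebraMap_injective : Function.Injective (algebraMap R Ω) := by
  rw [IsScalarTower.algebraMap_eq R K Ω]
  exact (algebraMap K Ω).injective.comp (IsFractionRing.injective R K)

include hW in
theorem val_eq_one_of_isUnit {a : R} (ha : IsUnit a) : W.valuation (algebraMap R Ω a) = 1 := by
  obtain ⟨u, rfl⟩ := ha
  refine val_eq_one_of_mem W ?_ (algebraMap_mem W hW _) ?_
  · intro h
    have := algebraMap_injective (R := R) (K := K) (Ω := Ω) (h.trans (map_zero _).symm)
    exact u.ne_zero this
  · have h1 : (algebraMap R Ω (u : R))⁻¹ = algebraMap R Ω ((u⁻¹ : Rˣ) : R) := by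
      rw [inv_eq_iff_eq_inv]
      symm
      apply inv_eq_of_mul_eq_one_left
      rw [← map_mul, Units.mul_inv, map_one]
    rw [h1]
    exact algebraMap_mem W hW _

theorem natCast_isUnit (r : ℕ) (hrk : (r : ResidueField R) ≠ 0) : IsUnit (r : R) := by
  by_contra h
  have h1 : (r : R) ∈ maximalIdeal R := (mem_maximalIdeal _).mpr h
  have h2 : residue R (r : R) = 0 := (residue_eq_zero_iff _).mpr h1
  rw [map_natCast] at h2
  exact hrk h2

include hW in
theorem val_natCast (r : ℕ) (hrk : (r : ResidueField R) ≠ 0) : W.valuation (r : Ω) = 1 := by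
  have := val_eq_one_of_isUnit W hW (natCast_isUnit (R := R) r hrk)
  rwa [map_natCast] at this

end Basic

section Exist

variable {R K Ω : Type u} [CommRing R] [IsDomain R] [IsDiscreteValuationRing R]
  [Field K] [Algebra R K] [IsFractionRing R K] [Field Ω] [Algebra K Ω] [IsSepClosure K Ω]
  [Algebra R Ω] [IsScalarTower R K Ω]

theorem irreducible_X_pow_sub_C (π : R) (hπ : Irreducible π) (r : ℕ) (hr : 0 < r) :
    Irreducible (X ^ r - C (algebraMap R K π) : K[X]) := by
  have hmonic : (X ^ r - C π : R[X]).Monic := monic_X_pow_sub_C π hr.ne'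
  have hdeg : (X ^ r - C π : R[X]).degree = r := degree_X_pow_sub_C hr π
  have h1 : Irreducible (X ^ r - C π : R[X]) := by
    have hπp : Prime π := hπ.prime
    have hprime : (Ideal.span {π}).IsPrime := (Ideal.span_singleton_prime hπ.ne_zero).mpr hπp
    apply irreducible_of_eisenstein_criterion hprime
    · rw [hmonic.leadingCoeff]
      exact (Ideal.ne_top_iff_one _).mp hprime.ne_top
    · intro k hk
      rw [hdeg] at hk
      have hk' : k < r := by exact_mod_cast hk
      rw [coeff_sub, coeff_X_pow, if_neg hk'.ne, zero_sub, coeff_C]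
      split_ifs
      · exact (Ideal.neg_mem_iff _).mpr (Ideal.mem_span_singleton_self π)
      · rw [neg_zero]
        exact Ideal.zero_mem _
    · rw [hdeg]
      exact_mod_cast hr
    · rw [coeff_sub, coeff_X_pow, if_neg hr.ne, zero_sub, coeff_C_zero, Ideal.span_singleton_pow,
        Ideal.neg_mem_iff, Ideal.mem_span_singleton]
      rintro ⟨c, hc⟩
      have h1 : π * (1 - π * c) = 0 := by linear_combination hc
      rcases mul_eq_zero.mp h1 with h | h
      · exact hπ.ne_zero h
      · exact hπ.not_isUnit (IsUnit.of_mul_eq_one c (by linear_combination -h))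
    · exact hmonic.isPrimitive
  have h2 := (Monic.irreducible_iff_irreducible_map_fraction_map (K := K) hmonic).mp h1
  rwa [Polynomial.map_sub, Polynomial.map_pow, map_X, map_C] at h2

theorem natCast_ne_zero_K (r : ℕ) (hrk : (r : ResidueField R) ≠ 0) : (r : K) ≠ 0 := by
  intro h
  have h1 : algebraMap R K (r : R) = 0 := by rw [map_natCast, h]
  have h2 : (r : R) = 0 := IsFractionRing.injective R K (h1.trans (map_zero _).symm)
  apply hrk
  rw [← map_natCast (residue R), h2, map_zero]

/-- existence of an `r`-th root in the separable closure -/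
theorem exists_root_pow (r : ℕ) (hr : 0 < r) (hrK : (r : K) ≠ 0) (a : Ω) (ha : a ≠ 0) :
    ∃ y : Ω, y ^ r = a := by
  haveI : IsSepClosed Ω := IsSepClosure.sep_closed K
  have hrΩ : (r : Ω) ≠ 0 := by
    rw [← map_natCast (algebraMap K Ω)]
    exact (_root_.map_ne_zero _).mpr hrK
  have hsep : (X ^ r - C a : Polynomial Ω).Separable := separable_X_pow_sub_C a hrΩ ha
  have hdeg : (X ^ r - C a : Polynomial Ω).degree ≠ 0 := by
    rw [degree_X_pow_sub_C hr a]
    exact_mod_cast hr.ne'
  obtain ⟨y, hy⟩ := IsSepClosed.exists_root _ hdeg hsep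
  refine ⟨y, ?_⟩
  rw [IsRoot.def, eval_sub, eval_pow, eval_X, eval_C, sub_eq_zero] at hy
  exact hy

end Exist

end Part2

section Part3

open IsLocalRing Polynomial IntermediateField

section Exist2

variable {R K Ω : Type u} [CommRing R] [IsDomain R] [IsDiscreteValuationRing R]
  [Field K] [Algebra R K] [IsFractionRing R K] [Field Ω] [Algebra K Ω] [IsSepClosure K Ω]
  [Algebra R Ω] [IsScalarTower R K Ω]

theorem finrank_adjoin_root (π : R) (hπ : Irreducible π) (r : ℕ) (hr : 0 < r)
    (α : Ω) (hα : α ^ r = algebraMap R Ω π) : Module.finrank K K⟮α⟯ = r := by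
  have hirr := irreducible_X_pow_sub_C (K := K) π hπ r hr
  have hroot : aeval α (X ^ r - C (algebraMap R K π) : K[X]) = 0 := by
    rw [map_sub, map_pow, aeval_X, aeval_C, hα, ← IsScalarTower.algebraMap_apply, sub_self]
  have hmonic : (X ^ r - C (algebraMap R K π) : K[X]).Monic := monic_X_pow_sub_C _ hr.ne'
  have hmin := minpoly.eq_of_irreducible_of_monic hirr hroot hmonic
  have hint : IsIntegral K α := ⟨_, hmonic, hroot⟩
  rw [IntermediateField.adjoin.finrank hint, ← hmin, natDegree_X_pow_sub_C]

variable (W : ValuationSubring Ω) (hI : ∀ σ : Ω ≃ₐ[K] Ω, SGA7.IsInertia W σ)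

include hI in
theorem isGalois_adjoin_root (π : R) (r : ℕ) (hr : 0 < r) (hrv : W.valuation (r : Ω) = 1)
    (α : Ω) (hα : α ^ r = algebraMap R Ω π) (hπ0 : π ≠ 0) : IsGalois K K⟮α⟯ := by
  have hα0 : α ≠ 0 := by
    intro h
    rw [h, zero_pow hr.ne'] at hα
    exact hπ0 (algebraMap_injective (R := R) (K := K) (Ω := Ω) (hα.symm.trans (map_zero _).symm))
  haveI : Normal K K⟮α⟯ := by
    rw [IntermediateField.normal_iff_forall_map_le']
    intro σ
    rw [IntermediateField.adjoin_map, Set.image_singleton]
    rw [IntermediateField.adjoin_le_iff, Set.singleton_subset_iff]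
    have hη : (σ α / α) ^ r = 1 := by
      have h1 : σ (α ^ r) = α ^ r := by
        rw [hα, IsScalarTower.algebraMap_apply R K Ω]
        exact σ.commutes _
      rw [div_pow, ← map_pow, h1, div_self (pow_ne_zero _ hα0)]
    obtain ⟨c, hc⟩ := mem_range_of_pow_eq_one W hI r hr hrv _ hη
    have h2 : σ α = algebraMap K Ω c * α := by
      rw [hc, div_mul_cancel₀ _ hα0]
    show (σ : Ω →ₐ[K] Ω) α ∈ K⟮α⟯
    show σ α ∈ K⟮α⟯
    rw [h2]
    exact mul_mem (IntermediateField.algebraMap_mem _ c) (mem_adjoin_simple_self K α)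
  exact IsGalois.mk

end Exist2

end Part3

section Part4

open IsLocalRing Polynomial IntermediateField

section Ram

variable {R K Ω : Type u} [CommRing R] [IsDomain R] [IsDiscreteValuationRing R]
  [Field K] [Algebra R K] [IsFractionRing R K] [Field Ω] [Algebra K Ω] [IsSepClosure K Ω]
  [Algebra R Ω] [IsScalarTower R K Ω]
  (W : ValuationSubring Ω) (hW : SGA7.LiesOver K R W)

include hW in
/-- elements of `Ω` integral over `R` lie in `W` -/
theorem mem_of_isIntegral {z : Ω} (hz : IsIntegral R z) : z ∈ W := by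
  letI : Algebra R W :=
    (RingHom.codRestrict (algebraMap R Ω) W.toSubring (algebraMap_mem W hW)).toAlgebra
  haveI : IsScalarTower R W Ω := IsScalarTower.of_algebraMap_eq (fun a => rfl)
  have h1 : IsIntegral W z := hz.tower_top
  obtain ⟨y, hy⟩ := IsIntegrallyClosed.isIntegral_iff.mp h1
  rw [← hy]
  exact y.2

variable (L : IntermediateField K Ω)

instance isScalarTower_RLΩ : IsScalarTower R L Ω := IsScalarTower.of_algebraMap_eq (fun _ => rfl)

include hW in
theorem coe_mem (x : integralClosure R L) : ((x : L) : Ω) ∈ W := by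
  apply mem_of_isIntegral W hW
  exact x.2.map (IsScalarTower.toAlgHom R L Ω)

/-- the inclusion of the integral closure into the valuation ring -/
noncomputable def toW : integralClosure R L →+* W :=
  RingHom.codRestrict ((algebraMap L Ω).comp (algebraMap (integralClosure R L) L)) W.toSubring
    (coe_mem W hW L)

/-- the prime of the integral closure cut out by `W` -/
noncomputable def q0 : Ideal (integralClosure R L) := (maximalIdeal W).comap (toW W hW L)

theorem mem_q0 (x : integralClosure R L) : x ∈ q0 W hW L ↔ W.valuation ((x : L) : Ω) < 1 := by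
  unfold q0
  rw [Ideal.mem_comap, ValuationSubring.valuation_lt_one_iff]
  rfl

instance q0_isPrime : (q0 W hW L).IsPrime := by
  unfold q0
  exact Ideal.comap_isPrime _ _

theorem q0_comap : (q0 W hW L).comap (algebraMap R (integralClosure R L)) = maximalIdeal R := by
  have h1 : maximalIdeal R ≤ (q0 W hW L).comap (algebraMap R (integralClosure R L)) := by
    intro a ha
    rw [Ideal.mem_comap, mem_q0]
    exact val_lt_one_of_mem W hW ha
  have h2 : ((q0 W hW L).comap (algebraMap R (integralClosure R L))).IsPrime :=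
    Ideal.comap_isPrime _ _
  exact ((maximalIdeal.isMaximal R).eq_of_le h2.ne_top h1).symm

instance q0_isMaximal : (q0 W hW L).IsMaximal := by
  apply Ideal.isMaximal_of_isIntegral_of_isMaximal_comap (R := R)
  rw [q0_comap]
  exact maximalIdeal.isMaximal R

instance q0_liesOver : (q0 W hW L).LiesOver (maximalIdeal R) := ⟨(q0_comap W hW L).symm⟩

/-- the Galois action on the integral closure -/
noncomputable def gal (τ : L ≃ₐ[K] L) (x : integralClosure R L) : integralClosure R L :=
  ⟨τ x.1, x.2.map (τ.toAlgHom.restrictScalars R)⟩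

theorem gal_coe (τ : L ≃ₐ[K] L) (x : integralClosure R L) : ((gal L τ x : integralClosure R L) : L) = τ x.1 :=
  rfl

theorem gal_symm (τ : L ≃ₐ[K] L) (x : integralClosure R L) : gal L τ.symm (gal L τ x) = x := by
  apply Subtype.ext
  rw [gal_coe, gal_coe, AlgEquiv.symm_apply_apply]

variable (hI : ∀ σ : Ω ≃ₐ[K] Ω, SGA7.IsInertia W σ)

include hI in
theorem gal_sub_mem [Normal K L] (τ : L ≃ₐ[K] L) (x : integralClosure R L) :
    gal L τ x - x ∈ q0 W hW L := by
  rw [mem_q0]
  have h1 := (hI (τ.liftNormal Ω) ((x : L) : Ω) (coe_mem W hW L x)).2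
  have h2 : (τ.liftNormal Ω) ((x : L) : Ω) = ((τ (x : L) : L) : Ω) :=
    AlgEquiv.liftNormal_commutes τ Ω (x : L)
  rw [h2] at h1
  exact h1

include hI in
theorem gal_mem [Normal K L] (τ : L ≃ₐ[K] L) (x : integralClosure R L) (hx : x ∈ q0 W hW L) :
    gal L τ x ∈ q0 W hW L := by
  have h1 := gal_sub_mem W hW L hI τ x
  have h2 := Ideal.add_mem _ h1 hx
  rwa [sub_add_cancel] at h2

end Ram

end Part4

section Part5

open IsLocalRing Polynomial IntermediateField

section Ram2

variable {R K Ω : Type u} [CommRing R] [IsDomain R] [IsDiscreteValuationRing R]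
  [Field K] [Algebra R K] [IsFractionRing R K] [Field Ω] [Algebra K Ω] [IsSepClosure K Ω]
  [Algebra R Ω] [IsScalarTower R K Ω]
  (W : ValuationSubring Ω) (hW : SGA7.LiesOver K R W)
  (hI : ∀ σ : Ω ≃ₐ[K] Ω, SGA7.IsInertia W σ)
  (L : IntermediateField K Ω) [FiniteDimensional K L] [IsGalois K L]

/-- norm of an integral element as an element of `R` -/
theorem exists_norm (b : integralClosure R L) :
    ∃ n : R, algebraMap R (integralClosure R L) n = ∏ τ : L ≃ₐ[K] L, gal L τ b := by
  have h1 : IsIntegral R (Algebra.norm K (b : L)) := Algebra.isIntegral_norm K b.2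
  obtain ⟨n, hn⟩ := IsIntegrallyClosed.isIntegral_iff.mp h1
  refine ⟨n, ?_⟩
  apply Subtype.ext
  have h2 : ((∏ τ : L ≃ₐ[K] L, gal L τ b : integralClosure R L) : L) = ∏ τ : L ≃ₐ[K] L, τ (b : L) := by
    rw [← Subalgebra.coe_val, map_prod]
    rfl
  rw [h2, ← Algebra.norm_eq_prod_automorphisms, ← hn, ← IsScalarTower.algebraMap_apply]
  rfl

/-- trace of an integral element as an element of `R` -/
theorem exists_trace (b : integralClosure R L) :
    ∃ t : R, algebraMap R (integralClosure R L) t = ∑ τ : L ≃ₐ[K] L, gal L τ b := by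
  have h1 : IsIntegral R (Algebra.trace K L (b : L)) := Algebra.isIntegral_trace b.2
  obtain ⟨t, ht⟩ := IsIntegrallyClosed.isIntegral_iff.mp h1
  refine ⟨t, ?_⟩
  apply Subtype.ext
  have h2 : ((∑ τ : L ≃ₐ[K] L, gal L τ b : integralClosure R L) : L) = ∑ τ : L ≃ₐ[K] L, τ (b : L) := by
    rw [← Subalgebra.coe_val, map_sum]
    rfl
  rw [h2, ← trace_eq_sum_automorphisms, ← ht, ← IsScalarTower.algebraMap_apply]
  rfl

include hI in
/-- `q0` is the only maximal ideal -/
theorem eq_q0_of_isMaximal (Q : Ideal (integralClosure R L)) [hQ : Q.IsMaximal] : Q = q0 W hW L := by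
  classical
  have hQc : Q.comap (algebraMap R (integralClosure R L)) = maximalIdeal R :=
    IsLocalRing.eq_maximalIdeal (Ideal.isMaximal_comap_of_isIntegral_of_isMaximal Q)
  have hle : Q ≤ q0 W hW L := by
    intro b hb
    obtain ⟨n, hn⟩ := exists_norm L b
    have h1 : ∏ τ : L ≃ₐ[K] L, gal L τ b ∈ Q := by
      rw [← Finset.mul_prod_erase Finset.univ _ (Finset.mem_univ (AlgEquiv.refl : L ≃ₐ[K] L))]
      refine Ideal.mul_mem_right _ _ ?_
      have : gal L (AlgEquiv.refl : L ≃ₐ[K] L) b = b := Subtype.ext rfl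
      rw [this]
      exact hb
    rw [← hn] at h1
    have h2 : n ∈ maximalIdeal R := by
      rw [← hQc]
      exact h1
    have h3 : algebraMap R (integralClosure R L) n ∈ q0 W hW L := by
      rw [← Ideal.mem_comap, q0_comap]
      exact h2
    rw [hn, Ideal.IsPrime.prod_mem_iff] at h3
    obtain ⟨τ, -, hτ⟩ := h3
    have h4 := gal_mem W hW L hI τ.symm _ hτ
    rwa [gal_symm] at h4
  exact hQ.eq_of_le (q0_isMaximal W hW L).ne_top hle

include hI in
/-- the residue field does not grow -/
theorem inertiaDeg_q0 (r : ℕ) (hrk : (r : ResidueField R) ≠ 0) (hL : Module.finrank K L = r) :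
    (q0 W hW L).inertiaDeg R = 1 := by
  rw [Ideal.inertiaDeg_eq_of_isMaximal (maximalIdeal R) (q0 W hW L)]
  have hsurj : Function.Surjective (algebraMap (R ⧸ maximalIdeal R)
      (integralClosure R L ⧸ q0 W hW L)) := by
    intro y
    obtain ⟨b, rfl⟩ := Ideal.Quotient.mk_surjective y
    obtain ⟨t, ht⟩ := exists_trace L b
    obtain ⟨u, hu⟩ := natCast_isUnit (R := R) r hrk
    refine ⟨Ideal.Quotient.mk _ (↑u⁻¹ * t), ?_⟩
    rw [Ideal.Quotient.algebraMap_mk_of_liesOver, Ideal.Quotient.eq]
    -- u⁻¹ t - b = u⁻¹ (t - r b) = u⁻¹ Σ (τ b - b)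
    have hcard : Fintype.card (L ≃ₐ[K] L) = r := by
      rw [← Nat.card_eq_fintype_card, IsGalois.card_aut_eq_finrank, hL]
    have h1 : algebraMap R (integralClosure R L) t - (r : integralClosure R L) * b =
        ∑ τ : L ≃ₐ[K] L, (gal L τ b - b) := by
      rw [Finset.sum_sub_distrib, ← ht, Finset.sum_const, Finset.card_univ, hcard, nsmul_eq_mul]
    have h2 : algebraMap R (integralClosure R L) (↑u⁻¹ * t) - b =
        algebraMap R (integralClosure R L) ↑u⁻¹ *
          (algebraMap R (integralClosure R L) t - (r : integralClosure R L) * b) := by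
      rw [mul_sub, ← map_mul, ← mul_assoc]
      congr 1
      rw [← map_natCast (algebraMap R (integralClosure R L)) r, ← hu, ← map_mul, Units.inv_mul,
        map_one, one_mul]
    rw [h2, h1]
    refine Ideal.mul_mem_left _ _ (Ideal.sum_mem _ ?_)
    intro τ _
    exact gal_sub_mem W hW L hI τ b
  letI : Field (R ⧸ maximalIdeal R) := Ideal.Quotient.field _
  letI : Field (integralClosure R L ⧸ q0 W hW L) := Ideal.Quotient.field _
  have e : (R ⧸ maximalIdeal R) ≃ₗ[R ⧸ maximalIdeal R] (integralClosure R L ⧸ q0 W hW L) :=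
    LinearEquiv.ofBijective (Algebra.linearMap _ _)
      ⟨(algebraMap (R ⧸ maximalIdeal R) (integralClosure R L ⧸ q0 W hW L)).injective, hsurj⟩
  rw [← e.finrank_eq, Module.finrank_self]

end Ram2

end Part5

section Part6

open IsLocalRing Polynomial IntermediateField

section Ram3

variable {R K Ω : Type u} [CommRing R] [IsDomain R] [IsDiscreteValuationRing R]
  [Field K] [Algebra R K] [IsFractionRing R K] [Field Ω] [Algebra K Ω] [IsSepClosure K Ω]
  [Algebra R Ω] [IsScalarTower R K Ω]
  (W : ValuationSubring Ω) (hW : SGA7.LiesOver K R W)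
  (hI : ∀ σ : Ω ≃ₐ[K] Ω, SGA7.IsInertia W σ)
  (L : IntermediateField K Ω) [FiniteDimensional K L] [IsGalois K L]

theorem algebraMap_S_injective : Function.Injective (algebraMap R (integralClosure R L)) := by
  intro a b hab
  apply algebraMap_injective (R := R) (K := K) (Ω := Ω)
  have h1 := congrArg (fun x : integralClosure R L => ((x : L) : Ω)) hab
  exact h1

include hI in
theorem ramificationIdx_q0 (r : ℕ) (hrk : (r : ResidueField R) ≠ 0) (hL : Module.finrank K L = r) :
    (q0 W hW L).ramificationIdx R = r := by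
  haveI : Module.Finite R (integralClosure R L) :=
    IsIntegralClosure.finite R K L (integralClosure R L)
  haveI : IsFractionRing (integralClosure R L) L :=
    IsIntegralClosure.isFractionRing_of_finite_extension R K L (integralClosure R L)
  haveI : Module.IsTorsionFree R (integralClosure R L) :=
    Module.isTorsionFree_iff_algebraMap_injective.mpr (algebraMap_S_injective L)
  have hrank : Module.finrank R (integralClosure R L) = r := by
    rw [← IsFractionRing.finrank_eq R K (integralClosure R L) L, hL]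
  have huniq : ∀ q : (maximalIdeal R).primesOver (integralClosure R L), q.1 = q0 W hW L := by
    intro q
    haveI : q.1.IsPrime := q.2.1
    haveI : q.1.LiesOver (maximalIdeal R) := q.2.2
    haveI : q.1.IsMaximal := by
      apply Ideal.isMaximal_of_isIntegral_of_isMaximal_comap (R := R)
      rw [← Ideal.under_def, ← Ideal.over_def q.1 (maximalIdeal R)]
      exact maximalIdeal.isMaximal R
    exact eq_q0_of_isMaximal W hW hI L q.1
  letI : Unique ((maximalIdeal R).primesOver (integralClosure R L)) :=
    { default := ⟨q0 W hW L, ⟨q0_isPrime W hW L, q0_liesOver W hW L⟩⟩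
      uniq := fun q => Subtype.ext (huniq q) }
  have hsum := Ideal.sum_ramification_inertia_eq_finrank (maximalIdeal R) (integralClosure R L)
  rw [Fintype.sum_unique, hrank] at hsum
  have hdef : ((default : (maximalIdeal R).primesOver (integralClosure R L)) : Ideal _) =
      q0 W hW L := rfl
  rw [hdef, inertiaDeg_q0 W hW hI L r hrk hL, mul_one] at hsum
  exact hsum

include hI hW in
theorem ramificationIdx_eq (r : ℕ) (hrk : (r : ResidueField R) ≠ 0) (hL : Module.finrank K L = r)
    (P : Ideal (integralClosure R L)) (hP : P.IsMaximal) : P.ramificationIdx R = r := by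
  haveI := hP
  rw [eq_q0_of_isMaximal W hW hI L P]
  exact ramificationIdx_q0 W hW hI L r hrk hL

end Ram3

end Part6

section Part7

open IsLocalRing Polynomial IntermediateField

section Uniq

variable {R K Ω : Type u} [CommRing R] [IsDomain R] [IsDiscreteValuationRing R]
  [Field K] [Algebra R K] [IsFractionRing R K] [Field Ω] [Algebra K Ω] [IsSepClosure K Ω]
  [Algebra R Ω] [IsScalarTower R K Ω]
  (W : ValuationSubring Ω) (hW : SGA7.LiesOver K R W)
  (hI : ∀ σ : Ω ≃ₐ[K] Ω, SGA7.IsInertia W σ)
  (L : IntermediateField K Ω) [FiniteDimensional K L] [IsGalois K L]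

include hW hI in
/-- a Galois extension of degree `r` contains an `r`-th root of the uniformizer -/
theorem exists_root_mem (r : ℕ) (hr : 0 < r) (hrk : (r : ResidueField R) ≠ 0)
    (hL : Module.finrank K L = r) (π : R) (hπ : Irreducible π) :
    ∃ α : Ω, α ∈ L ∧ α ^ r = algebraMap R Ω π := by
  haveI : IsDedekindDomain (integralClosure R L) :=
    IsIntegralClosure.isDedekindDomain R K L (integralClosure R L)
  haveI : IsLocalRing (integralClosure R L) :=
    IsLocalRing.of_unique_max_ideal ⟨q0 W hW L, q0_isMaximal W hW L, fun Q hQ => by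
      haveI := hQ
      exact eq_q0_of_isMaximal W hW hI L Q⟩
  have hmax : maximalIdeal (integralClosure R L) = q0 W hW L :=
    (IsLocalRing.eq_maximalIdeal (q0_isMaximal W hW L)).symm
  have hπ' : algebraMap R (integralClosure R L) π ≠ 0 := by
    intro h
    exact hπ.ne_zero (algebraMap_S_injective L (h.trans (map_zero _).symm))
  have hπmem : algebraMap R (integralClosure R L) π ∈ q0 W hW L := by
    rw [← Ideal.mem_comap, q0_comap]
    exact (mem_maximalIdeal _).mpr hπ.not_isUnit
  have hnf : ¬ IsField (integralClosure R L) := by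
    rw [IsLocalRing.isField_iff_maximalIdeal_eq, hmax]
    intro h
    rw [h, Ideal.mem_bot] at hπmem
    exact hπ' hπmem
  haveI : IsDiscreteValuationRing (integralClosure R L) :=
    ((IsDiscreteValuationRing.TFAE (integralClosure R L) hnf).out 0 2).mpr
      ‹IsDedekindDomain (integralClosure R L)›
  obtain ⟨ϖ, hϖ⟩ := IsDiscreteValuationRing.exists_irreducible (integralClosure R L)
  obtain ⟨n, u, hu⟩ := IsDiscreteValuationRing.associated_pow_irreducible hπ' hϖ
  -- n = r
  have hq0 : q0 W hW L = Ideal.span {ϖ} := by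
    rw [← hmax, hϖ.maximalIdeal_eq]
  have hmap : (maximalIdeal R).map (algebraMap R (integralClosure R L)) = (q0 W hW L) ^ n := by
    rw [hπ.maximalIdeal_eq, Ideal.map_span, Set.image_singleton, hq0, Ideal.span_singleton_pow,
      Ideal.span_singleton_eq_span_singleton]
    exact ⟨u, hu⟩
  have hq0ne : q0 W hW L ≠ ⊥ := by
    intro h
    rw [h, Ideal.mem_bot] at hπmem
    exact hπ' hπmem
  have hn : n = r := by
    have h1 := ramificationIdx_q0 W hW hI L r hrk hL
    rw [Ideal.IsDedekindDomain.ramificationIdx_eq_multiplicity (maximalIdeal R) (q0 W hW L) (by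
      rw [hmap]
      exact pow_ne_zero _ hq0ne), hmap, multiplicity_pow_self hq0ne (by
        rw [Ideal.isUnit_iff]
        exact (q0_isMaximal W hW L).ne_top)] at h1
    exact h1
  rw [hn] at hu
  -- the unit
  have hw0 : (((↑u⁻¹ : integralClosure R L) : L) : Ω) ≠ 0 := by
    intro h
    have h1 : ((↑u⁻¹ : integralClosure R L) : L) = 0 := by
      exact_mod_cast h
    have h2 : (↑u⁻¹ : integralClosure R L) = 0 := Subtype.ext h1
    exact u⁻¹.ne_zero h2
  have hwinv : (((↑u⁻¹ : integralClosure R L) : L) : Ω)⁻¹ = (((u : integralClosure R L) : L) : Ω) := by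
    apply inv_eq_of_mul_eq_one_left
    have h1 : (u : integralClosure R L) * ↑u⁻¹ = 1 := Units.mul_inv u
    have h2 := congrArg (fun x : integralClosure R L => ((x : L) : Ω)) h1
    exact h2
  have hwv : W.valuation (((↑u⁻¹ : integralClosure R L) : L) : Ω) = 1 := by
    refine val_eq_one_of_mem W hw0 (coe_mem W hW L _) ?_
    rw [hwinv]
    exact coe_mem W hW L _
  have hrK : (r : K) ≠ 0 := natCast_ne_zero_K (R := R) r hrk
  obtain ⟨y, hy⟩ := exists_root_pow (K := K) r hr hrK _ hw0
  have hrv : W.valuation (r : Ω) = 1 := val_natCast W hW r hrk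
  have hyL : y ∈ L := by
    refine mem_of_pow_mem W hI r hr hrv L y ?_ ?_
    · rw [hy]
      exact ((↑u⁻¹ : integralClosure R L) : L).2
    · rw [hy]
      exact hwv
  refine ⟨y * ((ϖ : L) : Ω), mul_mem hyL (ϖ : L).2, ?_⟩
  rw [mul_pow, hy]
  have h1 : algebraMap R (integralClosure R L) π = ↑u⁻¹ * ϖ ^ r := by
    rw [← hu, mul_comm, mul_assoc, Units.mul_inv, mul_one]
  have h2 := congrArg (fun x : integralClosure R L => ((x : L) : Ω)) h1
  simp only [MulMemClass.coe_mul, SubmonoidClass.coe_pow, IntermediateField.coe_mul,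
    IntermediateField.coe_pow] at h2
  rw [← h2]
  rfl

end Uniq

end Part7

section Part8

open IsLocalRing Polynomial IntermediateField

section Main

theorem main_19917 (R K Ω : Type u) [CommRing R] [IsDomain R]
    [IsDiscreteValuationRing R] [Field K] [Algebra R K] [IsFractionRing R K] [Field Ω] [Algebra K Ω]
    [IsSepClosure K Ω] [Algebra R Ω] [IsScalarTower R K Ω]
    (W : ValuationSubring Ω) (hW : SGA7.LiesOver K R W)
    (hI : ∀ σ : Ω ≃ₐ[K] Ω, SGA7.IsInertia W σ)
    (r : ℕ) (hr : 0 < r) (hrk : (r : IsLocalRing.ResidueField R) ≠ 0) :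
    (∃! L : IntermediateField K Ω, Module.finrank K L = r ∧ IsGalois K L) ∧
      ∀ L : IntermediateField K Ω, Module.finrank K L = r → IsGalois K L →
        ∀ P : Ideal (integralClosure R L), P.IsMaximal → P.ramificationIdx R = r := by
  obtain ⟨π, hπ⟩ := IsDiscreteValuationRing.exists_irreducible R
  have hrK : (r : K) ≠ 0 := natCast_ne_zero_K (R := R) r hrk
  have hrv : W.valuation (r : Ω) = 1 := val_natCast W hW r hrk
  have hπΩ : algebraMap R Ω π ≠ 0 := by
    intro h
    exact hπ.ne_zero (algebraMap_injective (R := R) (K := K) (Ω := Ω) (h.trans (map_zero _).symm))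
  obtain ⟨α, hα⟩ := exists_root_pow (K := K) r hr hrK _ hπΩ
  have hα0 : α ≠ 0 := by
    intro h
    rw [h, zero_pow hr.ne'] at hα
    exact hπΩ hα.symm
  have hfin0 : Module.finrank K K⟮α⟯ = r := finrank_adjoin_root π hπ r hr α hα
  haveI : FiniteDimensional K K⟮α⟯ := Module.finite_of_finrank_pos (by rw [hfin0]; exact hr)
  have hgal0 : IsGalois K K⟮α⟯ := isGalois_adjoin_root W hI π r hr hrv α hα hπ.ne_zero
  refine ⟨⟨K⟮α⟯, ⟨hfin0, hgal0⟩, ?_⟩, ?_⟩
  · rintro L ⟨hL, hG⟩
    haveI := hG
    haveI : FiniteDimensional K L := Module.finite_of_finrank_pos (by rw [hL]; exact hr)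
    obtain ⟨α', hα'L, hα'⟩ := exists_root_mem W hW hI L r hr hrk hL π hπ
    have h1 : K⟮α'⟯ = L := by
      apply IntermediateField.eq_of_le_of_finrank_eq
      · rw [IntermediateField.adjoin_le_iff, Set.singleton_subset_iff]
        exact hα'L
      · rw [finrank_adjoin_root π hπ r hr α' hα', hL]
    have h2 : K⟮α'⟯ = K⟮α⟯ := by
      apply IntermediateField.eq_of_le_of_finrank_eq
      · rw [IntermediateField.adjoin_le_iff, Set.singleton_subset_iff]
        have hη : (α' / α) ^ r = 1 := by
          rw [div_pow, hα, hα', div_self hπΩ]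
        obtain ⟨c, hc⟩ := mem_range_of_pow_eq_one W hI r hr hrv _ hη
        have h3 : α' = algebraMap K Ω c * α := by
          rw [hc, div_mul_cancel₀ _ hα0]
        show α' ∈ K⟮α⟯
        rw [h3]
        exact mul_mem (IntermediateField.algebraMap_mem _ c) (mem_adjoin_simple_self K α)
      · rw [finrank_adjoin_root π hπ r hr α' hα', hfin0]
    rw [← h1, h2]
  · intro L hL hG P hP
    haveI := hG
    haveI : FiniteDimensional K L := Module.finite_of_finrank_pos (by rw [hL]; exact hr)
    exact ramificationIdx_eq W hW hI L r hrk hL P hP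

end Main

end Part8

end Groth.Agent.Lib.R2H1.TameUniq
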