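import Mathlib
import Groth.Agent.Lib.R2H1VBHiggs
import Groth.Agent.Lib.R2H1SerreDual
set_option backward.isDefEq.respectTransparency.types false

/-!
# Vanishing of H¹ of twists under a slope bound on submodules (helper1, round 2)

* `exists_untwist_sub`: a submodule of `Q ⊗ L` of rank `r'` untwists to a submodule of `Q` of degree `deg - r' deg L`
* `h1_twist_vanish` (S16008 core)
-/

set_option autoImplicit false
set_option linter.style.haveILetI false
set_option linter.unusedSectionVars false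
universe u v

open CategoryTheory CategoryTheory.Limits AlgebraicGeometry TopologicalSpace Opposite

namespace Groth.Agent.Lib.R2H1.TwistVan

section Part1

open Groth.Agent.Lib.R2H1.VBSub Groth.Agent.Lib.R2H1.VBRankTwo Groth.Agent.Lib.R2H1.VBSlopeB
open Groth.Agent.Lib.R2H1.VBSat Groth.Agent.Lib.R2H1.CurveEuler Groth.Agent.Lib.R2H1.VBHZero
open Groth.Agent.Lib.R2H1.VBTwist Groth.Agent.Lib.R2H1.VBTwistB Groth.Agent.Lib.R2H1.CurveDegSec
open Groth.Agent.Lib.R2H1.VBDestab Groth.Agent.Lib.R2H1.DegCartier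
open Groth.Agent.Lib.R2H1.VBHiggs
open Groth.Agent.Lib.Helper21.ModTensor3 Groth.Agent.Lib.Helper21.ModTensor5
  Groth.Agent.Lib.Helper21.ModTensor6 Groth.Agent.Lib.Helper21.ModTensor7

variable (k : Type u) [Field k] (X : Scheme.{u}) [X.Over (Spec (CommRingCat.of k))]
    [IsProper (X ↘ (Spec (CommRingCat.of k)))] [IsIntegral X]

/-- a submodule of a twist `Q ⊗ L` untwists to a submodule of `Q` -/
theorem exists_untwist_sub (hdim : topologicalKrullDim X = 1)
    {Q L L' : X.Modules} (hL : PicF.IsInvertible L) (hL' : PicF.IsInvertible L')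
    (e : CohB1.tensorMod L L' ≅ Coh.structureModule X)
    (G : X.Modules) (r' : ℕ) (i : G ⟶ CohB1.tensorMod Q L) (hi : Mono i)
    (hG : FlatMod.IsFinLocFreeOfRank r' G) :
    ∃ (G' : X.Modules) (j : G' ⟶ Q), Mono j ∧ FlatMod.IsFinLocFreeOfRank r' G' ∧
      Curv2.deg k X G' r' = Curv2.deg k X G r' - r' * Curv2.deg k X L 1 := by
  haveI := hi
  have hL1 := Groth.Agent.Lib.Helper23.SecTw.isFinLocFreeOfRank_one_of_isInvertible _ hL
  have hL'1 := Groth.Agent.Lib.Helper23.SecTw.isFinLocFreeOfRank_one_of_isInvertible _ hL'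
  haveI : (tR X.sheaf L').IsEquivalence :=
    isEquivalence_tR_of_inverse X.sheaf L' L (brdApp X.sheaf L' L ≪≫ e)
  have hmono : Mono ((tR X.sheaf L').map i ≫ (tensorInvIso Q L L' e).hom) := by
    haveI : Mono ((tR X.sheaf L').map i) :=
      @Functor.map_mono _ _ _ _ (tR X.sheaf L') inferInstance _ _ i hi
    exact mono_comp _ _
  have hG' : FlatMod.IsFinLocFreeOfRank r' (CohB1.tensorMod G L') :=
    isFinLocFreeOfRank_tensor_invertible r' G L' hG hL'
  have hdeg := Groth.Agent.Lib.R2H1.DegTensor.s7637 k X hdim.le r' 1 G L' hG hL'1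
  simp only [Nat.cast_one, mul_one, one_mul] at hdeg
  rw [deg_inverse k X hdim hL1 hL'1 e] at hdeg
  refine ⟨CohB1.tensorMod G L', (tR X.sheaf L').map i ≫ (tensorInvIso Q L L' e).hom, hmono, hG', ?_⟩
  rw [hdeg]
  ring

/-- S16008 core -/
theorem h1_twist_vanish [IsAlgClosed k] (hdim : topologicalKrullDim X = 1)
    (hreg : ∀ x : X, IsRegularLocalRing (X.presheaf.stalk x))
    (r : ℕ) (hr : 0 < r) (E : X.Modules) (hE : FlatMod.IsFinLocFreeOfRank r E) (C : ℤ)
    (hC : ∀ (G : X.Modules) (n : ℕ) (j : G ⟶ E), Mono j → 0 < n → FlatMod.IsFinLocFreeOfRank n G →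
      Curv2.deg k X G n * (r : ℤ) ≤ (Curv2.deg k X E r + (r : ℤ) * C) * (n : ℤ))
    (N : X.Modules) (hN : PicF.IsInvertible N)
    (hbig : (r : ℤ) * ((r : ℤ) - 1) * C + (r : ℤ) * (2 * (Curv2.genus k X : ℤ) - 2) <
      Curv2.deg k X E r + (r : ℤ) * Curv2.deg k X N 1) :
    Subsingleton (Coh.HH X (CohB1.tensorMod E N) 1) := by
  by_contra h1
  have hN1 := Groth.Agent.Lib.Helper23.SecTw.isFinLocFreeOfRank_one_of_isInvertible _ hN
  have hF : FlatMod.IsFinLocFreeOfRank r (CohB1.tensorMod E N) :=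
    isFinLocFreeOfRank_tensor_invertible r E N hE hN
  obtain ⟨K, r₀, a, d, ha, hK, hr0, hd, hdle⟩ :=
    Groth.Agent.Lib.R2H1.SerreDual.exists_sub_of_h1_ne_zero k X hdim hreg hF h1
  have hdegF := Groth.Agent.Lib.R2H1.DegTensor.s7637 k X hdim.le r 1 E N hE hN1
  simp only [Nat.cast_one, mul_one, one_mul] at hdegF
  obtain ⟨N', hN', ⟨e⟩⟩ := Groth.Agent.Lib.R2H1.InvExists.exists_inverse N hN
  obtain ⟨G', j, hj, hG', hdG'⟩ := exists_untwist_sub k X hdim hN hN' e K r₀ a ha hK
  subst hr0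
  rcases Nat.eq_zero_or_pos r₀ with h0 | h0
  · subst h0
    have hK0 := deg_rank_zero k X hK
    rw [hK0, hdegF] at hd
    simp only [zero_add, Nat.cast_one, one_mul, sub_self, zero_mul] at hbig hd
    linarith
  · have h := hC G' r₀ j hj h0 hG'
    rw [hdG'] at h
    rw [hdegF] at hd
    push_cast at h hbig hd
    have hr0' : (0 : ℤ) < r₀ := by exact_mod_cast h0
    nlinarith [mul_le_mul_of_nonneg_left hdle (le_of_lt (by linarith : (0 : ℤ) < (r₀ : ℤ) + 1))]

end Part1

end Groth.Agent.Lib.R2H1.TwistVan
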