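import Mathlib
import Groth.Agent.S2082
import Groth.Agent.Lib.Helper5RLR3
import Groth.Agent.Lib.Helper5RLR
import Groth.Agent.Lib.Helper28Catenary

/-!
# A finite, componentwise dominant morphism between regular schemes is flat (helper4, round 2; = S10881)

* `hasGoingDown_of_isLocalization`: going-down for `A → B` with `A` a normal domain, `B` a domain which is a
  localization of an integral `R`-algebra `S`, `A → B` injective (through `D = A[S] ⊆ B`, of which `B` is a localization).
* `flat_of_hasGoingDown`: miracle flatness (S2082) for regular local rings with going-down.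
* `closure_mem_irreducibleComponents`, `eq_of_specializes_of_closure_mem`, `stalkMap_injective_of_dominant`.
* `main`.
-/

set_option autoImplicit false
set_option linter.style.haveILetI false
universe u
open CategoryTheory CategoryTheory.Limits AlgebraicGeometry TopologicalSpace Opposite IsLocalRing

namespace Groth.Agent.Lib.R2H4FinReg

section ring

variable {R S A B : Type u} [CommRing R] [CommRing S] [CommRing A] [CommRing B]
  [Algebra R S] [Algebra R A] [Algebra S B] [Algebra A B] [Algebra R B]
  [IsScalarTower R A B] [IsScalarTower R S B]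

/-- going-down for `A → B` when `B` is a localization of an integral `R`-algebra, `A` is a normal domain and
`A → B` is an injective map to a domain -/
theorem hasGoingDown_of_isLocalization [Algebra.IsIntegral R S] (M : Submonoid S)
    [IsLocalization M B] [IsDomain A] [IsIntegrallyClosed A] [IsDomain B]
    (hinj : Function.Injective (algebraMap A B)) : Algebra.HasGoingDown A B := by
  let D : Subalgebra A B := Algebra.adjoin A (Set.range (algebraMap S B))
  haveI : Algebra.IsIntegral A D := by
    apply Algebra.IsIntegral.adjoin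
    rintro _ ⟨s, rfl⟩
    have hs : IsIntegral R s := Algebra.IsIntegral.isIntegral s
    have : IsIntegral R (algebraMap S B s) := hs.map (IsScalarTower.toAlgHom R S B)
    exact this.tower_top
  haveI : FaithfulSMul A D := by
    rw [faithfulSMul_iff_algebraMap_injective]
    intro a b hab
    apply hinj
    exact congrArg Subtype.val hab
  haveI : Algebra.HasGoingDown A D := inferInstance
  -- `B` is a localization of `D`
  let ι : S →+* D := (algebraMap S B).codRestrict D (fun s => Algebra.subset_adjoin ⟨s, rfl⟩)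
  haveI : IsLocalization (M.map ι) B := by
    refine ⟨?_, ?_, ?_⟩
    · rintro ⟨_, ⟨t, ht, rfl⟩⟩
      exact IsLocalization.map_units B ⟨t, ht⟩
    · intro b
      obtain ⟨⟨s, t⟩, hst⟩ := IsLocalization.surj M b
      exact ⟨⟨ι s, ⟨ι t, ⟨t, t.2, rfl⟩⟩⟩, hst⟩
    · intro d₁ d₂ h
      exact ⟨1, by rw [Subtype.ext h]⟩
  haveI : Module.Flat D B := IsLocalization.flat B (M.map ι)
  haveI : Algebra.HasGoingDown D B := inferInstance
  exact Algebra.HasGoingDown.trans (R := A) (S := D) B

end ring

/-- miracle flatness for a local homomorphism of regular local rings with going-down -/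
theorem flat_of_hasGoingDown {A B : Type u} [CommRing A] [CommRing B] [IsRegularLocalRing A]
    [IsRegularLocalRing B] [Algebra A B] [IsLocalHom (algebraMap A B)] [Algebra.HasGoingDown A B] :
    Module.Flat A B := by
  haveI : LocCoh.IsCohenMacaulayLocalRing B :=
    Groth.Agent.Lib.Helper5.isCohenMacaulayLocalRing_of_isRegularLocalRing B
  apply Groth.Agent.S2082.result
  set I : Ideal B := (maximalIdeal A).map (algebraMap A B) with hI
  have hIle : I ≤ maximalIdeal B := by
    exact IsLocalRing.map_maximalIdeal_le (algebraMap A B)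
  haveI : (maximalIdeal B).LiesOver (maximalIdeal A) :=
    ⟨(IsLocalRing.maximalIdeal_comap (algebraMap A B)).symm⟩
  have h := Ideal.height_eq_height_add_of_liesOver_of_hasGoingDown (maximalIdeal A) (maximalIdeal B)
  haveI : Nontrivial (B ⧸ I) := Ideal.Quotient.nontrivial_iff.mpr
    (fun h => (Ideal.IsPrime.ne_top (inferInstance : (maximalIdeal B).IsPrime))
      (top_le_iff.mp (h ▸ hIle)))
  haveI : IsLocalRing (B ⧸ I) := IsLocalRing.of_surjective' (Ideal.Quotient.mk I)
    Ideal.Quotient.mk_surjective
  have hmax : (maximalIdeal B).map (Ideal.Quotient.mk I) = maximalIdeal (B ⧸ I) := by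
    apply IsLocalRing.eq_maximalIdeal
    apply Ideal.IsMaximal.map_of_surjective_of_ker_le Ideal.Quotient.mk_surjective
    rw [Ideal.mk_ker]
    exact hIle
  rw [hmax] at h
  rw [← IsLocalRing.maximalIdeal_height_eq_ringKrullDim, ← IsLocalRing.maximalIdeal_height_eq_ringKrullDim,
    ← IsLocalRing.maximalIdeal_height_eq_ringKrullDim, h, WithBot.coe_add]

section scheme

variable {X Y : Scheme.{u}}

/-- a point without proper generizations is the generic point of an irreducible component -/
theorem closure_mem_irreducibleComponents {X : Scheme.{u}} (ξ : X) (h : ∀ ξ' : X, ξ' ⤳ ξ → ξ' = ξ) :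
    closure {ξ} ∈ irreducibleComponents (X : Type u) := by
  refine ⟨isIrreducible_singleton.closure, fun T hT hle => ?_⟩
  obtain ⟨τ, hτ⟩ := QuasiSober.sober hT.closure isClosed_closure
  have hξT : ξ ∈ closure T := subset_closure (hle (subset_closure rfl))
  have h1 : τ ⤳ ξ := by
    rw [specializes_iff_mem_closure, hτ.def]
    exact hξT
  have := h τ h1
  subst this
  calc T ⊆ closure T := subset_closure
    _ = closure {τ} := hτ.def.symm

/-- the generic point of an irreducible component has no proper generizations -/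
theorem eq_of_specializes_of_closure_mem {Y : Scheme.{u}} (η : Y)
    (h : closure {η} ∈ irreducibleComponents (Y : Type u)) (η' : Y) (h' : η' ⤳ η) : η' = η := by
  have h1 : closure {η} ⊆ closure {η'} := specializes_iff_closure_subset.mp h'
  have h2 : closure {η'} ⊆ closure {η} := h.2 isIrreducible_singleton.closure h1
  have h3 : η ⤳ η' := specializes_iff_closure_subset.mpr h2
  exact (h'.antisymm h3).eq

theorem stalkMap_injective_of_dominant (f : X ⟶ Y) (x : X) [IsDomain (X.presheaf.stalk x)]
    [IsDomain (Y.presheaf.stalk (f x))]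
    (hdom : ∀ Z ∈ irreducibleComponents (X : Type u),
      closure (f.base '' Z) ∈ irreducibleComponents (Y : Type u)) :
    Function.Injective (f.stalkMap x).hom := by
  let b₀ : Spec (X.presheaf.stalk x) := (⟨⊥, Ideal.isPrime_bot⟩ : PrimeSpectrum (X.presheaf.stalk x))
  let ξ : X := X.fromSpecStalk x b₀
  have hξx : ξ ⤳ x := by
    have : ξ ∈ Set.range (X.fromSpecStalk x) := ⟨b₀, rfl⟩
    rwa [Scheme.range_fromSpecStalk] at this
  have hξ : ∀ ξ' : X, ξ' ⤳ ξ → ξ' = ξ := by
    intro ξ' h'
    have : ξ' ∈ Set.range (X.fromSpecStalk x) := by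
      rw [Scheme.range_fromSpecStalk]; exact h'.trans hξx
    obtain ⟨b', rfl⟩ := this
    have hb : b' ⤳ b₀ := (X.fromSpecStalk x).isEmbedding.isInducing.specializes_iff.mp h'
    have hle : b'.asIdeal ≤ b₀.asIdeal := (PrimeSpectrum.le_iff_specializes b' b₀).mpr hb
    have : b' = b₀ := PrimeSpectrum.ext (le_bot_iff.mp hle)
    rw [this]
  have hZ := closure_mem_irreducibleComponents ξ hξ
  have hη : closure {f ξ} ∈ irreducibleComponents (Y : Type u) := by
    have h1 := hdom _ hZ
    have h2 : closure (f.base '' closure {ξ}) = closure {f ξ} := by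
      apply Set.Subset.antisymm
      · apply closure_minimal _ isClosed_closure
        have := image_closure_subset_closure_image (s := {ξ}) f.continuous
        rwa [Set.image_singleton] at this
      · apply closure_mono
        rw [Set.singleton_subset_iff]
        exact ⟨ξ, subset_closure rfl, rfl⟩
    rwa [h2] at h1
  let a₀ : Spec (Y.presheaf.stalk (f x)) := Spec.map (f.stalkMap x) b₀
  have ha₀ : Y.fromSpecStalk (f x) a₀ = f ξ := by
    change (Spec.map (f.stalkMap x) ≫ Y.fromSpecStalk (f x)) b₀ = _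
    rw [Scheme.SpecMap_stalkMap_fromSpecStalk]
    rfl
  let a₁ : Spec (Y.presheaf.stalk (f x)) :=
    (⟨⊥, Ideal.isPrime_bot⟩ : PrimeSpectrum (Y.presheaf.stalk (f x)))
  have ha₁ : a₁ ⤳ a₀ := (PrimeSpectrum.le_iff_specializes a₁ a₀).mp bot_le
  have h2 : Y.fromSpecStalk (f x) a₁ ⤳ f ξ := by
    rw [← ha₀]
    exact ha₁.map (Y.fromSpecStalk (f x)).continuous
  have h3 := eq_of_specializes_of_closure_mem (f ξ) hη _ h2
  rw [← ha₀] at h3
  have h4 : a₁ = a₀ := (Y.fromSpecStalk (f x)).isEmbedding.injective h3
  rw [RingHom.injective_iff_ker_eq_bot]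
  have h5 : a₀.asIdeal = Ideal.comap (f.stalkMap x).hom ⊥ := rfl
  have h6 : a₀.asIdeal = ⊥ := by rw [← h4]
  rw [RingHom.ker_eq_comap_bot, ← h5, h6]

theorem main (f : X ⟶ Y) [IsFinite f]
    [IsLocallyNoetherian X] [IsLocallyNoetherian Y]
    (hX : ∀ x : X, IsRegularLocalRing (X.presheaf.stalk x))
    (hY : ∀ y : Y, IsRegularLocalRing (Y.presheaf.stalk y))
    (hdom : ∀ Z ∈ irreducibleComponents (X : Type u),
      closure (f.base '' Z) ∈ irreducibleComponents (Y : Type u)) :
    Flat f := by
  rw [Flat.iff_flat_stalkMap]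
  intro x
  haveI := hX x
  haveI := hY (f x)
  haveI : IsDomain (X.presheaf.stalk x) :=
    Groth.Agent.Lib.Helper5.isDomain_of_isRegularLocalRing _
  haveI : IsDomain (Y.presheaf.stalk (f x)) :=
    Groth.Agent.Lib.Helper5.isDomain_of_isRegularLocalRing _
  haveI : IsIntegrallyClosed (Y.presheaf.stalk (f x)) :=
    Groth.Agent.Lib.Helper28.isIntegrallyClosed_of_isRegularLocalRing _
  have hinj := stalkMap_injective_of_dominant f x hdom
  obtain ⟨_, ⟨V, hV : IsAffineOpen V, rfl⟩, hyV, -⟩ :=
    Y.isBasis_affineOpens.exists_subset_of_mem_open (Set.mem_univ (f x)) isOpen_univ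
  have hU : IsAffineOpen (f ⁻¹ᵁ V) := hV.preimage f
  have hxU : x ∈ f ⁻¹ᵁ V := hyV
  letI : Algebra Γ(Y, V) Γ(X, f ⁻¹ᵁ V) := (f.app V).hom.toAlgebra
  letI : Algebra Γ(Y, V) (Y.presheaf.stalk (f x)) := Y.presheaf.algebra_section_stalk ⟨f x, hyV⟩
  letI : Algebra Γ(X, f ⁻¹ᵁ V) (X.presheaf.stalk x) := X.presheaf.algebra_section_stalk ⟨x, hxU⟩
  letI : Algebra (Y.presheaf.stalk (f x)) (X.presheaf.stalk x) := (f.stalkMap x).hom.toAlgebra
  letI : Algebra Γ(Y, V) (X.presheaf.stalk x) :=
    ((f.stalkMap x).hom.comp (algebraMap Γ(Y, V) (Y.presheaf.stalk (f x)))).toAlgebra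
  haveI : IsScalarTower Γ(Y, V) (Y.presheaf.stalk (f x)) (X.presheaf.stalk x) :=
    IsScalarTower.of_algebraMap_eq (fun _ => rfl)
  haveI : IsScalarTower Γ(Y, V) Γ(X, f ⁻¹ᵁ V) (X.presheaf.stalk x) :=
    IsScalarTower.of_algebraMap_eq (fun r => by
      exact Scheme.Hom.germ_stalkMap_apply f V x hyV r)
  haveI : Module.Finite Γ(Y, V) Γ(X, f ⁻¹ᵁ V) := f.finite_app V hV
  haveI : IsLocalization.AtPrime (X.presheaf.stalk x) (hU.primeIdealOf ⟨x, hxU⟩).asIdeal :=
    hU.isLocalization_stalk ⟨x, hxU⟩
  haveI : IsLocalHom (algebraMap (Y.presheaf.stalk (f x)) (X.presheaf.stalk x)) :=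
    inferInstanceAs (IsLocalHom (f.stalkMap x).hom)
  haveI : Algebra.HasGoingDown (Y.presheaf.stalk (f x)) (X.presheaf.stalk x) :=
    hasGoingDown_of_isLocalization (R := Γ(Y, V)) (S := Γ(X, f ⁻¹ᵁ V))
      (hU.primeIdealOf ⟨x, hxU⟩).asIdeal.primeCompl hinj
  exact (flat_of_hasGoingDown : Module.Flat (Y.presheaf.stalk (f x)) (X.presheaf.stalk x))

end scheme

end Groth.Agent.Lib.R2H4FinReg
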