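import Mathlib

/-!
# Elements transcendental modulo finitely many non-maximal primes (helper3, round 2)
-/

set_option autoImplicit false
set_option linter.style.haveILetI false
universe u v

namespace Groth.Agent.Lib.R2H3.NegTwistTr

open Polynomial

variable {k : Type u} {A : Type v} [Field k] [CommRing A] [Algebra k A]

/-- modulo a non-maximal prime of a `k`-algebra some element is transcendental over `k` -/
theorem exists_transcendental_of_not_isMaximal (p : Ideal A) [p.IsPrime] (hp : ¬ p.IsMaximal) :
    ∃ a : A, Transcendental k (Ideal.Quotient.mk p a) := by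
  by_contra h
  push Not at h
  apply hp
  have halg : Algebra.IsIntegral k (A ⧸ p) := by
    refine ⟨fun x => ?_⟩
    obtain ⟨a, rfl⟩ := Ideal.Quotient.mk_surjective x
    have := h a
    rw [Transcendental, not_not] at this
    exact this.isIntegral
  exact Ideal.Quotient.maximal_of_isField p
    (isField_of_isIntegral_of_isField' (R := k) (S := A ⧸ p) (Field.toIsField k))

/-- algebraic plus a power of a transcendental is transcendental -/
theorem transcendental_add_pow (p : Ideal A) [p.IsPrime] (a c : A)
    (ha : IsAlgebraic k (Ideal.Quotient.mk p a)) (hc : Transcendental k (Ideal.Quotient.mk p c))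
    (n : ℕ) (hn : 0 < n) : Transcendental k (Ideal.Quotient.mk p (a + c ^ n)) := by
  intro h
  apply hc
  rw [map_add, map_pow] at h
  have h2 : IsAlgebraic k ((Ideal.Quotient.mk p c) ^ n) := by
    have := h.sub ha
    rwa [add_sub_cancel_left] at this
  exact h2.of_pow hn

/-- for `a` transcendental, `a + c ^ n` is algebraic for at most one `n ≥ 1` -/
theorem not_both_algebraic (p : Ideal A) [p.IsPrime] (a c : A)
    (ha : Transcendental k (Ideal.Quotient.mk p a)) (n n' : ℕ) (hn : 0 < n) (hnn' : n < n')
    (h1 : IsAlgebraic k (Ideal.Quotient.mk p (a + c ^ n)))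
    (h2 : IsAlgebraic k (Ideal.Quotient.mk p (a + c ^ n'))) : False := by
  rw [map_add, map_pow] at h1 h2
  set a' := Ideal.Quotient.mk p a
  set c' := Ideal.Quotient.mk p c
  have hd : IsAlgebraic k (c' ^ n' - c' ^ n) := by
    have := h2.sub h1
    rwa [add_sub_add_left_eq_sub] at this
  have hc : IsAlgebraic k c' := by
    have hf : (X ^ n' - X ^ n : k[X]).natDegree = n' := by
      rw [natDegree_sub_eq_left_of_natDegree_lt] <;> simp [hnn']
    have hlc : (X ^ n' - X ^ n : k[X]).leadingCoeff = 1 := by
      have hm : (X ^ n' - X ^ n : k[X]).Monic := by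
        apply monic_X_pow_sub
        rw [degree_X_pow]
        exact_mod_cast hnn'
      exact hm.leadingCoeff
    refine IsAlgebraic.of_aeval (X ^ n' - X ^ n : k[X]) (by rw [hf]; omega) ?_ ?_
    · rw [hlc]
      exact one_mem _
    · simpa using hd
  apply ha
  have := h1.sub (hc.pow n)
  rwa [add_sub_cancel_right] at this

/-- **simultaneous transcendence** -/
theorem exists_forall_transcendental (s : Finset (Ideal A))
    (hs : ∀ p ∈ s, p.IsPrime ∧ ∃ a, Transcendental k (Ideal.Quotient.mk p a)) :
    ∃ a : A, ∀ p ∈ s, Transcendental k (Ideal.Quotient.mk p a) := by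
  classical
  induction s using Finset.induction_on with
  | empty => exact ⟨0, fun p hp => absurd hp (Finset.notMem_empty p)⟩
  | insert p s hps ih =>
    obtain ⟨a, ha⟩ := ih (fun q hq => hs q (Finset.mem_insert_of_mem hq))
    obtain ⟨hpp, c, hc⟩ := hs p (Finset.mem_insert_self p s)
    haveI := hpp
    by_cases hap : Transcendental k (Ideal.Quotient.mk p a)
    · refine ⟨a, fun q hq => ?_⟩
      rcases Finset.mem_insert.1 hq with rfl | hq
      · exact hap
      · exact ha q hq
    · rw [Transcendental, not_not] at hap
      -- find `n ∈ [1, |s| + 1]` good for all `q ∈ s`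
      by_contra hcon
      push Not at hcon
      have hbad : ∀ n ∈ Finset.Icc 1 (s.card + 1), ∃ q ∈ s,
          IsAlgebraic k (Ideal.Quotient.mk q (a + c ^ n)) := by
        intro n hn
        obtain ⟨q, hq, hqn⟩ := hcon (a + c ^ n)
        rcases Finset.mem_insert.1 hq with rfl | hq
        · exact absurd (transcendental_add_pow q a c hap hc n (Finset.mem_Icc.1 hn).1) hqn
        · rw [Transcendental, not_not] at hqn
          exact ⟨q, hq, hqn⟩
      choose! f hf hfalg using hbad
      have hcard : s.card < (Finset.Icc 1 (s.card + 1)).card := by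
        rw [Nat.card_Icc]
        omega
      obtain ⟨n, hn, n', hn', hne, hff⟩ :=
        Finset.exists_ne_map_eq_of_card_lt_of_maps_to hcard (fun n hn => hf n hn)
      haveI := (hs (f n) (Finset.mem_insert_of_mem (hf n hn))).1
      have hfa := ha (f n) (hf n hn)
      rcases Nat.lt_or_gt_of_ne hne with hlt | hlt
      · exact not_both_algebraic (f n) a c hfa n n' (Finset.mem_Icc.1 hn).1 hlt (hfalg n hn)
          (hff ▸ hfalg n' hn')
      · exact not_both_algebraic (f n) a c hfa n' n (Finset.mem_Icc.1 hn').1 hlt
          (hff ▸ hfalg n' hn') (hfalg n hn)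

/-- a nonzero polynomial does not vanish at an element transcendental modulo `p` -/
theorem sum_notMem_of_transcendental (p : Ideal A) (a : A)
    (ha : Transcendental k (Ideal.Quotient.mk p a)) (c : ℕ → k) (d : ℕ)
    (hc : ∃ i, i ≤ d ∧ c i ≠ 0) :
    (∑ i ∈ Finset.range (d + 1), algebraMap k A (c i) * a ^ i) ∉ p := by
  intro hmem
  obtain ⟨i₀, hi₀, hci₀⟩ := hc
  let q : k[X] := ∑ i ∈ Finset.range (d + 1), C (c i) * X ^ i
  have hq : q ≠ 0 := by
    intro h0
    apply hci₀
    have := congrArg (fun r => r.coeff i₀) h0
    simp only [q, finsetSum_coeff, coeff_C_mul, coeff_X_pow, coeff_zero] at this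
    rw [Finset.sum_eq_single i₀] at this
    · simpa using this
    · intro j _ hj
      simp [Ne.symm hj]
    · intro h
      exact absurd (Finset.mem_range.2 (by omega)) h
  apply ha
  refine ⟨q, hq, ?_⟩
  have h1 : aeval (Ideal.Quotient.mk p a) q =
      Ideal.Quotient.mk p (∑ i ∈ Finset.range (d + 1), algebraMap k A (c i) * a ^ i) := by
    simp only [q, map_sum, map_mul, aeval_C, aeval_X, map_pow]
    refine Finset.sum_congr rfl (fun i _ => ?_)
    congr 1
  rw [h1]
  exact Ideal.Quotient.eq_zero_iff_mem.2 hmem

end Groth.Agent.Lib.R2H3.NegTwistTr
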