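import Groth.Agent.Lib.R2H3NegTwistCalc
import Groth.Agent.Lib.R2H3NegTwistTr
import Groth.Agent.Lib.Helper23StalkLin
import Groth.Agent.Lib.Helper28DepthLoc
import Groth.Agent.Lib.Helper4DimFormulaAW
import Groth.Agent.Lib.R2H2NilFilt
import Groth.Agent.Lib.R2H2PnMumford

/-!
# Vanishing of `H¹(X, F ⊗ L^{-n})` for `n ≫ 0` when `depth F_x ≥ 2` at closed points (helper3, round 2)

Namespace `Groth.Agent.Lib.R2H3.NegTwistH1`.

* frame calculus: `gam` (iterated pure tensors with a local generator), `epow_gam`, `Pm_gam`;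
* `Pm_app_injective`: the polynomial maps `Pm` are injective on sections;
* `depth_tensor`: depth of stalks is unchanged by tensoring with an invertible module;
* `core`: the abstract vanishing statement.
-/

set_option autoImplicit false
set_option linter.style.haveILetI false
set_option linter.unusedSectionVars false
universe u

open CategoryTheory CategoryTheory.Limits AlgebraicGeometry TopologicalSpace Opposite MonoidalCategory TensorProduct

namespace Groth.Agent.Lib.R2H3.NegTwistH1

open Groth.Agent.Lib.Helper23.SecTw Groth.Agent.Lib.Helper23.GenLocus Groth.Agent.Lib.Helper6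
  Groth.Agent.Lib.Helper23.AmpleIso Groth.Agent.Lib.Helper23.Extend
  Groth.Agent.Lib.R2H3.NegTwist Groth.Agent.Lib.R2H2.PnSerre Groth.Agent.Lib.R2H2.PnBeilinson
  Groth.Agent.Lib.R2H3.NegTwistLin Groth.Agent.Lib.R2H3.NegTwistCalc

variable {X : Scheme.{u}}

section Gam

/-- the iterated pure tensor `g ⊗ e ⊗ ⋯ ⊗ e` -/
noncomputable def gam (N G : X.Modules) (W : X.Opens) (e : Γ(N, W)) (d : ℕ) (g : Γ(G, W)) :
    Γ(itw N d G, W) :=
  Nat.rec (motive := fun d => Γ(itw N d G, W)) g (fun d x => tm (itw N d G) N W x e) d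

lemma gam_zero (N G : X.Modules) (W : X.Opens) (e : Γ(N, W)) (g : Γ(G, W)) :
    gam N G W e 0 g = g := rfl

lemma gam_succ (N G : X.Modules) (W : X.Opens) (e : Γ(N, W)) (d : ℕ) (g : Γ(G, W)) :
    gam N G W e (d + 1) g = tm (itw N d G) N W (gam N G W e d g) e := rfl

lemma gam_add (N G : X.Modules) (W : X.Opens) (e : Γ(N, W)) (d : ℕ) (g g' : Γ(G, W)) :
    gam N G W e d (g + g') = gam N G W e d g + gam N G W e d g' := by
  induction d with
  | zero => rfl
  | succ d ih => rw [gam_succ, ih, tm_add_left]; rfl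

lemma gam_smul (N G : X.Modules) (W : X.Opens) (e : Γ(N, W)) (d : ℕ) (r : Γ(X, W)) (g : Γ(G, W)) :
    gam N G W e d (r • g) = r • gam N G W e d g := by
  induction d with
  | zero => rfl
  | succ d ih => rw [gam_succ, ih, tm_smul_left]; rfl

lemma gam_res (N G : X.Modules) {W W' : X.Opens} (h : W' ≤ W) (e : Γ(N, W)) (d : ℕ) (g : Γ(G, W)) :
    res (itw N d G) h (gam N G W e d g) = gam N G W' (res N h e) d (res G h g) := by
  induction d with
  | zero => rfl
  | succ d ih =>
    rw [gam_succ, gam_succ, ← ih]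
    exact res_tm (itw N d G) N h _ _

lemma gam_bijective (N G : X.Modules) (W : X.Opens) (e : Γ(N, W)) (he : IsGen N W e) (d : ℕ) :
    Function.Bijective (gam N G W e d) := by
  induction d with
  | zero => exact Function.bijective_id
  | succ d ih =>
    have h1 := bijective_tm_of_isGen (itw N d G) N W e he W le_rfl
    have h2 : gam N G W e (d + 1) =
        (fun t : Γ(itw N d G, W) => tm (itw N d G) N W t (res N (le_refl W) e)) ∘ gam N G W e d := by
      funext g
      change _ = tm (itw N d G) N W (gam N G W e d g) (res N (le_refl W) e)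
      rw [res_self]
      rfl
    rw [h2]
    exact h1.comp ih

end Gam

section Pval

variable {k R : Type*} [CommRing k] [CommRing R]

/-- the value of the polynomial map on a frame -/
def Pval (κ : k →+* R) (c : ℕ → k) (x y : R) : ℕ → R
  | 0 => κ (c 0)
  | d + 1 => x * Pval κ c x y d + κ (c (d + 1)) * y ^ (d + 1)

lemma Pval_eq (κ : k →+* R) (c : ℕ → k) (a x : R) (d : ℕ) :
    Pval κ c x (a * x) d = x ^ d * ∑ i ∈ Finset.range (d + 1), κ (c i) * a ^ i := by
  induction d with
  | zero => simp [Pval]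
  | succ d ih =>
    rw [Pval, ih, Finset.sum_range_succ _ (d + 1)]
    ring

end Pval

section Calc

variable (k : Type u) [Field k] [X.Over (Spec (CommRingCat.of k))]

lemma epow_gam (N : X.Modules) (χ : N ⟶ Coh.structureModule X) (G : X.Modules) (W : X.Opens)
    (e : Γ(N, W)) (d : ℕ) (g : Γ(G, W)) :
    (epow N χ d G).app W (gam N G W e d g) = (ofS W (χ.app W e)) ^ d • g := by
  induction d with
  | zero =>
    rw [pow_zero, one_smul]
    rfl
  | succ d ih =>
    change (epow N χ d G).app W ((eta N χ (itw N d G)).app W (tm (itw N d G) N W (gam N G W e d g) e)) = _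
    rw [eta_tm, Scheme.Modules.Hom.app_smul, ih, smul_smul, pow_succ']

lemma Pm_gam (N : X.Modules) (χσ χw : N ⟶ Coh.structureModule X) (c : ℕ → k) (G : X.Modules)
    (W : X.Opens) (e : Γ(N, W)) (d : ℕ) (g : Γ(G, W)) :
    (Pm k N χσ χw c d G).app W (gam N G W e d g) =
      Pval (kMap k W) c (ofS W (χσ.app W e)) (ofS W (χw.app W e)) d • g := by
  induction d with
  | zero =>
    change (c 0 • 𝟙 G).app W g = kMap k W (c 0) • g
    rw [KLin.smul_app_apply]
    rfl
  | succ d ih =>
    change (eta N χσ (itw N d G) ≫ Pm k N χσ χw c d G + c (d + 1) • epow N χw (d + 1) G).app W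
      (gam N G W e (d + 1) g) = _
    rw [Scheme.Modules.Hom.add_app]
    change (Pm k N χσ χw c d G).app W ((eta N χσ (itw N d G)).app W
        (tm (itw N d G) N W (gam N G W e d g) e)) +
      (c (d + 1) • epow N χw (d + 1) G).app W (gam N G W e (d + 1) g) = _
    rw [eta_tm, Scheme.Modules.Hom.app_smul, ih, KLin.smul_app_apply, epow_gam, Pval, add_smul,
      smul_smul, smul_smul]
    rfl

end Calc

section Mono

open Groth.Agent.Lib.Helper2.Ass

variable (k : Type u) [Field k] [X.Over (Spec (CommRingCat.of k))]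

theorem isAssPoint_itw_iff [IsLocallyNoetherian X] (N : X.Modules) (hN : PicF.IsInvertible N)
    (G : X.Modules) (hG : Coh.IsCoh G) (d : ℕ) (x : X) :
    Curv2.IsAssPoint (itw N d G) x ↔ Curv2.IsAssPoint G x := by
  induction d with
  | zero => exact Iff.rfl
  | succ d ih =>
    haveI : (itw N d G).IsQuasicoherent := (isCoh_itw N hN d G hG).1
    haveI : (CohB1.tensorMod (itw N d G) N).IsQuasicoherent := (isCoh_itw N hN (d + 1) G hG).1
    exact (isAssPoint_tensor_iff (itw N d G) N hN x).trans ih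

lemma gam_zero_right (N G : X.Modules) (W : X.Opens) (e : Γ(N, W)) (d : ℕ) :
    gam N G W e d (0 : Γ(G, W)) = 0 := by
  have h := gam_smul N G W e d 0 (0 : Γ(G, W))
  rw [zero_smul, zero_smul] at h
  exact h

lemma kMap_res {U W : X.Opens} (h : W ≤ U) (r : k) : resf h (kMap k U r) = kMap k W r := by
  change resf h (resf (le_top : U ≤ ⊤) _) = resf (le_top : W ≤ ⊤) _
  rw [resf_resf]

/-- the polynomial maps are injective on sections when the polynomial in `a` is invertible at all
associated points -/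
theorem Pm_app_injective [IsLocallyNoetherian X] (N : X.Modules) (hN : PicF.IsInvertible N)
    (χσ χw : N ⟶ Coh.structureModule X) (F : X.Modules) (hF : Coh.IsCoh F)
    (U : X.Opens) (a : Γ(X, U))
    (hσ : ∀ (W : X.Opens), W ≤ U → ∀ e : Γ(N, W), IsGen N W e → IsUnit (ofS W (χσ.app W e)))
    (hw : ∀ (W : X.Opens) (h : W ≤ U) (m : Γ(N, W)),
      ofS W (χw.app W m) = resf h a * ofS W (χσ.app W m))
    (c : ℕ → k) (d : ℕ)
    (hp : ∀ x, Curv2.IsAssPoint F x →
      x ∈ X.basicOpen (∑ i ∈ Finset.range (d + 1), kMap k U (c i) * a ^ i))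
    (V : X.Opens) : Function.Injective ((Pm k N χσ χw c d F).app V) := by
  haveI : (itw N d F).IsQuasicoherent := (isCoh_itw N hN d F hF).1
  haveI : F.IsQuasicoherent := hF.1
  have key : ∀ t : Γ(itw N d F, V), (Pm k N χσ χw c d F).app V t = 0 → t = 0 := by
    intro t ht
    by_contra hne
    obtain ⟨y, hyV, hass, hgerm⟩ := exists_isWeakAssPoint_of_ne_zero_open (itw N d F) V t hne
    have hassF : Curv2.IsAssPoint F y :=
      (isAssPoint_itw_iff N hN F hF d y).1 ((isAssPoint_iff_isWeakAssPoint _ y).2 hass)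
    set p := ∑ i ∈ Finset.range (d + 1), kMap k U (c i) * a ^ i with hpdef
    have hyB : y ∈ X.basicOpen p := hp y hassF
    have hBU : X.basicOpen p ≤ U := X.basicOpen_le p
    obtain ⟨W₀, e₀, hyW₀, he₀⟩ := exists_gen N hN y
    let W : X.Opens := W₀ ⊓ (V ⊓ X.basicOpen p)
    have hWW₀ : W ≤ W₀ := inf_le_left
    have hWV : W ≤ V := inf_le_right.trans inf_le_left
    have hWB : W ≤ X.basicOpen p := inf_le_right.trans inf_le_right
    have hWU : W ≤ U := hWB.trans hBU
    have hyW : y ∈ W := ⟨hyW₀, hyV, hyB⟩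
    have he : IsGen N W (res N hWW₀ e₀) := he₀.mono hWW₀
    obtain ⟨g, hg⟩ := (gam_bijective N F W (res N hWW₀ e₀) he d).2 (res (itw N d F) hWV t)
    have h1 : (Pm k N χσ χw c d F).app W (res (itw N d F) hWV t) = 0 := by
      rw [app_res, ht, res_zero]
    rw [← hg, Pm_gam] at h1
    have hunit : IsUnit (Pval (kMap k W) c (ofS W (χσ.app W (res N hWW₀ e₀)))
        (ofS W (χw.app W (res N hWW₀ e₀))) d) := by
      rw [hw W hWU (res N hWW₀ e₀), Pval_eq]
      refine IsUnit.mul ((hσ W hWU _ he).pow d) ?_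
      have hsum : ∑ i ∈ Finset.range (d + 1), kMap k W (c i) * (resf hWU a) ^ i = resf hWU p := by
        let ρ : Γ(X, U) →+* Γ(X, W) := (X.presheaf.map (homOfLE hWU).op).hom
        change _ = ρ (∑ i ∈ Finset.range (d + 1), kMap k U (c i) * a ^ i)
        rw [map_sum]
        refine Finset.sum_congr rfl (fun i _ => ?_)
        rw [map_mul, map_pow]
        change _ = resf hWU (kMap k U (c i)) * (resf hWU a) ^ i
        rw [kMap_res]
      rw [hsum]
      have h2 : resf hWU p = resf hWB (resf hBU p) := (resf_resf hBU hWB p).symm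
      rw [h2]
      exact (X.toRingedSpace.isUnit_res_basicOpen p).map _
    have hg0 : g = 0 := hunit.smul_eq_zero.1 h1
    apply hgerm
    have h2 := TopCat.Presheaf.germ_res_apply (itw N d F).presheaf (homOfLE hWV) y hyW t
    rw [← h2]
    change (itw N d F).presheaf.germ W y hyW (res (itw N d F) hWV t) = 0
    rw [← hg, hg0, gam_zero_right, map_zero]
  intro t t' htt
  have := key (t - t') (by rw [map_sub, htt, sub_self])
  exact sub_eq_zero.1 this

end Mono

section Depth

open Groth.Agent.Lib.Helper2.FlatOver Groth.Agent.Lib.Helper4.NormDelta Groth.Agent.Lib.Helper23.StalkLin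

/-- the stalk of `G ⊗ N` (`N` invertible) is isomorphic to the stalk of `G` -/
theorem nonempty_stalk_tensor_equiv (G N : X.Modules) [G.IsQuasicoherent]
    [(CohB1.tensorMod G N).IsQuasicoherent] (hN : PicF.IsInvertible N) (x : X) :
    Nonempty (G.presheaf.stalk x ≃ₗ[X.presheaf.stalk x] (CohB1.tensorMod G N).presheaf.stalk x) := by
  obtain ⟨W, e, hxW, he⟩ := exists_gen N hN x
  obtain ⟨U, hU, hxU, hUW⟩ : ∃ U : X.Opens, IsAffineOpen U ∧ x ∈ U ∧ U ≤ W := by
    obtain ⟨U, hU, hxU, hle⟩ := Opens.isBasis_iff_nbhd.1 X.isBasis_affineOpens hxW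
    exact ⟨U, hU, hxU, hle⟩
  let φ₀ : Γ(G, U) →ₗ[Γ(X, U)] Γ(CohB1.tensorMod G N, U) :=
    { toFun := fun t => tm G N U t (res N hUW e)
      map_add' := fun a b => tm_add_left G N U a b _
      map_smul' := fun r a => tm_smul_left G N U r a _ }
  let φ : Γ(G, U) ≃ₗ[Γ(X, U)] Γ(CohB1.tensorMod G N, U) :=
    LinearEquiv.ofBijective φ₀ (bijective_tm_of_isGen G N W e he U hUW)
  haveI := hU.isLocalization_stalk ⟨x, hxU⟩
  letI algX := X.presheaf.algebra_section_stalk (U := U) ⟨x, hxU⟩
  letI m1 := moduleStalkSections G U x hxU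
  letI m2 := moduleStalkSections (CohB1.tensorMod G N) U x hxU
  haveI : IsScalarTower Γ(X, U) (X.presheaf.stalk x) (G.presheaf.stalk x) := ⟨fun a b z => by
    change ((X.presheaf.germ U x hxU).hom a * b) • z = (X.presheaf.germ U x hxU).hom a • (b • z)
    exact mul_smul _ _ _⟩
  haveI : IsScalarTower Γ(X, U) (X.presheaf.stalk x) ((CohB1.tensorMod G N).presheaf.stalk x) :=
    ⟨fun a b z => by
      change ((X.presheaf.germ U x hxU).hom a * b) • z = (X.presheaf.germ U x hxU).hom a • (b • z)
      exact mul_smul _ _ _⟩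
  haveI := isLocalizedModule_germ hU G x hxU
  haveI := isLocalizedModule_germ hU (CohB1.tensorMod G N) x hxU
  exact ⟨IsLocalizedModule.mapEquiv (hU.primeIdealOf ⟨x, hxU⟩).asIdeal.primeCompl (germₗ G U x hxU)
    (germₗ (CohB1.tensorMod G N) U x hxU) (X.presheaf.stalk x) φ⟩

theorem depth_itw (N : X.Modules) (hN : PicF.IsInvertible N) (G : X.Modules) (hG : Coh.IsCoh G)
    (d : ℕ) (x : X) :
    LocCoh.depth (X.presheaf.stalk x) ((itw N d G).presheaf.stalk x) =
      LocCoh.depth (X.presheaf.stalk x) (G.presheaf.stalk x) := by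
  induction d with
  | zero => rfl
  | succ d ih =>
    haveI : (itw N d G).IsQuasicoherent := (isCoh_itw N hN d G hG).1
    haveI : (CohB1.tensorMod (itw N d G) N).IsQuasicoherent := (isCoh_itw N hN (d + 1) G hG).1
    obtain ⟨e⟩ := nonempty_stalk_tensor_equiv (itw N d G) N hN x
    rw [← ih]
    exact (Groth.Agent.Lib.Helper28.idealDepth_congr e _).symm

lemma one_le_sub_one {a : ℕ∞} (h : 2 ≤ a) : 1 ≤ a - 1 := by
  induction a using ENat.recTopCoe with
  | top => simp
  | coe m =>
    have h' : 2 ≤ m := by exact_mod_cast h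
    have h2 : 1 ≤ m - 1 := by omega
    exact_mod_cast h2

/-- the cokernel of a monomorphism `A ⟶ B` of coherent modules has no associated point `x` where
`depth A_x ≥ 2` and `depth B_x ≥ 1` -/
theorem not_isAssPoint_cokernel [IsLocallyNoetherian X] {A B : X.Modules} (hA : Coh.IsCoh A)
    (hB : Coh.IsCoh B) (Ψ : A ⟶ B) [Mono Ψ] (x : X)
    (hdA : 2 ≤ LocCoh.depth (X.presheaf.stalk x) (A.presheaf.stalk x))
    (hdB : 1 ≤ LocCoh.depth (X.presheaf.stalk x) (B.presheaf.stalk x)) :
    ¬ Curv2.IsAssPoint (cokernel Ψ) x := by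
  have hC := Groth.Agent.Lib.R2H2.NilFilt.isCoh_cokernel hA hB Ψ
  haveI : A.IsQuasicoherent := hA.1
  haveI : SheafOfModules.IsFiniteType (R := X.ringCatSheaf) A := hA.2
  haveI : B.IsQuasicoherent := hB.1
  haveI : SheafOfModules.IsFiniteType (R := X.ringCatSheaf) B := hB.2
  haveI : (cokernel Ψ).IsQuasicoherent := hC.1
  haveI : SheafOfModules.IsFiniteType (R := X.ringCatSheaf) (cokernel Ψ) := hC.2
  haveI := Groth.Agent.Lib.Helper2.FibreCrit.finite_stalk A x
  haveI := Groth.Agent.Lib.Helper2.FibreCrit.finite_stalk B x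
  haveI := @Groth.Agent.Lib.Helper2.FibreCrit.finite_stalk X (cokernel Ψ) hC.1 hC.2 x
  let S : ShortComplex X.Modules := ShortComplex.mk Ψ (cokernel.π Ψ) (cokernel.condition Ψ)
  have hS : S.ShortExact :=
    { exact := ShortComplex.exact_cokernel Ψ
      mono_f := inferInstanceAs (Mono Ψ)
      epi_g := inferInstanceAs (Epi (cokernel.π Ψ)) }
  have h1 := Groth.Agent.Lib.Helper28.min_idealDepth_le_right
    (IsLocalRing.maximalIdeal (X.presheaf.stalk x)) (stalkLin Ψ x) (stalkLin (cokernel.π Ψ) x)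
    (stalkLin_injective Ψ x) (stalkLin_surjective (cokernel.π Ψ) x) (stalkLin_exact S hS x)
  intro hass
  have h0 : LocCoh.depth (X.presheaf.stalk x) ((cokernel Ψ).presheaf.stalk x) = 0 :=
    Groth.Agent.Lib.Helper28.depth_eq_zero_iff.2 hass
  have h2 : (1 : ℕ∞) ≤ min (LocCoh.depth (X.presheaf.stalk x) (B.presheaf.stalk x))
      (LocCoh.depth (X.presheaf.stalk x) (A.presheaf.stalk x) - 1) :=
    le_min hdB (one_le_sub_one hdA)
  have h3 : (1 : ℕ∞) ≤ 0 := by
    rw [← h0]
    exact h2.trans h1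
  exact absurd h3 (by simp)

end Depth

section Core

open Groth.Agent.Lib.R2H2.HHLin

theorem mono_of_app_injective {A B : X.Modules} (φ : A ⟶ B)
    (h : ∀ V : X.Opens, Function.Injective (φ.app V)) : Mono φ := by
  apply Functor.mono_of_mono_map (Scheme.Modules.toPresheaf X)
  haveI : ∀ V, Mono (((Scheme.Modules.toPresheaf X).map φ).app V) := fun V => by
    rw [AddCommGrpCat.mono_iff_injective]
    exact h V.unop
  exact NatTrans.mono_of_mono_app _

/-- **Core**: `H¹(X, F ⊗ N^{⊗ n}) = 0` for `n ≫ 0`, `N = M^{⊗ E}` a negative power of an ample module,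
given two contractions `χσ, χw : N ⟶ O_X` with `χσ` invertible on an open `U` containing `Ass F`,
`χw = a χσ` on `U`, and all nonzero polynomials in `a` invertible at the associated points of `F`,
when `depth F_x ≥ 2` at all closed points `x`. -/
theorem core (k : Type u) [Field k] (X : Scheme.{u}) [X.Over (Spec (CommRingCat.of k))]
    [IsProper (X ↘ Spec (CommRingCat.of k))]
    (L : X.Modules) (hL : CohB1.IsAmple L) (M : X.Modules) (hM : ClSub.IsInverseOf L M)
    (E : ℕ) (hE : 0 < E)
    (χσ χw : CohB1.tensorPow M E ⟶ Coh.structureModule X)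
    (F : X.Modules) (hF : Coh.IsCoh F)
    (hdepth : ∀ x : X, IsClosed ({x} : Set X) →
      2 ≤ LocCoh.depth (X.presheaf.stalk x) (F.presheaf.stalk x))
    (U : X.Opens) (a : Γ(X, U))
    (hσ : ∀ (W : X.Opens), W ≤ U → ∀ e : Γ(CohB1.tensorPow M E, W),
      IsGen (CohB1.tensorPow M E) W e → IsUnit (ofS W (χσ.app W e)))
    (hw : ∀ (W : X.Opens) (h : W ≤ U) (m : Γ(CohB1.tensorPow M E, W)),
      ofS W (χw.app W m) = resf h a * ofS W (χσ.app W m))
    (hp : ∀ (c : ℕ → k) (d : ℕ), (∃ i ≤ d, c i ≠ 0) → ∀ x, Curv2.IsAssPoint F x →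
      x ∈ X.basicOpen (∑ i ∈ Finset.range (d + 1), kMap k U (c i) * a ^ i)) :
    ∃ n₀ : ℕ, ∀ n, n₀ ≤ n → Subsingleton (Coh.HH X (itw (CohB1.tensorPow M E) n F) 1) := by
  have hLi := hL.1
  haveI : CompactSpace X := hL.2.1
  haveI : IsLocallyNoetherian X :=
    LocallyOfFiniteType.isLocallyNoetherian (X ↘ Spec (CommRingCat.of k))
  have hMi := isInvertible_of_isInverseOf L M hM
  have hN : PicF.IsInvertible (CohB1.tensorPow M E) := isInvertible_tensorPow hMi E
  refine NegTwistLin.main (k := k) (twR (CohB1.tensorPow M E)).obj (fun b => Coh.HH X b 1)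
    (fun b => HmapA k (eta (CohB1.tensorPow M E) χσ b) 1)
    (fun b => HmapA k (eta (CohB1.tensorPow M E) χw b) 1) F ?_ ?_ ?_
  · intro b
    change (HmapA k (eta (CohB1.tensorPow M E) χσ b) 1).comp
        (HmapA k (eta (CohB1.tensorPow M E) χw ((twR (CohB1.tensorPow M E)).obj b)) 1) =
      (HmapA k (eta (CohB1.tensorPow M E) χw b) 1).comp
        (HmapA k (eta (CohB1.tensorPow M E) χσ ((twR (CohB1.tensorPow M E)).obj b)) 1)
    rw [← HmapA_comp, ← HmapA_comp, eta_comm (CohB1.tensorPow M E) hN χw χσ b]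
  · intro n
    exact Groth.Agent.S0002.result k X _ (isCoh_itw (CohB1.tensorPow M E) hN n F hF) 1
  · intro c d hc
    have hinj : ∀ V, Function.Injective ((Pm k (CohB1.tensorPow M E) χσ χw c d F).app V) :=
      Pm_app_injective k (CohB1.tensorPow M E) hN χσ χw F hF U a hσ hw c d (hp c d hc)
    haveI : Mono (Pm k (CohB1.tensorPow M E) χσ χw c d F) := mono_of_app_injective _ hinj
    have hA := isCoh_itw (CohB1.tensorPow M E) hN d F hF
    have hC := Groth.Agent.Lib.R2H2.NilFilt.isCoh_cokernel hA hF (Pm k (CohB1.tensorPow M E) χσ χw c d F)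
    have hnoass : ∀ x : X, IsClosed ({x} : Set X) →
        ¬ Curv2.IsAssPoint (cokernel (Pm k (CohB1.tensorPow M E) χσ χw c d F)) x := fun x hx =>
      not_isAssPoint_cokernel hA hF _ x
        (by rw [depth_itw (CohB1.tensorPow M E) hN F hF d x]; exact hdepth x hx)
        (le_trans (by norm_num) (hdepth x hx))
    obtain ⟨n₁, hn₁⟩ := NegTwist.main k X L hL M hM _ hC hnoass
    refine ⟨n₁, fun n hn => ?_⟩
    have h0 : Subsingleton (Coh.HH X (itw (CohB1.tensorPow M E) n
        (cokernel (Pm k (CohB1.tensorPow M E) χσ χw c d F))) 0) := by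
      obtain ⟨e1⟩ := nonempty_itw_iso (CohB1.tensorPow M E) n
        (cokernel (Pm k (CohB1.tensorPow M E) χσ χw c d F))
      obtain ⟨e2⟩ := nonempty_tensorPow_tensorPow_iso M hMi E n (E * n) rfl
      have h3 := hn₁ (E * n) (le_trans hn (Nat.le_mul_of_pos_left n hE))
      exact subsingleton_HH_of_iso (e1 ≪≫ tensorModIso (Iso.refl _) e2).symm 0 h3
    let S : ShortComplex X.Modules := ShortComplex.mk (Pm k (CohB1.tensorPow M E) χσ χw c d F)
      (cokernel.π _) (cokernel.condition _)
    have hS : S.ShortExact :=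
      { exact := ShortComplex.exact_cokernel _
        mono_f := inferInstanceAs (Mono (Pm k (CohB1.tensorPow M E) χσ χw c d F))
        epi_g := inferInstanceAs (Epi (cokernel.π (Pm k (CohB1.tensorPow M E) χσ χw c d F))) }
    obtain ⟨w, hSn⟩ := shortExact_itMap (CohB1.tensorPow M E) hN S hS n
    have hinj1 := Groth.Agent.Lib.R2H2.PnMumford.injective_f_of_subsingleton _ hSn 0 h0
    have hPm := HmapA_Pm k (CohB1.tensorPow M E) χσ χw c 1 d (itw (CohB1.tensorPow M E) n F)
    change Function.Injective ⇑(pmap (twR (CohB1.tensorPow M E)).obj (fun b => Coh.HH X b 1)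
      (fun b => HmapA k (eta (CohB1.tensorPow M E) χσ b) 1)
      (fun b => HmapA k (eta (CohB1.tensorPow M E) χw b) 1) c d (itw (CohB1.tensorPow M E) n F))
    rw [← hPm, Pm_itw k (CohB1.tensorPow M E) hN χσ χw c d n F, HmapA_comp, LinearMap.coe_comp]
    refine Function.Injective.comp ?_ (HmapA_bijective_of_iso k (kappaIso (CohB1.tensorPow M E) d n F) 1).1
    exact hinj1

end Core

end Groth.Agent.Lib.R2H3.NegTwistH1
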