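import Mathlib

/-!
# Upper limits of normalised sequences (helper4, round 2)

Real-analysis lemmas on `limsup_m f(m) · n!/m^n` for sequences `f : ℕ → ℕ` with `f(m) = O(m^n)`:
sequences whose difference is of order `< n` have the same upper limit (`limsup_nseq_eq`), and the
upper limit can be computed along the multiples of `a ≥ 1` when the values at `a q + r` are bounded
by the value at `a q` up to an error of order `< n` (`limsup_nseq_mul`).
-/

set_option autoImplicit false
open Filter Topology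

noncomputable section

namespace Groth.Agent.Lib.R2H4HhatLim

/-- the normalised sequence `f(m) · n!/m^n` -/
def nseq (n : ℕ) (f : ℕ → ℕ) (m : ℕ) : ℝ := (f m : ℝ) * (n.factorial : ℝ) / (m : ℝ) ^ n

theorem nseq_nonneg (n : ℕ) (f : ℕ → ℕ) (m : ℕ) : 0 ≤ nseq n f m := by
  unfold nseq
  positivity

/-- sequences with difference tending to `0` have the same upper limit -/
theorem limsup_eq_of_tendsto_sub (a b : ℕ → ℝ) (M : ℝ) (hb0 : ∀ᶠ m in atTop, 0 ≤ b m)
    (hbM : ∀ᶠ m in atTop, b m ≤ M) (h : Tendsto (fun m => a m - b m) atTop (𝓝 0)) :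
    limsup a atTop = limsup b atTop := by
  have hab : a = b + fun m => a m - b m := by
    funext m
    simp
  have b1 : IsBoundedUnder (· ≤ ·) atTop b := isBoundedUnder_of_eventually_le hbM
  have b2 : IsBoundedUnder (· ≥ ·) atTop b := isBoundedUnder_of_eventually_ge hb0
  have b3 : IsCoboundedUnder (· ≤ ·) atTop b := b2.isCoboundedUnder_le
  have g1 : IsBoundedUnder (· ≤ ·) atTop (fun m => a m - b m) := h.isBoundedUnder_le
  have g2 : IsBoundedUnder (· ≥ ·) atTop (fun m => a m - b m) := h.isBoundedUnder_ge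
  have g3 : IsCoboundedUnder (· ≤ ·) atTop (fun m => a m - b m) := g2.isCoboundedUnder_le
  have h1 := le_limsup_add b1 b3 g1 g2
  have h2 := limsup_add_le b2 b1 g3 g1
  rw [h.liminf_eq, add_zero] at h1
  rw [h.limsup_eq, add_zero] at h2
  rw [hab]
  exact le_antisymm h2 h1

/-- boundedness of the normalised sequence -/
theorem nseq_le (n : ℕ) (f : ℕ → ℕ) (C : ℕ) (hf : ∀ m, f m ≤ C * (m + 1) ^ n) (m : ℕ)
    (hm : 1 ≤ m) : nseq n f m ≤ (C : ℝ) * (n.factorial : ℝ) * 2 ^ n := by
  unfold nseq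
  have hm0 : (0 : ℝ) < (m : ℝ) ^ n := by positivity
  rw [div_le_iff₀ hm0]
  have h1 : ((f m : ℕ) : ℝ) ≤ (C : ℝ) * ((m : ℝ) + 1) ^ n := by exact_mod_cast hf m
  have h2 : ((m : ℝ) + 1) ^ n ≤ 2 ^ n * (m : ℝ) ^ n := by
    rw [← mul_pow]
    have : (1 : ℝ) ≤ m := by exact_mod_cast hm
    exact pow_le_pow_left₀ (by positivity) (by linarith) n
  have hfac : (0 : ℝ) ≤ (n.factorial : ℝ) := by positivity
  calc ((f m : ℕ) : ℝ) * (n.factorial : ℝ) ≤ ((C : ℝ) * ((m : ℝ) + 1) ^ n) * (n.factorial : ℝ) :=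
        mul_le_mul_of_nonneg_right h1 hfac
    _ ≤ ((C : ℝ) * (2 ^ n * (m : ℝ) ^ n)) * (n.factorial : ℝ) := by
        refine mul_le_mul_of_nonneg_right ?_ hfac
        exact mul_le_mul_of_nonneg_left h2 (by positivity)
    _ = (C : ℝ) * (n.factorial : ℝ) * 2 ^ n * (m : ℝ) ^ n := by ring

/-- a sequence of growth `< n` has normalised sequence tending to `0` -/
theorem tendsto_nseq_zero (n : ℕ) (E : ℕ → ℕ) (C : ℕ)
    (hE : ∀ m, E m * (m + 1) ≤ C * (m + 1) ^ n) : Tendsto (nseq n E) atTop (𝓝 0) := by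
  have hlim : Tendsto (fun m : ℕ => ((C : ℝ) * (n.factorial : ℝ) * 2 ^ n) * (1 / ((m : ℝ) + 1)))
      atTop (𝓝 0) := by
    have := (tendsto_one_div_add_atTop_nhds_zero_nat (𝕜 := ℝ)).const_mul
      ((C : ℝ) * (n.factorial : ℝ) * 2 ^ n)
    simpa using this
  refine squeeze_zero' (Eventually.of_forall fun m => nseq_nonneg n E m) ?_ hlim
  filter_upwards [eventually_ge_atTop 1] with m hm
  have h1 := nseq_le n (fun m => E m * (m + 1)) C hE m hm
  have hm1 : (0 : ℝ) < (m : ℝ) + 1 := by positivity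
  have h2 : nseq n (fun m => E m * (m + 1)) m = nseq n E m * ((m : ℝ) + 1) := by
    unfold nseq
    push_cast
    ring
  rw [h2] at h1
  rw [mul_one_div, le_div_iff₀ hm1]
  exact h1

/-- sequences that differ by a sequence of growth `< n` have the same normalised upper limit -/
theorem limsup_nseq_eq (n : ℕ) (f g E : ℕ → ℕ) (C C' : ℕ) (hg : ∀ m, g m ≤ C' * (m + 1) ^ n)
    (hE : ∀ m, E m * (m + 1) ≤ C * (m + 1) ^ n) (h1 : ∀ m, f m ≤ g m + E m)
    (h2 : ∀ m, g m ≤ f m + E m) : limsup (nseq n f) atTop = limsup (nseq n g) atTop := by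
  refine limsup_eq_of_tendsto_sub _ _ ((C' : ℝ) * (n.factorial : ℝ) * 2 ^ n)
    (Eventually.of_forall fun m => nseq_nonneg n g m) ?_ ?_
  · filter_upwards [eventually_ge_atTop 1] with m hm
    exact nseq_le n g C' hg m hm
  · have hz := tendsto_nseq_zero n E C hE
    rw [tendsto_zero_iff_abs_tendsto_zero]
    refine squeeze_zero (fun m => abs_nonneg _) (fun m => ?_) hz
    have e1 : ((f m : ℕ) : ℝ) ≤ (g m : ℝ) + (E m : ℝ) := by exact_mod_cast h1 m
    have e2 : ((g m : ℕ) : ℝ) ≤ (f m : ℝ) + (E m : ℝ) := by exact_mod_cast h2 m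
    have hpos : (0 : ℝ) ≤ (n.factorial : ℝ) / (m : ℝ) ^ n := by positivity
    have e3 : nseq n f m - nseq n g m = ((f m : ℝ) - (g m : ℝ)) * ((n.factorial : ℝ) / (m : ℝ) ^ n) := by
      unfold nseq
      ring
    have e4 : nseq n E m = (E m : ℝ) * ((n.factorial : ℝ) / (m : ℝ) ^ n) := by
      unfold nseq
      ring
    change |nseq n f m - nseq n g m| ≤ nseq n E m
    rw [e3, e4, abs_mul, abs_of_nonneg hpos]
    refine mul_le_mul_of_nonneg_right ?_ hpos
    rw [abs_le]
    constructor <;> linarith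

end Groth.Agent.Lib.R2H4HhatLim
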