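import Mathlib
import Groth.Agent.Lib.R2H4HhatLim

/-!
# Upper limits of normalised sequences along multiples (helper4, round 2)

`limsup_q f(a q) n!/q^n = a^n · limsup_m f(m) n!/m^n` when `f(a q + r) ≤ f(a q) + E(q)` for
`r < a` with an error `E` of growth `< n` (`limsup_nseq_mul`).
-/

set_option autoImplicit false
open Filter Topology

noncomputable section

namespace Groth.Agent.Lib.R2H4HhatLimB

open Groth.Agent.Lib.R2H4HhatLim

theorem limsup_mul_const (u : ℕ → ℝ) (c : ℝ) (hc : 0 ≤ c) (hu0 : ∀ m, 0 ≤ u m)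
    (huM : IsBoundedUnder (· ≤ ·) atTop u) :
    limsup (fun m => u m * c) atTop = limsup u atTop * c := by
  have h₁ : ∃ᶠ x in atTop, 0 ≤ u x := Frequently.of_forall hu0
  have h₃ : 0 ≤ᶠ[atTop] (fun _ : ℕ => c) := Eventually.of_forall fun _ => hc
  have h₄ : IsBoundedUnder (· ≤ ·) atTop (fun _ : ℕ => c) := isBoundedUnder_const
  have e1 := le_limsup_mul h₁ huM h₃ h₄
  have e2 := limsup_mul_le h₁ huM h₃ h₄
  rw [liminf_const] at e1
  rw [limsup_const] at e2
  exact le_antisymm e2 e1

/-- the normalised sequence along multiples -/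
theorem nseq_mul (n a : ℕ) (ha : 1 ≤ a) (f : ℕ → ℕ) (q : ℕ) :
    nseq n (fun q => f (a * q)) q = nseq n f (a * q) * (a : ℝ) ^ n := by
  unfold nseq
  rcases Nat.eq_zero_or_pos q with hq | hq
  · subst hq
    rcases Nat.eq_zero_or_pos n with hn | hn
    · subst hn
      simp
    · simp only [mul_zero, Nat.cast_zero]
      rw [zero_pow (by omega : n ≠ 0)]
      simp
  · have hq' : (0 : ℝ) < (q : ℝ) ^ n := by positivity
    have ha' : (0 : ℝ) < (a : ℝ) ^ n := by positivity
    push_cast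
    rw [mul_pow]
    field_simp

theorem limsup_nseq_mul (n a : ℕ) (ha : 1 ≤ a) (f : ℕ → ℕ) (C' : ℕ)
    (hf : ∀ m, f m ≤ C' * (m + 1) ^ n) (E : ℕ → ℕ) (C : ℕ)
    (hE : ∀ q, E q * (q + 1) ≤ C * (q + 1) ^ n)
    (h : ∀ q r, r < a → f (a * q + r) ≤ f (a * q) + E q) :
    limsup (nseq n (fun q => f (a * q))) atTop = (a : ℝ) ^ n * limsup (nseq n f) atTop := by
  set M : ℝ := (C' : ℝ) * (n.factorial : ℝ) * 2 ^ n with hM
  have hφM : ∀ m, 1 ≤ m → nseq n f m ≤ M := fun m hm => nseq_le n f C' hf m hm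
  have hφb : IsBoundedUnder (· ≤ ·) atTop (nseq n f) :=
    isBoundedUnder_of_eventually_le ((eventually_ge_atTop 1).mono hφM)
  have hφc : IsCoboundedUnder (· ≤ ·) atTop (nseq n f) :=
    isCoboundedUnder_le_of_eventually_le atTop (Eventually.of_forall (nseq_nonneg n f))
  have hmulM : ∀ q, 1 ≤ q → nseq n f (a * q) ≤ M := fun q hq =>
    hφM _ (hq.trans (Nat.le_mul_of_pos_left q ha))
  have hmb : IsBoundedUnder (· ≤ ·) atTop (fun q => nseq n f (a * q)) :=
    isBoundedUnder_of_eventually_le ((eventually_ge_atTop 1).mono hmulM)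
  have hfun : nseq n (fun q => f (a * q)) = fun q => nseq n f (a * q) * (a : ℝ) ^ n :=
    funext fun q => nseq_mul n a ha f q
  rw [hfun, limsup_mul_const _ _ (by positivity) (fun q => nseq_nonneg n f _) hmb, mul_comm]
  congr 1
  -- the upper limit along the multiples of `a`
  have htend : Tendsto (fun q : ℕ => a * q) atTop atTop :=
    tendsto_atTop_mono (fun q => Nat.le_mul_of_pos_left q ha) tendsto_id
  refine le_antisymm ?_ ?_
  · have hc : (map (fun q : ℕ => a * q) atTop).IsCoboundedUnder (· ≤ ·) (nseq n f) :=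
      isCoboundedUnder_le_of_eventually_le _ (Eventually.of_forall (nseq_nonneg n f))
    exact htend.limsup_comp_le_limsup hc hφb
  · -- comparison of `f(m)` with `f(a (m / a))`
    have hz := tendsto_nseq_zero n E C hE
    have hχ : limsup (fun q => nseq n f (a * q) + nseq n E q) atTop =
        limsup (fun q => nseq n f (a * q)) atTop := by
      refine limsup_eq_of_tendsto_sub _ _ M (Eventually.of_forall fun q => nseq_nonneg n f _)
        ((eventually_ge_atTop 1).mono hmulM) ?_
      simpa using hz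
    have hEb : ∀ᶠ q in atTop, nseq n E q ≤ 1 :=
      hz.eventually (eventually_le_nhds (zero_lt_one))
    have hχb : IsBoundedUnder (· ≤ ·) atTop (fun q => nseq n f (a * q) + nseq n E q) := by
      refine isBoundedUnder_of_eventually_le (a := M + 1) ?_
      filter_upwards [eventually_ge_atTop 1, hEb] with q hq hq'
      exact add_le_add (hmulM q hq) hq'
    have hdiv : map (fun m : ℕ => m / a) atTop = atTop := map_div_atTop_eq_nat a ha
    have hψ : limsup ((fun q => nseq n f (a * q) + nseq n E q) ∘ fun m : ℕ => m / a) atTop =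
        limsup (fun q => nseq n f (a * q) + nseq n E q) atTop := by
      rw [limsup_comp, hdiv]
    rw [← hχ, ← hψ]
    refine limsup_le_limsup ?_ hφc ?_
    · filter_upwards [eventually_ge_atTop a] with m hm
      have hq1 : 1 ≤ m / a := (Nat.one_le_div_iff ha).2 hm
      have hmq : a * (m / a) + m % a = m := Nat.div_add_mod m a
      have hr : m % a < a := Nat.mod_lt m ha
      have h1 := h (m / a) (m % a) hr
      rw [hmq] at h1
      have h1' : ((f m : ℕ) : ℝ) ≤ (f (a * (m / a)) : ℝ) + (E (m / a) : ℝ) := by exact_mod_cast h1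
      have hle : a * (m / a) ≤ m := Nat.mul_div_le m a
      have hpos : 1 ≤ a * (m / a) := hq1.trans (Nat.le_mul_of_pos_left _ ha)
      have hqle : m / a ≤ a * (m / a) := Nat.le_mul_of_pos_left _ ha
      change nseq n f m ≤ nseq n f (a * (m / a)) + nseq n E (m / a)
      unfold nseq
      have hfac : (0 : ℝ) ≤ (n.factorial : ℝ) := by positivity
      have c1 : (0 : ℝ) < ((a * (m / a) : ℕ) : ℝ) := by exact_mod_cast hpos
      have c2 : (0 : ℝ) < ((m / a : ℕ) : ℝ) := by exact_mod_cast hq1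
      have c3 : ((a * (m / a) : ℕ) : ℝ) ≤ (m : ℝ) := by exact_mod_cast hle
      have c4 : ((m / a : ℕ) : ℝ) ≤ ((a * (m / a) : ℕ) : ℝ) := by exact_mod_cast hqle
      have p1 : ((a * (m / a) : ℕ) : ℝ) ^ n ≤ (m : ℝ) ^ n := pow_le_pow_left₀ c1.le c3 n
      have p2 : ((m / a : ℕ) : ℝ) ^ n ≤ ((a * (m / a) : ℕ) : ℝ) ^ n := pow_le_pow_left₀ c2.le c4 n
      have q1 : (0 : ℝ) < ((a * (m / a) : ℕ) : ℝ) ^ n := by positivity
      have q2 : (0 : ℝ) < ((m / a : ℕ) : ℝ) ^ n := by positivity
      calc ((f m : ℕ) : ℝ) * (n.factorial : ℝ) / (m : ℝ) ^ n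
          ≤ ((f m : ℕ) : ℝ) * (n.factorial : ℝ) / ((a * (m / a) : ℕ) : ℝ) ^ n :=
            div_le_div_of_nonneg_left (mul_nonneg (Nat.cast_nonneg _) hfac) q1 p1
        _ ≤ (((f (a * (m / a)) : ℕ) : ℝ) + (E (m / a) : ℝ)) * (n.factorial : ℝ) /
              ((a * (m / a) : ℕ) : ℝ) ^ n :=
            div_le_div_of_nonneg_right (mul_le_mul_of_nonneg_right h1' hfac) q1.le
        _ = ((f (a * (m / a)) : ℕ) : ℝ) * (n.factorial : ℝ) / ((a * (m / a) : ℕ) : ℝ) ^ n +
              (E (m / a) : ℝ) * (n.factorial : ℝ) / ((a * (m / a) : ℕ) : ℝ) ^ n := by ring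
        _ ≤ ((f (a * (m / a)) : ℕ) : ℝ) * (n.factorial : ℝ) / ((a * (m / a) : ℕ) : ℝ) ^ n +
              (E (m / a) : ℝ) * (n.factorial : ℝ) / ((m / a : ℕ) : ℝ) ^ n :=
            add_le_add_right (div_le_div_of_nonneg_left
              (mul_nonneg (Nat.cast_nonneg _) hfac) q2 p2) _
    · have : IsBoundedUnder (· ≤ ·) (map (fun m : ℕ => m / a) atTop)
          (fun q => nseq n f (a * q) + nseq n E q) := by
        rw [hdiv]
        exact hχb
      exact this

end Groth.Agent.Lib.R2H4HhatLimB
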