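import Mathlib
import Groth.Prelude
import Groth.Agent.Lib.R2H3AmpleFinite
import Groth.Agent.Lib.R2H4Snapper
import Groth.Agent.Lib.R2H4AmplePos
import Groth.Agent.Lib.R2H1InvExists
import Groth.Agent.Lib.R2H1InvHom
import Groth.Agent.Lib.R2H2ProperFin
import Groth.Agent.Lib.R2H2AffPushLin
import Groth.Agent.Lib.R2H2ClosedPnLin
import Groth.Agent.Lib.R2H2DualExtGen
import Groth.Agent.Lib.Helper23LocGen
import Groth.Agent.Lib.Helper23SecTw6

/-!
# Growth of `h⁰(F ⊗ L^m)` (helper4, round 2)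

For `X` proper over a field `k` carrying an ample invertible module, of dimension `≤ d`, `L` an
invertible module and `F` coherent: `dim_k H⁰(X, F ⊗ L^m) = O(m^d)` (`main`).

The proof is a dévissage (`DevL.devissage_roots`) to ideal sheaves on integral closed subschemes
`W`; there `L ↪ A^n` for an ample `A` (a nonzero section of the globally generated
`L⁻¹ ⊗ A^n`), so `h⁰(L^m) ≤ h⁰(A^{nm}) = χ(A^{nm})` for large `m` by Serre vanishing, which is a
polynomial of degree `≤ dim W` by Snapper's theorem.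
-/

set_option autoImplicit false
set_option linter.style.haveILetI false
set_option linter.unusedSectionVars false
universe u
open CategoryTheory CategoryTheory.Limits AlgebraicGeometry TopologicalSpace Asymptotics

noncomputable section

namespace Groth.Agent.Lib.R2H4H0Growth

open Groth.Agent.Lib.R2H2.HHLin Groth.Agent.Lib.R2H2.PnSerre Groth.Agent.Lib.R2H2.StalkPow
  Groth.Agent.Lib.R2H4TensorPows

section Basic

variable (k : Type u) [Field k] {X : Scheme.{u}} [X.Over (Spec (CommRingCat.of k))]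
  [IsProper (X ↘ (Spec (CommRingCat.of k)))]

/-- `h⁰` -/
def h0 (F : X.Modules) : ℕ := Module.finrank k (Coh.HH X F 0)

theorem h0_congr {M N : X.Modules} (e : M ≅ N) : h0 k M = h0 k N :=
  Groth.Agent.Lib.R2H2.ClosedPnLin.finrank_HH_of_iso k e 0

theorem h0_le_of_mono {M N : X.Modules} (φ : M ⟶ N) [Mono φ] (hN : Coh.IsCoh N) :
    h0 k M ≤ h0 k N := by
  haveI : Module.Finite k (Coh.HH X N 0) := Groth.Agent.Lib.R2H1.EulerAdd.finite_HH k X N hN 0
  refine LinearMap.finrank_le_finrank_of_injective (f := HmapA k φ 0) ?_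
  intro a b hab
  rw [HmapA_apply, HmapA_apply] at hab
  exact Groth.Agent.Lib.R2H2.DualExtGen.injective_HmapL_zero φ hab

theorem h0_le_add (S : ShortComplex X.Modules) (hS : S.ShortExact)
    (h₁ : Coh.IsCoh S.X₁) (h₂ : Coh.IsCoh S.X₂) (h₃ : Coh.IsCoh S.X₃) :
    h0 k S.X₂ ≤ h0 k S.X₁ + h0 k S.X₃ := by
  haveI : Module.Finite k (Coh.HH X S.X₁ 0) := Groth.Agent.Lib.R2H1.EulerAdd.finite_HH k X _ h₁ 0
  haveI : Module.Finite k (Coh.HH X S.X₂ 0) := Groth.Agent.Lib.R2H1.EulerAdd.finite_HH k X _ h₂ 0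
  haveI : Module.Finite k (Coh.HH X S.X₃ 0) := Groth.Agent.Lib.R2H1.EulerAdd.finite_HH k X _ h₃ 0
  let f := HmapA k S.f 0
  let g := HmapA k S.g 0
  have hker : LinearMap.ker g ≤ LinearMap.range f := by
    intro x hx
    have hx' : HmapL S.g 0 x = 0 := by
      have := LinearMap.mem_ker.1 hx
      rwa [HmapA_apply] at this
    obtain ⟨y, hy⟩ := exact₂ S hS 0 x hx'
    exact ⟨y, by rw [HmapA_apply]; exact hy⟩
  have h1 := LinearMap.finrank_range_add_finrank_ker g
  have h2 : Module.finrank k (LinearMap.ker g) ≤ Module.finrank k (LinearMap.range f) :=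
    Submodule.finrank_mono hker
  have h3 : Module.finrank k (LinearMap.range f) ≤ Module.finrank k (Coh.HH X S.X₁ 0) :=
    LinearMap.finrank_range_le f
  have h4 : Module.finrank k (LinearMap.range g) ≤ Module.finrank k (Coh.HH X S.X₃ 0) :=
    Submodule.finrank_le _
  unfold h0
  omega

end Basic

section PDef

variable (k : Type u) [Field k] {X : Scheme.{u}} [X.Over (Spec (CommRingCat.of k))]
  [IsProper (X ↘ (Spec (CommRingCat.of k)))] (d : ℕ) (L : X.Modules)

/-- `h⁰(F ⊗ L^m) = O(m^d)` -/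
def P (F : X.Modules) : Prop :=
  (fun m : ℕ => (h0 k (CohB1.tensorMod F (CohB1.tensorPow L m)) : ℝ)) =O[Filter.atTop]
    (fun m : ℕ => (m : ℝ) ^ d)

theorem mono_twR_map (M : X.Modules) (hM : PicF.IsInvertible M) {P Q : X.Modules} (m : P ⟶ Q)
    [Mono m] : Mono ((twR M).map m) := by
  let S : ShortComplex X.Modules := ShortComplex.mk m (cokernel.π m) (cokernel.condition m)
  have hS : S.ShortExact :=
    { exact := ShortComplex.exact_cokernel m
      mono_f := by dsimp [S]; infer_instance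
      epi_g := by dsimp [S]; infer_instance }
  exact (shortExact_map_twR M hM S hS).mono_f

theorem mono_tensorBi_map (M : X.Modules) (hM : PicF.IsInvertible M) {P Q : X.Modules} (m : P ⟶ Q)
    [Mono m] : Mono ((DCoh.tensorBi.obj M).map m) := by
  haveI := mono_twR_map M hM m
  have h : (DCoh.tensorBi.obj M).map m =
      (twIso M).hom.app P ≫ (twR M).map m ≫ (twIso M).inv.app Q := by
    rw [← Category.assoc, ← (twIso M).hom.naturality m, Category.assoc,
      Iso.hom_inv_id_app, Category.comp_id]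
  rw [h]
  infer_instance

theorem P_of_le {F G : X.Modules}
    (h : ∀ m, h0 k (CohB1.tensorMod F (CohB1.tensorPow L m)) ≤
      h0 k (CohB1.tensorMod G (CohB1.tensorPow L m))) (hG : P k d L G) : P k d L F := by
  refine IsBigO.trans (isBigO_of_le _ fun m => ?_) hG
  rw [Real.norm_natCast, Real.norm_natCast]
  exact_mod_cast h m

theorem P_zero (M : X.Modules) (hM : IsZero M) : P k d L M := by
  have h : (fun m : ℕ => (h0 k (CohB1.tensorMod M (CohB1.tensorPow L m)) : ℝ)) = fun _ => 0 := by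
    funext m
    haveI : Subsingleton (Coh.HH X (CohB1.tensorMod M (CohB1.tensorPow L m)) 0) :=
      Groth.Agent.Lib.R2H2.KoszulShift.subsingleton_HH_of_isZero
        ((twR (CohB1.tensorPow L m)).map_isZero hM) 0
    unfold h0
    rw [Module.finrank_zero_of_subsingleton]
    simp
  unfold P
  rw [h]
  exact isBigO_zero _ _

theorem P_ext (hL : PicF.IsInvertible L) (S : ShortComplex X.Modules) (hS : S.ShortExact)
    (c₁ : Coh.IsCoh S.X₁) (c₂ : Coh.IsCoh S.X₂) (c₃ : Coh.IsCoh S.X₃)
    (h₁ : P k d L S.X₁) (h₃ : P k d L S.X₃) : P k d L S.X₂ := by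
  refine IsBigO.trans (isBigO_of_le _ fun m => ?_) (h₁.add h₃)
  have hE := Groth.Agent.Lib.Helper23.SecTw.isInvertible_tensorPow hL m
  have hS' := shortExact_map_twR (CohB1.tensorPow L m) hE S hS
  have := h0_le_add k (S.map (twR (CohB1.tensorPow L m))) hS'
    (Groth.Agent.Lib.R2H3.AmpleSV.isCoh_tensorMod_invertible _ _ c₁ hE)
    (Groth.Agent.Lib.R2H3.AmpleSV.isCoh_tensorMod_invertible _ _ c₂ hE)
    (Groth.Agent.Lib.R2H3.AmpleSV.isCoh_tensorMod_invertible _ _ c₃ hE)
  rw [Real.norm_natCast]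
  refine le_trans ?_ (le_abs_self _)
  exact_mod_cast this

theorem P_mono (hL : PicF.IsInvertible L) {F G : X.Modules} (φ : F ⟶ G) [Mono φ]
    (hG : Coh.IsCoh G) (h : P k d L G) : P k d L F := by
  refine P_of_le k d L (fun m => ?_) h
  have hE := Groth.Agent.Lib.Helper23.SecTw.isInvertible_tensorPow hL m
  have hm : Mono ((twR (CohB1.tensorPow L m)).map φ) := mono_twR_map (CohB1.tensorPow L m) hE φ
  exact @h0_le_of_mono k _ X _ _ _ _ ((twR (CohB1.tensorPow L m)).map φ) hm
    (Groth.Agent.Lib.R2H3.AmpleSV.isCoh_tensorMod_invertible _ _ hG hE)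

theorem P_root (hL : PicF.IsInvertible L) (F : X.Modules) (r : ℕ) (hF : Coh.IsCoh F)
    (h : P k d L (pow F (r + 1))) : P k d L F := by
  have := Groth.Agent.Lib.R2H1.CurveEuler.isNoetherian_of_proper k X
  haveI : Mono (powι F r) := mono_of_mono_fac (powι_π F r)
  exact P_mono k d L hL (powι F r) (isCoh_pow F hF (r + 1)) h

theorem P_of_iso {F G : X.Modules} (e : F ≅ G) (h : P k d L G) : P k d L F :=
  P_of_le k d L (fun m => le_of_eq (h0_congr k ((twR (CohB1.tensorPow L m)).mapIso e))) h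

end PDef

section Poly

/-- a polynomial of degree `≤ d` in one variable is `O(j^d)` -/
theorem abs_eval_le (Q : MvPolynomial (Fin 1) ℚ) (d : ℕ) (hQ : Q.totalDegree ≤ d) :
    ∃ C : ℚ, 0 ≤ C ∧ ∀ j : ℕ, 1 ≤ j →
      |MvPolynomial.eval (fun _ : Fin 1 => (j : ℚ)) Q| ≤ C * (j : ℚ) ^ d := by
  refine ⟨∑ s ∈ Q.support, |Q.coeff s|, Finset.sum_nonneg fun _ _ => abs_nonneg _, fun j hj => ?_⟩
  rw [MvPolynomial.eval_eq, Finset.sum_mul]
  refine (Finset.abs_sum_le_sum_abs _ _).trans (Finset.sum_le_sum fun s hs => ?_)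
  rw [abs_mul]
  refine mul_le_mul_of_nonneg_left ?_ (abs_nonneg _)
  rw [Finset.prod_pow_eq_pow_sum, abs_pow, Nat.abs_cast]
  have h1 : (1 : ℚ) ≤ j := by exact_mod_cast hj
  refine pow_le_pow_right₀ h1 ?_
  exact (MvPolynomial.le_totalDegree hs).trans hQ

end Poly

section Integral

variable (k : Type u) [Field k] {W : Scheme.{u}} [W.Over (Spec (CommRingCat.of k))]
  [IsProper (W ↘ (Spec (CommRingCat.of k)))]

include k in
/-- on an integral proper scheme, any invertible module embeds in a positive power of an ample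
one -/
theorem exists_mono_to_ample [IsIntegral W] (A : W.Modules) (hA : CohB1.IsAmple A)
    (L : W.Modules) (hL : PicF.IsInvertible L) :
    ∃ (n : ℕ) (φ : L ⟶ CohB1.tensorPow A (n + 1)), Mono φ := by
  obtain ⟨M, hM, ⟨e⟩⟩ := Groth.Agent.Lib.R2H1.InvExists.exists_inverse L hL
  haveI : M.IsQuasicoherent := Groth.Agent.Lib.Helper23.SecTw.isQuasicoherent_of_isInvertible M hM
  haveI : SheafOfModules.IsFiniteType (R := W.ringCatSheaf) M :=
    Groth.Agent.Lib.R2H2.PnFinite.isFiniteType_of_isInvertible M hM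
  obtain ⟨n, hn⟩ := Groth.Agent.Lib.Helper23.LocGen.isGloballyGenerated_twist_eventually A hA M
  set A' := CohB1.tensorPow A (n + 1) with hA'def
  have hA' : PicF.IsInvertible A' := Groth.Agent.Lib.Helper23.SecTw.isInvertible_tensorPow hA.1 _
  have hB : PicF.IsInvertible (CohB1.tensorMod M A') :=
    Groth.Agent.Lib.Helper23.SecTw.isInvertible_tensorMod hM hA'
  obtain ⟨ι, p, hp⟩ := hn (n + 1) (Nat.le_succ n)
  have hnz : ¬ IsZero (CohB1.tensorMod M A') := by
    intro hz
    have h1 := Groth.Agent.Lib.R2H2.DevA.support_of_isZero hz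
    rw [Groth.Agent.Lib.R2H4AmpleSection.support_of_isInvertible _ hB] at h1
    obtain ⟨x⟩ := (inferInstance : Nonempty W)
    exact Set.notMem_empty x (h1 ▸ Set.mem_univ x)
  have hp0 : p ≠ 0 := by
    intro h0
    apply hnz
    rw [IsZero.iff_id_eq_zero]
    have h1 : p ≫ 𝟙 _ = p ≫ 0 := by rw [h0]; simp
    exact (cancel_epi p).1 h1
  obtain ⟨i, hi⟩ : ∃ i : ι, SheafOfModules.ιFree i ≫ p ≠ 0 := by
    by_contra hcon
    push Not at hcon
    apply hp0
    refine Cofan.IsColimit.hom_ext (SheafOfModules.isColimitFreeCofan ι) _ _ fun i => ?_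
    rw [SheafOfModules.freeCofan_inj]
    exact (hcon i).trans comp_zero.symm
  let t : Coh.structureModule W ⟶ CohB1.tensorMod M A' := SheafOfModules.ιFree i ≫ p
  haveI : Mono t := Groth.Agent.Lib.R2H1.InvHom.mono_of_ne_zero
    (Groth.Agent.Lib.Helper23.TensorUnit.isInvertible_structureModule W) hB t hi
  have hm : Mono ((DCoh.tensorBi.obj L).map t) := mono_tensorBi_map L hL t
  let Lt : CohB1.tensorMod L (Coh.structureModule W) ⟶ CohB1.tensorMod L (CohB1.tensorMod M A') :=
    (DCoh.tensorBi.obj L).map t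
  haveI : Mono Lt := hm
  refine ⟨n, (rUnit L).inv ≫ Lt ≫ (tAssoc L M A').inv ≫ (tIso e (Iso.refl A')).hom ≫
    (lUnit A').hom, ?_⟩
  infer_instance

/-- tensor powers of a monomorphism of invertible modules -/
theorem exists_mono_pow {L A' : W.Modules} (hL : PicF.IsInvertible L) (hA' : PicF.IsInvertible A')
    (φ : L ⟶ A') [Mono φ] :
    ∀ m : ℕ, ∃ ψ : CohB1.tensorPow L m ⟶ CohB1.tensorPow A' m, Mono ψ
  | 0 => by
    change ∃ ψ : Coh.structureModule W ⟶ Coh.structureModule W, Mono ψ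
    exact ⟨𝟙 _, inferInstance⟩
  | m + 1 => by
    obtain ⟨ψ, hψ⟩ := exists_mono_pow hL hA' φ m
    have h1 : Mono ((twR L).map ψ) := mono_twR_map L hL ψ
    have h2 : Mono ((DCoh.tensorBi.obj (CohB1.tensorPow A' m)).map φ) :=
      mono_tensorBi_map _ (Groth.Agent.Lib.Helper23.SecTw.isInvertible_tensorPow hA' m) φ
    let a : CohB1.tensorPow L (m + 1) ⟶ CohB1.tensorMod (CohB1.tensorPow A' m) L := (twR L).map ψ
    let b : CohB1.tensorMod (CohB1.tensorPow A' m) L ⟶ CohB1.tensorPow A' (m + 1) :=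
      (DCoh.tensorBi.obj (CohB1.tensorPow A' m)).map φ
    haveI : Mono a := h1
    haveI : Mono b := h2
    exact ⟨a ≫ b, mono_comp _ _⟩

end Integral

section IntegralGrowth

variable (k : Type u) [Field k] {W : Scheme.{u}} [W.Over (Spec (CommRingCat.of k))]
  [IsProper (W ↘ (Spec (CommRingCat.of k)))]

/-- the growth bound for the structure sheaf of an integral projective scheme -/
theorem P_structure_integral [IsIntegral W] (A : W.Modules) (hA : CohB1.IsAmple A) (d : ℕ)
    (hd : topologicalKrullDim W ≤ d) (L : W.Modules) (hL : PicF.IsInvertible L) :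
    P k d L (Coh.structureModule W) := by
  have := Groth.Agent.Lib.R2H1.CurveEuler.isNoetherian_of_proper k W
  have cO : Coh.IsCoh (Coh.structureModule W) :=
    Groth.Agent.Lib.R2H1.GenusLe.isCoh_structureModule W
  have hO : PicF.IsInvertible (Coh.structureModule W) :=
    Groth.Agent.Lib.Helper23.TensorUnit.isInvertible_structureModule W
  obtain ⟨n, φ, hφ⟩ := exists_mono_to_ample k A hA L hL
  have hA' : PicF.IsInvertible (CohB1.tensorPow A (n + 1)) :=
    Groth.Agent.Lib.Helper23.SecTw.isInvertible_tensorPow hA.1 _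
  obtain ⟨n₁, hn₁⟩ := Groth.Agent.Lib.R2H3.AmpleSV.serre_vanishing_ample (A := k)
    (W ↘ Spec (CommRingCat.of k)) A hA (Coh.structureModule W) cO
  have hsupp : topologicalKrullDim (CohB1.support (Coh.structureModule W)) ≤ d :=
    (Topology.IsInducing.subtypeVal.topologicalKrullDim_le).trans hd
  obtain ⟨Q, hQd, hQ⟩ := Groth.Agent.Lib.R2H4Snapper.s1528 k (Coh.structureModule W) cO d hsupp 1
    (fun _ => A) (fun _ => hA.1)
  obtain ⟨C, hC0, hC⟩ := abs_eval_le Q d hQd
  unfold P
  refine IsBigO.of_bound (C * ((n + 1 : ℕ) : ℝ) ^ d) ?_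
  filter_upwards [Filter.eventually_ge_atTop (max n₁ 1)] with m hm
  have hm1 : 1 ≤ m := (le_max_right _ _).trans hm
  have hmn : n₁ ≤ m := (le_max_left _ _).trans hm
  set N := (n + 1) * m with hN
  have hN1 : 1 ≤ N := Nat.one_le_iff_ne_zero.2 (Nat.mul_ne_zero (Nat.succ_ne_zero n) (by omega))
  have hNn : n₁ ≤ N := hmn.trans (Nat.le_mul_of_pos_left m (Nat.succ_pos n))
  -- step 1 : `h⁰(O ⊗ L^m) ≤ h⁰(O ⊗ A'^m)`
  obtain ⟨ψ, hψ⟩ := exists_mono_pow (W := W) hL hA' φ m
  have hm' : Mono ((DCoh.tensorBi.obj (Coh.structureModule W)).map ψ) :=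
    mono_tensorBi_map _ hO ψ
  have hA'm : PicF.IsInvertible (CohB1.tensorPow (CohB1.tensorPow A (n + 1)) m) :=
    Groth.Agent.Lib.Helper23.SecTw.isInvertible_tensorPow hA' m
  have s1 : h0 k (CohB1.tensorMod (Coh.structureModule W) (CohB1.tensorPow L m)) ≤
      h0 k (CohB1.tensorMod (Coh.structureModule W)
        (CohB1.tensorPow (CohB1.tensorPow A (n + 1)) m)) :=
    @h0_le_of_mono k _ W _ _ _ _ ((DCoh.tensorBi.obj (Coh.structureModule W)).map ψ) hm'
      (Groth.Agent.Lib.R2H3.AmpleSV.isCoh_tensorMod_invertible _ _ cO hA'm)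
  -- step 2 : `A'^m ≅ A^N`
  obtain ⟨i⟩ := Groth.Agent.Lib.Helper23.SecTw.nonempty_tensorPow_tensorPow_iso A hA.1 (n + 1) m N rfl
  have s2 : h0 k (CohB1.tensorMod (Coh.structureModule W)
      (CohB1.tensorPow (CohB1.tensorPow A (n + 1)) m)) =
      h0 k (CohB1.tensorMod (Coh.structureModule W) (CohB1.tensorPow A N)) :=
    h0_congr k (tIso (Iso.refl _) i)
  -- step 3 : Euler characteristic
  have s3 : Curv2.euler k W (CohB1.tensorMod (Coh.structureModule W) (CohB1.tensorPow A N)) =
      (h0 k (CohB1.tensorMod (Coh.structureModule W) (CohB1.tensorPow A N)) : ℤ) :=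
    Groth.Agent.Lib.R2H4AmplePos.euler_eq_finrank_of_vanishing k _ fun q hq => hn₁ N hNn q hq
  have s4 := hQ (fun _ => N)
  have s4' : (Curv2.euler k W (CohB1.tensorMod (Coh.structureModule W) (CohB1.tensorPow A N)) : ℚ) =
      MvPolynomial.eval (fun _ : Fin 1 => (N : ℚ)) Q := s4
  have s5 := hC N hN1
  rw [← s4', s3] at s5
  have s6 : ((h0 k (CohB1.tensorMod (Coh.structureModule W) (CohB1.tensorPow A N)) : ℕ) : ℚ) ≤
      C * (N : ℚ) ^ d := by
    refine le_trans (le_abs_self _) ?_
    exact_mod_cast s5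
  have s7 : ((h0 k (CohB1.tensorMod (Coh.structureModule W) (CohB1.tensorPow A N)) : ℕ) : ℝ) ≤
      (C : ℝ) * (N : ℝ) ^ d := by
    exact_mod_cast s6
  rw [Real.norm_natCast, norm_pow, Real.norm_natCast]
  calc ((h0 k (CohB1.tensorMod (Coh.structureModule W) (CohB1.tensorPow L m)) : ℕ) : ℝ)
      ≤ ((h0 k (CohB1.tensorMod (Coh.structureModule W) (CohB1.tensorPow A N)) : ℕ) : ℝ) := by
        exact_mod_cast s1.trans (le_of_eq s2)
    _ ≤ (C : ℝ) * (N : ℝ) ^ d := s7
    _ = (C : ℝ) * ((n + 1 : ℕ) : ℝ) ^ d * (m : ℝ) ^ d := by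
        rw [hN, Nat.cast_mul, mul_pow, mul_assoc]

end IntegralGrowth

section Push

variable (k : Type u) [Field k] {W X : Scheme.{u}} [X.Over (Spec (CommRingCat.of k))]
  [IsProper (X ↘ (Spec (CommRingCat.of k)))] [W.Over (Spec (CommRingCat.of k))]

/-- `h⁰(X, g_* N ⊗ L^m) = h⁰(W, N ⊗ (g^*L)^m)` for an affine `k`-morphism `g : W ⟶ X` -/
theorem h0_push_twist (g : W ⟶ X) [IsAffineHom g]
    (hg : g ≫ (X ↘ Spec (CommRingCat.of k)) = W ↘ Spec (CommRingCat.of k))
    (L : X.Modules) (hL : PicF.IsInvertible L) (N : W.Modules) (hN : Coh.IsCoh N) (m : ℕ) :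
    h0 k (CohB1.tensorMod ((Scheme.Modules.pushforward g).obj N) (CohB1.tensorPow L m)) =
      h0 k (CohB1.tensorMod N (CohB1.tensorPow ((Scheme.Modules.pullback g).obj L) m)) := by
  haveI : CompactSpace X :=
    QuasiCompact.compactSpace_of_compactSpace (X ↘ Spec (CommRingCat.of k))
  obtain ⟨ι, hfin, V, hcov, hVa, hV⟩ :=
    Groth.Agent.Lib.R2H2.ProperFin.exists_affine_cover_of_isSeparated
      (X ↘ Spec (CommRingCat.of k))
  obtain ⟨Φ⟩ := Groth.Agent.Lib.R2H3.AmpleFinite.nonempty_push_twist_iso g L hL N m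
  have hq : Coh.IsQCoh (CohB1.tensorMod N
      (CohB1.tensorPow ((Scheme.Modules.pullback g).obj L) m)) :=
    (Groth.Agent.Lib.R2H3.AmpleSV.isCoh_tensorMod_invertible N _ hN
      (Groth.Agent.Lib.Helper23.SecTw.isInvertible_tensorPow
        (Groth.Agent.Lib.Helper23.PB.isInvertible_pullback g L hL) m)).1
  obtain ⟨e⟩ := Groth.Agent.Lib.R2H2.AffPushLin.exists_push_linear g V k hg hcov hV _ hq 0
  rw [h0_congr k Φ]
  exact e.finrank_eq.symm

end Push

section Main

theorem dim_mono {T : Type*} [TopologicalSpace T] {s t : Set T} (h : s ⊆ t) :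
    topologicalKrullDim ↥s ≤ topologicalKrullDim ↥t :=
  (Topology.IsEmbedding.inclusion h).isInducing.topologicalKrullDim_le

open Groth.Agent.Lib.R2H2.FinPush Groth.Agent.Lib.R2H3.AmpleFinite

variable (k : Type u) [Field k] {X : Scheme.{u}} [X.Over (Spec (CommRingCat.of k))]
  [IsProper (X ↘ (Spec (CommRingCat.of k)))]

/-- `h⁰(F ⊗ L^m) = O(m^d)` for every `d ≥ dim Supp F` -/
def P' (L F : X.Modules) : Prop :=
  ∀ d : ℕ, topologicalKrullDim (CohB1.support F) ≤ d → P k d L F

/-- **Growth of `h⁰`, support version**: on a scheme proper over a field and carrying an ample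
invertible module, `h⁰(F ⊗ L^m) = O(m^d)` for `F` coherent with `dim Supp F ≤ d` and `L`
invertible. -/
theorem main_supp (A : X.Modules) (hA : CohB1.IsAmple A)
    (L : X.Modules) (hL : PicF.IsInvertible L) (F : X.Modules) (hF : Coh.IsCoh F) :
    P' k L F := by
  classical
  have := Groth.Agent.Lib.R2H1.CurveEuler.isNoetherian_of_proper k X
  refine Groth.Agent.Lib.R2H2.DevL.devissage_roots (P := P' k L)
    (fun M hM d _ => P_zero k d L M hM) ?_ ?_ ?_ F hF
  · intro S hS c₁ c₂ c₃ h₁ h₃ d hd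
    haveI := hS.mono_f
    haveI := hS.epi_g
    exact P_ext k d L hL S hS c₁ c₂ c₃
      (h₁ d ((dim_mono
        (Groth.Agent.Lib.R2H2.DevA.support_subset_of_mono S.f)).trans hd))
      (h₃ d ((dim_mono
        (Groth.Agent.Lib.R2H2.DevA.support_subset_of_epi S.g)).trans hd))
  · intro F r hF h d hd
    exact P_root k d L hL F r hF
      (h d ((dim_mono
        (Groth.Agent.Lib.R2H2.DevA.support_pow F (r + 1))).trans hd))
  intro y
  obtain ⟨W, i, hi, hW, hrange, hgen⟩ := Groth.Agent.Lib.R2H2.DevD.exists_integral_closed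
    (closure {y}) isClosed_closure isIrreducible_singleton.closure y rfl
  subst hgen
  haveI := hi
  haveI := hW
  letI : W.Over (Spec (CommRingCat.of k)) := ⟨i ≫ (X ↘ Spec (CommRingCat.of k))⟩
  have hg : i ≫ (X ↘ Spec (CommRingCat.of k)) = W ↘ Spec (CommRingCat.of k) := rfl
  haveI : IsProper (W ↘ Spec (CommRingCat.of k)) := by
    rw [← hg]
    infer_instance
  haveI : IsNoetherian W := Groth.Agent.Lib.R2H1.CurveEuler.isNoetherian_of_proper k W
  have hO : Coh.IsCoh (Coh.structureModule W) :=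
    Groth.Agent.Lib.R2H1.GenusLe.isCoh_structureModule W
  have cG : Coh.IsCoh (pushO i) := Groth.Agent.Lib.R2H2.ClosedPn.isCoh_push i _ hO
  haveI : (pushO i).IsQuasicoherent := cG.1
  have hampW : CohB1.IsAmple ((Scheme.Modules.pullback i).obj A) :=
    Groth.Agent.Lib.Helper23.PB.isAmple_pullback_of_isAffineHom i _ hA
  have hLW : PicF.IsInvertible ((Scheme.Modules.pullback i).obj L) :=
    Groth.Agent.Lib.Helper23.PB.isInvertible_pullback i L hL
  have hnt := nontrivial_stalk_pushO i (genericPoint W)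
  refine ⟨pushO i, cG, hnt,
    stalk_pushO_smul_eq_zero i (Coh.structureModule W), fun J hJ => ?_⟩
  have cN : Coh.IsCoh (idl i J) := Groth.Agent.Lib.R2H2.DevF.isCoh_idealMul _ _ hO
  haveI : (idl i J).IsQuasicoherent := cN.1
  have hbij := bijective_stalkLin_phi i J _ hJ
  refine ⟨(Scheme.Modules.pushforward i).obj (idl i J), phi i J, inferInstance,
    Groth.Agent.Lib.Helper23.QCohLocal.isQuasicoherent_pushforward i _,
    hbij, ?_, phi_comp_un i J⟩
  intro d hd
  -- the dimension of `W` is at most `d`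
  have cG' : Coh.IsCoh ((Scheme.Modules.pushforward i).obj (idl i J)) :=
    Groth.Agent.Lib.R2H2.ClosedPn.isCoh_push i _ cN
  have hcl : IsClosed (CohB1.support ((Scheme.Modules.pushforward i).obj (idl i J))) :=
    Groth.Agent.S0020.result X _ cG'.2
  have hy : i (genericPoint W) ∈ CohB1.support ((Scheme.Modules.pushforward i).obj (idl i J)) := by
    intro hsub
    haveI := hsub
    haveI := hnt
    obtain ⟨a, b, hab⟩ := hbij.2.nontrivial
    exact hab (Subsingleton.elim a b)
  have hsub : ∀ w : W, i w ∈ CohB1.support ((Scheme.Modules.pushforward i).obj (idl i J)) := by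
    intro w
    have h1 : i w ∈ closure ({i (genericPoint W)} : Set X) := hrange ▸ Set.mem_range_self w
    exact closure_minimal (Set.singleton_subset_iff.2 hy) hcl h1
  have hind : Topology.IsInducing (Set.codRestrict i
      (CohB1.support ((Scheme.Modules.pushforward i).obj (idl i J))) hsub) :=
    (Scheme.Hom.isClosedEmbedding i).isInducing.codRestrict hsub
  have hdW : topologicalKrullDim W ≤ d := hind.topologicalKrullDim_le.trans hd
  haveI : Mono (Dual3.idealMulι (J.comap i) (Coh.structureModule W)) :=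
    Groth.Agent.Lib.R2H2.DevF.mono_idealMulι _ _
  have hPW : P k d ((Scheme.Modules.pullback i).obj L) (idl i J) :=
    P_mono k d _ hLW (Dual3.idealMulι (J.comap i) (Coh.structureModule W)) hO
      (P_structure_integral k _ hampW d hdW _ hLW)
  unfold P at hPW ⊢
  have heq : (fun m : ℕ => (h0 k (CohB1.tensorMod ((Scheme.Modules.pushforward i).obj (idl i J))
      (CohB1.tensorPow L m)) : ℝ)) =
      fun m : ℕ => (h0 k (CohB1.tensorMod (idl i J)
        (CohB1.tensorPow ((Scheme.Modules.pullback i).obj L) m)) : ℝ) := by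
    funext m
    rw [h0_push_twist k i hg L hL (idl i J) cN m]
  rw [heq]
  exact hPW

/-- **Growth of `h⁰`**: on a scheme of dimension `≤ d`, proper over a field and carrying an ample
invertible module, `h⁰(F ⊗ L^m) = O(m^d)` for `F` coherent and `L` invertible. -/
theorem main (A : X.Modules) (hA : CohB1.IsAmple A) (d : ℕ) (hd : topologicalKrullDim X ≤ d)
    (L : X.Modules) (hL : PicF.IsInvertible L) (F : X.Modules) (hF : Coh.IsCoh F) :
    P k d L F :=
  main_supp k A hA L hL F hF d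
    ((Topology.IsInducing.subtypeVal.topologicalKrullDim_le).trans hd)

end Main

end Groth.Agent.Lib.R2H4H0Growth
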