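import Mathlib
import Groth.Prelude
import Groth.Agent.Lib.R2H4Snapper
import Groth.Agent.Lib.R2H4FGASnapper
import Groth.Agent.Lib.R2H4FGAAdd
import Groth.Agent.Lib.R2H4FGAPos
import Groth.Agent.Lib.R2H4CurveOnSurf
import Groth.Agent.Lib.R2H4SurfPos
import Groth.Agent.Lib.R2H4NakaiCore
import Groth.Agent.Lib.R2H4SnapperCor
import Groth.Agent.Lib.Helper3DimCons

/-!
# Intersection numbers only depend on numerical equivalence classes (helper4, round 2)

* `degree_devissage` : a generic form of the induction in Snapper's theorem;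
* `euler_tensor_eq_of_dim_lt_two` : invertible modules with the same degree on every integral
  curve have the same Euler characteristic against every coherent module with support of
  dimension `≤ 1`;
* `isPolyLT_gD` : for such `A`, `A'`, the difference `χ(F ⊗ A ⊗ N^n) - χ(F ⊗ A' ⊗ N^n)` has degree
  `≤ dim Supp F - 2`;
* `intNum_insertNth` : recursion for `FGA.intNum` at an arbitrary position;
* `intNum_eq_of_numEquiv` : the intersection numbers of numerically equivalent tuples agree.
-/

set_option autoImplicit false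
set_option linter.style.haveILetI false
universe u
open CategoryTheory CategoryTheory.Limits AlgebraicGeometry TopologicalSpace

noncomputable section

namespace Groth.Agent.Lib.R2H4NumEquivInt

open Groth.Agent.Lib.R2H4NumPoly Groth.Agent.Lib.R2H4TensorPows Groth.Agent.Lib.R2H4Snapper
open Groth.Agent.Lib.R2H2.DevA

section GenDev

variable {X : Scheme.{u}} [IsNoetherian X]

/-- four-term additivity for an additive functional -/
theorem four_term {ι : Type*} (Φ : X.Modules → ι → ℚ)
    (hadd : ∀ S : ShortComplex X.Modules, S.ShortExact → Coh.IsCoh S.X₁ → Coh.IsCoh S.X₂ →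
      Coh.IsCoh S.X₃ → ∀ n, Φ S.X₂ n = Φ S.X₁ n + Φ S.X₃ n)
    {H N : X.Modules} (hH : Coh.IsCoh H) (hN : Coh.IsCoh N) (p : H ⟶ N) (n : ι) :
    Φ N n = Φ H n - Φ (kernel p) n + Φ (cokernel p) n := by
  have cK : Coh.IsCoh (kernel p) := Groth.Agent.Lib.R2H2.PdSheaf.isCoh_kernel hH hN p
  have cC : Coh.IsCoh (cokernel p) := Groth.Agent.Lib.R2H2.NilFilt.isCoh_cokernel hH hN p
  have cI : Coh.IsCoh (Abelian.image p) :=
    Groth.Agent.Lib.R2H2.PdSheaf.isCoh_kernel hN cC (cokernel.π p)
  let S₁ : ShortComplex X.Modules :=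
    ShortComplex.mk (kernel.ι p) (Abelian.factorThruImage p) (by
      rw [← cancel_mono (Abelian.image.ι p), Category.assoc, Abelian.image.fac,
        kernel.condition, zero_comp])
  have hS₁ : S₁.ShortExact :=
    Groth.Agent.Lib.R2H2.PdSheaf.shortExact_of_factor (kernel.ι p) p (kernel.condition p)
      (kernelIsKernel p) (Abelian.factorThruImage p) (Abelian.image.ι p)
      (Abelian.image.fac p) _
  let S₂ : ShortComplex X.Modules :=
    ShortComplex.mk (Abelian.image.ι p) (cokernel.π p) (kernel.condition (cokernel.π p))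
  have hS₂ : S₂.ShortExact :=
    { exact := ShortComplex.exact_kernel (cokernel.π p)
      mono_f := inferInstanceAs (Mono (kernel.ι (cokernel.π p)))
      epi_g := inferInstanceAs (Epi (cokernel.π p)) }
  have h₁ : Φ H n = Φ (kernel p) n + Φ (Abelian.image p) n := hadd S₁ hS₁ cK hH cI n
  have h₂ : Φ N n = Φ (Abelian.image p) n + Φ (cokernel p) n := hadd S₂ hS₂ cI hN cC n
  rw [h₁, h₂]
  ring

/-- **Generic degree dévissage.**  An additive functional `Φ` on coherent modules with values
in functions on `ℕ^r`, which shifts (up to lower order terms) under tensoring with the `N i`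
and which vanishes on modules with support of dimension `< e`, is polynomial of degree
`< d` on modules with support of dimension `< d + e`. -/
theorem degree_devissage (r : ℕ) (N : Fin r → X.Modules) (hN : ∀ i, PicF.IsInvertible (N i))
    (e : ℕ) (Φ : X.Modules → (Fin r → ℕ) → ℚ)
    (hzero : ∀ M : X.Modules, IsZero M → ∀ n, Φ M n = 0)
    (hcongr : ∀ {F G : X.Modules}, (F ≅ G) → ∀ n, Φ F n = Φ G n)
    (hadd : ∀ S : ShortComplex X.Modules, S.ShortExact → Coh.IsCoh S.X₁ → Coh.IsCoh S.X₂ →
      Coh.IsCoh S.X₃ → ∀ n, Φ S.X₂ n = Φ S.X₁ n + Φ S.X₃ n)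
    (hshift : ∀ (d : ℕ) (F : X.Modules) (i : Fin r), Coh.IsCoh F →
      topologicalKrullDim (CohB1.support F) < ((d + 1 + e : ℕ) : WithBot ℕ∞) →
      IsPolyLT d (fun n => Φ F (n + Pi.single i 1) - Φ (CohB1.tensorMod F (N i)) n))
    (hbase : ∀ F : X.Modules, Coh.IsCoh F →
      topologicalKrullDim (CohB1.support F) < ((e : ℕ) : WithBot ℕ∞) → ∀ n, Φ F n = 0) :
    ∀ (d : ℕ) (F : X.Modules), Coh.IsCoh F →
      topologicalKrullDim (CohB1.support F) < ((d + e : ℕ) : WithBot ℕ∞) →
      IsPolyLT d (Φ F) := by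
  intro d
  induction d with
  | zero =>
    intro F hF hdim
    rw [Nat.zero_add] at hdim
    exact (isPolyLT_zero 0).congr fun n => hbase F hF hdim n
  | succ d ih =>
    intro F hF hdim
    have hcl : IsClosed (CohB1.support F) := Groth.Agent.S0020.result X F hF.2
    refine Groth.Agent.Lib.R2H2.DevC.devissage (fun F => IsPolyLT (d + 1) (Φ F))
      (fun M hM => (isPolyLT_zero (d + 1)).congr fun n => hzero M hM n)
      (CohB1.support F) hcl (fun s => s = 1) ?_ ?_ ?_ F hF subset_rfl
    · intro S hS c₁ c₂ c₃ _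
      have h := hadd S hS c₁ c₂ c₃
      refine ⟨fun p₁ p₂ => ?_, fun p₁ p₃ => ?_, fun p₂ p₃ => ?_⟩
      · exact (IsPolyLT.sub p₂ p₁).congr fun n => by rw [h n]; ring
      · exact (IsPolyLT.add p₁ p₃).congr fun n => h n
      · exact (IsPolyLT.sub p₂ p₃).congr fun n => by rw [h n]; ring
    · intro F s _ hs hp
      subst hs
      exact hp.congr fun n => (hcongr (Groth.Agent.Lib.R2H2.StalkPow.powOneIso F) n).symm
    · intro Z hZ hirr hZF y hy
      obtain ⟨W, i, hi, hW, hrange, hgen⟩ :=
        Groth.Agent.Lib.R2H2.DevD.exists_integral_closed Z hZ hirr y hy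
      subst hgen
      set G := (Scheme.Modules.pushforward i).obj (Coh.structureModule W) with hG
      have cG : Coh.IsCoh G := Groth.Agent.Lib.R2H2.DevE.isCoh_pushO i
      have sG : CohB1.support G ⊆ Z := hrange ▸ Groth.Agent.Lib.R2H2.DevE.support_push_subset i _
      have hdimZ : topologicalKrullDim Z ≤ ((d + e : ℕ) : WithBot ℕ∞) := by
        refine le_of_lt_succ' _ _ (lt_of_le_of_lt (Groth.Agent.Lib.Helper8.Conn.dim_mono hZF) ?_)
        have : d + 1 + e = d + e + 1 := by omega
        rw [this] at hdim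
        exact hdim
      have hyZ : i (genericPoint W) ∈ Z := hy ▸ subset_closure rfl
      have hdimG : topologicalKrullDim (CohB1.support G) < ((d + 1 + e : ℕ) : WithBot ℕ∞) :=
        lt_of_le_of_lt (Groth.Agent.Lib.Helper8.Conn.dim_mono (sG.trans hZF)) hdim
      have hPG : IsPolyLT (d + 1) (Φ G) := by
        refine isPolyLT_of_diff d _ fun j => ?_
        set M := CohB1.tensorMod G (N j) with hM
        have cM : Coh.IsCoh M := Groth.Agent.Lib.R2H4SSDescent.isCoh_tensorMod _ _ cG
          (Groth.Agent.Lib.R2H4SSDescent.isCoh_of_isInvertible _ (hN j))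
        have sM : CohB1.support M ⊆ Z := (support_tensor_subset G (N j) (hN j)).trans sG
        obtain ⟨U, hyU, ⟨e'⟩⟩ := exists_restrict_tensor_iso G (N j) (hN j) (i (genericPoint W))
        obtain ⟨H, ψ, hψ, cH, hp₁, hp₂⟩ :=
          Groth.Agent.Lib.R2H2.DevB.exists_graph' U.ι G M cG cM e'.symm
        have sH : CohB1.support H ⊆ Z :=
          (support_subset_of_mono ψ).trans ((support_biprod G M).trans (Set.union_subset sG sM))
        -- the bound on the dimension of proper closed subsets
        have hsmall : ∀ T : X.Modules, Coh.IsCoh T → CohB1.support T ⊆ Z \ (U : Set X) →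
            IsPolyLT d (Φ T) := by
          intro T cT sT
          refine ih T cT ?_
          have hclZU : IsClosed (Z \ (U : Set X)) := hZ.sdiff U.2
          have hne : Z \ (U : Set X) ≠ Z := fun h => by
            have : i (genericPoint W) ∈ Z \ (U : Set X) := by rw [h]; exact hyZ
            exact this.2 hyU
          have hfin : topologicalKrullDim Z < ⊤ := by
            refine lt_of_le_of_lt hdimZ ?_
            change (((d + e : ℕ) : ℕ∞) : WithBot ℕ∞) < ((⊤ : ℕ∞) : WithBot ℕ∞)
            exact WithBot.coe_lt_coe.2 (ENat.natCast_lt_top (d + e))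
          have h1 := Groth.Agent.Lib.Helper8.Conn.dim_lt_of_proper_closed hirr hclZU
            Set.sdiff_subset hne hfin
          exact lt_of_le_of_lt (Groth.Agent.Lib.Helper8.Conn.dim_mono sT) (lt_of_lt_of_le h1 hdimZ)
        have k₁ := hsmall (kernel (ψ ≫ biprod.fst))
          (Groth.Agent.Lib.R2H2.PdSheaf.isCoh_kernel cH cG _)
          ((support_kernel_subset _ U hp₁).trans (Set.sdiff_subset_sdiff_left sH))
        have c₁ := hsmall (cokernel (ψ ≫ biprod.fst))
          (Groth.Agent.Lib.R2H2.NilFilt.isCoh_cokernel cH cG _)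
          ((support_cokernel_subset _ U hp₁).trans (Set.sdiff_subset_sdiff_left sG))
        have k₂ := hsmall (kernel (ψ ≫ biprod.snd))
          (Groth.Agent.Lib.R2H2.PdSheaf.isCoh_kernel cH cM _)
          ((support_kernel_subset _ U hp₂).trans (Set.sdiff_subset_sdiff_left sH))
        have c₂ := hsmall (cokernel (ψ ≫ biprod.snd))
          (Groth.Agent.Lib.R2H2.NilFilt.isCoh_cokernel cH cM _)
          ((support_cokernel_subset _ U hp₂).trans (Set.sdiff_subset_sdiff_left sM))
        have hsh := hshift d G j cG hdimG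
        refine (hsh.add ((c₂.sub k₂).sub (c₁.sub k₁))).congr fun n => ?_
        rw [four_term Φ hadd cH cG (ψ ≫ biprod.fst) n,
          four_term Φ hadd cH cM (ψ ≫ biprod.snd) n]
        ring
      refine ⟨G, cG, hPG, sG, ?_⟩
      intro N' _ _ _ hk
      obtain ⟨eN⟩ := Groth.Agent.Lib.R2H2.DevI.nonempty_stalk_pushO_equiv' i
      obtain ⟨r', ⟨e''⟩⟩ := Groth.Agent.Lib.R2H2.ResField.exists_equiv_pow_one N' _ hk eN
      exact ⟨r', 1, rfl, ⟨LinearEquiv.funUnique (Fin 1) _ N' ≪≫ₗ e''⟩⟩

end GenDev

section NT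

open Groth.Agent.Lib.R2H1.DegCartier Groth.Agent.Lib.R2H4FGAAdd

variable (k : Type u) [Field k] {X : Scheme.{u}} [X.Over (Spec (CommRingCat.of k))]
  [IsProper (X ↘ (Spec (CommRingCat.of k)))]

omit [X.Over (Spec (CommRingCat.of k))] [IsProper (X ↘ (Spec (CommRingCat.of k)))] in
/-- a polynomial function of degree `< 1` is constant -/
theorem isPolyLT_one_const {σ : Type*} {g : (σ → ℕ) → ℚ} (hg : IsPolyLT 1 g) (n m : σ → ℕ) :
    g n = g m := by
  obtain ⟨P, hP, hPg⟩ := hg
  have h0 : P.totalDegree = 0 := Nat.le_zero.1 hP.totalDegree_le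
  rw [MvPolynomial.totalDegree_eq_zero_iff_eq_C] at h0
  rw [hPg n, hPg m, h0]
  simp [ev]

omit [IsProper (X ↘ (Spec (CommRingCat.of k)))] in
/-- the one-variable twist `χ(G ⊗ A)` in terms of `fE` -/
theorem fE_one_eq (A G : X.Modules) :
    fE k X 1 (Fin.cons A (Fin.elim0 : Fin 0 → X.Modules) : Fin 1 → X.Modules) G
      (Fin.cons 1 (Fin.elim0 : Fin 0 → ℕ) : Fin 1 → ℕ) =
      (Curv2.euler k X (CohB1.tensorMod G A) : ℚ) := by
  rw [fE_cons_one]
  rfl

omit [IsProper (X ↘ (Spec (CommRingCat.of k)))] in
theorem fE_zero_eq (A G : X.Modules) :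
    fE k X 1 (Fin.cons A (Fin.elim0 : Fin 0 → X.Modules) : Fin 1 → X.Modules) G
      (Fin.cons 0 (Fin.elim0 : Fin 0 → ℕ) : Fin 1 → ℕ) =
      (Curv2.euler k X G : ℚ) := by
  rw [fE_cons_zero]
  rfl

omit [X.Over (Spec (CommRingCat.of k))] [IsProper (X ↘ (Spec (CommRingCat.of k)))] in
theorem isInvertible_cons_elim0 (A : X.Modules) (hA : PicF.IsInvertible A) :
    ∀ i, PicF.IsInvertible ((Fin.cons A (Fin.elim0 : Fin 0 → X.Modules) : Fin 1 → X.Modules) i) := by
  intro i
  induction i using Fin.cases with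
  | zero => simpa using hA
  | succ j => exact j.elim0

/-- Invertible modules with the same Euler characteristic against every integral curve have the
same Euler characteristic against every coherent module with support of dimension `≤ 1`. -/
theorem euler_tensor_eq_of_dim_lt_two (A A' : X.Modules) (hA : PicF.IsInvertible A)
    (hA' : PicF.IsInvertible A')
    (hnum : ∀ C : X.IdealSheafData, IsIntegral C.subscheme →
      topologicalKrullDim (C.support : Set X) = 1 →
        Curv2.euler k X (CohB1.tensorMod (ClSub.quotMod C) A) =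
          Curv2.euler k X (CohB1.tensorMod (ClSub.quotMod C) A'))
    (G : X.Modules) (hG : Coh.IsCoh G)
    (hdim : topologicalKrullDim (CohB1.support G) < ((2 : ℕ) : WithBot ℕ∞)) :
    Curv2.euler k X (CohB1.tensorMod G A) = Curv2.euler k X (CohB1.tensorMod G A') := by
  haveI := Groth.Agent.Lib.R2H1.CurveEuler.isNoetherian_of_proper k X
  set LA : Fin 1 → X.Modules := Fin.cons A (Fin.elim0 : Fin 0 → X.Modules) with hLA
  set LA' : Fin 1 → X.Modules := Fin.cons A' (Fin.elim0 : Fin 0 → X.Modules) with hLA'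
  set one : Fin 1 → ℕ := Fin.cons 1 (Fin.elim0 : Fin 0 → ℕ) with hone
  have hLAi := isInvertible_cons_elim0 A hA
  have hLAi' := isInvertible_cons_elim0 A' hA'
  have hcl : IsClosed (CohB1.support G) := Groth.Agent.S0020.result X G hG.2
  have key : fE k X 1 LA G one = fE k X 1 LA' G one := by
    refine Groth.Agent.Lib.R2H2.DevC.devissage
      (fun F => fE k X 1 LA F one = fE k X 1 LA' F one)
      (fun M hM => by
        rw [fE_of_isZero k 1 LA M hM, fE_of_isZero k 1 LA' M hM])
      (CohB1.support G) hcl (fun s => s = 1) ?_ ?_ ?_ G hG subset_rfl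
    · intro S hS c₁ c₂ c₃ _
      have h := fE_add k 1 LA hLAi S hS c₁ c₂ c₃ one
      have h' := fE_add k 1 LA' hLAi' S hS c₁ c₂ c₃ one
      refine ⟨fun p₁ p₂ => ?_, fun p₁ p₃ => ?_, fun p₂ p₃ => ?_⟩
      · linarith
      · linarith
      · linarith
    · intro F s _ hs hp
      subst hs
      change fE k X 1 LA (Groth.Agent.Lib.R2H2.StalkPow.pow F 1) one =
        fE k X 1 LA' (Groth.Agent.Lib.R2H2.StalkPow.pow F 1) one at hp
      rw [fE_congr k 1 LA (Groth.Agent.Lib.R2H2.StalkPow.powOneIso F) one,
        fE_congr k 1 LA' (Groth.Agent.Lib.R2H2.StalkPow.powOneIso F) one] at hp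
      exact hp
    · intro Z hZ hirr hZF y hy
      obtain ⟨W, i, hi, hW, hrange, hgen⟩ :=
        Groth.Agent.Lib.R2H2.DevD.exists_integral_closed Z hZ hirr y hy
      subst hgen
      set G₀ := (Scheme.Modules.pushforward i).obj (Coh.structureModule W) with hG₀
      have cG : Coh.IsCoh G₀ := Groth.Agent.Lib.R2H2.DevE.isCoh_pushO i
      have sG : CohB1.support G₀ ⊆ Z :=
        hrange ▸ Groth.Agent.Lib.R2H2.DevE.support_push_subset i _
      have hdimZ : topologicalKrullDim Z < ((2 : ℕ) : WithBot ℕ∞) :=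
        lt_of_le_of_lt (Groth.Agent.Lib.Helper8.Conn.dim_mono hZF) hdim
      have hPG : fE k X 1 LA G₀ one = fE k X 1 LA' G₀ one := by
        by_cases h1 : topologicalKrullDim Z < ((1 : ℕ) : WithBot ℕ∞)
        · -- zero-dimensional: both sides are `χ(G₀)`
          have hs : topologicalKrullDim (CohB1.support G₀) < ((1 : ℕ) : WithBot ℕ∞) :=
            lt_of_le_of_lt (Groth.Agent.Lib.Helper8.Conn.dim_mono sG) h1
          have p := Groth.Agent.Lib.R2H4Snapper.main k 1 LA hLAi 1 G₀ cG hs
          have p' := Groth.Agent.Lib.R2H4Snapper.main k 1 LA' hLAi' 1 G₀ cG hs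
          rw [isPolyLT_one_const p one (Fin.cons 0 (Fin.elim0 : Fin 0 → ℕ)),
            isPolyLT_one_const p' one (Fin.cons 0 (Fin.elim0 : Fin 0 → ℕ)),
            fE_zero_eq, fE_zero_eq]
        · -- one-dimensional: the hypothesis
          have hZ1 : topologicalKrullDim Z = 1 := by
            have := Groth.Agent.Lib.R2H4SurfPos.dim_eq_one (topologicalKrullDim Z)
              hdimZ.le hdimZ.ne h1
            rw [this]
            exact Nat.cast_one
          haveI : IsIso i.toImage := inferInstance
          haveI : IsIntegral i.ker.subscheme := IsIntegral.of_isIso i.toImage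
          have hsupp : (i.ker.support : Set X) = Z := by
            rw [Scheme.Hom.support_ker, ← hrange]
            exact (i.isClosedEmbedding.isClosed_range).closure_eq
          have h3 := hnum i.ker inferInstance (by rw [hsupp]; exact hZ1)
          rw [fE_one_eq, fE_one_eq]
          have e := Groth.Agent.Lib.R2H4CurveOnSurf.pushIso i
          rw [← euler_congr k (tIso e (Iso.refl A)), ← euler_congr k (tIso e (Iso.refl A')), h3]
      refine ⟨G₀, cG, hPG, sG, ?_⟩
      intro N' _ _ _ hk
      obtain ⟨eN⟩ := Groth.Agent.Lib.R2H2.DevI.nonempty_stalk_pushO_equiv' i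
      obtain ⟨r', ⟨e''⟩⟩ := Groth.Agent.Lib.R2H2.ResField.exists_equiv_pow_one N' _ hk eN
      exact ⟨r', 1, rfl, ⟨LinearEquiv.funUnique (Fin 1) _ N' ≪≫ₗ e''⟩⟩
  rw [fE_one_eq, fE_one_eq] at key
  exact_mod_cast key

end NT

section CoreA

open Groth.Agent.Lib.R2H1.DegCartier Groth.Agent.Lib.R2H4FGAAdd Groth.Agent.Lib.R2H4FGAPos
  Groth.Agent.Lib.R2H4FGASnapper

variable (k : Type u) [Field k] {X : Scheme.{u}} [X.Over (Spec (CommRingCat.of k))]
  [IsProper (X ↘ (Spec (CommRingCat.of k)))]

omit [X.Over (Spec (CommRingCat.of k))] [IsProper (X ↘ (Spec (CommRingCat.of k)))] in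
theorem isInvertible_cons {r : ℕ} (A : X.Modules) (hA : PicF.IsInvertible A)
    (N : Fin r → X.Modules) (hN : ∀ i, PicF.IsInvertible (N i)) :
    ∀ i, PicF.IsInvertible ((Fin.cons A N : Fin (r + 1) → X.Modules) i) := by
  intro i
  induction i using Fin.cases with
  | zero => simpa using hA
  | succ j => simpa using hN j

theorem cons_add_single {r : ℕ} (a : ℕ) (n : Fin r → ℕ) (i : Fin r) :
    (Fin.cons a n : Fin (r + 1) → ℕ) + Pi.single i.succ 1 =
      (Fin.cons a (n + Pi.single i 1) : Fin (r + 1) → ℕ) := by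
  funext j
  induction j using Fin.cases with
  | zero =>
    simp [(Fin.succ_ne_zero i).symm]
  | succ j' =>
    simp [Pi.single_apply, Fin.succ_inj]

omit [X.Over (Spec (CommRingCat.of k))] [IsProper (X ↘ (Spec (CommRingCat.of k)))] in
theorem isCoh_pows [IsLocallyNoetherian X] (F : X.Modules) (hF : Coh.IsCoh F) (r : ℕ)
    (N : Fin r → X.Modules) (hN : ∀ i, PicF.IsInvertible (N i)) (n : Fin r → ℕ) :
    Coh.IsCoh (Curv2.tensorPows F r N n) := by
  have hEi : PicF.IsInvertible (Curv2.tensorPows (Coh.structureModule X) r N n) :=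
    isInvertible_pows _ (Groth.Agent.Lib.Helper23.TensorUnit.isInvertible_structureModule X)
      r N hN _
  exact Groth.Agent.Lib.R2H4SerreSupp.isCoh_of_iso (powsIsoTensor F r N n).symm
    (Groth.Agent.Lib.R2H4SSDescent.isCoh_tensorMod _ _
      (Groth.Agent.Lib.R2H4SSDescent.isCoh_of_isInvertible _ hEi) hF)

/-- the difference `χ(F ⊗ A ⊗ N^n) - χ(F ⊗ A' ⊗ N^n)` -/
def gD (A A' : X.Modules) (r : ℕ) (N : Fin r → X.Modules) (F : X.Modules) (n : Fin r → ℕ) : ℚ :=
  fE k X (r + 1) (Fin.cons A N : Fin (r + 1) → X.Modules) F (Fin.cons 1 n : Fin (r + 1) → ℕ) -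
    fE k X (r + 1) (Fin.cons A' N : Fin (r + 1) → X.Modules) F (Fin.cons 1 n : Fin (r + 1) → ℕ)

omit [IsProper (X ↘ (Spec (CommRingCat.of k)))] in
theorem gD_eq (A A' : X.Modules) (r : ℕ) (N : Fin r → X.Modules) (F : X.Modules)
    (n : Fin r → ℕ) :
    gD k A A' r N F n =
      fE k X r N (CohB1.tensorMod F A) n - fE k X r N (CohB1.tensorMod F A') n := by
  unfold gD
  rw [fE_cons_one, fE_cons_one]

/-- **Degree drop for numerically equivalent modules.** -/
theorem isPolyLT_gD (A A' : X.Modules) (hA : PicF.IsInvertible A) (hA' : PicF.IsInvertible A')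
    (hNT : ∀ G : X.Modules, Coh.IsCoh G →
      topologicalKrullDim (CohB1.support G) < ((2 : ℕ) : WithBot ℕ∞) →
        Curv2.euler k X (CohB1.tensorMod G A) = Curv2.euler k X (CohB1.tensorMod G A'))
    (r : ℕ) (N : Fin r → X.Modules) (hN : ∀ i, PicF.IsInvertible (N i)) :
    ∀ (d : ℕ) (F : X.Modules), Coh.IsCoh F →
      topologicalKrullDim (CohB1.support F) < ((d + 2 : ℕ) : WithBot ℕ∞) →
      IsPolyLT d (gD k A A' r N F) := by
  haveI := Groth.Agent.Lib.R2H1.CurveEuler.isNoetherian_of_proper k X
  have hAN := isInvertible_cons A hA N hN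
  have hAN' := isInvertible_cons A' hA' N hN
  refine degree_devissage r N hN 2 (gD k A A' r N) ?_ ?_ ?_ ?_ ?_
  · intro M hM n
    unfold gD
    rw [fE_of_isZero k _ _ M hM, fE_of_isZero k _ _ M hM, sub_zero]
  · intro F G e n
    unfold gD
    rw [fE_congr k _ _ e, fE_congr k _ _ e]
  · intro S hS c₁ c₂ c₃ n
    unfold gD
    rw [fE_add k _ _ hAN S hS c₁ c₂ c₃, fE_add k _ _ hAN' S hS c₁ c₂ c₃]
    ring
  · intro d F i _ _
    refine (isPolyLT_zero d).congr fun n => ?_
    unfold gD
    have h1 := fE_shift k (r + 1) (Fin.cons A N : Fin (r + 1) → X.Modules) F i.succ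
      (Fin.cons 1 n : Fin (r + 1) → ℕ)
    have h2 := fE_shift k (r + 1) (Fin.cons A' N : Fin (r + 1) → X.Modules) F i.succ
      (Fin.cons 1 n : Fin (r + 1) → ℕ)
    simp only [Fin.cons_succ] at h1 h2
    rw [cons_add_single] at h1 h2
    rw [h1, h2]
    ring
  · intro F hF hdim n
    rw [gD_eq]
    unfold fE
    rw [euler_congr k (powsOut F A r N n), euler_congr k (powsOut F A' r N n),
      hNT _ (isCoh_pows F hF r N hN n)
        (lt_of_le_of_lt (Groth.Agent.Lib.Helper8.Conn.dim_mono (support_pows_subset F r N hN n))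
          hdim)]
    ring

end CoreA

section CoreB

open Groth.Agent.Lib.R2H1.DegCartier Groth.Agent.Lib.R2H4FGAAdd Groth.Agent.Lib.R2H4FGAPos
  Groth.Agent.Lib.R2H4FGASnapper

variable (k : Type u) [Field k] {X : Scheme.{u}} [X.Over (Spec (CommRingCat.of k))]
  [IsProper (X ↘ (Spec (CommRingCat.of k)))]

/-- recursion for the intersection numbers at an arbitrary position -/
theorem intNum_insertNth (d : ℕ) (hd : topologicalKrullDim X ≤ d) :
    ∀ {r : ℕ} (j : Fin (r + 1)) (M : Fin r → X.Modules) (A F : X.Modules),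
      (FGA.intNum k X d (Fin.insertNth (α := fun _ => X.Modules) j A M) F : ℚ) =
        FGA.intNum k X d M F - FGA.intNum k X d M (CohB1.tensorMod F A) := by
  intro r
  induction r with
  | zero =>
    intro j M A F
    have hj : j = 0 := Fin.ext (Nat.lt_one_iff.1 j.2)
    subst hj
    rw [Fin.insertNth_zero']
    exact intNum_cons k d hd M A F
  | succ r ih =>
    intro j M A F
    induction j using Fin.cases with
    | zero =>
      rw [Fin.insertNth_zero']
      exact intNum_cons k d hd M A F
    | succ j' =>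
      have hM : M = Fin.cons (M 0) (Fin.tail M) := (Fin.cons_self_tail M).symm
      rw [hM, Fin.insertNth_succ_cons, intNum_cons k d hd, ih j' (Fin.tail M) A F,
        ih j' (Fin.tail M) A (CohB1.tensorMod F (M 0)), intNum_cons k d hd,
        intNum_cons k d hd]
      have hsw : FGA.intNum k X d (Fin.tail M) (CohB1.tensorMod (CohB1.tensorMod F (M 0)) A) =
          FGA.intNum k X d (Fin.tail M) (CohB1.tensorMod (CohB1.tensorMod F A) (M 0)) :=
        intNum_congr k d hd (Fin.tail M) (swapR F (M 0) A)
      rw [hsw]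
      ring

/-- replacing one entry by a numerically equivalent one does not change the intersection
number -/
theorem intNum_insertNth_congr (d : ℕ) (hd : topologicalKrullDim X ≤ d) {r : ℕ}
    (j : Fin (r + 1)) (M : Fin r → X.Modules) (hM : ∀ i, PicF.IsInvertible (M i))
    (A A' : X.Modules) (hA : PicF.IsInvertible A) (hA' : PicF.IsInvertible A')
    (hNT : ∀ G : X.Modules, Coh.IsCoh G →
      topologicalKrullDim (CohB1.support G) < ((2 : ℕ) : WithBot ℕ∞) →
        Curv2.euler k X (CohB1.tensorMod G A) = Curv2.euler k X (CohB1.tensorMod G A'))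
    (F : X.Modules) (hF : Coh.IsCoh F)
    (hdim : topologicalKrullDim (CohB1.support F) < ((r + 2 : ℕ) : WithBot ℕ∞)) :
    FGA.intNum k X d (Fin.insertNth (α := fun _ => X.Modules) j A M) F =
      FGA.intNum k X d (Fin.insertNth (α := fun _ => X.Modules) j A' M) F := by
  have h : (FGA.intNum k X d (Fin.insertNth (α := fun _ => X.Modules) j A M) F : ℚ) =
      FGA.intNum k X d (Fin.insertNth (α := fun _ => X.Modules) j A' M) F := by
    rw [intNum_insertNth k d hd, intNum_insertNth k d hd]
    have h0 := alt_sum_eq_zero _ (isPolyLT_gD k A A' hA hA' hNT r M hM r F hF hdim)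
    have h1 : (FGA.intNum k X d M (CohB1.tensorMod F A) : ℚ) -
        FGA.intNum k X d M (CohB1.tensorMod F A') = 0 := by
      rw [intNum_eq k d hd, intNum_eq k d hd, ← Finset.sum_sub_distrib, ← h0]
      refine Finset.sum_congr rfl fun I _ => ?_
      rw [gD_eq]
      ring
    linarith
  exact_mod_cast h

/-- **Intersection numbers only depend on the numerical equivalence classes.** -/
theorem intNum_eq_of_numEquiv (d : ℕ) (hd : topologicalKrullDim X ≤ d) {r : ℕ}
    (M M' : Fin r → X.Modules) (hM : ∀ i, PicF.IsInvertible (M i))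
    (hM' : ∀ i, PicF.IsInvertible (M' i))
    (hNT : ∀ (i : Fin r) (G : X.Modules), Coh.IsCoh G →
      topologicalKrullDim (CohB1.support G) < ((2 : ℕ) : WithBot ℕ∞) →
        Curv2.euler k X (CohB1.tensorMod G (M i)) = Curv2.euler k X (CohB1.tensorMod G (M' i)))
    (F : X.Modules) (hF : Coh.IsCoh F)
    (hdim : topologicalKrullDim (CohB1.support F) < ((r + 1 : ℕ) : WithBot ℕ∞)) :
    FGA.intNum k X d M F = FGA.intNum k X d M' F := by
  classical
  cases r with
  | zero =>
    have : M = M' := Subsingleton.elim _ _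
    rw [this]
  | succ r =>
    have key : ∀ S : Finset (Fin (r + 1)),
        FGA.intNum k X d (fun i => if i ∈ S then M' i else M i) F = FGA.intNum k X d M F := by
      intro S
      induction S using Finset.induction_on with
      | empty => simp
      | insert j S hj ih =>
        rw [← ih]
        set T : Fin (r + 1) → X.Modules := fun i => if i ∈ S then M' i else M i with hT
        have hTi : ∀ i, PicF.IsInvertible (T i) := by
          intro i
          simp only [hT]
          split_ifs
          · exact hM' i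
          · exact hM i
        have h1 : (fun i => if i ∈ insert j S then M' i else M i) =
            Fin.insertNth (α := fun _ => X.Modules) j (M' j) (Fin.removeNth j T) := by
          rw [Fin.insertNth_removeNth]
          funext i
          by_cases hij : i = j
          · subst hij
            simp
          · simp [hT, Finset.mem_insert, hij]
        have h2 : T = Fin.insertNth (α := fun _ => X.Modules) j (M j) (Fin.removeNth j T) := by
          have h3 := Fin.insertNth_self_removeNth (α := fun _ => X.Modules) j T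
          have h4 : T j = M j := by simp [hT, hj]
          rw [h4] at h3
          exact h3.symm
        rw [h1]
        conv_rhs => rw [h2]
        exact (intNum_insertNth_congr k d hd j (Fin.removeNth j T)
          (fun i => hTi _) (M j) (M' j) (hM j) (hM' j) (hNT j) F hF hdim).symm
    have := key Finset.univ
    simp only [Finset.mem_univ, if_true] at this
    exact this.symm

end CoreB

section Coeff

open Groth.Agent.Lib.R2H1.DegCartier Groth.Agent.Lib.R2H4FGAAdd Groth.Agent.Lib.R2H4FGAPos
  Groth.Agent.Lib.R2H4FGASnapper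

variable (k : Type u) [Field k] {X : Scheme.{u}} [X.Over (Spec (CommRingCat.of k))]
  [IsProper (X ↘ (Spec (CommRingCat.of k)))]

/-- the coefficient of `n_1 ⋯ n_r` of the Snapper polynomial is, up to sign, the intersection
number -/
theorem coeff_ones_eq_intNum (d : ℕ) (hd : topologicalKrullDim X ≤ d) {r : ℕ}
    (M : Fin r → X.Modules) (F : X.Modules) (P : MvPolynomial (Fin r) ℚ)
    (hdeg : P.totalDegree ≤ r) (hP : ∀ n : Fin r → ℕ, fE k X r M F n = ev n P) :
    MvPolynomial.coeff (Finsupp.equivFunOnFinite.symm fun _ : Fin r => 1) P =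
      (-1 : ℚ) ^ r * (FGA.intNum k X d M F : ℚ) := by
  rw [coeff_ones_eq P (by rw [Fintype.card_fin]; exact hdeg), intNum_eq k d hd, Finset.mul_sum,
    Fintype.card_fin]
  refine Finset.sum_congr rfl fun I _ => ?_
  have hI : I.card ≤ r := by simpa using Finset.card_le_univ I
  rw [hP, ← mul_assoc, ← pow_add]
  congr 1
  have : r + I.card = (r - I.card) + 2 * I.card := by omega
  rw [this, pow_add, pow_mul]
  simp

include k in
/-- the existence of a finite bound for the dimension of a proper scheme over a field -/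
theorem exists_dim_le : ∃ D : ℕ, topologicalKrullDim X ≤ ((D : ℕ) : WithBot ℕ∞) := by
  haveI : CompactSpace X :=
    QuasiCompact.compactSpace_of_compactSpace (X ↘ Spec (CommRingCat.of k))
  have hfin := Groth.Agent.Lib.Helper3.DimCons.topologicalKrullDim_lt_top_of_lft_field k
    (X ↘ Spec (CommRingCat.of k))
  obtain ⟨D, hD⟩ := Groth.Agent.Lib.R2H4NakaiCore.exists_nat_gt_of_lt_top _ hfin
  exact ⟨D, hD.le⟩

/-- the top coefficients of the Snapper polynomials of numerically equivalent invertible
modules agree -/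
theorem coeff_ones_eq_of_numEquiv {r : ℕ} (M M' : Fin r → X.Modules)
    (hM : ∀ i, PicF.IsInvertible (M i)) (hM' : ∀ i, PicF.IsInvertible (M' i))
    (hNT : ∀ (i : Fin r) (G : X.Modules), Coh.IsCoh G →
      topologicalKrullDim (CohB1.support G) < ((2 : ℕ) : WithBot ℕ∞) →
        Curv2.euler k X (CohB1.tensorMod G (M i)) = Curv2.euler k X (CohB1.tensorMod G (M' i)))
    (F : X.Modules) (hF : Coh.IsCoh F)
    (hdim : topologicalKrullDim (CohB1.support F) ≤ ((r : ℕ) : WithBot ℕ∞))
    (P P' : MvPolynomial (Fin r) ℚ) (hP : ∀ n : Fin r → ℕ, fE k X r M F n = ev n P)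
    (hP' : ∀ n : Fin r → ℕ, fE k X r M' F n = ev n P') :
    MvPolynomial.coeff (Finsupp.equivFunOnFinite.symm fun _ : Fin r => 1) P =
      MvPolynomial.coeff (Finsupp.equivFunOnFinite.symm fun _ : Fin r => 1) P' := by
  obtain ⟨D, hD⟩ := exists_dim_le k (X := X)
  have hdeg : P.totalDegree ≤ r :=
    Groth.Agent.Lib.R2H4SnapperCor.totalDegree_le_of_eval k F hF r hdim r M hM P hP
  have hdeg' : P'.totalDegree ≤ r :=
    Groth.Agent.Lib.R2H4SnapperCor.totalDegree_le_of_eval k F hF r hdim r M' hM' P' hP'
  have hlt : topologicalKrullDim (CohB1.support F) < ((r + 1 : ℕ) : WithBot ℕ∞) := by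
    refine lt_of_le_of_lt hdim ?_
    change (((r : ℕ) : ℕ∞) : WithBot ℕ∞) < (((r + 1 : ℕ) : ℕ∞) : WithBot ℕ∞)
    rw [WithBot.coe_lt_coe, Nat.cast_lt]
    exact Nat.lt_succ_self r
  rw [coeff_ones_eq_intNum k D hD M F P hdeg hP, coeff_ones_eq_intNum k D hD M' F P' hdeg' hP',
    intNum_eq_of_numEquiv k D hD M M' hM hM' hNT F hF hlt]

end Coeff

end Groth.Agent.Lib.R2H4NumEquivInt
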