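import Mathlib
import Groth.Prelude
import Groth.Agent.Lib.R2H4NumEquivInt
import Groth.Agent.Lib.R2H4SnapperGen
import Groth.Agent.Lib.R2H4AmplePosMixed
import Groth.Agent.Lib.R2H3AmpleSV
import Groth.Agent.Lib.Helper23AmpleIso
import Groth.Agent.Lib.Helper23PB

/-!
# Multi-additivity of the intersection numbers (helper4, round 2)

* `iN k N F` : the intersection number `(N_1 ⋯ N_r · F)` of the invertible modules `N_i`
  themselves (the coefficient of `n_1 ⋯ n_r` of `χ(F ⊗ N^n)`), as an alternating sum;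
* `iN_insertNth`, `iN_add`, `iN_eq_zero`, `iN_congr` : recursion, additivity, vanishing;
* `iN_insertNth_tensor`, `iN_insertNth_pow` : additivity and homogeneity in each slot;
* `iN_eq_sum` : the dévissage formula;
* `iN_quotMod_eq` : restriction to a closed subscheme;
* `Φ`, `Φ_expand` : the multilinear expansion for the modules `L^b ⊗ H^a`.
-/

set_option autoImplicit false
set_option linter.style.haveILetI false
set_option linter.unusedSectionVars false
universe u
open CategoryTheory CategoryTheory.Limits AlgebraicGeometry TopologicalSpace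

noncomputable section

namespace Groth.Agent.Lib.R2H4MultiAdd

open Groth.Agent.Lib.R2H4NumPoly Groth.Agent.Lib.R2H4TensorPows Groth.Agent.Lib.R2H4Snapper
  Groth.Agent.Lib.R2H4FGASnapper Groth.Agent.Lib.R2H4FGAAdd Groth.Agent.Lib.R2H4FGAPos
  Groth.Agent.Lib.R2H4SurfPos Groth.Agent.Lib.R2H4NumEquivInt
  Groth.Agent.Lib.R2H4SnapperCor Groth.Agent.Lib.R2H4SnapperRef Groth.Agent.Lib.R2H4SnapperGen

section Def

variable (k : Type u) [Field k] {X : Scheme.{u}} [X.Over (Spec (CommRingCat.of k))]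

/-- the intersection number `(N_1 ⋯ N_r · F)`, as an alternating sum of Euler characteristics -/
def iN {r : ℕ} (N : Fin r → X.Modules) (F : X.Modules) : ℚ :=
  ∑ I : Finset (Fin r), (-1 : ℚ) ^ (r - I.card) * fE k X r N F (ind I)

end Def

section Basic

variable (k : Type u) [Field k] {X : Scheme.{u}} [X.Over (Spec (CommRingCat.of k))]
  [IsProper (X ↘ Spec (CommRingCat.of k))]

theorem iN_eq_intNum (d : ℕ) (hd : topologicalKrullDim X ≤ d) {r : ℕ} (N : Fin r → X.Modules)
    (F : X.Modules) : iN k N F = (-1 : ℚ) ^ r * (FGA.intNum k X d N F : ℚ) := by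
  unfold iN
  rw [intNum_eq k d hd, Finset.mul_sum]
  refine Finset.sum_congr rfl fun I _ => ?_
  have hI : I.card ≤ r := by simpa using Finset.card_le_univ I
  rw [← mul_assoc, ← pow_add]
  congr 1
  have : r + I.card = (r - I.card) + 2 * I.card := by omega
  rw [this, pow_add, pow_mul]
  simp

/-- the coefficient of `n_1 ⋯ n_r` of the Snapper polynomial -/
theorem coeff_ones_eq_iN {r : ℕ} (N : Fin r → X.Modules) (F : X.Modules)
    (P : MvPolynomial (Fin r) ℚ) (hdeg : P.totalDegree ≤ r)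
    (hP : ∀ n : Fin r → ℕ, fE k X r N F n = ev n P) :
    MvPolynomial.coeff (Finsupp.equivFunOnFinite.symm fun _ : Fin r => 1) P = iN k N F := by
  rw [coeff_ones_eq P (by rw [Fintype.card_fin]; exact hdeg), Fintype.card_fin]
  unfold iN
  exact Finset.sum_congr rfl fun I _ => by rw [hP]

theorem iN_congr {r : ℕ} (N : Fin r → X.Modules) {F G : X.Modules} (e : F ≅ G) :
    iN k N F = iN k N G := by
  unfold iN
  exact Finset.sum_congr rfl fun I _ => by rw [fE_congr k r N e]

/-- recursion at an arbitrary position -/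
theorem iN_insertNth {r : ℕ} (j : Fin (r + 1)) (N : Fin r → X.Modules) (A F : X.Modules) :
    iN k (Fin.insertNth (α := fun _ => X.Modules) j A N) F =
      iN k N (CohB1.tensorMod F A) - iN k N F := by
  obtain ⟨d, hd⟩ := exists_dim_le k (X := X)
  rw [iN_eq_intNum k d hd, iN_eq_intNum k d hd, iN_eq_intNum k d hd, intNum_insertNth k d hd,
    pow_succ]
  ring

/-- additivity in short exact sequences -/
theorem iN_add {r : ℕ} (N : Fin r → X.Modules) (hN : ∀ i, PicF.IsInvertible (N i))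
    (S : ShortComplex X.Modules) (hS : S.ShortExact)
    (c₁ : Coh.IsCoh S.X₁) (c₂ : Coh.IsCoh S.X₂) (c₃ : Coh.IsCoh S.X₃) :
    iN k N S.X₂ = iN k N S.X₁ + iN k N S.X₃ := by
  obtain ⟨d, hd⟩ := exists_dim_le k (X := X)
  rw [iN_eq_intNum k d hd, iN_eq_intNum k d hd, iN_eq_intNum k d hd,
    intNum_add k d hd N hN S hS c₁ c₂ c₃]
  push_cast
  ring

/-- vanishing when the support is too small -/
theorem iN_eq_zero {r : ℕ} (N : Fin r → X.Modules) (hN : ∀ i, PicF.IsInvertible (N i))
    (F : X.Modules) (hF : Coh.IsCoh F)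
    (hr : topologicalKrullDim (CohB1.support F) < ((r : ℕ) : WithBot ℕ∞)) : iN k N F = 0 := by
  obtain ⟨d, hd⟩ := exists_dim_le k (X := X)
  rw [iN_eq_intNum k d hd, s3231 k d hd N hN F hF hr]
  simp

end Basic

section Slots

variable (k : Type u) [Field k] {X : Scheme.{u}} [X.Over (Spec (CommRingCat.of k))]
  [IsProper (X ↘ Spec (CommRingCat.of k))]

theorem isInvertible_insertNth {r : ℕ} (j : Fin (r + 1)) (A : X.Modules)
    (hA : PicF.IsInvertible A) (N : Fin r → X.Modules) (hN : ∀ i, PicF.IsInvertible (N i)) :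
    ∀ i, PicF.IsInvertible (Fin.insertNth (α := fun _ => X.Modules) j A N i) := by
  intro i
  rcases Fin.eq_self_or_eq_succAbove j i with h | ⟨i', h⟩
  · rw [h, Fin.insertNth_apply_same]; exact hA
  · rw [h, Fin.insertNth_apply_succAbove]; exact hN i'

/-- the iso `(F ⊗ B) ⊗ A ≅ F ⊗ (A ⊗ B)` -/
def assocSwap (F A B : X.Modules) :
    CohB1.tensorMod (CohB1.tensorMod F B) A ≅ CohB1.tensorMod F (CohB1.tensorMod A B) :=
  tAssoc F B A ≪≫ tIso (Iso.refl F) (tComm B A)

/-- **additivity in each slot** -/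
theorem iN_insertNth_tensor {r : ℕ} (j : Fin (r + 1)) (N : Fin r → X.Modules)
    (hN : ∀ i, PicF.IsInvertible (N i)) (A B : X.Modules) (hA : PicF.IsInvertible A)
    (hB : PicF.IsInvertible B) (F : X.Modules) (hF : Coh.IsCoh F)
    (hr : topologicalKrullDim (CohB1.support F) < ((r + 2 : ℕ) : WithBot ℕ∞)) :
    iN k (Fin.insertNth (α := fun _ => X.Modules) j (CohB1.tensorMod A B) N) F =
      iN k (Fin.insertNth (α := fun _ => X.Modules) j A N) F +
        iN k (Fin.insertNth (α := fun _ => X.Modules) j B N) F := by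
  have hN1 := isInvertible_insertNth (0 : Fin (r + 1)) A hA N hN
  have hN2 := isInvertible_insertNth (0 : Fin (r + 2)) B hB _ hN1
  have hvan := iN_eq_zero k _ hN2 F hF hr
  rw [iN_insertNth, iN_insertNth, iN_insertNth] at hvan
  rw [iN_insertNth, iN_insertNth, iN_insertNth, ← iN_congr k N (assocSwap F A B)]
  linarith

/-- the unit in a slot gives zero -/
theorem iN_insertNth_unit {r : ℕ} (j : Fin (r + 1)) (N : Fin r → X.Modules) (F : X.Modules) :
    iN k (Fin.insertNth (α := fun _ => X.Modules) j (Coh.structureModule X) N) F = 0 := by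
  rw [iN_insertNth, iN_congr k N (rUnit F), sub_self]

/-- isomorphic modules in a slot give the same number -/
theorem iN_insertNth_congr {r : ℕ} (j : Fin (r + 1)) (N : Fin r → X.Modules) {A A' : X.Modules}
    (e : A ≅ A') (F : X.Modules) :
    iN k (Fin.insertNth (α := fun _ => X.Modules) j A N) F =
      iN k (Fin.insertNth (α := fun _ => X.Modules) j A' N) F := by
  rw [iN_insertNth, iN_insertNth, iN_congr k N (tIso (Iso.refl F) e)]

/-- **homogeneity in each slot** -/
theorem iN_insertNth_pow {r : ℕ} (j : Fin (r + 1)) (N : Fin r → X.Modules)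
    (hN : ∀ i, PicF.IsInvertible (N i)) (A : X.Modules) (hA : PicF.IsInvertible A)
    (F : X.Modules) (hF : Coh.IsCoh F)
    (hr : topologicalKrullDim (CohB1.support F) < ((r + 2 : ℕ) : WithBot ℕ∞)) :
    ∀ n : ℕ, iN k (Fin.insertNth (α := fun _ => X.Modules) j (CohB1.tensorPow A n) N) F =
      n * iN k (Fin.insertNth (α := fun _ => X.Modules) j A N) F
  | 0 => by
    rw [Nat.cast_zero, zero_mul]
    exact iN_insertNth_unit k j N F
  | n + 1 => by
    have h1 : CohB1.tensorPow A (n + 1) = CohB1.tensorMod (CohB1.tensorPow A n) A := rfl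
    rw [h1, iN_insertNth_tensor k j N hN _ _
      (Groth.Agent.Lib.Helper23.SecTw.isInvertible_tensorPow hA n) hA F hF hr,
      iN_insertNth_pow j N hN A hA F hF hr n]
    push_cast
    ring

end Slots

section Sum

variable (k : Type u) [Field k] {X : Scheme.{u}} [X.Over (Spec (CommRingCat.of k))]
  [IsProper (X ↘ Spec (CommRingCat.of k))]

/-- **the dévissage formula**: the intersection number of a coherent module of dimension `≤ d`
as a finite sum over the `d`-dimensional points of its support -/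
theorem iN_eq_sum (F : X.Modules) (hF : Coh.IsCoh F) (d : ℕ)
    (hsupp : topologicalKrullDim (CohB1.support F) ≤ ((d : ℕ) : WithBot ℕ∞))
    (N : Fin d → X.Modules) (hN : ∀ i, PicF.IsInvertible (N i)) :
    ∃ T : Finset X,
      (∀ ξ ∈ T, topologicalKrullDim (closure ({ξ} : Set X)) = ((d : ℕ) : WithBot ℕ∞) ∧
        lenE F ξ ≠ 0 ∧ lenE F ξ ≠ ⊤) ∧
      (∀ ξ : X, topologicalKrullDim (closure ({ξ} : Set X)) = ((d : ℕ) : WithBot ℕ∞) →
        lenE F ξ ≠ 0 → ξ ∈ T) ∧
      iN k N F = ∑ ξ ∈ T, ((lenE F ξ).toNat : ℚ) * iN k N (ClSub.quotMod (zI ξ)) := by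
  classical
  obtain ⟨P, hPdeg, hP⟩ := s1528 k F hF d hsupp d N hN
  have hex : ∀ ξ : X, ∃ Q : MvPolynomial (Fin d) ℚ,
      topologicalKrullDim (closure ({ξ} : Set X)) = ((d : ℕ) : WithBot ℕ∞) →
      Q.totalDegree ≤ d ∧ ∀ n : Fin d → ℕ, fE k X d N (ClSub.quotMod (zI ξ)) n = ev n Q := by
    intro ξ
    by_cases h : topologicalKrullDim (closure ({ξ} : Set X)) = ((d : ℕ) : WithBot ℕ∞)
    · have hsupp' : topologicalKrullDim (CohB1.support (ClSub.quotMod (zI ξ))) ≤
          ((d : ℕ) : WithBot ℕ∞) :=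
        (Groth.Agent.Lib.Helper8.Conn.dim_mono (support_quotMod_zI ξ)).trans h.le
      obtain ⟨Q, hQdeg, hQ⟩ := s1528 k _ (isCoh_quotMod k (zI ξ)) d hsupp' d N hN
      exact ⟨Q, fun _ => ⟨hQdeg, fun n => hQ n⟩⟩
    · exact ⟨0, fun h' => absurd h' h⟩
  choose Q hQ using hex
  obtain ⟨T, hT1, hT2, hsum⟩ := coeff_ones_eq_sum k F hF d hsupp N hN P (fun n => hP n) Q
    (fun ξ hξ => (hQ ξ hξ).2)
  refine ⟨T, hT1, hT2, ?_⟩
  rw [← coeff_ones_eq_iN k N F P hPdeg (fun n => hP n), hsum]
  refine Finset.sum_congr rfl fun ξ hξ => ?_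
  obtain ⟨hdim, -, -⟩ := hT1 ξ hξ
  rw [coeff_ones_eq_iN k N _ (Q ξ) (hQ ξ hdim).1 (hQ ξ hdim).2]

/-- nonnegativity passes from the integral closed subschemes to all coherent modules -/
theorem iN_nonneg_of_points (d : ℕ) (N : Fin d → X.Modules) (hN : ∀ i, PicF.IsInvertible (N i))
    (hpt : ∀ ξ : X, topologicalKrullDim (closure ({ξ} : Set X)) = ((d : ℕ) : WithBot ℕ∞) →
      0 ≤ iN k N (ClSub.quotMod (zI ξ)))
    (F : X.Modules) (hF : Coh.IsCoh F)
    (hsupp : topologicalKrullDim (CohB1.support F) ≤ ((d : ℕ) : WithBot ℕ∞)) :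
    0 ≤ iN k N F := by
  obtain ⟨T, hT1, -, hsum⟩ := iN_eq_sum k F hF d hsupp N hN
  rw [hsum]
  refine Finset.sum_nonneg fun ξ hξ => ?_
  exact mul_nonneg (Nat.cast_nonneg _) (hpt ξ (hT1 ξ hξ).1)

/-- restriction to a closed subscheme -/
theorem iN_quotMod_eq (D : X.IdealSheafData) {r : ℕ} (N : Fin r → X.Modules)
    (hN : ∀ i, PicF.IsInvertible (N i)) :
    iN k N (ClSub.quotMod D) =
      @iN k _ D.subscheme ⟨D.subschemeι ≫ (X ↘ (Spec (CommRingCat.of k)))⟩ r
        (fun i => (Scheme.Modules.pullback D.subschemeι).obj (N i))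
        (Coh.structureModule D.subscheme) := by
  unfold iN
  refine Finset.sum_congr rfl fun I _ => ?_
  unfold fE
  rw [fE_quotMod_eq k D r N hN (ind I)]

end Sum

section Multi

variable (k : Type u) [Field k] {X : Scheme.{u}} [X.Over (Spec (CommRingCat.of k))]
  [IsProper (X ↘ Spec (CommRingCat.of k))]

/-- the module `L^b ⊗ H^a` for `v = (b, a)` -/
def mono2 (L H : X.Modules) (v : ℕ × ℕ) : X.Modules :=
  CohB1.tensorMod (CohB1.tensorPow L v.1) (CohB1.tensorPow H v.2)

omit [X.Over (Spec (CommRingCat.of k))] [IsProper (X ↘ Spec (CommRingCat.of k))] in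
theorem isInvertible_mono2 {L H : X.Modules} (hL : PicF.IsInvertible L)
    (hH : PicF.IsInvertible H) (v : ℕ × ℕ) : PicF.IsInvertible (mono2 L H v) :=
  Groth.Agent.Lib.Helper23.SecTw.isInvertible_tensorMod
    (Groth.Agent.Lib.Helper23.SecTw.isInvertible_tensorPow hL _)
    (Groth.Agent.Lib.Helper23.SecTw.isInvertible_tensorPow hH _)

/-- the middle four interchange -/
def midFour (A B C D : X.Modules) :
    CohB1.tensorMod (CohB1.tensorMod A B) (CohB1.tensorMod C D) ≅
      CohB1.tensorMod (CohB1.tensorMod A C) (CohB1.tensorMod B D) :=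
  tAssoc A B (CohB1.tensorMod C D) ≪≫
    tIso (Iso.refl A) ((tAssoc B C D).symm ≪≫ tIso (tComm B C) (Iso.refl D) ≪≫ tAssoc C B D) ≪≫
    (tAssoc A C (CohB1.tensorMod B D)).symm

/-- `L^(b+b') ⊗ H^(a+a') ≅ (L^b ⊗ H^a) ⊗ (L^b' ⊗ H^a')` -/
def mono2Add (L H : X.Modules) (u w : ℕ × ℕ) :
    mono2 L H (u + w) ≅ CohB1.tensorMod (mono2 L H u) (mono2 L H w) :=
  tIso (Groth.Agent.Lib.R2H3.AmpleSV.tensorPowAdd L u.1 w.1).symm
      (Groth.Agent.Lib.R2H3.AmpleSV.tensorPowAdd H u.2 w.2).symm ≪≫
    midFour _ _ _ _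

/-- `L^0 ⊗ H^0 ≅ O` -/
def mono2Zero (L H : X.Modules) : mono2 L H 0 ≅ Coh.structureModule X :=
  lUnit (Coh.structureModule X)

/-- the function underlying the multilinear form -/
def Φfun (L H F : X.Modules) (e : ℕ) (v : Fin e → ℕ × ℕ) : ℚ :=
  iN k (fun i => mono2 L H (v i)) F

omit [X.Over (Spec (CommRingCat.of k))] [IsProper (X ↘ Spec (CommRingCat.of k))] in
theorem update_eq_insertNth (L H : X.Modules) {r : ℕ} (v : Fin (r + 1) → ℕ × ℕ) (i : Fin (r + 1))
    (x : ℕ × ℕ) :
    (fun j => mono2 L H (Function.update v i x j)) =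
      Fin.insertNth (α := fun _ => X.Modules) i (mono2 L H x)
        (fun j => mono2 L H (v (i.succAbove j))) := by
  funext j
  rcases Fin.eq_self_or_eq_succAbove i j with h | ⟨j', h⟩
  · rw [h, Function.update_self, Fin.insertNth_apply_same]
  · rw [h, Function.update_of_ne (Fin.succAbove_ne i j'), Fin.insertNth_apply_succAbove]

theorem Φfun_update_add {L H F : X.Modules} (hL : PicF.IsInvertible L) (hH : PicF.IsInvertible H)
    (hF : Coh.IsCoh F) (e : ℕ)
    (hdim : topologicalKrullDim (CohB1.support F) ≤ ((e : ℕ) : WithBot ℕ∞))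
    (v : Fin e → ℕ × ℕ) (i : Fin e) (x y : ℕ × ℕ) :
    Φfun k L H F e (Function.update v i (x + y)) =
      Φfun k L H F e (Function.update v i x) + Φfun k L H F e (Function.update v i y) := by
  cases e with
  | zero => exact i.elim0
  | succ r =>
    unfold Φfun
    rw [update_eq_insertNth, update_eq_insertNth, update_eq_insertNth,
      iN_insertNth_congr k i _ (mono2Add L H x y)]
    refine iN_insertNth_tensor k i _ (fun j => isInvertible_mono2 hL hH _) _ _
      (isInvertible_mono2 hL hH _) (isInvertible_mono2 hL hH _) F hF ?_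
    refine lt_of_le_of_lt hdim ?_
    change (((r + 1 : ℕ) : ℕ∞) : WithBot ℕ∞) < (((r + 2 : ℕ) : ℕ∞) : WithBot ℕ∞)
    rw [WithBot.coe_lt_coe, Nat.cast_lt]
    omega

theorem Φfun_update_zero (L H F : X.Modules) (e : ℕ) (v : Fin e → ℕ × ℕ) (i : Fin e) :
    Φfun k L H F e (Function.update v i 0) = 0 := by
  cases e with
  | zero => exact i.elim0
  | succ r =>
    unfold Φfun
    rw [update_eq_insertNth, iN_insertNth_congr k i _ (mono2Zero L H)]
    exact iN_insertNth_unit k i _ F

theorem Φfun_update_smul {L H F : X.Modules} (hL : PicF.IsInvertible L) (hH : PicF.IsInvertible H)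
    (hF : Coh.IsCoh F) (e : ℕ)
    (hdim : topologicalKrullDim (CohB1.support F) ≤ ((e : ℕ) : WithBot ℕ∞))
    (v : Fin e → ℕ × ℕ) (i : Fin e) (c : ℕ) (x : ℕ × ℕ) :
    Φfun k L H F e (Function.update v i (c • x)) =
      c • Φfun k L H F e (Function.update v i x) := by
  induction c with
  | zero => rw [zero_smul, zero_smul]; exact Φfun_update_zero k L H F e v i
  | succ c ih =>
    rw [succ_nsmul, succ_nsmul, Φfun_update_add k hL hH hF e hdim, ih]

/-- the multilinear form `(v_1, …, v_e) ↦ (L^{b_1} ⊗ H^{a_1} ⋯ L^{b_e} ⊗ H^{a_e} · F)` -/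
def Φ {L H F : X.Modules} (hL : PicF.IsInvertible L) (hH : PicF.IsInvertible H)
    (hF : Coh.IsCoh F) (e : ℕ)
    (hdim : topologicalKrullDim (CohB1.support F) ≤ ((e : ℕ) : WithBot ℕ∞)) :
    MultilinearMap ℕ (fun _ : Fin e => ℕ × ℕ) ℚ where
  toFun := Φfun k L H F e
  map_update_add' := by
    intro inst v i x y
    rw [Subsingleton.elim inst (instDecidableEqFin e)]
    exact Φfun_update_add k hL hH hF e hdim v i x y
  map_update_smul' := by
    intro inst v i c x
    rw [Subsingleton.elim inst (instDecidableEqFin e)]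
    exact Φfun_update_smul k hL hH hF e hdim v i c x

/-- the basis vectors -/
def bvec (b : Bool) : ℕ × ℕ := if b then (1, 0) else (0, 1)

/-- **the multilinear expansion** -/
theorem Φfun_expand {L H F : X.Modules} (hL : PicF.IsInvertible L) (hH : PicF.IsInvertible H)
    (hF : Coh.IsCoh F) (e : ℕ)
    (hdim : topologicalKrullDim (CohB1.support F) ≤ ((e : ℕ) : WithBot ℕ∞))
    (v : Fin e → ℕ × ℕ) :
    Φfun k L H F e v = ∑ r : Fin e → Bool,
      (∏ i, ((if r i then (v i).1 else (v i).2 : ℕ) : ℚ)) *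
        Φfun k L H F e (fun i => bvec (r i)) := by
  set f := Φ k hL hH hF e hdim with hf
  have hv : v = fun i => ∑ b : Bool, (if b then (v i).1 else (v i).2) • bvec b := by
    funext i
    rw [Fintype.sum_bool]
    simp only [bvec, if_true, Bool.false_eq_true, if_false]
    ext <;> simp
  have h1 : Φfun k L H F e v =
      f (fun i => ∑ b : Bool, (if b then (v i).1 else (v i).2) • bvec b) :=
    congrArg f hv
  rw [h1, MultilinearMap.map_sum]
  refine Finset.sum_congr rfl fun r _ => ?_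
  rw [MultilinearMap.map_smul_univ, nsmul_eq_mul]
  push_cast
  rfl

end Multi

section Congr

variable (k : Type u) [Field k] {X : Scheme.{u}} [X.Over (Spec (CommRingCat.of k))]

/-- isomorphisms in all slots -/
def powsIsoSlots (F : X.Modules) : ∀ (r : ℕ) (N N' : Fin r → X.Modules)
    (_ : ∀ i, N i ≅ N' i) (n : Fin r → ℕ),
    Curv2.tensorPows F r N n ≅ Curv2.tensorPows F r N' n
  | 0, _, _, _, _ => Iso.refl _
  | r + 1, _, _, e, n =>
    tIso (powsIsoSlots F r _ _ (fun i => e i.castSucc) (fun i => n i.castSucc))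
      (Groth.Agent.Lib.Helper23.AmpleIso.tensorPowIso (e (Fin.last r)) (n (Fin.last r)))

theorem iN_congr_slots {r : ℕ} (N N' : Fin r → X.Modules) (e : ∀ i, N i ≅ N' i)
    (F : X.Modules) : iN k N F = iN k N' F := by
  unfold iN
  refine Finset.sum_congr rfl fun I _ => ?_
  unfold fE
  rw [Groth.Agent.Lib.R2H1.DegCartier.euler_congr k (powsIsoSlots F r N N' e (ind I))]

/-- the basis vectors give `L` and `H` -/
def mono2Bvec (L H : X.Modules) : ∀ b : Bool, mono2 L H (bvec b) ≅ (if b then L else H)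
  | false => show CohB1.tensorMod (Coh.structureModule X)
      (CohB1.tensorMod (Coh.structureModule X) H) ≅ H from lUnit _ ≪≫ lUnit H
  | true => show CohB1.tensorMod (CohB1.tensorMod (Coh.structureModule X) L)
      (Coh.structureModule X) ≅ L from rUnit _ ≪≫ lUnit L

theorem Φfun_bvec (L H F : X.Modules) (e : ℕ) (r : Fin e → Bool) :
    Φfun k L H F e (fun i => bvec (r i)) = iN k (fun i => if r i then L else H) F :=
  iN_congr_slots k _ _ (fun i => mono2Bvec L H (r i)) F

omit [X.Over (Spec (CommRingCat.of k))] in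
/-- pullbacks of the modules `L^b ⊗ H^a` -/
theorem nonempty_pullback_mono2_iso {Y : Scheme.{u}} (f : Y ⟶ X) {L H : X.Modules}
    (hL : PicF.IsInvertible L) (hH : PicF.IsInvertible H) (v : ℕ × ℕ) :
    Nonempty ((Scheme.Modules.pullback f).obj (mono2 L H v) ≅
      mono2 ((Scheme.Modules.pullback f).obj L) ((Scheme.Modules.pullback f).obj H) v) := by
  obtain ⟨e1⟩ := Groth.Agent.Lib.Helper23.PB.nonempty_pullback_tensorMod_iso f
    (CohB1.tensorPow L v.1) (CohB1.tensorPow H v.2)
    (Groth.Agent.Lib.Helper23.SecTw.isInvertible_tensorPow hL _)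
    (Groth.Agent.Lib.Helper23.SecTw.isInvertible_tensorPow hH _)
  obtain ⟨e2⟩ := Groth.Agent.Lib.Helper23.PB.nonempty_pullback_tensorPow_iso f L hL v.1
  obtain ⟨e3⟩ := Groth.Agent.Lib.Helper23.PB.nonempty_pullback_tensorPow_iso f H hH v.2
  exact ⟨e1 ≪≫ tIso e2 e3⟩

end Congr

section Split

variable (k : Type u) [Field k] {X : Scheme.{u}} [X.Over (Spec (CommRingCat.of k))]
  [IsProper (X ↘ Spec (CommRingCat.of k))]

/-- splitting the first slot: `P = b Q + a R` -/
theorem Φfun_split {L H F : X.Modules} (hL : PicF.IsInvertible L) (hH : PicF.IsInvertible H)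
    (hF : Coh.IsCoh F) (e : ℕ)
    (hdim : topologicalKrullDim (CohB1.support F) ≤ ((e + 1 : ℕ) : WithBot ℕ∞)) (a b : ℕ) :
    Φfun k L H F (e + 1) (fun _ => (b, a)) =
      (b : ℚ) * Φfun k L H F (e + 1) (Function.update (fun _ => (b, a)) 0 (1, 0)) +
        (a : ℚ) * Φfun k L H F (e + 1) (Function.update (fun _ => (b, a)) 0 (0, 1)) := by
  set f := Φ k hL hH hF (e + 1) hdim with hf
  have h1 : (fun _ : Fin (e + 1) => ((b, a) : ℕ × ℕ)) =
      Function.update (fun _ => (b, a)) 0 (b • ((1, 0) : ℕ × ℕ) + a • ((0, 1) : ℕ × ℕ)) := by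
    have : b • ((1, 0) : ℕ × ℕ) + a • ((0, 1) : ℕ × ℕ) = (b, a) := by
      ext <;> simp
    rw [this]
    exact (Function.update_eq_self 0 _).symm
  have h2 : Φfun k L H F (e + 1) (fun _ => (b, a)) = f (fun _ => (b, a)) := rfl
  have h3 : f (fun _ => (b, a)) = f (Function.update (fun _ => (b, a)) 0
      (b • ((1, 0) : ℕ × ℕ) + a • ((0, 1) : ℕ × ℕ))) := congrArg f h1
  rw [h2, h3, f.map_update_add, f.map_update_smul, f.map_update_smul, nsmul_eq_mul, nsmul_eq_mul]
  rfl

/-- the lower bound for the second part: `R ≥ a^e c_false` -/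
theorem Φfun_lower {L H F : X.Modules} (hL : PicF.IsInvertible L) (hH : PicF.IsInvertible H)
    (hF : Coh.IsCoh F) (e : ℕ)
    (hdim : topologicalKrullDim (CohB1.support F) ≤ ((e + 1 : ℕ) : WithBot ℕ∞)) (a b : ℕ)
    (hnn : ∀ r : Fin (e + 1) → Bool, r ≠ (fun _ => true) →
      0 ≤ Φfun k L H F (e + 1) (fun i => bvec (r i))) :
    (a : ℚ) ^ e * Φfun k L H F (e + 1) (fun i => bvec ((fun _ => false : Fin (e + 1) → Bool) i)) ≤
      Φfun k L H F (e + 1) (Function.update (fun _ => (b, a)) 0 (0, 1)) := by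
  classical
  rw [Φfun_expand k hL hH hF (e + 1) hdim (Function.update (fun _ => (b, a)) 0 (0, 1))]
  set u : Fin (e + 1) → ℕ × ℕ := Function.update (fun _ => (b, a)) 0 (0, 1) with hu
  have hu0 : u 0 = (0, 1) := by rw [hu, Function.update_self]
  have hus : ∀ i : Fin e, u i.succ = (b, a) := fun i => by
    rw [hu, Function.update_of_ne (Fin.succ_ne_zero i)]
  have hnonneg : ∀ r ∈ (Finset.univ : Finset (Fin (e + 1) → Bool)),
      0 ≤ (∏ i, ((if r i then (u i).1 else (u i).2 : ℕ) : ℚ)) *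
        Φfun k L H F (e + 1) (fun i => bvec (r i)) := by
    intro r _
    by_cases hr : r = fun _ => true
    · have : (∏ i, ((if r i then (u i).1 else (u i).2 : ℕ) : ℚ)) = 0 := by
        refine Finset.prod_eq_zero (Finset.mem_univ (0 : Fin (e + 1))) ?_
        rw [hr, hu0]
        simp
      rw [this, zero_mul]
    · exact mul_nonneg (Finset.prod_nonneg fun i _ => Nat.cast_nonneg _) (hnn r hr)
  have hsingle := Finset.single_le_sum hnonneg
    (Finset.mem_univ (fun _ => false : Fin (e + 1) → Bool))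
  refine le_trans (le_of_eq ?_) hsingle
  congr 1
  rw [Fin.prod_univ_succ]
  simp only [Bool.false_eq_true, if_false, hu0, hus]
  simp

end Split

end Groth.Agent.Lib.R2H4MultiAdd
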