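import Mathlib
import Groth.Agent.Lib.R2H4NumPoly

set_option autoImplicit false
set_option linter.unusedSectionVars false
open MvPolynomial Finset

noncomputable section

namespace Groth.Agent.Lib.R2H4RRAlg

open Groth.Agent.Lib.R2H4NumPoly fwdDiff

/-- expansion of a polynomial in one variable -/
theorem eval_fin_one (p : MvPolynomial (Fin 1) ℚ) (d : ℕ) (hdeg : p.totalDegree ≤ d) (r : ℚ) :
    MvPolynomial.eval (fun _ => r) p =
      ∑ i ∈ Finset.range (d + 1), MvPolynomial.coeff (Finsupp.single 0 i) p * r ^ i := by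
  classical
  rw [MvPolynomial.eval_eq']
  simp only [Fin.prod_univ_one]
  let φ : ℕ ↪ (Fin 1 →₀ ℕ) := ⟨fun i => Finsupp.single 0 i, Finsupp.single_injective 0⟩
  have h1 : ∑ i ∈ Finset.range (d + 1), MvPolynomial.coeff (Finsupp.single 0 i) p * r ^ i =
      ∑ m ∈ (Finset.range (d + 1)).map φ, MvPolynomial.coeff m p * r ^ (m 0) := by
    rw [Finset.sum_map]
    refine Finset.sum_congr rfl fun i _ => ?_
    simp [φ]
  rw [h1]
  have hm : ∀ m : Fin 1 →₀ ℕ, m = Finsupp.single 0 (m 0) := by
    intro m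
    ext
    simp
  refine Finset.sum_subset ?_ ?_
  · intro m hmem
    rw [Finset.mem_map]
    refine ⟨m 0, ?_, (hm m).symm⟩
    rw [Finset.mem_range]
    have h2 := (MvPolynomial.le_totalDegree hmem).trans hdeg
    have h3 : (m.sum fun _ e => e) = m 0 := by
      conv_lhs => rw [hm m]
      rw [Finsupp.sum_single_index rfl]
    omega
  · intro m _ hnot
    rw [MvPolynomial.notMem_support_iff.1 hnot, zero_mul]

/-- the alternating sum over subsets only depends on cardinalities -/
theorem alt_sum_card (d : ℕ) (G : ℕ → ℚ) :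
    ∑ t : Finset (Fin d), (-1 : ℚ) ^ (d - t.card) * G t.card =
      ∑ j ∈ Finset.range (d + 1), (d.choose j : ℚ) * ((-1 : ℚ) ^ (d - j) * G j) := by
  have h := Finset.sum_powerset_apply_card (fun j => (-1 : ℚ) ^ (d - j) * G j)
    (x := (Finset.univ : Finset (Fin d)))
  rw [Finset.powerset_univ, Finset.card_univ, Fintype.card_fin] at h
  rw [h]
  refine Finset.sum_congr rfl fun j _ => ?_
  rw [nsmul_eq_mul]

/-- the `d`-th difference of a polynomial of degree `≤ d` is `d!` times its leading coefficient -/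
theorem fwd_identity (d : ℕ) (a : ℕ → ℚ) :
    ∑ j ∈ Finset.range (d + 1), (d.choose j : ℚ) *
      ((-1 : ℚ) ^ (d - j) * (∑ i ∈ Finset.range (d + 1), a i * (j : ℚ) ^ i)) =
      (d.factorial : ℚ) * a d := by
  set G : ℚ → ℚ := fun r => ∑ i ∈ Finset.range (d + 1), a i * r ^ i with hG
  have h1 := fwdDiff_iter_eq_sum_shift (1 : ℚ) G d 0
  have h2 : (fwdDiff (1 : ℚ))^[d] G = fun _ => (d.factorial : ℚ) * a d := by
    have hsplit : G = (fun r : ℚ => ∑ k ∈ Finset.range d, a k * r ^ k) +
        a d • (fun r : ℚ => r ^ d) := by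
      funext r
      simp only [hG, Pi.add_apply, Pi.smul_apply, smul_eq_mul]
      rw [Finset.sum_range_succ]
    rw [hsplit, fwdDiff_iter_add, fwdDiff_iter_const_smul, fwdDiff_iter_sum_mul_pow_eq_zero,
      fwdDiff_iter_eq_factorial, zero_add]
    funext r
    simp [mul_comm]
  rw [h2] at h1
  have h3 : (d.factorial : ℚ) * a d =
      ∑ k ∈ range (d + 1), ((-1 : ℤ) ^ (d - k) * (d.choose k : ℤ)) • G (0 + k • (1 : ℚ)) := h1
  rw [h3]
  refine Finset.sum_congr rfl fun j _ => ?_
  simp only [zero_add, nsmul_eq_mul, mul_one, zsmul_eq_mul, hG]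
  push_cast
  ring

end Groth.Agent.Lib.R2H4RRAlg
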