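import Mathlib
import Groth.Prelude
import Groth.Agent.Lib.R2H4AmplePos
import Groth.Agent.Lib.R2H4RRAlg
import Groth.Agent.Lib.R2H3AmpleSV

set_option autoImplicit false
set_option linter.style.haveILetI false
set_option linter.unusedSectionVars false
universe u
open CategoryTheory CategoryTheory.Limits AlgebraicGeometry TopologicalSpace

noncomputable section

namespace Groth.Agent.Lib.R2H4AsympRR

open Groth.Agent.Lib.R2H4NumPoly Groth.Agent.Lib.R2H4TensorPows Groth.Agent.Lib.R2H4Snapper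
  Groth.Agent.Lib.R2H4SnapperCor Groth.Agent.Lib.R2H4SnapperRef Groth.Agent.Lib.R2H4SnapperCartier
  Groth.Agent.Lib.R2H4SnapperGen Groth.Agent.Lib.R2H4AmpleSection Groth.Agent.Lib.R2H4PolyScale
  Groth.Agent.Lib.R2H4AmplePos Groth.Agent.Lib.R2H4RRAlg

section Const

variable {X : Scheme.{u}}

/-- iterated twists by one module only depend on the sum of the exponents -/
theorem nonempty_powsConst (F L : X.Modules) :
    ∀ (d : ℕ) (v : Fin d → ℕ),
      Nonempty (Curv2.tensorPows F d (fun _ => L) v ≅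
        CohB1.tensorMod F (CohB1.tensorPow L (∑ i, v i)))
  | 0, v => by
    rw [Fin.sum_univ_zero]
    exact ⟨(rUnit F).symm⟩
  | d + 1, v => by
    obtain ⟨e⟩ := nonempty_powsConst F L d (fun i => v i.castSucc)
    obtain ⟨τ⟩ := Groth.Agent.Lib.R2H3.AmpleSV.nonempty_tensor_tensorPow_add_iso F L
      (∑ i : Fin d, v i.castSucc) (v (Fin.last d)) (∑ i, v i) (Fin.sum_univ_castSucc v).symm
    exact ⟨tIso e (Iso.refl _) ≪≫ τ⟩

end Const

section Main

open Groth.Agent.Lib.R2H1.DegCartier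

variable (k : Type u) [Field k] {X : Scheme.{u}} [X.Over (Spec (CommRingCat.of k))]
  [IsProper (X ↘ (Spec (CommRingCat.of k)))]

/-- positivity of the top self-intersection number of an ample module -/
theorem coeff_ones_pos (d : ℕ) (hX : topologicalKrullDim X = ((d : ℕ) : WithBot ℕ∞))
    (L : X.Modules) (hL : CohB1.IsAmple L) (P : MvPolynomial (Fin d) ℚ)
    (hP : ∀ n : Fin d → ℕ, fE k X d (fun _ => L) (Coh.structureModule X) n = ev n P) :
    0 < MvPolynomial.coeff (Finsupp.equivFunOnFinite.symm fun _ : Fin d => 1) P := by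
  classical
  have := Groth.Agent.Lib.R2H1.CurveEuler.isNoetherian_of_proper k X
  have hOi : PicF.IsInvertible (Coh.structureModule X) :=
    Groth.Agent.Lib.Helper23.TensorUnit.isInvertible_structureModule X
  have cO : Coh.IsCoh (Coh.structureModule X) :=
    Groth.Agent.Lib.R2H1.GenusLe.isCoh_structureModule X
  have hsuppO : topologicalKrullDim (CohB1.support (Coh.structureModule X)) ≤
      ((d : ℕ) : WithBot ℕ∞) :=
    (Topology.IsInducing.subtypeVal.topologicalKrullDim_le).trans hX.le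
  obtain ⟨Q, hQ⟩ := exists_Q k d L hL.1
  obtain ⟨T, hT1, hT2, hsum⟩ := coeff_ones_eq_sum k _ cO d hsuppO (fun _ => L) (fun _ => hL.1) P
    hP Q hQ
  have hQpos : ∀ ξ ∈ T, 0 < MvPolynomial.coeff
      (Finsupp.equivFunOnFinite.symm fun _ : Fin d => 1) (Q ξ) := by
    intro ξ hξ
    obtain ⟨hdim, -, -⟩ := hT1 ξ hξ
    letI : (zI ξ).subscheme.Over (Spec (CommRingCat.of k)) :=
      ⟨(zI ξ).subschemeι ≫ (X ↘ Spec (CommRingCat.of k))⟩
    haveI : IsProper ((zI ξ).subscheme ↘ Spec (CommRingCat.of k)) :=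
      inferInstanceAs (IsProper ((zI ξ).subschemeι ≫ (X ↘ Spec (CommRingCat.of k))))
    haveI := isIntegral_zS ξ
    refine pos k d (zI ξ).subscheme ((dim_zS ξ).trans hdim)
      ((Scheme.Modules.pullback (zI ξ).subschemeι).obj L)
      (Groth.Agent.Lib.Helper23.PB.isAmple_pullback_of_isAffineHom _ L hL) (Q ξ) fun n => ?_
    rw [← hQ ξ hdim n]
    unfold fE
    rw [fE_quotMod_eq k (zI ξ) d (fun _ => L) (fun _ => hL.1) n]
  obtain ⟨ξ₀, hξ₀⟩ := exists_dim_closure_eq (T := X) d d hX le_rfl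
  have hξT : ξ₀ ∈ T := by
    refine hT2 ξ₀ hξ₀ ?_
    intro h0
    have hmem : ξ₀ ∈ CohB1.support (Coh.structureModule X) := by
      rw [support_of_isInvertible _ hOi]; exact Set.mem_univ _
    apply hmem
    unfold lenE at h0
    rw [Module.length_eq_zero_iff] at h0
    exact h0
  rw [hsum]
  refine Finset.sum_pos (fun ξ hξ => ?_) ⟨ξ₀, hξT⟩
  obtain ⟨-, h0, htop⟩ := hT1 ξ hξ
  have hnat : 0 < (lenE (Coh.structureModule X) ξ).toNat := by
    rw [Nat.pos_iff_ne_zero]
    intro hz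
    rcases (ENat.toNat_eq_zero.1 hz) with h | h
    · exact h0 h
    · exact htop h
  have : (0 : ℚ) < ((lenE (Coh.structureModule X) ξ).toNat : ℚ) := by exact_mod_cast hnat
  exact mul_pos this (hQpos ξ hξ)

/-- **asymptotic Riemann–Roch** -/
theorem s7649 (d : ℕ) (hX : topologicalKrullDim X = d) (L : X.Modules) (hL : CohB1.IsAmple L)
    (P : MvPolynomial (Fin d) ℚ)
    (hP : ∀ n : Fin d → ℕ, (Curv2.euler k X (Curv2.tensorPows (Coh.structureModule X) d
      (fun _ => L) n) : ℚ) = MvPolynomial.eval (fun i => (n i : ℚ)) P) :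
    0 < MvPolynomial.coeff (Finsupp.equivFunOnFinite.symm fun _ : Fin d => 1) P ∧
      ∃ C : ℚ, ∀ n : ℕ,
        |(Module.finrank k (Coh.HH X (CohB1.tensorPow L n) 0) : ℚ) -
            MvPolynomial.coeff (Finsupp.equivFunOnFinite.symm fun _ : Fin d => 1) P /
              (d.factorial : ℚ) * (n : ℚ) ^ d| ≤
          C * ((n : ℚ) + 1) ^ (d - 1) := by
  classical
  have := Groth.Agent.Lib.R2H1.CurveEuler.isNoetherian_of_proper k X
  have cO : Coh.IsCoh (Coh.structureModule X) :=
    Groth.Agent.Lib.R2H1.GenusLe.isCoh_structureModule X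
  have hsuppO : topologicalKrullDim (CohB1.support (Coh.structureModule X)) ≤
      ((d : ℕ) : WithBot ℕ∞) :=
    (Topology.IsInducing.subtypeVal.topologicalKrullDim_le).trans hX.le
  refine ⟨coeff_ones_pos k d hX L hL P hP, ?_⟩
  -- the one variable polynomial
  obtain ⟨p, hpdeg, hp⟩ := s1528 k _ cO d hsuppO 1 (fun _ => L) (fun _ => hL.1)
  set a : ℕ → ℚ := fun i => MvPolynomial.coeff (Finsupp.single 0 i) p with ha
  set G : ℕ → ℚ := fun j => ∑ i ∈ Finset.range (d + 1), a i * (j : ℚ) ^ i with hG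
  have hχ : ∀ n : ℕ, (Curv2.euler k X (CohB1.tensorMod (Coh.structureModule X)
      (CohB1.tensorPow L n)) : ℚ) = G n := by
    intro n
    have h1 := hp (fun _ => n)
    rw [eval_fin_one p d hpdeg] at h1
    exact h1
  have hPG : ∀ v : Fin d → ℕ, ev v P = G (∑ i, v i) := by
    intro v
    obtain ⟨e⟩ := nonempty_powsConst (Coh.structureModule X) L d v
    unfold ev
    rw [← hP v, euler_congr k e]
    exact hχ _
  have hPdeg : P.totalDegree ≤ d :=
    totalDegree_le_of_eval k _ cO d hsuppO d (fun _ => L) (fun _ => hL.1) P hP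
  -- the leading coefficient
  have hlead : MvPolynomial.coeff (Finsupp.equivFunOnFinite.symm fun _ : Fin d => 1) P =
      (d.factorial : ℚ) * a d := by
    rw [coeff_ones_eq P (by rw [Fintype.card_fin]; exact hPdeg)]
    have h1 : ∀ t : Finset (Fin d), ev (ind t) P = G t.card := by
      intro t
      rw [hPG]
      congr 1
      simp [ind]
    simp_rw [h1, Fintype.card_fin]
    rw [alt_sum_card d G]
    exact fwd_identity d a
  have hfac : (d.factorial : ℚ) ≠ 0 := by exact_mod_cast Nat.factorial_ne_zero d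
  have hc : MvPolynomial.coeff (Finsupp.equivFunOnFinite.symm fun _ : Fin d => 1) P /
      (d.factorial : ℚ) = a d := by
    rw [hlead]
    field_simp
  rw [hc]
  -- Serre vanishing
  obtain ⟨n₀, hn₀⟩ := Groth.Agent.Lib.R2H3.AmpleSV.serre_vanishing_ample k
    (X ↘ Spec (CommRingCat.of k)) L hL _ cO
  have hh0 : ∀ n : ℕ, n₀ ≤ n →
      (Module.finrank k (Coh.HH X (CohB1.tensorPow L n) 0) : ℚ) = G n := by
    intro n hn
    rw [← hχ n, euler_eq_finrank_of_vanishing k _ (hn₀ n hn)]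
    have := (Groth.Agent.Lib.R2H1.SkyDecomp.HHEquivOfIso k (lUnit (CohB1.tensorPow L n)) 0).finrank_eq
    rw [this]
    norm_cast
  -- the bound
  set B : ℚ := ∑ i ∈ Finset.range d, |a i| with hB
  set C₀ : ℚ := ∑ n ∈ Finset.range n₀,
    |(Module.finrank k (Coh.HH X (CohB1.tensorPow L n) 0) : ℚ) - a d * (n : ℚ) ^ d| with hC₀
  have hB0 : 0 ≤ B := Finset.sum_nonneg fun i _ => abs_nonneg _
  have hC0 : 0 ≤ C₀ := Finset.sum_nonneg fun i _ => abs_nonneg _
  refine ⟨C₀ + B, fun n => ?_⟩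
  have hone : (1 : ℚ) ≤ ((n : ℚ) + 1) ^ (d - 1) := by
    apply one_le_pow₀
    have : (0 : ℚ) ≤ (n : ℚ) := Nat.cast_nonneg n
    linarith
  by_cases hn : n₀ ≤ n
  · rw [hh0 n hn, hG]
    simp only
    rw [Finset.sum_range_succ, add_sub_cancel_right]
    have h1 : |∑ i ∈ Finset.range d, a i * (n : ℚ) ^ i| ≤ B * ((n : ℚ) + 1) ^ (d - 1) := by
      rw [hB, Finset.sum_mul]
      refine (Finset.abs_sum_le_sum_abs _ _).trans (Finset.sum_le_sum fun i hi => ?_)
      rw [abs_mul]
      refine mul_le_mul_of_nonneg_left ?_ (abs_nonneg _)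
      have hi' : i ≤ d - 1 := by
        have := Finset.mem_range.1 hi
        omega
      have hn0 : (0 : ℚ) ≤ (n : ℚ) := Nat.cast_nonneg n
      rw [abs_of_nonneg (pow_nonneg hn0 i)]
      calc (n : ℚ) ^ i ≤ ((n : ℚ) + 1) ^ i := by
            apply pow_le_pow_left₀ hn0; linarith
        _ ≤ ((n : ℚ) + 1) ^ (d - 1) := by
            apply pow_le_pow_right₀ _ hi'; linarith
    refine h1.trans ?_
    have : 0 ≤ C₀ * ((n : ℚ) + 1) ^ (d - 1) := mul_nonneg hC0 (by positivity)
    rw [add_mul]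
    linarith
  · push Not at hn
    have h1 : |(Module.finrank k (Coh.HH X (CohB1.tensorPow L n) 0) : ℚ) - a d * (n : ℚ) ^ d| ≤
        C₀ := by
      rw [hC₀]
      exact Finset.single_le_sum (f := fun n => |(Module.finrank k
        (Coh.HH X (CohB1.tensorPow L n) 0) : ℚ) - a d * (n : ℚ) ^ d|)
        (fun i _ => abs_nonneg _) (Finset.mem_range.2 hn)
    refine h1.trans ?_
    have h2 : C₀ ≤ C₀ * ((n : ℚ) + 1) ^ (d - 1) := le_mul_of_one_le_right hC0 hone
    have h3 : 0 ≤ B * ((n : ℚ) + 1) ^ (d - 1) := mul_nonneg hB0 (by positivity)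
    rw [add_mul]
    linarith

end Main

end Groth.Agent.Lib.R2H4AsympRR
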