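import Mathlib
import Groth.Prelude
import Groth.Agent.Lib.R2H4H0Growth

/-!
# Volumes of invertible modules: monotonicity (helper4, round 2)

* `h0_pow_le_of_mono` : a monomorphism `L → M` of invertible modules gives
  `h⁰(L^m) ≤ h⁰(M^m)`;
* `limsup_le_of_mono` : hence `vol(L) ≤ vol(M)`;
* `s19807` : `vol(L) ≤ vol(L ⊗ E)` for `E` with a nonzero section, on an integral scheme.
-/

set_option autoImplicit false
set_option linter.style.haveILetI false
set_option linter.unusedSectionVars false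
universe u
open CategoryTheory CategoryTheory.Limits AlgebraicGeometry TopologicalSpace
open scoped ENNReal

noncomputable section

namespace Groth.Agent.Lib.R2H4VolBasic

open Groth.Agent.Lib.R2H4H0Growth Groth.Agent.Lib.R2H4TensorPows

variable (k : Type u) [Field k] {X : Scheme.{u}} [X.Over (Spec (CommRingCat.of k))]
  [IsProper (X ↘ (Spec (CommRingCat.of k)))]

theorem isCoh_of_isInvertible (L : X.Modules) (hL : PicF.IsInvertible L) : Coh.IsCoh L :=
  ⟨Groth.Agent.Lib.Helper23.SecTw.isQuasicoherent_of_isInvertible L hL,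
    Groth.Agent.Lib.R2H2.PnFinite.isFiniteType_of_isInvertible L hL⟩

/-- a monomorphism of invertible modules gives `h⁰(L^m) ≤ h⁰(M^m)` -/
theorem h0_pow_le_of_mono {L M : X.Modules} (hL : PicF.IsInvertible L) (hM : PicF.IsInvertible M)
    (φ : L ⟶ M) [Mono φ] (m : ℕ) :
    Module.finrank k (Coh.HH X (CohB1.tensorPow L m) 0) ≤
      Module.finrank k (Coh.HH X (CohB1.tensorPow M m) 0) := by
  obtain ⟨ψ, hψ⟩ := exists_mono_pow (W := X) hL hM φ m
  exact h0_le_of_mono k ψ (isCoh_of_isInvertible _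
    (Groth.Agent.Lib.Helper23.SecTw.isInvertible_tensorPow hM m))

/-- monotonicity of the volume along monomorphisms -/
theorem limsup_le_of_mono (d : ℕ) {L M : X.Modules} (hL : PicF.IsInvertible L)
    (hM : PicF.IsInvertible M) (φ : L ⟶ M) [Mono φ] :
    Filter.limsup (fun m : ℕ => (Module.finrank k (Coh.HH X (CohB1.tensorPow L m) 0) : ℝ≥0∞) /
        (m : ℝ≥0∞) ^ d) Filter.atTop ≤
      Filter.limsup (fun m : ℕ => (Module.finrank k (Coh.HH X (CohB1.tensorPow M m) 0) : ℝ≥0∞) /
        (m : ℝ≥0∞) ^ d) Filter.atTop := by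
  refine Filter.limsup_le_limsup (Filter.Eventually.of_forall fun m => ?_)
  refine ENNReal.div_le_div_right ?_ _
  exact_mod_cast h0_pow_le_of_mono k hL hM φ m

/-- `vol(L) ≤ vol(L ⊗ E)` for `E` effective -/
theorem s19807 [IsIntegral X] (d : ℕ) (L : X.Modules) (hL : PicF.IsInvertible L)
    (E : X.Modules) (hE : PicF.IsInvertible E) (s : Coh.structureModule X ⟶ E) (hs : s ≠ 0) :
    Filter.limsup (fun m : ℕ => (Module.finrank k (Coh.HH X (CohB1.tensorPow L m) 0) : ℝ≥0∞) /
        (m : ℝ≥0∞) ^ d) Filter.atTop ≤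
      Filter.limsup (fun m : ℕ =>
        (Module.finrank k (Coh.HH X (CohB1.tensorPow (CohB1.tensorMod L E) m) 0) : ℝ≥0∞) /
        (m : ℝ≥0∞) ^ d) Filter.atTop := by
  haveI : Mono s := Groth.Agent.Lib.R2H1.InvHom.mono_of_ne_zero
    (Groth.Agent.Lib.Helper23.TensorUnit.isInvertible_structureModule X) hE s hs
  have hm : Mono ((DCoh.tensorBi.obj L).map s) := mono_tensorBi_map L hL s
  let Ls : CohB1.tensorMod L (Coh.structureModule X) ⟶ CohB1.tensorMod L E :=
    (DCoh.tensorBi.obj L).map s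
  haveI : Mono Ls := hm
  haveI : Mono ((rUnit L).inv ≫ Ls) := mono_comp _ _
  exact limsup_le_of_mono k d hL (Groth.Agent.Lib.Helper23.SecTw.isInvertible_tensorMod hL hE)
    ((rUnit L).inv ≫ Ls)

end Groth.Agent.Lib.R2H4VolBasic
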