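import Mathlib
import Groth.Prelude
import Groth.Agent.Lib.R2H4H0Growth
import Groth.Agent.Lib.R2H4VolBasic
import Groth.Agent.Lib.R2H4AmplePos
import Groth.Agent.Lib.R2H4AsympRR
import Groth.Agent.Lib.R2H3AmpleSV
import Groth.Agent.Lib.R2H1InvHom
import Groth.Agent.Lib.R2H1InvExists
import Groth.Agent.Lib.R2H1DegNonpos
import Groth.Agent.Lib.Helper3DimCons
import Groth.Agent.Lib.Helper8Conn
import Groth.Agent.Lib.R2H4Snapper
import Groth.Agent.Lib.R2H4AmpleSection
import Groth.Agent.Lib.Helper23Restr2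

/-!
# Big invertible modules and volumes (helper4, round 2)

* `exists_mono_pow_add`, `h0_le_of_section` : multiplication by a nonzero section;
* `exists_sections_eventually` : the exponent of a big invertible module is one;
* `exists_mono_of_growth` : Kodaira's lemma;
* `exists_lower_bound_ample` : `h⁰(A^q) ≥ c q^d` for ample `A`.
-/

set_option autoImplicit false
set_option linter.style.haveILetI false
set_option linter.unusedSectionVars false
universe u
open CategoryTheory CategoryTheory.Limits AlgebraicGeometry TopologicalSpace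
open scoped ENNReal

noncomputable section

namespace Groth.Agent.Lib.R2H4VolBig

open Groth.Agent.Lib.R2H4H0Growth Groth.Agent.Lib.R2H4TensorPows Groth.Agent.Lib.R2H4VolBasic
  Groth.Agent.Lib.R2H2.PnSerre

section Sections

variable {X : Scheme.{u}} [IsIntegral X]

omit [IsIntegral X] in
/-- tensoring a monomorphism with an invertible module -/
theorem exists_mono_twR (M : X.Modules) (hM : PicF.IsInvertible M) {F G : X.Modules}
    (f : F ⟶ G) [Mono f] : ∃ g : CohB1.tensorMod F M ⟶ CohB1.tensorMod G M, Mono g :=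
  ⟨(twR M).map f, mono_twR_map M hM f⟩

/-- a nonzero section of an invertible `E` gives a monomorphism `M → M ⊗ E` -/
theorem exists_mono_tensor_of_section (M : X.Modules) (hM : PicF.IsInvertible M)
    (E : X.Modules) (hE : PicF.IsInvertible E) (s : Coh.structureModule X ⟶ E) (hs : s ≠ 0) :
    ∃ ψ : M ⟶ CohB1.tensorMod M E, Mono ψ := by
  haveI : Mono s := Groth.Agent.Lib.R2H1.InvHom.mono_of_ne_zero
    (Groth.Agent.Lib.Helper23.TensorUnit.isInvertible_structureModule X) hE s hs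
  obtain ⟨Ms, hMs⟩ := exists_mono_twR M hM s
  haveI : Mono (Ms ≫ (tComm E M).hom) := mono_comp _ _
  exact ⟨(lUnit M).inv ≫ Ms ≫ (tComm E M).hom, mono_comp _ _⟩

/-- a nonzero section of `L^m` gives a monomorphism `L^n → L^(n+m)` -/
theorem exists_mono_pow_add (L : X.Modules) (hL : PicF.IsInvertible L) (m n : ℕ)
    (s : Coh.structureModule X ⟶ CohB1.tensorPow L m) (hs : s ≠ 0) :
    ∃ ψ : CohB1.tensorPow L n ⟶ CohB1.tensorPow L (n + m), Mono ψ := by
  obtain ⟨ψ, hψ⟩ := exists_mono_tensor_of_section (CohB1.tensorPow L n)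
    (Groth.Agent.Lib.Helper23.SecTw.isInvertible_tensorPow hL n) (CohB1.tensorPow L m)
    (Groth.Agent.Lib.Helper23.SecTw.isInvertible_tensorPow hL m) s hs
  exact ⟨ψ ≫ (Groth.Agent.Lib.R2H3.AmpleSV.tensorPowAdd L n m).hom, mono_comp _ _⟩

/-- the exponents with a nonzero section form a semigroup -/
theorem exists_section_add (L : X.Modules) (hL : PicF.IsInvertible L) (m n : ℕ)
    (s : Coh.structureModule X ⟶ CohB1.tensorPow L m) (hs : s ≠ 0)
    (t : Coh.structureModule X ⟶ CohB1.tensorPow L n) (ht : t ≠ 0) :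
    ∃ u : Coh.structureModule X ⟶ CohB1.tensorPow L (n + m), u ≠ 0 := by
  obtain ⟨ψ, hψ⟩ := exists_mono_pow_add L hL m n s hs
  refine ⟨t ≫ ψ, fun h => ht ?_⟩
  rw [← cancel_mono ψ, h, zero_comp]

omit [IsIntegral X] in
theorem exists_section_cast (L : X.Modules) {a b : ℕ} (h : a = b)
    (hu : ∃ u : Coh.structureModule X ⟶ CohB1.tensorPow L a, u ≠ 0) :
    ∃ u : Coh.structureModule X ⟶ CohB1.tensorPow L b, u ≠ 0 := by
  subst h
  exact hu

theorem exists_section_mul (L : X.Modules) (hL : PicF.IsInvertible L) (m : ℕ)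
    (s : Coh.structureModule X ⟶ CohB1.tensorPow L m) (hs : s ≠ 0) :
    ∀ x : ℕ, ∃ u : Coh.structureModule X ⟶ CohB1.tensorPow L (x * m), u ≠ 0
  | 0 => by
    refine exists_section_cast L (Nat.zero_mul m).symm ?_
    exact ⟨𝟙 _, Groth.Agent.Lib.R2H4AmplePos.id_structureModule_ne_zero⟩
  | x + 1 => by
    obtain ⟨u, hu⟩ := exists_section_mul L hL m s hs x
    exact exists_section_cast L (Nat.succ_mul x m).symm
      (exists_section_add L hL m (x * m) s hs u hu)

/-- **The exponent of a big invertible module is one.** -/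
theorem exists_sections_eventually (L : X.Modules) (hL : PicF.IsInvertible L)
    (B : X.Modules)
    (s : Coh.structureModule X ⟶ B) (hs : s ≠ 0)
    (t : Coh.structureModule X ⟶ CohB1.tensorMod B L) (ht : t ≠ 0)
    (m₀ : ℕ) (φ : B ⟶ CohB1.tensorPow L m₀) [Mono φ] :
    ∃ r₀ : ℕ, ∀ r : ℕ, r₀ ≤ r → ∃ u : Coh.structureModule X ⟶ CohB1.tensorPow L r, u ≠ 0 := by
  -- sections of `L^m₀` and `L^(m₀+1)`
  have h0 : s ≫ φ ≠ 0 := fun h => hs (by rw [← cancel_mono φ, h, zero_comp])
  have hφL : Mono ((twR L).map φ) := mono_twR_map L hL φ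
  let φL : CohB1.tensorMod B L ⟶ CohB1.tensorPow L (m₀ + 1) := (twR L).map φ
  haveI : Mono φL := hφL
  have h1 : t ≫ φL ≠ 0 := fun h => ht (by rw [← cancel_mono φL, h, zero_comp])
  refine ⟨m₀ * m₀, fun r hr => ?_⟩
  rcases Nat.eq_zero_or_pos m₀ with hm | hm
  · -- `m₀ = 0` : `L` itself has a section
    subst hm
    exact exists_section_cast L (by ring) (exists_section_mul L hL (0 + 1) (t ≫ φL) h1 r)
  · set y := r % m₀ with hy
    set q := r / m₀ with hq
    have hqm : m₀ ≤ q := by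
      rw [hq, Nat.le_div_iff_mul_le hm]
      exact hr
    have hylt : y < m₀ := Nat.mod_lt r hm
    obtain ⟨u, hu⟩ := exists_section_mul L hL m₀ (s ≫ φ) h0 (q - y)
    obtain ⟨v, hv⟩ := exists_section_mul L hL (m₀ + 1) (t ≫ φL) h1 y
    have hr' : y * (m₀ + 1) + (q - y) * m₀ = r := by
      have h3 : m₀ * q + y = r := Nat.div_add_mod r m₀
      have h4 : y ≤ q := hylt.le.trans hqm
      obtain ⟨z, hz⟩ := Nat.exists_eq_add_of_le h4
      rw [hz, Nat.add_sub_cancel_left]
      rw [hz] at h3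
      rw [← h3]
      ring
    exact exists_section_cast L hr' (exists_section_add L hL _ _ u hu v hv)

end Sections

section Kodaira

open Filter Asymptotics

variable (k : Type u) [Field k] {X : Scheme.{u}} [X.Over (Spec (CommRingCat.of k))]
  [IsProper (X ↘ (Spec (CommRingCat.of k)))]

/-- positivity of `h⁰` gives a nonzero section -/
theorem exists_section_of_h0_pos (F : X.Modules) (h : 0 < h0 k F) :
    ∃ s : Coh.structureModule X ⟶ F, s ≠ 0 := by
  by_contra hcon
  push Not at hcon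
  have hsub : Subsingleton (Coh.HH X F 0) := by
    refine ⟨fun a b => ?_⟩
    have ha : ∀ x : Coh.HH X F 0, x = 0 := fun x => by
      have h1 := (Groth.Agent.Lib.R2H2.PnBeilinson.clsEquiv (k := k) F).apply_symm_apply x
      rw [hcon ((Groth.Agent.Lib.R2H2.PnBeilinson.clsEquiv (k := k) F).symm x), map_zero] at h1
      exact h1.symm
    rw [ha a, ha b]
  unfold h0 at h
  rw [Module.finrank_zero_of_subsingleton] at h
  exact lt_irrefl _ h

theorem h0_eq_zero_of_isZero (F T : X.Modules) (hF : IsZero F) :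
    h0 k (CohB1.tensorMod F T) = 0 := by
  haveI : Subsingleton (Coh.HH X (CohB1.tensorMod F T) 0) :=
    Groth.Agent.Lib.R2H2.KoszulShift.subsingleton_HH_of_isZero ((twR T).map_isZero hF) 0
  unfold h0
  rw [Module.finrank_zero_of_subsingleton]

include k in
/-- the cokernel of a nonzero section of an invertible module on an integral scheme has
support of smaller dimension -/
theorem dim_support_cokernel_lt [IsIntegral X] (B : X.Modules) (hB : PicF.IsInvertible B)
    (s : Coh.structureModule X ⟶ B) (hs : s ≠ 0) :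
    topologicalKrullDim (CohB1.support (cokernel s)) < topologicalKrullDim X := by
  haveI := Groth.Agent.Lib.R2H1.CurveEuler.isNoetherian_of_proper k X
  have cO : Coh.IsCoh (Coh.structureModule X) :=
    Groth.Agent.Lib.R2H1.GenusLe.isCoh_structureModule X
  have cB : Coh.IsCoh B := isCoh_of_isInvertible B hB
  have cQ : Coh.IsCoh (cokernel s) := Groth.Agent.Lib.R2H2.NilFilt.isCoh_cokernel cO cB s
  have hcl : IsClosed (CohB1.support (cokernel s)) := Groth.Agent.S0020.result X _ cQ.2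
  -- a nonempty open on which `s` is an isomorphism
  have hgl : CohB1.genLocus B s ≠ ⊥ := fun h =>
    hs (Groth.Agent.Lib.R2H1.DegNonpos.eq_zero_of_genLocus_eq_bot B hB s h)
  obtain ⟨U, hU, hUne⟩ : ∃ U : X.Opens,
      IsIso ((Scheme.Modules.restrictFunctor U.ι).map s) ∧ U ≠ ⊥ := by
    by_contra hcon
    push Not at hcon
    apply hgl
    unfold CohB1.genLocus
    rw [sSup_eq_bot]
    intro U hU
    exact hcon U hU
  have hsub := Groth.Agent.Lib.R2H4Snapper.support_cokernel_subset s U hU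
  have hne : CohB1.support (cokernel s) ≠ (Set.univ : Set X) := by
    intro h
    obtain ⟨x, hx⟩ : ∃ x : X, x ∈ U := by
      by_contra hcon
      push Not at hcon
      exact hUne (by ext x; simpa using hcon x)
    have : x ∈ CohB1.support (cokernel s) := by rw [h]; exact Set.mem_univ x
    exact (hsub this).2 hx
  have hfin : topologicalKrullDim (Set.univ : Set X) < ⊤ := by
    rw [Groth.Agent.Lib.R2H4AmplePos.dim_univ]
    haveI : CompactSpace X :=
      QuasiCompact.compactSpace_of_compactSpace (X ↘ Spec (CommRingCat.of k))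
    exact Groth.Agent.Lib.Helper3.DimCons.topologicalKrullDim_lt_top_of_lft_field k
      (X ↘ Spec (CommRingCat.of k))
  have h1 := Groth.Agent.Lib.Helper8.Conn.dim_lt_of_proper_closed
    (IrreducibleSpace.isIrreducible_univ X) hcl (Set.subset_univ _) hne hfin
  rwa [Groth.Agent.Lib.R2H4AmplePos.dim_univ] at h1

/-- **Kodaira's lemma**: if `h⁰(L^m) ≥ c m^d` infinitely often (`d = dim X`), then every
invertible module with a nonzero section embeds into some positive power of `L`. -/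
theorem exists_mono_of_growth [IsIntegral X] (A : X.Modules) (hA : CohB1.IsAmple A) (d : ℕ)
    (hd : topologicalKrullDim X = ((d : ℕ) : WithBot ℕ∞)) (L : X.Modules)
    (hL : PicF.IsInvertible L) (c : ℝ) (hc : 0 < c)
    (hfreq : ∃ᶠ m : ℕ in atTop, c * (m : ℝ) ^ d ≤ (h0 k (CohB1.tensorPow L m) : ℝ))
    (B : X.Modules) (hB : PicF.IsInvertible B) (s : Coh.structureModule X ⟶ B) (hs : s ≠ 0) :
    ∃ (m : ℕ) (φ : B ⟶ CohB1.tensorPow L m), 0 < m ∧ Mono φ := by
  haveI := Groth.Agent.Lib.R2H1.CurveEuler.isNoetherian_of_proper k X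
  obtain ⟨N, hN, ⟨e⟩⟩ := Groth.Agent.Lib.R2H1.InvExists.exists_inverse B hB
  have cO : Coh.IsCoh (Coh.structureModule X) :=
    Groth.Agent.Lib.R2H1.GenusLe.isCoh_structureModule X
  have cB : Coh.IsCoh B := isCoh_of_isInvertible B hB
  set Q := cokernel s with hQdef
  have cQ : Coh.IsCoh Q := Groth.Agent.Lib.R2H2.NilFilt.isCoh_cokernel cO cB s
  haveI : Mono s := Groth.Agent.Lib.R2H1.InvHom.mono_of_ne_zero
    (Groth.Agent.Lib.Helper23.TensorUnit.isInvertible_structureModule X) hB s hs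
  let S : ShortComplex X.Modules := ShortComplex.mk s (cokernel.π s) (cokernel.condition s)
  have hS : S.ShortExact :=
    { exact := ShortComplex.exact_cokernel s
      mono_f := by dsimp [S]; infer_instance
      epi_g := by dsimp [S]; infer_instance }
  have hdimQ : topologicalKrullDim (CohB1.support Q) < ((d : ℕ) : WithBot ℕ∞) := by
    rw [← hd]
    exact dim_support_cokernel_lt k B hB s hs
  set F := CohB1.tensorMod Q N with hF
  have cF : Coh.IsCoh F := Groth.Agent.Lib.R2H3.AmpleSV.isCoh_tensorMod_invertible _ _ cQ hN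
  -- the basic inequality
  have hineq : ∀ m : ℕ, h0 k (CohB1.tensorPow L m) ≤
      h0 k (CohB1.tensorMod N (CohB1.tensorPow L m)) +
        h0 k (CohB1.tensorMod F (CohB1.tensorPow L m)) := by
    intro m
    set T := CohB1.tensorMod N (CohB1.tensorPow L m) with hT
    have hTi : PicF.IsInvertible T := Groth.Agent.Lib.Helper23.SecTw.isInvertible_tensorMod hN
      (Groth.Agent.Lib.Helper23.SecTw.isInvertible_tensorPow hL m)
    have hS' := shortExact_map_twR T hTi S hS
    have h1 := h0_le_add k (S.map (twR T)) hS'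
      (Groth.Agent.Lib.R2H3.AmpleSV.isCoh_tensorMod_invertible _ _ cO hTi)
      (Groth.Agent.Lib.R2H3.AmpleSV.isCoh_tensorMod_invertible _ _ cB hTi)
      (Groth.Agent.Lib.R2H3.AmpleSV.isCoh_tensorMod_invertible _ _ cQ hTi)
    have e1 : h0 k (S.map (twR T)).X₂ = h0 k (CohB1.tensorPow L m) :=
      h0_congr k ((tAssoc B N _).symm ≪≫ tIso e (Iso.refl _) ≪≫ lUnit _)
    have e2 : h0 k (S.map (twR T)).X₁ = h0 k T := h0_congr k (lUnit T)
    have e3 : h0 k (S.map (twR T)).X₃ = h0 k (CohB1.tensorMod F (CohB1.tensorPow L m)) :=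
      h0_congr k (tAssoc Q N _).symm
    rw [e1, e2, e3] at h1
    exact h1
  -- the growth of the error term
  have hQ : ∃ C : ℝ, ∀ᶠ m : ℕ in atTop,
      (h0 k (CohB1.tensorMod F (CohB1.tensorPow L m)) : ℝ) * m ≤ C * (m : ℝ) ^ d := by
    cases d with
    | zero =>
      have hempty : CohB1.support Q ⊆ ∅ := by
        intro x hx
        have : Nonempty (CohB1.support Q) := ⟨⟨x, hx⟩⟩
        have h0' := Groth.Agent.Lib.Helper7.TopDim.topologicalKrullDim_nonneg
          (X := (CohB1.support Q))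
        exact absurd (lt_of_le_of_lt h0' hdimQ) (lt_irrefl _)
      have hz := Groth.Agent.Lib.R2H2.DevA.isZero_of_support_subset_empty Q hempty
      have hzF : IsZero F := (twR N).map_isZero hz
      refine ⟨0, Eventually.of_forall fun m => ?_⟩
      rw [h0_eq_zero_of_isZero k F _ hzF]
      simp
    | succ d' =>
      have hdimF : topologicalKrullDim (CohB1.support F) ≤ ((d' : ℕ) : WithBot ℕ∞) :=
        (dim_mono (Groth.Agent.Lib.R2H4Snapper.support_tensor_subset Q N hN)).trans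
          (Groth.Agent.Lib.R2H4Snapper.le_of_lt_succ' _ _ hdimQ)
      have hP := main_supp k A hA L hL F cF d' hdimF
      obtain ⟨C, hC⟩ := hP.bound
      refine ⟨C, hC.mono fun m hm => ?_⟩
      rw [Real.norm_natCast, Real.norm_of_nonneg (by positivity)] at hm
      calc (h0 k (CohB1.tensorMod F (CohB1.tensorPow L m)) : ℝ) * m
          ≤ (C * (m : ℝ) ^ d') * m := mul_le_mul_of_nonneg_right hm (Nat.cast_nonneg m)
        _ = C * (m : ℝ) ^ (d' + 1) := by ring
  obtain ⟨C, hC⟩ := hQ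
  -- choose `m`
  obtain ⟨m₁, hm₁⟩ := exists_nat_gt (C / c)
  have hev : ∀ᶠ m : ℕ in atTop, max m₁ 1 ≤ m := eventually_ge_atTop _
  obtain ⟨m, ⟨hm1, hm2⟩, hm3⟩ := ((hfreq.and_eventually hC).and_eventually hev).exists
  have hmpos : 0 < m := lt_of_lt_of_le Nat.one_pos ((le_max_right _ _).trans hm3)
  have hmC : C / c < (m : ℝ) :=
    lt_of_lt_of_le hm₁ (by exact_mod_cast (le_max_left _ _).trans hm3)
  have hmR : (0 : ℝ) < m := by exact_mod_cast hmpos
  have hpos : 0 < h0 k (CohB1.tensorMod N (CohB1.tensorPow L m)) := by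
    by_contra hcon
    have hz : h0 k (CohB1.tensorMod N (CohB1.tensorPow L m)) = 0 := Nat.eq_zero_of_not_pos hcon
    have h1 := hineq m
    rw [hz, zero_add] at h1
    have h2 : (h0 k (CohB1.tensorPow L m) : ℝ) ≤
        (h0 k (CohB1.tensorMod F (CohB1.tensorPow L m)) : ℝ) := by exact_mod_cast h1
    have h3 : c * (m : ℝ) ^ d * m ≤ C * (m : ℝ) ^ d :=
      (mul_le_mul_of_nonneg_right (hm1.trans h2) hmR.le).trans hm2
    have hmd : (0 : ℝ) < (m : ℝ) ^ d := pow_pos hmR d
    have h4 : c * m ≤ C := by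
      have : (c * m) * (m : ℝ) ^ d ≤ C * (m : ℝ) ^ d := by nlinarith
      exact le_of_mul_le_mul_right this hmd
    have h5 : C / c < C / c := lt_of_lt_of_le hmC (by rw [le_div_iff₀ hc]; linarith)
    exact lt_irrefl _ h5
  obtain ⟨v, hv⟩ := exists_section_of_h0_pos k _ hpos
  have hTi : PicF.IsInvertible (CohB1.tensorMod N (CohB1.tensorPow L m)) :=
    Groth.Agent.Lib.Helper23.SecTw.isInvertible_tensorMod hN
      (Groth.Agent.Lib.Helper23.SecTw.isInvertible_tensorPow hL m)
  obtain ⟨ψ, hψ⟩ := exists_mono_tensor_of_section B hB _ hTi v hv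
  refine ⟨m, ψ ≫ ((tAssoc B N _).symm ≪≫ tIso e (Iso.refl _) ≪≫ lUnit _).hom, hmpos, ?_⟩
  exact mono_comp _ _

end Kodaira

section Twist

variable {X : Scheme.{u}} [IsIntegral X]

/-- high twists of an invertible module by an ample one have nonzero sections -/
theorem exists_sections_twist (A : X.Modules) (hA : CohB1.IsAmple A) (M : X.Modules)
    (hM : PicF.IsInvertible M) :
    ∃ n₀ : ℕ, ∀ n : ℕ, n₀ ≤ n →
      ∃ t : Coh.structureModule X ⟶ CohB1.tensorMod M (CohB1.tensorPow A n), t ≠ 0 := by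
  haveI : M.IsQuasicoherent := Groth.Agent.Lib.Helper23.SecTw.isQuasicoherent_of_isInvertible M hM
  haveI : SheafOfModules.IsFiniteType (R := X.ringCatSheaf) M :=
    Groth.Agent.Lib.R2H2.PnFinite.isFiniteType_of_isInvertible M hM
  obtain ⟨n₀, hn⟩ := Groth.Agent.Lib.Helper23.LocGen.isGloballyGenerated_twist_eventually A hA M
  refine ⟨n₀, fun n hnn => ?_⟩
  set A' := CohB1.tensorPow A n with hA'def
  have hA' : PicF.IsInvertible A' := Groth.Agent.Lib.Helper23.SecTw.isInvertible_tensorPow hA.1 _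
  have hB : PicF.IsInvertible (CohB1.tensorMod M A') :=
    Groth.Agent.Lib.Helper23.SecTw.isInvertible_tensorMod hM hA'
  obtain ⟨ι, p, hp⟩ := hn n hnn
  have hnz : ¬ IsZero (CohB1.tensorMod M A') := by
    intro hz
    have h1 := Groth.Agent.Lib.R2H2.DevA.support_of_isZero hz
    rw [Groth.Agent.Lib.R2H4AmpleSection.support_of_isInvertible _ hB] at h1
    obtain ⟨x⟩ := (inferInstance : Nonempty X)
    exact Set.notMem_empty x (h1 ▸ Set.mem_univ x)
  have hp0 : p ≠ 0 := by
    intro h0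
    apply hnz
    rw [IsZero.iff_id_eq_zero]
    have h1 : p ≫ 𝟙 _ = p ≫ 0 := by rw [h0]; simp
    exact (cancel_epi p).1 h1
  obtain ⟨i, hi⟩ : ∃ i : ι, SheafOfModules.ιFree i ≫ p ≠ 0 := by
    by_contra hcon
    push Not at hcon
    apply hp0
    refine Cofan.IsColimit.hom_ext (SheafOfModules.isColimitFreeCofan ι) _ _ fun i => ?_
    rw [SheafOfModules.freeCofan_inj]
    exact (hcon i).trans comp_zero.symm
  exact ⟨SheafOfModules.ιFree i ≫ p, hi⟩

/-- a power of an ample module such that it and its twist by `L` have nonzero sections -/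
theorem exists_pow_sections (A : X.Modules) (hA : CohB1.IsAmple A) (L : X.Modules)
    (hL : PicF.IsInvertible L) :
    ∃ a : ℕ, 0 < a ∧ (∃ s : Coh.structureModule X ⟶ CohB1.tensorPow A a, s ≠ 0) ∧
      ∃ t : Coh.structureModule X ⟶ CohB1.tensorMod (CohB1.tensorPow A a) L, t ≠ 0 := by
  obtain ⟨n₁, h₁⟩ := exists_sections_twist A hA (Coh.structureModule X)
    (Groth.Agent.Lib.Helper23.TensorUnit.isInvertible_structureModule X)
  obtain ⟨n₂, h₂⟩ := exists_sections_twist A hA L hL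
  set a := max (max n₁ n₂) 1 with ha
  obtain ⟨s, hs⟩ := h₁ a ((le_max_left _ _).trans (le_max_left _ _))
  obtain ⟨t, ht⟩ := h₂ a ((le_max_right _ _).trans (le_max_left _ _))
  refine ⟨a, lt_of_lt_of_le Nat.one_pos (le_max_right _ _), ⟨s ≫ (lUnit _).hom, ?_⟩,
    ⟨t ≫ (tComm _ _).hom, ?_⟩⟩
  · intro h
    apply hs
    rw [← cancel_mono (lUnit (CohB1.tensorPow A a)).hom, h, zero_comp]
  · intro h
    apply ht
    rw [← cancel_mono (tComm L (CohB1.tensorPow A a)).hom, h, zero_comp]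

end Twist

section Lower

open Filter

variable (k : Type u) [Field k] {X : Scheme.{u}} [X.Over (Spec (CommRingCat.of k))]
  [IsProper (X ↘ (Spec (CommRingCat.of k)))]

/-- `h⁰(B^q) ≥ c q^d` for an ample `B` on an integral proper scheme of dimension `d` -/
theorem exists_lower_bound_ample [IsIntegral X] (d : ℕ)
    (hd : topologicalKrullDim X = ((d : ℕ) : WithBot ℕ∞)) (B : X.Modules)
    (hB : CohB1.IsAmple B) :
    ∃ c : ℝ, 0 < c ∧ ∃ q₀ : ℕ, ∀ q : ℕ, q₀ ≤ q →
      c * (q : ℝ) ^ d ≤ (h0 k (CohB1.tensorPow B q) : ℝ) := by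
  haveI := Groth.Agent.Lib.R2H1.CurveEuler.isNoetherian_of_proper k X
  have cO : Coh.IsCoh (Coh.structureModule X) :=
    Groth.Agent.Lib.R2H1.GenusLe.isCoh_structureModule X
  cases d with
  | zero =>
    obtain ⟨n₁, h₁⟩ := exists_sections_twist B hB (Coh.structureModule X)
      (Groth.Agent.Lib.Helper23.TensorUnit.isInvertible_structureModule X)
    refine ⟨1, one_pos, n₁, fun q hq => ?_⟩
    obtain ⟨t, ht⟩ := h₁ q hq
    have hpos := Groth.Agent.Lib.R2H4AmplePos.finrank_HH_zero_pos k _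
      (isCoh_of_isInvertible _ (Groth.Agent.Lib.Helper23.SecTw.isInvertible_tensorPow hB.1 q))
      (t ≫ (lUnit _).hom) (fun h => ht (by
        rw [← cancel_mono (lUnit (CohB1.tensorPow B q)).hom, h, zero_comp]))
    have : (1 : ℝ) ≤ (h0 k (CohB1.tensorPow B q) : ℝ) := by exact_mod_cast hpos
    simpa using this
  | succ d' =>
    have hsuppO : topologicalKrullDim (CohB1.support (Coh.structureModule X)) ≤
        ((d' + 1 : ℕ) : WithBot ℕ∞) :=
      (Topology.IsInducing.subtypeVal.topologicalKrullDim_le).trans hd.le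
    obtain ⟨P, -, hP⟩ := Groth.Agent.Lib.R2H4Snapper.s1528 k _ cO (d' + 1) hsuppO (d' + 1)
      (fun _ => B) (fun _ => hB.1)
    obtain ⟨hpos, C, hC⟩ := Groth.Agent.Lib.R2H4AsympRR.s7649 k (d' + 1) hd B hB P hP
    set e' : ℚ := MvPolynomial.coeff (Finsupp.equivFunOnFinite.symm fun _ : Fin (d' + 1) => 1) P /
      ((d' + 1).factorial : ℚ) with he'
    have he'pos : 0 < e' := div_pos hpos (by exact_mod_cast Nat.factorial_pos _)
    obtain ⟨q₁, hq₁⟩ := exists_nat_gt (2 * |C| * 2 ^ d' / e')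
    refine ⟨((e' / 2 : ℚ) : ℝ), by exact_mod_cast half_pos he'pos, max q₁ 1, fun q hq => ?_⟩
    have hq1 : 1 ≤ q := (le_max_right _ _).trans hq
    have hqq : 2 * |C| * 2 ^ d' / e' < (q : ℚ) :=
      lt_of_lt_of_le hq₁ (by exact_mod_cast (le_max_left _ _).trans hq)
    have key : (e' / 2) * (q : ℚ) ^ (d' + 1) ≤ (h0 k (CohB1.tensorPow B q) : ℚ) := by
      have h1 := (abs_le.1 (hC q)).1
      simp only [Nat.add_sub_cancel] at h1
      have h2 : ((q : ℚ) + 1) ^ d' ≤ 2 ^ d' * (q : ℚ) ^ d' := by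
        rw [← mul_pow]
        refine pow_le_pow_left₀ (by positivity) ?_ d'
        have : (1 : ℚ) ≤ q := by exact_mod_cast hq1
        linarith
      have h3 : C * ((q : ℚ) + 1) ^ d' ≤ |C| * (2 ^ d' * (q : ℚ) ^ d') :=
        (mul_le_mul_of_nonneg_right (le_abs_self C) (by positivity)).trans
          (mul_le_mul_of_nonneg_left h2 (abs_nonneg C))
      have h4 : 2 * |C| * 2 ^ d' < e' * q := by
        rw [div_lt_iff₀ he'pos] at hqq
        linarith
      have hqd : (0 : ℚ) ≤ (q : ℚ) ^ d' := by positivity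
      have h5 : e' * (q : ℚ) ^ (d' + 1) - |C| * (2 ^ d' * (q : ℚ) ^ d') ≥
          (e' / 2) * (q : ℚ) ^ (d' + 1) := by
        have : e' * (q : ℚ) ^ (d' + 1) - |C| * (2 ^ d' * (q : ℚ) ^ d') -
            (e' / 2) * (q : ℚ) ^ (d' + 1) =
            (q : ℚ) ^ d' * ((e' * q - 2 * |C| * 2 ^ d') / 2) := by ring
        have h6 : 0 ≤ (q : ℚ) ^ d' * ((e' * q - 2 * |C| * 2 ^ d') / 2) :=
          mul_nonneg hqd (by linarith)
        linarith
      unfold h0
      linarith
    have key' : (((e' / 2) * (q : ℚ) ^ (d' + 1) : ℚ) : ℝ) ≤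
        (((h0 k (CohB1.tensorPow B q) : ℕ) : ℚ) : ℝ) := by exact_mod_cast key
    push_cast at key' ⊢
    exact key'

end Lower

section Main

open Filter

/-- positivity of the upper limit gives a lower bound infinitely often -/
theorem exists_freq_of_limsup_pos (d : ℕ) (u : ℕ → ℕ)
    (hpos : 0 < limsup (fun m : ℕ => ((u m : ℕ) : ℝ≥0∞) / (m : ℝ≥0∞) ^ d) atTop) :
    ∃ c : ℝ, 0 < c ∧ ∃ᶠ m : ℕ in atTop, c * (m : ℝ) ^ d ≤ (u m : ℝ) := by
  obtain ⟨b, hb0, hb⟩ := exists_between hpos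
  have hbtop : b ≠ ⊤ := ne_top_of_lt hb
  have hfr := frequently_lt_of_lt_limsup (by isBoundedDefault) hb
  refine ⟨b.toReal, ENNReal.toReal_pos hb0.ne' hbtop, ?_⟩
  refine (hfr.and_eventually (eventually_ge_atTop 1)).mono fun m hm => ?_
  obtain ⟨h1, h2⟩ := hm
  have hm0 : ((m : ℝ≥0∞)) ^ d ≠ 0 := by
    apply pow_ne_zero
    exact_mod_cast (Nat.pos_iff_ne_zero.1 h2)
  have hmt : ((m : ℝ≥0∞)) ^ d ≠ ⊤ := ENNReal.pow_ne_top (ENNReal.natCast_ne_top m)
  rw [ENNReal.lt_div_iff_mul_lt (Or.inl hm0) (Or.inl hmt)] at h1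
  have h3 := ENNReal.toReal_mono (ENNReal.natCast_ne_top (u m)) h1.le
  rw [ENNReal.toReal_mul, ENNReal.toReal_pow, ENNReal.toReal_natCast, ENNReal.toReal_natCast] at h3
  exact h3

variable (k : Type u) [Field k] {X : Scheme.{u}} [X.Over (Spec (CommRingCat.of k))]
  [IsProper (X ↘ (Spec (CommRingCat.of k)))]

/-- `h⁰((L^a)^q) = h⁰(L^(aq))` -/
theorem h0_pow_pow (L : X.Modules) (hL : PicF.IsInvertible L) (a q : ℕ) :
    h0 k (CohB1.tensorPow (CohB1.tensorPow L a) q) = h0 k (CohB1.tensorPow L (a * q)) := by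
  obtain ⟨e⟩ := Groth.Agent.Lib.Helper23.SecTw.nonempty_tensorPow_tensorPow_iso L hL a q (a * q) rfl
  exact h0_congr k e

/-- multiplication by a nonzero section of `L^r` -/
theorem h0_le_of_section [IsIntegral X] (L : X.Modules) (hL : PicF.IsInvertible L) (n r : ℕ)
    (s : Coh.structureModule X ⟶ CohB1.tensorPow L r) (hs : s ≠ 0) :
    h0 k (CohB1.tensorPow L n) ≤ h0 k (CohB1.tensorPow L (n + r)) := by
  obtain ⟨ψ, hψ⟩ := exists_mono_pow_add L hL r n s hs
  exact h0_le_of_mono k ψ (isCoh_of_isInvertible _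
    (Groth.Agent.Lib.Helper23.SecTw.isInvertible_tensorPow hL (n + r)))

/-- the structure of a big invertible module: an ample `B` inside `L^m₀`, sections of all
large powers -/
theorem exists_big_data [IsIntegral X] (A : X.Modules) (hA : CohB1.IsAmple A) (d : ℕ)
    (hd : topologicalKrullDim X = ((d : ℕ) : WithBot ℕ∞)) (L : X.Modules)
    (hL : PicF.IsInvertible L) (c : ℝ) (hc : 0 < c)
    (hfreq : ∃ᶠ m : ℕ in atTop, c * (m : ℝ) ^ d ≤ (h0 k (CohB1.tensorPow L m) : ℝ)) :
    ∃ (B : X.Modules) (_ : CohB1.IsAmple B) (m₀ : ℕ) (_ : 0 < m₀)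
      (φ : B ⟶ CohB1.tensorPow L m₀) (_ : Mono φ) (r₀ : ℕ),
      ∀ r : ℕ, r₀ ≤ r → ∃ u : Coh.structureModule X ⟶ CohB1.tensorPow L r, u ≠ 0 := by
  obtain ⟨a, ha, ⟨s, hs⟩, ⟨t, ht⟩⟩ := exists_pow_sections A hA L hL
  have hB : CohB1.IsAmple (CohB1.tensorPow A a) :=
    (Groth.Agent.Lib.Helper23.SecTw.isAmple_tensorPow_iff A hA.1 a ha).1 hA
  obtain ⟨m₀, φ, hm₀, hφ⟩ := exists_mono_of_growth k A hA d hd L hL c hc hfreq _ hB.1 s hs
  obtain ⟨r₀, hr₀⟩ := exists_sections_eventually L hL _ s hs t ht m₀ φ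
  exact ⟨_, hB, m₀, hm₀, φ, hφ, r₀, hr₀⟩

/-- **a positive volume forces a positive lower volume** -/
theorem liminf_pos_of_limsup_pos [IsIntegral X] (A : X.Modules) (hA : CohB1.IsAmple A) (d : ℕ)
    (hd : topologicalKrullDim X = ((d : ℕ) : WithBot ℕ∞)) (L : X.Modules)
    (hL : PicF.IsInvertible L)
    (hpos : 0 < limsup (fun m : ℕ => ((h0 k (CohB1.tensorPow L m) : ℕ) : ℝ≥0∞) /
      (m : ℝ≥0∞) ^ d) atTop) :
    0 < liminf (fun m : ℕ => ((h0 k (CohB1.tensorPow L m) : ℕ) : ℝ≥0∞) /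
      (m : ℝ≥0∞) ^ d) atTop := by
  obtain ⟨c, hc, hfreq⟩ := exists_freq_of_limsup_pos d _ hpos
  obtain ⟨B, hB, m₀, hm₀, φ, hφ, r₀, hr₀⟩ := exists_big_data k A hA d hd L hL c hc hfreq
  obtain ⟨c', hc', q₀, hq₀⟩ := exists_lower_bound_ample k d hd B hB
  have hLm : PicF.IsInvertible (CohB1.tensorPow L m₀) :=
    Groth.Agent.Lib.Helper23.SecTw.isInvertible_tensorPow hL m₀
  have hm₀R : (0 : ℝ) < m₀ := by exact_mod_cast hm₀
  set c'' : ℝ := c' / (2 * (m₀ : ℝ)) ^ d with hc''def
  have hc'' : 0 < c'' := div_pos hc' (by positivity)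
  -- the lower bound for all large `n`
  have hlow : ∀ n : ℕ, 2 * (r₀ + m₀) + 2 * m₀ * q₀ ≤ n →
      c'' * (n : ℝ) ^ d ≤ (h0 k (CohB1.tensorPow L n) : ℝ) := by
    intro n hn
    set q := (n - r₀) / m₀ with hq
    set r := n - m₀ * q with hr
    have hnr : r₀ ≤ n := by omega
    have h1 : m₀ * q ≤ n - r₀ := Nat.mul_div_le (n - r₀) m₀
    have h2 : n - r₀ < m₀ * q + m₀ := by
      have := Nat.lt_mul_div_succ (n - r₀) hm₀
      rw [Nat.mul_succ] at this
      exact this
    have hrr : r₀ ≤ r := by omega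
    have hnq : m₀ * q + r = n := by omega
    -- `q` is large
    have hqn : (n : ℝ) ≤ 2 * m₀ * q := by
      have h3 : n ≤ 2 * (m₀ * q) := by
        have : 2 * (r₀ + m₀) ≤ n := by omega
        omega
      have : ((n : ℕ) : ℝ) ≤ ((2 * (m₀ * q) : ℕ) : ℝ) := by exact_mod_cast h3
      push_cast at this
      linarith
    have hq₀q : q₀ ≤ q := by
      by_contra hcon
      push Not at hcon
      have h4 : m₀ * q + m₀ ≤ m₀ * q₀ := by
        have : q + 1 ≤ q₀ := hcon
        calc m₀ * q + m₀ = m₀ * (q + 1) := by ring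
          _ ≤ m₀ * q₀ := Nat.mul_le_mul_left _ this
      have h5 : 2 * m₀ * q₀ ≤ n := by omega
      have h6 : n - r₀ < m₀ * q₀ := lt_of_lt_of_le h2 h4
      have h7 : m₀ * q₀ ≤ 2 * m₀ * q₀ := by nlinarith
      omega
    obtain ⟨u, hu⟩ := hr₀ r hrr
    have e1 : h0 k (CohB1.tensorPow L (m₀ * q)) ≤ h0 k (CohB1.tensorPow L n) := by
      have := h0_le_of_section k L hL (m₀ * q) r u hu
      rwa [hnq] at this
    have e2 : h0 k (CohB1.tensorPow B q) ≤ h0 k (CohB1.tensorPow L (m₀ * q)) := by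
      rw [← h0_pow_pow k L hL m₀ q]
      exact h0_pow_le_of_mono k hB.1 hLm φ q
    have e3 := hq₀ q hq₀q
    have e4 : (h0 k (CohB1.tensorPow B q) : ℝ) ≤ (h0 k (CohB1.tensorPow L n) : ℝ) := by
      exact_mod_cast e2.trans e1
    refine le_trans ?_ (e3.trans e4)
    rw [hc''def, div_mul_eq_mul_div, div_le_iff₀ (by positivity), mul_assoc, ← mul_pow]
    refine mul_le_mul_of_nonneg_left ?_ hc'.le
    refine pow_le_pow_left₀ (Nat.cast_nonneg n) ?_ d
    linarith
  refine lt_of_lt_of_le (ENNReal.ofReal_pos.2 hc'') ?_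
  refine le_liminf_of_le (by isBoundedDefault) ?_
  refine (eventually_ge_atTop (max (2 * (r₀ + m₀) + 2 * m₀ * q₀) 1)).mono fun n hn => ?_
  have hn1 : 1 ≤ n := (le_max_right _ _).trans hn
  have hn0 : ((n : ℝ≥0∞)) ^ d ≠ 0 := by
    apply pow_ne_zero
    exact_mod_cast (Nat.pos_iff_ne_zero.1 hn1)
  have hnt : ((n : ℝ≥0∞)) ^ d ≠ ⊤ := ENNReal.pow_ne_top (ENNReal.natCast_ne_top n)
  rw [ENNReal.le_div_iff_mul_le (Or.inl hn0) (Or.inl hnt)]
  have h8 := hlow n ((le_max_left _ _).trans hn)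
  have h9 : ENNReal.ofReal (c'' * (n : ℝ) ^ d) ≤
      ENNReal.ofReal (h0 k (CohB1.tensorPow L n) : ℝ) := ENNReal.ofReal_le_ofReal h8
  rw [ENNReal.ofReal_mul hc''.le, ENNReal.ofReal_pow (Nat.cast_nonneg n),
    ENNReal.ofReal_natCast, ENNReal.ofReal_natCast] at h9
  exact h9

end Main

end Groth.Agent.Lib.R2H4VolBig
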