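import Mathlib
import Groth.Prelude
import Groth.Agent.Lib.R2H4MultiAdd
import Groth.Agent.Lib.R2H4VolBig
import Groth.Agent.Lib.R2H1NefPull

/-!
# Towards Kleiman's theorem, part A (helper4, round 2)

* `Nef` : nefness of an invertible module (degree form);
* `iN_zero_slots`, `iN_one_slot` : the intersection numbers with no and one slot;
* `iN_nonneg_curve` : `(B · F) ≥ 0` for nef `B` and `dim Supp F ≤ 1`;
* `reduction` : cutting with a section of a power of an ample module in a slot;
* `nef_ample_nonneg` : `(B · M^e · Z) ≥ 0` for `B` nef and `M` ample on an integral proper `Z` of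
  dimension `e + 1`.
-/

set_option autoImplicit false
set_option linter.style.haveILetI false
set_option linter.unusedSectionVars false
universe u
open CategoryTheory CategoryTheory.Limits AlgebraicGeometry TopologicalSpace

noncomputable section

namespace Groth.Agent.Lib.R2H4KleimanA

open Groth.Agent.Lib.R2H4NumPoly Groth.Agent.Lib.R2H4TensorPows Groth.Agent.Lib.R2H4Snapper
  Groth.Agent.Lib.R2H4SnapperCor Groth.Agent.Lib.R2H4SnapperRef Groth.Agent.Lib.R2H4MultiAdd
  Groth.Agent.Lib.R2H4AmplePos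

section Defs

variable (k : Type u) [Field k] (X : Scheme.{u}) [X.Over (Spec (CommRingCat.of k))]

/-- nefness: nonnegative degree on every integral closed subscheme of dimension one -/
def Nef (L : X.Modules) : Prop :=
  ∀ C : X.IdealSheafData, IsIntegral C.subscheme →
    topologicalKrullDim (C.support : Set X) = 1 →
    0 ≤ Pic13.curveDeg k (C.subschemeι ≫ (X ↘ (Spec (CommRingCat.of k))))
      ((Scheme.Modules.pullback C.subschemeι).obj L)

end Defs

section Small

variable (k : Type u) [Field k] {X : Scheme.{u}} [X.Over (Spec (CommRingCat.of k))]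
  [IsProper (X ↘ Spec (CommRingCat.of k))]

omit [IsProper (X ↘ Spec (CommRingCat.of k))] in
/-- no slot: the Euler characteristic -/
theorem iN_zero_slots (N : Fin 0 → X.Modules) (F : X.Modules) :
    iN k N F = (Curv2.euler k X F : ℚ) := by
  unfold iN
  have huniv : (Finset.univ : Finset (Finset (Fin 0))) = {∅} := by
    ext t
    simp only [Finset.mem_univ, Finset.mem_singleton, true_iff]
    exact Finset.eq_empty_of_isEmpty t
  rw [huniv, Finset.sum_singleton]
  simp only [Finset.card_empty, Nat.sub_self, pow_zero, one_mul]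
  rfl

/-- one slot: the degree -/
theorem iN_one_slot (B F : X.Modules) :
    iN k (Fin.cons B (Fin.elim0 : Fin 0 → X.Modules) : Fin 1 → X.Modules) F =
      (Curv2.euler k X (CohB1.tensorMod F B) : ℚ) - (Curv2.euler k X F : ℚ) := by
  have h := iN_insertNth k (0 : Fin 1) (Fin.elim0 : Fin 0 → X.Modules) B F
  rw [Fin.insertNth_zero'] at h
  rw [h, iN_zero_slots, iN_zero_slots]

theorem dim_support_zI (ξ : X) :
    topologicalKrullDim ((zI ξ).support : Set X) = topologicalKrullDim (closure ({ξ} : Set X)) := by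
  rw [Scheme.IdealSheafData.coe_support_vanishingIdeal]
  rfl

/-- `(B · F) ≥ 0` for nef `B` and `dim Supp F ≤ 1` -/
theorem iN_nonneg_curve (B : X.Modules) (hB : PicF.IsInvertible B) (hnef : Nef k X B)
    (F : X.Modules) (hF : Coh.IsCoh F)
    (hsupp : topologicalKrullDim (CohB1.support F) ≤ ((1 : ℕ) : WithBot ℕ∞)) :
    0 ≤ iN k (Fin.cons B (Fin.elim0 : Fin 0 → X.Modules) : Fin 1 → X.Modules) F := by
  refine iN_nonneg_of_points k 1 _ (Groth.Agent.Lib.R2H4NumEquivInt.isInvertible_cons_elim0 B hB) (fun ξ hξ => ?_) F hF hsupp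
  rw [iN_one_slot]
  have hdim : topologicalKrullDim ((zI ξ).support : Set X) = 1 := by
    rw [dim_support_zI, hξ]; rfl
  have h1 := Groth.Agent.Lib.R2H1.NefPull.euler_quotMod_tensor_sub k X (zI ξ) hdim.le B hB
  have h2 := hnef (zI ξ) (isIntegral_zS ξ) hdim
  rw [← h1] at h2
  have h3 : (0 : ℚ) ≤ ((Curv2.euler k X (CohB1.tensorMod (ClSub.quotMod (zI ξ)) B) -
      Curv2.euler k X (ClSub.quotMod (zI ξ)) : ℤ) : ℚ) := by exact_mod_cast h2
  push_cast at h3
  exact h3

end Small

section Red

variable (k : Type u) [Field k] {Z : Scheme.{u}} [Z.Over (Spec (CommRingCat.of k))]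
  [IsProper (Z ↘ Spec (CommRingCat.of k))] [IsIntegral Z]

theorem natCast_lt_succ (e : ℕ) : ((e : ℕ) : WithBot ℕ∞) < ((e + 1 : ℕ) : WithBot ℕ∞) := by
  change (((e : ℕ) : ℕ∞) : WithBot ℕ∞) < (((e + 1 : ℕ) : ℕ∞) : WithBot ℕ∞)
  rw [WithBot.coe_lt_coe, Nat.cast_lt]
  exact Nat.lt_succ_self e

omit [IsProper (Z ↘ Spec (CommRingCat.of k))] [IsIntegral Z] [Z.Over (Spec (CommRingCat.of k))] in
theorem dim_support_le_dim (F : Z.Modules) :
    topologicalKrullDim (CohB1.support F) ≤ topologicalKrullDim Z :=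
  Topology.IsInducing.subtypeVal.topologicalKrullDim_le

/-- **cutting with a section of a power of an ample module placed in slot `j`** -/
theorem reduction (e : ℕ) (hZ : topologicalKrullDim Z = ((e + 1 : ℕ) : WithBot ℕ∞))
    (N : Fin e → Z.Modules) (hN : ∀ i, PicF.IsInvertible (N i)) (A : Z.Modules)
    (hA : CohB1.IsAmple A) (j : Fin (e + 1))
    (hpt : ∀ ξ : Z, topologicalKrullDim (closure ({ξ} : Set Z)) = ((e : ℕ) : WithBot ℕ∞) →
      0 ≤ iN k N (ClSub.quotMod (zI ξ))) :
    0 ≤ iN k (Fin.insertNth (α := fun _ => Z.Modules) j A N) (Coh.structureModule Z) := by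
  haveI := Groth.Agent.Lib.R2H1.CurveEuler.isNoetherian_of_proper k Z
  have hO : PicF.IsInvertible (Coh.structureModule Z) :=
    Groth.Agent.Lib.Helper23.TensorUnit.isInvertible_structureModule Z
  have cO : Coh.IsCoh (Coh.structureModule Z) :=
    Groth.Agent.Lib.R2H1.GenusLe.isCoh_structureModule Z
  obtain ⟨a, ha, ⟨s, hs⟩, -⟩ :=
    Groth.Agent.Lib.R2H4VolBig.exists_pow_sections A hA (Coh.structureModule Z) hO
  have hAa : PicF.IsInvertible (CohB1.tensorPow A a) :=
    Groth.Agent.Lib.Helper23.SecTw.isInvertible_tensorPow hA.1 a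
  have cAa : Coh.IsCoh (CohB1.tensorPow A a) :=
    Groth.Agent.Lib.R2H4VolBasic.isCoh_of_isInvertible _ hAa
  haveI : Mono s := Groth.Agent.Lib.R2H1.InvHom.mono_of_ne_zero hO hAa s hs
  let S : ShortComplex Z.Modules := ShortComplex.mk s (cokernel.π s) (cokernel.condition s)
  have hS : S.ShortExact :=
    { exact := ShortComplex.exact_cokernel s
      mono_f := by dsimp [S]; infer_instance
      epi_g := by dsimp [S]; infer_instance }
  have cC : Coh.IsCoh (cokernel s) := Groth.Agent.Lib.R2H2.NilFilt.isCoh_cokernel cO cAa s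
  have hdimC : topologicalKrullDim (CohB1.support (cokernel s)) ≤ ((e : ℕ) : WithBot ℕ∞) := by
    have h1 := Groth.Agent.Lib.R2H4VolBig.dim_support_cokernel_lt k _ hAa s hs
    rw [hZ] at h1
    exact le_of_lt_succ' _ _ h1
  have hdimO : topologicalKrullDim (CohB1.support (Coh.structureModule Z)) <
      ((e + 2 : ℕ) : WithBot ℕ∞) := by
    refine lt_of_le_of_lt (dim_support_le_dim _) ?_
    rw [hZ]
    exact natCast_lt_succ (e + 1)
  have h1 : iN k (Fin.insertNth (α := fun _ => Z.Modules) j (CohB1.tensorPow A a) N)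
      (Coh.structureModule Z) = iN k N (cokernel s) := by
    rw [iN_insertNth, iN_congr k N (lUnit (CohB1.tensorPow A a))]
    have := iN_add k N hN S hS cO cAa cC
    dsimp [S] at this
    linarith
  have h2 := iN_insertNth_pow k j N hN A hA.1 (Coh.structureModule Z) cO hdimO a
  have h3 := iN_nonneg_of_points k e N hN hpt (cokernel s) cC hdimC
  have haQ : (0 : ℚ) < (a : ℚ) := by exact_mod_cast ha
  have h4 : 0 ≤ (a : ℚ) * iN k (Fin.insertNth (α := fun _ => Z.Modules) j A N)
      (Coh.structureModule Z) := by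
    rw [← h2, h1]; exact h3
  exact (mul_nonneg_iff_of_pos_left haQ).1 h4

end Red

section NefAmple

variable (k : Type u) [Field k]

/-- nefness restricts to the integral closed subscheme with generic point `ξ` -/
theorem nef_zS {Z : Scheme.{u}} [Z.Over (Spec (CommRingCat.of k))]
    [IsProper (Z ↘ Spec (CommRingCat.of k))] (B : Z.Modules) (hB : PicF.IsInvertible B)
    (hnef : Nef k Z B) (D : Z.IdealSheafData) :
    @Nef k _ D.subscheme ⟨D.subschemeι ≫ (Z ↘ Spec (CommRingCat.of k))⟩
      ((Scheme.Modules.pullback D.subschemeι).obj B) := by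
  letI : D.subscheme.Over (Spec (CommRingCat.of k)) :=
    ⟨D.subschemeι ≫ (Z ↘ Spec (CommRingCat.of k))⟩
  haveI : IsProper (D.subscheme ↘ Spec (CommRingCat.of k)) :=
    inferInstanceAs (IsProper (D.subschemeι ≫ (Z ↘ Spec (CommRingCat.of k))))
  intro C' hC' hdim'
  exact Groth.Agent.Lib.R2H1.NefPull.nef_pullback k Z D.subscheme D.subschemeι rfl B hB hnef
    C' hC' hdim'

/-- **`(B · M^e · Z) ≥ 0`** for `B` nef and `M` ample on an integral proper scheme of dimension
`e + 1` -/
theorem nef_ample_nonneg (e : ℕ) : ∀ (Z : Scheme.{u}) [Z.Over (Spec (CommRingCat.of k))]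
    [IsProper (Z ↘ Spec (CommRingCat.of k))] [IsIntegral Z],
    topologicalKrullDim Z = ((e + 1 : ℕ) : WithBot ℕ∞) → ∀ (B M : Z.Modules),
    PicF.IsInvertible B → Nef k Z B → CohB1.IsAmple M →
    0 ≤ iN k (Fin.cons B (fun _ : Fin e => M) : Fin (e + 1) → Z.Modules)
      (Coh.structureModule Z) := by
  induction e with
  | zero =>
    intro Z _ _ _ hZ B M hB hnef hM
    haveI := Groth.Agent.Lib.R2H1.CurveEuler.isNoetherian_of_proper k Z
    have cO : Coh.IsCoh (Coh.structureModule Z) :=
      Groth.Agent.Lib.R2H1.GenusLe.isCoh_structureModule Z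
    have hv : (Fin.cons B (fun _ : Fin 0 => M) : Fin 1 → Z.Modules) =
        Fin.cons B (Fin.elim0 : Fin 0 → Z.Modules) := by
      congr 1
      funext i
      exact i.elim0
    rw [hv]
    refine iN_nonneg_curve k B hB hnef _ cO ?_
    refine (dim_support_le_dim _).trans ?_
    rw [hZ]
  | succ e ih =>
    intro Z _ _ _ hZ B M hB hnef hM
    have hv : (Fin.cons B (fun _ : Fin (e + 1) => M) : Fin (e + 2) → Z.Modules) =
        Fin.insertNth (α := fun _ => Z.Modules) (1 : Fin (e + 2)) M
          (Fin.cons B (fun _ : Fin e => M) : Fin (e + 1) → Z.Modules) := by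
      have h1 : (1 : Fin (e + 2)) = Fin.succ (0 : Fin (e + 1)) := rfl
      rw [h1, Fin.insertNth_succ_cons, Fin.insertNth_zero']
      congr 1
      funext i
      refine Fin.cases rfl (fun _ => rfl) i
    rw [hv]
    have hNinv : ∀ i, PicF.IsInvertible
        ((Fin.cons B (fun _ : Fin e => M) : Fin (e + 1) → Z.Modules) i) :=
      Groth.Agent.Lib.R2H4NumEquivInt.isInvertible_cons B hB _ (fun _ => hM.1)
    refine reduction k (e + 1) hZ _ hNinv M hM 1 (fun ξ hξ => ?_)
    rw [iN_quotMod_eq k (zI ξ) _ hNinv]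
    letI : (zI ξ).subscheme.Over (Spec (CommRingCat.of k)) :=
      ⟨(zI ξ).subschemeι ≫ (Z ↘ Spec (CommRingCat.of k))⟩
    haveI : IsProper ((zI ξ).subscheme ↘ Spec (CommRingCat.of k)) :=
      inferInstanceAs (IsProper ((zI ξ).subschemeι ≫ (Z ↘ Spec (CommRingCat.of k))))
    haveI := isIntegral_zS ξ
    have hfun : (fun i => (Scheme.Modules.pullback (zI ξ).subschemeι).obj
        ((Fin.cons B (fun _ : Fin e => M) : Fin (e + 1) → Z.Modules) i)) =
        (Fin.cons ((Scheme.Modules.pullback (zI ξ).subschemeι).obj B)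
          (fun _ : Fin e => (Scheme.Modules.pullback (zI ξ).subschemeι).obj M) :
            Fin (e + 1) → (zI ξ).subscheme.Modules) := by
      funext i
      refine Fin.cases rfl (fun _ => rfl) i
    rw [hfun]
    exact ih (zI ξ).subscheme ((dim_zS ξ).trans hξ) _ _
      (Groth.Agent.Lib.Helper23.PB.isInvertible_pullback _ B hB)
      (nef_zS k B hB hnef (zI ξ))
      (Groth.Agent.Lib.Helper23.PB.isAmple_pullback_of_isAffineHom _ _ hM)

end NefAmple

end Groth.Agent.Lib.R2H4KleimanA
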