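import Mathlib

/-!
# The real-root argument in Kleiman's theorem (helper4, round 2)

`kleiman_root` : a purely algebraic/analytic lemma.  Let `c_r`, `r : Fin e → Bool`, be rational
numbers, nonnegative except possibly for `r ≡ true`, with `c_false > 0`, and put
`P(a, b) = ∑_r c_r b^{#true} a^{#false}`.  If `P(a, b) > 0` implies `P(a, b) ≥ c_false a^e` for
all positive integers `a`, `b`, then `c_true ≥ 0`.
-/

set_option autoImplicit false
open Filter Topology

namespace Groth.Agent.Lib.R2H4KleimanRoot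

/-- the abstract continuity argument -/
theorem no_root_argument (p q : ℝ → ℝ) (hp : Continuous p) (hq : Continuous q) (h0 : p 0 < 0)
    (hq0 : 0 ≤ q 0) (hqpos : ∀ t, 0 < t → 0 < q t)
    (B : ℝ) (hB : 0 < B) (hBp : ∀ t, B ≤ t → 0 < p t)
    (himp : ∀ t : ℚ, 0 < t → 0 < p t → q t ≤ p t) : False := by
  set S : Set ℝ := Set.Icc 0 B ∩ {t | p t ≤ 0} with hS
  have hScomp : IsCompact S := isCompact_Icc.inter_right (isClosed_le hp continuous_const)
  have hSne : S.Nonempty := ⟨0, ⟨le_refl 0, hB.le⟩, h0.le⟩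
  have ht0 : sSup S ∈ S := hScomp.sSup_mem hSne
  have hbdd : BddAbove S := hScomp.bddAbove
  set t0 := sSup S with ht0def
  have hpos : ∀ t, t0 < t → 0 < p t := by
    intro t ht
    by_cases htB : B ≤ t
    · exact hBp t htB
    · by_contra hcon
      push Not at hcon htB
      have hmem : t ∈ S := ⟨⟨(ht0.1.1).trans ht.le, htB.le⟩, hcon⟩
      exact absurd (le_csSup hbdd hmem) (not_le.2 ht)
  have hge : q t0 ≤ p t0 := by
    by_contra hcon
    push Not at hcon
    have hcont : ContinuousAt (fun t => q t - p t) t0 := (hq.sub hp).continuousAt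
    have hev : ∀ᶠ t in 𝓝 t0, 0 < q t - p t :=
      hcont.eventually (lt_mem_nhds (sub_pos.2 hcon))
    obtain ⟨ε, hε, hball⟩ := Metric.eventually_nhds_iff.1 hev
    obtain ⟨r, hr1, hr2⟩ := exists_rat_btwn (lt_add_of_pos_right t0 hε)
    have hr0 : (0 : ℝ) < r := lt_of_le_of_lt ht0.1.1 hr1
    have h1 := hball (show dist (r : ℝ) t0 < ε by
      rw [Real.dist_eq, abs_of_pos (sub_pos.2 hr1)]; linarith)
    have h2 := himp r (by exact_mod_cast hr0) (hpos r hr1)
    linarith
  have hp0 : p t0 ≤ 0 := ht0.2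
  rcases (ht0.1.1).eq_or_lt with h | h
  · rw [← h] at hge; linarith
  · have := hqpos t0 h; linarith

section Main

variable (e : ℕ) (c : (Fin e → Bool) → ℚ)

/-- the dehomogenized polynomial -/
noncomputable def pp (t : ℝ) : ℝ := ∑ r : Fin e → Bool, (∏ i, (if r i then (1 : ℝ) else t)) * (c r : ℝ)

theorem continuous_pp : Continuous (pp e c) := by
  unfold pp
  refine continuous_finsetSum _ fun r _ => ?_
  refine Continuous.mul ?_ continuous_const
  refine continuous_finsetProd _ fun i _ => ?_
  show Continuous fun t : ℝ => if r i = true then (1 : ℝ) else t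
  by_cases h : r i = true
  · simp only [h, if_true]; exact continuous_const
  · simp only [h]; exact continuous_id

theorem prod_true (t : ℝ) : (∏ i : Fin e, (if (fun _ => true : Fin e → Bool) i then (1 : ℝ) else t)) = 1 := by
  simp

theorem prod_false (t : ℝ) :
    (∏ i : Fin e, (if (fun _ => false : Fin e → Bool) i then (1 : ℝ) else t)) = t ^ e := by
  simp

theorem pp_zero : pp e c 0 = (c (fun _ => true) : ℝ) := by
  unfold pp
  rw [Finset.sum_eq_single (fun _ => true : Fin e → Bool)]
  · rw [prod_true, one_mul]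
  · intro r _ hr
    have : ∃ i, r i = false := by
      by_contra hcon
      push Not at hcon
      apply hr
      funext i
      simpa using hcon i
    obtain ⟨i, hi⟩ := this
    rw [Finset.prod_eq_zero (Finset.mem_univ i) (by simp [hi]), zero_mul]
  · intro h; exact absurd (Finset.mem_univ _) h

theorem true_ne_false (he : 0 < e) : (fun _ => true : Fin e → Bool) ≠ fun _ => false := by
  intro h
  have := congrFun h ⟨0, he⟩
  simp at this

theorem pp_lower (he : 0 < e) (hnn : ∀ r, r ≠ (fun _ => true) → 0 ≤ c r) (t : ℝ) (ht : 0 ≤ t) :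
    (c (fun _ => true) : ℝ) + (c (fun _ => false) : ℝ) * t ^ e ≤ pp e c t := by
  classical
  unfold pp
  have hsub : ({(fun _ => true), (fun _ => false)} : Finset (Fin e → Bool)) ⊆ Finset.univ :=
    Finset.subset_univ _
  have h1 := Finset.sum_le_sum_of_subset_of_nonneg hsub
    (f := fun r : Fin e → Bool => (∏ i, (if r i then (1 : ℝ) else t)) * (c r : ℝ))
    (fun r _ hr => by
      have hr' : r ≠ fun _ => true := by
        intro h; apply hr; rw [h]; simp
      have h2 : (0 : ℝ) ≤ (c r : ℝ) := by exact_mod_cast hnn r hr'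
      refine mul_nonneg (Finset.prod_nonneg fun i _ => ?_) h2
      by_cases h : r i = true
      · simp [h]
      · simp [h, ht])
  rw [Finset.sum_pair (true_ne_false e he)] at h1
  simp at h1
  linarith

/-- **the root argument** -/
theorem kleiman_root (he : 0 < e)
    (hnn : ∀ r, r ≠ (fun _ => true) → 0 ≤ c r) (hF : 0 < c (fun _ => false))
    (h : ∀ a b : ℕ, 0 < a → 0 < b →
      0 < ∑ r : Fin e → Bool, (∏ i, (if r i then (b : ℚ) else (a : ℚ))) * c r →
      c (fun _ => false) * (a : ℚ) ^ e ≤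
        ∑ r : Fin e → Bool, (∏ i, (if r i then (b : ℚ) else (a : ℚ))) * c r) :
    0 ≤ c (fun _ => true) := by
  by_contra hneg
  push Not at hneg
  have hFR : (0 : ℝ) < (c (fun _ => false) : ℝ) := by exact_mod_cast hF
  have hTR : (c (fun _ => true) : ℝ) < 0 := by exact_mod_cast hneg
  have he0 : e ≠ 0 := Nat.pos_iff_ne_zero.1 he
  set cF : ℝ := (c (fun _ => false) : ℝ) with hcF
  set cT : ℝ := (c (fun _ => true) : ℝ) with hcT
  -- the homogeneous form
  have hhom : ∀ a b : ℕ, 0 < b →
      ((∑ r : Fin e → Bool, (∏ i, (if r i then (b : ℚ) else (a : ℚ))) * c r : ℚ) : ℝ) =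
        (b : ℝ) ^ e * pp e c ((a : ℝ) / (b : ℝ)) := by
    intro a b hb
    have hbR : (b : ℝ) ≠ 0 := by exact_mod_cast (Nat.pos_iff_ne_zero.1 hb)
    unfold pp
    push_cast
    rw [Finset.mul_sum]
    refine Finset.sum_congr rfl fun r _ => ?_
    rw [← mul_assoc]
    congr 1
    have : (b : ℝ) ^ e = ∏ _i : Fin e, (b : ℝ) := by simp
    rw [this, ← Finset.prod_mul_distrib]
    refine Finset.prod_congr rfl fun i _ => ?_
    by_cases hi : r i = true
    · simp [hi]
    · simp only [hi, Bool.false_eq_true, if_false]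
      push_cast
      field_simp
  refine no_root_argument (pp e c) (fun t => cF * t ^ e) (continuous_pp e c)
    (by fun_prop) ?_ ?_ ?_ (max 1 (-cT / cF + 1)) ?_ ?_ ?_
  · rw [pp_zero e c]; exact hTR
  · simp [he0]
  · intro t ht; exact mul_pos hFR (pow_pos ht e)
  · exact lt_of_lt_of_le one_pos (le_max_left _ _)
  · intro t ht
    have ht1 : (1 : ℝ) ≤ t := (le_max_left _ _).trans ht
    have ht2 : -cT / cF + 1 ≤ t := (le_max_right _ _).trans ht
    have ht0 : (0 : ℝ) ≤ t := zero_le_one.trans ht1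
    have hpow : t ≤ t ^ e := le_self_pow₀ ht1 he0
    have hlow := pp_lower e c he hnn t ht0
    have h3 : -cT < cF * t := by
      have : -cT / cF < t := by linarith
      rw [div_lt_iff₀ hFR] at this
      linarith
    have h4 : cF * t ≤ cF * t ^ e := mul_le_mul_of_nonneg_left hpow hFR.le
    linarith
  · intro t ht hpt
    -- `t = a / b`
    have hnum : 0 < t.num := Rat.num_pos.2 ht
    set a : ℕ := t.num.toNat with ha
    set b : ℕ := t.den with hb
    have hb0 : 0 < b := t.den_pos
    have ha0 : 0 < a := by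
      rw [ha]; omega
    have haZ : ((a : ℕ) : ℤ) = t.num := by
      rw [ha]; exact Int.toNat_of_nonneg hnum.le
    have htab : ((t : ℚ) : ℝ) = (a : ℝ) / (b : ℝ) := by
      have h1 : (t : ℚ) = (t.num : ℚ) / (t.den : ℚ) := (Rat.num_div_den t).symm
      have h2 : ((a : ℕ) : ℚ) = (t.num : ℚ) := by exact_mod_cast haZ
      rw [h1, ← h2]
      push_cast
      rfl
    have hbR : (0 : ℝ) < (b : ℝ) := by exact_mod_cast hb0
    have hbe : (0 : ℝ) < (b : ℝ) ^ e := pow_pos hbR e
    have hP := hhom a b hb0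
    rw [← htab] at hP
    have hPpos : 0 < ∑ r : Fin e → Bool, (∏ i, (if r i then (b : ℚ) else (a : ℚ))) * c r := by
      have : (0 : ℝ) < ((∑ r : Fin e → Bool,
          (∏ i, (if r i then (b : ℚ) else (a : ℚ))) * c r : ℚ) : ℝ) := by
        rw [hP]; exact mul_pos hbe hpt
      exact_mod_cast this
    have hle := h a b ha0 hb0 hPpos
    have hleR : cF * (a : ℝ) ^ e ≤ (b : ℝ) ^ e * pp e c (t : ℝ) := by
      rw [← hP]
      have : ((c (fun _ => false) * (a : ℚ) ^ e : ℚ) : ℝ) ≤
          ((∑ r : Fin e → Bool, (∏ i, (if r i then (b : ℚ) else (a : ℚ))) * c r : ℚ) : ℝ) := by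
        exact_mod_cast hle
      push_cast at this ⊢
      exact this
    show cF * ((t : ℚ) : ℝ) ^ e ≤ pp e c (t : ℝ)
    rw [htab, div_pow, ← htab]
    rw [mul_div_assoc', div_le_iff₀ hbe]
    linarith

end Main

end Groth.Agent.Lib.R2H4KleimanRoot
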