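import Groth.Agent.Lib.R2H2DevF
set_option backward.isDefEq.respectTransparency.types false

/-!
# Dévissage of coherent modules, part G: the extension-only induction (helper2, round 2)

* `exists_mono_graph` : coherent `F'`, `G'` isomorphic over an open `D` admit a coherent `T` with
  monomorphisms into both which are isomorphisms over `D` (graph + Artin–Rees).
* `core2` : the Noetherian induction for a property closed under extensions only.
* `prop_of_mono_pow` : if every coherent subobject of `G` has `P`, so has every coherent subobject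
  of `pow G r`.
-/

set_option autoImplicit false
set_option linter.style.haveILetI false
universe u

open CategoryTheory CategoryTheory.Limits AlgebraicGeometry TopologicalSpace

namespace Groth.Agent.Lib.R2H2.DevG

open Groth.Agent.Lib.R2H2.StalkPow Groth.Agent.Lib.R2H2.DevA Groth.Agent.Lib.R2H2.DevB
  Groth.Agent.Lib.R2H2.DevF Groth.Agent.Lib.R2H2.NilFilt

variable {X : Scheme.{u}} [IsNoetherian X]

omit [AlgebraicGeometry.IsNoetherian X] in
theorem support_pow_le (J : X.IdealSheafData) (m : ℕ) :
    ((J ^ m).support : Set X) ⊆ (J.support : Set X) := by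
  cases m with
  | zero =>
    rw [pow_zero]
    intro x hx
    have h1 : (1 : X.IdealSheafData) = ⊤ := rfl
    rw [h1, Scheme.IdealSheafData.support_top] at hx
    exact hx.elim
  | succ n => rw [Scheme.IdealSheafData.support_pow_succ]

omit [AlgebraicGeometry.IsNoetherian X] in
/-- sections of a module vanishing on `D` over opens inside `D` -/
theorem subsingleton_sections_of_isZero_restrict (D : X.Opens) (K : X.Modules)
    (h0 : IsZero ((Scheme.Modules.restrictFunctor D.ι).obj K)) (W : X.Opens)
    (hW : (W : Set X) ⊆ (D : Set X)) : Subsingleton Γ(K, W) := by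
  refine ⟨fun s t => ?_⟩
  have hdis : ∀ x ∈ W, x ∉ CohB1.support K := fun x hxW =>
    not_mem_support_of_isZero_restrict_opens D K h0 x (hW hxW)
  rw [Groth.Agent.Lib.Helper23.Support.eq_zero_of_disjoint_support K W hdis s,
    Groth.Agent.Lib.Helper23.Support.eq_zero_of_disjoint_support K W hdis t]

theorem exists_mono_graph (F' G' : X.Modules) (cF' : Coh.IsCoh F') (cG' : Coh.IsCoh G')
    (D : X.Opens) (e : F'.restrict D.ι ≅ G'.restrict D.ι) :
    ∃ (T : X.Modules) (a : T ⟶ F') (b : T ⟶ G'), Coh.IsCoh T ∧ Mono a ∧ Mono b ∧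
      IsIso ((Scheme.Modules.restrictFunctor D.ι).map a) ∧
      IsIso ((Scheme.Modules.restrictFunctor D.ι).map b) := by
  obtain ⟨H, ψ, hψ, cH, ha, hb⟩ := exists_graph' D.ι F' G' cF' cG' e
  haveI := ha
  haveI := hb
  let J : X.IdealSheafData :=
    Scheme.IdealSheafData.vanishingIdeal ⟨(D : Set X)ᶜ, D.2.isClosed_compl⟩
  have hJs : (J.support : Set X) = (D : Set X)ᶜ :=
    Scheme.IdealSheafData.coe_support_vanishingIdeal _
  have hvan : ∀ {M : X.Modules} (p : H ⟶ M)
      [IsIso ((Scheme.Modules.restrictFunctor D.ι).map p)] (W : X.Opens),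
      Disjoint (W : Set X) (J.support : Set X) → Subsingleton Γ(kernel p, W) := by
    intro M p _ W hW
    have hK0 : IsZero ((Scheme.Modules.restrictFunctor D.ι).obj (kernel p)) :=
      IsZero.of_iso (isZero_kernel_of_mono _)
        (PreservesKernel.iso (Scheme.Modules.restrictFunctor D.ι) p)
    refine subsingleton_sections_of_isZero_restrict D _ hK0 W (fun x hxW => ?_)
    by_contra hxD
    exact Set.disjoint_left.1 hW hxW (hJs ▸ hxD)
  obtain ⟨m₁, hm₁⟩ := exists_mono_idealMul_comp H F' cH cF' (ψ ≫ biprod.fst) J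
    (hvan (ψ ≫ biprod.fst))
  obtain ⟨m₂, hm₂⟩ := exists_mono_idealMul_comp H G' cH cG' (ψ ≫ biprod.snd) J
    (hvan (ψ ≫ biprod.snd))
  let m := max m₁ m₂
  haveI := hm₁ m (le_max_left _ _)
  haveI := hm₂ m (le_max_right _ _)
  have hdis : Disjoint (D : Set X) ((J ^ m).support : Set X) := by
    rw [Set.disjoint_left]
    intro x hxD hxs
    have := support_pow_le J m hxs
    rw [hJs] at this
    exact this hxD
  haveI := isIso_restrict_idealMulι (J ^ m) H D hdis
  refine ⟨(Dual3.idealMul (J ^ m)).obj H, Dual3.idealMulι (J ^ m) H ≫ ψ ≫ biprod.fst,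
    Dual3.idealMulι (J ^ m) H ≫ ψ ≫ biprod.snd, isCoh_idealMul (J ^ m) H cH, inferInstance,
    inferInstance, ?_, ?_⟩
  · rw [Functor.map_comp]; infer_instance
  · rw [Functor.map_comp]; infer_instance

/-- **the extension-only dévissage induction.** -/
theorem core2 (P : X.Modules → Prop) (h0 : ∀ M : X.Modules, IsZero M → P M) (X' : Set X)
    (hext : ∀ S : ShortComplex X.Modules, S.ShortExact → Coh.IsCoh S.X₁ → Coh.IsCoh S.X₂ →
      Coh.IsCoh S.X₃ → CohB1.support S.X₂ ⊆ X' → P S.X₁ → P S.X₃ → P S.X₂)
    (hloc : ∀ (Y : Closeds X), (Y : Set X) ⊆ X' → (Y : Set X).Nonempty →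
      (∀ Y' : Closeds X, Y' < Y → ∀ F : X.Modules, Coh.IsCoh F →
        CohB1.support F ⊆ (Y' : Set X) → P F) →
      ∀ F : X.Modules, Coh.IsCoh F → CohB1.support F ⊆ (Y : Set X) →
        ClSub.KilledByIdeal (Scheme.IdealSheafData.vanishingIdeal Y) F →
        ∃ (F' T : X.Modules) (j : T ⟶ F') (D : X.Opens), Coh.IsCoh F' ∧ Coh.IsCoh T ∧ Mono j ∧
          CohB1.support F' ⊆ (Y : Set X) ∧ P T ∧ (P F' → P F) ∧
          ((D : Set X) ∩ (Y : Set X)).Nonempty ∧
          IsIso ((Scheme.Modules.restrictFunctor D.ι).map j)) :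
    ∀ (Y : Closeds X), (Y : Set X) ⊆ X' → ∀ F : X.Modules, Coh.IsCoh F →
      CohB1.support F ⊆ (Y : Set X) → P F := by
  intro Y
  induction Y using WellFoundedLT.induction with
  | ind Y IH =>
    intro hYX' F hF hsupp
    by_cases hne : (Y : Set X).Nonempty
    swap
    · rw [Set.not_nonempty_iff_eq_empty] at hne
      exact h0 F (isZero_of_support_subset_empty F (hne ▸ hsupp))
    have IH' : ∀ Y' : Closeds X, Y' < Y → ∀ F : X.Modules, Coh.IsCoh F →
        CohB1.support F ⊆ (Y' : Set X) → P F :=
      fun Y' hY' F hF hs => IH Y' hY' (fun x hx => hYX' (hY'.le hx)) F hF hs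
    set J := Scheme.IdealSheafData.vanishingIdeal Y with hJ
    have hQm : ∀ {A B : X.Modules} (f : A ⟶ B), Mono f →
        CohB1.support B ⊆ (Y : Set X) → CohB1.support A ⊆ (Y : Set X) :=
      fun f hf hB => haveI := hf; (support_subset_of_mono f).trans hB
    have hQe : ∀ {A B : X.Modules} (f : A ⟶ B), Epi f →
        CohB1.support A ⊆ (Y : Set X) → CohB1.support B ⊆ (Y : Set X) :=
      fun f hf hA => haveI := hf; (support_subset_of_epi f).trans hA
    have hextY : ∀ S : ShortComplex X.Modules, S.ShortExact → Coh.IsCoh S.X₁ → Coh.IsCoh S.X₂ →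
        Coh.IsCoh S.X₃ → CohB1.support S.X₂ ⊆ (Y : Set X) → P S.X₁ → P S.X₃ → P S.X₂ :=
      fun S hS c₁ c₂ c₃ hs => hext S hS c₁ c₂ c₃ (hs.trans hYX')
    have hkilled : ∀ M : X.Modules, Coh.IsCoh M → CohB1.support M ⊆ (Y : Set X) →
        ClSub.KilledByIdeal J M → P M := by
      intro M hM hMs hMk
      obtain ⟨F', T, j, D, cF', cT, hj, sF', hPT, hPF, hDY, hiso⟩ :=
        hloc Y hYX' hne IH' M hM hMs hMk
      haveI := hj
      haveI := hiso
      let Y' : Closeds X := ⟨(Y : Set X) ∩ (D : Set X)ᶜ, Y.2.inter D.2.isClosed_compl⟩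
      have hY' : Y' < Y := by
        refine lt_of_le_of_ne (fun x hx => hx.1) ?_
        intro heq
        obtain ⟨x, hxD, hxY⟩ := hDY
        have : x ∈ (Y' : Set X) := by rw [heq]; exact hxY
        exact this.2 hxD
      haveI : PreservesColimitsOfSize.{0, 0} (Scheme.Modules.restrictFunctor D.ι) :=
        (Scheme.Modules.restrictAdjunction D.ι).leftAdjoint_preservesColimits
      have cC : Coh.IsCoh (cokernel j) := isCoh_cokernel cT cF' j
      have hC0 : IsZero ((Scheme.Modules.restrictFunctor D.ι).obj (cokernel j)) :=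
        IsZero.of_iso (isZero_cokernel_of_epi _)
          (PreservesCokernel.iso (Scheme.Modules.restrictFunctor D.ι) j)
      have sC : CohB1.support (cokernel j) ⊆ (Y' : Set X) := fun x hx =>
        ⟨sF' (support_subset_of_epi (cokernel.π j) hx), fun hxD =>
          not_mem_support_of_isZero_restrict_opens D _ hC0 x hxD hx⟩
      let S : ShortComplex X.Modules := ShortComplex.mk j (cokernel.π j) (cokernel.condition j)
      have hS : S.ShortExact :=
        { exact := ShortComplex.exact_cokernel j
          mono_f := inferInstanceAs (Mono j)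
          epi_g := inferInstanceAs (Epi (cokernel.π j)) }
      exact hPF (hextY S hS cT cF' cC sF' hPT (IH' Y' hY' _ cC sC))
    have hvan : ∀ W : X.Opens, Disjoint (W : Set X) (J.support : Set X) →
        Subsingleton Γ(F, W) := by
      intro W hW
      refine ⟨fun s t => ?_⟩
      have hdis : ∀ x ∈ W, x ∉ CohB1.support F := by
        intro x hxW hxF
        refine Set.disjoint_left.1 hW hxW ?_
        rw [hJ, Scheme.IdealSheafData.coe_support_vanishingIdeal]
        exact hsupp hxF
      rw [Groth.Agent.Lib.Helper23.Support.eq_zero_of_disjoint_support F W hdis s,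
        Groth.Agent.Lib.Helper23.Support.eq_zero_of_disjoint_support F W hdis t]
    obtain ⟨k, hk⟩ := exists_killed_pow J F hF hvan
    exact prop_of_killed_pow J P (fun M => CohB1.support M ⊆ (Y : Set X)) hQm hQe
      hextY hkilled k F hF hsupp hk

/-- if all coherent subobjects of `G` have `P` (extension-closed, containing `0`), so have all
coherent subobjects of `pow G r` -/
theorem prop_of_mono_pow (P : X.Modules → Prop) (h0 : ∀ M : X.Modules, IsZero M → P M)
    (X' : Set X)
    (hext : ∀ S : ShortComplex X.Modules, S.ShortExact → Coh.IsCoh S.X₁ → Coh.IsCoh S.X₂ →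
      Coh.IsCoh S.X₃ → CohB1.support S.X₂ ⊆ X' → P S.X₁ → P S.X₃ → P S.X₂)
    (G : X.Modules) (cG : Coh.IsCoh G) (sG : CohB1.support G ⊆ X')
    (hsub : ∀ (Q : X.Modules) (q : Q ⟶ G), Mono q → Coh.IsCoh Q → P Q) :
    ∀ (r : ℕ) (T : X.Modules) (b : T ⟶ pow G r), Mono b → Coh.IsCoh T → P T := by
  intro r
  induction r with
  | zero =>
    intro T b hb _
    haveI := hb
    refine h0 T ?_
    rw [IsZero.iff_id_eq_zero, ← cancel_mono b]
    exact (isZero_pow_zero G).eq_of_tgt _ _
  | succ r ih =>
    intro T b hb cT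
    haveI := hb
    have cPr : Coh.IsCoh (pow G r) := isCoh_pow G cG r
    let b' : T ⟶ G ⊞ pow G r := b
    haveI : Mono b' := hb
    let p : T ⟶ pow G r := b' ≫ biprod.snd
    have cK : Coh.IsCoh (kernel p) := Groth.Agent.Lib.R2H2.PdSheaf.isCoh_kernel cT cPr p
    have cC : Coh.IsCoh (cokernel p) := isCoh_cokernel cT cPr p
    have cI : Coh.IsCoh (Abelian.image p) :=
      Groth.Agent.Lib.R2H2.PdSheaf.isCoh_kernel cPr cC (cokernel.π p)
    -- the kernel embeds into `G`
    have hKmono : Mono (kernel.ι p ≫ b' ≫ biprod.fst) := by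
      refine ⟨fun {Z} u v huv => ?_⟩
      rw [← cancel_mono (kernel.ι p), ← cancel_mono b']
      apply biprod.hom_ext
      · simpa [Category.assoc] using huv
      · have h1 : kernel.ι p ≫ b' ≫ biprod.snd = 0 := kernel.condition p
        simp only [Category.assoc]
        rw [h1, comp_zero, comp_zero]
    have PK : P (kernel p) := hsub _ _ hKmono cK
    have PI : P (Abelian.image p) := ih _ (Abelian.image.ι p) inferInstance cI
    let S₁ : ShortComplex X.Modules :=
      ShortComplex.mk (kernel.ι p) (Abelian.factorThruImage p) (by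
        rw [← cancel_mono (Abelian.image.ι p), Category.assoc, Abelian.image.fac,
          kernel.condition, zero_comp])
    have hS₁ : S₁.ShortExact :=
      Groth.Agent.Lib.R2H2.PdSheaf.shortExact_of_factor (kernel.ι p) p (kernel.condition p)
        (kernelIsKernel p) (Abelian.factorThruImage p) (Abelian.image.ι p)
        (Abelian.image.fac p) _
    refine hext S₁ hS₁ cK cT cI ?_ PK PI
    refine (support_subset_of_mono b').trans ((support_biprod G (pow G r)).trans ?_)
    exact Set.union_subset sG ((support_pow G r).trans sG)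

end Groth.Agent.Lib.R2H2.DevG
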