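import Mathlib
import Groth.Agent.Lib.R2H4NakaiCore
import Groth.Agent.Lib.R2H3AmpleFinite
import Groth.Agent.Lib.Helper23TensorQCoh
import Groth.Agent.Lib.R2H4SSDescent
import Groth.Agent.Lib.R2H2DeligneSurj
import Groth.Agent.Lib.R2H2DevK
import Groth.Agent.Lib.R2H2DevG
import Groth.Agent.Lib.R2H2DevF
import Groth.Agent.Lib.R2H4Quo
import Groth.Agent.Lib.R2H4AsympRR
import Groth.Agent.Lib.R2H2PnBeilinson
import Groth.Agent.Lib.R2H2ClosedPnLin
set_option backward.isDefEq.respectTransparency.types false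

/-!
helper4 (run 2): Kleiman's step in the Nakai–Moishezon criterion. `vanishing_of_killed` (Serre
vanishing for a coherent module killed by an ideal `J` when `M|_{V(J)}` is ample),
`exists_two_sequences` (integral Noetherian `Y`, invertible `M`: a coherent `T` with monos `T → M`,
`T → O` whose cokernels are killed by powers of an ideal with proper support),
`finrank_le_of_vanish₃`, `finrank_le_of_vanish₃'` (rank inequalities from the long exact sequence),
`euler_le` (`χ ≤ h⁰ + Σ_{q ≥ 2} h^q`), `exists_coeffs` (one variable Snapper polynomial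
`χ(O ⊗ L^n) = Σ a_i n^i` and `coeff_ones P = d! a_d`), `exists_large`, `exists_section_of_pos`
(Kleiman: positive top self-intersection + ample on proper closed subschemes ⟹ `h⁰(M^m) > 0`).
-/

set_option autoImplicit false
set_option linter.style.haveILetI false
set_option linter.unusedSectionVars false
universe u v

open CategoryTheory CategoryTheory.Limits AlgebraicGeometry TopologicalSpace Opposite

namespace Groth.Agent.Lib.R2H4NakaiKleiman

open Groth.Agent.Lib.R2H2.PnSerre Groth.Agent.Lib.R2H2.HHLin Groth.Agent.Lib.R2H4TensorPows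
  Groth.Agent.Lib.Helper23.AmpleIso

section Vanish

variable (k : Type u) [Field k] {Y : Scheme.{u}} [Y.Over (Spec (CommRingCat.of k))]
    [IsProper (Y ↘ (Spec (CommRingCat.of k)))]

include k in
/-- Serre vanishing for a coherent module killed by an ideal `J` such that `M|_{V(J)}` is ample -/
theorem vanishing_of_killed (M : Y.Modules) (hM : PicF.IsInvertible M) (J : Y.IdealSheafData)
    (hamp : CohB1.IsAmple ((Scheme.Modules.pullback J.subschemeι).obj M))
    (G : Y.Modules) (hG : Coh.IsCoh G) (hk : ClSub.KilledByIdeal J G) :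
    ∃ m₀ : ℕ, ∀ m : ℕ, m₀ ≤ m → ∀ q : ℕ, 0 < q →
      Subsingleton (Coh.HH Y (CohB1.tensorMod G (CohB1.tensorPow M m)) q) := by
  haveI : G.IsQuasicoherent := hG.1
  letI : J.subscheme.Over (Spec (CommRingCat.of k)) :=
    ⟨J.subschemeι ≫ (Y ↘ Spec (CommRingCat.of k))⟩
  haveI : IsProper (J.subscheme ↘ Spec (CommRingCat.of k)) :=
    inferInstanceAs (IsProper (J.subschemeι ≫ (Y ↘ Spec (CommRingCat.of k))))
  have hN : Coh.IsCoh ((Scheme.Modules.pullback J.subschemeι).obj G) :=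
    Groth.Agent.Lib.R2H4SSDescent.isCoh_pullback J.subschemeι G hG
  haveI : ((Scheme.Modules.pullback J.subschemeι).obj G).IsQuasicoherent := hN.1
  obtain ⟨n₁, hn₁⟩ := Groth.Agent.Lib.R2H3.AmpleSV.serre_vanishing_ample (A := k)
    (J.subscheme ↘ Spec (CommRingCat.of k)) _ hamp _ hN
  have hiso : IsIso ((Scheme.Modules.pullbackPushforwardAdjunction J.subschemeι).unit.app G) := by
    rw [Groth.Agent.Helper18PBUnit.main_S9376 J.subschemeι G, Scheme.IdealSheafData.ker_subschemeι]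
    exact hk
  refine ⟨n₁, fun m hm q hq => ?_⟩
  have h1 : Subsingleton (Coh.HH Y (CohB1.tensorMod
      ((Scheme.Modules.pushforward J.subschemeι).obj ((Scheme.Modules.pullback J.subschemeι).obj G))
      (CohB1.tensorPow M m)) q) := by
    obtain ⟨Φ⟩ := Groth.Agent.Lib.R2H3.AmpleFinite.nonempty_push_twist_iso J.subschemeι M hM
      ((Scheme.Modules.pullback J.subschemeι).obj G) m
    haveI : (CohB1.tensorPow ((Scheme.Modules.pullback J.subschemeι).obj M) m).IsQuasicoherent :=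
      Groth.Agent.Lib.Helper23.SecTw.isQuasicoherent_of_isInvertible _
        (Groth.Agent.Lib.Helper23.SecTw.isInvertible_tensorPow hamp.1 m)
    have hq' : Coh.IsQCoh (CohB1.tensorMod ((Scheme.Modules.pullback J.subschemeι).obj G)
        (CohB1.tensorPow ((Scheme.Modules.pullback J.subschemeι).obj M) m)) :=
      Groth.Agent.Lib.Helper23.TensorQCoh.isQuasicoherent_tensorMod _ _
    have h2 := (Groth.Agent.Lib.R2H2.ClosedPn.subsingleton_HH_push_iff J.subschemeι _ hq' q).1
      (hn₁ m hm q hq)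
    exact subsingleton_HH_of_iso Φ.symm q h2
  exact subsingleton_HH_of_iso (tensorModIso (asIso
    ((Scheme.Modules.pullbackPushforwardAdjunction J.subschemeι).unit.app G)) (Iso.refl _)).symm q h1

end Vanish

section Construct

variable {Y : Scheme.{u}} [IsNoetherian Y] [IsIntegral Y]

/-- on an integral Noetherian scheme an invertible module `M` and `O` share a coherent submodule
`T` such that both quotients are killed by a power of an ideal with proper support -/
theorem exists_two_sequences (M : Y.Modules) (hM : PicF.IsInvertible M) :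
    ∃ (I : Y.IdealSheafData) (T : Y.Modules) (a : T ⟶ M) (b : T ⟶ Coh.structureModule Y),
      (I.support : Set Y) ≠ Set.univ ∧ Coh.IsCoh T ∧ Mono a ∧ Mono b ∧
      (∃ k₁ : ℕ, ClSub.KilledByIdeal (I ^ k₁) (cokernel a)) ∧
      (∃ k₂ : ℕ, ClSub.KilledByIdeal (I ^ k₂) (cokernel b)) := by
  have cM : Coh.IsCoh M := Groth.Agent.Lib.R2H4CartierGG.isCoh_of_isInvertible M hM
  have cO : Coh.IsCoh (Coh.structureModule Y) :=
    Groth.Agent.Lib.R2H1.GenusLe.isCoh_structureModule Y
  obtain ⟨U, hηU, ⟨ε⟩⟩ := hM (genericPoint Y)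
  let e : M.restrict U.ι ≅ (Coh.structureModule Y).restrict U.ι :=
    ε ≪≫ (Scheme.Modules.restrictUnitIso U.ι).symm
  obtain ⟨T, a, b, cT, ha, hb, hia, hib⟩ :=
    Groth.Agent.Lib.R2H2.DevG.exists_mono_graph M (Coh.structureModule Y) cM cO U e
  let Zc : Closeds Y := ⟨(U : Set Y)ᶜ, U.isOpen.isClosed_compl⟩
  have hsupp : ((Scheme.IdealSheafData.vanishingIdeal Zc).support : Set Y) = (U : Set Y)ᶜ :=
    Scheme.IdealSheafData.coe_support_vanishingIdeal Zc
  have hkill : ∀ {A B : Y.Modules} (p : A ⟶ B), Coh.IsCoh A → Coh.IsCoh B →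
      IsIso ((Scheme.Modules.restrictFunctor U.ι).map p) →
      ∃ k : ℕ, ClSub.KilledByIdeal ((Scheme.IdealSheafData.vanishingIdeal Zc) ^ k)
        (cokernel p) := by
    intro A B p cA cB hp
    haveI := hp
    have hC := (Groth.Agent.Lib.R2H2.DevK.support_kernel_cokernel_of_isIso_restrict U p).2
    refine Groth.Agent.Lib.R2H2.NilFilt.exists_killed_pow _ (cokernel p)
      (Groth.Agent.Lib.R2H2.NilFilt.isCoh_cokernel cA cB p) (fun W hW => ?_)
    refine ⟨fun s t => ?_⟩
    have hdis : ∀ x ∈ W, x ∉ CohB1.support (cokernel p) := by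
      intro x hxW
      refine hC x ?_
      by_contra hxU
      exact Set.disjoint_left.1 hW hxW (by rw [hsupp]; exact hxU)
    rw [Groth.Agent.Lib.Helper23.Support.eq_zero_of_disjoint_support _ W hdis s,
      Groth.Agent.Lib.Helper23.Support.eq_zero_of_disjoint_support _ W hdis t]
  refine ⟨Scheme.IdealSheafData.vanishingIdeal Zc, T, a, b, ?_, cT, ha, hb,
    hkill a cT cM hia, hkill b cT cO hib⟩
  rw [hsupp]
  intro h
  have : genericPoint Y ∈ (U : Set Y)ᶜ := by rw [h]; trivial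
  exact this hηU

end Construct

section Les

variable (k : Type u) [Field k] {Y : Scheme.{u}} [Y.Over (Spec (CommRingCat.of k))]
    [IsProper (Y ↘ (Spec (CommRingCat.of k)))]

/-- if `H^q(X₃) = 0` then `h^q(X₂) ≤ h^q(X₁)` -/
theorem finrank_le_of_vanish₃ (S : ShortComplex Y.Modules) (hS : S.ShortExact)
    (c₁ : Coh.IsCoh S.X₁) (q : ℕ) (h : Subsingleton (Coh.HH Y S.X₃ q)) :
    Module.finrank k (Coh.HH Y S.X₂ q) ≤ Module.finrank k (Coh.HH Y S.X₁ q) := by
  haveI : Module.Finite k (Coh.HH Y S.X₁ q) :=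
    Groth.Agent.Lib.R2H1.EulerAdd.finite_HH k Y _ c₁ q
  have hsurj : Function.Surjective (HmapA k S.f q) := by
    intro y
    obtain ⟨x₁, hx₁⟩ := exact₂ _ hS q y (Subsingleton.elim _ _)
    exact ⟨x₁, by rw [HmapA_apply]; exact hx₁⟩
  have h1 := LinearMap.finrank_range_le (HmapA k S.f q)
  rw [LinearMap.range_eq_top.2 hsurj, finrank_top] at h1
  exact h1

/-- if `H^q(X₃) = 0` then `h^(q+1)(X₁) ≤ h^(q+1)(X₂)` -/
theorem finrank_le_of_vanish₃' (S : ShortComplex Y.Modules) (hS : S.ShortExact)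
    (c₂ : Coh.IsCoh S.X₂) (q : ℕ) (h : Subsingleton (Coh.HH Y S.X₃ q)) :
    Module.finrank k (Coh.HH Y S.X₁ (q + 1)) ≤ Module.finrank k (Coh.HH Y S.X₂ (q + 1)) := by
  haveI : Module.Finite k (Coh.HH Y S.X₂ (q + 1)) :=
    Groth.Agent.Lib.R2H1.EulerAdd.finite_HH k Y _ c₂ (q + 1)
  have hinj : Function.Injective (HmapA k S.f (q + 1)) := by
    rw [← LinearMap.ker_eq_bot, LinearMap.ker_eq_bot']
    intro x hx
    have hx' : HmapL S.f (q + 1) x = 0 := by rw [← HmapA_apply (A := k)]; exact hx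
    obtain ⟨x₃, hx₃⟩ := exact₁ _ hS q x hx'
    rw [← hx₃, Subsingleton.elim x₃ 0, map_zero]
  exact LinearMap.finrank_le_finrank_of_injective hinj

/-- the Euler characteristic is bounded by `h⁰` plus the higher even-or-odd terms from degree `2` -/
theorem euler_le (N : ℕ)
    (hN : ∀ (M : Y.Modules), Coh.IsQCoh M → ∀ n, N ≤ n → Subsingleton (Coh.HH Y M n))
    (F : Y.Modules) (hF : Coh.IsCoh F) :
    Curv2.euler k Y F ≤ (Module.finrank k (Coh.HH Y F 0) : ℤ) +
      ∑ q ∈ Finset.range N, (if 2 ≤ q then (Module.finrank k (Coh.HH Y F q) : ℤ) else 0) := by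
  have heul : Curv2.euler k Y F =
      ∑ i ∈ Finset.range N, (-1 : ℤ) ^ i * (Module.finrank k (Coh.HH Y F i) : ℤ) := by
    unfold Curv2.euler
    rw [finsum_eq_sum_of_support_subset (s := Finset.range N)]
    intro i hi
    by_contra hni
    rw [Finset.coe_range, Set.mem_Iio, not_lt] at hni
    haveI := hN F hF.1 i hni
    apply hi
    show (-1 : ℤ) ^ i * (Module.finrank k (Coh.HH Y F i) : ℤ) = 0
    rw [Module.finrank_zero_of_subsingleton]
    simp
  rw [heul]
  have h1 : ∀ i ∈ Finset.range N, (-1 : ℤ) ^ i * (Module.finrank k (Coh.HH Y F i) : ℤ) ≤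
      (if i = 0 then (Module.finrank k (Coh.HH Y F 0) : ℤ) else 0) +
        (if 2 ≤ i then (Module.finrank k (Coh.HH Y F i) : ℤ) else 0) := by
    intro i _
    have hnn : (0 : ℤ) ≤ (Module.finrank k (Coh.HH Y F i) : ℤ) := Int.natCast_nonneg _
    rcases Nat.lt_or_ge i 2 with hi | hi
    · interval_cases i
      · simp
      · simp
    · have h0 : i ≠ 0 := by omega
      rw [if_neg h0, if_pos hi, zero_add]
      rcases neg_one_pow_eq_or ℤ i with h | h
      · rw [h, one_mul]
      · rw [h]; linarith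
  refine (Finset.sum_le_sum h1).trans ?_
  rw [Finset.sum_add_distrib]
  refine add_le_add ?_ le_rfl
  rw [Finset.sum_ite_eq']
  split_ifs
  · exact le_rfl
  · exact Int.natCast_nonneg _

end Les

section Coeffs

open Groth.Agent.Lib.R2H4NumPoly Groth.Agent.Lib.R2H4Snapper Groth.Agent.Lib.R2H4SnapperCor
  Groth.Agent.Lib.R2H4RRAlg Groth.Agent.Lib.R2H4AsympRR Groth.Agent.Lib.R2H1.DegCartier

variable (k : Type u) [Field k] {Y : Scheme.{u}} [Y.Over (Spec (CommRingCat.of k))]
    [IsProper (Y ↘ (Spec (CommRingCat.of k)))]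

/-- the one variable Hilbert–Snapper polynomial of an invertible module and its top
coefficient -/
theorem exists_coeffs (d : ℕ) (hY : topologicalKrullDim Y ≤ ((d : ℕ) : WithBot ℕ∞))
    (L : Y.Modules) (hL : PicF.IsInvertible L) (P : MvPolynomial (Fin d) ℚ)
    (hP : ∀ n : Fin d → ℕ, (Curv2.euler k Y (Curv2.tensorPows (Coh.structureModule Y) d
      (fun _ => L) n) : ℚ) = MvPolynomial.eval (fun i => (n i : ℚ)) P) :
    ∃ a : ℕ → ℚ, (∀ n : ℕ, (Curv2.euler k Y (CohB1.tensorMod (Coh.structureModule Y)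
        (CohB1.tensorPow L n)) : ℚ) = ∑ i ∈ Finset.range (d + 1), a i * (n : ℚ) ^ i) ∧
      MvPolynomial.coeff (Finsupp.equivFunOnFinite.symm fun _ : Fin d => 1) P =
        (d.factorial : ℚ) * a d := by
  classical
  have := Groth.Agent.Lib.R2H1.CurveEuler.isNoetherian_of_proper k Y
  have cO : Coh.IsCoh (Coh.structureModule Y) :=
    Groth.Agent.Lib.R2H1.GenusLe.isCoh_structureModule Y
  have hsuppO : topologicalKrullDim (CohB1.support (Coh.structureModule Y)) ≤
      ((d : ℕ) : WithBot ℕ∞) :=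
    (Topology.IsInducing.subtypeVal.topologicalKrullDim_le).trans hY
  obtain ⟨p, hpdeg, hp⟩ := s1528 k _ cO d hsuppO 1 (fun _ => L) (fun _ => hL)
  set a : ℕ → ℚ := fun i => MvPolynomial.coeff (Finsupp.single 0 i) p with ha
  set G : ℕ → ℚ := fun j => ∑ i ∈ Finset.range (d + 1), a i * (j : ℚ) ^ i with hG
  have hχ : ∀ n : ℕ, (Curv2.euler k Y (CohB1.tensorMod (Coh.structureModule Y)
      (CohB1.tensorPow L n)) : ℚ) = G n := by
    intro n
    have h1 := hp (fun _ => n)
    rw [eval_fin_one p d hpdeg] at h1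
    exact h1
  have hPG : ∀ v : Fin d → ℕ, ev v P = G (∑ i, v i) := by
    intro v
    obtain ⟨e⟩ := nonempty_powsConst (Coh.structureModule Y) L d v
    unfold ev
    rw [← hP v, euler_congr k e]
    exact hχ _
  have hPdeg : P.totalDegree ≤ d :=
    totalDegree_le_of_eval k _ cO d hsuppO d (fun _ => L) (fun _ => hL) P hP
  refine ⟨a, hχ, ?_⟩
  rw [coeff_ones_eq P (by rw [Fintype.card_fin]; exact hPdeg)]
  have h1 : ∀ t : Finset (Fin d), ev (ind t) P = G t.card := by
    intro t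
    rw [hPG]
    congr 1
    simp [ind]
  simp_rw [h1, Fintype.card_fin]
  rw [alt_sum_card d G]
  exact fwd_identity d a

/-- a polynomial function with positive top coefficient of positive degree is eventually large -/
theorem exists_large (d : ℕ) (hd : 0 < d) (a : ℕ → ℚ) (had : 0 < a d) (C : ℚ) (m₀ : ℕ) :
    ∃ m : ℕ, m₀ ≤ m ∧ C < ∑ i ∈ Finset.range (d + 1), a i * (m : ℚ) ^ i := by
  set B : ℚ := ∑ i ∈ Finset.range d, |a i| with hB
  have hB0 : 0 ≤ B := Finset.sum_nonneg fun i _ => abs_nonneg _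
  obtain ⟨m₁, hm₁⟩ := exists_nat_gt ((B + |C| + 1) / a d)
  refine ⟨max (max m₀ m₁) 1, (le_max_left _ _).trans (le_max_left _ _), ?_⟩
  set m := max (max m₀ m₁) 1 with hm
  have hm1 : (1 : ℚ) ≤ (m : ℚ) := by exact_mod_cast le_max_right _ _
  have hmm₁ : (m₁ : ℚ) ≤ (m : ℚ) := by
    exact_mod_cast (le_max_right m₀ m₁).trans (le_max_left _ _)
  have h1 : B + |C| + 1 < a d * (m : ℚ) := by
    have := (div_lt_iff₀ had).1 (lt_of_lt_of_le hm₁ hmm₁)
    linarith
  rw [Finset.sum_range_succ]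
  have hlow : -(B * (m : ℚ) ^ (d - 1)) ≤ ∑ i ∈ Finset.range d, a i * (m : ℚ) ^ i := by
    rw [hB, Finset.sum_mul, ← Finset.sum_neg_distrib]
    refine Finset.sum_le_sum fun i hi => ?_
    have hi' : i ≤ d - 1 := by
      have := Finset.mem_range.1 hi
      omega
    have hpow : (m : ℚ) ^ i ≤ (m : ℚ) ^ (d - 1) := pow_le_pow_right₀ hm1 hi'
    have hpos : (0 : ℚ) ≤ (m : ℚ) ^ i := by positivity
    have h2 : -(|a i| * (m : ℚ) ^ i) ≤ a i * (m : ℚ) ^ i := by
      have := neg_abs_le (a i)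
      nlinarith
    have h3 : |a i| * (m : ℚ) ^ i ≤ |a i| * (m : ℚ) ^ (d - 1) :=
      mul_le_mul_of_nonneg_left hpow (abs_nonneg _)
    linarith
  have hsplit : (m : ℚ) ^ d = (m : ℚ) ^ (d - 1) * (m : ℚ) := by
    rw [← pow_succ]
    congr 1
    omega
  have hpow1 : (1 : ℚ) ≤ (m : ℚ) ^ (d - 1) := one_le_pow₀ hm1
  have hC : C ≤ |C| := le_abs_self C
  have h4 : (|C| + 1) * 1 ≤ (a d * (m : ℚ) - B) * (m : ℚ) ^ (d - 1) := by
    have h5 : |C| + 1 ≤ a d * (m : ℚ) - B := by linarith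
    have h6 : (0 : ℚ) ≤ |C| + 1 := by positivity
    exact mul_le_mul h5 hpow1 zero_le_one (h6.trans h5)
  rw [hsplit]
  nlinarith

end Coeffs

section Main

variable (k : Type u) [Field k] {Y : Scheme.{u}} [Y.Over (Spec (CommRingCat.of k))]
    [IsProper (Y ↘ (Spec (CommRingCat.of k)))] [IsIntegral Y]

/-- **Kleiman's step**: on an integral proper scheme of dimension `e > 0`, an invertible module
`M` with positive top self-intersection whose restriction to every proper closed subscheme is ample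
has a nonzero section of some positive power -/
theorem exists_section_of_pos (e : ℕ) (he : 0 < e)
    (hdim : topologicalKrullDim Y ≤ ((e : ℕ) : WithBot ℕ∞))
    (M : Y.Modules) (hM : PicF.IsInvertible M)
    (hamp : ∀ J : Y.IdealSheafData, (J.support : Set Y) ≠ Set.univ →
      CohB1.IsAmple ((Scheme.Modules.pullback J.subschemeι).obj M))
    (P : MvPolynomial (Fin e) ℚ)
    (hP : ∀ n : Fin e → ℕ, (Curv2.euler k Y (Curv2.tensorPows (Coh.structureModule Y) e
      (fun _ => M) n) : ℚ) = MvPolynomial.eval (fun i => (n i : ℚ)) P)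
    (hpos : 0 < MvPolynomial.coeff (Finsupp.equivFunOnFinite.symm fun _ : Fin e => 1) P) :
    ∃ (m : ℕ) (s : Coh.structureModule Y ⟶ CohB1.tensorPow M (m + 1)), s ≠ 0 := by
  classical
  haveI : IsNoetherian Y := Groth.Agent.Lib.R2H1.CurveEuler.isNoetherian_of_proper k Y
  haveI : CompactSpace Y :=
    QuasiCompact.compactSpace_of_compactSpace (Y ↘ Spec (CommRingCat.of k))
  obtain ⟨I, T, a, b, hI, cT, ha, hb, ⟨k₁, hk₁⟩, ⟨k₂, hk₂⟩⟩ := exists_two_sequences M hM
  have cM : Coh.IsCoh M := Groth.Agent.Lib.R2H4CartierGG.isCoh_of_isInvertible M hM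
  have cO : Coh.IsCoh (Coh.structureModule Y) :=
    Groth.Agent.Lib.R2H1.GenusLe.isCoh_structureModule Y
  have hEinv : ∀ m, PicF.IsInvertible (CohB1.tensorPow M m) := fun m =>
    Groth.Agent.Lib.Helper23.SecTw.isInvertible_tensorPow hM m
  have cE : ∀ m, Coh.IsCoh (CohB1.tensorPow M m) := fun m =>
    Groth.Agent.Lib.R2H4CartierGG.isCoh_of_isInvertible _ (hEinv m)
  have hIpow : ∀ n : ℕ, ((I ^ n).support : Set Y) ≠ Set.univ := by
    intro n h
    apply hI
    refine Set.eq_univ_of_univ_subset ?_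
    rw [← h]
    exact Groth.Agent.Lib.R2H2.DevG.support_pow_le I n
  obtain ⟨m₁, hm₁⟩ := vanishing_of_killed k M hM (I ^ k₁) (hamp _ (hIpow k₁)) (cokernel a)
    (Groth.Agent.Lib.R2H2.NilFilt.isCoh_cokernel cT cM a) hk₁
  obtain ⟨m₂, hm₂⟩ := vanishing_of_killed k M hM (I ^ k₂) (hamp _ (hIpow k₂)) (cokernel b)
    (Groth.Agent.Lib.R2H2.NilFilt.isCoh_cokernel cT cO b) hk₂
  set m₀ := max m₁ m₂ with hm₀
  let S₁ : ShortComplex Y.Modules := ShortComplex.mk a (cokernel.π a) (cokernel.condition a)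
  let S₂ : ShortComplex Y.Modules := ShortComplex.mk b (cokernel.π b) (cokernel.condition b)
  have hS₁ : S₁.ShortExact :=
    ShortComplex.ShortExact.mk' (ShortComplex.exact_cokernel a) ha inferInstance
  have hS₂ : S₂.ShortExact :=
    ShortComplex.ShortExact.mk' (ShortComplex.exact_cokernel b) hb inferInstance
  let bq : ℕ → ℕ → ℕ := fun q m => Module.finrank k (Coh.HH Y (CohB1.tensorPow M m) q)
  have hmono : ∀ m, m₀ ≤ m → ∀ q, 2 ≤ q → bq q (m + 1) ≤ bq q m := by
    intro m hm q hq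
    obtain ⟨q', rfl⟩ : ∃ q', q = q' + 1 := ⟨q - 1, by omega⟩
    have hT₁ := shortExact_map_twR (CohB1.tensorPow M m) (hEinv m) S₁ hS₁
    have hT₂ := shortExact_map_twR (CohB1.tensorPow M m) (hEinv m) S₂ hS₂
    have v₁ : Subsingleton (Coh.HH Y (S₁.map (twR (CohB1.tensorPow M m))).X₃ (q' + 1)) :=
      hm₁ m ((le_max_left _ _).trans hm) (q' + 1) (Nat.succ_pos _)
    have v₂ : Subsingleton (Coh.HH Y (S₂.map (twR (CohB1.tensorPow M m))).X₃ q') :=
      hm₂ m ((le_max_right _ _).trans hm) q' (by omega)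
    have cTE : Coh.IsCoh (CohB1.tensorMod T (CohB1.tensorPow M m)) :=
      Groth.Agent.Lib.R2H3.AmpleSV.isCoh_tensorMod_invertible T _ cT (hEinv m)
    have cOE : Coh.IsCoh (CohB1.tensorMod (Coh.structureModule Y) (CohB1.tensorPow M m)) :=
      Groth.Agent.Lib.R2H3.AmpleSV.isCoh_tensorMod_invertible _ _ cO (hEinv m)
    have i₁ := finrank_le_of_vanish₃ k _ hT₁ cTE (q' + 1) v₁
    have i₂ := finrank_le_of_vanish₃' k _ hT₂ cOE q' v₂
    have e₁ : Module.finrank k (Coh.HH Y (S₁.map (twR (CohB1.tensorPow M m))).X₂ (q' + 1)) =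
        bq (q' + 1) (m + 1) :=
      Groth.Agent.Lib.R2H2.ClosedPnLin.finrank_HH_of_iso k (tComm M (CohB1.tensorPow M m)) (q' + 1)
    have e₂ : Module.finrank k (Coh.HH Y (S₂.map (twR (CohB1.tensorPow M m))).X₂ (q' + 1)) =
        bq (q' + 1) m :=
      Groth.Agent.Lib.R2H2.ClosedPnLin.finrank_HH_of_iso k (lUnit (CohB1.tensorPow M m)) (q' + 1)
    rw [e₁] at i₁
    rw [e₂] at i₂
    exact i₁.trans i₂
  have hanti : ∀ j q, 2 ≤ q → bq q (m₀ + j) ≤ bq q m₀ := by
    intro j q hq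
    induction j with
    | zero => exact le_rfl
    | succ j ih => exact (hmono (m₀ + j) (Nat.le_add_right _ _) q hq).trans ih
  obtain ⟨N, hN⟩ := Groth.Agent.Lib.R2H1.EulerAdd.exists_vanishing_bound Y
    (Y ↘ Spec (CommRingCat.of k))
  set B : ℤ := ∑ q ∈ Finset.range N, (if 2 ≤ q then (bq q m₀ : ℤ) else 0) with hB
  obtain ⟨c, hc, hlead⟩ := exists_coeffs k e hdim M hM P hP
  have hce : 0 < c e := by
    rw [hlead] at hpos
    have hfac : (0 : ℚ) < (e.factorial : ℚ) := by exact_mod_cast Nat.factorial_pos e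
    exact (mul_pos_iff_of_pos_left hfac).1 hpos
  obtain ⟨m, hm, hlarge⟩ := exists_large e he c hce (B : ℚ) (m₀ + 1)
  obtain ⟨j, rfl⟩ : ∃ j, m = m₀ + j := ⟨m - m₀, by omega⟩
  have hχ : (B : ℚ) < (Curv2.euler k Y (CohB1.tensorPow M (m₀ + j)) : ℚ) := by
    have h1 := hc (m₀ + j)
    rw [Groth.Agent.Lib.R2H1.DegCartier.euler_congr k (lUnit (CohB1.tensorPow M (m₀ + j)))] at h1
    rw [h1]
    exact hlarge
  have hle := euler_le k N hN (CohB1.tensorPow M (m₀ + j)) (cE _)
  have hsum : ∑ q ∈ Finset.range N, (if 2 ≤ q then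
      (Module.finrank k (Coh.HH Y (CohB1.tensorPow M (m₀ + j)) q) : ℤ) else 0) ≤ B := by
    rw [hB]
    refine Finset.sum_le_sum fun q _ => ?_
    split_ifs with hq
    · exact_mod_cast hanti j q hq
    · exact le_rfl
  have hpos0 : 0 < Module.finrank k (Coh.HH Y (CohB1.tensorPow M (m₀ + j)) 0) := by
    have h2 : (B : ℤ) < Curv2.euler k Y (CohB1.tensorPow M (m₀ + j)) := by exact_mod_cast hχ
    have h3 : (0 : ℤ) < (Module.finrank k (Coh.HH Y (CohB1.tensorPow M (m₀ + j)) 0) : ℤ) := by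
      linarith
    exact_mod_cast h3
  obtain ⟨m', hm'⟩ : ∃ m', m₀ + j = m' + 1 := ⟨m₀ + j - 1, by omega⟩
  rw [hm'] at hpos0
  haveI : Nontrivial (Coh.HH Y (CohB1.tensorPow M (m' + 1)) 0) :=
    Module.nontrivial_of_finrank_pos (R := k) hpos0
  obtain ⟨x, hx⟩ := exists_ne (0 : Coh.HH Y (CohB1.tensorPow M (m' + 1)) 0)
  refine ⟨m', (Groth.Agent.Lib.R2H2.PnBeilinson.clsEquiv (k := k) _).symm x, ?_⟩
  intro h0
  apply hx
  have := congrArg (Groth.Agent.Lib.R2H2.PnBeilinson.clsEquiv (k := k) _) h0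
  rwa [LinearEquiv.apply_symm_apply, map_zero] at this

end Main

end Groth.Agent.Lib.R2H4NakaiKleiman
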