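import Mathlib
import Groth.Agent.Lib.R2H4NakaiKleiman
import Groth.Agent.Lib.R2H4FGAPos
import Groth.Agent.Lib.R2H1ZeroDimCoh
import Groth.Agent.Lib.Helper23SecTw9
import Groth.Agent.Lib.R2H4H0Growth
import Groth.Agent.Lib.R2H4Quo
set_option backward.isDefEq.respectTransparency.types false

/-!
helper4 (run 2): the Nakai–Moishezon criterion over an arbitrary field (S7749).
`core2` (the dimension induction of `R2H4NakaiCore` with sections required only in dimension `< d`),
`exists_section_of_dim_zero`, `dim_subscheme_lt`, `strictNef_of_pos`, `heff_of_pos`, `main`.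
-/

set_option autoImplicit false
set_option linter.style.haveILetI false
set_option linter.unusedSectionVars false
universe u v

open CategoryTheory CategoryTheory.Limits AlgebraicGeometry TopologicalSpace Opposite

namespace Groth.Agent.Lib.R2H4NakaiMain

open Groth.Agent.Lib.R2H4NakaiCore Groth.Agent.Lib.R2H4NakaiKleiman
  Groth.Agent.Lib.R2H1.NefPull Groth.Agent.Lib.R2H4TensorPows

section Core2

variable (k : Type u) [Field k] (X : Scheme.{u}) [X.Over (Spec (CommRingCat.of k))]
    [IsProper (X ↘ (Spec (CommRingCat.of k)))]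

/-- the dimension induction, with sections required only on integral closed subschemes of
dimension `< d` -/
theorem core2 (L : X.Modules) (hL : PicF.IsInvertible L)
    (hnef : ∀ C : X.IdealSheafData, IsIntegral C.subscheme →
      topologicalKrullDim (C.support : Set X) = 1 →
        0 < Curv2.euler k X (CohB1.tensorMod (ClSub.quotMod C) L) - Curv2.euler k X (ClSub.quotMod C)) :
    ∀ (d : ℕ), (∀ Z : X.IdealSheafData, IsIntegral Z.subscheme →
        topologicalKrullDim Z.subscheme < ((d : ℕ) : WithBot ℕ∞) →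
      ∃ (m : ℕ) (s : Coh.structureModule Z.subscheme ⟶
          CohB1.tensorPow ((Scheme.Modules.pullback Z.subschemeι).obj L) (m + 1)), s ≠ 0) →
    ∀ (W : Scheme.{u}) (j : W ⟶ X) [IsClosedImmersion j],
      topologicalKrullDim W < ((d : ℕ) : WithBot ℕ∞) →
        CohB1.IsAmple ((Scheme.Modules.pullback j).obj L) := by
  intro d
  induction d with
  | zero =>
    intro _ W j _ hdim
    haveI : IsEmpty W := isEmpty_of_dim_lt_zero hdim
    exact ⟨Groth.Agent.Lib.Helper23.PB.isInvertible_pullback j L hL, inferInstance,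
      fun x => isEmptyElim x⟩
  | succ d ih =>
    intro heff
    have hlt : ((d : ℕ) : WithBot ℕ∞) < ((d + 1 : ℕ) : WithBot ℕ∞) := by
      change (((d : ℕ) : ℕ∞) : WithBot ℕ∞) < (((d + 1 : ℕ) : ℕ∞) : WithBot ℕ∞)
      rw [WithBot.coe_lt_coe, Nat.cast_lt]
      exact Nat.lt_succ_self d
    have ih' := ih (fun Z hZ hdZ => heff Z hZ (hdZ.trans hlt))
    have hint : ∀ (V : Scheme.{u}) (j' : V ⟶ X) [IsClosedImmersion j'] [IsIntegral V],
        topologicalKrullDim V < ((d + 1 : ℕ) : WithBot ℕ∞) →
          CohB1.IsAmple ((Scheme.Modules.pullback j').obj L) := by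
      intro V j' _ _ hdimV
      obtain ⟨Z₁, hZ₁⟩ : ∃ Z₁ : X.IdealSheafData, Z₁ = j'.ker := ⟨_, rfl⟩
      obtain ⟨e, he, heiso⟩ : ∃ e : V ⟶ Z₁.subscheme, e ≫ Z₁.subschemeι = j' ∧ IsIso e := by
        subst hZ₁
        exact ⟨j'.toImage, j'.toImage_imageι, inferInstance⟩
      haveI := heiso
      haveI : IsIntegral Z₁.subscheme := by
        haveI : Nonempty Z₁.subscheme := ⟨e.base (Classical.arbitrary V)⟩
        exact isIntegral_of_isOpenImmersion (inv e)
      letI : Z₁.subscheme.Over (Spec (CommRingCat.of k)) :=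
        ⟨Z₁.subschemeι ≫ (X ↘ Spec (CommRingCat.of k))⟩
      haveI : IsProper (Z₁.subscheme ↘ Spec (CommRingCat.of k)) :=
        inferInstanceAs (IsProper (Z₁.subschemeι ≫ (X ↘ Spec (CommRingCat.of k))))
      have hM : PicF.IsInvertible ((Scheme.Modules.pullback Z₁.subschemeι).obj L) :=
        Groth.Agent.Lib.Helper23.PB.isInvertible_pullback _ L hL
      have hdimY : topologicalKrullDim Z₁.subscheme < ((d + 1 : ℕ) : WithBot ℕ∞) := by
        rw [← IsHomeomorph.topologicalKrullDim_eq _ (e.homeomorph).isHomeomorph]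
        exact hdimV
      obtain ⟨m, s, hs⟩ := heff Z₁ inferInstance hdimY
      have hnefY := strictNef_pullback k X Z₁.subscheme Z₁.subschemeι rfl L hL hnef
      have hdimD := dim_zeroScheme_lt _
        (Groth.Agent.Lib.Helper23.SecTw.isInvertible_tensorPow hM (m + 1)) s hs d hdimY
      have hDample : CohB1.IsAmple
          ((Scheme.Modules.pullback (PicF2.zeroScheme _ s).subschemeι).obj
            ((Scheme.Modules.pullback Z₁.subschemeι).obj L)) :=
        Groth.Agent.Lib.Helper23.AmpleIso.isAmple_of_iso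
          ((Scheme.Modules.pullbackComp (PicF2.zeroScheme _ s).subschemeι Z₁.subschemeι).app L).symm
          (ih' _ ((PicF2.zeroScheme _ s).subschemeι ≫ Z₁.subschemeι) hdimD)
      have hMample := isAmple_of_integral k Z₁.subscheme _ hM hnefY m s hs hDample
      have h1 := Groth.Agent.Lib.Helper23.PB.isAmple_pullback_of_isAffineHom e _ hMample
      exact Groth.Agent.Lib.Helper23.AmpleIso.isAmple_of_iso
        ((Scheme.Modules.pullbackComp e Z₁.subschemeι).app L ≪≫
          (Scheme.Modules.pullbackCongr he).app L) h1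
    intro W j _ hdim
    letI : W.Over (Spec (CommRingCat.of k)) := ⟨j ≫ (X ↘ Spec (CommRingCat.of k))⟩
    haveI : IsProper (W ↘ Spec (CommRingCat.of k)) :=
      inferInstanceAs (IsProper (j ≫ (X ↘ Spec (CommRingCat.of k))))
    refine isAmple_of_forall_integral k W _
      (Groth.Agent.Lib.Helper23.PB.isInvertible_pullback j L hL) (fun V h _ _ => ?_)
    have hdimV : topologicalKrullDim V < ((d + 1 : ℕ) : WithBot ℕ∞) :=
      lt_of_le_of_lt h.isClosedEmbedding.isInducing.topologicalKrullDim_le hdim
    exact Groth.Agent.Lib.Helper23.AmpleIso.isAmple_of_iso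
      ((Scheme.Modules.pullbackComp h j).app L).symm (hint V (h ≫ j) hdimV)

end Core2

section DimZero

open Groth.Agent.Lib.Helper23.SecTw Groth.Agent.Lib.Helper23.GenLocus Groth.Agent.Lib.Helper6

variable {Y : Scheme.{u}} [IsNoetherian Y] [IsIntegral Y]

/-- on an integral Noetherian scheme of dimension `≤ 0` every invertible module has a nonzero
section -/
theorem exists_section_of_dim_zero (hdim : topologicalKrullDim Y ≤ 0) (M : Y.Modules)
    (hM : PicF.IsInvertible M) :
    ∃ (m : ℕ) (s : Coh.structureModule Y ⟶ CohB1.tensorPow M (m + 1)), s ≠ 0 := by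
  haveI : Finite Y := Groth.Agent.Lib.R2H1.ZeroDimCoh.finite_of_dim_le_zero hdim
  haveI : T1Space Y :=
    ⟨fun z => Groth.Agent.Lib.R2H1.ZeroDimCoh.isClosed_singleton_of_dim_le_zero hdim z⟩
  haveI : DiscreteTopology Y := inferInstance
  haveI : Subsingleton Y := ⟨fun a b => by
    by_contra hab
    have h1 : IsOpen ({a} : Set Y) := isOpen_discrete _
    have h2 : IsOpen ({b} : Set Y) := isOpen_discrete _
    obtain ⟨z, hza, hzb⟩ := nonempty_preirreducible_inter h1 h2 ⟨a, rfl⟩ ⟨b, rfl⟩
    exact hab ((Set.mem_singleton_iff.mp hza).symm.trans (Set.mem_singleton_iff.mp hzb))⟩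
  obtain ⟨x⟩ := (inferInstance : Nonempty Y)
  obtain ⟨W, e, hxW, hgen⟩ := exists_gen M hM x
  have htop : W = ⊤ := by
    ext z
    simp only [Opens.coe_top, Set.mem_univ, iff_true]
    rw [Subsingleton.elim z x]
    exact hxW
  subst htop
  refine ⟨0, secHom M e ≫ (lUnit M).inv, ?_⟩
  intro h0
  have h1 : secHom M e = 0 := by
    rw [← cancel_mono (lUnit M).inv, zero_comp]
    exact h0
  have h2 : sv (secHom M e) ⊤ = res M le_top e := sv_secHom M e ⊤
  rw [h1, sv_zero] at h2
  have hinj := (hgen ⊤ le_rfl).1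
  have h3 : (1 : Γ(Y, ⊤)) = 0 := by
    apply hinj
    change (1 : Γ(Y, ⊤)) • res M le_rfl e = (0 : Γ(Y, ⊤)) • res M le_rfl e
    have h4 : res M (le_refl (⊤ : Y.Opens)) e = 0 := h2.symm
    rw [h4, smul_zero, smul_zero]
  haveI : Nonempty (⊤ : Y.Opens) := ⟨⟨x, trivial⟩⟩
  exact one_ne_zero h3

end DimZero

section Pos

open Groth.Agent.Lib.R2H4Snapper Groth.Agent.Lib.R2H4SnapperRef

variable (k : Type u) [Field k] (X : Scheme.{u}) [X.Over (Spec (CommRingCat.of k))]
    [IsProper (X ↘ (Spec (CommRingCat.of k)))]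

theorem exists_nat_eq_of_lt (a : WithBot ℕ∞) (d : ℕ) (h : a < ((d : ℕ) : WithBot ℕ∞))
    (h0 : ¬ a ≤ 0) : ∃ e : ℕ, a = ((e : ℕ) : WithBot ℕ∞) := by
  induction a using WithBot.recBotCoe with
  | bot => exact absurd bot_le h0
  | coe n =>
    induction n using ENat.recTopCoe with
    | top =>
      exfalso
      have h' : ((⊤ : ℕ∞) : WithBot ℕ∞) < (((d : ℕ) : ℕ∞) : WithBot ℕ∞) := h
      rw [WithBot.coe_lt_coe] at h'
      exact absurd h' (not_lt.2 le_top)
    | coe m => exact ⟨m, rfl⟩

/-- a closed subscheme with proper support of an integral scheme has smaller dimension -/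
theorem dim_subscheme_lt {Y : Scheme.{u}} [IsIntegral Y] (J : Y.IdealSheafData)
    (hJ : (J.support : Set Y) ≠ Set.univ) (d : ℕ)
    (hY : topologicalKrullDim Y < ((d + 1 : ℕ) : WithBot ℕ∞)) :
    topologicalKrullDim J.subscheme < ((d : ℕ) : WithBot ℕ∞) := by
  rw [← dim_support_eq]
  rcases Set.eq_empty_or_nonempty (J.support : Set Y) with hemp | hne
  · haveI : IsEmpty (J.support : Set Y) := by
      rw [hemp]; infer_instance
    have : topologicalKrullDim (J.support : Set Y) = ⊥ := by
      unfold topologicalKrullDim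
      haveI : IsEmpty (IrreducibleCloseds (J.support : Set Y)) :=
        ⟨fun A => by
          obtain ⟨a, -⟩ := A.isIrreducible'.nonempty
          exact isEmptyElim a⟩
      exact Order.krullDim_eq_bot
    rw [this]
    exact WithBot.bot_lt_coe _
  · have h1 := Groth.Agent.Lib.Helper8.Conn.dim_add_one_le_of_proper_closed
      (C := (Set.univ : Set Y)) (Z := (J.support : Set Y))
      (IrreducibleSpace.isIrreducible_univ Y) J.support.isClosed (Set.subset_univ _) hJ hne
    have h2 : topologicalKrullDim (Set.univ : Set Y) = topologicalKrullDim Y :=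
      IsHomeomorph.topologicalKrullDim_eq _ (Homeomorph.Set.univ Y).isHomeomorph
    rw [h2] at h1
    exact lt_of_add_one_le_of_lt _ _ d h1 hY

/-- the Snapper polynomial of `O_Z ⊗ L^n` on `X` computes Euler characteristics on `Z` -/
theorem exists_poly (L : X.Modules) (hL : PicF.IsInvertible L) (Z : X.IdealSheafData) (d : ℕ)
    (hd : topologicalKrullDim (Z.support : Set X) ≤ ((d : ℕ) : WithBot ℕ∞)) :
    ∃ P : MvPolynomial (Fin d) ℚ,
      (∀ n : Fin d → ℕ, (Curv2.euler k X (Curv2.tensorPows (ClSub.quotMod Z) d (fun _ => L) n) : ℚ) =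
        MvPolynomial.eval (fun i => (n i : ℚ)) P) ∧
      (∀ n : Fin d → ℕ, ((@Curv2.euler k _ Z.subscheme
          ⟨Z.subschemeι ≫ (X ↘ (Spec (CommRingCat.of k)))⟩
          (Curv2.tensorPows (Coh.structureModule Z.subscheme) d
            (fun _ => (Scheme.Modules.pullback Z.subschemeι).obj L) n) : ℤ) : ℚ) =
        MvPolynomial.eval (fun i => (n i : ℚ)) P) := by
  haveI := Groth.Agent.Lib.R2H1.CurveEuler.isNoetherian_of_proper k X
  have hsupp : topologicalKrullDim (CohB1.support (ClSub.quotMod Z)) ≤ ((d : ℕ) : WithBot ℕ∞) :=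
    (Groth.Agent.Lib.R2H4H0Growth.dim_mono
      (Groth.Agent.Lib.R2H1.DegCartier.support_quotMod_subset (D := Z))).trans hd
  obtain ⟨P, -, hP⟩ := s1528 k (ClSub.quotMod Z) (Groth.Agent.Lib.R2H4Quo.isCoh_quotMod Z) d hsupp d
    (fun _ => L) (fun _ => hL)
  refine ⟨P, hP, fun n => ?_⟩
  rw [← hP n, fE_quotMod_eq k Z d (fun _ => L) (fun _ => hL) n]

end Pos

section Main

open Groth.Agent.Lib.R2H4Snapper Groth.Agent.Lib.R2H4SnapperRef

variable (k : Type u) [Field k] (X : Scheme.{u}) [X.Over (Spec (CommRingCat.of k))]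
    [IsProper (X ↘ (Spec (CommRingCat.of k)))]

/-- positivity of the degree on integral curves from the positivity of intersection numbers -/
theorem strictNef_of_pos (L : X.Modules) (hL : PicF.IsInvertible L)
    (hpos : ∀ (Z : X.IdealSheafData) [IsIntegral Z.subscheme] (d : ℕ), 0 < d →
      topologicalKrullDim (Z.support : Set X) = d →
      ∀ P : MvPolynomial (Fin d) ℚ,
        (∀ n : Fin d → ℕ, (Curv2.euler k X (Curv2.tensorPows (ClSub.quotMod Z) d (fun _ => L) n) : ℚ) =
          MvPolynomial.eval (fun i => (n i : ℚ)) P) →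
        0 < MvPolynomial.coeff (Finsupp.equivFunOnFinite.symm fun _ : Fin d => 1) P)
    (C : X.IdealSheafData) (hC : IsIntegral C.subscheme)
    (hCdim : topologicalKrullDim (C.support : Set X) = 1) :
    0 < Curv2.euler k X (CohB1.tensorMod (ClSub.quotMod C) L) - Curv2.euler k X (ClSub.quotMod C) := by
  haveI := hC
  rw [Groth.Agent.Lib.R2H4GGAmple.euler_sub_eq_deg k X C hC hCdim L hL]
  letI : C.subscheme.Over (Spec (CommRingCat.of k)) :=
    ⟨C.subschemeι ≫ (X ↘ Spec (CommRingCat.of k))⟩
  haveI : IsProper (C.subscheme ↘ Spec (CommRingCat.of k)) :=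
    inferInstanceAs (IsProper (C.subschemeι ≫ (X ↘ Spec (CommRingCat.of k))))
  have hdimC : topologicalKrullDim C.subscheme = 1 := by
    rw [← dim_support_eq]
    exact hCdim
  have hM : PicF.IsInvertible ((Scheme.Modules.pullback C.subschemeι).obj L) :=
    Groth.Agent.Lib.Helper23.PB.isInvertible_pullback _ L hL
  have hCdim' : topologicalKrullDim (C.support : Set X) = ((1 : ℕ) : WithBot ℕ∞) := hCdim
  obtain ⟨P, hP, hP'⟩ := exists_poly k X L hL C 1 hCdim'.le
  have hp := hpos C 1 Nat.one_pos hCdim' P hP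
  have hdimC' : topologicalKrullDim C.subscheme ≤ ((1 : ℕ) : WithBot ℕ∞) := hdimC.le
  obtain ⟨c, hc, hlead⟩ := exists_coeffs k 1 hdimC' _ hM P hP'
  rw [hlead] at hp
  have hc1 : 0 < c 1 := by simpa using hp
  have h1 := hc 1
  have h0 := hc 0
  simp only [Finset.sum_range_succ, Finset.sum_range_zero, Nat.cast_one, one_pow, mul_one,
    Nat.cast_zero, pow_zero, zero_add, pow_one, mul_zero, add_zero] at h1 h0
  rw [Groth.Agent.Lib.R2H1.DegCartier.euler_congr k
    (lUnit (CohB1.tensorPow ((Scheme.Modules.pullback C.subschemeι).obj L) 1) ≪≫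
      lUnit ((Scheme.Modules.pullback C.subschemeι).obj L))] at h1
  rw [Groth.Agent.Lib.R2H1.DegCartier.euler_congr k
    (lUnit (CohB1.tensorPow ((Scheme.Modules.pullback C.subschemeι).obj L) 0))] at h0
  have h2 : ((Curv2.deg k C.subscheme ((Scheme.Modules.pullback C.subschemeι).obj L) 1 : ℤ) : ℚ)
      = c 1 := by
    unfold Curv2.deg
    push_cast
    rw [h1]
    have h0' : (Curv2.euler k C.subscheme (Coh.structureModule C.subscheme) : ℚ) = c 0 := h0
    rw [h0']
    ring
  have h3 : (0 : ℚ) < ((Curv2.deg k C.subscheme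
      ((Scheme.Modules.pullback C.subschemeι).obj L) 1 : ℤ) : ℚ) := by rw [h2]; exact hc1
  exact_mod_cast h3

/-- Kleiman: positivity of the intersection numbers yields nonzero sections of powers on every
integral closed subscheme -/
theorem heff_of_pos (L : X.Modules) (hL : PicF.IsInvertible L)
    (hpos : ∀ (Z : X.IdealSheafData) [IsIntegral Z.subscheme] (d : ℕ), 0 < d →
      topologicalKrullDim (Z.support : Set X) = d →
      ∀ P : MvPolynomial (Fin d) ℚ,
        (∀ n : Fin d → ℕ, (Curv2.euler k X (Curv2.tensorPows (ClSub.quotMod Z) d (fun _ => L) n) : ℚ) =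
          MvPolynomial.eval (fun i => (n i : ℚ)) P) →
        0 < MvPolynomial.coeff (Finsupp.equivFunOnFinite.symm fun _ : Fin d => 1) P) :
    ∀ (d : ℕ) (Z : X.IdealSheafData), IsIntegral Z.subscheme →
      topologicalKrullDim Z.subscheme < ((d : ℕ) : WithBot ℕ∞) →
      ∃ (m : ℕ) (s : Coh.structureModule Z.subscheme ⟶
          CohB1.tensorPow ((Scheme.Modules.pullback Z.subschemeι).obj L) (m + 1)), s ≠ 0 := by
  have hnef := strictNef_of_pos k X L hL hpos
  intro d
  induction d with
  | zero =>
    intro Z hZ hdim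
    haveI := hZ
    haveI : IsEmpty Z.subscheme := isEmpty_of_dim_lt_zero hdim
    exact isEmptyElim (Classical.arbitrary Z.subscheme)
  | succ d ih =>
    intro Z hZ hdim
    haveI := hZ
    letI : Z.subscheme.Over (Spec (CommRingCat.of k)) :=
      ⟨Z.subschemeι ≫ (X ↘ Spec (CommRingCat.of k))⟩
    haveI : IsProper (Z.subscheme ↘ Spec (CommRingCat.of k)) :=
      inferInstanceAs (IsProper (Z.subschemeι ≫ (X ↘ Spec (CommRingCat.of k))))
    haveI : IsNoetherian Z.subscheme :=
      Groth.Agent.Lib.R2H1.CurveEuler.isNoetherian_of_proper k Z.subscheme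
    have hM : PicF.IsInvertible ((Scheme.Modules.pullback Z.subschemeι).obj L) :=
      Groth.Agent.Lib.Helper23.PB.isInvertible_pullback _ L hL
    by_cases h0 : topologicalKrullDim Z.subscheme ≤ 0
    · exact exists_section_of_dim_zero h0 _ hM
    · -- the dimension as a natural number
      obtain ⟨e, he⟩ : ∃ e : ℕ, topologicalKrullDim Z.subscheme = ((e : ℕ) : WithBot ℕ∞) :=
        exists_nat_eq_of_lt _ (d + 1) hdim h0
      have he0 : 0 < e := by
        rcases Nat.eq_zero_or_pos e with h | h
        · exfalso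
          apply h0
          rw [he, h]
          exact le_rfl
        · exact h
      have hamp : ∀ J : Z.subscheme.IdealSheafData, (J.support : Set Z.subscheme) ≠ Set.univ →
          CohB1.IsAmple ((Scheme.Modules.pullback J.subschemeι).obj
            ((Scheme.Modules.pullback Z.subschemeι).obj L)) := by
        intro J hJ
        have hdJ := dim_subscheme_lt J hJ d hdim
        exact Groth.Agent.Lib.Helper23.AmpleIso.isAmple_of_iso
          ((Scheme.Modules.pullbackComp J.subschemeι Z.subschemeι).app L).symm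
          (core2 k X L hL hnef d ih _ (J.subschemeι ≫ Z.subschemeι) hdJ)
      have hZdim : topologicalKrullDim (Z.support : Set X) = ((e : ℕ) : WithBot ℕ∞) := by
        rw [dim_support_eq, he]
      obtain ⟨P, hP, hP'⟩ := exists_poly k X L hL Z e hZdim.le
      have hp := hpos Z e he0 hZdim P hP
      exact exists_section_of_pos k e he0 he.le _ hM hamp P hP' hp

/-- **Nakai–Moishezon** (sufficiency): positivity of the intersection numbers on all integral
closed subschemes of positive dimension implies ampleness -/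
theorem main (L : X.Modules) (hL : PicF.IsInvertible L)
    (hpos : ∀ (Z : X.IdealSheafData) [IsIntegral Z.subscheme] (d : ℕ), 0 < d →
      topologicalKrullDim (Z.support : Set X) = d →
      ∀ P : MvPolynomial (Fin d) ℚ,
        (∀ n : Fin d → ℕ, (Curv2.euler k X (Curv2.tensorPows (ClSub.quotMod Z) d (fun _ => L) n) : ℚ) =
          MvPolynomial.eval (fun i => (n i : ℚ)) P) →
        0 < MvPolynomial.coeff (Finsupp.equivFunOnFinite.symm fun _ : Fin d => 1) P) :
    CohB1.IsAmple L := by
  refine Groth.Agent.Lib.R2H4NakaiCore.main k X L hL (strictNef_of_pos k X L hL hpos)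
    (fun Z hZ => ?_)
  haveI : CompactSpace Z.subscheme :=
    QuasiCompact.compactSpace_of_compactSpace (Z.subschemeι ≫ (X ↘ Spec (CommRingCat.of k)))
  have hfin := Groth.Agent.Lib.Helper3.DimCons.topologicalKrullDim_lt_top_of_lft_field k
    (Z.subschemeι ≫ (X ↘ Spec (CommRingCat.of k)))
  obtain ⟨d, hd⟩ := exists_nat_gt_of_lt_top _ hfin
  exact heff_of_pos k X L hL hpos d Z hZ hd

end Main

end Groth.Agent.Lib.R2H4NakaiMain
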