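import Mathlib
import Groth.Prelude
import Groth.Agent.Lib.R2H4KleimanA
import Groth.Agent.Lib.R2H4KleimanRoot
import Groth.Agent.Lib.R2H4NakaiMain
import Groth.Agent.Lib.R2H4GGAmple
import Groth.Agent.Lib.R2H4AmplePosMixed

/-!
# Kleiman's theorem (helper4, round 2)

On an integral proper scheme `Z` over a field with an ample invertible module `H`, let `L` be a
nef invertible module.  Then

* `kleiman_aux` : all mixed intersection numbers `(L^j · H^(e-j) · Z)`, `e = dim Z`, are
  nonnegative (in particular `(L^e · Z) ≥ 0`), and `L^b ⊗ H^a` is ample for all `a > 0`.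
-/

set_option autoImplicit false
set_option linter.style.haveILetI false
set_option linter.unusedSectionVars false
universe u
open CategoryTheory CategoryTheory.Limits AlgebraicGeometry TopologicalSpace

noncomputable section

namespace Groth.Agent.Lib.R2H4KleimanB

open Groth.Agent.Lib.R2H4NumPoly Groth.Agent.Lib.R2H4TensorPows Groth.Agent.Lib.R2H4Snapper
  Groth.Agent.Lib.R2H4SnapperCor Groth.Agent.Lib.R2H4SnapperRef Groth.Agent.Lib.R2H4MultiAdd
  Groth.Agent.Lib.R2H4AmplePos Groth.Agent.Lib.R2H4KleimanA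

section StrictNef

variable (k : Type u) [Field k] {Z : Scheme.{u}} [Z.Over (Spec (CommRingCat.of k))]
  [IsProper (Z ↘ Spec (CommRingCat.of k))]

/-- one constant slot: the degree -/
theorem iN_const_one (A F : Z.Modules) :
    iN k (fun _ : Fin 1 => A) F =
      (Curv2.euler k Z (CohB1.tensorMod F A) : ℚ) - (Curv2.euler k Z F : ℚ) := by
  have hv : (fun _ : Fin 1 => A) = Fin.cons A (Fin.elim0 : Fin 0 → Z.Modules) := by
    funext i
    refine Fin.cases rfl (fun j => j.elim0) i
  rw [hv, iN_one_slot]

/-- `L^b ⊗ H^a` has positive degree on every integral curve, for `L` nef, `H` ample, `a > 0` -/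
theorem strictNef_mono2 (L H : Z.Modules) (hL : PicF.IsInvertible L) (hnef : Nef k Z L)
    (hH : CohB1.IsAmple H) (a b : ℕ) (ha : 0 < a)
    (C : Z.IdealSheafData) (hC : IsIntegral C.subscheme)
    (hCdim : topologicalKrullDim (C.support : Set Z) = 1) :
    0 < Curv2.euler k Z (CohB1.tensorMod (ClSub.quotMod C) (mono2 L H (b, a))) -
      Curv2.euler k Z (ClSub.quotMod C) := by
  haveI := Groth.Agent.Lib.R2H1.CurveEuler.isNoetherian_of_proper k Z
  have cQ : Coh.IsCoh (ClSub.quotMod C) := isCoh_quotMod k C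
  have hsupp : topologicalKrullDim (CohB1.support (ClSub.quotMod C)) ≤
      ((0 + 1 : ℕ) : WithBot ℕ∞) := by
    refine (Groth.Agent.Lib.Helper8.Conn.dim_mono
      (Groth.Agent.Lib.R2H1.DegCartier.support_quotMod_subset (D := C))).trans ?_
    rw [hCdim]; rfl
  have hsplit := Φfun_split k hL hH.1 cQ 0 hsupp a b
  have hupd : ∀ y : ℕ × ℕ, Function.update (fun _ : Fin (0 + 1) => ((b, a) : ℕ × ℕ)) 0 y =
      fun _ => y := by
    intro y
    funext i
    have : i = 0 := Fin.ext (by have := i.2; omega)
    rw [this, Function.update_self]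
  rw [hupd, hupd] at hsplit
  have h1 : Φfun k L H (ClSub.quotMod C) (0 + 1) (fun _ => (1, 0)) =
      iN k (fun _ : Fin 1 => L) (ClSub.quotMod C) :=
    Φfun_bvec k L H _ 1 (fun _ => true)
  have h2 : Φfun k L H (ClSub.quotMod C) (0 + 1) (fun _ => (0, 1)) =
      iN k (fun _ : Fin 1 => H) (ClSub.quotMod C) :=
    Φfun_bvec k L H _ 1 (fun _ => false)
  have h3 : Φfun k L H (ClSub.quotMod C) (0 + 1) (fun _ => (b, a)) =
      iN k (fun _ : Fin 1 => mono2 L H (b, a)) (ClSub.quotMod C) := rfl
  rw [h1, h2, h3, iN_const_one, iN_const_one, iN_const_one] at hsplit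
  have hLpos : (0 : ℚ) ≤ (Curv2.euler k Z (CohB1.tensorMod (ClSub.quotMod C) L) : ℚ) -
      (Curv2.euler k Z (ClSub.quotMod C) : ℚ) := by
    have h := Groth.Agent.Lib.R2H1.NefPull.euler_quotMod_tensor_sub k Z C hCdim.le L hL
    have h' := hnef C hC hCdim
    rw [← h] at h'
    exact_mod_cast h'
  have hHpos : (0 : ℚ) < (Curv2.euler k Z (CohB1.tensorMod (ClSub.quotMod C) H) : ℚ) -
      (Curv2.euler k Z (ClSub.quotMod C) : ℚ) := by
    have h := Groth.Agent.Lib.R2H4GGAmple.deg_pos_of_isAmple k Z H hH C hC hCdim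
    exact_mod_cast h
  have haQ : (0 : ℚ) < (a : ℚ) := by exact_mod_cast ha
  have hbQ : (0 : ℚ) ≤ (b : ℚ) := Nat.cast_nonneg b
  have hfinal : (0 : ℚ) < (Curv2.euler k Z (CohB1.tensorMod (ClSub.quotMod C) (mono2 L H (b, a))) : ℚ) -
      (Curv2.euler k Z (ClSub.quotMod C) : ℚ) := by
    rw [hsplit]
    have := mul_nonneg hbQ hLpos
    have := mul_pos haQ hHpos
    linarith
  exact_mod_cast hfinal

end StrictNef

section Crit

open Groth.Agent.Lib.R2H4NakaiCore Groth.Agent.Lib.R2H4NakaiKleiman Groth.Agent.Lib.R2H4NakaiMain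

variable (k : Type u) [Field k] {Z : Scheme.{u}} [Z.Over (Spec (CommRingCat.of k))]
  [IsProper (Z ↘ Spec (CommRingCat.of k))]

include k in
/-- on a proper scheme of dimension `≤ 0` every invertible module is ample -/
theorem isAmple_of_dim_zero (hdim : topologicalKrullDim Z ≤ 0) (M : Z.Modules)
    (hM : PicF.IsInvertible M) : CohB1.IsAmple M := by
  haveI := Groth.Agent.Lib.R2H1.CurveEuler.isNoetherian_of_proper k Z
  have hlt : topologicalKrullDim Z < ((1 : ℕ) : WithBot ℕ∞) :=
    lt_of_le_of_lt hdim (by exact_mod_cast (natCast_lt_succ 0))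
  have h := core2 k Z M hM
    (fun C hC hCdim => by
      exfalso
      have h1 : topologicalKrullDim (C.support : Set Z) ≤ topologicalKrullDim Z :=
        Topology.IsInducing.subtypeVal.topologicalKrullDim_le
      rw [hCdim] at h1
      have h2 := h1.trans hdim
      exact absurd h2 (by decide))
    1
    (fun V hV hdV => by
      haveI := hV
      letI : V.subscheme.Over (Spec (CommRingCat.of k)) :=
        ⟨V.subschemeι ≫ (Z ↘ Spec (CommRingCat.of k))⟩
      haveI : IsProper (V.subscheme ↘ Spec (CommRingCat.of k)) :=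
        inferInstanceAs (IsProper (V.subschemeι ≫ (Z ↘ Spec (CommRingCat.of k))))
      haveI : IsNoetherian V.subscheme :=
        Groth.Agent.Lib.R2H1.CurveEuler.isNoetherian_of_proper k V.subscheme
      refine exists_section_of_dim_zero ?_ _
        (Groth.Agent.Lib.Helper23.PB.isInvertible_pullback _ M hM)
      exact le_of_lt_succ' _ 0 hdV)
    Z (𝟙 Z) hlt
  exact Groth.Agent.Lib.Helper23.AmpleIso.isAmple_of_iso
    ((Scheme.Modules.pullbackId Z).app M) h

variable [IsIntegral Z]

/-- **the criterion**: a strictly nef invertible module with positive top self-intersection which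
is ample on every closed subscheme of smaller dimension is ample -/
theorem isAmple_of_pos (d : ℕ) (hZ : topologicalKrullDim Z = ((d + 1 : ℕ) : WithBot ℕ∞))
    (M : Z.Modules) (hM : PicF.IsInvertible M)
    (hnef : ∀ C : Z.IdealSheafData, IsIntegral C.subscheme →
      topologicalKrullDim (C.support : Set Z) = 1 →
        0 < Curv2.euler k Z (CohB1.tensorMod (ClSub.quotMod C) M) - Curv2.euler k Z (ClSub.quotMod C))
    (hsub : ∀ (W : Scheme.{u}) (j : W ⟶ Z) [IsClosedImmersion j],
      topologicalKrullDim W < ((d + 1 : ℕ) : WithBot ℕ∞) →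
        CohB1.IsAmple ((Scheme.Modules.pullback j).obj M))
    (hpos : 0 < iN k (fun _ : Fin (d + 1) => M) (Coh.structureModule Z)) :
    CohB1.IsAmple M := by
  haveI := Groth.Agent.Lib.R2H1.CurveEuler.isNoetherian_of_proper k Z
  have cO : Coh.IsCoh (Coh.structureModule Z) :=
    Groth.Agent.Lib.R2H1.GenusLe.isCoh_structureModule Z
  have hdimO : topologicalKrullDim (CohB1.support (Coh.structureModule Z)) ≤
      ((d + 1 : ℕ) : WithBot ℕ∞) := (dim_support_le_dim _).trans hZ.le
  obtain ⟨P, hPdeg, hP⟩ := s1528 k _ cO (d + 1) hdimO (d + 1) (fun _ => M) (fun _ => hM)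
  have hZlt : topologicalKrullDim Z < ((d + 1 + 1 : ℕ) : WithBot ℕ∞) := by
    rw [hZ]; exact natCast_lt_succ (d + 1)
  have hamp : ∀ J : Z.IdealSheafData, (J.support : Set Z) ≠ Set.univ →
      CohB1.IsAmple ((Scheme.Modules.pullback J.subschemeι).obj M) := fun J hJ =>
    hsub J.subscheme J.subschemeι (dim_subscheme_lt J hJ (d + 1) hZlt)
  have hcoef : 0 < MvPolynomial.coeff (Finsupp.equivFunOnFinite.symm fun _ : Fin (d + 1) => 1) P := by
    rw [coeff_ones_eq_iN k (fun _ => M) _ P hPdeg (fun n => hP n)]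
    exact hpos
  obtain ⟨m, s, hs⟩ := exists_section_of_pos k (d + 1) (Nat.succ_pos d) hZ.le M hM hamp P hP hcoef
  refine isAmple_of_integral k Z M hM hnef m s hs ?_
  refine hsub _ _ ?_
  exact dim_zeroScheme_lt _ (Groth.Agent.Lib.Helper23.SecTw.isInvertible_tensorPow hM _) s hs
    (d + 1) hZlt

end Crit

section Main

open Groth.Agent.Lib.R2H4NakaiCore Groth.Agent.Lib.R2H4NakaiKleiman Groth.Agent.Lib.R2H4NakaiMain
  Groth.Agent.Lib.R2H4KleimanRoot

variable (k : Type u) [Field k]

/-- the dimension of a nonempty space of dimension `< n` is a natural number `< n` -/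
theorem exists_nat_dim_eq {T : Type u} [TopologicalSpace T] [Nonempty T] (n : ℕ)
    (h : topologicalKrullDim T < ((n : ℕ) : WithBot ℕ∞)) :
    ∃ d : ℕ, d < n ∧ topologicalKrullDim T = ((d : ℕ) : WithBot ℕ∞) := by
  have h0 : (0 : WithBot ℕ∞) ≤ topologicalKrullDim T := by
    obtain ⟨t⟩ := (inferInstance : Nonempty T)
    haveI : Nonempty (IrreducibleCloseds T) :=
      ⟨⟨closure {t}, isIrreducible_singleton.closure, isClosed_closure⟩⟩
    exact Order.krullDim_nonneg
  generalize topologicalKrullDim T = a at h h0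
  induction a using WithBot.recBotCoe with
  | bot => exact absurd h0 (by decide)
  | coe m =>
    induction m using ENat.recTopCoe with
    | top =>
      exfalso
      have h' : ((⊤ : ℕ∞) : WithBot ℕ∞) < (((n : ℕ) : ℕ∞) : WithBot ℕ∞) := h
      rw [WithBot.coe_lt_coe] at h'
      exact absurd h' (not_lt.2 le_top)
    | coe m =>
      refine ⟨m, ?_, rfl⟩
      have h' : (((m : ℕ) : ℕ∞) : WithBot ℕ∞) < (((n : ℕ) : ℕ∞) : WithBot ℕ∞) := h
      rw [WithBot.coe_lt_coe, Nat.cast_lt] at h'
      exact h'

/-- **Kleiman's theorem** (projective case), together with the ampleness of `nef + ample` -/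
theorem kleiman_aux (e : ℕ) : ∀ (Z : Scheme.{u}) [Z.Over (Spec (CommRingCat.of k))]
    [IsProper (Z ↘ Spec (CommRingCat.of k))] [IsIntegral Z],
    topologicalKrullDim Z = ((e : ℕ) : WithBot ℕ∞) → ∀ (L H : Z.Modules),
    PicF.IsInvertible L → Nef k Z L → CohB1.IsAmple H →
    (∀ r : Fin e → Bool, 0 ≤ iN k (fun i => if r i then L else H) (Coh.structureModule Z)) ∧
    (∀ a b : ℕ, 0 < a → CohB1.IsAmple (mono2 L H (b, a))) := by
  classical
  induction e using Nat.strong_induction_on with
  | _ e ih =>
  intro Z _ _ _ hZ L H hL hnef hH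
  haveI := Groth.Agent.Lib.R2H1.CurveEuler.isNoetherian_of_proper k Z
  have hO : PicF.IsInvertible (Coh.structureModule Z) :=
    Groth.Agent.Lib.Helper23.TensorUnit.isInvertible_structureModule Z
  have cO : Coh.IsCoh (Coh.structureModule Z) :=
    Groth.Agent.Lib.R2H1.GenusLe.isCoh_structureModule Z
  have hdimO : topologicalKrullDim (CohB1.support (Coh.structureModule Z)) ≤
      ((e : ℕ) : WithBot ℕ∞) := (dim_support_le_dim _).trans hZ.le
  have hvinv : ∀ {n : ℕ} (r : Fin n → Bool) (i : Fin n),
      PicF.IsInvertible (if r i then L else H) := fun r i => by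
    split_ifs
    · exact hL
    · exact hH.1
  -- the induction hypothesis on an integral closed subscheme
  have hres : ∀ (D : Z.IdealSheafData), IsIntegral D.subscheme → ∀ d : ℕ, d < e →
      topologicalKrullDim D.subscheme = ((d : ℕ) : WithBot ℕ∞) →
      (∀ r : Fin d → Bool, 0 ≤ iN k (fun i => if r i then L else H) (ClSub.quotMod D)) ∧
      (∀ a b : ℕ, 0 < a →
        CohB1.IsAmple ((Scheme.Modules.pullback D.subschemeι).obj (mono2 L H (b, a)))) := by
    intro D hD d hd hdimD
    haveI := hD
    letI : D.subscheme.Over (Spec (CommRingCat.of k)) :=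
      ⟨D.subschemeι ≫ (Z ↘ Spec (CommRingCat.of k))⟩
    haveI : IsProper (D.subscheme ↘ Spec (CommRingCat.of k)) :=
      inferInstanceAs (IsProper (D.subschemeι ≫ (Z ↘ Spec (CommRingCat.of k))))
    have hLD := Groth.Agent.Lib.Helper23.PB.isInvertible_pullback D.subschemeι L hL
    have hih := ih d hd D.subscheme hdimD _ _ hLD (nef_zS k L hL hnef D)
      (Groth.Agent.Lib.Helper23.PB.isAmple_pullback_of_isAffineHom D.subschemeι _ hH)
    refine ⟨fun r => ?_, fun a b ha => ?_⟩
    · rw [iN_quotMod_eq k D _ (hvinv r)]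
      have hfun : (fun i => (Scheme.Modules.pullback D.subschemeι).obj (if r i then L else H)) =
          fun i => if r i then (Scheme.Modules.pullback D.subschemeι).obj L
            else (Scheme.Modules.pullback D.subschemeι).obj H := by
        funext i
        split_ifs <;> rfl
      rw [hfun]
      exact hih.1 r
    · obtain ⟨φ⟩ := nonempty_pullback_mono2_iso D.subschemeι hL hH.1 (b, a)
      exact Groth.Agent.Lib.Helper23.AmpleIso.isAmple_of_iso φ.symm (hih.2 a b ha)
  -- Step B: the mixed numbers with at least one ample slot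
  have hB : ∀ r : Fin e → Bool, (∃ i, r i = false) →
      0 ≤ iN k (fun i => if r i then L else H) (Coh.structureModule Z) := by
    rintro r ⟨i, hi⟩
    obtain ⟨e', rfl⟩ : ∃ e', e = e' + 1 := ⟨e - 1, by have := i.pos; omega⟩
    have hv : (fun j => if r j then L else H) =
        Fin.insertNth (α := fun _ => Z.Modules) i H
          (fun j => if r (i.succAbove j) then L else H) := by
      funext j
      rcases Fin.eq_self_or_eq_succAbove i j with h | ⟨j', h⟩
      · rw [h, Fin.insertNth_apply_same, hi]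
        rfl
      · rw [h, Fin.insertNth_apply_succAbove]
    rw [hv]
    refine reduction k e' hZ (fun j => if r (i.succAbove j) then L else H)
      (fun j => hvinv (fun j => r (i.succAbove j)) j) H hH i (fun ξ hξ => ?_)
    exact (hres (zI ξ) (isIntegral_zS ξ) e' (Nat.lt_succ_self e') ((dim_zS ξ).trans hξ)).1
      (fun j => r (i.succAbove j))
  -- Step C: the criterion
  have hC : ∀ a b : ℕ, 0 < a →
      0 < iN k (fun _ : Fin e => mono2 L H (b, a)) (Coh.structureModule Z) →
      CohB1.IsAmple (mono2 L H (b, a)) := by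
    intro a b ha hpos
    have hM := isInvertible_mono2 hL hH.1 (b, a)
    rcases Nat.eq_zero_or_pos e with he0 | he
    · refine isAmple_of_dim_zero k ?_ _ hM
      rw [hZ, he0]
      rfl
    · obtain ⟨d, rfl⟩ : ∃ d, e = d + 1 := ⟨e - 1, by omega⟩
      refine isAmple_of_pos k d hZ _ hM (strictNef_mono2 k L H hL hnef hH a b ha) ?_ hpos
      intro W j _ hdimW
      refine core2 k Z _ hM (strictNef_mono2 k L H hL hnef hH a b ha) (d + 1) ?_ W j hdimW
      intro V hV hdV
      haveI := hV
      obtain ⟨d', hd'lt, hd'⟩ := exists_nat_dim_eq (d + 1) hdV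
      have hamp := (hres V hV d' hd'lt hd').2 a b ha
      obtain ⟨a', ha', ⟨s, hs⟩, -⟩ := Groth.Agent.Lib.R2H4VolBig.exists_pow_sections _ hamp
        (Coh.structureModule V.subscheme)
        (Groth.Agent.Lib.Helper23.TensorUnit.isInvertible_structureModule V.subscheme)
      obtain ⟨m, rfl⟩ : ∃ m, a' = m + 1 := ⟨a' - 1, by omega⟩
      exact ⟨m, s, hs⟩
  -- the coefficients
  obtain ⟨c, hc⟩ : ∃ c : (Fin e → Bool) → ℚ,
      ∀ r, c r = Φfun k L H (Coh.structureModule Z) e (fun i => bvec (r i)) := ⟨_, fun _ => rfl⟩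
  have hcr : ∀ r, c r = iN k (fun i => if r i then L else H) (Coh.structureModule Z) :=
    fun r => (hc r).trans (Φfun_bvec k L H _ e r)
  have hcF : 0 < c (fun _ => false) := by
    rw [hcr]
    have hfun : (fun i : Fin e => if (fun _ => false : Fin e → Bool) i then L else H) =
        fun _ => H := by
      funext i; rfl
    rw [hfun]
    obtain ⟨P, hPdeg, hP⟩ := s1528 k _ cO e hdimO e (fun _ => H) (fun _ => hH.1)
    rw [← coeff_ones_eq_iN k (fun _ => H) _ P hPdeg (fun n => hP n)]
    exact Groth.Agent.Lib.R2H4AmplePosMixed.posMixed k e Z hZ (fun _ => H) (fun _ => hH) P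
      (fun n => hP n)
  have hnnB : ∀ r : Fin e → Bool, r ≠ (fun _ => true) → 0 ≤ c r := by
    intro r hr
    rw [hcr]
    refine hB r ?_
    by_contra hcon
    push Not at hcon
    apply hr
    funext i
    simpa using hcon i
  -- the expansion of `(L^b ⊗ H^a)^e`
  have hexp : ∀ a b : ℕ, iN k (fun _ : Fin e => mono2 L H (b, a)) (Coh.structureModule Z) =
      ∑ r : Fin e → Bool, (∏ i, (if r i then (b : ℚ) else (a : ℚ))) * c r := by
    intro a b
    have h1 : iN k (fun _ : Fin e => mono2 L H (b, a)) (Coh.structureModule Z) =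
        Φfun k L H (Coh.structureModule Z) e (fun _ => (b, a)) := rfl
    rw [h1, Φfun_expand k hL hH.1 cO e hdimO]
    refine Finset.sum_congr rfl fun r _ => ?_
    rw [hc r]
    congr 1
    refine Finset.prod_congr rfl fun i _ => ?_
    split_ifs <;> rfl
  -- Step D: the pure number
  have hD : 0 ≤ c (fun _ => true) := by
    rcases Nat.eq_zero_or_pos e with he0 | he
    · subst he0
      rw [hcr, iN_zero_slots]
      have hpos := euler_structure_pos_of_dim_zero k (X := Z) (by rw [hZ]; exact le_rfl)
      exact_mod_cast hpos.le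
    · obtain ⟨d, rfl⟩ : ∃ d, e = d + 1 := ⟨e - 1, by omega⟩
      refine kleiman_root (d + 1) c (Nat.succ_pos d) hnnB hcF ?_
      intro a b ha hb hpos
      rw [← hexp a b] at hpos ⊢
      have hMamp := hC a b ha hpos
      have h1 : iN k (fun _ : Fin (d + 1) => mono2 L H (b, a)) (Coh.structureModule Z) =
          Φfun k L H (Coh.structureModule Z) (d + 1) (fun _ => (b, a)) := rfl
      rw [h1, Φfun_split k hL hH.1 cO d hdimO a b]
      have hlow := Φfun_lower k hL hH.1 cO d hdimO a b (fun r hr => by
        rw [← hc r]; exact hnnB r hr)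
      rw [← hc] at hlow
      have hQ : 0 ≤ Φfun k L H (Coh.structureModule Z) (d + 1)
          (Function.update (fun _ => (b, a)) 0 (1, 0)) := by
        unfold Φfun
        have eL : mono2 L H (1, 0) ≅ L := mono2Bvec L H true
        rw [update_eq_insertNth, iN_insertNth_congr k 0 _ eL, Fin.insertNth_zero']
        exact nef_ample_nonneg k d Z hZ L (mono2 L H (b, a)) hL hnef hMamp
      have haQ : (0 : ℚ) ≤ (a : ℚ) := Nat.cast_nonneg a
      have hbQ : (0 : ℚ) ≤ (b : ℚ) := Nat.cast_nonneg b
      have h2 := mul_nonneg hbQ hQ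
      have h3 := mul_le_mul_of_nonneg_left hlow haQ
      have h4 : c (fun _ => false) * (a : ℚ) ^ (d + 1) =
          (a : ℚ) * ((a : ℚ) ^ d * c (fun _ => false)) := by ring
      rw [h4]
      linarith
  -- all numbers are nonnegative
  have hall : ∀ r : Fin e → Bool, 0 ≤ c r := by
    intro r
    by_cases hr : r = fun _ => true
    · rw [hr]; exact hD
    · exact hnnB r hr
  refine ⟨fun r => by rw [← hcr]; exact hall r, fun a b ha => ?_⟩
  -- Step E: ampleness
  refine hC a b ha ?_
  rw [hexp a b]
  have hnonneg : ∀ r ∈ (Finset.univ : Finset (Fin e → Bool)),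
      0 ≤ (∏ i, (if r i then (b : ℚ) else (a : ℚ))) * c r := by
    intro r _
    refine mul_nonneg (Finset.prod_nonneg fun i _ => ?_) (hall r)
    split_ifs
    · exact Nat.cast_nonneg b
    · exact Nat.cast_nonneg a
  have hsingle := Finset.single_le_sum hnonneg (Finset.mem_univ (fun _ => false : Fin e → Bool))
  refine lt_of_lt_of_le ?_ hsingle
  have haQ : (0 : ℚ) < (a : ℚ) := by exact_mod_cast ha
  refine mul_pos (Finset.prod_pos fun i _ => ?_) hcF
  simpa using haQ

end Main

end Groth.Agent.Lib.R2H4KleimanB
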