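import Mathlib
import Groth.Prelude
import Groth.Agent.Lib.R2H4H0Growth
import Groth.Agent.Lib.R2H4VolBig
import Groth.Agent.Lib.R2H4SnapperRef
import Groth.Agent.Lib.R2H2DevC
import Groth.Agent.Lib.R2H4KleimanB

/-!
# Growth of the higher cohomology `hⁱ(F ⊗ L^m)` (helper4, round 2)

For `X` proper over a field `k` carrying an ample invertible module, `L` an invertible module and
`F` coherent with `dim Supp F < d`: for every `i` there is a constant `C` with
`hⁱ(X, F ⊗ L^m) · (m + 1) ≤ C · (m + 1)^d` for all `m` (`main`); in particular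
`hⁱ(X, F ⊗ L^m) ≤ C · (m + 1)^d` when `dim Supp F ≤ d` (`main_le`).

The proof is an induction on the dimension: dévissage (`DevC.devissage`) reduces to the structure
sheaves of integral closed subschemes `V`; there one picks nonzero sections `s` of `B = H^a` and
`t` of `B ⊗ L` and compares `L^{m+1}` and `L^m` with `B ⊗ L^{m+1}` through the long exact
sequences of the cokernels of `s` and `t`, which have smaller support.
-/

set_option autoImplicit false
set_option linter.style.haveILetI false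
set_option linter.unusedSectionVars false
universe u
open CategoryTheory CategoryTheory.Limits AlgebraicGeometry TopologicalSpace

noncomputable section

namespace Groth.Agent.Lib.R2H4HiGrowth

open Groth.Agent.Lib.R2H2.HHLin Groth.Agent.Lib.R2H2.PnSerre Groth.Agent.Lib.R2H2.StalkPow
  Groth.Agent.Lib.R2H4TensorPows

section LinAlg

variable {k : Type*} [Field k] {V₁ V₂ V₃ : Type*} [AddCommGroup V₁] [Module k V₁]
  [AddCommGroup V₂] [Module k V₂] [AddCommGroup V₃] [Module k V₃]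

/-- the middle term of an exact sequence of finite-dimensional spaces -/
theorem finrank_le_add_of_exact [Module.Finite k V₁] [Module.Finite k V₂] [Module.Finite k V₃]
    (f : V₁ →ₗ[k] V₂) (g : V₂ →ₗ[k] V₃) (hker : ∀ x, g x = 0 → ∃ y, f y = x) :
    Module.finrank k V₂ ≤ Module.finrank k V₁ + Module.finrank k V₃ := by
  have hker' : LinearMap.ker g ≤ LinearMap.range f := by
    intro x hx
    obtain ⟨y, hy⟩ := hker x (LinearMap.mem_ker.1 hx)
    exact ⟨y, hy⟩
  have h1 := LinearMap.finrank_range_add_finrank_ker g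
  have h2 : Module.finrank k (LinearMap.ker g) ≤ Module.finrank k (LinearMap.range f) :=
    Submodule.finrank_mono hker'
  have h3 : Module.finrank k (LinearMap.range f) ≤ Module.finrank k V₁ :=
    LinearMap.finrank_range_le f
  have h4 : Module.finrank k (LinearMap.range g) ≤ Module.finrank k V₃ :=
    Submodule.finrank_le _
  omega

end LinAlg

section Basic

variable (k : Type u) [Field k] {X : Scheme.{u}} [X.Over (Spec (CommRingCat.of k))]
  [IsProper (X ↘ (Spec (CommRingCat.of k)))]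

/-- `hⁱ` -/
def hi (F : X.Modules) (i : ℕ) : ℕ := Module.finrank k (Coh.HH X F i)

theorem hi_congr {M N : X.Modules} (e : M ≅ N) (i : ℕ) : hi k M i = hi k N i :=
  Groth.Agent.Lib.R2H2.ClosedPnLin.finrank_HH_of_iso k e i

theorem hi_of_isZero (M : X.Modules) (hM : IsZero M) (i : ℕ) : hi k M i = 0 := by
  haveI : Subsingleton (Coh.HH X M i) :=
    Groth.Agent.Lib.R2H2.KoszulShift.subsingleton_HH_of_isZero hM i
  unfold hi
  rw [Module.finrank_zero_of_subsingleton]

variable (S : ShortComplex X.Modules) (hS : S.ShortExact)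
  (h₁ : Coh.IsCoh S.X₁) (h₂ : Coh.IsCoh S.X₂) (h₃ : Coh.IsCoh S.X₃)

include hS h₁ h₂ h₃

theorem hi_mid_le (i : ℕ) : hi k S.X₂ i ≤ hi k S.X₁ i + hi k S.X₃ i := by
  haveI : Module.Finite k (Coh.HH X S.X₁ i) := Groth.Agent.Lib.R2H1.EulerAdd.finite_HH k X _ h₁ i
  haveI : Module.Finite k (Coh.HH X S.X₂ i) := Groth.Agent.Lib.R2H1.EulerAdd.finite_HH k X _ h₂ i
  haveI : Module.Finite k (Coh.HH X S.X₃ i) := Groth.Agent.Lib.R2H1.EulerAdd.finite_HH k X _ h₃ i
  refine finrank_le_add_of_exact (HmapA k S.f i) (HmapA k S.g i) fun x hx => ?_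
  rw [HmapA_apply] at hx
  obtain ⟨y, hy⟩ := exact₂ S hS i x hx
  exact ⟨y, by rw [HmapA_apply]; exact hy⟩

theorem hi_right_le (i : ℕ) : hi k S.X₃ i ≤ hi k S.X₂ i + hi k S.X₁ (i + 1) := by
  haveI : Module.Finite k (Coh.HH X S.X₁ (i + 1)) :=
    Groth.Agent.Lib.R2H1.EulerAdd.finite_HH k X _ h₁ (i + 1)
  haveI : Module.Finite k (Coh.HH X S.X₂ i) := Groth.Agent.Lib.R2H1.EulerAdd.finite_HH k X _ h₂ i
  haveI : Module.Finite k (Coh.HH X S.X₃ i) := Groth.Agent.Lib.R2H1.EulerAdd.finite_HH k X _ h₃ i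
  refine finrank_le_add_of_exact (HmapA k S.g i) (deltaA k S hS i) fun x hx => ?_
  rw [deltaA_apply] at hx
  obtain ⟨y, hy⟩ := exact₃ S hS i x hx
  exact ⟨y, by rw [HmapA_apply]; exact hy⟩

theorem hi_left_succ_le (i : ℕ) : hi k S.X₁ (i + 1) ≤ hi k S.X₃ i + hi k S.X₂ (i + 1) := by
  haveI : Module.Finite k (Coh.HH X S.X₁ (i + 1)) :=
    Groth.Agent.Lib.R2H1.EulerAdd.finite_HH k X _ h₁ (i + 1)
  haveI : Module.Finite k (Coh.HH X S.X₂ (i + 1)) :=
    Groth.Agent.Lib.R2H1.EulerAdd.finite_HH k X _ h₂ (i + 1)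
  haveI : Module.Finite k (Coh.HH X S.X₃ i) := Groth.Agent.Lib.R2H1.EulerAdd.finite_HH k X _ h₃ i
  refine finrank_le_add_of_exact (deltaA k S hS i) (HmapA k S.f (i + 1)) fun x hx => ?_
  rw [HmapA_apply] at hx
  obtain ⟨y, hy⟩ := exact₁ S hS i x hx
  exact ⟨y, by rw [deltaA_apply]; exact hy⟩

theorem hi_left_zero_le : hi k S.X₁ 0 ≤ hi k S.X₂ 0 := by
  haveI := hS.mono_f
  exact Groth.Agent.Lib.R2H4H0Growth.h0_le_of_mono k S.f h₂

end Basic

section Twist

variable (k : Type u) [Field k] {X : Scheme.{u}} [X.Over (Spec (CommRingCat.of k))]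
  [IsProper (X ↘ (Spec (CommRingCat.of k)))]

variable (T : X.Modules) (hT : PicF.IsInvertible T)
  (S : ShortComplex X.Modules) (hS : S.ShortExact)
  (h₁ : Coh.IsCoh S.X₁) (h₂ : Coh.IsCoh S.X₂) (h₃ : Coh.IsCoh S.X₃)

include hT hS h₁ h₂ h₃

theorem hiT_mid_le (i : ℕ) : hi k (CohB1.tensorMod S.X₂ T) i ≤
    hi k (CohB1.tensorMod S.X₁ T) i + hi k (CohB1.tensorMod S.X₃ T) i :=
  hi_mid_le k (S.map (twR T)) (shortExact_map_twR T hT S hS)
    (Groth.Agent.Lib.R2H3.AmpleSV.isCoh_tensorMod_invertible _ _ h₁ hT)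
    (Groth.Agent.Lib.R2H3.AmpleSV.isCoh_tensorMod_invertible _ _ h₂ hT)
    (Groth.Agent.Lib.R2H3.AmpleSV.isCoh_tensorMod_invertible _ _ h₃ hT) i

theorem hiT_right_le (i : ℕ) : hi k (CohB1.tensorMod S.X₃ T) i ≤
    hi k (CohB1.tensorMod S.X₂ T) i + hi k (CohB1.tensorMod S.X₁ T) (i + 1) :=
  hi_right_le k (S.map (twR T)) (shortExact_map_twR T hT S hS)
    (Groth.Agent.Lib.R2H3.AmpleSV.isCoh_tensorMod_invertible _ _ h₁ hT)
    (Groth.Agent.Lib.R2H3.AmpleSV.isCoh_tensorMod_invertible _ _ h₂ hT)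
    (Groth.Agent.Lib.R2H3.AmpleSV.isCoh_tensorMod_invertible _ _ h₃ hT) i

theorem hiT_left_succ_le (i : ℕ) : hi k (CohB1.tensorMod S.X₁ T) (i + 1) ≤
    hi k (CohB1.tensorMod S.X₃ T) i + hi k (CohB1.tensorMod S.X₂ T) (i + 1) :=
  hi_left_succ_le k (S.map (twR T)) (shortExact_map_twR T hT S hS)
    (Groth.Agent.Lib.R2H3.AmpleSV.isCoh_tensorMod_invertible _ _ h₁ hT)
    (Groth.Agent.Lib.R2H3.AmpleSV.isCoh_tensorMod_invertible _ _ h₂ hT)
    (Groth.Agent.Lib.R2H3.AmpleSV.isCoh_tensorMod_invertible _ _ h₃ hT) i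

theorem hiT_left_zero_le : hi k (CohB1.tensorMod S.X₁ T) 0 ≤ hi k (CohB1.tensorMod S.X₂ T) 0 :=
  hi_left_zero_le k (S.map (twR T)) (shortExact_map_twR T hT S hS)
    (Groth.Agent.Lib.R2H3.AmpleSV.isCoh_tensorMod_invertible _ _ h₁ hT)
    (Groth.Agent.Lib.R2H3.AmpleSV.isCoh_tensorMod_invertible _ _ h₂ hT)
    (Groth.Agent.Lib.R2H3.AmpleSV.isCoh_tensorMod_invertible _ _ h₃ hT)

/-- a uniform version of the inequality for the left term -/
theorem hiT_left_le (i : ℕ) : hi k (CohB1.tensorMod S.X₁ T) i ≤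
    (if i = 0 then 0 else hi k (CohB1.tensorMod S.X₃ T) (i - 1)) +
      hi k (CohB1.tensorMod S.X₂ T) i := by
  rcases Nat.eq_zero_or_pos i with h | h
  · subst h
    rw [if_pos rfl, zero_add]
    exact hiT_left_zero_le k T hT S hS h₁ h₂ h₃
  · obtain ⟨j, rfl⟩ : ∃ j, i = j + 1 := ⟨i - 1, by omega⟩
    rw [if_neg (Nat.succ_ne_zero j), Nat.add_sub_cancel]
    exact hiT_left_succ_le k T hT S hS h₁ h₂ h₃ j

end Twist

section Bounds

variable (k : Type u) [Field k] {X : Scheme.{u}} [X.Over (Spec (CommRingCat.of k))]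
  [IsProper (X ↘ (Spec (CommRingCat.of k)))] (d : ℕ) (L : X.Modules)

/-- `hⁱ(F ⊗ L^m) · (m + 1) ≤ C (m + 1)^d`: growth of order `< d` -/
def Bs (F : X.Modules) : Prop :=
  ∀ i : ℕ, ∃ C : ℕ, ∀ m : ℕ,
    hi k (CohB1.tensorMod F (CohB1.tensorPow L m)) i * (m + 1) ≤ C * (m + 1) ^ d

/-- `hⁱ(F ⊗ L^m) ≤ C (m + 1)^d`: growth of order `≤ d` -/
def Bd (F : X.Modules) : Prop :=
  ∀ i : ℕ, ∃ C : ℕ, ∀ m : ℕ,
    hi k (CohB1.tensorMod F (CohB1.tensorPow L m)) i ≤ C * (m + 1) ^ d

theorem Bs_zero (M : X.Modules) (hM : IsZero M) : Bs k d L M := by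
  intro i
  refine ⟨0, fun m => ?_⟩
  have hz : IsZero (CohB1.tensorMod M (CohB1.tensorPow L m)) :=
    (twR (CohB1.tensorPow L m)).map_isZero hM
  rw [hi_of_isZero k _ hz i]
  simp

theorem Bs_of_iso {F G : X.Modules} (e : F ≅ G) (h : Bs k d L G) : Bs k d L F := by
  intro i
  obtain ⟨C, hC⟩ := h i
  refine ⟨C, fun m => ?_⟩
  have e' : CohB1.tensorMod F (CohB1.tensorPow L m) ≅ CohB1.tensorMod G (CohB1.tensorPow L m) :=
    (twR (CohB1.tensorPow L m)).mapIso e
  rw [hi_congr k e' i]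
  exact hC m

theorem Bs_of_le {d d' : ℕ} (hdd : d ≤ d') {F : X.Modules} (h : Bs k d L F) : Bs k d' L F := by
  intro i
  obtain ⟨C, hC⟩ := h i
  refine ⟨C, fun m => (hC m).trans ?_⟩
  exact Nat.mul_le_mul_left _ (Nat.pow_le_pow_right (Nat.succ_pos m) hdd)

theorem Bs_succ_of_Bd {F : X.Modules} (h : Bd k d L F) : Bs k (d + 1) L F := by
  intro i
  obtain ⟨C, hC⟩ := h i
  refine ⟨C, fun m => ?_⟩
  rw [_root_.pow_succ, ← mul_assoc]
  exact Nat.mul_le_mul_right _ (hC m)

theorem Bd_of_Bs_succ {F : X.Modules} (h : Bs k (d + 1) L F) : Bd k d L F := by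
  intro i
  obtain ⟨C, hC⟩ := h i
  refine ⟨C, fun m => ?_⟩
  have h1 := hC m
  rw [_root_.pow_succ, ← mul_assoc] at h1
  exact Nat.le_of_mul_le_mul_right h1 (Nat.succ_pos m)

variable {d L}

theorem Bs_two_of_three (hL : PicF.IsInvertible L) (S : ShortComplex X.Modules)
    (hS : S.ShortExact) (c₁ : Coh.IsCoh S.X₁) (c₂ : Coh.IsCoh S.X₂) (c₃ : Coh.IsCoh S.X₃) :
    (Bs k d L S.X₁ → Bs k d L S.X₂ → Bs k d L S.X₃) ∧
      (Bs k d L S.X₁ → Bs k d L S.X₃ → Bs k d L S.X₂) ∧
      (Bs k d L S.X₂ → Bs k d L S.X₃ → Bs k d L S.X₁) := by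
  have hE := fun m => Groth.Agent.Lib.Helper23.SecTw.isInvertible_tensorPow hL m
  refine ⟨fun p₁ p₂ i => ?_, fun p₁ p₃ i => ?_, fun p₂ p₃ i => ?_⟩
  · obtain ⟨C₁, hC₁⟩ := p₁ (i + 1)
    obtain ⟨C₂, hC₂⟩ := p₂ i
    refine ⟨C₂ + C₁, fun m => ?_⟩
    have h := hiT_right_le k _ (hE m) S hS c₁ c₂ c₃ i
    calc hi k (CohB1.tensorMod S.X₃ (CohB1.tensorPow L m)) i * (m + 1)
        ≤ (hi k (CohB1.tensorMod S.X₂ (CohB1.tensorPow L m)) i +
          hi k (CohB1.tensorMod S.X₁ (CohB1.tensorPow L m)) (i + 1)) * (m + 1) :=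
          Nat.mul_le_mul_right _ h
      _ ≤ (C₂ + C₁) * (m + 1) ^ d := by
          rw [add_mul, add_mul]
          exact Nat.add_le_add (hC₂ m) (hC₁ m)
  · obtain ⟨C₁, hC₁⟩ := p₁ i
    obtain ⟨C₃, hC₃⟩ := p₃ i
    refine ⟨C₁ + C₃, fun m => ?_⟩
    have h := hiT_mid_le k _ (hE m) S hS c₁ c₂ c₃ i
    calc hi k (CohB1.tensorMod S.X₂ (CohB1.tensorPow L m)) i * (m + 1)
        ≤ (hi k (CohB1.tensorMod S.X₁ (CohB1.tensorPow L m)) i +
          hi k (CohB1.tensorMod S.X₃ (CohB1.tensorPow L m)) i) * (m + 1) :=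
          Nat.mul_le_mul_right _ h
      _ ≤ (C₁ + C₃) * (m + 1) ^ d := by
          rw [add_mul, add_mul]
          exact Nat.add_le_add (hC₁ m) (hC₃ m)
  · obtain ⟨C₂, hC₂⟩ := p₂ i
    obtain ⟨C₃, hC₃⟩ := p₃ (i - 1)
    refine ⟨C₃ + C₂, fun m => ?_⟩
    have h := hiT_left_le k _ (hE m) S hS c₁ c₂ c₃ i
    calc hi k (CohB1.tensorMod S.X₁ (CohB1.tensorPow L m)) i * (m + 1)
        ≤ ((if i = 0 then 0 else hi k (CohB1.tensorMod S.X₃ (CohB1.tensorPow L m)) (i - 1)) +
          hi k (CohB1.tensorMod S.X₂ (CohB1.tensorPow L m)) i) * (m + 1) :=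
          Nat.mul_le_mul_right _ h
      _ ≤ (C₃ + C₂) * (m + 1) ^ d := by
          rw [add_mul, add_mul]
          refine Nat.add_le_add ?_ (hC₂ m)
          split_ifs
          · simp
          · exact hC₃ m

end Bounds

section Push

variable (k : Type u) [Field k] {W X : Scheme.{u}} [X.Over (Spec (CommRingCat.of k))]
  [IsProper (X ↘ (Spec (CommRingCat.of k)))] [W.Over (Spec (CommRingCat.of k))]

/-- `hⁱ(X, g_* N ⊗ L^m) = hⁱ(W, N ⊗ (g^*L)^m)` for an affine `k`-morphism `g : W ⟶ X` -/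
theorem hi_push_twist (g : W ⟶ X) [IsAffineHom g]
    (hg : g ≫ (X ↘ Spec (CommRingCat.of k)) = W ↘ Spec (CommRingCat.of k))
    (L : X.Modules) (hL : PicF.IsInvertible L) (N : W.Modules) (hN : Coh.IsCoh N) (m i : ℕ) :
    hi k (CohB1.tensorMod ((Scheme.Modules.pushforward g).obj N) (CohB1.tensorPow L m)) i =
      hi k (CohB1.tensorMod N (CohB1.tensorPow ((Scheme.Modules.pullback g).obj L) m)) i := by
  haveI : CompactSpace X :=
    QuasiCompact.compactSpace_of_compactSpace (X ↘ Spec (CommRingCat.of k))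
  obtain ⟨ι, hfin, V, hcov, hVa, hV⟩ :=
    Groth.Agent.Lib.R2H2.ProperFin.exists_affine_cover_of_isSeparated
      (X ↘ Spec (CommRingCat.of k))
  obtain ⟨Φ⟩ := Groth.Agent.Lib.R2H3.AmpleFinite.nonempty_push_twist_iso g L hL N m
  have hq : Coh.IsQCoh (CohB1.tensorMod N
      (CohB1.tensorPow ((Scheme.Modules.pullback g).obj L) m)) :=
    (Groth.Agent.Lib.R2H3.AmpleSV.isCoh_tensorMod_invertible N _ hN
      (Groth.Agent.Lib.Helper23.SecTw.isInvertible_tensorPow
        (Groth.Agent.Lib.Helper23.PB.isInvertible_pullback g L hL) m)).1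
  obtain ⟨e⟩ := Groth.Agent.Lib.R2H2.AffPushLin.exists_push_linear g V k hg hcov hV _ hq i
  rw [hi_congr k Φ]
  exact e.finrank_eq.symm

end Push

section Arith

/-- summing a recursion whose increments have growth of order `< d` -/
theorem growth_of_rec (d : ℕ) (u V : ℕ → ℕ) (C : ℕ) (hrec : ∀ m, u (m + 1) ≤ u m + V m)
    (hV : ∀ m, V m * (m + 1) ≤ C * (m + 1) ^ d) : ∃ C' : ℕ, ∀ m, u m ≤ C' * (m + 1) ^ d := by
  rcases Nat.eq_zero_or_pos d with hd | hd
  · subst hd
    have hV' : ∀ m, V m * (m + 1) ≤ C := fun m => by simpa using hV m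
    have key : ∀ m, u m ≤ u 0 + C * min m C := by
      intro m
      induction m with
      | zero => simp
      | succ m ih =>
        have h1 := hrec m
        rcases Nat.lt_or_ge m C with hm | hm
        · have h2 : V m ≤ C := (Nat.le_mul_of_pos_right _ (Nat.succ_pos m)).trans (hV' m)
          rw [Nat.min_eq_left hm.le] at ih
          rw [Nat.min_eq_left (Nat.succ_le_of_lt hm), Nat.mul_succ]
          omega
        · have h2 : V m = 0 := by
            by_contra hne
            have h3 : m + 1 ≤ V m * (m + 1) :=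
              Nat.le_mul_of_pos_left _ (Nat.pos_of_ne_zero hne)
            have h4 := hV' m
            omega
          rw [Nat.min_eq_right hm] at ih
          rw [Nat.min_eq_right (hm.trans (Nat.le_succ m))]
          omega
    refine ⟨u 0 + C * C, fun m => (key m).trans ?_⟩
    rw [pow_zero, mul_one]
    exact Nat.add_le_add_left (Nat.mul_le_mul_left _ (Nat.min_le_right m C)) _
  · obtain ⟨e, rfl⟩ : ∃ e, d = e + 1 := ⟨d - 1, by omega⟩
    have hV' : ∀ m, V m ≤ C * (m + 1) ^ e := fun m => by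
      have h1 := hV m
      rw [_root_.pow_succ, ← mul_assoc] at h1
      exact Nat.le_of_mul_le_mul_right h1 (Nat.succ_pos m)
    have key : ∀ m, u m ≤ u 0 + C * (m * (m + 1) ^ e) := by
      intro m
      induction m with
      | zero => simp
      | succ m ih =>
        have h1 : (m + 1) ^ e ≤ (m + 1 + 1) ^ e := Nat.pow_le_pow_left (Nat.le_succ _) e
        calc u (m + 1) ≤ u m + V m := hrec m
          _ ≤ (u 0 + C * (m * (m + 1) ^ e)) + C * (m + 1) ^ e := Nat.add_le_add ih (hV' m)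
          _ = u 0 + C * ((m + 1) * (m + 1) ^ e) := by ring
          _ ≤ u 0 + C * ((m + 1) * (m + 1 + 1) ^ e) :=
            Nat.add_le_add_left (Nat.mul_le_mul_left _ (Nat.mul_le_mul_left _ h1)) _
    refine ⟨u 0 + C, fun m => (key m).trans ?_⟩
    have h1 : 1 ≤ (m + 1) ^ (e + 1) := Nat.one_le_pow _ _ (Nat.succ_pos m)
    have h2 : m * (m + 1) ^ e ≤ (m + 1) ^ (e + 1) := by
      rw [_root_.pow_succ, mul_comm]
      exact Nat.mul_le_mul_left _ (Nat.le_succ m)
    calc u 0 + C * (m * (m + 1) ^ e) ≤ u 0 * (m + 1) ^ (e + 1) + C * (m + 1) ^ (e + 1) :=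
          Nat.add_le_add (Nat.le_mul_of_pos_right _ h1) (Nat.mul_le_mul_left _ h2)
      _ = (u 0 + C) * (m + 1) ^ (e + 1) := by ring

end Arith

section Dev

open Groth.Agent.Lib.R2H4SnapperRef Groth.Agent.Lib.R2H4SnapperCor

variable (k : Type u) [Field k]

/-- the statement of the induction -/
def Main (d : ℕ) : Prop :=
  ∀ (Z : Scheme.{u}) [Z.Over (Spec (CommRingCat.of k))]
    [IsProper (Z ↘ Spec (CommRingCat.of k))] [IsIntegral Z],
    topologicalKrullDim Z = ((d : ℕ) : WithBot ℕ∞) → ∀ (L H : Z.Modules),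
    PicF.IsInvertible L → CohB1.IsAmple H → Bd k d L (Coh.structureModule Z)

/-- dévissage: modules with support of dimension `< d` have growth of order `< d` -/
theorem Bs_of_small_support (d : ℕ) (ih : ∀ d' : ℕ, d' < d → Main k d')
    {Z : Scheme.{u}} [Z.Over (Spec (CommRingCat.of k))]
    [IsProper (Z ↘ Spec (CommRingCat.of k))] (L H : Z.Modules)
    (hL : PicF.IsInvertible L) (hH : CohB1.IsAmple H) (F : Z.Modules) (hF : Coh.IsCoh F)
    (hdim : topologicalKrullDim (CohB1.support F) < ((d : ℕ) : WithBot ℕ∞)) : Bs k d L F := by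
  classical
  have := Groth.Agent.Lib.R2H1.CurveEuler.isNoetherian_of_proper k Z
  have hcl : IsClosed (CohB1.support F) := Groth.Agent.S0020.result Z F hF.2
  refine Groth.Agent.Lib.R2H2.DevC.devissage (fun G => Bs k d L G)
    (fun M hM => Bs_zero k d L M hM) (CohB1.support F) hcl (fun s => s = 1) ?_ ?_ ?_ F hF
    subset_rfl
  · intro S hS c₁ c₂ c₃ _
    exact Bs_two_of_three k hL S hS c₁ c₂ c₃
  · intro G s _ hs hp
    subst hs
    exact Bs_of_iso k d L (powOneIso G).symm hp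
  · intro Z' hZ' hirr hZF y hy
    have hdimZ : topologicalKrullDim (closure ({y} : Set Z)) < ((d : ℕ) : WithBot ℕ∞) := by
      rw [hy]
      exact lt_of_le_of_lt (Groth.Agent.Lib.Helper8.Conn.dim_mono hZF) hdim
    haveI := isIntegral_zS y
    refine ⟨ClSub.quotMod (zI y), isCoh_quotMod k (zI y), ?_, hy ▸ support_quotMod_zI y, ?_⟩
    · -- the bound on the integral closed subscheme
      let i := (zI y).subschemeι
      letI : (zI y).subscheme.Over (Spec (CommRingCat.of k)) :=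
        ⟨i ≫ (Z ↘ Spec (CommRingCat.of k))⟩
      have hg : i ≫ (Z ↘ Spec (CommRingCat.of k)) =
          (zI y).subscheme ↘ Spec (CommRingCat.of k) := rfl
      haveI : IsProper ((zI y).subscheme ↘ Spec (CommRingCat.of k)) := by
        rw [← hg]
        infer_instance
      haveI : IsNoetherian (zI y).subscheme :=
        Groth.Agent.Lib.R2H1.CurveEuler.isNoetherian_of_proper k _
      have hO : Coh.IsCoh (Coh.structureModule (zI y).subscheme) :=
        Groth.Agent.Lib.R2H1.GenusLe.isCoh_structureModule _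
      have hampW : CohB1.IsAmple ((Scheme.Modules.pullback i).obj H) :=
        Groth.Agent.Lib.Helper23.PB.isAmple_pullback_of_isAffineHom i _ hH
      have hLW : PicF.IsInvertible ((Scheme.Modules.pullback i).obj L) :=
        Groth.Agent.Lib.Helper23.PB.isInvertible_pullback i L hL
      have hsub : ∀ w : (zI y).subscheme, i w ∈ closure ({y} : Set Z) := by
        intro w
        rw [← range_zι y]
        exact Set.mem_range_self w
      have hind : Topology.IsInducing (Set.codRestrict i (closure ({y} : Set Z)) hsub) :=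
        (Scheme.Hom.isClosedEmbedding i).isInducing.codRestrict hsub
      have hdW : topologicalKrullDim (zI y).subscheme < ((d : ℕ) : WithBot ℕ∞) :=
        lt_of_le_of_lt hind.topologicalKrullDim_le hdimZ
      obtain ⟨d', hd'lt, hd'⟩ := Groth.Agent.Lib.R2H4KleimanB.exists_nat_dim_eq d hdW
      have hB : Bs k d ((Scheme.Modules.pullback i).obj L)
          (Coh.structureModule (zI y).subscheme) :=
        Bs_of_le k _ (Nat.succ_le_of_lt hd'lt)
          (Bs_succ_of_Bd k d' _ (ih d' hd'lt _ hd' _ _ hLW hampW))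
      intro j
      obtain ⟨C, hC⟩ := hB j
      refine ⟨C, fun m => ?_⟩
      rw [hi_push_twist k i hg L hL _ hO m j]
      exact hC m
    · intro N _ _ _ hk
      have hgp := zι_genericPoint y
      obtain ⟨eN⟩ := Groth.Agent.Lib.R2H2.DevI.nonempty_stalk_pushO_equiv' (zI y).subschemeι
      rw [hgp] at eN
      obtain ⟨r', ⟨e⟩⟩ := Groth.Agent.Lib.R2H2.ResField.exists_equiv_pow_one N _ hk eN
      exact ⟨r', 1, rfl, ⟨LinearEquiv.funUnique (Fin 1) _ N ≪≫ₗ e⟩⟩

end Dev

section Induction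

variable (k : Type u) [Field k]

/-- **the induction**: `hⁱ(Z, L^m) = O(m^d)` on an integral projective scheme of dimension `d` -/
theorem main_all : ∀ d : ℕ, Main k d := by
  intro d
  induction d using Nat.strong_induction_on with
  | _ d ih =>
  intro Z _ _ _ hZ L H hL hH
  haveI := Groth.Agent.Lib.R2H1.CurveEuler.isNoetherian_of_proper k Z
  obtain ⟨B, hB, s, hs, t, ht⟩ : ∃ B : Z.Modules, PicF.IsInvertible B ∧
      ∃ s : Coh.structureModule Z ⟶ B, s ≠ 0 ∧
      ∃ t : Coh.structureModule Z ⟶ CohB1.tensorMod B L, t ≠ 0 := by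
    obtain ⟨a, -, ⟨s, hs⟩, ⟨t, ht⟩⟩ := Groth.Agent.Lib.R2H4VolBig.exists_pow_sections H hH L hL
    exact ⟨CohB1.tensorPow H a,
      Groth.Agent.Lib.Helper23.SecTw.isInvertible_tensorPow hH.1 a, s, hs, t, ht⟩
  have hBL : PicF.IsInvertible (CohB1.tensorMod B L) :=
    Groth.Agent.Lib.Helper23.SecTw.isInvertible_tensorMod hB hL
  have hO : PicF.IsInvertible (Coh.structureModule Z) :=
    Groth.Agent.Lib.Helper23.TensorUnit.isInvertible_structureModule Z
  have cO : Coh.IsCoh (Coh.structureModule Z) :=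
    Groth.Agent.Lib.R2H1.GenusLe.isCoh_structureModule Z
  have cB : Coh.IsCoh B := Groth.Agent.Lib.R2H4VolBasic.isCoh_of_isInvertible B hB
  have cBL : Coh.IsCoh (CohB1.tensorMod B L) :=
    Groth.Agent.Lib.R2H4VolBasic.isCoh_of_isInvertible _ hBL
  have cQs : Coh.IsCoh (cokernel s) := Groth.Agent.Lib.R2H2.NilFilt.isCoh_cokernel cO cB s
  have cQt : Coh.IsCoh (cokernel t) := Groth.Agent.Lib.R2H2.NilFilt.isCoh_cokernel cO cBL t
  haveI : Mono s := Groth.Agent.Lib.R2H1.InvHom.mono_of_ne_zero hO hB s hs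
  haveI : Mono t := Groth.Agent.Lib.R2H1.InvHom.mono_of_ne_zero hO hBL t ht
  let Ss : ShortComplex Z.Modules := ShortComplex.mk s (cokernel.π s) (cokernel.condition s)
  have hSs : Ss.ShortExact :=
    { exact := ShortComplex.exact_cokernel s
      mono_f := by dsimp [Ss]; infer_instance
      epi_g := by dsimp [Ss]; infer_instance }
  let St : ShortComplex Z.Modules := ShortComplex.mk t (cokernel.π t) (cokernel.condition t)
  have hSt : St.ShortExact :=
    { exact := ShortComplex.exact_cokernel t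
      mono_f := by dsimp [St]; infer_instance
      epi_g := by dsimp [St]; infer_instance }
  have hdimQs : topologicalKrullDim (CohB1.support (cokernel s)) < ((d : ℕ) : WithBot ℕ∞) := by
    rw [← hZ]
    exact Groth.Agent.Lib.R2H4VolBig.dim_support_cokernel_lt k B hB s hs
  have hdimQt : topologicalKrullDim (CohB1.support (cokernel t)) < ((d : ℕ) : WithBot ℕ∞) := by
    rw [← hZ]
    exact Groth.Agent.Lib.R2H4VolBig.dim_support_cokernel_lt k _ hBL t ht
  have hQs : Bs k d L (cokernel s) := Bs_of_small_support k d ih L H hL hH _ cQs hdimQs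
  have hQt : Bs k d L (cokernel t) := Bs_of_small_support k d ih L H hL hH _ cQt hdimQt
  intro i
  obtain ⟨C₁, hC₁⟩ := hQt i
  obtain ⟨C₂, hC₂⟩ := hQs (i - 1)
  have hE := fun m => Groth.Agent.Lib.Helper23.SecTw.isInvertible_tensorPow hL m
  -- the recursion
  have hrec : ∀ m : ℕ, hi k (CohB1.tensorMod (Coh.structureModule Z) (CohB1.tensorPow L (m + 1))) i ≤
      hi k (CohB1.tensorMod (Coh.structureModule Z) (CohB1.tensorPow L m)) i +
        (hi k (CohB1.tensorMod (cokernel t) (CohB1.tensorPow L m)) i +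
          (if i = 0 then 0 else
            hi k (CohB1.tensorMod (cokernel s) (CohB1.tensorPow L (m + 1))) (i - 1))) := by
    intro m
    have h1 := hiT_left_le k _ (hE (m + 1)) Ss hSs cO cB cQs i
    have h2 := hiT_mid_le k _ (hE m) St hSt cO cBL cQt i
    have e : CohB1.tensorMod (CohB1.tensorMod B L) (CohB1.tensorPow L m) ≅
        CohB1.tensorMod B (CohB1.tensorPow L (m + 1)) :=
      tAssoc B L (CohB1.tensorPow L m) ≪≫ tIso (Iso.refl B) (tComm L (CohB1.tensorPow L m))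
    have h3 := hi_congr k e i
    change hi k (CohB1.tensorMod (Coh.structureModule Z) (CohB1.tensorPow L (m + 1))) i ≤
      (if i = 0 then 0 else
        hi k (CohB1.tensorMod (cokernel s) (CohB1.tensorPow L (m + 1))) (i - 1)) +
        hi k (CohB1.tensorMod B (CohB1.tensorPow L (m + 1))) i at h1
    change hi k (CohB1.tensorMod (CohB1.tensorMod B L) (CohB1.tensorPow L m)) i ≤
      hi k (CohB1.tensorMod (Coh.structureModule Z) (CohB1.tensorPow L m)) i +
        hi k (CohB1.tensorMod (cokernel t) (CohB1.tensorPow L m)) i at h2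
    omega
  refine growth_of_rec d _ _ (C₁ + C₂ * 2 ^ d) hrec fun m => ?_
  rw [add_mul, add_mul]
  refine Nat.add_le_add (hC₁ m) ?_
  split_ifs with h0
  · simp
  · have h1 := hC₂ (m + 1)
    have h2 : (m + 1 + 1) ^ d ≤ 2 ^ d * (m + 1) ^ d := by
      rw [← mul_pow]
      exact Nat.pow_le_pow_left (by omega) d
    calc hi k (CohB1.tensorMod (cokernel s) (CohB1.tensorPow L (m + 1))) (i - 1) * (m + 1)
        ≤ hi k (CohB1.tensorMod (cokernel s) (CohB1.tensorPow L (m + 1))) (i - 1) * (m + 1 + 1) :=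
          Nat.mul_le_mul_left _ (Nat.le_succ _)
      _ ≤ C₂ * (m + 1 + 1) ^ d := h1
      _ ≤ C₂ * (2 ^ d * (m + 1) ^ d) := Nat.mul_le_mul_left _ h2
      _ = C₂ * 2 ^ d * (m + 1) ^ d := by ring

end Induction

section Final

variable (k : Type u) [Field k] {X : Scheme.{u}} [X.Over (Spec (CommRingCat.of k))]
  [IsProper (X ↘ (Spec (CommRingCat.of k)))]

/-- **Growth of `hⁱ`, small support**: `hⁱ(F ⊗ L^m) (m + 1) ≤ C (m + 1)^d` when
`dim Supp F < d`. -/
theorem main (H : X.Modules) (hH : CohB1.IsAmple H) (L : X.Modules) (hL : PicF.IsInvertible L)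
    (F : X.Modules) (hF : Coh.IsCoh F) (d : ℕ)
    (hdim : topologicalKrullDim (CohB1.support F) < ((d : ℕ) : WithBot ℕ∞)) : Bs k d L F :=
  Bs_of_small_support k d (fun d' _ => main_all k d') L H hL hH F hF hdim

/-- **Growth of `hⁱ`**: `hⁱ(F ⊗ L^m) ≤ C (m + 1)^d` when `dim Supp F ≤ d`. -/
theorem main_le (H : X.Modules) (hH : CohB1.IsAmple H) (L : X.Modules) (hL : PicF.IsInvertible L)
    (F : X.Modules) (hF : Coh.IsCoh F) (d : ℕ)
    (hdim : topologicalKrullDim (CohB1.support F) ≤ ((d : ℕ) : WithBot ℕ∞)) : Bd k d L F := by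
  refine Bd_of_Bs_succ k d L (main k H hH L hL F hF (d + 1) (lt_of_le_of_lt hdim ?_))
  exact_mod_cast Nat.lt_succ_self d

end Final

end Groth.Agent.Lib.R2H4HiGrowth
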