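import Mathlib
import Groth.Prelude
import Groth.Agent.Lib.R2H4HiGrowth
import Groth.Agent.Lib.R2H4HhatLim

/-!
# Asymptotic cohomological functions and short exact sequences (helper4, round 2)

On a scheme `X` proper over a field with an ample invertible module and `dim X ≤ n`: for a short
exact sequence `0 → A → B → C → 0` of coherent modules, `limsup_m hⁱ(B ⊗ L^m) n!/m^n` equals the
upper limit for `C` when `dim Supp A < n`, and the upper limit for `A` when `dim Supp C < n`.
-/

set_option autoImplicit false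
set_option linter.style.haveILetI false
set_option linter.unusedSectionVars false
universe u
open CategoryTheory CategoryTheory.Limits AlgebraicGeometry TopologicalSpace Filter

noncomputable section

namespace Groth.Agent.Lib.R2H4HhatSES

open Groth.Agent.Lib.R2H4HiGrowth Groth.Agent.Lib.R2H4HhatLim

variable (k : Type u) [Field k] {X : Scheme.{u}} [X.Over (Spec (CommRingCat.of k))]
  [IsProper (X ↘ (Spec (CommRingCat.of k)))]

/-- the defining sequence of `hhatF` is a normalised sequence -/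
theorem cohSeq_eq (n i : ℕ) (F L : X.Modules) :
    W4c5asymptcohfn.cohSeq k X n i F L =
      nseq n (fun m => hi k (CohB1.tensorMod F (CohB1.tensorPow L m)) i) := rfl

theorem hhatF_eq (n i : ℕ) (F L : X.Modules) :
    W4c5asymptcohfn.hhatF k X n i F L =
      limsup (nseq n (fun m => hi k (CohB1.tensorMod F (CohB1.tensorPow L m)) i)) atTop := rfl

theorem dim_support_le (n : ℕ) (hn : topologicalKrullDim X ≤ ((n : ℕ) : WithBot ℕ∞))
    (F : X.Modules) : topologicalKrullDim (CohB1.support F) ≤ ((n : ℕ) : WithBot ℕ∞) :=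
  (Topology.IsInducing.subtypeVal.topologicalKrullDim_le).trans hn

variable (H : X.Modules) (hH : CohB1.IsAmple H) (n : ℕ)
  (hn : topologicalKrullDim X ≤ ((n : ℕ) : WithBot ℕ∞))
  (S : ShortComplex X.Modules) (hS : S.ShortExact)
  (c₁ : Coh.IsCoh S.X₁) (c₂ : Coh.IsCoh S.X₂) (c₃ : Coh.IsCoh S.X₃)
  (L : X.Modules) (hL : PicF.IsInvertible L)

include hH hn hS c₁ c₂ c₃ hL

/-- if `dim Supp A < n` then `B` and `C` have the same asymptotic cohomological functions -/
theorem hhatF_mid_eq_right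
    (hdim : topologicalKrullDim (CohB1.support S.X₁) < ((n : ℕ) : WithBot ℕ∞)) (i : ℕ) :
    W4c5asymptcohfn.hhatF k X n i S.X₂ L = W4c5asymptcohfn.hhatF k X n i S.X₃ L := by
  rw [hhatF_eq, hhatF_eq]
  have hA := main k H hH L hL S.X₁ c₁ n hdim
  obtain ⟨C', hC'⟩ := main_le k H hH L hL S.X₃ c₃ n (dim_support_le n hn _) i
  obtain ⟨C₁, hC₁⟩ := hA i
  obtain ⟨C₂, hC₂⟩ := hA (i + 1)
  have hE := fun m => Groth.Agent.Lib.Helper23.SecTw.isInvertible_tensorPow hL m
  refine limsup_nseq_eq n _ _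
    (fun m => hi k (CohB1.tensorMod S.X₁ (CohB1.tensorPow L m)) i +
      hi k (CohB1.tensorMod S.X₁ (CohB1.tensorPow L m)) (i + 1)) (C₁ + C₂) C' hC'
    (fun m => ?_) (fun m => ?_) (fun m => ?_)
  · rw [add_mul, add_mul]
    exact Nat.add_le_add (hC₁ m) (hC₂ m)
  · have := hiT_mid_le k _ (hE m) S hS c₁ c₂ c₃ i
    omega
  · have := hiT_right_le k _ (hE m) S hS c₁ c₂ c₃ i
    omega

/-- if `dim Supp C < n` then `A` and `B` have the same asymptotic cohomological functions -/
theorem hhatF_left_eq_mid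
    (hdim : topologicalKrullDim (CohB1.support S.X₃) < ((n : ℕ) : WithBot ℕ∞)) (i : ℕ) :
    W4c5asymptcohfn.hhatF k X n i S.X₁ L = W4c5asymptcohfn.hhatF k X n i S.X₂ L := by
  rw [hhatF_eq, hhatF_eq]
  have hA := main k H hH L hL S.X₃ c₃ n hdim
  obtain ⟨C', hC'⟩ := main_le k H hH L hL S.X₂ c₂ n (dim_support_le n hn _) i
  obtain ⟨C₁, hC₁⟩ := hA i
  obtain ⟨C₂, hC₂⟩ := hA (i - 1)
  have hE := fun m => Groth.Agent.Lib.Helper23.SecTw.isInvertible_tensorPow hL m
  refine limsup_nseq_eq n _ _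
    (fun m => hi k (CohB1.tensorMod S.X₃ (CohB1.tensorPow L m)) i +
      (if i = 0 then 0 else hi k (CohB1.tensorMod S.X₃ (CohB1.tensorPow L m)) (i - 1)))
    (C₁ + C₂) C' hC' (fun m => ?_) (fun m => ?_) (fun m => ?_)
  · rw [add_mul, add_mul]
    refine Nat.add_le_add (hC₁ m) ?_
    split_ifs
    · simp
    · exact hC₂ m
  · have := hiT_left_le k _ (hE m) S hS c₁ c₂ c₃ i
    omega
  · have := hiT_mid_le k _ (hE m) S hS c₁ c₂ c₃ i
    omega

end Groth.Agent.Lib.R2H4HhatSES
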