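import Mathlib
import Groth.Prelude
import Groth.Agent.Lib.R2H4HiGrowth

/-!
# Growth of `hⁱ(F ⊗ T_α)` for finitely generated families of twists (helper4, round 2)

A family of twists (`TwFam`) is a family `T : I → X.Modules` with a size function `I → ℕ` and
finitely many invertible generators `G_j` such that `T α ≅ O` for `α` of size `0` and every `α` of
positive size has `T α ≅ T β ⊗ G_j` for some `β` of size one less.  Examples: `m ↦ L^m`;
`(m, m') ↦ ⊗ L_j^{m_j} ⊗ ⊗ M_j^{m'_j}`; families indexed by `ℤ^r`.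

For `X` proper over a field with an ample invertible module and `F` coherent with
`dim Supp F < d`: `hⁱ(F ⊗ T_α) (|α| + 1) ≤ C (|α| + 1)^d` (`mainF`), and
`hⁱ(F ⊗ T_α) ≤ C (|α| + 1)^d` when `dim Supp F ≤ d` (`mainF_le`).
-/

set_option autoImplicit false
set_option linter.style.haveILetI false
set_option linter.unusedSectionVars false
universe u v w
open CategoryTheory CategoryTheory.Limits AlgebraicGeometry TopologicalSpace

noncomputable section

namespace Groth.Agent.Lib.R2H4HiGrowthFam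

open Groth.Agent.Lib.R2H2.HHLin Groth.Agent.Lib.R2H2.PnSerre Groth.Agent.Lib.R2H2.StalkPow
  Groth.Agent.Lib.R2H4TensorPows Groth.Agent.Lib.R2H4HiGrowth

/-- a family of twists generated by the invertible modules `G j` -/
structure TwFam (X : Scheme.{u}) (I : Type v) (J : Type w) where
  size : I → ℕ
  T : I → X.Modules
  G : J → X.Modules
  hG : ∀ j, PicF.IsInvertible (G j)
  zero : ∀ α, size α = 0 → Nonempty (T α ≅ Coh.structureModule X)
  step : ∀ α, size α ≠ 0 → ∃ β j, size β + 1 = size α ∧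
    Nonempty (T α ≅ CohB1.tensorMod (T β) (G j))

section Fam

variable {X : Scheme.{u}} {I : Type v} {J : Type w}

theorem TwFam.hT (𝒯 : TwFam X I J) (α : I) : PicF.IsInvertible (𝒯.T α) := by
  have key : ∀ n : ℕ, ∀ α : I, 𝒯.size α = n → PicF.IsInvertible (𝒯.T α) := by
    intro n
    induction n with
    | zero =>
      intro α hα
      obtain ⟨e⟩ := 𝒯.zero α hα
      exact Groth.Agent.Lib.Helper23.AmpleIso.isInvertible_of_iso e.symm
        (Groth.Agent.Lib.Helper23.TensorUnit.isInvertible_structureModule X)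
    | succ n ih =>
      intro α hα
      obtain ⟨β, j, hβ, ⟨e⟩⟩ := 𝒯.step α (by omega)
      exact Groth.Agent.Lib.Helper23.AmpleIso.isInvertible_of_iso e.symm
        (Groth.Agent.Lib.Helper23.SecTw.isInvertible_tensorMod (ih β (by omega)) (𝒯.hG j))
  exact key _ α rfl

/-- the pullback of a family of twists -/
def TwFam.pullback {Y : Scheme.{u}} (f : Y ⟶ X) (𝒯 : TwFam X I J) : TwFam Y I J where
  size := 𝒯.size
  T α := (Scheme.Modules.pullback f).obj (𝒯.T α)
  G j := (Scheme.Modules.pullback f).obj (𝒯.G j)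
  hG j := Groth.Agent.Lib.Helper23.PB.isInvertible_pullback f _ (𝒯.hG j)
  zero α hα := by
    obtain ⟨e⟩ := 𝒯.zero α hα
    exact ⟨(Scheme.Modules.pullback f).mapIso e ≪≫ Groth.Agent.Lib.Helper23.PB.pullbackUnitIso f⟩
  step α hα := by
    obtain ⟨β, j, hβ, ⟨e⟩⟩ := 𝒯.step α hα
    exact ⟨β, j, hβ, ⟨(Scheme.Modules.pullback f).mapIso e ≪≫
      Groth.Agent.Lib.Helper23.RestrTensor.pullbackTensorIso _ _ f⟩⟩

end Fam

section Push

open Groth.Agent.Lib.Helper1.PT

variable (k : Type u) [Field k] {W X : Scheme.{u}} [X.Over (Spec (CommRingCat.of k))]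
  [IsProper (X ↘ (Spec (CommRingCat.of k)))] [W.Over (Spec (CommRingCat.of k))]

/-- the projection formula for a twist by an invertible module -/
theorem nonempty_push_tensor_iso (g : W ⟶ X) (E : X.Modules) (hE : PicF.IsInvertible E)
    (N : W.Modules) :
    Nonempty (CohB1.tensorMod ((Scheme.Modules.pushforward g).obj N) E ≅
      (Scheme.Modules.pushforward g).obj
        (CohB1.tensorMod N ((Scheme.Modules.pullback g).obj E))) := by
  let e1 : CohB1.tensorMod ((Scheme.Modules.pushforward g).obj N) E ≅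
      (DCoh.tensorBi.obj E).obj ((Scheme.Modules.pushforward g).obj N) :=
    ((twIso E).app ((Scheme.Modules.pushforward g).obj N)).symm
  let e2 := (Groth.Agent.Lib.R2H1.ProjLF.prjIso g E
    (Groth.Agent.Lib.R2H3.AmpleFinite.isFinLocFree_of_isInvertible _ hE)).app N
  let e3 : (DCoh.tensorBi.obj ((Scheme.Modules.pullback g).obj E)).obj N ≅
      CohB1.tensorMod N ((Scheme.Modules.pullback g).obj E) :=
    (twIso ((Scheme.Modules.pullback g).obj E)).app N
  exact ⟨e1 ≪≫ e2 ≪≫ (Scheme.Modules.pushforward g).mapIso e3⟩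

/-- `hⁱ(X, g_* N ⊗ E) = hⁱ(W, N ⊗ g^*E)` for an affine `k`-morphism `g : W ⟶ X` -/
theorem hi_push_tensor (g : W ⟶ X) [IsAffineHom g]
    (hg : g ≫ (X ↘ Spec (CommRingCat.of k)) = W ↘ Spec (CommRingCat.of k))
    (E : X.Modules) (hE : PicF.IsInvertible E) (N : W.Modules) (hN : Coh.IsCoh N) (i : ℕ) :
    hi k (CohB1.tensorMod ((Scheme.Modules.pushforward g).obj N) E) i =
      hi k (CohB1.tensorMod N ((Scheme.Modules.pullback g).obj E)) i := by
  haveI : CompactSpace X :=
    QuasiCompact.compactSpace_of_compactSpace (X ↘ Spec (CommRingCat.of k))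
  obtain ⟨ι, hfin, V, hcov, hVa, hV⟩ :=
    Groth.Agent.Lib.R2H2.ProperFin.exists_affine_cover_of_isSeparated
      (X ↘ Spec (CommRingCat.of k))
  obtain ⟨Φ⟩ := nonempty_push_tensor_iso g E hE N
  have hq : Coh.IsQCoh (CohB1.tensorMod N ((Scheme.Modules.pullback g).obj E)) :=
    (Groth.Agent.Lib.R2H3.AmpleSV.isCoh_tensorMod_invertible N _ hN
      (Groth.Agent.Lib.Helper23.PB.isInvertible_pullback g E hE)).1
  obtain ⟨e⟩ := Groth.Agent.Lib.R2H2.AffPushLin.exists_push_linear g V k hg hcov hV _ hq i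
  rw [hi_congr k Φ]
  exact e.finrank_eq.symm

end Push

section Bounds

variable (k : Type u) [Field k] {X : Scheme.{u}} [X.Over (Spec (CommRingCat.of k))]
  [IsProper (X ↘ (Spec (CommRingCat.of k)))] {I : Type v} {J : Type w} (d : ℕ)
  (𝒯 : TwFam X I J)

/-- growth of order `< d` along the family -/
def BsF (F : X.Modules) : Prop :=
  ∀ i : ℕ, ∃ C : ℕ, ∀ α : I,
    hi k (CohB1.tensorMod F (𝒯.T α)) i * (𝒯.size α + 1) ≤ C * (𝒯.size α + 1) ^ d

/-- growth of order `≤ d` along the family -/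
def BdF (F : X.Modules) : Prop :=
  ∀ i : ℕ, ∃ C : ℕ, ∀ α : I,
    hi k (CohB1.tensorMod F (𝒯.T α)) i ≤ C * (𝒯.size α + 1) ^ d

theorem BsF_zero (M : X.Modules) (hM : IsZero M) : BsF k d 𝒯 M := by
  intro i
  refine ⟨0, fun α => ?_⟩
  have hz : IsZero (CohB1.tensorMod M (𝒯.T α)) := (twR (𝒯.T α)).map_isZero hM
  rw [hi_of_isZero k _ hz i]
  simp

theorem BsF_of_iso {F G : X.Modules} (e : F ≅ G) (h : BsF k d 𝒯 G) : BsF k d 𝒯 F := by
  intro i
  obtain ⟨C, hC⟩ := h i
  refine ⟨C, fun α => ?_⟩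
  have e' : CohB1.tensorMod F (𝒯.T α) ≅ CohB1.tensorMod G (𝒯.T α) := (twR (𝒯.T α)).mapIso e
  rw [hi_congr k e' i]
  exact hC α

theorem BsF_of_le {d d' : ℕ} (hdd : d ≤ d') {F : X.Modules} (h : BsF k d 𝒯 F) :
    BsF k d' 𝒯 F := by
  intro i
  obtain ⟨C, hC⟩ := h i
  refine ⟨C, fun α => (hC α).trans ?_⟩
  exact Nat.mul_le_mul_left _ (Nat.pow_le_pow_right (Nat.succ_pos _) hdd)

theorem BsF_succ_of_BdF {F : X.Modules} (h : BdF k d 𝒯 F) : BsF k (d + 1) 𝒯 F := by
  intro i
  obtain ⟨C, hC⟩ := h i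
  refine ⟨C, fun α => ?_⟩
  rw [_root_.pow_succ, ← mul_assoc]
  exact Nat.mul_le_mul_right _ (hC α)

theorem BdF_of_BsF_succ {F : X.Modules} (h : BsF k (d + 1) 𝒯 F) : BdF k d 𝒯 F := by
  intro i
  obtain ⟨C, hC⟩ := h i
  refine ⟨C, fun α => ?_⟩
  have h1 := hC α
  rw [_root_.pow_succ, ← mul_assoc] at h1
  exact Nat.le_of_mul_le_mul_right h1 (Nat.succ_pos _)

variable {d 𝒯}

theorem BsF_two_of_three (S : ShortComplex X.Modules)
    (hS : S.ShortExact) (c₁ : Coh.IsCoh S.X₁) (c₂ : Coh.IsCoh S.X₂) (c₃ : Coh.IsCoh S.X₃) :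
    (BsF k d 𝒯 S.X₁ → BsF k d 𝒯 S.X₂ → BsF k d 𝒯 S.X₃) ∧
      (BsF k d 𝒯 S.X₁ → BsF k d 𝒯 S.X₃ → BsF k d 𝒯 S.X₂) ∧
      (BsF k d 𝒯 S.X₂ → BsF k d 𝒯 S.X₃ → BsF k d 𝒯 S.X₁) := by
  have hE := fun α => 𝒯.hT α
  refine ⟨fun p₁ p₂ i => ?_, fun p₁ p₃ i => ?_, fun p₂ p₃ i => ?_⟩
  · obtain ⟨C₁, hC₁⟩ := p₁ (i + 1)
    obtain ⟨C₂, hC₂⟩ := p₂ i
    refine ⟨C₂ + C₁, fun α => ?_⟩
    have h := hiT_right_le k _ (hE α) S hS c₁ c₂ c₃ i
    calc hi k (CohB1.tensorMod S.X₃ (𝒯.T α)) i * (𝒯.size α + 1)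
        ≤ (hi k (CohB1.tensorMod S.X₂ (𝒯.T α)) i +
          hi k (CohB1.tensorMod S.X₁ (𝒯.T α)) (i + 1)) * (𝒯.size α + 1) :=
          Nat.mul_le_mul_right _ h
      _ ≤ (C₂ + C₁) * (𝒯.size α + 1) ^ d := by
          rw [add_mul, add_mul]
          exact Nat.add_le_add (hC₂ α) (hC₁ α)
  · obtain ⟨C₁, hC₁⟩ := p₁ i
    obtain ⟨C₃, hC₃⟩ := p₃ i
    refine ⟨C₁ + C₃, fun α => ?_⟩
    have h := hiT_mid_le k _ (hE α) S hS c₁ c₂ c₃ i
    calc hi k (CohB1.tensorMod S.X₂ (𝒯.T α)) i * (𝒯.size α + 1)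
        ≤ (hi k (CohB1.tensorMod S.X₁ (𝒯.T α)) i +
          hi k (CohB1.tensorMod S.X₃ (𝒯.T α)) i) * (𝒯.size α + 1) :=
          Nat.mul_le_mul_right _ h
      _ ≤ (C₁ + C₃) * (𝒯.size α + 1) ^ d := by
          rw [add_mul, add_mul]
          exact Nat.add_le_add (hC₁ α) (hC₃ α)
  · obtain ⟨C₂, hC₂⟩ := p₂ i
    obtain ⟨C₃, hC₃⟩ := p₃ (i - 1)
    refine ⟨C₃ + C₂, fun α => ?_⟩
    have h := hiT_left_le k _ (hE α) S hS c₁ c₂ c₃ i
    calc hi k (CohB1.tensorMod S.X₁ (𝒯.T α)) i * (𝒯.size α + 1)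
        ≤ ((if i = 0 then 0 else hi k (CohB1.tensorMod S.X₃ (𝒯.T α)) (i - 1)) +
          hi k (CohB1.tensorMod S.X₂ (𝒯.T α)) i) * (𝒯.size α + 1) :=
          Nat.mul_le_mul_right _ h
      _ ≤ (C₃ + C₂) * (𝒯.size α + 1) ^ d := by
          rw [add_mul, add_mul]
          refine Nat.add_le_add ?_ (hC₂ α)
          split_ifs
          · simp
          · exact hC₃ α

end Bounds

section Arith

/-- a majorant for recursions whose increments have growth of order `< d` -/
theorem exists_growth_fun (d C u0 : ℕ) : ∃ g : ℕ → ℕ, u0 ≤ g 0 ∧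
    (∀ N v : ℕ, v * (N + 1) ≤ C * (N + 1) ^ d → g N + v ≤ g (N + 1)) ∧
    ∃ C' : ℕ, ∀ N, g N ≤ C' * (N + 1) ^ d := by
  rcases Nat.eq_zero_or_pos d with hd | hd
  · subst hd
    refine ⟨fun N => u0 + C * min N C, by simp, fun N v hv => ?_, u0 + C * C, fun N => ?_⟩
    · have hv' : v * (N + 1) ≤ C := by simpa using hv
      rcases Nat.lt_or_ge N C with hN | hN
      · have h2 : v ≤ C := (Nat.le_mul_of_pos_right _ (Nat.succ_pos N)).trans hv'
        change u0 + C * min N C + v ≤ u0 + C * min (N + 1) C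
        rw [Nat.min_eq_left hN.le, Nat.min_eq_left (Nat.succ_le_of_lt hN), Nat.mul_succ]
        omega
      · have h2 : v = 0 := by
          by_contra hne
          have h3 : N + 1 ≤ v * (N + 1) := Nat.le_mul_of_pos_left _ (Nat.pos_of_ne_zero hne)
          omega
        change u0 + C * min N C + v ≤ u0 + C * min (N + 1) C
        rw [Nat.min_eq_right hN, Nat.min_eq_right (hN.trans (Nat.le_succ N)), h2]
        omega
    · change u0 + C * min N C ≤ (u0 + C * C) * (N + 1) ^ 0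
      rw [pow_zero, mul_one]
      exact Nat.add_le_add_left (Nat.mul_le_mul_left _ (Nat.min_le_right N C)) _
  · obtain ⟨e, rfl⟩ : ∃ e, d = e + 1 := ⟨d - 1, by omega⟩
    refine ⟨fun N => u0 + C * (N * (N + 1) ^ e), by simp, fun N v hv => ?_, u0 + C, fun N => ?_⟩
    · have hv' : v ≤ C * (N + 1) ^ e := by
        rw [_root_.pow_succ, ← mul_assoc] at hv
        exact Nat.le_of_mul_le_mul_right hv (Nat.succ_pos N)
      have h1 : (N + 1) ^ e ≤ (N + 1 + 1) ^ e := Nat.pow_le_pow_left (Nat.le_succ _) e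
      change u0 + C * (N * (N + 1) ^ e) + v ≤ u0 + C * ((N + 1) * (N + 1 + 1) ^ e)
      calc u0 + C * (N * (N + 1) ^ e) + v
          ≤ u0 + C * (N * (N + 1) ^ e) + C * (N + 1) ^ e := Nat.add_le_add_left hv' _
        _ = u0 + C * ((N + 1) * (N + 1) ^ e) := by ring
        _ ≤ u0 + C * ((N + 1) * (N + 1 + 1) ^ e) :=
          Nat.add_le_add_left (Nat.mul_le_mul_left _ (Nat.mul_le_mul_left _ h1)) _
    · have h1 : 1 ≤ (N + 1) ^ (e + 1) := Nat.one_le_pow _ _ (Nat.succ_pos N)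
      have h2 : N * (N + 1) ^ e ≤ (N + 1) ^ (e + 1) := by
        rw [_root_.pow_succ, mul_comm]
        exact Nat.mul_le_mul_left _ (Nat.le_succ N)
      change u0 + C * (N * (N + 1) ^ e) ≤ (u0 + C) * (N + 1) ^ (e + 1)
      calc u0 + C * (N * (N + 1) ^ e) ≤ u0 * (N + 1) ^ (e + 1) + C * (N + 1) ^ (e + 1) :=
            Nat.add_le_add (Nat.le_mul_of_pos_right _ h1) (Nat.mul_le_mul_left _ h2)
        _ = (u0 + C) * (N + 1) ^ (e + 1) := by ring

end Arith

section Dev

open Groth.Agent.Lib.R2H4SnapperRef Groth.Agent.Lib.R2H4SnapperCor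

variable (k : Type u) [Field k] (I : Type v) (J : Type w)

/-- the statement of the induction -/
def MainF (d : ℕ) : Prop :=
  ∀ (Z : Scheme.{u}) [Z.Over (Spec (CommRingCat.of k))]
    [IsProper (Z ↘ Spec (CommRingCat.of k))] [IsIntegral Z],
    topologicalKrullDim Z = ((d : ℕ) : WithBot ℕ∞) → ∀ (𝒯 : TwFam Z I J) (H : Z.Modules),
    CohB1.IsAmple H → BdF k d 𝒯 (Coh.structureModule Z)

variable {I J}

/-- dévissage: modules with support of dimension `< d` have growth of order `< d` -/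
theorem BsF_of_small_support (d : ℕ) (ih : ∀ d' : ℕ, d' < d → MainF k I J d')
    {Z : Scheme.{u}} [Z.Over (Spec (CommRingCat.of k))]
    [IsProper (Z ↘ Spec (CommRingCat.of k))] (𝒯 : TwFam Z I J) (H : Z.Modules)
    (hH : CohB1.IsAmple H) (F : Z.Modules) (hF : Coh.IsCoh F)
    (hdim : topologicalKrullDim (CohB1.support F) < ((d : ℕ) : WithBot ℕ∞)) : BsF k d 𝒯 F := by
  classical
  have := Groth.Agent.Lib.R2H1.CurveEuler.isNoetherian_of_proper k Z
  have hcl : IsClosed (CohB1.support F) := Groth.Agent.S0020.result Z F hF.2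
  refine Groth.Agent.Lib.R2H2.DevC.devissage (fun G => BsF k d 𝒯 G)
    (fun M hM => BsF_zero k d 𝒯 M hM) (CohB1.support F) hcl (fun s => s = 1) ?_ ?_ ?_ F hF
    subset_rfl
  · intro S hS c₁ c₂ c₃ _
    exact BsF_two_of_three k S hS c₁ c₂ c₃
  · intro G s _ hs hp
    subst hs
    exact BsF_of_iso k d 𝒯 (powOneIso G).symm hp
  · intro Z' hZ' hirr hZF y hy
    have hdimZ : topologicalKrullDim (closure ({y} : Set Z)) < ((d : ℕ) : WithBot ℕ∞) := by
      rw [hy]
      exact lt_of_le_of_lt (Groth.Agent.Lib.Helper8.Conn.dim_mono hZF) hdim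
    haveI := isIntegral_zS y
    refine ⟨ClSub.quotMod (zI y), isCoh_quotMod k (zI y), ?_, hy ▸ support_quotMod_zI y, ?_⟩
    · -- the bound on the integral closed subscheme
      let i := (zI y).subschemeι
      letI : (zI y).subscheme.Over (Spec (CommRingCat.of k)) :=
        ⟨i ≫ (Z ↘ Spec (CommRingCat.of k))⟩
      have hg : i ≫ (Z ↘ Spec (CommRingCat.of k)) =
          (zI y).subscheme ↘ Spec (CommRingCat.of k) := rfl
      haveI : IsProper ((zI y).subscheme ↘ Spec (CommRingCat.of k)) := by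
        rw [← hg]
        infer_instance
      haveI : IsNoetherian (zI y).subscheme :=
        Groth.Agent.Lib.R2H1.CurveEuler.isNoetherian_of_proper k _
      have hO : Coh.IsCoh (Coh.structureModule (zI y).subscheme) :=
        Groth.Agent.Lib.R2H1.GenusLe.isCoh_structureModule _
      have hampW : CohB1.IsAmple ((Scheme.Modules.pullback i).obj H) :=
        Groth.Agent.Lib.Helper23.PB.isAmple_pullback_of_isAffineHom i _ hH
      have hsub : ∀ w : (zI y).subscheme, i w ∈ closure ({y} : Set Z) := by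
        intro w
        rw [← range_zι y]
        exact Set.mem_range_self w
      have hind : Topology.IsInducing (Set.codRestrict i (closure ({y} : Set Z)) hsub) :=
        (Scheme.Hom.isClosedEmbedding i).isInducing.codRestrict hsub
      have hdW : topologicalKrullDim (zI y).subscheme < ((d : ℕ) : WithBot ℕ∞) :=
        lt_of_le_of_lt hind.topologicalKrullDim_le hdimZ
      obtain ⟨d', hd'lt, hd'⟩ := Groth.Agent.Lib.R2H4KleimanB.exists_nat_dim_eq d hdW
      have hB : BsF k d (𝒯.pullback i) (Coh.structureModule (zI y).subscheme) :=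
        BsF_of_le k _ (Nat.succ_le_of_lt hd'lt)
          (BsF_succ_of_BdF k d' _ (ih d' hd'lt _ hd' (𝒯.pullback i) _ hampW))
      intro j
      obtain ⟨C, hC⟩ := hB j
      refine ⟨C, fun α => ?_⟩
      rw [hi_push_tensor k i hg (𝒯.T α) (𝒯.hT α) _ hO j]
      exact hC α
    · intro N _ _ _ hk
      have hgp := zι_genericPoint y
      obtain ⟨eN⟩ := Groth.Agent.Lib.R2H2.DevI.nonempty_stalk_pushO_equiv' (zI y).subschemeι
      rw [hgp] at eN
      obtain ⟨r', ⟨e⟩⟩ := Groth.Agent.Lib.R2H2.ResField.exists_equiv_pow_one N _ hk eN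
      exact ⟨r', 1, rfl, ⟨LinearEquiv.funUnique (Fin 1) _ N ≪≫ₗ e⟩⟩

end Dev

section Induction

variable (k : Type u) [Field k] {I : Type v} {J : Type w} [Finite J]

/-- a power of an ample module such that it and its twists by finitely many invertible modules
have nonzero sections -/
theorem exists_sections_family {Z : Scheme.{u}} [IsIntegral Z] (H : Z.Modules)
    (hH : CohB1.IsAmple H) (G : J → Z.Modules) (hG : ∀ j, PicF.IsInvertible (G j)) :
    ∃ B : Z.Modules, PicF.IsInvertible B ∧ (∃ s : Coh.structureModule Z ⟶ B, s ≠ 0) ∧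
      ∀ j, ∃ t : Coh.structureModule Z ⟶ CohB1.tensorMod (G j) B, t ≠ 0 := by
  classical
  cases nonempty_fintype J
  obtain ⟨n₁, h₁⟩ := Groth.Agent.Lib.R2H4VolBig.exists_sections_twist H hH
    (Coh.structureModule Z) (Groth.Agent.Lib.Helper23.TensorUnit.isInvertible_structureModule Z)
  choose n₀ hn₀ using fun j => Groth.Agent.Lib.R2H4VolBig.exists_sections_twist H hH (G j) (hG j)
  refine ⟨CohB1.tensorPow H (n₁ + ∑ j, n₀ j),
    Groth.Agent.Lib.Helper23.SecTw.isInvertible_tensorPow hH.1 _, ?_, fun j => ?_⟩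
  · obtain ⟨s, hs⟩ := h₁ (n₁ + ∑ j, n₀ j) (Nat.le_add_right _ _)
    refine ⟨s ≫ (lUnit _).hom, fun h => hs ?_⟩
    rw [← cancel_mono (lUnit (CohB1.tensorPow H (n₁ + ∑ j, n₀ j))).hom, h, zero_comp]
  · exact hn₀ j _ ((Finset.single_le_sum (f := n₀) (fun _ _ => Nat.zero_le _)
      (Finset.mem_univ j)).trans (Nat.le_add_left _ _))

/-- **the induction**: `hⁱ(Z, T_α) = O(|α|^d)` on an integral projective scheme of
dimension `d` -/
theorem mainF_all : ∀ d : ℕ, MainF k I J d := by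
  classical
  intro d
  induction d using Nat.strong_induction_on with
  | _ d ih =>
  intro Z _ _ _ hZ 𝒯 H hH
  cases nonempty_fintype J
  haveI := Groth.Agent.Lib.R2H1.CurveEuler.isNoetherian_of_proper k Z
  obtain ⟨B, hB, ⟨s, hs⟩, ht'⟩ := exists_sections_family H hH 𝒯.G 𝒯.hG
  choose t ht using ht'
  have hBG : ∀ j, PicF.IsInvertible (CohB1.tensorMod (𝒯.G j) B) := fun j =>
    Groth.Agent.Lib.Helper23.SecTw.isInvertible_tensorMod (𝒯.hG j) hB
  have hO : PicF.IsInvertible (Coh.structureModule Z) :=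
    Groth.Agent.Lib.Helper23.TensorUnit.isInvertible_structureModule Z
  have cO : Coh.IsCoh (Coh.structureModule Z) :=
    Groth.Agent.Lib.R2H1.GenusLe.isCoh_structureModule Z
  have cB : Coh.IsCoh B := Groth.Agent.Lib.R2H4VolBasic.isCoh_of_isInvertible B hB
  have cBG : ∀ j, Coh.IsCoh (CohB1.tensorMod (𝒯.G j) B) := fun j =>
    Groth.Agent.Lib.R2H4VolBasic.isCoh_of_isInvertible _ (hBG j)
  have cQs : Coh.IsCoh (cokernel s) := Groth.Agent.Lib.R2H2.NilFilt.isCoh_cokernel cO cB s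
  have cQt : ∀ j, Coh.IsCoh (cokernel (t j)) := fun j =>
    Groth.Agent.Lib.R2H2.NilFilt.isCoh_cokernel cO (cBG j) (t j)
  haveI : Mono s := Groth.Agent.Lib.R2H1.InvHom.mono_of_ne_zero hO hB s hs
  haveI : ∀ j, Mono (t j) := fun j =>
    Groth.Agent.Lib.R2H1.InvHom.mono_of_ne_zero hO (hBG j) (t j) (ht j)
  let Ss : ShortComplex Z.Modules := ShortComplex.mk s (cokernel.π s) (cokernel.condition s)
  have hSs : Ss.ShortExact :=
    { exact := ShortComplex.exact_cokernel s
      mono_f := by dsimp [Ss]; infer_instance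
      epi_g := by dsimp [Ss]; infer_instance }
  let St : J → ShortComplex Z.Modules := fun j =>
    ShortComplex.mk (t j) (cokernel.π (t j)) (cokernel.condition (t j))
  have hSt : ∀ j, (St j).ShortExact := fun j =>
    { exact := ShortComplex.exact_cokernel (t j)
      mono_f := by dsimp [St]; infer_instance
      epi_g := by dsimp [St]; infer_instance }
  have hdimQs : topologicalKrullDim (CohB1.support (cokernel s)) < ((d : ℕ) : WithBot ℕ∞) := by
    rw [← hZ]
    exact Groth.Agent.Lib.R2H4VolBig.dim_support_cokernel_lt k B hB s hs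
  have hdimQt : ∀ j, topologicalKrullDim (CohB1.support (cokernel (t j))) <
      ((d : ℕ) : WithBot ℕ∞) := fun j => by
    rw [← hZ]
    exact Groth.Agent.Lib.R2H4VolBig.dim_support_cokernel_lt k _ (hBG j) (t j) (ht j)
  have hQs : BsF k d 𝒯 (cokernel s) := BsF_of_small_support k d ih 𝒯 H hH _ cQs hdimQs
  have hQt : ∀ j, BsF k d 𝒯 (cokernel (t j)) := fun j =>
    BsF_of_small_support k d ih 𝒯 H hH _ (cQt j) (hdimQt j)
  intro i
  obtain ⟨Cs, hCs⟩ := hQs (i - 1)
  choose Ct hCt using fun j => hQt j i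
  obtain ⟨g, hg0, hgstep, C', hgC⟩ := exists_growth_fun d ((∑ j, Ct j) + Cs * 2 ^ d)
    (hi k (CohB1.tensorMod (Coh.structureModule Z) (Coh.structureModule Z)) i)
  have key : ∀ N : ℕ, ∀ α : I, 𝒯.size α = N →
      hi k (CohB1.tensorMod (Coh.structureModule Z) (𝒯.T α)) i ≤ g N := by
    intro N
    induction N with
    | zero =>
      intro α hα
      obtain ⟨e⟩ := 𝒯.zero α hα
      rw [hi_congr k (tIso (Iso.refl (Coh.structureModule Z)) e) i]
      exact hg0
    | succ N ihN =>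
      intro α hα
      obtain ⟨β, j, hβ, ⟨e⟩⟩ := 𝒯.step α (by omega)
      have hβN : 𝒯.size β = N := by omega
      have h1 := hiT_left_le k _ (𝒯.hT α) Ss hSs cO cB cQs i
      have h2 := hiT_mid_le k _ (𝒯.hT β) (St j) (hSt j) cO (cBG j) (cQt j) i
      change hi k (CohB1.tensorMod (Coh.structureModule Z) (𝒯.T α)) i ≤
        (if i = 0 then 0 else hi k (CohB1.tensorMod (cokernel s) (𝒯.T α)) (i - 1)) +
          hi k (CohB1.tensorMod B (𝒯.T α)) i at h1
      change hi k (CohB1.tensorMod (CohB1.tensorMod (𝒯.G j) B) (𝒯.T β)) i ≤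
        hi k (CohB1.tensorMod (Coh.structureModule Z) (𝒯.T β)) i +
          hi k (CohB1.tensorMod (cokernel (t j)) (𝒯.T β)) i at h2
      have e3 : hi k (CohB1.tensorMod B (𝒯.T α)) i =
          hi k (CohB1.tensorMod (CohB1.tensorMod (𝒯.G j) B) (𝒯.T β)) i :=
        hi_congr k (tIso (Iso.refl B) (e ≪≫ tComm _ _) ≪≫ (tAssoc _ _ _).symm ≪≫
          tIso (tComm _ _) (Iso.refl _)) i
      have h3 := ihN β hβN
      -- the increment
      have hv : (hi k (CohB1.tensorMod (cokernel (t j)) (𝒯.T β)) i +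
          (if i = 0 then 0 else hi k (CohB1.tensorMod (cokernel s) (𝒯.T α)) (i - 1))) * (N + 1) ≤
          ((∑ j, Ct j) + Cs * 2 ^ d) * (N + 1) ^ d := by
        rw [add_mul, add_mul]
        refine Nat.add_le_add ?_ ?_
        · have h4 := hCt j β
          rw [hβN] at h4
          exact h4.trans (Nat.mul_le_mul_right _
            (Finset.single_le_sum (f := Ct) (fun _ _ => Nat.zero_le _) (Finset.mem_univ j)))
        · split_ifs with h0
          · simp
          · have h4 := hCs α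
            rw [hα] at h4
            have h5 : (N + 1 + 1) ^ d ≤ 2 ^ d * (N + 1) ^ d := by
              rw [← mul_pow]
              exact Nat.pow_le_pow_left (by omega) d
            calc hi k (CohB1.tensorMod (cokernel s) (𝒯.T α)) (i - 1) * (N + 1)
                ≤ hi k (CohB1.tensorMod (cokernel s) (𝒯.T α)) (i - 1) * (N + 1 + 1) :=
                  Nat.mul_le_mul_left _ (Nat.le_succ _)
              _ ≤ Cs * (N + 1 + 1) ^ d := h4
              _ ≤ Cs * (2 ^ d * (N + 1) ^ d) := Nat.mul_le_mul_left _ h5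
              _ = Cs * 2 ^ d * (N + 1) ^ d := by ring
      have h6 := hgstep N _ hv
      omega
  exact ⟨C', fun α => (key _ α rfl).trans (hgC _)⟩

end Induction

section Final

variable (k : Type u) [Field k] {X : Scheme.{u}} [X.Over (Spec (CommRingCat.of k))]
  [IsProper (X ↘ (Spec (CommRingCat.of k)))] {I : Type v} {J : Type w} [Finite J]

/-- **Growth of `hⁱ` along a family of twists, small support** -/
theorem mainF (H : X.Modules) (hH : CohB1.IsAmple H) (𝒯 : TwFam X I J)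
    (F : X.Modules) (hF : Coh.IsCoh F) (d : ℕ)
    (hdim : topologicalKrullDim (CohB1.support F) < ((d : ℕ) : WithBot ℕ∞)) : BsF k d 𝒯 F :=
  BsF_of_small_support k d (fun d' _ => mainF_all k d') 𝒯 H hH F hF hdim

/-- **Growth of `hⁱ` along a family of twists** -/
theorem mainF_le (H : X.Modules) (hH : CohB1.IsAmple H) (𝒯 : TwFam X I J)
    (F : X.Modules) (hF : Coh.IsCoh F) (d : ℕ)
    (hdim : topologicalKrullDim (CohB1.support F) ≤ ((d : ℕ) : WithBot ℕ∞)) : BdF k d 𝒯 F := by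
  refine BdF_of_BsF_succ k d 𝒯 (mainF k H hH 𝒯 F hF (d + 1) (lt_of_le_of_lt hdim ?_))
  exact_mod_cast Nat.lt_succ_self d

end Final

end Groth.Agent.Lib.R2H4HiGrowthFam
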