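import Mathlib
import Groth.Prelude
import Groth.Agent.Lib.R2H4HiGrowthFam

/-!
# Growth of cohomology along monomials in invertible modules (helper4, round 2)

`Mon G N P`: the module `P` is (isomorphic to) a monomial of degree `N` in the modules `G j`.
Monomials are closed under isomorphisms, tensor products, tensor powers and contain the
`FGA.multiTwist`s.  For `X` proper over a field with an ample invertible module, finitely many
invertible `G j` and `F` coherent with `dim Supp F ≤ d`:
`hⁱ(F ⊗ P) ≤ C (N + 1)^d` for every monomial `P` of degree `N` (`mon_bound`).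
-/

set_option autoImplicit false
set_option linter.style.haveILetI false
set_option linter.unusedSectionVars false
universe u w
open CategoryTheory CategoryTheory.Limits AlgebraicGeometry TopologicalSpace

noncomputable section

namespace Groth.Agent.Lib.R2H4MonGrowth

open Groth.Agent.Lib.R2H4TensorPows Groth.Agent.Lib.R2H4HiGrowth Groth.Agent.Lib.R2H4HiGrowthFam

section Mon

variable {X : Scheme.{u}} {J : Type w}

/-- `P` is a monomial of degree `N` in the modules `G j` -/
inductive Mon (G : J → X.Modules) : ℕ → X.Modules → Prop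
  | zero (P : X.Modules) (e : Nonempty (P ≅ Coh.structureModule X)) : Mon G 0 P
  | succ (N : ℕ) (P P' : X.Modules) (j : J) (h : Mon G N P')
      (e : Nonempty (P ≅ CohB1.tensorMod P' (G j))) : Mon G (N + 1) P

variable {G : J → X.Modules}

theorem Mon.of_iso {N : ℕ} {P Q : X.Modules} (h : Mon G N P) (e : Q ≅ P) : Mon G N Q := by
  cases h with
  | zero _ e' =>
    obtain ⟨e'⟩ := e'
    exact Mon.zero Q ⟨e ≪≫ e'⟩
  | succ N _ P' j h' e' =>
    obtain ⟨e'⟩ := e'
    exact Mon.succ N Q P' j h' ⟨e ≪≫ e'⟩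

theorem Mon.cast {N N' : ℕ} {P : X.Modules} (h : Mon G N P) (hN : N = N') : Mon G N' P :=
  hN ▸ h

theorem Mon.unit : Mon G 0 (Coh.structureModule X) := Mon.zero _ ⟨Iso.refl _⟩

theorem Mon.gen (j : J) : Mon G 1 (G j) :=
  Mon.succ 0 _ (Coh.structureModule X) j Mon.unit ⟨(lUnit (G j)).symm⟩

theorem Mon.tensor {N N' : ℕ} {P P' : X.Modules} (h : Mon G N P) (h' : Mon G N' P') :
    Mon G (N + N') (CohB1.tensorMod P P') := by
  induction h' with
  | zero Q e =>
    obtain ⟨e⟩ := e
    exact h.of_iso (tIso (Iso.refl P) e ≪≫ rUnit P)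
  | succ N' Q Q' j _ e ih =>
    obtain ⟨e⟩ := e
    exact Mon.succ (N + N') _ (CohB1.tensorMod P Q') j ih
      ⟨tIso (Iso.refl P) e ≪≫ (tAssoc P Q' (G j)).symm⟩

theorem Mon.pow {N : ℕ} {P : X.Modules} (h : Mon G N P) :
    ∀ μ : ℕ, Mon G (μ * N) (CohB1.tensorPow P μ)
  | 0 => by
    rw [Nat.zero_mul]
    exact Mon.unit
  | μ + 1 => by
    have h1 := (Mon.pow h μ).tensor h
    exact h1.cast (by ring)

theorem Mon.tensorList {ι : Type*} (T : ι → X.Modules) (m : ι → ℕ)
    (hT : ∀ i, Mon G (m i) (T i)) :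
    ∀ l : List ι, Mon G (l.map m).sum (FGA.tensorList (l.map T))
  | [] => Mon.unit
  | a :: l => by
    have h1 := (hT a).tensor (Mon.tensorList T m hT l)
    exact h1

/-- multi-twists are monomials -/
theorem Mon.multiTwist {r : ℕ} (φ : Fin r → J) (m : Fin r → ℕ) :
    Mon G (∑ i, m i) (FGA.multiTwist (fun i => G (φ i)) m) := by
  have h1 := Mon.tensorList (G := G) (fun i : Fin r => CohB1.tensorPow (G (φ i)) (m i)) m
    (fun i => ((Mon.gen (G := G) (φ i)).pow (m i)).cast (Nat.mul_one _)) (List.finRange r)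
  have h2 : ((List.finRange r).map m).sum = ∑ i, m i := by
    rw [← List.ofFn_eq_map, List.sum_ofFn]
  rw [h2] at h1
  exact h1

variable (G)

/-- the family of all monomials -/
def monFam (hG : ∀ j, PicF.IsInvertible (G j)) :
    TwFam X {p : ℕ × X.Modules // Mon G p.1 p.2} J where
  size p := p.1.1
  T p := p.1.2
  G := G
  hG := hG
  zero := by
    rintro ⟨⟨N, P⟩, h⟩ hN
    change N = 0 at hN
    subst hN
    cases h with
    | zero _ e => exact e
  step := by
    rintro ⟨⟨N, P⟩, h⟩ hN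
    change N ≠ 0 at hN
    cases h with
    | zero _ e => exact absurd rfl hN
    | succ N' _ P' j h' e => exact ⟨⟨(N', P'), h'⟩, j, rfl, e⟩

end Mon

section Bound

variable (k : Type u) [Field k] {X : Scheme.{u}} [X.Over (Spec (CommRingCat.of k))]
  [IsProper (X ↘ (Spec (CommRingCat.of k)))] {J : Type w} [Finite J]

/-- **Growth of `hⁱ` along monomials** -/
theorem mon_bound (H : X.Modules) (hH : CohB1.IsAmple H) (G : J → X.Modules)
    (hG : ∀ j, PicF.IsInvertible (G j)) (F : X.Modules) (hF : Coh.IsCoh F) (d : ℕ)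
    (hdim : topologicalKrullDim (CohB1.support F) ≤ ((d : ℕ) : WithBot ℕ∞)) (i : ℕ) :
    ∃ C : ℕ, ∀ (N : ℕ) (P : X.Modules), Mon G N P →
      hi k (CohB1.tensorMod F P) i ≤ C * (N + 1) ^ d := by
  obtain ⟨C, hC⟩ := mainF_le k H hH (monFam G hG) F hF d hdim i
  exact ⟨C, fun N P h => hC ⟨(N, P), h⟩⟩

/-- **Growth of `hⁱ` along monomials, small support** -/
theorem mon_bound_small (H : X.Modules) (hH : CohB1.IsAmple H) (G : J → X.Modules)
    (hG : ∀ j, PicF.IsInvertible (G j)) (F : X.Modules) (hF : Coh.IsCoh F) (d : ℕ)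
    (hdim : topologicalKrullDim (CohB1.support F) < ((d : ℕ) : WithBot ℕ∞)) (i : ℕ) :
    ∃ C : ℕ, ∀ (N : ℕ) (P : X.Modules), Mon G N P →
      hi k (CohB1.tensorMod F P) i * (N + 1) ≤ C * (N + 1) ^ d := by
  obtain ⟨C, hC⟩ := mainF k H hH (monFam G hG) F hF d hdim i
  exact ⟨C, fun N P h => hC ⟨(N, P), h⟩⟩

end Bound

end Groth.Agent.Lib.R2H4MonGrowth
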