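import Mathlib
import Groth.Prelude
import Groth.Agent.Lib.R2H4MonGrowth

/-!
# Comparing the cohomology of neighbouring monomials (helper4, round 2)

On an integral scheme `X` of dimension `n`, proper over a field and carrying an ample invertible
module, with finitely many invertible modules `G j`:
* `one_step`: `|hⁱ(P ⊗ G_j) - hⁱ(P)| ≤ C (d + 1)^(n-1)` for every monomial `P` of degree `d`;
* `Reach G N K P P'`: `P'` is reached from `P` by `K` steps (tensoring with, or removing, a
  generator) through monomials of degree `≤ N`; closed under `⊗`, powers, symmetric, transitive;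
* `Reach.bound`: `|hⁱ(P') - hⁱ(P)| ≤ K · C (N + 1)^(n-1)`.
-/

set_option autoImplicit false
set_option linter.style.haveILetI false
set_option linter.unusedSectionVars false
universe u w
open CategoryTheory CategoryTheory.Limits AlgebraicGeometry TopologicalSpace

noncomputable section

namespace Groth.Agent.Lib.R2H4MonReach

open Groth.Agent.Lib.R2H4TensorPows Groth.Agent.Lib.R2H4HiGrowth Groth.Agent.Lib.R2H4HiGrowthFam
  Groth.Agent.Lib.R2H4MonGrowth Groth.Agent.Lib.R2H2.PnSerre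

section OneStep

variable (k : Type u) [Field k] {X : Scheme.{u}} [X.Over (Spec (CommRingCat.of k))]
  [IsProper (X ↘ (Spec (CommRingCat.of k)))] {J : Type w} [Finite J]

/-- modules with support of dimension `< n` have growth of order `≤ n - 1` along monomials, and
vanish if `n = 0` -/
theorem exists_bound_small (H : X.Modules) (hH : CohB1.IsAmple H) (G : J → X.Modules)
    (hG : ∀ j, PicF.IsInvertible (G j)) (Q : X.Modules) (hQ : Coh.IsCoh Q) (n : ℕ)
    (hdim : topologicalKrullDim (CohB1.support Q) < ((n : ℕ) : WithBot ℕ∞)) (i : ℕ) :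
    ∃ C : ℕ, (n = 0 → C = 0) ∧ ∀ (d : ℕ) (P : X.Modules), Mon G d P →
      hi k (CohB1.tensorMod Q P) i ≤ C * (d + 1) ^ (n - 1) := by
  rcases Nat.eq_zero_or_pos n with h0 | h0
  · subst h0
    have hemp : CohB1.support Q ⊆ ∅ := by
      intro x hx
      exfalso
      haveI : Nonempty (CohB1.support Q) := ⟨⟨x, hx⟩⟩
      have h1 : (0 : WithBot ℕ∞) ≤ topologicalKrullDim (CohB1.support Q) := by
        haveI : Nonempty (IrreducibleCloseds (CohB1.support Q)) :=
          ⟨⟨closure {⟨x, hx⟩}, isIrreducible_singleton.closure, isClosed_closure⟩⟩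
        exact Order.krullDim_nonneg
      exact absurd (lt_of_le_of_lt h1 hdim) (by simp)
    have hz := Groth.Agent.Lib.R2H2.DevA.isZero_of_support_subset_empty Q hemp
    refine ⟨0, fun _ => rfl, fun d P _ => ?_⟩
    have hz' : IsZero (CohB1.tensorMod Q P) := (twR P).map_isZero hz
    rw [hi_of_isZero k _ hz' i]
    simp
  · obtain ⟨e, rfl⟩ : ∃ e, n = e + 1 := ⟨n - 1, by omega⟩
    have hle := Groth.Agent.Lib.R2H4Snapper.le_of_lt_succ' _ e hdim
    obtain ⟨C, hC⟩ := mon_bound k H hH G hG Q hQ e hle i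
    exact ⟨C, fun h => absurd h (Nat.succ_ne_zero e), fun d P hP => hC d P hP⟩

/-- **one step**: tensoring a monomial of degree `d` with a generator changes `hⁱ` by at most
`C (d + 1)^(n-1)` -/
theorem one_step [IsIntegral X] (H : X.Modules) (hH : CohB1.IsAmple H) (n : ℕ)
    (hn : topologicalKrullDim X = ((n : ℕ) : WithBot ℕ∞)) (G : J → X.Modules)
    (hG : ∀ j, PicF.IsInvertible (G j)) (i : ℕ) :
    ∃ C : ℕ, (n = 0 → C = 0) ∧ ∀ (d : ℕ) (P P' : X.Modules) (j : J), Mon G d P →
      Nonempty (P' ≅ CohB1.tensorMod P (G j)) →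
      hi k P' i ≤ hi k P i + C * (d + 1) ^ (n - 1) ∧
        hi k P i ≤ hi k P' i + C * (d + 1) ^ (n - 1) := by
  classical
  cases nonempty_fintype J
  haveI := Groth.Agent.Lib.R2H1.CurveEuler.isNoetherian_of_proper k X
  obtain ⟨B, hB, ⟨s, hs⟩, ht'⟩ := exists_sections_family H hH G hG
  choose t ht using ht'
  have hBG : ∀ j, PicF.IsInvertible (CohB1.tensorMod (G j) B) := fun j =>
    Groth.Agent.Lib.Helper23.SecTw.isInvertible_tensorMod (hG j) hB
  have hO : PicF.IsInvertible (Coh.structureModule X) :=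
    Groth.Agent.Lib.Helper23.TensorUnit.isInvertible_structureModule X
  have cO : Coh.IsCoh (Coh.structureModule X) :=
    Groth.Agent.Lib.R2H1.GenusLe.isCoh_structureModule X
  have cB : Coh.IsCoh B := Groth.Agent.Lib.R2H4VolBasic.isCoh_of_isInvertible B hB
  have cBG : ∀ j, Coh.IsCoh (CohB1.tensorMod (G j) B) := fun j =>
    Groth.Agent.Lib.R2H4VolBasic.isCoh_of_isInvertible _ (hBG j)
  have cQs : Coh.IsCoh (cokernel s) := Groth.Agent.Lib.R2H2.NilFilt.isCoh_cokernel cO cB s
  have cQt : ∀ j, Coh.IsCoh (cokernel (t j)) := fun j =>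
    Groth.Agent.Lib.R2H2.NilFilt.isCoh_cokernel cO (cBG j) (t j)
  haveI : Mono s := Groth.Agent.Lib.R2H1.InvHom.mono_of_ne_zero hO hB s hs
  haveI : ∀ j, Mono (t j) := fun j =>
    Groth.Agent.Lib.R2H1.InvHom.mono_of_ne_zero hO (hBG j) (t j) (ht j)
  let Ss : ShortComplex X.Modules := ShortComplex.mk s (cokernel.π s) (cokernel.condition s)
  have hSs : Ss.ShortExact :=
    { exact := ShortComplex.exact_cokernel s
      mono_f := by dsimp [Ss]; infer_instance
      epi_g := by dsimp [Ss]; infer_instance }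
  let St : J → ShortComplex X.Modules := fun j =>
    ShortComplex.mk (t j) (cokernel.π (t j)) (cokernel.condition (t j))
  have hSt : ∀ j, (St j).ShortExact := fun j =>
    { exact := ShortComplex.exact_cokernel (t j)
      mono_f := by dsimp [St]; infer_instance
      epi_g := by dsimp [St]; infer_instance }
  have hdimQs : topologicalKrullDim (CohB1.support (cokernel s)) < ((n : ℕ) : WithBot ℕ∞) := by
    rw [← hn]
    exact Groth.Agent.Lib.R2H4VolBig.dim_support_cokernel_lt k B hB s hs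
  have hdimQt : ∀ j, topologicalKrullDim (CohB1.support (cokernel (t j))) <
      ((n : ℕ) : WithBot ℕ∞) := fun j => by
    rw [← hn]
    exact Groth.Agent.Lib.R2H4VolBig.dim_support_cokernel_lt k _ (hBG j) (t j) (ht j)
  obtain ⟨Cs, zCs, hCs⟩ := exists_bound_small k H hH G hG _ cQs n hdimQs i
  obtain ⟨Cs', zCs', hCs'⟩ := exists_bound_small k H hH G hG _ cQs n hdimQs (i - 1)
  choose Ct zCt hCt using fun j => exists_bound_small k H hH G hG _ (cQt j) n (hdimQt j) i
  choose Ct' zCt' hCt' using fun j =>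
    exists_bound_small k H hH G hG _ (cQt j) n (hdimQt j) (i - 1)
  refine ⟨(Cs + Cs') * 2 ^ (n - 1) + ((∑ j, Ct j) + ∑ j, Ct' j), fun h0 => ?_,
    fun d P P' j hP ⟨e⟩ => ?_⟩
  · rw [zCs h0, zCs' h0, Finset.sum_eq_zero fun j _ => zCt j h0,
      Finset.sum_eq_zero fun j _ => zCt' j h0]
    simp
  have hP' : Mon G (d + 1) P' := Mon.succ d P' P j hP ⟨e⟩
  have hTP : PicF.IsInvertible P := (monFam G hG).hT ⟨(d, P), hP⟩
  have hTP' : PicF.IsInvertible P' := (monFam G hG).hT ⟨(d + 1, P'), hP'⟩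
  -- the four long exact sequence inequalities
  have a1 := hiT_left_le k _ hTP' Ss hSs cO cB cQs i
  have a2 := hiT_mid_le k _ hTP (St j) (hSt j) cO (cBG j) (cQt j) i
  have a3 := hiT_left_le k _ hTP (St j) (hSt j) cO (cBG j) (cQt j) i
  have a4 := hiT_mid_le k _ hTP' Ss hSs cO cB cQs i
  change hi k (CohB1.tensorMod (Coh.structureModule X) P') i ≤
    (if i = 0 then 0 else hi k (CohB1.tensorMod (cokernel s) P') (i - 1)) +
      hi k (CohB1.tensorMod B P') i at a1
  change hi k (CohB1.tensorMod (CohB1.tensorMod (G j) B) P) i ≤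
    hi k (CohB1.tensorMod (Coh.structureModule X) P) i +
      hi k (CohB1.tensorMod (cokernel (t j)) P) i at a2
  change hi k (CohB1.tensorMod (Coh.structureModule X) P) i ≤
    (if i = 0 then 0 else hi k (CohB1.tensorMod (cokernel (t j)) P) (i - 1)) +
      hi k (CohB1.tensorMod (CohB1.tensorMod (G j) B) P) i at a3
  change hi k (CohB1.tensorMod B P') i ≤
    hi k (CohB1.tensorMod (Coh.structureModule X) P') i +
      hi k (CohB1.tensorMod (cokernel s) P') i at a4
  have e3 : hi k (CohB1.tensorMod B P') i =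
      hi k (CohB1.tensorMod (CohB1.tensorMod (G j) B) P) i :=
    hi_congr k (tIso (Iso.refl B) (e ≪≫ tComm _ _) ≪≫ (tAssoc _ _ _).symm ≪≫
      tIso (tComm _ _) (Iso.refl _)) i
  have e1 : hi k (CohB1.tensorMod (Coh.structureModule X) P') i = hi k P' i :=
    hi_congr k (lUnit P') i
  have e2 : hi k (CohB1.tensorMod (Coh.structureModule X) P) i = hi k P i :=
    hi_congr k (lUnit P) i
  -- the bounds on the error terms
  have hpow : (d + 1 + 1) ^ (n - 1) ≤ 2 ^ (n - 1) * (d + 1) ^ (n - 1) := by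
    rw [← mul_pow]
    exact Nat.pow_le_pow_left (by omega) _
  have b1 : hi k (CohB1.tensorMod (cokernel s) P') i ≤ Cs * 2 ^ (n - 1) * (d + 1) ^ (n - 1) :=
    (hCs _ _ hP').trans (by rw [mul_assoc]; exact Nat.mul_le_mul_left _ hpow)
  have b2 : (if i = 0 then 0 else hi k (CohB1.tensorMod (cokernel s) P') (i - 1)) ≤
      Cs' * 2 ^ (n - 1) * (d + 1) ^ (n - 1) := by
    split_ifs
    · exact Nat.zero_le _
    · exact (hCs' _ _ hP').trans (by rw [mul_assoc]; exact Nat.mul_le_mul_left _ hpow)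
  have b3 : hi k (CohB1.tensorMod (cokernel (t j)) P) i ≤ (∑ j, Ct j) * (d + 1) ^ (n - 1) :=
    (hCt j _ _ hP).trans (Nat.mul_le_mul_right _
      (Finset.single_le_sum (f := Ct) (fun _ _ => Nat.zero_le _) (Finset.mem_univ j)))
  have b4 : (if i = 0 then 0 else hi k (CohB1.tensorMod (cokernel (t j)) P) (i - 1)) ≤
      (∑ j, Ct' j) * (d + 1) ^ (n - 1) := by
    split_ifs
    · exact Nat.zero_le _
    · exact (hCt' j _ _ hP).trans (Nat.mul_le_mul_right _
        (Finset.single_le_sum (f := Ct') (fun _ _ => Nat.zero_le _) (Finset.mem_univ j)))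
  have hexp : ((Cs + Cs') * 2 ^ (n - 1) + ((∑ j, Ct j) + ∑ j, Ct' j)) * (d + 1) ^ (n - 1) =
      Cs * 2 ^ (n - 1) * (d + 1) ^ (n - 1) + Cs' * 2 ^ (n - 1) * (d + 1) ^ (n - 1) +
        ((∑ j, Ct j) * (d + 1) ^ (n - 1) + (∑ j, Ct' j) * (d + 1) ^ (n - 1)) := by ring
  rw [hexp]
  constructor <;> omega

end OneStep

section Reach

variable {X : Scheme.{u}} {J : Type w}

/-- `P'` is reached from `P` in `K` steps through monomials of degree `≤ N` -/
inductive Reach (G : J → X.Modules) (N : ℕ) : ℕ → X.Modules → X.Modules → Prop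
  | refl (P P' : X.Modules) (d : ℕ) (hd : d ≤ N) (h : Mon G d P) (e : Nonempty (P ≅ P')) :
      Reach G N 0 P P'
  | up (K : ℕ) (P P' P'' : X.Modules) (j : J) (h : Reach G N K P P'') (d : ℕ) (hd : d ≤ N)
      (hm : Mon G d P') (e : Nonempty (P' ≅ CohB1.tensorMod P'' (G j))) : Reach G N (K + 1) P P'
  | down (K : ℕ) (P P' P'' : X.Modules) (j : J) (h : Reach G N K P P'') (d : ℕ) (hd : d ≤ N)
      (hm : Mon G d P') (e : Nonempty (P'' ≅ CohB1.tensorMod P' (G j))) : Reach G N (K + 1) P P'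

variable {G : J → X.Modules} {N : ℕ}

theorem Reach.mon_right {K : ℕ} {P P' : X.Modules} (h : Reach G N K P P') :
    ∃ d, d ≤ N ∧ Mon G d P' := by
  cases h with
  | refl _ _ d hd h e =>
    obtain ⟨e⟩ := e
    exact ⟨d, hd, h.of_iso e.symm⟩
  | up K _ _ P'' j h d hd hm e => exact ⟨d, hd, hm⟩
  | down K _ _ P'' j h d hd hm e => exact ⟨d, hd, hm⟩

theorem Reach.mon_left {K : ℕ} {P P' : X.Modules} (h : Reach G N K P P') :
    ∃ d, d ≤ N ∧ Mon G d P := by
  induction h with
  | refl P P' d hd h e => exact ⟨d, hd, h⟩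
  | up K P P' P'' j h d hd hm e ih => exact ih
  | down K P P' P'' j h d hd hm e ih => exact ih

theorem Reach.cast {K K' : ℕ} {P P' : X.Modules} (h : Reach G N K P P') (hK : K = K') :
    Reach G N K' P P' := hK ▸ h

theorem Reach.of_iso_right {K : ℕ} {P P' Q : X.Modules} (h : Reach G N K P P') (e : P' ≅ Q) :
    Reach G N K P Q := by
  cases h with
  | refl _ _ d hd h e' =>
    obtain ⟨e'⟩ := e'
    exact Reach.refl P Q d hd h ⟨e' ≪≫ e⟩
  | up K _ _ P'' j h d hd hm e' =>
    obtain ⟨e'⟩ := e'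
    exact Reach.up K P Q P'' j h d hd (hm.of_iso e.symm) ⟨e.symm ≪≫ e'⟩
  | down K _ _ P'' j h d hd hm e' =>
    obtain ⟨e'⟩ := e'
    exact Reach.down K P Q P'' j h d hd (hm.of_iso e.symm)
      ⟨e' ≪≫ tIso e (Iso.refl _)⟩

theorem Reach.mono {N' : ℕ} (hN : N ≤ N') {K : ℕ} {P P' : X.Modules} (h : Reach G N K P P') :
    Reach G N' K P P' := by
  induction h with
  | refl P P' d hd h e => exact Reach.refl P P' d (hd.trans hN) h e
  | up K P P' P'' j h d hd hm e ih => exact Reach.up K P P' P'' j ih d (hd.trans hN) hm e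
  | down K P P' P'' j h d hd hm e ih => exact Reach.down K P P' P'' j ih d (hd.trans hN) hm e

theorem Reach.trans {K₁ K₂ : ℕ} {P P' P'' : X.Modules} (h₁ : Reach G N K₁ P P')
    (h₂ : Reach G N K₂ P' P'') : Reach G N (K₁ + K₂) P P'' := by
  induction h₂ with
  | refl Q Q' d hd h e =>
    obtain ⟨e⟩ := e
    exact h₁.of_iso_right e
  | up K Q Q' Q'' j h d hd hm e ih => exact Reach.up (K₁ + K) P Q' Q'' j (ih h₁) d hd hm e
  | down K Q Q' Q'' j h d hd hm e ih => exact Reach.down (K₁ + K) P Q' Q'' j (ih h₁) d hd hm e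

theorem Reach.of_iso_left {K : ℕ} {P P' Q : X.Modules} (h : Reach G N K P P') (e : Q ≅ P) :
    Reach G N K Q P' := by
  obtain ⟨d, hd, hm⟩ := h.mon_left
  exact ((Reach.refl Q P d hd (hm.of_iso e) ⟨e⟩).trans h).cast (Nat.zero_add K)

theorem Reach.symm {K : ℕ} {P P' : X.Modules} (h : Reach G N K P P') : Reach G N K P' P := by
  induction h with
  | refl P P' d hd h e =>
    obtain ⟨e⟩ := e
    exact Reach.refl P' P d hd (h.of_iso e.symm) ⟨e.symm⟩
  | up K P P' P'' j h d hd hm e ih =>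
    obtain ⟨d'', hd'', hm''⟩ := h.mon_right
    have h1 : Reach G N 1 P' P'' :=
      Reach.down 0 P' P'' P' j (Reach.refl P' P' d hd hm ⟨Iso.refl _⟩) d'' hd'' hm'' e
    exact (h1.trans ih).cast (Nat.add_comm 1 K)
  | down K P P' P'' j h d hd hm e ih =>
    obtain ⟨d'', hd'', hm''⟩ := h.mon_right
    have h1 : Reach G N 1 P' P'' :=
      Reach.up 0 P' P'' P' j (Reach.refl P' P' d hd hm ⟨Iso.refl _⟩) d'' hd'' hm'' e
    exact (h1.trans ih).cast (Nat.add_comm 1 K)

/-- tensoring a path with a fixed monomial on the right -/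
theorem Reach.tensor_right {K : ℕ} {P P' : X.Modules} (h : Reach G N K P P') {c : ℕ}
    {Q : X.Modules} (hQ : Mon G c Q) :
    Reach G (N + c) K (CohB1.tensorMod P Q) (CohB1.tensorMod P' Q) := by
  induction h with
  | refl P P' d hd h e =>
    obtain ⟨e⟩ := e
    exact Reach.refl _ _ (d + c) (Nat.add_le_add_right hd c) (h.tensor hQ)
      ⟨tIso e (Iso.refl Q)⟩
  | up K P P' P'' j h d hd hm e ih =>
    obtain ⟨e⟩ := e
    exact Reach.up K _ _ (CohB1.tensorMod P'' Q) j ih (d + c) (Nat.add_le_add_right hd c)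
      (hm.tensor hQ) ⟨tIso e (Iso.refl Q) ≪≫ swapR P'' (G j) Q⟩
  | down K P P' P'' j h d hd hm e ih =>
    obtain ⟨e⟩ := e
    exact Reach.down K _ _ (CohB1.tensorMod P'' Q) j ih (d + c) (Nat.add_le_add_right hd c)
      (hm.tensor hQ) ⟨tIso e (Iso.refl Q) ≪≫ swapR P' (G j) Q⟩

/-- tensoring a path with a fixed monomial on the left -/
theorem Reach.tensor_left {K : ℕ} {P P' : X.Modules} (h : Reach G N K P P') {c : ℕ}
    {Q : X.Modules} (hQ : Mon G c Q) :
    Reach G (N + c) K (CohB1.tensorMod Q P) (CohB1.tensorMod Q P') :=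
  ((h.tensor_right hQ).of_iso_right (tComm _ _)).of_iso_left (tComm _ _)

/-- tensor product of paths -/
theorem Reach.tensor {N₁ N₂ K₁ K₂ : ℕ} {P P' Q Q' : X.Modules} (h₁ : Reach G N₁ K₁ P P')
    (h₂ : Reach G N₂ K₂ Q Q') :
    Reach G (N₁ + N₂) (K₁ + K₂) (CohB1.tensorMod P Q) (CohB1.tensorMod P' Q') := by
  obtain ⟨c, hc, hQ⟩ := h₂.mon_left
  obtain ⟨d, hd, hP'⟩ := h₁.mon_right
  have a := (h₁.tensor_right hQ).mono (Nat.add_le_add_left hc N₁)
  have b := ((h₂.tensor_left hP').mono (Nat.add_le_add_left hd N₂)).mono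
    (le_of_eq (Nat.add_comm N₂ N₁))
  exact a.trans b

/-- powers of a path -/
theorem Reach.pow {K : ℕ} {P P' : X.Modules} (h : Reach G N K P P') :
    ∀ m : ℕ, Reach G (m * N) (m * K) (CohB1.tensorPow P m) (CohB1.tensorPow P' m)
  | 0 => by
    rw [Nat.zero_mul, Nat.zero_mul]
    exact Reach.refl _ _ 0 le_rfl Mon.unit ⟨Iso.refl _⟩
  | m + 1 => by
    have h1 := (Reach.pow h m).tensor h
    have e1 : m * N + N = (m + 1) * N := by ring
    have e2 : m * K + K = (m + 1) * K := by ring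
    rw [e1] at h1
    exact h1.cast e2

/-- powers of a generator -/
theorem Reach.gen_pow (j : J) (x : ℕ) :
    ∀ t : ℕ, Reach G (x + t) t (CohB1.tensorPow (G j) x) (CohB1.tensorPow (G j) (x + t))
  | 0 => Reach.refl _ _ x le_rfl (((Mon.gen (G := G) j).pow x).cast (Nat.mul_one x))
      ⟨Iso.refl _⟩
  | t + 1 => by
    have h1 := (Reach.gen_pow j x t).mono (Nat.le_succ (x + t))
    exact Reach.up t _ _ (CohB1.tensorPow (G j) (x + t)) j h1 (x + t + 1) le_rfl
      (((Mon.gen (G := G) j).pow (x + t + 1)).cast (Nat.mul_one _)) ⟨Iso.refl _⟩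

theorem Reach.gen_pow' (j : J) (x y : ℕ) :
    Reach G (max x y) ((x - y) + (y - x)) (CohB1.tensorPow (G j) x) (CohB1.tensorPow (G j) y) := by
  rcases Nat.le_total x y with hxy | hxy
  · have h1 := Reach.gen_pow (G := G) j x (y - x)
    have e1 : x + (y - x) = y := by omega
    rw [e1] at h1
    rw [Nat.max_eq_right hxy]
    exact h1.cast (by omega)
  · have h1 := (Reach.gen_pow (G := G) j y (x - y)).symm
    have e1 : y + (x - y) = x := by omega
    rw [e1] at h1
    rw [Nat.max_eq_left hxy]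
    exact h1.cast (by omega)

/-- tensor products of lists of paths -/
theorem Reach.tensorList {ι : Type*} (T T' : ι → X.Modules) (Nf Kf : ι → ℕ)
    (hT : ∀ i, Reach G (Nf i) (Kf i) (T i) (T' i)) :
    ∀ l : List ι, Reach G (l.map Nf).sum (l.map Kf).sum (FGA.tensorList (l.map T))
      (FGA.tensorList (l.map T'))
  | [] => Reach.refl _ _ 0 le_rfl Mon.unit ⟨Iso.refl _⟩
  | a :: l => (hT a).tensor (Reach.tensorList T T' Nf Kf hT l)

/-- multi-twists -/
theorem Reach.multiTwist {r : ℕ} (φ : Fin r → J) (x y : Fin r → ℕ) :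
    Reach G (∑ i, max (x i) (y i)) (∑ i, ((x i - y i) + (y i - x i)))
      (FGA.multiTwist (fun i => G (φ i)) x) (FGA.multiTwist (fun i => G (φ i)) y) := by
  have h1 := Reach.tensorList (G := G) (fun i : Fin r => CohB1.tensorPow (G (φ i)) (x i))
    (fun i : Fin r => CohB1.tensorPow (G (φ i)) (y i)) (fun i => max (x i) (y i))
    (fun i => (x i - y i) + (y i - x i)) (fun i => Reach.gen_pow' (φ i) (x i) (y i))
    (List.finRange r)
  have h2 : ((List.finRange r).map fun i => max (x i) (y i)).sum = ∑ i, max (x i) (y i) := by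
    rw [← List.ofFn_eq_map, List.sum_ofFn]
  have h3 : ((List.finRange r).map fun i => (x i - y i) + (y i - x i)).sum =
      ∑ i, ((x i - y i) + (y i - x i)) := by
    rw [← List.ofFn_eq_map, List.sum_ofFn]
  rw [h2] at h1
  exact h1.cast h3

end Reach

section Bound

variable (k : Type u) [Field k] {X : Scheme.{u}} [X.Over (Spec (CommRingCat.of k))]
  [IsProper (X ↘ (Spec (CommRingCat.of k)))] {J : Type w}

/-- the bound along a path, given the one-step bound -/
theorem Reach.bound {G : J → X.Modules} (n i C : ℕ)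
    (hC : ∀ (d : ℕ) (P P' : X.Modules) (j : J), Mon G d P →
      Nonempty (P' ≅ CohB1.tensorMod P (G j)) →
      hi k P' i ≤ hi k P i + C * (d + 1) ^ (n - 1) ∧
        hi k P i ≤ hi k P' i + C * (d + 1) ^ (n - 1))
    {N K : ℕ} {P P' : X.Modules} (h : Reach G N K P P') :
    hi k P' i ≤ hi k P i + K * (C * (N + 1) ^ (n - 1)) ∧
      hi k P i ≤ hi k P' i + K * (C * (N + 1) ^ (n - 1)) := by
  induction h with
  | refl P P' d hd h e =>
    obtain ⟨e⟩ := e
    rw [hi_congr k e i]
    simp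
  | up K P P' P'' j h d hd hm e ih =>
    obtain ⟨d'', hd'', hm''⟩ := h.mon_right
    obtain ⟨a1, a2⟩ := hC d'' P'' P' j hm'' e
    have hp : C * (d'' + 1) ^ (n - 1) ≤ C * (N + 1) ^ (n - 1) :=
      Nat.mul_le_mul_left _ (Nat.pow_le_pow_left (Nat.succ_le_succ hd'') _)
    rw [Nat.succ_mul]
    constructor <;> omega
  | down K P P' P'' j h d hd hm e ih =>
    obtain ⟨a1, a2⟩ := hC d P' P'' j hm e
    have hp : C * (d + 1) ^ (n - 1) ≤ C * (N + 1) ^ (n - 1) :=
      Nat.mul_le_mul_left _ (Nat.pow_le_pow_left (Nat.succ_le_succ hd) _)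
    rw [Nat.succ_mul]
    constructor <;> omega

end Bound

end Groth.Agent.Lib.R2H4MonReach
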