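import Mathlib
import Groth.Prelude
import Groth.Agent.Lib.R2H4HhatSES
import Groth.Agent.Lib.R2H4MonReach
import Groth.Agent.Lib.R2H4HhatLimB
import Groth.Agent.Lib.Helper23LocGen
import Groth.Agent.Lib.R2H3NegTwistH1
import Groth.Agent.Lib.Helper23StalkLin
import Groth.Agent.Lib.Helper23UnitStalk
import Groth.Agent.Lib.R2H1GenusLe
import Groth.Agent.Lib.Helper8Conn

/-!
# Asymptotic cohomological functions of coherent modules: `ĥⁱ(F, L) = rank(F) · ĥⁱ(L)` (helper4)

`X` integral, proper over a field `k`, carrying an ample invertible module, `dim X = n`.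

* `hi_biprod`, `hi_functor_pow` : cohomology of binary biproducts and of `G(pow N r)` for additive `G`.
* `span_gsec_eq_top` : where `M` is generated by global sections (`LocGen`), germs of global
  sections span the stalk.
* `powDesc`, `exists_generic_iso` : a map `O^r ⟶ M` bijective on generic stalks (`r` = generic rank).
* `subsingleton_stalk_kernel/cokernel`, `dim_support_lt_of_generic`.
* `hhatF_invertible` : `ĥⁱ(N, L) = ĥⁱ(L)` for `N` invertible.
* `hhatF_eq_rank_mul_hhat` : the main theorem.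
-/

set_option autoImplicit false
set_option linter.style.haveILetI false
set_option linter.unusedSectionVars false
universe u
open CategoryTheory CategoryTheory.Limits AlgebraicGeometry TopologicalSpace Filter

noncomputable section

namespace Groth.Agent.Lib.R2H4GenRank

open Groth.Agent.Lib.R2H4HiGrowth Groth.Agent.Lib.R2H4HhatLim Groth.Agent.Lib.R2H2.HHLin
  Groth.Agent.Lib.R2H2.PnSerre Groth.Agent.Lib.R2H2.StalkPow

section Biprod

variable (k : Type u) [Field k] {X : Scheme.{u}} [X.Over (Spec (CommRingCat.of k))]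
  [IsProper (X ↘ (Spec (CommRingCat.of k)))]

/-- cohomology of a binary biproduct -/
def HHBiprodEquiv (A B : X.Modules) (i : ℕ) :
    Coh.HH X (A ⊞ B) i ≃ₗ[k] (Coh.HH X A i × Coh.HH X B i) :=
  LinearEquiv.ofLinear
    ((HmapA k (biprod.fst : A ⊞ B ⟶ A) i).prod (HmapA k (biprod.snd : A ⊞ B ⟶ B) i))
    ((HmapA k (biprod.inl : A ⟶ A ⊞ B) i).coprod (HmapA k (biprod.inr : B ⟶ A ⊞ B) i))
    (by
      refine LinearMap.ext (fun p => ?_)
      obtain ⟨a, b⟩ := p
      have h1 : HmapL (biprod.fst : A ⊞ B ⟶ A) i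
          (HmapL (biprod.inl : A ⟶ A ⊞ B) i a + HmapL (biprod.inr : B ⟶ A ⊞ B) i b) = a := by
        rw [map_add, ← HmapL_comp, ← HmapL_comp, biprod.inl_fst, biprod.inr_fst,
          HmapL_id, HmapL_zero, add_zero]
      have h2 : HmapL (biprod.snd : A ⊞ B ⟶ B) i
          (HmapL (biprod.inl : A ⟶ A ⊞ B) i a + HmapL (biprod.inr : B ⟶ A ⊞ B) i b) = b := by
        rw [map_add, ← HmapL_comp, ← HmapL_comp, biprod.inl_snd, biprod.inr_snd,
          HmapL_id, HmapL_zero, zero_add]
      exact Prod.ext h1 h2)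
    (by
      refine LinearMap.ext (fun y => ?_)
      change HmapL (biprod.inl : A ⟶ A ⊞ B) i (HmapL (biprod.fst : A ⊞ B ⟶ A) i y) +
        HmapL (biprod.inr : B ⟶ A ⊞ B) i (HmapL (biprod.snd : A ⊞ B ⟶ B) i y) = y
      rw [← HmapL_comp, ← HmapL_comp, ← HmapL_add, biprod.total, HmapL_id])

theorem hi_biprod (A B : X.Modules) (hA : Coh.IsCoh A) (hB : Coh.IsCoh B) (i : ℕ) :
    hi k (A ⊞ B) i = hi k A i + hi k B i := by
  haveI : Module.Finite k (Coh.HH X A i) := Groth.Agent.Lib.R2H1.EulerAdd.finite_HH k X _ hA i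
  haveI : Module.Finite k (Coh.HH X B i) := Groth.Agent.Lib.R2H1.EulerAdd.finite_HH k X _ hB i
  unfold hi
  rw [(HHBiprodEquiv k A B i).finrank_eq, Module.finrank_prod]

/-- cohomology of the image of `pow N r` under an additive functor -/
theorem hi_functor_pow (G : X.Modules ⥤ X.Modules) [G.Additive] (N : X.Modules)
    (hG : ∀ M : X.Modules, Coh.IsCoh M → Coh.IsCoh (G.obj M)) (hN : Coh.IsCoh N) (i : ℕ) :
    ∀ r : ℕ, hi k (G.obj (pow N r)) i = r * hi k (G.obj N) i
  | 0 => by
    rw [hi_of_isZero k _ (G.map_isZero (isZero_pow_zero N)) i]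
    simp
  | r + 1 => by
    haveI := Groth.Agent.Lib.R2H1.CurveEuler.isNoetherian_of_proper k X
    haveI := preservesBinaryBiproducts_of_preservesBiproducts G
    have e : G.obj (pow N (r + 1)) ≅ G.obj N ⊞ G.obj (pow N r) := by
      rw [Groth.Agent.Lib.R2H2.StalkPow.pow_succ]
      exact G.mapBiprod N (pow N r)
    rw [hi_congr k e i, hi_biprod k _ _ (hG _ hN) (hG _ (isCoh_pow N hN r)) i,
      hi_functor_pow G N hG hN i r]
    ring

end Biprod

section Generic

open Groth.Agent.Lib.Helper23.LocGen Groth.Agent.Lib.Helper23.SecTw Groth.Agent.Lib.Helper6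

variable {X : Scheme.{u}}

theorem stalkLin_eq {A B : X.Modules} (φ : A ⟶ B) (x : X) :
    stalkLin φ x = Groth.Agent.Lib.Helper4.NormDelta.stalkLin φ x := rfl

/-- the germ at `x` of a global section -/
def gsec (M : X.Modules) (x : X) (σ : Coh.structureModule X ⟶ M) : M.presheaf.stalk x :=
  M.presheaf.germ ⊤ x trivial (sv σ ⊤)

theorem germ_sv (M : X.Modules) (x : X) (σ : Coh.structureModule X ⟶ M) (B : X.Opens)
    (hx : x ∈ B) : M.presheaf.germ B x hx (sv σ B) = gsec M x σ := by
  unfold gsec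
  rw [← res_sv σ (le_top : B ≤ ⊤)]
  exact TopCat.Presheaf.germ_res_apply M.presheaf (homOfLE le_top) x hx _

theorem germ_mem_of_mem_gspan (M : X.Modules) (x : X) (B : X.Opens) (hx : x ∈ B) (m : Γ(M, B))
    (hm : m ∈ gspan M B) :
    M.presheaf.germ B x hx m ∈ Submodule.span (X.presheaf.stalk x) (Set.range (gsec M x)) := by
  induction hm using Submodule.span_induction with
  | mem y hy =>
    obtain ⟨σ, rfl⟩ := hy
    change M.presheaf.germ B x hx (sv σ B) ∈ _
    rw [germ_sv]
    exact Submodule.subset_span ⟨σ, rfl⟩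
  | zero => rw [map_zero]; exact Submodule.zero_mem _
  | add a b _ _ ha hb => rw [map_add]; exact Submodule.add_mem _ ha hb
  | smul r a _ ha =>
    rw [Groth.Agent.Lib.Helper2.QCoh.germ_smul]
    exact Submodule.smul_mem _ _ ha

/-- where `M` is generated by global sections, the germs of global sections span the stalk -/
theorem span_gsec_eq_top (M : X.Modules) (V : X.Opens) (hV : LocGen M V) (x : X) (hx : x ∈ V) :
    Submodule.span (X.presheaf.stalk x) (Set.range (gsec M x)) = ⊤ := by
  rw [eq_top_iff]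
  intro z _
  obtain ⟨A, hxA, m, rfl⟩ := M.presheaf.exists_germ_eq z
  obtain ⟨B, hB, hxB, hmem⟩ := hV (A ⊓ V) inf_le_right (res M inf_le_left m) x ⟨hxA, hx⟩
  have h1 := germ_mem_of_mem_gspan M x B hxB _ hmem
  have h2 : M.presheaf.germ B x hxB (res M hB (res M inf_le_left m)) =
      M.presheaf.germ A x hxA m := by
    rw [res_res]
    exact TopCat.Presheaf.germ_res_apply M.presheaf (homOfLE _) x hxB m
  rwa [h2] at h1

/-- the map `pow N r ⟶ M` given by `r` maps `N ⟶ M` -/
def powDesc {N M : X.Modules} : ∀ r : ℕ, (Fin r → (N ⟶ M)) → (pow N r ⟶ M)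
  | 0, _ => 0
  | r + 1, σ => biprod.desc (σ 0) (powDesc r (fun j => σ j.succ))

/-- the inclusion of the remaining summands -/
def powInr (N : X.Modules) (r : ℕ) : pow N r ⟶ pow N (r + 1) := biprod.inr

theorem powι_desc {N M : X.Modules} (r : ℕ) (σ : Fin (r + 1) → (N ⟶ M)) :
    powι N r ≫ powDesc (r + 1) σ = σ 0 := biprod.inl_desc _ _

theorem powInr_desc {N M : X.Modules} (r : ℕ) (σ : Fin (r + 1) → (N ⟶ M)) :
    powInr N r ≫ powDesc (r + 1) σ = powDesc r (fun j => σ j.succ) := biprod.inr_desc _ _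

theorem mem_range_powDesc {N M : X.Modules} (x : X) :
    ∀ (r : ℕ) (σ : Fin r → (N ⟶ M)) (j : Fin r) (y : N.presheaf.stalk x),
      stalkLin (σ j) x y ∈ LinearMap.range (stalkLin (powDesc r σ) x)
  | 0, _, j, _ => j.elim0
  | r + 1, σ, j, y => by
    induction j using Fin.cases with
    | zero =>
      refine ⟨stalkLin (powι N r) x y, ?_⟩
      rw [stalkLin_comp_apply, powι_desc]
    | succ j' =>
      obtain ⟨z, hz⟩ := mem_range_powDesc x r (fun j => σ j.succ) j' y
      refine ⟨stalkLin (powInr N r) x z, ?_⟩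
      rw [stalkLin_comp_apply, powInr_desc, hz]

theorem gsec_eq_stalkLin (M : X.Modules) (x : X) (σ : Coh.structureModule X ⟶ M) :
    gsec M x σ = stalkLin σ x ((Coh.structureModule X).presheaf.germ ⊤ x trivial
      (Groth.Agent.Lib.Helper23.GenLocus.toS ⊤ 1)) := by
  rw [stalkLin_germ]
  rfl

/-- the stalk of `pow O r` at a point is free of rank `r` -/
def stalkPowUnitEquiv (x : X) (r : ℕ) :
    (pow (Coh.structureModule X) r).presheaf.stalk x ≃ₗ[X.presheaf.stalk x]
      (Fin r → X.presheaf.stalk x) :=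
  (stalkPow (Coh.structureModule X) x r).trans
    (LinearEquiv.piCongrRight
      (fun _ => (Groth.Agent.Lib.Helper23.UnitStalk.unitStalkEquiv x).symm))

theorem finrank_stalk_pow_unit (x : X) (r : ℕ) :
    Module.finrank (X.presheaf.stalk x)
      ((pow (Coh.structureModule X) r).presheaf.stalk x) = r := by
  rw [(stalkPowUnitEquiv x r).finrank_eq, Module.finrank_fin_fun]

/-- **a generically bijective map from a free module**: if `M` is coherent and generated by its
global sections near the generic point, there is a map `O^r ⟶ M`, `r` the generic rank, which is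
bijective on the stalks at the generic point -/
theorem exists_generic_iso [IsIntegral X] (M : X.Modules) (hM : Coh.IsCoh M) (V : X.Opens)
    (hV : LocGen M V) (hη : genericPoint X ∈ V) :
    ∃ φ : pow (Coh.structureModule X) (Module.finrank (X.presheaf.stalk (genericPoint X))
        (M.presheaf.stalk (genericPoint X))) ⟶ M,
      Function.Bijective (stalkLin φ (genericPoint X)) := by
  letI : Field (X.presheaf.stalk (genericPoint X)) := inferInstanceAs (Field X.functionField)
  haveI := Groth.Agent.Lib.R2H2.DevA.finite_stalk M hM (genericPoint X)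
  have hspan := span_gsec_eq_top M V hV _ hη
  haveI : Module.Finite (X.presheaf.stalk (genericPoint X))
      (Submodule.span (X.presheaf.stalk (genericPoint X))
        (Set.range (gsec M (genericPoint X)))) := by
    rw [hspan]; infer_instance
  obtain ⟨f, hf, hfspan, -⟩ := Submodule.exists_fun_fin_finrank_span_eq
    (X.presheaf.stalk (genericPoint X)) (Set.range (gsec M (genericPoint X)))
  have hr : Module.finrank (X.presheaf.stalk (genericPoint X))
      (Submodule.span (X.presheaf.stalk (genericPoint X))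
        (Set.range (gsec M (genericPoint X)))) =
      Module.finrank (X.presheaf.stalk (genericPoint X))
        (M.presheaf.stalk (genericPoint X)) := by
    rw [hspan, finrank_top]
  choose σ hσ using hf
  obtain ⟨r, hr'⟩ : ∃ r, r = Module.finrank (X.presheaf.stalk (genericPoint X))
        (M.presheaf.stalk (genericPoint X)) := ⟨_, rfl⟩
  rw [← hr']
  have hr2 : r = Module.finrank (X.presheaf.stalk (genericPoint X))
      (Submodule.span (X.presheaf.stalk (genericPoint X))
        (Set.range (gsec M (genericPoint X)))) := hr'.trans hr.symm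
  let τ : Fin r → (Coh.structureModule X ⟶ M) := fun j => σ (Fin.cast hr2 j)
  have hsurj : Function.Surjective (stalkLin (powDesc r τ) (genericPoint X)) := by
    rw [← LinearMap.range_eq_top, eq_top_iff, ← hspan, ← hfspan, Submodule.span_le]
    rintro _ ⟨j, rfl⟩
    have h1 := mem_range_powDesc (genericPoint X) r τ (Fin.cast hr2.symm j)
      ((Coh.structureModule X).presheaf.germ ⊤ (genericPoint X) trivial
        (Groth.Agent.Lib.Helper23.GenLocus.toS ⊤ 1))
    rw [← gsec_eq_stalkLin] at h1
    have h2 : τ (Fin.cast hr2.symm j) = σ j := by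
      simp only [τ]
      congr 1
    rw [h2, hσ] at h1
    exact h1
  refine ⟨powDesc r τ, ?_, hsurj⟩
  haveI : Module.Finite (X.presheaf.stalk (genericPoint X))
      ((pow (Coh.structureModule X) r).presheaf.stalk (genericPoint X)) :=
    Module.Finite.equiv (stalkPowUnitEquiv (genericPoint X) r).symm
  exact (LinearMap.injective_iff_surjective_of_finrank_eq_finrank
    ((finrank_stalk_pow_unit (genericPoint X) r).trans hr')).2 hsurj

theorem subsingleton_stalk_kernel {A B : X.Modules} (φ : A ⟶ B) (x : X)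
    (h : Function.Injective (stalkLin φ x)) :
    Subsingleton ((kernel φ).presheaf.stalk x) := by
  refine ⟨fun a b => ?_⟩
  apply Groth.Agent.Lib.Helper23.StalkLin.stalkLin_injective (kernel.ι φ) x
  apply h
  change stalkLin φ x (stalkLin (kernel.ι φ) x a) = stalkLin φ x (stalkLin (kernel.ι φ) x b)
  rw [stalkLin_comp_apply, stalkLin_comp_apply, kernel.condition, stalkLin_zero]
  rfl

theorem subsingleton_stalk_cokernel {A B : X.Modules} (φ : A ⟶ B) (x : X)
    (h : Function.Surjective (stalkLin φ x)) :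
    Subsingleton ((cokernel φ).presheaf.stalk x) := by
  have key : ∀ z : (cokernel φ).presheaf.stalk x, z = 0 := by
    intro z
    obtain ⟨b, rfl⟩ := Groth.Agent.Lib.Helper4.NormDelta.stalkLin_surjective (cokernel.π φ) x z
    obtain ⟨a, rfl⟩ := h b
    change stalkLin (cokernel.π φ) x (stalkLin φ x a) = 0
    rw [stalkLin_comp_apply, cokernel.condition, stalkLin_zero]
    rfl
  exact ⟨fun a b => (key a).trans (key b).symm⟩

end Generic

section Main

open Groth.Agent.Lib.R2H4HhatSES Groth.Agent.Lib.R2H4MonGrowth Groth.Agent.Lib.R2H4MonReach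
  Groth.Agent.Lib.R2H4TensorPows Groth.Agent.Lib.R2H1.GenusLe Groth.Agent.Lib.Helper23.LocGen

variable (k : Type u) [Field k] {X : Scheme.{u}} [X.Over (Spec (CommRingCat.of k))]
  [IsProper (X ↘ (Spec (CommRingCat.of k)))]

include k in
/-- a coherent module with vanishing generic stalk has support of smaller dimension -/
theorem dim_support_lt_of_generic [IsIntegral X] (Q : X.Modules) (cQ : Coh.IsCoh Q)
    (h : Subsingleton (Q.presheaf.stalk (genericPoint X))) :
    topologicalKrullDim (CohB1.support Q) < topologicalKrullDim X := by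
  have hcl : IsClosed (CohB1.support Q) := Groth.Agent.S0020.result X _ cQ.2
  have hne : CohB1.support Q ≠ (Set.univ : Set X) := by
    intro heq
    have hmem : genericPoint X ∈ CohB1.support Q := by rw [heq]; exact Set.mem_univ _
    exact hmem h
  have hfin : topologicalKrullDim (Set.univ : Set X) < ⊤ := by
    rw [Groth.Agent.Lib.R2H4AmplePos.dim_univ]
    haveI : CompactSpace X :=
      QuasiCompact.compactSpace_of_compactSpace (X ↘ Spec (CommRingCat.of k))
    exact Groth.Agent.Lib.Helper3.DimCons.topologicalKrullDim_lt_top_of_lft_field k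
      (X ↘ Spec (CommRingCat.of k))
  have h1 := Groth.Agent.Lib.Helper8.Conn.dim_lt_of_proper_closed
    (IrreducibleSpace.isIrreducible_univ X) hcl (Set.subset_univ _) hne hfin
  rwa [Groth.Agent.Lib.R2H4AmplePos.dim_univ] at h1

theorem hhatF_congr (n i : ℕ) {F F' : X.Modules} (e : F ≅ F') (L : X.Modules) :
    W4c5asymptcohfn.hhatF k X n i F L = W4c5asymptcohfn.hhatF k X n i F' L := by
  rw [hhatF_eq, hhatF_eq]
  congr 2
  funext m
  exact hi_congr k (tIso e (Iso.refl _)) i

/-- twisting by an invertible module does not change the asymptotic cohomological function -/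
theorem hhatF_invertible [IsIntegral X] (H : X.Modules) (hH : CohB1.IsAmple H) (n : ℕ)
    (hn : topologicalKrullDim X = ((n : ℕ) : WithBot ℕ∞)) (N : X.Modules)
    (hN : PicF.IsInvertible N) (L : X.Modules) (hL : PicF.IsInvertible L) (i : ℕ) :
    W4c5asymptcohfn.hhatF k X n i N L = W4c5asymptcohfn.hhat k X n i L := by
  rw [hhatF_eq]
  change limsup (nseq n fun m => hi k (CohB1.tensorMod N (CohB1.tensorPow L m)) i) atTop =
    limsup (nseq n fun m => hi k (CohB1.tensorPow L m) i) atTop
  haveI := Groth.Agent.Lib.R2H1.CurveEuler.isNoetherian_of_proper k X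
  have cO : Coh.IsCoh (Coh.structureModule X) :=
    Groth.Agent.Lib.R2H1.GenusLe.isCoh_structureModule X
  let G : Bool → X.Modules := fun b => cond b L N
  have hG : ∀ b, PicF.IsInvertible (G b) := by
    intro b
    cases b
    · exact hN
    · exact hL
  obtain ⟨C, hC0, hC⟩ := one_step k H hH n hn G hG i
  obtain ⟨C', hC'⟩ := main_le k H hH L hL _ cO n (dim_support_le n hn.le _) i
  have hstep : ∀ m : ℕ,
      hi k (CohB1.tensorMod N (CohB1.tensorPow L m)) i ≤
          hi k (CohB1.tensorPow L m) i + C * (m + 1) ^ (n - 1) ∧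
        hi k (CohB1.tensorPow L m) i ≤
          hi k (CohB1.tensorMod N (CohB1.tensorPow L m)) i + C * (m + 1) ^ (n - 1) := by
    intro m
    have hMon : Mon G m (CohB1.tensorPow L m) :=
      ((Mon.gen (G := G) true).pow m).cast (Nat.mul_one m)
    exact hC m (CohB1.tensorPow L m) (CohB1.tensorMod N (CohB1.tensorPow L m)) false hMon
      ⟨tComm _ _⟩
  refine limsup_nseq_eq n _ _ (fun m => C * (m + 1) ^ (n - 1)) C C' (fun m => ?_) (fun m => ?_)
    (fun m => (hstep m).1) (fun m => (hstep m).2)
  · rw [← hi_congr k (lUnit (CohB1.tensorPow L m)) i]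
    exact hC' m
  · rcases Nat.eq_zero_or_pos n with h0 | hpos
    · rw [hC0 h0]; simp
    · rw [mul_assoc, ← _root_.pow_succ, Nat.sub_add_cancel hpos]

/-- `hhatF` of `pow O r ⊗ N` -/
theorem hhatF_pow_twist [IsIntegral X] (H : X.Modules) (hH : CohB1.IsAmple H) (n : ℕ)
    (hn : topologicalKrullDim X = ((n : ℕ) : WithBot ℕ∞)) (N : X.Modules)
    (hN : PicF.IsInvertible N) (L : X.Modules) (hL : PicF.IsInvertible L) (i r : ℕ) :
    W4c5asymptcohfn.hhatF k X n i (CohB1.tensorMod (pow (Coh.structureModule X) r) N) L =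
      (r : ℝ) * W4c5asymptcohfn.hhat k X n i L := by
  haveI := Groth.Agent.Lib.R2H1.CurveEuler.isNoetherian_of_proper k X
  have cO : Coh.IsCoh (Coh.structureModule X) :=
    Groth.Agent.Lib.R2H1.GenusLe.isCoh_structureModule X
  have hE := fun m => Groth.Agent.Lib.Helper23.SecTw.isInvertible_tensorPow hL m
  rw [← hhatF_invertible k H hH n hn N hN L hL i, hhatF_eq, hhatF_eq]
  have hval : ∀ m : ℕ,
      hi k (CohB1.tensorMod (CohB1.tensorMod (pow (Coh.structureModule X) r) N)
        (CohB1.tensorPow L m)) i = r * hi k (CohB1.tensorMod N (CohB1.tensorPow L m)) i := by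
    intro m
    have h1 := hi_functor_pow k (twR N ⋙ twR (CohB1.tensorPow L m)) (Coh.structureModule X)
      (fun M hM => Groth.Agent.Lib.R2H3.AmpleSV.isCoh_tensorMod_invertible _ _
        (Groth.Agent.Lib.R2H3.AmpleSV.isCoh_tensorMod_invertible _ _ hM hN) (hE m)) cO i r
    have h2 : hi k ((twR N ⋙ twR (CohB1.tensorPow L m)).obj (Coh.structureModule X)) i =
        hi k (CohB1.tensorMod N (CohB1.tensorPow L m)) i :=
      hi_congr k (tIso (lUnit N) (Iso.refl _)) i
    rw [h2] at h1
    exact h1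
  have hfun : (nseq n fun m => hi k (CohB1.tensorMod (CohB1.tensorMod
      (pow (Coh.structureModule X) r) N) (CohB1.tensorPow L m)) i) =
      fun m => nseq n (fun m => hi k (CohB1.tensorMod N (CohB1.tensorPow L m)) i) m * (r : ℝ) := by
    funext m
    unfold nseq
    simp only []
    rw [hval m]
    push_cast
    ring
  rw [hfun, mul_comm]
  obtain ⟨C', hC'⟩ := main_le k H hH L hL N
    (Groth.Agent.Lib.R2H4VolBasic.isCoh_of_isInvertible N hN) n (dim_support_le n hn.le _) i
  refine Groth.Agent.Lib.R2H4HhatLimB.limsup_mul_const _ _ (Nat.cast_nonneg r) (fun m => nseq_nonneg n _ m) ?_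
  refine isBoundedUnder_of_eventually_le (a := (C' : ℝ) * (n.factorial : ℝ) * 2 ^ n) ?_
  filter_upwards [eventually_ge_atTop 1] with m hm
  exact nseq_le n _ C' hC' m hm

/-- **asymptotic cohomological functions of a coherent module**: `ĥⁱ(F, L) = rank(F) · ĥⁱ(L)` -/
theorem hhatF_eq_rank_mul_hhat [IsIntegral X] (H : X.Modules) (hH : CohB1.IsAmple H) (n : ℕ)
    (hn : topologicalKrullDim X = ((n : ℕ) : WithBot ℕ∞)) (F : X.Modules) (hF : Coh.IsCoh F)
    (L : X.Modules) (hL : PicF.IsInvertible L) (i : ℕ) :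
    W4c5asymptcohfn.hhatF k X n i F L =
      (Module.finrank (X.presheaf.stalk (genericPoint X))
        (F.presheaf.stalk (genericPoint X)) : ℝ) * W4c5asymptcohfn.hhat k X n i L := by
  haveI := Groth.Agent.Lib.R2H1.CurveEuler.isNoetherian_of_proper k X
  haveI : F.IsQuasicoherent := hF.1
  haveI : SheafOfModules.IsFiniteType (R := X.ringCatSheaf) F := hF.2
  have cO : Coh.IsCoh (Coh.structureModule X) :=
    Groth.Agent.Lib.R2H1.GenusLe.isCoh_structureModule X
  obtain ⟨V, a₀, hηV, hLG⟩ := exists_locGen_nhd H hH F (genericPoint X)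
  obtain ⟨B, hBdef⟩ : ∃ B, B = CohB1.tensorPow H a₀ := ⟨_, rfl⟩
  have hB : PicF.IsInvertible B := by
    rw [hBdef]; exact Groth.Agent.Lib.Helper23.SecTw.isInvertible_tensorPow hH.1 a₀
  have hLG' : LocGen (CohB1.tensorMod F B) V := by rw [hBdef]; exact hLG a₀ le_rfl
  have cFB : Coh.IsCoh (CohB1.tensorMod F B) :=
    Groth.Agent.Lib.R2H3.AmpleSV.isCoh_tensorMod_invertible _ _ hF hB
  haveI : (CohB1.tensorMod F B).IsQuasicoherent := cFB.1
  obtain ⟨e⟩ := Groth.Agent.Lib.R2H3.NegTwistH1.nonempty_stalk_tensor_equiv F B hB (genericPoint X)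
  rw [e.finrank_eq]
  obtain ⟨r, hr, φ, hφ⟩ : ∃ r, Module.finrank (X.presheaf.stalk (genericPoint X))
      ((CohB1.tensorMod F B).presheaf.stalk (genericPoint X)) = r ∧
      ∃ φ : pow (Coh.structureModule X) r ⟶ CohB1.tensorMod F B,
        Function.Bijective (stalkLin φ (genericPoint X)) :=
    ⟨_, rfl, exists_generic_iso (CohB1.tensorMod F B) cFB V hLG' hηV⟩
  rw [hr]
  obtain ⟨N, hN, ⟨eBN⟩⟩ := Groth.Agent.Lib.R2H1.InvExists.exists_inverse B hB
  have cP : Coh.IsCoh (pow (Coh.structureModule X) r) := isCoh_pow _ cO r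
  have cK : Coh.IsCoh (kernel φ) := Groth.Agent.Lib.R2H2.PdSheaf.isCoh_kernel cP cFB φ
  have cQ : Coh.IsCoh (cokernel φ) := Groth.Agent.Lib.R2H2.NilFilt.isCoh_cokernel cP cFB φ
  have cI : Coh.IsCoh (kernel (cokernel.π φ)) :=
    Groth.Agent.Lib.R2H2.PdSheaf.isCoh_kernel cFB cQ _
  have hK : topologicalKrullDim (CohB1.support (kernel φ)) < ((n : ℕ) : WithBot ℕ∞) := by
    rw [← hn]
    exact dim_support_lt_of_generic k _ cK (subsingleton_stalk_kernel φ _ hφ.1)
  have hQ : topologicalKrullDim (CohB1.support (cokernel φ)) < ((n : ℕ) : WithBot ℕ∞) := by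
    rw [← hn]
    exact dim_support_lt_of_generic k _ cQ (subsingleton_stalk_cokernel φ _ hφ.2)
  have tw : ∀ M : X.Modules, Coh.IsCoh M → Coh.IsCoh (CohB1.tensorMod M N) := fun M hM =>
    Groth.Agent.Lib.R2H3.AmpleSV.isCoh_tensorMod_invertible _ _ hM hN
  have hK' : topologicalKrullDim (CohB1.support (CohB1.tensorMod (kernel φ) N)) <
      ((n : ℕ) : WithBot ℕ∞) :=
    lt_of_le_of_lt (Groth.Agent.Lib.R2H4H0Growth.dim_mono
      (Groth.Agent.Lib.R2H4Snapper.support_tensor_subset _ N hN)) hK
  have hQ' : topologicalKrullDim (CohB1.support (CohB1.tensorMod (cokernel φ) N)) <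
      ((n : ℕ) : WithBot ℕ∞) :=
    lt_of_le_of_lt (Groth.Agent.Lib.R2H4H0Growth.dim_mono
      (Groth.Agent.Lib.R2H4Snapper.support_tensor_subset _ N hN)) hQ
  have e1 : W4c5asymptcohfn.hhatF k X n i (CohB1.tensorMod (pow (Coh.structureModule X) r) N) L =
      W4c5asymptcohfn.hhatF k X n i (CohB1.tensorMod (kernel (cokernel.π φ)) N) L :=
    hhatF_mid_eq_right k H hH n hn.le ((imgS₁ φ).map (twR N))
      (shortExact_map_twR N hN _ (imgS₁_shortExact φ)) (tw _ cK) (tw _ cP) (tw _ cI) L hL hK' i
  have e2 : W4c5asymptcohfn.hhatF k X n i (CohB1.tensorMod (kernel (cokernel.π φ)) N) L =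
      W4c5asymptcohfn.hhatF k X n i (CohB1.tensorMod (CohB1.tensorMod F B) N) L :=
    hhatF_left_eq_mid k H hH n hn.le ((imgS₂ φ).map (twR N))
      (shortExact_map_twR N hN _ (imgS₂_shortExact φ)) (tw _ cI) (tw _ cFB) (tw _ cQ) L hL hQ' i
  have e3 : W4c5asymptcohfn.hhatF k X n i (CohB1.tensorMod (CohB1.tensorMod F B) N) L =
      W4c5asymptcohfn.hhatF k X n i F L :=
    hhatF_congr k n i (tAssoc F B N ≪≫ tIso (Iso.refl F) eBN ≪≫ rUnit F) L
  rw [← e3, ← e2, ← e1]
  exact hhatF_pow_twist k H hH n hn N hN L hL i r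

end Main

end Groth.Agent.Lib.R2H4GenRank
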