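import Mathlib
import Groth.Prelude
import Groth.Agent.Lib.R2H4FinReg
import Groth.Agent.Lib.R2H4GenFinPull
import Groth.Agent.Lib.Helper8FEtPoints
import Groth.Agent.Lib.H9FEtDegA
import Groth.Agent.Lib.R2H4DegAdd
import Groth.Agent.Lib.R2H1VBEndo
import Groth.Agent.Lib.R2H1DoubleCover
import Groth.Agent.Lib.R2H1RiemannHurwitz
set_option backward.isDefEq.respectTransparency.types false

/-!
Fibre cardinality of finite etale and finite unramified covers: card_fibre_of_isSepClosed (fibre of a finite etale morphism over a point with separably closed residue field has finrank many points), main (finite surjective unramified morphism of regular integral schemes of finite type over an algebraically closed field: every closed fibre has exactly [K(Y):K(X)] points).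
-/

set_option autoImplicit false
set_option linter.style.haveILetI false
set_option linter.unusedSectionVars false
universe u v

open CategoryTheory CategoryTheory.Limits AlgebraicGeometry TopologicalSpace Opposite

namespace Groth.Agent.Lib.R2H1.UnrFibreCard

section Part1

open CategoryTheory CategoryTheory.Limits AlgebraicGeometry TopologicalSpace

section Main

/-- the number of points of a fibre of a finite étale morphism over a point whose residue field is
separably closed is the degree -/
theorem card_fibre_of_isSepClosed {X Y : Scheme.{u}} (π : Y ⟶ X) [IsFinite π] [Etale π] (p : X)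
    [IsSepClosed (X.residueField p)] :
    Nat.card {q : Y // π.base q = p} = π.finrank p := by
  have h1 := Groth.Agent.Lib.Helper8FEtPoints.card_pullback (Ω := X.residueField p) π
    (X.fromSpecResidueField p)
  have h2 : ∀ z, (X.fromSpecResidueField p) z = p := fun z =>
    Scheme.fromSpecResidueField_apply p z
  rw [h2] at h1
  rw [← h1]
  exact Nat.card_congr (π.fiberHomeo p).symm.toEquiv

/-- a finite surjective unramified morphism of regular integral schemes of finite type over an
algebraically closed field has exactly `deg` points in every closed fibre -/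
theorem main (k : Type u) [Field k] [IsAlgClosed k]
    (X Y : Scheme.{u}) [X.Over (Spec (CommRingCat.of k))] [Y.Over (Spec (CommRingCat.of k))]
    [IsIntegral X] [IsIntegral Y]
    [LocallyOfFiniteType (X ↘ (Spec (CommRingCat.of k)))]
    [LocallyOfFiniteType (Y ↘ (Spec (CommRingCat.of k)))]
    (hregX : ∀ x : X, IsRegularLocalRing (X.presheaf.stalk x))
    (hregY : ∀ y : Y, IsRegularLocalRing (Y.presheaf.stalk y))
    (π : Y ⟶ X)
    [AlgebraicGeometry.IsFinite π] [AlgebraicGeometry.Surjective π]
    [AlgebraicGeometry.FormallyUnramified π]
    (e : π.base (genericPoint Y) = genericPoint X) (p : X) (hp : IsClosed ({p} : Set X)) :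
    Nat.card {q : Y // π.base q = p} =
      Models.homDegree (X.presheaf.stalkSpecializes (specializes_of_eq e) ≫
        π.stalkMap (genericPoint Y)).hom := by
  haveI : IsLocallyNoetherian X :=
    LocallyOfFiniteType.isLocallyNoetherian (X ↘ Spec (CommRingCat.of k))
  haveI : IsLocallyNoetherian Y :=
    LocallyOfFiniteType.isLocallyNoetherian (Y ↘ Spec (CommRingCat.of k))
  haveI : Flat π := by
    refine Groth.Agent.Lib.R2H4FinReg.main π hregY hregX fun Z hZ => ?_
    rw [irreducibleComponents_eq_singleton, Set.mem_singleton_iff] at hZ
    rw [hZ, Set.image_univ_of_surjective π.surjective, closure_univ,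
      irreducibleComponents_eq_singleton]
    rfl
  haveI : LocallyOfFinitePresentation π :=
    LocallyOfFinitePresentation.iff_locallyOfFiniteType.mpr inferInstance
  haveI : Etale π := Etale.of_formallyUnramified_of_flat π
  -- the residue field at `p`
  have hb := Groth.Agent.Lib.R2H1.VBEndo.resMap_bijective k (X ↘ Spec (CommRingCat.of k)) p hp
  haveI : IsAlgClosed (X.residueField p) :=
    IsAlgClosed.of_ringEquiv k _ (RingEquiv.ofBijective _ hb)
  rw [card_fibre_of_isSepClosed π p]
  -- the rank is constant
  have hlc := Scheme.Hom.isLocallyConstant_finrank π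
  have hrk : ∀ y : X, π.finrank y = π.finrank (genericPoint X) := fun y =>
    hlc.apply_eq_of_preconnectedSpace _ _
  have hrank := Groth.Agent.Lib.H9FEtDegA.rank_of_finrank_eq π _ hrk
  have h3 := (Groth.Agent.Lib.R2H4DegAdd.stalk_facts hrank (genericPoint X)).2.2
  have hpos := Groth.Agent.Lib.R2H1.RiemannHurwitz.residueDegree_pos_of_isFinite π (genericPoint Y)
  have h4 := Groth.Agent.Lib.R2H4GenFinPull.finrank_stalk_pushO_generic π e _ rfl hpos
  rw [hrk p, ← h3]
  rw [h4]
  exact (Groth.Agent.Lib.R2H1.DoubleCover.finrank_functionField_eq_residueDegree π e).symm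

end Main

end Part1

end Groth.Agent.Lib.R2H1.UnrFibreCard
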