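import Mathlib
import Groth.Agent.Lib.R2H1VBHiggs
set_option backward.isDefEq.respectTransparency.types false

/-!
Twisted (Higgs) pairs on curves, part B: exists_invariant_twist (untwisted image of a twisted endomorphism is invariant), exists_ker_im' (kernel/image decomposition with exactness), s16003 (deg L >= 0 for a semistable pair with nonzero field), exists_invariant_ker_im (kernel and image of a morphism of twisted pairs are invariant), s16002.
-/

set_option autoImplicit false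
set_option linter.style.haveILetI false
set_option linter.unusedSectionVars false
universe u v

open CategoryTheory CategoryTheory.Limits AlgebraicGeometry TopologicalSpace Opposite

namespace Groth.Agent.Lib.R2H1.VBHiggsB

section Part1

open Groth.Agent.Lib.R2H1.VBSub Groth.Agent.Lib.R2H1.VBRankTwo Groth.Agent.Lib.R2H1.VBSlopeB
open Groth.Agent.Lib.R2H1.VBSat Groth.Agent.Lib.R2H1.CurveEuler Groth.Agent.Lib.R2H1.VBHZero
open Groth.Agent.Lib.R2H1.VBTwist Groth.Agent.Lib.R2H1.VBTwistB Groth.Agent.Lib.R2H1.CurveDegSec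
open Groth.Agent.Lib.R2H1.VBDestab Groth.Agent.Lib.R2H1.DegCartier Groth.Agent.Lib.R2H1.VBHiggs
open Groth.Agent.Lib.Helper21.ModTensor3 Groth.Agent.Lib.Helper21.ModTensor5
  Groth.Agent.Lib.Helper21.ModTensor6 Groth.Agent.Lib.Helper21.ModTensor7

section Site
variable {C : Type u} [SmallCategory C] {J : GrothendieckTopology C} (O : Sheaf J CommRingCat.{u})

/-- the image of a twisted endomorphism, untwisted, is an invariant submodule -/
theorem exists_invariant_twist_site {E I L L' : ModSite.Mod O}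
    (e' : ((ModSite.tensorBi O).obj L').obj L ≅ ModSite.unit O)
    (p : E ⟶ I) (j : I ⟶ ((ModSite.tensorBi O).obj E).obj L) (hj : Mono j) :
    ∃ (j' : ((ModSite.tensorBi O).obj I).obj L' ⟶ E)
      (χ : ((ModSite.tensorBi O).obj I).obj L' ⟶
        ((ModSite.tensorBi O).obj (((ModSite.tensorBi O).obj I).obj L')).obj L),
      Mono j' ∧ χ ≫ (tR O L).map j' = j' ≫ p ≫ j := by
  haveI := hj
  haveI : (tR O L).IsEquivalence := isEquivalence_tR_of_inverse O L L' (brdApp O L L' ≪≫ e')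
  let aI : (tR O L).obj (((ModSite.tensorBi O).obj I).obj L') ≅ I :=
    (tLTensorIso O I L').app L ≪≫ (tL O I).mapIso e' ≪≫ Groth.Agent.Lib.Helper21.Dual.rU O I
  refine ⟨(tR O L).preimage (aI.hom ≫ j), (tR O L).preimage (aI.hom ≫ j) ≫ p ≫ aI.inv, ?_, ?_⟩
  · haveI : Mono ((tR O L).map ((tR O L).preimage (aI.hom ≫ j))) := by
      rw [(tR O L).map_preimage]
      infer_instance
    exact (tR O L).mono_of_mono_map inferInstance
  · rw [(tR O L).map_preimage]
    simp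

end Site

section A
variable {X : Scheme.{u}}

theorem exists_invariant_twist {E I L L' : X.Modules}
    (e' : CohB1.tensorMod L' L ≅ Coh.structureModule X)
    (p : E ⟶ I) (j : I ⟶ CohB1.tensorMod E L) (hj : Mono j) :
    ∃ (j' : CohB1.tensorMod I L' ⟶ E)
      (χ : CohB1.tensorMod I L' ⟶ CohB1.tensorMod (CohB1.tensorMod I L') L),
      Mono j' ∧ χ ≫ (CohB1.sheafifyMod X).map (MonoidalCategoryStruct.whiskerRight (C := CohB1.PMod X) j'.val (CohB1.toPMod L)) = j' ≫ p ≫ j :=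
  exists_invariant_twist_site X.sheaf e' p j hj

end A

variable (k : Type u) [Field k] (X : Scheme.{u}) [X.Over (Spec (CommRingCat.of k))]
    [IsProper (X ↘ (Spec (CommRingCat.of k)))] [IsIntegral X]

/-- kernel/image decomposition with exactness -/
theorem exists_ker_im' (hdim : topologicalKrullDim X = 1)
    (hreg : ∀ x : X, IsRegularLocalRing (X.presheaf.stalk x))
    {E F : X.Modules} {r s : ℕ} (hE : FlatMod.IsFinLocFreeOfRank r E)
    (hF : FlatMod.IsFinLocFreeOfRank s F) (f : E ⟶ F) :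
    ∃ (K I : X.Modules) (a : K ⟶ E) (p : E ⟶ I) (j : I ⟶ F) (r₀ r₁ : ℕ) (w : a ≫ p = 0),
      (ShortComplex.mk a p w).ShortExact ∧ Mono j ∧ p ≫ j = f ∧
      FlatMod.IsFinLocFreeOfRank r₀ K ∧ FlatMod.IsFinLocFreeOfRank r₁ I ∧ r = r₀ + r₁ ∧
      Curv2.deg k X E r = Curv2.deg k X K r₀ + Curv2.deg k X I r₁ ∧
      (r₁ = 0 → f = 0) ∧ r₁ ≤ s := by
  haveI := isNoetherian_of_proper k X
  have cE := Groth.Agent.Lib.R2H1.DegTensor.isCoh_of_rank' hE
  have cF := Groth.Agent.Lib.R2H1.DegTensor.isCoh_of_rank' hF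
  have lE := Groth.Agent.Lib.R2H4DegAdd.isFinLocFree_of_rank hE
  have lF := Groth.Agent.Lib.R2H4DegAdd.isFinLocFree_of_rank hF
  have cQ : Coh.IsCoh (cokernel f) := Groth.Agent.Lib.R2H2.NilFilt.isCoh_cokernel cE cF f
  have cI : Coh.IsCoh (Abelian.image f) :=
    Groth.Agent.Lib.R2H2.PdSheaf.isCoh_kernel cF cQ (cokernel.π f)
  have cK : Coh.IsCoh (kernel (Abelian.factorThruImage f)) :=
    Groth.Agent.Lib.R2H2.PdSheaf.isCoh_kernel cE cI (Abelian.factorThruImage f)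
  obtain ⟨r₁, hI⟩ := exists_rank_of_mono hdim.le hreg F lF (Abelian.image f) cI
    (Abelian.image.ι f)
  obtain ⟨r₀, hK⟩ := exists_rank_of_mono hdim.le hreg E lE _ cK
    (kernel.ι (Abelian.factorThruImage f))
  let S : ShortComplex X.Modules := ShortComplex.mk (kernel.ι (Abelian.factorThruImage f))
    (Abelian.factorThruImage f) (kernel.condition _)
  have hS : S.ShortExact :=
    { exact := ShortComplex.exact_kernel _
      mono_f := inferInstanceAs (Mono (kernel.ι (Abelian.factorThruImage f)))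
      epi_g := inferInstanceAs (Epi (Abelian.factorThruImage f)) }
  have hrk : r = r₀ + r₁ := Groth.Agent.Lib.R2H4DegAdd.rank_add S hS r₀ r r₁ hK hE hI
  have hdeg := Groth.Agent.Lib.R2H4DegAdd.main k X S hS r₀ r r₁ hK hE hI
  refine ⟨_, _, kernel.ι (Abelian.factorThruImage f), Abelian.factorThruImage f,
    Abelian.image.ι f, r₀, r₁, kernel.condition _, hS, inferInstance,
    Abelian.image.fac f, hK, hI, hrk, hdeg, ?_, ?_⟩
  · intro h1
    subst h1
    have hz : IsZero (Abelian.image f) :=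
      Groth.Agent.Lib.R2H2.AmpleElt.isZero_of_rank_zero hI
    rw [← Abelian.image.fac f, hz.eq_of_tgt (Abelian.factorThruImage f) 0, zero_comp]
  · exact rank_le_of_mono hI hF (Abelian.image.ι f)

/-- S16003 core -/
theorem s16003 (hdim : topologicalKrullDim X = 1)
    (hreg : ∀ x : X, IsRegularLocalRing (X.presheaf.stalk x))
    (L : X.Modules) (hL : PicF.IsInvertible L)
    (r : ℕ) (hr : 0 < r) (E : X.Modules) (hE : FlatMod.IsFinLocFreeOfRank r E)
    (φ : E ⟶ CohB1.tensorMod E L)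
    (hss : (∀ (G : X.Modules) (n : ℕ) (j : G ⟶ E) (χ : G ⟶ CohB1.tensorMod G L), Mono j → 0 < n →
      FlatMod.IsFinLocFreeOfRank n G →
      χ ≫ (CohB1.sheafifyMod X).map (MonoidalCategoryStruct.whiskerRight (C := CohB1.PMod X) j.val (CohB1.toPMod L)) = j ≫ φ →
      Curv2.deg k X G n * (r : ℤ) ≤ Curv2.deg k X E r * (n : ℤ)))
    (hφ : φ ≠ 0) :
    0 ≤ Curv2.deg k X L 1 := by
  haveI := isNoetherian_of_proper k X
  have hEL : FlatMod.IsFinLocFreeOfRank r (CohB1.tensorMod E L) :=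
    isFinLocFreeOfRank_tensor_invertible r E L hE hL
  obtain ⟨K, I, a, p, j, r₀, r₁, w, hS, hj, hpj, hK, hI, hrk, hdeg, h1, hle⟩ :=
    exists_ker_im' k X hdim hreg hE hEL φ
  haveI := hS.mono_f
  haveI := hj
  have hr₁ : 0 < r₁ := Nat.pos_of_ne_zero fun h => hφ (h1 h)
  obtain ⟨L', hL', ⟨e⟩⟩ := Groth.Agent.Lib.R2H1.InvExists.exists_inverse L hL
  have hL1 := Groth.Agent.Lib.Helper23.SecTw.isFinLocFreeOfRank_one_of_isInvertible _ hL
  have hL'1 := Groth.Agent.Lib.Helper23.SecTw.isFinLocFreeOfRank_one_of_isInvertible _ hL'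
  haveI : (tR X.sheaf L).IsEquivalence := isEquivalence_tR_of_inverse X.sheaf L L' e
  -- the kernel is invariant
  have eK : Curv2.deg k X K r₀ * (r : ℤ) ≤ Curv2.deg k X E r * (r₀ : ℤ) := by
    rcases Nat.eq_zero_or_pos r₀ with h | h
    · subst h
      rw [deg_rank_zero k X hK]
      simp
    · refine hss K r₀ a 0 hS.mono_f h hK ?_
      rw [zero_comp, ← hpj, ← Category.assoc, w, zero_comp]
      rfl
  -- the twisted image is invariant
  obtain ⟨j', χ, hj'mono, hχ⟩ := exists_invariant_twist (brdApp X.sheaf L' L ≪≫ e) p j hj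
  have hG : FlatMod.IsFinLocFreeOfRank r₁ (CohB1.tensorMod I L') :=
    isFinLocFreeOfRank_tensor_invertible r₁ I L' hI hL'
  have eI := hss (CohB1.tensorMod I L') r₁ j' χ hj'mono hr₁ hG (by rw [hχ, hpj])
  have hdegG := Groth.Agent.Lib.R2H1.DegTensor.s7637 k X hdim.le r₁ 1 I L' hI hL'1
  simp only [Nat.cast_one, mul_one, one_mul] at hdegG
  rw [deg_inverse k X hdim hL1 hL'1 e] at hdegG
  rw [hdegG] at eI
  have hrk' : (r : ℤ) = (r₀ : ℤ) + (r₁ : ℤ) := by exact_mod_cast hrk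
  have hr₁Z : (0 : ℤ) < (r₁ : ℤ) := by exact_mod_cast hr₁
  have hrZ : (0 : ℤ) < (r : ℤ) := by exact_mod_cast hr
  by_contra hneg
  push_neg at hneg
  rw [hdeg, hrk'] at eK eI
  rw [hrk'] at hrZ
  nlinarith [mul_pos hr₁Z hrZ, mul_pos (mul_pos hr₁Z hrZ) (neg_pos.mpr hneg)]

end Part1

section Part2

open Groth.Agent.Lib.R2H1.VBSub Groth.Agent.Lib.R2H1.VBRankTwo Groth.Agent.Lib.R2H1.VBSlopeB
open Groth.Agent.Lib.R2H1.VBSat Groth.Agent.Lib.R2H1.CurveEuler Groth.Agent.Lib.R2H1.VBHZero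
open Groth.Agent.Lib.R2H1.VBTwist Groth.Agent.Lib.R2H1.VBTwistB Groth.Agent.Lib.R2H1.CurveDegSec
open Groth.Agent.Lib.R2H1.VBDestab Groth.Agent.Lib.R2H1.DegCartier Groth.Agent.Lib.R2H1.VBHiggs
open Groth.Agent.Lib.Helper21.ModTensor3 Groth.Agent.Lib.Helper21.ModTensor5
  Groth.Agent.Lib.Helper21.ModTensor6 Groth.Agent.Lib.Helper21.ModTensor7

section Cat
variable {C : Type*} [Category C] [Abelian C]

/-- kernel and image of a morphism of twisted pairs are invariant -/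
theorem exists_invariant_ker_im (Fn : C ⥤ C) [Fn.Additive] [PreservesFiniteLimits Fn]
    [PreservesFiniteColimits Fn] (T : ShortComplex C) (hT : T.ShortExact) {F : C}
    (j : T.X₃ ⟶ F) [Mono j] (φ : T.X₂ ⟶ Fn.obj T.X₂) (ψ : F ⟶ Fn.obj F)
    (hf : (T.g ≫ j) ≫ ψ = φ ≫ Fn.map (T.g ≫ j)) :
    (∃ χ : T.X₁ ⟶ Fn.obj T.X₁, χ ≫ Fn.map T.f = T.f ≫ φ) ∧
      (∃ χ' : T.X₃ ⟶ Fn.obj T.X₃, χ' ≫ Fn.map j = j ≫ ψ) := by
  haveI := hT.epi_g
  haveI : Mono (Fn.map j) := inferInstance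
  have h : (T.f ≫ φ) ≫ Fn.map T.g = 0 := by
    rw [← cancel_mono (Fn.map j), zero_comp, Category.assoc, Category.assoc, ← Fn.map_comp, ← hf,
      ← Category.assoc, ← Category.assoc, T.zero, zero_comp, zero_comp]
  refine ⟨exists_lift_of_exact Fn T hT (T.f ≫ φ) h, ?_⟩
  have h' : T.f ≫ (φ ≫ Fn.map T.g) = 0 := by rw [← Category.assoc]; exact h
  refine ⟨hT.exact.desc (φ ≫ Fn.map T.g) h', ?_⟩
  rw [← cancel_epi T.g, ← Category.assoc, hT.exact.g_desc, Category.assoc, ← Fn.map_comp, ← hf,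
    Category.assoc]

end Cat

section Site
variable {C : Type u} [SmallCategory C] {J : GrothendieckTopology C} (O : Sheaf J CommRingCat.{u})

theorem exists_invariant_ker_im_site {L L' : ModSite.Mod O}
    (e : ((ModSite.tensorBi O).obj L).obj L' ≅ ModSite.unit O)
    (T : ShortComplex (ModSite.Mod O)) (hT : T.ShortExact) {F : ModSite.Mod O}
    (j : T.X₃ ⟶ F) (hj : Mono j) (φ : T.X₂ ⟶ (tR O L).obj T.X₂) (ψ : F ⟶ (tR O L).obj F)
    (hf : (T.g ≫ j) ≫ ψ = φ ≫ (tR O L).map (T.g ≫ j)) :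
    (∃ χ : T.X₁ ⟶ (tR O L).obj T.X₁, χ ≫ (tR O L).map T.f = T.f ≫ φ) ∧
      (∃ χ' : T.X₃ ⟶ (tR O L).obj T.X₃, χ' ≫ (tR O L).map j = j ≫ ψ) := by
  haveI := hj
  haveI : (tR O L).IsEquivalence := isEquivalence_tR_of_inverse O L L' e
  exact exists_invariant_ker_im (tR O L) T hT j φ ψ hf

end Site

section A
variable {X : Scheme.{u}}

theorem exists_invariant_ker_im_mod {L L' : X.Modules}
    (e : CohB1.tensorMod L L' ≅ Coh.structureModule X)
    {K E I F : X.Modules} (a : K ⟶ E) (p : E ⟶ I) (w : a ≫ p = 0)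
    (hT : (ShortComplex.mk a p w).ShortExact)
    (j : I ⟶ F) (hj : Mono j) (φ : E ⟶ CohB1.tensorMod E L) (ψ : F ⟶ CohB1.tensorMod F L)
    (hf : (p ≫ j) ≫ ψ = φ ≫ (CohB1.sheafifyMod X).map (MonoidalCategoryStruct.whiskerRight (C := CohB1.PMod X) (p ≫ j).val (CohB1.toPMod L))) :
    (∃ χ : K ⟶ CohB1.tensorMod K L, χ ≫ (CohB1.sheafifyMod X).map (MonoidalCategoryStruct.whiskerRight (C := CohB1.PMod X) a.val (CohB1.toPMod L)) = a ≫ φ) ∧
      (∃ χ' : I ⟶ CohB1.tensorMod I L, χ' ≫ (CohB1.sheafifyMod X).map (MonoidalCategoryStruct.whiskerRight (C := CohB1.PMod X) j.val (CohB1.toPMod L)) = j ≫ ψ) :=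
  exists_invariant_ker_im_site X.sheaf e (ShortComplex.mk a p w) hT j hj φ ψ hf

end A

variable (k : Type u) [Field k] (X : Scheme.{u}) [X.Over (Spec (CommRingCat.of k))]
    [IsProper (X ↘ (Spec (CommRingCat.of k)))] [IsIntegral X]

/-- S16002 core -/
theorem s16002 (hdim : topologicalKrullDim X = 1)
    (hreg : ∀ x : X, IsRegularLocalRing (X.presheaf.stalk x))
    (ι : Type) (L : ι → X.Modules) (hL : ∀ i, PicF.IsInvertible (L i))
    (r s : ℕ) (hr : 0 < r) (hs : 0 < s)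
    (E F : X.Modules) (hE : FlatMod.IsFinLocFreeOfRank r E) (hF : FlatMod.IsFinLocFreeOfRank s F)
    (φ : ∀ i, E ⟶ CohB1.tensorMod E (L i)) (ψ : ∀ i, F ⟶ CohB1.tensorMod F (L i))
    (hEss : (∀ (G : X.Modules) (n : ℕ) (j : G ⟶ E), Mono j → 0 < n → FlatMod.IsFinLocFreeOfRank n G →
      (∀ i, ∃ χ : G ⟶ CohB1.tensorMod G (L i), χ ≫ (CohB1.sheafifyMod X).map (MonoidalCategoryStruct.whiskerRight (C := CohB1.PMod X) j.val (CohB1.toPMod (L i))) = j ≫ φ i) →
      Curv2.deg k X G n * (r : ℤ) ≤ Curv2.deg k X E r * (n : ℤ)))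
    (hFss : (∀ (G : X.Modules) (n : ℕ) (j : G ⟶ F), Mono j → 0 < n → FlatMod.IsFinLocFreeOfRank n G →
      (∀ i, ∃ χ : G ⟶ CohB1.tensorMod G (L i), χ ≫ (CohB1.sheafifyMod X).map (MonoidalCategoryStruct.whiskerRight (C := CohB1.PMod X) j.val (CohB1.toPMod (L i))) = j ≫ ψ i) →
      Curv2.deg k X G n * (s : ℤ) ≤ Curv2.deg k X F s * (n : ℤ)))
    (f : E ⟶ F) (hf : ∀ i, f ≫ ψ i = φ i ≫ (CohB1.sheafifyMod X).map (MonoidalCategoryStruct.whiskerRight (C := CohB1.PMod X) f.val (CohB1.toPMod (L i)))) (hne : f ≠ 0) :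
    Curv2.deg k X E r * (s : ℤ) ≤ Curv2.deg k X F s * (r : ℤ) := by
  haveI := isNoetherian_of_proper k X
  obtain ⟨K, I, a, p, j, r₀, r₁, w, hS, hj, hpj, hK, hI, hrk, hdeg, h1, hle⟩ :=
    exists_ker_im' k X hdim hreg hE hF f
  haveI := hS.mono_f
  haveI := hj
  have hr₁ : 0 < r₁ := Nat.pos_of_ne_zero fun h => hne (h1 h)
  subst hpj
  have hinv : ∀ i, (∃ χ : K ⟶ CohB1.tensorMod K (L i), χ ≫ (CohB1.sheafifyMod X).map (MonoidalCategoryStruct.whiskerRight (C := CohB1.PMod X) a.val (CohB1.toPMod (L i))) = a ≫ φ i) ∧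
      (∃ χ' : I ⟶ CohB1.tensorMod I (L i), χ' ≫ (CohB1.sheafifyMod X).map (MonoidalCategoryStruct.whiskerRight (C := CohB1.PMod X) j.val (CohB1.toPMod (L i))) = j ≫ ψ i) := by
    intro i
    obtain ⟨L', hL', ⟨e⟩⟩ := Groth.Agent.Lib.R2H1.InvExists.exists_inverse (L i) (hL i)
    exact exists_invariant_ker_im_mod e a p w hS j hj (φ i) (ψ i) (hf i)
  have eI := hFss I r₁ j hj hr₁ hI (fun i => (hinv i).2)
  have eK : Curv2.deg k X K r₀ * (r : ℤ) ≤ Curv2.deg k X E r * (r₀ : ℤ) := by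
    rcases Nat.eq_zero_or_pos r₀ with h | h
    · subst h
      rw [deg_rank_zero k X hK]
      simp
    · exact hEss K r₀ a hS.mono_f h hK (fun i => (hinv i).1)
  have hrk' : (r : ℤ) = (r₀ : ℤ) + (r₁ : ℤ) := by exact_mod_cast hrk
  have hr₁Z : (0 : ℤ) < (r₁ : ℤ) := by exact_mod_cast hr₁
  have hrZ : (0 : ℤ) < (r : ℤ) := by exact_mod_cast hr
  have hsZ : (0 : ℤ) < (s : ℤ) := by exact_mod_cast hs
  have hr₀Z : (0 : ℤ) ≤ (r₀ : ℤ) := by positivity
  -- deg E * r₁ ≤ deg I * r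
  have e3 : Curv2.deg k X E r * (r₁ : ℤ) ≤ Curv2.deg k X I r₁ * (r : ℤ) := by
    rw [hdeg] at eK ⊢
    rw [hrk'] at eK ⊢
    nlinarith
  refine le_of_mul_le_mul_right ?_ hr₁Z
  nlinarith [mul_le_mul_of_nonneg_right e3 hsZ.le, mul_le_mul_of_nonneg_right eI hrZ.le]

end Part2

end Groth.Agent.Lib.R2H1.VBHiggsB
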