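import Mathlib
import Groth.Agent.Lib.R2H1VBGenusOne
set_option backward.isDefEq.respectTransparency.types false

/-!
Positive line subbundles of degree zero rank two bundles: deg_le_of_ne_zero (nonzero map of invertible modules increases degree), s13934.
-/

set_option autoImplicit false
set_option linter.style.haveILetI false
set_option linter.unusedSectionVars false
universe u v

open CategoryTheory CategoryTheory.Limits AlgebraicGeometry TopologicalSpace Opposite

namespace Groth.Agent.Lib.R2H1.VBPosSub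

section Part1

open Groth.Agent.Lib.R2H1.VBSub Groth.Agent.Lib.R2H1.VBRankTwo Groth.Agent.Lib.R2H1.VBSlopeB
open Groth.Agent.Lib.R2H1.VBSat Groth.Agent.Lib.R2H1.CurveEuler Groth.Agent.Lib.R2H1.VBHZero
open Groth.Agent.Lib.R2H1.VBTwist Groth.Agent.Lib.R2H1.VBTwistB Groth.Agent.Lib.R2H1.CurveDegSec
open Groth.Agent.Lib.R2H1.VBIndecTwo Groth.Agent.Lib.R2H1.VBEndo

variable (k : Type u) [Field k] [IsAlgClosed k] (X : Scheme.{u}) [X.Over (Spec (CommRingCat.of k))]
    [IsProper (X ↘ (Spec (CommRingCat.of k)))] [IsIntegral X]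

/-- a nonzero map between invertible modules does not decrease the degree -/
theorem deg_le_of_ne_zero (hdim : topologicalKrullDim X = 1)
    (hreg : ∀ x : X, IsRegularLocalRing (X.presheaf.stalk x))
    {N L : X.Modules} (hN : PicF.IsInvertible N) (hL : PicF.IsInvertible L)
    (φ : N ⟶ L) (hφ : φ ≠ 0) : Curv2.deg k X N 1 ≤ Curv2.deg k X L 1 := by
  have hN1 := Groth.Agent.Lib.Helper23.SecTw.isFinLocFreeOfRank_one_of_isInvertible _ hN
  have hL1 := Groth.Agent.Lib.Helper23.SecTw.isFinLocFreeOfRank_one_of_isInvertible _ hL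
  haveI : Mono φ := mono_of_rank_one_ne_zero k X hdim hreg hN1 hL1 φ hφ
  exact (deg_le_of_mono_same_rank k X hdim hN1 hL1 φ).1

/-- S13934 core -/
theorem s13934 (hdim : topologicalKrullDim X = 1)
    (hreg : ∀ x : X, IsRegularLocalRing (X.presheaf.stalk x))
    (S : ShortComplex X.Modules) (hS : S.ShortExact)
    (hE : FlatMod.IsFinLocFreeOfRank 2 S.X₂) (hE0 : Curv2.deg k X S.X₂ 2 = 0)
    (hL : PicF.IsInvertible S.X₁) (hM : PicF.IsInvertible S.X₃) (hpos : 0 < Curv2.deg k X S.X₁ 1) :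
    (∀ (N : X.Modules), PicF.IsInvertible N → ∀ j : N ⟶ S.X₂, j ≠ 0 →
        Curv2.deg k X N 1 ≤ Curv2.deg k X S.X₁ 1) ∧
    (∀ (N : X.Modules), PicF.IsInvertible N → ∀ (j : N ⟶ S.X₂), Mono j →
        PicF.IsInvertible (cokernel j) → 0 < Curv2.deg k X N 1 → ∃ φ : N ≅ S.X₁, φ.hom ≫ S.f = j) ∧
    (∀ (N N' : X.Modules), PicF.IsInvertible N → PicF.IsInvertible N' →
        Curv2.deg k X N 1 = 0 → Curv2.deg k X N' 1 = 0 →
        ∀ (a : N ⟶ S.X₂) (b : S.X₂ ⟶ N') (w : a ≫ b = 0), ¬ (ShortComplex.mk a b w).ShortExact) := by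
  haveI := isNoetherian_of_proper k X
  haveI := hS.mono_f
  haveI := hS.epi_g
  have hL1 := Groth.Agent.Lib.Helper23.SecTw.isFinLocFreeOfRank_one_of_isInvertible _ hL
  have hM1 := Groth.Agent.Lib.Helper23.SecTw.isFinLocFreeOfRank_one_of_isInvertible _ hM
  have hdeg : Curv2.deg k X S.X₂ 2 = Curv2.deg k X S.X₁ 1 + Curv2.deg k X S.X₃ 1 :=
    Groth.Agent.Lib.R2H4DegAdd.main k X S hS 1 2 1 hL1 hE hM1
  have hf0 : S.f ≠ 0 := mono_ne_zero_of_isInvertible hL S.f
  -- key: a nonzero map from an invertible module of degree > deg M factors through L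
  have key : ∀ (N : X.Modules), PicF.IsInvertible N → ∀ j : N ⟶ S.X₂,
      Curv2.deg k X S.X₃ 1 < Curv2.deg k X N 1 → ∃ φ : N ⟶ S.X₁, φ ≫ S.f = j := by
    intro N hN j hlt
    have h0 : j ≫ S.g = 0 := by
      by_contra hne
      have := deg_le_of_ne_zero k X hdim hreg hN hM _ hne
      omega
    exact ⟨hS.exact.lift j h0, hS.exact.lift_f j h0⟩
  refine ⟨?_, ?_, ?_⟩
  · intro N hN j hj
    by_cases hlt : Curv2.deg k X S.X₃ 1 < Curv2.deg k X N 1
    · obtain ⟨φ, hφ⟩ := key N hN j hlt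
      have hφ0 : φ ≠ 0 := by
        rintro rfl
        exact hj (by rw [← hφ, zero_comp])
      exact deg_le_of_ne_zero k X hdim hreg hN hL φ hφ0
    · omega
  · intro N hN j hj hQ hNpos
    haveI := hj
    obtain ⟨φ, hφ⟩ := key N hN j (by omega)
    -- the other direction
    have hN1 := Groth.Agent.Lib.Helper23.SecTw.isFinLocFreeOfRank_one_of_isInvertible _ hN
    have hQ1 := Groth.Agent.Lib.Helper23.SecTw.isFinLocFreeOfRank_one_of_isInvertible _ hQ
    let T : ShortComplex X.Modules := ShortComplex.mk j (cokernel.π j) (cokernel.condition j)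
    have hT : T.ShortExact :=
      { exact := ShortComplex.exact_cokernel j
        mono_f := inferInstanceAs (Mono j)
        epi_g := inferInstanceAs (Epi (cokernel.π j)) }
    have hdegT : Curv2.deg k X S.X₂ 2 = Curv2.deg k X N 1 + Curv2.deg k X (cokernel j) 1 :=
      Groth.Agent.Lib.R2H4DegAdd.main k X T hT 1 2 1 hN1 hE hQ1
    have h0 : S.f ≫ cokernel.π j = 0 := by
      by_contra hne
      have := deg_le_of_ne_zero k X hdim hreg hL hQ _ hne
      omega
    let ψ : S.X₁ ⟶ N := hT.exact.lift S.f h0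
    have hψ : ψ ≫ j = S.f := hT.exact.lift_f S.f h0
    have h1 : φ ≫ ψ = 𝟙 N := by
      rw [← cancel_mono j, Category.assoc, hψ, hφ, Category.id_comp]
    have h2 : ψ ≫ φ = 𝟙 S.X₁ := by
      rw [← cancel_mono S.f, Category.assoc, hφ, hψ, Category.id_comp]
    exact ⟨⟨φ, ψ, h1, h2⟩, hφ⟩
  · intro N N' hN hN' hdN hdN' a b w hT
    haveI := hT.mono_f
    have h0 : S.f ≫ b = 0 := by
      by_contra hne
      have := deg_le_of_ne_zero k X hdim hreg hL hN' _ hne
      omega
    have hlift : hT.exact.lift S.f h0 ≫ a = S.f := hT.exact.lift_f S.f h0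
    have hne : hT.exact.lift S.f h0 ≠ 0 := by
      intro h
      apply hf0
      rw [← hlift, h, zero_comp]
    have := deg_le_of_ne_zero k X hdim hreg hL hN _ hne
    omega

end Part1

end Groth.Agent.Lib.R2H1.VBPosSub
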