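import Mathlib
import Groth.Prelude
import Groth.Agent.Lib.R2H1VBTwistB
import Groth.Agent.Lib.R2H1PointTwist
import Groth.Agent.Lib.R2H1DegCartier
import Groth.Agent.Lib.R2H1VBIndecTwo
import Groth.Agent.Lib.R2H1SerreDual
import Groth.Agent.Lib.R2H1InvExists
import Groth.Agent.Lib.R2H1PicLaw
set_option backward.isDefEq.respectTransparency.types false

/-!
helper1 (run 2): SECTIONS OF SLOPE-SEMISTABLE BUNDLES ON CURVES. exists_hom_ne_zero_of_hom (nonzero A -> Q' tensor L gives nonzero Q tensor A -> L when Q tensor Q' iso O), mono_of_hom_ne_zero (nonzero map from a rank one bundle to a vector bundle on a regular integral proper curve is mono), exists_invertible_sub (rank r bundle with more than r n sections contains an invertible module of degree n: sections vanishing n times at a point), h0_le_of_semistable (S18831: h0(G) <= r max(floor(mu)+1, 0) for slope-semistable G of rank r).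
-/

set_option autoImplicit false
set_option linter.style.haveILetI false
set_option linter.unusedSectionVars false
universe u v

open CategoryTheory CategoryTheory.Limits AlgebraicGeometry TopologicalSpace Opposite

namespace Groth.Agent.Lib.R2H1.VBSlopeH0

section Part1

open CategoryTheory CategoryTheory.Limits AlgebraicGeometry TopologicalSpace Opposite
open Groth.Agent.Lib.R2H1.VBSub Groth.Agent.Lib.R2H1.VBRankTwo Groth.Agent.Lib.R2H1.VBSlopeB
open Groth.Agent.Lib.R2H1.VBSat Groth.Agent.Lib.R2H1.CurveEuler Groth.Agent.Lib.R2H1.VBHZero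
open Groth.Agent.Lib.R2H1.VBTwist
open Groth.Agent.Lib.Helper21.ModTensor3 Groth.Agent.Lib.Helper21.ModTensor5
  Groth.Agent.Lib.Helper21.ModTensor6 Groth.Agent.Lib.Helper21.ModTensor7
open Groth.Agent.Lib.R2H1.PicLaw Groth.Agent.Lib.R2H1.PointTwist

section Site
variable {C : Type u} [SmallCategory C] {J : GrothendieckTopology C} (O : Sheaf J CommRingCat.{u})

/-- a nonzero map `A ⟶ Q' ⊗ L` gives a nonzero map `Q ⊗ A ⟶ L` when `Q ⊗ Q' ≅ O` -/
theorem exists_hom_ne_zero_of_hom_site {Q Q' A L : ModSite.Mod O}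
    (e : ((ModSite.tensorBi O).obj Q).obj Q' ≅ ModSite.unit O)
    (ψ : A ⟶ ((ModSite.tensorBi O).obj Q').obj L) (hψ : ψ ≠ 0) :
    ∃ ψ' : ((ModSite.tensorBi O).obj Q).obj A ⟶ L, ψ' ≠ 0 := by
  let e' : ((ModSite.tensorBi O).obj Q').obj Q ≅ ModSite.unit O := brdApp O Q' Q ≪≫ e
  haveI := faithful_tL_of_inverse O Q' Q e'
  let iso2 : tL O Q' ⋙ tL O Q ≅ 𝟭 _ :=
    (tLTensorIso O Q Q').symm ≪≫ (ModSite.tensorBi O).mapIso e ≪≫ tLUnitIso O
  have h1 : (tL O Q).map ψ ≠ 0 := by
    intro h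
    apply hψ
    apply (tL O Q).map_injective
    rw [h, CategoryTheory.Functor.map_zero]
  refine ⟨(tL O Q).map ψ ≫ iso2.hom.app L, fun h => h1 ?_⟩
  rw [← cancel_mono (iso2.hom.app L), h, zero_comp]

end Site

section A
variable {X : Scheme.{u}}

theorem exists_hom_ne_zero_of_hom {Q Q' A L : X.Modules}
    (e : CohB1.tensorMod Q Q' ≅ Coh.structureModule X)
    (ψ : A ⟶ CohB1.tensorMod Q' L) (hψ : ψ ≠ 0) :
    ∃ ψ' : CohB1.tensorMod Q A ⟶ L, ψ' ≠ 0 :=
  exists_hom_ne_zero_of_hom_site X.sheaf e ψ hψ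

end A

section Curve

variable (k : Type u) [Field k] [IsAlgClosed k] (X : Scheme.{u}) [X.Over (Spec (CommRingCat.of k))]
    [IsIntegral X] [IsProper (X ↘ (Spec (CommRingCat.of k)))]

include k in
/-- a nonzero map from an invertible module to a vector bundle is a monomorphism -/
theorem mono_of_hom_ne_zero (hdim : topologicalKrullDim X = 1)
    (hreg : ∀ x : X, IsRegularLocalRing (X.presheaf.stalk x))
    {M G : X.Modules} {r : ℕ} (hM : FlatMod.IsFinLocFreeOfRank 1 M)
    (hG : FlatMod.IsFinLocFreeOfRank r G) (ψ : M ⟶ G) (hψ : ψ ≠ 0) : Mono ψ := by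
  obtain ⟨K, I, a, p, j, ρ₀, ρ₁, ha, hp, hj, hpj, hap, hK, hI, hrk, hdeg, h0, h1, hle⟩ :=
    exists_ker_im k X hdim hreg hM hG ψ
  have : ρ₁ ≠ 0 := fun h => hψ (h1 h)
  exact h0 (by omega)

/-- a vector bundle of rank `r` with more than `r n` independent sections contains an invertible
module of degree `n` -/
theorem exists_invertible_sub (hdim : topologicalKrullDim X = 1)
    (hreg : ∀ x : X, IsRegularLocalRing (X.presheaf.stalk x)) (r : ℕ) :
    ∀ (n : ℕ) (G : X.Modules), FlatMod.IsFinLocFreeOfRank r G →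
      r * n < Module.finrank k (Coh.HH X G 0) →
      ∃ (M : X.Modules) (ψ : M ⟶ G), PicF.IsInvertible M ∧ Curv2.deg k X M 1 = (n : ℤ) ∧
        ψ ≠ 0 := by
  haveI := isNoetherian_of_proper k X
  intro n
  induction n with
  | zero =>
    intro G hG h
    have cG := Groth.Agent.Lib.R2H1.DegTensor.isCoh_of_rank' hG
    obtain ⟨s, hs⟩ := Groth.Agent.Lib.R2H1.GenusZero.exists_section_of_pos k X G cG (by omega)
    exact ⟨Coh.structureModule X, s,
      Groth.Agent.Lib.Helper23.TensorUnit.isInvertible_structureModule X,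
      by rw [deg_structure k X]; simp, hs⟩
  | succ n ih =>
    intro G hG h
    haveI : JacobsonSpace X := LocallyOfFiniteType.jacobsonSpace (X ↘ (Spec (CommRingCat.of k)))
    obtain ⟨P, -, hP⟩ := nonempty_inter_closedPoints (Z := (Set.univ : Set X))
      ⟨(inferInstance : Nonempty X).some, trivial⟩ isOpen_univ.isLocallyClosed
    have hP' : IsClosed ({P} : Set X) := hP
    have hIP : PicF.IsInvertible
        (ClSub.idealMod (Scheme.IdealSheafData.vanishingIdeal ⟨{P}, hP'⟩)) :=
      Groth.Agent.Helper18Cart.isInvertible_of_isEffCartier _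
        (point_isEffCartier k X hdim hreg P hP')
    have hIP1 := Groth.Agent.Lib.Helper23.SecTw.isFinLocFreeOfRank_one_of_isInvertible _ hIP
    have hG' := Groth.Agent.Lib.R2H1.DegCartier.isFinLocFreeOfRank_tensor_invertible r G _ hG hIP
    have hb := (h0_point_twist_bounds k X hdim hreg r G hG P hP').2
    have hmul : r * (n + 1) = r * n + r := by ring
    obtain ⟨M', ψ', hM', dM', hψ'⟩ := ih _ hG' (by omega)
    obtain ⟨N, hN, ⟨θ⟩⟩ := Groth.Agent.Lib.R2H1.InvExists.exists_inverse _ hIP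
    have hN1 := Groth.Agent.Lib.Helper23.SecTw.isFinLocFreeOfRank_one_of_isInvertible _ hN
    have hψ'' : ψ' ≫ (commI G (ClSub.idealMod
        (Scheme.IdealSheafData.vanishingIdeal ⟨{P}, hP'⟩))).hom ≠ 0 := by
      intro h0
      apply hψ'
      rw [← cancel_mono (commI G (ClSub.idealMod
        (Scheme.IdealSheafData.vanishingIdeal ⟨{P}, hP'⟩))).hom, h0, zero_comp]
    obtain ⟨φ, hφ⟩ := exists_hom_ne_zero_of_hom (Q := N) (commI N _ ≪≫ θ) _ hψ''
    refine ⟨CohB1.tensorMod N M', φ,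
      Groth.Agent.Lib.Helper23.SecTw.isInvertible_tensorMod hN hM', ?_, hφ⟩
    have dN : Curv2.deg k X N 1 = 1 := by
      rw [deg_inverse k X hdim hIP1 hN1 θ,
        Groth.Agent.Lib.R2H1.SerreDual.deg_pointIdeal k X hdim hreg P hP']
      norm_num
    rw [Groth.Agent.Lib.R2H1.VBIndecTwo.deg_tensor_invertible k X hdim hN hM', dM', dN]
    push_cast
    ring

/-- **sections of slope-semistable bundles**: `h⁰(G) ≤ r · max(⌊μ⌋ + 1, 0)` -/
theorem h0_le_of_semistable (hdim : topologicalKrullDim X = 1)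
    (hreg : ∀ x : X, IsRegularLocalRing (X.presheaf.stalk x))
    (r : ℕ) (hr : 0 < r) (G : X.Modules) (hG : FlatMod.IsFinLocFreeOfRank r G)
    (hss : ModFun.IsSlopeSemistable k X G r) :
    (Module.finrank k (Coh.HH X G 0) : ℤ) ≤
      (r : ℤ) * max (⌊(Curv2.deg k X G r : ℚ) / (r : ℚ)⌋ + 1) 0 := by
  by_contra hcon
  push_neg at hcon
  have hN0 : (0 : ℤ) ≤ max (⌊(Curv2.deg k X G r : ℚ) / (r : ℚ)⌋ + 1) 0 := le_max_right _ _
  obtain ⟨n, hn⟩ := Int.eq_ofNat_of_zero_le hN0
  rw [hn] at hcon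
  have h1 : r * n < Module.finrank k (Coh.HH X G 0) := by exact_mod_cast hcon
  obtain ⟨M, ψ, hM, dM, hψ⟩ := exists_invertible_sub k X hdim hreg r n G hG h1
  have hM1 := Groth.Agent.Lib.Helper23.SecTw.isFinLocFreeOfRank_one_of_isInvertible M hM
  haveI := mono_of_hom_ne_zero k X hdim hreg hM1 hG ψ hψ
  have h2 := hss M 1 ψ inferInstance one_pos hM1
  rw [dM] at h2
  have hrq : (0 : ℚ) < (r : ℚ) := by exact_mod_cast hr
  have h3 : (Curv2.deg k X G r : ℚ) / (r : ℚ) < ((n : ℤ) : ℚ) := by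
    rw [← hn]
    refine lt_of_lt_of_le (Int.lt_floor_add_one _) ?_
    exact_mod_cast le_max_left _ _
  rw [div_lt_iff₀ hrq] at h3
  have h4 : Curv2.deg k X G r < (n : ℤ) * (r : ℤ) := by exact_mod_cast h3
  simp only [Nat.cast_one, mul_one] at h2
  linarith

end Curve

end Part1

end Groth.Agent.Lib.R2H1.VBSlopeH0
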