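import Mathlib
import Groth.Prelude.Def_FlatCA
import Groth.Agent.Lib.Helper13WeakAss

/-!
# R2H1WeakAssFin: weakly associated primes and finite (flat) ring maps

* `mem_weakAss_of_injective`, `mem_weakAss_localizedModule`, `mem_weakAss_of_localizedModule`,
  `mem_weakAss_of_finsupp`
* `eq_of_le_of_liesOver` (incomparability)
* `under_mem_weakAss_of_finite`: for a finite ring map the contraction of a weakly associated prime
  of a `B`-module is weakly associated to it as an `A`-module
* `mem_weakAss_of_tensor_finite_flat`: `WeakAss_A (F ⊗ M) ⊆ WeakAss_A M` for `F` finite flat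
* `mem_map_ann_of_tmul_eq_zero`, `mem_weakAss_tensor_of_mem` (flat integral going up)
-/

set_option autoImplicit false
set_option linter.unusedSectionVars false
set_option linter.style.haveILetI false

universe u

namespace Groth.Agent.Lib.R2H1.WeakAssFin

section
open Groth.Agent.Helper13WeakAss TensorProduct

section Basic

variable {R : Type u} [CommRing R]

theorem mem_weakAss_of_injective {M M' : Type u} [AddCommGroup M] [Module R M] [AddCommGroup M']
    [Module R M'] (e : M →ₗ[R] M') (he : Function.Injective e) {p : Ideal R}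
    (hp : p ∈ FlatCA.weakAss R M) : p ∈ FlatCA.weakAss R M' := by
  obtain ⟨m, hm⟩ := hp
  refine ⟨e m, ?_⟩
  have : (Submodule.span R {e m}).annihilator = (Submodule.span R {m}).annihilator := by
    ext a
    rw [mem_ann_iff, mem_ann_iff, ← map_smul]
    exact ⟨fun h => he (h.trans (map_zero e).symm), fun h => by rw [h, map_zero]⟩
  rw [this]; exact hm

theorem mem_weakAss_localizedModule {M : Type u} [AddCommGroup M] [Module R M] (p : Ideal R)
    [p.IsPrime] (hp : p ∈ FlatCA.weakAss R M) :
    p ∈ FlatCA.weakAss R (LocalizedModule p.primeCompl M) := by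
  obtain ⟨m, hm⟩ := hp
  refine ⟨LocalizedModule.mk m 1, ?_⟩
  refine minimalPrimes_of_le_of_le hm ?_ ?_
  · intro a ha
    rw [mem_ann_iff] at ha ⊢
    rw [smul_mk_eq_zero_iff']
    exact ⟨1, by rw [OneMemClass.coe_one, one_mul]; exact ha⟩
  · intro a ha
    rw [mem_ann_iff, smul_mk_eq_zero_iff'] at ha
    obtain ⟨u, hu⟩ := ha
    have h1 : (u : R) * a ∈ (Submodule.span R {m}).annihilator := (mem_ann_iff m _).mpr hu
    have h2 : (u : R) * a ∈ p := hm.1.2 h1
    exact (‹p.IsPrime›.mem_or_mem h2).resolve_left u.2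

theorem mem_weakAss_of_localizedModule {M : Type u} [AddCommGroup M] [Module R M] (p : Ideal R)
    [p.IsPrime] (hp : p ∈ FlatCA.weakAss R (LocalizedModule p.primeCompl M)) :
    p ∈ FlatCA.weakAss R M := by
  obtain ⟨x, hx⟩ := hp
  induction x using LocalizedModule.induction_on with
  | h m s =>
  refine ⟨m, ⟨hx.1.1, ?_⟩, ?_⟩
  · intro a ha
    apply hx.1.2
    rw [mem_ann_iff] at ha ⊢
    rw [smul_mk_eq_zero_iff']
    exact ⟨1, by rw [OneMemClass.coe_one, one_mul]; exact ha⟩
  · intro P hP hPp
    apply hx.2 ⟨hP.1, ?_⟩ hPp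
    intro a ha
    rw [mem_ann_iff, smul_mk_eq_zero_iff'] at ha
    obtain ⟨u, hu⟩ := ha
    have h1 : (u : R) * a ∈ (Submodule.span R {m}).annihilator := (mem_ann_iff m _).mpr hu
    have h2 : (u : R) * a ∈ P := hP.2 h1
    have hu' : (u : R) ∉ P := fun h => u.2 (hPp h)
    exact (hP.1.mem_or_mem h2).resolve_left hu'

theorem mem_weakAss_of_finsupp {M : Type u} {ι : Type u} [Finite ι] [AddCommGroup M] [Module R M]
    (p : Ideal R) (hp : p ∈ FlatCA.weakAss R (ι →₀ M)) : p ∈ FlatCA.weakAss R M := by
  classical
  haveI := Fintype.ofFinite ι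
  obtain ⟨x, hx⟩ := hp
  have hprime := hx.1.1
  have hann : ∀ a : R, a ∈ (Submodule.span R {x}).annihilator ↔
      ∀ i, a ∈ (Submodule.span R {x i}).annihilator := by
    intro a
    rw [mem_ann_iff]
    simp only [mem_ann_iff]
    constructor
    · intro h i
      have := congrArg (fun y : ι →₀ M => y i) h
      simpa using this
    · intro h
      ext i
      simpa using h i
  -- some component has annihilator inside p
  have hex : ∃ i, (Submodule.span R {x i}).annihilator ≤ p := by
    by_contra hcon0
    have hcon : ∀ i, ¬ (Submodule.span R {x i}).annihilator ≤ p := fun i h => hcon0 ⟨i, h⟩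
    have hch : ∀ i, ∃ a, a ∈ (Submodule.span R {x i}).annihilator ∧ a ∉ p := fun i =>
      Set.not_subset.mp (hcon i)
    choose a ha hap using hch
    have hprod : ∏ i, a i ∈ (Submodule.span R {x}).annihilator := by
      rw [hann]
      intro i
      rw [← Finset.mul_prod_erase Finset.univ a (Finset.mem_univ i)]
      exact Ideal.mul_mem_right _ _ (ha i)
    have h1 : ∏ i, a i ∈ p := hx.1.2 hprod
    obtain ⟨i, -, hi⟩ := (hprime.prod_mem_iff).mp h1
    exact hap i hi
  obtain ⟨i, hi⟩ := hex
  refine ⟨x i, ⟨hprime, hi⟩, ?_⟩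
  intro P hP hPp
  apply hx.2 ⟨hP.1, ?_⟩ hPp
  intro a ha
  exact hP.2 ((hann a).mp ha i)

end Basic
end

section
open Groth.Agent.Helper13WeakAss TensorProduct

section FiniteMap

variable {A B : Type u} [CommRing A] [CommRing B] [Algebra A B]

/-- incomparability for integral extensions -/
theorem eq_of_le_of_liesOver [Algebra.IsIntegral A B] (p : Ideal A) (t t' : Ideal B) [t.IsPrime]
    [t.LiesOver p] [t'.LiesOver p] (h : t ≤ t') : t = t' := by
  by_contra hne
  have hlt : t < t' := lt_of_le_of_ne h hne
  have := Ideal.IsIntegral.comap_lt_comap (R := A) hlt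
  rw [← Ideal.under_def, ← Ideal.under_def, ← Ideal.over_def t p, ← Ideal.over_def t' p] at this
  exact lt_irrefl _ this

/-- Weakly associated primes and finite ring maps: contraction of a weakly associated prime is
weakly associated. -/
theorem under_mem_weakAss_of_finite [Module.Finite A B]
    (N : Type u) [AddCommGroup N] [Module B N] [Module A N] [IsScalarTower A B N]
    (p : Ideal A) [p.IsPrime] (t : Ideal B) [t.IsPrime] [t.LiesOver p]
    (ht : t ∈ FlatCA.weakAss B N) : p ∈ FlatCA.weakAss A N := by
  classical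
  obtain ⟨z, hz⟩ := ht
  haveI : Algebra.IsIntegral A B := Algebra.IsIntegral.of_finite A B
  have hfin : (p.primesOver B).Finite := Algebra.QuasiFinite.finite_primesOver p
  let s : Finset (Ideal B) := hfin.toFinset.erase t
  have hs : ∀ t' ∈ s, t'.IsPrime ∧ t'.LiesOver p ∧ t' ≠ t := by
    intro t' ht'
    rw [Finset.mem_erase, Set.Finite.mem_toFinset] at ht'
    exact ⟨ht'.2.1, ht'.2.2, ht'.1⟩
  have hf : ∃ f ∈ t, ∀ t' ∈ s, f ∉ t' := by
    by_contra hcon
    have hsub : (t : Set B) ⊆ ⋃ i ∈ (s : Set (Ideal B)), ((fun i : Ideal B => i) i : Set B) := by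
      intro f hf
      by_contra hfn
      apply hcon
      refine ⟨f, hf, fun t' ht' hft' => hfn ?_⟩
      exact Set.mem_biUnion (Finset.mem_coe.mpr ht') hft'
    rw [Ideal.subset_union_prime (f := fun i : Ideal B => i) t t
      (fun i hi _ _ => (hs i hi).1)] at hsub
    obtain ⟨t', ht', htt'⟩ := hsub
    obtain ⟨h1, h2, h3⟩ := hs t' ht'
    exact h3 (eq_of_le_of_liesOver p t t' htt').symm
  obtain ⟨f, hft, hfs⟩ := hf
  obtain ⟨u, hut, k, huk⟩ := exists_notMem_mul_pow_mem hz hft
  refine ⟨u • z, ?_⟩
  have hannB : ∀ b : B, b ∈ (Submodule.span B {u • z}).annihilator → b ∈ t := by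
    intro b hb
    rw [mem_ann_iff, smul_smul] at hb
    have h1 : b * u ∈ (Submodule.span B {z}).annihilator := (mem_ann_iff z _).mpr hb
    have h2 : b * u ∈ t := hz.1.2 h1
    exact (‹t.IsPrime›.mem_or_mem h2).resolve_right hut
  have hcomap : ∀ a : A, a ∈ (Submodule.span A {u • z}).annihilator ↔
      algebraMap A B a ∈ (Submodule.span B {u • z}).annihilator := by
    intro a
    rw [mem_ann_iff, mem_ann_iff, algebraMap_smul]
  refine ⟨⟨inferInstance, ?_⟩, ?_⟩
  · intro a ha
    have h1 := hannB _ ((hcomap a).mp ha)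
    rw [Ideal.over_def t p]
    exact h1
  · intro P hP hPp
    haveI := hP.1
    have hle : (Submodule.span B {u • z}).annihilator.comap (algebraMap A B) ≤ P := by
      intro a ha
      exact hP.2 ((hcomap a).mpr ha)
    obtain ⟨Q, hQJ, hQprime, hQP⟩ :=
      Ideal.exists_ideal_over_prime_of_isIntegral P (Submodule.span B {u • z}).annihilator hle
    haveI := hQprime
    have hQp : Q.comap (algebraMap A B) ≤ p := by rw [hQP]; exact hPp
    obtain ⟨Q', hQQ', hQ'prime, hQ'p⟩ :=
      Ideal.exists_ideal_over_prime_of_isIntegral_of_isPrime p Q hQp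
    haveI := hQ'prime
    haveI : Q'.LiesOver p := ⟨hQ'p.symm⟩
    -- f ^ k ∈ annihilator of u • z
    have hfk : f ^ k ∈ (Submodule.span B {u • z}).annihilator := by
      rw [mem_ann_iff, smul_smul, mul_comm]
      exact (mem_ann_iff z _).mp huk
    have hfQ' : f ∈ Q' := hQ'prime.mem_of_pow_mem k (hQQ' (hQJ hfk))
    have hQ't : Q' = t := by
      by_contra hne
      have : Q' ∈ s := by
        rw [Finset.mem_erase, Set.Finite.mem_toFinset]
        exact ⟨hne, hQ'prime, inferInstance⟩
      exact hfs Q' this hfQ'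
    have hQt : Q ≤ t := hQ't ▸ hQQ'
    have hIQ : (Submodule.span B {z}).annihilator ≤ Q := by
      intro b hb
      apply hQJ
      rw [mem_ann_iff, smul_smul, mul_comm, mul_smul, (mem_ann_iff z b).mp hb, smul_zero]
    have hQeq : t ≤ Q := hz.2 ⟨hQprime, hIQ⟩ hQt
    intro a ha
    rw [Ideal.over_def t p] at ha
    have : algebraMap A B a ∈ Q := hQeq ha
    rw [← hQP]
    exact this

end FiniteMap
end

section
open Groth.Agent.Helper13WeakAss TensorProduct

section Flat

theorem mem_weakAss_of_tensor_finite_flat {A : Type u} [CommRing A] (F M : Type u)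
    [AddCommGroup F] [Module A F] [Module.Finite A F] [Module.Flat A F] [AddCommGroup M]
    [Module A M] (p : Ideal A) [p.IsPrime] (hp : p ∈ FlatCA.weakAss A (F ⊗[A] M)) :
    p ∈ FlatCA.weakAss A M := by
  have h1 := mem_weakAss_localizedModule p hp
  let e1 : LocalizedModule p.primeCompl (F ⊗[A] M) ≃ₗ[A]
      (LocalizedModule p.primeCompl F) ⊗[A] (LocalizedModule p.primeCompl M) :=
    IsLocalizedModule.iso p.primeCompl
      (TensorProduct.map (LocalizedModule.mkLinearMap p.primeCompl F)
        (LocalizedModule.mkLinearMap p.primeCompl M))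
  haveI : Module.Finite (Localization.AtPrime p) (LocalizedModule p.primeCompl F) := inferInstance
  haveI : Module.Flat (Localization.AtPrime p) (LocalizedModule p.primeCompl F) := inferInstance
  haveI : Module.Free (Localization.AtPrime p) (LocalizedModule p.primeCompl F) :=
    Module.free_of_flat_of_isLocalRing
  let b := Module.Free.chooseBasis (Localization.AtPrime p) (LocalizedModule p.primeCompl F)
  let e2 : (LocalizedModule p.primeCompl F) ⊗[A] (LocalizedModule p.primeCompl M)
      ≃ₗ[Localization.AtPrime p]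
      (LocalizedModule p.primeCompl F) ⊗[Localization.AtPrime p]
        (LocalizedModule p.primeCompl M) :=
    (IsLocalization.moduleTensorEquiv p.primeCompl (Localization.AtPrime p) _ _).symm
  let e3 := TensorProduct.equivFinsuppOfBasisLeft (N := LocalizedModule p.primeCompl M) b
  let e : LocalizedModule p.primeCompl (F ⊗[A] M) ≃ₗ[A]
      (Module.Free.ChooseBasisIndex (Localization.AtPrime p) (LocalizedModule p.primeCompl F) →₀
        LocalizedModule p.primeCompl M) :=
    e1 ≪≫ₗ (e2.restrictScalars A) ≪≫ₗ (e3.restrictScalars A)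
  have h2 := mem_weakAss_of_injective e.toLinearMap e.injective h1
  have h3 := mem_weakAss_of_finsupp p h2
  exact mem_weakAss_of_localizedModule p h3

end Flat
end

section
open Groth.Agent.Helper13WeakAss TensorProduct

section Up

variable {A B : Type u} [CommRing A] [CommRing B] [Algebra A B]

theorem mem_map_ann_of_tmul_eq_zero [Module.Flat A B] {M : Type u} [AddCommGroup M] [Module A M]
    (b : B) (m : M) (h : b ⊗ₜ[A] m = 0) :
    b ∈ Ideal.map (algebraMap A B) (Submodule.span A {m}).annihilator := by
  set g : A →ₗ[A] M := LinearMap.toSpanSingleton A M m with hg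
  have hex : Function.Exact (LinearMap.ker g).subtype g := LinearMap.exact_subtype_ker_map g
  have hex' := Module.Flat.lTensor_exact B hex
  have h1 : (LinearMap.lTensor B g) (b ⊗ₜ[A] (1 : A)) = 0 := by
    rw [LinearMap.lTensor_tmul, hg, LinearMap.toSpanSingleton_apply, one_smul]
    exact h
  obtain ⟨y, hy⟩ := (hex' _).mp h1
  have key : ∀ y : B ⊗[A] (LinearMap.ker g),
      TensorProduct.rid A B ((LinearMap.lTensor B (LinearMap.ker g).subtype) y) ∈
        Ideal.map (algebraMap A B) (Submodule.span A {m}).annihilator := by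
    intro y
    induction y using TensorProduct.induction_on with
    | zero => simp
    | add x y hx hy => rw [map_add, map_add]; exact Ideal.add_mem _ hx hy
    | tmul b' k =>
      rw [LinearMap.lTensor_tmul, TensorProduct.rid_tmul, Submodule.subtype_apply,
        Algebra.smul_def]
      refine Ideal.mul_mem_right _ _ (Ideal.mem_map_of_mem _ ?_)
      rw [mem_ann_iff]
      have := k.2
      rw [LinearMap.mem_ker] at this
      exact this
  have h2 := key y
  rw [hy, TensorProduct.rid_tmul, one_smul] at h2
  exact h2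

theorem mem_weakAss_tensor_of_mem [Module.Flat A B] [Algebra.IsIntegral A B]
    (M : Type u) [AddCommGroup M] [Module A M] (p : Ideal A) [p.IsPrime] (t : Ideal B) [t.IsPrime]
    [t.LiesOver p] (hp : p ∈ FlatCA.weakAss A M) : t ∈ FlatCA.weakAss B (B ⊗[A] M) := by
  obtain ⟨m, hm⟩ := hp
  refine ⟨(1 : B) ⊗ₜ[A] m, ⟨inferInstance, ?_⟩, ?_⟩
  · intro b hb
    rw [mem_ann_iff, TensorProduct.smul_tmul', smul_eq_mul, mul_one] at hb
    have h1 := mem_map_ann_of_tmul_eq_zero b m hb
    have h2 : Ideal.map (algebraMap A B) (Submodule.span A {m}).annihilator ≤ t := by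
      rw [Ideal.map_le_iff_le_comap]
      intro a ha
      have := hm.1.2 ha
      rw [Ideal.over_def t p] at this
      exact this
    exact h2 h1
  · intro t' ht' ht't
    haveI := ht'.1
    have hp' : (Submodule.span A {m}).annihilator ≤ t'.comap (algebraMap A B) := by
      intro a ha
      apply ht'.2
      rw [mem_ann_iff, algebraMap_smul, ← TensorProduct.tmul_smul, (mem_ann_iff m a).mp ha,
        TensorProduct.tmul_zero]
    have hle : t'.comap (algebraMap A B) ≤ p := by
      rw [Ideal.over_def t p]
      exact Ideal.comap_mono ht't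
    have heq : p ≤ t'.comap (algebraMap A B) := hm.2 ⟨Ideal.comap_isPrime _ _, hp'⟩ hle
    haveI : t'.LiesOver p := ⟨le_antisymm heq hle⟩
    exact (eq_of_le_of_liesOver p t' t ht't).ge

end Up
end

end Groth.Agent.Lib.R2H1.WeakAssFin
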