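import Mathlib
import Groth.Prelude.Def_FlatCA
import Groth.Agent.Lib.Helper13WeakAss
import Groth.Agent.Lib.R2H1WeakAssFin

/-!
# R2H1WeakAssEt: weakly associated primes and étale ring maps

* `mem_weakAss_map_of_mem`, `comap_mem_weakAss_of_mem`: weakly associated primes and abstract
  localizations (`IsLocalization` / `IsLocalizedModule`)
* `isLocalizedModule_baseChange`: `B ⊗[A] M → B' ⊗[A] M` is a localized module when `B'` is a
  localization of `B`
* `mem_weakAss_of_algEquiv`: transport along an algebra isomorphism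
* `mem_weakAss_tensor_etale_iff`: for `A → B` étale and `u` over `p`,
  `u ∈ WeakAss_B (B ⊗ M) ↔ p ∈ WeakAss_A M`
-/

set_option autoImplicit false
set_option linter.unusedSectionVars false
set_option linter.style.haveILetI false

universe u

namespace Groth.Agent.Lib.R2H1.WeakAssEt

section
open Groth.Agent.Helper13WeakAss TensorProduct Groth.Agent.Lib.R2H1.WeakAssFin

section Loc

variable {B B' : Type u} [CommRing B] [CommRing B'] [Algebra B B'] (S : Submonoid B)
  [IsLocalization S B']
  {N N' : Type u} [AddCommGroup N] [Module B N] [AddCommGroup N'] [Module B N'] [Module B' N']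
  [IsScalarTower B B' N'] (φ : N →ₗ[B] N') [IsLocalizedModule S φ]

include S in
theorem algebraMap_mem_ann_iff (n : N) (b : B) :
    algebraMap B B' b ∈ (Submodule.span B' {φ n}).annihilator ↔
      ∃ s : S, (s : B) * b ∈ (Submodule.span B {n}).annihilator := by
  rw [mem_ann_iff, algebraMap_smul, ← map_smul, IsLocalizedModule.eq_zero_iff S φ]
  constructor
  · rintro ⟨s, hs⟩
    refine ⟨s, ?_⟩
    rw [mem_ann_iff, mul_smul]
    exact hs
  · rintro ⟨s, hs⟩
    refine ⟨s, ?_⟩
    rw [mem_ann_iff, mul_smul] at hs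
    exact hs

include S in
theorem exists_mul_eq (b' : B') : ∃ (b : B) (s : S), b' * algebraMap B B' s = algebraMap B B' b := by
  obtain ⟨⟨b, s⟩, h⟩ := IsLocalization.surj S b'
  exact ⟨b, s, h⟩

include S in
theorem mem_prime_iff (Q' : Ideal B') [Q'.IsPrime] (b' : B') (b : B) (s : S)
    (h : b' * algebraMap B B' s = algebraMap B B' b) : b' ∈ Q' ↔ algebraMap B B' b ∈ Q' := by
  have hs : algebraMap B B' s ∉ Q' := fun hmem =>
    ‹Q'.IsPrime›.ne_top (Ideal.eq_top_of_isUnit_mem _ hmem (IsLocalization.map_units B' s))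
  constructor
  · intro hb
    rw [← h]; exact Ideal.mul_mem_right _ _ hb
  · intro hb
    rw [← h] at hb
    exact (‹Q'.IsPrime›.mem_or_mem hb).resolve_right hs

include S in
theorem mem_ann_iff_of_mul_eq (x : N') (b' : B') (b : B) (s : S)
    (h : b' * algebraMap B B' s = algebraMap B B' b) :
    b' ∈ (Submodule.span B' {x}).annihilator ↔
      algebraMap B B' b ∈ (Submodule.span B' {x}).annihilator := by
  constructor
  · intro hb
    rw [← h, mul_comm]; exact Ideal.mul_mem_left _ _ hb
  · intro hb
    rw [← h] at hb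
    obtain ⟨v, hv⟩ := IsLocalization.map_units B' s
    have : b' = (b' * algebraMap B B' s) * ((v⁻¹ : B'ˣ) : B') := by
      rw [← hv, mul_assoc, Units.mul_inv, mul_one]
    rw [this]
    exact Ideal.mul_mem_right _ _ hb

include S φ in
theorem mem_weakAss_map_of_mem (u' : Ideal B') [u'.IsPrime]
    (h : u'.comap (algebraMap B B') ∈ FlatCA.weakAss B N) : u' ∈ FlatCA.weakAss B' N' := by
  obtain ⟨n, hn⟩ := h
  have hunit : ∀ s : S, algebraMap B B' s ∉ u' := fun s hmem =>
    ‹u'.IsPrime›.ne_top (Ideal.eq_top_of_isUnit_mem _ hmem (IsLocalization.map_units B' s))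
  refine ⟨φ n, ⟨inferInstance, ?_⟩, ?_⟩
  · intro b' hb'
    obtain ⟨b, s, hbs⟩ := exists_mul_eq S b'
    rw [mem_ann_iff_of_mul_eq S (φ n) b' b s hbs, algebraMap_mem_ann_iff S φ] at hb'
    obtain ⟨s', hs'⟩ := hb'
    have h1 : (s' : B) * b ∈ u'.comap (algebraMap B B') := hn.1.2 hs'
    rw [Ideal.mem_comap, map_mul] at h1
    have h2 := (‹u'.IsPrime›.mem_or_mem h1).resolve_left (hunit s')
    exact (mem_prime_iff S u' b' b s hbs).mpr h2
  · intro Q' hQ' hQ'u'
    haveI := hQ'.1
    have h1 : (Submodule.span B {n}).annihilator ≤ Q'.comap (algebraMap B B') := by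
      intro b hb
      rw [Ideal.mem_comap]
      apply hQ'.2
      rw [algebraMap_mem_ann_iff S φ]
      exact ⟨1, by rw [OneMemClass.coe_one, one_mul]; exact hb⟩
    have h2 : u'.comap (algebraMap B B') ≤ Q'.comap (algebraMap B B') :=
      hn.2 ⟨Ideal.comap_isPrime _ _, h1⟩ (Ideal.comap_mono hQ'u')
    intro b' hb'
    obtain ⟨b, s, hbs⟩ := exists_mul_eq S b'
    rw [mem_prime_iff S u' b' b s hbs] at hb'
    exact (mem_prime_iff S Q' b' b s hbs).mpr (h2 hb')

include S φ in
theorem comap_mem_weakAss_of_mem (u' : Ideal B') [u'.IsPrime]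
    (h : u' ∈ FlatCA.weakAss B' N') : u'.comap (algebraMap B B') ∈ FlatCA.weakAss B N := by
  obtain ⟨n', hn'⟩ := h
  obtain ⟨⟨n, s⟩, hns⟩ := IsLocalizedModule.surj S φ n'
  have hunit : ∀ s : S, algebraMap B B' s ∉ u' := fun s hmem =>
    ‹u'.IsPrime›.ne_top (Ideal.eq_top_of_isUnit_mem _ hmem (IsLocalization.map_units B' s))
  -- annihilators of n' and φ n agree
  have hann : (Submodule.span B' {n'}).annihilator = (Submodule.span B' {φ n}).annihilator := by
    ext b'
    rw [mem_ann_iff, mem_ann_iff, ← hns]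
    show _ ↔ b' • ((s : B) • n') = 0
    rw [← algebraMap_smul B' (s : B) n', smul_smul]
    obtain ⟨v, hv⟩ := IsLocalization.map_units B' s
    constructor
    · intro h0
      rw [mul_comm, mul_smul, h0, smul_zero]
    · intro h0
      have : b' • n' = ((v⁻¹ : B'ˣ) : B') • ((b' * algebraMap B B' s) • n') := by
        rw [smul_smul, ← hv, mul_comm b', ← mul_assoc, Units.inv_mul, one_mul]
      rw [this, h0, smul_zero]
  rw [hann] at hn'
  refine ⟨n, ⟨Ideal.comap_isPrime _ _, ?_⟩, ?_⟩
  · intro b hb
    rw [Ideal.mem_comap]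
    apply hn'.1.2
    rw [algebraMap_mem_ann_iff S φ]
    exact ⟨1, by rw [OneMemClass.coe_one, one_mul]; exact hb⟩
  · intro P hP hPu
    haveI := hP.1
    have hdisj : Disjoint (S : Set B) (P : Set B) := by
      rw [Set.disjoint_left]
      intro s hs hsP
      exact hunit ⟨s, hs⟩ (hPu hsP)
    haveI hP'prime : (P.map (algebraMap B B')).IsPrime :=
      IsLocalization.isPrime_of_isPrime_disjoint S B' P hP.1 hdisj
    have hcomap : (P.map (algebraMap B B')).comap (algebraMap B B') = P :=
      IsLocalization.under_map_of_isPrime_disjoint S B' hP.1 hdisj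
    have h1 : (Submodule.span B' {φ n}).annihilator ≤ P.map (algebraMap B B') := by
      intro b' hb'
      obtain ⟨b, s₁, hbs⟩ := exists_mul_eq S b'
      rw [mem_ann_iff_of_mul_eq S (φ n) b' b s₁ hbs, algebraMap_mem_ann_iff S φ] at hb'
      obtain ⟨s', hs'⟩ := hb'
      have h2 : (s' : B) * b ∈ P := hP.2 hs'
      have hs'P : (s' : B) ∉ P := fun h => Set.disjoint_left.mp hdisj s'.2 h
      have h3 : b ∈ P := (hP.1.mem_or_mem h2).resolve_left hs'P
      exact (mem_prime_iff S _ b' b s₁ hbs).mpr (Ideal.mem_map_of_mem _ h3)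
    have h2 : P.map (algebraMap B B') ≤ u' :=
      (Ideal.map_mono hPu).trans Ideal.map_comap_le
    have h3 := hn'.2 ⟨hP'prime, h1⟩ h2
    have h4 := Ideal.comap_mono (f := algebraMap B B') h3
    rw [hcomap] at h4
    exact h4

end Loc

section BC

/-- base change to a localization of the algebra is a localized module -/
theorem isLocalizedModule_baseChange {A B B' : Type u} [CommRing A] [CommRing B] [CommRing B']
    [Algebra A B] [Algebra B B'] [Algebra A B'] [IsScalarTower A B B'] (S : Submonoid B)
    [IsLocalization S B'] (M : Type u) [AddCommGroup M] [Module A M] :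
    IsLocalizedModule S (TensorProduct.AlgebraTensorModule.map (Algebra.linearMap B B')
      (LinearMap.id (R := A) (M := M))) := by
  rw [isLocalizedModule_iff_isBaseChange S B']
  exact isBaseChange_tensorProduct_map B' (IsBaseChange.linearMap B B')

end BC
end

section
open Groth.Agent.Helper13WeakAss TensorProduct Groth.Agent.Lib.R2H1.WeakAssFin

section Iso

variable {A B₁ B₂ : Type u} [CommRing A] [CommRing B₁] [CommRing B₂] [Algebra A B₁] [Algebra A B₂]

theorem congr_smul (e : B₁ ≃ₐ[A] B₂) (M : Type u) [AddCommGroup M] [Module A M] (b : B₁)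
    (x : B₁ ⊗[A] M) :
    TensorProduct.congr e.toLinearEquiv (LinearEquiv.refl A M) (b • x) =
      e b • TensorProduct.congr e.toLinearEquiv (LinearEquiv.refl A M) x := by
  induction x using TensorProduct.induction_on with
  | zero => simp
  | add x y hx hy => rw [smul_add, map_add, hx, hy, map_add, smul_add]
  | tmul b' m =>
    rw [TensorProduct.smul_tmul', TensorProduct.congr_tmul, TensorProduct.congr_tmul,
      TensorProduct.smul_tmul', smul_eq_mul, smul_eq_mul]
    simp

theorem mem_weakAss_of_algEquiv (e : B₁ ≃ₐ[A] B₂) (M : Type u) [AddCommGroup M] [Module A M]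
    (u₁ : Ideal B₁) (h : u₁ ∈ FlatCA.weakAss B₁ (B₁ ⊗[A] M)) :
    u₁.comap (e.symm : B₂ →+* B₁) ∈ FlatCA.weakAss B₂ (B₂ ⊗[A] M) := by
  obtain ⟨x, hx⟩ := h
  set ψ := TensorProduct.congr e.toLinearEquiv (LinearEquiv.refl A M) with hψ
  refine ⟨ψ x, ?_⟩
  have hann : (Submodule.span B₂ {ψ x}).annihilator =
      (Submodule.span B₁ {x}).annihilator.comap (e.symm : B₂ →+* B₁) := by
    ext b₂
    rw [Ideal.mem_comap, mem_ann_iff, mem_ann_iff]
    have h1 : b₂ • ψ x = ψ ((e.symm b₂) • x) := by
      rw [hψ, congr_smul, AlgEquiv.apply_symm_apply]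
    rw [h1]
    constructor
    · intro h0
      exact ψ.injective (h0.trans (map_zero ψ).symm)
    · intro h0
      have h0' : e.symm b₂ • x = 0 := h0
      rw [h0', map_zero]
  rw [hann]
  exact Ideal.minimalPrimes_comap_of_surjective (f := (e.symm : B₂ →+* B₁)) e.symm.surjective hx

end Iso

section Up

variable {A B : Type u} [CommRing A] [CommRing B] [Algebra A B]

theorem mem_weakAss_tensor_of_mem' [Module.Flat A B]
    (M : Type u) [AddCommGroup M] [Module A M] (p : Ideal A) [p.IsPrime] (t : Ideal B) [t.IsPrime]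
    [t.LiesOver p]
    (hinc : ∀ t' : Ideal B, t'.IsPrime → t'.LiesOver p → t' ≤ t → t' = t)
    (hp : p ∈ FlatCA.weakAss A M) : t ∈ FlatCA.weakAss B (B ⊗[A] M) := by
  obtain ⟨m, hm⟩ := hp
  refine ⟨(1 : B) ⊗ₜ[A] m, ⟨inferInstance, ?_⟩, ?_⟩
  · intro b hb
    rw [mem_ann_iff, TensorProduct.smul_tmul', smul_eq_mul, mul_one] at hb
    have h1 := mem_map_ann_of_tmul_eq_zero b m hb
    have h2 : Ideal.map (algebraMap A B) (Submodule.span A {m}).annihilator ≤ t := by
      rw [Ideal.map_le_iff_le_comap]
      intro a ha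
      have := hm.1.2 ha
      rw [Ideal.over_def t p] at this
      exact this
    exact h2 h1
  · intro t' ht' ht't
    haveI := ht'.1
    have hp' : (Submodule.span A {m}).annihilator ≤ t'.comap (algebraMap A B) := by
      intro a ha
      apply ht'.2
      rw [mem_ann_iff, algebraMap_smul, ← TensorProduct.tmul_smul, (mem_ann_iff m a).mp ha,
        TensorProduct.tmul_zero]
    have hle : t'.comap (algebraMap A B) ≤ p := by
      rw [Ideal.over_def t p]
      exact Ideal.comap_mono ht't
    have heq : p ≤ t'.comap (algebraMap A B) := hm.2 ⟨Ideal.comap_isPrime _ _, hp'⟩ hle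
    have hlo : t'.LiesOver p := ⟨le_antisymm heq hle⟩
    exact (hinc t' ht'.1 hlo ht't).ge

end Up
end

section
open Groth.Agent.Helper13WeakAss TensorProduct Groth.Agent.Lib.R2H1.WeakAssFin

section Etale

variable {A B : Type u} [CommRing A] [CommRing B] [Algebra A B]

theorem mem_weakAss_of_tensor_etale [Algebra.Etale A B]
    (M : Type u) [AddCommGroup M] [Module A M] (p : Ideal A) [p.IsPrime] (u : Ideal B) [u.IsPrime]
    [u.LiesOver p] (h : u ∈ FlatCA.weakAss B (B ⊗[A] M)) : p ∈ FlatCA.weakAss A M := by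
  haveI : Algebra.IsEtaleAt A u := inferInstance
  obtain ⟨f, hfu, hstd⟩ := Algebra.IsEtaleAt.exists_isStandardEtale (R := A) u
  have hdisj : Disjoint (Submonoid.powers f : Set B) (u : Set B) := by
    rw [Set.disjoint_left]
    rintro _ ⟨n, rfl⟩ hmem
    exact hfu (‹u.IsPrime›.mem_of_pow_mem n hmem)
  haveI huf : (u.map (algebraMap B (Localization.Away f))).IsPrime :=
    IsLocalization.isPrime_of_isPrime_disjoint (Submonoid.powers f) _ u inferInstance hdisj
  have hcomap : (u.map (algebraMap B (Localization.Away f))).comap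
      (algebraMap B (Localization.Away f)) = u :=
    IsLocalization.under_map_of_isPrime_disjoint (Submonoid.powers f) _ inferInstance hdisj
  haveI := isLocalizedModule_baseChange (A := A) (B := B) (B' := Localization.Away f)
    (Submonoid.powers f) M
  have h2 : u.map (algebraMap B (Localization.Away f)) ∈
      FlatCA.weakAss (Localization.Away f) ((Localization.Away f) ⊗[A] M) :=
    mem_weakAss_map_of_mem (Submonoid.powers f)
      (TensorProduct.AlgebraTensorModule.map (Algebra.linearMap B (Localization.Away f))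
        (LinearMap.id (R := A) (M := M))) _ (by rw [hcomap]; exact h)
  obtain ⟨P⟩ := hstd.nonempty_standardEtalePresentation
  let E := P.equivRing.trans P.P.equivAwayAdjoinRoot
  have h3 := mem_weakAss_of_algEquiv E M _ h2
  haveI : ((u.map (algebraMap B (Localization.Away f))).comap
      (E.symm : Localization.Away (AdjoinRoot.mk P.f P.g) →+* Localization.Away f)).IsPrime :=
    Ideal.comap_isPrime _ _
  haveI := isLocalizedModule_baseChange (A := A) (B := AdjoinRoot P.f)
    (B' := Localization.Away (AdjoinRoot.mk P.f P.g))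
    (Submonoid.powers (AdjoinRoot.mk P.f P.g)) M
  have h4 := comap_mem_weakAss_of_mem (Submonoid.powers (AdjoinRoot.mk P.f P.g))
    (TensorProduct.AlgebraTensorModule.map
      (Algebra.linearMap (AdjoinRoot P.f) (Localization.Away (AdjoinRoot.mk P.f P.g)))
      (LinearMap.id (R := A) (M := M))) _ h3
  haveI : Module.Finite A (AdjoinRoot P.f) := P.monic_f.finite_adjoinRoot
  haveI : Module.Free A (AdjoinRoot P.f) := P.monic_f.free_adjoinRoot
  haveI : Module.Flat A (AdjoinRoot P.f) := inferInstance
  haveI : (((u.map (algebraMap B (Localization.Away f))).comap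
      (E.symm : Localization.Away (AdjoinRoot.mk P.f P.g) →+* Localization.Away f)).comap
      (algebraMap (AdjoinRoot P.f) (Localization.Away (AdjoinRoot.mk P.f P.g)))).IsPrime :=
    Ideal.comap_isPrime _ _
  haveI : (((u.map (algebraMap B (Localization.Away f))).comap
      (E.symm : Localization.Away (AdjoinRoot.mk P.f P.g) →+* Localization.Away f)).comap
      (algebraMap (AdjoinRoot P.f) (Localization.Away (AdjoinRoot.mk P.f P.g)))).LiesOver p := by
    constructor
    ext a
    rw [Ideal.under_def, Ideal.mem_comap, Ideal.mem_comap, Ideal.mem_comap]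
    have e1 : (E.symm : Localization.Away (AdjoinRoot.mk P.f P.g) →+* Localization.Away f)
        (algebraMap (AdjoinRoot P.f) (Localization.Away (AdjoinRoot.mk P.f P.g))
          (algebraMap A (AdjoinRoot P.f) a)) = algebraMap B (Localization.Away f)
            (algebraMap A B a) := by
      rw [← IsScalarTower.algebraMap_apply A (AdjoinRoot P.f)
        (Localization.Away (AdjoinRoot.mk P.f P.g)),
        ← IsScalarTower.algebraMap_apply A B (Localization.Away f)]
      exact E.symm.commutes a
    rw [e1, ← Ideal.mem_comap, hcomap, Ideal.over_def u p, Ideal.under_def, Ideal.mem_comap]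
  exact mem_weakAss_of_tensor_finite_flat (AdjoinRoot P.f) M p
    (under_mem_weakAss_of_finite ((AdjoinRoot P.f) ⊗[A] M) p _ h4)

theorem mem_weakAss_tensor_etale_iff [Algebra.Etale A B]
    (M : Type u) [AddCommGroup M] [Module A M] (p : Ideal A) [p.IsPrime] (u : Ideal B) [u.IsPrime]
    [u.LiesOver p] : u ∈ FlatCA.weakAss B (B ⊗[A] M) ↔ p ∈ FlatCA.weakAss A M := by
  refine ⟨mem_weakAss_of_tensor_etale M p u, fun h => ?_⟩
  haveI : Module.Flat A B := inferInstance
  haveI : Algebra.QuasiFinite A B := inferInstance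
  refine mem_weakAss_tensor_of_mem' M p u ?_ h
  intro t' ht' hlo hle
  haveI := ht'
  exact Algebra.QuasiFinite.eq_of_le_of_under_eq (R := A) t' u hle
    (by rw [← Ideal.over_def t' p, ← Ideal.over_def u p])

end Etale
end

end Groth.Agent.Lib.R2H1.WeakAssEt
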