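import Mathlib

/-!
# The Weil restriction algebra along a finite free algebra

For a commutative ring `A`, an `A`-algebra `B` with a finite basis `e`, and an `A`-algebra `C`, we
construct an `A`-algebra `R = WR e C` with an `A`-algebra map `PhiBar : C → R ⊗_A B` such that for
every `A`-algebra `A'` the map `Hom_A(R, A') → Hom_A(C, A' ⊗_A B)`, `α ↦ (α ⊗ id) ∘ PhiBar`, is
bijective.
-/

universe u

set_option linter.unusedSectionVars false

namespace Groth.Agent.Lib.R2H3.WeilAlg

open TensorProduct

variable {A : Type u} [CommRing A] {B : Type u} [CommRing B] [Algebra A B]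
  {ι : Type u} [Fintype ι] [DecidableEq ι] (e : Module.Basis ι A B)

section Coord

variable (A' : Type u) [CommRing A'] [Algebra A A']

/-- the `k`-th coordinate of an element of `A' ⊗ B` with respect to the basis `1 ⊗ e_k`. -/
noncomputable def crd (k : ι) : A' ⊗[A] B →ₗ[A'] A' :=
  (Algebra.TensorProduct.basis A' e).coord k

lemma crd_tmul (k : ι) (a' : A') (b : B) :
    crd e A' k (a' ⊗ₜ b) = a' * algebraMap A A' (e.repr b k) := by
  simp [crd, Module.Basis.coord_apply, Algebra.TensorProduct.basis_repr_tmul]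

lemma eq_zero_of_crd (d : A' ⊗[A] B) (h : ∀ k, crd e A' k d = 0) : d = 0 := by
  apply (Algebra.TensorProduct.basis A' e).ext_elem
  intro k
  simpa [crd, Module.Basis.coord_apply] using h k

lemma sum_crd (d : A' ⊗[A] B) : ∑ k, crd e A' k d ⊗ₜ[A] e k = d := by
  have := (Algebra.TensorProduct.basis A' e).sum_repr d
  simp only [Algebra.TensorProduct.basis_repr_symm_apply'] at this
  exact this

variable {A'}

lemma crd_map {P' : Type u} [CommRing P'] [Algebra A P'] (g : P' →ₐ[A] A') (k : ι)
    (d : P' ⊗[A] B) :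
    crd e A' k (Algebra.TensorProduct.map g (AlgHom.id A B) d) = g (crd e P' k d) := by
  induction d using TensorProduct.induction_on with
  | zero => simp
  | tmul p b => simp [crd_tmul]
  | add x y hx hy => simp only [map_add, hx, hy]

end Coord

section Phi

variable {C : Type u} [CommRing C] [Algebra A C]
variable {A' : Type u} [CommRing A'] [Algebra A A']

/-- the map `C → A' ⊗ B` with coordinates `x`. -/
noncomputable def phi (x : C × ι → A') (c : C) : A' ⊗[A] B := ∑ i, x (c, i) ⊗ₜ[A] e i

lemma crd_phi (x : C × ι → A') (c : C) (k : ι) : crd e A' k (phi e x c) = x (c, k) := by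
  simp [phi, crd_tmul, Finsupp.single_apply]

lemma map_phi {P' : Type u} [CommRing P'] [Algebra A P'] (g : P' →ₐ[A] A') (x : C × ι → P')
    (c : C) :
    Algebra.TensorProduct.map g (AlgHom.id A B) (phi e x c) = phi e (fun p => g (x p)) c := by
  simp [phi]

lemma phi_crd (ψ : C → A' ⊗[A] B) (c : C) :
    phi e (fun p => crd e A' p.2 (ψ p.1)) c = ψ c :=
  sum_crd e A' (ψ c)

/-- the defects of `phi x` from being an algebra homomorphism. -/
def Defect (x : C × ι → A') (d : A' ⊗[A] B) : Prop :=
  (∃ c c', d = phi e x (c + c') - phi e x c - phi e x c') ∨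
  (∃ c c', d = phi e x (c * c') - phi e x c * phi e x c') ∨
  (∃ a : A, d = phi e x (algebraMap A C a) - algebraMap A (A' ⊗[A] B) a)

lemma defect_comp {P' : Type u} [CommRing P'] [Algebra A P'] (g : P' →ₐ[A] A') (x : C × ι → P')
    (d' : A' ⊗[A] B) (h : Defect e (fun p => g (x p)) d') :
    ∃ d₀, Defect e x d₀ ∧ d' = Algebra.TensorProduct.map g (AlgHom.id A B) d₀ := by
  rcases h with ⟨c, c', rfl⟩ | ⟨c, c', rfl⟩ | ⟨a, rfl⟩
  · exact ⟨_, Or.inl ⟨c, c', rfl⟩, by simp only [map_sub, map_phi]⟩
  · exact ⟨_, Or.inr (Or.inl ⟨c, c', rfl⟩), by simp only [map_sub, map_mul, map_phi]⟩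
  · exact ⟨_, Or.inr (Or.inr ⟨a, rfl⟩), by simp only [map_sub, map_phi, AlgHom.commutes]⟩

/-- if all defects vanish, `phi x` is an algebra homomorphism. -/
noncomputable def homOfDefect (x : C × ι → A') (h : ∀ d, Defect e x d → d = 0) :
    C →ₐ[A] A' ⊗[A] B where
  toFun := phi e x
  map_one' := by
    have := h _ (Or.inr (Or.inr ⟨1, rfl⟩))
    rw [sub_eq_zero, map_one, map_one] at this
    exact this
  map_mul' c c' := by
    have := h _ (Or.inr (Or.inl ⟨c, c', rfl⟩))
    rwa [sub_eq_zero] at this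
  map_zero' := by
    have := h _ (Or.inr (Or.inr ⟨0, rfl⟩))
    rw [sub_eq_zero, map_zero, map_zero] at this
    exact this
  map_add' c c' := by
    have := h _ (Or.inl ⟨c, c', rfl⟩)
    rwa [sub_sub, sub_eq_zero] at this
  commutes' a := by
    have := h _ (Or.inr (Or.inr ⟨a, rfl⟩))
    rwa [sub_eq_zero] at this

lemma homOfDefect_apply (x : C × ι → A') (h : ∀ d, Defect e x d → d = 0) (c : C) :
    homOfDefect e x h c = phi e x c := rfl

lemma defect_of_hom (ψ : C →ₐ[A] A' ⊗[A] B) (d : A' ⊗[A] B)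
    (h : Defect e (fun p => crd e A' p.2 (ψ p.1)) d) : d = 0 := by
  rcases h with ⟨c, c', rfl⟩ | ⟨c, c', rfl⟩ | ⟨a, rfl⟩
  · simp only [phi_crd e (fun c => ψ c), map_add]
    abel
  · simp only [phi_crd e (fun c => ψ c), map_mul, sub_self]
  · simp only [phi_crd e (fun c => ψ c), AlgHom.commutes, sub_self]

end Phi

section WR

variable (C : Type u) [CommRing C] [Algebra A C]

/-- the polynomial ring on the coordinates. -/
abbrev Pol : Type u := MvPolynomial (C × ι) A

/-- the universal coordinates. -/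
noncomputable def Xc : C × ι → Pol (ι := ι) (A := A) C := fun p => MvPolynomial.X p

/-- the ideal of coordinates of defects. -/
noncomputable def J : Ideal (Pol (ι := ι) (A := A) C) :=
  Ideal.span {p | ∃ d, Defect e (Xc C) d ∧ ∃ k, p = crd e (Pol (ι := ι) (A := A) C) k d}

/-- the Weil restriction algebra. -/
abbrev WR : Type u := Pol (ι := ι) (A := A) C ⧸ J e C

/-- the quotient map. -/
noncomputable def mkW : Pol (ι := ι) (A := A) C →ₐ[A] WR e C := Ideal.Quotient.mkₐ A (J e C)

lemma defect_mk_zero (d : WR e C ⊗[A] B) (h : Defect e (fun p => mkW e C (Xc C p)) d) : d = 0 := by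
  obtain ⟨d₀, hd₀, rfl⟩ := defect_comp e (mkW e C) (Xc C) d h
  apply eq_zero_of_crd e
  intro k
  rw [crd_map]
  exact Ideal.Quotient.eq_zero_iff_mem.mpr (Ideal.subset_span ⟨d₀, hd₀, k, rfl⟩)

/-- the universal homomorphism `C → WR ⊗ B`. -/
noncomputable def PhiBar : C →ₐ[A] WR e C ⊗[A] B :=
  homOfDefect e (fun p => mkW e C (Xc C p)) (defect_mk_zero e C)

lemma crd_PhiBar (c : C) (k : ι) : crd e (WR e C) k (PhiBar e C c) = mkW e C (Xc C (c, k)) := by
  rw [PhiBar, homOfDefect_apply, crd_phi]

variable {C}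
variable {A' : Type u} [CommRing A'] [Algebra A A']

/-- the comparison map of the universal property. -/
noncomputable def toHom (α : WR e C →ₐ[A] A') : C →ₐ[A] A' ⊗[A] B :=
  (Algebra.TensorProduct.map α (AlgHom.id A B)).comp (PhiBar e C)

lemma toHom_apply (α : WR e C →ₐ[A] A') (c : C) :
    toHom e α c = Algebra.TensorProduct.map α (AlgHom.id A B) (PhiBar e C c) := rfl

lemma crd_toHom (α : WR e C →ₐ[A] A') (c : C) (k : ι) :
    crd e A' k (toHom e α c) = α (mkW e C (Xc C (c, k))) := by
  rw [toHom_apply, crd_map, crd_PhiBar]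

theorem toHom_injective : Function.Injective (toHom (C := C) (A' := A') e) := by
  intro α α' h
  apply Ideal.Quotient.algHom_ext
  apply MvPolynomial.algHom_ext
  rintro ⟨c, k⟩
  have h1 := crd_toHom e α c k
  have h2 := crd_toHom e α' c k
  rw [h] at h1
  exact h1.symm.trans h2

theorem toHom_surjective : Function.Surjective (toHom (C := C) (A' := A') e) := by
  intro ψ
  let x : C × ι → A' := fun p => crd e A' p.2 (ψ p.1)
  let g : Pol (ι := ι) (A := A) C →ₐ[A] A' := MvPolynomial.aeval x
  have hgx : (fun p => g (Xc C p)) = x := by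
    funext p
    simp [g, Xc]
  have hg : ∀ p ∈ J e C, g p = 0 := by
    intro p hp
    refine Submodule.span_induction (p := fun p _ => g p = 0) ?_ (map_zero _)
      (fun a b _ _ ha hb => by rw [map_add, ha, hb, add_zero])
      (fun a b _ hb => by rw [smul_eq_mul, map_mul, hb, mul_zero]) hp
    rintro _ ⟨d, hd, k, rfl⟩
    rw [← crd_map]
    have hd' : Defect e x (Algebra.TensorProduct.map g (AlgHom.id A B) d) := by
      rw [← hgx]
      rcases hd with ⟨c, c', rfl⟩ | ⟨c, c', rfl⟩ | ⟨a, rfl⟩
      · exact Or.inl ⟨c, c', by simp only [map_sub, map_phi]⟩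
      · exact Or.inr (Or.inl ⟨c, c', by simp only [map_sub, map_mul, map_phi]⟩)
      · exact Or.inr (Or.inr ⟨a, by simp only [map_sub, map_phi, AlgHom.commutes]⟩)
    rw [defect_of_hom e ψ _ hd', map_zero]
  let α : WR e C →ₐ[A] A' := Ideal.Quotient.liftₐ (J e C) g hg
  refine ⟨α, ?_⟩
  apply AlgHom.ext
  intro c
  apply sub_eq_zero.mp
  apply eq_zero_of_crd e
  intro k
  rw [map_sub, crd_toHom, sub_eq_zero]
  show g (Xc C (c, k)) = _
  rw [congrFun hgx (c, k)]

theorem toHom_bijective : Function.Bijective (toHom (C := C) (A' := A') e) :=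
  ⟨toHom_injective e, toHom_surjective e⟩

end WR

end Groth.Agent.Lib.R2H3.WeilAlg
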