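import Mathlib
import Groth.Agent.Lib.R2H3WeilAlg

/-!
# The Weil restriction algebra: categorical form of the universal property

`IsWeil γ φ ρ u v Φ`: for ring maps `γ : A ⟶ B`, `φ : A ⟶ C`, an `A`-algebra `ρ : A ⟶ R` with a
pushout `D = R ⊗_A B` (`u : R ⟶ D`, `v : B ⟶ D`) and `Φ : C ⟶ D`: for every `A`-algebra
`τ : A ⟶ A'` and every pushout `D' = A' ⊗_A B`, every `A`-algebra map `ψ : C ⟶ D'` comes from a
unique `A`-algebra map `α : R ⟶ A'` (by `ψ = Φ ≫ (α ⊗ id)`).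

* `IsWeil.transport`: invariance under isomorphisms.
* `exists_isWeil`: existence when `B` is finite free over `A`.
-/

universe u

set_option linter.style.haveILetI false

open CategoryTheory CategoryTheory.Limits TensorProduct

namespace Groth.Agent.Lib.R2H3.WeilCat

open Groth.Agent.Lib.R2H3.WeilAlg

/-- categorical universal property of the Weil restriction in `CommRingCat`. -/
def IsWeil {A B C R D : CommRingCat.{u}} (γ : A ⟶ B) (φ : A ⟶ C) (ρ : A ⟶ R) (u : R ⟶ D)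
    (v : B ⟶ D) (Φ : C ⟶ D) : Prop :=
  ∀ ⦃A' D' : CommRingCat.{u}⦄ (τ : A ⟶ A') (u' : A' ⟶ D') (v' : B ⟶ D'), IsPushout τ γ u' v' →
    ∀ ψ : C ⟶ D', φ ≫ ψ = γ ≫ v' →
      ∃! α : R ⟶ A', ρ ≫ α = τ ∧ ∃ m : D ⟶ D', u ≫ m = α ≫ u' ∧ v ≫ m = v' ∧ Φ ≫ m = ψ

theorem IsWeil.transport {A B C R D R' D' : CommRingCat.{u}} {γ : A ⟶ B} {φ : A ⟶ C} {ρ : A ⟶ R}
    {u : R ⟶ D} {v : B ⟶ D} {Φ : C ⟶ D} (hW : IsWeil γ φ ρ u v Φ) (po : IsPushout ρ γ u v)
    (hΦ : φ ≫ Φ = γ ≫ v)
    (i : R ≅ R') {ρ' : A ⟶ R'} {u' : R' ⟶ D'} {v' : B ⟶ D'} (po' : IsPushout ρ' γ u' v')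
    (hρ : ρ ≫ i.hom = ρ') :
    ∃ Φ' : C ⟶ D', φ ≫ Φ' = γ ≫ v' ∧ IsWeil γ φ ρ' u' v' Φ' := by
  have hw : ρ ≫ i.hom ≫ u' = γ ≫ v' := by rw [← Category.assoc, hρ, po'.w]
  let j : D ⟶ D' := po.desc (i.hom ≫ u') v' hw
  have hj1 : u ≫ j = i.hom ≫ u' := po.inl_desc _ _ _
  have hj2 : v ≫ j = v' := po.inr_desc _ _ _
  refine ⟨Φ ≫ j, ?_, ?_⟩
  · rw [← Category.assoc, hΦ, Category.assoc, hj2]
  · intro A'' D'' τ u'' v'' po'' ψ hψ
    obtain ⟨α, ⟨hα1, m, hm1, hm2, hm3⟩, hαu⟩ := hW τ u'' v'' po'' ψ hψ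
    have hw' : ρ' ≫ (i.inv ≫ α) ≫ u'' = γ ≫ v'' := by
      rw [← hρ]
      simp only [Category.assoc, Iso.hom_inv_id_assoc]
      rw [← Category.assoc, hα1, po''.w]
    refine ⟨i.inv ≫ α, ⟨?_, po'.desc ((i.inv ≫ α) ≫ u'') v'' hw', po'.inl_desc _ _ _,
      po'.inr_desc _ _ _, ?_⟩, ?_⟩
    · rw [← hρ]
      simp only [Category.assoc, Iso.hom_inv_id_assoc]
      exact hα1
    · have : j ≫ po'.desc ((i.inv ≫ α) ≫ u'') v'' hw' = m := by
        apply po.hom_ext
        · rw [← Category.assoc, hj1, Category.assoc, po'.inl_desc, hm1]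
          simp only [Category.assoc, Iso.hom_inv_id_assoc]
        · rw [← Category.assoc, hj2, po'.inr_desc, hm2]
      rw [Category.assoc, this, hm3]
    · rintro α₂ ⟨h1, m₂, h2, h3, h4⟩
      have : i.hom ≫ α₂ = α := by
        apply hαu
        refine ⟨?_, j ≫ m₂, ?_, ?_, ?_⟩
        · rw [← Category.assoc, hρ, h1]
        · rw [← Category.assoc, hj1, Category.assoc, h2, Category.assoc]
        · rw [← Category.assoc, hj2, h3]
        · rw [← h4, Category.assoc]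
      rw [← this, Iso.inv_hom_id_assoc]

section Exists

variable {A B C : CommRingCat.{u}} (γ : A ⟶ B) (φ : A ⟶ C)

theorem exists_isWeil
    (hfree : letI := γ.hom.toAlgebra
      Module.Finite A B ∧ Module.Free A B) :
    ∃ (R D : CommRingCat.{u}) (ρ : A ⟶ R) (u : R ⟶ D) (v : B ⟶ D) (Φ : C ⟶ D),
      IsPushout ρ γ u v ∧ φ ≫ Φ = γ ≫ v ∧ IsWeil γ φ ρ u v Φ := by
  classical
  letI algB : Algebra A B := γ.hom.toAlgebra
  letI algC : Algebra A C := φ.hom.toAlgebra
  obtain ⟨hfin, hfr⟩ := hfree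
  let e : Module.Basis (Module.Free.ChooseBasisIndex A B) A B := Module.Free.chooseBasis A B
  let R : CommRingCat.{u} := CommRingCat.of (WR e C)
  let D : CommRingCat.{u} := CommRingCat.of (WR e C ⊗[A] B)
  let ρ : A ⟶ R := CommRingCat.ofHom (algebraMap A (WR e C))
  let u : R ⟶ D := CommRingCat.ofHom (S := WR e C ⊗[A] B) Algebra.TensorProduct.includeLeftRingHom
  let v : B ⟶ D := CommRingCat.ofHom (S := WR e C ⊗[A] B)
    (Algebra.TensorProduct.includeRight (R := A) (A := WR e C) (B := B)).toRingHom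
  let Φ : C ⟶ D := CommRingCat.ofHom (PhiBar e C).toRingHom
  have po : IsPushout ρ γ u v := CommRingCat.isPushout_tensorProduct A (WR e C) B
  have hΦ : φ ≫ Φ = γ ≫ v := by
    ext a
    change PhiBar e C (algebraMap A C a) =
      Algebra.TensorProduct.includeRight (R := A) (A := WR e C) (B := B) (algebraMap A B a)
    rw [AlgHom.commutes, AlgHom.commutes]
  refine ⟨R, D, ρ, u, v, Φ, po, hΦ, ?_⟩
  intro A' D' τ u' v' po' ψ hψ
  letI algA' : Algebra A A' := τ.hom.toAlgebra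
  let inl : A' ⟶ CommRingCat.of (A' ⊗[A] B) :=
    CommRingCat.ofHom (S := A' ⊗[A] B) Algebra.TensorProduct.includeLeftRingHom
  let inr : B ⟶ CommRingCat.of (A' ⊗[A] B) := CommRingCat.ofHom (S := A' ⊗[A] B)
    (Algebra.TensorProduct.includeRight (R := A) (A := A') (B := B)).toRingHom
  have poT : IsPushout τ γ inl inr := CommRingCat.isPushout_tensorProduct A A' B
  let j := poT.isoIsPushout _ _ po'
  have hj1 : inl ≫ j.hom = u' := poT.inl_isoIsPushout_hom _ _ po'
  have hj2 : inr ≫ j.hom = v' := poT.inr_isoIsPushout_hom _ _ po'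
  have hj3 : v' ≫ j.inv = inr := poT.inr_isoIsPushout_inv _ _ po'
  -- the algebra homomorphism corresponding to `ψ`
  let β : C →ₐ[A] A' ⊗[A] B :=
    { (ψ ≫ j.inv).hom with
      commutes' := fun a => by
        change (ψ ≫ j.inv).hom (φ.hom a) = _
        have h1 : (φ ≫ ψ ≫ j.inv).hom a = (γ ≫ inr).hom a := by
          rw [← Category.assoc, hψ, Category.assoc, hj3]
        refine h1.trans ?_
        change Algebra.TensorProduct.includeRight (R := A) (A := A') (B := B) (algebraMap A B a) = _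
        rw [AlgHom.commutes] }
  have hβ : ∀ c, β c = (ψ ≫ j.inv).hom c := fun c => rfl
  -- algebra homomorphisms from morphisms
  have toAlg : ∀ α : R ⟶ A', ρ ≫ α = τ → ∃ αa : WR e C →ₐ[A] A', ∀ r, αa r = α.hom r := by
    intro α hα
    refine ⟨{ α.hom with commutes' := fun a => ?_ }, fun r => rfl⟩
    change (ρ ≫ α).hom a = τ.hom a
    rw [hα]
  -- the map induced on tensor products
  have key : ∀ (α : R ⟶ A') (αa : WR e C →ₐ[A] A'), (∀ r, αa r = α.hom r) →
      ∀ m : D ⟶ D', u ≫ m = α ≫ u' → v ≫ m = v' →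
        m = CommRingCat.ofHom (Algebra.TensorProduct.map αa (AlgHom.id A B)).toRingHom ≫ j.hom := by
    intro α αa hαa m hm1 hm2
    apply po.hom_ext
    · rw [hm1, ← hj1, ← Category.assoc, ← Category.assoc]
      congr 1
      refine CommRingCat.hom_ext (RingHom.ext fun r => ?_)
      change inl.hom (α.hom r) = Algebra.TensorProduct.map αa (AlgHom.id A B) (r ⊗ₜ 1)
      rw [Algebra.TensorProduct.map_tmul, hαa, map_one]
      rfl
    · rw [hm2, ← hj2, ← Category.assoc]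
      congr 1
      ext b
      change inr.hom b = Algebra.TensorProduct.map αa (AlgHom.id A B) (1 ⊗ₜ b)
      rw [Algebra.TensorProduct.map_tmul, map_one]
      rfl
  obtain ⟨αa, hαa⟩ := (toHom_bijective (C := C) (A' := A') e).2 β
  let α : R ⟶ A' := CommRingCat.ofHom αa.toRingHom
  have hα1 : ρ ≫ α = τ := by
    ext a
    change αa (algebraMap A (WR e C) a) = τ.hom a
    rw [AlgHom.commutes]
    rfl
  let m : D ⟶ D' :=
    CommRingCat.ofHom (Algebra.TensorProduct.map αa (AlgHom.id A B)).toRingHom ≫ j.hom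
  refine ⟨α, ⟨hα1, m, ?_, ?_, ?_⟩, ?_⟩
  · rw [← hj1, ← Category.assoc, ← Category.assoc]
    congr 1
  · rw [← hj2, ← Category.assoc]
    congr 1
    ext b
    change Algebra.TensorProduct.map αa (AlgHom.id A B) (1 ⊗ₜ b) = inr.hom b
    rw [Algebra.TensorProduct.map_tmul, map_one]
    rfl
  · have h1 : Φ ≫ CommRingCat.ofHom (Algebra.TensorProduct.map αa (AlgHom.id A B)).toRingHom =
        ψ ≫ j.inv := by
      ext c
      change toHom e αa c = _
      rw [hαa, hβ]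
    rw [← Category.assoc, h1, Category.assoc, Iso.inv_hom_id, Category.comp_id]
  · rintro α₂ ⟨h1, m₂, h2, h3, h4⟩
    obtain ⟨αa₂, hαa₂⟩ := toAlg α₂ h1
    have hm₂ := key α₂ αa₂ hαa₂ m₂ h2 h3
    have h5 : toHom e αa₂ = β := by
      apply AlgHom.ext
      intro c
      rw [hβ]
      have : ψ = Φ ≫ CommRingCat.ofHom
          (Algebra.TensorProduct.map αa₂ (AlgHom.id A B)).toRingHom ≫ j.hom := by
        rw [← h4, hm₂]
      rw [this]
      simp only [Category.assoc, Iso.hom_inv_id, Category.comp_id]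
      rfl
    have h6 : αa₂ = αa := (toHom_bijective (C := C) (A' := A') e).1 (h5.trans hαa.symm)
    refine CommRingCat.hom_ext (RingHom.ext fun r => ?_)
    change α₂.hom r = αa r
    rw [← hαa₂, h6]

end Exists

end Groth.Agent.Lib.R2H3.WeilCat
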