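import Mathlib
import Groth.Prelude.Def_Flatn
import Groth.Agent.Lib.R2H3MorSLocal
import Groth.Agent.Lib.R2H3WeilCat

/-!
# Weil restriction along a finite free morphism of affine schemes

For affine schemes `Z, X, S` with `Γ(Z)` finite free over `Γ(S)`, the functor `Flatn.morS g f` of
relative morphisms is representable by an affine scheme over `S`.
-/

universe u

set_option linter.style.haveILetI false
set_option linter.unusedSectionVars false

open CategoryTheory CategoryTheory.Limits AlgebraicGeometry Opposite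

namespace Groth.Agent.Lib.R2H3.WeilAff

open Groth.Agent.Lib.Helper8MorS Groth.Agent.Lib.R2H3.MorSLocal Groth.Agent.Lib.R2H3.WeilCat

lemma exists_hom_appTop {Y T₀ : Scheme.{u}} [IsAffine T₀] (ψ : Γ(T₀, ⊤) ⟶ Γ(Y, ⊤)) :
    ∃ g : Y ⟶ T₀, g.appTop = ψ := by
  refine ⟨Y.toSpecΓ ≫ Spec.map ψ ≫ T₀.isoSpec.inv, ?_⟩
  have h1 : T₀.isoSpec.inv.appTop ≫ (Scheme.ΓSpecIso Γ(T₀, ⊤)).hom = 𝟙 _ := by
    rw [← Scheme.toSpecΓ_appTop, ← Scheme.Hom.comp_appTop]
    have : T₀.toSpecΓ ≫ T₀.isoSpec.inv = 𝟙 _ := T₀.isoSpec.hom_inv_id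
    rw [this]
    rfl
  rw [Scheme.Hom.comp_appTop, Scheme.Hom.comp_appTop, Scheme.toSpecΓ_appTop, Category.assoc,
    Scheme.ΓSpecIso_naturality, ← Category.assoc, h1, Category.id_comp]

variable {Z X S : Scheme.{u}} [IsAffine Z] [IsAffine X] [IsAffine S] (g : Z ⟶ S) (f : X ⟶ S)

/-- the pushout square of global sections of `T ×_S Z`. -/
lemma po_T (T : Over S) [IsAffine T.left] :
    IsPushout T.hom.appTop g.appTop (pullback.fst T.hom g).appTop (pullback.snd T.hom g).appTop :=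
  isPushout_appTop_of_isPullback (IsPullback.of_hasPullback T.hom g)

lemma PTl_appTop_fst {T' T : Over S} (a : T' ⟶ T) :
    (pullback.fst T.hom g).appTop ≫ (PTl g a).appTop =
      a.left.appTop ≫ (pullback.fst T'.hom g).appTop := by
  rw [← Scheme.Hom.comp_appTop, ← Scheme.Hom.comp_appTop, PTl_fst]

lemma PTl_appTop_snd {T' T : Over S} (a : T' ⟶ T) :
    (pullback.snd T.hom g).appTop ≫ (PTl g a).appTop = (pullback.snd T'.hom g).appTop := by
  rw [← Scheme.Hom.comp_appTop, PTl_snd]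

theorem representable_of_isWeil (W : Over S) [IsAffine W.left]
    (Φ : Γ(X, ⊤) ⟶ Γ(pullback W.hom g, ⊤))
    (hΦ : f.appTop ≫ Φ = g.appTop ≫ (pullback.snd W.hom g).appTop)
    (hW : IsWeil g.appTop f.appTop W.hom.appTop (pullback.fst W.hom g).appTop
      (pullback.snd W.hom g).appTop Φ) :
    Nonempty ((Flatn.morS g f).RepresentableBy W) := by
  obtain ⟨evl, hevl⟩ := exists_hom_appTop (Y := pullback W.hom g) (T₀ := X) Φ
  have hw : evl ≫ f = pullback.snd W.hom g ≫ g := by
    apply ext_of_isAffine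
    rw [Scheme.Hom.comp_appTop, Scheme.Hom.comp_appTop, hevl, hΦ]
  let ev : PT g W ⟶ Over.mk f := Over.homMk evl hw
  have hmap : ∀ {T : Over S} (a : T ⟶ W),
      ((Flatn.morS g f).map a.op ev : PT g T ⟶ Over.mk f).left = PTl g a ≫ evl := fun a => rfl
  refine ⟨representableBy_of_bijective W (G := Flatn.morS g f) ev
    (bijective_of_affine (isZarSheaf_morS g f) W ev ?_)⟩
  intro T hT
  haveI : IsAffine T.left := hT
  have poT := po_T g T
  have poW := po_T g W
  constructor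
  · intro a a' haa
    replace haa : (Flatn.morS g f).map a.op ev = (Flatn.morS g f).map a'.op ev := haa
    have hl : PTl g a ≫ evl = PTl g a' ≫ evl := by
      rw [← hmap, ← hmap, haa]
    have hψ : f.appTop ≫ (PTl g a ≫ evl).appTop = g.appTop ≫ (pullback.snd T.hom g).appTop := by
      rw [Scheme.Hom.comp_appTop, hevl, ← Category.assoc, hΦ, Category.assoc, PTl_appTop_snd]
    obtain ⟨α, -, hαu⟩ := hW T.hom.appTop _ _ poT (PTl g a ≫ evl).appTop hψ
    have h1 : a.left.appTop = α := by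
      apply hαu
      refine ⟨?_, (PTl g a).appTop, PTl_appTop_fst g a, PTl_appTop_snd g a, ?_⟩
      · rw [← Scheme.Hom.comp_appTop, Over.w a]
      · rw [Scheme.Hom.comp_appTop, hevl]
    have h2 : a'.left.appTop = α := by
      apply hαu
      refine ⟨?_, (PTl g a').appTop, PTl_appTop_fst g a', PTl_appTop_snd g a', ?_⟩
      · rw [← Scheme.Hom.comp_appTop, Over.w a']
      · rw [hl, Scheme.Hom.comp_appTop, hevl]
    apply Over.OverMorphism.ext
    apply ext_of_isAffine
    rw [h1, h2]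
  · intro b
    have hψ : f.appTop ≫ (b : PT g T ⟶ Over.mk f).left.appTop =
        g.appTop ≫ (pullback.snd T.hom g).appTop := by
      rw [← Scheme.Hom.comp_appTop, ← Scheme.Hom.comp_appTop]
      exact congrArg Scheme.Hom.appTop (Over.w (b : PT g T ⟶ Over.mk f))
    obtain ⟨α, ⟨hα1, m, hm1, hm2, hm3⟩, -⟩ :=
      hW T.hom.appTop _ _ poT (b : PT g T ⟶ Over.mk f).left.appTop hψ
    obtain ⟨al, hal⟩ := exists_hom_appTop (Y := T.left) (T₀ := W.left) α
    have halw : al ≫ W.hom = T.hom := by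
      apply ext_of_isAffine
      rw [Scheme.Hom.comp_appTop, hal, hα1]
    let a : T ⟶ W := Over.homMk al halw
    have hm : (PTl g a).appTop = m := by
      apply poW.hom_ext
      · rw [PTl_appTop_fst, hm1]
        change al.appTop ≫ _ = _
        rw [hal]
      · rw [PTl_appTop_snd, hm2]
    refine ⟨a, ?_⟩
    apply Over.OverMorphism.ext
    change ((Flatn.morS g f).map a.op ev : PT g T ⟶ Over.mk f).left = _
    rw [hmap]
    apply ext_of_isAffine
    rw [Scheme.Hom.comp_appTop, hevl, hm, hm3]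

omit [IsAffine Z] [IsAffine X] in
lemma isoSpec_inv_appTop : S.isoSpec.inv.appTop ≫ (Scheme.ΓSpecIso Γ(S, ⊤)).hom = 𝟙 _ := by
  rw [← Scheme.toSpecΓ_appTop, ← Scheme.Hom.comp_appTop]
  have : S.toSpecΓ ≫ S.isoSpec.inv = 𝟙 _ := S.isoSpec.hom_inv_id
  rw [this]
  rfl

/-- **Weil restriction, affine case.** -/
theorem weil_affine
    (hfree : letI := (g.appTop).hom.toAlgebra
      Module.Finite Γ(S, ⊤) Γ(Z, ⊤) ∧ Module.Free Γ(S, ⊤) Γ(Z, ⊤)) :
    ∃ W : Over S, IsAffine W.left ∧ Nonempty ((Flatn.morS g f).RepresentableBy W) := by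
  obtain ⟨R, D, ρ, u, v, Φ, po, hΦ, hW⟩ := exists_isWeil g.appTop f.appTop hfree
  let W : Over S := Over.mk (Spec.map ρ ≫ S.isoSpec.inv)
  haveI : IsAffine W.left := inferInstanceAs (IsAffine (Spec R))
  let i : R ≅ Γ(Spec R, ⊤) := (Scheme.ΓSpecIso R).symm
  have hρ : ρ ≫ i.hom = W.hom.appTop := by
    change ρ ≫ (Scheme.ΓSpecIso R).inv = (Spec.map ρ ≫ S.isoSpec.inv).appTop
    rw [Iso.comp_inv_eq, Scheme.Hom.comp_appTop, Category.assoc, Scheme.ΓSpecIso_naturality,
      ← Category.assoc, isoSpec_inv_appTop, Category.id_comp]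
  obtain ⟨Φ', hΦ', hW'⟩ := hW.transport po hΦ i (po_T g W) hρ
  exact ⟨W, inferInstance, representable_of_isWeil g f W Φ' hΦ' hW'⟩

end Groth.Agent.Lib.R2H3.WeilAff
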