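import Mathlib
import Groth.Agent.Lib.R2H3WeilAlgP
import Groth.Agent.Lib.R2H3WeilCat

/-!
# The Weil restriction algebra, finite projective case: categorical form

`exists_isWeil_proj`: existence of an `IsWeil` datum when `B` is finite projective over `A`.
-/

universe u

set_option linter.style.haveILetI false

open CategoryTheory CategoryTheory.Limits TensorProduct

namespace Groth.Agent.Lib.R2H3.WeilCatP

open Groth.Agent.Lib.R2H3.WeilAlgP Groth.Agent.Lib.R2H3.WeilCat

section Exists

variable {A B C : CommRingCat.{u}} (γ : A ⟶ B) (φ : A ⟶ C)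

theorem exists_isWeil_proj
    (hproj : letI := γ.hom.toAlgebra
      Module.Finite A B ∧ Module.Projective A B) :
    ∃ (R D : CommRingCat.{u}) (ρ : A ⟶ R) (u : R ⟶ D) (v : B ⟶ D) (Φ : C ⟶ D),
      IsPushout ρ γ u v ∧ φ ≫ Φ = γ ≫ v ∧ IsWeil γ φ ρ u v Φ := by
  classical
  letI algB : Algebra A B := γ.hom.toAlgebra
  letI algC : Algebra A C := φ.hom.toAlgebra
  obtain ⟨hfin, hpr⟩ := hproj
  obtain ⟨n, ⟨e⟩⟩ := exists_dualBasis A B
  let R : CommRingCat.{u} := CommRingCat.of (WR e C)
  let D : CommRingCat.{u} := CommRingCat.of (WR e C ⊗[A] B)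
  let ρ : A ⟶ R := CommRingCat.ofHom (algebraMap A (WR e C))
  let u : R ⟶ D := CommRingCat.ofHom (S := WR e C ⊗[A] B) Algebra.TensorProduct.includeLeftRingHom
  let v : B ⟶ D := CommRingCat.ofHom (S := WR e C ⊗[A] B)
    (Algebra.TensorProduct.includeRight (R := A) (A := WR e C) (B := B)).toRingHom
  let Φ : C ⟶ D := CommRingCat.ofHom (PhiBar e C).toRingHom
  have po : IsPushout ρ γ u v := CommRingCat.isPushout_tensorProduct A (WR e C) B
  have hΦ : φ ≫ Φ = γ ≫ v := by
    ext a
    change PhiBar e C (algebraMap A C a) =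
      Algebra.TensorProduct.includeRight (R := A) (A := WR e C) (B := B) (algebraMap A B a)
    rw [AlgHom.commutes, AlgHom.commutes]
  refine ⟨R, D, ρ, u, v, Φ, po, hΦ, ?_⟩
  intro A' D' τ u' v' po' ψ hψ
  letI algA' : Algebra A A' := τ.hom.toAlgebra
  let inl : A' ⟶ CommRingCat.of (A' ⊗[A] B) :=
    CommRingCat.ofHom (S := A' ⊗[A] B) Algebra.TensorProduct.includeLeftRingHom
  let inr : B ⟶ CommRingCat.of (A' ⊗[A] B) := CommRingCat.ofHom (S := A' ⊗[A] B)
    (Algebra.TensorProduct.includeRight (R := A) (A := A') (B := B)).toRingHom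
  have poT : IsPushout τ γ inl inr := CommRingCat.isPushout_tensorProduct A A' B
  let j := poT.isoIsPushout _ _ po'
  have hj1 : inl ≫ j.hom = u' := poT.inl_isoIsPushout_hom _ _ po'
  have hj2 : inr ≫ j.hom = v' := poT.inr_isoIsPushout_hom _ _ po'
  have hj3 : v' ≫ j.inv = inr := poT.inr_isoIsPushout_inv _ _ po'
  -- the algebra homomorphism corresponding to `ψ`
  let β : C →ₐ[A] A' ⊗[A] B :=
    { (ψ ≫ j.inv).hom with
      commutes' := fun a => by
        change (ψ ≫ j.inv).hom (φ.hom a) = _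
        have h1 : (φ ≫ ψ ≫ j.inv).hom a = (γ ≫ inr).hom a := by
          rw [← Category.assoc, hψ, Category.assoc, hj3]
        refine h1.trans ?_
        change Algebra.TensorProduct.includeRight (R := A) (A := A') (B := B) (algebraMap A B a) = _
        rw [AlgHom.commutes] }
  have hβ : ∀ c, β c = (ψ ≫ j.inv).hom c := fun c => rfl
  -- algebra homomorphisms from morphisms
  have toAlg : ∀ α : R ⟶ A', ρ ≫ α = τ → ∃ αa : WR e C →ₐ[A] A', ∀ r, αa r = α.hom r := by
    intro α hα
    refine ⟨{ α.hom with commutes' := fun a => ?_ }, fun r => rfl⟩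
    change (ρ ≫ α).hom a = τ.hom a
    rw [hα]
  -- the map induced on tensor products
  have key : ∀ (α : R ⟶ A') (αa : WR e C →ₐ[A] A'), (∀ r, αa r = α.hom r) →
      ∀ m : D ⟶ D', u ≫ m = α ≫ u' → v ≫ m = v' →
        m = CommRingCat.ofHom (Algebra.TensorProduct.map αa (AlgHom.id A B)).toRingHom ≫ j.hom := by
    intro α αa hαa m hm1 hm2
    apply po.hom_ext
    · rw [hm1, ← hj1, ← Category.assoc, ← Category.assoc]
      congr 1
      refine CommRingCat.hom_ext (RingHom.ext fun r => ?_)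
      change inl.hom (α.hom r) = Algebra.TensorProduct.map αa (AlgHom.id A B) (r ⊗ₜ 1)
      rw [Algebra.TensorProduct.map_tmul, hαa, map_one]
      rfl
    · rw [hm2, ← hj2, ← Category.assoc]
      congr 1
      ext b
      change inr.hom b = Algebra.TensorProduct.map αa (AlgHom.id A B) (1 ⊗ₜ b)
      rw [Algebra.TensorProduct.map_tmul, map_one]
      rfl
  obtain ⟨αa, hαa⟩ := (toHom_bijective (C := C) (A' := A') e).2 β
  let α : R ⟶ A' := CommRingCat.ofHom αa.toRingHom
  have hα1 : ρ ≫ α = τ := by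
    ext a
    change αa (algebraMap A (WR e C) a) = τ.hom a
    rw [AlgHom.commutes]
    rfl
  let m : D ⟶ D' :=
    CommRingCat.ofHom (Algebra.TensorProduct.map αa (AlgHom.id A B)).toRingHom ≫ j.hom
  refine ⟨α, ⟨hα1, m, ?_, ?_, ?_⟩, ?_⟩
  · rw [← hj1, ← Category.assoc, ← Category.assoc]
    congr 1
  · rw [← hj2, ← Category.assoc]
    congr 1
    ext b
    change Algebra.TensorProduct.map αa (AlgHom.id A B) (1 ⊗ₜ b) = inr.hom b
    rw [Algebra.TensorProduct.map_tmul, map_one]
    rfl
  · have h1 : Φ ≫ CommRingCat.ofHom (Algebra.TensorProduct.map αa (AlgHom.id A B)).toRingHom =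
        ψ ≫ j.inv := by
      ext c
      change toHom e αa c = _
      rw [hαa, hβ]
    rw [← Category.assoc, h1, Category.assoc, Iso.inv_hom_id, Category.comp_id]
  · rintro α₂ ⟨h1, m₂, h2, h3, h4⟩
    obtain ⟨αa₂, hαa₂⟩ := toAlg α₂ h1
    have hm₂ := key α₂ αa₂ hαa₂ m₂ h2 h3
    have h5 : toHom e αa₂ = β := by
      apply AlgHom.ext
      intro c
      rw [hβ]
      have : ψ = Φ ≫ CommRingCat.ofHom
          (Algebra.TensorProduct.map αa₂ (AlgHom.id A B)).toRingHom ≫ j.hom := by
        rw [← h4, hm₂]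
      rw [this]
      simp only [Category.assoc, Iso.hom_inv_id, Category.comp_id]
      rfl
    have h6 : αa₂ = αa := (toHom_bijective (C := C) (A' := A') e).1 (h5.trans hαa.symm)
    refine CommRingCat.hom_ext (RingHom.ext fun r => ?_)
    change α₂.hom r = αa r
    rw [← hαa₂, h6]

end Exists

end Groth.Agent.Lib.R2H3.WeilCatP
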