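import Mathlib
import Groth.Prelude.Def_Flatn
import Groth.Agent.Lib.R2H3WeilAff
import Groth.Agent.Lib.R2H3WeilCatP

/-!
# Weil restriction along a finite projective morphism of affine schemes

For affine schemes `Z, X, S` with `Γ(Z)` finite projective over `Γ(S)`, the functor
`Flatn.morS g f` of relative morphisms is representable by an affine scheme over `S`.
-/

universe u

set_option linter.style.haveILetI false
set_option linter.unusedSectionVars false

open CategoryTheory CategoryTheory.Limits AlgebraicGeometry Opposite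

namespace Groth.Agent.Lib.R2H3.WeilAffP

open Groth.Agent.Lib.Helper8MorS Groth.Agent.Lib.R2H3.MorSLocal Groth.Agent.Lib.R2H3.WeilCat
  Groth.Agent.Lib.R2H3.WeilCatP Groth.Agent.Lib.R2H3.WeilAff

variable {Z X S : Scheme.{u}} [IsAffine Z] [IsAffine X] [IsAffine S] (g : Z ⟶ S) (f : X ⟶ S)

/-- **Weil restriction, affine finite projective case.** -/
theorem weil_affine_proj
    (hproj : letI := (g.appTop).hom.toAlgebra
      Module.Finite Γ(S, ⊤) Γ(Z, ⊤) ∧ Module.Projective Γ(S, ⊤) Γ(Z, ⊤)) :
    ∃ W : Over S, IsAffine W.left ∧ Nonempty ((Flatn.morS g f).RepresentableBy W) := by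
  obtain ⟨R, D, ρ, u, v, Φ, po, hΦ, hW⟩ := exists_isWeil_proj g.appTop f.appTop hproj
  let W : Over S := Over.mk (Spec.map ρ ≫ S.isoSpec.inv)
  haveI : IsAffine W.left := inferInstanceAs (IsAffine (Spec R))
  let i : R ≅ Γ(Spec R, ⊤) := (Scheme.ΓSpecIso R).symm
  have hρ : ρ ≫ i.hom = W.hom.appTop := by
    change ρ ≫ (Scheme.ΓSpecIso R).inv = (Spec.map ρ ≫ S.isoSpec.inv).appTop
    rw [Iso.comp_inv_eq, Scheme.Hom.comp_appTop, Category.assoc, Scheme.ΓSpecIso_naturality,
      ← Category.assoc, isoSpec_inv_appTop, Category.id_comp]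
  obtain ⟨Φ', hΦ', hW'⟩ := hW.transport po hΦ i (po_T g W) hρ
  exact ⟨W, inferInstance, representable_of_isWeil g f W Φ' hΦ' hW'⟩

/-- finite flat finitely presented morphisms of affine schemes are finite projective on global
sections. -/
theorem finite_projective_appTop [IsFinite g] [Flat g] [LocallyOfFinitePresentation g] :
    letI := (g.appTop).hom.toAlgebra
    Module.Finite Γ(S, ⊤) Γ(Z, ⊤) ∧ Module.Projective Γ(S, ⊤) Γ(Z, ⊤) := by
  letI := (g.appTop).hom.toAlgebra
  have h1 : g.appTop.hom.Finite := g.finite_appTop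
  have h2 : g.appTop.hom.Flat := g.flat_appTop
  have h3 : g.appTop.hom.FinitePresentation :=
    HasRingHomProperty.appTop (P := @LocallyOfFinitePresentation) g inferInstance
  haveI : Module.Finite Γ(S, ⊤) Γ(Z, ⊤) := h1
  haveI : Module.Flat Γ(S, ⊤) Γ(Z, ⊤) := h2
  haveI : Algebra.FinitePresentation Γ(S, ⊤) Γ(Z, ⊤) := h3
  haveI : Module.FinitePresentation Γ(S, ⊤) Γ(Z, ⊤) :=
    Module.FinitePresentation.of_finite_of_finitePresentation _ _
  exact ⟨inferInstance, Module.Flat.projective_of_finitePresentation⟩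

end Groth.Agent.Lib.R2H3.WeilAffP
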