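import Mathlib
import Groth.Prelude.Def_Flatn
import Groth.Agent.Lib.R2H3ZarGlueOver
import Groth.Agent.Lib.R2H3WeilAff
import Groth.Agent.Lib.R2H3WeilAffP

/-!
# Weil restriction along a finite free morphism over an affine base

For `S, Z` affine with `Γ(Z)` finite free over `Γ(S)` and `f : X ⟶ S` such that finite subsets of
fibres of `f` lie in affine opens, `Flatn.morS g f` is representable (`weil_affineBase`).
-/

universe u

set_option linter.style.haveILetI false
set_option linter.unusedSectionVars false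

open CategoryTheory CategoryTheory.Limits AlgebraicGeometry Opposite

namespace Groth.Agent.Lib.R2H3.WeilGlue

open Groth.Agent.Lib.Helper8MorS Groth.Agent.Lib.R2H3.MorSLocal Groth.Agent.Lib.R2H3.ZarGlueOver
  Groth.Agent.Lib.R2H3.WeilAff

variable {Z X S : Scheme.{u}} (g : Z ⟶ S) (f : X ⟶ S)

section Locus

variable [IsProper g]

/-- the locus of `T` over which a section `b` factors through the open `U ⊆ X`. -/
noncomputable def locusOf (T : Over S) (b : PT g T ⟶ Over.mk f) (U : X.Opens) : T.left.Opens :=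
  ⟨(pullback.fst T.hom g '' (b.left ⁻¹' (U : Set X)ᶜ))ᶜ,
    ((pullback.fst T.hom g).isClosedMap _
      (U.2.isClosed_compl.preimage b.left.continuous)).isOpen_compl⟩

theorem range_subset_locusOf_iff {T T' : Over S} (b : PT g T ⟶ Over.mk f) (U : X.Opens)
    (φ : T' ⟶ T) :
    Set.range φ.left ⊆ (locusOf g f T b U : Set T.left) ↔
      Set.range (PTl g φ ≫ b.left) ⊆ (U : Set X) := by
  have hpb := PTl_isPullback g φ
  constructor
  · rintro h _ ⟨w, rfl⟩
    by_contra hw
    have h1 : φ.left (pullback.fst T'.hom g w) ∉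
        pullback.fst T.hom g '' (b.left ⁻¹' (U : Set X)ᶜ) := h ⟨_, rfl⟩
    refine h1 ⟨PTl g φ w, ?_, ?_⟩
    · show b.left (PTl g φ w) ∉ (U : Set X)
      rw [← Scheme.Hom.comp_apply]
      exact hw
    · rw [← Scheme.Hom.comp_apply, PTl_fst, Scheme.Hom.comp_apply]
  · rintro h _ ⟨t, rfl⟩
    show φ.left t ∉ pullback.fst T.hom g '' (b.left ⁻¹' (U : Set X)ᶜ)
    rintro ⟨z, hz, hzt⟩
    have hz' : b.left z ∉ (U : Set X) := hz
    obtain ⟨w, hw1, hw2⟩ := Scheme.exists_preimage_of_isPullback hpb z t hzt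
    have h3 : b.left z = (PTl g φ ≫ b.left) w := by
      rw [Scheme.Hom.comp_apply]
      exact congrArg _ hw1.symm
    exact hz' (h3 ▸ h ⟨w, rfl⟩)

end Locus

section Piece

variable [IsProper g] (U : X.Opens) (W : Over S)
  (r : (Flatn.morS g (U.ι ≫ f)).RepresentableBy W)

/-- inclusion of the open subscheme, over `S`. -/
abbrev JU : Over.mk (U.ι ≫ f) ⟶ Over.mk f := Over.homMk U.ι rfl

instance : Mono (JU f U) := by
  haveI : Mono (JU f U).left := inferInstanceAs (Mono U.ι)
  exact Over.mono_of_mono_left _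

/-- the universal section of the open subfunctor. -/
noncomputable def univ : PT g W ⟶ Over.mk (U.ι ≫ f) := r.homEquiv (𝟙 W)

lemma homEquiv_eq_univ {T : Over S} (a : T ⟶ W) :
    (r.homEquiv a : PT g T ⟶ Over.mk (U.ι ≫ f)) = PTmap g a ≫ univ g f U W r :=
  (r.homEquiv_eq a).trans (Flatn.morS_map g (U.ι ≫ f) a (r.homEquiv (𝟙 W)))

lemma morS_map_eq {T T' : Over S} (φ : T' ⟶ T) (b : PT g T ⟶ Over.mk f) :
    ((Flatn.morS g f).map φ.op b : PT g T' ⟶ Over.mk f) = PTmap g φ ≫ b := rfl

/-- the piece of `morS g f` given by a representing object of `morS g (U ⟶ X ⟶ S)`. -/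
noncomputable def pieceOfOpen : Piece (Flatn.morS g f) where
  W := W
  e := univ g f U W r ≫ JU f U
  inj T := by
    intro a a' haa
    replace haa : PTmap g a ≫ univ g f U W r ≫ JU f U = PTmap g a' ≫ univ g f U W r ≫ JU f U := haa
    rw [← Category.assoc, ← Category.assoc, cancel_mono, ← homEquiv_eq_univ, ← homEquiv_eq_univ]
      at haa
    exact r.homEquiv.injective haa
  locus T b := locusOf g f T b U
  locus_spec T b T' φ := by
    rw [range_subset_locusOf_iff]
    constructor
    · rintro ⟨a, ha⟩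
      replace ha : PTmap g a ≫ univ g f U W r ≫ JU f U = PTmap g φ ≫ b := ha
      have h1 : PTl g φ ≫ (b : PT g T ⟶ Over.mk f).left =
          (PTmap g a ≫ univ g f U W r).left ≫ U.ι := by
        have := congrArg (fun m => m.left) ha
        exact this.symm.trans (by rw [← Category.assoc]; rfl)
      rw [h1]
      rintro _ ⟨w, rfl⟩
      rw [Scheme.Hom.comp_apply]
      have := Set.mem_range_self (f := U.ι) ((PTmap g a ≫ univ g f U W r).left w)
      rwa [Scheme.Opens.range_ι] at this
    · intro h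
      have h' : Set.range (PTl g φ ≫ (b : PT g T ⟶ Over.mk f).left) ⊆ Set.range U.ι := by
        rwa [Scheme.Opens.range_ι]
      let bl : pullback T'.hom g ⟶ U.toScheme := IsOpenImmersion.lift U.ι _ h'
      have hbl : bl ≫ U.ι = PTl g φ ≫ (b : PT g T ⟶ Over.mk f).left :=
        IsOpenImmersion.lift_fac _ _ _
      have hw : bl ≫ (U.ι ≫ f) = pullback.snd T'.hom g ≫ g := by
        rw [← Category.assoc, hbl]
        exact Over.w (PTmap g φ ≫ b)
      let b' : PT g T' ⟶ Over.mk (U.ι ≫ f) := Over.homMk bl hw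
      have hb' : b' ≫ JU f U = PTmap g φ ≫ b := Over.OverMorphism.ext hbl
      refine ⟨r.homEquiv.symm b', ?_⟩
      change PTmap g (r.homEquiv.symm b') ≫ univ g f U W r ≫ JU f U = PTmap g φ ≫ b
      rw [← Category.assoc, ← homEquiv_eq_univ, Equiv.apply_symm_apply, hb']

end Piece

/-- **Gluing over the affine opens of `X`**: if `morS g (U ⟶ X ⟶ S)` is representable for all
affine opens `U` of `X`, `g` is finite, and finite subsets of fibres of `f` lie in affine opens, then
`morS g f` is representable. -/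
theorem weil_of_affineOpens [IsFinite g]
    (hrep : ∀ U : X.affineOpens, ∃ W : Over S,
      Nonempty ((Flatn.morS g (U.1.ι ≫ f)).RepresentableBy W))
    (hAF : ∀ (s : S) (d : ℕ) (x : Fin d → X), (∀ k, f (x k) = s) →
      ∃ U : X.Opens, IsAffineOpen U ∧ ∀ k, x k ∈ U) :
    (Flatn.morS g f).IsRepresentable := by
  choose W hW using hrep
  let P : X.affineOpens → Piece (Flatn.morS g f) :=
    fun U => pieceOfOpen g f U.1 (W U) (hW U).some
  refine isRepresentable_of_pieces (isZarSheaf_morS g f) P ?_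
  intro T b x
  let bb : PT g T ⟶ Over.mk f := b
  let π := pullback.fst T.hom g
  have hfin : (π ⁻¹' {x}).Finite := π.finite_preimage_singleton x
  have hfin' : (bb.left '' (π ⁻¹' {x})).Finite := hfin.image _
  obtain ⟨d, y, -, hy⟩ := hfin'.fin_param
  have hys : ∀ k, f (y k) = T.hom x := by
    intro k
    have : y k ∈ bb.left '' (π ⁻¹' {x}) := hy ▸ Set.mem_range_self k
    obtain ⟨z, hz, hzk⟩ := this
    rw [← hzk]
    have h1 : bb.left ≫ f = pullback.snd T.hom g ≫ g := Over.w bb
    rw [← Scheme.Hom.comp_apply, h1, ← pullback.condition, Scheme.Hom.comp_apply]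
    exact congrArg _ hz
  obtain ⟨U, hU, hyU⟩ := hAF (T.hom x) d y hys
  refine ⟨⟨U, hU⟩, ?_⟩
  change x ∈ locusOf g f T bb U
  rintro ⟨z, hz, hzx⟩
  apply hz
  have : bb.left z ∈ Set.range y := by
    rw [hy]
    exact ⟨z, hzx, rfl⟩
  obtain ⟨k, hk⟩ := this
  change bb.left z ∈ U
  rw [← hk]
  exact hyU k

/-- **Weil restriction over an affine base along a finite locally free morphism.** -/
theorem weil_affineBase [IsAffine S] [IsFinite g] [Flat g] [LocallyOfFinitePresentation g]
    (hAF : ∀ (s : S) (d : ℕ) (x : Fin d → X), (∀ k, f (x k) = s) →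
      ∃ U : X.Opens, IsAffineOpen U ∧ ∀ k, x k ∈ U) :
    (Flatn.morS g f).IsRepresentable := by
  haveI : IsAffine Z := isAffine_of_isAffineHom g
  refine weil_of_affineOpens g f (fun U => ?_) hAF
  haveI : IsAffine U.1.toScheme := U.2
  obtain ⟨W, -, hW⟩ := Groth.Agent.Lib.R2H3.WeilAffP.weil_affine_proj g (U.1.ι ≫ f)
    (Groth.Agent.Lib.R2H3.WeilAffP.finite_projective_appTop g)
  exact ⟨W, hW⟩

end Groth.Agent.Lib.R2H3.WeilGlue
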