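import Mathlib
import Groth.Prelude.Def_Flatn
import Groth.Agent.S17079
import Groth.Agent.Lib.R2H3ZarGlueOver
import Groth.Agent.Lib.R2H3WeilGlue
import Groth.Agent.Lib.R2H4NormQAff

/-!
# Weil restriction along a finite locally free morphism: general base

* `pieceOfBase`: for an open immersion `h : V ⟶ S` and a presheaf `G` on `Over S`, a representing
  object of the restriction of `G` to `Over V` gives an open piece of `G`.
* `bcIso`: the restriction of `Flatn.morS g f` to `Over V` is `Flatn.morS` of the base changes.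
* `weil_general`: representability of `Flatn.morS g f` for `g` finite locally free and `f` such
  that finite subsets of fibres lie in affine opens.
-/

universe u

set_option linter.style.haveILetI false
set_option linter.unusedSectionVars false

open CategoryTheory CategoryTheory.Limits AlgebraicGeometry Opposite

namespace Groth.Agent.Lib.R2H3.WeilBase

open Groth.Agent.Lib.Helper8MorS Groth.Agent.Lib.R2H3.MorSLocal Groth.Agent.Lib.R2H3.ZarGlueOver
  Groth.Agent.Lib.R2H3.WeilGlue

section PieceOfBase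

variable {S V : Scheme.{u}} (h : V ⟶ S) [IsOpenImmersion h] (G : (Over S)ᵒᵖ ⥤ Type u)
  (W' : Over V) (r : ((Over.map h).op ⋙ G).RepresentableBy W')

/-- the universal element, as a section of `G` over `W' ⟶ V ⟶ S`. -/
def univB : G.obj (op ((Over.map h).obj W')) := r.homEquiv (𝟙 W')

lemma homEquiv_eq_rs {T' : Over V} (a₀ : T' ⟶ W') :
    (r.homEquiv a₀ : G.obj (op ((Over.map h).obj T'))) =
      rs G a₀.left (by rw [← Over.w a₀]; rfl : a₀.left ≫ (W'.hom ≫ h) = T'.hom ≫ h)
        (univB h G W' r) :=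
  r.homEquiv_eq a₀

/-- the piece of `G` given by a representing object of the restriction of `G` to `Over V`. -/
noncomputable def pieceOfBase : Piece G where
  W := (Over.map h).obj W'
  e := univB h G W' r
  inj T := by
    intro a a' haa
    replace haa : rs G a.left (Over.w a) (univB h G W' r) =
      rs G a'.left (Over.w a') (univB h G W' r) := haa
    have hw : a.left ≫ W'.hom = a'.left ≫ W'.hom := by
      rw [← cancel_mono h, Category.assoc, Category.assoc]
      exact (Over.w a).trans (Over.w a').symm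
    let T' : Over V := Over.mk (a.left ≫ W'.hom)
    let a₀ : T' ⟶ W' := Over.homMk a.left rfl
    let a₀' : T' ⟶ W' := Over.homMk a'.left hw.symm
    have h1 : r.homEquiv a₀ = r.homEquiv a₀' := by
      rw [homEquiv_eq_rs, homEquiv_eq_rs]
      exact rs_transfer haa (𝟙 _) (Category.id_comp _) (Category.id_comp _) _ _
    have h2 : a₀ = a₀' := r.homEquiv.injective h1
    exact Over.OverMorphism.ext (congrArg (fun m => m.left) h2)
  locus T _ := T.hom ⁻¹ᵁ h.opensRange
  locus_spec T b T₁ φ := by
    constructor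
    · rintro ⟨a, -⟩ _ ⟨x, rfl⟩
      change T.hom (φ.left x) ∈ Set.range h
      have h1 : T.hom (φ.left x) = h (W'.hom (a.left x)) := by
        rw [← Scheme.Hom.comp_apply, Over.w φ, ← Over.w a]
        rfl
      rw [h1]
      exact ⟨_, rfl⟩
    · intro hr
      have hr' : Set.range T₁.hom ⊆ Set.range h := by
        rintro _ ⟨x, rfl⟩
        have := hr ⟨x, rfl⟩
        change T.hom (φ.left x) ∈ Set.range h at this
        rwa [← Scheme.Hom.comp_apply, Over.w φ] at this
      let t₁ : T₁.left ⟶ V := IsOpenImmersion.lift h T₁.hom hr'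
      have ht₁ : t₁ ≫ h = T₁.hom := IsOpenImmersion.lift_fac _ _ _
      let T₁' : Over V := Over.mk t₁
      let c : G.obj (op ((Over.map h).obj T₁')) :=
        rs G (𝟙 _) ((Category.id_comp _).trans ht₁.symm) (G.map φ.op b)
      let a₀ : T₁' ⟶ W' := r.homEquiv.symm c
      have h1 : r.homEquiv a₀ = c := Equiv.apply_symm_apply _ _
      rw [homEquiv_eq_rs] at h1
      have hw : a₀.left ≫ (W'.hom ≫ h) = T₁.hom := by
        rw [← Category.assoc, Over.w a₀]
        exact ht₁
      refine ⟨Over.homMk a₀.left hw, ?_⟩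
      change rs G a₀.left hw (univB h G W' r) = G.map φ.op b
      have h2 : (G.map φ.op b : G.obj (op (Over.mk T₁.hom))) =
          rs G (𝟙 _) (Category.id_comp _) (G.map φ.op b) := (rs_id' _ _).symm
      rw [h2]
      exact rs_transfer h1 (𝟙 _) (Category.id_comp _) (Category.id_comp _) _ _

end PieceOfBase

section Shrink

/-- finitely many points of an affine open `U` lying in an open `O` lie in an affine open
contained in `O`. -/
lemma exists_affine_le {X : Scheme.{u}} (U : X.Opens) (hU : IsAffineOpen U) (O : X.Opens)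
    (F : Set X) (hF : F.Finite) (hFU : F ⊆ U) (hFO : F ⊆ O) :
    ∃ U₁ : X.Opens, IsAffineOpen U₁ ∧ U₁ ≤ O ∧ F ⊆ U₁ := by
  haveI : IsAffine U.toScheme := hU
  let F' : Set U.toScheme := U.ι ⁻¹' F
  have hF' : F'.Finite := hF.preimage (U.ι.isOpenEmbedding.injective.injOn)
  have hF'W : F' ⊆ (U.ι ⁻¹ᵁ O : U.toScheme.Opens) := fun y hy => hFO hy
  obtain ⟨s, hsW, hsF⟩ :=
    Groth.Agent.Lib.R2H4.NormQAff.exists_basicOpen_of_finite (U.ι ⁻¹ᵁ O) F' hF' hF'W
  refine ⟨U.ι ''ᵁ (U.toScheme.basicOpen s),
    ((isAffineOpen_top U.toScheme).basicOpen s).image_of_isOpenImmersion U.ι, ?_, ?_⟩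
  · rintro _ ⟨y, hy, rfl⟩
    exact hsW hy
  · intro x hx
    have hxU : x ∈ U := hFU hx
    refine ⟨⟨x, hxU⟩, hsF _ ?_, rfl⟩
    exact hx

end Shrink

section BC

variable {Z X S V : Scheme.{u}} (g : Z ⟶ S) (f : X ⟶ S) (h : V ⟶ S)

/-- the restriction of `Flatn.morS g f` to schemes over `V` is `Flatn.morS` of the base changes. -/
noncomputable def bcIso : (Over.map h).op ⋙ Flatn.morS g f ≅
    Flatn.morS (pullback.snd g h) (pullback.snd f h) :=
  let iso1 : (Over.map h).op ⋙ Flatn.morS g f ≅
      (Over.pullback (pullback.snd g h) ⋙ Over.map (pullback.snd g h) ⋙ Over.map h).op ⋙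
        yoneda.obj (Over.mk f) :=
    Functor.isoWhiskerRight (NatIso.op (Groth.Agent.S17079.bc g h)) (yoneda.obj (Over.mk f))
  let iso2 : (Over.pullback (pullback.snd g h) ⋙ Over.map (pullback.snd g h) ⋙ Over.map h).op ⋙
        yoneda.obj (Over.mk f) ≅ Flatn.morS (pullback.snd g h) (pullback.snd f h) :=
    Functor.isoWhiskerLeft (Over.pullback (pullback.snd g h) ⋙ Over.map (pullback.snd g h)).op
      (((Over.mapPullbackAdj h).representableBy (Over.mk f)).toIso).symm
  iso1 ≪≫ iso2

/-- the condition on finite subsets of fibres is inherited by the restriction over an open. -/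
lemma af_pullback [IsOpenImmersion h]
    (hAF : ∀ (s : S) (d : ℕ) (x : Fin d → X), (∀ k, f (x k) = s) →
      ∃ U : X.Opens, IsAffineOpen U ∧ ∀ k, x k ∈ U) :
    ∀ (v : V) (d : ℕ) (x : Fin d → ↥(pullback f h)), (∀ k, pullback.snd f h (x k) = v) →
      ∃ U : (pullback f h).Opens, IsAffineOpen U ∧ ∀ k, x k ∈ U := by
  intro v d x hx
  let p := pullback.fst f h
  obtain ⟨U, hU, hxU⟩ := hAF (h v) d (fun k => p (x k)) (fun k => by
    rw [← hx k, ← Scheme.Hom.comp_apply, ← Scheme.Hom.comp_apply, pullback.condition])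
  obtain ⟨U₁, hU₁, hU₁O, hFU₁⟩ := exists_affine_le U hU p.opensRange
    (Set.range (fun k => p (x k))) (Set.finite_range _)
    (by rintro _ ⟨k, rfl⟩; exact hxU k) (by rintro _ ⟨k, rfl⟩; exact ⟨x k, rfl⟩)
  exact ⟨p ⁻¹ᵁ U₁, hU₁.preimage_of_isOpenImmersion p hU₁O, fun k => hFU₁ ⟨k, rfl⟩⟩

/-- **Weil restriction along a finite locally free morphism.** -/
theorem weil_general [IsFinite g] [Flat g] [LocallyOfFinitePresentation g]
    (hAF : ∀ (s : S) (d : ℕ) (x : Fin d → X), (∀ k, f (x k) = s) →
      ∃ U : X.Opens, IsAffineOpen U ∧ ∀ k, x k ∈ U) :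
    (Flatn.morS g f).IsRepresentable := by
  have key : ∀ V : S.affineOpens, ∃ W' : Over V.1.toScheme,
      Nonempty (((Over.map V.1.ι).op ⋙ Flatn.morS g f).RepresentableBy W') := by
    intro V
    haveI : IsAffine V.1.toScheme := V.2
    obtain ⟨W', ⟨r'⟩⟩ := (weil_affineBase (pullback.snd g V.1.ι) (pullback.snd f V.1.ι)
      (af_pullback f V.1.ι hAF)).has_representation
    exact ⟨W', ⟨r'.ofIso (bcIso g f V.1.ι).symm⟩⟩
  choose W' hW' using key
  let P : S.affineOpens → Piece (Flatn.morS g f) :=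
    fun V => pieceOfBase V.1.ι (Flatn.morS g f) (W' V) (hW' V).some
  refine isRepresentable_of_pieces (isZarSheaf_morS g f) P ?_
  intro T b x
  obtain ⟨_, ⟨V, hV, rfl⟩, hxV, -⟩ := S.isBasis_affineOpens.exists_subset_of_mem_open
    (Set.mem_univ (T.hom x)) isOpen_univ
  refine ⟨⟨V, hV⟩, ?_⟩
  change T.hom x ∈ (Scheme.Opens.ι (X := S) V).opensRange
  rw [Scheme.Opens.opensRange_ι]
  exact hxV

end BC

end Groth.Agent.Lib.R2H3.WeilBase
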