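/-
Quasi-compactness of the Zariski-Riemann space (Tychonoff) and: lfp + valuative criterion + finitely many irreducible components => quasi-compact (S19036)
-/
import Mathlib
import Groth.Prelude

set_option autoImplicit false
set_option linter.style.haveILetI false
set_option linter.unusedSectionVars false
universe u v

namespace Groth.Agent.Lib.R2H1.ZRCompact

section Part1

open Set

/-- The set of characteristic functions of valuation subrings of `K` containing `A₀`. -/
def zrSet (K : Type u) [Field K] (A₀ : Set K) : Set (K → Bool) :=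
  {χ | χ 0 = true ∧ χ 1 = true ∧ (∀ a b, χ a = true → χ b = true → χ (a + b) = true) ∧
    (∀ a b, χ a = true → χ b = true → χ (a * b) = true) ∧ (∀ a, χ a = true → χ (-a) = true) ∧
    (∀ a, χ a = true ∨ χ a⁻¹ = true) ∧ ∀ a ∈ A₀, χ a = true}

theorem isClosed_zrSet (K : Type u) [Field K] (A₀ : Set K) : IsClosed (zrSet K A₀) := by
  have hev : ∀ a : K, Continuous (fun χ : K → Bool => χ a) := fun a => continuous_apply a
  have hcl : ∀ a : K, IsClosed {χ : K → Bool | χ a = true} := fun a =>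
    (isClosed_discrete ({true} : Set Bool)).preimage (hev a)
  have hop : ∀ a : K, IsOpen {χ : K → Bool | χ a = true} := fun a =>
    (isOpen_discrete ({true} : Set Bool)).preimage (hev a)
  have h1 : IsClosed {χ : K → Bool | ∀ a b, χ a = true → χ b = true → χ (a + b) = true} := by
    simp only [setOf_forall]
    exact isClosed_iInter fun a => isClosed_iInter fun b =>
      isClosed_imp (hop a) (isClosed_imp (hop b) (hcl _))
  have h2 : IsClosed {χ : K → Bool | ∀ a b, χ a = true → χ b = true → χ (a * b) = true} := by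
    simp only [setOf_forall]
    exact isClosed_iInter fun a => isClosed_iInter fun b =>
      isClosed_imp (hop a) (isClosed_imp (hop b) (hcl _))
  have h3 : IsClosed {χ : K → Bool | ∀ a, χ a = true → χ (-a) = true} := by
    simp only [setOf_forall]
    exact isClosed_iInter fun a => isClosed_imp (hop a) (hcl _)
  have h4 : IsClosed {χ : K → Bool | ∀ a, χ a = true ∨ χ a⁻¹ = true} := by
    simp only [setOf_forall]
    exact isClosed_iInter fun a => (hcl a).union (hcl a⁻¹)
  have h5 : IsClosed {χ : K → Bool | ∀ a ∈ A₀, χ a = true} := by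
    simp only [setOf_forall]
    exact isClosed_iInter fun a => isClosed_iInter fun _ => hcl a
  exact (hcl 0).inter ((hcl 1).inter (h1.inter (h2.inter (h3.inter (h4.inter h5)))))

/-- Quasi-compactness of the Zariski–Riemann space, in the form of a finite subcover statement. -/
theorem zr_finite_subcover {K : Type u} [Field K] (A₀ : Set K) {ι : Type v} (s : ι → Set K)
    (hs : ∀ i, (s i).Finite)
    (hcov : ∀ V : ValuationSubring K, A₀ ⊆ (V : Set K) → ∃ i, s i ⊆ (V : Set K)) :
    ∃ t : Finset ι, ∀ V : ValuationSubring K, A₀ ⊆ (V : Set K) → ∃ i ∈ t, s i ⊆ (V : Set K) := by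
  classical
  let O : ι → Set (K → Bool) := fun i => {χ | ∀ a ∈ s i, χ a = true}
  have hO : ∀ i, IsOpen (O i) := by
    intro i
    have : O i = ⋂ a ∈ s i, {χ : K → Bool | χ a = true} := by
      ext χ; simp only [O, mem_setOf_eq, mem_iInter]
    rw [this]
    have hev : ∀ a : K, Continuous (fun χ : K → Bool => χ a) := fun a => continuous_apply a
    exact (hs i).isOpen_biInter fun a _ =>
      (isOpen_discrete ({true} : Set Bool)).preimage (hev a)
  have hsub : zrSet K A₀ ⊆ ⋃ i, O i := by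
    intro χ hχ
    obtain ⟨h0, h1, hadd, hmul, hneg, hinv, hA⟩ := hχ
    let V : ValuationSubring K :=
      { carrier := {a | χ a = true}
        mul_mem' := fun {a b} ha hb => hmul a b ha hb
        one_mem' := h1
        add_mem' := fun {a b} ha hb => hadd a b ha hb
        zero_mem' := h0
        neg_mem' := fun {a} ha => hneg a ha
        mem_or_inv_mem' := hinv }
    obtain ⟨i, hi⟩ := hcov V (fun a ha => hA a ha)
    exact mem_iUnion.mpr ⟨i, fun a ha => hi ha⟩
  obtain ⟨t, ht⟩ := (isClosed_zrSet K A₀).isCompact.elim_finite_subcover O hO hsub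
  refine ⟨t, fun V hV => ?_⟩
  have hmem : (fun a => decide (a ∈ V)) ∈ zrSet K A₀ := by
    refine ⟨?_, ?_, ?_, ?_, ?_, ?_, ?_⟩
    · exact decide_eq_true V.zero_mem
    · exact decide_eq_true V.one_mem
    · exact fun a b ha hb => decide_eq_true (add_mem (of_decide_eq_true ha) (of_decide_eq_true hb))
    · exact fun a b ha hb => decide_eq_true (mul_mem (of_decide_eq_true ha) (of_decide_eq_true hb))
    · exact fun a ha => decide_eq_true (neg_mem (of_decide_eq_true ha))
    · exact fun a => (V.mem_or_inv_mem a).imp decide_eq_true decide_eq_true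
    · exact fun a ha => decide_eq_true (hV ha)
  obtain ⟨i, hi, hχ⟩ := mem_iUnion₂.mp (ht hmem)
  exact ⟨i, hi, fun a ha => of_decide_eq_true (hχ a ha)⟩

end Part1

section Part2

open AlgebraicGeometry CategoryTheory

variable {X Y : Scheme.{u}}

/-- A morphism from an affine scheme landing in an affine open factors through it. -/
theorem exists_SpecMap_fromSpec {W : X.Opens} (hW : IsAffineOpen W) {R : CommRingCat.{u}}
    (l : Spec R ⟶ X) (hl : Set.range l ⊆ W) :
    ∃ ρ : Γ(X, W) ⟶ R, Spec.map ρ ≫ hW.fromSpec = l := by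
  have h' : Set.range l ⊆ Set.range hW.fromSpec := by rw [hW.range_fromSpec]; exact hl
  refine ⟨Spec.preimage (IsOpenImmersion.lift hW.fromSpec l h'), ?_⟩
  rw [Spec.map_preimage, IsOpenImmersion.lift_fac]

theorem SpecMap_evaluation_fromSpec {W : X.Opens} (hW : IsAffineOpen W) (η : X) (hη : η ∈ W) :
    Spec.map (X.evaluation W η hη) ≫ hW.fromSpec = X.fromSpecResidueField η := by
  rw [Scheme.fromSpecResidueField, ← hW.fromSpecStalk_eq_fromSpecStalk hη,
    IsAffineOpen.fromSpecStalk, ← Spec.map_comp_assoc]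
  rfl

theorem eq_of_comp_eq {U : Y.Opens} (hU : IsAffineOpen U) {R K : CommRingCat.{u}} (ι : R ⟶ K)
    (hι : Function.Injective ι.hom) (g₁ g₂ : Spec R ⟶ Y) (h₁ : Set.range g₁ ⊆ U)
    (h₂ : Set.range g₂ ⊆ U) (h : Spec.map ι ≫ g₁ = Spec.map ι ≫ g₂) : g₁ = g₂ := by
  obtain ⟨r₁, rfl⟩ := exists_SpecMap_fromSpec hU g₁ h₁
  obtain ⟨r₂, rfl⟩ := exists_SpecMap_fromSpec hU g₂ h₂
  rw [← Spec.map_comp_assoc, ← Spec.map_comp_assoc, cancel_mono, Spec.map_inj] at h
  have : r₁ = r₂ := by
    ext a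
    apply hι
    have := congrArg (fun φ => φ.hom a) h
    simpa using this
  rw [this]

theorem fromSpecResidueField_comp {U : Y.Opens} (hU : IsAffineOpen U) (f : X ⟶ Y) (η : X)
    (hη : f η ∈ U) :
    X.fromSpecResidueField η ≫ f =
      Spec.map (f.app U ≫ X.evaluation (f ⁻¹ᵁ U) η hη) ≫ hU.fromSpec := by
  rw [Scheme.fromSpecResidueField, Category.assoc, ← Scheme.SpecMap_stalkMap_fromSpecStalk,
    ← hU.fromSpecStalk_eq_fromSpecStalk hη, IsAffineOpen.fromSpecStalk, ← Spec.map_comp_assoc,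
    ← Spec.map_comp_assoc, Scheme.Hom.germ_stalkMap_assoc]
  rfl

theorem appLE_evaluation (f : X ⟶ Y) {U : Y.Opens} {W : X.Opens} (hWU : W ≤ f ⁻¹ᵁ U) (η : X)
    (hηW : η ∈ W) :
    f.appLE U W hWU ≫ X.evaluation W η hηW = f.app U ≫ X.evaluation (f ⁻¹ᵁ U) η (hWU hηW) := by
  rw [Scheme.Hom.appLE, Category.assoc]
  congr 1
  rw [Scheme.evaluation, ← Category.assoc, TopCat.Presheaf.germ_res]
  rfl

theorem exists_finite_gen (f : X ⟶ Y) [LocallyOfFiniteType f] {U : Y.Opens} (hU : IsAffineOpen U)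
    {W : X.Opens} (hW : IsAffineOpen W) (hWU : W ≤ f ⁻¹ᵁ U) {K : Type u} [Field K]
    (ψ : Γ(X, W) →+* K) :
    ∃ s : Set K, s.Finite ∧ s ⊆ Set.range ψ ∧ ∀ V' : ValuationSubring K,
      (∀ a : Γ(Y, U), ψ ((f.appLE U W hWU).hom a) ∈ V') → s ⊆ (V' : Set K) → ∀ b, ψ b ∈ V' := by
  have hft : (f.appLE U W hWU).hom.FiniteType := f.finiteType_appLE hU hW hWU
  letI := (f.appLE U W hWU).hom.toAlgebra
  obtain ⟨s₀, hs₀⟩ := (hft : Algebra.FiniteType Γ(Y, U) Γ(X, W)).out
  refine ⟨ψ '' (s₀ : Set Γ(X, W)), s₀.finite_toSet.image _, Set.image_subset_range _ _,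
    fun V' hA hs b => ?_⟩
  let S : Subalgebra Γ(Y, U) Γ(X, W) :=
    { (V'.toSubring.comap ψ).toSubsemiring with
      algebraMap_mem' := fun a => hA a }
  have hle : Algebra.adjoin Γ(Y, U) (s₀ : Set Γ(X, W)) ≤ S :=
    Algebra.adjoin_le fun b hb => hs ⟨b, hb, rfl⟩
  rw [hs₀] at hle
  exact hle (Algebra.mem_top : b ∈ ⊤)

theorem eval_mem_of_lift {η : X} (V : ValuationSubring (X.residueField η))
    (l : Spec (.of V) ⟶ X)
    (hl : Spec.map (CommRingCat.ofHom (algebraMap V (X.residueField η))) ≫ l =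
      X.fromSpecResidueField η)
    {W : X.Opens} (hW : IsAffineOpen W) (hx : l (IsLocalRing.closedPoint V) ∈ W) :
    ∃ hηW : η ∈ W, ∀ b : Γ(X, W), (X.evaluation W η hηW).hom b ∈ V := by
  have hrange : Set.range l ⊆ W := by
    rintro _ ⟨p, rfl⟩
    exact ((IsLocalRing.specializes_closedPoint p).map l.continuous).mem_open W.2 hx
  have hη' : l ((Spec.map (CommRingCat.ofHom (algebraMap V (X.residueField η))))
      (IsLocalRing.closedPoint (X.residueField η))) = η := by
    rw [← Scheme.Hom.comp_apply, hl, Scheme.fromSpecResidueField_apply]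
  have hηW : η ∈ W := by
    rw [← hη']; exact hrange ⟨_, rfl⟩
  refine ⟨hηW, fun b => ?_⟩
  obtain ⟨ρ, hρ⟩ := exists_SpecMap_fromSpec hW l hrange
  have hkey : ρ ≫ CommRingCat.ofHom (algebraMap V (X.residueField η)) = X.evaluation W η hηW := by
    have h1 := hl
    rw [← hρ, ← SpecMap_evaluation_fromSpec hW η hηW, ← Spec.map_comp_assoc, cancel_mono,
      Spec.map_inj] at h1
    exact h1
  have h2 := congrArg (fun φ => φ.hom b) hkey
  have h3 : (X.evaluation W η hηW).hom b = ((ρ.hom b : V) : X.residueField η) := h2.symm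
  rw [h3]
  exact (ρ.hom b).2

theorem closedPoint_mem_of_eval_mem (f : X ⟶ Y) (hf : ValuativeCriterion f) {U : Y.Opens}
    (hU : IsAffineOpen U) {η : X} (V : ValuationSubring (X.residueField η))
    (l : Spec (.of V) ⟶ X)
    (hl : Spec.map (CommRingCat.ofHom (algebraMap V (X.residueField η))) ≫ l =
      X.fromSpecResidueField η)
    (hlU : Set.range (l ≫ f) ⊆ U)
    {W : X.Opens} (hW : IsAffineOpen W) (hWU : W ≤ f ⁻¹ᵁ U) (hηW : η ∈ W)
    (hb : ∀ b : Γ(X, W), (X.evaluation W η hηW).hom b ∈ V) :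
    l (IsLocalRing.closedPoint V) ∈ W := by
  let ρ : Γ(X, W) ⟶ CommRingCat.of V :=
    CommRingCat.ofHom ((X.evaluation W η hηW).hom.codRestrict V.toSubring hb)
  have hρ : ρ ≫ CommRingCat.ofHom (algebraMap V (X.residueField η)) = X.evaluation W η hηW := by
    ext b; rfl
  obtain ⟨l', hl'def⟩ : ∃ l' : Spec (.of V) ⟶ X, l' = Spec.map ρ ≫ hW.fromSpec := ⟨_, rfl⟩
  have hl' : Spec.map (CommRingCat.ofHom (algebraMap V (X.residueField η))) ≫ l' =
      X.fromSpecResidueField η := by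
    rw [hl'def, ← SpecMap_evaluation_fromSpec hW η hηW, ← hρ, Spec.map_comp, Category.assoc]
  have hmem : ∀ p, l' p ∈ W := fun p => by
    have : l' p ∈ Set.range hW.fromSpec := ⟨Spec.map ρ p, by rw [hl'def, Scheme.Hom.comp_apply]⟩
    rwa [hW.range_fromSpec] at this
  have hl'U : Set.range (l' ≫ f) ⊆ U := by
    rintro _ ⟨p, rfl⟩
    rw [Scheme.Hom.comp_apply]
    exact hWU (hmem p)
  have hff : l' ≫ f = l ≫ f :=
    eq_of_comp_eq hU (CommRingCat.ofHom (algebraMap V (X.residueField η)))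
      (FaithfulSMul.algebraMap_injective V (X.residueField η)) _ _ hl'U hlU
      (by rw [← Category.assoc, ← Category.assoc, hl', hl])
  let S : ValuativeCommSq f :=
    { R := V
      K := X.residueField η
      i₁ := X.fromSpecResidueField η
      i₂ := l ≫ f
      commSq := ⟨by rw [← hl, Category.assoc]⟩ }
  have huniq : Subsingleton S.commSq.LiftStruct := hf.uniqueness S
  let L : S.commSq.LiftStruct := ⟨l, hl, rfl⟩
  let L' : S.commSq.LiftStruct := ⟨l', hl', hff⟩
  have hLL : L = L' := Subsingleton.elim _ _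
  have hll : l = l' := congrArg CommSq.LiftStruct.l hLL
  rw [hll]
  exact hmem _

theorem exists_lift_of_mem (f : X ⟶ Y) (hf : ValuativeCriterion f) {U : Y.Opens}
    (hU : IsAffineOpen U) (η : X) (hη : f η ∈ U) (V : ValuationSubring (X.residueField η))
    (hV : ∀ a : Γ(Y, U), (f.app U ≫ X.evaluation (f ⁻¹ᵁ U) η hη).hom a ∈ V) :
    ∃ l : Spec (.of V) ⟶ X,
      Spec.map (CommRingCat.ofHom (algebraMap V (X.residueField η))) ≫ l =
        X.fromSpecResidueField η ∧ Set.range (l ≫ f) ⊆ U := by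
  obtain ⟨φ, hφdef⟩ : ∃ φ : Γ(Y, U) ⟶ X.residueField η,
    φ = f.app U ≫ X.evaluation (f ⁻¹ᵁ U) η hη := ⟨_, rfl⟩
  let φV : Γ(Y, U) ⟶ CommRingCat.of V :=
    CommRingCat.ofHom (φ.hom.codRestrict V.toSubring (by rw [hφdef]; exact hV))
  have hφ : φV ≫ CommRingCat.ofHom (algebraMap V (X.residueField η)) = φ := by ext a; rfl
  have w : X.fromSpecResidueField η ≫ f =
      Spec.map (CommRingCat.ofHom (algebraMap V (X.residueField η))) ≫
        Spec.map φV ≫ hU.fromSpec := by
    rw [fromSpecResidueField_comp hU f η hη, ← Spec.map_comp_assoc, hφ, hφdef]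
  obtain ⟨l, hl₁, hl₂⟩ := (hf.existence
    { R := V
      K := X.residueField η
      i₁ := X.fromSpecResidueField η
      i₂ := Spec.map φV ≫ hU.fromSpec
      commSq := ⟨w⟩ }).exists_lift
  refine ⟨l, hl₁, ?_⟩
  dsimp only at hl₂
  rw [hl₂]
  rintro _ ⟨p, rfl⟩
  have : hU.fromSpec (Spec.map φV p) ∈ Set.range hU.fromSpec := ⟨_, rfl⟩
  rw [hU.range_fromSpec] at this
  rwa [Scheme.Hom.comp_apply]

theorem exists_val_of_specializes (f : X ⟶ Y) {U : Y.Opens} (η : X)
    (hη : f η ∈ U) (x : X) (hx : f x ∈ U) (h : η ⤳ x) :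
    ∃ (V : ValuationSubring (X.residueField η)) (l : Spec (.of V) ⟶ X),
      (∀ a : Γ(Y, U), (f.app U ≫ X.evaluation (f ⁻¹ᵁ U) η hη).hom a ∈ V) ∧
      Spec.map (CommRingCat.ofHom (algebraMap V (X.residueField η))) ≫ l =
        X.fromSpecResidueField η ∧
      Set.range (l ≫ f) ⊆ U ∧ l (IsLocalRing.closedPoint V) = x := by
  obtain ⟨g, hgdef⟩ : ∃ g : X.presheaf.stalk x ⟶ X.residueField η,
    g = X.presheaf.stalkSpecializes h ≫ X.residue η := ⟨_, rfl⟩
  obtain ⟨V, hV, hloc⟩ := IsLocalRing.exists_factor_valuationRing g.hom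
  let gV : X.presheaf.stalk x ⟶ CommRingCat.of V :=
    CommRingCat.ofHom (g.hom.codRestrict V.toSubring hV)
  have hg : gV ≫ CommRingCat.ofHom (algebraMap V (X.residueField η)) = g := by ext a; rfl
  refine ⟨V, Spec.map gV ≫ X.fromSpecStalk x, ?_, ?_, ?_, ?_⟩
  · intro a
    have h1 := TopCat.Presheaf.germ_stalkSpecializes X.presheaf (U := f ⁻¹ᵁ U) hx h
    have h2 : f.app U ≫ X.evaluation (f ⁻¹ᵁ U) η hη =
        (f.app U ≫ X.presheaf.germ (f ⁻¹ᵁ U) x hx) ≫ g := by
      rw [hgdef, Category.assoc, ← Category.assoc (X.presheaf.germ (f ⁻¹ᵁ U) x hx), h1]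
      rfl
    have h3 := congrArg (fun ψ => ψ.hom a) h2
    have h4 : (f.app U ≫ X.evaluation (f ⁻¹ᵁ U) η hη).hom a =
        g.hom ((X.presheaf.germ (f ⁻¹ᵁ U) x hx).hom ((f.app U).hom a)) := h3
    rw [h4]
    exact hV _
  · rw [← Spec.map_comp_assoc, hg, hgdef, Spec.map_comp, Category.assoc,
      Scheme.SpecMap_stalkSpecializes_fromSpecStalk]
    rfl
  · rintro _ ⟨p, rfl⟩
    have hsp : (Spec.map gV ≫ X.fromSpecStalk x) p ⤳ x := by
      have : (Spec.map gV ≫ X.fromSpecStalk x) p ∈ Set.range (X.fromSpecStalk x) :=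
        ⟨Spec.map gV p, (Scheme.Hom.comp_apply _ _ _).symm⟩
      rw [Scheme.range_fromSpecStalk] at this
      exact this
    rw [Scheme.Hom.comp_apply]
    exact (hsp.map f.continuous).mem_open U.2 hx
  · rw [Scheme.Hom.comp_apply]
    have : Spec.map gV (IsLocalRing.closedPoint V) =
        IsLocalRing.closedPoint (X.presheaf.stalk x) :=
      IsLocalRing.comap_closedPoint (S := V) (g.hom.codRestrict V.toSubring hV)
    rw [this, Scheme.fromSpecStalk_closedPoint]

end Part2

section Part3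

open AlgebraicGeometry CategoryTheory

variable {X Y : Scheme.{u}}

theorem exists_finite_generic (X : Type u) [TopologicalSpace X] [QuasiSober X]
    (hX : (irreducibleComponents X).Finite) :
    ∃ G : Set X, G.Finite ∧ ∀ x : X, ∃ η ∈ G, η ⤳ x := by
  classical
  have hgen : ∀ Z ∈ irreducibleComponents X, ∃ η : X, IsGenericPoint η Z := fun Z hZ =>
    ⟨_, (hZ.1 : IsIrreducible Z).isGenericPoint_genericPoint
      (isClosed_of_mem_irreducibleComponents Z hZ)⟩
  choose gp hgp using hgen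
  haveI : Finite (irreducibleComponents X) := hX.to_subtype
  refine ⟨Set.range (fun Z : irreducibleComponents X => gp Z.1 Z.2), Set.finite_range _,
    fun x => ?_⟩
  refine ⟨gp (irreducibleComponent x) (irreducibleComponent_mem_irreducibleComponents x),
    ⟨⟨_, irreducibleComponent_mem_irreducibleComponents x⟩, rfl⟩, ?_⟩
  have := hgp _ (irreducibleComponent_mem_irreducibleComponents x)
  rw [specializes_iff_mem_closure, this.def]
  exact mem_irreducibleComponent

theorem main_point (f : X ⟶ Y) [LocallyOfFiniteType f] (hf : ValuativeCriterion f) {U : Y.Opens}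
    (hU : IsAffineOpen U) (η : X) (hη : f η ∈ U) :
    ∃ C : Set X, IsCompact C ∧ C ⊆ (f ⁻¹ᵁ U : Set X) ∧ ∀ x : X, f x ∈ U → η ⤳ x → x ∈ C := by
  classical
  obtain ⟨φ, hφdef⟩ : ∃ φ : Γ(Y, U) ⟶ X.residueField η,
    φ = f.app U ≫ X.evaluation (f ⁻¹ᵁ U) η hη := ⟨_, rfl⟩
  obtain ⟨A₀, hA₀def⟩ : ∃ A₀ : Set (X.residueField η), A₀ = Set.range φ.hom := ⟨_, rfl⟩
  have hA₀ : ∀ V : ValuationSubring (X.residueField η),
      A₀ ⊆ (V : Set (X.residueField η)) ↔ ∀ a, φ.hom a ∈ V := fun V => by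
    rw [hA₀def]; exact Set.range_subset_iff
  have data : ∀ i : {V : ValuationSubring (X.residueField η) //
        A₀ ⊆ (V : Set (X.residueField η))},
      ∃ (W : X.Opens), IsAffineOpen W ∧ W ≤ f ⁻¹ᵁ U ∧ ∃ hηW : η ∈ W,
        ∃ s : Set (X.residueField η), s.Finite ∧
        s ⊆ (i.1 : Set (X.residueField η)) ∧ ∀ V' : ValuationSubring (X.residueField η),
          A₀ ⊆ (V' : Set (X.residueField η)) → s ⊆ (V' : Set (X.residueField η)) →
          ∀ b : Γ(X, W), (X.evaluation W η hηW).hom b ∈ V' := by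
    rintro ⟨V, hV⟩
    obtain ⟨l, hl, hlU⟩ := exists_lift_of_mem f hf hU η hη V
      (by rw [← hφdef]; exact (hA₀ V).mp hV)
    have h0 := hlU ⟨IsLocalRing.closedPoint V, rfl⟩
    rw [Scheme.Hom.comp_apply] at h0
    have hxU : f (l (IsLocalRing.closedPoint V)) ∈ U := h0
    obtain ⟨_, ⟨W, hW, rfl⟩, hxW, hWU⟩ :=
      X.isBasis_affineOpens.exists_subset_of_mem_open hxU (f ⁻¹ᵁ U).2
    obtain ⟨hηW, hev⟩ := eval_mem_of_lift V l hl hW hxW
    obtain ⟨s, hsfin, hsr, hgen⟩ := exists_finite_gen f hU hW hWU (X.evaluation W η hηW).hom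
    refine ⟨W, hW, hWU, hηW, s, hsfin, ?_, fun V' hV' hs' => hgen V' ?_ hs'⟩
    · rintro _ hk
      obtain ⟨b, rfl⟩ := hsr hk
      exact hev b
    · intro a
      have h := congrArg (fun ψ => ψ.hom a) (appLE_evaluation f hWU η hηW)
      have h' : (X.evaluation W η hηW).hom ((f.appLE U W hWU).hom a) = φ.hom a := by
        rw [hφdef]; exact h
      rw [h']
      exact (hA₀ V').mp hV' a
  choose W hW hWU hηW s hsfin hsV hgen using data
  obtain ⟨t, ht⟩ := zr_finite_subcover A₀ s hsfin (fun V hV => ⟨⟨V, hV⟩, hsV ⟨V, hV⟩⟩)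
  refine ⟨⋃ i ∈ t, (W i : Set X), t.isCompact_biUnion fun i _ => (hW i).isCompact,
    Set.iUnion₂_subset fun i _ => hWU i, fun x hx hηx => ?_⟩
  obtain ⟨V, l, hVA, hl, hlU, hlx⟩ := exists_val_of_specializes f η hη x hx hηx
  have hVA' : A₀ ⊆ (V : Set (X.residueField η)) := (hA₀ V).mpr (by rw [hφdef]; exact hVA)
  obtain ⟨i, hit, hi⟩ := ht V hVA'
  have := closedPoint_mem_of_eval_mem f hf hU V l hl hlU (hW i) (hWU i) (hηW i)
    (hgen i V hVA' hi)
  rw [hlx] at this
  exact Set.mem_biUnion hit this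

theorem main (f : X ⟶ Y) [LocallyOfFiniteType f] (hf : ValuativeCriterion f)
    (hX : (irreducibleComponents X).Finite) : QuasiCompact f := by
  rw [quasiCompact_iff_forall_isAffineOpen]
  intro U hU
  obtain ⟨G, hG, hGs⟩ := exists_finite_generic X hX
  have hpt : ∀ η ∈ G, ∃ C : Set X, IsCompact C ∧ C ⊆ (f ⁻¹ᵁ U : Set X) ∧
      ∀ x : X, f x ∈ U → η ⤳ x → x ∈ C := by
    intro η _
    by_cases hη : f η ∈ U
    · exact main_point f hf hU η hη
    · exact ⟨∅, isCompact_empty, Set.empty_subset _, fun x hx h =>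
        (hη ((h.map f.continuous).mem_open U.2 hx)).elim⟩
  choose! C hC1 hC2 hC3 using hpt
  have : (f ⁻¹ᵁ U : Set X) = ⋃ η ∈ G, C η := by
    apply Set.Subset.antisymm
    · intro x hx
      obtain ⟨η, hηG, hηx⟩ := hGs x
      exact Set.mem_biUnion hηG (hC3 η hηG x hx hηx)
    · exact Set.iUnion₂_subset fun η hη => hC2 η hη
  rw [this]
  exact hG.isCompact_biUnion fun η hη => hC1 η hη

end Part3

end Groth.Agent.Lib.R2H1.ZRCompact
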