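/-
Coherent modules with zero-dimensional support on a proper scheme over a field are globally generated (S1527): flasqueness lets every local section extend to a global one.
-/
import Mathlib
import Groth.Prelude
import Groth.Agent.Lib.R2H1ZeroDimCoh
import Groth.Agent.Lib.Helper23LocGen

set_option autoImplicit false
set_option linter.style.haveILetI false
set_option linter.unusedSectionVars false
universe u v

namespace Groth.Agent.Lib.R2H1.ZeroDimGG

section Part1

open CategoryTheory CategoryTheory.Limits AlgebraicGeometry TopologicalSpace Opposite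
open Groth.Agent.Lib.Helper23.LocGen
open Groth.Agent.Lib.Helper23.SecTw Groth.Agent.Lib.Helper23.GenLocus Groth.Agent.Lib.Helper6
open Groth.Agent.Lib.R2H1.ZeroDimCoh

theorem s1527 (k : Type u) [Field k] (X : Scheme.{u}) [X.Over (Spec (CommRingCat.of k))]
    [IsProper (X ↘ (Spec (CommRingCat.of k)))]
    (F : X.Modules) (hF : Coh.IsCoh F) (hsupp : topologicalKrullDim (CohB1.support F) ≤ 0) :
    Curv2.IsGloballyGenerated F := by
  haveI : CompactSpace X :=
    QuasiCompact.compactSpace_of_compactSpace (X ↘ Spec (CommRingCat.of k))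
  haveI : IsLocallyNoetherian X :=
    LocallyOfFiniteType.isLocallyNoetherian (X ↘ Spec (CommRingCat.of k))
  haveI : IsNoetherian X := {}
  have hfl := isFlasque_toAb_of_dim_support_le_zero X F hF hsupp
  refine isGloballyGenerated_of_locGen F fun x => ⟨⊤, trivial, ?_⟩
  intro A _ m y hy
  refine ⟨A, le_rfl, hy, ?_⟩
  have hepi := hfl.epi (homOfLE (le_top : A ≤ ⊤)).op
  rw [AddCommGrpCat.epi_iff_surjective] at hepi
  obtain ⟨m', hm'⟩ := hepi m
  have h1 : res F le_rfl m = sv (secHom F m') A := by
    rw [sv_secHom, Groth.Agent.Lib.Helper23.SecTw.res_self]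
    exact hm'.symm
  rw [h1]
  exact sv_mem_gspan _ _ _

end Part1

end Groth.Agent.Lib.R2H1.ZeroDimGG
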