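import Mathlib
import Groth.Agent.Lib.R2H1ZeroSchemeMul
set_option backward.isDefEq.respectTransparency.types false

/-!
helper1 (run 2): Z(s') = Z(s) iff s' = h s with h a global unit, for nonzero sections of an invertible module on an integral scheme (S19457).
zeroIdealOn_eq_of_unit, main.
-/

set_option autoImplicit false
set_option linter.style.haveILetI false
set_option linter.unusedSectionVars false
universe u v

open CategoryTheory CategoryTheory.Limits AlgebraicGeometry TopologicalSpace Opposite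

namespace Groth.Agent.Lib.R2H1.ZeroSchemeEq

section Part1

open Mero Groth.Agent.Lib.Helper23.SecTw Groth.Agent.Lib.Helper6 Groth.Agent.Lib.R2H1.ZeroSchemeDiv
  Groth.Agent.Lib.R2H1.ZeroSchemeMul Groth.Agent.Lib.Helper20.Kmod5

variable {X : Scheme.{u}}

theorem zeroIdealOn_eq_of_unit (L : X.Modules) (s s' : Coh.structureModule X ⟶ L) (U : X.Opens)
    (h : Γ(X, U)) (hh : IsUnit h) (hss : PicF2.secVal L s' U = h • PicF2.secVal L s U) :
    PicF2.zeroIdealOn L s' U = PicF2.zeroIdealOn L s U := by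
  obtain ⟨u, rfl⟩ := hh
  ext a
  constructor
  · intro ha m
    obtain ⟨b, hb⟩ : ∃ b : Γ(X, U), a • m = b • PicF2.secVal L s' U := ha m
    refine ⟨(b * (u : Γ(X, U)) : Γ(X, U)), ?_⟩
    change a • m = (b * (u : Γ(X, U))) • PicF2.secVal L s U
    rw [hb, hss, smul_smul]
  · intro ha m
    obtain ⟨b, hb⟩ : ∃ b : Γ(X, U), a • m = b • PicF2.secVal L s U := ha m
    refine ⟨(b * ((u⁻¹ : (Γ(X, U))ˣ) : Γ(X, U)) : Γ(X, U)), ?_⟩
    change a • m = (b * ((u⁻¹ : (Γ(X, U))ˣ) : Γ(X, U))) • PicF2.secVal L s' U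
    rw [hb, hss, smul_smul, mul_assoc, Units.inv_mul, mul_one]

theorem main [IsIntegral X] (L : X.Modules) (hL : PicF.IsInvertible L)
    (s s' : Coh.structureModule X ⟶ L) (hs : s ≠ 0) (hs' : s' ≠ 0) :
    PicF2.zeroScheme L s' = PicF2.zeroScheme L s ↔
      ∃ h : Γ(X, ⊤), IsUnit h ∧
        (SecTwist.val s' ⊤ : Γ(L, ⊤)) = h • (SecTwist.val s ⊤ : Γ(L, ⊤)) := by
  constructor
  · intro hZ
    obtain ⟨D, -, e, he⟩ := Groth.Agent.Lib.R2H1.ZeroSchemeDiv.main L hL s hs
    have hinv : ∀ (W : X.Opens) (m : Γ(L, W)), e.inv.app W (e.hom.app W m) = m := fun W m =>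
      congrArg (fun φ : L ⟶ L => φ.app W m) e.hom_inv_id
    -- values of `e (s)` are `1`
    have hone : ∀ (U : X.Opens) (y : U), (e.hom.app U (sv s U)).1 y = 1 := by
      intro U y
      have h1 : e.hom.app U (res L le_top (sv s ⊤)) =
          res (divMod D) le_top (e.hom.app ⊤ (sv s ⊤)) :=
        Groth.Agent.Lib.R2H1.InvHom.app_res e.hom le_top (sv s ⊤)
      rw [res_sv] at h1
      rw [h1]
      have h2 := congrArg (fun g : Γ(kmod X, ⊤) => g.1 ⟨y.1, trivial⟩) he
      exact h2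
    set f : Γ(divMod D, ⊤) := e.hom.app ⊤ (sv s' ⊤) with hf
    have hfres : ∀ (U : X.Opens) (y : U), (e.hom.app U (sv s' U)).1 y = f.1 ⟨y.1, trivial⟩ := by
      intro U y
      have h1 : e.hom.app U (res L le_top (sv s' ⊤)) =
          res (divMod D) le_top (e.hom.app ⊤ (sv s' ⊤)) :=
        Groth.Agent.Lib.R2H1.InvHom.app_res e.hom le_top (sv s' ⊤)
      rw [res_sv] at h1
      rw [h1]
      rfl
    let fK : Γ(kmod X, ⊤) := ⟨f.1, f.2.1⟩
    have hloc : ∀ y : X, ∃ c : X.presheaf.stalk y, IsUnit c ∧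
        f.1 ⟨y, trivial⟩ = algebraMap (X.presheaf.stalk y) (KStalk X y) c := by
      intro y
      obtain ⟨W, t₀, hyW, ht₀⟩ := exists_gen L hL y
      obtain ⟨U, hU, hyU, hUW₀⟩ := exists_isAffineOpen_mem_and_subset (x := y) (U := W) hyW
      have hUW : U ≤ W := hUW₀
      haveI : Nonempty ↥((U : X.Opens) : Scheme.{u}) := ⟨⟨y, hyU⟩⟩
      haveI : IsDomain Γ(X, U) := IsIntegral.component_integral U
      have ht : IsGen L U (res L hUW t₀) := ht₀.mono hUW
      obtain ⟨a, hsa, hJ⟩ := exists_coef_ideal L hL s ⟨U, hU⟩ _ ht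
      obtain ⟨a', hsa', hJ'⟩ := exists_coef_ideal L hL s' ⟨U, hU⟩ _ ht
      have hspan : Ideal.span {a} = Ideal.span {a'} := by rw [← hJ, ← hJ', hZ]
      obtain ⟨u, hu⟩ := Ideal.span_singleton_eq_span_singleton.mp hspan
      have h1 : sv s' U = (u : Γ(X, U)) • sv s U := by
        rw [hsa', hsa, smul_smul, ← hu, mul_comm]
      refine ⟨X.presheaf.germ U y hyU (u : Γ(X, U)), (u.isUnit.map _), ?_⟩
      rw [← hfres U ⟨y, hyU⟩, h1, Scheme.Modules.Hom.app_smul]
      change X.presheaf.germ U y hyU (u : Γ(X, U)) • (e.hom.app U (sv s U)).1 ⟨y, hyU⟩ = _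
      rw [hone U ⟨y, hyU⟩, Algebra.smul_def, mul_one]
    have hrange : ∀ y : (⊤ : X.Opens), fK.1 y ∈
        (algebraMap (X.presheaf.stalk y.1) (KStalk X y.1)).range := by
      intro y
      obtain ⟨c, -, hc⟩ := hloc y.1
      exact ⟨c, hc.symm⟩
    obtain ⟨h, hh⟩ := exists_toK_eq fK hrange
    have hgerm : ∀ y : X, algebraMap (X.presheaf.stalk y) (KStalk X y)
        (X.presheaf.germ ⊤ y trivial h) = f.1 ⟨y, trivial⟩ := by
      intro y
      rw [Groth.Agent.S10856.algebraMap_eq_mk, ← toK_apply X (U := ⊤) h ⟨y, trivial⟩, hh]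
    refine ⟨h, ?_, ?_⟩
    · refine RingedSpace.isUnit_of_isUnit_germ X.toRingedSpace ⊤ h fun y hy => ?_
      obtain ⟨c, hcu, hc⟩ := hloc y
      have h2 : X.presheaf.germ ⊤ y trivial h = c :=
        algebraMap_KStalk_injective y ((hgerm y).trans hc)
      exact h2 ▸ hcu
    · have h3 : e.hom.app ⊤ (sv s' ⊤) = e.hom.app ⊤ (h • sv s ⊤) := by
        rw [Scheme.Modules.Hom.app_smul]
        apply Subtype.ext
        funext y
        change f.1 y = X.presheaf.germ ⊤ y.1 y.2 h • (e.hom.app ⊤ (sv s ⊤)).1 y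
        rw [hone ⊤ y, Algebra.smul_def, mul_one]
        exact (hgerm y.1).symm
      have h4 := congrArg (e.inv.app ⊤) h3
      rw [hinv, hinv] at h4
      exact h4
  · rintro ⟨h, hh, hss⟩
    unfold PicF2.zeroScheme
    congr 1
    funext U
    have hres : PicF2.secVal L s' U.1 =
        X.presheaf.map (homOfLE (le_top : U.1 ≤ ⊤)).op h • PicF2.secVal L s U.1 := by
      rw [← res_secVal L s' (le_top : U.1 ≤ ⊤), ← res_secVal L s (le_top : U.1 ≤ ⊤)]
      have h5 : PicF2.secVal L s' ⊤ = h • PicF2.secVal L s ⊤ := hss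
      rw [h5]
      exact Scheme.Modules.map_smul L (homOfLE (le_top : U.1 ≤ ⊤)) h _
    exact zeroIdealOn_eq_of_unit L s s' U.1 _ (hh.map _) hres

end Part1

end Groth.Agent.Lib.R2H1.ZeroSchemeEq
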