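import Groth.Agent.Lib.R2H2SubSec
set_option backward.isDefEq.respectTransparency.types false

/-!
# Artin–Rees for submodule sheaves `I^n F ∩ G` (helper2, round 2)

* `isQuasicoherent_inf` : the intersection of two quasi-coherent subobjects is quasi-coherent.
* `main` (= S9517) : `I^(n-c) (I^c F ∩ G) = I^n F ∩ G` for `n ≥ c`.
-/

set_option autoImplicit false
set_option linter.unusedSectionVars false
set_option linter.style.haveILetI false
universe u
open CategoryTheory CategoryTheory.Limits AlgebraicGeometry TopologicalSpace Opposite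

noncomputable section

namespace Groth.Agent.Lib.R2H2.ARSheaf

open Groth.Agent.Lib.R2H2.DevA Groth.Agent.Lib.R2H2.DevF Groth.Agent.Lib.R2H2.IdealMulSec
  Groth.Agent.Lib.R2H2.SubSec

variable {X : Scheme.{u}}

theorem isQuasicoherent_mk {A F : X.Modules} (f : A ⟶ F) [Mono f] [A.IsQuasicoherent] :
    ((Subobject.mk f : Subobject F) : X.Modules).IsQuasicoherent :=
  Groth.Agent.Lib.Helper23.TensorQCoh.isQuasicoherent_of_iso (Subobject.underlyingIso f).symm

theorem isQuasicoherent_inf {F : X.Modules} [F.IsQuasicoherent] (A B : Subobject F)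
    [(A : X.Modules).IsQuasicoherent] [(B : X.Modules).IsQuasicoherent] :
    ((A ⊓ B : Subobject F) : X.Modules).IsQuasicoherent := by
  haveI hmB : Mono B.arrow := Subobject.arrow_mono B
  haveI : (cokernel B.arrow).IsQuasicoherent :=
    Groth.Agent.Lib.Helper23.QCohLocal.isQuasicoherent_cokernel B.arrow
  let q := cokernel.π B.arrow
  haveI hK : (kernel (A.arrow ≫ q)).IsQuasicoherent :=
    Groth.Agent.Lib.Helper23.QCohLocal.isQuasicoherent_kernel (A.arrow ≫ q)
  let k := kernel.ι (A.arrow ≫ q) ≫ A.arrow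
  haveI : Mono k := mono_comp _ _
  have hk : k ≫ q = 0 := by
    change (kernel.ι (A.arrow ≫ q) ≫ A.arrow) ≫ q = 0
    rw [Category.assoc, kernel.condition]
  have hA : A.Factors k := (Subobject.factors_iff _ _).2 ⟨kernel.ι (A.arrow ≫ q), rfl⟩
  have hB : B.Factors k :=
    (Subobject.factors_iff _ _).2 ⟨Abelian.monoLift B.arrow k hk, Abelian.monoLift_comp B.arrow k hk⟩
  have hAB : (A ⊓ B).Factors k := (Subobject.inf_factors k).2 ⟨hA, hB⟩
  have h1 : Subobject.mk k ≤ A ⊓ B :=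
    Subobject.mk_le_of_comm ((A ⊓ B).factorThru k hAB) (Subobject.factorThru_arrow _ _ _)
  have h0 : Subobject.ofLE (A ⊓ B) A inf_le_left ≫ A.arrow ≫ q = 0 := by
    rw [← Category.assoc, Subobject.ofLE_arrow, ← Subobject.ofLE_arrow (inf_le_right : A ⊓ B ≤ B),
      Category.assoc, cokernel.condition, comp_zero]
  have h2 : A ⊓ B ≤ Subobject.mk k :=
    Subobject.le_mk_of_comm (kernel.lift (A.arrow ≫ q) (Subobject.ofLE (A ⊓ B) A inf_le_left) h0) (by
      change kernel.lift (A.arrow ≫ q) _ h0 ≫ kernel.ι (A.arrow ≫ q) ≫ A.arrow = _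
      rw [← Category.assoc, kernel.lift_ι, Subobject.ofLE_arrow])
  have heq : Subobject.mk k = A ⊓ B := le_antisymm h1 h2
  haveI := isQuasicoherent_mk k
  exact Groth.Agent.Lib.Helper23.TensorQCoh.isQuasicoherent_of_iso (Subobject.isoOfEq _ _ heq)

variable [IsNoetherian X]

theorem isCoh_subobject {F : X.Modules} (hF : Coh.IsCoh F) (A : Subobject F)
    [hA : (A : X.Modules).IsQuasicoherent] : Coh.IsCoh (A : X.Modules) := by
  haveI := hF.1
  haveI := hF.2
  haveI : Mono A.arrow := Subobject.arrow_mono A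
  exact ⟨hA, Groth.Agent.Lib.Helper23.FinType.isFiniteType_of_mono A.arrow⟩

/-- Artin–Rees for submodule sheaves (S9517) -/
theorem main (F G : X.Modules) (hF : Coh.IsCoh F) (hG : Coh.IsQCoh G) (ι : G ⟶ F) [Mono ι]
    (I : X.IdealSheafData) :
    ∃ c : ℕ, ∀ n : ℕ, c ≤ n →
      Subobject.mk (Dual3.idealMulι (I ^ (n - c))
          (Subobject.underlying.obj (Subobject.mk (Dual3.idealMulι (I ^ c) F) ⊓ Subobject.mk ι)) ≫
        (Subobject.mk (Dual3.idealMulι (I ^ c) F) ⊓ Subobject.mk ι).arrow) =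
      Subobject.mk (Dual3.idealMulι (I ^ n) F) ⊓ Subobject.mk ι := by
  haveI : F.IsQuasicoherent := hF.1
  haveI hft : SheafOfModules.IsFiniteType (R := X.ringCatSheaf) F := hF.2
  haveI : G.IsQuasicoherent := hG
  -- Artin–Rees on each affine open
  have hAR : ∀ U : X.affineOpens, ∃ k : ℕ, ∀ n ≥ k,
      (I.ideal U) ^ n • (⊤ : Submodule Γ(X, U.1) Γ(F, U.1)) ⊓ rangeApp ι U.1 =
        (I.ideal U) ^ (n - k) •
          ((I.ideal U) ^ k • (⊤ : Submodule Γ(X, U.1) Γ(F, U.1)) ⊓ rangeApp ι U.1) := by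
    intro U
    haveI : IsNoetherianRing Γ(X, U.1) := IsLocallyNoetherian.component_noetherian U
    haveI : Module.Finite Γ(X, U.1) Γ(F, U.1) :=
      Groth.Agent.Lib.Helper23.FinType.finite_of_isFiniteType F U.2
    exact Ideal.exists_pow_inf_eq_pow_smul (I.ideal U) (rangeApp ι U.1)
  choose kU hkU using hAR
  obtain ⟨s, hs⟩ : ∃ s : Finset X.affineOpens, (Set.univ : Set X) ⊆ ⋃ U ∈ s, (U.1 : Set X) :=
    isCompact_univ.elim_finite_subcover (fun U : X.affineOpens => (U.1 : Set X))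
      (fun U => U.1.2) (fun x _ => by
        obtain ⟨V, hV, hxV, -⟩ := exists_isAffineOpen_mem_and_subset (x := x) (U := ⊤) trivial
        exact Set.mem_iUnion.2 ⟨⟨V, hV⟩, hxV⟩)
  refine ⟨s.sup kU, fun n hn => ?_⟩
  set c := s.sup kU with hc
  let 𝒰 : Set X.Opens := {U | ∃ V ∈ s, V.1 = U}
  have haff : ∀ U ∈ 𝒰, IsAffineOpen U := by
    rintro _ ⟨V, -, rfl⟩
    exact V.2
  have hcov : ∀ x : X, ∃ U ∈ 𝒰, x ∈ U := by
    intro x
    obtain ⟨U, hU⟩ := Set.mem_iUnion.1 (hs (Set.mem_univ x))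
    obtain ⟨hUs, hxU⟩ := Set.mem_iUnion.1 hU
    exact ⟨U.1, ⟨U, hUs, rfl⟩, hxU⟩
  -- the subobjects
  let A : ℕ → Subobject F := fun m => Subobject.mk (Dual3.idealMulι (I ^ m) F)
  let B : Subobject F := Subobject.mk ι
  haveI hqA : ∀ m, ((A m : Subobject F) : X.Modules).IsQuasicoherent := fun m => by
    haveI := (isCoh_idealMul (I ^ m) F hF).1
    exact isQuasicoherent_mk _
  haveI hqB : ((B : Subobject F) : X.Modules).IsQuasicoherent := isQuasicoherent_mk ι
  haveI hqP : ((A c ⊓ B : Subobject F) : X.Modules).IsQuasicoherent := isQuasicoherent_inf _ _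
  haveI hqR : ((A n ⊓ B : Subobject F) : X.Modules).IsQuasicoherent := isQuasicoherent_inf _ _
  have hcP : Coh.IsCoh ((A c ⊓ B : Subobject F) : X.Modules) := isCoh_subobject hF _
  haveI hqIP : ((Dual3.idealMul (I ^ (n - c))).obj ((A c ⊓ B : Subobject F) : X.Modules)).IsQuasicoherent :=
    (isCoh_idealMul (I ^ (n - c)) _ hcP).1
  let L : Subobject F := Subobject.mk (Dual3.idealMulι (I ^ (n - c))
    ((A c ⊓ B : Subobject F) : X.Modules) ≫ (A c ⊓ B).arrow)
  haveI hqL : ((L : Subobject F) : X.Modules).IsQuasicoherent := isQuasicoherent_mk _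
  -- sections over the members of the cover
  have hsec : ∀ U ∈ 𝒰, rangeApp L.arrow U = rangeApp (A n ⊓ B).arrow U := by
    rintro _ ⟨V, hVs, rfl⟩
    have rA : ∀ m, rangeApp (A m).arrow V.1 =
        (I.ideal V) ^ m • (⊤ : Submodule Γ(X, V.1) Γ(F, V.1)) := by
      intro m
      rw [rangeApp_mk_arrow, rangeApp_idealMulι (I ^ m) F V.2]
      rfl
    have rB : rangeApp B.arrow V.1 = rangeApp ι V.1 := rangeApp_mk_arrow ι V.1
    have rL : rangeApp L.arrow V.1 = (I.ideal V) ^ (n - c) •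
        ((I.ideal V) ^ c • (⊤ : Submodule Γ(X, V.1) Γ(F, V.1)) ⊓ rangeApp ι V.1) := by
      rw [rangeApp_mk_arrow, rangeApp_idealMulι_comp (I ^ (n - c)) _ _ V.2, rangeApp_inf, rA, rB]
      rfl
    have rR : rangeApp (A n ⊓ B).arrow V.1 =
        (I.ideal V) ^ n • (⊤ : Submodule Γ(X, V.1) Γ(F, V.1)) ⊓ rangeApp ι V.1 := by
      rw [rangeApp_inf, rA, rB]
    have hkc : kU V ≤ c := Finset.le_sup hVs
    rw [rL, rR, hkU V n (le_trans hkc hn), hkU V c hkc, ← Submodule.mul_smul, ← pow_add]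
    congr 2
    omega
  apply le_antisymm
  · exact le_of_rangeApp_le L (A n ⊓ B) 𝒰 haff hcov (fun U hU => (hsec U hU).le)
  · exact le_of_rangeApp_le (A n ⊓ B) L 𝒰 haff hcov (fun U hU => (hsec U hU).ge)

end Groth.Agent.Lib.R2H2.ARSheaf
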