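import Mathlib

/-!
# The map on `Ext` groups induced by an adjunction with exact right adjoint (helper2, round 2)

For an adjunction `L ⊣ T` between abelian categories with `T` exact, the map
`Ext^n(L A, B) → Ext^n(A, T B)`, `x ↦ η_A ∘ T(x)`, is natural in `B`, compatible with connecting
maps, and bijective as soon as `Ext^{p+1}(A, T I) = 0` for all injective `I`.
-/

set_option autoImplicit false
set_option linter.unusedSectionVars false
universe w w' v v' u u'

namespace Groth.Agent.Lib.R2H2.AdjExt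

open CategoryTheory CategoryTheory.Limits Abelian

variable {𝒜 : Type u} [Category.{v} 𝒜] [Abelian 𝒜] {ℬ : Type u'} [Category.{v'} ℬ] [Abelian ℬ]
  [HasExt.{w} 𝒜] [HasExt.{w'} ℬ]
  {L : ℬ ⥤ 𝒜} {T : 𝒜 ⥤ ℬ} (adj : L ⊣ T) [T.Additive] [PreservesFiniteLimits T]
  [PreservesFiniteColimits T]

/-- `x ↦ η_A ∘ T(x)` -/
noncomputable def adjExt (A : ℬ) (B : 𝒜) (n : ℕ) (x : Ext.{w} (L.obj A) B n) :
    Ext.{w'} A (T.obj B) n :=
  (Ext.mk₀ (adj.unit.app A)).comp (x.mapExactFunctor T) (zero_add n)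

lemma adjExt_zero (A : ℬ) (B : 𝒜) (n : ℕ) : adjExt adj A B n 0 = 0 := by
  unfold adjExt
  rw [Ext.mapExactFunctor_zero, Ext.comp_zero]

lemma adjExt_add (A : ℬ) (B : 𝒜) (n : ℕ) (x y : Ext.{w} (L.obj A) B n) :
    adjExt adj A B n (x + y) = adjExt adj A B n x + adjExt adj A B n y := by
  unfold adjExt
  rw [Ext.mapExactFunctor_add, Ext.comp_add]

lemma adjExt_comp_mk₀ (A : ℬ) {B B' : 𝒜} (n : ℕ) (x : Ext.{w} (L.obj A) B n) (g : B ⟶ B') :
    adjExt adj A B' n (x.comp (Ext.mk₀ g) (add_zero n)) =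
      (adjExt adj A B n x).comp (Ext.mk₀ (T.map g)) (add_zero n) := by
  unfold adjExt
  rw [Ext.mapExactFunctor_comp, Ext.mapExactFunctor_mk₀, Ext.comp_assoc_of_third_deg_zero]

lemma adjExt_comp_extClass (A : ℬ) {S : ShortComplex 𝒜} (hS : S.ShortExact) (n : ℕ)
    (x : Ext.{w} (L.obj A) S.X₃ n) :
    adjExt adj A S.X₁ (n + 1) (x.comp hS.extClass rfl) =
      (adjExt adj A S.X₃ n x).comp (hS.map_of_exact T).extClass rfl := by
  unfold adjExt
  rw [Ext.mapExactFunctor_comp, Ext.mapExactFunctor_extClass]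
  exact (Ext.comp_assoc _ _ _ (zero_add n) rfl (by omega)).symm

lemma adjExt_mk₀ (A : ℬ) (B : 𝒜) (f : L.obj A ⟶ B) :
    adjExt adj A B 0 (Ext.mk₀ f) = Ext.mk₀ (adj.homEquiv A B f) := by
  unfold adjExt
  rw [Ext.mapExactFunctor_mk₀, Ext.mk₀_comp_mk₀, Adjunction.homEquiv_unit]

lemma adjExt_bijective_zero (A : ℬ) (B : 𝒜) : Function.Bijective (adjExt adj A B 0) := by
  constructor
  · intro x y hxy
    obtain ⟨f, rfl⟩ := (Ext.mk₀_bijective _ _).2 x
    obtain ⟨g, rfl⟩ := (Ext.mk₀_bijective _ _).2 y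
    rw [adjExt_mk₀, adjExt_mk₀] at hxy
    have h1 := (Ext.mk₀_bijective _ _).1 hxy
    rw [(adj.homEquiv A B).injective h1]
  · intro y
    obtain ⟨g, rfl⟩ := (Ext.mk₀_bijective _ _).2 y
    refine ⟨Ext.mk₀ ((adj.homEquiv A B).symm g), ?_⟩
    rw [adjExt_mk₀, Equiv.apply_symm_apply]

/-- **bijectivity of the adjunction map on `Ext`** -/
theorem adjExt_bijective [EnoughInjectives 𝒜] (A : ℬ)
    (hA : ∀ (I : 𝒜), Injective I → ∀ (p : ℕ) (y : Ext.{w'} A (T.obj I) (p + 1)), y = 0) :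
    ∀ (n : ℕ) (B : 𝒜), Function.Bijective (adjExt adj A B n) := by
  intro n
  induction n with
  | zero => exact fun B => adjExt_bijective_zero adj A B
  | succ n hn =>
    intro B
    let I : InjectivePresentation B := Classical.arbitrary _
    let S : ShortComplex 𝒜 := ShortComplex.mk _ _ (cokernel.condition I.f)
    have hS : S.ShortExact := { exact := ShortComplex.exact_cokernel I.f }
    have hTS : (S.map T).ShortExact := hS.map_of_exact T
    have hI : Injective S.X₂ := I.injective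
    constructor
    · intro x x' hxx
      have hsub : ∀ z : Ext.{w} (L.obj A) S.X₁ (n + 1), adjExt adj A S.X₁ (n + 1) z = 0 → z = 0 := by
        intro z hz
        have h1 : z.comp (Ext.mk₀ S.f) (add_zero (n + 1)) = 0 :=
          Ext.eq_zero_of_injective _
        obtain ⟨x₃, rfl⟩ := Ext.covariant_sequence_exact₁ _ hS z h1 rfl
        rw [adjExt_comp_extClass] at hz
        obtain ⟨y₂, hy₂⟩ := Ext.covariant_sequence_exact₃ _ hTS (adjExt adj A S.X₃ n x₃) rfl hz
        obtain ⟨x₂, rfl⟩ := (hn S.X₂).2 y₂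
        have h2 : adjExt adj A S.X₃ n (x₂.comp (Ext.mk₀ S.g) (add_zero n)) =
            adjExt adj A S.X₃ n x₃ := by
          rw [adjExt_comp_mk₀]
          exact hy₂
        have h3 := (hn S.X₃).1 h2
        rw [← h3, Ext.comp_assoc_of_second_deg_zero, hS.comp_extClass, Ext.comp_zero]
      have h0 : x - x' = 0 := hsub _ (by
        have := adjExt_add adj A S.X₁ (n + 1) (x - x') x'
        rw [sub_add_cancel, hxx] at this
        exact (add_eq_right.mp this.symm))
      exact sub_eq_zero.mp h0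
    · intro y
      have h1 : y.comp (Ext.mk₀ (S.map T).f) (add_zero (n + 1)) = 0 := hA S.X₂ hI n _
      obtain ⟨y₃, rfl⟩ := Ext.covariant_sequence_exact₁ _ hTS y h1 rfl
      obtain ⟨x₃, rfl⟩ := (hn S.X₃).2 y₃
      exact ⟨x₃.comp hS.extClass rfl, adjExt_comp_extClass adj A hS n x₃⟩

end Groth.Agent.Lib.R2H2.AdjExt
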