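import Groth.Agent.Lib.R2H2AmpleElt
import Groth.Agent.Lib.R2H2FinGenQC
set_option backward.isDefEq.respectTransparency.types false

/-!
# The class of an ample invertible module is an ample line element, quasi-compact case
(helper2, round 2)

`isAmpleElt_cl_qc` : `[L]` is an ample line element of `K(X)` for `L` ample on a connected scheme
`X` (`IsAmple` contains quasi-compactness; no Noetherian hypothesis).
-/

set_option autoImplicit false
set_option linter.unusedSectionVars false
set_option linter.style.haveILetI false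
universe v u

namespace Groth.Agent.Lib.R2H2.AmpleEltQC

open CategoryTheory CategoryTheory.Limits AlgebraicGeometry TopologicalSpace KZero
open Groth.Agent.Lib.R2H2.AmpleElt

variable {X : Scheme.{u}}

section Main

variable (X) [ConnectedSpace X] {K : Type v} [CommRing K]
  [LambdaRing.LambdaOps K] (P : LambdaRing.PosStructure K) (φ : SGA6.Kvb X →+ K)
  (hK : KRR.IsModel X K P φ)

include hK in
/-- the class of a bundle is positive or zero -/
theorem cl_mem_pos_or_zero_qc (M : X.Modules) (hM : FlatMod.IsFinLocFree M) :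
    φ (KRR.cl X M) ∈ P.pos ∨ φ (KRR.cl X M) = 0 := by
  obtain ⟨r, hr⟩ := exists_rank M hM
  rcases Nat.eq_zero_or_pos r with h0 | hpos
  · right
    subst h0
    have hz := isZero_of_rank_zero hr
    have : KRR.cl X M = 0 := Groth.Agent.Lib.R2H2.K0Gen.clSub_of_isZero (KRR.vbP X) hz hM
    rw [this, map_zero]
  · left
    exact (hK.mem_pos_iff _).2 ⟨r, M, hpos, hr, rfl⟩

include hK in
/-- `[L]` is an ample line element, `X` connected with an ample `L` (not nec. Noetherian) -/
theorem isAmpleElt_cl_qc (L : X.Modules) (hL : CohB1.IsAmple L) :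
    KRR.IsAmpleElt P (φ (KRR.cl X L)) := by
  have hL1 : FlatMod.IsFinLocFreeOfRank 1 L :=
    Groth.Agent.Lib.Helper23.SecTw.isFinLocFreeOfRank_one_of_isInvertible L hL.1
  have hLf : FlatMod.IsFinLocFree L := isFinLocFree_of_rank hL1
  have hO : FlatMod.IsFinLocFree (Coh.structureModule X) :=
    Groth.Agent.Lib.R2H2.ProjOverPush.isFinLocFree_of_isInvertible
      (Groth.Agent.Lib.Helper23.TensorUnit.isInvertible_structureModule X)
  have hupos : φ (KRR.cl X L) ∈ P.pos := (hK.mem_pos_iff _).2 ⟨1, L, le_rfl, hL1, rfl⟩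
  have haug : P.aug (φ (KRR.cl X L)) = 1 := by
    have := hK.aug_cl 1 L hL1
    simpa using this
  -- powers of `u`
  have hpow : ∀ n : ℕ, FlatMod.IsFinLocFree (CohB1.tensorPow L n) ∧
      φ (KRR.cl X L) ^ n = φ (KRR.cl X (CohB1.tensorPow L n)) := by
    intro n
    induction n with
    | zero => exact ⟨hO, by rw [pow_zero]; exact hK.map_one.symm⟩
    | succ n ih =>
      refine ⟨Groth.Agent.Lib.Helper1.FLF.isFinLocFree_tensor _ _ ih.1 hLf, ?_⟩
      rw [pow_succ, ih.2, hK.map_mul _ _ ih.1 hLf]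
      rfl
  have hpowpos : ∀ n : ℕ, φ (KRR.cl X L) ^ n ∈ P.pos := by
    intro n
    induction n with
    | zero =>
      rw [pow_zero]
      have := P.natCast_mem 1 Nat.one_pos
      simpa using this
    | succ n ih =>
      rw [pow_succ]
      exact P.mul_mem _ _ ih hupos
  refine ⟨⟨hupos, haug⟩, fun x => ?_⟩
  obtain ⟨e, f, he, hf, rfl⟩ := P.exists_sub x
  obtain ⟨b, F, -, hF, rfl⟩ := (hK.mem_pos_iff f).1 hf
  have hFf : FlatMod.IsFinLocFree F := isFinLocFree_of_rank hF
  haveI hFq : F.IsQuasicoherent := Groth.Agent.Lib.R2H2.PullLF.isQuasicoherent_of_isFinLocFree F hFf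
  haveI hFt : SheafOfModules.IsFiniteType (R := X.ringCatSheaf) F := by
    have hFfp : CohB1.IsFP F := Groth.Agent.Lib.Helper2.LocFree.isFP_of_isFinLocFree F hFf
    haveI : SheafOfModules.IsFinitePresentation (R := X.ringCatSheaf) F := hFfp
    infer_instance
  have hNfall : ∀ n, FlatMod.IsFinLocFree (CohB1.tensorMod F (CohB1.tensorPow L n)) := fun n =>
    Groth.Agent.Lib.Helper1.FLF.isFinLocFree_tensor _ _ hFf (hpow n).1
  have hqall : ∀ n, (CohB1.tensorMod F (CohB1.tensorPow L n)).IsQuasicoherent := fun n =>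
    Groth.Agent.Lib.R2H2.PullLF.isQuasicoherent_of_isFinLocFree _ (hNfall n)
  have hftall : ∀ n, SheafOfModules.IsFiniteType (R := X.ringCatSheaf)
      (CohB1.tensorMod F (CohB1.tensorPow L n)) := fun n => by
    have hfp : CohB1.IsFP (CohB1.tensorMod F (CohB1.tensorPow L n)) :=
      Groth.Agent.Lib.Helper2.LocFree.isFP_of_isFinLocFree _ (hNfall n)
    haveI : SheafOfModules.IsFinitePresentation (R := X.ringCatSheaf)
      (CohB1.tensorMod F (CohB1.tensorPow L n)) := hfp
    infer_instance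
  obtain ⟨n₀, hn₀⟩ :=
    Groth.Agent.Lib.R2H2.FinGenQC.exists_finite_epi_twist L hL F hqall hftall
  refine ⟨n₀, fun n hn => ?_⟩
  have hNf : FlatMod.IsFinLocFree (CohB1.tensorMod F (CohB1.tensorPow L n)) :=
    Groth.Agent.Lib.Helper1.FLF.isFinLocFree_tensor _ _ hFf (hpow n).1
  haveI hNq : (CohB1.tensorMod F (CohB1.tensorPow L n)).IsQuasicoherent :=
    Groth.Agent.Lib.R2H2.PullLF.isQuasicoherent_of_isFinLocFree _ hNf
  haveI hNt : SheafOfModules.IsFiniteType (R := X.ringCatSheaf)
      (CohB1.tensorMod F (CohB1.tensorPow L n)) := by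
    have hfp : CohB1.IsFP (CohB1.tensorMod F (CohB1.tensorPow L n)) :=
      Groth.Agent.Lib.Helper2.LocFree.isFP_of_isFinLocFree _ hNf
    haveI : SheafOfModules.IsFinitePresentation (R := X.ringCatSheaf)
      (CohB1.tensorMod F (CohB1.tensorPow L n)) := hfp
    infer_instance
  obtain ⟨k, q, hq⟩ := hn₀ n hn
  haveI := hq
  have hPk : FlatMod.IsFinLocFree (FlatMod.freeMod X k) :=
    Groth.Agent.Lib.R2H2.PushTwistK.isFinLocFree_freeMod X k
  have hKq : FlatMod.IsFinLocFree (kernel q) :=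
    Groth.Agent.Lib.R2H2.FLFKernel.isFinLocFree_kernel_of_epi q hPk hNf
  -- the class relation
  let S : ShortComplex X.Modules := ShortComplex.mk (kernel.ι q) q (kernel.condition q)
  have hS : S.ShortExact :=
    { exact := ShortComplex.exact_kernel q
      mono_f := equalizer.ι_mono
      epi_g := hq }
  have hcl : KRR.cl X (FlatMod.freeMod X k) = KRR.cl X (kernel q) +
      KRR.cl X (CohB1.tensorMod F (CohB1.tensorPow L n)) :=
    Groth.Agent.Lib.R2H2.K0Gen.clSub_shortExact (KRR.vbP X) S hS hKq hPk hNf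
  have hz : ∀ Z : X.Modules, IsZero Z → FlatMod.IsFinLocFree Z :=
    fun Z hZ => Groth.Agent.Lib.R2H2.ProjOverPush.isFinLocFree_of_isZero Z hZ
  have hfree : KRR.cl X (FlatMod.freeMod X k) = k • KRR.cl X (Coh.structureModule X) :=
    Groth.Agent.Lib.R2H2.K0Gen.clSub_coprod_const (KRR.vbP X) hz (Coh.structureModule X) hO
      (Groth.Agent.Lib.R2H2.PushTwistK.isFinLocFree_freeMod X) k
  have h1 : φ (KRR.cl X (CohB1.tensorMod F (CohB1.tensorPow L n))) =
      (k : K) - φ (KRR.cl X (kernel q)) := by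
    have h2 := congrArg φ hcl
    rw [hfree, map_nsmul, hK.map_one, map_add, nsmul_eq_mul, mul_one] at h2
    rw [h2]
    ring
  have h3 : φ (KRR.cl X L) ^ n * φ (KRR.cl X F) =
      φ (KRR.cl X (CohB1.tensorMod F (CohB1.tensorPow L n))) := by
    rw [mul_comm, (hpow n).2, hK.map_mul _ _ hFf (hpow n).1]
    rfl
  have hue : φ (KRR.cl X L) ^ n * e ∈ P.pos := P.mul_mem _ _ (hpowpos n) he
  rcases cl_mem_pos_or_zero_qc X P φ hK (kernel q) hKq with hpos | hzero
  · refine ⟨φ (KRR.cl X L) ^ n * e + φ (KRR.cl X (kernel q)), k, P.add_mem _ _ hue hpos, ?_⟩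
    rw [mul_sub, h3, h1]
    ring
  · refine ⟨φ (KRR.cl X L) ^ n * e, k, hue, ?_⟩
    rw [mul_sub, h3, h1, hzero]
    ring

end Main

end Groth.Agent.Lib.R2H2.AmpleEltQC
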