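import Mathlib

/-!
# Etale ring maps induce local homeomorphisms on spaces of complex points (abstract form)

`TX`, `TY` are topological spaces of "ℂ-points" of rings `B`, `A`, presented through ring
homomorphisms into rings of continuous functions.  For `B` standard etale over `A` the map
`TX → TY` is a local homeomorphism.

* local injectivity comes from the separating idempotent of an unramified algebra;
* openness comes from continuity of roots of monic polynomials (elementary, through the
  factorisation over `ℂ`).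
-/

set_option autoImplicit false

open Polynomial TensorProduct Topology

namespace Groth.Agent.Lib.R2H2.AnEtale

/-- evaluation of continuous functions at a point, as a ring homomorphism -/
noncomputable def evR {T : Type*} [TopologicalSpace T] (x : T) : C(T, ℂ) →+* ℂ :=
  (ContinuousMap.evalAlgHom ℂ ℂ x).toRingHom

@[simp] lemma evR_apply {T : Type*} [TopologicalSpace T] (x : T) (f : C(T, ℂ)) : evR x f = f x := rfl

/-- pull-back of continuous functions as a ring homomorphism -/
noncomputable def pullR {T T' : Type*} [TopologicalSpace T] [TopologicalSpace T'] (f : C(T, T')) :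
    C(T', ℂ) →+* C(T, ℂ) :=
  (ContinuousMap.compRightAlgHom ℂ ℂ f).toRingHom

@[simp] lemma pullR_apply {T T' : Type*} [TopologicalSpace T] [TopologicalSpace T'] (f : C(T, T'))
    (h : C(T', ℂ)) (x : T) : pullR f h x = h (f x) := rfl

section LocInj

variable {A B : Type*} [CommRing A] [CommRing B] [Algebra A B]
  {TX TY : Type*} [TopologicalSpace TX] [TopologicalSpace TY]

/-- Local injectivity of the map on points for an unramified algebra of finite type. -/
theorem exists_open_injOn [Algebra.EssFiniteType A B] [Algebra.FormallyUnramified A B]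
    (γA : A →+* C(TY, ℂ)) (γB : B →+* C(TX, ℂ)) (π : TX → TY)
    (hcomp : ∀ a x, γB (algebraMap A B a) x = γA a (π x))
    (hinj : ∀ x x' : TX, (∀ b, γB b x = γB b x') → x = x') (x₀ : TX) :
    ∃ W : Set TX, IsOpen W ∧ x₀ ∈ W ∧ Set.InjOn π W := by
  obtain ⟨e, he1, he2⟩ :=
    (Algebra.FormallyUnramified.iff_exists_tensorProduct (R := A) (S := B)).mp inferInstance
  obtain ⟨S, hS⟩ := TensorProduct.exists_finset e
  let E : C(TX × TX, ℂ) :=
    ∑ i ∈ S, pullR ContinuousMap.fst (γB i.1) * pullR ContinuousMap.snd (γB i.2)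
  have hE : ∀ x x' : TX, E (x, x') = ∑ i ∈ S, γB i.1 x * γB i.2 x' := by
    intro x x'
    simp only [E, ContinuousMap.coe_sum, Finset.sum_apply, ContinuousMap.mul_apply, pullR_apply]
    rfl
  have hmul : ∑ i ∈ S, i.1 * i.2 = (1 : B) := by
    rw [← he2, hS, map_sum]
    refine Finset.sum_congr rfl fun i _ => ?_
    rw [Algebra.TensorProduct.lmul'_apply_tmul]
  have hE0 : E (x₀, x₀) = 1 := by
    rw [hE]
    have : ∀ i ∈ S, γB i.1 x₀ * γB i.2 x₀ = evR x₀ (γB (i.1 * i.2)) := by
      intro i _
      rw [map_mul, map_mul]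
      rfl
    rw [Finset.sum_congr rfl this, ← map_sum, ← map_sum, hmul, map_one, map_one]
  have hopen : IsOpen {p : TX × TX | E p ≠ 0} := isOpen_ne_fun E.continuous continuous_const
  obtain ⟨U, V, hU, hV, hxU, hxV, hUV⟩ := isOpen_prod_iff.mp hopen x₀ x₀ (by
    change E (x₀, x₀) ≠ 0
    rw [hE0]
    exact one_ne_zero)
  refine ⟨U ∩ V, hU.inter hV, ⟨hxU, hxV⟩, ?_⟩
  intro x hx x' hx' hxx'
  have hne : E (x, x') ≠ 0 := hUV (Set.mk_mem_prod hx.1 hx'.2)
  apply hinj
  intro s
  letI : Algebra A ℂ := ((evR (π x)).comp γA).toAlgebra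
  let ψ : B →ₐ[A] ℂ := { (evR x).comp γB with commutes' := fun a => hcomp a x }
  let ψ' : B →ₐ[A] ℂ :=
    { (evR x').comp γB with
      commutes' := fun a => by
        change γB (algebraMap A B a) x' = γA a (π x)
        rw [hcomp a x', hxx'] }
  have h1 := congrArg (Algebra.TensorProduct.productMap ψ ψ') (he1 s)
  rw [map_mul, map_sub, map_zero, Algebra.TensorProduct.productMap_apply_tmul,
    Algebra.TensorProduct.productMap_apply_tmul, map_one, map_one, one_mul, mul_one] at h1
  have h2 : Algebra.TensorProduct.productMap ψ ψ' e = E (x, x') := by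
    rw [hS, map_sum, hE]
    refine Finset.sum_congr rfl fun i _ => ?_
    rw [Algebra.TensorProduct.productMap_apply_tmul]
    rfl
  rw [h2] at h1
  rcases mul_eq_zero.mp h1 with h | h
  · have : ψ' s = ψ s := sub_eq_zero.mp h
    exact this.symm
  · exact absurd h hne

end LocInj

section Roots

/-- a product of factors of norm at least `δ` has norm at least `δ ^ card` -/
lemma pow_card_le_norm_prod (t : ℂ) (δ : ℝ) (hδ : 0 ≤ δ) (s : Multiset ℂ)
    (h : ∀ r ∈ s, δ ≤ ‖t - r‖) : δ ^ Multiset.card s ≤ ‖(s.map fun r => t - r).prod‖ := by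
  induction s using Multiset.induction_on with
  | empty => simp
  | cons a s ih =>
    rw [Multiset.map_cons, Multiset.prod_cons, Multiset.card_cons, pow_succ', norm_mul]
    exact mul_le_mul (h a (Multiset.mem_cons_self a s))
      (ih fun r hr => h r (Multiset.mem_cons_of_mem hr)) (pow_nonneg hδ _) (norm_nonneg _)

/-- a monic complex polynomial with a small value at `t` has a root near `t` -/
lemma exists_root_near (p : ℂ[X]) (hp : p.Monic) (t : ℂ) (δ : ℝ) (hδ : 0 < δ)
    (h : ‖p.eval t‖ < δ ^ p.natDegree) : ∃ r : ℂ, p.eval r = 0 ∧ ‖t - r‖ < δ := by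
  by_contra hcon
  push Not at hcon
  have hsp : p.Splits := IsAlgClosed.splits p
  have h1 : p.eval t = (p.roots.map fun r => t - r).prod := by
    have := hsp.eval_eq_prod_roots_of_monic hp t
    exact this
  have h2 : Multiset.card p.roots = p.natDegree := hsp.natDegree_eq_card_roots.symm
  have h3 := pow_card_le_norm_prod t δ hδ.le p.roots (fun r hr =>
    hcon r ((mem_roots hp.ne_zero).mp hr))
  rw [← h1, h2] at h3
  exact absurd h (not_lt.mpr h3)

end Roots

section Pev

variable {A : Type*} [CommRing A] {TY : Type*} [TopologicalSpace TY] (γA : A →+* C(TY, ℂ))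

/-- the function `(y, t) ↦ F^y(t)` on `TY × ℂ` attached to a polynomial `F` over `A` -/
noncomputable def pev (F : A[X]) : C(TY × ℂ, ℂ) :=
  F.eval₂ ((pullR ContinuousMap.fst).comp γA) ContinuousMap.snd

lemma pev_apply (F : A[X]) (y : TY) (t : ℂ) :
    pev γA F (y, t) = F.eval₂ ((evR y).comp γA) t := by
  unfold pev
  have := Polynomial.hom_eval₂ F ((pullR ContinuousMap.fst).comp γA) (evR (y, t))
    (ContinuousMap.snd : C(TY × ℂ, ℂ))
  rw [evR_apply] at this
  rw [this]
  rfl

/-- The projection from the "standard etale locus" `{(y, t) | F^y(t) = 0, G^y(t) ≠ 0}` to `TY` is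
an open map when `F` is monic. -/
theorem isOpenMap_fst (F G : A[X]) (hF : F.Monic) :
    IsOpenMap (fun z : {z : TY × ℂ // pev γA F z = 0 ∧ pev γA G z ≠ 0} => z.1.1) := by
  intro O hO
  rw [isOpen_iff_mem_nhds]
  rintro y₁ ⟨z₁, hz₁O, rfl⟩
  obtain ⟨O', hO', rfl⟩ := isOpen_induced_iff.mp hO
  obtain ⟨⟨y₁, t₁⟩, hz₁⟩ := z₁
  have hopen : IsOpen (O' ∩ {z : TY × ℂ | pev γA G z ≠ 0}) :=
    hO'.inter (isOpen_ne_fun (pev γA G).continuous continuous_const)
  obtain ⟨N₁, D, hN₁, hD, hy₁, ht₁, hND⟩ := isOpen_prod_iff.mp hopen y₁ t₁ ⟨hz₁O, hz₁.2⟩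
  obtain ⟨δ, hδ, hball⟩ := Metric.isOpen_iff.mp hD t₁ ht₁
  set n := F.natDegree with hn
  have hcont : Continuous fun y : TY => ‖pev γA F (y, t₁)‖ :=
    ((pev γA F).continuous.comp (continuous_id.prodMk continuous_const)).norm
  have hN₂ : IsOpen {y : TY | ‖pev γA F (y, t₁)‖ < δ ^ n} :=
    isOpen_lt hcont continuous_const
  have hy₁2 : y₁ ∈ {y : TY | ‖pev γA F (y, t₁)‖ < δ ^ n} := by
    change ‖pev γA F (y₁, t₁)‖ < δ ^ n
    rw [hz₁.1, norm_zero]
    exact pow_pos hδ n
  refine Filter.mem_of_superset ((hN₁.inter hN₂).mem_nhds ⟨hy₁, hy₁2⟩) ?_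
  rintro y ⟨hyN₁, hyN₂⟩
  -- the polynomial at y
  set p : ℂ[X] := F.map ((evR y).comp γA) with hp
  have hpm : p.Monic := hF.map _
  have hdeg : p.natDegree = n := hF.natDegree_map _
  have heval : ∀ t : ℂ, p.eval t = pev γA F (y, t) := by
    intro t
    rw [pev_apply, hp, eval_map]
  obtain ⟨r, hr0, hrδ⟩ := exists_root_near p hpm t₁ δ hδ (by
    rw [hdeg, heval]
    exact hyN₂)
  have hrD : r ∈ D := hball (by
    rw [Metric.mem_ball, dist_eq_norm, ← norm_neg, neg_sub]
    exact hrδ)
  have hmem := hND (Set.mk_mem_prod hyN₁ hrD)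
  refine ⟨⟨(y, r), ?_, hmem.2⟩, hmem.1, rfl⟩
  rw [← heval]
  exact hr0

end Pev

section Main

variable {A B : Type*} [CommRing A] [CommRing B] [Algebra A B]
  {TX TY : Type*} [TopologicalSpace TX] [TopologicalSpace TY]

/-- The map on points is open for a standard etale algebra. -/
theorem isOpenMap_of_presentation (P : StandardEtalePresentation A B)
    (γA : A →+* C(TY, ℂ)) (γB : B →+* C(TX, ℂ)) (π : TX → TY) (hπ : Continuous π)
    (hcomp : ∀ a x, γB (algebraMap A B a) x = γA a (π x))
    (hind : IsInducing (fun (x : TX) (b : B) => γB b x))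
    (hlift : ∀ (y : TY) (ψ : B →+* ℂ), (∀ a, ψ (algebraMap A B a) = γA a y) →
      ∃ x, π x = y ∧ ∀ b, γB b x = ψ b) :
    IsOpenMap π := by
  -- the standard etale locus
  let Zs := {z : TY × ℂ // pev γA P.f z = 0 ∧ pev γA P.g z ≠ 0}
  have hψ : ∀ x : TX, (evR (π x)).comp γA = ((evR x).comp γB).comp (algebraMap A B) := by
    intro x
    ext a
    exact (hcomp a x).symm
  have hmemf : ∀ x : TX, pev γA P.f (π x, γB P.x x) = 0 := by
    intro x
    rw [pev_apply, hψ x]
    have h1 := Polynomial.hom_eval₂ P.f (algebraMap A B) ((evR x).comp γB) P.x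
    have h2 : (evR x).comp γB P.x = γB P.x x := rfl
    rw [h2] at h1
    rw [← h1, ← Polynomial.aeval_def, P.hasMap.1, map_zero]
  have hmemg : ∀ x : TX, pev γA P.g (π x, γB P.x x) ≠ 0 := by
    intro x
    rw [pev_apply, hψ x]
    have h1 := Polynomial.hom_eval₂ P.g (algebraMap A B) ((evR x).comp γB) P.x
    have h2 : (evR x).comp γB P.x = γB P.x x := rfl
    rw [h2] at h1
    rw [← h1, ← Polynomial.aeval_def]
    exact (P.hasMap.2.map ((evR x).comp γB)).ne_zero
  let Θ : TX → Zs := fun x => ⟨(π x, γB P.x x), hmemf x, hmemg x⟩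
  have hΘc : Continuous Θ :=
    Continuous.subtype_mk (hπ.prodMk (γB P.x).continuous) _
  -- the universal family over the locus
  let q : C(Zs, TY) := ⟨fun z => z.1.1, continuous_fst.comp continuous_subtype_val⟩
  let tZ : C(Zs, ℂ) := ⟨fun z => z.1.2, continuous_snd.comp continuous_subtype_val⟩
  letI algZ : Algebra A C(Zs, ℂ) := ((pullR q).comp γA).toAlgebra
  have hev : ∀ (F : A[X]) (z : Zs), (aeval tZ F) z = pev γA F z.1 := by
    intro F z
    rw [Polynomial.aeval_def]
    have h1 := Polynomial.hom_eval₂ F (algebraMap A C(Zs, ℂ)) (evR z) tZ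
    rw [evR_apply] at h1
    rw [h1]
    obtain ⟨⟨y, t⟩, hz⟩ := z
    rw [pev_apply]
    rfl
  have hmap : P.HasMap tZ := by
    refine ⟨?_, ?_⟩
    · ext z
      rw [hev]
      exact z.2.1
    · rw [ContinuousMap.isUnit_iff_forall_ne_zero]
      intro z
      rw [hev]
      exact z.2.2
  let Λs : B →ₐ[A] C(Zs, ℂ) := (P.lift tZ hmap).comp P.equivRing.toAlgHom
  have hΛx : Λs P.x = tZ := by
    change P.lift tZ hmap (P.equivRing P.x) = tZ
    rw [P.equivRing_x, StandardEtalePair.lift_X]
  -- compatibility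
  have hkey : ∀ (x : TX) (b : B), Λs b (Θ x) = γB b x := by
    intro x b
    letI : Algebra A ℂ := ((evR (π x)).comp γA).toAlgebra
    let α₁ : B →ₐ[A] ℂ :=
      { (evR (Θ x)).comp Λs.toRingHom with
        commutes' := fun a => by
          change (Λs (algebraMap A B a)) (Θ x) = γA a (π x)
          rw [Λs.commutes]
          rfl }
    let α₂ : B →ₐ[A] ℂ := { (evR x).comp γB with commutes' := fun a => hcomp a x }
    have : α₁ = α₂ := P.hom_ext (by
      change (Λs P.x) (Θ x) = γB P.x x
      rw [hΛx]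
      rfl)
    exact congrArg (fun α : B →ₐ[A] ℂ => α b) this
  let Λ : Zs → B → ℂ := fun z b => Λs b z
  have hΛc : Continuous Λ := continuous_pi fun b => (Λs b).continuous
  have hΘind : IsInducing Θ := by
    refine IsInducing.of_comp hΘc hΛc ?_
    have : Λ ∘ Θ = fun (x : TX) (b : B) => γB b x := by
      funext x b
      exact hkey x b
    rw [this]
    exact hind
  have hΘsurj : Function.Surjective Θ := by
    intro z
    obtain ⟨x, hx1, hx2⟩ := hlift z.1.1 ((evR z).comp Λs.toRingHom) (fun a => by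
      change (Λs (algebraMap A B a)) z = γA a z.1.1
      rw [Λs.commutes]
      rfl)
    refine ⟨x, Subtype.ext (Prod.ext hx1 ?_)⟩
    change γB P.x x = z.1.2
    rw [hx2]
    change (Λs P.x) z = z.1.2
    rw [hΛx]
    rfl
  have hΘopen : IsOpenMap Θ := hΘind.isOpenMap (by
    rw [hΘsurj.range_eq]
    exact isOpen_univ)
  exact (isOpenMap_fst γA P.f P.g P.monic_f).comp hΘopen

/-- **Etale ring maps induce local homeomorphisms on complex points** (abstract form). -/
theorem isLocalHomeomorph_of_isStandardEtale [Algebra.IsStandardEtale A B]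
    (γA : A →+* C(TY, ℂ)) (γB : B →+* C(TX, ℂ)) (π : TX → TY) (hπ : Continuous π)
    (hcomp : ∀ a x, γB (algebraMap A B a) x = γA a (π x))
    (hind : IsInducing (fun (x : TX) (b : B) => γB b x))
    (hinj : ∀ x x' : TX, (∀ b, γB b x = γB b x') → x = x')
    (hlift : ∀ (y : TY) (ψ : B →+* ℂ), (∀ a, ψ (algebraMap A B a) = γA a y) →
      ∃ x, π x = y ∧ ∀ b, γB b x = ψ b) :
    IsLocalHomeomorph π := by
  obtain ⟨P⟩ := Algebra.IsStandardEtale.nonempty_standardEtalePresentation (R := A) (S := B)
  have hopen := isOpenMap_of_presentation P γA γB π hπ hcomp hind hlift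
  rw [isLocalHomeomorph_iff_isOpenEmbedding_restrict]
  intro x₀
  obtain ⟨W, hW, hxW, hinjW⟩ := exists_open_injOn γA γB π hcomp hinj x₀
  refine ⟨W, hW.mem_nhds hxW, ?_⟩
  exact IsOpenEmbedding.of_continuous_injective_isOpenMap
    (hπ.comp continuous_subtype_val) (Set.injOn_iff_injective.mp hinjW) (hopen.domRestrict hW)

end Main

end Groth.Agent.Lib.R2H2.AnEtale
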