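import Groth.Agent.Lib.R2H2AnEtale
import Groth.Agent.Lib.Helper6AnPts

/-!
# Etale morphisms induce local homeomorphisms on `ℂ`-points (scheme level)
-/

set_option autoImplicit false

open AlgebraicGeometry CategoryTheory TopologicalSpace Opposite An Topology

namespace Groth.Agent.Lib.R2H2.AnEtaleSch

open Groth.Agent.Lib.Helper6 Groth.Agent.Lib.R2H2.AnEtale

/-- precomposition with a surjection is inducing on function spaces -/
lemma isInducing_precomp_of_surjective {B B' : Type*} (ι : B → B') (hι : Function.Surjective ι) :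
    IsInducing (fun (h : B' → ℂ) (b : B) => h (ι b)) := by
  constructor
  simp only [Pi.topologicalSpace, induced_iInf, induced_compose]
  apply le_antisymm
  · exact le_iInf fun b => iInf_le_of_le (ι b) le_rfl
  · refine le_iInf fun b' => ?_
    obtain ⟨b, rfl⟩ := hι b'
    exact iInf_le_of_le b le_rfl

section

variable (X : Scheme.{0}) [X.Over SC]

/-- evaluation of global sections as continuous functions on `X(ℂ)` -/
noncomputable def evC : Γ(X, ⊤) →+* C(Pts X, ℂ) where
  toFun f := ⟨fun x => x.evTop f, (continuous_apply f).comp continuous_evAll⟩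
  map_one' := ContinuousMap.ext fun x => ev_one x ⊤ (Opens.mem_top _)
  map_mul' f g := ContinuousMap.ext fun x => ev_mul x ⊤ (Opens.mem_top _) f g
  map_zero' := ContinuousMap.ext fun x => ev_zero x ⊤ (Opens.mem_top _)
  map_add' f g := ContinuousMap.ext fun x => ev_add x ⊤ (Opens.mem_top _) f g

@[simp] lemma evC_apply (f : Γ(X, ⊤)) (x : Pts X) : evC X f x = x.evTop f := rfl

end

lemma evTop_map' {X Y : Scheme.{0}} [X.Over SC] [Y.Over SC] (k : X ⟶ Y) [k.IsOver SC] (x : Pts X)
    (a : Γ(Y, ⊤)) : (Pts.map k x).evTop a = x.evTop (k.appTop a) :=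
  Pts.ev_map k x ⊤ (Opens.mem_top _) a

lemma strHom_comp {X Y : Scheme.{0}} [X.Over SC] [Y.Over SC] (k : X ⟶ Y) [k.IsOver SC] (c : ℂ) :
    k.appTop (strHom Y c) = strHom X c := by
  unfold strHom
  have h : (X ↘ SC) = k ≫ (Y ↘ SC) := (comp_over k SC).symm
  have h2 : (X ↘ SC).appTop = (Y ↘ SC).appTop ≫ k.appTop := by
    rw [h, Scheme.Hom.comp_appTop]
  simp only [RingHom.coe_comp, Function.comp_apply]
  rw [h2]
  rfl

/-- The affine case, with the standard etale algebra given up to ring isomorphisms. -/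
theorem isLocalHomeomorph_map_of_affine {X Y : Scheme.{0}} [X.Over SC] [Y.Over SC]
    [IsAffine X] [IsAffine Y] (g : X ⟶ Y) [g.IsOver SC]
    {A B : Type} [CommRing A] [CommRing B] [Algebra A B] [Algebra.IsStandardEtale A B]
    (eA : A ≃+* Γ(Y, ⊤)) (eB : B ≃+* Γ(X, ⊤))
    (hcomm : ∀ a, g.appTop (eA a) = eB (algebraMap A B a)) :
    IsLocalHomeomorph (Pts.map g) := by
  refine isLocalHomeomorph_of_isStandardEtale (A := A) (B := B)
    ((evC Y).comp eA.toRingHom) ((evC X).comp eB.toRingHom) (Pts.map g) (Pts.continuous_map g)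
    ?_ ?_ ?_ ?_
  · intro a x
    change x.evTop (eB (algebraMap A B a)) = (Pts.map g x).evTop (eA a)
    rw [evTop_map', hcomm]
  · have h1 : IsInducing (evAll : Pts X → Γ(X, ⊤) → ℂ) := isInducing_evAll
    exact (isInducing_precomp_of_surjective (fun b : B => eB b) eB.surjective).comp h1
  · intro x x' h
    apply ext_of_evTop
    intro f
    obtain ⟨b, rfl⟩ := eB.surjective f
    exact h b
  · intro y ψ hψ
    let ψ' : Γ(X, ⊤) →+* ℂ := ψ.comp eB.symm.toRingHom
    have hψ' : ∀ a : Γ(Y, ⊤), ψ' (g.appTop a) = y.evTop a := by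
      intro a
      obtain ⟨a, rfl⟩ := eA.surjective a
      rw [hcomm]
      change ψ (eB.symm (eB (algebraMap A B a))) = _
      rw [RingEquiv.symm_apply_apply, hψ]
      rfl
    have hstr : ∀ c, ψ' (strHom X c) = c := by
      intro c
      rw [← strHom_comp g c, hψ', evTop_strHom]
    refine ⟨ptOfRingHom ψ' hstr, ?_, ?_⟩
    · apply ext_of_evTop
      intro a
      rw [evTop_map', evTop_ptOfRingHom, hψ']
    · intro b
      change (ptOfRingHom ψ' hstr).evTop (eB b) = ψ b
      rw [evTop_ptOfRingHom]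
      change ψ (eB.symm (eB b)) = ψ b
      rw [RingEquiv.symm_apply_apply]

/-- **Etale morphisms induce local homeomorphisms on `ℂ`-points.** -/
theorem isLocalHomeomorph_map_of_etale (X Y : Scheme.{0}) [X.Over SC] [Y.Over SC] (g : X ⟶ Y)
    [g.IsOver SC] [Etale g] : IsLocalHomeomorph (Pts.map g) := by
  intro x
  -- affine neighbourhoods
  obtain ⟨V, hV, hxV, -⟩ := exists_isAffineOpen_mem_and_subset
    (x := g x.pt) (U := ⊤) (Opens.mem_top _)
  obtain ⟨U₀, hU₀, hxU₀, hU₀V⟩ := exists_isAffineOpen_mem_and_subset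
    (x := x.pt) (U := g ⁻¹ᵁ V) hxV
  have hle : U₀ ≤ g ⁻¹ᵁ V := hU₀V
  -- the etale algebra
  letI algAB : Algebra Γ(Y, V) Γ(X, U₀) := (g.appLE V U₀ hle).hom.toAlgebra
  haveI het : Algebra.Etale Γ(Y, V) Γ(X, U₀) := (Etale.etale_appLE g hV hU₀ hle)
  let Q : PrimeSpectrum Γ(X, U₀) := hU₀.primeIdealOf ⟨x.pt, hxU₀⟩
  obtain ⟨f, hfQ, hstd⟩ := Algebra.IsEtaleAt.exists_isStandardEtale (R := Γ(Y, V)) Q.asIdeal
  -- the local pieces
  let X' : Scheme.{0} := Spec (CommRingCat.of (Localization.Away f))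
  let Y' : Scheme.{0} := Spec (CommRingCat.of Γ(Y, V))
  let j₀ : X' ⟶ Spec Γ(X, U₀) :=
    Spec.map (CommRingCat.ofHom (algebraMap Γ(X, U₀) (Localization.Away f)))
  let j : X' ⟶ X := j₀ ≫ hU₀.fromSpec
  let k : Y' ⟶ Y := hV.fromSpec
  let g' : X' ⟶ Y' := Spec.map (CommRingCat.ofHom (algebraMap Γ(Y, V) (Localization.Away f)))
  have hsq : j ≫ g = g' ≫ k := by
    have h1 : g' = j₀ ≫ Spec.map (g.appLE V U₀ hle) := by
      rw [← Spec.map_comp]
      congr 1
    rw [h1, Category.assoc, Category.assoc, IsAffineOpen.SpecMap_appLE_fromSpec]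
  letI : X'.Over SC := ⟨j ≫ (X ↘ SC)⟩
  letI : Y'.Over SC := ⟨k ≫ (Y ↘ SC)⟩
  haveI : j.IsOver SC := ⟨rfl⟩
  haveI : k.IsOver SC := ⟨rfl⟩
  haveI : g'.IsOver SC := ⟨by
    change g' ≫ k ≫ (Y ↘ SC) = j ≫ (X ↘ SC)
    rw [← Category.assoc, ← hsq, Category.assoc, comp_over g SC]⟩
  haveI : IsOpenImmersion j := inferInstance
  haveI : IsOpenImmersion k := inferInstance
  -- the affine case
  have hg' : IsLocalHomeomorph (Pts.map g') := by
    refine isLocalHomeomorph_map_of_affine g' (A := Γ(Y, V)) (B := Localization.Away f)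
      (Scheme.ΓSpecIso (CommRingCat.of Γ(Y, V))).symm.commRingCatIsoToRingEquiv
      (Scheme.ΓSpecIso (CommRingCat.of (Localization.Away f))).symm.commRingCatIsoToRingEquiv ?_
    intro a
    have := Scheme.ΓSpecIso_inv_naturality
      (CommRingCat.ofHom (algebraMap Γ(Y, V) (Localization.Away f)))
    exact (congrArg (fun φ => φ.hom a) this).symm
  -- assemble
  have hj := isOpenEmbedding_map_of_isOpenImmersion j
  have hk := isOpenEmbedding_map_of_isOpenImmersion k
  have hcomp : Pts.map g ∘ Pts.map j = Pts.map k ∘ Pts.map g' := by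
    funext z
    apply Subtype.ext
    have h3 : z.1 ≫ (j ≫ g) = z.1 ≫ (g' ≫ k) := by rw [hsq]
    exact (Category.assoc _ _ _).trans (h3.trans (Category.assoc _ _ _).symm)
  have h1 : IsLocalHomeomorphOn (Pts.map g ∘ Pts.map j) Set.univ := by
    rw [hcomp]
    exact (hk.isLocalHomeomorph.comp hg').isLocalHomeomorphOn
  have h2 : IsLocalHomeomorphOn (Pts.map g) (Pts.map j '' Set.univ) :=
    IsLocalHomeomorphOn.of_comp_right h1 hj.isLocalHomeomorph.isLocalHomeomorphOn
  refine h2 x ?_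
  rw [Set.image_univ, range_map_of_isOpenImmersion]
  -- the point lies in the image of `j`
  change x.pt ∈ Set.range j
  have hQ : Q ∈ (PrimeSpectrum.basicOpen f : Set (PrimeSpectrum Γ(X, U₀))) := hfQ
  rw [← PrimeSpectrum.localization_away_comap_range (Localization.Away f) f] at hQ
  obtain ⟨q, hq⟩ := hQ
  refine ⟨q, ?_⟩
  change hU₀.fromSpec (j₀ q) = x.pt
  have : j₀ q = Q := hq
  rw [this]
  exact hU₀.fromSpec_primeIdealOf ⟨x.pt, hxU₀⟩

end Groth.Agent.Lib.R2H2.AnEtaleSch
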