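import Groth.Agent.Lib.R2H2AnProper
import Groth.Agent.Lib.R2H2AnEtaleSch
import Groth.Agent.Lib.Helper6AnCons

/-!
# Finite morphisms on `ℂ`-points: proper maps; finite etale morphisms: covering maps
-/

set_option autoImplicit false

open AlgebraicGeometry CategoryTheory TopologicalSpace Opposite An Topology

namespace Groth.Agent.Lib.R2H2.AnFinite

open Groth.Agent.Lib.Helper6 Groth.Agent.Lib.R2H2.AnEtale Groth.Agent.Lib.R2H2.AnEtaleSch
  Groth.Agent.Lib.R2H2.AnProper

/-- transfer of covering maps along open embeddings -/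
lemma isCoveringMapOn_of_isOpenEmbedding {E B E' B' : Type*} [TopologicalSpace E]
    [TopologicalSpace B] [TopologicalSpace E'] [TopologicalSpace B'] (F : E → B) (F' : E' → B')
    (jE : E' → E) (jB : B' → B) (hjE : IsOpenEmbedding jE) (hjB : IsOpenEmbedding jB)
    (hcomm : ∀ e, F (jE e) = jB (F' e)) (hrange : Set.range jE = F ⁻¹' (Set.range jB))
    (hF' : IsCoveringMap F') : IsCoveringMapOn F (Set.range jB) := by
  have hs : IsOpen (Set.range jB) := hjB.isOpen_range
  have hfs : IsOpen (F ⁻¹' (Set.range jB)) := hrange ▸ hjE.isOpen_range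
  refine IsCoveringMapOn.of_isCoveringMap_restrictPreimage (f := F) (s := Set.range jB) hs hfs ?_
  let hE : E' ≃ₜ F ⁻¹' (Set.range jB) :=
    hjE.isEmbedding.toHomeomorph.trans (Homeomorph.setCongr hrange)
  let hB : B' ≃ₜ Set.range jB := hjB.isEmbedding.toHomeomorph
  have hEapp : ∀ e, (hE e : E) = jE e := fun e => rfl
  have hBapp : ∀ b, (hB b : B) = jB b := fun b => rfl
  have h1 : (Set.range jB).restrictPreimage F = (hB ∘ F') ∘ hE.symm := by
    funext e
    obtain ⟨e', rfl⟩ := hE.surjective e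
    apply Subtype.ext
    simp only [Function.comp_apply, Homeomorph.symm_apply_apply]
    rw [hBapp, ← hcomm]
    rfl
  rw [h1]
  exact (hF'.homeomorph_comp hB).comp_homeomorph hE.symm

/-- `ℂ`-points of affine schemes form a Hausdorff space -/
lemma t2Space_pts_of_isAffine (X : Scheme.{0}) [X.Over SC] [IsAffine X] : T2Space (Pts X) :=
  (Topology.IsEmbedding.mk isInducing_evAll
    (fun _ _ h => ext_of_evTop fun f => congrFun h f)).t2Space

/-- points of an affine scheme from ring homomorphisms extending a point of the base -/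
lemma exists_pt_of_ringHom {X Y : Scheme.{0}} [X.Over SC] [Y.Over SC] [IsAffine X] [IsAffine Y]
    (g : X ⟶ Y) [g.IsOver SC] (y : Pts Y) (ψ : Γ(X, ⊤) →+* ℂ)
    (hψ : ∀ a, ψ (g.appTop a) = y.evTop a) :
    ∃ x : Pts X, Pts.map g x = y ∧ ∀ b, x.evTop b = ψ b := by
  have hstr : ∀ c, ψ (strHom X c) = c := by
    intro c
    rw [← strHom_comp g c, hψ, evTop_strHom]
  refine ⟨ptOfRingHom ψ hstr, ?_, fun b => evTop_ptOfRingHom ψ hstr b⟩
  apply ext_of_evTop
  intro a
  rw [evTop_map', evTop_ptOfRingHom, hψ]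

/-- A morphism of affine schemes over `ℂ` that is integral on global sections induces a proper map
on `ℂ`-points. -/
theorem isProperMap_map_of_affine {X Y : Scheme.{0}} [X.Over SC] [Y.Over SC] [IsAffine X]
    [IsAffine Y] (g : X ⟶ Y) [g.IsOver SC] (hint : g.appTop.hom.IsIntegral) :
    IsProperMap (Pts.map g) := by
  letI : Algebra Γ(Y, ⊤) Γ(X, ⊤) := g.appTop.hom.toAlgebra
  haveI : Algebra.IsIntegral Γ(Y, ⊤) Γ(X, ⊤) := ⟨hint⟩
  refine isProperMap_of_isIntegral (evC Y) (evC X) (Pts.map g) (Pts.continuous_map g) ?_ ?_ ?_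
  · intro a x
    change x.evTop (g.appTop a) = (Pts.map g x).evTop a
    rw [evTop_map']
  · exact isInducing_evAll
  · intro y ψ hψ
    exact exists_pt_of_ringHom g y ψ hψ

/-- fibres of finite morphisms on `ℂ`-points are finite -/
theorem finite_preimage_singleton {X Y : Scheme.{0}} [X.Over SC] [Y.Over SC] (f : X ⟶ Y)
    [f.IsOver SC] [IsFinite f] (y : Pts Y) : (Pts.map f ⁻¹' {y}).Finite := by
  have h1 : (f ⁻¹' {y.pt}).Finite := f.finite_preimage_singleton y.pt
  refine (h1.preimage (pt_injective (X := X)).injOn).subset ?_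
  intro x hx
  have : Pts.map f x = y := hx
  change f x.pt ∈ ({y.pt} : Set Y)
  rw [Set.mem_singleton_iff, ← this, Pts.pt_map]

instance morphismRestrict_isOver {X Y : Scheme.{0}} [X.Over SC] [Y.Over SC] (f : X ⟶ Y)
    [f.IsOver SC] (V : Y.Opens) : (f ∣_ V).IsOver SC := by
  constructor
  rw [← Scheme.Opens.ι_comp_over, ← Scheme.Opens.ι_comp_over, ← Category.assoc,
    morphismRestrict_ι, Category.assoc, comp_over]

/-- **Finite etale morphisms induce covering maps on `ℂ`-points.** -/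
theorem isCoveringMap_map_of_finite_etale (X Y : Scheme.{0}) [X.Over SC] [Y.Over SC] (f : X ⟶ Y)
    [f.IsOver SC] [IsFinite f] [Etale f] : IsCoveringMap (Pts.map f) := by
  rw [isCoveringMap_iff_isCoveringMapOn_univ]
  intro y _
  obtain ⟨V, hV, hyV, -⟩ := exists_isAffineOpen_mem_and_subset
    (x := y.pt) (U := ⊤) (Opens.mem_top _)
  have hU : IsAffineOpen (f ⁻¹ᵁ V) := hV.preimage f
  haveI : IsAffine V.toScheme := hV
  haveI : IsAffine (f ⁻¹ᵁ V).toScheme := hU
  haveI : IsFinite (f ∣_ V) := inferInstance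
  haveI : Etale (f ∣_ V) := inferInstance
  have hprop : IsProperMap (Pts.map (f ∣_ V)) :=
    isProperMap_map_of_affine (f ∣_ V) ((f ∣_ V).isIntegral_app ⊤ (isAffineOpen_top _))
  have hloc : IsLocalHomeomorph (Pts.map (f ∣_ V)) := isLocalHomeomorph_map_of_etale _ _ _
  haveI : T2Space (Pts (f ⁻¹ᵁ V).toScheme) := t2Space_pts_of_isAffine _
  have hcov' : IsCoveringMap (Pts.map (f ∣_ V)) := by
    rw [isCoveringMap_iff_isCoveringMapOn_univ]
    exact hprop.isClosedMap.isCoveringMapOn_of_isLocalHomeomorphOn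
      (fun v _ => finite_preimage_singleton (f ∣_ V) v)
      (hloc.isLocalHomeomorphOn.mono (Set.subset_univ _))
  have hcomm : ∀ e, Pts.map f (Pts.map (f ⁻¹ᵁ V).ι e) = Pts.map V.ι (Pts.map (f ∣_ V) e) := by
    intro e
    apply Subtype.ext
    change (e.1 ≫ (f ⁻¹ᵁ V).ι) ≫ f = (e.1 ≫ (f ∣_ V)) ≫ V.ι
    rw [Category.assoc, Category.assoc, morphismRestrict_ι]
  have hrange : Set.range (Pts.map (f ⁻¹ᵁ V).ι) =
      Pts.map f ⁻¹' (Set.range (Pts.map V.ι)) := by
    rw [range_map_of_isOpenImmersion, range_map_of_isOpenImmersion, Scheme.Opens.opensRange_ι,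
      Scheme.Opens.opensRange_ι]
    ext x
    simp only [Set.mem_preimage, SetLike.mem_coe]
    rw [Pts.pt_map]
    rfl
  have h := isCoveringMapOn_of_isOpenEmbedding (Pts.map f) (Pts.map (f ∣_ V))
    (Pts.map (f ⁻¹ᵁ V).ι) (Pts.map V.ι) (isOpenEmbedding_map_of_isOpenImmersion _)
    (isOpenEmbedding_map_of_isOpenImmersion _) hcomm hrange hcov'
  refine h y ?_
  rw [range_map_of_isOpenImmersion, Scheme.Opens.opensRange_ι]
  exact hyV

end Groth.Agent.Lib.R2H2.AnFinite
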