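import Groth.Agent.Lib.R2H2AnEtale

/-!
# Integral ring maps induce proper maps on spaces of complex points (abstract form)

Ultrafilter argument: along an ultrafilter converging in the base, every evaluation stays bounded
(Cauchy's bound on the roots of a monic polynomial), hence converges; the limits assemble into a
ring homomorphism, i.e. a point of the source.
-/

set_option autoImplicit false

open Polynomial Topology Filter

namespace Groth.Agent.Lib.R2H2.AnProper

open Groth.Agent.Lib.R2H2.AnEtale

/-- Cauchy's bound for monic polynomials, with a sum instead of a supremum. -/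
lemma norm_lt_of_isRoot_monic (q : ℂ[X]) (hq : q.Monic) (t : ℂ) (ht : q.IsRoot t) :
    ‖t‖ < ∑ i ∈ Finset.range q.natDegree, ‖q.coeff i‖ + 1 := by
  have h := ht.norm_lt_cauchyBound hq.ne_zero
  have h2 : cauchyBound q ≤ ∑ i ∈ Finset.range q.natDegree, ‖q.coeff i‖₊ + 1 := by
    unfold cauchyBound
    rw [hq.leadingCoeff, nnnorm_one, div_one]
    gcongr
    exact Finset.sup_le fun i hi =>
      Finset.single_le_sum (f := fun i => ‖q.coeff i‖₊) (fun _ _ => zero_le) hi
  have h3 := lt_of_lt_of_le h h2
  have h4 : ((‖t‖₊ : NNReal) : ℝ) < ((∑ i ∈ Finset.range q.natDegree, ‖q.coeff i‖₊ + 1 : NNReal) : ℝ) :=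
    NNReal.coe_lt_coe.mpr h3
  simpa using h4

section

variable {A B : Type*} [CommRing A] [CommRing B] [Algebra A B]
  {TX TY : Type*} [TopologicalSpace TX] [TopologicalSpace TY]

/-- **Integral ring maps induce proper maps on complex points** (abstract form). -/
theorem isProperMap_of_isIntegral [Algebra.IsIntegral A B]
    (γA : A →+* C(TY, ℂ)) (γB : B →+* C(TX, ℂ)) (π : TX → TY) (hπ : Continuous π)
    (hcomp : ∀ a x, γB (algebraMap A B a) x = γA a (π x))
    (hind : IsInducing (fun (x : TX) (b : B) => γB b x))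
    (hlift : ∀ (y : TY) (ψ : B →+* ℂ), (∀ a, ψ (algebraMap A B a) = γA a y) →
      ∃ x, π x = y ∧ ∀ b, γB b x = ψ b) :
    IsProperMap π := by
  rw [isProperMap_iff_ultrafilter]
  refine ⟨hπ, fun 𝒰 y h => ?_⟩
  -- each evaluation converges along 𝒰
  have hconv : ∀ b : B, ∃ c : ℂ, Tendsto (fun x => γB b x) 𝒰 (𝓝 c) := by
    intro b
    obtain ⟨p, hpm, hpb⟩ := Algebra.IsIntegral.isIntegral (R := A) b
    let S : TY → ℝ := fun y' => ∑ i ∈ Finset.range p.natDegree, ‖γA (p.coeff i) y'‖
    have hS : Continuous S :=
      continuous_finsetSum _ fun i _ => (γA (p.coeff i)).continuous.norm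
    have hev : ∀ᶠ x in (𝒰 : Filter TX), S (π x) < S y + 1 :=
      ((hS.tendsto y).comp h).eventually_lt_const (lt_add_one _)
    have hbound : ∀ᶠ x in (𝒰 : Filter TX), γB b x ∈ Metric.closedBall (0 : ℂ) (S y + 2) := by
      filter_upwards [hev] with x hx
      set q : ℂ[X] := p.map ((evR (π x)).comp γA) with hq
      have hqm : q.Monic := hpm.map _
      have hdeg : q.natDegree = p.natDegree := hpm.natDegree_map _
      have hroot : q.IsRoot (γB b x) := by
        rw [IsRoot.def, hq, eval_map]
        have h1 := Polynomial.hom_eval₂ p (algebraMap A B) ((evR x).comp γB) b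
        have h2 : ((evR x).comp γB).comp (algebraMap A B) = (evR (π x)).comp γA := by
          ext a
          exact hcomp a x
        rw [h2] at h1
        have h3 : (evR x).comp γB b = γB b x := rfl
        rw [h3] at h1
        rw [← h1, hpb, map_zero]
      have hlt := norm_lt_of_isRoot_monic q hqm _ hroot
      rw [hdeg] at hlt
      have hcoef : ∀ i, q.coeff i = γA (p.coeff i) (π x) := by
        intro i
        rw [hq, coeff_map]
        rfl
      simp only [hcoef] at hlt
      rw [Metric.mem_closedBall, dist_zero_right]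
      have : (∑ i ∈ Finset.range p.natDegree, ‖γA (p.coeff i) (π x)‖) = S (π x) := rfl
      rw [this] at hlt
      linarith
    have hcpt : IsCompact (Metric.closedBall (0 : ℂ) (S y + 2)) := isCompact_closedBall _ _
    obtain ⟨c, -, hc⟩ := hcpt.ultrafilter_le_nhds (𝒰.map fun x => γB b x) (by
      rw [Filter.le_principal_iff]
      exact hbound)
    exact ⟨c, hc⟩
  choose ψ hψ using hconv
  have hmul : ∀ b b', ψ (b * b') = ψ b * ψ b' := by
    intro b b'
    refine tendsto_nhds_unique (hψ (b * b')) ?_
    have := (hψ b).mul (hψ b')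
    refine this.congr fun x => ?_
    rw [map_mul]
    rfl
  have hadd : ∀ b b', ψ (b + b') = ψ b + ψ b' := by
    intro b b'
    refine tendsto_nhds_unique (hψ (b + b')) ?_
    have := (hψ b).add (hψ b')
    refine this.congr fun x => ?_
    rw [map_add]
    rfl
  have hone : ψ 1 = 1 := by
    refine tendsto_nhds_unique (hψ 1) ?_
    have : Tendsto (fun _ : TX => (1 : ℂ)) 𝒰 (𝓝 1) := tendsto_const_nhds
    refine this.congr fun x => ?_
    rw [map_one]
    rfl
  have hzero : ψ 0 = 0 := by
    refine tendsto_nhds_unique (hψ 0) ?_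
    have : Tendsto (fun _ : TX => (0 : ℂ)) 𝒰 (𝓝 0) := tendsto_const_nhds
    refine this.congr fun x => ?_
    rw [map_zero]
    rfl
  let Ψ : B →+* ℂ :=
    { toFun := ψ
      map_one' := hone
      map_mul' := hmul
      map_zero' := hzero
      map_add' := hadd }
  have hΨ : ∀ a, Ψ (algebraMap A B a) = γA a y := by
    intro a
    refine tendsto_nhds_unique (hψ (algebraMap A B a)) ?_
    have := ((γA a).continuous.tendsto y).comp h
    refine this.congr fun x => ?_
    exact (hcomp a x).symm
  obtain ⟨x, hx1, hx2⟩ := hlift y Ψ hΨ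
  refine ⟨x, hx1, ?_⟩
  rw [hind.nhds_eq_comap, ← Filter.tendsto_iff_comap, tendsto_pi_nhds]
  intro b
  rw [hx2 b]
  exact hψ b

end

end Groth.Agent.Lib.R2H2.AnProper
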