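import Groth.Agent.Lib.Helper4LambdaAmple

/-!
# The augmentation ideal of a λ-ring with an ample line element is a nil ideal
(helper2, round 2)

* `isNilpotent_coeff_one_of_mul_eq_one` : power series `A B = 1`, both polynomials: `coeff 1 A`
  is nilpotent.
* `isNilpotent_of_aug_eq_zero` : `ε x = 0 ⟹ x` nilpotent, when there is an ample line element.
* `isUnit_iff_isUnit_aug` : units of `A ⊗ K` are detected by the augmentation.
-/

set_option autoImplicit false
universe u v

open PowerSeries LambdaRing Finset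

namespace Groth.Agent.Lib.R2H2.AugNil

section PS

variable {K : Type u} [CommRing K]

theorem isNilpotent_coeff_one_of_mul_eq_one (A B : K⟦X⟧) (hAB : A * B = 1) (m m' : ℕ)
    (hA : ∀ k, m < k → coeff k A = 0) (hB : ∀ k, m' < k → coeff k B = 0) :
    IsNilpotent (coeff 1 A) := by
  let p : Polynomial K := trunc (m + 2) A
  let q : Polynomial K := trunc (m' + 2) B
  have hp : (p : K⟦X⟧) = A := by
    ext k
    rw [Polynomial.coeff_coe, coeff_trunc]
    split_ifs with h
    · rfl
    · exact (hA k (by omega)).symm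
  have hq : (q : K⟦X⟧) = B := by
    ext k
    rw [Polynomial.coeff_coe, coeff_trunc]
    split_ifs with h
    · rfl
    · exact (hB k (by omega)).symm
  have hpq : p * q = 1 := by
    apply Polynomial.coe_injective
    rw [Polynomial.coe_mul, hp, hq, hAB, Polynomial.coe_one]
  have hu : IsUnit p := IsUnit.of_mul_eq_one q hpq
  have h1 := (Polynomial.isUnit_iff_coeff_isUnit_isNilpotent.1 hu).2 1 one_ne_zero
  have h2 : p.coeff 1 = coeff 1 A := by
    rw [← Polynomial.coeff_coe, hp]
  rw [h2] at h1
  exact h1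

end PS

section Lam

variable {K : Type u} [CommRing K] [LambdaOps K]

/-- **the augmentation ideal is a nil ideal** -/
theorem isNilpotent_of_aug_eq_zero (P : PosStructure K) (u : K) (hu : KRR.IsAmpleElt P u)
    (x : K) (hx : P.aug x = 0) : IsNilpotent x := by
  obtain ⟨huL, hamp⟩ := hu
  obtain ⟨n₁, hn₁⟩ := hamp x
  obtain ⟨n₂, hn₂⟩ := hamp (-x)
  set n := max n₁ n₂ with hn
  obtain ⟨e, m, he, hem⟩ := hn₁ n (le_max_left _ _)
  obtain ⟨e', m', he', hem'⟩ := hn₂ n (le_max_right _ _)
  have h1 := Groth.Agent.Lib.Helper4.lam_one_eq_zero P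
  have hm : (P.aug e).toNat = m := by
    have := congrArg P.aug hem
    rw [map_mul, hx, mul_zero, map_sub, map_natCast] at this
    have h2 : P.aug e = m := by linarith
    rw [h2]; rfl
  have hm' : (P.aug e').toNat = m' := by
    have := congrArg P.aug hem'
    rw [map_mul, map_neg, hx, neg_zero, mul_zero, map_sub, map_natCast] at this
    have h2 : P.aug e' = m' := by linarith
    rw [h2]; rfl
  have hA : ∀ k, m < k → coeff k (Groth.Agent.Lib.Helper4.gammaSeries (u ^ n * x)) = 0 := by
    intro k hk
    rw [Groth.Agent.Lib.Helper4.coeff_gammaSeries, hem]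
    exact Groth.Agent.Lib.Helper4.gamma_sub_natCast_eq_zero h1 e m
      (fun i hi => Groth.Agent.Lib.Helper4.lam_eq_zero_of_pos P e he i (by omega)) k hk
  have hB : ∀ k, m' < k → coeff k (Groth.Agent.Lib.Helper4.gammaSeries (-(u ^ n * x))) = 0 := by
    intro k hk
    have h3 : -(u ^ n * x) = e' - (m' : K) := by rw [← hem']; ring
    rw [Groth.Agent.Lib.Helper4.coeff_gammaSeries, h3]
    exact Groth.Agent.Lib.Helper4.gamma_sub_natCast_eq_zero h1 e' m'
      (fun i hi => Groth.Agent.Lib.Helper4.lam_eq_zero_of_pos P e' he' i (by omega)) k hk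
  have hAB : Groth.Agent.Lib.Helper4.gammaSeries (u ^ n * x) *
      Groth.Agent.Lib.Helper4.gammaSeries (-(u ^ n * x)) = 1 := by
    rw [mul_comm]
    exact Groth.Agent.Lib.Helper4.gammaSeries_neg_mul _
  have hnil := isNilpotent_coeff_one_of_mul_eq_one _ _ hAB m m' hA hB
  rw [Groth.Agent.Lib.Helper4.coeff_gammaSeries, Groth.Agent.Lib.Helper4.gamma_one] at hnil
  have huu : IsUnit (u ^ n) := (Groth.Agent.Lib.Helper4.isUnit_of_isLine P u huL).pow n
  obtain ⟨v, hv⟩ := huu
  have hxe : x = (↑v⁻¹ : K) * (u ^ n * x) := by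
    rw [← hv, ← mul_assoc, Units.inv_mul, one_mul]
  rw [hxe]
  exact (Commute.all _ _).isNilpotent_mul_left hnil

open TensorProduct in
/-- **units of `A ⊗ K` are detected by the augmentation** -/
theorem isUnit_iff_isUnit_aug (P : PosStructure K) (u : K) (hu : KRR.IsAmpleElt P u)
    (A : Type u) [CommRing A] (y : A ⊗[ℤ] K) :
    IsUnit y ↔ IsUnit (Algebra.TensorProduct.map (AlgHom.id ℤ A) P.aug.toIntAlgHom y) := by
  constructor
  · intro h
    exact h.map _
  · intro h
    have hsurj : Function.Surjective P.aug.toIntAlgHom := by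
      intro k
      exact ⟨(k : K), by simp⟩
    have hΦs : Function.Surjective
        (Algebra.TensorProduct.map (AlgHom.id ℤ A) P.aug.toIntAlgHom) :=
      Algebra.TensorProduct.map_surjective (AlgHom.id ℤ A) P.aug.toIntAlgHom
        Function.surjective_id hsurj
    have hker : RingHom.ker (Algebra.TensorProduct.map (AlgHom.id ℤ A) P.aug.toIntAlgHom) ≤
        nilradical (A ⊗[ℤ] K) := by
      rw [Algebra.TensorProduct.lTensor_ker _ hsurj, Ideal.map_le_iff_le_comap]
      intro x hx
      rw [Ideal.mem_comap, mem_nilradical]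
      have hx0 : P.aug x = 0 := hx
      exact (isNilpotent_of_aug_eq_zero P u hu x hx0).map _
    obtain ⟨w, hw⟩ := h.exists_right_inv
    obtain ⟨z, rfl⟩ := hΦs w
    have h1 : y * z - 1 ∈ RingHom.ker
        (Algebra.TensorProduct.map (AlgHom.id ℤ A) P.aug.toIntAlgHom) := by
      rw [RingHom.mem_ker, map_sub, map_mul, hw, map_one, sub_self]
    have h2 : IsNilpotent (y * z - 1) := mem_nilradical.1 (hker h1)
    have h3 : IsUnit (y * z) := by
      have := h2.isUnit_add_one
      rwa [sub_add_cancel] at this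
    exact isUnit_of_mul_isUnit_left h3

end Lam

end Groth.Agent.Lib.R2H2.AugNil
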