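import Mathlib
import Groth.Prelude
import Groth.Agent.Lib.R2H2Bc0Bij
import Groth.Agent.Lib.Helper27PullGen
import Groth.Agent.Lib.Helper23SecTw6
set_option backward.isDefEq.respectTransparency.types false

/-!
# The degree zero base change map of the structure sheaf at a fibre with constant global functions (helper2, round 2)

* `epi_bc0_structureModule`: if `κ(s) → Γ(X_s, O)` is surjective, then the degree zero base change map
  `κ(s)^* f_* O_X ⟶ (X_s → Spec κ(s))_* (O_X|_{X_s})` of the fibre square at `s` is an epimorphism.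
-/

set_option autoImplicit false
set_option linter.unusedSectionVars false
set_option linter.style.haveILetI false
universe u
open CategoryTheory AlgebraicGeometry TopologicalSpace Opposite
open AlgebraicGeometry.Scheme.Modules CohCmp

noncomputable section

namespace Groth.Agent.Lib.R2H2.Bc0Unit

open Groth.Agent.Lib.R2H2.BcSect Groth.Agent.Lib.R2H2.BcLocal Groth.Agent.Lib.R2H2.Bc0
  Groth.Agent.Lib.R2H2.FibreFP Groth.Agent.Helper13PullbackUnit
  Groth.Agent.Lib.Helper23.SecTw Groth.Agent.Lib.Helper23.GenLocus Groth.Agent.Lib.Helper6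

/-- **if `κ(s) → Γ(X_s, O)` is surjective, the degree zero base change map of the structure sheaf for the fibre
square at `s` is an epimorphism** -/
theorem epi_bc0_structureModule {X S : Scheme.{u}} (f : X ⟶ S) [QuasiCompact f] [QuasiSeparated f] (s : S)
    (h : Function.Surjective (f.fiberToSpecResidueField s).appTop.hom) :
    Epi (CohBC.bc0 f (S.fromSpecResidueField s) (f.fiberToSpecResidueField s) (f.fiberι s)
      (f.fiber_fac s) (Coh.structureModule X)) := by
  haveI : (Coh.structureModule X).IsQuasicoherent :=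
    Groth.Agent.Lib.Helper23.Serre.isQuasicoherent_structureModule' X
  haveI : Subsingleton ↥(Spec (S.residueField s)) :=
    inferInstanceAs (Subsingleton (PrimeSpectrum (S.residueField s)))
  have z : ↥(Spec (S.residueField s)) := (⊥ : PrimeSpectrum (S.residueField s))
  obtain ⟨W, hW, hsW, -⟩ := exists_isAffineOpen_mem_and_subset (x := s) (U := (⊤ : S.Opens)) trivial
  have hle : (⊤ : (Spec (S.residueField s)).Opens) ≤ (S.fromSpecResidueField s) ⁻¹ᵁ W := by
    rw [preimage_eq_top s hsW]
  refine (epi_iff_surjective_app _ (⊤ : (Spec (S.residueField s)).Opens) z trivial).2 ?_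
  refine (surjective_bc0_app_iff' (f.fiber_fac s) (Coh.structureModule X) hle hW
    (isAffineOpen_top _)).2 ?_
  set M := (pullback (f.fiberι s)).obj (Coh.structureModule X) with hM
  letI := modOn (f.fiberToSpecResidueField s) (⊤ : (Spec (S.residueField s)).Opens) M 0
  set L := sectLin (f.fiberToSpecResidueField s) (⊤ : (Spec (S.residueField s)).Opens) M with hL
  rw [eq_top_iff]
  intro x _
  obtain ⟨m, hmx⟩ := L.surjective x
  set V := f ⁻¹ᵁ W with hV
  have hgen := Groth.Agent.Lib.Helper27PullGen.isGen_pullback (f.fiberι s) (Coh.structureModule X) V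
    (toS V 1) (isGen_one V)
  have hU' : (f.fiberToSpecResidueField s) ⁻¹ᵁ (⊤ : (Spec (S.residueField s)).Opens) ≤
      (f.fiberι s) ⁻¹ᵁ V := Groth.Agent.Lib.R2H2.BcGen.preimage_le' (w := f.fiber_fac s) hle
  have hc := coef_spec hgen hU' m
  obtain ⟨r, hr⟩ := h (coef hgen hU' m)
  have hres : res M hU' (unitSec (f.fiberι s) (Coh.structureModule X) (le_refl _) (toS V 1)) =
      unitSec (f.fiberι s) (Coh.structureModule X) hU' (toS V 1) :=
    Groth.Agent.Lib.R2H2.PullOnUnit.unitSec_res (f.fiberι s) (Coh.structureModule X) (le_refl _) hU' (toS V 1)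
  rw [hres] at hc
  have hm : m = r • (show Γ((pushforward (f.fiberToSpecResidueField s)).obj M, ⊤) from
      unitSec (f.fiberι s) (Coh.structureModule X) hU' (toS V 1)) := by
    have h1 : coef hgen hU' m • unitSec (f.fiberι s) (Coh.structureModule X) hU' (toS V 1) =
        ((f.fiberToSpecResidueField s).app ⊤ r :
            Γ(f.fiber s, (f.fiberToSpecResidueField s) ⁻¹ᵁ (⊤ : (Spec (S.residueField s)).Opens))) •
          unitSec (f.fiberι s) (Coh.structureModule X) hU' (toS V 1) :=
      congrArg (fun c : Γ(f.fiber s, (f.fiberToSpecResidueField s) ⁻¹ᵁ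
          (⊤ : (Spec (S.residueField s)).Opens)) =>
        c • unitSec (f.fiberι s) (Coh.structureModule X) hU' (toS V 1)) hr.symm
    exact hc.symm.trans (h1.trans rfl)
  rw [← hmx, hm, L.map_smul]
  refine Submodule.smul_mem _ _ (Submodule.subset_span ⟨CohPull.sectH0 (Coh.structureModule X) V (toS V 1), ?_⟩)
  rw [pullOn_sectH0]
  rfl

end Groth.Agent.Lib.R2H2.Bc0Unit
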