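import Mathlib
import Groth.Prelude
import Groth.Agent.Lib.R2H2Bc0Bij
import Groth.Agent.Lib.R2H4GVSch
import Groth.Agent.Lib.R2H1CurveEuler
import Groth.Agent.Lib.H6xPerfAffD
set_option backward.isDefEq.respectTransparency.types false
set_option autoImplicit false
set_option linter.unusedSectionVars false
set_option linter.style.haveILetI false
universe u
open CategoryTheory AlgebraicGeometry TopologicalSpace Opposite TensorProduct
open AlgebraicGeometry.Scheme.Modules CohCmp

noncomputable section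

namespace Groth.Agent.Lib.R2H2.BcNear4

open Groth.Agent.Lib.R2H2.BcIso Groth.Agent.Lib.R2H2.FibreRank Groth.Agent.Lib.R2H2.BcNear
  Groth.Agent.Lib.R2H2.Bc0Bij

section Cover

variable {S : Scheme.{u}}

/-- finite local freeness over an open can be checked on an open cover of it -/
theorem isFinLocFree_restrict_of_cover (N : S.Modules) (U : S.Opens)
    (h : ∀ s ∈ U, ∃ V : S.Opens, V ≤ U ∧ s ∈ V ∧ FlatMod.IsFinLocFree (N.restrict V.ι)) :
    FlatMod.IsFinLocFree (N.restrict U.ι) := by
  refine Groth.Agent.Lib.H6xPerfAff.isFinLocFree_of_exists_openImmersion _ (fun x => ?_)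
  obtain ⟨V, hVU, hsV, hV⟩ := h x.1 x.2
  obtain ⟨O', n, hxO', ⟨e⟩⟩ := hV ⟨x.1, hsV⟩
  refine ⟨O', O'.ι ≫ S.homOfLE hVU, inferInstance, n, ⟨⟨⟨x.1, hsV⟩, hxO'⟩, ?_⟩, ⟨?_⟩⟩
  · apply Subtype.ext
    rw [Scheme.Hom.comp_apply]
    exact Scheme.homOfLE_apply _ _
  · have hj : (O'.ι ≫ S.homOfLE hVU) ≫ U.ι = O'.ι ≫ V.ι := by
      rw [Category.assoc, S.homOfLE_ι]
    exact ((Scheme.Modules.restrictFunctorComp (O'.ι ≫ S.homOfLE hVU) U.ι).app N).symm ≪≫
      (Scheme.Modules.restrictFunctorCongr hj).app N ≪≫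
      (Scheme.Modules.restrictFunctorComp O'.ι V.ι).app N ≪≫ e

end Cover

section Main

variable {X S : Scheme.{u}} (f : X ⟶ S) [IsProper f] [LocallyOfFinitePresentation f]
  [HasInjectiveResolutions X.Modules]
  (F : X.Modules) [F.IsQuasicoherent] (hfp : CohB1.IsFP F) (hfl : FlatMod.IsFlatOver f F)

/-- Grothendieck vanishing on the fibres -/
theorem subsingleton_fiberH_of_dim (d : ℕ) (hd : ∀ s : S, topologicalKrullDim (f.fiber s) ≤ d)
    (s : S) (i : ℕ) (hi : d < i) : Subsingleton (CohIII.fiberH f F s i) := by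
  letI : (f.fiber s).Over (Spec (CommRingCat.of ↑(S.residueField s))) :=
    ⟨f.fiberToSpecResidueField s⟩
  haveI : IsProper (f.fiber s ↘ Spec (CommRingCat.of ↑(S.residueField s))) :=
    MorphismProperty.of_isPullback (IsPullback.of_hasPullback f (S.fromSpecResidueField s))
      inferInstance
  haveI : IsNoetherian (f.fiber s) :=
    Groth.Agent.Lib.R2H1.CurveEuler.isNoetherian_of_proper (S.residueField s) (f.fiber s)
  exact Groth.Agent.Lib.R2H4GVSch.subsingleton_HH (f.fiber s) d (hd s) _ i hi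

include hfp hfl in
/-- the locus where all higher cohomology of the fibres vanishes is open -/
theorem isOpen_higher_vanishing (d : ℕ) (hd : ∀ s : S, topologicalKrullDim (f.fiber s) ≤ d) :
    IsOpen {s : S | ∀ j : ℕ, 1 ≤ j → Subsingleton (CohIII.fiberH f F s j)} := by
  have h : {s : S | ∀ j : ℕ, 1 ≤ j → Subsingleton (CohIII.fiberH f F s j)} =
      ⋂ j ∈ Finset.Icc 1 d, {s : S | Subsingleton (CohIII.fiberH f F s j)} := by
    ext s
    simp only [Set.mem_ofPred_eq, Set.mem_iInter, Finset.mem_Icc]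
    constructor
    · intro hs j hj
      exact hs j hj.1
    · intro hs j hj
      by_cases hjd : j ≤ d
      · exact hs j ⟨hj, hjd⟩
      · exact subsingleton_fiberH_of_dim f F d hd s j (not_le.mp hjd)
  rw [h]
  exact isOpen_biInter_finset (fun j _ => isOpen_vanishing f F hfp hfl j)

include hfp hfl in
/-- over an open on which all higher cohomology of the fibres vanishes: the higher direct images vanish, `f_* F` is
finite locally free and commutes with base change -/
theorem push_of_higher_vanishing (U : S.Opens)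
    (hU : ∀ s ∈ U, ∀ j : ℕ, 1 ≤ j → Subsingleton (CohIII.fiberH f F s j)) :
    (∀ j : ℕ, 1 ≤ j → Limits.IsZero (((Coh.Rpush f j).obj F).restrict U.ι)) ∧
      FlatMod.IsFinLocFree (((pushforward f).obj F).restrict U.ι) ∧
      ∀ (T X' : Scheme.{u}) (g : T ⟶ S) (f' : X' ⟶ T) (g' : X' ⟶ X) (hsq : IsPullback g' f' f g),
        Set.range g.base ⊆ (U : Set S) → IsIso (CohBC.bc0 f g f' g' hsq.w F) := by
  have key := fun (s : S) (hs : s ∈ U) =>
    exists_nhd_push_of_fiberH_one f F hfp hfl s (hU s hs 1 le_rfl)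
  refine ⟨fun j hj => isZero_restrict_of_forall f F hfp hfl U j (fun t ht => hU t ht j hj), ?_, ?_⟩
  · refine isFinLocFree_restrict_of_cover _ U (fun s hs => ?_)
    obtain ⟨W, hsW, hflf, -⟩ := key s hs
    exact ⟨W ⊓ U, inf_le_right, ⟨hsW, hs⟩, isFinLocFree_restrict_of_le _ inf_le_left hflf⟩
  · intro T X' g f' g' hsq hg
    refine isIso_bc0_of_good hsq F (fun z => ?_)
    obtain ⟨W, hsW, -, hgood⟩ := key (g z) (hg ⟨z, rfl⟩)
    exact ⟨W, hsW, hgood⟩

end Main

end Groth.Agent.Lib.R2H2.BcNear4
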