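import Mathlib
import Groth.Prelude
import Groth.Agent.Lib.R2H2FlatBridge
import Groth.Agent.Lib.R2H2ABC3
set_option backward.isDefEq.respectTransparency.types false

/-!
# Base change as a universal property, for homological functors (helper2, round 2)

* `UP a φ` : the additive map `φ : M →+ Q` (semilinear over `a : R →+* R'`) exhibits the `R'`-module `Q` as
  the base change of the `R`-module `M`; `UP.bijective`, `UP.comp_bijective`, `UP.precomp`,
  `UP.change_rings`.
* `UPF A B T` : for an additive functor `T : ModuleCat A ⥤ AddCommGrpCat`, the map `T(A) → T(B)` is a base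
  change; `upf_iso`, `upf_tensorLeft`, `upf_TFun`, `upf_of_flat_homology`.
-/

set_option autoImplicit false
set_option linter.unusedSectionVars false
set_option linter.style.haveILetI false
universe u
open CategoryTheory CategoryTheory.Limits MonoidalCategory TensorProduct

noncomputable section

namespace Groth.Agent.Lib.R2H2.BcUP

section UP

variable {R R' : Type u} [CommRing R] [CommRing R'] (a : R →+* R')
  {M Q : Type u} [AddCommGroup M] [Module R M] [AddCommGroup Q] [Module R' Q]

/-- `φ : M →+ Q` exhibits the `R'`-module `Q` as the base change of the `R`-module `M` along `a` -/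
def UP (φ : M →+ Q) : Prop :=
  (∀ (r : R) (m : M), φ (r • m) = a r • φ m) ∧
  ∀ (N : Type u) [AddCommGroup N] [Module R' N] (l : M →+ N),
    (∀ (r : R) (m : M), l (r • m) = a r • l m) → ∃! l' : Q →ₗ[R'] N, ∀ m, l' (φ m) = l m

variable {a}

theorem UP.bijective {φ : M →+ Q} (h : UP a φ) {Q' : Type u} [AddCommGroup Q'] [Module R' Q']
    {φ' : M →+ Q'} (h' : UP a φ') (β : Q →ₗ[R'] Q') (hβ : ∀ m, β (φ m) = φ' m) :
    Function.Bijective β := by
  obtain ⟨γ, hγ, -⟩ := h'.2 Q φ h.1
  obtain ⟨_, -, hu⟩ := h.2 Q φ h.1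
  obtain ⟨_, -, hu'⟩ := h'.2 Q' φ' h'.1
  have h1 : γ ∘ₗ β = LinearMap.id :=
    (hu (γ ∘ₗ β) (fun m => by rw [LinearMap.comp_apply, hβ, hγ])).trans
      (hu LinearMap.id (fun m => rfl)).symm
  have h2 : β ∘ₗ γ = LinearMap.id :=
    (hu' (β ∘ₗ γ) (fun m => by rw [LinearMap.comp_apply, hγ, hβ])).trans
      (hu' LinearMap.id (fun m => rfl)).symm
  refine ⟨fun x y hxy => ?_, fun y => ⟨γ y, LinearMap.congr_fun h2 y⟩⟩
  have := congrArg γ hxy
  rwa [← LinearMap.comp_apply, ← LinearMap.comp_apply, h1] at this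

theorem UP.comp_bijective {φ : M →+ Q} (h : UP a φ) {Q' : Type u} [AddCommGroup Q'] [Module R' Q']
    (β : Q →ₗ[R'] Q') (hb : Function.Bijective β) (φ' : M →+ Q') (hφ' : ∀ m, φ' m = β (φ m)) :
    UP a φ' := by
  let e := LinearEquiv.ofBijective β hb
  refine ⟨fun r m => by rw [hφ', hφ', h.1, map_smul], fun N _ _ l hl => ?_⟩
  obtain ⟨l₀, hl₀, hu⟩ := h.2 N l hl
  refine ⟨l₀ ∘ₗ e.symm.toLinearMap, fun m => ?_, fun l'' hl'' => ?_⟩
  · rw [hφ']
    show l₀ (e.symm (e (φ m))) = l m
    rw [e.symm_apply_apply, hl₀]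
  · have h1 : l'' ∘ₗ β = l₀ := hu _ (fun m => by rw [LinearMap.comp_apply, ← hφ', hl''])
    ext q
    show l'' q = l₀ (e.symm q)
    rw [← h1, LinearMap.comp_apply]
    congr 1
    exact (e.apply_symm_apply q).symm

theorem UP.precomp {φ : M →+ Q} (h : UP a φ) {M' : Type u} [AddCommGroup M'] [Module R M']
    (e : M' ≃+ M) (he : ∀ (r : R) (m' : M'), e (r • m') = r • e m') (φ' : M' →+ Q)
    (hφ' : ∀ m', φ' m' = φ (e m')) : UP a φ' := by
  refine ⟨fun r m => by rw [hφ', hφ', he, h.1], fun N _ _ l hl => ?_⟩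
  have hes : ∀ (r : R) (m : M), e.symm (r • m) = r • e.symm m := by
    intro r m
    apply e.injective
    rw [he, e.apply_symm_apply, e.apply_symm_apply]
  obtain ⟨l₀, hl₀, hu⟩ := h.2 N (l.comp e.symm.toAddMonoidHom) (fun r m => by
    show l (e.symm (r • m)) = a r • l (e.symm m)
    rw [hes, hl])
  refine ⟨l₀, fun m' => ?_, fun l'' hl'' => hu l'' (fun m => ?_)⟩
  · rw [hφ', hl₀]
    show l (e.symm (e m')) = l m'
    rw [e.symm_apply_apply]
  · show l'' (φ m) = l (e.symm m)
    rw [← hl'', hφ', e.apply_symm_apply]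

/-- change of the rings of scalars: from `R → R'` to `B → B'` when `B'` is generated by the images of `R'`
and of `B` -/
theorem UP.change_rings {B B' : Type u} [CommRing B] [CommRing B'] {a' : B →+* B'} (β : R →+* B)
    (β' : R' →+* B') (hcomm : ∀ r, a' (β r) = β' (a r))
    [Module B M] [Module B' Q] (hβ : ∀ (r : R) (m : M), r • m = β r • m)
    (hβ' : ∀ (r' : R') (q : Q), r' • q = β' r' • q)
    (hgen : ∀ c' : B', c' ∈ Subring.closure (Set.range β' ∪ Set.range a'))
    {φ : M →+ Q} (hφ : ∀ (c : B) (m : M), φ (c • m) = a' c • φ m) (h : UP a φ) : UP a' φ := by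
  refine ⟨hφ, fun N _ _ l hl => ?_⟩
  letI : Module R' N := Module.compHom N β'
  have hN : ∀ (r' : R') (n : N), r' • n = β' r' • n := fun _ _ => rfl
  have hlR : ∀ (c : B) (r : R) (m : M), l (c • r • m) = a r • l (c • m) := by
    intro c r m
    rw [hβ, smul_comm, hl, hcomm, hl, hN]
  obtain ⟨l₀, hl₀, hu⟩ := h.2 N l (fun r m => by
    have := hlR 1 r m
    rwa [one_smul, one_smul] at this)
  -- `l₀` commutes with the scalars from `B`
  have hB : ∀ (c : B) (q : Q), l₀ (a' c • q) = a' c • l₀ q := by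
    intro c
    obtain ⟨_, -, huc⟩ := h.2 N (l.comp (DistribSMul.toAddMonoidHom M c)) (fun r m => by
      show l (c • r • m) = a r • l (c • m)
      exact hlR c r m)
    let l₁ : Q →ₗ[R'] N :=
      { toFun := fun q => l₀ (a' c • q)
        map_add' := fun x y => by rw [smul_add, map_add]
        map_smul' := fun r' q => by
          show l₀ (a' c • r' • q) = r' • l₀ (a' c • q)
          rw [hβ', smul_comm, ← hβ', map_smul] }
    let l₂ : Q →ₗ[R'] N :=
      { toFun := fun q => a' c • l₀ q
        map_add' := fun x y => by rw [map_add, smul_add]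
        map_smul' := fun r' q => by
          show a' c • l₀ (r' • q) = r' • a' c • l₀ q
          rw [map_smul, hN, hN, smul_comm] }
    have e1 : l₁ = _ := huc l₁ (fun m => by
      show l₀ (a' c • φ m) = l (c • m)
      rw [← hφ, hl₀])
    have e2 : l₂ = _ := huc l₂ (fun m => by
      show a' c • l₀ (φ m) = l (c • m)
      rw [hl₀, hl])
    intro q
    exact LinearMap.congr_fun (e1.trans e2.symm) q
  have hall : ∀ (c' : B') (q : Q), l₀ (c' • q) = c' • l₀ q := by
    intro c'
    refine Subring.closure_induction (p := fun c' _ => ∀ q : Q, l₀ (c' • q) = c' • l₀ q)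
      ?_ ?_ ?_ ?_ ?_ ?_ (hgen c')
    · rintro x (⟨r', rfl⟩ | ⟨c, rfl⟩) q
      · rw [← hβ', map_smul, hN]
      · exact hB c q
    · intro q
      rw [zero_smul, zero_smul, map_zero]
    · intro q
      rw [one_smul, one_smul]
    · intro x y _ _ hx hy q
      rw [add_smul, add_smul, map_add, hx, hy]
    · intro x _ hx q
      rw [neg_smul, neg_smul, map_neg, hx]
    · intro x y _ _ hx hy q
      rw [mul_smul, mul_smul, hx, hy]
  refine ⟨{ toFun := l₀, map_add' := l₀.map_add, map_smul' := hall }, hl₀, fun l'' hl'' => ?_⟩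
  have h3 : ({ toFun := l'', map_add' := l''.map_add
               map_smul' := fun r' q => by
                 show l'' (r' • q) = r' • l'' q
                 rw [hβ', map_smul, hN] } : Q →ₗ[R'] N) = l₀ := hu _ hl''
  ext q
  exact LinearMap.congr_fun h3 q

end UP

section UPF

open Groth.Agent.Lib.R2H2.ABC Groth.Agent.Lib.R2H2.LiftA Groth.Agent.Lib.Helper16.TensorCmp

variable (A B : Type u) [CommRing A] [CommRing B] [Algebra A B]

lemma mulB_one : mulB A B 1 = 𝟙 _ := by
  ext x
  show idB A B (1 * (idB A B).symm x) = x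
  rw [one_mul, LinearEquiv.apply_symm_apply]

lemma mulB_mul (b c : B) : mulB A B (b * c) = mulB A B c ≫ mulB A B b := by
  ext x
  show idB A B ((b * c) * (idB A B).symm x) =
    idB A B (b * (idB A B).symm (idB A B (c * (idB A B).symm x)))
  rw [LinearEquiv.symm_apply_apply, mul_assoc]

lemma mulB_add (b c : B) : mulB A B (b + c) = mulB A B b + mulB A B c := by
  ext x
  show idB A B ((b + c) * (idB A B).symm x) =
    idB A B (b * (idB A B).symm x) + idB A B (c * (idB A B).symm x)
  rw [add_mul, map_add]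

lemma mulB_zero : mulB A B 0 = 0 := by
  ext x
  show idB A B (0 * (idB A B).symm x) = 0
  rw [zero_mul, map_zero]

lemma smul_id_comp_θ (r : A) :
    (r • 𝟙 (ModuleCat.of A A)) ≫ θ (idB A B 1) = θ (idB A B 1) ≫ mulB A B (algebraMap A B r) := by
  ext
  simp only [ModuleCat.hom_comp, LinearMap.comp_apply, ModuleCat.hom_smul, LinearMap.smul_apply,
    ModuleCat.hom_id, LinearMap.id_apply, mulB_apply]
  rw [θ_apply, θ_apply, one_smul, LinearEquiv.symm_apply_apply, mul_one, smul_eq_mul, mul_one,
    ← map_smul, Algebra.smul_def, mul_one]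

variable (T : ModuleCat.{u} A ⥤ AddCommGrpCat.{u}) [T.Additive]

/-- the `B`-module structure on `T(B)` by functoriality -/
@[reducible] def modBA : Module B (T.obj (BA A B)) where
  smul b y := (T.map (mulB A B b)).hom y
  one_smul y := by
    show (T.map (mulB A B 1)).hom y = y
    rw [mulB_one, T.map_id]
    rfl
  mul_smul b c y := by
    show (T.map (mulB A B (b * c))).hom y = (T.map (mulB A B b)).hom ((T.map (mulB A B c)).hom y)
    rw [mulB_mul, T.map_comp]
    rfl
  smul_zero b := map_zero _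
  smul_add b x y := map_add _ x y
  add_smul b c y := by
    show (T.map (mulB A B (b + c))).hom y = (T.map (mulB A B b)).hom y + (T.map (mulB A B c)).hom y
    rw [mulB_add, T.map_add]
    rfl
  zero_smul y := by
    show (T.map (mulB A B 0)).hom y = 0
    rw [mulB_zero, T.map_zero]
    rfl

lemma modBA_smul (b : B) (y : T.obj (BA A B)) :
    letI := modBA A B T
    b • y = (T.map (mulB A B b)).hom y := rfl

/-- the map `T(A) → T(B)` -/
def unitMap : (liftA T).obj (ModuleCat.of A A) →+ T.obj (BA A B) := (T.map (θ (idB A B 1))).hom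

lemma unitMap_apply (y : (liftA T).obj (ModuleCat.of A A)) :
    unitMap A B T y = (T.map (θ (idB A B 1))).hom (show T.obj (ModuleCat.of A A) from y) := rfl

lemma unitMap_smul (r : A) (y : (liftA T).obj (ModuleCat.of A A)) :
    letI := modBA A B T
    unitMap A B T (r • y) = algebraMap A B r • unitMap A B T y := by
  letI := modBA A B T
  show (T.map (θ (idB A B 1))).hom ((T.map (r • 𝟙 (ModuleCat.of A A))).hom _) =
    (T.map (mulB A B (algebraMap A B r))).hom ((T.map (θ (idB A B 1))).hom _)
  have h : T.map (r • 𝟙 (ModuleCat.of A A)) ≫ T.map (θ (idB A B 1)) =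
      T.map (θ (idB A B 1)) ≫ T.map (mulB A B (algebraMap A B r)) := by
    rw [← T.map_comp, ← T.map_comp, smul_id_comp_θ]
  exact ConcreteCategory.congr_hom h _

/-- **`T(A) → T(B)` is a base change** -/
def UPF : Prop :=
  letI := modBA A B T
  UP (algebraMap A B) (unitMap A B T)

variable {A B}

lemma nat_apply {T₁ T₂ : ModuleCat.{u} A ⥤ AddCommGrpCat.{u}} (α : T₁ ⟶ T₂) {M N : ModuleCat.{u} A}
    (f : M ⟶ N) (x : T₁.obj M) :
    (α.app N).hom ((T₁.map f).hom x) = (T₂.map f).hom ((α.app M).hom x) :=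
  ConcreteCategory.congr_hom (α.naturality f) x

theorem upf_iso {T₁ T₂ : ModuleCat.{u} A ⥤ AddCommGrpCat.{u}} [T₁.Additive] [T₂.Additive]
    (e : T₁ ≅ T₂) (h : UPF A B T₁) : UPF A B T₂ := by
  letI := modBA A B T₁
  letI := modBA A B T₂
  let eA : (liftA T₂).obj (ModuleCat.of A A) ≃+ (liftA T₁).obj (ModuleCat.of A A) :=
    (e.app (ModuleCat.of A A)).symm.addCommGroupIsoToAddEquiv
  have heA : ∀ y, eA y = (e.inv.app (ModuleCat.of A A)).hom y := fun _ => rfl
  let β : T₁.obj (BA A B) →ₗ[B] T₂.obj (BA A B) :=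
    { toFun := fun y => (e.hom.app (BA A B)).hom y
      map_add' := fun x y => map_add _ x y
      map_smul' := fun b y => nat_apply e.hom (mulB A B b) y }
  have hβ : Function.Bijective β :=
    (e.app (BA A B)).addCommGroupIsoToAddEquiv.bijective
  have h1 : UP (algebraMap A B) ((unitMap A B T₁).comp eA.toAddMonoidHom) :=
    h.precomp eA (fun r y => nat_apply e.inv (r • 𝟙 (ModuleCat.of A A)) y) _ (fun _ => rfl)
  refine h1.comp_bijective β hβ _ (fun y => ?_)
  show (T₂.map (θ (idB A B 1))).hom y =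
    (e.hom.app (BA A B)).hom ((T₁.map (θ (idB A B 1))).hom ((e.inv.app (ModuleCat.of A A)).hom y))
  rw [nat_apply e.hom]
  congr 1
  exact (ConcreteCategory.congr_hom (e.inv_hom_id_app (ModuleCat.of A A)) y).symm

section TensorLeft

variable (H : ModuleCat.{u} A)

/-- the functor `M ↦ H ⊗ M` to abelian groups -/
abbrev T0 : ModuleCat.{u} A ⥤ AddCommGrpCat.{u} :=
  tensorLeft H ⋙ forget₂ (ModuleCat.{u} A) AddCommGrpCat.{u}

/-- pure tensors in `T0 H M` -/
def tT {M : ModuleCat.{u} A} (h : H) (m : M) : (T0 H).obj M :=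
  (h ⊗ₜ[A] m : (H ⊗[A] M : Type u))

lemma T0_map_tT {M N : ModuleCat.{u} A} (f : M ⟶ N) (h : H) (m : M) :
    ((T0 H).map f).hom (tT H h m) = tT H h (f.hom m) := rfl

lemma tT_add_left {M : ModuleCat.{u} A} (h h' : H) (m : M) :
    tT H (h + h') m = tT H h m + tT H h' m := TensorProduct.add_tmul h h' m

lemma tT_zero_left {M : ModuleCat.{u} A} (m : M) : tT H (0 : H) m = 0 := TensorProduct.zero_tmul _ m

lemma tT_smul_left {M : ModuleCat.{u} A} (r : A) (h : H) (m : M) :
    tT H (r • h) m = tT H h (r • m) := TensorProduct.smul_tmul r h m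

lemma tT_induction {M : ModuleCat.{u} A} (z : (T0 H).obj M) :
    z ∈ AddSubmonoid.closure {z : (T0 H).obj M | ∃ (h : H) (m : M), z = tT H h m} := by
  induction (show (H ⊗[A] M : Type u) from z) using TensorProduct.induction_on with
  | zero => exact zero_mem _
  | tmul h m => exact AddSubmonoid.subset_closure ⟨h, m, rfl⟩
  | add x y hx hy => exact add_mem hx hy

/-- pure tensors in `T0 H A`, with its functorial module structure -/
def tA (h : H) (r : A) : (liftA (T0 H)).obj (ModuleCat.of A A) := tT H h (r : ModuleCat.of A A)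

lemma tA_smul (r : A) (h : H) (s : A) : r • tA H h s = tA H h (r * s) := by
  show ((T0 H).map (r • 𝟙 (ModuleCat.of A A))).hom (tT H h (s : ModuleCat.of A A)) = _
  rw [T0_map_tT]
  rfl

variable (B) in
theorem upf_tensorLeft : UPF A B (T0 H) := by
  letI := modBA A B (T0 H)
  refine ⟨unitMap_smul A B (T0 H), fun N _ _ l hl => ?_⟩
  have he1_smul : ∀ (r : A) (h : H), tA H (r • h) 1 = r • tA H h 1 := by
    intro r h
    rw [tA_smul]
    exact tT_smul_left H r h _
  let f : H →+ (BA A B) →+ N :=
    { toFun := fun h =>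
        { toFun := fun x => ((idB A B).symm x) • l (tA H h 1)
          map_zero' := by rw [map_zero, zero_smul]
          map_add' := fun x y => by rw [map_add, add_smul] }
      map_zero' := by
        ext x
        show ((idB A B).symm x) • l (tA H 0 1) = 0
        have : tA H 0 1 = 0 := tT_zero_left H _
        rw [this, map_zero, smul_zero]
      map_add' := fun h h' => by
        ext x
        show ((idB A B).symm x) • l (tA H (h + h') 1) =
          ((idB A B).symm x) • l (tA H h 1) + ((idB A B).symm x) • l (tA H h' 1)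
        have : tA H (h + h') 1 = tA H h 1 + tA H h' 1 := tT_add_left H h h' _
        rw [this, map_add, smul_add] }
  have hf : ∀ (r : A) (h : H) (x : BA A B), f (r • h) x = f h (r • x) := by
    intro r h x
    show ((idB A B).symm x) • l (tA H (r • h) 1) = ((idB A B).symm (r • x)) • l (tA H h 1)
    rw [he1_smul, hl, map_smul, Algebra.smul_def, mul_smul, smul_comm]
  let l₀ : (T0 H).obj (BA A B) →+ N := TensorProduct.liftAddHom f hf
  have hl₀ : ∀ (h : H) (x : BA A B), l₀ (tT H h x) = ((idB A B).symm x) • l (tA H h 1) :=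
    fun _ _ => rfl
  have hsmB : ∀ (b : B) (h : H) (x : BA A B),
      b • tT H h x = tT H h (idB A B (b * (idB A B).symm x)) := fun b h x => rfl
  have hlin : ∀ (b : B) (z : (T0 H).obj (BA A B)), l₀ (b • z) = b • l₀ z := by
    intro b z
    refine AddSubmonoid.closure_induction (motive := fun z _ => l₀ (b • z) = b • l₀ z) ?_ ?_ ?_
      (tT_induction H z)
    · rintro _ ⟨h, x, rfl⟩
      rw [hsmB, hl₀, hl₀, LinearEquiv.symm_apply_apply, mul_smul]
    · rw [smul_zero, map_zero, smul_zero]
    · intro x y _ _ hx hy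
      rw [smul_add, map_add, map_add, smul_add, hx, hy]
  have hφ : ∀ h : H, unitMap A B (T0 H) (tA H h 1) = tT H h (idB A B 1) := by
    intro h
    show ((T0 H).map (θ (idB A B 1))).hom (tT H h ((1 : A) : ModuleCat.of A A)) = _
    rw [T0_map_tT, θ_apply, one_smul]
  have hgen : ∀ z : (liftA (T0 H)).obj (ModuleCat.of A A), z ∈ AddSubmonoid.closure
      {z | ∃ (r : A) (h : H), z = r • tA H h 1} := by
    intro z
    refine AddSubmonoid.closure_induction
      (motive := fun z _ => z ∈ AddSubmonoid.closure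
        {z : (liftA (T0 H)).obj (ModuleCat.of A A) | ∃ (r : A) (h : H), z = r • tA H h 1}) ?_ ?_ ?_
      (tT_induction H (show (T0 H).obj (ModuleCat.of A A) from z))
    · rintro _ ⟨h, r, rfl⟩
      refine AddSubmonoid.subset_closure ⟨r, h, ?_⟩
      rw [tA_smul, mul_one]
      rfl
    · exact zero_mem _
    · intro x y _ _ hx hy
      exact add_mem hx hy
  refine ⟨{ toFun := l₀, map_add' := l₀.map_add, map_smul' := hlin }, fun z => ?_, fun l'' hl'' => ?_⟩
  · show l₀ (unitMap A B (T0 H) z) = l z
    refine AddSubmonoid.closure_induction (motive := fun z _ => l₀ (unitMap A B (T0 H) z) = l z)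
      ?_ ?_ ?_ (hgen z)
    · rintro _ ⟨r, h, rfl⟩
      rw [unitMap_smul, hlin, hφ, hl₀, LinearEquiv.symm_apply_apply, one_smul, hl]
    · rw [map_zero, map_zero, map_zero]
    · intro x y _ _ hx hy
      rw [map_add, map_add, map_add, hx, hy]
  · ext z
    show l'' z = l₀ z
    refine AddSubmonoid.closure_induction (motive := fun z _ => l'' z = l₀ z) ?_ ?_ ?_
      (tT_induction H z)
    · rintro _ ⟨h, x, rfl⟩
      have hx : tT H h x = ((idB A B).symm x) • unitMap A B (T0 H) (tA H h 1) := by
        rw [hφ, hsmB, LinearEquiv.symm_apply_apply, mul_one, LinearEquiv.apply_symm_apply]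
      rw [hl₀, hx, map_smul, hl'']
    · rw [map_zero, map_zero]
    · intro x y _ _ hx hy
      rw [map_add, map_add, hx, hy]

end TensorLeft

section TFun

open Groth.Agent.Lib.Helper3

variable (B)

/-- flat next opcycles: `T_p` satisfies base change -/
theorem upf_TFun {ι : Type} {c : ComplexShape ι} (C : HomologicalComplex (ModuleCat.{u} A) c)
    (p q : ι) (hrel : c.Rel p q) [Module.Flat A (C.X q)] [Module.Flat A (C.opcycles q)]
    [(CohIII.TFun C p ⋙ forget₂ (ModuleCat.{u} A) AddCommGrpCat.{u}).Additive] :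
    UPF A B (CohIII.TFun C p ⋙ forget₂ (ModuleCat.{u} A) AddCommGrpCat.{u}) :=
  upf_iso (Functor.isoWhiskerRight (thetaIso C p q hrel) _) (upf_tensorLeft B (C.homology p))

/-- a complex of flat modules with `T_i = 0` for `i` small and flat homology: all `T_k` satisfy base change -/
theorem upf_of_flat_homology (C : ChainComplex (ModuleCat.{u} A) ℤ)
    (hC : ∀ i, Module.Flat A (C.X i)) (b : ℕ)
    (hb : ∀ i : ℤ, i < 1 - (b : ℤ) → ∀ M : ModuleCat.{u} A, IsZero ((CohIII.TFun C i).obj M))
    (hflat : ∀ k : ℤ, Module.Flat A (C.homology k)) (k : ℤ)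
    [(CohIII.TFun C k ⋙ forget₂ (ModuleCat.{u} A) AddCommGrpCat.{u}).Additive] :
    UPF A B (CohIII.TFun C k ⋙ forget₂ (ModuleCat.{u} A) AddCommGrpCat.{u}) := by
  have hex := Groth.Agent.Lib.R2H2.FlatBridge.exact_of_flat_homology C hC b hb hflat (k - 1)
  haveI : Module.Flat A (C.opcycles (k - 1)) := (Groth.Agent.S2375.result C hC (k - 1)).1 hex.1
  haveI : Module.Flat A (C.X (k - 1)) := hC _
  have hrel : (ComplexShape.down ℤ).Rel k (k - 1) := by
    simp only [ComplexShape.down_Rel]
    ring
  exact upf_TFun B C k (k - 1) hrel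

end TFun

end UPF

end Groth.Agent.Lib.R2H2.BcUP
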