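import Mathlib
import Groth.Prelude
import Groth.Agent.Lib.R2H2BcUP
import Groth.Agent.Lib.R2H2LocalCx
import Groth.Agent.Lib.R2H2BcLocal
set_option backward.isDefEq.respectTransparency.types false

/-!
# Base change for cohomology as a universal property: flat module with flat cohomology (helper2, round 2)

`X` quasi-compact separated over `Spec A`, `F` quasi-coherent, flat over `A`, with all `H^p(X, F)` flat over `A`.
Then for every `A`-algebra `B` and every cartesian square `X' = X ×_A B`, the pullback map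
`H^p(X, F) → H^p(X', g'^*F)` is a base change (`UP`).
-/

set_option autoImplicit false
set_option linter.unusedSectionVars false
set_option linter.style.haveILetI false
universe u
open CategoryTheory CategoryTheory.Limits AlgebraicGeometry MonoidalCategory

noncomputable section

namespace Groth.Agent.Lib.R2H2.BcUPGeo

open Groth.Agent.Lib.R2H2.BcUP Groth.Agent.Lib.R2H2.ABC Groth.Agent.Lib.R2H2.LiftA
  Groth.Agent.Lib.R2H2.PsiA Groth.Agent.Lib.R2H2.PsiCech Groth.Agent.Lib.R2H2.CoreBC
  Groth.Agent.Lib.R2H2.FibRank Groth.Agent.Lib.Helper16.TensorCmp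

section Bridge

variable (A : Type u) [CommRing A] (X : Scheme.{u}) [X.Over (Spec (CommRingCat.of A))]
  [IsSeparated (X ↘ Spec (CommRingCat.of A))] [CompactSpace X] (F : X.Modules) [F.IsQuasicoherent]

theorem upf_PsiHAb_of_flat (hfl : FlatMod.IsFlatOver (X ↘ Spec (CommRingCat.of A)) F)
    (hH : ∀ p : ℕ, Module.Flat A (Coh.HH X F p))
    (B : Type u) [CommRing B] [Algebra A B] (p : ℕ) :
    UPF A B (CohIII.tensorAFunctor A F ⋙ CohIII.HAb X p) := by
  obtain ⟨C, b, hC, hCz, hCv, hCi⟩ := Groth.Agent.Lib.R2H2.FlatBridge.flat_bridge A X F hfl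
  have hflat : ∀ k : ℤ, Module.Flat A (C.homology k) := by
    intro k
    by_cases hk : 0 < k
    · have hz : IsZero (C.homology k) :=
        ShortComplex.isZero_homology_of_isZero_X₂ _ (hCz k hk)
      haveI : Subsingleton (C.homology k) := ModuleCat.subsingleton_of_isZero hz
      infer_instance
    · obtain ⟨q, rfl⟩ : ∃ q : ℕ, k = -(q : ℤ) := ⟨(-k).toNat, by omega⟩
      obtain ⟨l⟩ := Groth.Agent.Lib.R2H2.LocalCx.nonempty_HH_linearEquiv_homology F C
        (-(q : ℤ)) q (hCi q).some
      haveI := hH q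
      exact Module.Flat.of_linearEquiv l.symm
  exact upf_iso (hCi p).some (upf_of_flat_homology B C hC b hCv hflat (-(p : ℤ)))

end Bridge

section Core

variable {A B : Type u} [CommRing A] [CommRing B] [Algebra A B] {X X' : Scheme.{u}}
  [X.Over (Spec (CommRingCat.of A))] [X'.Over (Spec (CommRingCat.of B))] (g' : X' ⟶ X)
  (h : IsPullback g' (X' ↘ Spec (CommRingCat.of B)) (X ↘ Spec (CommRingCat.of A))
    (Spec.map (CommRingCat.ofHom (algebraMap A B))))
  (F : X.Modules) [F.IsQuasicoherent]

include h in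
theorem up_pullMod_of_upf (p : ℕ)
    (hT : UPF A B (CohIII.tensorAFunctor A F ⋙ CohIII.HAb X p)) :
    UP (algebraMap A B) (CohPull.pullMod g' F p) := by
  obtain ⟨ψ, hψ1, hψ2⟩ := core g' h F p
  letI := modBA A B (CohIII.tensorAFunctor A F ⋙ CohIII.HAb X p)
  have hto : ∀ x₀ : Coh.HH X F p, CohPull.mapH (toPsiAB (A := A) (B := B) F) p x₀ =
      CohPull.mapH ((CohIII.tensorAFunctor A F).map (θ (idB A B 1))) p
        (CohPull.mapH (objUnitIso A F).inv p x₀) := by
    intro x₀
    unfold toPsiAB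
    exact Groth.Agent.Lib.R2H2.HHLin.HmapL_comp _ _ p x₀
  let e : Coh.HH X F p ≃ₗ[A]
      (liftA (CohIII.tensorAFunctor A F ⋙ CohIII.HAb X p)).obj (ModuleCat.of A A) :=
    (HHLinEquiv (objUnitIso A F).symm p) ≪≫ₗ (liftHAbEquiv A F (ModuleCat.of A A) p).symm
  have h1 : UP (algebraMap A B) ((unitMap A B (CohIII.tensorAFunctor A F ⋙ CohIII.HAb X p)).comp
      e.toAddEquiv.toAddMonoidHom) :=
    UP.precomp hT e.toAddEquiv (fun r m => e.map_smul r m) _ (fun _ => rfl)
  let β : (CohIII.tensorAFunctor A F ⋙ CohIII.HAb X p).obj (BA A B) →ₗ[B]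
      Coh.HH X' (F' g' F) p :=
    { toFun := fun y => ψ y
      map_add' := fun x y => map_add ψ x y
      map_smul' := fun b y => hψ2 b y }
  refine h1.comp_bijective β ψ.bijective _ (fun x => ?_)
  show CohPull.pullMod g' F p x = ψ _
  rw [← hψ1, hto]
  rfl

include h in
/-- **base change for a flat module with flat cohomology** -/
theorem up_pullMod_of_flat [IsSeparated (X ↘ Spec (CommRingCat.of A))] [CompactSpace X]
    (hfl : FlatMod.IsFlatOver (X ↘ Spec (CommRingCat.of A)) F)
    (hH : ∀ p : ℕ, Module.Flat A (Coh.HH X F p)) (p : ℕ) :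
    UP (algebraMap A B) (CohPull.pullMod g' F p) :=
  up_pullMod_of_upf g' h F p (upf_PsiHAb_of_flat A X F hfl hH B p)

end Core

end Groth.Agent.Lib.R2H2.BcUPGeo
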