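import Mathlib
import Groth.Prelude
import Groth.Agent.Lib.R2H2BcUPGeo
import Groth.Agent.Lib.R2H2BcGen
import Groth.Agent.Lib.R2H2BcBij
import Groth.Agent.Lib.R2H2NoethModel
set_option backward.isDefEq.respectTransparency.types false

/-!
# Bijectivity of the base change map on sections from a universal property (helper2, round 2)
-/

set_option autoImplicit false
set_option linter.unusedSectionVars false
set_option linter.style.haveILetI false
universe u
open CategoryTheory AlgebraicGeometry TopologicalSpace Opposite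
open AlgebraicGeometry.Scheme.Modules CohCmp

noncomputable section

namespace Groth.Agent.Lib.R2H2.BcUPMain

open Groth.Agent.Lib.R2H2.BcUP Groth.Agent.Lib.R2H2.EpsBij Groth.Agent.Lib.R2H2.EpsLin
  Groth.Agent.Lib.R2H2.BcSect Groth.Agent.Lib.R2H2.BcLocal Groth.Agent.Helper13PullbackUnit

section Tr

variable {S S' : Scheme.{u}} (g : S' ⟶ S) {N : S.Modules} {N' : S'.Modules}
  (φ : N ⟶ (pushforward g).obj N')

lemma φres_smul {W : S.Opens} {W' : S'.Opens} (hle : W' ≤ g ⁻¹ᵁ W) (r : Γ(S, W)) (n : Γ(N, W)) :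
    φres g φ hle (r • n) = (g.appLE W W' hle).hom r • φres g φ hle n := by
  rw [φres_apply, φres_apply, Scheme.Modules.Hom.app_smul, pushforward_smul]
  erw [Scheme.Modules.map_smul]
  rfl

variable [N.IsQuasicoherent]

/-- the transpose of `φ` is bijective over `W'` as soon as `φ` over `W` followed by restriction is a base change -/
theorem bijective_tr_app_of_up {W : S.Opens} (hW : IsAffineOpen W) {W' : S'.Opens}
    (hW' : IsAffineOpen W') (hle : W' ≤ g ⁻¹ᵁ W)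
    (h : UP (g.appLE W W' hle).hom (φres g φ hle)) :
    Function.Bijective ((tr g φ).app W') := by
  have hu : UP (g.appLE W W' hle).hom (unitSec g N hle) :=
    ⟨fun r x => unitSec_smul g N hle r x,
      fun M _ _ l hl => existsUnique_lift g N hW hW' hle M l hl⟩
  exact hu.bijective h (trLin g φ W') (fun n => tr_unitSec g φ hle n)

end Tr

section Geo

variable {X Y S X' Y' S' : Scheme.{u}} {b : Y ⟶ S} {f : X ⟶ Y} {g : S' ⟶ S} {gY : Y' ⟶ Y}
  {b' : Y' ⟶ S'} (hY : IsPullback gY b' b g) {gX : X' ⟶ X} {f' : X' ⟶ Y'}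
  (hX : IsPullback gX f' f gY)
  {V : S.Opens} {V' : S'.Opens} (hVV' : V' ≤ g ⁻¹ᵁ V) {W : Y.Opens} (hWV : W ≤ b ⁻¹ᵁ V)
  {W' : Y'.Opens} (hW' : W' = gY ⁻¹ᵁ W ⊓ b' ⁻¹ᵁ V')

include hW' in
lemma le1 : W' ≤ gY ⁻¹ᵁ W := hW' ▸ inf_le_left

include hW' in
lemma le2 : W' ≤ b' ⁻¹ᵁ V' := hW' ▸ inf_le_right

/-- `f⁻¹W` as a scheme over `Spec Γ(V, O)` for `W ≤ b⁻¹V` -/
abbrev overWV (f : X ⟶ Y) (b : Y ⟶ S) {V : S.Opens} {W : Y.Opens} (hWV : W ≤ b ⁻¹ᵁ V)
    [IsAffine (V : Scheme.{u})] :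
    ((f ⁻¹ᵁ W : X.Opens) : Scheme.{u}).Over (Spec (CommRingCat.of Γ((V : Scheme.{u}), ⊤))) :=
  ⟨(f ∣_ W ≫ b.resLE V W hWV) ≫ (V : Scheme.{u}).isoSpec.hom⟩

/-- the scalars from the base `V`, in terms of the scalars from `W` -/
theorem toGlobal_overWV [IsAffine (V : Scheme.{u})] (r : Γ((V : Scheme.{u}), ⊤)) :
    letI := overWV f b hWV
    Coh.toGlobal (((f ⁻¹ᵁ W : X.Opens) : Scheme.{u}) ↘
        Spec (CommRingCat.of Γ((V : Scheme.{u}), ⊤))) r =
      rTopHom f W ((b.appLE V W hWV).hom (V.topIso.hom.hom r)) := by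
  letI := overWV f b hWV
  have h1 : Coh.toGlobal (((f ⁻¹ᵁ W : X.Opens) : Scheme.{u}) ↘
        Spec (CommRingCat.of Γ((V : Scheme.{u}), ⊤))) r =
      (f ∣_ W ≫ b.resLE V W hWV).appTop.hom r :=
    (Groth.Agent.Lib.R2H2.LocalCBC.toGlobal_isoSpec (f ∣_ W ≫ b.resLE V W hWV) r).trans
      (Groth.Agent.Lib.R2H2.GammaDer.topHom_apply _ _)
  have h2 : ∀ c : Γ(Y, W), rTopHom f W c = (f ∣_ W).appTop.hom (W.topIso.inv.hom c) := fun c =>
    (congrArg (fun φ => φ.hom c) (topIso_inv_appTop f W)).symm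
  have h3 : W.topIso.inv.hom ((b.appLE V W hWV).hom (V.topIso.hom.hom r)) =
      (b.resLE V W hWV).appTop.hom r := by
    have h := congrArg (fun φ => φ.hom (V.topIso.hom.hom r))
      (Groth.Agent.Lib.R2H2.BcBij.topIso_inv_resLE_appTop b hWV)
    simp only [CommRingCat.hom_comp, RingHom.comp_apply] at h
    rw [← h]
    congr 1
    exact congrArg (fun φ => φ.hom r) V.topIso.hom_inv_id
  rw [h1, h2, h3, Scheme.Hom.comp_appTop]
  rfl

include hY hX hW' in
theorem isPullback_specV [IsAffine (V : Scheme.{u})] [IsAffine (V' : Scheme.{u})] :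
    letI := overWV f b hWV
    letI := overWV f' b' (le2 hW')
    letI := algW g hVV'
    IsPullback (gX.resLE (f ⁻¹ᵁ W) (f' ⁻¹ᵁ W') (preimage_le hX (le1 hW')))
      (((f' ⁻¹ᵁ W' : X'.Opens) : Scheme.{u}) ↘ Spec (CommRingCat.of Γ((V' : Scheme.{u}), ⊤)))
      (((f ⁻¹ᵁ W : X.Opens) : Scheme.{u}) ↘ Spec (CommRingCat.of Γ((V : Scheme.{u}), ⊤)))
      (Spec.map (CommRingCat.ofHom (algebraMap Γ((V : Scheme.{u}), ⊤) Γ((V' : Scheme.{u}), ⊤)))) := by
  have h1 := isPullback_resLE hX (le1 hW')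
  have h2 := Scheme.Hom.isPullback_resLE hY hVV' hWV hW'
  have h3 : IsPullback (g.resLE V V' hVV') (V' : Scheme.{u}).isoSpec.hom (V : Scheme.{u}).isoSpec.hom
      (Spec.map (g.resLE V V' hVV').appTop) :=
    IsPullback.of_vert_isIso ⟨(Scheme.isoSpec_hom_naturality (g.resLE V V' hVV')).symm⟩
  exact (h1.paste_vert h2).paste_vert h3

/-- flatness over `S` gives flatness of the restriction over `Spec Γ(V, O)` -/
theorem isFlatOver_overWV [IsAffine (V : Scheme.{u})] (F : X.Modules) [F.IsQuasicoherent]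
    (hF : FlatMod.IsFlatOver (f ≫ b) F) :
    letI := overWV f b hWV
    FlatMod.IsFlatOver (((f ⁻¹ᵁ W : X.Opens) : Scheme.{u}) ↘
      Spec (CommRingCat.of Γ((V : Scheme.{u}), ⊤))) (F.restrict (f ⁻¹ᵁ W).ι) := by
  letI := overWV f b hWV
  haveI : (F.restrict (f ⁻¹ᵁ W).ι).IsQuasicoherent :=
    Scheme.Modules.isQuasicoherent_restrictFunctor (f ⁻¹ᵁ W).ι F
  have h1 : FlatMod.IsFlatOver ((f ⁻¹ᵁ W).ι ≫ (f ≫ b))
      ((Scheme.Modules.pullback (f ⁻¹ᵁ W).ι).obj F) := fun x =>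
    (Groth.Agent.Lib.Helper2.PullbackSec.isFlatOverAt_pullback_iff (f ⁻¹ᵁ W).ι (f ≫ b) F x
      (RingHom.Flat.of_bijective (ConcreteCategory.bijective_of_isIso _))).1 (hF _)
  have h2 : FlatMod.IsFlatOver ((f ⁻¹ᵁ W).ι ≫ (f ≫ b)) (F.restrict (f ⁻¹ᵁ W).ι) :=
    Groth.Agent.Lib.Helper26.FlatLim.isFlatOver_of_iso _
      ((Scheme.Modules.restrictFunctorIsoPullback (f ⁻¹ᵁ W).ι).app F).symm h1
  have e3 : (f ⁻¹ᵁ W).ι ≫ (f ≫ b) = (f ∣_ W ≫ b.resLE V W hWV) ≫ V.ι := by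
    rw [Category.assoc, Scheme.Hom.resLE_comp_ι, ← Category.assoc, ← Category.assoc,
      morphismRestrict_ι]
  rw [e3] at h2
  have sq : IsPullback (𝟙 _) (f ∣_ W ≫ b.resLE V W hWV) ((f ∣_ W ≫ b.resLE V W hWV) ≫ V.ι) V.ι := by
    have t1 : IsPullback (𝟙 ((f ⁻¹ᵁ W : X.Opens) : Scheme.{u})) (f ∣_ W ≫ b.resLE V W hWV)
        (f ∣_ W ≫ b.resLE V W hWV) (𝟙 (V : Scheme.{u})) := IsPullback.of_horiz_isIso ⟨by simp⟩
    have t2 : IsPullback (𝟙 (V : Scheme.{u})) (𝟙 (V : Scheme.{u})) V.ι V.ι :=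
      IsKernelPair.id_of_mono V.ι
    have t3 := t1.paste_vert t2
    rwa [Category.comp_id] at t3
  have h4 : FlatMod.IsFlatOver (f ∣_ W ≫ b.resLE V W hWV)
      ((Scheme.Modules.pullback (𝟙 _)).obj (F.restrict (f ⁻¹ᵁ W).ι)) := fun x =>
    Groth.Agent.Lib.Helper2.PullbackSec.isFlatOverAt_pullback_of_isPullback sq _ x (h2 _)
  have h5 : FlatMod.IsFlatOver (f ∣_ W ≫ b.resLE V W hWV) (F.restrict (f ⁻¹ᵁ W).ι) :=
    Groth.Agent.Lib.Helper26.FlatLim.isFlatOver_of_iso _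
      ((Scheme.Modules.pullbackId _).app (F.restrict (f ⁻¹ᵁ W).ι)) h4
  exact Groth.Agent.Lib.R2H2.NoethModel.isFlatOver_comp_iso _ (V : Scheme.{u}).isoSpec _ h5

/-- flatness of `R^n f_* F` over `S` gives flatness of `H^n(f⁻¹W, F)` over `Γ(V, O)` -/
theorem flat_HH_overWV [IsAffine (V : Scheme.{u})] [HasInjectiveResolutions X.Modules]
    {Δ : RDer.DerivedLES (pushforward f)} (E : SectCmp f Δ) [QuasiCompact f] [QuasiSeparated f]
    (F : X.Modules) [F.IsQuasicoherent] (hW : IsAffineOpen W) (n : ℕ)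
    (hR : FlatMod.IsFlatOver b ((Coh.Rpush f n).obj F)) :
    letI := overWV f b hWV
    Module.Flat Γ((V : Scheme.{u}), ⊤)
      (Coh.HH ((f ⁻¹ᵁ W : X.Opens) : Scheme.{u}) (F.restrict (f ⁻¹ᵁ W).ι) n) := by
  letI := overWV f b hWV
  have hV : IsAffineOpen V := ‹IsAffine (V : Scheme.{u})›
  haveI : ((Coh.Rpush f n).obj F).IsQuasicoherent :=
    Groth.Agent.Lib.R2H3.RpushQCohGen.isQuasicoherent_Rpush_of_qcqs f F n
  have h1 := (Groth.Agent.Lib.Helper2.FlatOver.isFlatOver_iff_forall_affine b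
    ((Coh.Rpush f n).obj F)).1 hR W V hWV hW hV
  letI iS : Module Γ(S, V) Γ((Coh.Rpush f n).obj F, W) :=
    Module.compHom Γ((Coh.Rpush f n).obj F, W) (b.appLE V W hWV).hom
  haveI : Module.Flat Γ(S, V) Γ((Coh.Rpush f n).obj F, W) := h1
  letI iM := modOn f W F n
  let σ : Γ(S, V) ≃+* Γ((V : Scheme.{u}), ⊤) := V.topIso.symm.commRingCatIsoToRingEquiv
  let e : Γ((Coh.Rpush f n).obj F, W) ≃+ Coh.HHon X F (f ⁻¹ᵁ W) n :=
    (epsLin (E' := E) W hW F n).symm.toAddEquiv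
  refine Groth.Agent.Lib.Helper2.FlatOver.flat_of_semilinear_equiv σ e (fun s x => ?_)
  have h2 : e (s • x) = (b.appLE V W hWV).hom s • e x :=
    (epsLin (E' := E) W hW F n).symm.map_smul ((b.appLE V W hWV).hom s) x
  rw [h2]
  show rTopHom f W ((b.appLE V W hWV).hom s) • e x =
    Coh.toGlobal (((f ⁻¹ᵁ W : X.Opens) : Scheme.{u}) ↘
        Spec (CommRingCat.of Γ((V : Scheme.{u}), ⊤))) (σ s) • e x
  rw [toGlobal_overWV hWV]
  congr 3
  exact (congrArg (fun φ => φ.hom s) V.topIso.inv_hom_id).symm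

/-- the target of a pushout of commutative rings is generated by the two images -/
lemma mem_closure_of_isPushout {R₀ R₁ R₂ P : CommRingCat.{u}} {i₁ : R₀ ⟶ R₁} {i₂ : R₀ ⟶ R₂}
    {j₁ : R₁ ⟶ P} {j₂ : R₂ ⟶ P} (h : IsPushout i₁ i₂ j₁ j₂) (c : P) :
    c ∈ Subring.closure (Set.range j₁.hom ∪ Set.range j₂.hom) := by
  set C := Subring.closure (Set.range j₁.hom ∪ Set.range j₂.hom) with hC
  let k₁ : R₁ ⟶ CommRingCat.of C := CommRingCat.ofHom
    (j₁.hom.codRestrict C (fun x => Subring.subset_closure (Or.inl ⟨x, rfl⟩)))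
  let k₂ : R₂ ⟶ CommRingCat.of C := CommRingCat.ofHom
    (j₂.hom.codRestrict C (fun x => Subring.subset_closure (Or.inr ⟨x, rfl⟩)))
  let ι : CommRingCat.of C ⟶ P := CommRingCat.ofHom C.subtype
  have w : i₁ ≫ k₁ = i₂ ≫ k₂ := by
    ext x
    exact congrArg (fun φ => φ.hom x) h.w
  have h1 : k₁ ≫ ι = j₁ := by ext x; rfl
  have h2 : k₂ ≫ ι = j₂ := by ext x; rfl
  have hd : h.desc k₁ k₂ w ≫ ι = 𝟙 P := by
    apply h.hom_ext
    · rw [← Category.assoc, h.inl_desc, h1, Category.comp_id]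
    · rw [← Category.assoc, h.inr_desc, h2, Category.comp_id]
  have := congrArg (fun φ => φ.hom c) hd
  simp only [CommRingCat.hom_comp, RingHom.comp_apply, CommRingCat.hom_id, RingHom.id_apply] at this
  rw [← this]
  exact ((h.desc k₁ k₂ w).hom c).2

lemma appLE_of_eq {A T : Scheme.{u}} {φ ψ : A ⟶ T} (h : φ = ψ) (U : T.Opens) (U' : A.Opens)
    (e1 : U' ≤ φ ⁻¹ᵁ U) (e2 : U' ≤ ψ ⁻¹ᵁ U) : φ.appLE U U' e1 = ψ.appLE U U' e2 := by
  subst h
  rfl

open Groth.Agent.Lib.R2H2.BcUPGeo Groth.Agent.Lib.R2H2.FibRank in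
include hY hVV' hWV hW' in
/-- **the base change map is bijective on sections over `W' = gY⁻¹W ∩ b'⁻¹V'`**, for `F` flat over `S` with all
`R^n f_* F` flat over `S` -/
theorem bijective_bc_app_of_flat
    [HasInjectiveResolutions X.Modules] [HasInjectiveResolutions X'.Modules]
    {Δ : RDer.DerivedLES (pushforward f)} {Δ' : RDer.DerivedLES (pushforward f')}
    {E : SectCmp f Δ} {E' : SectCmp f' Δ'} (B : GenBC f gY f' gX hX.w E E')
    [IsSeparated f] [QuasiCompact f] (F : X.Modules) [F.IsQuasicoherent]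
    (hF : FlatMod.IsFlatOver (f ≫ b) F)
    (hR : ∀ n : ℕ, FlatMod.IsFlatOver b ((Coh.Rpush f n).obj F))
    (hV : IsAffineOpen V) (hV' : IsAffineOpen V') (hW : IsAffineOpen W) (n : ℕ) :
    Function.Bijective ((B.bc n F).app W') := by
  haveI : IsAffine (V : Scheme.{u}) := hV
  haveI : IsAffine (V' : Scheme.{u}) := hV'
  haveI : IsAffine (W : Scheme.{u}) := hW
  have hle := le1 hW'
  have hle2 := le2 hW'
  have hW'a : IsAffineOpen W' :=
    .of_isIso (Scheme.Hom.isPullback_resLE hY hVV' hWV hW').isoPullback.hom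
  haveI : IsAffine (W' : Scheme.{u}) := hW'a
  haveI : QuasiCompact f' := MorphismProperty.of_isPullback (P := @QuasiCompact) hX inferInstance
  haveI : QuasiSeparated f' :=
    MorphismProperty.of_isPullback (P := @QuasiSeparated) hX inferInstance
  haveI : ((Scheme.Modules.pullback gX).obj F).IsQuasicoherent :=
    Groth.Agent.Lib.Helper2.PullbackSec.isQuasicoherent_pullback gX F
  haveI : (F.restrict (f ⁻¹ᵁ W).ι).IsQuasicoherent :=
    Scheme.Modules.isQuasicoherent_restrictFunctor (f ⁻¹ᵁ W).ι F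
  haveI : ((Coh.Rpush f n).obj F).IsQuasicoherent :=
    Groth.Agent.Lib.R2H3.RpushQCohGen.isQuasicoherent_Rpush_of_qcqs f F n
  letI oX := overWV f b hWV
  letI oX' := overWV f' b' hle2
  letI := algW g hVV'
  have hsq := isPullback_specV hY hX hVV' hWV hW'
  haveI : IsSeparated (((f ⁻¹ᵁ W : X.Opens) : Scheme.{u}) ↘
      Spec (CommRingCat.of Γ((V : Scheme.{u}), ⊤))) :=
    inferInstanceAs (IsSeparated ((f ∣_ W ≫ b.resLE V W hWV) ≫ (V : Scheme.{u}).isoSpec.hom))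
  haveI : CompactSpace ((f ⁻¹ᵁ W : X.Opens) : Scheme.{u}) :=
    QuasiCompact.compactSpace_of_compactSpace (f ∣_ W)
  have hfl := isFlatOver_overWV hWV F hF
  have hH : ∀ p : ℕ, Module.Flat Γ((V : Scheme.{u}), ⊤)
      (Coh.HH ((f ⁻¹ᵁ W : X.Opens) : Scheme.{u}) (F.restrict (f ⁻¹ᵁ W).ι) p) :=
    fun p => flat_HH_overWV hWV E F hW p (hR p)
  -- step 1: the pullback along the restricted morphism
  have h1 := up_pullMod_of_flat (gX.resLE (f ⁻¹ᵁ W) (f' ⁻¹ᵁ W') (preimage_le hX hle)) hsq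
    (F.restrict (f ⁻¹ᵁ W).ι) hfl hH n
  -- step 2: `pullOn`
  have h2 : UP (algebraMap Γ((V : Scheme.{u}), ⊤) Γ((V' : Scheme.{u}), ⊤))
      (CohPull.pullOn gX (f ⁻¹ᵁ W) (f' ⁻¹ᵁ W') (preimage_le hX hle) F n) :=
    h1.comp_bijective
      (HHLinEquiv (B := Γ((V' : Scheme.{u}), ⊤))
        (CohPull.pullOnIso gX (f ⁻¹ᵁ W) (f' ⁻¹ᵁ W') (preimage_le hX hle) F) n).toLinearMap
      (LinearEquiv.bijective _) _ (fun x => rfl)
  -- step 3: sections of the higher direct images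
  let βr : Γ((V : Scheme.{u}), ⊤) →+* Γ(Y, W) := (b.appLE V W hWV).hom.comp V.topIso.hom.hom
  let βr' : Γ((V' : Scheme.{u}), ⊤) →+* Γ(Y', W') :=
    (b'.appLE V' W' hle2).hom.comp V'.topIso.hom.hom
  letI mN : Module Γ((V : Scheme.{u}), ⊤) Γ((Coh.Rpush f n).obj F, W) := Module.compHom _ βr
  letI mN' : Module Γ((V' : Scheme.{u}), ⊤)
      Γ((Coh.Rpush f' n).obj ((Scheme.Modules.pullback gX).obj F), W') := Module.compHom _ βr'
  letI iM := modOn f W F n
  letI iM' := modOn f' W' ((Scheme.Modules.pullback gX).obj F) n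
  let e : Γ((Coh.Rpush f n).obj F, W) ≃+ Coh.HHon X F (f ⁻¹ᵁ W) n :=
    (epsLin (E' := E) W hW F n).symm.toAddEquiv
  have he : ∀ (r : Γ((V : Scheme.{u}), ⊤)) (x : Γ((Coh.Rpush f n).obj F, W)),
      e (r • x) = r • e x := by
    intro r x
    have h0 : e (r • x) = βr r • e x := (epsLin (E' := E) W hW F n).symm.map_smul (βr r) x
    rw [h0]
    show rTopHom f W (βr r) • e x = Coh.toGlobal (((f ⁻¹ᵁ W : X.Opens) : Scheme.{u}) ↘
        Spec (CommRingCat.of Γ((V : Scheme.{u}), ⊤))) r • e x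
    rw [toGlobal_overWV hWV]
    rfl
  have h3 := h2.precomp e he ((CohPull.pullOn gX (f ⁻¹ᵁ W) (f' ⁻¹ᵁ W') (preimage_le hX hle) F n).comp
    e.toAddMonoidHom) (fun _ => rfl)
  let β₁ : Coh.HHon X' ((Scheme.Modules.pullback gX).obj F) (f' ⁻¹ᵁ W') n →ₗ[Γ((V' : Scheme.{u}), ⊤)]
      Γ((Coh.Rpush f' n).obj ((Scheme.Modules.pullback gX).obj F), W') :=
    { toFun := fun x => E'.ε W' ((Scheme.Modules.pullback gX).obj F) n x
      map_add' := fun x y => map_add _ x y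
      map_smul' := fun r' x => by
        have h0 : (Coh.toGlobal (((f' ⁻¹ᵁ W' : X'.Opens) : Scheme.{u}) ↘
            Spec (CommRingCat.of Γ((V' : Scheme.{u}), ⊤))) r') = rTopHom f' W' (βr' r') :=
          toGlobal_overWV hle2 r'
        show E'.ε W' _ n (Coh.toGlobal (((f' ⁻¹ᵁ W' : X'.Opens) : Scheme.{u}) ↘
            Spec (CommRingCat.of Γ((V' : Scheme.{u}), ⊤))) r' • x) = βr' r' • E'.ε W' _ n x
        rw [h0]
        exact (epsLin (E' := E') W' hW'a ((Scheme.Modules.pullback gX).obj F) n).map_smul (βr' r') x }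
  have h4 : UP (algebraMap Γ((V : Scheme.{u}), ⊤) Γ((V' : Scheme.{u}), ⊤))
      (φres gY (B.φ n F) hle) := by
    refine h3.comp_bijective β₁
      (eps_bijective f' E' W' hW'a ((Scheme.Modules.pullback gX).obj F) n) _ (fun x => ?_)
    have hx : E.ε W F n (e x) = x := (epsLin (E' := E) W hW F n).apply_symm_apply x
    have := Groth.Agent.Lib.R2H2.BcGen.φres_eps B F n hle (e x)
    rw [hx] at this
    exact this
  -- step 4: change of rings
  have hcomm : ∀ r : Γ((V : Scheme.{u}), ⊤), (gY.appLE W W' hle).hom (βr r) =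
      βr' (algebraMap Γ((V : Scheme.{u}), ⊤) Γ((V' : Scheme.{u}), ⊤) r) := by
    intro r
    have t1 : (g.resLE V V' hVV').appTop ≫ V'.topIso.hom = V.topIso.hom ≫ g.appLE V V' hVV' := by
      have h := Groth.Agent.Lib.R2H2.BcBij.topIso_inv_resLE_appTop g hVV'
      rw [← cancel_epi V.topIso.inv, ← Category.assoc, h, Category.assoc, Iso.inv_hom_id,
        Category.comp_id, Iso.inv_hom_id_assoc]
    have t2 : V'.topIso.hom.hom (algebraMap Γ((V : Scheme.{u}), ⊤) Γ((V' : Scheme.{u}), ⊤) r) =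
        (g.appLE V V' hVV').hom (V.topIso.hom.hom r) := congrArg (fun φ => φ.hom r) t1
    show (gY.appLE W W' hle).hom ((b.appLE V W hWV).hom (V.topIso.hom.hom r)) =
      (b'.appLE V' W' hle2).hom (V'.topIso.hom.hom
        (algebraMap Γ((V : Scheme.{u}), ⊤) Γ((V' : Scheme.{u}), ⊤) r))
    rw [t2]
    have t3 := congrArg (fun φ => φ.hom (V.topIso.hom.hom r))
      (Scheme.Hom.appLE_comp_appLE gY b V W W' hWV hle)
    have t4 := congrArg (fun φ => φ.hom (V.topIso.hom.hom r))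
      (Scheme.Hom.appLE_comp_appLE b' g V V' W' hVV' hle2)
    simp only [CommRingCat.hom_comp, RingHom.comp_apply] at t3 t4
    rw [t3, t4]
    exact congrArg (fun φ => φ.hom (V.topIso.hom.hom r)) (appLE_of_eq hY.w V W' _ _)
  have hpo : IsPushout (b.appLE V W hWV) (g.appLE V V' hVV') (gY.appLE W W' hle)
      (b'.appLE V' W' hle2) := by
    haveI := isIso_pushoutSection_of_isAffineOpen hY hVV' hWV hW' hV hV' hW
    exact (isIso_pushoutSection_iff hY hVV' hWV hW').1 inferInstance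
  have hgen : ∀ c' : Γ(Y', W'), c' ∈ Subring.closure (Set.range βr' ∪ Set.range (gY.appLE W W' hle).hom) := by
    intro c'
    have h0 := mem_closure_of_isPushout hpo c'
    have hr : Set.range βr' = Set.range (b'.appLE V' W' hle2).hom := by
      ext y
      constructor
      · rintro ⟨r', rfl⟩
        exact ⟨V'.topIso.hom.hom r', rfl⟩
      · rintro ⟨s, rfl⟩
        refine ⟨V'.topIso.inv.hom s, ?_⟩
        show (b'.appLE V' W' hle2).hom (V'.topIso.hom.hom (V'.topIso.inv.hom s)) = _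
        congr 1
        exact congrArg (fun φ => φ.hom s) V'.topIso.inv_hom_id
    rw [hr, Set.union_comm]
    exact h0
  have h5 : UP (gY.appLE W W' hle).hom (φres gY (B.φ n F) hle) :=
    h4.change_rings βr βr' hcomm (fun _ _ => rfl) (fun _ _ => rfl) hgen
      (φres_smul gY (B.φ n F) hle)
  exact bijective_tr_app_of_up gY (B.φ n F) hW hW'a hle h5

end Geo

end Groth.Agent.Lib.R2H2.BcUPMain
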