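import Mathlib

/-!
# A binomial recursion (helper2, round 2)

* `binom_identity` : `∑_{k=0}^{n+1} (-1)^k C(n+1,k) C(y+k, n) = 0`;
* `eq_zero_of_koszul_rec` : if `u : ℤ → K` satisfies the Koszul recursion
  `∑_{i=0}^{n+1} (-1)^i C(n+1,i) u(a+i) = 0` and `u(m) = C(n+m, m)` for `m ≥ 0`, then `u(-j) = 0`
  for `1 ≤ j ≤ n`.
-/

set_option autoImplicit false

namespace Groth.Agent.Lib.R2H2.BinomRec

/-- the binomial identity `∑ (-1)^k C(n+1,k) C(y+k, n) = 0` -/
theorem binom_identity (n y : ℕ) :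
    ∑ k ∈ Finset.range (n + 1 + 1),
      (-1 : ℤ) ^ k * ((Nat.choose (n + 1) k : ℤ) * (Nat.choose (y + k) n : ℤ)) = 0 := by
  have h1 : (fwdDiff (1 : ℕ))^[n + 1] (fun x : ℕ => (x.choose n : ℤ)) = fun _ => 0 := by
    rw [Function.iterate_succ_apply']
    have h2 := fwdDiff_iter_choose 0 n
    rw [Nat.add_zero] at h2
    rw [h2]
    simp only [Nat.choose_zero_right, Nat.cast_one]
    exact fwdDiff_const 1 (1 : ℤ)
  have h3 := fwdDiff_iter_eq_sum_shift (1 : ℕ) (fun x : ℕ => (x.choose n : ℤ)) (n + 1) y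
  rw [h1] at h3
  have h4 : ∑ k ∈ Finset.range (n + 1 + 1),
      (-1 : ℤ) ^ k * ((Nat.choose (n + 1) k : ℤ) * (Nat.choose (y + k) n : ℤ)) =
      (-1 : ℤ) ^ (n + 1) * ∑ k ∈ Finset.range (n + 1 + 1),
        ((-1 : ℤ) ^ (n + 1 - k) * (Nat.choose (n + 1) k : ℤ)) • ((y + k • 1).choose n : ℤ) := by
    rw [Finset.mul_sum]
    refine Finset.sum_congr rfl (fun k hk => ?_)
    have hk' : k ≤ n + 1 := Nat.lt_succ_iff.mp (Finset.mem_range.mp hk)
    have h5 : (-1 : ℤ) ^ k = (-1 : ℤ) ^ (n + 1) * (-1 : ℤ) ^ (n + 1 - k) := by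
      rw [← pow_add]
      have : n + 1 + (n + 1 - k) = 2 * (n + 1 - k) + k := by omega
      rw [this, pow_add, pow_mul]
      simp
    rw [h5, smul_eq_mul, smul_eq_mul, mul_one]
    ring
  rw [h4, ← h3, mul_zero]

theorem eq_zero_of_koszul_rec (n : ℕ) {K : Type*} [CommRing K] (u : ℤ → K)
    (hu_nat : ∀ m : ℕ, u (m : ℤ) = (Nat.choose (n + m) m : K))
    (hrel : ∀ a : ℤ, ∑ i ∈ Finset.range (n + 1 + 1),
      (-1 : ℤ) ^ i • ((Nat.choose (n + 1) i) • u (a + i)) = 0)
    (j : ℕ) (hj : 1 ≤ j) (hjn : j ≤ n) : u (-(j : ℤ)) = 0 := by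
  induction j using Nat.strong_induction_on with
  | _ j ih =>
    have hval : ∀ i ∈ Finset.range (n + 1 + 1), i ≠ 0 →
        u (-(j : ℤ) + i) = ((Nat.choose (n - j + i) n : ℤ) : K) := by
      intro i hi hi0
      by_cases hij : i < j
      · have h1 : -(j : ℤ) + i = -((j - i : ℕ) : ℤ) := by
          rw [Nat.cast_sub hij.le]
          ring
        rw [h1, ih (j - i) (by omega) (by omega) (by omega),
          Nat.choose_eq_zero_of_lt (by omega)]
        simp
      · have h1 : -(j : ℤ) + i = ((i - j : ℕ) : ℤ) := by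
          rw [Nat.cast_sub (not_lt.mp hij)]
          ring
        have h2 : n - j + i = n + (i - j) := by omega
        rw [h1, hu_nat, h2, Nat.choose_symm_add]
        simp
    have hR := hrel (-(j : ℤ))
    have hB := binom_identity n (n - j)
    have hB' : ∑ k ∈ Finset.range (n + 1 + 1),
        (-1 : ℤ) ^ k • ((Nat.choose (n + 1) k) • (((Nat.choose (n - j + k) n : ℤ) : K))) = 0 := by
      have h3 := congrArg (fun z : ℤ => (z : K)) hB
      simp only [Int.cast_sum, Int.cast_mul, Int.cast_pow, Int.cast_neg, Int.cast_one,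
        Int.cast_zero] at h3
      rw [← h3]
      refine Finset.sum_congr rfl (fun k _ => ?_)
      rw [zsmul_eq_mul, nsmul_eq_mul]
      push_cast
      ring
    have hdiff : ∑ i ∈ Finset.range (n + 1 + 1), (-1 : ℤ) ^ i • ((Nat.choose (n + 1) i) •
        (u (-(j : ℤ) + i) - ((Nat.choose (n - j + i) n : ℤ) : K))) = 0 := by
      simp only [smul_sub, Finset.sum_sub_distrib]
      rw [hR, hB', sub_zero]
    rw [Finset.sum_eq_single 0] at hdiff
    · have h0 : Nat.choose (n - j) n = 0 := Nat.choose_eq_zero_of_lt (by omega)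
      simp only [pow_zero, Nat.choose_zero_right, one_smul, Nat.cast_zero, add_zero, h0,
        Int.cast_zero, sub_zero] at hdiff
      exact hdiff
    · intro i hi hi0
      rw [hval i hi hi0, sub_self, smul_zero, smul_zero]
    · intro h
      exact absurd (Finset.mem_range.mpr (by omega)) h

end Groth.Agent.Lib.R2H2.BinomRec
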