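import Groth.Prelude.Def_CohTop
import Groth.Agent.Lib.R2H2CechCmp

/-!
# Čech complexes and the coarse topology generated by a family of opens (helper2, round 2)

Namespace `Groth.Agent.Lib.R2H2.CechCoarse`.  For a family `U` of opens of `X` with union `W`:
* `Y U` : the set `W` with the topology generated by the `U i`; `ρ U : W ⟶ Y U`; `Q_of_isOpen` (its opens are
  unions of nonempty finite intersections of the `U i`), `cat`, `forall_cat`.
* `F' U F` : the direct image of `F|_W` on `Y U`; `K`, `exists_K_eq`, `isFlasque` (S0901's hypothesis makes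
  it flasque), `U'`, `K_Ux`, `cechIso'` (same Čech complex).
-/

set_option backward.isDefEq.respectTransparency.types false
set_option autoImplicit false
set_option linter.unusedSectionVars false
universe u

namespace Groth.Agent.Lib.R2H2.CechCoarse

section PartA


open CategoryTheory CategoryTheory.Limits TopologicalSpace Opposite
open Groth.Agent.Lib.Helper16.CechLow

variable {X : TopCat.{u}} {ι : Type u} (U : ι → Opens X)

/-- the union of the family -/
abbrev W : Opens X := iSup U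

/-- the carrier of the coarse space -/
def Yc : Type u := ↥(W U)

/-- the inclusion into `X` -/
def incl : Yc U → X := fun y => (show ↥(W U) from y).1

instance : TopologicalSpace (Yc U) :=
  TopologicalSpace.generateFrom {s | ∃ i, s = incl U ⁻¹' (U i : Set X)}

/-- the union with the topology generated by the family -/
def Y : TopCat.{u} := TopCat.of (Yc U)

/-- the identity, from the subspace topology to the coarse topology -/
def ρ : TopCat.of ↥(W U) ⟶ Y U :=
  TopCat.ofHom ⟨fun x => x, continuous_generateFrom_iff.2 (by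
    rintro s ⟨i, rfl⟩
    exact (U i).isOpen.preimage continuous_subtype_val)⟩

/-- concatenation of tuples -/
def cat {p q : ℕ} (c : Fin (p + 1) → ι) (c' : Fin (q + 1) → ι) : Fin (p + q + 1 + 1) → ι :=
  fun j => Fin.append c c' (Fin.cast (by omega) j)

lemma forall_cat {p q : ℕ} (c : Fin (p + 1) → ι) (c' : Fin (q + 1) → ι) (P : ι → Prop) :
    (∀ j, P (cat c c' j)) ↔ (∀ j, P (c j)) ∧ (∀ j, P (c' j)) := by
  constructor
  · intro h
    constructor
    · intro j
      have := h (Fin.cast (by omega) (Fin.castAdd (q + 1) j))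
      simpa [cat] using this
    · intro j
      have := h (Fin.cast (by omega) (Fin.natAdd (p + 1) j))
      simpa [cat] using this
  · rintro ⟨h1, h2⟩ j
    unfold cat
    generalize Fin.cast _ j = j'
    refine Fin.addCases (fun a => ?_) (fun b => ?_) j'
    · rw [Fin.append_left]; exact h1 a
    · rw [Fin.append_right]; exact h2 b

/-- unions of finite intersections -/
def Q (s : Set (Yc U)) : Prop :=
  ∃ (κ : Type u) (a : κ → Σ p : ℕ, Fin (p + 1) → ι),
    s = ⋃ k, ⋂ j, incl U ⁻¹' (U ((a k).2 j) : Set X)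

lemma Q_of_isOpen (s : Set (Yc U)) (hs : IsOpen s) : Q U s := by
  change TopologicalSpace.GenerateOpen _ s at hs
  induction hs with
  | basic s hs =>
    obtain ⟨i, rfl⟩ := hs
    refine ⟨PUnit, fun _ => ⟨0, fun _ => i⟩, ?_⟩
    ext y
    simp
  | univ =>
    refine ⟨ι, fun i => ⟨0, fun _ => i⟩, ?_⟩
    ext y
    simp only [Set.mem_univ, Set.mem_iUnion, Set.mem_iInter, Set.mem_preimage, true_iff]
    obtain ⟨i, hi⟩ := Opens.mem_iSup.1 (show ↥(W U) from y).2
    exact ⟨i, fun _ => hi⟩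
  | inter s t _ _ hs ht =>
    obtain ⟨κ, a, rfl⟩ := hs
    obtain ⟨κ', a', rfl⟩ := ht
    refine ⟨κ × κ', fun kl => ⟨(a kl.1).1 + (a' kl.2).1 + 1, cat (a kl.1).2 (a' kl.2).2⟩, ?_⟩
    ext y
    simp only [Set.mem_inter_iff, Set.mem_iUnion, Set.mem_iInter, Set.mem_preimage]
    constructor
    · rintro ⟨⟨k, hk⟩, ⟨l, hl⟩⟩
      exact ⟨(k, l), (forall_cat _ _ (fun i => incl U y ∈ (U i : Set X))).2 ⟨hk, hl⟩⟩
    · rintro ⟨⟨k, l⟩, hkl⟩
      have := (forall_cat _ _ (fun i => incl U y ∈ (U i : Set X))).1 hkl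
      exact ⟨⟨k, this.1⟩, ⟨l, this.2⟩⟩
  | sUnion S _ ih =>
    choose κ a ha using ih
    refine ⟨Σ s : S, κ s.1 s.2, fun sk => a sk.1.1 sk.1.2 sk.2, ?_⟩
    ext y
    simp only [Set.mem_sUnion, Set.mem_iUnion, Set.mem_iInter, Set.mem_preimage]
    constructor
    · rintro ⟨t, ht, hy⟩
      rw [ha t ht] at hy
      simp only [Set.mem_iUnion, Set.mem_iInter, Set.mem_preimage] at hy
      obtain ⟨k, hk⟩ := hy
      exact ⟨⟨⟨t, ht⟩, k⟩, hk⟩
    · rintro ⟨⟨⟨t, ht⟩, k⟩, hk⟩
      refine ⟨t, ht, ?_⟩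
      rw [ha t ht]
      simp only [Set.mem_iUnion, Set.mem_iInter, Set.mem_preimage]
      exact ⟨k, hk⟩


end PartA

section PartB


open CategoryTheory CategoryTheory.Limits TopologicalSpace Opposite
open Groth.Agent.Lib.Helper16.CechLow

variable {X : TopCat.{u}} {ι : Type u} (U : ι → Opens X) (F : CohTop.Ab X)

/-- the coarse sheaf -/
noncomputable def F' : CohTop.Ab (Y U) := (CohTop.push (ρ U)).obj (CohTop.restr F (W U))

/-- the image in `X` of an open of the coarse space -/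
noncomputable def K (V : Opens (Y U)) : Opens X :=
  (W U).isOpenEmbedding.isOpenMap.functor.obj ((Opens.map (ρ U)).obj V)

lemma coe_K (V : Opens (Y U)) : (K U V : Set X) = incl U '' V.1 := rfl

lemma K_mono {V V' : Opens (Y U)} (h : V' ≤ V) : K U V' ≤ K U V := by
  intro x hx
  obtain ⟨y, hy, rfl⟩ := hx
  exact ⟨y, h hy, rfl⟩

lemma F'_obj (V : Opens (Y U)) : (F' U F).obj.obj (op V) = F.obj.obj (op (K U V)) := rfl

lemma F'_map {V V' : Opens (Y U)} (h : V' ≤ V) :
    (F' U F).obj.map (homOfLE h).op = F.obj.map (homOfLE (K_mono U h)).op := rfl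

lemma K_le_W (V : Opens (Y U)) : K U V ≤ W U := by
  intro x hx
  obtain ⟨y, _, rfl⟩ := hx
  exact (show ↥(W U) from y).2

lemma exists_K_eq (V : Opens (Y U)) :
    ∃ (κ : Type u) (a : κ → Σ p : ℕ, Fin (p + 1) → ι), K U V = ⨆ k, ⨅ j, U ((a k).2 j) := by
  obtain ⟨κ, a, ha⟩ := Q_of_isOpen U V.1 V.2
  refine ⟨κ, a, Opens.ext ?_⟩
  rw [coe_K, ha, Opens.coe_iSup]
  ext x
  simp only [Set.mem_image, Set.mem_iUnion, Set.mem_iInter, Set.mem_preimage, Opens.coe_iInf,
    SetLike.mem_coe]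
  constructor
  · rintro ⟨y, ⟨k, hk⟩, rfl⟩
    exact ⟨k, hk⟩
  · rintro ⟨k, hk⟩
    have hx : x ∈ W U := Opens.mem_iSup.2 ⟨_, hk ⟨0, Nat.succ_pos _⟩⟩
    exact ⟨(⟨x, hx⟩ : ↥(W U)), ⟨k, hk⟩, rfl⟩

theorem isFlasque
    (h : ∀ (κ : Type u) (a : κ → Σ p : ℕ, Fin (p + 1) → ι)
      (hle : (⨆ k, ⨅ j, U ((a k).2 j)) ≤ iSup U),
      Function.Surjective (F.obj.map (homOfLE hle).op)) :
    TopCat.Sheaf.IsFlasque (F' U F) := by
  have key : ∀ (A : Opens X) (hle : A ≤ iSup U), (∃ (κ : Type u)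
      (a : κ → Σ p : ℕ, Fin (p + 1) → ι), A = ⨆ k, ⨅ j, U ((a k).2 j)) →
      Function.Surjective (F.obj.map (homOfLE hle).op) := by
    rintro A hle ⟨κ, a, rfl⟩
    exact h κ a hle
  constructor
  intro A B i
  obtain ⟨V⟩ := A
  obtain ⟨V'⟩ := B
  have hi : i = (homOfLE (leOfHom i.unop)).op := rfl
  rw [hi, F'_map, AddCommGrpCat.epi_iff_surjective]
  intro t
  obtain ⟨s, hs⟩ := key (K U V') (K_le_W U V') (exists_K_eq U V') t
  refine ⟨F.obj.map (homOfLE (K_le_W U V)).op s, ?_⟩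
  have e : F.obj.map (homOfLE (K_le_W U V)).op ≫
      F.obj.map (homOfLE (K_mono U (leOfHom i.unop))).op =
      F.obj.map (homOfLE (K_le_W U V')).op := by
    rw [← F.obj.map_comp]
    rfl
  exact (ConcreteCategory.congr_hom e s).trans hs

/-- the family in the coarse space -/
def U' (i : ι) : Opens (Y U) :=
  ⟨incl U ⁻¹' (U i : Set X), TopologicalSpace.isOpen_generateFrom_of_mem ⟨i, rfl⟩⟩

lemma le_Ux' {Z : TopCat.{u}} (T : ι → Opens Z) {n : ℕ} (y : Fin (n + 1) → ι) (A : Opens Z)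
    (h : ∀ a, A ≤ T (y a)) : A ≤ Ux T y :=
  (Pi.lift (fun a => homOfLE (h a)) : A ⟶ ∏ᶜ (T ∘ y)).le

lemma Ux_le' {Z : TopCat.{u}} (T : ι → Opens Z) {n : ℕ} (y : Fin (n + 1) → ι) (a : Fin (n + 1)) :
    Ux T y ≤ T (y a) :=
  (Pi.π (T ∘ y) a).le

lemma K_Ux {n : ℕ} (x : Fin (n + 1) → ι) : K U (Ux (U' U) x) = Ux U x := by
  apply le_antisymm
  · refine le_Ux' U x _ fun a => ?_
    rintro z ⟨y, hy, rfl⟩
    exact Ux_le' (U' U) x a hy
  · intro z hz
    have hzW : z ∈ W U := Opens.mem_iSup.2 ⟨_, Ux_le' U x 0 hz⟩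
    refine ⟨(⟨z, hzW⟩ : ↥(W U)), ?_, rfl⟩
    have h1 : (⨅ a, U' U (x a)) ≤ Ux (U' U) x := le_Ux' (U' U) x _ fun a => iInf_le _ a
    apply h1
    change _ ∈ ((⨅ a, U' U (x a) : Opens (Y U)) : Set (Y U))
    rw [Opens.coe_iInf]
    simp only [Set.mem_iInter]
    intro a
    exact Ux_le' U x a hz

/-- the comparison of Čech complexes -/
noncomputable def cechIso' :
    CK U F.obj ≅ CK (U' U) (F' U F).obj :=
  Groth.Agent.Lib.R2H2.CechCmp.cechIso U (U' U) F.obj (F' U F).obj
    (fun n x => F.obj.mapIso (eqToIso (congrArg op (K_Ux U x).symm)))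
    (by
      intro n x i
      change F.obj.map _ ≫ F.obj.map _ = F.obj.map _ ≫ F.obj.map _
      rw [← F.obj.map_comp, ← F.obj.map_comp]
      exact congrArg _ (Subsingleton.elim _ _))


end PartB

end Groth.Agent.Lib.R2H2.CechCoarse
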