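import Groth.Agent.Lib.R2H2CechKoszul
import Groth.Agent.Lib.R2H2KoszulGeom

/-!
# Čech cohomology of basic opens is direct-limit Koszul cohomology (helper2, round 2)

For a quasi-compact quasi-separated scheme `X`, global functions `f_1, …, f_r` and a quasi-coherent
module `F`, the (full) Čech complex of `F` with respect to the family `X_{f_i}` is isomorphic to the
algebraic Čech complex of the localization presheaf of `M = Γ(X, F)`; hence its cohomology in
degree `p ≥ 1` is `CohIII.koszulHLim fs M (p + 1)` (`cech_basicOpens_koszul`).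
-/

set_option autoImplicit false
universe u

namespace Groth.Agent.Lib.R2H2.CechKoszulGeom

open CategoryTheory CategoryTheory.Limits AlgebraicGeometry TopologicalSpace Opposite
open Groth.Agent.Lib.Helper6 Groth.Agent.Lib.Helper16.CechLow Groth.Agent.Lib.R2H2.LocPsh
  Groth.Agent.Lib.R2H2.CechCmp

variable {X : Scheme.{u}} (F : X.Modules)

section SecOn

/-- sections over an open, as a module over the global functions -/
def SecOn (W : X.Opens) : Type u := Γ(F, W)

noncomputable instance (W : X.Opens) : AddCommGroup (SecOn F W) :=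
  inferInstanceAs (AddCommGroup Γ(F, W))

noncomputable instance (W : X.Opens) : Module Γ(X, ⊤) (SecOn F W) :=
  Module.compHom Γ(F, W) (X.presheaf.map (homOfLE (le_top : W ≤ ⊤)).op).hom

variable {F}

/-- the underlying section -/
def SecOn.val {W : X.Opens} (s : SecOn F W) : Γ(F, W) := s

/-- a section as an element of the module -/
def SecOn.mk {W : X.Opens} (s : Γ(F, W)) : SecOn F W := s

lemma SecOn.smul_val {W : X.Opens} (a : Γ(X, ⊤)) (s : SecOn F W) :
    (a • s).val = resf (le_top : W ≤ ⊤) a • s.val := rfl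

lemma SecOn.ext {W : X.Opens} {s t : SecOn F W} (h : s.val = t.val) : s = t := h

variable (F)

/-- the restriction map from global sections, as a linear map -/
noncomputable def resLin (W : X.Opens) : (F.val.obj (op ⊤)) →ₗ[Γ(X, ⊤)] SecOn F W where
  toFun s := SecOn.mk (res F (le_top : W ≤ ⊤) s)
  map_add' s t := map_add (F.presheaf.map (homOfLE (le_top : W ≤ ⊤)).op).hom s t
  map_smul' a s := res_smul F (le_top : W ≤ ⊤) a s

lemma resLin_val (W : X.Opens) (m : F.val.obj (op ⊤)) :
    (resLin F W m).val = res F (le_top : W ≤ ⊤) m := rfl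

/-- the restriction maps between opens, as linear maps -/
noncomputable def resWW {W W' : X.Opens} (h : W ≤ W') : SecOn F W' →ₗ[Γ(X, ⊤)] SecOn F W where
  toFun s := SecOn.mk (res F h s.val)
  map_add' s t := map_add (F.presheaf.map (homOfLE h).op).hom s.val t.val
  map_smul' a s := by
    apply SecOn.ext
    change res F h (resf (le_top : W' ≤ ⊤) a • s.val) = resf (le_top : W ≤ ⊤) a • res F h s.val
    rw [res_smul, resf_resf]

lemma resWW_val {W W' : X.Opens} (h : W ≤ W') (s : SecOn F W') :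
    (resWW F h s).val = res F h s.val := rfl

lemma resWW_resLin {W W' : X.Opens} (h : W ≤ W') (m : F.val.obj (op ⊤)) :
    resWW F h (resLin F W' m) = resLin F W m := by
  apply SecOn.ext
  rw [resWW_val, resLin_val, resLin_val, res_res]

/-- the global functions which are invertible on `W` -/
def unitSub (W : X.Opens) : Submonoid Γ(X, ⊤) :=
  (IsUnit.submonoid Γ(X, W)).comap (X.presheaf.map (homOfLE (le_top : W ≤ ⊤)).op).hom

lemma mem_unitSub (W : X.Opens) (a : Γ(X, ⊤)) :
    a ∈ unitSub W ↔ IsUnit (resf (le_top : W ≤ ⊤) a) := Iff.rfl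

lemma mem_unitSub_of_le (W : X.Opens) (f : Γ(X, ⊤)) (hW : W ≤ X.basicOpen f) : f ∈ unitSub W := by
  rw [mem_unitSub]
  have h1 : IsUnit (resf (X.basicOpen_le f) f) := X.toRingedSpace.isUnit_res_basicOpen f
  have h2 := h1.map (X.presheaf.map (homOfLE hW).op).hom
  have h3 : (X.presheaf.map (homOfLE hW).op).hom (resf (X.basicOpen_le f) f) =
      resf (le_top : W ≤ ⊤) f := resf_resf (X.basicOpen_le f) hW f
  rw [h3] at h2
  exact h2

lemma smul_bijective_of_mem_unitSub (W : X.Opens) (a : Γ(X, ⊤)) (ha : a ∈ unitSub W) :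
    Function.Bijective (fun y : SecOn F W => a • y) := by
  rw [mem_unitSub] at ha
  constructor
  · intro y y' h
    have h' : resf (le_top : W ≤ ⊤) a • y.val = resf (le_top : W ≤ ⊤) a • y'.val := h
    exact SecOn.ext ((ha.smul_left_cancel).mp h')
  · intro y
    obtain ⟨b, hb⟩ := ha.exists_right_inv
    refine ⟨SecOn.mk (b • y.val), ?_⟩
    apply SecOn.ext
    change resf (le_top : W ≤ ⊤) a • (b • y.val) = y.val
    rw [smul_smul, hb, one_smul]

end SecOn

section Loc

variable (fs : List Γ(X, ⊤))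

/-- the family of basic opens -/
abbrev Ugeom : Idx fs → X.Opens := fun i => X.basicOpen (fs.get i.down)

/-- the product of the functions attached to a tuple of indices -/
noncomputable def gx {n : ℕ} (x : Fin (n + 1) → Idx fs) : Γ(X, ⊤) := ∏ k, fs.get (x k).down

lemma gx_mem_SS {n : ℕ} (x : Fin (n + 1) → Idx fs) : gx fs x ∈ SS fs x :=
  prod_mem (fun k _ => get_mem_SS fs x k)

lemma Wx_le {n : ℕ} (x : Fin (n + 1) → Idx fs) (k : Fin (n + 1)) :
    Ux (Ugeom fs) x ≤ X.basicOpen (fs.get (x k).down) := leOfHom (Pi.π (Ugeom fs ∘ x) k)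

lemma le_Wx {n : ℕ} (x : Fin (n + 1) → Idx fs) (V : X.Opens)
    (h : ∀ k, V ≤ X.basicOpen (fs.get (x k).down)) : V ≤ Ux (Ugeom fs) x :=
  leOfHom (Pi.lift (fun k => homOfLE (h k)))

lemma mem_basicOpen_prod {κ : Type*} [Fintype κ] (f : κ → Γ(X, ⊤)) (p : X) :
    p ∈ X.basicOpen (∏ k, f k) ↔ ∀ k, p ∈ X.basicOpen (f k) := by
  simp only [Scheme.mem_basicOpen_top]
  rw [map_prod]
  exact IsUnit.prod_univ_iff

lemma basicOpen_gx {n : ℕ} (x : Fin (n + 1) → Idx fs) :
    X.basicOpen (gx fs x) = Ux (Ugeom fs) x := by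
  apply le_antisymm
  · apply le_Wx
    intro k p hp
    exact (mem_basicOpen_prod _ p).mp hp k
  · intro p hp
    exact (mem_basicOpen_prod _ p).mpr (fun k => Wx_le fs x k hp)

lemma SS_le_unitSub {n : ℕ} (x : Fin (n + 1) → Idx fs) :
    SS fs x ≤ unitSub (Ux (Ugeom fs) x) :=
  SS_le fs x _ (fun k => mem_unitSub_of_le _ _ (Wx_le fs x k))

theorem exists_ext_on [CompactSpace X] [QuasiSeparatedSpace X] [F.IsQuasicoherent] (g : Γ(X, ⊤))
    (W : X.Opens) (hW : X.basicOpen g = W) (t : Γ(F, W)) :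
    ∃ (k : ℕ) (m : Γ(F, ⊤)), res F (le_top : W ≤ ⊤) m = (resf (le_top : W ≤ ⊤) g) ^ k • t := by
  subst hW
  obtain ⟨k, -, m, hm⟩ := exists_extension_top_of_qcqs X g F t
  exact ⟨k, m, hm⟩

theorem exists_pow_smul_eq_zero_on [CompactSpace X] [F.IsQuasicoherent] (g : Γ(X, ⊤))
    (W : X.Opens) (hW : X.basicOpen g = W) (m : Γ(F, ⊤))
    (h : res F (le_top : W ≤ ⊤) m = 0) : ∃ k : ℕ, g ^ k • m = 0 := by
  subst hW
  obtain ⟨k, -, hk⟩ := exists_pow_smul_eq_zero_top_of_compactSpace X g F m h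
  exact ⟨k, hk⟩

theorem isLocalizedModule_resLin [CompactSpace X] [QuasiSeparatedSpace X] [F.IsQuasicoherent]
    {n : ℕ} (x : Fin (n + 1) → Idx fs) :
    IsLocalizedModule (SS fs x) (resLin F (Ux (Ugeom fs) x)) where
  map_units s := by
    rw [Module.End.isUnit_iff]
    exact smul_bijective_of_mem_unitSub F _ s.1 (SS_le_unitSub fs x s.2)
  surj y := by
    obtain ⟨k, m, hm⟩ := exists_ext_on F (gx fs x) _ (basicOpen_gx fs x) y.val
    refine ⟨((m : F.val.obj (op ⊤)), ⟨gx fs x ^ k, pow_mem (gx_mem_SS fs x) k⟩), ?_⟩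
    apply SecOn.ext
    change resf (le_top : Ux (Ugeom fs) x ≤ ⊤) (gx fs x ^ k) • y.val = res F _ m
    rw [resf_pow, hm]
  exists_of_eq {m₁ m₂} h := by
    let m₁' : Γ(F, ⊤) := m₁
    let m₂' : Γ(F, ⊤) := m₂
    have h0 : res F (le_top : Ux (Ugeom fs) x ≤ ⊤) (m₁' - m₂') = 0 := by
      rw [res_sub, sub_eq_zero]
      exact h
    obtain ⟨k, hk⟩ := exists_pow_smul_eq_zero_on F (gx fs x) _ (basicOpen_gx fs x) _ h0
    refine ⟨⟨gx fs x ^ k, pow_mem (gx_mem_SS fs x) k⟩, ?_⟩
    rw [smul_sub, sub_eq_zero] at hk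
    exact hk

end Loc


section Main

variable (fs : List Γ(X, ⊤)) [CompactSpace X] [QuasiSeparatedSpace X] [F.IsQuasicoherent]

/-- the identification of the localization with the sections over the intersection -/
noncomputable def locIso {n : ℕ} (x : Fin (n + 1) → Idx fs) :
    LocalizedModule (SS fs x) (F.val.obj (op ⊤)) ≃ₗ[Γ(X, ⊤)] SecOn F (Ux (Ugeom fs) x) :=
  haveI := isLocalizedModule_resLin F fs x
  IsLocalizedModule.iso (SS fs x) (resLin F (Ux (Ugeom fs) x))

lemma locIso_mk_one {n : ℕ} (x : Fin (n + 1) → Idx fs) (m : F.val.obj (op ⊤)) :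
    locIso F fs x (LocalizedModule.mk m 1) = resLin F _ m := by
  have := isLocalizedModule_resLin F fs x
  exact IsLocalizedModule.iso_mk_one (SS fs x) (resLin F (Ux (Ugeom fs) x)) m

lemma locIso_face {n : ℕ} (x : Fin (n + 2) → Idx fs) (i : Fin (n + 2))
    (s : LocalizedModule (SS fs (x ∘ Fin.succAbove i)) (F.val.obj (op ⊤))) :
    locIso F fs x (locMap _ (SS_face_le fs x i) s) =
      resWW F (leOfHom (face (Ugeom fs) x i)) (locIso F fs (x ∘ Fin.succAbove i) s) := by
  have hunit : ∀ t : SS fs (x ∘ Fin.succAbove i), IsUnit (algebraMap Γ(X, ⊤)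
      (Module.End Γ(X, ⊤) (SecOn F (Ux (Ugeom fs) x))) t) := by
    intro t
    rw [Module.End.isUnit_iff]
    exact smul_bijective_of_mem_unitSub F _ t.1 (SS_le_unitSub fs x (SS_face_le fs x i t.2))
  have hL : ((locIso F fs x).toLinearMap ∘ₗ locMap _ (SS_face_le fs x i)) =
      (resWW F (leOfHom (face (Ugeom fs) x i))) ∘ₗ
        (locIso F fs (x ∘ Fin.succAbove i)).toLinearMap := by
    apply IsLocalizedModule.ext (SS fs (x ∘ Fin.succAbove i))
      (LocalizedModule.mkLinearMap _ _) hunit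
    ext m
    simp only [LinearMap.comp_apply, LinearEquiv.coe_coe, LocalizedModule.mkLinearMap_apply]
    rw [locMap_mk, locIso_mk_one, resWW_resLin]
    exact locIso_mk_one F fs x m
  exact LinearMap.congr_fun hL s

/-- the termwise comparison of the two Čech complexes -/
noncomputable def eGeom (n : ℕ) (x : Fin (n + 1) → Idx fs) :
    (psh (A := Γ(X, ⊤)) (F.val.obj (op ⊤))).obj (op (Ux (fam fs) x)) ≅
      F.presheaf.obj (op (Ux (Ugeom fs) x)) :=
  (locIso F fs x).toAddEquiv.toAddCommGrpIso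

lemma eGeom_comm (n : ℕ) (x : Fin (n + 2) → Idx fs) (i : Fin (n + 2)) :
    (psh (A := Γ(X, ⊤)) (F.val.obj (op ⊤))).map (face (fam fs) x i).op ≫
        (eGeom F fs (n + 1) x).hom =
      (eGeom F fs n (x ∘ Fin.succAbove i)).hom ≫ F.presheaf.map (face (Ugeom fs) x i).op := by
  ext s
  exact locIso_face F fs x i s

/-- **Čech cohomology of a quasi-coherent module with respect to basic opens is direct-limit Koszul
cohomology** (EGA III 1.2.2–1.4.1, on a quasi-compact quasi-separated scheme). -/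
theorem cech_basicOpens_koszul (p : ℕ) (hp : 1 ≤ p) :
    Nonempty (((CK (Ugeom fs) F.presheaf).homology p : AddCommGrpCat.{u}) ≃+
      CohIII.koszulHLim fs (ModuleCat.of Γ(X, ⊤) (F.val.obj (op ⊤))) (p + 1)) := by
  obtain ⟨e1⟩ := nonempty_homology_addEquiv (fam fs) (Ugeom fs)
    (psh (A := Γ(X, ⊤)) (F.val.obj (op ⊤))) F.presheaf (eGeom F fs) (eGeom_comm F fs) p
  obtain ⟨e2⟩ := Groth.Agent.Lib.R2H2.CechKoszul.cech_koszul fs p hp (F.val.obj (op ⊤))
  exact ⟨e1.symm.trans e2⟩

end Main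

end Groth.Agent.Lib.R2H2.CechKoszulGeom
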