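import Groth.Agent.Lib.R2H2CechKoszulGeom

/-!
# Čech cohomology of the union of basic opens (helper2, round 2)

For `U = ⋃ X_{f_i}` with every `X_{f_i}` affine: the covering of the scheme `U` by the opens
`X_{f_i}` has affine finite intersections, and the Čech complex of `F|_U` with respect to this covering
is isomorphic to the Čech complex of `F` with respect to the family `X_{f_i}` of opens of `X`.
-/

set_option autoImplicit false
universe u

namespace Groth.Agent.Lib.R2H2.CechKoszulU

open CategoryTheory CategoryTheory.Limits AlgebraicGeometry TopologicalSpace Opposite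
open Groth.Agent.Lib.Helper16.CechLow Groth.Agent.Lib.R2H2.LocPsh Groth.Agent.Lib.R2H2.CechCmp
  Groth.Agent.Lib.R2H2.CechKoszulGeom

variable {X : Scheme.{u}} (fs : List Γ(X, ⊤))

/-- the union of the basic opens -/
abbrev UU : X.Opens := ⨆ i : Fin fs.length, X.basicOpen (fs.get i)

lemma basicOpen_le_UU (i : Fin fs.length) : X.basicOpen (fs.get i) ≤ UU fs :=
  le_iSup (fun i : Fin fs.length => X.basicOpen (fs.get i)) i

/-- the covering of the scheme `U` -/
noncomputable def VV : Idx fs → (UU fs).toScheme.Opens :=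
  fun i => (UU fs).ι ⁻¹ᵁ X.basicOpen (fs.get i.down)

theorem iSup_VV : ⨆ i, VV fs i = ⊤ := by
  have h1 : ⨆ i, VV fs i = (UU fs).ι ⁻¹ᵁ (⨆ i : Idx fs, X.basicOpen (fs.get i.down)) :=
    (Scheme.Hom.preimage_iSup (UU fs).ι (fun i : Idx fs => X.basicOpen (fs.get i.down))).symm
  have h2 : (⨆ i : Idx fs, X.basicOpen (fs.get i.down)) = UU fs :=
    Equiv.ulift.iSup_comp (g := fun j : Fin fs.length => X.basicOpen (fs.get j))
  rw [h1, h2]
  exact Scheme.Opens.ι_preimage_self (UU fs)

theorem isAffineOpen_biInf (Y : Scheme.{u}) {κ : Type*} (g : κ → Γ(Y, ⊤))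
    (h : ∀ i, IsAffineOpen (Y.basicOpen (g i))) (s : Finset κ) (hs : s.Nonempty) :
    IsAffineOpen (⨅ i ∈ s, Y.basicOpen (g i)) := by
  classical
  induction hs using Finset.Nonempty.cons_induction with
  | singleton a => simpa using h a
  | cons a s ha hs ih =>
    rw [Finset.cons_eq_insert, Finset.iInf_insert]
    have h1 := ih.basicOpen (Y.presheaf.map (homOfLE (le_top :
      (⨅ i ∈ s, Y.basicOpen (g i)) ≤ ⊤)).op (g a))
    rw [Scheme.basicOpen_res, inf_comm] at h1
    exact h1

theorem isAffineOpen_biInf_VV (haff : ∀ i : Fin fs.length, IsAffineOpen (X.basicOpen (fs.get i)))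
    (s : Finset (Idx fs)) (hs : s.Nonempty) : IsAffineOpen (⨅ i ∈ s, VV fs i) := by
  have h1 : VV fs = fun i : Idx fs =>
      (UU fs).toScheme.basicOpen ((UU fs).ι.appTop (fs.get i.down)) := by
    funext i
    exact Scheme.preimage_basicOpen_top (UU fs).ι (fs.get i.down)
  have h2 : ∀ i : Idx fs, IsAffineOpen
      ((UU fs).toScheme.basicOpen ((UU fs).ι.appTop (fs.get i.down))) := by
    intro i
    rw [← Scheme.preimage_basicOpen_top]
    refine (haff i.down).preimage_of_isOpenImmersion (UU fs).ι ?_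
    rw [Scheme.Opens.opensRange_ι]
    exact basicOpen_le_UU fs i.down
  rw [h1]
  exact isAffineOpen_biInf (UU fs).toScheme _ h2 s hs

section Compare

lemma UxV_eq_preimage {n : ℕ} (x : Fin (n + 1) → Idx fs) :
    Ux (VV fs) x = (UU fs).ι ⁻¹ᵁ (Ux (Ugeom fs) x) := by
  apply le_antisymm
  · have h1 : (UU fs).ι ''ᵁ (Ux (VV fs) x) ≤ Ux (Ugeom fs) x := by
      apply le_Wx
      intro k
      have h2 : Ux (VV fs) x ≤ VV fs (x k) := leOfHom (Pi.π (VV fs ∘ x) k)
      exact ((UU fs).ι.image_mono h2).trans ((UU fs).ι.image_preimage_le _)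
    have h3 := (UU fs).ι.preimage_mono h1
    rw [Scheme.Hom.preimage_image_eq] at h3
    exact h3
  · refine leOfHom (Pi.lift (fun k => homOfLE ?_))
    exact (UU fs).ι.preimage_mono (Wx_le fs x k)

lemma image_UxV {n : ℕ} (x : Fin (n + 1) → Idx fs) :
    (UU fs).ι ''ᵁ (Ux (VV fs) x) = Ux (Ugeom fs) x := by
  rw [UxV_eq_preimage, Scheme.Hom.image_preimage_eq_opensRange_inf, Scheme.Opens.opensRange_ι]
  exact inf_eq_right.mpr ((Wx_le fs x 0).trans (basicOpen_le_UU fs (x 0).down))

variable (F : X.Modules)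

/-- the termwise comparison -/
noncomputable def eU (n : ℕ) (x : Fin (n + 1) → Idx fs) :
    (F.restrict (UU fs).ι).presheaf.obj (op (Ux (VV fs) x)) ≅
      F.presheaf.obj (op (Ux (Ugeom fs) x)) :=
  F.presheaf.mapIso (eqToIso (congrArg op (image_UxV fs x)))

lemma eU_comm (n : ℕ) (x : Fin (n + 2) → Idx fs) (i : Fin (n + 2)) :
    (F.restrict (UU fs).ι).presheaf.map (face (VV fs) x i).op ≫ (eU fs F (n + 1) x).hom =
      (eU fs F n (x ∘ Fin.succAbove i)).hom ≫ F.presheaf.map (face (Ugeom fs) x i).op := by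
  change F.presheaf.map ((UU fs).ι.opensFunctor.map (face (VV fs) x i)).op ≫
      F.presheaf.map (eqToHom (congrArg op (image_UxV fs x))) =
    F.presheaf.map (eqToHom (congrArg op (image_UxV fs (x ∘ Fin.succAbove i)))) ≫
      F.presheaf.map (face (Ugeom fs) x i).op
  rw [← Functor.map_comp, ← Functor.map_comp]
  congr 1

/-- the Čech cohomology of `F|_U` for the covering of `U` agrees with the Čech cohomology of `F`
for the family of basic opens -/
theorem nonempty_cech_addEquiv (q : ℕ) :
    Nonempty (((CK (VV fs) (F.restrict (UU fs).ι).presheaf).homology q : AddCommGrpCat.{u}) ≃+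
      ((CK (Ugeom fs) F.presheaf).homology q : AddCommGrpCat.{u})) :=
  nonempty_homology_addEquiv (VV fs) (Ugeom fs) (F.restrict (UU fs).ι).presheaf F.presheaf
    (eU fs F) (eU_comm fs F) q

end Compare

end Groth.Agent.Lib.R2H2.CechKoszulU
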