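import Mathlib
import Groth.Agent.Lib.Helper10CechHtpy

/-!
# Two refinement morphisms of formal coproducts induce homotopic maps of Čech objects
-/

universe w v u

open CategoryTheory CategoryTheory.Limits Opposite Simplicial SimplexCategory

namespace Groth.Agent.Lib.R2H2.CechRefine

open Groth.Agent.Lib.Helper10.CechHtpy (val_succAbove val_predAbove)

variable {C : Type u} [Category.{v} C] [HasFiniteProducts C]
  {U V : FormalCoproduct.{w} C} (a b : U ⟶ V)

/-- The colour map. -/
noncomputable def col {n : ℕ} (j : Fin (n + 1)) (k : Fin (n + 2)) : U ⟶ V :=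
  if k ≤ j.castSucc then a else b

/-- The homotopy operators `(y₀,…,yₙ) ↦ (a y₀,…,a yⱼ, b yⱼ,…,b yₙ)`. -/
noncomputable def hh {n : ℕ} (j : Fin (n + 1)) :
    U.power (Fin (n + 1)) ⟶ V.power (Fin (n + 2)) :=
  Fan.IsLimit.lift (V.isLimitPowerFan (Fin (n + 2)))
    (fun k : Fin (n + 2) => U.powerπ (Fin.predAbove j k) ≫ col a b j k)

@[reassoc (attr := simp)]
lemma hh_π {n : ℕ} (j : Fin (n + 1)) (k : Fin (n + 2)) :
    hh a b j ≫ V.powerπ k = U.powerπ (Fin.predAbove j k) ≫ col a b j k :=
  Fan.IsLimit.fac (V.isLimitPowerFan (Fin (n + 2))) _ k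

lemma power_hom_ext {α : Type} [HasProductsOfShape α C] {A : FormalCoproduct.{w} C}
    (f g : A ⟶ V.power α) (h : ∀ k, f ≫ V.powerπ k = g ≫ V.powerπ k) : f = g :=
  Fan.IsLimit.hom_ext (V.isLimitPowerFan α) f g h

set_option backward.defeqAttrib.useBackward true in
set_option backward.isDefEq.respectTransparency false in
@[reassoc (attr := simp)]
lemma powerMap_π (f : U ⟶ V) {α : Type} [HasProductsOfShape α C] (k : α) :
    FormalCoproduct.powerMap f α ≫ V.powerπ k = U.powerπ k ≫ f := by
  ext i
  · simp
  · dsimp
    simp only [Category.comp_id]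
    exact Limits.Pi.map_π _ _

omit [HasFiniteProducts C] in
lemma aux {Z : FormalCoproduct.{w} C} {m : ℕ} (p : Fin (m + 1) → (Z ⟶ U)) (k₁ k₂ : Fin (m + 1))
    (c₁ c₂ : Prop) [Decidable c₁] [Decidable c₂]
    (hk : k₁.val = k₂.val) (hc : c₁ ↔ c₂) :
    p k₁ ≫ (if c₁ then a else b) = p k₂ ≫ (if c₂ then a else b) := by
  obtain rfl : k₁ = k₂ := Fin.ext hk
  simp only [hc]

set_option backward.defeqAttrib.useBackward true in
set_option backward.isDefEq.respectTransparency false in
/-- The homotopy between the maps of Čech objects induced by two morphisms. -/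
noncomputable def htpy : SimplicialObject.Homotopy (FormalCoproduct.cechFunctor.map a)
    (FormalCoproduct.cechFunctor.map b) where
  h j := hh a b j
  h_zero_comp_δ_zero n := by
    apply power_hom_ext
    intro k
    simp [SimplicialObject.δ, col]
    refine Eq.trans (aux a b (fun k => U.powerπ k) _ k _ False ?_ ?_) (by simp) <;>
    · have hk := k.isLt
      dsimp at hk
      dsimp [SimplexCategory.δ, SimplexCategory.σ]
      simp only [val_succAbove, val_predAbove, Fin.le_def, Fin.lt_def, Fin.val_succ,
        Fin.val_castSucc, Fin.val_last, Fin.val_zero, Fin.ext_iff] at *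
      (try split_ifs) <;> first | omega | (simp only [iff_false, iff_true]; omega)
  h_last_comp_δ_last n := by
    apply power_hom_ext
    intro k
    simp [SimplicialObject.δ, col]
    refine Eq.trans (aux a b (fun k => U.powerπ k) _ k _ True ?_ ?_) (by simp) <;>
    · have hk := k.isLt
      dsimp at hk
      dsimp [SimplexCategory.δ, SimplexCategory.σ]
      simp only [val_succAbove, val_predAbove, Fin.le_def, Fin.lt_def, Fin.val_succ,
        Fin.val_castSucc, Fin.val_last, Fin.val_zero, Fin.ext_iff] at *
      (try split_ifs) <;> first | omega | (simp only [iff_false, iff_true]; omega)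
  h_succ_comp_δ_castSucc_of_lt i j hij := by
    apply power_hom_ext
    intro k
    simp [SimplicialObject.δ, col]
    refine aux a b (fun k => U.powerπ k) _ _ _ _ ?_ ?_ <;>
    · dsimp [SimplexCategory.δ, SimplexCategory.σ]
      simp only [val_succAbove, val_predAbove, Fin.le_def, Fin.lt_def, Fin.val_succ,
        Fin.val_castSucc, Fin.val_last, Fin.val_zero] at *
      split_ifs <;> omega
  h_succ_comp_δ_castSucc_succ j := by
    apply power_hom_ext
    intro k
    simp [SimplicialObject.δ, col]
    refine aux a b (fun k => U.powerπ k) _ _ _ _ ?_ ?_ <;>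
    · dsimp [SimplexCategory.δ, SimplexCategory.σ]
      simp only [val_succAbove, val_predAbove, Fin.le_def, Fin.lt_def, Fin.val_succ,
        Fin.val_castSucc, Fin.val_last, Fin.val_zero] at *
      split_ifs <;> omega
  h_castSucc_comp_δ_succ_of_lt i j hji := by
    apply power_hom_ext
    intro k
    simp [SimplicialObject.δ, col]
    refine aux a b (fun k => U.powerπ k) _ _ _ _ ?_ ?_ <;>
    · dsimp [SimplexCategory.δ, SimplexCategory.σ]
      simp only [val_succAbove, val_predAbove, Fin.le_def, Fin.lt_def, Fin.val_succ,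
        Fin.val_castSucc, Fin.val_last, Fin.val_zero] at *
      split_ifs <;> omega
  h_comp_σ_castSucc_of_le i j hij := by
    apply power_hom_ext
    intro k
    simp [SimplicialObject.σ, col]
    refine aux a b (fun k => U.powerπ k) _ _ _ _ ?_ ?_ <;>
    · dsimp [SimplexCategory.δ, SimplexCategory.σ]
      simp only [val_succAbove, val_predAbove, Fin.le_def, Fin.lt_def, Fin.val_succ,
        Fin.val_castSucc, Fin.val_last, Fin.val_zero] at *
      split_ifs <;> omega
  h_comp_σ_succ_of_lt i j hji := by
    apply power_hom_ext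
    intro k
    simp [SimplicialObject.σ, col]
    refine aux a b (fun k => U.powerπ k) _ _ _ _ ?_ ?_ <;>
    · dsimp [SimplexCategory.δ, SimplexCategory.σ]
      simp only [val_succAbove, val_predAbove, Fin.le_def, Fin.lt_def, Fin.val_succ,
        Fin.val_castSucc, Fin.val_last, Fin.val_zero] at *
      split_ifs <;> omega

end Groth.Agent.Lib.R2H2.CechRefine
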