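import Mathlib
import Groth.Prelude.Def_KoszulSh

/-!
# Acyclicity of the Koszul complex of a regular sequence, exterior-power model (helper2, round 2)

Namespace `Groth.Agent.Lib.R2H2.KoszAlg`.  Pure algebra.
* `con d` : contraction of the exterior algebra by a linear form; `con_mem`, `con_ιMulti` (the Koszul formula).
* `dK φ p : ⋀^(p+1) M →ₗ ⋀^p M`, `dK_ιMulti : dK φ p (ιMulti e) = KoszSh.dGen φ p e`.
* `dK_exact` : for a basis `b` with `φ (b k)` a weakly regular sequence, `ker (dK φ q) ⊆ range (dK φ (q+1))`.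
-/

set_option backward.isDefEq.respectTransparency.types false
set_option autoImplicit false

namespace Groth.Agent.Lib.R2H2.KoszAlg

open ExteriorAlgebra

section Basic

variable {R : Type*} [CommRing R] {M : Type*} [AddCommGroup M] [Module R M]

/-- contraction of the exterior algebra by a linear form -/
noncomputable def con (d : Module.Dual R M) : ExteriorAlgebra R M →ₗ[R] ExteriorAlgebra R M :=
  CliffordAlgebra.contractLeft (Q := (0 : QuadraticForm R M)) d

lemma con_ι_mul (d : Module.Dual R M) (m : M) (w : ExteriorAlgebra R M) :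
    con d (ι R m * w) = d m • w - ι R m * con d w :=
  CliffordAlgebra.contractLeft_ι_mul _ _ _

lemma con_ι (d : Module.Dual R M) (m : M) : con d (ι R m) = algebraMap R _ (d m) :=
  CliffordAlgebra.contractLeft_ι _ _ _

lemma con_algebraMap (d : Module.Dual R M) (r : R) :
    con d (algebraMap R (ExteriorAlgebra R M) r) = 0 :=
  CliffordAlgebra.contractLeft_algebraMap _ _ _

lemma con_one (d : Module.Dual R M) : con d (1 : ExteriorAlgebra R M) = 0 :=
  CliffordAlgebra.contractLeft_one _ _

lemma con_con (d : Module.Dual R M) (x : ExteriorAlgebra R M) : con d (con d x) = 0 :=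
  CliffordAlgebra.contractLeft_contractLeft _ _

lemma con_comm (d d' : Module.Dual R M) (x : ExteriorAlgebra R M) :
    con d (con d' x) = -con d' (con d x) :=
  CliffordAlgebra.contractLeft_comm _ _ _

lemma G_zero : (⋀[R]^0 M : Submodule R (ExteriorAlgebra R M)) = 1 := pow_zero _

lemma G_one : (⋀[R]^1 M : Submodule R (ExteriorAlgebra R M)) =
    LinearMap.range (ι R : M →ₗ[R] ExteriorAlgebra R M) := pow_one _

lemma G_succ (p : ℕ) : (⋀[R]^(p + 1) M : Submodule R (ExteriorAlgebra R M)) =
    LinearMap.range (ι R : M →ₗ[R] ExteriorAlgebra R M) * ⋀[R]^p M := pow_succ' _ _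

lemma ι_mul_mem {p : ℕ} {x : ExteriorAlgebra R M} (m : M) (hx : x ∈ ⋀[R]^p M) :
    ι R m * x ∈ ⋀[R]^(p + 1) M := by
  rw [G_succ]
  exact Submodule.mul_mem_mul ⟨m, rfl⟩ hx

lemma con_deg_zero (d : Module.Dual R M) {x : ExteriorAlgebra R M} (hx : x ∈ ⋀[R]^0 M) :
    con d x = 0 := by
  rw [G_zero] at hx
  obtain ⟨r, rfl⟩ := Submodule.mem_one.1 hx
  exact con_algebraMap d r

lemma con_mem (d : Module.Dual R M) (p : ℕ) :
    ∀ x ∈ (⋀[R]^(p + 1) M : Submodule R (ExteriorAlgebra R M)), con d x ∈ ⋀[R]^p M := by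
  induction p with
  | zero =>
    intro x hx
    rw [G_one] at hx
    obtain ⟨m, rfl⟩ := hx
    rw [con_ι, G_zero]
    exact Submodule.algebraMap_mem _
  | succ p ih =>
    intro x hx
    rw [G_succ] at hx
    refine Submodule.mul_induction_on hx ?_ ?_
    · rintro _ ⟨m, rfl⟩ y hy
      rw [con_ι_mul]
      exact Submodule.sub_mem _ (Submodule.smul_mem _ _ hy) (ι_mul_mem m (ih y hy))
    · intro x y hx hy
      rw [map_add]
      exact Submodule.add_mem _ hx hy

/-- the Koszul formula for the contraction of a decomposable element -/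
theorem con_ιMulti (φ : Module.Dual R M) : ∀ (p : ℕ) (e : Fin (p + 1) → M),
    con φ (ExteriorAlgebra.ιMulti R (p + 1) e) =
      ∑ i : Fin (p + 1), ((-1 : R) ^ (i : ℕ) * φ (e i)) •
        ExteriorAlgebra.ιMulti R p (fun j => e (i.succAbove j))
  | 0, e => by
    rw [ιMulti_succ_apply, ιMulti_zero_apply, mul_one, con_ι, Fin.sum_univ_one, ιMulti_zero_apply,
      Algebra.algebraMap_eq_smul_one]
    simp
  | p + 1, e => by
    rw [ιMulti_succ_apply, con_ι_mul, con_ιMulti φ p (Matrix.vecTail e)]
    conv_rhs => rw [Fin.sum_univ_succ]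
    rw [Finset.mul_sum, sub_eq_add_neg, ← Finset.sum_neg_distrib]
    congr 1
    · simp only [Fin.val_zero, pow_zero, one_mul, Fin.succAbove_zero]
      rfl
    · refine Finset.sum_congr rfl fun i _ => ?_
      rw [mul_smul_comm, ← neg_smul]
      have h1 : ExteriorAlgebra.ιMulti R (p + 1) (fun j => e (i.succ.succAbove j)) =
          ι R (e 0) * ExteriorAlgebra.ιMulti R p
            (fun j => Matrix.vecTail e (i.succAbove j)) := by
        rw [ιMulti_succ_apply]
        congr 2
        funext j
        simp [Matrix.vecTail]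
      rw [h1]
      congr 1
      rw [Fin.val_succ, pow_succ]
      simp [Matrix.vecTail]

/-- the Koszul differential on exterior powers -/
noncomputable def dK (φ : Module.Dual R M) (p : ℕ) : ⋀[R]^(p + 1) M →ₗ[R] ⋀[R]^p M :=
  LinearMap.codRestrict _ ((con φ).comp (Submodule.subtype _)) (fun x => con_mem φ p x.1 x.2)

lemma dK_coe (φ : Module.Dual R M) (p : ℕ) (x : ⋀[R]^(p + 1) M) :
    ((dK φ p x : ⋀[R]^p M) : ExteriorAlgebra R M) = con φ (x : ExteriorAlgebra R M) := rfl

theorem dK_ιMulti (φ : Module.Dual R M) (p : ℕ) (e : Fin (p + 1) → M) :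
    dK φ p (exteriorPower.ιMulti R (p + 1) e) = KoszSh.dGen φ p e := by
  apply Subtype.ext
  rw [dK_coe, exteriorPower.ιMulti_apply_coe, con_ιMulti]
  unfold KoszSh.dGen
  rw [Submodule.coe_sum]
  refine Finset.sum_congr rfl fun i _ => ?_
  rw [Submodule.coe_smul, exteriorPower.ιMulti_apply_coe]

end Basic

section Exact

variable {R : Type*} [CommRing R] {M : Type*} [AddCommGroup M] [Module R M]
  {n : ℕ} (b : Module.Basis (Fin n) R M) (φ : Module.Dual R M)

lemma coord_self (j : Fin n) : b.coord j (b j) = 1 := by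
  simp [Module.Basis.coord_apply]

lemma coord_ne {i j : Fin n} (h : j ≠ i) : b.coord j (b i) = 0 := by
  simp [Module.Basis.coord_apply, h.symm]

/-- the kernel filtration of the exterior algebra: elements killed by the contractions with the
coordinate forms of index `≥ k` -/
def InLam (k : ℕ) (x : ExteriorAlgebra R M) : Prop :=
  ∀ j : Fin n, k ≤ j.val → con (b.coord j) x = 0

variable {b}

lemma InLam.add {k : ℕ} {x y : ExteriorAlgebra R M} (hx : InLam b k x) (hy : InLam b k y) :
    InLam b k (x + y) := fun j hj => by rw [map_add, hx j hj, hy j hj, add_zero]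

lemma InLam.smul {k : ℕ} {x : ExteriorAlgebra R M} (hx : InLam b k x) (r : R) :
    InLam b k (r • x) := fun j hj => by rw [map_smul, hx j hj, smul_zero]

variable (b)

/-- the span of the first `k` basis vectors, described by the coordinate forms -/
def Nsub (k : ℕ) : Submodule R M where
  carrier := {m | ∀ j : Fin n, k ≤ j.val → b.coord j m = 0}
  add_mem' := fun {x y} hx hy j hj => by rw [map_add, hx j hj, hy j hj, add_zero]
  zero_mem' := fun j _ => map_zero _
  smul_mem' := fun r x hx j hj => by rw [map_smul, hx j hj, smul_zero]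

lemma mem_Nsub {k : ℕ} {m : M} : m ∈ Nsub b k ↔ ∀ j : Fin n, k ≤ j.val → b.coord j m = 0 := Iff.rfl

/-- the projector `C_j L_j` -/
noncomputable def P (j : Fin n) : ExteriorAlgebra R M →ₗ[R] ExteriorAlgebra R M :=
  (con (b.coord j)).comp (LinearMap.mulLeft R (ι R (b j)))

lemma P_apply (j : Fin n) (x : ExteriorAlgebra R M) :
    P b j x = con (b.coord j) (ι R (b j) * x) := rfl

lemma P_eq_self (j : Fin n) (x : ExteriorAlgebra R M) (h : con (b.coord j) x = 0) :
    P b j x = x := by
  rw [P_apply, con_ι_mul, coord_self, one_smul, h, mul_zero, sub_zero]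

lemma ι_mul_ι_mul_swap (m m' : M) (y : ExteriorAlgebra R M) :
    ι R m * (ι R m' * y) = -(ι R m' * (ι R m * y)) := by
  have h := ι_add_mul_swap (R := R) m m'
  rw [← mul_assoc, ← mul_assoc, eq_neg_of_add_eq_zero_left h, neg_mul]

lemma P_ι_mul_ne {i j : Fin n} (h : j ≠ i) (y : ExteriorAlgebra R M) :
    P b j (ι R (b i) * y) = ι R (b i) * P b j y := by
  rw [P_apply, ι_mul_ι_mul_swap, map_neg, con_ι_mul, coord_ne b h, zero_smul, zero_sub, neg_neg,
    P_apply]

lemma P_ι_mul_self (j : Fin n) (y : ExteriorAlgebra R M) : P b j (ι R (b j) * y) = 0 := by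
  rw [P_apply, ← mul_assoc, ι_sq_zero, zero_mul, map_zero]

/-- composite of the projectors along a list -/
noncomputable def Q : List (Fin n) → ExteriorAlgebra R M →ₗ[R] ExteriorAlgebra R M
  | [] => LinearMap.id
  | j :: l => (Q l).comp (P b j)

lemma Q_eq_self (x : ExteriorAlgebra R M) (hx : InLam b 0 x) : ∀ l : List (Fin n), Q b l x = x
  | [] => rfl
  | j :: l => by
    change Q b l (P b j x) = x
    rw [P_eq_self b j x (hx j (Nat.zero_le _)), Q_eq_self x hx l]

lemma Q_ι_mul (i : Fin n) : ∀ (l : List (Fin n)) (_ : i ∈ l) (y : ExteriorAlgebra R M),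
    Q b l (ι R (b i) * y) = 0
  | [], h, _ => by simp at h
  | j :: l, h, y => by
    change Q b l (P b j (ι R (b i) * y)) = 0
    by_cases hji : j = i
    · subst hji
      rw [P_ι_mul_self, map_zero]
    · have hi : i ∈ l := by
        rcases List.mem_cons.1 h with h | h
        · exact absurd h.symm hji
        · exact h
      rw [P_ι_mul_ne b hji, Q_ι_mul i l hi]

lemma Q_finRange_eq_zero (p : ℕ) (x : ExteriorAlgebra R M) (hx : x ∈ ⋀[R]^(p + 1) M) :
    Q b (List.finRange n) x = 0 := by
  rw [G_succ] at hx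
  refine Submodule.mul_induction_on hx ?_ ?_
  · rintro _ ⟨m, rfl⟩ y _
    have hm : m = ∑ i : Fin n, b.repr m i • b i := (b.sum_repr m).symm
    rw [hm, map_sum, Finset.sum_mul, map_sum]
    refine Finset.sum_eq_zero fun i _ => ?_
    rw [map_smul, smul_mul_assoc, map_smul, Q_ι_mul b i _ (List.mem_finRange i), smul_zero]
  · intro x y hx hy
    rw [map_add, hx, hy, add_zero]

/-- base of the induction: nothing of positive degree is killed by all coordinate contractions -/
theorem eq_zero_of_inLam_zero (p : ℕ) (x : ExteriorAlgebra R M) (hx : x ∈ ⋀[R]^(p + 1) M)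
    (h : InLam b 0 x) : x = 0 := by
  rw [← Q_eq_self b x h (List.finRange n)]
  exact Q_finRange_eq_zero b p x hx

/-- the regularity hypothesis in elementwise form -/
def Hreg : Prop :=
  ∀ k : Fin n, ∀ r : R, φ (b k) * r ∈ (Nsub b k.val).map φ → r ∈ (Nsub b k.val).map φ

theorem exact_aux (H : Hreg b φ) : ∀ k : ℕ, k ≤ n → ∀ (q : ℕ) (x : ExteriorAlgebra R M),
    x ∈ ⋀[R]^(q + 1) M → InLam b k x → con φ x = 0 →
      ∃ y ∈ (⋀[R]^(q + 2) M : Submodule R (ExteriorAlgebra R M)), InLam b k y ∧ con φ y = x := by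
  intro k
  induction k with
  | zero =>
    intro _ q x hx hlam _
    have h0 := eq_zero_of_inLam_zero b q x hx hlam
    refine ⟨0, Submodule.zero_mem _, fun j _ => map_zero _, ?_⟩
    rw [map_zero, h0]
  | succ k ih =>
    intro hk q x hx hlam hδ
    have hk' : k < n := hk
    have ihk := ih (le_of_lt hk')
    obtain ⟨kk, hkk⟩ : ∃ kk : Fin n, kk.val = k := ⟨⟨k, hk'⟩, rfl⟩
    obtain ⟨e, he⟩ : ∃ e : M, e = b kk := ⟨_, rfl⟩
    obtain ⟨ε, hε⟩ : ∃ ε : Module.Dual R M, ε = b.coord kk := ⟨_, rfl⟩
    have hεe : ε e = 1 := by rw [hε, he, coord_self]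
    have hεj : ∀ j : Fin n, k + 1 ≤ j.val → b.coord j e = 0 := by
      intro j hj
      rw [he]
      refine coord_ne b ?_
      intro h
      rw [h, hkk] at hj
      omega
    obtain ⟨c, hc⟩ : ∃ c, c = con ε x := ⟨_, rfl⟩
    obtain ⟨a, ha⟩ : ∃ a, a = con ε (ι R e * x) := ⟨_, rfl⟩
    have hxa : x = a + ι R e * c := by
      rw [ha, hc, con_ι_mul, hεe, one_smul]
      abel
    have hcG : c ∈ ⋀[R]^q M := by rw [hc]; exact con_mem ε q x hx
    have haG : a ∈ ⋀[R]^(q + 1) M := by rw [ha]; exact con_mem ε (q + 1) _ (ι_mul_mem e hx)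
    -- membership in the smaller filtration step
    have hcLam : InLam b k c := by
      intro j hj
      rw [hc]
      by_cases hjk : j = kk
      · rw [hjk, ← hε, con_con]
      · have hj' : k + 1 ≤ j.val := by
          have : j.val ≠ k := fun h => hjk (Fin.ext (h.trans hkk.symm))
          omega
        rw [con_comm, hlam j hj', map_zero, neg_zero]
    have haLam : InLam b k a := by
      intro j hj
      rw [ha]
      by_cases hjk : j = kk
      · rw [hjk, ← hε, con_con]
      · have hj' : k + 1 ≤ j.val := by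
          have : j.val ≠ k := fun h => hjk (Fin.ext (h.trans hkk.symm))
          omega
        rw [con_comm, con_ι_mul, hεj j hj', zero_smul, hlam j hj', mul_zero, sub_zero, map_zero,
          neg_zero]
    -- the two components of the cycle condition
    have hCa : con ε a = 0 := by rw [ha, con_con]
    have hCc : con ε c = 0 := by rw [hc, con_con]
    have hδ' : con φ a + (φ e • c - ι R e * con φ c) = 0 := by
      have := hδ
      rw [hxa, map_add, con_ι_mul] at this
      exact this
    have hδc : con φ c = 0 := by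
      have h1 := congrArg (con ε) hδ'
      rw [map_add, map_sub, map_smul, hCc, smul_zero, zero_sub, con_ι_mul, hεe, one_smul, map_zero,
        con_comm ε φ a, hCa, map_zero, neg_zero, zero_add, con_comm ε φ c, hCc, map_zero, neg_zero,
        mul_zero, sub_zero, neg_eq_zero] at h1
      exact h1
    have hδa : con φ a + φ e • c = 0 := by
      rw [hδc, mul_zero, sub_zero] at hδ'
      exact hδ'
    -- a primitive of `c`
    obtain ⟨c', hc'G, hc'Lam, hc'⟩ : ∃ c' ∈ (⋀[R]^(q + 1) M : Submodule R (ExteriorAlgebra R M)),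
        InLam b k c' ∧ con φ c' = c := by
      cases q with
      | zero =>
        rw [G_zero] at hcG
        obtain ⟨r, hr⟩ := Submodule.mem_one.1 hcG
        rw [zero_add, G_one] at haG
        obtain ⟨m, hm⟩ := haG
        have hmN : m ∈ Nsub b k := by
          intro j hj
          have h1 := haLam j hj
          rw [← hm, con_ι] at h1
          exact (algebraMap_eq_zero_iff _ _).1 h1
        have h2 : φ m + φ e * r = 0 := by
          have h1 := hδa
          rw [← hm, ← hr, con_ι, Algebra.smul_def, ← map_mul, ← map_add] at h1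
          exact (algebraMap_eq_zero_iff _ _).1 h1
        have h3 : φ (b kk) * r ∈ (Nsub b kk.val).map φ := by
          refine ⟨-m, ?_, ?_⟩
          · rw [hkk]
            exact (Nsub b k).neg_mem hmN
          · rw [map_neg, ← he]
            exact (eq_neg_of_add_eq_zero_right h2).symm
        obtain ⟨m', hm'N, hm'⟩ := H kk r h3
        rw [hkk] at hm'N
        refine ⟨ι R m', ?_, ?_, ?_⟩
        · rw [zero_add, G_one]
          exact ⟨m', rfl⟩
        · intro j hj
          rw [con_ι, hm'N j hj, map_zero]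
        · rw [con_ι, hm', hr]
      | succ q' => exact ihk q' c hcG hcLam hδc
    -- correct `a` and take a primitive
    have ha2G : a + φ e • c' ∈ ⋀[R]^(q + 1) M :=
      Submodule.add_mem _ haG (Submodule.smul_mem _ _ hc'G)
    have ha2δ : con φ (a + φ e • c') = 0 := by
      rw [map_add, map_smul, hc', hδa]
    obtain ⟨a', ha'G, ha'Lam, ha'⟩ := ihk q (a + φ e • c') ha2G (haLam.add (hc'Lam.smul _)) ha2δ
    refine ⟨a' - ι R e * c', Submodule.sub_mem _ ha'G (ι_mul_mem e hc'G), ?_, ?_⟩
    · intro j hj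
      have hj' : k ≤ j.val := by omega
      rw [map_sub, ha'Lam j hj', con_ι_mul, hc'Lam j hj', mul_zero, sub_zero, hεj j hj, zero_smul,
        sub_zero]
    · rw [map_sub, ha', con_ι_mul, hc', hxa]
      abel

/-- Koszul acyclicity in the exterior algebra -/
theorem koszul_exact (H : Hreg b φ) (q : ℕ) (x : ExteriorAlgebra R M) (hx : x ∈ ⋀[R]^(q + 1) M)
    (hδ : con φ x = 0) :
    ∃ y ∈ (⋀[R]^(q + 2) M : Submodule R (ExteriorAlgebra R M)), con φ y = x := by
  obtain ⟨y, hy, -, hy'⟩ := exact_aux b φ H n le_rfl q x hx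
    (fun j hj => absurd j.isLt (not_lt.2 hj)) hδ
  exact ⟨y, hy, hy'⟩

/-- Koszul acyclicity on exterior powers -/
theorem dK_exact_of_Hreg (H : Hreg b φ) (q : ℕ) (x : ⋀[R]^(q + 1) M) (hx : dK φ q x = 0) :
    ∃ y : ⋀[R]^(q + 2) M, dK φ (q + 1) y = x := by
  have h0 : con φ (x : ExteriorAlgebra R M) = 0 := by
    rw [← dK_coe, hx]
    rfl
  obtain ⟨y, hy, hy'⟩ := koszul_exact b φ H q x.1 x.2 h0
  exact ⟨⟨y, hy⟩, Subtype.ext hy'⟩

theorem map_Nsub_eq (k : ℕ) :
    (Nsub b k).map φ = Ideal.ofList ((List.ofFn fun j => φ (b j)).take k) := by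
  apply le_antisymm
  · rintro _ ⟨m, hm, rfl⟩
    have hm' : m = ∑ i : Fin n, b.repr m i • b i := (b.sum_repr m).symm
    rw [hm', map_sum]
    refine Submodule.sum_mem _ fun i _ => ?_
    rw [map_smul]
    by_cases hi : i.val < k
    · refine Submodule.smul_mem _ _ (Ideal.subset_span ?_)
      change φ (b i) ∈ (List.ofFn fun j => φ (b j)).take k
      rw [List.mem_take_iff_getElem]
      refine ⟨i.val, ?_, ?_⟩
      · rw [List.length_ofFn]
        exact lt_min hi i.isLt
      · rw [List.getElem_ofFn]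
    · have h0 : b.repr m i = 0 := hm i (not_lt.1 hi)
      rw [h0, zero_smul]
      exact Submodule.zero_mem _
  · refine Ideal.span_le.2 ?_
    intro a ha
    change a ∈ (List.ofFn fun j => φ (b j)).take k at ha
    rw [List.mem_take_iff_getElem] at ha
    obtain ⟨i, hi, rfl⟩ := ha
    rw [List.length_ofFn] at hi
    rw [List.getElem_ofFn]
    refine ⟨b ⟨i, (lt_min_iff.1 hi).2⟩, ?_, rfl⟩
    intro j hj
    refine coord_ne b ?_
    intro h
    have : j.val = i := congrArg Fin.val h
    have := (lt_min_iff.1 hi).1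
    omega

theorem hreg_of_isWeaklyRegular
    (h : RingTheory.Sequence.IsWeaklyRegular R (List.ofFn fun k => φ (b k))) : Hreg b φ := by
  intro k r hr
  rw [map_Nsub_eq b φ k.val] at hr ⊢
  have hk : k.val < (List.ofFn fun k => φ (b k)).length := by
    rw [List.length_ofFn]
    exact k.isLt
  have h1 := h.regular_mod_prev k.val hk
  rw [List.getElem_ofFn] at h1
  have h2 : (Ideal.ofList ((List.ofFn fun k => φ (b k)).take k.val) • ⊤ : Submodule R R) =
      Ideal.ofList ((List.ofFn fun k => φ (b k)).take k.val) := by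
    rw [smul_eq_mul, Ideal.mul_top]
  have h3 := mem_of_isSMulRegular_quotient_of_smul_mem h1 (x := r)
  rw [h2] at h3
  exact h3 hr

/-- Koszul acyclicity on exterior powers for a weakly regular sequence -/
theorem dK_exact (h : RingTheory.Sequence.IsWeaklyRegular R (List.ofFn fun k => φ (b k))) (q : ℕ)
    (x : ⋀[R]^(q + 1) M) (hx : dK φ q x = 0) : ∃ y : ⋀[R]^(q + 2) M, dK φ (q + 1) y = x :=
  dK_exact_of_Hreg b φ (hreg_of_isWeaklyRegular b φ h) q x hx

end Exact

end Groth.Agent.Lib.R2H2.KoszAlg
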