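import Groth.Prelude.Def_KoszulSh
import Groth.Agent.Lib.Helper13ModBasis

/-!
# The chain map between Koszul complexes induced by a morphism of modules (helper2, round 2)

Namespace `Groth.Agent.Lib.R2H2.KoszMap`.
* `fLin f U` : `f` on sections over `U` as a linear map.
* `dLin f C D p U` : the local component `Λ^p f` read through `loc`.
* `comp f C D p : C.K.X p ⟶ D.K.X p`, `comp_gen`.
* `chainMap f hf C D : C.K ⟶ D.K`, `chainMap_gen`, `chainMap_unique`.
-/

set_option backward.isDefEq.respectTransparency.types false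
set_option autoImplicit false
set_option linter.unusedSectionVars false
universe u

namespace Groth.Agent.Lib.R2H2.KoszMap

open CategoryTheory AlgebraicGeometry Opposite TopologicalSpace exteriorPower

variable {X : Scheme.{u}}

/-- the basis of affine opens -/
lemma isBasis_aff : Opens.IsBasis (Set.range fun U : X.affineOpens => U.1) := by
  rw [Subtype.range_coe]
  exact X.isBasis_affineOpens

section Map

variable {E F : X.Modules} (f : E ⟶ F)

/-- `f` on sections over `U`, as a linear map -/
noncomputable def fLin (U : X.Opens) : Γ(E, U) →ₗ[Γ(X, U)] Γ(F, U) where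
  toFun e := f.app U e
  map_add' _ _ := map_add _ _ _
  map_smul' r a := Scheme.Modules.Hom.app_smul f r a

@[simp] lemma fLin_apply (U : X.Opens) (e : Γ(E, U)) : fLin f U e = f.app U e := rfl

/-- naturality of `f` for restrictions -/
lemma f_res {U V : X.Opens} (h : V ≤ U) (e : Γ(E, U)) :
    F.val.map (homOfLE h).op (f.app U e) = f.app V (E.val.map (homOfLE h).op e) := by
  have := f.mapPresheaf.naturality (homOfLE h).op
  exact (congrArg (fun φ => φ e) this).symm

variable {s : E ⟶ Coh.structureModule X} {t : F ⟶ Coh.structureModule X}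
  (C : KoszSh.Cx E s) (D : KoszSh.Cx F t)

/-- the local component of `Λ^p f` -/
noncomputable def dLin (p : ℕ) (U : X.affineOpens) :
    Γ(C.K.X p, U.1) →ₗ[Γ(X, U.1)] Γ(D.K.X p, U.1) :=
  (D.loc p U).symm.toLinearMap ∘ₗ (exteriorPower.map p (fLin f U.1)) ∘ₗ (C.loc p U).toLinearMap

lemma dLin_gen (p : ℕ) (U : X.affineOpens) (e : Fin p → Γ(E, U.1)) :
    dLin f C D p U ((C.loc p U).symm (ιMulti _ p e)) =
      (D.loc p U).symm (ιMulti _ p (fun j => f.app U.1 (e j))) := by
  unfold dLin
  rw [LinearMap.comp_apply, LinearMap.comp_apply, LinearEquiv.coe_coe, LinearEquiv.coe_coe,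
    LinearEquiv.apply_symm_apply, exteriorPower.map_apply_ιMulti]
  rfl

lemma dLin_nat (p : ℕ) (U V : X.affineOpens) (h : V.1 ≤ U.1) (x : Γ(C.K.X p, U.1)) :
    (D.K.X p).val.map (homOfLE h).op (dLin f C D p U x) =
      dLin f C D p V ((C.K.X p).val.map (homOfLE h).op x) := by
  obtain ⟨ω, rfl⟩ := (C.loc p U).symm.surjective x
  have hω : ω ∈ Submodule.span Γ(X, U.1)
      (Set.range (exteriorPower.ιMulti Γ(X, U.1) p (M := Γ(E, U.1)))) := by
    rw [exteriorPower.ιMulti_span]
    trivial
  induction hω using Submodule.span_induction with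
  | mem ω hω =>
    obtain ⟨v, rfl⟩ := hω
    rw [dLin_gen, D.loc_res p U V h, C.loc_res p U V h, dLin_gen]
    congr 2
    funext j
    exact f_res f h (v j)
  | zero =>
    have e1 : (C.loc p U).symm 0 = 0 := map_zero _
    have e2 : dLin f C D p U 0 = 0 := map_zero _
    have e3 : (D.K.X p).val.map (homOfLE h).op (0 : Γ(D.K.X p, U.1)) = 0 := map_zero _
    have e4 : (C.K.X p).val.map (homOfLE h).op (0 : Γ(C.K.X p, U.1)) = 0 := map_zero _
    rw [e1, e2, e3, e4]
    exact (map_zero (dLin f C D p V)).symm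
  | add a b _ _ ha hb =>
    have e1 : (C.loc p U).symm (a + b) = (C.loc p U).symm a + (C.loc p U).symm b := map_add _ _ _
    have e2 : dLin f C D p U ((C.loc p U).symm a + (C.loc p U).symm b) =
        dLin f C D p U ((C.loc p U).symm a) + dLin f C D p U ((C.loc p U).symm b) := map_add _ _ _
    have e3 : (D.K.X p).val.map (homOfLE h).op
        (dLin f C D p U ((C.loc p U).symm a) + dLin f C D p U ((C.loc p U).symm b)) =
        (D.K.X p).val.map (homOfLE h).op (dLin f C D p U ((C.loc p U).symm a)) +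
          (D.K.X p).val.map (homOfLE h).op (dLin f C D p U ((C.loc p U).symm b)) := map_add _ _ _
    have e4 : (C.K.X p).val.map (homOfLE h).op ((C.loc p U).symm a + (C.loc p U).symm b) =
        (C.K.X p).val.map (homOfLE h).op ((C.loc p U).symm a) +
          (C.K.X p).val.map (homOfLE h).op ((C.loc p U).symm b) := map_add _ _ _
    rw [e1, e2, e3, e4, ha, hb]
    exact (map_add (dLin f C D p V) _ _).symm
  | smul a ω _ ih =>
    have e1 : (C.loc p U).symm (a • ω) = a • (C.loc p U).symm ω := map_smul _ _ _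
    have e2 : dLin f C D p U (a • (C.loc p U).symm ω) = a • dLin f C D p U ((C.loc p U).symm ω) :=
      map_smul _ _ _
    have e3 : (D.K.X p).val.map (homOfLE h).op (a • dLin f C D p U ((C.loc p U).symm ω)) =
        (X.ringCatSheaf.obj.map (homOfLE h).op a) •
          (D.K.X p).val.map (homOfLE h).op (dLin f C D p U ((C.loc p U).symm ω)) :=
      PresheafOfModules.map_smul (D.K.X p).val (homOfLE h).op a _
    have e4 : (C.K.X p).val.map (homOfLE h).op (a • (C.loc p U).symm ω) =
        (X.ringCatSheaf.obj.map (homOfLE h).op a) •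
          (C.K.X p).val.map (homOfLE h).op ((C.loc p U).symm ω) :=
      PresheafOfModules.map_smul (C.K.X p).val (homOfLE h).op a _
    rw [e1, e2, e3, e4, ih]
    exact (map_smul (dLin f C D p V) _ _).symm

/-- the components as morphisms of abelian groups -/
noncomputable def dAb (p : ℕ) (U : X.affineOpens) : Γ(C.K.X p, U.1) ⟶ Γ(D.K.X p, U.1) :=
  AddCommGrpCat.ofHom (dLin f C D p U).toAddMonoidHom

/-- **the degree `p` component `Λ^p f : K_p(E, s) ⟶ K_p(F, t)`** -/
noncomputable def comp (p : ℕ) : C.K.X p ⟶ D.K.X p :=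
  Groth.Agent.Helper13ModBasis.homOfBasis (fun U : X.affineOpens => U.1) isBasis_aff
    (dAb f C D p)
    (fun U V h => by
      ext x
      exact (dLin_nat f C D p U V h x).symm)
    (fun U a m => map_smul (dLin f C D p U) a m)

theorem comp_app (p : ℕ) (U : X.affineOpens) (x : Γ(C.K.X p, U.1)) :
    (comp f C D p).app U.1 x = dLin f C D p U x := by
  have h := Groth.Agent.Helper13ModBasis.homOfBasis_app (fun U : X.affineOpens => U.1) isBasis_aff
    (dAb f C D p)
    (fun U V h => by
      ext x
      exact (dLin_nat f C D p U V h x).symm)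
    (fun U a m => map_smul (dLin f C D p U) a m) U
  exact congrArg (fun φ => φ x) (congrArg (fun φ => (ConcreteCategory.hom φ : _ → _)) h)

theorem comp_gen (p : ℕ) (U : X.affineOpens) (e : Fin p → Γ(E, U.1)) :
    (comp f C D p).app U.1 ((C.loc p U).symm (ιMulti _ p e)) =
      (D.loc p U).symm (ιMulti _ p (fun j => f.app U.1 (e j))) := by
  rw [comp_app, dLin_gen]

/-- a morphism out of `K_p` is determined by its values on decomposable sections over affine opens -/
theorem hom_ext_gen {M : X.Modules} (p : ℕ) (a b : C.K.X p ⟶ M)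
    (h : ∀ (U : X.affineOpens) (e : Fin p → Γ(E, U.1)),
      a.app U.1 ((C.loc p U).symm (ιMulti _ p e)) = b.app U.1 ((C.loc p U).symm (ιMulti _ p e))) :
    a = b := by
  refine Groth.Agent.Helper13ModBasis.hom_ext_basis (fun U : X.affineOpens => U.1) isBasis_aff
    a b fun U => ?_
  ext x
  obtain ⟨ω, rfl⟩ := (C.loc p U).symm.surjective x
  have hω : ω ∈ Submodule.span Γ(X, U.1)
      (Set.range (exteriorPower.ιMulti Γ(X, U.1) p (M := Γ(E, U.1)))) := by
    rw [exteriorPower.ιMulti_span]
    trivial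
  induction hω using Submodule.span_induction with
  | mem ω hω =>
    obtain ⟨v, rfl⟩ := hω
    exact h U v
  | zero =>
    rw [map_zero, map_zero, map_zero]
  | add x y _ _ hx hy =>
    have e1 : (C.loc p U).symm (x + y) = (C.loc p U).symm x + (C.loc p U).symm y := map_add _ _ _
    rw [e1, map_add, map_add, hx, hy]
  | smul r ω _ ih =>
    have e1 : (C.loc p U).symm (r • ω) = r • (C.loc p U).symm ω := map_smul _ _ _
    rw [e1, Scheme.Modules.Hom.app_smul, Scheme.Modules.Hom.app_smul, ih]

include s in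
lemma secForm_comp (hf : f ≫ t = s) (U : X.Opens) (e : Γ(E, U)) :
    KoszSh.secForm t U (f.app U e) = KoszSh.secForm s U e := by
  subst hf
  rfl

lemma map_dGen (hf : f ≫ t = s) (p : ℕ) (U : X.Opens) (e : Fin (p + 1) → Γ(E, U)) :
    exteriorPower.map p (fLin f U) (KoszSh.dGen (KoszSh.secForm s U) p e) =
      KoszSh.dGen (KoszSh.secForm t U) p (fun j => f.app U (e j)) := by
  unfold KoszSh.dGen
  rw [map_sum]
  refine Finset.sum_congr rfl fun i _ => ?_
  rw [map_smul, exteriorPower.map_apply_ιMulti, ← secForm_comp f hf]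
  rfl

lemma comm (hf : f ≫ t = s) (p : ℕ) :
    comp f C D (p + 1) ≫ D.K.d (p + 1) p = C.K.d (p + 1) p ≫ comp f C D p := by
  refine hom_ext_gen C (p + 1) _ _ fun U e => ?_
  change (D.K.d (p + 1) p).app U.1 ((comp f C D (p + 1)).app U.1 _) =
    (comp f C D p).app U.1 ((C.K.d (p + 1) p).app U.1 _)
  rw [comp_gen, D.rule, C.rule, comp_app]
  unfold dLin
  rw [LinearMap.comp_apply, LinearMap.comp_apply, LinearEquiv.coe_coe, LinearEquiv.coe_coe,
    LinearEquiv.apply_symm_apply, map_dGen f hf]

/-- **the chain map `Λ^• f : K(E, s) ⟶ K(F, t)`** -/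
noncomputable def chainMap (hf : f ≫ t = s) : C.K ⟶ D.K where
  f p := comp f C D p
  comm' i j hij := by
    have hij' : j + 1 = i := hij
    subst hij'
    exact comm f C D hf j

@[simp] lemma chainMap_f (hf : f ≫ t = s) (p : ℕ) : (chainMap f C D hf).f p = comp f C D p := rfl

theorem chainMap_gen (hf : f ≫ t = s) (p : ℕ) (U : X.affineOpens) (e : Fin p → Γ(E, U.1)) :
    ((chainMap f C D hf).f p).app U.1 ((C.loc p U).symm (ιMulti _ p e)) =
      (D.loc p U).symm (ιMulti _ p (fun j => f.app U.1 (e j))) :=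
  comp_gen f C D p U e

theorem chainMap_unique (hf : f ≫ t = s) (φ : C.K ⟶ D.K)
    (h : ∀ (p : ℕ) (U : X.affineOpens) (e : Fin p → Γ(E, U.1)),
      (φ.f p).app U.1 ((C.loc p U).symm (ιMulti _ p e)) =
        (D.loc p U).symm (ιMulti _ p (fun j => f.app U.1 (e j)))) :
    φ = chainMap f C D hf := by
  ext p : 1
  refine hom_ext_gen C p _ _ fun U e => ?_
  rw [h, chainMap_gen]

end Map

end Groth.Agent.Lib.R2H2.KoszMap
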