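import Groth.Agent.Lib.R2H2KoszTwA
import Groth.Agent.Lib.R2H2LocFreeTF
import Groth.Agent.Lib.Helper23Extend

/-!
# Twisted Koszul complexes: kernels (helper2, round 2)

Namespace `Groth.Agent.Lib.R2H2.KoszTwB`.
* `kernelSubobject_le_of_basis`.
* `GoodOpen F L`, `isBasis_good` : affine opens with a generator of `L` and a basis of `Γ(F, U)`.
* `kernel_eq` (S16093).
-/

set_option backward.isDefEq.respectTransparency.types false
set_option autoImplicit false
set_option linter.unusedSectionVars false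
universe u

namespace Groth.Agent.Lib.R2H2.KoszTwB

open CategoryTheory CategoryTheory.Limits AlgebraicGeometry Opposite TopologicalSpace exteriorPower
open Groth.Agent.Lib.Helper23.SecTw Groth.Agent.Lib.Helper6 Groth.Agent.Lib.Helper23.GenLocus
open Groth.Agent.Lib.R2H2.KoszMap Groth.Agent.Lib.R2H2.KoszTwA

variable {X : Scheme.{u}}

/-- comparison of kernel subobjects from sections over a basis -/
theorem kernelSubobject_le_of_basis {ι : Type*} (B : ι → X.Opens) (hB : Opens.IsBasis (Set.range B))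
    {M N N' : X.Modules} (a : M ⟶ N) (b : M ⟶ N')
    (h : ∀ (i : ι) (x : Γ(M, B i)), a.app (B i) x = 0 → b.app (B i) x = 0) :
    kernelSubobject a ≤ kernelSubobject b := by
  refine le_kernelSubobject _ _ ?_
  refine Groth.Agent.Helper13ModBasis.hom_ext_basis B hB _ _ fun i => ?_
  ext x
  change b.app (B i) ((kernelSubobject a).arrow.app (B i) x) = 0
  refine h i _ ?_
  change ((kernelSubobject a).arrow ≫ a).app (B i) x = 0
  rw [kernelSubobject_arrow_comp]
  rfl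

/-- a non-zero-divisor acts injectively on a free module -/
theorem eq_zero_of_smul_eq_zero_of_free {R M : Type*} [CommRing R] [AddCommGroup M] [Module R M]
    [Module.Free R M] {a : R} (ha : ∀ r : R, r * a = 0 → r = 0) (x : M) (h : a • x = 0) : x = 0 := by
  let b := Module.Free.chooseBasis R M
  apply b.repr.injective
  rw [map_zero]
  ext i
  have h1 : b.repr (a • x) i = 0 := by rw [h, map_zero]; rfl
  rw [map_smul, Finsupp.smul_apply, smul_eq_mul, mul_comm] at h1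
  exact ha _ h1

/-- around every point of an open there is an affine open inside it over which a finite locally free module
has a basis -/
theorem exists_affine_basis_le' (E : X.Modules) (hE : FlatMod.IsFinLocFree E)
    (W₀ : X.Opens) (y : X) (hy : y ∈ W₀) :
    ∃ W : X.Opens, IsAffineOpen W ∧ y ∈ W ∧ W ≤ W₀ ∧ Module.Free Γ(X, W) Γ(E, W) := by
  obtain ⟨T, r, hyT, ⟨ε⟩⟩ := hE y
  obtain ⟨ε'⟩ := Groth.Agent.Lib.Helper1.FLF.nonempty_restrict_iso_freeMod_of_le E
    (inf_le_left : T ⊓ W₀ ≤ T) ε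
  obtain ⟨V, hV, hyV, ⟨hb⟩⟩ :=
    Groth.Agent.Lib.R2H2.LocFreeTF.exists_affine_basis_image E (T ⊓ W₀).ι ε' ⟨y, hyT, hy⟩
  refine ⟨(T ⊓ W₀).ι ''ᵁ V, hV.image_of_isOpenImmersion _, ⟨⟨y, hyT, hy⟩, hyV, rfl⟩, ?_,
    Module.Free.of_basis hb⟩
  exact ((T ⊓ W₀).ι_image_le V).trans inf_le_right

/-- good opens: affine, `L` has a generator, `Γ(F, U)` is free -/
def Good (F L : X.Modules) (U : X.affineOpens) : Prop :=
  (∃ g : Γ(L, U.1), IsGen L U.1 g) ∧ Module.Free Γ(X, U.1) Γ(F, U.1)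

/-- the type of good opens -/
def GoodOpen (F L : X.Modules) : Type u := {U : X.affineOpens // Good F L U}

/-- the underlying open -/
def GoodOpen.op {F L : X.Modules} (U : GoodOpen F L) : X.Opens := U.1.1

/-- a chosen generator -/
noncomputable def GoodOpen.gen {F L : X.Modules} (U : GoodOpen F L) : Γ(L, U.op) := U.2.1.choose

lemma GoodOpen.isGen {F L : X.Modules} (U : GoodOpen F L) : IsGen L U.op U.gen := U.2.1.choose_spec

lemma GoodOpen.free {F L : X.Modules} (U : GoodOpen F L) : Module.Free Γ(X, U.op) Γ(F, U.op) := U.2.2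

theorem isBasis_good (F L : X.Modules) (hF : FlatMod.IsFinLocFree F) (hL : PicF.IsInvertible L) :
    Opens.IsBasis (Set.range fun U : GoodOpen F L => U.op) := by
  rw [Opens.isBasis_iff_nbhd]
  intro O x hx
  obtain ⟨W, e, hxW, hgen⟩ := exists_gen L hL x
  obtain ⟨V, hV, hxV, hVW, hfree⟩ := exists_affine_basis_le' F hF (W ⊓ O) x ⟨hxW, hx⟩
  exact ⟨V, ⟨⟨⟨V, hV⟩, ⟨res L (hVW.trans inf_le_left) e, hgen.mono _⟩, hfree⟩, rfl⟩, hxV,
    hVW.trans inf_le_right⟩

section Local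

variable {F L : X.Modules} {s : F ⟶ Coh.structureModule X} {lam : Coh.structureModule X ⟶ L}
  {t : CohB1.tensorMod F L ⟶ Coh.structureModule X}

/-- tensoring with a generator is a linear equivalence -/
noncomputable def tmEquiv (U : X.Opens) (g : Γ(L, U)) (hg : IsGen L U g) :
    Γ(F, U) ≃ₗ[Γ(X, U)] Γ(CohB1.tensorMod F L, U) :=
  LinearEquiv.ofBijective (tmR F L U g) (by
    have h := bijective_tm_of_isGen F L U g hg U le_rfl
    have e : (fun t : Γ(F, U) => tm F L U t (res L le_rfl g)) = tmR F L U g := by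
      funext t
      rw [res_self]
      rfl
    rwa [e] at h)

/-- the exterior power of tensoring with a generator -/
noncomputable def Ψ (p : ℕ) (U : X.Opens) (g : Γ(L, U)) :
    ↥(⋀[Γ(X, U)]^p Γ(F, U)) →ₗ[Γ(X, U)] ↥(⋀[Γ(X, U)]^p Γ(CohB1.tensorMod F L, U)) :=
  exteriorPower.map p (tmR F L U g)

lemma Ψ_ιMulti (p : ℕ) (U : X.Opens) (g : Γ(L, U)) (f : Fin p → Γ(F, U)) :
    Ψ p U g (ιMulti _ p f) = ιMulti _ p (fun i => tm F L U (f i) g) := by
  unfold Ψ
  rw [exteriorPower.map_apply_ιMulti]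
  rfl

lemma Ψ_injective (p : ℕ) (U : X.Opens) (g : Γ(L, U)) (hg : IsGen L U g) :
    Function.Injective (Ψ (F := F) p U g) := by
  refine exteriorPower.map_injective (tmEquiv (F := F) U g hg).symm.toLinearMap ?_
  ext x
  exact (tmEquiv (F := F) U g hg).symm_apply_apply x

lemma Ψ_surjective (p : ℕ) (U : X.Opens) (g : Γ(L, U)) (hg : IsGen L U g) :
    Function.Surjective (Ψ (F := F) p U g) :=
  exteriorPower.map_surjective (tmEquiv (F := F) U g hg).surjective

/-- the coefficient of `λ(1)` is a non-zero-divisor -/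
theorem nzd_of_mono [Mono lam] (U : X.Opens) (g : Γ(L, U)) (a : Γ(X, U))
    (ha : lam.app U (toS U 1) = a • g) (r : Γ(X, U)) (hr : r * a = 0) : r = 0 := by
  have h1 : lam.app U (toS U r) = 0 := by
    have h2 : toS U r = r • toS U 1 := by rw [smul_toS, mul_one]
    rw [h2, Scheme.Modules.Hom.app_smul, ha, ← mul_smul, hr, zero_smul]
  have h3 := Groth.Agent.Lib.Helper23.Extend.injective_app_of_mono lam U (h1.trans (map_zero _).symm)
  exact h3

/-- `t(f ⊗ g) · a = s(f)` -/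
theorem coef_eq (htri : KoszTw.TwistTriangle s lam t) (U : X.Opens) (g : Γ(L, U)) (hg : IsGen L U g)
    (a : Γ(X, U)) (ha : lam.app U (toS U 1) = a • g) (f : Γ(F, U)) :
    KoszSh.secForm t U (tm F L U f g) * a = KoszSh.secForm s U f := by
  have h1 := triangle_smul htri U f g
  rw [ha, ← mul_smul] at h1
  have h2 := (hg U le_rfl).1
  have h3 : res L (le_refl U) g = g := res_self L g
  rw [h3] at h2
  exact h2 h1

variable (C : KoszSh.Cx F s) (D : KoszSh.Cx (CohB1.tensorMod F L) t) (q : ℕ)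

/-- the first map of S16093 -/
noncomputable def m₁ (θ : KoszTw.CxDecData C D (q + 1)) :
    D.K.X (q + 1) ⟶ CohB1.tensorMod (C.K.X q) (CohB1.tensorPow L (q + 1)) :=
  θ.iso.hom ≫ KoszTw.tensorMap (C.K.d (q + 1) q) (𝟙 (CohB1.tensorPow L (q + 1)))

theorem m₁_eq (θ : KoszTw.CxDecData C D (q + 1)) (U : X.affineOpens) (g : Γ(L, U.1))
    (ω : ↥(⋀[Γ(X, U.1)]^(q + 1) Γ(F, U.1))) :
    (m₁ C D q θ).app U.1 ((D.loc (q + 1) U).symm (Ψ (q + 1) U.1 g ω)) =
      tm (C.K.X q) (CohB1.tensorPow L (q + 1)) U.1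
        ((C.K.d (q + 1) q).app U.1 ((C.loc (q + 1) U).symm ω)) (pw L U.1 g (q + 1)) := by
  let T₁ : ↥(⋀[Γ(X, U.1)]^(q + 1) Γ(F, U.1)) →ₗ[Γ(X, U.1)]
      Γ(CohB1.tensorMod (C.K.X q) (CohB1.tensorPow L (q + 1)), U.1) :=
    fLin (m₁ C D q θ) U.1 ∘ₗ (D.loc (q + 1) U).symm.toLinearMap ∘ₗ Ψ (q + 1) U.1 g
  let T₂ : ↥(⋀[Γ(X, U.1)]^(q + 1) Γ(F, U.1)) →ₗ[Γ(X, U.1)]
      Γ(CohB1.tensorMod (C.K.X q) (CohB1.tensorPow L (q + 1)), U.1) :=
    tmR (C.K.X q) (CohB1.tensorPow L (q + 1)) U.1 (pw L U.1 g (q + 1)) ∘ₗ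
      fLin (C.K.d (q + 1) q) U.1 ∘ₗ (C.loc (q + 1) U).symm.toLinearMap
  have h : T₁ = T₂ := by
    refine exteriorPower.linearMap_ext (AlternatingMap.ext fun f => ?_)
    change (m₁ C D q θ).app U.1 ((D.loc (q + 1) U).symm (Ψ (q + 1) U.1 g (ιMulti _ (q + 1) f))) =
      tm (C.K.X q) (CohB1.tensorPow L (q + 1)) U.1
        ((C.K.d (q + 1) q).app U.1 ((C.loc (q + 1) U).symm (ιMulti _ (q + 1) f))) (pw L U.1 g (q + 1))
    rw [Ψ_ιMulti]
    unfold m₁
    change (KoszTw.tensorMap (C.K.d (q + 1) q) (𝟙 (CohB1.tensorPow L (q + 1)))).app U.1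
      (θ.iso.hom.app U.1 _) = _
    have h2 := θ.rule U f (fun _ => g)
    rw [tprod_const] at h2
    refine (congrArg (fun z => (KoszTw.tensorMap (C.K.d (q + 1) q)
      (𝟙 (CohB1.tensorPow L (q + 1)))).app U.1 z) h2).trans ?_
    exact KoszTw.tensorMap_tmul _ _ U.1 _ _
  exact congrArg (fun T => T ω) h

theorem delta_eq (htri : KoszTw.TwistTriangle s lam t) (U : X.affineOpens) (g : Γ(L, U.1))
    (hg : IsGen L U.1 g) (a : Γ(X, U.1)) (ha : lam.app U.1 (toS U.1 1) = a • g)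
    (ω : ↥(⋀[Γ(X, U.1)]^(q + 1) Γ(F, U.1))) :
    a • (D.K.d (q + 1) q).app U.1 ((D.loc (q + 1) U).symm (Ψ (q + 1) U.1 g ω)) =
      (D.loc q U).symm (Ψ q U.1 g ((C.loc q U)
        ((C.K.d (q + 1) q).app U.1 ((C.loc (q + 1) U).symm ω)))) := by
  let T₁ : ↥(⋀[Γ(X, U.1)]^(q + 1) Γ(F, U.1)) →ₗ[Γ(X, U.1)] Γ(D.K.X q, U.1) :=
    a • (fLin (D.K.d (q + 1) q) U.1 ∘ₗ (D.loc (q + 1) U).symm.toLinearMap ∘ₗ Ψ (q + 1) U.1 g)
  let T₂ : ↥(⋀[Γ(X, U.1)]^(q + 1) Γ(F, U.1)) →ₗ[Γ(X, U.1)] Γ(D.K.X q, U.1) :=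
    (D.loc q U).symm.toLinearMap ∘ₗ Ψ q U.1 g ∘ₗ (C.loc q U).toLinearMap ∘ₗ
      fLin (C.K.d (q + 1) q) U.1 ∘ₗ (C.loc (q + 1) U).symm.toLinearMap
  have h : T₁ = T₂ := by
    refine exteriorPower.linearMap_ext (AlternatingMap.ext fun f => ?_)
    change a • (D.K.d (q + 1) q).app U.1 ((D.loc (q + 1) U).symm (Ψ (q + 1) U.1 g (ιMulti _ (q + 1) f))) =
      (D.loc q U).symm (Ψ q U.1 g ((C.loc q U)
        ((C.K.d (q + 1) q).app U.1 ((C.loc (q + 1) U).symm (ιMulti _ (q + 1) f)))))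
    rw [Ψ_ιMulti, D.rule, C.rule, LinearEquiv.apply_symm_apply, ← map_smul]
    congr 1
    rw [lin_dGen]
    unfold KoszSh.dGen
    rw [Finset.smul_sum]
    refine Finset.sum_congr rfl fun i _ => ?_
    rw [Ψ_ιMulti, ← mul_smul, ← coef_eq htri U.1 g hg a ha (f i)]
    congr 1
    ring
  exact congrArg (fun T => T ω) h

/-- sections of `K_q(F ⊗ L)` over a good open form a free module -/
theorem free_D (U : X.affineOpens) (g : Γ(L, U.1)) (hg : IsGen L U.1 g)
    (hfree : Module.Free Γ(X, U.1) Γ(F, U.1)) : Module.Free Γ(X, U.1) Γ(D.K.X q, U.1) := by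
  haveI := hfree
  haveI : Module.Free Γ(X, U.1) Γ(CohB1.tensorMod F L, U.1) :=
    Module.Free.of_equiv (tmEquiv (F := F) U.1 g hg)
  exact Module.Free.of_equiv (D.loc q U).symm

theorem local_iff [Mono lam] (htri : KoszTw.TwistTriangle s lam t) (θ : KoszTw.CxDecData C D (q + 1))
    (U : X.affineOpens) (g : Γ(L, U.1)) (hg : IsGen L U.1 g)
    (hfree : Module.Free Γ(X, U.1) Γ(F, U.1)) (x : Γ(D.K.X (q + 1), U.1)) :
    (m₁ C D q θ).app U.1 x = 0 ↔ (D.K.d (q + 1) q).app U.1 x = 0 := by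
  obtain ⟨ω', rfl⟩ := (D.loc (q + 1) U).symm.surjective x
  obtain ⟨ω, rfl⟩ := Ψ_surjective (F := F) (q + 1) U.1 g hg ω'
  obtain ⟨a, ha⟩ : ∃ a : Γ(X, U.1), lam.app U.1 (toS U.1 1) = a • g := by
    obtain ⟨a, ha⟩ := (hg U.1 le_rfl).2 (lam.app U.1 (toS U.1 1))
    refine ⟨a, ?_⟩
    rw [← ha]
    change a • res L (le_refl U.1) g = a • g
    rw [res_self]
  have hnzd := nzd_of_mono (lam := lam) U.1 g a ha
  have hA := m₁_eq C D q θ U g ω
  have hB := delta_eq C D q htri U g hg a ha ω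
  have hP : IsGen (CohB1.tensorPow L (q + 1)) U.1 (pw L U.1 g (q + 1)) := isGen_pw L U.1 g hg (q + 1)
  have hinj := injective_tm_of_isGen (C.K.X q) (CohB1.tensorPow L (q + 1)) U.1 _ hP U.1 le_rfl
  rw [res_self] at hinj
  constructor
  · intro h0
    rw [hA] at h0
    have hdc : (C.K.d (q + 1) q).app U.1 ((C.loc (q + 1) U).symm ω) = 0 := by
      apply hinj
      change tm _ _ U.1 _ _ = tm _ _ U.1 0 _
      rw [h0, tm_zero_left]
    rw [hdc, map_zero, map_zero, map_zero] at hB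
    haveI := free_D D q U g hg hfree
    exact eq_zero_of_smul_eq_zero_of_free hnzd _ hB
  · intro h0
    rw [h0, smul_zero] at hB
    have h1 : Ψ q U.1 g ((C.loc q U) ((C.K.d (q + 1) q).app U.1 ((C.loc (q + 1) U).symm ω))) = 0 := by
      apply (D.loc q U).symm.injective
      rw [← hB, map_zero]
    have h2 : (C.loc q U) ((C.K.d (q + 1) q).app U.1 ((C.loc (q + 1) U).symm ω)) = 0 := by
      apply Ψ_injective (F := F) q U.1 g hg
      rw [h1, map_zero]
    have h3 : (C.K.d (q + 1) q).app U.1 ((C.loc (q + 1) U).symm ω) = 0 := by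
      apply (C.loc q U).injective
      rw [h2, map_zero]
    rw [hA, h3, tm_zero_left]

/-- **S16093** -/
theorem kernel_eq [Mono lam] (hF : FlatMod.IsFinLocFree F) (hL : PicF.IsInvertible L)
    (htri : KoszTw.TwistTriangle s lam t) (θ : KoszTw.CxDecData C D (q + 1)) :
    kernelSubobject (m₁ C D q θ) = kernelSubobject (D.K.d (q + 1) q) := by
  refine le_antisymm ?_ ?_
  · exact kernelSubobject_le_of_basis (fun U : GoodOpen F L => U.op) (isBasis_good F L hF hL) _ _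
      fun U x hx => (local_iff C D q htri θ U.1 U.gen U.isGen U.free x).1 hx
  · exact kernelSubobject_le_of_basis (fun U : GoodOpen F L => U.op) (isBasis_good F L hF hL) _ _
      fun U x hx => (local_iff C D q htri θ U.1 U.gen U.isGen U.free x).2 hx

end Local

end Groth.Agent.Lib.R2H2.KoszTwB
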