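import Groth.Prelude.Def_KoszulSh
import Groth.Prelude.Def_FlatMod2
import Groth.Agent.Lib.R2H2KoszAlg
import Groth.Agent.Lib.R2H2KoszMap
import Groth.Agent.Lib.R2H2KoszTwB
import Groth.Agent.Lib.R2H2PullLF
import Groth.Agent.Lib.Helper2FPAff

/-!
# Acyclicity of the Koszul complex of a regular cosection of a locally free module (helper2, round 2)

Namespace `Groth.Agent.Lib.R2H2.KoszExact`.
* `exact_of_basis` : exactness of a short complex of `O_X`-modules from exactness of sections over a basis.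
* `exists_basis_basicOpen'`, `secForm_res`, `Good`, `good_basicOpen`, `isBasis_good`.
* `locD_eq`, `sections_exact`, `isZero_homology` (S15899).
-/

set_option backward.isDefEq.respectTransparency.types false
set_option autoImplicit false
set_option linter.unusedSectionVars false
universe u

namespace Groth.Agent.Lib.R2H2.KoszExact

open CategoryTheory CategoryTheory.Limits AlgebraicGeometry Opposite TopologicalSpace exteriorPower
open Groth.Agent.Lib.R2H2.KoszMap Groth.Agent.Lib.R2H2.KoszTwB Groth.Agent.Lib.R2H2.KoszAlg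
open Groth.Agent.Lib.Helper2.FPAff

variable {X : Scheme.{u}}

/-- exactness of a short complex of `O_X`-modules from exactness on sections over a basis -/
theorem exact_of_basis {ι : Type*} (B : ι → X.Opens) (hB : Opens.IsBasis (Set.range B))
    (S : ShortComplex X.Modules)
    (h : ∀ (i : ι) (x : Γ(S.X₂, B i)), S.g.app (B i) x = 0 →
      ∃ y : Γ(S.X₁, B i), S.f.app (B i) y = x) : S.Exact := by
  rw [ShortComplex.exact_iff_image_eq_kernel]
  refine le_antisymm (image_le_kernel S.f S.g S.zero) ?_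
  have e : imageSubobject S.f = kernelSubobject (cokernel.π S.f) :=
    (ShortComplex.exact_iff_image_eq_kernel
      (ShortComplex.mk S.f (cokernel.π S.f) (cokernel.condition S.f))).1
        (ShortComplex.exact_cokernel S.f)
  rw [e]
  refine kernelSubobject_le_of_basis B hB S.g (cokernel.π S.f) fun i x hx => ?_
  obtain ⟨y, rfl⟩ := h i x hx
  change (S.f ≫ cokernel.π S.f).app (B i) y = 0
  rw [cokernel.condition]
  rfl

/-- a basis restricts to basic opens -/
theorem exists_basis_basicOpen' (L : X.Modules) [L.IsQuasicoherent] {W : X.Opens}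
    (hW : IsAffineOpen W) {ι : Type*} (b : Module.Basis ι Γ(X, W) Γ(L, W)) (g : Γ(X, W)) :
    ∃ b' : Module.Basis ι Γ(X, X.basicOpen g) Γ(L, X.basicOpen g),
      ∀ i, b' i = L.presheaf.map (homOfLE (X.basicOpen_le g)).op (b i) := by
  letI := moduleRes L (X.basicOpen_le g)
  letI : Algebra Γ(X, W) Γ(X, X.basicOpen g) :=
    (X.presheaf.map (homOfLE (X.basicOpen_le g)).op).hom.toAlgebra
  haveI : IsLocalization.Away g Γ(X, X.basicOpen g) := hW.isLocalization_basicOpen g
  haveI : IsScalarTower Γ(X, W) Γ(X, X.basicOpen g) Γ(L, X.basicOpen g) :=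
    IsScalarTower.of_algebraMap_smul fun r m => rfl
  haveI := isLocalizedModule_basicOpen L hW g
  refine ⟨b.ofIsLocalizedModule Γ(X, X.basicOpen g) (Submonoid.powers g)
    (resₗ L (X.basicOpen_le g)), fun i => ?_⟩
  rw [Module.Basis.ofIsLocalizedModule_apply]
  rfl

section Good

variable {E : X.Modules} (s : E ⟶ Coh.structureModule X)

lemma secForm_res {U V : X.Opens} (h : V ≤ U) (e : Γ(E, U)) :
    X.presheaf.map (homOfLE h).op (KoszSh.secForm s U e) =
      KoszSh.secForm s V (E.presheaf.map (homOfLE h).op e) :=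
  f_res s h e

/-- good opens: affine opens over which `E` has a basis mapping to a weakly regular sequence -/
def Good (n : ℕ) (U : X.affineOpens) : Prop :=
  ∃ b : Module.Basis (Fin n) Γ(X, U.1) Γ(E, U.1),
    RingTheory.Sequence.IsWeaklyRegular Γ(X, U.1) (List.ofFn fun k => KoszSh.secForm s U.1 (b k))

/-- the type of good opens -/
def GoodOpen (n : ℕ) : Type u := {U : X.affineOpens // Good s n U}

theorem good_basicOpen [E.IsQuasicoherent] (n : ℕ) (U : X.affineOpens) (h : Good s n U)
    (g : Γ(X, U.1)) : Good s n ⟨X.basicOpen g, U.2.basicOpen g⟩ := by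
  obtain ⟨b, reg⟩ := h
  obtain ⟨b', hb'⟩ := exists_basis_basicOpen' E U.2 b g
  refine ⟨b', ?_⟩
  letI : Algebra Γ(X, U.1) Γ(X, X.basicOpen g) :=
    (X.presheaf.map (homOfLE (X.basicOpen_le g)).op).hom.toAlgebra
  haveI : IsLocalization.Away g Γ(X, X.basicOpen g) := U.2.isLocalization_basicOpen g
  have reg' := RingTheory.Sequence.IsWeaklyRegular.of_isLocalization Γ(X, X.basicOpen g)
    (Submonoid.powers g) reg
  rw [List.map_ofFn] at reg'
  have e : (fun k => KoszSh.secForm s (X.basicOpen g) (b' k)) =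
      (algebraMap Γ(X, U.1) Γ(X, X.basicOpen g)) ∘ fun k => KoszSh.secForm s U.1 (b k) := by
    funext k
    rw [hb' k]
    exact (secForm_res s (X.basicOpen_le g) (b k)).symm
  rw [e]
  exact reg'

theorem isBasis_good [E.IsQuasicoherent] (n : ℕ)
    (hs : ∀ x : X, ∃ U : X.affineOpens, x ∈ U.1 ∧ Good s n U) :
    Opens.IsBasis (Set.range fun U : GoodOpen s n => U.1.1) := by
  rw [Opens.isBasis_iff_nbhd]
  intro O x hx
  obtain ⟨U, hxU, hU⟩ := hs x
  obtain ⟨g, hg, hxg⟩ := U.2.exists_basicOpen_le (V := O ⊓ U.1) ⟨x, ⟨hx, hxU⟩⟩ hxU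
  exact ⟨X.basicOpen g, ⟨⟨⟨X.basicOpen g, U.2.basicOpen g⟩, good_basicOpen s n U hU g⟩, rfl⟩, hxg,
    hg.trans inf_le_left⟩

end Good

section Local

variable {E : X.Modules} {s : E ⟶ Coh.structureModule X} (C : KoszSh.Cx E s)

/-- the differential of the Koszul complex on sections over an affine open, read through `loc` -/
noncomputable def locD (q : ℕ) (U : X.affineOpens) :
    ⋀[Γ(X, U.1)]^(q + 1) Γ(E, U.1) →ₗ[Γ(X, U.1)] ⋀[Γ(X, U.1)]^q Γ(E, U.1) :=
  (C.loc q U).toLinearMap ∘ₗ fLin (C.K.d (q + 1) q) U.1 ∘ₗ (C.loc (q + 1) U).symm.toLinearMap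

lemma locD_apply (q : ℕ) (U : X.affineOpens) (x : ⋀[Γ(X, U.1)]^(q + 1) Γ(E, U.1)) :
    locD C q U x = C.loc q U ((C.K.d (q + 1) q).app U.1 ((C.loc (q + 1) U).symm x)) := rfl

theorem locD_eq (q : ℕ) (U : X.affineOpens) : locD C q U = dK (KoszSh.secForm s U.1) q := by
  refine exteriorPower.linearMap_ext (AlternatingMap.ext fun e => ?_)
  change locD C q U (ιMulti _ (q + 1) e) = dK (KoszSh.secForm s U.1) q (ιMulti _ (q + 1) e)
  rw [locD_apply, C.rule, LinearEquiv.apply_symm_apply, dK_ιMulti]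

/-- exactness on sections over a good open -/
theorem sections_exact (n : ℕ) (q : ℕ) (U : X.affineOpens) (hU : Good s n U)
    (t : Γ(C.K.X (q + 1), U.1)) (ht : (C.K.d (q + 1) q).app U.1 t = 0) :
    ∃ t' : Γ(C.K.X (q + 2), U.1), (C.K.d (q + 2) (q + 1)).app U.1 t' = t := by
  obtain ⟨b, reg⟩ := hU
  have h1 : dK (KoszSh.secForm s U.1) q (C.loc (q + 1) U t) = 0 := by
    rw [← locD_eq, locD_apply, LinearEquiv.symm_apply_apply, ht, map_zero]
  obtain ⟨y, hy⟩ := dK_exact b (KoszSh.secForm s U.1) reg q _ h1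
  refine ⟨(C.loc (q + 2) U).symm y, ?_⟩
  have h2 := congrArg (C.loc (q + 1) U).symm hy
  rw [← locD_eq, locD_apply, LinearEquiv.symm_apply_apply, LinearEquiv.symm_apply_apply] at h2
  exact h2

end Local

/-- **Koszul acyclicity** for a regular cosection of a finite locally free module -/
theorem isZero_homology (n : ℕ) (E : X.Modules) (hE : FlatMod.IsFinLocFreeOfRank n E)
    (s : E ⟶ Coh.structureModule X)
    (hs : ∀ x : X, ∃ U : X.affineOpens, x ∈ U.1 ∧ Good s n U)
    (C : KoszSh.Cx E s) (q : ℕ) (hq : 1 ≤ q) : IsZero (C.K.homology q) := by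
  obtain ⟨q, rfl⟩ : ∃ q', q = q' + 1 := ⟨q - 1, by omega⟩
  haveI : E.IsQuasicoherent :=
    Groth.Agent.Lib.R2H2.PullLF.isQuasicoherent_of_isFinLocFree E
      (fun x => by obtain ⟨U, hx, h⟩ := hE x; exact ⟨U, n, hx, h⟩)
  rw [← HomologicalComplex.exactAt_iff_isZero_homology,
    HomologicalComplex.exactAt_iff' C.K (q + 2) (q + 1) q (by simp) (by simp)]
  refine exact_of_basis (fun U : GoodOpen s n => U.1.1) (isBasis_good s n hs) _ fun U x hx => ?_
  exact sections_exact C n q U.1 U.2 x hx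

end Groth.Agent.Lib.R2H2.KoszExact
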