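import Groth.Prelude.Def_CechOX
import Groth.Agent.Lib.R2H2KoszExact
import Groth.Agent.Lib.Helper16CechLow

/-!
# The Čech complex of sheaves is a resolution (helper2, round 2)

Namespace `Groth.Agent.Lib.R2H2.CechShRes`.
* `secF`, `sec_ext`, `exists_sec` : sections of a product of `O_X`-modules are families of sections.
* `CKg`, `prg`, `d_prg` : components of the differential of Mathlib's `cechComplexFunctor` in any preadditive
  category with products.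
* `PF`, `CS`, `cechSh_obj`, `cmp`, `cmp_ext`, `exists_cmp`, `cmp_d`, `R`, `R_d` : sections of `CechOX.cechSh`.
* `exists_d_eq`, `exists_aug_eq`, `aug_injective`, `aug_d`, `isBasis_Sm` : local contraction (S6531).
-/

set_option backward.isDefEq.respectTransparency.types false
set_option autoImplicit false
set_option linter.unusedSectionVars false
universe u

namespace Groth.Agent.Lib.R2H2.CechShRes

section PartA


open CategoryTheory CategoryTheory.Limits AlgebraicGeometry Opposite TopologicalSpace CechOX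

variable {X : Scheme.{u}}

/-- sections over `V` as a functor to abelian groups -/
noncomputable def secF (V : X.Opens) : X.Modules ⥤ Ab.{u} :=
  Scheme.Modules.toPresheaf X ⋙ (evaluation (Opens ↥X)ᵒᵖ Ab.{u}).obj (op V)

noncomputable instance (V : X.Opens) : PreservesLimits (secF (X := X) V) :=
  haveI : PreservesLimits ((evaluation (Opens ↥X)ᵒᵖ Ab.{u}).obj (op V)) := inferInstance
  comp_preservesLimits (Scheme.Modules.toPresheaf X) ((evaluation (Opens ↥X)ᵒᵖ Ab.{u}).obj (op V))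

section Prod
variable {J : Type u} (G : J → X.Modules) (V : X.Opens)

theorem sec_ext (s t : Γ(∏ᶜ G, V)) (h : ∀ j, (Pi.π G j).app V s = (Pi.π G j).app V t) : s = t := by
  have hc : IsLimit (Fan.mk (∏ᶜ G) (Pi.π G)) := productIsProduct G
  have hc' := isLimitOfPreserves (secF V) hc
  exact Concrete.isLimit_ext _ hc' s t (fun ⟨j⟩ => h j)

theorem exists_sec (f : ∀ j, Γ(G j, V)) : ∃ s : Γ(∏ᶜ G, V), ∀ j, (Pi.π G j).app V s = f j := by
  have hc : IsLimit (Fan.mk (∏ᶜ G) (Pi.π G)) := productIsProduct G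
  have hc' := isLimitOfPreserves (secF V) hc
  let c' : Cone (Discrete.functor G ⋙ secF V) :=
    { pt := AddCommGrpCat.of (∀ j, Γ(G j, V))
      π := Discrete.natTrans fun ⟨j⟩ => AddCommGrpCat.ofHom (Pi.evalAddMonoidHom _ j) }
  refine ⟨hc'.lift c' f, fun j => ?_⟩
  exact ConcreteCategory.congr_hom (hc'.fac c' ⟨j⟩) f

end Prod




end PartA

section PartB


open CategoryTheory CategoryTheory.Limits Opposite

section Gen
open Groth.Agent.Lib.Helper16.Cech Groth.Agent.Lib.Helper16.CechLow Simplicial AlgebraicTopology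
universe v u₁ v' u'
variable {C : Type u₁} [Category.{v} C] [HasFiniteProducts C] {A : Type u'} [Category.{v'} A]
  [Preadditive A] [HasProducts.{u} A] {ι : Type u} (U : ι → C) (P : Cᵒᵖ ⥤ A)

/-- the Čech complex -/
noncomputable abbrev CKg : CochainComplex A ℕ := (cechComplexFunctor U).obj P

/-- the projection to the component `x`. -/
noncomputable def prg (n : ℕ) (x : Fin (n + 1) → ι) : (CKg U P).X n ⟶ P.obj (op (Ux U x)) :=
  Pi.π (fun x : Fin (n + 1) → ι => P.obj (op (Ux U x))) x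

/-- the Čech cosimplicial object -/
noncomputable abbrev YKg : CosimplicialObject A :=
  (FormalCoproduct.mk ι U).cech.rightOp ⋙ (FormalCoproduct.evalOp.{u} C A).obj P

lemma δ_prg (n : ℕ) (x : Fin (n + 2) → ι) (i : Fin (n + 2)) :
    (YKg U P).δ i ≫ prg U P (n + 1) x =
      prg U P n (x ∘ Fin.succAbove i) ≫ P.map (face U x i).op := by
  exact limit.lift_π _ _

lemma d_prg (n : ℕ) (x : Fin (n + 2) → ι) :
    (CKg U P).d n (n + 1) ≫ prg U P (n + 1) x =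
      ∑ i : Fin (n + 2), (-1 : ℤ) ^ (i : ℕ) •
        (prg U P n (x ∘ Fin.succAbove i) ≫ P.map (face U x i).op) := by
  have h : (CKg U P).d n (n + 1) = ∑ i : Fin (n + 2), (-1 : ℤ) ^ (i : ℕ) • (YKg U P).δ i :=
    CochainComplex.of_d (fun n => (YKg U P).obj ⦋n⦌) (AlternatingCofaceMapComplex.objD (YKg U P)) n
  rw [h]
  refine (Preadditive.sum_comp Finset.univ (fun i : Fin (n + 2) => (-1 : ℤ) ^ (i : ℕ) • (YKg U P).δ i)
    (prg U P (n + 1) x)).trans ?_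
  refine Finset.sum_congr rfl (fun i _ => ?_)
  refine (Preadditive.zsmul_comp _ _ _).trans ?_
  exact congrArg (fun z => (-1 : ℤ) ^ (i : ℕ) • z) (δ_prg U P n x i)

end Gen


end PartB

section PartC


open CategoryTheory CategoryTheory.Limits AlgebraicGeometry Opposite TopologicalSpace CechOX
open Groth.Agent.Lib.Helper16.CechLow

variable {X : Scheme.{u}} {ι : Type u} (𝒰 : ι → X.Opens) (F : X.Modules)

/-- the presheaf `W ↦ (j_W)_*(F|_W)` -/
noncomputable abbrev PF : (X.Opens)ᵒᵖ ⥤ X.Modules := pushRestrFam.flip.obj F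

/-- the Čech complex of sheaves -/
noncomputable abbrev CS : CochainComplex X.Modules ℕ := CKg 𝒰 (PF F)

lemma cechSh_obj : (cechSh 𝒰).obj F = CS 𝒰 F := rfl

lemma PF_map_app {W W' : X.Opens} (i : W' ⟶ W) (V : X.Opens) :
    ((PF F).map i.op).app V = F.presheaf.map (homOfLE (image_preimage_mono (leOfHom i) V)).op := rfl

/-- `V ∩ W` in the form appearing in the sections of `(j_W)_*(F|_W)` -/
noncomputable abbrev IV (W V : X.Opens) : X.Opens := W.ι ''ᵁ (W.ι ⁻¹ᵁ V)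

lemma IV_eq (W V : X.Opens) : IV W V = W ⊓ V := by
  rw [IV, Scheme.Hom.image_preimage_eq_opensRange_inf, Scheme.Opens.opensRange_ι]

lemma le_Ux {n : ℕ} (y : Fin (n + 1) → ι) (T : X.Opens) (h : ∀ a, T ≤ 𝒰 (y a)) : T ≤ Ux 𝒰 y :=
  (Pi.lift (fun a => homOfLE (h a)) : T ⟶ ∏ᶜ (𝒰 ∘ y)).le

lemma Ux_le {n : ℕ} (y : Fin (n + 1) → ι) (a : Fin (n + 1)) : Ux 𝒰 y ≤ 𝒰 (y a) :=
  (Pi.π (𝒰 ∘ y) a).le

variable (V : X.Opens)

/-- evaluation of morphisms at a section -/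
noncomputable def evS {M N : X.Modules} (s : Γ(M, V)) : (M ⟶ N) →+ Γ(N, V) where
  toFun φ := φ.app V s
  map_zero' := rfl
  map_add' _ _ := rfl

/-- the components of a Čech cochain of sheaves over `V` -/
noncomputable def cmp {n : ℕ} (s : Γ((CS 𝒰 F).X n, V)) (x : Fin (n + 1) → ι) :
    Γ(F, IV (Ux 𝒰 x) V) :=
  (prg 𝒰 (PF F) n x).app V s

lemma cmp_ext {n : ℕ} (s t : Γ((CS 𝒰 F).X n, V)) (h : ∀ x, cmp 𝒰 F V s x = cmp 𝒰 F V t x) :
    s = t :=
  sec_ext (fun x : Fin (n + 1) → ι => (PF F).obj (op (Ux 𝒰 x))) V s t h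

lemma exists_cmp {n : ℕ} (f : ∀ x : Fin (n + 1) → ι, Γ(F, IV (Ux 𝒰 x) V)) :
    ∃ s : Γ((CS 𝒰 F).X n, V), ∀ x, cmp 𝒰 F V s x = f x :=
  exists_sec (fun x : Fin (n + 1) → ι => (PF F).obj (op (Ux 𝒰 x))) V f

lemma cmp_d {n : ℕ} (s : Γ((CS 𝒰 F).X n, V)) (x : Fin (n + 2) → ι) :
    cmp 𝒰 F V (((CS 𝒰 F).d n (n + 1)).app V s) x =
      ∑ i : Fin (n + 2), (-1 : ℤ) ^ (i : ℕ) •
        F.presheaf.map (homOfLE (image_preimage_mono (leOfHom (face 𝒰 x i)) V)).op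
          (cmp 𝒰 F V s (x ∘ Fin.succAbove i)) := by
  have h := congrArg (evS V s) (d_prg 𝒰 (PF F) n x)
  rw [map_sum] at h
  refine h.trans (Finset.sum_congr rfl fun i _ => ?_)
  rw [map_zsmul]
  rfl

/-- restriction of a component to a smaller open -/
noncomputable def R {n : ℕ} (s : Γ((CS 𝒰 F).X n, V)) (y : Fin (n + 1) → ι) (T : X.Opens)
    (hT : T ≤ IV (Ux 𝒰 y) V) : Γ(F, T) :=
  F.presheaf.map (homOfLE hT).op (cmp 𝒰 F V s y)

lemma R_congr {n : ℕ} (s : Γ((CS 𝒰 F).X n, V)) (y y' : Fin (n + 1) → ι) (h : y = y') (T : X.Opens)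
    (hT : T ≤ IV (Ux 𝒰 y) V) (hT' : T ≤ IV (Ux 𝒰 y') V) :
    R 𝒰 F V s y T hT = R 𝒰 F V s y' T hT' := by
  subst h
  rfl

lemma map_R {n : ℕ} (s : Γ((CS 𝒰 F).X n, V)) (y : Fin (n + 1) → ι) (T T' : X.Opens)
    (hT : T ≤ IV (Ux 𝒰 y) V) (h : T' ≤ T) :
    F.presheaf.map (homOfLE h).op (R 𝒰 F V s y T hT) = R 𝒰 F V s y T' (h.trans hT) := by
  unfold R
  rw [← ConcreteCategory.comp_apply, ← F.presheaf.map_comp]
  rfl

lemma R_self {n : ℕ} (s : Γ((CS 𝒰 F).X n, V)) (y : Fin (n + 1) → ι) :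
    R 𝒰 F V s y (IV (Ux 𝒰 y) V) le_rfl = cmp 𝒰 F V s y := by
  unfold R
  have : (homOfLE (le_refl (IV (Ux 𝒰 y) V))).op = 𝟙 _ := rfl
  rw [this, F.presheaf.map_id]
  rfl

lemma le_face {n : ℕ} (x : Fin (n + 2) → ι) (i : Fin (n + 2)) :
    IV (Ux 𝒰 x) V ≤ IV (Ux 𝒰 (x ∘ Fin.succAbove i)) V :=
  image_preimage_mono (leOfHom (face 𝒰 x i)) V

lemma R_d {n : ℕ} (s : Γ((CS 𝒰 F).X n, V)) (x : Fin (n + 2) → ι) (T : X.Opens)
    (hT : T ≤ IV (Ux 𝒰 x) V) :
    R 𝒰 F V (((CS 𝒰 F).d n (n + 1)).app V s) x T hT =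
      ∑ i : Fin (n + 2), (-1 : ℤ) ^ (i : ℕ) •
        R 𝒰 F V s (x ∘ Fin.succAbove i) T (hT.trans (le_face 𝒰 V x i)) := by
  unfold R
  rw [cmp_d, map_sum]
  refine Finset.sum_congr rfl fun i _ => ?_
  rw [map_zsmul]
  congr 1
  exact map_R 𝒰 F V s (x ∘ Fin.succAbove i) _ T (le_face 𝒰 V x i) hT

section Contr

variable (j : ι) (hV : V ≤ 𝒰 j)

include hV in
lemma le_cons {n : ℕ} (x : Fin (n + 1) → ι) :
    IV (Ux 𝒰 x) V ≤ IV (Ux 𝒰 (Fin.cons j x : Fin (n + 2) → ι)) V := by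
  rw [IV_eq, IV_eq]
  refine le_inf (le_Ux 𝒰 _ _ fun a => ?_) inf_le_right
  refine Fin.cases ?_ (fun b => ?_) a
  · exact inf_le_right.trans hV
  · exact inf_le_left.trans (Ux_le 𝒰 x b)

lemma cons_comp_zero {n : ℕ} (x : Fin (n + 1) → ι) :
    (Fin.cons j x : Fin (n + 2) → ι) ∘ Fin.succAbove 0 = x := by
  funext a
  simp [Fin.succAbove_zero]

lemma cons_comp_succ {n : ℕ} (x : Fin (n + 2) → ι) (i : Fin (n + 2)) :
    (Fin.cons j x : Fin (n + 3) → ι) ∘ Fin.succAbove i.succ =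
      Fin.cons j (x ∘ Fin.succAbove i) := by
  funext a
  refine Fin.cases ?_ (fun b => ?_) a
  · simp
  · simp

include hV in
/-- cocycles over an open inside a member of the covering are coboundaries -/
theorem exists_d_eq {n : ℕ} (s : Γ((CS 𝒰 F).X (n + 1), V))
    (hs : ((CS 𝒰 F).d (n + 1) (n + 2)).app V s = 0) :
    ∃ t : Γ((CS 𝒰 F).X n, V), ((CS 𝒰 F).d n (n + 1)).app V t = s := by
  obtain ⟨t, ht⟩ := exists_cmp 𝒰 F V (n := n)
    (fun x => R 𝒰 F V s (Fin.cons j x) (IV (Ux 𝒰 x) V) (le_cons 𝒰 V j hV x))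
  refine ⟨t, cmp_ext 𝒰 F V _ _ fun x => ?_⟩
  have h0 : R 𝒰 F V (((CS 𝒰 F).d (n + 1) (n + 2)).app V s) (Fin.cons j x) (IV (Ux 𝒰 x) V)
      (le_cons 𝒰 V j hV x) = 0 := by
    unfold R
    rw [hs]
    have : cmp 𝒰 F V (0 : Γ((CS 𝒰 F).X (n + 2), V)) (Fin.cons j x) = 0 := map_zero _
    rw [this, map_zero]
  rw [R_d, Fin.sum_univ_succ] at h0
  rw [← R_self 𝒰 F V (((CS 𝒰 F).d n (n + 1)).app V t) x, R_d]
  have h1 : ∀ i : Fin (n + 2),
      R 𝒰 F V t (x ∘ Fin.succAbove i) (IV (Ux 𝒰 x) V) (le_rfl.trans (le_face 𝒰 V x i)) =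
      R 𝒰 F V s (Fin.cons j x ∘ Fin.succAbove i.succ) (IV (Ux 𝒰 x) V)
        ((le_cons 𝒰 V j hV x).trans (le_face 𝒰 V (Fin.cons j x) i.succ)) := by
    intro i
    have e1 : R 𝒰 F V t (x ∘ Fin.succAbove i) (IV (Ux 𝒰 x) V) (le_rfl.trans (le_face 𝒰 V x i)) =
        F.presheaf.map (homOfLE (le_face 𝒰 V x i)).op (cmp 𝒰 F V t (x ∘ Fin.succAbove i)) := rfl
    rw [e1, ht, map_R]
    exact R_congr 𝒰 F V s _ _ (cons_comp_succ j x i).symm _ _ _
  have h2 : R 𝒰 F V s (Fin.cons j x ∘ Fin.succAbove 0) (IV (Ux 𝒰 x) V)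
      ((le_cons 𝒰 V j hV x).trans (le_face 𝒰 V (Fin.cons j x) 0)) = cmp 𝒰 F V s x := by
    rw [← R_self 𝒰 F V s x]
    exact R_congr 𝒰 F V s _ _ (cons_comp_zero j x) _ _ _
  rw [h2] at h0
  simp only [Fin.val_zero, pow_zero, one_smul, Fin.val_succ, pow_succ, mul_neg, mul_one,
    neg_smul, Finset.sum_neg_distrib] at h0
  rw [Finset.sum_congr rfl fun i _ => by rw [h1 i]]
  exact (eq_of_sub_eq_zero (by rw [sub_eq_add_neg]; exact h0)).symm

lemma aug_pr (x : Fin 1 → ι) :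
    cechShAug 𝒰 F ≫ prg 𝒰 (PF F) 0 x =
      (Scheme.Modules.restrictAdjunction (Ux 𝒰 x).ι).unit.app F :=
  limit.lift_π _ _

lemma le_aug (x : Fin 1 → ι) : IV (Ux 𝒰 x) V ≤ V := (Ux 𝒰 x).ι.image_preimage_le V

lemma cmp_aug (s : Γ(F, V)) (x : Fin 1 → ι) :
    cmp 𝒰 F V ((cechShAug 𝒰 F).app V s) x = F.presheaf.map (homOfLE (le_aug 𝒰 V x)).op s := by
  have h := congrArg (evS V s) (aug_pr 𝒰 F x)
  exact h

include hV in
lemma le_IV_const : V ≤ IV (Ux 𝒰 (fun _ : Fin 1 => j)) V := by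
  rw [IV_eq]
  exact le_inf (le_Ux 𝒰 _ _ fun _ => hV) le_rfl

lemma cons_comp_one (x : Fin 1 → ι) :
    (Fin.cons j x : Fin 2 → ι) ∘ Fin.succAbove 1 = fun _ : Fin 1 => j := by
  funext a
  have ha : a = 0 := Subsingleton.elim _ _
  subst ha
  rfl

include hV in
/-- 0-cocycles over an open inside a member of the covering come from sections of `F` -/
theorem exists_aug_eq (t : Γ((CS 𝒰 F).X 0, V))
    (ht : ((CS 𝒰 F).d 0 1).app V t = 0) :
    ∃ s : Γ(F, V), (cechShAug 𝒰 F).app V s = t := by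
  refine ⟨R 𝒰 F V t (fun _ : Fin 1 => j) V (le_IV_const 𝒰 V j hV), cmp_ext 𝒰 F V _ _ fun x => ?_⟩
  have h0 : R 𝒰 F V (((CS 𝒰 F).d 0 1).app V t) (Fin.cons j x) (IV (Ux 𝒰 x) V)
      (le_cons 𝒰 V j hV x) = 0 := by
    unfold R
    rw [ht]
    have : cmp 𝒰 F V (0 : Γ((CS 𝒰 F).X 1, V)) (Fin.cons j x) = 0 := map_zero _
    rw [this, map_zero]
  rw [R_d, Fin.sum_univ_two] at h0
  rw [cmp_aug, map_R]
  have h2 : R 𝒰 F V t (Fin.cons j x ∘ Fin.succAbove 0) (IV (Ux 𝒰 x) V)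
      ((le_cons 𝒰 V j hV x).trans (le_face 𝒰 V (Fin.cons j x) 0)) = cmp 𝒰 F V t x := by
    rw [← R_self 𝒰 F V t x]
    exact R_congr 𝒰 F V t _ _ (cons_comp_zero j x) _ _ _
  have h3 : R 𝒰 F V t (Fin.cons j x ∘ Fin.succAbove 1) (IV (Ux 𝒰 x) V)
      ((le_cons 𝒰 V j hV x).trans (le_face 𝒰 V (Fin.cons j x) 1)) =
      R 𝒰 F V t (fun _ : Fin 1 => j) (IV (Ux 𝒰 x) V)
        ((le_aug 𝒰 V x).trans (le_IV_const 𝒰 V j hV)) :=
    R_congr 𝒰 F V t _ _ (cons_comp_one j x) _ _ _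
  rw [h2, h3] at h0
  simp only [Fin.val_zero, pow_zero, one_smul, Fin.val_one, pow_one, neg_smul] at h0
  exact (eq_of_sub_eq_zero (by rw [sub_eq_add_neg]; exact h0)).symm

include hV in
/-- the coaugmentation is injective on sections over an open inside a member of the covering -/
theorem aug_injective (s : Γ(F, V)) (hs : (cechShAug 𝒰 F).app V s = 0) : s = 0 := by
  have h1 : cmp 𝒰 F V ((cechShAug 𝒰 F).app V s) (fun _ : Fin 1 => j) = 0 := by
    rw [hs]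
    exact map_zero _
  rw [cmp_aug] at h1
  have h2 := congrArg (F.presheaf.map (homOfLE (le_IV_const 𝒰 V j hV)).op) h1
  rw [map_zero, ← ConcreteCategory.comp_apply, ← F.presheaf.map_comp] at h2
  have h3 : (homOfLE (le_aug 𝒰 V (fun _ : Fin 1 => j))).op ≫ (homOfLE (le_IV_const 𝒰 V j hV)).op =
      𝟙 (op V) := rfl
  rw [h3, F.presheaf.map_id] at h2
  exact h2

end Contr

/-- the composite of the coaugmentation and the first differential vanishes -/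
theorem aug_d : cechShAug 𝒰 F ≫ (CS 𝒰 F).d 0 1 = 0 := by
  apply Scheme.Modules.hom_ext
  intro V
  ext s
  refine cmp_ext 𝒰 F V _ _ fun x => ?_
  change cmp 𝒰 F V (((CS 𝒰 F).d 0 1).app V ((cechShAug 𝒰 F).app V s)) x =
    cmp 𝒰 F V (0 : Γ((CS 𝒰 F).X 1, V)) x
  have : cmp 𝒰 F V (0 : Γ((CS 𝒰 F).X 1, V)) x = 0 := map_zero _
  rw [this, cmp_d, Fin.sum_univ_two, cmp_aug, cmp_aug]
  simp only [Fin.val_zero, pow_zero, one_smul, Fin.val_one, pow_one, neg_smul]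
  rw [← ConcreteCategory.comp_apply, ← ConcreteCategory.comp_apply, ← F.presheaf.map_comp,
    ← F.presheaf.map_comp]
  exact add_neg_cancel _

/-- the opens contained in a member of the family -/
def Sm : Type u := {V : X.Opens // ∃ j, V ≤ 𝒰 j}

theorem isBasis_Sm (h𝒰 : ⨆ i, 𝒰 i = ⊤) :
    Opens.IsBasis (Set.range (fun V : Sm 𝒰 => V.1)) := by
  rw [Opens.isBasis_iff_nbhd]
  intro U x hx
  have hx' : x ∈ ⨆ i, 𝒰 i := by rw [h𝒰]; trivial
  obtain ⟨j, hj⟩ := Opens.mem_iSup.1 hx'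
  exact ⟨U ⊓ 𝒰 j, ⟨⟨U ⊓ 𝒰 j, j, inf_le_right⟩, rfl⟩, ⟨hx, hj⟩, inf_le_left⟩


end PartC

end Groth.Agent.Lib.R2H2.CechShRes
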