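import Groth.Agent.Lib.R2H2ProjAff
import Groth.Agent.Lib.R2H2ProjOver
import Groth.Agent.Lib.Helper16Restr
set_option backward.isDefEq.respectTransparency.types false

/-!
# Projective morphisms, locally on the base (helper2, round 2)

Setting: `π : Z' ⟶ Z` and `j' : Z' ⟶ P^n_ℤ` such that `c = (j', π) : Z' ⟶ P^n_Z` is a closed
immersion; `L m = j'^* O(m)`.  For an affine open `V` of `Z` with `B = Γ(Z, V)` the preimage
`π⁻¹ V` is (the range of the open immersion `o` from) a closed subscheme `k : W' ⟶ P^n_B` and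
`o^* L m ≅ k^* O(m)`.

* `opensRange_o`, `nonempty_pullback_L_iso`;
* `exists_vanishing_HU` : `H^{q+1}(π⁻¹ V, L m) = 0` for `m ≫ 0`.
-/

set_option autoImplicit false
set_option linter.style.haveILetI false
universe u

open CategoryTheory CategoryTheory.Limits AlgebraicGeometry TopologicalSpace

namespace Groth.Agent.Lib.R2H2.ChowLocal

open Groth.Agent.Lib.R2H2.ProjOver

attribute [local instance] Groth.Agent.Lib.R2H2.ProjOver.algZ

variable {Z Z' : Scheme.{u}} (n : ℕ) (π : Z' ⟶ Z)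
  (j' : Z' ⟶ CohB1.ProjSpace n (ULift.{u} ℤ))

/-- `(j', π) : Z' ⟶ P^n_Z` -/
noncomputable def cMap : Z' ⟶ CohB1.ProjSpaceOver n Z :=
  pullback.lift j' π (specULiftZIsTerminal.hom_ext _ _)

theorem cMap_fst : cMap n π j' ≫ pullback.fst (CohB1.ProjSpace.toSpec n (ULift.{u} ℤ))
    (specULiftZIsTerminal.from Z) = j' := pullback.lift_fst _ _ _

theorem cMap_toBase : cMap n π j' ≫ CohB1.ProjSpaceOver.toBase n Z = π := pullback.lift_snd _ _ _

/-- the twisting sheaves `j'^* O(m)` -/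
noncomputable def L (m : ℤ) : Z'.Modules :=
  (Scheme.Modules.pullback j').obj (Twist.twistProjSpace n (ULift.{u} ℤ) m)

theorem isInvertible_L (m : ℤ) : PicF.IsInvertible (L n j' m) :=
  Groth.Agent.Lib.Helper23.PB.isInvertible_pullback j' _
    (Groth.Agent.Lib.R2Lead.KRR.isInvertible_twistProjSpace n (ULift.{u} ℤ) m)

theorem isCoh_L (m : ℤ) : Coh.IsCoh (L n j' m) :=
  ⟨Groth.Agent.Lib.Helper23.SecTw.isQuasicoherent_of_isInvertible _ (isInvertible_L n j' m),
    Groth.Agent.Lib.R2H2.PnFinite.isFiniteType_of_isInvertible _ (isInvertible_L n j' m)⟩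

section Local

variable {V : Z.Opens} (hV : IsAffineOpen V)

/-- the open immersion `P^n_B ⟶ P^n_Z` for `B = Γ(Z, V)` -/
noncomputable abbrev aV : CohB1.ProjSpace n Γ(Z, V) ⟶ CohB1.ProjSpaceOver n Z :=
  a n Γ(Z, V) hV.fromSpec

/-- the preimage of `V` as a closed subscheme of `P^n_B` -/
noncomputable abbrev W' : Scheme.{u} := pullback (cMap n π j') (aV n hV)

/-- the open immersion `W' ⟶ Z'` -/
noncomputable abbrev o : W' n π j' hV ⟶ Z' := pullback.fst (cMap n π j') (aV n hV)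

/-- the closed immersion `W' ⟶ P^n_B` -/
noncomputable abbrev k : W' n π j' hV ⟶ CohB1.ProjSpace n Γ(Z, V) :=
  pullback.snd (cMap n π j') (aV n hV)

theorem opensRange_o : (o n π j' hV).opensRange = π ⁻¹ᵁ V := by
  apply TopologicalSpace.Opens.ext
  change Set.range (pullback.fst (cMap n π j') (aV n hV)) = _
  rw [Scheme.Pullback.range_fst]
  have h1 : Set.range (aV n hV) = (CohB1.ProjSpaceOver.toBase n Z) ⁻¹' (V : Set Z) := by
    have h := congrArg (fun U : (CohB1.ProjSpaceOver n Z).Opens =>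
      (U : Set (CohB1.ProjSpaceOver n Z))) (opensRange_a n Γ(Z, V) hV.fromSpec)
    simp only [Scheme.Hom.coe_opensRange, Scheme.Hom.coe_preimage] at h
    rw [h, hV.range_fromSpec]
  rw [h1, ← Set.preimage_comp]
  have h2 : (⇑(CohB1.ProjSpaceOver.toBase n Z) ∘ ⇑(cMap n π j')) = ⇑π := by
    funext x
    rw [Function.comp_apply, ← Scheme.Hom.comp_apply, cMap_toBase]
  rw [h2]
  rfl

/-- `o^* L(m) ≅ k^* O(m)` -/
theorem nonempty_pullback_L_iso (m : ℤ) :
    Nonempty ((Scheme.Modules.pullback (o n π j' hV)).obj (L n j' m) ≅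
      (Scheme.Modules.pullback (k n π j' hV)).obj (Twist.twistProjSpace n Γ(Z, V) m)) := by
  obtain ⟨e⟩ := nonempty_pullback_twist_iso n (ULift.{u} ℤ) Γ(Z, V) m
  have hcomm : o n π j' hV ≫ j' = k n π j' hV ≫
      Proj.map (phi n (ULift.{u} ℤ) Γ(Z, V)) (irrelevant_le_map n (ULift.{u} ℤ) Γ(Z, V)) := by
    have h1 : o n π j' hV ≫ cMap n π j' = k n π j' hV ≫ aV n hV := pullback.condition
    calc o n π j' hV ≫ j'
        = o n π j' hV ≫ (cMap n π j' ≫ pullback.fst (CohB1.ProjSpace.toSpec n (ULift.{u} ℤ))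
            (specULiftZIsTerminal.from Z)) := by rw [cMap_fst]
      _ = (k n π j' hV ≫ aV n hV) ≫ pullback.fst (CohB1.ProjSpace.toSpec n (ULift.{u} ℤ))
            (specULiftZIsTerminal.from Z) := by rw [← Category.assoc, h1]
      _ = _ := by rw [Category.assoc, a_fst]; rfl
  let e1 : (Scheme.Modules.pullback (o n π j' hV)).obj (L n j' m) ≅
      (Scheme.Modules.pullback (o n π j' hV ≫ j')).obj
        (Twist.twistProjSpace n (ULift.{u} ℤ) m) :=
    (Scheme.Modules.pullbackComp (o n π j' hV) j').app _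
  let e2 : (Scheme.Modules.pullback (k n π j' hV ≫
      Proj.map (phi n (ULift.{u} ℤ) Γ(Z, V)) (irrelevant_le_map n (ULift.{u} ℤ) Γ(Z, V)))).obj
        (Twist.twistProjSpace n (ULift.{u} ℤ) m) ≅
      (Scheme.Modules.pullback (k n π j' hV)).obj
        ((Scheme.Modules.pullback (Proj.map (phi n (ULift.{u} ℤ) Γ(Z, V))
          (irrelevant_le_map n (ULift.{u} ℤ) Γ(Z, V)))).obj
            (Twist.twistProjSpace n (ULift.{u} ℤ) m)) :=
    ((Scheme.Modules.pullbackComp (k n π j' hV) _).app _).symm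
  exact ⟨e1 ≪≫ (Scheme.Modules.pullbackCongr hcomm).app _ ≪≫ e2 ≪≫
    (Scheme.Modules.pullback (k n π j' hV)).mapIso e⟩

include hV in
/-- **vanishing of the higher cohomology of `L(m)` over `π⁻¹ V`** for `m ≫ 0` -/
theorem exists_vanishing_HU [IsClosedImmersion (cMap n π j')] [IsNoetherianRing Γ(Z, V)] :
    ∃ m₀ : ℤ, ∀ m : ℤ, m₀ ≤ m → ∀ q : ℕ,
      Subsingleton (CohTop.HU (X := Z'.carrier) (Coh.toAb (L n j' m)) (q + 1) (π ⁻¹ᵁ V)) := by
  obtain ⟨m₀, hm₀⟩ := Groth.Agent.Lib.R2H2.ProjAff.exists_vanishing_pullback_twist n Γ(Z, V)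
    (k n π j' hV)
  refine ⟨m₀, fun m hm q => ?_⟩
  have h1 := hm₀ m hm (q + 1) (Nat.succ_pos q)
  obtain ⟨e⟩ := nonempty_pullback_L_iso n π j' hV m
  have h2 := Groth.Agent.Lib.R2H2.PnSerre.subsingleton_HH_of_iso e.symm (q + 1) h1
  haveI : (L n j' m).IsQuasicoherent := (isCoh_L n j' m).1
  have h3 := (subsingleton_HHon_opensRange_iff (o n π j' hV) (L n j' m) (q + 1)).2 h2
  rw [opensRange_o] at h3
  obtain ⟨e2⟩ := Groth.Agent.Lib.Helper16.Restr.nonempty_HU_equiv (X := Z'.carrier) (π ⁻¹ᵁ V)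
    (Coh.toAb (L n j' m)) (q + 1)
  let e2' : CohTop.HU (X := Z'.carrier) (Coh.toAb (L n j' m)) (q + 1) (π ⁻¹ᵁ V) ≃+
    Coh.HHon Z' (L n j' m) (π ⁻¹ᵁ V) (q + 1) := e2
  exact e2'.toEquiv.subsingleton


end Local

end Groth.Agent.Lib.R2H2.ChowLocal
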