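import Groth.Agent.Lib.R2H2ChowLocal
import Groth.Agent.Lib.R2H2OpenImmSec
import Groth.Agent.Lib.Helper27PnSections
import Groth.Agent.Lib.Helper23FinType2
set_option backward.isDefEq.respectTransparency.types false
/-!
# Projective morphisms, locally on the base, part 2 (helper2, round 2)

Setting of `R2H2ChowLocal`: `π : Z' ⟶ Z`, `j' : Z' ⟶ P^n_ℤ` with `(j', π) : Z' ⟶ P^n_Z` a closed
immersion, `L m = j'^* O(m)`.
* `finite_sections_push` : for `V ⊆ Z` affine with Noetherian ring of sections, `Γ(V, π_* L(m))` is a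
  finite `Γ(Z, V)`-module;
* `isCoh_push_L` : `π_* L(m)` is coherent for `Z` locally Noetherian.
-/

set_option autoImplicit false
set_option linter.style.haveILetI false
universe u

open CategoryTheory CategoryTheory.Limits AlgebraicGeometry TopologicalSpace

namespace Groth.Agent.Lib.R2H2.ChowLocal2

open Groth.Agent.Lib.R2H2.ProjOver Groth.Agent.Lib.R2H2.ChowLocal
open Groth.Agent.Helper13PullbackUnit

attribute [local instance] Groth.Agent.Lib.R2H2.ProjOver.algZ

variable {Z Z' : Scheme.{u}} (n : ℕ) (π : Z' ⟶ Z)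
  (j' : Z' ⟶ CohB1.ProjSpace n (ULift.{u} ℤ))
variable {V : Z.Opens} (hV : IsAffineOpen V)

theorem o_comp_π : o n π j' hV ≫ π =
    k n π j' hV ≫ CohB1.ProjSpace.toSpec n Γ(Z, V) ≫ hV.fromSpec := by
  have h1 : o n π j' hV ≫ cMap n π j' = k n π j' hV ≫ aV n hV := pullback.condition
  calc o n π j' hV ≫ π = o n π j' hV ≫ (cMap n π j' ≫ CohB1.ProjSpaceOver.toBase n Z) := by
        rw [cMap_toBase]
    _ = (k n π j' hV ≫ aV n hV) ≫ CohB1.ProjSpaceOver.toBase n Z := by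
        rw [← Category.assoc, h1]
    _ = _ := by rw [Category.assoc, a_toBase]

theorem top_le : (⊤ : (W' n π j' hV).Opens) ≤ (o n π j' hV) ⁻¹ᵁ (π ⁻¹ᵁ V) := by
  intro x _
  have : (o n π j' hV) x ∈ (o n π j' hV).opensRange := ⟨x, rfl⟩
  rw [opensRange_o] at this
  exact this

theorem appLE_of_eq {X Y : Scheme.{u}} {f g : X ⟶ Y} (h : f = g) (U : Y.Opens) (V : X.Opens)
    (e : V ≤ f ⁻¹ᵁ U) : f.appLE U V e = g.appLE U V (h ▸ e) := by
  subst h; rfl

theorem appLE_top_top {X Y : Scheme.{u}} (f : X ⟶ Y) (e : (⊤ : X.Opens) ≤ f ⁻¹ᵁ ⊤) :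
    f.appLE ⊤ ⊤ e = f.appTop := by
  rw [Scheme.Hom.appLE]
  exact (congrArg (f.app ⊤ ≫ ·) (X.presheaf.map_id _)).trans (Category.comp_id _)

theorem appLE_comp_fromSpec {X : Scheme.{u}} (g : X ⟶ Spec Γ(Z, V))
    (e : (⊤ : X.Opens) ≤ (g ≫ hV.fromSpec) ⁻¹ᵁ V) :
    (g ≫ hV.fromSpec).appLE V ⊤ e = (Scheme.ΓSpecIso Γ(Z, V)).inv ≫ g.appTop := by
  rw [Scheme.Hom.comp_appLE, hV.fromSpec_app_self, Category.assoc, Scheme.Hom.map_appLE,
    appLE_top_top]

theorem appLE_eq_hom :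
    π.app V ≫ (o n π j' hV).appLE (π ⁻¹ᵁ V) ⊤ (top_le n π j' hV) =
      (Scheme.ΓSpecIso Γ(Z, V)).inv ≫
        (k n π j' hV ≫ CohB1.ProjSpace.toSpec n Γ(Z, V)).appTop := by
  rw [← Scheme.Hom.comp_appLE,
    appLE_of_eq ((o_comp_π n π j' hV).trans (Category.assoc _ _ _).symm),
    appLE_comp_fromSpec]

theorem appLE_eq (b : Γ(Z, V)) :
    (o n π j' hV).appLE (π ⁻¹ᵁ V) ⊤ (top_le n π j' hV) (π.app V b) =
      Coh.toGlobal (k n π j' hV ≫ CohB1.ProjSpace.toSpec n Γ(Z, V)) b :=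
  congrArg (fun φ => φ.hom b) (appLE_eq_hom n π j' hV)

open Groth.Agent.Lib.Helper27PnSections in
theorem hh0Equiv_symm_smul (X : Scheme.{u}) (M : X.Modules) (r : Coh.Γtop X)
    (y : (Coh.toAb M).obj.obj (Opposite.op (⊤ : Opens X))) :
    (hh0Equiv X M).symm ((Coh.smulAb M r).hom.app (Opposite.op ⊤) y) =
      r • (hh0Equiv X M).symm y := by
  apply (hh0Equiv X M).injective
  rw [AddEquiv.apply_symm_apply, hh0Equiv_smul, AddEquiv.apply_symm_apply]

open Groth.Agent.Lib.Helper27PnSections in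
theorem hh0Equiv_symm_smul' (X : Scheme.{u}) (M : X.Modules) (r : Γ(X, ⊤)) (y : Γ(M, ⊤)) :
    (hh0Equiv X M).symm (r • y : Γ(M, ⊤)) =
      (show Coh.Γtop X from r) • (hh0Equiv X M).symm y := by
  rw [← hh0Equiv_symm_smul]
  congr 1
  rw [Coh.smulAb_app, resTop_top]
  rfl

open Groth.Agent.Lib.Helper27PnSections in
include hV in
/-- the sections of `π_* L(m)` over an affine open `V` are a finite `Γ(Z, V)`-module -/
theorem finite_sections_push [IsClosedImmersion (cMap n π j')] [IsNoetherianRing Γ(Z, V)]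
    (m : ℤ) :
    Module.Finite Γ(Z, V) Γ((Scheme.Modules.pushforward π).obj (L n j' m), V) := by
  letI : (W' n π j' hV).Over (Spec (CommRingCat.of Γ(Z, V))) :=
    ⟨k n π j' hV ≫ CohB1.ProjSpace.toSpec n Γ(Z, V)⟩
  haveI := Groth.Agent.Lib.R2H2.ProjAff.finite_HH_pullback_twist n Γ(Z, V) (k n π j' hV) rfl m 0
  obtain ⟨e⟩ := nonempty_pullback_L_iso n π j' hV m
  let M' := (Scheme.Modules.pullback (k n π j' hV)).obj (Twist.twistProjSpace n Γ(Z, V) m)
  let Φ : Γ(L n j' m, π ⁻¹ᵁ V) →+ Coh.HH (W' n π j' hV) M' 0 :=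
    ((hh0Equiv _ M').symm.toAddMonoidHom).comp ((e.hom.app ⊤).hom.comp
      (unitSec (o n π j' hV) (L n j' m) (top_le n π j' hV)))
  have hΦ : Function.Bijective Φ := by
    refine (hh0Equiv _ M').symm.bijective.comp
      ((Groth.Agent.Lib.R2H2.OpenImmSec.bijective_app_of_iso e ⊤).comp ?_)
    refine Groth.Agent.Lib.R2H2.OpenImmSec.unitSec_bijective (o n π j' hV) (L n j' m) ?_
      (top_le n π j' hV) le_top
    rw [opensRange_o]
  have hsemi : ∀ (b : Γ(Z, V)) (x : Γ(L n j' m, π ⁻¹ᵁ V)),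
      Φ ((π.app V b) • x) = b • Φ x := by
    intro b x
    change (hh0Equiv _ M').symm ((e.hom.app ⊤) (unitSec (o n π j' hV) (L n j' m)
      (top_le n π j' hV) ((π.app V b) • x))) = _
    have h1 := unitSec_smul (o n π j' hV) (L n j' m) (top_le n π j' hV) (π.app V b) x
    have h2 := Scheme.Modules.Hom.app_smul (U := ⊤) e.hom
      ((o n π j' hV).appLE (π ⁻¹ᵁ V) ⊤ (top_le n π j' hV) (π.app V b))
      (unitSec (o n π j' hV) (L n j' m) (top_le n π j' hV) x)
    have h3 := appLE_eq n π j' hV b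
    have h4 := hh0Equiv_symm_smul' _ M'
      (Coh.toGlobal (k n π j' hV ≫ CohB1.ProjSpace.toSpec n Γ(Z, V)) b)
      ((e.hom.app ⊤) (unitSec (o n π j' hV) (L n j' m) (top_le n π j' hV) x))
    rw [h1, h2, h3]
    exact h4
  let Φe : Γ(L n j' m, π ⁻¹ᵁ V) ≃+ Coh.HH (W' n π j' hV) M' 0 := AddEquiv.ofBijective Φ hΦ
  let f : Coh.HH (W' n π j' hV) M' 0 →ₗ[Γ(Z, V)]
      Γ((Scheme.Modules.pushforward π).obj (L n j' m), V) :=
    { toFun := fun z => Φe.symm z
      map_add' := fun z w => Φe.symm.map_add z w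
      map_smul' := fun b z => by
        apply Φe.injective
        change Φe (Φe.symm (b • z)) = Φ ((π.app V b) • (Φe.symm z))
        rw [hsemi, AddEquiv.apply_symm_apply]
        change b • z = b • Φe (Φe.symm z)
        rw [AddEquiv.apply_symm_apply] }
  exact Module.Finite.of_surjective f Φe.symm.surjective

/-- **`π_* L(m)` is coherent** -/
theorem isCoh_push_L [IsClosedImmersion (cMap n π j')] [IsLocallyNoetherian Z] [QuasiCompact π]
    [QuasiSeparated π] (m : ℤ) :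
    Coh.IsCoh ((Scheme.Modules.pushforward π).obj (L n j' m)) := by
  haveI : (L n j' m).IsQuasicoherent := (isCoh_L n j' m).1
  haveI : ((Scheme.Modules.pushforward π).obj (L n j' m)).IsQuasicoherent :=
    Groth.Agent.Lib.Helper23.QCohLocal.isQuasicoherent_pushforward π (L n j' m)
  refine ⟨inferInstance, ?_⟩
  refine (Groth.Agent.Lib.Helper23.FinType.isFiniteType_iff_forall_affine _).2 fun V hV => ?_
  haveI : IsNoetherianRing Γ(Z, V) := IsLocallyNoetherian.component_noetherian ⟨V, hV⟩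
  exact finite_sections_push n π j' hV m


end Groth.Agent.Lib.R2H2.ChowLocal2
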