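import Groth.Agent.Lib.Helper3FlatCx
set_option backward.isDefEq.respectTransparency.types false

/-!
# Left exact `T_p` is corepresentable (helper2, round 2)

For a complex `P` of finitely generated flat modules over a Noetherian ring, if `T_p = H_p(P ⊗ -)`
preserves monomorphisms then `T_p ≅ Hom_A(Q, -)` with `Q` finitely generated (Hartshorne III.12.4).
-/

set_option autoImplicit false
set_option linter.unusedSectionVars false
set_option linter.style.haveILetI false
universe u
open CategoryTheory CategoryTheory.Limits MonoidalCategory TensorProduct Opposite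

noncomputable section

namespace Groth.Agent.Lib.R2H2.CoRep

section Phi

variable {A : Type u} [CommRing A] (W L M N : Type u) [AddCommGroup W] [Module A W]
  [AddCommGroup L] [Module A L] [AddCommGroup M] [Module A M] [AddCommGroup N] [Module A N]

/-- `w ⊗ m ↦ (φ ↦ φ w • m)` -/
def Phi : W ⊗[A] M →ₗ[A] (Module.Dual A W →ₗ[A] M) :=
  dualTensorHom A (Module.Dual A W) M ∘ₗ (Module.Dual.eval A W).rTensor M

variable {W M}

lemma Phi_tmul (w : W) (m : M) (φ : Module.Dual A W) : Phi W M (w ⊗ₜ m) φ = φ w • m := by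
  simp [Phi, dualTensorHom_apply]

variable (W M)

lemma Phi_bijective [Module.Finite A W] [Module.Projective A W] :
    Function.Bijective (Phi (A := A) W M) := by
  have h1 : Function.Bijective (dualTensorHom A (Module.Dual A W) M) := dualTensorHom_bijective
  have h2 : Function.Bijective ((Module.Dual.eval A W).rTensor M) := by
    have : (Module.Dual.eval A W).rTensor M =
        ((Module.evalEquiv A W).rTensor M).toLinearMap := by
      ext
      rfl
    rw [this]
    exact LinearEquiv.bijective _
  exact h1.comp h2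

variable {W M L N}

/-- naturality in `W` -/
lemma Phi_natW (δ : W →ₗ[A] L) (x : W ⊗[A] M) (ψ : Module.Dual A L) :
    Phi L M (δ.rTensor M x) ψ = Phi W M x (ψ ∘ₗ δ) := by
  induction x using TensorProduct.induction_on with
  | zero => simp
  | tmul w m => simp [Phi_tmul]
  | add x y hx hy => simp only [map_add, LinearMap.add_apply, hx, hy]

/-- naturality in `M` -/
lemma Phi_natM (f : M →ₗ[A] N) (x : W ⊗[A] M) (φ : Module.Dual A W) :
    Phi W N (f.lTensor W x) φ = f (Phi W M x φ) := by
  induction x using TensorProduct.induction_on with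
  | zero => simp
  | tmul w m => simp [Phi_tmul]
  | add x y hx hy => simp only [map_add, LinearMap.add_apply, hx, hy]

end Phi

section Main

variable {A : Type u} [CommRing A] {ι : Type} {c : ComplexShape ι}
  (P : HomologicalComplex (ModuleCat.{u} A) c) (p : ι)

/-- `δ^∨ : L^∨ → W^∨` for `δ : W = opcycles_p → L = P_{next p}` -/
def δd : Module.Dual A (P.X (c.next p)) →ₗ[A] Module.Dual A (P.opcycles p) :=
  (P.fromOpcycles p (c.next p)).hom.dualMap

/-- the corepresenting module `Q = coker (δ^∨)`, as a type -/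
abbrev Qt : Type u := Module.Dual A (P.opcycles p) ⧸ LinearMap.range (δd P p)

/-- the corepresenting module `Q = coker (δ^∨)` -/
def Qmod : ModuleCat.{u} A := ModuleCat.of A (Qt P p)

variable (M : ModuleCat.{u} A)

/-- `T_p(M) → Hom(W^∨, M)` -/
def γ : CohIII.T P p M →ₗ[A] (Module.Dual A (P.opcycles p) →ₗ[A] M) :=
  Phi (A := A) (P.opcycles p) M ∘ₗ (Groth.Agent.Lib.Helper3.jT P p M).hom

lemma γ_vanish (t : CohIII.T P p M) : LinearMap.range (δd P p) ≤ LinearMap.ker (γ P p M t) := by
  rintro _ ⟨ψ, rfl⟩
  rw [LinearMap.mem_ker]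
  have h0 : ((P.fromOpcycles p (c.next p)).hom.rTensor M)
      ((Groth.Agent.Lib.Helper3.jT P p M).hom t) = 0 := by
    have := Groth.Agent.Lib.Helper3.jT_comp_fromOpcycles P p M (c.next p)
    have h2 := congrArg (fun f => f.hom t) this
    exact h2
  have h1 := Phi_natW (A := A) (M := M) (P.fromOpcycles p (c.next p)).hom
    ((Groth.Agent.Lib.Helper3.jT P p M).hom t) ψ
  rw [h0, map_zero] at h1
  exact h1.symm

/-- `T_p(M) → Hom(Q, M)` -/
def αlin : CohIII.T P p M →ₗ[A] (Qt P p →ₗ[A] M) where
  toFun t := (LinearMap.range (δd P p)).liftQ (γ P p M t) (γ_vanish P p M t)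
  map_add' t t' := by
    apply Submodule.linearMap_qext
    rw [LinearMap.add_comp, Submodule.liftQ_mkQ, Submodule.liftQ_mkQ, Submodule.liftQ_mkQ, map_add]
  map_smul' a t := by
    apply Submodule.linearMap_qext
    rw [RingHom.id_apply, LinearMap.smul_comp, Submodule.liftQ_mkQ, Submodule.liftQ_mkQ, map_smul]

lemma αlin_mkQ (t : CohIII.T P p M) :
    (αlin P p M t).comp (LinearMap.range (δd P p)).mkQ = γ P p M t :=
  Submodule.liftQ_mkQ _ _ _

variable [hW : Module.Finite A (P.opcycles p)] [hW' : Module.Projective A (P.opcycles p)]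
  [hL : Module.Finite A (P.X (c.next p))] [hL' : Module.Projective A (P.X (c.next p))]

lemma αlin_bijective : Function.Bijective (αlin P p M) := by
  have hΦ := Phi_bijective (A := A) (P.opcycles p) M
  have hΦL := Phi_bijective (A := A) (P.X (c.next p)) M
  have hj : Function.Injective (Groth.Agent.Lib.Helper3.jT P p M).hom :=
    (ModuleCat.mono_iff_injective _).1 inferInstance
  constructor
  · rw [injective_iff_map_eq_zero]
    intro t ht
    have h1 : γ P p M t = 0 := by
      rw [← αlin_mkQ, ht, LinearMap.zero_comp]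
    have h2 : (Groth.Agent.Lib.Helper3.jT P p M).hom t = 0 := by
      apply hΦ.1
      rw [map_zero]
      exact h1
    apply hj
    rw [h2, map_zero]
  · intro g
    obtain ⟨x, hx⟩ := hΦ.2 (g.comp (LinearMap.range (δd P p)).mkQ)
    have hx0 : ((P.fromOpcycles p (c.next p)) ▷ M).hom x = 0 := by
      apply hΦL.1
      rw [map_zero]
      ext ψ
      have h1 := Phi_natW (A := A) (M := M) (P.fromOpcycles p (c.next p)).hom x ψ
      refine h1.trans ?_
      rw [hx]
      have : (LinearMap.range (δd P p)).mkQ (ψ ∘ₗ (P.fromOpcycles p (c.next p)).hom) = 0 := by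
        rw [Submodule.mkQ_apply, Submodule.Quotient.mk_eq_zero]
        exact ⟨ψ, rfl⟩
      rw [LinearMap.comp_apply, this, map_zero]
      rfl
    obtain ⟨t, ht⟩ := Groth.Agent.Lib.Helper3.exists_jT_eq P p M x hx0
    refine ⟨t, ?_⟩
    apply Submodule.linearMap_qext
    rw [αlin_mkQ]
    show Phi (A := A) (P.opcycles p) M ((Groth.Agent.Lib.Helper3.jT P p M).hom t) = _
    rw [ht, hx]

/-- linear maps out of `Q` as morphisms -/
def homE : (Qt P p →ₗ[A] M) ≃ₗ[A] (Qmod P p ⟶ M) :=
  (ModuleCat.homLinearEquiv (S := A) (M := ModuleCat.of A (Qt P p)) (N := M)).symm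

/-- the component linear equivalence -/
def αEquiv : CohIII.T P p M ≃ₗ[A] (Qmod P p ⟶ M) :=
  (LinearEquiv.ofBijective (αlin P p M) (αlin_bijective P p M)).trans (homE P p M)

lemma αEquiv_hom (t : CohIII.T P p M) : (αEquiv P p M t).hom = αlin P p M t := rfl

/-- **corepresentability** -/
def corepIso : CohIII.TFun P p ≅ (linearCoyoneda A (ModuleCat.{u} A)).obj (op (Qmod P p)) :=
  NatIso.ofComponents (fun M => (αEquiv P p M).toModuleIso) (fun {M N} f => by
    ext t
    apply ModuleCat.hom_ext
    apply Submodule.linearMap_qext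
    ext φ
    show (αlin P p N ((CohIII.TFun P p).map f t)) ((LinearMap.range (δd P p)).mkQ φ) =
      f.hom ((αlin P p M t) ((LinearMap.range (δd P p)).mkQ φ))
    have e1 : ∀ (K : ModuleCat.{u} A) (s : CohIII.T P p K),
        (αlin P p K s) ((LinearMap.range (δd P p)).mkQ φ) = γ P p K s φ := fun K s => by
      rw [← αlin_mkQ]
      rfl
    rw [e1, e1]
    show Phi (A := A) (P.opcycles p) N ((Groth.Agent.Lib.Helper3.jT P p N).hom
      (((CohIII.TFun P p).map f).hom t)) φ = f.hom (Phi (A := A) (P.opcycles p) M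
        ((Groth.Agent.Lib.Helper3.jT P p M).hom t) φ)
    have hn := Groth.Agent.Lib.Helper3.jT_naturality P p f
    have hn' := congrArg (fun g => g.hom t) hn
    have hn'' : (Groth.Agent.Lib.Helper3.jT P p N).hom (((CohIII.TFun P p).map f).hom t) =
        f.hom.lTensor (P.opcycles p) ((Groth.Agent.Lib.Helper3.jT P p M).hom t) := hn'
    rw [hn'', Phi_natM])

end Main

end Groth.Agent.Lib.R2H2.CoRep
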