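import Mathlib
import Groth.Prelude.Def_FSRel
import Groth.Agent.Lib.Helper19ComplExtend
import Groth.Agent.Lib.Helper28ComplQuot

/-!
# Completion of a finite algebra over a Noetherian ring as a base change (helper2, run 2)

* `isAdicComplete_of_le_of_pow_le`: completeness passes to a cofinal ideal;
* `isAdicComplete_tensor`, `isAdicComplete_tensor_map`: `A ⊗[A₀] Â₀` is complete;
* `nonempty_algEquiv_tensor_adicCompletion`: `A ⊗[A₀] Â₀ ≃ₐ[A] Â` for `A` finite over Noetherian `A₀`
  and `J` cofinal with `I₀ A`;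
* `map_jacobson_le_jacobson`, `isArtinianRing_quotient_jacobson`, `exists_pow_jacobson_le_map`:
  Jacobson radicals of a finite algebra over a semilocal Noetherian ring;
* `isFormallySmoothRel_of_algEquiv_tensor`: base changes are formally smooth relative to the base.
-/

set_option autoImplicit false
set_option linter.style.haveILetI false
universe u
open TensorProduct

namespace Groth.Agent.Lib.R2H2.ComplFinite


section Cofinal
variable {R : Type*} [CommRing R] {M : Type*} [AddCommGroup M] [Module R M]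

/-- completeness passes to a cofinal ideal: `I ≤ J`, `J ^ m ≤ I`. -/
theorem isAdicComplete_of_le_of_pow_le (I J : Ideal R) (hIJ : I ≤ J) (m : ℕ) (hm : J ^ m ≤ I)
    [IsAdicComplete I M] : IsAdicComplete J M where
  haus' x hx := by
    have hH : IsHausdorff I M := inferInstance
    apply hH.haus
    intro n
    have h := hx (m * n)
    rw [SModEq.zero] at h ⊢
    refine Submodule.smul_mono_left ?_ h
    rw [pow_mul]
    exact Ideal.pow_right_mono hm n
  prec' f hf := by
    have hP : IsPrecomplete I M := inferInstance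
    obtain ⟨L, hL⟩ := hP.prec' (fun n => f (m * n + n)) (by
      intro k l hkl
      have h1 : m * k + k ≤ m * l + l := by nlinarith
      have := hf h1
      rw [SModEq.sub_mem] at this ⊢
      refine Submodule.smul_mono_left ?_ this
      calc J ^ (m * k + k) ≤ J ^ (m * k) := Ideal.pow_le_pow_right (by omega)
        _ = (J ^ m) ^ k := pow_mul _ _ _
        _ ≤ I ^ k := Ideal.pow_right_mono hm k)
    refine ⟨L, fun n => ?_⟩
    have h1 : f n ≡ f (m * n + n) [SMOD (J ^ n • ⊤ : Submodule R M)] := hf (by omega)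
    have h2 := hL n
    rw [SModEq.sub_mem] at h1 h2 ⊢
    have h3 : f (m * n + n) - L ∈ (J ^ n • ⊤ : Submodule R M) :=
      Submodule.smul_mono_left (Ideal.pow_right_mono hIJ n) h2
    have : f n - L = (f n - f (m * n + n)) + (f (m * n + n) - L) := by abel
    rw [this]
    exact Submodule.add_mem _ h1 h3

theorem isAdicComplete_of_linearEquiv (I : Ideal R) {N : Type*} [AddCommGroup N] [Module R N]
    (e : M ≃ₗ[R] N) [IsAdicComplete I M] : IsAdicComplete I N := by
  rw [← AdicCompletion.of_bijective_iff]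
  have : ⇑(AdicCompletion.of I N) =
      (AdicCompletion.congr I e) ∘ (AdicCompletion.of I M) ∘ e.symm := by
    ext x
    simp only [Function.comp_apply, AdicCompletion.congr_apply, AdicCompletion.map_of,
      LinearEquiv.coe_coe, LinearEquiv.apply_symm_apply]
  rw [this]
  exact (AdicCompletion.congr I e).bijective.comp
    ((AdicCompletion.of_bijective I M).comp e.symm.bijective)

end Cofinal

section Tensor
variable (A₀ A : Type u) [CommRing A₀] [CommRing A] [Algebra A₀ A] [IsNoetherianRing A₀]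
  [Module.Finite A₀ A] (I₀ : Ideal A₀)

/-- `A ⊗ Â₀` is `I₀`-adically complete as an `A₀`-module. -/
theorem isAdicComplete_tensor :
    IsAdicComplete I₀ (A ⊗[A₀] AdicCompletion I₀ A₀) := by
  haveI : IsAdicComplete I₀ (AdicCompletion I₀ A) :=
    AdicCompletion.isAdicComplete (IsNoetherian.noetherian I₀)
  let e : A ⊗[A₀] AdicCompletion I₀ A₀ ≃ₗ[A₀] AdicCompletion I₀ A :=
    (TensorProduct.comm A₀ A (AdicCompletion I₀ A₀)).trans
      ((AdicCompletion.ofTensorProductEquivOfFiniteNoetherian I₀ A).restrictScalars A₀)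
  exact isAdicComplete_of_linearEquiv I₀ e.symm

/-- `A ⊗ Â₀` is `J`-adically complete for any ideal `J` of `A` cofinal with `I₀ A`. -/
theorem isAdicComplete_tensor_map (J : Ideal A) (hIJ : I₀.map (algebraMap A₀ A) ≤ J) (m : ℕ)
    (hm : J ^ m ≤ I₀.map (algebraMap A₀ A)) :
    IsAdicComplete (J.map (algebraMap A (A ⊗[A₀] AdicCompletion I₀ A₀)))
      (A ⊗[A₀] AdicCompletion I₀ A₀) := by
  haveI := isAdicComplete_tensor A₀ A I₀
  haveI h1 : IsAdicComplete (I₀.map (algebraMap A₀ (A ⊗[A₀] AdicCompletion I₀ A₀)))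
      (A ⊗[A₀] AdicCompletion I₀ A₀) :=
    (IsAdicComplete.map_algebraMap_iff I₀ (A ⊗[A₀] AdicCompletion I₀ A₀)).mpr inferInstance
  have e1 : I₀.map (algebraMap A₀ (A ⊗[A₀] AdicCompletion I₀ A₀)) =
      (I₀.map (algebraMap A₀ A)).map (algebraMap A (A ⊗[A₀] AdicCompletion I₀ A₀)) := by
    rw [Ideal.map_map, ← IsScalarTower.algebraMap_eq]
  refine isAdicComplete_of_le_of_pow_le
    (I₀.map (algebraMap A₀ (A ⊗[A₀] AdicCompletion I₀ A₀))) _ ?_ m ?_
  · rw [e1]; exact Ideal.map_mono hIJ
  · rw [e1, ← Ideal.map_pow]; exact Ideal.map_mono hm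






/-- for `J` cofinal with `I₀ A`, the `J`-adic completion of `A` is `A ⊗ Â₀`. -/
theorem nonempty_algEquiv_tensor_adicCompletion (J : Ideal A)
    (hIJ : I₀.map (algebraMap A₀ A) ≤ J) (m : ℕ) (hm : J ^ m ≤ I₀.map (algebraMap A₀ A)) :
    Nonempty (A ⊗[A₀] AdicCompletion I₀ A₀ ≃ₐ[A] AdicCompletion J A) := by
  haveI hA : IsNoetherianRing A := IsNoetherianRing.of_finite A₀ A
  have fg : J.FG := IsNoetherian.noetherian J
  have fg₀ : I₀.FG := IsNoetherian.noetherian I₀
  haveI hcT := isAdicComplete_tensor_map A₀ A I₀ J hIJ m hm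
  haveI hcA := AdicCompletion.isAdicComplete_self J fg
  -- the map `Â₀ → Â`
  obtain ⟨φ₀, hφ₀⟩ := Groth.Agent.Lib.Helper19.exists_algHom_adicCompletion (R := A₀) (S := A₀)
    (T := AdicCompletion J A) I₀ (J.map (algebraMap A (AdicCompletion J A)))
    (Algebra.ofId A₀ _) (by
      rw [Ideal.map_le_iff_le_comap]
      intro i hi
      rw [Ideal.mem_comap]
      change algebraMap A₀ (AdicCompletion J A) i ∈ _
      rw [IsScalarTower.algebraMap_apply A₀ A (AdicCompletion J A)]
      exact Ideal.mem_map_of_mem _ (hIJ (Ideal.mem_map_of_mem _ hi)))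
  -- the map `Â → T`
  obtain ⟨θ, hθ⟩ := Groth.Agent.Lib.Helper19.exists_algHom_adicCompletion (R := A) (S := A)
    (T := A ⊗[A₀] AdicCompletion I₀ A₀) J (J.map (algebraMap A (A ⊗[A₀] AdicCompletion I₀ A₀)))
    (Algebra.ofId A _) (le_refl _)
  let ψ : A ⊗[A₀] AdicCompletion I₀ A₀ →ₐ[A] AdicCompletion J A :=
    Algebra.TensorProduct.lift (Algebra.ofId A (AdicCompletion J A)) φ₀
      (fun _ _ => Commute.all _ _)
  have h1 : ψ.comp θ = AlgHom.id A _ := by
    apply AlgHom.coe_ringHom_injective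
    apply Groth.Agent.Lib.Helper28.adicCompletion_ringHom_ext J fg
      (J.map (algebraMap A (AdicCompletion J A)))
    · intro i hi
      change ψ (θ (AdicCompletion.of J A i)) ∈ _
      rw [hθ]
      change ψ (algebraMap A _ i) ∈ _
      rw [AlgHom.commutes]
      exact Ideal.mem_map_of_mem _ hi
    · intro a
      change ψ (θ (AdicCompletion.of J A a)) = AdicCompletion.of J A a
      rw [hθ]
      change ψ (algebraMap A _ a) = _
      rw [AlgHom.commutes]
      rfl
  have h2 : θ.comp ψ = AlgHom.id A _ := by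
    apply Algebra.TensorProduct.ext
    · ext
    · apply AlgHom.coe_ringHom_injective
      apply Groth.Agent.Lib.Helper28.adicCompletion_ringHom_ext I₀ fg₀
        (J.map (algebraMap A (A ⊗[A₀] AdicCompletion I₀ A₀)))
      · intro i hi
        change θ (ψ ((1 : A) ⊗ₜ[A₀] (AdicCompletion.of I₀ A₀ i))) ∈ _
        simp only [ψ, Algebra.TensorProduct.lift_tmul, map_one, one_mul, hφ₀]
        change θ (algebraMap A₀ (AdicCompletion J A) i) ∈ _
        rw [IsScalarTower.algebraMap_apply A₀ A (AdicCompletion J A), AlgHom.commutes]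
        exact Ideal.mem_map_of_mem _ (hIJ (Ideal.mem_map_of_mem _ hi))
      · intro a
        change θ (ψ ((1 : A) ⊗ₜ[A₀] (AdicCompletion.of I₀ A₀ a))) =
          (1 : A) ⊗ₜ[A₀] (AdicCompletion.of I₀ A₀ a)
        simp only [ψ, Algebra.TensorProduct.lift_tmul, map_one, one_mul, hφ₀]
        change θ (algebraMap A₀ (AdicCompletion J A) a) = _
        rw [IsScalarTower.algebraMap_apply A₀ A (AdicCompletion J A), AlgHom.commutes]
        rw [Algebra.TensorProduct.algebraMap_apply, Algebra.algebraMap_self_apply]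
        change _ = (1 : A) ⊗ₜ[A₀] (algebraMap A₀ (AdicCompletion I₀ A₀) a)
        rw [Algebra.algebraMap_eq_smul_one (R := A₀) (A := A) a,
          Algebra.algebraMap_eq_smul_one (R := A₀) (A := AdicCompletion I₀ A₀) a,
          TensorProduct.smul_tmul]
  exact ⟨AlgEquiv.ofAlgHom ψ θ h1 h2⟩

end Tensor


section Jac


variable {A₀ A : Type u} [CommRing A₀] [CommRing A] [Algebra A₀ A]

theorem map_jacobson_le_jacobson [Algebra.IsIntegral A₀ A] :
    (Ideal.jacobson (⊥ : Ideal A₀)).map (algebraMap A₀ A) ≤ Ideal.jacobson (⊥ : Ideal A) := by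
  rw [Ideal.map_le_iff_le_comap]
  intro x hx
  rw [Ideal.mem_comap, Ideal.jacobson, Ideal.mem_sInf]
  rintro M ⟨-, hM⟩
  have : (M.comap (algebraMap A₀ A)).IsMaximal :=
    Ideal.isMaximal_comap_of_isIntegral_of_isMaximal M
  exact (Ideal.mem_sInf.mp hx) ⟨bot_le, this⟩

theorem isArtinianRing_quotient_jacobson [IsNoetherianRing A₀] [Finite (MaximalSpectrum A₀)] :
    IsArtinianRing (A₀ ⧸ Ideal.jacobson (⊥ : Ideal A₀)) := by
  classical
  haveI : Ring.KrullDimLE 0 (A₀ ⧸ Ideal.jacobson (⊥ : Ideal A₀)) := by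
    rw [Ring.krullDimLE_zero_iff]
    intro P hP
    have hfin : {M : Ideal A₀ | M.IsMaximal}.Finite := by
      rw [← MaximalSpectrum.range_asIdeal]
      exact Set.finite_range MaximalSpectrum.asIdeal
    have hle : Ideal.jacobson (⊥ : Ideal A₀) ≤ P.comap (Ideal.Quotient.mk _) := by
      intro x hx
      rw [Ideal.mem_comap, Ideal.Quotient.eq_zero_iff_mem.mpr hx]
      exact P.zero_mem
    have hjac : Ideal.jacobson (⊥ : Ideal A₀) = hfin.toFinset.inf id := by
      rw [Ideal.jacobson]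
      apply le_antisymm
      · apply Finset.le_inf
        intro M hM
        exact sInf_le ⟨bot_le, (Set.Finite.mem_toFinset hfin).mp hM⟩
      · apply le_sInf
        rintro M ⟨-, hM⟩
        exact Finset.inf_le (f := id) ((Set.Finite.mem_toFinset hfin).mpr hM)
    have hle' : hfin.toFinset.inf id ≤ P.comap (Ideal.Quotient.mk (Ideal.jacobson (⊥ : Ideal A₀))) :=
      le_trans (le_of_eq hjac.symm) hle
    haveI : (P.comap (Ideal.Quotient.mk (Ideal.jacobson (⊥ : Ideal A₀)))).IsPrime :=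
      Ideal.comap_isPrime _ _
    obtain ⟨M, hM, hMP⟩ := (Ideal.IsPrime.inf_le' inferInstance).mp hle'
    have hMmax : M.IsMaximal := (Set.Finite.mem_toFinset hfin).mp hM
    have heq : M = P.comap (Ideal.Quotient.mk _) :=
      hMmax.eq_of_le (Ideal.IsPrime.ne_top inferInstance) hMP
    have hPmap : P = M.map (Ideal.Quotient.mk (Ideal.jacobson (⊥ : Ideal A₀))) := by
      rw [heq, Ideal.map_comap_of_surjective _ Ideal.Quotient.mk_surjective]
    rw [hPmap]
    refine Ideal.IsMaximal.map_of_surjective_of_ker_le Ideal.Quotient.mk_surjective ?_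
    rw [Ideal.mk_ker, heq]
    intro x hx
    rw [Ideal.mem_comap, Ideal.Quotient.eq_zero_iff_mem.mpr hx]
    exact P.zero_mem
  exact IsNoetherianRing.isArtinianRing_of_krullDimLE_zero





theorem exists_pow_jacobson_le_map [IsNoetherianRing A₀] [Finite (MaximalSpectrum A₀)]
    [Module.Finite A₀ A] :
    ∃ m : ℕ, (Ideal.jacobson (⊥ : Ideal A)) ^ m ≤
      (Ideal.jacobson (⊥ : Ideal A₀)).map (algebraMap A₀ A) := by
  haveI := isArtinianRing_quotient_jacobson (A₀ := A₀)
  haveI : Module.Finite A₀ (A ⧸ (Ideal.jacobson (⊥ : Ideal A₀)).map (algebraMap A₀ A)) :=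
    Module.Finite.of_surjective
      (Ideal.Quotient.mkₐ A₀ ((Ideal.jacobson (⊥ : Ideal A₀)).map (algebraMap A₀ A))).toLinearMap
      Ideal.Quotient.mk_surjective
  haveI : Module.Finite (A₀ ⧸ Ideal.jacobson (⊥ : Ideal A₀))
      (A ⧸ (Ideal.jacobson (⊥ : Ideal A₀)).map (algebraMap A₀ A)) :=
    Module.Finite.of_restrictScalars_finite A₀ _ _
  haveI : IsArtinianRing (A ⧸ (Ideal.jacobson (⊥ : Ideal A₀)).map (algebraMap A₀ A)) :=
    IsArtinianRing.of_finite (A₀ ⧸ Ideal.jacobson (⊥ : Ideal A₀)) _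
  obtain ⟨m, hm⟩ := IsArtinianRing.isNilpotent_jacobson_bot
    (R := A ⧸ (Ideal.jacobson (⊥ : Ideal A₀)).map (algebraMap A₀ A))
  refine ⟨m, ?_⟩
  have h1 : (Ideal.jacobson (⊥ : Ideal A)).map
      (Ideal.Quotient.mk ((Ideal.jacobson (⊥ : Ideal A₀)).map (algebraMap A₀ A))) ≤
      Ideal.jacobson (⊥ : Ideal (A ⧸ (Ideal.jacobson (⊥ : Ideal A₀)).map (algebraMap A₀ A))) := by
    rw [Ideal.map_le_iff_le_comap]
    intro x hx
    rw [Ideal.mem_comap]
    refine Ideal.mem_sInf.mpr ?_
    rintro M ⟨-, hM⟩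
    have : (M.comap (Ideal.Quotient.mk
        ((Ideal.jacobson (⊥ : Ideal A₀)).map (algebraMap A₀ A)))).IsMaximal :=
      Ideal.comap_isMaximal_of_surjective _ Ideal.Quotient.mk_surjective
    exact (Ideal.mem_sInf.mp hx) ⟨bot_le, this⟩
  have h2 : ((Ideal.jacobson (⊥ : Ideal A)) ^ m).map
      (Ideal.Quotient.mk ((Ideal.jacobson (⊥ : Ideal A₀)).map (algebraMap A₀ A))) = ⊥ := by
    rw [Ideal.map_pow, eq_bot_iff]
    exact le_trans (Ideal.pow_right_mono h1 m) (le_of_eq hm)
  rw [Ideal.map_eq_bot_iff_le_ker, Ideal.mk_ker] at h2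
  exact h2


end Jac


/-- a base change `A ⊗[Λ] B₀` is formally smooth over `A` relative to `Λ` -/
theorem isFormallySmoothRel_of_algEquiv_tensor (Λ A B B₀ : Type u) [CommRing Λ] [CommRing A]
    [CommRing B] [CommRing B₀] [Algebra Λ A] [Algebra Λ B] [Algebra A B] [IsScalarTower Λ A B]
    [Algebra Λ B₀] (e : A ⊗[Λ] B₀ ≃ₐ[A] B) : EGA41.IsFormallySmoothRel Λ A B := by
  intro C _ _ _ _ J hJ u₀ ⟨u, hu⟩
  let g : B₀ →ₐ[Λ] C :=
    u.comp ((e.toAlgHom.restrictScalars Λ).comp Algebra.TensorProduct.includeRight)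
  let v' : A ⊗[Λ] B₀ →ₐ[A] C :=
    Algebra.TensorProduct.lift (Algebra.ofId A C) g (fun _ _ => Commute.all _ _)
  refine ⟨v'.comp e.symm.toAlgHom, ?_⟩
  have key : (Ideal.Quotient.mkₐ A J).comp v' = u₀.comp e.toAlgHom := by
    apply Algebra.TensorProduct.ext
    · ext
    · ext b₀
      have h1 := congrArg (fun φ => φ (e ((1 : A) ⊗ₜ[Λ] b₀))) hu
      simp only [AlgHom.comp_apply, AlgHom.restrictScalars_apply] at h1
      simp only [AlgHom.comp_apply, AlgHom.restrictScalars_apply,
        Algebra.TensorProduct.includeRight_apply, v', Algebra.TensorProduct.lift_tmul, map_one,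
        one_mul, g]
      exact h1
  ext b
  have := congrArg (fun φ => φ (e.symm b)) key
  simp only [AlgHom.comp_apply] at this
  simpa using this


end Groth.Agent.Lib.R2H2.ComplFinite
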