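import Mathlib
import Groth.Prelude.Def_FSch3
import Groth.Agent.Lib.R2H2PullSec
import Groth.Agent.Lib.Helper22SigmaComplete
import Groth.Agent.Lib.Helper23FinType2

/-!
# Morphisms between completed modules on an affine scheme (helper2, round 2)

For an affine scheme `X`, an ideal sheaf `𝓘` with ideal of global sections `𝔨`, quasi-coherent `F`, `G` with `Γ(G, ⊤)`
`𝔨`-adically separated and precomplete: `ψ ↦ FSch.complModMap 𝓘 ψ` is a bijection `Hom(F, G) → Hom(F^Δ, G^Δ)`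
(`complModMap_bijective`).  Application (`tilde_bijective`): EGA I 10.10.2.9 for `Spec A`, `A` Noetherian `J`-adically
complete, finite modules.  Tools: `compat_abs`/`compat` (morphisms of completed modules act compatibly on pulled back
global sections), `lev`, `kk`, `uS_eq_iff`, `eq_of_forall_uS_eq`, `exists_limit`, `eΓ`, `kk_idealSpec`.
-/

set_option autoImplicit false
set_option linter.style.haveILetI false
universe u
open CategoryTheory CategoryTheory.Limits AlgebraicGeometry TopologicalSpace Opposite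

namespace Groth.Agent.Lib.R2H2.ComplHom

open Groth.Agent.Helper13PullbackUnit Groth.Agent.Lib.R2H3.PullUnit Groth.Agent.Lib.R2H2.PullSec

section abstract

variable {X Y Z : Scheme.{u}} {f : X ⟶ Y} {g : Y ⟶ Z} {p : X ⟶ Z} (e : f ≫ g = p)

/-- abstract compatibility: a pair of morphisms `g^*F ⟶ g^*G`, `p^*F ⟶ p^*G` commuting with the
transport isomorphisms acts compatibly on the pulled back global sections. -/
theorem compat_abs {F G : Z.Modules}
    (a : (Scheme.Modules.pullback g).obj F ⟶ (Scheme.Modules.pullback g).obj G)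
    (b : (Scheme.Modules.pullback p).obj F ⟶ (Scheme.Modules.pullback p).obj G)
    (hc : (Scheme.Modules.pullback f).map a ≫ (T e G).hom = (T e F).hom ≫ b)
    (V : Z.Opens) (m : Γ(F, V)) (y : Γ(G, V))
    (h : a.app (g ⁻¹ᵁ V) (uS g F m) = uS g G y) :
    b.app (p ⁻¹ᵁ V) (uS p F m) = uS p G y := by
  have hT1 := T_hom_unitSec e F V m
  have hT2 := T_hom_unitSec e G V y
  have hM : ((Scheme.Modules.pullback f).map a).app (p ⁻¹ᵁ V)
      (unitSec f ((Scheme.Modules.pullback g).obj F) (preimage_le e V) (unitSec g F le_rfl m)) =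
      unitSec f ((Scheme.Modules.pullback g).obj G) (preimage_le e V)
        (a.app (g ⁻¹ᵁ V) (unitSec g F le_rfl m)) :=
    map_unitSec _ _ _ _
  have h2 : a.app (g ⁻¹ᵁ V) (unitSec g F le_rfl m) = unitSec g G le_rfl y := h
  rw [h2] at hM
  have h1 := congrArg (fun Φ => Scheme.Modules.Hom.app Φ (p ⁻¹ᵁ V)
    (unitSec f ((Scheme.Modules.pullback g).obj F) (preimage_le e V) (unitSec g F le_rfl m))) hc
  simp only [Scheme.Modules.Hom.comp_app, ConcreteCategory.comp_apply] at h1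
  rw [hM, hT2, hT1] at h1
  exact h1.symm

end abstract

variable {X : Scheme.{u}} (𝓘 : X.IdealSheafData)

/-- the closed immersion of the `n`-th level. -/
noncomputable abbrev ii (n : ℕ) : (FSch.completionAlong X 𝓘).X n ⟶ X := FSch.completionToX X 𝓘 n

theorem ι_ii (n : ℕ) : (FSch.completionAlong X 𝓘).ι n ≫ ii 𝓘 (n + 1) = ii 𝓘 n :=
  Scheme.IdealSheafData.inclusion_subschemeι (FSch.pow_succ_le X 𝓘 n)

theorem complMod_e_eq (F : X.Modules) (n : ℕ) :
    (FSch.complMod 𝓘 F).e n = T (ι_ii 𝓘 n) F := by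
  rw [FSch.complMod_e]
  rfl

/-- the `n`-th component of a morphism of completed modules, with its explicit type. -/
noncomputable def lev {F G : X.Modules} (φ : FSch.complMod 𝓘 F ⟶ FSch.complMod 𝓘 G) (n : ℕ) :
    (Scheme.Modules.pullback (ii 𝓘 n)).obj F ⟶ (Scheme.Modules.pullback (ii 𝓘 n)).obj G :=
  FSch.ModSys.Hom.app φ n

theorem lev_comm {F G : X.Modules} (φ : FSch.complMod 𝓘 F ⟶ FSch.complMod 𝓘 G) (n : ℕ) :
    (Scheme.Modules.pullback ((FSch.completionAlong X 𝓘).ι n)).map (lev 𝓘 φ (n + 1)) ≫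
      (T (ι_ii 𝓘 n) G).hom = (T (ι_ii 𝓘 n) F).hom ≫ lev 𝓘 φ n := by
  have hc := FSch.ModSys.Hom.comm φ n
  rw [complMod_e_eq, complMod_e_eq] at hc
  exact hc

/-- compatibility of a morphism of completed modules with the unit sections. -/
theorem compat {F G : X.Modules} (φ : FSch.complMod 𝓘 F ⟶ FSch.complMod 𝓘 G) (n : ℕ)
    (m : Γ(F, ⊤)) (y : Γ(G, ⊤))
    (h : (lev 𝓘 φ (n + 1)).app (ii 𝓘 (n + 1) ⁻¹ᵁ ⊤) (uS (ii 𝓘 (n + 1)) F m) =
      uS (ii 𝓘 (n + 1)) G y) :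
    (lev 𝓘 φ n).app (ii 𝓘 n ⁻¹ᵁ ⊤) (uS (ii 𝓘 n) F m) = uS (ii 𝓘 n) G y :=
  compat_abs (ι_ii 𝓘 n) (lev 𝓘 φ (n + 1)) (lev 𝓘 φ n) (lev_comm 𝓘 φ n) ⊤ m y h

theorem lev_complModMap {F G : X.Modules} (ψ : F ⟶ G) (n : ℕ) :
    lev 𝓘 (FSch.complModMap 𝓘 ψ) n = (Scheme.Modules.pullback (ii 𝓘 n)).map ψ := rfl

section main

variable [IsAffine X]

/-- the ideal of global sections of `𝓘`. -/
noncomputable abbrev kk : Ideal Γ(X, ⊤) := 𝓘.ideal ⟨⊤, isAffineOpen_top X⟩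

instance isClosedImmersion_ii (n : ℕ) : IsClosedImmersion (ii 𝓘 n) :=
  inferInstanceAs (IsClosedImmersion (𝓘 ^ (n + 1)).subschemeι)

instance isAffine_lev (n : ℕ) : IsAffine ((FSch.completionAlong X 𝓘).X n) :=
  isAffine_of_isAffineHom (ii 𝓘 n)

theorem app_surj (n : ℕ) : Function.Surjective ((ii 𝓘 n).app ⊤).hom :=
  (𝓘 ^ (n + 1)).subschemeι_app_surjective ⟨⊤, isAffineOpen_top X⟩

theorem ker_app (n : ℕ) : RingHom.ker ((ii 𝓘 n).app ⊤).hom = kk 𝓘 ^ (n + 1) :=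
  (𝓘 ^ (n + 1)).ker_subschemeι_app ⟨⊤, isAffineOpen_top X⟩

variable (G : X.Modules) [G.IsQuasicoherent]

theorem uS_eq_zero_iff_pow (n : ℕ) (x : Γ(G, ⊤)) :
    uS (ii 𝓘 n) G x = 0 ↔ x ∈ kk 𝓘 ^ (n + 1) • (⊤ : Submodule Γ(X, ⊤) Γ(G, ⊤)) := by
  rw [uS_eq_zero_iff (ii 𝓘 n) G (isAffineOpen_top X) (isAffineOpen_top _) (app_surj 𝓘 n), ker_app]

theorem uS_surj (n : ℕ) : Function.Surjective (uS (ii 𝓘 n) G (V := ⊤)) :=
  uS_surjective (ii 𝓘 n) G (isAffineOpen_top X) (isAffineOpen_top _) (app_surj 𝓘 n)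

theorem uS_eq_iff (n : ℕ) (x y : Γ(G, ⊤)) :
    uS (ii 𝓘 n) G x = uS (ii 𝓘 n) G y ↔
      x - y ∈ kk 𝓘 ^ (n + 1) • (⊤ : Submodule Γ(X, ⊤) Γ(G, ⊤)) := by
  rw [← uS_eq_zero_iff_pow, map_sub, sub_eq_zero]

/-- separatedness: a global section killed at every level vanishes. -/
theorem eq_of_forall_uS_eq [IsHausdorff (kk 𝓘) Γ(G, ⊤)] (x y : Γ(G, ⊤))
    (h : ∀ n, uS (ii 𝓘 n) G x = uS (ii 𝓘 n) G y) : x = y := by
  rw [← sub_eq_zero]
  refine IsHausdorff.haus' (I := kk 𝓘) (x - y) (fun n => ?_)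
  rw [SModEq.zero]
  have h1 := (uS_eq_iff 𝓘 G n x y).1 (h n)
  exact Submodule.smul_mono_left (Ideal.pow_le_pow_right (Nat.le_succ n)) h1

variable (F : X.Modules) [F.IsQuasicoherent]

omit [F.IsQuasicoherent] [IsAffine X] [G.IsQuasicoherent] in
theorem lev_map_uS {ψ : F ⟶ G} (n : ℕ) (x : Γ(F, ⊤)) :
    (lev 𝓘 (FSch.complModMap 𝓘 ψ) n).app (ii 𝓘 n ⁻¹ᵁ ⊤) (uS (ii 𝓘 n) F x) =
      uS (ii 𝓘 n) G (ψ.app ⊤ x) := by
  rw [lev_complModMap]
  exact map_unitSec _ _ _ _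

theorem complModMap_injective [IsHausdorff (kk 𝓘) Γ(G, ⊤)] :
    Function.Injective (fun ψ : F ⟶ G => FSch.complModMap 𝓘 ψ) := by
  intro ψ₁ ψ₂ h
  have h' : FSch.complModMap 𝓘 ψ₁ = FSch.complModMap 𝓘 ψ₂ := h
  refine hom_ext_of_app_eq (isAffineOpen_top X) F G (fun W => (map_bijective_top G W).1) ψ₁ ψ₂
    (fun x => ?_)
  refine eq_of_forall_uS_eq 𝓘 G _ _ (fun n => ?_)
  rw [← lev_map_uS 𝓘 G F n x, ← lev_map_uS 𝓘 G F n x, h']

omit [F.IsQuasicoherent] in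
/-- existence of the limit section. -/
theorem exists_limit [IsPrecomplete (kk 𝓘) Γ(G, ⊤)]
    (φ : FSch.complMod 𝓘 F ⟶ FSch.complMod 𝓘 G) (m : Γ(F, ⊤)) :
    ∃ L : Γ(G, ⊤), ∀ n, uS (ii 𝓘 n) G L =
      (lev 𝓘 φ n).app (ii 𝓘 n ⁻¹ᵁ ⊤) (uS (ii 𝓘 n) F m) := by
  choose y hy using fun n => uS_surj 𝓘 G n ((lev 𝓘 φ n).app (ii 𝓘 n ⁻¹ᵁ ⊤) (uS (ii 𝓘 n) F m))
  have hstep : ∀ n, y (n + 1) - y n ∈ kk 𝓘 ^ (n + 1) • (⊤ : Submodule Γ(X, ⊤) Γ(G, ⊤)) := by
    intro n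
    rw [← uS_eq_iff, hy n]
    exact (compat 𝓘 φ n m (y (n + 1)) (hy (n + 1)).symm).symm
  have hc : AdicCompletion.IsAdicCauchy (kk 𝓘) Γ(G, ⊤) y := by
    rw [AdicCompletion.isAdicCauchy_iff]
    intro n
    rw [SModEq.comm, SModEq.sub_mem]
    exact Submodule.smul_mono_left (Ideal.pow_le_pow_right (Nat.le_succ n)) (hstep n)
  obtain ⟨L, hL⟩ := IsPrecomplete.prec' (I := kk 𝓘) y (fun {a b} hab => hc hab)
  refine ⟨L, fun n => ?_⟩
  rw [← hy n, uS_eq_iff]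
  have h1 : y (n + 1) - L ∈ kk 𝓘 ^ (n + 1) • (⊤ : Submodule Γ(X, ⊤) Γ(G, ⊤)) :=
    SModEq.sub_mem.1 (hL (n + 1))
  have h2 : L - y n = (y (n + 1) - y n) - (y (n + 1) - L) := by abel
  rw [h2]
  exact Submodule.sub_mem _ (hstep n) h1

theorem complModMap_surjective [IsHausdorff (kk 𝓘) Γ(G, ⊤)] [IsPrecomplete (kk 𝓘) Γ(G, ⊤)] :
    Function.Surjective (fun ψ : F ⟶ G => FSch.complModMap 𝓘 ψ) := by
  intro φ
  choose u hu using exists_limit 𝓘 G F φ
  have hadd : ∀ a b, u (a + b) = u a + u b := by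
    intro a b
    refine eq_of_forall_uS_eq 𝓘 G _ _ (fun n => ?_)
    rw [hu, map_add, map_add, map_add, hu, hu]
  have hsmul : ∀ (r : Γ(X, ⊤)) (a : Γ(F, ⊤)), u (r • a) = r • u a := by
    intro r a
    refine eq_of_forall_uS_eq 𝓘 G _ _ (fun n => ?_)
    rw [hu, uS_smul, uS_smul, Scheme.Modules.Hom.app_smul, hu]
  obtain ⟨ψ, hψ⟩ := exists_hom_of_app (isAffineOpen_top X) F G (map_bijective_top G)
    (AddMonoidHom.mk' u hadd) hsmul
  refine ⟨ψ, ?_⟩
  refine FSch.ModSys.Hom.ext (funext fun n => ?_)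
  refine hom_ext_uS (ii 𝓘 n) F _ (lev 𝓘 (FSch.complModMap 𝓘 ψ) n) (lev 𝓘 φ n) (fun x => ?_)
  rw [lev_map_uS, hψ]
  exact hu x n

theorem complModMap_bijective [IsHausdorff (kk 𝓘) Γ(G, ⊤)] [IsPrecomplete (kk 𝓘) Γ(G, ⊤)] :
    Function.Bijective (fun ψ : F ⟶ G => FSch.complModMap 𝓘 ψ) :=
  ⟨complModMap_injective 𝓘 G F, complModMap_surjective 𝓘 G F⟩

end main

section spec

variable (A : Type u) [CommRing A] (J : Ideal A)

/-- the ring isomorphism `A ≃ Γ(Spec A, ⊤)`. -/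
noncomputable def eΓ : A ≃+* Γ(Spec (CommRingCat.of A), ⊤) :=
  (Scheme.ΓSpecIso (CommRingCat.of A)).symm.commRingCatIsoToRingEquiv

theorem eΓ_symm_apply (x : Γ(Spec (CommRingCat.of A), ⊤)) :
    (eΓ A).symm x = (Scheme.ΓSpecIso (CommRingCat.of A)).hom x := rfl

theorem kk_idealSpec : kk (FSch.idealSpec A J) = J.map (eΓ A) := by
  ext x
  rw [← Ideal.comap_symm, Ideal.mem_comap, eΓ_symm_apply]
  unfold kk FSch.idealSpec
  rw [Scheme.Hom.ker_apply, RingHom.mem_ker]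
  have hnat := Scheme.ΓSpecIso_naturality (CommRingCat.ofHom (Ideal.Quotient.mk J))
  have h1 := congrArg (fun φ => φ.hom x) hnat
  simp only [CommRingCat.hom_comp, RingHom.comp_apply, CommRingCat.hom_ofHom] at h1
  have hinj : Function.Injective (Scheme.ΓSpecIso (CommRingCat.of (A ⧸ J))).hom :=
    (Scheme.ΓSpecIso (CommRingCat.of (A ⧸ J))).commRingCatIsoToRingEquiv.injective
  constructor
  · intro hx
    rw [← Ideal.Quotient.eq_zero_iff_mem, ← h1]
    have hx' : (Spec.map (CommRingCat.ofHom (Ideal.Quotient.mk J))).appTop x = 0 := hx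
    rw [hx', map_zero]
  · intro hx
    rw [← Ideal.Quotient.eq_zero_iff_mem, ← h1] at hx
    exact hinj (hx.trans (map_zero _).symm)

theorem tilde_bijective [IsNoetherianRing A] [IsAdicComplete J A] (M N : ModuleCat.{u} A)
    [Module.Finite A M] [Module.Finite A N] :
    Function.Bijective (fun u : M ⟶ N ↦
      FSch.complModMap (FSch.idealSpec A J) ((tilde.functor (CommRingCat.of A)).map u)) := by
  haveI : IsNoetherianRing Γ(Spec (CommRingCat.of A), ⊤) := isNoetherianRing_of_ringEquiv A (eΓ A)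
  haveI hc : IsAdicComplete (kk (FSch.idealSpec A J)) Γ(Spec (CommRingCat.of A), ⊤) := by
    rw [kk_idealSpec]
    exact (IsAdicComplete.congr_ringEquiv J (eΓ A)).2 inferInstance
  haveI : Module.Finite Γ(Spec (CommRingCat.of A), ⊤) Γ(tilde (R := CommRingCat.of A) N, ⊤) := by
    have e : N ≅ (Groth.Agent.Lib.Helper23.QCohLocal.ΓF (CommRingCat.of A)).obj
        (tilde (R := CommRingCat.of A) N) :=
      (tilde.toTildeΓNatIso (R := CommRingCat.of A)).app N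
    haveI : Module.Finite (CommRingCat.of A) ((Groth.Agent.Lib.Helper23.QCohLocal.ΓF (CommRingCat.of A)).obj
        (tilde (R := CommRingCat.of A) N)) := Module.Finite.equiv e.toLinearEquiv
    exact (Groth.Agent.Lib.Helper23.FinType.finite_Γtop_iff (CommRingCat.of A)
      (tilde (R := CommRingCat.of A) N)).2 this
  haveI : IsHausdorff (kk (FSch.idealSpec A J)) Γ(tilde (R := CommRingCat.of A) N, ⊤) :=
    IsHausdorff.of_le_jacobson _ _ (IsAdicComplete.le_jacobson_bot _)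
  haveI : IsPrecomplete (kk (FSch.idealSpec A J)) Γ(tilde (R := CommRingCat.of A) N, ⊤) :=
    Groth.Agent.Lib.Helper22.SigmaComplete.isPrecomplete_of_finite _ _
  exact (complModMap_bijective (FSch.idealSpec A J) (tilde (R := CommRingCat.of A) N) (tilde (R := CommRingCat.of A) M)).comp
    ((tilde.fullyFaithfulFunctor (R := CommRingCat.of A)).map_bijective M N)

end spec

end Groth.Agent.Lib.R2H2.ComplHom
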