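import Mathlib
import Groth.Prelude.Def_FSch3
import Groth.Agent.Lib.R2H2ComplHom
import Groth.Agent.Lib.R2H2PullSecLE
import Groth.Agent.Lib.Helper14InvLim
import Groth.Agent.Lib.Helper23ModLocal
import Groth.Agent.Lib.Helper23FinType2

/-!
# Systems of coherent modules on the completion of an affine scheme (helper2, round 2)

EGA I 10.10.2/10.11.3 strong form: for `X` affine, `𝓘` an ideal sheaf with ideal of global sections `𝔨`, a system of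
quasi-coherent modules `𝔐` on `FSch.completionAlong X 𝓘`:
* `Mlev`, `tr`: the modules of global sections `Γ(F_n)` as `Γ(X, ⊤)`-modules, the transition maps (surjective, kernel
  `𝔨^(n+1) • ⊤`: `tr_surjective`, `ker_tr`), `Lim`, `proj` their inverse limit, `finite_Lim`, `ker_proj`;
* `nonempty_iso`: if `𝓛` is quasi-coherent on `X` with `Γ(𝓛, ⊤) ≃ₗ Lim`, then `𝔐 ≅ FSch.complMod 𝓘 𝓛` as systems;
* `exists_iso_tilde`: on `Spec A`, `A` Noetherian `J`-adically complete, every coherent system is `M^Δ`, `M` finite.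
Tools: `mem_map_smul_top_iff`, `app_comp_appLE`, `isIso_of_bijective_app`, `comm_abs`.
-/

set_option autoImplicit false
set_option linter.style.haveILetI false
universe u
open CategoryTheory CategoryTheory.Limits AlgebraicGeometry TopologicalSpace Opposite

namespace Groth.Agent.Lib.R2H2.ComplSys

open Groth.Agent.Helper13PullbackUnit Groth.Agent.Lib.R2H3.PullUnit Groth.Agent.Lib.R2H2.PullSec
  Groth.Agent.Lib.R2H2.PullSecLE Groth.Agent.Lib.R2H2.ComplHom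

section alg

/-- for a surjective ring map `ρ : A → B`, a `B`-module `N` viewed as an `A`-module through `ρ`: the submodules
`I.map ρ • ⊤` and `I • ⊤` have the same elements. -/
theorem mem_map_smul_top_iff {A B : Type*} [CommRing A] [CommRing B] (ρ : A →+* B)
    (hρ : Function.Surjective ρ) {N : Type*} [AddCommGroup N] [Module B N] [Module A N]
    (hsm : ∀ (a : A) (y : N), a • y = ρ a • y) (I : Ideal A) (x : N) :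
    x ∈ I.map ρ • (⊤ : Submodule B N) ↔ x ∈ I • (⊤ : Submodule A N) := by
  constructor
  · intro hx
    refine Submodule.smul_induction_on hx (fun b hb y _ => ?_) (fun a b ha hb => add_mem ha hb)
    obtain ⟨a, ha, rfl⟩ := (Ideal.mem_map_iff_of_surjective ρ hρ).1 hb
    rw [← hsm]
    exact Submodule.smul_mem_smul ha trivial
  · intro hx
    refine Submodule.smul_induction_on hx (fun a ha y _ => ?_) (fun a b ha hb => add_mem ha hb)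
    rw [hsm]
    exact Submodule.smul_mem_smul (Ideal.mem_map_of_mem ρ ha) trivial

end alg

section comp

variable {X Y Z : Scheme.{u}} {f : X ⟶ Y} {g : Y ⟶ Z} {p : X ⟶ Z} (e : f ≫ g = p)

theorem app_comp_appLE (V : Z.Opens) :
    g.app V ≫ f.appLE (g ⁻¹ᵁ V) (p ⁻¹ᵁ V) (preimage_le e V) = p.app V := by
  subst e
  rw [← Scheme.Hom.comp_appLE, Scheme.Hom.appLE_eq_app]

end comp

variable {X : Scheme.{u}} [IsAffine X] (𝓘 : X.IdealSheafData)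

/-- the `n`-th level. -/
noncomputable abbrev ZZ (n : ℕ) : Scheme.{u} := (FSch.completionAlong X 𝓘).X n

/-- the transition closed immersions. -/
noncomputable abbrev ιι (n : ℕ) : ZZ 𝓘 n ⟶ ZZ 𝓘 (n + 1) := (FSch.completionAlong X 𝓘).ι n

/-- the whole `n`-th level as an open. -/
noncomputable abbrev WW (n : ℕ) : (ZZ 𝓘 n).Opens := ii 𝓘 n ⁻¹ᵁ ⊤

theorem isAffineOpen_WW (n : ℕ) : IsAffineOpen (WW 𝓘 n) := isAffineOpen_top _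

omit [IsAffine X] in
theorem WW_le (n : ℕ) : WW 𝓘 n ≤ ιι 𝓘 n ⁻¹ᵁ WW 𝓘 (n + 1) := preimage_le (ι_ii 𝓘 n) ⊤

/-- the ring map `R → R_n`. -/
noncomputable def ρ (n : ℕ) : Γ(X, ⊤) →+* Γ(ZZ 𝓘 n, WW 𝓘 n) := ((ii 𝓘 n).app ⊤).hom

/-- the ring map `R_{n+1} → R_n`. -/
noncomputable def τ (n : ℕ) : Γ(ZZ 𝓘 (n + 1), WW 𝓘 (n + 1)) →+* Γ(ZZ 𝓘 n, WW 𝓘 n) :=
  ((ιι 𝓘 n).appLE (WW 𝓘 (n + 1)) (WW 𝓘 n) (WW_le 𝓘 n)).hom

omit [IsAffine X] in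
theorem τ_ρ (n : ℕ) (r : Γ(X, ⊤)) : τ 𝓘 n (ρ 𝓘 (n + 1) r) = ρ 𝓘 n r := by
  have h := app_comp_appLE (ι_ii 𝓘 n) ⊤
  exact congrArg (fun φ => φ.hom r) h

theorem ρ_surj (n : ℕ) : Function.Surjective (ρ 𝓘 n) := app_surj 𝓘 n

theorem ker_ρ (n : ℕ) : RingHom.ker (ρ 𝓘 n) = kk 𝓘 ^ (n + 1) := ker_app 𝓘 n

theorem τ_surj (n : ℕ) : Function.Surjective (τ 𝓘 n) := by
  intro b
  obtain ⟨r, rfl⟩ := ρ_surj 𝓘 n b
  exact ⟨ρ 𝓘 (n + 1) r, τ_ρ 𝓘 n r⟩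

theorem ker_τ (n : ℕ) : RingHom.ker (τ 𝓘 n) = (kk 𝓘 ^ (n + 1)).map (ρ 𝓘 (n + 1)) := by
  ext b
  rw [RingHom.mem_ker, Ideal.mem_map_iff_of_surjective _ (ρ_surj 𝓘 (n + 1))]
  constructor
  · intro hb
    obtain ⟨r, rfl⟩ := ρ_surj 𝓘 (n + 1) b
    refine ⟨r, ?_, rfl⟩
    rw [← ker_ρ, RingHom.mem_ker, ← τ_ρ, hb]
  · rintro ⟨r, hr, rfl⟩
    rw [τ_ρ, ← RingHom.mem_ker, ker_ρ]
    exact hr

variable (𝔐 : FSch.ModSys (FSch.completionAlong X 𝓘))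

/-- the sections of the `n`-th module over the whole level, as a module over `Γ(X, ⊤)`. -/
def Mlev (n : ℕ) : Type u := Γ(𝔐.F n, WW 𝓘 n)

noncomputable instance (n : ℕ) : AddCommGroup (Mlev 𝓘 𝔐 n) :=
  inferInstanceAs (AddCommGroup Γ(𝔐.F n, WW 𝓘 n))

noncomputable instance (n : ℕ) : Module Γ(ZZ 𝓘 n, WW 𝓘 n) (Mlev 𝓘 𝔐 n) :=
  inferInstanceAs (Module Γ(ZZ 𝓘 n, WW 𝓘 n) Γ(𝔐.F n, WW 𝓘 n))

noncomputable instance (n : ℕ) : Module Γ(X, ⊤) (Mlev 𝓘 𝔐 n) := Module.compHom _ (ρ 𝓘 n)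

omit [IsAffine X] in
theorem smul_def (n : ℕ) (r : Γ(X, ⊤)) (m : Mlev 𝓘 𝔐 n) : r • m = ρ 𝓘 n r • m := rfl

/-- the transition map on sections, additive version. -/
noncomputable def trAdd (n : ℕ) : Γ(𝔐.F (n + 1), WW 𝓘 (n + 1)) →+ Γ(𝔐.F n, WW 𝓘 n) :=
  ((𝔐.e n).hom.app (WW 𝓘 n)).hom.comp
    (unitSec (ιι 𝓘 n) (𝔐.F (n + 1)) (WW_le 𝓘 n))

omit [IsAffine X] in
theorem trAdd_apply (n : ℕ) (m : Γ(𝔐.F (n + 1), WW 𝓘 (n + 1))) :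
    trAdd 𝓘 𝔐 n m =
      (𝔐.e n).hom.app (WW 𝓘 n) (unitSec (ιι 𝓘 n) (𝔐.F (n + 1)) (WW_le 𝓘 n) m) := rfl

omit [IsAffine X] in
theorem trAdd_smul (n : ℕ) (b : Γ(ZZ 𝓘 (n + 1), WW 𝓘 (n + 1))) (m : Γ(𝔐.F (n + 1), WW 𝓘 (n + 1))) :
    trAdd 𝓘 𝔐 n (b • m) = τ 𝓘 n b • trAdd 𝓘 𝔐 n m := by
  rw [trAdd_apply, trAdd_apply, unitSec_smul, Scheme.Modules.Hom.app_smul]
  rfl

/-- the transition map on sections. -/
noncomputable def tr (n : ℕ) : Mlev 𝓘 𝔐 (n + 1) →ₗ[Γ(X, ⊤)] Mlev 𝓘 𝔐 n where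
  toFun m := trAdd 𝓘 𝔐 n m
  map_add' a b := (trAdd 𝓘 𝔐 n).map_add a b
  map_smul' r m := by
    show trAdd 𝓘 𝔐 n (ρ 𝓘 (n + 1) r • (show Γ(𝔐.F (n + 1), WW 𝓘 (n + 1)) from m)) = _
    rw [trAdd_smul, τ_ρ]
    rfl

omit [IsAffine X] in
theorem tr_apply (n : ℕ) (m : Mlev 𝓘 𝔐 (n + 1)) : tr 𝓘 𝔐 n m = trAdd 𝓘 𝔐 n m := rfl

section qc

variable [h𝔐 : ∀ n, (𝔐.F n).IsQuasicoherent]

omit [IsAffine X] h𝔐 in
theorem bijective_e_app (n : ℕ) : Function.Bijective ((𝔐.e n).hom.app (WW 𝓘 n)) := by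
  haveI : IsIso ((𝔐.e n).hom.app (WW 𝓘 n)) :=
    (Scheme.Modules.Hom.isIso_iff_isIso_app (φ := (𝔐.e n).hom)).1 inferInstance _
  exact ConcreteCategory.bijective_of_isIso _

theorem tr_surjective (n : ℕ) : Function.Surjective (tr 𝓘 𝔐 n) := by
  intro z
  obtain ⟨w, hw⟩ := (bijective_e_app 𝓘 𝔐 n).2 z
  obtain ⟨m, hm⟩ := unitSec_surjective (ιι 𝓘 n) (𝔐.F (n + 1)) (isAffineOpen_WW 𝓘 (n + 1))
    (isAffineOpen_WW 𝓘 n) (WW_le 𝓘 n) (τ_surj 𝓘 n) w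
  refine ⟨m, ?_⟩
  rw [tr_apply, trAdd_apply, hm]
  exact hw

theorem ker_tr (n : ℕ) :
    LinearMap.ker (tr 𝓘 𝔐 n) = kk 𝓘 ^ (n + 1) • (⊤ : Submodule Γ(X, ⊤) (Mlev 𝓘 𝔐 (n + 1))) := by
  ext m
  rw [LinearMap.mem_ker, tr_apply, trAdd_apply]
  have h1 : (𝔐.e n).hom.app (WW 𝓘 n) (unitSec (ιι 𝓘 n) (𝔐.F (n + 1)) (WW_le 𝓘 n) m) = 0 ↔
      unitSec (ιι 𝓘 n) (𝔐.F (n + 1)) (WW_le 𝓘 n) m = 0 := by
    constructor
    · intro h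
      exact (bijective_e_app 𝓘 𝔐 n).1 (h.trans (map_zero _).symm)
    · intro h
      rw [h, map_zero]
  have h3 := unitSec_eq_zero_iff (ιι 𝓘 n) (𝔐.F (n + 1)) (isAffineOpen_WW 𝓘 (n + 1))
    (isAffineOpen_WW 𝓘 n) (WW_le 𝓘 n) (τ_surj 𝓘 n) m
  have h2 : RingHom.ker ((ιι 𝓘 n).appLE (WW 𝓘 (n + 1)) (WW 𝓘 n) (WW_le 𝓘 n)).hom =
      (kk 𝓘 ^ (n + 1)).map (ρ 𝓘 (n + 1)) := ker_τ 𝓘 n
  rw [h2] at h3
  exact h1.trans (h3.trans (mem_map_smul_top_iff (ρ 𝓘 (n + 1)) (ρ_surj 𝓘 (n + 1))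
    (N := Mlev 𝓘 𝔐 (n + 1)) (fun a y => smul_def 𝓘 𝔐 (n + 1) a y) (kk 𝓘 ^ (n + 1)) m))

/-- the inverse limit of the sections. -/
noncomputable def Lim : Submodule Γ(X, ⊤) (∀ n, Mlev 𝓘 𝔐 n) where
  carrier := {y | ∀ n, tr 𝓘 𝔐 n (y (n + 1)) = y n}
  add_mem' {a b} ha hb n := by
    show tr 𝓘 𝔐 n (a (n + 1) + b (n + 1)) = a n + b n
    rw [map_add, ha n, hb n]
  zero_mem' n := map_zero _
  smul_mem' r a ha n := by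
    show tr 𝓘 𝔐 n (r • a (n + 1)) = r • a n
    rw [map_smul, ha n]

/-- the projections of the inverse limit. -/
noncomputable def proj (n : ℕ) : Lim 𝓘 𝔐 →ₗ[Γ(X, ⊤)] Mlev 𝓘 𝔐 n :=
  (LinearMap.proj n).comp (Lim 𝓘 𝔐).subtype

omit [IsAffine X] h𝔐 in
theorem tr_comp_proj (n : ℕ) : tr 𝓘 𝔐 n ∘ₗ proj 𝓘 𝔐 (n + 1) = proj 𝓘 𝔐 n := by
  ext ⟨y, hy⟩
  exact hy n

omit [IsAffine X] h𝔐 in
theorem proj_inj (x : Lim 𝓘 𝔐) (hx : ∀ n, proj 𝓘 𝔐 n x = 0) : x = 0 := by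
  apply Subtype.ext
  funext n
  exact hx n

omit [IsAffine X] h𝔐 in
theorem proj_lift (y : ∀ n, Mlev 𝓘 𝔐 n) (hy : ∀ n, tr 𝓘 𝔐 n (y (n + 1)) = y n) :
    ∃ x : Lim 𝓘 𝔐, ∀ n, proj 𝓘 𝔐 n x = y n :=
  ⟨⟨y, hy⟩, fun _ => rfl⟩

theorem proj_surjective (n : ℕ) : Function.Surjective (proj 𝓘 𝔐 n) :=
  Groth.Agent.Lib.Helper14.proj_surjective (tr 𝓘 𝔐) (proj 𝓘 𝔐) (tr_surjective 𝓘 𝔐)
    (proj_lift 𝓘 𝔐) n

theorem ker_proj (hfg : (kk 𝓘).FG) (n : ℕ) :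
    LinearMap.ker (proj 𝓘 𝔐 n) = kk 𝓘 ^ (n + 1) • (⊤ : Submodule Γ(X, ⊤) (Lim 𝓘 𝔐)) :=
  Groth.Agent.Lib.Helper14.ker_eq_pow_smul_top (kk 𝓘) (tr 𝓘 𝔐) (proj 𝓘 𝔐) hfg (tr_surjective 𝓘 𝔐)
    (ker_tr 𝓘 𝔐) (tr_comp_proj 𝓘 𝔐) (proj_inj 𝓘 𝔐) (proj_lift 𝓘 𝔐) n

theorem finite_Lim (hfg : (kk 𝓘).FG) [IsPrecomplete (kk 𝓘) Γ(X, ⊤)]
    [Module.Finite Γ(X, ⊤) (Mlev 𝓘 𝔐 0)] : Module.Finite Γ(X, ⊤) (Lim 𝓘 𝔐) :=
  Groth.Agent.Lib.Helper14.finite_of_invLim (kk 𝓘) (tr 𝓘 𝔐) (proj 𝓘 𝔐) hfg (tr_surjective 𝓘 𝔐)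
    (ker_tr 𝓘 𝔐) (tr_comp_proj 𝓘 𝔐) (proj_inj 𝓘 𝔐) (proj_lift 𝓘 𝔐)

end qc

section iso

open Groth.Agent.Lib.Helper23.ModLocal Groth.Agent.Lib.Helper23.QCohLocal

theorem bijective_app_of_eq {T : Scheme.{u}} {M N : T.Modules} (φ : M ⟶ N) {A B : T.Opens} (h : A = B)
    (hb : Function.Bijective (φ.app B)) : Function.Bijective (φ.app A) := by
  subst h; exact hb

/-- a morphism of quasi-coherent modules which is bijective on sections over an affine open equal to the whole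
scheme is an isomorphism. -/
theorem isIso_of_bijective_app {T : Scheme.{u}} {M N : T.Modules} [M.IsQuasicoherent]
    [N.IsQuasicoherent] (φ : M ⟶ N) (W : T.Opens) (hW : W = ⊤) (hWa : IsAffineOpen W)
    (h : Function.Bijective (φ.app W)) : IsIso φ := by
  refine isIso_of_bijective_ΓU φ (fun _ : PUnit.{1} => W) ?_ (fun _ => hWa) fun i => ?_
  · refine TopologicalSpace.IsOpenCover.mk ?_
    rw [hW]
    simp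
  · have h1 : hWa.fromSpec ''ᵁ ⊤ = W :=
      (Scheme.Hom.image_top_eq_opensRange _).trans hWa.opensRange_fromSpec
    exact bijective_app_of_eq φ h1 h

end iso

section absB

variable {X' Y' Z' : Scheme.{u}} {f : X' ⟶ Y'} {g : Y' ⟶ Z'} {p : X' ⟶ Z'} (e : f ≫ g = p)

theorem comm_abs (𝓛 : Z'.Modules) (Fn : X'.Modules) (Fn1 : Y'.Modules)
    (en : (Scheme.Modules.pullback f).obj Fn1 ⟶ Fn)
    (b1 : (Scheme.Modules.pullback g).obj 𝓛 ⟶ Fn1) (b0 : (Scheme.Modules.pullback p).obj 𝓛 ⟶ Fn)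
    (V : Z'.Opens) (x : Γ(𝓛, V))
    (h : en.app (p ⁻¹ᵁ V) (unitSec f Fn1 (preimage_le e V) (b1.app (g ⁻¹ᵁ V) (uS g 𝓛 x))) =
      b0.app (p ⁻¹ᵁ V) (uS p 𝓛 x)) :
    ((T e 𝓛).inv ≫ (Scheme.Modules.pullback f).map b1 ≫ en).app (p ⁻¹ᵁ V) (uS p 𝓛 x) =
      b0.app (p ⁻¹ᵁ V) (uS p 𝓛 x) := by
  rw [← h]
  simp only [Scheme.Modules.Hom.comp_app, ConcreteCategory.comp_apply]
  have h1 : (T e 𝓛).inv.app (p ⁻¹ᵁ V) (uS p 𝓛 x) =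
      unitSec f ((Scheme.Modules.pullback g).obj 𝓛) (preimage_le e V) (unitSec g 𝓛 le_rfl x) :=
    T_inv_unitSec e 𝓛 V x
  rw [h1]
  have h2 : ((Scheme.Modules.pullback f).map b1).app (p ⁻¹ᵁ V)
      (unitSec f ((Scheme.Modules.pullback g).obj 𝓛) (preimage_le e V) (unitSec g 𝓛 le_rfl x)) =
      unitSec f Fn1 (preimage_le e V) (b1.app (g ⁻¹ᵁ V) (unitSec g 𝓛 le_rfl x)) :=
    map_unitSec _ _ _ _
  rw [h2]

end absB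

section partB

variable [h𝔐 : ∀ n, (𝔐.F n).IsQuasicoherent] (𝓛 : X.Modules) [𝓛.IsQuasicoherent]
  (θ : Γ(𝓛, ⊤) ≃ₗ[Γ(X, ⊤)] Lim 𝓘 𝔐)

/-- the additive maps `Γ(𝓛, ⊤) → Γ(F_n, W_n)`. -/
noncomputable def lAdd (n : ℕ) : Γ(𝓛, ⊤) →+ Γ(𝔐.F n, WW 𝓘 n) :=
  ((proj 𝓘 𝔐 n).comp θ.toLinearMap).toAddMonoidHom

omit [IsAffine X] h𝔐 [𝓛.IsQuasicoherent] in
theorem lAdd_apply (n : ℕ) (x : Γ(𝓛, ⊤)) : lAdd 𝓘 𝔐 𝓛 θ n x = proj 𝓘 𝔐 n (θ x) := rfl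

omit [IsAffine X] h𝔐 [𝓛.IsQuasicoherent] in
theorem lAdd_smul (n : ℕ) (r : Γ(X, ⊤)) (x : Γ(𝓛, ⊤)) :
    lAdd 𝓘 𝔐 𝓛 θ n (r • x) = ((ii 𝓘 n).app ⊤).hom r • lAdd 𝓘 𝔐 𝓛 θ n x := by
  rw [lAdd_apply, map_smul, map_smul]
  rfl

omit [IsAffine X] h𝔐 [𝓛.IsQuasicoherent] in
theorem trAdd_lAdd (n : ℕ) (x : Γ(𝓛, ⊤)) :
    trAdd 𝓘 𝔐 n (lAdd 𝓘 𝔐 𝓛 θ (n + 1) x) = lAdd 𝓘 𝔐 𝓛 θ n x :=
  LinearMap.congr_fun (tr_comp_proj 𝓘 𝔐 n) (θ x)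

omit h𝔐 in
theorem exists_bb (n : ℕ) : ∃ b : (Scheme.Modules.pullback (ii 𝓘 n)).obj 𝓛 ⟶ 𝔐.F n,
    ∀ x : Γ(𝓛, ⊤), b.app (WW 𝓘 n) (uS (ii 𝓘 n) 𝓛 x) = lAdd 𝓘 𝔐 𝓛 θ n x :=
  exists_hom_uS (ii 𝓘 n) 𝓛 (𝔐.F n) (lAdd 𝓘 𝔐 𝓛 θ n) (lAdd_smul 𝓘 𝔐 𝓛 θ n)

/-- the comparison morphisms `(ii n)^* 𝓛 ⟶ F_n`. -/
noncomputable def bb (n : ℕ) : (Scheme.Modules.pullback (ii 𝓘 n)).obj 𝓛 ⟶ 𝔐.F n :=
  (exists_bb 𝓘 𝔐 𝓛 θ n).choose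

omit h𝔐 in
theorem bb_uS (n : ℕ) (x : Γ(𝓛, ⊤)) :
    (bb 𝓘 𝔐 𝓛 θ n).app (WW 𝓘 n) (uS (ii 𝓘 n) 𝓛 x) = lAdd 𝓘 𝔐 𝓛 θ n x :=
  (exists_bb 𝓘 𝔐 𝓛 θ n).choose_spec x

theorem bb_bijective (hfg : (kk 𝓘).FG) (n : ℕ) :
    Function.Bijective ((bb 𝓘 𝔐 𝓛 θ n).app (WW 𝓘 n)) := by
  constructor
  · refine (injective_iff_map_eq_zero ((bb 𝓘 𝔐 𝓛 θ n).app (WW 𝓘 n)).hom).2 ?_
    intro w hw
    obtain ⟨x, rfl⟩ := uS_surj 𝓘 𝓛 n w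
    have hw' : (bb 𝓘 𝔐 𝓛 θ n).app (WW 𝓘 n) (uS (ii 𝓘 n) 𝓛 x) = 0 := hw
    rw [bb_uS, lAdd_apply] at hw'
    have h1 : θ x ∈ LinearMap.ker (proj 𝓘 𝔐 n) := hw'
    rw [ker_proj 𝓘 𝔐 hfg n] at h1
    have h2 : x ∈ kk 𝓘 ^ (n + 1) • (⊤ : Submodule Γ(X, ⊤) Γ(𝓛, ⊤)) := by
      have h3 := Submodule.mem_map_of_mem (f := θ.symm.toLinearMap) h1
      rw [Submodule.map_smul'', Submodule.map_top,
        LinearMap.range_eq_top.2 θ.symm.surjective] at h3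
      simpa using h3
    exact (uS_eq_zero_iff_pow 𝓘 𝓛 n x).2 h2
  · intro z
    obtain ⟨y, hy⟩ := proj_surjective 𝓘 𝔐 n z
    obtain ⟨x, rfl⟩ := θ.surjective y
    exact ⟨uS (ii 𝓘 n) 𝓛 x, (bb_uS 𝓘 𝔐 𝓛 θ n x).trans hy⟩

theorem isIso_bb (hfg : (kk 𝓘).FG) (n : ℕ) : IsIso (bb 𝓘 𝔐 𝓛 θ n) := by
  haveI : ((Scheme.Modules.pullback (ii 𝓘 n)).obj 𝓛).IsQuasicoherent :=
    Groth.Agent.Lib.Helper2.PullbackSec.isQuasicoherent_pullback (ii 𝓘 n) 𝓛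
  exact isIso_of_bijective_app (bb 𝓘 𝔐 𝓛 θ n) (WW 𝓘 n) rfl (isAffineOpen_WW 𝓘 n)
    (bb_bijective 𝓘 𝔐 𝓛 θ hfg n)

omit h𝔐 in
theorem bb_comm (n : ℕ) :
    (Scheme.Modules.pullback (ιι 𝓘 n)).map (bb 𝓘 𝔐 𝓛 θ (n + 1)) ≫ (𝔐.e n).hom =
      (T (ι_ii 𝓘 n) 𝓛).hom ≫ bb 𝓘 𝔐 𝓛 θ n := by
  rw [← Iso.inv_comp_eq]
  refine hom_ext_uS (ii 𝓘 n) 𝓛 (𝔐.F n) _ _ (fun x => ?_)
  refine comm_abs (ι_ii 𝓘 n) 𝓛 (𝔐.F n) (𝔐.F (n + 1)) (𝔐.e n).hom (bb 𝓘 𝔐 𝓛 θ (n + 1))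
    (bb 𝓘 𝔐 𝓛 θ n) ⊤ x ?_
  rw [bb_uS, bb_uS, ← trAdd_lAdd 𝓘 𝔐 𝓛 θ n x]
  rfl

include θ in
/-- the system `𝔐` is isomorphic to the completion of `𝓛`. -/
theorem nonempty_iso (hfg : (kk 𝓘).FG) : Nonempty (𝔐 ≅ FSch.complMod 𝓘 𝓛) := by
  haveI : ∀ n, IsIso (bb 𝓘 𝔐 𝓛 θ n) := isIso_bb 𝓘 𝔐 𝓛 θ hfg
  let β : FSch.complMod 𝓘 𝓛 ⟶ 𝔐 :=
    ⟨fun n => bb 𝓘 𝔐 𝓛 θ n, fun n => by
      rw [complMod_e_eq]
      exact bb_comm 𝓘 𝔐 𝓛 θ n⟩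
  let γ : 𝔐 ⟶ FSch.complMod 𝓘 𝓛 :=
    ⟨fun n => (inv (bb 𝓘 𝔐 𝓛 θ n) : 𝔐.F n ⟶ (Scheme.Modules.pullback (ii 𝓘 n)).obj 𝓛), fun n => by
      rw [complMod_e_eq]
      show (Scheme.Modules.pullback (ιι 𝓘 n)).map (inv (bb 𝓘 𝔐 𝓛 θ (n + 1))) ≫
        (T (ι_ii 𝓘 n) 𝓛).hom = (𝔐.e n).hom ≫ inv (bb 𝓘 𝔐 𝓛 θ n)
      have hb := bb_comm 𝓘 𝔐 𝓛 θ n
      rw [← cancel_mono (bb 𝓘 𝔐 𝓛 θ n), Category.assoc, Category.assoc, IsIso.inv_hom_id,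
        Category.comp_id, ← hb, ← Category.assoc, ← Functor.map_comp, IsIso.inv_hom_id,
        CategoryTheory.Functor.map_id, Category.id_comp]⟩
  refine ⟨{ hom := γ, inv := β, hom_inv_id := ?_, inv_hom_id := ?_ }⟩
  · refine FSch.ModSys.Hom.ext (funext fun n => ?_)
    show inv (bb 𝓘 𝔐 𝓛 θ n) ≫ bb 𝓘 𝔐 𝓛 θ n = 𝟙 _
    exact IsIso.inv_hom_id _
  · refine FSch.ModSys.Hom.ext (funext fun n => ?_)
    show bb 𝓘 𝔐 𝓛 θ n ≫ inv (bb 𝓘 𝔐 𝓛 θ n) = 𝟙 _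
    exact IsIso.hom_inv_id _

end partB

section spec

open Groth.Agent.Lib.Helper23.FinType

variable (A : Type u) [CommRing A] (J : Ideal A)

theorem finite_Mlev_zero
    (𝔐 : FSch.ModSys (FSch.completionAlong (Spec (CommRingCat.of A)) (FSch.idealSpec A J)))
    (h𝔐 : 𝔐.IsCoh) :
    Module.Finite Γ(Spec (CommRingCat.of A), ⊤) (Mlev (FSch.idealSpec A J) 𝔐 0) := by
  haveI : (𝔐.F 0).IsQuasicoherent := (h𝔐 0).1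
  haveI : SheafOfModules.IsFiniteType
      (R := ((FSch.completionAlong (Spec (CommRingCat.of A)) (FSch.idealSpec A J)).X 0).ringCatSheaf)
      (𝔐.F 0) := (h𝔐 0).2
  have h1 : Module.Finite Γ(ZZ (FSch.idealSpec A J) 0, WW (FSch.idealSpec A J) 0)
      Γ(𝔐.F 0, WW (FSch.idealSpec A J) 0) :=
    finite_of_isFiniteType (𝔐.F 0) (isAffineOpen_WW (FSch.idealSpec A J) 0)
  exact (finite_iff_of_semilinear (N := Mlev (FSch.idealSpec A J) 𝔐 0)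
    (N' := Γ(𝔐.F 0, WW (FSch.idealSpec A J) 0)) (ρ (FSch.idealSpec A J) 0)
    (ρ_surj (FSch.idealSpec A J) 0) (AddEquiv.refl _) (fun r x => rfl)).2 h1

theorem exists_iso_tilde [IsNoetherianRing A] [IsAdicComplete J A]
    (𝔐 : FSch.ModSys (FSch.completionAlong (Spec (CommRingCat.of A)) (FSch.idealSpec A J)))
    (h𝔐 : 𝔐.IsCoh) :
    ∃ M : ModuleCat.{u} A, Module.Finite A M ∧
      Nonempty (𝔐 ≅ FSch.complMod (FSch.idealSpec A J) (tilde M)) := by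
  haveI hq : ∀ n, (𝔐.F n).IsQuasicoherent := fun n => (h𝔐 n).1
  haveI : IsNoetherianRing Γ(Spec (CommRingCat.of A), ⊤) := isNoetherianRing_of_ringEquiv A (eΓ A)
  haveI hc : IsAdicComplete (kk (FSch.idealSpec A J)) Γ(Spec (CommRingCat.of A), ⊤) := by
    rw [kk_idealSpec]
    exact (IsAdicComplete.congr_ringEquiv J (eΓ A)).2 inferInstance
  have hfg : (kk (FSch.idealSpec A J)).FG := IsNoetherian.noetherian _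
  haveI := finite_Mlev_zero A J 𝔐 h𝔐
  haveI hLfin : Module.Finite Γ(Spec (CommRingCat.of A), ⊤) (Lim (FSch.idealSpec A J) 𝔐) :=
    finite_Lim (FSch.idealSpec A J) 𝔐 hfg
  letI : Module A (Lim (FSch.idealSpec A J) 𝔐) := Module.compHom _ (eΓ A).toRingHom
  let M : ModuleCat.{u} A := ModuleCat.of A (Lim (FSch.idealSpec A J) 𝔐)
  have hMfin : Module.Finite A M :=
    (finite_iff_of_semilinear (N := M) (N' := Lim (FSch.idealSpec A J) 𝔐) (eΓ A).toRingHom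
      (eΓ A).surjective (AddEquiv.refl _) (fun r x => rfl)).2 hLfin
  refine ⟨M, hMfin, ?_⟩
  let ε := (tilde.isoTop (R := CommRingCat.of A) M).toLinearEquiv
  have hsm : ∀ (a : A) (x : ↑((modulesSpecToSheaf.obj (tilde (R := CommRingCat.of A) M)).presheaf.obj
      (op ⊤))), a • x = eΓ A a • (show Γ(tilde (R := CommRingCat.of A) M, ⊤) from x) := by
    intro a x
    have h1 : a • x = _ := Scheme.Modules.smul_Spec_def (R := CommRingCat.of A)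
      (M := tilde (R := CommRingCat.of A) M) (U := ⊤) a x
    refine h1.trans ?_
    congr 1
  let θ : Γ(tilde (R := CommRingCat.of A) M, ⊤) ≃ₗ[Γ(Spec (CommRingCat.of A), ⊤)]
      Lim (FSch.idealSpec A J) 𝔐 :=
    { toFun := fun x => ε.symm x
      invFun := fun y => ε y
      left_inv := fun x => ε.apply_symm_apply x
      right_inv := fun y => ε.symm_apply_apply y
      map_add' := fun x y => map_add ε.symm x y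
      map_smul' := fun r x => by
        obtain ⟨a, rfl⟩ := (eΓ A).surjective r
        show ε.symm (eΓ A a • x) = eΓ A a • ε.symm x
        have h2 := hsm a x
        have h3 : ε.symm (a • (show ↑((modulesSpecToSheaf.obj
            (tilde (R := CommRingCat.of A) M)).presheaf.obj (op ⊤)) from x)) = a • ε.symm x :=
          map_smul ε.symm a _
        rw [h2] at h3
        exact h3 }
  exact nonempty_iso (FSch.idealSpec A J) 𝔐 (tilde (R := CommRingCat.of A) M) θ hfg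

end spec

end Groth.Agent.Lib.R2H2.ComplSys
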