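import Groth.Agent.Lib.R2H2HomLiftA
import Groth.Agent.Lib.R2H2GammaRep
import Groth.Agent.Lib.Helper21UnitHom
import Groth.Agent.Lib.Helper21ModTensor6

/-!
# `Hom(E, -)` for a finite locally free `E` in terms of global sections (helper2, round 2)

* `Psi_add` : the bijection `Hom(E, B) ≃ Hom(O_X, E^∨ ⊗ B)` of `R2H2HomLiftA` is additive.
* `homIso E hE : Hom(E, -) ≅ (E^∨ ⊗ -) ⋙ Hom(O_X, -)` as functors to abelian groups.
* `unitIso A : Hom(O_X, -) ≅ Γ(X, -)` (global sections as `A`-modules, forgetting the module structure).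
* `swapNat F D : (- ⊗ F) ⋙ (D ⊗ -) ≅ (- ⊗ (F ⊗ D))`.
* `betaIso A F E hE : M ↦ Hom(E, f^*M~ ⊗ F)` is `M ↦ Γ(X, f^*M~ ⊗ (F ⊗ E^∨))`.
-/

set_option backward.isDefEq.respectTransparency.types false
set_option autoImplicit false
set_option linter.unusedSectionVars false
set_option linter.style.haveILetI false
universe u

open CategoryTheory CategoryTheory.Limits AlgebraicGeometry TopologicalSpace Opposite

noncomputable section

namespace Groth.Agent.Lib.R2H2.CorepHomA

open Groth.Agent.Lib.Helper1.PT Groth.Agent.Lib.R2H1.ProjLF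
  Groth.Agent.Lib.Helper21.Dual Groth.Agent.Lib.Helper21.ModTensor3
  Groth.Agent.Lib.Helper21.ModTensor5 Groth.Agent.Lib.R2H2.HomLiftA

attribute [local instance] Groth.Agent.Lib.Helper21.ExtShDelta.hasSheafHom

section Psi

variable {X : Scheme.{u}} (E : X.Modules) (hE : FlatMod.IsFinLocFree E)

theorem Psi_add (B : X.Modules) (u u' : E ⟶ B) :
    Psi E hE B (u + u') = Psi E hE B u + Psi E hE B u' := by
  rw [Psi_apply, Psi_apply, Psi_apply]
  haveI : (tR X.sheaf E).Additive := tR_additive X.sheaf E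
  have h0 : (lam X).hom.app E ≫ (u + u') =
      (lam X).hom.app E ≫ u + (lam X).hom.app E ≫ u' := Preadditive.comp_add _ _ _ _ _ _
  have h := (dualAdj (O := X.sheaf) E (isLocFF_of_isFinLocFree E hE)).homAddEquiv_add
    (Coh.structureModule X) B ((lam X).hom.app E ≫ u) ((lam X).hom.app E ≫ u')
  refine (congrArg (fun t => (dualAdj (O := X.sheaf) E (isLocFF_of_isFinLocFree E hE)).homEquiv
    (Coh.structureModule X) B t ≫ (brdApp X.sheaf B (dl E)).hom) h0).trans ?_
  refine (congrArg (fun t => t ≫ (brdApp X.sheaf B (dl E)).hom) h).trans ?_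
  exact Preadditive.add_comp _ _ _ _ _ _

/-- `Hom(E, -) ≅ (E^∨ ⊗ -) ⋙ Hom(O_X, -)` -/
def homIso : preadditiveCoyoneda.obj (op E) ≅
    DCoh.tensorBi.obj (dl E) ⋙ preadditiveCoyoneda.obj (op (Coh.structureModule X)) :=
  NatIso.ofComponents
    (fun B => AddEquiv.toAddCommGrpIso
      { (Psi E hE B) with map_add' := Psi_add E hE B })
    (fun {B B'} b => by
      ext u
      exact Psi_naturality E hE u b)

theorem homIso_hom_app (B : X.Modules) (u : E ⟶ B) :
    ((homIso E hE).hom.app B).hom u = Psi E hE B u := rfl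

end Psi

section Unit

variable (A : Type u) [CommRing A] {X : Scheme.{u}} [X.Over (Spec (CommRingCat.of A))]

/-- `Hom(O_X, N) ≃+ Γ(X, N)` -/
def unitEquiv (N : X.Modules) :
    (Coh.structureModule X ⟶ N) ≃+
      ((CohIII.globalSectionsA A ⋙ forget₂ (ModuleCat.{u} A) AddCommGrpCat.{u}).obj N : Type u) :=
  (Groth.Agent.Lib.Helper21.UnitHom.unitHomAddEquiv (R := X.ringCatSheaf)
    (Limits.isTerminalTop : IsTerminal (⊤ : Opens X)) N).trans
    (Groth.Agent.Lib.R2H2.GammaRep.idEquiv A N).symm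

/-- `Hom(O_X, -) ≅ Γ(X, -)` -/
def unitIso : preadditiveCoyoneda.obj (op (Coh.structureModule X)) ≅
    CohIII.globalSectionsA A ⋙ forget₂ (ModuleCat.{u} A) AddCommGrpCat.{u} :=
  NatIso.ofComponents (fun N => (unitEquiv A N).toAddCommGrpIso)
    (fun {N N'} φ => by
      ext u
      rfl)

end Unit

section Swap

variable {X : Scheme.{u}} (F D : X.Modules)

/-- `D ⊗ (P ⊗ F) ≅ P ⊗ (F ⊗ D)`, naturally in `P` -/
def swapNat : DCoh.tensorRightMod F ⋙ DCoh.tensorBi.obj D ≅
    DCoh.tensorRightMod ((DCoh.tensorBi.obj F).obj D) :=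
  Functor.isoWhiskerLeft (DCoh.tensorRightMod F) ((brd X.sheaf).app D) ≪≫
    Groth.Agent.Lib.Helper21.ModTensor6.tRTensorIso X.sheaf F D

variable (A : Type u) [CommRing A] [X.Over (Spec (CommRingCat.of A))]

/-- `D ⊗ (f^*M~ ⊗ F) ≅ f^*M~ ⊗ (F ⊗ D)`, naturally in `M` -/
def tensorASwap : CohIII.tensorAFunctor A F ⋙ DCoh.tensorBi.obj D ≅
    CohIII.tensorAFunctor A ((DCoh.tensorBi.obj F).obj D) :=
  NatIso.ofComponents
    (fun M => (swapNat F D).app ((Scheme.Modules.pullback (X ↘ Spec (CommRingCat.of A))).obj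
      ((tilde.functor (CommRingCat.of A)).obj M)))
    (fun g => (swapNat F D).hom.naturality
      ((Scheme.Modules.pullback (X ↘ Spec (CommRingCat.of A))).map
        ((tilde.functor (CommRingCat.of A)).map g)))

end Swap

section Beta

variable (A : Type u) [CommRing A] {X : Scheme.{u}} [X.Over (Spec (CommRingCat.of A))]
  (F E : X.Modules) (hE : FlatMod.IsFinLocFree E)

/-- the coefficient module `F ⊗ E^∨` -/
abbrev FD : X.Modules := (DCoh.tensorBi.obj F).obj (dl E)

/-- `M ↦ Hom(E, f^*M~ ⊗ F)` is `M ↦ Γ(X, f^*M~ ⊗ (F ⊗ E^∨))` -/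
def betaIso : CohIII.tensorAFunctor A F ⋙ preadditiveCoyoneda.obj (op E) ≅
    Groth.Agent.Lib.R2H2.GammaRep.G A (FD F E) ⋙
      forget₂ (ModuleCat.{u} A) AddCommGrpCat.{u} :=
  Functor.isoWhiskerLeft (CohIII.tensorAFunctor A F) (homIso E hE) ≪≫
    (Functor.associator _ _ _).symm ≪≫
    Functor.isoWhiskerRight (tensorASwap F (dl E) A)
      (preadditiveCoyoneda.obj (op (Coh.structureModule X))) ≪≫
    Functor.isoWhiskerLeft (CohIII.tensorAFunctor A (FD F E)) (unitIso A) ≪≫
    (Functor.associator _ _ _).symm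

end Beta

end Groth.Agent.Lib.R2H2.CorepHomA
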