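import Groth.Agent.Lib.R2H2CorepHomA
import Groth.Agent.Lib.Helper1KBC3
import Groth.Agent.Lib.H9FreeFib
import Groth.Agent.Lib.R2H1BirDeg
import Groth.Agent.Lib.R2H2PnLocFree

/-!
# Flatness over the base of `F ⊗ D` for `D` finite locally free (helper2, round 2)
-/

set_option backward.isDefEq.respectTransparency.types false
set_option autoImplicit false
set_option linter.unusedSectionVars false
set_option linter.style.haveILetI false
universe u

open CategoryTheory CategoryTheory.Limits AlgebraicGeometry TopologicalSpace Opposite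
  MonoidalCategory TensorProduct

noncomputable section

namespace Groth.Agent.Lib.R2H2.CorepHomB

section Alg

variable {R T : Type u} [CommRing R] [CommRing T] (φ : R →+* T)

/-- the identity, comparing two `R`-module structures on finitely supported functions -/
def idEq (ι : Type u) (N : ModuleCat.{u} T) :
    (ι →₀ ((ModuleCat.restrictScalars φ).obj N : Type u)) ≃ₗ[R]
      ((ModuleCat.restrictScalars φ).obj (ModuleCat.of T (ι →₀ N)) : Type u) where
  toFun v := v
  invFun v := v
  left_inv _ := rfl
  right_inv _ := rfl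
  map_add' _ _ := rfl
  map_smul' _ _ := rfl

theorem flat_res_tensor_of_free (N P : ModuleCat.{u} T)
    (hN : Module.Flat R ((ModuleCat.restrictScalars φ).obj N)) [Module.Free T P] :
    Module.Flat R ((ModuleCat.restrictScalars φ).obj (N ⊗ P)) := by
  classical
  let b := Module.Free.chooseBasis T P
  let e : (N ⊗ P : ModuleCat.{u} T) ≅ ModuleCat.of T (Module.Free.ChooseBasisIndex T P →₀ N) :=
    (TensorProduct.equivFinsuppOfBasisRight b).toModuleIso
  let e1 := ((ModuleCat.restrictScalars φ).mapIso e).toLinearEquiv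
  let e2 := (idEq φ (Module.Free.ChooseBasisIndex T P) N).symm
  let e3 := finsuppLEquivDirectSum R ((ModuleCat.restrictScalars φ).obj N : Type u)
    (Module.Free.ChooseBasisIndex T P)
  haveI : Module.Flat R ((ModuleCat.restrictScalars φ).obj N : Type u) := hN
  exact Module.Flat.of_linearEquiv ((e1.trans e2).trans e3)

end Alg

section Geo

open Groth.Agent.Lib.Helper1.BKF Groth.Agent.Lib.Helper1.Sky Groth.Agent.Lib.Helper1.KBC

variable {X S : Scheme.{u}} (f : X ⟶ S)

lemma isFlatOverAt_iff (M : X.Modules) (y : X) :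
    FlatMod.IsFlatOverAt f M y ↔
      Module.Flat (Ox (f.base y)) ((ModuleCat.restrictScalars.{u} (f.stalkMap y).hom).obj ((stalkFun y).obj M)) := Iff.rfl

theorem isFlatOverAt_tensor (F D : X.Modules) (hD : FlatMod.IsFinLocFree D) (y : X)
    (h : FlatMod.IsFlatOverAt f F y) :
    FlatMod.IsFlatOverAt f ((DCoh.tensorBi.obj F).obj D) y := by
  rw [isFlatOverAt_iff] at h ⊢
  haveI : D.IsQuasicoherent := Groth.Agent.Lib.R2H2.PullLF.isQuasicoherent_of_isFinLocFree D hD
  haveI := Groth.Agent.Lib.Helper2.LocFree.isFP_of_isFinLocFree D hD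
  haveI : Module.Free (Ox y) ((stalkFun y).obj D) :=
    (Groth.Agent.Lib.H9FreeFib.isFinLocFree_iff_forall_free (M := D)).1 hD y
  have h1 := flat_res_tensor_of_free (f.stalkMap y).hom ((stalkFun y).obj F)
    ((stalkFun y).obj D) h
  haveI : Module.Flat (Ox (f.base y)) ((ModuleCat.restrictScalars.{u} (f.stalkMap y).hom).obj
      (((G₂ y).obj F).obj D)) := h1
  exact Module.Flat.of_linearEquiv
    ((ModuleCat.restrictScalars.{u} (f.stalkMap y).hom).mapIso (stalkTensorApp y F D)).toLinearEquiv

theorem isFlatOver_tensor (F D : X.Modules) (hD : FlatMod.IsFinLocFree D)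
    (h : FlatMod.IsFlatOver f F) : FlatMod.IsFlatOver f ((DCoh.tensorBi.obj F).obj D) :=
  fun y => isFlatOverAt_tensor f F D hD y (h y)

theorem isCoh_tensor (F D : X.Modules) (hF : Coh.IsCoh F) (hD : FlatMod.IsFinLocFree D) :
    Coh.IsCoh ((DCoh.tensorBi.obj F).obj D) :=
  Groth.Agent.Lib.R2H1.BirDeg.isCoh_tensorMod hF
    (Groth.Agent.Lib.R2H2.PnLocFree.isCoh_of_isFinLocFree D hD)

end Geo

end Groth.Agent.Lib.R2H2.CorepHomB
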