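import Mathlib

/-!
# Corepresentability of `M ↦ Hom(G, T M)` from a presentation of `G` (helper2, round 2)

Abstract form: `T : A-Mod ⥤ 𝒟`, `E₁ → E₀ → G → 0` a cokernel diagram in `𝒟`, and the functors
`M ↦ Hom(E_i, T M)` corepresented by `A`-modules `Q_i`.  Then `M ↦ Hom(G, T M)` is corepresented by the
cokernel of a map `u : Q₁ ⟶ Q₀`.
-/

set_option backward.isDefEq.respectTransparency.types false
set_option autoImplicit false
set_option linter.unusedSectionVars false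
set_option linter.style.haveILetI false
universe u

open CategoryTheory CategoryTheory.Limits Opposite

noncomputable section

namespace Groth.Agent.Lib.R2H2.CorepHomC

variable {A : Type u} [CommRing A] {𝒟 : Type (u + 1)} [Category.{u} 𝒟] [Preadditive 𝒟]
  (T : ModuleCat.{u} A ⥤ 𝒟)

/-- the functor `Hom_A(Q, -)` with values in abelian groups -/
abbrev K (Q : ModuleCat.{u} A) : ModuleCat.{u} A ⥤ AddCommGrpCat.{u} :=
  (linearCoyoneda A (ModuleCat.{u} A)).obj (op Q) ⋙ forget₂ (ModuleCat.{u} A) AddCommGrpCat.{u}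

section FwBw

variable {T} {E : 𝒟} {Q : ModuleCat.{u} A}
  (γ : T ⋙ preadditiveCoyoneda.obj (op E) ≅ K Q)

/-- forward component -/
def fw (M : ModuleCat.{u} A) : (E ⟶ T.obj M) →+ (Q ⟶ M) := (γ.hom.app M).hom

/-- backward component -/
def bw (M : ModuleCat.{u} A) : (Q ⟶ M) →+ (E ⟶ T.obj M) := (γ.inv.app M).hom

theorem bw_fw (M : ModuleCat.{u} A) (t : E ⟶ T.obj M) : bw γ M (fw γ M t) = t := by
  have h : γ.hom.app M ≫ γ.inv.app M = 𝟙 _ := by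
    rw [← NatTrans.comp_app, γ.hom_inv_id]
    rfl
  exact congrArg (fun g => g.hom t) h

theorem fw_bw (M : ModuleCat.{u} A) (z : Q ⟶ M) : fw γ M (bw γ M z) = z := by
  have h : γ.inv.app M ≫ γ.hom.app M = 𝟙 _ := by
    rw [← NatTrans.comp_app, γ.inv_hom_id]
    rfl
  exact congrArg (fun g => g.hom z) h

theorem fw_nat {M M' : ModuleCat.{u} A} (m : M ⟶ M') (t : E ⟶ T.obj M) :
    fw γ M' (t ≫ T.map m) = fw γ M t ≫ m :=
  congrArg (fun g => g.hom t) (γ.hom.naturality m)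

theorem bw_nat {M M' : ModuleCat.{u} A} (m : M ⟶ M') (z : Q ⟶ M) :
    bw γ M' (z ≫ m) = bw γ M z ≫ T.map m :=
  congrArg (fun g => g.hom z) (γ.inv.naturality m)

theorem fw_injective (M : ModuleCat.{u} A) : Function.Injective (fw γ M) :=
  Function.LeftInverse.injective (bw_fw γ M)

end FwBw

section Main

variable {T} {E₀ E₁ G : 𝒟} (v : E₁ ⟶ E₀) (π : E₀ ⟶ G) (w : v ≫ π = 0)
  (hc : IsColimit (CokernelCofork.ofπ π w))
  {Q₀ Q₁ : ModuleCat.{u} A}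
  (γ₀ : T ⋙ preadditiveCoyoneda.obj (op E₀) ≅ K Q₀)
  (γ₁ : T ⋙ preadditiveCoyoneda.obj (op E₁) ≅ K Q₁)

/-- the map of corepresenting modules induced by `v` -/
def uu : Q₁ ⟶ Q₀ := fw γ₁ Q₀ (v ≫ bw γ₀ Q₀ (𝟙 Q₀))

theorem fw_comp (M : ModuleCat.{u} A) (t : E₀ ⟶ T.obj M) :
    fw γ₁ M (v ≫ t) = uu v γ₀ γ₁ ≫ fw γ₀ M t := by
  have h1 : t = bw γ₀ Q₀ (𝟙 Q₀) ≫ T.map (fw γ₀ M t) := by
    rw [← bw_nat, Category.id_comp, bw_fw]
  have h2 : v ≫ t = (v ≫ bw γ₀ Q₀ (𝟙 Q₀)) ≫ T.map (fw γ₀ M t) := by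
    rw [Category.assoc, ← h1]
  rw [h2, fw_nat]
  rfl

/-- the corepresenting module: the cokernel of `uu` -/
abbrev NN : ModuleCat.{u} A := ModuleCat.of A (Q₀ ⧸ LinearMap.range (uu v γ₀ γ₁).hom)

/-- the quotient map -/
def pp : Q₀ ⟶ NN v γ₀ γ₁ := ModuleCat.ofHom (LinearMap.range (uu v γ₀ γ₁).hom).mkQ

instance : Epi (pp v γ₀ γ₁) :=
  (ModuleCat.epi_iff_surjective _).2 (Submodule.mkQ_surjective _)

theorem uu_pp : uu v γ₀ γ₁ ≫ pp v γ₀ γ₁ = 0 := by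
  ext z
  show (LinearMap.range (uu v γ₀ γ₁).hom).mkQ ((uu v γ₀ γ₁).hom z) = 0
  rw [Submodule.mkQ_apply, Submodule.Quotient.mk_eq_zero]
  exact ⟨z, rfl⟩

theorem exists_fac (M : ModuleCat.{u} A) (z : Q₀ ⟶ M) (hz : uu v γ₀ γ₁ ≫ z = 0) :
    ∃ y : NN v γ₀ γ₁ ⟶ M, pp v γ₀ γ₁ ≫ y = z := by
  refine ⟨ModuleCat.ofHom ((LinearMap.range (uu v γ₀ γ₁).hom).liftQ z.hom ?_), ?_⟩
  · rintro _ ⟨x, rfl⟩
    rw [LinearMap.mem_ker]
    exact congrArg (fun g => g.hom x) hz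
  · ext x
    rfl

include w in
theorem uu_fw_eq_zero (M : ModuleCat.{u} A) (g : G ⟶ T.obj M) :
    uu v γ₀ γ₁ ≫ fw γ₀ M (π ≫ g) = 0 := by
  rw [← fw_comp, ← Category.assoc, w, zero_comp, map_zero]

/-- the comparison map on components -/
def Φ (M : ModuleCat.{u} A) (g : G ⟶ T.obj M) : NN v γ₀ γ₁ ⟶ M :=
  (exists_fac v γ₀ γ₁ M _ (uu_fw_eq_zero v π w γ₀ γ₁ M g)).choose

theorem pp_Φ (M : ModuleCat.{u} A) (g : G ⟶ T.obj M) :
    pp v γ₀ γ₁ ≫ Φ v π w γ₀ γ₁ M g = fw γ₀ M (π ≫ g) :=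
  (exists_fac v γ₀ γ₁ M _ (uu_fw_eq_zero v π w γ₀ γ₁ M g)).choose_spec

theorem Φ_add (M : ModuleCat.{u} A) (g g' : G ⟶ T.obj M) :
    Φ v π w γ₀ γ₁ M (g + g') = Φ v π w γ₀ γ₁ M g + Φ v π w γ₀ γ₁ M g' := by
  rw [← cancel_epi (pp v γ₀ γ₁), Preadditive.comp_add, pp_Φ, pp_Φ, pp_Φ, Preadditive.comp_add,
    map_add]

theorem Φ_nat {M M' : ModuleCat.{u} A} (m : M ⟶ M') (g : G ⟶ T.obj M) :
    Φ v π w γ₀ γ₁ M' (g ≫ T.map m) = Φ v π w γ₀ γ₁ M g ≫ m := by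
  rw [← cancel_epi (pp v γ₀ γ₁), pp_Φ, ← Category.assoc, fw_nat, ← Category.assoc, pp_Φ]

include hc in
theorem Φ_bijective (M : ModuleCat.{u} A) : Function.Bijective (Φ v π w γ₀ γ₁ M) := by
  constructor
  · intro g g' h
    have h1 : fw γ₀ M (π ≫ g) = fw γ₀ M (π ≫ g') := by
      rw [← pp_Φ v π w γ₀ γ₁, ← pp_Φ v π w γ₀ γ₁, h]
    have h2 := fw_injective γ₀ M h1
    exact Cofork.IsColimit.hom_ext hc h2
  · intro y
    let z : Q₀ ⟶ M := pp v γ₀ γ₁ ≫ y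
    let t : E₀ ⟶ T.obj M := bw γ₀ M z
    have h1 : fw γ₁ M (v ≫ t) = 0 := by
      rw [fw_comp, fw_bw, ← Category.assoc, uu_pp, zero_comp]
    have h2 : v ≫ t = 0 := by
      apply fw_injective γ₁ M
      rw [h1, map_zero]
    let g : G ⟶ T.obj M := hc.desc (CokernelCofork.ofπ t h2)
    have hg : π ≫ g = t := hc.fac (CokernelCofork.ofπ t h2) WalkingParallelPair.one
    refine ⟨g, ?_⟩
    rw [← cancel_epi (pp v γ₀ γ₁), pp_Φ, hg, fw_bw]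

include hc in
/-- **corepresentability of `M ↦ Hom(G, T M)`** -/
theorem nonempty_iso :
    Nonempty (T ⋙ preadditiveCoyoneda.obj (op G) ≅ K (NN v γ₀ γ₁)) := by
  refine ⟨NatIso.ofComponents (fun M => AddEquiv.toAddCommGrpIso
    (AddEquiv.ofBijective (AddMonoidHom.mk' (Φ v π w γ₀ γ₁ M) (Φ_add v π w γ₀ γ₁ M))
      (Φ_bijective v π w hc γ₀ γ₁ M))) ?_⟩
  intro M M' m
  ext g
  exact Φ_nat v π w γ₀ γ₁ m g

end Main

end Groth.Agent.Lib.R2H2.CorepHomC
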