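import Groth.Agent.Lib.R2H2CorepHomB
import Groth.Agent.Lib.R2H2CorepHomC

/-!
# `M ↦ Hom(G, f^*(M~) ⊗ F)` is corepresentable (S4500) (helper2, round 2)
-/

set_option backward.isDefEq.respectTransparency.types false
set_option autoImplicit false
set_option linter.unusedSectionVars false
set_option linter.style.haveILetI false
universe u

open CategoryTheory CategoryTheory.Limits AlgebraicGeometry TopologicalSpace Opposite

noncomputable section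

namespace Groth.Agent.Lib.R2H2.CorepHomD

open Groth.Agent.Lib.R2H2.CorepHomA Groth.Agent.Lib.R2H2.CorepHomB Groth.Agent.Lib.R2H2.CorepHomC
  Groth.Agent.Lib.R2H2.HomLiftA

theorem main4500 (A : Type u) [CommRing A] [IsNoetherianRing A]
    (X : Scheme.{u}) [X.Over (Spec (CommRingCat.of A))] [IsProper (X ↘ Spec (CommRingCat.of A))]
    (F : X.Modules) (hF : Coh.IsCoh F) (hfl : FlatMod.IsFlatOver (X ↘ Spec (CommRingCat.of A)) F)
    (G E₀ E₁ : X.Modules) (h₀ : FlatMod.IsFinLocFree E₀) (h₁ : FlatMod.IsFinLocFree E₁)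
    (v : E₁ ⟶ E₀) (π : E₀ ⟶ G) [Epi π] (w : v ≫ π = 0) (hex : (ShortComplex.mk v π w).Exact) :
    ∃ N : ModuleCat.{u} A, Module.Finite A N ∧
      Nonempty (CohIII.tensorAFunctor A F ⋙ preadditiveCoyoneda.obj (op G) ≅
        (linearCoyoneda A (ModuleCat.{u} A)).obj (op N) ⋙
          forget₂ (ModuleCat.{u} A) AddCommGrpCat.{u}) := by
  have hD₀ := Groth.Agent.Lib.R2H2.PnLocFree.isFinLocFree_dual E₀ h₀
  have hD₁ := Groth.Agent.Lib.R2H2.PnLocFree.isFinLocFree_dual E₁ h₁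
  obtain ⟨Q₀, hQ₀, ⟨e₀⟩⟩ := Groth.Agent.Lib.R2H2.GammaRep.exists_corep_Γ A X (FD F E₀)
    (isCoh_tensor F _ hF hD₀) (isFlatOver_tensor _ F _ hD₀ hfl)
  obtain ⟨Q₁, hQ₁, ⟨e₁⟩⟩ := Groth.Agent.Lib.R2H2.GammaRep.exists_corep_Γ A X (FD F E₁)
    (isCoh_tensor F _ hF hD₁) (isFlatOver_tensor _ F _ hD₁ hfl)
  let γ₀ : CohIII.tensorAFunctor A F ⋙ preadditiveCoyoneda.obj (op E₀) ≅ K Q₀ :=
    betaIso A F E₀ h₀ ≪≫ Functor.isoWhiskerRight e₀ _
  let γ₁ : CohIII.tensorAFunctor A F ⋙ preadditiveCoyoneda.obj (op E₁) ≅ K Q₁ :=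
    betaIso A F E₁ h₁ ≪≫ Functor.isoWhiskerRight e₁ _
  haveI : Epi (ShortComplex.mk v π w).g := ‹Epi π›
  have hc : IsColimit (CokernelCofork.ofπ π w) := hex.gIsCokernel
  refine ⟨NN v γ₀ γ₁, ?_, nonempty_iso v π w hc γ₀ γ₁⟩
  haveI := hQ₀
  show Module.Finite A (Q₀ ⧸ LinearMap.range (uu v γ₀ γ₁).hom)
  infer_instance

end Groth.Agent.Lib.R2H2.CorepHomD
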