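import Mathlib
import Groth.Prelude.Def_CohDer
import Groth.Agent.Lib.Helper17Compact
import Groth.Agent.Lib.Helper21DCoprod

/-!
# A projective object with finite support, placed in degree zero, is compact in `D(A)`
(helper2, round 2)
-/

set_option backward.isDefEq.respectTransparency.types false
set_option autoImplicit false
universe v u
open CategoryTheory CategoryTheory.Limits

namespace Groth.Agent.Lib.R2H2.DCompactA

open Groth.Agent.Lib.Helper17.Compact Groth.Agent.Lib.Helper21.DCoprod

section Transport

variable {D : Type u} [Category.{v} D] [Preadditive D]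
variable {ι : Type v} {X X' : ι → D} {P P' : D} {inj : ∀ i, X i ⟶ P} {inj' : ∀ i, X' i ⟶ P'}
  (hc : IsColimit (Cofan.mk P inj)) (hc' : IsColimit (Cofan.mk P' inj'))
  (ψ : ∀ i, X i ≅ X' i)

/-- comparison of two coproducts of termwise isomorphic families -/
noncomputable def cmp : P ⟶ P' := Cofan.IsColimit.desc hc (fun i => (ψ i).hom ≫ inj' i)

omit [Preadditive D] in
theorem inj_cmp (i : ι) : inj i ≫ cmp hc ψ (inj' := inj') = (ψ i).hom ≫ inj' i :=
  Cofan.IsColimit.fac hc _ i

omit [Preadditive D] in
theorem cmp_cmp : cmp hc ψ (inj' := inj') ≫ cmp hc' (fun i => (ψ i).symm) (inj' := inj) = 𝟙 P := by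
  refine Cofan.IsColimit.hom_ext hc _ _ (fun i => ?_)
  change inj i ≫ cmp hc ψ (inj' := inj') ≫ cmp hc' (fun i => (ψ i).symm) (inj' := inj) = inj i ≫ 𝟙 P
  rw [← Category.assoc, inj_cmp, Category.assoc, inj_cmp, Category.comp_id]
  change (ψ i).hom ≫ (ψ i).inv ≫ inj i = inj i
  rw [Iso.hom_inv_id_assoc]

theorem idem_cmp (s : Finset ι) :
    idem hc s ≫ cmp hc ψ (inj' := inj') = cmp hc ψ (inj' := inj') ≫ idem hc' s := by
  refine Cofan.IsColimit.hom_ext hc _ _ (fun i => ?_)
  change inj i ≫ idem hc s ≫ cmp hc ψ (inj' := inj') = inj i ≫ cmp hc ψ (inj' := inj') ≫ idem hc' s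
  by_cases hi : i ∈ s
  · rw [← Category.assoc, inj_idem_of_mem hc s i hi, ← Category.assoc, inj_cmp, Category.assoc,
      inj_idem_of_mem hc' s i hi]
  · rw [← Category.assoc, inj_idem_of_not_mem hc s i hi, zero_comp, ← Category.assoc, inj_cmp,
      Category.assoc, inj_idem_of_not_mem hc' s i hi, comp_zero]

/-- finite support can be checked after passing to a termwise isomorphic coproduct -/
theorem supp_transport {K : D} (φ : K ⟶ P) (s : Finset ι)
    (h : (φ ≫ cmp hc ψ (inj' := inj')) ≫ idem hc' s = φ ≫ cmp hc ψ (inj' := inj')) :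
    φ ≫ idem hc s = φ := by
  have h1 : (φ ≫ idem hc s) ≫ cmp hc ψ (inj' := inj') = φ ≫ cmp hc ψ (inj' := inj') := by
    rw [Category.assoc, idem_cmp hc hc' ψ s, ← Category.assoc, h]
  have h2 := congrArg (fun m => m ≫ cmp hc' (fun i => (ψ i).symm) (inj' := inj)) h1
  simp only [Category.assoc] at h2
  rw [cmp_cmp hc hc' ψ, Category.comp_id, Category.comp_id] at h2
  exact h2

end Transport

section Derived

variable {A : Type u} [Category.{v} A] [Abelian A] [HasDerivedCategory.{v} A]

/-- maps out of a K-projective complex in `D(A)` come from chain maps -/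
theorem exists_Q_map_eq (S T : CochainComplex A ℤ) [S.IsKProjective]
    (m : DerivedCategory.Q.obj S ⟶ DerivedCategory.Q.obj T) :
    ∃ f : S ⟶ T, DerivedCategory.Q.map f = m := by
  obtain ⟨g, hg⟩ := (CochainComplex.IsKProjective.Qh_map_bijective S
    ((HomotopyCategory.quotient _ _).obj T)).2
    ((DerivedCategory.quotientCompQhIso A).hom.app S ≫ m ≫
      (DerivedCategory.quotientCompQhIso A).inv.app T)
  obtain ⟨f, rfl⟩ := (HomotopyCategory.quotient _ _).map_surjective g
  refine ⟨f, ?_⟩
  have nat := (DerivedCategory.quotientCompQhIso A).hom.naturality f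
  have hg' : (HomotopyCategory.quotient A (ComplexShape.up ℤ) ⋙ DerivedCategory.Qh).map f =
      (DerivedCategory.quotientCompQhIso A).hom.app S ≫ m ≫
      (DerivedCategory.quotientCompQhIso A).inv.app T := hg
  rw [hg'] at nat
  simp only [Category.assoc, Iso.inv_hom_id_app, Category.comp_id] at nat
  exact ((cancel_epi ((DerivedCategory.quotientCompQhIso A).hom.app S)).1 nat).symm

instance isKProjective_single (P : A) [Projective P] :
    CochainComplex.IsKProjective ((HomologicalComplex.single A (ComplexShape.up ℤ) 0).obj P) := by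
  haveI : ∀ n : ℤ, Projective (((HomologicalComplex.single A (ComplexShape.up ℤ) 0).obj P).X n) := by
    intro n
    by_cases hn : n = 0
    · subst hn
      exact Projective.of_iso (HomologicalComplex.singleObjXSelf (ComplexShape.up ℤ) 0 P).symm
        inferInstance
    · exact (HomologicalComplex.isZero_single_obj_X (ComplexShape.up ℤ) 0 P n hn).projective
  exact CochainComplex.isKProjective_of_projective _ 0

variable [HasCoproducts.{v} A] [AB4OfSize.{v} A]

/-- a projective object with finite support is finitely supported in the derived category -/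
theorem finSupp_single (P : A) [Projective P] (hP : FinSupp P (𝟭 A)) :
    FinSupp ((DerivedCategory.singleFunctor A 0).obj P) (𝟭 (DerivedCategory A)) := by
  intro ι X Pt inj hc φ
  change (DerivedCategory.singleFunctor A 0).obj P ⟶ Pt at φ
  change ∃ s : Finset ι, φ ≫ idem hc s = φ
  -- choose complexes representing the family
  let L : ι → CochainComplex A ℤ := fun i => DerivedCategory.Q.objPreimage (X i)
  let ψ : ∀ i, X i ≅ DerivedCategory.Q.obj (L i) :=
    fun i => (DerivedCategory.Q.objObjPreimageIso (X i)).symm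
  have hK : IsColimit (Cofan.mk (sigmaK (ComplexShape.up ℤ) L)
      (fun j => (cofanK (ComplexShape.up ℤ) L).inj j)) := isColimitCofanK (ComplexShape.up ℤ) L
  have hc' := isColimitQMapCofan (fun j => (cofanK (ComplexShape.up ℤ) L).inj j) hK
  obtain ⟨f, hf⟩ := exists_Q_map_eq ((HomologicalComplex.single A (ComplexShape.up ℤ) 0).obj P)
    (sigmaK (ComplexShape.up ℤ) L) (φ ≫ cmp hc ψ
      (inj' := fun j => DerivedCategory.Q.map ((cofanK (ComplexShape.up ℤ) L).inj j)))
  -- degree zero
  have hX := isColimitX (fun j => (cofanK (ComplexShape.up ℤ) L).inj j) hK 0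
  obtain ⟨s, hs⟩ := hP ι (fun j => (L j).X 0) _ _ hX
    ((HomologicalComplex.singleObjXSelf (ComplexShape.up ℤ) 0 P).inv ≫ f.f 0)
  have key : f ≫ idem hK s = f := by
    apply HomologicalComplex.from_single_hom_ext
    rw [HomologicalComplex.comp_f]
    have h1 : (idem hK s).f 0 = idem hX s :=
      map_idem hK (HomologicalComplex.eval A (ComplexShape.up ℤ) 0) hX s
    rw [h1]
    have hs' : ((HomologicalComplex.singleObjXSelf (ComplexShape.up ℤ) 0 P).inv ≫ f.f 0) ≫
        idem hX s = (HomologicalComplex.singleObjXSelf (ComplexShape.up ℤ) 0 P).inv ≫ f.f 0 := hs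
    rw [Category.assoc] at hs'
    exact (cancel_epi (HomologicalComplex.singleObjXSelf (ComplexShape.up ℤ) 0 P).inv).1 hs'
  have h2 : DerivedCategory.Q.map (idem hK s) = idem hc' s :=
    map_idem hK DerivedCategory.Q hc' s
  refine ⟨s, supp_transport hc hc' ψ φ s ?_⟩
  calc (φ ≫ cmp hc ψ (inj' := fun j => DerivedCategory.Q.map
          ((cofanK (ComplexShape.up ℤ) L).inj j))) ≫ idem hc' s
      = DerivedCategory.Q.map f ≫ DerivedCategory.Q.map (idem hK s) :=
        (congrArg₂ (· ≫ ·) hf h2).symm
    _ = DerivedCategory.Q.map (f ≫ idem hK s) := (Functor.map_comp _ _ _).symm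
    _ = DerivedCategory.Q.map f := by rw [key]
    _ = _ := hf

/-- a projective object with finite support, placed in degree zero, is compact in `D(A)` -/
theorem isCompactObject_single [HasCoproducts.{v} (DerivedCategory A)] (P : A) [Projective P]
    (hP : FinSupp P (𝟭 A)) :
    CohDer.IsCompactObject ((DerivedCategory.singleFunctor A 0).obj P) :=
  compact_of_finSupp _ (finSupp_single P hP)

end Derived

end Groth.Agent.Lib.R2H2.DCompactA
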