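import Mathlib
import Groth.Prelude.Def_ModSite
import Groth.Agent.Lib.Helper4ModEpi

/-!
# Sheaves of modules on a small site: sections-level dictionary (helper2, round 2)

General small site `(D, K)` with a sheaf of rings `R`:
* `res`, `rres`: restriction of sections;
* `epi_iff_locSurj`, `mono_iff_injective`;
* `kernel_sections`;
* sections of free modules: `bas`, `coord`, `coordL`, `free_decomp`;
* `genHom_bas`;
* with a terminal object `T`: `secOfTop`, `sections_eq_secOfTop`;
* `exact_iff_locally`.
-/

set_option backward.isDefEq.respectTransparency.types false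
set_option autoImplicit false
universe u
open CategoryTheory CategoryTheory.Limits Opposite

namespace Groth.Agent.Lib.R2H2.ModFTA

section Site

variable {D : Type u} [SmallCategory D] {K : GrothendieckTopology D} {R : Sheaf K RingCat.{u}}

/-- restriction of sections of a sheaf of modules, with the expected type -/
noncomputable def res (M : SheafOfModules.{u} R) {Y Z : D} (g : Z ⟶ Y) (t : M.val.obj (op Y)) :
    M.val.obj (op Z) :=
  M.val.map g.op t

variable (R) in
/-- restriction of sections of the sheaf of rings -/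
noncomputable def rres {Y Z : D} (g : Z ⟶ Y) : R.obj.obj (op Y) →+* R.obj.obj (op Z) :=
  (R.obj.map g.op).hom

theorem res_smul (M : SheafOfModules.{u} R) {Y Z : D} (g : Z ⟶ Y) (r : R.obj.obj (op Y))
    (t : M.val.obj (op Y)) : res M g (r • t) = rres R g r • res M g t :=
  PresheafOfModules.map_smul _ _ _ _

theorem res_zero (M : SheafOfModules.{u} R) {Y Z : D} (g : Z ⟶ Y) :
    res M g (0 : M.val.obj (op Y)) = 0 :=
  map_zero (M.val.map g.op).hom

theorem res_add (M : SheafOfModules.{u} R) {Y Z : D} (g : Z ⟶ Y) (t t' : M.val.obj (op Y)) :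
    res M g (t + t') = res M g t + res M g t' :=
  map_add (M.val.map g.op).hom t t'

theorem res_neg (M : SheafOfModules.{u} R) {Y Z : D} (g : Z ⟶ Y) (t : M.val.obj (op Y)) :
    res M g (-t) = -res M g t :=
  map_neg (M.val.map g.op).hom t

theorem res_sub (M : SheafOfModules.{u} R) {Y Z : D} (g : Z ⟶ Y) (t t' : M.val.obj (op Y)) :
    res M g (t - t') = res M g t - res M g t' :=
  map_sub (M.val.map g.op).hom t t'

theorem res_sum (M : SheafOfModules.{u} R) {Y Z : D} (g : Z ⟶ Y) {ι : Type*} (S : Finset ι)
    (t : ι → M.val.obj (op Y)) : res M g (∑ i ∈ S, t i) = ∑ i ∈ S, res M g (t i) :=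
  map_sum (M.val.map g.op).hom t S

theorem res_res (M : SheafOfModules.{u} R) {Y Z Z' : D} (g : Z ⟶ Y) (g' : Z' ⟶ Z)
    (t : M.val.obj (op Y)) : res M g' (res M g t) = res M (g' ≫ g) t := by
  dsimp only [res]
  rw [op_comp, PresheafOfModules.map_comp_apply]

theorem res_id (M : SheafOfModules.{u} R) {Y : D} (t : M.val.obj (op Y)) :
    res M (𝟙 Y) t = t := by
  dsimp only [res]
  rw [op_id, PresheafOfModules.map_id]
  rfl

theorem rres_rres {Y Z Z' : D} (g : Z ⟶ Y) (g' : Z' ⟶ Z) (r : R.obj.obj (op Y)) :
    rres R g' (rres R g r) = rres R (g' ≫ g) r := by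
  dsimp only [rres]
  rw [op_comp, R.obj.map_comp]
  rfl

theorem rres_id {Y : D} (r : R.obj.obj (op Y)) : rres R (𝟙 Y) r = r := by
  dsimp only [rres]
  rw [op_id, R.obj.map_id]
  rfl

theorem app_res {M N : SheafOfModules.{u} R} (p : M ⟶ N) {Y Z : D} (g : Z ⟶ Y)
    (t : M.val.obj (op Y)) : p.val.app (op Z) (res M g t) = res N g (p.val.app (op Y) t) :=
  PresheafOfModules.naturality_apply p.val g.op t

/-- locally surjective ⇒ epi -/
theorem epi_of_locSurj {M N : SheafOfModules.{u} R} (p : M ⟶ N)
    (h : ∀ (Y : D) (t : N.val.obj (op Y)), ∃ S : Sieve Y, S ∈ K Y ∧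
      ∀ ⦃Z : D⦄ (g : Z ⟶ Y), S g → ∃ m : M.val.obj (op Z),
        p.val.app (op Z) m = res N g t) : Epi p := by
  have h1 : Sheaf.IsLocallySurjective ((SheafOfModules.toSheaf R).map p) := by
    constructor
    intro Y t
    obtain ⟨S, hS, hS'⟩ := h Y t
    refine K.superset_covering ?_ hS
    intro Z g hg
    obtain ⟨m, hm⟩ := hS' g hg
    exact ⟨m, hm⟩
  have h2 : Epi ((SheafOfModules.toSheaf R).map p) :=
    (Sheaf.isLocallySurjective_iff_epi' AddCommGrpCat.{u} _).1 h1
  haveI : (SheafOfModules.toSheaf.{u} R).ReflectsEpimorphisms :=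
    Functor.reflectsEpimorphisms_of_faithful _
  exact (SheafOfModules.toSheaf.{u} R).epi_of_epi_map h2

/-- epi ⇒ locally surjective -/
theorem locSurj_of_epi {M N : SheafOfModules.{u} R} (p : M ⟶ N) [Epi p]
    (Y : D) (t : N.val.obj (op Y)) : ∃ S : Sieve Y, S ∈ K Y ∧
      ∀ ⦃Z : D⦄ (g : Z ⟶ Y), S g → ∃ m : M.val.obj (op Z),
        p.val.app (op Z) m = res N g t := by
  have h1 := Groth.Agent.Lib.Helper4.ModEpi.isLocallySurjective_of_epi p
  refine ⟨_, h1.imageSieve_mem t, ?_⟩
  intro Z g hg
  obtain ⟨m, hm⟩ := hg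
  exact ⟨m, hm⟩

theorem mono_of_injective {M N : SheafOfModules.{u} R} (f : M ⟶ N)
    (h : ∀ Y : D, Function.Injective (f.val.app (op Y))) : Mono f := by
  haveI : Mono ((SheafOfModules.forget R).map f) :=
    PresheafOfModules.mono_of_injective (f := f.val) (fun V => h V.unop)
  exact (SheafOfModules.forget R).mono_of_mono_map inferInstance

theorem injective_of_mono {M N : SheafOfModules.{u} R} (f : M ⟶ N) [Mono f] (Y : D) :
    Function.Injective (f.val.app (op Y)) := by
  have h : Mono ((SheafOfModules.forget R).map f) := inferInstance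
  haveI : Mono f.val := h
  exact PresheafOfModules.injective_of_mono f.val (op Y)

theorem kernel_sections {A N : SheafOfModules.{u} R} (π : A ⟶ N) (Y : D) :
    Function.Injective ((kernel.ι π).val.app (op Y)) ∧
    ∀ a : A.val.obj (op Y), π.val.app (op Y) a = 0 →
      ∃ k : (kernel π).val.obj (op Y), (kernel.ι π).val.app (op Y) k = a := by
  let ev := SheafOfModules.evaluation.{u} R (op Y)
  haveI : ev.Additive := by
    dsimp only [ev, SheafOfModules.evaluation]
    infer_instance
  have hl : IsLimit (KernelFork.ofι (ev.map (kernel.ι π))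
      (by rw [← ev.map_comp, kernel.condition, ev.map_zero])) :=
    isLimitForkMapOfIsLimit' ev (kernel.condition π) (kernelIsKernel π)
  let S : ShortComplex (ModuleCat _) := ShortComplex.mk (ev.map (kernel.ι π)) (ev.map π)
    (by rw [← ev.map_comp, kernel.condition, ev.map_zero])
  have hS : S.Exact := ShortComplex.exact_of_f_is_kernel S hl
  haveI : Mono S.f := mono_of_isLimit_fork hl
  constructor
  · exact (ModuleCat.mono_iff_injective S.f).1 inferInstance
  · intro a ha
    obtain ⟨k, hk⟩ := (ShortComplex.moduleCat_exact_iff S).1 hS a ha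
    exact ⟨k, hk⟩

theorem kernel_ι_app_zero {A N : SheafOfModules.{u} R} (π : A ⟶ N) (Y : D)
    (k : (kernel π).val.obj (op Y)) : π.val.app (op Y) ((kernel.ι π).val.app (op Y) k) = 0 := by
  have h2 : kernel.ι π ≫ π = 0 := kernel.condition π
  exact congrArg (fun q => q.val.app (op Y) k) h2

end Site

section Free

variable {D : Type u} [SmallCategory D] {K : GrothendieckTopology D} {R : Sheaf K RingCat.{u}}

/-- the basis sections of the free module -/
noncomputable def bas {I : Type u} (i : I) (Y : D) :
    (SheafOfModules.free (R := R) I).val.obj (op Y) :=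
  (SheafOfModules.ιFree (R := R) i).val.app (op Y) (1 : R.obj.obj (op Y))

theorem res_bas {I : Type u} (i : I) {Y Z : D} (g : Z ⟶ Y) :
    res (SheafOfModules.free (R := R) I) g (bas i Y) = bas i Z := by
  unfold bas
  rw [← app_res]
  congr 1
  exact map_one (R.obj.map g.op).hom

theorem ιFree_app {I : Type u} (i : I) (Y : D) (b : R.obj.obj (op Y)) :
    (SheafOfModules.ιFree (R := R) i).val.app (op Y) b = b • bas i Y := by
  have h2 : ((SheafOfModules.ιFree (R := R) i).val.app (op Y)).hom
      (b • (1 : R.obj.obj (op Y))) =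
      b • ((SheafOfModules.ιFree (R := R) i).val.app (op Y)).hom (1 : R.obj.obj (op Y)) :=
    LinearMap.map_smul _ _ _
  rw [smul_eq_mul, mul_one] at h2
  exact h2

/-- the value of the map out of a free module on a basis element -/
theorem genHom_bas (M : SheafOfModules.{u} R) {I : Type u} (s : I → M.sections) (i : I)
    (Y : D) :
    (M.freeHomEquiv.symm s).val.app (op Y) (bas i Y) = (s i).val (op Y) := by
  have h1 : SheafOfModules.ιFree i ≫ M.freeHomEquiv.symm s = M.unitHomEquiv.symm (s i) := by
    rw [← SheafOfModules.unitHomEquiv_symm_freeHomEquiv_apply, Equiv.apply_symm_apply]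
  have h2 : (SheafOfModules.ιFree i ≫ M.freeHomEquiv.symm s).val.app (op Y)
      (1 : R.obj.obj (op Y)) = (s i).val (op Y) := by
    rw [h1, ← SheafOfModules.unitHomEquiv_apply_coe, Equiv.apply_symm_apply]
  exact h2

/-- the coordinate projections of a free module -/
noncomputable def coord {I : Type u} [DecidableEq I] (j : I) :
    SheafOfModules.free (R := R) I ⟶ SheafOfModules.unit R :=
  Cofan.IsColimit.desc (SheafOfModules.isColimitFreeCofan I)
    (fun i => if i = j then 𝟙 (SheafOfModules.unit R) else 0)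

theorem ι_coord {I : Type u} [DecidableEq I] (i j : I) :
    SheafOfModules.ιFree (R := R) i ≫ coord j = if i = j then 𝟙 _ else 0 := by
  rw [coord, ← SheafOfModules.freeCofan_inj]
  exact Cofan.IsColimit.fac _ _ _

theorem sum_coord_ι {I : Type u} [DecidableEq I] [Fintype I] :
    ∑ j : I, coord (R := R) j ≫ SheafOfModules.ιFree j = 𝟙 _ := by
  have key : ∀ i : I, SheafOfModules.ιFree (R := R) i ≫
      ∑ j : I, coord (R := R) j ≫ SheafOfModules.ιFree j =
        SheafOfModules.ιFree i ≫ 𝟙 _ := by
    intro i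
    rw [Preadditive.comp_sum, Category.comp_id, Finset.sum_eq_single i]
    · rw [← Category.assoc, ι_coord, if_pos rfl, Category.id_comp]
    · intro j _ hj
      rw [← Category.assoc, ι_coord, if_neg (Ne.symm hj), zero_comp]
    · intro h
      exact absurd (Finset.mem_univ i) h
  exact Cofan.IsColimit.hom_ext (SheafOfModules.isColimitFreeCofan I) _ _ (fun i => key i)

/-- coordinates of sections of a free module, as linear maps -/
noncomputable def coordL {I : Type u} [DecidableEq I] (j : I) (Y : D) :
    (SheafOfModules.free (R := R) I).val.obj (op Y) →ₗ[R.obj.obj (op Y)] R.obj.obj (op Y) :=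
  ((coord (R := R) j).val.app (op Y)).hom

theorem coordL_bas {I : Type u} [DecidableEq I] (i j : I) (Y : D) :
    coordL (R := R) j Y (bas i Y) = if i = j then 1 else 0 := by
  have h : (SheafOfModules.ιFree (R := R) i ≫ coord j).val.app (op Y) (1 : R.obj.obj (op Y)) =
      coordL (R := R) j Y (bas i Y) := rfl
  rw [← h, ι_coord]
  split_ifs
  · rfl
  · rfl

theorem coordL_res {I : Type u} [DecidableEq I] (j : I) {Y Z : D} (g : Z ⟶ Y)
    (x : (SheafOfModules.free (R := R) I).val.obj (op Y)) :
    coordL (R := R) j Z (res _ g x) = rres R g (coordL (R := R) j Y x) :=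
  app_res (coord (R := R) j) g x

theorem free_decomp {I : Type u} [DecidableEq I] [Fintype I] (Y : D)
    (x : (SheafOfModules.free (R := R) I).val.obj (op Y)) :
    x = ∑ j : I, coordL (R := R) j Y x • bas j Y := by
  let ev := SheafOfModules.evaluation.{u} R (op Y)
  haveI : ev.Additive := by
    dsimp only [ev, SheafOfModules.evaluation]
    infer_instance
  have h1 : ev.map (∑ j : I, coord (R := R) j ≫ SheafOfModules.ιFree j) = ev.map (𝟙 _) := by
    rw [sum_coord_ι]
  rw [ev.map_sum, ev.map_id] at h1
  have h2 : (∑ j : I, ev.map (coord (R := R) j ≫ SheafOfModules.ιFree j)).hom x = x :=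
    congrArg (fun q => q.hom x) h1
  rw [ModuleCat.hom_sum, LinearMap.sum_apply] at h2
  conv_lhs => rw [← h2]
  refine Finset.sum_congr rfl (fun j _ => ?_)
  have h3 : (ev.map (coord (R := R) j ≫ SheafOfModules.ιFree j)).hom x =
      (SheafOfModules.ιFree (R := R) j).val.app (op Y) (coordL (R := R) j Y x) :=
    rfl
  rw [h3, ιFree_app]

end Free

section Exact

variable {D : Type u} [SmallCategory D] {K : GrothendieckTopology D} {R : Sheaf K RingCat.{u}}

theorem exact_iff_locally (S : ShortComplex (SheafOfModules.{u} R)) :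
    S.Exact ↔ ∀ (Y : D) (b : S.X₂.val.obj (op Y)), S.g.val.app (op Y) b = 0 →
      ∃ Sv : Sieve Y, Sv ∈ K Y ∧ ∀ ⦃Z : D⦄ (g : Z ⟶ Y), Sv g →
        ∃ a : S.X₁.val.obj (op Z), S.f.val.app (op Z) a = res S.X₂ g b := by
  rw [S.exact_iff_epi_kernel_lift]
  have hfac : kernel.lift S.g S.f S.zero ≫ kernel.ι S.g = S.f := kernel.lift_ι _ _ _
  have hfac' : ∀ (Z : D) (a : S.X₁.val.obj (op Z)),
      (kernel.ι S.g).val.app (op Z) ((kernel.lift S.g S.f S.zero).val.app (op Z) a) =
        S.f.val.app (op Z) a := fun Z a =>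
    congrArg (fun q => q.val.app (op Z) a) hfac
  constructor
  · intro h Y b hb
    obtain ⟨k, hk⟩ := (kernel_sections S.g Y).2 b hb
    obtain ⟨Sv, hSv, hS'⟩ := locSurj_of_epi (kernel.lift S.g S.f S.zero) Y k
    refine ⟨Sv, hSv, fun Z g hg => ?_⟩
    obtain ⟨a, ha⟩ := hS' g hg
    refine ⟨a, ?_⟩
    rw [← hfac', ha, app_res, hk]
  · intro h
    apply epi_of_locSurj
    intro Y k
    obtain ⟨Sv, hSv, hS'⟩ := h Y ((kernel.ι S.g).val.app (op Y) k) (kernel_ι_app_zero S.g Y k)
    refine ⟨Sv, hSv, fun Z g hg => ?_⟩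
    obtain ⟨a, ha⟩ := hS' g hg
    refine ⟨a, ?_⟩
    apply (kernel_sections S.g Z).1
    rw [hfac', ha, app_res]

end Exact

section Terminal

variable {D : Type u} [SmallCategory D] {K : GrothendieckTopology D} {R : Sheaf K RingCat.{u}}
  {T : D} (hT : IsTerminal T) (M : SheafOfModules.{u} R)

/-- the global section attached to an element over the terminal object -/
noncomputable def secOfTop (m : M.val.obj (op T)) : M.sections :=
  PresheafOfModules.sectionsMk (fun Y => res M (hT.from Y.unop) m) (by
    intro Y Z f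
    have e : (hT.from Y.unop).op ≫ f = (hT.from Z.unop).op := by
      apply Quiver.Hom.unop_inj
      exact hT.hom_ext _ _
    dsimp only [res]
    rw [← PresheafOfModules.map_comp_apply, e])

theorem secOfTop_val (m : M.val.obj (op T)) (Y : D) :
    (secOfTop hT M m).val (op Y) = res M (hT.from Y) m := rfl

theorem sections_eq_secOfTop (s : M.sections) : s = secOfTop hT M (s.val (op T)) := by
  apply PresheafOfModules.sections_ext
  intro Y
  exact (PresheafOfModules.sections_property s (hT.from Y.unop).op).symm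

/-- the map from a free module given by elements over the terminal object -/
noncomputable def genHom {I : Type u} (m : I → M.val.obj (op T)) :
    SheafOfModules.free (R := R) I ⟶ M :=
  M.freeHomEquiv.symm (fun i => secOfTop hT M (m i))

theorem genHom_bas' {I : Type u} (m : I → M.val.obj (op T)) (i : I) (Y : D) :
    (genHom hT M m).val.app (op Y) (bas i Y) = res M (hT.from Y) (m i) := by
  rw [genHom, genHom_bas, secOfTop_val]

theorem genHom_apply {I : Type u} [DecidableEq I] [Fintype I] (m : I → M.val.obj (op T))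
    (Y : D) (x : (SheafOfModules.free (R := R) I).val.obj (op Y)) :
    (genHom hT M m).val.app (op Y) x =
      ∑ j : I, coordL (R := R) j Y x • res M (hT.from Y) (m j) := by
  conv_lhs => rw [free_decomp Y x]
  rw [map_sum]
  refine Finset.sum_congr rfl (fun j _ => ?_)
  rw [map_smul, genHom_bas']

theorem freeHomEquiv_val {I : Type u} (f : SheafOfModules.free (R := R) I ⟶ M) (i : I) (Y : D) :
    (M.freeHomEquiv f i).val (op Y) = f.val.app (op Y) (bas i Y) := by
  rw [SheafOfModules.freeHomEquiv_apply]
  rfl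

theorem eq_genHom {I : Type u} (f : SheafOfModules.free (R := R) I ⟶ M) :
    f = genHom hT M (fun i => f.val.app (op T) (bas i T)) := by
  apply M.freeHomEquiv.injective
  rw [genHom, Equiv.apply_symm_apply]
  funext i
  rw [sections_eq_secOfTop hT M (M.freeHomEquiv f i), freeHomEquiv_val]

include hT in
theorem free_hom_ext {I : Type u} (f f' : SheafOfModules.free (R := R) I ⟶ M)
    (h : ∀ i, f.val.app (op T) (bas i T) = f'.val.app (op T) (bas i T)) : f = f' := by
  rw [eq_genHom hT M f, eq_genHom hT M f']
  congr 1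
  funext i
  exact h i

/-- generation of a sheaf of modules by elements over the terminal object, in the sieve sense -/
def GenS {I : Type u} [Fintype I] (m : I → M.val.obj (op T)) : Prop :=
  ∀ (Y : D) (t : M.val.obj (op Y)), ∃ S : Sieve Y, S ∈ K Y ∧ ∀ ⦃Z : D⦄ (g : Z ⟶ Y), S g →
    ∃ c : I → R.obj.obj (op Z), ∑ j, c j • res M (hT.from Z) (m j) = res M g t

end Terminal

section Terminal2

variable {D : Type u} [SmallCategory D] {K : GrothendieckTopology D} {R : Sheaf K RingCat.{u}}
  {T : D} (hT : IsTerminal T) (M : SheafOfModules.{u} R)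

theorem coordL_sum_bas {I : Type u} [DecidableEq I] [Fintype I] (Y : D)
    (c : I → R.obj.obj (op Y)) (k : I) :
    coordL (R := R) k Y (∑ j, c j • bas j Y) = c k := by
  rw [map_sum]
  simp only [map_smul, coordL_bas, smul_eq_mul, mul_ite, mul_one, mul_zero,
    Finset.sum_ite_eq', Finset.mem_univ, if_true]

theorem free_ext {I : Type u} [DecidableEq I] [Fintype I] (Y : D)
    (x x' : (SheafOfModules.free (R := R) I).val.obj (op Y))
    (h : ∀ i, coordL (R := R) i Y x = coordL (R := R) i Y x') : x = x' := by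
  rw [free_decomp Y x, free_decomp Y x']
  exact Finset.sum_congr rfl (fun j _ => by rw [h j])

theorem epi_genHom_iff {I : Type u} [Fintype I] (m : I → M.val.obj (op T)) :
    Epi (genHom hT M m) ↔ GenS hT M m := by
  classical
  constructor
  · intro h Y t
    obtain ⟨S, hS, hS'⟩ := locSurj_of_epi (genHom hT M m) Y t
    refine ⟨S, hS, fun Z g hg => ?_⟩
    obtain ⟨x, hx⟩ := hS' g hg
    exact ⟨fun j => coordL j Z x, by rw [← hx, genHom_apply]⟩
  · intro h
    apply epi_of_locSurj
    intro Y t
    obtain ⟨S, hS, hS'⟩ := h Y t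
    refine ⟨S, hS, fun Z g hg => ?_⟩
    obtain ⟨c, hc⟩ := hS' g hg
    refine ⟨∑ j, c j • bas j Z, ?_⟩
    rw [map_sum, ← hc]
    refine Finset.sum_congr rfl (fun j _ => ?_)
    rw [map_smul, genHom_bas']

theorem mono_genHom_iff {I : Type u} [Fintype I] (m : I → M.val.obj (op T)) :
    Mono (genHom hT M m) ↔ ∀ (Y : D) (c : I → R.obj.obj (op Y)),
      ∑ j, c j • res M (hT.from Y) (m j) = 0 → c = 0 := by
  classical
  constructor
  · intro h Y c hc
    have hinj := injective_of_mono (genHom hT M m) Y
    have h0 : (genHom hT M m).val.app (op Y) (∑ j, c j • bas j Y) =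
        (genHom hT M m).val.app (op Y) 0 := by
      rw [map_sum, map_zero, ← hc]
      refine Finset.sum_congr rfl (fun j _ => ?_)
      rw [map_smul, genHom_bas']
    have h1 := hinj h0
    funext k
    have h2 := congrArg (coordL (R := R) k Y) h1
    rw [coordL_sum_bas, map_zero] at h2
    exact h2
  · intro h
    apply mono_of_injective
    intro Y
    apply (injective_iff_map_eq_zero ((genHom hT M m).val.app (op Y)).hom).2
    intro x hx
    have hx' : (genHom hT M m).val.app (op Y) x = 0 := hx
    rw [genHom_apply] at hx'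
    have h1 := h Y (fun j => coordL j Y x) hx'
    rw [free_decomp Y x]
    apply Finset.sum_eq_zero
    intro j _
    rw [show coordL j Y x = 0 from congrFun h1 j, zero_smul]

/-- the relations generate, sieve sense -/
def RelGenS {σ ι : Type u} [Fintype σ] [Fintype ι] (m : σ → M.val.obj (op T))
    (r : ι → σ → R.obj.obj (op T)) : Prop :=
  ∀ (Y : D) (c : σ → R.obj.obj (op Y)), ∑ i, c i • res M (hT.from Y) (m i) = 0 →
    ∃ S : Sieve Y, S ∈ K Y ∧ ∀ ⦃Z : D⦄ (g : Z ⟶ Y), S g →
      ∃ a : ι → R.obj.obj (op Z), ∀ i, rres R g (c i) = ∑ l, a l * rres R (hT.from Z) (r l i)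

/-- the relation map -/
noncomputable def relHom {σ ι : Type u} [Fintype σ] (r : ι → σ → R.obj.obj (op T)) :
    SheafOfModules.free (R := R) ι ⟶ SheafOfModules.free (R := R) σ :=
  genHom hT (SheafOfModules.free (R := R) σ) (fun l => ∑ i, r l i • bas i T)

theorem relHom_bas {σ ι : Type u} [Fintype σ] (r : ι → σ → R.obj.obj (op T)) (l : ι) (Y : D) :
    (relHom hT r).val.app (op Y) (bas l Y) = ∑ i, rres R (hT.from Y) (r l i) • bas i Y := by
  rw [relHom, genHom_bas', res_sum]
  refine Finset.sum_congr rfl (fun i _ => ?_)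
  rw [res_smul, res_bas]

theorem coordL_relHom {σ ι : Type u} [DecidableEq σ] [DecidableEq ι] [Fintype σ] [Fintype ι]
    (r : ι → σ → R.obj.obj (op T)) (Z : D)
    (a : (SheafOfModules.free (R := R) ι).val.obj (op Z)) (i : σ) :
    coordL (R := R) i Z ((relHom hT r).val.app (op Z) a) =
      ∑ l, coordL (R := R) l Z a * rres R (hT.from Z) (r l i) := by
  conv_lhs => rw [free_decomp Z a]
  rw [map_sum, map_sum]
  refine Finset.sum_congr rfl (fun l _ => ?_)
  rw [map_smul, map_smul, relHom_bas, coordL_sum_bas, smul_eq_mul]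

theorem relHom_comp_genHom_iff {σ ι : Type u} [Fintype σ] (m : σ → M.val.obj (op T))
    (r : ι → σ → R.obj.obj (op T)) :
    relHom hT r ≫ genHom hT M m = 0 ↔ ∀ l, ∑ i, r l i • m i = 0 := by
  have key : ∀ l, (relHom hT r ≫ genHom hT M m).val.app (op T) (bas l T) =
      ∑ i, r l i • m i := by
    intro l
    change (genHom hT M m).val.app (op T) ((relHom hT r).val.app (op T) (bas l T)) = _
    rw [relHom_bas, map_sum]
    refine Finset.sum_congr rfl (fun i _ => ?_)
    have e : hT.from T = 𝟙 T := hT.hom_ext _ _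
    rw [map_smul, genHom_bas', e, rres_id, res_id]
  constructor
  · intro h l
    rw [← key l, h]
    rfl
  · intro h
    apply free_hom_ext hT
    intro l
    rw [key l, h l]
    rfl

theorem exact_relHom_genHom_iff {σ ι : Type u} [Fintype σ] [Fintype ι]
    (m : σ → M.val.obj (op T)) (r : ι → σ → R.obj.obj (op T))
    (w : relHom hT r ≫ genHom hT M m = 0) :
    (ShortComplex.mk _ _ w).Exact ↔ RelGenS hT M m r := by
  classical
  rw [exact_iff_locally]
  constructor
  · intro h Y c hc
    have hb : (genHom hT M m).val.app (op Y) (∑ j, c j • bas j Y) = 0 := by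
      rw [map_sum, ← hc]
      refine Finset.sum_congr rfl (fun j _ => ?_)
      rw [map_smul, genHom_bas']
    obtain ⟨S, hS, hS'⟩ := h Y _ hb
    refine ⟨S, hS, fun Z g hg => ?_⟩
    obtain ⟨a, ha⟩ := hS' g hg
    refine ⟨fun l => coordL l Z a, fun i => ?_⟩
    have h1 := congrArg (coordL (R := R) i Z) ha
    rw [coordL_res, coordL_sum_bas] at h1
    rw [← h1]
    exact coordL_relHom hT r Z a i
  · intro h Y b hb
    have hb' : (genHom hT M m).val.app (op Y) b = 0 := hb
    rw [genHom_apply] at hb'
    obtain ⟨S, hS, hS'⟩ := h Y (fun j => coordL j Y b) hb'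
    refine ⟨S, hS, fun Z g hg => ?_⟩
    obtain ⟨a, ha⟩ := hS' g hg
    refine ⟨∑ l, a l • bas l Z, ?_⟩
    apply free_ext
    intro i
    change coordL (R := R) i Z ((relHom hT r).val.app (op Z) (∑ l, a l • bas l Z)) = _
    rw [coordL_relHom, coordL_res, ha i]
    refine Finset.sum_congr rfl (fun l _ => ?_)
    rw [coordL_sum_bas]

end Terminal2

section Pres

variable {D : Type u} [SmallCategory D] {K : GrothendieckTopology D} {R : Sheaf K RingCat.{u}}
  {T : D} (hT : IsTerminal T) (M : SheafOfModules.{u} R)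

theorem exact_congr {A : Type*} [Category A] [HasZeroMorphisms A] {X Y Z : A} {f f' : X ⟶ Y}
    {g g' : Y ⟶ Z} (hf : f = f') (hg : g = g') (w : f ≫ g = 0) (w' : f' ≫ g' = 0) :
    (ShortComplex.mk f g w).Exact → (ShortComplex.mk f' g' w').Exact := by
  subst hf hg
  exact id

theorem exists_presentation {σ ι : Type u} [Fintype σ] [Fintype ι]
    (m : σ → M.val.obj (op T)) (r : ι → σ → R.obj.obj (op T)) (hgen : GenS hT M m)
    (hr : ∀ l, ∑ i, r l i • m i = 0) (hrel : RelGenS hT M m r) :
    ∃ P : M.Presentation, P.IsFinite := by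
  have w := (relHom_comp_genHom_iff hT M m r).2 hr
  have hex := (exact_relHom_genHom_iff hT M m r w).2 hrel
  haveI : Epi (genHom hT M m) := (epi_genHom_iff hT M m).2 hgen
  haveI : Epi (ShortComplex.mk _ _ w).g := ‹_›
  refine ⟨SheafOfModules.presentationOfIsCokernelFree (relHom hT r) (genHom hT M m) w
    hex.gIsCokernel, ?_⟩
  exact { isFiniteType_generators := ⟨inferInstanceAs (Finite σ)⟩
          isFiniteType_relations := ⟨inferInstanceAs (Finite ι)⟩ }

theorem exists_data_of_presentation (P : M.Presentation) [P.IsFinite] :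
    ∃ (σ ι : Type u) (_ : Fintype σ) (_ : Fintype ι) (m : σ → M.val.obj (op T))
      (r : ι → σ → R.obj.obj (op T)),
      GenS hT M m ∧ (∀ l, ∑ i, r l i • m i = 0) ∧ RelGenS hT M m r := by
  classical
  haveI : Finite P.generators.I := inferInstance
  haveI : Finite P.relations.I := inferInstance
  letI := Fintype.ofFinite P.generators.I
  letI := Fintype.ofFinite P.relations.I
  let g := P.generators.π
  let f : SheafOfModules.free (R := R) P.relations.I ⟶ SheafOfModules.free (R := R) P.generators.I :=
    (SheafOfModules.freeHomEquiv _).symm P.relations.s ≫ kernel.ι _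
  let m := fun i => g.val.app (op T) (bas i T)
  let r := fun l i => coordL (R := R) i T (f.val.app (op T) (bas l T))
  have hg : g = genHom hT M m := eq_genHom hT M g
  have hf : f = relHom hT r := by
    rw [eq_genHom hT _ f]
    unfold relHom
    congr 1
    funext l
    exact free_decomp T _
  have w : f ≫ g = 0 := by
    simp only [f, g, Category.assoc, kernel.condition, comp_zero]
  have hex : (ShortComplex.mk f g w).Exact :=
    ShortComplex.exact_of_g_is_cokernel _ P.isColimit
  have w' : relHom hT r ≫ genHom hT M m = 0 := by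
    rw [← hf, ← hg]
    exact w
  have hex' := exact_congr hf hg w w' hex
  haveI : Epi (genHom hT M m) := by
    rw [← hg]
    infer_instance
  exact ⟨P.generators.I, P.relations.I, inferInstance, inferInstance, m, r,
    (epi_genHom_iff hT M m).1 inferInstance, (relHom_comp_genHom_iff hT M m r).1 w',
    (exact_relHom_genHom_iff hT M m r w').1 hex'⟩

theorem exists_gen_of_generatingSections (G : M.GeneratingSections) [G.IsFiniteType] :
    ∃ (σ : Type u) (_ : Fintype σ) (m : σ → M.val.obj (op T)), GenS hT M m := by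
  haveI : Finite G.I := inferInstance
  letI := Fintype.ofFinite G.I
  let m := fun i => G.π.val.app (op T) (bas i T)
  have hg : G.π = genHom hT M m := eq_genHom hT M G.π
  haveI : Epi (genHom hT M m) := by
    rw [← hg]
    infer_instance
  exact ⟨G.I, inferInstance, m, (epi_genHom_iff hT M m).1 inferInstance⟩

theorem exists_generatingSections {σ : Type u} [Fintype σ] (m : σ → M.val.obj (op T))
    (hgen : GenS hT M m) : ∃ G : M.GeneratingSections, G.IsFiniteType := by
  haveI : Epi (genHom hT M m) := (epi_genHom_iff hT M m).2 hgen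
  let G : M.GeneratingSections := { I := σ, s := fun i => secOfTop hT M (m i), epi := ‹_› }
  exact ⟨G, ⟨inferInstanceAs (Finite σ)⟩⟩

end Pres

end Groth.Agent.Lib.R2H2.ModFTA
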