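import Mathlib
import Groth.Prelude.Def_ModSite
import Groth.Prelude.Def_CohCx
import Groth.Agent.Lib.Helper23FreeOn
import Groth.Agent.Lib.R2H2ModFTA

/-!
# Quasi-compact objects of a small site and finite subcovers (helper2, round 2)

* `sec_ext_sieve`: sections of a sheaf of modules agreeing on a covering sieve are equal;
* `exists_finite_subcover`: if `h_U^#` is a quasi-compact object of the topos, every covering
  family of `U` (indexed by a small type) has a finite covering subfamily.
-/

set_option backward.isDefEq.respectTransparency.types false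
set_option autoImplicit false
universe u
open CategoryTheory CategoryTheory.Limits Opposite

namespace Groth.Agent.Lib.R2H2.ModQcA

open Groth.Agent.Lib.R2H2.ModFTA

section Sep

variable {D : Type u} [SmallCategory D] {K : GrothendieckTopology D} {R : Sheaf K RingCat.{u}}

/-- sections agreeing on a covering sieve are equal -/
theorem sec_ext_sieve (M : SheafOfModules.{u} R) {Y : D} (S : Sieve Y) (hS : S ∈ K Y)
    (t t' : M.val.obj (op Y))
    (h : ∀ ⦃Z : D⦄ (g : Z ⟶ Y), S g → res M g t = res M g t') : t = t' := by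
  let F : Sheaf K AddCommGrpCat.{u} := (SheafOfModules.toSheaf R).obj M
  have hsep : Presieve.IsSeparated K (F.obj ⋙ forget AddCommGrpCat.{u}) := by
    apply Presieve.IsSheaf.isSeparated
    rw [← isSheaf_iff_isSheaf_of_type]
    exact ((sheafCompose K (forget AddCommGrpCat.{u})).obj F).2
  exact (hsep S hS).ext (fun Z g hg => h g hg)

end Sep

section Qc

variable {C : Type u} [SmallCategory C] {J : GrothendieckTopology C}

variable (J) in
/-- `h_U^#` -/
noncomputable abbrev hS (U : C) : Sheaf J (Type u) :=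
  (presheafToSheaf J (Type u)).obj (yoneda.obj U)

variable (J) in
/-- the map `h_V^# ⟶ h_U^#` -/
noncomputable abbrev hMap {U V : C} (g : V ⟶ U) : hS J V ⟶ hS J U :=
  (presheafToSheaf J (Type u)).map (yoneda.map g)

variable (J) in
/-- the section of `h_U^#` over `T` given by `a : T ⟶ U` -/
noncomputable def can (U : C) {T : C} (a : T ⟶ U) : (hS J U).obj.obj (op T) :=
  (toSheafify J (yoneda.obj U)).app (op T) a

theorem can_map (U : C) {T T' : C} (a : T ⟶ U) (c : T' ⟶ T) :
    (hS J U).obj.map c.op (can J U a) = can J U (c ≫ a) := by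
  have h := NatTrans.naturality_apply (toSheafify J (yoneda.obj U)) c.op a
  exact h.symm

theorem hMap_can {U V : C} (g : V ⟶ U) {T : C} (d : T ⟶ V) :
    (hMap J g).hom.app (op T) (can J V d) = can J U (d ≫ g) := by
  have h := congrArg (fun q => (q.app (op T)) d) (toSheafify_naturality J (yoneda.map g))
  exact h.symm

theorem exists_can_locally (U : C) {T : C} (s : (hS J U).obj.obj (op T)) :
    ∃ S : Sieve T, S ∈ J T ∧ ∀ ⦃T' : C⦄ (a : T' ⟶ T), S a →
      ∃ b : T' ⟶ U, can J U b = (hS J U).obj.map a.op s := by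
  refine ⟨_, Presheaf.imageSieve_mem J (toSheafify J (yoneda.obj U)) s, ?_⟩
  intro T' a ha
  obtain ⟨b, hb⟩ := ha
  exact ⟨b, hb⟩

theorem can_eq_locally (U : C) {T : C} (b b' : T ⟶ U) (h : can J U b = can J U b') :
    ∃ S : Sieve T, S ∈ J T ∧ ∀ ⦃T' : C⦄ (a : T' ⟶ T), S a → a ≫ b = a ≫ b' := by
  refine ⟨_, Presheaf.equalizerSieve_mem J (toSheafify J (yoneda.obj U)) b b' h, ?_⟩
  intro T' a ha
  exact ha

/-- the family `h_{W i}^# ⟶ h_U^#` of a covering family is jointly surjective -/
theorem jointlySurjective_of_cover (U : C) {I : Type u} (W : I → C) (g : ∀ i, W i ⟶ U)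
    (hg : Sieve.ofArrows W g ∈ J U) :
    CohCx.JointlySurjective (fun i => hMap J (g i)) := by
  intro T s
  obtain ⟨S1, hS1, hS1'⟩ := exists_can_locally (J := J) U s
  let S : Sieve T :=
    { arrows := fun V h => ∃ (i : I) (x : (hS J (W i)).obj.obj (op V)),
        (hMap J (g i)).hom.app (op V) x = (hS J U).obj.map h.op s
      downward_closed := by
        rintro V V' h ⟨i, x, hx⟩ c
        refine ⟨i, (hS J (W i)).obj.map c.op x, ?_⟩
        rw [NatTrans.naturality_apply, hx, op_comp, Functor.map_comp_apply] }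
  refine ⟨S, ?_, fun V h hh => hh⟩
  refine J.transitive hS1 S ?_
  intro T' a ha
  obtain ⟨b, hb⟩ := hS1' a ha
  refine J.superset_covering ?_ (J.pullback_stable b hg)
  intro T'' c hc
  obtain ⟨V, d, e, he, hde⟩ := hc
  obtain ⟨i⟩ := he
  refine ⟨i, can J (W i) d, ?_⟩
  rw [hMap_can, hde, ← can_map, hb, op_comp, Functor.map_comp_apply]

/-- a quasi-compact object `h_U^#`: every covering family has a finite covering subfamily -/
theorem exists_finite_subcover (U : C) (hU : CohCx.IsQcObject (hS J U)) {I : Type u}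
    (W : I → C) (g : ∀ i, W i ⟶ U) (hg : Sieve.ofArrows W g ∈ J U) :
    ∃ t : Finset I, Sieve.ofArrows (fun i : t => W i.1) (fun i : t => g i.1) ∈ J U := by
  obtain ⟨t, ht⟩ := hU I (fun i => hS J (W i)) (fun i => hMap J (g i))
    (jointlySurjective_of_cover U W g hg)
  refine ⟨t, ?_⟩
  obtain ⟨S, hS, hS'⟩ := ht U (can J U (𝟙 U))
  refine J.transitive hS _ ?_
  intro V h hh
  obtain ⟨i, x, hx⟩ := hS' V h hh
  obtain ⟨S3, hS3, hS3'⟩ := exists_can_locally (J := J) (W i.1) x
  refine J.transitive hS3 _ ?_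
  intro V' c hc
  obtain ⟨d, hd⟩ := hS3' c hc
  have h1 : can J U (d ≫ g i.1) = can J U (c ≫ h) := by
    rw [← hMap_can, hd, NatTrans.naturality_apply, hx, can_map, can_map, Category.comp_id]
  obtain ⟨S4, hS4, hS4'⟩ := can_eq_locally (J := J) U _ _ h1
  refine J.superset_covering ?_ hS4
  intro V'' e he
  have h2 := hS4' e he
  change Sieve.ofArrows (fun i : t => W i.1) (fun i : t => g i.1) ((e ≫ c) ≫ h)
  rw [Category.assoc, ← h2, ← Category.assoc]
  exact Sieve.downward_closed _ (Sieve.ofArrows_mk _ _ i) _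

end Qc

end Groth.Agent.Lib.R2H2.ModQcA
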