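import Mathlib
import Groth.Prelude.Def_ModSite
import Groth.Agent.Lib.R2H2ModFTA
import Groth.Agent.Lib.R2H2ModQcA
import Groth.Agent.S0484

/-!
# Sections of a direct sum of sheaves of modules on a small site (helper2, round 2)

* `AddCommGrpCat` coproducts: every element is a finite sum of elements of the summands
  (`exists_list_of_isColimit`);
* `exists_list_locally`: a section of `∐ F i` is, locally, a finite sum of sections of the `F i`.
-/

set_option backward.isDefEq.respectTransparency.types false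
set_option autoImplicit false
universe u
open CategoryTheory CategoryTheory.Limits Opposite

namespace Groth.Agent.Lib.R2H2.ModQcI

open Groth.Agent.Lib.R2H2.ModFTA Groth.Agent.Lib.R2H2.ModQcA

section Ab

/-- elements of a coproduct of abelian groups are finite sums of elements of the summands -/
theorem exists_list_of_isColimit {ι : Type u} {A : ι → AddCommGrpCat.{u}} (c : Cofan A)
    (hc : IsColimit c) (x : c.pt) :
    ∃ l : List (Σ i, A i), x = (l.map (fun p => (c.inj p.1).hom p.2)).sum := by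
  let H : AddSubgroup c.pt := ⨆ i, (c.inj i).hom.range
  let q : c.pt ⟶ AddCommGrpCat.of (c.pt ⧸ H) := AddCommGrpCat.ofHom (QuotientAddGroup.mk' H)
  have hq : q = 0 := by
    apply Cofan.IsColimit.hom_ext hc
    intro i
    rw [comp_zero]
    ext a
    change QuotientAddGroup.mk' H ((c.inj i).hom a) = 0
    rw [QuotientAddGroup.mk'_apply, QuotientAddGroup.eq_zero_iff]
    exact AddSubgroup.mem_iSup_of_mem i ⟨a, rfl⟩
  have hx : x ∈ H := by
    have h1 : q.hom x = 0 := by rw [hq]; rfl
    change QuotientAddGroup.mk' H x = 0 at h1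
    rwa [QuotientAddGroup.mk'_apply, QuotientAddGroup.eq_zero_iff] at h1
  refine AddSubgroup.iSup_induction (C := fun x => ∃ l : List (Σ i, A i),
      x = (l.map (fun p => (c.inj p.1).hom p.2)).sum) _ hx ?_ ?_ ?_
  · rintro i _ ⟨a, rfl⟩
    exact ⟨[⟨i, a⟩], by simp⟩
  · exact ⟨[], by simp⟩
  · rintro y z ⟨l, rfl⟩ ⟨l', rfl⟩
    exact ⟨l ++ l', by simp⟩

end Ab

section Site

variable {D : Type u} [SmallCategory D] {K : GrothendieckTopology D} {R : Sheaf K RingCat.{u}}

/-- a section of a direct sum of sheaves of modules is locally a finite sum of sections of the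
summands -/
theorem exists_list_locally {ι : Type u} (F : ι → SheafOfModules.{u} R) {Y : D}
    (t : (∐ F).val.obj (op Y)) :
    ∃ S : Sieve Y, S ∈ K Y ∧ ∀ ⦃Z : D⦄ (g : Z ⟶ Y), S g →
      ∃ l : List (Σ i, (F i).val.obj (op Z)),
        res (∐ F) g t = (l.map (fun p => (Sigma.ι F p.1).val.app (op Z) p.2)).sum := by
  let T := SheafOfModules.toSheaf.{u} R
  let M : Sheaf K AddCommGrpCat.{u} := T.obj (∐ F)
  let Pf : ι → (Dᵒᵖ ⥤ AddCommGrpCat.{u}) := fun i => (T.obj (F i)).obj
  let P : Dᵒᵖ ⥤ AddCommGrpCat.{u} := ∐ Pf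
  let d : P ⟶ M.obj := Sigma.desc (fun i => (T.map (Sigma.ι F i)).hom)
  let adj := sheafificationAdjunction K AddCommGrpCat.{u}
  let ℓ : (presheafToSheaf K AddCommGrpCat.{u}).obj P ⟶ M := (adj.homEquiv P M).symm d
  have hd : d = toSheafify K P ≫ ℓ.hom := by
    have h1 := adj.homEquiv_unit (f := ℓ)
    rw [Equiv.apply_symm_apply] at h1
    exact h1
  have hι : ∀ i, (T.map (Sigma.ι F i)).hom = Sigma.ι Pf i ≫ toSheafify K P ≫ ℓ.hom := by
    intro i
    rw [← hd]
    exact (Sigma.ι_desc (fun i => (T.map (Sigma.ι F i)).hom) i).symm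
  haveI : PreservesColimitsOfShape (Discrete ι) T :=
    Groth.Agent.S0484.preservesColimitsOfShape_toSheaf K R (Discrete ι)
  have hcol : IsColimit (T.mapCocone (colimit.cocone (Discrete.functor F))) :=
    isColimitOfPreserves T (colimit.isColimit _)
  haveI : Epi ℓ := by
    constructor
    intro N h h' e
    apply hcol.hom_ext
    rintro ⟨i⟩
    change T.map (Sigma.ι F i) ≫ h = T.map (Sigma.ι F i) ≫ h'
    apply Sheaf.hom_ext
    change (T.map (Sigma.ι F i)).hom ≫ h.hom = (T.map (Sigma.ι F i)).hom ≫ h'.hom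
    rw [hι]
    simp only [Category.assoc]
    have e' : ℓ.hom ≫ h.hom = ℓ.hom ≫ h'.hom := congrArg (fun q => q.hom) e
    rw [e']
  haveI : Sheaf.IsLocallySurjective ℓ :=
    (Sheaf.isLocallySurjective_iff_epi' AddCommGrpCat.{u} ℓ).2 inferInstance
  haveI : Presheaf.IsLocallySurjective K ℓ.hom := ‹Sheaf.IsLocallySurjective ℓ›
  haveI : Presheaf.IsLocallySurjective K d := by
    rw [hd]
    infer_instance
  refine ⟨Presheaf.imageSieve d t, Presheaf.imageSieve_mem K d t, ?_⟩
  intro Z g hg
  obtain ⟨e, he⟩ := hg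
  let ev := (evaluation Dᵒᵖ AddCommGrpCat.{u}).obj (op Z)
  have hc1 : IsColimit (ev.mapCocone (Cofan.mk (∐ Pf) (Sigma.ι Pf))) :=
    isColimitOfPreserves ev (coproductIsCoproduct Pf)
  have hc2 := (isColimitMapCoconeCofanMkEquiv ev Pf (Sigma.ι Pf)) hc1
  obtain ⟨l, hl⟩ := exists_list_of_isColimit _ hc2 e
  refine ⟨l, ?_⟩
  have h1 : res (∐ F) g t = (d.app (op Z)).hom e := he.symm
  rw [h1, hl, map_list_sum, List.map_map]
  congr 1
  apply List.map_congr_left
  intro p _
  have h2 := congrArg (fun q => (q.app (op Z)).hom p.2) (Sigma.ι_desc (fun i => (T.map (Sigma.ι F i)).hom) p.1)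
  exact h2

end Site

end Groth.Agent.Lib.R2H2.ModQcI
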