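import Mathlib
import Groth.Prelude.Def_ModSite
import Groth.Prelude.Def_CohCx
import Groth.Agent.Lib.R2H2ModFTA
import Groth.Agent.Lib.R2H2ModQcA
import Groth.Agent.Lib.R2H2ModQcI

/-!
# Sections over a quasi-compact object commute with direct sums (helper2, round 2)
-/

set_option backward.isDefEq.respectTransparency.types false
set_option autoImplicit false
universe u
open CategoryTheory CategoryTheory.Limits Opposite

namespace Groth.Agent.Lib.R2H2.ModQcJ

open Groth.Agent.Lib.R2H2.ModFTA Groth.Agent.Lib.R2H2.ModQcA Groth.Agent.Lib.R2H2.ModQcI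

section Group

theorem sum_proj {ι : Type*} [DecidableEq ι] {A : ι → Type*} [∀ i, AddCommGroup (A i)]
    {X : Type*} [AddCommGroup X] (a : ∀ i, A i →+ X) (b : ∀ i, X →+ A i)
    (h1 : ∀ i s, b i (a i s) = s) (h2 : ∀ i j, j ≠ i → ∀ s, b i (a j s) = 0)
    (l : List (Σ i, A i)) (T : Finset ι) (hT : ∀ p ∈ l, p.1 ∈ T) :
    ∑ i ∈ T, a i (b i (l.map (fun p => a p.1 p.2)).sum) = (l.map (fun p => a p.1 p.2)).sum := by
  induction l with
  | nil => simp
  | cons p l ih =>
    have hp : p.1 ∈ T := hT p (List.mem_cons_self)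
    have ih' := ih (fun q hq => hT q (List.mem_cons_of_mem _ hq))
    simp only [List.map_cons, List.sum_cons, map_add, Finset.sum_add_distrib]
    rw [ih']
    congr 1
    rw [Finset.sum_eq_single p.1]
    · rw [h1]
    · intro i _ hi
      rw [h2 i p.1 (Ne.symm hi), map_zero]
    · intro h
      exact absurd hp h

end Group

section Mod

variable {D : Type u} [SmallCategory D] {K : GrothendieckTopology D} {R : Sheaf K RingCat.{u}}

open Classical in
/-- projection of a direct sum to a summand -/
noncomputable def proj {ι : Type u} (F : ι → SheafOfModules.{u} R) (i : ι) : ∐ F ⟶ F i :=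
  Sigma.desc (fun j => if h : j = i then eqToHom (congrArg F h) else 0)

theorem ι_proj_self {ι : Type u} (F : ι → SheafOfModules.{u} R) (i : ι) :
    Sigma.ι F i ≫ proj F i = 𝟙 _ := by
  unfold proj
  rw [Sigma.ι_desc, dif_pos rfl]
  rfl

theorem ι_proj_ne {ι : Type u} (F : ι → SheafOfModules.{u} R) (i j : ι) (h : j ≠ i) :
    Sigma.ι F j ≫ proj F i = 0 := by
  unfold proj
  rw [Sigma.ι_desc, dif_neg h]

/-- evaluation of a morphism on sections, as an additive map -/
noncomputable def secMap {M N : SheafOfModules.{u} R} (φ : M ⟶ N) (Y : D) :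
    M.val.obj (op Y) →+ N.val.obj (op Y) :=
  (φ.val.app (op Y)).hom.toAddMonoidHom

theorem secMap_apply {M N : SheafOfModules.{u} R} (φ : M ⟶ N) (Y : D) (s : M.val.obj (op Y)) :
    secMap φ Y s = φ.val.app (op Y) s := rfl

theorem secMap_comp {M N P : SheafOfModules.{u} R} (φ : M ⟶ N) (ψ : N ⟶ P) (Y : D)
    (s : M.val.obj (op Y)) : secMap (φ ≫ ψ) Y s = secMap ψ Y (secMap φ Y s) := rfl

theorem secMap_id {M : SheafOfModules.{u} R} (Y : D) (s : M.val.obj (op Y)) :
    secMap (𝟙 M) Y s = s := rfl

theorem secMap_zero {M N : SheafOfModules.{u} R} (Y : D) (s : M.val.obj (op Y)) :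
    secMap (0 : M ⟶ N) Y s = 0 := rfl

theorem secMap_res {M N : SheafOfModules.{u} R} (φ : M ⟶ N) {Y Z : D} (g : Z ⟶ Y)
    (s : M.val.obj (op Y)) : secMap φ Z (res M g s) = res N g (secMap φ Y s) :=
  app_res φ g s

theorem secMap_proj_ι_self {ι : Type u} (F : ι → SheafOfModules.{u} R) (i : ι) (Y : D)
    (s : (F i).val.obj (op Y)) : secMap (proj F i) Y (secMap (Sigma.ι F i) Y s) = s := by
  rw [← secMap_comp, ι_proj_self, secMap_id]

theorem secMap_proj_ι_ne {ι : Type u} (F : ι → SheafOfModules.{u} R) (i j : ι) (h : j ≠ i) (Y : D)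
    (s : (F j).val.obj (op Y)) : secMap (proj F i) Y (secMap (Sigma.ι F j) Y s) = 0 := by
  rw [← secMap_comp, ι_proj_ne F i j h, secMap_zero]

/-- over a quasi-compact object, a section of a direct sum is a finite sum of sections of the
summands -/
theorem exists_global_list {ι : Type u} (F : ι → SheafOfModules.{u} R) (W : D)
    (hW : CohCx.IsQcObject (hS K W)) (t : (∐ F).val.obj (op W)) :
    ∃ l : List (Σ i, (F i).val.obj (op W)),
      t = (l.map (fun p => secMap (Sigma.ι F p.1) W p.2)).sum := by
  classical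
  obtain ⟨S, hS, hS'⟩ := exists_list_locally F t
  let I : Type u := {p : Σ Z : D, Z ⟶ W // S p.2}
  have hcov : Sieve.ofArrows (fun p : I => p.1.1) (fun p : I => p.1.2) ∈ K W := by
    refine K.superset_covering ?_ hS
    intro Z g hg
    exact Sieve.ofArrows_mk (fun p : I => p.1.1) (fun p : I => p.1.2) ⟨⟨Z, g⟩, hg⟩
  obtain ⟨t₀, ht₀⟩ := exists_finite_subcover W hW _ _ hcov
  have hl : ∀ k : I, ∃ l : List (Σ i, (F i).val.obj (op k.1.1)),
      res (∐ F) k.1.2 t = (l.map (fun p => secMap (Sigma.ι F p.1) k.1.1 p.2)).sum :=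
    fun k => hS' k.1.2 k.2
  choose l hl' using hl
  let T : Finset ι := t₀.biUnion (fun k => ((l k).map Sigma.fst).toFinset)
  let t' : (∐ F).val.obj (op W) := ∑ i ∈ T, secMap (Sigma.ι F i) W (secMap (proj F i) W t)
  have key : t = t' := by
    apply sec_ext_sieve (∐ F) _ ht₀
    intro Z g hg
    obtain ⟨Z', c, g', hg', hcg⟩ := hg
    obtain ⟨k⟩ := hg'
    rw [← hcg, ← res_res, ← res_res]
    congr 1
    change res (∐ F) k.1.1.2 t = res (∐ F) k.1.1.2 (∑ i ∈ T, secMap (Sigma.ι F i) W (secMap (proj F i) W t))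
    rw [res_sum]
    have h3 : ∀ i ∈ T, res (∐ F) k.1.1.2 (secMap (Sigma.ι F i) W (secMap (proj F i) W t)) =
        secMap (Sigma.ι F i) k.1.1.1 (secMap (proj F i) k.1.1.1 (res (∐ F) k.1.1.2 t)) := by
      intro i _
      rw [secMap_res, secMap_res]
    rw [Finset.sum_congr rfl h3, hl' k.1]
    refine (sum_proj (fun i => secMap (Sigma.ι F i) k.1.1.1) (fun i => secMap (proj F i) k.1.1.1)
      (fun i s => secMap_proj_ι_self F i _ s) (fun i j h s => secMap_proj_ι_ne F i j h _ s)
      (l k.1) T ?_).symm
    intro p hp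
    apply Finset.mem_biUnion.2
    refine ⟨k.1, k.2, ?_⟩
    rw [List.mem_toFinset]
    exact List.mem_map_of_mem hp
  refine ⟨T.toList.map (fun i => ⟨i, secMap (proj F i) W t⟩), ?_⟩
  rw [List.map_map]
  exact key.trans (Finset.sum_map_toList T
    (fun i => secMap (Sigma.ι F i) W (secMap (proj F i) W t))).symm

end Mod

section Preserve

variable {C : Type u} [SmallCategory C] {J : GrothendieckTopology C} (R : Sheaf J RingCat.{u})

/-- the functor of sections over `W`, with values in abelian groups -/
noncomputable abbrev secF (W : C) : SheafOfModules.{u} R ⥤ AddCommGrpCat.{u} :=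
  SheafOfModules.toSheaf R ⋙ (sheafSections J AddCommGrpCat.{u}).obj (op W)

theorem secF_map_apply (W : C) {M N : SheafOfModules.{u} R} (φ : M ⟶ N)
    (s : (secF R W).obj M) : ((secF R W).map φ).hom s = secMap φ W s := rfl

theorem cmp_ι_apply (W : C) {ι : Type u} (F : ι → SheafOfModules.{u} R) (i : ι)
    (s : (secF R W).obj (F i)) :
    (sigmaComparison (secF R W) F).hom
      ((Sigma.ι (fun i => (secF R W).obj (F i)) i).hom s) = secMap (Sigma.ι F i) W s := by
  have h := congrArg (fun q => q.hom s) (ι_comp_sigmaComparison (secF R W) F i)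
  exact h

theorem isIso_sigmaComparison (W : C) (hW : CohCx.IsQcObject (hS J W)) {ι : Type u}
    (F : ι → SheafOfModules.{u} R) : IsIso (sigmaComparison (secF R W) F) := by
  classical
  rw [ConcreteCategory.isIso_iff_bijective]
  constructor
  · intro x y hxy
    rw [← sub_eq_zero]
    have hz : (sigmaComparison (secF R W) F).hom (x - y) = 0 := by
      rw [map_sub]
      exact sub_eq_zero.2 hxy
    generalize x - y = z at hz
    obtain ⟨l, hl⟩ := exists_list_of_isColimit
      (Cofan.mk _ (Sigma.ι (fun i => (secF R W).obj (F i))))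
      (coproductIsCoproduct (fun i => (secF R W).obj (F i))) z
    let a' : ∀ i, (secF R W).obj (F i) →+ (∐ fun i => (secF R W).obj (F i) : AddCommGrpCat.{u}) :=
      fun i => (Sigma.ι (fun i => (secF R W).obj (F i)) i).hom
    let b' : ∀ i, (∐ fun i => (secF R W).obj (F i) : AddCommGrpCat.{u}) →+ (secF R W).obj (F i) :=
      fun i => (sigmaComparison (secF R W) F ≫ (secF R W).map (proj F i)).hom
    have h1 : ∀ i s, b' i (a' i s) = s := by
      intro i s
      change ((secF R W).map (proj F i)).hom ((sigmaComparison (secF R W) F).hom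
        ((Sigma.ι (fun i => (secF R W).obj (F i)) i).hom s)) = s
      rw [cmp_ι_apply, secF_map_apply]
      exact secMap_proj_ι_self F i W s
    have h2 : ∀ i j, j ≠ i → ∀ s, b' i (a' j s) = 0 := by
      intro i j hji s
      change ((secF R W).map (proj F i)).hom ((sigmaComparison (secF R W) F).hom
        ((Sigma.ι (fun i => (secF R W).obj (F i)) j).hom s)) = 0
      rw [cmp_ι_apply, secF_map_apply]
      exact secMap_proj_ι_ne F i j hji W s
    have h3 := sum_proj a' b' h1 h2 l (l.map Sigma.fst).toFinset (by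
      intro p hp
      rw [List.mem_toFinset]
      exact List.mem_map_of_mem hp)
    have h4 : z = (l.map (fun p => a' p.1 p.2)).sum := hl
    rw [← h4] at h3
    rw [← h3]
    apply Finset.sum_eq_zero
    intro i _
    have h5 : b' i z = 0 := by
      change ((secF R W).map (proj F i)).hom ((sigmaComparison (secF R W) F).hom z) = 0
      rw [hz, map_zero]
    rw [h5, map_zero]
  · intro t
    obtain ⟨l, hl⟩ := exists_global_list F W hW t
    refine ⟨(l.map (fun p => (Sigma.ι (fun i => (secF R W).obj (F i)) p.1).hom p.2)).sum, ?_⟩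
    rw [hl]
    change (sigmaComparison (secF R W) F).hom _ = _
    rw [map_list_sum, List.map_map]
    congr 1
    apply List.map_congr_left
    intro p _
    exact cmp_ι_apply R W F p.1 p.2

/-- S9102: sections over a quasi-compact object commute with direct sums -/
theorem preservesColimitsOfShape_secF (W : C) (hW : CohCx.IsQcObject (hS J W)) (ι : Type u) :
    PreservesColimitsOfShape (Discrete ι) (secF R W) := by
  haveI : ∀ F : ι → SheafOfModules.{u} R, PreservesColimit (Discrete.functor F) (secF R W) := by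
    intro F
    haveI := isIso_sigmaComparison R W hW F
    exact PreservesCoproduct.of_iso_comparison (secF R W) F
  exact preservesColimitsOfShape_of_discrete (secF R W)

end Preserve

end Groth.Agent.Lib.R2H2.ModQcJ
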