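import Mathlib
import Groth.Prelude.Def_ModSite
import Groth.Prelude.Def_CohCx
import Groth.Agent.Lib.Helper23FreeOn
import Groth.Agent.Lib.R2H2ModFTA
import Groth.Agent.Lib.R2H2ModQcA

/-!
# Modules of type A on a ringed site (helper2, round 2)

`TypeA O B M`: `M ≅ Coker(⊕_{j ≤ m} j_{V_j!} O → ⊕_{i ≤ n} j_{U_i!} O)` with `U_i, V_j ∈ B`.
Closure of type A under cokernels (`cokernel_typeA`).
-/

set_option backward.isDefEq.respectTransparency.types false
set_option autoImplicit false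
universe u
open CategoryTheory CategoryTheory.Limits Opposite

namespace Groth.Agent.Lib.R2H2.ModQcB

open Groth.Agent.Lib.R2H2.ModFTA Groth.Agent.Lib.R2H2.ModQcA Groth.Agent.Lib.Helper23FreeOn

section Abstract

variable {A : Type*} [Category A] [Abelian A]

/-- abstract computation of a cokernel -/
theorem nonempty_cokernel_iso {F G P P' Q' A' Q'' : A} (α : F ⟶ G) (p : P ⟶ F) [Epi p]
    (ψ' : Q' ⟶ P') (eG : G ≅ cokernel ψ') (a : A' ⟶ P) [Epi a] (l : A' ⟶ P')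
    (hl : l ≫ cokernel.π ψ' ≫ eG.inv = a ≫ p ≫ α) (ψ'' : Q'' ⟶ P')
    (hψ : ∀ {Z : A} (h : P' ⟶ Z), ψ'' ≫ h = 0 ↔ (ψ' ≫ h = 0 ∧ l ≫ h = 0)) :
    Nonempty (cokernel α ≅ cokernel ψ'') := by
  have h1 : ψ' ≫ cokernel.π ψ'' = 0 := ((hψ (cokernel.π ψ'')).1 (cokernel.condition ψ'')).1
  have h1' : l ≫ cokernel.π ψ'' = 0 := ((hψ (cokernel.π ψ'')).1 (cokernel.condition ψ'')).2
  have h2 : α ≫ eG.hom ≫ cokernel.desc ψ' (cokernel.π ψ'') h1 = 0 := by
    haveI : Epi (a ≫ p) := epi_comp a p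
    rw [← cancel_epi (a ≫ p), Category.assoc, ← Category.assoc p, ← Category.assoc a, ← hl]
    simp only [Category.assoc, Iso.inv_hom_id_assoc, cokernel.π_desc, comp_zero]
    exact h1'
  have h3 : ψ'' ≫ (cokernel.π ψ' ≫ eG.inv) ≫ cokernel.π α = 0 := by
    rw [hψ]
    constructor
    · simp
    · rw [← Category.assoc, hl]
      simp
  refine ⟨⟨cokernel.desc α (eG.hom ≫ cokernel.desc ψ' (cokernel.π ψ'') h1) h2,
    cokernel.desc ψ'' ((cokernel.π ψ' ≫ eG.inv) ≫ cokernel.π α) h3, ?_, ?_⟩⟩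
  · apply coequalizer.hom_ext
    rw [← cancel_epi eG.inv, ← cancel_epi (cokernel.π ψ')]
    simp
  · apply coequalizer.hom_ext
    simp

theorem sigma_comp_eq_zero_iff {A : Type*} [Category A] [HasZeroMorphisms A] {β : Type*}
    (f : β → A) [HasCoproduct f] {X Z : A}
    (ψ : ∐ f ⟶ X) (h : X ⟶ Z) : ψ ≫ h = 0 ↔ ∀ b, Sigma.ι f b ≫ ψ ≫ h = 0 := by
  constructor
  · intro e b
    rw [e, comp_zero]
  · intro e
    apply Sigma.hom_ext
    intro b
    rw [e b, comp_zero]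

theorem sigma_desc_comp_eq_zero_iff {A : Type*} [Category A] [HasZeroMorphisms A] {β : Type*}
    (f : β → A) [HasCoproduct f] {X Z : A}
    (c : ∀ b, f b ⟶ X) (h : X ⟶ Z) : Sigma.desc c ≫ h = 0 ↔ ∀ b, c b ≫ h = 0 := by
  rw [sigma_comp_eq_zero_iff]
  simp only [Sigma.ι_desc_assoc]

end Abstract

section Mod

variable {C : Type u} [SmallCategory C] {J : GrothendieckTopology C} (O : Sheaf J CommRingCat.{u})

theorem homEquiv_zero (M : ModSite.Mod O) (X : C) : homEquiv O M X 0 = 0 := by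
  have h := homEquiv_comp O (0 : ModSite.freeOn O X ⟶ M) (0 : M ⟶ M)
  rw [comp_zero] at h
  rw [h]
  rfl

theorem homEquiv_symm_zero (M : ModSite.Mod O) (X : C) : (homEquiv O M X).symm 0 = 0 := by
  rw [Equiv.symm_apply_eq, homEquiv_zero]

/-- the tautological section of `j_{X!} O_X` over `X` -/
noncomputable def taut (X : C) : (ModSite.freeOn O X).val.obj (op X) :=
  homEquiv O (ModSite.freeOn O X) X (𝟙 _)

theorem homEquiv_eq (M : ModSite.Mod O) (X : C) (h : ModSite.freeOn O X ⟶ M) :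
    homEquiv O M X h = h.val.app (op X) (taut O X) := by
  have := homEquiv_comp O (𝟙 (ModSite.freeOn O X)) h
  rw [Category.id_comp] at this
  exact this

/-- `Mod O`-morphism ext out of `freeOn` -/
theorem freeOn_hom_ext {M : ModSite.Mod O} {X : C} (h h' : ModSite.freeOn O X ⟶ M)
    (e : h.val.app (op X) (taut O X) = h'.val.app (op X) (taut O X)) : h = h' := by
  apply (homEquiv O M X).injective
  rw [homEquiv_eq, homEquiv_eq, e]

/-- the map `j_{W!} O_W ⟶ M` given by the restriction to `W` of a section over `X` -/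
noncomputable def resHom (M : ModSite.Mod O) {X W : C} (g : W ⟶ X) (m : M.val.obj (op X)) :
    ModSite.freeOn O W ⟶ M :=
  (homEquiv O M W).symm (res M g m)

theorem resHom_comp {M N : ModSite.Mod O} (p : M ⟶ N) {X W : C} (g : W ⟶ X)
    (m : M.val.obj (op X)) : resHom O M g m ≫ p = resHom O N g (p.val.app (op X) m) := by
  unfold resHom
  rw [homEquiv_symm_comp, app_res]

theorem resHom_eq_zero_iff (M : ModSite.Mod O) {X W : C} (g : W ⟶ X) (m : M.val.obj (op X)) :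
    resHom O M g m = 0 ↔ res M g m = 0 := by
  unfold resHom
  rw [Equiv.symm_apply_eq, homEquiv_zero]

/-- modules of type A -/
def TypeA (B : Set C) (M : ModSite.Mod O) : Prop :=
  ∃ (m' n' : ℕ) (V' : Fin m' → C) (U' : Fin n' → C)
    (ψ : (∐ fun j => ModSite.freeOn O (V' j)) ⟶ ∐ fun i => ModSite.freeOn O (U' i)),
    (∀ j, V' j ∈ B) ∧ (∀ i, U' i ∈ B) ∧ Nonempty (M ≅ cokernel ψ)

/-- type A with arbitrary finite index types -/
theorem typeA_of_finite (B : Set C) (M : ModSite.Mod O) {σ τ : Type*} [Finite σ] [Finite τ]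
    (V : σ → C) (U : τ → C)
    (ψ : (∐ fun j => ModSite.freeOn O (V j)) ⟶ ∐ fun i => ModSite.freeOn O (U i))
    (hV : ∀ j, V j ∈ B) (hU : ∀ i, U i ∈ B) (e : M ≅ cokernel ψ) : TypeA O B M := by
  obtain ⟨m, ⟨e1⟩⟩ := Finite.exists_equiv_fin σ
  obtain ⟨n, ⟨e2⟩⟩ := Finite.exists_equiv_fin τ
  let r1 := Sigma.reindex e1.symm (fun j => ModSite.freeOn O (V j))
  let r2 := Sigma.reindex e2.symm (fun i => ModSite.freeOn O (U i))
  refine ⟨m, n, fun j => V (e1.symm j), fun i => U (e2.symm i), r1.hom ≫ ψ ≫ r2.inv,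
    fun j => hV _, fun i => hU _, ⟨e ≪≫ ?_⟩⟩
  refine cokernel.mapIso ψ (r1.hom ≫ ψ ≫ r2.inv) r1.symm r2.symm ?_
  simp

theorem typeA_of_iso (B : Set C) {M N : ModSite.Mod O} (e : M ≅ N) (h : TypeA O B M) :
    TypeA O B N := by
  obtain ⟨m, n, V, U, ψ, hV, hU, ⟨e'⟩⟩ := h
  exact ⟨m, n, V, U, ψ, hV, hU, ⟨e.symm ≪≫ e'⟩⟩

/-- sections over members of a covering family generate `j_{U!} O_U` -/
theorem epi_desc_resHom {n : ℕ} (U : Fin n → C) (κ : Fin n → Type u) (W : ∀ i, κ i → C)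
    (g : ∀ i k, W i k ⟶ U i) (hg : ∀ i, Sieve.ofArrows (W i) (g i) ∈ J (U i)) :
    Epi (Sigma.desc (fun ik : Σ i, κ i =>
      resHom O (∐ fun i => ModSite.freeOn O (U i)) (g ik.1 ik.2)
        ((Sigma.ι (fun i => ModSite.freeOn O (U i)) ik.1).val.app _ (taut O (U ik.1)))) :
      (∐ fun ik : Σ i, κ i => ModSite.freeOn O (W ik.1 ik.2)) ⟶
        ∐ fun i => ModSite.freeOn O (U i)) := by
  apply Preadditive.epi_of_cancel_zero
  intro Z h hh
  apply Sigma.hom_ext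
  intro i
  rw [comp_zero]
  apply freeOn_hom_ext
  have h0 : (0 : ModSite.freeOn O (U i) ⟶ Z).val.app (op (U i)) (taut O (U i)) = 0 := rfl
  rw [h0]
  apply sec_ext_sieve Z _ (hg i)
  intro V f hf
  obtain ⟨V', a, b, hb, hab⟩ := hf
  obtain ⟨k⟩ := hb
  rw [res_zero, ← hab, ← res_res]
  have h1 := congrArg (fun q => Sigma.ι (fun ik : Σ i, κ i => ModSite.freeOn O (W ik.1 ik.2)) ⟨i, k⟩ ≫ q) hh
  simp only [Sigma.ι_desc_assoc, comp_zero] at h1
  rw [resHom_comp, resHom_eq_zero_iff] at h1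
  have h2 : (Sigma.ι (fun i => ModSite.freeOn O (U i)) i ≫ h).val.app (op (U i)) (taut O (U i)) =
      h.val.app (op (U i)) ((Sigma.ι (fun i => ModSite.freeOn O (U i)) i).val.app _ (taut O (U i))) := rfl
  rw [h2, h1, res_zero]

/-- refinement of a covering sieve of a quasi-compact object by finitely many members of `B` -/
theorem exists_finite_B_cover (B : Set C)
    (hB₁ : ∀ X : C, ∃ (κ : Type u) (Y : κ → C) (g : ∀ k, Y k ⟶ X),
      Sieve.ofArrows Y g ∈ J X ∧ ∀ k, Y k ∈ B)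
    (U : C) (hU : CohCx.IsQcObject (hS J U)) (S : Sieve U) (hS : S ∈ J U) :
    ∃ (t : Type u) (_ : Finite t) (W : t → C) (g : ∀ k, W k ⟶ U),
      Sieve.ofArrows W g ∈ J U ∧ (∀ k, W k ∈ B) ∧ ∀ k, S (g k) := by
  let I : Type u := {p : Σ W : C, W ⟶ U // p.1 ∈ B ∧ S p.2}
  have hcov : Sieve.ofArrows (fun p : I => p.1.1) (fun p : I => p.1.2) ∈ J U := by
    refine J.transitive hS _ ?_
    intro Z f hf
    obtain ⟨κ, Yc, g', hcov, hYB⟩ := hB₁ Z
    refine J.superset_covering ?_ hcov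
    intro V c hc
    obtain ⟨V', a, b, hb, hab⟩ := hc
    obtain ⟨k⟩ := hb
    change Sieve.ofArrows (fun p : I => p.1.1) (fun p : I => p.1.2) (c ≫ f)
    rw [← hab, Category.assoc]
    exact Sieve.downward_closed _
      (Sieve.ofArrows_mk (fun p : I => p.1.1) (fun p : I => p.1.2)
        ⟨⟨Yc k, g' k ≫ f⟩, hYB k, S.downward_closed hf _⟩) a
  obtain ⟨t, ht⟩ := exists_finite_subcover U hU _ _ hcov
  exact ⟨↥t, inferInstance, fun k => k.1.1.1, fun k => k.1.1.2, ht, fun k => k.1.2.1,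
    fun k => k.1.2.2⟩

/-- the cokernel of a morphism between modules of type A is of type A -/
theorem cokernel_typeA (B : Set C)
    (hB₁ : ∀ X : C, ∃ (κ : Type u) (Y : κ → C) (g : ∀ k, Y k ⟶ X),
      Sieve.ofArrows Y g ∈ J X ∧ ∀ k, Y k ∈ B)
    (hB₂ : ∀ U ∈ B, CohCx.IsQcObject (hS J U)) (F G : ModSite.Mod O) (α : F ⟶ G)
    (hF : TypeA O B F) (hG : TypeA O B G) : TypeA O B (cokernel α) := by
  obtain ⟨m, n, V, U, ψ, hV, hU, ⟨eF⟩⟩ := hF
  obtain ⟨m', n', V', U', ψ', hV', hU', ⟨eG⟩⟩ := hG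
  let P : ModSite.Mod O := ∐ fun i => ModSite.freeOn O (U i)
  let P' : ModSite.Mod O := ∐ fun i => ModSite.freeOn O (U' i)
  let p : P ⟶ F := cokernel.π ψ ≫ eF.inv
  let q : P' ⟶ G := cokernel.π ψ' ≫ eG.inv
  let e : ∀ i, P.val.obj (op (U i)) := fun i =>
    (Sigma.ι (fun i => ModSite.freeOn O (U i)) i).val.app _ (taut O (U i))
  let s : ∀ i, G.val.obj (op (U i)) := fun i => (p ≫ α).val.app _ (e i)
  have key : ∀ i, ∃ (t : Type u) (_ : Finite t) (W : t → C) (g : ∀ k, W k ⟶ U i),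
      Sieve.ofArrows W g ∈ J (U i) ∧ (∀ k, W k ∈ B) ∧
        ∀ k, ∃ x : P'.val.obj (op (W k)), q.val.app _ x = res G (g k) (s i) := by
    intro i
    obtain ⟨S, hS, hS'⟩ := locSurj_of_epi q (U i) (s i)
    obtain ⟨t, ht, W, g, hg, hWB, hgS⟩ := exists_finite_B_cover B hB₁ (U i) (hB₂ _ (hU i)) S hS
    exact ⟨t, ht, W, g, hg, hWB, fun k => hS' (g k) (hgS k)⟩
  choose κ hκ W g hg hWB x hx using key
  let a : (∐ fun ik : Σ i, κ i => ModSite.freeOn O (W ik.1 ik.2)) ⟶ P :=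
    Sigma.desc (fun ik => resHom O P (g ik.1 ik.2) (e ik.1))
  haveI : Epi a := epi_desc_resHom O U κ W g hg
  let l : (∐ fun ik : Σ i, κ i => ModSite.freeOn O (W ik.1 ik.2)) ⟶ P' :=
    Sigma.desc (fun ik => (homEquiv O P' _).symm (x ik.1 ik.2))
  have hl : l ≫ cokernel.π ψ' ≫ eG.inv = a ≫ p ≫ α := by
    apply Sigma.hom_ext
    intro ik
    have e1 : Sigma.ι (fun ik : Σ i, κ i => ModSite.freeOn O (W ik.1 ik.2)) ik ≫ l =
      (homEquiv O P' _).symm (x ik.1 ik.2) := Sigma.ι_desc _ _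
    have e2 : Sigma.ι (fun ik : Σ i, κ i => ModSite.freeOn O (W ik.1 ik.2)) ik ≫ a =
      resHom O P (g ik.1 ik.2) (e ik.1) := Sigma.ι_desc _ _
    rw [← Category.assoc, e1, ← Category.assoc _ a, e2]
    change (homEquiv O P' _).symm (x ik.1 ik.2) ≫ q = _
    rw [homEquiv_symm_comp, resHom_comp, hx]
    rfl
  let Vf : (Σ i, κ i) ⊕ Fin m' → C := Sum.elim (fun ik => W ik.1 ik.2) V'
  let comp : ∀ k : (Σ i, κ i) ⊕ Fin m', ModSite.freeOn O (Vf k) ⟶ P' := fun k =>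
    match k with
    | .inl ik => (homEquiv O P' _).symm (x ik.1 ik.2)
    | .inr j => Sigma.ι (fun j => ModSite.freeOn O (V' j)) j ≫ ψ'
  let ψ'' : (∐ fun k => ModSite.freeOn O (Vf k)) ⟶ P' := Sigma.desc comp
  have hψ : ∀ {Z : ModSite.Mod O} (h : P' ⟶ Z), ψ'' ≫ h = 0 ↔ (ψ' ≫ h = 0 ∧ l ≫ h = 0) := by
    intro Z h
    rw [sigma_desc_comp_eq_zero_iff, sigma_desc_comp_eq_zero_iff, sigma_comp_eq_zero_iff]
    constructor
    · intro hc
      exact ⟨fun j => by rw [← Category.assoc]; exact hc (.inr j), fun ik => hc (.inl ik)⟩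
    · rintro ⟨h1, h2⟩ (ik | j)
      · exact h2 ik
      · have := h1 j
        rw [← Category.assoc] at this
        exact this
  haveI : Finite ((Σ i, κ i) ⊕ Fin m') := by
    haveI : ∀ i, Finite (κ i) := hκ
    infer_instance
  obtain ⟨iso⟩ := nonempty_cokernel_iso α p ψ' eG a l hl ψ'' hψ
  refine typeA_of_finite O B _ Vf U' ψ'' ?_ hU' iso
  rintro (ik | j)
  · exact hWB _ _
  · exact hV' j

end Mod

end Groth.Agent.Lib.R2H2.ModQcB
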