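import Mathlib
import Groth.Prelude.Def_ModSite
import Groth.Prelude.Def_CohCx
import Groth.Agent.Lib.Helper23FreeOn
import Groth.Agent.Lib.R2H2ModFTA
import Groth.Agent.Lib.R2H2ModQcA
import Groth.Agent.Lib.R2H2ModQcB
import Groth.Agent.Lib.R2H2ModQcJ

/-!
# `Hom(j_{U!} O_U, -)` commutes with direct sums for quasi-compact `U` (helper2, round 2)
-/

set_option backward.isDefEq.respectTransparency.types false
set_option autoImplicit false
universe u
open CategoryTheory CategoryTheory.Limits Opposite

namespace Groth.Agent.Lib.R2H2.ModQcK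

open Groth.Agent.Lib.R2H2.ModFTA Groth.Agent.Lib.R2H2.ModQcA Groth.Agent.Lib.Helper23FreeOn
open Groth.Agent.Lib.R2H2.ModQcB Groth.Agent.Lib.R2H2.ModQcJ

variable {C : Type u} [SmallCategory C] {J : GrothendieckTopology C} (O : Sheaf J CommRingCat.{u})

/-- `Hom(j_{U!} O_U, M) ≃+ M(U)` -/
noncomputable def homAddEquiv (M : ModSite.Mod O) (U : C) :
    (ModSite.freeOn O U ⟶ M) ≃+ M.val.obj (op U) :=
  { homEquiv O M U with
    map_add' := fun h h' => by
      change homEquiv O M U (h + h') = homEquiv O M U h + homEquiv O M U h'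
      rw [homEquiv_eq, homEquiv_eq, homEquiv_eq]
      rfl }

theorem homAddEquiv_apply (M : ModSite.Mod O) (U : C) (h : ModSite.freeOn O U ⟶ M) :
    homAddEquiv O M U h = homEquiv O M U h := rfl

/-- `Hom(j_{U!} O_U, -) ≅ Γ(U, -)` as functors to abelian groups -/
noncomputable def coyonedaIso (U : C) :
    preadditiveCoyoneda.obj (op (ModSite.freeOn O U)) ≅ secF (ModSite.ringSh O) U :=
  NatIso.ofComponents (fun M => (homAddEquiv O M U).toAddCommGrpIso) (by
    intro M N p
    ext h
    change homEquiv O N U (h ≫ p) = p.val.app (op U) (homEquiv O M U h)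
    exact homEquiv_comp O h p)

/-- S9103 -/
theorem preservesColimitsOfShape_coyoneda (U : C) (hU : CohCx.IsQcObject (hS J U)) (ι : Type u) :
    PreservesColimitsOfShape (Discrete ι) (preadditiveCoyoneda.obj (op (ModSite.freeOn O U))) := by
  haveI := preservesColimitsOfShape_secF (ModSite.ringSh O) U hU ι
  exact preservesColimitsOfShape_of_natIso (coyonedaIso O U).symm

end Groth.Agent.Lib.R2H2.ModQcK
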