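import Mathlib
import Groth.Prelude.Def_ModSite
import Groth.Prelude.Def_CohCx
import Groth.Prelude.Def_CohSite
import Groth.Prelude.Def_CohDer
import Groth.Agent.Lib.Helper23FreeOn
import Groth.Agent.Lib.Helper4ModEpi
import Groth.Agent.Lib.R2H2ModQcA
import Groth.Agent.Lib.R2H2ModQcJ
import Groth.Agent.Lib.R2H2ModQcK
import Groth.Agent.Lib.R2H2DCompactA
import Groth.Agent.S0484

/-!
# `j_{U!} O_U` is compact in `D(O)` for `U` quasi-compact and weakly contractible
(helper2, round 2)
-/

set_option backward.isDefEq.respectTransparency.types false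
set_option autoImplicit false
universe u
open CategoryTheory CategoryTheory.Limits Opposite

namespace Groth.Agent.Lib.R2H2.DCompactB

open Groth.Agent.Lib.Helper17.Compact Groth.Agent.Lib.R2H2.DCompactA
open Groth.Agent.Lib.R2H2.ModQcA Groth.Agent.Lib.R2H2.ModQcJ Groth.Agent.Lib.Helper23FreeOn

variable {C : Type u} [SmallCategory C] {J : GrothendieckTopology C} (O : Sheaf J CommRingCat.{u})

/-- `j_{U!} O_U` has finite support for quasi-compact `U` -/
theorem finSupp_freeOn (U : C) (hU : CohCx.IsQcObject (hS J U)) :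
    FinSupp (ModSite.freeOn O U) (𝟭 (ModSite.Mod O)) := by
  classical
  intro ι X Pt inj hc φ
  change ModSite.freeOn O U ⟶ Pt at φ
  change ∃ s : Finset ι, φ ≫ idem hc s = φ
  have hc0 : IsColimit (Cofan.mk (∐ X) (Sigma.ι X)) := coproductIsCoproduct X
  obtain ⟨l, hl⟩ := exists_global_list X U hU
    (homEquiv O (∐ X) U (φ ≫ cmp hc (fun i => Iso.refl (X i)) (inj' := Sigma.ι X)))
  refine ⟨(l.map Sigma.fst).toFinset, supp_transport hc hc0 (fun i => Iso.refl (X i)) φ _ ?_⟩
  apply (homEquiv O (∐ X) U).injective
  rw [homEquiv_comp, hl]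
  change secMap (idem hc0 (l.map Sigma.fst).toFinset) U _ = _
  rw [map_list_sum, List.map_map]
  congr 1
  apply List.map_congr_left
  intro p hp
  change secMap (idem hc0 (l.map Sigma.fst).toFinset) U (secMap (Sigma.ι X p.1) U p.2) = _
  rw [← secMap_comp, inj_idem_of_mem hc0 _ p.1 (by
    rw [List.mem_toFinset]
    exact List.mem_map_of_mem hp)]

/-- over a weakly contractible object, epimorphisms of modules are surjective on sections -/
theorem surjective_of_epi (U : C) (hwc : CohSite.IsWeaklyContractible J U)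
    {M N : ModSite.Mod O} (p : M ⟶ N) [Epi p] (t : N.val.obj (op U)) :
    ∃ m : M.val.obj (op U), p.val.app (op U) m = t := by
  have h1 : Presheaf.IsLocallySurjective J
      ((PresheafOfModules.toPresheaf (ModSite.ringSh O).obj).map p.val) :=
    Groth.Agent.Lib.Helper4.ModEpi.isLocallySurjective_of_epi p
  haveI h2 : Sheaf.IsLocallySurjective ((SheafOfModules.toSheaf (ModSite.ringSh O)).map p) := h1
  haveI h3 : Sheaf.IsLocallySurjective ((sheafCompose J (forget AddCommGrpCat.{u})).map
      ((SheafOfModules.toSheaf (ModSite.ringSh O)).map p)) := inferInstance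
  have h4 : Epi ((sheafCompose J (forget AddCommGrpCat.{u})).map
      ((SheafOfModules.toSheaf (ModSite.ringSh O)).map p)) :=
    Sheaf.epi_of_isLocallySurjective _
  obtain ⟨m, hm⟩ := hwc _ _ _ h4 t
  exact ⟨m, hm⟩

/-- `j_{U!} O_U` is projective for weakly contractible `U` -/
theorem projective_freeOn (U : C) (hwc : CohSite.IsWeaklyContractible J U) :
    Projective (ModSite.freeOn O U) := by
  constructor
  intro M N f e _
  obtain ⟨m, hm⟩ := surjective_of_epi O U hwc e (homEquiv O N U f)
  refine ⟨(homEquiv O M U).symm m, ?_⟩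
  rw [homEquiv_symm_comp, hm, Equiv.symm_apply_apply]

/-- S9037 -/
theorem isCompactObject_freeOn
    [HasDerivedCategory.{u} (ModSite.Mod O)] [HasCoproducts.{u} (DerivedCategory (ModSite.Mod O))]
    (U : C) (hqc : CohCx.IsQcObject ((presheafToSheaf J (Type u)).obj (yoneda.obj U)))
    (hwc : CohSite.IsWeaklyContractible J U) :
    CohDer.IsCompactObject
      ((DerivedCategory.singleFunctor (ModSite.Mod O) 0).obj (ModSite.freeOn O U)) := by
  haveI : IsGrothendieckAbelian.{u} (ModSite.Mod O) :=
    Groth.Agent.S0484.result J (ModSite.ringSh O)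
  haveI := projective_freeOn O U hwc
  exact isCompactObject_single (ModSite.freeOn O U) (finSupp_freeOn O U hqc)

end Groth.Agent.Lib.R2H2.DCompactB
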