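import Mathlib
import Groth.Agent.Lib.Helper17KInj12

/-!
# Maps from a single object into a complex of acyclic objects in `D(A)` are chain maps
(helper2, round 2)

`E : A`, `L` a cochain complex whose terms have no higher `Ext` from `E`.  If `L` is bounded below,
or if `E` has finite cohomological dimension, every morphism `E[0] ⟶ L` in `D(A)` is the class of a
chain map (Leray acyclicity, surjectivity part).
-/

set_option backward.isDefEq.respectTransparency.types false
set_option autoImplicit false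
universe w w' v u
open CategoryTheory CategoryTheory.Limits

namespace Groth.Agent.Lib.R2H2.DLerayA

open Abelian CochainComplex HomComplex

section ExtVanish

variable {A : Type u} [Category.{v} A] [Abelian A] [HasExt.{w} A]

/-- all higher `Ext` groups from `E` to `X` vanish -/
def Acyc (E X : A) : Prop := ∀ (p : ℕ) (x : Ext E X (p + 1)), x = 0

theorem acyc_of_injective (E X : A) [Injective X] : Acyc E X :=
  fun _ x => Ext.eq_zero_of_injective x

theorem acyc_of_isZero (E : A) {X : A} (hX : IsZero X) : Acyc E X := by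
  haveI := hX.injective
  exact acyc_of_injective E X

theorem ext_eq_zero_X₃ {E : A} {S : ShortComplex A} (hS : S.ShortExact) (p : ℕ)
    (h₂ : ∀ x : Ext E S.X₂ (p + 1), x = 0) (h₁ : ∀ x : Ext E S.X₁ (p + 2), x = 0)
    (x : Ext E S.X₃ (p + 1)) : x = 0 := by
  obtain ⟨x₂, rfl⟩ := Ext.covariant_sequence_exact₃ E hS x (rfl : p + 1 + 1 = p + 2) (h₁ _)
  rw [h₂ x₂, Ext.zero_comp]

theorem acyc_X₃ {E : A} {S : ShortComplex A} (hS : S.ShortExact) (h₁ : Acyc E S.X₁)
    (h₂ : Acyc E S.X₂) : Acyc E S.X₃ :=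
  fun p x => ext_eq_zero_X₃ hS p (h₂ p) (h₁ (p + 1)) x

theorem exists_lift {E : A} {S : ShortComplex A} (hS : S.ShortExact)
    (h₁ : ∀ x : Ext E S.X₁ 1, x = 0) (z : E ⟶ S.X₃) : ∃ y : E ⟶ S.X₂, y ≫ S.g = z := by
  obtain ⟨x₂, hx₂⟩ := Ext.covariant_sequence_exact₃ E hS (Ext.mk₀ z) (rfl : 0 + 1 = 1) (h₁ _)
  obtain ⟨y, rfl⟩ := (Ext.mk₀_bijective E S.X₂).2 x₂
  refine ⟨y, ?_⟩
  rw [Ext.mk₀_comp_mk₀] at hx₂
  exact (Ext.mk₀_bijective _ _).1 hx₂

end ExtVanish

section CyclesSC

variable {A : Type u} [Category.{v} A] [Abelian A]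

/-- the short complex `0 ⟶ Z^i ⟶ Q^i ⟶ Z^j ⟶ 0`. -/
noncomputable def cyclesSC (Q : CochainComplex A ℤ) (i j : ℤ) : ShortComplex A :=
  ShortComplex.mk (Q.iCycles i) (Q.toCycles i j) (by
    rw [← cancel_mono (Q.iCycles j), Category.assoc, HomologicalComplex.toCycles_i,
      HomologicalComplex.iCycles_d, zero_comp])

theorem cyclesSC_shortExact (Q : CochainComplex A ℤ) (i j : ℤ) (hij : i + 1 = j)
    (hQ : Q.ExactAt j) : (cyclesSC Q i j).ShortExact where
  exact := ShortComplex.exact_of_f_is_kernel _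
    (isKernelOfComp (Q.iCycles j) (Q.d i j) (Q.cyclesIsKernel i j (by simp [hij])) _
      (Q.toCycles_i i j))
  mono_f := inferInstanceAs (Mono (Q.iCycles i))
  epi_g := by
    change Epi (Q.toCycles i j)
    exact Preadditive.epi_of_isZero_cokernel' _ (Q.homologyIsCokernel i j (by simp [← hij]))
      hQ.isZero_homology

end CyclesSC

section Cycles

variable {A : Type u} [Category.{v} A] [Abelian A] [HasExt.{w} A]

/-- cycles of a bounded below exact complex of acyclic objects are acyclic -/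
theorem acyc_cycles_of_bddBelow (E : A) (C : CochainComplex A ℤ) (n : ℤ) [C.IsStrictlyGE n]
    (hC : C.Acyclic) (hX : ∀ k, Acyc E (C.X k)) (k : ℤ) : Acyc E (C.cycles k) := by
  have hlow : ∀ k, k < n → Acyc E (C.cycles k) := by
    intro k hk
    apply acyc_of_isZero
    have h1 : IsZero (C.X k) := C.isZero_of_isStrictlyGE n k hk
    rw [IsZero.iff_id_eq_zero, ← cancel_mono (C.iCycles k)]
    exact h1.eq_of_tgt _ _
  by_cases hk : k < n
  · exact hlow k hk
  · have hk' : n - 1 ≤ k := by omega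
    refine Int.leInduction (motive := fun j _ => Acyc E (C.cycles j))
      (hlow (n - 1) (by omega)) ?_ k hk'
    intro j _ hj
    exact acyc_X₃ (cyclesSC_shortExact C j (j + 1) rfl (hC (j + 1))) hj (hX j)

/-- cycles of an exact complex of acyclic objects are acyclic when `E` has finite cohomological
dimension -/
theorem acyc_cycles_of_finiteDim (E : A) (C : CochainComplex A ℤ) (d : ℕ)
    (hd : ∀ (F : A) (p : ℕ), d < p → ∀ x : Ext E F p, x = 0)
    (hC : C.Acyclic) (hX : ∀ k, Acyc E (C.X k)) (k : ℤ) : Acyc E (C.cycles k) := by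
  have key : ∀ (n p : ℕ), d ≤ p + n → ∀ (k : ℤ) (x : Ext E (C.cycles k) (p + 1)), x = 0 := by
    intro n
    induction n with
    | zero =>
      intro p hp k x
      exact hd _ _ (by omega) x
    | succ n ih =>
      intro p hp k x
      have e : k - 1 + 1 = k := by omega
      have hS := cyclesSC_shortExact C (k - 1) k e (hC k)
      exact ext_eq_zero_X₃ hS p (hX (k - 1) p) (ih (p + 1) (by omega) (k - 1)) x
  intro p x
  exact key d p (by omega) k x

end Cycles

section Core

variable {A : Type u} [Category.{v} A] [Abelian A] [HasExt.{w} A] [HasDerivedCategory.{w'} A]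

omit [HasExt.{w} A] in
/-- maps into a K-injective complex in `D(A)` come from chain maps -/
theorem exists_Q_map_eq_of_isKInjective (S T : CochainComplex A ℤ) [T.IsKInjective]
    (m : DerivedCategory.Q.obj S ⟶ DerivedCategory.Q.obj T) :
    ∃ f : S ⟶ T, DerivedCategory.Q.map f = m := by
  obtain ⟨g, hg⟩ := (CochainComplex.IsKInjective.Qh_map_bijective
    ((HomotopyCategory.quotient _ _).obj S) T).2
    ((DerivedCategory.quotientCompQhIso A).hom.app S ≫ m ≫
      (DerivedCategory.quotientCompQhIso A).inv.app T)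
  obtain ⟨f, rfl⟩ := (HomotopyCategory.quotient _ _).map_surjective g
  refine ⟨f, ?_⟩
  have nat := (DerivedCategory.quotientCompQhIso A).hom.naturality f
  have hg' : (HomotopyCategory.quotient A (ComplexShape.up ℤ) ⋙ DerivedCategory.Qh).map f =
      (DerivedCategory.quotientCompQhIso A).hom.app S ≫ m ≫
      (DerivedCategory.quotientCompQhIso A).inv.app T := hg
  rw [hg'] at nat
  simp only [Category.assoc, Iso.inv_hom_id_app, Category.comp_id] at nat
  exact ((cancel_epi ((DerivedCategory.quotientCompQhIso A).hom.app S)).1 nat).symm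

/-- the core step: lifting along a resolution -/
theorem exists_Q_map_eq_of_resolution (E : A) {L J : CochainComplex A ℤ} (q : L ⟶ J)
    (hqm : Mono q) (hq : QuasiIso q) [J.IsKInjective]
    (hL : ∀ x : Ext E (L.X (-1)) 1, x = 0)
    (hZ : ∀ x : Ext E ((cokernel q).cycles (-1)) 1, x = 0)
    (m : DerivedCategory.Q.obj ((CochainComplex.singleFunctor A 0).obj E) ⟶
      DerivedCategory.Q.obj L) :
    ∃ f : (CochainComplex.singleFunctor A 0).obj E ⟶ L,
      DerivedCategory.Q.map f = m := by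
  obtain ⟨g, hg⟩ := exists_Q_map_eq_of_isKInjective _ J (m ≫ DerivedCategory.Q.map q)
  let S : ShortComplex (CochainComplex A ℤ) :=
    ShortComplex.mk q (cokernel.π q) (cokernel.condition q)
  have hS : S.ShortExact :=
    { exact := ShortComplex.exact_cokernel q, mono_f := hqm,
      epi_g := inferInstanceAs (Epi (cokernel.π q)) }
  have hC : (cokernel q).Acyclic := hS.acyclic_X₃ hq
  have hk := (HomologicalComplex.shortExact_iff_degreewise_shortExact S).1 hS
  -- the degree zero component of `g`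
  obtain ⟨e0, he0⟩ : ∃ e0 : ((CochainComplex.singleFunctor A 0).obj E).X 0 ≅ E,
      e0 = HomologicalComplex.singleObjXSelf (ComplexShape.up ℤ) 0 E := ⟨_, rfl⟩
  obtain ⟨g0, hg0def⟩ : ∃ g0 : E ⟶ J.X 0, g0 = e0.inv ≫ g.f 0 := ⟨_, rfl⟩
  have hg0 : g0 ≫ J.d 0 1 = 0 := by
    have h1 : g.f 0 ≫ J.d 0 1 =
        ((CochainComplex.singleFunctor A 0).obj E).d 0 1 ≫ g.f 1 := g.comm 0 1
    have h2 : ((CochainComplex.singleFunctor A 0).obj E).d 0 1 = 0 :=
      HomologicalComplex.single_obj_d _ _ _ _ _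
    rw [hg0def, Category.assoc, h1, h2, zero_comp, comp_zero]
  -- its image in the cokernel is a coboundary
  have hgb : (g0 ≫ (cokernel.π q).f 0) ≫ (cokernel q).d 0 1 = 0 := by
    rw [Category.assoc, (cokernel.π q).comm 0 1, ← Category.assoc, hg0, zero_comp]
  obtain ⟨z, hz⟩ : ∃ z : E ⟶ (cokernel q).cycles 0,
      z ≫ (cokernel q).iCycles 0 = g0 ≫ (cokernel.π q).f 0 :=
    ⟨(cokernel q).liftCycles (g0 ≫ (cokernel.π q).f 0) 1 (by simp) hgb,
      (cokernel q).liftCycles_i _ _ _ _⟩
  obtain ⟨cb, hcb⟩ : ∃ cb : E ⟶ (cokernel q).X (-1), cb ≫ (cokernel q).toCycles (-1) 0 = z :=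
    exists_lift (cyclesSC_shortExact (cokernel q) (-1) 0 (by omega) (hC 0)) hZ z
  have hcb' : cb ≫ (cokernel q).d (-1) 0 = g0 ≫ (cokernel.π q).f 0 := by
    rw [← hz, ← hcb, Category.assoc, HomologicalComplex.toCycles_i]
  obtain ⟨c, hc⟩ : ∃ c : E ⟶ J.X (-1), c ≫ (cokernel.π q).f (-1) = cb :=
    exists_lift (hk (-1)) hL cb
  -- correct `g0` by the coboundary of `c`
  have h0 : (g0 - c ≫ J.d (-1) 0) ≫ (cokernel.π q).f 0 = 0 := by
    rw [Preadditive.sub_comp, Category.assoc, ← (cokernel.π q).comm (-1) 0, ← Category.assoc, hc,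
      hcb', sub_self]
  haveI : Mono (S.map (HomologicalComplex.eval A (ComplexShape.up ℤ) 0)).f := (hk 0).mono_f
  obtain ⟨f0, hf0⟩ : ∃ f0 : E ⟶ L.X 0, f0 ≫ q.f 0 = g0 - c ≫ J.d (-1) 0 :=
    ⟨(hk 0).exact.lift (g0 - c ≫ J.d (-1) 0) h0, (hk 0).exact.lift_f _ _⟩
  have hf0d : f0 ≫ L.d 0 1 = 0 := by
    haveI : Mono (q.f 1) := (hk 1).mono_f
    rw [← cancel_mono (q.f 1), Category.assoc, ← q.comm 0 1, ← Category.assoc, hf0,
      Preadditive.sub_comp, hg0, Category.assoc, J.d_comp_d, comp_zero, sub_self, zero_comp]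
  obtain ⟨f, hff⟩ : ∃ f : (CochainComplex.singleFunctor A 0).obj E ⟶ L,
      f.f 0 = e0.hom ≫ f0 :=
    ⟨HomologicalComplex.mkHomFromSingle f0 (by
      intro k hk'
      obtain rfl : k = 1 := by
        have : (0 : ℤ) + 1 = k := hk'
        omega
      exact hf0d), by rw [he0]; exact HomologicalComplex.mkHomFromSingle_f _ _⟩
  -- `g` and `f ≫ q` are homotopic
  have hH : Homotopy g (f ≫ q) := (Cochain.equivHomotopy _ _).symm
    ⟨Cochain.fromSingleMk c (show (0 : ℤ) + (-1) = -1 by omega), by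
      ext p
      by_cases hp : p = 0
      · subst hp
        rw [Cochain.add_v, Cochain.ofHom_v, Cochain.ofHom_v,
          Cochain.δ_fromSingleMk c (show (0 : ℤ) + (-1) = -1 by omega) 0 0 (by omega),
          Cochain.fromSingleMk_v, ← he0, HomologicalComplex.comp_f, hff, Category.assoc, hf0,
          Preadditive.comp_sub, hg0def, Iso.hom_inv_id_assoc]
        exact (add_sub_cancel _ _).symm
      · exact (HomologicalComplex.isZero_single_obj_X _ _ _ _ hp).eq_of_src _ _⟩
  refine ⟨f, ?_⟩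
  haveI : IsIso (DerivedCategory.Q.map q) := (DerivedCategory.isIso_Q_map_iff_quasiIso A q).2 hq
  rw [← cancel_mono (DerivedCategory.Q.map q), ← Functor.map_comp, ← hg]
  exact (DerivedCategory.Q_map_eq_of_homotopy A hH).symm

omit [HasDerivedCategory.{w'} A] in
/-- the cokernel of a monomorphic injective resolution of a complex of acyclic objects is an
exact complex of acyclic objects -/
theorem cokernel_facts (E : A) {L J : CochainComplex A ℤ} (q : L ⟶ J)
    (hqm : Mono q) (hq : QuasiIso q) (hL : ∀ k, Acyc E (L.X k)) (hJ : ∀ k, Injective (J.X k)) :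
    (cokernel q).Acyclic ∧ ∀ k, Acyc E ((cokernel q).X k) := by
  let S : ShortComplex (CochainComplex A ℤ) :=
    ShortComplex.mk q (cokernel.π q) (cokernel.condition q)
  have hS : S.ShortExact :=
    { exact := ShortComplex.exact_cokernel q, mono_f := hqm,
      epi_g := inferInstanceAs (Epi (cokernel.π q)) }
  have hk := (HomologicalComplex.shortExact_iff_degreewise_shortExact S).1 hS
  refine ⟨hS.acyclic_X₃ hq, fun k => ?_⟩
  haveI := hJ k
  exact acyc_X₃ (hk k) (hL k) (acyc_of_injective E (J.X k))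

open CochainComplex.Plus.modelCategoryQuillen in
/-- bounded below case -/
theorem exists_Q_map_eq_of_bddBelow [EnoughInjectives A] (E : A) (L : CochainComplex A ℤ) (n : ℤ)
    [L.IsStrictlyGE n] (hL : ∀ k, Acyc E (L.X k))
    (m : DerivedCategory.Q.obj ((CochainComplex.singleFunctor A 0).obj E) ⟶
      DerivedCategory.Q.obj L) :
    ∃ f : (CochainComplex.singleFunctor A 0).obj E ⟶ L, DerivedCategory.Q.map f = m := by
  obtain ⟨J, q, hqm, hq, hJ, hJb⟩ := exists_mono_quasiIso_injective L (n - 1) n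
  haveI := hJb
  haveI := hJ
  haveI : J.IsKInjective := CochainComplex.isKInjective_of_injective J (n - 1)
  obtain ⟨hC, hX⟩ := cokernel_facts E q hqm hq hL hJ
  haveI : (cokernel q).IsStrictlyGE (n - 1) := by
    rw [CochainComplex.isStrictlyGE_iff]
    intro i hi
    rw [IsZero.iff_id_eq_zero, ← cancel_epi ((cokernel.π q).f i)]
    exact (J.isZero_of_isStrictlyGE (n - 1) i hi).eq_of_src _ _
  exact exists_Q_map_eq_of_resolution E q hqm hq (hL (-1) 0)
    (acyc_cycles_of_bddBelow E (cokernel q) (n - 1) hC hX (-1) 0) m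

/-- finite cohomological dimension case -/
theorem exists_Q_map_eq_of_finiteDim [IsGrothendieckAbelian.{w} A] (E : A)
    (L : CochainComplex A ℤ) (d : ℕ)
    (hd : ∀ (F : A) (p : ℕ), d < p → ∀ x : Ext E F p, x = 0) (hL : ∀ k, Acyc E (L.X k))
    (m : DerivedCategory.Q.obj ((CochainComplex.singleFunctor A 0).obj E) ⟶
      DerivedCategory.Q.obj L) :
    ∃ f : (CochainComplex.singleFunctor A 0).obj E ⟶ L, DerivedCategory.Q.map f = m := by
  obtain ⟨J, q, hJ, hq, hqm, hinj⟩ :=
    Groth.Agent.Lib.Helper17.KInj.exists_kInjective_resolution.{w} A L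
  haveI := hJ
  have hqm' : Mono q := HomologicalComplex.mono_of_mono_f q hqm
  obtain ⟨hC, hX⟩ := cokernel_facts E q hqm' hq hL hinj
  exact exists_Q_map_eq_of_resolution E q hqm' hq (hL (-1) 0)
    (acyc_cycles_of_finiteDim E (cokernel q) d hd hC hX (-1) 0) m

end Core

end Groth.Agent.Lib.R2H2.DLerayA
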