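import Mathlib
import Groth.Prelude.Def_CohDer
import Groth.Agent.Lib.Helper17Compact
import Groth.Agent.Lib.Helper21DCoprod
import Groth.Agent.Lib.R2H2ModQcI
import Groth.Agent.Lib.R2H2DCompactA
import Groth.Agent.Lib.R2H2DLerayA

/-!
# Objects whose `Ext` functors commute with direct sums behave like compact objects of `D(A)`
(helper2, round 2)

`E : A` such that every `Ext^p(E, -)` commutes with direct sums.  Then maps from `E[0]` to a direct
sum in `D(A)` are finitely supported (hence the hom-sum map is bijective) if the summands are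
uniformly bounded below, or if `E` has finite cohomological dimension.
-/

set_option backward.isDefEq.respectTransparency.types false
set_option autoImplicit false
universe v u
open CategoryTheory CategoryTheory.Limits

namespace Groth.Agent.Lib.R2H2.DLerayB

open Abelian Groth.Agent.Lib.Helper17.Compact Groth.Agent.Lib.Helper21.DCoprod
open Groth.Agent.Lib.R2H2.DCompactA Groth.Agent.Lib.R2H2.DLerayA

section General

variable {D : Type u} [Category.{v} D] [Preadditive D] [HasCoproducts.{v} D]

/-- finite support for a single family gives bijectivity of the hom-sum map -/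
theorem bijective_of_supp (K : D) {ι : Type v} (X : ι → D)
    (h : ∀ φ : K ⟶ ∐ X, ∃ s : Finset ι, φ ≫ idem (coproductIsCoproduct X) s = φ) :
    Function.Bijective (CohDer.homSumToHomCoprod K X) := by
  classical
  constructor
  · rw [injective_iff_map_eq_zero]
    intro x hx
    ext i
    have := homSum_comp_π K X x i
    rw [hx, zero_comp] at this
    rw [← this]
    rfl
  · intro φ
    obtain ⟨s, hs⟩ := h φ
    have hid : idem (coproductIsCoproduct X) s = ∑ i ∈ s, Sigma.π X i ≫ Sigma.ι X i := by
      refine Cofan.IsColimit.hom_ext (coproductIsCoproduct X) _ _ (fun j => ?_)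
      change Sigma.ι X j ≫ idem (coproductIsCoproduct X) s =
        Sigma.ι X j ≫ ∑ i ∈ s, Sigma.π X i ≫ Sigma.ι X i
      rw [Preadditive.comp_sum]
      by_cases hj : j ∈ s
      · rw [inj_idem_of_mem _ s j hj, Finset.sum_eq_single_of_mem j hj]
        · rw [← Category.assoc, Sigma.ι_π_eq_id, Category.id_comp]
        · intro i _ hij
          rw [← Category.assoc, Sigma.ι_π_of_ne X (Ne.symm hij), zero_comp]
      · rw [inj_idem_of_not_mem _ s j hj, Finset.sum_eq_zero]
        intro i hi
        have hij : j ≠ i := fun e => hj (e ▸ hi)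
        rw [← Category.assoc, Sigma.ι_π_of_ne X hij, zero_comp]
    refine ⟨∑ i ∈ s, DirectSum.of (fun i => K ⟶ X i) i (φ ≫ Sigma.π X i), ?_⟩
    rw [map_sum]
    simp only [homSum_of]
    rw [← hs]
    conv_rhs => rw [hid, Preadditive.comp_sum]
    refine Finset.sum_congr rfl (fun i _ => ?_)
    rw [hs, Category.assoc]

end General

section Ext

variable {A : Type u} [Category.{v} A] [Abelian A] [HasExt.{v} A]

/-- elements of `Ext^p(E, P)` for a coproduct `P` are finite sums of elements coming from the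
summands, when `Ext^p(E, -)` commutes with coproducts -/
theorem exists_list_ext (E : A) (p : ℕ) {ι : Type v}
    [PreservesColimitsOfShape (Discrete ι) (extFunctorObj E p)]
    {Y : ι → A} {P : A} {inj : ∀ i, Y i ⟶ P} (hc : IsColimit (Cofan.mk P inj))
    (x : Ext E P p) :
    ∃ l : List (Σ i, Ext E (Y i) p),
      x = (l.map (fun q => q.2.comp (Ext.mk₀ (inj q.1)) (add_zero p))).sum := by
  have hc1 := isColimitOfPreserves (extFunctorObj E p) hc
  have hc2 := (isColimitMapCoconeCofanMkEquiv (extFunctorObj E p) Y inj) hc1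
  obtain ⟨l, hl⟩ := Groth.Agent.Lib.R2H2.ModQcI.exists_list_of_isColimit _ hc2 x
  exact ⟨l, hl⟩

/-- a coproduct of acyclic objects is acyclic -/
theorem acyc_of_cofan (E : A) {ι : Type v}
    (hE : ∀ p : ℕ, PreservesColimitsOfShape (Discrete ι) (extFunctorObj E p))
    {Y : ι → A} {P : A} {inj : ∀ i, Y i ⟶ P} (hc : IsColimit (Cofan.mk P inj))
    (hY : ∀ i, Acyc E (Y i)) : Acyc E P := by
  intro p x
  haveI := hE (p + 1)
  obtain ⟨l, rfl⟩ := exists_list_ext E (p + 1) hc x
  apply List.sum_eq_zero
  intro y hy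
  obtain ⟨q, -, rfl⟩ := List.mem_map.1 hy
  rw [hY q.1 p q.2, Ext.zero_comp]

/-- maps from `E` to a coproduct are finitely supported -/
theorem supp_of_preserves (E : A) {ι : Type v}
    [PreservesColimitsOfShape (Discrete ι) (extFunctorObj E 0)]
    {Y : ι → A} {P : A} {inj : ∀ i, Y i ⟶ P} (hc : IsColimit (Cofan.mk P inj)) (f : E ⟶ P) :
    ∃ s : Finset ι, f ≫ idem hc s = f := by
  classical
  obtain ⟨l, hl⟩ := exists_list_ext E 0 hc (Ext.mk₀ f)
  refine ⟨(l.map Sigma.fst).toFinset, ?_⟩
  apply (Ext.mk₀_bijective E P).1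
  rw [← Ext.mk₀_comp_mk₀, hl]
  have h1 : ∀ (l' : List (Ext E P 0)), (l'.sum).comp (Ext.mk₀ (idem hc (l.map Sigma.fst).toFinset))
      (add_zero 0) = (l'.map (fun y => y.comp (Ext.mk₀ (idem hc (l.map Sigma.fst).toFinset))
        (add_zero 0))).sum := by
    intro l'
    induction l' with
    | nil => simp
    | cons a t ih => rw [List.sum_cons, Ext.add_comp, ih, List.map_cons, List.sum_cons]
  rw [h1, List.map_map]
  congr 1
  apply List.map_congr_left
  intro q hq
  change (q.2.comp (Ext.mk₀ (inj q.1)) (add_zero 0)).comp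
    (Ext.mk₀ (idem hc (l.map Sigma.fst).toFinset)) (add_zero 0) = _
  rw [Ext.comp_assoc_of_third_deg_zero, Ext.mk₀_comp_mk₀, inj_idem_of_mem hc _ q.1 (by
    rw [List.mem_toFinset]
    exact List.mem_map_of_mem hq)]

end Ext

section Main

variable {A : Type u} [Category.{v} A] [Abelian A] [IsGrothendieckAbelian.{v} A] [HasExt.{v} A]
  [HasDerivedCategory.{v} A]

/-- a chain-level representative gives finite support -/
theorem supp_of_chainMap (E : A) {ι : Type v}
    [PreservesColimitsOfShape (Discrete ι) (extFunctorObj E 0)]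
    {X : ι → DerivedCategory A} {Pt : DerivedCategory A} {inj : ∀ i, X i ⟶ Pt}
    (hc : IsColimit (Cofan.mk Pt inj))
    (L : ι → CochainComplex A ℤ) (ψ : ∀ i, X i ≅ DerivedCategory.Q.obj (L i))
    (φ : DerivedCategory.Q.obj ((CochainComplex.singleFunctor A 0).obj E) ⟶ Pt)
    (f : (CochainComplex.singleFunctor A 0).obj E ⟶ sigmaK (ComplexShape.up ℤ) L)
    (hf : DerivedCategory.Q.map f = φ ≫ cmp hc ψ
      (inj' := fun j => DerivedCategory.Q.map ((cofanK (ComplexShape.up ℤ) L).inj j))) :
    ∃ s : Finset ι, φ ≫ idem hc s = φ := by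
  have hK : IsColimit (Cofan.mk (sigmaK (ComplexShape.up ℤ) L)
      (fun j => (cofanK (ComplexShape.up ℤ) L).inj j)) := isColimitCofanK (ComplexShape.up ℤ) L
  have hc' := isColimitQMapCofan (fun j => (cofanK (ComplexShape.up ℤ) L).inj j) hK
  have hX := isColimitX (fun j => (cofanK (ComplexShape.up ℤ) L).inj j) hK 0
  obtain ⟨e0, he0⟩ : ∃ e0 : ((CochainComplex.singleFunctor A 0).obj E).X 0 ≅ E,
      e0 = HomologicalComplex.singleObjXSelf (ComplexShape.up ℤ) 0 E := ⟨_, rfl⟩
  obtain ⟨s, hs⟩ := supp_of_preserves E hX (e0.inv ≫ f.f 0)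
  have key : f ≫ idem hK s = f := by
    apply HomologicalComplex.from_single_hom_ext
    rw [HomologicalComplex.comp_f]
    have h1 : (idem hK s).f 0 = idem hX s :=
      map_idem hK (HomologicalComplex.eval A (ComplexShape.up ℤ) 0) hX s
    rw [h1]
    rw [Category.assoc] at hs
    exact (cancel_epi e0.inv).1 hs
  have h2 : DerivedCategory.Q.map (idem hK s) = idem hc' s :=
    map_idem hK DerivedCategory.Q hc' s
  have h3 : DerivedCategory.Q.map f ≫ idem hc' s = DerivedCategory.Q.map f :=
    (congrArg (fun t => DerivedCategory.Q.map f ≫ t) h2).symm.trans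
      ((Functor.map_comp _ _ _).symm.trans (congrArg (fun t => DerivedCategory.Q.map t) key))
  rw [hf] at h3
  exact ⟨s, supp_transport hc hc' ψ φ s h3⟩

omit [HasExt.{v} A] [HasDerivedCategory.{v} A] in
theorem isZero_sigmaK_X {ι : Type v} (L : ι → CochainComplex A ℤ) (k : ℤ)
    (h : ∀ j, IsZero ((L j).X k)) : IsZero ((sigmaK (ComplexShape.up ℤ) L).X k) := by
  rw [IsZero.iff_id_eq_zero]
  apply hom_extK
  intro j
  exact (h j).eq_of_src _ _

open CochainComplex.Plus.modelCategoryQuillen in
/-- the uniformly bounded below case -/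
theorem bijective_of_bddBelow (E : A)
    (hE : ∀ (p : ℕ) (ι : Type v), PreservesColimitsOfShape (Discrete ι) (extFunctorObj E p))
    {I : Type v} (M : I → DerivedCategory A) [HasCoproduct M] (a : ℤ)
    (hM : ∀ i, (M i).IsGE a) :
    Function.Bijective (CohDer.homSumToHomCoprod
      ((DerivedCategory.singleFunctor A 0).obj E) M) := by
  haveI : HasCoproducts.{v} (DerivedCategory A) :=
    fun ι => hasCoproductsOfShape_derivedCategory ι
  apply bijective_of_supp
  intro φ
  have hex : ∀ i, ∃ (K : CochainComplex A ℤ), K.IsStrictlyGE (a - 1) ∧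
      (∀ k, Injective (K.X k)) ∧ Nonempty (M i ≅ DerivedCategory.Q.obj K) := by
    intro i
    haveI := hM i
    obtain ⟨K, hK, ⟨e⟩⟩ := DerivedCategory.exists_iso_Q_obj_of_isGE (M i) a
    haveI := hK
    obtain ⟨J, q, hqm, hq, hJ, hJb⟩ := exists_mono_quasiIso_injective K (a - 1) a
    haveI : IsIso (DerivedCategory.Q.map q) :=
      (DerivedCategory.isIso_Q_map_iff_quasiIso A q).2 hq
    exact ⟨J, hJb, hJ, ⟨e ≪≫ asIso (DerivedCategory.Q.map q)⟩⟩
  choose L hLb hLinj hψ using hex
  haveI := hE 0 I
  have hK : IsColimit (Cofan.mk (sigmaK (ComplexShape.up ℤ) L)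
      (fun j => (cofanK (ComplexShape.up ℤ) L).inj j)) := isColimitCofanK (ComplexShape.up ℤ) L
  haveI : CochainComplex.IsStrictlyGE (sigmaK (ComplexShape.up ℤ) L) (a - 1) := by
    rw [CochainComplex.isStrictlyGE_iff]
    intro k hk
    apply isZero_sigmaK_X
    intro j
    haveI := hLb j
    exact (L j).isZero_of_isStrictlyGE (a - 1) k hk
  have hT : ∀ k, Acyc E ((sigmaK (ComplexShape.up ℤ) L).X k) := fun k =>
    acyc_of_cofan E (fun p => hE p I)
      (isColimitX (fun j => (cofanK (ComplexShape.up ℤ) L).inj j) hK k)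
      (fun i => by haveI := hLinj i k; exact acyc_of_injective E _)
  obtain ⟨f, hf⟩ := exists_Q_map_eq_of_bddBelow E (sigmaK (ComplexShape.up ℤ) L) (a - 1) hT
    (φ ≫ cmp (coproductIsCoproduct M) (fun i => (hψ i).some)
      (inj' := fun j => DerivedCategory.Q.map ((cofanK (ComplexShape.up ℤ) L).inj j)))
  exact supp_of_chainMap E (coproductIsCoproduct M) L (fun i => (hψ i).some) φ f hf

/-- the finite cohomological dimension case -/
theorem isCompactObject_of_finiteDim [HasCoproducts.{v} (DerivedCategory A)] (E : A)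
    (hE : ∀ (p : ℕ) (ι : Type v), PreservesColimitsOfShape (Discrete ι) (extFunctorObj E p))
    (d : ℕ) (hd : ∀ (F : A) (p : ℕ), d < p → ∀ x : Ext E F p, x = 0) :
    CohDer.IsCompactObject ((DerivedCategory.singleFunctor A 0).obj E) := by
  intro I M
  apply bijective_of_supp
  intro φ
  have hex : ∀ i, ∃ (K : CochainComplex A ℤ),
      (∀ k, Injective (K.X k)) ∧ Nonempty (M i ≅ DerivedCategory.Q.obj K) := by
    intro i
    obtain ⟨J, q, hJ, hq, hqm, hinj⟩ :=
      Groth.Agent.Lib.Helper17.KInj.exists_kInjective_resolution.{v} A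
        (DerivedCategory.Q.objPreimage (M i))
    haveI : IsIso (DerivedCategory.Q.map q) :=
      (DerivedCategory.isIso_Q_map_iff_quasiIso A q).2 hq
    exact ⟨J, hinj, ⟨(DerivedCategory.Q.objObjPreimageIso (M i)).symm ≪≫
      asIso (DerivedCategory.Q.map q)⟩⟩
  choose L hLinj hψ using hex
  haveI := hE 0 I
  have hK : IsColimit (Cofan.mk (sigmaK (ComplexShape.up ℤ) L)
      (fun j => (cofanK (ComplexShape.up ℤ) L).inj j)) := isColimitCofanK (ComplexShape.up ℤ) L
  have hT : ∀ k, Acyc E ((sigmaK (ComplexShape.up ℤ) L).X k) := fun k =>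
    acyc_of_cofan E (fun p => hE p I)
      (isColimitX (fun j => (cofanK (ComplexShape.up ℤ) L).inj j) hK k)
      (fun i => by haveI := hLinj i k; exact acyc_of_injective E _)
  obtain ⟨f, hf⟩ := exists_Q_map_eq_of_finiteDim E (sigmaK (ComplexShape.up ℤ) L) d hd hT
    (φ ≫ cmp (coproductIsCoproduct M) (fun i => (hψ i).some)
      (inj' := fun j => DerivedCategory.Q.map ((cofanK (ComplexShape.up ℤ) L).inj j)))
  exact supp_of_chainMap E (coproductIsCoproduct M) L (fun i => (hψ i).some) φ f hf

end Main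

end Groth.Agent.Lib.R2H2.DLerayB
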