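/-
helper2 (round 2): complexes of finite free modules over a principal ideal domain:
`coker d` is flat iff the homology is free.
-/
import Mathlib
import Groth.Prelude.Def_ega3
import Groth.Agent.Lib.Helper3FlatCx

set_option autoImplicit false
set_option maxHeartbeats 1600000

universe u

open CategoryTheory CategoryTheory.Limits

namespace Groth.Agent.Lib.R2H2.DVRCx

variable {R : Type u} [CommRing R] [IsDomain R] [IsPrincipalIdealRing R]

/-- over a PID, for a complex of finite free modules, the cokernel of the incoming differential is
flat iff the homology is free -/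
theorem flat_opcycles_iff_free_homology (Q : ChainComplex (ModuleCat.{u} R) ℤ)
    (hQ : ∀ i, Module.Finite R (Q.X i) ∧ Module.Free R (Q.X i)) (j : ℤ) :
    Module.Flat R (Q.opcycles j) ↔ Module.Free R (Q.homology j) := by
  haveI : Module.Finite R (Q.X j) := (hQ j).1
  haveI : Module.Finite R (Q.opcycles j) := Groth.Agent.Lib.Helper3.finite_opcycles Q j
  haveI : Mono (Q.homologyι j) := inferInstance
  have hinj : Function.Injective (Q.homologyι j).hom :=
    (ModuleCat.mono_iff_injective _).1 inferInstance
  haveI : IsNoetherian R (Q.opcycles j) := isNoetherian_of_isNoetherianRing_of_finite R _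
  haveI : Module.Finite R (Q.homology j) :=
    Module.Finite.of_injective (Q.homologyι j).hom hinj
  have hex : (ShortComplex.mk (Q.homologyι j) (Q.fromOpcycles j (j - 1))
      (Q.homologyι_comp_fromOpcycles j (j - 1))).Exact :=
    ShortComplex.exact_of_f_is_kernel _ (Q.homologyIsKernel j (j - 1) (by simp))
  constructor
  · intro hfl
    haveI : Module.IsTorsionFree R (Q.opcycles j) := inferInstance
    haveI : Module.IsTorsionFree R (Q.homology j) :=
      Function.Injective.moduleIsTorsionFree (Q.homologyι j).hom hinj
        (fun r m => map_smul _ r m)
    infer_instance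
  · intro hfr
    haveI : Module.Free R (Q.X (j - 1)) := (hQ (j - 1)).2
    haveI : Module.IsTorsionFree R (Q.opcycles j) := by
      refine Module.IsTorsionFree.of_smul_eq_zero (fun r x hx => ?_)
      by_cases hr : r = 0
      · exact Or.inl hr
      · refine Or.inr ?_
        have h1 : r • (Q.fromOpcycles j (j - 1)).hom x = 0 := by
          rw [← map_smul, hx, map_zero]
        have h2 : (Q.fromOpcycles j (j - 1)).hom x = 0 :=
          (smul_eq_zero_iff_right hr).1 h1
        obtain ⟨h, hh⟩ := (ShortComplex.moduleCat_exact_iff _).1 hex x h2
        have h3 : (Q.homologyι j).hom (r • h) = 0 := by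
          rw [map_smul]
          exact (congrArg (r • ·) hh).trans hx
        have h4 : r • h = 0 := hinj (h3.trans (map_zero _).symm)
        have h5 : h = 0 := (smul_eq_zero_iff_right hr).1 h4
        rw [← hh]
        exact (congrArg _ h5).trans (map_zero _)
    infer_instance

end Groth.Agent.Lib.R2H2.DVRCx
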