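import Mathlib

/-!
# The commutative ring `R ⊕ M` attached to a symmetric pairing `μ : M × M → R` (helper2, round 2)

Namespace `Groth.Agent.Lib.R2H2.DblRing`.
* `DblData R M` : a symmetric bilinear pairing with `μ a b • c = μ b c • a` (automatic for `M` invertible).
* `Dbl D` : the type `R × M` with product `(s, l) (s', l') = (s s' + μ l l', s • l' + s' • l)`, a commutative ring.
* `Dbl.inl : R →+* Dbl D`, `Dbl.inr : M →+ Dbl D`, `Dbl.map` : functoriality for semilinear maps.
-/

set_option autoImplicit false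

namespace Groth.Agent.Lib.R2H2.DblRing

/-- a symmetric pairing on `M` with values in `R` satisfying the associativity constraint -/
structure DblData (R M : Type*) [CommRing R] [AddCommGroup M] [Module R M] where
  μ : M → M → R
  add_left : ∀ a a' b, μ (a + a') b = μ a b + μ a' b
  smul_left : ∀ (r : R) a b, μ (r • a) b = r * μ a b
  comm : ∀ a b, μ a b = μ b a
  assoc : ∀ a b c, μ a b • c = μ b c • a

section

variable {R M : Type*} [CommRing R] [AddCommGroup M] [Module R M] (D : DblData R M)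

lemma DblData.add_right (a b b' : M) : D.μ a (b + b') = D.μ a b + D.μ a b' := by
  rw [D.comm, D.add_left, D.comm b, D.comm b']

lemma DblData.smul_right (r : R) (a b : M) : D.μ a (r • b) = r * D.μ a b := by
  rw [D.comm, D.smul_left, D.comm]

lemma DblData.zero_left (b : M) : D.μ 0 b = 0 := by
  have := D.smul_left 0 0 b
  rwa [zero_smul, zero_mul] at this

lemma DblData.zero_right (a : M) : D.μ a 0 = 0 := by
  rw [D.comm, D.zero_left]

/-- the underlying type of the ring `R ⊕ M` -/
@[ext]
structure Dbl (D : DblData R M) where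
  fst : R
  snd : M

namespace Dbl

variable {D}

instance : Zero (Dbl D) := ⟨⟨0, 0⟩⟩
instance : One (Dbl D) := ⟨⟨1, 0⟩⟩
instance : Add (Dbl D) := ⟨fun x y => ⟨x.fst + y.fst, x.snd + y.snd⟩⟩
instance : Neg (Dbl D) := ⟨fun x => ⟨-x.fst, -x.snd⟩⟩
instance : Sub (Dbl D) := ⟨fun x y => ⟨x.fst - y.fst, x.snd - y.snd⟩⟩
instance : Mul (Dbl D) :=
  ⟨fun x y => ⟨x.fst * y.fst + D.μ x.snd y.snd, x.fst • y.snd + y.fst • x.snd⟩⟩
instance : SMul ℕ (Dbl D) := ⟨fun n x => ⟨n • x.fst, n • x.snd⟩⟩
instance : SMul ℤ (Dbl D) := ⟨fun n x => ⟨n • x.fst, n • x.snd⟩⟩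

@[simp] lemma zero_fst : (0 : Dbl D).fst = 0 := rfl
@[simp] lemma zero_snd : (0 : Dbl D).snd = 0 := rfl
@[simp] lemma one_fst : (1 : Dbl D).fst = 1 := rfl
@[simp] lemma one_snd : (1 : Dbl D).snd = 0 := rfl
@[simp] lemma add_fst (x y : Dbl D) : (x + y).fst = x.fst + y.fst := rfl
@[simp] lemma add_snd (x y : Dbl D) : (x + y).snd = x.snd + y.snd := rfl
@[simp] lemma neg_fst (x : Dbl D) : (-x).fst = -x.fst := rfl
@[simp] lemma neg_snd (x : Dbl D) : (-x).snd = -x.snd := rfl
@[simp] lemma sub_fst (x y : Dbl D) : (x - y).fst = x.fst - y.fst := rfl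
@[simp] lemma sub_snd (x y : Dbl D) : (x - y).snd = x.snd - y.snd := rfl
@[simp] lemma mul_fst (x y : Dbl D) : (x * y).fst = x.fst * y.fst + D.μ x.snd y.snd := rfl
@[simp] lemma mul_snd (x y : Dbl D) : (x * y).snd = x.fst • y.snd + y.fst • x.snd := rfl
@[simp] lemma nsmul_fst (n : ℕ) (x : Dbl D) : (n • x).fst = n • x.fst := rfl
@[simp] lemma nsmul_snd (n : ℕ) (x : Dbl D) : (n • x).snd = n • x.snd := rfl
@[simp] lemma zsmul_fst (n : ℤ) (x : Dbl D) : (n • x).fst = n • x.fst := rfl
@[simp] lemma zsmul_snd (n : ℤ) (x : Dbl D) : (n • x).snd = n • x.snd := rfl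

instance : AddCommGroup (Dbl D) where
  add_assoc x y z := by ext <;> simp [add_assoc]
  zero_add x := by ext <;> simp
  add_zero x := by ext <;> simp
  nsmul n x := n • x
  nsmul_zero x := by ext <;> simp
  nsmul_succ n x := by
    ext
    · change (n + 1) • x.fst = n • x.fst + x.fst
      rw [add_smul, one_smul]
    · change (n + 1) • x.snd = n • x.snd + x.snd
      rw [add_smul, one_smul]
  zsmul n x := n • x
  zsmul_zero' x := by ext <;> simp
  zsmul_succ' n x := by
    ext
    · change ((n.succ : ℕ) : ℤ) • x.fst = (n : ℤ) • x.fst + x.fst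
      rw [Nat.cast_succ, add_smul, one_smul]
    · change ((n.succ : ℕ) : ℤ) • x.snd = (n : ℤ) • x.snd + x.snd
      rw [Nat.cast_succ, add_smul, one_smul]
  zsmul_neg' n x := by
    ext
    · change (Int.negSucc n) • x.fst = -(((n.succ : ℕ) : ℤ) • x.fst)
      rw [negSucc_zsmul, natCast_zsmul]
    · change (Int.negSucc n) • x.snd = -(((n.succ : ℕ) : ℤ) • x.snd)
      rw [negSucc_zsmul, natCast_zsmul]
  neg_add_cancel x := by ext <;> simp
  add_comm x y := by ext <;> simp [add_comm]
  sub_eq_add_neg x y := by ext <;> simp [sub_eq_add_neg]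

instance : CommRing (Dbl D) where
  mul_assoc x y z := by
    ext
    · simp only [mul_fst, mul_snd, D.add_left, D.add_right, D.smul_left, D.smul_right]
      ring
    · simp only [mul_fst, mul_snd, smul_add, add_smul, mul_smul]
      rw [D.assoc x.snd y.snd z.snd]
      rw [smul_comm z.fst x.fst y.snd, smul_comm z.fst y.fst x.snd]
      abel
  one_mul x := by ext <;> simp [D.zero_left]
  mul_one x := by ext <;> simp [D.zero_right]
  left_distrib x y z := by
    ext
    · simp only [mul_fst, add_fst, add_snd, D.add_right]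
      ring
    · simp only [mul_snd, add_fst, add_snd, smul_add, add_smul]
      abel
  right_distrib x y z := by
    ext
    · simp only [mul_fst, add_fst, add_snd, D.add_left]
      ring
    · simp only [mul_snd, add_fst, add_snd, smul_add, add_smul]
      abel
  zero_mul x := by ext <;> simp [D.zero_left]
  mul_zero x := by ext <;> simp [D.zero_right]
  mul_comm x y := by
    ext
    · simp only [mul_fst]
      rw [mul_comm, D.comm]
    · simp only [mul_snd]
      rw [add_comm]

/-- the inclusion of `R` -/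
def inl : R →+* Dbl D where
  toFun r := ⟨r, 0⟩
  map_one' := rfl
  map_mul' r r' := by ext <;> simp [D.zero_left]
  map_zero' := rfl
  map_add' r r' := by ext <;> simp

/-- the inclusion of `M` -/
def inr : M →+ Dbl D where
  toFun l := ⟨0, l⟩
  map_zero' := rfl
  map_add' l l' := by ext <;> simp

@[simp] lemma inl_fst (r : R) : (inl r : Dbl D).fst = r := rfl
@[simp] lemma inl_snd (r : R) : (inl r : Dbl D).snd = 0 := rfl
@[simp] lemma inr_fst (l : M) : (inr l : Dbl D).fst = 0 := rfl
@[simp] lemma inr_snd (l : M) : (inr l : Dbl D).snd = l := rfl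

lemma inl_mul (r : R) (x : Dbl D) : inl r * x = ⟨r * x.fst, r • x.snd⟩ := by
  ext <;> simp [D.zero_left]

lemma inr_mul_inr (l l' : M) : (inr l * inr l' : Dbl D) = inl (D.μ l l') := by
  ext <;> simp

lemma inl_add_inr (x : Dbl D) : inl x.fst + inr x.snd = x := by
  ext <;> simp

end Dbl

end

section Map

variable {R M R' M' : Type*} [CommRing R] [AddCommGroup M] [Module R M]
  [CommRing R'] [AddCommGroup M'] [Module R' M'] {D : DblData R M} {D' : DblData R' M'}

/-- functoriality of `Dbl` for semilinear maps compatible with the pairings -/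
def Dbl.map (ρ : R →+* R') (f : M →+ M') (hsemi : ∀ r m, f (r • m) = ρ r • f m)
    (hμ : ∀ a b, ρ (D.μ a b) = D'.μ (f a) (f b)) : Dbl D →+* Dbl D' where
  toFun x := ⟨ρ x.fst, f x.snd⟩
  map_one' := by ext <;> simp
  map_mul' x y := by
    ext
    · simp [hμ]
    · simp [hsemi]
  map_zero' := by ext <;> simp
  map_add' x y := by ext <;> simp

@[simp] lemma Dbl.map_fst (ρ : R →+* R') (f : M →+ M') (hsemi : ∀ r m, f (r • m) = ρ r • f m)
    (hμ : ∀ a b, ρ (D.μ a b) = D'.μ (f a) (f b)) (x : Dbl D) :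
    (Dbl.map ρ f hsemi hμ x).fst = ρ x.fst := rfl

@[simp] lemma Dbl.map_snd (ρ : R →+* R') (f : M →+ M') (hsemi : ∀ r m, f (r • m) = ρ r • f m)
    (hμ : ∀ a b, ρ (D.μ a b) = D'.μ (f a) (f b)) (x : Dbl D) :
    (Dbl.map ρ f hsemi hμ x).snd = f x.snd := rfl

end Map

end Groth.Agent.Lib.R2H2.DblRing
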