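import Groth.Prelude.Def_KoszTw
import Groth.Prelude.Def_RefPow
import Groth.Agent.Lib.Helper23SecTw6
import Groth.Agent.Lib.Helper13ModBasis
import Groth.Agent.Lib.R2H2KoszMap

/-!
# Twisted Koszul complexes: local computations (helper2, round 2)

Namespace `Groth.Agent.Lib.R2H2.KoszTwA`.
* `imageSubobject_le_of_basis` : comparison of image subobjects from sections over a basis.
* `GenOpen L` : affine opens with a generator of `L`; `isBasis_gen`.
* `tmR`, `tprod_const` : tensoring with a fixed section as a linear map; `tprod` of a constant family is `pw`.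
* `key` : the local identity behind S16094.
-/

set_option backward.isDefEq.respectTransparency.types false
set_option autoImplicit false
set_option linter.unusedSectionVars false
universe u

namespace Groth.Agent.Lib.R2H2.KoszTwA

open CategoryTheory CategoryTheory.Limits AlgebraicGeometry Opposite TopologicalSpace exteriorPower
open Groth.Agent.Lib.Helper23.SecTw Groth.Agent.Lib.Helper6 Groth.Agent.Lib.Helper23.GenLocus
open Groth.Agent.Lib.R2H2.KoszMap

variable {X : Scheme.{u}}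

/-- comparison of image subobjects from sections over a basis -/
theorem imageSubobject_le_of_basis {ι : Type*} (B : ι → X.Opens) (hB : Opens.IsBasis (Set.range B))
    {A A' M : X.Modules} (a : A ⟶ M) (b : A' ⟶ M)
    (h : ∀ (i : ι) (x : Γ(A, B i)), ∃ y : Γ(A', B i), b.app (B i) y = a.app (B i) x) :
    imageSubobject a ≤ imageSubobject b := by
  have w : a ≫ cokernel.π b = 0 := by
    refine Groth.Agent.Helper13ModBasis.hom_ext_basis B hB _ _ fun i => ?_
    ext x
    obtain ⟨y, hy⟩ := h i x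
    change (cokernel.π b).app (B i) (a.app (B i) x) = 0
    rw [← hy]
    change (b ≫ cokernel.π b).app (B i) y = 0
    rw [cokernel.condition]
    rfl
  have e : imageSubobject b = kernelSubobject (cokernel.π b) :=
    (ShortComplex.exact_iff_image_eq_kernel
      (ShortComplex.mk b (cokernel.π b) (cokernel.condition b))).1 (ShortComplex.exact_cokernel b)
  rw [e]
  exact image_le_kernel a _ w

/-- affine opens with a generator of `L` -/
def GenOpen (L : X.Modules) : Type u := {U : X.affineOpens // ∃ g : Γ(L, U.1), IsGen L U.1 g}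

/-- the underlying open -/
def GenOpen.op {L : X.Modules} (U : GenOpen L) : X.Opens := U.1.1

/-- a chosen generator -/
noncomputable def GenOpen.gen {L : X.Modules} (U : GenOpen L) : Γ(L, U.op) := U.2.choose

lemma GenOpen.isGen {L : X.Modules} (U : GenOpen L) : IsGen L U.op U.gen := U.2.choose_spec

/-- the affine opens with a generator of an invertible module form a basis -/
theorem isBasis_gen (L : X.Modules) (hL : PicF.IsInvertible L) :
    Opens.IsBasis (Set.range fun U : GenOpen L => U.op) := by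
  rw [Opens.isBasis_iff_nbhd]
  intro O x hx
  obtain ⟨W, e, hxW, hgen⟩ := exists_gen L hL x
  obtain ⟨_, ⟨V, rfl⟩, hxV, hVW⟩ :=
    (Opens.isBasis_iff_nbhd.1 (isBasis_aff (X := X))) (show x ∈ W ⊓ O from ⟨hxW, hx⟩)
  exact ⟨V.1, ⟨⟨V, res L (hVW.trans inf_le_left) e, hgen.mono _⟩, rfl⟩, hxV, hVW.trans inf_le_right⟩

section Lin

/-- tensoring with a fixed section, as a linear map -/
noncomputable def tmR (M N : X.Modules) (U : X.Opens) (n : Γ(N, U)) :
    Γ(M, U) →ₗ[Γ(X, U)] Γ(CohB1.tensorMod M N, U) where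
  toFun m := tm M N U m n
  map_add' m m' := tm_add_left M N U m m' n
  map_smul' r m := tm_smul_left M N U r m n

@[simp] lemma tmR_apply (M N : X.Modules) (U : X.Opens) (n : Γ(N, U)) (m : Γ(M, U)) :
    tmR M N U n m = tm M N U m n := rfl

theorem tensorMap_tm' {M M' N N' : X.Modules} (f : M ⟶ M') (g : N ⟶ N') (U : X.Opens)
    (m : Γ(M, U)) (n : Γ(N, U)) :
    (KoszTw.tensorMap f g).app U (tm M N U m n) = tm M' N' U (f.app U m) (g.app U n) :=
  KoszTw.tensorMap_tmul f g U m n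

/-- `tprod` of a constant family is the local power -/
theorem tprod_const (L : X.Modules) (q : ℕ) (U : X.Opens) (g : Γ(L, U)) :
    KoszTw.tprod L q U (fun _ => g) = pw L U g q := by
  induction q with
  | zero => rfl
  | succ q ih =>
    change SecTwist.tmul _ _ U (KoszTw.tprod L q U (fun _ => g)) g = tm _ _ U (pw L U g q) g
    rw [ih]
    rfl

/-- a linear map applied to the Koszul boundary of a decomposable element -/
theorem lin_dGen {R M N : Type*} [CommRing R] [AddCommGroup M] [Module R M] [AddCommGroup N] [Module R N]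
    (φ : M →ₗ[R] R) (p : ℕ) (e : Fin (p + 1) → M) (T : ↥(⋀[R]^p M) →ₗ[R] N) :
    T (KoszSh.dGen φ p e) =
      ∑ i : Fin (p + 1), ((-1 : R) ^ (i : ℕ) * φ (e i)) • T (ιMulti R p (fun j => e (i.succAbove j))) := by
  unfold KoszSh.dGen
  rw [map_sum]
  refine Finset.sum_congr rfl fun i _ => ?_
  rw [map_smul]

end Lin

section Key

variable {F L : X.Modules} {s : F ⟶ Coh.structureModule X} {lam : Coh.structureModule X ⟶ L}
  {t : CohB1.tensorMod F L ⟶ Coh.structureModule X}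

/-- the twist triangle on a generator -/
theorem triangle_smul (htri : KoszTw.TwistTriangle s lam t) (U : X.Opens) (f : Γ(F, U)) (g : Γ(L, U)) :
    (KoszSh.secForm t U (tm F L U f g)) • lam.app U (toS U 1) = (KoszSh.secForm s U f) • g := by
  rw [← htri U f g, ← Scheme.Modules.Hom.app_smul]
  congr 1
  rw [smul_toS, mul_one]
  rfl

variable (C : KoszSh.Cx F s) (D : KoszSh.Cx (CohB1.tensorMod F L) t) (q : ℕ)

/-- the first map of S16094 -/
noncomputable def aMap : CohB1.tensorMod (CohB1.tensorMod (C.K.X (q + 1)) (CohB1.tensorPow L q)) L ⟶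
    CohB1.tensorMod (CohB1.tensorMod (C.K.X q) (CohB1.tensorPow L q)) L :=
  KoszTw.tensorMap (KoszTw.tensorMap (C.K.d (q + 1) q) (𝟙 (CohB1.tensorPow L q))) (𝟙 L)

/-- the second map of S16094 -/
noncomputable def bMap (lam : Coh.structureModule X ⟶ L) (θ : KoszTw.CxDecData C D q) :
    D.K.X (q + 1) ⟶ CohB1.tensorMod (CohB1.tensorMod (C.K.X q) (CohB1.tensorPow L q)) L :=
  (SecTwist.unitorR (D.K.X (q + 1))).inv ≫ KoszTw.tensorMap (D.K.d (q + 1) q) lam ≫
    KoszTw.tensorMap θ.iso.hom (𝟙 L)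

/-- the linear map computing `aMap` on decomposables -/
noncomputable def Ta (U : X.affineOpens) (g : Γ(L, U.1)) :
    ↥(⋀[Γ(X, U.1)]^q Γ(F, U.1)) →ₗ[Γ(X, U.1)]
      Γ(CohB1.tensorMod (CohB1.tensorMod (C.K.X q) (CohB1.tensorPow L q)) L, U.1) :=
  tmR _ L U.1 g ∘ₗ tmR (C.K.X q) (CohB1.tensorPow L q) U.1 (pw L U.1 g q) ∘ₗ (C.loc q U).symm.toLinearMap

/-- the linear map computing `bMap` on decomposables -/
noncomputable def Tb (lam : Coh.structureModule X ⟶ L) (θ : KoszTw.CxDecData C D q) (U : X.affineOpens) :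
    ↥(⋀[Γ(X, U.1)]^q Γ(CohB1.tensorMod F L, U.1)) →ₗ[Γ(X, U.1)]
      Γ(CohB1.tensorMod (CohB1.tensorMod (C.K.X q) (CohB1.tensorPow L q)) L, U.1) :=
  tmR _ L U.1 (lam.app U.1 (toS U.1 1)) ∘ₗ fLin θ.iso.hom U.1 ∘ₗ (D.loc q U).symm.toLinearMap

theorem aMap_gen (U : X.affineOpens) (g : Γ(L, U.1)) (f : Fin (q + 1) → Γ(F, U.1)) :
    (aMap C q).app U.1 (tm _ L U.1 (tm (C.K.X (q + 1)) (CohB1.tensorPow L q) U.1
      ((C.loc (q + 1) U).symm (ιMulti _ (q + 1) f)) (pw L U.1 g q)) g) =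
      Ta C q U g (KoszSh.dGen (KoszSh.secForm s U.1) q f) := by
  unfold aMap
  rw [tensorMap_tm', tensorMap_tm', C.rule]
  rfl

theorem bMap_gen (θ : KoszTw.CxDecData C D q) (U : X.affineOpens) (w : Fin (q + 1) → Γ(CohB1.tensorMod F L, U.1)) :
    (bMap C D q lam θ).app U.1 ((D.loc (q + 1) U).symm (ιMulti _ (q + 1) w)) =
      Tb C D q lam θ U (KoszSh.dGen (KoszSh.secForm t U.1) q w) := by
  unfold bMap
  change (KoszTw.tensorMap θ.iso.hom (𝟙 L)).app U.1 ((KoszTw.tensorMap (D.K.d (q + 1) q) lam).app U.1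
    ((SecTwist.unitorR (D.K.X (q + 1))).inv.app U.1 _)) = _
  rw [RefPow.unitorR_inv_app, KoszTw.tensorMap_tmul, KoszTw.tensorMap_tmul, D.rule]
  rfl

theorem Tb_eq_Ta (htri : KoszTw.TwistTriangle s lam t) (θ : KoszTw.CxDecData C D q) (U : X.affineOpens)
    (g : Γ(L, U.1)) (f : Fin (q + 1) → Γ(F, U.1)) :
    Tb C D q lam θ U (KoszSh.dGen (KoszSh.secForm t U.1) q (fun i => tm F L U.1 (f i) g)) =
      Ta C q U g (KoszSh.dGen (KoszSh.secForm s U.1) q f) := by
  rw [lin_dGen, lin_dGen]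
  refine Finset.sum_congr rfl fun i _ => ?_
  have h1 : Tb C D q lam θ U (ιMulti _ q (fun j => tm F L U.1 (f (i.succAbove j)) g)) =
      tm _ L U.1 (tm (C.K.X q) (CohB1.tensorPow L q) U.1
        ((C.loc q U).symm (ιMulti _ q (fun j => f (i.succAbove j)))) (pw L U.1 g q))
        (lam.app U.1 (toS U.1 1)) := by
    have h2 := θ.rule U (fun j => f (i.succAbove j)) (fun _ => g)
    rw [tprod_const] at h2
    change tm _ L U.1 (θ.iso.hom.app U.1 ((D.loc q U).symm _)) _ = _
    exact congrArg (fun z => tm _ L U.1 z (lam.app U.1 (toS U.1 1))) h2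
  have h3 : Ta C q U g (ιMulti _ q (fun j => f (i.succAbove j))) =
      tm _ L U.1 (tm (C.K.X q) (CohB1.tensorPow L q) U.1
        ((C.loc q U).symm (ιMulti _ q (fun j => f (i.succAbove j)))) (pw L U.1 g q)) g := rfl
  rw [h1, h3, mul_smul, mul_smul, ← tm_smul_right, ← tm_smul_right _ _ _ _ _ g, triangle_smul htri]

theorem key (htri : KoszTw.TwistTriangle s lam t) (θ : KoszTw.CxDecData C D q) (U : X.affineOpens)
    (g : Γ(L, U.1)) (f : Fin (q + 1) → Γ(F, U.1)) :
    (bMap C D q lam θ).app U.1 ((D.loc (q + 1) U).symm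
      (ιMulti _ (q + 1) (fun i => tm F L U.1 (f i) g))) =
    (aMap C q).app U.1 (tm _ L U.1 (tm (C.K.X (q + 1)) (CohB1.tensorPow L q) U.1
      ((C.loc (q + 1) U).symm (ιMulti _ (q + 1) f)) (pw L U.1 g q)) g) := by
  rw [aMap_gen, bMap_gen, Tb_eq_Ta C D q htri]

/-- every section of `(K_{q+1} ⊗ L^q) ⊗ L` over an open with a generator is `(c ⊗ g^q) ⊗ g` -/
theorem exists_tm_tm (M : X.Modules) (U : X.Opens) (g : Γ(L, U)) (hg : IsGen L U g) (n : ℕ)
    (z : Γ(CohB1.tensorMod (CohB1.tensorMod M (CohB1.tensorPow L n)) L, U)) :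
    ∃ c : Γ(M, U), z = tm _ L U (tm M (CohB1.tensorPow L n) U c (pw L U g n)) g := by
  obtain ⟨z', hz'⟩ := (bijective_tm_of_isGen (CohB1.tensorMod M (CohB1.tensorPow L n)) L U g hg U le_rfl).2 z
  obtain ⟨c, hc⟩ := (bijective_tm_of_isGen M (CohB1.tensorPow L n) U (pw L U g n) (isGen_pw L U g hg n)
    U le_rfl).2 z'
  refine ⟨c, ?_⟩
  rw [← hz', ← hc]
  change tm _ L U (tm M _ U c (res _ le_rfl (pw L U g n))) (res L le_rfl g) = _
  rw [res_self, res_self]

theorem exists_tm (U : X.Opens) (g : Γ(L, U)) (hg : IsGen L U g) (w : Γ(CohB1.tensorMod F L, U)) :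
    ∃ f : Γ(F, U), w = tm F L U f g := by
  obtain ⟨f, hf⟩ := (bijective_tm_of_isGen F L U g hg U le_rfl).2 w
  refine ⟨f, ?_⟩
  rw [← hf]
  change tm F L U f (res L le_rfl g) = _
  rw [res_self]

theorem le₁ (htri : KoszTw.TwistTriangle s lam t) (θ : KoszTw.CxDecData C D q) (U : X.affineOpens)
    (g : Γ(L, U.1)) (hg : IsGen L U.1 g)
    (z : Γ(CohB1.tensorMod (CohB1.tensorMod (C.K.X (q + 1)) (CohB1.tensorPow L q)) L, U.1)) :
    ∃ y : Γ(D.K.X (q + 1), U.1), (bMap C D q lam θ).app U.1 y = (aMap C q).app U.1 z := by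
  obtain ⟨c, rfl⟩ := exists_tm_tm (C.K.X (q + 1)) U.1 g hg q z
  obtain ⟨ω, rfl⟩ := (C.loc (q + 1) U).symm.surjective c
  let A' : ↥(⋀[Γ(X, U.1)]^(q + 1) Γ(F, U.1)) →ₗ[Γ(X, U.1)]
      Γ(CohB1.tensorMod (CohB1.tensorMod (C.K.X q) (CohB1.tensorPow L q)) L, U.1) :=
    fLin (aMap C q) U.1 ∘ₗ tmR _ L U.1 g ∘ₗ
      tmR (C.K.X (q + 1)) (CohB1.tensorPow L q) U.1 (pw L U.1 g q) ∘ₗ (C.loc (q + 1) U).symm.toLinearMap
  have hle : (⊤ : Submodule Γ(X, U.1) ↥(⋀[Γ(X, U.1)]^(q + 1) Γ(F, U.1))) ≤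
      (LinearMap.range (fLin (bMap C D q lam θ) U.1)).comap A' := by
    rw [← exteriorPower.ιMulti_span]
    refine Submodule.span_le.2 ?_
    rintro _ ⟨f, rfl⟩
    exact ⟨_, key C D q htri θ U g f⟩
  obtain ⟨y, hy⟩ := hle (Submodule.mem_top (x := ω))
  exact ⟨y, hy⟩

theorem le₂ (htri : KoszTw.TwistTriangle s lam t) (θ : KoszTw.CxDecData C D q) (U : X.affineOpens)
    (g : Γ(L, U.1)) (hg : IsGen L U.1 g) (y : Γ(D.K.X (q + 1), U.1)) :
    ∃ z : Γ(CohB1.tensorMod (CohB1.tensorMod (C.K.X (q + 1)) (CohB1.tensorPow L q)) L, U.1),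
      (aMap C q).app U.1 z = (bMap C D q lam θ).app U.1 y := by
  obtain ⟨ω, rfl⟩ := (D.loc (q + 1) U).symm.surjective y
  let B' : ↥(⋀[Γ(X, U.1)]^(q + 1) Γ(CohB1.tensorMod F L, U.1)) →ₗ[Γ(X, U.1)]
      Γ(CohB1.tensorMod (CohB1.tensorMod (C.K.X q) (CohB1.tensorPow L q)) L, U.1) :=
    fLin (bMap C D q lam θ) U.1 ∘ₗ (D.loc (q + 1) U).symm.toLinearMap
  have hle : (⊤ : Submodule Γ(X, U.1) ↥(⋀[Γ(X, U.1)]^(q + 1) Γ(CohB1.tensorMod F L, U.1))) ≤
      (LinearMap.range (fLin (aMap C q) U.1)).comap B' := by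
    rw [← exteriorPower.ιMulti_span]
    refine Submodule.span_le.2 ?_
    rintro _ ⟨w, rfl⟩
    choose f hf using fun i => exists_tm (F := F) U.1 g hg (w i)
    have hw : w = fun i => tm F L U.1 (f i) g := funext hf
    rw [hw]
    exact ⟨_, (key C D q htri θ U g f).symm⟩
  obtain ⟨z, hz⟩ := hle (Submodule.mem_top (x := ω))
  exact ⟨z, hz⟩

/-- **S16094** -/
theorem image_eq (hL : PicF.IsInvertible L) (htri : KoszTw.TwistTriangle s lam t)
    (θ : KoszTw.CxDecData C D q) :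
    imageSubobject (aMap C q) = imageSubobject (bMap C D q lam θ) := by
  refine le_antisymm ?_ ?_
  · exact imageSubobject_le_of_basis (fun U : GenOpen L => U.op) (isBasis_gen L hL) _ _
      fun U z => le₁ C D q htri θ U.1 U.gen U.isGen z
  · exact imageSubobject_le_of_basis (fun U : GenOpen L => U.op) (isBasis_gen L hL) _ _
      fun U y => le₂ C D q htri θ U.1 U.gen U.isGen y

end Key

end Groth.Agent.Lib.R2H2.KoszTwA
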