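import Groth.Prelude.Def_FinCov
import Groth.Agent.Lib.R2H2DblRing
import Groth.Agent.Lib.R2H2KoszTwA
import Groth.Agent.Lib.Helper2QCoh
import Groth.Agent.Lib.Helper23SecTw3

/-!
# The double-cover algebra `O_X ⊕ L` of an invertible module with a pairing (helper2, round 2)

Namespace `Groth.Agent.Lib.R2H2.DblAlg`.
* `mu L m U` : the pairing on sections; `mu_comm`, `mu_assoc` for `L` invertible.
* `pre L hL m` : the presheaf of commutative rings `U ↦ Γ(X, U) ⊕ Γ(L, U)`; `isSheaf_pre`.
* `alg L hL m : RelSpec.QCAlg X`, `jHom`, `isDblAlg` (S19697).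
-/

set_option backward.isDefEq.respectTransparency.types false
set_option autoImplicit false
set_option linter.unusedSectionVars false
universe u

namespace Groth.Agent.Lib.R2H2.DblAlg

open CategoryTheory CategoryTheory.Limits AlgebraicGeometry Opposite TopologicalSpace
open Groth.Agent.Lib.Helper23.SecTw Groth.Agent.Lib.Helper6 Groth.Agent.Lib.Helper23.GenLocus
open Groth.Agent.Lib.R2H2.KoszMap Groth.Agent.Lib.R2H2.KoszTwA Groth.Agent.Lib.R2H2.DblRing

variable {X : Scheme.{u}} (L : X.Modules) (m : CohB1.tensorMod L L ⟶ Coh.structureModule X)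

/-- the pairing on sections -/
noncomputable def mu (U : X.Opens) (l l' : Γ(L, U)) : Γ(X, U) := ofS U (m.app U (tm L L U l l'))

lemma mu_add_left (U : X.Opens) (a a' b : Γ(L, U)) :
    mu L m U (a + a') b = mu L m U a b + mu L m U a' b := by
  unfold mu
  rw [tm_add_left, map_add]
  rfl

lemma mu_smul_left (U : X.Opens) (r : Γ(X, U)) (a b : Γ(L, U)) :
    mu L m U (r • a) b = r * mu L m U a b := by
  unfold mu
  rw [tm_smul_left, Scheme.Modules.Hom.app_smul]
  rfl

lemma mu_smul_right (U : X.Opens) (r : Γ(X, U)) (a b : Γ(L, U)) :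
    mu L m U a (r • b) = r * mu L m U a b := by
  unfold mu
  rw [tm_smul_right, Scheme.Modules.Hom.app_smul]
  rfl

lemma mu_res {U V : X.Opens} (i : V ⟶ U) (a b : Γ(L, U)) :
    X.presheaf.map i.op (mu L m U a b) =
      mu L m V (L.presheaf.map i.op a) (L.presheaf.map i.op b) := by
  unfold mu
  have h1 := Groth.Agent.Lib.Helper23.Extend.app_map m i (tm L L U a b)
  have h2 : (CohB1.tensorMod L L).presheaf.map i.op (tm L L U a b) =
      tm L L V (L.presheaf.map i.op a) (L.presheaf.map i.op b) := SecTwist.map_tmul L L i a b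
  rw [h2] at h1
  rw [h1]
  rfl

/-- every section is a multiple of a generator -/
lemma exists_smul_eq {U : X.Opens} {g : Γ(L, U)} (hg : IsGen L U g) (t : Γ(L, U)) :
    ∃ α : Γ(X, U), t = α • g := by
  obtain ⟨α, hα⟩ := (hg U le_rfl).2 t
  refine ⟨α, ?_⟩
  have h1 : res L (le_refl U) g = g := res_self L g
  rw [← hα]
  change α • res L (le_refl U) g = α • g
  rw [h1]

variable (hL : PicF.IsInvertible L)

include hL in
lemma mu_comm (U : X.Opens) (a b : Γ(L, U)) : mu L m U a b = mu L m U b a := by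
  have h : toS U (mu L m U a b) = toS U (mu L m U b a) := by
    refine Groth.Agent.Helper13ModBasis.section_ext_basis (fun V : GenOpen L => V.op) (isBasis_gen L hL)
      (Coh.structureModule X) _ _ fun V hle => ?_
    change toS V.op (X.presheaf.map (homOfLE hle).op (mu L m U a b)) =
      toS V.op (X.presheaf.map (homOfLE hle).op (mu L m U b a))
    rw [mu_res, mu_res]
    obtain ⟨α, hα⟩ := exists_smul_eq L V.isGen (L.presheaf.map (homOfLE hle).op a)
    obtain ⟨β, hβ⟩ := exists_smul_eq L V.isGen (L.presheaf.map (homOfLE hle).op b)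
    rw [hα, hβ, mu_smul_left, mu_smul_right, mu_smul_left, mu_smul_right]
    congr 1
    ring
  exact h

include hL in
lemma mu_assoc (U : X.Opens) (a b c : Γ(L, U)) : mu L m U a b • c = mu L m U b c • a := by
  refine Groth.Agent.Helper13ModBasis.section_ext_basis (fun V : GenOpen L => V.op) (isBasis_gen L hL)
    L _ _ fun V hle => ?_
  rw [Scheme.Modules.map_smul, Scheme.Modules.map_smul, mu_res, mu_res]
  obtain ⟨α, hα⟩ := exists_smul_eq L V.isGen (L.presheaf.map (homOfLE hle).op a)
  obtain ⟨β, hβ⟩ := exists_smul_eq L V.isGen (L.presheaf.map (homOfLE hle).op b)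
  obtain ⟨γ, hγ⟩ := exists_smul_eq L V.isGen (L.presheaf.map (homOfLE hle).op c)
  rw [hα, hβ, hγ, mu_smul_left, mu_smul_right, mu_smul_left, mu_smul_right, smul_smul, smul_smul]
  congr 1
  ring

/-- the pairing data over an open -/
noncomputable def data (U : X.Opens) : DblData Γ(X, U) Γ(L, U) where
  μ := mu L m U
  add_left := mu_add_left L m U
  smul_left := mu_smul_left L m U
  comm := mu_comm L m hL U
  assoc := mu_assoc L m hL U

/-- the restriction maps -/
noncomputable def resHom {U V : X.Opens} (i : V ⟶ U) : Dbl (data L m hL U) →+* Dbl (data L m hL V) :=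
  Dbl.map (X.presheaf.map i.op).hom (L.presheaf.map i.op).hom
    (fun r x => Scheme.Modules.map_smul L i r x) (fun a b => mu_res L m i a b)

/-- the presheaf of rings `U ↦ Γ(X, U) ⊕ Γ(L, U)` -/
noncomputable def pre : TopCat.Presheaf CommRingCat.{u} X.carrier where
  obj U := CommRingCat.of (Dbl (data L m hL U.unop))
  map {U V} i := CommRingCat.ofHom (resHom L m hL i.unop)
  map_id U := by
    ext x
    · change X.presheaf.map (𝟙 U) x.fst = x.fst
      rw [X.presheaf.map_id]
      rfl
    · change L.presheaf.map (𝟙 U) x.snd = x.snd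
      rw [L.presheaf.map_id]
      rfl
  map_comp {U V W} i j := by
    ext x
    · change X.presheaf.map (i ≫ j) x.fst = X.presheaf.map j (X.presheaf.map i x.fst)
      rw [X.presheaf.map_comp]
      rfl
    · change L.presheaf.map (i ≫ j) x.snd = L.presheaf.map j (L.presheaf.map i x.snd)
      rw [L.presheaf.map_comp]
      rfl

lemma pre_map_fst {U V : (Opens X)ᵒᵖ} (i : U ⟶ V) (x : (pre L m hL).obj U) :
    (show Dbl (data L m hL V.unop) from (pre L m hL).map i x).fst =
      X.presheaf.map i (show Dbl (data L m hL U.unop) from x).fst := rfl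

lemma pre_map_snd {U V : (Opens X)ᵒᵖ} (i : U ⟶ V) (x : (pre L m hL).obj U) :
    (show Dbl (data L m hL V.unop) from (pre L m hL).map i x).snd =
      L.presheaf.map i (show Dbl (data L m hL U.unop) from x).snd := rfl

/-- the presheaf of rings is a sheaf -/
theorem isSheaf_pre : (pre L m hL).IsSheaf := by
  rw [TopCat.Presheaf.isSheaf_iff_isSheafUniqueGluing]
  intro ι U sf hsf
  -- the two components
  have h1 : TopCat.Presheaf.IsCompatible X.presheaf U
      (fun i => (show Dbl (data L m hL (U i)) from sf i).fst) := by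
    intro i j
    exact congrArg (fun z : Dbl (data L m hL (U i ⊓ U j)) => z.fst) (hsf i j)
  have h2 : TopCat.Presheaf.IsCompatible L.presheaf U
      (fun i => (show Dbl (data L m hL (U i)) from sf i).snd) := by
    intro i j
    exact congrArg (fun z : Dbl (data L m hL (U i ⊓ U j)) => z.snd) (hsf i j)
  obtain ⟨a, ha, ha'⟩ := X.sheaf.existsUnique_gluing U _ h1
  obtain ⟨l, hl, hl'⟩ :=
    TopCat.Sheaf.existsUnique_gluing (⟨L.presheaf, L.isSheaf⟩ : TopCat.Sheaf Ab X) U _ h2
  refine ⟨(⟨a, l⟩ : Dbl (data L m hL (iSup U))), ?_, ?_⟩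
  · intro i
    exact Dbl.ext (ha i) (hl i)
  · intro y hy
    have e1 : (show Dbl (data L m hL (iSup U)) from y).fst = a :=
      ha' _ fun i => congrArg (fun z : Dbl (data L m hL (U i)) => z.fst) (hy i)
    have e2 : (show Dbl (data L m hL (iSup U)) from y).snd = l :=
      hl' _ fun i => congrArg (fun z : Dbl (data L m hL (U i)) => z.snd) (hy i)
    exact Dbl.ext e1 e2

/-- the structure map -/
noncomputable def str : X.presheaf ⟶ pre L m hL where
  app U := CommRingCat.ofHom (Dbl.inl (D := data L m hL U.unop))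
  naturality {U V} i := by
    ext r
    refine Dbl.ext ?_ ?_
    · rfl
    · change (0 : Γ(L, V.unop)) = L.presheaf.map i (0 : Γ(L, U.unop))
      rw [map_zero]

/-- Abstract algebra form of "localizing on `D(r)`" (same statement as helper10's `away_of_elementwise`). -/
theorem away_of_elementwise {R A A' R' : Type*} [CommRing R] [CommRing A] [CommRing A'] [CommRing R']
    (fU : R →+* A) (fD : R' →+* A') (ρB : A →+* A') (ρS : R →+* R')
    (hnat : ∀ a, ρB (fU a) = fD (ρS a)) (r : R) (hunit : IsUnit (ρS r))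
    (hex : ∀ z : A', ∃ (n : ℕ) (t : A), ρB t = (fD (ρS r)) ^ n * z)
    (huniq : ∀ t : A, ρB t = 0 → ∃ n : ℕ, fU (r ^ n) * t = 0) :
    letI := ρB.toAlgebra
    IsLocalization.Away (fU r) A' := by
  letI := ρB.toAlgebra
  have halg : ∀ b : A, algebraMap A A' b = ρB b := fun b => rfl
  rw [IsLocalization.Away, isLocalization_iff]
  refine ⟨?_, ?_, ?_⟩
  · rintro ⟨_, n, rfl⟩
    rw [map_pow, halg, hnat]
    exact (hunit.map fD).pow n
  · intro z
    obtain ⟨n, t, ht⟩ := hex z
    refine ⟨⟨t, ⟨_, n, rfl⟩⟩, ?_⟩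
    show z * algebraMap A A' (fU r ^ n) = algebraMap A A' t
    rw [halg, halg, ht, map_pow, hnat, mul_comm]
  · intro a b hab
    rw [halg, halg] at hab
    have h0 : ρB (a - b) = 0 := by rw [map_sub, hab, sub_self]
    obtain ⟨n, hn⟩ := huniq (a - b) h0
    refine ⟨⟨_, n, rfl⟩, ?_⟩
    show fU r ^ n * a = fU r ^ n * b
    rw [map_pow, mul_sub, sub_eq_zero] at hn
    exact hn

/-- sections of the structure sheaf over `D(r)`: extension after multiplying by a power -/
lemma exists_extension_O {U : X.Opens} (hU : IsAffineOpen U) (r : Γ(X, U)) (z : Γ(X, X.basicOpen r)) :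
    ∃ (n : ℕ) (a : Γ(X, U)), X.presheaf.map (homOfLE (X.basicOpen_le r)).op a =
      (X.presheaf.map (homOfLE (X.basicOpen_le r)).op r) ^ n * z := by
  haveI := hU.isLocalization_basicOpen r
  obtain ⟨⟨a, ⟨_, n, rfl⟩⟩, h⟩ := IsLocalization.surj (Submonoid.powers r) z
  refine ⟨n, a, ?_⟩
  have h' : z * algebraMap Γ(X, U) Γ(X, X.basicOpen r) (r ^ n) =
      algebraMap Γ(X, U) Γ(X, X.basicOpen r) a := h
  rw [map_pow, mul_comm] at h'
  exact h'.symm

lemma exists_pow_mul_eq_zero_O {U : X.Opens} (hU : IsAffineOpen U) (r : Γ(X, U)) (a : Γ(X, U))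
    (ha : X.presheaf.map (homOfLE (X.basicOpen_le r)).op a = 0) : ∃ n : ℕ, r ^ n * a = 0 := by
  haveI := hU.isLocalization_basicOpen r
  have h : algebraMap Γ(X, U) Γ(X, X.basicOpen r) a = 0 := ha
  obtain ⟨⟨_, n, rfl⟩, hn⟩ := (IsLocalization.map_eq_zero_iff (Submonoid.powers r) _ a).1 h
  exact ⟨n, hn⟩

theorem isQC : RelSpec.IsQC (pre L m hL) (str L m hL) := by
  intro U hU r
  haveI : L.IsQuasicoherent := isQuasicoherent_of_isInvertible L hL
  refine away_of_elementwise (R := Γ(X, U)) (A := Dbl (data L m hL U))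
    (A' := Dbl (data L m hL (X.basicOpen r))) (R' := Γ(X, X.basicOpen r))
    Dbl.inl Dbl.inl (resHom L m hL (homOfLE (X.basicOpen_le r)))
    (X.presheaf.map (homOfLE (X.basicOpen_le r)).op).hom ?_ r ?_ ?_ ?_
  · intro a
    refine Dbl.ext rfl ?_
    change L.presheaf.map (homOfLE (X.basicOpen_le r)).op (0 : Γ(L, U)) = 0
    rw [map_zero]
  · exact X.toLocallyRingedSpace.toRingedSpace.isUnit_res_basicOpen r
  · intro z
    obtain ⟨n1, a, ha⟩ := exists_extension_O hU r z.fst
    obtain ⟨n2, t, ht⟩ := Groth.Agent.Lib.Helper2.QCoh.exists_extension hU L r z.snd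
    refine ⟨n1 + n2, (⟨r ^ n2 * a, r ^ n1 • t⟩ : Dbl (data L m hL U)), ?_⟩
    rw [← map_pow, Dbl.inl_mul]
    refine Dbl.ext ?_ ?_
    · change X.presheaf.map (homOfLE (X.basicOpen_le r)).op (r ^ n2 * a) = _
      rw [map_mul, ha, map_pow]
      change _ = (X.presheaf.map (homOfLE (X.basicOpen_le r)).op r) ^ (n1 + n2) * z.fst
      rw [pow_add]
      ring
    · change L.presheaf.map (homOfLE (X.basicOpen_le r)).op (r ^ n1 • t) = _
      rw [Scheme.Modules.map_smul, ht, smul_smul, map_pow]
      change _ = (X.presheaf.map (homOfLE (X.basicOpen_le r)).op r) ^ (n1 + n2) • z.snd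
      rw [pow_add]
  · intro t ht
    have h1 : X.presheaf.map (homOfLE (X.basicOpen_le r)).op t.fst = 0 :=
      congrArg (fun z : Dbl (data L m hL (X.basicOpen r)) => z.fst) ht
    have h2 : L.presheaf.map (homOfLE (X.basicOpen_le r)).op t.snd = 0 :=
      congrArg (fun z : Dbl (data L m hL (X.basicOpen r)) => z.snd) ht
    obtain ⟨n1, hn1⟩ := exists_pow_mul_eq_zero_O hU r t.fst h1
    obtain ⟨n2, hn2⟩ := Groth.Agent.Lib.Helper2.QCoh.exists_pow_smul_eq_zero hU L r t.snd h2
    refine ⟨n1 + n2, ?_⟩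
    rw [Dbl.inl_mul]
    refine Dbl.ext ?_ ?_
    · change r ^ (n1 + n2) * t.fst = 0
      rw [pow_add, mul_comm (r ^ n1), mul_assoc, hn1, mul_zero]
    · change r ^ (n1 + n2) • t.snd = 0
      rw [pow_add, mul_smul, hn2, smul_zero]

/-- the double-cover algebra `O ⊕ L` -/
noncomputable def alg : RelSpec.QCAlg X := ⟨pre L m hL, isSheaf_pre L m hL, str L m hL, isQC L m hL⟩

lemma inr_smul (U : X.Opens) (r : Γ(X, U)) (l : Γ(L, U)) :
    (Dbl.inr (r • l) : Dbl (data L m hL U)) = Dbl.inl r * Dbl.inr l := by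
  rw [Dbl.inl_mul]
  refine Dbl.ext ?_ ?_
  · simp
  · simp

/-- the inclusion of `L` into `O ⊕ L` -/
noncomputable def jHom : L ⟶ (alg L m hL).toModule :=
  ⟨letI := (alg L m hL).moduleSect
   PresheafOfModules.homMk
    { app := fun U => AddCommGrpCat.ofHom (Dbl.inr (D := data L m hL U.unop))
      naturality := fun U V i => by
        ext l
        refine Dbl.ext ?_ ?_
        · change (0 : Γ(X, V.unop)) = X.presheaf.map i (0 : Γ(X, U.unop))
          rw [map_zero]
        · rfl }
    (fun U r l => inr_smul L m hL U.unop (show Γ(X, U.unop) from r) l)⟩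

lemma jHom_app (U : X.Opens) (l : Γ(L, U)) :
    FinCov.toSec (alg L m hL) (((jHom L m hL).val.app (op U)).hom l) =
      (Dbl.inr l : Dbl (data L m hL U)) := rfl

theorem isDblAlg : FinCov.IsDblAlg L m (alg L m hL) (jHom L m hL) := by
  refine ⟨fun U => ⟨?_, ?_⟩, fun U l l' => ?_⟩
  · rintro ⟨s, l⟩ ⟨s', l'⟩ h
    have h' : (Dbl.inl s + Dbl.inr l : Dbl (data L m hL U)) = Dbl.inl s' + Dbl.inr l' := h
    have h1 := congrArg Dbl.fst h'
    have h2 := congrArg Dbl.snd h'
    change s + 0 = s' + 0 at h1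
    change 0 + l = 0 + l' at h2
    rw [add_zero, add_zero] at h1
    rw [zero_add, zero_add] at h2
    rw [h1, h2]
  · intro y
    refine ⟨((show Dbl (data L m hL U) from y).fst, (show Dbl (data L m hL U) from y).snd), ?_⟩
    exact Dbl.inl_add_inr (show Dbl (data L m hL U) from y)
  · exact (Dbl.inr_mul_inr (D := data L m hL U) l l').trans rfl

end Groth.Agent.Lib.R2H2.DblAlg
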