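import Groth.Agent.Lib.R2H2SubSec2
set_option backward.isDefEq.respectTransparency.types false

/-!
# Deligne's Artin–Rees lemma for the homology of `I^n F^•` (helper2, round 2; S3668)

For a complex `F` of coherent modules on a Noetherian scheme, the systems `H^p(I^n F)` and `I^n H^p(F)` are
pro-isomorphic.
-/

set_option autoImplicit false
set_option linter.unusedSectionVars false
set_option linter.style.haveILetI false
universe u
open CategoryTheory CategoryTheory.Limits AlgebraicGeometry TopologicalSpace Opposite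

noncomputable section

namespace Groth.Agent.Lib.R2H2.DeligneAR

open Groth.Agent.Lib.R2H2.DevA Groth.Agent.Lib.R2H2.DevF Groth.Agent.Lib.R2H2.IdealMulSec
  Groth.Agent.Lib.R2H2.SubSec Groth.Agent.Lib.R2H2.DeligneSurj

variable {X : Scheme.{u}}

/-! ### algebra -/

theorem ar_le {R M : Type*} [CommRing R] [IsNoetherianRing R] [AddCommGroup M] [Module R M]
    [Module.Finite R M] (J : Ideal R) (N : Submodule R M) :
    ∃ k : ℕ, ∀ c ≥ k, ∀ n ≥ c, J ^ n • (⊤ : Submodule R M) ⊓ N ≤ J ^ (n - c) • N := by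
  obtain ⟨k, hk⟩ := Ideal.exists_pow_inf_eq_pow_smul J N
  refine ⟨k, fun c hc n hn => ?_⟩
  rw [hk n (le_trans hc hn)]
  exact Submodule.smul_mono (Ideal.pow_le_pow_right (by omega)) inf_le_right

/-! ### quasi-coherence of cycles and homology -/

theorem isQuasicoherent_of_isLimit {K A B : X.Modules} [A.IsQuasicoherent] [B.IsQuasicoherent]
    (i : K ⟶ A) (f : A ⟶ B) (w : i ≫ f = 0) (hl : IsLimit (KernelFork.ofι i w)) :
    K.IsQuasicoherent := by
  haveI hk : (kernel f).IsQuasicoherent :=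
    Groth.Agent.Lib.Helper23.QCohLocal.isQuasicoherent_kernel f
  exact Groth.Agent.Lib.Helper23.TensorQCoh.isQuasicoherent_of_iso (hM := hk)
    ((limit.isLimit (parallelPair f 0)).conePointUniqueUpToIso hl)

theorem isQuasicoherent_of_isColimit {A B Q : X.Modules} [A.IsQuasicoherent] [B.IsQuasicoherent]
    (p : A ⟶ B) (π : B ⟶ Q) (w : p ≫ π = 0) (hc : IsColimit (CokernelCofork.ofπ π w)) :
    Q.IsQuasicoherent := by
  haveI hk : (cokernel p).IsQuasicoherent :=
    Groth.Agent.Lib.Helper23.QCohLocal.isQuasicoherent_cokernel p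
  exact Groth.Agent.Lib.Helper23.TensorQCoh.isQuasicoherent_of_iso (hM := hk)
    ((colimit.isColimit (parallelPair p 0)).coconePointUniqueUpToIso hc)

theorem isQuasicoherent_cycles (L : CochainComplex X.Modules ℤ) (hL : ∀ q, (L.X q).IsQuasicoherent)
    (p : ℤ) : (L.cycles p).IsQuasicoherent := by
  haveI := hL p
  haveI := hL (p + 1)
  exact isQuasicoherent_of_isLimit (L.iCycles p) (L.d p (p + 1)) (L.iCycles_d p (p + 1))
    (L.cyclesIsKernel p (p + 1) (by simp))

theorem isQuasicoherent_homology (L : CochainComplex X.Modules ℤ)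
    (hL : ∀ q, (L.X q).IsQuasicoherent) (p : ℤ) : (L.homology p).IsQuasicoherent := by
  haveI := hL (p - 1)
  haveI := isQuasicoherent_cycles L hL p
  exact isQuasicoherent_of_isColimit (L.toCycles (p - 1) p) (L.homologyπ p)
    (L.toCycles_comp_homologyπ (p - 1) p) (L.homologyIsCokernel (p - 1) p (by simp))

/-- sections of the cycles -/
theorem mem_rangeApp_iCycles (L : CochainComplex X.Modules ℤ) (p : ℤ) (U : X.Opens)
    (m : Γ(L.X p, U)) :
    m ∈ rangeApp (L.iCycles p) U ↔ Scheme.Modules.Hom.app (L.d p (p + 1)) U m = 0 := by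
  constructor
  · rintro ⟨z, rfl⟩
    exact congrArg (fun k => Scheme.Modules.Hom.app k U z) (L.iCycles_d p (p + 1))
  · intro h
    exact exists_app_eq_of_isLimit (L.iCycles p) (L.d p (p + 1)) (L.iCycles_d p (p + 1))
      (L.cyclesIsKernel p (p + 1) (by simp)) U m h

/-! ### the main construction -/

section Main

variable [IsNoetherian X] (I : X.IdealSheafData) (F : CochainComplex X.Modules ℤ)
  (hFc : ∀ q : ℤ, Coh.IsCoh (F.X q)) (p : ℤ)

/-- `I^n F^•` -/
abbrev K (n : ℕ) : CochainComplex X.Modules ℤ := (Dual3.deligne I n).obj F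

/-- the inclusion `I^n F^• ⟶ F^•` -/
abbrev ιK (n : ℕ) : K I F n ⟶ F := Dual3.deligneι I n F

theorem qF (hFc : ∀ q : ℤ, Coh.IsCoh (F.X q)) : ∀ q, (F.X q).IsQuasicoherent := fun q => (hFc q).1

theorem qK (hFc : ∀ q : ℤ, Coh.IsCoh (F.X q)) (n : ℕ) : ∀ q, ((K I F n).X q).IsQuasicoherent := fun q => by
  haveI := (hFc q).1
  exact isQuasicoherent_idealMul (I ^ n) (F.X q)

instance mono_cyclesMap (n : ℕ) : Mono (HomologicalComplex.cyclesMap (ιK I F n) p) := by
  haveI : Mono ((ιK I F n).f p) := inferInstanceAs (Mono (Dual3.idealMulι (I ^ n) (F.X p)))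
  haveI : Mono (HomologicalComplex.cyclesMap (ιK I F n) p ≫ F.iCycles p) := by
    rw [HomologicalComplex.cyclesMap_i]
    exact mono_comp _ _
  exact mono_of_mono _ (F.iCycles p)

/-- the Artin–Rees data: a constant `c` working on all members of a finite affine cover -/
structure ARData (c : ℕ) (𝒰 : Set X.Opens) : Prop where
  haff : ∀ U ∈ 𝒰, IsAffineOpen U
  hcov : ∀ x : X, ∃ U ∈ 𝒰, x ∈ U
  hZ : ∀ U ∈ 𝒰, ∀ hU : IsAffineOpen U, ∀ n ≥ c,
    (I.ideal ⟨U, hU⟩) ^ n • (⊤ : Submodule Γ(X, U) Γ(F.X p, U)) ⊓ rangeApp (F.iCycles p) U ≤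
      (I.ideal ⟨U, hU⟩) ^ (n - c) • rangeApp (F.iCycles p) U
  hB : ∀ U ∈ 𝒰, ∀ hU : IsAffineOpen U, ∀ n ≥ c,
    (I.ideal ⟨U, hU⟩) ^ n • (⊤ : Submodule Γ(X, U) Γ(F.X p, U)) ⊓ rangeApp (F.d (p - 1) p) U ≤
      (I.ideal ⟨U, hU⟩) ^ (n - c) • rangeApp (F.d (p - 1) p) U

include hFc in
theorem exists_arData : ∃ (c : ℕ) (𝒰 : Set X.Opens), 0 < c ∧ ARData I F p c 𝒰 := by
  classical
  have hAR : ∀ U : X.affineOpens, ∃ k : ℕ, ∀ c ≥ k, ∀ n ≥ c,
      ((I.ideal U) ^ n • (⊤ : Submodule Γ(X, U.1) Γ(F.X p, U.1)) ⊓ rangeApp (F.iCycles p) U.1 ≤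
        (I.ideal U) ^ (n - c) • rangeApp (F.iCycles p) U.1) ∧
      ((I.ideal U) ^ n • (⊤ : Submodule Γ(X, U.1) Γ(F.X p, U.1)) ⊓ rangeApp (F.d (p - 1) p) U.1 ≤
        (I.ideal U) ^ (n - c) • rangeApp (F.d (p - 1) p) U.1) := by
    intro U
    haveI := (hFc p).1
    haveI := (hFc p).2
    haveI : IsNoetherianRing Γ(X, U.1) := IsLocallyNoetherian.component_noetherian U
    haveI : Module.Finite Γ(X, U.1) Γ(F.X p, U.1) :=
      Groth.Agent.Lib.Helper23.FinType.finite_of_isFiniteType (F.X p) U.2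
    obtain ⟨k₁, h₁⟩ := ar_le (I.ideal U) (rangeApp (F.iCycles p) U.1)
    obtain ⟨k₂, h₂⟩ := ar_le (I.ideal U) (rangeApp (F.d (p - 1) p) U.1)
    exact ⟨max k₁ k₂, fun c hc n hn =>
      ⟨h₁ c (le_trans (le_max_left _ _) hc) n hn, h₂ c (le_trans (le_max_right _ _) hc) n hn⟩⟩
  choose kU hkU using hAR
  obtain ⟨s, hs⟩ : ∃ s : Finset X.affineOpens, (Set.univ : Set X) ⊆ ⋃ U ∈ s, (U.1 : Set X) :=
    isCompact_univ.elim_finite_subcover (fun U : X.affineOpens => (U.1 : Set X))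
      (fun U => U.1.2) (fun x _ => by
        obtain ⟨V, hV, hxV, -⟩ := exists_isAffineOpen_mem_and_subset (x := x) (U := ⊤) trivial
        exact Set.mem_iUnion.2 ⟨⟨V, hV⟩, hxV⟩)
  refine ⟨s.sup kU + 1, {U | ∃ V ∈ s, V.1 = U}, Nat.succ_pos _, ?_, ?_, ?_, ?_⟩
  · rintro _ ⟨V, -, rfl⟩
    exact V.2
  · intro x
    obtain ⟨U, hU⟩ := Set.mem_iUnion.1 (hs (Set.mem_univ x))
    obtain ⟨hUs, hxU⟩ := Set.mem_iUnion.1 hU
    exact ⟨U.1, ⟨U, hUs, rfl⟩, hxU⟩
  · rintro _ ⟨V, hVs, rfl⟩ hU n hn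
    exact (hkU V (s.sup kU + 1) (le_trans (Finset.le_sup hVs) (Nat.le_succ _)) n hn).1
  · rintro _ ⟨V, hVs, rfl⟩ hU n hn
    exact (hkU V (s.sup kU + 1) (le_trans (Finset.le_sup hVs) (Nat.le_succ _)) n hn).2

include hFc in
/-- step (A): cycles of `I^n F` lie in `I^(n-c) Z` -/
theorem exists_a {c : ℕ} {𝒰 : Set X.Opens} (h : ARData I F p c 𝒰) (n : ℕ) (hn : c ≤ n) :
    ∃ a : (K I F n).cycles p ⟶ (Dual3.idealMul (I ^ (n - c))).obj (F.cycles p),
      a ≫ Dual3.idealMulι (I ^ (n - c)) (F.cycles p) =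
        HomologicalComplex.cyclesMap (ιK I F n) p := by
  haveI hZq := isQuasicoherent_cycles F (qF F hFc) p
  haveI hZnq := isQuasicoherent_cycles (K I F n) (qK I F hFc n) p
  haveI := isQuasicoherent_idealMul (I ^ (n - c)) (F.cycles p)
  haveI := (hFc p).1
  have e2 : (K I F n).iCycles p ≫ (ιK I F n).f p ≫ F.d p (p + 1) = 0 := by
    rw [(ιK I F n).comm, HomologicalComplex.iCycles_d_assoc, zero_comp]
  obtain ⟨a, ha⟩ := exists_factor_of_rangeApp_le
    (HomologicalComplex.cyclesMap (ιK I F n) p ≫ F.iCycles p)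
    (Dual3.idealMulι (I ^ (n - c)) (F.cycles p) ≫ F.iCycles p) 𝒰 h.haff h.hcov (by
      intro U hU𝒰
      have hU := h.haff U hU𝒰
      rw [rangeApp_idealMulι_comp (I ^ (n - c)) (F.cycles p) (F.iCycles p) hU]
      refine le_trans ?_ (h.hZ U hU𝒰 hU n hn)
      rintro _ ⟨z, rfl⟩
      have e1 : Scheme.Modules.Hom.app
          (HomologicalComplex.cyclesMap (ιK I F n) p ≫ F.iCycles p) U z =
          Scheme.Modules.Hom.app (Dual3.idealMulι (I ^ n) (F.X p)) U
            (Scheme.Modules.Hom.app ((K I F n).iCycles p) U z) :=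
        congrArg (fun k => Scheme.Modules.Hom.app k U z)
          (HomologicalComplex.cyclesMap_i (ιK I F n) p)
      rw [e1]
      refine ⟨idealMulι_app_mem (I ^ n) (F.X p) hU _, ?_⟩
      change _ ∈ rangeApp (F.iCycles p) U
      rw [mem_rangeApp_iCycles]
      exact congrArg (fun k => Scheme.Modules.Hom.app k U z) e2)
  refine ⟨a, ?_⟩
  rw [← cancel_mono (F.iCycles p), Category.assoc]
  exact ha

include hFc in
/-- `I^n Z ⟶ Z_m` for `m ≤ n` -/
theorem exists_b (n m : ℕ) (hm : m ≤ n) :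
    ∃ b : (Dual3.idealMul (I ^ n)).obj (F.cycles p) ⟶ (K I F m).cycles p,
      b ≫ HomologicalComplex.cyclesMap (ιK I F m) p = Dual3.idealMulι (I ^ n) (F.cycles p) := by
  haveI := (hFc p).1
  obtain ⟨incl, hincl⟩ := exists_inclPow I (F.X p) hm
  let k : (Dual3.idealMul (I ^ n)).obj (F.cycles p) ⟶ (K I F m).X p :=
    (Dual3.idealMul (I ^ n)).map (F.iCycles p) ≫ incl
  have hkι : k ≫ (ιK I F m).f p = Dual3.idealMulι (I ^ n) (F.cycles p) ≫ F.iCycles p := by
    change ((Dual3.idealMul (I ^ n)).map (F.iCycles p) ≫ incl) ≫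
      Dual3.idealMulι (I ^ m) (F.X p) = _
    rw [Category.assoc, hincl, Dual3.idealMul_map_ι]
  have hk : k ≫ (K I F m).d p (p + 1) = 0 := by
    haveI : Mono ((ιK I F m).f (p + 1)) :=
      inferInstanceAs (Mono (Dual3.idealMulι (I ^ m) (F.X (p + 1))))
    rw [← cancel_mono ((ιK I F m).f (p + 1)), Category.assoc, ← (ιK I F m).comm,
      ← Category.assoc, hkι, Category.assoc, F.iCycles_d, comp_zero, zero_comp]
  refine ⟨(K I F m).liftCycles k (p + 1) (by simp) hk, ?_⟩
  rw [← cancel_mono (F.iCycles p), Category.assoc, HomologicalComplex.cyclesMap_i,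
    HomologicalComplex.liftCycles_i_assoc, hkι]

/-- the image of `J • N` under a linear-like map of sections lies in `J • ⊤` -/
theorem app_mem_smul_top {A B : X.Modules} (f : A ⟶ B) {U : X.Opens} (J : Ideal Γ(X, U))
    (x : Γ(A, U)) (hx : x ∈ J • (⊤ : Submodule Γ(X, U) Γ(A, U))) :
    Scheme.Modules.Hom.app f U x ∈ J • (⊤ : Submodule Γ(X, U) Γ(B, U)) := by
  refine Submodule.smul_induction_on hx ?_ ?_
  · intro r hr n _
    rw [Scheme.Modules.Hom.app_smul]
    exact Submodule.smul_mem_smul hr trivial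
  · intro x y hx hy
    rw [map_add]
    exact Submodule.add_mem _ hx hy

include hFc in
/-- step (B): the kernel of `I^n Z ⟶ I^n H` dies in `H^p(I^(n-c) F)` -/
theorem kernel_comp_eq_zero {c : ℕ} {𝒰 : Set X.Opens} (h : ARData I F p c 𝒰) (n : ℕ) (hn : c ≤ n)
    (b : (Dual3.idealMul (I ^ n)).obj (F.cycles p) ⟶ (K I F (n - c)).cycles p)
    (hb : b ≫ HomologicalComplex.cyclesMap (ιK I F (n - c)) p =
      Dual3.idealMulι (I ^ n) (F.cycles p)) :
    kernel.ι ((Dual3.idealMul (I ^ n)).map (F.homologyπ p)) ≫ b ≫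
      (K I F (n - c)).homologyπ p = 0 := by
  haveI hZq := isQuasicoherent_cycles F (qF F hFc) p
  haveI hHq := isQuasicoherent_homology F (qF F hFc) p
  haveI hZmq := isQuasicoherent_cycles (K I F (n - c)) (qK I F hFc (n - c)) p
  haveI hHmq := isQuasicoherent_homology (K I F (n - c)) (qK I F hFc (n - c)) p
  haveI := isQuasicoherent_idealMul (I ^ n) (F.cycles p)
  haveI := isQuasicoherent_idealMul (I ^ n) (F.homology p)
  haveI : (kernel ((Dual3.idealMul (I ^ n)).map (F.homologyπ p))).IsQuasicoherent :=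
    Groth.Agent.Lib.Helper23.QCohLocal.isQuasicoherent_kernel _
  haveI := (hFc p).1
  haveI := (hFc (p - 1)).1
  rw [← Category.assoc]
  refine comp_eq_zero_of_rangeApp_le
    (kernel.ι ((Dual3.idealMul (I ^ n)).map (F.homologyπ p)) ≫ b)
    ((K I F (n - c)).toCycles (p - 1) p) ((K I F (n - c)).homologyπ p)
    ((K I F (n - c)).toCycles_comp_homologyπ (p - 1) p) 𝒰 h.haff h.hcov ?_
  intro U hU𝒰
  have hU := h.haff U hU𝒰
  rintro _ ⟨w, rfl⟩
  set x := Scheme.Modules.Hom.app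
    (kernel.ι ((Dual3.idealMul (I ^ n)).map (F.homologyπ p))) U w with hx
  set z := Scheme.Modules.Hom.app b U x with hz
  set zz := Scheme.Modules.Hom.app (Dual3.idealMulι (I ^ n) (F.cycles p)) U x with hzz
  have hzz' : zz = Scheme.Modules.Hom.app (HomologicalComplex.cyclesMap (ιK I F (n - c)) p) U z :=
    (congrArg (fun k => Scheme.Modules.Hom.app k U x) hb).symm
  -- `π zz = 0`
  have hπ : Scheme.Modules.Hom.app (F.homologyπ p) U zz = 0 := by
    have h1 := congrArg (fun k => Scheme.Modules.Hom.app k U x)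
      (Dual3.idealMul_map_ι (I ^ n) (F.homologyπ p))
    have h2 : Scheme.Modules.Hom.app ((Dual3.idealMul (I ^ n)).map (F.homologyπ p)) U x = 0 :=
      congrArg (fun k => Scheme.Modules.Hom.app k U w)
        (kernel.condition ((Dual3.idealMul (I ^ n)).map (F.homologyπ p)))
    refine h1.symm.trans ?_
    change Scheme.Modules.Hom.app (Dual3.idealMulι (I ^ n) (F.homology p)) U
      (Scheme.Modules.Hom.app ((Dual3.idealMul (I ^ n)).map (F.homologyπ p)) U x) = 0
    rw [h2, map_zero]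
  obtain ⟨y', hy'⟩ := exists_app_eq_of_isColimit (F.toCycles (p - 1) p) (F.homologyπ p)
    (F.toCycles_comp_homologyπ (p - 1) p) (F.homologyIsCokernel (p - 1) p (by simp)) hU zz hπ
  set m := Scheme.Modules.Hom.app (F.iCycles p) U zz with hm
  have hmB : m ∈ rangeApp (F.d (p - 1) p) U := by
    refine ⟨y', ?_⟩
    have h1 := congrArg (fun k => Scheme.Modules.Hom.app k U y') (F.toCycles_i (p - 1) p)
    refine h1.symm.trans ?_
    change Scheme.Modules.Hom.app (F.iCycles p) U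
      (Scheme.Modules.Hom.app (F.toCycles (p - 1) p) U y') = m
    rw [hy']
  have hmJ : m ∈ (I.ideal ⟨U, hU⟩) ^ n • (⊤ : Submodule Γ(X, U) Γ(F.X p, U)) :=
    app_mem_smul_top (F.iCycles p) _ zz (idealMulι_app_mem (I ^ n) (F.cycles p) hU x)
  have hm2 := h.hB U hU𝒰 hU n hn ⟨hmJ, hmB⟩
  have hm3 : m ∈ rangeApp (Dual3.idealMulι (I ^ (n - c)) (F.X (p - 1)) ≫ F.d (p - 1) p) U := by
    rw [rangeApp_idealMulι_comp (I ^ (n - c)) (F.X (p - 1)) (F.d (p - 1) p) hU]
    exact hm2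
  obtain ⟨y, hy⟩ := hm3
  refine ⟨y, ?_⟩
  -- compare after the monomorphism `iCycles ≫ ι`
  haveI : Mono ((ιK I F (n - c)).f p) :=
    inferInstanceAs (Mono (Dual3.idealMulι (I ^ (n - c)) (F.X p)))
  apply Groth.Agent.Lib.Helper20.StalkExact.injective_app_of_mono
    ((K I F (n - c)).iCycles p ≫ (ιK I F (n - c)).f p) U
  have e1 : (K I F (n - c)).toCycles (p - 1) p ≫ (K I F (n - c)).iCycles p ≫
      (ιK I F (n - c)).f p =
      Dual3.idealMulι (I ^ (n - c)) (F.X (p - 1)) ≫ F.d (p - 1) p := by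
    rw [HomologicalComplex.toCycles_i_assoc]
    exact ((ιK I F (n - c)).comm (p - 1) p).symm
  have e2 : (K I F (n - c)).iCycles p ≫ (ιK I F (n - c)).f p =
      HomologicalComplex.cyclesMap (ιK I F (n - c)) p ≫ F.iCycles p :=
    (HomologicalComplex.cyclesMap_i (ιK I F (n - c)) p).symm
  have l1 := congrArg (fun k => Scheme.Modules.Hom.app k U y) e1
  have l2 := congrArg (fun k => Scheme.Modules.Hom.app k U z) e2
  refine l1.trans (hy.trans ?_)
  refine Eq.trans ?_ l2.symm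
  change m = Scheme.Modules.Hom.app (F.iCycles p) U
    (Scheme.Modules.Hom.app (HomologicalComplex.cyclesMap (ιK I F (n - c)) p) U z)
  rw [← hzz']

/-- the property characterising `φ_n` -/
def IsPhi (c n : ℕ)
    (φn : (K I F n).homology p ⟶ (Dual3.idealMul (I ^ (n - c))).obj (F.homology p)) : Prop :=
  ∃ a : (K I F n).cycles p ⟶ (Dual3.idealMul (I ^ (n - c))).obj (F.cycles p),
    a ≫ Dual3.idealMulι (I ^ (n - c)) (F.cycles p) = HomologicalComplex.cyclesMap (ιK I F n) p ∧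
    (K I F n).homologyπ p ≫ φn = a ≫ (Dual3.idealMul (I ^ (n - c))).map (F.homologyπ p)

/-- the property characterising `ψ_n` -/
def IsPsi (c n : ℕ)
    (ψn : (Dual3.idealMul (I ^ n)).obj (F.homology p) ⟶ (K I F (n - c)).homology p) : Prop :=
  ∃ b : (Dual3.idealMul (I ^ n)).obj (F.cycles p) ⟶ (K I F (n - c)).cycles p,
    b ≫ HomologicalComplex.cyclesMap (ιK I F (n - c)) p = Dual3.idealMulι (I ^ n) (F.cycles p) ∧
    (Dual3.idealMul (I ^ n)).map (F.homologyπ p) ≫ ψn = b ≫ (K I F (n - c)).homologyπ p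

include hFc in
theorem epi_map_homologyπ (n : ℕ) : Epi ((Dual3.idealMul (I ^ n)).map (F.homologyπ p)) := by
  haveI hZq := isQuasicoherent_cycles F (qF F hFc) p
  haveI hHq := isQuasicoherent_homology F (qF F hFc) p
  exact epi_idealMul_map (I ^ n) (F.homologyπ p)

include hFc in
theorem exists_phi {c : ℕ} {𝒰 : Set X.Opens} (h : ARData I F p c 𝒰) (n : ℕ) (hn : c ≤ n) :
    ∃ φn, IsPhi I F p c n φn := by
  obtain ⟨a, ha⟩ := exists_a I F hFc p h n hn
  have h0 : (K I F n).toCycles (p - 1) p ≫ a ≫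
      (Dual3.idealMul (I ^ (n - c))).map (F.homologyπ p) = 0 := by
    rw [← cancel_mono (Dual3.idealMulι (I ^ (n - c)) (F.homology p)), zero_comp]
    simp only [Category.assoc]
    rw [Dual3.idealMul_map_ι, reassoc_of% ha, ← HomologicalComplex.homologyπ_naturality,
      HomologicalComplex.toCycles_comp_homologyπ_assoc, zero_comp]
  obtain ⟨φn, hφ⟩ := CokernelCofork.IsColimit.desc'
    ((K I F n).homologyIsCokernel (p - 1) p (by simp)) _ h0
  exact ⟨φn, a, ha, hφ⟩

include hFc in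
theorem exists_psi {c : ℕ} {𝒰 : Set X.Opens} (h : ARData I F p c 𝒰) (n : ℕ) (hn : c ≤ n) :
    ∃ ψn, IsPsi I F p c n ψn := by
  obtain ⟨b, hb⟩ := exists_b I F hFc p n (n - c) (Nat.sub_le _ _)
  haveI := epi_map_homologyπ I F hFc p n
  have h0 := kernel_comp_eq_zero I F hFc p h n hn b hb
  exact ⟨Abelian.epiDesc _ (b ≫ (K I F (n - c)).homologyπ p) h0, b, hb,
    Abelian.comp_epiDesc _ _ h0⟩

theorem IsPhi.comp_ι {c n : ℕ}
    {φn : (K I F n).homology p ⟶ (Dual3.idealMul (I ^ (n - c))).obj (F.homology p)}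
    (h : IsPhi I F p c n φn) :
    φn ≫ Dual3.idealMulι (I ^ (n - c)) (F.homology p) =
      HomologicalComplex.homologyMap (ιK I F n) p := by
  obtain ⟨a, ha, hφ⟩ := h
  rw [← cancel_epi ((K I F n).homologyπ p), reassoc_of% hφ, Dual3.idealMul_map_ι,
    reassoc_of% ha, HomologicalComplex.homologyπ_naturality]

include hFc in
theorem IsPsi.comp_map {c n : ℕ}
    {ψn : (Dual3.idealMul (I ^ n)).obj (F.homology p) ⟶ (K I F (n - c)).homology p}
    (h : IsPsi I F p c n ψn) :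
    ψn ≫ HomologicalComplex.homologyMap (ιK I F (n - c)) p =
      Dual3.idealMulι (I ^ n) (F.homology p) := by
  obtain ⟨b, hb, hψ⟩ := h
  haveI := epi_map_homologyπ I F hFc p n
  rw [← cancel_epi ((Dual3.idealMul (I ^ n)).map (F.homologyπ p)), reassoc_of% hψ,
    HomologicalComplex.homologyπ_naturality, reassoc_of% hb, Dual3.idealMul_map_ι]

theorem phi_comp_psi {c n : ℕ}
    {φn : (K I F n).homology p ⟶ (Dual3.idealMul (I ^ (n - c))).obj (F.homology p)}
    {ψm : (Dual3.idealMul (I ^ (n - c))).obj (F.homology p) ⟶ (K I F (n - c - c)).homology p}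
    (hφ : IsPhi I F p c n φn) (hψ : IsPsi I F p c (n - c) ψm)
    (t : K I F n ⟶ K I F (n - c - c)) (ht : t ≫ ιK I F (n - c - c) = ιK I F n) :
    φn ≫ ψm = HomologicalComplex.homologyMap t p := by
  obtain ⟨a, ha, hφ'⟩ := hφ
  obtain ⟨b, hb, hψ'⟩ := hψ
  have hab : a ≫ b = HomologicalComplex.cyclesMap t p := by
    rw [← cancel_mono (HomologicalComplex.cyclesMap (ιK I F (n - c - c)) p), Category.assoc, hb,
      ha, ← HomologicalComplex.cyclesMap_comp, ht]
  rw [← cancel_epi ((K I F n).homologyπ p), reassoc_of% hφ', hψ',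
    HomologicalComplex.homologyπ_naturality, ← Category.assoc, hab]

include hFc in
/-- Deligne's Artin–Rees lemma for the homology of `I^n F^•` (S3668) -/
theorem main : ∃ (c : ℕ)
    (φ : ∀ n : ℕ, ((Dual3.deligne I n).obj F).homology p ⟶
      (Dual3.idealMul (I ^ (n - c))).obj (F.homology p))
    (ψ : ∀ n : ℕ, (Dual3.idealMul (I ^ n)).obj (F.homology p) ⟶
      ((Dual3.deligne I (n - c)).obj F).homology p), 0 < c ∧
    (∀ n : ℕ, c ≤ n → φ n ≫ Dual3.idealMulι (I ^ (n - c)) (F.homology p) =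
      HomologicalComplex.homologyMap (Dual3.deligneι I n F) p) ∧
    (∀ n : ℕ, c ≤ n → ψ n ≫ HomologicalComplex.homologyMap (Dual3.deligneι I (n - c) F) p =
      Dual3.idealMulι (I ^ n) (F.homology p)) ∧
    (∀ n : ℕ, 2 * c ≤ n → (ψ n ≫ φ (n - c)) ≫ Dual3.idealMulι (I ^ (n - c - c)) (F.homology p) =
      Dual3.idealMulι (I ^ n) (F.homology p)) ∧
    ∀ (n : ℕ), 2 * c ≤ n → ∀ t : (Dual3.deligne I n).obj F ⟶ (Dual3.deligne I (n - c - c)).obj F,
      t ≫ Dual3.deligneι I (n - c - c) F = Dual3.deligneι I n F →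
        φ n ≫ ψ (n - c) = HomologicalComplex.homologyMap t p := by
  classical
  obtain ⟨c, 𝒰, hc, h⟩ := exists_arData I F hFc p
  let φ : ∀ n : ℕ, (K I F n).homology p ⟶ (Dual3.idealMul (I ^ (n - c))).obj (F.homology p) :=
    fun n => if hn : c ≤ n then (exists_phi I F hFc p h n hn).choose else 0
  let ψ : ∀ n : ℕ, (Dual3.idealMul (I ^ n)).obj (F.homology p) ⟶ (K I F (n - c)).homology p :=
    fun n => if hn : c ≤ n then (exists_psi I F hFc p h n hn).choose else 0
  have hφ : ∀ n (hn : c ≤ n), IsPhi I F p c n (φ n) := fun n hn => by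
    have h1 : φ n = (exists_phi I F hFc p h n hn).choose := dif_pos hn
    rw [h1]
    exact (exists_phi I F hFc p h n hn).choose_spec
  have hψ : ∀ n (hn : c ≤ n), IsPsi I F p c n (ψ n) := fun n hn => by
    have h1 : ψ n = (exists_psi I F hFc p h n hn).choose := dif_pos hn
    rw [h1]
    exact (exists_psi I F hFc p h n hn).choose_spec
  refine ⟨c, φ, ψ, hc, fun n hn => (hφ n hn).comp_ι, fun n hn => (hψ n hn).comp_map I F hFc p,
    fun n hn => ?_, fun n hn t ht => ?_⟩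
  · rw [Category.assoc, (hφ (n - c) (by omega)).comp_ι, (hψ n (by omega)).comp_map I F hFc p]
  · exact phi_comp_psi I F p (hφ n (by omega)) (hψ (n - c) (by omega)) t ht

end Main

end Groth.Agent.Lib.R2H2.DeligneAR
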