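import Groth.Agent.Lib.R2H2DevA
import Groth.Agent.Lib.R2H2CohGraph
set_option backward.isDefEq.respectTransparency.types false

/-!
# Dévissage of coherent modules, part B: the core induction (helper2, round 2)

* `exists_graph'` : the graph construction of `R2H2CohGraph`, remembering the monomorphism into
  `F₁ ⊞ F₂`.
* `prop_of_killed_pow` : an extension-closed property which holds for coherent modules killed by
  `I` holds for those killed by a power of `I`.
* `transfer` : two-out-of-three along a morphism whose kernel and cokernel have the property.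
* `core` : the Noetherian induction (EGA III 3.1.2, Stacks 01YG), with the local input abstracted as
  `hloc`.
-/

set_option autoImplicit false
set_option linter.style.haveILetI false
universe u

open CategoryTheory CategoryTheory.Limits AlgebraicGeometry TopologicalSpace

namespace Groth.Agent.Lib.R2H2.DevB

open Groth.Agent.Lib.R2H2.StalkPow Groth.Agent.Lib.R2H2.DevA Groth.Agent.Lib.R2H2.NilFilt
  Groth.Agent.Lib.R2H2.TorsFam Groth.Agent.Lib.Helper26.ModSec

variable {X : Scheme.{u}}

theorem exists_graph' {Y : Scheme.{u}} [IsNoetherian X] (j : Y ⟶ X) [IsOpenImmersion j]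
    (F₁ F₂ : X.Modules) (h₁ : Coh.IsCoh F₁) (h₂ : Coh.IsCoh F₂)
    (e : (Scheme.Modules.restrictFunctor j).obj F₁ ≅ (Scheme.Modules.restrictFunctor j).obj F₂) :
    ∃ (G : X.Modules) (ψ : G ⟶ F₁ ⊞ F₂), Mono ψ ∧ Coh.IsCoh G ∧
      IsIso ((Scheme.Modules.restrictFunctor j).map (ψ ≫ biprod.fst)) ∧
      IsIso ((Scheme.Modules.restrictFunctor j).map (ψ ≫ biprod.snd)) := by
  haveI : PreservesBinaryBiproducts (Scheme.Modules.restrictFunctor j) :=
    preservesBinaryBiproducts_of_preservesBiproducts _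
  haveI q₁ : F₁.IsQuasicoherent := h₁.1
  haveI q₂ : F₂.IsQuasicoherent := h₂.1
  have hF : Coh.IsCoh (F₁ ⊞ F₂) := Groth.Agent.Lib.R2H2.PdSheaf.isCoh_biprod F₁ F₂ h₁ h₂
  haveI qF : (F₁ ⊞ F₂).IsQuasicoherent := hF.1
  haveI fF : SheafOfModules.IsFiniteType (R := X.ringCatSheaf) (F₁ ⊞ F₂) := hF.2
  let φ : (Scheme.Modules.restrictFunctor j).obj F₁ ⟶ (F₁ ⊞ F₂).restrict j :=
    biprod.lift (𝟙 _) e.hom ≫ ((Scheme.Modules.restrictFunctor j).mapBiprod F₁ F₂).inv
  have hφ1 : φ ≫ (Scheme.Modules.restrictFunctor j).map biprod.fst = 𝟙 _ := by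
    have : ((Scheme.Modules.restrictFunctor j).mapBiprod F₁ F₂).inv ≫
        (Scheme.Modules.restrictFunctor j).map biprod.fst = biprod.fst := by
      rw [Iso.inv_comp_eq, Functor.mapBiprod_hom, biprod.lift_fst]
    rw [Category.assoc, this, biprod.lift_fst]
  have hφ2 : φ ≫ (Scheme.Modules.restrictFunctor j).map biprod.snd = e.hom := by
    have : ((Scheme.Modules.restrictFunctor j).mapBiprod F₁ F₂).inv ≫
        (Scheme.Modules.restrictFunctor j).map biprod.snd = biprod.snd := by
      rw [Iso.inv_comp_eq, Functor.mapBiprod_hom, biprod.lift_snd]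
    rw [Category.assoc, this, biprod.lift_snd]
  haveI hφm : Mono φ := by
    haveI : Mono (φ ≫ (Scheme.Modules.restrictFunctor j).map biprod.fst) := by
      rw [hφ1]; infer_instance
    exact mono_of_mono φ ((Scheme.Modules.restrictFunctor j).map biprod.fst)
  obtain ⟨H, ψ, eH, hHq, hcomp, hmono, -⟩ :=
    Groth.Agent.Lib.Helper23.Extend.exists_extension' j (F₁ ⊞ F₂)
      ((Scheme.Modules.restrictFunctor j).obj F₁) φ
  haveI := hmono hφm
  refine ⟨H, ψ, inferInstance, ⟨hHq, ?_⟩, ?_, ?_⟩
  · exact @Groth.Agent.Lib.Helper23.FinType.isFiniteType_of_mono X _ _ _ ψ inferInstance qF fF hHq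
  · rw [Functor.map_comp, ← hcomp, Category.assoc, hφ1, Category.comp_id]
    infer_instance
  · rw [Functor.map_comp, ← hcomp, Category.assoc, hφ2]
    infer_instance

variable [IsNoetherian X]

/-- an extension-closed property holding for the coherent modules killed by `I` (and satisfying a
side condition `Q` stable under sub- and quotient objects) holds for those killed by `I ^ k` -/
theorem prop_of_killed_pow (I : X.IdealSheafData) (P Q : X.Modules → Prop)
    (hQm : ∀ {A B : X.Modules} (f : A ⟶ B), Mono f → Q B → Q A)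
    (hQe : ∀ {A B : X.Modules} (f : A ⟶ B), Epi f → Q A → Q B)
    (hext : ∀ S : ShortComplex X.Modules, S.ShortExact → Coh.IsCoh S.X₁ → Coh.IsCoh S.X₂ →
      Coh.IsCoh S.X₃ → Q S.X₂ → P S.X₁ → P S.X₃ → P S.X₂)
    (hR : ∀ M : X.Modules, Coh.IsCoh M → Q M → ClSub.KilledByIdeal I M → P M) (k : ℕ) :
    ∀ T : X.Modules, Coh.IsCoh T → Q T → ClSub.KilledByIdeal (I ^ k) T → P T := by
  induction k with
  | zero =>
    intro T hT hQ hk
    refine hR T hT hQ (fun U a _ m => hk U a ?_ m)
    change a ∈ (I.ideal U) ^ 0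
    rw [pow_zero, Ideal.one_eq_top]
    trivial
  | succ k ih =>
    intro T hT hQ hk
    have hc := isCoh_tors I T hT
    have hq := isCoh_cokernel hc hT (torsι I T)
    let S : ShortComplex X.Modules :=
      ShortComplex.mk (torsι I T) (cokernel.π (torsι I T)) (cokernel.condition _)
    have hS : S.ShortExact :=
      { exact := ShortComplex.exact_cokernel (torsι I T)
        mono_f := inferInstanceAs (Mono (torsι I T))
        epi_g := inferInstanceAs (Epi (cokernel.π (torsι I T))) }
    exact hext S hS hc hT hq hQ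
      (hR _ hc (hQm (torsι I T) inferInstance hQ) (killed_tors I T))
      (ih _ hq (hQe (cokernel.π (torsι I T)) inferInstance hQ) (killed_cokernel_tors I T hT k hk))

/-- two-out-of-three along a morphism whose kernel and cokernel have the property -/
theorem transfer (P Q : X.Modules → Prop)
    (hex : ∀ S : ShortComplex X.Modules, S.ShortExact → Coh.IsCoh S.X₁ → Coh.IsCoh S.X₂ →
      Coh.IsCoh S.X₃ → Q S.X₂ →
      (P S.X₁ → P S.X₂ → P S.X₃) ∧ (P S.X₁ → P S.X₃ → P S.X₂) ∧ (P S.X₂ → P S.X₃ → P S.X₁))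
    {H M : X.Modules} (hH : Coh.IsCoh H) (hM : Coh.IsCoh M) (QH : Q H) (QM : Q M) (p : H ⟶ M)
    (hK : P (kernel p)) (hC : P (cokernel p)) : P H ↔ P M := by
  have cK : Coh.IsCoh (kernel p) := Groth.Agent.Lib.R2H2.PdSheaf.isCoh_kernel hH hM p
  have cC : Coh.IsCoh (cokernel p) := isCoh_cokernel hH hM p
  have cI : Coh.IsCoh (Abelian.image p) :=
    Groth.Agent.Lib.R2H2.PdSheaf.isCoh_kernel hM cC (cokernel.π p)
  let S₁ : ShortComplex X.Modules :=
    ShortComplex.mk (kernel.ι p) (Abelian.factorThruImage p) (by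
      rw [← cancel_mono (Abelian.image.ι p), Category.assoc, Abelian.image.fac,
        kernel.condition, zero_comp])
  have hS₁ : S₁.ShortExact :=
    Groth.Agent.Lib.R2H2.PdSheaf.shortExact_of_factor (kernel.ι p) p (kernel.condition p)
      (kernelIsKernel p) (Abelian.factorThruImage p) (Abelian.image.ι p)
      (Abelian.image.fac p) _
  let S₂ : ShortComplex X.Modules :=
    ShortComplex.mk (Abelian.image.ι p) (cokernel.π p) (kernel.condition (cokernel.π p))
  have hS₂ : S₂.ShortExact :=
    { exact := ShortComplex.exact_kernel (cokernel.π p)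
      mono_f := inferInstanceAs (Mono (kernel.ι (cokernel.π p)))
      epi_g := inferInstanceAs (Epi (cokernel.π p)) }
  have h₁ := hex S₁ hS₁ cK hH cI QH
  have h₂ := hex S₂ hS₂ cI hM cC QM
  constructor
  · intro hPH
    exact h₂.2.1 (h₁.1 hK hPH) hC
  · intro hPM
    exact h₁.2.1 hK (h₂.2.2 hPM hC)

/-- **the dévissage induction.**  `hloc` provides, for a coherent `F` killed by the vanishing ideal
of a nonempty closed `Y ⊆ X'`, coherent modules `F'`, `G'` supported in `Y`, isomorphic over an open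
meeting `Y`, with `P G'` and `P F' → P F`. -/
theorem core (P : X.Modules → Prop) (h0 : ∀ M : X.Modules, IsZero M → P M) (X' : Set X)
    (hex : ∀ S : ShortComplex X.Modules, S.ShortExact → Coh.IsCoh S.X₁ → Coh.IsCoh S.X₂ →
      Coh.IsCoh S.X₃ → CohB1.support S.X₂ ⊆ X' →
      (P S.X₁ → P S.X₂ → P S.X₃) ∧ (P S.X₁ → P S.X₃ → P S.X₂) ∧ (P S.X₂ → P S.X₃ → P S.X₁))
    (hloc : ∀ (Y : Closeds X), (Y : Set X) ⊆ X' → (Y : Set X).Nonempty →
      (∀ Y' : Closeds X, Y' < Y → ∀ F : X.Modules, Coh.IsCoh F →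
        CohB1.support F ⊆ (Y' : Set X) → P F) →
      ∀ F : X.Modules, Coh.IsCoh F → CohB1.support F ⊆ (Y : Set X) →
        ClSub.KilledByIdeal (Scheme.IdealSheafData.vanishingIdeal Y) F →
        ∃ (F' G' : X.Modules) (D : X.Opens), Coh.IsCoh F' ∧ Coh.IsCoh G' ∧
          CohB1.support F' ⊆ (Y : Set X) ∧ CohB1.support G' ⊆ (Y : Set X) ∧ P G' ∧
          (P F' → P F) ∧ ((D : Set X) ∩ (Y : Set X)).Nonempty ∧
          Nonempty (F'.restrict D.ι ≅ G'.restrict D.ι)) :
    ∀ (Y : Closeds X), (Y : Set X) ⊆ X' → ∀ F : X.Modules, Coh.IsCoh F →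
      CohB1.support F ⊆ (Y : Set X) → P F := by
  intro Y
  induction Y using WellFoundedLT.induction with
  | ind Y IH =>
    intro hYX' F hF hsupp
    by_cases hne : (Y : Set X).Nonempty
    swap
    · rw [Set.not_nonempty_iff_eq_empty] at hne
      exact h0 F (isZero_of_support_subset_empty F (hne ▸ hsupp))
    have IH' : ∀ Y' : Closeds X, Y' < Y → ∀ F : X.Modules, Coh.IsCoh F →
        CohB1.support F ⊆ (Y' : Set X) → P F :=
      fun Y' hY' F hF hs => IH Y' hY' (fun x hx => hYX' (hY'.le hx)) F hF hs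
    set J := Scheme.IdealSheafData.vanishingIdeal Y with hJ
    have hQm : ∀ {A B : X.Modules} (f : A ⟶ B), Mono f →
        CohB1.support B ⊆ (Y : Set X) → CohB1.support A ⊆ (Y : Set X) :=
      fun f hf hB => haveI := hf; (support_subset_of_mono f).trans hB
    have hQe : ∀ {A B : X.Modules} (f : A ⟶ B), Epi f →
        CohB1.support A ⊆ (Y : Set X) → CohB1.support B ⊆ (Y : Set X) :=
      fun f hf hA => haveI := hf; (support_subset_of_epi f).trans hA
    have hexY : ∀ S : ShortComplex X.Modules, S.ShortExact → Coh.IsCoh S.X₁ → Coh.IsCoh S.X₂ →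
        Coh.IsCoh S.X₃ → CohB1.support S.X₂ ⊆ (Y : Set X) →
        (P S.X₁ → P S.X₂ → P S.X₃) ∧ (P S.X₁ → P S.X₃ → P S.X₂) ∧ (P S.X₂ → P S.X₃ → P S.X₁) :=
      fun S hS c₁ c₂ c₃ hs => hex S hS c₁ c₂ c₃ (hs.trans hYX')
    -- the case of modules killed by `J`
    have hkilled : ∀ M : X.Modules, Coh.IsCoh M → CohB1.support M ⊆ (Y : Set X) →
        ClSub.KilledByIdeal J M → P M := by
      intro M hM hMs hMk
      obtain ⟨F', G', D, cF', cG', sF', sG', hPG', hPF, hDY, ⟨e⟩⟩ :=
        hloc Y hYX' hne IH' M hM hMs hMk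
      obtain ⟨H, ψ, hψ, cH, ha, hb⟩ := exists_graph' D.ι F' G' cF' cG' e
      haveI := hψ
      haveI := ha
      haveI := hb
      have sH : CohB1.support H ⊆ (Y : Set X) := by
        refine (support_subset_of_mono ψ).trans ((support_biprod F' G').trans ?_)
        exact Set.union_subset sF' sG'
      -- the smaller closed set
      let Y' : Closeds X := ⟨(Y : Set X) ∩ (D : Set X)ᶜ, Y.2.inter D.2.isClosed_compl⟩
      have hY' : Y' < Y := by
        refine lt_of_le_of_ne (fun x hx => hx.1) ?_
        intro heq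
        obtain ⟨x, hxD, hxY⟩ := hDY
        have : x ∈ (Y' : Set X) := by rw [heq]; exact hxY
        exact this.2 hxD
      haveI : PreservesColimitsOfSize.{0, 0} (Scheme.Modules.restrictFunctor D.ι) :=
        (Scheme.Modules.restrictAdjunction D.ι).leftAdjoint_preservesColimits
      have key : ∀ {A B : X.Modules} (cA : Coh.IsCoh A) (cB : Coh.IsCoh B)
          (sA : CohB1.support A ⊆ (Y : Set X)) (sB : CohB1.support B ⊆ (Y : Set X)) (p : A ⟶ B)
          [IsIso ((Scheme.Modules.restrictFunctor D.ι).map p)], P A ↔ P B := by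
        intro A B cA cB sA sB p _
        have cK : Coh.IsCoh (kernel p) := Groth.Agent.Lib.R2H2.PdSheaf.isCoh_kernel cA cB p
        have cC : Coh.IsCoh (cokernel p) := isCoh_cokernel cA cB p
        have hK0 : IsZero ((Scheme.Modules.restrictFunctor D.ι).obj (kernel p)) :=
          IsZero.of_iso (isZero_kernel_of_mono _)
            (PreservesKernel.iso (Scheme.Modules.restrictFunctor D.ι) p)
        have hC0 : IsZero ((Scheme.Modules.restrictFunctor D.ι).obj (cokernel p)) :=
          IsZero.of_iso (isZero_cokernel_of_epi _)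
            (PreservesCokernel.iso (Scheme.Modules.restrictFunctor D.ι) p)
        have sK : CohB1.support (kernel p) ⊆ (Y' : Set X) := fun x hx =>
          ⟨sA (support_subset_of_mono (kernel.ι p) hx), fun hxD =>
            not_mem_support_of_isZero_restrict_opens D _ hK0 x hxD hx⟩
        have sC : CohB1.support (cokernel p) ⊆ (Y' : Set X) := fun x hx =>
          ⟨sB (support_subset_of_epi (cokernel.π p) hx), fun hxD =>
            not_mem_support_of_isZero_restrict_opens D _ hC0 x hxD hx⟩
        exact transfer P (fun M => CohB1.support M ⊆ (Y : Set X)) hexY cA cB sA sB p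
          (IH' Y' hY' _ cK sK) (IH' Y' hY' _ cC sC)
      have h1 : P H ↔ P F' := key cH cF' sH sF' (ψ ≫ biprod.fst)
      have h2 : P H ↔ P G' := key cH cG' sH sG' (ψ ≫ biprod.snd)
      exact hPF (h1.1 (h2.2 hPG'))
    -- reduction to that case
    have hvan : ∀ W : X.Opens, Disjoint (W : Set X) (J.support : Set X) →
        Subsingleton Γ(F, W) := by
      intro W hW
      refine ⟨fun s t => ?_⟩
      have hdis : ∀ x ∈ W, x ∉ CohB1.support F := by
        intro x hxW hxF
        refine Set.disjoint_left.1 hW hxW ?_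
        rw [hJ, Scheme.IdealSheafData.coe_support_vanishingIdeal]
        exact hsupp hxF
      rw [Groth.Agent.Lib.Helper23.Support.eq_zero_of_disjoint_support F W hdis s,
        Groth.Agent.Lib.Helper23.Support.eq_zero_of_disjoint_support F W hdis t]
    obtain ⟨k, hk⟩ := exists_killed_pow J F hF hvan
    exact prop_of_killed_pow J P (fun M => CohB1.support M ⊆ (Y : Set X)) hQm hQe
      (fun S hS c₁ c₂ c₃ hs h₁ h₃ => (hexY S hS c₁ c₂ c₃ hs).2.1 h₁ h₃) hkilled k F hF hsupp hk

end Groth.Agent.Lib.R2H2.DevB
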