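import Groth.Agent.Lib.R2H2DevK
set_option backward.isDefEq.respectTransparency.types false

/-!
# Dévissage of coherent modules, part L: the variant with roots and generic models
(helper2, round 2)

`devissage_roots` : let `X` be a Noetherian scheme and `P` a property of `O_X`-modules which holds
for zero modules, is closed under extensions of coherent modules and such that `P (F^{r+1})`
implies `P F` for coherent `F`.  Assume that for every point `y` there is a coherent `G` with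
`G_y` nonzero and killed by the maximal ideal such that for every quasi-coherent ideal `J` with
`y ∉ V(J)` there is a quasi-coherent `G'` with `P G'` and a monomorphism `φ : G' ⟶ G` landing in
`J G` which is bijective on the stalks at `y`.  Then `P` holds for all coherent modules.
-/

set_option autoImplicit false
set_option linter.style.haveILetI false
universe u

open CategoryTheory CategoryTheory.Limits AlgebraicGeometry TopologicalSpace

namespace Groth.Agent.Lib.R2H2.DevL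

open Groth.Agent.Lib.R2H2.StalkPow Groth.Agent.Lib.R2H2.DevA Groth.Agent.Lib.R2H2.NilFilt
  Groth.Agent.Lib.R2H2.DevK Groth.Agent.Lib.R2H2.IdealMulSec

variable {X : Scheme.{u}} [IsNoetherian X]

theorem devissage_roots (P : X.Modules → Prop) (h0 : ∀ M : X.Modules, IsZero M → P M)
    (hext : ∀ S : ShortComplex X.Modules, S.ShortExact → Coh.IsCoh S.X₁ → Coh.IsCoh S.X₂ →
      Coh.IsCoh S.X₃ → P S.X₁ → P S.X₃ → P S.X₂)
    (hroot : ∀ (F : X.Modules) (r : ℕ), Coh.IsCoh F → P (pow F (r + 1)) → P F)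
    (hgen : ∀ y : X, ∃ G : X.Modules, Coh.IsCoh G ∧ Nontrivial (G.presheaf.stalk y) ∧
      (∀ a ∈ IsLocalRing.maximalIdeal (X.presheaf.stalk y), ∀ m : G.presheaf.stalk y,
        a • m = 0) ∧
      ∀ J : X.IdealSheafData, y ∉ (J.support : Set X) →
        ∃ (G' : X.Modules) (φ : G' ⟶ G), Mono φ ∧ Coh.IsQCoh G' ∧
          Function.Bijective (stalkLin φ y) ∧ P G' ∧ φ ≫ un J G = 0)
    (F : X.Modules) (hF : Coh.IsCoh F) : P F := by
  classical
  have hext' : ∀ S : ShortComplex X.Modules, S.ShortExact → Coh.IsCoh S.X₁ → Coh.IsCoh S.X₂ →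
      Coh.IsCoh S.X₃ → CohB1.support S.X₂ ⊆ Set.univ → P S.X₁ → P S.X₃ → P S.X₂ :=
    fun S hS c₁ c₂ c₃ _ => hext S hS c₁ c₂ c₃
  refine Groth.Agent.Lib.R2H2.DevG.core2 P h0 Set.univ hext' ?_ ⟨Set.univ, isClosed_univ⟩
    (Set.subset_univ _) F hF (Set.subset_univ _)
  clear hF F
  intro Y _ hne _ F hF hs hk
  obtain ⟨y, V, hV, hyY, hyV, hYV⟩ :=
    Groth.Agent.Lib.R2H2.DevA.exists_generic_component (Y : Set X) Y.2 hne
  obtain ⟨G, cG, hnt, hkG, hG4⟩ := hgen y
  haveI := Groth.Agent.Lib.R2H2.DevA.finite_stalk F hF y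
  haveI := Groth.Agent.Lib.R2H2.DevA.finite_stalk G cG y
  obtain ⟨r, s, hs1, ⟨e⟩⟩ := Groth.Agent.Lib.R2H2.ResField.exists_equiv_pow
    (F.presheaf.stalk y) (G.presheaf.stalk y)
    (Groth.Agent.Lib.R2H2.DevA.stalk_smul_eq_zero Y F hk _ V hV hyV hYV) hkG hnt
  obtain ⟨D, hyD, ⟨iso⟩⟩ := Groth.Agent.Lib.R2H2.DevA.exists_local_iso F G hF cG y r s e
  have cFs := isCoh_pow F hF s
  have cGr := isCoh_pow G cG r
  obtain ⟨T, a, b, cT, ha, hb, hia, hib⟩ :=
    Groth.Agent.Lib.R2H2.DevG.exists_mono_graph _ _ cFs cGr D iso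
  haveI := ha
  haveI := hb
  haveI := hia
  haveI := hib
  have cC : Coh.IsCoh (cokernel b) := isCoh_cokernel cT cGr b
  haveI : (cokernel b).IsQuasicoherent := cC.1
  let JD : X.IdealSheafData :=
    Scheme.IdealSheafData.vanishingIdeal ⟨(D : Set X)ᶜ, D.2.isClosed_compl⟩
  have hJs : (JD.support : Set X) = (D : Set X)ᶜ :=
    Scheme.IdealSheafData.coe_support_vanishingIdeal _
  haveI : PreservesColimitsOfSize.{0, 0} (Scheme.Modules.restrictFunctor D.ι) :=
    (Scheme.Modules.restrictAdjunction D.ι).leftAdjoint_preservesColimits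
  have hC0 : IsZero ((Scheme.Modules.restrictFunctor D.ι).obj (cokernel b)) :=
    IsZero.of_iso (isZero_cokernel_of_epi _)
      (PreservesCokernel.iso (Scheme.Modules.restrictFunctor D.ι) b)
  obtain ⟨N, hN⟩ := exists_killed_pow (I := JD) (cokernel b) cC
    (fun W hW => Groth.Agent.Lib.R2H2.DevG.subsingleton_sections_of_isZero_restrict D _ hC0 W
      (fun x hxW => by
        by_contra hxD
        exact Set.disjoint_left.1 hW hxW (hJs ▸ hxD)))
  have hξJ : y ∉ ((JD ^ N).support : Set X) := fun h => by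
    have h2 := Groth.Agent.Lib.R2H2.DevG.support_pow_le JD N h
    rw [hJs] at h2
    exact h2 hyD
  obtain ⟨G', φ, hφm, qG', hbij, PG', hφun⟩ := hG4 (JD ^ N) hξJ
  haveI := hφm
  haveI : G.IsQuasicoherent := cG.1
  haveI : SheafOfModules.IsFiniteType (R := X.ringCatSheaf) G := cG.2
  haveI : G'.IsQuasicoherent := qG'
  have cG' : Coh.IsCoh G' :=
    ⟨qG', Groth.Agent.Lib.Helper23.FinType.isFiniteType_of_mono φ⟩
  obtain ⟨D₁, hyD₁, hiφ⟩ := exists_isIso_restrict_of_stalk cG' cG φ y hbij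
  haveI := hiφ
  obtain ⟨ι', hfac⟩ : ∃ ι' : G' ⟶ (Dual3.idealMul (JD ^ N)).obj G,
      φ = ι' ≫ Dual3.idealMulι (JD ^ N) G :=
    ⟨kernel.lift (un (JD ^ N) G) φ hφun, (kernel.lift_ι _ _ _).symm⟩
  have hzero : powMap φ r ≫ cokernel.π b = 0 :=
    powMap_comp_eq_zero φ (fun u => by
      rw [hfac, Category.assoc, idealMulι_comp_eq_zero (JD ^ N) hN u, comp_zero]) r
      (cokernel.π b)
  let ℓ : pow G' r ⟶ T := Abelian.monoLift b (powMap φ r) hzero
  have hℓ : ℓ ≫ b = powMap φ r := Abelian.monoLift_comp _ _ _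
  haveI : Mono (ℓ ≫ b) := by rw [hℓ]; infer_instance
  haveI : Mono ℓ := mono_of_mono ℓ b
  have hD'D : D ⊓ D₁ ≤ D := inf_le_left
  have hD'D₁ : D ⊓ D₁ ≤ D₁ := inf_le_right
  haveI i1 : IsIso ((Scheme.Modules.restrictFunctor (D ⊓ D₁).ι).map b) :=
    isIso_restrict_of_le hD'D b
  haveI i2 : IsIso ((Scheme.Modules.restrictFunctor (D ⊓ D₁).ι).map a) :=
    isIso_restrict_of_le hD'D a
  haveI i3 : IsIso ((Scheme.Modules.restrictFunctor (D ⊓ D₁).ι).map φ) :=
    isIso_restrict_of_le hD'D₁ φ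
  haveI i4 : IsIso ((Scheme.Modules.restrictFunctor (D ⊓ D₁).ι).map (powMap φ r)) :=
    isIso_restrict_powMap (D ⊓ D₁) φ r
  haveI i5 : IsIso ((Scheme.Modules.restrictFunctor (D ⊓ D₁).ι).map ℓ) := by
    have h5 : IsIso ((Scheme.Modules.restrictFunctor (D ⊓ D₁).ι).map ℓ ≫
        (Scheme.Modules.restrictFunctor (D ⊓ D₁).ι).map b) := by
      rw [← Functor.map_comp, hℓ]; exact i4
    exact IsIso.of_isIso_comp_right _ ((Scheme.Modules.restrictFunctor (D ⊓ D₁).ι).map b)
  have i6 : IsIso ((Scheme.Modules.restrictFunctor (D ⊓ D₁).ι).map (ℓ ≫ a)) := by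
    rw [Functor.map_comp]; infer_instance
  have PT : P (pow G' r) :=
    Groth.Agent.Lib.R2H2.DevC.prop_pow P h0 Set.univ hext' G' cG' (Set.subset_univ _) PG' r
  obtain ⟨s', rfl⟩ : ∃ s', s = s' + 1 := ⟨s - 1, by omega⟩
  exact ⟨pow F (s' + 1), pow G' r, ℓ ≫ a, D ⊓ D₁, cFs, isCoh_pow G' cG' r, mono_comp _ _,
    (support_pow F (s' + 1)).trans hs, PT, fun h => hroot F s' hF h, ⟨y, ⟨hyD, hyD₁⟩, hyY⟩, i6⟩

end Groth.Agent.Lib.R2H2.DevL
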