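import Mathlib
import Groth.Prelude
import Groth.Agent.Lib.R2H3LerayDeg
import Groth.Agent.Lib.R2H3RpushAffVanish
import Groth.Agent.Lib.R2H3RpushQCohGen
import Groth.Agent.Lib.R2H3ModLocBridge
import Groth.Agent.Lib.Helper21RelExtSS
import Groth.Agent.S0484

/-!
# The second edge map `R^q(Φ ⋙ Ψ) ⟶ Ψ ∘ R^qΦ` is an isomorphism under acyclicity (helper2, round 2)

* `isIso_cyclesComparison`, `isIso_homologyComparison`: the comparison maps of `RDer` are isomorphisms when `Ψ`
  preserves the cokernel presentation of the homology.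
* `isIso_homologyComparison_of_acyclic`: for a cochain complex `K` (indexed by `ℕ`) with `Ψ`-acyclic terms and
  `Ψ`-acyclic cohomology.
* `isIso_edgeOut_of_acyclic`, `isIso_lerayEdgeOut_of_isAffineHom` (S16462).
-/

set_option autoImplicit false
set_option linter.style.haveILetI false
set_option linter.unusedSectionVars false
universe v v' v'' u u' u''
open CategoryTheory CategoryTheory.Limits

namespace Groth.Agent.Lib.R2H2.EdgeOut

open Groth.Agent.Lib.R2H3.LerayDeg Groth.Agent.Lib.Helper16.AcyclicCx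

section Comparison

variable {B : Type u} [Category.{v} B] [Abelian B] {C : Type u'} [Category.{v'} C] [Abelian C]
  (Ψ : B ⥤ C) [Ψ.Additive] [PreservesFiniteLimits Ψ]
  {ι' : Type*} {c : ComplexShape ι'} (K : HomologicalComplex B c) (i : ι')

set_option backward.isDefEq.respectTransparency false in
theorem isIso_cyclesComparison : IsIso (RDer.cyclesComparison Ψ K i) := by
  let h1 := ((Ψ.mapHomologicalComplex c).obj K).cyclesIsKernel i (c.next i) rfl
  let h2 := KernelFork.mapIsLimit _ (K.cyclesIsKernel i (c.next i) rfl) Ψ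
  have h : RDer.cyclesComparison Ψ K i = (IsLimit.conePointUniqueUpToIso h1 h2).hom := rfl
  rw [h]
  infer_instance

theorem isIso_homologyComparison
    (hepi : Epi (Ψ.map (K.homologyπ i)))
    (hex : (ShortComplex.mk (Ψ.map (K.toCycles (c.prev i) i)) (Ψ.map (K.homologyπ i))
      (by rw [← Ψ.map_comp, K.toCycles_comp_homologyπ, Ψ.map_zero])).Exact) :
    IsIso (RDer.homologyComparison Ψ K i) := by
  haveI := isIso_cyclesComparison Ψ K i
  haveI : Epi (ShortComplex.mk (Ψ.map (K.toCycles (c.prev i) i)) (Ψ.map (K.homologyπ i))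
      (by rw [← Ψ.map_comp, K.toCycles_comp_homologyπ, Ψ.map_zero])).g := hepi
  have hcok := hex.gIsCokernel
  have h2 : Ψ.map (K.toCycles (c.prev i) i) =
      ((Ψ.mapHomologicalComplex c).obj K).toCycles (c.prev i) i ≫ RDer.cyclesComparison Ψ K i :=
    (RDer.toCycles_cyclesComparison Ψ K i).symm
  have hz : Ψ.map (K.toCycles (c.prev i) i) ≫ inv (RDer.cyclesComparison Ψ K i) ≫
      ((Ψ.mapHomologicalComplex c).obj K).homologyπ i = 0 := by
    refine (congrArg (fun t : ((Ψ.mapHomologicalComplex c).obj K).X (c.prev i) ⟶ Ψ.obj (K.cycles i) =>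
      t ≫ inv (RDer.cyclesComparison Ψ K i) ≫
        ((Ψ.mapHomologicalComplex c).obj K).homologyπ i) h2).trans ?_
    change (((Ψ.mapHomologicalComplex c).obj K).toCycles (c.prev i) i ≫
      RDer.cyclesComparison Ψ K i) ≫ inv (RDer.cyclesComparison Ψ K i) ≫
        ((Ψ.mapHomologicalComplex c).obj K).homologyπ i = 0
    rw [Category.assoc, IsIso.hom_inv_id_assoc, HomologicalComplex.toCycles_comp_homologyπ]
  let inv' : Ψ.obj (K.homology i) ⟶ ((Ψ.mapHomologicalComplex c).obj K).homology i :=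
    hcok.desc (CokernelCofork.ofπ (inv (RDer.cyclesComparison Ψ K i) ≫
      ((Ψ.mapHomologicalComplex c).obj K).homologyπ i) hz)
  have hfac : Ψ.map (K.homologyπ i) ≫ inv' = inv (RDer.cyclesComparison Ψ K i) ≫
      ((Ψ.mapHomologicalComplex c).obj K).homologyπ i :=
    hcok.fac _ WalkingParallelPair.one
  refine ⟨inv', ?_, ?_⟩
  · rw [← cancel_epi (((Ψ.mapHomologicalComplex c).obj K).homologyπ i),
      RDer.homologyπ_homologyComparison_assoc, hfac, IsIso.hom_inv_id_assoc, Category.comp_id]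
  · rw [← cancel_epi (Ψ.map (K.homologyπ i)), reassoc_of% hfac,
      RDer.homologyπ_homologyComparison, IsIso.inv_hom_id_assoc, Category.comp_id]

end Comparison

section Acyclic

variable {ℬ : Type u} [Category.{v} ℬ] [Abelian ℬ] [EnoughInjectives ℬ]
  {𝒞 : Type u'} [Category.{v'} 𝒞] [Abelian 𝒞] {G : ℬ ⥤ 𝒞} [G.Additive] [PreservesFiniteLimits G]

/-- `G` preserves a cokernel presentation `P ⟶ Q ⟶ H ⟶ 0` when the kernel and the image of `P ⟶ Q` are
`G`-acyclic -/
theorem map_epi_exact {P Q H : ℬ} (f : P ⟶ Q) (π : Q ⟶ H) (w : f ≫ π = 0)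
    (hc : IsColimit (CokernelCofork.ofπ π w)) (hk : GAcyc G (kernel f))
    (hi : GAcyc G (Abelian.image f)) :
    Epi (G.map π) ∧ (ShortComplex.mk (G.map f) (G.map π)
      (by rw [← G.map_comp, w, G.map_zero])).Exact := by
  let e : cokernel f ≅ H := IsColimit.coconePointUniqueUpToIso (colimit.isColimit _) hc
  have he : cokernel.π f ≫ e.hom = π :=
    IsColimit.comp_coconePointUniqueUpToIso_hom (colimit.isColimit _) hc WalkingParallelPair.one
  haveI := scG_epi (G := G) f hi
  have hex := scG_exact (G := G) f hk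
  have hπ : G.map π = G.map (cokernel.π f) ≫ G.map e.hom := by rw [← G.map_comp, he]
  refine ⟨by rw [hπ]; infer_instance, ?_⟩
  refine (ShortComplex.exact_iff_of_iso ?_).1 hex
  refine ShortComplex.isoMk (Iso.refl _) (Iso.refl _) (G.mapIso e) ?_ ?_
  · simp
  · change 𝟙 _ ≫ G.map π = G.map (cokernel.π f) ≫ G.map e.hom
    rw [Category.id_comp, hπ]

lemma gAcyc_of_isZero {M : ℬ} (h : IsZero M) : GAcyc G M :=
  fun p => (G.rightDerived (p + 1)).map_isZero h

variable (K : CochainComplex ℬ ℕ) (hK : ∀ n, GAcyc G (K.X n)) (hH : ∀ n, GAcyc G (K.homology n))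

include hK hH in
theorem isIso_homologyComparison_of_acyclic (n : ℕ) :
    IsIso (RDer.homologyComparison G K n) := by
  cases n with
  | zero =>
    have hp : (ComplexShape.up ℕ).prev 0 = 0 := by simp
    have h0 : K.toCycles ((ComplexShape.up ℕ).prev 0) 0 = 0 := by
      rw [← cancel_mono (K.iCycles 0), HomologicalComplex.toCycles_i, zero_comp]
      exact K.shape _ _ (by rw [hp]; simp)
    have hk : GAcyc G (kernel (K.toCycles ((ComplexShape.up ℕ).prev 0) 0)) := by
      refine (hK ((ComplexShape.up ℕ).prev 0)).of_iso ?_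
      exact (kernelZeroIsoSource (X := K.X ((ComplexShape.up ℕ).prev 0)) (Y := K.cycles 0)).symm ≪≫
        kernelIsoOfEq h0.symm
    have hi : GAcyc G (Abelian.image (K.toCycles ((ComplexShape.up ℕ).prev 0) 0)) := by
      apply gAcyc_of_isZero
      rw [IsZero.iff_id_eq_zero, ← cancel_mono (Abelian.image.ι _),
        ← cancel_epi (Abelian.factorThruImage _)]
      rw [zero_comp, comp_zero, Category.id_comp, Abelian.image.fac, h0]
    obtain ⟨h1, h2⟩ := map_epi_exact (G := G) (K.toCycles ((ComplexShape.up ℕ).prev 0) 0)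
      (K.homologyπ 0) (K.toCycles_comp_homologyπ _ _) (K.homologyIsCokernel _ 0 rfl) hk hi
    exact isIso_homologyComparison G K 0 h1 h2
  | succ n =>
    have hp : (ComplexShape.up ℕ).prev (n + 1) = n := by simp
    have hk0 : GAcyc G (kernel (K.toCycles n (n + 1))) := by
      refine (acyc_cycles K hK hH n).of_iso ?_
      exact kernelIsoOfEq (K.toCycles_i n (n + 1)).symm ≪≫ kernelCompMono _ _
    have hi0 : GAcyc G (Abelian.image (K.toCycles n (n + 1))) :=
      GAcyc.X₃ (scA_shortExact (K.toCycles n (n + 1))) hk0 (hK n)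
    have key : ∀ j : ℕ, j = n → GAcyc G (kernel (K.toCycles j (n + 1))) ∧
        GAcyc G (Abelian.image (K.toCycles j (n + 1))) := by
      rintro j rfl
      exact ⟨hk0, hi0⟩
    obtain ⟨hk, hi⟩ := key _ hp
    obtain ⟨h1, h2⟩ := map_epi_exact (G := G) (K.toCycles ((ComplexShape.up ℕ).prev (n + 1)) (n + 1))
      (K.homologyπ (n + 1)) (K.toCycles_comp_homologyπ _ _) (K.homologyIsCokernel _ (n + 1) rfl) hk hi
    exact isIso_homologyComparison G K (n + 1) h1 h2

end Acyclic

section Edge

variable {𝒜 : Type u''} [Category.{v''} 𝒜] [Abelian 𝒜] [HasInjectiveResolutions 𝒜]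
  {ℬ : Type u} [Category.{v} ℬ] [Abelian ℬ] [EnoughInjectives ℬ]
  {𝒞 : Type u'} [Category.{v'} 𝒞] [Abelian 𝒞]
  (Φ : 𝒜 ⥤ ℬ) [Φ.Additive] (Ψ : ℬ ⥤ 𝒞) [Ψ.Additive] [PreservesFiniteLimits Ψ]

/-- the second edge map is an isomorphism when `Φ` sends injectives to `Ψ`-acyclics and all `R^bΦ X` are
`Ψ`-acyclic -/
theorem isIso_edgeOut_of_acyclic
    (hI : ∀ I : 𝒜, Injective I → GAcyc Ψ (Φ.obj I)) (X : 𝒜)
    (hX : ∀ b : ℕ, GAcyc Ψ ((Φ.rightDerived b).obj X)) (q : ℕ) :
    IsIso (RDer.edgeOut Φ Ψ q X) := by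
  let I := injectiveResolution X
  let K : CochainComplex ℬ ℕ := (Φ.mapHomologicalComplex (ComplexShape.up ℕ)).obj I.cocomplex
  have hK : ∀ m, GAcyc Ψ (K.X m) := fun m => hI _ (I.injective m)
  have hH : ∀ m, GAcyc Ψ (K.homology m) := fun m => (hX m).of_iso (I.isoRightDerivedObj Φ m)
  haveI := isIso_homologyComparison_of_acyclic (G := Ψ) K hK hH q
  have h1 : IsIso (Ψ.map (I.isoRightDerivedObj Φ q).inv) := inferInstance
  have h2 : IsIso (RDer.homologyComparison Ψ K q ≫ Ψ.map (I.isoRightDerivedObj Φ q).inv) :=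
    IsIso.comp_isIso' inferInstance h1
  have h3 : IsIso (I.isoRightDerivedObj (Φ ⋙ Ψ) q).hom := inferInstance
  exact IsIso.comp_isIso' h3 h2

end Edge

section Schemes

open AlgebraicGeometry AlgebraicGeometry.Scheme.Modules

attribute [local instance] Groth.Agent.Lib.R2H3.RpushRestrict.hasInjectiveResolutions_modules

theorem isIso_lerayEdgeOut_of_isAffineHom {X Y Z : Scheme.{u}} (f : X ⟶ Y) (g : Y ⟶ Z)
    [QuasiCompact f] [QuasiSeparated f] [IsAffineHom g] [HasInjectiveResolutions X.Modules]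
    (M : X.Modules) [M.IsQuasicoherent] (p : ℕ) :
    IsIso (CohBC.lerayEdgeOut f g p M) := by
  haveI : EnoughInjectives Y.Modules := by
    have := Groth.Agent.S0484.result (Opens.grothendieckTopology Y) Y.ringCatSheaf
    exact inferInstanceAs (EnoughInjectives (SheafOfModules.{u} Y.ringCatSheaf))
  have hI : ∀ I : X.Modules, Injective I → GAcyc (pushforward g) ((pushforward f).obj I) := by
    intro I hI q
    haveI := hI
    haveI : TopCat.Sheaf.IsFlasque (Coh.toAb I) :=
      Groth.Agent.Lib.R2H3.ModLocBridge.isFlasque_toAb_of_injective I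
    have hfl : TopCat.Sheaf.IsFlasque (Coh.toAb ((pushforward f).obj I)) :=
      TopCat.Sheaf.IsFlasque.pushforward_isFlasque (Coh.toAb I) f.base
    exact Groth.Agent.Lib.Helper21.RelExtSS.isZero_Rpush_of_isFlasque g _ hfl q
  have hX : ∀ b : ℕ, GAcyc (pushforward g) (((pushforward f).rightDerived b).obj M) := by
    intro b q
    haveI : ((Coh.Rpush f b).obj M).IsQuasicoherent :=
      Groth.Agent.Lib.R2H3.RpushQCohGen.isQuasicoherent_Rpush_of_qcqs f M b
    exact Groth.Agent.Lib.R2H3.RpushAffVanish.isZero_Rpush_of_isAffineHom g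
      ((Coh.Rpush f b).obj M) q
  haveI := isIso_edgeOut_of_acyclic (pushforward f) (pushforward g) hI M hX p
  unfold CohBC.lerayEdgeOut
  infer_instance

end Schemes

end Groth.Agent.Lib.R2H2.EdgeOut
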