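import Mathlib
import Groth.Prelude.Def_AnFib
import Groth.Agent.S9693

set_option autoImplicit false
set_option backward.isDefEq.respectTransparency.types false
universe u
open CategoryTheory CategoryTheory.Limits AlgebraicGeometry TopologicalSpace Opposite

namespace Groth.Agent.Lib.R2H2.ElemFibBC

/-- an irreducible set meeting an open set is contained in the closure of the intersection -/
theorem subset_closure_inter_of_isPreirreducible {T : Type*} [TopologicalSpace T] {F U : Set T}
    (hF : IsPreirreducible F) (hU : IsOpen U) (hne : (F ∩ U).Nonempty) :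
    F ⊆ closure (U ∩ F) := by
  intro x hx
  rw [mem_closure_iff]
  intro V hV hxV
  obtain ⟨y, hyF, hyV, hyU⟩ := hF V U hV hU ⟨x, hx, hxV⟩ hne
  exact ⟨y, hyV, hyU, hyF⟩

/-- the fibre of `g` over a point `s` is irreducible as soon as the geometric fibre over an algebraic closure
of the residue field is irreducible. -/
theorem isPreirreducible_fibre {Z T : Scheme.{u}} (g : Z ⟶ T) (s : T)
    (h : ∀ (Ω : Type u) [Field Ω] [IsAlgClosed Ω] (σ : Spec (CommRingCat.of Ω) ⟶ T),
      IrreducibleSpace ↥(pullback g σ)) :
    IsPreirreducible (g.base ⁻¹' {s}) := by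
  let Ω := AlgebraicClosure (T.residueField s)
  let σ : Spec (CommRingCat.of Ω) ⟶ T :=
    Spec.map (CommRingCat.ofHom (algebraMap (T.residueField s) Ω)) ≫ T.fromSpecResidueField s
  haveI := h Ω σ
  have hr : Set.range σ = {s} := by
    ext t
    constructor
    · rintro ⟨z, rfl⟩
      simp only [Set.mem_singleton_iff]
      change (Spec.map (CommRingCat.ofHom (algebraMap (T.residueField s) Ω)) ≫
        T.fromSpecResidueField s) z = s
      rw [Scheme.Hom.comp_apply]
      exact Set.mem_singleton_iff.mp
        ((Scheme.range_fromSpecResidueField s) ▸ Set.mem_range_self _)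
    · rintro rfl
      haveI : Nonempty (Spec (CommRingCat.of Ω)) := inferInstance
      obtain ⟨z⟩ := this
      refine ⟨z, ?_⟩
      change (Spec.map (CommRingCat.ofHom (algebraMap (T.residueField t) Ω)) ≫
        T.fromSpecResidueField t) z = t
      rw [Scheme.Hom.comp_apply]
      exact Set.mem_singleton_iff.mp
        ((Scheme.range_fromSpecResidueField t) ▸ Set.mem_range_self _)
  have hrange : Set.range (pullback.fst g σ) = g.base ⁻¹' {s} := by
    rw [Scheme.Pullback.range_fst, hr]
  rw [← hrange, ← Set.image_univ]
  exact ((IrreducibleSpace.isIrreducible_univ _).image _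
    (pullback.fst g σ).continuous.continuousOn).isPreirreducible

/-- transport of irreducibility and dimension along an isomorphism of schemes -/
theorem irreducible_dim_of_iso {A B : Scheme.{u}} (e : A ≅ B)
    (h : IrreducibleSpace ↥B ∧ topologicalKrullDim ↥B = 1) :
    IrreducibleSpace ↥A ∧ topologicalKrullDim ↥A = 1 := by
  obtain ⟨h1, h2⟩ := h
  let φ : ↥A ≃ₜ ↥B := Scheme.homeoOfIso e
  refine ⟨?_, ?_⟩
  · haveI : PreirreducibleSpace ↥A :=
      ⟨by
        have := (IrreducibleSpace.isIrreducible_univ ↥B).isPreirreducible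
        have h3 := this.preimage φ.isOpenEmbedding
        simpa using h3⟩
    haveI : Nonempty ↥A := ⟨φ.symm (Classical.arbitrary _)⟩
    exact ⟨inferInstance⟩
  · rw [← h2]
    exact IsHomeomorph.topologicalKrullDim_eq φ φ.isHomeomorph

theorem main {X S S' : Scheme.{u}} (f : X ⟶ S) (u : S' ⟶ S)
    (hf : An.IsElementaryFibration f) : An.IsElementaryFibration (pullback.snd f u) := by
  obtain ⟨Xb, Y, j, fb, i, hjf, hj, hi, hrange, hdense, hsm, hproj, hgeom, hfin, het, hsurj⟩ := hf
  have e1 : f ≫ 𝟙 S = j ≫ fb := by rw [Category.comp_id, hjf]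
  have e2 : u ≫ 𝟙 S = 𝟙 S' ≫ u := by rw [Category.comp_id, Category.id_comp]
  let j' : pullback f u ⟶ pullback fb u := pullback.map f u fb u j (𝟙 S') (𝟙 S) e1 e2
  have hj'r : Set.range j' = (pullback.fst fb u) ⁻¹' Set.range j := by
    have := Scheme.Pullback.range_map (f := f) (g := u) fb u j (𝟙 S') (𝟙 S) e1 e2
    rw [this]
    have h2 : Set.range (𝟙 S' : S' ⟶ S') = Set.univ := by
      ext x; simp
    rw [h2]
    simp
  have hi'r : Set.range (pullback.snd i (pullback.fst fb u)) =
      (pullback.fst fb u) ⁻¹' Set.range i := Scheme.Pullback.range_snd _ _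
  have hrange' : Set.range j = (Set.range i)ᶜ := hrange
  have hcomp : pullback.snd i (pullback.fst fb u) ≫ pullback.snd fb u =
      (pullbackRightPullbackFstIso fb u i).hom ≫ pullback.snd (i ≫ fb) u :=
    (pullbackRightPullbackFstIso_hom_snd fb u i).symm
  refine ⟨pullback fb u, pullback i (pullback.fst fb u), j', pullback.snd fb u,
    pullback.snd i (pullback.fst fb u), ?_, ?_, ?_, ?_, ?_, ?_, ?_, ?_, ?_, ?_, ?_⟩
  · exact pullback.lift_snd _ _ _ |>.trans (Category.comp_id _)
  · infer_instance
  · infer_instance
  · rw [hj'r, hi'r, hrange', Set.preimage_compl]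
  · intro s'
    have hF : IsPreirreducible ((pullback.snd fb u).base ⁻¹' {s'}) := by
      apply isPreirreducible_fibre
      intro Ω _ _ σ
      exact (irreducible_dim_of_iso (pullbackLeftPullbackSndIso fb u σ) (hgeom Ω (σ ≫ u))).1
    have hU : IsOpen (Set.range j') := j'.isOpenEmbedding.isOpen_range
    have hne : ((pullback.snd fb u).base ⁻¹' {s'} ∩ Set.range j').Nonempty := by
      -- the fibre of fb over u s' is nonempty and meets range j
      have hne0 : (fb.base ⁻¹' {u s'}).Nonempty := by
        let Ω := AlgebraicClosure (S.residueField (u s'))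
        let σ : Spec (CommRingCat.of Ω) ⟶ S :=
          Spec.map (CommRingCat.ofHom (algebraMap (S.residueField (u s')) Ω)) ≫
            S.fromSpecResidueField (u s')
        haveI := (hgeom Ω σ).1
        obtain ⟨z⟩ : Nonempty ↥(pullback fb σ) := inferInstance
        refine ⟨pullback.fst fb σ z, ?_⟩
        change fb (pullback.fst fb σ z) = u s'
        rw [← Scheme.Hom.comp_apply, pullback.condition, Scheme.Hom.comp_apply]
        change (Spec.map (CommRingCat.ofHom (algebraMap (S.residueField (u s')) Ω)) ≫
            S.fromSpecResidueField (u s')) _ = u s'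
        rw [Scheme.Hom.comp_apply]
        exact Set.mem_singleton_iff.mp
          ((Scheme.range_fromSpecResidueField (u s')) ▸ Set.mem_range_self _)
      obtain ⟨x0, hx0⟩ := hne0
      have hx0cl := hdense (u s') hx0
      have : (Set.range j.base ∩ fb.base ⁻¹' {u s'}).Nonempty := by
        by_contra hcon
        rw [Set.not_nonempty_iff_eq_empty] at hcon
        rw [hcon, closure_empty] at hx0cl
        exact hx0cl
      obtain ⟨x, ⟨hxj, hxs⟩⟩ := this
      obtain ⟨z, hz1, hz2⟩ := Scheme.Pullback.exists_preimage_pullback (f := fb) (g := u) x s' hxs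
      refine ⟨z, hz2, ?_⟩
      rw [hj'r]
      change pullback.fst fb u z ∈ Set.range j
      rw [hz1]
      exact hxj
    have := subset_closure_inter_of_isPreirreducible hF hU hne
    exact this
  · infer_instance
  · exact Groth.Agent.S9693.result fb hproj u
  · intro Ω _ _ σ
    exact irreducible_dim_of_iso (pullbackLeftPullbackSndIso fb u σ) (hgeom Ω (σ ≫ u))
  · rw [hcomp]
    infer_instance
  · rw [hcomp]
    infer_instance
  · rw [hcomp]
    have h1 : Function.Surjective (pullback.snd (i ≫ fb) u).base := by
      haveI : Surjective (i ≫ fb) := ⟨hsurj⟩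
      exact (inferInstance : Surjective (pullback.snd (i ≫ fb) u)).surj
    have h2 : Function.Surjective (pullbackRightPullbackFstIso fb u i).hom.base :=
      (Scheme.homeoOfIso (pullbackRightPullbackFstIso fb u i)).surjective
    change Function.Surjective ((pullbackRightPullbackFstIso fb u i).hom ≫
      pullback.snd (i ≫ fb) u)
    rw [Scheme.Hom.comp_base] 
    exact h1.comp h2

end Groth.Agent.Lib.R2H2.ElemFibBC
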