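import Mathlib
import Groth.Prelude
import Groth.Agent.Lib.R2H2EpsRes
import Groth.Agent.Lib.R2H2PullRes
import Groth.Agent.Lib.Helper20StalkExact
import Groth.Agent.S16954
set_option backward.isDefEq.respectTransparency.types false
set_option autoImplicit false
set_option linter.unusedSectionVars false
set_option linter.style.haveILetI false
universe u
open CategoryTheory AlgebraicGeometry TopologicalSpace Opposite Abelian
open AlgebraicGeometry.Scheme.Modules CohCmp

noncomputable section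

namespace Groth.Agent.Lib.R2H2.EpsInj

open Groth.Agent.Lib.R2H2.EpsBij Groth.Agent.Lib.R2H2.EpsRes Groth.Agent.Lib.R2H2.PullRes
  Groth.Agent.Lib.R2H2.ResDelta Groth.Agent.Lib.R2H2.ResSect Groth.Agent.Lib.R2H3.PullUnit
  Groth.Agent.Lib.Helper23.SectCmpLib

section ResNat

variable {X : Scheme.{u}} {U U' : X.Opens} (h : U' ≤ U)

/-- the restriction maps on cohomology are natural in the module -/
theorem resLE_mapH {M N : X.Modules} (ψ : M ⟶ N) (p : ℕ) (x : Coh.HHon X M U p) :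
    CohPull.resLE N h p (CohPull.mapH ((restrictFunctor U.ι).map ψ) p x) =
      CohPull.mapH ((restrictFunctor U'.ι).map ψ) p (CohPull.resLE M h p x) := by
  rw [resLE_apply, resLE_apply]
  change _ = Sheaf.H.map ((toAbOn X U').map ψ) p _
  rw [Sheaf.H.map_apply, Sheaf.H.map_apply]
  rw [Ext.mapExactFunctor_comp, Ext.mapExactFunctor_mk₀]
  repeat rw [Ext.comp_assoc_of_third_deg_zero]
  rw [Ext.mk₀_comp_mk₀, Ext.mk₀_comp_mk₀]
  congr 3
  exact tau_naturality h ψ

end ResNat

section ResTrans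

variable {X : Scheme.{u}} {U U₁ U₂ : X.Opens} (h₁ : U₁ ≤ U) (h₂ : U₂ ≤ U₁)

/-- the restriction maps on cohomology compose -/
theorem resLE_resLE (M : X.Modules) (p : ℕ) (x : Coh.HHon X M U p) :
    CohPull.resLE M h₂ p (CohPull.resLE M h₁ p x) = CohPull.resLE M (h₂.trans h₁) p x := by
  have e1 : CohPull.resLE M h₁ p x =
      CohPull.mapH ((restrictFunctor U₁.ι).map ((Scheme.Modules.pullbackId X).hom.app M)) p
        (CohPull.pullOn (𝟙 X) U U₁ (hid h₁) M p x) := rfl
  rw [e1, resLE_mapH, resLE_pullOn]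
  rfl

end ResTrans

section Exact

variable {Y : Scheme.{u}}

/-- an exact sequence of modules is locally exact on sections -/
theorem exists_local_lift_of_exact (S : ShortComplex Y.Modules) (hS : S.Exact) (V : Y.Opens)
    (c : Γ(S.X₂, V)) (hc : S.g.app V c = 0) (y : Y) (hy : y ∈ V) :
    ∃ (W : Y.Opens) (hWV : W ≤ V), y ∈ W ∧ ∃ t : Γ(S.X₁, W),
      S.f.app W t = S.X₂.presheaf.map (homOfLE hWV).op c := by
  -- lift `c` to a section of the kernel
  let K : ShortComplex Y.Modules :=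
    ShortComplex.mk (Limits.kernel.ι S.g) S.g (Limits.kernel.condition S.g)
  have hK : K.Exact := ShortComplex.exact_of_f_is_kernel K (Limits.kernelIsKernel S.g)
  haveI : (Groth.Agent.Lib.Helper20.StalkExact.secF (X := Y) V).PreservesZeroMorphisms :=
    ⟨fun _ _ => rfl⟩
  haveI : Mono K.f := inferInstanceAs (Mono (Limits.kernel.ι S.g))
  have h1 : (K.map (Groth.Agent.Lib.Helper20.StalkExact.secF V)).Exact :=
    hK.map_of_mono_of_preservesKernel (Groth.Agent.Lib.Helper20.StalkExact.secF V) inferInstance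
      inferInstance
  rw [ShortComplex.ab_exact_iff] at h1
  obtain ⟨r, hr⟩ := h1 c hc
  -- the kernel lift is an epimorphism
  haveI : Epi (Limits.kernel.lift S.g S.f S.zero) := S.exact_iff_epi_kernel_lift.1 hS
  obtain ⟨W, hWV, hyW, t, ht⟩ := exists_local_lift (Limits.kernel.lift S.g S.f S.zero) V r y hy
  refine ⟨W, hWV, hyW, t, ?_⟩
  have h2 : S.f = Limits.kernel.lift S.g S.f S.zero ≫ Limits.kernel.ι S.g :=
    (Limits.kernel.lift_ι S.g S.f S.zero).symm
  have h3 : S.f.app W t = (Limits.kernel.ι S.g).app W ((Limits.kernel.lift S.g S.f S.zero).app W t) :=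
    congrArg (fun φ => Scheme.Modules.Hom.app φ W t) h2
  rw [h3, ht]
  have h4 := app_res (Limits.kernel.ι S.g) hWV r
  refine h4.trans ?_
  exact congrArg (fun z => S.X₂.presheaf.map (homOfLE hWV).op z) hr

end Exact

section Main

variable {X Y : Scheme.{u}} (f : X ⟶ Y) [HasInjectiveResolutions X.Modules]
  {Δ : RDer.DerivedLES (pushforward f)} (E : SectCmp f Δ)

/-- **the comparison maps are locally injective** -/
theorem locally_zero : ∀ (p : ℕ) (F : X.Modules) (V : Y.Opens) (x : Coh.HHon X F (f ⁻¹ᵁ V) p),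
    E.ε V F p x = 0 → ∀ y : Y, y ∈ V →
    ∃ (W : Y.Opens) (hWV : W ≤ V), y ∈ W ∧ CohPull.resLE F (f.preimage_mono hWV) p x = 0
  | 0, F, V, x, hx, y, hy => by
    obtain ⟨s, rfl⟩ := (CohPull.sectH0 F (f ⁻¹ᵁ V)).surjective x
    rw [E.zero] at hx
    have hinj := (app_bijective_of_isIso ((pushforward f).toRightDerivedZero.app F) V).1
    have hs : s = 0 := hinj (hx.trans (map_zero _).symm)
    refine ⟨V, le_rfl, hy, ?_⟩
    rw [hs, map_zero, map_zero]
  | p + 1, F, V, x, hx, y, hy => by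
    have hS := sesM_shortExact F
    have hA := toAbOn_shortExact (f ⁻¹ᵁ V) (sesM F) hS
    obtain ⟨x', rfl⟩ := exists_extδ_eq (f ⁻¹ᵁ V) F p hA x
    have hx2 : (Δ.δ (sesM F) hS p (p + 1) rfl).app V (E.ε V (sesM F).X₃ p x') = 0 :=
      (E.delta V (sesM F) hS hA p x').symm.trans hx
    obtain ⟨W₁, hW₁V, hyW₁, t, ht⟩ := exists_local_lift_of_exact _
      (Δ.exact₃ (sesM F) hS p (p + 1) rfl) V (E.ε V (sesM F).X₃ p x') hx2 y hy
    obtain ⟨W₂, hW₂W₁, hyW₂, z, hz⟩ :=
      Groth.Agent.S16954.result f E (sesM F).X₂ p W₁ t y hyW₁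
    have hW₂V : W₂ ≤ V := hW₂W₁.trans hW₁V
    -- the class `x'|W₂ - g(z)` is killed by `ε`
    have key : E.ε W₂ (sesM F).X₃ p
        (CohPull.resLE (sesM F).X₃ (f.preimage_mono hW₂V) p x' -
          CohPull.mapH ((restrictFunctor (f ⁻¹ᵁ W₂).ι).map (sesM F).g) p z) = 0 := by
      rw [map_sub, sub_eq_zero, ← eps_resLE f E hW₂V, E.natural W₂ (sesM F).g p z, hz]
      have h1 := app_res ((Coh.Rpush f p).map (sesM F).g) hW₂W₁ t
      refine Eq.trans ?_ h1.symm
      rw [ht]
      exact (Groth.Agent.Lib.R2H2.PullOnUnit.res_res _ hW₂W₁ hW₁V _).symm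
    obtain ⟨W, hWW₂, hyW, hres⟩ := locally_zero p (sesM F).X₃ W₂ _ key y hyW₂
    refine ⟨W, hWW₂.trans hW₂V, hyW, ?_⟩
    have hAW := toAbOn_shortExact (f ⁻¹ᵁ W) (sesM F) hS
    have h1 := resLE_extδ (f.preimage_mono (hWW₂.trans hW₂V)) (sesM F) hA hAW p x'
    refine h1.trans ?_
    rw [map_sub, sub_eq_zero, resLE_resLE, resLE_mapH] at hres
    have h2 : extδ hAW p (CohPull.resLE (sesM F).X₃ (f.preimage_mono (hWW₂.trans hW₂V)) p x') =
        extδ hAW p (CohPull.mapH ((restrictFunctor (f ⁻¹ᵁ W).ι).map (sesM F).g) p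
          (CohPull.resLE (sesM F).X₂ (f.preimage_mono hWW₂) p z)) :=
      congrArg (fun t => extδ hAW p t) hres
    refine h2.trans ?_
    change extδ hAW p (Sheaf.H.map ((toAbOn X (f ⁻¹ᵁ W)).map (sesM F).g) p _) = 0
    rw [Sheaf.H.map_apply, ResDelta.extδ_apply]
    exact comp_g_extClass hAW p _

end Main

end Groth.Agent.Lib.R2H2.EpsInj
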