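import Mathlib
import Groth.Prelude
import Groth.Prelude.Def_KLin
import Groth.Prelude.Def_Formal2

/-!
# `0 → F/fF → F/f^{n+1}F → F/f^nF → 0` when `f` is a nonzerodivisor on `F` (helper4, round 2)
-/

set_option autoImplicit false
set_option linter.style.haveILetI false
set_option linter.unusedSectionVars false
universe u v w
open CategoryTheory CategoryTheory.Limits AlgebraicGeometry

noncomputable section

namespace Groth.Agent.Lib.R2H4ModPowSeq

section Abstract

variable {𝒞 : Type w} [Category.{v} 𝒞] [Abelian 𝒞]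

/-- for chosen cokernels -/
theorem cokernel_seq {A B C : 𝒞} (a : A ⟶ B) (b : B ⟶ C) [Mono b] :
    Mono (cokernel.map a (a ≫ b) (𝟙 _) b (by simp)) ∧
      (ShortComplex.mk (cokernel.map a (a ≫ b) (𝟙 _) b (by simp))
        (cokernel.map (a ≫ b) b a (𝟙 _) (by simp)) (by
          ext
          simp)).ShortExact := by
  have hS := (kernelCokernelCompSequence.snakeInput a b)
  have hex3 : (kernelCokernelCompSequence.snakeInput a b).L₃.Exact :=
    (kernelCokernelCompSequence.snakeInput a b).L₃_exact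
  have hδ : (kernelCokernelCompSequence.snakeInput a b).L₂'.f = 0 := by
    have hz : IsZero (kernel b) := isZero_kernel_of_mono b
    exact hz.eq_of_src _ _
  have hmono : Mono (kernelCokernelCompSequence.snakeInput a b).L₂'.g :=
    (kernelCokernelCompSequence.snakeInput a b).L₂'_exact.mono_g hδ
  have hmono' : Mono (cokernel.map a (a ≫ b) (𝟙 _) b (by simp)) := hmono
  have hepi : Epi (cokernel.map (a ≫ b) b a (𝟙 _) (by simp)) := by
    have h1 : cokernel.π (a ≫ b) ≫ cokernel.map (a ≫ b) b a (𝟙 _) (by simp) = cokernel.π b := by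
      simp
    exact epi_of_epi_fac h1
  refine ⟨hmono', ?_⟩
  exact ShortComplex.ShortExact.mk' hex3 hmono' hepi

/-- for arbitrary cokernels -/
theorem cokernel_seq' {A B C P Q T : 𝒞} (a : A ⟶ B) (b : B ⟶ C) (c : A ⟶ C) (hc : a ≫ b = c)
    [Mono b]
    (p : B ⟶ P) (hp : a ≫ p = 0) (hP : IsColimit (CokernelCofork.ofπ p hp))
    (q : C ⟶ Q) (hq : c ≫ q = 0) (hQ : IsColimit (CokernelCofork.ofπ q hq))
    (t : C ⟶ T) (ht : b ≫ t = 0) (hT : IsColimit (CokernelCofork.ofπ t ht))
    (i : P ⟶ Q) (hi : p ≫ i = b ≫ q) (r : Q ⟶ T) (hr : q ≫ r = t) :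
    Mono i ∧ ∃ w : i ≫ r = 0, (ShortComplex.mk i r w).ShortExact := by
  subst hc
  haveI : Epi p := epi_of_isColimit_cofork hP
  haveI : Epi q := epi_of_isColimit_cofork hQ
  let eP := hP.coconePointUniqueUpToIso (cokernelIsCokernel a)
  let eQ := hQ.coconePointUniqueUpToIso (cokernelIsCokernel (a ≫ b))
  let eT := hT.coconePointUniqueUpToIso (cokernelIsCokernel b)
  have hePπ : p ≫ eP.hom = cokernel.π a :=
    hP.comp_coconePointUniqueUpToIso_hom (cokernelIsCokernel a) WalkingParallelPair.one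
  have heQπ : q ≫ eQ.hom = cokernel.π (a ≫ b) :=
    hQ.comp_coconePointUniqueUpToIso_hom (cokernelIsCokernel (a ≫ b)) WalkingParallelPair.one
  have heTπ : t ≫ eT.hom = cokernel.π b :=
    hT.comp_coconePointUniqueUpToIso_hom (cokernelIsCokernel b) WalkingParallelPair.one
  obtain ⟨hm, hse⟩ := cokernel_seq a b
  have hi' : i = eP.hom ≫ cokernel.map a (a ≫ b) (𝟙 _) b (by simp) ≫ eQ.inv := by
    rw [← cancel_epi p, ← Category.assoc, hePπ, ← Category.assoc, cokernel.π_desc,
      Category.assoc, hi]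
    congr 1
    rw [Iso.eq_comp_inv, heQπ]
  have hr' : r = eQ.hom ≫ cokernel.map (a ≫ b) b a (𝟙 _) (by simp) ≫ eT.inv := by
    rw [← cancel_epi q, ← Category.assoc, heQπ, ← Category.assoc, cokernel.π_desc,
      Category.id_comp, hr, Iso.eq_comp_inv, heTπ]
  have hmi : Mono i := by
    rw [hi']
    infer_instance
  refine ⟨hmi, ?_⟩
  have hw : i ≫ r = 0 := by
    rw [hi', hr']
    simp only [Category.assoc, Iso.inv_hom_id_assoc]
    have h0 : cokernel.map a (a ≫ b) (𝟙 _) b (by simp) ≫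
        cokernel.map (a ≫ b) b a (𝟙 _) (by simp) = 0 := by
      ext
      simp
    rw [reassoc_of% h0]
    simp
  refine ⟨hw, ?_⟩
  let φ : ShortComplex.mk i r hw ≅ ShortComplex.mk (cokernel.map a (a ≫ b) (𝟙 _) b (by simp))
      (cokernel.map (a ≫ b) b a (𝟙 _) (by simp)) (by ext; simp) :=
    ShortComplex.isoMk eP eQ eT (by
      dsimp
      rw [hi']
      simp) (by
      dsimp
      rw [hr']
      simp)
  exact ShortComplex.shortExact_of_iso φ.symm hse

end Abstract

section Concrete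

variable {A : Type u} [CommRing A] {X : Scheme.{u}} [X.Over (Spec (CommRingCat.of A))]

theorem smulMod_eq_ι (J : Ideal A) (M : X.Modules) (a : A) (ha : a ∈ J) :
    Formal.smulMod A M a = Sigma.ι (fun _ : J => M) ⟨a, ha⟩ ≫ Formal.smulFamily J M := by
  simp [Formal.smulFamily]

theorem smulMod_mul (M : X.Modules) (a b : A) :
    Formal.smulMod A M (a * b) = Formal.smulMod A M a ≫ Formal.smulMod A M b := by
  unfold Formal.smulMod
  rw [map_mul, KLin.smulModΓ_mul]

theorem comp_smulMod {M N : X.Modules} (φ : M ⟶ N) (a : A) :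
    φ ≫ Formal.smulMod A N a = Formal.smulMod A M a ≫ φ :=
  KLin.comp_smulModΓ φ _

theorem smulMod_one (M : X.Modules) : Formal.smulMod A M (1 : A) = 𝟙 M := by
  unfold Formal.smulMod
  rw [map_one, KLin.smulModΓ_one]

theorem smulMod_pow_succ (M : X.Modules) (f : A) (n : ℕ) :
    Formal.smulMod A M (f ^ (n + 1)) = Formal.smulMod A M f ≫ Formal.smulMod A M (f ^ n) := by
  rw [pow_succ', smulMod_mul]

theorem mono_smulMod_pow (M : X.Modules) (f : A) (hF : Mono (Formal.smulMod A M f)) (n : ℕ) :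
    Mono (Formal.smulMod A M (f ^ n)) := by
  induction n with
  | zero =>
    rw [pow_zero, smulMod_one]
    infer_instance
  | succ n ih =>
    rw [smulMod_pow_succ]
    exact mono_comp _ _

theorem smulMod_modPowπ (f : A) (k : ℕ) (F : X.Modules) :
    Formal.smulMod A F (f ^ k) ≫ Formal.modPowπ (Ideal.span ({f} : Set A)) k F = 0 := by
  rw [smulMod_eq_ι (Ideal.span ({f} : Set A) ^ k) F (f ^ k)
    (Ideal.pow_mem_pow (Ideal.mem_span_singleton_self f) k), Category.assoc]
  have h : Formal.smulFamily (Ideal.span ({f} : Set A) ^ k) F ≫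
      Formal.modPowπ (Ideal.span ({f} : Set A)) k F = 0 :=
    cokernel.condition (Formal.smulFamily (Ideal.span ({f} : Set A) ^ k) F)
  rw [h, comp_zero]

theorem smulFamily_comp_eq_zero (f : A) (k : ℕ) (F : X.Modules) {Z : X.Modules} (g : F ⟶ Z)
    (hg : Formal.smulMod A F (f ^ k) ≫ g = 0) :
    Formal.smulFamily (Ideal.span ({f} : Set A) ^ k) F ≫ g = 0 := by
  apply Sigma.hom_ext
  rintro ⟨a, ha⟩
  have ha' := ha
  rw [Ideal.span_singleton_pow, Ideal.mem_span_singleton'] at ha'
  obtain ⟨c, hc⟩ := ha'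
  rw [comp_zero, ← Category.assoc, ← smulMod_eq_ι _ F a ha, ← hc, smulMod_mul, Category.assoc, hg,
    comp_zero]

instance (I : Ideal A) (k : ℕ) (F : X.Modules) : Epi (Formal.modPowπ I k F) := by
  exact (inferInstance : Epi (cokernel.π (Formal.smulFamily (I ^ k) F)))

/-- `F ⟶ F/f^kF` is a cokernel of multiplication by `f^k`. -/
def isColimitModPowπ (f : A) (k : ℕ) (F : X.Modules) :
    IsColimit (CokernelCofork.ofπ (Formal.modPowπ (Ideal.span ({f} : Set A)) k F)
      (smulMod_modPowπ f k F)) :=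
  CokernelCofork.IsColimit.ofπ' _ _ (fun {_} g hg =>
    ⟨cokernel.desc _ g (smulFamily_comp_eq_zero f k F g hg), cokernel.π_desc _ _ _⟩)

theorem main (f : A) (F : X.Modules) (hF : Mono (Formal.smulMod A F f)) (n : ℕ) :
    ∃ i : Formal.modPow (Ideal.span ({f} : Set A)) 1 F ⟶
        Formal.modPow (Ideal.span ({f} : Set A)) (n + 1) F,
      Mono i ∧
      Formal2.modPowLE (Ideal.span ({f} : Set A)) (Nat.le_add_left 1 n) F ≫ i =
        Formal.smulMod A (Formal.modPow (Ideal.span ({f} : Set A)) (n + 1) F) (f ^ n) ∧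
      ∃ w : i ≫ Formal.modPowTrans (Ideal.span ({f} : Set A)) n F = 0,
        (ShortComplex.mk i (Formal.modPowTrans (Ideal.span ({f} : Set A)) n F) w).ShortExact := by
  haveI : Mono (Formal.smulMod A F (f ^ n)) := mono_smulMod_pow F f hF n
  have hc : Formal.smulMod A F (f ^ 1) ≫ Formal.smulMod A F (f ^ n) =
      Formal.smulMod A F (f ^ (n + 1)) := by
    rw [pow_one, smulMod_pow_succ]
  -- the map `i`
  have hdesc : Formal.smulMod A F (f ^ 1) ≫
      (Formal.smulMod A F (f ^ n) ≫ Formal.modPowπ (Ideal.span ({f} : Set A)) (n + 1) F) = 0 := by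
    rw [← Category.assoc, hc, smulMod_modPowπ]
  let i : Formal.modPow (Ideal.span ({f} : Set A)) 1 F ⟶
      Formal.modPow (Ideal.span ({f} : Set A)) (n + 1) F :=
    (isColimitModPowπ f 1 F).desc (CokernelCofork.ofπ _ hdesc)
  have hi : Formal.modPowπ (Ideal.span ({f} : Set A)) 1 F ≫ i =
      Formal.smulMod A F (f ^ n) ≫ Formal.modPowπ (Ideal.span ({f} : Set A)) (n + 1) F :=
    (isColimitModPowπ f 1 F).fac (CokernelCofork.ofπ _ hdesc) WalkingParallelPair.one
  obtain ⟨hm, w, hse⟩ := cokernel_seq' (Formal.smulMod A F (f ^ 1)) (Formal.smulMod A F (f ^ n))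
    (Formal.smulMod A F (f ^ (n + 1))) hc
    (Formal.modPowπ (Ideal.span ({f} : Set A)) 1 F) (smulMod_modPowπ f 1 F) (isColimitModPowπ f 1 F)
    (Formal.modPowπ (Ideal.span ({f} : Set A)) (n + 1) F) (smulMod_modPowπ f (n + 1) F)
    (isColimitModPowπ f (n + 1) F)
    (Formal.modPowπ (Ideal.span ({f} : Set A)) n F) (smulMod_modPowπ f n F) (isColimitModPowπ f n F)
    i hi (Formal.modPowTrans (Ideal.span ({f} : Set A)) n F) (Formal.modPowπ_trans _ n F)
  refine ⟨i, hm, ?_, w, hse⟩
  rw [← cancel_epi (Formal.modPowπ (Ideal.span ({f} : Set A)) (n + 1) F), ← Category.assoc,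
    Formal2.modPowπ_modPowLE, hi, comp_smulMod]

end Concrete

end Groth.Agent.Lib.R2H4ModPowSeq
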