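import Mathlib
import Groth.Prelude.Def_Formal
import Groth.Agent.S9530
import Groth.Agent.Lib.R2H2FlatDev
import Groth.Agent.Lib.H9ZarModPow
import Groth.Agent.Lib.R2H4ModPowSeq
import Groth.Agent.Lib.Helper23FinTypeLocal

/-!
# Toolkit for coherent formal modules (lead, round 2)

`X` a scheme over `Spec A`, `I` an ideal of `A`.

* `modJMap J f : M/JM ⟶ N/JN`, functoriality of `modJ`; `descJ` (universal property).
* `killedBy_modJ`, `killedBy_of_epi`, `killedBy_of_mono`, `killedBy_of_le`.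
* `isCokernel_modLE`: `M/JM ⟶ M/J'M` is the quotient of `M/JM` by `J'`.
* `isCohFormal_completion`: the completion of a coherent module is a coherent formal module.
* `ofFamily`: morphisms of systems `completion I E ⟶ G` from compatible families `E ⟶ G_n`.
* `isZero_of_epi_smulFamily`: nilpotent Nakayama for modules.
-/

set_option autoImplicit false
set_option linter.style.haveILetI false
universe u
open CategoryTheory CategoryTheory.Limits AlgebraicGeometry TopologicalSpace Opposite

namespace Groth.Agent.Lib.R2Lead.CohFormalA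

open Groth.Agent.Lib.R2H2.FlatDev

variable {A : Type u} [CommRing A] {X : Scheme.{u}} [X.Over (Spec (CommRingCat.of A))]

/-! ### killed modules -/

theorem killedBy_modJ (J : Ideal A) (M : X.Modules) : Formal.KilledBy J (modJ J M) :=
  fun a ha => Groth.Agent.Lib.H9ZarModPow.smulMod_cokernel_eq_zero J M a ha

theorem killedBy_of_le {J J' : Ideal A} (h : J' ≤ J) {M : X.Modules} (hM : Formal.KilledBy J M) :
    Formal.KilledBy J' M := fun a ha => hM a (h ha)

theorem killedBy_of_epi {J : Ideal A} {M N : X.Modules} (f : M ⟶ N) [Epi f]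
    (hM : Formal.KilledBy J M) : Formal.KilledBy J N := by
  intro a ha
  rw [← cancel_epi f, comp_zero, ← Groth.Agent.S9530.smulMod_comp, hM a ha, zero_comp]

theorem killedBy_of_mono {J : Ideal A} {M N : X.Modules} (f : M ⟶ N) [Mono f]
    (hN : Formal.KilledBy J N) : Formal.KilledBy J M := by
  intro a ha
  rw [← cancel_mono f, zero_comp, Groth.Agent.S9530.smulMod_comp, hN a ha, comp_zero]

theorem smulFamily_comp_eq_zero_of_killedBy {J : Ideal A} {M T : X.Modules} (g : M ⟶ T)
    (hT : Formal.KilledBy J T) : Formal.smulFamily J M ≫ g = 0 := by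
  rw [Groth.Agent.S9530.smulFamily_comp_eq_zero_iff]
  intro a ha
  rw [Groth.Agent.S9530.smulMod_comp, hT a ha, comp_zero]

/-! ### functoriality of `modJ` -/

/-- universal property of `M/JM` -/
noncomputable def descJ (J : Ideal A) {M T : X.Modules} (g : M ⟶ T) (hT : Formal.KilledBy J T) :
    modJ J M ⟶ T :=
  cokernel.desc _ g (smulFamily_comp_eq_zero_of_killedBy g hT)

@[reassoc (attr := simp)]
theorem πJ_descJ (J : Ideal A) {M T : X.Modules} (g : M ⟶ T) (hT : Formal.KilledBy J T) :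
    πJ J M ≫ descJ J g hT = g := cokernel.π_desc _ _ _

/-- `M/JM ⟶ N/JN` -/
noncomputable def modJMap (J : Ideal A) {M N : X.Modules} (f : M ⟶ N) : modJ J M ⟶ modJ J N :=
  descJ J (f ≫ πJ J N) (killedBy_modJ J N)

@[reassoc (attr := simp)]
theorem πJ_modJMap (J : Ideal A) {M N : X.Modules} (f : M ⟶ N) :
    πJ J M ≫ modJMap J f = f ≫ πJ J N := πJ_descJ _ _ _

theorem modJMap_id (J : Ideal A) (M : X.Modules) : modJMap J (𝟙 M) = 𝟙 _ := by
  rw [← cancel_epi (πJ J M), πJ_modJMap, Category.id_comp, Category.comp_id]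

theorem modJMap_comp (J : Ideal A) {M N P : X.Modules} (f : M ⟶ N) (g : N ⟶ P) :
    modJMap J (f ≫ g) = modJMap J f ≫ modJMap J g := by
  rw [← cancel_epi (πJ J M), πJ_modJMap, πJ_modJMap_assoc, πJ_modJMap, Category.assoc]

instance epi_modJMap (J : Ideal A) {M N : X.Modules} (f : M ⟶ N) [Epi f] : Epi (modJMap J f) := by
  have h : Epi (πJ J M ≫ modJMap J f) := by
    rw [πJ_modJMap]
    infer_instance
  exact epi_of_epi (πJ J M) (modJMap J f)

theorem modJMap_modLE {J J' : Ideal A} (h : J ≤ J') {M N : X.Modules} (f : M ⟶ N) :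
    modJMap J f ≫ modLE h N = modLE h M ≫ modJMap J' f := by
  rw [← cancel_epi (πJ J M), πJ_modJMap_assoc, πJ_modLE, πJ_modLE_assoc, πJ_modJMap]

theorem descJ_comp (J : Ideal A) {M T T' : X.Modules} (g : M ⟶ T) (hT : Formal.KilledBy J T)
    (k : T ⟶ T') (hT' : Formal.KilledBy J T') : descJ J g hT ≫ k = descJ J (g ≫ k) hT' := by
  rw [← cancel_epi (πJ J M), πJ_descJ_assoc, πJ_descJ]

theorem modJMap_descJ (J : Ideal A) {M N T : X.Modules} (f : M ⟶ N) (g : N ⟶ T)
    (hT : Formal.KilledBy J T) : modJMap J f ≫ descJ J g hT = descJ J (f ≫ g) hT := by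
  rw [← cancel_epi (πJ J M), πJ_modJMap_assoc, πJ_descJ, πJ_descJ]

/-- an isomorphism `M/JM ≅ T` from a quotient map `g : M ⟶ T` with the universal property -/
theorem isIso_descJ (J : Ideal A) {M T : X.Modules} (g : M ⟶ T) [Epi g] (hT : Formal.KilledBy J T)
    (huniv : ∃ k : T ⟶ modJ J M, g ≫ k = πJ J M) : IsIso (descJ J g hT) := by
  obtain ⟨k, hk⟩ := huniv
  refine ⟨k, ?_, ?_⟩
  · rw [← cancel_epi (πJ J M), πJ_descJ_assoc, hk, Category.comp_id]
  · rw [← cancel_epi g, ← Category.assoc, hk, πJ_descJ, Category.comp_id]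

/-! ### `modLE` is a quotient by `J'` -/

theorem exists_isIso_desc_modLE {J J' : Ideal A} (h : J ≤ J') (M : X.Modules) :
    ∃ h0 : Formal.smulFamily J' (modJ J M) ≫ modLE h M = 0, IsIso (cokernel.desc _ _ h0) := by
  refine ⟨smulFamily_comp_eq_zero_of_killedBy _ (killedBy_modJ J' M), ?_⟩
  change IsIso (descJ J' (modLE h M) (killedBy_modJ J' M))
  apply isIso_descJ
  refine ⟨descJ J' (πJ J M ≫ πJ J' (modJ J M)) (killedBy_modJ J' _), ?_⟩
  rw [← cancel_epi (πJ J M), πJ_modLE_assoc, πJ_descJ]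

/-! ### the completion of a coherent module -/

theorem completion_map_succ (I : Ideal A) (E : X.Modules) (n : ℕ) :
    (Formal.completion I E).map (homOfLE (Nat.le_succ n)).op = Formal.modPowTrans I (n + 1) E :=
  Functor.ofOpSequence_map_homOfLE_succ _ n

theorem isCoh_modJ (J : Ideal A) {E : X.Modules} (hE : Coh.IsCoh E) : Coh.IsCoh (modJ J E) := by
  haveI : E.IsQuasicoherent := hE.1
  haveI : SheafOfModules.IsFiniteType (R := X.ringCatSheaf) E := hE.2
  exact ⟨inferInstance, Groth.Agent.Lib.Helper23.FinType.isFiniteType_of_epi (πJ J E)⟩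

theorem isCohFormal_completion (I : Ideal A) {E : X.Modules} (hE : Coh.IsCoh E) :
    Formal.IsCohFormal I (Formal.completion I E) := by
  refine ⟨fun n => isCoh_modJ (I ^ (n + 1)) hE, fun n => killedBy_modJ (I ^ (n + 1)) E, fun n => ?_⟩
  rw [completion_map_succ]
  exact exists_isIso_desc_modLE (Ideal.pow_le_pow_right (Nat.le_succ (n + 1))) E

/-! ### morphisms out of a completion -/

section ofFamily

variable {I : Ideal A} {E : X.Modules} {G : ℕᵒᵖ ⥤ X.Modules}

/-- the morphism of systems `(E/I^{n+1}E) ⟶ G` defined by a compatible family `E ⟶ G_n` -/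
noncomputable def ofFamily (hG : ∀ n, Formal.KilledBy (I ^ (n + 1)) (G.obj (op n)))
    (s : ∀ n, E ⟶ G.obj (op n))
    (hs : ∀ n, s (n + 1) ≫ G.map (homOfLE (Nat.le_succ n)).op = s n) :
    Formal.completion I E ⟶ G :=
  NatTrans.ofOpSequence (fun n => descJ (I ^ (n + 1)) (s n) (hG n)) (by
    intro n
    have h1 : (Formal.completion I E).map (homOfLE (n.le_add_right 1)).op =
        Formal.modPowTrans I (n + 1) E := Functor.ofOpSequence_map_homOfLE_succ _ n
    refine (congrArg (fun k => k ≫ descJ (I ^ (n + 1)) (s n) (hG n)) h1).trans ?_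
    have key : modLE (Ideal.pow_le_pow_right (Nat.le_succ (n + 1))) E ≫
        descJ (I ^ (n + 1)) (s n) (hG n) =
        descJ (I ^ (n + 1 + 1)) (s (n + 1)) (hG (n + 1)) ≫ G.map (homOfLE (Nat.le_succ n)).op := by
      rw [← cancel_epi (πJ (I ^ (n + 1 + 1)) E), πJ_modLE_assoc, πJ_descJ, πJ_descJ_assoc]
      exact (hs n).symm
    exact key)

variable (hG : ∀ n, Formal.KilledBy (I ^ (n + 1)) (G.obj (op n)))
  (s : ∀ n, E ⟶ G.obj (op n))
  (hs : ∀ n, s (n + 1) ≫ G.map (homOfLE (Nat.le_succ n)).op = s n)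

theorem π_ofFamily_app (n : ℕ) :
    Formal.modPowπ I (n + 1) E ≫ (ofFamily hG s hs).app (op n) = s n := by
  change πJ (I ^ (n + 1)) E ≫ descJ (I ^ (n + 1)) (s n) (hG n) = s n
  exact πJ_descJ _ _ _

theorem epi_ofFamily_app (n : ℕ) [Epi (s n)] : Epi ((ofFamily hG s hs).app (op n)) := by
  have h : Epi (Formal.modPowπ I (n + 1) E ≫ (ofFamily hG s hs).app (op n)) := by
    rw [π_ofFamily_app]
    infer_instance
  exact epi_of_epi (Formal.modPowπ I (n + 1) E) _

end ofFamily

/-! ### nilpotent Nakayama -/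

theorem epi_smulFamily_mul {J J' : Ideal A} (C : X.Modules) (h : Epi (Formal.smulFamily J C))
    (h' : Epi (Formal.smulFamily J' C)) : Epi (Formal.smulFamily (J * J') C) := by
  constructor
  intro T g₁ g₂ hg
  have key : ∀ (a : A) (ha : a ∈ J) (b : A) (hb : b ∈ J'),
      Formal.smulMod A C a ≫ Formal.smulMod A C b ≫ g₁ =
        Formal.smulMod A C a ≫ Formal.smulMod A C b ≫ g₂ := by
    intro a ha b hb
    have h1 := congrArg (fun k => Sigma.ι (fun _ : ↥(J * J') => C) ⟨a * b, Ideal.mul_mem_mul ha hb⟩ ≫ k) hg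
    simp only [Formal.smulFamily, colimit.ι_desc_assoc, Cofan.mk_ι_app] at h1
    rw [Groth.Agent.Lib.R2H4ModPowSeq.smulMod_mul] at h1
    simpa [Category.assoc] using h1
  have h2 : ∀ (b : A) (hb : b ∈ J'), Formal.smulMod A C b ≫ g₁ = Formal.smulMod A C b ≫ g₂ := by
    intro b hb
    rw [← cancel_epi (Formal.smulFamily J C)]
    apply Sigma.hom_ext
    intro a
    simp only [Formal.smulFamily, colimit.ι_desc_assoc, Cofan.mk_ι_app]
    exact key a.1 a.2 b hb
  rw [← cancel_epi (Formal.smulFamily J' C)]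
  apply Sigma.hom_ext
  intro b
  simp only [Formal.smulFamily, colimit.ι_desc_assoc, Cofan.mk_ι_app]
  exact h2 b.1 b.2

theorem isZero_of_epi_smulFamily {J : Ideal A} (C : X.Modules) (h : Epi (Formal.smulFamily J C))
    (hk : Formal.KilledBy (J * J) C) : IsZero C := by
  have h2 := epi_smulFamily_mul C h h
  have h0 : Formal.smulFamily (J * J) C = 0 := by
    apply Sigma.hom_ext
    intro a
    simp only [Formal.smulFamily, colimit.ι_desc, Cofan.mk_ι_app, comp_zero]
    exact hk a.1 a.2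
  rw [h0] at h2
  rw [IsZero.iff_id_eq_zero, ← cancel_epi (0 : (∐ fun _ : ↥(J * J) => C) ⟶ C), zero_comp, zero_comp]

end Groth.Agent.Lib.R2Lead.CohFormalA
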