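import Mathlib
import Groth.Prelude.Def_Formal
import Groth.Agent.S9530
import Groth.Agent.Lib.R2H2FlatDev
import Groth.Agent.Lib.R2LeadCohFormalA
import Groth.Agent.Lib.Helper23FinTypeLocal
import Groth.Agent.Lib.Helper23QCohAbelian

/-!
# From a presentation of a coherent formal module by completions to an algebraization (helper2)

`exists_iso_completion_of_presentation`: if `G` is a system which is, termwise, the cokernel of
`(φ' ≫ j)_n : E'/I^{n+1}E' ⟶ E/I^{n+1}E` and this map is induced by `a : E' ⟶ E`, then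
`G ≅ completion I (cokernel a)`.
-/

set_option backward.isDefEq.respectTransparency.types false
set_option autoImplicit false
set_option linter.style.haveILetI false
universe u
open CategoryTheory CategoryTheory.Limits AlgebraicGeometry TopologicalSpace Opposite

namespace Groth.Agent.Lib.R2H2.ExistPres

open Groth.Agent.Lib.R2H2.FlatDev Groth.Agent.Lib.R2Lead.CohFormalA

variable {A : Type u} [CommRing A] {X : Scheme.{u}} [X.Over (Spec (CommRingCat.of A))]

theorem isCoh_cokernel {E' E : X.Modules} (hE' : Coh.IsCoh E') (hE : Coh.IsCoh E) (a : E' ⟶ E) :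
    Coh.IsCoh (cokernel a) := by
  haveI : E'.IsQuasicoherent := hE'.1
  haveI : E.IsQuasicoherent := hE.1
  haveI : SheafOfModules.IsFiniteType (R := X.ringCatSheaf) E := hE.2
  haveI : (cokernel a).IsQuasicoherent :=
    Groth.Agent.Lib.Helper23.QCohLocal.isQuasicoherent_cokernel a
  exact ⟨inferInstance, Groth.Agent.Lib.Helper23.FinType.isFiniteType_of_epi (cokernel.π a)⟩

theorem completion_obj (I : Ideal A) (E : X.Modules) (n : ℕ) :
    (Formal.completion I E).obj (op n) = modJ (I ^ (n + 1)) E := rfl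

section abstract

variable {C : Type*} [Category C] [Abelian C]

theorem comp_eq_zero_aux {E' E P' P Gn : C} (a : E' ⟶ E) (p' : E' ⟶ P') (p : E ⟶ P)
    (f'j : P' ⟶ P) (fn : P ⟶ Gn) (ha : p' ≫ f'j = a ≫ p) (h0 : f'j ≫ fn = 0) :
    a ≫ p ≫ fn = 0 := by
  rw [← Category.assoc, ← ha, Category.assoc, h0, comp_zero]

theorem trans_aux {E P1 P0 G1 G0 : C} (p1 : E ⟶ P1) (p0 : E ⟶ P0) (tr : P1 ⟶ P0)
    (h : p1 ≫ tr = p0) (f1 : P1 ⟶ G1) (f0 : P0 ⟶ G0) (g : G1 ⟶ G0) (nat : tr ≫ f0 = f1 ≫ g) :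
    (p1 ≫ f1) ≫ g = p0 ≫ f0 := by
  rw [Category.assoc, ← nat, ← Category.assoc, h]

theorem key_aux {E M P PM Gn : C} (p : E ⟶ P) (hp : Epi p) (mπ : P ⟶ PM) (π : E ⟶ M)
    (pM : M ⟶ PM) (hmπ : p ≫ mπ = π ≫ pM) (θ : PM ⟶ Gn) (s : M ⟶ Gn) (hθ : pM ≫ θ = s)
    (fn : P ⟶ Gn) (hs : π ≫ s = p ≫ fn) : mπ ≫ θ = fn := by
  rw [← cancel_epi p, ← Category.assoc, hmπ, Category.assoc, hθ, hs]

theorem isIso_of_presentation {E' E M P' P PM K Gn : C}
    (a : E' ⟶ E) (π : E ⟶ M) (haπ : a ≫ π = 0) (p' : E' ⟶ P') (_ : Epi p') (p : E ⟶ P)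
    (pM : M ⟶ PM) (mπ : P ⟶ PM) (_ : Epi mπ) (hmπ : p ≫ mπ = π ≫ pM) (f' : P' ⟶ K) (_ : Epi f')
    (jn : K ⟶ P) (fn : P ⟶ Gn) (_ : Epi fn)
    (hj : ∀ (Z : C) (g : P ⟶ Z), jn ≫ g = 0 → kernel.ι fn ≫ g = 0)
    (ha : p' ≫ f' ≫ jn = a ≫ p) (θ : PM ⟶ Gn) (hθ : mπ ≫ θ = fn) : IsIso θ := by
  have h0 : jn ≫ mπ = 0 := by
    rw [← cancel_epi f', ← cancel_epi p', comp_zero, comp_zero]
    have h3 : p' ≫ f' ≫ jn ≫ mπ = (p' ≫ f' ≫ jn) ≫ mπ := by simp only [Category.assoc]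
    rw [h3, ha, Category.assoc, hmπ, ← Category.assoc, haπ, zero_comp]
  have h5 := hj _ _ h0
  refine ⟨Abelian.epiDesc fn mπ h5, ?_, ?_⟩
  · rw [← cancel_epi mπ, ← Category.assoc, hθ, Abelian.comp_epiDesc, Category.comp_id]
  · rw [← cancel_epi fn, ← Category.assoc, Abelian.comp_epiDesc, hθ, Category.comp_id]

end abstract

/-- the main abstract statement, without coherence: the system `G` is the completion of
`cokernel a`. -/
theorem nonempty_iso_completion (I : Ideal A) {E E' : X.Modules} {G K' : ℕᵒᵖ ⥤ X.Modules}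
    (φ : Formal.completion I E ⟶ G) (hφ : ∀ n, Epi (φ.app (op n)))
    (j : K' ⟶ Formal.completion I E) (hj0 : ∀ n, j.app (op n) ≫ φ.app (op n) = 0)
    (hj : ∀ n (Z : X.Modules) (g : (Formal.completion I E).obj (op n) ⟶ Z),
      j.app (op n) ≫ g = 0 → kernel.ι (φ.app (op n)) ≫ g = 0)
    (φ' : Formal.completion I E' ⟶ K') (hφ' : ∀ n, Epi (φ'.app (op n)))
    (a : E' ⟶ E)
    (ha : ∀ n, Formal.modPowπ I (n + 1) E' ≫ (φ' ≫ j).app (op n) =
      a ≫ Formal.modPowπ I (n + 1) E) :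
    Nonempty (Formal.completion I (cokernel a) ≅ G) := by
  -- `G_n` is killed by `I^(n+1)`
  have hG : ∀ n, Formal.KilledBy (I ^ (n + 1)) (G.obj (op n)) := fun n => by
    haveI := hφ n
    exact killedBy_of_epi (φ.app (op n)) (killedBy_modJ (I ^ (n + 1)) E)
  -- the maps `E ⟶ G_n`
  let t : ∀ n, E ⟶ G.obj (op n) := fun n => Formal.modPowπ I (n + 1) E ≫ φ.app (op n)
  have hat : ∀ n, a ≫ t n = 0 := fun n => by
    have h0 : (φ' ≫ j).app (op n) ≫ φ.app (op n) = 0 := by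
      rw [NatTrans.comp_app, Category.assoc, hj0 n, comp_zero]
    exact comp_eq_zero_aux a (Formal.modPowπ I (n + 1) E') (Formal.modPowπ I (n + 1) E)
      ((φ' ≫ j).app (op n)) (φ.app (op n)) (ha n) h0
  have htt : ∀ n, t (n + 1) ≫ G.map (homOfLE (Nat.le_succ n)).op = t n := fun n => by
    have nat := φ.naturality (homOfLE (Nat.le_succ n)).op
    rw [completion_map_succ] at nat
    exact trans_aux (Formal.modPowπ I (n + 1 + 1) E) (Formal.modPowπ I (n + 1) E)
      (Formal.modPowTrans I (n + 1) E) (Formal.modPowπ_trans I (n + 1) E) (φ.app (op (n + 1)))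
      (φ.app (op n)) (G.map (homOfLE (Nat.le_succ n)).op) nat
  -- the maps `M ⟶ G_n`
  let s : ∀ n, cokernel a ⟶ G.obj (op n) := fun n => cokernel.desc a (t n) (hat n)
  have hs : ∀ n, s (n + 1) ≫ G.map (homOfLE (Nat.le_succ n)).op = s n := fun n => by
    rw [← cancel_epi (cokernel.π a)]
    have h1 : cokernel.π a ≫ s (n + 1) = t (n + 1) := cokernel.π_desc _ _ _
    have h2 : cokernel.π a ≫ s n = t n := cokernel.π_desc _ _ _
    rw [← Category.assoc, h1, h2, htt]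
  let Θ : Formal.completion I (cokernel a) ⟶ G := ofFamily hG s hs
  have hΘ : ∀ n, Formal.modPowπ I (n + 1) (cokernel a) ≫ Θ.app (op n) = s n :=
    fun n => π_ofFamily_app hG s hs n
  -- each `Θ_n` is an isomorphism
  have hiso : ∀ n, IsIso (Θ.app (op n)) := fun n => by
    haveI := hφ n
    haveI := hφ' n
    have hp' : Epi (Formal.modPowπ I (n + 1) E') := inferInstanceAs (Epi (cokernel.π _))
    have hp : Epi (Formal.modPowπ I (n + 1) E) := inferInstanceAs (Epi (cokernel.π _))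
    have hm : Epi (modJMap (I ^ (n + 1)) (cokernel.π a)) := epi_modJMap _ _
    have ha' : Formal.modPowπ I (n + 1) E' ≫ φ'.app (op n) ≫ j.app (op n) =
        a ≫ Formal.modPowπ I (n + 1) E := ha n
    have hmπ : Formal.modPowπ I (n + 1) E ≫ modJMap (I ^ (n + 1)) (cokernel.π a) =
        cokernel.π a ≫ Formal.modPowπ I (n + 1) (cokernel a) := πJ_modJMap _ _
    -- the key compatibility: `modJMap π ≫ Θ_n = φ_n`
    have hs' : cokernel.π a ≫ s n = Formal.modPowπ I (n + 1) E ≫ φ.app (op n) :=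
      cokernel.π_desc _ _ _
    have hkey := key_aux (Formal.modPowπ I (n + 1) E) hp (modJMap (I ^ (n + 1)) (cokernel.π a))
      (cokernel.π a) (Formal.modPowπ I (n + 1) (cokernel a)) hmπ (Θ.app (op n)) (s n) (hΘ n)
      (φ.app (op n)) hs'
    exact isIso_of_presentation a (cokernel.π a) (cokernel.condition a)
      (Formal.modPowπ I (n + 1) E') hp' (Formal.modPowπ I (n + 1) E)
      (Formal.modPowπ I (n + 1) (cokernel a)) (modJMap (I ^ (n + 1)) (cokernel.π a)) hm hmπ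
      (φ'.app (op n)) (hφ' n) (j.app (op n)) (φ.app (op n)) (hφ n) (hj n) ha' (Θ.app (op n)) hkey
  haveI : ∀ k : ℕᵒᵖ, IsIso (Θ.app k) := fun k => hiso k.unop
  haveI : IsIso Θ := NatIso.isIso_of_isIso_app Θ
  exact ⟨asIso Θ⟩

/-- **Piece (D) for the existence theorem.** -/
theorem exists_iso_completion_of_presentation [IsLocallyNoetherian X] (I : Ideal A)
    {E E' : X.Modules} (hE : Coh.IsCoh E) (hE' : Coh.IsCoh E') {G K' : ℕᵒᵖ ⥤ X.Modules}
    (φ : Formal.completion I E ⟶ G) (hφ : ∀ n, Epi (φ.app (op n)))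
    (j : K' ⟶ Formal.completion I E) (hj0 : ∀ n, j.app (op n) ≫ φ.app (op n) = 0)
    (hj : ∀ n (Z : X.Modules) (g : (Formal.completion I E).obj (op n) ⟶ Z),
      j.app (op n) ≫ g = 0 → kernel.ι (φ.app (op n)) ≫ g = 0)
    (φ' : Formal.completion I E' ⟶ K') (hφ' : ∀ n, Epi (φ'.app (op n)))
    (a : E' ⟶ E)
    (ha : ∀ n, Formal.modPowπ I (n + 1) E' ≫ (φ' ≫ j).app (op n) =
      a ≫ Formal.modPowπ I (n + 1) E) :
    ∃ M : X.Modules, Coh.IsCoh M ∧ Nonempty (Formal.completion I M ≅ G) :=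
  ⟨cokernel a, isCoh_cokernel hE' hE a,
    nonempty_iso_completion I φ hφ j hj0 hj φ' hφ' a ha⟩

end Groth.Agent.Lib.R2H2.ExistPres
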