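import Mathlib
import Groth.Prelude.Def_ExtPow2

/-!
# A module is its own first exterior power (helper2, round 2)
-/

set_option backward.isDefEq.respectTransparency.types false
set_option autoImplicit false

universe u

namespace Groth.Agent.Lib.R2H2.ExtPowOne

open CategoryTheory AlgebraicGeometry Opposite TopologicalSpace

variable {X : Scheme.{u}}

theorem isExtPow_one (E : X.Modules) : ExtPow.IsExtPow 1 E E := by
  refine ⟨fun U => (exteriorPower.oneEquiv Γ(X, U.1) (E.val.obj (op U.1))).symm, ?_⟩
  intro U V h e
  simp only [LinearEquiv.symm_symm]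
  rw [exteriorPower.oneEquiv_ιMulti, exteriorPower.oneEquiv_ιMulti]

end Groth.Agent.Lib.R2H2.ExtPowOne
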