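import Groth.Agent.Lib.R2H2KoszTwB

/-!
# `Λ^k (E ⊗ L) ≅ Λ^k E ⊗ L^{⊗ k}` for `L` invertible (helper2, round 2)

Namespace `Groth.Agent.Lib.R2H2.ExtPowTw`.
* `dLin`, `d_formula`, `dLin_nat`, `dLin_bijective`.
* `theHom`, `theHom_formula`, `isIso_theHom`.
* `nonempty_iso` (S15827).
-/

set_option backward.isDefEq.respectTransparency.types false
set_option autoImplicit false
set_option linter.unusedSectionVars false
universe u

namespace Groth.Agent.Lib.R2H2.ExtPowTw

open CategoryTheory CategoryTheory.Limits AlgebraicGeometry Opposite TopologicalSpace exteriorPower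
open Groth.Agent.Lib.Helper23.SecTw Groth.Agent.Lib.Helper6 Groth.Agent.Lib.Helper23.GenLocus
open Groth.Agent.Lib.R2H2.KoszMap Groth.Agent.Lib.R2H2.KoszTwA Groth.Agent.Lib.R2H2.KoszTwB

variable {X : Scheme.{u}}

/-- a morphism of modules that is bijective on the members of a basis of opens is an isomorphism -/
theorem isIso_of_bijective_on_basis {M N : X.Modules} (φ : M ⟶ N) {ι : Type u}
    (B : ι → X.Opens) (hB : Opens.IsBasis (Set.range B))
    (hφ : ∀ i, Function.Bijective (φ.app (B i))) : IsIso φ := by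
  let α : (⟨M.presheaf, M.isSheaf⟩ : TopCat.Sheaf Ab X) ⟶ ⟨N.presheaf, N.isSheaf⟩ :=
    ⟨φ.mapPresheaf⟩
  have h1 : IsIso α := TopCat.Sheaf.isIso_iff_isIso_basis (B := B) hB fun i =>
    (ConcreteCategory.isIso_iff_bijective _).2 (hφ i)
  have h2 : IsIso ((Scheme.Modules.toPresheaf X).map φ) := by
    have : IsIso ((TopCat.Sheaf.forget Ab X).map α) := Functor.map_isIso _ α
    exact this
  exact isIso_of_reflects_iso φ (Scheme.Modules.toPresheaf X)

section Main

variable {E L M N : X.Modules} (k : ℕ)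
  (φM : ∀ U : X.affineOpens, Γ(M, U.1) ≃ₗ[Γ(X, U.1)] ↥(⋀[Γ(X, U.1)]^k Γ(CohB1.tensorMod E L, U.1)))
  (hφM : ∀ (U V : X.affineOpens) (h : V.1 ≤ U.1) (e : Fin k → Γ(CohB1.tensorMod E L, U.1)),
      M.val.map (homOfLE h).op ((φM U).symm (ιMulti _ k e)) =
        (φM V).symm (ιMulti _ k (fun j => (CohB1.tensorMod E L).val.map (homOfLE h).op (e j))))
  (φN : ∀ U : X.affineOpens, Γ(N, U.1) ≃ₗ[Γ(X, U.1)] ↥(⋀[Γ(X, U.1)]^k Γ(E, U.1)))
  (hφN : ∀ (U V : X.affineOpens) (h : V.1 ≤ U.1) (e : Fin k → Γ(E, U.1)),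
      N.val.map (homOfLE h).op ((φN U).symm (ιMulti _ k e)) =
        (φN V).symm (ιMulti _ k (fun j => E.val.map (homOfLE h).op (e j))))

/-- the local component -/
noncomputable def dLin (U : X.affineOpens) (g : Γ(L, U.1)) (hg : IsGen L U.1 g) :
    Γ(M, U.1) →ₗ[Γ(X, U.1)] Γ(CohB1.tensorMod N (CohB1.tensorPow L k), U.1) :=
  tmR N (CohB1.tensorPow L k) U.1 (pw L U.1 g k) ∘ₗ (φN U).symm.toLinearMap ∘ₗ
    exteriorPower.map k (tmEquiv (F := E) U.1 g hg).symm.toLinearMap ∘ₗ (φM U).toLinearMap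

/-- the local component on generators, in terms of an arbitrary section of `L` -/
theorem d_formula (U : X.affineOpens) (g : Γ(L, U.1)) (hg : IsGen L U.1 g) (l : Γ(L, U.1))
    (e : Fin k → Γ(E, U.1)) :
    dLin k φM φN U g hg ((φM U).symm (ιMulti _ k (fun i => tm E L U.1 (e i) l))) =
      tm N (CohB1.tensorPow L k) U.1 ((φN U).symm (ιMulti _ k e)) (pw L U.1 l k) := by
  obtain ⟨u, rfl⟩ : ∃ u : Γ(X, U.1), l = u • g := by
    obtain ⟨a, ha⟩ := (hg U.1 le_rfl).2 l
    refine ⟨a, ?_⟩
    rw [← ha]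
    change a • res L (le_refl U.1) g = a • g
    rw [res_self]
  unfold dLin
  rw [LinearMap.comp_apply, LinearMap.comp_apply, LinearMap.comp_apply, LinearEquiv.coe_coe,
    LinearEquiv.coe_coe, LinearEquiv.apply_symm_apply, exteriorPower.map_apply_ιMulti]
  have h1 : (⇑(tmEquiv (F := E) U.1 g hg).symm.toLinearMap ∘ fun i => tm E L U.1 (e i) (u • g)) =
      fun i => u • e i := by
    funext i
    change (tmEquiv (F := E) U.1 g hg).symm (tm E L U.1 (e i) (u • g)) = u • e i
    rw [LinearEquiv.symm_apply_eq, tm_smul_right, ← tm_smul_left]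
    rfl
  rw [h1]
  have h2 : ιMulti Γ(X, U.1) k (fun i => u • e i) = u ^ k • ιMulti Γ(X, U.1) k e := by
    have := (ιMulti Γ(X, U.1) k (M := Γ(E, U.1))).map_smul_univ (fun _ => u) e
    rw [Finset.prod_const, Finset.card_univ, Fintype.card_fin] at this
    exact this
  rw [h2, map_smul, pw_smul]
  change tm N _ U.1 (u ^ k • _) _ = _
  rw [tm_smul_left, tm_smul_right]

include hφM hφN in
theorem dLin_nat (U V : X.affineOpens) (h : V.1 ≤ U.1) (gU : Γ(L, U.1)) (hgU : IsGen L U.1 gU)
    (gV : Γ(L, V.1)) (hgV : IsGen L V.1 gV) (x : Γ(M, U.1)) :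
    (CohB1.tensorMod N (CohB1.tensorPow L k)).val.map (homOfLE h).op (dLin k φM φN U gU hgU x) =
      dLin k φM φN V gV hgV (M.val.map (homOfLE h).op x) := by
  obtain ⟨ω, rfl⟩ := (φM U).symm.surjective x
  have hω : ω ∈ Submodule.span Γ(X, U.1)
      (Set.range (exteriorPower.ιMulti Γ(X, U.1) k (M := Γ(CohB1.tensorMod E L, U.1)))) := by
    rw [exteriorPower.ιMulti_span]
    trivial
  induction hω using Submodule.span_induction with
  | mem ω hω =>
    obtain ⟨w, rfl⟩ := hω
    choose e he using fun i => exists_tm (F := E) U.1 gU hgU (w i)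
    have hw : w = fun i => tm E L U.1 (e i) gU := funext he
    rw [hw, d_formula, hφM U V h]
    have h1 : (fun j => (CohB1.tensorMod E L).val.map (homOfLE h).op (tm E L U.1 (e j) gU)) =
        fun j => tm E L V.1 (res E h (e j)) (res L h gU) := by
      funext j
      exact res_tm E L h (e j) gU
    rw [h1, d_formula]
    refine (res_tm N (CohB1.tensorPow L k) h _ _).trans ?_
    rw [res_pw]
    congr 1
    exact hφN U V h e
  | zero =>
    have e1 : (φM U).symm 0 = 0 := map_zero _
    have e2 : dLin k φM φN U gU hgU 0 = 0 := map_zero _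
    have e3 : (CohB1.tensorMod N (CohB1.tensorPow L k)).val.map (homOfLE h).op
        (0 : Γ(CohB1.tensorMod N (CohB1.tensorPow L k), U.1)) = 0 := map_zero _
    have e4 : M.val.map (homOfLE h).op (0 : Γ(M, U.1)) = 0 := map_zero _
    rw [e1, e2, e3, e4]
    exact (map_zero (dLin k φM φN V gV hgV)).symm
  | add a b _ _ ha hb =>
    have e1 : (φM U).symm (a + b) = (φM U).symm a + (φM U).symm b := map_add _ _ _
    have e2 : dLin k φM φN U gU hgU ((φM U).symm a + (φM U).symm b) =
        dLin k φM φN U gU hgU ((φM U).symm a) + dLin k φM φN U gU hgU ((φM U).symm b) :=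
      map_add _ _ _
    have e3 : (CohB1.tensorMod N (CohB1.tensorPow L k)).val.map (homOfLE h).op
        (dLin k φM φN U gU hgU ((φM U).symm a) + dLin k φM φN U gU hgU ((φM U).symm b)) =
        (CohB1.tensorMod N (CohB1.tensorPow L k)).val.map (homOfLE h).op
            (dLin k φM φN U gU hgU ((φM U).symm a)) +
          (CohB1.tensorMod N (CohB1.tensorPow L k)).val.map (homOfLE h).op
            (dLin k φM φN U gU hgU ((φM U).symm b)) := map_add _ _ _
    have e4 : M.val.map (homOfLE h).op ((φM U).symm a + (φM U).symm b) =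
        M.val.map (homOfLE h).op ((φM U).symm a) + M.val.map (homOfLE h).op ((φM U).symm b) :=
      map_add _ _ _
    rw [e1, e2, e3, e4, ha, hb]
    exact (map_add (dLin k φM φN V gV hgV) _ _).symm
  | smul a ω _ ih =>
    have e1 : (φM U).symm (a • ω) = a • (φM U).symm ω := map_smul _ _ _
    have e2 : dLin k φM φN U gU hgU (a • (φM U).symm ω) =
        a • dLin k φM φN U gU hgU ((φM U).symm ω) := map_smul _ _ _
    have e3 : (CohB1.tensorMod N (CohB1.tensorPow L k)).val.map (homOfLE h).op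
        (a • dLin k φM φN U gU hgU ((φM U).symm ω)) =
        (X.ringCatSheaf.obj.map (homOfLE h).op a) •
          (CohB1.tensorMod N (CohB1.tensorPow L k)).val.map (homOfLE h).op
            (dLin k φM φN U gU hgU ((φM U).symm ω)) :=
      PresheafOfModules.map_smul (CohB1.tensorMod N (CohB1.tensorPow L k)).val (homOfLE h).op a _
    have e4 : M.val.map (homOfLE h).op (a • (φM U).symm ω) =
        (X.ringCatSheaf.obj.map (homOfLE h).op a) • M.val.map (homOfLE h).op ((φM U).symm ω) :=
      PresheafOfModules.map_smul M.val (homOfLE h).op a _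
    rw [e1, e2, e3, e4, ih]
    exact (map_smul (dLin k φM φN V gV hgV) _ _).symm

theorem dLin_bijective (U : X.affineOpens) (g : Γ(L, U.1)) (hg : IsGen L U.1 g) :
    Function.Bijective (dLin k φM φN U g hg) := by
  have h1 : Function.Bijective (tmR N (CohB1.tensorPow L k) U.1 (pw L U.1 g k)) := by
    have h := bijective_tm_of_isGen N (CohB1.tensorPow L k) U.1 _ (isGen_pw L U.1 g hg k) U.1 le_rfl
    have e : (fun t : Γ(N, U.1) => tm N (CohB1.tensorPow L k) U.1 t
        (res (CohB1.tensorPow L k) le_rfl (pw L U.1 g k))) =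
        tmR N (CohB1.tensorPow L k) U.1 (pw L U.1 g k) := by
      funext t
      rw [res_self]
      rfl
    rwa [e] at h
  have h2 : Function.Bijective (exteriorPower.map k (tmEquiv (F := E) U.1 g hg).symm.toLinearMap) := by
    refine ⟨exteriorPower.map_injective (tmEquiv (F := E) U.1 g hg).toLinearMap ?_,
      exteriorPower.map_surjective (tmEquiv (F := E) U.1 g hg).symm.surjective⟩
    ext x
    exact (tmEquiv (F := E) U.1 g hg).apply_symm_apply x
  exact h1.comp ((φN U).symm.bijective.comp (h2.comp (φM U).bijective))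

/-- the components as morphisms of abelian groups -/
noncomputable def dAb (U : GenOpen L) :
    Γ(M, U.1.1) ⟶ Γ(CohB1.tensorMod N (CohB1.tensorPow L k), U.1.1) :=
  AddCommGrpCat.ofHom (dLin k φM φN U.1 U.gen U.isGen).toAddMonoidHom

/-- **the morphism `Λ^k (E ⊗ L) ⟶ Λ^k E ⊗ L^{⊗ k}`** -/
noncomputable def theHom (hL : PicF.IsInvertible L) : M ⟶ CohB1.tensorMod N (CohB1.tensorPow L k) :=
  Groth.Agent.Helper13ModBasis.homOfBasis (fun U : GenOpen L => U.1.1) (isBasis_gen L hL)
    (dAb k φM φN)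
    (fun U V h => by
      ext x
      exact (dLin_nat k φM hφM φN hφN U.1 V.1 h U.gen U.isGen V.gen V.isGen x).symm)
    (fun U a m => map_smul (dLin k φM φN U.1 U.gen U.isGen) a m)

theorem theHom_app (hL : PicF.IsInvertible L) (U : GenOpen L) (x : Γ(M, U.1.1)) :
    (theHom k φM hφM φN hφN hL).app U.1.1 x = dLin k φM φN U.1 U.gen U.isGen x := by
  have h := Groth.Agent.Helper13ModBasis.homOfBasis_app (fun U : GenOpen L => U.1.1) (isBasis_gen L hL)
    (dAb k φM φN)
    (fun U V h => by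
      ext x
      exact (dLin_nat k φM hφM φN hφN U.1 V.1 h U.gen U.isGen V.gen V.isGen x).symm)
    (fun U a m => map_smul (dLin k φM φN U.1 U.gen U.isGen) a m) U
  exact congrArg (fun φ => φ x) (congrArg (fun φ => (ConcreteCategory.hom φ : _ → _)) h)

theorem isIso_theHom (hL : PicF.IsInvertible L) : IsIso (theHom k φM hφM φN hφN hL) := by
  refine isIso_of_bijective_on_basis _ (fun U : GenOpen L => U.1.1) (isBasis_gen L hL) fun U => ?_
  have h : ⇑(ConcreteCategory.hom ((theHom k φM hφM φN hφN hL).app U.1.1)) =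
      dLin k φM φN U.1 U.gen U.isGen := by
    funext x
    exact theHom_app k φM hφM φN hφN hL U x
  rw [h]
  exact dLin_bijective k φM φN U.1 U.gen U.isGen

end Main

/-- **S15827** -/
theorem nonempty_iso (E L : X.Modules) (hL : PicF.IsInvertible L) (k : ℕ) (M N : X.Modules)
    (hM : ExtPow.IsExtPow k (CohB1.tensorMod E L) M) (hN : ExtPow.IsExtPow k E N) :
    Nonempty (M ≅ CohB1.tensorMod N (CohB1.tensorPow L k)) := by
  obtain ⟨φM, hφM⟩ := hM
  obtain ⟨φN, hφN⟩ := hN
  haveI := isIso_theHom k φM hφM φN hφN hL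
  exact ⟨asIso (theHom k φM hφM φN hφN hL)⟩

end Groth.Agent.Lib.R2H2.ExtPowTw
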