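import Mathlib
import Groth.Agent.Lib.Helper2GenFree2

/-!
# Generic density in fibres: the ring-theoretic core (helper2, round 2)

For a domain `A`, a finite type `A`-algebra `B`, a prime `q` of `B` and `g ∉ q`, there is a nonzero
`a : A` such that over every prime `p ∌ a` of `A` the open `D(g) ∩ V(q)` is dense in the fibre of
`V(q)` over `p`: every basic open `D(h)` meeting that fibre contains a point of `D(g) ∩ V(q)` of the
same fibre.  The proof uses generic freeness of `(B/q)/g`.
-/

set_option autoImplicit false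
set_option linter.style.haveILetI false
universe u v w

namespace Groth.Agent.Lib.R2H2.FibreClosure

open TensorProduct Groth.Agent.Lib.Helper2.GenFree

section domain

variable {A : Type u} [CommRing A] [IsDomain A] {C : Type v} [CommRing C] [IsDomain C]
  [Algebra A C] [Algebra.FiniteType A C]

/-- Generic injectivity: multiplication by a nonzero element of a finite type domain over a domain
stays injective on all fibres over a nonempty open of the base. -/
theorem exists_injective_mulLeft_baseChange (g : C) (hg : g ≠ 0) :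
    ∃ a : A, a ≠ 0 ∧ ∀ (κ : Type w) [CommRing κ] [Algebra A κ], IsUnit (algebraMap A κ a) →
      Function.Injective ((LinearMap.mulLeft A g).baseChange κ) := by
  classical
  set N : Ideal C := Ideal.span {g} with hN
  obtain ⟨f₁, hf₁, -, hM₁, -, -⟩ := exists_freeAway A C (C ⧸ N)
  refine ⟨f₁, hf₁, ?_⟩
  intro κ _ _ hκ
  set v : C →ₗ[A] C := LinearMap.mulLeft A g with hv
  have hrange : LinearMap.range v = N.restrictScalars A := by
    ext x
    simp only [LinearMap.mem_range, hv, LinearMap.mulLeft_apply, Submodule.restrictScalars_mem, hN,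
      Ideal.mem_span_singleton']
    constructor
    · rintro ⟨y, rfl⟩; exact ⟨y, mul_comm _ _⟩
    · rintro ⟨y, rfl⟩; exact ⟨y, mul_comm _ _⟩
  have hfree : FreeAway A f₁ (C ⧸ LinearMap.range v) := by
    rw [hrange]
    exact hM₁.of_linearEquiv (Submodule.Quotient.restrictScalarsEquiv A N).symm
  haveI : Module.Free (Localization.Away f₁) (Localization.Away f₁ ⊗[A] (C ⧸ LinearMap.range v)) :=
    hfree.free (Localization.Away f₁) (TensorProduct.mk A (Localization.Away f₁) _ 1)
  have hex := exact_baseChange_of_flat_coker_away f₁ (0 : C →ₗ[A] C) v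
    (fun x => ⟨0, by simp⟩)
    (fun y hy => ⟨0, by
      have : y = 0 := by
        have h0 : g * y = 0 := by simpa [hv] using hy
        exact (mul_eq_zero.mp h0).resolve_left hg
      simp [this]⟩) inferInstance κ hκ
  rw [injective_iff_map_eq_zero]
  intro z hz
  obtain ⟨w, hw⟩ := (hex z).mp hz
  rw [← hw]
  simp

/-- Domain form of the density lemma. -/
theorem exists_prime_of_ne_zero (g : C) (hg : g ≠ 0) :
    ∃ a : A, a ≠ 0 ∧ ∀ (q₁ : Ideal C) [q₁.IsPrime], a ∉ q₁.comap (algebraMap A C) →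
      ∀ h : C, h ∉ q₁ → ∃ q' : Ideal C, q'.IsPrime ∧
        q'.comap (algebraMap A C) = q₁.comap (algebraMap A C) ∧ g * h ∉ q' := by
  obtain ⟨a, ha, hinj⟩ := exists_injective_mulLeft_baseChange.{u, v, u} (A := A) g hg
  refine ⟨a, ha, ?_⟩
  intro q₁ _ haq h hh
  set p : Ideal A := q₁.comap (algebraMap A C) with hp
  haveI : p.IsPrime := Ideal.comap_isPrime _ _
  have hκ : IsUnit (algebraMap A p.ResidueField a) := by
    rw [isUnit_iff_ne_zero, Ne, Ideal.algebraMap_residueField_eq_zero]
    exact haq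
  have hinj' := hinj p.ResidueField hκ
  have hmul : ∀ z : p.ResidueField ⊗[A] C, (LinearMap.mulLeft A g).baseChange p.ResidueField z =
      ((1 : p.ResidueField) ⊗ₜ[A] g) * z := by
    intro z
    induction z using TensorProduct.induction_on with
    | zero => simp
    | tmul x y => simp [Algebra.TensorProduct.tmul_mul_tmul]
    | add x y hx hy => simp only [map_add, hx, hy, mul_add]
  have hreg : IsLeftRegular ((1 : p.ResidueField) ⊗ₜ[A] g) := by
    intro z₁ z₂ h12
    apply hinj'
    rw [hmul, hmul]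
    exact h12
  let ψ : p.ResidueField ⊗[A] C →ₐ[A] q₁.ResidueField :=
    Algebra.TensorProduct.lift (Ideal.ResidueField.mapₐ p q₁ (Algebra.ofId A C) rfl)
      (IsScalarTower.toAlgHom A C q₁.ResidueField) (fun _ _ => Commute.all _ _)
  have hψ : ψ ((1 : p.ResidueField) ⊗ₜ[A] h) = algebraMap C q₁.ResidueField h := by
    simp [ψ]
  have hnil : ¬ IsNilpotent ((1 : p.ResidueField) ⊗ₜ[A] (g * h)) := by
    rintro ⟨n, hn⟩
    have e : ((1 : p.ResidueField) ⊗ₜ[A] (g * h)) =
        ((1 : p.ResidueField) ⊗ₜ[A] g) * ((1 : p.ResidueField) ⊗ₜ[A] h) := by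
      simp [Algebra.TensorProduct.tmul_mul_tmul]
    rw [e, mul_pow] at hn
    have h0 : ((1 : p.ResidueField) ⊗ₜ[A] h) ^ n = 0 := by
      apply (hreg.pow n)
      simpa using hn
    have h1 : (algebraMap C q₁.ResidueField h) ^ n = 0 := by
      rw [← hψ, ← map_pow, h0, map_zero]
    have h2 : algebraMap C q₁.ResidueField h = 0 := IsNilpotent.eq_zero ⟨n, h1⟩
    rw [Ideal.algebraMap_residueField_eq_zero] at h2
    exact hh h2
  rw [nilpotent_iff_mem_prime] at hnil
  push Not at hnil
  obtain ⟨P, hP, hxP⟩ := hnil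
  refine ⟨P.comap (Algebra.TensorProduct.includeRight : C →ₐ[A] p.ResidueField ⊗[A] C),
    Ideal.comap_isPrime _ _, ?_, ?_⟩
  · have h1 : (P.comap (Algebra.TensorProduct.includeRight :
        C →ₐ[A] p.ResidueField ⊗[A] C)).comap (algebraMap A C) =
        (P.comap (algebraMap p.ResidueField (p.ResidueField ⊗[A] C))).comap
          (algebraMap A p.ResidueField) := by
      ext x
      simp only [Ideal.mem_comap]
      rw [AlgHom.commutes, IsScalarTower.algebraMap_apply A p.ResidueField]
    rw [h1]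
    haveI : (P.comap (algebraMap p.ResidueField (p.ResidueField ⊗[A] C))).IsPrime :=
      Ideal.comap_isPrime _ _
    rw [Ideal.eq_bot_of_prime (P.comap (algebraMap p.ResidueField (p.ResidueField ⊗[A] C))),
      ← RingHom.ker_eq_comap_bot, Ideal.ker_algebraMap_residueField]
  · intro hmem
    exact hxP hmem

end domain

section general

variable {A : Type u} [CommRing A] [IsDomain A] {B : Type v} [CommRing B]
  [Algebra A B] [Algebra.FiniteType A B]

/-- **Generic density lemma.** For a prime `q` of `B` and `g ∉ q` there is `a ≠ 0` in `A` such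
that for every prime `q₁ ⊇ q` lying over a prime `p ∌ a` and every `h ∉ q₁` there is a prime
`q' ⊇ q` over the same `p` with `g, h ∉ q'`. -/
theorem exists_prime_of_not_mem (q : Ideal B) [q.IsPrime] (g : B) (hg : g ∉ q) :
    ∃ a : A, a ≠ 0 ∧ ∀ (q₁ : Ideal B) [q₁.IsPrime], q ≤ q₁ → a ∉ q₁.comap (algebraMap A B) →
      ∀ h : B, h ∉ q₁ → ∃ q' : Ideal B, q'.IsPrime ∧ q ≤ q' ∧
        q'.comap (algebraMap A B) = q₁.comap (algebraMap A B) ∧ g ∉ q' ∧ h ∉ q' := by
  haveI : Algebra.FiniteType A (B ⧸ q) :=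
    Algebra.FiniteType.of_surjective (Ideal.Quotient.mkₐ A q) Ideal.Quotient.mk_surjective
  have hg' : (Ideal.Quotient.mk q g) ≠ 0 := by
    rwa [Ne, Ideal.Quotient.eq_zero_iff_mem]
  obtain ⟨a, ha, H⟩ := exists_prime_of_ne_zero (A := A) (Ideal.Quotient.mk q g) hg'
  refine ⟨a, ha, ?_⟩
  intro q₁ _ hq₁ haq h hh
  have hker : RingHom.ker (Ideal.Quotient.mk q) ≤ q₁ := by rwa [Ideal.mk_ker]
  haveI : (q₁.map (Ideal.Quotient.mk q)).IsPrime :=
    Ideal.map_isPrime_of_surjective Ideal.Quotient.mk_surjective hker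
  have hcm : (q₁.map (Ideal.Quotient.mk q)).comap (Ideal.Quotient.mk q) = q₁ := by
    rw [Ideal.comap_map_of_surjective _ Ideal.Quotient.mk_surjective, ← RingHom.ker_eq_comap_bot]
    exact sup_eq_left.mpr hker
  have hcomap : ∀ J : Ideal (B ⧸ q), J.comap (algebraMap A (B ⧸ q)) =
      (J.comap (Ideal.Quotient.mk q)).comap (algebraMap A B) := by
    intro J
    rw [Ideal.comap_comap]
    rfl
  obtain ⟨q', hq', hq'p, hq'g⟩ := H (q₁.map (Ideal.Quotient.mk q))
    (by rw [hcomap, hcm]; exact haq) (Ideal.Quotient.mk q h)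
    (by
      intro hmem
      have : h ∈ (q₁.map (Ideal.Quotient.mk q)).comap (Ideal.Quotient.mk q) := hmem
      rw [hcm] at this
      exact hh this)
  refine ⟨q'.comap (Ideal.Quotient.mk q), Ideal.comap_isPrime _ _, ?_, ?_, ?_, ?_⟩
  · intro x hx
    rw [Ideal.mem_comap, Ideal.Quotient.eq_zero_iff_mem.mpr hx]
    exact zero_mem _
  · rw [← hcomap, hq'p, hcomap, hcm]
  · intro hmem
    apply hq'g
    rw [← map_mul]
    exact Ideal.mul_mem_right _ _ hmem
  · intro hmem
    apply hq'g
    rw [← map_mul]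
    exact Ideal.mul_mem_left _ _ hmem

end general

section spectrum

/-- **Generic density, prime spectrum form.** For a finite type ring map `φ : A → B` from a
domain, a closed irreducible `T ⊆ Spec B` and an open `O` meeting `T`, there is `a ≠ 0` such that
every point `t` of `T` lying over `D(a)` is in the closure of the part of `O ∩ T` in the same
fibre of `Spec B → Spec A`. -/
theorem mem_closure_fibre {A B : Type u} [CommRing A] [IsDomain A] [CommRing B] (φ : A →+* B)
    (hφ : φ.FiniteType) (T O : Set (PrimeSpectrum B)) (hTc : IsClosed T) (hTi : IsIrreducible T)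
    (hO : IsOpen O) (hne : (O ∩ T).Nonempty) :
    ∃ a : A, a ≠ 0 ∧ ∀ t ∈ T, a ∉ (PrimeSpectrum.comap φ t).asIdeal →
      t ∈ closure (O ∩ T ∩ (PrimeSpectrum.comap φ) ⁻¹' {PrimeSpectrum.comap φ t}) := by
  letI : Algebra A B := φ.toAlgebra
  haveI : Algebra.FiniteType A B := hφ
  haveI hprime : (PrimeSpectrum.vanishingIdeal T).IsPrime :=
    (PrimeSpectrum.isIrreducible_iff_vanishingIdeal_isPrime (s := T)).mp hTi
  have hT : T = PrimeSpectrum.zeroLocus (PrimeSpectrum.vanishingIdeal T : Set B) := by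
    rw [PrimeSpectrum.zeroLocus_vanishingIdeal_eq_closure, hTc.closure_eq]
  obtain ⟨t₀, ht₀O, ht₀T⟩ := hne
  obtain ⟨_, ⟨g, rfl⟩, ht₀g, hgO⟩ :=
    PrimeSpectrum.isTopologicalBasis_basic_opens.exists_subset_of_mem_open ht₀O hO
  have hgq : g ∉ PrimeSpectrum.vanishingIdeal T := fun hmem =>
    ht₀g ((PrimeSpectrum.mem_vanishingIdeal _ _).mp hmem t₀ ht₀T)
  obtain ⟨a, ha, H⟩ := exists_prime_of_not_mem (A := A) (PrimeSpectrum.vanishingIdeal T) g hgq
  refine ⟨a, ha, fun t htT hat => ?_⟩
  rw [mem_closure_iff]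
  intro N hN htN
  obtain ⟨_, ⟨h, rfl⟩, hth, hhN⟩ :=
    PrimeSpectrum.isTopologicalBasis_basic_opens.exists_subset_of_mem_open htN hN
  have hqt : PrimeSpectrum.vanishingIdeal T ≤ t.asIdeal := fun x hx =>
    (PrimeSpectrum.mem_vanishingIdeal _ _).mp hx t htT
  obtain ⟨q', hq', hqq', hcomap, hgq', hhq'⟩ := H t.asIdeal hqt hat h hth
  refine ⟨⟨q', hq'⟩, hhN hhq', ⟨hgO hgq', ?_⟩, ?_⟩
  · rw [hT, PrimeSpectrum.mem_zeroLocus]
    exact hqq'
  · exact PrimeSpectrum.ext hcomap

end spectrum

end Groth.Agent.Lib.R2H2.FibreClosure
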