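import Mathlib
import Groth.Agent.Lib.R2H2FibreClosure
import Groth.Agent.S2396

/-!
# Closure commutes with passage to fibres over a nonempty open of an integral base (helper2)

Scheme-level forms of the generic density lemma (EGA IV 9.5.1--9.5.3):

* `exists_open_forall_subset_closure`: for `f : X ⟶ S` of finite type, `S` integral, `Y ⊆ X` closed
  irreducible and `O` open meeting `Y`, over a nonempty open of `S` the set `O ∩ Y ∩ f⁻¹(s)` is
  dense in `Y ∩ f⁻¹(s)`.
* `exists_open_forall_closure_inter_fibre`: for `S` integral Noetherian and `Z ⊆ X`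
  constructible, over a nonempty open `U` of `S` one has
  `closure Z ∩ f⁻¹(s) ⊆ closure (Z ∩ f⁻¹(s))`.
-/

set_option autoImplicit false
set_option linter.style.haveILetI false
universe u

open CategoryTheory AlgebraicGeometry Topology TopologicalSpace

namespace Groth.Agent.Lib.R2H2.FibreClosure

theorem exists_open_forall_subset_closure {X S : Scheme.{u}} (f : X ⟶ S) [IsIntegral S]
    [LocallyOfFiniteType f] [QuasiCompact f]
    (Y O : Set X) (hYc : IsClosed Y) (hYi : IsIrreducible Y) (hO : IsOpen O)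
    (hne : (O ∩ Y).Nonempty) :
    ∃ U : Set S, IsOpen U ∧ U.Nonempty ∧
      ∀ s ∈ U, Y ∩ f ⁻¹' {s} ⊆ closure (O ∩ Y ∩ f ⁻¹' {s}) := by
  classical
  obtain ⟨s₀⟩ : Nonempty S := inferInstance
  obtain ⟨_, ⟨V : S.Opens, hV, rfl⟩, hs₀V, -⟩ :=
    S.isBasis_affineOpens.exists_subset_of_mem_open (Set.mem_univ s₀) isOpen_univ
  haveI : Nonempty V := ⟨⟨s₀, hs₀V⟩⟩
  have hc : IsCompact ((f ⁻¹ᵁ V : X.Opens) : Set X) := f.isCompact_preimage hV.isCompact
  obtain ⟨ws, hws, hwsU⟩ := isCompact_iff_finite_and_eq_biUnion_affineOpens.1 hc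
  have hle : ∀ W ∈ ws, (W : X.Opens) ≤ f ⁻¹ᵁ V := by
    intro W hW
    rw [hwsU]
    exact le_iSup₂ (f := fun (i : X.affineOpens) (_ : i ∈ ws) => (i : X.Opens)) W hW
  have key : ∀ W : X.affineOpens, ∀ _ : W ∈ ws, ∃ a : Γ(S, V), a ≠ 0 ∧
      ∀ x ∈ Y, x ∈ W.1 → f x ∈ S.basicOpen a → x ∈ closure (O ∩ Y ∩ f ⁻¹' {f x}) := by
    intro W hW
    by_cases hWY : ((W.1 : Set X) ∩ Y).Nonempty
    swap
    · exact ⟨1, one_ne_zero, fun x hxY hxW _ => (hWY ⟨x, hxW, hxY⟩).elim⟩
    have e := hle W hW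
    have hφ : (f.appLE V W.1 e).hom.FiniteType :=
      (HasRingHomProperty.iff_appLE (P := @LocallyOfFiniteType)).1 inferInstance ⟨V, hV⟩ W e
    have hjr : Set.range W.2.fromSpec = (W.1 : Set X) := W.2.range_fromSpec
    have hTc : IsClosed (W.2.fromSpec ⁻¹' Y) := hYc.preimage W.2.fromSpec.continuous
    have hTi : IsIrreducible (W.2.fromSpec ⁻¹' Y) := by
      refine ⟨?_, hYi.isPreirreducible.preimage W.2.fromSpec.isOpenEmbedding⟩
      obtain ⟨x, hxW, hxY⟩ := hWY
      obtain ⟨t, rfl⟩ : x ∈ Set.range W.2.fromSpec := by rw [hjr]; exact hxW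
      exact ⟨t, hxY⟩
    have hne' : ((W.2.fromSpec ⁻¹' O) ∩ (W.2.fromSpec ⁻¹' Y)).Nonempty := by
      obtain ⟨x, hxY, hxO, hxW⟩ := hYi.isPreirreducible O W.1 hO W.1.2
        (by obtain ⟨x, h1, h2⟩ := hne; exact ⟨x, h2, h1⟩)
        (by obtain ⟨x, h1, h2⟩ := hWY; exact ⟨x, h2, h1⟩)
      obtain ⟨t, rfl⟩ : x ∈ Set.range W.2.fromSpec := by rw [hjr]; exact hxW
      exact ⟨t, hxO, hxY⟩
    obtain ⟨a, ha, H⟩ := mem_closure_fibre (f.appLE V W.1 e).hom hφ (W.2.fromSpec ⁻¹' Y)
      (W.2.fromSpec ⁻¹' O) hTc hTi (hO.preimage W.2.fromSpec.continuous) hne'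
    refine ⟨a, ha, fun x hxY hxW hxa => ?_⟩
    obtain ⟨t, rfl⟩ : x ∈ Set.range W.2.fromSpec := by rw [hjr]; exact hxW
    have hcomm : ∀ t' : Spec Γ(X, W.1), f (W.2.fromSpec t') =
        hV.fromSpec (PrimeSpectrum.comap (f.appLE V W.1 e).hom t') := by
      intro t'
      rw [← Scheme.Hom.comp_apply, ← IsAffineOpen.SpecMap_appLE_fromSpec f hV W.2 e,
        Scheme.Hom.comp_apply]
      rfl
    have hat : a ∉ (PrimeSpectrum.comap (f.appLE V W.1 e).hom t).asIdeal := by
      rw [hcomm] at hxa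
      have h1 : PrimeSpectrum.comap (f.appLE V W.1 e).hom t ∈
          hV.fromSpec ⁻¹ᵁ S.basicOpen a := hxa
      rw [hV.fromSpec_preimage_basicOpen] at h1
      exact h1
    have h1 := H t hxY hat
    have h2 : W.2.fromSpec t ∈ closure (W.2.fromSpec '' (W.2.fromSpec ⁻¹' O ∩ W.2.fromSpec ⁻¹' Y ∩
        PrimeSpectrum.comap (f.appLE V W.1 e).hom ⁻¹'
          {PrimeSpectrum.comap (f.appLE V W.1 e).hom t})) :=
      image_closure_subset_closure_image W.2.fromSpec.continuous ⟨t, h1, rfl⟩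
    refine closure_mono ?_ h2
    rintro _ ⟨t', ⟨⟨ht'O, ht'T⟩, ht'c⟩, rfl⟩
    refine ⟨⟨ht'O, ht'T⟩, ?_⟩
    show f (W.2.fromSpec t') = f (W.2.fromSpec t)
    rw [hcomm, hcomm]
    exact congrArg _ ht'c
  let a : X.affineOpens → Γ(S, V) := fun W => if hW : W ∈ ws then (key W hW).choose else 1
  have ha0 : ∀ W, a W ≠ 0 := by
    intro W
    by_cases hW : W ∈ ws
    · simp only [a, dif_pos hW]; exact (key W hW).choose_spec.1
    · simp only [a, dif_neg hW]; exact one_ne_zero
  have haK : ∀ W, ∀ _ : W ∈ ws, ∀ x ∈ Y, x ∈ W.1 → f x ∈ S.basicOpen (a W) →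
      x ∈ closure (O ∩ Y ∩ f ⁻¹' {f x}) := by
    intro W hW
    simp only [a, dif_pos hW]; exact (key W hW).choose_spec.2
  let A : Γ(S, V) := ∏ W ∈ hws.toFinset, a W
  have hA0 : A ≠ 0 := Finset.prod_ne_zero_iff.2 fun W _ => ha0 W
  refine ⟨S.basicOpen A, (S.basicOpen A).2, ?_, ?_⟩
  · by_contra hne
    have hbot : S.basicOpen A = ⊥ := by
      ext z
      simp only [Opens.coe_bot, Set.mem_empty_iff_false, iff_false]
      exact fun hz => hne ⟨z, hz⟩
    exact hA0 ((AlgebraicGeometry.basicOpen_eq_bot_iff A).1 hbot)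
  · rintro s hs x ⟨hxY, hxs⟩
    have hxs' : f x = s := hxs
    subst hxs'
    have hxV : x ∈ f ⁻¹ᵁ V := S.basicOpen_le A hs
    rw [hwsU] at hxV
    obtain ⟨W, hxW⟩ := Opens.mem_iSup.1 hxV
    obtain ⟨hW, hxW⟩ := Opens.mem_iSup.1 hxW
    have h2 : A = a W * ∏ W' ∈ hws.toFinset.erase W, a W' :=
      (Finset.mul_prod_erase _ _ (hws.mem_toFinset.2 hW)).symm
    have h3 : S.basicOpen A ≤ S.basicOpen (a W) := by
      rw [h2, Scheme.basicOpen_mul]
      exact inf_le_left
    exact haK W hW x hxY hxW (h3 hs)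

/-- **Closure commutes with fibres generically** (EGA IV 9.5.3): for `f : X ⟶ S` of finite type
with `S` integral and `X` a Noetherian space, and `Z ⊆ X` constructible, there is a nonempty open
`U ⊆ S` such that `closure Z ∩ f⁻¹(s) ⊆ closure (Z ∩ f⁻¹(s))` for all `s ∈ U`. -/
theorem exists_open_forall_closure_inter_fibre {X S : Scheme.{u}} (f : X ⟶ S) [IsIntegral S]
    [LocallyOfFiniteType f] [QuasiCompact f] [NoetherianSpace X]
    (Z : Set X) (hZ : IsConstructible Z) :
    ∃ U : Set S, IsOpen U ∧ U.Nonempty ∧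
      ∀ s ∈ U, closure Z ∩ f ⁻¹' {s} ⊆ closure (Z ∩ f ⁻¹' {s}) := by
  have hcrit := (Groth.Agent.S2396.result Z).mp hZ
  have main : ∀ Yc : Closeds X, ∃ U : Set S, IsOpen U ∧ U.Nonempty ∧
      ∀ s ∈ U, closure (Z ∩ Yc) ∩ f ⁻¹' {s} ⊆ closure (Z ∩ Yc ∩ f ⁻¹' {s}) := by
    intro Yc
    induction Yc using WellFoundedLT.induction with
    | ind Yc ih =>
      by_cases hirr : IsIrreducible (Yc : Set X)
      · rcases hcrit Yc Yc.2 hirr with hnd | ⟨O, hO, hOY, hOZ⟩
        · -- `Z ∩ Y` nowhere dense in `Y`: pass to its closure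
          let Y' : Closeds X := ⟨closure (Z ∩ Yc), isClosed_closure⟩
          have hY'le : (Y' : Set X) ⊆ Yc := closure_minimal Set.inter_subset_right Yc.2
          have hlt : Y' < Yc := by
            refine lt_of_le_of_ne hY'le ?_
            intro heq
            have hcl : closure (Subtype.val ⁻¹' Z : Set (Yc : Set X)) = Set.univ := by
              rw [Topology.IsEmbedding.subtypeVal.closure_eq_preimage_closure_image,
                Subtype.image_preimage_coe]
              have : closure ((Yc : Set X) ∩ Z) = Yc := by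
                rw [Set.inter_comm]
                exact congrArg (fun c : Closeds X => (c : Set X)) heq
              rw [this]
              ext y
              simp
            have h1 : interior (closure (Subtype.val ⁻¹' Z : Set (Yc : Set X))) = ∅ := hnd
            rw [hcl, interior_univ] at h1
            obtain ⟨y, hy⟩ := hirr.1
            exact (Set.univ_eq_empty_iff.mp h1).false ⟨y, hy⟩
          obtain ⟨U, hU, hUne, H⟩ := ih Y' hlt
          refine ⟨U, hU, hUne, fun s hs => ?_⟩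
          have e : Z ∩ (Y' : Set X) = Z ∩ Yc := by
            apply Set.Subset.antisymm
            · exact Set.inter_subset_inter_right _ hY'le
            · exact fun x hx => ⟨hx.1, subset_closure hx⟩
          have := H s hs
          rw [e] at this
          exact this
        · -- `O ∩ Y ⊆ Z` with `O ∩ Y` nonempty open in `Y`
          obtain ⟨U, hU, hUne, H⟩ := exists_open_forall_subset_closure f Yc O Yc.2 hirr hO hOY
          refine ⟨U, hU, hUne, fun s hs => ?_⟩
          rintro x ⟨hx1, hx2⟩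
          have hxY : x ∈ (Yc : Set X) := closure_minimal Set.inter_subset_right Yc.2 hx1
          refine closure_mono ?_ (H s hs ⟨hxY, hx2⟩)
          rintro y ⟨⟨hyO, hyY⟩, hys⟩
          exact ⟨⟨hOZ ⟨hyO, hyY⟩, hyY⟩, hys⟩
      · by_cases hemp : (Yc : Set X) = ∅
        · refine ⟨Set.univ, isOpen_univ, Set.univ_nonempty, fun s _ => ?_⟩
          rw [hemp, Set.inter_empty, closure_empty, Set.empty_inter]
          exact Set.empty_subset _
        · have hpre : ¬ IsPreirreducible (Yc : Set X) := fun h =>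
            hirr ⟨Set.nonempty_iff_ne_empty.mpr hemp, h⟩
          rw [isPreirreducible_iff_isClosed_union_isClosed] at hpre
          push Not at hpre
          obtain ⟨z₁, z₂, hz₁, hz₂, hsub, hn₁, hn₂⟩ := hpre
          let Y₁ : Closeds X := ⟨Yc ∩ z₁, Yc.2.inter hz₁⟩
          let Y₂ : Closeds X := ⟨Yc ∩ z₂, Yc.2.inter hz₂⟩
          have hlt₁ : Y₁ < Yc := lt_of_le_of_ne Set.inter_subset_left (fun heq => hn₁ (by
            have : (Yc : Set X) ∩ z₁ = Yc := congrArg (fun c : Closeds X => (c : Set X)) heq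
            exact Set.inter_eq_left.mp this))
          have hlt₂ : Y₂ < Yc := lt_of_le_of_ne Set.inter_subset_left (fun heq => hn₂ (by
            have : (Yc : Set X) ∩ z₂ = Yc := congrArg (fun c : Closeds X => (c : Set X)) heq
            exact Set.inter_eq_left.mp this))
          obtain ⟨U₁, hU₁, hU₁ne, H₁⟩ := ih Y₁ hlt₁
          obtain ⟨U₂, hU₂, hU₂ne, H₂⟩ := ih Y₂ hlt₂
          refine ⟨U₁ ∩ U₂, hU₁.inter hU₂, nonempty_preirreducible_inter hU₁ hU₂ hU₁ne hU₂ne,
            fun s hs => ?_⟩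
          have e : Z ∩ (Yc : Set X) = Z ∩ (Y₁ : Set X) ∪ Z ∩ (Y₂ : Set X) := by
            ext x
            constructor
            · rintro ⟨hxZ, hxY⟩
              rcases hsub hxY with h | h
              · exact Or.inl ⟨hxZ, hxY, h⟩
              · exact Or.inr ⟨hxZ, hxY, h⟩
            · rintro (⟨hxZ, hxY, -⟩ | ⟨hxZ, hxY, -⟩) <;> exact ⟨hxZ, hxY⟩
          rw [e, closure_union, Set.union_inter_distrib_right, Set.union_inter_distrib_right,
            closure_union]
          exact Set.union_subset_union (H₁ s hs.1) (H₂ s hs.2)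
  obtain ⟨U, hU, hUne, H⟩ := main ⊤
  refine ⟨U, hU, hUne, fun s hs => ?_⟩
  have := H s hs
  simpa using this

end Groth.Agent.Lib.R2H2.FibreClosure
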