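import Mathlib
import Groth.Agent.Lib.R2H2FibreClosureSch
import Groth.Agent.Lib.Helper5FibMorLoci
import Groth.Agent.Lib.Helper3DiagBC
import Groth.Agent.Lib.Helper12Descent

/-!
# Dominant / separated maps of fibres are constructible properties of morphisms (helper2)

Using the generic commutation of closure with fibres (`R2H2FibreClosureSch`), the relations
"the map of fibres `f_s : X_s ⟶ Y_s` is dominant" and "... is separated" are constructible
properties of morphisms in the sense of `ConsProp.IsConsMor` (EGA IV 9.6.1 (ii), (iii)).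
-/

set_option autoImplicit false
set_option linter.style.haveILetI false
universe u

open CategoryTheory CategoryTheory.Limits AlgebraicGeometry Topology TopologicalSpace

namespace Groth.Agent.Lib.R2H2.FibreLoci

open Groth.Agent.Lib.R2H2.FibreClosure Groth.Agent.Lib.Helper5.LocusGeneric
  Groth.Agent.Lib.Helper3.ConsOfLocus

section topology

/-- Density statements inside the range of an embedding can be tested on the source. -/
theorem preimage_subset_closure_preimage_iff_of_isEmbedding {F X : Type*} [TopologicalSpace F]
    [TopologicalSpace X] {ι : F → X} (hι : IsEmbedding ι) (Z Z' : Set X) :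
    ι ⁻¹' Z' ⊆ closure (ι ⁻¹' Z) ↔ Z' ∩ Set.range ι ⊆ closure (Z ∩ Set.range ι) := by
  rw [hι.isInducing.closure_eq_preimage_closure_image, Set.image_preimage_eq_inter_range]
  constructor
  · rintro h x ⟨hxZ', t, rfl⟩
    exact h hxZ'
  · intro h t ht
    exact h ⟨ht, t, rfl⟩

/-- Density statements can be tested after pulling back along an open continuous surjection. -/
theorem preimage_subset_closure_preimage_iff_of_isOpenMap {Y' Y : Type*} [TopologicalSpace Y']
    [TopologicalSpace Y] {e : Y' → Y} (hc : Continuous e) (ho : IsOpenMap e)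
    (hs : Function.Surjective e) (A B : Set Y) :
    e ⁻¹' B ⊆ closure (e ⁻¹' A) ↔ B ⊆ closure A := by
  rw [← ho.preimage_closure_eq_closure_preimage hc,
    Set.preimage_subset_preimage_iff (by rw [hs.range_eq]; exact Set.subset_univ _)]

end topology

/-- A subset of an integral Noetherian base which, over a nonempty open, is the set of points
whose fibre lies in a given constructible subset of the source, satisfies the dichotomy. -/
theorem dichotomy_of_forall_mem {X S : Scheme.{u}} (h : X ⟶ S) [IsIntegral S] [IsNoetherian S]
    [LocallyOfFiniteType h] [QuasiCompact h] (E : Set S) (C : Set X) (hC : IsConstructible C)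
    (V' : Set S) (hV'o : IsOpen V') (hV' : V'.Nonempty)
    (hE : ∀ s ∈ V', s ∈ E ↔ ∀ x : X, h x = s → x ∈ C) :
    (interior E).Nonempty ∨ (interior Eᶜ).Nonempty := by
  have hI : IsConstructible (h '' Cᶜ) :=
    h.isConstructible_image (isConstructible_compl.mpr hC)
  have hEV : ∀ s ∈ V', s ∈ E ↔ s ∉ h '' Cᶜ := by
    intro s hs
    rw [hE s hs]
    constructor
    · rintro H ⟨x, hx, rfl⟩
      exact hx (H x rfl)
    · intro H x hx
      by_contra hne
      exact H ⟨x, hne, hx⟩
  rcases interior_nonempty_or_of_isConstructible (isConstructible_compl.mpr hI) with h1 | h1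
  · left
    have hne : (interior (h '' Cᶜ)ᶜ ∩ V').Nonempty :=
      nonempty_preirreducible_inter isOpen_interior hV'o h1 hV'
    refine hne.mono ?_
    apply interior_maximal _ (isOpen_interior.inter hV'o)
    rintro s ⟨hs1, hs2⟩
    exact (hEV s hs2).mpr (interior_subset hs1)
  · right
    rw [compl_compl] at h1
    have hne : (interior (h '' Cᶜ) ∩ V').Nonempty :=
      nonempty_preirreducible_inter isOpen_interior hV'o h1 hV'
    refine hne.mono ?_
    apply interior_maximal _ (isOpen_interior.inter hV'o)
    rintro s ⟨hs1, hs2⟩ hsE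
    exact (hEV s hs2).mp hsE (interior_subset hs1)

section fibre

variable {X Y S Y' X' : Scheme.{u}} {f : X ⟶ Y} {g : Y ⟶ S} {s : S}
  {pY : Y' ⟶ Y} {a : Y' ⟶ Spec (S.residueField s)}
  {pX : X' ⟶ X} {f' : X' ⟶ Y'}

theorem isEmbedding_of_fibre (hY : IsPullback pY a g (S.fromSpecResidueField s)) :
    IsEmbedding pY := by
  haveI : IsPreimmersion pY :=
    MorphismProperty.of_isPullback (P := @IsPreimmersion) hY.flip inferInstance
  exact pY.isEmbedding

theorem range_of_fibre (hY : IsPullback pY a g (S.fromSpecResidueField s)) :
    Set.range pY = g ⁻¹' {s} := by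
  have h2 := Scheme.image_preimage_eq_of_isPullback hY.flip Set.univ
  rw [Set.preimage_univ, Set.image_univ, Set.image_univ, Scheme.range_fromSpecResidueField] at h2
  exact h2

theorem range_eq_preimage_of_isPullback (hX : IsPullback pX f' f pY) :
    Set.range f' = pY ⁻¹' Set.range f := by
  have h1 := Scheme.image_preimage_eq_of_isPullback hX Set.univ
  rw [Set.preimage_univ, Set.image_univ, Set.image_univ] at h1
  exact h1

/-- the map of fibres is dominant iff the image of `f` is dense in the (topological) fibre. -/
theorem denseRange_fibre_iff (hY : IsPullback pY a g (S.fromSpecResidueField s))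
    (hX : IsPullback pX f' f pY) :
    DenseRange f' ↔ g ⁻¹' {s} ⊆ closure (Set.range f ∩ g ⁻¹' {s}) := by
  have key := preimage_subset_closure_preimage_iff_of_isEmbedding (isEmbedding_of_fibre hY)
    (Set.range f) Set.univ
  rw [Set.preimage_univ, Set.univ_inter, range_of_fibre hY, ← range_eq_preimage_of_isPullback hX]
    at key
  rw [← key]
  exact ⟨fun h x _ => h x, fun h x => h (Set.mem_univ x)⟩

/-- the map of fibres has closed range iff the image of `f` is closed in the fibre. -/
theorem isClosed_range_fibre_iff (hY : IsPullback pY a g (S.fromSpecResidueField s))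
    (hX : IsPullback pX f' f pY) :
    IsClosed (Set.range f') ↔
      closure (Set.range f ∩ g ⁻¹' {s}) ∩ g ⁻¹' {s} ⊆ Set.range f := by
  rw [range_eq_preimage_of_isPullback hX, ← closure_subset_iff_isClosed,
    (isEmbedding_of_fibre hY).isInducing.closure_eq_preimage_closure_image,
    Set.image_preimage_eq_inter_range, range_of_fibre hY]
  constructor
  · rintro h x ⟨hx1, hx2⟩
    obtain ⟨t, rfl⟩ : x ∈ Set.range pY := by rw [range_of_fibre hY]; exact hx2
    exact h hx1
  · intro h t ht
    refine h ⟨ht, ?_⟩
    have : pY t ∈ Set.range pY := ⟨t, rfl⟩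
    rw [range_of_fibre hY] at this
    exact this

end fibre

theorem isSeparated_iff_isClosed_range_diagonal {X Y : Scheme.{u}} (f : X ⟶ Y) :
    IsSeparated f ↔ IsClosed (Set.range (pullback.diagonal f)) := by
  constructor
  · intro h
    exact (pullback.diagonal f).isClosedEmbedding.isClosed_range
  · intro h
    exact ⟨IsClosedImmersion.of_isPreimmersion _ h⟩

/-- "The map of fibres is dominant" is a constructible property of morphisms. -/
theorem isConsMor_isDominant : ConsProp.IsConsMor.{u} (fun _ _ _ f _ => IsDominant f) := by
  refine ⟨?_, ?_⟩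
  · intro X X' Y Y' T T' f g f' g' eX eY h _ _ _ _ _ _ _ _ hY hX
    haveI hopen : UniversallyOpen eY :=
      MorphismProperty.of_isPullback (P := @UniversallyOpen) hY.flip inferInstance
    haveI : Surjective h := ⟨fun x => ⟨Classical.arbitrary _, Subsingleton.elim _ _⟩⟩
    haveI hsurj : Surjective eY :=
      MorphismProperty.of_isPullback (P := @Surjective) hY.flip inferInstance
    have hr : Set.range f' = eY ⁻¹' Set.range f := range_eq_preimage_of_isPullback hX
    have key := preimage_subset_closure_preimage_iff_of_isOpenMap eY.continuous eY.isOpenMap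
      eY.surjective (Set.range f) Set.univ
    rw [Set.preimage_univ, ← hr] at key
    show IsDominant f ↔ IsDominant f'
    rw [isDominant_iff, isDominant_iff]
    constructor
    · intro h1 x
      exact key.mpr (fun y _ => h1 y) (Set.mem_univ x)
    · intro h1 x
      exact key.mp (fun y _ => h1 y) (Set.mem_univ x)
  · intro X Y S f g _ _ _ _ _ _
    haveI : IsLocallyNoetherian Y := LocallyOfFiniteType.isLocallyNoetherian g
    obtain ⟨_, _⟩ := Groth.Agent.Lib.Helper3.ForallFiber.ft_of_comp f g
    haveI : CompactSpace Y := QuasiCompact.compactSpace_of_compactSpace g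
    haveI : IsNoetherian Y := { }
    haveI : NoetherianSpace Y := inferInstance
    have hZ : IsConstructible (Set.range f) := by
      rw [← Set.image_univ]
      exact f.isConstructible_image IsConstructible.univ
    obtain ⟨U, hU, hUne, H⟩ := exists_open_forall_closure_inter_fibre g (Set.range f) hZ
    have hcl : IsConstructible (closure (Set.range f)) :=
      isConstructible_compl.mp
        (IsOpen.isConstructible_of_noetherianSpace isClosed_closure.isOpen_compl)
    refine dichotomy_of_forall_mem g _ (closure (Set.range f)) hcl U hU hUne fun s hs => ?_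
    have key : DenseRange (MoreMor.fiberMap f g s) ↔
        g ⁻¹' {s} ⊆ closure (Set.range f ∩ g ⁻¹' {s}) :=
      denseRange_fibre_iff (IsPullback.of_hasPullback g (S.fromSpecResidueField s))
        (Groth.Agent.Lib.Helper5.FibMorLoci.isPullback_fiberMap f g s)
    show IsDominant (MoreMor.fiberMap f g s) ↔ _
    rw [isDominant_iff, key]
    constructor
    · intro h1 y hy
      exact closure_mono Set.inter_subset_left (h1 hy)
    · intro h1 y hy
      exact H s hs ⟨h1 y hy, hy⟩

/-- "The map of fibres is separated" is a constructible property of morphisms. -/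
theorem isConsMor_isSeparated : ConsProp.IsConsMor.{u} (fun _ _ _ f _ => IsSeparated f) := by
  haveI := Groth.Agent.Lib.Helper12.descendsAlong_isSeparated.{u}
  refine ⟨isFieldStableMor_of @IsSeparated, ?_⟩
  intro X Y S f g _ _ _ _ _ _
  haveI : IsLocallyNoetherian Y := LocallyOfFiniteType.isLocallyNoetherian g
  obtain ⟨_, _⟩ := Groth.Agent.Lib.Helper3.ForallFiber.ft_of_comp f g
  -- the double fibre product and its structure map
  have hW1 : LocallyOfFiniteType (pullback.fst f f ≫ f ≫ g) := inferInstance
  have hW2 : QuasiCompact (pullback.fst f f ≫ f ≫ g) := inferInstance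
  haveI : IsLocallyNoetherian (pullback f f) :=
    LocallyOfFiniteType.isLocallyNoetherian (pullback.fst f f ≫ f ≫ g)
  haveI : CompactSpace ↥(pullback f f) :=
    QuasiCompact.compactSpace_of_compactSpace (pullback.fst f f ≫ f ≫ g)
  haveI : IsNoetherian (pullback f f) := { }
  haveI : NoetherianSpace ↥(pullback f f) := inferInstance
  have hclosed : ∀ C : Set ↥(pullback f f), IsClosed C → IsConstructible C := fun C hC =>
    isConstructible_compl.mp (IsOpen.isConstructible_of_noetherianSpace hC.isOpen_compl)
  have hZ : IsConstructible (Set.range (pullback.diagonal f)) := by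
    obtain ⟨O, C, hO, hC, hOC⟩ := (pullback.diagonal f).isLocallyClosed_range
    rw [hOC]
    exact (IsOpen.isConstructible_of_noetherianSpace hO).inter (hclosed C hC)
  obtain ⟨U, hU, hUne, H⟩ := exists_open_forall_closure_inter_fibre
    (pullback.fst f f ≫ f ≫ g) (Set.range (pullback.diagonal f)) hZ
  have hC : IsConstructible
      ((closure (Set.range (pullback.diagonal f)) \ Set.range (pullback.diagonal f))ᶜ) :=
    isConstructible_compl.mpr ((hclosed _ isClosed_closure).sdiff hZ)
  refine dichotomy_of_forall_mem (pullback.fst f f ≫ f ≫ g) _ _ hC U hU hUne fun s hs => ?_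
  have hXs := Groth.Agent.Lib.Helper5.FibMorLoci.isPullback_fiberMap f g s
  have hYs : IsPullback (g.fiberι s) (g.fiberToSpecResidueField s) g
      (S.fromSpecResidueField s) := IsPullback.of_hasPullback _ _
  have key : IsClosed (Set.range (pullback.diagonal (MoreMor.fiberMap f g s))) ↔
      closure (Set.range (pullback.diagonal f) ∩ (pullback.fst f f ≫ f ≫ g) ⁻¹' {s}) ∩
        (pullback.fst f f ≫ f ≫ g) ⁻¹' {s} ⊆ Set.range (pullback.diagonal f) :=
    isClosed_range_fibre_iff (Groth.Agent.Lib.Helper3.DiagBC.isPullback_dmap_base hYs hXs)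
      (Groth.Agent.Lib.Helper3.DiagBC.isPullback_diagonal hXs)
  show IsSeparated (MoreMor.fiberMap f g s) ↔ _
  rw [isSeparated_iff_isClosed_range_diagonal, key]
  constructor
  · intro h1 w hw hmem
    exact hmem.2 (h1 ⟨H s hs ⟨hmem.1, hw⟩, hw⟩)
  · rintro h1 w ⟨hw1, hw2⟩
    by_contra hwZ
    exact h1 w hw2 ⟨closure_mono Set.inter_subset_left hw1, hwZ⟩

end Groth.Agent.Lib.R2H2.FibreLoci
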