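import Mathlib
import Groth.Agent.Lib.R2H2FibreLoci
import Groth.Agent.Lib.Helper3LocusFam
import Groth.Agent.Lib.Helper5ProCons
import Groth.Agent.Lib.Helper22LimBC
import Groth.Agent.Lib.Helper26FGZ
import Groth.Agent.Lib.Helper3LocusPair
import Groth.Agent.S0591
import Groth.Agent.S4759

/-!
# Loci in the base defined by topological conditions on traces of constructible sets on fibres

For `f : X ⟶ S` of finite presentation and `Z, Z' ⊆ X` locally constructible, and a predicate
`Φ` on pairs of subsets of a topological space which is invariant under pullback along open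
continuous surjections, the family of sets
`{s | Φ (X_s) (Z ∩ X_s) (Z' ∩ X_s)}` is a "locus family" in the sense of `Helper3LocusFam`:
stable under base change and with Noetherian approximation (EGA IV 9.5.2--9.5.4 setting).
-/

set_option autoImplicit false
set_option linter.style.haveILetI false
universe u

open CategoryTheory CategoryTheory.Limits AlgebraicGeometry Topology TopologicalSpace

namespace Groth.Agent.Lib.R2H2.FibreSets

open Groth.Agent.Lib.Helper3.LocusFam Groth.Agent.Lib.Helper26.FGZ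
  Groth.Agent.Lib.Helper22.LimBC

/-- predicates on pairs of subsets of topological spaces which are invariant under pullback along
open continuous surjections. -/
structure IsOpenSurjInvariant
    (Φ : ∀ (T : Type u) [TopologicalSpace T], Set T → Set T → Prop) : Prop where
  inv : ∀ {T' T : Type u} [TopologicalSpace T'] [TopologicalSpace T] (e : T' → T),
    Continuous e → IsOpenMap e → Function.Surjective e → ∀ A A' : Set T,
      (Φ T' (e ⁻¹' A) (e ⁻¹' A') ↔ Φ T A A')

variable {Φ : ∀ (T : Type u) [TopologicalSpace T], Set T → Set T → Prop}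

/-- the locus in the base where `Φ` holds for the traces of `Z`, `Z'` on the fibre. -/
def locus (Φ : ∀ (T : Type u) [TopologicalSpace T], Set T → Set T → Prop)
    {X S : Scheme.{u}} (f : X ⟶ S) (Z Z' : Set X) : Set S :=
  {s | Φ (f.fiber s) ((f.fiberι s) ⁻¹' Z) ((f.fiberι s) ⁻¹' Z')}

/-- base change invariance of the fibre condition. -/
theorem pred_iff_of_isPullback (hΦ : IsOpenSurjInvariant Φ) {X' X S' S : Scheme.{u}}
    {p : X' ⟶ X} {f' : X' ⟶ S'} {f : X ⟶ S} {a : S' ⟶ S} (h : IsPullback p f' f a)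
    (Z Z' : Set X) (s' : S') :
    Φ (f'.fiber s') ((f'.fiberι s') ⁻¹' (p ⁻¹' Z)) ((f'.fiberι s') ⁻¹' (p ⁻¹' Z')) ↔
      Φ (f.fiber (a s')) ((f.fiberι (a s')) ⁻¹' Z) ((f.fiberι (a s')) ⁻¹' Z') := by
  have hsq := isPullback_fiberToSpecResidueField_of_isPullback h s'
  obtain ⟨e, he⟩ : ∃ e : f'.fiber s' ⟶ f.fiber (a s'),
      e = pullback.map _ _ _ _ p (Spec.map (a.residueFieldMap s')) a h.w.symm (by simp) :=
    ⟨_, rfl⟩
  rw [← he] at hsq
  have hfac : e ≫ f.fiberι (a s') = f'.fiberι s' ≫ p := by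
    rw [he]
    exact pullback.lift_fst _ _ _
  haveI : IsIntegral (Spec (S.residueField (a s'))) := inferInstance
  haveI : Subsingleton ↥(Spec (S.residueField (a s'))) :=
    inferInstanceAs (Subsingleton (PrimeSpectrum (S.residueField (a s'))))
  haveI : Nonempty ↥(Spec (S'.residueField s')) :=
    inferInstanceAs (Nonempty (PrimeSpectrum (S'.residueField s')))
  haveI hopen : UniversallyOpen e :=
    MorphismProperty.of_isPullback (P := @UniversallyOpen) hsq.flip inferInstance
  haveI : Surjective (Spec.map (a.residueFieldMap s')) :=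
    ⟨fun x => ⟨Classical.arbitrary _, Subsingleton.elim _ _⟩⟩
  haveI hsurj : Surjective e :=
    MorphismProperty.of_isPullback (P := @Surjective) hsq.flip inferInstance
  have hpre : ∀ W : Set X, (f'.fiberι s') ⁻¹' (p ⁻¹' W) = e ⁻¹' ((f.fiberι (a s')) ⁻¹' W) := by
    intro W
    ext x
    show p (f'.fiberι s' x) ∈ W ↔ f.fiberι (a s') (e x) ∈ W
    rw [← Scheme.Hom.comp_apply, ← Scheme.Hom.comp_apply, hfac]
  rw [hpre, hpre]
  exact hΦ.inv e e.continuous e.isOpenMap e.surjective _ _

theorem locus_eq_preimage (hΦ : IsOpenSurjInvariant Φ) {X' X S' S : Scheme.{u}}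
    {p : X' ⟶ X} {f' : X' ⟶ S'} {f : X ⟶ S} {a : S' ⟶ S} (h : IsPullback p f' f a)
    (Z Z' : Set X) : locus Φ f' (p ⁻¹' Z) (p ⁻¹' Z') = a ⁻¹' locus Φ f Z Z' := by
  ext s'
  exact pred_iff_of_isPullback hΦ h Z Z' s'

/-- the family of loci. -/
def FamFib (Φ : ∀ (T : Type u) [TopologicalSpace T], Set T → Set T → Prop) (S : Scheme.{u})
    (E : Set S) : Prop :=
  ∃ (X : Scheme.{u}) (f : X ⟶ S) (Z Z' : Set X), LocallyOfFinitePresentation f ∧ QuasiCompact f ∧
    QuasiSeparated f ∧ IsLocallyConstructible Z ∧ IsLocallyConstructible Z' ∧ E = locus Φ f Z Z'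

theorem isLocusFam_famFib (hΦ : IsOpenSurjInvariant Φ) : IsLocusFam (FamFib Φ) where
  bc := by
    rintro S S' a E ⟨X, f, Z, Z', h1, h2, h3, hZ, hZ', rfl⟩
    haveI := h1
    haveI := h2
    haveI := h3
    refine ⟨pullback f a, pullback.snd f a, (pullback.fst f a) ⁻¹' Z, (pullback.fst f a) ⁻¹' Z',
      inferInstance, inferInstance, inferInstance,
      Groth.Agent.Lib.Helper5.isLocallyConstructible_preimage _ hZ,
      Groth.Agent.Lib.Helper5.isLocallyConstructible_preimage _ hZ', ?_⟩
    exact (locus_eq_preimage hΦ (IsPullback.of_hasPullback f a) Z Z').symm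
  approx := by
    rintro A E ⟨X, f, Z, Z', h1, h2, h3, hZ, hZ', rfl⟩
    haveI := h1
    haveI := h2
    haveI := h3
    obtain ⟨i, Xi, fi, q, a1, a2, a3, hP⟩ :=
      @Groth.Agent.S0591.result _ _ _ (specDiagram A) (specCone A) (specIsLimit A) _ _ _ X f
        h1 h2 h3
    haveI : CompactSpace ↥X := QuasiCompact.compactSpace_of_compactSpace f
    haveI : QuasiSeparatedSpace ↥X := quasiSeparatedSpace_of_quasiSeparated f
    haveI : CompactSpace ↥Xi := QuasiCompact.compactSpace_of_compactSpace fi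
    haveI : QuasiSeparatedSpace ↥Xi := quasiSeparatedSpace_of_quasiSeparated fi
    have hlim := isLimitBcCone i hP (specIsLimit A)
    let i₀ : Over i := Over.mk (𝟙 i)
    haveI : CompactSpace ↥((bcDiagram (specDiagram A) i fi).obj i₀) := inferInstance
    haveI : QuasiSeparatedSpace ↥((bcDiagram (specDiagram A) i fi).obj i₀) := inferInstance
    obtain ⟨j, -, Zj, hZj, hZjeq⟩ := Groth.Agent.S4759.result (bcDiagram (specDiagram A) i fi)
      (bcCone i hP) hlim i₀ Z hZ.isConstructible
    obtain ⟨j', -, Zj', hZj', hZj'eq⟩ := Groth.Agent.S4759.result (bcDiagram (specDiagram A) i fi)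
      (bcCone i hP) hlim i₀ Z' hZ'.isConstructible
    let k : Over i := IsCofiltered.min j j'
    let α : k ⟶ j := IsCofiltered.minToLeft j j'
    let β : k ⟶ j' := IsCofiltered.minToRight j j'
    let fk := dSnd (specDiagram A) i fi k
    haveI : LocallyOfFinitePresentation fk := MorphismProperty.pullback_snd _ _ a1
    haveI : QuasiCompact fk := MorphismProperty.pullback_snd _ _ a2
    haveI : QuasiSeparated fk := MorphismProperty.pullback_snd _ _ a3
    let Zk : Set ↥((bcDiagram (specDiagram A) i fi).obj k) :=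
      ((bcDiagram (specDiagram A) i fi).map α) ⁻¹' Zj
    let Zk' : Set ↥((bcDiagram (specDiagram A) i fi).obj k) :=
      ((bcDiagram (specDiagram A) i fi).map β) ⁻¹' Zj'
    have hZk : IsLocallyConstructible Zk :=
      (((bcDiagram (specDiagram A) i fi).map α).isConstructible_preimage hZj).isLocallyConstructible
    have hZk' : IsLocallyConstructible Zk' :=
      (((bcDiagram (specDiagram A) i fi).map β).isConstructible_preimage
        hZj').isLocallyConstructible
    have e1 : (bcπ (c := specCone A) i hP k) ⁻¹' Zk = Z := by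
      rw [← hZjeq, bcCone_π_app, ← bcπ_map (c := specCone A) i hP α]
      rfl
    have e2 : (bcπ (c := specCone A) i hP k) ⁻¹' Zk' = Z' := by
      rw [← hZj'eq, bcCone_π_app, ← bcπ_map (c := specCone A) i hP β]
      rfl
    have hfam : FamFib Φ ((specDiagram A).obj k.left) (locus Φ fk Zk Zk') :=
      ⟨_, fk, Zk, Zk', inferInstance, inferInstance, inferInstance, hZk, hZk', rfl⟩
    have hloc : locus Φ f Z Z' = (specCone A).π.app k.left ⁻¹' locus Φ fk Zk Zk' := by
      have := locus_eq_preimage hΦ (isPullback_bcπ (c := specCone A) i hP k) Zk Zk'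
      rw [e1, e2] at this
      exact this
    exact ⟨CommRingCat.of k.left.unop.1, CommRingCat.ofHom (algebraMap k.left.unop.1 A), _,
      Groth.Agent.Lib.Helper3.LocusPair.noeth_fgSub A k.left.unop, hfam, hloc⟩

/-! ### The four predicates -/

/-- `A` is dense in `A'`. -/
def PhiDense (T : Type u) [TopologicalSpace T] (A A' : Set T) : Prop := A' ⊆ closure A

/-- `A` is closed. -/
def PhiClosed (T : Type u) [TopologicalSpace T] (A _A' : Set T) : Prop := IsClosed A

/-- `A` is open. -/
def PhiOpen (T : Type u) [TopologicalSpace T] (A _A' : Set T) : Prop := IsOpen A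

/-- `A` is locally closed. -/
def PhiLC (T : Type u) [TopologicalSpace T] (A _A' : Set T) : Prop := IsLocallyClosed A

theorem inv_dense : IsOpenSurjInvariant.{u} PhiDense :=
  ⟨fun _ hc ho hs A A' =>
    Groth.Agent.Lib.R2H2.FibreLoci.preimage_subset_closure_preimage_iff_of_isOpenMap hc ho hs A A'⟩

theorem inv_closed : IsOpenSurjInvariant.{u} PhiClosed :=
  ⟨fun _ hc ho hs _ _ => (ho.isQuotientMap hc hs).isClosed_preimage⟩

theorem inv_open : IsOpenSurjInvariant.{u} PhiOpen :=
  ⟨fun _ hc ho hs _ _ => (ho.isQuotientMap hc hs).isOpen_preimage⟩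

theorem inv_lc : IsOpenSurjInvariant.{u} PhiLC :=
  ⟨fun e hc ho hs A _ => by
    show IsLocallyClosed (e ⁻¹' A) ↔ IsLocallyClosed A
    rw [isLocallyClosed_iff_isOpen_coborder, isLocallyClosed_iff_isOpen_coborder,
      coborder_preimage ho hc]
    exact (ho.isQuotientMap hc hs).isOpen_preimage⟩

/-! ### Translation to the total space -/

section translate

variable {X S : Scheme.{u}} (f : X ⟶ S) (s : S)

theorem closure_preimage_fiberι (Z : Set X) :
    closure ((f.fiberι s) ⁻¹' Z) = (f.fiberι s) ⁻¹' closure (Z ∩ f ⁻¹' {s}) := by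
  rw [(f.fiberι s).isEmbedding.isInducing.closure_eq_preimage_closure_image,
    Set.image_preimage_eq_inter_range, f.range_fiberι]

theorem fiberι_mem (t : f.fiber s) : f.fiberι s t ∈ f ⁻¹' {s} := by
  rw [← f.range_fiberι]
  exact ⟨t, rfl⟩

theorem preimage_fiberι_subset_iff (A B : Set X) :
    (f.fiberι s) ⁻¹' A ⊆ (f.fiberι s) ⁻¹' B ↔ A ∩ f ⁻¹' {s} ⊆ B := by
  constructor
  · rintro h x ⟨hxA, hxs⟩
    obtain ⟨t, rfl⟩ : x ∈ Set.range (f.fiberι s) := by rw [f.range_fiberι]; exact hxs
    exact h hxA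
  · intro h t ht
    exact h ⟨ht, fiberι_mem f s t⟩

theorem phiDense_iff (Z Z' : Set X) :
    PhiDense (f.fiber s) ((f.fiberι s) ⁻¹' Z) ((f.fiberι s) ⁻¹' Z') ↔
      Z' ∩ f ⁻¹' {s} ⊆ closure (Z ∩ f ⁻¹' {s}) := by
  show (f.fiberι s) ⁻¹' Z' ⊆ closure ((f.fiberι s) ⁻¹' Z) ↔ _
  rw [closure_preimage_fiberι, preimage_fiberι_subset_iff]

theorem isClosed_preimage_fiberι_iff (Z : Set X) :
    IsClosed ((f.fiberι s) ⁻¹' Z) ↔ closure (Z ∩ f ⁻¹' {s}) ∩ f ⁻¹' {s} ⊆ Z := by
  rw [← closure_subset_iff_isClosed, closure_preimage_fiberι, preimage_fiberι_subset_iff]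

/-- On the good open of `Z`, closedness of the trace on the fibre reads off in `X`. -/
theorem isClosed_preimage_fiberι_iff_of_core (Z : Set X)
    (hs : closure Z ∩ f ⁻¹' {s} ⊆ closure (Z ∩ f ⁻¹' {s})) :
    IsClosed ((f.fiberι s) ⁻¹' Z) ↔ ∀ x : X, f x = s → x ∈ (closure Z \ Z)ᶜ := by
  rw [isClosed_preimage_fiberι_iff]
  constructor
  · intro h1 x hx hmem
    exact hmem.2 (h1 ⟨hs ⟨hmem.1, hx⟩, hx⟩)
  · rintro h1 x ⟨hx1, hx2⟩
    by_contra hxZ
    exact h1 x hx2 ⟨closure_mono Set.inter_subset_left hx1, hxZ⟩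

theorem phiDense_iff_of_core (Z Z' : Set X)
    (hs : closure Z ∩ f ⁻¹' {s} ⊆ closure (Z ∩ f ⁻¹' {s})) :
    PhiDense (f.fiber s) ((f.fiberι s) ⁻¹' Z) ((f.fiberι s) ⁻¹' Z') ↔
      ∀ x : X, f x = s → x ∈ (Z' \ closure Z)ᶜ := by
  rw [phiDense_iff]
  constructor
  · intro h1 x hx hmem
    exact hmem.2 (closure_mono Set.inter_subset_left (h1 ⟨hmem.1, hx⟩))
  · rintro h1 x ⟨hx1, hx2⟩
    by_contra hxZ
    exact h1 x hx2 ⟨hx1, fun hc => hxZ (hs ⟨hc, hx2⟩)⟩

theorem isLocallyClosed_preimage_fiberι_iff_of_core (Z : Set X)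
    (hs : closure Z ∩ f ⁻¹' {s} ⊆ closure (Z ∩ f ⁻¹' {s})) :
    IsLocallyClosed ((f.fiberι s) ⁻¹' Z) ↔ IsClosed ((f.fiberι s) ⁻¹' (closure Z \ Z)) := by
  rw [isLocallyClosed_iff_isOpen_coborder, coborder, isOpen_compl_iff, closure_preimage_fiberι]
  have e : (f.fiberι s) ⁻¹' closure (Z ∩ f ⁻¹' {s}) \ (f.fiberι s) ⁻¹' Z =
      (f.fiberι s) ⁻¹' (closure Z \ Z) := by
    ext t
    constructor
    · rintro ⟨h1, h2⟩
      exact ⟨closure_mono Set.inter_subset_left h1, h2⟩
    · rintro ⟨h1, h2⟩
      exact ⟨hs ⟨h1, fiberι_mem f s t⟩, h2⟩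
  rw [e]

end translate

/-! ### The generic dichotomies -/

section dichotomy

open Groth.Agent.Lib.R2H2.FibreClosure Groth.Agent.Lib.R2H2.FibreLoci
  Groth.Agent.Lib.Helper5.LocusGeneric

variable {X S : Scheme.{u}} (f : X ⟶ S) [IsIntegral S] [IsNoetherian S] [LocallyOfFiniteType f]
  [QuasiCompact f]

include f in
theorem noetherianSpace_of_finiteType : NoetherianSpace X := by
  haveI : IsLocallyNoetherian X := LocallyOfFiniteType.isLocallyNoetherian f
  haveI : CompactSpace X := QuasiCompact.compactSpace_of_compactSpace f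
  haveI : IsNoetherian X := { }
  infer_instance

theorem isConstructible_of_isClosed_of_noetherianSpace {T : Type*} [TopologicalSpace T]
    [NoetherianSpace T] {C : Set T} (hC : IsClosed C) : IsConstructible C :=
  isConstructible_compl.mp (IsOpen.isConstructible_of_noetherianSpace hC.isOpen_compl)

theorem dichotomy_dense (Z Z' : Set X) (hZ : IsConstructible Z) (hZ' : IsConstructible Z') :
    (interior (locus PhiDense f Z Z')).Nonempty ∨
      (interior (locus PhiDense f Z Z')ᶜ).Nonempty := by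
  haveI := noetherianSpace_of_finiteType f
  obtain ⟨U, hU, hUne, H⟩ := exists_open_forall_closure_inter_fibre f Z hZ
  have hcl : IsConstructible (closure Z) :=
    isConstructible_of_isClosed_of_noetherianSpace isClosed_closure
  refine dichotomy_of_forall_mem f _ ((Z' \ closure Z)ᶜ)
    (isConstructible_compl.mpr (hZ'.sdiff hcl)) U hU hUne fun s hs => ?_
  exact phiDense_iff_of_core f s Z Z' (H s hs)

theorem dichotomy_closed (Z Z' : Set X) (hZ : IsConstructible Z) :
    (interior (locus PhiClosed f Z Z')).Nonempty ∨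
      (interior (locus PhiClosed f Z Z')ᶜ).Nonempty := by
  haveI := noetherianSpace_of_finiteType f
  obtain ⟨U, hU, hUne, H⟩ := exists_open_forall_closure_inter_fibre f Z hZ
  have hcl : IsConstructible (closure Z) :=
    isConstructible_of_isClosed_of_noetherianSpace isClosed_closure
  refine dichotomy_of_forall_mem f _ ((closure Z \ Z)ᶜ)
    (isConstructible_compl.mpr (hcl.sdiff hZ)) U hU hUne fun s hs => ?_
  exact isClosed_preimage_fiberι_iff_of_core f s Z (H s hs)

theorem locus_open_eq (Z Z' : Set X) : locus PhiOpen f Z Z' = locus PhiClosed f Zᶜ Z' := by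
  ext s
  show IsOpen ((f.fiberι s) ⁻¹' Z) ↔ IsClosed ((f.fiberι s) ⁻¹' Zᶜ)
  rw [Set.preimage_compl, isClosed_compl_iff]

theorem dichotomy_open (Z Z' : Set X) (hZ : IsConstructible Z) :
    (interior (locus PhiOpen f Z Z')).Nonempty ∨
      (interior (locus PhiOpen f Z Z')ᶜ).Nonempty := by
  rw [locus_open_eq]
  exact dichotomy_closed f Zᶜ Z' (isConstructible_compl.mpr hZ)

theorem dichotomy_lc (Z Z' : Set X) (hZ : IsConstructible Z) :
    (interior (locus PhiLC f Z Z')).Nonempty ∨
      (interior (locus PhiLC f Z Z')ᶜ).Nonempty := by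
  haveI := noetherianSpace_of_finiteType f
  obtain ⟨U₁, hU₁, hU₁ne, H₁⟩ := exists_open_forall_closure_inter_fibre f Z hZ
  have hcl : IsConstructible (closure Z) :=
    isConstructible_of_isClosed_of_noetherianSpace isClosed_closure
  have hZ₂ : IsConstructible (closure Z \ Z) := hcl.sdiff hZ
  obtain ⟨U₂, hU₂, hU₂ne, H₂⟩ := exists_open_forall_closure_inter_fibre f (closure Z \ Z) hZ₂
  have hcl₂ : IsConstructible (closure (closure Z \ Z)) :=
    isConstructible_of_isClosed_of_noetherianSpace isClosed_closure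
  refine dichotomy_of_forall_mem f _ ((closure (closure Z \ Z) \ (closure Z \ Z))ᶜ)
    (isConstructible_compl.mpr (hcl₂.sdiff hZ₂)) (U₁ ∩ U₂) (hU₁.inter hU₂)
    (nonempty_preirreducible_inter hU₁ hU₂ hU₁ne hU₂ne) fun s hs => ?_
  show IsLocallyClosed ((f.fiberι s) ⁻¹' Z) ↔ _
  rw [isLocallyClosed_preimage_fiberι_iff_of_core f s Z (H₁ s hs.1)]
  exact isClosed_preimage_fiberι_iff_of_core f s (closure Z \ Z) (H₂ s hs.2)

end dichotomy

/-! ### Local constructibility -/

theorem isLocallyConstructible_locus (hΦ : IsOpenSurjInvariant Φ)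
    (hD : ∀ {X S : Scheme.{u}} (f : X ⟶ S) [IsIntegral S] [IsNoetherian S]
      [LocallyOfFiniteType f] [QuasiCompact f] (Z Z' : Set X),
      IsConstructible Z → IsConstructible Z' →
        (interior (locus Φ f Z Z')).Nonempty ∨ (interior (locus Φ f Z Z')ᶜ).Nonempty)
    {X S : Scheme.{u}} (f : X ⟶ S) [LocallyOfFinitePresentation f] [QuasiCompact f]
    [QuasiSeparated f] (Z Z' : Set X)
    (hZ : IsLocallyConstructible Z) (hZ' : IsLocallyConstructible Z') :
    IsLocallyConstructible (locus Φ f Z Z') := by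
  refine Groth.Agent.Lib.Helper3.LocusFam.isLocallyConstructible (isLocusFam_famFib hΦ) ?_
    ⟨X, f, Z, Z', inferInstance, inferInstance, inferInstance, hZ, hZ', rfl⟩
  rintro S _ _ E ⟨X, f, Z, Z', h1, h2, h3, hZ, hZ', rfl⟩
  haveI := h1
  haveI := h2
  haveI := h3
  haveI : CompactSpace ↥X := QuasiCompact.compactSpace_of_compactSpace f
  haveI : QuasiSeparatedSpace ↥X := quasiSeparatedSpace_of_quasiSeparated f
  exact hD f Z Z' hZ.isConstructible hZ'.isConstructible

theorem isLocallyConstructible_locus_dense {X S : Scheme.{u}} (f : X ⟶ S)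
    [LocallyOfFinitePresentation f] [QuasiCompact f] [QuasiSeparated f] (Z Z' : Set X)
    (hZ : IsLocallyConstructible Z) (hZ' : IsLocallyConstructible Z') :
    IsLocallyConstructible (locus PhiDense f Z Z') :=
  isLocallyConstructible_locus inv_dense (fun f _ _ _ _ Z Z' hZ hZ' => dichotomy_dense f Z Z' hZ hZ')
    f Z Z' hZ hZ'

theorem isLocallyConstructible_locus_closed {X S : Scheme.{u}} (f : X ⟶ S)
    [LocallyOfFinitePresentation f] [QuasiCompact f] [QuasiSeparated f] (Z : Set X)
    (hZ : IsLocallyConstructible Z) :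
    IsLocallyConstructible (locus PhiClosed f Z Z) :=
  isLocallyConstructible_locus inv_closed (fun f _ _ _ _ Z Z' hZ _ => dichotomy_closed f Z Z' hZ)
    f Z Z hZ hZ

theorem isLocallyConstructible_locus_open {X S : Scheme.{u}} (f : X ⟶ S)
    [LocallyOfFinitePresentation f] [QuasiCompact f] [QuasiSeparated f] (Z : Set X)
    (hZ : IsLocallyConstructible Z) :
    IsLocallyConstructible (locus PhiOpen f Z Z) :=
  isLocallyConstructible_locus inv_open (fun f _ _ _ _ Z Z' hZ _ => dichotomy_open f Z Z' hZ)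
    f Z Z hZ hZ

theorem isLocallyConstructible_locus_lc {X S : Scheme.{u}} (f : X ⟶ S)
    [LocallyOfFinitePresentation f] [QuasiCompact f] [QuasiSeparated f] (Z : Set X)
    (hZ : IsLocallyConstructible Z) :
    IsLocallyConstructible (locus PhiLC f Z Z) :=
  isLocallyConstructible_locus inv_lc (fun f _ _ _ _ Z Z' hZ _ => dichotomy_lc f Z Z' hZ)
    f Z Z hZ hZ

end Groth.Agent.Lib.R2H2.FibreSets
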