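import Mathlib
import Groth.Agent.Lib.R2H2FibreSets
import Groth.Agent.Lib.R2H2ZMTFinite
import Groth.Agent.Lib.Helper3LocusBC
import Groth.Agent.Lib.Helper12Descent
import Groth.Agent.S5889
import Groth.Agent.S9389

/-!
# "The map of fibres is finite" is a constructible property of morphisms (helper2)

EGA IV 9.6.1 (vii): for `f : X ⟶ Y` over an integral Noetherian base `S`, with `X`, `Y` of finite
type over `S`, the set of `s` where `f_s : X_s ⟶ Y_s` is finite, or its complement, contains a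
nonempty open subset.  The proof reduces (generically on `S`) to `f` separated and quasi-finite,
then (by an affine fpqc cover of `Y`) to affine `Y`, then uses the finite form of Zariski's main
theorem `f = π ∘ j` (`j` open immersion, `π` finite): `f_s` is finite iff the open `j_s(X_s)` is
closed in `T_s`, which is handled by the generic commutation of closure with fibres.
-/

set_option autoImplicit false
set_option linter.style.haveILetI false
universe u

open CategoryTheory CategoryTheory.Limits AlgebraicGeometry Topology TopologicalSpace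

namespace Groth.Agent.Lib.R2H2.FibreFinite

open Groth.Agent.Lib.R2H2.FibreClosure Groth.Agent.Lib.R2H2.FibreLoci
  Groth.Agent.Lib.R2H2.FibreSets Groth.Agent.Lib.Helper3.LocusBC
  Groth.Agent.Lib.Helper5.FibMorLoci Groth.Agent.Lib.Helper3.DiagBC
  Groth.Agent.Lib.Helper5.LocusGeneric

/-- the dichotomy: a set or its complement has nonempty interior. -/
def Dich {S : Type*} [TopologicalSpace S] (E : Set S) : Prop :=
  (interior E).Nonempty ∨ (interior Eᶜ).Nonempty

theorem dich_of_subset {S : Type*} [TopologicalSpace S] {E E' : Set S} (h : E ⊆ E')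
    (hE' : Dich E') (hint : (interior E').Nonempty → Dich E) : Dich E := by
  rcases hE' with h1 | h1
  · exact hint h1
  · right
    exact h1.mono (interior_mono (Set.compl_subset_compl.mpr h))

theorem dich_of_preimage {S' S : Type*} [TopologicalSpace S'] [TopologicalSpace S] {a : S' → S}
    (ha : IsOpenEmbedding a) {E : Set S} (H : Dich (a ⁻¹' E)) : Dich E := by
  rcases H with h1 | h1
  · left
    obtain ⟨x, hx⟩ := h1
    refine ⟨a x, ?_⟩
    have ho : IsOpen (a '' interior (a ⁻¹' E)) := ha.isOpenMap _ isOpen_interior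
    refine interior_maximal ?_ ho ⟨x, hx, rfl⟩
    rintro _ ⟨y, hy, rfl⟩
    exact (interior_subset hy : y ∈ a ⁻¹' E)
  · right
    obtain ⟨x, hx⟩ := h1
    refine ⟨a x, ?_⟩
    have ho : IsOpen (a '' interior (a ⁻¹' E)ᶜ) := ha.isOpenMap _ isOpen_interior
    refine interior_maximal ?_ ho ⟨x, hx, rfl⟩
    rintro _ ⟨y, hy, rfl⟩
    exact (interior_subset hy : y ∈ (a ⁻¹' E)ᶜ)

/-- the dichotomy for `locusMor` is local on the base. -/
theorem dich_locusMor_of_isOpenImmersion {P : ∀ ⦃X Y T : Scheme.{u}⦄, (X ⟶ Y) → (Y ⟶ T) → Prop}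
    (hP : ConsProp.IsFieldStableMor P) {X Y S X' Y' S' : Scheme.{u}} {f : X ⟶ Y} {g : Y ⟶ S}
    {f' : X' ⟶ Y'} {g' : Y' ⟶ S'} {a : S' ⟶ S} {pX : X' ⟶ X} {pY : Y' ⟶ Y}
    [IsOpenImmersion a]
    [LocallyOfFiniteType g] [QuasiCompact g] [LocallyOfFiniteType (f ≫ g)] [QuasiCompact (f ≫ g)]
    (hY : IsPullback pY g' g a) (hX : IsPullback pX f' f pY)
    (H : Dich (ConsProp.locusMor P f' g')) : Dich (ConsProp.locusMor P f g) := by
  rw [locusMor_eq_preimage hP hY hX] at H
  exact dich_of_preimage a.isOpenEmbedding H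

/-! ### fpqc covers of the middle scheme -/

theorem locusMor_eq_of_fpqc (Q : MorphismProperty Scheme.{u}) [Q.IsStableUnderBaseChange]
    [Q.DescendsAlong (@Surjective ⊓ @Flat ⊓ @QuasiCompact)]
    {X Y S X' Y' : Scheme.{u}} {f : X ⟶ Y} (g : Y ⟶ S) {f' : X' ⟶ Y'} {c : Y' ⟶ Y} {pX : X' ⟶ X}
    (hc : (@Surjective ⊓ @Flat ⊓ @QuasiCompact : MorphismProperty Scheme.{u}) c)
    (hX : IsPullback pX f' f c) :
    ConsProp.locusMor (fun _ _ _ f _ => Q f) f' (c ≫ g) =
      ConsProp.locusMor (fun _ _ _ f _ => Q f) f g := by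
  ext s
  have hXs := isPullback_fiberMap f g s
  have hX's := isPullback_fiberMap f' (c ≫ g) s
  have hY's := isPullback_fiberMap c g s
  have hw : ((f' ≫ c ≫ g).fiberι s ≫ pX) ≫ f =
      (MoreMor.fiberMap f' (c ≫ g) s ≫ MoreMor.fiberMap c g s) ≫ g.fiberι s := by
    rw [Category.assoc, hX.w, ← Category.assoc ((f' ≫ c ≫ g).fiberι s) f' c, hX's.w,
      Category.assoc, hY's.w, Category.assoc]
  have e1 : hXs.lift _ _ hw ≫ (f ≫ g).fiberι s = (f' ≫ c ≫ g).fiberι s ≫ pX :=
    hXs.lift_fst _ _ hw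
  have e2 : hXs.lift _ _ hw ≫ MoreMor.fiberMap f g s =
      MoreMor.fiberMap f' (c ≫ g) s ≫ MoreMor.fiberMap c g s := hXs.lift_snd _ _ hw
  have outer : IsPullback (hXs.lift _ _ hw ≫ (f ≫ g).fiberι s) (MoreMor.fiberMap f' (c ≫ g) s) f
      (MoreMor.fiberMap c g s ≫ g.fiberι s) := by
    rw [e1, ← hY's.w]
    exact hX's.paste_horiz hX
  have hsq : IsPullback (hXs.lift _ _ hw) (MoreMor.fiberMap f' (c ≫ g) s)
      (MoreMor.fiberMap f g s) (MoreMor.fiberMap c g s) := IsPullback.of_right outer e2 hXs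
  have hfpqc : (@Surjective ⊓ @Flat ⊓ @QuasiCompact : MorphismProperty Scheme.{u})
      (MoreMor.fiberMap c g s) := MorphismProperty.of_isPullback hY's hc
  exact ⟨fun hf' => MorphismProperty.of_isPullback_of_descendsAlong (P := Q) hsq.flip hfpqc hf',
    fun hf => Q.of_isPullback hsq hf⟩

/-! ### The affine, separated, quasi-finite case -/

/-- For `f = j ≫ π` with `j` an open immersion and `π` finite, the map of fibres `f'` of `f` is
finite iff the range of the map of fibres of `j` is closed. -/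
theorem isFinite_fibre_iff {X T Y S Y' X' : Scheme.{u}} (j : X ⟶ T) (π : T ⟶ Y) (g : Y ⟶ S)
    [IsOpenImmersion j] [IsFinite π] {s : S} {pY : Y' ⟶ Y} {a : Y' ⟶ Spec (S.residueField s)}
    {pX : X' ⟶ X} {f' : X' ⟶ Y'} (hY : IsPullback pY a g (S.fromSpecResidueField s))
    (hX : IsPullback pX f' (j ≫ π) pY) :
    IsFinite f' ↔ IsClosed (((π ≫ g).fiberι s) ⁻¹' Set.range j) := by
  have hT := IsPullback.of_hasPullback π pY
  have hw : (pX ≫ j) ≫ π = f' ≫ pY := by rw [Category.assoc]; exact hX.w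
  have e1 : hT.lift _ _ hw ≫ pullback.fst π pY = pX ≫ j := hT.lift_fst _ _ hw
  have e2 : hT.lift _ _ hw ≫ pullback.snd π pY = f' := hT.lift_snd _ _ hw
  have hj' : IsPullback pX (hT.lift _ _ hw) j (pullback.fst π pY) := by
    refine IsPullback.of_bot ?_ e1.symm hT
    rw [e2]
    exact hX
  haveI : IsOpenImmersion (hT.lift _ _ hw) :=
    MorphismProperty.of_isPullback (P := @IsOpenImmersion) hj' inferInstance
  haveI : IsFinite (pullback.snd π pY) := inferInstance
  have key : IsClosed (Set.range (hT.lift _ _ hw)) ↔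
      closure (Set.range j ∩ (π ≫ g) ⁻¹' {s}) ∩ (π ≫ g) ⁻¹' {s} ⊆ Set.range j :=
    isClosed_range_fibre_iff (hT.paste_vert hY) hj'
  rw [isClosed_preimage_fiberι_iff, ← key]
  constructor
  · intro hf'
    haveI : IsFinite (hT.lift _ _ hw ≫ pullback.snd π pY) := by rw [e2]; exact hf'
    haveI : IsFinite (hT.lift _ _ hw) := IsFinite.of_comp _ (pullback.snd π pY)
    exact (hT.lift _ _ hw).isClosedMap.isClosed_range
  · intro hcl
    haveI : IsClosedImmersion (hT.lift _ _ hw) := IsClosedImmersion.of_isPreimmersion _ hcl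
    rw [← e2]
    infer_instance

theorem dich_isFinite_of_affine {X Y S : Scheme.{u}} (f : X ⟶ Y) (g : Y ⟶ S) [IsIntegral S]
    [IsNoetherian S] [LocallyOfFiniteType g] [QuasiCompact g] [LocallyOfFiniteType (f ≫ g)]
    [QuasiCompact (f ≫ g)] [IsAffine Y] [IsSeparated f] [LocallyQuasiFinite f] :
    Dich (ConsProp.locusMor (fun _ _ _ f _ => IsFinite f) f g) := by
  haveI : IsLocallyNoetherian Y := LocallyOfFiniteType.isLocallyNoetherian g
  obtain ⟨_, _⟩ := Groth.Agent.Lib.Helper3.ForallFiber.ft_of_comp f g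
  obtain ⟨T, j, π, rfl, hj, hπ⟩ := Groth.Agent.Lib.R2H2.ZMTFinite.exists_finite_factorization f
  haveI : NoetherianSpace T := noetherianSpace_of_finiteType (π ≫ g)
  have hZ : IsConstructible (Set.range j) :=
    IsOpen.isConstructible_of_noetherianSpace j.isOpenEmbedding.isOpen_range
  have H := dichotomy_closed (π ≫ g) (Set.range j) Set.univ hZ
  have heq : ConsProp.locusMor (fun _ _ _ f _ => IsFinite f) (j ≫ π) g =
      locus PhiClosed (π ≫ g) (Set.range j) Set.univ := by
    ext s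
    exact isFinite_fibre_iff j π g (IsPullback.of_hasPullback g (S.fromSpecResidueField s))
      (isPullback_fiberMap (j ≫ π) g s)
  rw [heq]
  exact H

/-! ### The separated, quasi-finite case -/

theorem dich_isFinite_of_sep_qf {X Y S : Scheme.{u}} (f : X ⟶ Y) (g : Y ⟶ S) [IsIntegral S]
    [IsNoetherian S] [LocallyOfFiniteType g] [QuasiCompact g] [LocallyOfFiniteType (f ≫ g)]
    [QuasiCompact (f ≫ g)] [IsSeparated f] [LocallyQuasiFinite f] :
    Dich (ConsProp.locusMor (fun _ _ _ f _ => IsFinite f) f g) := by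
  haveI := Groth.Agent.Lib.Helper12.descendsAlong_isFinite.{u}
  haveI : CompactSpace Y := QuasiCompact.compactSpace_of_compactSpace g
  let 𝒰 := Y.affineCover.finiteSubcover
  haveI : ∀ i, IsAffine (𝒰.X i) := fun i => by dsimp [𝒰]; infer_instance
  let c : (∐ 𝒰.X) ⟶ Y := Sigma.desc 𝒰.f
  haveI : Surjective c := inferInstanceAs (Surjective (Sigma.desc fun i => 𝒰.f i))
  haveI : Flat c := inferInstanceAs (Flat (Sigma.desc 𝒰.f))
  haveI : LocallyOfFiniteType c := IsZariskiLocalAtSource.sigmaDesc (fun _ => inferInstance)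
  haveI : IsAffine (∐ 𝒰.X) := inferInstance
  haveI : LocallyOfFiniteType (c ≫ g) := inferInstance
  haveI : IsLocallyNoetherian (∐ 𝒰.X) := LocallyOfFiniteType.isLocallyNoetherian (c ≫ g)
  haveI : IsNoetherian (∐ 𝒰.X) := { }
  haveI : QuasiCompact c := inferInstance
  haveI : QuasiCompact (c ≫ g) := inferInstance
  have hX := IsPullback.of_hasPullback f c
  have hcomp : pullback.snd f c ≫ c ≫ g = pullback.fst f c ≫ f ≫ g := by
    rw [← Category.assoc, ← pullback.condition, Category.assoc]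
  haveI : LocallyOfFiniteType (pullback.snd f c ≫ c ≫ g) := by rw [hcomp]; infer_instance
  haveI : QuasiCompact (pullback.snd f c ≫ c ≫ g) := by rw [hcomp]; infer_instance
  have H := dich_isFinite_of_affine (pullback.snd f c) (c ≫ g)
  rw [locusMor_eq_of_fpqc @IsFinite g ⟨⟨inferInstance, inferInstance⟩, inferInstance⟩ hX] at H
  exact H

/-! ### Reduction to the separated, quasi-finite case -/

theorem locallyQuasiFinite_of_fibres {X Y S : Scheme.{u}} (f : X ⟶ Y) (g : Y ⟶ S)
    [LocallyOfFiniteType f] (H : ∀ s, LocallyQuasiFinite (MoreMor.fiberMap f g s)) :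
    LocallyQuasiFinite f := by
  rw [← Scheme.Hom.quasiFiniteLocus_eq_top_iff, eq_top_iff]
  intro x _
  rw [Scheme.Hom.mem_quasiFiniteLocus]
  obtain ⟨s, hs⟩ : ∃ s, (f ≫ g) x = s := ⟨_, rfl⟩
  obtain ⟨w, hw⟩ := exists_fiber_point (f ≫ g) s x hs
  have h1 := Groth.Agent.S9389.result f (g.fiberι s) ((f ≫ g).fiberι s)
    (MoreMor.fiberMap f g s) (isPullback_fiberMap f g s)
  haveI := H s
  have h2 : (MoreMor.fiberMap f g s).QuasiFiniteAt w := Scheme.Hom.quasiFiniteAt _ w
  rw [← hw]
  exact (Set.ext_iff.mp h1 w).mp h2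

instance isNoetherian_opens {S : Scheme.{u}} [IsNoetherian S] (U : S.Opens) :
    IsNoetherian (U : Scheme.{u}) := by
  haveI : CompactSpace ↥(U : Scheme.{u}) :=
    isCompact_iff_compactSpace.mp (NoetherianSpace.isCompact (U : Set S))
  exact { }

/-- If all the maps of fibres are separated, then `f` is separated over a nonempty open subset of
the (integral Noetherian) base. -/
theorem exists_open_isSeparated_of_fibres {X Y S : Scheme.{u}} (f : X ⟶ Y) (g : Y ⟶ S)
    [IsIntegral S] [IsNoetherian S] [LocallyOfFiniteType g] [QuasiCompact g]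
    [LocallyOfFiniteType (f ≫ g)] [QuasiCompact (f ≫ g)]
    (H : ∀ s, IsSeparated (MoreMor.fiberMap f g s)) :
    ∃ U : Set S, IsOpen U ∧ U.Nonempty ∧
      ∀ {X' Y' S' : Scheme.{u}} {f' : X' ⟶ Y'} {g' : Y' ⟶ S'} {a : S' ⟶ S} {pX : X' ⟶ X}
        {pY : Y' ⟶ Y}, IsPullback pY g' g a → IsPullback pX f' f pY → Set.range a ⊆ U →
        IsSeparated f' := by
  haveI : IsLocallyNoetherian Y := LocallyOfFiniteType.isLocallyNoetherian g
  obtain ⟨_, _⟩ := Groth.Agent.Lib.Helper3.ForallFiber.ft_of_comp f g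
  have hW1 : LocallyOfFiniteType (pullback.fst f f ≫ f ≫ g) := inferInstance
  have hW2 : QuasiCompact (pullback.fst f f ≫ f ≫ g) := inferInstance
  haveI : NoetherianSpace ↥(pullback f f) :=
    noetherianSpace_of_finiteType (pullback.fst f f ≫ f ≫ g)
  have hZ : IsConstructible (Set.range (pullback.diagonal f)) := by
    obtain ⟨O, C, hO, hC, hOC⟩ := (pullback.diagonal f).isLocallyClosed_range
    rw [hOC]
    exact (IsOpen.isConstructible_of_noetherianSpace hO).inter
      (isConstructible_of_isClosed_of_noetherianSpace hC)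
  obtain ⟨U, hU, hUne, HU⟩ := exists_open_forall_closure_inter_fibre
    (pullback.fst f f ≫ f ≫ g) (Set.range (pullback.diagonal f)) hZ
  refine ⟨U, hU, hUne, ?_⟩
  have hcl : ∀ w : ↥(pullback f f), (pullback.fst f f ≫ f ≫ g) w ∈ U →
      w ∈ closure (Set.range (pullback.diagonal f)) → w ∈ Set.range (pullback.diagonal f) := by
    intro w hwU hw
    have hXs := isPullback_fiberMap f g ((pullback.fst f f ≫ f ≫ g) w)
    have hYs : IsPullback (g.fiberι ((pullback.fst f f ≫ f ≫ g) w))
        (g.fiberToSpecResidueField ((pullback.fst f f ≫ f ≫ g) w)) g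
        (S.fromSpecResidueField ((pullback.fst f f ≫ f ≫ g) w)) := IsPullback.of_hasPullback _ _
    have key := isClosed_range_fibre_iff (isPullback_dmap_base hYs hXs) (isPullback_diagonal hXs)
    have h1 := (isSeparated_iff_isClosed_range_diagonal _).mp (H ((pullback.fst f f ≫ f ≫ g) w))
    exact key.mp h1 ⟨HU _ hwU ⟨hw, rfl⟩, rfl⟩
  intro X' Y' S' f' g' a pX pY hY hX hr
  rw [isSeparated_iff_isClosed_range_diagonal,
    range_eq_preimage_of_isPullback (isPullback_diagonal hX)]
  have heq : (dmap hX) ⁻¹' Set.range (pullback.diagonal f) =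
      (dmap hX) ⁻¹' closure (Set.range (pullback.diagonal f)) := by
    ext w
    refine ⟨fun hw => subset_closure hw, fun hw => hcl _ ?_ hw⟩
    rw [← Scheme.Hom.comp_apply, (isPullback_dmap_base hY hX).w, Scheme.Hom.comp_apply]
    exact hr ⟨_, rfl⟩
  rw [heq]
  exact isClosed_closure.preimage (dmap hX).continuous

/-- restriction of the situation to a nonempty open subscheme of the base. -/
theorem dich_of_restrict {P : ∀ ⦃X Y T : Scheme.{u}⦄, (X ⟶ Y) → (Y ⟶ T) → Prop}
    (hP : ConsProp.IsFieldStableMor P) {X Y S : Scheme.{u}} (f : X ⟶ Y) (g : Y ⟶ S)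
    [LocallyOfFiniteType g] [QuasiCompact g] [LocallyOfFiniteType (f ≫ g)] [QuasiCompact (f ≫ g)]
    (U : S.Opens)
    (H : ∀ {X' Y' : Scheme.{u}} (f' : X' ⟶ Y') (g' : Y' ⟶ (U : Scheme.{u})) (pX : X' ⟶ X)
      (pY : Y' ⟶ Y) [LocallyOfFiniteType g'] [QuasiCompact g'] [LocallyOfFiniteType (f' ≫ g')]
      [QuasiCompact (f' ≫ g')], IsPullback pY g' g U.ι → IsPullback pX f' f pY →
      Dich (ConsProp.locusMor P f' g')) : Dich (ConsProp.locusMor P f g) := by
  have hY := IsPullback.of_hasPullback g U.ι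
  have hX := IsPullback.of_hasPullback f (pullback.fst g U.ι)
  have hXY := hX.paste_vert hY
  haveI : LocallyOfFiniteType (pullback.snd f (pullback.fst g U.ι) ≫ pullback.snd g U.ι) :=
    MorphismProperty.of_isPullback hXY inferInstance
  haveI : QuasiCompact (pullback.snd f (pullback.fst g U.ι) ≫ pullback.snd g U.ι) :=
    MorphismProperty.of_isPullback hXY inferInstance
  exact dich_locusMor_of_isOpenImmersion hP hY hX (H _ _ _ _ hY hX)

/-- **EGA IV 9.6.1 (vii)**: "The map of fibres is finite" is a constructible property of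
morphisms. -/
theorem isConsMor_isFinite : ConsProp.IsConsMor.{u} (fun _ _ _ f _ => IsFinite f) := by
  haveI := Groth.Agent.Lib.Helper12.descendsAlong_isFinite.{u}
  have hstab : ConsProp.IsFieldStableMor.{u} (fun _ _ _ f _ => IsFinite f) :=
    Groth.Agent.Lib.Helper3.ConsOfLocus.isFieldStableMor_of @IsFinite
  refine ⟨hstab, ?_⟩
  intro X Y S f g _ _ _ _ _ _
  have hsep := isConsMor_isSeparated.{u}
  have hqf := Groth.Agent.S5889.aux.{u}
  refine dich_of_subset (E' := ConsProp.locusMor (fun _ _ _ f _ => IsSeparated f) f g)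
    (fun s (hs : IsFinite _) => (inferInstance : IsSeparated _)) (hsep.2 f g) fun h1 => ?_
  refine dich_of_subset (E' := ConsProp.locusMor (fun _ _ _ f _ => LocallyQuasiFinite f) f g)
    (fun s (hs : IsFinite _) => (inferInstance : LocallyQuasiFinite _)) (hqf.2 f g) fun h2 => ?_
  -- the open where the fibres are separated and quasi-finite
  obtain ⟨U₀, hU₀⟩ : ∃ U₀ : S.Opens, (U₀ : Set S) =
      interior (ConsProp.locusMor (fun _ _ _ f _ => IsSeparated f) f g) ∩
      interior (ConsProp.locusMor (fun _ _ _ f _ => LocallyQuasiFinite f) f g) :=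
    ⟨⟨_, isOpen_interior.inter isOpen_interior⟩, rfl⟩
  have hU₀ne : (U₀ : Set S).Nonempty := by
    rw [hU₀]
    exact nonempty_preirreducible_inter isOpen_interior isOpen_interior h1 h2
  haveI : Nonempty ↥(U₀ : Scheme.{u}) := hU₀ne.to_subtype
  refine dich_of_restrict hstab f g U₀ ?_
  intro X₀ Y₀ f₀ g₀ pX₀ pY₀ _ _ _ _ hY₀ hX₀
  haveI : IsLocallyNoetherian Y₀ := LocallyOfFiniteType.isLocallyNoetherian g₀
  obtain ⟨_, _⟩ := Groth.Agent.Lib.Helper3.ForallFiber.ft_of_comp f₀ g₀
  have hs₀ : ∀ s, IsSeparated (MoreMor.fiberMap f₀ g₀ s) := by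
    intro s
    have e := locusMor_eq_preimage hsep.1 hY₀ hX₀
    have hs : s ∈ ConsProp.locusMor (fun _ _ _ f _ => IsSeparated f) f₀ g₀ := by
      rw [e]
      have h3 : (U₀.ι s : S) ∈ (U₀ : Set S) := s.2
      rw [hU₀] at h3
      exact (interior_subset h3.1 : U₀.ι s ∈ _)
    exact hs
  have hq₀ : ∀ s, LocallyQuasiFinite (MoreMor.fiberMap f₀ g₀ s) := by
    intro s
    have e := locusMor_eq_preimage hqf.1 hY₀ hX₀
    have hs : s ∈ ConsProp.locusMor (fun _ _ _ f _ => LocallyQuasiFinite f) f₀ g₀ := by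
      rw [e]
      have h3 : (U₀.ι s : S) ∈ (U₀ : Set S) := s.2
      rw [hU₀] at h3
      exact (interior_subset h3.2 : U₀.ι s ∈ _)
    exact hs
  haveI : LocallyQuasiFinite f₀ := locallyQuasiFinite_of_fibres f₀ g₀ hq₀
  obtain ⟨U₁, hU₁o, hU₁ne, hU₁⟩ := exists_open_isSeparated_of_fibres f₀ g₀ hs₀
  haveI : Nonempty ↥((⟨U₁, hU₁o⟩ : (U₀ : Scheme.{u}).Opens) : Scheme.{u}) := hU₁ne.to_subtype
  refine dich_of_restrict hstab f₀ g₀ ⟨U₁, hU₁o⟩ ?_
  intro X₁ Y₁ f₁ g₁ pX₁ pY₁ _ _ _ _ hY₁ hX₁
  haveI : IsSeparated f₁ := hU₁ hY₁ hX₁ (by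
    rintro _ ⟨t, rfl⟩
    exact t.2)
  haveI : LocallyQuasiFinite f₁ :=
    MorphismProperty.of_isPullback (P := @LocallyQuasiFinite) hX₁ inferInstance
  exact dich_isFinite_of_sep_qf f₁ g₁

end Groth.Agent.Lib.R2H2.FibreFinite
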