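import Mathlib
import Groth.Agent.Lib.R2H2FibreFinite
import Groth.Agent.Lib.Helper12ImmersionDescent
import Groth.Agent.S2576

/-!
# "The map of fibres is an immersion" is a constructible property of morphisms (helper2)

EGA IV 9.6.1 (viii).  For `f : X ⟶ Y` over an integral Noetherian `S`, let `Z = f(X)`,
`B = closure Z \ Z` and `W = Y \ closure B`.  For `s` in the nonempty open where closure commutes
with fibres for `Z` and for `B`, the map of fibres `f_s` is an immersion iff `X_s ⊆ f⁻¹(W)` and
`(f ∣_ W)_s` is a closed immersion.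
-/

set_option autoImplicit false
set_option linter.style.haveILetI false
universe u

open CategoryTheory CategoryTheory.Limits AlgebraicGeometry Topology TopologicalSpace

namespace Groth.Agent.Lib.R2H2.FibreImmersion

open Groth.Agent.Lib.R2H2.FibreClosure Groth.Agent.Lib.R2H2.FibreLoci
  Groth.Agent.Lib.R2H2.FibreSets Groth.Agent.Lib.R2H2.FibreFinite Groth.Agent.Lib.Helper3.LocusBC
  Groth.Agent.Lib.Helper5.FibMorLoci Groth.Agent.Lib.Helper5.LocusGeneric

theorem dich_inter {S : Type*} [TopologicalSpace S] [PreirreducibleSpace S] {E₁ E₂ : Set S}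
    (h1 : Dich E₁) (h2 : Dich E₂) : Dich (E₁ ∩ E₂) := by
  rcases h1 with h1 | h1
  · rcases h2 with h2 | h2
    · left
      rw [interior_inter]
      exact nonempty_preirreducible_inter isOpen_interior isOpen_interior h1 h2
    · right
      exact h2.mono (interior_mono (Set.compl_subset_compl.mpr Set.inter_subset_right))
  · right
    exact h1.mono (interior_mono (Set.compl_subset_compl.mpr Set.inter_subset_left))

theorem dich_congr_on_open {S : Type*} [TopologicalSpace S] [PreirreducibleSpace S] {E E' U : Set S}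
    (hU : IsOpen U) (hUne : U.Nonempty) (h : ∀ s ∈ U, s ∈ E ↔ s ∈ E') (H : Dich E') : Dich E := by
  rcases H with h1 | h1
  · left
    have hne : (interior E' ∩ U).Nonempty :=
      nonempty_preirreducible_inter isOpen_interior hU h1 hUne
    refine hne.mono (interior_maximal ?_ (isOpen_interior.inter hU))
    rintro s ⟨hs1, hs2⟩
    exact (h s hs2).mpr (interior_subset hs1)
  · right
    have hne : (interior E'ᶜ ∩ U).Nonempty :=
      nonempty_preirreducible_inter isOpen_interior hU h1 hUne
    refine hne.mono (interior_maximal ?_ (isOpen_interior.inter hU))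
    rintro s ⟨hs1, hs2⟩ hsE
    exact interior_subset hs1 ((h s hs2).mp hsE)

/-- the fibre square over a base change of the middle scheme. -/
theorem exists_isPullback_fiberMap {X Y S X' Y' : Scheme.{u}} {f : X ⟶ Y} (g : Y ⟶ S)
    {f' : X' ⟶ Y'} {c : Y' ⟶ Y} {pX : X' ⟶ X} (hX : IsPullback pX f' f c) (s : S) :
    ∃ e : (f' ≫ c ≫ g).fiber s ⟶ (f ≫ g).fiber s,
      IsPullback e (MoreMor.fiberMap f' (c ≫ g) s) (MoreMor.fiberMap f g s)
        (MoreMor.fiberMap c g s) := by
  have hXs := isPullback_fiberMap f g s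
  have hX's := isPullback_fiberMap f' (c ≫ g) s
  have hY's := isPullback_fiberMap c g s
  have hw : ((f' ≫ c ≫ g).fiberι s ≫ pX) ≫ f =
      (MoreMor.fiberMap f' (c ≫ g) s ≫ MoreMor.fiberMap c g s) ≫ g.fiberι s := by
    rw [Category.assoc, hX.w, ← Category.assoc ((f' ≫ c ≫ g).fiberι s) f' c, hX's.w,
      Category.assoc, hY's.w, Category.assoc]
  have e1 : hXs.lift _ _ hw ≫ (f ≫ g).fiberι s = (f' ≫ c ≫ g).fiberι s ≫ pX :=
    hXs.lift_fst _ _ hw
  have e2 : hXs.lift _ _ hw ≫ MoreMor.fiberMap f g s =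
      MoreMor.fiberMap f' (c ≫ g) s ≫ MoreMor.fiberMap c g s := hXs.lift_snd _ _ hw
  have outer : IsPullback (hXs.lift _ _ hw ≫ (f ≫ g).fiberι s) (MoreMor.fiberMap f' (c ≫ g) s) f
      (MoreMor.fiberMap c g s ≫ g.fiberι s) := by
    rw [e1, ← hY's.w]
    exact hX's.paste_horiz hX
  exact ⟨_, IsPullback.of_right outer e2 hXs⟩

/-- A purely fibrewise criterion: if `c` is an open immersion whose range is the coborder of the
range of `f`, then `f` is an immersion iff the base change of `f` to `c` is a closed immersion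
and `f` factors (set-theoretically) through `c`. -/
theorem isImmersion_iff_of_isPullback {X Y X' W : Scheme.{u}} {f : X ⟶ Y} {f' : X' ⟶ W}
    {c : W ⟶ Y} {e : X' ⟶ X} [IsOpenImmersion c] (hsq : IsPullback e f' f c)
    (hc : IsLocallyClosed (Set.range f) → Set.range c = coborder (Set.range f)) :
    IsImmersion f ↔ Set.range f ⊆ Set.range c ∧ IsClosedImmersion f' := by
  constructor
  · intro hf
    have hlc : IsLocallyClosed (Set.range f) := f.isLocallyClosed_range
    have hrc := hc hlc
    refine ⟨by rw [hrc]; exact subset_coborder, ?_⟩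
    haveI : IsImmersion f' := MorphismProperty.of_isPullback (P := @IsImmersion) hsq hf
    refine IsClosedImmersion.of_isPreimmersion _ ?_
    rw [range_eq_preimage_of_isPullback hsq]
    have heq : c ⁻¹' Set.range f = c ⁻¹' closure (Set.range f) := by
      ext w
      refine ⟨fun hw => subset_closure hw, fun hw => ?_⟩
      have h1 : c w ∈ coborder (Set.range f) := by rw [← hrc]; exact ⟨w, rfl⟩
      by_contra hne
      exact h1 ⟨hw, hne⟩
    rw [heq]
    exact isClosed_closure.preimage c.continuous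
  · rintro ⟨hsub, hf'⟩
    haveI : IsOpenImmersion e :=
      MorphismProperty.of_isPullback (P := @IsOpenImmersion) hsq.flip inferInstance
    haveI : Surjective e := by
      refine ⟨fun x => ?_⟩
      have hr : Set.range e = f ⁻¹' Set.range c := range_eq_preimage_of_isPullback hsq.flip
      have : x ∈ Set.range e := by rw [hr]; exact hsub ⟨x, rfl⟩
      exact this
    haveI : IsIso e := (isIso_iff_isOpenImmersion_and_surjective e).mpr ⟨inferInstance, inferInstance⟩
    have hfe : f = inv e ≫ f' ≫ c := by rw [IsIso.eq_inv_comp, hsq.w]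
    rw [hfe]
    infer_instance

theorem isFieldStableMor_isImmersion :
    ConsProp.IsFieldStableMor.{u} (fun _ _ _ f _ => IsImmersion f) := by
  haveI := Groth.Agent.Lib.Helper12.descendsAlong_isImmersion_inf_quasiCompact.{u}
  have h := Groth.Agent.Lib.Helper3.ConsOfLocus.isFieldStableMor_of
    (@IsImmersion ⊓ @QuasiCompact : MorphismProperty Scheme.{u})
  intro X X' Y Y' T T' f g f' g' eX eY h' _ _ _ _ _ _ _ _ hY hX
  haveI : LocallyOfFiniteType g' := MorphismProperty.of_isPullback hY inferInstance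
  haveI : QuasiCompact g' := MorphismProperty.of_isPullback hY inferInstance
  have hXY := hX.paste_vert hY
  haveI : LocallyOfFiniteType (f' ≫ g') := MorphismProperty.of_isPullback hXY inferInstance
  haveI : QuasiCompact (f' ≫ g') := MorphismProperty.of_isPullback hXY inferInstance
  haveI : IsLocallyNoetherian Y := LocallyOfFiniteType.isLocallyNoetherian g
  haveI : IsLocallyNoetherian Y' := LocallyOfFiniteType.isLocallyNoetherian g'
  haveI : QuasiCompact f := QuasiCompact.of_comp f g
  haveI : QuasiCompact f' := QuasiCompact.of_comp f' g'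
  have key := h f g f' g' eX eY h' hY hX
  exact ⟨fun hf => (key.mp ⟨hf, inferInstance⟩).1, fun hf' => (key.mpr ⟨hf', inferInstance⟩).1⟩

theorem isConsMor_isClosedImmersion :
    ConsProp.IsConsMor.{u} (fun _ _ _ f _ => IsClosedImmersion f) := by
  haveI := Groth.Agent.Lib.Helper12.descendsAlong_isClosedImmersion.{u}
  exact Groth.Agent.Lib.Helper3.ConsOfLocus.isConsMor_of @IsClosedImmersion
    (fun f g => Groth.Agent.S2576.result f g)

theorem closure_preimage_fiberι_of_core {X S : Scheme.{u}} (g : X ⟶ S) (s : S) (Z : Set X)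
    (hs : closure Z ∩ g ⁻¹' {s} ⊆ closure (Z ∩ g ⁻¹' {s})) :
    closure ((g.fiberι s) ⁻¹' Z) = (g.fiberι s) ⁻¹' closure Z := by
  rw [closure_preimage_fiberι]
  ext t
  exact ⟨fun h => closure_mono Set.inter_subset_left h,
    fun h => hs ⟨h, Groth.Agent.Lib.R2H2.FibreSets.fiberι_mem g s t⟩⟩

/-- **EGA IV 9.6.1 (viii)**: "the map of fibres is an immersion" is a constructible property of
morphisms. -/
theorem isConsMor_isImmersion : ConsProp.IsConsMor.{u} (fun _ _ _ f _ => IsImmersion f) := by
  refine ⟨isFieldStableMor_isImmersion, ?_⟩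
  intro X Y S f g _ _ _ _ _ _
  haveI : IsLocallyNoetherian Y := LocallyOfFiniteType.isLocallyNoetherian g
  haveI : IsLocallyNoetherian X := LocallyOfFiniteType.isLocallyNoetherian (f ≫ g)
  obtain ⟨_, _⟩ := Groth.Agent.Lib.Helper3.ForallFiber.ft_of_comp f g
  haveI : CompactSpace Y := QuasiCompact.compactSpace_of_compactSpace g
  haveI : CompactSpace X := QuasiCompact.compactSpace_of_compactSpace (f ≫ g)
  haveI : IsNoetherian Y := { }
  haveI : IsNoetherian X := { }
  have hZ : IsConstructible (Set.range f) := by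
    rw [← Set.image_univ]
    exact f.isConstructible_image IsConstructible.univ
  have hcl : IsConstructible (closure (Set.range f)) :=
    isConstructible_of_isClosed_of_noetherianSpace isClosed_closure
  have hB : IsConstructible (closure (Set.range f) \ Set.range f) := hcl.sdiff hZ
  obtain ⟨U₁, hU₁, hU₁ne, H₁⟩ := exists_open_forall_closure_inter_fibre g (Set.range f) hZ
  obtain ⟨U₂, hU₂, hU₂ne, H₂⟩ := exists_open_forall_closure_inter_fibre g
    (closure (Set.range f) \ Set.range f) hB
  obtain ⟨W, hW⟩ : ∃ W : Y.Opens,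
      (W : Set Y) = (closure (closure (Set.range f) \ Set.range f))ᶜ :=
    ⟨⟨_, isClosed_closure.isOpen_compl⟩, rfl⟩
  have hres : IsPullback (f ⁻¹ᵁ W).ι (f ∣_ W) f W.ι := (isPullback_morphismRestrict f W).flip
  haveI : LocallyOfFiniteType (W.ι ≫ g) := inferInstance
  haveI : QuasiCompact (W.ι ≫ g) := inferInstance
  have hcomp : (f ∣_ W) ≫ W.ι ≫ g = (f ⁻¹ᵁ W).ι ≫ f ≫ g := by
    rw [← Category.assoc, ← hres.w, Category.assoc]
  haveI : LocallyOfFiniteType ((f ∣_ W) ≫ W.ι ≫ g) := by rw [hcomp]; infer_instance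
  haveI : QuasiCompact ((f ∣_ W) ≫ W.ι ≫ g) := by rw [hcomp]; infer_instance
  have hE₁ : Dich {s : S | ∀ x : X, (f ≫ g) x = s → x ∈ ((f ⁻¹ᵁ W : X.Opens) : Set X)} :=
    dichotomy_of_forall_mem (f ≫ g) _ ((f ⁻¹ᵁ W : X.Opens) : Set X)
      (IsOpen.isConstructible_of_noetherianSpace (f ⁻¹ᵁ W).2) Set.univ isOpen_univ
      Set.univ_nonempty (fun s _ => Iff.rfl)
  have hE₂ : Dich (ConsProp.locusMor (fun _ _ _ f _ => IsClosedImmersion f) (f ∣_ W) (W.ι ≫ g)) :=
    isConsMor_isClosedImmersion.2 (f ∣_ W) (W.ι ≫ g)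
  refine dich_congr_on_open (hU₁.inter hU₂)
    (nonempty_preirreducible_inter hU₁ hU₂ hU₁ne hU₂ne) ?_ (dich_inter hE₁ hE₂)
  rintro s ⟨hs1, hs2⟩
  obtain ⟨e, hsq⟩ := exists_isPullback_fiberMap g hres s
  have hXs := isPullback_fiberMap f g s
  have hWs := isPullback_fiberMap W.ι g s
  haveI : IsOpenImmersion (MoreMor.fiberMap W.ι g s) :=
    MorphismProperty.of_isPullback (P := @IsOpenImmersion) hWs inferInstance
  have hrc : Set.range (MoreMor.fiberMap W.ι g s) = (g.fiberι s) ⁻¹' (W : Set Y) := by
    rw [range_eq_preimage_of_isPullback hWs, Scheme.Opens.range_ι]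
  have hrf : Set.range (MoreMor.fiberMap f g s) = (g.fiberι s) ⁻¹' Set.range f :=
    range_eq_preimage_of_isPullback hXs
  have T3 := closure_preimage_fiberι_of_core g s _ (H₁ s hs1)
  have T4 := closure_preimage_fiberι_of_core g s _ (H₂ s hs2)
  have key := isImmersion_iff_of_isPullback hsq (by
    intro hlc
    rw [isLocallyClosed_iff_isOpen_coborder, coborder, isOpen_compl_iff, hrf, T3,
      ← Set.preimage_sdiff] at hlc
    rw [hrc, hW, Set.preimage_compl, ← T4, hlc.closure_eq, coborder, hrf, T3, Set.preimage_sdiff])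
  show IsImmersion (MoreMor.fiberMap f g s) ↔ _
  rw [key]
  refine and_congr ?_ Iff.rfl
  rw [hrc]
  constructor
  · intro h x hx
    obtain ⟨w, rfl⟩ := exists_fiber_point (f ≫ g) s x hx
    have h1 : g.fiberι s (MoreMor.fiberMap f g s w) ∈ (W : Set Y) := h ⟨w, rfl⟩
    rw [← Scheme.Hom.comp_apply, ← hXs.w, Scheme.Hom.comp_apply] at h1
    exact h1
  · rintro h _ ⟨w, rfl⟩
    show g.fiberι s (MoreMor.fiberMap f g s w) ∈ (W : Set Y)
    rw [← Scheme.Hom.comp_apply, ← hXs.w, Scheme.Hom.comp_apply]
    exact h _ (Groth.Agent.Lib.Helper5.FibMorLoci.fiberι_mem (f ≫ g) s w)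

end Groth.Agent.Lib.R2H2.FibreImmersion
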