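import Mathlib
import Groth.Prelude
import Groth.Agent.Lib.R2H2FibreRank
set_option backward.isDefEq.respectTransparency.types false

/-!
# `R^i f_* F` is free of rank `h^i(s)` near `s` (helper2, round 2)

Rank-tracking versions of `LocalCBC.isFinLocFree_Rpush_of_finite_projective`,
`LocalCBC.isFinLocFree_of_restrict_cover` and `FibreRank.exists_isFinLocFree_rank_near`.

* `free_tensor_of_isUnit`
* `nonempty_restrict_top_iso_freeMod_Rpush_of_free`
* `exists_restrict_iso_freeMod_of_restrict`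
* `exists_free_near_of_flat`, `exists_free_near`: `(R^i f_* F)|_U ≅ O_U^{h^i(s)}` for a neighbourhood `U` of `s`.
-/

set_option autoImplicit false
set_option linter.unusedSectionVars false
set_option linter.style.haveILetI false
universe u
open CategoryTheory CategoryTheory.Limits AlgebraicGeometry TopologicalSpace Opposite TensorProduct

noncomputable section

namespace Groth.Agent.Lib.R2H2.FibreRankFree

open Groth.Agent.Lib.R2H2.BcLocal Groth.Agent.Lib.R2H2.GenFAlg Groth.Agent.Lib.R2H2.FibreFP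
  Groth.Agent.Lib.R2H2.LocalModel Groth.Agent.Lib.R2H2.FibreAlg Groth.Agent.Lib.R2H2.FibreBC
  Groth.Agent.Lib.R2H2.FibreRank Groth.Agent.Lib.R2H2.LocalCBC
  Groth.Agent.Lib.Helper3 Groth.Agent.Lib.R2H2.GammaDer

section Alg

/-- base change of a module which is free over `D(f)` to an algebra in which `f` is a unit is free -/
theorem free_tensor_of_isUnit {R S : Type u} [CommRing R] [CommRing S] [Algebra R S] (f : R)
    (hf : IsUnit (algebraMap R S f)) (P : Type u) [AddCommGroup P] [Module R P]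
    (h : Module.Free (Localization.Away f) (LocalizedModule.Away f P)) : Module.Free S (S ⊗[R] P) := by
  let φ : Localization.Away f →+* S := IsLocalization.Away.lift f hf
  letI : Algebra (Localization.Away f) S := φ.toAlgebra
  haveI : IsScalarTower R (Localization.Away f) S :=
    IsScalarTower.of_algebraMap_eq (fun r => (IsLocalization.Away.lift_eq f hf r).symm)
  haveI : Module.Free (Localization.Away f) (Localization.Away f ⊗[R] P) :=
    Groth.Agent.Lib.Helper20.LocFree.free_tensor_of_away f P h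
  exact Module.Free.of_equiv
    (TensorProduct.AlgebraTensorModule.cancelBaseChange R (Localization.Away f) S S P)

end Alg

section AffineBase

open Groth.Agent.Lib.Helper20.Thickening Groth.Agent.Lib.Helper20.PullbackAff
  Groth.Agent.Lib.Helper20.LocFree in
/-- on an affine base, a finite free `H^p(X, G)` of rank `n` gives a free `R^p f_* G` of rank `n` -/
theorem nonempty_restrict_top_iso_freeMod_Rpush_of_free {P T : Scheme.{u}} [IsAffine T]
    [Nontrivial Γ(T, ⊤)] (f' : P ⟶ T)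
    [QuasiCompact f'] [QuasiSeparated f'] [HasInjectiveResolutions P.Modules]
    [P.Over (Spec (CommRingCat.of Γ(T, ⊤)))]
    (hover : (P ↘ Spec (CommRingCat.of Γ(T, ⊤))) = f' ≫ T.isoSpec.hom)
    (G : P.Modules) [G.IsQuasicoherent] (p : ℕ)
    [Module.Finite Γ(T, ⊤) (Coh.HH P G p)] [Module.Free Γ(T, ⊤) (Coh.HH P G p)] (n : ℕ)
    (hn : Module.finrank Γ(T, ⊤) (Coh.HH P G p) = n) :
    Nonempty (((Coh.Rpush f' p).obj G).restrict (⊤ : T.Opens).ι ≅
      FlatMod.freeMod ((⊤ : T.Opens) : Scheme.{u}) n) := by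
  set N := (Coh.Rpush f' p).obj G with hN
  haveI : N.IsQuasicoherent :=
    Groth.Agent.Lib.R2H3.RpushQCohGen.isQuasicoherent_Rpush_of_qcqs f' G p
  obtain ⟨φ⟩ := nonempty_sections_Rpush_iso f' G p
  let L : Γ(N, ⊤) ≃ₗ[Γ(T, ⊤)] Coh.HH P G p :=
    { toFun := fun x => φ.hom.hom x
      invFun := fun y => φ.inv.hom y
      map_add' := fun x y => map_add φ.hom.hom x y
      map_smul' := fun b x => by
        have h1 := φ.hom.hom.map_smul b x
        refine h1.trans ?_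
        change topHom f' b • φ.hom.hom x =
          Coh.toGlobal (P ↘ Spec (CommRingCat.of Γ(T, ⊤))) b • φ.hom.hom x
        rw [hover, toGlobal_isoSpec]
      left_inv := fun x => by
        exact congrArg (fun ψ => ψ.hom x) φ.hom_inv_id
      right_inv := fun y => by
        exact congrArg (fun ψ => ψ.hom y) φ.inv_hom_id }
  have hU := isAffineOpen_top T
  exact ⟨restrictIsoFreeMod N hU ((Module.finBasisOfFinrankEq _ _ hn).map L.symm)⟩

end AffineBase

section Cover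

/-- a module whose restriction to an open `W` is free of rank `n` over the whole of `W` is free of rank `n` over an
open of the ambient scheme containing any given point of `W` -/
theorem exists_restrict_iso_freeMod_of_restrict {X : Scheme.{u}} (M : X.Modules) (W : X.Opens)
    (x : X) (hx : x ∈ W) (n : ℕ)
    (e : (M.restrict W.ι).restrict (⊤ : (W : Scheme.{u}).Opens).ι ≅
      FlatMod.freeMod ((⊤ : (W : Scheme.{u}).Opens) : Scheme.{u}) n) :
    ∃ U : X.Opens, x ∈ U ∧ Nonempty (M.restrict U.ι ≅ FlatMod.freeMod (U : Scheme.{u}) n) := by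
  let g : ((⊤ : (W : Scheme.{u}).Opens) : Scheme.{u}) ⟶ X := (⊤ : (W : Scheme.{u}).Opens).ι ≫ W.ι
  have e1 : M.restrict g ≅ FlatMod.freeMod ((⊤ : (W : Scheme.{u}).Opens) : Scheme.{u}) n :=
    (Scheme.Modules.restrictFunctorComp (⊤ : (W : Scheme.{u}).Opens).ι W.ι).app M ≪≫ e
  refine ⟨g.opensRange, ⟨⟨⟨x, hx⟩, trivial⟩, rfl⟩, ⟨?_⟩⟩
  exact (Scheme.Modules.restrictFunctorCongr g.isoOpensRange_inv_comp.symm).app M ≪≫
    (Scheme.Modules.restrictFunctorComp g.isoOpensRange.inv g).app M ≪≫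
    (Scheme.Modules.restrictFunctor g.isoOpensRange.inv).mapIso e1 ≪≫
    Groth.Agent.Lib.Helper20.LocFree.restrictFreeMod g.isoOpensRange.inv n

end Cover

section Near

open AlgebraicGeometry.Scheme.Modules CohCmp

variable {X S : Scheme.{u}} (f : X ⟶ S) [IsSeparated f] [QuasiCompact f] (s : S)
  [HasInjectiveResolutions X.Modules]
  (F : X.Modules) [F.IsQuasicoherent]
  (W : S.Opens) [IsAffine (W : Scheme.{u})] (hs : s ∈ W)
  (Q : ChainComplex (ModuleCat.{u} Γ((W : Scheme.{u}), ⊤)) ℤ) (hQ : IsBridge f F W Q)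
  (hP : ∀ i, Module.Finite Γ((W : Scheme.{u}), ⊤) (Q.X i) ∧ Module.Projective Γ((W : Scheme.{u}), ⊤) (Q.X i))

include hs hQ hP in
/-- **flat `opcycles_{-i-1}` and `opcycles_{-i}` over `W` make `R^i f_* F` free of rank `h^i(s)` near `s ∈ W`** -/
theorem exists_free_near_of_flat (i : ℕ)
    [Module.Flat Γ((W : Scheme.{u}), ⊤) (Q.opcycles (-(i : ℤ) - 1))]
    [Module.Flat Γ((W : Scheme.{u}), ⊤) (Q.opcycles (-(i : ℤ)))] :
    ∃ U : S.Opens, s ∈ U ∧ Nonempty (((Coh.Rpush f i).obj F).restrict U.ι ≅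
      FlatMod.freeMod (U : Scheme.{u}) (CohIII.fiberRank f F i s)) := by
  obtain ⟨hfin, hproj⟩ := finite_projective_homology Q hP (-(i : ℤ))
  haveI := hfin
  haveI := hproj
  haveI : Module.FinitePresentation Γ((W : Scheme.{u}), ⊤) (Q.homology (-(i : ℤ))) :=
    Module.finitePresentation_of_projective _ _
  obtain ⟨h, hh, hfree⟩ := Groth.Agent.Lib.Helper20.LocFree.exists_free_tensor_away
    (Q.homology (-(i : ℤ))) ((W : Scheme.{u}).isoSpec.hom ⟨s, hs⟩)
  obtain ⟨W', hW', hsW', hle, hall⟩ := exists_affine_shrink s W hs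
    (PrimeSpectrum.basicOpen h : Set (PrimeSpectrum Γ((W : Scheme.{u}), ⊤)))
    (PrimeSpectrum.basicOpen h).2 hh
  haveI : IsAffine (W' : Scheme.{u}) := hW'
  letI := algW (𝟙 S) hle
  have hunit : IsUnit (algebraMap Γ((W : Scheme.{u}), ⊤) Γ((W' : Scheme.{u}), ⊤) h) :=
    isUnit_of_forall_notMem _ (fun q hq => hall q hq)
  haveI hfreeT : Module.Free Γ((W' : Scheme.{u}), ⊤)
      (Γ((W' : Scheme.{u}), ⊤) ⊗[Γ((W : Scheme.{u}), ⊤)] (Q.homology (-(i : ℤ)))) :=
    free_tensor_of_isUnit h hunit _ hfree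
  have hP' := finite_projective_bcCx Q hP Γ((W' : Scheme.{u}), ⊤)
  haveI : Module.Flat Γ((W : Scheme.{u}), ⊤) (Q.X (-(i : ℤ) - 1)) := by
    haveI := (hP (-(i : ℤ) - 1)).2
    infer_instance
  have hrel : (ComplexShape.down ℤ).Rel (-(i : ℤ)) (-(i : ℤ) - 1) := by
    change -(i : ℤ) - 1 + 1 = -(i : ℤ)
    ring
  obtain ⟨eH⟩ := nonempty_bcHomologyEquiv Γ((W' : Scheme.{u}), ⊤) Q (-(i : ℤ)) (-(i : ℤ) - 1) hrel
  set Q' := CohIII.bcCx (algebraMap Γ((W : Scheme.{u}), ⊤) Γ((W' : Scheme.{u}), ⊤)) Q with hQ'def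
  haveI : Module.Free Γ((W' : Scheme.{u}), ⊤) (Q'.homology (-(i : ℤ))) := Module.Free.of_equiv eH.symm
  haveI : Module.Finite Γ((W' : Scheme.{u}), ⊤) (Q'.homology (-(i : ℤ))) := Module.Finite.equiv eH.symm
  have hQ' := isBridge_restrict hle hQ
  have hfl' : ∀ j, Module.Flat Γ((W' : Scheme.{u}), ⊤) (Q'.X j) := fun j => by
    haveI := (hP' j).2
    infer_instance
  haveI : Module.Flat Γ((W' : Scheme.{u}), ⊤) (Q'.X (-(i : ℤ) - 1)) := hfl' _
  haveI : Module.Finite Γ((W : Scheme.{u}), ⊤) (Q.opcycles (-(i : ℤ) - 1)) := by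
    haveI := (hP (-(i : ℤ) - 1)).1
    exact finite_opcycles Q _
  haveI : Module.Flat Γ((W' : Scheme.{u}), ⊤) (Q'.opcycles (-(i : ℤ) - 1)) :=
    flat_bcCx_opcycles_of_freeLocus Q hP _ _ (fun x' => by
      rw [Module.freeLocus_eq_univ]
      trivial)
  -- the rank
  have hr1 : CohIII.fiberRank f F i s =
      CohIII.dRank Q' (-(i : ℤ)) ((W' : Scheme.{u}).isoSpec.hom ⟨s, hsW'⟩) :=
    fiberRank_eq_dRank_of_isBridge f F W' Q' hQ' hfl' i s hsW'
  haveI : Nontrivial Γ((W' : Scheme.{u}), ⊤) := by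
    have hx := ((W' : Scheme.{u}).isoSpec.hom ⟨s, hsW'⟩ : PrimeSpectrum Γ((W' : Scheme.{u}), ⊤)).2
    exact ⟨⟨0, 1, fun h01 => hx.ne_top ((Ideal.eq_top_iff_one _).2 (h01 ▸ Ideal.zero_mem _))⟩⟩
  have hr2 : CohIII.dRank Q' (-(i : ℤ)) ((W' : Scheme.{u}).isoSpec.hom ⟨s, hsW'⟩) =
      Module.finrank Γ((W' : Scheme.{u}), ⊤) (Q'.homology (-(i : ℤ))) := by
    rw [dRank_eq_fd_homology, fd_of_free]
  -- the sheaf
  letI := overW f W'
  obtain ⟨l⟩ := nonempty_HH_linearEquiv_of_isBridge f F W' Q' hQ' i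
  haveI := Groth.Agent.Lib.R2H3.RpushRestrict.hasInjectiveResolutions_modules
    ((f ⁻¹ᵁ W' : X.Opens) : Scheme.{u})
  haveI : (F.restrict (f ⁻¹ᵁ W').ι).IsQuasicoherent :=
    Scheme.Modules.isQuasicoherent_restrictFunctor (f ⁻¹ᵁ W').ι F
  haveI : Module.Finite Γ((W' : Scheme.{u}), ⊤)
      (Coh.HH ((f ⁻¹ᵁ W' : X.Opens) : Scheme.{u}) (F.restrict (f ⁻¹ᵁ W').ι) i) :=
    Module.Finite.equiv l.symm
  haveI : Module.Free Γ((W' : Scheme.{u}), ⊤)
      (Coh.HH ((f ⁻¹ᵁ W' : X.Opens) : Scheme.{u}) (F.restrict (f ⁻¹ᵁ W').ι) i) :=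
    Module.Free.of_equiv l.symm
  have hn : Module.finrank Γ((W' : Scheme.{u}), ⊤)
      (Coh.HH ((f ⁻¹ᵁ W' : X.Opens) : Scheme.{u}) (F.restrict (f ⁻¹ᵁ W').ι) i) =
      CohIII.fiberRank f F i s := by
    rw [hr1, hr2]
    exact l.finrank_eq
  obtain ⟨e0⟩ := nonempty_restrict_top_iso_freeMod_Rpush_of_free (f ∣_ W') rfl
    (F.restrict (f ⁻¹ᵁ W').ι) i _ hn
  obtain ⟨ι⟩ := Groth.Agent.Lib.R2H3.RpushRestrict.nonempty_Rpush_restrict_iso f W' F i
  exact exists_restrict_iso_freeMod_of_restrict _ W' s hsW' _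
    ((Scheme.Modules.restrictFunctor (⊤ : (W' : Scheme.{u}).Opens).ι).mapIso ι ≪≫ e0)

include hs hQ hP in
/-- **freeness of `opcycles_{-i-1}` and `opcycles_{-i}` at `s` makes `R^i f_* F` free of rank `h^i(s)` near `s`** -/
theorem exists_free_near (i : ℕ)
    (h₁ : (W : Scheme.{u}).isoSpec.hom ⟨s, hs⟩ ∈
      Module.freeLocus Γ((W : Scheme.{u}), ⊤) (Q.opcycles (-(i : ℤ) - 1)))
    (h₂ : (W : Scheme.{u}).isoSpec.hom ⟨s, hs⟩ ∈
      Module.freeLocus Γ((W : Scheme.{u}), ⊤) (Q.opcycles (-(i : ℤ)))) :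
    ∃ U : S.Opens, s ∈ U ∧ Nonempty (((Coh.Rpush f i).obj F).restrict U.ι ≅
      FlatMod.freeMod (U : Scheme.{u}) (CohIII.fiberRank f F i s)) := by
  obtain ⟨W', hW', hsW', hle, hf1, hf2⟩ := exists_flat_shrink s W hs Q hP _ _ h₁ h₂
  haveI : IsAffine (W' : Scheme.{u}) := hW'
  letI := algW (𝟙 S) hle
  have hQ' := isBridge_restrict hle hQ
  have hP' := finite_projective_bcCx Q hP Γ((W' : Scheme.{u}), ⊤)
  haveI := hf1
  haveI := hf2
  exact exists_free_near_of_flat f s F W' hsW' _ hQ' hP' i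

end Near

end Groth.Agent.Lib.R2H2.FibreRankFree
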