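import Mathlib
import Groth.Agent.Lib.R2H2FibreCoh

/-!
# Surjectivity of `H^n(X, F) → H^n(X, F/𝔪^{p+1}F)` from vanishing on the closed fibre
(helper2, round 2; statement `S4462`)
-/

set_option autoImplicit false
set_option linter.unusedSectionVars false
universe u
open CategoryTheory CategoryTheory.Limits AlgebraicGeometry TopologicalSpace Opposite

noncomputable section

namespace Groth.Agent.Lib.R2H2.FibreSurj

open Groth.Agent.Lib.R2H2.FlatDev Groth.Agent.Lib.R2H2.FibreCoh

section Residue

variable (A : Type u) [CommRing A] [IsLocalRing A]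

/-- the closed point, as a point of the scheme -/
abbrev cp : ↥(Spec (CommRingCat.of A)) := IsLocalRing.closedPoint A

/-- `A → κ(closed point)` -/
def ψ : CommRingCat.of A ⟶ (Spec (CommRingCat.of A)).residueField (cp A) :=
  StructureSheaf.toStalk (CommRingCat.of A) (cp A) ≫ (Spec (CommRingCat.of A)).residue (cp A)

theorem SpecMap_ψ : Spec.map (ψ A) = (Spec (CommRingCat.of A)).fromSpecResidueField (cp A) := by
  unfold ψ Scheme.fromSpecResidueField
  rw [Spec.map_comp, Spec.fromSpecStalk_eq']
  rfl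

theorem ψ_apply (a : A) : (ψ A).hom a =
    IsLocalRing.residue ((Spec (CommRingCat.of A)).presheaf.stalk (cp A))
      ((StructureSheaf.toStalk (CommRingCat.of A) (cp A)).hom a) := rfl

theorem ψ_eq_zero_iff (a : A) : (ψ A).hom a = 0 ↔ a ∈ IsLocalRing.maximalIdeal A := by
  letI k : Algebra A ↑((Spec (CommRingCat.of A)).presheaf.stalk (cp A)) :=
    StructureSheaf.stalkAlgebra (↑(CommRingCat.of A)) (cp A)
  haveI : IsLocalization.AtPrime (↑((Spec (CommRingCat.of A)).presheaf.stalk (cp A)))
      (cp A).asIdeal := StructureSheaf.IsLocalization.to_stalk (CommRingCat.of A) (cp A)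
  rw [ψ_apply]
  refine (IsLocalRing.residue_eq_zero_iff _).trans ?_
  exact IsLocalization.AtPrime.to_map_mem_maximal_iff
    (↑((Spec (CommRingCat.of A)).presheaf.stalk (cp A))) (cp A).asIdeal a

theorem ψ_surjective : Function.Surjective (ψ A).hom := by
  letI k : Algebra A ↑((Spec (CommRingCat.of A)).presheaf.stalk (cp A)) :=
    StructureSheaf.stalkAlgebra (↑(CommRingCat.of A)) (cp A)
  haveI : IsLocalization.AtPrime (↑((Spec (CommRingCat.of A)).presheaf.stalk (cp A)))
      (cp A).asIdeal := StructureSheaf.IsLocalization.to_stalk (CommRingCat.of A) (cp A)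
  intro z
  obtain ⟨z', rfl⟩ := IsLocalRing.residue_surjective z
  obtain ⟨⟨a, s⟩, rfl⟩ := IsLocalization.mk'_surjective (cp A).asIdeal.primeCompl z'
  have hs : IsUnit (s : A) := IsLocalRing.notMem_maximalIdeal.1 s.2
  obtain ⟨u, hu⟩ := hs
  refine ⟨a * ↑u⁻¹, ?_⟩
  rw [ψ_apply]
  congr 1
  change algebraMap A _ (a * ↑u⁻¹) = _
  rw [eq_comm, IsLocalization.mk'_eq_iff_eq_mul, ← map_mul, mul_assoc, ← hu, Units.inv_mul, mul_one]

/-- the `A`-algebra structure on the residue field of the closed point -/
@[reducible] def algκ : @Algebra A ((Spec (CommRingCat.of A)).residueField (cp A)) _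
    ((Spec (CommRingCat.of A)).residueField (cp A)).commRing.toCommSemiring.toSemiring :=
  (ψ A).hom.toAlgebra

end Residue

section Main

variable (A : Type u) [CommRing A] [IsNoetherianRing A] [IsLocalRing A] (X : Scheme.{u})
  [X.Over (Spec (CommRingCat.of A))] [IsProper (X ↘ Spec (CommRingCat.of A))]

/-- `S4462` -/
theorem main (F : X.Modules) (hF : Coh.IsCoh F)
    (hfl : FlatMod.IsFlatOver (X ↘ Spec (CommRingCat.of A)) F) (n : ℕ)
    (hvan : Subsingleton (CohIII.fiberH (X ↘ Spec (CommRingCat.of A)) F (IsLocalRing.closedPoint A) (n + 1)))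
    (p : ℕ) :
    Function.Surjective (Formal.toHHmodPow (IsLocalRing.maximalIdeal A) F n p) := by
  haveI : F.IsQuasicoherent := hF.1
  have hcp : ∀ U : X.Opens, IsAffineOpen U → ColonProp A F U := fun U hU => colonProp F hfl hU
  have hpb : IsPullback ((X ↘ Spec (CommRingCat.of A)).fiberι (cp A))
      ((X ↘ Spec (CommRingCat.of A)).fiberToSpecResidueField (cp A))
      (X ↘ Spec (CommRingCat.of A)) (Spec.map (ψ A)) :=
    (congrArg (IsPullback ((X ↘ Spec (CommRingCat.of A)).fiberι (cp A))
      ((X ↘ Spec (CommRingCat.of A)).fiberToSpecResidueField (cp A))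
      (X ↘ Spec (CommRingCat.of A))) (SpecMap_ψ A)).mpr (IsPullback.of_hasPullback _ _)
  have hq : Subsingleton (Coh.HH X (modJ (IsLocalRing.maximalIdeal A) F) (n + 1)) :=
    @subsingleton_HH_modJ_of_fibre A ((Spec (CommRingCat.of A)).residueField (cp A)) _
      ((Spec (CommRingCat.of A)).residueField (cp A)).commRing (algκ A) X
      ((X ↘ Spec (CommRingCat.of A)).fiber (cp A)) _
      ((X ↘ Spec (CommRingCat.of A)).fiberToSpecResidueField (cp A))
      ((X ↘ Spec (CommRingCat.of A)).fiberι (cp A)) hpb F _ (ψ_surjective A)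
      (IsLocalRing.maximalIdeal A) (fun a ha => (ψ_eq_zero_iff A a).2 ha)
      (fun a ha => (ψ_eq_zero_iff A a).1 ha) (n + 1) hvan
  exact surjective_toHHmodPow (IsLocalRing.maximalIdeal A) F n hF
    (HHmodPowTrans_surjective F hcp n hq) p

end Main

end Groth.Agent.Lib.R2H2.FibreSurj
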