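import Groth.Agent.Lib.R2H2FinSurjGen
set_option backward.isDefEq.respectTransparency.types false

/-!
# Finite surjective morphisms: `f_* G ⟶ F^m` with `m` the degree (helper2, round 2; S11389)

* `main_of_equiv` : the construction of S10949 from a given isomorphism
  `(F_η)^s ≃ ((f_* O_X)_η)^r` of stalks at the generic point.
* `main` : S11389.
-/

set_option autoImplicit false
set_option linter.unusedSectionVars false
set_option linter.style.haveILetI false
universe u
open CategoryTheory CategoryTheory.Limits AlgebraicGeometry TopologicalSpace Opposite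

noncomputable section

namespace Groth.Agent.Lib.R2H2.FinSurjDeg

open Groth.Agent.Lib.R2H2.DevA Groth.Agent.Lib.R2H2.DevF Groth.Agent.Lib.R2H2.DevK
  Groth.Agent.Lib.R2H2.NilFilt Groth.Agent.Lib.R2H2.IdealMulSec Groth.Agent.Lib.R2H2.StalkPow
  Groth.Agent.Lib.R2H2.GenMono Groth.Agent.Lib.R2H2.FinSurjGen

variable {X Y : Scheme.{u}}

/-- the construction of S10949 from a given isomorphism of stalks at a point `y` -/
theorem main_of_equiv [IsNoetherian X] [IsNoetherian Y]
    (f : X ⟶ Y) [IsFinite f] (F : Y.Modules) (hF : Coh.IsCoh F) (y : Y) (r s : ℕ)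
    (e : (Fin s → F.presheaf.stalk y) ≃ₗ[Y.presheaf.stalk y]
      (Fin r → ((Scheme.Modules.pushforward f).obj (Coh.structureModule X)).presheaf.stalk y)) :
    ∃ (G : X.Modules) (β : (Scheme.Modules.pushforward f).obj G ⟶ ∐ fun _ : Fin s => F)
      (D : Y.Opens), Coh.IsCoh G ∧ y ∈ D ∧ IsIso ((Scheme.Modules.restrictFunctor D.ι).map β) := by
  classical
  let A : Y.Modules := (Scheme.Modules.pushforward f).obj (Coh.structureModule X)
  have cO := Groth.Agent.Lib.H9ZarLift.isCoh_structureModule X
  have cA : Coh.IsCoh A := Groth.Agent.Lib.R2H2.ClosedPn.isCoh_push f _ cO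
  obtain ⟨D, hηD, ⟨iso⟩⟩ := exists_local_iso F A hF cA y r s e
  have cFs := isCoh_pow F hF s
  have cAr := isCoh_pow A cA r
  let JD : Y.IdealSheafData :=
    Scheme.IdealSheafData.vanishingIdeal ⟨(D : Set Y)ᶜ, D.2.isClosed_compl⟩
  have hJs : (JD.support : Set Y) = (D : Set Y)ᶜ :=
    Scheme.IdealSheafData.coe_support_vanishingIdeal _
  obtain ⟨n, ψ, hψ⟩ := Groth.Agent.Lib.R2H2.DeligneSurj.main (pow F s) (pow A r) cFs.1 cAr JD D
    (by rw [hJs, compl_compl]) iso.inv
  have hdisj : Disjoint (D : Set Y) ((JD ^ n).support : Set Y) := by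
    rw [Set.disjoint_left]
    intro x hxD hx
    have h2 := Groth.Agent.Lib.R2H2.DevG.support_pow_le JD n hx
    rw [hJs] at h2
    exact h2 hxD
  haveI hiι : IsIso ((Scheme.Modules.restrictFunctor D.ι).map (Dual3.idealMulι (JD ^ n) (pow A r))) :=
    isIso_restrict_idealMulι (JD ^ n) (pow A r) D hdisj
  haveI hiψ : IsIso ((Scheme.Modules.restrictFunctor D.ι).map ψ) := by
    rw [hψ]
    infer_instance
  have cOr : Coh.IsCoh (pow (Coh.structureModule X) r) := isCoh_pow _ cO r
  let G : X.Modules := (Dual3.idealMul ((JD ^ n).comap f)).obj (pow (Coh.structureModule X) r)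
  have cG : Coh.IsCoh G := isCoh_idealMul _ _ cOr
  obtain ⟨e9, -⟩ := Groth.Agent.Lib.R2H2.PushIdealMul.main f (pow (Coh.structureModule X) r)
    cOr.1 (JD ^ n)
  let e10 : (Scheme.Modules.pushforward f).obj (pow (Coh.structureModule X) r) ≅ pow A r :=
    (Scheme.Modules.pushforward f).mapIso (sigmaFinIsoPow (Coh.structureModule X) r).symm ≪≫
      pushSigma f (Coh.structureModule X) r ≪≫ sigmaFinIsoPow A r
  let e11 : (Scheme.Modules.pushforward f).obj G ≅ (Dual3.idealMul (JD ^ n)).obj (pow A r) :=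
    e9.symm ≪≫ (Dual3.idealMul (JD ^ n)).mapIso e10
  let e12 : pow F s ≅ ∐ fun _ : Fin s => F := (sigmaFinIsoPow F s).symm
  refine ⟨G, e11.hom ≫ ψ ≫ e12.hom, D, cG, hηD, ?_⟩
  rw [Functor.map_comp, Functor.map_comp]
  infer_instance

/-- **S11389** -/
theorem main (k : Type u) [Field k] (X Y : Scheme.{u})
    [X.Over (Spec (CommRingCat.of k))] [Y.Over (Spec (CommRingCat.of k))]
    [LocallyOfFiniteType (Y ↘ (Spec (CommRingCat.of k)))]
    [QuasiCompact (Y ↘ (Spec (CommRingCat.of k)))]
    [IsIntegral X] [IsIntegral Y] (f : X ⟶ Y) [IsFinite f] [Surjective f]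
    (F : Y.Modules) (hF : Coh.IsCoh F) :
    ∃ (G : X.Modules) (u : (Scheme.Modules.pushforward f).obj G ⟶
        ∐ fun _ : Fin (Module.finrank (Y.functionField)
            (((Scheme.Modules.pushforward f).obj (Coh.structureModule X)).presheaf.stalk
              (genericPoint Y))) => F),
      Coh.IsCoh G ∧ ∃ V : Y.Opens, genericPoint Y ∈ V ∧
        IsIso ((Scheme.Modules.restrictFunctor V.ι).map u) := by
  classical
  haveI : IsLocallyNoetherian Y :=
    LocallyOfFiniteType.isLocallyNoetherian (Y ↘ (Spec (CommRingCat.of k)))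
  haveI : CompactSpace Y :=
    QuasiCompact.compactSpace_of_compactSpace (Y ↘ (Spec (CommRingCat.of k)))
  haveI : IsNoetherian Y := {}
  haveI : IsLocallyNoetherian X := LocallyOfFiniteType.isLocallyNoetherian f
  haveI : CompactSpace X := QuasiCompact.compactSpace_of_compactSpace f
  haveI : IsNoetherian X := {}
  let A : Y.Modules := (Scheme.Modules.pushforward f).obj (Coh.structureModule X)
  have cO := Groth.Agent.Lib.H9ZarLift.isCoh_structureModule X
  have cA : Coh.IsCoh A := Groth.Agent.Lib.R2H2.ClosedPn.isCoh_push f _ cO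
  have hfield : IsField (Y.presheaf.stalk (genericPoint Y)) :=
    isField_stalk_of_closure_mem_irreducibleComponents Y _
      (by simp [irreducibleComponents_eq_singleton])
  have hmax : ∀ a ∈ IsLocalRing.maximalIdeal (Y.presheaf.stalk (genericPoint Y)), a = 0 := by
    intro a ha
    by_contra hne
    obtain ⟨b, hb⟩ := hfield.mul_inv_cancel hne
    exact (IsLocalRing.mem_maximalIdeal a).1 ha (IsUnit.of_mul_eq_one b hb)
  haveI := finite_stalk A cA (genericPoint Y)
  haveI := finite_stalk F hF (genericPoint Y)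
  have hbot : IsLocalRing.maximalIdeal (Y.presheaf.stalk (genericPoint Y)) = ⊥ := by
    rw [eq_bot_iff]
    intro a ha
    exact hmax a ha
  let eK : Y.presheaf.stalk (genericPoint Y) ≃ₗ[Y.presheaf.stalk (genericPoint Y)]
      IsLocalRing.ResidueField (Y.presheaf.stalk (genericPoint Y)) :=
    LinearEquiv.ofBijective
      (Algebra.linearMap (Y.presheaf.stalk (genericPoint Y))
        (IsLocalRing.ResidueField (Y.presheaf.stalk (genericPoint Y))))
      ⟨by
        rw [← LinearMap.ker_eq_bot, eq_bot_iff]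
        intro a ha
        have : a ∈ IsLocalRing.maximalIdeal (Y.presheaf.stalk (genericPoint Y)) := by
          rw [← IsLocalRing.ker_residue]
          exact ha
        rw [hbot] at this
        exact this,
       IsLocalRing.residue_surjective⟩
  obtain ⟨a, ⟨eF⟩⟩ := Groth.Agent.Lib.R2H2.ResField.exists_equiv_pi_residueField
    (F.presheaf.stalk (genericPoint Y)) (fun a ha m => by rw [hmax a ha, zero_smul])
  obtain ⟨m, ⟨eA⟩⟩ := Groth.Agent.Lib.R2H2.ResField.exists_equiv_pi_residueField
    (A.presheaf.stalk (genericPoint Y)) (fun a ha m => by rw [hmax a ha, zero_smul])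
  -- `m` is the rank
  have hm : Module.finrank (Y.functionField) (A.presheaf.stalk (genericPoint Y)) = m := by
    have e1 : A.presheaf.stalk (genericPoint Y) ≃ₗ[Y.presheaf.stalk (genericPoint Y)]
        (Fin m → Y.presheaf.stalk (genericPoint Y)) :=
      eA ≪≫ₗ (LinearEquiv.piCongrRight (fun _ => eK)).symm
    have h1 := e1.finrank_eq
    rw [Module.finrank_fin_fun] at h1
    exact h1
  let e : (Fin m → F.presheaf.stalk (genericPoint Y)) ≃ₗ[Y.presheaf.stalk (genericPoint Y)]
      (Fin a → A.presheaf.stalk (genericPoint Y)) :=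
    LinearEquiv.piCongrRight (fun _ => eF) ≪≫ₗ
      Groth.Agent.Lib.R2H2.ResField.piSwap
        (IsLocalRing.ResidueField (Y.presheaf.stalk (genericPoint Y))) a m ≪≫ₗ
      (LinearEquiv.piCongrRight (fun _ => eA)).symm
  obtain ⟨G, β, D, cG, hηD, hβ⟩ := main_of_equiv f F hF (genericPoint Y) a m e
  rw [hm]
  exact ⟨G, β, cG, D, hηD, hβ⟩

end Groth.Agent.Lib.R2H2.FinSurjDeg
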