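import Groth.Agent.Lib.R2H2FinSurjGen
import Groth.Agent.Lib.R2H3RpushRestrict
import Groth.Agent.Lib.Helper23UnitStalk
import Groth.Agent.Lib.Helper2PullbackSec
import Groth.Agent.Lib.Helper20FormalPull
import Groth.Agent.Lib.Helper20Nakayama
import Groth.Agent.Lib.Helper23QCohLocal
set_option backward.isDefEq.respectTransparency.types false

/-!
# Finite surjective morphisms of integral schemes: `O_Y^r ⟶ f_* M` generically an isomorphism
(helper2, round 2; S10948)

* `comp_map_image_ι` : for an adjunction `F ⊣ G` and `γ : P ⟶ G B`, the transpose of the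
  factorisation of `γ^♭` through its image, composed with `G (image.ι)`, is `γ`.
* `isIso_map_of_mono_of_isIso_comp` : `L a` is an isomorphism if `L g` is a monomorphism and
  `L (a ≫ g)` an isomorphism.
* `isIso_map_homEquiv` : the transpose of an isomorphism under an adjunction with invertible counit
  is sent to an isomorphism by the left adjoint.
* `main` : S10948.
-/

set_option autoImplicit false
set_option linter.unusedSectionVars false
set_option linter.style.haveILetI false
universe u
open CategoryTheory CategoryTheory.Limits AlgebraicGeometry TopologicalSpace Opposite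

noncomputable section

namespace Groth.Agent.Lib.R2H2.FinSurjFree

open Groth.Agent.Lib.R2H2.DevA Groth.Agent.Lib.R2H2.StalkPow Groth.Agent.Lib.R2H2.GenMono
  Groth.Agent.Lib.R2H2.FinSurjGen

section abstract

universe v₁ v₂ u₁ u₂

variable {C : Type u₁} [Category.{v₁} C] {D : Type u₂} [Category.{v₂} D]

theorem comp_map_image_ι [Abelian D] {F : C ⥤ D} {G : D ⥤ C} (adj : F ⊣ G) {P : C} {B : D}
    (γ : P ⟶ G.obj B) :
    adj.homEquiv P _ (factorThruImage ((adj.homEquiv P B).symm γ)) ≫
      G.map (image.ι ((adj.homEquiv P B).symm γ)) = γ := by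
  rw [← Adjunction.homEquiv_naturality_right, image.fac, Equiv.apply_symm_apply]

theorem isIso_map_of_mono_of_isIso_comp (L : C ⥤ D) {P N B : C} (a : P ⟶ N) (g : N ⟶ B)
    (hg : Mono (L.map g)) (h : IsIso (L.map (a ≫ g))) : IsIso (L.map a) := by
  rw [Functor.map_comp] at h
  have hsplit : (inv (L.map a ≫ L.map g) ≫ L.map a) ≫ L.map g = 𝟙 _ := by
    rw [Category.assoc, IsIso.inv_hom_id]
  haveI : IsSplitEpi (L.map g) := ⟨⟨⟨_, hsplit⟩⟩⟩
  haveI : IsIso (L.map g) := isIso_of_mono_of_isSplitEpi _
  have : L.map a = (L.map a ≫ L.map g) ≫ inv (L.map g) := by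
    rw [Category.assoc, IsIso.hom_inv_id, Category.comp_id]
  rw [this]
  infer_instance

theorem isIso_map_homEquiv {F : C ⥤ D} {G : D ⥤ C} (adj : F ⊣ G) [IsIso adj.counit] {P : C}
    {Q : D} (φ : F.obj P ⟶ Q) [IsIso φ] : IsIso (F.map (adj.homEquiv P Q φ)) := by
  have h1 : F.map (adj.homEquiv P Q φ) ≫ adj.counit.app Q = φ :=
    (adj.homEquiv_counit (X := P) (Y := Q) (g := adj.homEquiv P Q φ)).symm.trans
      (Equiv.symm_apply_apply _ _)
  have h2 : F.map (adj.homEquiv P Q φ) = φ ≫ inv (adj.counit.app Q) := by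
    rw [← cancel_mono (adj.counit.app Q), Category.assoc, IsIso.inv_hom_id, Category.comp_id, h1]
  rw [h2]
  infer_instance

end abstract

variable {X Y : Scheme.{u}}

/-- `j_* ((f_* N)|_D) ≅ f_* (j'_* (N|_{f⁻¹ D}))` -/
def pushRestrictIso (f : X ⟶ Y) (D : Y.Opens) (N : X.Modules) :
    (Scheme.Modules.pushforward D.ι).obj
      ((Scheme.Modules.restrictFunctor D.ι).obj ((Scheme.Modules.pushforward f).obj N)) ≅
    (Scheme.Modules.pushforward f).obj
      ((Scheme.Modules.pushforward (f ⁻¹ᵁ D).ι).obj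
        ((Scheme.Modules.restrictFunctor (f ⁻¹ᵁ D).ι).obj N)) :=
  (Scheme.Modules.pushforward D.ι).mapIso
      ((Groth.Agent.Lib.R2H3.RpushRestrict.restrictPushIso f D).app N) ≪≫
    (Scheme.Modules.pushforwardComp (f ∣_ D) D.ι).app _ ≪≫
    (Scheme.Modules.pushforwardCongr (morphismRestrict_ι f D)).app _ ≪≫
    ((Scheme.Modules.pushforwardComp (f ⁻¹ᵁ D).ι f).app _).symm

/-- **S10948** (with `pow` as source) -/
theorem main_pow [IsIntegral X] [IsNoetherian X] [IsIntegral Y] [IsNoetherian Y]
    (f : X ⟶ Y) [IsFinite f] [Surjective f] :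
    ∃ (r : ℕ) (M : X.Modules) (α : pow (Coh.structureModule Y) r ⟶
        (Scheme.Modules.pushforward f).obj M) (D : Y.Opens),
      0 < r ∧ Coh.IsCoh M ∧ genericPoint Y ∈ D ∧
        IsIso ((Scheme.Modules.restrictFunctor D.ι).map α) := by
  classical
  let OX : X.Modules := Coh.structureModule X
  let OY : Y.Modules := Coh.structureModule Y
  let A : Y.Modules := (Scheme.Modules.pushforward f).obj OX
  have cO := Groth.Agent.Lib.H9ZarLift.isCoh_structureModule X
  have cOY := Groth.Agent.Lib.H9ZarLift.isCoh_structureModule Y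
  have cA : Coh.IsCoh A := Groth.Agent.Lib.R2H2.ClosedPn.isCoh_push f _ cO
  -- the stalk of `O_Y` at the generic point is a field
  have hfield : IsField (Y.presheaf.stalk (genericPoint Y)) :=
    isField_stalk_of_closure_mem_irreducibleComponents Y _
      (by simp [irreducibleComponents_eq_singleton])
  have hmax : ∀ a ∈ IsLocalRing.maximalIdeal (Y.presheaf.stalk (genericPoint Y)), a = 0 := by
    intro a ha
    by_contra hne
    obtain ⟨b, hb⟩ := hfield.mul_inv_cancel hne
    exact (IsLocalRing.mem_maximalIdeal a).1 ha (IsUnit.of_mul_eq_one b hb)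
  haveI := finite_stalk A cA (genericPoint Y)
  have hntA : Nontrivial (A.presheaf.stalk (genericPoint Y)) :=
    nontrivial_stalk_pushO f cA (genericPoint Y)
  -- the residue field is the local ring itself
  have hbot : IsLocalRing.maximalIdeal (Y.presheaf.stalk (genericPoint Y)) = ⊥ := by
    rw [eq_bot_iff]
    intro a ha
    exact hmax a ha
  let eK : Y.presheaf.stalk (genericPoint Y) ≃ₗ[Y.presheaf.stalk (genericPoint Y)]
      IsLocalRing.ResidueField (Y.presheaf.stalk (genericPoint Y)) :=
    LinearEquiv.ofBijective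
      (Algebra.linearMap (Y.presheaf.stalk (genericPoint Y))
        (IsLocalRing.ResidueField (Y.presheaf.stalk (genericPoint Y))))
      ⟨by
        rw [← LinearMap.ker_eq_bot, eq_bot_iff]
        intro a ha
        have : a ∈ IsLocalRing.maximalIdeal (Y.presheaf.stalk (genericPoint Y)) := by
          rw [← IsLocalRing.ker_residue]
          exact ha
        rw [hbot] at this
        exact this,
       IsLocalRing.residue_surjective⟩
  obtain ⟨r, ⟨e⟩⟩ := Groth.Agent.Lib.R2H2.ResField.exists_equiv_pow_one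
    (A.presheaf.stalk (genericPoint Y)) (OY.presheaf.stalk (genericPoint Y))
    (fun a ha m => by rw [hmax a ha, zero_smul])
    ((Groth.Agent.Lib.Helper23.UnitStalk.unitStalkEquiv (genericPoint Y)).symm ≪≫ₗ eK)
  have hr : 0 < r := by
    by_contra hlt
    have h0 : r = 0 := by omega
    subst h0
    haveI : Subsingleton (A.presheaf.stalk (genericPoint Y)) := e.toEquiv.subsingleton
    exact not_subsingleton (A.presheaf.stalk (genericPoint Y)) inferInstance
  obtain ⟨D, hηD, ⟨iso⟩⟩ := exists_local_iso A OY cA cOY (genericPoint Y) r 1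
    (LinearEquiv.funUnique (Fin 1) _ _ ≪≫ₗ e)
  -- `iso : (pow A 1)|_D ≅ (pow OY r)|_D`
  let iso₁ : (Scheme.Modules.restrictFunctor D.ι).obj (pow OY r) ≅
      (Scheme.Modules.restrictFunctor D.ι).obj A :=
    iso.symm ≪≫ (Scheme.Modules.restrictFunctor D.ι).mapIso (powOneIso A)
  let adjD := Scheme.Modules.restrictAdjunction D.ι
  let θ : pow OY r ⟶ (Scheme.Modules.pushforward D.ι).obj
      ((Scheme.Modules.restrictFunctor D.ι).obj A) := adjD.homEquiv _ _ iso₁.hom
  haveI hθ : IsIso ((Scheme.Modules.restrictFunctor D.ι).map θ) :=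
    isIso_map_homEquiv adjD iso₁.hom
  let BX : X.Modules := (Scheme.Modules.pushforward (f ⁻¹ᵁ D).ι).obj
    ((Scheme.Modules.restrictFunctor (f ⁻¹ᵁ D).ι).obj OX)
  let κ : (Scheme.Modules.pushforward D.ι).obj ((Scheme.Modules.restrictFunctor D.ι).obj A) ≅
      (Scheme.Modules.pushforward f).obj BX := pushRestrictIso f D OX
  let γ : pow OY r ⟶ (Scheme.Modules.pushforward f).obj BX := θ ≫ κ.hom
  haveI hγ : IsIso ((Scheme.Modules.restrictFunctor D.ι).map γ) := by
    change IsIso ((Scheme.Modules.restrictFunctor D.ι).map (θ ≫ κ.hom))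
    rw [Functor.map_comp]
    infer_instance
  let adjf := Scheme.Modules.pullbackPushforwardAdjunction f
  let q : (Scheme.Modules.pullback f).obj (pow OY r) ⟶ BX := (adjf.homEquiv _ _).symm γ
  let M : X.Modules := image q
  let α : pow OY r ⟶ (Scheme.Modules.pushforward f).obj M :=
    adjf.homEquiv _ _ (factorThruImage q)
  have hαγ : α ≫ (Scheme.Modules.pushforward f).map (image.ι q) = γ := comp_map_image_ι adjf γ
  -- coherence of `M`
  have cP := isCoh_pow OY cOY r
  haveI : (pow OY r).IsQuasicoherent := cP.1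
  haveI : SheafOfModules.IsFiniteType (R := Y.ringCatSheaf) (pow OY r) := cP.2
  haveI qP : ((Scheme.Modules.pullback f).obj (pow OY r)).IsQuasicoherent :=
    Groth.Agent.Lib.Helper2.PullbackSec.isQuasicoherent_pullback f (pow OY r)
  haveI fP : SheafOfModules.IsFiniteType (R := X.ringCatSheaf)
      ((Scheme.Modules.pullback f).obj (pow OY r)) :=
    Groth.Agent.Lib.Helper20.FormalPull.isFiniteType_pullback f (pow OY r)
  haveI : OX.IsQuasicoherent := cO.1
  haveI q1 : ((Scheme.Modules.restrictFunctor (f ⁻¹ᵁ D).ι).obj OX).IsQuasicoherent :=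
    Scheme.Modules.isQuasicoherent_restrictFunctor (f ⁻¹ᵁ D).ι OX
  haveI qB : BX.IsQuasicoherent :=
    Groth.Agent.Lib.Helper23.QCohLocal.isQuasicoherent_pushforward _ _
  haveI qC : (cokernel q).IsQuasicoherent :=
    Groth.Agent.Lib.Helper23.QCohLocal.isQuasicoherent_cokernel q
  have cM' : Coh.IsCoh (Abelian.image q) :=
    ⟨Groth.Agent.Lib.Helper23.QCohLocal.isQuasicoherent_kernel (cokernel.π q),
      Groth.Agent.Lib.Helper20.Nakayama.isFiniteType_of_epi (Abelian.factorThruImage q)⟩
  have cM : Coh.IsCoh M :=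
    Groth.Agent.Lib.R2H2.PdSheaf.isCoh_of_iso (Abelian.imageIsoImage q) cM'
  refine ⟨r, M, α, D, hr, cM, hηD, ?_⟩
  haveI : Mono ((Scheme.Modules.pushforward f).map (image.ι q)) := inferInstance
  have hmono : Mono ((Scheme.Modules.restrictFunctor D.ι).map
      ((Scheme.Modules.pushforward f).map (image.ι q))) := inferInstance
  refine isIso_map_of_mono_of_isIso_comp (Scheme.Modules.restrictFunctor D.ι) α
    ((Scheme.Modules.pushforward f).map (image.ι q)) hmono ?_
  rw [hαγ]
  exact hγ

/-- **S10948** -/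
theorem main [IsIntegral X] [IsNoetherian X] [IsIntegral Y] [IsNoetherian Y]
    (f : X ⟶ Y) [IsFinite f] [Surjective f] :
    ∃ (r : ℕ) (M : X.Modules) (α : (SheafOfModules.free (ULift.{u} (Fin r)) : Y.Modules) ⟶
        (Scheme.Modules.pushforward f).obj M),
      0 < r ∧ Coh.IsCoh M ∧
      IsIso ((TopCat.Presheaf.stalkFunctor AddCommGrpCat.{u} (genericPoint ↥Y)).map
        ((SheafOfModules.toSheaf Y.ringCatSheaf).map α).hom) := by
  obtain ⟨r, M, α, D, hr, cM, hηD, hα⟩ := main_pow f
  let e12 : pow (Coh.structureModule Y) r ≅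
      (SheafOfModules.free (ULift.{u} (Fin r)) : Y.Modules) :=
    (sigmaFinIsoPow (Coh.structureModule Y) r).symm ≪≫
      (Sigma.whiskerEquiv (f := fun _ : ULift.{u} (Fin r) => Coh.structureModule Y)
        (g := fun _ : Fin r => Coh.structureModule Y) Equiv.ulift (fun _ => Iso.refl _)).symm
  refine ⟨r, M, e12.inv ≫ α, hr, cM, ?_⟩
  haveI hiβ : IsIso ((Scheme.Modules.restrictFunctor D.ι).map (e12.inv ≫ α)) := by
    rw [Functor.map_comp]
    infer_instance
  exact isIso_stalk_of_isIso_restrict D (e12.inv ≫ α) ⟨genericPoint Y, hηD⟩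

end Groth.Agent.Lib.R2H2.FinSurjFree
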