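import Groth.Agent.Lib.R2H2GenMono
import Groth.Agent.Lib.R2H2DeligneSurj
import Groth.Agent.Lib.R2H2ClosedPn
import Groth.Agent.Lib.R2H2ResField
set_option backward.isDefEq.respectTransparency.types false

/-!
# Finite surjective morphisms of integral schemes: `f_* G ⟶ F^r` generically an isomorphism
(helper2, round 2; S10949)

* `isIso_stalk_of_isIso_restrict` : a morphism which is an isomorphism over an open `D` induces
  isomorphisms on the stalks at points of `D`.
* `nontrivial_stalk_pushO` : the stalks of `f_* O_X` are nonzero for surjective `f`.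
* `main` : S10949.
-/

set_option autoImplicit false
set_option linter.unusedSectionVars false
set_option linter.style.haveILetI false
universe u
open CategoryTheory CategoryTheory.Limits AlgebraicGeometry TopologicalSpace Opposite

noncomputable section

namespace Groth.Agent.Lib.R2H2.FinSurjGen

open Groth.Agent.Lib.R2H2.DevA Groth.Agent.Lib.R2H2.DevF Groth.Agent.Lib.R2H2.DevK
  Groth.Agent.Lib.R2H2.NilFilt Groth.Agent.Lib.R2H2.IdealMulSec Groth.Agent.Lib.R2H2.StalkPow
  Groth.Agent.Lib.R2H2.GenMono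

variable {X Y : Scheme.{u}}

/-- stalks of a morphism which is an isomorphism over an open -/
theorem isIso_stalk_of_isIso_restrict (D : Y.Opens) {M N : Y.Modules} (φ : M ⟶ N)
    [IsIso ((Scheme.Modules.restrictFunctor D.ι).map φ)] (x : D) :
    IsIso ((TopCat.Presheaf.stalkFunctor AddCommGrpCat.{u} (D.ι x)).map
      ((Scheme.Modules.toPresheaf Y).map φ)) := by
  have h1 : IsIso ((Scheme.Modules.restrictFunctor D.ι ⋙ Scheme.Modules.toPresheaf _ ⋙
      TopCat.Presheaf.stalkFunctor AddCommGrpCat.{u} x).map φ) := by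
    change IsIso ((Scheme.Modules.toPresheaf _ ⋙
      TopCat.Presheaf.stalkFunctor AddCommGrpCat.{u} x).map
        ((Scheme.Modules.restrictFunctor D.ι).map φ))
    infer_instance
  exact (NatIso.isIso_map_iff (Scheme.Modules.restrictStalkNatIso D.ι x) φ).1 h1

theorem eq_bot_of_subsingleton (W : X.Opens) (h : Subsingleton Γ(X, W)) : W = ⊥ := by
  by_contra hne
  obtain ⟨x, hx⟩ : ∃ x, x ∈ W := by
    by_contra hcon
    rw [not_exists] at hcon
    exact hne (by ext x; simpa using hcon x)
  haveI : Nontrivial Γ(X, W) := (X.presheaf.germ W x hx).hom.domain_nontrivial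
  exact not_subsingleton _ h

/-- the stalks of `f_* O_X` are nonzero for surjective `f` -/
theorem nontrivial_stalk_pushO (f : X ⟶ Y) [Surjective f]
    (cA : Coh.IsCoh ((Scheme.Modules.pushforward f).obj (Coh.structureModule X))) (y : Y) :
    Nontrivial (((Scheme.Modules.pushforward f).obj (Coh.structureModule X)).presheaf.stalk y) := by
  by_contra hnt
  rw [not_nontrivial_iff_subsingleton] at hnt
  haveI := cA.2
  obtain ⟨V, hyV, hV⟩ := Groth.Agent.Lib.Helper20.SuppClosed.exists_opens_subsingleton_stalk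
    ((Scheme.Modules.pushforward f).obj (Coh.structureModule X)) y hnt
  have h0 : ∀ s : Γ((Scheme.Modules.pushforward f).obj (Coh.structureModule X), V), s = 0 :=
    Groth.Agent.Lib.Helper23.Support.eq_zero_of_disjoint_support _ V
      (fun x hx hx' => hx' (hV x hx))
  have h1 : Subsingleton Γ(X, f ⁻¹ᵁ V) := by
    refine ⟨fun a b => ?_⟩
    have ha : a = 0 := h0 a
    have hb : b = 0 := h0 b
    rw [ha, hb]
  have h2 := eq_bot_of_subsingleton (f ⁻¹ᵁ V) h1
  obtain ⟨x, rfl⟩ := f.surjective y
  have : x ∈ f ⁻¹ᵁ V := hyV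
  rw [h2] at this
  exact this

/-- **S10949** -/
theorem main [IsIntegral X] [IsNoetherian X] [IsIntegral Y] [IsNoetherian Y]
    (f : X ⟶ Y) [IsFinite f] [Surjective f] (F : Y.Modules) (hF : Coh.IsCoh F) :
    ∃ (r : ℕ) (G : X.Modules)
      (β : (Scheme.Modules.pushforward f).obj G ⟶ ∐ fun _ : ULift.{u} (Fin r) => F),
      0 < r ∧ Coh.IsCoh G ∧
      IsIso ((TopCat.Presheaf.stalkFunctor AddCommGrpCat.{u} (genericPoint ↥Y)).map
        ((SheafOfModules.toSheaf Y.ringCatSheaf).map β).hom) := by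
  classical
  let A : Y.Modules := (Scheme.Modules.pushforward f).obj (Coh.structureModule X)
  have cO := Groth.Agent.Lib.H9ZarLift.isCoh_structureModule X
  have cA : Coh.IsCoh A := Groth.Agent.Lib.R2H2.ClosedPn.isCoh_push f _ cO
  -- the stalk of `O_Y` at the generic point is a field
  have hfield : IsField (Y.presheaf.stalk (genericPoint Y)) :=
    isField_stalk_of_closure_mem_irreducibleComponents Y _
      (by simp [irreducibleComponents_eq_singleton])
  have hmax : ∀ a ∈ IsLocalRing.maximalIdeal (Y.presheaf.stalk (genericPoint Y)), a = 0 := by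
    intro a ha
    by_contra hne
    obtain ⟨b, hb⟩ := hfield.mul_inv_cancel hne
    exact (IsLocalRing.mem_maximalIdeal a).1 ha (IsUnit.of_mul_eq_one b hb)
  haveI := finite_stalk A cA (genericPoint Y)
  haveI := finite_stalk F hF (genericPoint Y)
  have hntA : Nontrivial (A.presheaf.stalk (genericPoint Y)) :=
    nontrivial_stalk_pushO f cA (genericPoint Y)
  obtain ⟨r, s, hs1, ⟨e⟩⟩ := Groth.Agent.Lib.R2H2.ResField.exists_equiv_pow
    (F.presheaf.stalk (genericPoint Y)) (A.presheaf.stalk (genericPoint Y))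
    (fun a ha m => by rw [hmax a ha, zero_smul]) (fun a ha m => by rw [hmax a ha, zero_smul]) hntA
  obtain ⟨D, hηD, ⟨iso⟩⟩ := exists_local_iso F A hF cA (genericPoint Y) r s e
  have cFs := isCoh_pow F hF s
  have cAr := isCoh_pow A cA r
  let JD : Y.IdealSheafData :=
    Scheme.IdealSheafData.vanishingIdeal ⟨(D : Set Y)ᶜ, D.2.isClosed_compl⟩
  have hJs : (JD.support : Set Y) = (D : Set Y)ᶜ :=
    Scheme.IdealSheafData.coe_support_vanishingIdeal _
  obtain ⟨n, ψ, hψ⟩ := Groth.Agent.Lib.R2H2.DeligneSurj.main (pow F s) (pow A r) cFs.1 cAr JD D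
    (by rw [hJs, compl_compl]) iso.inv
  have hdisj : Disjoint (D : Set Y) ((JD ^ n).support : Set Y) := by
    rw [Set.disjoint_left]
    intro x hxD hx
    have h2 := Groth.Agent.Lib.R2H2.DevG.support_pow_le JD n hx
    rw [hJs] at h2
    exact h2 hxD
  haveI hiι : IsIso ((Scheme.Modules.restrictFunctor D.ι).map (Dual3.idealMulι (JD ^ n) (pow A r))) :=
    isIso_restrict_idealMulι (JD ^ n) (pow A r) D hdisj
  haveI hiψ : IsIso ((Scheme.Modules.restrictFunctor D.ι).map ψ) := by
    rw [hψ]
    infer_instance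
  -- the module on `X`
  have cOr : Coh.IsCoh (pow (Coh.structureModule X) r) := isCoh_pow _ cO r
  let G : X.Modules := (Dual3.idealMul ((JD ^ n).comap f)).obj (pow (Coh.structureModule X) r)
  have cG : Coh.IsCoh G := isCoh_idealMul _ _ cOr
  obtain ⟨e9, -⟩ := Groth.Agent.Lib.R2H2.PushIdealMul.main f (pow (Coh.structureModule X) r)
    cOr.1 (JD ^ n)
  -- `f_* (O_X^r) ≅ A^r`
  let e10 : (Scheme.Modules.pushforward f).obj (pow (Coh.structureModule X) r) ≅ pow A r :=
    (Scheme.Modules.pushforward f).mapIso (sigmaFinIsoPow (Coh.structureModule X) r).symm ≪≫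
      pushSigma f (Coh.structureModule X) r ≪≫ sigmaFinIsoPow A r
  let e11 : (Scheme.Modules.pushforward f).obj G ≅ (Dual3.idealMul (JD ^ n)).obj (pow A r) :=
    e9.symm ≪≫ (Dual3.idealMul (JD ^ n)).mapIso e10
  let e12 : pow F s ≅ ∐ fun _ : ULift.{u} (Fin s) => F :=
    (sigmaFinIsoPow F s).symm ≪≫
      (Sigma.whiskerEquiv (f := fun _ : ULift.{u} (Fin s) => F) (g := fun _ : Fin s => F)
        Equiv.ulift (fun _ => Iso.refl _)).symm
  refine ⟨s, G, e11.hom ≫ ψ ≫ e12.hom, hs1, cG, ?_⟩
  have hiβ : IsIso ((Scheme.Modules.restrictFunctor D.ι).map (e11.hom ≫ ψ ≫ e12.hom)) := by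
    rw [Functor.map_comp, Functor.map_comp]
    infer_instance
  exact isIso_stalk_of_isIso_restrict D (e11.hom ≫ ψ ≫ e12.hom) ⟨genericPoint Y, hηD⟩

end Groth.Agent.Lib.R2H2.FinSurjGen
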