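import Mathlib
import Groth.Prelude.Def_FSch3
import Groth.Agent.Lib.R2H3ComapPow

/-!
# Adic systems of thickenings (helper2)

* a ring with a finitely generated nilpotent ideal and Noetherian quotient is Noetherian;
* a system of schemes which is adic over a locally Noetherian adic formal system, with locally
  Noetherian level `0`, is a locally Noetherian adic formal system (EGA I 10.12.3 / 10.6.4 type).
-/

set_option autoImplicit false
set_option linter.style.haveILetI false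
universe u

open CategoryTheory CategoryTheory.Limits AlgebraicGeometry TopologicalSpace

namespace Groth.Agent.Lib.R2H2.FormalSys

open Groth.Agent.Lib.R2H3.ComapPow

/-- A ring with a finitely generated nilpotent ideal whose quotient is Noetherian is Noetherian. -/
theorem isNoetherianRing_of_nilpotent_fg {A : Type*} [CommRing A] (I : Ideal A) (hfg : I.FG)
    (n : ℕ) (hn : I ^ n = ⊥) [IsNoetherianRing (A ⧸ I)] : IsNoetherianRing A := by
  refine IsNoetherianRing.of_prime fun P hP => ?_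
  have hIP : I ≤ P := by
    intro x hx
    have h1 : x ^ n ∈ I ^ n := Ideal.pow_mem_pow hx n
    rw [hn] at h1
    have h2 : x ^ n ∈ P := by
      rw [Ideal.mem_bot.mp h1]; exact P.zero_mem
    exact hP.mem_of_pow_mem n h2
  have h1 : (P.map (Ideal.Quotient.mk I)).FG := IsNoetherian.noetherian _
  obtain ⟨s, hs⟩ := h1
  obtain ⟨t, ht⟩ := hfg
  classical
  -- lift generators
  choose! lift hlift using fun y : A ⧸ I => Ideal.Quotient.mk_surjective y
  refine ⟨s.image lift ∪ t, le_antisymm ?_ ?_⟩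
  · rw [Ideal.span_le]
    intro x hx
    rcases Finset.mem_union.mp (Finset.mem_coe.mp hx) with h | h
    · obtain ⟨y, hy, rfl⟩ := Finset.mem_image.mp h
      have hy' : y ∈ P.map (Ideal.Quotient.mk I) := by
        rw [← hs]; exact Ideal.subset_span hy
      rw [Ideal.mem_map_iff_of_surjective _ Ideal.Quotient.mk_surjective] at hy'
      obtain ⟨p, hp, hpy⟩ := hy'
      have : lift y - p ∈ I := by
        rw [← Ideal.Quotient.eq, hlift, hpy]
      have h3 : lift y = (lift y - p) + p := by ring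
      show lift y ∈ P
      rw [h3]
      exact P.add_mem (hIP this) hp
    · exact hIP (by rw [← ht]; exact Ideal.subset_span h)
  · intro x hx
    have hx' : Ideal.Quotient.mk I x ∈ Ideal.span (s : Set (A ⧸ I)) := by
      rw [hs]; exact Ideal.mem_map_of_mem _ hx
    -- write the class of x as a combination of the generators
    have key : ∀ y ∈ Ideal.span (s : Set (A ⧸ I)), ∃ a ∈ Ideal.span ((s.image lift : Finset A) : Set A),
        Ideal.Quotient.mk I a = y := by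
      intro y hy
      induction hy using Submodule.span_induction with
      | mem y hy =>
        exact ⟨lift y, Ideal.subset_span (Finset.mem_coe.mpr (Finset.mem_image_of_mem _ hy)),
          hlift y⟩
      | zero => exact ⟨0, Ideal.zero_mem _, map_zero _⟩
      | add y z _ _ hy hz =>
        obtain ⟨a, ha, rfl⟩ := hy
        obtain ⟨b, hb, rfl⟩ := hz
        exact ⟨a + b, Ideal.add_mem _ ha hb, map_add _ _ _⟩
      | smul c y _ hy =>
        obtain ⟨a, ha, rfl⟩ := hy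
        obtain ⟨c', rfl⟩ := Ideal.Quotient.mk_surjective c
        exact ⟨c' * a, Ideal.mul_mem_left _ _ ha, by rw [map_mul]; rfl⟩
    obtain ⟨a, ha, hax⟩ := key _ hx'
    have h4 : x - a ∈ I := by rw [← Ideal.Quotient.eq, hax]
    have h5 : x = a + (x - a) := by ring
    rw [h5]
    refine Ideal.add_mem _ (Ideal.span_mono ?_ ha) (Ideal.span_mono ?_ (by rw [ht]; exact h4))
    · exact fun z hz => Finset.mem_coe.mpr (Finset.mem_union_left _ (Finset.mem_coe.mp hz))
    · exact fun z hz => Finset.mem_coe.mpr (Finset.mem_union_right _ (Finset.mem_coe.mp hz))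

section sys

variable {𝔛 𝔖 : FSch.Sys.{u}}

theorem isClosedImmersion_toX (h : 𝔖.IsFormal) (m : ℕ) : IsClosedImmersion (𝔖.toX m) := by
  induction m with
  | zero => show IsClosedImmersion (𝟙 _); infer_instance
  | succ m ih =>
    haveI := ih
    haveI := (h m).1
    show IsClosedImmersion (𝔖.toX m ≫ 𝔖.ι m)
    infer_instance

theorem isPullback_toX (f : 𝔛 ⟶ 𝔖) (hf : FSch.IsAdicHom f) (m : ℕ) :
    IsPullback (FSch.Hom.app f 0) (𝔛.toX m) (𝔖.toX m) (FSch.Hom.app f m) := by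
  induction m with
  | zero =>
    show IsPullback (FSch.Hom.app f 0) (𝟙 _) (𝟙 _) (FSch.Hom.app f 0)
    exact IsPullback.of_vert_isIso ⟨by simp⟩
  | succ m ih => exact ih.paste_vert (hf m).flip

theorem isFormal_of_isAdicHom (f : 𝔛 ⟶ 𝔖) (hf : FSch.IsAdicHom f) (h : 𝔖.IsFormal) :
    𝔛.IsFormal := by
  intro n
  haveI := (h n).1
  haveI : Surjective (𝔖.ι n) := ⟨(h n).2⟩
  have h1 : IsClosedImmersion (𝔛.ι n) :=
    MorphismProperty.of_isPullback (P := @IsClosedImmersion) (hf n).flip inferInstance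
  have h2 : Surjective (𝔛.ι n) :=
    MorphismProperty.of_isPullback (P := @Surjective) (hf n).flip inferInstance
  exact ⟨h1, h2.surj⟩

theorem isAdic_of_isAdicHom (f : 𝔛 ⟶ 𝔖) (hf : FSch.IsAdicHom f) (h : 𝔖.IsFormal)
    (h' : 𝔖.IsAdic) : 𝔛.IsAdic := by
  intro n
  haveI := (h n).1
  haveI := isClosedImmersion_toX h (n + 1)
  rw [ker_eq_comap_of_isPullback (𝔖.ι n) (FSch.Hom.app f (n + 1)) (FSch.Hom.app f n) (𝔛.ι n)
      (hf n).flip, h' n, comap_pow,
    ← ker_eq_comap_of_isPullback (𝔖.toX (n + 1)) (FSch.Hom.app f (n + 1)) (FSch.Hom.app f 0)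
      (𝔛.toX (n + 1)) (isPullback_toX f hf (n + 1))]

/-- in an adic system of thickenings, the ideal of level `0` in level `n` has vanishing
`(n+1)`-st power. -/
theorem ker_toX_pow_eq_bot (h : 𝔛.IsFormal) (h' : 𝔛.IsAdic) (n : ℕ) :
    (𝔛.toX n).ker ^ (n + 1) = ⊥ := by
  haveI := (h n).1
  haveI := isClosedImmersion_toX h (n + 1)
  have hA : IsPullback (𝟙 (𝔛.X 0)) (𝔛.toX n) (𝔛.toX n) (𝟙 (𝔛.X n)) :=
    IsPullback.of_horiz_isIso ⟨by simp⟩
  have hB : IsPullback (𝟙 (𝔛.X n)) (𝟙 (𝔛.X n)) (𝔛.ι n) (𝔛.ι n) :=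
    IsKernelPair.id_of_mono (𝔛.ι n)
  have hAB : IsPullback (𝟙 (𝔛.X 0)) (𝔛.toX n) (𝔛.toX (n + 1)) (𝔛.ι n) := by
    have := hA.paste_vert hB
    rwa [Category.comp_id] at this
  rw [ker_eq_comap_of_isPullback (𝔛.toX (n + 1)) (𝔛.ι n) (𝟙 _) (𝔛.toX n) hAB, ← comap_pow,
    ← h' n, ← ker_eq_comap_of_isPullback (𝔛.ι n) (𝔛.ι n) (𝟙 _) (𝟙 _) hB]
  exact Scheme.Hom.ker_eq_bot_of_isIso _

theorem isLocallyNoetherian_level (f : 𝔛 ⟶ 𝔖) (hf : FSch.IsAdicHom f)
    (h𝔖 : 𝔖.IsLocNoethFormal) [IsLocallyNoetherian (𝔛.X 0)] (n : ℕ) :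
    IsLocallyNoetherian (𝔛.X n) := by
  have hF := isFormal_of_isAdicHom f hf h𝔖.1
  have hA := isAdic_of_isAdicHom f hf h𝔖.1 h𝔖.2.1
  haveI := isClosedImmersion_toX hF n
  haveI := isClosedImmersion_toX h𝔖.1 n
  haveI := h𝔖.2.2 n
  have hnil := ker_toX_pow_eq_bot hF hA n
  have hker : (𝔛.toX n).ker = (𝔖.toX n).ker.comap (FSch.Hom.app f n) :=
    ker_eq_comap_of_isPullback _ _ _ _ (isPullback_toX f hf n)
  let ι : Type u := { p : (𝔛.X n).affineOpens × (𝔖.X n).affineOpens //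
    p.1.1 ≤ (FSch.Hom.app f n) ⁻¹ᵁ p.2.1 }
  refine isLocallyNoetherian_of_affine_cover (S := fun p : ι => p.1.1) ?_ ?_
  · rw [eq_top_iff]
    rintro x -
    obtain ⟨_, ⟨V, hV, rfl⟩, hxV, -⟩ :=
      (𝔖.X n).isBasis_affineOpens.exists_subset_of_mem_open
        (Set.mem_univ (FSch.Hom.app f n x)) isOpen_univ
    have hx' : x ∈ (FSch.Hom.app f n) ⁻¹ᵁ V := hxV
    obtain ⟨_, ⟨U, hU, rfl⟩, hxU, hUV⟩ :=
      (𝔛.X n).isBasis_affineOpens.exists_subset_of_mem_open hx'
        ((FSch.Hom.app f n) ⁻¹ᵁ V).isOpen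
    exact Opens.mem_iSup.mpr ⟨⟨(⟨U, hU⟩, ⟨V, hV⟩), hUV⟩, hxU⟩
  · rintro ⟨⟨⟨U, hU⟩, ⟨V, hV⟩⟩, hUV⟩
    show IsNoetherianRing Γ(𝔛.X n, U)
    have hI : (𝔛.toX n).ker.ideal ⟨U, hU⟩ = RingHom.ker ((𝔛.toX n).app U).hom :=
      Scheme.Hom.ker_apply _ _
    have hfg : ((𝔛.toX n).ker.ideal ⟨U, hU⟩).FG := by
      rw [hker, Groth.Agent.Lib.Helper20.EffCartier.ideal_comap_eq_map _ _ hU hV hUV]
      haveI : IsNoetherianRing Γ(𝔖.X n, V) :=
        IsLocallyNoetherian.component_noetherian ⟨V, hV⟩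
      exact Ideal.FG.map (IsNoetherian.noetherian _) _
    have hpow : ((𝔛.toX n).ker.ideal ⟨U, hU⟩) ^ (n + 1) = ⊥ := by
      have h1 := congrArg (fun J => Scheme.IdealSheafData.ideal J ⟨U, hU⟩) hnil
      simpa [Scheme.IdealSheafData.ideal_pow] using h1
    have hsurj := (𝔛.toX n).app_surjective U hU
    haveI : IsNoetherianRing Γ(𝔛.X 0, (𝔛.toX n) ⁻¹ᵁ U) :=
      IsLocallyNoetherian.component_noetherian ⟨_, hU.preimage (𝔛.toX n)⟩
    haveI : IsNoetherianRing (Γ(𝔛.X n, U) ⧸ (𝔛.toX n).ker.ideal ⟨U, hU⟩) := by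
      rw [hI]
      exact isNoetherianRing_of_ringEquiv _
        (RingHom.quotientKerEquivOfSurjective hsurj).symm
    exact isNoetherianRing_of_nilpotent_fg _ hfg (n + 1) hpow

/-- a system adic over a locally Noetherian adic formal system, with locally Noetherian level
`0`, is a locally Noetherian adic formal system. -/
theorem isLocNoethFormal_of_isAdicHom (f : 𝔛 ⟶ 𝔖) (hf : FSch.IsAdicHom f)
    (h𝔖 : 𝔖.IsLocNoethFormal) [IsLocallyNoetherian (𝔛.X 0)] : 𝔛.IsLocNoethFormal :=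
  ⟨isFormal_of_isAdicHom f hf h𝔖.1, isAdic_of_isAdicHom f hf h𝔖.1 h𝔖.2.1,
    isLocallyNoetherian_level f hf h𝔖⟩

end sys

section completion

/-- the ideal of a closed subscheme inside a bigger closed subscheme is the pullback ideal. -/
theorem ker_eq_comap_of_comp {Z W X : Scheme.{u}} (a : Z ⟶ X) (b : W ⟶ X) (c : Z ⟶ W)
    [IsClosedImmersion a] [Mono b] (h : c ≫ b = a) : c.ker = a.ker.comap b := by
  have hA : IsPullback (𝟙 Z) c c (𝟙 W) := IsPullback.of_horiz_isIso ⟨by simp⟩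
  have hB : IsPullback (𝟙 W) (𝟙 W) b b := IsKernelPair.id_of_mono b
  have hAB : IsPullback (𝟙 Z) c a b := by
    have := hA.paste_vert hB
    rwa [Category.comp_id, h] at this
  exact ker_eq_comap_of_isPullback a b (𝟙 _) c hAB

variable (X : Scheme.{u}) (𝓘 : X.IdealSheafData)

/-- the transition map of the completion, with explicit source and target. -/
noncomputable abbrev inc (n : ℕ) : (𝓘 ^ (n + 1)).subscheme ⟶ (𝓘 ^ (n + 1 + 1)).subscheme :=
  Scheme.IdealSheafData.inclusion (FSch.pow_succ_le X 𝓘 n)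

theorem inc_subschemeι (n : ℕ) :
    inc X 𝓘 n ≫ (𝓘 ^ (n + 1 + 1)).subschemeι = (𝓘 ^ (n + 1)).subschemeι :=
  Scheme.IdealSheafData.inclusion_subschemeι _

theorem isClosedImmersion_inc (n : ℕ) : IsClosedImmersion (inc X 𝓘 n) := by
  have h1 : IsClosedImmersion (inc X 𝓘 n ≫ (𝓘 ^ (n + 1 + 1)).subschemeι) := by
    rw [inc_subschemeι]; infer_instance
  exact IsClosedImmersion.of_comp _ (𝓘 ^ (n + 1 + 1)).subschemeι

theorem surjective_inc (n : ℕ) : Function.Surjective (inc X 𝓘 n).base := by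
  intro x
  have hx : (𝓘 ^ (n + 1 + 1)).subschemeι x ∈ Set.range (𝓘 ^ (n + 1)).subschemeι := by
    rw [Scheme.IdealSheafData.range_subschemeι, Scheme.IdealSheafData.support_pow_succ,
      ← Scheme.IdealSheafData.support_pow_succ 𝓘 (n + 1),
      ← Scheme.IdealSheafData.range_subschemeι]
    exact ⟨x, rfl⟩
  obtain ⟨y, hy⟩ := hx
  refine ⟨y, (𝓘 ^ (n + 1 + 1)).subschemeι.isEmbedding.injective ?_⟩
  rw [← hy, ← inc_subschemeι X 𝓘 n]
  rfl

theorem ker_inc (n : ℕ) :
    (inc X 𝓘 n).ker = (𝓘 ^ (n + 1)).comap (𝓘 ^ (n + 1 + 1)).subschemeι := by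
  rw [ker_eq_comap_of_comp (𝓘 ^ (n + 1)).subschemeι (𝓘 ^ (n + 1 + 1)).subschemeι _
    (inc_subschemeι X 𝓘 n), Scheme.IdealSheafData.ker_subschemeι]

/-- the composite `X_0 ⟶ X_n` of the completion, with explicit source and target. -/
noncomputable def toXraw : ∀ n : ℕ, (𝓘 ^ (0 + 1)).subscheme ⟶ (𝓘 ^ (n + 1)).subscheme
  | 0 => 𝟙 _
  | n + 1 => toXraw n ≫ inc X 𝓘 n

theorem toX_eq (n : ℕ) : (FSch.completionAlong X 𝓘).toX n = toXraw X 𝓘 n := by
  induction n with
  | zero => rfl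
  | succ n ih =>
    show (FSch.completionAlong X 𝓘).toX n ≫ (FSch.completionAlong X 𝓘).ι n = _
    rw [ih]
    rfl

theorem toXraw_subschemeι (n : ℕ) :
    toXraw X 𝓘 n ≫ (𝓘 ^ (n + 1)).subschemeι = (𝓘 ^ (0 + 1)).subschemeι := by
  induction n with
  | zero => exact Category.id_comp _
  | succ n ih =>
    show (toXraw X 𝓘 n ≫ inc X 𝓘 n) ≫ _ = _
    rw [Category.assoc, inc_subschemeι]
    exact ih

theorem ker_toXraw (n : ℕ) :
    (toXraw X 𝓘 n).ker = 𝓘.comap (𝓘 ^ (n + 1)).subschemeι := by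
  rw [ker_eq_comap_of_comp (𝓘 ^ (0 + 1)).subschemeι (𝓘 ^ (n + 1)).subschemeι _
    (toXraw_subschemeι X 𝓘 n), Scheme.IdealSheafData.ker_subschemeι, zero_add, pow_one]

theorem isLocNoethFormal_completionAlong [IsLocallyNoetherian X] :
    (FSch.completionAlong X 𝓘).IsLocNoethFormal := by
  refine ⟨?_, ?_, ?_⟩
  · intro n
    exact ⟨isClosedImmersion_inc X 𝓘 n, surjective_inc X 𝓘 n⟩
  · intro n
    have h1 : ((FSch.completionAlong X 𝓘).ι n).ker =
        (𝓘 ^ (n + 1)).comap (𝓘 ^ (n + 1 + 1)).subschemeι := ker_inc X 𝓘 n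
    have h2 : ((FSch.completionAlong X 𝓘).toX (n + 1)).ker =
        𝓘.comap (𝓘 ^ (n + 1 + 1)).subschemeι :=
      (congrArg Scheme.Hom.ker (toX_eq X 𝓘 (n + 1))).trans (ker_toXraw X 𝓘 (n + 1))
    exact h1.trans ((comap_pow _ _ _).trans
      (congrArg (fun J : (𝓘 ^ (n + 1 + 1)).subscheme.IdealSheafData => J ^ (n + 1)) h2.symm))
  · intro n
    show IsLocallyNoetherian (𝓘 ^ (n + 1)).subscheme
    exact LocallyOfFiniteType.isLocallyNoetherian (𝓘 ^ (n + 1)).subschemeι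

end completion

end Groth.Agent.Lib.R2H2.FormalSys
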