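import Mathlib
import Groth.Agent.Lib.R2H2FormalSys

/-!
# Completion of a scheme along the inverse image ideal (helper2)

EGA I 10.9.9: for `f : X ⟶ Y` and an ideal `𝓚` on `Y`, the completion of `X` along `f⁻¹𝓚 · O_X` is
`X ×_Y Ŷ`, levelwise, and the completed morphism is adic.
-/

set_option autoImplicit false
set_option linter.style.haveILetI false
universe u

open CategoryTheory CategoryTheory.Limits AlgebraicGeometry TopologicalSpace

namespace Groth.Agent.Lib.R2H2.FormalSys

open Groth.Agent.Lib.R2H3.ComapPow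

/-- the basic cartesian square: the closed subscheme of the pullback ideal is the pullback of the
closed subscheme. -/
theorem isPullback_subschemeMap_comap {X Y : Scheme.{u}} (f : X ⟶ Y) (I : X.IdealSheafData)
    (J : Y.IdealSheafData) (hIJ : J.comap f = I) (H : J ≤ I.map f) :
    IsPullback I.subschemeι (Scheme.IdealSheafData.subschemeMap I J f H) f J.subschemeι := by
  refine isPullback_of_isClosedImmersion I.subschemeι J.subschemeι _ f
    (Scheme.IdealSheafData.subschemeMap_subschemeι I J f H).symm ?_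
  rw [Scheme.IdealSheafData.ker_subschemeι, Scheme.IdealSheafData.ker_subschemeι]
  exact hIJ

theorem isPullback_completionMap_level {X Y : Scheme.{u}} (f : X ⟶ Y) (𝓚 : Y.IdealSheafData)
    (h : FSch.PowCompat f (𝓚.comap f) 𝓚) (n : ℕ) :
    IsPullback (FSch.completionToX X (𝓚.comap f) n)
      (FSch.Hom.app (FSch.completionMap f (𝓚.comap f) 𝓚 h) n) f (FSch.completionToX Y 𝓚 n) :=
  isPullback_subschemeMap_comap f ((𝓚.comap f) ^ (n + 1)) (𝓚 ^ (n + 1)) (comap_pow f 𝓚 (n + 1))
    (Scheme.IdealSheafData.le_map_iff_comap_le.mpr (h n))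

theorem isAdicHom_completionMap {X Y : Scheme.{u}} (f : X ⟶ Y) (𝓚 : Y.IdealSheafData)
    (h : FSch.PowCompat f (𝓚.comap f) 𝓚) :
    FSch.IsAdicHom (FSch.completionMap f (𝓚.comap f) 𝓚 h) := by
  intro n
  have h1 := isPullback_completionMap_level f 𝓚 h n
  have h2 := isPullback_completionMap_level f 𝓚 h (n + 1)
  have e : (FSch.completionAlong X (𝓚.comap f)).ι n ≫ FSch.completionToX X (𝓚.comap f) (n + 1) =
      FSch.completionToX X (𝓚.comap f) n := Scheme.IdealSheafData.inclusion_subschemeι _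
  have e' : (FSch.completionAlong Y 𝓚).ι n ≫ FSch.completionToX Y 𝓚 (n + 1) =
      FSch.completionToX Y 𝓚 n := Scheme.IdealSheafData.inclusion_subschemeι _
  rw [← e, ← e'] at h1
  exact IsPullback.of_right h1 ((FSch.completionMap f (𝓚.comap f) 𝓚 h).comm n).symm h2

/-- A square of systems which is cartesian at every level is cartesian. -/
theorem isPullback_sys_of_levelwise {𝔓 𝔛 𝔜 𝔖 : FSch.Sys.{u}} (a : 𝔓 ⟶ 𝔛) (b : 𝔓 ⟶ 𝔜)
    (f : 𝔛 ⟶ 𝔖) (g : 𝔜 ⟶ 𝔖)
    (H : ∀ n, IsPullback (FSch.Hom.app a n) (FSch.Hom.app b n) (FSch.Hom.app f n)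
      (FSch.Hom.app g n)) : IsPullback a b f g := by
  have w : a ≫ f = b ≫ g := by
    apply FSch.Hom.ext
    funext n
    exact (H n).w
  have hw : ∀ (s : PullbackCone f g) (n : ℕ),
      FSch.Hom.app s.fst n ≫ FSch.Hom.app f n = FSch.Hom.app s.snd n ≫ FSch.Hom.app g n := by
    intro s n
    have := congrArg (fun φ : s.pt ⟶ 𝔖 => FSch.Hom.app φ n) s.condition
    exact this
  refine IsPullback.of_isLimit (PullbackCone.IsLimit.mk w
    (fun s => (⟨fun n => (H n).lift _ _ (hw s n), fun n => ?_⟩ : FSch.Hom s.pt 𝔓)) ?_ ?_ ?_)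
  · apply (H (n + 1)).hom_ext
    · rw [Category.assoc, ← FSch.Hom.comm a n, ← Category.assoc, (H n).lift_fst, Category.assoc,
        (H (n + 1)).lift_fst, FSch.Hom.comm s.fst n]
    · rw [Category.assoc, ← FSch.Hom.comm b n, ← Category.assoc, (H n).lift_snd, Category.assoc,
        (H (n + 1)).lift_snd, FSch.Hom.comm s.snd n]
  · intro s
    apply FSch.Hom.ext
    funext n
    exact (H n).lift_fst _ _ _
  · intro s
    apply FSch.Hom.ext
    funext n
    exact (H n).lift_snd _ _ _
  · intro s m h1 h2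
    apply FSch.Hom.ext
    funext n
    apply (H n).hom_ext
    · rw [(H n).lift_fst]
      exact congrArg (fun φ : s.pt ⟶ 𝔛 => FSch.Hom.app φ n) h1
    · rw [(H n).lift_snd]
      exact congrArg (fun φ : s.pt ⟶ 𝔜 => FSch.Hom.app φ n) h2

/-- EGA I 10.9.7 type statement: completion of a fibre product along the preimage of a closed
subset of the first factor, when the closed subset of the second factor is the full preimage of
that of the base. -/
theorem isPullback_completionMap_of_comap {X Y S : Scheme.{u}} (g : X ⟶ S) (h : Y ⟶ S)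
    (𝓡 : X.IdealSheafData) (𝓙 : S.IdealSheafData)
    (hg : FSch.PowCompat g 𝓡 𝓙) (hh : FSch.PowCompat h (𝓙.comap h) 𝓙)
    (hp : FSch.PowCompat (pullback.fst g h) (𝓡.comap (pullback.fst g h)) 𝓡)
    (hq : FSch.PowCompat (pullback.snd g h) (𝓡.comap (pullback.fst g h)) (𝓙.comap h)) :
    IsPullback (FSch.completionMap (pullback.fst g h) (𝓡.comap (pullback.fst g h)) 𝓡 hp)
      (FSch.completionMap (pullback.snd g h) (𝓡.comap (pullback.fst g h)) (𝓙.comap h) hq)
      (FSch.completionMap g 𝓡 𝓙 hg) (FSch.completionMap h (𝓙.comap h) 𝓙 hh) := by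
  apply isPullback_sys_of_levelwise
  intro n
  have hA := isPullback_completionMap_level (pullback.fst g h) 𝓡 hp n
  have hB := isPullback_completionMap_level h 𝓙 hh n
  have hC := (IsPullback.of_hasPullback g h).flip
  have h1 := hA.paste_horiz hC
  have eG : FSch.Hom.app (FSch.completionMap g 𝓡 𝓙 hg) n ≫ FSch.completionToX S 𝓙 n =
      FSch.completionToX X 𝓡 n ≫ g :=
    Scheme.IdealSheafData.subschemeMap_subschemeι _ _ _
      (Scheme.IdealSheafData.le_map_iff_comap_le.mpr (hg n))
  have eQ : FSch.Hom.app (FSch.completionMap (pullback.snd g h) (𝓡.comap (pullback.fst g h))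
      (𝓙.comap h) hq) n ≫ FSch.completionToX Y (𝓙.comap h) n =
      FSch.completionToX (pullback g h) (𝓡.comap (pullback.fst g h)) n ≫ pullback.snd g h :=
    Scheme.IdealSheafData.subschemeMap_subschemeι _ _ _
      (Scheme.IdealSheafData.le_map_iff_comap_le.mpr (hq n))
  rw [← eG, ← eQ] at h1
  refine (IsPullback.of_right h1 ?_ hB).flip
  haveI : Mono (FSch.completionToX S 𝓙 n) :=
    inferInstanceAs (Mono (𝓙 ^ (n + 1)).subschemeι)
  rw [← cancel_mono (FSch.completionToX S 𝓙 n), Category.assoc, Category.assoc, ← hB.w, eG,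
    ← Category.assoc, eQ, ← Category.assoc, ← hA.w, Category.assoc, Category.assoc,
    pullback.condition]

end Groth.Agent.Lib.R2H2.FormalSys
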