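import Mathlib
import Groth.Prelude.Def_FSch3
import Groth.Agent.Lib.R2H2FormalSys

set_option autoImplicit false
set_option linter.style.haveILetI false
universe u

open CategoryTheory CategoryTheory.Limits AlgebraicGeometry TopologicalSpace

namespace Groth.Agent.Lib.R2H2.FormalSys3

open Groth.Agent.Lib.R2H2.FormalSys

/-- Nakayama for nilpotent ideals: `I ≤ J ⊔ I^2` and `I` nilpotent imply `I ≤ J`. -/
theorem le_of_le_sup_sq {A : Type*} [CommRing A] (I J : Ideal A) (_hJ : J ≤ I)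
    (h : I ≤ J ⊔ I ^ 2) (N : ℕ) (hN : I ^ N = ⊥) : I ≤ J := by
  have key : ∀ k : ℕ, I ≤ J ⊔ I ^ (k + 2) := by
    intro k
    induction k with
    | zero => simpa using h
    | succ k ih =>
      have h1 : I ^ 2 ≤ J ⊔ I ^ (k + 1 + 2) := by
        calc I ^ 2 = I * I := sq I
          _ ≤ (J ⊔ I ^ (k + 2)) * I := Ideal.mul_mono_left ih
          _ = J * I ⊔ I ^ (k + 2) * I := Ideal.sup_mul _ _ _
          _ ≤ J ⊔ I ^ (k + 1 + 2) := by
            refine sup_le_sup Ideal.mul_le_left ?_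
            rw [← pow_succ]
      exact h.trans (sup_le le_sup_left h1)
  have h2 := key N
  have h3 : I ^ (N + 2) = ⊥ := by rw [pow_add, hN, Ideal.bot_mul]
  rwa [h3, sup_bot_eq] at h2

theorem fg_of_isNoetherianRing_quotient_pow {A : Type*} [CommRing A] (I : Ideal A) (m N : ℕ)
    (hm : 2 ≤ m) (hN : I ^ N = ⊥) [IsNoetherianRing (A ⧸ I ^ m)] : I.FG := by
  have h1 : (I.map (Ideal.Quotient.mk (I ^ m))).FG := IsNoetherian.noetherian _
  obtain ⟨s, hs⟩ := h1
  classical
  have hlift : ∀ y ∈ s, ∃ a ∈ I, Ideal.Quotient.mk (I ^ m) a = y := by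
    intro y hy
    have : y ∈ I.map (Ideal.Quotient.mk (I ^ m)) := by rw [← hs]; exact Ideal.subset_span hy
    rwa [Ideal.mem_map_iff_of_surjective _ Ideal.Quotient.mk_surjective] at this
  choose! lift hliftI hlift' using hlift
  have hJI : Ideal.span ((s.image lift : Finset A) : Set A) ≤ I := by
    rw [Ideal.span_le]
    intro x hx
    obtain ⟨y, hy, rfl⟩ := Finset.mem_image.mp (Finset.mem_coe.mp hx)
    exact hliftI y hy
  have hpow : I ^ m ≤ I ^ 2 := Ideal.pow_le_pow_right hm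
  refine ⟨s.image lift, le_antisymm hJI ?_⟩
  refine le_of_le_sup_sq I _ hJI ?_ N hN
  intro x hx
  have hx' : Ideal.Quotient.mk (I ^ m) x ∈ Ideal.span (s : Set (A ⧸ I ^ m)) := by
    rw [hs]; exact Ideal.mem_map_of_mem _ hx
  have key : ∀ y ∈ Ideal.span (s : Set (A ⧸ I ^ m)),
      ∃ a ∈ Ideal.span ((s.image lift : Finset A) : Set A),
        Ideal.Quotient.mk (I ^ m) a = y := by
    intro y hy
    induction hy using Submodule.span_induction with
    | mem y hy =>
      exact ⟨lift y, Ideal.subset_span (Finset.mem_coe.mpr (Finset.mem_image_of_mem _ hy)),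
        hlift' y hy⟩
    | zero => exact ⟨0, Ideal.zero_mem _, map_zero _⟩
    | add y z _ _ hy hz =>
      obtain ⟨a, ha, rfl⟩ := hy
      obtain ⟨b, hb, rfl⟩ := hz
      exact ⟨a + b, Ideal.add_mem _ ha hb, map_add _ _ _⟩
    | smul c y _ hy =>
      obtain ⟨a, ha, rfl⟩ := hy
      obtain ⟨c', rfl⟩ := Ideal.Quotient.mk_surjective c
      exact ⟨c' * a, Ideal.mul_mem_left _ _ ha, by rw [map_mul]; rfl⟩
  obtain ⟨a, ha, hax⟩ := key _ hx'
  have h4 : x - a ∈ I ^ m := by rw [← Ideal.Quotient.eq, hax]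
  have h5 : x = a + (x - a) := by ring
  rw [h5]
  exact Ideal.add_mem _ (Ideal.mem_sup_left ha) (Ideal.mem_sup_right (hpow h4))

/-- A ring `A` with a nilpotent ideal `I` such that `A ⧸ I ^ m` is Noetherian (`m ≥ 2`) is
Noetherian. -/
theorem isNoetherianRing_of_quotient_pow {A : Type*} [CommRing A] (I : Ideal A) (m N : ℕ)
    (hN : I ^ N = ⊥) [IsNoetherianRing (A ⧸ I ^ m)] (hfg : m = 1 → I.FG) (hm : 1 ≤ m) :
    IsNoetherianRing A := by
  have hfg' : I.FG := by
    rcases Nat.lt_or_ge m 2 with h | h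
    · exact hfg (by omega)
    · exact fg_of_isNoetherianRing_quotient_pow I m N h hN
  haveI : IsNoetherianRing (A ⧸ I) :=
    isNoetherianRing_of_surjective (A ⧸ I ^ m) (A ⧸ I)
      (Ideal.Quotient.factor (Ideal.pow_le_self (by omega)))
      (Ideal.Quotient.factor_surjective _)
  exact isNoetherianRing_of_nilpotent_fg I hfg' N hN

/-- EGA I 10.6.4-type statement: in an adic system of thickenings with locally Noetherian
level `0` and `ker (X_0 ⟶ X_1)` of finite type, every level is locally Noetherian. -/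
theorem isLocallyNoetherian_of_isAdic (𝔛 : FSch.Sys.{u}) (hF : 𝔛.IsFormal) (hA : 𝔛.IsAdic)
    [IsLocallyNoetherian (𝔛.X 0)] (hft : FSch.IdealFT (𝔛.ι 0).ker) (n : ℕ) :
    IsLocallyNoetherian (𝔛.X n) := by
  induction n with
  | zero => infer_instance
  | succ n ih =>
    haveI := ih
    haveI := (hF n).1
    haveI := isClosedImmersion_toX hF (n + 1)
    have hnil := ker_toX_pow_eq_bot hF hA (n + 1)
    refine ⟨fun ⟨U, hU⟩ => ?_⟩
    show IsNoetherianRing Γ(𝔛.X (n + 1), U)
    have hpow : ((𝔛.toX (n + 1)).ker.ideal ⟨U, hU⟩) ^ (n + 1 + 1) = ⊥ := by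
      have h1 := congrArg (fun J => Scheme.IdealSheafData.ideal J ⟨U, hU⟩) hnil
      simpa [Scheme.IdealSheafData.ideal_pow] using h1
    have hK : (𝔛.ι n).ker.ideal ⟨U, hU⟩ = ((𝔛.toX (n + 1)).ker.ideal ⟨U, hU⟩) ^ (n + 1) := by
      have h1 := congrArg (fun J => Scheme.IdealSheafData.ideal J ⟨U, hU⟩) (hA n)
      simpa [Scheme.IdealSheafData.ideal_pow] using h1
    have hI : (𝔛.ι n).ker.ideal ⟨U, hU⟩ = RingHom.ker ((𝔛.ι n).app U).hom :=
      Scheme.Hom.ker_apply _ _
    have hsurj := (𝔛.ι n).app_surjective U hU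
    haveI : IsNoetherianRing Γ(𝔛.X n, (𝔛.ι n) ⁻¹ᵁ U) :=
      IsLocallyNoetherian.component_noetherian ⟨_, hU.preimage (𝔛.ι n)⟩
    haveI : IsNoetherianRing
        (Γ(𝔛.X (n + 1), U) ⧸ ((𝔛.toX (n + 1)).ker.ideal ⟨U, hU⟩) ^ (n + 1)) := by
      rw [← hK, hI]
      exact isNoetherianRing_of_ringEquiv _
        (RingHom.quotientKerEquivOfSurjective hsurj).symm
    refine isNoetherianRing_of_quotient_pow _ (n + 1) (n + 1 + 1) hpow ?_ (by omega)
    intro hn
    have hn0 : n = 0 := by omega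
    subst hn0
    have h2 := hft ⟨U, hU⟩
    rw [hK] at h2
    simpa using h2

end Groth.Agent.Lib.R2H2.FormalSys3
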