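import Groth.Agent.Lib.Helper20FpqcFT
import Groth.Agent.Lib.Helper26FpqcMod
import Groth.Agent.Lib.Helper23FinType
import Groth.Agent.Lib.Helper23QCohLocal
import Groth.Agent.Lib.Helper23QCohAbelian
import Groth.Agent.Lib.Helper2PullbackSec
set_option backward.isDefEq.respectTransparency.types false

/-!
# `F ∩ f_* G` is coherent for `f` fpqc (helper2, round 2; S7502)

* `adj_fst_eq` : for `H = F ×_{f_* f^* F} f_* G`, the transpose `f^* H ⟶ G` of the second
  projection composed with `φ : G ⟶ f^* F` is `f^*` of the first projection.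
* `main` : S7502.
-/

set_option autoImplicit false
set_option linter.unusedSectionVars false
set_option linter.style.haveILetI false
universe u
open CategoryTheory CategoryTheory.Limits AlgebraicGeometry TopologicalSpace Opposite

noncomputable section

namespace Groth.Agent.Lib.R2H2.FpqcInter

section abstract

universe v₁ v₂ u₁ u₂

variable {C : Type u₁} [Category.{v₁} C] {D : Type u₂} [Category.{v₂} D]

/-- for an adjunction `L ⊣ R`, `F : C`, `φ : G ⟶ L F` and a commutative square
`p₁ ≫ unit = p₂ ≫ R φ`, the transpose of `p₂` composed with `φ` is `L p₁`. -/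
theorem transpose_comp_eq {L : C ⥤ D} {R : D ⥤ C} (adj : L ⊣ R) {F H : C} {G : D}
    (φ : G ⟶ L.obj F) (p₁ : H ⟶ F) (p₂ : H ⟶ R.obj G)
    (h : p₁ ≫ adj.unit.app F = p₂ ≫ R.map φ) :
    (adj.homEquiv H G).symm p₂ ≫ φ = L.map p₁ := by
  apply (adj.homEquiv H (L.obj F)).injective
  rw [Adjunction.homEquiv_naturality_right, Equiv.apply_symm_apply, ← h,
    Adjunction.homEquiv_unit]
  exact adj.unit.naturality p₁

end abstract

variable {X Y : Scheme.{u}}

/-- **S7502** -/
theorem main (f : Y ⟶ X) [QuasiCompact f] [QuasiSeparated f] [Flat f] [Surjective f]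
    [IsLocallyNoetherian X] [IsLocallyNoetherian Y] (F : X.Modules) (hF : Coh.IsQCoh F)
    (G : Y.Modules) (hG : Coh.IsCoh G) (φ : G ⟶ (Scheme.Modules.pullback f).obj F) [Mono φ] :
    Coh.IsCoh (Limits.pullback ((Scheme.Modules.pullbackPushforwardAdjunction f).unit.app F)
      ((Scheme.Modules.pushforward f).map φ)) := by
  let adj := Scheme.Modules.pullbackPushforwardAdjunction f
  haveI : F.IsQuasicoherent := hF
  haveI : G.IsQuasicoherent := hG.1
  haveI : SheafOfModules.IsFiniteType (R := Y.ringCatSheaf) G := hG.2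
  haveI q1 : ((Scheme.Modules.pullback f).obj F).IsQuasicoherent :=
    Groth.Agent.Lib.Helper2.PullbackSec.isQuasicoherent_pullback f F
  haveI q2 : ((Scheme.Modules.pushforward f).obj G).IsQuasicoherent :=
    Groth.Agent.Lib.Helper23.QCohLocal.isQuasicoherent_pushforward f G
  haveI q3 : ((Scheme.Modules.pushforward f).obj ((Scheme.Modules.pullback f).obj F)).IsQuasicoherent :=
    Groth.Agent.Lib.Helper23.QCohLocal.isQuasicoherent_pushforward f _
  set H := Limits.pullback (adj.unit.app F) ((Scheme.Modules.pushforward f).map φ) with hH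
  haveI q0 : ((𝟭 X.Modules).obj F).IsQuasicoherent := hF
  haveI q3' : ((Scheme.Modules.pullback f ⋙ Scheme.Modules.pushforward f).obj F).IsQuasicoherent := q3
  haveI qH : H.IsQuasicoherent :=
    Groth.Agent.Lib.Helper23.QCohLocal.isQuasicoherent_pullback _ _
  refine ⟨qH, ?_⟩
  apply Groth.Agent.Lib.Helper20.FpqcFT.isFiniteType_of_pullback f H
  -- the two projections
  let p₁ : H ⟶ F := pullback.fst _ _
  let p₂ : H ⟶ (Scheme.Modules.pushforward f).obj G := pullback.snd _ _
  haveI : Mono ((Scheme.Modules.pushforward f).map φ) := inferInstance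
  haveI : Mono p₁ := inferInstance
  haveI : Mono ((Scheme.Modules.pullback f).map p₁) :=
    Groth.Agent.Lib.Helper26.FpqcMod.mono_pullback_of_flat f p₁
  have hcomp : (adj.homEquiv H G).symm p₂ ≫ φ = (Scheme.Modules.pullback f).map p₁ :=
    transpose_comp_eq adj φ p₁ p₂ pullback.condition
  haveI : Mono ((adj.homEquiv H G).symm p₂) := by
    haveI : Mono ((adj.homEquiv H G).symm p₂ ≫ φ) := by rw [hcomp]; infer_instance
    exact mono_of_mono _ φ
  haveI q4 : ((Scheme.Modules.pullback f).obj H).IsQuasicoherent :=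
    Groth.Agent.Lib.Helper2.PullbackSec.isQuasicoherent_pullback f H
  exact Groth.Agent.Lib.Helper23.FinType.isFiniteType_of_mono ((adj.homEquiv H G).symm p₂)

end Groth.Agent.Lib.R2H2.FpqcInter
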