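import Groth.Agent.Lib.R2H2ProjOverPush
import Groth.Agent.Lib.R2H2PnFinite
import Groth.Agent.Lib.Helper23SecTw3
set_option backward.isDefEq.respectTransparency.types false

/-!
# A module with a global basis is free (helper2, round 2)

`nonempty_iso_of_basis`: if global sections `t k`, `k : Fin N`, of an `O_Y`-module `𝒩` restrict to a
basis of `Γ(𝒩, V)` over `Γ(Y, V)` for every affine open `V`, then `𝒩 ≅ O_Y^N`.
-/

set_option autoImplicit false
universe u

open CategoryTheory CategoryTheory.Limits AlgebraicGeometry TopologicalSpace Opposite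
open Groth.Agent.Lib.Helper23.SecTw Groth.Agent.Lib.Helper6 Groth.Agent.Lib.Helper23.GenLocus

namespace Groth.Agent.Lib.R2H2.FreeBasis

theorem nonempty_iso_of_basis {Y : Scheme.{u}} (𝒩 : Y.Modules) {N : ℕ} (t : Fin N → Γ(𝒩, ⊤))
    (hind : ∀ V : Y.Opens, IsAffineOpen V → ∀ c : Fin N → Γ(Y, V),
      ∑ k, c k • res 𝒩 (le_top : V ≤ ⊤) (t k) = 0 → ∀ k, c k = 0)
    (hspan : ∀ V : Y.Opens, IsAffineOpen V → ∀ s : Γ(𝒩, V), ∃ c : Fin N → Γ(Y, V),
      s = ∑ k, c k • res 𝒩 (le_top : V ≤ ⊤) (t k)) :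
    Nonempty ((∐ fun _ : Fin N => Coh.structureModule Y) ≅ 𝒩) := by
  let f : Fin N → Y.Modules := fun _ => Coh.structureModule Y
  let Φ : (⨁ f) ⟶ 𝒩 := biproduct.desc (fun k => secHom 𝒩 (t k))
  have hΦ : ∀ k, biproduct.ι f k ≫ Φ = secHom 𝒩 (t k) := fun k => biproduct.ι_desc _ _
  have happ : ∀ (V : Y.Opens) (k : Fin N) (c : Γ(Y, V)),
      (secHom 𝒩 (t k)).app V (toS V c) = c • res 𝒩 (le_top : V ≤ ⊤) (t k) := by
    intro V k c
    rw [app_toS, sv_secHom]
  have htot : ∀ (V : Y.Opens) (x : Γ((⨁ f : Y.Modules), V)),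
      x = ∑ k, (biproduct.ι f k).app V ((biproduct.π f k).app V x) := by
    intro V x
    have h1 : (∑ j : Fin N, biproduct.π f j ≫ biproduct.ι f j : (⨁ f : Y.Modules) ⟶ ⨁ f) = 𝟙 _ :=
      biproduct.total
    have h2 := congrArg (fun φ : (⨁ f : Y.Modules) ⟶ (⨁ f : Y.Modules) => φ.app V x) h1
    simp only [Groth.Agent.Lib.R2H2.PnFinite.sum_app, Scheme.Modules.Hom.comp_app,
      Scheme.Modules.Hom.id_app] at h2
    exact h2.symm
  have hΦι : ∀ (V : Y.Opens) (k : Fin N) (y : Γ(f k, V)),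
      Φ.app V ((biproduct.ι f k).app V y) = (secHom 𝒩 (t k)).app V y := by
    intro V k y
    have := congrArg (fun φ : f k ⟶ 𝒩 => φ.app V y) (hΦ k)
    exact this
  have hiso : IsIso Φ := by
    refine Groth.Agent.Lib.R2H2.ProjOverPush.isIso_of_bijective_on_affines Φ
      (fun V hV => ⟨?_, ?_⟩)
    · refine (injective_iff_map_eq_zero ((Φ.app V).hom)).mpr (fun x hx => ?_)
      have hx' : Φ.app V x = 0 := hx
      have h1 := htot V x
      have h2 : Φ.app V x = ∑ k, ofS V ((biproduct.π f k).app V x) •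
          res 𝒩 (le_top : V ≤ ⊤) (t k) := by
        conv_lhs => rw [h1]
        rw [map_sum]
        refine Finset.sum_congr rfl (fun k _ => ?_)
        rw [hΦι, ← happ V k (ofS V ((biproduct.π f k).app V x)), toS_ofS]
      rw [hx'] at h2
      have h3 := hind V hV _ h2.symm
      rw [h1]
      refine Finset.sum_eq_zero (fun k _ => ?_)
      have h4 : (biproduct.π f k).app V x = 0 := by
        have := h3 k
        rw [← toS_ofS V ((biproduct.π f k).app V x), this]
        rfl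
      rw [h4, map_zero]
    · intro s
      obtain ⟨c, hc⟩ := hspan V hV s
      refine ⟨∑ k, (biproduct.ι f k).app V (toS V (c k)), ?_⟩
      rw [map_sum, hc]
      refine Finset.sum_congr rfl (fun k _ => ?_)
      rw [hΦι, happ]
  exact ⟨(biproduct.isoCoproduct f).symm ≪≫ asIso Φ⟩

end Groth.Agent.Lib.R2H2.FreeBasis
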