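import Mathlib
import Groth.Agent.Lib.Helper21Dual8

/-!
# The abstract part of the Gaeta-resolution criterion (helper2, round 2)

In a `k`-linear category with objects `O`, `A`, `F` such that `End O = k`, `End A = k`, with
`W = Hom(O, F)` and `H = Hom(A, F)` finite dimensional and the composition map
`μ : Hom(A, O) ⊗ Hom(O, F) → Hom(A, F)` injective, we construct
`φ : A^{α₂} ⊞ O^{α₃} ⟶ F` which induces a surjection on `Hom(O, -)`, a bijection on `Hom(A, -)`.
-/

set_option autoImplicit false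
set_option linter.style.haveILetI false
universe v u w

namespace Groth.Agent.Lib.R2H2.GaetaAbs

open CategoryTheory CategoryTheory.Limits TensorProduct
open Groth.Agent.Lib.Helper21.LocFact Groth.Agent.Lib.Helper21.Dual

variable {k : Type w} [Field k] {C : Type u} [Category.{v} C] [Preadditive C] [Linear k C]
  [HasFiniteCoproducts C] [HasBinaryBiproducts C]

/-- the composition map -/
noncomputable abbrev mu (A O F : C) : (A ⟶ O) ⊗[k] (O ⟶ F) →ₗ[k] (A ⟶ F) :=
  TensorProduct.lift (Linear.comp A O F : (A ⟶ O) →ₗ[k] (O ⟶ F) →ₗ[k] (A ⟶ F))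

lemma mu_tmul (A O F : C) (ψ : A ⟶ O) (s : O ⟶ F) : mu (k := k) A O F (ψ ⊗ₜ s) = ψ ≫ s := rfl

/-- decomposition of a map into a finite coproduct of copies of `B` -/
lemma eq_sum_comp {B T : C} {r : ℕ} (g : T ⟶ ∐ fun _ : Fin r => B) :
    g = ∑ j, (g ≫ (ffSigma B (Fin r)).π j) ≫ Sigma.ι (fun _ : Fin r => B) j := by
  have h := (ffSigma B (Fin r)).sum
  calc g = g ≫ 𝟙 _ := (Category.comp_id g).symm
    _ = g ≫ ∑ j, (ffSigma B (Fin r)).π j ≫ (ffSigma B (Fin r)).ι j := by rw [h]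
    _ = ∑ j, (g ≫ (ffSigma B (Fin r)).π j) ≫ Sigma.ι (fun _ : Fin r => B) j := by
      rw [Preadditive.comp_sum]
      exact Finset.sum_congr rfl (fun j _ => (Category.assoc _ _ _).symm)

section Main

variable (O A F : C) {a₂ a₃ : ℕ}
  (U : Submodule k (A ⟶ F)) (hU : IsCompl U (LinearMap.range (mu (k := k) A O F)))
  (ub : Module.Basis (Fin a₂) k U) (wb : Module.Basis (Fin a₃) k (O ⟶ F))

/-- the source of the presentation -/
noncomputable abbrev MM (a₂ a₃ : ℕ) : C := (∐ fun _ : Fin a₂ => A) ⊞ (∐ fun _ : Fin a₃ => O)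

/-- the presentation map -/
noncomputable def phi : MM O A a₂ a₃ ⟶ F :=
  biprod.desc (Sigma.desc (fun j => (ub j : A ⟶ F))) (Sigma.desc (fun i => wb i))

include wb in
/-- every map `O ⟶ F` lifts -/
theorem lift_O (s : O ⟶ F) : ∃ g : O ⟶ MM O A a₂ a₃, g ≫ phi O A F U ub wb = s := by
  refine ⟨∑ i, (wb.repr s i) • (Sigma.ι (fun _ : Fin a₃ => O) i ≫ biprod.inr), ?_⟩
  rw [Preadditive.sum_comp]
  have h : ∀ i, ((wb.repr s i) • (Sigma.ι (fun _ : Fin a₃ => O) i ≫ biprod.inr)) ≫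
      phi O A F U ub wb = (wb.repr s i) • wb i := by
    intro i
    rw [Linear.smul_comp, Category.assoc]
    unfold phi
    rw [biprod.inr_desc, Sigma.ι_desc]
  rw [Finset.sum_congr rfl (fun i _ => h i)]
  exact wb.sum_repr s

include wb in
/-- the image of `μ` lifts to the `O`-part -/
theorem lift_mu (x : (A ⟶ O) ⊗[k] (O ⟶ F)) :
    ∃ g : A ⟶ ∐ fun _ : Fin a₃ => O, g ≫ Sigma.desc (fun i => wb i) = mu (k := k) A O F x := by
  induction x using TensorProduct.induction_on with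
  | zero => exact ⟨0, by rw [zero_comp, map_zero]⟩
  | tmul ψ s =>
    refine ⟨∑ i, (wb.repr s i) • (ψ ≫ Sigma.ι (fun _ : Fin a₃ => O) i), ?_⟩
    rw [Preadditive.sum_comp, mu_tmul]
    have h : ∀ i, ((wb.repr s i) • (ψ ≫ Sigma.ι (fun _ : Fin a₃ => O) i)) ≫
        Sigma.desc (fun i => wb i) = ψ ≫ ((wb.repr s i) • wb i) := by
      intro i
      rw [Linear.smul_comp, Category.assoc, Sigma.ι_desc, Linear.comp_smul]
    rw [Finset.sum_congr rfl (fun i _ => h i), ← Preadditive.comp_sum, wb.sum_repr s]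
  | add x y hx hy =>
    obtain ⟨g₁, h₁⟩ := hx
    obtain ⟨g₂, h₂⟩ := hy
    exact ⟨g₁ + g₂, by rw [Preadditive.add_comp, h₁, h₂, map_add]⟩

include hU wb in
/-- every map `A ⟶ F` lifts -/
theorem lift_A (h : A ⟶ F) : ∃ g : A ⟶ MM O A a₂ a₃, g ≫ phi O A F U ub wb = h := by
  have hmem : h ∈ U ⊔ LinearMap.range (mu (k := k) A O F) := by
    rw [hU.sup_eq_top]
    trivial
  obtain ⟨u', hu', r', ⟨x, hx⟩, hsum⟩ := Submodule.mem_sup.1 hmem
  obtain ⟨g₂, hg₂⟩ := lift_mu O A F wb x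
  let g₁ : A ⟶ ∐ fun _ : Fin a₂ => A :=
    ∑ j, (ub.repr ⟨u', hu'⟩ j) • Sigma.ι (fun _ : Fin a₂ => A) j
  have hg₁ : g₁ ≫ Sigma.desc (fun j => (ub j : A ⟶ F)) = u' := by
    simp only [g₁]
    rw [Preadditive.sum_comp]
    have h1 : ∀ j, ((ub.repr ⟨u', hu'⟩ j) • Sigma.ι (fun _ : Fin a₂ => A) j) ≫
        Sigma.desc (fun j => (ub j : A ⟶ F)) = (ub.repr ⟨u', hu'⟩ j) • (ub j : A ⟶ F) := by
      intro j
      rw [Linear.smul_comp, Sigma.ι_desc]
    rw [Finset.sum_congr rfl (fun j _ => h1 j)]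
    have h2 := congrArg (Subtype.val) (ub.sum_repr ⟨u', hu'⟩)
    rw [Submodule.coe_sum] at h2
    simpa only [Submodule.coe_smul] using h2
  refine ⟨g₁ ≫ biprod.inl + g₂ ≫ biprod.inr, ?_⟩
  unfold phi
  rw [Preadditive.add_comp, Category.assoc, Category.assoc, biprod.inl_desc, biprod.inr_desc,
    hg₁, hg₂, hx, hsum]

include hU in
/-- injectivity on `Hom(A, -)` -/
theorem eq_zero_of_comp_phi (hinj : Function.Injective (mu (k := k) A O F))
    (hend : ∀ f : A ⟶ A, ∃ c : k, f = c • 𝟙 A)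
    (g : A ⟶ MM O A a₂ a₃) (hg : g ≫ phi O A F U ub wb = 0) : g = 0 := by
  let g₁ : A ⟶ ∐ fun _ : Fin a₂ => A := g ≫ biprod.fst
  let g₂ : A ⟶ ∐ fun _ : Fin a₃ => O := g ≫ biprod.snd
  have hdec : g = g₁ ≫ biprod.inl + g₂ ≫ biprod.inr := by
    simp only [g₁, g₂]
    rw [Category.assoc, Category.assoc, ← Preadditive.comp_add, biprod.total, Category.comp_id]
  choose c hc using fun j => hend (g₁ ≫ (ffSigma A (Fin a₂)).π j)
  let v : Fin a₃ → (A ⟶ O) := fun i => g₂ ≫ (ffSigma O (Fin a₃)).π i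
  -- the two parts
  have h1 : g₁ ≫ Sigma.desc (fun j => (ub j : A ⟶ F)) = ((∑ j, c j • ub j : U) : A ⟶ F) := by
    rw [eq_sum_comp g₁, Preadditive.sum_comp]
    have h : ∀ j, ((g₁ ≫ (ffSigma A (Fin a₂)).π j) ≫ Sigma.ι (fun _ : Fin a₂ => A) j) ≫
        Sigma.desc (fun j => (ub j : A ⟶ F)) = c j • (ub j : A ⟶ F) := by
      intro j
      rw [Category.assoc, Sigma.ι_desc, hc j, Linear.smul_comp, Category.id_comp]
    rw [Finset.sum_congr rfl (fun j _ => h j)]
    simp only [Submodule.coe_sum, Submodule.coe_smul]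
  have h2 : g₂ ≫ Sigma.desc (fun i => wb i) = mu (k := k) A O F (∑ i, v i ⊗ₜ[k] wb i) := by
    rw [eq_sum_comp g₂, Preadditive.sum_comp, map_sum]
    refine Finset.sum_congr rfl (fun i _ => ?_)
    rw [Category.assoc, Sigma.ι_desc, mu_tmul]
  have hsum : ((∑ j, c j • ub j : U) : A ⟶ F) +
      mu (k := k) A O F (∑ i, v i ⊗ₜ[k] wb i) = 0 := by
    rw [← h1, ← h2, ← hg]
    unfold phi
    rw [biprod.desc_eq, Preadditive.comp_add, ← Category.assoc, ← Category.assoc]
  have hdisj := hU.disjoint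
  rw [Submodule.disjoint_def] at hdisj
  have hmemU : mu (k := k) A O F (∑ i, v i ⊗ₜ[k] wb i) ∈ U := by
    have h3 : mu (k := k) A O F (∑ i, v i ⊗ₜ[k] wb i) = -((∑ j, c j • ub j : U) : A ⟶ F) :=
      eq_neg_of_add_eq_zero_right hsum
    rw [h3]
    exact U.neg_mem (∑ j, c j • ub j : U).2
  have hmu0 : mu (k := k) A O F (∑ i, v i ⊗ₜ[k] wb i) = 0 :=
    hdisj _ hmemU ⟨_, rfl⟩
  have hU0 : (∑ j, c j • ub j : U) = 0 := by
    apply Subtype.ext
    rw [hmu0, add_zero] at hsum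
    exact hsum
  have hc0 : ∀ j, c j = 0 := fun j =>
    Fintype.linearIndependent_iff.1 ub.linearIndependent c hU0 j
  have hy0 : (∑ i, v i ⊗ₜ[k] wb i : (A ⟶ O) ⊗[k] (O ⟶ F)) = 0 :=
    hinj (hmu0.trans (map_zero _).symm)
  have hv0 : ∀ i, v i = 0 := by
    intro i
    let pr : (A ⟶ O) ⊗[k] (O ⟶ F) →ₗ[k] (A ⟶ O) :=
      (TensorProduct.rid k (A ⟶ O)).toLinearMap ∘ₗ LinearMap.lTensor (A ⟶ O) (wb.coord i)
    have h4 := congrArg pr hy0
    rw [map_sum, map_zero] at h4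
    have h5 : ∀ i', pr (v i' ⊗ₜ[k] wb i') = if i' = i then v i' else 0 := by
      intro i'
      change (TensorProduct.rid k (A ⟶ O)) (LinearMap.lTensor (A ⟶ O) (wb.coord i)
        (v i' ⊗ₜ[k] wb i')) = _
      rw [LinearMap.lTensor_tmul, TensorProduct.rid_tmul, Module.Basis.coord_apply,
        Module.Basis.repr_self, Finsupp.single_apply]
      split_ifs with h
      · rw [one_smul]
      · rw [zero_smul]
    rw [Finset.sum_congr rfl (fun i' _ => h5 i'), Finset.sum_ite_eq' Finset.univ i] at h4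
    simpa using h4
  have hg₁ : g₁ = 0 := by
    rw [eq_sum_comp g₁]
    refine Finset.sum_eq_zero (fun j _ => ?_)
    rw [hc j, hc0 j, zero_smul, zero_comp]
  have hg₂ : g₂ = 0 := by
    rw [eq_sum_comp g₂]
    refine Finset.sum_eq_zero (fun i _ => ?_)
    have := hv0 i
    simp only [v] at this
    rw [this, zero_comp]
  rw [hdec, hg₁, hg₂, zero_comp, zero_comp, add_zero]

end Main

section Necessary

variable (O A : C)

/-- naturality of `μ` in the target -/
theorem mu_naturality {F F' : C} (f : F ⟶ F') (x : (A ⟶ O) ⊗[k] (O ⟶ F)) :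
    mu (k := k) A O F' (LinearMap.lTensor (A ⟶ O) (Linear.rightComp k O f) x) =
      mu (k := k) A O F x ≫ f := by
  induction x using TensorProduct.induction_on with
  | zero => rw [map_zero, map_zero, map_zero, zero_comp]
  | tmul ψ s =>
    rw [LinearMap.lTensor_tmul, mu_tmul, mu_tmul, Category.assoc]
    rfl
  | add x y hx hy => rw [map_add, map_add, hx, hy, map_add, Preadditive.add_comp]

/-- injectivity of `μ` descends along a map `g : X₂ ⟶ X₃` which is surjective on `Hom(O, -)` and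
injective on `Hom(A, -)` -/
theorem mu_injective_of_map {X₂ X₃ : C} (g : X₂ ⟶ X₃)
    (hO : ∀ s : O ⟶ X₃, ∃ t : O ⟶ X₂, t ≫ g = s)
    (hA : ∀ h : A ⟶ X₂, h ≫ g = 0 → h = 0)
    (hinj : Function.Injective (mu (k := k) A O X₂)) :
    Function.Injective (mu (k := k) A O X₃) := by
  rw [injective_iff_map_eq_zero]
  intro x hx
  have hsurj : Function.Surjective (Linear.rightComp k O g : (O ⟶ X₂) →ₗ[k] (O ⟶ X₃)) :=
    fun s => hO s
  obtain ⟨y, rfl⟩ := LinearMap.lTensor_surjective (A ⟶ O) hsurj x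
  rw [mu_naturality] at hx
  have hy : mu (k := k) A O X₂ y = 0 := hA _ hx
  have hy0 : y = 0 := hinj (hy.trans (map_zero _).symm)
  rw [hy0, map_zero]

/-- `μ` is injective for `A^{a₂} ⊞ O^{a₃}` when `Hom(O, A) = 0` and `End O = k` -/
theorem mu_injective_MM (a₂ a₃ : ℕ) (hOA : ∀ f : O ⟶ A, f = 0)
    (hend : ∀ f : O ⟶ O, ∃ c : k, f = c • 𝟙 O) :
    Function.Injective (mu (k := k) A O (MM O A a₂ a₃)) := by
  let ι' : Fin a₃ → (O ⟶ MM O A a₂ a₃) := fun i =>
    Sigma.ι (fun _ : Fin a₃ => O) i ≫ biprod.inr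
  let π' : Fin a₃ → (MM O A a₂ a₃ ⟶ O) := fun i => biprod.snd ≫ (ffSigma O (Fin a₃)).π i
  have hιπ : ∀ i j, ι' i ≫ π' j = if i = j then 𝟙 O else 0 := by
    intro i j
    simp only [ι', π']
    rw [Category.assoc, biprod.inr_snd_assoc]
    by_cases h : i = j
    · subst h
      rw [if_pos rfl]
      exact (ffSigma O (Fin a₃)).ι_π_self i
    · rw [if_neg h]
      exact (ffSigma O (Fin a₃)).ι_π_ne i j h
  -- every map `O ⟶ MM` is a combination of the `ι'`
  have hspan : ∀ s : O ⟶ MM O A a₂ a₃, ∃ c : Fin a₃ → k, s = ∑ i, c i • ι' i := by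
    intro s
    choose c hc using fun i => hend (s ≫ π' i)
    refine ⟨c, ?_⟩
    have h1 : s ≫ biprod.fst = 0 := by
      rw [eq_sum_comp (s ≫ biprod.fst)]
      refine Finset.sum_eq_zero (fun j _ => ?_)
      rw [hOA ((s ≫ biprod.fst) ≫ (ffSigma A (Fin a₂)).π j), zero_comp]
    have h2 : s = (s ≫ biprod.fst) ≫ biprod.inl + (s ≫ biprod.snd) ≫ biprod.inr := by
      rw [Category.assoc, Category.assoc, ← Preadditive.comp_add, biprod.total, Category.comp_id]
    rw [h1, zero_comp, zero_add] at h2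
    rw [h2, eq_sum_comp (s ≫ biprod.snd), Preadditive.sum_comp]
    refine Finset.sum_congr rfl (fun i _ => ?_)
    have h3 : (s ≫ biprod.snd) ≫ (ffSigma O (Fin a₃)).π i = s ≫ π' i := Category.assoc _ _ _
    rw [h3, hc i, Linear.smul_comp, Category.id_comp, Linear.smul_comp]
  -- every tensor is a combination `∑ v_i ⊗ ι'_i`
  have hten : ∀ x : (A ⟶ O) ⊗[k] (O ⟶ MM O A a₂ a₃),
      ∃ v : Fin a₃ → (A ⟶ O), x = ∑ i, v i ⊗ₜ[k] ι' i := by
    intro x
    induction x using TensorProduct.induction_on with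
    | zero => exact ⟨fun _ => 0, by simp⟩
    | tmul ψ s =>
      obtain ⟨c, hc⟩ := hspan s
      refine ⟨fun i => c i • ψ, ?_⟩
      rw [hc, TensorProduct.tmul_sum]
      refine Finset.sum_congr rfl (fun i _ => ?_)
      rw [TensorProduct.tmul_smul, TensorProduct.smul_tmul']
    | add x y hx hy =>
      obtain ⟨v₁, h₁⟩ := hx
      obtain ⟨v₂, h₂⟩ := hy
      refine ⟨fun i => v₁ i + v₂ i, ?_⟩
      rw [h₁, h₂, ← Finset.sum_add_distrib]
      exact Finset.sum_congr rfl (fun i _ => (TensorProduct.add_tmul _ _ _).symm)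
  rw [injective_iff_map_eq_zero]
  intro x hx
  obtain ⟨v, rfl⟩ := hten x
  rw [map_sum] at hx
  have hv : ∀ i, v i = 0 := by
    intro i
    have h1 := congrArg (· ≫ π' i) hx
    simp only [zero_comp, Preadditive.sum_comp] at h1
    have h2 : ∀ i', mu (k := k) A O (MM O A a₂ a₃) (v i' ⊗ₜ[k] ι' i') ≫ π' i =
        if i' = i then v i' else 0 := by
      intro i'
      rw [mu_tmul, Category.assoc, hιπ]
      split_ifs with h
      · rw [Category.comp_id]
      · rw [comp_zero]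
    rw [Finset.sum_congr rfl (fun i' _ => h2 i'), Finset.sum_ite_eq' Finset.univ i] at h1
    simpa using h1
  refine Finset.sum_eq_zero (fun i _ => ?_)
  rw [hv i, TensorProduct.zero_tmul]

end Necessary

end Groth.Agent.Lib.R2H2.GaetaAbs
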