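import Groth.Agent.Lib.R2H2SubSec2
import Groth.Agent.Lib.Helper20EffCartier
set_option backward.isDefEq.respectTransparency.types false

/-!
# `I · f_* F = f_* ((f⁻¹ I) O_Y · F)` for affine `f` (helper2, round 2; S9523)
-/

set_option autoImplicit false
set_option linter.unusedSectionVars false
set_option linter.style.haveILetI false
universe u
open CategoryTheory CategoryTheory.Limits AlgebraicGeometry TopologicalSpace Opposite

noncomputable section

namespace Groth.Agent.Lib.R2H2.PushIdealMul

open Groth.Agent.Lib.R2H2.DevA Groth.Agent.Lib.R2H2.DevF Groth.Agent.Lib.R2H2.IdealMulSec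
  Groth.Agent.Lib.R2H2.SubSec

theorem main {Y X : Scheme.{u}} (f : Y ⟶ X) [IsAffineHom f]
    (F : Y.Modules) (hF : Coh.IsQCoh F) (I : X.IdealSheafData) :
    ∃ e : (Dual3.idealMul I).obj ((Scheme.Modules.pushforward f).obj F) ≅
        (Scheme.Modules.pushforward f).obj ((Dual3.idealMul (I.comap f)).obj F),
      e.hom ≫ (Scheme.Modules.pushforward f).map (Dual3.idealMulι (I.comap f) F) =
        Dual3.idealMulι I ((Scheme.Modules.pushforward f).obj F) := by
  haveI : F.IsQuasicoherent := hF
  let P := Scheme.Modules.pushforward f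
  haveI hM : (P.obj F).IsQuasicoherent :=
    Groth.Agent.Lib.Helper23.QCohLocal.isQuasicoherent_pushforward f F
  haveI hA : ((Dual3.idealMul I).obj (P.obj F)).IsQuasicoherent := isQuasicoherent_idealMul I _
  haveI hB0 : ((Dual3.idealMul (I.comap f)).obj F).IsQuasicoherent :=
    isQuasicoherent_idealMul _ F
  haveI hB : (P.obj ((Dual3.idealMul (I.comap f)).obj F)).IsQuasicoherent :=
    Groth.Agent.Lib.Helper23.QCohLocal.isQuasicoherent_pushforward f _
  let α := Dual3.idealMulι I (P.obj F)
  let β := P.map (Dual3.idealMulι (I.comap f) F)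
  haveI : PreservesLimitsOfSize.{0, 0} P :=
    (Scheme.Modules.pullbackPushforwardAdjunction f).rightAdjoint_preservesLimits
  haveI : P.PreservesMonomorphisms := inferInstance
  haveI hβ : Mono β := P.map_mono _
  have hrange : ∀ V ∈ affCover X, rangeApp α V = rangeApp β V := by
    intro V hV
    have hU : IsAffineOpen (f ⁻¹ᵁ V) := hV.preimage f
    have hidl : (I.comap f).ideal ⟨f ⁻¹ᵁ V, hU⟩ = (I.ideal ⟨V, hV⟩).map (f.app V).hom := by
      rw [Groth.Agent.Lib.Helper20.EffCartier.ideal_comap_eq_map f I hU hV le_rfl]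
      congr 2
      exact (Scheme.Hom.app_eq_appLE f).symm
    rw [rangeApp_idealMulι I (P.obj F) hV]
    ext m
    constructor
    · intro hm
      refine Submodule.smul_induction_on hm ?_ ?_
      · intro r hr n _
        have h1 : ((f.app V).hom r • (show Γ(F, f ⁻¹ᵁ V) from n) : Γ(F, f ⁻¹ᵁ V)) ∈
            rangeApp (Dual3.idealMulι (I.comap f) F) (f ⁻¹ᵁ V) := by
          rw [rangeApp_idealMulι (I.comap f) F hU, hidl]
          exact Submodule.smul_mem_smul (Ideal.mem_map_of_mem _ hr) trivial
        obtain ⟨t, ht⟩ := h1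
        exact ⟨t, ht⟩
      · intro x y hx hy
        exact Submodule.add_mem _ hx hy
    · rintro ⟨t, rfl⟩
      have h1 : Scheme.Modules.Hom.app (Dual3.idealMulι (I.comap f) F) (f ⁻¹ᵁ V) t ∈
          (I.ideal ⟨V, hV⟩).map (f.app V).hom • (⊤ : Submodule Γ(Y, f ⁻¹ᵁ V) Γ(F, f ⁻¹ᵁ V)) := by
        rw [← hidl]
        exact idealMulι_app_mem (I.comap f) F hU t
      have key : ∀ s ∈ (I.ideal ⟨V, hV⟩).map (f.app V).hom, ∀ n : Γ(F, f ⁻¹ᵁ V),
          (show Γ(P.obj F, V) from s • n) ∈
            I.ideal ⟨V, hV⟩ • (⊤ : Submodule Γ(X, V) Γ(P.obj F, V)) := by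
        intro s hs
        refine Submodule.span_induction ?_ ?_ ?_ ?_ hs
        · rintro _ ⟨r, hr, rfl⟩ n
          exact Submodule.smul_mem_smul hr (Submodule.mem_top (x := (show Γ(P.obj F, V) from n)))
        · intro n
          rw [zero_smul]
          exact Submodule.zero_mem _
        · intro a b _ _ ha hb n
          rw [add_smul]
          exact Submodule.add_mem _ (ha n) (hb n)
        · intro a b _ hb n
          rw [smul_eq_mul, mul_comm, mul_smul]
          exact hb (a • n)
      refine Submodule.smul_induction_on h1 ?_ ?_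
      · intro s hs n _
        exact key s hs n
      · intro x y hx hy
        exact Submodule.add_mem _ hx hy
  obtain ⟨l, hl⟩ := exists_factor_of_rangeApp_le α β (affCover X) affCover_aff affCover_cov
    (fun V hV => (hrange V hV).le)
  obtain ⟨l', hl'⟩ := exists_factor_of_rangeApp_le β α (affCover X) affCover_aff affCover_cov
    (fun V hV => (hrange V hV).ge)
  refine ⟨⟨l, l', ?_, ?_⟩, hl⟩
  · rw [← cancel_mono α, Category.assoc, hl', hl, Category.id_comp]
  · rw [← cancel_mono β, Category.assoc, hl, hl', Category.id_comp]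

end Groth.Agent.Lib.R2H2.PushIdealMul
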