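import Groth.Agent.Lib.R2H2DevL
import Groth.Agent.Lib.R2H2PushIdealMul
import Groth.Agent.Lib.R2H2DevI
import Groth.Agent.Lib.H9ZarLift
set_option backward.isDefEq.respectTransparency.types false

/-!
# A coherent module looks like `i_*(I^⊕r)` near the generic point of an integral closed subscheme
(helper2, round 2; S9521)

* `sigmaFinIsoPow`, `powIso`, `pushSigma` : comparing `∐_{Fin r} A`, `pow A r` and direct images.
* `main`.
-/

set_option autoImplicit false
set_option linter.unusedSectionVars false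
set_option linter.style.haveILetI false
universe u
open CategoryTheory CategoryTheory.Limits AlgebraicGeometry TopologicalSpace Opposite

noncomputable section

namespace Groth.Agent.Lib.R2H2.GenMono

open Groth.Agent.Lib.R2H2.DevA Groth.Agent.Lib.R2H2.DevF Groth.Agent.Lib.R2H2.DevK
  Groth.Agent.Lib.R2H2.NilFilt Groth.Agent.Lib.R2H2.IdealMulSec Groth.Agent.Lib.R2H2.StalkPow

variable {X : Scheme.{u}}

theorem isZero_sigma_fin_zero (A : X.Modules) : IsZero (∐ fun _ : Fin 0 => A) := by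
  rw [IsZero.iff_id_eq_zero]
  apply Sigma.hom_ext
  intro j
  exact j.elim0

/-- `∐_{Fin (r+1)} A ≅ A ⊞ ∐_{Fin r} A` -/
def sigmaSucc (A : X.Modules) (r : ℕ) :
    (∐ fun _ : Fin (r + 1) => A) ≅ A ⊞ (∐ fun _ : Fin r => A) where
  hom := Sigma.desc (Fin.cases biprod.inl (fun j => Sigma.ι (fun _ : Fin r => A) j ≫ biprod.inr))
  inv := biprod.desc (Sigma.ι (fun _ : Fin (r + 1) => A) 0)
    (Sigma.desc fun j => Sigma.ι (fun _ : Fin (r + 1) => A) j.succ)
  hom_inv_id := by
    apply Sigma.hom_ext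
    intro j
    refine Fin.cases ?_ ?_ j
    · simp
    · intro j
      simp
  inv_hom_id := by
    apply biprod.hom_ext'
    · simp
    · apply Sigma.hom_ext
      intro j
      simp

/-- `∐_{Fin r} A ≅ pow A r` -/
def sigmaFinIsoPow (A : X.Modules) : ∀ r : ℕ, (∐ fun _ : Fin r => A) ≅ pow A r
  | 0 => (isZero_sigma_fin_zero A).iso (isZero_pow_zero A)
  | r + 1 => sigmaSucc A r ≪≫ biprod.mapIso (Iso.refl A) (sigmaFinIsoPow A r) ≪≫
      eqToIso (StalkPow.pow_succ A r).symm

/-- `pow` is functorial for isomorphisms -/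
def powIso {A B : X.Modules} (e : A ≅ B) : ∀ r : ℕ, pow A r ≅ pow B r
  | 0 => (isZero_pow_zero A).iso (isZero_pow_zero B)
  | r + 1 => eqToIso (StalkPow.pow_succ A r) ≪≫ biprod.mapIso e (powIso e r) ≪≫
      eqToIso (StalkPow.pow_succ B r).symm

/-- direct images commute with finite coproducts -/
def pushSigma {Z : Scheme.{u}} (i : Z ⟶ X) (A : Z.Modules) (r : ℕ) :
    (Scheme.Modules.pushforward i).obj (∐ fun _ : Fin r => A) ≅
      ∐ fun _ : Fin r => (Scheme.Modules.pushforward i).obj A := by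
  haveI : PreservesBiproductsOfShape (Fin r) (Scheme.Modules.pushforward i) := inferInstance
  haveI : PreservesColimitsOfShape (Discrete (Fin r)) (Scheme.Modules.pushforward i) :=
    preservesCoproductsOfShape_of_preservesBiproductsOfShape _
  exact PreservesCoproduct.iso (Scheme.Modules.pushforward i) (fun _ : Fin r => A)

theorem isNoetherian_of_isClosedImmersion {Z : Scheme.{u}} [IsNoetherian X] (i : Z ⟶ X)
    [IsClosedImmersion i] : IsNoetherian Z := by
  haveI : IsLocallyNoetherian Z := LocallyOfFiniteType.isLocallyNoetherian i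
  haveI : CompactSpace Z := QuasiCompact.compactSpace_of_compactSpace i
  exact {}

/-- **S9521** -/
theorem main {X Z : Scheme.{u}} [IsNoetherian X] (i : Z ⟶ X) [IsClosedImmersion i]
    [IsIntegral Z] (F : X.Modules) (hF : Coh.IsCoh F)
    (hann : ∀ a ∈ IsLocalRing.maximalIdeal (X.presheaf.stalk (i (genericPoint Z))),
      ∀ m : ↑(F.presheaf.stalk (i (genericPoint Z))), a • m = 0) :
    ∃ (r : ℕ) (I : Z.Modules) (ι : I ⟶ Coh.structureModule Z)
      (φ : (Coh.push i).obj (∐ fun _ : Fin r => I) ⟶ F),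
      Mono ι ∧ Coh.IsCoh I ∧ Mono φ ∧
      ∃ U : X.Opens, i (genericPoint Z) ∈ U ∧
        IsIso ((Scheme.Modules.restrictFunctor U.ι).map φ) := by
  classical
  haveI hZN : IsNoetherian Z := isNoetherian_of_isClosedImmersion i
  let G₀ : X.Modules := (Scheme.Modules.pushforward i).obj (Coh.structureModule Z)
  have cG : Coh.IsCoh G₀ := Groth.Agent.Lib.R2H2.DevE.isCoh_pushO i
  obtain ⟨eN⟩ := Groth.Agent.Lib.R2H2.DevI.nonempty_stalk_pushO_equiv' i
  haveI := finite_stalk F hF (i (genericPoint Z))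
  obtain ⟨r, ⟨e⟩⟩ := Groth.Agent.Lib.R2H2.ResField.exists_equiv_pow_one
    (F.presheaf.stalk (i (genericPoint Z))) (G₀.presheaf.stalk (i (genericPoint Z))) hann eN
  obtain ⟨D, hξD, ⟨iso⟩⟩ := exists_local_iso F G₀ hF cG (i (genericPoint Z)) r 1
    ((LinearEquiv.funUnique (Fin 1) _ _).trans e)
  have cFs := isCoh_pow F hF 1
  have cGr := isCoh_pow G₀ cG r
  obtain ⟨T, a, b, cT, ha, hb, hia, hib⟩ :=
    Groth.Agent.Lib.R2H2.DevG.exists_mono_graph _ _ cFs cGr D iso
  haveI := ha
  haveI := hb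
  haveI := hia
  haveI := hib
  have cC : Coh.IsCoh (cokernel b) := isCoh_cokernel cT cGr b
  haveI : (cokernel b).IsQuasicoherent := cC.1
  let JD : X.IdealSheafData :=
    Scheme.IdealSheafData.vanishingIdeal ⟨(D : Set X)ᶜ, D.2.isClosed_compl⟩
  have hJs : (JD.support : Set X) = (D : Set X)ᶜ :=
    Scheme.IdealSheafData.coe_support_vanishingIdeal _
  haveI : PreservesColimitsOfSize.{0, 0} (Scheme.Modules.restrictFunctor D.ι) :=
    (Scheme.Modules.restrictAdjunction D.ι).leftAdjoint_preservesColimits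
  have hC0 : IsZero ((Scheme.Modules.restrictFunctor D.ι).obj (cokernel b)) :=
    IsZero.of_iso (isZero_cokernel_of_epi _)
      (PreservesCokernel.iso (Scheme.Modules.restrictFunctor D.ι) b)
  obtain ⟨N, hN⟩ := exists_killed_pow (I := JD) (cokernel b) cC
    (fun W hW => Groth.Agent.Lib.R2H2.DevG.subsingleton_sections_of_isZero_restrict D _ hC0 W
      (fun x hxW => by
        by_contra hxD
        exact Set.disjoint_left.1 hW hxW (hJs ▸ hxD)))
  have hdisj : Disjoint (D : Set X) ((JD ^ N).support : Set X) := by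
    rw [Set.disjoint_left]
    intro x hxD hx
    have h2 := Groth.Agent.Lib.R2H2.DevG.support_pow_le JD N hx
    rw [hJs] at h2
    exact h2 hxD
  haveI : G₀.IsQuasicoherent := cG.1
  -- the submodule `J^N G₀` and its powers
  let φ₁ : (Dual3.idealMul (JD ^ N)).obj G₀ ⟶ G₀ := Dual3.idealMulι (JD ^ N) G₀
  haveI : Mono φ₁ := inferInstanceAs (Mono (Dual3.idealMulι (JD ^ N) G₀))
  haveI hiφ : IsIso ((Scheme.Modules.restrictFunctor D.ι).map φ₁) :=
    isIso_restrict_idealMulι (JD ^ N) G₀ D hdisj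
  have hzero : powMap φ₁ r ≫ cokernel.π b = 0 :=
    powMap_comp_eq_zero φ₁ (fun u => idealMulι_comp_eq_zero (JD ^ N) hN u) r (cokernel.π b)
  let ℓ : pow ((Dual3.idealMul (JD ^ N)).obj G₀) r ⟶ T := Abelian.monoLift b (powMap φ₁ r) hzero
  have hℓ : ℓ ≫ b = powMap φ₁ r := Abelian.monoLift_comp _ _ _
  haveI : Mono (ℓ ≫ b) := by rw [hℓ]; infer_instance
  haveI : Mono ℓ := mono_of_mono ℓ b
  haveI i4 : IsIso ((Scheme.Modules.restrictFunctor D.ι).map (powMap φ₁ r)) :=
    isIso_restrict_powMap D φ₁ r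
  haveI i5 : IsIso ((Scheme.Modules.restrictFunctor D.ι).map ℓ) := by
    have h5 : IsIso ((Scheme.Modules.restrictFunctor D.ι).map ℓ ≫
        (Scheme.Modules.restrictFunctor D.ι).map b) := by
      rw [← Functor.map_comp, hℓ]; exact i4
    exact IsIso.of_isIso_comp_right _ ((Scheme.Modules.restrictFunctor D.ι).map b)
  -- the ideal of `Z`
  let I' : Z.Modules := (Dual3.idealMul ((JD ^ N).comap i)).obj (Coh.structureModule Z)
  have cI' : Coh.IsCoh I' :=
    isCoh_idealMul _ _ (Groth.Agent.Lib.H9ZarLift.isCoh_structureModule Z)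
  obtain ⟨e9, -⟩ := Groth.Agent.Lib.R2H2.PushIdealMul.main i (Coh.structureModule Z)
    (Groth.Agent.Lib.H9ZarLift.isCoh_structureModule Z).1 (JD ^ N)
  let β : (Scheme.Modules.pushforward i).obj (∐ fun _ : Fin r => I') ≅
      pow ((Dual3.idealMul (JD ^ N)).obj G₀) r :=
    pushSigma i I' r ≪≫ sigmaFinIsoPow _ r ≪≫ powIso e9.symm r
  refine ⟨r, I', Dual3.idealMulι _ _, β.hom ≫ ℓ ≫ a ≫ (powOneIso F).hom, inferInstance, cI',
    ?_, D, hξD, ?_⟩
  · infer_instance
  · rw [Functor.map_comp, Functor.map_comp, Functor.map_comp]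
    infer_instance

end Groth.Agent.Lib.R2H2.GenMono
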