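import Groth.Agent.Lib.R2H2GrSecSurj
import Groth.Agent.Lib.Helper2GrModComapIso

/-!
# Bijectivity of `M_n → Γ(Proj B, M(n)~)` for large `n`: general form (helper2, round 2)

`B` any graded ring which is a graded quotient of a polynomial ring `A₀[x_0..x_r]` over a
Noetherian ring `A₀` (standard grading), `M` a finitely generated graded `B`-module.
-/

set_option autoImplicit false
set_option linter.style.haveILetI false
universe u

namespace Groth.Agent.Lib.R2H2.GrSecGen

open CategoryTheory CategoryTheory.Limits AlgebraicGeometry TopologicalSpace Opposite MvPolynomial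
open scoped HomogeneousIdeal

section Regrade

variable {M τ : Type u} [AddCommGroup M] [SetLike τ M] [AddSubgroupClass τ M] (ℳ : ℕ → τ)
  [DirectSum.Decomposition ℳ]
variable {A0 : Type u} [CommRing A0] [Module A0 M] (ℳ' : ℕ → Submodule A0 M)
  (hcar : ∀ (i : ℕ) (m : M), m ∈ ℳ' i ↔ m ∈ ℳ i)

/-- the identity between the pieces of two gradings with the same underlying sets -/
def regradeEquiv (i : ℕ) : ℳ i ≃+ ℳ' i where
  toFun m := ⟨m.1, (hcar i m.1).2 m.2⟩
  invFun m := ⟨m.1, (hcar i m.1).1 m.2⟩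
  left_inv _ := rfl
  right_inv _ := rfl
  map_add' _ _ := rfl

omit [DirectSum.Decomposition ℳ] in
theorem coe_map_regrade (z : DirectSum ℕ fun i => ℳ i) :
    DirectSum.coeAddMonoidHom ℳ'
      (DirectSum.map (fun i => (regradeEquiv ℳ ℳ' hcar i).toAddMonoidHom) z) =
      DirectSum.coeAddMonoidHom ℳ z := by
  classical
  induction z using DirectSum.induction_on with
  | zero => simp
  | of i x =>
    rw [DirectSum.map_of, DirectSum.coeAddMonoidHom_of, DirectSum.coeAddMonoidHom_of]
    rfl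
  | add x y hx hy => rw [map_add, map_add, map_add, hx, hy]

/-- a grading by submodules with the same underlying sets as a decomposing grading decomposes -/
noncomputable def regradeDecomposition : DirectSum.Decomposition ℳ' where
  decompose' x := DirectSum.map (fun i => (regradeEquiv ℳ ℳ' hcar i).toAddMonoidHom)
    (DirectSum.decompose ℳ x)
  left_inv x := by
    rw [coe_map_regrade]
    exact DirectSum.Decomposition.left_inv x
  right_inv y := by
    classical
    induction y using DirectSum.induction_on with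
    | zero => simp
    | of i z =>
      rw [DirectSum.coeAddMonoidHom_of]
      show DirectSum.map (fun i => (regradeEquiv ℳ ℳ' hcar i).toAddMonoidHom)
        (DirectSum.decompose ℳ (z : M)) = _
      rw [DirectSum.decompose_of_mem ℳ ((hcar i z.1).1 z.2), DirectSum.map_of]
      rfl
    | add x y hx hy =>
      have hx' : DirectSum.map (fun i => (regradeEquiv ℳ ℳ' hcar i).toAddMonoidHom)
        (DirectSum.decompose ℳ (DirectSum.coeAddMonoidHom ℳ' x)) = x := hx
      have hy' : DirectSum.map (fun i => (regradeEquiv ℳ ℳ' hcar i).toAddMonoidHom)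
        (DirectSum.decompose ℳ (DirectSum.coeAddMonoidHom ℳ' y)) = y := hy
      show DirectSum.map (fun i => (regradeEquiv ℳ ℳ' hcar i).toAddMonoidHom)
        (DirectSum.decompose ℳ (DirectSum.coeAddMonoidHom ℳ' (x + y))) = _
      rw [map_add, DirectSum.decompose_add, map_add, hx', hy']

end Regrade

section Main

variable {A0 : Type u} [CommRing A0] [IsNoetherianRing A0] (r : ℕ)
variable {B σ' : Type u} [CommRing B] [SetLike σ' B] [AddSubgroupClass σ' B] (ℬ : ℕ → σ')
  [GradedRing ℬ]
  (ψ : CohB1.polyGrading r A0 →+*ᵍ ℬ) (hψs : Function.Surjective ψ)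
  (hψ : ℬ₊ ≤ ((CohB1.polyGrading r A0)₊).map ψ)
variable {M τ' : Type u} [AddCommGroup M] [Module B M] [SetLike τ' M] [AddSubgroupClass τ' M]
  (ℳ : ℕ → τ') [SetLike.GradedSMul ℬ ℳ] [DirectSum.Decomposition ℳ] [Module.Finite B M]

local notation "P" => MvPolynomial (Fin (r + 1)) A0
local notation "𝒬" => CohB1.polyGrading r A0

include hψs hψ in
/-- **`M_n → Γ(Proj B, M(n)~)` is bijective for large `n`** -/
theorem exists_bijective :
    ∃ n0 : ℕ, ∀ n : ℕ, n0 ≤ n →
      Function.Bijective (fun m : ℳ n => GrMod.globalOf ℬ ℳ m) := by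
  classical
  letI modP : Module P M := Module.compHom M (ψ.toRingHom : P →+* B)
  letI modA0 : Module A0 M :=
    Module.compHom M ((ψ.toRingHom : P →+* B).comp (MvPolynomial.C : A0 →+* P))
  have hsm : ∀ (p : P) (m : M), p • m = ψ p • m := fun _ _ => rfl
  have hsm0 : ∀ (a : A0) (m : M), a • m = ψ (MvPolynomial.C a) • m := fun _ _ => rfl
  haveI : IsScalarTower A0 P M := ⟨fun a p m => by
    rw [hsm, hsm0, hsm, MvPolynomial.smul_eq_C_mul, map_mul, mul_smul]⟩
  letI algPB : Algebra P B := (ψ.toRingHom : P →+* B).toAlgebra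
  haveI : IsScalarTower P B M := IsScalarTower.of_algebraMap_smul (fun _ _ => rfl)
  haveI : Module.Finite P B := Module.Finite.of_surjective (Algebra.linearMap P B) hψs
  haveI : Module.Finite P M := Module.Finite.trans B M
  let ℳ' : ℕ → Submodule A0 M := fun i =>
    { carrier := {m | m ∈ ℳ i}
      add_mem' := fun ha hb => add_mem ha hb
      zero_mem' := zero_mem _
      smul_mem' := fun a m hm => by
        have hm' : m ∈ ℳ i := hm
        have h1 : ψ (MvPolynomial.C a) • m ∈ ℳ (0 + i) :=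
          SetLike.GradedSMul.smul_mem (ψ.map_mem
            ((MvPolynomial.mem_homogeneousSubmodule _ _).mpr (MvPolynomial.isHomogeneous_C _ a))) hm'
        rw [zero_add] at h1
        exact h1 }
  have hcar : ∀ (i : ℕ) (m : M), m ∈ ℳ' i ↔ m ∈ ℳ i := fun _ _ => Iff.rfl
  letI decℳ' : DirectSum.Decomposition ℳ' := regradeDecomposition ℳ ℳ' hcar
  haveI : SetLike.GradedSMul 𝒬 ℳ' := ⟨fun {i j} p m hp hm => by
    have hm' : m ∈ ℳ j := hm
    have h1 : ψ p • m ∈ ℳ (i + j) := SetLike.GradedSMul.smul_mem (ψ.map_mem hp) hm'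
    exact h1⟩
  obtain ⟨n0, hn0⟩ := Groth.Agent.Lib.R2H2.GrSecSurj.exists_bijective r A0 ℳ'
  refine ⟨n0, fun n hn => ?_⟩
  let v : M →ₛₗ[ψ.toRingHom] M :=
    { toFun := fun m => m
      map_add' := fun _ _ => rfl
      map_smul' := fun _ _ => rfl }
  have hv : ∀ (i : ℕ) (m : M), m ∈ ℳ' i → v m ∈ ℳ i := fun _ _ h => h
  have hiso : IsIso (GrMod.comap ψ hψ v hv (n : ℤ)) :=
    Groth.Agent.Lib.Helper2.GrModComapIso.isIso_comap ψ hψ ℳ' ℳ v hv (n : ℤ)
      ⟨fun _ _ h => h, fun m => ⟨m, rfl⟩⟩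
  have hbij : Function.Bijective ((GrMod.comap ψ hψ v hv (n : ℤ)).app ⊤) :=
    (ConcreteCategory.isIso_iff_bijective _).mp
      (Scheme.Modules.Hom.isIso_iff_isIso_app.mp hiso ⊤)
  have hcomp : ∀ m : ℳ n,
      ((GrMod.comap ψ hψ v hv (n : ℤ)).app ⊤
        (GrTilde.globalOf 𝒬 ℳ' (regradeEquiv ℳ ℳ' hcar n m)) :
        GrMod.sect ℬ ℳ (n : ℤ) (op ⊤)) = GrMod.globalOf ℬ ℳ m := by
    intro m
    refine Subtype.ext (funext fun y => Subtype.ext ?_)
    change LocalizedModule.mk (v m.1) _ = LocalizedModule.mk m.1 _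
    rw [LocalizedModule.mk_eq]
    refine ⟨1, ?_⟩
    simp [Submonoid.smul_def, v]
  have heq : (fun m : ℳ n => GrMod.globalOf ℬ ℳ m) =
      (fun s => ((GrMod.comap ψ hψ v hv (n : ℤ)).app ⊤ s :
        GrMod.sect ℬ ℳ (n : ℤ) (op ⊤))) ∘ (fun m : ℳ' n => GrTilde.globalOf 𝒬 ℳ' m) ∘
        (regradeEquiv ℳ ℳ' hcar n) :=
    funext fun m => (hcomp m).symm
  rw [heq]
  exact Function.Bijective.comp hbij
    (Function.Bijective.comp (hn0 n hn) (regradeEquiv ℳ ℳ' hcar n).bijective)

end Main

end Groth.Agent.Lib.R2H2.GrSecGen
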