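import Groth.Agent.Lib.R2H2GrSecProj
import Groth.Agent.Lib.R2H2ClosedPnGamma

/-!
# Cohomology of `M(n)~` on `Proj S` for large `n` (helper2, round 2)

`S` generated in degree one over a Noetherian ring `A`, `M` a finitely generated graded module:
for large `n` the higher cohomology of `M(n)~` vanishes and `H^0(Proj S, M(n)~) ≃ₗ[A] M_n`.
-/

set_option autoImplicit false
set_option linter.style.haveILetI false
universe u

namespace Groth.Agent.Lib.R2H2.GrSecLen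

open CategoryTheory CategoryTheory.Limits AlgebraicGeometry TopologicalSpace Opposite MvPolynomial
open Groth.Agent.Lib.R2H2.ProjEmbed Groth.Agent.Lib.Helper27GrTildeSect
  Groth.Agent.Lib.Helper27PnSections

variable {A S : Type u} [CommRing A] [IsNoetherianRing A] [CommRing S] [Algebra A S]
  (𝒜 : ℕ → Submodule A S) [GradedAlgebra 𝒜]
  (h0 : ∀ s ∈ 𝒜 0, s ∈ Set.range (algebraMap A S)) (r : ℕ) (g : Fin (r + 1) → S)
  (hg1 : ∀ i, g i ∈ 𝒜 1) (hgen : Algebra.adjoin A (Set.range g) = ⊤)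
variable {M : Type u} [AddCommGroup M] [Module A M] [Module S M] [IsScalarTower A S M]
  [Module.Finite S M] (ℳ : ℕ → Submodule A M) [DirectSum.Decomposition ℳ]
  [SetLike.GradedSMul 𝒜 ℳ]

omit [IsNoetherianRing A] in
include h0 hgen hg1 in
theorem hgen' : (HomogeneousIdeal.irrelevant 𝒜).toIdeal = Ideal.span (𝒜 1 : Set S) := by
  apply le_antisymm
  · refine (irrelevant_le_span 𝒜 r g hg1 h0 hgen).trans (Ideal.span_le.mpr ?_)
    rintro _ ⟨i, rfl⟩
    exact Ideal.subset_span (hg1 i)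
  · rw [Ideal.span_le]
    intro f hf
    exact HomogeneousIdeal.mem_irrelevant_of_mem 𝒜 Nat.one_pos hf

include hgen hg1 in
theorem isNoetherianRing_S : IsNoetherianRing S :=
  isNoetherianRing_of_surjective (MvPolynomial (Fin (r + 1)) A) S (psi 𝒜 r g hg1).toRingHom
    (psi_surjective 𝒜 r g hg1 hgen)

include h0 hgen hg1 in
/-- `M~` is coherent -/
theorem isCoh_tilde_zero : Coh.IsCoh (GrTilde.tilde 𝒜 ℳ 0) := by
  haveI : IsNoetherianRing S := isNoetherianRing_S 𝒜 r g hg1 hgen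
  haveI : IsNoetherian S M := isNoetherian_of_isNoetherianRing_of_finite S M
  have hfg : (HomogeneousIdeal.irrelevant 𝒜).toIdeal.FG := IsNoetherian.noetherian _
  exact ⟨Groth.Agent.S3545.result 𝒜 ℳ 0,
    Groth.Agent.S3561.result 𝒜 hfg ℳ ⟨0, IsNoetherian.noetherian _⟩⟩

include h0 hgen hg1 in
/-- higher cohomology of `M(n)~` vanishes for large `n` -/
theorem exists_vanishing :
    ∃ d₀ : ℤ, ∀ n : ℤ, d₀ ≤ n → ∀ q : ℕ, 0 < q →
      Subsingleton (Coh.HH (Proj 𝒜) (GrTilde.tilde 𝒜 ℳ n) q) := by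
  let i : Proj 𝒜 ⟶ CohB1.ProjSpace r A := emb 𝒜 r g hg1 h0 hgen
  haveI : IsClosedImmersion i := isClosedImmersion_emb 𝒜 r g hg1 h0 hgen
  obtain ⟨d₀, hd₀⟩ := Groth.Agent.Lib.R2H2.ClosedPnGamma.serre_vanishing_closed r A i
    (fun n => Twist.twist 𝒜 n)
    (fun n => nonempty_pullback_twistProjSpace_iso 𝒜 r g hg1 h0 hgen n)
    (GrTilde.tilde 𝒜 ℳ 0) (isCoh_tilde_zero 𝒜 h0 r g hg1 hgen ℳ)
  refine ⟨d₀, fun n hn q hq => ?_⟩
  obtain ⟨e⟩ := Groth.Agent.S4400.result 𝒜 (hgen' 𝒜 h0 r g hg1 hgen) ℳ n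
  exact Groth.Agent.Lib.R2H2.PnSerre.subsingleton_HH_of_iso e.symm q (hd₀ n hn q hq)

/-- `H^0 ≃+ Γ` -/
noncomputable def secEquiv (F : (Proj 𝒜).Modules) : Coh.HH (Proj 𝒜) F 0 ≃+ Γ(F, ⊤) :=
  (hh0Equiv (Proj 𝒜) F).trans
    { toFun := fun x => x
      invFun := fun x => x
      left_inv := fun _ => rfl
      right_inv := fun _ => rfl
      map_add' := fun _ _ => rfl }

omit [IsNoetherianRing A] in
theorem secEquiv_smul (F : (Proj 𝒜).Modules) (a : A) (x : Coh.HH (Proj 𝒜) F 0) :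
    secEquiv 𝒜 F (a • x) = constFun 𝒜 a • secEquiv 𝒜 F x := by
  have h1 : hh0Equiv (Proj 𝒜) F (a • x) =
      hh0Equiv (Proj 𝒜) F ((Coh.toGlobal (Proj 𝒜 ↘ Spec (CommRingCat.of A)) a) • x) := rfl
  have h2 := hh0Equiv_smul (Proj 𝒜) F (Coh.toGlobal (Proj 𝒜 ↘ Spec (CommRingCat.of A)) a) x
  rw [Coh.smulAb_app, resTop_top] at h2
  exact h1.trans h2

omit [IsNoetherianRing A] [Module.Finite S M] in
include h0 hgen hg1 in
/-- `M_n ≃ₗ[A] H^0(Proj S, M(n)~)` when `m ↦ m/1` is bijective -/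
theorem nonempty_linearEquiv (n : ℕ)
    (hbij : Function.Bijective (fun m : ℳ n => GrTilde.globalOf 𝒜 ℳ m)) :
    Nonempty (ℳ n ≃ₗ[A] Coh.HH (Proj 𝒜) (GrTilde.tilde 𝒜 ℳ (n : ℤ)) 0) := by
  let F : (Proj 𝒜).Modules := GrTilde.tilde 𝒜 ℳ (n : ℤ)
  let e0 := secEquiv 𝒜 F
  let gl : ℳ n → Γ(F, ⊤) := fun m => ofSect 𝒜 ℳ (n : ℤ) ⊤ (GrTilde.globalOf 𝒜 ℳ m)
  have hgl_add : ∀ m m' : ℳ n, gl (m + m') = gl m + gl m' := by
    intro m m'
    apply sec_ext
    intro y hy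
    rw [Groth.Agent.Lib.Helper27GrTildeSect.secVal_add]
    change LocalizedModule.mk (m.1 + m'.1) (1 : y.asHomogeneousIdeal.toIdeal.primeCompl) =
      LocalizedModule.mk m.1 1 + LocalizedModule.mk m'.1 1
    rw [LocalizedModule.mk_add_mk]
    simp
  have hgl_smul : ∀ (a : A) (m : ℳ n), gl (a • m) = constFun 𝒜 a • gl m := by
    intro a m
    apply sec_ext
    intro y hy
    obtain ⟨j, hj⟩ := mem_basicOpen_g 𝒜 r g hg1 h0 hgen y
    have hj' : g j ∉ y.asHomogeneousIdeal := (ProjectiveSpectrum.mem_basicOpen 𝒜 (g j) y).mp hj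
    rw [secVal_smul, funVal_constFun_val 𝒜 (hg1 j) Nat.one_pos a y hj']
    change LocalizedModule.mk (a • m.1) (1 : y.asHomogeneousIdeal.toIdeal.primeCompl) =
      (Localization.mk (algebraMap A S a) 1 : Twist.Loc 𝒜 y) • LocalizedModule.mk m.1 1
    rw [LocalizedModule.mk_smul_mk, one_mul, algebraMap_smul]
  let φ : ℳ n →ₗ[A] Coh.HH (Proj 𝒜) F 0 :=
    { toFun := fun m => e0.symm (gl m)
      map_add' := fun m m' => by rw [hgl_add, map_add]
      map_smul' := fun a m => by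
        apply e0.injective
        rw [RingHom.id_apply, AddEquiv.apply_symm_apply, secEquiv_smul,
          AddEquiv.apply_symm_apply, hgl_smul] }
  have hφ : Function.Bijective φ := by
    constructor
    · intro m m' h
      exact hbij.1 (e0.symm.injective h)
    · intro x
      obtain ⟨m, hm⟩ := hbij.2 (toSect 𝒜 ℳ (n : ℤ) ⊤ (e0 x))
      refine ⟨m, ?_⟩
      change e0.symm (gl m) = x
      have h1 : gl m = e0 x := hm
      rw [h1, AddEquiv.symm_apply_apply]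
  exact ⟨LinearEquiv.ofBijective φ hφ⟩

end Groth.Agent.Lib.R2H2.GrSecLen
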