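import Groth.Agent.Lib.R2H2GrSecGen
import Groth.Agent.Lib.Helper27PnChart

/-!
# `M_n → Γ(Proj A, M(n)~)` is bijective for large `n`, `A` Noetherian standard graded
(helper2, round 2)

`A` a Noetherian graded ring with `A_{i+1} = A_1 · A_i`; it is a graded quotient of
`A_0[x_0..x_r]`, so `GrSecGen.exists_bijective` applies.
-/

set_option autoImplicit false
set_option linter.style.haveILetI false
universe u

namespace Groth.Agent.Lib.R2H2.GrSecStd

open CategoryTheory CategoryTheory.Limits AlgebraicGeometry TopologicalSpace Opposite MvPolynomial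
open scoped HomogeneousIdeal

variable {R A : Type u} [CommRing R] [CommRing A] [Algebra R A] (𝒜 : ℕ → Submodule R A)
  [GradedAlgebra 𝒜]

theorem isNoetherianRing_zero [IsNoetherianRing A] : IsNoetherianRing (𝒜 0) :=
  isNoetherianRing_of_surjective A (𝒜 0) (GradedRing.projZeroRingHom' 𝒜)
    (GradedRing.projZeroRingHom'_surjective 𝒜)

/-- finitely many degree-one generators of `A_1` over `A_0` -/
theorem exists_gens [IsNoetherianRing A] :
    ∃ (r : ℕ) (g : Fin (r + 1) → A), (∀ j, g j ∈ 𝒜 1) ∧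
      ∀ x ∈ 𝒜 1, ∃ c : Fin (r + 1) → 𝒜 0, x = ∑ j, (c j : A) * g j := by
  classical
  have hfg : (Ideal.span ((𝒜 1 : Submodule R A) : Set A)).FG := IsNoetherian.noetherian _
  obtain ⟨T, hT1, hT2⟩ := (Submodule.fg_span_iff_fg_span_finset_subset _).mp hfg
  let T' : Finset A := insert 0 T
  have hT'1 : ∀ t ∈ T', t ∈ 𝒜 1 := by
    intro t ht
    rcases Finset.mem_insert.mp ht with rfl | ht
    · exact zero_mem _
    · exact hT1 ht
  have hcard : 0 < T'.card := Finset.card_pos.mpr ⟨0, Finset.mem_insert_self _ _⟩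
  obtain ⟨r, hr⟩ : ∃ r, T'.card = r + 1 := ⟨T'.card - 1, by omega⟩
  let e : T' ≃ Fin (r + 1) := T'.equivFinOfCardEq hr
  refine ⟨r, fun j => (e.symm j).1, fun j => hT'1 _ (e.symm j).2, ?_⟩
  intro x hx
  have hxT : x ∈ Ideal.span ((T : Finset A) : Set A) := by
    have h1 : x ∈ Ideal.span ((𝒜 1 : Submodule R A) : Set A) := Ideal.subset_span hx
    have h2 : Ideal.span ((𝒜 1 : Submodule R A) : Set A) = Ideal.span ((T : Finset A) : Set A) :=
      hT2
    rw [h2] at h1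
    exact h1
  have hxT' : x ∈ Submodule.span A ((T' : Finset A) : Set A) := by
    have hsub : ((T : Finset A) : Set A) ⊆ ((T' : Finset A) : Set A) :=
      Finset.coe_subset.mpr (Finset.subset_insert _ _)
    exact Ideal.span_mono hsub hxT
  obtain ⟨f, hf⟩ := Submodule.mem_span_finset'.mp hxT'
  refine ⟨fun j => ⟨(DirectSum.decompose 𝒜 (f (e.symm j)) 0 : A), SetLike.coe_mem _⟩, ?_⟩
  have hx1 : x = (DirectSum.decompose 𝒜 x 1 : A) := by
    rw [DirectSum.decompose_of_mem_same 𝒜 hx]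
  have hsum : (DirectSum.decompose 𝒜 x 1 : A) =
      ∑ a : T', (DirectSum.decompose 𝒜 (f a) 0 : A) * a.1 := by
    rw [← hf, DirectSum.decompose_sum, DFinsupp.finset_sum_apply, AddSubmonoidClass.coe_finset_sum]
    refine Finset.sum_congr rfl (fun a _ => ?_)
    have h3 := DirectSum.coe_decompose_mul_add_of_right_mem 𝒜 (i := 0) (j := 1) (a := f a)
      (hT'1 a.1 a.2)
    rw [zero_add] at h3
    rw [smul_eq_mul]
    exact h3
  rw [hx1, hsum]
  exact (Equiv.sum_comp e.symm (fun a : T' => (DirectSum.decompose 𝒜 (f a) 0 : A) * a.1)).symm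

section Psi

variable (r : ℕ) (g : Fin (r + 1) → A) (hg1 : ∀ j, g j ∈ 𝒜 1)

local notation "𝒬" => CohB1.polyGrading r (𝒜 0)

include hg1 in
theorem aeval_mem {i : ℕ} {x : MvPolynomial (Fin (r + 1)) (𝒜 0)}
    (hx : x ∈ CohB1.polyGrading r (𝒜 0) i) : MvPolynomial.aeval g x ∈ 𝒜 i := by
  rw [MvPolynomial.aeval_def, MvPolynomial.eval₂_eq]
  refine Submodule.sum_mem _ (fun d hd => ?_)
  have hdeg : ∑ j ∈ d.support, d j • 1 = i := by
    have h1 : Finsupp.weight (1 : Fin (r + 1) → ℕ) d = i := hx (MvPolynomial.mem_support_iff.1 hd)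
    rw [← h1, Finsupp.weight_apply, Finsupp.sum]
    rfl
  have h2 : ∏ j ∈ d.support, g j ^ d j ∈ 𝒜 i := by
    rw [← hdeg]
    exact SetLike.prod_pow_mem_graded 𝒜 (fun _ => 1) g (fun j => d j) (fun k _ => hg1 k)
  have h3 : ((MvPolynomial.coeff d x : 𝒜 0) : A) * ∏ j ∈ d.support, g j ^ d j ∈ 𝒜 (0 + i) :=
    SetLike.GradedMul.mul_mem (MvPolynomial.coeff d x).2 h2
  rw [zero_add] at h3
  exact h3

/-- the graded homomorphism `A_0[x_0, …, x_r] → A`, `x_j ↦ g_j` -/
noncomputable def psi : CohB1.polyGrading r (𝒜 0) →+*ᵍ 𝒜 where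
  toRingHom := (MvPolynomial.aeval g : MvPolynomial (Fin (r + 1)) (𝒜 0) →ₐ[𝒜 0] A).toRingHom
  map_mem := fun hx => aeval_mem 𝒜 r g hg1 hx

lemma psi_apply (x : MvPolynomial (Fin (r + 1)) (𝒜 0)) :
    psi 𝒜 r g hg1 x = MvPolynomial.aeval g x := rfl

lemma psi_X (j : Fin (r + 1)) : psi 𝒜 r g hg1 (MvPolynomial.X j) = g j := by
  rw [psi_apply, MvPolynomial.aeval_X]

lemma psi_C (a : 𝒜 0) : psi 𝒜 r g hg1 (MvPolynomial.C a) = (a : A) := by
  rw [psi_apply, MvPolynomial.aeval_C]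
  rfl

variable (hgen : ∀ i : ℕ, 𝒜 (i + 1) = 𝒜 1 * 𝒜 i)
  (hspan : ∀ x ∈ 𝒜 1, ∃ c : Fin (r + 1) → 𝒜 0, x = ∑ j, (c j : A) * g j)

include hgen hspan in
theorem exists_preimage : ∀ (i : ℕ) (x : A), x ∈ 𝒜 i →
    ∃ p ∈ CohB1.polyGrading r (𝒜 0) i, psi 𝒜 r g hg1 p = x := by
  intro i
  induction i with
  | zero =>
    intro x hx
    refine ⟨MvPolynomial.C ⟨x, hx⟩, ?_, ?_⟩
    · exact (MvPolynomial.mem_homogeneousSubmodule _ _).mpr (MvPolynomial.isHomogeneous_C _ _)
    · rw [psi_C]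
  | succ i ih =>
    intro x hx
    rw [hgen i] at hx
    refine Submodule.mul_induction_on hx ?_ ?_
    · intro m hm n hn
      obtain ⟨c, hc⟩ := hspan m hm
      obtain ⟨q, hq, hqn⟩ := ih n hn
      have h1 : (∑ j, MvPolynomial.C (c j) * MvPolynomial.X j :
          MvPolynomial (Fin (r + 1)) (𝒜 0)) ∈ CohB1.polyGrading r (𝒜 0) 1 := by
        refine Submodule.sum_mem _ (fun j _ => ?_)
        have h2 : (MvPolynomial.C (c j) * MvPolynomial.X j :
            MvPolynomial (Fin (r + 1)) (𝒜 0)) ∈ CohB1.polyGrading r (𝒜 0) (0 + 1) :=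
          SetLike.GradedMul.mul_mem
            ((MvPolynomial.mem_homogeneousSubmodule _ _).mpr (MvPolynomial.isHomogeneous_C _ _))
            (Groth.Agent.Lib.Helper27PnChart.X_mem_one r (𝒜 0) j)
        rw [zero_add] at h2
        exact h2
      have h3 : (∑ j, MvPolynomial.C (c j) * MvPolynomial.X j) * q ∈
          CohB1.polyGrading r (𝒜 0) (1 + i) := SetLike.GradedMul.mul_mem h1 hq
      rw [add_comm 1 i] at h3
      refine ⟨_, h3, ?_⟩
      rw [map_mul, map_sum, hqn, hc]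
      congr 1
      refine Finset.sum_congr rfl (fun j _ => ?_)
      rw [map_mul, psi_C, psi_X]
    · rintro y z ⟨p1, hp1, rfl⟩ ⟨p2, hp2, rfl⟩
      exact ⟨p1 + p2, Submodule.add_mem _ hp1 hp2, map_add _ _ _⟩

include hgen hspan in
theorem psi_surjective : Function.Surjective (psi 𝒜 r g hg1) := by
  classical
  intro x
  have hx : x ∈ (psi 𝒜 r g hg1).toRingHom.range := by
    rw [← DirectSum.sum_support_decompose 𝒜 x]
    refine Subring.sum_mem _ (fun i _ => ?_)
    obtain ⟨p, -, hp⟩ := exists_preimage 𝒜 r g hg1 hgen hspan i _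
      (SetLike.coe_mem (DirectSum.decompose 𝒜 x i))
    exact ⟨p, hp⟩
  obtain ⟨p, hp⟩ := hx
  exact ⟨p, hp⟩

include hgen hspan in
theorem irrelevant_le_map :
    HomogeneousIdeal.irrelevant 𝒜 ≤
      (HomogeneousIdeal.irrelevant (CohB1.polyGrading r (𝒜 0))).map (psi 𝒜 r g hg1) := by
  classical
  intro x hx
  have h0x : GradedRing.proj 𝒜 0 x = 0 := (HomogeneousIdeal.mem_irrelevant_iff _ _).1 hx
  change x ∈ ((HomogeneousIdeal.irrelevant (CohB1.polyGrading r (𝒜 0))).map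
    (psi 𝒜 r g hg1)).toIdeal
  rw [HomogeneousIdeal.toIdeal_map, ← DirectSum.sum_support_decompose 𝒜 x]
  refine Ideal.sum_mem _ (fun i _ => ?_)
  by_cases hi : i = 0
  · subst hi
    rw [GradedRing.proj_apply] at h0x
    rw [h0x]
    exact Ideal.zero_mem _
  · obtain ⟨p, hp, hpx⟩ := exists_preimage 𝒜 r g hg1 hgen hspan i _
      (SetLike.coe_mem (DirectSum.decompose 𝒜 x i))
    rw [← hpx]
    apply Ideal.mem_map_of_mem
    change p ∈ HomogeneousIdeal.irrelevant (CohB1.polyGrading r (𝒜 0))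
    rw [HomogeneousIdeal.mem_irrelevant_iff, GradedRing.proj_apply,
      DirectSum.decompose_of_mem_ne (CohB1.polyGrading r (𝒜 0)) hp hi]

end Psi

/-- **`M_n → Γ(Proj A, M(n)~)` is bijective for large `n`** (`A` Noetherian, generated by `A_1`
over `A_0`, `M` finite graded) -/
theorem exists_bijective [IsNoetherianRing A] (hgen : ∀ i : ℕ, 𝒜 (i + 1) = 𝒜 1 * 𝒜 i)
    (M : Type u) [AddCommGroup M] [Module R M] [Module A M] [IsScalarTower R A M]
    [Module.Finite A M]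
    (ℳ : ℕ → Submodule R M) [DirectSum.Decomposition ℳ] [SetLike.GradedSMul 𝒜 ℳ] :
    ∃ n₀ : ℕ, ∀ n : ℕ, n₀ ≤ n → Function.Bijective (fun m : ℳ n => GrTilde.globalOf 𝒜 ℳ m) := by
  haveI : IsNoetherianRing (𝒜 0) := isNoetherianRing_zero 𝒜
  obtain ⟨r, g, hg1, hspan⟩ := exists_gens 𝒜
  exact Groth.Agent.Lib.R2H2.GrSecGen.exists_bijective r 𝒜 (psi 𝒜 r g hg1)
    (psi_surjective 𝒜 r g hg1 hgen hspan) (irrelevant_le_map 𝒜 r g hg1 hgen hspan) ℳ

end Groth.Agent.Lib.R2H2.GrSecStd
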