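import Groth.Agent.Lib.R2H2GrSecGen
import Groth.Agent.Lib.Helper27PnChart
import Groth.Agent.Lib.Helper2GrModSect

/-!
# Sections of `M(n)~` on `Proj` of a Noetherian graded ring generated in degree one, `M` with (TF)
(helper2, round 2)

* `GrSecTF.exists_surjective_gen` : `M_n → Γ(Proj B, M(n)~)` is surjective for `n ≫ 0`, `B` a graded
  quotient of `A₀[x_0..x_r]`, `M` a graded module with (TF);
* `psi`, `psi_surjective`, `irrelevant_le_map` : a Noetherian graded ring (graded by any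
  `SetLike`) whose irrelevant ideal is generated by `A_1` is a graded quotient of `A₀[x_0..x_r]`;
* `exists_surjective` : the surjectivity in that case;
* `exists_smulSect_sup_eq_top` : `Γ(M(k+e)~) = Σ_a a · Γ(M(k)~)` for `k ≫ 0`.
-/

set_option autoImplicit false
set_option linter.style.haveILetI false
universe u

namespace Groth.Agent.Lib.R2H2.GrSecTF

open CategoryTheory CategoryTheory.Limits AlgebraicGeometry TopologicalSpace Opposite MvPolynomial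
open scoped HomogeneousIdeal

section Gen

variable {A0 : Type u} [CommRing A0] [IsNoetherianRing A0] (r : ℕ)
variable {B σ' : Type u} [CommRing B] [SetLike σ' B] [AddSubgroupClass σ' B] (ℬ : ℕ → σ')
  [GradedRing ℬ]
  (ψ : CohB1.polyGrading r A0 →+*ᵍ ℬ) (hψs : Function.Surjective ψ)
  (hψ : ℬ₊ ≤ ((CohB1.polyGrading r A0)₊).map ψ)
variable {M τ' : Type u} [AddCommGroup M] [Module B M] [SetLike τ' M] [AddSubgroupClass τ' M]
  (ℳ : ℕ → τ') [SetLike.GradedSMul ℬ ℳ] [DirectSum.Decomposition ℳ]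
  (hTF : ∃ k : ℕ, (Submodule.span B (⋃ i ∈ Set.Ici k, (ℳ i : Set M))).FG)

local notation "P" => MvPolynomial (Fin (r + 1)) A0
local notation "𝒬" => CohB1.polyGrading r A0

include hψs hψ hTF in
/-- **`M_n → Γ(Proj B, M(n)~)` is surjective for large `n`** (`M` with (TF)) -/
theorem exists_surjective_gen :
    ∃ n0 : ℕ, ∀ n : ℕ, n0 ≤ n →
      Function.Surjective (fun m : ℳ n => GrMod.globalOf ℬ ℳ m) := by
  classical
  letI modP : Module P M := Module.compHom M (ψ.toRingHom : P →+* B)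
  letI modA0 : Module A0 M :=
    Module.compHom M ((ψ.toRingHom : P →+* B).comp (MvPolynomial.C : A0 →+* P))
  have hsm : ∀ (p : P) (m : M), p • m = ψ p • m := fun _ _ => rfl
  have hsm0 : ∀ (a : A0) (m : M), a • m = ψ (MvPolynomial.C a) • m := fun _ _ => rfl
  haveI : IsScalarTower A0 P M := ⟨fun a p m => by
    rw [hsm, hsm0, hsm, MvPolynomial.smul_eq_C_mul, map_mul, mul_smul]⟩
  letI algPB : Algebra P B := (ψ.toRingHom : P →+* B).toAlgebra
  haveI : IsScalarTower P B M := IsScalarTower.of_algebraMap_smul (fun _ _ => rfl)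
  let ℳ' : ℕ → Submodule A0 M := fun i =>
    { carrier := {m | m ∈ ℳ i}
      add_mem' := fun ha hb => add_mem ha hb
      zero_mem' := zero_mem _
      smul_mem' := fun a m hm => by
        have hm' : m ∈ ℳ i := hm
        have h1 : ψ (MvPolynomial.C a) • m ∈ ℳ (0 + i) :=
          SetLike.GradedSMul.smul_mem (ψ.map_mem
            ((MvPolynomial.mem_homogeneousSubmodule _ _).mpr (MvPolynomial.isHomogeneous_C _ a))) hm'
        rw [zero_add] at h1
        exact h1 }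
  have hcar : ∀ (i : ℕ) (m : M), m ∈ ℳ' i ↔ m ∈ ℳ i := fun _ _ => Iff.rfl
  letI decℳ' : DirectSum.Decomposition ℳ' :=
    Groth.Agent.Lib.R2H2.GrSecGen.regradeDecomposition ℳ ℳ' hcar
  haveI : SetLike.GradedSMul 𝒬 ℳ' := ⟨fun {i j} p m hp hm => by
    have hm' : m ∈ ℳ j := hm
    have h1 : ψ p • m ∈ ℳ (i + j) := SetLike.GradedSMul.smul_mem (ψ.map_mem hp) hm'
    exact h1⟩
  have hTF' : ∃ k : ℕ, (Submodule.span P (⋃ i ∈ Set.Ici k, (ℳ' i : Set M))).FG := by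
    obtain ⟨k, hk⟩ := hTF
    refine ⟨k, ?_⟩
    have h1 := Submodule.FG.restrictScalars_of_surjective (R := P) hk hψs
    rw [Submodule.restrictScalars_span P B hψs] at h1
    exact h1
  obtain ⟨n0, hn0⟩ := Groth.Agent.Lib.R2H2.GrSecSurj.exists_surjective r A0 ℳ' hTF'
  refine ⟨n0, fun n hn => ?_⟩
  let v : M →ₛₗ[ψ.toRingHom] M :=
    { toFun := fun m => m
      map_add' := fun _ _ => rfl
      map_smul' := fun _ _ => rfl }
  have hv : ∀ (i : ℕ) (m : M), m ∈ ℳ' i → v m ∈ ℳ i := fun _ _ h => h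
  have hiso : IsIso (GrMod.comap ψ hψ v hv (n : ℤ)) :=
    Groth.Agent.Lib.Helper2.GrModComapIso.isIso_comap ψ hψ ℳ' ℳ v hv (n : ℤ)
      ⟨fun _ _ h => h, fun m => ⟨m, rfl⟩⟩
  have hbij : Function.Bijective ((GrMod.comap ψ hψ v hv (n : ℤ)).app ⊤) :=
    (ConcreteCategory.isIso_iff_bijective _).mp
      (Scheme.Modules.Hom.isIso_iff_isIso_app.mp hiso ⊤)
  have hcomp : ∀ m : ℳ n,
      ((GrMod.comap ψ hψ v hv (n : ℤ)).app ⊤
        (GrTilde.globalOf 𝒬 ℳ' (Groth.Agent.Lib.R2H2.GrSecGen.regradeEquiv ℳ ℳ' hcar n m)) :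
        GrMod.sect ℬ ℳ (n : ℤ) (op ⊤)) = GrMod.globalOf ℬ ℳ m := by
    intro m
    refine Subtype.ext (funext fun y => Subtype.ext ?_)
    change LocalizedModule.mk (v m.1) _ = LocalizedModule.mk m.1 _
    rw [LocalizedModule.mk_eq]
    refine ⟨1, ?_⟩
    simp [Submonoid.smul_def, v]
  have heq : (fun m : ℳ n => GrMod.globalOf ℬ ℳ m) =
      (fun s => ((GrMod.comap ψ hψ v hv (n : ℤ)).app ⊤ s :
        GrMod.sect ℬ ℳ (n : ℤ) (op ⊤))) ∘ (fun m : ℳ' n => GrTilde.globalOf 𝒬 ℳ' m) ∘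
        (Groth.Agent.Lib.R2H2.GrSecGen.regradeEquiv ℳ ℳ' hcar n) :=
    funext fun m => (hcomp m).symm
  rw [heq]
  exact Function.Surjective.comp hbij.2
    (Function.Surjective.comp (hn0 n hn)
      (Groth.Agent.Lib.R2H2.GrSecGen.regradeEquiv ℳ ℳ' hcar n).surjective)

end Gen

section Std

variable {A σ : Type u} [CommRing A] [SetLike σ A] [AddSubgroupClass σ A] (𝒜 : ℕ → σ)
  [GradedRing 𝒜]

theorem isNoetherianRing_zero [IsNoetherianRing A] : IsNoetherianRing (𝒜 0) :=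
  isNoetherianRing_of_surjective A (𝒜 0) (GradedRing.projZeroRingHom' 𝒜)
    (GradedRing.projZeroRingHom'_surjective 𝒜)

/-- finitely many degree-one generators of the irrelevant ideal, in graded form -/
theorem exists_gens [IsNoetherianRing A]
    (hgen : (HomogeneousIdeal.irrelevant 𝒜).toIdeal = Ideal.span (𝒜 1 : Set A)) :
    ∃ (r : ℕ) (g : Fin (r + 1) → A), (∀ j, g j ∈ 𝒜 1) ∧
      ∀ (i : ℕ) (x : A), x ∈ 𝒜 (i + 1) →
        ∃ c : Fin (r + 1) → A, (∀ j, c j ∈ 𝒜 i) ∧ x = ∑ j, c j * g j := by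
  classical
  have hfg : (Ideal.span ((𝒜 1 : σ) : Set A)).FG := IsNoetherian.noetherian _
  obtain ⟨T, hT1, hT2⟩ := (Submodule.fg_span_iff_fg_span_finset_subset _).mp hfg
  let T' : Finset A := insert 0 T
  have hT'1 : ∀ t ∈ T', t ∈ 𝒜 1 := by
    intro t ht
    rcases Finset.mem_insert.mp ht with rfl | ht
    · exact zero_mem _
    · exact hT1 ht
  have hcard : 0 < T'.card := Finset.card_pos.mpr ⟨0, Finset.mem_insert_self _ _⟩
  obtain ⟨r, hr⟩ : ∃ r, T'.card = r + 1 := ⟨T'.card - 1, by omega⟩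
  let e : T' ≃ Fin (r + 1) := T'.equivFinOfCardEq hr
  refine ⟨r, fun j => (e.symm j).1, fun j => hT'1 _ (e.symm j).2, ?_⟩
  intro i x hx
  have hxirr : x ∈ (HomogeneousIdeal.irrelevant 𝒜).toIdeal :=
    HomogeneousIdeal.mem_irrelevant_of_mem 𝒜 (Nat.succ_pos i) hx
  have hxT : x ∈ Ideal.span ((T : Finset A) : Set A) := by
    rw [hgen] at hxirr
    have h2 : Ideal.span ((𝒜 1 : σ) : Set A) = Ideal.span ((T : Finset A) : Set A) := hT2
    rw [h2] at hxirr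
    exact hxirr
  have hxT' : x ∈ Submodule.span A ((T' : Finset A) : Set A) := by
    have hsub : ((T : Finset A) : Set A) ⊆ ((T' : Finset A) : Set A) :=
      Finset.coe_subset.mpr (Finset.subset_insert _ _)
    exact Ideal.span_mono hsub hxT
  obtain ⟨f, hf⟩ := Submodule.mem_span_finset'.mp hxT'
  refine ⟨fun j => (DirectSum.decompose 𝒜 (f (e.symm j)) i : A),
    fun j => SetLike.coe_mem _, ?_⟩
  have hx1 : x = (DirectSum.decompose 𝒜 x (i + 1) : A) := by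
    rw [DirectSum.decompose_of_mem_same 𝒜 hx]
  have hsum : (DirectSum.decompose 𝒜 x (i + 1) : A) =
      ∑ a : T', (DirectSum.decompose 𝒜 (f a) i : A) * a.1 := by
    rw [← hf, DirectSum.decompose_sum, DFinsupp.finset_sum_apply, AddSubmonoidClass.coe_finset_sum]
    refine Finset.sum_congr rfl (fun a _ => ?_)
    rw [smul_eq_mul]
    exact DirectSum.coe_decompose_mul_add_of_right_mem 𝒜 (i := i) (j := 1) (a := f a)
      (hT'1 a.1 a.2)
  rw [hx1, hsum]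
  exact (Equiv.sum_comp e.symm (fun a : T' => (DirectSum.decompose 𝒜 (f a) i : A) * a.1)).symm

section Psi

variable (r : ℕ) (g : Fin (r + 1) → A) (hg1 : ∀ j, g j ∈ 𝒜 1)

include hg1 in
theorem aeval_mem {i : ℕ} {x : MvPolynomial (Fin (r + 1)) (𝒜 0)}
    (hx : x ∈ CohB1.polyGrading r (𝒜 0) i) : MvPolynomial.aeval g x ∈ 𝒜 i := by
  rw [MvPolynomial.aeval_def, MvPolynomial.eval₂_eq]
  refine sum_mem (fun d hd => ?_)
  have hdeg : ∑ j ∈ d.support, d j • 1 = i := by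
    have h1 : Finsupp.weight (1 : Fin (r + 1) → ℕ) d = i := hx (MvPolynomial.mem_support_iff.1 hd)
    rw [← h1, Finsupp.weight_apply, Finsupp.sum]
    rfl
  have h2 : ∏ j ∈ d.support, g j ^ d j ∈ 𝒜 i := by
    rw [← hdeg]
    exact SetLike.prod_pow_mem_graded 𝒜 (fun _ => 1) g (fun j => d j) (fun k _ => hg1 k)
  have h3 : ((MvPolynomial.coeff d x : 𝒜 0) : A) * ∏ j ∈ d.support, g j ^ d j ∈ 𝒜 (0 + i) :=
    SetLike.GradedMul.mul_mem (MvPolynomial.coeff d x).2 h2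
  rw [zero_add] at h3
  exact h3

/-- the graded homomorphism `A_0[x_0, …, x_r] → A`, `x_j ↦ g_j` -/
noncomputable def psi : CohB1.polyGrading r (𝒜 0) →+*ᵍ 𝒜 where
  toRingHom := (MvPolynomial.aeval g : MvPolynomial (Fin (r + 1)) (𝒜 0) →ₐ[𝒜 0] A).toRingHom
  map_mem := fun hx => aeval_mem 𝒜 r g hg1 hx

lemma psi_apply (x : MvPolynomial (Fin (r + 1)) (𝒜 0)) :
    psi 𝒜 r g hg1 x = MvPolynomial.aeval g x := rfl

lemma psi_X (j : Fin (r + 1)) : psi 𝒜 r g hg1 (MvPolynomial.X j) = g j := by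
  rw [psi_apply, MvPolynomial.aeval_X]

lemma psi_C (a : 𝒜 0) : psi 𝒜 r g hg1 (MvPolynomial.C a) = (a : A) := by
  rw [psi_apply, MvPolynomial.aeval_C]
  rfl

variable (hspan : ∀ (i : ℕ) (x : A), x ∈ 𝒜 (i + 1) →
  ∃ c : Fin (r + 1) → A, (∀ j, c j ∈ 𝒜 i) ∧ x = ∑ j, c j * g j)

include hspan in
theorem exists_preimage : ∀ (i : ℕ) (x : A), x ∈ 𝒜 i →
    ∃ p ∈ CohB1.polyGrading r (𝒜 0) i, psi 𝒜 r g hg1 p = x := by
  intro i
  induction i with
  | zero =>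
    intro x hx
    refine ⟨MvPolynomial.C ⟨x, hx⟩, ?_, ?_⟩
    · exact (MvPolynomial.mem_homogeneousSubmodule _ _).mpr (MvPolynomial.isHomogeneous_C _ _)
    · rw [psi_C]
  | succ i ih =>
    intro x hx
    obtain ⟨c, hc, rfl⟩ := hspan i x hx
    choose q hq hqc using fun j => ih (c j) (hc j)
    refine ⟨∑ j, q j * MvPolynomial.X j, ?_, ?_⟩
    · refine Submodule.sum_mem _ (fun j _ => ?_)
      exact SetLike.GradedMul.mul_mem (hq j)
        (Groth.Agent.Lib.Helper27PnChart.X_mem_one r (𝒜 0) j)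
    · rw [map_sum]
      refine Finset.sum_congr rfl (fun j _ => ?_)
      rw [map_mul, hqc, psi_X]

include hspan in
theorem psi_surjective : Function.Surjective (psi 𝒜 r g hg1) := by
  classical
  intro x
  have hx : x ∈ (psi 𝒜 r g hg1).toRingHom.range := by
    rw [← DirectSum.sum_support_decompose 𝒜 x]
    refine Subring.sum_mem _ (fun i _ => ?_)
    obtain ⟨p, -, hp⟩ := exists_preimage 𝒜 r g hg1 hspan i _
      (SetLike.coe_mem (DirectSum.decompose 𝒜 x i))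
    exact ⟨p, hp⟩
  obtain ⟨p, hp⟩ := hx
  exact ⟨p, hp⟩

include hspan in
theorem irrelevant_le_map :
    HomogeneousIdeal.irrelevant 𝒜 ≤
      (HomogeneousIdeal.irrelevant (CohB1.polyGrading r (𝒜 0))).map (psi 𝒜 r g hg1) := by
  classical
  intro x hx
  have h0x : GradedRing.proj 𝒜 0 x = 0 := (HomogeneousIdeal.mem_irrelevant_iff _ _).1 hx
  change x ∈ ((HomogeneousIdeal.irrelevant (CohB1.polyGrading r (𝒜 0))).map
    (psi 𝒜 r g hg1)).toIdeal
  rw [HomogeneousIdeal.toIdeal_map, ← DirectSum.sum_support_decompose 𝒜 x]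
  refine Ideal.sum_mem _ (fun i _ => ?_)
  by_cases hi : i = 0
  · subst hi
    rw [GradedRing.proj_apply] at h0x
    rw [h0x]
    exact Ideal.zero_mem _
  · obtain ⟨p, hp, hpx⟩ := exists_preimage 𝒜 r g hg1 hspan i _
      (SetLike.coe_mem (DirectSum.decompose 𝒜 x i))
    rw [← hpx]
    apply Ideal.mem_map_of_mem
    change p ∈ HomogeneousIdeal.irrelevant (CohB1.polyGrading r (𝒜 0))
    rw [HomogeneousIdeal.mem_irrelevant_iff, GradedRing.proj_apply,
      DirectSum.decompose_of_mem_ne (CohB1.polyGrading r (𝒜 0)) hp hi]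

end Psi

variable [IsNoetherianRing A]
  (hgen : (HomogeneousIdeal.irrelevant 𝒜).toIdeal = Ideal.span (𝒜 1 : Set A))
  {M τ : Type u} [AddCommGroup M] [Module A M] [SetLike τ M] [AddSubgroupClass τ M] (ℳ : ℕ → τ)
  [SetLike.GradedSMul 𝒜 ℳ] [DirectSum.Decomposition ℳ]
  (hTF : ∃ k : ℕ, (Submodule.span A (⋃ i ∈ Set.Ici k, (ℳ i : Set M))).FG)

include hgen hTF in
/-- **`M_n → Γ(Proj A, M(n)~)` is surjective for large `n`** (`A` Noetherian with irrelevant ideal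
generated by `A_1`, `M` with (TF)) -/
theorem exists_surjective :
    ∃ n0 : ℕ, ∀ n : ℕ, n0 ≤ n →
      Function.Surjective (fun m : ℳ n => GrMod.globalOf 𝒜 ℳ m) := by
  haveI : IsNoetherianRing (𝒜 0) := isNoetherianRing_zero 𝒜
  obtain ⟨r, g, hg1, hspan⟩ := exists_gens 𝒜 hgen
  exact exists_surjective_gen r 𝒜 (psi 𝒜 r g hg1) (psi_surjective 𝒜 r g hg1 hspan)
    (irrelevant_le_map 𝒜 r g hg1 hspan) ℳ hTF

end Std

section Final

variable {A σ : Type u} [CommRing A] [SetLike σ A] [AddSubgroupClass σ A] (𝒜 : ℕ → σ)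
  [GradedRing 𝒜]
  {M τ : Type u} [AddCommGroup M] [Module A M] [SetLike τ M] [AddSubgroupClass τ M] (ℳ : ℕ → τ)
  [SetLike.GradedSMul 𝒜 ℳ] [DirectSum.Decomposition ℳ]

/-- products `a * b`, `a ∈ A_e`, `b ∈ A_j` -/
def mulSet (e j : ℕ) : Set A := {y | ∃ a ∈ 𝒜 e, ∃ b ∈ 𝒜 j, y = a * b}

/-- products `a • m`, `a ∈ A_e`, `m ∈ M_k` -/
def smulSet (e k : ℕ) : Set M := {y | ∃ a ∈ 𝒜 e, ∃ m ∈ ℳ k, y = a • m}

theorem mem_closure_mulSet (r : ℕ) (g : Fin (r + 1) → A) (hg1 : ∀ j, g j ∈ 𝒜 1)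
    (hspan : ∀ (i : ℕ) (x : A), x ∈ 𝒜 (i + 1) →
      ∃ c : Fin (r + 1) → A, (∀ j, c j ∈ 𝒜 i) ∧ x = ∑ j, c j * g j) :
    ∀ (e j : ℕ) (x : A), x ∈ 𝒜 (e + j) → x ∈ AddSubgroup.closure (mulSet 𝒜 e j) := by
  intro e
  induction e with
  | zero =>
    intro j x hx
    rw [zero_add] at hx
    exact AddSubgroup.subset_closure ⟨1, SetLike.GradedOne.one_mem, x, hx, (one_mul x).symm⟩
  | succ e ih =>
    intro j x hx
    have h1 : e + 1 + j = (e + j) + 1 := by omega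
    rw [h1] at hx
    obtain ⟨c, hc, rfl⟩ := hspan (e + j) x hx
    refine AddSubgroup.sum_mem _ (fun i _ => ?_)
    have h2 := ih j (c i) (hc i)
    generalize c i = ci at h2
    induction h2 using AddSubgroup.closure_induction with
    | mem y hy =>
      obtain ⟨a, ha, b, hb, rfl⟩ := hy
      refine AddSubgroup.subset_closure ⟨a * g i, SetLike.GradedMul.mul_mem ha (hg1 i), b, hb, ?_⟩
      ring
    | zero => rw [zero_mul]; exact AddSubgroup.zero_mem _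
    | add y z _ _ hy hz => rw [add_mul]; exact AddSubgroup.add_mem _ hy hz
    | neg y _ hy => rw [neg_mul]; exact AddSubgroup.neg_mem _ hy

include 𝒜 in
theorem smul_mem_closure_smulSet {e j d k : ℕ} (hjd : j + d = k) {b : A}
    (hb : b ∈ AddSubgroup.closure (mulSet 𝒜 e j)) {t : M} (ht : t ∈ ℳ d) :
    b • t ∈ AddSubgroup.closure (smulSet 𝒜 ℳ e k) := by
  induction hb using AddSubgroup.closure_induction with
  | mem y hy =>
    obtain ⟨a, ha, b', hb', rfl⟩ := hy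
    refine AddSubgroup.subset_closure ⟨a, ha, b' • t, ?_, mul_smul a b' t⟩
    rw [← hjd]
    exact SetLike.GradedSMul.smul_mem hb' ht
  | zero => rw [zero_smul]; exact AddSubgroup.zero_mem _
  | add y z _ _ hy hz => rw [add_smul]; exact AddSubgroup.add_mem _ hy hz
  | neg y _ hy => rw [neg_smul]; exact AddSubgroup.neg_mem _ hy

/-- `M_{k+e} = A_e · M_k` for large `k` -/
theorem exists_bound_decomp (r : ℕ) (g : Fin (r + 1) → A) (hg1 : ∀ j, g j ∈ 𝒜 1)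
    (hspan : ∀ (i : ℕ) (x : A), x ∈ 𝒜 (i + 1) →
      ∃ c : Fin (r + 1) → A, (∀ j, c j ∈ 𝒜 i) ∧ x = ∑ j, c j * g j)
    (hTF : ∃ k : ℕ, (Submodule.span A (⋃ i ∈ Set.Ici k, (ℳ i : Set M))).FG) :
    ∃ D : ℕ, ∀ k : ℕ, D ≤ k → ∀ (e : ℕ) (m : M), m ∈ ℳ (k + e) →
      m ∈ AddSubgroup.closure (smulSet 𝒜 ℳ e k) := by
  classical
  obtain ⟨k0, hk0⟩ := hTF
  obtain ⟨T, hT1, hT2⟩ := (Submodule.fg_span_iff_fg_span_finset_subset _).mp hk0
  have hd : ∀ t : T, ∃ i : ℕ, k0 ≤ i ∧ t.1 ∈ ℳ i := by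
    intro t
    obtain ⟨i, hi, hti⟩ := Set.mem_iUnion₂.mp (hT1 t.2)
    exact ⟨i, hi, hti⟩
  choose d hd1 hd2 using hd
  refine ⟨max k0 (Finset.univ.sup d), fun k hk e m hm => ?_⟩
  have hk0k : k0 ≤ k := le_trans (le_max_left _ _) hk
  have hdk : ∀ t : T, d t ≤ k := fun t =>
    le_trans (le_trans (Finset.le_sup (Finset.mem_univ t)) (le_max_right _ _)) hk
  have hmT : m ∈ Submodule.span A ((T : Finset M) : Set M) := by
    rw [← hT2]
    exact Submodule.subset_span (Set.mem_iUnion₂.mpr ⟨k + e, by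
      change k0 ≤ k + e
      omega, hm⟩)
  obtain ⟨f, hf⟩ := Submodule.mem_span_finset'.mp hmT
  have hm1 : m = (DirectSum.decompose ℳ m (k + e) : M) := by
    rw [DirectSum.decompose_of_mem_same ℳ hm]
  have hsum : (DirectSum.decompose ℳ m (k + e) : M) =
      ∑ t : T, (DirectSum.decompose 𝒜 (f t) (e + (k - d t)) : A) • t.1 := by
    rw [← hf, DirectSum.decompose_sum, DFinsupp.finset_sum_apply,
      AddSubmonoidClass.coe_finset_sum]
    refine Finset.sum_congr rfl (fun t _ => ?_)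
    have h3 := Groth.Agent.Lib.Helper2GrModSect.decompose_smul 𝒜 ℳ (hd2 t) (f t)
      (e + (k - d t))
    have h4 : e + (k - d t) + d t = k + e := by have := hdk t; omega
    rw [h4] at h3
    exact h3
  rw [hm1, hsum]
  refine AddSubgroup.sum_mem _ (fun t _ => ?_)
  have hb := mem_closure_mulSet 𝒜 r g hg1 hspan e (k - d t)
    (DirectSum.decompose 𝒜 (f t) (e + (k - d t)) : A) (SetLike.coe_mem _)
  exact smul_mem_closure_smulSet 𝒜 ℳ (by have := hdk t; omega) hb (hd2 t)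

theorem sect_ext {n : ℤ} {U : (Opens (ProjectiveSpectrum.top 𝒜))ᵒᵖ} (s t : GrMod.sect 𝒜 ℳ n U)
    (h : ∀ x : U.unop, ((s.1 x).1 : GrMod.LocMod 𝒜 (M := M) x.1) = (t.1 x).1) : s = t :=
  Subtype.ext (funext fun x => Subtype.ext (h x))

theorem cast_val {n n' : ℤ} (h : n = n') {U : (Opens (ProjectiveSpectrum.top 𝒜))ᵒᵖ}
    (t : GrMod.sect 𝒜 ℳ n U) (x : U.unop) :
    (((h ▸ t : GrMod.sect 𝒜 ℳ n' U).1 x).1 : GrMod.LocMod 𝒜 (M := M) x.1) = (t.1 x).1 := by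
  subst h
  rfl

/-- elements of `A_e · M_k` give sections in `Σ_a a · Γ(M(k)~)` -/
theorem exists_sect_of_mem_closure (e k : ℕ) {m : M}
    (hm : m ∈ AddSubgroup.closure (smulSet 𝒜 ℳ e k)) :
    ∃ s ∈ (⨆ a : 𝒜 e, (GrMod.smulSect 𝒜 ℳ a (k : ℤ)
        (op (⊤ : Opens (ProjectiveSpectrum.top 𝒜)))).range),
      ∀ x : (⊤ : Opens (ProjectiveSpectrum.top 𝒜)),
        ((s.1 x).1 : GrMod.LocMod 𝒜 (M := M) x.1) = LocalizedModule.mk m 1 := by
  induction hm using AddSubgroup.closure_induction with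
  | mem y hy =>
    obtain ⟨a, ha, m', hm', rfl⟩ := hy
    refine ⟨GrMod.smulSect 𝒜 ℳ ⟨a, ha⟩ (k : ℤ) (op ⊤) (GrMod.globalOf 𝒜 ℳ ⟨m', hm'⟩),
      AddSubgroup.mem_iSup_of_mem ⟨a, ha⟩ ⟨_, rfl⟩, fun x => ?_⟩
    rw [GrMod.smulSect_apply_coe, GrMod.globalOf_apply_coe, LocalizedModule.mk_smul_mk, one_mul]
  | zero =>
    refine ⟨0, AddSubgroup.zero_mem _, fun x => ?_⟩
    rw [LocalizedModule.zero_mk]
    rfl
  | add y z _ _ hy hz =>
    obtain ⟨s1, hs1, h1⟩ := hy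
    obtain ⟨s2, hs2, h2⟩ := hz
    refine ⟨s1 + s2, AddSubgroup.add_mem _ hs1 hs2, fun x => ?_⟩
    have h3 : (((s1 + s2).1 x).1 : GrMod.LocMod 𝒜 (M := M) x.1) = (s1.1 x).1 + (s2.1 x).1 := rfl
    rw [h3, h1 x, h2 x, LocalizedModule.mk_add_mk]
    simp
  | neg y _ hy =>
    obtain ⟨s1, hs1, h1⟩ := hy
    refine ⟨-s1, AddSubgroup.neg_mem _ hs1, fun x => ?_⟩
    have h3 : (((-s1).1 x).1 : GrMod.LocMod 𝒜 (M := M) x.1) = -(s1.1 x).1 := rfl
    rw [h3, h1 x, LocalizedModule.mk_neg]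

variable [IsNoetherianRing A]
  (hgen : (HomogeneousIdeal.irrelevant 𝒜).toIdeal = Ideal.span (𝒜 1 : Set A))
  (hTF : ∃ k : ℕ, (Submodule.span A (⋃ i ∈ Set.Ici k, (ℳ i : Set M))).FG)

include hgen hTF in
/-- **`Γ(M(k+e)~) = Σ_{a ∈ A_e} a · Γ(M(k)~)` for `k ≫ 0`** -/
theorem exists_smulSect_sup_eq_top :
    ∃ k : ℕ, ∀ e : ℕ,
      (⨆ a : 𝒜 e, (GrMod.smulSect 𝒜 ℳ a (k : ℤ)
        (op (⊤ : Opens (ProjectiveSpectrum.top 𝒜)))).range) = ⊤ := by
  haveI : IsNoetherianRing (𝒜 0) := isNoetherianRing_zero 𝒜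
  obtain ⟨r, g, hg1, hspan⟩ := exists_gens 𝒜 hgen
  obtain ⟨n0, hn0⟩ := exists_surjective 𝒜 hgen ℳ hTF
  obtain ⟨D, hD⟩ := exists_bound_decomp 𝒜 ℳ r g hg1 hspan hTF
  refine ⟨max D n0, fun e => ?_⟩
  rw [eq_top_iff]
  intro t _
  have hcast : ((max D n0 + e : ℕ) : ℤ) = ((max D n0 : ℕ) : ℤ) + (e : ℤ) := Nat.cast_add _ _
  obtain ⟨m, hm⟩ := hn0 (max D n0 + e) (le_trans (le_max_right _ _) (Nat.le_add_right _ _))
    (hcast.symm ▸ t)
  obtain ⟨s, hs, hsv⟩ := exists_sect_of_mem_closure 𝒜 ℳ e (max D n0)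
    (hD (max D n0) (le_max_left _ _) e m.1 m.2)
  have hst : s = t := by
    refine sect_ext 𝒜 ℳ s t (fun x => ?_)
    rw [hsv x, ← cast_val 𝒜 ℳ hcast.symm t x]
    have h5 := congrArg (fun u : GrMod.sect 𝒜 ℳ ((max D n0 + e : ℕ) : ℤ) (op ⊤) =>
      ((u.1 x).1 : GrMod.LocMod 𝒜 (M := M) x.1)) hm
    exact h5
  rw [← hst]
  exact hs

end Final

end Groth.Agent.Lib.R2H2.GrSecTF
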