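import Groth.Agent.Lib.R2H2GrTildeQuot
set_option backward.isDefEq.respectTransparency.types false

/-!
# The graded module `M^r` (helper2, round 2)

GrTilde framework: `piGr ℳ r` on `Fin r → M`, with its decomposition; the free graded module
`A(-m)^r` and the morphisms `O(-m) ⟶ (A(-m)^r)~ ⟶ O(-m)`.
-/

set_option autoImplicit false
universe u

namespace Groth.Agent.Lib.R2H2.GrTildePi

open CategoryTheory CategoryTheory.Limits AlgebraicGeometry TopologicalSpace Opposite TopCat GrTilde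
open Groth.Agent.Lib.R2H2.GrTildeShift Groth.Agent.Lib.R2H2.GrTildeQuot

variable {R A : Type u} [CommRing R] [CommRing A] [Algebra R A] {𝒜 : ℕ → Submodule R A}
  [GradedAlgebra 𝒜]
variable {M : Type u} [AddCommGroup M] [Module R M] [Module A M] (ℳ : ℕ → Submodule R M) (r : ℕ)

/-- the grading of `M^r` -/
def piGr (i : ℕ) : Submodule R (Fin r → M) := Submodule.pi Set.univ (fun _ => ℳ i)

omit [Module A M] in
theorem mem_piGr {i : ℕ} {v : Fin r → M} : v ∈ piGr ℳ r i ↔ ∀ j, v j ∈ ℳ i := by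
  unfold piGr
  rw [Submodule.mem_pi]
  exact ⟨fun h j => h j trivial, fun h j _ => h j⟩

instance gradedSMul_piGr [SetLike.GradedSMul 𝒜 ℳ] : SetLike.GradedSMul 𝒜 (piGr ℳ r) where
  smul_mem := by
    intro i j a v ha hv
    rw [mem_piGr] at hv ⊢
    intro k
    exact SetLike.GradedSMul.smul_mem ha (hv k)

omit [Module A M] in
theorem single_mem {i : ℕ} (j : Fin r) {x : M} (hx : x ∈ ℳ i) : Pi.single j x ∈ piGr ℳ r i := by
  rw [mem_piGr]
  intro k
  by_cases h : k = j
  · subst h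
    rw [Pi.single_eq_same]
    exact hx
  · rw [Pi.single_eq_of_ne h]
    exact zero_mem _

/-- `M_i → (M^r)_i`, the `j`-th inclusion -/
def singleIncl (j : Fin r) (i : ℕ) : ℳ i →+ piGr ℳ r i where
  toFun x := ⟨Pi.single j x.1, single_mem ℳ r j x.2⟩
  map_zero' := Subtype.ext (Pi.single_zero j)
  map_add' x y := by
    apply Subtype.ext
    change (Pi.single j ((x : M) + (y : M)) : Fin r → M) =
      (Pi.single j (x : M) : Fin r → M) + (Pi.single j (y : M) : Fin r → M)
    exact Pi.single_add j _ _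

omit [Module A M] in
theorem coe_map_singleIncl (j : Fin r) (y : DirectSum ℕ fun i => ℳ i) :
    DirectSum.coeAddMonoidHom (piGr ℳ r) (DirectSum.map (singleIncl ℳ r j) y) =
      Pi.single j (DirectSum.coeAddMonoidHom ℳ y) := by
  classical
  induction y using DirectSum.induction_on with
  | zero => simp
  | of g x =>
    rw [DirectSum.map_of, DirectSum.coeAddMonoidHom_of, DirectSum.coeAddMonoidHom_of]
    rfl
  | add x y hx hy => rw [map_add, map_add, map_add, hx, hy, Pi.single_add]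

variable [DirectSum.Decomposition ℳ]

/-- the decomposition map of `M^r` -/
noncomputable def piDec : (Fin r → M) →+ DirectSum ℕ fun i => piGr ℳ r i :=
  ∑ j : Fin r, ((DirectSum.map (singleIncl ℳ r j)).comp
    (DirectSum.decomposeAddEquiv ℳ).toAddMonoidHom).comp (Pi.evalAddMonoidHom (fun _ => M) j)

omit [Module A M] in
theorem piDec_apply (v : Fin r → M) :
    piDec ℳ r v = ∑ j : Fin r, DirectSum.map (singleIncl ℳ r j) (DirectSum.decompose ℳ (v j)) := by
  unfold piDec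
  rw [AddMonoidHom.finsetSum_apply]
  rfl

noncomputable instance decomposition_piGr : DirectSum.Decomposition (piGr ℳ r) :=
  DirectSum.Decomposition.ofAddHom (piGr ℳ r) (piDec ℳ r)
    (by
      apply AddMonoidHom.ext
      intro v
      rw [AddMonoidHom.comp_apply, piDec_apply, map_sum]
      simp only [coe_map_singleIncl]
      have : ∀ j : Fin r, DirectSum.coeAddMonoidHom ℳ (DirectSum.decompose ℳ (v j)) = v j :=
        fun j => DirectSum.Decomposition.left_inv (v j)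
      simp only [this]
      exact Finset.univ_sum_single v)
    (by
      apply DirectSum.addHom_ext
      intro i w
      rw [AddMonoidHom.comp_apply, DirectSum.coeAddMonoidHom_of, piDec_apply]
      have hw : ∀ j, (w : Fin r → M) j ∈ ℳ i := (mem_piGr ℳ r).1 w.2
      have h1 : ∀ j : Fin r, DirectSum.map (singleIncl ℳ r j)
          (DirectSum.decompose ℳ ((w : Fin r → M) j)) =
          DirectSum.of (fun i => piGr ℳ r i) i (singleIncl ℳ r j i ⟨(w : Fin r → M) j, hw j⟩) := by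
        intro j
        rw [DirectSum.decompose_of_mem ℳ (hw j), DirectSum.map_of]
      simp only [h1]
      rw [← map_sum]
      have h2 : ∑ j : Fin r, singleIncl ℳ r j i ⟨(w : Fin r → M) j, hw j⟩ = w := by
        apply Subtype.ext
        rw [AddSubmonoidClass.coe_finsetSum]
        exact Finset.univ_sum_single (w : Fin r → M)
      rw [h2]
      rfl)

section free

variable (𝒜) (m r : ℕ)

/-- the grading of the free module `A(-m)^r` -/
abbrev freeGr : ℕ → Submodule R (Fin r → A) := piGr (shiftGr 𝒜 m) r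

theorem shiftsBy_proj (j : Fin r) :
    ShiftsBy (LinearMap.proj j : (Fin r → A) →ₗ[A] A) (freeGr 𝒜 m r) 𝒜 0 (-(m : ℤ)) := by
  intro i v hv
  have hv' := (mem_piGr (shiftGr 𝒜 m) r).1 hv j
  by_cases h : m ≤ i
  · right
    refine ⟨i - m, ?_, (mem_shiftGr_of_le h).1 hv'⟩
    rw [Nat.cast_sub h]
    ring
  · left
    exact eq_zero_of_mem_shiftGr_of_lt (by omega) hv'

theorem shiftsBy_single (j : Fin r) :
    ShiftsBy (LinearMap.single A (fun _ : Fin r => A) j) 𝒜 (freeGr 𝒜 m r) (-(m : ℤ)) 0 := by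
  intro i a ha
  right
  refine ⟨i + m, ?_, single_mem (shiftGr 𝒜 m) r j (mem_shiftGr_add.2 ha)⟩
  push_cast
  ring

/-- `(A(-m)^r)~ ⟶ O(-m)`, the `j`-th projection -/
noncomputable def pr (j : Fin r) : tilde 𝒜 (freeGr 𝒜 m r) 0 ⟶ tilde 𝒜 𝒜 (-(m : ℤ)) :=
  tmap (LinearMap.proj j) (shiftsBy_proj 𝒜 m r j)

/-- `O(-m) ⟶ (A(-m)^r)~`, the `j`-th inclusion -/
noncomputable def inc (j : Fin r) : tilde 𝒜 𝒜 (-(m : ℤ)) ⟶ tilde 𝒜 (freeGr 𝒜 m r) 0 :=
  tmap (LinearMap.single A (fun _ : Fin r => A) j) (shiftsBy_single 𝒜 m r j)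

theorem inc_pr_same (j : Fin r) : inc 𝒜 m r j ≫ pr 𝒜 m r j = 𝟙 _ := by
  unfold inc pr
  have h : ShiftsBy ((LinearMap.proj j : (Fin r → A) →ₗ[A] A) ∘ₗ
      (LinearMap.single A (fun _ : Fin r => A) j)) 𝒜 𝒜 (-(m : ℤ)) (-(m : ℤ)) := by
    rw [LinearMap.proj_comp_single_same]
    exact shiftsBy_of_preserves _ (fun _ _ h => h) _
  rw [tmap_comp _ _ _ _ h]
  have h' : ShiftsBy (LinearMap.id : A →ₗ[A] A) 𝒜 𝒜 (-(m : ℤ)) (-(m : ℤ)) :=
    shiftsBy_of_preserves _ (fun _ _ h => h) _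
  rw [tmap_congr (LinearMap.proj_comp_single_same (R := A) (φ := fun _ : Fin r => A) j) h h',
    tmap_id]

theorem inc_pr_ne (j j' : Fin r) (hne : j' ≠ j) : inc 𝒜 m r j ≫ pr 𝒜 m r j' = 0 := by
  unfold inc pr
  have e : (LinearMap.proj j' : (Fin r → A) →ₗ[A] A) ∘ₗ
      (LinearMap.single A (fun _ : Fin r => A) j) = 0 :=
    LinearMap.proj_comp_single_ne (R := A) (φ := fun _ : Fin r => A) j' j hne
  have h : ShiftsBy ((LinearMap.proj j' : (Fin r → A) →ₗ[A] A) ∘ₗ
      (LinearMap.single A (fun _ : Fin r => A) j)) 𝒜 𝒜 (-(m : ℤ)) (-(m : ℤ)) := by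
    rw [e]
    exact fun _ _ _ => Or.inl rfl
  rw [tmap_comp _ _ _ _ h]
  have h' : ShiftsBy (0 : A →ₗ[A] A) 𝒜 𝒜 (-(m : ℤ)) (-(m : ℤ)) := fun _ _ _ => Or.inl rfl
  rw [tmap_congr e h h', tmap_zero]

/-- **an epimorphism from the tilde of a finite free graded module**, out of a jointly epimorphic
family `O(-m) ⟶ F` -/
theorem exists_epi_free (F : (Proj 𝒜).Modules) (φ : Fin r → (tilde 𝒜 𝒜 (-(m : ℤ)) ⟶ F))
    (hφ : ∀ {Z : (Proj 𝒜).Modules} (a b : F ⟶ Z), (∀ j, φ j ≫ a = φ j ≫ b) → a = b) :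
    ∃ π : tilde 𝒜 (freeGr 𝒜 m r) 0 ⟶ F, Epi π := by
  classical
  refine ⟨∑ j : Fin r, pr 𝒜 m r j ≫ φ j, ⟨fun {Z} a b hab => hφ a b (fun j => ?_)⟩⟩
  have h1 : inc 𝒜 m r j ≫ (∑ j' : Fin r, pr 𝒜 m r j' ≫ φ j') = φ j := by
    rw [Preadditive.comp_sum, Finset.sum_eq_single j]
    · rw [← Category.assoc, inc_pr_same, Category.id_comp]
    · intro j' _ hne
      rw [← Category.assoc, inc_pr_ne 𝒜 m r j j' hne, zero_comp]
    · intro h
      exact (h (Finset.mem_univ j)).elim
  rw [← h1, Category.assoc, Category.assoc, hab]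

end free

end Groth.Agent.Lib.R2H2.GrTildePi
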