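import Groth.Agent.Lib.R2H2GrTildeShift
import Groth.Agent.Lib.Helper13GrTildeFrac
set_option backward.isDefEq.respectTransparency.types false

/-!
# Functoriality of `tmap`, graded quotients (helper2, round 2)

GrTilde framework (`ℕ → Submodule R M` gradings).
* `secVal_tmap`, `tmap_frac` : `tmap` on values and on the sections `m / g^k`;
* `tmap_comp`, `tmap_id`, `tmap_add`, `tmap_zero`;
* `IsHomog ℳ P`, `quotGr ℳ P`, `quotDecomposition`, `quot_gradedSMul` : the graded module `M/P`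
  for a homogeneous submodule `P`;
* `isHomog_of_forall_component` style helper `homogPart`.
-/

set_option autoImplicit false
universe u

namespace Groth.Agent.Lib.R2H2.GrTildeQuot

open CategoryTheory CategoryTheory.Limits AlgebraicGeometry TopologicalSpace Opposite TopCat GrTilde
open Groth.Agent.Lib.R2H2.GrTildeShift Groth.Agent.Lib.Helper27GrTildeSect
  Groth.Agent.Helper13GrTildeFrac

variable {R A : Type u} [CommRing R] [CommRing A] [Algebra R A] {𝒜 : ℕ → Submodule R A}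
  [GradedAlgebra 𝒜]

section functoriality

variable {M : Type u} [AddCommGroup M] [Module R M] [Module A M] [IsScalarTower R A M]
  {ℳ : ℕ → Submodule R M} [DirectSum.Decomposition ℳ] [SetLike.GradedSMul 𝒜 ℳ]
variable {N : Type u} [AddCommGroup N] [Module R N] [Module A N] [IsScalarTower R A N]
  {𝒩 : ℕ → Submodule R N} [DirectSum.Decomposition 𝒩] [SetLike.GradedSMul 𝒜 𝒩]
variable {Q : Type u} [AddCommGroup Q] [Module R Q] [Module A Q] [IsScalarTower R A Q]
  {𝒬 : ℕ → Submodule R Q} [DirectSum.Decomposition 𝒬] [SetLike.GradedSMul 𝒜 𝒬]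

theorem secVal_tmap (u : M →ₗ[A] N) {n n' : ℤ} (hu : ShiftsBy u ℳ 𝒩 n n')
    (W : (Proj 𝒜).Opens) (s : Γ(tilde 𝒜 ℳ n, W)) (y : ProjectiveSpectrum 𝒜) (hy : y ∈ W) :
    secVal 𝒜 𝒩 n' W ((tmap u hu).app W s) y hy = locMap u y (secVal 𝒜 ℳ n W s y hy) := rfl

omit [DirectSum.Decomposition ℳ] [DirectSum.Decomposition 𝒩] [IsScalarTower R A M]
  [IsScalarTower R A N] [SetLike.GradedSMul 𝒜 ℳ] [SetLike.GradedSMul 𝒜 𝒩] in
/-- a degree preserving map shifts by `0` -/
theorem shiftsBy_of_preserves (u : M →ₗ[A] N) (hu : ∀ (i : ℕ) (m : M), m ∈ ℳ i → u m ∈ 𝒩 i)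
    (n : ℤ) : ShiftsBy u ℳ 𝒩 n n :=
  fun i m hm => Or.inr ⟨i, rfl, hu i m hm⟩

/-- `tmap` on the sections `m / g^k` -/
theorem tmap_frac (u : M →ₗ[A] N) (hu : ∀ (i : ℕ) (m : M), m ∈ ℳ i → u m ∈ 𝒩 i)
    {g : A} {d : ℕ} (hg : g ∈ 𝒜 d) (k : ℕ) {m : M} (hm : m ∈ ℳ (k * d)) :
    (tmap u (shiftsBy_of_preserves u hu 0)).app (Proj.basicOpen 𝒜 g) (frac 𝒜 ℳ hg k hm) =
      frac 𝒜 𝒩 hg k (hu _ m hm) := by
  apply sec_ext
  intro y hy
  rw [secVal_tmap, secVal_frac, secVal_frac, locMap_mk]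

theorem mapApp_comp (u : M →ₗ[A] N) (v : N →ₗ[A] Q) {n n' n'' : ℤ} (hu : ShiftsBy u ℳ 𝒩 n n')
    (hv : ShiftsBy v 𝒩 𝒬 n' n'') (huv : ShiftsBy (v ∘ₗ u) ℳ 𝒬 n n'')
    (U : (Opens (ProjectiveSpectrum.top 𝒜))ᵒᵖ) (σ : sect 𝒜 ℳ n U) :
    mapApp v hv U (mapApp u hu U σ) = mapApp (v ∘ₗ u) huv U σ := by
  refine Subtype.ext (funext fun x => Subtype.ext ?_)
  change locMap v x.1 (locMap u x.1 (σ.1 x).1) = locMap (v ∘ₗ u) x.1 (σ.1 x).1
  induction (σ.1 x).1 using LocalizedModule.induction_on with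
  | h m s => rw [locMap_mk, locMap_mk, locMap_mk]; rfl

theorem tmap_comp (u : M →ₗ[A] N) (v : N →ₗ[A] Q) {n n' n'' : ℤ} (hu : ShiftsBy u ℳ 𝒩 n n')
    (hv : ShiftsBy v 𝒩 𝒬 n' n'') (huv : ShiftsBy (v ∘ₗ u) ℳ 𝒬 n n'') :
    (tmap u hu : tilde 𝒜 ℳ n ⟶ tilde 𝒜 𝒩 n') ≫ (tmap v hv : tilde 𝒜 𝒩 n' ⟶ tilde 𝒜 𝒬 n'') =
      (tmap (v ∘ₗ u) huv : tilde 𝒜 ℳ n ⟶ tilde 𝒜 𝒬 n'') := by
  apply SheafOfModules.hom_ext (X := tilde 𝒜 ℳ n) (Y := tilde 𝒜 𝒬 n'')
  apply PresheafOfModules.hom_ext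
  intro U
  apply ModuleCat.hom_ext
  apply LinearMap.ext
  intro σ
  exact mapApp_comp u v hu hv huv U σ

omit [DirectSum.Decomposition ℳ] [DirectSum.Decomposition 𝒩] [IsScalarTower R A M]
  [IsScalarTower R A N] in
theorem tmap_congr {u u' : M →ₗ[A] N} (h : u = u') {n n' : ℤ} (hu : ShiftsBy u ℳ 𝒩 n n')
    (hu' : ShiftsBy u' ℳ 𝒩 n n') :
    (tmap u hu : tilde 𝒜 ℳ n ⟶ tilde 𝒜 𝒩 n') = tmap u' hu' := by
  subst h
  rfl

theorem mapApp_id (n : ℤ) (h : ShiftsBy (LinearMap.id : M →ₗ[A] M) ℳ ℳ n n)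
    (U : (Opens (ProjectiveSpectrum.top 𝒜))ᵒᵖ) (σ : sect 𝒜 ℳ n U) :
    mapApp LinearMap.id h U σ = σ := by
  refine Subtype.ext (funext fun x => Subtype.ext ?_)
  change locMap LinearMap.id x.1 (σ.1 x).1 = (σ.1 x).1
  rw [locMap_id]

theorem tmap_id (n : ℤ) (h : ShiftsBy (LinearMap.id : M →ₗ[A] M) ℳ ℳ n n) :
    tmap LinearMap.id h = 𝟙 (tilde 𝒜 ℳ n) := by
  apply SheafOfModules.hom_ext
  apply PresheafOfModules.hom_ext
  intro U
  apply ModuleCat.hom_ext
  apply LinearMap.ext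
  intro σ
  exact mapApp_id n h U σ

theorem mapApp_zero {n n' : ℤ} (h : ShiftsBy (0 : M →ₗ[A] N) ℳ 𝒩 n n')
    (U : (Opens (ProjectiveSpectrum.top 𝒜))ᵒᵖ) (σ : sect 𝒜 ℳ n U) :
    mapApp (0 : M →ₗ[A] N) h U σ = 0 := by
  refine Subtype.ext (funext fun x => Subtype.ext ?_)
  change locMap (0 : M →ₗ[A] N) x.1 (σ.1 x).1 = 0
  induction (σ.1 x).1 using LocalizedModule.induction_on with
  | h m s => rw [locMap_mk, LinearMap.zero_apply, LocalizedModule.zero_mk]

theorem tmap_zero {n n' : ℤ} (h : ShiftsBy (0 : M →ₗ[A] N) ℳ 𝒩 n n') :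
    (tmap (0 : M →ₗ[A] N) h : tilde 𝒜 ℳ n ⟶ tilde 𝒜 𝒩 n') = 0 := by
  apply SheafOfModules.hom_ext (X := tilde 𝒜 ℳ n) (Y := tilde 𝒜 𝒩 n')
  apply PresheafOfModules.hom_ext
  intro U
  apply ModuleCat.hom_ext
  apply LinearMap.ext
  intro σ
  exact mapApp_zero h U σ

end functoriality

section quot

variable {M : Type u} [AddCommGroup M] [Module R M] [Module A M] [IsScalarTower R A M]
  (ℳ : ℕ → Submodule R M) (P : Submodule A M)

variable (R) in
/-- the quotient map as an `R`-linear map -/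
noncomputable def mkR : M →ₗ[R] (M ⧸ P) := (Submodule.mkQ P).restrictScalars R

theorem mkR_apply (x : M) : mkR R P x = Submodule.Quotient.mk x := rfl

/-- the graded pieces of the quotient -/
noncomputable def quotGr (n : ℕ) : Submodule R (M ⧸ P) := (ℳ n).map (mkR R P)

theorem mem_quotGr {n : ℕ} {y : M ⧸ P} : y ∈ quotGr ℳ P n ↔ ∃ a ∈ ℳ n, mkR R P a = y := Iff.rfl

/-- component projection maps -/
noncomputable def projPiece (n : ℕ) : ↥(ℳ n) →+ ↥(quotGr ℳ P n) where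
  toFun x := ⟨mkR R P (x : M), (x : M), x.2, rfl⟩
  map_zero' := Subtype.ext (map_zero (mkR R P))
  map_add' x y := Subtype.ext (map_add (mkR R P) (x : M) (y : M))

theorem coe_map_projPiece (y : DirectSum ℕ fun n => ℳ n) :
    DirectSum.coeAddMonoidHom (quotGr ℳ P) (DirectSum.map (projPiece ℳ P) y) =
      mkR R P (DirectSum.coeAddMonoidHom ℳ y) := by
  classical
  induction y using DirectSum.induction_on with
  | zero => simp
  | of g x =>
    rw [DirectSum.map_of, DirectSum.coeAddMonoidHom_of, DirectSum.coeAddMonoidHom_of]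
    rfl
  | add x y hx hy => rw [map_add, map_add, map_add, map_add, hx, hy]

variable [DirectSum.Decomposition ℳ]

/-- the decomposition map before passing to the quotient -/
noncomputable def preDec : M →+ DirectSum ℕ fun n => quotGr ℳ P n :=
  (DirectSum.map (projPiece ℳ P)).comp (DirectSum.decomposeAddEquiv ℳ).toAddMonoidHom

theorem preDec_apply (x : M) :
    preDec ℳ P x = DirectSum.map (projPiece ℳ P) (DirectSum.decompose ℳ x) := rfl

/-- homogeneity of a submodule -/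
def IsHomog : Prop := ∀ (d : ℕ) (x : M), x ∈ P → (DirectSum.decompose ℳ x d : M) ∈ P

variable {ℳ P} (hP : IsHomog ℳ P)

include hP in
theorem preDec_eq_zero {x : M} (hx : x ∈ P) : preDec ℳ P x = 0 := by
  rw [preDec_apply]
  ext g
  rw [DirectSum.map_apply, DirectSum.zero_apply]
  change mkR R P ((DirectSum.decompose ℳ x) g : M) = 0
  rw [mkR_apply, Submodule.Quotient.mk_eq_zero]
  exact hP g x hx

/-- the decomposition map on the quotient -/
noncomputable def decHom : (M ⧸ P) →+ DirectSum ℕ fun n => quotGr ℳ P n :=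
  QuotientAddGroup.lift (Submodule.toAddSubgroup P) (preDec ℳ P)
    (fun _ hx => preDec_eq_zero hP hx)

theorem decHom_mk (x : M) :
    decHom hP (Submodule.Quotient.mk x) = preDec ℳ P x := rfl

/-- the induced decomposition on the quotient by a homogeneous submodule. -/
@[instance_reducible]
noncomputable def quotDecomposition : DirectSum.Decomposition (quotGr ℳ P) :=
  DirectSum.Decomposition.ofAddHom (quotGr ℳ P) (decHom hP)
    (by
      apply AddMonoidHom.ext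
      intro y
      obtain ⟨x, rfl⟩ := Submodule.Quotient.mk_surjective _ y
      rw [AddMonoidHom.comp_apply, decHom_mk, preDec_apply, coe_map_projPiece]
      have : DirectSum.coeAddMonoidHom ℳ (DirectSum.decompose ℳ x) = x :=
        DirectSum.Decomposition.left_inv x
      rw [this]
      rfl)
    (by
      apply DirectSum.addHom_ext
      rintro g ⟨y, a, ha, rfl⟩
      rw [AddMonoidHom.comp_apply, DirectSum.coeAddMonoidHom_of]
      change decHom hP (Submodule.Quotient.mk a) = _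
      rw [decHom_mk, preDec_apply, DirectSum.decompose_of_mem ℳ ha, DirectSum.map_of]
      rfl)

variable (ℳ P) in
omit [DirectSum.Decomposition ℳ] in
theorem quot_gradedSMul [SetLike.GradedSMul 𝒜 ℳ] : SetLike.GradedSMul 𝒜 (quotGr ℳ P) where
  smul_mem := by
    rintro i j r y hr ⟨a, ha, rfl⟩
    refine ⟨r • a, SetLike.GradedSMul.smul_mem hr ha, ?_⟩
    rw [mkR_apply, mkR_apply]
    rfl

variable (ℳ P) in
omit [DirectSum.Decomposition ℳ] in
theorem mkQ_preserves (i : ℕ) (m : M) (hm : m ∈ ℳ i) : Submodule.mkQ P m ∈ quotGr ℳ P i :=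
  ⟨m, hm, rfl⟩

end quot

end Groth.Agent.Lib.R2H2.GrTildeQuot
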