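import Groth.Prelude.Def_GrMod2
import Groth.Agent.Lib.Helper27GrTildeSect4
import Groth.Agent.Lib.Helper23FinTypeLocal
import Groth.Agent.S3561
set_option backward.isDefEq.respectTransparency.types false

/-!
# Morphisms between the modules `M(n)~` on `Proj` and the shift of a graded module (helper2, round 2)

* `tmap u hu : M(n)~ ⟶ N(n')~` for an `A`-linear map `u : M → N` shifting degrees by `n - n'`
  (GrTilde framework, `ℕ → Submodule R M` gradings);
* `shiftGr ℳ k` : the graded module `M(-k)` (`(M(-k))_i = M_{i-k}`), with its decomposition;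
* `shiftIso` : `M(-k)(n)~ ≅ M(n-k)~`;
* `isFT_twist_neg` : `O(-k)` is of finite type when `A₊` is finitely generated.
-/

set_option autoImplicit false
universe u

namespace Groth.Agent.Lib.R2H2.GrTildeShift

open CategoryTheory CategoryTheory.Limits AlgebraicGeometry TopologicalSpace Opposite TopCat GrTilde

variable {R A : Type u} [CommRing R] [CommRing A] [Algebra R A] {𝒜 : ℕ → Submodule R A}
  [GradedAlgebra 𝒜]
variable {M : Type u} [AddCommGroup M] [Module R M] [Module A M] {ℳ : ℕ → Submodule R M}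
variable {N : Type u} [AddCommGroup N] [Module R N] [Module A N] {𝒩 : ℕ → Submodule R N}

section tmap

/-- `u` carries degree `i` into degree `i + n' - n` (or to zero) -/
def ShiftsBy (u : M →ₗ[A] N) (ℳ : ℕ → Submodule R M) (𝒩 : ℕ → Submodule R N) (n n' : ℤ) : Prop :=
  ∀ (i : ℕ) (m : M), m ∈ ℳ i → u m = 0 ∨ ∃ i' : ℕ, (i' : ℤ) + n = i + n' ∧ u m ∈ 𝒩 i'

variable (u : M →ₗ[A] N) {n n' : ℤ} (hu : ShiftsBy u ℳ 𝒩 n n')

/-- the induced map of localized modules, as an additive map -/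
noncomputable abbrev locMap (x : ProjectiveSpectrum 𝒜) :
    LocMod 𝒜 (M := M) x →+ LocMod 𝒜 (M := N) x :=
  (LocalizedModule.map x.asHomogeneousIdeal.toIdeal.primeCompl u).toAddMonoidHom

omit [Module R M] [Module R N] in
theorem locMap_mk (x : ProjectiveSpectrum 𝒜) (m : M)
    (s : x.asHomogeneousIdeal.toIdeal.primeCompl) :
    locMap u x (LocalizedModule.mk m s) = LocalizedModule.mk (u m) s :=
  LocalizedModule.map_mk _ u m s

include hu in
theorem locMap_mem (x : ProjectiveSpectrum 𝒜) {q : LocMod 𝒜 (M := M) x}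
    (hq : q ∈ tildeAt 𝒜 ℳ n x) : locMap u x q ∈ tildeAt 𝒜 𝒩 n' x := by
  induction hq using Submodule.span_induction with
  | mem q h =>
    obtain ⟨i, j, m, s, hs, hij, rfl⟩ := h
    rw [locMap_mk]
    rcases hu i m.1 m.2 with h0 | ⟨i', hi', hmem⟩
    · rw [h0, LocalizedModule.zero_mk]
      exact zero_mem _
    · exact Submodule.subset_span ⟨i', j, ⟨u m.1, hmem⟩, s, hs, by omega, rfl⟩
  | zero => rw [map_zero]; exact zero_mem _
  | add q q' _ _ h h' => rw [map_add]; exact add_mem h h'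
  | smul c q _ h =>
    rw [a0_smul_def]
    change (LocalizedModule.map _ u) (c.val • q) ∈ _
    rw [LinearMap.map_smul, ← a0_smul_def]
    exact Submodule.smul_mem _ c h

variable (U : (Opens (ProjectiveSpectrum.top 𝒜))ᵒᵖ)

/-- the map on dependent functions, pointwise -/
noncomputable def mapFn (f : ∀ x : U.unop, tildeAt 𝒜 ℳ n x.1) (x : U.unop) : tildeAt 𝒜 𝒩 n' x.1 :=
  ⟨locMap u x.1 (f x).1, locMap_mem u hu x.1 (f x).2⟩

@[simp] theorem mapFn_coe (f : ∀ x : U.unop, tildeAt 𝒜 ℳ n x.1) (x : U.unop) :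
    ((mapFn u hu U f x : tildeAt 𝒜 𝒩 n' x.1) : LocMod 𝒜 (M := N) x.1) = locMap u x.1 (f x).1 :=
  rfl

theorem isLocFrac_mapFn (f : ∀ x : U.unop, tildeAt 𝒜 ℳ n x.1)
    (hf : (isLocFrac 𝒜 ℳ n).pred f) : (isLocFrac 𝒜 𝒩 n').pred (mapFn u hu U f) := fun x => by
  rcases hf x with ⟨V, mV, iV, i, j, m, s, nin, c, w⟩
  rcases hu i m.1 m.2 with h0 | ⟨i', hi', hmem⟩
  · refine ⟨V, mV, iV, 0, j, ⟨0, zero_mem _⟩, s, nin, Or.inr rfl, fun y => ?_⟩
    change locMap u y.1 (f (iV y)).1 = _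
    rw [w y, locMap_mk, h0]
  · refine ⟨V, mV, iV, i', j, ⟨u m.1, hmem⟩, s, nin, ?_, fun y => ?_⟩
    · rcases c with c | c
      · exact Or.inl (by omega)
      · exact Or.inr (show u (m : M) = 0 by rw [c, map_zero])
    · change locMap u y.1 (f (iV y)).1 = _
      rw [w y, locMap_mk]

variable [SetLike.GradedSMul 𝒜 ℳ] [SetLike.GradedSMul 𝒜 𝒩]

/-- the map on sections over `U`, as an additive map -/
noncomputable def mapApp : sect 𝒜 ℳ n U →+ sect 𝒜 𝒩 n' U where
  toFun f := ⟨mapFn u hu U f.1, isLocFrac_mapFn u hu U f.1 f.2⟩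
  map_zero' := by
    refine Subtype.ext (funext fun x => Subtype.ext ?_)
    rw [mapFn_coe]
    simp
  map_add' f g := by
    refine Subtype.ext (funext fun x => Subtype.ext ?_)
    rw [mapFn_coe]
    simp only [AddMemClass.coe_add, Pi.add_apply, map_add, mapFn_coe]

theorem mapApp_smul (r : Twist.O (𝒜 := 𝒜) U) (f : sect 𝒜 ℳ n U) :
    mapApp u hu U (r • f) = r • mapApp u hu U f := by
  refine Subtype.ext (funext fun x => Subtype.ext ?_)
  change locMap u x.1 (((r • f : sect 𝒜 ℳ n U).1 x : tildeAt 𝒜 ℳ n x.1) : LocMod 𝒜 x.1) =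
    (((r • mapApp u hu U f : sect 𝒜 𝒩 n' U).1 x : tildeAt 𝒜 𝒩 n' x.1) : LocMod 𝒜 x.1)
  have h1 : (((r • f : sect 𝒜 ℳ n U).1 x : tildeAt 𝒜 ℳ n x.1) : LocMod 𝒜 x.1) =
      (r.1 x).val • ((f.1 x).1) :=
    coe_smul_val n x.1 (r.1 x) (f.1 x)
  have h2 : (((r • mapApp u hu U f : sect 𝒜 𝒩 n' U).1 x : tildeAt 𝒜 𝒩 n' x.1) : LocMod 𝒜 x.1) =
      (r.1 x).val • locMap u x.1 (f.1 x).1 :=
    coe_smul_val n' x.1 (r.1 x) _
  rw [h1, h2]
  exact LinearMap.map_smul (LocalizedModule.map _ u) (r.1 x).val (f.1 x).1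

/-- the morphism `M(n)~ ⟶ N(n')~` attached to a linear map shifting degrees by `n' - n` -/
noncomputable def tmap : tilde 𝒜 ℳ n ⟶ tilde 𝒜 𝒩 n' :=
  ⟨PresheafOfModules.homMk
    { app := fun U => AddCommGrpCat.ofHom (mapApp u hu U)
      naturality := fun _ _ _ => rfl }
    fun U r s => mapApp_smul u hu U r s⟩

theorem tmap_app_apply (V : (Proj 𝒜).Opens) (s : Γ(tilde 𝒜 ℳ n, V)) :
    (tmap u hu).app V s = mapApp u hu (op V) s := rfl

end tmap


section shift

variable (ℳ) in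
/-- the graded pieces of `M(-k)` : `(M(-k))_i = M_{i-k}` -/
def shiftGr (k : ℕ) (i : ℕ) : Submodule R M := if k ≤ i then ℳ (i - k) else ⊥

omit [Module A M] in
theorem mem_shiftGr_add {k i : ℕ} {m : M} : m ∈ shiftGr ℳ k (i + k) ↔ m ∈ ℳ i := by
  unfold shiftGr
  rw [if_pos (Nat.le_add_left k i), Nat.add_sub_cancel]

omit [Module A M] in
theorem mem_shiftGr_of_le {k i : ℕ} (h : k ≤ i) {m : M} :
    m ∈ shiftGr ℳ k i ↔ m ∈ ℳ (i - k) := by
  unfold shiftGr
  rw [if_pos h]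

omit [Module A M] in
theorem eq_zero_of_mem_shiftGr_of_lt {k i : ℕ} (h : i < k) {m : M} (hm : m ∈ shiftGr ℳ k i) :
    m = 0 := by
  unfold shiftGr at hm
  rw [if_neg (by omega)] at hm
  exact (Submodule.mem_bot R).1 hm

instance gradedSMul_shiftGr [SetLike.GradedSMul 𝒜 ℳ] (k : ℕ) :
    SetLike.GradedSMul 𝒜 (shiftGr ℳ k) where
  smul_mem := by
    intro i j a m ha hm
    by_cases h : k ≤ j
    · rw [mem_shiftGr_of_le h] at hm
      have h1 : a • m ∈ ℳ (i + (j - k)) := SetLike.GradedSMul.smul_mem ha hm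
      rw [vadd_eq_add, mem_shiftGr_of_le (by omega)]
      have e : i + j - k = i + (j - k) := by omega
      rw [e]
      exact h1
    · rw [eq_zero_of_mem_shiftGr_of_lt (by omega) hm, smul_zero]
      exact zero_mem _

variable (ℳ) in
/-- `M_i → (M(-k))_{i+k}` -/
def shiftIncl (k i : ℕ) : ℳ i →+ shiftGr ℳ k (i + k) where
  toFun x := ⟨x.1, mem_shiftGr_add.2 x.2⟩
  map_zero' := rfl
  map_add' _ _ := rfl

variable (ℳ) in
/-- reindexing of the direct sum -/
noncomputable def shiftHom (k : ℕ) : (DirectSum ℕ fun i => ℳ i) →+ DirectSum ℕ fun i => shiftGr ℳ k i :=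
  DirectSum.toAddMonoid fun i =>
    (DirectSum.of (fun j => shiftGr ℳ k j) (i + k)).comp (shiftIncl ℳ k i)

omit [Module A M] in
theorem shiftHom_of (k i : ℕ) (y : ℳ i) :
    shiftHom ℳ k (DirectSum.of (fun i => ℳ i) i y) =
      DirectSum.of (fun j => shiftGr ℳ k j) (i + k) (shiftIncl ℳ k i y) := by
  unfold shiftHom
  rw [DirectSum.toAddMonoid_of]
  rfl

omit [Module A M] in
theorem coe_shiftHom (k : ℕ) (x : DirectSum ℕ fun i => ℳ i) :
    DirectSum.coeAddMonoidHom (shiftGr ℳ k) (shiftHom ℳ k x) = DirectSum.coeAddMonoidHom ℳ x := by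
  induction x using DirectSum.induction_on with
  | zero => rw [map_zero, map_zero, map_zero]
  | of i y =>
    rw [shiftHom_of, DirectSum.coeAddMonoidHom_of, DirectSum.coeAddMonoidHom_of]
    rfl
  | add x y hx hy => rw [map_add, map_add, map_add, hx, hy]

omit [Module A M] in
theorem of_congr_shift (k : ℕ) {a b : ℕ} (h : a = b) (m : M) (ha : m ∈ shiftGr ℳ k a)
    (hb : m ∈ shiftGr ℳ k b) :
    DirectSum.of (fun j => shiftGr ℳ k j) a ⟨m, ha⟩ = DirectSum.of (fun j => shiftGr ℳ k j) b ⟨m, hb⟩ := by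
  subst h
  rfl

noncomputable instance decomposition_shiftGr [DirectSum.Decomposition ℳ] (k : ℕ) :
    DirectSum.Decomposition (shiftGr ℳ k) :=
  DirectSum.Decomposition.ofAddHom (shiftGr ℳ k)
    ((shiftHom ℳ k).comp (DirectSum.decomposeAddEquiv ℳ).toAddMonoidHom)
    (by
      ext m
      change DirectSum.coeAddMonoidHom (shiftGr ℳ k) (shiftHom ℳ k (DirectSum.decompose ℳ m)) = m
      rw [coe_shiftHom]
      exact DirectSum.Decomposition.left_inv m)
    (by
      apply DirectSum.addHom_ext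
      intro j y
      change shiftHom ℳ k (DirectSum.decompose ℳ
        (DirectSum.coeAddMonoidHom (shiftGr ℳ k) (DirectSum.of (fun j => shiftGr ℳ k j) j y))) =
        DirectSum.of (fun j => shiftGr ℳ k j) j y
      rw [DirectSum.coeAddMonoidHom_of]
      by_cases h : k ≤ j
      · have hy : (y : M) ∈ ℳ (j - k) := (mem_shiftGr_of_le h).1 y.2
        rw [DirectSum.decompose_of_mem ℳ hy, shiftHom_of]
        exact of_congr_shift k (by omega) (y : M) _ y.2
      · have hy : (y : M) = 0 := eq_zero_of_mem_shiftGr_of_lt (by omega) y.2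
        have hy' : y = 0 := Subtype.ext hy
        rw [hy, DirectSum.decompose_zero, map_zero, hy', map_zero])

end shift

section shiftIso

omit [Module R M] in
theorem locMap_id (x : ProjectiveSpectrum 𝒜) (q : LocMod 𝒜 (M := M) x) :
    locMap (LinearMap.id : M →ₗ[A] M) x q = q := by
  change (LocalizedModule.map x.asHomogeneousIdeal.toIdeal.primeCompl
    (LinearMap.id : M →ₗ[A] M)) q = q
  rw [LocalizedModule.map_id]
  rfl

variable {ℳ' : ℕ → Submodule R M} [SetLike.GradedSMul 𝒜 ℳ] [SetLike.GradedSMul 𝒜 ℳ']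

theorem mapApp_id_id {n n' : ℤ} (h1 : ShiftsBy (LinearMap.id : M →ₗ[A] M) ℳ ℳ' n n')
    (h2 : ShiftsBy (LinearMap.id : M →ₗ[A] M) ℳ' ℳ n' n)
    (U : (Opens (ProjectiveSpectrum.top 𝒜))ᵒᵖ) (f : sect 𝒜 ℳ n U) :
    mapApp LinearMap.id h2 U (mapApp LinearMap.id h1 U f) = f := by
  refine Subtype.ext (funext fun x => Subtype.ext ?_)
  change locMap LinearMap.id x.1 (locMap LinearMap.id x.1 (f.1 x).1) = (f.1 x).1
  rw [locMap_id, locMap_id]

/-- two gradings on the same module with the same fractions give isomorphic modules -/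
noncomputable def idIso {n n' : ℤ} (h1 : ShiftsBy (LinearMap.id : M →ₗ[A] M) ℳ ℳ' n n')
    (h2 : ShiftsBy (LinearMap.id : M →ₗ[A] M) ℳ' ℳ n' n) :
    tilde 𝒜 ℳ n ≅ tilde 𝒜 ℳ' n' where
  hom := tmap LinearMap.id h1
  inv := tmap LinearMap.id h2
  hom_inv_id := by
    apply SheafOfModules.hom_ext
    apply PresheafOfModules.hom_ext
    intro U
    apply ModuleCat.hom_ext
    apply LinearMap.ext
    intro σ
    exact mapApp_id_id h1 h2 U σ
  inv_hom_id := by
    apply SheafOfModules.hom_ext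
    apply PresheafOfModules.hom_ext
    intro U
    apply ModuleCat.hom_ext
    apply LinearMap.ext
    intro σ
    exact mapApp_id_id h2 h1 U σ

omit [SetLike.GradedSMul 𝒜 ℳ] in
theorem shiftsBy_id_down (k : ℕ) {n n' : ℤ} (h : n' = n - k) :
    ShiftsBy (LinearMap.id : M →ₗ[A] M) (shiftGr ℳ k) ℳ n n' := by
  intro i m hm
  by_cases hk : k ≤ i
  · right
    refine ⟨i - k, ?_, (mem_shiftGr_of_le hk).1 hm⟩
    rw [h, Nat.cast_sub hk]
    ring
  · left
    exact eq_zero_of_mem_shiftGr_of_lt (by omega) hm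

omit [SetLike.GradedSMul 𝒜 ℳ] in
theorem shiftsBy_id_up (k : ℕ) {n n' : ℤ} (h : n' = n - k) :
    ShiftsBy (LinearMap.id : M →ₗ[A] M) ℳ (shiftGr ℳ k) n' n := by
  intro i m hm
  right
  refine ⟨i + k, ?_, mem_shiftGr_add.2 hm⟩
  rw [h]
  push_cast
  ring

/-- **`M(-k)(n)~ ≅ M(n-k)~`** -/
noncomputable def shiftIso (k : ℕ) {n n' : ℤ} (h : n' = n - k) :
    tilde 𝒜 (shiftGr ℳ k) n ≅ tilde 𝒜 ℳ n' :=
  idIso (shiftsBy_id_down k h) (shiftsBy_id_up k h)

end shiftIso

section FT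

variable (𝒜) in
theorem hTF_shift (k : ℕ) :
    ∃ n : ℕ, (Submodule.span A (⋃ i ∈ Set.Ici n, (shiftGr 𝒜 k i : Set A))).FG := by
  refine ⟨0, ?_⟩
  have h1 : (1 : A) ∈ shiftGr 𝒜 k (0 + k) := mem_shiftGr_add.2 SetLike.GradedOne.one_mem
  have h2 : Submodule.span A (⋃ i ∈ Set.Ici 0, (shiftGr 𝒜 k i : Set A)) = ⊤ := by
    apply (Ideal.eq_top_iff_one _).2
    apply Submodule.subset_span
    exact Set.mem_biUnion (Set.mem_Ici.2 (Nat.zero_le (0 + k))) h1
  rw [h2]
  exact Module.Finite.fg_top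

variable (𝒜) in
/-- `O(-k)` is of finite type when the irrelevant ideal is finitely generated -/
theorem isFT_twist_neg (hfg : (HomogeneousIdeal.irrelevant 𝒜).toIdeal.FG) (k : ℕ) :
    CohB1.IsFT (tilde 𝒜 𝒜 (-(k : ℤ))) := by
  have h0 : CohB1.IsFT (tilde 𝒜 (shiftGr 𝒜 k) 0) :=
    Groth.Agent.S3561.result 𝒜 hfg (shiftGr 𝒜 k) (hTF_shift 𝒜 k)
  have e : tilde 𝒜 (shiftGr 𝒜 k) 0 ≅ tilde 𝒜 𝒜 (-(k : ℤ)) :=
    shiftIso k (by ring)
  haveI : SheafOfModules.IsFiniteType (R := (Proj 𝒜).ringCatSheaf) (tilde 𝒜 (shiftGr 𝒜 k) 0) := h0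
  exact Groth.Agent.Lib.Helper23.FinType.isFiniteType_of_iso e

end FT

end Groth.Agent.Lib.R2H2.GrTildeShift
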