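import Mathlib
import Groth.Prelude.Def_E1Deg
import Groth.Agent.Lib.Helper17Hyp17

/-!
# The stupid filtration and hypercohomology (helper2, round 2)

For a cochain complex `K` in an abelian category and a test object `T`, we use the short exact
sequences `0 → σ_{≥ i+1} K → σ_{≥ i} K → K^i[-i] → 0` (prelude `E1Deg.sigmaGE…`) to compute
`H_T^a(K) = Hom_D(T, K[a])` when `H_T^a(K^i[-i])` vanishes for `a ≠ 2 i`
(Hodge-to-de-Rham degeneration for degree reasons).
-/

set_option backward.isDefEq.respectTransparency.types false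
set_option autoImplicit false
set_option linter.unusedSectionVars false

universe w v u

namespace Groth.Agent.Lib.R2H2.StupidFil

open CategoryTheory CategoryTheory.Limits E1Deg HomologicalComplex

section Chain

variable {C : Type u} [Category.{v} C] [Abelian C] (K : CochainComplex C ℤ) (i : ℤ)

lemma exists_emb {m : ℤ} (h : i ≤ m) : ∃ n : ℕ, (emb i).f n = m :=
  ⟨(m - i).toNat, by simp only [ComplexShape.embeddingUpIntGE_f]; omega⟩

lemma isZero_sigmaGE_X {m : ℤ} (h : m < i) : IsZero ((sigmaGE K i).X m) :=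
  K.isZero_stupidTrunc_X (emb i) m (fun n hn => by
    simp only [ComplexShape.embeddingUpIntGE_f] at hn; omega)

lemma isIso_ιSucc_f {m : ℤ} (h : i + 1 ≤ m) : IsIso ((sigmaGEιSucc K i).f m) := by
  obtain ⟨n, hn⟩ := exists_emb (i + 1) h
  rw [sigmaGEιSucc_f_eq K i hn]
  infer_instance

lemma isIso_π_f : IsIso ((sigmaGEπ K i).f i) := by
  rw [sigmaGEπ_f]
  infer_instance

lemma isZero_single_X (F : C) {m : ℤ} (h : m ≠ i) :
    IsZero (((single C (ComplexShape.up ℤ) i).obj F).X m) :=
  isZero_single_obj_X _ _ _ _ h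

lemma ιSucc_π : sigmaGEιSucc K i ≫ sigmaGEπ K i = 0 := by
  refine HomologicalComplex.hom_ext _ _ (fun m => ?_)
  by_cases h : m = i
  · subst h
    exact (isZero_sigmaGE_X K (m + 1) (by omega)).eq_of_src _ _
  · exact (isZero_single_X i (K.X i) h).eq_of_tgt _ _

/-- the short complex `σ_{≥ i+1} K → σ_{≥ i} K → K^i[-i]` -/
noncomputable def ses : ShortComplex (CochainComplex C ℤ) :=
  ShortComplex.mk (sigmaGEιSucc K i) (sigmaGEπ K i) (ιSucc_π K i)

lemma ses_shortExact : (ses K i).ShortExact := by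
  rw [HomologicalComplex.shortExact_iff_degreewise_shortExact]
  intro m
  rcases lt_trichotomy m i with h | h | h
  · -- everything is zero
    have z1 : IsZero ((sigmaGE K (i + 1)).X m) := isZero_sigmaGE_X K (i + 1) (by omega)
    have z2 : IsZero ((sigmaGE K i).X m) := isZero_sigmaGE_X K i h
    have z3 : IsZero (((single C (ComplexShape.up ℤ) i).obj (K.X i)).X m) :=
      isZero_single_X i (K.X i) (by omega)
    exact { exact := ShortComplex.exact_of_isZero_X₂ _ z2
            mono_f := ⟨fun _ _ _ => z1.eq_of_tgt _ _⟩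
            epi_g := ⟨fun _ _ _ => z3.eq_of_src _ _⟩ }
  · subst h
    have z1 : IsZero ((sigmaGE K (m + 1)).X m) := isZero_sigmaGE_X K (m + 1) (by omega)
    haveI : IsIso ((sigmaGEπ K m).f m) := isIso_π_f K m
    have hf : (sigmaGEιSucc K m).f m = 0 := z1.eq_of_src _ _
    exact { exact := (ShortComplex.exact_iff_mono _ hf).2
              (inferInstanceAs (Mono ((sigmaGEπ K m).f m)))
            mono_f := ⟨fun _ _ _ => z1.eq_of_tgt _ _⟩
            epi_g := inferInstanceAs (Epi ((sigmaGEπ K m).f m)) }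
  · have z3 : IsZero (((single C (ComplexShape.up ℤ) i).obj (K.X i)).X m) :=
      isZero_single_X i (K.X i) (by omega)
    haveI : IsIso ((sigmaGEιSucc K i).f m) := isIso_ιSucc_f K i (by omega)
    have hg : (sigmaGEπ K i).f m = 0 := z3.eq_of_tgt _ _
    exact { exact := (ShortComplex.exact_iff_epi _ hg).2
              (inferInstanceAs (Epi ((sigmaGEιSucc K i).f m)))
            mono_f := inferInstanceAs (Mono ((sigmaGEιSucc K i).f m))
            epi_g := ⟨fun _ _ _ => z3.eq_of_src _ _⟩ }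

instance : (sigmaGE K i).IsStrictlyGE i := inferInstanceAs ((K.stupidTrunc (emb i)).IsStrictlySupported (emb i))

end Chain

section Der

open DerivedCategory Pretriangulated Groth.Agent.Lib.Helper17.Hyp

variable {C : Type u} [Category.{v} C] [Abelian C] [HasDerivedCategory.{w} C]
  (T : C) (K : CochainComplex C ℤ)

/-- the distinguished triangle of the stupid filtration step -/
noncomputable def tri (i : ℤ) : Triangle (DerivedCategory C) := triangleOfSES (ses_shortExact K i)

lemma tri_dist (i : ℤ) : tri K i ∈ distTriang (DerivedCategory C) :=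
  triangleOfSES_distinguished (ses_shortExact K i)

theorem bijective_HTmap_ιSucc (i a : ℤ)
    (h : Subsingleton (HT T ((single C (ComplexShape.up ℤ) i).obj (K.X i)) (a - 1)))
    (h' : Subsingleton (HT T ((single C (ComplexShape.up ℤ) i).obj (K.X i)) a)) :
    Function.Bijective (HTmap T (sigmaGEιSucc K i) a) :=
  bijective_postcomp_mor₁ (tri K i) (tri_dist K i) _ (a - 1) a (by omega) h h'

theorem bijective_HTmap_π (i a : ℤ)
    (h : Subsingleton (HT T (sigmaGE K (i + 1)) a))
    (h' : Subsingleton (HT T (sigmaGE K (i + 1)) (a + 1))) :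
    Function.Bijective (HTmap T (sigmaGEπ K i) a) :=
  bijective_postcomp_mor₂ (tri K i) (tri_dist K i) _ a h h'

theorem subsingleton_HT_sigmaGE_step (i a : ℤ)
    (h₁ : Subsingleton (HT T (sigmaGE K (i + 1)) a))
    (h₃ : Subsingleton (HT T ((single C (ComplexShape.up ℤ) i).obj (K.X i)) a)) :
    Subsingleton (HT T (sigmaGE K i) a) :=
  subsingleton_obj₂ (tri K i) (tri_dist K i) _ a h₁ h₃

/-- `Hom(T, L[a]) = 0` when `L` lives in degrees `> a` -/
theorem subsingleton_HT_of_isStrictlyGE (L : CochainComplex C ℤ) (i a : ℤ) [L.IsStrictlyGE i]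
    (h : a < i) : Subsingleton (HT T L a) := by
  haveI : (Q.obj L).IsGE i := inferInstance
  haveI : TStructure.t.IsGE ((Q.obj L)⟦a⟧) (i - a) :=
    TStructure.t.isGE_shift (Q.obj L) i a (i - a) (by omega)
  exact ⟨fun y y' => by
    rw [TStructure.t.zero y 0 (i - a) (by omega), TStructure.t.zero y' 0 (i - a) (by omega)]⟩

variable (hV : ∀ i a : ℤ, a ≠ 2 * i →
  Subsingleton (HT T ((single C (ComplexShape.up ℤ) i).obj (K.X i)) a))

include hV in
theorem subsingleton_HT_sigmaGE_aux (a : ℤ) : ∀ (n : ℕ) (i : ℤ), a < i + n →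
    (∀ j : ℤ, i ≤ j → a ≠ 2 * j) → Subsingleton (HT T (sigmaGE K i) a) := by
  intro n
  induction n with
  | zero =>
    intro i hi _
    exact subsingleton_HT_of_isStrictlyGE T (sigmaGE K i) i a (by simpa using hi)
  | succ n ih =>
    intro i hi hj
    refine subsingleton_HT_sigmaGE_step T K i a (ih (i + 1) ?_ ?_) (hV i a (hj i le_rfl))
    · push_cast at hi; omega
    · intro j hij; exact hj j (by omega)

include hV in
/-- vanishing of `H_T^a(σ_{≥ i} K)` when `a` is not twice an index `≥ i` -/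
theorem subsingleton_HT_sigmaGE (i a : ℤ) (h : ∀ j : ℤ, i ≤ j → a ≠ 2 * j) :
    Subsingleton (HT T (sigmaGE K i) a) :=
  subsingleton_HT_sigmaGE_aux T K hV a (a - i + 1).toNat i (by omega) h

include hV in
theorem bijective_HTmap_π_even (p : ℤ) : Function.Bijective (HTmap T (sigmaGEπ K p) (2 * p)) :=
  bijective_HTmap_π T K p (2 * p)
    (subsingleton_HT_sigmaGE T K hV (p + 1) (2 * p) (fun j hj => by omega))
    (subsingleton_HT_sigmaGE T K hV (p + 1) (2 * p + 1) (fun j hj => by omega))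

lemma bijective_HTmap_of_isIso {K L : CochainComplex C ℤ} (φ : K ⟶ L) [IsIso φ] (a : ℤ) :
    Function.Bijective (HTmap T φ a) := by
  constructor
  · intro x y hxy
    have := congrArg (HTmap T (inv φ) a) hxy
    rwa [← HTmap_comp, ← HTmap_comp, IsIso.hom_inv_id, HTmap_id, HTmap_id] at this
  · intro y
    refine ⟨HTmap T (inv φ) a y, ?_⟩
    rw [← HTmap_comp, IsIso.inv_hom_id, HTmap_id]

include hV in
theorem bijective_HTmap_ι_aux (i₀ : ℤ) (hK : ∀ m : ℤ, m < i₀ → IsZero (K.X m)) (p : ℤ) :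
    ∀ n : ℕ, i₀ + n ≤ p → Function.Bijective (HTmap T (sigmaGEι K (i₀ + n)) (2 * p)) := by
  intro n
  induction n with
  | zero =>
    intro _
    haveI : IsIso (sigmaGEι K i₀) := isIso_sigmaGEι K i₀ hK
    have h0 : i₀ + ((0 : ℕ) : ℤ) = i₀ := by simp
    rw [h0]
    exact bijective_HTmap_of_isIso T _ _
  | succ n ih =>
    intro hn
    have h1 : i₀ + ((n + 1 : ℕ) : ℤ) = i₀ + n + 1 := by push_cast; ring
    rw [h1]
    have hcomp : (HTmap T (sigmaGEι K (i₀ + n + 1)) (2 * p) : _ → _) =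
        (HTmap T (sigmaGEι K (i₀ + n)) (2 * p)) ∘ (HTmap T (sigmaGEιSucc K (i₀ + n)) (2 * p)) := by
      funext x
      rw [Function.comp_apply, ← HTmap_comp, sigmaGEιSucc_comp_ι]
    rw [hcomp]
    refine (ih (by push_cast at hn; omega)).comp ?_
    refine bijective_HTmap_ιSucc T K (i₀ + n) (2 * p) (hV _ _ ?_) (hV _ _ ?_)
    · omega
    · push_cast at hn; omega

include hV in
/-- `H_T^{2p}(σ_{≥ p} K) → H_T^{2p}(K)` is bijective for `K` bounded below -/
theorem bijective_HTmap_ι (i₀ : ℤ) (hK : ∀ m : ℤ, m < i₀ → IsZero (K.X m)) (p : ℤ) (hp : i₀ ≤ p) :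
    Function.Bijective (HTmap T (sigmaGEι K p) (2 * p)) := by
  have := bijective_HTmap_ι_aux T K hV i₀ hK p (p - i₀).toNat (by omega)
  have h1 : i₀ + ((p - i₀).toNat : ℤ) = p := by omega
  rwa [h1] at this

include hV in
/-- vanishing of `H_T^a(K)` for `K` bounded below when `a` is not twice an index -/
theorem subsingleton_HT (i₀ : ℤ) (hK : ∀ m : ℤ, m < i₀ → IsZero (K.X m)) (a : ℤ)
    (h : ∀ j : ℤ, i₀ ≤ j → a ≠ 2 * j) : Subsingleton (HT T K a) := by
  haveI : IsIso (sigmaGEι K i₀) := isIso_sigmaGEι K i₀ hK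
  haveI := subsingleton_HT_sigmaGE T K hV i₀ a h
  exact (bijective_HTmap_of_isIso T (sigmaGEι K i₀) a).2.subsingleton

/-- **degeneration for degree reasons**: `H_T^{2p}(K) ≃ H_T^{2p}(K^p[-p])` -/
noncomputable def mainEquiv (i₀ : ℤ) (hK : ∀ m : ℤ, m < i₀ → IsZero (K.X m)) (p : ℤ) (hp : i₀ ≤ p) :
    HT T K (2 * p) ≃+ HT T ((single C (ComplexShape.up ℤ) p).obj (K.X p)) (2 * p) :=
  (AddEquiv.ofBijective (HTmap T (sigmaGEι K p) (2 * p))
    (bijective_HTmap_ι T K hV i₀ hK p hp)).symm.trans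
  (AddEquiv.ofBijective (HTmap T (sigmaGEπ K p) (2 * p)) (bijective_HTmap_π_even T K hV p))

lemma mainEquiv_apply (i₀ : ℤ) (hK : ∀ m : ℤ, m < i₀ → IsZero (K.X m)) (p : ℤ) (hp : i₀ ≤ p)
    (y : HT T (sigmaGE K p) (2 * p)) :
    mainEquiv T K hV i₀ hK p hp (HTmap T (sigmaGEι K p) (2 * p) y) =
      HTmap T (sigmaGEπ K p) (2 * p) y := by
  unfold mainEquiv
  rw [AddEquiv.trans_apply]
  exact congrArg _ ((AddEquiv.ofBijective (HTmap T (sigmaGEι K p) (2 * p))
    (bijective_HTmap_ι T K hV i₀ hK p hp)).symm_apply_apply y)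

end Der

end Groth.Agent.Lib.R2H2.StupidFil
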