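import Mathlib
import Groth.Prelude.Def_E1Deg
import Groth.Agent.Lib.R2H2StupidFil

/-!
# The stupid filtration and hypercohomology, II (helper2, round 2)

* `singleEquiv` : `H_T^a(F[-i]) ≃+ Ext^k(T, F)` for `k + i = a`, natural in `F`;
* vanishing of `H_T^a(F[-i])` for `a < i` or `F = 0`;
* `swapEquiv` : change of the test object along an isomorphism;
* naturality of `mainEquiv` in the complex.
-/

set_option backward.isDefEq.respectTransparency.types false
set_option autoImplicit false
set_option linter.unusedSectionVars false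

universe w w' v u

namespace Groth.Agent.Lib.R2H2.StupidFil

open CategoryTheory CategoryTheory.Limits E1Deg HomologicalComplex

section Chain

variable {C : Type u} [Category.{v} C] [Abelian C] {K L : CochainComplex C ℤ} (α : K ⟶ L) (i : ℤ)

lemma stupidTruncMap_ι :
    HomologicalComplex.stupidTruncMap α (emb i) ≫ sigmaGEι L i = sigmaGEι K i ≫ α := by
  refine HomologicalComplex.hom_ext _ _ (fun m => ?_)
  by_cases hm : ∃ n : ℕ, (emb i).f n = m
  · obtain ⟨n, hn⟩ := hm
    rw [HomologicalComplex.comp_f, HomologicalComplex.comp_f, sigmaGEι_f_eq L i hn,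
      sigmaGEι_f_eq K i hn]
    exact HomologicalComplex.stupidTruncMap_stupidTruncXIso_hom α (emb i) hn
  · exact (K.isZero_stupidTrunc_X (emb i) m (by simpa using hm)).eq_of_src _ _

lemma stupidTruncMap_π :
    HomologicalComplex.stupidTruncMap α (emb i) ≫ sigmaGEπ L i =
      sigmaGEπ K i ≫ (single C (ComplexShape.up ℤ) i).map (α.f i) := by
  apply HomologicalComplex.to_single_hom_ext
  rw [HomologicalComplex.comp_f, HomologicalComplex.comp_f, sigmaGEπ_f, sigmaGEπ_f,
    HomologicalComplex.single_map_f_self]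
  simp only [Category.assoc, Iso.inv_hom_id_assoc]
  rw [← Category.assoc, ← Category.assoc]
  congr 1
  exact HomologicalComplex.stupidTruncMap_stupidTruncXIso_hom α (emb i) (emb_f_zero i)

end Chain

section Der

open DerivedCategory Pretriangulated Abelian

variable {C : Type u} [Category.{v} C] [Abelian C] [HasDerivedCategory.{w} C]

/-- post-composition with an isomorphism -/
noncomputable def postcompAddEquiv {D : Type*} [Category D] [Preadditive D] {X Y Z : D}
    (e : Y ≅ Z) : (X ⟶ Y) ≃+ (X ⟶ Z) where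
  toFun x := x ≫ e.hom
  invFun y := y ≫ e.inv
  left_inv x := by simp
  right_inv y := by simp
  map_add' x y := Preadditive.add_comp _ _ _ _ _ _

/-- `(F[-i])[a] ≅ F[k]` for `k + i = a`, naturally in `F` -/
noncomputable def singleNatIso (i a k : ℤ) (h : k + i = a) :
    DerivedCategory.singleFunctor C i ⋙ shiftFunctor (DerivedCategory C) a ≅
      DerivedCategory.singleFunctor C 0 ⋙ shiftFunctor (DerivedCategory C) k :=
  Functor.isoWhiskerLeft (DerivedCategory.singleFunctor C i)
      (shiftFunctorAdd' (DerivedCategory C) i k a (by omega)) ≪≫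
    (Functor.associator _ _ _).symm ≪≫
    Functor.isoWhiskerRight ((DerivedCategory.singleFunctors C).shiftIso i 0 i (by simp))
      (shiftFunctor (DerivedCategory C) k)

variable (T : C)

section

variable [HasExt.{w'} C]

/-- `H_T^a(F[-i]) ≃+ Ext^k(T, F)` for `k + i = a` -/
noncomputable def singleEquiv (F : C) (i a : ℤ) (k : ℕ) (h : (k : ℤ) + i = a) :
    HT T ((single C (ComplexShape.up ℤ) i).obj F) a ≃+ Ext.{w'} T F k :=
  (postcompAddEquiv (X := (DerivedCategory.singleFunctor C 0).obj T)
    ((singleNatIso i a k h).app F)).trans Ext.homAddEquiv.symm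

lemma singleEquiv_hom (F : C) (i a : ℤ) (k : ℕ) (h : (k : ℤ) + i = a)
    (x : HT T ((single C (ComplexShape.up ℤ) i).obj F) a) :
    (singleEquiv T F i a k h x).hom = x ≫ (singleNatIso i a k h).hom.app F := by
  change Ext.homAddEquiv (Ext.homAddEquiv.symm _) = _
  rw [AddEquiv.apply_symm_apply]
  rfl

lemma singleEquiv_naturality {F G : C} (f : F ⟶ G) (i a : ℤ) (k : ℕ) (h : (k : ℤ) + i = a)
    (x : HT T ((single C (ComplexShape.up ℤ) i).obj F) a) :
    singleEquiv T G i a k h (HTmap T ((single C (ComplexShape.up ℤ) i).map f) a x) =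
      (singleEquiv T F i a k h x).comp (Ext.mk₀ f) (add_zero k) := by
  apply Ext.ext
  rw [Ext.comp_hom, Ext.mk₀_hom, ShiftedHom.comp_mk₀, singleEquiv_hom, singleEquiv_hom,
    HTmap_apply, Category.assoc, Category.assoc]
  congr 1
  exact (singleNatIso i a k h).hom.naturality f

end

lemma subsingleton_HT_single_of_lt (F : C) (i a : ℤ) (h : a < i) :
    Subsingleton (HT T ((single C (ComplexShape.up ℤ) i).obj F) a) := by
  haveI : CochainComplex.IsStrictlyGE ((single C (ComplexShape.up ℤ) i).obj F) i :=
    inferInstanceAs (CochainComplex.IsStrictlyGE ((CochainComplex.singleFunctor C i).obj F) i)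
  exact subsingleton_HT_of_isStrictlyGE T _ i a h

lemma subsingleton_HT_single_of_isZero (F : C) (hF : IsZero F) (i a : ℤ) :
    Subsingleton (HT T ((single C (ComplexShape.up ℤ) i).obj F) a) := by
  have hz : IsZero ((shiftFunctor (DerivedCategory C) a).obj
      (Q.obj ((single C (ComplexShape.up ℤ) i).obj F))) :=
    (shiftFunctor (DerivedCategory C) a).map_isZero
      (Q.map_isZero ((single C (ComplexShape.up ℤ) i).map_isZero hF))
  exact ⟨fun x y => hz.eq_of_tgt _ _⟩

/-- change of test object -/
noncomputable def swapEquiv {T T' : C} (e : T ≅ T') (K : CochainComplex C ℤ) (a : ℤ) :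
    HT T K a ≃+ HT T' K a where
  toFun x := (DerivedCategory.singleFunctor C 0).map e.inv ≫ x
  invFun y := (DerivedCategory.singleFunctor C 0).map e.hom ≫ y
  left_inv x := by
    change (DerivedCategory.singleFunctor C 0).map e.hom ≫
      (DerivedCategory.singleFunctor C 0).map e.inv ≫ x = x
    rw [← Category.assoc, ← Functor.map_comp, e.hom_inv_id, CategoryTheory.Functor.map_id, Category.id_comp]
  right_inv y := by
    change (DerivedCategory.singleFunctor C 0).map e.inv ≫
      (DerivedCategory.singleFunctor C 0).map e.hom ≫ y = y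
    rw [← Category.assoc, ← Functor.map_comp, e.inv_hom_id, CategoryTheory.Functor.map_id, Category.id_comp]
  map_add' x y := Preadditive.comp_add _ _ _ _ _ _

lemma swapEquiv_HTmap {T T' : C} (e : T ≅ T') {K L : CochainComplex C ℤ} (φ : K ⟶ L) (a : ℤ)
    (x : HT T K a) :
    swapEquiv e L a (HTmap T φ a x) = HTmap T' φ a (swapEquiv e K a x) :=
  (Category.assoc _ _ _).symm

/-- naturality of `mainEquiv` -/
theorem mainEquiv_naturality {K L : CochainComplex C ℤ} (α : K ⟶ L)
    (hV : ∀ i a : ℤ, a ≠ 2 * i →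
      Subsingleton (HT T ((single C (ComplexShape.up ℤ) i).obj (K.X i)) a))
    (hV' : ∀ i a : ℤ, a ≠ 2 * i →
      Subsingleton (HT T ((single C (ComplexShape.up ℤ) i).obj (L.X i)) a))
    (i₀ : ℤ) (hK : ∀ m : ℤ, m < i₀ → IsZero (K.X m)) (hL : ∀ m : ℤ, m < i₀ → IsZero (L.X m))
    (p : ℤ) (hp : i₀ ≤ p) (x : HT T K (2 * p)) :
    mainEquiv T L hV' i₀ hL p hp (HTmap T α (2 * p) x) =
      HTmap T ((single C (ComplexShape.up ℤ) p).map (α.f p)) (2 * p)
        (mainEquiv T K hV i₀ hK p hp x) := by
  obtain ⟨y, rfl⟩ := (bijective_HTmap_ι T K hV i₀ hK p hp).2 x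
  rw [mainEquiv_apply, ← HTmap_comp, ← stupidTruncMap_ι, HTmap_comp, mainEquiv_apply,
    ← HTmap_comp, stupidTruncMap_π, HTmap_comp]

end Der

end Groth.Agent.Lib.R2H2.StupidFil
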