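import Mathlib
import Groth.Prelude.Def_DeRham2
import Groth.Prelude.Def_KLinDR
import Groth.Agent.Lib.R2H2StupidFil2
import Groth.Agent.Lib.Helper9HTerminal

/-!
# Hodge-to-de-Rham degeneration for degree reasons (helper2, round 2)

For a complex `K` of abelian sheaves on a scheme `X` in degrees `≥ 0`, whose terms are identified with
`O_X`-modules `term p` such that `H^q(X, term p) = 0` for `q ≠ p`:
* `subsingleton_HDU` : `H^m(X, K) = 0` unless `m = 2 p`;
* `Φ` : `H^{2p}(X, K) ≃+ H^p(X, term p)`, and `Φ_smul` (compatibility with a termwise linear action).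
-/

set_option backward.isDefEq.respectTransparency.types false
set_option autoImplicit false
set_option linter.unusedSectionVars false

universe w u' u

namespace Groth.Agent.Lib.R2H2.HodgeDeg

open CategoryTheory CategoryTheory.Limits AlgebraicGeometry Opposite TopologicalSpace E1Deg
  HomologicalComplex Groth.Agent.Lib.R2H2.StupidFil

variable {X : Scheme.{u}}

/-- abelian sheaves on `X` -/
abbrev AbX (X : Scheme.{u}) := Sheaf (Opens.grothendieckTopology X) AddCommGrpCat.{u}

/-- the constant sheaf `ℤ` -/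
noncomputable abbrev Zc (X : Scheme.{u}) : AbX X :=
  (constantSheaf (Opens.grothendieckTopology X) AddCommGrpCat.{u}).obj
    (AddCommGrpCat.of (ULift.{u} ℤ))

/-- the free sheaf on the whole space is the constant sheaf -/
noncomputable def freeIso (X : Scheme.{u}) :
    CohCx.freeSheaf (Opens.grothendieckTopology X) (⊤ : X.Opens) ≅ Zc X :=
  (presheafToSheaf (Opens.grothendieckTopology X) AddCommGrpCat.{u}).mapIso
    (Groth.Agent.Lib.Helper9.HTerminal.freeYonedaIso (T := (⊤ : X.Opens)) isTerminalTop)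

/-- isomorphic sheaves have isomorphic cohomology -/
noncomputable def HmapEquiv {F G : AbX X} (θ : F ≅ G) (k : ℕ) : Sheaf.H F k ≃+ Sheaf.H G k where
  toFun := Sheaf.H.map θ.hom k
  invFun := Sheaf.H.map θ.inv k
  left_inv x := by rw [← Sheaf.H.map_comp_apply, θ.hom_inv_id, Sheaf.H.map_id_apply]
  right_inv x := by rw [← Sheaf.H.map_comp_apply, θ.inv_hom_id, Sheaf.H.map_id_apply]
  map_add' := map_add _

lemma HmapEquiv_apply {F G : AbX X} (θ : F ≅ G) (k : ℕ) (x : Sheaf.H F k) :
    HmapEquiv θ k x = Sheaf.H.map θ.hom k x := rfl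

variable (K : CochainComplex (AbX X) ℕ) (term : ℕ → X.Modules)
  (iso : ∀ p : ℕ, K.X p ≅ Coh.toAb (term p))

/-- the extension by zero -/
noncomputable abbrev KZ : CochainComplex (AbX X) ℤ := K.extend ComplexShape.embeddingUpNat

/-- the terms of the extended complex -/
noncomputable def θ (p : ℕ) : (KZ K).X (p : ℤ) ≅ Coh.toAb (term p) :=
  K.extendXIso ComplexShape.embeddingUpNat (ComplexShape.embeddingUpNat_f p) ≪≫ iso p

lemma isZero_KZ_X (m : ℤ) (hm : m < 0) : IsZero ((KZ K).X m) :=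
  K.isZero_extend_X _ m (fun p hp => by
    simp only [ComplexShape.embeddingUpNat_f] at hp; omega)

variable [HasDerivedCategory.{w} (AbX X)]

variable (hvan : ∀ p q : ℕ, q ≠ p → Subsingleton (Coh.HH X (term p) q))

include hvan iso in
theorem hV : ∀ i a : ℤ, a ≠ 2 * i →
    Subsingleton (HT (Zc X) ((single (AbX X) (ComplexShape.up ℤ) i).obj ((KZ K).X i)) a) := by
  intro i a hia
  by_cases hi : i < 0
  · exact subsingleton_HT_single_of_isZero _ _ (isZero_KZ_X K i hi) i a
  · obtain ⟨p, rfl⟩ := Int.eq_ofNat_of_zero_le (by omega : 0 ≤ i)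
    by_cases ha : a < p
    · exact subsingleton_HT_single_of_lt _ _ _ _ ha
    · obtain ⟨k, hk⟩ := Int.eq_ofNat_of_zero_le (by omega : 0 ≤ a - p)
      have h : (k : ℤ) + p = a := by omega
      haveI : Subsingleton (Sheaf.H (Coh.toAb (term p)) k) := hvan p k (by omega)
      exact ((singleEquiv (Zc X) ((KZ K).X p) p a k h).trans
        (HmapEquiv (θ K term iso p) k)).toEquiv.subsingleton

include hvan iso in
/-- vanishing outside even degrees -/
theorem subsingleton_HDU (m : ℤ) (hm : ∀ i : ℕ, m ≠ 2 * (i : ℤ)) :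
    Subsingleton (CohCx.HDU (DerivedCategory.Q.obj (KZ K)) m (⊤ : X.Opens)) := by
  haveI : Subsingleton (HT (Zc X) (KZ K) m) :=
    subsingleton_HT (Zc X) (KZ K) (hV K term iso hvan) 0 (isZero_KZ_X K) m (fun j hj => by
      obtain ⟨i, rfl⟩ := Int.eq_ofNat_of_zero_le hj
      exact hm i)
  exact (swapEquiv (freeIso X) (KZ K) m).toEquiv.subsingleton

/-- `H^{2p}(X, K) ≃+ H^p(X, term p)` -/
noncomputable def Φ (p : ℕ) :
    CohCx.HDU (DerivedCategory.Q.obj (KZ K)) (2 * (p : ℤ)) (⊤ : X.Opens) ≃+ Coh.HH X (term p) p :=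
  (swapEquiv (freeIso X) (KZ K) (2 * (p : ℤ))).trans <|
  (mainEquiv (Zc X) (KZ K) (hV K term iso hvan) 0 (isZero_KZ_X K) p (by omega)).trans <|
  (singleEquiv (Zc X) ((KZ K).X p) p (2 * (p : ℤ)) p (by ring)).trans
    (HmapEquiv (θ K term iso p) p)

section Linear

variable {k : Type u'} [CommRing k] {c : k →+* Coh.Γtop X}
  (h : KLinDR.TermwiseLinear c K term iso)

lemma scalar_f_θ (a : k) (p : ℕ) :
    (KLinDR.scalar h a : KZ K ⟶ KZ K).f (p : ℤ) ≫ (θ K term iso p).hom =
      (θ K term iso p).hom ≫ Coh.smulAb (term p) (c a) := by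
  rw [KLinDR.scalar_f]
  unfold θ KLinDR.scalarEnd
  simp

theorem Φ_smul (p : ℕ) (a : k)
    (x : CohCx.HDU (DerivedCategory.Q.obj (KZ K)) (2 * (p : ℤ)) (⊤ : X.Opens)) :
    Φ K term iso hvan p (x ≫ (shiftFunctor (DerivedCategory (AbX X)) (2 * (p : ℤ))).map
        (DerivedCategory.Q.map (KLinDR.scalar h a : KZ K ⟶ KZ K))) =
      Sheaf.H.map (Coh.smulAb (term p) (c a)) p (Φ K term iso hvan p x) := by
  have h1 : (x ≫ (shiftFunctor (DerivedCategory (AbX X)) (2 * (p : ℤ))).map
        (DerivedCategory.Q.map (KLinDR.scalar h a : KZ K ⟶ KZ K))) =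
      HTmap _ (KLinDR.scalar h a : KZ K ⟶ KZ K) (2 * (p : ℤ)) x := rfl
  rw [h1]
  unfold Φ
  simp only [AddEquiv.trans_apply]
  rw [swapEquiv_HTmap, mainEquiv_naturality (Zc X) (KLinDR.scalar h a : KZ K ⟶ KZ K)
    (hV K term iso hvan) (hV K term iso hvan) 0 (isZero_KZ_X K) (isZero_KZ_X K) p (by omega),
    singleEquiv_naturality, HmapEquiv_apply, HmapEquiv_apply, ← Sheaf.H.map_apply,
    ← Sheaf.H.map_comp_apply, scalar_f_θ, Sheaf.H.map_comp_apply]

end Linear

end Groth.Agent.Lib.R2H2.HodgeDeg
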