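import Mathlib
set_option backward.isDefEq.respectTransparency.types false

/-!
# Artin–Rees for modules of homomorphisms (helper2, round 2)

`R` Noetherian, `I` an ideal, `M`, `N` finite `R`-modules.

* `exists_mem_smul_top_of_range_le` : there is `c` such that every `h : M → N` with `h(M) ⊆ I^(n+c) N` lies in
  `I^n · Hom(M, N)`.
* `exists_lift_mod` : there is `c` such that every `g : M → N / I^(n+c) N` agrees modulo `I^n N` with a
  homomorphism `M → N`.
-/

set_option autoImplicit false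
universe u

namespace Groth.Agent.Lib.R2H2.HomAR

variable {R : Type u} [CommRing R]

theorem pi_mem_smul_top {N : Type u} [AddCommGroup N] [Module R N] {k : ℕ} (J : Ideal R)
    (x : Fin k → N) (hx : ∀ i, x i ∈ J • (⊤ : Submodule R N)) :
    x ∈ J • (⊤ : Submodule R (Fin k → N)) := by
  rw [← Finset.univ_sum_single x]
  refine Submodule.sum_mem _ fun i _ => ?_
  exact Submodule.smul_top_le_comap_smul_top J (LinearMap.single R (fun _ : Fin k => N) i) (hx i)

variable [IsNoetherianRing R] (I : Ideal R) (M N : Type u) [AddCommGroup M] [Module R M]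
  [Module.Finite R M] [AddCommGroup N] [Module R N] [Module.Finite R N]

/-- **Artin–Rees for `Hom`, kernel part** -/
theorem exists_mem_smul_top_of_range_le :
    ∃ c : ℕ, ∀ (n : ℕ) (h : M →ₗ[R] N), (∀ m, h m ∈ I ^ (n + c) • (⊤ : Submodule R N)) →
      h ∈ I ^ n • (⊤ : Submodule R (M →ₗ[R] N)) := by
  obtain ⟨k, p, hp⟩ := Module.Finite.exists_fin' R M
  let ε : (M →ₗ[R] N) →ₗ[R] (Fin k → N) :=
    LinearMap.pi fun i => LinearMap.applyₗ (p (Pi.single i 1))
  have hε : Function.Injective ε := by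
    rw [← LinearMap.ker_eq_bot, LinearMap.ker_eq_bot']
    intro h hh
    have h0 : h.comp p = 0 := by
      apply LinearMap.pi_ext
      intro i x
      have e1 : (Pi.single i x : Fin k → R) = x • Pi.single i 1 := by
        rw [← Pi.single_smul, smul_eq_mul, mul_one]
      rw [e1, map_smul, LinearMap.zero_apply]
      have e2 : h (p (Pi.single i 1)) = 0 := congrFun hh i
      change x • h (p (Pi.single i 1)) = 0
      rw [e2, smul_zero]
    apply LinearMap.ext
    intro m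
    obtain ⟨x, rfl⟩ := hp m
    exact LinearMap.congr_fun h0 x
  obtain ⟨c, hc⟩ := Ideal.exists_pow_inf_eq_pow_smul I (LinearMap.range ε)
  refine ⟨c, fun n h hh => ?_⟩
  have h1 : ε h ∈ I ^ (n + c) • (⊤ : Submodule R (Fin k → N)) :=
    pi_mem_smul_top _ _ fun i => hh _
  have h2 : ε h ∈ I ^ (n + c) • (⊤ : Submodule R (Fin k → N)) ⊓ LinearMap.range ε := ⟨h1, ⟨h, rfl⟩⟩
  rw [hc (n + c) (Nat.le_add_left c n), Nat.add_sub_cancel] at h2
  have h3 : ε h ∈ I ^ n • LinearMap.range ε := (Submodule.smul_mono le_rfl inf_le_right) h2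
  rw [LinearMap.range_eq_map, ← Submodule.map_smul''] at h3
  obtain ⟨h', hh', e⟩ := h3
  rw [← hε e]
  exact hh'

/-- **Artin–Rees for `Hom`, lifting part** -/
theorem exists_lift_mod :
    ∃ c : ℕ, ∀ (n : ℕ) (Q : Type u) [AddCommGroup Q] [Module R Q] (π : N →ₗ[R] Q),
      Function.Surjective π → LinearMap.ker π ≤ I ^ (n + c) • (⊤ : Submodule R N) →
      ∀ g : M →ₗ[R] Q, ∃ h : M →ₗ[R] N, ∀ m, ∃ y ∈ I ^ n • (⊤ : Submodule R N),
        π (h m + y) = g m := by
  obtain ⟨k, p, hp⟩ := Module.Finite.exists_fin' R M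
  haveI : IsNoetherian R (Fin k → R) := isNoetherian_of_isNoetherianRing_of_finite R _
  haveI : Module.Finite R (LinearMap.ker p) := Module.Finite.iff_fg.2 (IsNoetherian.noetherian _)
  obtain ⟨c₁, hc₁⟩ := exists_mem_smul_top_of_range_le I (LinearMap.ker p) N
  haveI : IsNoetherian R N := isNoetherian_of_isNoetherianRing_of_finite R N
  haveI : Module.Finite R (LinearMap.ker p →ₗ[R] N) := inferInstance
  let ρ : ((Fin k → R) →ₗ[R] N) →ₗ[R] (LinearMap.ker p →ₗ[R] N) :=
    LinearMap.lcomp R N (LinearMap.ker p).subtype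
  obtain ⟨c₂, hc₂⟩ := Ideal.exists_pow_inf_eq_pow_smul I (LinearMap.range ρ)
  refine ⟨c₂ + c₁, fun n Q _ _ π hπ hker g => ?_⟩
  obtain ⟨ĝ, hĝ⟩ := Module.projective_lifting_property π (g.comp p) hπ
  have h1 : ∀ x : LinearMap.ker p, ρ ĝ x ∈ I ^ (n + c₂ + c₁) • (⊤ : Submodule R N) := by
    intro x
    have e1 : π (ĝ x.1) = 0 := by
      have := LinearMap.congr_fun hĝ x.1
      rw [LinearMap.comp_apply, LinearMap.comp_apply, LinearMap.mem_ker.1 x.2, map_zero] at this
      exact this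
    have e2 : ĝ x.1 ∈ I ^ (n + (c₂ + c₁)) • (⊤ : Submodule R N) := hker (LinearMap.mem_ker.2 e1)
    rw [← add_assoc] at e2
    exact e2
  have h2 : ρ ĝ ∈ I ^ (n + c₂) • (⊤ : Submodule R (LinearMap.ker p →ₗ[R] N)) :=
    hc₁ (n + c₂) (ρ ĝ) h1
  have h3 : ρ ĝ ∈ I ^ (n + c₂) • (⊤ : Submodule R (LinearMap.ker p →ₗ[R] N)) ⊓ LinearMap.range ρ :=
    ⟨h2, ⟨ĝ, rfl⟩⟩
  rw [hc₂ (n + c₂) (Nat.le_add_left c₂ n), Nat.add_sub_cancel] at h3
  have h4 : ρ ĝ ∈ I ^ n • LinearMap.range ρ := (Submodule.smul_mono le_rfl inf_le_right) h3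
  rw [LinearMap.range_eq_map, ← Submodule.map_smul''] at h4
  obtain ⟨δ, hδ, e⟩ := h4
  have hle : LinearMap.ker p ≤ LinearMap.ker (ĝ - δ) := by
    intro x hx
    rw [LinearMap.mem_ker, LinearMap.sub_apply, sub_eq_zero]
    exact (LinearMap.congr_fun e ⟨x, hx⟩).symm
  let h : M →ₗ[R] N :=
    ((LinearMap.ker p).liftQ (ĝ - δ) hle).comp (p.quotKerEquivOfSurjective hp).symm.toLinearMap
  have hh : ∀ x, h (p x) = ĝ x - δ x := by
    intro x
    have e1 : (p.quotKerEquivOfSurjective hp).symm (p x) = (LinearMap.ker p).mkQ x := by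
      rw [LinearEquiv.symm_apply_eq]
      exact (LinearMap.quotKerEquivOfSurjective_apply_mk p hp x).symm
    change (LinearMap.ker p).liftQ (ĝ - δ) hle ((p.quotKerEquivOfSurjective hp).symm (p x)) = _
    rw [e1]
    rfl
  refine ⟨h, fun m => ?_⟩
  obtain ⟨x, rfl⟩ := hp m
  refine ⟨δ x, ?_, ?_⟩
  · exact Submodule.smul_top_le_comap_smul_top (I ^ n) (LinearMap.applyₗ x) hδ
  · rw [hh, sub_add_cancel]
    exact LinearMap.congr_fun hĝ x

end Groth.Agent.Lib.R2H2.HomAR
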