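import Mathlib
import Groth.Prelude
import Groth.Agent.Lib.R2H2HomLiftC
import Groth.Agent.Lib.Helper5LocalFlat2
import Groth.Agent.Lib.R2H2PdSheaf
import Groth.Agent.Lib.R2H2HomLiftE
import Groth.Agent.Lib.R2H2PnLocFree
set_option backward.isDefEq.respectTransparency.types false

/-!
# Monomorphisms and epimorphisms on the closed fibre, over a local base (helper2, round 2)

* `injective_of_lTensor_quotient_injective` : the algebra behind "injective on the fibre ⇒ injective" (via helper5's
  local criterion `injective_and_flat_of_lTensor_residue_injective`).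
* `forall_of_forall_fibre` : spreading an open property from the closed fibre, for a closed map to a local base.
* `epi_of_epi_fibre`, `mono_of_mono_fibre`.
-/

set_option autoImplicit false
set_option linter.style.haveILetI false
set_option linter.unusedSectionVars false
universe u

open CategoryTheory CategoryTheory.Limits AlgebraicGeometry TopologicalSpace Opposite

noncomputable section

namespace Groth.Agent.Lib.R2H2.HomLiftF

section Alg

open TensorProduct IsLocalRing

theorem mem_map_smul_top_iff' {A : Type*} [CommRing A] {S : Type*} [CommRing S] [Algebra A S]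
    {M : Type*} [AddCommGroup M] [Module A M] [Module S M] [IsScalarTower A S M]
    (I : Ideal A) (x : M) :
    x ∈ (I.map (algebraMap A S) • ⊤ : Submodule S M) ↔ x ∈ (I • ⊤ : Submodule A M) := by
  have h := Ideal.smul_restrictScalars (S := S) I (⊤ : Submodule S M)
  rw [Submodule.restrictScalars_top] at h
  rw [← h, Submodule.restrictScalars_mem]

theorem injective_of_lTensor_quotient_injective
    {R B B' : Type u} [CommRing R] [CommRing B] [CommRing B'] [IsLocalRing R] [IsLocalRing B]
    [IsNoetherianRing B] [Algebra R B] [IsLocalHom (algebraMap R B)] [Algebra B B']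
    (hsurj : Function.Surjective (algebraMap B B'))
    (hker : RingHom.ker (algebraMap B B') = (maximalIdeal R).map (algebraMap R B))
    {Ns M : Type u} [AddCommGroup Ns] [AddCommGroup M] [Module B Ns] [Module B M] [Module R Ns]
    [Module R M] [IsScalarTower R B Ns] [IsScalarTower R B M] [Module.Finite B Ns]
    [Module.Flat R M] (w : Ns →ₗ[B] M) (h : Function.Injective (LinearMap.lTensor B' w)) :
    Function.Injective w := by
  have key : Function.Injective ((w.restrictScalars R).lTensor (R ⧸ maximalIdeal R)) := by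
    rw [Groth.Agent.Lib.Helper5.lTensor_quotient_injective_iff]
    intro n hn
    have h1 : (1 : B') ⊗ₜ[B] (w n) = 0 := by
      have h2 : w n ∈ ((maximalIdeal R).map (algebraMap R B) • ⊤ : Submodule B M) :=
        (mem_map_smul_top_iff' _ _).2 hn
      rw [← hker] at h2
      refine Submodule.smul_induction_on h2 (fun b hb m _ => ?_) (fun x y hx hy => ?_)
      · rw [TensorProduct.tmul_smul, TensorProduct.smul_tmul', Algebra.smul_def,
          (RingHom.mem_ker).1 hb, zero_mul, TensorProduct.zero_tmul]
      · rw [TensorProduct.tmul_add, hx, hy, add_zero]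
    have h3 : (LinearMap.lTensor B' w) ((1 : B') ⊗ₜ[B] n) = 0 := by
      rw [LinearMap.lTensor_tmul]
      exact h1
    have h4 : (1 : B') ⊗ₜ[B] n = 0 := h (h3.trans (map_zero _).symm)
    have h5 := Groth.Agent.Lib.Helper20.Nakayama.mem_smul_top_of_one_tmul_eq_zero B B' hsurj Ns n h4
    rw [hker] at h5
    exact (mem_map_smul_top_iff' _ _).1 h5
  exact (Groth.Agent.Lib.Helper5.injective_and_flat_of_lTensor_residue_injective B
    (w.restrictScalars R) key).1

end Alg

section Fibre

open Groth.Agent.Lib.Helper1.Sky Groth.Agent.Lib.Helper1.StalkTensor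
  Groth.Agent.Lib.Helper26.FpqcMod Groth.Agent.Lib.Helper26.ModSec
  Groth.Agent.Lib.R2H2.HomLiftC Groth.Agent.Lib.R2H2.HomLiftE

variable {X S : Scheme.{u}} (f : X ⟶ S)

/-- **injectivity on the fibre implies injectivity at the points of the fibre** -/
theorem stalk_injective_of_mono_fibre [Flat f] [IsLocallyNoetherian X] (s : S) {F G : X.Modules}
    (hF : FlatMod.IsFinLocFree F) (hG : FlatMod.IsFinLocFree G) (u : F ⟶ G) (z : f.fiber s)
    (h : Mono ((Scheme.Modules.pullback (f.fiberι s)).map u)) :
    Function.Injective ((stalkFun (f.fiberι s z)).map u).hom := by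
  letI algRB : Algebra (S.presheaf.stalk (f (f.fiberι s z))) (Groth.Agent.Lib.Helper1.Sky.Ox (f.fiberι s z)) :=
    (f.stalkMap (f.fiberι s z)).hom.toAlgebra
  haveI : IsLocalHom (algebraMap (S.presheaf.stalk (f (f.fiberι s z))) (Groth.Agent.Lib.Helper1.Sky.Ox (f.fiberι s z))) :=
    f.toLRSHom.prop (f.fiberι s z)
  letI algBB' : Algebra (Groth.Agent.Lib.Helper1.Sky.Ox (f.fiberι s z)) (Groth.Agent.Lib.Helper1.Sky.Ox z) := ((f.fiberι s).stalkMap z).hom.toAlgebra
  have hsurj : Function.Surjective (algebraMap (Groth.Agent.Lib.Helper1.Sky.Ox (f.fiberι s z)) (Groth.Agent.Lib.Helper1.Sky.Ox z)) :=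
    (f.fiberι s).stalkMap_surjective z
  have hker : RingHom.ker (algebraMap (Groth.Agent.Lib.Helper1.Sky.Ox (f.fiberι s z)) (Groth.Agent.Lib.Helper1.Sky.Ox z)) =
      (IsLocalRing.maximalIdeal (S.presheaf.stalk (f (f.fiberι s z)))).map
        (algebraMap (S.presheaf.stalk (f (f.fiberι s z))) (Groth.Agent.Lib.Helper1.Sky.Ox (f.fiberι s z))) :=
    Groth.Agent.Lib.H9ModFibSch.ker_stalkMap_fiberι f s z
  haveI : IsNoetherianRing (Groth.Agent.Lib.Helper1.Sky.Ox (f.fiberι s z)) :=
    (inferInstance : IsNoetherianRing (X.presheaf.stalk (f.fiberι s z)))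
  letI mF : Module (S.presheaf.stalk (f (f.fiberι s z))) ((stalkFun (f.fiberι s z)).obj F) :=
    FlatMod.moduleStalkOver f F (f.fiberι s z)
  letI mG : Module (S.presheaf.stalk (f (f.fiberι s z))) ((stalkFun (f.fiberι s z)).obj G) :=
    FlatMod.moduleStalkOver f G (f.fiberι s z)
  haveI : IsScalarTower (S.presheaf.stalk (f (f.fiberι s z))) (Groth.Agent.Lib.Helper1.Sky.Ox (f.fiberι s z))
      ((stalkFun (f.fiberι s z)).obj F) := IsScalarTower.of_algebraMap_smul fun r m => rfl
  haveI : IsScalarTower (S.presheaf.stalk (f (f.fiberι s z))) (Groth.Agent.Lib.Helper1.Sky.Ox (f.fiberι s z))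
      ((stalkFun (f.fiberι s z)).obj G) := IsScalarTower.of_algebraMap_smul fun r m => rfl
  haveI : Module.Finite (Groth.Agent.Lib.Helper1.Sky.Ox (f.fiberι s z)) ((stalkFun (f.fiberι s z)).obj F) :=
    finite_stalk_of_isFinLocFree F hF _
  haveI : Module.Flat (S.presheaf.stalk (f (f.fiberι s z))) ((stalkFun (f.fiberι s z)).obj G) :=
    isFlatOver_of_isFinLocFree f G hG (f.fiberι s z)
  have h1 := (mono_iff_stalk _).1 h z
  rw [← ModuleCat.mono_iff_injective,
    sq_mono_iff _ _ _ _ inferInstance inferInstance (sq (f.fiberι s) z u),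
    ModuleCat.mono_iff_injective] at h1
  exact injective_of_lTensor_quotient_injective hsurj hker
    ((stalkFun (f.fiberι s z)).map u).hom h1

end Fibre

section Spread

open Groth.Agent.Lib.Helper1.Sky Groth.Agent.Lib.Helper1.StalkTensor
  Groth.Agent.Lib.Helper26.FpqcMod Groth.Agent.Lib.Helper26.ModSec
  Groth.Agent.Lib.R2H2.HomLiftC Groth.Agent.Lib.R2H2.HomLiftE

variable {X S : Scheme.{u}} (f : X ⟶ S)

/-- spreading an open condition from the closed fibre of a closed map to a local base -/
theorem forall_of_forall_fibre [IsProper f] (s : S) (hs : ∀ U : S.Opens, s ∈ U → U = ⊤)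
    (P : X → Prop) (hopen : ∀ x, P x → ∃ V : X.Opens, x ∈ V ∧ ∀ y ∈ V, P y)
    (hfib : ∀ x, f x = s → P x) : ∀ x, P x := by
  let V : X.Opens := ⨆ W : {W : X.Opens // ∀ y ∈ W, P y}, W.1
  have hV : ∀ y ∈ V, P y := by
    intro y hy
    obtain ⟨W, hyW⟩ := Opens.mem_iSup.1 hy
    exact W.2 y hyW
  have hfibV : ∀ x, f x = s → x ∈ V := by
    intro x hx
    obtain ⟨W, hxW, hW⟩ := hopen x (hfib x hx)
    exact Opens.mem_iSup.2 ⟨⟨W, hW⟩, hxW⟩
  have hcl : IsClosed (f '' ((V : Set X)ᶜ)) := f.isClosedMap _ V.2.isClosed_compl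
  let U : S.Opens := ⟨(f '' ((V : Set X)ᶜ))ᶜ, hcl.isOpen_compl⟩
  have hsU : s ∈ U := by
    rintro ⟨x, hxV, hx⟩
    exact hxV (hfibV x hx)
  have hU := hs U hsU
  intro x
  apply hV
  by_contra hxV
  have h1 : f x ∈ U := by rw [hU]; trivial
  exact h1 ⟨x, hxV, rfl⟩

/-- **epimorphisms on the closed fibre** -/
theorem epi_of_epi_fibre [IsProper f] (s : S) (hs : ∀ U : S.Opens, s ∈ U → U = ⊤)
    {F G : X.Modules} (hG : FlatMod.IsFinLocFree G) (u : F ⟶ G)
    (h : Epi ((Scheme.Modules.pullback (f.fiberι s)).map u)) : Epi u := by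
  haveI := isFiniteType_of_isFinLocFree G hG
  haveI hfinG : ∀ x : X, Module.Finite (Groth.Agent.Lib.Helper1.Sky.Ox x) ((stalkFun x).obj G) :=
    finite_stalk_of_isFinLocFree G hG
  apply epi_of_stalk_surjective
  refine forall_of_forall_fibre f s hs (fun x => Function.Surjective ((stalkFun x).map u).hom)
    (fun x hx => exists_open_stalk_surjective u x hx) (fun x hx => ?_)
  have hx' : x ∈ Set.range (f.fiberι s) := by
    rw [Scheme.Hom.range_fiberι]
    exact hx
  obtain ⟨z, rfl⟩ := hx'
  exact stalk_surjective_of_epi_pullback (f.fiberι s) u z h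

theorem subsingleton_stalk_kernel_of_injective {F G : X.Modules} (u : F ⟶ G) (x : X)
    (h : Function.Injective ((stalkFun x).map u).hom) :
    Subsingleton ((stalkFun x).obj (kernel u)) := by
  have hι := (mono_iff_stalk (kernel.ι u)).1 inferInstance x
  have hz : (stalkFun x).map (kernel.ι u) ≫ (stalkFun x).map u = 0 := by
    rw [← Functor.map_comp, kernel.condition, Functor.map_zero]
  refine ⟨fun a b => ?_⟩
  have key : ∀ c : (stalkFun x).obj (kernel u), c = 0 := by
    intro c
    apply hι
    apply h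
    rw [map_zero, map_zero]
    exact congrArg (fun φ => φ.hom c) hz
  rw [key a, key b]

theorem injective_of_subsingleton_stalk_kernel {F G : X.Modules} (u : F ⟶ G) (x : X)
    (h : Subsingleton ((stalkFun x).obj (kernel u))) :
    Function.Injective ((stalkFun x).map u).hom := by
  let T : ShortComplex X.Modules :=
    ShortComplex.mk (kernel.ι u) (cokernel.π (kernel.ι u)) (cokernel.condition _)
  have hT : T.ShortExact :=
    { exact := ShortComplex.exact_cokernel (kernel.ι u)
      mono_f := inferInstanceAs (Mono (kernel.ι u))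
      epi_g := inferInstanceAs (Epi (cokernel.π (kernel.ι u))) }
  obtain ⟨-, -, hex⟩ := stalk_shortExact x T hT
  have hm := (mono_iff_stalk (Abelian.factorThruCoimage u)).1 inferInstance x
  have hfac : (stalkFun x).map (cokernel.π (kernel.ι u)) ≫
      (stalkFun x).map (Abelian.factorThruCoimage u) = (stalkFun x).map u := by
    rw [← Functor.map_comp]
    congr 1
    exact Abelian.coimage.fac u
  rw [injective_iff_map_eq_zero]
  intro a ha
  have h1 : ((stalkFun x).map (Abelian.factorThruCoimage u)).hom
      (((stalkFun x).map (cokernel.π (kernel.ι u))).hom a) = 0 := by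
    have := congrArg (fun φ => φ.hom a) hfac
    exact this.trans ha
  have h2 : ((stalkFun x).map (cokernel.π (kernel.ι u))).hom a = 0 := by
    apply hm
    rw [map_zero]
    exact h1
  obtain ⟨k, hk⟩ := (hex a).1 h2
  have hk0 : k = 0 := @Subsingleton.elim _ h k 0
  rw [← hk, hk0]
  exact map_zero _

/-- **monomorphisms on the closed fibre** -/
theorem mono_of_mono_fibre [IsProper f] [Flat f] [IsLocallyNoetherian X] (s : S)
    (hs : ∀ U : S.Opens, s ∈ U → U = ⊤)
    {F G : X.Modules} (hF : FlatMod.IsFinLocFree F) (hG : FlatMod.IsFinLocFree G) (u : F ⟶ G)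
    (h : Mono ((Scheme.Modules.pullback (f.fiberι s)).map u)) : Mono u := by
  have hK : Coh.IsCoh (kernel u) := Groth.Agent.Lib.R2H2.PdSheaf.isCoh_kernel
    (Groth.Agent.Lib.R2H2.PnLocFree.isCoh_of_isFinLocFree F hF)
    (Groth.Agent.Lib.R2H2.PnLocFree.isCoh_of_isFinLocFree G hG) u
  have hft := hK.2
  haveI := hft
  rw [mono_iff_stalk]
  refine forall_of_forall_fibre f s hs (fun x => Function.Injective ((stalkFun x).map u).hom)
    (fun x hx => ?_) (fun x hx => ?_)
  · have h1 : Subsingleton ((kernel u).presheaf.stalk x) :=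
      subsingleton_stalk_kernel_of_injective u x hx
    obtain ⟨V, hxV, hV⟩ :=
      Groth.Agent.Lib.Helper20.SuppClosed.exists_opens_subsingleton_stalk (kernel u) x h1
    exact ⟨V, hxV, fun y hy => injective_of_subsingleton_stalk_kernel u y (hV y hy)⟩
  · have hx' : x ∈ Set.range (f.fiberι s) := by
      rw [Scheme.Hom.range_fiberι]
      exact hx
    obtain ⟨z, rfl⟩ := hx'
    exact stalk_injective_of_mono_fibre f s hF hG u z h

end Spread

end Groth.Agent.Lib.R2H2.HomLiftF
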