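import Mathlib
import Groth.Prelude
import Groth.Agent.Lib.R2H2IdealMul
import Groth.Agent.Lib.R2H2ReesAR
import Groth.Agent.Lib.R2H2FormalFn
import Groth.Agent.Lib.R2H2PushModPow
import Groth.Agent.Lib.Helper23FinTypeLocal
import Groth.Agent.Lib.Helper2ModExact
import Groth.Agent.Lib.Helper8ModCoprodSectR
import Groth.Agent.Lib.H9ZarModPow
set_option backward.isDefEq.respectTransparency.types false

/-!
# Sections of `F / I^n F` over affine opens (helper2, round 2)

For `X` over `Spec A`, `F` a quasi-coherent `O_X`-module, `U` an affine open: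
* `ρ U : A →+* Γ(X, U)`;
* `modPowπ_app_surjective` : `Γ(F, U) → Γ(F/I^n F, U)` is surjective;
* `mem_of_modPowπ_app_eq_zero` : its kernel is contained in `I^n Γ(F, U)`;
* `modPowπ_app_eq_zero_of_mem` : `I^n Γ(F, U)` is killed (any open `U`).
-/

set_option autoImplicit false
set_option linter.style.haveILetI false
set_option linter.unusedSectionVars false
universe u

open CategoryTheory CategoryTheory.Limits AlgebraicGeometry TopologicalSpace Opposite

noncomputable section

namespace Groth.Agent.Lib.R2H2.ModPowAff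

variable {A : Type u} [CommRing A] (I : Ideal A) {X : Scheme.{u}} [X.Over (Spec (CommRingCat.of A))]
  (F : X.Modules)

/-- the structure map `A → Γ(X, U)` -/
def ρ (U : X.Opens) : A →+* Γ(X, U) :=
  (X.presheaf.map (homOfLE (le_top : U ≤ ⊤)).op).hom.comp
    (Coh.toGlobal (X ↘ Spec (CommRingCat.of A)))

theorem smulMod_app' (a : A) (U : X.Opens) (s : Γ(F, U)) :
    (Formal.smulMod A F a).app U s = ρ U a • s := rfl

theorem modPowπ_app_surjective (n : ℕ) [F.IsQuasicoherent] {U : X.Opens} (hU : IsAffineOpen U) :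
    Function.Surjective ((Formal.modPowπ I n F).app U) := by
  haveI := Groth.Agent.Lib.R2H2.PushModPow.isQuasicoherent_modPow I F n
  haveI : Epi (Formal.modPowπ I n F) := inferInstanceAs (Epi (cokernel.π _))
  exact Groth.Agent.Lib.Helper23.FinType.surjective_app_of_epi (Formal.modPowπ I n F) hU

theorem modPowπ_app_smul_eq_zero (n : ℕ) (U : X.Opens) (a : A) (ha : a ∈ I ^ n) (s : Γ(F, U)) :
    (Formal.modPowπ I n F).app U (ρ U a • s) = 0 := by
  rw [Scheme.Modules.Hom.app_smul]
  exact Groth.Agent.Lib.H9ZarModPow.kills_modPow I n F a ha U _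

theorem modPowπ_app_eq_zero_of_mem (n : ℕ) (U : X.Opens) (s : Γ(F, U))
    (hs : s ∈ (I ^ n).map (ρ U) • (⊤ : Submodule Γ(X, U) Γ(F, U))) :
    (Formal.modPowπ I n F).app U s = 0 := by
  refine Submodule.smul_induction_on hs ?_ ?_
  · intro r hr m _
    rw [Scheme.Modules.Hom.app_smul]
    have : r ∈ Ideal.span ((ρ U) '' ((I ^ n : Ideal A) : Set A)) := hr
    refine Submodule.span_induction (p := fun r _ => r • (Formal.modPowπ I n F).app U m = 0)
      ?_ ?_ ?_ ?_ this
    · rintro _ ⟨a, ha, rfl⟩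
      rw [← Scheme.Modules.Hom.app_smul]
      exact modPowπ_app_smul_eq_zero I F n U a ha m
    · exact zero_smul _ _
    · intro x y _ _ hx hy
      rw [add_smul, hx, hy, add_zero]
    · intro c x _ hx
      rw [smul_eq_mul, mul_smul, hx, smul_zero]
  · intro x y hx hy
    rw [map_add, hx, hy, add_zero]

open Groth.Agent.Lib.R2H2.IdealMul Groth.Agent.Lib.R2H2.ReesAR Groth.Agent.Lib.R2H2.FormalFn in
theorem mem_of_modPowπ_app_eq_zero (n : ℕ) [F.IsQuasicoherent] {U : X.Opens} (hU : IsAffineOpen U)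
    (s : Γ(F, U)) (hs : (Formal.modPowπ I n F).app U s = 0) :
    s ∈ (I ^ n).map (ρ U) • (⊤ : Submodule Γ(X, U) Γ(F, U)) := by
  classical
  obtain ⟨t, ht⟩ := Groth.Agent.Lib.Helper2.ModExact.exists_app_eq_of_shortExact (sesPow I X F n)
    (sesPow_shortExact I X F n) U s hs
  -- pass to idealMul
  set t' : Γ(CohIII.idealMul (I ^ n) F, U) := (κ I X F n).inv.app U t with ht'
  have e1 : (CohIII.idealMulι (I ^ n) F).app U t' = s := by
    have h := congrArg (fun φ => Scheme.Modules.Hom.app φ U t) (κ_inv_ι I X F n)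
    exact h.trans ht
  haveI : (∐ fun _ : ↥(I ^ n) => F).IsQuasicoherent :=
    Groth.Agent.Lib.R2H2.CoprodCoh.isQuasicoherent_sigma (fun _ : ↥(I ^ n) => F)
      (fun _ => inferInstance)
  haveI := isQuasicoherent_idealMul F (I ^ n)
  obtain ⟨w, hw⟩ := Groth.Agent.Lib.Helper23.FinType.surjective_app_of_epi
    (idealMulπ F (I ^ n)) hU t'
  have e2 : (Formal.smulFamily (I ^ n) F).app U w = s := by
    have h := congrArg (fun φ => Scheme.Modules.Hom.app φ U w) (idealMulπ_ι F (I ^ n))
    refine h.symm.trans ?_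
    change (CohIII.idealMulι (I ^ n) F).app U ((idealMulπ F (I ^ n)).app U w) = s
    rw [hw, e1]
  obtain ⟨S, tt, hS⟩ := (Groth.Agent.Lib.Helper8ModCoprodSectR.main X.ringCatSheaf
    (fun _ : ↥(I ^ n) => F) U hU.isCompact).1 w
  have e3 : ∀ i : ↥(I ^ n), (Formal.smulFamily (I ^ n) F).app U
      (((Sigma.ι (fun _ : ↥(I ^ n) => F) i).val.app (op U)).hom (tt i)) =
      ρ U (i : A) • (tt i : Γ(F, U)) := by
    intro i
    have h := congrArg (fun φ => Scheme.Modules.Hom.app φ U (tt i))
      (Sigma.ι_desc (fun a : ↥(I ^ n) => Formal.smulMod A F (a : A)) i)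
    exact h
  subst hS
  have e4 : s = ∑ i ∈ S, ρ U (i : A) • (tt i : Γ(F, U)) := by
    rw [← e2]
    refine (map_sum ((Formal.smulFamily (I ^ n) F).app U).hom _ S).trans ?_
    exact Finset.sum_congr rfl fun i _ => e3 i
  rw [e4]
  refine Submodule.sum_mem _ fun i _ => ?_
  exact Submodule.smul_mem_smul (Ideal.mem_map_of_mem _ i.2) Submodule.mem_top

end Groth.Agent.Lib.R2H2.ModPowAff
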