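import Mathlib
import Groth.Prelude
import Groth.Agent.Lib.R2H2HomShC
import Groth.Agent.Lib.R2H2HomAR
import Groth.Agent.Lib.R2H2ModPowAff
set_option backward.isDefEq.respectTransparency.types false

/-!
# Lifting morphisms `M ⟶ N / I^k N` to sections of the sheaf Hom (helper2, round 2)

* `existsUnique_glue` : gluing sections of an `O_X`-module.
* `Lifts g π h` : the section `h` of `𝓗om(M, N)` over `W` lifts `g : M ⟶ Q` along `π : N ⟶ Q` on `W`.
* `exists_ar1`, `exists_ar2` : the Artin–Rees statements for the sheaf Hom over an affine open.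
-/

set_option autoImplicit false
set_option linter.style.haveILetI false
set_option linter.unusedSectionVars false
universe u

open CategoryTheory CategoryTheory.Limits AlgebraicGeometry TopologicalSpace Opposite

noncomputable section

namespace Groth.Agent.Lib.R2H2.HomLimA

open RefHull Groth.Agent.Lib.Helper6 Groth.Agent.Lib.R2H2.HomShA Groth.Agent.Lib.R2H2.HomShB
  Groth.Agent.Lib.R2H2.HomShC Groth.Agent.Lib.Helper2.FlatOver Groth.Agent.Helper13ModGlue
  Groth.Agent.Lib.R2H2.ModPowAff Groth.Agent.Lib.R2H2.HomAR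

section Glue

variable {X : Scheme.{u}}

/-- the underlying sheaf of abelian groups -/
abbrev sh (F : X.Modules) : TopCat.Sheaf Ab X := ⟨F.presheaf, F.isSheaf⟩

theorem existsUnique_glue (F : X.Modules) {ι : Type*} (U : ι → X.Opens) (W : X.Opens)
    (hle : ∀ i, U i ≤ W) (hcov : W ≤ ⨆ i, U i) (s : ∀ i, Γ(F, U i))
    (hs : ∀ i j, res F (inf_le_left : U i ⊓ U j ≤ U i) (s i) =
      res F (inf_le_right : U i ⊓ U j ≤ U j) (s j)) :
    ∃! t : Γ(F, W), ∀ i, res F (hle i) t = s i :=
  (sh F).existsUnique_gluing' U W (fun i => homOfLE (hle i)) hcov s hs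

theorem eq_of_res_eq (F : X.Modules) {ι : Type*} (U : ι → X.Opens) (W : X.Opens)
    (hle : ∀ i, U i ≤ W) (hcov : W ≤ ⨆ i, U i) (s t : Γ(F, W))
    (h : ∀ i, res F (hle i) s = res F (hle i) t) : s = t :=
  (sh F).eq_of_locally_eq' U W (fun i => homOfLE (hle i)) hcov s t h

theorem res_app {F G : X.Modules} (φ : F ⟶ G) {U V : X.Opens} (h : V ≤ U) (s : Γ(F, U)) :
    res G h (φ.app U s) = φ.app V (res F h s) := by
  have := φ.mapPresheaf.naturality (homOfLE h).op
  exact (congrArg (fun ψ => ψ s) this).symm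

end Glue

section Lifts

variable {X : Scheme.{u}} {M N Q : X.Modules}

/-- the linear map on sections induced by a morphism -/
def appₗ (φ : M ⟶ N) (U : X.Opens) : Γ(M, U) →ₗ[Γ(X, U)] Γ(N, U) where
  toFun x := φ.app U x
  map_add' x y := map_add _ x y
  map_smul' r x := Scheme.Modules.Hom.app_smul φ r x

theorem appₗ_apply (φ : M ⟶ N) (U : X.Opens) (x : Γ(M, U)) : appₗ φ U x = φ.app U x := rfl

/-- the section `h` of the sheaf Hom over `W` lifts `g` along `π` -/
def Lifts (g : M ⟶ Q) (π : N ⟶ Q) {W : X.Opens} (h : Γ(homSh M N, W)) : Prop :=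
  ∀ (V : X.Opens) (hV : V ≤ W) (m : Γ(M, V)), π.app V (actSec h hV m) = g.app V m

theorem Lifts.res {g : M ⟶ Q} {π : N ⟶ Q} {W : X.Opens} {h : Γ(homSh M N, W)}
    (hl : Lifts g π h) {W' : X.Opens} (hW' : W' ≤ W) : Lifts g π (res (homSh M N) hW' h) := by
  intro V hV m
  rw [actSec_res_left h hW' hV m]
  exact hl V (hV.trans hW') m

theorem Lifts.add_of_zero {g : M ⟶ Q} {π : N ⟶ Q} {W : X.Opens} {h d : Γ(homSh M N, W)}
    (hl : Lifts g π h) (hd : Lifts 0 π d) : Lifts g π (h + d) := by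
  intro V hV m
  rw [actSec_add_left, map_add, hl V hV m, hd V hV m]
  exact _root_.add_zero _

theorem actSec_sub_left {W : X.Opens} (h h' : Γ(homSh M N, W)) {V : X.Opens} (hV : V ≤ W)
    (m : Γ(M, V)) : actSec (h - h') hV m = actSec h hV m - actSec h' hV m := by
  have e := actSec_add_left (h - h') h' hV m
  rw [sub_add_cancel] at e
  rw [e, add_sub_cancel_right]

theorem Lifts.sub {g : M ⟶ Q} {π : N ⟶ Q} {W : X.Opens} {h h' : Γ(homSh M N, W)}
    (hl : Lifts g π h) (hl' : Lifts g π h') : Lifts 0 π (h - h') := by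
  intro V hV m
  rw [actSec_sub_left, map_sub, hl V hV m, hl' V hV m, sub_self]
  rfl

theorem Lifts.comp {g : M ⟶ Q} {π : N ⟶ Q} {W : X.Opens} {h : Γ(homSh M N, W)}
    (hl : Lifts g π h) {Q' : X.Modules} (t : Q ⟶ Q') : Lifts (g ≫ t) (π ≫ t) h := by
  intro V hV m
  change t.app V (π.app V (actSec h hV m)) = t.app V (g.app V m)
  rw [hl V hV m]

/-- lifting is local on the domain -/
theorem lifts_of_cover {g : M ⟶ Q} {π : N ⟶ Q} {W : X.Opens} {h : Γ(homSh M N, W)}
    {ι : Type*} (U : ι → X.Opens) (hle : ∀ i, U i ≤ W) (hcov : W ≤ ⨆ i, U i)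
    (hl : ∀ i, Lifts g π (Helper6.res (homSh M N) (hle i) h)) : Lifts g π h := by
  intro V hV m
  refine eq_of_res_eq Q (fun i => V ⊓ U i) V (fun i => inf_le_left) ?_ _ _ ?_
  · intro x hx
    obtain ⟨i, hi⟩ := Opens.mem_iSup.mp (hcov (hV hx))
    exact Opens.mem_iSup.mpr ⟨i, ⟨hx, hi⟩⟩
  · intro i
    rw [res_app, res_app, actSec_res h hV inf_le_left m]
    have := hl i (V ⊓ U i) inf_le_right (Helper6.res M inf_le_left m)
    rw [actSec_res_left h (hle i) inf_le_right] at this
    exact this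

/-- on an affine open, it suffices to check the lifting property on the sections over it -/
theorem lifts_of_affine {g : M ⟶ Q} {π : N ⟶ Q} {W : X.Opens} (hW : IsAffineOpen W)
    [M.IsQuasicoherent] {h : Γ(homSh M N, W)}
    (hl : ∀ m : Γ(M, W), π.app W (actSec h le_rfl m) = g.app W m) : Lifts g π h := by
  intro V hV m
  apply sec_ext_germ
  intro x hx
  have hxW : x ∈ W := hV hx
  letI := moduleStalkSections M W x hxW
  haveI := isLocalizedModule_germ hW M x hxW
  obtain ⟨⟨m₀, s⟩, hs⟩ := IsLocalizedModule.surj (hW.primeIdealOf ⟨x, hxW⟩).asIdeal.primeCompl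
    (germₗ M W x hxW) (M.presheaf.germ V x hx m)
  have hs' : X.presheaf.germ W x hxW s.1 • M.presheaf.germ V x hx m =
      M.presheaf.germ W x hxW m₀ := hs
  have hu : IsUnit (X.presheaf.germ W x hxW s.1) := by
    rw [← Scheme.mem_basicOpen X s.1 x hxW,
      Groth.Agent.Lib.Helper2.mem_basicOpen_iff_notMem_primeIdealOf hW x hxW]
    exact s.2
  rw [← stalkMapₗ_germ π x hx, ← stalkMapₗ_germ g x hx, germ_actSec h hV m x hx]
  apply hu.smul_left_cancel.mp
  have e1 : stalkMapₗ π x (h.1 ⟨x, hxW⟩ (X.presheaf.germ W x hxW s.1 • M.presheaf.germ V x hx m)) =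
      X.presheaf.germ W x hxW s.1 • stalkMapₗ π x (h.1 ⟨x, hxW⟩ (M.presheaf.germ V x hx m)) := by
    rw [(h.1 ⟨x, hxW⟩).map_smul, (stalkMapₗ π x).map_smul]
  have e2 : stalkMapₗ g x (X.presheaf.germ W x hxW s.1 • M.presheaf.germ V x hx m) =
      X.presheaf.germ W x hxW s.1 • stalkMapₗ g x (M.presheaf.germ V x hx m) :=
    (stalkMapₗ g x).map_smul _ _
  rw [← e1, ← e2, hs', ← germ_actSec h le_rfl m₀ x hxW,
    stalkMapₗ_germ π x hxW, stalkMapₗ_germ g x hxW, hl m₀]

end Lifts

section AR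

variable {A : Type u} [CommRing A] (I : Ideal A) {X : Scheme.{u}} [X.Over (Spec (CommRingCat.of A))]
  {M N : X.Modules}

theorem ρ_res {U V : X.Opens} (h : V ≤ U) (a : A) : resf h (ρ (X := X) U a) = ρ V a := by
  change (X.presheaf.map (homOfLE le_top).op ≫ X.presheaf.map (homOfLE h).op) _ = _
  rw [← Functor.map_comp]
  rfl

theorem resf_mem_map {U V : X.Opens} (h : V ≤ U) (J : Ideal A) (r : Γ(X, U))
    (hr : r ∈ J.map (ρ (X := X) U)) : resf h r ∈ J.map (ρ (X := X) V) := by
  have h1 : r ∈ Ideal.span ((ρ U) '' (J : Set A)) := hr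
  refine Submodule.span_induction (p := fun r _ => resf h r ∈ J.map (ρ (X := X) V)) ?_ ?_ ?_ ?_ h1
  · rintro _ ⟨a, ha, rfl⟩
    rw [ρ_res]
    exact Ideal.mem_map_of_mem _ ha
  · rw [show resf h (0 : Γ(X, U)) = 0 from map_zero _]
    exact Submodule.zero_mem _
  · intro x y _ _ hx hy
    rw [show resf h (x + y) = resf h x + resf h y from map_add _ _ _]
    exact Submodule.add_mem _ hx hy
  · intro c x _ hx
    rw [smul_eq_mul, show resf h (c * x) = resf h c * resf h x from map_mul _ _ _]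
    exact Ideal.mul_mem_left _ _ hx

/-- sections of `I^k 𝓗om(M, N)` lift zero modulo `I^k` -/
theorem lifts_zero_of_mem (k : ℕ) {W : X.Opens} (d : Γ(homSh M N, W))
    (hd : d ∈ (I ^ k).map (ρ W) • (⊤ : Submodule Γ(X, W) Γ(homSh M N, W))) :
    Lifts 0 (Formal.modPowπ I k N) d := by
  intro V hV m
  refine Submodule.smul_induction_on (p := fun d => (Formal.modPowπ I k N).app V (actSec d hV m) =
    (0 : M ⟶ Formal.modPow I k N).app V m) hd ?_ ?_
  · intro r hr h' _
    rw [actSec_smul_left]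
    refine (modPowπ_app_eq_zero_of_mem I N k V _ ?_).trans rfl
    exact Submodule.smul_mem_smul (resf_mem_map hV _ r hr) Submodule.mem_top
  · intro x y hx hy
    rw [actSec_add_left, map_add, hx, hy]
    exact _root_.add_zero _

variable [IsLocallyNoetherian X]

theorem exists_ar1 (hM : Coh.IsCoh M) (hN : Coh.IsCoh N) {V : X.Opens} (hV : IsAffineOpen V) :
    ∃ c : ℕ, ∀ (k : ℕ) (h : Γ(homSh M N, V)), Lifts 0 (Formal.modPowπ I (k + c) N) h →
      (Formal.modPowπ I k (homSh M N)).app V h = 0 := by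
  haveI := hM.1
  haveI := hN.1
  have hM2 := hM.2
  have hN2 := hN.2
  haveI := hM2
  haveI := hN2
  haveI : IsNoetherianRing Γ(X, V) := IsLocallyNoetherian.component_noetherian ⟨V, hV⟩
  haveI : Module.Finite Γ(X, V) Γ(M, V) := Groth.Agent.Lib.Helper23.FinType.finite_of_isFiniteType M hV
  haveI : Module.Finite Γ(X, V) Γ(N, V) := Groth.Agent.Lib.Helper23.FinType.finite_of_isFiniteType N hV
  obtain ⟨c, hc⟩ := exists_mem_smul_top_of_range_le (I.map (ρ V)) Γ(M, V) Γ(N, V)
  refine ⟨c, fun k h hl => ?_⟩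
  have h1 : ∀ m, secLin V h m ∈ (I.map (ρ V)) ^ (k + c) • (⊤ : Submodule Γ(X, V) Γ(N, V)) := by
    intro m
    have h0 : (Formal.modPowπ I (k + c) N).app V (secLin V h m) = 0 := (hl V le_rfl m).trans rfl
    have := mem_of_modPowπ_app_eq_zero I N (k + c) hV _ h0
    rwa [Ideal.map_pow] at this
  have h2 := hc k (secLin V h) h1
  have h3 : h ∈ (I.map (ρ V)) ^ k • (⊤ : Submodule Γ(X, V) Γ(homSh M N, V)) := by
    have := Submodule.smul_top_le_comap_smul_top ((I.map (ρ V)) ^ k)
      (affEquiv (F := M) (G := N) hV).symm.toLinearMap h2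
    have e : (affEquiv (F := M) (G := N) hV).symm (secLin V h) = h :=
      (affEquiv (F := M) (G := N) hV).symm_apply_apply h
    rw [Submodule.mem_comap] at this
    exact e ▸ this
  rw [← Ideal.map_pow] at h3
  exact modPowπ_app_eq_zero_of_mem I (homSh M N) k V h h3

theorem exists_ar2 (hM : Coh.IsCoh M) (hN : Coh.IsCoh N) {U : X.Opens} (hU : IsAffineOpen U) :
    ∃ c : ℕ, ∀ (k k' : ℕ) (hk : k + c ≤ k') (g : M ⟶ Formal.modPow I k' N),
      ∃ h : Γ(homSh M N, U),
        Lifts (g ≫ Formal2.modPowLE I ((Nat.le_add_right k c).trans hk) N) (Formal.modPowπ I k N) h := by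
  haveI := hM.1
  haveI := hN.1
  have hM2 := hM.2
  have hN2 := hN.2
  haveI := hM2
  haveI := hN2
  haveI : IsNoetherianRing Γ(X, U) := IsLocallyNoetherian.component_noetherian ⟨U, hU⟩
  haveI : Module.Finite Γ(X, U) Γ(M, U) := Groth.Agent.Lib.Helper23.FinType.finite_of_isFiniteType M hU
  haveI : Module.Finite Γ(X, U) Γ(N, U) := Groth.Agent.Lib.Helper23.FinType.finite_of_isFiniteType N hU
  obtain ⟨c, hc⟩ := exists_lift_mod (I.map (ρ U)) Γ(M, U) Γ(N, U)
  refine ⟨c, fun k k' hk g => ?_⟩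
  let πl : Γ(N, U) →ₗ[Γ(X, U)] Γ(Formal.modPow I k' N, U) := appₗ (Formal.modPowπ I k' N) U
  have hsurj : Function.Surjective πl := modPowπ_app_surjective I N k' hU
  have hker : LinearMap.ker πl ≤ (I.map (ρ U)) ^ (k + c) • (⊤ : Submodule Γ(X, U) Γ(N, U)) := by
    intro s hs
    have := mem_of_modPowπ_app_eq_zero I N k' hU s hs
    rw [Ideal.map_pow] at this
    exact Submodule.smul_mono (Ideal.pow_le_pow_right hk) le_rfl this
  obtain ⟨L, hL⟩ := hc k _ πl hsurj hker (appₗ g U)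
  refine ⟨(affEquiv (F := M) (G := N) hU).symm L, ?_⟩
  apply lifts_of_affine hU
  intro m
  have e1 : actSec ((affEquiv (F := M) (G := N) hU).symm L) le_rfl m = L m :=
    LinearMap.congr_fun ((affEquiv (F := M) (G := N) hU).apply_symm_apply L) m
  rw [e1]
  obtain ⟨y, hy, e⟩ := hL m
  have e2 : (g ≫ Formal2.modPowLE I ((Nat.le_add_right k c).trans hk) N).app U m =
      (Formal2.modPowLE I ((Nat.le_add_right k c).trans hk) N).app U (πl (L m + y)) := by
    rw [e]
    rfl
  have e3 : ∀ x : Γ(N, U), (Formal2.modPowLE I ((Nat.le_add_right k c).trans hk) N).app U (πl x) =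
      (Formal.modPowπ I k N).app U x := fun x =>
    congrArg (fun φ => Scheme.Modules.Hom.app φ U x)
      (Formal2.modPowπ_modPowLE I ((Nat.le_add_right k c).trans hk) N)
  rw [e2, e3, map_add, modPowπ_app_eq_zero_of_mem I N k U y (by rwa [Ideal.map_pow]), add_zero]

end AR

end Groth.Agent.Lib.R2H2.HomLimA
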