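import Mathlib
import Groth.Prelude
import Groth.Agent.Lib.R2H2HomLimA
import Groth.Agent.Lib.H9ZarLift
set_option backward.isDefEq.respectTransparency.types false

/-!
# Morphisms into the completion of a coherent module (helper2, round 2)

`core` : on a Noetherian scheme `X` over `Spec A`, for coherent `M`, `N` such that
`H⁰(X, 𝓗om(M, N)) → lim H⁰(X, 𝓗om(M, N)/I^n)` is bijective, every compatible family of morphisms
`M ⟶ N / I^k N` comes from a unique morphism `M ⟶ N`.
-/

set_option autoImplicit false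
set_option linter.style.haveILetI false
set_option linter.unusedSectionVars false
universe u

open CategoryTheory CategoryTheory.Limits AlgebraicGeometry TopologicalSpace Opposite

noncomputable section

namespace Groth.Agent.Lib.R2H2.HomLimB

open RefHull Groth.Agent.Lib.Helper6 Groth.Agent.Lib.R2H2.HomShA Groth.Agent.Lib.R2H2.HomShB
  Groth.Agent.Lib.R2H2.HomShC Groth.Agent.Helper13ModGlue
  Groth.Agent.Lib.R2H2.ModPowAff Groth.Agent.Lib.R2H2.HomLimA

section Sec

variable {A : Type u} [CommRing A] (I : Ideal A) {X : Scheme.{u}} [X.Over (Spec (CommRingCat.of A))]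

open Groth.Agent.Lib.H9ZarLift in
theorem existsUnique_section (F : X.Modules) (hb : Function.Bijective (Formal.toHHlim I F 0))
    (σ : ∀ n, Γ(Formal.modPow I (n + 1) F, ⊤))
    (hσ : ∀ n, (Formal.modPowTrans I (n + 1) F).app ⊤ (σ (n + 1)) = σ n) :
    ∃! s : Γ(F, ⊤), ∀ n, (Formal.modPowπ I (n + 1) F).app ⊤ s = σ n := by
  let x : ∀ n, Formal.HHmodPow I F 0 n := fun n => (h0 _).symm (σ n)
  have hx : x ∈ Formal.HHlim I F 0 := by
    intro n
    apply (h0 _).injective
    change h0 _ (Sheaf.H.map _ 0 (x (n + 1))) = _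
    rw [h0_natural]
    simp only [x, AddEquiv.apply_symm_apply]
    exact hσ n
  obtain ⟨y, hy⟩ := hb.2 ⟨x, hx⟩
  refine ⟨h0 _ y, fun n => ?_, fun s' hs' => ?_⟩
  · have h1 : Formal.toHHmodPow I F 0 n y = x n := congrFun (congrArg Subtype.val hy) n
    rw [← h0_natural]
    change h0 _ (Formal.toHHmodPow I F 0 n y) = _
    rw [h1]
    simp only [x, AddEquiv.apply_symm_apply]
  · have e : (h0 F).symm s' = y := by
      apply hb.1
      rw [hy]
      apply Subtype.ext
      funext n
      apply (h0 _).injective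
      change h0 _ (Formal.toHHmodPow I F 0 n ((h0 F).symm s')) = h0 _ (x n)
      have := h0_natural (Formal.modPowπ I (n + 1) F) ((h0 F).symm s')
      rw [AddEquiv.apply_symm_apply] at this
      refine this.trans ((hs' n).trans ?_)
      simp only [x, AddEquiv.apply_symm_apply]
    rw [← e, AddEquiv.apply_symm_apply]

end Sec

section Global

variable {A : Type u} [CommRing A] (I : Ideal A) {X : Scheme.{u}} [X.Over (Spec (CommRingCat.of A))]
  {M N : X.Modules}

/-- monotonicity of the lifting property in the level -/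
theorem lifts_le (g : ∀ k, M ⟶ Formal.modPow I k N)
    (hg : ∀ (k k' : ℕ) (h : k ≤ k'), g k' ≫ Formal2.modPowLE I h N = g k)
    {W : X.Opens} {h : Γ(homSh M N, W)} {a b : ℕ} (hab : b ≤ a)
    (hl : Lifts (g a) (Formal.modPowπ I a N) h) : Lifts (g b) (Formal.modPowπ I b N) h := by
  have := hl.comp (Formal2.modPowLE I hab N)
  rwa [hg, Formal2.modPowπ_modPowLE] at this

theorem lifts_zero_le {W : X.Opens} {h : Γ(homSh M N, W)} {a b : ℕ} (hab : b ≤ a)
    (hl : Lifts 0 (Formal.modPowπ I a N) h) : Lifts 0 (Formal.modPowπ I b N) h :=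
  lifts_le I (fun k => (0 : M ⟶ Formal.modPow I k N)) (fun _ _ _ => zero_comp) hab hl

/-- the Artin–Rees property of the sheaf Hom over `W` with constant `c` -/
def AR1 (M N : X.Modules) (W : X.Opens) (c : ℕ) : Prop :=
  ∀ (k : ℕ) (d : Γ(homSh M N, W)), Lifts 0 (Formal.modPowπ I (k + c) N) d →
    (Formal.modPowπ I k (homSh M N)).app W d = 0

theorem AR1.mono {W : X.Opens} {c c' : ℕ} (h : AR1 I M N W c) (hc : c ≤ c') : AR1 I M N W c' :=
  fun k d hd => h k d (lifts_zero_le I (Nat.add_le_add_left hc k) hd)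

theorem exists_ar1_of_isCompact [IsLocallyNoetherian X] (hM : Coh.IsCoh M) (hN : Coh.IsCoh N)
    (W : X.Opens) (hW : IsCompact (W : Set X)) : ∃ c, AR1 I M N W c := by
  obtain ⟨s, hsfin, hs⟩ := isCompact_iff_finite_and_eq_biUnion_affineOpens.mp hW
  haveI : Finite s := hsfin.to_subtype
  have h1 : ∀ V : s, ∃ c, AR1 I M N (V.1 : X.Opens) c := fun V => exists_ar1 I hM hN V.1.2
  choose cf hcf using h1
  obtain ⟨c, hc⟩ := Finite.exists_le cf
  have hle : ∀ V : s, (V.1 : X.Opens) ≤ W := by
    intro V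
    rw [hs]
    exact le_iSup₂ (f := fun (i : X.affineOpens) (_ : i ∈ s) => (i : X.Opens)) V.1 V.2
  have hcov : W ≤ ⨆ V : s, (V.1 : X.Opens) := by
    rw [hs, iSup_subtype']
  refine ⟨c, fun k d hd => ?_⟩
  refine eq_of_res_eq (Formal.modPow I k (homSh M N)) (fun V : s => (V.1 : X.Opens)) W hle hcov _ _
    (fun V => ?_)
  rw [res_app, Helper6.res_zero]
  exact (hcf V).mono I (hc V) k _ (hd.res (hle V))

theorem core [IsNoetherian X] (hM : Coh.IsCoh M) (hN : Coh.IsCoh N)
    (hb : Function.Bijective (Formal.toHHlim I (homSh M N) 0))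
    (g : ∀ k, M ⟶ Formal.modPow I k N)
    (hg : ∀ (k k' : ℕ) (h : k ≤ k'), g k' ≫ Formal2.modPowLE I h N = g k) :
    ∃! φ : M ⟶ N, ∀ k, φ ≫ Formal.modPowπ I k N = g k := by
  classical
  have hH : Coh.IsCoh (homSh M N) := isCoh_homSh hM hN
  haveI := hM.1
  haveI := hN.1
  haveI := hH.1
  -- a finite affine cover
  have htop : IsCompact ((⊤ : X.Opens) : Set X) := by
    rw [Opens.coe_top]
    exact isCompact_univ
  obtain ⟨s, hsfin, hs⟩ := (isCompact_iff_finite_and_eq_biUnion_affineOpens (U := (⊤ : X.Opens))).mp htop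
  haveI : Finite s := hsfin.to_subtype
  let U : s → X.Opens := fun i => (i.1 : X.Opens)
  have hUaff : ∀ i, IsAffineOpen (U i) := fun i => i.1.2
  have hcov : (⊤ : X.Opens) ≤ ⨆ i, U i := by
    rw [hs, iSup_subtype']
  -- the constants
  have h2 := fun i : s => exists_ar2 I hM hN (hUaff i)
  choose c2f hc2f using h2
  obtain ⟨c2, hc2⟩ := Finite.exists_le c2f
  have h1 : ∀ p : s × s, ∃ c, AR1 I M N (U p.1 ⊓ U p.2) c := fun p =>
    exists_ar1_of_isCompact I hM hN _ (NoetherianSpace.isCompact _)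
  choose c1f hc1f using h1
  obtain ⟨c1, hc1⟩ := Finite.exists_le c1f
  -- local lifts
  have hex : ∀ (k : ℕ) (i : s), ∃ h : Γ(homSh M N, U i), Lifts (g k) (Formal.modPowπ I k N) h := by
    intro k i
    obtain ⟨h, hh⟩ := hc2f i k (k + c2) (Nat.add_le_add_left (hc2 i) k) (g (k + c2))
    rw [hg] at hh
    exact ⟨h, hh⟩
  -- comparison of lifts
  have hkey : ∀ (k : ℕ) (i j : s) (h : Γ(homSh M N, U i)) (h' : Γ(homSh M N, U j)),
      Lifts (g (k + c1)) (Formal.modPowπ I (k + c1) N) h →
      Lifts (g (k + c1)) (Formal.modPowπ I (k + c1) N) h' →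
      Helper6.res (Formal.modPow I k (homSh M N)) (inf_le_left : U i ⊓ U j ≤ U i)
        ((Formal.modPowπ I k (homSh M N)).app (U i) h) =
      Helper6.res (Formal.modPow I k (homSh M N)) (inf_le_right : U i ⊓ U j ≤ U j)
        ((Formal.modPowπ I k (homSh M N)).app (U j) h') := by
    intro k i j h h' hl hl'
    rw [res_app, res_app]
    have hd := (hl.res (inf_le_left : U i ⊓ U j ≤ U i)).sub (hl'.res (inf_le_right : U i ⊓ U j ≤ U j))
    have := (hc1f (i, j)).mono I (hc1 (i, j)) k _ hd
    rw [map_sub, sub_eq_zero] at this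
    exact this
  have hkey' : ∀ (k : ℕ) (i : s) (h h' : Γ(homSh M N, U i)),
      Lifts (g (k + c1)) (Formal.modPowπ I (k + c1) N) h →
      Lifts (g (k + c1)) (Formal.modPowπ I (k + c1) N) h' →
      (Formal.modPowπ I k (homSh M N)).app (U i) h = (Formal.modPowπ I k (homSh M N)).app (U i) h' := by
    intro k i h h' hl hl'
    have e := hkey k i i h h' hl hl'
    have e' := congrArg (Helper6.res (Formal.modPow I k (homSh M N))
      (le_inf le_rfl le_rfl : U i ≤ U i ⊓ U i)) e
    rwa [Helper6.res_res, Helper6.res_res, res_self, res_self] at e'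
  -- choose lifts
  choose hh hhl using fun (k : ℕ) (i : s) => hex (k + c1) i
  -- glue
  have hglue := fun k : ℕ => (existsUnique_glue (Formal.modPow I k (homSh M N)) U ⊤ (fun i => le_top) hcov
    (fun i => (Formal.modPowπ I k (homSh M N)).app (U i) (hh k i))
    (fun i j => hkey k i j _ _ (hhl k i) (hhl k j))).exists
  choose σ hσ using hglue
  have hstar : ∀ (k : ℕ) (i : s) (h : Γ(homSh M N, U i)),
      Lifts (g (k + c1)) (Formal.modPowπ I (k + c1) N) h →
      Helper6.res (Formal.modPow I k (homSh M N)) (le_top : U i ≤ ⊤) (σ k) =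
        (Formal.modPowπ I k (homSh M N)).app (U i) h :=
    fun k i h hl => (hσ k i).trans (hkey' k i _ _ (hhl k i) hl)
  -- compatibility
  have hcompat : ∀ n, (Formal.modPowTrans I (n + 1) (homSh M N)).app ⊤ (σ (n + 1 + 1)) = σ (n + 1) := by
    intro n
    refine eq_of_res_eq (Formal.modPow I (n + 1) (homSh M N)) U ⊤ (fun i => le_top) hcov _ _
      (fun i => ?_)
    rw [res_app, hσ (n + 1 + 1) i, hstar (n + 1) i (hh (n + 1 + 1) i)
      (lifts_le I g hg (by omega) (hhl (n + 1 + 1) i))]
    exact congrArg (fun φ => Scheme.Modules.Hom.app φ (U i) (hh (n + 1 + 1) i))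
      (Formal.modPowπ_trans I (n + 1) (homSh M N))
  obtain ⟨φs, hφs, hφsu⟩ := existsUnique_section I (homSh M N) hb (fun n => σ (n + 1)) hcompat
  -- the section lifts `g` at all levels
  have hlift : ∀ n, Lifts (g (n + 1)) (Formal.modPowπ I (n + 1) N) φs := by
    intro n
    refine lifts_of_cover U (fun i => le_top) hcov (fun i => ?_)
    have hl0 : Lifts (g (n + 1)) (Formal.modPowπ I (n + 1) N) (hh (n + 1) i) :=
      lifts_le I g hg (Nat.le_add_right (n + 1) c1) (hhl (n + 1) i)
    have hd : (Formal.modPowπ I (n + 1) (homSh M N)).app (U i)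
        (Helper6.res (homSh M N) (le_top : U i ≤ ⊤) φs - hh (n + 1) i) = 0 := by
      rw [map_sub, sub_eq_zero, ← res_app, hφs n, hσ (n + 1) i]
    have hmem := mem_of_modPowπ_app_eq_zero I (homSh M N) (n + 1) (hUaff i) _ hd
    have hz := lifts_zero_of_mem I (n + 1) _ hmem
    have := hl0.add_of_zero hz
    rwa [add_sub_cancel] at this
  have hlift' : ∀ k, Lifts (g k) (Formal.modPowπ I k N) φs := fun k =>
    lifts_le I g hg (Nat.le_succ k) (hlift k)
  refine ⟨toHom φs, fun k => ?_, fun φ' hφ' => ?_⟩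
  · apply Scheme.Modules.hom_ext
    intro V
    ext m
    exact hlift' k V le_top m
  · have hl' : ∀ k, Lifts (g k) (Formal.modPowπ I k N) (ofHom φ' ⊤) := by
      intro k V hV m
      rw [actSec_ofHom]
      exact congrArg (fun ψ => Scheme.Modules.Hom.app ψ V m) (hφ' k)
    have e : ofHom φ' ⊤ = φs := by
      apply hφsu
      intro n
      refine eq_of_res_eq (Formal.modPow I (n + 1) (homSh M N)) U ⊤ (fun i => le_top) hcov _ _
        (fun i => ?_)
      rw [res_app]
      exact (hstar (n + 1) i _ ((hl' (n + 1 + c1)).res le_top)).symm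
    rw [← e, toHom_ofHom]

end Global

end Groth.Agent.Lib.R2H2.HomLimB
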