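import Mathlib
import Groth.Prelude
import Groth.Agent.Lib.R2H2HomLimB
import Groth.Agent.Lib.R2H2ProperSupp
import Groth.Agent.Lib.Helper8ProperOverLocal
import Groth.Agent.S0020
set_option backward.isDefEq.respectTransparency.types false

/-!
# Full faithfulness of the completion functor on coherent modules with proper support (helper2, round 2)

`completion_faithfullyFull` : `A` Noetherian and `I`-adically complete, `X` of finite type over `Spec A`,
`M`, `N` coherent with `Supp M ∩ Supp N` proper over `A`: every morphism of systems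
`(M/I^(n+1)M) ⟶ (N/I^(n+1)N)` comes from a unique morphism `M ⟶ N`.
-/

set_option autoImplicit false
set_option linter.style.haveILetI false
set_option linter.unusedSectionVars false
universe u

open CategoryTheory CategoryTheory.Limits AlgebraicGeometry TopologicalSpace Opposite

noncomputable section

namespace Groth.Agent.Lib.R2H2.HomLimC

open RefHull Groth.Agent.Lib.R2H2.HomShC Groth.Agent.Lib.R2H2.HomLimB Groth.Agent.Lib.R2H2.FormalFn

section LE

variable {A : Type u} [CommRing A] (I : Ideal A) {X : Scheme.{u}} [X.Over (Spec (CommRingCat.of A))]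
  (N : X.Modules)

instance epi_modPowπ (k : ℕ) : Epi (Formal.modPowπ I k N) :=
  inferInstanceAs (Epi (cokernel.π _))

theorem modPowLE_comp {a b c : ℕ} (h1 : b ≤ c) (h2 : a ≤ b) :
    Formal2.modPowLE I h1 N ≫ Formal2.modPowLE I h2 N = Formal2.modPowLE I (h2.trans h1) N := by
  rw [← cancel_epi (Formal.modPowπ I c N), ← Category.assoc, Formal2.modPowπ_modPowLE,
    Formal2.modPowπ_modPowLE, Formal2.modPowπ_modPowLE]

theorem completion_map_eq {n k : ℕ} (h : n ≤ k) :
    (Formal.completion I N).map (homOfLE h).op = Formal2.modPowLE I (Nat.succ_le_succ h) N := by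
  have e1 : Formal.modPowπ I (k + 1) N ≫ (Formal.completion I N).map (homOfLE h).op =
      Formal.modPowπ I (k + 1) N ≫ Formal2.modPowLE I (Nat.succ_le_succ h) N :=
    (completion_π I X N h).trans (Formal2.modPowπ_modPowLE I (Nat.succ_le_succ h) N).symm
  exact (cancel_epi (Formal.modPowπ I (k + 1) N)).mp e1

end LE

section Main

variable (A : Type u) [CommRing A] [IsNoetherianRing A]
    (I : Ideal A) [IsAdicComplete I A] (X : Scheme.{u}) [X.Over (Spec (CommRingCat.of A))]
    [LocallyOfFiniteType (X ↘ Spec (CommRingCat.of A))] [QuasiCompact (X ↘ Spec (CommRingCat.of A))]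
    (M N : X.Modules)

theorem completion_faithfullyFull (hM : Coh.IsCoh M) (hN : Coh.IsCoh N)
    (hs : ClSub.IsProperOver (X ↘ Spec (CommRingCat.of A)) (CohB1.support M ∩ CohB1.support N))
    (ψ : Formal.completion I M ⟶ Formal.completion I N) :
    ∃! φ : M ⟶ N, ∀ n : ℕ, Formal.modPowπ I (n + 1) M ≫ ψ.app (op n) = φ ≫ Formal.modPowπ I (n + 1) N := by
  haveI : IsNoetherian X := Groth.Agent.Lib.R2H2.ProperSupp.isNoetherian_of_finiteType (A := A) X
  have hH : Coh.IsCoh (homSh M N) := isCoh_homSh hM hN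
  have hsupp : ClSub.IsProperOver (X ↘ Spec (CommRingCat.of A)) (CohB1.support (homSh M N)) :=
    Groth.Agent.Lib.Helper8ProperOverLocal.isProperOver_of_subset _ _ _ hs
      (Groth.Agent.S0020.result X _ hH.2) (support_homSh_subset hM.2)
  have hb := Groth.Agent.Lib.R2H2.ProperSupp.toHHlim_bijective_of_proper_support I X (homSh M N) hH hsupp 0
  -- the compatible family
  obtain ⟨G, hGdef⟩ : ∃ G : ∀ n, M ⟶ Formal.modPow I (n + 1) N,
      ∀ n, G n = Formal.modPowπ I (n + 1) M ≫ ψ.app (op n) := ⟨_, fun _ => rfl⟩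
  have hG : ∀ (n k : ℕ) (h : n ≤ k), G k ≫ Formal2.modPowLE I (Nat.succ_le_succ h) N = G n := by
    intro n k h
    rw [hGdef, hGdef]
    have e1 : ψ.app (op k) ≫ (Formal.completion I N).map (homOfLE h).op =
        (Formal.completion I M).map (homOfLE h).op ≫ ψ.app (op n) :=
      (ψ.naturality (homOfLE h).op).symm
    have e2 : ψ.app (op k) ≫ Formal2.modPowLE I (Nat.succ_le_succ h) N =
        (Formal.completion I M).map (homOfLE h).op ≫ ψ.app (op n) :=
      (congrArg (fun t => ψ.app (op k) ≫ t) (completion_map_eq I N h).symm).trans e1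
    refine (Category.assoc (Formal.modPowπ I (k + 1) M) (ψ.app (op k))
      (Formal2.modPowLE I (Nat.succ_le_succ h) N)).trans ?_
    refine (congrArg (fun t => Formal.modPowπ I (k + 1) M ≫ t) e2).trans ?_
    refine (Category.assoc (Formal.modPowπ I (k + 1) M) ((Formal.completion I M).map (homOfLE h).op)
      (ψ.app (op n))).symm.trans ?_
    exact congrArg (fun t => t ≫ ψ.app (op n)) (completion_π I X M h)
  obtain ⟨g, hgdef⟩ : ∃ g : ∀ k, M ⟶ Formal.modPow I k N,
      ∀ k, g k = G k ≫ Formal2.modPowLE I (Nat.le_succ k) N := ⟨_, fun _ => rfl⟩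
  have hg : ∀ (k k' : ℕ) (h : k ≤ k'), g k' ≫ Formal2.modPowLE I h N = g k := by
    intro k k' h
    rw [hgdef, hgdef, Category.assoc, modPowLE_comp, ← hG k k' h, Category.assoc, modPowLE_comp]
  have hgG : ∀ n, g (n + 1) = G n := by
    intro n
    rw [hgdef]
    exact hG n (n + 1) (Nat.le_succ n)
  obtain ⟨φ, hφ, hφu⟩ := core I hM hN hb g hg
  refine ⟨φ, fun n => ?_, fun φ' hφ' => ?_⟩
  · rw [hφ (n + 1), hgG, hGdef]
  · apply hφu
    intro k
    rw [hgdef, hGdef, hφ' k, Category.assoc, Formal2.modPowπ_modPowLE]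

end Main

end Groth.Agent.Lib.R2H2.HomLimC
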