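import Mathlib
import Groth.Prelude
import Groth.Agent.Lib.R2H2HomLimC
set_option backward.isDefEq.respectTransparency.types false

/-!
# Full faithfulness of the completion functor, torsion case (helper2, round 2)

* `faithfullyFull_of_bijective` : the completion functor is fully faithful on a pair `(M, N)` of coherent modules
  on a Noetherian scheme as soon as `H⁰(𝓗om(M, N)) → lim H⁰(𝓗om(M, N)/I^n)` is bijective.
* `killedBy_homSh`, `toHHlim_bijective_of_killedBy`, `faithfullyFull_of_killedBy` (= S0833).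
-/

set_option autoImplicit false
set_option linter.style.haveILetI false
set_option linter.unusedSectionVars false
universe u

open CategoryTheory CategoryTheory.Limits AlgebraicGeometry TopologicalSpace Opposite

noncomputable section

namespace Groth.Agent.Lib.R2H2.HomLimD

open RefHull Groth.Agent.Lib.R2H2.HomShA Groth.Agent.Lib.R2H2.HomShC Groth.Agent.Lib.R2H2.HomLimB
  Groth.Agent.Lib.R2H2.HomLimC Groth.Agent.Lib.R2H2.FormalFn Groth.Agent.Lib.R2H2.ModPowAff
  Groth.Agent.Lib.R2H2.ReesCoh Groth.Agent.Lib.R2H2.HomLimA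

variable {A : Type u} [CommRing A] (I : Ideal A) {X : Scheme.{u}} [X.Over (Spec (CommRingCat.of A))]

section FF

variable [IsNoetherian X] {M N : X.Modules}

theorem faithfullyFull_of_bijective (hM : Coh.IsCoh M) (hN : Coh.IsCoh N)
    (hb : Function.Bijective (Formal.toHHlim I (homSh M N) 0))
    (ψ : Formal.completion I M ⟶ Formal.completion I N) :
    ∃! φ : M ⟶ N, ∀ n : ℕ, Formal.modPowπ I (n + 1) M ≫ ψ.app (op n) = φ ≫ Formal.modPowπ I (n + 1) N := by
  obtain ⟨G, hGdef⟩ : ∃ G : ∀ n, M ⟶ Formal.modPow I (n + 1) N,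
      ∀ n, G n = Formal.modPowπ I (n + 1) M ≫ ψ.app (op n) := ⟨_, fun _ => rfl⟩
  have hG : ∀ (n k : ℕ) (h : n ≤ k), G k ≫ Formal2.modPowLE I (Nat.succ_le_succ h) N = G n := by
    intro n k h
    rw [hGdef, hGdef]
    have e1 : ψ.app (op k) ≫ (Formal.completion I N).map (homOfLE h).op =
        (Formal.completion I M).map (homOfLE h).op ≫ ψ.app (op n) :=
      (ψ.naturality (homOfLE h).op).symm
    have e2 : ψ.app (op k) ≫ Formal2.modPowLE I (Nat.succ_le_succ h) N =
        (Formal.completion I M).map (homOfLE h).op ≫ ψ.app (op n) :=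
      (congrArg (fun t => ψ.app (op k) ≫ t) (completion_map_eq I N h).symm).trans e1
    refine (Category.assoc (Formal.modPowπ I (k + 1) M) (ψ.app (op k))
      (Formal2.modPowLE I (Nat.succ_le_succ h) N)).trans ?_
    refine (congrArg (fun t => Formal.modPowπ I (k + 1) M ≫ t) e2).trans ?_
    refine (Category.assoc (Formal.modPowπ I (k + 1) M) ((Formal.completion I M).map (homOfLE h).op)
      (ψ.app (op n))).symm.trans ?_
    exact congrArg (fun t => t ≫ ψ.app (op n)) (completion_π I X M h)
  obtain ⟨g, hgdef⟩ : ∃ g : ∀ k, M ⟶ Formal.modPow I k N,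
      ∀ k, g k = G k ≫ Formal2.modPowLE I (Nat.le_succ k) N := ⟨_, fun _ => rfl⟩
  have hg : ∀ (k k' : ℕ) (h : k ≤ k'), g k' ≫ Formal2.modPowLE I h N = g k := by
    intro k k' h
    rw [hgdef, hgdef, Category.assoc, modPowLE_comp, ← hG k k' h, Category.assoc, modPowLE_comp]
  have hgG : ∀ n, g (n + 1) = G n := by
    intro n
    rw [hgdef]
    exact hG n (n + 1) (Nat.le_succ n)
  obtain ⟨φ, hφ, hφu⟩ := core I hM hN hb g hg
  refine ⟨φ, fun n => ?_, fun φ' hφ' => ?_⟩
  · rw [hφ (n + 1), hgG, hGdef]
  · apply hφu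
    intro k
    rw [hgdef, hGdef, hφ' k, Category.assoc, Formal2.modPowπ_modPowLE]

end FF

section Killed

theorem killedBy_homSh {F G : X.Modules} (J : Ideal A)
    (h : Formal.KilledBy J F ∨ Formal.KilledBy J G) : Formal.KilledBy J (homSh F G) := by
  intro a ha
  apply Scheme.Modules.hom_ext
  intro U
  ext s
  change (Formal.smulMod A (homSh F G) a).app U s = 0
  rw [smulMod_app']
  apply sec_ext
  intro V hVU m
  rw [actSec_smul_left, actSec_zero_left, ρ_res]
  rcases h with h | h
  · rw [← actSec_smul]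
    have e : ρ V a • m = 0 := by
      have := congrArg (fun φ => Scheme.Modules.Hom.app φ V m) (h a ha)
      exact this
    rw [e, actSec_zero]
  · have := congrArg (fun φ => Scheme.Modules.Hom.app φ V (actSec s hVU m)) (h a ha)
    exact this

variable (H : X.Modules)

theorem smulFamily_eq_zero (J : Ideal A) (hk : Formal.KilledBy J H) : Formal.smulFamily J H = 0 := by
  apply Sigma.hom_ext
  intro a
  rw [comp_zero]
  unfold Formal.smulFamily
  rw [Sigma.ι_desc]
  exact hk a a.2

theorem isIso_modPowπ_of_killedBy {c n : ℕ} (hc : c ≤ n) (hk : Formal.KilledBy (I ^ c) H) :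
    IsIso (Formal.modPowπ I n H) := by
  have hk' : Formal.KilledBy (I ^ n) H := fun a ha => hk a (Ideal.pow_le_pow_right hc ha)
  have e := smulFamily_eq_zero H (I ^ n) hk'
  refine ⟨cokernel.desc (Formal.smulFamily (I ^ n) H) (𝟙 H) (by rw [e, zero_comp]), ?_, ?_⟩
  · exact cokernel.π_desc _ _ _
  · haveI : Epi (Formal.modPowπ I n H) := inferInstanceAs (Epi (cokernel.π _))
    rw [← cancel_epi (Formal.modPowπ I n H), ← Category.assoc]
    have : Formal.modPowπ I n H ≫ cokernel.desc (Formal.smulFamily (I ^ n) H) (𝟙 H)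
        (by rw [e, zero_comp]) = 𝟙 H := cokernel.π_desc _ _ _
    rw [this, Category.id_comp, Category.comp_id]

theorem toHHlim_bijective_of_killedBy {c : ℕ} (hk : Formal.KilledBy (I ^ c) H) (p : ℕ) :
    Function.Bijective (Formal.toHHlim I H p) := by
  have hiso : ∀ n, c ≤ n → IsIso (Formal.modPowπ I (n + 1) H) := fun n hn =>
    isIso_modPowπ_of_killedBy I H (hn.trans (Nat.le_succ n)) hk
  have hbij : ∀ n, c ≤ n → Function.Bijective (Hm (Formal.modPowπ I (n + 1) H) p) := by
    intro n hn
    haveI := hiso n hn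
    exact Groth.Agent.Lib.R2H2.ProperSupp.Hm_iso_bijective (asIso (Formal.modPowπ I (n + 1) H)) p
  have hcomp : ∀ {n k : ℕ} (h : n ≤ k) (x : Coh.HH X H p),
      Hm ((Formal.completion I H).map (homOfLE h).op) p (Hm (Formal.modPowπ I (k + 1) H) p x) =
        Hm (Formal.modPowπ I (n + 1) H) p x := by
    intro n k h x
    refine (Hm_comp (Formal.modPowπ I (k + 1) H) ((Formal.completion I H).map (homOfLE h).op) p x).symm.trans ?_
    exact congrArg (fun φ => Hm φ p x) (completion_π I X H h)
  constructor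
  · intro x x' e
    apply (hbij c le_rfl).1
    exact congrFun (congrArg Subtype.val e) c
  · rintro ⟨y, hy⟩
    obtain ⟨x, hx⟩ := (hbij c le_rfl).2 (y c)
    refine ⟨x, ?_⟩
    apply Subtype.ext
    funext n
    change Hm (Formal.modPowπ I (n + 1) H) p x = y n
    rcases le_total n c with h | h
    · rw [← hcomp h x, hx]
      exact Groth.Agent.Lib.R2H2.FormalFn2.HHlim_le I X H p y hy h
    · -- the transition map from level `n` to level `c` is injective
      have hinj : Function.Injective (Hm ((Formal.completion I H).map (homOfLE h).op) p) := by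
        intro z z' e
        obtain ⟨w, rfl⟩ := (hbij n h).2 z
        obtain ⟨w', rfl⟩ := (hbij n h).2 z'
        rw [hcomp h, hcomp h] at e
        rw [(hbij c le_rfl).1 e]
      apply hinj
      rw [hcomp h x, hx]
      exact (Groth.Agent.Lib.R2H2.FormalFn2.HHlim_le I X H p y hy h).symm

end Killed

section Main

variable [IsNoetherian X] (F G : X.Modules)

/-- `S0833` -/
theorem faithfullyFull_of_killedBy (hF : Coh.IsCoh F) (hG : Coh.IsCoh G)
    (hc : ∃ c : ℕ, Formal.KilledBy (I ^ c) F ∨ Formal.KilledBy (I ^ c) G)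
    (ψ : Formal.completion I F ⟶ Formal.completion I G) :
    ∃! φ : F ⟶ G, ∀ n : ℕ, Formal.modPowπ I (n + 1) F ≫ ψ.app (op n) = φ ≫ Formal.modPowπ I (n + 1) G := by
  obtain ⟨c, hc⟩ := hc
  exact faithfullyFull_of_bijective I hF hG
    (toHHlim_bijective_of_killedBy I (homSh F G) (killedBy_homSh (I ^ c) hc) 0) ψ

end Main

end Groth.Agent.Lib.R2H2.HomLimD
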