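import Mathlib
import Groth.Prelude
import Groth.Agent.Lib.R2H2HomLimD
import Groth.Agent.Lib.H9FreeFib
import Groth.Agent.Lib.H6xResPropA
import Groth.Agent.Lib.Helper23FinPres
set_option backward.isDefEq.respectTransparency.types false

/-!
# The sheaf Hom of finite locally free modules (helper2, round 2)

* `isCoh_of_isFinLocFree`, `isFinLocFree_homSh` (locally Noetherian `X`);
* `faithfullyFull_of_sections` (= S0840).
-/

set_option autoImplicit false
set_option linter.style.haveILetI false
set_option linter.unusedSectionVars false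
universe u

open CategoryTheory CategoryTheory.Limits AlgebraicGeometry TopologicalSpace Opposite

noncomputable section

namespace Groth.Agent.Lib.R2H2.HomLimE

open RefHull Groth.Agent.Lib.R2H2.HomShC Groth.Agent.Lib.R2H2.HomLimD

variable {X : Scheme.{u}}

theorem isCoh_of_isFinLocFree (E : X.Modules) (hE : FlatMod.IsFinLocFree E) : Coh.IsCoh E := by
  have hq := Groth.Agent.Lib.H6xResProp.isQuasicoherent_of_isFinLocFree E hE
  have hfp := Groth.Agent.Lib.Helper2.LocFree.isFP_of_isFinLocFree E hE
  haveI := hfp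
  exact ⟨hq, inferInstance⟩

theorem isFinLocFree_homSh [IsLocallyNoetherian X] (E E' : X.Modules) (hE : FlatMod.IsFinLocFree E)
    (hE' : FlatMod.IsFinLocFree E') : FlatMod.IsFinLocFree (homSh E E') := by
  have hcE := isCoh_of_isFinLocFree E hE
  have hcE' := isCoh_of_isFinLocFree E' hE'
  have hH := isCoh_homSh hcE hcE'
  haveI := hH.1
  have hft := hH.2
  haveI := hft
  haveI : SheafOfModules.IsFinitePresentation (R := X.ringCatSheaf) (homSh E E') :=
    Groth.Agent.Lib.Helper23.FinType.isFinitePresentation_of_isFiniteType (homSh E E')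
  haveI := hcE.1
  haveI := hcE'.1
  have hfpE := Groth.Agent.Lib.Helper2.LocFree.isFP_of_isFinLocFree E hE
  have hfpE' := Groth.Agent.Lib.Helper2.LocFree.isFP_of_isFinLocFree E' hE'
  haveI := hfpE
  haveI := hfpE'
  rw [Groth.Agent.Lib.H9FreeFib.isFinLocFree_iff_forall_free]
  intro x
  haveI : Module.Free (X.presheaf.stalk x) (E.presheaf.stalk x) :=
    (Groth.Agent.Lib.H9FreeFib.isFinLocFree_iff_forall_free E).mp hE x
  haveI : Module.Free (X.presheaf.stalk x) (E'.presheaf.stalk x) :=
    (Groth.Agent.Lib.H9FreeFib.isFinLocFree_iff_forall_free E').mp hE' x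
  haveI : Module.FinitePresentation (X.presheaf.stalk x) (E.presheaf.stalk x) :=
    Groth.Agent.Lib.H9FreeFib.finitePresentation_stalk E x
  haveI : Module.Finite (X.presheaf.stalk x) (E.presheaf.stalk x) := inferInstance
  haveI : Module.Free (X.presheaf.stalk x) (StalkHom E E' x) :=
    inferInstanceAs (Module.Free (X.presheaf.stalk x)
      (E.presheaf.stalk x →ₗ[X.presheaf.stalk x] E'.presheaf.stalk x))
  exact Module.Free.of_equiv (LinearEquiv.ofBijective (evalStalk E E' x)
    (Groth.Agent.Lib.Helper8RefHullFP.evalStalk_bijective_of_isFP E E' hfpE x)).symm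

/-- `S0840` -/
theorem faithfullyFull_of_sections {A : Type u} [CommRing A] (I : Ideal A)
    [X.Over (Spec (CommRingCat.of A))] [IsNoetherian X]
    (h : ∀ E : X.Modules, FlatMod.IsFinLocFree E → Function.Bijective (Formal.toHHlim I E 0))
    (E E' : X.Modules) (hE : FlatMod.IsFinLocFree E) (hE' : FlatMod.IsFinLocFree E')
    (ψ : Formal.completion I E ⟶ Formal.completion I E') :
    ∃! φ : E ⟶ E', ∀ n : ℕ, Formal.modPowπ I (n + 1) E ≫ ψ.app (op n) = φ ≫ Formal.modPowπ I (n + 1) E' :=
  faithfullyFull_of_bijective I (isCoh_of_isFinLocFree E hE) (isCoh_of_isFinLocFree E' hE')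
    (h _ (isFinLocFree_homSh E E' hE hE')) ψ

end Groth.Agent.Lib.R2H2.HomLimE
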