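import Groth.Agent.Lib.R2H2KoszulLow

/-!
# Injective modules over Noetherian rings: torsion submodules and Koszul `H^1` (helper2, round 2)

* `gtors g M`: the `g`-power torsion of `M`; `baer_gtors`/`injective_gtors`: it is injective if `M`
  is injective over a Noetherian ring (Artin–Rees + Baer);
* `exists_div`: for an injective module `N` over a Noetherian ring, `N → N_g` is surjective
  (element form);
* `torsL fs M` and `injective_torsL`;
* `exists_bound`: every degree-one Koszul cocycle of `(f_1^n, …, f_r^n)` on an injective module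
  over a Noetherian ring becomes a coboundary after passing to higher powers;
* `subsingleton_koszulHLim_one_of_cocycles`, `subsingleton_koszulHLim_one_of_injective`.
-/

set_option autoImplicit false
universe u

namespace Groth.Agent.Lib.R2H2.InjTors

open CategoryTheory CohIII Groth.Agent.Lib.R2H2.KoszulLow

variable {A : Type u} [CommRing A]

section Gtors

variable (g : A) (M : Type u) [AddCommGroup M] [Module A M]

/-- the `g`-power torsion submodule -/
def gtors : Submodule A M where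
  carrier := {m | ∃ n : ℕ, g ^ n • m = 0}
  add_mem' := by
    rintro x y ⟨n, hn⟩ ⟨n', hn'⟩
    exact ⟨n + n', by
      rw [smul_add, pow_smul_eq_zero_of_le (Nat.le_add_right n n') hn,
        pow_smul_eq_zero_of_le (Nat.le_add_left n' n) hn', add_zero]⟩
  zero_mem' := ⟨0, smul_zero _⟩
  smul_mem' := by
    rintro a x ⟨n, hn⟩
    exact ⟨n, by rw [smul_comm, hn, smul_zero]⟩

lemma mem_gtors (m : M) : m ∈ gtors g M ↔ ∃ n : ℕ, g ^ n • m = 0 := Iff.rfl

theorem baer_gtors [IsNoetherianRing A] [Module.Injective A M] : Module.Baer A (gtors g M) := by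
  intro 𝔞 φ
  let ψ : 𝔞 →ₗ[A] M := (gtors g M).subtype ∘ₗ φ
  have hψ : ∀ x : 𝔞, ψ x = (φ x : M) := fun x => rfl
  -- a uniform exponent
  have hk : ∃ k : ℕ, ∀ x : 𝔞, g ^ k • ψ x = 0 := by
    obtain ⟨S, hS⟩ : (𝔞 : Submodule A A).FG := IsNoetherian.noetherian 𝔞
    have hmem : ∀ s : S, (s : A) ∈ 𝔞 := fun s => by
      rw [← hS]
      exact Submodule.subset_span s.2
    obtain ⟨k, hk⟩ := exists_uniform (fun (s : S) n => g ^ n • ψ ⟨s.1, hmem s⟩ = 0)
      (fun s n n' hnn' h => pow_smul_eq_zero_of_le hnn' h)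
      (fun s => (φ ⟨s.1, hmem s⟩).2)
    refine ⟨k, ?_⟩
    let W : Submodule A A := (LinearMap.ker (g ^ k • ψ)).map 𝔞.subtype
    have hW : 𝔞 ≤ W := by
      have h1 : Submodule.span A (S : Set A) ≤ W := by
        rw [Submodule.span_le]
        intro s hs
        refine ⟨⟨s, hmem ⟨s, hs⟩⟩, ?_, rfl⟩
        change (g ^ k • ψ) ⟨s, hmem ⟨s, hs⟩⟩ = 0
        rw [LinearMap.smul_apply]
        exact hk ⟨s, hs⟩
      exact (le_of_eq hS.symm).trans h1
    intro x
    obtain ⟨y, hy, hyx⟩ := hW x.2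
    have hxy : y = x := Subtype.ext hyx
    rw [← hxy]
    have hy' : (g ^ k • ψ) y = 0 := hy
    rwa [LinearMap.smul_apply] at hy'
  obtain ⟨k, hk⟩ := hk
  -- Artin–Rees
  obtain ⟨c, hc⟩ := Ideal.exists_pow_inf_eq_pow_smul (Ideal.span {g}) (𝔞 : Submodule A A)
  let n := c + k
  let P : Submodule A A := Ideal.span {g ^ n}
  have hvan : ∀ x : 𝔞, (x : A) ∈ P → ψ x = 0 := by
    intro x hx
    obtain ⟨b, hb⟩ := Ideal.mem_span_singleton'.1 hx
    have h1 : (x : A) ∈ (Ideal.span {g} ^ n • (⊤ : Submodule A A) ⊓ 𝔞 : Submodule A A) := by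
      refine ⟨?_, x.2⟩
      rw [← hb, mul_comm]
      exact Submodule.smul_mem_smul (Ideal.pow_mem_pow (Ideal.mem_span_singleton_self g) n)
        Submodule.mem_top
    rw [hc n (Nat.le_add_right c k)] at h1
    have h2 : (Ideal.span {g} ^ (n - c) •
        ((Ideal.span {g} ^ c • (⊤ : Submodule A A)) ⊓ (𝔞 : Submodule A A)) : Submodule A A) ≤
        (LinearMap.ker ψ).map 𝔞.subtype := by
      rw [Submodule.smul_le]
      intro r hr m hm
      have hnc : n - c = k := Nat.add_sub_cancel_left c k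
      rw [hnc, Ideal.span_singleton_pow] at hr
      obtain ⟨b', hb'⟩ := Ideal.mem_span_singleton'.1 hr
      have hm2 : m ∈ 𝔞 := (Submodule.mem_inf.1 hm).2
      refine ⟨r • ⟨m, hm2⟩, ?_, rfl⟩
      change ψ (r • ⟨m, hm2⟩) = 0
      rw [map_smul, ← hb', mul_smul, hk, smul_zero]
    obtain ⟨y, hy, hyx⟩ := h2 h1
    have hxy : y = x := Subtype.ext hyx
    rw [← hxy]
    exact hy
  -- the extension
  let π : A →ₗ[A] A ⧸ P := P.mkQ
  let ι : 𝔞 →ₗ[A] A ⧸ P := π ∘ₗ 𝔞.subtype
  have hle : LinearMap.ker ι ≤ LinearMap.ker ψ := by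
    intro x hx
    rw [LinearMap.mem_ker] at hx ⊢
    apply hvan
    have h1 : P.mkQ (x : A) = 0 := hx
    rwa [Submodule.mkQ_apply, Submodule.Quotient.mk_eq_zero] at h1
  let ψb : (𝔞 ⧸ LinearMap.ker ι) →ₗ[A] M := (LinearMap.ker ι).liftQ ψ hle
  let ιb : (𝔞 ⧸ LinearMap.ker ι) →ₗ[A] A ⧸ P := (LinearMap.ker ι).liftQ ι le_rfl
  have hιb : Function.Injective ιb :=
    LinearMap.ker_eq_bot.1 (Submodule.ker_liftQ_eq_bot _ _ _ le_rfl)
  obtain ⟨h, hh⟩ := Module.Injective.extension_property A M (𝔞 ⧸ LinearMap.ker ι) (A ⧸ P) ιb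
    hιb ψb
  let g' : A →ₗ[A] M := h ∘ₗ π
  have hg' : ∀ (x : A) (hx : x ∈ 𝔞), g' x = ψ ⟨x, hx⟩ := by
    intro x hx
    have h1 : ιb (Submodule.Quotient.mk ⟨x, hx⟩) = π x := rfl
    have h2 : ψb (Submodule.Quotient.mk ⟨x, hx⟩) = ψ ⟨x, hx⟩ := rfl
    change h (π x) = _
    rw [← h1, ← h2, ← hh]
    rfl
  have hmem : ∀ a : A, g' a ∈ gtors g M := by
    intro a
    refine ⟨n, ?_⟩
    rw [← map_smul]
    change h (π (g ^ n • a)) = 0
    have h1 : π (g ^ n • a) = 0 := by
      change P.mkQ (g ^ n • a) = 0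
      rw [Submodule.mkQ_apply, Submodule.Quotient.mk_eq_zero, smul_eq_mul, mul_comm]
      exact Ideal.mem_span_singleton'.2 ⟨a, rfl⟩
    rw [h1, map_zero]
  refine ⟨LinearMap.codRestrict (gtors g M) g' hmem, fun x hx => ?_⟩
  apply Subtype.ext
  change g' x = (φ ⟨x, hx⟩ : M)
  rw [hg' x hx, hψ]

theorem injective_gtors [IsNoetherianRing A] [Module.Injective A M] :
    Module.Injective A (gtors g M) :=
  (baer_gtors g M).injective

end Gtors

section Div

/-- over a Noetherian ring, `N → N_g` is surjective for `N` injective -/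
theorem exists_div [IsNoetherianRing A] (N : Type u) [AddCommGroup N] [Module A N]
    [Module.Injective A N] (g : A) (y : N) (a : ℕ) :
    ∃ (x : N) (c : ℕ), g ^ (a + c) • x = g ^ c • y := by
  let ann : ℕ →o Submodule A A :=
    ⟨fun c => LinearMap.ker (LinearMap.mulRight A (g ^ c)), by
      intro c c' hcc' u hu
      rw [LinearMap.mem_ker, LinearMap.mulRight_apply] at hu ⊢
      obtain ⟨d, rfl⟩ := Nat.exists_eq_add_of_le hcc'
      rw [pow_add, ← mul_assoc, hu, zero_mul]⟩
  obtain ⟨c, hc⟩ := (monotone_stabilizes_iff_noetherian (R := A) (M := A)).2 inferInstance ann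
  let b := a + c
  let K : Submodule A A := LinearMap.ker (LinearMap.mulRight A (g ^ b))
  have hK : ∀ u ∈ K, u * g ^ c = 0 := by
    intro u hu
    have h1 : u ∈ ann b := hu
    rw [← hc b (Nat.le_add_left c a)] at h1
    have h2 : LinearMap.mulRight A (g ^ c) u = 0 := h1
    rwa [LinearMap.mulRight_apply] at h2
  let f : (A ⧸ K) →ₗ[A] A := K.liftQ (LinearMap.mulRight A (g ^ b)) le_rfl
  have hf : Function.Injective f :=
    LinearMap.ker_eq_bot.1 (Submodule.ker_liftQ_eq_bot _ _ _ le_rfl)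
  let γ : (A ⧸ K) →ₗ[A] N := K.liftQ (LinearMap.toSpanSingleton A N (g ^ c • y)) (by
    intro u hu
    rw [LinearMap.mem_ker, LinearMap.toSpanSingleton_apply, smul_smul, hK u hu, zero_smul])
  obtain ⟨h, hh⟩ := Module.Injective.extension_property A N (A ⧸ K) A f hf γ
  refine ⟨h 1, c, ?_⟩
  have h1 : f (Submodule.Quotient.mk 1) = g ^ b := by
    change LinearMap.mulRight A (g ^ b) 1 = g ^ b
    rw [LinearMap.mulRight_apply, one_mul]
  have h2 : γ (Submodule.Quotient.mk 1) = g ^ c • y := by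
    change LinearMap.toSpanSingleton A N (g ^ c • y) 1 = _
    rw [LinearMap.toSpanSingleton_apply, one_smul]
  have h3 : h (g ^ b) = g ^ c • y := by
    rw [← h1, ← h2, ← hh]
    rfl
  rw [← map_smul, smul_eq_mul, mul_one]
  exact h3

end Div

section TorsL

variable (fs : List A) (M : Type u) [AddCommGroup M] [Module A M]

/-- the submodule of elements killed by a power of each element of the list -/
def torsL : Submodule A M where
  carrier := {m | ∀ f ∈ fs, ∃ n : ℕ, f ^ n • m = 0}
  add_mem' := by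
    intro x y hx hy f hf
    obtain ⟨n, hn⟩ := hx f hf
    obtain ⟨n', hn'⟩ := hy f hf
    exact ⟨n + n', by
      rw [smul_add, pow_smul_eq_zero_of_le (Nat.le_add_right n n') hn,
        pow_smul_eq_zero_of_le (Nat.le_add_left n' n) hn', add_zero]⟩
  zero_mem' := fun f _ => ⟨0, smul_zero _⟩
  smul_mem' := by
    intro a x hx f hf
    obtain ⟨n, hn⟩ := hx f hf
    exact ⟨n, by rw [smul_comm, hn, smul_zero]⟩

variable {fs M} in
lemma mem_torsL {m : M} : m ∈ torsL fs M ↔ ∀ f ∈ fs, ∃ n : ℕ, f ^ n • m = 0 := Iff.rfl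

/-- the torsion for `f :: fs` is the `f`-torsion of the torsion for `fs` -/
def torsLConsEquiv (f : A) : torsL (f :: fs) M ≃ₗ[A] gtors f (torsL fs M) where
  toFun x := ⟨⟨x.1, fun f' hf' => x.2 f' (List.mem_cons_of_mem _ hf')⟩, by
    obtain ⟨n, hn⟩ := x.2 f List.mem_cons_self
    exact ⟨n, Subtype.ext hn⟩⟩
  invFun y := ⟨y.1.1, fun f' hf' => by
    rcases List.mem_cons.1 hf' with rfl | h
    · obtain ⟨n, hn⟩ := y.2
      exact ⟨n, congrArg Subtype.val hn⟩
    · exact y.1.2 f' h⟩
  left_inv x := rfl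
  right_inv y := rfl
  map_add' x y := rfl
  map_smul' a x := rfl

theorem baer_torsL [IsNoetherianRing A] [Module.Injective A M] :
    ∀ fs : List A, Module.Baer A (torsL fs M)
  | [] => by
    have e : M ≃ₗ[A] torsL ([] : List A) M :=
      { toFun := fun m => ⟨m, fun f hf => absurd hf List.not_mem_nil⟩
        invFun := fun x => x.1
        left_inv := fun m => rfl
        right_inv := fun x => rfl
        map_add' := fun x y => rfl
        map_smul' := fun a x => rfl }
    exact Module.Baer.of_equiv e (Module.Baer.of_injective inferInstance)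
  | f :: fs => by
    have : Module.Injective A (torsL fs M) := (baer_torsL fs).injective
    exact Module.Baer.of_equiv (torsLConsEquiv fs M f).symm (baer_gtors f (torsL fs M))

theorem injective_torsL [IsNoetherianRing A] [Module.Injective A M] :
    Module.Injective A (torsL fs M) :=
  (baer_torsL M fs).injective

end TorsL

section Bound

theorem exists_bound [IsNoetherianRing A] (M : Type u) [AddCommGroup M] [Module A M]
    [Module.Injective A M] : ∀ (fs : List A) (n : ℕ) (u : Fin fs.length → M),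
    (∀ i j, fs.get i ^ n • u j = fs.get j ^ n • u i) →
    ∃ (k : ℕ) (m0 : M), ∀ i, fs.get i ^ k • u i = fs.get i ^ (n + k) • m0
  | [], n, u, _ => ⟨0, 0, fun i => i.elim0⟩
  | f :: fs, n, u, hu => by
    obtain ⟨k₁, m', h₁⟩ := exists_bound M fs n (fun i => u i.succ) (fun i j => hu i.succ j.succ)
    let v₀ : M := u 0 - f ^ n • m'
    have hv₀ : v₀ ∈ torsL fs M := by
      intro f' hf'
      obtain ⟨i, rfl⟩ := List.mem_iff_get.1 hf'
      refine ⟨n + k₁, ?_⟩
      have h2 : fs.get i ^ n • u 0 = f ^ n • u i.succ := hu i.succ 0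
      have h3 : fs.get i ^ (n + k₁) • u 0 = f ^ n • fs.get i ^ (n + k₁) • m' := by
        calc fs.get i ^ (n + k₁) • u 0 = fs.get i ^ k₁ • (fs.get i ^ n • u 0) := by
              rw [smul_smul, ← pow_add, add_comm]
          _ = fs.get i ^ k₁ • (f ^ n • u i.succ) := by rw [h2]
          _ = f ^ n • (fs.get i ^ k₁ • u i.succ) := smul_comm _ _ _
          _ = f ^ n • fs.get i ^ (n + k₁) • m' := by rw [h₁ i]
      change fs.get i ^ (n + k₁) • (u 0 - f ^ n • m') = 0
      rw [smul_sub, h3, smul_comm, sub_self]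
    have : Module.Injective A (torsL fs M) := injective_torsL fs M
    obtain ⟨x, c, hx⟩ := exists_div (torsL fs M) f ⟨v₀, hv₀⟩ n
    have hx' : f ^ (n + c) • (x : M) = f ^ c • v₀ := congrArg Subtype.val hx
    obtain ⟨k₂, hk₂⟩ := exists_uniform (fun (i : Fin fs.length) k => fs.get i ^ k • (x : M) = 0)
      (fun i k k' hkk' h => pow_smul_eq_zero_of_le hkk' h)
      (fun i => x.2 (fs.get i) (List.get_mem fs i))
    refine ⟨c + k₁ + k₂, m' + (x : M), fun i => ?_⟩
    refine Fin.cases ?_ (fun i => ?_) i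
    · change f ^ (c + k₁ + k₂) • u 0 = f ^ (n + (c + k₁ + k₂)) • (m' + (x : M))
      have h4 : u 0 = v₀ + f ^ n • m' := by simp [v₀]
      have h5 : f ^ (c + k₁ + k₂) • v₀ = f ^ (n + (c + k₁ + k₂)) • (x : M) := by
        have e1 : c + k₁ + k₂ = (k₁ + k₂) + c := by ring
        have e2 : n + (c + k₁ + k₂) = (k₁ + k₂) + (n + c) := by ring
        rw [e1, pow_add, mul_smul, ← hx', ← mul_smul, ← pow_add, ← e2, ← e1]
      rw [h4, smul_add, h5, smul_add, smul_smul, ← pow_add, add_comm (f ^ _ • m')]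
      congr 2
      ring
    · change fs.get i ^ (c + k₁ + k₂) • u i.succ =
        fs.get i ^ (n + (c + k₁ + k₂)) • (m' + (x : M))
      have h6 : fs.get i ^ (n + (c + k₁ + k₂)) • (x : M) = 0 :=
        pow_smul_eq_zero_of_le (by omega) (hk₂ i)
      have e1 : c + k₁ + k₂ = (c + k₂) + k₁ := by ring
      have e2 : n + (c + k₁ + k₂) = (c + k₂) + (n + k₁) := by ring
      rw [smul_add, h6, add_zero, e2, pow_add (fs.get i) (c + k₂) (n + k₁), mul_smul, ← h₁ i,
        ← mul_smul, ← pow_add, ← e1]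

end Bound

section Koszul

theorem subsingleton_koszulHLim_one_of_cocycles (fs : List A) (M : ModuleCat.{u} A)
    (h : ∀ (n : ℕ) (u : Fin fs.length → M),
      (∀ i j, fs.get i ^ n • u j = fs.get j ^ n • u i) →
      ∃ (k : ℕ) (m0 : M), ∀ i, fs.get i ^ k • u i = fs.get i ^ (n + k) • m0) :
    Subsingleton (koszulHLim fs M 1) := by
  have hB0 : ((0 : ℕ) : ℤ) - fs.length = -(fs.length : ℤ) := by simp
  have hB01 : ((0 : ℕ) : ℤ) - fs.length + 1 = ((1 : ℕ) : ℤ) - fs.length := by push_cast; ring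
  let D := fun n => lowData M n fs _ _ (((1 : ℕ) : ℤ) - fs.length + 1) hB0 hB01 rfl
  have key : ∀ w : Module.DirectLimit (fun n : ℕ => (koszulHPow fs M 1 n : Type u))
      (fun n m h => (HomologicalComplex.homologyMap (koszulTrans M n m h fs)
        (((1 : ℕ) : ℤ) - fs.length)).hom), w = 0 := by
    intro w
    obtain ⟨n, x, rfl⟩ := Module.DirectLimit.exists_of w
    obtain ⟨z, rfl⟩ := cls_surjective _ _ _ rfl x
    obtain ⟨k, m0, hk⟩ := h n ((D n).a1 z.1) (((D n).d1 z.1).mp z.2)
    have hle : n ≤ n + k := Nat.le_add_right n k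
    have hzero : (HomologicalComplex.homologyMap (koszulTrans M n (n + k) hle fs)
        (((1 : ℕ) : ℤ) - fs.length)).hom (cls _ _ _ rfl z) = 0 := by
      rw [homologyMap_cls, cls_eq_zero_iff _ _ _ _ hB01 rfl]
      refine ⟨(D (n + k)).a0.symm m0, ?_⟩
      apply (D (n + k)).a1.injective
      rw [(D (n + k)).d0]
      funext i
      rw [LinearEquiv.apply_symm_apply]
      have h2 := (lowData_trans M n (n + k) hle fs _ _ _ hB0 hB01 rfl).2 z.1 i
      change _ = (D (n + k)).a1 _ i
      rw [h2, Nat.add_sub_cancel_left]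
      exact (hk i).symm
    rw [← Module.DirectLimit.of_f (hij := hle), hzero, map_zero]
  exact ⟨fun x y => (key x).trans (key y).symm⟩

theorem subsingleton_koszulHLim_one_of_injective [IsNoetherianRing A] (fs : List A) (M : Type u)
    [AddCommGroup M] [Module A M] [Module.Injective A M] :
    Subsingleton (koszulHLim fs (ModuleCat.of A M) 1) :=
  subsingleton_koszulHLim_one_of_cocycles fs (ModuleCat.of A M)
    (fun n u hu => exists_bound M fs n u hu)

end Koszul

end Groth.Agent.Lib.R2H2.InjTors
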