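import Groth.Agent.Lib.R2H2LocFlasque
import Groth.Agent.Lib.R2H2InjTors

/-!
# `M~` is flasque for `M` injective over a Noetherian ring (helper2, round 2)
-/

set_option autoImplicit false
universe u

namespace Groth.Agent.Lib.R2H2.InjFlasque

open CategoryTheory Opposite TopologicalSpace AlgebraicGeometry

variable (A : Type u) [CommRing A] [IsNoetherianRing A] (M : Type u) [AddCommGroup M] [Module A M]
  [Module.Injective A M]

/-- **Hartshorne III.3.4**: over a Noetherian ring, the sheaf associated with an injective module
is flasque. -/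
theorem isFlasque_tilde_of_injective :
    TopCat.Sheaf.IsFlasque (Coh.toAb
      (AlgebraicGeometry.tilde (R := CommRingCat.of A) (ModuleCat.of A M))) :=
  Groth.Agent.Lib.R2H2.LocFlasque.isFlasque_of_forall A M
    (fun fs => Groth.Agent.Lib.R2H2.InjTors.subsingleton_koszulHLim_one_of_injective fs M)

theorem res_surjective (U V : (Spec (CommRingCat.of A)).Opens) (hUV : U ≤ V) :
    Function.Surjective ((Coh.toAb (AlgebraicGeometry.tilde (R := CommRingCat.of A)
      (ModuleCat.of A M))).obj.map (homOfLE hUV).op).hom := by
  have := isFlasque_tilde_of_injective A M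
  have hepi : Epi ((Coh.toAb (AlgebraicGeometry.tilde (R := CommRingCat.of A)
      (ModuleCat.of A M))).obj.map (homOfLE hUV).op) := TopCat.Presheaf.IsFlasque.epi _
  exact (AddCommGrpCat.epi_iff_surjective _).1 hepi

theorem subsingleton_koszulHLim (fs : List A) (i : ℕ) (hi : 0 < i) :
    Subsingleton (CohIII.koszulHLim fs (ModuleCat.of A M) i) := by
  have := isFlasque_tilde_of_injective A M
  exact Groth.Agent.Lib.R2H2.LocFlasque.subsingleton_of_isFlasque A fs M i hi

end Groth.Agent.Lib.R2H2.InjFlasque
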