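import Groth.Prelude.Def_KoszulSh
import Groth.Prelude.Def_FlatMod2
import Groth.Prelude.Def_CAlg
import Groth.Agent.Lib.R2H2KoszExact
import Groth.Agent.Lib.Helper5RegImm
import Groth.Agent.Lib.Helper28DepthCM2
import Groth.Agent.Lib.Helper28Unmixed
import Groth.Agent.Lib.Helper20LocFree

/-!
# Local complete intersections in Cohen–Macaulay schemes: local Koszul resolutions (helper2, round 2)

Namespace `Groth.Agent.Lib.R2H2.KoszLCI`.
* `stdSec`, `stdBasis c V` : the standard basis of the sections of `O^c` over any open.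
* `isWeaklyRegular_stalk` : `c` generators of an ideal of height `≥ c` in a CM local ring are weakly regular.
* `exists_regular_basicOpen` : spreading out to a basic open.
* `main` (S15902).
-/

set_option backward.isDefEq.respectTransparency.types false
set_option autoImplicit false
set_option linter.unusedSectionVars false
universe u

namespace Groth.Agent.Lib.R2H2.KoszLCI

open CategoryTheory CategoryTheory.Limits AlgebraicGeometry Opposite TopologicalSpace

section Std

variable {Y : Scheme.{u}} (c : ℕ)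

/-- the standard sections of `O^c` -/
noncomputable def stdSec (V : Y.Opens) (k : Fin c) : Γ(FlatMod.freeMod Y c, V) :=
  (Sigma.ι (fun _ : Fin c => Coh.structureModule Y) k).app V (OmegaSh.strSect Y V 1)

/-- the coordinate projections of `O^c` -/
noncomputable def proj (k : Fin c) : FlatMod.freeMod Y c ⟶ Coh.structureModule Y :=
  Sigma.desc (fun j => if j = k then 𝟙 _ else 0)

lemma ι_proj (j k : Fin c) :
    Sigma.ι (fun _ : Fin c => Coh.structureModule Y) j ≫ proj c k = if j = k then 𝟙 _ else 0 :=
  Sigma.ι_desc _ _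

lemma sum_proj_ι :
    ∑ k : Fin c, proj c k ≫ Sigma.ι (fun _ : Fin c => Coh.structureModule Y) k =
      𝟙 (FlatMod.freeMod Y c) := by
  refine Sigma.hom_ext _ _ fun j => ?_
  rw [Preadditive.comp_sum, Category.comp_id]
  rw [Finset.sum_eq_single j]
  · rw [← Category.assoc, ι_proj, if_pos rfl, Category.id_comp]
  · intro k _ hk
    rw [← Category.assoc, ι_proj, if_neg hk.symm, zero_comp]
  · intro h
    exact absurd (Finset.mem_univ j) h

/-- the inclusion of a summand on sections is multiplication of the standard section -/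
lemma ι_app (V : Y.Opens) (k : Fin c) (r : Γ(Coh.structureModule Y, V)) :
    (Sigma.ι (fun _ : Fin c => Coh.structureModule Y) k).app V r =
      (OmegaSh.fnSect Y V r) • stdSec c V k := by
  unfold stdSec
  rw [← Scheme.Modules.Hom.app_smul]
  congr 1
  refine Eq.trans ?_ (Groth.Agent.Lib.Helper23.GenLocus.smul_toS V
    (Groth.Agent.Lib.Helper23.GenLocus.ofS V r) 1).symm
  rw [mul_one]
  rfl

lemma sum_app {M N : Y.Modules} {ι : Type*} (s : Finset ι) (φ : ι → (M ⟶ N)) (V : Y.Opens)
    (t : Γ(M, V)) : (∑ k ∈ s, φ k).app V t = ∑ k ∈ s, (φ k).app V t := by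
  classical
  induction s using Finset.induction_on with
  | empty =>
    rw [Finset.sum_empty, Finset.sum_empty]
    rfl
  | insert a s ha ih =>
    rw [Finset.sum_insert ha, Finset.sum_insert ha, ← ih]
    rfl

lemma decomp (V : Y.Opens) (t : Γ(FlatMod.freeMod Y c, V)) :
    t = ∑ k : Fin c, OmegaSh.fnSect Y V ((proj c k).app V t) • stdSec c V k := by
  have h1 : (𝟙 (FlatMod.freeMod Y c) : _ ⟶ _).app V t = t := rfl
  rw [← sum_proj_ι, sum_app] at h1
  refine h1.symm.trans (Finset.sum_congr rfl fun k _ => ?_)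
  rw [← ι_app]
  rfl

lemma proj_stdSec (V : Y.Opens) (j k : Fin c) :
    OmegaSh.fnSect Y V ((proj c j).app V (stdSec c V k)) = if k = j then 1 else 0 := by
  unfold stdSec
  change OmegaSh.fnSect Y V
    ((Sigma.ι (fun _ : Fin c => Coh.structureModule Y) k ≫ proj c j).app V (OmegaSh.strSect Y V 1)) = _
  rw [ι_proj]
  split_ifs with h
  · rfl
  · rfl

/-- the coordinate of a section, as a linear form -/
noncomputable def coordLin (V : Y.Opens) (j : Fin c) :
    Γ(FlatMod.freeMod Y c, V) →ₗ[Γ(Y, V)] Γ(Y, V) :=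
  KoszSh.secForm (proj c j) V

/-- the standard basis of the sections of `O^c` -/
noncomputable def stdBasis (V : Y.Opens) :
    Module.Basis (Fin c) Γ(Y, V) Γ(FlatMod.freeMod Y c, V) :=
  Module.Basis.mk (v := stdSec c V)
    (by
      rw [Fintype.linearIndependent_iff]
      intro a ha j
      have h1 := congrArg (coordLin c V j) ha
      rw [map_sum, map_zero] at h1
      rw [Finset.sum_eq_single j] at h1
      · rw [map_smul] at h1
        have h2 : coordLin c V j (stdSec c V j) = 1 := by
          change OmegaSh.fnSect Y V ((proj c j).app V (stdSec c V j)) = 1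
          rw [proj_stdSec, if_pos rfl]
        rw [h2, smul_eq_mul, mul_one] at h1
        exact h1
      · intro k _ hk
        rw [map_smul]
        have h2 : coordLin c V j (stdSec c V k) = 0 := by
          change OmegaSh.fnSect Y V ((proj c j).app V (stdSec c V k)) = 0
          rw [proj_stdSec, if_neg hk]
        rw [h2, smul_zero]
      · intro h
        exact absurd (Finset.mem_univ j) h)
    (by
      intro t _
      rw [decomp c V t]
      exact Submodule.sum_mem _ fun k _ =>
        Submodule.smul_mem _ _ (Submodule.subset_span ⟨k, rfl⟩))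

lemma stdBasis_apply (V : Y.Opens) (k : Fin c) : stdBasis c V k = stdSec c V k := by
  unfold stdBasis
  rw [Module.Basis.mk_apply]

theorem isFinLocFreeOfRank_freeMod : FlatMod.IsFinLocFreeOfRank c (FlatMod.freeMod Y c) := fun _ =>
  ⟨⊤, trivial, ⟨Groth.Agent.Lib.Helper20.LocFree.restrictFreeMod _ c⟩⟩

end Std

section Alg

open RingTheory.Sequence

lemma ofList_ofFn {A : Type*} [CommRing A] {c : ℕ} (g : Fin c → A) :
    Ideal.ofList (List.ofFn g) = Ideal.span (Set.range g) := by
  unfold Ideal.ofList
  congr 1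
  ext x
  simp [List.mem_ofFn]

/-- in a Cohen–Macaulay local ring, `c` generators of a proper ideal of height at least `c` form a
weakly regular sequence -/
theorem isWeaklyRegular_of_height {A : Type u} [CommRing A] [hA : LocCoh.IsCohenMacaulayLocalRing A]
    {c : ℕ} (a : Fin c → A) (hne : Ideal.span (Set.range a) ≠ ⊤)
    (hht : (c : ℕ∞) ≤ (Ideal.span (Set.range a)).height) :
    IsWeaklyRegular A (List.ofFn a) := by
  obtain ⟨I, hI⟩ : ∃ I : Ideal A, I = Ideal.span (Set.range a) := ⟨_, rfl⟩
  have hIm : I ≤ IsLocalRing.maximalIdeal A := IsLocalRing.le_maximalIdeal (hI ▸ hne)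
  have hmem : ∀ x ∈ List.ofFn a, x ∈ IsLocalRing.maximalIdeal A := by
    intro x hx
    obtain ⟨k, rfl⟩ := (List.mem_ofFn' a x).1 hx
    exact hIm (hI ▸ Ideal.subset_span ⟨k, rfl⟩)
  have hCM' : LocCoh.IsCohenMacaulayModule A A := hA.supportDim_eq_depth
  have h2 : (Ideal.ofList (List.ofFn a) • ⊤ : Submodule A A) = I := by
    rw [ofList_ofFn, smul_eq_mul, Ideal.mul_top, hI]
  have hdim : Module.supportDim A (A ⧸ (Ideal.ofList (List.ofFn a) • ⊤ : Submodule A A)) +
      ((List.ofFn a).length : ℕ) = Module.supportDim A A := by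
    rw [h2, Module.supportDim_self_eq_ringKrullDim, Module.supportDim_quotient_eq_ringKrullDim,
      List.length_ofFn]
    apply le_antisymm
    · have h3 := Groth.Agent.Lib.Helper28.height_add_ringKrullDim_quotient_le I (hI ▸ hne)
      rw [add_comm] at h3
      refine le_trans ?_ h3
      gcongr
      rw [hI]
      exact_mod_cast hht
    · have h3 := ringKrullDim_le_ringKrullDim_quotient_add_encard (Set.range a) (by
        rw [IsLocalRing.ringJacobson_eq_maximalIdeal]
        rintro _ ⟨k, rfl⟩
        exact hIm (hI ▸ Ideal.subset_span ⟨k, rfl⟩))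
      rw [← hI] at h3
      refine le_trans h3 ?_
      gcongr
      have h4 : (Set.range a).encard ≤ (c : ℕ∞) := by
        rw [← Set.image_univ]
        refine le_trans (Set.encard_image_le a Set.univ) ?_
        rw [Set.encard_univ, ENat.card_eq_coe_fintype_card, Fintype.card_fin]
      exact_mod_cast h4
  exact Groth.Agent.Lib.Helper28.isWeaklyRegular_of_supportDim_add_length_eq (List.ofFn a) A
    hCM' hmem hdim

end Alg

section Geo

open RingTheory.Sequence Groth.Agent.Lib.Helper5.RegSeq Groth.Agent.Lib.Helper5.RegImm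

variable {X Y : Scheme.{u}}

/-- spreading out: generators of the ideal of a closed subscheme which has height at least their number at
a point with Cohen–Macaulay local ring form a weakly regular sequence over a basic open neighbourhood -/
theorem exists_regular_basicOpen [IsLocallyNoetherian X] (i : Y ⟶ X) [IsClosedImmersion i] (c : ℕ)
    (y : Y) (hCM : LocCoh.IsCohenMacaulayLocalRing (X.presheaf.stalk (i.base y)))
    (U₀ : X.affineOpens) (hy : i.base y ∈ U₀.1) (g : Fin c → Γ(X, U₀.1))
    (hg : i.ker.ideal U₀ = Ideal.span (Set.range g))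
    (hht : (c : ℕ∞) ≤ (RingHom.ker (i.stalkMap y).hom).height) :
    ∃ h : Γ(X, U₀.1), i.base y ∈ X.basicOpen h ∧
      IsWeaklyRegular Γ(X, X.basicOpen h)
        (List.ofFn fun k => X.presheaf.map (homOfLE (X.basicOpen_le h)).op (g k)) := by
  have hU := U₀.2
  haveI : IsNoetherianRing Γ(X, U₀.1) := IsLocallyNoetherian.component_noetherian U₀
  letI alg := (X.presheaf.germ U₀.1 (i.base y) hy).hom.toAlgebra
  haveI loc : IsLocalization.AtPrime (X.presheaf.stalk (i.base y))
      (hU.primeIdealOf ⟨i.base y, hy⟩).asIdeal := hU.isLocalization_stalk ⟨i.base y, hy⟩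
  -- the kernel of the stalk map
  have hker : RingHom.ker (i.stalkMap y).hom =
      Ideal.span (Set.range fun k => (X.presheaf.germ U₀.1 (i.base y) hy).hom (g k)) := by
    have h1 := ker_stalkMap_eq_map_ker i y U₀.1 hU hy
    rw [h1]
    change (i.ker.ideal U₀).map _ = _
    rw [hg, Ideal.map_span, ← Set.range_comp]
    rfl
  have hne : Ideal.span (Set.range fun k => (X.presheaf.germ U₀.1 (i.base y) hy).hom (g k)) ≠ ⊤ := by
    rw [← hker]
    exact RingHom.ker_ne_top _
  have hw := isWeaklyRegular_of_height (hA := hCM)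
    (fun k => (X.presheaf.germ U₀.1 (i.base y) hy).hom (g k)) hne (by rw [← hker]; exact hht)
  have hw' : RegOn ((⊥ : Ideal Γ(X, U₀.1)).map (algebraMap Γ(X, U₀.1) (X.presheaf.stalk (i.base y))))
      ((List.ofFn g).map (algebraMap Γ(X, U₀.1) (X.presheaf.stalk (i.base y)))) := by
    rw [Ideal.map_bot, List.map_ofFn, ← isWeaklyRegular_iff_regOn]
    exact hw
  obtain ⟨h, hh, H⟩ := exists_notMem_forall_regOn.{u, u} (hU.primeIdealOf ⟨i.base y, hy⟩).asIdeal
    (X.presheaf.stalk (i.base y)) (List.ofFn g) ⊥ hw'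
  refine ⟨h, ?_, ?_⟩
  · rw [X.mem_basicOpen h (i.base y) hy]
    exact (IsLocalization.AtPrime.isUnit_to_map_iff (X.presheaf.stalk (i.base y))
      (hU.primeIdealOf ⟨i.base y, hy⟩).asIdeal h).mpr hh
  · letI : Algebra Γ(X, U₀.1) Γ(X, X.basicOpen h) :=
      (X.presheaf.map (homOfLE (X.basicOpen_le h)).op).hom.toAlgebra
    haveI : IsLocalization.Away h Γ(X, X.basicOpen h) := hU.isLocalization_basicOpen h
    have hu : IsUnit (algebraMap Γ(X, U₀.1) Γ(X, X.basicOpen h) h) :=
      IsLocalization.Away.algebraMap_isUnit h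
    have h3 := H (Submonoid.powers h) Γ(X, X.basicOpen h) hu
    rw [Ideal.map_bot, List.map_ofFn, ← isWeaklyRegular_iff_regOn] at h3
    exact h3

end Geo

section Main

open RingTheory.Sequence Groth.Agent.Lib.Helper5.RegSeq

/-- weak regularity is transported by ring isomorphisms -/
lemma isWeaklyRegular_map_ringEquiv {R S : Type*} [CommRing R] [CommRing S] (e : R ≃+* S)
    (rs : List R) (h : IsWeaklyRegular R rs) : IsWeaklyRegular S (rs.map e) := by
  rw [isWeaklyRegular_iff_regOn] at h ⊢
  have h1 := (regOn_map_of_surjective (e : R →+* S) e.surjective ⊥ (by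
    intro a ha
    rw [RingHom.mem_ker] at ha
    exact (Ideal.mem_bot).mpr (e.injective (by simpa using ha))) rs).2 h
  rw [Ideal.map_bot] at h1
  exact h1

theorem main {X Y : Scheme.{u}} [IsLocallyNoetherian X]
    (hCM : ∀ x : X, LocCoh.IsCohenMacaulayLocalRing (X.presheaf.stalk x))
    (i : Y ⟶ X) [IsClosedImmersion i] (c : ℕ)
    (hgen : ∀ y : Y, ∃ U : X.affineOpens, i.base y ∈ U.1 ∧ ∃ g : Fin c → Γ(X, U.1),
      i.ker.ideal U = Ideal.span (Set.range g))
    (hht : ∀ y : Y, (c : ℕ∞) ≤ (RingHom.ker (i.stalkMap y).hom).height) :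
    ∀ y : Y, ∃ U : X.affineOpens, i.base y ∈ U.1 ∧ ∃ f : Fin c → Γ(X, U.1),
      i.ker.ideal U = Ideal.span (Set.range f) ∧ IsWeaklyRegular Γ(X, U.1) (List.ofFn f) ∧
      ∀ (s : FlatMod.freeMod (↑U.1) c ⟶ Coh.structureModule (↑U.1)),
        (∀ k : Fin c, KoszSh.secForm s ⊤
          ((Limits.Sigma.ι (fun _ : Fin c => Coh.structureModule (↑U.1)) k).app ⊤
            (OmegaSh.strSect (↑U.1) ⊤ 1)) = U.1.topIso.inv (f k)) →
        ∀ (C : KoszSh.Cx (FlatMod.freeMod (↑U.1) c) s) (q : ℕ), 1 ≤ q →
          Limits.IsZero (C.K.homology q) := by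
  intro y
  obtain ⟨U₀, hy, g, hg⟩ := hgen y
  obtain ⟨h, hyh, hw⟩ := exists_regular_basicOpen i c y (hCM _) U₀ hy g hg (hht y)
  refine ⟨X.affineBasicOpen h, hyh,
    fun k => X.presheaf.map (homOfLE (X.basicOpen_le h)).op (g k), ?_, hw, ?_⟩
  · rw [← i.ker.map_ideal_basicOpen U₀ h, hg, Ideal.map_span, ← Set.range_comp]
    rfl
  · intro s hs C q hq
    refine Groth.Agent.Lib.R2H2.KoszExact.isZero_homology c _ (isFinLocFreeOfRank_freeMod c) s ?_ C q hq
    intro x
    haveI : IsAffine (↑(X.affineBasicOpen h).1 : Scheme.{u}) := (X.affineBasicOpen h).2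
    refine ⟨⟨⊤, isAffineOpen_top _⟩, trivial, stdBasis c ⊤, ?_⟩
    have e1 : (fun k => KoszSh.secForm s ⊤ (stdBasis c ⊤ k)) =
        fun k => (X.affineBasicOpen h).1.topIso.inv
          (X.presheaf.map (homOfLE (X.basicOpen_le h)).op (g k)) := by
      funext k
      rw [stdBasis_apply]
      exact hs k
    rw [e1]
    have h2 := isWeaklyRegular_map_ringEquiv
      ((X.affineBasicOpen h).1.topIso.symm.commRingCatIsoToRingEquiv) _ hw
    have h3 := List.map_ofFn (f := fun k => X.presheaf.map (homOfLE (X.basicOpen_le h)).op (g k))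
      (g := ⇑((X.affineBasicOpen h).1.topIso.symm.commRingCatIsoToRingEquiv))
    exact h3 ▸ h2

end Main

end Groth.Agent.Lib.R2H2.KoszLCI
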