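import Groth.Prelude.Def_FlatMod2
import Groth.Agent.Lib.H6xInjQcA
import Groth.Agent.Lib.R2H2KoszLCI
import Groth.Agent.Lib.R2H2PrimDecB
import Groth.Agent.Lib.R2H3AssMono
import Groth.Agent.Lib.Helper2QCoh

/-!
# Stalks of injective `O_X`-modules on locally Noetherian schemes are injective (helper2, round 2)

Namespace `Groth.Agent.Lib.R2H2.InjStalk`.
* `rel_of_away` : linear relations over a localisation `R_f` come from relations over `R`.
* `exists_smul_eq_of_affine` : on an affine scheme `Y`, for an injective `O_Y`-module `G`, elements `r_i` of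
  `Γ(Y, ⊤)` and sections `s_i` of `G` such that every relation between the `r_i` is a relation between the
  `s_i`, there is a section `m` with `r_i • m = s_i`.
* `exists_smul_eq_of_isAffineOpen` : the same on an affine open of any scheme.
* `main` (S11155) : Baer's criterion for the stalk.
-/

set_option backward.isDefEq.respectTransparency.types false
set_option autoImplicit false
set_option linter.unusedSectionVars false
universe u

namespace Groth.Agent.Lib.R2H2.InjStalk

open CategoryTheory CategoryTheory.Limits AlgebraicGeometry Opposite TopologicalSpace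
open Groth.Agent.Lib.Helper23.GenLocus Groth.Agent.Lib.Helper23.SecTw Groth.Agent.Lib.Helper6
open Groth.Agent.Lib.R2H2.KoszLCI

section Alg

/-- relations over a localisation away from `f` come from relations over the ring -/
theorem rel_of_away {R R' : Type*} [CommRing R] [CommRing R'] [Algebra R R'] (f : R)
    [IsLocalization.Away f R'] {M' : Type*} [AddCommGroup M'] [Module R' M'] {n : ℕ}
    (r : Fin n → R) (s' : Fin n → M')
    (h : ∀ c : Fin n → R, ∑ i, c i * r i = 0 → ∑ i, algebraMap R R' (c i) • s' i = 0)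
    (c' : Fin n → R') (hc : ∑ i, c' i * algebraMap R R' (r i) = 0) :
    ∑ i, c' i • s' i = 0 := by
  obtain ⟨b, hb⟩ := IsLocalization.exist_integer_multiples (Submonoid.powers f) Finset.univ c'
  choose c'' hc'' using fun i => hb i (Finset.mem_univ i)
  have hc2 : ∀ i, algebraMap R R' (c'' i) = algebraMap R R' (b : R) * c' i := by
    intro i
    rw [hc'' i, Algebra.smul_def]
  have h1 : algebraMap R R' (∑ i, c'' i * r i) = 0 := by
    rw [map_sum]
    have : ∀ i, algebraMap R R' (c'' i * r i) =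
        algebraMap R R' (b : R) * (c' i * algebraMap R R' (r i)) := by
      intro i
      rw [map_mul, hc2 i, mul_assoc]
    rw [Finset.sum_congr rfl (fun i _ => this i), ← Finset.mul_sum, hc, mul_zero]
  obtain ⟨m, hm⟩ := (IsLocalization.map_eq_zero_iff (Submonoid.powers f) R' _).mp h1
  have h2 : ∑ i, (m : R) * c'' i * r i = 0 := by
    rw [← hm, Finset.mul_sum]
    exact Finset.sum_congr rfl fun i _ => mul_assoc _ _ _
  have h3 := h (fun i => (m : R) * c'' i) h2
  have h4 : ∀ i, algebraMap R R' ((m : R) * c'' i) • s' i =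
      (algebraMap R R' ((m : R) * (b : R))) • (c' i • s' i) := by
    intro i
    rw [map_mul, hc2 i, map_mul, ← mul_assoc, mul_smul]
  rw [Finset.sum_congr rfl (fun i _ => h4 i), ← Finset.smul_sum] at h3
  have hu : IsUnit (algebraMap R R' ((m : R) * (b : R))) :=
    IsLocalization.map_units R' (m * b)
  exact (hu.smul_eq_zero).mp h3

end Alg

section Sec

variable {Y : Scheme.{u}} (G : Y.Modules) {n : ℕ} (r : Fin n → Γ(Y, ⊤)) (s : Fin n → Γ(G, ⊤))

/-- the morphism `O^n ⟶ O` given by the `r_i` -/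
noncomputable def rho : FlatMod.freeMod Y n ⟶ Coh.structureModule Y :=
  Sigma.desc (fun i => secHom (Coh.structureModule Y) (toS ⊤ (r i)))

/-- the morphism `O^n ⟶ G` given by the `s_i` -/
noncomputable def sig : FlatMod.freeMod Y n ⟶ G := Sigma.desc (fun i => secHom G (s i))

lemma sig_stdSec (V : Y.Opens) (k : Fin n) :
    (sig G s).app V (stdSec n V k) = res G le_top (s k) := by
  unfold stdSec
  change (Sigma.ι (fun _ : Fin n => Coh.structureModule Y) k ≫ sig G s).app V
    (OmegaSh.strSect Y V 1) = _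
  unfold sig
  rw [Sigma.ι_desc]
  exact sv_secHom G (s k) V

lemma sig_app (V : Y.Opens) (t : Γ(FlatMod.freeMod Y n, V)) :
    (sig G s).app V t =
      ∑ k : Fin n, OmegaSh.fnSect Y V ((proj n k).app V t) • res G le_top (s k) := by
  conv_lhs => rw [decomp n V t]
  rw [map_sum]
  refine Finset.sum_congr rfl fun k _ => ?_
  rw [Scheme.Modules.Hom.app_smul, sig_stdSec]

lemma rho_eq : rho r = sig (Coh.structureModule Y) (fun i => toS ⊤ (r i)) := rfl

lemma rho_app (V : Y.Opens) (t : Γ(FlatMod.freeMod Y n, V)) :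
    ofS V ((rho r).app V t) =
      ∑ k : Fin n, OmegaSh.fnSect Y V ((proj n k).app V t) * Y.presheaf.map (homOfLE le_top).op (r k) := by
  rw [rho_eq, sig_app]
  rfl

/-- on an affine scheme, if every relation between the `r_i` is a relation between the `s_i`, then
`O^n ⟶ G` kills the kernel of `O^n ⟶ O` -/
theorem kernel_comp_sig_eq_zero [IsAffine Y]
    (h : ∀ c : Fin n → Γ(Y, ⊤), ∑ i, c i * r i = 0 → ∑ i, c i • s i = 0) :
    kernel.ι (rho r) ≫ sig G s = 0 := by
  refine Groth.Agent.Lib.R2H3.AssMono.hom_ext_basis _ _ _ (isBasis_basicOpen Y) ?_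
  rintro _ ⟨f, rfl⟩ t
  have hy : (rho r).app (Y.basicOpen f) ((kernel.ι (rho r)).app (Y.basicOpen f) t) = 0 := by
    have h1 := kernel.condition (rho r)
    have h2 := congr($((congrArg (fun θ => Scheme.Modules.Hom.app θ (Y.basicOpen f)) h1)) t)
    exact h2
  have hy2 := congrArg (ofS (Y.basicOpen f)) hy
  rw [rho_app] at hy2
  change (sig G s).app (Y.basicOpen f) ((kernel.ι (rho r)).app (Y.basicOpen f) t) = 0
  rw [sig_app]
  refine rel_of_away (R := Γ(Y, ⊤)) (R' := Γ(Y, Y.basicOpen f)) f r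
    (fun k => res G le_top (s k)) ?_ _ hy2
  intro c hc
  have h3 := congrArg (res G (le_top : Y.basicOpen f ≤ ⊤)) (h c hc)
  unfold res at h3
  rw [map_sum, map_zero] at h3
  refine Eq.trans (Finset.sum_congr rfl fun i _ => ?_) h3
  rw [Scheme.Modules.map_smul]
  rfl

/-- the extension property of an injective module on an affine scheme -/
theorem exists_smul_eq_of_affine [IsAffine Y] [Injective G]
    (h : ∀ c : Fin n → Γ(Y, ⊤), ∑ i, c i * r i = 0 → ∑ i, c i • s i = 0) :
    ∃ m : Γ(G, ⊤), ∀ i, r i • m = s i := by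
  have h0 := kernel_comp_sig_eq_zero G r s h
  have hfac : Abelian.coimage.π (rho r) ≫ Abelian.factorThruCoimage (rho r) = rho r :=
    Abelian.coimage.fac (rho r)
  let ψ : Abelian.coimage (rho r) ⟶ G := cokernel.desc (kernel.ι (rho r)) (sig G s) h0
  have hψ : Abelian.coimage.π (rho r) ≫ ψ = sig G s := cokernel.π_desc _ _ _
  let ψt : Coh.structureModule Y ⟶ G := Injective.factorThru ψ (Abelian.factorThruCoimage (rho r))
  have hψt : Abelian.factorThruCoimage (rho r) ≫ ψt = ψ := Injective.comp_factorThru ψ _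
  have key : rho r ≫ ψt = sig G s := by rw [← hfac, Category.assoc, hψt, hψ]
  refine ⟨sv ψt ⊤, fun i => ?_⟩
  have h1 := congr($((congrArg (fun θ => Scheme.Modules.Hom.app θ ⊤) key)) (stdSec n ⊤ i))
  have h2 : (rho r).app ⊤ (stdSec n ⊤ i) = toS ⊤ (r i) := by
    rw [rho_eq, sig_stdSec]
    exact res_self _ _
  have h3 : (sig G s).app ⊤ (stdSec n ⊤ i) = s i := by
    rw [sig_stdSec]
    exact res_self _ _
  have h4 : ψt.app ⊤ ((rho r).app ⊤ (stdSec n ⊤ i)) = s i := h1.trans h3
  rw [h2, app_toS] at h4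
  exact h4

end Sec

section Open

variable {X : Scheme.{u}} (I : X.Modules)

lemma smul_restrict_top (V : X.Opens) (a : Γ(X, V.ι ''ᵁ ⊤)) (y : Γ(I, V.ι ''ᵁ ⊤)) :
    (show Γ((Scheme.Modules.restrictFunctor V.ι).obj I, ⊤) from (a • y)) =
      (show Γ((↑V : Scheme.{u}), ⊤) from a) • (show Γ((Scheme.Modules.restrictFunctor V.ι).obj I, ⊤) from y) := by
  refine (Groth.Agent.Lib.R2H3.AssMono.restrict_smul' V.ι I ⊤ a y).trans ?_
  congr 1
  rw [Scheme.Opens.ι_appIso]
  rfl

theorem exists_smul_eq_aux [Injective I] (V : X.Opens) (hV : IsAffineOpen V) {n : ℕ}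
    (r : Fin n → Γ(X, V.ι ''ᵁ ⊤)) (s : Fin n → Γ(I, V.ι ''ᵁ ⊤))
    (h : ∀ c : Fin n → Γ(X, V.ι ''ᵁ ⊤), ∑ i, c i * r i = 0 → ∑ i, c i • s i = 0) :
    ∃ m : Γ(I, V.ι ''ᵁ ⊤), ∀ i, r i • m = s i := by
  haveI : IsAffine (↑V : Scheme.{u}) := hV
  haveI : Injective ((Scheme.Modules.restrictFunctor V.ι).obj I) :=
    Groth.Agent.Lib.H6xInjQc.injective_restrict V.ι I
  obtain ⟨m, hm⟩ := exists_smul_eq_of_affine (Y := (↑V : Scheme.{u}))
    ((Scheme.Modules.restrictFunctor V.ι).obj I) (n := n) (fun i => (show Γ((↑V : Scheme.{u}), ⊤) from r i))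
    (fun i => (show Γ((Scheme.Modules.restrictFunctor V.ι).obj I, ⊤) from s i)) (by
      intro c hc
      have h1 := h (fun i => (show Γ(X, V.ι ''ᵁ ⊤) from c i)) hc
      refine Eq.trans (Finset.sum_congr rfl fun i _ => ?_) h1
      exact (smul_restrict_top I V _ _).symm)
  refine ⟨(show Γ(I, V.ι ''ᵁ ⊤) from m), fun i => ?_⟩
  exact (smul_restrict_top I V (r i) _).trans (hm i)

/-- the extension property of an injective module over an affine open -/
theorem exists_smul_eq_of_isAffineOpen [Injective I] {V : X.Opens} (hV : IsAffineOpen V) {n : ℕ}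
    (r : Fin n → Γ(X, V)) (s : Fin n → Γ(I, V))
    (h : ∀ c : Fin n → Γ(X, V), ∑ i, c i * r i = 0 → ∑ i, c i • s i = 0) :
    ∃ m : Γ(I, V), ∀ i, r i • m = s i := by
  have key : ∀ (W : X.Opens), W = V → ∀ (r : Fin n → Γ(X, W)) (s : Fin n → Γ(I, W)),
      (∀ c : Fin n → Γ(X, W), ∑ i, c i * r i = 0 → ∑ i, c i • s i = 0) →
      ∃ m : Γ(I, W), ∀ i, r i • m = s i := by
    intro W hW
    have := exists_smul_eq_aux I V hV (n := n)
    rw [Scheme.Opens.ι_image_top] at this
    subst hW
    exact this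
  exact key V rfl r s h

end Open

section Main

variable {X : Scheme.{u}}

lemma exists_le_of_finite {ι : Type*} [Finite ι] (V : ι → X.Opens) (x : X) (hx : ∀ i, x ∈ V i) :
    ∃ U : X.Opens, x ∈ U ∧ ∀ i, U ≤ V i :=
  ⟨⟨⋂ i, (V i : Set X), isOpen_iInter_of_finite fun i => (V i).2⟩, Set.mem_iInter.mpr hx,
    fun i _ hy => Set.mem_iInter.mp hy i⟩

/-- a finitely generated submodule of sections all of whose germs at `x` vanish restricts to zero on a
neighbourhood of `x` -/
lemma exists_res_eq_zero (I : X.Modules) (x : X) (U : X.Opens) (hxU : x ∈ U)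
    (N : Submodule Γ(X, U) Γ(I, U)) (hN : N.FG)
    (hg : ∀ t ∈ N, I.presheaf.germ U x hxU t = 0) :
    ∃ (U' : X.Opens) (hU' : U' ≤ U), x ∈ U' ∧ ∀ t ∈ N, I.presheaf.map (homOfLE hU').op t = 0 := by
  classical
  obtain ⟨S, hS⟩ := hN
  have h1 : ∀ t : S, ∃ (W : X.Opens) (hW : W ≤ U), x ∈ W ∧ I.presheaf.map (homOfLE hW).op t.1 = 0 := by
    intro t
    have ht : t.1 ∈ N := hS ▸ Submodule.subset_span t.2
    have h0 : I.presheaf.germ U x hxU t.1 = I.presheaf.germ U x hxU 0 := by rw [hg _ ht, map_zero]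
    obtain ⟨W, hxW, i₁, i₂, hW⟩ := I.presheaf.germ_eq x hxU hxU t.1 0 h0
    rw [map_zero] at hW
    exact ⟨W, i₁.le, hxW, hW⟩
  choose W hW hxW hWt using h1
  obtain ⟨U', hxU', hU'W⟩ := exists_le_of_finite W x hxW
  obtain ⟨U'', hxU'', hU''⟩ := exists_le_of_finite (fun b : Bool => if b then U' else U) x
    (fun b => by cases b <;> simp [hxU', hxU])
  have hle : U'' ≤ U := hU'' false
  have hle' : U'' ≤ U' := hU'' true
  refine ⟨U'', hle, hxU'', ?_⟩
  let T : Submodule Γ(X, U) Γ(I, U) :=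
    { carrier := {t | I.presheaf.map (homOfLE hle).op t = 0}
      zero_mem' := map_zero _
      add_mem' := fun {a b} ha hb => by
        change I.presheaf.map (homOfLE hle).op (a + b) = 0
        rw [map_add, ha, hb, add_zero]
      smul_mem' := fun c a ha => by
        change I.presheaf.map (homOfLE hle).op (c • a) = 0
        rw [Scheme.Modules.map_smul, ha, smul_zero] }
  have hNT : N ≤ T := by
    rw [← hS]
    refine Submodule.span_le.mpr fun t ht => ?_
    change I.presheaf.map (homOfLE hle).op t = 0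
    have e : (homOfLE hle).op = (homOfLE (hW ⟨t, ht⟩)).op ≫ (homOfLE ((hle').trans (hU'W ⟨t, ht⟩))).op := rfl
    rw [e, I.presheaf.map_comp, ConcreteCategory.comp_apply, hWt ⟨t, ht⟩, map_zero]
  exact fun t ht => hNT ht

/-- **Stalks of injective modules on a locally Noetherian scheme are injective.** -/
theorem main [IsLocallyNoetherian X] (I : X.Modules) (hI : Injective I) (x : X) :
    Module.Injective (X.presheaf.stalk x) (I.presheaf.stalk x) := by
  classical
  haveI := hI
  apply Module.Baer.injective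
  intro 𝔞 g
  obtain ⟨n, a, ha⟩ : ∃ (n : ℕ) (a : Fin n → X.presheaf.stalk x), Submodule.span _ (Set.range a) = 𝔞 :=
    Submodule.fg_iff_exists_fin_generating_family.mp (IsNoetherian.noetherian 𝔞)
  have ham : ∀ i, a i ∈ 𝔞 := fun i => ha ▸ Submodule.subset_span ⟨i, rfl⟩
  -- representatives of the generators and of their images
  choose V₁ hxV₁ r₁ hr₁ using fun i => X.presheaf.exists_germ_eq (a i)
  choose W₁ hxW₁ s₁ hs₁ using fun i => I.presheaf.exists_germ_eq (g ⟨a i, ham i⟩)
  obtain ⟨V₂, hxV₂, hV₂⟩ := exists_le_of_finite V₁ x hxV₁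
  obtain ⟨W₂, hxW₂, hW₂⟩ := exists_le_of_finite W₁ x hxW₁
  obtain ⟨U, hUaff, hxU, hUle⟩ := TopologicalSpace.Opens.isBasis_iff_nbhd.mp X.isBasis_affineOpens
    (show x ∈ V₂ ⊓ W₂ from ⟨hxV₂, hxW₂⟩)
  have hUV : ∀ i, U ≤ V₁ i := fun i => (hUle.trans inf_le_left).trans (hV₂ i)
  have hUW : ∀ i, U ≤ W₁ i := fun i => (hUle.trans inf_le_right).trans (hW₂ i)
  let r : Fin n → Γ(X, U) := fun i => X.presheaf.map (homOfLE (hUV i)).op (r₁ i)
  let s : Fin n → Γ(I, U) := fun i => I.presheaf.map (homOfLE (hUW i)).op (s₁ i)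
  have hr : ∀ i, X.presheaf.germ U x hxU (r i) = a i := fun i =>
    (TopCat.Presheaf.germ_res_apply X.presheaf (homOfLE (hUV i)) x hxU (r₁ i)).trans (hr₁ i)
  have hs : ∀ i, I.presheaf.germ U x hxU (s i) = g ⟨a i, ham i⟩ := fun i =>
    (TopCat.Presheaf.germ_res_apply I.presheaf (homOfLE (hUW i)) x hxU (s₁ i)).trans (hs₁ i)
  haveI : IsNoetherianRing Γ(X, U) := IsLocallyNoetherian.component_noetherian ⟨U, hUaff⟩
  -- the module of relations and its image
  let Lr : (Fin n → Γ(X, U)) →ₗ[Γ(X, U)] Γ(X, U) := Fintype.linearCombination Γ(X, U) r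
  let Ls : (Fin n → Γ(X, U)) →ₗ[Γ(X, U)] Γ(I, U) := Fintype.linearCombination Γ(X, U) s
  let N : Submodule Γ(X, U) Γ(I, U) := (LinearMap.ker Lr).map Ls
  have hNfg : N.FG := (IsNoetherian.noetherian (LinearMap.ker Lr)).map Ls
  have hNg : ∀ t ∈ N, I.presheaf.germ U x hxU t = 0 := by
    rintro _ ⟨c, hc, rfl⟩
    have hc' : ∑ i, c i * r i = 0 := by
      have := LinearMap.mem_ker.mp hc
      rwa [Fintype.linearCombination_apply] at this
    change I.presheaf.germ U x hxU (Fintype.linearCombination Γ(X, U) s c) = 0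
    rw [Fintype.linearCombination_apply, map_sum]
    have h1 : ∀ i, I.presheaf.germ U x hxU (c i • s i) =
        g ((X.presheaf.germ U x hxU (c i)) • ⟨a i, ham i⟩) := by
      intro i
      rw [Groth.Agent.Lib.Helper2.QCoh.germ_smul, hs, map_smul]
    rw [Finset.sum_congr rfl (fun i _ => h1 i), ← map_sum]
    have h2 : ∑ i, (X.presheaf.germ U x hxU (c i)) • (⟨a i, ham i⟩ : 𝔞) = 0 := by
      apply Subtype.ext
      rw [Submodule.coe_sum, Submodule.coe_zero]
      have h3 := congrArg (X.presheaf.germ U x hxU) hc'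
      rw [map_sum, map_zero] at h3
      refine Eq.trans (Finset.sum_congr rfl fun i _ => ?_) h3
      rw [map_mul, hr]
      rfl
    rw [h2, map_zero]
  obtain ⟨U', hU'U, hxU', hU'⟩ := exists_res_eq_zero I x U hxU N hNfg hNg
  obtain ⟨f, hfU', hxf⟩ := hUaff.exists_basicOpen_le ⟨x, hxU'⟩ hxU
  haveI := hUaff.isLocalization_basicOpen f
  let r' : Fin n → Γ(X, X.basicOpen f) := fun i => X.presheaf.map (homOfLE (X.basicOpen_le f)).op (r i)
  let s' : Fin n → Γ(I, X.basicOpen f) := fun i => I.presheaf.map (homOfLE (X.basicOpen_le f)).op (s i)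
  have hrel : ∀ c : Fin n → Γ(X, X.basicOpen f), ∑ i, c i * r' i = 0 → ∑ i, c i • s' i = 0 := by
    intro c hc
    refine rel_of_away (R := Γ(X, U)) (R' := Γ(X, X.basicOpen f)) f r s' ?_ c hc
    intro c₀ hc₀
    have hmem : Ls c₀ ∈ N := ⟨c₀, by
      change Lr c₀ = 0
      rw [Fintype.linearCombination_apply]
      exact hc₀, rfl⟩
    have h1 := hU' _ hmem
    have h2 : I.presheaf.map (homOfLE (X.basicOpen_le f)).op (Ls c₀) = 0 := by
      have e : (homOfLE (X.basicOpen_le f)).op = (homOfLE hU'U).op ≫ (homOfLE hfU').op := rfl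
      rw [e, I.presheaf.map_comp, ConcreteCategory.comp_apply, h1, map_zero]
    change I.presheaf.map (homOfLE (X.basicOpen_le f)).op (Fintype.linearCombination Γ(X, U) s c₀) = 0 at h2
    rw [Fintype.linearCombination_apply, map_sum] at h2
    refine Eq.trans (Finset.sum_congr rfl fun i _ => ?_) h2
    rw [Scheme.Modules.map_smul]
    rfl
  obtain ⟨m, hm⟩ := exists_smul_eq_of_isAffineOpen I (hUaff.basicOpen f) r' s' hrel
  refine ⟨LinearMap.toSpanSingleton _ _ (I.presheaf.germ (X.basicOpen f) x hxf m), ?_⟩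
  intro b hb
  rw [LinearMap.toSpanSingleton_apply]
  have hb' : b ∈ Submodule.span (X.presheaf.stalk x) (Set.range a) := ha ▸ hb
  obtain ⟨c, hc⟩ := (Submodule.mem_span_range_iff_exists_fun _).mp hb'
  have e1 : (⟨b, hb⟩ : 𝔞) = ∑ i, c i • (⟨a i, ham i⟩ : 𝔞) := by
    apply Subtype.ext
    rw [Submodule.coe_sum]
    exact hc.symm
  rw [e1, map_sum, ← hc, Finset.sum_smul]
  refine Finset.sum_congr rfl fun i _ => ?_
  rw [map_smul, smul_assoc]
  congr 1
  have h3 : I.presheaf.germ (X.basicOpen f) x hxf (s' i) = g ⟨a i, ham i⟩ :=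
    (TopCat.Presheaf.germ_res_apply I.presheaf (homOfLE (X.basicOpen_le f)) x hxf (s i)).trans (hs i)
  have h4 : X.presheaf.germ (X.basicOpen f) x hxf (r' i) = a i :=
    (TopCat.Presheaf.germ_res_apply X.presheaf (homOfLE (X.basicOpen_le f)) x hxf (r i)).trans (hr i)
  rw [← h3, ← hm i, Groth.Agent.Lib.Helper2.QCoh.germ_smul, h4]

end Main

end Groth.Agent.Lib.R2H2.InjStalk
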