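import Groth.Agent.S0027
import Groth.Agent.Lib.R2H2GenMono
import Groth.Agent.Lib.Helper2FinPushFP
import Groth.Agent.Lib.R2H2KcohLoc
set_option backward.isDefEq.respectTransparency.types false

/-!
# Filtrations of coherent modules by direct images of ideals of integral closed subschemes
(helper2, round 2; S0026)

* `IsIdealPush Q` : `Q ≅ i_* I` for a nonzero quasi-coherent ideal `I` of an integral closed
  subscheme `i : Z ⟶ X`.
* `HasFilt M` : inductive predicate, `M` has a finite filtration with graded pieces `IsIdealPush`.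
* `HasFilt.ext` : closed under extensions.
* `hasFilt_of_isCoh` : every coherent module on a Noetherian scheme has such a filtration.
* `exists_chain` : the filtration as a chain indexed by `ℕ`.
-/

set_option autoImplicit false
set_option linter.unusedSectionVars false
set_option linter.style.haveILetI false
universe u
open CategoryTheory CategoryTheory.Limits AlgebraicGeometry TopologicalSpace Opposite ZeroObject

noncomputable section

namespace Groth.Agent.Lib.R2H2.IntFilt

section abelian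

variable {C : Type*} [Category C] [Abelian C]

/-- Refinement of a short exact sequence `0 → X₁ → X₂ → X₃ → 0` along a subobject `M' ↪ X₃`:
the kernel `X₂'` of `X₂ → X₃ → X₃/M'` is an extension of `M'` by `X₁`. -/
theorem shortExact_refine {X₁ X₂ X₃ M' : C} (f : X₁ ⟶ X₂) (g : X₂ ⟶ X₃) (w : f ≫ g = 0)
    (hS : (ShortComplex.mk f g w).ShortExact) (φ : M' ⟶ X₃) [Mono φ] :
    ∃ (a : X₁ ⟶ kernel (g ≫ cokernel.π φ)) (b : kernel (g ≫ cokernel.π φ) ⟶ M')
      (w' : a ≫ b = 0), (ShortComplex.mk a b w').ShortExact := by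
  haveI : Mono f := hS.mono_f
  haveI : Epi g := hS.epi_g
  let p := g ≫ cokernel.π φ
  have hfp : f ≫ p = 0 := by
    change f ≫ g ≫ cokernel.π φ = 0
    rw [← Category.assoc, w, zero_comp]
  let a : X₁ ⟶ kernel p := kernel.lift p f hfp
  have ha : a ≫ kernel.ι p = f := kernel.lift_ι _ _ _
  have hb0 : (kernel.ι p ≫ g) ≫ cokernel.π φ = 0 := by
    rw [Category.assoc]
    exact kernel.condition p
  let b : kernel p ⟶ M' := Abelian.monoLift φ (kernel.ι p ≫ g) hb0
  have hb : b ≫ φ = kernel.ι p ≫ g := Abelian.monoLift_comp φ (kernel.ι p ≫ g) hb0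
  have w' : a ≫ b = 0 := by
    rw [← cancel_mono φ, Category.assoc, hb, ← Category.assoc, ha, w, zero_comp]
  refine ⟨a, b, w', ?_⟩
  haveI : Mono a := by
    haveI : Mono (a ≫ kernel.ι p) := by rw [ha]; infer_instance
    exact mono_of_mono a (kernel.ι p)
  -- `b` is epi, as a pullback of `g`
  have hepi : Epi b := by
    have hlim : IsLimit (PullbackCone.mk (kernel.ι p) b hb.symm) := by
      refine PullbackCone.IsLimit.mk hb.symm
        (fun s => kernel.lift p s.fst (by
          change s.fst ≫ g ≫ cokernel.π φ = 0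
          rw [← Category.assoc, s.condition, Category.assoc, cokernel.condition, comp_zero]))
        (fun s => kernel.lift_ι _ _ _) (fun s => ?_) (fun s m h1 _ => ?_)
      · rw [← cancel_mono φ, Category.assoc, hb, ← Category.assoc, kernel.lift_ι]
        exact s.condition
      · rw [← cancel_mono (kernel.ι p), h1, kernel.lift_ι]
    exact Abelian.epi_snd_of_isLimit g φ hlim
  -- `a` is a kernel of `b`
  have hker : IsLimit (KernelFork.ofι a w') := by
    refine KernelFork.IsLimit.ofι' a w' (fun {W} k hk => ?_)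
    have h1 : (k ≫ kernel.ι p) ≫ g = 0 := by
      rw [Category.assoc, ← hb, ← Category.assoc, hk, zero_comp]
    obtain ⟨l, hl⟩ := KernelFork.IsLimit.lift' hS.fIsKernel (k ≫ kernel.ι p) h1
    refine ⟨l, ?_⟩
    rw [← cancel_mono (kernel.ι p), Category.assoc, ha]
    exact hl
  exact ShortComplex.ShortExact.mk'
    (ShortComplex.exact_of_f_is_kernel (ShortComplex.mk a b w') hker) ‹_› hepi

/-- for an epimorphism `p`, the cokernel of its kernel is its target -/
def cokernelKernelIso {A Q : C} (p : A ⟶ Q) [Epi p] : cokernel (kernel.ι p) ≅ Q :=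
  (colimit.isColimit (parallelPair (kernel.ι p) 0)).coconePointUniqueUpToIso
    (Abelian.epiIsCokernelOfKernel (limit.cone (parallelPair p 0)) (limit.isLimit _))

end abelian

variable {X : Scheme.{u}}

/-- `Q` is the direct image of a nonzero quasi-coherent ideal of an integral closed subscheme -/
def IsIdealPush (Q : X.Modules) : Prop :=
  ∃ (Z : Scheme.{u}) (i : Z ⟶ X), IsClosedImmersion i ∧ IsIntegral Z ∧
    ∃ (I : Z.Modules) (ι : I ⟶ Coh.structureModule Z), Mono ι ∧ Coh.IsQCoh I ∧ ¬ IsZero I ∧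
      Nonempty (Q ≅ (Coh.push i).obj I)

theorem IsIdealPush.of_iso {Q Q' : X.Modules} (e : Q ≅ Q') (h : IsIdealPush Q) :
    IsIdealPush Q' := by
  obtain ⟨Z, i, h1, h2, I, ι, h3, h4, h5, ⟨e'⟩⟩ := h
  exact ⟨Z, i, h1, h2, I, ι, h3, h4, h5, ⟨e.symm ≪≫ e'⟩⟩

/-- `M` has a finite filtration by coherent submodules whose graded pieces are direct images of
nonzero ideals of integral closed subschemes -/
inductive HasFilt : X.Modules → Prop
  | zero (M : X.Modules) : IsZero M → HasFilt M
  | step (M' M : X.Modules) (φ : M' ⟶ M) : Mono φ → HasFilt M' → Coh.IsCoh M →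
      IsIdealPush (cokernel φ) → HasFilt M

theorem HasFilt.isCoh {M : X.Modules} (h : HasFilt M) : Coh.IsCoh M := by
  cases h with
  | zero _ h0 => exact Groth.Agent.Lib.R2H2.KcohLoc.isCoh_of_isZero h0
  | step _ _ _ _ _ hc _ => exact hc

theorem HasFilt.of_iso {M N : X.Modules} (e : M ≅ N) (h : HasFilt M) : HasFilt N := by
  cases h with
  | zero _ h0 => exact HasFilt.zero _ (h0.of_iso e.symm)
  | step M' _ φ hm h' hc hq =>
    haveI := hm
    exact HasFilt.step M' N (φ ≫ e.hom) inferInstance h'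
      (Groth.Agent.Lib.R2H2.PdSheaf.isCoh_of_iso e hc)
      (hq.of_iso (cokernelCompIsIso φ e.hom).symm)

/-- closure under extensions -/
theorem HasFilt.ext [IsNoetherian X] {X₃ : X.Modules} (h3 : HasFilt X₃) :
    ∀ {X₁ X₂ : X.Modules} (f : X₁ ⟶ X₂) (g : X₂ ⟶ X₃) (w : f ≫ g = 0)
      (_ : (ShortComplex.mk f g w).ShortExact) (_ : HasFilt X₁) (_ : Coh.IsCoh X₂),
      HasFilt X₂ := by
  induction h3 with
  | zero M h0 =>
    intro X₁ X₂ f g w hS h1 c2
    haveI : IsIso f := (hS.isIso_f_iff).2 h0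
    exact h1.of_iso (asIso f)
  | step M' M φ hm h' hc hq ih =>
    intro X₁ X₂ f g w hS h1 c2
    haveI := hm
    haveI : Epi g := hS.epi_g
    obtain ⟨a, b, w', hS'⟩ := shortExact_refine f g w hS φ
    have cQ : Coh.IsCoh (cokernel φ) :=
      Groth.Agent.Lib.R2H2.NilFilt.isCoh_cokernel h'.isCoh hc φ
    have cK : Coh.IsCoh (kernel (g ≫ cokernel.π φ)) :=
      Groth.Agent.Lib.R2H2.PdSheaf.isCoh_kernel c2 cQ _
    have hK : HasFilt (kernel (g ≫ cokernel.π φ)) := ih a b w' hS' h1 cK
    exact HasFilt.step _ X₂ (kernel.ι (g ≫ cokernel.π φ)) inferInstance hK c2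
      (hq.of_iso (cokernelKernelIso (g ≫ cokernel.π φ)).symm)

/-- the base case: direct images of ideals -/
theorem hasFilt_push [IsNoetherian X] {Z : Scheme.{u}} (i : Z ⟶ X) [IsClosedImmersion i]
    [IsIntegral Z] (I : Z.Modules) (ι : I ⟶ Coh.structureModule Z) [Mono ι]
    (hI : Coh.IsQCoh I) : HasFilt ((Coh.push i).obj I) := by
  by_cases h0 : IsZero I
  · exact HasFilt.zero _ ((Scheme.Modules.pushforward i).map_isZero h0)
  · haveI : IsNoetherian Z := Groth.Agent.Lib.R2H2.GenMono.isNoetherian_of_isClosedImmersion i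
    haveI : I.IsQuasicoherent := hI
    have cO := Groth.Agent.Lib.H9ZarLift.isCoh_structureModule Z
    haveI : (Coh.structureModule Z).IsQuasicoherent := cO.1
    haveI : SheafOfModules.IsFiniteType (R := Z.ringCatSheaf) (Coh.structureModule Z) := cO.2
    have hft : SheafOfModules.IsFiniteType (R := Z.ringCatSheaf) I :=
      Groth.Agent.Lib.Helper23.FinType.isFiniteType_of_mono ι
    have cP : Coh.IsCoh ((Scheme.Modules.pushforward i).obj I) :=
      ⟨Groth.Agent.Lib.Helper23.QCohLocal.isQuasicoherent_pushforward i I,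
        (Groth.Agent.Lib.Helper2.FinPushFP.isFiniteType_pushforward_iff i I).1 hft⟩
    refine HasFilt.step (0 : X.Modules) _ 0 inferInstance (HasFilt.zero _ (isZero_zero _)) cP ?_
    exact ⟨Z, i, inferInstance, inferInstance, I, ι, inferInstance, hI, h0,
      ⟨cokernelZeroIsoTarget⟩⟩

/-- every coherent module on a Noetherian scheme has a filtration -/
theorem hasFilt_of_isCoh [IsNoetherian X] (M : X.Modules) (hM : Coh.IsCoh M) : HasFilt M := by
  rcases isEmpty_or_nonempty X with hX | hX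
  · haveI : M.IsQuasicoherent := hM.1
    refine HasFilt.zero _ (Groth.Agent.Lib.R2H2.SubSec.isZero_of_sections M ∅ ?_ ?_ ?_)
    · intro U hU; exact hU.elim
    · intro x; exact (hX.false x).elim
    · intro U hU; exact hU.elim
  · refine Groth.Agent.S0027.result X HasFilt (fun M N ⟨e⟩ h => h.of_iso e)
      (fun S hS c1 c2 c3 h1 h3 => h3.ext S.f S.g S.zero hS h1 c2)
      (fun Z i hi hZ I ι hι hI => ?_) M hM
    haveI := hi
    haveI := hZ
    haveI := hι
    exact hasFilt_push i I ι hI

/-! ### chains -/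

/-- prepend an object to a sequence -/
def consObj (M : X.Modules) (G : ℕ → X.Modules) : ℕ → X.Modules
  | 0 => M
  | k + 1 => G k

/-- prepend a map to a descending chain -/
def consMap (M : X.Modules) (G : ℕ → X.Modules) (ψ : ∀ k, G (k + 1) ⟶ G k) (t : G 0 ⟶ M) :
    ∀ k, consObj M G (k + 1) ⟶ consObj M G k
  | 0 => t
  | k + 1 => ψ k

/-- descending chain version -/
theorem HasFilt.exists_desc {M : X.Modules} (h : HasFilt M) :
    ∃ (m : ℕ) (G : ℕ → X.Modules) (ψ : ∀ k, G (k + 1) ⟶ G k), IsZero (G m) ∧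
      Nonempty (G 0 ≅ M) ∧ (∀ k ≤ m, Coh.IsCoh (G k)) ∧
      ∀ k < m, Mono (ψ k) ∧ IsIdealPush (cokernel (ψ k)) := by
  induction h with
  | zero M h0 =>
    exact ⟨0, fun _ => M, fun _ => 𝟙 M, h0, ⟨Iso.refl _⟩,
      fun _ _ => Groth.Agent.Lib.R2H2.KcohLoc.isCoh_of_isZero h0, fun k hk => (Nat.not_lt_zero k hk).elim⟩
  | step M' M φ hm h' hc hq ih =>
    obtain ⟨m, G, ψ, hz, ⟨e⟩, hcoh, hstep⟩ := ih
    haveI := hm
    refine ⟨m + 1, consObj M G, consMap M G ψ (e.hom ≫ φ), hz, ⟨Iso.refl _⟩, ?_, ?_⟩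
    · intro k hk
      cases k with
      | zero => exact hc
      | succ k => exact hcoh k (by omega)
    · intro k hk
      cases k with
      | zero =>
        refine ⟨inferInstanceAs (Mono (e.hom ≫ φ)), ?_⟩
        exact hq.of_iso (cokernelEpiComp e.hom φ).symm
      | succ k => exact hstep k (by omega)

/-- the chain indexed by `ℕ`, ascending -/
theorem HasFilt.exists_chain {M : X.Modules} (h : HasFilt M) :
    ∃ (m : ℕ) (F : ℕ → X.Modules) (φ : (j : ℕ) → (F j ⟶ F (j + 1))),
      IsZero (F 0) ∧ Nonempty (F m ≅ M) ∧ (∀ j ≤ m, Coh.IsCoh (F j)) ∧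
      ∀ j < m, Mono (φ j) ∧ IsIdealPush (cokernel (φ j)) := by
  obtain ⟨m, G, ψ, hz, ⟨e⟩, hcoh, hstep⟩ := h.exists_desc
  refine ⟨m, fun j => G (m - j), fun j =>
    if h : j < m then
      eqToHom (congrArg G (by omega : m - j = (m - (j + 1)) + 1)) ≫ ψ (m - (j + 1))
    else eqToHom (congrArg G (by omega : m - j = m - (j + 1))), ?_, ?_, ?_, ?_⟩
  · exact hz
  · exact ⟨eqToIso (congrArg G (Nat.sub_self m)) ≪≫ e⟩
  · intro j _
    exact hcoh (m - j) (Nat.sub_le _ _)
  · intro j hj
    obtain ⟨h1, h2⟩ := hstep (m - (j + 1)) (by omega)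
    haveI := h1
    simp only [dif_pos hj]
    exact ⟨inferInstance, h2.of_iso (cokernelEpiComp _ _).symm⟩

end Groth.Agent.Lib.R2H2.IntFilt
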