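import Mathlib

/-!
# Abstract Koszul complexes in a preadditive category (helper2, round 2)

`KData 𝒟 r`: objects `G i`, commuting maps `X l i : G i ⟶ G (i+1)` (`l : Fin r`), objects `K i` with
"biproduct" structure maps `inj i S`, `prj i S` indexed by the subsets `S` of `Fin r` (those of
cardinality `≠ i` being zero).  The Koszul differential `d i : K i ⟶ K (i+1)` has components
`± X l i` from `S` to `insert l S`.  We prove `d ≫ d = 0`, and that if some `X j i` are all invertible
the complex is contractible; `KData.map` transports along additive functors, so that we obtain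
exactness of the image under any additive functor `Φ` to an abelian category with `Φ (X j i)` iso.
-/

set_option autoImplicit false
universe v v' u u'

namespace Groth.Agent.Lib.R2H2.KoszulAbs

open CategoryTheory CategoryTheory.Limits

section Sign

variable {r : ℕ}

/-- the Koszul sign -/
def eps (l : Fin r) (S : Finset (Fin r)) : ℤ := (-1) ^ (S.filter (· < l)).card

lemma eps_mul_self (l : Fin r) (S : Finset (Fin r)) : eps l S * eps l S = 1 := by
  unfold eps
  rw [← mul_pow]
  norm_num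

lemma eps_empty (l : Fin r) : eps l ∅ = 1 := by
  unfold eps
  simp

lemma eps_insert (l m : Fin r) (S : Finset (Fin r)) (hm : m ∉ S) :
    eps l (insert m S) = if m < l then - eps l S else eps l S := by
  unfold eps
  rw [Finset.filter_insert]
  split_ifs with h
  · rw [Finset.card_insert_of_notMem (by simp [hm]), pow_succ]
    ring
  · rfl

lemma eps_swap (l m : Fin r) (hlm : l ≠ m) (S : Finset (Fin r)) (hl : l ∉ S) (hm : m ∉ S) :
    eps l S * eps m (insert l S) + eps m S * eps l (insert m S) = 0 := by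
  rw [eps_insert m l S hl, eps_insert l m S hm]
  rcases lt_or_gt_of_ne hlm with h | h
  · rw [if_pos h, if_neg (not_lt.2 h.le)]
    ring
  · rw [if_neg (not_lt.2 h.le), if_pos h]
    ring

lemma eps_swap' (l m : Fin r) (hlm : l ≠ m) (S : Finset (Fin r)) (hl : l ∉ S) (hm : m ∉ S) :
    eps l (insert m S) * eps m (insert l S) + eps m S * eps l S = 0 := by
  rw [eps_insert m l S hl, eps_insert l m S hm]
  rcases lt_or_gt_of_ne hlm with h | h
  · rw [if_pos h, if_neg (not_lt.2 h.le)]
    ring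
  · rw [if_neg (not_lt.2 h.le), if_pos h]
    ring

end Sign

variable (𝒟 : Type u) [Category.{v} 𝒟] [Preadditive 𝒟]

/-- Koszul data -/
structure KData (r : ℕ) where
  G : ℕ → 𝒟
  X : Fin r → ∀ i : ℕ, G i ⟶ G (i + 1)
  comm : ∀ (l m : Fin r) (i : ℕ), X l i ≫ X m (i + 1) = X m i ≫ X l (i + 1)
  K : ℕ → 𝒟
  inj : ∀ i : ℕ, Finset (Fin r) → (G i ⟶ K i)
  prj : ∀ i : ℕ, Finset (Fin r) → (K i ⟶ G i)
  inj_zero : ∀ (i : ℕ) (S : Finset (Fin r)), S.card ≠ i → inj i S = 0
  prj_zero : ∀ (i : ℕ) (S : Finset (Fin r)), S.card ≠ i → prj i S = 0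
  inj_prj : ∀ (i : ℕ) (S T : Finset (Fin r)),
    inj i S ≫ prj i T = if S = T ∧ S.card = i then 𝟙 (G i) else 0
  total : ∀ i : ℕ, ∑ S : Finset (Fin r), prj i S ≫ inj i S = 𝟙 (K i)

variable {𝒟}

namespace KData

variable {r : ℕ} (D : KData 𝒟 r)

lemma inj_prj_assoc (i : ℕ) (S T : Finset (Fin r)) {Z : 𝒟} (h : D.G i ⟶ Z) :
    D.inj i S ≫ D.prj i T ≫ h = if S = T ∧ S.card = i then h else 0 := by
  rw [← Category.assoc, D.inj_prj]
  split_ifs
  · rw [Category.id_comp]
  · rw [zero_comp]

/-- a "monomial matrix" operator -/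
def op (i j : ℕ) (a : Finset (Fin r) → Finset (Fin r))
    (f : Finset (Fin r) → (D.G i ⟶ D.G j)) : D.K i ⟶ D.K j :=
  ∑ S : Finset (Fin r), D.prj i S ≫ f S ≫ D.inj j (a S)

lemma op_comp (i j k : ℕ) (a b : Finset (Fin r) → Finset (Fin r))
    (f : Finset (Fin r) → (D.G i ⟶ D.G j)) (g : Finset (Fin r) → (D.G j ⟶ D.G k))
    (h : ∀ S : Finset (Fin r), S.card = i → (a S).card = j ∨ f S = 0) :
    D.op i j a f ≫ D.op j k b g = D.op i k (fun S => b (a S)) (fun S => f S ≫ g (a S)) := by
  unfold op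
  rw [Preadditive.sum_comp]
  refine Finset.sum_congr rfl fun S _ => ?_
  rw [Preadditive.comp_sum]
  rw [Finset.sum_eq_single (a S)]
  · by_cases hS : S.card = i
    · rcases h S hS with h1 | h1
      · simp only [Category.assoc]
        rw [D.inj_prj_assoc, if_pos ⟨rfl, h1⟩]
      · simp only [Category.assoc]
        rw [h1]
        simp only [zero_comp, comp_zero]
    · rw [D.prj_zero i S hS]
      simp only [zero_comp]
  · intro T _ hT
    simp only [Category.assoc]
    rw [D.inj_prj_assoc, if_neg (fun h => hT h.1.symm)]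
    simp only [comp_zero]
  · intro h
    exact absurd (Finset.mem_univ _) h

lemma op_congr (i j : ℕ) (a a' : Finset (Fin r) → Finset (Fin r))
    (f f' : Finset (Fin r) → (D.G i ⟶ D.G j))
    (h : ∀ S : Finset (Fin r), S.card = i → f S = f' S ∧ (a S = a' S ∨ f S = 0)) :
    D.op i j a f = D.op i j a' f' := by
  unfold op
  refine Finset.sum_congr rfl fun S _ => ?_
  by_cases hS : S.card = i
  · obtain ⟨h1, h2⟩ := h S hS
    rcases h2 with h2 | h2
    · rw [h1, h2]
    · rw [← h1, h2]
      simp only [zero_comp, comp_zero]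
  · rw [D.prj_zero i S hS]
    simp only [zero_comp]

lemma op_add (i j : ℕ) (a : Finset (Fin r) → Finset (Fin r))
    (f f' : Finset (Fin r) → (D.G i ⟶ D.G j)) :
    D.op i j a f + D.op i j a f' = D.op i j a (fun S => f S + f' S) := by
  unfold op
  rw [← Finset.sum_add_distrib]
  refine Finset.sum_congr rfl fun S _ => ?_
  rw [Preadditive.add_comp, Preadditive.comp_add]

lemma op_zero (i j : ℕ) (a : Finset (Fin r) → Finset (Fin r)) :
    D.op i j a (fun _ => 0) = 0 := by
  unfold op
  refine Finset.sum_eq_zero fun S _ => ?_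
  simp only [zero_comp, comp_zero]

lemma op_id (i : ℕ) : D.op i i (fun S => S) (fun _ => 𝟙 _) = 𝟙 (D.K i) := by
  unfold op
  simp only [Category.id_comp]
  exact D.total i

/-- exterior multiplication by the `l`-th basis vector times `X l` -/
def eCoef (l : Fin r) (i : ℕ) (S : Finset (Fin r)) : D.G i ⟶ D.G (i + 1) :=
  if l ∈ S then 0 else eps l S • D.X l i

def e (l : Fin r) (i : ℕ) : D.K i ⟶ D.K (i + 1) :=
  D.op i (i + 1) (fun S => insert l S) (D.eCoef l i)

/-- the Koszul differential -/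
def d (i : ℕ) : D.K i ⟶ D.K (i + 1) := ∑ l : Fin r, D.e l i

lemma eCoef_card (l : Fin r) (i : ℕ) (S : Finset (Fin r)) (hS : S.card = i) :
    (insert l S).card = i + 1 ∨ D.eCoef l i S = 0 := by
  by_cases hl : l ∈ S
  · right
    unfold eCoef
    rw [if_pos hl]
  · left
    rw [Finset.card_insert_of_notMem hl, hS]

lemma e_comp_e (l m : Fin r) (i : ℕ) :
    D.e l i ≫ D.e m (i + 1) + D.e m i ≫ D.e l (i + 1) = 0 := by
  unfold e
  rw [D.op_comp i (i + 1) (i + 1 + 1) _ _ _ _ (D.eCoef_card l i),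
    D.op_comp i (i + 1) (i + 1 + 1) _ _ _ _ (D.eCoef_card m i)]
  have ha : (fun S : Finset (Fin r) => insert l (insert m S)) =
      fun S => insert m (insert l S) := funext fun S => Finset.insert_comm l m S
  rw [ha, D.op_add]
  rw [← D.op_zero i (i + 1 + 1) (fun S => insert m (insert l S))]
  congr 1
  funext S
  unfold eCoef
  by_cases hlm : l = m
  · subst hlm
    rw [if_pos (Finset.mem_insert_self l S)]
    simp only [comp_zero, add_zero]
  by_cases hl : l ∈ S
  · rw [if_pos hl, if_pos (Finset.mem_insert_of_mem hl)]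
    simp only [zero_comp, comp_zero, add_zero]
  by_cases hm : m ∈ S
  · rw [if_pos hm, if_pos (Finset.mem_insert_of_mem hm)]
    simp only [zero_comp, comp_zero, add_zero]
  have hm' : m ∉ insert l S := by
    rw [Finset.mem_insert]
    rintro (h | h)
    · exact hlm h.symm
    · exact hm h
  have hl' : l ∉ insert m S := by
    rw [Finset.mem_insert]
    rintro (h | h)
    · exact hlm h
    · exact hl h
  rw [if_neg hl, if_neg hm, if_neg hm', if_neg hl']
  rw [Preadditive.zsmul_comp, Preadditive.comp_zsmul, Preadditive.zsmul_comp,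
    Preadditive.comp_zsmul, smul_smul, smul_smul, D.comm m l i, ← add_smul]
  rw [eps_swap l m hlm S hl hm, zero_smul]

lemma e_comp_self (l : Fin r) (i : ℕ) : D.e l i ≫ D.e l (i + 1) = 0 := by
  unfold e
  rw [D.op_comp i (i + 1) (i + 1 + 1) _ _ _ _ (D.eCoef_card l i)]
  rw [← D.op_zero i (i + 1 + 1) (fun S => insert l (insert l S))]
  congr 1
  funext S
  unfold eCoef
  rw [if_pos (Finset.mem_insert_self l S)]
  simp only [comp_zero]

lemma d_comp_d (i : ℕ) : D.d i ≫ D.d (i + 1) = 0 := by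
  unfold d
  rw [Preadditive.sum_comp]
  simp_rw [Preadditive.comp_sum]
  rw [← Finset.sum_product']
  refine Finset.sum_involution (fun p _ => (p.2, p.1)) ?_ ?_ ?_ ?_
  · intro p _
    exact D.e_comp_e p.1 p.2 i
  · intro p _ hp hpp
    apply hp
    have h1 : p.2 = p.1 := congrArg Prod.fst hpp
    rw [h1]
    exact D.e_comp_self p.1 i
  · intro p _
    exact Finset.mem_univ _
  · intro p _
    rfl

lemma e_comp_prj (l : Fin r) (i : ℕ) (T : Finset (Fin r)) (hT : T.card = i + 1) :
    D.e l i ≫ D.prj (i + 1) T =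
      if l ∈ T then eps l (T.erase l) • (D.prj i (T.erase l) ≫ D.X l i) else 0 := by
  unfold e op
  rw [Preadditive.sum_comp]
  by_cases hl : l ∈ T
  · rw [if_pos hl, Finset.sum_eq_single (T.erase l)]
    · simp only [Category.assoc]
      rw [D.inj_prj, if_pos ⟨Finset.insert_erase hl, by rw [Finset.insert_erase hl]; exact hT⟩,
        Category.comp_id]
      unfold eCoef
      rw [if_neg (Finset.notMem_erase l T), Preadditive.comp_zsmul]
    · intro S _ hS
      simp only [Category.assoc]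
      rw [D.inj_prj]
      by_cases hlS : l ∈ S
      · unfold eCoef
        rw [if_pos hlS]
        simp only [zero_comp, comp_zero]
      · rw [if_neg]
        · simp only [comp_zero]
        · rintro ⟨h1, _⟩
          apply hS
          rw [← h1, Finset.erase_insert hlS]
    · intro h
      exact absurd (Finset.mem_univ _) h
  · rw [if_neg hl]
    refine Finset.sum_eq_zero fun S _ => ?_
    simp only [Category.assoc]
    rw [D.inj_prj, if_neg]
    · simp only [comp_zero]
    · rintro ⟨h1, _⟩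
      exact hl (h1 ▸ Finset.mem_insert_self l S)

lemma d_comp_prj (i : ℕ) (T : Finset (Fin r)) (hT : T.card = i + 1) :
    D.d i ≫ D.prj (i + 1) T =
      ∑ l : Fin r, if l ∈ T then eps l (T.erase l) • (D.prj i (T.erase l) ≫ D.X l i) else 0 := by
  unfold d
  rw [Preadditive.sum_comp]
  exact Finset.sum_congr rfl fun l _ => D.e_comp_prj l i T hT

section Contraction

variable (j : Fin r) (Y : ∀ i : ℕ, D.G (i + 1) ⟶ D.G i)

/-- coefficient of the contraction -/
def cCoef (i : ℕ) (T : Finset (Fin r)) : D.G (i + 1) ⟶ D.G i :=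
  if j ∈ T then eps j (T.erase j) • Y i else 0

/-- the contraction -/
def c (i : ℕ) : D.K (i + 1) ⟶ D.K i :=
  D.op (i + 1) i (fun T => T.erase j) (D.cCoef j Y i)

lemma cCoef_card (i : ℕ) (T : Finset (Fin r)) (hT : T.card = i + 1) :
    (T.erase j).card = i ∨ D.cCoef j Y i T = 0 := by
  by_cases hj : j ∈ T
  · left
    rw [Finset.card_erase_of_mem hj, hT]
    rfl
  · right
    unfold cCoef
    rw [if_neg hj]

variable (hY1 : ∀ i : ℕ, D.X j i ≫ Y i = 𝟙 _) (hY2 : ∀ i : ℕ, Y i ≫ D.X j i = 𝟙 _)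

include hY1 hY2 in
lemma commY (l : Fin r) (i : ℕ) : D.X l (i + 1) ≫ Y (i + 1) = Y i ≫ D.X l i := by
  calc D.X l (i + 1) ≫ Y (i + 1) = (Y i ≫ D.X j i) ≫ D.X l (i + 1) ≫ Y (i + 1) := by
        rw [hY2, Category.id_comp]
    _ = Y i ≫ (D.X j i ≫ D.X l (i + 1)) ≫ Y (i + 1) := by
        simp only [Category.assoc]
    _ = Y i ≫ (D.X l i ≫ D.X j (i + 1)) ≫ Y (i + 1) := by rw [D.comm j l i]
    _ = Y i ≫ D.X l i := by
        rw [Category.assoc, hY1, Category.comp_id]

/-- the coefficient computation for `e l ≫ c` -/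
lemma coef_ec (l : Fin r) (i : ℕ) (S : Finset (Fin r)) :
    D.eCoef l i S ≫ D.cCoef j Y i (insert l S) =
      if l ∈ S then 0 else
        if j ∈ insert l S then (eps l S * eps j ((insert l S).erase j)) • (D.X l i ≫ Y i)
        else 0 := by
  unfold eCoef cCoef
  by_cases hl : l ∈ S
  · rw [if_pos hl, if_pos hl, zero_comp]
  · rw [if_neg hl, if_neg hl]
    by_cases hj : j ∈ insert l S
    · rw [if_pos hj, if_pos hj, Preadditive.zsmul_comp, Preadditive.comp_zsmul, smul_smul]
    · rw [if_neg hj, if_neg hj, comp_zero]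

include hY1 hY2 in
lemma e_c_succ (l : Fin r) (i : ℕ) :
    D.e l (i + 1) ≫ D.c j Y (i + 1) + D.c j Y i ≫ D.e l i =
      if l = j then 𝟙 (D.K (i + 1)) else 0 := by
  unfold e c
  rw [D.op_comp (i + 1) (i + 1 + 1) (i + 1) _ _ _ _ (D.eCoef_card l (i + 1)),
    D.op_comp (i + 1) i (i + 1) _ _ _ _ (D.cCoef_card j Y i)]
  by_cases hlj : l = j
  · subst hlj
    rw [if_pos rfl]
    rw [D.op_congr (i + 1) (i + 1) (fun S => (insert l S).erase l) (fun S => S)
      (fun S => D.eCoef l (i + 1) S ≫ D.cCoef l Y (i + 1) (insert l S))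
      (fun S => if l ∈ S then 0 else 𝟙 _) ?_,
      D.op_congr (i + 1) (i + 1) (fun S => insert l (S.erase l)) (fun S => S)
      (fun S => D.cCoef l Y i S ≫ D.eCoef l i (S.erase l))
      (fun S => if l ∈ S then 𝟙 _ else 0) ?_, D.op_add]
    · rw [← D.op_id (i + 1)]
      congr 1
      funext S
      by_cases hl : l ∈ S
      · rw [if_pos hl, if_pos hl, zero_add]
      · rw [if_neg hl, if_neg hl, add_zero]
    · intro S _
      unfold cCoef eCoef
      by_cases hl : l ∈ S
      · rw [if_pos hl, if_pos hl, if_neg (Finset.notMem_erase l S)]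
        refine ⟨?_, Or.inl (Finset.insert_erase hl)⟩
        rw [Preadditive.zsmul_comp, Preadditive.comp_zsmul, smul_smul, eps_mul_self, one_smul,
          hY2]
      · rw [if_neg hl, if_neg hl]
        exact ⟨zero_comp, Or.inr zero_comp⟩
    · intro S _
      rw [D.coef_ec l Y l (i + 1) S]
      by_cases hl : l ∈ S
      · rw [if_pos hl, if_pos hl]
        exact ⟨rfl, Or.inr rfl⟩
      · rw [if_neg hl, if_neg hl, if_pos (Finset.mem_insert_self l S), Finset.erase_insert hl,
          eps_mul_self, one_smul, hY1]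
        exact ⟨rfl, Or.inl rfl⟩
  · rw [if_neg hlj]
    have ha : (fun S : Finset (Fin r) => (insert l S).erase j) =
        fun S => insert l (S.erase j) :=
      funext fun S => Finset.erase_insert_of_ne hlj
    rw [ha, D.op_add]
    rw [← D.op_zero (i + 1) (i + 1) (fun S => insert l (S.erase j))]
    congr 1
    funext S
    rw [D.coef_ec j Y l (i + 1) S]
    unfold cCoef eCoef
    by_cases hl : l ∈ S
    · have hl' : l ∈ S.erase j := Finset.mem_erase.2 ⟨hlj, hl⟩
      rw [if_pos hl, if_pos hl', comp_zero, add_zero]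
    · have hl' : l ∉ S.erase j := fun h => hl (Finset.mem_of_mem_erase h)
      rw [if_neg hl, if_neg hl']
      by_cases hj : j ∈ S
      · have hj' : j ∈ insert l S := Finset.mem_insert_of_mem hj
        rw [if_pos hj', if_pos hj, Finset.erase_insert_of_ne hlj,
          Preadditive.zsmul_comp, Preadditive.comp_zsmul, smul_smul,
          ← D.commY j Y hY1 hY2 l i, ← add_smul]
        have hS : S = insert j (S.erase j) := (Finset.insert_erase hj).symm
        have h1 : eps l S = eps l (insert j (S.erase j)) := by rw [← hS]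
        rw [h1, eps_swap' l j hlj (S.erase j) hl' (Finset.notMem_erase j S), zero_smul]
      · have hj' : j ∉ insert l S := by
          rw [Finset.mem_insert]
          rintro (h | h)
          · exact hlj h.symm
          · exact hj h
        rw [if_neg hj', if_neg hj, zero_comp, add_zero]

include hY1 in
lemma e_c_zero (l : Fin r) :
    D.e l 0 ≫ D.c j Y 0 = if l = j then 𝟙 (D.K 0) else 0 := by
  unfold e c
  rw [D.op_comp 0 (0 + 1) 0 _ _ _ _ (D.eCoef_card l 0)]
  rw [D.op_congr 0 0 (fun S => (insert l S).erase j) (fun S => S)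
    (fun S => D.eCoef l 0 S ≫ D.cCoef j Y 0 (insert l S))
    (fun _ => if l = j then 𝟙 _ else 0) ?_]
  · by_cases hlj : l = j
    · simp only [if_pos hlj]
      exact D.op_id 0
    · simp only [if_neg hlj]
      exact D.op_zero 0 0 _
  · intro S hS
    have hS0 : S = ∅ := Finset.card_eq_zero.1 hS
    subst hS0
    rw [D.coef_ec j Y l 0 ∅, if_neg (Finset.notMem_empty l)]
    by_cases hlj : l = j
    · subst hlj
      rw [if_pos (Finset.mem_insert_self l ∅), if_pos rfl,
        Finset.erase_insert (Finset.notMem_empty l), eps_mul_self, one_smul, hY1]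
      exact ⟨rfl, Or.inl rfl⟩
    · have hj' : j ∉ insert l (∅ : Finset (Fin r)) := by
        rw [Finset.mem_insert]
        rintro (h | h)
        · exact hlj h.symm
        · exact Finset.notMem_empty j h
      rw [if_neg hj', if_neg hlj]
      exact ⟨rfl, Or.inr rfl⟩

include hY1 hY2 in
theorem d_c_succ (i : ℕ) :
    D.d (i + 1) ≫ D.c j Y (i + 1) + D.c j Y i ≫ D.d i = 𝟙 (D.K (i + 1)) := by
  unfold d
  rw [Preadditive.sum_comp, Preadditive.comp_sum, ← Finset.sum_add_distrib]
  simp_rw [D.e_c_succ j Y hY1 hY2]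
  rw [Finset.sum_ite_eq' Finset.univ j]
  simp

include hY1 in
theorem d_c_zero : D.d 0 ≫ D.c j Y 0 = 𝟙 (D.K 0) := by
  unfold d
  rw [Preadditive.sum_comp]
  simp_rw [D.e_c_zero j Y hY1]
  rw [Finset.sum_ite_eq' Finset.univ j]
  simp

end Contraction

lemma isZero_K (i : ℕ) (hi : r < i) : IsZero (D.K i) := by
  rw [IsZero.iff_id_eq_zero, ← D.total i]
  refine Finset.sum_eq_zero fun S _ => ?_
  have hS : S.card ≠ i := by
    have h1 : S.card ≤ r := by
      have h2 := Finset.card_le_univ S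
      rw [Fintype.card_fin] at h2
      exact h2
    omega
  rw [D.prj_zero i S hS, zero_comp]

end KData

section Map

variable {ℰ : Type u'} [Category.{v'} ℰ] [Preadditive ℰ] {r : ℕ}

/-- transport Koszul data along an additive functor -/
def KData.map (D : KData 𝒟 r) (Φ : 𝒟 ⥤ ℰ) [Φ.Additive] : KData ℰ r where
  G i := Φ.obj (D.G i)
  X l i := Φ.map (D.X l i)
  comm l m i := by rw [← Φ.map_comp, ← Φ.map_comp, D.comm]
  K i := Φ.obj (D.K i)
  inj i S := Φ.map (D.inj i S)
  prj i S := Φ.map (D.prj i S)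
  inj_zero i S h := by rw [D.inj_zero i S h, Φ.map_zero]
  prj_zero i S h := by rw [D.prj_zero i S h, Φ.map_zero]
  inj_prj i S T := by
    rw [← Φ.map_comp, D.inj_prj]
    split_ifs
    · exact Φ.map_id _
    · exact Φ.map_zero _ _
  total i := by
    simp_rw [← Φ.map_comp]
    rw [← Φ.map_sum, D.total, Φ.map_id]

lemma KData.map_op (D : KData 𝒟 r) (Φ : 𝒟 ⥤ ℰ) [Φ.Additive] (i j : ℕ)
    (a : Finset (Fin r) → Finset (Fin r)) (f : Finset (Fin r) → (D.G i ⟶ D.G j)) :
    (D.map Φ).op i j a (fun S => Φ.map (f S)) = Φ.map (D.op i j a f) := by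
  unfold KData.op
  rw [Φ.map_sum]
  refine Finset.sum_congr rfl fun S _ => ?_
  rw [Φ.map_comp, Φ.map_comp]
  rfl

lemma KData.map_e (D : KData 𝒟 r) (Φ : 𝒟 ⥤ ℰ) [Φ.Additive] (l : Fin r) (i : ℕ) :
    (D.map Φ).e l i = Φ.map (D.e l i) := by
  unfold KData.e
  rw [← D.map_op Φ]
  congr 1
  funext S
  unfold KData.eCoef
  split_ifs
  · exact (Φ.map_zero _ _).symm
  · rw [Φ.map_zsmul]
    rfl

lemma KData.map_d (D : KData 𝒟 r) (Φ : 𝒟 ⥤ ℰ) [Φ.Additive] (i : ℕ) :
    (D.map Φ).d i = Φ.map (D.d i) := by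
  unfold KData.d
  rw [Φ.map_sum]
  refine Finset.sum_congr rfl fun l _ => ?_
  exact D.map_e Φ l i

end Map

section Exact

variable {ℰ : Type u'} [Category.{v'} ℰ] [Abelian ℰ] {r : ℕ}

/-- a short complex with a contraction is exact -/
lemma exact_of_contraction {A B C : ℰ} (f : A ⟶ B) (g : B ⟶ C) (w : f ≫ g = 0) (s : B ⟶ A)
    (t : C ⟶ B) (h : g ≫ t + s ≫ f = 𝟙 B) : (ShortComplex.mk f g w).Exact := by
  rw [ShortComplex.exact_iff_kernel_ι_comp_cokernel_π_zero]
  change kernel.ι g ≫ cokernel.π f = 0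
  have h1 : kernel.ι g ≫ cokernel.π f = kernel.ι g ≫ (g ≫ t + s ≫ f) ≫ cokernel.π f := by
    rw [h, Category.id_comp]
  rw [h1, Preadditive.add_comp, Preadditive.comp_add]
  simp

variable (D : KData 𝒟 r) (Φ : 𝒟 ⥤ ℰ) [Φ.Additive] (j : Fin r)

/-- the image of the Koszul complex under an additive functor inverting `X j` is exact -/
theorem exact_map (hiso : ∀ i : ℕ, IsIso (Φ.map (D.X j i))) (i : ℕ) :
    ((ShortComplex.mk (D.d i) (D.d (i + 1)) (D.d_comp_d i)).map Φ).Exact := by
  let Y : ∀ i : ℕ, (D.map Φ).G (i + 1) ⟶ (D.map Φ).G i := fun i =>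
    @inv _ _ _ _ (Φ.map (D.X j i)) (hiso i)
  have hY1 : ∀ i : ℕ, (D.map Φ).X j i ≫ Y i = 𝟙 _ := fun i =>
    @IsIso.hom_inv_id _ _ _ _ (Φ.map (D.X j i)) (hiso i)
  have hY2 : ∀ i : ℕ, Y i ≫ (D.map Φ).X j i = 𝟙 _ := fun i =>
    @IsIso.inv_hom_id _ _ _ _ (Φ.map (D.X j i)) (hiso i)
  have h := (D.map Φ).d_c_succ j Y hY1 hY2 i
  rw [D.map_d Φ, D.map_d Φ] at h
  exact exact_of_contraction (Φ.map (D.d i)) (Φ.map (D.d (i + 1))) _ _ _ h

theorem mono_map (hiso : ∀ i : ℕ, IsIso (Φ.map (D.X j i))) : Mono (Φ.map (D.d 0)) := by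
  let Y : ∀ i : ℕ, (D.map Φ).G (i + 1) ⟶ (D.map Φ).G i := fun i =>
    @inv _ _ _ _ (Φ.map (D.X j i)) (hiso i)
  have hY1 : ∀ i : ℕ, (D.map Φ).X j i ≫ Y i = 𝟙 _ := fun i =>
    @IsIso.hom_inv_id _ _ _ _ (Φ.map (D.X j i)) (hiso i)
  have h := (D.map Φ).d_c_zero j Y hY1
  rw [D.map_d Φ] at h
  exact (SplitMono.mk _ h).mono

end Exact

section OfBiproducts

variable {𝒞 : Type u} [Category.{v} 𝒞] [Preadditive 𝒞] [HasFiniteBiproducts 𝒞] {r : ℕ}

/-- subsets of cardinality `i` -/
abbrev Idx (r i : ℕ) : Type := {S : Finset (Fin r) // S.card = i}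

variable (G : ℕ → 𝒞) (X : Fin r → ∀ i : ℕ, G i ⟶ G (i + 1))
  (comm : ∀ (l m : Fin r) (i : ℕ), X l i ≫ X m (i + 1) = X m i ≫ X l (i + 1))

/-- Koszul data from finite biproducts -/
noncomputable def ofBiproducts : KData 𝒞 r where
  G := G
  X := X
  comm := comm
  K i := ⨁ (fun _ : Idx r i => G i)
  inj i S := if h : S.card = i then biproduct.ι (fun _ : Idx r i => G i) ⟨S, h⟩ else 0
  prj i S := if h : S.card = i then biproduct.π (fun _ : Idx r i => G i) ⟨S, h⟩ else 0
  inj_zero i S h := dif_neg h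
  prj_zero i S h := dif_neg h
  inj_prj i S T := by
    classical
    by_cases hS : S.card = i
    · by_cases hT : T.card = i
      · rw [dif_pos hS, dif_pos hT, biproduct.ι_π]
        by_cases hST : S = T
        · subst hST
          rw [dif_pos rfl, if_pos ⟨rfl, hS⟩]
          rfl
        · rw [dif_neg (fun h => hST (congrArg Subtype.val h)), if_neg (fun h => hST h.1)]
      · rw [dif_neg hT, comp_zero, if_neg]
        rintro ⟨rfl, _⟩
        exact hT hS
    · rw [dif_neg hS, zero_comp, if_neg (fun h => hS h.2)]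
  total i := by
    classical
    rw [← biproduct.total (f := fun _ : Idx r i => G i)]
    have h1 : ∀ x : Idx r i,
        biproduct.π (fun _ : Idx r i => G i) x ≫ biproduct.ι (fun _ : Idx r i => G i) x =
        (fun S : Finset (Fin r) =>
          (if h : S.card = i then biproduct.π (fun _ : Idx r i => G i) ⟨S, h⟩ else 0) ≫
          (if h : S.card = i then biproduct.ι (fun _ : Idx r i => G i) ⟨S, h⟩ else 0)) x.1 := by
      intro x
      dsimp only
      rw [dif_pos x.2, dif_pos x.2]
    simp_rw [h1]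
    rw [← Finset.sum_subtype (Finset.univ.filter fun S : Finset (Fin r) => S.card = i)
      (by simp) (fun S : Finset (Fin r) =>
          (if h : S.card = i then biproduct.π (fun _ : Idx r i => G i) ⟨S, h⟩ else 0) ≫
          (if h : S.card = i then biproduct.ι (fun _ : Idx r i => G i) ⟨S, h⟩ else 0)),
      Finset.sum_filter]
    refine Finset.sum_congr rfl fun S _ => ?_
    split_ifs with h
    · rfl
    · rw [zero_comp]

lemma ofBiproducts_K (i : ℕ) :
    (ofBiproducts G X comm).K i = ⨁ (fun _ : Idx r i => G i) := rfl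

end OfBiproducts

end Groth.Agent.Lib.R2H2.KoszulAbs
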