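import Groth.Agent.Lib.R2H2K0Gen
import Groth.Agent.Lib.R2H2KoszulAbs

/-!
# Alternating sums in `K0sub` for properties stable under kernels of epimorphisms (helper2, round 2)

* `alt_sum_nat` : for an exact sequence `0 → X 0 → X 1 → ⋯ → X N → 0` of objects with property `P`,
  where `P` is stable under isomorphisms and kernels of epimorphisms,
  `∑ (-1)^i [X i] = 0` in `K0sub P`;
* `KData.isoCoprod` : `D.K i ≅ (D.G i)^{C(r, i)}` for Koszul data;
* `koszul_relation` : `∑ (-1)^i C(r,i) [D.G i] = 0` for exact Koszul data.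
-/

set_option autoImplicit false
set_option linter.style.haveILetI false
universe v u w

namespace Groth.Agent.Lib.R2H2.K0Epi

open CategoryTheory CategoryTheory.Limits KZero ZeroObject
open Groth.Agent.Lib.R2H2.K0Gen Groth.Agent.Lib.R2H2.KoszulAbs

section AltSum

variable {A : Type u} [Category.{v} A] [Abelian A] (P : ObjectProperty A)

theorem telescope_nat {G : Type w} [AddCommGroup G] (z : ℕ → G) (N : ℕ) :
    ∑ i ∈ Finset.range (N + 1), (-1 : ℤ) ^ i • (z i + z (i + 1)) =
      z 0 + (-1 : ℤ) ^ N • z (N + 1) := by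
  induction N with
  | zero => simp
  | succ N ih =>
    rw [Finset.sum_range_succ, ih, pow_succ]
    simp only [smul_add, neg_smul, mul_neg, mul_one]
    abel

variable (hz : ∀ Z : A, IsZero Z → P Z)
  (hiso : ∀ {X Y : A}, (X ≅ Y) → P X → P Y)
  (hker : ∀ {X Y : A} (f : X ⟶ Y), Epi f → P X → P Y → P (kernel f))

include hz hiso hker in
/-- the alternating sum of the classes of the terms of a bounded exact sequence vanishes -/
theorem alt_sum_nat (X : ℕ → A) (d : ∀ i, X i ⟶ X (i + 1)) (w : ∀ i, d i ≫ d (i + 1) = 0)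
    (hex : ∀ i, (ShortComplex.mk (d i) (d (i + 1)) (w i)).Exact) (hmono : Mono (d 0)) (N : ℕ)
    (hzero : ∀ i, N < i → IsZero (X i)) (hP : ∀ i, P (X i)) :
    ∑ i ∈ Finset.range (N + 1), (-1 : ℤ) ^ i • clSub P (X i) = 0 := by
  let S : ℕ → ShortComplex A := fun i => ShortComplex.mk (d i) (d (i + 1)) (w i)
  have hSE : ∀ i, (kerS (S i)).ShortExact := fun i => kerS_shortExact (S i) (hex i)
  -- the kernels have property `P`
  have hPk : ∀ k i : ℕ, N ≤ i + k → P (kernel (d i)) := by
    intro k
    induction k with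
    | zero =>
      intro i hi
      have h0 : d i = 0 := (hzero (i + 1) (by omega)).eq_of_tgt _ _
      rw [h0]
      exact hiso (kernelZeroIsoSource (X := X i) (Y := X (i + 1))).symm (hP i)
    | succ k ih =>
      intro i hi
      have h1 : P (kernel (d (i + 1))) := ih (i + 1) (by omega)
      haveI : Epi (kerS (S i)).g := (hSE i).epi_g
      have h2 : P (kernel (kerS (S i)).g) := hker (kerS (S i)).g inferInstance (hP i) h1
      have e : kernel (d i) ≅ kernel (kerS (S i)).g := by
        have h3 := IsLimit.conePointUniqueUpToIso (hSE i).fIsKernel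
          (kernelIsKernel (kerS (S i)).g)
        exact h3
      exact hiso e.symm h2
  have hPk' : ∀ i, P (kernel (d i)) := fun i => hPk N i (by omega)
  let z : ℕ → K0sub P := fun i => clSub P (kernel (d i))
  have hrel : ∀ i, clSub P (X i) = z i + z (i + 1) := fun i =>
    clSub_shortExact P _ (hSE i) (hPk' i) (hP i) (hPk' (i + 1))
  have hz0 : z 0 = 0 := clSub_of_isZero P (isZero_kernel_of_mono _) (hPk' 0)
  have hz1 : z (N + 1) = 0 :=
    clSub_of_isZero P (IsZero.of_mono (kernel.ι (d (N + 1))) (hzero (N + 1) (by omega)))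
      (hPk' (N + 1))
  rw [Finset.sum_congr rfl (fun i _ => by rw [hrel i]), telescope_nat z N, hz0, hz1, smul_zero,
    add_zero]

end AltSum

section KD

attribute [local instance] Abelian.hasFiniteBiproducts

variable {A : Type u} [Category.{v} A] [Abelian A] {r : ℕ} (D : KData A r)

/-- `D.K i` is the biproduct of copies of `D.G i` indexed by the subsets of cardinality `i` -/
noncomputable def isoBiprod (i : ℕ) : D.K i ≅ ⨁ (fun _ : Idx r i => D.G i) where
  hom := biproduct.lift (fun x => D.prj i x.1)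
  inv := biproduct.desc (fun x => D.inj i x.1)
  hom_inv_id := by
    classical
    rw [biproduct.lift_desc, ← D.total i]
    have h1 : ∀ S : Finset (Fin r), S ∉ (Finset.univ.filter fun S : Finset (Fin r) => S.card = i) →
        D.prj i S ≫ D.inj i S = 0 := by
      intro S hS
      have hS' : S.card ≠ i := by simpa using hS
      rw [D.prj_zero i S hS', zero_comp]
    rw [← Finset.sum_subset (Finset.subset_univ _) (fun S _ hS => h1 S hS)]
    exact (Finset.sum_subtype (Finset.univ.filter fun S : Finset (Fin r) => S.card = i)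
      (by simp) (fun S : Finset (Fin r) => D.prj i S ≫ D.inj i S)).symm
  inv_hom_id := by
    classical
    refine biproduct.hom_ext' _ _ (fun x => biproduct.hom_ext _ _ (fun y => ?_))
    rw [Category.assoc, Category.assoc, biproduct.lift_π, biproduct.ι_desc_assoc, D.inj_prj,
      Category.comp_id, biproduct.ι_π]
    by_cases hxy : x = y
    · subst hxy
      rw [if_pos ⟨rfl, x.2⟩, dif_pos rfl]
      rfl
    · rw [if_neg (fun h => hxy (Subtype.ext h.1)), dif_neg hxy]

theorem card_Idx (r i : ℕ) : Fintype.card (Idx r i) = Nat.choose r i := by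
  rw [Fintype.card_finset_len, Fintype.card_fin]

/-- `D.K i ≅ (D.G i)^{C(r, i)}` -/
noncomputable def isoCoprod (i : ℕ) :
    D.K i ≅ ∐ fun _ : Fin (Nat.choose r i) => D.G i :=
  isoBiprod D i ≪≫ biproduct.isoCoproduct _ ≪≫
    (Sigma.whiskerEquiv (f := fun _ : Fin (Nat.choose r i) => D.G i)
      (g := fun _ : Idx r i => D.G i)
      ((Fintype.equivFinOfCardEq (card_Idx r i)).symm) (fun _ => Iso.refl _)).symm

variable (P : ObjectProperty A) (hz : ∀ Z : A, IsZero Z → P Z)
  (hiso : ∀ {X Y : A}, (X ≅ Y) → P X → P Y)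
  (hker : ∀ {X Y : A} (f : X ⟶ Y), Epi f → P X → P Y → P (kernel f))
  (hcop : ∀ L : A, P L → ∀ b : ℕ, P (∐ fun _ : Fin b => L))

include hz hiso hker hcop in
/-- **the Koszul relation** `∑ (-1)^i C(r, i) [G i] = 0` in `K0sub P` -/
theorem koszul_relation
    (hex : ∀ i, (ShortComplex.mk (D.d i) (D.d (i + 1)) (D.d_comp_d i)).Exact)
    (hmono : Mono (D.d 0)) (hG : ∀ i, P (D.G i)) :
    ∑ i ∈ Finset.range (r + 1), (-1 : ℤ) ^ i • ((Nat.choose r i) • clSub P (D.G i)) = 0 := by
  have hK : ∀ i, P (D.K i) := fun i => hiso (isoCoprod D i).symm (hcop _ (hG i) _)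
  have h := alt_sum_nat P hz hiso hker D.K D.d D.d_comp_d hex hmono r
    (fun i hi => D.isZero_K i hi) hK
  rw [← h]
  refine Finset.sum_congr rfl (fun i _ => ?_)
  rw [clSub_of_iso P hz (isoCoprod D i) (hK i) (hcop _ (hG i) _),
    clSub_coprod_const P hz (D.G i) (hG i) (hcop _ (hG i)) _]

end KD

end Groth.Agent.Lib.R2H2.K0Epi
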