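import Groth.Agent.Lib.R2H2KcohLoc
set_option backward.isDefEq.respectTransparency.types false

/-!
# The localization sequence `K_•(X') → K_•(X) → K_•(U) → 0`, part 2 (helper2, round 2)

`σ : K_•(U) → K_•(X)/im(i_*)`, `[G] ↦ [G̃]` for any coherent extension `G̃`; `main3192`.
-/

set_option autoImplicit false
set_option linter.style.haveILetI false
set_option linter.unusedSectionVars false
universe u
open CategoryTheory CategoryTheory.Limits AlgebraicGeometry TopologicalSpace Opposite KZero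

noncomputable section

namespace Groth.Agent.Lib.R2H2.KcohLoc

open Groth.Agent.Lib.R2H2.K0Gen Groth.Agent.Lib.R2H2.NilFilt Groth.Agent.Lib.Helper23.Extend
  Groth.Agent.Lib.Helper26.ModSec Groth.Agent.Lib.Helper23.QCohLocal

variable {X X' U : Scheme.{u}} [IsNoetherian X]

section Ext

variable (j : U ⟶ X) [IsOpenImmersion j]

/-- a chosen coherent extension -/
def ext (G : U.Modules) (hG : Coh.IsCoh G) : X.Modules :=
  Classical.choose (exists_coh_extension j G hG)

theorem isCoh_ext (G : U.Modules) (hG : Coh.IsCoh G) : Coh.IsCoh (ext j G hG) :=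
  (Classical.choose_spec (exists_coh_extension j G hG)).1

def extIso (G : U.Modules) (hG : Coh.IsCoh G) :
    (Scheme.Modules.restrictFunctor j).obj (ext j G hG) ≅ G :=
  (Classical.choose_spec (exists_coh_extension j G hG)).2.some

end Ext

section Main

variable (i : X' ⟶ X) [IsClosedImmersion i] (j : U ⟶ X) [IsOpenImmersion j]
  (hU : Set.range j = (Set.range i)ᶜ)
  [(Scheme.Modules.pushforward i).Additive] [PreservesFiniteLimits (Scheme.Modules.pushforward i)]
  [PreservesFiniteColimits (Scheme.Modules.pushforward i)]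
  [PreservesFiniteLimits (Scheme.Modules.restrictFunctor j)]
  (hi : ∀ M : X'.Modules, Coh.IsCoh M → Coh.IsCoh ((Scheme.Modules.pushforward i).obj M))
  (hj : ∀ M : X.Modules, Coh.IsCoh M → Coh.IsCoh ((Scheme.Modules.restrictFunctor j).obj M))

open Classical in
/-- the class of a coherent extension, modulo the image of `i_*` -/
def fσ (G : U.Modules) : SGA6.Kcoh X ⧸ R i hi :=
  if h : Coh.IsCoh G then
    QuotientAddGroup.mk (clSub (fun M : X.Modules => Coh.IsCoh M) (ext j G h))
  else 0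

theorem mk_eq_of_sub_mem {x y : SGA6.Kcoh X} (h : x - y ∈ R i hi) :
    (QuotientAddGroup.mk x : SGA6.Kcoh X ⧸ R i hi) = QuotientAddGroup.mk y := by
  apply sub_eq_zero.1
  rw [← QuotientAddGroup.mk_sub]
  exact (QuotientAddGroup.eq_zero_iff _).2 h

include hU in
theorem fσ_eq (G : U.Modules) (hG : Coh.IsCoh G) (M : X.Modules) (hM : Coh.IsCoh M)
    (e : (Scheme.Modules.restrictFunctor j).obj M ≅ G) :
    fσ i j hi G = QuotientAddGroup.mk (clSub (fun M : X.Modules => Coh.IsCoh M) M) := by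
  rw [fσ, dif_pos hG]
  exact mk_eq_of_sub_mem i hi
    (sub_mem_R_of_iso_restrict i j hU hi (isCoh_ext j G hG) hM (extIso j G hG ≪≫ e.symm))

include hU in
theorem fσ_add (S : ShortComplex U.Modules) (hS : S.ShortExact) (h₁ : Coh.IsCoh S.X₁)
    (h₂ : Coh.IsCoh S.X₂) (h₃ : Coh.IsCoh S.X₃) :
    fσ i j hi S.X₂ = fσ i j hi S.X₁ + fσ i j hi S.X₃ := by
  have hM₂ := isCoh_ext j S.X₂ h₂
  haveI : S.X₁.IsQuasicoherent := h₁.1
  haveI qM : (ext j S.X₂ h₂).IsQuasicoherent := hM₂.1
  haveI fM : SheafOfModules.IsFiniteType (R := X.ringCatSheaf) (ext j S.X₂ h₂) := hM₂.2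
  haveI := hS.mono_f
  haveI := hS.epi_g
  let φ : S.X₁ ⟶ (ext j S.X₂ h₂).restrict j := S.f ≫ (extIso j S.X₂ h₂).inv
  haveI : Mono φ := mono_comp _ _
  obtain ⟨H, ψ, e, hHq, hcomp, hmono, -⟩ := exists_extension' j (ext j S.X₂ h₂) S.X₁ φ
  haveI hψ : Mono ψ := hmono inferInstance
  have hH : Coh.IsCoh H :=
    ⟨hHq, @Groth.Agent.Lib.Helper23.FinType.isFiniteType_of_mono X _ _ _ ψ hψ qM fM hHq⟩
  have hC : Coh.IsCoh (cokernel ψ) := isCoh_cokernel hH hM₂ ψ
  let T : ShortComplex X.Modules := ShortComplex.mk ψ (cokernel.π ψ) (cokernel.condition ψ)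
  have hT : T.ShortExact :=
    { exact := ShortComplex.exact_cokernel ψ
      mono_f := hψ
      epi_g := inferInstanceAs (Epi (cokernel.π ψ)) }
  have hcl := clSub_shortExact (fun M : X.Modules => Coh.IsCoh M) T hT hH hM₂ hC
  change clSub _ (ext j S.X₂ h₂) = clSub _ H + clSub _ (cokernel ψ) at hcl
  haveI : PreservesColimitsOfSize.{0, 0} (Scheme.Modules.restrictFunctor j) :=
    (Scheme.Modules.restrictAdjunction j).leftAdjoint_preservesColimits
  let c₁ : (Scheme.Modules.restrictFunctor j).obj (cokernel ψ) ≅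
      cokernel ((Scheme.Modules.restrictFunctor j).map ψ) :=
    PreservesCokernel.iso (Scheme.Modules.restrictFunctor j) ψ
  have hw : (Scheme.Modules.restrictFunctor j).map ψ ≫ (extIso j S.X₂ h₂).hom = e.hom ≫ S.f := by
    rw [← hcomp, Category.assoc, Category.assoc, Iso.inv_hom_id, Category.comp_id]
  let c₂ : cokernel ((Scheme.Modules.restrictFunctor j).map ψ) ≅ cokernel S.f :=
    cokernel.mapIso _ S.f e (extIso j S.X₂ h₂) hw
  let c₃ : cokernel S.f ≅ S.X₃ :=
    IsColimit.coconePointUniqueUpToIso (cokernelIsCokernel S.f) hS.exact.gIsCokernel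
  rw [fσ_eq i j hU hi S.X₂ h₂ _ hM₂ (extIso j S.X₂ h₂), fσ_eq i j hU hi S.X₁ h₁ H hH e,
    fσ_eq i j hU hi S.X₃ h₃ (cokernel ψ) hC (c₁ ≪≫ c₂ ≪≫ c₃), hcl]
  rfl

/-- `σ : K_•(U) → K_•(X)/im(i_*)` -/
def σ (hU : Set.range j = (Set.range i)ᶜ) : SGA6.Kcoh U →+ SGA6.Kcoh X ⧸ R i hi :=
  liftAdd (fun M : U.Modules => Coh.IsCoh M) (fσ i j hi)
    (fun S hS h₁ h₂ h₃ => fσ_add i j hU hi S hS h₁ h₂ h₃)

include hU in
theorem σ_ρ (x : SGA6.Kcoh X) :
    σ i j hi hU (SGA6.mapSub (Scheme.Modules.restrictFunctor j)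
      (fun M : X.Modules => Coh.IsCoh M) (fun M : U.Modules => Coh.IsCoh M) hj x) =
      QuotientAddGroup.mk x := by
  have h := Groth.Agent.Lib.R2H2.K0Chain.hom_ext (fun M : X.Modules => Coh.IsCoh M)
    ((σ i j hi hU).comp (SGA6.mapSub (Scheme.Modules.restrictFunctor j)
      (fun M : X.Modules => Coh.IsCoh M) (fun M : U.Modules => Coh.IsCoh M) hj))
    (QuotientAddGroup.mk' (R i hi)) (fun M hM => ?_)
  · exact DFunLike.congr_fun h x
  · rw [AddMonoidHom.comp_apply, mapSub_clSub_gen _ _ _ hj hM]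
    unfold σ
    rw [liftAdd_clSub _ _ _ (hj M hM)]
    exact fσ_eq i j hU hi _ (hj M hM) M hM (Iso.refl _)

include hU in
/-- **S3192** -/
theorem main3192 :
    Function.Surjective (SGA6.mapSub (Scheme.Modules.restrictFunctor j)
      (fun M : X.Modules => Coh.IsCoh M) (fun M : U.Modules => Coh.IsCoh M) hj) ∧
    (SGA6.mapSub (Scheme.Modules.restrictFunctor j) (fun M : X.Modules => Coh.IsCoh M)
      (fun M : U.Modules => Coh.IsCoh M) hj).ker =
      (SGA6.mapSub (Scheme.Modules.pushforward i) (fun M : X'.Modules => Coh.IsCoh M)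
        (fun M : X.Modules => Coh.IsCoh M) hi).range := by
  constructor
  · intro y
    have hy : y ∈ (SGA6.mapSub (Scheme.Modules.restrictFunctor j)
        (fun M : X.Modules => Coh.IsCoh M) (fun M : U.Modules => Coh.IsCoh M) hj).range := by
      refine K0sub_induction (fun M : U.Modules => Coh.IsCoh M) _ (fun G hG => ?_) y
      refine ⟨clSub (fun M : X.Modules => Coh.IsCoh M) (ext j G hG), ?_⟩
      rw [mapSub_clSub_gen _ _ _ hj (isCoh_ext j G hG)]
      exact clSub_of_iso (fun M : U.Modules => Coh.IsCoh M) (hz U) (extIso j G hG)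
        (hj _ (isCoh_ext j G hG)) hG
    exact hy
  · ext x
    constructor
    · intro hx
      have hx0 : SGA6.mapSub (Scheme.Modules.restrictFunctor j)
          (fun M : X.Modules => Coh.IsCoh M) (fun M : U.Modules => Coh.IsCoh M) hj x = 0 := hx
      have h1 := σ_ρ i j hU hi hj x
      rw [hx0, map_zero] at h1
      exact (QuotientAddGroup.eq_zero_iff x).1 h1.symm
    · rintro ⟨y, rfl⟩
      have h := Groth.Agent.Lib.R2H2.K0Chain.hom_ext (fun M : X'.Modules => Coh.IsCoh M)
        ((SGA6.mapSub (Scheme.Modules.restrictFunctor j) (fun M : X.Modules => Coh.IsCoh M)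
          (fun M : U.Modules => Coh.IsCoh M) hj).comp
          (SGA6.mapSub (Scheme.Modules.pushforward i) (fun M : X'.Modules => Coh.IsCoh M)
            (fun M : X.Modules => Coh.IsCoh M) hi)) 0 (fun M hM => ?_)
      · exact DFunLike.congr_fun h y
      · rw [AddMonoidHom.comp_apply, mapSub_clSub_gen _ _ _ hi hM,
          mapSub_clSub_gen _ _ _ hj (hi M hM), AddMonoidHom.zero_apply]
        exact clSub_of_isZero (fun M : U.Modules => Coh.IsCoh M)
          (isZero_restrict_push i j (hdis i j hU) M) (hj _ (hi M hM))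

end Main

end Groth.Agent.Lib.R2H2.KcohLoc
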