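import Groth.Agent.Lib.R2H2PnNullCorrExist
import Groth.Agent.Lib.R2H4DegAdd
import Groth.Agent.Lib.R2H2PdSheaf
import Groth.Agent.Lib.Helper23QAffSec

/-!
# Kernels of nonzero maps from rank two bundles to line bundles on locally factorial schemes (helper2, round 2)

Namespace `Groth.Agent.Lib.R2H2.KerInv`.
* `exists_ker_generator`, `ker_free` : over a factorial domain the kernel of a linear map from a free module of rank two
  to a free module of rank one is free (of rank one if the map is nonzero).
* `stalk_kernel`, `stalkKerEquiv` : the stalk of a kernel is the kernel of the stalk map.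
* `isInvertible_kernel` : on an integral locally Noetherian scheme with factorial local rings the kernel of a nonzero
  morphism from a finite locally free module of rank two to an invertible module is invertible.
-/

set_option backward.isDefEq.respectTransparency.types false
set_option autoImplicit false
set_option linter.unusedSectionVars false
universe u

namespace Groth.Agent.Lib.R2H2.KerInv

open CategoryTheory CategoryTheory.Limits AlgebraicGeometry TopologicalSpace Opposite
open Groth.Agent.Lib.Helper1.BKF Groth.Agent.Lib.Helper1.Sky Groth.Agent.Lib.Helper1.StalkTensor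
  Groth.Agent.Lib.Helper1.KBC

section Alg

variable {R M N : Type*} [CommRing R] [IsDomain R] [UniqueFactorizationMonoid R]
  [AddCommGroup M] [Module R M] [AddCommGroup N] [Module R N]

/-- the kernel of a nonzero linear form on a free module of rank two over a factorial domain is generated
by one nonzero element -/
theorem exists_ker_generator (b : Module.Basis (Fin 2) R M) (f : M →ₗ[R] R) (hf : f ≠ 0) :
    ∃ κ : M, κ ≠ 0 ∧ f κ = 0 ∧ ∀ x, f x = 0 → ∃ a : R, x = a • κ := by
  have hx : ∀ x : M, x = b.repr x 0 • b 0 + b.repr x 1 • b 1 := by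
    intro x
    conv_lhs => rw [← b.sum_repr x, Fin.sum_univ_two]
  have hfx : ∀ x : M, f x = b.repr x 0 * f (b 0) + b.repr x 1 * f (b 1) := by
    intro x
    conv_lhs => rw [hx x]
    rw [map_add, map_smul, map_smul, smul_eq_mul, smul_eq_mul]
  by_cases hp : f (b 0) = 0
  · have hq : f (b 1) ≠ 0 := by
      intro hq
      apply hf
      apply b.ext
      intro i
      fin_cases i
      · simpa using hp
      · simpa using hq
    refine ⟨b 0, b.ne_zero 0, hp, fun x hx0 => ?_⟩
    rw [hfx x, hp, mul_zero, zero_add] at hx0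
    have h1 : b.repr x 1 = 0 := (mul_eq_zero.mp hx0).resolve_right hq
    refine ⟨b.repr x 0, ?_⟩
    conv_lhs => rw [hx x, h1, zero_smul, add_zero]
  · obtain ⟨p', q', d, hrel, hpd, hqd⟩ :=
      UniqueFactorizationMonoid.exists_reduced_factors (f (b 0)) hp (f (b 1))
    have hd : d ≠ 0 := by
      rintro rfl
      exact hp (by rw [← hpd, zero_mul])
    have hp' : p' ≠ 0 := by
      rintro rfl
      exact hp (by rw [← hpd, mul_zero])
    refine ⟨q' • b 0 - p' • b 1, ?_, ?_, ?_⟩
    · intro h0
      have h1 := congrArg (fun v => b.repr v 1) h0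
      simp only [map_sub, map_smul, Module.Basis.repr_self, Finsupp.coe_sub, Finsupp.coe_smul,
        Pi.sub_apply, Pi.smul_apply, smul_eq_mul, map_zero, Finsupp.coe_zero, Pi.zero_apply] at h1
      simp at h1
      exact hp' h1
    · rw [map_sub, map_smul, map_smul, smul_eq_mul, smul_eq_mul, ← hpd, ← hqd]
      ring
    · intro x hx0
      rw [hfx x, ← hpd, ← hqd] at hx0
      have h1 : b.repr x 0 * p' + b.repr x 1 * q' = 0 := by
        have : d * (b.repr x 0 * p' + b.repr x 1 * q') = 0 := by
          rw [← hx0]; ring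
        exact (mul_eq_zero.mp this).resolve_left hd
      have h2 : p' ∣ b.repr x 1 * q' := ⟨-(b.repr x 0), by linear_combination h1⟩
      obtain ⟨γ, hγ⟩ := hrel.dvd_of_dvd_mul_right h2
      have h3 : b.repr x 0 = -γ * q' := by
        have : p' * (b.repr x 0 + γ * q') = 0 := by
          rw [hγ] at h1
          linear_combination h1
        have := (mul_eq_zero.mp this).resolve_left hp'
        linear_combination this
      refine ⟨-γ, ?_⟩
      conv_lhs => rw [hx x, h3, hγ]
      rw [smul_sub, smul_smul, smul_smul]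
      rw [sub_eq_add_neg, ← neg_smul]
      congr 2
      ring

omit [UniqueFactorizationMonoid R] in
/-- a submodule generated by one nonzero element of a torsion-free module has a basis with one element -/
theorem nonempty_basis_of_generator [Module.IsTorsionFree R M] (S : Submodule R M) (κ : M) (hκ : κ ≠ 0)
    (hκS : κ ∈ S) (h : ∀ x ∈ S, ∃ a : R, x = a • κ) : Nonempty (Module.Basis (Fin 1) R S) := by
  let g : R →ₗ[R] S := LinearMap.toSpanSingleton R S ⟨κ, hκS⟩
  have hg : Function.Bijective g := by
    constructor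
    · rw [injective_iff_map_eq_zero]
      intro a ha
      have h1 : a • κ = 0 := congrArg Subtype.val ha
      exact (smul_eq_zero.mp h1).resolve_right hκ
    · rintro ⟨x, hxS⟩
      obtain ⟨a, rfl⟩ := h x hxS
      exact ⟨a, rfl⟩
  exact ⟨(Module.Basis.singleton (Fin 1) R).map (LinearEquiv.ofBijective g hg)⟩

/-- the kernel of a linear map from a free module of rank two to a free module of rank one over a factorial
domain is free, of rank one if the map is nonzero -/
theorem ker_free (b : Module.Basis (Fin 2) R M) (e : N ≃ₗ[R] R) (f : M →ₗ[R] N) :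
    ∃ r : ℕ, (f ≠ 0 → r = 1) ∧ (f = 0 → r = 2) ∧
      Nonempty (Module.Basis (Fin r) R (LinearMap.ker f)) := by
  haveI : Module.Free R M := Module.Free.of_basis b
  by_cases hf : f = 0
  · refine ⟨2, fun h => absurd hf h, fun _ => rfl, ?_⟩
    subst hf
    rw [LinearMap.ker_zero]
    exact ⟨b.map (Submodule.topEquiv (R := R) (M := M)).symm⟩
  · refine ⟨1, fun _ => rfl, fun h => absurd h hf, ?_⟩
    have hf' : e.toLinearMap ∘ₗ f ≠ 0 := by
      intro h0
      apply hf
      ext x
      have := LinearMap.congr_fun h0 x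
      simpa using this
    obtain ⟨κ, hκ, hκ0, hgen⟩ := exists_ker_generator b (e.toLinearMap ∘ₗ f) hf'
    have hker : ∀ x, x ∈ LinearMap.ker f ↔ (e.toLinearMap ∘ₗ f) x = 0 := by
      intro x
      rw [LinearMap.mem_ker]
      simp
    exact nonempty_basis_of_generator (LinearMap.ker f) κ hκ ((hker κ).2 hκ0)
      (fun x hx => hgen x ((hker x).1 hx))

end Alg

section Sch

variable {X : Scheme.{u}}

/-- the stalk functor is left exact on kernels -/
theorem stalk_kernel {E N : X.Modules} (lam : E ⟶ N) (x : X) :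
    Function.Injective ((stalkFun x).map (kernel.ι lam)).hom ∧
      LinearMap.range ((stalkFun x).map (kernel.ι lam)).hom =
        LinearMap.ker ((stalkFun x).map lam).hom := by
  constructor
  · haveI : Mono ((stalkFun x).map (kernel.ι lam)) := inferInstance
    exact (ModuleCat.mono_iff_injective _).1 inferInstance
  · have hS : (ShortComplex.mk (kernel.ι lam) lam (kernel.condition lam)).Exact :=
      ShortComplex.exact_kernel lam
    exact (hS.map (stalkFun x)).moduleCat_range_eq_ker

/-- the stalk of a kernel is the kernel of the stalk map -/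
noncomputable def stalkKerEquiv {E N : X.Modules} (lam : E ⟶ N) (x : X) :
    (stalkFun x).obj (kernel lam) ≃ₗ[Groth.Agent.Lib.Helper1.Sky.Ox x] LinearMap.ker ((stalkFun x).map lam).hom :=
  (LinearEquiv.ofInjective _ (stalk_kernel lam x).1).trans
    (LinearEquiv.ofEq _ _ (stalk_kernel lam x).2)

/-- the rank of the stalks of a module which is free over an open -/
theorem finrank_stalk_of_restrict_iso (M : X.Modules) [M.IsQuasicoherent] (U : X.Opens) {r : ℕ}
    (e : M.restrict U.ι ≅ FlatMod.freeMod (↑U) r) (y : X) (hy : y ∈ U) :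
    Module.finrank (X.presheaf.stalk y) (M.presheaf.stalk y) = r := by
  obtain ⟨h1, h2⟩ := Groth.Agent.Lib.Helper2.RankLoc.fibreRank_eq_of_restrict_iso_freeMod U.ι M e
    ⟨y, hy⟩
  have hx : U.ι ⟨y, hy⟩ = y := rfl
  rw [hx] at h1 h2
  haveI := h1
  rw [← h2]
  exact (Module.finrank_baseChange (R := IsLocalRing.ResidueField (X.presheaf.stalk y))
    (S := X.presheaf.stalk y) (M' := M.presheaf.stalk y)).symm

/-- a morphism which vanishes on all stalks is zero -/
theorem eq_zero_of_stalk_eq_zero {E N : X.Modules} (lam : E ⟶ N)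
    (h : ∀ x : X, (stalkFun x).map lam = 0) : lam = 0 := by
  apply Scheme.Modules.hom_ext
  intro U
  ext s
  refine TopCat.Presheaf.section_ext ⟨N.presheaf, N.isSheaf⟩ U _ _ fun y hy => ?_
  have h1 : sm (toPMMap lam) y (gm (toPM E) y U hy s) = 0 := by
    have := LinearMap.congr_fun (congrArg ModuleCat.Hom.hom (h y)) (gm (toPM E) y U hy s)
    exact this
  rw [sm_gm] at h1
  refine h1.trans ?_
  exact (map_zero _).symm

end Sch

section Main

variable {X : Scheme.{u}}

theorem isInvertible_of_rank_one {L : X.Modules} (hL : FlatMod.IsFinLocFreeOfRank 1 L) :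
    PicF.IsInvertible L := by
  intro x
  obtain ⟨U, hxU, ⟨ε⟩⟩ := hL x
  exact ⟨U, hxU, ⟨ε ≪≫ Limits.coproductUniqueIso
    (fun _ : Fin 1 => Coh.structureModule (↑U : Scheme.{u}))⟩⟩

/-- the stalks of the kernel are free -/
theorem exists_basis_stalk_kernel [IsIntegral X]
    (hufd : ∀ x : X, UniqueFactorizationMonoid (X.presheaf.stalk x))
    {E N : X.Modules} (hE : FlatMod.IsFinLocFreeOfRank 2 E) (hN : PicF.IsInvertible N)
    (lam : E ⟶ N) (x : X) :
    ∃ r : ℕ, ((stalkFun x).map lam ≠ 0 → r = 1) ∧
      Nonempty (Module.Basis (Fin r) (X.presheaf.stalk x) ((kernel lam).presheaf.stalk x)) := by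
  obtain ⟨hf, hfin, hrk⟩ := Groth.Agent.Lib.R2H4DegAdd.stalk_facts hE x
  haveI : Module.Free (Groth.Agent.Lib.Helper1.Sky.Ox x) ((stalkFun x).obj E) := hf
  haveI : Module.Finite (Groth.Agent.Lib.Helper1.Sky.Ox x) ((stalkFun x).obj E) := hfin
  let bE : Module.Basis (Fin 2) (Groth.Agent.Lib.Helper1.Sky.Ox x) ((stalkFun x).obj E) :=
    Module.finBasisOfFinrankEq _ _ hrk
  obtain ⟨g, hg⟩ := Groth.Agent.Lib.Helper20.RegMero.exists_isGen N hN x
  let eN : Groth.Agent.Lib.Helper1.Sky.Ox x ≃ₗ[Groth.Agent.Lib.Helper1.Sky.Ox x] (stalkFun x).obj N :=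
    LinearEquiv.ofBijective (LinearMap.toSpanSingleton (Groth.Agent.Lib.Helper1.Sky.Ox x)
      (St (toPM N) x) g) hg
  haveI := hufd x
  obtain ⟨r, hr1, -, ⟨b⟩⟩ := ker_free bE eN.symm ((stalkFun x).map lam).hom
  refine ⟨r, fun h => hr1 (fun h0 => h ?_), ⟨b.map (stalkKerEquiv lam x).symm⟩⟩
  exact ModuleCat.hom_ext h0

/-- **the kernel of a nonzero morphism from a rank two bundle to a line bundle on a locally factorial integral
scheme is a line bundle** -/
theorem isInvertible_kernel [IsIntegral X] [IsLocallyNoetherian X]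
    (hufd : ∀ x : X, UniqueFactorizationMonoid (X.presheaf.stalk x))
    {E N : X.Modules} (hE : FlatMod.IsFinLocFreeOfRank 2 E) (hN : PicF.IsInvertible N)
    (lam : E ⟶ N) (hlam : lam ≠ 0) : PicF.IsInvertible (kernel lam) := by
  have hEc : Coh.IsCoh E := Groth.Agent.Lib.R2H4DegAdd.isCoh_of_rank hE
  have hNc : Coh.IsCoh N := Groth.Agent.Lib.R2H4DegAdd.isCoh_of_rank
    (Groth.Agent.Lib.Helper23.SecTw.isFinLocFreeOfRank_one_of_isInvertible N hN)
  have hKc : Coh.IsCoh (kernel lam) := Groth.Agent.Lib.R2H2.PdSheaf.isCoh_kernel hEc hNc lam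
  haveI : (kernel lam).IsQuasicoherent := hKc.1
  -- the rank function
  let f : X → ℕ := fun x => Module.finrank (X.presheaf.stalk x) ((kernel lam).presheaf.stalk x)
  have hloc : ∀ (x : X) (r : ℕ)
      (b : Module.Basis (Fin r) (X.presheaf.stalk x) ((kernel lam).presheaf.stalk x)),
      ∃ U : X.Opens, x ∈ U ∧ Nonempty ((kernel lam).restrict U.ι ≅ FlatMod.freeMod (↑U) r) ∧
        ∀ y ∈ U, f y = r := by
    intro x r b
    obtain ⟨U, hxU, ⟨e⟩⟩ :=
      Groth.Agent.Lib.R2H2.FibreFree.exists_restrict_iso_freeMod_of_stalk_basis _ hKc x r b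
    exact ⟨U, hxU, ⟨e⟩, fun y hy => finrank_stalk_of_restrict_iso (kernel lam) U e y hy⟩
  have hlc : IsLocallyConstant f := by
    rw [IsLocallyConstant.iff_exists_open]
    intro x
    obtain ⟨r, -, ⟨b⟩⟩ := exists_basis_stalk_kernel hufd hE hN lam x
    obtain ⟨U, hxU, -, hU⟩ := hloc x r b
    exact ⟨U.1, U.2, hxU, fun y hy => (hU y hy).trans (hU x hxU).symm⟩
  -- a point where the stalk map is nonzero
  obtain ⟨x₀, hx₀⟩ : ∃ x₀ : X, (stalkFun x₀).map lam ≠ 0 := by
    by_contra hcon
    push Not at hcon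
    exact hlam (eq_zero_of_stalk_eq_zero lam hcon)
  have hf1 : ∀ x : X, f x = 1 := by
    intro x
    obtain ⟨r, hr, ⟨b⟩⟩ := exists_basis_stalk_kernel hufd hE hN lam x₀
    obtain ⟨U, hxU, -, hU⟩ := hloc x₀ r b
    rw [hlc.apply_eq_of_preconnectedSpace x x₀, hU x₀ hxU, hr hx₀]
  apply isInvertible_of_rank_one
  intro x
  obtain ⟨r, -, ⟨b⟩⟩ := exists_basis_stalk_kernel hufd hE hN lam x
  obtain ⟨U, hxU, ⟨e⟩, hU⟩ := hloc x r b
  have hr : r = 1 := (hU x hxU).symm.trans (hf1 x)
  subst hr
  exact ⟨U, hxU, ⟨e⟩⟩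

end Main

end Groth.Agent.Lib.R2H2.KerInv
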