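import Groth.Agent.Lib.R2H2KoszulShift
set_option backward.isDefEq.respectTransparency.types false

/-!
# Dimension shifting at the bottom of an exact Koszul complex of `O_X`-modules
(helper2, round 2)

For exact Koszul data `D` in `X.Modules`:
* `subsingleton_HH_Z_bot`: `H^q(Z_i) = 0` if `H^{q-j}(G (i+j)) = 0` for all `j ≤ q`;
* `subsingleton_HH_G_bot`: `H^q(G 0) = 0` if `H^{q-j}(G (1+j)) = 0` for all `j ≤ q`.
-/

set_option autoImplicit false
universe u

namespace Groth.Agent.Lib.R2H2.KoszulBot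

open CategoryTheory CategoryTheory.Limits AlgebraicGeometry Abelian
open Groth.Agent.Lib.R2H2.KoszulAbs Groth.Agent.Lib.R2H2.HHLin Groth.Agent.Lib.R2H2.KoszulShift
open Groth.Agent.Lib.Helper23.QCohLocal

variable {X : Scheme.{u}}

lemma injective_HmapL_zero {M N : X.Modules} (φ : M ⟶ N) [Mono φ] :
    Function.Injective (HmapL φ 0) := by
  have : Mono (abMap φ) := by
    change Mono ((toAbF X).map φ)
    infer_instance
  exact Ext.postcomp_mk₀_injective_of_mono _ (abMap φ)

variable {r : ℕ} (D : KData X.Modules r)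
variable (hex : ∀ i : ℕ, (ShortComplex.mk (D.d i) (D.d (i + 1)) (D.d_comp_d i)).Exact)

include hex in
/-- vanishing of the cohomology of the cycles, from the terms to the right -/
theorem subsingleton_HH_Z_bot (q : ℕ) : ∀ (i : ℕ),
    (∀ j : ℕ, j ≤ q → Subsingleton (Coh.HH X (D.G (i + j)) (q - j))) →
    Subsingleton (Coh.HH X (kernel (D.d i)) q) := by
  induction q with
  | zero =>
    intro i h
    have h2 : Subsingleton (Coh.HH X (D.K i) 0) := subsingleton_HH_K D i 0 (h 0 le_rfl)
    have hinj : Function.Injective (HmapL (kernel.ι (D.d i)) 0) :=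
      injective_HmapL_zero (kernel.ι (D.d i))
    exact ⟨fun a b => hinj (Subsingleton.elim _ _)⟩
  | succ q ih =>
    intro i h
    have hS := ses_shortExact D hex i
    have h2 : Subsingleton (Coh.HH X (ses D i).X₂ (q + 1)) :=
      subsingleton_HH_K D i (q + 1) (h 0 (Nat.zero_le _))
    have h3 : Subsingleton (Coh.HH X (ses D i).X₃ q) := by
      apply ih (i + 1)
      intro j hj
      have h4 := h (j + 1) (by omega)
      have e1 : i + (j + 1) = i + 1 + j := by omega
      have e2 : q + 1 - (j + 1) = q - j := by omega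
      rw [e1, e2] at h4
      exact h4
    have h0 : ∀ x : Coh.HH X (ses D i).X₁ (q + 1), x = 0 := fun x => by
      obtain ⟨y, hy⟩ := exact₁ (ses D i) hS q x (Subsingleton.elim _ _)
      rw [← hy, Subsingleton.elim y 0, map_zero]
    exact ⟨fun a b => (h0 a).trans (h0 b).symm⟩

lemma inj_prj_empty : D.inj 0 ∅ ≫ D.prj 0 ∅ = 𝟙 (D.G 0) := by
  rw [D.inj_prj, if_pos ⟨rfl, Finset.card_empty⟩]

include hex in
/-- **vanishing for the first term of an exact Koszul complex** -/
theorem subsingleton_HH_G_bot (hmono : Mono (D.d 0)) (q : ℕ)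
    (h : ∀ j : ℕ, j ≤ q → Subsingleton (Coh.HH X (D.G (1 + j)) (q - j))) :
    Subsingleton (Coh.HH X (D.G 0) q) := by
  have hS := ses_shortExact D hex 0
  have h3 : Subsingleton (Coh.HH X (ses D 0).X₃ q) := subsingleton_HH_Z_bot D hex q 1 h
  have h1 : Subsingleton (Coh.HH X (ses D 0).X₁ q) :=
    subsingleton_HH_of_isZero (isZero_kernel_of_mono (D.d 0)) q
  have hK : ∀ y : Coh.HH X (D.K 0) q, y = 0 := fun y => by
    obtain ⟨z, hz⟩ := exact₂ (ses D 0) hS q y (Subsingleton.elim _ _)
    rw [← hz, Subsingleton.elim z 0]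
    exact map_zero _
  have h0 : ∀ y : Coh.HH X (D.G 0) q, y = 0 := fun y => by
    have e1 : HmapL (D.inj 0 ∅ ≫ D.prj 0 ∅) q y = y := by
      rw [inj_prj_empty, HmapL_id]
    rw [HmapL_comp] at e1
    rw [← e1, hK (HmapL (D.inj 0 ∅) q y), map_zero]
  exact ⟨fun a b => (h0 a).trans (h0 b).symm⟩

end Groth.Agent.Lib.R2H2.KoszulBot
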