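import Groth.Agent.Lib.R2H2KoszulLim
import Groth.Agent.Lib.R2H2KoszulVanish
import Groth.Agent.Lib.R2H2InjFlasque
import Groth.Agent.Lib.Helper9LCDelta

/-!
# Direct-limit Koszul cohomology as an effaceable δ-functor; comparison with local cohomology
(helper2, round 2)

* `dl_exact`: a direct limit (over `ℕ`) of exact sequences of modules is exact;
* `HL fs M j`: the direct limit of `H^j(K(f^n; M))` for a general degree `j : ℤ`, `HLmap`, `HLδ`,
  the exactness statements `HL_exact₁/₂/₃` and naturality `HLδ_nat`;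
* `Φ0`, `zeroIso`: `koszulHLim fs M 0 ≅ Γ_I(M)` naturally, `I = (fs)`;
* `KF fs p`: `M ↦ koszulHLim fs M p` as a functor; `effDelta` (Noetherian `A`);
* `nonempty_iso`: `KF fs p ≅ localCohomology (span fs) p` as functors (Noetherian `A`).
-/

set_option autoImplicit false
universe u

namespace Groth.Agent.Lib.R2H2.KoszulDelta

open CategoryTheory CategoryTheory.Limits CochainComplex CohIII
open Groth.Agent.Lib.Helper21 Groth.Agent.Lib.R2H2.KoszulLow Groth.Agent.Lib.R2H2.KoszulLim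
  Groth.Agent.Lib.R2H2.KoszulVanish

variable {A : Type u} [CommRing A]

section DL

variable {G G' G'' : ℕ → Type u} [∀ n, AddCommGroup (G n)] [∀ n, Module A (G n)]
  [∀ n, AddCommGroup (G' n)] [∀ n, Module A (G' n)]
  [∀ n, AddCommGroup (G'' n)] [∀ n, Module A (G'' n)]
  {f : ∀ n m, n ≤ m → G n →ₗ[A] G m} {f' : ∀ n m, n ≤ m → G' n →ₗ[A] G' m}
  {f'' : ∀ n m, n ≤ m → G'' n →ₗ[A] G'' m}

/-- a direct limit of exact sequences is exact -/
theorem dl_exact (hf''1 : ∀ n x, f'' n n le_rfl x = x)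
    (hf''2 : ∀ n m k (h : n ≤ m) (h' : m ≤ k) x, f'' m k h' (f'' n m h x) = f'' n k (h.trans h') x)
    (g : ∀ n, G n →ₗ[A] G' n) (hg : ∀ n m h, g m ∘ₗ f n m h = f' n m h ∘ₗ g n)
    (g' : ∀ n, G' n →ₗ[A] G'' n) (hg' : ∀ n m h, g' m ∘ₗ f' n m h = f'' n m h ∘ₗ g' n)
    (hex : ∀ n, Function.Exact (g n) (g' n)) :
    Function.Exact (Module.DirectLimit.map g hg) (Module.DirectLimit.map g' hg') := by
  have : DirectedSystem G'' (f'' · · ·) :=
    ⟨fun i x => hf''1 i x, fun k j i hij hjk x => hf''2 i j k hij hjk x⟩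
  intro y
  constructor
  · intro hy
    obtain ⟨n, yn, rfl⟩ := Module.DirectLimit.exists_of y
    rw [Module.DirectLimit.map_apply_of] at hy
    obtain ⟨m, hnm, h0⟩ := Module.DirectLimit.of.zero_exact hy
    have h1 : g' m (f' n m hnm yn) = 0 := by
      have h2 := LinearMap.congr_fun (hg' n m hnm) yn
      rw [LinearMap.comp_apply, LinearMap.comp_apply] at h2
      rw [h2]
      exact h0
    obtain ⟨x, hx⟩ := (hex m _).mp h1
    refine ⟨Module.DirectLimit.of A ℕ G f m x, ?_⟩
    rw [Module.DirectLimit.map_apply_of, hx, Module.DirectLimit.of_f]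
  · rintro ⟨x, rfl⟩
    obtain ⟨n, xn, rfl⟩ := Module.DirectLimit.exists_of x
    rw [Module.DirectLimit.map_apply_of, Module.DirectLimit.map_apply_of,
      (hex n _).mpr ⟨xn, rfl⟩, map_zero]

end DL

section HL

variable (fs : List A)

/-- transition maps on Koszul cohomology -/
noncomputable abbrev tr (M : ModuleCat.{u} A) (j : ℤ) (n m : ℕ) (h : n ≤ m) :
    ((koszulCx M (fs.map (· ^ n))).homology j : Type u) →ₗ[A]
      ((koszulCx M (fs.map (· ^ m))).homology j : Type u) :=
  (HomologicalComplex.homologyMap (koszulTrans M n m h fs) j).hom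

/-- direct-limit Koszul cohomology in a general degree -/
noncomputable abbrev HL (M : ModuleCat.{u} A) (j : ℤ) : Type u :=
  Module.DirectLimit (fun n : ℕ => ((koszulCx M (fs.map (· ^ n))).homology j : Type u))
    (tr fs M j)

/-- the canonical maps into the limit -/
noncomputable abbrev ofH (M : ModuleCat.{u} A) (j : ℤ) (n : ℕ) :
    ((koszulCx M (fs.map (· ^ n))).homology j : Type u) →ₗ[A] HL fs M j :=
  Module.DirectLimit.of A ℕ (fun n : ℕ => ((koszulCx M (fs.map (· ^ n))).homology j : Type u))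
    (tr fs M j) n

lemma koszulMap_id' (M : ModuleCat.{u} A) : ∀ l : List A, koszulMap (𝟙 M) l = 𝟙 (koszulCx M l)
  | [] => (HomologicalComplex.single (ModuleCat.{u} A) (ComplexShape.up ℤ) 0).map_id M
  | f :: l => by
    have ih := koszulMap_id' M l
    rw [koszulMap_cons]
    refine Eq.trans ?_ (mappingCone.map_id (f • 𝟙 (koszulCx M l)))
    apply cone_map_congr
    · exact ih
    · exact ih

/-- functoriality in the module -/
noncomputable def HLmap {M N : ModuleCat.{u} A} (g : M ⟶ N) (j : ℤ) : HL fs M j →ₗ[A] HL fs N j :=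
  Module.DirectLimit.map
    (fun n => (HomologicalComplex.homologyMap (koszulMap g (fs.map (· ^ n))) j).hom)
    (fun n m h => homologyMap_koszulMap_trans fs j g n m h)

lemma HLmap_of {M N : ModuleCat.{u} A} (g : M ⟶ N) (j : ℤ) (n : ℕ)
    (x : (koszulCx M (fs.map (· ^ n))).homology j) :
    HLmap fs g j (ofH fs M j n x) =
      ofH fs N j n ((HomologicalComplex.homologyMap (koszulMap g (fs.map (· ^ n))) j).hom x) :=
  Module.DirectLimit.map_apply_of _ _ _

lemma HLmap_id_apply (M : ModuleCat.{u} A) (j : ℤ) (w : HL fs M j) : HLmap fs (𝟙 M) j w = w := by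
  obtain ⟨n, x, rfl⟩ := Module.DirectLimit.exists_of w
  rw [HLmap_of, koszulMap_id', HomologicalComplex.homologyMap_id]
  rfl

lemma HLmap_comp_apply {M N P : ModuleCat.{u} A} (g : M ⟶ N) (h : N ⟶ P) (j : ℤ)
    (w : HL fs M j) : HLmap fs (g ≫ h) j w = HLmap fs h j (HLmap fs g j w) := by
  obtain ⟨n, x, rfl⟩ := Module.DirectLimit.exists_of w
  rw [HLmap_of, HLmap_of, HLmap_of, ← koszulMap_comp, HomologicalComplex.homologyMap_comp]
  rfl

section SES

variable (S : ShortComplex (ModuleCat.{u} A)) (hS : S.ShortExact)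

include hS

lemma inj_f : Function.Injective S.f.hom := (ModuleCat.mono_iff_injective _).mp hS.mono_f

lemma surj_g : Function.Surjective S.g.hom := (ModuleCat.epi_iff_surjective _).mp hS.epi_g

lemma exact_fg : Function.Exact S.f.hom S.g.hom :=
  (ShortComplex.ShortExact.moduleCat_exact_iff_function_exact S).mp hS.exact

/-- the level-`n` short exact sequence of Koszul complexes -/
noncomputable abbrev KS (n : ℕ) : ShortComplex (CochainComplex (ModuleCat.{u} A) ℤ) :=
  sesK fs S.f S.g (exact_fg S hS) n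

lemma KS_shortExact (n : ℕ) : (KS fs S hS n).ShortExact :=
  sesK_shortExact fs S.f S.g (inj_f S hS) (surj_g S hS) (exact_fg S hS) n

/-- the level-`n` connecting map -/
noncomputable def δn (j j' : ℤ) (h : j + 1 = j') (n : ℕ) :
    ((koszulCx S.X₃ (fs.map (· ^ n))).homology j : Type u) →ₗ[A]
      ((koszulCx S.X₁ (fs.map (· ^ n))).homology j' : Type u) :=
  ((KS_shortExact fs S hS n).δ j j' h).hom

lemma δn_tr (j j' : ℤ) (h : j + 1 = j') (n m : ℕ) (hnm : n ≤ m)
    (y : (koszulCx S.X₃ (fs.map (· ^ n))).homology j) :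
    tr fs S.X₁ j' n m hnm (δn fs S hS j j' h n y) =
      δn fs S hS j j' h m (tr fs S.X₃ j n m hnm y) := by
  have hnat := HomologicalComplex.HomologySequence.δ_naturality
    (sesKHom fs S.f S.g (exact_fg S hS) n m hnm) (KS_shortExact fs S hS n)
    (KS_shortExact fs S hS m) j j' h
  exact congr($(hnat).hom y)

/-- the connecting map on the direct limits -/
noncomputable def HLδ (j j' : ℤ) (h : j + 1 = j') : HL fs S.X₃ j →ₗ[A] HL fs S.X₁ j' :=
  Module.DirectLimit.map (δn fs S hS j j' h)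
    (fun n m hnm => LinearMap.ext fun y => (δn_tr fs S hS j j' h n m hnm y).symm)

lemma HLδ_of (j j' : ℤ) (h : j + 1 = j') (n : ℕ)
    (y : (koszulCx S.X₃ (fs.map (· ^ n))).homology j) :
    HLδ fs S hS j j' h (ofH fs S.X₃ j n y) = ofH fs S.X₁ j' n (δn fs S hS j j' h n y) :=
  Module.DirectLimit.map_apply_of _ _ _

theorem HL_exact₂ (j : ℤ) : Function.Exact (HLmap fs S.f j) (HLmap fs S.g j) :=
  dl_exact (fun n x => trH_self fs S.X₃ j n x)
    (fun n m k h h' x => trH_trH fs S.X₃ j n m k h h' x) _ _ _ _ (fun n => by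
      have hex := (KS_shortExact fs S hS n).homology_exact₂ j
      rw [ShortComplex.ShortExact.moduleCat_exact_iff_function_exact] at hex
      exact hex)

theorem HL_exact₃ (j j' : ℤ) (h : j + 1 = j') :
    Function.Exact (HLmap fs S.g j) (HLδ fs S hS j j' h) :=
  dl_exact (fun n x => trH_self fs S.X₁ j' n x)
    (fun n m k h h' x => trH_trH fs S.X₁ j' n m k h h' x) _ _ _ _ (fun n => by
      have hex := (KS_shortExact fs S hS n).homology_exact₃ j j' h
      rw [ShortComplex.ShortExact.moduleCat_exact_iff_function_exact] at hex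
      exact hex)

theorem HL_exact₁ (j j' : ℤ) (h : j + 1 = j') :
    Function.Exact (HLδ fs S hS j j' h) (HLmap fs S.f j') :=
  dl_exact (fun n x => trH_self fs S.X₂ j' n x)
    (fun n m k h h' x => trH_trH fs S.X₂ j' n m k h h' x) _ _ _ _ (fun n => by
      have hex := (KS_shortExact fs S hS n).homology_exact₁ j j' h
      rw [ShortComplex.ShortExact.moduleCat_exact_iff_function_exact] at hex
      exact hex)

end SES

section Nat

variable {S S' : ShortComplex (ModuleCat.{u} A)} (hS : S.ShortExact) (hS' : S'.ShortExact)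
  (φ : S ⟶ S')

/-- the morphism of level-`n` short exact sequences induced by a morphism of short complexes -/
noncomputable def KSHom (n : ℕ) : KS fs S hS n ⟶ KS fs S' hS' n where
  τ₁ := koszulMap φ.τ₁ _
  τ₂ := koszulMap φ.τ₂ _
  τ₃ := koszulMap φ.τ₃ _
  comm₁₂ := by
    change koszulMap φ.τ₁ _ ≫ koszulMap S'.f _ = koszulMap S.f _ ≫ koszulMap φ.τ₂ _
    rw [koszulMap_comp, koszulMap_comp, φ.comm₁₂]
  comm₂₃ := by
    change koszulMap φ.τ₂ _ ≫ koszulMap S'.g _ = koszulMap S.g _ ≫ koszulMap φ.τ₃ _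
    rw [koszulMap_comp, koszulMap_comp, φ.comm₂₃]

lemma δn_nat (j j' : ℤ) (h : j + 1 = j') (n : ℕ)
    (y : (koszulCx S.X₃ (fs.map (· ^ n))).homology j) :
    δn fs S' hS' j j' h n
        ((HomologicalComplex.homologyMap (koszulMap φ.τ₃ (fs.map (· ^ n))) j).hom y) =
      (HomologicalComplex.homologyMap (koszulMap φ.τ₁ (fs.map (· ^ n))) j').hom
        (δn fs S hS j j' h n y) := by
  have hnat := HomologicalComplex.HomologySequence.δ_naturality
    (KSHom fs hS hS' φ n) (KS_shortExact fs S hS n) (KS_shortExact fs S' hS' n) j j' h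
  exact (congr($(hnat).hom y)).symm

theorem HLδ_nat (j j' : ℤ) (h : j + 1 = j') (w : HL fs S.X₃ j) :
    HLδ fs S' hS' j j' h (HLmap fs φ.τ₃ j w) = HLmap fs φ.τ₁ j' (HLδ fs S hS j j' h w) := by
  obtain ⟨n, y, rfl⟩ := Module.DirectLimit.exists_of w
  rw [HLmap_of, HLδ_of, HLδ_of, HLmap_of, δn_nat]

end Nat

end HL

section LowMap

open Groth.Agent.Lib.R2H2.KoszulLow.LowData

/-- compatibility of the bottom isomorphism of a cone with cone maps -/
theorem cone_a0_map {K K' : CochainComplex (ModuleCat.{u} A) ℤ} {b0 b1 b2 : ℤ}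
    {M N : Type u} [AddCommGroup M] [Module A M] [AddCommGroup N] [Module A N] {r : ℕ}
    {g g' : Fin r → A}
    (D : LowData K b0 b1 b2 M g) (D' : LowData K' b0 b1 b2 N g') (T T' : K ⟶ K') (f f' : A)
    (comm : (f • 𝟙 K) ≫ T' = T ≫ (f' • 𝟙 K')) (ψ : M →ₗ[A] N)
    (hT0 : ∀ x, D'.a0 ((T.f b0).hom x) = ψ (D.a0 x))
    (c : ℤ) (hc : c + 1 = b0) (h01 : b0 + 1 = b1) (h12 : b1 + 1 = b2)
    (γ γ' : Fin (r + 1) → A) (hγ0 : γ 0 = f) (hγs : ∀ i, γ i.succ = g i)
    (hγ'0 : γ' 0 = f') (hγ's : ∀ i, γ' i.succ = g' i)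
    (x : (mappingCone (f • 𝟙 K)).X c) :
    (D'.cone f' c hc h01 h12 γ' hγ'0 hγ's).a0
        (((mappingCone.map (f • 𝟙 K) (f' • 𝟙 K') T T' comm).f c).hom x) =
      ψ ((D.cone f c hc h01 h12 γ hγ0 hγs).a0 x) := by
  change D'.a0 (cf _ c b0 hc _) = ψ (D.a0 (cf _ c b0 hc x))
  rw [cf_map, hT0]

lemma lowDataNil_a0_map {M N : ModuleCat.{u} A} (g : M ⟶ N) (b0 b1 b2 : ℤ) (h0 : b0 = 0)
    (h01 : b0 + 1 = b1) (h12 : b1 + 1 = b2) (γ : Fin 0 → A)
    (x : ((HomologicalComplex.single (ModuleCat.{u} A) (ComplexShape.up ℤ) 0).obj M).X b0) :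
    (lowDataNil N b0 b1 b2 h0 h01 h12 γ).a0
        ((((HomologicalComplex.single (ModuleCat.{u} A) (ComplexShape.up ℤ) 0).map g).f b0).hom x) =
      g.hom ((lowDataNil M b0 b1 b2 h0 h01 h12 γ).a0 x) := by
  subst h0
  change (HomologicalComplex.singleObjXSelf (ComplexShape.up ℤ) 0 N).hom.hom
      ((((HomologicalComplex.single (ModuleCat.{u} A) (ComplexShape.up ℤ) 0).map g).f 0).hom x) =
    g.hom ((HomologicalComplex.singleObjXSelf (ComplexShape.up ℤ) 0 M).hom.hom x)
  rw [HomologicalComplex.single_map_f_self]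
  simp

/-- the bottom isomorphisms of the Koszul complexes are natural in the module -/
theorem lowData_map {M N : ModuleCat.{u} A} (g : M ⟶ N) (n : ℕ) :
    ∀ (fs : List A) (b0 b1 b2 : ℤ) (h0 : b0 = -(fs.length : ℤ)) (h01 : b0 + 1 = b1)
      (h12 : b1 + 1 = b2) (x : (koszulCx M (fs.map (· ^ n))).X b0),
      (lowData N n fs b0 b1 b2 h0 h01 h12).a0 (((koszulMap g (fs.map (· ^ n))).f b0).hom x) =
        g.hom ((lowData M n fs b0 b1 b2 h0 h01 h12).a0 x)
  | [], b0, b1, b2, h0, h01, h12, x =>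
    lowDataNil_a0_map g b0 b1 b2 (by simpa using h0) h01 h12 _ x
  | f :: fs, b0, b1, b2, h0, h01, h12, x => by
    have ih := lowData_map g n fs b1 b2 (b2 + 1) (by rw [← h01, h0]; simp) h12 rfl
    exact cone_a0_map
      (lowData M n fs b1 b2 (b2 + 1) (by rw [← h01, h0]; simp) h12 rfl)
      (lowData N n fs b1 b2 (b2 + 1) (by rw [← h01, h0]; simp) h12 rfl)
      (koszulMap g (fs.map (· ^ n))) (koszulMap g (fs.map (· ^ n))) (f ^ n) (f ^ n)
      (by simp only [Linear.smul_comp, Linear.comp_smul, Category.id_comp, Category.comp_id])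
      g.hom ih b0 h01 h12 rfl
      (fun i : Fin (fs.length + 1) => (f :: fs).get i ^ n)
      (fun i : Fin (fs.length + 1) => (f :: fs).get i ^ n) rfl (fun _ => rfl) rfl (fun _ => rfl) x

end LowMap

section Zero

variable (fs : List A)

omit [CommRing A] in
lemma hB0 : ((0 : ℕ) : ℤ) - fs.length = -(fs.length : ℤ) := by simp

omit [CommRing A] in
lemma hB01 : ((0 : ℕ) : ℤ) - fs.length + 1 = ((1 : ℕ) : ℤ) - fs.length := by push_cast; ring

omit [CommRing A] in
lemma hBm : (((0 : ℕ) : ℤ) - fs.length - 1) + 1 = ((0 : ℕ) : ℤ) - fs.length := by ring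

/-- the low-degree data of the `n`-th Koszul complex, in the degrees used by `koszulHLim` -/
noncomputable abbrev LD (M : ModuleCat.{u} A) (n : ℕ) :=
  lowData M n fs (((0 : ℕ) : ℤ) - fs.length) (((1 : ℕ) : ℤ) - fs.length)
    (((1 : ℕ) : ℤ) - fs.length + 1) (hB0 fs) (hB01 fs) rfl

/-- `H^0(K(f^n; M)) → M` -/
noncomputable def h0n (M : ModuleCat.{u} A) (n : ℕ) :
    ((koszulCx M (fs.map (· ^ n))).homology (((0 : ℕ) : ℤ) - fs.length) : Type u) →ₗ[A] M :=
  (LD fs M n).h0 (hBm fs) (hB01 fs)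

lemma h0n_tr (M : ModuleCat.{u} A) (n m : ℕ) (h : n ≤ m)
    (x : (koszulCx M (fs.map (· ^ n))).homology (((0 : ℕ) : ℤ) - fs.length)) :
    h0n fs M m (tr fs M _ n m h x) = h0n fs M n x := by
  obtain ⟨z, rfl⟩ := cls_surjective _ _ _ (hB01 fs) x
  change (LD fs M m).h0 (hBm fs) (hB01 fs) _ = (LD fs M n).h0 (hBm fs) (hB01 fs) _
  rw [homologyMap_cls, LowData.h0_cls, LowData.h0_cls]
  exact (lowData_trans M n m h fs _ _ _ (hB0 fs) (hB01 fs) rfl).1 z.1

lemma h0n_map {M N : ModuleCat.{u} A} (g : M ⟶ N) (n : ℕ)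
    (x : (koszulCx M (fs.map (· ^ n))).homology (((0 : ℕ) : ℤ) - fs.length)) :
    h0n fs N n ((HomologicalComplex.homologyMap (koszulMap g (fs.map (· ^ n))) _).hom x) =
      g.hom (h0n fs M n x) := by
  obtain ⟨z, rfl⟩ := cls_surjective _ _ _ (hB01 fs) x
  change (LD fs N n).h0 (hBm fs) (hB01 fs) _ = g.hom ((LD fs M n).h0 (hBm fs) (hB01 fs) _)
  rw [homologyMap_cls, LowData.h0_cls, LowData.h0_cls]
  exact lowData_map g n fs _ _ _ (hB0 fs) (hB01 fs) rfl z.1

/-- `koszulHLim fs M 0 → M` -/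
noncomputable def Φ0 (M : ModuleCat.{u} A) : HL fs M (((0 : ℕ) : ℤ) - fs.length) →ₗ[A] M :=
  Module.DirectLimit.lift A ℕ _ _ (h0n fs M) (fun n m h x => h0n_tr fs M n m h x)

lemma Φ0_of (M : ModuleCat.{u} A) (n : ℕ)
    (x : (koszulCx M (fs.map (· ^ n))).homology (((0 : ℕ) : ℤ) - fs.length)) :
    Φ0 fs M (ofH fs M _ n x) = h0n fs M n x :=
  Module.DirectLimit.lift_of _ _ _

lemma Φ0_injective (M : ModuleCat.{u} A) : Function.Injective (Φ0 fs M) := by
  rw [injective_iff_map_eq_zero]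
  intro w hw
  obtain ⟨n, x, rfl⟩ := Module.DirectLimit.exists_of w
  rw [Φ0_of] at hw
  have h2 : x = 0 := (LD fs M n).h0_injective (hBm fs) (hB01 fs) (by
    rw [map_zero]
    exact hw)
  rw [h2, map_zero]

lemma Φ0_natural {M N : ModuleCat.{u} A} (g : M ⟶ N) (w : HL fs M (((0 : ℕ) : ℤ) - fs.length)) :
    Φ0 fs N (HLmap fs g _ w) = g.hom (Φ0 fs M w) := by
  obtain ⟨n, x, rfl⟩ := Module.DirectLimit.exists_of w
  rw [HLmap_of, Φ0_of, Φ0_of, h0n_map]

lemma exists_Φ0_eq_iff (M : ModuleCat.{u} A) (m : M) :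
    (∃ w, Φ0 fs M w = m) ↔ ∀ i : Fin fs.length, ∃ n : ℕ, fs.get i ^ n • m = 0 := by
  constructor
  · rintro ⟨w, rfl⟩ i
    obtain ⟨n, x, rfl⟩ := Module.DirectLimit.exists_of w
    rw [Φ0_of]
    exact ⟨n, (LD fs M n).smul_h0 (hBm fs) (hB01 fs) x i⟩
  · intro hm
    obtain ⟨n, hn⟩ := exists_uniform (fun i n => fs.get i ^ n • m = 0)
      (fun i n n' hnn' h => pow_smul_eq_zero_of_le hnn' h) hm
    obtain ⟨x, hx⟩ := (LD fs M n).exists_h0_eq (hBm fs) (hB01 fs) m hn
    exact ⟨ofH fs M _ n x, by rw [Φ0_of]; exact hx⟩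

lemma mem_torsionSub_iff (M : Type u) [AddCommGroup M] [Module A M] (m : M) :
    m ∈ DRing.torsionSub (Ideal.span {a | a ∈ fs}) M ↔
      ∀ i : Fin fs.length, ∃ n : ℕ, fs.get i ^ n • m = 0 := by
  constructor
  · rintro ⟨n, hn⟩ i
    have hmem : fs.get i ∈ Ideal.span {a | a ∈ fs} :=
      Ideal.subset_span (show fs.get i ∈ {a | a ∈ fs} from List.get_mem fs i)
    exact ⟨n, hn _ (Ideal.pow_mem_pow hmem n)⟩
  · intro h
    let J : Ideal A := LinearMap.ker (LinearMap.toSpanSingleton A M m)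
    have hJ : ∀ a : A, a ∈ J ↔ a • m = 0 := fun a => by
      simp only [J, LinearMap.mem_ker, LinearMap.toSpanSingleton_apply]
    have hle : Ideal.span {a | a ∈ fs} ≤ J.radical := by
      rw [Ideal.span_le]
      intro a ha
      obtain ⟨i, rfl⟩ := List.get_of_mem ha
      obtain ⟨n, hn⟩ := h i
      exact ⟨n, (hJ _).mpr hn⟩
    have hfg : (Ideal.span {a | a ∈ fs}).FG := Submodule.fg_span (List.finite_toSet fs)
    obtain ⟨N, hN⟩ := Ideal.exists_pow_le_of_le_radical_of_fg hle hfg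
    exact ⟨N, fun a ha => (hJ a).mp (hN ha)⟩

end Zero

section Functor

variable (fs : List A)

/-- direct-limit Koszul cohomology as a functor of the module -/
noncomputable def KF (p : ℕ) : ModuleCat.{u} A ⥤ ModuleCat.{u} A where
  obj M := ModuleCat.of A (HL fs M ((p : ℤ) - fs.length))
  map g := ModuleCat.ofHom (HLmap fs g ((p : ℤ) - fs.length))
  map_id M := by
    apply ModuleCat.hom_ext
    apply LinearMap.ext
    intro w
    exact HLmap_id_apply fs M _ w
  map_comp g h := by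
    apply ModuleCat.hom_ext
    apply LinearMap.ext
    intro w
    exact HLmap_comp_apply fs g h _ w

/-- `koszulHLim fs M 0 ≅ Γ_I(M)` -/
noncomputable def zeroEquiv (M : ModuleCat.{u} A) :
    HL fs M (((0 : ℕ) : ℤ) - fs.length) ≃ₗ[A] DRing.torsionSub (Ideal.span {a | a ∈ fs}) M :=
  LinearEquiv.ofBijective
    (LinearMap.codRestrict (DRing.torsionSub (Ideal.span {a | a ∈ fs}) M) (Φ0 fs M)
      (fun w => (mem_torsionSub_iff fs M _).mpr ((exists_Φ0_eq_iff fs M _).mp ⟨w, rfl⟩)))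
    ⟨fun x y h => Φ0_injective fs M (congrArg Subtype.val h), fun ⟨m, hm⟩ => by
      obtain ⟨w, hw⟩ := (exists_Φ0_eq_iff fs M m).mpr ((mem_torsionSub_iff fs M m).mp hm)
      exact ⟨w, Subtype.ext hw⟩⟩

/-- `H^0` of the direct-limit Koszul cohomology is the torsion functor -/
noncomputable def zeroIso : KF fs 0 ≅ DRing.gammaI (Ideal.span {a | a ∈ fs}) :=
  NatIso.ofComponents (fun M => (zeroEquiv fs M).toModuleIso) (fun {M N} g => by
    apply ModuleCat.hom_ext
    apply LinearMap.ext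
    intro w
    apply Subtype.ext
    exact Φ0_natural fs g w)

end Functor

section Delta

open Groth.Agent.Lib.Helper9.DeltaDerived

variable (fs : List A)

omit [CommRing A] in
lemma hsucc (n : ℕ) : ((n : ℕ) : ℤ) - fs.length + 1 = ((n + 1 : ℕ) : ℤ) - fs.length := by
  push_cast; ring

/-- direct-limit Koszul cohomology is an effaceable δ-functor (over a Noetherian ring) -/
noncomputable def effDelta [IsNoetherianRing A] : EffDelta (fun p => KF fs p) where
  δ S hS n := ModuleCat.ofHom (HLδ fs S hS ((n : ℤ) - fs.length) (((n + 1 : ℕ) : ℤ) - fs.length)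
    (hsucc fs n))
  δ_nat {S S'} hS hS' φ n := by
    apply ModuleCat.hom_ext
    apply LinearMap.ext
    intro w
    exact HLδ_nat fs hS hS' φ _ _ (hsucc fs n) w
  comp_δ S hS n := by
    apply ModuleCat.hom_ext
    apply LinearMap.ext
    intro w
    exact (HL_exact₃ fs S hS _ _ (hsucc fs n)).apply_apply_eq_zero w
  exact₃ S hS n := by
    rw [ShortComplex.moduleCat_exact_iff]
    intro z hz
    exact (HL_exact₃ fs S hS _ _ (hsucc fs n) z).mp hz
  δ_comp S hS n := by
    apply ModuleCat.hom_ext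
    apply LinearMap.ext
    intro w
    exact (HL_exact₁ fs S hS _ _ (hsucc fs n)).apply_apply_eq_zero w
  exact₁ S hS n := by
    rw [ShortComplex.moduleCat_exact_iff]
    intro z hz
    exact (HL_exact₁ fs S hS _ _ (hsucc fs n) z).mp hz
  isZero J _ n := by
    have hJ : Module.Injective A J := Module.injective_module_of_injective_object A J
    have hsub : Subsingleton (koszulHLim fs (ModuleCat.of A J) (n + 1)) :=
      Groth.Agent.Lib.R2H2.InjFlasque.subsingleton_koszulHLim A J fs (n + 1) (Nat.succ_pos n)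
    have hsub' : Subsingleton ((KF fs (n + 1)).obj J) := hsub
    exact ModuleCat.isZero_of_subsingleton _

instance additive_KF_zero : (KF fs 0).Additive :=
  Functor.additive_of_iso (zeroIso fs).symm

instance preservesFiniteLimits_KF_zero : PreservesFiniteLimits (KF fs 0) := by
  have : PreservesFiniteLimits (DRing.gammaI (Ideal.span {a | a ∈ fs})) :=
    preservesFiniteLimits_of_natIso (Groth.Agent.Lib.Helper9.LCDelta.zeroIso _)
  exact preservesFiniteLimits_of_natIso (zeroIso fs).symm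

/-- **Local cohomology is direct-limit Koszul cohomology**, as functors (Noetherian ring). -/
theorem nonempty_iso [IsNoetherianRing A] (p : ℕ) :
    Nonempty (KF fs p ≅ localCohomology (Ideal.span {a | a ∈ fs}) p) := by
  obtain ⟨e1⟩ := iso_rightDerived (effDelta fs) p
  obtain ⟨e2⟩ := Groth.Agent.Lib.Helper9.LCDelta.nonempty_iso (Ideal.span {a | a ∈ fs}) p
  exact ⟨e1 ≪≫ RDer.rightDerivedIso (zeroIso fs) p ≪≫ e2⟩

/-- elementwise form -/
theorem nonempty_linearEquiv [IsNoetherianRing A] (M : Type u) [AddCommGroup M] [Module A M]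
    (p : ℕ) :
    Nonempty (LocCoh.H (Ideal.span {a | a ∈ fs}) p M ≃ₗ[A] koszulHLim fs (ModuleCat.of A M) p) := by
  obtain ⟨e⟩ := nonempty_iso fs p
  exact ⟨((e.app (ModuleCat.of A M)).symm).toLinearEquiv⟩

end Delta

end Groth.Agent.Lib.R2H2.KoszulDelta
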