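import Groth.Agent.Lib.R2H2K0Epi
import Groth.Agent.Lib.R2H2FLFKernel
import Groth.Agent.Lib.R2H2KoszulPnT
import Groth.Agent.Lib.R2H2PushTwistK
import Groth.Agent.Lib.Helper1FLF1
import Groth.Agent.Lib.R2H2BinomRec
set_option backward.isDefEq.respectTransparency.types false

/-!
# The Koszul relation in `K(P^n_Y)` and `p_K [O(-i)] = 0` (helper2, round 2)

* `koszul_relation_Kvb` : `∑_{i=0}^{n+1} (-1)^i C(n+1,i) [O(a+i)] = 0` in `Kvb (P^n_Y)`;
* `main3761` : `p_K [O(-j)] = 0` for `1 ≤ j ≤ n`.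
-/

set_option autoImplicit false
universe u

open CategoryTheory CategoryTheory.Limits AlgebraicGeometry TopologicalSpace Opposite

namespace Groth.Agent.Lib.R2H2.KoszulK

section FLF

variable {X : Scheme.{u}}

theorem isFinLocFree_coprod (L : X.Modules) (hL : FlatMod.IsFinLocFree L) (b : ℕ) :
    FlatMod.IsFinLocFree (∐ fun _ : Fin b => L) :=
  Groth.Agent.Lib.Helper1.FLF.isFinLocFree_of_isColimit_cofan (fun _ : Fin b => L)
    (Cofan.mk (∐ fun _ : Fin b => L) (Sigma.ι (fun _ : Fin b => L)))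
    (coproductIsCoproduct _) Finset.univ (fun i hi => absurd (Finset.mem_univ i) hi)
    (fun _ => hL)

end FLF

variable (n : ℕ) (Y : Scheme.{u})

/-- **the Koszul relation in `Kvb (P^n_Y)`** -/
theorem koszul_relation_Kvb (a : ℤ) :
    ∑ i ∈ Finset.range (n + 1 + 1), (-1 : ℤ) ^ i • ((Nat.choose (n + 1) i) •
      KRR.cl (KRR.PY n Y) (KRR.twF n Y (a + i) (Coh.structureModule (KRR.PY n Y)))) = 0 := by
  have h := Groth.Agent.Lib.R2H2.K0Epi.koszul_relation
    (Groth.Agent.Lib.R2H2.KoszulPnT.KDT n Y (Coh.structureModule (KRR.PY n Y)) a)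
    (KRR.vbP (KRR.PY n Y))
    (fun Z hZ => Groth.Agent.Lib.R2H2.ProjOverPush.isFinLocFree_of_isZero Z hZ)
    (fun e h => Groth.Agent.Lib.R2H2.ProjOverPush.isFinLocFree_of_iso e h)
    (fun f hf hX hY => by
      haveI := hf
      exact Groth.Agent.Lib.R2H2.FLFKernel.isFinLocFree_kernel_of_epi f hX hY)
    (fun L hL b => isFinLocFree_coprod L hL b)
    (Groth.Agent.Lib.R2H2.KoszulPnT.exact_KDT n Y _ a)
    (Groth.Agent.Lib.R2H2.KoszulPnT.mono_KDT n Y _ a)
    (fun i => Groth.Agent.Lib.R2H2.PushTwistK.isFinLocFree_twF_structureModule n Y (a + i))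
  exact h

/-- S3761 -/
theorem main3761 {KP KY : Type*} [CommRing KP] [CommRing KY]
    (φP : SGA6.Kvb (KRR.PY n Y) →+ KP) (φY : SGA6.Kvb Y →+ KY)
    (hone : φY (KRR.cl Y (Coh.structureModule Y)) = 1)
    (g : KP →+ KY) (hg : KRR.IsPushPr n Y φP φY g) (j : ℕ) (hj : 1 ≤ j) (hjn : j ≤ n) :
    g (φP (KRR.cl (KRR.PY n Y) (KRR.twF n Y (-(j : ℤ)) (Coh.structureModule (KRR.PY n Y))))) =
      0 := by
  let u : ℤ → KY := fun d =>
    g (φP (KRR.cl (KRR.PY n Y) (KRR.twF n Y d (Coh.structureModule (KRR.PY n Y)))))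
  have hu_nat : ∀ m : ℕ, u (m : ℤ) = (Nat.choose (n + m) m : KY) := fun m =>
    Groth.Agent.Lib.R2H2.PushTwistK.main3760 n Y φP φY hone g hg m
  have hrel : ∀ a : ℤ, ∑ i ∈ Finset.range (n + 1 + 1),
      (-1 : ℤ) ^ i • ((Nat.choose (n + 1) i) • u (a + i)) = 0 := by
    intro a
    have h := congrArg (fun x => g (φP x)) (koszul_relation_Kvb n Y a)
    simp only [map_sum, map_zsmul, map_nsmul, map_zero] at h
    exact h
  exact Groth.Agent.Lib.R2H2.BinomRec.eq_zero_of_koszul_rec n u hu_nat hrel j hj hjn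

end Groth.Agent.Lib.R2H2.KoszulK
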