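import Groth.Agent.Lib.R2H2KoszulAbs

/-!
# The last differential of abstract Koszul data (helper2, round 2)

Namespace `Groth.Agent.Lib.R2H2.KoszulLast`.  For Koszul data `D` on `s + 1` elements:
`isoK : D.K s ≅ ⨁_{l : Fin (s+1)} D.G s`, `isoTop : D.K (s+1) ≅ D.G (s+1)`, `d_isoTop`,
`nonempty_kernel_d_iso`, `epi_desc_of_epi_d` (transported along isomorphisms of the `G`'s).
-/

set_option backward.isDefEq.respectTransparency.types false
set_option autoImplicit false
universe v u

namespace Groth.Agent.Lib.R2H2.KoszulLast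

open CategoryTheory CategoryTheory.Limits
open Groth.Agent.Lib.R2H2.KoszulAbs

section Abs

variable {s : ℕ}

/-- the complement of a singleton -/
def cS (l : Fin (s + 1)) : Finset (Fin (s + 1)) := Finset.univ.erase l

lemma card_cS (l : Fin (s + 1)) : (cS l).card = s := by
  rw [cS, Finset.card_erase_of_mem (Finset.mem_univ l), Finset.card_univ, Fintype.card_fin]
  rfl

lemma cS_injective : Function.Injective (cS (s := s)) := by
  intro l m h
  by_contra hlm
  have h1 : m ∈ cS l := Finset.mem_erase.2 ⟨fun h => hlm h.symm, Finset.mem_univ m⟩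
  rw [h] at h1
  exact (Finset.notMem_erase m Finset.univ) h1

lemma exists_cS (S : Finset (Fin (s + 1))) (hS : S.card = s) : ∃ l, S = cS l := by
  have h1 : Sᶜ.card = 1 := by
    rw [Finset.card_compl, Fintype.card_fin, hS]
    omega
  obtain ⟨l, hl⟩ := Finset.card_eq_one.1 h1
  refine ⟨l, ?_⟩
  rw [cS, ← compl_compl S, hl, Finset.compl_singleton]

variable {𝒟 : Type u} [Category.{v} 𝒟] [Preadditive 𝒟] [HasFiniteBiproducts 𝒟]
variable (D : KData 𝒟 (s + 1))

lemma sum_prj_inj : ∑ l : Fin (s + 1), D.prj s (cS l) ≫ D.inj s (cS l) = 𝟙 (D.K s) := by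
  classical
  rw [← D.total s, ← Finset.sum_image (f := fun S => D.prj s S ≫ D.inj s S)
    (fun l _ m _ h => cS_injective h)]
  refine Finset.sum_subset (Finset.subset_univ _) fun S _ hS => ?_
  have hc : S.card ≠ s := by
    intro hc
    obtain ⟨l, rfl⟩ := exists_cS S hc
    exact hS (Finset.mem_image_of_mem _ (Finset.mem_univ l))
  rw [D.prj_zero s S hc, zero_comp]

/-- the next-to-top Koszul term as a biproduct over `Fin (s + 1)` -/
noncomputable def isoK : D.K s ≅ ⨁ fun _ : Fin (s + 1) => D.G s where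
  hom := biproduct.lift fun l => eps l (cS l) • D.prj s (cS l)
  inv := biproduct.desc fun l => eps l (cS l) • D.inj s (cS l)
  hom_inv_id := by
    rw [biproduct.lift_desc, ← sum_prj_inj D]
    refine Finset.sum_congr rfl fun l _ => ?_
    rw [Preadditive.zsmul_comp, Preadditive.comp_zsmul, smul_smul, eps_mul_self, one_smul]
  inv_hom_id := by
    classical
    refine biproduct.hom_ext' _ _ fun l => biproduct.hom_ext _ _ fun m => ?_
    simp only [Category.assoc, biproduct.lift_π, biproduct.ι_desc_assoc, Category.comp_id]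
    rw [Preadditive.zsmul_comp, Preadditive.comp_zsmul, D.inj_prj, biproduct.ι_π]
    by_cases h : l = m
    · subst h
      rw [if_pos ⟨rfl, card_cS l⟩, dif_pos rfl, smul_smul, eps_mul_self, one_smul]
      rfl
    · rw [if_neg (fun h' => h (cS_injective h'.1)), dif_neg h, smul_zero, smul_zero]

/-- the top Koszul term -/
noncomputable def isoTop : D.K (s + 1) ≅ D.G (s + 1) where
  hom := D.prj (s + 1) Finset.univ
  inv := D.inj (s + 1) Finset.univ
  hom_inv_id := by
    have h := D.total (s + 1)
    rw [Finset.sum_eq_single Finset.univ] at h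
    · exact h
    · intro S _ hS
      have hc : S.card ≠ s + 1 := by
        intro hc
        apply hS
        apply Finset.eq_univ_of_card
        rw [hc, Fintype.card_fin]
      rw [D.prj_zero (s + 1) S hc, zero_comp]
    · intro h'
      exact absurd (Finset.mem_univ _) h'
  inv_hom_id := by
    rw [D.inj_prj, if_pos ⟨rfl, by rw [Finset.card_univ, Fintype.card_fin]⟩]

lemma d_isoTop :
    D.d s ≫ (isoTop D).hom = (isoK D).hom ≫ biproduct.desc fun l => D.X l s := by
  change D.d s ≫ D.prj (s + 1) Finset.univ = biproduct.lift _ ≫ _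
  rw [D.d_comp_prj s Finset.univ (by rw [Finset.card_univ, Fintype.card_fin]), biproduct.lift_desc]
  refine Finset.sum_congr rfl fun l _ => ?_
  rw [if_pos (Finset.mem_univ l), Preadditive.zsmul_comp]
  rfl

section Transport

variable {G' G'' : 𝒟} (a : D.G s ≅ G') (b : D.G (s + 1) ≅ G'') (x' : Fin (s + 1) → (G' ⟶ G''))
  (hx : ∀ l, D.X l s ≫ b.hom = a.hom ≫ x' l)

include hx in
lemma d_transport :
    D.d s ≫ ((isoTop D).hom ≫ b.hom) =
      ((isoK D).hom ≫ biproduct.map fun _ : Fin (s + 1) => a.hom) ≫ biproduct.desc x' := by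
  rw [← Category.assoc, d_isoTop, Category.assoc, Category.assoc]
  congr 1
  refine biproduct.hom_ext' _ _ fun l => ?_
  rw [biproduct.ι_desc_assoc, biproduct.ι_map_assoc, biproduct.ι_desc]
  exact hx l

/-- the biproduct of the isomorphisms `a` -/
noncomputable def mapIsoA :
    (⨁ fun _ : Fin (s + 1) => D.G s) ≅ ⨁ fun _ : Fin (s + 1) => G' :=
  biproduct.mapIso fun _ => a

include hx in
theorem nonempty_kernel_d_iso [HasKernels 𝒟] :
    Nonempty (kernel (D.d s) ≅ kernel (biproduct.desc x')) :=
  ⟨kernel.mapIso _ _ (isoK D ≪≫ mapIsoA D a) (isoTop D ≪≫ b) (d_transport D a b x' hx)⟩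

include hx in
theorem epi_desc_of_epi_d (h : Epi (D.d s)) : Epi (biproduct.desc x') := by
  have h1 := d_transport D a b x' hx
  have h2 : biproduct.desc x' =
      ((isoK D ≪≫ mapIsoA D a).inv ≫ D.d s) ≫ (isoTop D ≪≫ b).hom := by
    rw [Category.assoc]
    change _ = _ ≫ D.d s ≫ ((isoTop D).hom ≫ b.hom)
    rw [h1]
    change _ = (isoK D ≪≫ mapIsoA D a).inv ≫ (isoK D ≪≫ mapIsoA D a).hom ≫ _
    rw [Iso.inv_hom_id_assoc]
  rw [h2]
  infer_instance

end Transport

end Abs

end Groth.Agent.Lib.R2H2.KoszulLast
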