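import Groth.Agent.Lib.R2H2KoszulRel

/-!
# Koszul complexes: naturality and surjectivity of the last pushed-forward differential
(helper2, round 2)

* `agree_top` : two natural transformations `τ τ' : Φ₁ ⟶ Φ₂` which agree (after an additive functor
  `Q`) on `G s` agree on `G (s + 1)` as soon as `Q (Φ₁ (d s))` is an epimorphism;
* `epi_pushforward_of_van` : for a short exact sequence, `R¹ f_* X₁ = 0` implies `f_* X₂ ⟶ f_* X₃` epi;
* `epi_push_d_top` : for exact Koszul data with `r = s + 1`, `f_* (d s)` is an epimorphism as soon as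
  `R^{1 + (s - (i + 1))} f_* (G i) = 0` for `i < s`.
-/

set_option autoImplicit false
universe v₁ u₁ v₂ u₂ v₃ u₃ u

namespace Groth.Agent.Lib.R2H2.KoszulNat

open CategoryTheory CategoryTheory.Limits AlgebraicGeometry TopologicalSpace
open Groth.Agent.Lib.R2H2.KoszulAbs Groth.Agent.Lib.R2H2.KoszulShift
  Groth.Agent.Lib.R2H2.KoszulRel
open Groth.Agent.Lib.Helper23.QCohLocal

section Abstract

variable {𝒟 : Type u₁} [Category.{v₁} 𝒟] [Preadditive 𝒟] {ℰ : Type u₂} [Category.{v₂} ℰ]
  [Preadditive ℰ] {ℱ : Type u₃} [Category.{v₃} ℱ] [Preadditive ℱ]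
  {s : ℕ} (D : KData 𝒟 (s + 1)) {Φ₁ Φ₂ : 𝒟 ⥤ ℰ} (τ τ' : Φ₁ ⟶ Φ₂)
  (Q : ℰ ⥤ ℱ) [Q.Additive]

lemma app_K_eq [Φ₁.Additive] (i : ℕ) :
    τ.app (D.K i) =
      ∑ S : Finset (Fin (s + 1)), Φ₁.map (D.prj i S) ≫ τ.app (D.G i) ≫ Φ₂.map (D.inj i S) := by
  have h1 : τ.app (D.K i) = Φ₁.map (𝟙 (D.K i)) ≫ τ.app (D.K i) := by
    rw [CategoryTheory.Functor.map_id, Category.id_comp]
  rw [h1, ← D.total i, CategoryTheory.Functor.map_sum, Preadditive.sum_comp]
  refine Finset.sum_congr rfl (fun S _ => ?_)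
  rw [CategoryTheory.Functor.map_comp, Category.assoc, τ.naturality]

lemma app_G_top_eq :
    τ.app (D.G (s + 1)) =
      Φ₁.map (D.inj (s + 1) Finset.univ) ≫ τ.app (D.K (s + 1)) ≫
        Φ₂.map (D.prj (s + 1) Finset.univ) := by
  have h1 : D.inj (s + 1) Finset.univ ≫ D.prj (s + 1) Finset.univ = 𝟙 (D.G (s + 1)) := by
    rw [D.inj_prj, if_pos ⟨rfl, by rw [Finset.card_univ, Fintype.card_fin]⟩]
  rw [← Category.assoc, τ.naturality, Category.assoc, ← CategoryTheory.Functor.map_comp,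
    h1, CategoryTheory.Functor.map_id, Category.comp_id]

include Q in
theorem agree_top [Φ₁.Additive] (hepi : Epi (Q.map (Φ₁.map (D.d s))))
    (h : Q.map (τ.app (D.G s)) = Q.map (τ'.app (D.G s))) :
    Q.map (τ.app (D.G (s + 1))) = Q.map (τ'.app (D.G (s + 1))) := by
  have hK : Q.map (τ.app (D.K s)) = Q.map (τ'.app (D.K s)) := by
    rw [app_K_eq D τ s, app_K_eq D τ' s, CategoryTheory.Functor.map_sum,
      CategoryTheory.Functor.map_sum]
    refine Finset.sum_congr rfl (fun S _ => ?_)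
    rw [CategoryTheory.Functor.map_comp, CategoryTheory.Functor.map_comp,
      CategoryTheory.Functor.map_comp, CategoryTheory.Functor.map_comp, h]
  have hK' : Q.map (τ.app (D.K (s + 1))) = Q.map (τ'.app (D.K (s + 1))) := by
    rw [← cancel_epi (Q.map (Φ₁.map (D.d s))), ← CategoryTheory.Functor.map_comp,
      ← CategoryTheory.Functor.map_comp, τ.naturality, τ'.naturality,
      CategoryTheory.Functor.map_comp, CategoryTheory.Functor.map_comp, hK]
  rw [app_G_top_eq D τ, app_G_top_eq D τ', CategoryTheory.Functor.map_comp,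
    CategoryTheory.Functor.map_comp, CategoryTheory.Functor.map_comp,
    CategoryTheory.Functor.map_comp, hK']

end Abstract

section Push

variable {X Y : Scheme.{u}} (f : X ⟶ Y)

/-- `R¹ f_* X₁ = 0` implies `f_* X₂ ⟶ f_* X₃` epi -/
theorem epi_pushforward_of_van (S : ShortComplex X.Modules) (hS : S.ShortExact)
    (h : Van f 1 S.X₁) : Epi ((Scheme.Modules.pushforward f).map S.g) := by
  have hS' := shortExact_toAbF S hS
  obtain ⟨T⟩ := Groth.Agent.Lib.Helper17.RDerLib.nonempty_sesRes _ hS'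
  have hex := Groth.Agent.Lib.Helper17.RDerLib.exact₃ (Coh.pushAb f) T 0 1 rfl
  have hepi : Epi (((Coh.pushAb f).rightDerived 0).map ((toAbF X).map S.g)) :=
    hex.epi_f (h.eq_of_tgt _ _)
  haveI : PreservesLimitsOfSize.{0, 0} (Coh.pushAb f) :=
    (TopCat.Sheaf.pullbackPushforwardAdjunction AddCommGrpCat.{u} f.base).rightAdjoint_preservesLimits
  haveI : PreservesFiniteLimits (Coh.pushAb f) := PreservesLimitsOfSize.preservesFiniteLimits _
  let e := (Coh.pushAb f).rightDerivedZeroIsoSelf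
  have hnat : (Coh.pushAb f).map ((toAbF X).map S.g) =
      e.inv.app _ ≫ ((Coh.pushAb f).rightDerived 0).map ((toAbF X).map S.g) ≫ e.hom.app _ := by
    rw [e.hom.naturality, ← Category.assoc, Iso.inv_hom_id_app, Category.id_comp]
  have hepi2 : Epi ((Coh.pushAb f).map ((toAbF X).map S.g)) := by
    rw [hnat]
    infer_instance
  haveI : (toAbF Y).Faithful :=
    inferInstanceAs ((SheafOfModules.toSheaf Y.ringCatSheaf).Faithful)
  apply (toAbF Y).epi_of_epi_map
  exact hepi2

variable {s : ℕ} (D : KData X.Modules (s + 1))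
  (hex : ∀ i : ℕ, (ShortComplex.mk (D.d i) (D.d (i + 1)) (D.d_comp_d i)).Exact)
  (hmono : Mono (D.d 0))

include hex hmono in
/-- the last differential of an exact Koszul complex stays an epimorphism after `f_*` -/
theorem epi_push_d_top (h : ∀ i : ℕ, i < s → Van f (1 + (s - (i + 1))) (D.G i)) :
    Epi ((Scheme.Modules.pushforward f).map (D.d s)) := by
  have hS := ses_shortExact D hex s
  have h1 : Van f 1 (ses D s).X₁ := van_Z f D hex hmono s 1 h
  have hepi := epi_pushforward_of_van f (ses D s) hS h1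
  have h0 : D.d (s + 1) = 0 := (D.isZero_K (s + 1 + 1) (by omega)).eq_of_tgt _ _
  haveI : IsIso (kernel.ι (D.d (s + 1))) := kernel.ι_of_zero h0
  have hfac : D.d s = kernel.lift (D.d (s + 1)) (D.d s) (D.d_comp_d s) ≫ kernel.ι (D.d (s + 1)) :=
    (kernel.lift_ι _ _ _).symm
  haveI hepi' : Epi ((Scheme.Modules.pushforward f).map
      (kernel.lift (D.d (s + 1)) (D.d s) (D.d_comp_d s))) := hepi
  rw [hfac, CategoryTheory.Functor.map_comp]
  infer_instance

end Push

end Groth.Agent.Lib.R2H2.KoszulNat
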