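import Groth.Agent.Lib.R2H2CechKoszulU

/-!
# Vanishing of direct-limit Koszul cohomology for the unit ideal, and Čech acyclicity for a partition
of unity (helper2, round 2)

* `subsingleton_koszulHLim_of_levels`: if all the `H^p(f^n, M)` vanish, so does `H^p((f), M)`;
* `subsingleton_koszulHLim_of_span_eq_top`: if the `f_i` generate the unit ideal, `H^p((f), M) = 0`;
* `nonempty_homology_addEquiv_cast`: reindexing a Čech complex along an equality of lengths;
* `cech_isZero_of_partition`: EGA III 1.4.? — Čech acyclicity of the family `X_{f_i}` when the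
  `f_i|_U` generate the unit ideal of `Γ(U, O_X)`, `U = ⋃ X_{f_i}`.
-/

set_option autoImplicit false
universe u

namespace Groth.Agent.Lib.R2H2.KoszulUnit

open CategoryTheory CategoryTheory.Limits AlgebraicGeometry TopologicalSpace Opposite CohIII
open Groth.Agent.Lib.Helper16.CechLow Groth.Agent.Lib.R2H2.LocPsh Groth.Agent.Lib.R2H2.CechCmp
  Groth.Agent.Lib.R2H2.CechKoszulGeom Groth.Agent.Lib.R2H2.CechKoszulU Groth.Agent.Helper13Kz

section Alg

variable {A : Type u} [CommRing A]

theorem subsingleton_koszulHLim_of_levels (fs : List A) (M : ModuleCat.{u} A) (p : ℕ)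
    (h : ∀ n, Subsingleton (koszulHPow fs M p n)) : Subsingleton (koszulHLim fs M p) := by
  have key : ∀ z : Module.DirectLimit (fun n : ℕ => (koszulHPow fs M p n : Type u))
      (fun n m h => (HomologicalComplex.homologyMap (koszulTrans M n m h fs)
        ((p : ℤ) - fs.length)).hom), z = 0 := by
    intro z
    obtain ⟨n, w, rfl⟩ := Module.DirectLimit.exists_of z
    rw [Subsingleton.elim w 0, map_zero]
  exact ⟨fun x y => (key x).trans (key y).symm⟩

theorem subsingleton_koszulHLim_of_span_eq_top (fs : List A)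
    (hfs : Ideal.span {x | x ∈ fs} = ⊤)
    (M : Type u) [AddCommGroup M] [Module A M] (p : ℕ) :
    Subsingleton (koszulHLim fs (ModuleCat.of A M) p) := by
  apply subsingleton_koszulHLim_of_levels
  intro n
  have h1 : (1 : A) ∈ Ideal.span {x | x ∈ fs.map (· ^ n)} := by
    have h2 : Ideal.span ((fun x => x ^ n) '' {x | x ∈ fs}) = ⊤ := Ideal.span_pow_eq_top _ hfs n
    have h3 : {x | x ∈ fs.map (· ^ n)} = (fun x => x ^ n) '' {x | x ∈ fs} := by
      ext y
      simp [List.mem_map]
    rw [h3, h2]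
    trivial
  have key : ∀ z : KH (fs.map (· ^ n)) M ((p : ℤ) - fs.length), z = 0 := by
    intro z
    have hz := smul_KH_eq_zero_of_mem M (fs.map (· ^ n)) 1 h1 ((p : ℤ) - fs.length) z
    rwa [one_smul] at hz
  exact ⟨fun x y => (key x).trans (key y).symm⟩

end Alg

section Reindex

universe v u₁

theorem nonempty_homology_addEquiv_cast {C : Type u₁} [Category.{v} C] [HasFiniteProducts C]
    (P : Cᵒᵖ ⥤ AddCommGrpCat.{u}) {n m : ℕ} (h : n = m)
    (U : ULift.{u} (Fin n) → C) (U' : ULift.{u} (Fin m) → C)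
    (hU : ∀ i : Fin n, U ⟨i⟩ = U' ⟨Fin.cast h i⟩) (q : ℕ) :
    Nonempty (((CK U P).homology q : AddCommGrpCat.{u}) ≃+
      ((CK U' P).homology q : AddCommGrpCat.{u})) := by
  subst h
  have : U = U' := by
    funext ⟨i⟩
    exact hU i
  subst this
  exact ⟨AddEquiv.refl _⟩

end Reindex

section Geom

theorem cech_isZero_of_partition (X : Scheme.{u}) [X.IsSeparated] (fs : List Γ(X, ⊤))
    (hqc : ∀ i : Fin fs.length, IsCompact (X.basicOpen (fs.get i) : Set X))
    (g : Fin fs.length → Γ(X, UU fs))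
    (hg : (Finset.univ.sum fun i => g i *
      (X.presheaf.map (homOfLE (le_top : UU fs ≤ ⊤)).op).hom (fs.get i)) = 1)
    (G : X.Modules) [G.IsQuasicoherent] (p : ℕ) (hp : 0 < p) :
    IsZero ((CK (Ugeom fs) G.presheaf).homology p : AddCommGrpCat.{u}) := by
  have hUc : IsCompact ((UU fs : X.Opens) : Set X) := by
    have h1 : ((UU fs : X.Opens) : Set X) =
        ⋃ i : Fin fs.length, (X.basicOpen (fs.get i) : Set X) := by
      simp [UU]
    rw [h1]
    exact isCompact_iUnion hqc
  have : CompactSpace (UU fs).toScheme := isCompact_iff_compactSpace.mp hUc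
  have : QuasiSeparatedSpace (UU fs).toScheme :=
    QuasiSeparatedSpace.of_isOpenEmbedding (UU fs).ι.isOpenEmbedding
  have : (G.restrict (UU fs).ι).IsQuasicoherent :=
    Scheme.Modules.isQuasicoherent_restrictFunctor _ G
  -- the restricted functions
  let fs' : List Γ((UU fs).toScheme, ⊤) := fs.map (fun a => (UU fs).ι.appTop.hom a)
  have hlen : fs.length = fs'.length := (List.length_map _).symm
  -- they generate the unit ideal
  have hcomp : X.presheaf.map (homOfLE (le_top : UU fs ≤ ⊤)).op ≫ (UU fs).topIso.inv =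
      (UU fs).ι.appTop := by
    rw [Scheme.Opens.ι_appTop, Scheme.Opens.topIso_inv]
    exact (X.presheaf.map_comp _ _).symm
  have hφ : ∀ a : Γ(X, ⊤), ((UU fs).topIso.inv).hom
      ((X.presheaf.map (homOfLE (le_top : UU fs ≤ ⊤)).op).hom a) = (UU fs).ι.appTop.hom a := by
    intro a
    rw [← hcomp]
    rfl
  have hone : (1 : Γ((UU fs).toScheme, ⊤)) ∈ Ideal.span {x | x ∈ fs'} := by
    have h1 : ((UU fs).topIso.inv).hom (Finset.univ.sum fun i => g i *
        (X.presheaf.map (homOfLE (le_top : UU fs ≤ ⊤)).op).hom (fs.get i)) = 1 := by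
      rw [hg, map_one]
    rw [map_sum] at h1
    rw [← h1]
    refine Ideal.sum_mem _ (fun i _ => ?_)
    rw [map_mul, hφ]
    refine Ideal.mul_mem_left _ _ (Ideal.subset_span ?_)
    exact List.mem_map.mpr ⟨fs.get i, List.get_mem _ _, rfl⟩
  have htop : Ideal.span {x | x ∈ fs'} = ⊤ := (Ideal.eq_top_iff_one _).mpr hone
  have hsub := subsingleton_koszulHLim_of_span_eq_top fs' htop
    ((G.restrict (UU fs).ι).val.obj (op ⊤)) (p + 1)
  obtain ⟨e2⟩ := nonempty_cech_addEquiv fs G p
  obtain ⟨e3⟩ := cech_basicOpens_koszul (G.restrict (UU fs).ι) fs' p hp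
  obtain ⟨e4⟩ := nonempty_homology_addEquiv_cast (G.restrict (UU fs).ι).presheaf hlen
    (VV fs) (Ugeom fs') (by
      intro i
      change (UU fs).ι ⁻¹ᵁ X.basicOpen (fs.get i) =
        (UU fs).toScheme.basicOpen (fs'.get (Fin.cast hlen i))
      rw [Scheme.preimage_basicOpen_top]
      congr 1
      simp [fs']) p
  have : Subsingleton ((CK (Ugeom fs) G.presheaf).homology p : AddCommGrpCat.{u}) :=
    (e2.symm.trans (e4.trans e3)).toEquiv.subsingleton
  exact AddCommGrpCat.isZero_of_subsingleton _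

end Geom

end Groth.Agent.Lib.R2H2.KoszulUnit
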