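import Groth.Agent.Lib.R2H2KoszulTop
import Groth.Agent.Lib.R2H2KoszulUnit
import Groth.Agent.Lib.Helper13KzTor

/-!
# Direct-limit Koszul cohomology of a polynomial ring with respect to the variables
(helper2, round 2; EGA III 2.1.?)

* `Psi n`: the `A`-linear "reversal" map `X^a ↦ X^(n-1-a)` (for `a` in the box `< n`, zero outside);
* `isWeaklyRegular_X_pow`: the powers of the variables form a weakly regular sequence;
* `subsingleton_koszulHLim_X`, `free_koszulHLim_X`.
-/

set_option autoImplicit false
universe u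

namespace Groth.Agent.Lib.R2H2.KoszulPoly

open MvPolynomial CohIII
open Groth.Agent.Lib.R2H2.KoszulTop Groth.Agent.Lib.R2H2.KoszulLim Groth.Agent.Lib.R2H2.KoszulUnit

section Comb

variable {A : Type u} [CommRing A] {σ : Type} [Fintype σ]

/-- all exponents `< n` -/
def InBox (n : ℕ) (a : σ →₀ ℕ) : Prop := ∀ j, a j < n

noncomputable instance (n : ℕ) (a : σ →₀ ℕ) : Decidable (InBox n a) := Classical.dec _

/-- reversal of exponents -/
noncomputable def rev (n : ℕ) (a : σ →₀ ℕ) : σ →₀ ℕ :=
  Finsupp.equivFunOnFinite.symm (fun j => n - 1 - a j)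

@[simp] lemma rev_apply (n : ℕ) (a : σ →₀ ℕ) (j : σ) : rev n a j = n - 1 - a j := rfl

/-- constant exponent vector -/
noncomputable def ones (k : ℕ) : σ →₀ ℕ := Finsupp.equivFunOnFinite.symm (fun _ => k)

@[simp] lemma ones_apply (k : ℕ) (j : σ) : (ones k : σ →₀ ℕ) j = k := rfl

variable (A) in
/-- the reversal map -/
noncomputable def Psi (n : ℕ) : MvPolynomial σ A →ₗ[A] MvPolynomial σ A :=
  (basisMonomials σ A).constr A
    (fun a => if InBox n a then monomial (rev n a) (1 : A) else 0)

lemma Psi_monomial (n : ℕ) (a : σ →₀ ℕ) (c : A) :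
    Psi A n (monomial a c) = if InBox n a then monomial (rev n a) c else 0 := by
  have h1 : monomial a c = c • (basisMonomials σ A a) := by
    rw [coe_basisMonomials, smul_monomial, smul_eq_mul, mul_one]
  rw [h1, map_smul, Psi, Module.Basis.constr_basis]
  split_ifs
  · rw [smul_monomial, smul_eq_mul, mul_one]
  · rw [smul_zero]

lemma Psi_X_pow_mul (n : ℕ) (j : σ) (p : MvPolynomial σ A) : Psi A n (X j ^ n * p) = 0 := by
  induction p using MvPolynomial.induction_on' with
  | monomial a c =>
    rw [X_pow_eq_monomial, monomial_mul, Psi_monomial, if_neg]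
    intro h
    have := h j
    simp only [Finsupp.add_apply, Finsupp.single_eq_same] at this
    omega
  | add p q hp hq => rw [mul_add, map_add, hp, hq, add_zero]

lemma Psi_ones_mul (n m : ℕ) (h : n ≤ m) (p : MvPolynomial σ A) :
    Psi A m (monomial (ones (m - n)) 1 * p) = Psi A n p := by
  induction p using MvPolynomial.induction_on' with
  | monomial a c =>
    rw [monomial_mul, one_mul, Psi_monomial, Psi_monomial]
    have hb : InBox m (ones (m - n) + a) ↔ InBox n a := by
      constructor
      · intro hh j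
        have := hh j
        simp only [Finsupp.add_apply, ones_apply] at this
        omega
      · intro hh j
        have := hh j
        simp only [Finsupp.add_apply, ones_apply]
        omega
    by_cases ha : InBox n a
    · rw [if_pos ha, if_pos (hb.mpr ha)]
      have hrev : rev m (ones (m - n) + a) = rev n a := by
        ext j
        have := ha j
        simp only [rev_apply, Finsupp.add_apply, ones_apply]
        omega
      rw [hrev]
    · rw [if_neg ha, if_neg (mt hb.mp ha)]
  | add p q hp hq => rw [mul_add, map_add, map_add, hp, hq]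

lemma coeff_rev_Psi (n : ℕ) (a₀ : σ →₀ ℕ) (h₀ : InBox n a₀) (p : MvPolynomial σ A) :
    coeff (rev n a₀) (Psi A n p) = coeff a₀ p := by
  classical
  induction p using MvPolynomial.induction_on' with
  | monomial a c =>
    rw [Psi_monomial]
    by_cases ha : InBox n a
    · have hiff : rev n a = rev n a₀ ↔ a = a₀ := by
        constructor
        · intro hh
          ext j
          have h1 := DFunLike.congr_fun hh j
          simp only [rev_apply] at h1
          have := ha j
          have := h₀ j
          omega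
        · intro hh
          rw [hh]
      rw [if_pos ha, coeff_monomial, coeff_monomial]
      by_cases haa : a = a₀
      · rw [if_pos haa, if_pos (hiff.mpr haa)]
      · rw [if_neg haa, if_neg (mt hiff.mp haa)]
    · rw [if_neg ha, coeff_zero, coeff_monomial, if_neg]
      rintro rfl
      exact ha h₀
  | add p q hp hq => rw [map_add, coeff_add, coeff_add, hp, hq]

lemma mem_span_of_Psi_eq_zero (n : ℕ) (p : MvPolynomial σ A) (h : Psi A n p = 0) :
    p ∈ Ideal.span (Set.range fun j : σ => (X j ^ n : MvPolynomial σ A)) := by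
  have h1 : (Set.range fun j : σ => (X j ^ n : MvPolynomial σ A)) =
      (fun s => monomial s (1 : A)) '' (Set.range fun j : σ => Finsupp.single j n) := by
    rw [← Set.range_comp]
    congr 1
    funext j
    simp only [Function.comp_apply, X_pow_eq_monomial]
  rw [h1, mem_ideal_span_monomial_image]
  intro a ha
  by_contra hcon
  push Not at hcon
  have hbox : InBox n a := by
    intro j
    by_contra hj
    push Not at hj
    exact hcon (Finsupp.single j n) ⟨j, rfl⟩ (Finsupp.single_le_iff.mpr hj)
  have h2 := coeff_rev_Psi n a hbox p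
  rw [h, coeff_zero] at h2
  exact (mem_support_iff.mp ha) h2.symm

lemma exists_Psi_eq (q : MvPolynomial σ A) : ∃ (n : ℕ) (p : MvPolynomial σ A), Psi A n p = q := by
  induction q using MvPolynomial.induction_on' with
  | monomial b c =>
    have hb : InBox (Finset.univ.sup b + 1) b := fun j =>
      Nat.lt_succ_of_le (Finset.le_sup (f := b) (Finset.mem_univ j))
    refine ⟨Finset.univ.sup b + 1, monomial (rev (Finset.univ.sup b + 1) b) c, ?_⟩
    rw [Psi_monomial, if_pos]
    · have hrev : rev (Finset.univ.sup b + 1) (rev (Finset.univ.sup b + 1) b) = b := by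
        ext j
        have := hb j
        simp only [rev_apply]
        omega
      rw [hrev]
    · intro j
      have := hb j
      simp only [rev_apply]
      omega
  | add q₁ q₂ h₁ h₂ =>
    obtain ⟨n1, p1, rfl⟩ := h₁
    obtain ⟨n2, p2, rfl⟩ := h₂
    refine ⟨max n1 n2, monomial (ones (max n1 n2 - n1)) 1 * p1 +
      monomial (ones (max n1 n2 - n2)) 1 * p2, ?_⟩
    rw [map_add, Psi_ones_mul _ _ (le_max_left _ _), Psi_ones_mul _ _ (le_max_right _ _)]

lemma prod_X_pow (k : ℕ) :
    (∏ j : σ, (X j : MvPolynomial σ A)) ^ k = monomial (ones k) 1 := by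
  rw [← Finset.prod_pow, monomial_eq, C_1, one_mul, Finsupp.prod_fintype]
  · rfl
  · intro i
    exact pow_zero _

end Comb

section Reg

variable {A : Type u} [CommRing A]

lemma mem_take_ofFn {α : Type*} {k : ℕ} (g : Fin k → α) (i : ℕ) (x : α) :
    x ∈ (List.ofFn g).take i ↔ ∃ j : Fin k, j.val < i ∧ g j = x := by
  rw [List.mem_take_iff_getElem]
  constructor
  · rintro ⟨t, ht, rfl⟩
    rw [List.length_ofFn] at ht
    exact ⟨⟨t, by omega⟩, by simp only; omega, by simp⟩
  · rintro ⟨j, hj, rfl⟩
    exact ⟨j.val, by rw [List.length_ofFn]; have := j.isLt; omega, by simp⟩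

/-- the powers of the variables form a weakly regular sequence of the polynomial ring -/
theorem isWeaklyRegular_X_pow (k n : ℕ) :
    RingTheory.Sequence.IsWeaklyRegular (MvPolynomial (Fin k) A)
      (List.ofFn fun j : Fin k => (X j ^ n : MvPolynomial (Fin k) A)) := by
  constructor
  intro i hi
  rw [List.length_ofFn] at hi
  rw [isSMulRegular_quotient_iff_mem_of_smul_mem]
  have hI : (Ideal.ofList ((List.ofFn fun j : Fin k =>
        (X j ^ n : MvPolynomial (Fin k) A)).take i) • ⊤ :
        Submodule (MvPolynomial (Fin k) A) (MvPolynomial (Fin k) A)) =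
      Ideal.span ((fun s => monomial s (1 : A)) ''
        {s | ∃ j : Fin k, j.val < i ∧ s = Finsupp.single j n}) := by
    rw [smul_eq_mul, Ideal.mul_top]
    unfold Ideal.ofList
    congr 1
    ext x
    simp only [Set.mem_ofPred_eq, mem_take_ofFn, Set.mem_image]
    constructor
    · rintro ⟨j, hj, rfl⟩
      exact ⟨Finsupp.single j n, ⟨j, hj, rfl⟩, (X_pow_eq_monomial).symm⟩
    · rintro ⟨s, ⟨j, hj, rfl⟩, rfl⟩
      exact ⟨j, hj, X_pow_eq_monomial⟩
  rw [hI]
  intro p hp
  rw [List.getElem_ofFn, smul_eq_mul, X_pow_eq_monomial] at hp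
  rw [mem_ideal_span_monomial_image] at hp ⊢
  intro a ha
  have h1 : Finsupp.single (⟨i, hi⟩ : Fin k) n + a ∈
      (monomial (Finsupp.single (⟨i, hi⟩ : Fin k) n) 1 * p).support := by
    rw [mem_support_iff, coeff_monomial_mul, one_mul]
    exact mem_support_iff.mp ha
  obtain ⟨s, ⟨j, hj, rfl⟩, hs⟩ := hp _ h1
  refine ⟨Finsupp.single j n, ⟨j, hj, rfl⟩, ?_⟩
  rw [Finsupp.single_le_iff] at hs ⊢
  have hne : (⟨i, hi⟩ : Fin k) ≠ j := by
    intro h
    rw [← h] at hj
    simp at hj
  rw [Finsupp.add_apply, Finsupp.single_apply, if_neg hne, zero_add] at hs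
  exact hs

end Reg

section Main

variable (A : Type u) [CommRing A] (r : ℕ)

/-- the list of variables -/
noncomputable abbrev vars : List (MvPolynomial (Fin (r + 1)) A) :=
  List.ofFn (fun j : Fin (r + 1) => (X j : MvPolynomial (Fin (r + 1)) A))

theorem subsingleton_koszulHLim_X (i : ℕ) (hi : i ≠ r + 1) :
    Subsingleton (koszulHLim (vars A r)
      (ModuleCat.of (MvPolynomial (Fin (r + 1)) A) (MvPolynomial (Fin (r + 1)) A)) i) := by
  apply subsingleton_koszulHLim_of_levels
  intro n
  have hreg : RingTheory.Sequence.IsWeaklyRegular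
      (ModuleCat.of (MvPolynomial (Fin (r + 1)) A) (MvPolynomial (Fin (r + 1)) A))
      ((vars A r).map (· ^ n)) := by
    have := isWeaklyRegular_X_pow (A := A) (r + 1) n
    rw [vars, List.map_ofFn]
    exact this
  have hne : ((i : ℤ) - ((vars A r).length : ℤ)) ≠ 0 := by
    rw [vars, List.length_ofFn]
    push_cast
    omega
  exact ModuleCat.subsingleton_of_isZero
    (Groth.Agent.Helper13Kz.isZero_KH_of_weaklyRegular _ _ hreg _ hne)

theorem exists_equiv_koszulHLim_X (j : ℤ) (hj : j = 0) :
    ∃ e : Module.DirectLimit (fun n : ℕ => ((koszulCx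
        (ModuleCat.of (MvPolynomial (Fin (r + 1)) A) (MvPolynomial (Fin (r + 1)) A))
        ((vars A r).map (· ^ n))).homology j : Type u))
      (fun n m h => (HomologicalComplex.homologyMap (koszulTrans
        (ModuleCat.of (MvPolynomial (Fin (r + 1)) A) (MvPolynomial (Fin (r + 1)) A)) n m h
        (vars A r)) j).hom) ≃+ MvPolynomial (Fin (r + 1)) A,
      ∀ (a : A) z, e (algebraMap A (MvPolynomial (Fin (r + 1)) A) a • z) = a • e z := by
  subst hj
  have hker : ∀ (n : ℕ) (x : MvPolynomial (Fin (r + 1)) A),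
      piTop (A := MvPolynomial (Fin (r + 1)) A) (MvPolynomial (Fin (r + 1)) A)
        ((vars A r).map (· ^ n)) x = 0 → Psi A n x = 0 := by
    intro n x hx
    rw [piTop_eq_zero_iff] at hx
    refine InBd.map_eq_zero (Psi A n).toAddMonoidHom _ ?_ x hx
    intro g hg a
    rw [List.mem_map] at hg
    obtain ⟨g0, hg0, rfl⟩ := hg
    rw [List.mem_ofFn] at hg0
    obtain ⟨j, rfl⟩ := hg0
    exact Psi_X_pow_mul n j a
  choose ψ hψ using fun n : ℕ => exists_descend
    (piTop (A := MvPolynomial (Fin (r + 1)) A) (MvPolynomial (Fin (r + 1)) A)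
      ((vars A r).map (· ^ n))).toAddMonoidHom
    (piTop_surjective (A := MvPolynomial (Fin (r + 1)) A) (MvPolynomial (Fin (r + 1)) A)
      ((vars A r).map (· ^ n)))
    (Psi A n).toAddMonoidHom (hker n)
  have hψ' : ∀ (n : ℕ) (x : MvPolynomial (Fin (r + 1)) A),
      ψ n (piTop (A := MvPolynomial (Fin (r + 1)) A) (MvPolynomial (Fin (r + 1)) A)
        ((vars A r).map (· ^ n)) x) = Psi A n x := hψ
  have hprod : ∀ k : ℕ, (vars A r).prod ^ k = monomial (ones k) 1 := by
    intro k
    rw [vars, List.prod_ofFn]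
    exact prod_X_pow k
  obtain ⟨e, he⟩ := exists_addEquiv_of_compat (R := MvPolynomial (Fin (r + 1)) A)
    (G := fun n : ℕ => ((koszulCx
        (ModuleCat.of (MvPolynomial (Fin (r + 1)) A) (MvPolynomial (Fin (r + 1)) A))
        ((vars A r).map (· ^ n))).homology 0 : Type u))
    (fun n m h => (HomologicalComplex.homologyMap (koszulTrans
        (ModuleCat.of (MvPolynomial (Fin (r + 1)) A) (MvPolynomial (Fin (r + 1)) A)) n m h
        (vars A r)) 0).hom)
    (fun n x => trH_self (vars A r) _ 0 n x)
    (fun n m k h h' x => trH_trH (vars A r) _ 0 n m k h h' x)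
    ψ
    (by
      intro n m h w
      obtain ⟨x, rfl⟩ := piTop_surjective (A := MvPolynomial (Fin (r + 1)) A)
        (MvPolynomial (Fin (r + 1)) A) ((vars A r).map (· ^ n)) w
      rw [homologyMap_trans_piTop, hψ', hψ', hprod, smul_eq_mul, Psi_ones_mul n m h])
    (by
      intro n w hw
      obtain ⟨x, rfl⟩ := piTop_surjective (A := MvPolynomial (Fin (r + 1)) A)
        (MvPolynomial (Fin (r + 1)) A) ((vars A r).map (· ^ n)) w
      rw [hψ'] at hw
      rw [piTop_eq_zero_iff]
      apply inBd_of_mem_span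
      refine Ideal.span_mono ?_ (mem_span_of_Psi_eq_zero n x hw)
      rintro _ ⟨j, rfl⟩
      exact List.mem_map.mpr ⟨X j, List.mem_ofFn.mpr ⟨j, rfl⟩, rfl⟩)
    (by
      intro q
      obtain ⟨n, p, rfl⟩ := exists_Psi_eq (A := A) q
      exact ⟨n, _, hψ' n p⟩)
  refine ⟨e, ?_⟩
  intro a z
  obtain ⟨n, w, rfl⟩ := Module.DirectLimit.exists_of z
  obtain ⟨x, rfl⟩ := piTop_surjective (A := MvPolynomial (Fin (r + 1)) A)
    (MvPolynomial (Fin (r + 1)) A) ((vars A r).map (· ^ n)) w
  rw [← map_smul, ← map_smul, he, he, hψ', hψ', algebraMap_smul, map_smul]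

theorem free_koszulHLim_X :
    Module.Free A (RestrictScalars A (MvPolynomial (Fin (r + 1)) A) (koszulHLim (vars A r)
      (ModuleCat.of (MvPolynomial (Fin (r + 1)) A) (MvPolynomial (Fin (r + 1)) A)) (r + 1))) := by
  obtain ⟨e, he⟩ := exists_equiv_koszulHLim_X A r ((((r + 1 : ℕ) : ℤ)) - ((vars A r).length : ℤ))
    (by rw [vars, List.length_ofFn]; simp)
  exact Module.Free.of_equiv (restrictScalarsEquiv (M := koszulHLim (vars A r)
      (ModuleCat.of (MvPolynomial (Fin (r + 1)) A) (MvPolynomial (Fin (r + 1)) A)) (r + 1))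
    e he).symm

end Main

end Groth.Agent.Lib.R2H2.KoszulPoly
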