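import Groth.Agent.Lib.R2H2KoszulShift
import Groth.Agent.Lib.Helper17RDer6
import Groth.Agent.Lib.Helper23QCohExt
import Groth.Prelude.Def_Coh

/-!
# Dimension shifting along an exact Koszul complex for higher direct images (helper2, round 2)

* `rightDerived_additive` : the right derived functors of an additive functor are additive;
* `Van f q M` : `R^q f_* M = 0` (higher direct images of the underlying abelian sheaf);
* `van_X₂`, `van_X₃` : the long exact sequence, in the form of vanishing statements;
* `van_G_top` : for exact Koszul data `D` in `X.Modules`, `R^q f_* (G r) = 0` as soon as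
  `R^{q + (r - (i+1))} f_* (G i) = 0` for all `i < r`.
-/

set_option autoImplicit false
universe v₁ u₁ v₂ u₂ u

namespace Groth.Agent.Lib.R2H2.KoszulRel

open CategoryTheory CategoryTheory.Limits AlgebraicGeometry TopologicalSpace
open Groth.Agent.Lib.R2H2.KoszulAbs Groth.Agent.Lib.R2H2.KoszulShift
open Groth.Agent.Lib.Helper23.QCohLocal

section Additive

variable {C : Type u₁} [Category.{v₁} C] [Abelian C] [HasInjectiveResolutions C]
  {D : Type u₂} [Category.{v₂} D] [Abelian D]

/-- the right derived functors of an additive functor are additive -/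
theorem rightDerived_additive (F : C ⥤ D) [F.Additive] (n : ℕ) : (F.rightDerived n).Additive where
  map_add := by
    intro X Y f g
    have hφ := InjectiveResolution.desc_commutes f (injectiveResolution Y) (injectiveResolution X)
    have hψ := InjectiveResolution.desc_commutes g (injectiveResolution Y) (injectiveResolution X)
    have h : (injectiveResolution X).ι ≫
        (InjectiveResolution.desc f (injectiveResolution Y) (injectiveResolution X) +
          InjectiveResolution.desc g (injectiveResolution Y) (injectiveResolution X)) =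
        (CochainComplex.single₀ C).map (f + g) ≫ (injectiveResolution Y).ι := by
      rw [Preadditive.comp_add, hφ, hψ, Functor.map_add, Preadditive.add_comp]
    rw [Functor.rightDerived_map_eq F n (f + g) _ h, Functor.rightDerived_map_eq F n f _ hφ,
      Functor.rightDerived_map_eq F n g _ hψ, Functor.map_add, Preadditive.add_comp,
      Preadditive.comp_add]

end Additive

variable {X Y : Scheme.{u}} (f : X ⟶ Y)

/-- `R^q f_*` on modules -/
noncomputable def TT (q : ℕ) :
    X.Modules ⥤ Sheaf (Opens.grothendieckTopology Y) AddCommGrpCat.{u} :=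
  toAbF X ⋙ Coh.RpushAb f q

noncomputable instance (q : ℕ) : (TT f q).Additive := by
  haveI := rightDerived_additive (Coh.pushAb f) q
  unfold TT
  infer_instance

/-- `R^q f_* M = 0` -/
def Van (q : ℕ) (M : X.Modules) : Prop :=
  IsZero ((Coh.RpushAb f q).obj (Coh.toAb M))

lemma van_iff (q : ℕ) (M : X.Modules) : Van f q M ↔ IsZero ((TT f q).obj M) := Iff.rfl

lemma van_of_isZero (q : ℕ) {M : X.Modules} (h : IsZero M) : Van f q M :=
  (van_iff f q M).2 ((TT f q).map_isZero h)

lemma van_of_iso (q : ℕ) {M N : X.Modules} (e : M ≅ N) (h : Van f q M) : Van f q N :=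
  (van_iff f q N).2 (IsZero.of_iso ((van_iff f q M).1 h) ((TT f q).mapIso e.symm))

lemma van_of_retract (q : ℕ) {M N : X.Modules} (i : M ⟶ N) (p : N ⟶ M) (h : i ≫ p = 𝟙 M)
    (hN : Van f q N) : Van f q M := by
  have hN' := (van_iff f q N).1 hN
  have h1 : (TT f q).map i ≫ (TT f q).map p = 𝟙 _ := by
    rw [← CategoryTheory.Functor.map_comp, h, CategoryTheory.Functor.map_id]
  rw [van_iff, IsZero.iff_id_eq_zero, ← h1, hN'.eq_of_tgt ((TT f q).map i) 0, zero_comp]

section LES

variable (S : ShortComplex X.Modules) (hS : S.ShortExact)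

include hS in
theorem van_X₃ (q : ℕ) (h₂ : Van f q S.X₂) (h₁ : Van f (q + 1) S.X₁) : Van f q S.X₃ := by
  have hS' := shortExact_toAbF S hS
  obtain ⟨T⟩ := Groth.Agent.Lib.Helper17.RDerLib.nonempty_sesRes _ hS'
  have hex := Groth.Agent.Lib.Helper17.RDerLib.exact₃ (Coh.pushAb f) T q (q + 1) rfl
  exact hex.isZero_of_both_zeros (h₂.eq_of_src _ _) (h₁.eq_of_tgt _ _)

include hS in
theorem van_X₂ (q : ℕ) (h₁ : Van f q S.X₁) (h₃ : Van f q S.X₃) : Van f q S.X₂ := by
  have hS' := shortExact_toAbF S hS
  obtain ⟨T⟩ := Groth.Agent.Lib.Helper17.RDerLib.nonempty_sesRes _ hS'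
  have hex := Groth.Agent.Lib.Helper17.RDerLib.exact₂ (Coh.pushAb f) T q
  exact hex.isZero_of_both_zeros (h₁.eq_of_src _ _) (h₃.eq_of_tgt _ _)

include hS in
theorem van_X₁ (q : ℕ) (h₃ : Van f q S.X₃) (h₂ : Van f (q + 1) S.X₂) : Van f (q + 1) S.X₁ := by
  have hS' := shortExact_toAbF S hS
  obtain ⟨T⟩ := Groth.Agent.Lib.Helper17.RDerLib.nonempty_sesRes _ hS'
  have hex := Groth.Agent.Lib.Helper17.RDerLib.exact₁ (Coh.pushAb f) T q (q + 1) rfl
  exact hex.isZero_of_both_zeros (h₃.eq_of_src _ _) (h₂.eq_of_tgt _ _)

end LES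

section Koszul

variable {r : ℕ} (D : KData X.Modules r)

lemma van_K (i q : ℕ) (h : Van f q (D.G i)) : Van f q (D.K i) := by
  have h' := (van_iff f q (D.G i)).1 h
  rw [van_iff, IsZero.iff_id_eq_zero, ← CategoryTheory.Functor.map_id, ← D.total i, CategoryTheory.Functor.map_sum]
  refine Finset.sum_eq_zero (fun S _ => ?_)
  rw [CategoryTheory.Functor.map_comp, h'.eq_of_tgt ((TT f q).map (D.prj i S)) 0, zero_comp]

variable (hex : ∀ i : ℕ, (ShortComplex.mk (D.d i) (D.d (i + 1)) (D.d_comp_d i)).Exact)
  (hmono : Mono (D.d 0))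

include hex hmono in
/-- vanishing of the higher direct images of the cycles -/
theorem van_Z (t : ℕ) : ∀ q : ℕ,
    (∀ i : ℕ, i < t → Van f (q + (t - (i + 1))) (D.G i)) → Van f q (kernel (D.d t)) := by
  induction t with
  | zero =>
    intro q _
    have := hmono
    exact van_of_isZero f q (isZero_kernel_of_mono (D.d 0))
  | succ t ih =>
    intro q h
    have hS := ses_shortExact D hex t
    have h1 : Van f (q + 1) (ses D t).X₁ := by
      apply ih (q + 1)
      intro i hi
      have e : q + 1 + (t - (i + 1)) = q + (t + 1 - (i + 1)) := by omega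
      rw [e]
      exact h i (by omega)
    have h2 : Van f q (ses D t).X₂ := by
      apply van_K f D t q
      have e : q + (t + 1 - (t + 1)) = q := by omega
      have h3 := h t (by omega)
      rw [e] at h3
      exact h3
    exact van_X₃ f (ses D t) hS q h2 h1

include hex hmono in
theorem van_K_top (q : ℕ) (h : ∀ i : ℕ, i < r → Van f (q + (r - (i + 1))) (D.G i)) :
    Van f q (D.K r) := by
  have hS := ses_shortExact D hex r
  have h1 : Van f q (ses D r).X₁ := van_Z f D hex hmono r q h
  have hz : IsZero (kernel (D.d (r + 1))) := by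
    have h1 : IsZero (D.K (r + 1)) := D.isZero_K (r + 1) (by omega)
    exact IsZero.of_mono_eq_zero (kernel.ι (D.d (r + 1))) (h1.eq_of_tgt _ _)
  have h3 : Van f q (ses D r).X₃ := van_of_isZero f q hz
  exact van_X₂ f (ses D r) hS q h1 h3

include hex hmono in
/-- **vanishing of `R^q f_*` for the last term of an exact Koszul complex** -/
theorem van_G_top (q : ℕ) (h : ∀ i : ℕ, i < r → Van f (q + (r - (i + 1))) (D.G i)) :
    Van f q (D.G r) :=
  van_of_retract f q (D.inj r Finset.univ) (D.prj r Finset.univ) (inj_prj_univ D)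
    (van_K_top f D hex hmono q h)

end Koszul

end Groth.Agent.Lib.R2H2.KoszulRel
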