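import Groth.Agent.Lib.R2H2KoszulTop

/-!
# Change of rings for direct-limit Koszul cohomology (helper2, round 2)

For a ring homomorphism `φ : A → B`, an `A`-module `M`, a `B`-module `N` and a `φ`-semilinear additive
isomorphism `e : M ≃+ N`, the direct-limit Koszul cohomology groups `koszulHLim fs M p` (over `A`) and
`koszulHLim (fs.map φ) N p` (over `B`) are isomorphic (`nonempty_koszulHLim_addEquiv`).

The proof is at element level: `SemiIso φ K L` is a degreewise semilinear additive isomorphism of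
cochain complexes over the two rings; it is constructed for the iterated-cone Koszul complexes
(`koszulSemi`), is compatible with the transition maps (`koszulSemi_trans`), induces isomorphisms
in cohomology (`SemiIso.exists_hEquiv`, `hEquiv_natural`) and on direct limits
(`directLimit_addEquiv`).
-/

set_option autoImplicit false
universe u

namespace Groth.Agent.Lib.R2H2.KoszulRing

open CategoryTheory CategoryTheory.Limits CochainComplex CohIII
open Groth.Agent.Lib.R2H2.KoszulLow Groth.Agent.Lib.R2H2.KoszulLim Groth.Agent.Lib.R2H2.KoszulTop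

section Pair

variable {A : Type u} [CommRing A] {K L : CochainComplex (ModuleCat.{u} A) ℤ} (ψ : K ⟶ L)

/-- the two components of an element of a mapping cone -/
noncomputable def pairEquiv (p q : ℤ) (h : p + 1 = q) : (mappingCone ψ).X p ≃+ K.X q × L.X p where
  toFun z := (cf ψ p q h z, cs ψ p z)
  invFun w := ci ψ p q h w.1 + cr ψ p w.2
  left_inv z := (decomp ψ p q h z).symm
  right_inv w := by
    apply Prod.ext
    · change cf ψ p q h (ci ψ p q h w.1 + cr ψ p w.2) = w.1
      rw [map_add, cf_ci, cf_cr, add_zero]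
    · change cs ψ p (ci ψ p q h w.1 + cr ψ p w.2) = w.2
      rw [map_add, cs_ci, cs_cr, zero_add]
  map_add' z z' := by
    apply Prod.ext
    · change cf ψ p q h (z + z') = cf ψ p q h z + cf ψ p q h z'
      rw [map_add]
    · change cs ψ p (z + z') = cs ψ p z + cs ψ p z'
      rw [map_add]

end Pair

variable {A B : Type u} [CommRing A] [CommRing B] (φ : A →+* B)

/-- a degreewise `φ`-semilinear additive isomorphism between a complex of `A`-modules and a complex
of `B`-modules -/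
structure SemiIso (K : CochainComplex (ModuleCat.{u} A) ℤ)
    (L : CochainComplex (ModuleCat.{u} B) ℤ) where
  θ : ∀ j : ℤ, K.X j ≃+ L.X j
  smul : ∀ (j : ℤ) (a : A) (x : K.X j), θ j (a • x) = φ a • θ j x
  d : ∀ (i j : ℤ) (_ : i + 1 = j) (x : K.X i), θ j ((K.d i j).hom x) = (L.d i j).hom (θ i x)

section Nil

variable {M N : Type u} [AddCommGroup M] [Module A M] [AddCommGroup N] [Module B N] (e : M ≃+ N)

/-- the base case: complexes concentrated in degree `0` -/
noncomputable def nilθ (j : ℤ) :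
    ((HomologicalComplex.single (ModuleCat.{u} A) (ComplexShape.up ℤ) 0).obj (ModuleCat.of A M)).X j ≃+
    ((HomologicalComplex.single (ModuleCat.{u} B) (ComplexShape.up ℤ) 0).obj (ModuleCat.of B N)).X j :=
  if h : j = 0 then
    ((HomologicalComplex.singleObjXIsoOfEq (ComplexShape.up ℤ) 0
        (ModuleCat.of A M) j h).toLinearEquiv.toAddEquiv.trans e).trans
      (HomologicalComplex.singleObjXIsoOfEq (ComplexShape.up ℤ) 0
        (ModuleCat.of B N) j h).toLinearEquiv.toAddEquiv.symm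
  else
    haveI : Subsingleton ↑(((HomologicalComplex.single (ModuleCat.{u} A)
        (ComplexShape.up ℤ) 0).obj (ModuleCat.of A M)).X j) := ModuleCat.subsingleton_of_isZero
      (HomologicalComplex.isZero_single_obj_X (ComplexShape.up ℤ) 0 _ j h)
    haveI : Subsingleton ↑(((HomologicalComplex.single (ModuleCat.{u} B)
        (ComplexShape.up ℤ) 0).obj (ModuleCat.of B N)).X j) := ModuleCat.subsingleton_of_isZero
      (HomologicalComplex.isZero_single_obj_X (ComplexShape.up ℤ) 0 _ j h)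
    { toFun := fun _ => 0
      invFun := fun _ => 0
      left_inv := fun _ => Subsingleton.elim _ _
      right_inv := fun _ => Subsingleton.elim _ _
      map_add' := fun _ _ => Subsingleton.elim _ _ }

variable (he : ∀ (a : A) (x : M), e (a • x) = φ a • e x)

include he in
lemma nilθ_smul (j : ℤ) (a : A)
    (x : ((HomologicalComplex.single (ModuleCat.{u} A) (ComplexShape.up ℤ) 0).obj
      (ModuleCat.of A M)).X j) :
    nilθ (B := B) (N := N) e j (a • x) = φ a • nilθ (B := B) (N := N) e j x := by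
  by_cases h : j = 0
  · unfold nilθ
    rw [dif_pos h]
    change (HomologicalComplex.singleObjXIsoOfEq (ComplexShape.up ℤ) 0
        (ModuleCat.of B N) j h).toLinearEquiv.symm
      (e ((HomologicalComplex.singleObjXIsoOfEq (ComplexShape.up ℤ) 0
        (ModuleCat.of A M) j h).toLinearEquiv (a • x))) =
      φ a • (HomologicalComplex.singleObjXIsoOfEq (ComplexShape.up ℤ) 0
        (ModuleCat.of B N) j h).toLinearEquiv.symm
      (e ((HomologicalComplex.singleObjXIsoOfEq (ComplexShape.up ℤ) 0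
        (ModuleCat.of A M) j h).toLinearEquiv x))
    rw [LinearEquiv.map_smul, he, LinearEquiv.map_smul]
  · have : Subsingleton ↑(((HomologicalComplex.single (ModuleCat.{u} B)
        (ComplexShape.up ℤ) 0).obj (ModuleCat.of B N)).X j) := ModuleCat.subsingleton_of_isZero
      (HomologicalComplex.isZero_single_obj_X (ComplexShape.up ℤ) 0 _ j h)
    exact Subsingleton.elim _ _

/-- the base case -/
noncomputable def SemiIso.nil :
    SemiIso φ ((HomologicalComplex.single (ModuleCat.{u} A) (ComplexShape.up ℤ) 0).obj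
      (ModuleCat.of A M))
      ((HomologicalComplex.single (ModuleCat.{u} B) (ComplexShape.up ℤ) 0).obj
      (ModuleCat.of B N)) where
  θ := nilθ e
  smul := nilθ_smul φ e he
  d i j hij x := by
    by_cases h : j = 0
    · have hi : i ≠ 0 := by omega
      have : Subsingleton ↑(((HomologicalComplex.single (ModuleCat.{u} A)
          (ComplexShape.up ℤ) 0).obj (ModuleCat.of A M)).X i) := ModuleCat.subsingleton_of_isZero
        (HomologicalComplex.isZero_single_obj_X (ComplexShape.up ℤ) 0 _ i hi)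
      rw [Subsingleton.elim x 0, map_zero, map_zero, map_zero, map_zero]
    · have : Subsingleton ↑(((HomologicalComplex.single (ModuleCat.{u} B)
          (ComplexShape.up ℤ) 0).obj (ModuleCat.of B N)).X j) := ModuleCat.subsingleton_of_isZero
        (HomologicalComplex.isZero_single_obj_X (ComplexShape.up ℤ) 0 _ j h)
      exact Subsingleton.elim _ _

end Nil

section ConeSec

variable {φ} {K : CochainComplex (ModuleCat.{u} A) ℤ} {L : CochainComplex (ModuleCat.{u} B) ℤ}
  (S : SemiIso φ K L) (a : A) (b : B)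

/-- the induced map on cones -/
noncomputable def coneθ (p : ℤ) : (mappingCone (a • 𝟙 K)).X p ≃+ (mappingCone (b • 𝟙 L)).X p :=
  ((pairEquiv (a • 𝟙 K) p (p + 1) rfl).trans ((S.θ (p + 1)).prodCongr (S.θ p))).trans
    (pairEquiv (b • 𝟙 L) p (p + 1) rfl).symm

lemma cf_coneθ (p q : ℤ) (h : p + 1 = q) (z : (mappingCone (a • 𝟙 K)).X p) :
    cf (b • 𝟙 L) p q h (coneθ S a b p z) = S.θ q (cf (a • 𝟙 K) p q h z) := by
  subst h
  change cf (b • 𝟙 L) p (p + 1) rfl (ci (b • 𝟙 L) p (p + 1) rfl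
    (S.θ (p + 1) (cf (a • 𝟙 K) p (p + 1) rfl z)) + cr (b • 𝟙 L) p (S.θ p (cs (a • 𝟙 K) p z))) = _
  rw [map_add, cf_ci, cf_cr, add_zero]

lemma cs_coneθ (p : ℤ) (z : (mappingCone (a • 𝟙 K)).X p) :
    cs (b • 𝟙 L) p (coneθ S a b p z) = S.θ p (cs (a • 𝟙 K) p z) := by
  change cs (b • 𝟙 L) p (ci (b • 𝟙 L) p (p + 1) rfl
    (S.θ (p + 1) (cf (a • 𝟙 K) p (p + 1) rfl z)) + cr (b • 𝟙 L) p (S.θ p (cs (a • 𝟙 K) p z))) = _
  rw [map_add, cs_ci, cs_cr, zero_add]

variable (hab : φ a = b)

include hab in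
lemma coneθ_d (i j : ℤ) (hij : i + 1 = j) (z : (mappingCone (a • 𝟙 K)).X i) :
    coneθ S a b j (((mappingCone (a • 𝟙 K)).d i j).hom z) =
      ((mappingCone (b • 𝟙 L)).d i j).hom (coneθ S a b i z) := by
  apply cone_ext (b • 𝟙 L) j (j + 1) rfl
  · rw [cf_coneθ, cf_d _ i j (j + 1) hij rfl, map_neg, S.d j (j + 1) rfl,
      cf_d _ i j (j + 1) hij rfl, cf_coneθ]
  · rw [cs_coneθ, cs_d _ i j hij, map_add, smul_id_f_apply, S.smul, S.d i j hij, cs_d _ i j hij,
      smul_id_f_apply, cf_coneθ, cs_coneθ, hab]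

lemma coneθ_smul (p : ℤ) (c : A) (z : (mappingCone (a • 𝟙 K)).X p) :
    coneθ S a b p (c • z) = φ c • coneθ S a b p z := by
  apply cone_ext (b • 𝟙 L) p (p + 1) rfl
  · have h1 : cf (b • 𝟙 L) p (p + 1) rfl (φ c • coneθ S a b p z) =
        φ c • cf (b • 𝟙 L) p (p + 1) rfl (coneθ S a b p z) := map_smul _ _ _
    have h2 : cf (a • 𝟙 K) p (p + 1) rfl (c • z) = c • cf (a • 𝟙 K) p (p + 1) rfl z :=
      map_smul _ _ _
    rw [h1, cf_coneθ, cf_coneθ, h2, S.smul]
  · have h1 : cs (b • 𝟙 L) p (φ c • coneθ S a b p z) =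
        φ c • cs (b • 𝟙 L) p (coneθ S a b p z) := map_smul _ _ _
    have h2 : cs (a • 𝟙 K) p (c • z) = c • cs (a • 𝟙 K) p z := map_smul _ _ _
    rw [h1, cs_coneθ, cs_coneθ, h2, S.smul]

/-- the induced semilinear isomorphism of cones -/
noncomputable def SemiIso.cone : SemiIso φ (mappingCone (a • 𝟙 K)) (mappingCone (b • 𝟙 L)) where
  θ := coneθ S a b
  smul := coneθ_smul S a b
  d := coneθ_d S a b hab

end ConeSec

section ConeTrans

variable {φ} {K₁ K₂ : CochainComplex (ModuleCat.{u} A) ℤ}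
  {L₁ L₂ : CochainComplex (ModuleCat.{u} B) ℤ}

theorem cone_trans (S₁ : SemiIso φ K₁ L₁) (S₂ : SemiIso φ K₂ L₂) (T : K₁ ⟶ K₂) (T' : L₁ ⟶ L₂)
    (hT : ∀ j x, S₂.θ j ((T.f j).hom x) = (T'.f j).hom (S₁.θ j x))
    (a₁ a₂ c : A) (b₁ b₂ c' : B) (h₁ : φ a₁ = b₁) (h₂ : φ a₂ = b₂) (hc : φ c = c')
    (comm : (a₁ • 𝟙 K₁) ≫ (c • T) = T ≫ (a₂ • 𝟙 K₂))
    (comm' : (b₁ • 𝟙 L₁) ≫ (c' • T') = T' ≫ (b₂ • 𝟙 L₂))
    (p : ℤ) (z : (mappingCone (a₁ • 𝟙 K₁)).X p) :
    (S₂.cone a₂ b₂ h₂).θ p
        (((mappingCone.map (a₁ • 𝟙 K₁) (a₂ • 𝟙 K₂) T (c • T) comm).f p).hom z) =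
      ((mappingCone.map (b₁ • 𝟙 L₁) (b₂ • 𝟙 L₂) T' (c' • T') comm').f p).hom
        ((S₁.cone a₁ b₁ h₁).θ p z) := by
  apply cone_ext (b₂ • 𝟙 L₂) p (p + 1) rfl
  · change cf _ p (p + 1) rfl (coneθ S₂ a₂ b₂ p _) =
      cf _ p (p + 1) rfl (((mappingCone.map (b₁ • 𝟙 L₁) (b₂ • 𝟙 L₂) T' (c' • T') comm').f p).hom
        (coneθ S₁ a₁ b₁ p z))
    rw [cf_coneθ, cf_map, hT, cf_map, cf_coneθ]
  · change cs _ p (coneθ S₂ a₂ b₂ p _) =
      cs _ p (((mappingCone.map (b₁ • 𝟙 L₁) (b₂ • 𝟙 L₂) T' (c' • T') comm').f p).hom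
        (coneθ S₁ a₁ b₁ p z))
    rw [cs_coneθ, cs_map, LowData.smul_f_apply, S₂.smul, hT, cs_map, LowData.smul_f_apply,
      cs_coneθ, hc]

end ConeTrans

section Koszul

variable {M N : Type u} [AddCommGroup M] [Module A M] [AddCommGroup N] [Module B N] (e : M ≃+ N)
  (he : ∀ (a : A) (x : M), e (a • x) = φ a • e x)

/-- the semilinear isomorphism between the Koszul complexes of the `n`-th powers -/
noncomputable def koszulSemi (n : ℕ) : ∀ fs : List A,
    SemiIso φ (koszulCx (ModuleCat.of A M) (fs.map (· ^ n)))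
      (koszulCx (ModuleCat.of B N) ((fs.map φ).map (· ^ n)))
  | [] => SemiIso.nil φ e he
  | f :: fs => (koszulSemi n fs).cone (f ^ n) (φ f ^ n) (map_pow φ f n)

theorem koszulSemi_trans (n m : ℕ) (h : n ≤ m) : ∀ (fs : List A) (j : ℤ)
    (x : (koszulCx (ModuleCat.of A M) (fs.map (· ^ n))).X j),
    (koszulSemi φ e he m fs).θ j (((koszulTrans (ModuleCat.of A M) n m h fs).f j).hom x) =
      ((koszulTrans (ModuleCat.of B N) n m h (fs.map φ)).f j).hom ((koszulSemi φ e he n fs).θ j x)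
  | [], j, x => by
    have h1 : ((koszulTrans (ModuleCat.of A M) n m h []).f j).hom x = x := by
      simp [koszulTrans]
    have h2 : ∀ y, ((koszulTrans (ModuleCat.of B N) n m h ([] : List B)).f j).hom y = y := by
      intro y
      simp [koszulTrans]
    rw [h1]
    exact (h2 _).symm
  | f :: fs, j, x =>
    cone_trans (koszulSemi φ e he n fs) (koszulSemi φ e he m fs)
      (koszulTrans (ModuleCat.of A M) n m h fs) (koszulTrans (ModuleCat.of B N) n m h (fs.map φ))
      (koszulSemi_trans n m h fs) (f ^ n) (f ^ m) (f ^ (m - n)) (φ f ^ n) (φ f ^ m)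
      (φ f ^ (m - n)) (map_pow φ f n) (map_pow φ f m) (map_pow φ f (m - n))
      (trans_comm (ModuleCat.of A M) n m h f fs)
      (trans_comm (ModuleCat.of B N) n m h (φ f) (fs.map φ)) j x

end Koszul

section Hom

variable {φ} {K : CochainComplex (ModuleCat.{u} A) ℤ} {L : CochainComplex (ModuleCat.{u} B) ℤ}
  (S : SemiIso φ K L)

lemma SemiIso.mem_ker (j k : ℤ) (hjk : j + 1 = k) (z : LinearMap.ker (K.d j k).hom) :
    S.θ j z.1 ∈ LinearMap.ker (L.d j k).hom := by
  rw [LinearMap.mem_ker, ← S.d j k hjk, LinearMap.mem_ker.mp z.2, map_zero]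

/-- the induced isomorphism in cohomology -/
theorem SemiIso.exists_hEquiv (j k : ℤ) (hjk : j + 1 = k) :
    ∃ E : K.homology j ≃+ L.homology j, ∀ z : LinearMap.ker (K.d j k).hom,
      E (cls K j k hjk z) = cls L j k hjk ⟨S.θ j z.1, S.mem_ker j k hjk z⟩ := by
  let zm : LinearMap.ker (K.d j k).hom →+ LinearMap.ker (L.d j k).hom :=
    { toFun := fun z => ⟨S.θ j z.1, S.mem_ker j k hjk z⟩
      map_zero' := Subtype.ext (map_zero (S.θ j))
      map_add' := fun z z' => Subtype.ext (map_add (S.θ j) z.1 z'.1) }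
  let Ψ : LinearMap.ker (K.d j k).hom →+ L.homology j :=
    (cls L j k hjk).toAddMonoidHom.comp zm
  have hΨ : ∀ z, Ψ z = cls L j k hjk ⟨S.θ j z.1, S.mem_ker j k hjk z⟩ := fun z => rfl
  have hker : ∀ z, (cls K j k hjk).toAddMonoidHom z = 0 → Ψ z = 0 := by
    intro z hz
    have hz' : cls K j k hjk z = 0 := hz
    obtain ⟨y, hy⟩ := (cls_eq_zero_iff K (j - 1) j k (by omega) hjk z).1 hz'
    rw [hΨ]
    refine (cls_eq_zero_iff L (j - 1) j k (by omega) hjk _).2 ⟨S.θ (j - 1) y, ?_⟩
    rw [← S.d (j - 1) j (by omega), hy]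
  obtain ⟨ψ, hψ⟩ := exists_descend (cls K j k hjk).toAddMonoidHom (cls_surjective K j k hjk) Ψ hker
  have hψ' : ∀ z, ψ (cls K j k hjk z) = cls L j k hjk ⟨S.θ j z.1, S.mem_ker j k hjk z⟩ :=
    fun z => hψ z
  have hinj : Function.Injective ψ := by
    rw [injective_iff_map_eq_zero]
    intro w hw
    obtain ⟨z, rfl⟩ := cls_surjective K j k hjk w
    rw [hψ'] at hw
    obtain ⟨y', hy'⟩ := (cls_eq_zero_iff L (j - 1) j k (by omega) hjk _).1 hw
    refine (cls_eq_zero_iff K (j - 1) j k (by omega) hjk z).2 ⟨(S.θ (j - 1)).symm y', ?_⟩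
    apply (S.θ j).injective
    rw [S.d (j - 1) j (by omega), AddEquiv.apply_symm_apply]
    exact hy'
  have hsurj : Function.Surjective ψ := by
    intro w'
    obtain ⟨z', rfl⟩ := cls_surjective L j k hjk w'
    have hz : (S.θ j).symm z'.1 ∈ LinearMap.ker (K.d j k).hom := by
      rw [LinearMap.mem_ker]
      apply (S.θ k).injective
      rw [S.d j k hjk, AddEquiv.apply_symm_apply, map_zero]
      exact LinearMap.mem_ker.mp z'.2
    refine ⟨cls K j k hjk ⟨_, hz⟩, ?_⟩
    rw [hψ']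
    congr 1
    exact Subtype.ext (AddEquiv.apply_symm_apply _ _)
  exact ⟨AddEquiv.ofBijective ψ ⟨hinj, hsurj⟩, fun z => hψ' z⟩

theorem hEquiv_natural {K₁ K₂ : CochainComplex (ModuleCat.{u} A) ℤ}
    {L₁ L₂ : CochainComplex (ModuleCat.{u} B) ℤ} (S₁ : SemiIso φ K₁ L₁) (S₂ : SemiIso φ K₂ L₂)
    (T : K₁ ⟶ K₂) (T' : L₁ ⟶ L₂)
    (hT : ∀ j x, S₂.θ j ((T.f j).hom x) = (T'.f j).hom (S₁.θ j x)) (j k : ℤ) (hjk : j + 1 = k)
    (E₁ : K₁.homology j ≃+ L₁.homology j)
    (hE₁ : ∀ z : LinearMap.ker (K₁.d j k).hom,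
      E₁ (cls K₁ j k hjk z) = cls L₁ j k hjk ⟨S₁.θ j z.1, S₁.mem_ker j k hjk z⟩)
    (E₂ : K₂.homology j ≃+ L₂.homology j)
    (hE₂ : ∀ z : LinearMap.ker (K₂.d j k).hom,
      E₂ (cls K₂ j k hjk z) = cls L₂ j k hjk ⟨S₂.θ j z.1, S₂.mem_ker j k hjk z⟩)
    (x : K₁.homology j) :
    E₂ ((HomologicalComplex.homologyMap T j).hom x) =
      (HomologicalComplex.homologyMap T' j).hom (E₁ x) := by
  obtain ⟨z, rfl⟩ := cls_surjective K₁ j k hjk x
  rw [homologyMap_cls, hE₂, hE₁, homologyMap_cls]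
  congr 1
  exact Subtype.ext (hT j z.1)

end Hom

section DL

/-- a direct limit over `ℕ` described by compatible, jointly surjective additive maps whose
kernels are killed by transition maps -/
theorem exists_addEquiv_of_compat' {R : Type*} [CommRing R] {G : ℕ → Type u}
    [∀ n, AddCommGroup (G n)] [∀ n, Module R (G n)] (f : ∀ n m, n ≤ m → G n →ₗ[R] G m)
    (hf1 : ∀ n x, f n n le_rfl x = x)
    (hf2 : ∀ n m k (h : n ≤ m) (h' : m ≤ k) x, f m k h' (f n m h x) = f n k (h.trans h') x)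
    {P : Type*} [AddCommGroup P] (ψ : ∀ n, G n →+ P)
    (hc : ∀ n m (h : n ≤ m) x, ψ m (f n m h x) = ψ n x)
    (hinj : ∀ n x, ψ n x = 0 → ∃ m, ∃ h : n ≤ m, f n m h x = 0)
    (hsurj : ∀ y, ∃ n x, ψ n x = y) :
    ∃ e : Module.DirectLimit G f ≃+ P, ∀ n x, e (Module.DirectLimit.of R ℕ G f n x) = ψ n x := by
  have : DirectedSystem G (fun i j h => f i j h) :=
    ⟨fun i x => hf1 i x, fun k j i hij hjk x => hf2 i j k hij hjk x⟩
  have hU : ∀ n m (x : G n) (x' : G m), ψ n x = ψ m x' →
      Module.DirectLimit.of R ℕ G f n x = Module.DirectLimit.of R ℕ G f m x' := by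
    intro n m x x' hxx
    have h1 : ψ (max n m) (f n (max n m) (le_max_left n m) x -
        f m (max n m) (le_max_right n m) x') = 0 := by
      rw [map_sub, hc, hc, hxx, sub_self]
    obtain ⟨k, hk, h2⟩ := hinj _ _ h1
    rw [map_sub, sub_eq_zero, hf2, hf2] at h2
    rw [← Module.DirectLimit.of_f (hij := (le_max_left n m).trans hk), h2,
      Module.DirectLimit.of_f]
  choose N X hX using hsurj
  let g : P → Module.DirectLimit G f := fun y => Module.DirectLimit.of R ℕ G f (N y) (X y)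
  have hg : ∀ n x, g (ψ n x) = Module.DirectLimit.of R ℕ G f n x := by
    intro n x
    exact hU _ _ _ _ (hX (ψ n x))
  have hadd : ∀ y y', g (y + y') = g y + g y' := by
    intro y y'
    let k := max (N y) (N y')
    have h1 : y + y' = ψ k (f (N y) k (le_max_left _ _) (X y) +
        f (N y') k (le_max_right _ _) (X y')) := by
      rw [map_add, hc, hc, hX, hX]
    have h2 : g (y + y') = Module.DirectLimit.of R ℕ G f k (f (N y) k (le_max_left _ _) (X y) +
        f (N y') k (le_max_right _ _) (X y')) := by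
      rw [h1, hg]
    rw [h2, map_add, Module.DirectLimit.of_f, Module.DirectLimit.of_f]
  let gA : P →+ Module.DirectLimit G f := AddMonoidHom.mk' g hadd
  have hbij : Function.Bijective gA := by
    constructor
    · rw [injective_iff_map_eq_zero]
      intro y hy
      have hy' : Module.DirectLimit.of R ℕ G f (N y) (X y) = 0 := hy
      obtain ⟨m, hm, h0⟩ := Module.DirectLimit.of.zero_exact hy'
      rw [← hX y, ← hc _ m hm, h0, map_zero]
    · intro z
      obtain ⟨n, x, rfl⟩ := Module.DirectLimit.exists_of z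
      exact ⟨ψ n x, hg n x⟩
  refine ⟨(AddEquiv.ofBijective gA hbij).symm, ?_⟩
  intro n x
  rw [AddEquiv.symm_apply_eq]
  exact (hg n x).symm

/-- a levelwise additive isomorphism of direct systems over `ℕ` (of modules over possibly different
rings) induces an additive isomorphism of the direct limits -/
theorem directLimit_addEquiv {R R' : Type*} [CommRing R] [CommRing R'] {G G' : ℕ → Type u}
    [∀ n, AddCommGroup (G n)] [∀ n, Module R (G n)] [∀ n, AddCommGroup (G' n)]
    [∀ n, Module R' (G' n)] (f : ∀ n m, n ≤ m → G n →ₗ[R] G m)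
    (f' : ∀ n m, n ≤ m → G' n →ₗ[R'] G' m)
    (hf1 : ∀ n x, f n n le_rfl x = x)
    (hf2 : ∀ n m k (h : n ≤ m) (h' : m ≤ k) x, f m k h' (f n m h x) = f n k (h.trans h') x)
    (hf'1 : ∀ n x, f' n n le_rfl x = x)
    (hf'2 : ∀ n m k (h : n ≤ m) (h' : m ≤ k) x, f' m k h' (f' n m h x) = f' n k (h.trans h') x)
    (E : ∀ n, G n ≃+ G' n) (hE : ∀ n m (h : n ≤ m) x, E m (f n m h x) = f' n m h (E n x)) :
    Nonempty (Module.DirectLimit G f ≃+ Module.DirectLimit G' f') := by
  have : DirectedSystem G' (fun i j h => f' i j h) :=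
    ⟨fun i x => hf'1 i x, fun k j i hij hjk x => hf'2 i j k hij hjk x⟩
  let ψ : ∀ n, G n →+ Module.DirectLimit G' f' := fun n =>
    (Module.DirectLimit.of R' ℕ G' f' n).toAddMonoidHom.comp (E n).toAddMonoidHom
  have hψ : ∀ n x, ψ n x = Module.DirectLimit.of R' ℕ G' f' n (E n x) := fun n x => rfl
  obtain ⟨e, -⟩ := exists_addEquiv_of_compat' f hf1 hf2 ψ
    (fun n m h x => by rw [hψ, hψ, hE, Module.DirectLimit.of_f])
    (fun n x hx => by
      rw [hψ] at hx
      obtain ⟨m, hm, h0⟩ := Module.DirectLimit.of.zero_exact hx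
      refine ⟨m, hm, (E m).injective ?_⟩
      rw [hE, map_zero]
      exact h0)
    (fun y => by
      obtain ⟨n, x', rfl⟩ := Module.DirectLimit.exists_of y
      exact ⟨n, (E n).symm x', by rw [hψ, AddEquiv.apply_symm_apply]⟩)
  exact ⟨e⟩

end DL

section Main

variable {M N : Type u} [AddCommGroup M] [Module A M] [AddCommGroup N] [Module B N] (e : M ≃+ N)
  (he : ∀ (a : A) (x : M), e (a • x) = φ a • e x)

include he in
theorem directLimit_koszul (fs : List A) (j j' : ℤ) (hj : j' = j) :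
    Nonempty (Module.DirectLimit
        (fun n : ℕ => ((koszulCx (ModuleCat.of A M) (fs.map (· ^ n))).homology j : Type u))
        (fun n m h => (HomologicalComplex.homologyMap
          (koszulTrans (ModuleCat.of A M) n m h fs) j).hom) ≃+
      Module.DirectLimit
        (fun n : ℕ => ((koszulCx (ModuleCat.of B N) ((fs.map φ).map (· ^ n))).homology j' : Type u))
        (fun n m h => (HomologicalComplex.homologyMap
          (koszulTrans (ModuleCat.of B N) n m h (fs.map φ)) j').hom)) := by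
  subst hj
  choose E hE using fun n => (koszulSemi φ e he n fs).exists_hEquiv j' (j' + 1) rfl
  exact directLimit_addEquiv _ _ (trH_self fs _ j') (trH_trH fs _ j')
    (trH_self (fs.map φ) _ j') (trH_trH (fs.map φ) _ j') E
    (fun n m h x => hEquiv_natural (koszulSemi φ e he n fs) (koszulSemi φ e he m fs) _ _
      (koszulSemi_trans φ e he n m h fs) j' (j' + 1) rfl (E n) (hE n) (E m) (hE m) x)

include he in
/-- **Change of rings for direct-limit Koszul cohomology.** -/
theorem nonempty_koszulHLim_addEquiv (fs : List A) (p : ℕ) :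
    Nonempty (koszulHLim fs (ModuleCat.of A M) p ≃+ koszulHLim (fs.map φ) (ModuleCat.of B N) p) := by
  unfold koszulHLim koszulHPow
  exact directLimit_koszul φ e he fs _ _ (by simp)

end Main

end Groth.Agent.Lib.R2H2.KoszulRing
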