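import Groth.Agent.Lib.R2H2PnMul

/-!
# Multiplication by a nowhere vanishing homogeneous fraction on the twists `M(d)~` of `Proj`
(helper2, round 2)

`mulF` : for `a ∈ 𝒜 i`, `b ∈ 𝒜 j` with `b` vanishing nowhere on `Proj 𝒜`, multiplication by `a / b`
as a morphism `M(p)~ ⟶ M(p + i - j)~`.  If `a` vanishes nowhere either, this is an isomorphism
(`mulFIso`).
-/

set_option autoImplicit false
set_option linter.unusedSectionVars false
universe u

namespace Groth.Agent.Lib.R2H2.PnMulFrac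

open CategoryTheory CategoryTheory.Limits AlgebraicGeometry TopologicalSpace Opposite
open Groth.Agent.Lib.Helper27GrTildeSect

variable {R A : Type u} [CommRing R] [CommRing A] [Algebra R A] (𝒜 : ℕ → Submodule R A)
  [GradedAlgebra 𝒜]
variable {M : Type u} [AddCommGroup M] [Module R M] [Module A M] [IsScalarTower R A M]
  (ℳ : ℕ → Submodule R M) [DirectSum.Decomposition ℳ] [SetLike.GradedSMul 𝒜 ℳ]

section Def

variable {i j : ℕ} {a b : A} (ha : a ∈ 𝒜 i) (hb : b ∈ 𝒜 j) {k : ℤ} (hij : (i : ℤ) = j + k)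
  (hW : ∀ y : ProjectiveSpectrum 𝒜, b ∉ y.asHomogeneousIdeal) {p q : ℤ} (h : p + k = q)

/-- the section `a / b` of `O(k)` over any open -/
noncomputable def fsec (U : (Proj 𝒜).Opens) : Γ(GrTilde.tilde 𝒜 𝒜 k, U) :=
  fracSec 𝒜 k U ha hb hij (fun y => hW y.1)

/-- multiplication by `a / b`, on the underlying abelian sheaves -/
noncomputable def mulFAb :
    Coh.toAb (GrTilde.tilde 𝒜 ℳ p) ⟶ Coh.toAb (GrTilde.tilde 𝒜 ℳ q) :=
  ⟨{ app := fun U => AddCommGrpCat.ofHom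
      { toFun := fun m => mulSec 𝒜 ℳ h U.unop m (fsec 𝒜 ha hb hij hW U.unop)
        map_zero' := by
          have h0 := mulSec_add_left 𝒜 ℳ h U.unop 0 0 (fsec 𝒜 ha hb hij hW U.unop)
          rw [add_zero] at h0
          exact left_eq_add.mp h0
        map_add' := fun m m' => mulSec_add_left 𝒜 ℳ h U.unop m m' _ }
     naturality := by
       intro U V f
       ext m
       rfl }⟩

/-- multiplication by `a / b` as a morphism `M(p)~ ⟶ M(p+k)~` -/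
noncomputable def mulF : GrTilde.tilde 𝒜 ℳ p ⟶ GrTilde.tilde 𝒜 ℳ q :=
  ⟨PresheafOfModules.homMk (mulFAb 𝒜 ℳ ha hb hij hW h).hom (by
    intro U s m
    exact mulSec_smul_left 𝒜 ℳ h U.unop s m _)⟩

lemma mulF_app (W : (Proj 𝒜).Opens) (m : Γ(GrTilde.tilde 𝒜 ℳ p, W)) :
    (mulF 𝒜 ℳ ha hb hij hW h).app W m = mulSec 𝒜 ℳ h W m (fsec 𝒜 ha hb hij hW W) := rfl

lemma secVal_mulF (W : (Proj 𝒜).Opens) (m : Γ(GrTilde.tilde 𝒜 ℳ p, W))
    (y : ProjectiveSpectrum 𝒜) (hy : y ∈ W) :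
    secVal 𝒜 ℳ q W ((mulF 𝒜 ℳ ha hb hij hW h).app W m) y hy =
      (Localization.mk a (⟨b, hW y⟩ : y.asHomogeneousIdeal.toIdeal.primeCompl) :
        Twist.Loc 𝒜 y) • secVal 𝒜 ℳ p W m y hy := rfl

end Def

section Iso

variable {i j : ℕ} {a b : A} (ha : a ∈ 𝒜 i) (hb : b ∈ 𝒜 j) {k k' : ℤ} (hij : (i : ℤ) = j + k)
  (hji : (j : ℤ) = i + k')
  (hWa : ∀ y : ProjectiveSpectrum 𝒜, a ∉ y.asHomogeneousIdeal)
  (hWb : ∀ y : ProjectiveSpectrum 𝒜, b ∉ y.asHomogeneousIdeal) {p q : ℤ} (h : p + k = q)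
  (h' : q + k' = p)

lemma mulF_comp_mulF :
    mulF 𝒜 ℳ ha hb hij hWb h ≫ mulF 𝒜 ℳ hb ha hji hWa h' = 𝟙 _ := by
  apply Scheme.Modules.hom_ext
  intro W
  ext m
  apply sec_ext
  intro y hy
  have h1 : secVal 𝒜 ℳ p W ((mulF 𝒜 ℳ hb ha hji hWa h').app W
      ((mulF 𝒜 ℳ ha hb hij hWb h).app W m)) y hy =
      (Localization.mk b (⟨a, hWa y⟩ : y.asHomogeneousIdeal.toIdeal.primeCompl) :
        Twist.Loc 𝒜 y) • ((Localization.mk a (⟨b, hWb y⟩ :
          y.asHomogeneousIdeal.toIdeal.primeCompl) : Twist.Loc 𝒜 y) • secVal 𝒜 ℳ p W m y hy) :=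
    rfl
  refine h1.trans ?_
  rw [smul_smul]
  have h2 : (Localization.mk b (⟨a, hWa y⟩ : y.asHomogeneousIdeal.toIdeal.primeCompl) :
        Twist.Loc 𝒜 y) * (Localization.mk a (⟨b, hWb y⟩ :
          y.asHomogeneousIdeal.toIdeal.primeCompl) : Twist.Loc 𝒜 y) = 1 := by
    change Localization.mk b (⟨a, hWa y⟩ : y.asHomogeneousIdeal.toIdeal.primeCompl) *
      Localization.mk a (⟨b, hWb y⟩ : y.asHomogeneousIdeal.toIdeal.primeCompl) = 1
    rw [Localization.mk_mul]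
    have h3 : (⟨a, hWa y⟩ : y.asHomogeneousIdeal.toIdeal.primeCompl) * ⟨b, hWb y⟩ =
        ⟨b * a, by
          rw [mul_comm]
          exact (⟨a, hWa y⟩ * ⟨b, hWb y⟩ : y.asHomogeneousIdeal.toIdeal.primeCompl).2⟩ :=
      Subtype.ext (mul_comm a b)
    rw [h3]
    exact Localization.mk_self_mk (b * a) _
  rw [h2, one_smul]
  rfl

/-- multiplication by a nowhere vanishing fraction with nowhere vanishing numerator is an
isomorphism -/
noncomputable def mulFIso : GrTilde.tilde 𝒜 ℳ p ≅ GrTilde.tilde 𝒜 ℳ q where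
  hom := mulF 𝒜 ℳ ha hb hij hWb h
  inv := mulF 𝒜 ℳ hb ha hji hWa h'
  hom_inv_id := mulF_comp_mulF 𝒜 ℳ ha hb hij hji hWa hWb h h'
  inv_hom_id := mulF_comp_mulF 𝒜 ℳ hb ha hji hij hWb hWa h' h

end Iso

end Groth.Agent.Lib.R2H2.PnMulFrac
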