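import Groth.Agent.Lib.R2H2KoszulAbs
import Groth.Agent.Lib.R2H2PnMulFrac
import Groth.Agent.Lib.R2LeadTensorExact

/-!
# The Koszul complex of sheaves on `Proj` (helper2, round 2)

For degree one elements `x l ∈ 𝒜 1` (`l : Fin r`) whose basic opens cover `Proj 𝒜`, an integer `a`
and an `O`-module `F`, the Koszul data with `G i = F ⊗ O(a + i)` and `X l i = F ⊗ (· x l)`; the
associated Koszul complex is exact.
-/

set_option autoImplicit false
set_option linter.unusedSectionVars false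
universe u

namespace Groth.Agent.Lib.R2H2.KoszulSheaf

open CategoryTheory CategoryTheory.Limits AlgebraicGeometry TopologicalSpace Opposite MonoidalCategory
open Groth.Agent.Lib.Helper27GrTildeSect Groth.Agent.Lib.R2H2.PnMul
  Groth.Agent.Lib.R2H2.KoszulAbs
open Groth.Agent.Lib.Helper1.BKF Groth.Agent.Lib.Helper1.Sky Groth.Agent.Lib.Helper1.StalkTensor
  Groth.Agent.Lib.Helper1.KBC

section Stalk

variable {X : Scheme.{u}}

/-- a short complex of modules is exact if it is exact on all stalks -/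
theorem exact_of_forall_stalk (T : ShortComplex X.Modules)
    (h : ∀ x : X, (T.map (stalkFun x)).Exact) : T.Exact := by
  rw [ShortComplex.exact_iff_isZero_homology]
  apply isZero_of_forall_isZero_stalk
  intro x
  have h1 : IsZero (T.map (stalkFun x)).homology :=
    (ShortComplex.exact_iff_isZero_homology _).1 (h x)
  exact IsZero.of_iso h1 (T.mapHomologyIso (stalkFun x)).symm

theorem mono_of_forall_stalk {M N : X.Modules} (f : M ⟶ N)
    (h : ∀ x : X, Mono ((stalkFun x).map f)) : Mono f := by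
  apply Preadditive.mono_of_isZero_kernel
  apply isZero_of_forall_isZero_stalk
  intro x
  have : Mono ((stalkFun x).map f) := h x
  exact IsZero.of_iso (isZero_kernel_of_mono ((stalkFun x).map f))
    (PreservesKernel.iso (stalkFun x) f)

/-- a morphism with sectionwise inverses near `x` is bijective on the stalk at `x` -/
theorem sm_bijective_of_local_inverse {P P' : PMod X.presheaf} (φ : P ⟶ P') (x : X)
    (U₀ : X.Opens) (hx : x ∈ U₀)
    (ψ : ∀ W : X.Opens, W ≤ U₀ → (P'.obj (op W) → P.obj (op W)))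
    (h1 : ∀ (W : X.Opens) (hW : W ≤ U₀) (p : P.obj (op W)), ψ W hW (φ.app (op W) p) = p)
    (h2 : ∀ (W : X.Opens) (hW : W ≤ U₀) (p' : P'.obj (op W)), φ.app (op W) (ψ W hW p') = p') :
    Function.Bijective (sm φ x) := by
  have hnat : ∀ {U V : X.Opens} (i : V ⟶ U) (p : P.obj (op U)),
      rs P' i (φ.app (op U) p) = φ.app (op V) (rs P i p) := fun i p =>
    (PresheafOfModules.naturality_apply φ i.op p).symm
  constructor
  · rw [injective_iff_map_eq_zero]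
    intro a ha
    obtain ⟨U, hU, p, rfl⟩ := exists_gm_eq a
    have hxW : x ∈ U ⊓ U₀ := ⟨hU, hx⟩
    have e1 : gm P x U hU p = gm P x (U ⊓ U₀) hxW (rs P (homOfLE inf_le_left) p) :=
      (gm_rs (homOfLE inf_le_left) hxW p).symm
    rw [e1] at ha ⊢
    rw [sm_gm] at ha
    have e2 : gm P' x (U ⊓ U₀) hxW (φ.app (op (U ⊓ U₀)) (rs P (homOfLE inf_le_left) p)) =
        gm P' x (U ⊓ U₀) hxW 0 := by rw [ha, map_zero]
    obtain ⟨W', hxW', iU, iV, he⟩ := gm_eq hxW hxW _ _ e2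
    rw [map_zero, hnat] at he
    have hW' : W' ≤ U₀ := iU.le.trans inf_le_right
    have e3 : rs P iU (rs P (homOfLE inf_le_left) p) = 0 := by
      have e4 := h1 W' hW' (rs P iU (rs P (homOfLE inf_le_left) p))
      rw [he] at e4
      have e5 := h1 W' hW' 0
      rw [map_zero] at e5
      rw [← e4, e5]
    rw [← gm_rs iU hxW', e3, map_zero]
  · intro b
    obtain ⟨U, hU, p', rfl⟩ := exists_gm_eq b
    have hxW : x ∈ U ⊓ U₀ := ⟨hU, hx⟩
    refine ⟨gm P x (U ⊓ U₀) hxW (ψ (U ⊓ U₀) inf_le_right (rs P' (homOfLE inf_le_left) p')), ?_⟩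
    rw [sm_gm, h2, gm_rs]

end Stalk

section MulP

variable {R A : Type u} [CommRing R] [CommRing A] [Algebra R A] (𝒜 : ℕ → Submodule R A)
  [GradedAlgebra 𝒜]
variable {M : Type u} [AddCommGroup M] [Module R M] [Module A M] [IsScalarTower R A M]
  (ℳ : ℕ → Submodule R M) [DirectSum.Decomposition ℳ] [SetLike.GradedSMul 𝒜 ℳ]

/-- multiplications by homogeneous elements commute -/
theorem mulP_comm {k k' : ℕ} {a b : A} (ha : a ∈ 𝒜 k) (hb : b ∈ 𝒜 k') {p q q' s : ℤ}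
    (h1 : p + k = q) (h2 : q + k' = s) (h3 : p + k' = q') (h4 : q' + k = s) :
    mulP 𝒜 ℳ ha h1 ≫ mulP 𝒜 ℳ hb h2 = mulP 𝒜 ℳ hb h3 ≫ mulP 𝒜 ℳ ha h4 := by
  apply Scheme.Modules.hom_ext
  intro W
  ext m
  apply sec_ext
  intro y hy
  have e1 : secVal 𝒜 ℳ s W ((mulP 𝒜 ℳ hb h2).app W ((mulP 𝒜 ℳ ha h1).app W m)) y hy =
      (show Twist.Loc 𝒜 y from secVal 𝒜 𝒜 k' W (gsec 𝒜 k' W hb) y hy) •
        ((show Twist.Loc 𝒜 y from secVal 𝒜 𝒜 k W (gsec 𝒜 k W ha) y hy) •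
          secVal 𝒜 ℳ p W m y hy) := rfl
  have e2 : secVal 𝒜 ℳ s W ((mulP 𝒜 ℳ ha h4).app W ((mulP 𝒜 ℳ hb h3).app W m)) y hy =
      (show Twist.Loc 𝒜 y from secVal 𝒜 𝒜 k W (gsec 𝒜 k W ha) y hy) •
        ((show Twist.Loc 𝒜 y from secVal 𝒜 𝒜 k' W (gsec 𝒜 k' W hb) y hy) •
          secVal 𝒜 ℳ p W m y hy) := rfl
  refine e1.trans (Eq.trans ?_ e2.symm)
  exact smul_comm _ _ _

variable {g : A} (hg : g ∈ 𝒜 1) {p q : ℤ} (h : p + (1 : ℕ) = q)

/-- division by a degree one element on opens where it does not vanish -/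
noncomputable def divSec (W : (Proj 𝒜).Opens) (hW : ∀ y : W, g ∉ y.1.asHomogeneousIdeal)
    (m : Γ(GrTilde.tilde 𝒜 ℳ q, W)) : Γ(GrTilde.tilde 𝒜 ℳ p, W) :=
  mulSec 𝒜 ℳ (show q + (-1 : ℤ) = p by rw [← h]; push_cast; ring) W m
    (fracSec 𝒜 (-1 : ℤ) W (SetLike.GradedOne.one_mem : (1 : A) ∈ 𝒜 0) hg (by simp) hW)

lemma loc_mul_inv (y : ProjectiveSpectrum 𝒜) (hy : g ∉ y.asHomogeneousIdeal) :
    (Localization.mk (1 : A) (⟨g, hy⟩ : y.asHomogeneousIdeal.toIdeal.primeCompl) :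
        Twist.Loc 𝒜 y) *
      (Localization.mk g (⟨1, one_not_mem 𝒜 y⟩ : y.asHomogeneousIdeal.toIdeal.primeCompl) :
        Twist.Loc 𝒜 y) = 1 := by
  change Localization.mk (1 : A) (⟨g, hy⟩ : y.asHomogeneousIdeal.toIdeal.primeCompl) *
    Localization.mk g (⟨1, one_not_mem 𝒜 y⟩ : y.asHomogeneousIdeal.toIdeal.primeCompl) = 1
  rw [Localization.mk_mul]
  have h3 : (⟨g, hy⟩ : y.asHomogeneousIdeal.toIdeal.primeCompl) * ⟨1, one_not_mem 𝒜 y⟩ =
      ⟨1 * g, by rw [one_mul]; exact hy⟩ := Subtype.ext (by simp)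
  rw [h3]
  exact Localization.mk_self_mk (1 * g) _

theorem divSec_mulP (W : (Proj 𝒜).Opens) (hW : ∀ y : W, g ∉ y.1.asHomogeneousIdeal)
    (m : Γ(GrTilde.tilde 𝒜 ℳ p, W)) :
    divSec 𝒜 ℳ hg h W hW ((mulP 𝒜 ℳ hg h).app W m) = m := by
  apply sec_ext
  intro y hy
  have e1 : secVal 𝒜 ℳ p W (divSec 𝒜 ℳ hg h W hW ((mulP 𝒜 ℳ hg h).app W m)) y hy =
      (Localization.mk (1 : A) (⟨g, hW ⟨y, hy⟩⟩ : y.asHomogeneousIdeal.toIdeal.primeCompl) :
        Twist.Loc 𝒜 y) •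
      ((Localization.mk g (⟨1, one_not_mem 𝒜 y⟩ : y.asHomogeneousIdeal.toIdeal.primeCompl) :
        Twist.Loc 𝒜 y) • secVal 𝒜 ℳ p W m y hy) := rfl
  rw [e1, smul_smul, loc_mul_inv, one_smul]

theorem mulP_divSec (W : (Proj 𝒜).Opens) (hW : ∀ y : W, g ∉ y.1.asHomogeneousIdeal)
    (m : Γ(GrTilde.tilde 𝒜 ℳ q, W)) :
    (mulP 𝒜 ℳ hg h).app W (divSec 𝒜 ℳ hg h W hW m) = m := by
  apply sec_ext
  intro y hy
  have e1 : secVal 𝒜 ℳ q W ((mulP 𝒜 ℳ hg h).app W (divSec 𝒜 ℳ hg h W hW m)) y hy =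
      (Localization.mk g (⟨1, one_not_mem 𝒜 y⟩ : y.asHomogeneousIdeal.toIdeal.primeCompl) :
        Twist.Loc 𝒜 y) •
      ((Localization.mk (1 : A) (⟨g, hW ⟨y, hy⟩⟩ : y.asHomogeneousIdeal.toIdeal.primeCompl) :
        Twist.Loc 𝒜 y) • secVal 𝒜 ℳ q W m y hy) := rfl
  rw [e1, smul_smul, mul_comm, loc_mul_inv, one_smul]

/-- multiplication by `g` is an isomorphism on stalks at points of `D₊(g)` -/
theorem isIso_stalk_mulP (y : Proj 𝒜)
    (hy : g ∉ (show ProjectiveSpectrum 𝒜 from y).asHomogeneousIdeal) :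
    IsIso ((stalkFun y).map (mulP 𝒜 ℳ hg h)) := by
  have hbij : Function.Bijective (sm (toPMMap (mulP 𝒜 ℳ hg h)) y) := by
    refine sm_bijective_of_local_inverse (toPMMap (mulP 𝒜 ℳ hg h)) y (Proj.basicOpen 𝒜 g)
      ((ProjectiveSpectrum.mem_basicOpen 𝒜 g _).2 hy)
      (fun W hW m => divSec 𝒜 ℳ hg h W
        (fun z => (ProjectiveSpectrum.mem_basicOpen 𝒜 g z.1).1 (hW z.2)) m) ?_ ?_
    · intro W hW m
      exact divSec_mulP 𝒜 ℳ hg h W _ m
    · intro W hW m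
      exact mulP_divSec 𝒜 ℳ hg h W _ m
  exact (ConcreteCategory.isIso_iff_bijective ((stalkFun y).map (mulP 𝒜 ℳ hg h))).2 hbij

end MulP

section Data

variable {R A : Type u} [CommRing R] [CommRing A] [Algebra R A] (𝒜 : ℕ → Submodule R A)
  [GradedAlgebra 𝒜]
variable {r : ℕ} (x : Fin r → A) (hx : ∀ l, x l ∈ 𝒜 1) (F : (Proj 𝒜).Modules) (a : ℤ)

/-- the objects `F ⊗ O(a + i)` -/
noncomputable def GG (i : ℕ) : (Proj 𝒜).Modules :=
  (DCoh.tensorBi.obj F).obj (GrTilde.tilde 𝒜 𝒜 (a + i))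

lemma hidx (a : ℤ) (i : ℕ) : a + (i : ℤ) + ((1 : ℕ) : ℤ) = a + ((i + 1 : ℕ) : ℤ) := by
  push_cast
  ring

/-- multiplication by `x l` on the twists -/
noncomputable def mulX (l : Fin r) (i : ℕ) :
    GrTilde.tilde 𝒜 𝒜 (a + i) ⟶ GrTilde.tilde 𝒜 𝒜 (a + (i + 1 : ℕ)) :=
  mulP 𝒜 𝒜 (hx l) (hidx a i)

/-- the maps `F ⊗ (· x l)` -/
noncomputable def XX (l : Fin r) (i : ℕ) : GG 𝒜 F a i ⟶ GG 𝒜 F a (i + 1) :=
  (DCoh.tensorBi.obj F).map (mulX 𝒜 x hx a l i)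

lemma XX_comm (l m : Fin r) (i : ℕ) :
    XX 𝒜 x hx F a l i ≫ XX 𝒜 x hx F a m (i + 1) = XX 𝒜 x hx F a m i ≫ XX 𝒜 x hx F a l (i + 1) := by
  exact ((DCoh.tensorBi.obj F).map_comp _ _).symm.trans
    ((congrArg (DCoh.tensorBi.obj F).map
      (mulP_comm 𝒜 𝒜 (hx l) (hx m) (hidx a i) (hidx a (i + 1)) (hidx a i) (hidx a (i + 1)))).trans
      ((DCoh.tensorBi.obj F).map_comp _ _))

/-- the Koszul data of `F` and the `x l` -/
noncomputable def kdata : KData (Proj 𝒜).Modules r :=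
  @ofBiproducts _ _ _ Abelian.hasFiniteBiproducts _ (GG 𝒜 F a) (XX 𝒜 x hx F a) (XX_comm 𝒜 x hx F a)

lemma kdata_G (i : ℕ) : (kdata 𝒜 x hx F a).G i = GG 𝒜 F a i := rfl

lemma kdata_X (l : Fin r) (i : ℕ) : (kdata 𝒜 x hx F a).X l i = XX 𝒜 x hx F a l i := rfl

theorem isIso_stalk_XX (y : Proj 𝒜) (j : Fin r)
    (hj : x j ∉ (show ProjectiveSpectrum 𝒜 from y).asHomogeneousIdeal) (i : ℕ) :
    IsIso ((stalkFun y).map (XX 𝒜 x hx F a j i)) := by
  have e : DCoh.tensorBi.obj F ⋙ stalkFun y ≅ ((G₂ y).obj F) := (stalkTensorIso y).app F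
  have h0 : IsIso ((stalkFun y).map (mulX 𝒜 x hx a j i)) :=
    isIso_stalk_mulP 𝒜 𝒜 (hx j) (hidx a i) y hj
  have h1 : IsIso (((G₂ y).obj F).map (mulX 𝒜 x hx a j i)) := by
    change IsIso (((curriedTensor (ModuleCat.{u} (Ox y))).obj ((stalkFun y).obj F)).map
      ((stalkFun y).map (mulX 𝒜 x hx a j i)))
    infer_instance
  exact (NatIso.isIso_map_iff e (mulX 𝒜 x hx a j i)).2 h1

variable (hcov : ∀ y : ProjectiveSpectrum 𝒜, ∃ l, x l ∉ y.asHomogeneousIdeal)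

include hcov in
theorem exact_kdata (i : ℕ) :
    (ShortComplex.mk ((kdata 𝒜 x hx F a).d i) ((kdata 𝒜 x hx F a).d (i + 1))
      ((kdata 𝒜 x hx F a).d_comp_d i)).Exact := by
  apply exact_of_forall_stalk
  intro y
  obtain ⟨j, hj⟩ := hcov y
  exact exact_map (kdata 𝒜 x hx F a) (stalkFun y) j
    (fun i => isIso_stalk_XX 𝒜 x hx F a y j hj i) i

include hcov in
theorem mono_kdata : Mono ((kdata 𝒜 x hx F a).d 0) := by
  apply mono_of_forall_stalk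
  intro y
  obtain ⟨j, hj⟩ := hcov y
  exact mono_map (kdata 𝒜 x hx F a) (stalkFun y) j
    (fun i => isIso_stalk_XX 𝒜 x hx F a y j hj i)

end Data

section Data0

variable {R A : Type u} [CommRing R] [CommRing A] [Algebra R A] (𝒜 : ℕ → Submodule R A)
  [GradedAlgebra 𝒜]
variable {r : ℕ} (x : Fin r → A) (hx : ∀ l, x l ∈ 𝒜 1) (a : ℤ)

/-- the Koszul data of the twists `O(a + i)` and the `x l` -/
noncomputable def kdata0 : KData (Proj 𝒜).Modules r :=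
  @ofBiproducts _ _ _ Abelian.hasFiniteBiproducts _ (fun i : ℕ => GrTilde.tilde 𝒜 𝒜 (a + i))
    (mulX 𝒜 x hx a)
    (fun l m i => mulP_comm 𝒜 𝒜 (hx l) (hx m) (hidx a i) (hidx a (i + 1)) (hidx a i)
      (hidx a (i + 1)))

lemma kdata0_G (i : ℕ) : (kdata0 𝒜 x hx a).G i = GrTilde.tilde 𝒜 𝒜 (a + i) := rfl

variable (hcov : ∀ y : ProjectiveSpectrum 𝒜, ∃ l, x l ∉ y.asHomogeneousIdeal)

include hcov in
theorem exact_kdata0 (i : ℕ) :
    (ShortComplex.mk ((kdata0 𝒜 x hx a).d i) ((kdata0 𝒜 x hx a).d (i + 1))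
      ((kdata0 𝒜 x hx a).d_comp_d i)).Exact := by
  apply exact_of_forall_stalk
  intro y
  obtain ⟨j, hj⟩ := hcov y
  exact exact_map (kdata0 𝒜 x hx a) (stalkFun y) j
    (fun i => isIso_stalk_mulP 𝒜 𝒜 (hx j) (hidx a i) y hj) i

include hcov in
theorem mono_kdata0 : Mono ((kdata0 𝒜 x hx a).d 0) := by
  apply mono_of_forall_stalk
  intro y
  obtain ⟨j, hj⟩ := hcov y
  exact mono_map (kdata0 𝒜 x hx a) (stalkFun y) j
    (fun i => isIso_stalk_mulP 𝒜 𝒜 (hx j) (hidx a i) y hj)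

end Data0

end Groth.Agent.Lib.R2H2.KoszulSheaf
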