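import Groth.Agent.Lib.R2H2KoszulBot

/-!
# Dimension shifting along an exact Koszul complex after an exact functor (helper2, round 2)

`D` exact Koszul data in `X.Modules`, `F` an additive endofunctor preserving short exact sequences
(e.g. a twist by an invertible module).  Vanishing of `H^q(F Z^t)` from the terms to the left or to
the right; the connecting isomorphisms; additivity of dimensions.
-/

set_option backward.isDefEq.respectTransparency.types false
set_option autoImplicit false
universe u

namespace Groth.Agent.Lib.R2H2.KoszulTw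

open CategoryTheory CategoryTheory.Limits AlgebraicGeometry
open Groth.Agent.Lib.R2H2.KoszulAbs Groth.Agent.Lib.R2H2.HHLin Groth.Agent.Lib.R2H2.KoszulShift
open Groth.Agent.Lib.R2H2.KoszulBot

variable {X : Scheme.{u}}

section Les

variable (S : ShortComplex X.Modules) (hS : S.ShortExact)

include hS in
lemma injective_f_zero : Function.Injective (HmapL S.f 0) := by
  haveI := hS.mono_f
  exact injective_HmapL_zero S.f

include hS in
lemma injective_f_succ (i : ℕ) (h : Subsingleton (Coh.HH X S.X₃ i)) :
    Function.Injective (HmapL S.f (i + 1)) := by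
  rw [injective_iff_map_eq_zero]
  intro x hx
  obtain ⟨y, hy⟩ := exact₁ S hS i x hx
  rw [← hy, Subsingleton.elim y 0, map_zero]

include hS in
lemma surjective_g (i : ℕ) (h : Subsingleton (Coh.HH X S.X₁ (i + 1))) :
    Function.Surjective (HmapL S.g i) := fun x =>
  exact₃ S hS i x (Subsingleton.elim _ _)

lemma g_f_zero (i : ℕ) (x : Coh.HH X S.X₁ i) : HmapL S.g i (HmapL S.f i x) = 0 := by
  rw [← HmapL_comp, S.zero, HmapL_zero]

include hS in
lemma injective_delta (i : ℕ) (h : Subsingleton (Coh.HH X S.X₂ i)) :
    Function.Injective (deltaL S hS i) := by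
  rw [injective_iff_map_eq_zero]
  intro x hx
  obtain ⟨y, hy⟩ := exact₃ S hS i x hx
  rw [← hy, Subsingleton.elim y 0, map_zero]

include hS in
lemma surjective_delta (i : ℕ) (h : Subsingleton (Coh.HH X S.X₂ (i + 1))) :
    Function.Surjective (deltaL S hS i) := fun x =>
  exact₁ S hS i x (Subsingleton.elim _ _)

variable (A : Type u) [CommRing A] [X.Over (Spec (CommRingCat.of A))]

/-- the connecting isomorphism when the middle term is acyclic in degrees `i`, `i + 1` -/
noncomputable def deltaEquiv (i : ℕ) (h0 : Subsingleton (Coh.HH X S.X₂ i))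
    (h1 : Subsingleton (Coh.HH X S.X₂ (i + 1))) :
    Coh.HH X S.X₃ i ≃ₗ[A] Coh.HH X S.X₁ (i + 1) :=
  LinearEquiv.ofBijective (deltaA A S hS i)
    ⟨injective_delta S hS i h0, surjective_delta S hS i h1⟩

/-- the isomorphism on cohomology induced by an isomorphism of modules -/
noncomputable def isoEquiv {M N : X.Modules} (e : M ≅ N) (i : ℕ) :
    Coh.HH X M i ≃ₗ[A] Coh.HH X N i :=
  LinearEquiv.ofBijective (HmapA A e.hom i) (by
    refine Function.bijective_iff_has_inverse.2 ⟨HmapL e.inv i, fun x => ?_, fun x => ?_⟩
    · change HmapL e.inv i (HmapL e.hom i x) = x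
      rw [← HmapL_comp, e.hom_inv_id, HmapL_id]
    · change HmapL e.hom i (HmapL e.inv i x) = x
      rw [← HmapL_comp, e.inv_hom_id, HmapL_id])

/-- `f` induces an isomorphism when the cokernel is acyclic in degrees `i`, `i + 1` -/
noncomputable def fEquiv (i : ℕ) (h0 : Subsingleton (Coh.HH X S.X₃ i))
    (h1 : Subsingleton (Coh.HH X S.X₃ (i + 1))) :
    Coh.HH X S.X₁ (i + 1) ≃ₗ[A] Coh.HH X S.X₂ (i + 1) :=
  LinearEquiv.ofBijective (HmapA A S.f (i + 1))
    ⟨injective_f_succ S hS i h0, fun x =>
      exact₂ S hS (i + 1) x (Subsingleton.elim _ _)⟩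

end Les

section Dim

variable (k : Type u) [Field k] [X.Over (Spec (CommRingCat.of k))]
variable (S : ShortComplex X.Modules) (hS : S.ShortExact)

include hS in
/-- additivity of dimensions in a short exact piece of the long exact sequence -/
theorem finrank_add (i : ℕ) (hinj : Function.Injective (HmapL S.f i))
    (hsurj : Function.Surjective (HmapL S.g i)) [Module.Finite k (Coh.HH X S.X₂ i)] :
    Module.finrank k (Coh.HH X S.X₂ i) =
      Module.finrank k (Coh.HH X S.X₁ i) + Module.finrank k (Coh.HH X S.X₃ i) := by
  have h1 := LinearMap.finrank_range_add_finrank_ker (HmapA k S.g i)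
  have h2 : LinearMap.range (HmapA k S.g i) = ⊤ := LinearMap.range_eq_top.2 hsurj
  have h3 : LinearMap.ker (HmapA k S.g i) = LinearMap.range (HmapA k S.f i) := by
    ext x
    constructor
    · intro hx
      obtain ⟨y, hy⟩ := exact₂ S hS i x hx
      exact ⟨y, hy⟩
    · rintro ⟨y, rfl⟩
      exact g_f_zero S i y
  rw [h2, h3, finrank_top, LinearMap.finrank_range_of_inj (f := HmapA k S.f i) hinj] at h1
  omega

end Dim

section Koszul

variable {r : ℕ} (D : KData X.Modules r)
variable (hex : ∀ i : ℕ, (ShortComplex.mk (D.d i) (D.d (i + 1)) (D.d_comp_d i)).Exact)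
variable (F : X.Modules ⥤ X.Modules) [F.Additive]
  (hF : ∀ S : ShortComplex X.Modules, S.ShortExact → (S.map F).ShortExact)

include hex hF in
lemma sesF_shortExact (i : ℕ) : ((ses D i).map F).ShortExact := hF _ (ses_shortExact D hex i)

lemma subsingleton_HH_FK (i q : ℕ) (h : Subsingleton (Coh.HH X (F.obj (D.G i)) q)) :
    Subsingleton (Coh.HH X (F.obj (D.K i)) q) :=
  subsingleton_HH_K (D.map F) i q h

lemma subsingleton_HH_FK_of_lt (i q : ℕ) (hi : r < i) :
    Subsingleton (Coh.HH X (F.obj (D.K i)) q) :=
  subsingleton_HH_of_isZero (F.map_isZero (D.isZero_K i hi)) q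

include hex hF in
/-- vanishing of the cohomology of the twisted cycles, from the terms to the left -/
theorem subsingleton_HH_FZ_left (hmono : Mono (D.d 0)) (t : ℕ) : ∀ (q : ℕ),
    (∀ i : ℕ, i < t → Subsingleton (Coh.HH X (F.obj (D.K i)) (q + (t - (i + 1))))) →
    Subsingleton (Coh.HH X (F.obj (kernel (D.d t))) q) := by
  induction t with
  | zero =>
    intro q _
    have := hmono
    exact subsingleton_HH_of_isZero (F.map_isZero (isZero_kernel_of_mono (D.d 0))) q
  | succ t ih =>
    intro q h
    have hS := sesF_shortExact D hex F hF t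
    have h1 : Subsingleton (Coh.HH X ((ses D t).map F).X₁ (q + 1)) := by
      apply ih (q + 1)
      intro i hi
      have e : q + 1 + (t - (i + 1)) = q + (t + 1 - (i + 1)) := by omega
      rw [e]
      exact h i (by omega)
    have h2 : Subsingleton (Coh.HH X ((ses D t).map F).X₂ q) := by
      have e : q + (t + 1 - (t + 1)) = q := by omega
      have h3 := h t (by omega)
      rw [e] at h3
      exact h3
    have h0 : ∀ x : Coh.HH X ((ses D t).map F).X₃ q, x = 0 := fun x => by
      obtain ⟨y, hy⟩ := exact₃ ((ses D t).map F) hS q x (Subsingleton.elim _ _)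
      rw [← hy, Subsingleton.elim y 0, map_zero]
    exact ⟨fun a b => (h0 a).trans (h0 b).symm⟩

include hex hF in
/-- vanishing of the cohomology of the twisted cycles, from the terms to the right -/
theorem subsingleton_HH_FZ_right (q : ℕ) : ∀ (i : ℕ),
    (∀ j : ℕ, j ≤ q → Subsingleton (Coh.HH X (F.obj (D.K (i + j))) (q - j))) →
    Subsingleton (Coh.HH X (F.obj (kernel (D.d i))) q) := by
  induction q with
  | zero =>
    intro i h
    have hS := sesF_shortExact D hex F hF i
    have h2 : Subsingleton (Coh.HH X ((ses D i).map F).X₂ 0) := h 0 le_rfl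
    have hinj := injective_f_zero ((ses D i).map F) hS
    exact ⟨fun a b => hinj (Subsingleton.elim _ _)⟩
  | succ q ih =>
    intro i h
    have hS := sesF_shortExact D hex F hF i
    have h2 : Subsingleton (Coh.HH X ((ses D i).map F).X₂ (q + 1)) := h 0 (Nat.zero_le _)
    have h3 : Subsingleton (Coh.HH X ((ses D i).map F).X₃ q) := by
      apply ih (i + 1)
      intro j hj
      have h4 := h (j + 1) (by omega)
      have e1 : i + (j + 1) = i + 1 + j := by omega
      have e2 : q + 1 - (j + 1) = q - j := by omega
      rw [e1, e2] at h4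
      exact h4
    have h0 : ∀ x : Coh.HH X ((ses D i).map F).X₁ (q + 1), x = 0 := fun x => by
      obtain ⟨y, hy⟩ := exact₁ ((ses D i).map F) hS q x (Subsingleton.elim _ _)
      rw [← hy, Subsingleton.elim y 0, map_zero]
    exact ⟨fun a b => (h0 a).trans (h0 b).symm⟩

/-- the top Koszul term is its single summand -/
noncomputable def isoKGTop : D.K r ≅ D.G r where
  hom := D.prj r Finset.univ
  inv := D.inj r Finset.univ
  hom_inv_id := by
    have h := D.total r
    rw [Finset.sum_eq_single Finset.univ] at h
    · exact h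
    · intro S _ hS
      have hc : S.card ≠ r := by
        intro hc
        apply hS
        apply Finset.eq_univ_of_card
        rw [hc, Fintype.card_fin]
      rw [D.prj_zero r S hc, zero_comp]
    · intro h'
      exact absurd (Finset.mem_univ _) h'
  inv_hom_id := inj_prj_univ D

end Koszul

section KDim

variable (k : Type u) [Field k] [X.Over (Spec (CommRingCat.of k))]
variable {r : ℕ} (D : KData X.Modules r)

/-- the cohomology of a Koszul term is the sum of the cohomologies of its summands -/
noncomputable def HHKEquiv (i q : ℕ) :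
    Coh.HH X (D.K i) q ≃ₗ[k] ({S : Finset (Fin r) // S.card = i} → Coh.HH X (D.G i) q) where
  toFun x := fun S => HmapA k (D.prj i S.1) q x
  map_add' x y := by
    funext S
    exact map_add _ x y
  map_smul' c x := by
    funext S
    exact map_smul _ c x
  invFun y := ∑ S : {S : Finset (Fin r) // S.card = i}, HmapA k (D.inj i S.1) q (y S)
  left_inv x := by
    have h1 : ∀ S : {S : Finset (Fin r) // S.card = i},
        HmapA k (D.inj i S.1) q (HmapA k (D.prj i S.1) q x) =
          HmapL (D.prj i S.1 ≫ D.inj i S.1) q x := fun S => (HmapL_comp _ _ q x).symm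
    simp only [h1]
    have h2 : HmapL (∑ S : Finset (Fin r), D.prj i S ≫ D.inj i S) q x = x := by
      rw [D.total i, HmapL_id]
    rw [HmapL_sum] at h2
    classical
    have h3 : ∑ S : {S : Finset (Fin r) // S.card = i}, HmapL (D.prj i S.1 ≫ D.inj i S.1) q x =
        ∑ S ∈ Finset.univ.filter (fun S : Finset (Fin r) => S.card = i),
          HmapL (D.prj i S ≫ D.inj i S) q x :=
      (Finset.sum_subtype (Finset.univ.filter (fun S : Finset (Fin r) => S.card = i))
        (by simp) (fun S => HmapL (D.prj i S ≫ D.inj i S) q x)).symm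
    rw [h3, Finset.sum_subset (Finset.filter_subset _ _)]
    · exact h2
    · intro S _ hS
      have hc : S.card ≠ i := fun hc => hS (Finset.mem_filter.2 ⟨Finset.mem_univ _, hc⟩)
      rw [D.prj_zero i S hc, zero_comp, HmapL_zero]
  right_inv y := by
    funext T
    change HmapA k (D.prj i T.1) q
      (∑ S : {S : Finset (Fin r) // S.card = i}, HmapA k (D.inj i S.1) q (y S)) = y T
    rw [map_sum, Finset.sum_eq_single T]
    · change HmapL (D.prj i T.1) q (HmapL (D.inj i T.1) q (y T)) = y T
      rw [← HmapL_comp, D.inj_prj, if_pos ⟨rfl, T.2⟩, HmapL_id]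
    · intro S _ hS
      change HmapL (D.prj i T.1) q (HmapL (D.inj i S.1) q (y S)) = 0
      rw [← HmapL_comp, D.inj_prj, if_neg (fun h => hS (Subtype.ext h.1)), HmapL_zero]
    · intro h
      exact absurd (Finset.mem_univ _) h

theorem finrank_HH_K (i q : ℕ) [Module.Finite k (Coh.HH X (D.G i) q)] :
    Module.finrank k (Coh.HH X (D.K i) q) =
      Nat.choose r i * Module.finrank k (Coh.HH X (D.G i) q) := by
  rw [(HHKEquiv k D i q).finrank_eq, Module.finrank_pi_fintype]
  simp only [Finset.sum_const, Finset.card_univ, smul_eq_mul]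
  congr 1
  rw [Fintype.card_subtype]
  have : (Finset.univ.filter fun S : Finset (Fin r) => S.card = i) =
      Finset.powersetCard i Finset.univ := by
    ext S
    simp [Finset.mem_powersetCard]
  rw [this, Finset.card_powersetCard, Finset.card_univ, Fintype.card_fin]

theorem finite_HH_K (i q : ℕ) [Module.Finite k (Coh.HH X (D.G i) q)] :
    Module.Finite k (Coh.HH X (D.K i) q) :=
  Module.Finite.equiv (HHKEquiv k D i q).symm

end KDim

end Groth.Agent.Lib.R2H2.KoszulTw
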