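import Groth.Agent.Lib.R2H2AugNil
import Groth.Agent.Lib.R2H2AmpleEltQC
import Mathlib.RingTheory.IntegralClosure.IsIntegral.Basic
import Mathlib.RingTheory.Finiteness.Ideal
set_option backward.isDefEq.respectTransparency.types false

/-!
# The sub-λ-ring generated by finitely many bundles (helper2, round 2)

* `nilpotent_and_fg` : a subring generated by finitely many elements `t` with `t - ε t` nilpotent is
  a finitely generated abelian group whose augmentation ideal is nilpotent.
* `main8693` : the subring of `K(X)` generated by the `λ^j [E_i]` (S8693).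
-/

set_option autoImplicit false
set_option linter.unusedSectionVars false
universe v u

namespace Groth.Agent.Lib.R2H2.LamSubring

open CategoryTheory CategoryTheory.Limits AlgebraicGeometry LambdaRing

section Alg

variable {K : Type v} [CommRing K] (ε : K →+* ℤ) (T : Set K)

theorem sub_aug_mem {r : K} (hr : r ∈ Subring.closure T) :
    r - ((ε r : ℤ) : K) ∈ Ideal.span ((fun t : K => t - ((ε t : ℤ) : K)) '' T) := by
  induction hr using Subring.closure_induction with
  | mem x hx => exact Ideal.subset_span ⟨x, hx, rfl⟩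
  | zero => simp
  | one => simp
  | add x y _ _ ihx ihy =>
    have h : x + y - ((ε (x + y) : ℤ) : K) = (x - ((ε x : ℤ) : K)) + (y - ((ε y : ℤ) : K)) := by
      rw [map_add, Int.cast_add]; ring
    rw [h]
    exact Ideal.add_mem _ ihx ihy
  | neg x _ ih =>
    have h : -x - ((ε (-x) : ℤ) : K) = -(x - ((ε x : ℤ) : K)) := by
      rw [map_neg, Int.cast_neg]; ring
    rw [h]
    exact Ideal.neg_mem_iff _ |>.2 ih
  | mul x y _ _ ihx ihy =>
    have h : x * y - ((ε (x * y) : ℤ) : K) =
        (x - ((ε x : ℤ) : K)) * y + ((ε x : ℤ) : K) * (y - ((ε y : ℤ) : K)) := by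
      rw [map_mul, Int.cast_mul]; ring
    rw [h]
    exact Ideal.add_mem _ (Ideal.mul_mem_right _ _ ihx) (Ideal.mul_mem_left _ _ ihy)

theorem nilpotent_and_fg (hT : T.Finite)
    (hnil : ∀ t ∈ T, IsNilpotent (t - ((ε t : ℤ) : K))) :
    (∃ n : ℕ, ∀ f : Fin n → K, (∀ t : Fin n, f t ∈ Subring.closure T ∧ ε (f t) = 0) →
        ∏ t, f t = 0) ∧
      (Subring.closure T).toAddSubgroup.FG := by
  constructor
  · set J : Ideal K := Ideal.span ((fun t : K => t - ((ε t : ℤ) : K)) '' T) with hJ
    have hJfg : J.FG := Submodule.fg_span (hT.image _)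
    have hJrad : J ≤ (⊥ : Ideal K).radical := by
      rw [hJ, Ideal.span_le]
      rintro _ ⟨t, ht, rfl⟩
      obtain ⟨n, hn⟩ := hnil t ht
      exact ⟨n, by rw [hn]; exact Ideal.zero_mem _⟩
    obtain ⟨n, hn⟩ := Ideal.exists_pow_le_of_le_radical_of_fg hJrad hJfg
    refine ⟨n, fun f hf => ?_⟩
    have hmem : ∀ t : Fin n, f t ∈ J := by
      intro t
      have h := sub_aug_mem ε T (hf t).1
      rw [(hf t).2, Int.cast_zero, sub_zero] at h
      exact h
    have hprod : ∏ t, f t ∈ J ^ n := by
      have h := Ideal.prod_mem_prod (s := Finset.univ) (I := fun _ : Fin n => J)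
        (x := f) (fun t _ => hmem t)
      rw [Finset.prod_const, Finset.card_univ, Fintype.card_fin] at h
      exact h
    exact (Submodule.mem_bot K).1 (hn hprod)
  · have hint : ∀ x ∈ T, IsIntegral ℤ x := by
      intro x hx
      obtain ⟨n, hn⟩ := hnil x hx
      have h1 : IsIntegral ℤ (x - ((ε x : ℤ) : K)) := by
        refine IsIntegral.of_pow (Nat.succ_pos n) ?_
        rw [pow_succ, hn, zero_mul]
        exact isIntegral_zero
      have h2 : x = (x - ((ε x : ℤ) : K)) + algebraMap ℤ K (ε x) := by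
        rw [algebraMap_int_eq, eq_intCast]; ring
      rw [h2]
      exact h1.add isIntegral_algebraMap
    have h1 := fg_adjoin_of_finite (R := ℤ) hT hint
    rw [Algebra.adjoin_int] at h1
    have h2 := (Submodule.fg_iff_addSubgroup_fg _).1 h1
    have h3 : (Subalgebra.toSubmodule (subalgebraOfSubring (Subring.closure T))).toAddSubgroup =
        (Subring.closure T).toAddSubgroup := by
      ext x
      rfl
    rw [← h3]
    exact h2

end Alg

section Model

variable {K : Type v} [CommRing K] [LambdaOps K]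

theorem lam_zero_elt (j : ℕ) (hj : 1 ≤ j) : LambdaOps.lam j (0 : K) = 0 := by
  have h := Groth.Agent.Lib.Helper4.lamSeries_zero (K := K)
  have h2 := congrArg (PowerSeries.coeff j) h
  rw [lamSeries, PowerSeries.coeff_mk, PowerSeries.coeff_one, if_neg (by omega)] at h2
  exact h2

variable (X : Scheme.{u}) [ConnectedSpace X] (P : PosStructure K) (φ : SGA6.Kvb X →+ K)
  (hK : KRR.IsModel X K P φ)

include hK in
/-- **S8693** -/
theorem main8693 (L : X.Modules) (hL : CohB1.IsAmple L) (k : ℕ) (E : Fin k → X.Modules)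
    (hE : ∀ i : Fin k, FlatMod.IsFinLocFree (E i)) :
    (∃ n : ℕ, ∀ f : Fin n → K,
      (∀ t : Fin n, f t ∈ Subring.closure {y : K | ∃ (i : Fin k) (j : ℕ),
          y = LambdaOps.lam j (φ (KRR.cl X (E i)))} ∧ P.aug (f t) = 0) → ∏ t, f t = 0) ∧
    (Subring.closure {y : K | ∃ (i : Fin k) (j : ℕ),
      y = LambdaOps.lam j (φ (KRR.cl X (E i)))}).toAddSubgroup.FG := by
  have hu := Groth.Agent.Lib.R2H2.AmpleEltQC.isAmpleElt_cl_qc X P φ hK L hL
  refine nilpotent_and_fg P.aug _ ?_ ?_
  · refine Set.Finite.subset ((Set.finite_singleton (0 : K)).union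
      (Set.finite_iUnion fun i : Fin k => (Set.finite_Iic ((P.aug (φ (KRR.cl X (E i)))).toNat)).image
        (fun j => LambdaOps.lam j (φ (KRR.cl X (E i)))))) ?_
    rintro y ⟨i, j, rfl⟩
    by_cases hj : j ≤ (P.aug (φ (KRR.cl X (E i)))).toNat
    · right
      exact Set.mem_iUnion.2 ⟨i, j, hj, rfl⟩
    · left
      rw [Set.mem_singleton_iff]
      rcases Groth.Agent.Lib.R2H2.AmpleEltQC.cl_mem_pos_or_zero_qc X P φ hK (E i) (hE i) with
        hpos | hzero
      · refine P.lam_eq_zero _ hpos j ?_
        have := P.aug_pos _ hpos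
        omega
      · rw [hzero]
        rw [hzero, map_zero] at hj
        exact lam_zero_elt j (by simp at hj; omega)
  · intro t _
    refine Groth.Agent.Lib.R2H2.AugNil.isNilpotent_of_aug_eq_zero P _ hu _ ?_
    rw [map_sub, map_intCast, Int.cast_id, sub_self]

end Model

end Groth.Agent.Lib.R2H2.LamSubring
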