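import Groth.Agent.Lib.R2H2ProjSec
import Groth.Agent.Lib.R2H2KoszulPoly
import Groth.Agent.Lib.R2H2LocCech

/-!
# The Laurent-monomial model of the Čech complex of the polynomial ring (helper2, round 2)

For `A = R[X_0, …, X_n]` and the list of variables, every localization `A_{X_{i_0} ⋯ X_{i_p}}`
embeds in the Laurent polynomial ring `𝕃 = R[ℤ^{n+1}]`, compatibly with the restriction maps; the
degree-`d` strand is identified with the Laurent polynomials supported on exponents `e` with
`∑ e = d` and `e_i ≥ 0` for `i ∉ {i_0, …, i_p}`.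
-/

set_option autoImplicit false
set_option linter.unusedSectionVars false
universe u

namespace Groth.Agent.Lib.R2H2.Laurent

open MvPolynomial CategoryTheory Opposite
open Groth.Agent.Lib.Helper16.CechLow Groth.Agent.Lib.R2H2.LocPsh Groth.Agent.Lib.R2H2.CechCmp
  Groth.Agent.Lib.R2H2.Strand Groth.Agent.Lib.R2H2.StrandCech Groth.Agent.Lib.R2H2.KoszulPoly
  Groth.Agent.Lib.R2H2.ProjSec

variable (R : Type u) [CommRing R] (n : ℕ)

/-- exponent vectors of Laurent monomials -/
abbrev GG (n : ℕ) := Fin (n + 1) → ℤ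

/-- the Laurent polynomial ring -/
abbrev LL := AddMonoidAlgebra R (GG n)

/-- the embedding of exponents -/
def iot : (Fin (n + 1) →₀ ℕ) →+ GG n where
  toFun u := fun i => (u i : ℤ)
  map_zero' := by ext; simp
  map_add' := by intros; ext; simp

lemma iot_apply (u : Fin (n + 1) →₀ ℕ) (i : Fin (n + 1)) : iot n u i = (u i : ℤ) := rfl

lemma iot_injective : Function.Injective (iot n) := by
  intro u v h
  ext i
  have h1 : ((u i : ℕ) : ℤ) = ((v i : ℕ) : ℤ) := congrFun h i
  exact_mod_cast h1

/-- the embedding of the polynomial ring in the Laurent polynomial ring -/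
noncomputable def phi : MvPolynomial (Fin (n + 1)) R →+* LL R n :=
  AddMonoidAlgebra.mapDomainRingHom R (iot n)

lemma phi_monomial (u : Fin (n + 1) →₀ ℕ) (r : R) :
    phi R n (monomial u r) = AddMonoidAlgebra.single (iot n u) r := by
  change AddMonoidAlgebra.mapDomain (iot n) (AddMonoidAlgebra.single u r) = _
  exact AddMonoidAlgebra.mapDomain_single

lemma phi_injective : Function.Injective (phi R n) :=
  AddMonoidAlgebra.mapDomain_injective (iot_injective n)

lemma support_phi (a : MvPolynomial (Fin (n + 1)) R) (e : GG n)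
    (he : e ∈ (phi R n a).coeff.support) : ∃ u ∈ a.support, iot n u = e := by
  classical
  have h1 : (phi R n a).coeff.support ⊆ (AddMonoidAlgebra.coeff a).support.image (iot n) :=
    Finsupp.mapDomain_support
  have h2 := h1 he
  rw [Finset.mem_image] at h2
  exact h2

lemma exists_phi_eq (f : LL R n) (hf : ∀ e ∈ f.coeff.support, ∀ i, 0 ≤ e i) :
    ∃ a : MvPolynomial (Fin (n + 1)) R, phi R n a = f := by
  refine ⟨AddMonoidAlgebra.comapDomain (iot n) (iot_injective n) f, ?_⟩
  apply AddMonoidAlgebra.mapDomain_comapDomain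
  intro e he
  have h := hf e he
  refine ⟨Finsupp.equivFunOnFinite.symm (fun i => (e i).toNat), ?_⟩
  funext i
  change ((e i).toNat : ℤ) = e i
  exact Int.toNat_of_nonneg (h i)

/-- the Laurent polynomial ring as an algebra over the polynomial ring -/
noncomputable scoped instance algLL : Algebra (MvPolynomial (Fin (n + 1)) R) (LL R n) :=
  (phi R n).toAlgebra

lemma smul_def' (a : MvPolynomial (Fin (n + 1)) R) (f : LL R n) : a • f = phi R n a * f := rfl

lemma isUnit_phi_monomial (u : Fin (n + 1) →₀ ℕ) : IsUnit (phi R n (monomial u 1)) := by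
  rw [phi_monomial]
  refine ⟨⟨AddMonoidAlgebra.single (iot n u) 1, AddMonoidAlgebra.single (-iot n u) 1, ?_, ?_⟩, rfl⟩
  · rw [AddMonoidAlgebra.single_mul_single, add_neg_cancel, mul_one]
    rfl
  · rw [AddMonoidAlgebra.single_mul_single, neg_add_cancel, mul_one]
    rfl

lemma isUnit_end_of_isUnit (a : MvPolynomial (Fin (n + 1)) R) (h : IsUnit (phi R n a)) :
    IsUnit (algebraMap (MvPolynomial (Fin (n + 1)) R)
      (Module.End (MvPolynomial (Fin (n + 1)) R) (LL R n)) a) := by
  rw [Module.End.isUnit_iff]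
  obtain ⟨v, hv⟩ := h
  constructor
  · intro f g hfg
    have h1 : phi R n a * f = phi R n a * g := hfg
    rw [← hv] at h1
    exact (Units.mul_right_inj v).mp h1
  · intro g
    refine ⟨(v⁻¹ : (LL R n)ˣ) * g, ?_⟩
    change phi R n a * ((v⁻¹ : (LL R n)ˣ) * g) = g
    rw [← hv, ← mul_assoc, Units.mul_inv, one_mul]

section Index

/-- the variable attached to an index of the Čech complex -/
noncomputable def ix (i : Idx (vars R n)) : Fin (n + 1) := Fin.cast List.length_ofFn i.down

/-- the index attached to a variable -/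
noncomputable def mkIdx (j : Fin (n + 1)) : Idx (vars R n) := ⟨Fin.cast List.length_ofFn.symm j⟩

@[simp] lemma ix_mkIdx (j : Fin (n + 1)) : ix R n (mkIdx R n j) = j := rfl

@[simp] lemma mkIdx_ix (i : Idx (vars R n)) : mkIdx R n (ix R n i) = i := rfl

lemma get_ix (i : Idx (vars R n)) : (vars R n).get i.down = X (ix R n i) := by
  unfold KoszulPoly.vars ix
  rw [List.get_ofFn]

/-- the set of variables occurring in a tuple -/
def imx {p : ℕ} (x : Fin (p + 1) → Idx (vars R n)) : Set (Fin (n + 1)) :=
  Set.range (fun k => ix R n (x k))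

/-- monomials in a given set of variables -/
def monSub (T : Set (Fin (n + 1))) : Submonoid (MvPolynomial (Fin (n + 1)) R) where
  carrier := {s | ∃ u : Fin (n + 1) →₀ ℕ, (∀ i, u i ≠ 0 → i ∈ T) ∧ s = monomial u 1}
  one_mem' := ⟨0, by simp, rfl⟩
  mul_mem' := by
    rintro _ _ ⟨u, hu, rfl⟩ ⟨v, hv, rfl⟩
    refine ⟨u + v, ?_, by rw [monomial_mul, one_mul]⟩
    intro i hi
    by_cases h : u i = 0
    · apply hv
      rw [Finsupp.add_apply, h, zero_add] at hi
      exact hi
    · exact hu i h

lemma SS_le_monSub {p : ℕ} (x : Fin (p + 1) → Idx (vars R n)) :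
    SS (vars R n) x ≤ monSub R n (imx R n x) := by
  apply SS_le
  intro k
  rw [get_ix]
  refine ⟨Finsupp.single (ix R n (x k)) 1, ?_, rfl⟩
  intro i hi
  rw [Finsupp.single_apply] at hi
  split_ifs at hi with h
  · exact ⟨k, h⟩
  · exact absurd rfl hi

lemma isUnit_phi_of_mem {p : ℕ} (x : Fin (p + 1) → Idx (vars R n)) (s : SS (vars R n) x) :
    IsUnit (phi R n s.1) := by
  obtain ⟨u, -, hu⟩ := SS_le_monSub R n x s.2
  rw [hu]
  exact isUnit_phi_monomial R n u

end Index

section Psi

variable {p : ℕ} (x : Fin (p + 1) → Idx (vars R n))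

/-- the embedding of the localization in the Laurent polynomial ring -/
noncomputable def psi :
    LocalizedModule (SS (vars R n) x) (MvPolynomial (Fin (n + 1)) R) →ₗ[MvPolynomial (Fin (n + 1)) R]
      LL R n :=
  LocalizedModule.lift (SS (vars R n) x)
    (Algebra.linearMap (MvPolynomial (Fin (n + 1)) R) (LL R n))
    (fun s => isUnit_end_of_isUnit R n s.1 (isUnit_phi_of_mem R n x s))

lemma psi_mk (a : MvPolynomial (Fin (n + 1)) R) (s : SS (vars R n) x) :
    phi R n s.1 * psi R n x (LocalizedModule.mk a s) = phi R n a := by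
  unfold psi
  rw [LocalizedModule.lift_mk]
  have hu := isUnit_end_of_isUnit R n s.1 (isUnit_phi_of_mem R n x s)
  have key := (Module.End.algebraMap_isUnit_inv_apply_eq_iff (h := hu)
    (m := Algebra.linearMap (MvPolynomial (Fin (n + 1)) R) (LL R n) a) (m' := _)).mp rfl
  exact key.symm

lemma psi_eq_of_mul (a : MvPolynomial (Fin (n + 1)) R) (s : SS (vars R n) x) (f : LL R n)
    (h : phi R n s.1 * f = phi R n a) : psi R n x (LocalizedModule.mk a s) = f := by
  apply (isUnit_phi_of_mem R n x s).mul_left_cancel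
  rw [psi_mk, h]

lemma psi_injective : Function.Injective (psi R n x) := by
  rw [injective_iff_map_eq_zero]
  intro z hz
  induction z with | _ a s
  have h := psi_mk R n x a s
  rw [hz, mul_zero] at h
  have ha : a = 0 := phi_injective R n (by rw [← h, map_zero])
  rw [ha, LocalizedModule.zero_mk]

lemma psi_locMap {q : ℕ} (y : Fin (q + 1) → Idx (vars R n))
    (h : SS (vars R n) x ≤ SS (vars R n) y)
    (z : LocalizedModule (SS (vars R n) x) (MvPolynomial (Fin (n + 1)) R)) :
    psi R n y (locMap (MvPolynomial (Fin (n + 1)) R) h z) = psi R n x z := by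
  induction z with | _ a s
  rw [locMap_mk]
  apply psi_eq_of_mul
  exact psi_mk R n x a s

end Psi

section Supp

/-- total degree of an exponent vector -/
def degG (e : GG n) : ℤ := ∑ i, e i

lemma degG_add (e e' : GG n) : degG n (e + e') = degG n e + degG n e' := by
  unfold degG
  simp only [Pi.add_apply]
  exact Finset.sum_add_distrib

lemma degG_neg (e : GG n) : degG n (-e) = -degG n e := by
  unfold degG
  simp only [Pi.neg_apply]
  exact Finset.sum_neg_distrib _

lemma degG_iot (w : Fin (n + 1) →₀ ℕ) :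
    degG n (iot n w) = ((Finsupp.weight (1 : Fin (n + 1) → ℕ) w : ℕ) : ℤ) := by
  have h0 : Finsupp.weight (1 : Fin (n + 1) → ℕ) w = Finsupp.degree w := by
    rw [Finsupp.degree_eq_weight_one]
    rfl
  rw [h0, Finsupp.degree_eq_sum]
  unfold degG
  push_cast
  rfl

lemma degG_iot_of_mem {a : MvPolynomial (Fin (n + 1)) R} {i : ℕ}
    (ha : a ∈ CohB1.polyGrading n R i) {w : Fin (n + 1) →₀ ℕ} (hw : w ∈ a.support) :
    degG n (iot n w) = i := by
  rw [degG_iot]
  have h1 : a.IsHomogeneous i := ha
  have h2 := h1 (MvPolynomial.mem_support_iff.mp hw)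
  rw [h2]

variable {p : ℕ} (x : Fin (p + 1) → Idx (vars R n)) (d : ℤ)

/-- the exponents allowed in the degree-`d` strand of the localization attached to a tuple -/
def Sup : Set (GG n) := {e | degG n e = d ∧ ∀ i, i ∉ imx R n x → 0 ≤ e i}

lemma psi_mk_monomial (a : MvPolynomial (Fin (n + 1)) R) (s : SS (vars R n) x)
    (u : Fin (n + 1) →₀ ℕ) (hu : s.1 = monomial u 1) :
    psi R n x (LocalizedModule.mk a s) = AddMonoidAlgebra.single (-iot n u) 1 * phi R n a := by
  apply psi_eq_of_mul
  rw [hu, phi_monomial, ← mul_assoc, AddMonoidAlgebra.single_mul_single, add_neg_cancel, mul_one]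
  exact one_mul _

theorem support_psi_strand
    (z : LocalizedModule (SS (vars R n) x) (MvPolynomial (Fin (n + 1)) R))
    (hz : z ∈ strand (zgr (CohB1.polyGrading n R) (CohB1.polyGrading n R)) (SS (vars R n) x) d)
    (e : GG n) (he : e ∈ (psi R n x z).coeff.support) : e ∈ Sup R n x d := by
  classical
  obtain ⟨i, j, a, s, ha, hs, hij, rfl⟩ :=
    exists_nat_rep (CohB1.polyGrading n R) (CohB1.polyGrading n R) hz
  obtain ⟨u, hu, hsu⟩ := SS_le_monSub R n x s.2
  rw [psi_mk_monomial R n x a s u hsu] at he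
  have h1 := AddMonoidAlgebra.support_coeff_single_mul_subset (phi R n a) (1 : R) (-iot n u) he
  rw [Finset.mem_image] at h1
  obtain ⟨e', he', rfl⟩ := h1
  obtain ⟨w, hw, rfl⟩ := support_phi R n a e' he'
  have ha0 : a ≠ 0 := by
    rintro rfl
    simp at hw
  have hR : (1 : R) ≠ 0 := by
    intro h1
    apply ha0
    have : Subsingleton R := subsingleton_of_zero_eq_one h1.symm
    exact Subsingleton.elim _ _
  have hdu : degG n (iot n u) = j := by
    have hs' : (monomial u (1 : R)) ∈ CohB1.polyGrading n R j := hsu ▸ hs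
    apply degG_iot_of_mem R n hs'
    rw [MvPolynomial.support_monomial, if_neg hR]
    exact Finset.mem_singleton_self u
  have hdw : degG n (iot n w) = i := degG_iot_of_mem R n ha hw
  have hij' : (i : ℤ) = j + d := by
    rcases hij with h | h
    · exact h
    · exact absurd h ha0
  refine ⟨?_, ?_⟩
  · rw [degG_add, degG_neg, hdu, hdw, hij']
    ring
  · intro i' hi'
    have hu0 : u i' = 0 := by
      by_contra h
      exact hi' (hu i' h)
    change 0 ≤ (-iot n u + iot n w) i'
    rw [Pi.add_apply, Pi.neg_apply, iot_apply, iot_apply, hu0]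
    simp

lemma coeff_phi (a : MvPolynomial (Fin (n + 1)) R) (u : Fin (n + 1) →₀ ℕ) :
    (phi R n a).coeff (iot n u) = MvPolynomial.coeff u a := by
  change (Finsupp.mapDomain (iot n) (AddMonoidAlgebra.coeff a)) (iot n u) = _
  rw [Finsupp.mapDomain_apply (iot_injective n)]
  rfl

/-- multiplicity vector of a tuple -/
noncomputable def mult : Fin (n + 1) →₀ ℕ := ∑ k, Finsupp.single (ix R n (x k)) 1

lemma gx_eq : gx (vars R n) x = monomial (mult R n x) 1 := by
  unfold gx mult
  rw [monomial_sum_one]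
  refine Finset.prod_congr rfl (fun k _ => ?_)
  rw [get_ix]
  rfl

lemma one_le_mult (i : Fin (n + 1)) (hi : i ∈ imx R n x) : 1 ≤ mult R n x i := by
  obtain ⟨k, rfl⟩ := hi
  unfold mult
  rw [Finsupp.finsetSum_apply]
  have h1 : (Finsupp.single (ix R n (x k)) 1 : Fin (n + 1) →₀ ℕ) (ix R n (x k)) = 1 :=
    Finsupp.single_eq_same
  calc 1 = (Finsupp.single (ix R n (x k)) 1 : Fin (n + 1) →₀ ℕ) (ix R n (x k)) := h1.symm
    _ ≤ _ := Finset.single_le_sum (f := fun k' => (Finsupp.single (ix R n (x k')) 1 :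
        Fin (n + 1) →₀ ℕ) (ix R n (x k))) (fun _ _ => Nat.zero_le _) (Finset.mem_univ k)

lemma weight_mult : Finsupp.weight (1 : Fin (n + 1) → ℕ) (mult R n x) = p + 1 := by
  unfold mult
  rw [map_sum]
  simp [Finsupp.weight_single]

theorem exists_psi_eq (f : LL R n) (hf : ∀ e ∈ f.coeff.support, e ∈ Sup R n x d) :
    ∃ z ∈ strand (zgr (CohB1.polyGrading n R) (CohB1.polyGrading n R)) (SS (vars R n) x) d,
      psi R n x z = f := by
  classical
  let N : ℕ := f.coeff.support.sup (fun e => Finset.univ.sup (fun i => (e i).natAbs))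
  have hN : ∀ e ∈ f.coeff.support, ∀ i, (e i).natAbs ≤ N := by
    intro e he i
    have h1 : (e i).natAbs ≤ Finset.univ.sup (fun i => (e i).natAbs) :=
      Finset.le_sup (f := fun i => (e i).natAbs) (Finset.mem_univ i)
    have h2 : Finset.univ.sup (fun i => (e i).natAbs) ≤ N :=
      Finset.le_sup (f := fun e : GG n => Finset.univ.sup (fun i => (e i).natAbs)) he
    exact h1.trans h2
  let m : Fin (n + 1) →₀ ℕ := N • mult R n x
  have hsupp : ∀ e' ∈ (AddMonoidAlgebra.single (iot n m) (1 : R) * f).coeff.support,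
      ∃ e ∈ f.coeff.support, e' = iot n m + e := by
    intro e' he'
    have h1 := AddMonoidAlgebra.support_coeff_single_mul_subset f (1 : R) (iot n m) he'
    rw [Finset.mem_image] at h1
    obtain ⟨e, he, rfl⟩ := h1
    exact ⟨e, he, rfl⟩
  obtain ⟨a, ha⟩ := exists_phi_eq R n (AddMonoidAlgebra.single (iot n m) (1 : R) * f) (by
    intro e' he' i
    obtain ⟨e, he, rfl⟩ := hsupp e' he'
    rw [Pi.add_apply, iot_apply]
    by_cases hi : i ∈ imx R n x
    · have h1 := one_le_mult R n x i hi
      have h2 := hN e he i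
      have h3 : N ≤ m i := by
        change N ≤ (N • mult R n x) i
        rw [Finsupp.smul_apply, smul_eq_mul]
        exact Nat.le_mul_of_pos_right N h1
      omega
    · have h1 := (hf e he).2 i hi
      omega)
  have hgN : gx (vars R n) x ^ N = monomial m 1 := by
    rw [gx_eq, monomial_pow, one_pow]
  have hwm : Finsupp.weight (1 : Fin (n + 1) → ℕ) m = N * (p + 1) := by
    change Finsupp.weight (1 : Fin (n + 1) → ℕ) (N • mult R n x) = _
    rw [map_nsmul, weight_mult, smul_eq_mul]
  have hsmem : gx (vars R n) x ^ N ∈ CohB1.polyGrading n R (N * (p + 1)) := by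
    rw [hgN]
    refine MvPolynomial.isHomogeneous_monomial _ ?_
    rw [Finsupp.degree_eq_weight_one]
    exact hwm
  have hsS : gx (vars R n) x ^ N ∈ SS (vars R n) x := pow_mem (gx_mem_SS (vars R n) x) N
  have hmul : phi R n (gx (vars R n) x ^ N) * f = phi R n a := by
    rw [ha, hgN, phi_monomial]
  by_cases ha0 : a = 0
  · refine ⟨0, zero_mem _, ?_⟩
    rw [map_zero]
    rw [ha0, map_zero] at hmul
    have hu := isUnit_phi_of_mem R n x ⟨_, hsS⟩
    exact (hu.mul_left_cancel (hmul.trans (mul_zero _).symm)).symm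
  · obtain ⟨w0, hw0⟩ : ∃ w0, w0 ∈ a.support := by
      by_contra h
      push Not at h
      exact ha0 (MvPolynomial.support_eq_empty.mp (Finset.eq_empty_of_forall_notMem h))
    have hdeg : ∀ w ∈ a.support, degG n (iot n w) = (N * (p + 1) : ℕ) + d := by
      intro w hw
      have h1 : iot n w ∈ (phi R n a).coeff.support := by
        rw [Finsupp.mem_support_iff, coeff_phi]
        exact MvPolynomial.mem_support_iff.mp hw
      rw [ha] at h1
      obtain ⟨e, he, he'⟩ := hsupp _ h1
      rw [he', degG_add, (hf e he).1, degG_iot, hwm]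
    let D : ℕ := Finsupp.weight (1 : Fin (n + 1) → ℕ) w0
    have hD : (D : ℤ) = (N * (p + 1) : ℕ) + d := by
      rw [← hdeg w0 hw0, degG_iot]
    have haD : a ∈ CohB1.polyGrading n R D := by
      intro w hw
      have h1 := hdeg w (MvPolynomial.mem_support_iff.mpr hw)
      rw [degG_iot, ← hD] at h1
      exact_mod_cast h1
    refine ⟨LocalizedModule.mk a ⟨_, hsS⟩,
      mk_mem_strand_nat (CohB1.polyGrading n R) (CohB1.polyGrading n R) haD hsmem hD, ?_⟩
    exact psi_eq_of_mul R n x a ⟨_, hsS⟩ f hmul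

end Supp

section Cochains

/-- the grading of the polynomial ring, as a `ℤ`-grading -/
noncomputable abbrev GP : ZGr (CohB1.polyGrading n R) (MvPolynomial (Fin (n + 1)) R) :=
  zgr (CohB1.polyGrading n R) (CohB1.polyGrading n R)

variable (d : ℤ)

/-- the degree-`d` strand of the Čech complex of the polynomial ring -/
noncomputable abbrev KK : CochainComplex AddCommGrpCat.{u} ℕ := CNd (vars R n) (GP R n) d

/-- `psi` on the strand, as an additive map on the value of the strand presheaf -/
noncomputable def psiS {p : ℕ} (x : Fin (p + 1) → Idx (vars R n)) :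
    ((pshd (GP R n) d).obj (op (Ux (fam (vars R n)) x)) : AddCommGrpCat.{u}) →+ LL R n where
  toFun w := psi R n x (sval (GP R n) w)
  map_zero' := map_zero (psi R n x)
  map_add' w w' := map_add (psi R n x) (sval (GP R n) w) (sval (GP R n) w')

/-- the Laurent polynomial attached to a cochain and a tuple, as an additive map -/
noncomputable def PsiHom {p : ℕ} (x : Fin (p + 1) → Idx (vars R n)) : (KK R n d).X p →+ LL R n :=
  (psiS R n d x).comp (pr (fam (vars R n)) (pshd (GP R n) d) p x).hom

lemma PsiHom_apply {p : ℕ} (x : Fin (p + 1) → Idx (vars R n)) (c : (KK R n d).X p) :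
    PsiHom R n d x c = psi R n x (sval (GP R n) (pr (fam (vars R n)) (pshd (GP R n) d) p x c)) :=
  rfl

lemma PsiHom_d {p : ℕ} (y : Fin (p + 2) → Idx (vars R n)) (c : (KK R n d).X p) :
    PsiHom R n d y ((KK R n d).d p (p + 1) c) =
      ∑ i : Fin (p + 2), (-1 : ℤ) ^ (i : ℕ) • PsiHom R n d (y ∘ Fin.succAbove i) c := by
  change psiS R n d y (pr (fam (vars R n)) (pshd (GP R n) d) (p + 1) y
    ((KK R n d).d p (p + 1) c)) = _
  rw [d_pr_apply, map_sum]
  refine Finset.sum_congr rfl (fun i _ => ?_)
  rw [map_zsmul]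
  congr 1
  change psi R n y (sval (GP R n) ((pshd (GP R n) d).map (face (fam (vars R n)) y i).op
    (pr (fam (vars R n)) (pshd (GP R n) d) p (y ∘ Fin.succAbove i) c))) = _
  exact (congrArg (psi R n y) (pshd_map_coe (GP R n) d (face (fam (vars R n)) y i).op
    (pr (fam (vars R n)) (pshd (GP R n) d) p (y ∘ Fin.succAbove i) c))).trans
    (psi_locMap R n (y ∘ Fin.succAbove i) y _ _)

lemma Psi_ext {p : ℕ} (c c' : (KK R n d).X p)
    (h : ∀ x, PsiHom R n d x c = PsiHom R n d x c') : c = c' := by
  apply elt_ext (fam (vars R n)) (pshd (GP R n) d) p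
  intro x
  apply sval_ext (GP R n)
  exact psi_injective R n x (h x)

lemma support_PsiHom {p : ℕ} (x : Fin (p + 1) → Idx (vars R n)) (c : (KK R n d).X p) (e : GG n)
    (he : e ∈ (PsiHom R n d x c).coeff.support) : e ∈ Sup R n x d :=
  support_psi_strand R n x d _ (sval_mem (GP R n) _) e he

lemma exists_cochain {p : ℕ} (F : (Fin (p + 1) → Idx (vars R n)) → LL R n)
    (hF : ∀ x, ∀ e ∈ (F x).coeff.support, e ∈ Sup R n x d) :
    ∃ c : (KK R n d).X p, ∀ x, PsiHom R n d x c = F x := by
  have h := fun x => exists_psi_eq R n x d (F x) (hF x)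
  choose z hz hzF using h
  refine ⟨mkElt (fam (vars R n)) (pshd (GP R n) d) p
    (fun x => (⟨z x, hz x⟩ : strand (GP R n) (SS (vars R n) x) d)), fun x => ?_⟩
  rw [PsiHom_apply, pr_mkElt]
  exact hzF x

end Cochains

section Homotopy

/-- exponent vectors whose first nonnegative coordinate is the `j`-th -/
def QJ (j : Fin (n + 1)) (e : GG n) : Prop := 0 ≤ e j ∧ ∀ i < j, e i < 0

open Classical in
/-- the projection onto the monomials whose first nonnegative exponent is the `j`-th -/
noncomputable def piJ (j : Fin (n + 1)) : LL R n →+ LL R n :=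
  (AddMonoidAlgebra.coeffAddEquiv.symm.toAddMonoidHom.comp
    (Finsupp.filterAddHom (QJ n j))).comp AddMonoidAlgebra.coeffAddEquiv.toAddMonoidHom

open Classical in
lemma coeff_piJ (j : Fin (n + 1)) (f : LL R n) (e : GG n) :
    (piJ R n j f).coeff e = if QJ n j e then f.coeff e else 0 := rfl

lemma mem_support_piJ (j : Fin (n + 1)) (f : LL R n) (e : GG n)
    (he : e ∈ (piJ R n j f).coeff.support) : e ∈ f.coeff.support ∧ QJ n j e := by
  classical
  rw [Finsupp.mem_support_iff, coeff_piJ] at he
  split_ifs at he with h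
  · exact ⟨Finsupp.mem_support_iff.mpr he, h⟩
  · exact absurd rfl he

lemma sum_piJ (f : LL R n) (hf : ∀ e ∈ f.coeff.support, ∃ j, 0 ≤ e j) :
    ∑ j, piJ R n j f = f := by
  classical
  apply AddMonoidAlgebra.coeff_injective
  ext e
  rw [AddMonoidAlgebra.coeff_sum, Finsupp.finsetSum_apply]
  simp only [coeff_piJ]
  by_cases he : f.coeff e = 0
  · rw [he]
    simp
  · obtain ⟨j, hj⟩ := hf e (Finsupp.mem_support_iff.mpr he)
    obtain ⟨j0, hj0, hmin⟩ := (wellFounded_lt (α := Fin (n + 1))).has_min {j | 0 ≤ e j} ⟨j, hj⟩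
    have hQ : QJ n j0 e := ⟨hj0, fun i hi => by
      by_contra h
      exact hmin i (not_lt.mp h) hi⟩
    rw [Finset.sum_eq_single j0, if_pos hQ]
    · intro j' _ hne
      rw [if_neg]
      rintro ⟨h1, h2⟩
      rcases lt_or_gt_of_ne hne with h | h
      · exact hmin j' h1 h
      · exact absurd hj0 (not_le.mpr (h2 j0 h))
    · intro h
      exact absurd (Finset.mem_univ j0) h

variable (d : ℤ)

lemma cons_succAbove_zero {p : ℕ} (a : Idx (vars R n)) (y : Fin (p + 1) → Idx (vars R n)) :
    (Fin.cons a y : Fin (p + 2) → Idx (vars R n)) ∘ Fin.succAbove 0 = y := by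
  funext k
  simp

lemma cons_succAbove_succ {p : ℕ} (a : Idx (vars R n)) (y : Fin (p + 2) → Idx (vars R n))
    (i : Fin (p + 2)) :
    (Fin.cons a y : Fin (p + 3) → Idx (vars R n)) ∘ Fin.succAbove i.succ =
      Fin.cons a (y ∘ Fin.succAbove i) := by
  funext k
  refine Fin.cases ?_ (fun k' => ?_) k
  · simp
  · simp

lemma imx_cons {p : ℕ} (j : Fin (n + 1)) (x : Fin (p + 1) → Idx (vars R n)) (i : Fin (n + 1))
    (hi : i ∈ imx R n (Fin.cons (mkIdx R n j) x : Fin (p + 2) → Idx (vars R n))) :
    i = j ∨ i ∈ imx R n x := by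
  obtain ⟨k, rfl⟩ := hi
  refine Fin.cases ?_ (fun k' => ?_) k
  · left
    simp
  · right
    exact ⟨k', by simp⟩

/-- a cocycle of positive degree supported on exponents with a nonnegative coordinate is a
coboundary -/
theorem exists_cobound (p : ℕ) (c : (KK R n d).X (p + 1))
    (hc : (KK R n d).d (p + 1) (p + 2) c = 0)
    (hNN : ∀ y, ∀ e ∈ (PsiHom R n d y c).coeff.support, ∃ j, 0 ≤ e j) :
    ∃ c' : (KK R n d).X p, (KK R n d).d p (p + 1) c' = c := by
  classical
  let F : (Fin (p + 1) → Idx (vars R n)) → LL R n := fun x =>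
    ∑ j, piJ R n j (PsiHom R n d (Fin.cons (mkIdx R n j) x : Fin (p + 2) → Idx (vars R n)) c)
  have hF : ∀ x, ∀ e ∈ (F x).coeff.support, e ∈ Sup R n x d := by
    intro x e he
    change e ∈ (AddMonoidAlgebra.coeff (∑ j, piJ R n j (PsiHom R n d
      (Fin.cons (mkIdx R n j) x : Fin (p + 2) → Idx (vars R n)) c))).support at he
    rw [AddMonoidAlgebra.coeff_sum] at he
    obtain ⟨j, -, hj⟩ := Finsupp.mem_support_finsetSum e he
    obtain ⟨h1, h2⟩ := mem_support_piJ R n j _ e hj
    have h3 := support_PsiHom R n d _ c e h1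
    refine ⟨h3.1, fun i hi => ?_⟩
    by_cases hij : i = j
    · rw [hij]
      exact h2.1
    · apply h3.2 i
      intro hmem
      rcases imx_cons R n j x i hmem with h | h
      · exact hij h
      · exact hi h
  obtain ⟨c', hc'⟩ := exists_cochain R n d F hF
  refine ⟨c', ?_⟩
  apply Psi_ext
  intro y
  rw [PsiHom_d]
  have hcoc : ∀ j : Fin (n + 1), PsiHom R n d y c =
      ∑ i : Fin (p + 2), (-1 : ℤ) ^ (i : ℕ) •
        PsiHom R n d (Fin.cons (mkIdx R n j) (y ∘ Fin.succAbove i) :
          Fin (p + 2) → Idx (vars R n)) c := by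
    intro j
    have h1 := PsiHom_d R n d (Fin.cons (mkIdx R n j) y : Fin (p + 3) → Idx (vars R n)) c
    rw [hc, map_zero, Fin.sum_univ_succ, cons_succAbove_zero] at h1
    simp only [cons_succAbove_succ, Fin.val_zero, pow_zero, one_smul, Fin.val_succ, pow_succ,
      mul_neg, mul_one, neg_smul, Finset.sum_neg_distrib] at h1
    exact (eq_of_sub_eq_zero (by rw [sub_eq_add_neg]; exact h1.symm))
  calc ∑ i : Fin (p + 2), (-1 : ℤ) ^ (i : ℕ) • PsiHom R n d (y ∘ Fin.succAbove i) c'
      = ∑ i : Fin (p + 2), (-1 : ℤ) ^ (i : ℕ) • ∑ j, piJ R n j (PsiHom R n d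
          (Fin.cons (mkIdx R n j) (y ∘ Fin.succAbove i) : Fin (p + 2) → Idx (vars R n)) c) := by
        refine Finset.sum_congr rfl (fun i _ => ?_)
        rw [hc']
    _ = ∑ j, piJ R n j (∑ i : Fin (p + 2), (-1 : ℤ) ^ (i : ℕ) • PsiHom R n d
          (Fin.cons (mkIdx R n j) (y ∘ Fin.succAbove i) : Fin (p + 2) → Idx (vars R n)) c) := by
        simp only [Finset.smul_sum, map_sum, map_zsmul]
        exact Finset.sum_comm
    _ = ∑ j, piJ R n j (PsiHom R n d y c) := by
        refine Finset.sum_congr rfl (fun j _ => ?_)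
        rw [← hcoc j]
    _ = PsiHom R n d y c := sum_piJ R n _ (hNN y)

/-- positive-degree cohomology of the degree-`d` strand vanishes for `d > -(n+1)` -/
theorem isZero_homology_pos (q : ℕ) (hd : -((n : ℤ) + 1) < d) :
    Limits.IsZero ((KK R n d).homology (q + 1)) := by
  rw [← HomologicalComplex.exactAt_iff_isZero_homology,
    HomologicalComplex.exactAt_iff' (KK R n d) q (q + 1) (q + 2) (by simp) (by simp),
    ShortComplex.ab_exact_iff]
  intro c hc
  apply exists_cobound R n d q c hc
  intro y e he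
  have h1 := (support_PsiHom R n d y c e he).1
  by_contra hneg
  push Not at hneg
  have h2 : degG n e ≤ ∑ _i : Fin (n + 1), (-1 : ℤ) := by
    unfold degG
    exact Finset.sum_le_sum (fun i _ => by have := hneg i; omega)
  rw [Finset.sum_const, Finset.card_univ, Fintype.card_fin] at h2
  simp only [nsmul_eq_mul, mul_neg, mul_one] at h2
  push_cast at h2
  omega

/-- a `0`-cocycle of negative degree vanishes (in at least two variables) -/
theorem eq_zero_of_cocycle_zero (hn : 1 ≤ n) (hd : d < 0) (c : (KK R n d).X 0)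
    (hc : (KK R n d).d 0 1 c = 0) : c = 0 := by
  classical
  apply Psi_ext
  intro x
  rw [map_zero]
  have : Nontrivial (Fin (n + 1)) := by
    obtain ⟨m, rfl⟩ : ∃ m, n = m + 1 := ⟨n - 1, by omega⟩
    infer_instance
  obtain ⟨j, hj⟩ := exists_ne (ix R n (x 0))
  let y : Fin 2 → Idx (vars R n) := Fin.cons (mkIdx R n j) x
  have h1 := PsiHom_d R n d y c
  rw [hc, map_zero, Fin.sum_univ_succ, cons_succAbove_zero] at h1
  have hy1 : y ∘ Fin.succAbove (Fin.succ (0 : Fin 1)) = fun _ => mkIdx R n j := by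
    funext k
    have hk : k = 0 := Subsingleton.elim _ _
    subst hk
    rfl
  simp only [Fin.val_zero, pow_zero, one_smul, Finset.univ_unique, Fin.default_eq_zero,
    Fin.val_succ, Finset.sum_singleton, hy1] at h1
  have h2 : PsiHom R n d x c = PsiHom R n d (fun _ : Fin 1 => mkIdx R n j) c := by
    have h3 : PsiHom R n d x c - PsiHom R n d (fun _ : Fin 1 => mkIdx R n j) c = 0 := by
      rw [h1]
      simp [sub_eq_add_neg]
    exact sub_eq_zero.mp h3
  rw [← AddMonoidAlgebra.coeff_eq_zero, ← Finsupp.support_eq_empty]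
  apply Finset.eq_empty_of_forall_notMem
  intro e he
  have hx := support_PsiHom R n d x c e he
  rw [h2] at he
  have hj' := support_PsiHom R n d _ c e he
  have hnn : ∀ i, 0 ≤ e i := by
    intro i
    by_cases hi : i = j
    · subst hi
      apply hx.2
      rintro ⟨k, hk⟩
      have hk0 : k = (0 : Fin 1) := Fin.fin_one_eq_zero k
      rw [hk0] at hk
      exact hj hk.symm
    · apply hj'.2
      rintro ⟨k, hk⟩
      exact hi hk.symm
  have h4 : 0 ≤ degG n e := Finset.sum_nonneg (fun i _ => hnn i)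
  rw [hx.1] at h4
  omega

/-- the degree-`0` cohomology of the degree-`d` strand vanishes for `d < 0` (in at least two
variables) -/
theorem isZero_homology_zero (hn : 1 ≤ n) (hd : d < 0) :
    Limits.IsZero ((KK R n d).homology 0) := by
  have hsub : Subsingleton ((KK R n d).homology 0 : AddCommGrpCat.{u}) := by
    constructor
    intro a b
    obtain ⟨za, rfl⟩ := (Groth.Agent.Lib.R2H2.LocCech.cls0_bijective (KK R n d)).2 a
    obtain ⟨zb, rfl⟩ := (Groth.Agent.Lib.R2H2.LocCech.cls0_bijective (KK R n d)).2 b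
    congr 1
    apply Subtype.ext
    rw [eq_zero_of_cocycle_zero R n d hn hd za.1 za.2, eq_zero_of_cocycle_zero R n d hn hd zb.1 zb.2]
  exact AddCommGrpCat.isZero_of_subsingleton _

end Homotopy

end Groth.Agent.Lib.R2H2.Laurent
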