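import Groth.Agent.Lib.R2H2PnLin
import Groth.Agent.Lib.R2H2LerayNat2
import Groth.Agent.Lib.Helper27GrTildeMul
import Groth.Agent.Lib.Helper27TwistAmple

/-!
# Multiplication by homogeneous elements on the twists `M(d)~` of `Proj` and its effect on
strand/Čech cohomology (helper2, round 2)
-/

set_option autoImplicit false
set_option linter.unusedSectionVars false
universe u

namespace Groth.Agent.Lib.R2H2.PnMul

open CategoryTheory CategoryTheory.Limits AlgebraicGeometry TopologicalSpace Opposite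
open Groth.Agent.Lib.Helper16.CechLow Groth.Agent.Lib.R2H2.LocPsh Groth.Agent.Lib.R2H2.CechCmp
  Groth.Agent.Lib.R2H2.Strand Groth.Agent.Lib.R2H2.StrandCech Groth.Agent.Lib.Helper27GrTildeSect
  Groth.Agent.Lib.R2H2.ProjSec Groth.Agent.Lib.R2H2.PnLin

section Abstract

universe v u₁ v' u₁'

variable {C : Type u₁} [Category.{v} C] [HasFiniteProducts C]
  {C' : Type u₁'} [Category.{v'} C'] [HasFiniteProducts C']
  {ι : Type u} (U : ι → C) (U' : ι → C')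
  (P₁ P₂ : Cᵒᵖ ⥤ AddCommGrpCat.{u}) (P₁' P₂' : C'ᵒᵖ ⥤ AddCommGrpCat.{u})

/-- naturality of `cechIso` with respect to morphisms of the coefficients -/
theorem cechIso_natural₂
    (e₁ : ∀ (n : ℕ) (x : Fin (n + 1) → ι), P₁.obj (op (Ux U x)) ≅ P₁'.obj (op (Ux U' x)))
    (he₁ : ∀ (n : ℕ) (x : Fin (n + 2) → ι) (i : Fin (n + 2)),
      P₁.map (face U x i).op ≫ (e₁ (n + 1) x).hom =
        (e₁ n (x ∘ Fin.succAbove i)).hom ≫ P₁'.map (face U' x i).op)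
    (e₂ : ∀ (n : ℕ) (x : Fin (n + 1) → ι), P₂.obj (op (Ux U x)) ≅ P₂'.obj (op (Ux U' x)))
    (he₂ : ∀ (n : ℕ) (x : Fin (n + 2) → ι) (i : Fin (n + 2)),
      P₂.map (face U x i).op ≫ (e₂ (n + 1) x).hom =
        (e₂ n (x ∘ Fin.succAbove i)).hom ≫ P₂'.map (face U' x i).op)
    (a : P₁ ⟶ P₂) (a' : P₁' ⟶ P₂')
    (ha : ∀ (n : ℕ) (x : Fin (n + 1) → ι),
      a.app (op (Ux U x)) ≫ (e₂ n x).hom = (e₁ n x).hom ≫ a'.app (op (Ux U' x))) :
    (cechComplexFunctor U).map a ≫ (cechIso U U' P₂ P₂' e₂ he₂).hom =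
      (cechIso U U' P₁ P₁' e₁ he₁).hom ≫ (cechComplexFunctor U').map a' := by
  apply HomologicalComplex.hom_ext
  intro n
  change ((cechComplexFunctor U).map a).f n ≫ cmpMap U U' P₂ P₂' (fun n x => (e₂ n x).hom) n =
    cmpMap U U' P₁ P₁' (fun n x => (e₁ n x).hom) n ≫ ((cechComplexFunctor U').map a').f n
  refine Pi.hom_ext _ _ (fun (x : Fin (n + 1) → ι) => ?_)
  change _ ≫ pr U' P₂' n x = _ ≫ pr U' P₂' n x
  rw [Category.assoc, Category.assoc, cmpMap_pr, map_pr, ← Category.assoc, map_pr,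
    ← Category.assoc, cmpMap_pr, Category.assoc, Category.assoc, ha n x]

/-- the isomorphism in homology induced by `cechIso` -/
noncomputable def EH (P : Cᵒᵖ ⥤ AddCommGrpCat.{u}) (P' : C'ᵒᵖ ⥤ AddCommGrpCat.{u})
    (e : ∀ (n : ℕ) (x : Fin (n + 1) → ι), P.obj (op (Ux U x)) ≅ P'.obj (op (Ux U' x)))
    (he : ∀ (n : ℕ) (x : Fin (n + 2) → ι) (i : Fin (n + 2)),
      P.map (face U x i).op ≫ (e (n + 1) x).hom =
        (e n (x ∘ Fin.succAbove i)).hom ≫ P'.map (face U' x i).op) (p : ℕ) :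
    ((CK U P).homology p : AddCommGrpCat.{u}) ≃+ ((CK U' P').homology p : AddCommGrpCat.{u}) :=
  ((HomologicalComplex.homologyFunctor _ _ p).mapIso
    (cechIso U U' P P' e he)).addCommGroupIsoToAddEquiv

theorem EH_natural
    (e₁ : ∀ (n : ℕ) (x : Fin (n + 1) → ι), P₁.obj (op (Ux U x)) ≅ P₁'.obj (op (Ux U' x)))
    (he₁ : ∀ (n : ℕ) (x : Fin (n + 2) → ι) (i : Fin (n + 2)),
      P₁.map (face U x i).op ≫ (e₁ (n + 1) x).hom =
        (e₁ n (x ∘ Fin.succAbove i)).hom ≫ P₁'.map (face U' x i).op)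
    (e₂ : ∀ (n : ℕ) (x : Fin (n + 1) → ι), P₂.obj (op (Ux U x)) ≅ P₂'.obj (op (Ux U' x)))
    (he₂ : ∀ (n : ℕ) (x : Fin (n + 2) → ι) (i : Fin (n + 2)),
      P₂.map (face U x i).op ≫ (e₂ (n + 1) x).hom =
        (e₂ n (x ∘ Fin.succAbove i)).hom ≫ P₂'.map (face U' x i).op)
    (a : P₁ ⟶ P₂) (a' : P₁' ⟶ P₂')
    (ha : ∀ (n : ℕ) (x : Fin (n + 1) → ι),
      a.app (op (Ux U x)) ≫ (e₂ n x).hom = (e₁ n x).hom ≫ a'.app (op (Ux U' x))) (p : ℕ)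
    (z : ((CK U P₁).homology p : AddCommGrpCat.{u})) :
    EH U U' P₂ P₂' e₂ he₂ p (HomologicalComplex.homologyMap ((cechComplexFunctor U).map a) p z) =
      HomologicalComplex.homologyMap ((cechComplexFunctor U').map a') p
        (EH U U' P₁ P₁' e₁ he₁ p z) := by
  have h1 := cechIso_natural₂ U U' P₁ P₂ P₁' P₂' e₁ he₁ e₂ he₂ a a' ha
  have h2 := congrArg (fun f => HomologicalComplex.homologyMap f p) h1
  simp only [HomologicalComplex.homologyMap_comp] at h2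
  exact ConcreteCategory.congr_hom h2 z

end Abstract

section Shift

variable {R A : Type u} [CommRing R] [CommRing A] [Algebra R A] {𝒜 : ℕ → Submodule R A}
  [GradedAlgebra 𝒜]
variable {N : Type u} [AddCommGroup N] [Module A N] (G : ZGr 𝒜 N)
variable {N' : Type u} [AddCommGroup N'] [Module A N'] (G' : ZGr 𝒜 N')

/-- linear maps shifting the degree by `e` -/
def IsGrS (e : ℤ) (g : N →ₗ[A] N') : Prop := ∀ (d : ℤ) (n : N), n ∈ G.pc d → g n ∈ G'.pc (d + e)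

lemma nMap_mem_strandS {e : ℤ} (g : N →ₗ[A] N') (hg : IsGrS G G' e g) (S : Submonoid A)
    {d d' : ℤ} (h : d + e = d') {z : LocalizedModule S N} (hz : z ∈ strand G S d) :
    nMap S g z ∈ strand G' S d' := by
  obtain ⟨i, j, m, s, hm, hs, hij, rfl⟩ := hz
  rw [nMap_mk]
  exact ⟨i + e, j, g m, s, hg i m hm, hs, by rw [hij, ← h]; ring, rfl⟩

variable {G G'}

/-- the map of strand presheaves induced by a degree-shifting linear map -/
noncomputable def pshdMapS {e : ℤ} (g : N →ₗ[A] N') (hg : IsGrS G G' e g) {d d' : ℤ}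
    (h : d + e = d') : pshd G d ⟶ pshd G' d' where
  app S := AddCommGrpCat.ofHom (resHom (nMap (OrderDual.ofDual S.unop) g).toAddMonoidHom _ _
    (fun _ hz => nMap_mem_strandS G G' g hg _ h hz))
  naturality {S S'} f := by
    ext x
    apply sval_ext G'
    exact nMap_locMap (le_of_hom_op f) g (sval G x)

lemma pshdMapS_app_coe {e : ℤ} (g : N →ₗ[A] N') (hg : IsGrS G G' e g) {d d' : ℤ}
    (h : d + e = d') (S : (Sm A)ᵒᵖ) (x : (pshd G d).obj S) :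
    sval G' ((pshdMapS g hg h).app S x) = nMap (OrderDual.ofDual S.unop) g (sval G x) := rfl

end Shift

section Geom

variable {R A : Type u} [CommRing R] [CommRing A] [Algebra R A] (𝒜 : ℕ → Submodule R A)
  [GradedAlgebra 𝒜]
variable {M : Type u} [AddCommGroup M] [Module R M] [Module A M] [IsScalarTower R A M]
  (ℳ : ℕ → Submodule R M) [DirectSum.Decomposition ℳ] [SetLike.GradedSMul 𝒜 ℳ]

/-- multiplication by an element of `A` -/
noncomputable def gMul (a : A) : M →ₗ[A] M := a • LinearMap.id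

lemma gMul_apply (a : A) (m : M) : gMul (M := M) a m = a • m := rfl

lemma isGrS_gMul {k : ℕ} {a : A} (ha : a ∈ 𝒜 k) :
    IsGrS (zgr 𝒜 ℳ) (zgr 𝒜 ℳ) (k : ℤ) (gMul (M := M) a) := by
  intro d m hm
  rw [gMul_apply]
  exact (zgr 𝒜 ℳ).mem_of_eq ((zgr 𝒜 ℳ).smul_mem ha hm) (add_comm _ _)

section MulP

variable {k : ℕ} {a : A} (ha : a ∈ 𝒜 k) {p q : ℤ} (h : p + k = q)

/-- multiplication by a homogeneous element of degree `k`, on the underlying abelian sheaves -/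
noncomputable def mulAb :
    Coh.toAb (GrTilde.tilde 𝒜 ℳ p) ⟶ Coh.toAb (GrTilde.tilde 𝒜 ℳ q) :=
  ⟨{ app := fun U => AddCommGrpCat.ofHom
      { toFun := fun m => mulSec 𝒜 ℳ h U.unop m (gsec 𝒜 k U.unop ha)
        map_zero' := by
          have h0 := mulSec_add_left 𝒜 ℳ h U.unop 0 0 (gsec 𝒜 k U.unop ha)
          rw [add_zero] at h0
          exact left_eq_add.mp h0
        map_add' := fun m m' => mulSec_add_left 𝒜 ℳ h U.unop m m' _ }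
     naturality := by
       intro U V f
       ext m
       rfl }⟩

lemma mulAb_app (U : (Opens (Proj 𝒜))ᵒᵖ) (m : Γ(GrTilde.tilde 𝒜 ℳ p, U.unop)) :
    (mulAb 𝒜 ℳ ha h).hom.app U m = mulSec 𝒜 ℳ h U.unop m (gsec 𝒜 k U.unop ha) := rfl

/-- multiplication by a homogeneous element of degree `k` as a morphism `M(p)~ ⟶ M(p+k)~` -/
noncomputable def mulP : GrTilde.tilde 𝒜 ℳ p ⟶ GrTilde.tilde 𝒜 ℳ q :=
  ⟨PresheafOfModules.homMk (mulAb 𝒜 ℳ ha h).hom (by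
    intro U s m
    exact mulSec_smul_left 𝒜 ℳ h U.unop s m _)⟩

lemma toSheaf_map_mulP :
    (SheafOfModules.toSheaf (Proj 𝒜).ringCatSheaf).map (mulP 𝒜 ℳ ha h) = mulAb 𝒜 ℳ ha h := rfl

lemma mulP_app (W : (Proj 𝒜).Opens) (m : Γ(GrTilde.tilde 𝒜 ℳ p, W)) :
    (mulP 𝒜 ℳ ha h).app W m = mulSec 𝒜 ℳ h W m (gsec 𝒜 k W ha) := rfl

end MulP

variable (fs : List A) (hfs : ∀ a ∈ fs, ∃ d : ℕ, 0 < d ∧ a ∈ 𝒜 d)

section Phi

variable {n : ℕ} (x : Fin (n + 1) → Idx fs)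

lemma valAt_nMap_gMul (a : A) (y : Proj 𝒜) (hy : y ∈ Ux (Wp 𝒜 fs) x)
    (w : LocalizedModule (SS fs x) M) :
    valAt 𝒜 fs x y hy (nMap (SS fs x) (gMul a) w) =
      (Localization.mk a (1 : y.asHomogeneousIdeal.toIdeal.primeCompl) : Twist.Loc 𝒜 y) •
        valAt 𝒜 fs x y hy w := by
  induction w with | _ m s
  rw [nMap_mk, valAt_mk, valAt_mk, LocalizedModule.mk_smul_mk, one_mul, gMul_apply]

variable {k : ℕ} {a : A} (ha : a ∈ 𝒜 k) {p q : ℤ} (h : p + k = q)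

/-- the comparison maps intertwine multiplication by a homogeneous element -/
lemma phiHom_mulP
    (z : (AddCommGrpCat.of (strand (zgr 𝒜 ℳ) (SS fs x) p) : AddCommGrpCat.{u})) :
    phiHom 𝒜 ℳ fs x q ((pshdMapS (gMul a) (isGrS_gMul 𝒜 ℳ ha) h).app (op (Ux (fam fs) x)) z) =
      mulSec 𝒜 ℳ h (Ux (Wp 𝒜 fs) x) (phiHom 𝒜 ℳ fs x p z) (gsec 𝒜 k (Ux (Wp 𝒜 fs) x) ha) := by
  apply sec_ext
  intro y hy
  rw [secVal_mulSec, secVal_phiHom, secVal_phiHom]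
  exact valAt_nMap_gMul 𝒜 fs x a y hy _

end Phi

section Main

variable {k : ℕ} {a : A} (ha : a ∈ 𝒜 k) {p q : ℤ} (h : p + k = q)

lemma phiIso_mulAb (n : ℕ) (x : Fin (n + 1) → Idx fs) :
    (pshdMapS (gMul a) (isGrS_gMul 𝒜 ℳ ha) h).app (op (Ux (fam fs) x)) ≫
        (phiIso 𝒜 ℳ fs hfs q n x).hom =
      (phiIso 𝒜 ℳ fs hfs p n x).hom ≫
        (mulAb 𝒜 ℳ ha h).hom.app (op (Ux (Wp 𝒜 fs) x)) := by
  ext z
  rw [phiIso_hom, phiIso_hom]
  exact phiHom_mulP 𝒜 ℳ fs x ha h z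

/-- the strand Čech complex computes the Čech complex of `M(d)~` -/
noncomputable def ES (d : ℤ) (r : ℕ) :
    ((CNd fs (zgr 𝒜 ℳ) d).homology r : AddCommGrpCat.{u}) ≃+
      ((CK (Wp 𝒜 fs) (GrTilde.tilde 𝒜 ℳ d).presheaf).homology r : AddCommGrpCat.{u}) :=
  EH (fam fs) (Wp 𝒜 fs) (pshd (zgr 𝒜 ℳ) d) (GrTilde.tilde 𝒜 ℳ d).presheaf
    (phiIso 𝒜 ℳ fs hfs d) (fun _ x i => phiHom_comm 𝒜 ℳ fs d x i) r

theorem ES_mulP (r : ℕ) (z : ((CNd fs (zgr 𝒜 ℳ) p).homology r : AddCommGrpCat.{u})) :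
    ES 𝒜 ℳ fs hfs q r (HomologicalComplex.homologyMap
        ((cechComplexFunctor (fam fs)).map (pshdMapS (gMul a) (isGrS_gMul 𝒜 ℳ ha) h)) r z) =
      HomologicalComplex.homologyMap ((cechComplexFunctor (Wp 𝒜 fs)).map
        (mulAb 𝒜 ℳ ha h).hom) r (ES 𝒜 ℳ fs hfs p r z) :=
  EH_natural (fam fs) (Wp 𝒜 fs) (pshd (zgr 𝒜 ℳ) p) (pshd (zgr 𝒜 ℳ) q)
    (GrTilde.tilde 𝒜 ℳ p).presheaf (GrTilde.tilde 𝒜 ℳ q).presheaf
    (phiIso 𝒜 ℳ fs hfs p) (fun _ x i => phiHom_comm 𝒜 ℳ fs p x i)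
    (phiIso 𝒜 ℳ fs hfs q) (fun _ x i => phiHom_comm 𝒜 ℳ fs q x i)
    (pshdMapS (gMul a) (isGrS_gMul 𝒜 ℳ ha) h) (mulAb 𝒜 ℳ ha h).hom
    (fun n x => phiIso_mulAb 𝒜 ℳ fs hfs ha h n x) r z

theorem ES_smul (d : ℤ) (r₀ : R) (g : M →ₗ[A] M) (hg : IsGr (zgr 𝒜 ℳ) (zgr 𝒜 ℳ) g)
    (hgr : ∀ m, g m = r₀ • m) (r : ℕ)
    (z : ((CNd fs (zgr 𝒜 ℳ) d).homology r : AddCommGrpCat.{u})) :
    ES 𝒜 ℳ fs hfs d r (HomologicalComplex.homologyMap
        ((cechComplexFunctor (fam fs)).map (pshdMap g hg d)) r z) =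
      HomologicalComplex.homologyMap ((cechComplexFunctor (Wp 𝒜 fs)).map
        (Coh.smulAb (GrTilde.tilde 𝒜 ℳ d) (constFun 𝒜 r₀)).hom) r (ES 𝒜 ℳ fs hfs d r z) :=
  EH_natural (fam fs) (Wp 𝒜 fs) (pshd (zgr 𝒜 ℳ) d) (pshd (zgr 𝒜 ℳ) d)
    (GrTilde.tilde 𝒜 ℳ d).presheaf (GrTilde.tilde 𝒜 ℳ d).presheaf
    (phiIso 𝒜 ℳ fs hfs d) (fun _ x i => phiHom_comm 𝒜 ℳ fs d x i)
    (phiIso 𝒜 ℳ fs hfs d) (fun _ x i => phiHom_comm 𝒜 ℳ fs d x i)
    (pshdMap g hg d) (Coh.smulAb (GrTilde.tilde 𝒜 ℳ d) (constFun 𝒜 r₀)).hom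
    (fun n x => phiIso_smulAb 𝒜 ℳ fs hfs d r₀ g hg hgr n x) r z

end Main

end Geom

end Groth.Agent.Lib.R2H2.PnMul
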