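import Groth.Agent.Lib.R2H2LaurentTop
import Groth.Agent.Lib.R2H2PnMul

/-!
# Multiplication by homogeneous polynomials on the Laurent model of the cohomology of `O(d)`
(helper2, round 2)
-/

set_option autoImplicit false
set_option linter.unusedSectionVars false
universe u

namespace Groth.Agent.Lib.R2H2.LaurentMul

open MvPolynomial CategoryTheory Opposite
open Groth.Agent.Lib.Helper16.CechLow Groth.Agent.Lib.R2H2.LocPsh Groth.Agent.Lib.R2H2.CechCmp
  Groth.Agent.Lib.R2H2.Strand Groth.Agent.Lib.R2H2.StrandCech Groth.Agent.Lib.R2H2.KoszulPoly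
  Groth.Agent.Lib.R2H2.ProjSec Groth.Agent.Lib.R2H2.Laurent Groth.Agent.Lib.R2H2.Cls
  Groth.Agent.Lib.R2H2.LaurentTop Groth.Agent.Lib.R2H2.PnMul

variable (R : Type u) [CommRing R] (n : ℕ)

local notation "𝒫" => CohB1.polyGrading n R

section Mu

variable {k : ℕ} {P : MvPolynomial (Fin (n + 1)) R} (hP : P ∈ CohB1.polyGrading n R k)
  {d d' : ℤ} (h : d + k = d')

/-- multiplication by a homogeneous polynomial on the strand complexes -/
noncomputable def muP : KK R n d ⟶ KK R n d' :=
  (cechComplexFunctor (fam (vars R n))).map (pshdMapS (gMul P) (isGrS_gMul 𝒫 𝒫 hP) h)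

lemma psi_nMap_gMul {p : ℕ} (x : Fin (p + 1) → Idx (vars R n))
    (P : MvPolynomial (Fin (n + 1)) R)
    (z : LocalizedModule (SS (vars R n) x) (MvPolynomial (Fin (n + 1)) R)) :
    psi R n x (nMap (SS (vars R n) x) (gMul P) z) = phi R n P * psi R n x z := by
  induction z with | _ a s
  rw [nMap_mk, gMul_apply]
  apply psi_eq_of_mul
  rw [mul_left_comm, psi_mk, smul_eq_mul, map_mul]

lemma PsiHom_muP {p : ℕ} (x : Fin (p + 1) → Idx (vars R n)) (c : (KK R n d).X p) :
    PsiHom R n d' x ((muP R n hP h).f p c) = phi R n P * PsiHom R n d x c := by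
  rw [PsiHom_apply, PsiHom_apply]
  unfold muP
  rw [map_pr_apply]
  exact psi_nMap_gMul R n x P _

end Mu

section Inv

variable (d : ℤ)

/-- the all-negative part of the identity component of a cocycle only depends on its class -/
lemma piAN_eq_of_cls_eq (z z' : AddMonoidHom.ker ((KK R n d).d n (n + 1)).hom)
    (hz : cls (KK R n d) n z = cls (KK R n d) n z') :
    piAN R n (PsiHom R n d (idT R n) z.1) = piAN R n (PsiHom R n d (idT R n) z'.1) := by
  have h0 : cls (KK R n d) n (z - z') = 0 := by rw [map_sub, hz, sub_self]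
  have hval : (z - z').1 = z.1 - z'.1 := rfl
  suffices hs : piAN R n (PsiHom R n d (idT R n) (z - z').1) = 0 by
    rw [hval, map_sub, map_sub] at hs
    exact sub_eq_zero.mp hs
  revert h0
  generalize z - z' = w
  intro h0
  rcases n with _ | p
  · have h1 : w = 0 := cls_zero_injective (KK R 0 d) (h0.trans (map_zero _).symm)
    rw [h1]
    change piAN R 0 (PsiHom R 0 d (idT R 0) 0) = 0
    rw [map_zero, map_zero]
  · obtain ⟨b, hb⟩ := (cls_eq_zero_iff (KK R (p + 1) d) p w).mp h0
    have hb' : w.1 = (KK R (p + 1) d).d p (p + 1) b := hb.symm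
    rw [hb', PsiHom_d, map_sum]
    apply Finset.sum_eq_zero
    intro i _
    rw [map_zsmul, piAN_PsiHom_eq_zero R (p + 1) d _ b i, smul_zero]
    rintro ⟨k, hk⟩
    change ix R (p + 1) (mkIdx R (p + 1) (Fin.succAbove i k)) = i at hk
    rw [ix_mkIdx] at hk
    exact Fin.succAbove_ne i k hk

end Inv

section ThetaMul

variable {k : ℕ} {P : MvPolynomial (Fin (n + 1)) R} (hP : P ∈ CohB1.polyGrading n R k)
  {d d' : ℤ} (h : d + k = d')

lemma phi_mul_eq (f : VV R n d) :
    phi R n P * (f : LL R n) =
      PsiHom R n d' (idT R n) ((muP R n hP h).f n (cf R n d f)) := by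
  rw [PsiHom_muP, cf_spec, epsI_idT, one_smul]

/-- multiplication by `P` followed by truncation, on the Laurent model of the top cohomology -/
noncomputable def mulVV (f : VV R n d) : VV R n d' :=
  ⟨piAN R n (phi R n P * (f : LL R n)), by
    intro e he
    obtain ⟨h1, h2⟩ := mem_support_piAN R n _ e he
    rw [phi_mul_eq R n hP h f] at h1
    exact ⟨(support_PsiHom R n d' _ _ e h1).1, h2⟩⟩

lemma mulVV_val (f : VV R n d) :
    ((mulVV R n hP h f : VV R n d') : LL R n) = piAN R n (phi R n P * (f : LL R n)) := rfl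

/-- **the effect of multiplication by `P` on the top cohomology** -/
theorem Theta_muP (hd' : d' < 0) (f : VV R n d) :
    HomologicalComplex.homologyMap (muP R n hP h) n (Theta R n d f) =
      Theta R n d' (mulVV R n hP h f) := by
  change (HomologicalComplex.homologyMap (muP R n hP h) n).hom
    (cls (KK R n d) n (cfHom R n d f)) = _
  rw [homologyMap_cls]
  obtain ⟨g, hg⟩ := Theta_surjective R n d' hd'
    (cls (KK R n d') n ⟨((muP R n hP h).f n).hom (cfHom R n d f).1,
      map_mem_ker (muP R n hP h) n (cfHom R n d f)⟩)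
  rw [← hg]
  congr 1
  apply Subtype.ext
  have h1 := piAN_eq_of_cls_eq R n d' (cfHom R n d' g)
    ⟨((muP R n hP h).f n).hom (cfHom R n d f).1, map_mem_ker (muP R n hP h) n (cfHom R n d f)⟩ hg
  rw [mulVV_val, phi_mul_eq R n hP h f]
  rw [eq_piAN_cf R n d' g]
  exact h1

end ThetaMul

section Equiv

variable (d : ℤ)

/-- `Theta` as an additive equivalence (`d < 0`) -/
noncomputable def ThetaEquiv (hd : d < 0) :
    VV R n d ≃+ ((KK R n d).homology n : AddCommGrpCat.{u}) :=
  AddEquiv.ofBijective (Theta R n d) ⟨Theta_injective R n d, Theta_surjective R n d hd⟩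

lemma ThetaEquiv_apply (hd : d < 0) (f : VV R n d) : ThetaEquiv R n d hd f = Theta R n d f := rfl

end Equiv

end Groth.Agent.Lib.R2H2.LaurentMul
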