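import Groth.Agent.Lib.R2H2LaurentMul

/-!
# The perfect pairing between homogeneous polynomials of degree `m` and Laurent polynomials with
negative exponents of degree `-(n+1)-m` (helper2, round 2)
-/

set_option autoImplicit false
set_option linter.unusedSectionVars false
universe u

namespace Groth.Agent.Lib.R2H2.LaurentPair

open MvPolynomial
open Groth.Agent.Lib.R2H2.Laurent Groth.Agent.Lib.R2H2.LaurentTop Groth.Agent.Lib.R2H2.LaurentMul

variable (R : Type u) [CommRing R] (n : ℕ)

/-- the exponent vector `(-1, …, -1)` -/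
def eN : GG n := fun _ => -1

/-- the degree of the dualizing twist -/
def wN : ℤ := -((n : ℤ) + 1)

lemma wN_neg : wN n < 0 := by
  unfold wN
  have : (0 : ℤ) ≤ (n : ℤ) := Int.natCast_nonneg _
  omega

lemma QN_eN : QN n (eN n) := fun _ => by
  change (-1 : ℤ) < 0
  omega

lemma degG_eN : degG n (eN n) = wN n := by
  unfold degG eN wN
  simp

lemma mem_AN_wN_iff (e : GG n) : e ∈ AN n (wN n) ↔ e = eN n := by
  constructor
  · rintro ⟨h1, h2⟩
    have h3 : ∑ i, (e i + 1) = 0 := by
      unfold degG at h1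
      rw [Finset.sum_add_distrib, h1]
      unfold wN
      simp
    have h4 := (Finset.sum_eq_zero_iff_of_nonpos (fun i _ => by have := h2 i; omega)).mp h3
    funext i
    have := h4 i (Finset.mem_univ i)
    change e i = -1
    omega
  · rintro rfl
    exact ⟨degG_eN n, QN_eN n⟩

/-- the coefficient of `T^(-1,…,-1)` -/
noncomputable def cN : LL R n →ₗ[R] R where
  toFun f := f.coeff (eN n)
  map_add' _ _ := rfl
  map_smul' _ _ := rfl

lemma cN_apply (f : LL R n) : cN R n f = f.coeff (eN n) := rfl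

lemma cN_piAN (f : LL R n) : cN R n (piAN R n f) = cN R n f := by
  classical
  rw [cN_apply, cN_apply, coeff_piAN, if_pos (QN_eN n)]

lemma single_mem {d : ℤ} {e : GG n} (he : e ∈ AN n d) (r : R) :
    (AddMonoidAlgebra.single e r : LL R n) ∈ VV R n d := by
  classical
  intro e' he'
  have h1 : e' ∈ ({e} : Finset (GG n)) := Finsupp.support_single_subset he'
  rw [Finset.mem_singleton] at h1
  rw [h1]
  exact he

/-- the top cohomology of the dualizing twist is free of rank one -/
noncomputable def tN : VV R n (wN n) ≃ₗ[R] R where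
  toFun f := cN R n (f : LL R n)
  map_add' f g := map_add (cN R n) _ _
  map_smul' r f := map_smul (cN R n) r _
  invFun r := ⟨AddMonoidAlgebra.single (eN n) r, single_mem R n ((mem_AN_wN_iff n _).mpr rfl) r⟩
  left_inv f := by
    classical
    apply Subtype.ext
    apply AddMonoidAlgebra.coeff_injective
    ext e
    change (Finsupp.single (eN n) ((f : LL R n).coeff (eN n))) e = (f : LL R n).coeff e
    by_cases he : e = eN n
    · rw [he, Finsupp.single_eq_same]
    · rw [Finsupp.single_eq_of_ne he]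
      by_contra h0
      exact he ((mem_AN_wN_iff n e).mp (f.2 (Finsupp.mem_support_iff.mpr (Ne.symm h0))))
  right_inv r := by
    change (Finsupp.single (eN n) r) (eN n) = r
    exact Finsupp.single_eq_same

lemma tN_apply (f : VV R n (wN n)) : tN R n f = cN R n (f : LL R n) := rfl

/-- two linear maps on `VV` agreeing on the monomials are equal -/
lemma VV_ext {d : ℤ} {N : Type*} [AddCommGroup N] [Module R N] (ψ ψ' : VV R n d →ₗ[R] N)
    (h : ∀ (e : GG n) (he : e ∈ AN n d),
      ψ ⟨AddMonoidAlgebra.single e 1, single_mem R n he 1⟩ =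
        ψ' ⟨AddMonoidAlgebra.single e 1, single_mem R n he 1⟩) : ψ = ψ' := by
  ext ⟨f, hf⟩
  have hsp : VV R n d = Submodule.span R ((fun m => (AddMonoidAlgebra.single m 1 : LL R n)) '' AN n d) :=
    AddMonoidAlgebra.supported_eq_span_single R (AN n d)
  have hf' : f ∈ Submodule.span R ((fun m => (AddMonoidAlgebra.single m 1 : LL R n)) '' AN n d) :=
    hsp ▸ hf
  have key : ∀ (x : LL R n)
      (hx : x ∈ Submodule.span R ((fun m => (AddMonoidAlgebra.single m 1 : LL R n)) '' AN n d)),
      ψ ⟨x, hsp ▸ hx⟩ = ψ' ⟨x, hsp ▸ hx⟩ := by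
    intro x hx
    induction hx using Submodule.span_induction with
    | mem x hx =>
      obtain ⟨e, he, rfl⟩ := hx
      exact h e he
    | zero =>
      have h0 : (⟨0, hsp ▸ Submodule.zero_mem _⟩ : VV R n d) = 0 := rfl
      rw [h0, map_zero, map_zero]
    | add x y hx hy hx' hy' =>
      have h0 : (⟨x + y, hsp ▸ Submodule.add_mem _ hx hy⟩ : VV R n d) =
          ⟨x, hsp ▸ hx⟩ + ⟨y, hsp ▸ hy⟩ := rfl
      rw [h0, map_add, map_add, hx', hy']
    | smul r x hx hx' =>
      have h0 : (⟨r • x, hsp ▸ Submodule.smul_mem _ r hx⟩ : VV R n d) = r • ⟨x, hsp ▸ hx⟩ := rfl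
      rw [h0, map_smul, map_smul, hx']
  exact key f hf'

/-- the exponent `(-1-u_i)_i` attached to a monomial `u` -/
noncomputable def eU (u : Fin (n + 1) →₀ ℕ) : GG n := eN n - iot n u

lemma eU_mem {m : ℕ} {a : ℤ} (ha : a + m = wN n) (u : Fin (n + 1) →₀ ℕ)
    (hu : ∑ i, u i = m) : eU n u ∈ AN n a := by
  constructor
  · unfold eU
    have h1 : degG n (eN n - iot n u) = degG n (eN n) - degG n (iot n u) := by
      rw [sub_eq_add_neg, degG_add, degG_neg]
      ring
    rw [h1, degG_eN]
    have h2 : degG n (iot n u) = (m : ℤ) := by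
      unfold degG
      rw [← hu]
      push_cast
      rfl
    rw [h2]
    omega
  · intro i
    change (-1 : ℤ) - (u i : ℤ) < 0
    have : (0 : ℤ) ≤ (u i : ℤ) := Int.natCast_nonneg _
    omega

/-- the monomial attached to an exponent with negative entries -/
noncomputable def uE (e : GG n) : Fin (n + 1) →₀ ℕ :=
  Finsupp.equivFunOnFinite.symm (fun i => (-1 - e i).toNat)

lemma eU_uE {a : ℤ} {e : GG n} (he : e ∈ AN n a) : eU n (uE n e) = e := by
  funext i
  have h2 := he.2 i
  change (-1 : ℤ) - ((uE n e i : ℕ) : ℤ) = e i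
  unfold uE
  rw [Finsupp.equivFunOnFinite_symm_apply_apply, Int.toNat_of_nonneg (by omega)]
  ring

lemma sum_uE {m : ℕ} {a : ℤ} (ha : a + m = wN n) {e : GG n} (he : e ∈ AN n a) :
    ∑ i, uE n e i = m := by
  have h1 : ((∑ i, uE n e i : ℕ) : ℤ) = ∑ i : Fin (n + 1), (-1 - e i) := by
    rw [Nat.cast_sum]
    refine Finset.sum_congr rfl (fun i _ => ?_)
    have := he.2 i
    unfold uE
    rw [Finsupp.equivFunOnFinite_symm_apply_apply, Int.toNat_of_nonneg (by omega)]
  have h2 : ∑ i : Fin (n + 1), (-1 - e i) = (m : ℤ) := by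
    rw [Finset.sum_sub_distrib]
    have h3 : ∑ i, e i = a := he.1
    rw [h3]
    unfold wN at ha
    simp
    omega
  exact_mod_cast h1.trans h2

/-- the pairing of a polynomial with a monomial -/
lemma cN_phi_mul_single (Q : MvPolynomial (Fin (n + 1)) R) (u : Fin (n + 1) →₀ ℕ) (s : R) :
    cN R n (phi R n Q * AddMonoidAlgebra.single (eU n u) s) = MvPolynomial.coeff u Q * s := by
  rw [cN_apply, AddMonoidAlgebra.coeff_mul_single_eq_coeff_mul (iot n u), coeff_phi]
  intro m' _
  unfold eU
  constructor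
  · intro h
    have : m' = eN n - (eN n - iot n u) := eq_sub_of_add_eq h
    rw [this]
    abel
  · rintro rfl
    abel

section Perfect

/-- the pairing with a homogeneous polynomial, as a linear form -/
noncomputable def pairL {a : ℤ} (P : MvPolynomial (Fin (n + 1)) R) : VV R n a →ₗ[R] R :=
  (cN R n).comp ((LinearMap.mulLeft R (phi R n P)).comp (VV R n a).subtype)

lemma pairL_apply {a : ℤ} (P : MvPolynomial (Fin (n + 1)) R) (f : VV R n a) :
    pairL R n P f = cN R n (phi R n P * (f : LL R n)) := rfl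

lemma pairL_mulVV {m : ℕ} {a : ℤ} (ha : a + m = wN n) {P : MvPolynomial (Fin (n + 1)) R}
    (hP : P ∈ CohB1.polyGrading n R m) (f : VV R n a) : tN R n (mulVV R n hP ha f) = pairL R n P f := by
  rw [tN_apply, mulVV_val, cN_piAN, pairL_apply]

/-- **uniqueness in the perfect pairing** -/
theorem pair_unique {m : ℕ} {a : ℤ} (ha : a + m = wN n) {P P' : MvPolynomial (Fin (n + 1)) R}
    (hP : P ∈ CohB1.polyGrading n R m) (hP' : P' ∈ CohB1.polyGrading n R m)
    (h : ∀ f : VV R n a, pairL R n P f = pairL R n P' f) : P = P' := by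
  ext u
  by_cases hu : ∑ i, u i = m
  · have h1 := h ⟨AddMonoidAlgebra.single (eU n u) 1, single_mem R n (eU_mem n ha u hu) 1⟩
    rw [pairL_apply, pairL_apply] at h1
    change cN R n (phi R n P * AddMonoidAlgebra.single (eU n u) 1) =
      cN R n (phi R n P' * AddMonoidAlgebra.single (eU n u) 1) at h1
    rw [cN_phi_mul_single, cN_phi_mul_single, mul_one, mul_one] at h1
    exact h1
  · have hdeg : Finsupp.degree u ≠ m := by
      rw [Finsupp.degree_eq_sum]
      exact hu
    have hP1 : P.IsHomogeneous m := hP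
    have hP2 : P'.IsHomogeneous m := hP'
    rw [hP1.coeff_eq_zero hdeg, hP2.coeff_eq_zero hdeg]

/-- **existence in the perfect pairing** -/
theorem pair_exists {m : ℕ} {a : ℤ} (ha : a + m = wN n) (ψ : VV R n a →ₗ[R] R) :
    ∃ (P : MvPolynomial (Fin (n + 1)) R) (_ : P ∈ CohB1.polyGrading n R m),
      ∀ f : VV R n a, ψ f = pairL R n P f := by
  classical
  let c : (Fin (n + 1) →₀ ℕ) → R := fun u =>
    if hu : ∑ i, u i = m then
      ψ ⟨AddMonoidAlgebra.single (eU n u) 1, single_mem R n (eU_mem n ha u hu) 1⟩ else 0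
  let S : Finset (Fin (n + 1) →₀ ℕ) := Finset.finsuppAntidiag Finset.univ m
  have hS : ∀ u, u ∈ S ↔ ∑ i, u i = m := by
    intro u
    rw [Finset.mem_finsuppAntidiag]
    exact ⟨fun h => h.1, fun h => ⟨h, Finset.subset_univ _⟩⟩
  let P : MvPolynomial (Fin (n + 1)) R := ∑ u ∈ S, monomial u (c u)
  have hP : P ∈ CohB1.polyGrading n R m := by
    change P.IsHomogeneous m
    apply MvPolynomial.IsHomogeneous.sum
    intro u hu
    apply MvPolynomial.isHomogeneous_monomial
    rw [Finsupp.degree_eq_sum]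
    exact (hS u).mp hu
  have hcoeff : ∀ u, ∑ i, u i = m → MvPolynomial.coeff u P = c u := by
    intro u hu
    change MvPolynomial.coeff u (∑ u' ∈ S, monomial u' (c u')) = c u
    rw [MvPolynomial.coeff_sum]
    simp only [MvPolynomial.coeff_monomial]
    rw [Finset.sum_ite_eq' S u, if_pos ((hS u).mpr hu)]
  refine ⟨P, hP, ?_⟩
  have hL : ψ = pairL R n P := by
    apply VV_ext
    intro e he
    obtain ⟨u, hu, rfl⟩ : ∃ u, ∑ i, u i = m ∧ eU n u = e :=
      ⟨uE n e, sum_uE n ha he, eU_uE n he⟩
    rw [pairL_apply]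
    change _ = cN R n (phi R n P * AddMonoidAlgebra.single (eU n u) 1)
    rw [cN_phi_mul_single, mul_one, hcoeff _ hu]
    change _ = if hu : ∑ i, u i = m then _ else 0
    rw [dif_pos hu]
  intro f
  rw [hL]

end Perfect

end Groth.Agent.Lib.R2H2.LaurentPair
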