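import Mathlib
import Groth.Agent.Lib.Helper5LocalFlat
import Groth.Agent.Lib.Helper3FlatCxLen
import Groth.Agent.S4497
import Groth.Agent.S4490
import Groth.Agent.S2444
import Groth.Agent.S2406
set_option backward.isDefEq.respectTransparency.types false

/-!
# Exactness of `T_p` and the eventual length formula (helper2, round 2)

`A` a Noetherian local ring with maximal ideal `m` and residue field `k`, `P` a chain complex of finite
flat `A`-modules.  Then `T_p = H_p(P ⊗ -)` preserves monomorphisms and epimorphisms iff for all large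
`n` one has `ℓ(T_p(A/m^(n+1))) = ℓ(T_p(k)) · ℓ(A/m^(n+1))`.
-/

set_option autoImplicit false
set_option linter.unusedSectionVars false
set_option linter.style.haveILetI false
universe u
open CategoryTheory CategoryTheory.Limits MonoidalCategory TensorProduct

namespace Groth.Agent.Lib.R2H2.LenFormula

open Groth.Agent.Lib.Helper3 Groth.Agent.S2444 Groth.Agent.S4492

variable {A : Type u} [CommRing A] [IsNoetherianRing A] [IsLocalRing A]
  (P : ChainComplex (ModuleCat.{u} A) ℤ)
  (hP : ∀ i, Module.Finite A (P.X i) ∧ Module.Flat A (P.X i))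

include hP in
/-- `T_p(k)` has finite length -/
theorem length_T_residue_ne_top (p : ℤ) :
    Module.length A (CohIII.T P p (ModuleCat.of A (IsLocalRing.ResidueField A))) ≠ ⊤ := by
  haveI : Module.Finite A (P.X p) := (hP p).1
  haveI := finite_opcycles P p
  have hinj : Function.Injective (jT P p (ModuleCat.of A (IsLocalRing.ResidueField A))).hom :=
    (ModuleCat.mono_iff_injective _).mp inferInstance
  have h1 : Module.length A (CohIII.T P p (ModuleCat.of A (IsLocalRing.ResidueField A))) ≤
      Module.length A ((P.opcycles p) ⊗[A] (IsLocalRing.ResidueField A)) :=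
    Module.length_le_of_injective (jT P p _).hom hinj
  have h2 : Module.length A ((P.opcycles p) ⊗[A] (IsLocalRing.ResidueField A)) =
      Module.length A ((IsLocalRing.ResidueField A) ⊗[A] (P.opcycles p)) :=
    LinearEquiv.length_eq (TensorProduct.comm A _ _)
  rw [length_residue_tensor] at h2
  intro htop
  rw [htop, h2] at h1
  exact absurd (top_le_iff.1 h1) (ENat.coe_ne_top _)

/-- the projection `A/m^(n+1) → A/m` -/
noncomputable abbrev φn (n : ℕ) :
    (A ⧸ IsLocalRing.maximalIdeal A ^ (n + 1)) →ₗ[A] (A ⧸ IsLocalRing.maximalIdeal A) :=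
  (Ideal.Quotient.factorₐ A (Ideal.pow_le_self (I := IsLocalRing.maximalIdeal A)
    (Nat.succ_ne_zero n))).toLinearMap

lemma φn_surjective (n : ℕ) : Function.Surjective (φn (A := A) n) :=
  Ideal.Quotient.factor_surjective (Ideal.pow_le_self (I := IsLocalRing.maximalIdeal A)
    (Nat.succ_ne_zero n))

/-- the short exact sequence `ker → A/m^(n+1) → A/m` -/
noncomputable def SCn (n : ℕ) : ShortComplex (ModuleCat.{u} A) :=
  ShortComplex.mk (ModuleCat.ofHom (LinearMap.ker (φn (A := A) n)).subtype)
    (ModuleCat.ofHom (φn (A := A) n)) (by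
      ext x
      exact x.2)

theorem SCn_shortExact (n : ℕ) : (SCn (A := A) n).ShortExact := by
  haveI : Mono (SCn (A := A) n).f :=
    (ModuleCat.mono_iff_injective _).mpr (Submodule.subtype_injective _)
  haveI : Epi (SCn (A := A) n).g := (ModuleCat.epi_iff_surjective _).mpr (φn_surjective n)
  refine ShortComplex.ShortExact.mk ?_
  rw [ShortComplex.ShortExact.moduleCat_exact_iff_function_exact]
  exact LinearMap.exact_subtype_ker_map _

include hP in
/-- the key step: the length formula at `n` forces surjectivity of `T_p(A/m^(n+1)) → T_p(A/m)` and of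
`T_{p+1}(A/m^(n+1)) → T_{p+1}(A/m)` -/
theorem surjective_of_length_formula (p : ℤ) (n : ℕ)
    (h : Module.length A (CohIII.T P p (ModuleCat.of A (A ⧸ IsLocalRing.maximalIdeal A ^ (n + 1)))) =
      Module.length A (CohIII.T P p (ModuleCat.of A (IsLocalRing.ResidueField A))) *
        Module.length A (A ⧸ IsLocalRing.maximalIdeal A ^ (n + 1))) :
    Function.Surjective ((CohIII.TFun P p).map (ModuleCat.ofHom (φn (A := A) n))).hom ∧
      Function.Surjective ((CohIII.TFun P (p + 1)).map (ModuleCat.ofHom (φn (A := A) n))).hom := by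
  have hfl : ∀ i, Module.Flat A (P.X i) := fun i => (hP i).2
  set d := Module.length A (CohIII.T P p (ModuleCat.of A (IsLocalRing.ResidueField A))) with hd_def
  have hd : d ≠ ⊤ := length_T_residue_ne_top P hP p
  have hM : IsFiniteLength A (A ⧸ IsLocalRing.maximalIdeal A ^ (n + 1)) :=
    Groth.Agent.Lib.Helper5.isFiniteLength_quotient_of_pow_le _ (n + 1) le_rfl
  have hN : IsFiniteLength A (LinearMap.ker (φn (A := A) n)) :=
    hM.of_injective (Submodule.subtype_injective _)
  have hsimple : IsSimpleModule A (A ⧸ IsLocalRing.maximalIdeal A) :=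
    isSimpleModule_iff_quot_maximal.mpr ⟨IsLocalRing.maximalIdeal A, inferInstance,
      ⟨LinearEquiv.refl A _⟩⟩
  have hlenM : Module.length A (A ⧸ IsLocalRing.maximalIdeal A ^ (n + 1)) =
      Module.length A (LinearMap.ker (φn (A := A) n)) + 1 := by
    rw [Module.length_eq_add_of_exact (LinearMap.ker (φn (A := A) n)).subtype (φn (A := A) n)
      (Submodule.subtype_injective _) (φn_surjective n) (LinearMap.exact_subtype_ker_map _),
      Module.length_eq_one A (A ⧸ IsLocalRing.maximalIdeal A)]
  have hNtop : Module.length A (LinearMap.ker (φn (A := A) n)) ≠ ⊤ :=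
    Module.length_ne_top_iff.2 hN
  -- lengths of the values of `T_p`
  have h3 : Module.length A (CohIII.T P p (ModuleCat.of A (A ⧸ IsLocalRing.maximalIdeal A))) = d :=
    rfl
  have h1le := length_T_le P hfl p (LinearMap.ker (φn (A := A) n)) hN
  have hex := exact_T P hfl p (SCn (A := A) n) (SCn_shortExact n)
  have hle := length_le_add _ _ hex
  have h1top : Module.length A (CohIII.T P p (ModuleCat.of A (LinearMap.ker (φn (A := A) n)))) ≠ ⊤ := by
    intro htop
    rw [htop] at h1le
    exact WithTop.mul_ne_top hd hNtop (top_le_iff.1 h1le)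
  have heq : Module.length A (CohIII.T P p (ModuleCat.of A (A ⧸ IsLocalRing.maximalIdeal A ^ (n + 1)))) =
      Module.length A (CohIII.T P p (ModuleCat.of A (LinearMap.ker (φn (A := A) n)))) +
        Module.length A (CohIII.T P p (ModuleCat.of A (A ⧸ IsLocalRing.maximalIdeal A))) := by
    refine le_antisymm hle ?_
    rw [h, hlenM, mul_add, mul_one, h3]
    gcongr
  obtain ⟨hinj, hsurj⟩ := (length_eq_add_iff _ _ hex h1top (h3.trans_ne hd)).1 heq
  refine ⟨hsurj, ?_⟩
  -- the long exact sequence
  have hT := tensorSC_shortExact P hfl (SCn (A := A) n) (SCn_shortExact n)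
  have hrel : (ComplexShape.down ℤ).Rel (p + 1) p := by simp
  have hex1 := hT.homology_exact₁ (p + 1) p hrel
  have hex3 := hT.homology_exact₃ (p + 1) p hrel
  have hδ : ∀ y, (hT.δ (p + 1) p hrel).hom y = 0 := by
    intro y
    apply hinj
    have hz := ConcreteCategory.congr_hom (ShortComplex.mk (hT.δ (p + 1) p hrel)
      (HomologicalComplex.homologyMap (tensorSC P (SCn (A := A) n)).f p) (by simp)).zero y
    exact hz.trans (map_zero _).symm
  intro y
  obtain ⟨x, hx⟩ := (ShortComplex.moduleCat_exact_iff _).1 hex3 y (hδ y)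
  exact ⟨x, hx⟩

include hP in
/-- **the eventual length formula criterion for exactness of `T_p`** -/
theorem exact_iff_length_formula (p : ℤ) :
    ((CohIII.TFun P p).PreservesMonomorphisms ∧ (CohIII.TFun P p).PreservesEpimorphisms) ↔
      ∃ n₀ : ℕ, ∀ n : ℕ, n₀ ≤ n →
        Module.length A (CohIII.T P p (ModuleCat.of A (A ⧸ IsLocalRing.maximalIdeal A ^ (n + 1)))) =
          Module.length A (CohIII.T P p (ModuleCat.of A (IsLocalRing.ResidueField A))) *
            Module.length A (A ⧸ IsLocalRing.maximalIdeal A ^ (n + 1)) := by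
  have hfl : ∀ i, Module.Flat A (P.X i) := fun i => (hP i).2
  constructor
  · rintro ⟨hm, he⟩
    refine ⟨0, fun n _ => ?_⟩
    exact Groth.Agent.S4497.length_T_eq P hfl p hm he _
      (Groth.Agent.Lib.Helper5.isFiniteLength_quotient_of_pow_le _ (n + 1) le_rfl)
  · rintro ⟨n₀, hn₀⟩
    have he0 : (CohIII.TFun P p).PreservesEpimorphisms :=
      (Groth.Agent.S4490.result P hP p).2.2
        ⟨n₀, fun n hn => (surjective_of_length_formula P hP p n (hn₀ n hn)).1⟩
    have he1 : (CohIII.TFun P (p + 1)).PreservesEpimorphisms :=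
      (Groth.Agent.S4490.result P hP (p + 1)).2.2
        ⟨n₀, fun n hn => (surjective_of_length_formula P hP p n (hn₀ n hn)).2⟩
    exact ⟨(Groth.Agent.S2406.result P hfl (p + 1) p rfl).1 he1, he0⟩

end Groth.Agent.Lib.R2H2.LenFormula
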