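import Mathlib
import Groth.Agent.Lib.R2H2FormalSys3
import Groth.Agent.Lib.Helper19ComplNoeth2

set_option autoImplicit false
set_option linter.style.haveILetI false
universe u

namespace Groth.Agent.Lib.R2H2.LimRing

variable (R : ℕ → Type u) [∀ n, CommRing (R n)] (π : ∀ n, R (n + 1) →+* R n)

/-- the transition maps `R m → R n` for `n ≤ m`. -/
def tr {n m : ℕ} (h : n ≤ m) : R m →+* R n :=
  Nat.leRecOn (C := fun k => R k →+* R n) h (fun {k} f => f.comp (π k)) (RingHom.id _)

theorem tr_self (n : ℕ) (h : n ≤ n) : tr R π h = RingHom.id _ := by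
  unfold tr; exact Nat.leRecOn_self _

theorem tr_succ {n m : ℕ} (h : n ≤ m) (h' : n ≤ m + 1) :
    tr R π h' = (tr R π h).comp (π m) := by
  unfold tr; exact Nat.leRecOn_succ h _

theorem tr_succ_apply {n m : ℕ} (h : n ≤ m) (h' : n ≤ m + 1) (x : R (m + 1)) :
    tr R π h' x = tr R π h (π m x) := by
  rw [tr_succ R π h h']; rfl

theorem tr_tr {k n m : ℕ} (h₁ : k ≤ n) (h₂ : n ≤ m) (x : R m) :
    tr R π h₁ (tr R π h₂ x) = tr R π (h₁.trans h₂) x := by
  induction m, h₂ using Nat.le_induction with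
  | base => rw [tr_self]; rfl
  | succ m h₂ ih =>
    rw [tr_succ_apply R π h₂, tr_succ_apply R π (h₁.trans h₂), ih]

theorem tr_succ_self (n : ℕ) (h : n ≤ n + 1) : tr R π h = π n := by
  rw [tr_succ R π le_rfl h, tr_self]; rfl

/-- the inverse limit ring. -/
def limRing : Subring (∀ n, R n) where
  carrier := {x | ∀ n, π n (x (n + 1)) = x n}
  mul_mem' := fun {a b} ha hb n => by simp only [Pi.mul_apply, map_mul, ha n, hb n]
  one_mem' := fun n => by simp only [Pi.one_apply, map_one]
  add_mem' := fun {a b} ha hb n => by simp only [Pi.add_apply, map_add, ha n, hb n]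
  zero_mem' := fun n => by simp only [Pi.zero_apply, map_zero]
  neg_mem' := fun {a} ha n => by simp only [Pi.neg_apply, map_neg, ha n]

/-- the projections. -/
def p (n : ℕ) : limRing R π →+* R n := (Pi.evalRingHom R n).comp (limRing R π).subtype

theorem π_p (n : ℕ) (x : limRing R π) : π n (p R π (n + 1) x) = p R π n x := x.2 n

theorem tr_p {n m : ℕ} (h : n ≤ m) (x : limRing R π) : tr R π h (p R π m x) = p R π n x := by
  induction m, h using Nat.le_induction with
  | base => rw [tr_self]; rfl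
  | succ m h ih => rw [tr_succ_apply R π h, π_p, ih]

theorem ext_p {x y : limRing R π} (h : ∀ n, p R π n x = p R π n y) : x = y :=
  Subtype.ext (funext h)

variable {R π}

theorem p_surjective (hsurj : ∀ n, Function.Surjective (π n)) (n : ℕ) :
    Function.Surjective (p R π n) := by
  intro a
  choose lift hlift using hsurj
  let s : ∀ k, R (n + k) := fun k => Nat.rec (motive := fun k => R (n + k)) a
    (fun k y => lift (n + k) y) k
  have hs : ∀ k, π (n + k) (s (k + 1)) = s k := fun k => hlift (n + k) (s k)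
  have hs0 : s 0 = a := rfl
  let x : ∀ m, R m := fun m => tr R π (Nat.le_add_left m n) (s m)
  have hx : x ∈ limRing R π := by
    intro m
    show π m (tr R π (Nat.le_add_left (m + 1) n) (s (m + 1))) = tr R π (Nat.le_add_left m n) (s m)
    rw [← tr_succ_self R π m (Nat.le_succ m), tr_tr,
      tr_succ_apply R π (Nat.le_add_left m n) ((Nat.le_succ m).trans (Nat.le_add_left (m + 1) n)),
      hs]
  refine ⟨⟨x, hx⟩, ?_⟩
  show tr R π (Nat.le_add_left n n) (s n) = a
  have key : ∀ k, tr R π (Nat.le_add_right n k) (s k) = a := by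
    intro k
    induction k with
    | zero => rw [tr_self]; rfl
    | succ k ih => rw [tr_succ_apply R π (Nat.le_add_right n k), hs, ih]
  exact key n

variable (R π)

/-- the kernel of `R n → R 0`. -/
def I (n : ℕ) : Ideal (R n) := RingHom.ker (tr R π (Nat.zero_le n))

/-- the kernel of the projection to `R n`. -/
def K (n : ℕ) : Ideal (limRing R π) := RingHom.ker (p R π n)

variable {R π}

theorem K_anti {n m : ℕ} (h : n ≤ m) : K R π m ≤ K R π n := by
  intro x hx
  rw [K, RingHom.mem_ker] at hx ⊢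
  rw [← tr_p R π h, hx, map_zero]

theorem eq_zero_of_forall_mem_K {x : limRing R π} (h : ∀ n, x ∈ K R π n) : x = 0 :=
  ext_p R π (fun n => by rw [map_zero]; exact h n)

section surj

variable (hsurj : ∀ n, Function.Surjective (π n))
include hsurj

theorem tr_surjective {n m : ℕ} (h : n ≤ m) : Function.Surjective (tr R π h) := by
  induction m, h using Nat.le_induction with
  | base => rw [tr_self]; exact Function.surjective_id
  | succ m h ih =>
    rw [tr_succ R π h]
    exact ih.comp (hsurj m)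

theorem map_I {n m : ℕ} (h : n ≤ m) : (I R π m).map (tr R π h) = I R π n := by
  apply le_antisymm
  · rw [Ideal.map_le_iff_le_comap]
    intro b hb
    rw [I, RingHom.mem_ker] at hb
    show tr R π h b ∈ I R π n
    rw [I, RingHom.mem_ker, tr_tr]
    exact hb
  · intro b hb
    obtain ⟨c, rfl⟩ := tr_surjective hsurj h b
    refine Ideal.mem_map_of_mem _ ?_
    rw [I, RingHom.mem_ker] at hb ⊢
    rw [tr_tr] at hb
    exact hb

theorem map_K_zero (n : ℕ) : (K R π 0).map (p R π n) = I R π n := by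
  apply le_antisymm
  · rw [Ideal.map_le_iff_le_comap]
    intro x hx
    rw [K, RingHom.mem_ker] at hx
    show p R π n x ∈ I R π n
    rw [I, RingHom.mem_ker, tr_p]
    exact hx
  · intro b hb
    obtain ⟨x, rfl⟩ := p_surjective hsurj n b
    refine Ideal.mem_map_of_mem _ ?_
    rw [I, RingHom.mem_ker, tr_p] at hb
    exact hb

variable (hker : ∀ n, RingHom.ker (π n) = (I R π (n + 1)) ^ (n + 1))
include hker

theorem I_pow_eq_bot (n : ℕ) : (I R π n) ^ (n + 1) = ⊥ := by
  have h1 : ((I R π (n + 1)) ^ (n + 1)).map (π n) = ⊥ := by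
    rw [← hker n]
    exact (Ideal.map_eq_bot_iff_le_ker _).mpr le_rfl
  rw [Ideal.map_pow] at h1
  have h2 := map_I hsurj (Nat.le_succ n)
  rw [tr_succ_self] at h2
  rw [h2] at h1
  exact h1

theorem pow_le_K (n : ℕ) : (K R π 0) ^ (n + 1) ≤ K R π n := by
  show (K R π 0) ^ (n + 1) ≤ RingHom.ker (p R π n)
  rw [← Ideal.map_eq_bot_iff_le_ker, Ideal.map_pow, map_K_zero hsurj, I_pow_eq_bot hsurj hker]

theorem ker_tr {k m : ℕ} (h : k ≤ m) : RingHom.ker (tr R π h) = (I R π m) ^ (k + 1) := by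
  induction m, h using Nat.le_induction with
  | base =>
    rw [tr_self, I_pow_eq_bot hsurj hker, eq_bot_iff]
    intro x hx
    exact hx
  | succ m h ih =>
    rw [tr_succ R π h, ← RingHom.comap_ker, ih]
    have h2 := map_I hsurj (Nat.le_succ m)
    rw [tr_succ_self] at h2
    rw [← h2, ← Ideal.map_pow, Ideal.comap_map_of_surjective _ (hsurj m), ← RingHom.ker_eq_comap_bot,
      hker m]
    exact sup_eq_left.mpr (Ideal.pow_le_pow_right (by omega))

omit hsurj hker in
/-- completeness of the limit for the filtration by the `K n`. -/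
theorem exists_limit (t : ℕ → limRing R π) (ht : ∀ k, t (k + 1) - t k ∈ K R π k) :
    ∃ T : limRing R π, ∀ k, T - t k ∈ K R π k := by
  refine ⟨⟨fun m => p R π m (t m), fun m => ?_⟩, fun k => ?_⟩
  · show π m (p R π (m + 1) (t (m + 1))) = p R π m (t m)
    rw [π_p]
    have := ht m
    rw [K, RingHom.mem_ker, map_sub, sub_eq_zero] at this
    exact this
  · rw [K, RingHom.mem_ker, map_sub, sub_eq_zero]
    rfl

omit hsurj hker in
theorem sub_mem_K_of_p_eq {n : ℕ} {x y : limRing R π} (h : p R π n x = p R π n y) :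
    x - y ∈ K R π n := by
  rw [K, RingHom.mem_ker, map_sub, h, sub_self]

/-- generators of `J = K 0` lifted from generators of `I 1`: the ideal `𝔞` they generate maps
onto `I m` for all `m ≥ 1`. -/
theorem map_eq_I_of_map_one {𝔞 : Ideal (limRing R π)} (h𝔞 : 𝔞 ≤ K R π 0)
    (h1 : 𝔞.map (p R π 1) = I R π 1) {m : ℕ} (hm : 1 ≤ m) : 𝔞.map (p R π m) = I R π m := by
  apply le_antisymm
  · rw [← map_K_zero hsurj m]
    exact Ideal.map_mono h𝔞
  · have hle : 𝔞.map (p R π m) ≤ I R π m := by
      rw [← map_K_zero hsurj m]; exact Ideal.map_mono h𝔞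
    refine Groth.Agent.Lib.R2H2.FormalSys3.le_of_le_sup_sq _ _ hle ?_ (m + 1)
      (I_pow_eq_bot hsurj hker m)
    intro b hb
    have hb1 : tr R π hm b ∈ I R π 1 := by
      rw [← map_I hsurj hm]; exact Ideal.mem_map_of_mem _ hb
    rw [← h1, Ideal.mem_map_iff_of_surjective _ (p_surjective hsurj 1)] at hb1
    obtain ⟨a, ha, hab⟩ := hb1
    have hker' : b - p R π m a ∈ (I R π m) ^ 2 := by
      rw [← ker_tr hsurj hker hm, RingHom.mem_ker, map_sub, tr_p, hab, sub_self]
    have : b = p R π m a + (b - p R π m a) := by ring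
    rw [this]
    exact Ideal.add_mem _ (Ideal.mem_sup_left (Ideal.mem_map_of_mem _ ha))
      (Ideal.mem_sup_right hker')

theorem K_le_sup {𝔞 : Ideal (limRing R π)} (h𝔞 : 𝔞 ≤ K R π 0)
    (h1 : 𝔞.map (p R π 1) = I R π 1) (n : ℕ) : K R π n ≤ 𝔞 ^ (n + 1) ⊔ K R π (n + 1) := by
  intro x hx
  have h2 : p R π (n + 1) x ∈ (𝔞 ^ (n + 1)).map (p R π (n + 1)) := by
    rw [Ideal.map_pow, map_eq_I_of_map_one hsurj hker h𝔞 h1 (Nat.succ_le_succ (Nat.zero_le n)),
      ← hker n, RingHom.mem_ker, π_p]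
    exact hx
  rw [Ideal.mem_map_iff_of_surjective _ (p_surjective hsurj (n + 1))] at h2
  obtain ⟨y, hy, hyx⟩ := h2
  have : x = y + (x - y) := by ring
  rw [this]
  exact Ideal.add_mem _ (Ideal.mem_sup_left hy) (Ideal.mem_sup_right (sub_mem_K_of_p_eq hyx.symm))

theorem pow_le_K' {𝔞 : Ideal (limRing R π)} (h𝔞 : 𝔞 ≤ K R π 0) (n : ℕ) :
    𝔞 ^ (n + 1) ≤ K R π n :=
  (Ideal.pow_right_mono h𝔞 _).trans (pow_le_K hsurj hker n)

theorem K_le_pow {𝔞 : Ideal (limRing R π)} (h𝔞 : 𝔞 ≤ K R π 0) (hfg : 𝔞.FG)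
    (h1 : 𝔞.map (p R π 1) = I R π 1) (n : ℕ) : K R π n ≤ 𝔞 ^ (n + 1) := by
  classical
  obtain ⟨r, m, hm⟩ : ∃ (r : ℕ) (m : Fin r → limRing R π),
      Ideal.span (Set.range m) = 𝔞 ^ (n + 1) := by
    obtain ⟨s, hs⟩ := Ideal.FG.pow (n := n + 1) hfg
    refine ⟨s.card, fun i => (s.equivFin.symm i : limRing R π), ?_⟩
    rw [← hs]
    congr 1
    ext a
    constructor
    · rintro ⟨i, rfl⟩
      exact (s.equivFin.symm i).2
    · intro ha
      exact ⟨s.equivFin ⟨a, ha⟩, by simp⟩
  -- the step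
  have step : ∀ (k : ℕ) (x : limRing R π), ∃ c : Fin r → limRing R π,
      (∀ i, c i ∈ 𝔞 ^ k) ∧ (x ∈ K R π (n + k) → x - ∑ i, c i * m i ∈ K R π (n + k + 1)) := by
    intro k x
    by_cases hx : x ∈ K R π (n + k)
    · have h2 := K_le_sup hsurj hker h𝔞 h1 (n + k) hx
      obtain ⟨y, hy, z, hz, rfl⟩ := Submodule.mem_sup.mp h2
      have hy' : y ∈ 𝔞 ^ k • Submodule.span (limRing R π) (Set.range m) := by
        have : 𝔞 ^ k • Submodule.span (limRing R π) (Set.range m) = 𝔞 ^ (n + k + 1) := by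
          show 𝔞 ^ k • Ideal.span (Set.range m) = 𝔞 ^ (n + k + 1)
          rw [hm, smul_eq_mul, ← pow_add]
          congr 1
          omega
        rw [this]; exact hy
      rw [Submodule.mem_ideal_smul_span_iff_exists_sum] at hy'
      obtain ⟨a, ha, hay⟩ := hy'
      refine ⟨fun i => a i, fun i => ha i, fun _ => ?_⟩
      have : ∑ i, a i * m i = y := by
        rw [← hay, Finsupp.sum_fintype]
        · rfl
        · intro i; exact zero_smul _ _
      rw [this]
      simpa using hz
    · exact ⟨fun _ => 0, fun _ => Ideal.zero_mem _, fun h => absurd h hx⟩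
  choose c hc1 hc2 using step
  intro x hx
  let X : ℕ → limRing R π := fun k => Nat.rec x (fun k X => X - ∑ i, c k X i * m i) k
  have hX0 : X 0 = x := rfl
  have hXs : ∀ k, X (k + 1) = X k - ∑ i, c k (X k) i * m i := fun k => rfl
  have hXK : ∀ k, X k ∈ K R π (n + k) := by
    intro k
    induction k with
    | zero => exact hx
    | succ k ih => rw [hXs]; exact hc2 k (X k) ih
  -- partial sums of coefficients
  let S : ℕ → Fin r → limRing R π := fun k i => ∑ j ∈ Finset.range k, c j (X j) i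
  have hS : ∀ k, x - ∑ i, S k i * m i = X k := by
    intro k
    induction k with
    | zero => simp [S, hX0]
    | succ k ih =>
      have : ∀ i, S (k + 1) i = S k i + c k (X k) i := fun i => Finset.sum_range_succ _ _
      have e : ∑ i, S (k + 1) i * m i = ∑ i, S k i * m i + ∑ i, c k (X k) i * m i := by
        simp only [this, add_mul, Finset.sum_add_distrib]
      rw [hXs, e, ← sub_sub, ih]
  have hT : ∀ i, ∃ T : limRing R π, ∀ k, T - S (k + 1) i ∈ K R π k := by
    intro i
    refine exists_limit (fun k => S (k + 1) i) (fun k => ?_)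
    have : S (k + 1 + 1) i - S (k + 1) i = c (k + 1) (X (k + 1)) i := by
      show ∑ j ∈ Finset.range (k + 1 + 1), c j (X j) i - ∑ j ∈ Finset.range (k + 1), c j (X j) i = _
      rw [Finset.sum_range_succ _ (k + 1)]; ring
    rw [this]
    exact pow_le_K' hsurj hker h𝔞 k (hc1 (k + 1) (X (k + 1)) i)
  choose T hT using hT
  have hx_eq : x = ∑ i, T i * m i := by
    rw [← sub_eq_zero]
    refine eq_zero_of_forall_mem_K (fun k => ?_)
    have e : x - ∑ i, T i * m i = X (k + 1) - ∑ i, (T i - S (k + 1) i) * m i := by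
      rw [← hS (k + 1)]
      simp only [sub_mul, Finset.sum_sub_distrib]
      ring
    rw [e]
    refine Ideal.sub_mem _ (K_anti (by omega) (hXK (k + 1))) (Ideal.sum_mem _ (fun i _ => ?_))
    exact Ideal.mul_mem_right _ _ (hT i k)
  rw [hx_eq, ← hm]
  exact Ideal.sum_mem _ (fun i _ => Ideal.mul_mem_left _ _ (Ideal.subset_span ⟨i, rfl⟩))

omit hker in
theorem exists_lift_ideal (hfg : (I R π 1).FG) :
    ∃ 𝔞 : Ideal (limRing R π), 𝔞 ≤ K R π 0 ∧ 𝔞.FG ∧ 𝔞.map (p R π 1) = I R π 1 := by
  classical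
  obtain ⟨s, hs⟩ := hfg
  have hlift : ∀ b : s, ∃ a : limRing R π, a ∈ K R π 0 ∧ p R π 1 a = b := by
    intro b
    have hb : (b : R 1) ∈ I R π 1 := by rw [← hs]; exact Ideal.subset_span b.2
    rw [← map_K_zero hsurj 1, Ideal.mem_map_iff_of_surjective _ (p_surjective hsurj 1)] at hb
    exact hb
  choose a ha hab using hlift
  refine ⟨Ideal.span (Set.range a), ?_, ?_, ?_⟩
  · rw [Ideal.span_le]
    rintro _ ⟨b, rfl⟩
    exact ha b
  · exact ⟨Finset.univ.image a, by simp⟩
  · rw [Ideal.map_span, ← hs]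
    congr 1
    ext y
    constructor
    · rintro ⟨_, ⟨b, rfl⟩, rfl⟩
      rw [hab]; exact b.2
    · intro hy
      exact ⟨a ⟨y, hy⟩, ⟨_, rfl⟩, hab _⟩

theorem K_eq_pow (hfg : (I R π 1).FG) (n : ℕ) : K R π n = (K R π 0) ^ (n + 1) := by
  obtain ⟨𝔞, h𝔞, hfg', h1⟩ := exists_lift_ideal hsurj hfg
  have h0 : K R π 0 = 𝔞 := by
    apply le_antisymm
    · have := K_le_pow hsurj hker h𝔞 hfg' h1 0
      simpa using this
    · exact h𝔞
  rw [h0]
  exact le_antisymm (K_le_pow hsurj hker h𝔞 hfg' h1 n) (pow_le_K' hsurj hker h𝔞 n)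

theorem K_zero_fg (hfg : (I R π 1).FG) : (K R π 0).FG := by
  obtain ⟨𝔞, h𝔞, hfg', h1⟩ := exists_lift_ideal hsurj hfg
  have h0 : K R π 0 = 𝔞 := by
    apply le_antisymm
    · have := K_le_pow hsurj hker h𝔞 hfg' h1 0
      simpa using this
    · exact h𝔞
  rw [h0]; exact hfg'

theorem isAdicComplete (hfg : (I R π 1).FG) : IsAdicComplete (K R π 0) (limRing R π) := by
  have hK := K_eq_pow hsurj hker hfg
  have hmem : ∀ (n : ℕ) (x : limRing R π),
      x ∈ ((K R π 0) ^ (n + 1) • ⊤ : Submodule (limRing R π) (limRing R π)) ↔ x ∈ K R π n := by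
    intro n x
    rw [hK n, smul_eq_mul, Ideal.mul_top]
  have : IsHausdorff (K R π 0) (limRing R π) := by
    refine ⟨fun x hx => eq_zero_of_forall_mem_K (fun n => ?_)⟩
    have := hx (n + 1)
    rw [SModEq.zero] at this
    exact (hmem n x).mp this
  have : IsPrecomplete (K R π 0) (limRing R π) := by
    refine ⟨fun f hf => ?_⟩
    obtain ⟨T, hT⟩ := exists_limit (fun k => f (k + 1)) (fun k => by
      have := hf (Nat.le_succ (k + 1))
      rw [SModEq.comm, SModEq.sub_mem] at this
      exact (hmem k _).mp this)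
    refine ⟨T, fun n => ?_⟩
    cases n with
    | zero =>
      rw [pow_zero, Ideal.one_eq_top, SModEq.sub_mem]
      simp
    | succ n =>
      rw [SModEq.comm, SModEq.sub_mem]
      exact (hmem n _).mpr (hT n)
  exact {}

/-- the projection `p 0` induces `A ⧸ K 0 ≃ R 0`. -/
noncomputable def quotEquiv (n : ℕ) : (limRing R π ⧸ K R π n) ≃+* R n :=
  RingHom.quotientKerEquivOfSurjective (p_surjective hsurj n)

theorem isNoetherianRing [IsNoetherianRing (R 0)] (hfg : (I R π 1).FG) :
    IsNoetherianRing (limRing R π) := by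
  haveI := isAdicComplete hsurj hker hfg
  haveI : IsNoetherianRing (limRing R π ⧸ K R π 0) :=
    isNoetherianRing_of_ringEquiv (R 0) (quotEquiv hsurj 0).symm
  exact Groth.Agent.Lib.Helper19.isNoetherianRing_of_isAdicComplete_of_fg (K R π 0)
    (K_zero_fg hsurj hker hfg)

end surj

end Groth.Agent.Lib.R2H2.LimRing
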