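import Mathlib
set_option backward.isDefEq.respectTransparency.types false

/-!
# Kernels of families of morphisms related by a scalar matrix (helper2, round 2)

Namespace `Groth.Agent.Lib.R2H2.LinKer`.

* `exists_completion`: a matrix with linearly independent columns completes to an invertible matrix.
* `Scal k A` (a ring action of `k` on the object `A`), `Scal.ofLinear`; `matHom σ P : A^ι ⟶ A^κ` for a scalar
  matrix `P`; `matHom_desc`, `matHom_mul`, `matHom_one`, `matIso`.
* `sumIso`, `kernelDescZero`.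
* `nonempty_kernel_iso`: if `ℓ j = ∑ c, σ.ρ (P j (inl c)) ≫ x c` with `P` invertible then
  `ker (desc ℓ) ≅ ker (desc x) ⊞ A^d`.
-/
set_option autoImplicit false
universe v u

namespace Groth.Agent.Lib.R2H2.LinKer

open CategoryTheory CategoryTheory.Limits

section LinAlg

variable {k : Type*} [Field k]

/-- a matrix with linearly independent columns can be completed to an invertible matrix -/
theorem exists_completion {n m : ℕ} (M : Matrix (Fin n) (Fin m) k)
    (hM : ∀ v : Fin m → k, (∀ j, ∑ c, M j c * v c = 0) → v = 0) :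
    ∃ (d : ℕ) (P : Matrix (Fin n) (Fin m ⊕ Fin d) k) (Q : Matrix (Fin m ⊕ Fin d) (Fin n) k),
      m + d = n ∧ P * Q = 1 ∧ Q * P = 1 ∧ ∀ j c, P j (Sum.inl c) = M j c := by
  classical
  let col : Fin m → (Fin n → k) := fun c j => M j c
  have hli : LinearIndependent k col := by
    rw [Fintype.linearIndependent_iff]
    intro g hg
    have h0 := hM g (fun j => by
      have := congrFun hg j
      simp only [Finset.sum_apply, Pi.smul_apply, smul_eq_mul, Pi.zero_apply] at this
      rw [← this]
      exact Finset.sum_congr rfl fun c _ => mul_comm _ _)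
    intro i
    rw [h0]; rfl
  let R : Submodule k (Fin n → k) := Submodule.span k (Set.range col)
  obtain ⟨C, hC⟩ := Submodule.exists_isCompl R
  let bR : Module.Basis (Fin m) k R := Module.Basis.span hli
  let d := Module.finrank k C
  let bC : Module.Basis (Fin d) k C := Module.finBasis k C
  let b : Module.Basis (Fin m ⊕ Fin d) k (Fin n → k) :=
    (bR.prod bC).map (Submodule.prodEquivOfIsCompl R C hC)
  have hb : ∀ c, b (Sum.inl c) = col c := by
    intro c
    simp only [b, Module.Basis.map_apply, Submodule.coe_prodEquivOfIsCompl']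
    rw [Module.Basis.prod_apply_inl_fst, Module.Basis.prod_apply_inl_snd]
    simp only [Submodule.coe_zero, add_zero]
    exact congrArg Subtype.val (Module.Basis.span_apply hli c)
  let e : (Fin m ⊕ Fin d → k) ≃ₗ[k] (Fin n → k) := b.equivFun.symm
  refine ⟨d, LinearMap.toMatrix' e.toLinearMap, LinearMap.toMatrix' e.symm.toLinearMap, ?_, ?_, ?_, ?_⟩
  · have h1 := Module.finrank_eq_card_basis b
    simp only [Module.finrank_fintype_fun_eq_card, Fintype.card_fin, Fintype.card_sum] at h1
    exact h1.symm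
  · rw [← LinearMap.toMatrix'_comp]
    simp
  · rw [← LinearMap.toMatrix'_comp]
    simp
  · intro j c
    rw [LinearMap.toMatrix'_apply]
    have : e (Pi.single (Sum.inl c) 1) = b (Sum.inl c) := by
      simp [e]
    change e (Pi.single (Sum.inl c) 1) j = M j c
    rw [this, hb]

end LinAlg

section Cat

variable {k : Type*} [CommRing k] {𝒟 : Type u} [Category.{v} 𝒟] [Preadditive 𝒟]

/-- a "scalar structure": a ring action of `k` on an object by endomorphisms -/
structure Scal (k : Type*) [CommRing k] {𝒟 : Type u} [Category.{v} 𝒟] [Preadditive 𝒟] (A : 𝒟) where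
  ρ : k →+ (A ⟶ A)
  one : ρ 1 = 𝟙 A
  mul : ∀ a b : k, ρ (a * b) = ρ a ≫ ρ b

/-- the scalar structure of a linear category -/
def Scal.ofLinear [Linear k 𝒟] (A : 𝒟) : Scal k A where
  ρ :=
    { toFun := fun r => r • 𝟙 A
      map_zero' := zero_smul _ _
      map_add' := fun a b => add_smul _ _ _ }
  one := one_smul _ _
  mul := fun a b => by
    change (a * b) • 𝟙 A = (a • 𝟙 A) ≫ (b • 𝟙 A)
    rw [Linear.smul_comp, Linear.comp_smul, Category.id_comp, smul_smul, mul_comm]

variable [HasFiniteBiproducts 𝒟] [HasBinaryBiproducts 𝒟] {A : 𝒟} (σ : Scal k A)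

/-- the morphism `A^ι ⟶ A^κ` given by a matrix of scalars -/
noncomputable def matHom {ι κ : Type} [Fintype ι] [Fintype κ] (P : Matrix ι κ k) :
    (⨁ fun _ : ι => A) ⟶ ⨁ fun _ : κ => A :=
  biproduct.matrix fun i j => σ.ρ (P i j)

lemma matHom_desc {B : 𝒟} {ι κ : Type} [Fintype ι] [Fintype κ] (P : Matrix ι κ k)
    (x : κ → (A ⟶ B)) :
    matHom σ P ≫ biproduct.desc x = biproduct.desc fun i => ∑ j, σ.ρ (P i j) ≫ x j := by
  rw [matHom, biproduct.matrix_desc]

lemma ι_matHom_π {ι κ : Type} [Fintype ι] [Fintype κ] (P : Matrix ι κ k) (i : ι) (j : κ) :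
    biproduct.ι (fun _ : ι => A) i ≫ matHom σ P ≫ biproduct.π (fun _ : κ => A) j = σ.ρ (P i j) := by
  rw [matHom, biproduct.matrix_π, biproduct.ι_desc]

lemma matHom_mul {ι κ μ : Type} [Fintype ι] [Fintype κ] [Fintype μ] (P : Matrix ι κ k)
    (Q : Matrix κ μ k) : matHom σ P ≫ matHom σ Q = matHom σ (P * Q) := by
  classical
  refine biproduct.hom_ext' _ _ fun i => biproduct.hom_ext _ _ fun j => ?_
  rw [Category.assoc, Category.assoc, Category.assoc, ι_matHom_π]
  have h1 : matHom σ Q ≫ biproduct.π (fun _ : μ => A) j =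
      biproduct.desc fun c => σ.ρ (Q c j) := by
    rw [matHom, biproduct.matrix_π]
  have h2 : biproduct.ι (fun _ : ι => A) i ≫ matHom σ P = biproduct.lift fun c => σ.ρ (P i c) := by
    rw [matHom, biproduct.ι_matrix]
  rw [h1, ← Category.assoc, h2, biproduct.lift_desc, Matrix.mul_apply, map_sum]
  refine Finset.sum_congr rfl fun c _ => ?_
  rw [σ.mul]

lemma matHom_one {ι : Type} [Fintype ι] [DecidableEq ι] :
    matHom σ (1 : Matrix ι ι k) = 𝟙 _ := by
  refine biproduct.hom_ext' _ _ fun i => biproduct.hom_ext _ _ fun j => ?_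
  rw [Category.assoc, ι_matHom_π, Category.comp_id, biproduct.ι_π, Matrix.one_apply]
  by_cases h : i = j
  · subst h
    simp [σ.one]
  · rw [if_neg h, map_zero, dif_neg h]

/-- an invertible matrix gives an isomorphism -/
noncomputable def matIso {ι κ : Type} [Fintype ι] [Fintype κ] [DecidableEq ι] [DecidableEq κ]
    (P : Matrix ι κ k) (Q : Matrix κ ι k) (h1 : P * Q = 1) (h2 : Q * P = 1) :
    (⨁ fun _ : ι => A) ≅ ⨁ fun _ : κ => A where
  hom := matHom σ P
  inv := matHom σ Q
  hom_inv_id := by rw [matHom_mul, h1, matHom_one]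
  inv_hom_id := by rw [matHom_mul, h2, matHom_one]

/-- splitting a biproduct over a sum type -/
noncomputable def sumIso (A : 𝒟) (κ κ' : Type) [Finite κ] [Finite κ'] :
    (⨁ fun _ : κ ⊕ κ' => A) ≅ (⨁ fun _ : κ => A) ⊞ (⨁ fun _ : κ' => A) where
  hom := biproduct.desc fun s => match s with
    | Sum.inl c => biproduct.ι (fun _ : κ => A) c ≫ biprod.inl
    | Sum.inr t => biproduct.ι (fun _ : κ' => A) t ≫ biprod.inr
  inv := biprod.desc (biproduct.desc fun c => biproduct.ι (fun _ : κ ⊕ κ' => A) (Sum.inl c))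
    (biproduct.desc fun t => biproduct.ι (fun _ : κ ⊕ κ' => A) (Sum.inr t))
  hom_inv_id := by
    refine biproduct.hom_ext' _ _ fun s => ?_
    rcases s with c | t <;> simp
  inv_hom_id := by
    refine biprod.hom_ext' _ _ ?_ ?_
    · refine biproduct.hom_ext' _ _ fun c => ?_
      simp
    · refine biproduct.hom_ext' _ _ fun c => ?_
      simp

lemma sumIso_inv_desc (A : 𝒟) {B : 𝒟} (κ κ' : Type) [Finite κ] [Finite κ'] (x : κ → (A ⟶ B))
    (x' : κ' → (A ⟶ B)) :
    (sumIso A κ κ').inv ≫ biproduct.desc (Sum.elim x x') =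
      biprod.desc (biproduct.desc x) (biproduct.desc x') := by
  refine biprod.hom_ext' _ _ ?_ ?_
  · refine biproduct.hom_ext' _ _ fun c => ?_
    simp [sumIso]
  · refine biproduct.hom_ext' _ _ fun c => ?_
    simp [sumIso]

variable [HasKernels 𝒟]

/-- the kernel of `(f, 0)` -/
noncomputable def kernelDescZero {X B : 𝒟} (f : X ⟶ B) (C : 𝒟) :
    kernel (biprod.desc f (0 : C ⟶ B)) ≅ kernel f ⊞ C where
  hom := biprod.lift (kernel.lift f (kernel.ι _ ≫ biprod.fst) (by
      have h := kernel.condition (biprod.desc f (0 : C ⟶ B))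
      have h' : biprod.desc f (0 : C ⟶ B) = biprod.fst ≫ f := by
        rw [biprod.desc_eq, comp_zero, add_zero]
      rw [Category.assoc, ← h']
      exact h)) (kernel.ι _ ≫ biprod.snd)
  inv := kernel.lift _ (biprod.map (kernel.ι f) (𝟙 C)) (by
      refine biprod.hom_ext' _ _ ?_ ?_ <;> simp)
  hom_inv_id := by
    apply (cancel_mono (kernel.ι _)).1
    refine biprod.hom_ext _ _ ?_ ?_ <;> simp
  inv_hom_id := by
    refine biprod.hom_ext _ _ ?_ ?_
    · apply (cancel_mono (kernel.ι f)).1
      simp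
    · simp

/-- **kernel of a family of morphisms that are combinations of another family** -/
theorem nonempty_kernel_iso {B : 𝒟} {n m d : ℕ} (ℓ : Fin n → (A ⟶ B)) (x : Fin m → (A ⟶ B))
    (P : Matrix (Fin n) (Fin m ⊕ Fin d) k) (Q : Matrix (Fin m ⊕ Fin d) (Fin n) k)
    (hPQ : P * Q = 1) (hQP : Q * P = 1) (hℓ : ∀ j, ℓ j = ∑ c, σ.ρ (P j (Sum.inl c)) ≫ x c) :
    Nonempty (kernel (biproduct.desc ℓ) ≅ kernel (biproduct.desc x) ⊞ ⨁ fun _ : Fin d => A) := by
  have h1 : biproduct.desc ℓ ≫ (Iso.refl B).hom =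
      (matIso σ P Q hPQ hQP ≪≫ sumIso A (Fin m) (Fin d)).hom ≫
        biprod.desc (biproduct.desc x) (0 : (⨁ fun _ : Fin d => A) ⟶ B) := by
    have h2 : (0 : (⨁ fun _ : Fin d => A) ⟶ B) = biproduct.desc fun _ => 0 := by
      refine biproduct.hom_ext' _ _ fun c => ?_
      simp
    rw [Iso.refl_hom, Category.comp_id, Iso.trans_hom, Category.assoc, h2,
      ← sumIso_inv_desc, Iso.hom_inv_id_assoc]
    change _ = matHom σ P ≫ _
    rw [matHom_desc]
    congr 1
    funext j
    rw [hℓ j, Fintype.sum_sum_type]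
    simp
  exact ⟨kernel.mapIso _ _ _ _ h1 ≪≫ kernelDescZero _ _⟩

end Cat

end Groth.Agent.Lib.R2H2.LinKer
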