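import Groth.Agent.Lib.R2H2LocKoszul
import Groth.Agent.Lib.Helper16Flasque

/-!
# Flasqueness of `M~` and direct-limit Koszul cohomology (helper2, round 2)

On `X = Spec A`, for `U` the complement of `V(f_1, …, f_r)`:
* `subsingleton_one_iff`: `koszulHLim fs M 1 = 0` iff `Γ(X, M~) → Γ(U, M~)` is surjective;
* `subsingleton_of_isFlasque`: if `M~` is flasque then `koszulHLim fs M i = 0` for `i > 0`;
* `exists_list_eq`: on a Noetherian spectrum every open is such a `U`;
* `isFlasque_of_forall`: if `koszulHLim fs M 1 = 0` for all `fs` then `M~` is flasque.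
-/

set_option autoImplicit false
universe u

namespace Groth.Agent.Lib.R2H2.LocFlasque

open CategoryTheory CategoryTheory.Limits Opposite TopologicalSpace Abelian AlgebraicGeometry
open Groth.Agent.Lib.Helper23.AffVanish Groth.Agent.Lib.R2H2.LocKoszul

lemma subsingleton_quot_range_iff {G H : Type*} [AddCommGroup G] [AddCommGroup H] (f : G →+ H) :
    Subsingleton (H ⧸ f.range) ↔ Function.Surjective f := by
  constructor
  · intro h s
    have h1 : (QuotientAddGroup.mk s : H ⧸ f.range) = QuotientAddGroup.mk 0 := Subsingleton.elim _ _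
    rw [QuotientAddGroup.eq, add_zero] at h1
    obtain ⟨t, ht⟩ := (AddSubgroup.neg_mem_iff _).1 h1
    exact ⟨t, ht⟩
  · intro h
    refine ⟨fun x y => ?_⟩
    obtain ⟨x, rfl⟩ := QuotientAddGroup.mk_surjective x
    obtain ⟨y, rfl⟩ := QuotientAddGroup.mk_surjective y
    rw [QuotientAddGroup.eq]
    exact AddMonoidHom.mem_range.2 (h _)

variable (A : Type u) [CommRing A] (fs : List A) (M : Type u) [AddCommGroup M] [Module A M]

/-- the sheaf `M~` -/
noncomputable abbrev FA : (Spec (CommRingCat.of A)).Modules :=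
  tilde (R := CommRingCat.of A) (ModuleCat.of A M)

/-- the complement of `V(fs)` -/
noncomputable abbrev UA : (Spec (CommRingCat.of A)).Opens :=
  LocCoh.puncturedOpen A (Ideal.span {a | a ∈ fs})

theorem subsingleton_one_iff :
    Subsingleton (CohIII.koszulHLim fs (ModuleCat.of A M) 1) ↔
      Function.Surjective
        ((Coh.toAb (FA A M)).obj.map (homOfLE (le_top : UA A fs ≤ ⊤)).op).hom := by
  obtain ⟨e1⟩ := LocKoszul.main A fs M 1
  have hvan : Subsingleton (CohTop.HU (X := (Spec (CommRingCat.of A)).carrier)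
      (Coh.toAb (FA A M)) 1 ⊤) :=
    subsingleton_HE_of_isAffineOpen (isAffineOpen_top _) (FA A M) 0
  obtain ⟨e2⟩ := nonempty_coker_equiv (X := (Spec (CommRingCat.of A)).carrier)
    (Coh.toAb (FA A M)) (UA A fs) hvan
  rw [(e1.trans e2.symm).toEquiv.subsingleton_congr]
  exact subsingleton_quot_range_iff _

theorem subsingleton_of_isFlasque [hfl : TopCat.Sheaf.IsFlasque (Coh.toAb (FA A M))] (i : ℕ)
    (hi : 0 < i) : Subsingleton (CohIII.koszulHLim fs (ModuleCat.of A M) i) := by
  match i, hi with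
  | 1, _ =>
    rw [subsingleton_one_iff]
    have : Epi ((Coh.toAb (FA A M)).obj.map (homOfLE (le_top : UA A fs ≤ ⊤)).op) :=
      TopCat.Presheaf.IsFlasque.epi _
    exact (AddCommGrpCat.epi_iff_surjective _).1 this
  | q + 2, _ =>
    obtain ⟨e1⟩ := LocKoszul.main A fs M (q + 2)
    rw [e1.toEquiv.subsingleton_congr]
    have hb := delta_bijective (X := (Spec (CommRingCat.of A)).carrier) (Coh.toAb (FA A M))
      (UA A fs) (q + 1)
      (Groth.Agent.Lib.Helper16.Flasque.HU_subsingleton (Coh.toAb (FA A M)) ⊤ q)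
      (Groth.Agent.Lib.Helper16.Flasque.HU_subsingleton (Coh.toAb (FA A M)) ⊤ (q + 1))
    have := Groth.Agent.Lib.Helper16.Flasque.HU_subsingleton
      (X := (Spec (CommRingCat.of A)).carrier) (Coh.toAb (FA A M)) (UA A fs) q
    exact (Equiv.ofBijective _ hb).symm.subsingleton

theorem exists_list_eq [NoetherianSpace (PrimeSpectrum A)] (V : (Spec (CommRingCat.of A)).Opens) :
    ∃ fs : List A, V = LocCoh.puncturedOpen A (Ideal.span {a | a ∈ fs}) := by
  let V' : Set (PrimeSpectrum A) := V.1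
  have hc : IsCompact V' := NoetherianSpace.isCompact _
  have ho : IsOpen V' := V.2
  obtain ⟨t, ht⟩ := PrimeSpectrum.isCompact_isOpen_iff.1 ⟨hc, ho⟩
  refine ⟨t.toList, ?_⟩
  apply Opens.ext
  change V' =
    (PrimeSpectrum.zeroLocus (R := A) ((Ideal.span {a | a ∈ t.toList} : Ideal A) : Set A))ᶜ
  rw [PrimeSpectrum.zeroLocus_span, ← ht]
  congr 2
  ext a
  simp [Finset.mem_toList]

theorem isFlasque_of_forall [NoetherianSpace (PrimeSpectrum A)]
    (h : ∀ fs : List A, Subsingleton (CohIII.koszulHLim fs (ModuleCat.of A M) 1)) :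
    TopCat.Sheaf.IsFlasque (Coh.toAb (FA A M)) := by
  refine ⟨fun {U V} i => ?_⟩
  induction V using Opposite.rec with
  | op V' =>
    obtain ⟨fs, rfl⟩ := exists_list_eq A V'
    have hs := (subsingleton_one_iff A fs M).1 (h fs)
    rw [AddCommGrpCat.epi_iff_surjective]
    intro s
    obtain ⟨t, ht⟩ := hs s
    refine ⟨((Coh.toAb (FA A M)).obj.map (homOfLE (le_top : U.unop ≤ ⊤)).op).hom t, ?_⟩
    rw [← ht]
    have h1 : (homOfLE (le_top : U.unop ≤ ⊤)).op ≫ i =
        (homOfLE (le_top : UA A fs ≤ ⊤)).op := Subsingleton.elim _ _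
    rw [← h1, Functor.map_comp]
    rfl

end Groth.Agent.Lib.R2H2.LocFlasque
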