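import Groth.Agent.S2439
import Groth.Agent.S2442
import Groth.Agent.Lib.R2H2KoszulRing
import Groth.Agent.Lib.Helper16Restr
import Groth.Agent.Lib.Helper23AffOpen2
import Groth.Prelude.Def_Wider

/-!
# Local cohomology of `M~` on `Spec A` is direct-limit Koszul cohomology (helper2, round 2)

* `delta_bijective`, `nonempty_coker_equiv`: consequences of the long exact sequence of `Ext` for
  `ℤ_U → ℤ_X → ℤ_X/ℤ_U` (cohomology with supports in the complement of `U`);
* `puncturedOpen_eq`: the complement of `V(f_1, …, f_r)` in `Spec A` is the union of the basic opens;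
* `exists_semilinear`: `M ≃ Γ(Spec A, M~)`, semilinear over `A ≃ Γ(Spec A, O)`;
* `main`: `koszulHLim fs M i ≃+ H^i_Z(Spec A, M~)`.
-/

set_option autoImplicit false
universe u

namespace Groth.Agent.Lib.R2H2.LocKoszul

open CategoryTheory CategoryTheory.Limits Opposite TopologicalSpace Abelian AlgebraicGeometry
open Groth.Agent.Lib.Helper23.AffVanish

section Top

variable {X : TopCat.{u}} (F : CohTop.Ab X) (U : Opens X)

/-- the connecting map is bijective when the cohomology of the whole space vanishes -/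
theorem delta_bijective (q : ℕ) (h1 : Subsingleton (CohTop.HU F q ⊤))
    (h2 : Subsingleton (CohTop.HU F (q + 1) ⊤)) :
    Function.Bijective (LocCohZ.delta F q (le_top : U ≤ ⊤)) := by
  have hS := LocCohZ.zqSeq_shortExact (le_top : U ≤ ⊤)
  constructor
  · rw [injective_iff_map_eq_zero]
    intro x hx
    obtain ⟨x₂, hx₂⟩ := Ext.contravariant_sequence_exact₁ hS F x (by omega : 1 + q = q + 1) hx
    have h0 : x₂ = 0 := h1.elim (α := CohTop.HU F q ⊤) x₂ 0
    rw [← hx₂, h0, Ext.comp_zero]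
    rfl
  · intro y
    have h0 : (Ext.mk₀ (LocCohZ.zqSeq (le_top : U ≤ ⊤)).g).comp y (zero_add (q + 1)) = 0 :=
      h2.elim (α := CohTop.HU F (q + 1) ⊤) _ _
    obtain ⟨x₁, hx₁⟩ := Ext.contravariant_sequence_exact₃ hS F y h0 (by omega : 1 + q = q + 1)
    exact ⟨x₁, hx₁⟩

/-- `H^1_Z` is the cokernel of the restriction map when `H^1` of the whole space vanishes -/
theorem nonempty_coker_equiv (h1 : Subsingleton (CohTop.HU F 1 ⊤)) :
    Nonempty ((F.obj.obj (op U)) ⧸ (F.obj.map (homOfLE (le_top : U ≤ ⊤)).op).hom.range ≃+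
      LocCohZ.HZ F 1 (le_top : U ≤ ⊤)) := by
  have hS := LocCohZ.zqSeq_shortExact (le_top : U ≤ ⊤)
  let δ : HE F 0 U →+ LocCohZ.HZ F 1 (le_top : U ≤ ⊤) := LocCohZ.delta F 0 (le_top : U ≤ ⊤)
  have hδ : ∀ x, δ x = hS.extClass.comp x (by omega : 1 + 0 = 0 + 1) := fun x => rfl
  let ψ : F.obj.obj (op U) →+ LocCohZ.HZ F 1 (le_top : U ≤ ⊤) :=
    δ.comp (h0Equiv F U).symm.toAddMonoidHom
  have hψ : ∀ s, ψ s = δ ((h0Equiv F U).symm s) := fun s => rfl
  have hsurj : Function.Surjective ψ := by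
    intro y
    have h0 : (Ext.mk₀ (LocCohZ.zqSeq (le_top : U ≤ ⊤)).g).comp y (zero_add 1) = 0 :=
      h1.elim (α := CohTop.HU F 1 ⊤) _ _
    obtain ⟨x₁, hx₁⟩ := Ext.contravariant_sequence_exact₃ hS F y h0 (by omega : 1 + 0 = 1)
    refine ⟨h0Equiv F U x₁, ?_⟩
    rw [hψ, AddEquiv.symm_apply_apply]
    exact hx₁
  have hker : ψ.ker = (F.obj.map (homOfLE (le_top : U ≤ ⊤)).op).hom.range := by
    ext s
    rw [AddMonoidHom.mem_ker, AddMonoidHom.mem_range]
    constructor
    · intro hs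
      rw [hψ, hδ] at hs
      obtain ⟨x₂, hx₂⟩ := Ext.contravariant_sequence_exact₁ hS F ((h0Equiv F U).symm s)
        (by omega : 1 + 0 = 0 + 1) hs
      refine ⟨h0Equiv F ⊤ x₂, ?_⟩
      have h3 := h0Equiv_res F (le_top : U ≤ ⊤) x₂
      have h4 : resE F 0 (le_top : U ≤ ⊤) x₂ = (h0Equiv F U).symm s := hx₂
      rw [← h3, h4, AddEquiv.apply_symm_apply]
    · rintro ⟨t, rfl⟩
      have h3 : (h0Equiv F U).symm ((F.obj.map (homOfLE (le_top : U ≤ ⊤)).op).hom t) =
          resE F 0 (le_top : U ≤ ⊤) ((h0Equiv F ⊤).symm t) := by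
        rw [AddEquiv.symm_apply_eq, h0Equiv_res, AddEquiv.apply_symm_apply]
      rw [hψ, h3, hδ]
      exact hS.extClass_comp_assoc _
  exact ⟨(QuotientAddGroup.quotientAddEquivOfEq hker.symm).trans
    (QuotientAddGroup.quotientKerEquivOfSurjective ψ hsurj)⟩

end Top

section Spec

variable (A : Type u) [CommRing A]

/-- the ring homomorphism `A → Γ(Spec A, O)` -/
noncomputable abbrev toΓ : A →+* Γ(Spec (CommRingCat.of A), ⊤) :=
  (Scheme.ΓSpecIso (CommRingCat.of A)).inv.hom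

lemma basicOpen_toΓ (a : A) :
    (Spec (CommRingCat.of A)).basicOpen (toΓ A a) = PrimeSpectrum.basicOpen a :=
  basicOpen_eq_of_affine (R := CommRingCat.of A) a

theorem puncturedOpen_eq (fs : List A) :
    LocCoh.puncturedOpen A (Ideal.span {a | a ∈ fs}) =
      ⨆ i : Fin (fs.map (toΓ A)).length,
        (Spec (CommRingCat.of A)).basicOpen ((fs.map (toΓ A)).get i) := by
  apply le_antisymm
  · intro x hx
    have hx' : ¬ (x ∈ PrimeSpectrum.zeroLocus (R := A) (Ideal.span {a | a ∈ fs} : Set A)) := hx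
    have hex : ∃ a ∈ fs, a ∉ (x : PrimeSpectrum A).asIdeal := by
      by_contra hcon
      push Not at hcon
      apply hx'
      have h5 : ((Ideal.span {a | a ∈ fs} : Ideal A) : Set A) ⊆
          ((x : PrimeSpectrum A).asIdeal : Set A) := Ideal.span_le.2 (fun a ha => hcon a ha)
      exact h5
    obtain ⟨a, ha, hax⟩ := hex
    obtain ⟨i, hi⟩ := List.mem_iff_get.1 (List.mem_map_of_mem (f := toΓ A) ha)
    refine Opens.mem_iSup.2 ⟨i, ?_⟩
    rw [hi, basicOpen_toΓ]
    exact hax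
  · refine iSup_le fun i => ?_
    obtain ⟨a, ha, hφ⟩ := List.mem_map.1 (List.get_mem (fs.map (toΓ A)) i)
    rw [← hφ, basicOpen_toΓ]
    intro x hx hz
    have hz' : ((Ideal.span {a | a ∈ fs} : Ideal A) : Set A) ⊆
        ((x : PrimeSpectrum A).asIdeal : Set A) := hz
    exact hx (hz' (Ideal.subset_span ha))

lemma smul_top_eq {R : CommRingCat.{u}} (Mm : (Spec R).Modules) (a : R)
    (y : Γ(Mm, (⊤ : (Spec R).Opens))) :
    a • y = ((Scheme.ΓSpecIso R).inv a) • y := by
  have h1 : (Spec R).presheaf.map (⊤ : (Spec R).Opens).leTop.op = 𝟙 _ := by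
    rw [Subsingleton.elim (⊤ : (Spec R).Opens).leTop.op (𝟙 _)]
    exact (Spec R).presheaf.map_id _
  have h2 : a • y = ((Spec R).presheaf.map (⊤ : (Spec R).Opens).leTop.op)
      ((Scheme.ΓSpecIso R).inv a) • y := Scheme.Modules.smul_Spec_def a y
  rw [h2, h1]
  rfl

variable (M : Type u) [AddCommGroup M] [Module A M]

theorem exists_semilinear :
    ∃ e : M ≃+ ((tilde (R := CommRingCat.of A) (ModuleCat.of A M)).val.obj (op ⊤) : Type u),
      ∀ (a : A) (x : M), e (a • x) = (toΓ A a) • e x := by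
  let R : CommRingCat.{u} := CommRingCat.of A
  let Mm : ModuleCat.{u} R := ModuleCat.of A M
  let E := (tilde.isoTop Mm).toLinearEquiv
  refine ⟨E.toAddEquiv, fun a x => ?_⟩
  change E (a • x) = _
  rw [E.map_smul]
  exact smul_top_eq (R := R) (tilde Mm) a (E x)

end Spec

section Main

variable (A : Type u) [CommRing A] (fs : List A) (M : Type u) [AddCommGroup M] [Module A M]

theorem main (i : ℕ) :
    Nonempty (CohIII.koszulHLim fs (ModuleCat.of A M) i ≃+
      LocCohZ.HZM (Spec (CommRingCat.of A))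
        (AlgebraicGeometry.tilde (R := CommRingCat.of A) (ModuleCat.of A M)) i
        (LocCoh.puncturedOpen A (Ideal.span {a | a ∈ fs}))) := by
  obtain ⟨e, he⟩ := exists_semilinear A M
  obtain ⟨e0⟩ := Groth.Agent.Lib.R2H2.KoszulRing.nonempty_koszulHLim_addEquiv (toΓ A) e he fs i
  rw [puncturedOpen_eq]
  let X : Scheme.{u} := Spec (CommRingCat.of A)
  let F : X.Modules := tilde (R := CommRingCat.of A) (ModuleCat.of A M)
  have hF : Coh.IsQCoh F := inferInstanceAs (tilde (R := CommRingCat.of A) (ModuleCat.of A M)).IsQuasicoherent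
  have hFq : F.IsQuasicoherent := hF
  let fs' : List Γ(X, ⊤) := fs.map (toΓ A)
  let U : X.Opens := ⨆ i : Fin fs'.length, X.basicOpen (fs'.get i)
  have hvan : ∀ q : ℕ, Subsingleton (CohTop.HU (X := X.carrier) (Coh.toAb F) (q + 1) ⊤) :=
    fun q => subsingleton_HE_of_isAffineOpen (isAffineOpen_top X) F q
  match i, e0 with
  | 0, e0 =>
    obtain ⟨e1⟩ := (Groth.Agent.S2442.result X fs' F).1
    exact ⟨e0.trans (e1.symm.trans
      (LocCohZ.sect0Equiv (X := X.carrier) (Coh.toAb F) (le_top : U ≤ ⊤)).symm)⟩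
  | 1, e0 =>
    obtain ⟨e1⟩ := (Groth.Agent.S2442.result X fs' F).2
    obtain ⟨e2⟩ := nonempty_coker_equiv (X := X.carrier) (Coh.toAb F) U (hvan 0)
    exact ⟨e0.trans (e1.symm.trans e2)⟩
  | q + 2, e0 =>
    obtain ⟨e1⟩ := Groth.Agent.S2439.result X fs'
      (fun i => (isAffineOpen_top X).basicOpen (fs'.get i)) F (q + 1) (by omega)
    obtain ⟨e2⟩ := Groth.Agent.Lib.Helper16.Restr.nonempty_HU_equiv (X := X.carrier) U (Coh.toAb F) (q + 1)
    let e2' : CohTop.HU (X := X.carrier) (Coh.toAb F) (q + 1) U ≃+ Coh.HHon X F U (q + 1) := e2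
    let e3 := AddEquiv.ofBijective _
      (delta_bijective (X := X.carrier) (Coh.toAb F) U (q + 1) (hvan q) (hvan (q + 1)))
    exact ⟨e0.trans (e1.symm.trans (e2'.symm.trans e3))⟩

end Main

end Groth.Agent.Lib.R2H2.LocKoszul
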