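import Groth.Agent.Lib.R2H2LocKoszul
import Groth.Agent.Lib.R2H2KoszulDelta

/-!
# Cohomology of the punctured spectrum and local cohomology (helper2, round 2)

* `exists_list_span_eq`: an ideal of a Noetherian ring is the span of a list;
* `main`: `H^p(U, M~|_U) ≃+ H^{p+1}_I(M)` for `p ≥ 1`, `U = Spec R ∖ V(I)`, `R` Noetherian.
-/

set_option autoImplicit false
universe u

namespace Groth.Agent.Lib.R2H2.LocPunct

open CategoryTheory CategoryTheory.Limits Opposite TopologicalSpace AlgebraicGeometry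
open Groth.Agent.Lib.R2H2.LocKoszul

theorem exists_list_span_eq {R : Type u} [CommRing R] [IsNoetherianRing R] (I : Ideal R) :
    ∃ fs : List R, Ideal.span {a | a ∈ fs} = I := by
  obtain ⟨s, hs⟩ := (isNoetherianRing_iff_ideal_fg R).mp inferInstance I
  refine ⟨s.toList, ?_⟩
  have h : {a | a ∈ s.toList} = (s : Set R) := by
    ext a
    simp
  rw [h]
  exact hs

theorem main (R : Type u) [CommRing R] [IsNoetherianRing R] (I : Ideal R) (M : Type u)
    [AddCommGroup M] [Module R M] (p : ℕ) (hp : 1 ≤ p) :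
    Nonempty (Coh.HH (↑(LocCoh.puncturedOpen R I))
      ((AlgebraicGeometry.tilde (R := CommRingCat.of R) (ModuleCat.of R M)).restrict
        (LocCoh.puncturedOpen R I).ι) p ≃+ LocCoh.H I (p + 1) M) := by
  obtain ⟨fs, rfl⟩ := exists_list_span_eq I
  obtain ⟨e, he⟩ := exists_semilinear R M
  obtain ⟨e0⟩ := Groth.Agent.Lib.R2H2.KoszulRing.nonempty_koszulHLim_addEquiv (toΓ R) e he fs (p + 1)
  obtain ⟨e3⟩ := Groth.Agent.Lib.R2H2.KoszulDelta.nonempty_linearEquiv fs M (p + 1)
  rw [puncturedOpen_eq]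
  let X : Scheme.{u} := Spec (CommRingCat.of R)
  let F : X.Modules := tilde (R := CommRingCat.of R) (ModuleCat.of R M)
  have hF : Coh.IsQCoh F :=
    inferInstanceAs (tilde (R := CommRingCat.of R) (ModuleCat.of R M)).IsQuasicoherent
  let fs' : List Γ(X, ⊤) := fs.map (toΓ R)
  obtain ⟨e1⟩ := Groth.Agent.S2439.result X fs'
    (fun i => (isAffineOpen_top X).basicOpen (fs'.get i)) F p hp
  exact ⟨e1.trans (e0.symm.trans e3.symm.toAddEquiv)⟩

end Groth.Agent.Lib.R2H2.LocPunct
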