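import Mathlib
import Groth.Agent.Lib.R2H2KoszulAbs

/-!
# Sorted minors and the Koszul signs (helper2, round 2)

Pure algebra for the identification of `⋀^p` of the kernel of `(x_l) : Λ^r → Λ` with Koszul cycles.
-/

set_option backward.isDefEq.respectTransparency.types false
set_option autoImplicit false

namespace Groth.Agent.Lib.R2H2.MinorAlg

open Groth.Agent.Lib.R2H2.KoszulAbs

variable {r : ℕ}

section Sorted

lemma card_filter_lt_orderEmbOfFin (S : Finset (Fin r)) {n : ℕ} (h : S.card = n) (c : Fin n) :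
    (S.filter (· < S.orderEmbOfFin h c)).card = c := by
  have h1 : S.filter (· < S.orderEmbOfFin h c) =
      (Finset.univ.filter (· < c)).map (S.orderEmbOfFin h).toEmbedding := by
    ext a
    simp only [Finset.mem_filter, Finset.mem_map, Finset.mem_univ, true_and,
      RelEmbedding.coe_toEmbedding]
    constructor
    · rintro ⟨haS, hac⟩
      have : a ∈ Set.range (S.orderEmbOfFin h) := by
        rw [Finset.range_orderEmbOfFin]; exact haS
      obtain ⟨c', rfl⟩ := this
      exact ⟨c', (S.orderEmbOfFin h).lt_iff_lt.1 hac, rfl⟩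
    · rintro ⟨c', hc', rfl⟩
      exact ⟨Finset.orderEmbOfFin_mem S h c', (S.orderEmbOfFin h).lt_iff_lt.2 hc'⟩
  rw [h1, Finset.card_map]
  have h2 : (Finset.univ.filter (· < c) : Finset (Fin n)) = Finset.Iio c := by
    ext; simp
  rw [h2, Fin.card_Iio]

lemma orderEmbOfFin_eq_of_card_filter (S : Finset (Fin r)) {n : ℕ} (h : S.card = n) (a : Fin r)
    (ha : a ∈ S) (c : Fin n) (hc : (S.filter (· < a)).card = c) : S.orderEmbOfFin h c = a := by
  have : a ∈ Set.range (S.orderEmbOfFin h) := by
    rw [Finset.range_orderEmbOfFin]; exact ha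
  obtain ⟨c', rfl⟩ := this
  rw [card_filter_lt_orderEmbOfFin] at hc
  rw [Fin.ext hc]

/-- the position of `l` in the sorted enumeration of `insert l J` -/
def pos (J : Finset (Fin r)) {k : ℕ} (hJ : J.card = k) (l : Fin r) : Fin (k + 1) :=
  ⟨(J.filter (· < l)).card, by
    have := Finset.card_filter_le J (· < l)
    omega⟩

lemma lt_pos_iff (J : Finset (Fin r)) {k : ℕ} (hJ : J.card = k) (l : Fin r) (hl : l ∉ J)
    (b : Fin k) : b.castSucc < pos J hJ l ↔ J.orderEmbOfFin hJ b < l := by
  have hne : J.orderEmbOfFin hJ b ≠ l := fun h => hl (h ▸ Finset.orderEmbOfFin_mem J hJ b)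
  constructor
  · intro hb
    by_contra hcon
    have hlt : l < J.orderEmbOfFin hJ b := lt_of_le_of_ne (not_lt.1 hcon) (Ne.symm hne)
    have hsub : J.filter (· < l) ⊆ J.filter (· < J.orderEmbOfFin hJ b) := by
      intro a ha
      rw [Finset.mem_filter] at ha ⊢
      exact ⟨ha.1, ha.2.trans hlt⟩
    have := Finset.card_le_card hsub
    rw [card_filter_lt_orderEmbOfFin] at this
    rw [Fin.lt_def] at hb
    simp only [pos, Fin.val_castSucc] at hb
    omega
  · intro hb
    have hsub : insert (J.orderEmbOfFin hJ b) (J.filter (· < J.orderEmbOfFin hJ b)) ⊆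
        J.filter (· < l) := by
      intro a ha
      rw [Finset.mem_insert] at ha
      rw [Finset.mem_filter]
      rcases ha with rfl | ha
      · exact ⟨Finset.orderEmbOfFin_mem J hJ b, hb⟩
      · rw [Finset.mem_filter] at ha
        exact ⟨ha.1, ha.2.trans hb⟩
    have := Finset.card_le_card hsub
    rw [Finset.card_insert_of_notMem (by simp), card_filter_lt_orderEmbOfFin] at this
    rw [Fin.lt_def]
    simp only [pos, Fin.val_castSucc]
    omega

/-- sorted insertion -/
theorem orderEmbOfFin_insert (J : Finset (Fin r)) {k : ℕ} (hJ : J.card = k) (l : Fin r)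
    (hl : l ∉ J) (h' : (insert l J).card = k + 1) (b : Fin (k + 1)) :
    (insert l J).orderEmbOfFin h' ((Fin.cycleRange (pos J hJ l)).symm b) =
      (Fin.cons l (J.orderEmbOfFin hJ) : Fin (k + 1) → Fin r) b := by
  refine Fin.cases ?_ (fun b' => ?_) b
  · rw [Fin.cycleRange_symm_zero, Fin.cons_zero]
    apply orderEmbOfFin_eq_of_card_filter _ _ _ (Finset.mem_insert_self l J)
    rw [Finset.filter_insert, if_neg (lt_irrefl l)]
    rfl
  · rw [Fin.cycleRange_symm_succ, Fin.cons_succ]
    apply orderEmbOfFin_eq_of_card_filter _ _ _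
      (Finset.mem_insert_of_mem (Finset.orderEmbOfFin_mem J hJ b'))
    have hne : J.orderEmbOfFin hJ b' ≠ l := fun h => hl (h ▸ Finset.orderEmbOfFin_mem J hJ b')
    rw [Finset.filter_insert]
    by_cases hb : b'.castSucc < pos J hJ l
    · have h1 := (lt_pos_iff J hJ l hl b').1 hb
      rw [if_neg (not_lt.2 h1.le), card_filter_lt_orderEmbOfFin, Fin.succAbove_of_castSucc_lt _ _ hb]
      rfl
    · have h1 : l < J.orderEmbOfFin hJ b' :=
        lt_of_le_of_ne (not_lt.1 (fun h => hb ((lt_pos_iff J hJ l hl b').2 h))) (Ne.symm hne)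
      rw [if_pos h1, Finset.card_insert_of_notMem, card_filter_lt_orderEmbOfFin,
        Fin.succAbove_of_le_castSucc _ _ (not_lt.1 hb)]
      · rfl
      · rw [Finset.mem_filter]
        exact fun h => hl h.1

end Sorted

section Signs

/-- `σ(J) = (-1)^{Σ_{j ∈ J} j}` -/
def sgn (J : Finset (Fin r)) : ℤ := (-1) ^ (∑ j ∈ J, (j : ℕ))

lemma sgn_mul_self (J : Finset (Fin r)) : sgn J * sgn J = 1 := by
  unfold sgn
  rw [← pow_add, ← two_mul, pow_mul]
  simp

lemma sgn_insert (l : Fin r) (J : Finset (Fin r)) (hl : l ∉ J) :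
    sgn (insert l J) = (-1) ^ (l : ℕ) * sgn J := by
  unfold sgn
  rw [Finset.sum_insert hl, pow_add]

lemma card_filter_lt_compl (l : Fin r) (J : Finset (Fin r)) (hl : l ∉ J) :
    ((Jᶜ.erase l).filter (· < l)).card + (J.filter (· < l)).card = l := by
  rw [← Finset.card_union_of_disjoint]
  · have h1 : (Jᶜ.erase l).filter (· < l) ∪ J.filter (· < l) = Finset.Iio l := by
      ext a
      simp only [Finset.mem_union, Finset.mem_filter, Finset.mem_erase, Finset.mem_compl,
        Finset.mem_Iio]
      constructor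
      · rintro (h | h)
        · exact h.2
        · exact h.2
      · intro h
        by_cases ha : a ∈ J
        · exact Or.inr ⟨ha, h⟩
        · exact Or.inl ⟨⟨ne_of_lt h, ha⟩, h⟩
    rw [h1, Fin.card_Iio]
  · rw [Finset.disjoint_left]
    intro a ha hb
    rw [Finset.mem_filter, Finset.mem_erase, Finset.mem_compl] at ha
    rw [Finset.mem_filter] at hb
    exact ha.1.2 hb.1

/-- compatibility of the Koszul signs with complements -/
lemma eps_compl (l : Fin r) (J : Finset (Fin r)) (hl : l ∉ J) :
    eps l (Jᶜ.erase l) * sgn (insert l J) = sgn J * eps l J := by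
  rw [sgn_insert l J hl]
  unfold eps
  have h := card_filter_lt_compl l J hl
  rw [← h, pow_add]
  have h2 : ((-1 : ℤ) ^ ((Jᶜ.erase l).filter (· < l)).card) *
      ((-1 : ℤ) ^ ((Jᶜ.erase l).filter (· < l)).card) = 1 := by
    rw [← pow_add, ← two_mul, pow_mul]; simp
  calc (-1 : ℤ) ^ ((Jᶜ.erase l).filter (· < l)).card *
        ((-1) ^ ((Jᶜ.erase l).filter (· < l)).card * (-1) ^ (J.filter (· < l)).card * sgn J)
      = ((-1 : ℤ) ^ ((Jᶜ.erase l).filter (· < l)).card *
          (-1) ^ ((Jᶜ.erase l).filter (· < l)).card) * ((-1) ^ (J.filter (· < l)).card * sgn J) := by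
        ring
    _ = sgn J * (-1) ^ (J.filter (· < l)).card := by rw [h2]; ring

end Signs

section Laplace

variable {Λ : Type*} [CommRing Λ]

/-- the sorted minor -/
noncomputable def minor {p : ℕ} (v : Fin p → Fin r → Λ) (J : Finset (Fin r)) : Λ :=
  if h : J.card = p then Matrix.det (Matrix.of fun a b => v a (J.orderEmbOfFin h b)) else 0

lemma minor_of_card {p : ℕ} (v : Fin p → Fin r → Λ) (J : Finset (Fin r)) (h : J.card = p) :
    minor v J = Matrix.det (Matrix.of fun a b => v a (J.orderEmbOfFin h b)) := dif_pos h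

lemma minor_congr {p : ℕ} (v v' : Fin p → Fin r → Λ) (J : Finset (Fin r))
    (h : ∀ a, ∀ l ∈ J, v a l = v' a l) : minor v J = minor v' J := by
  unfold minor
  split_ifs with hJ
  · congr 1
    ext a b
    exact h a _ (Finset.orderEmbOfFin_mem J hJ b)
  · rfl

/-- the determinant with `l` as first column and the sorted `J` afterwards -/
lemma det_cons {k : ℕ} (v : Fin (k + 1) → Fin r → Λ) (J : Finset (Fin r)) (hJ : J.card = k)
    (l : Fin r) :
    Matrix.det (Matrix.of fun a b => v a ((Fin.cons l (J.orderEmbOfFin hJ) : Fin (k + 1) → Fin r) b)) =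
      if l ∈ J then 0 else ((eps l J : ℤ) : Λ) * minor v (insert l J) := by
  split_ifs with hl
  · have : l ∈ Set.range (J.orderEmbOfFin hJ) := by
      rw [Finset.range_orderEmbOfFin]; exact hl
    obtain ⟨b₀, hb₀⟩ := this
    apply Matrix.det_zero_of_column_eq (i := 0) (j := b₀.succ) (Fin.succ_ne_zero b₀).symm
    intro a
    simp only [Matrix.of_apply, Fin.cons_zero, Fin.cons_succ, hb₀]
  · have h' : (insert l J).card = k + 1 := by rw [Finset.card_insert_of_notMem hl, hJ]
    rw [minor_of_card v _ h']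
    have h1 : (Matrix.of fun a b => v a ((Fin.cons l (J.orderEmbOfFin hJ) : Fin (k + 1) → Fin r) b)) =
        (Matrix.of fun a c => v a ((insert l J).orderEmbOfFin h' c)).submatrix id
          (Fin.cycleRange (pos J hJ l)).symm := by
      ext a b
      simp only [Matrix.submatrix_apply, Matrix.of_apply, id_eq]
      rw [orderEmbOfFin_insert J hJ l hl h' b]
    rw [h1, Matrix.det_permute', Equiv.Perm.sign_symm, Fin.sign_cycleRange]
    unfold eps
    simp [pos]

/-- the Laplace-type relation between the sorted minors of a matrix whose rows are killed by `x` -/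
theorem laplace {k : ℕ} (x : Fin r → Λ) (v : Fin (k + 1) → Fin r → Λ)
    (hv : ∀ a, ∑ l, x l * v a l = 0) (J : Finset (Fin r)) (hJ : J.card = k) :
    ∑ l : Fin r, (if l ∈ J then 0 else ((eps l J : ℤ) : Λ) * (x l * minor v (insert l J))) = 0 := by
  have h1 : ∀ l : Fin r, (if l ∈ J then 0 else ((eps l J : ℤ) : Λ) * (x l * minor v (insert l J))) =
      x l * Matrix.det (Matrix.of fun a b =>
        v a ((Fin.cons l (J.orderEmbOfFin hJ) : Fin (k + 1) → Fin r) b)) := by
    intro l
    rw [det_cons]
    split_ifs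
    · rw [mul_zero]
    · ring
  simp_rw [h1, Matrix.det_succ_column_zero]
  have h2 : ∀ (l : Fin r) (i : Fin (k + 1)),
      (-1 : Λ) ^ (i : ℕ) * (Matrix.of fun a b =>
        v a ((Fin.cons l (J.orderEmbOfFin hJ) : Fin (k + 1) → Fin r) b)) i 0 *
        ((Matrix.of fun a b => v a ((Fin.cons l (J.orderEmbOfFin hJ) : Fin (k + 1) → Fin r) b)).submatrix
          i.succAbove Fin.succ).det =
      (-1 : Λ) ^ (i : ℕ) * v i l *
        (Matrix.of fun (a : Fin k) (b : Fin k) => v (i.succAbove a) (J.orderEmbOfFin hJ b)).det := by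
    intro l i
    congr 1
  simp_rw [h2, Finset.mul_sum]
  rw [Finset.sum_comm]
  refine Finset.sum_eq_zero fun i _ => ?_
  have h3 : ∀ l : Fin r, x l * ((-1 : Λ) ^ (i : ℕ) * v i l *
      (Matrix.of fun (a : Fin k) (b : Fin k) => v (i.succAbove a) (J.orderEmbOfFin hJ b)).det) =
      (x l * v i l) * ((-1 : Λ) ^ (i : ℕ) *
      (Matrix.of fun (a : Fin k) (b : Fin k) => v (i.succAbove a) (J.orderEmbOfFin hJ b)).det) := by
    intro l; ring
  simp_rw [h3]
  rw [← Finset.sum_mul, hv, zero_mul]

/-- the minors of a `δ`-matrix -/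
theorem minor_delta {p : ℕ} (v : Fin p → Fin r → Λ) (J J' : Finset (Fin r)) (hJ : J.card = p)
    (hJ' : J'.card = p) (u : Λ)
    (hv : ∀ a, ∀ l ∈ J, v a l = if J'.orderEmbOfFin hJ' a = l then u else 0) :
    minor v J = if J = J' then u ^ p else 0 := by
  rw [minor_of_card v J hJ]
  split_ifs with h
  · subst h
    have h1 : (Matrix.of fun a b => v a (J.orderEmbOfFin hJ b)) =
        Matrix.diagonal (fun _ : Fin p => u) := by
      ext a b
      rw [Matrix.of_apply, hv a _ (Finset.orderEmbOfFin_mem J hJ b), Matrix.diagonal_apply]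
      simp only [EmbeddingLike.apply_eq_iff_eq]
    rw [h1, Matrix.det_diagonal, Finset.prod_const, Finset.card_univ, Fintype.card_fin]
  · have hsub : ¬ J ⊆ J' := fun hs =>
      h (Finset.eq_of_subset_of_card_le hs (by rw [hJ, hJ']))
    obtain ⟨a, haJ, haJ'⟩ := Finset.not_subset.1 hsub
    have : a ∈ Set.range (J.orderEmbOfFin hJ) := by
      rw [Finset.range_orderEmbOfFin]; exact haJ
    obtain ⟨b, rfl⟩ := this
    apply Matrix.det_eq_zero_of_column_eq_zero b
    intro a'
    rw [Matrix.of_apply, hv a' _ haJ, if_neg]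
    intro heq
    exact haJ' (heq ▸ Finset.orderEmbOfFin_mem J' hJ' a')

end Laplace

end Groth.Agent.Lib.R2H2.MinorAlg
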