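import Groth.Agent.Lib.R2H2ModFTA

/-!
# Modules on a ringed space: finite type / finite presentation in terms of sections
(helper2, round 2)

For a ringed space `(X, O)` (`O : TopCat.Sheaf CommRingCat X`) and `M : ModSite.Mod O`:
* `rs`, `rr`: restriction of sections to smaller opens;
* `exists_sieve_iff`: covering sieves of the site `Over U` versus open neighbourhoods;
* `Gen`, `RelGen`: local generation by finitely many sections / of the relations;
* `isFiniteType_iff`, `isFinitePresentation_iff`;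
* `epi_iff`, `epi_restr_iff`, `mono_iff`, `sec_ext`.
-/

set_option backward.isDefEq.respectTransparency.types false
set_option autoImplicit false
universe u
open CategoryTheory CategoryTheory.Limits Opposite TopologicalSpace

namespace Groth.Agent.Lib.R2H2.ModFTB

open Groth.Agent.Lib.R2H2.ModFTA

variable {X : TopCat.{u}} (O : TopCat.Sheaf CommRingCat.{u} X)

/-- the ring of sections over `U` -/
abbrev RO (U : Opens X) : RingCat.{u} := (ModSite.ringSh O).obj.obj (op U)

/-- restriction of sections of a module -/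
noncomputable def rs (M : ModSite.Mod O) {U V : Opens X} (h : V ≤ U) (t : M.val.obj (op U)) :
    M.val.obj (op V) := res M (homOfLE h) t

/-- restriction of sections of the structure sheaf -/
noncomputable def rr {U V : Opens X} (h : V ≤ U) : RO O U →+* RO O V :=
  rres (ModSite.ringSh O) (homOfLE h)

variable {O}

theorem rs_smul (M : ModSite.Mod O) {U V : Opens X} (h : V ≤ U) (r : RO O U)
    (t : M.val.obj (op U)) : rs O M h (r • t) = rr O h r • rs O M h t :=
  res_smul M _ r t

theorem rs_zero (M : ModSite.Mod O) {U V : Opens X} (h : V ≤ U) :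
    rs O M h (0 : M.val.obj (op U)) = 0 := res_zero M _

theorem rs_add (M : ModSite.Mod O) {U V : Opens X} (h : V ≤ U) (t t' : M.val.obj (op U)) :
    rs O M h (t + t') = rs O M h t + rs O M h t' := res_add M _ t t'

theorem rs_neg (M : ModSite.Mod O) {U V : Opens X} (h : V ≤ U) (t : M.val.obj (op U)) :
    rs O M h (-t) = -rs O M h t := res_neg M _ t

theorem rs_sub (M : ModSite.Mod O) {U V : Opens X} (h : V ≤ U) (t t' : M.val.obj (op U)) :
    rs O M h (t - t') = rs O M h t - rs O M h t' := res_sub M _ t t'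

theorem rs_sum (M : ModSite.Mod O) {U V : Opens X} (h : V ≤ U) {ι : Type*} (S : Finset ι)
    (t : ι → M.val.obj (op U)) : rs O M h (∑ i ∈ S, t i) = ∑ i ∈ S, rs O M h (t i) :=
  res_sum M _ S t

theorem rs_rs (M : ModSite.Mod O) {U V W : Opens X} (h : V ≤ U) (h' : W ≤ V)
    (t : M.val.obj (op U)) : rs O M h' (rs O M h t) = rs O M (h'.trans h) t :=
  res_res M _ _ t

theorem rs_self (M : ModSite.Mod O) {U : Opens X} (t : M.val.obj (op U)) :
    rs O M (le_refl U) t = t := res_id M t

theorem rr_rr {U V W : Opens X} (h : V ≤ U) (h' : W ≤ V) (r : RO O U) :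
    rr O h' (rr O h r) = rr O (h'.trans h) r := rres_rres _ _ r

theorem rr_self {U : Opens X} (r : RO O U) : rr O (le_refl U) r = r := rres_id r

theorem app_rs {M N : ModSite.Mod O} (p : M ⟶ N) {U V : Opens X} (h : V ≤ U)
    (t : M.val.obj (op U)) : p.val.app (op V) (rs O M h t) = rs O N h (p.val.app (op U) t) :=
  app_res p _ t

section OverSite

variable (U : Opens X)

/-- covering sieves of an object of the site `Over U` versus open neighbourhoods -/
theorem exists_sieve_iff (Y : Over U) (P : ∀ (W : Opens X), W ≤ Y.left → Prop)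
    (hP : ∀ (W : Opens X) (hW : W ≤ Y.left) (W' : Opens X) (hW' : W' ≤ W), P W hW →
      P W' (hW'.trans hW)) :
    (∃ S : Sieve Y, S ∈ ((Opens.grothendieckTopology X).over U) Y ∧
      ∀ ⦃Z : Over U⦄ (g : Z ⟶ Y), S g → P Z.left (leOfHom g.left)) ↔
    ∀ y : X, y ∈ Y.left → ∃ (W : Opens X) (hW : W ≤ Y.left), y ∈ W ∧ P W hW := by
  constructor
  · rintro ⟨S, hS, hS'⟩ y hy
    rw [GrothendieckTopology.mem_over_iff] at hS
    obtain ⟨W, f, hf, hyW⟩ := hS y hy
    rw [Sieve.overEquiv_iff] at hf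
    exact ⟨W, leOfHom f, hyW, hS' _ hf⟩
  · intro h
    let S₀ : Sieve Y.left :=
      { arrows := fun W f => P W (leOfHom f)
        downward_closed := fun {W W'} f hf g => hP W (leOfHom f) W' (leOfHom g) hf }
    have hS₀ : S₀ ∈ Opens.grothendieckTopology X Y.left := by
      intro y hy
      obtain ⟨W, hW, hyW, hPW⟩ := h y hy
      exact ⟨W, homOfLE hW, hPW, hyW⟩
    refine ⟨(Sieve.overEquiv Y).symm S₀,
      GrothendieckTopology.overEquiv_symm_mem_over _ Y S₀ hS₀, fun Z g hg => ?_⟩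
    exact hg

/-- the terminal object of `Over U` -/
abbrev ovT : Over U := Over.mk (𝟙 U)

/-- `ovT U` is terminal -/
noncomputable def ovT_isTerminal : IsTerminal (ovT U) := Over.mkIdTerminal

end OverSite

/-- local generation by finitely many sections over `U` -/
def Gen (M : ModSite.Mod O) (U : Opens X) {σ : Type u} [Fintype σ] (m : σ → M.val.obj (op U)) :
    Prop :=
  ∀ (V : Opens X) (hV : V ≤ U) (t : M.val.obj (op V)) (y : X), y ∈ V →
    ∃ (W : Opens X) (hW : W ≤ V), y ∈ W ∧ ∃ c : σ → RO O W,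
      ∑ j, c j • rs O M (hW.trans hV) (m j) = rs O M hW t

/-- local generation of the relations -/
def RelGen (M : ModSite.Mod O) (U : Opens X) {σ ι : Type u} [Fintype σ] [Fintype ι]
    (m : σ → M.val.obj (op U)) (r : ι → σ → RO O U) : Prop :=
  ∀ (V : Opens X) (hV : V ≤ U) (c : σ → RO O V), ∑ i, c i • rs O M hV (m i) = 0 →
    ∀ y : X, y ∈ V → ∃ (W : Opens X) (hW : W ≤ V), y ∈ W ∧ ∃ a : ι → RO O W,
      ∀ i, rr O hW (c i) = ∑ l, a l * rr O (hW.trans hV) (r l i)

theorem genS_iff_gen (M : ModSite.Mod O) (U : Opens X) {σ : Type u} [Fintype σ]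
    (m : σ → M.val.obj (op U)) :
    GenS (ovT_isTerminal U) ((ModSite.restr O U).obj M) m ↔ Gen M U m := by
  constructor
  · intro h V hV t y hy
    let Y : Over U := Over.mk (homOfLE hV)
    have h1 := h Y t
    have h2 := (exists_sieve_iff U Y
      (fun W hW => ∃ c : σ → RO O W,
        ∑ j, c j • rs O M (hW.trans hV) (m j) = rs O M hW t) ?_).1 ?_ y hy
    · exact h2
    · intro W hW W' hW' ⟨c, hc⟩
      refine ⟨fun j => rr O hW' (c j), ?_⟩
      have := congrArg (rs O M hW') hc
      rw [rs_sum, rs_rs] at this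
      rw [← this]
      refine Finset.sum_congr rfl (fun j _ => ?_)
      rw [rs_smul, rs_rs]
    · obtain ⟨S, hS, hS'⟩ := h1
      exact ⟨S, hS, fun Z g hg => hS' g hg⟩
  · intro h Y t
    have h2 := (exists_sieve_iff U Y
      (fun W hW => ∃ c : σ → RO O W,
        ∑ j, c j • rs O M (hW.trans (leOfHom Y.hom)) (m j) = rs O M hW t) ?_).2 ?_
    · obtain ⟨S, hS, hS'⟩ := h2
      exact ⟨S, hS, fun Z g hg => hS' g hg⟩
    · intro W hW W' hW' ⟨c, hc⟩
      refine ⟨fun j => rr O hW' (c j), ?_⟩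
      have := congrArg (rs O M hW') hc
      rw [rs_sum, rs_rs] at this
      rw [← this]
      refine Finset.sum_congr rfl (fun j _ => ?_)
      rw [rs_smul, rs_rs]
    · intro y hy
      exact h Y.left (leOfHom Y.hom) t y hy

theorem relGenS_iff_relGen (M : ModSite.Mod O) (U : Opens X) {σ ι : Type u} [Fintype σ] [Fintype ι]
    (m : σ → M.val.obj (op U)) (r : ι → σ → RO O U) :
    RelGenS (ovT_isTerminal U) ((ModSite.restr O U).obj M) m r ↔ RelGen M U m r := by
  constructor
  · intro h V hV c hc y hy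
    let Y : Over U := Over.mk (homOfLE hV)
    have h1 := h Y c hc
    have h2 := (exists_sieve_iff U Y
      (fun W hW => ∃ a : ι → RO O W,
        ∀ i, rr O hW (c i) = ∑ l, a l * rr O (hW.trans hV) (r l i)) ?_).1 ?_ y hy
    · exact h2
    · intro W hW W' hW' ⟨a, ha⟩
      refine ⟨fun l => rr O hW' (a l), fun i => ?_⟩
      have := congrArg (rr O hW') (ha i)
      rw [rr_rr, map_sum] at this
      rw [this]
      refine Finset.sum_congr rfl (fun l _ => ?_)
      rw [map_mul, rr_rr]
    · obtain ⟨S, hS, hS'⟩ := h1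
      exact ⟨S, hS, fun Z g hg => hS' g hg⟩
  · intro h Y c hc
    have h2 := (exists_sieve_iff U Y
      (fun W hW => ∃ a : ι → RO O W,
        ∀ i, rr O hW (c i) = ∑ l, a l * rr O (hW.trans (leOfHom Y.hom)) (r l i)) ?_).2 ?_
    · obtain ⟨S, hS, hS'⟩ := h2
      exact ⟨S, hS, fun Z g hg => hS' g hg⟩
    · intro W hW W' hW' ⟨a, ha⟩
      refine ⟨fun l => rr O hW' (a l), fun i => ?_⟩
      have := congrArg (rr O hW') (ha i)
      rw [rr_rr, map_sum] at this
      rw [this]
      refine Finset.sum_congr rfl (fun l _ => ?_)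
      rw [map_mul, rr_rr]
    · intro y hy
      exact h Y.left (leOfHom Y.hom) c hc y hy

theorem isFiniteType_iff (M : ModSite.Mod O) :
    SheafOfModules.IsFiniteType (R := ModSite.ringSh O) M ↔
      ∀ x : X, ∃ U : Opens X, x ∈ U ∧ ∃ (σ : Type u) (_ : Fintype σ)
        (m : σ → M.val.obj (op U)), Gen M U m := by
  constructor
  · rintro ⟨D, hD⟩ x
    have h1 := D.coversTop ⊤ x (Set.mem_univ x)
    obtain ⟨V, f, hf, hxV⟩ := h1
    obtain ⟨i, ⟨g⟩⟩ := (Sieve.mem_ofObjects_iff ..).mp hf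
    refine ⟨D.X i, leOfHom g hxV, ?_⟩
    haveI := hD.isFiniteType i
    obtain ⟨σ, hσ, m, hm⟩ := exists_gen_of_generatingSections (ovT_isTerminal (D.X i))
      (M.over (D.X i)) (D.generators i)
    exact ⟨σ, hσ, m, (genS_iff_gen M (D.X i) m).1 hm⟩
  · intro h
    choose Ux hxU σ hσ m hm using h
    have hG : ∀ x : X, ∃ G : (M.over (Ux x)).GeneratingSections, G.IsFiniteType := fun x =>
      exists_generatingSections (ovT_isTerminal (Ux x)) (M.over (Ux x)) (m x)
        ((genS_iff_gen M (Ux x) (m x)).2 (hm x))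
    have hcov : (Opens.grothendieckTopology X).CoversTop Ux := by
      intro W y hy
      refine ⟨W ⊓ Ux y, homOfLE inf_le_left, ?_, ⟨hy, hxU y⟩⟩
      exact (Sieve.mem_ofObjects_iff ..).mpr ⟨y, ⟨homOfLE inf_le_right⟩⟩
    let D : SheafOfModules.LocalGeneratorsData.{u} (R := ModSite.ringSh O) M :=
      SheafOfModules.LocalGeneratorsData.mk.{u, u, u, u} (M := M) X Ux hcov
        (fun x => (hG x).choose)
    have hD : D.IsFiniteType :=
      SheafOfModules.LocalGeneratorsData.IsFiniteType.mk.{u, u, u, u} (p := D)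
        (fun x => (hG x).choose_spec)
    constructor
    exact Exists.intro D hD

theorem isFinitePresentation_iff (M : ModSite.Mod O) :
    SheafOfModules.IsFinitePresentation (R := ModSite.ringSh O) M ↔
      ∀ x : X, ∃ U : Opens X, x ∈ U ∧ ∃ (σ ι : Type u) (_ : Fintype σ) (_ : Fintype ι)
        (m : σ → M.val.obj (op U)) (r : ι → σ → RO O U),
        Gen M U m ∧ (∀ l, ∑ i, r l i • m i = 0) ∧ RelGen M U m r := by
  constructor
  · rintro ⟨D, hD⟩ x
    have h1 := D.coversTop ⊤ x (Set.mem_univ x)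
    obtain ⟨V, f, hf, hxV⟩ := h1
    obtain ⟨i, ⟨g⟩⟩ := (Sieve.mem_ofObjects_iff ..).mp hf
    refine ⟨D.X i, leOfHom g hxV, ?_⟩
    haveI := hD.isFinite_presentation i
    obtain ⟨σ, ι, hσ, hι, m, r, hm, hr, hrel⟩ :=
      exists_data_of_presentation (ovT_isTerminal (D.X i)) (M.over (D.X i)) (D.presentation i)
    exact ⟨σ, ι, hσ, hι, m, r, (genS_iff_gen M (D.X i) m).1 hm, hr,
      (relGenS_iff_relGen M (D.X i) m r).1 hrel⟩
  · intro h
    choose Ux hxU σ ι hσ hι m r hm hr hrel using h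
    have hG : ∀ x : X, ∃ P : (M.over (Ux x)).Presentation, P.IsFinite := fun x =>
      exists_presentation (ovT_isTerminal (Ux x)) (M.over (Ux x)) (m x) (r x)
        ((genS_iff_gen M (Ux x) (m x)).2 (hm x)) (hr x)
        ((relGenS_iff_relGen M (Ux x) (m x) (r x)).2 (hrel x))
    have hcov : (Opens.grothendieckTopology X).CoversTop Ux := by
      intro W y hy
      refine ⟨W ⊓ Ux y, homOfLE inf_le_left, ?_, ⟨hy, hxU y⟩⟩
      exact (Sieve.mem_ofObjects_iff ..).mpr ⟨y, ⟨homOfLE inf_le_right⟩⟩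
    let D : SheafOfModules.QuasicoherentData.{u} (R := ModSite.ringSh O) M :=
      SheafOfModules.QuasicoherentData.mk.{u, u, u, u} (M := M) X Ux hcov
        (fun x => (hG x).choose)
    have hD : D.IsFinitePresentation :=
      SheafOfModules.QuasicoherentData.IsFinitePresentation.mk.{u, u, u, u} (q := D)
        (fun x => (hG x).choose_spec)
    constructor
    exact Exists.intro D hD

/-- covering sieves of an open versus open neighbourhoods -/
theorem exists_sieve_iff_top (V : Opens X) (P : ∀ (W : Opens X), W ≤ V → Prop)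
    (hP : ∀ (W : Opens X) (hW : W ≤ V) (W' : Opens X) (hW' : W' ≤ W), P W hW →
      P W' (hW'.trans hW)) :
    (∃ S : Sieve V, S ∈ Opens.grothendieckTopology X V ∧
      ∀ ⦃W : Opens X⦄ (g : W ⟶ V), S g → P W (leOfHom g)) ↔
    ∀ y : X, y ∈ V → ∃ (W : Opens X) (hW : W ≤ V), y ∈ W ∧ P W hW := by
  constructor
  · rintro ⟨S, hS, hS'⟩ y hy
    obtain ⟨W, f, hf, hyW⟩ := hS y hy
    exact ⟨W, leOfHom f, hyW, hS' _ hf⟩
  · intro h
    let S₀ : Sieve V :=
      { arrows := fun W f => P W (leOfHom f)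
        downward_closed := fun {W W'} f hf g => hP W (leOfHom f) W' (leOfHom g) hf }
    have hS₀ : S₀ ∈ Opens.grothendieckTopology X V := by
      intro y hy
      obtain ⟨W, hW, hyW, hPW⟩ := h y hy
      exact ⟨W, homOfLE hW, hPW, hyW⟩
    exact ⟨S₀, hS₀, fun W g hg => hg⟩

/-- local surjectivity over `U` -/
def LocSurj {M N : ModSite.Mod O} (φ : M ⟶ N) (U : Opens X) : Prop :=
  ∀ (V : Opens X) (_ : V ≤ U) (t : N.val.obj (op V)) (y : X), y ∈ V →
    ∃ (W : Opens X) (hW : W ≤ V), y ∈ W ∧ ∃ s : M.val.obj (op W),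
      φ.val.app (op W) s = rs O N hW t

theorem LocSurj.mono {M N : ModSite.Mod O} {φ : M ⟶ N} {U U' : Opens X} (h : LocSurj φ U)
    (hU : U' ≤ U) : LocSurj φ U' :=
  fun V hV t y hy => h V (hV.trans hU) t y hy

theorem locSurj_aux {M N : ModSite.Mod O} (φ : M ⟶ N) {V : Opens X} (t : N.val.obj (op V))
    (W : Opens X) (hW : W ≤ V) (W' : Opens X) (hW' : W' ≤ W)
    (h : ∃ s : M.val.obj (op W), φ.val.app (op W) s = rs O N hW t) :
    ∃ s : M.val.obj (op W'), φ.val.app (op W') s = rs O N (hW'.trans hW) t := by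
  obtain ⟨s, hs⟩ := h
  exact ⟨rs O M hW' s, by rw [app_rs, hs, rs_rs]⟩

theorem epi_iff {M N : ModSite.Mod O} (φ : M ⟶ N) : Epi φ ↔ LocSurj φ ⊤ := by
  constructor
  · intro h V _ t y hy
    have h1 := locSurj_of_epi φ V t
    exact (exists_sieve_iff_top V
      (fun W hW => ∃ s : M.val.obj (op W), φ.val.app (op W) s = rs O N hW t)
      (locSurj_aux φ t)).1 (by
        obtain ⟨S, hS, hS'⟩ := h1
        exact ⟨S, hS, fun W g hg => hS' g hg⟩) y hy
  · intro h
    apply epi_of_locSurj
    intro V t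
    obtain ⟨S, hS, hS'⟩ := (exists_sieve_iff_top V
      (fun W hW => ∃ s : M.val.obj (op W), φ.val.app (op W) s = rs O N hW t)
      (locSurj_aux φ t)).2 (fun y hy => h V le_top t y hy)
    exact ⟨S, hS, fun W g hg => hS' g hg⟩

theorem epi_restr_iff {M N : ModSite.Mod O} (φ : M ⟶ N) (U : Opens X) :
    Epi ((ModSite.restr O U).map φ) ↔ LocSurj φ U := by
  constructor
  · intro h V hV t y hy
    let Y : Over U := Over.mk (homOfLE hV)
    have h1 := locSurj_of_epi ((ModSite.restr O U).map φ) Y t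
    exact (exists_sieve_iff U Y
      (fun W hW => ∃ s : M.val.obj (op W), φ.val.app (op W) s = rs O N hW t)
      (locSurj_aux φ t)).1 (by
        obtain ⟨S, hS, hS'⟩ := h1
        exact ⟨S, hS, fun Z g hg => hS' g hg⟩) y hy
  · intro h
    apply epi_of_locSurj
    intro Y t
    obtain ⟨S, hS, hS'⟩ := (exists_sieve_iff U Y
      (fun W hW => ∃ s : M.val.obj (op W), φ.val.app (op W) s = rs O N hW t)
      (locSurj_aux φ t)).2 (fun y hy => h Y.left (leOfHom Y.hom) t y hy)
    exact ⟨S, hS, fun Z g hg => hS' g hg⟩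

theorem locSurj_of_epi_top {M N : ModSite.Mod O} (φ : M ⟶ N) [Epi φ] (U : Opens X) :
    LocSurj φ U :=
  ((epi_iff φ).1 inferInstance).mono le_top

theorem mono_iff {M N : ModSite.Mod O} (φ : M ⟶ N) :
    Mono φ ↔ ∀ V : Opens X, Function.Injective (φ.val.app (op V)) :=
  ⟨fun _ V => injective_of_mono φ V, fun h => mono_of_injective φ h⟩

/-- sections which agree locally are equal -/
theorem sec_ext (M : ModSite.Mod O) {V : Opens X} (t t' : M.val.obj (op V))
    (h : ∀ y : X, y ∈ V → ∃ (W : Opens X) (hW : W ≤ V), y ∈ W ∧ rs O M hW t = rs O M hW t') :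
    t = t' := by
  choose W hW hyW heq using h
  let F : TopCat.Sheaf AddCommGrpCat.{u} X := ModSite.toAb M
  exact TopCat.Sheaf.eq_of_locally_eq' F (fun y : V => W y.1 y.2) V
    (fun y => homOfLE (hW y.1 y.2)) (fun y hy => Opens.mem_iSup.2 ⟨⟨y, hy⟩, hyW y hy⟩) t t'
    (fun y => heq y.1 y.2)

/-- sections of the structure sheaf which agree locally are equal -/
theorem ring_ext {V : Opens X} (t t' : RO O V)
    (h : ∀ y : X, y ∈ V → ∃ (W : Opens X) (hW : W ≤ V), y ∈ W ∧ rr O hW t = rr O hW t') :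
    t = t' :=
  sec_ext (ModSite.unit O) t t' h

theorem exact_iff (S : ShortComplex (ModSite.Mod O)) :
    S.Exact ↔ ∀ (V : Opens X) (b : S.X₂.val.obj (op V)), S.g.val.app (op V) b = 0 →
      ∀ y : X, y ∈ V → ∃ (W : Opens X) (hW : W ≤ V), y ∈ W ∧ ∃ a : S.X₁.val.obj (op W),
        S.f.val.app (op W) a = rs O S.X₂ hW b := by
  rw [exact_iff_locally]
  have aux : ∀ (V : Opens X) (b : S.X₂.val.obj (op V)) (W : Opens X) (hW : W ≤ V)
      (W' : Opens X) (hW' : W' ≤ W),
      (∃ a : S.X₁.val.obj (op W), S.f.val.app (op W) a = rs O S.X₂ hW b) →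
      ∃ a : S.X₁.val.obj (op W'), S.f.val.app (op W') a = rs O S.X₂ (hW'.trans hW) b := by
    rintro V b W hW W' hW' ⟨a, ha⟩
    exact ⟨rs O S.X₁ hW' a, by rw [app_rs, ha, rs_rs]⟩
  constructor
  · intro h V b hb y hy
    obtain ⟨Sv, hSv, hS'⟩ := h V b hb
    exact (exists_sieve_iff_top V
      (fun W hW => ∃ a : S.X₁.val.obj (op W), S.f.val.app (op W) a = rs O S.X₂ hW b)
      (aux V b)).1 ⟨Sv, hSv, fun W g hg => hS' g hg⟩ y hy
  · intro h V b hb
    obtain ⟨Sv, hSv, hS'⟩ := (exists_sieve_iff_top V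
      (fun W hW => ∃ a : S.X₁.val.obj (op W), S.f.val.app (op W) a = rs O S.X₂ hW b)
      (aux V b)).2 (h V b hb)
    exact ⟨Sv, hSv, fun W g hg => hS' g hg⟩

/-- linear independence over all smaller opens -/
def Indep (M : ModSite.Mod O) (U : Opens X) {σ : Type u} [Fintype σ]
    (m : σ → M.val.obj (op U)) : Prop :=
  ∀ (V : Opens X) (hV : V ≤ U) (c : σ → RO O V), ∑ j, c j • rs O M hV (m j) = 0 → c = 0

theorem nonempty_iso_free_iff (M : ModSite.Mod O) (U : Opens X) (σ : Type u) [Fintype σ] :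
    Nonempty ((ModSite.restr O U).obj M ≅ SheafOfModules.free σ) ↔
      ∃ m : σ → M.val.obj (op U), Gen M U m ∧ Indep M U m := by
  constructor
  · rintro ⟨e⟩
    let m : σ → M.val.obj (op U) := fun i => e.inv.val.app (op (ovT U)) (bas i (ovT U))
    have he : e.inv = genHom (ovT_isTerminal U) ((ModSite.restr O U).obj M) m :=
      eq_genHom (ovT_isTerminal U) _ e.inv
    haveI : Epi (genHom (ovT_isTerminal U) ((ModSite.restr O U).obj M) m) := by
      rw [← he]; infer_instance
    haveI : Mono (genHom (ovT_isTerminal U) ((ModSite.restr O U).obj M) m) := by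
      rw [← he]; infer_instance
    refine ⟨m, (genS_iff_gen M U m).1 ((epi_genHom_iff (ovT_isTerminal U) ((ModSite.restr O U).obj M) m).1 inferInstance), ?_⟩
    intro V hV c hc
    exact (mono_genHom_iff (ovT_isTerminal U) ((ModSite.restr O U).obj M) m).1 inferInstance
      (Over.mk (homOfLE hV)) c hc
  · rintro ⟨m, hgen, hind⟩
    haveI : Epi (genHom (ovT_isTerminal U) ((ModSite.restr O U).obj M) m) :=
      (epi_genHom_iff (ovT_isTerminal U) ((ModSite.restr O U).obj M) m).2 ((genS_iff_gen M U m).2 hgen)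
    haveI : Mono (genHom (ovT_isTerminal U) ((ModSite.restr O U).obj M) m) :=
      (mono_genHom_iff (ovT_isTerminal U) ((ModSite.restr O U).obj M) m).2
        (fun Y c hc => hind Y.left (leOfHom Y.hom) c hc)
    haveI : IsIso (genHom (ovT_isTerminal U) ((ModSite.restr O U).obj M) m) :=
      isIso_of_mono_of_epi _
    exact ⟨(asIso (genHom (ovT_isTerminal U) ((ModSite.restr O U).obj M) m)).symm⟩

/-- finitely many open neighbourhoods of a point have a common smaller one -/
theorem exists_common_nbhd {σ : Type*} [Finite σ] (x : X) (W : σ → Opens X)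
    (h : ∀ j, x ∈ W j) : ∃ U : Opens X, x ∈ U ∧ ∀ j, U ≤ W j := by
  refine ⟨⟨⋂ j, (W j : Set X), isOpen_iInter_of_finite (fun j => (W j).2)⟩, ?_, ?_⟩
  · exact Set.mem_iInter.2 h
  · intro j y hy
    exact Set.mem_iInter.1 hy j

theorem Gen.mono {M : ModSite.Mod O} {U : Opens X} {σ : Type u} [Fintype σ]
    {m : σ → M.val.obj (op U)} (h : Gen M U m) {U' : Opens X} (hU : U' ≤ U) :
    Gen M U' (fun j => rs O M hU (m j)) := by
  intro V hV t y hy
  obtain ⟨W, hW, hyW, c, hc⟩ := h V (hV.trans hU) t y hy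
  refine ⟨W, hW, hyW, c, ?_⟩
  rw [← hc]
  refine Finset.sum_congr rfl (fun j _ => ?_)
  rw [rs_rs]

theorem RelGen.mono {M : ModSite.Mod O} {U : Opens X} {σ ι : Type u} [Fintype σ] [Fintype ι]
    {m : σ → M.val.obj (op U)} {r : ι → σ → RO O U} (h : RelGen M U m r) {U' : Opens X}
    (hU : U' ≤ U) :
    RelGen M U' (fun j => rs O M hU (m j)) (fun l i => rr O hU (r l i)) := by
  intro V hV c hc y hy
  have hc' : ∑ i, c i • rs O M (hV.trans hU) (m i) = 0 := by
    rw [← hc]
    refine Finset.sum_congr rfl (fun j _ => ?_)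
    rw [rs_rs]
  obtain ⟨W, hW, hyW, a, ha⟩ := h V (hV.trans hU) c hc' y hy
  refine ⟨W, hW, hyW, a, fun i => ?_⟩
  rw [ha i]
  refine Finset.sum_congr rfl (fun l _ => ?_)
  rw [rr_rr]

theorem Indep.mono {M : ModSite.Mod O} {U : Opens X} {σ : Type u} [Fintype σ]
    {m : σ → M.val.obj (op U)} (h : Indep M U m) {U' : Opens X} (hU : U' ≤ U) :
    Indep M U' (fun j => rs O M hU (m j)) := by
  intro V hV c hc
  apply h V (hV.trans hU) c
  rw [← hc]
  refine Finset.sum_congr rfl (fun j _ => ?_)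
  rw [rs_rs]

section Algebra

variable {R M : Type*} [Ring R] [AddCommGroup M] [Module R M]

theorem comb_swap {τ σ : Type*} [Fintype τ] [Fintype σ] (c : τ → R) (A : τ → σ → R)
    (S : σ → M) : ∑ j, c j • ∑ i, A j i • S i = ∑ i, (∑ j, c j * A j i) • S i := by
  simp only [Finset.smul_sum, smul_smul, Finset.sum_smul]
  exact Finset.sum_comm

theorem comb_lemma {τ σ ι : Type*} [Fintype τ] [Fintype σ] [Fintype ι] (G : τ → M) (S : σ → M)
    (c : τ → R) (A : τ → σ → R) (e : ι → R) (Rm : ι → σ → R)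
    (h : ∀ i, ∑ j, c j * A j i = ∑ l, e l * Rm l i) :
    ∑ j, c j • (G j - ∑ i, A j i • S i) + ∑ l, e l • ∑ i, Rm l i • S i = ∑ j, c j • G j := by
  simp only [smul_sub, Finset.sum_sub_distrib]
  rw [comb_swap, comb_swap]
  simp only [h]
  exact sub_add_cancel _ _

end Algebra

end Groth.Agent.Lib.R2H2.ModFTB
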