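import Groth.Agent.Lib.R2H2ModFTB

/-!
# Finite type / finite presentation modules on ringed spaces: extensions, kernels, cokernels
(helper2, round 2)
-/

set_option backward.isDefEq.respectTransparency.types false
set_option autoImplicit false
universe u
open CategoryTheory CategoryTheory.Limits Opposite TopologicalSpace

namespace Groth.Agent.Lib.R2H2.ModFTC

open Groth.Agent.Lib.R2H2.ModFTA Groth.Agent.Lib.R2H2.ModFTB

variable {X : TopCat.{u}} (O : TopCat.Sheaf CommRingCat.{u} X)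

/-- extensions of finite type modules are of finite type -/
theorem isFiniteType_of_shortExact
    (S : ShortComplex (ModSite.Mod O)) (hS : S.ShortExact)
    [SheafOfModules.IsFiniteType (R := ModSite.ringSh O) S.X₁]
    [SheafOfModules.IsFiniteType (R := ModSite.ringSh O) S.X₃] :
    SheafOfModules.IsFiniteType (R := ModSite.ringSh O) S.X₂ := by
  classical
  rw [isFiniteType_iff]
  intro x
  obtain ⟨U₁, hx₁, σ₁, hσ₁, a, ha⟩ := (isFiniteType_iff S.X₁).1 inferInstance x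
  obtain ⟨U₃, hx₃, σ₃, hσ₃, b, hb⟩ := (isFiniteType_iff S.X₃).1 inferInstance x
  haveI := hS.epi_g
  have hg : LocSurj S.g ⊤ := (epi_iff S.g).1 inferInstance
  have hlift : ∀ j : σ₃, ∃ (W : Opens X) (hW : W ≤ U₃), x ∈ W ∧ ∃ s : S.X₂.val.obj (op W),
      S.g.val.app (op W) s = rs O S.X₃ hW (b j) := fun j => hg U₃ le_top (b j) x hx₃
  choose W hW hxW bt hbt using hlift
  obtain ⟨U₀, hxU₀, hU₀⟩ := exists_common_nbhd x W hxW
  let U : Opens X := U₁ ⊓ U₃ ⊓ U₀
  have hU1 : U ≤ U₁ := inf_le_left.trans inf_le_left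
  have hU3 : U ≤ U₃ := inf_le_left.trans inf_le_right
  have hUW : ∀ j, U ≤ W j := fun j => inf_le_right.trans (hU₀ j)
  refine ⟨U, ⟨⟨hx₁, hx₃⟩, hxU₀⟩, σ₁ ⊕ σ₃, inferInstance,
    Sum.elim (fun i => S.f.val.app (op U) (rs O S.X₁ hU1 (a i)))
      (fun j => rs O S.X₂ (hUW j) (bt j)), ?_⟩
  intro V hV t y hy
  obtain ⟨W₁, hW₁, hyW₁, c, hc⟩ := hb V (hV.trans hU3) (S.g.val.app (op V) t) y hy
  have hzero : S.g.val.app (op W₁) (rs O S.X₂ hW₁ t -
      ∑ j, c j • rs O S.X₂ (hW₁.trans (hV.trans (hUW j))) (bt j)) = 0 := by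
    rw [map_sub, map_sum, app_rs, ← hc, sub_eq_zero]
    refine Finset.sum_congr rfl (fun j _ => ?_)
    rw [map_smul, app_rs, hbt, rs_rs]
  obtain ⟨W₂, hW₂, hyW₂, a', ha'⟩ :=
    (exact_iff S).1 hS.exact W₁ _ hzero y hyW₁
  obtain ⟨W₃, hW₃, hyW₃, d, hd⟩ := ha W₂ (hW₂.trans (hW₁.trans (hV.trans hU1))) a' y hyW₂
  refine ⟨W₃, hW₃.trans (hW₂.trans hW₁), hyW₃,
    Sum.elim d (fun j => rr O (hW₃.trans hW₂) (c j)), ?_⟩
  rw [Fintype.sum_sum_type]
  simp only [Sum.elim_inl, Sum.elim_inr]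
  have e1 := congrArg (S.f.val.app (op W₃)) hd
  rw [map_sum, app_rs, ha', rs_rs, rs_sub, rs_rs, rs_sum] at e1
  have e2 : ∑ i, d i • rs O S.X₂ ((hW₃.trans (hW₂.trans hW₁)).trans hV)
      (S.f.val.app (op U) (rs O S.X₁ hU1 (a i))) =
      ∑ i, S.f.val.app (op W₃) (d i • rs O S.X₁
        (hW₃.trans (hW₂.trans (hW₁.trans (hV.trans hU1)))) (a i)) := by
    refine Finset.sum_congr rfl (fun i _ => ?_)
    rw [map_smul, ← app_rs, rs_rs]
  rw [e2, e1]
  have e3 : ∑ j, rr O (hW₃.trans hW₂) (c j) • rs O S.X₂ ((hW₃.trans (hW₂.trans hW₁)).trans hV)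
      (rs O S.X₂ (hUW j) (bt j)) =
      ∑ j, rs O S.X₂ (hW₃.trans hW₂) (c j • rs O S.X₂ (hW₁.trans (hV.trans (hUW j))) (bt j)) := by
    refine Finset.sum_congr rfl (fun j _ => ?_)
    rw [rs_smul, rs_rs, rs_rs]
  rw [e3, sub_add_cancel]

/-- the kernel of an epimorphism from a finite type module onto a finitely presented module is
of finite type -/
theorem isFiniteType_kernel {G F : ModSite.Mod O} (θ : G ⟶ F) [Epi θ]
    [SheafOfModules.IsFiniteType (R := ModSite.ringSh O) G]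
    [SheafOfModules.IsFinitePresentation (R := ModSite.ringSh O) F] :
    SheafOfModules.IsFiniteType (R := ModSite.ringSh O) (kernel θ) := by
  classical
  rw [isFiniteType_iff]
  intro x
  obtain ⟨UF, hxF, σ, ι, hσ, hι, s, r, hs, hr, hrel⟩ :=
    (isFinitePresentation_iff F).1 inferInstance x
  obtain ⟨UG, hxG, τ, hτ, g, hg⟩ := (isFiniteType_iff G).1 inferInstance x
  have hθ : LocSurj θ ⊤ := (epi_iff θ).1 inferInstance
  have hlift : ∀ i : σ, ∃ (W : Opens X) (hW : W ≤ UF), x ∈ W ∧ ∃ st : G.val.obj (op W),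
      θ.val.app (op W) st = rs O F hW (s i) := fun i => hθ UF le_top (s i) x hxF
  choose W hW hxW st hst using hlift
  have hcoef : ∀ j : τ, ∃ (W' : Opens X) (hW' : W' ≤ UF ⊓ UG), x ∈ W' ∧ ∃ A : σ → RO O W',
      ∑ i, A i • rs O F (hW'.trans inf_le_left) (s i) =
        rs O F hW' (rs O F inf_le_right (θ.val.app (op UG) (g j))) :=
    fun j => hs (UF ⊓ UG) inf_le_left _ x ⟨hxF, hxG⟩
  choose W' hW' hxW' A hA using hcoef
  obtain ⟨U₁, hxU₁, hU₁⟩ := exists_common_nbhd x W hxW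
  obtain ⟨U₂, hxU₂, hU₂⟩ := exists_common_nbhd x W' hxW'
  let U : Opens X := U₁ ⊓ U₂ ⊓ (UF ⊓ UG)
  have hUF : U ≤ UF := inf_le_right.trans inf_le_left
  have hUG : U ≤ UG := inf_le_right.trans inf_le_right
  have hUW : ∀ i, U ≤ W i := fun i => (inf_le_left.trans inf_le_left).trans (hU₁ i)
  have hUW' : ∀ j, U ≤ W' j := fun j => (inf_le_left.trans inf_le_right).trans (hU₂ j)
  let s' : σ → F.val.obj (op U) := fun i => rs O F hUF (s i)
  let g' : τ → G.val.obj (op U) := fun j => rs O G hUG (g j)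
  let st' : σ → G.val.obj (op U) := fun i => rs O G (hUW i) (st i)
  let A' : τ → σ → RO O U := fun j i => rr O (hUW' j) (A j i)
  let r' : ι → σ → RO O U := fun l i => rr O hUF (r l i)
  have P1 : ∀ i, θ.val.app (op U) (st' i) = s' i := by
    intro i
    simp only [st', s']
    rw [app_rs, hst, rs_rs]
  have P2 : ∀ j, θ.val.app (op U) (g' j) = ∑ i, A' j i • s' i := by
    intro j
    have := congrArg (rs O F (hUW' j)) (hA j)
    rw [rs_sum, rs_rs, rs_rs] at this
    simp only [g', A', s']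
    rw [app_rs, ← this]
    refine Finset.sum_congr rfl (fun i _ => ?_)
    rw [rs_smul, rs_rs]
  have P3 : ∀ l, ∑ i, r' l i • s' i = 0 := by
    intro l
    have := congrArg (rs O F hUF) (hr l)
    rw [rs_sum, rs_zero] at this
    rw [← this]
    refine Finset.sum_congr rfl (fun i _ => ?_)
    rw [rs_smul]
  have P4 : Gen G U g' := hg.mono hUG
  have P5 : RelGen F U s' r' := hrel.mono hUF
  let k₁ : τ → G.val.obj (op U) := fun j => g' j - ∑ i, A' j i • st' i
  let k₂ : ι → G.val.obj (op U) := fun l => ∑ i, r' l i • st' i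
  have hk₁ : ∀ j, θ.val.app (op U) (k₁ j) = 0 := by
    intro j
    simp only [k₁]
    rw [map_sub, map_sum, P2, sub_eq_zero]
    refine Finset.sum_congr rfl (fun i _ => ?_)
    rw [map_smul, P1]
  have hk₂ : ∀ l, θ.val.app (op U) (k₂ l) = 0 := by
    intro l
    simp only [k₂]
    rw [map_sum, ← P3 l]
    refine Finset.sum_congr rfl (fun i _ => ?_)
    rw [map_smul, P1]
  choose κ₁ hκ₁ using fun j => (kernel_sections θ U).2 (k₁ j) (hk₁ j)
  choose κ₂ hκ₂ using fun l => (kernel_sections θ U).2 (k₂ l) (hk₂ l)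
  refine ⟨U, ⟨⟨hxU₁, hxU₂⟩, ⟨hxF, hxG⟩⟩, τ ⊕ ι, inferInstance, Sum.elim κ₁ κ₂, ?_⟩
  intro V hV t y hy
  obtain ⟨W₁, hW₁, hyW₁, c, hc⟩ := P4 V hV ((kernel.ι θ).val.app (op V) t) y hy
  have h2 : ∑ i, (∑ j, c j * rr O (hW₁.trans hV) (A' j i)) • rs O F (hW₁.trans hV) (s' i) = 0 := by
    rw [← comb_swap]
    have e1 := congrArg (θ.val.app (op W₁)) hc
    rw [app_rs, kernel_ι_app_zero, rs_zero, map_sum] at e1
    rw [← e1]
    refine Finset.sum_congr rfl (fun j _ => ?_)
    rw [map_smul, app_rs, P2, rs_sum]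
    congr 1
    refine Finset.sum_congr rfl (fun i _ => ?_)
    rw [rs_smul]
  obtain ⟨W₂, hW₂, hyW₂, e, he⟩ := P5 W₁ (hW₁.trans hV) _ h2 y hyW₁
  refine ⟨W₂, hW₂.trans hW₁, hyW₂, Sum.elim (fun j => rr O hW₂ (c j)) e, ?_⟩
  apply (kernel_sections θ W₂).1
  rw [Fintype.sum_sum_type]
  simp only [Sum.elim_inl, Sum.elim_inr]
  have hWU : W₂ ≤ U := (hW₂.trans hW₁).trans hV
  have e3 : ∀ j, (kernel.ι θ).val.app (op W₂)
      (rr O hW₂ (c j) • rs O (kernel θ) hWU (κ₁ j)) =
      rr O hW₂ (c j) • (rs O G hWU (g' j) - ∑ i, rr O hWU (A' j i) • rs O G hWU (st' i)) := by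
    intro j
    rw [map_smul, app_rs, hκ₁]
    simp only [k₁]
    rw [rs_sub, rs_sum]
    congr 2
    refine Finset.sum_congr rfl (fun i _ => ?_)
    rw [rs_smul]
  have e4 : ∀ l, (kernel.ι θ).val.app (op W₂) (e l • rs O (kernel θ) hWU (κ₂ l)) =
      e l • ∑ i, rr O hWU (r' l i) • rs O G hWU (st' i) := by
    intro l
    rw [map_smul, app_rs, hκ₂]
    simp only [k₂]
    rw [rs_sum]
    congr 1
    refine Finset.sum_congr rfl (fun i _ => ?_)
    rw [rs_smul]
  rw [map_add, map_sum, map_sum]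
  simp only [e3, e4]
  rw [comb_lemma]
  · rw [app_rs, ← rs_rs G hW₁ hW₂, ← hc, rs_sum]
    refine Finset.sum_congr rfl (fun j _ => ?_)
    rw [rs_smul, rs_rs G (hW₁.trans hV) hW₂ (g' j)]
  · intro i
    rw [← he i, map_sum]
    refine Finset.sum_congr rfl (fun j _ => ?_)
    rw [map_mul, rr_rr (hW₁.trans hV) hW₂ (A' j i)]

/-- the cokernel of a map from a finite type module to a finitely presented module is
finitely presented -/
theorem isFinitePresentation_cokernel {G F : ModSite.Mod O} (φ : G ⟶ F)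
    [SheafOfModules.IsFiniteType (R := ModSite.ringSh O) G]
    [SheafOfModules.IsFinitePresentation (R := ModSite.ringSh O) F] :
    SheafOfModules.IsFinitePresentation (R := ModSite.ringSh O) (cokernel φ) := by
  classical
  rw [isFinitePresentation_iff]
  intro x
  obtain ⟨UF, hxF, σ, ι, hσ, hι, s, r, hs, hr, hrel⟩ :=
    (isFinitePresentation_iff F).1 inferInstance x
  obtain ⟨UG, hxG, τ, hτ, g, hg⟩ := (isFiniteType_iff G).1 inferInstance x
  have hcoef : ∀ j : τ, ∃ (W' : Opens X) (hW' : W' ≤ UF ⊓ UG), x ∈ W' ∧ ∃ A : σ → RO O W',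
      ∑ i, A i • rs O F (hW'.trans inf_le_left) (s i) =
        rs O F hW' (rs O F inf_le_right (φ.val.app (op UG) (g j))) :=
    fun j => hs (UF ⊓ UG) inf_le_left _ x ⟨hxF, hxG⟩
  choose W' hW' hxW' A hA using hcoef
  obtain ⟨U₂, hxU₂, hU₂⟩ := exists_common_nbhd x W' hxW'
  let U : Opens X := U₂ ⊓ (UF ⊓ UG)
  have hUF : U ≤ UF := inf_le_right.trans inf_le_left
  have hUG : U ≤ UG := inf_le_right.trans inf_le_right
  have hUW' : ∀ j, U ≤ W' j := fun j => inf_le_left.trans (hU₂ j)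
  let s' : σ → F.val.obj (op U) := fun i => rs O F hUF (s i)
  let g' : τ → G.val.obj (op U) := fun j => rs O G hUG (g j)
  let A' : τ → σ → RO O U := fun j i => rr O (hUW' j) (A j i)
  let r' : ι → σ → RO O U := fun l i => rr O hUF (r l i)
  have P2 : ∀ j, φ.val.app (op U) (g' j) = ∑ i, A' j i • s' i := by
    intro j
    have := congrArg (rs O F (hUW' j)) (hA j)
    rw [rs_sum, rs_rs, rs_rs] at this
    simp only [g', A', s']
    rw [app_rs, ← this]
    refine Finset.sum_congr rfl (fun i _ => ?_)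
    rw [rs_smul, rs_rs]
  have P3 : ∀ l, ∑ i, r' l i • s' i = 0 := by
    intro l
    have := congrArg (rs O F hUF) (hr l)
    rw [rs_sum, rs_zero] at this
    rw [← this]
    refine Finset.sum_congr rfl (fun i _ => ?_)
    rw [rs_smul]
  have P4 : Gen G U g' := hg.mono hUG
  have P5 : RelGen F U s' r' := hrel.mono hUF
  have P6 : Gen F U s' := hs.mono hUF
  let π : F ⟶ cokernel φ := cokernel.π φ
  have hπ : LocSurj π ⊤ := (epi_iff π).1 inferInstance
  have hφπ : ∀ (V : Opens X) (b : G.val.obj (op V)),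
      π.val.app (op V) (φ.val.app (op V) b) = 0 := by
    intro V b
    have h2 : φ ≫ π = 0 := cokernel.condition φ
    exact congrArg (fun q => q.val.app (op V) b) h2
  have hex : (ShortComplex.mk φ π (cokernel.condition φ)).Exact :=
    ShortComplex.exact_of_g_is_cokernel _ (cokernelIsCokernel φ)
  refine ⟨U, ⟨hxU₂, ⟨hxF, hxG⟩⟩, σ, ι ⊕ τ, inferInstance, inferInstance,
    fun i => π.val.app (op U) (s' i), Sum.elim r' A', ?_, ?_, ?_⟩
  · -- generation
    intro V hV t y hy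
    obtain ⟨W₁, hW₁, hyW₁, f, hf⟩ := hπ V le_top t y hy
    obtain ⟨W₂, hW₂, hyW₂, c, hc⟩ := P6 W₁ (hW₁.trans hV) f y hyW₁
    refine ⟨W₂, hW₂.trans hW₁, hyW₂, c, ?_⟩
    rw [← rs_rs (cokernel φ) hW₁ hW₂, ← hf, ← app_rs, ← hc, map_sum]
    refine Finset.sum_congr rfl (fun i _ => ?_)
    rw [map_smul, app_rs]
  · -- the relations hold
    rintro (l | j)
    · simp only [Sum.elim_inl]
      have := congrArg (π.val.app (op U)) (P3 l)
      rw [map_sum, map_zero] at this
      rw [← this]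
      refine Finset.sum_congr rfl (fun i _ => ?_)
      rw [map_smul]
    · simp only [Sum.elim_inr]
      have := congrArg (π.val.app (op U)) (P2 j)
      rw [hφπ, map_sum] at this
      rw [this]
      refine Finset.sum_congr rfl (fun i _ => ?_)
      rw [map_smul]
  · -- the relations generate
    intro V hV c hc y hy
    have h1 : π.val.app (op V) (∑ i, c i • rs O F hV (s' i)) = 0 := by
      rw [map_sum, ← hc]
      refine Finset.sum_congr rfl (fun i _ => ?_)
      rw [map_smul, app_rs]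
    obtain ⟨W₁, hW₁, hyW₁, b, hb⟩ := (exact_iff _).1 hex V _ h1 y hy
    obtain ⟨W₂, hW₂, hyW₂, d, hd⟩ := P4 W₁ (hW₁.trans hV) b y hyW₁
    have hWU : W₂ ≤ U := (hW₂.trans hW₁).trans hV
    have h2 : ∑ i, (rr O (hW₂.trans hW₁) (c i) - ∑ j, d j * rr O hWU (A' j i)) •
        rs O F hWU (s' i) = 0 := by
      simp only [sub_smul, Finset.sum_sub_distrib]
      rw [← comb_swap, sub_eq_zero]
      have e1 := congrArg (φ.val.app (op W₂)) hd
      have hb' : φ.val.app (op W₁) b = rs O F hW₁ (∑ i, c i • rs O F hV (s' i)) := hb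
      rw [app_rs, hb', rs_rs, rs_sum, map_sum] at e1
      have e2 : ∑ i, rr O (hW₂.trans hW₁) (c i) • rs O F hWU (s' i) =
          ∑ i, rs O F (hW₂.trans hW₁) (c i • rs O F hV (s' i)) := by
        refine Finset.sum_congr rfl (fun i _ => ?_)
        rw [rs_smul, rs_rs F hV (hW₂.trans hW₁) (s' i)]
      rw [e2, ← e1]
      refine Finset.sum_congr rfl (fun j _ => ?_)
      rw [map_smul, app_rs, P2, rs_sum]
      congr 1
      refine Finset.sum_congr rfl (fun i _ => ?_)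
      rw [rs_smul]
    obtain ⟨W₃, hW₃, hyW₃, e, he⟩ := P5 W₂ hWU _ h2 y hyW₂
    refine ⟨W₃, hW₃.trans (hW₂.trans hW₁), hyW₃, Sum.elim e (fun j => rr O hW₃ (d j)), fun i => ?_⟩
    rw [Fintype.sum_sum_type]
    simp only [Sum.elim_inl, Sum.elim_inr]
    have h3 := he i
    rw [map_sub, rr_rr, sub_eq_iff_eq_add] at h3
    rw [h3, map_sum]
    congr 1
    refine Finset.sum_congr rfl (fun j _ => ?_)
    rw [map_mul, rr_rr hWU hW₃ (A' j i)]

end Groth.Agent.Lib.R2H2.ModFTC
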