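import Groth.Agent.Lib.R2H2ModFTB
import Groth.Prelude.Def_ModSite2

/-!
# Stalks of modules on a ringed space at the point of the site of opens given by a point
(helper2, round 2)

`gm`, `gr`: germs of sections of a module / of the structure sheaf at `x`, with values in
`ModSite.stalkAb (Opens.pointGrothendieckTopology x) M` / `ModSite.stalkRing _ O`;
`gm_surj`, `gm_eq_iff`, `gm_rs`, `gm_smul`, `stalkMap_gm`, ...
-/

set_option backward.isDefEq.respectTransparency.types false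
set_option autoImplicit false
universe u
open CategoryTheory CategoryTheory.Limits Opposite TopologicalSpace

namespace Groth.Agent.Lib.R2H2.ModFTD

open Groth.Agent.Lib.R2H2.ModFTA Groth.Agent.Lib.R2H2.ModFTB

variable {X : TopCat.{u}} {O : TopCat.Sheaf CommRingCat.{u} X} (x : X)

/-- the point of the site of opens given by `x` -/
abbrev pt : GrothendieckTopology.Point.{u} (Opens.grothendieckTopology X) :=
  Opens.pointGrothendieckTopology x

/-- germ of a section of a module at `x` -/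
noncomputable def gm (M : ModSite.Mod O) {U : Opens X} (hx : x ∈ U) (s : M.val.obj (op U)) :
    ModSite.stalkAb (pt x) M :=
  ModSite.germ (pt x) M U ⟨⟨hx⟩⟩ s

/-- germ of a section of the structure sheaf at `x` -/
noncomputable def gr {U : Opens X} (hx : x ∈ U) (r : RO O U) : ModSite.stalkRing (pt x) O :=
  ModSite.germRing (pt x) U ⟨⟨hx⟩⟩ r

variable {x}

theorem gm_rs (M : ModSite.Mod O) {U W : Opens X} (hW : W ≤ U) (hxW : x ∈ W)
    (s : M.val.obj (op U)) : gm x M hxW (rs O M hW s) = gm x M (hW hxW) s :=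
  (pt x).toPresheafFiber_w_apply (homOfLE hW) ⟨⟨hxW⟩⟩ (ModSite.toAb M).obj s

theorem gr_rr {U W : Opens X} (hW : W ≤ U) (hxW : x ∈ W) (r : RO O U) :
    gr x hxW (rr O hW r) = gr x (hW hxW) r :=
  (pt x).toPresheafFiber_w_apply (homOfLE hW) ⟨⟨hxW⟩⟩ O.obj r

theorem gm_surj (M : ModSite.Mod O) (z : ModSite.stalkAb (pt x) M) :
    ∃ (U : Opens X) (hx : x ∈ U) (s : M.val.obj (op U)), gm x M hx s = z := by
  obtain ⟨U, ⟨⟨hx⟩⟩, s, hs⟩ :=
    (pt x).toPresheafFiber_jointly_surjective (P := (ModSite.toAb M).obj) z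
  exact ⟨U, hx, s, hs⟩

theorem gr_surj (z : ModSite.stalkRing (pt x) O) :
    ∃ (U : Opens X) (hx : x ∈ U) (r : RO O U), gr x hx r = z := by
  obtain ⟨U, ⟨⟨hx⟩⟩, s, hs⟩ :=
    (pt x).toPresheafFiber_jointly_surjective (P := O.obj) z
  exact ⟨U, hx, s, hs⟩

theorem gm_eq_iff (M : ModSite.Mod O) {U : Opens X} (hx : x ∈ U) (s s' : M.val.obj (op U)) :
    gm x M hx s = gm x M hx s' ↔
      ∃ (W : Opens X) (hW : W ≤ U), x ∈ W ∧ rs O M hW s = rs O M hW s' := by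
  constructor
  · intro h
    obtain ⟨W, f, ⟨⟨hxW⟩⟩, -, hf⟩ :=
      ((pt x).toPresheafFiber_eq_iff' (P := (ModSite.toAb M).obj) U ⟨⟨hx⟩⟩ s s').1 h
    exact ⟨W, leOfHom f, hxW, hf⟩
  · rintro ⟨W, hW, hxW, h⟩
    rw [← gm_rs M hW hxW s, ← gm_rs M hW hxW s', h]

theorem gr_eq_iff {U : Opens X} (hx : x ∈ U) (r r' : RO O U) :
    gr x hx r = gr x hx r' ↔
      ∃ (W : Opens X) (hW : W ≤ U), x ∈ W ∧ rr O hW r = rr O hW r' := by
  constructor
  · intro h
    obtain ⟨W, f, ⟨⟨hxW⟩⟩, -, hf⟩ :=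
      ((pt x).toPresheafFiber_eq_iff' (P := O.obj) U ⟨⟨hx⟩⟩ r r').1 h
    exact ⟨W, leOfHom f, hxW, hf⟩
  · rintro ⟨W, hW, hxW, h⟩
    rw [← gr_rr hW hxW r, ← gr_rr hW hxW r', h]

theorem gm_eq_iff' (M : ModSite.Mod O) {U V : Opens X} (hxU : x ∈ U) (hxV : x ∈ V)
    (s : M.val.obj (op U)) (s' : M.val.obj (op V)) :
    gm x M hxU s = gm x M hxV s' ↔
      ∃ (W : Opens X) (hWU : W ≤ U) (hWV : W ≤ V), x ∈ W ∧ rs O M hWU s = rs O M hWV s' := by
  have hUV : x ∈ U ⊓ V := ⟨hxU, hxV⟩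
  rw [← gm_rs M (inf_le_left : U ⊓ V ≤ U) hUV s, ← gm_rs M (inf_le_right : U ⊓ V ≤ V) hUV s',
    gm_eq_iff]
  constructor
  · rintro ⟨W, hW, hxW, h⟩
    rw [rs_rs, rs_rs] at h
    exact ⟨W, hW.trans inf_le_left, hW.trans inf_le_right, hxW, h⟩
  · rintro ⟨W, hWU, hWV, hxW, h⟩
    refine ⟨W, le_inf hWU hWV, hxW, ?_⟩
    rw [rs_rs, rs_rs]
    exact h

theorem gm_smul (M : ModSite.Mod O) {U : Opens X} (hx : x ∈ U) (r : RO O U)
    (s : M.val.obj (op U)) : gm x M hx (r • s) = gr x hx r • gm x M hx s :=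
  ModSite.germ_smul (pt x) M U ⟨⟨hx⟩⟩ r s

theorem gm_add (M : ModSite.Mod O) {U : Opens X} (hx : x ∈ U) (s s' : M.val.obj (op U)) :
    gm x M hx (s + s') = gm x M hx s + gm x M hx s' :=
  map_add ((pt x).toPresheafFiber U ⟨⟨hx⟩⟩ (ModSite.toAb M).obj).hom s s'

theorem gm_zero (M : ModSite.Mod O) {U : Opens X} (hx : x ∈ U) :
    gm x M hx (0 : M.val.obj (op U)) = 0 :=
  map_zero ((pt x).toPresheafFiber U ⟨⟨hx⟩⟩ (ModSite.toAb M).obj).hom

theorem gm_sum (M : ModSite.Mod O) {U : Opens X} (hx : x ∈ U) {ι : Type*} (S : Finset ι)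
    (s : ι → M.val.obj (op U)) : gm x M hx (∑ i ∈ S, s i) = ∑ i ∈ S, gm x M hx (s i) :=
  map_sum ((pt x).toPresheafFiber U ⟨⟨hx⟩⟩ (ModSite.toAb M).obj).hom s S

/-- germs of functions, as a ring homomorphism -/
noncomputable def grHom {U : Opens X} (hx : x ∈ U) : RO O U →+* ModSite.stalkRing (pt x) O :=
  ((pt x).toPresheafFiber U ⟨⟨hx⟩⟩ O.obj).hom

theorem grHom_apply {U : Opens X} (hx : x ∈ U) (r : RO O U) : grHom hx r = gr x hx r := rfl

theorem stalkMap_gm {M N : ModSite.Mod O} (φ : M ⟶ N) {U : Opens X} (hx : x ∈ U)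
    (s : M.val.obj (op U)) :
    (ModSite.stalkMap (pt x) φ).hom (gm x M hx s) = gm x N hx (φ.val.app (op U) s) :=
  (pt x).toPresheafFiber_naturality_apply
    ((SheafOfModules.toSheaf (ModSite.ringSh O)).map φ).hom U ⟨⟨hx⟩⟩ s

end Groth.Agent.Lib.R2H2.ModFTD
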