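import Groth.Agent.Lib.R2H2ModFTC
import Groth.Agent.Lib.R2H2ModFTD

/-!
# Finite type modules on ringed spaces and stalks (helper2, round 2)

* `exists_epi_restr_of_stalk_surjective` (S6831): a map to a finite type module which is
  surjective on the stalk at `x` is surjective on a neighbourhood of `x`.
-/

set_option backward.isDefEq.respectTransparency.types false
set_option autoImplicit false
universe u
open CategoryTheory CategoryTheory.Limits Opposite TopologicalSpace

namespace Groth.Agent.Lib.R2H2.ModFTE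

open Groth.Agent.Lib.R2H2.ModFTA Groth.Agent.Lib.R2H2.ModFTB Groth.Agent.Lib.R2H2.ModFTD

variable {X : TopCat.{u}} (O : TopCat.Sheaf CommRingCat.{u} X)

theorem exists_epi_restr_of_stalk_surjective {G F : ModSite.Mod O} (φ : G ⟶ F)
    [SheafOfModules.IsFiniteType (R := ModSite.ringSh O) F] (x : X)
    (hx : Function.Surjective (ModSite.stalkMap (Opens.pointGrothendieckTopology x) φ).hom) :
    ∃ U : Opens X, x ∈ U ∧ Epi ((ModSite.restr O U).map φ) := by
  classical
  obtain ⟨U, hxU, σ, hσ, s, hs⟩ := (isFiniteType_iff F).1 inferInstance x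
  have h1 : ∀ i : σ, ∃ (W : Opens X) (hW : W ≤ U), x ∈ W ∧ ∃ g : G.val.obj (op W),
      φ.val.app (op W) g = rs O F hW (s i) := by
    intro i
    obtain ⟨z, hz⟩ := hx (gm x F hxU (s i))
    obtain ⟨V, hxV, g, rfl⟩ := gm_surj G z
    rw [stalkMap_gm] at hz
    obtain ⟨W, hWV, hWU, hxW, h⟩ := (gm_eq_iff' F hxV hxU _ _).1 hz
    exact ⟨W, hWU, hxW, rs O G hWV g, by rw [app_rs, h]⟩
  choose W hW hxW g hg using h1
  obtain ⟨U', hxU', hU'⟩ := exists_common_nbhd x W hxW
  refine ⟨U' ⊓ U, ⟨hxU', hxU⟩, (epi_restr_iff φ (U' ⊓ U)).2 ?_⟩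
  intro V hV t y hy
  have hVU : V ≤ U := hV.trans inf_le_right
  have hVW : ∀ i, V ≤ W i := fun i => (hV.trans inf_le_left).trans (hU' i)
  obtain ⟨W₁, hW₁, hyW₁, c, hc⟩ := hs V hVU t y hy
  refine ⟨W₁, hW₁, hyW₁, ∑ i, c i • rs O G (hW₁.trans (hVW i)) (g i), ?_⟩
  rw [map_sum, ← hc]
  refine Finset.sum_congr rfl (fun i _ => ?_)
  rw [map_smul, app_rs, hg, rs_rs]

section Algebra

theorem right_inv_of_left_inv {R : Type*} [CommRing R] {n : Type*} [Fintype n] [DecidableEq n]
    (a b : n → n → R) (hba : ∀ j k, ∑ i, b j i * a i k = if j = k then 1 else 0) :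
    ∀ i k, ∑ j, a i j * b j k = if i = k then 1 else 0 := by
  have h : (Matrix.of b) * (Matrix.of a) = 1 := by
    ext j k
    rw [Matrix.mul_apply, Matrix.one_apply]
    exact hba j k
  have h' := mul_eq_one_comm.1 h
  intro i k
  have := congrFun (congrFun h' i) k
  rw [Matrix.mul_apply, Matrix.one_apply] at this
  exact this

theorem vec_zero {R S : Type*} [Ring R] [Ring S] (f : R →+* S) {n : Type*} [Fintype n]
    [DecidableEq n] (a b : n → n → R)
    (hab : ∀ i k, ∑ j, a i j * b j k = if i = k then 1 else 0)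
    (c : n → S) (hc : ∀ j, ∑ i, c i * f (a i j) = 0) : c = 0 := by
  funext k
  have h1 : c k = ∑ i, c i * f (∑ j, a i j * b j k) := by
    simp only [hab]
    rw [Finset.sum_eq_single k]
    · rw [if_pos rfl, map_one, mul_one]
    · intro i _ hi
      rw [if_neg hi, map_zero, mul_zero]
    · intro h
      exact absurd (Finset.mem_univ k) h
  rw [h1]
  simp only [map_sum, map_mul, Finset.mul_sum, ← mul_assoc]
  rw [Finset.sum_comm]
  simp only [← Finset.sum_mul, hc, zero_mul, Finset.sum_const_zero, Pi.zero_apply]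

end Algebra

theorem Indep.eq_of_sum_eq {M : ModSite.Mod O} {U : Opens X} {σ : Type u} [Fintype σ]
    {m : σ → M.val.obj (op U)} (h : Indep M U m) (V : Opens X) (hV : V ≤ U) (c c' : σ → RO O V)
    (hc : ∑ j, c j • rs O M hV (m j) = ∑ j, c' j • rs O M hV (m j)) : c = c' := by
  have h1 : ∑ j, (c j - c' j) • rs O M hV (m j) = 0 := by
    simp only [sub_smul, Finset.sum_sub_distrib]
    rw [hc, sub_self]
  have h2 := h V hV (fun j => c j - c' j) h1
  funext j
  have := congrFun h2 j
  exact sub_eq_zero.1 this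

/-- a surjective map between finite locally free modules of the same rank is an isomorphism -/
theorem isIso_iff_epi_of_locallyFree (r : ℕ) {F G : ModSite.Mod O}
    (hF : ∀ x : X, ∃ U : Opens X, x ∈ U ∧
      Nonempty ((ModSite.restr O U).obj F ≅ SheafOfModules.free (ULift.{u} (Fin r))))
    (hG : ∀ x : X, ∃ U : Opens X, x ∈ U ∧
      Nonempty ((ModSite.restr O U).obj G ≅ SheafOfModules.free (ULift.{u} (Fin r))))
    (φ : F ⟶ G) : IsIso φ ↔ Epi φ := by
  classical
  constructor
  · intro h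
    infer_instance
  · intro hφ
    haveI : Mono φ := by
      rw [mono_iff]
      intro V
      apply (injective_iff_map_eq_zero (φ.val.app (op V)).hom).2
      intro m hm
      have hm' : φ.val.app (op V) m = 0 := hm
      apply sec_ext F m 0
      intro y hy
      obtain ⟨UF, hyF, ⟨eF⟩⟩ := hF y
      obtain ⟨UG, hyG, ⟨eG⟩⟩ := hG y
      obtain ⟨s, hsgen, hsind⟩ := (nonempty_iso_free_iff F UF (ULift.{u} (Fin r))).1 ⟨eF⟩
      obtain ⟨t, htgen, htind⟩ := (nonempty_iso_free_iff G UG (ULift.{u} (Fin r))).1 ⟨eG⟩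
      obtain ⟨σ, hσ⟩ : ∃ σ : Type u, σ = ULift.{u} (Fin r) := ⟨_, rfl⟩
      subst hσ
      obtain ⟨U₀, hU₀⟩ : ∃ U₀ : Opens X, U₀ = UF ⊓ UG ⊓ V := ⟨_, rfl⟩
      have hy₀ : y ∈ U₀ := by rw [hU₀]; exact ⟨⟨hyF, hyG⟩, hy⟩
      have h0F : U₀ ≤ UF := by rw [hU₀]; exact inf_le_left.trans inf_le_left
      have h0G : U₀ ≤ UG := by rw [hU₀]; exact inf_le_left.trans inf_le_right
      have h0V : U₀ ≤ V := by rw [hU₀]; exact inf_le_right
      obtain ⟨s0, hs0gen⟩ : ∃ s0 : ULift.{u} (Fin r) → F.val.obj (op U₀), Gen F U₀ s0 :=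
        ⟨_, hsgen.mono h0F⟩
      obtain ⟨t0, ht0gen, ht0ind⟩ : ∃ t0 : ULift.{u} (Fin r) → G.val.obj (op U₀),
          Gen G U₀ t0 ∧ Indep G U₀ t0 := ⟨_, htgen.mono h0G, htind.mono h0G⟩
      have ha : ∀ i : ULift.{u} (Fin r), ∃ (W : Opens X) (hW : W ≤ U₀), y ∈ W ∧
          ∃ a : ULift.{u} (Fin r) → RO O W,
          ∑ j, a j • rs O G hW (t0 j) = rs O G hW (φ.val.app (op U₀) (s0 i)) :=
        fun i => ht0gen U₀ le_rfl _ y hy₀
      choose Wa hWa hyWa a haeq using ha
      have hφ' : LocSurj φ ⊤ := (epi_iff φ).1 hφ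
      have hb : ∀ j : ULift.{u} (Fin r), ∃ (W : Opens X) (hW : W ≤ U₀), y ∈ W ∧
          ∃ b : ULift.{u} (Fin r) → RO O W,
          ∑ i, b i • rs O G hW (φ.val.app (op U₀) (s0 i)) = rs O G hW (t0 j) := by
        intro j
        obtain ⟨W₁, hW₁, hyW₁, f, hf⟩ := hφ' U₀ le_top (t0 j) y hy₀
        obtain ⟨W₂, hW₂, hyW₂, b, hb⟩ := hs0gen W₁ hW₁ f y hyW₁
        refine ⟨W₂, hW₂.trans hW₁, hyW₂, b, ?_⟩
        rw [← rs_rs G hW₁ hW₂, ← hf, ← app_rs, ← hb, map_sum]
        refine Finset.sum_congr rfl (fun i _ => ?_)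
        rw [map_smul, app_rs]
      choose Wb hWb hyWb b hbeq using hb
      obtain ⟨U₁, hyU₁, hU₁⟩ := exists_common_nbhd y Wa hyWa
      obtain ⟨U₂, hyU₂, hU₂⟩ := exists_common_nbhd y Wb hyWb
      obtain ⟨U, hU⟩ : ∃ U : Opens X, U = U₁ ⊓ U₂ ⊓ U₀ := ⟨_, rfl⟩
      have hyU : y ∈ U := by rw [hU]; exact ⟨⟨hyU₁, hyU₂⟩, hy₀⟩
      have hU0 : U ≤ U₀ := by rw [hU]; exact inf_le_right
      have hUa : ∀ i, U ≤ Wa i := fun i => by
        rw [hU]; exact (inf_le_left.trans inf_le_left).trans (hU₁ i)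
      have hUb : ∀ j, U ≤ Wb j := fun j => by
        rw [hU]; exact (inf_le_left.trans inf_le_right).trans (hU₂ j)
      obtain ⟨s', t', a', b', Q1, Q2, ht'ind, hs'gen⟩ :
          ∃ (s' : ULift.{u} (Fin r) → F.val.obj (op U)) (t' : ULift.{u} (Fin r) → G.val.obj (op U))
            (a' b' : ULift.{u} (Fin r) → ULift.{u} (Fin r) → RO O U),
            (∀ i, φ.val.app (op U) (s' i) = ∑ j, a' i j • t' j) ∧
            (∀ j, ∑ i, b' j i • φ.val.app (op U) (s' i) = t' j) ∧ Indep G U t' ∧ Gen F U s' := by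
        refine ⟨fun i => rs O F hU0 (s0 i), fun j => rs O G hU0 (t0 j),
          fun i j => rr O (hUa i) (a i j), fun j i => rr O (hUb j) (b j i), ?_, ?_,
          ht0ind.mono hU0, hs0gen.mono hU0⟩
        · intro i
          have := congrArg (rs O G (hUa i)) (haeq i)
          rw [rs_sum, rs_rs] at this
          dsimp only
          rw [app_rs, ← this]
          refine Finset.sum_congr rfl (fun j _ => ?_)
          rw [rs_smul, rs_rs]
        · intro j
          have := congrArg (rs O G (hUb j)) (hbeq j)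
          rw [rs_sum, rs_rs] at this
          dsimp only
          rw [← this]
          refine Finset.sum_congr rfl (fun i _ => ?_)
          rw [rs_smul, rs_rs, app_rs]
      have hba : ∀ j k, ∑ i, b' j i * a' i k = if j = k then 1 else 0 := by
        intro j
        have h1 : ∑ k, (∑ i, b' j i * a' i k) • rs O G le_rfl (t' k) =
            ∑ k, (if j = k then (1 : RO O U) else 0) • rs O G le_rfl (t' k) := by
          have hR : ∑ k, (if j = k then (1 : RO O U) else 0) • t' k = t' j := by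
            rw [Finset.sum_eq_single j]
            · rw [if_pos rfl, one_smul]
            · intro k _ hk
              rw [if_neg (Ne.symm hk), zero_smul]
            · intro h
              exact absurd (Finset.mem_univ j) h
          rw [← comb_swap]
          simp only [rs_self]
          rw [hR, ← Q2 j]
          refine Finset.sum_congr rfl (fun i _ => ?_)
          rw [Q1]
        exact congrFun (Indep.eq_of_sum_eq O ht'ind U le_rfl _ _ h1)
      have hab := right_inv_of_left_inv (R := O.obj.obj (op U)) a' b' hba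
      obtain ⟨W₁, hW₁, hyW₁, c, hc⟩ := hs'gen U le_rfl (rs O F (hU0.trans h0V) m) y hyU
      refine ⟨W₁, hW₁.trans (hU0.trans h0V), hyW₁, ?_⟩
      rw [rs_zero]
      have hc0 : c = 0 := by
        apply vec_zero (rr O hW₁) a' b' hab c
        have h3 : ∑ j, (∑ i, c i * rr O hW₁ (a' i j)) • rs O G hW₁ (t' j) = 0 := by
          rw [← comb_swap]
          have e1 := congrArg (φ.val.app (op W₁)) hc
          rw [app_rs, app_rs, hm', rs_zero, rs_zero, map_sum] at e1
          rw [← e1]
          refine Finset.sum_congr rfl (fun i _ => ?_)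
          rw [map_smul, app_rs, Q1, rs_sum]
          congr 1
          refine Finset.sum_congr rfl (fun j _ => ?_)
          rw [rs_smul]
        exact fun j => congrFun (ht'ind W₁ hW₁ _ h3) j
      rw [← rs_rs F (hU0.trans h0V) hW₁, ← hc, hc0]
      simp
    exact isIso_of_mono_of_epi φ

end Groth.Agent.Lib.R2H2.ModFTE
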