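import Groth.Agent.Lib.R2H2ModFTE

/-!
# Finitely presented modules with a free stalk are free near the point (helper2, round 2)

* `exists_basis_nbhd`: for a finitely presented module `F` on a ringed space and a finite family
  of germs at `x` which is a basis of the stalk, there are sections on a neighbourhood of `x` with
  these germs which form a basis of `F` there.
* `exists_iso_free_of_stalk_free` (S6848).
-/

set_option backward.isDefEq.respectTransparency.types false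
set_option autoImplicit false
universe u
open CategoryTheory CategoryTheory.Limits Opposite TopologicalSpace

namespace Groth.Agent.Lib.R2H2.ModFTF

open Groth.Agent.Lib.R2H2.ModFTA Groth.Agent.Lib.R2H2.ModFTB Groth.Agent.Lib.R2H2.ModFTD
  Groth.Agent.Lib.R2H2.ModFTE

variable {X : TopCat.{u}} (O : TopCat.Sheaf CommRingCat.{u} X)

section Algebra

theorem coef_zero {R S : Type*} [Ring R] [Ring S] (f : R →+* S) {τ σ ι : Type*} [Fintype τ]
    [Fintype σ] [Fintype ι] [DecidableEq τ] (c : τ → S) (B : τ → σ → R) (A : σ → τ → R)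
    (Rm : ι → σ → R) (e : ι → S)
    (hBA : ∀ k k', f (∑ j, B k j * A j k') = if k = k' then 1 else 0)
    (hRA : ∀ l k, f (∑ j, Rm l j * A j k) = 0)
    (hcB : ∀ j, ∑ k, c k * f (B k j) = ∑ l, e l * f (Rm l j)) : c = 0 := by
  funext k'
  have h1 : c k' = ∑ k, c k * f (∑ j, B k j * A j k') := by
    simp only [hBA]
    rw [Finset.sum_eq_single k']
    · rw [if_pos rfl, mul_one]
    · intro k _ hk
      rw [if_neg hk, mul_zero]
    · intro h
      exact absurd (Finset.mem_univ k') h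
  have h2 : ∑ k, c k * f (∑ j, B k j * A j k') = ∑ j, (∑ k, c k * f (B k j)) * f (A j k') := by
    simp only [map_sum, map_mul, Finset.mul_sum, Finset.sum_mul, ← mul_assoc]
    exact Finset.sum_comm
  have h3 : ∑ j, (∑ l, e l * f (Rm l j)) * f (A j k') = ∑ l, e l * f (∑ j, Rm l j * A j k') := by
    simp only [map_sum, map_mul, Finset.mul_sum, Finset.sum_mul, ← mul_assoc]
    exact Finset.sum_comm
  rw [h1, h2]
  simp only [hcB]
  rw [h3]
  simp only [hRA, mul_zero, Finset.sum_const_zero, Pi.zero_apply]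

end Algebra

variable {O}

theorem exists_rr_eq_of_gr_eq {x : X} {U : Opens X} (hx : x ∈ U) (r r' : RO O U)
    (h : gr x hx r = gr x hx r') : ∃ (W : Opens X) (hW : W ≤ U), x ∈ W ∧ rr O hW r = rr O hW r' :=
  (gr_eq_iff hx r r').1 h

theorem gr_sum {x : X} {U : Opens X} (hx : x ∈ U) {ι : Type*} (S : Finset ι) (r : ι → RO O U) :
    gr x hx (∑ i ∈ S, r i) = ∑ i ∈ S, gr x hx (r i) :=
  map_sum (grHom (O := O) hx) r S

theorem gr_one {x : X} {U : Opens X} (hx : x ∈ U) : gr x hx (1 : RO O U) = 1 :=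
  map_one (grHom (O := O) hx)

theorem gr_zero {x : X} {U : Opens X} (hx : x ∈ U) : gr x hx (0 : RO O U) = 0 :=
  map_zero (grHom (O := O) hx)

/-- germ of a linear combination -/
theorem gm_comb {x : X} (F : ModSite.Mod O) {U : Opens X} (hx : x ∈ U) {τ : Type*} [Fintype τ]
    (c : τ → RO O U) (s : τ → F.val.obj (op U)) :
    gm x F hx (∑ k, c k • s k) = ∑ k, gr x hx (c k) • gm x F hx (s k) := by
  rw [gm_sum]
  refine Finset.sum_congr rfl (fun k _ => ?_)
  rw [gm_smul]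

variable (O)

theorem exists_basis_nbhd (F : ModSite.Mod O)
    [SheafOfModules.IsFinitePresentation (R := ModSite.ringSh O) F] (x : X) {τ : Type u}
    [Fintype τ] [DecidableEq τ] (z : τ → ModSite.stalkAb (pt x) F)
    (hspan : ∀ m : ModSite.stalkAb (pt x) F, ∃ c : τ → ModSite.stalkRing (pt x) O,
      m = ∑ k, c k • z k)
    (hind : ∀ c : τ → ModSite.stalkRing (pt x) O, ∑ k, c k • z k = 0 → ∀ k, c k = 0) :
    ∃ (U : Opens X) (hxU : x ∈ U) (s : τ → F.val.obj (op U)), Gen F U s ∧ Indep F U s ∧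
      ∀ k, gm x F hxU (s k) = z k := by
  classical
  -- Step 1: representatives
  choose W hxW w hw using fun k => gm_surj F (z k)
  -- Step 2: presentation
  obtain ⟨UF, hxF, σ, ι, hσ, hι, g, rl, hgen, hrl, hrel⟩ :=
    (isFinitePresentation_iff F).1 inferInstance x
  obtain ⟨U₀', hxU₀', hU₀'⟩ := exists_common_nbhd x W hxW
  obtain ⟨U₀, hx0, h0F, h0W⟩ : ∃ U₀ : Opens X, x ∈ U₀ ∧ U₀ ≤ UF ∧ ∀ k, U₀ ≤ W k :=
    ⟨U₀' ⊓ UF, ⟨hxU₀', hxF⟩, inf_le_right, fun k => inf_le_left.trans (hU₀' k)⟩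
  obtain ⟨w0, g0, r0, hw0, hgen0, hrl0, hrel0⟩ :
      ∃ (w0 : τ → F.val.obj (op U₀)) (g0 : σ → F.val.obj (op U₀)) (r0 : ι → σ → RO O U₀),
        (∀ k, gm x F hx0 (w0 k) = z k) ∧ Gen F U₀ g0 ∧ (∀ l, ∑ j, r0 l j • g0 j = 0) ∧
          RelGen F U₀ g0 r0 := by
    refine ⟨fun k => rs O F (h0W k) (w k), fun j => rs O F h0F (g j),
      fun l j => rr O h0F (rl l j), ?_, hgen.mono h0F, ?_, hrel.mono h0F⟩
    · intro k
      rw [gm_rs, hw]
    · intro l
      have := congrArg (rs O F h0F) (hrl l)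
      rw [rs_sum, rs_zero] at this
      rw [← this]
      refine Finset.sum_congr rfl (fun j _ => ?_)
      rw [rs_smul]
  -- Step 3
  have h3 : ∀ j : σ, ∃ (W' : Opens X) (hW' : W' ≤ U₀), x ∈ W' ∧ ∃ a : τ → RO O W',
      rs O F hW' (g0 j) = ∑ k, a k • rs O F hW' (w0 k) := by
    intro j
    obtain ⟨α, hα⟩ := hspan (gm x F hx0 (g0 j))
    choose V hxV a₀ ha₀ using fun k => gr_surj (O := O) (α k)
    obtain ⟨V₁, hxV₁, hV₁⟩ := exists_common_nbhd x V hxV
    have hxV' : x ∈ V₁ ⊓ U₀ := ⟨hxV₁, hx0⟩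
    have hV'0 : V₁ ⊓ U₀ ≤ U₀ := inf_le_right
    have hV'V : ∀ k, V₁ ⊓ U₀ ≤ V k := fun k => inf_le_left.trans (hV₁ k)
    have e1 : gm x F hxV' (rs O F hV'0 (g0 j)) =
        gm x F hxV' (∑ k, rr O (hV'V k) (a₀ k) • rs O F hV'0 (w0 k)) := by
      rw [gm_rs, hα, gm_comb]
      refine Finset.sum_congr rfl (fun k _ => ?_)
      rw [gr_rr, ha₀, gm_rs, hw0]
    obtain ⟨W', hW', hxW', h⟩ := (gm_eq_iff F hxV' _ _).1 e1
    refine ⟨W', hW'.trans hV'0, hxW', fun k => rr O hW' (rr O (hV'V k) (a₀ k)), ?_⟩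
    rw [rs_rs] at h
    rw [h, rs_sum]
    refine Finset.sum_congr rfl (fun k _ => ?_)
    rw [rs_smul, rs_rs]
  choose W' hW' hxW' a ha using h3
  -- Step 4
  have h4 : ∀ k : τ, ∃ (W'' : Opens X) (hW'' : W'' ≤ U₀), x ∈ W'' ∧ ∃ b : σ → RO O W'',
      ∑ j, b j • rs O F hW'' (g0 j) = rs O F hW'' (w0 k) :=
    fun k => hgen0 U₀ le_rfl (w0 k) x hx0
  choose W'' hW'' hxW'' b hb using h4
  -- Step 5
  obtain ⟨U₁a, hxU₁a, hU₁a⟩ := exists_common_nbhd x W' hxW'
  obtain ⟨U₁b, hxU₁b, hU₁b⟩ := exists_common_nbhd x W'' hxW''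
  obtain ⟨U₁, hx1, h10, h1a, h1b⟩ : ∃ U₁ : Opens X, x ∈ U₁ ∧ U₁ ≤ U₀ ∧ (∀ j, U₁ ≤ W' j) ∧
      (∀ k, U₁ ≤ W'' k) :=
    ⟨U₁a ⊓ U₁b ⊓ U₀, ⟨⟨hxU₁a, hxU₁b⟩, hx0⟩, inf_le_right,
      fun j => (inf_le_left.trans inf_le_left).trans (hU₁a j),
      fun k => (inf_le_left.trans inf_le_right).trans (hU₁b k)⟩
  obtain ⟨s, g', a', b', r', R1, R2, R3, hgen1, hrel1, hs⟩ :
      ∃ (s : τ → F.val.obj (op U₁)) (g' : σ → F.val.obj (op U₁)) (a' : σ → τ → RO O U₁)
        (b' : τ → σ → RO O U₁) (r' : ι → σ → RO O U₁),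
        (∀ j, g' j = ∑ k, a' j k • s k) ∧ (∀ k, ∑ j, b' k j • g' j = s k) ∧
        (∀ l, ∑ j, r' l j • g' j = 0) ∧ Gen F U₁ g' ∧ RelGen F U₁ g' r' ∧
        ∀ k, gm x F hx1 (s k) = z k := by
    refine ⟨fun k => rs O F h10 (w0 k), fun j => rs O F h10 (g0 j),
      fun j k => rr O (h1a j) (a j k), fun k j => rr O (h1b k) (b k j),
      fun l j => rr O h10 (r0 l j), ?_, ?_, ?_, hgen0.mono h10, hrel0.mono h10, ?_⟩
    · intro j
      have := congrArg (rs O F (h1a j)) (ha j)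
      rw [rs_rs, rs_sum] at this
      dsimp only
      rw [this]
      refine Finset.sum_congr rfl (fun k _ => ?_)
      rw [rs_smul, rs_rs]
    · intro k
      have := congrArg (rs O F (h1b k)) (hb k)
      rw [rs_rs, rs_sum] at this
      dsimp only
      rw [← this]
      refine Finset.sum_congr rfl (fun j _ => ?_)
      rw [rs_smul, rs_rs]
    · intro l
      have := congrArg (rs O F h10) (hrl0 l)
      rw [rs_sum, rs_zero] at this
      rw [← this]
      refine Finset.sum_congr rfl (fun j _ => ?_)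
      rw [rs_smul]
    · intro k
      rw [gm_rs, hw0]
  -- Step 6
  have h6a : ∀ p : ι × τ, ∃ (Wp : Opens X) (hWp : Wp ≤ U₁), x ∈ Wp ∧
      rr O hWp (∑ j, r' p.1 j * a' j p.2) = 0 := by
    have key : ∀ l, ∑ k, (∑ j, r' l j * a' j k) • s k = 0 := by
      intro l
      rw [← comb_swap, ← R3 l]
      refine Finset.sum_congr rfl (fun j _ => ?_)
      rw [R1]
    rintro ⟨l, k⟩
    have e1 := congrArg (gm x F hx1) (key l)
    rw [gm_comb, gm_zero] at e1
    simp only [hs] at e1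
    have e2 := hind _ e1 k
    rw [← gr_zero (O := O) hx1] at e2
    obtain ⟨Wp, hWp, hxWp, h⟩ := exists_rr_eq_of_gr_eq hx1 _ _ e2
    exact ⟨Wp, hWp, hxWp, by rw [h, map_zero]⟩
  have h6b : ∀ p : τ × τ, ∃ (Wp : Opens X) (hWp : Wp ≤ U₁), x ∈ Wp ∧
      rr O hWp (∑ j, b' p.1 j * a' j p.2) = if p.1 = p.2 then 1 else 0 := by
    have key : ∀ k, ∑ k', (∑ j, b' k j * a' j k') • s k' = s k := by
      intro k
      rw [← comb_swap, ← R2 k]
      refine Finset.sum_congr rfl (fun j _ => ?_)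
      rw [R1]
    rintro ⟨k, k'⟩
    have e1 := congrArg (gm x F hx1) (key k)
    rw [gm_comb] at e1
    simp only [hs] at e1
    have e2 : ∑ k'', (gr x hx1 (∑ j, b' k j * a' j k'') - if k = k'' then 1 else 0) • z k'' = 0 := by
      simp only [sub_smul, Finset.sum_sub_distrib]
      rw [e1, sub_eq_zero, Finset.sum_eq_single k]
      · rw [if_pos rfl, one_smul]
      · intro k'' _ hk
        rw [if_neg (Ne.symm hk), zero_smul]
      · intro h
        exact absurd (Finset.mem_univ k) h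
    have e3 := sub_eq_zero.1 (hind _ e2 k')
    have e4 : gr x hx1 (∑ j, b' k j * a' j k') =
        gr x hx1 (if k = k' then (1 : RO O U₁) else 0) := by
      rw [e3]
      split_ifs
      · rw [gr_one]
      · rw [gr_zero]
    obtain ⟨Wp, hWp, hxWp, h⟩ := exists_rr_eq_of_gr_eq hx1 _ _ e4
    refine ⟨Wp, hWp, hxWp, ?_⟩
    dsimp only
    rw [h]
    split_ifs
    · rw [map_one]
    · rw [map_zero]
  choose Wa hWa hxWa hρ using h6a
  choose Wb hWb hxWb hβ using h6b
  obtain ⟨U₂a, hxU₂a, hU₂a⟩ := exists_common_nbhd x Wa hxWa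
  obtain ⟨U₂b, hxU₂b, hU₂b⟩ := exists_common_nbhd x Wb hxWb
  obtain ⟨U, hxU, hU1, hUa, hUb⟩ : ∃ U : Opens X, x ∈ U ∧ U ≤ U₁ ∧ (∀ p, U ≤ Wa p) ∧
      (∀ p, U ≤ Wb p) :=
    ⟨U₂a ⊓ U₂b ⊓ U₁, ⟨⟨hxU₂a, hxU₂b⟩, hx1⟩, inf_le_right,
      fun p => (inf_le_left.trans inf_le_left).trans (hU₂a p),
      fun p => (inf_le_left.trans inf_le_right).trans (hU₂b p)⟩
  -- Step 7
  have hgens : Gen F U₁ s := by
    intro V hV t y hy
    obtain ⟨W₁, hW₁, hyW₁, c, hc⟩ := hgen1 V hV t y hy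
    refine ⟨W₁, hW₁, hyW₁, fun k => ∑ j, c j * rr O (hW₁.trans hV) (a' j k), ?_⟩
    rw [← hc, ← comb_swap]
    refine Finset.sum_congr rfl (fun j _ => ?_)
    rw [R1, rs_sum]
    congr 1
    refine Finset.sum_congr rfl (fun k _ => ?_)
    rw [rs_smul]
  refine ⟨U, hxU, fun k => rs O F hU1 (s k), hgens.mono hU1, ?_, ?_⟩
  · intro V hV c hc
    have hc' : ∑ k, c k • rs O F (hV.trans hU1) (s k) = 0 := by
      rw [← hc]
      refine Finset.sum_congr rfl (fun k _ => ?_)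
      rw [rs_rs]
    funext k'
    apply ring_ext (O := O) (c k') 0
    intro y hy
    have h1 : ∑ j, (∑ k, c k * rr O (hV.trans hU1) (b' k j)) • rs O F (hV.trans hU1) (g' j) = 0 := by
      rw [← comb_swap, ← hc']
      refine Finset.sum_congr rfl (fun k _ => ?_)
      rw [← R2 k, rs_sum]
      congr 1
      refine Finset.sum_congr rfl (fun j _ => ?_)
      rw [rs_smul]
    obtain ⟨W₁, hW₁, hyW₁, e, he⟩ := hrel1 V (hV.trans hU1) _ h1 y hy
    refine ⟨W₁, hW₁, hyW₁, ?_⟩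
    have hW1U1 : W₁ ≤ U₁ := hW₁.trans (hV.trans hU1)
    have hzero := coef_zero (rr O hW1U1) (fun k => rr O hW₁ (c k)) b' a' r' e ?_ ?_ ?_
    · rw [congrFun hzero k', map_zero]
      rfl
    · intro k k''
      rw [← rr_rr (hWb (k, k'')) ((hW₁.trans hV).trans (hUb (k, k''))), hβ (k, k'')]
      dsimp only
      split_ifs
      · rw [map_one]
      · rw [map_zero]
    · intro l k
      rw [← rr_rr (hWa (l, k)) ((hW₁.trans hV).trans (hUa (l, k))), hρ (l, k), map_zero]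
    · intro j
      rw [← he j, map_sum]
      refine Finset.sum_congr rfl (fun k _ => ?_)
      rw [map_mul, rr_rr]
  · intro k
    rw [gm_rs, hs]

/-- a finitely presented module whose stalk at `x` is free of rank `r` is free of rank `r` on a
neighbourhood of `x` -/
theorem exists_iso_free_of_stalk_free (F : ModSite.Mod O)
    [SheafOfModules.IsFinitePresentation (R := ModSite.ringSh O) F] (x : X) (r : ℕ)
    (hx : Nonempty (ModSite.stalkMod (Opens.pointGrothendieckTopology x) F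
      ≃ₗ[ModSite.stalkRing (Opens.pointGrothendieckTopology x) O]
        (Fin r → ModSite.stalkRing (Opens.pointGrothendieckTopology x) O))) :
    ∃ U : Opens X, x ∈ U ∧
      Nonempty ((ModSite.restr O U).obj F ≅ SheafOfModules.free (ULift.{u} (Fin r))) := by
  classical
  obtain ⟨e⟩ := hx
  let bs : Module.Basis (ULift.{u} (Fin r)) (ModSite.stalkRing (pt x) O)
      (ModSite.stalkMod (pt x) F) :=
    (Module.Basis.ofEquivFun e).reindex Equiv.ulift.symm
  obtain ⟨U, hxU, s, hgen, hind, -⟩ := exists_basis_nbhd O F x (fun k => bs k)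
    (fun m => ⟨fun k => bs.repr m k, (bs.sum_repr m).symm⟩)
    (fun c hc => Fintype.linearIndependent_iff.1 bs.linearIndependent c hc)
  exact ⟨U, hxU, (nonempty_iso_free_iff F U _).2 ⟨s, hgen, hind⟩⟩

end Groth.Agent.Lib.R2H2.ModFTF
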