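import Groth.Agent.Lib.R2H2ModFTF

/-!
# Direct summands of finite locally free modules on locally ringed spaces (helper2, round 2)

* `isFinitePresentation_of_locallyFree`, `isFinitePresentation_of_retract`;
* `stalkCmp`: the comparison from the topological stalk of `O` to the site-point stalk;
  `isLocalRing_stalkRing`;
* `basis_of_gen_indep`: sections forming a basis near `x` give a basis of the stalk;
* `exists_iso_free_of_retract` (S6849).
-/

set_option backward.isDefEq.respectTransparency.types false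
set_option autoImplicit false
universe u
open CategoryTheory CategoryTheory.Limits Opposite TopologicalSpace

namespace Groth.Agent.Lib.R2H2.ModFTG

open Groth.Agent.Lib.R2H2.ModFTA Groth.Agent.Lib.R2H2.ModFTB Groth.Agent.Lib.R2H2.ModFTC
  Groth.Agent.Lib.R2H2.ModFTD Groth.Agent.Lib.R2H2.ModFTE Groth.Agent.Lib.R2H2.ModFTF

variable {X : TopCat.{u}} (O : TopCat.Sheaf CommRingCat.{u} X)

theorem isFinitePresentation_of_locallyFree (H : ModSite.Mod O)
    (hH : ∀ x : X, ∃ (U : Opens X) (n : ℕ), x ∈ U ∧
      Nonempty ((ModSite.restr O U).obj H ≅ SheafOfModules.free (ULift.{u} (Fin n)))) :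
    SheafOfModules.IsFinitePresentation (R := ModSite.ringSh O) H := by
  rw [isFinitePresentation_iff]
  intro x
  obtain ⟨U, n, hxU, hn⟩ := hH x
  obtain ⟨h, hgen, hind⟩ := (nonempty_iso_free_iff H U (ULift.{u} (Fin n))).1 hn
  refine ⟨U, hxU, ULift.{u} (Fin n), PEmpty.{u + 1}, inferInstance, inferInstance, h,
    fun l => PEmpty.elim l, hgen, fun l => PEmpty.elim l, ?_⟩
  intro V hV c hc y hy
  refine ⟨V, le_rfl, hy, fun l => PEmpty.elim l, fun i => ?_⟩
  rw [congrFun (hind V hV c hc) i]
  simp

theorem isFinitePresentation_of_retract {F H : ModSite.Mod O} (i : F ⟶ H) (p : H ⟶ F)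
    (hip : i ≫ p = 𝟙 F) [SheafOfModules.IsFinitePresentation (R := ModSite.ringSh O) H] :
    SheafOfModules.IsFinitePresentation (R := ModSite.ringSh O) F := by
  have h1 : SheafOfModules.IsFinitePresentation (R := ModSite.ringSh O)
      (cokernel (𝟙 H - p ≫ i)) := isFinitePresentation_cokernel O (𝟙 H - p ≫ i)
  have w : (𝟙 H - p ≫ i) ≫ p = 0 := by
    rw [Preadditive.sub_comp, Category.id_comp, Category.assoc, hip, Category.comp_id, sub_self]
  have hπ : cokernel.π (𝟙 H - p ≫ i) = (p ≫ i) ≫ cokernel.π (𝟙 H - p ≫ i) := by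
    have := cokernel.condition (𝟙 H - p ≫ i)
    rw [Preadditive.sub_comp, Category.id_comp, sub_eq_zero] at this
    exact this
  let e : cokernel (𝟙 H - p ≫ i) ≅ F :=
    { hom := cokernel.desc _ p w
      inv := i ≫ cokernel.π _
      hom_inv_id := by
        apply coequalizer.hom_ext
        rw [cokernel.π_desc_assoc, Category.comp_id, ← Category.assoc]
        exact hπ.symm
      inv_hom_id := by
        rw [Category.assoc, cokernel.π_desc, hip] }
  exact (SheafOfModules.isFinitePresentation (ModSite.ringSh O)).prop_of_iso e h1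

/-- the comparison map from the topological stalk to the stalk at the point of the site -/
noncomputable def stalkCmp (x : X) :
    O.presheaf.stalk x ⟶ ModSite.stalkRing (pt x) O :=
  colimit.desc ((OpenNhds.inclusion x).op ⋙ O.presheaf)
    { pt := ModSite.stalkRing (pt x) O
      ι :=
        { app := fun V => (pt x).toPresheafFiber V.unop.1 ⟨⟨V.unop.2⟩⟩ O.obj
          naturality := by
            intro V V' f
            dsimp only [Functor.comp_obj, Functor.comp_map, Functor.const_obj_obj,
              Functor.const_obj_map]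
            rw [Category.comp_id]
            exact (pt x).toPresheafFiber_w ((OpenNhds.inclusion x).map f.unop)
              ⟨⟨V'.unop.2⟩⟩ O.obj } }

theorem stalkCmp_germ (x : X) (U : Opens X) (hx : x ∈ U) (r : O.obj.obj (op U)) :
    (stalkCmp O x).hom ((O.presheaf.germ U x hx).hom r) = gr (O := O) x hx r := by
  have h : O.presheaf.germ U x hx ≫ stalkCmp O x =
      (pt x).toPresheafFiber U ⟨⟨hx⟩⟩ O.obj :=
    colimit.ι_desc _ (op (⟨U, hx⟩ : OpenNhds x))
  exact congrArg (fun q => q.hom r) h

theorem stalkCmp_surjective (x : X) : Function.Surjective (stalkCmp O x).hom := by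
  intro z
  obtain ⟨U, hx, r, rfl⟩ := gr_surj (O := O) z
  exact ⟨(O.presheaf.germ U x hx).hom r, stalkCmp_germ O x U hx r⟩

theorem isLocalRing_stalkRing (x : X) [IsLocalRing (O.presheaf.stalk x)] :
    IsLocalRing (ModSite.stalkRing (pt x) O) := by
  haveI : Nontrivial (ModSite.stalkRing (pt x) O) := by
    refine ⟨⟨0, 1, fun h => ?_⟩⟩
    have h1 : gr (O := O) x (Opens.mem_top x) 0 = gr (O := O) x (Opens.mem_top x) 1 := by
      rw [gr_zero, gr_one]
      exact h
    obtain ⟨W, hW, hxW, h2⟩ := (gr_eq_iff (O := O) (Opens.mem_top x) 0 1).1 h1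
    rw [map_zero, map_one] at h2
    have h3 : (0 : O.presheaf.stalk x) = 1 := by
      have := congrArg (O.presheaf.germ W x hxW).hom h2
      exact (map_zero (O.presheaf.germ W x hxW).hom).symm.trans
        (this.trans (map_one (O.presheaf.germ W x hxW).hom))
    exact zero_ne_one h3
  exact IsLocalRing.of_surjective' (stalkCmp O x).hom (stalkCmp_surjective O x)

variable {O} in
/-- sections forming a basis near `x` give a basis of the stalk at `x` -/
theorem basis_of_gen_indep (H : ModSite.Mod O) (x : X) {U : Opens X} (hxU : x ∈ U) {τ : Type u}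
    [Fintype τ] (h : τ → H.val.obj (op U)) (hgen : Gen H U h) (hind : Indep H U h) :
    (∀ m : ModSite.stalkAb (pt x) H, ∃ c : τ → ModSite.stalkRing (pt x) O,
      m = ∑ k, c k • gm x H hxU (h k)) ∧
    (∀ c : τ → ModSite.stalkRing (pt x) O, ∑ k, c k • gm x H hxU (h k) = 0 → ∀ k, c k = 0) := by
  constructor
  · intro m
    obtain ⟨V, hxV, t, rfl⟩ := gm_surj H m
    obtain ⟨W, hW, hxW, c, hc⟩ := hgen (V ⊓ U) inf_le_right (rs O H inf_le_left t) x ⟨hxV, hxU⟩
    refine ⟨fun k => gr x hxW (c k), ?_⟩
    have e1 := congrArg (gm x H hxW) hc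
    rw [gm_rs, gm_rs, gm_comb] at e1
    rw [← e1]
    refine Finset.sum_congr rfl (fun k _ => ?_)
    rw [gm_rs]
  · intro c hc k
    choose V hxV a₀ ha₀ using fun k => gr_surj (O := O) (c k)
    obtain ⟨V₁, hxV₁, hV₁⟩ := exists_common_nbhd x V hxV
    have hxV' : x ∈ V₁ ⊓ U := ⟨hxV₁, hxU⟩
    have hV'V : ∀ k, V₁ ⊓ U ≤ V k := fun k => inf_le_left.trans (hV₁ k)
    have e1 : gm x H hxV' (∑ k, rr O (hV'V k) (a₀ k) • rs O H inf_le_right (h k)) =
        gm x H hxV' 0 := by
      rw [gm_comb, gm_zero, ← hc]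
      refine Finset.sum_congr rfl (fun k _ => ?_)
      rw [gr_rr, ha₀, gm_rs]
    obtain ⟨W, hW, hxW, h2⟩ := (gm_eq_iff H hxV' _ _).1 e1
    rw [rs_zero, rs_sum] at h2
    have h3 : ∑ k, rr O hW (rr O (hV'V k) (a₀ k)) • rs O H (hW.trans inf_le_right) (h k) = 0 := by
      rw [← h2]
      refine Finset.sum_congr rfl (fun k _ => ?_)
      rw [rs_smul, rs_rs]
    have h4 := congrFun (hind W (hW.trans inf_le_right) _ h3) k
    rw [← ha₀ k, ← gr_rr (hV'V k) hxV', ← gr_rr hW hxW, h4]
    exact gr_zero hxW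

/-- a direct summand of a finite locally free module on a locally ringed space is finite locally
free -/
theorem exists_iso_free_of_retract (hO : ∀ x : X, IsLocalRing (O.presheaf.stalk x))
    {F H : ModSite.Mod O}
    (hH : ∀ x : X, ∃ (U : Opens X) (n : ℕ), x ∈ U ∧
      Nonempty ((ModSite.restr O U).obj H ≅ SheafOfModules.free (ULift.{u} (Fin n))))
    (i : F ⟶ H) (p : H ⟶ F) (hip : i ≫ p = 𝟙 F) (x : X) :
    ∃ (U : Opens X) (n : ℕ), x ∈ U ∧
      Nonempty ((ModSite.restr O U).obj F ≅ SheafOfModules.free (ULift.{u} (Fin n))) := by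
  classical
  haveI := isFinitePresentation_of_locallyFree O H hH
  haveI := isFinitePresentation_of_retract O i p hip
  haveI := hO x
  haveI := isLocalRing_stalkRing O x
  obtain ⟨UH, n, hxUH, hn⟩ := hH x
  obtain ⟨h, hgen, hind⟩ := (nonempty_iso_free_iff H UH (ULift.{u} (Fin n))).1 hn
  obtain ⟨hsp, hli⟩ := basis_of_gen_indep H x hxUH h hgen hind
  let v : ULift.{u} (Fin n) → ModSite.stalkMod (pt x) H := fun k => gm x H hxUH (h k)
  have hv_li : LinearIndependent (ModSite.stalkRing (pt x) O) v :=
    Fintype.linearIndependent_iff.2 hli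
  have hv_sp : ⊤ ≤ Submodule.span (ModSite.stalkRing (pt x) O) (Set.range v) := by
    intro m _
    obtain ⟨c, hc⟩ := hsp m
    rw [hc]
    exact Submodule.sum_mem _
      (fun k _ => Submodule.smul_mem _ _ (Submodule.subset_span ⟨k, rfl⟩))
  let bH : Module.Basis (ULift.{u} (Fin n)) (ModSite.stalkRing (pt x) O)
      (ModSite.stalkMod (pt x) H) := Module.Basis.mk hv_li hv_sp
  haveI : Module.Free (ModSite.stalkRing (pt x) O) (ModSite.stalkMod (pt x) H) :=
    Module.Free.of_basis bH
  haveI : Module.Finite (ModSite.stalkRing (pt x) O) (ModSite.stalkMod (pt x) H) :=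
    Module.Finite.of_basis bH
  let ix := (ModSite.stalkMap (pt x) i).hom
  let px := (ModSite.stalkMap (pt x) p).hom
  have hpi' : ∀ z, px (ix z) = z := by
    intro z
    obtain ⟨V, hxV, s, rfl⟩ := gm_surj F z
    change (ModSite.stalkMap (pt x) p).hom ((ModSite.stalkMap (pt x) i).hom (gm x F hxV s)) = _
    rw [stalkMap_gm, stalkMap_gm]
    congr 1
    exact congrArg (fun q => q.val.app (op V) s) hip
  have hpi : px ∘ₗ ix = LinearMap.id := LinearMap.ext hpi'
  haveI : Module.Projective (ModSite.stalkRing (pt x) O) (ModSite.stalkMod (pt x) F) :=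
    Module.Projective.of_split ix px hpi
  haveI : Module.Finite (ModSite.stalkRing (pt x) O) (ModSite.stalkMod (pt x) F) :=
    Module.Finite.of_surjective px (fun z => ⟨ix z, hpi' z⟩)
  haveI : Module.Free (ModSite.stalkRing (pt x) O) (ModSite.stalkMod (pt x) F) :=
    Module.free_of_flat_of_isLocalRing
  obtain ⟨U, hxU, hU⟩ := exists_iso_free_of_stalk_free O F x
    (Module.finrank (ModSite.stalkRing (pt x) O) (ModSite.stalkMod (pt x) F))
    ⟨(Module.finBasis (ModSite.stalkRing (pt x) O) (ModSite.stalkMod (pt x) F)).equivFun⟩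
  exact ⟨U, _, hxU, hU⟩

end Groth.Agent.Lib.R2H2.ModFTG
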