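import Groth.Agent.Lib.R2H2ModFTE
import Groth.Agent.S12450

/-!
# Filtered colimits of modules on a ringed space (helper2, round 2)

* `stx`: the stalk functor `Mod O ⥤ Ab` at the point of the site given by `x`; it preserves
  small colimits;
* `exists_rep_locally`: sections of a filtered colimit locally come from a stage;
* `mono_ι_of_mono`: if all transition maps are mono, so are the maps to the colimit;
* `colimit_finiteType` (S6834).
-/

set_option backward.isDefEq.respectTransparency.types false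
set_option autoImplicit false
universe u
open CategoryTheory CategoryTheory.Limits Opposite TopologicalSpace

namespace Groth.Agent.Lib.R2H2.ModFTH

open Groth.Agent.Lib.R2H2.ModFTA Groth.Agent.Lib.R2H2.ModFTB Groth.Agent.Lib.R2H2.ModFTD
  Groth.Agent.Lib.R2H2.ModFTE

variable {X : TopCat.{u}} (O : TopCat.Sheaf CommRingCat.{u} X)

/-- the stalk functor at the point of the site of opens given by `x`, on modules -/
noncomputable def stx (x : X) : ModSite.Mod O ⥤ AddCommGrpCat.{u} :=
  SheafOfModules.toSheaf (ModSite.ringSh O) ⋙ (pt x).sheafFiber (A := AddCommGrpCat.{u})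

noncomputable instance (x : X) (I : Type u) [SmallCategory I] :
    PreservesColimitsOfShape I (stx O x) := by
  haveI h0 : PreservesColimitsOfSize.{u, u} (SheafOfModules.toSheaf.{u} (ModSite.ringSh O) :
      ModSite.Mod O ⥤ Sheaf _ AddCommGrpCat.{u}) := Groth.Agent.S12450.result O
  haveI : PreservesColimitsOfShape I (SheafOfModules.toSheaf.{u} (ModSite.ringSh O) :
      ModSite.Mod O ⥤ Sheaf _ AddCommGrpCat.{u}) := h0.preservesColimitsOfShape
  unfold stx
  infer_instance

variable {O}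

theorem stx_map_gm {x : X} {M N : ModSite.Mod O} (φ : M ⟶ N) {U : Opens X} (hx : x ∈ U)
    (s : M.val.obj (op U)) :
    ((stx O x).map φ).hom (gm x M hx s) = gm x N hx (φ.val.app (op U) s) :=
  stalkMap_gm φ hx s

section Colim

variable {I : Type u} [Preorder I] [Nonempty I] [IsDirected I (· ≤ ·)] (D : I ⥤ ModSite.Mod O)
  (c : Cocone D) (hc : IsColimit c)

include hc in
/-- sections of a filtered colimit locally come from a stage -/
theorem exists_rep_locally {V : Opens X} (m : c.pt.val.obj (op V)) (y : X) (hy : y ∈ V) :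
    ∃ (W : Opens X) (hW : W ≤ V), y ∈ W ∧ ∃ (i : I) (a : (D.obj i).val.obj (op W)),
      (c.ι.app i).val.app (op W) a = rs O c.pt hW m := by
  have hcy : IsColimit ((stx O y).mapCocone c) := isColimitOfPreserves (stx O y) hc
  obtain ⟨i, w, hw⟩ := Concrete.isColimit_exists_rep (D ⋙ stx O y) hcy (gm y c.pt hy m)
  obtain ⟨V', hyV', a, rfl⟩ := gm_surj (D.obj i) w
  have hw' : ((stx O y).map (c.ι.app i)).hom (gm y (D.obj i) hyV' a) = gm y c.pt hy m := hw
  rw [stx_map_gm] at hw'
  obtain ⟨W, hWV', hWV, hyW, h⟩ := (gm_eq_iff' c.pt hyV' hy _ _).1 hw'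
  exact ⟨W, hWV, hyW, i, rs O (D.obj i) hWV' a, by rw [app_rs]; exact h⟩

include hc in
/-- if all transition maps are mono, so are the maps to the colimit -/
theorem mono_ι_of_mono (hD : ∀ (i j : I) (f : i ⟶ j), Mono (D.map f)) (i : I) :
    Mono (c.ι.app i) := by
  rw [mono_iff]
  intro V
  apply (injective_iff_map_eq_zero ((c.ι.app i).val.app (op V)).hom).2
  intro a ha
  have ha' : (c.ι.app i).val.app (op V) a = 0 := ha
  apply sec_ext (D.obj i) a 0
  intro y hy
  have hcy : IsColimit ((stx O y).mapCocone c) := isColimitOfPreserves (stx O y) hc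
  have h1 : ((stx O y).mapCocone c).ι.app i (gm y (D.obj i) hy a) =
      ((stx O y).mapCocone c).ι.app i (gm y (D.obj i) hy 0) := by
    change ((stx O y).map (c.ι.app i)).hom _ = ((stx O y).map (c.ι.app i)).hom _
    rw [stx_map_gm, stx_map_gm, ha', map_zero]
  obtain ⟨k, f, g, hfg⟩ := Concrete.isColimit_exists_of_rep_eq (D ⋙ stx O y) hcy _ _ h1
  have h2 : ((stx O y).map (D.map f)).hom (gm y (D.obj i) hy a) =
      ((stx O y).map (D.map g)).hom (gm y (D.obj i) hy 0) := hfg
  rw [stx_map_gm, stx_map_gm, map_zero] at h2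
  obtain ⟨W, hW, hyW, h3⟩ := (gm_eq_iff (D.obj k) hy _ _).1 h2
  refine ⟨W, hW, hyW, ?_⟩
  haveI := hD i k f
  apply injective_of_mono (D.map f) W
  rw [app_rs, h3, rs_zero, rs_zero, map_zero]

end Colim

section Main

variable {I : Type u} [Preorder I] [Nonempty I] [IsDirected I (· ≤ ·)] (D : I ⥤ ModSite.Mod O)
  (c : Cocone D)

theorem ι_app_map {i j : I} (f : i ⟶ j) (W : Opens X) (b : (D.obj i).val.obj (op W)) :
    (c.ι.app j).val.app (op W) ((D.map f).val.app (op W) b) = (c.ι.app i).val.app (op W) b :=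
  congrArg (fun q => q.val.app (op W) b) (c.w f)

theorem locSurj_ι_mono {i j : I} (hij : i ≤ j) {U : Opens X} (h : LocSurj (c.ι.app i) U) :
    LocSurj (c.ι.app j) U := by
  intro V hV t y hy
  obtain ⟨W, hW, hyW, b, hb⟩ := h V hV t y hy
  exact ⟨W, hW, hyW, (D.map (homOfLE hij)).val.app (op W) b, by
    rw [ι_app_map]; exact hb⟩

/-- finite type colimits on quasi-compact spaces are reached at a finite stage -/
theorem colimit_finiteType [CompactSpace X] (hc : IsColimit c)
    [SheafOfModules.IsFiniteType (R := ModSite.ringSh O) c.pt] :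
    (∃ i : I, Epi (c.ι.app i)) ∧
      ((∀ (i j : I) (f : i ⟶ j), Mono (D.map f)) → ∃ i : I, IsIso (c.ι.app i)) := by
  classical
  have hA : ∀ x : X, ∃ Wx : Opens X, x ∈ Wx ∧ ∃ i : I, LocSurj (c.ι.app i) Wx := by
    intro x
    obtain ⟨U, hxU, σ, hσ, s, hs⟩ := (isFiniteType_iff c.pt).1 inferInstance x
    choose W hW hxW ik a ha using fun k => exists_rep_locally D c hc (s k) x hxU
    obtain ⟨U', hxU', hU'⟩ := exists_common_nbhd x W hxW
    obtain ⟨i, hi⟩ := Finset.exists_le (Finset.univ.image ik)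
    have hik : ∀ k, ik k ≤ i := fun k => hi _ (Finset.mem_image_of_mem ik (Finset.mem_univ k))
    refine ⟨U' ⊓ U, ⟨hxU', hxU⟩, i, ?_⟩
    intro V hV m y hy
    have hVU : V ≤ U := hV.trans inf_le_right
    have hVW : ∀ k, V ≤ W k := fun k => (hV.trans inf_le_left).trans (hU' k)
    obtain ⟨W₁, hW₁, hyW₁, cf, hcf⟩ := hs V hVU m y hy
    refine ⟨W₁, hW₁, hyW₁, ∑ k, cf k • rs O (D.obj i) (hW₁.trans (hVW k))
      ((D.map (homOfLE (hik k))).val.app (op (W k)) (a k)), ?_⟩
    rw [map_sum]
    have e : ∀ k, (c.ι.app i).val.app (op W₁) (cf k • rs O (D.obj i) (hW₁.trans (hVW k))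
        ((D.map (homOfLE (hik k))).val.app (op (W k)) (a k))) =
        cf k • rs O c.pt (hW₁.trans hVU) (s k) := by
      intro k
      rw [map_smul, app_rs, ι_app_map]
      have := ha k
      rw [this]
      exact congrArg (fun q => cf k • q) (rs_rs c.pt (hW k) (hW₁.trans (hVW k)) (s k))
    simp only [e]
    exact hcf
  choose Wx hxWx ix hix using hA
  obtain ⟨t, ht⟩ := CompactSpace.elim_nhds_subcover (fun x => (Wx x : Set X))
    (fun x => (Wx x).isOpen.mem_nhds (hxWx x))
  obtain ⟨i₀, hi₀⟩ := Finset.exists_le (t.image ix)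
  have hepi : Epi (c.ι.app i₀) := by
    rw [epi_iff]
    intro V _ m y hy
    have hy' : y ∈ ⋃ x ∈ t, (Wx x : Set X) := by
      rw [ht]
      trivial
    obtain ⟨x, hxt, hyx⟩ := Set.mem_iUnion₂.1 hy'
    have hle : ix x ≤ i₀ := hi₀ _ (Finset.mem_image_of_mem ix hxt)
    obtain ⟨W, hW, hyW, b, hb⟩ := locSurj_ι_mono D c hle (hix x) (V ⊓ Wx x) inf_le_right
      (rs O c.pt inf_le_left m) y ⟨hy, hyx⟩
    refine ⟨W, hW.trans inf_le_left, hyW, b, ?_⟩
    exact hb.trans (rs_rs c.pt inf_le_left hW m)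
  refine ⟨⟨i₀, hepi⟩, fun hD => ⟨i₀, ?_⟩⟩
  haveI := hepi
  haveI := mono_ι_of_mono D c hc hD i₀
  exact isIso_of_mono_of_epi _

end Main

end Groth.Agent.Lib.R2H2.ModFTH
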