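import Groth.Agent.Lib.R2H2ModFTG

/-!
# The rank of a locally free module on a ringed space with nonzero stalks (helper2, round 2)

* `exists_indep_of_iso`: an isomorphism `F|_U ≅ free I'` (any index type) gives sections over `U`
  which are independent over all smaller opens;
* `card_le_of_iso`: comparison of the ranks of two trivialisations around the same point;
* `exists_rank` (S6858).
-/

set_option backward.isDefEq.respectTransparency.types false
set_option autoImplicit false
universe u
open CategoryTheory CategoryTheory.Limits Opposite TopologicalSpace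

namespace Groth.Agent.Lib.R2H2.ModFTI

open Groth.Agent.Lib.R2H2.ModFTA Groth.Agent.Lib.R2H2.ModFTB Groth.Agent.Lib.R2H2.ModFTD
  Groth.Agent.Lib.R2H2.ModFTE Groth.Agent.Lib.R2H2.ModFTF Groth.Agent.Lib.R2H2.ModFTG

variable {X : TopCat.{u}} {O : TopCat.Sheaf CommRingCat.{u} X}

section Site

variable {D : Type u} [SmallCategory D] {K : GrothendieckTopology D} {R : Sheaf K RingCat.{u}}
  {T : D} (hT : IsTerminal T)

theorem indep_of_iso (M' : SheafOfModules.{u} R) (I' : Type u)
    (e : M' ≅ SheafOfModules.free I') (Y : D) {κ : Type*} [Fintype κ]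
    (φ : κ → I') (hφ : Function.Injective φ) (c : κ → R.obj.obj (op Y))
    (hc : ∑ k, c k • res M' (hT.from Y) (e.inv.val.app (op T) (bas (φ k) T)) = 0) :
    ∀ k, c k = 0 := by
  classical
  intro k₀
  have h1 : ∀ j : I', e.hom.val.app (op Y) (res M' (hT.from Y) (e.inv.val.app (op T) (bas j T))) =
      bas j Y := by
    intro j
    rw [← app_res, res_bas]
    exact congrArg (fun q => q.val.app (op Y) (bas j Y)) e.inv_hom_id
  have h3 := congrArg (e.hom.val.app (op Y)) hc
  rw [map_sum, map_zero] at h3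
  have h4 : ∑ k, c k • (bas (φ k) Y : (SheafOfModules.free (R := R) I').val.obj (op Y)) = 0 := by
    rw [← h3]
    refine Finset.sum_congr rfl (fun k _ => ?_)
    rw [map_smul, h1]
  have h5 := congrArg (coordL (φ k₀) Y) h4
  rw [map_sum, map_zero] at h5
  rw [← h5, Finset.sum_eq_single k₀]
  · rw [map_smul, coordL_bas, if_pos rfl, smul_eq_mul, mul_one]
  · intro k _ hk
    rw [map_smul, coordL_bas, if_neg (fun h => hk (hφ h)), smul_zero]
  · intro h
    exact absurd (Finset.mem_univ k₀) h

end Site

theorem exists_indep_of_iso (M : ModSite.Mod O) (U : Opens X) (I' : Type u)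
    (e : (ModSite.restr O U).obj M ≅ SheafOfModules.free I') :
    ∃ b' : I' → M.val.obj (op U), ∀ (V : Opens X) (hV : V ≤ U) {κ : Type u} [Fintype κ]
      (φ : κ → I') (_ : Function.Injective φ) (c : κ → RO O V),
      ∑ k, c k • rs O M hV (b' (φ k)) = 0 → ∀ k, c k = 0 := by
  refine ⟨fun j => e.inv.val.app (op (ovT U)) (bas j (ovT U)), ?_⟩
  intro V hV κ _ φ hφ c hc
  exact indep_of_iso (ovT_isTerminal U) ((ModSite.restr O U).obj M) I' e (Over.mk (homOfLE hV))
    φ hφ c hc

theorem nontrivial_stalkRing (x : X) [Nontrivial (O.presheaf.stalk x)] :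
    Nontrivial (ModSite.stalkRing (pt x) O) := by
  refine ⟨⟨0, 1, fun h => ?_⟩⟩
  have h1 : gr (O := O) x (Opens.mem_top x) 0 = gr (O := O) x (Opens.mem_top x) 1 := by
    rw [gr_zero, gr_one]
    exact h
  obtain ⟨W, hW, hxW, h2⟩ := (gr_eq_iff (O := O) (Opens.mem_top x) 0 1).1 h1
  rw [map_zero, map_one] at h2
  have h3 : (0 : O.presheaf.stalk x) = 1 := by
    have := congrArg (O.presheaf.germ W x hxW).hom h2
    exact (map_zero (O.presheaf.germ W x hxW).hom).symm.trans
      (this.trans (map_one (O.presheaf.germ W x hxW).hom))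
  exact zero_ne_one h3

theorem card_le_of_iso (F : ModSite.Mod O) (x : X) [Nontrivial (O.presheaf.stalk x)]
    {U U' : Opens X} (hxU : x ∈ U) (hxU' : x ∈ U') (I I' : Type u) [Fintype I]
    (e : Nonempty ((ModSite.restr O U).obj F ≅ SheafOfModules.free I))
    (e' : Nonempty ((ModSite.restr O U').obj F ≅ SheafOfModules.free I')) :
    Finite I' ∧ Nat.card I' ≤ Fintype.card I := by
  classical
  haveI := nontrivial_stalkRing (O := O) x
  obtain ⟨s, hgen, hind⟩ := (nonempty_iso_free_iff F U I).1 e
  obtain ⟨hsp, hli⟩ := basis_of_gen_indep F x hxU s hgen hind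
  let v : I → ModSite.stalkMod (pt x) F := fun k => gm x F hxU (s k)
  have hv_li : LinearIndependent (ModSite.stalkRing (pt x) O) v :=
    Fintype.linearIndependent_iff.2 hli
  have hv_sp : ⊤ ≤ Submodule.span (ModSite.stalkRing (pt x) O) (Set.range v) := by
    intro m _
    obtain ⟨c, hc⟩ := hsp m
    rw [hc]
    exact Submodule.sum_mem _
      (fun k _ => Submodule.smul_mem _ _ (Submodule.subset_span ⟨k, rfl⟩))
  let bH : Module.Basis I (ModSite.stalkRing (pt x) O) (ModSite.stalkMod (pt x) F) :=
    Module.Basis.mk hv_li hv_sp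
  haveI : Module.Finite (ModSite.stalkRing (pt x) O) (ModSite.stalkMod (pt x) F) :=
    Module.Finite.of_basis bH
  have hrank : Module.finrank (ModSite.stalkRing (pt x) O) (ModSite.stalkMod (pt x) F) =
      Fintype.card I := Module.finrank_eq_card_basis bH
  obtain ⟨e'⟩ := e'
  obtain ⟨b', hb'⟩ := exists_indep_of_iso F U' I' e'
  have key : ∀ J : Finset I', J.card ≤ Fintype.card I := by
    intro J
    have hJ : LinearIndependent (ModSite.stalkRing (pt x) O)
        (fun j : J => (gm x F hxU' (b' j.1) : ModSite.stalkMod (pt x) F)) := by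
      refine Fintype.linearIndependent_iff.2 ?_
      intro g hg j₀
      choose V hxV c₀ hc₀ using fun j : J => gr_surj (O := O) (g j)
      obtain ⟨V₁, hxV₁, hV₁⟩ := exists_common_nbhd x V hxV
      have hxV' : x ∈ V₁ ⊓ U' := ⟨hxV₁, hxU'⟩
      have hV'V : ∀ j, V₁ ⊓ U' ≤ V j := fun j => inf_le_left.trans (hV₁ j)
      have e1 : gm x F hxV' (∑ j : J, rr O (hV'V j) (c₀ j) • rs O F inf_le_right (b' j.1)) =
          gm x F hxV' 0 := by
        rw [gm_comb, gm_zero, ← hg]
        refine Finset.sum_congr rfl (fun j _ => ?_)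
        rw [gr_rr, hc₀, gm_rs]
      obtain ⟨W, hW, hxW, h2⟩ := (gm_eq_iff F hxV' _ _).1 e1
      rw [rs_zero, rs_sum] at h2
      have h3 : ∑ j : J, rr O hW (rr O (hV'V j) (c₀ j)) •
          rs O F (hW.trans inf_le_right) (b' j.1) = 0 := by
        rw [← h2]
        refine Finset.sum_congr rfl (fun j _ => ?_)
        rw [rs_smul, rs_rs]
      have h4 := hb' W (hW.trans inf_le_right) (fun j : J => j.1) Subtype.val_injective _ h3 j₀
      rw [← hc₀ j₀, ← gr_rr (hV'V j₀) hxV', ← gr_rr hW hxW, h4]
      exact gr_zero hxW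
    have := hJ.fintype_card_le_finrank
    rw [hrank, Fintype.card_coe] at this
    exact this
  have hfin : Finite I' := by
    by_contra hinf
    rw [not_finite_iff_infinite] at hinf
    obtain ⟨J, hJ⟩ := Infinite.exists_subset_card_eq I' (Fintype.card I + 1)
    have := key J
    omega
  refine ⟨hfin, ?_⟩
  haveI := Fintype.ofFinite I'
  rw [Nat.card_eq_fintype_card, ← Finset.card_univ]
  exact key Finset.univ

theorem enatCard_eq_of_iso (hO : ∀ x : X, Nontrivial (O.presheaf.stalk x)) (F : ModSite.Mod O)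
    (x : X) {U U' : Opens X} (hxU : x ∈ U) (hxU' : x ∈ U') (I I' : Type u)
    (e : Nonempty ((ModSite.restr O U).obj F ≅ SheafOfModules.free I))
    (e' : Nonempty ((ModSite.restr O U').obj F ≅ SheafOfModules.free I')) :
    ENat.card I = ENat.card I' := by
  classical
  haveI := hO x
  by_cases hI : Finite I
  · haveI := Fintype.ofFinite I
    obtain ⟨hfin', hle⟩ := card_le_of_iso F x hxU hxU' I I' e e'
    haveI := Fintype.ofFinite I'
    obtain ⟨-, hle'⟩ := card_le_of_iso F x hxU' hxU I' I e' e
    rw [ENat.card_eq_coe_fintype_card, ENat.card_eq_coe_fintype_card]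
    rw [Nat.card_eq_fintype_card] at hle hle'
    exact congrArg _ (le_antisymm hle' hle)
  · have hI' : ¬ Finite I' := by
      intro hfin'
      haveI := Fintype.ofFinite I'
      exact hI (card_le_of_iso F x hxU' hxU I' I e' e).1
    rw [not_finite_iff_infinite] at hI hI'
    rw [ENat.card_eq_top_of_infinite, ENat.card_eq_top_of_infinite]

/-- the rank of a locally free module is a locally constant function -/
theorem exists_rank (hO : ∀ x : X, Nontrivial (O.presheaf.stalk x)) (F : ModSite.Mod O)
    [SheafOfModules.IsLocallyFree (R := ModSite.ringSh O) F] :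
    ∃ rk : X → ℕ∞, IsLocallyConstant rk ∧
      ∀ (x : X) (U : Opens X) (I : Type u), x ∈ U →
        Nonempty ((ModSite.restr O U).obj F ≅ SheafOfModules.free I) → ENat.card I = rk x := by
  obtain ⟨q, hq⟩ := SheafOfModules.IsLocallyFree.exists_isLocallyFreeData (M := F)
  have hcov : ∀ x : X, ∃ i : q.I, x ∈ q.X i := by
    intro x
    obtain ⟨V, f, hf, hxV⟩ := q.coversTop ⊤ x (Set.mem_univ x)
    obtain ⟨i, ⟨g⟩⟩ := (Sieve.mem_ofObjects_iff ..).mp hf
    exact ⟨i, leOfHom g hxV⟩
  choose ix hix using hcov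
  have hiso : ∀ i : q.I, Nonempty ((ModSite.restr O (q.X i)).obj F ≅
      SheafOfModules.free (q.generators i).I) := fun i => ⟨(asIso (q.generators i).π).symm⟩
  refine ⟨fun x => ENat.card (q.generators (ix x)).I, ?_, ?_⟩
  · rw [IsLocallyConstant.iff_exists_open]
    intro x
    refine ⟨q.X (ix x), (q.X (ix x)).isOpen, hix x, fun x' hx' => ?_⟩
    exact enatCard_eq_of_iso hO F x' (hix x') hx' _ _ (hiso _) (hiso _)
  · intro x U I hxU hI
    exact enatCard_eq_of_iso hO F x hxU (hix x) I _ hI (hiso _)

end Groth.Agent.Lib.R2H2.ModFTI
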