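import Groth.Agent.Lib.R2H2ModFTB

/-!
# Pushforward of finite type modules along a closed immersion of ringed spaces
(helper2, round 2; S6846)
-/

set_option backward.isDefEq.respectTransparency.types false
set_option autoImplicit false
universe u
open CategoryTheory CategoryTheory.Limits Opposite TopologicalSpace

namespace Groth.Agent.Lib.R2H2.ModFTJ

open Groth.Agent.Lib.R2H2.ModFTA Groth.Agent.Lib.R2H2.ModFTB

variable {Z X : TopCat.{u}} (i : Z ⟶ X)
    (O_Z : TopCat.Sheaf CommRingCat.{u} Z) (O_X : TopCat.Sheaf CommRingCat.{u} X)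
    (c : O_X ⟶ ((TopologicalSpace.Opens.map i).sheafPushforwardContinuous CommRingCat.{u}
      (Opens.grothendieckTopology X) (Opens.grothendieckTopology Z)).obj O_Z)
    (F : ModSite.Mod O_Z)

/-- the pushforward module -/
noncomputable abbrev pF : ModSite.Mod O_X :=
  (ModSite.RMor.ofFlat (TopologicalSpace.Opens.map i) c).push.obj F

/-- the comorphism on sections -/
noncomputable def cs (V : Opens X) : RO O_X V →+* RO O_Z ((Opens.map i).obj V) :=
  (c.hom.app (op V)).hom

theorem mapLE {V W : Opens X} (h : W ≤ V) : (Opens.map i).obj W ≤ (Opens.map i).obj V :=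
  fun _ hz => h hz

/-- sections of the pushforward, viewed as sections of the module -/
def fromP {V : Opens X} (t : (pF i O_Z O_X c F).val.obj (op V)) :
    F.val.obj (op ((Opens.map i).obj V)) := t

/-- sections of the module, viewed as sections of the pushforward -/
def toP {V : Opens X} (t : F.val.obj (op ((Opens.map i).obj V))) :
    (pF i O_Z O_X c F).val.obj (op V) := t

theorem fromP_toP {V : Opens X} (t : F.val.obj (op ((Opens.map i).obj V))) :
    fromP i O_Z O_X c F (toP i O_Z O_X c F t) = t := rfl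

theorem toP_fromP {V : Opens X} (t : (pF i O_Z O_X c F).val.obj (op V)) :
    toP i O_Z O_X c F (fromP i O_Z O_X c F t) = t := rfl

theorem fromP_inj {V : Opens X} (a b : (pF i O_Z O_X c F).val.obj (op V))
    (h : fromP i O_Z O_X c F a = fromP i O_Z O_X c F b) : a = b := h

theorem fromP_rs {V W : Opens X} (h : W ≤ V) (t : (pF i O_Z O_X c F).val.obj (op V)) :
    fromP i O_Z O_X c F (rs O_X (pF i O_Z O_X c F) h t) =
      rs O_Z F (mapLE i h) (fromP i O_Z O_X c F t) := rfl

theorem fromP_sum_smul (V : Opens X) {σ : Type*} [Fintype σ] (cf : σ → RO O_X V)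
    (t : σ → (pF i O_Z O_X c F).val.obj (op V)) :
    fromP i O_Z O_X c F (∑ k, cf k • t k) =
      ∑ k, cs i O_Z O_X c V (cf k) • fromP i O_Z O_X c F (t k) := rfl

theorem cs_rr {V W : Opens X} (h : W ≤ V) (r : RO O_X V) :
    cs i O_Z O_X c W (rr O_X h r) = rr O_Z (mapLE i h) (cs i O_Z O_X c V r) := by
  have := c.hom.naturality (homOfLE h).op
  exact congrArg (fun q => q.hom r) this

variable {i O_Z O_X c}

theorem exists_lift_of_locSurj (hc : Sheaf.IsLocallySurjective c) (V : Opens X)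
    (s : RO O_Z ((Opens.map i).obj V)) (y : X) (hy : y ∈ V) :
    ∃ (W : Opens X) (hW : W ≤ V), y ∈ W ∧ ∃ r : RO O_X W,
      cs i O_Z O_X c W r = rr O_Z (mapLE i hW) s := by
  have h1 : Presheaf.IsLocallySurjective (Opens.grothendieckTopology X) c.hom := hc
  obtain ⟨W, f, ⟨r, hr⟩, hyW⟩ := h1.imageSieve_mem (U := V) s y hy
  exact ⟨W, leOfHom f, hyW, r, hr⟩

theorem eq_zero_of_empty {V : Opens Z} (h : ∀ z, z ∉ V) (t : F.val.obj (op V)) : t = 0 :=
  sec_ext F t 0 (fun y hy => absurd hy (h y))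

theorem exists_opens_preimage (hi : Topology.IsClosedEmbedding i) (V' : Opens Z) :
    ∃ V₀ : Opens X, (Opens.map i).obj V₀ ≤ V' ∧ V' ≤ (Opens.map i).obj V₀ := by
  obtain ⟨t, ht, hteq⟩ := hi.isInducing.isOpen_iff.1 V'.isOpen
  refine ⟨⟨t, ht⟩, ?_, ?_⟩
  · intro z hz
    have h : z ∈ i ⁻¹' t := hz
    rw [hteq] at h
    exact h
  · intro z hz
    have h : z ∈ i ⁻¹' t := by
      rw [hteq]
      exact hz
    exact h

theorem gen_of_gen_push (hi : Topology.IsClosedEmbedding i) {σ : Type u} [Fintype σ]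
    (U : Opens X) (s : σ → (pF i O_Z O_X c F).val.obj (op U))
    (h : Gen (pF i O_Z O_X c F) U s) :
    Gen F ((Opens.map i).obj U) (fun k => fromP i O_Z O_X c F (s k)) := by
  intro V' hV' t z' hz'
  obtain ⟨V₀, h01, h02⟩ := exists_opens_preimage hi V'
  have h2 : (Opens.map i).obj (V₀ ⊓ U) ≤ V' := fun z hz => h01 hz.1
  have h1 : V' ≤ (Opens.map i).obj (V₀ ⊓ U) := fun z hz => ⟨h02 hz, hV' hz⟩
  obtain ⟨W, hW, hyW, cf, hcf⟩ := h (V₀ ⊓ U) inf_le_right
    (toP i O_Z O_X c F (rs O_Z F h2 t)) (i z') (h1 hz')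
  refine ⟨(Opens.map i).obj W, (mapLE i hW).trans h2, hyW,
    fun k => cs i O_Z O_X c W (cf k), ?_⟩
  have e := congrArg (fromP i O_Z O_X c F) hcf
  rw [fromP_sum_smul, fromP_rs, fromP_toP, rs_rs] at e
  rw [← e]
  refine Finset.sum_congr rfl (fun k _ => ?_)
  rw [fromP_rs]

theorem exists_gen_push (hi : Topology.IsClosedEmbedding i) (hc : Sheaf.IsLocallySurjective c)
    [SheafOfModules.IsFiniteType (R := ModSite.ringSh O_Z) F] (x : X) :
    ∃ U : Opens X, x ∈ U ∧ ∃ (σ : Type u) (_ : Fintype σ)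
      (m : σ → (pF i O_Z O_X c F).val.obj (op U)), Gen (pF i O_Z O_X c F) U m := by
  classical
  by_cases hx : x ∈ Set.range i
  · obtain ⟨z, rfl⟩ := hx
    obtain ⟨U', hzU', σ, hσ, s, hs⟩ := (isFiniteType_iff F).1 inferInstance z
    obtain ⟨U₀, h01, h02⟩ := exists_opens_preimage hi U'
    refine ⟨U₀, h02 hzU', σ, hσ, fun k => toP i O_Z O_X c F (rs O_Z F h01 (s k)), ?_⟩
    intro V hV t y hy
    by_cases hy' : y ∈ Set.range i
    · obtain ⟨z', rfl⟩ := hy'
      have hVU' : (Opens.map i).obj V ≤ U' := (mapLE i hV).trans h01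
      obtain ⟨W', hW', hz'W', cf', hcf'⟩ := hs ((Opens.map i).obj V) hVU'
        (fromP i O_Z O_X c F t) z' hy
      obtain ⟨W₀, h1, h2⟩ := exists_opens_preimage hi W'
      have hW₁V : W₀ ⊓ V ≤ V := inf_le_right
      have g1 : (Opens.map i).obj (W₀ ⊓ V) ≤ W' := fun z hz => h1 hz.1
      have g2 : W' ≤ (Opens.map i).obj (W₀ ⊓ V) := fun z hz => ⟨h2 hz, hW' hz⟩
      have hyW₁ : i z' ∈ W₀ ⊓ V := g2 hz'W'
      choose Wk hWk hyWk r hr using fun k =>
        exists_lift_of_locSurj hc (W₀ ⊓ V) (rr O_Z g1 (cf' k)) (i z') hyW₁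
      obtain ⟨W₂, hyW₂, hW₂⟩ := exists_common_nbhd (i z') Wk hyWk
      refine ⟨W₂ ⊓ (W₀ ⊓ V), inf_le_right.trans hW₁V, ⟨hyW₂, hyW₁⟩,
        fun k => rr O_X (inf_le_left.trans (hW₂ k)) (r k), ?_⟩
      apply fromP_inj i O_Z O_X c F
      rw [fromP_sum_smul, fromP_rs]
      have e := congrArg (rs O_Z F ((mapLE i inf_le_right).trans g1 :
        (Opens.map i).obj (W₂ ⊓ (W₀ ⊓ V)) ≤ W')) hcf'
      rw [rs_sum, rs_rs] at e
      rw [← e]
      refine Finset.sum_congr rfl (fun k _ => ?_)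
      rw [rs_smul, fromP_rs, fromP_toP, rs_rs, rs_rs, cs_rr, hr, rr_rr, rr_rr]
    · refine ⟨V ⊓ ⟨(Set.range i)ᶜ, hi.isClosed_range.isOpen_compl⟩, inf_le_left, ⟨hy, hy'⟩,
        fun _ => 0, ?_⟩
      have hempty : ∀ z, z ∉ (Opens.map i).obj
          (V ⊓ ⟨(Set.range i)ᶜ, hi.isClosed_range.isOpen_compl⟩) :=
        fun z hz => hz.2 ⟨z, rfl⟩
      apply fromP_inj i O_Z O_X c F
      exact (eq_zero_of_empty (F := F) hempty _).trans (eq_zero_of_empty (F := F) hempty _).symm
  · refine ⟨⟨(Set.range i)ᶜ, hi.isClosed_range.isOpen_compl⟩, hx, PEmpty.{u + 1}, inferInstance,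
      fun k => PEmpty.elim k, ?_⟩
    intro V hV t y hy
    refine ⟨V, le_rfl, hy, fun k => PEmpty.elim k, ?_⟩
    have hempty : ∀ z, z ∉ (Opens.map i).obj V := fun z hz => hV hz ⟨z, rfl⟩
    apply fromP_inj i O_Z O_X c F
    exact (eq_zero_of_empty (F := F) hempty _).trans (eq_zero_of_empty (F := F) hempty _).symm

/-- finite type is preserved and detected by pushforward along a closed immersion of ringed
spaces -/
theorem isFiniteType_push_iff (hi : Topology.IsClosedEmbedding i)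
    (hc : Sheaf.IsLocallySurjective c) :
    SheafOfModules.IsFiniteType (R := ModSite.ringSh O_X) (pF i O_Z O_X c F) ↔
      SheafOfModules.IsFiniteType (R := ModSite.ringSh O_Z) F := by
  constructor
  · intro h
    rw [isFiniteType_iff]
    intro z
    obtain ⟨U, hxU, σ, hσ, s, hs⟩ := (isFiniteType_iff (pF i O_Z O_X c F)).1 h (i z)
    exact ⟨(Opens.map i).obj U, hxU, σ, hσ, _, gen_of_gen_push (F := F) hi U s hs⟩
  · intro h
    rw [isFiniteType_iff]
    intro x
    exact exists_gen_push (F := F) hi hc x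

end Groth.Agent.Lib.R2H2.ModFTJ
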