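import Mathlib

/-!
# Abstract "type A" objects in an abelian category (helper2, round 2)

In an abelian category with a class `PP` of objects having the local lifting property
(`LocLift`), objects of the form `Coker(Q ⟶ P)` with `P, Q ∈ PP`:
* `Ex f g`: exactness up to refinements;
* `typeA_kernel`: if kernels of maps between members of `PP` are of type A, so are kernels of maps
  between objects of type A.
-/

set_option backward.isDefEq.respectTransparency.types false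
set_option autoImplicit false
open CategoryTheory CategoryTheory.Limits

namespace Groth.Agent.Lib.R2H2.ModQcC

variable {A : Type*} [Category A] [Abelian A]

/-- exactness, in terms of refinements -/
def Ex {X Y Z : A} (f : X ⟶ Y) (g : Y ⟶ Z) : Prop :=
  f ≫ g = 0 ∧ ∀ ⦃T : A⦄ (x : T ⟶ Y), x ≫ g = 0 →
    ∃ (T' : A) (π : T' ⟶ T) (_ : Epi π) (x₁ : T' ⟶ X), π ≫ x = x₁ ≫ f

theorem ex_iff {X Y Z : A} (f : X ⟶ Y) (g : Y ⟶ Z) (w : f ≫ g = 0) :
    Ex f g ↔ (ShortComplex.mk f g w).Exact := by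
  rw [ShortComplex.exact_iff_exact_up_to_refinements]
  exact ⟨fun h => h.2, fun h => ⟨w, h⟩⟩

theorem ex_cokernel {X Y : A} (f : X ⟶ Y) : Ex f (cokernel.π f) :=
  (ex_iff f (cokernel.π f) (cokernel.condition f)).2 (ShortComplex.cokernelSequence_exact f)

theorem ex_kernel {X Y : A} (f : X ⟶ Y) : Ex (kernel.ι f) f :=
  (ex_iff (kernel.ι f) f (kernel.condition f)).2 (ShortComplex.kernelSequence_exact f)

/-- postcomposing the second map with a monomorphism -/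
theorem Ex.comp_mono {X Y Z Z' : A} {f : X ⟶ Y} {g : Y ⟶ Z} (h : Ex f g) (i : Z ⟶ Z') [Mono i] :
    Ex f (g ≫ i) := by
  refine ⟨by rw [← Category.assoc, h.1, zero_comp], ?_⟩
  intro T x hx
  apply h.2 x
  rw [← cancel_mono i, Category.assoc, hx, zero_comp]

theorem Ex.of_comp_mono {X Y Z Z' : A} {f : X ⟶ Y} {g : Y ⟶ Z} (i : Z ⟶ Z') [Mono i]
    (h : Ex f (g ≫ i)) : Ex f g := by
  refine ⟨by rw [← cancel_mono i, Category.assoc, h.1, zero_comp], ?_⟩
  intro T x hx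
  apply h.2 x
  rw [← Category.assoc, hx, zero_comp]

/-- if `(d, e ≫ α)` is exact and `e` is epi then `(d ≫ e, α)` is exact -/
theorem Ex.comp_epi {X Y Y' Z : A} {d : X ⟶ Y} {e : Y ⟶ Y'} {α : Y' ⟶ Z} [Epi e]
    (h : Ex d (e ≫ α)) : Ex (d ≫ e) α := by
  refine ⟨by rw [Category.assoc]; exact h.1, ?_⟩
  intro T x hx
  obtain ⟨T₁, π₁, hπ₁, y, hy⟩ := surjective_up_to_refinements_of_epi e x
  obtain ⟨T₂, π₂, hπ₂, z, hz⟩ := h.2 y (by rw [← Category.assoc, ← hy, Category.assoc, hx, comp_zero])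
  refine ⟨T₂, π₂ ≫ π₁, epi_comp _ _, z, ?_⟩
  rw [Category.assoc, hy, ← Category.assoc, hz, Category.assoc]

/-- two consecutive exact pairs: `Coker f ≅ Ker h` -/
theorem nonempty_cokernel_iso_kernel {X₁ X₂ X₃ X₄ : A} {f : X₁ ⟶ X₂} {g : X₂ ⟶ X₃} {h : X₃ ⟶ X₄}
    (h1 : Ex f g) (h2 : Ex g h) : Nonempty (cokernel f ≅ kernel h) := by
  have e1 := (ex_iff f g h1.1).1 h1
  have e2 := (ex_iff g h h2.1).1 h2
  have m1 : Mono (cokernel.desc f g h1.1) := e1.mono_cokernelDesc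
  have m2 : Epi (kernel.lift h g h2.1) := e2.epi_kernelLift
  let u : cokernel f ⟶ kernel h := cokernel.desc f (kernel.lift h g h2.1) (by
    rw [← cancel_mono (kernel.ι h), Category.assoc, kernel.lift_ι, h1.1, zero_comp])
  have hu1 : u ≫ kernel.ι h = cokernel.desc f g h1.1 := by
    apply coequalizer.hom_ext
    simp [u]
  have hu2 : cokernel.π f ≫ u = kernel.lift h g h2.1 := by simp [u]
  haveI : Mono u := mono_of_mono_fac hu1
  haveI : Epi u := epi_of_epi_fac hu2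
  haveI : IsIso u := isIso_of_mono_of_epi u
  exact ⟨asIso u⟩

variable (PP : A → Prop)

/-- the local lifting property of a class of objects -/
def LocLift : Prop :=
  ∀ ⦃P M N : A⦄ (_ : PP P) (φ : P ⟶ N) (q : M ⟶ N) [Epi q],
    ∃ (P' : A) (_ : PP P') (a : P' ⟶ P) (_ : Epi a) (β : P' ⟶ M), β ≫ q = a ≫ φ

/-- cokernels of maps between members of `PP` -/
def TypeA (M : A) : Prop :=
  ∃ (Q P : A) (_ : PP Q) (_ : PP P) (ψ : Q ⟶ P), Nonempty (M ≅ cokernel ψ)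

/-- quotients of members of `PP` -/
def FG (M : A) : Prop := ∃ (P : A) (_ : PP P) (p : P ⟶ M), Epi p

variable {PP}

theorem TypeA.fg {M : A} (h : TypeA PP M) : FG PP M := by
  obtain ⟨Q, P, hQ, hP, ψ, ⟨e⟩⟩ := h
  exact ⟨P, hP, cokernel.π ψ ≫ e.inv, epi_comp _ _⟩

/-- preimage of the image of `ψ` under `f`, for `f, ψ` maps between members of `PP` -/
theorem exists_ex_of_kernel (hbi : ∀ X Y : A, PP X → PP Y → PP (X ⊞ Y))
    (hK : ∀ (X Y : A) (f : X ⟶ Y), PP X → PP Y → TypeA PP (kernel f))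
    {X Q Y : A} (hX : PP X) (hQ : PP Q) (hY : PP Y) (f : X ⟶ Y) (ψ : Q ⟶ Y) :
    ∃ (P₃ : A) (_ : PP P₃) (d : P₃ ⟶ X), Ex d (f ≫ cokernel.π ψ) := by
  let γ : X ⊞ Q ⟶ Y := biprod.desc f (-ψ)
  obtain ⟨P₃, hP₃, e, he⟩ := (hK _ _ γ (hbi X Q hX hQ) hY).fg
  refine ⟨P₃, hP₃, e ≫ kernel.ι γ ≫ biprod.fst, ?_, ?_⟩
  · have h1 : kernel.ι γ ≫ biprod.fst ≫ f = kernel.ι γ ≫ biprod.snd ≫ ψ := by
      have h3 : γ = biprod.fst ≫ f - biprod.snd ≫ ψ := by
        apply biprod.hom_ext' <;> simp [γ]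
      have h2 : kernel.ι γ ≫ (biprod.fst ≫ f - biprod.snd ≫ ψ) = 0 := by
        rw [← h3]
        exact kernel.condition γ
      rw [Preadditive.comp_sub, sub_eq_zero] at h2
      exact h2
    simp only [Category.assoc]
    rw [reassoc_of% h1, cokernel.condition, comp_zero, comp_zero, comp_zero]
  · intro T x hx
    obtain ⟨T₁, π₁, hπ₁, c, hc⟩ := (ex_cokernel ψ).2 (x ≫ f) (by rw [Category.assoc]; exact hx)
    have h4 : biprod.lift (π₁ ≫ x) c ≫ γ = 0 := by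
      simp only [γ, biprod.lift_desc, Preadditive.comp_neg, Category.assoc]
      rw [hc]
      simp
    haveI := he
    obtain ⟨T₂, π₂, hπ₂, z, hz⟩ := surjective_up_to_refinements_of_epi e (kernel.lift γ _ h4)
    refine ⟨T₂, π₂ ≫ π₁, epi_comp _ _, z, ?_⟩
    rw [← Category.assoc z, ← hz]
    simp

/-- kernels of maps between type A objects are of type A (given the kernel hypothesis on `PP`) -/
theorem typeA_kernel (hbi : ∀ X Y : A, PP X → PP Y → PP (X ⊞ Y)) (hL : LocLift PP)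
    (hK : ∀ (X Y : A) (f : X ⟶ Y), PP X → PP Y → TypeA PP (kernel f))
    {F G : A} (α : F ⟶ G) (hF : TypeA PP F) (hG : TypeA PP G) : TypeA PP (kernel α) := by
  obtain ⟨Q, P, hQ, hP, ψ, ⟨eF⟩⟩ := hF
  obtain ⟨Q', P', hQ', hP', ψ', ⟨eG⟩⟩ := hG
  let p : P ⟶ F := cokernel.π ψ ≫ eF.inv
  let q : P' ⟶ G := cokernel.π ψ' ≫ eG.inv
  obtain ⟨P₁, hP₁, a, ha, β, hβ⟩ := hL hP (p ≫ α) q
  haveI := ha
  obtain ⟨P₃, hP₃, d, hd⟩ := exists_ex_of_kernel hbi hK hP₁ hQ' hP' β ψ'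
  -- `(d ≫ a ≫ p, α)` is exact
  have h1 : Ex d ((a ≫ p) ≫ α) := by
    have h2 : (a ≫ p) ≫ α = (β ≫ cokernel.π ψ') ≫ eG.inv :=
      (Category.assoc _ _ _).trans (hβ.symm.trans (Category.assoc _ _ _).symm)
    rw [h2]
    exact hd.comp_mono eG.inv
  have h3 : Ex (d ≫ a ≫ p) α := h1.comp_epi
  obtain ⟨P₄, hP₄, d', hd'⟩ := exists_ex_of_kernel hbi hK hP₃ hQ hP (d ≫ a) ψ
  have h4 : Ex d' (d ≫ a ≫ p) := by
    have h5 : d ≫ a ≫ p = ((d ≫ a) ≫ cokernel.π ψ) ≫ eF.inv := by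
      change d ≫ a ≫ cokernel.π ψ ≫ eF.inv = _
      simp only [Category.assoc]
    rw [h5]
    exact hd'.comp_mono eF.inv
  obtain ⟨iso⟩ := nonempty_cokernel_iso_kernel h4 h3
  exact ⟨P₄, P₃, hP₄, hP₃, d', ⟨iso.symm⟩⟩

end Groth.Agent.Lib.R2H2.ModQcC
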