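import Mathlib
import Groth.Prelude.Def_ModSite
import Groth.Prelude.Def_CohCx
import Groth.Agent.Lib.Helper23FreeOn
import Groth.Agent.Lib.R2H2ModFTA
import Groth.Agent.Lib.R2H2ModQcA
import Groth.Agent.Lib.R2H2ModQcB
import Groth.Agent.Lib.R2H2ModQcC

/-!
# Finite free-on modules on a ringed site and the local lifting property (helper2, round 2)

* `FinFree O B P`: `P ≅ ⊕_{i ≤ n} j_{U_i!} O` with `U_i ∈ B`;
* closed under biproducts (`finFree_biprod`), has the local lifting property (`locLift`);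
* dictionary between `ModQcB.TypeA O B` and `ModQcC.TypeA (FinFree O B)`;
* `kernel_typeA` (S9117).
-/

set_option backward.isDefEq.respectTransparency.types false
set_option autoImplicit false
universe u
open CategoryTheory CategoryTheory.Limits Opposite

namespace Groth.Agent.Lib.R2H2.ModQcD

open Groth.Agent.Lib.R2H2.ModFTA Groth.Agent.Lib.R2H2.ModQcA Groth.Agent.Lib.Helper23FreeOn
open Groth.Agent.Lib.R2H2.ModQcB

variable {C : Type u} [SmallCategory C] {J : GrothendieckTopology C} (O : Sheaf J CommRingCat.{u})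

/-- finite direct sums of `j_{U!} O_U` with `U ∈ B` -/
def FinFree (B : Set C) (P : ModSite.Mod O) : Prop :=
  ∃ (n : ℕ) (U : Fin n → C), (∀ i, U i ∈ B) ∧ Nonempty (P ≅ ∐ fun i => ModSite.freeOn O (U i))

theorem finFree_of_iso (B : Set C) {P P' : ModSite.Mod O} (e : P ≅ P') (h : FinFree O B P) :
    FinFree O B P' := by
  obtain ⟨n, U, hU, ⟨e'⟩⟩ := h
  exact ⟨n, U, hU, ⟨e.symm ≪≫ e'⟩⟩

theorem finFree_sigma (B : Set C) {σ : Type*} [Finite σ] (U : σ → C) (hU : ∀ i, U i ∈ B) :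
    FinFree O B (∐ fun i => ModSite.freeOn O (U i)) := by
  obtain ⟨m, ⟨e1⟩⟩ := Finite.exists_equiv_fin σ
  exact ⟨m, fun j => U (e1.symm j), fun j => hU _,
    ⟨(Sigma.reindex e1.symm (fun j => ModSite.freeOn O (U j))).symm⟩⟩

theorem finFree_biprod (B : Set C) (P P' : ModSite.Mod O) (h : FinFree O B P)
    (h' : FinFree O B P') : FinFree O B (P ⊞ P') := by
  obtain ⟨n, U, hU, ⟨e⟩⟩ := h
  obtain ⟨n', U', hU', ⟨e'⟩⟩ := h'
  let S₁ : ModSite.Mod O := ∐ fun i => ModSite.freeOn O (U i)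
  let S₂ : ModSite.Mod O := ∐ fun i => ModSite.freeOn O (U' i)
  let f : Fin n ⊕ Fin n' → ModSite.Mod O := fun k => ModSite.freeOn O (Sum.elim U U' k)
  let S : ModSite.Mod O := ∐ f
  let toS : S₁ ⊞ S₂ ⟶ S := biprod.desc
    (Sigma.desc fun i => (Sigma.ι f (Sum.inl i) : ModSite.freeOn O (U i) ⟶ S))
    (Sigma.desc fun j => (Sigma.ι f (Sum.inr j) : ModSite.freeOn O (U' j) ⟶ S))
  let comp : ∀ k, f k ⟶ S₁ ⊞ S₂ := fun k =>
    match k with
    | .inl i => (Sigma.ι (fun i => ModSite.freeOn O (U i)) i ≫ biprod.inl : f (Sum.inl i) ⟶ S₁ ⊞ S₂)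
    | .inr j => (Sigma.ι (fun i => ModSite.freeOn O (U' i)) j ≫ biprod.inr : f (Sum.inr j) ⟶ S₁ ⊞ S₂)
  let fromS : S ⟶ S₁ ⊞ S₂ := Sigma.desc comp
  have hc : ∀ k, Sigma.ι f k ≫ fromS = comp k := fun k => Sigma.ι_desc _ _
  have ht1 : ∀ i, Sigma.ι (fun i => ModSite.freeOn O (U i)) i ≫ biprod.inl ≫ toS =
      Sigma.ι f (Sum.inl i) := by
    intro i
    simp only [toS, biprod.inl_desc]
    exact Sigma.ι_desc _ _
  have ht2 : ∀ j, Sigma.ι (fun i => ModSite.freeOn O (U' i)) j ≫ biprod.inr ≫ toS =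
      Sigma.ι f (Sum.inr j) := by
    intro j
    simp only [toS, biprod.inr_desc]
    exact Sigma.ι_desc _ _
  have h1 : toS ≫ fromS = 𝟙 _ := by
    apply biprod.hom_ext'
    · apply Sigma.hom_ext
      intro i
      rw [← Category.assoc, ← Category.assoc, Category.assoc _ biprod.inl, ht1 i]
      refine (hc (Sum.inl i)).trans ?_
      rw [Category.comp_id]
      rfl
    · apply Sigma.hom_ext
      intro j
      rw [← Category.assoc, ← Category.assoc, Category.assoc _ biprod.inr, ht2 j]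
      refine (hc (Sum.inr j)).trans ?_
      rw [Category.comp_id]
      rfl
  have h2 : fromS ≫ toS = 𝟙 _ := by
    apply Sigma.hom_ext
    rintro (i | j)
    · rw [← Category.assoc, Category.comp_id]
      refine (congrArg (fun q => q ≫ toS) (hc (Sum.inl i))).trans ?_
      change (Sigma.ι (fun i => ModSite.freeOn O (U i)) i ≫ biprod.inl) ≫ toS = _
      rw [Category.assoc, ht1 i]
    · rw [← Category.assoc, Category.comp_id]
      refine (congrArg (fun q => q ≫ toS) (hc (Sum.inr j))).trans ?_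
      change (Sigma.ι (fun i => ModSite.freeOn O (U' i)) j ≫ biprod.inr) ≫ toS = _
      rw [Category.assoc, ht2 j]
  have hS : FinFree O B S := finFree_sigma O B (Sum.elim U U') (by
    rintro (i | j)
    · exact hU i
    · exact hU' j)
  exact finFree_of_iso O B (⟨fromS, toS, h2, h1⟩ ≪≫ (biprod.mapIso e e').symm) hS

/-- refine a finite free-on module by finitely many members of `B` so that a given map to the
target of an epimorphism lifts -/
theorem exists_cover_lift (B : Set C)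
    (hB₁ : ∀ X : C, ∃ (κ : Type u) (Y : κ → C) (g : ∀ k, Y k ⟶ X),
      Sieve.ofArrows Y g ∈ J X ∧ ∀ k, Y k ∈ B)
    (hB₂ : ∀ U ∈ B, CohCx.IsQcObject (hS J U)) {n : ℕ} (U : Fin n → C) (hU : ∀ i, U i ∈ B)
    {M N : ModSite.Mod O} (φ : (∐ fun i => ModSite.freeOn O (U i)) ⟶ N) (q : M ⟶ N) [Epi q] :
    ∃ (κ : Fin n → Type u) (_ : ∀ i, Finite (κ i)) (W : ∀ i, κ i → C) (g : ∀ i k, W i k ⟶ U i),
      (∀ i, Sieve.ofArrows (W i) (g i) ∈ J (U i)) ∧ (∀ i k, W i k ∈ B) ∧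
      ∃ β : (∐ fun ik : Σ i, κ i => ModSite.freeOn O (W ik.1 ik.2)) ⟶ M,
        β ≫ q = (Sigma.desc (fun ik : Σ i, κ i =>
          resHom O (∐ fun i => ModSite.freeOn O (U i)) (g ik.1 ik.2)
            ((Sigma.ι (fun i => ModSite.freeOn O (U i)) ik.1).val.app _ (taut O (U ik.1))))) ≫ φ := by
  let P : ModSite.Mod O := ∐ fun i => ModSite.freeOn O (U i)
  let e : ∀ i, P.val.obj (op (U i)) := fun i =>
    (Sigma.ι (fun i => ModSite.freeOn O (U i)) i).val.app _ (taut O (U i))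
  let s : ∀ i, N.val.obj (op (U i)) := fun i => φ.val.app _ (e i)
  have key : ∀ i, ∃ (t : Type u) (_ : Finite t) (W : t → C) (g : ∀ k, W k ⟶ U i),
      Sieve.ofArrows W g ∈ J (U i) ∧ (∀ k, W k ∈ B) ∧
        ∀ k, ∃ x : M.val.obj (op (W k)), q.val.app _ x = res N (g k) (s i) := by
    intro i
    obtain ⟨S, hS, hS'⟩ := locSurj_of_epi q (U i) (s i)
    obtain ⟨t, ht, W, g, hg, hWB, hgS⟩ := exists_finite_B_cover B hB₁ (U i) (hB₂ _ (hU i)) S hS
    exact ⟨t, ht, W, g, hg, hWB, fun k => hS' (g k) (hgS k)⟩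
  choose κ hκ W g hg hWB x hx using key
  refine ⟨κ, hκ, W, g, hg, hWB,
    Sigma.desc (fun ik => (homEquiv O M _).symm (x ik.1 ik.2)), ?_⟩
  apply Sigma.hom_ext
  intro ik
  rw [← Category.assoc, ← Category.assoc, Sigma.ι_desc, Sigma.ι_desc,
    homEquiv_symm_comp, resHom_comp, hx]
  rfl

/-- the class of finite free-on modules has the local lifting property -/
theorem locLift (B : Set C)
    (hB₁ : ∀ X : C, ∃ (κ : Type u) (Y : κ → C) (g : ∀ k, Y k ⟶ X),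
      Sieve.ofArrows Y g ∈ J X ∧ ∀ k, Y k ∈ B)
    (hB₂ : ∀ U ∈ B, CohCx.IsQcObject (hS J U)) :
    ModQcC.LocLift (FinFree O B) := by
  intro P M N hP φ q _
  obtain ⟨n, U, hU, ⟨e⟩⟩ := hP
  obtain ⟨κ, hκ, W, g, hg, hWB, β, hβ⟩ := exists_cover_lift O B hB₁ hB₂ U hU (e.inv ≫ φ) q
  haveI : ∀ i, Finite (κ i) := hκ
  haveI := epi_desc_resHom O U κ W g hg
  refine ⟨_, finFree_sigma O B (fun ik : Σ i, κ i => W ik.1 ik.2) (fun ik => hWB _ _),
    (Sigma.desc (fun ik : Σ i, κ i =>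
          resHom O (∐ fun i => ModSite.freeOn O (U i)) (g ik.1 ik.2)
            ((Sigma.ι (fun i => ModSite.freeOn O (U i)) ik.1).val.app _ (taut O (U ik.1))))) ≫ e.inv,
    epi_comp _ _, β, ?_⟩
  rw [hβ, Category.assoc]

/-- dictionary: concrete type A ⇒ abstract type A -/
theorem typeA_abs (B : Set C) {M : ModSite.Mod O} (h : ModQcB.TypeA O B M) :
    ModQcC.TypeA (FinFree O B) M := by
  obtain ⟨m, n, V, U, ψ, hV, hU, ⟨e⟩⟩ := h
  exact ⟨_, _, ⟨m, V, hV, ⟨Iso.refl _⟩⟩, ⟨n, U, hU, ⟨Iso.refl _⟩⟩, ψ, ⟨e⟩⟩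

/-- dictionary: abstract type A ⇒ concrete type A -/
theorem typeA_conc (B : Set C) {M : ModSite.Mod O} (h : ModQcC.TypeA (FinFree O B) M) :
    ModQcB.TypeA O B M := by
  obtain ⟨Q, P, ⟨m, V, hV, ⟨eQ⟩⟩, ⟨n, U, hU, ⟨eP⟩⟩, ψ, ⟨e⟩⟩ := h
  refine ⟨m, n, V, U, eQ.inv ≫ ψ ≫ eP.hom, hV, hU, ⟨e ≪≫ ?_⟩⟩
  refine cokernel.mapIso ψ (eQ.inv ≫ ψ ≫ eP.hom) eQ eP ?_
  simp

/-- S9117: kernels of maps between type A modules are of type A, given that kernels of maps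
between finite free-on modules are of type A -/
theorem kernel_typeA (B : Set C)
    (hB₁ : ∀ X : C, ∃ (κ : Type u) (Y : κ → C) (g : ∀ k, Y k ⟶ X),
      Sieve.ofArrows Y g ∈ J X ∧ ∀ k, Y k ∈ B)
    (hB₂ : ∀ U ∈ B, CohCx.IsQcObject (hS J U))
    (hker : ∀ (m n : ℕ) (V : Fin m → C) (U : Fin n → C)
      (φ : (∐ fun j => ModSite.freeOn O (V j)) ⟶ ∐ fun i => ModSite.freeOn O (U i)),
      (∀ j, V j ∈ B) → (∀ i, U i ∈ B) → ModQcB.TypeA O B (kernel φ))
    (F G : ModSite.Mod O) (α : F ⟶ G) (hF : ModQcB.TypeA O B F) (hG : ModQcB.TypeA O B G) :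
    ModQcB.TypeA O B (kernel α) := by
  apply typeA_conc
  refine ModQcC.typeA_kernel (finFree_biprod O B) (locLift O B hB₁ hB₂) ?_ α
    (typeA_abs O B hF) (typeA_abs O B hG)
  intro X Y f hX hY
  obtain ⟨m, V, hV, ⟨eX⟩⟩ := hX
  obtain ⟨n, U, hU, ⟨eY⟩⟩ := hY
  have h1 := typeA_abs O B (hker m n V U (eX.inv ≫ f ≫ eY.hom) hV hU)
  obtain ⟨Q, P, hQ, hP, ψ, ⟨e⟩⟩ := h1
  refine ⟨Q, P, hQ, hP, ψ, ⟨?_ ≪≫ e⟩⟩
  refine kernel.mapIso f (eX.inv ≫ f ≫ eY.hom) eX eY ?_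
  simp

end Groth.Agent.Lib.R2H2.ModQcD
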