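import Mathlib
import Groth.Agent.Lib.R2H2ModQcC

/-!
# Abstract "type A" objects: extensions (helper2, round 2)

In an abelian category with a class `PP` of objects closed under biproducts and having the strong
local lifting property (`LocLiftS`: refinements have finitely generated kernels), objects of type A
are closed under extensions (`typeA_extension`).
-/

set_option backward.isDefEq.respectTransparency.types false
set_option autoImplicit false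
open CategoryTheory CategoryTheory.Limits

namespace Groth.Agent.Lib.R2H2.ModQcE

open Groth.Agent.Lib.R2H2.ModQcC

variable {A : Type*} [Category A] [Abelian A] (PP : A → Prop)

/-- the kernel of `ε` is a quotient of a member of `PP` -/
def FGK {P F : A} (ε : P ⟶ F) : Prop := ∃ (Q : A) (_ : PP Q) (ψ : Q ⟶ P), Ex ψ ε

/-- strong local lifting property: the refinement has a finitely generated kernel -/
def LocLiftS : Prop :=
  ∀ ⦃P M N : A⦄ (_ : PP P) (φ : P ⟶ N) (q : M ⟶ N) [Epi q],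
    ∃ (P' : A) (_ : PP P') (a : P' ⟶ P) (_ : Epi a) (β : P' ⟶ M), β ≫ q = a ≫ φ ∧ FGK PP a

variable {PP}

theorem LocLiftS.locLift (h : LocLiftS PP) : LocLift PP := by
  intro P M N hP φ q _
  obtain ⟨P', hP', a, ha, β, hβ, -⟩ := h hP φ q
  exact ⟨P', hP', a, ha, β, hβ⟩

theorem Ex.lift {X Y Z : A} {i : X ⟶ Y} {π : Y ⟶ Z} [Mono i] (h : Ex i π) {T : A} (x : T ⟶ Y)
    (hx : x ≫ π = 0) : ∃ y : T ⟶ X, y ≫ i = x := by
  have e := (ex_iff i π h.1).1 h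
  exact ⟨e.lift x hx, e.lift_f x hx⟩

theorem nonempty_iso_cokernel_of_ex_epi {Q P F : A} {ψ : Q ⟶ P} {ε : P ⟶ F} (h : Ex ψ ε) [Epi ε] :
    Nonempty (F ≅ cokernel ψ) := by
  have e := (ex_iff ψ ε h.1).1 h
  haveI : Mono (cokernel.desc ψ ε h.1) := e.mono_cokernelDesc
  haveI : Epi (cokernel.desc ψ ε h.1) := epi_of_epi_fac (cokernel.π_desc ψ ε h.1)
  haveI : IsIso (cokernel.desc ψ ε h.1) := isIso_of_mono_of_epi _
  exact ⟨(asIso (cokernel.desc ψ ε h.1)).symm⟩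

/-- composition of an epimorphism with f.g. kernel and a map with f.g. kernel -/
theorem fgk_comp (hbi : ∀ X Y : A, PP X → PP Y → PP (X ⊞ Y)) (hL : LocLift PP)
    {P' P F : A} (a : P' ⟶ P) [Epi a] (ε : P ⟶ F) (ha : FGK PP a) (hε : FGK PP ε) :
    FGK PP (a ≫ ε) := by
  obtain ⟨R, hR, r, hr⟩ := ha
  obtain ⟨Q, hQ, ψ, hψ⟩ := hε
  obtain ⟨Q', hQ', aQ, haQ, ψ', hψ'⟩ := hL hQ ψ a
  haveI := haQ
  refine ⟨R ⊞ Q', hbi _ _ hR hQ', biprod.desc r ψ', ?_, ?_⟩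
  · apply biprod.hom_ext'
    · rw [biprod.inl_desc_assoc, comp_zero, ← Category.assoc, hr.1, zero_comp]
    · rw [biprod.inr_desc_assoc, comp_zero, ← Category.assoc, hψ', Category.assoc, hψ.1, comp_zero]
  · intro T x hx
    obtain ⟨T₁, π₁, hπ₁, z, hz⟩ := hψ.2 (x ≫ a) (by rw [Category.assoc]; exact hx)
    obtain ⟨T₂, π₂, hπ₂, z', hz'⟩ := surjective_up_to_refinements_of_epi aQ z
    have h1 : (π₂ ≫ π₁ ≫ x - z' ≫ ψ') ≫ a = 0 := by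
      rw [Preadditive.sub_comp, Category.assoc, Category.assoc, Category.assoc, hψ',
        hz, reassoc_of% hz', sub_self]
    obtain ⟨T₃, π₃, hπ₃, w, hw⟩ := hr.2 _ h1
    refine ⟨T₃, π₃ ≫ π₂ ≫ π₁, epi_comp _ _, biprod.lift w (π₃ ≫ z'), ?_⟩
    rw [biprod.lift_desc, ← hw, Preadditive.comp_sub]
    simp only [Category.assoc]
    abel

/-- the horseshoe: epimorphism part -/
theorem epi_horseshoe {F₁ F₂ F₃ P₁ P₃ : A} {i : F₁ ⟶ F₂} {π : F₂ ⟶ F₃} (hex : Ex i π)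
    (p₁ : P₁ ⟶ F₁) [Epi p₁] (β : P₃ ⟶ F₂) [Epi (β ≫ π)] :
    Epi (biprod.desc (p₁ ≫ i) β) := by
  rw [epi_iff_surjective_up_to_refinements]
  intro T x
  obtain ⟨T₁, π₁, hπ₁, y, hy⟩ := surjective_up_to_refinements_of_epi (β ≫ π) (x ≫ π)
  have h1 : (π₁ ≫ x - y ≫ β) ≫ π = 0 := by
    rw [Preadditive.sub_comp, Category.assoc, Category.assoc, hy, sub_self]
  obtain ⟨T₂, π₂, hπ₂, z, hz⟩ := hex.2 _ h1
  obtain ⟨T₃, π₃, hπ₃, w, hw⟩ := surjective_up_to_refinements_of_epi p₁ z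
  refine ⟨T₃, π₃ ≫ π₂ ≫ π₁, epi_comp _ _, biprod.lift w (π₃ ≫ π₂ ≫ y), ?_⟩
  rw [biprod.lift_desc, ← reassoc_of% hw, ← hz, Preadditive.comp_sub, Preadditive.comp_sub]
  simp only [Category.assoc]
  abel

/-- the horseshoe: finite generation of the kernel -/
theorem fgk_horseshoe (hbi : ∀ X Y : A, PP X → PP Y → PP (X ⊞ Y)) (hL : LocLift PP)
    {F₁ F₂ F₃ P₁ P₃ : A} {i : F₁ ⟶ F₂} {π : F₂ ⟶ F₃} [Mono i] (hex : Ex i π)
    (p₁ : P₁ ⟶ F₁) [Epi p₁] (β : P₃ ⟶ F₂) (h₁ : FGK PP p₁) (h₃ : FGK PP (β ≫ π)) :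
    FGK PP (biprod.desc (p₁ ≫ i) β) := by
  obtain ⟨Q₁, hQ₁, ψ₁, hψ₁⟩ := h₁
  obtain ⟨Q₃, hQ₃, ψ₃, hψ₃⟩ := h₃
  obtain ⟨θ, hθ⟩ := Ex.lift hex (ψ₃ ≫ β) (by rw [Category.assoc]; exact hψ₃.1)
  obtain ⟨Q₃', hQ₃', a', ha', θ', hθ'⟩ := hL hQ₃ θ p₁
  haveI := ha'
  refine ⟨Q₁ ⊞ Q₃', hbi _ _ hQ₁ hQ₃',
    biprod.desc (ψ₁ ≫ biprod.inl) (biprod.lift (-θ') (a' ≫ ψ₃)), ?_, ?_⟩
  · apply biprod.hom_ext'
    · rw [biprod.inl_desc_assoc, comp_zero, Category.assoc, biprod.inl_desc,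
        ← Category.assoc, hψ₁.1, zero_comp]
    · rw [biprod.inr_desc_assoc, comp_zero, biprod.lift_desc, Preadditive.neg_comp,
        ← Category.assoc, hθ', Category.assoc, Category.assoc, hθ]
      exact neg_add_cancel _
  · intro T x hx
    have hx' : x ≫ biprod.fst ≫ p₁ ≫ i + x ≫ biprod.snd ≫ β = 0 := by
      have h2 : biprod.desc (p₁ ≫ i) β = biprod.fst ≫ p₁ ≫ i + biprod.snd ≫ β := by
        apply biprod.hom_ext' <;> simp
      rw [h2, Preadditive.comp_add] at hx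
      exact hx
    have h3 : (x ≫ biprod.snd) ≫ β ≫ π = 0 := by
      have h4 := congrArg (fun q => q ≫ π) hx'
      simp only [Preadditive.add_comp, Category.assoc, zero_comp] at h4
      rw [hex.1, comp_zero, comp_zero, comp_zero, zero_add] at h4
      rw [Category.assoc]
      exact h4
    obtain ⟨T₁, π₁, hπ₁, z, hz⟩ := hψ₃.2 _ h3
    obtain ⟨T₂, π₂, hπ₂, z', hz'⟩ := surjective_up_to_refinements_of_epi a' z
    have h5 : ((π₂ ≫ π₁ ≫ x ≫ biprod.fst + z' ≫ θ') ≫ p₁) ≫ i = 0 := by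
      have e1 : z' ≫ θ' ≫ p₁ ≫ i = π₂ ≫ π₁ ≫ x ≫ biprod.snd ≫ β := by
        rw [reassoc_of% hθ', hθ, ← reassoc_of% hz', ← reassoc_of% hz]
      have h6 := congrArg (fun q => π₂ ≫ π₁ ≫ q) hx'
      simp only [Preadditive.comp_add, comp_zero] at h6
      simp only [Preadditive.add_comp, Category.assoc]
      rw [e1]
      exact h6
    have h7 : (π₂ ≫ π₁ ≫ x ≫ biprod.fst + z' ≫ θ') ≫ p₁ = 0 := by
      rw [← cancel_mono i, h5, zero_comp]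
    obtain ⟨T₃, π₃, hπ₃, v, hv⟩ := hψ₁.2 _ h7
    refine ⟨T₃, π₃ ≫ π₂ ≫ π₁, epi_comp _ _, biprod.lift v (π₃ ≫ z'), ?_⟩
    apply biprod.hom_ext
    · simp only [biprod.lift_desc, Category.assoc, Preadditive.add_comp, biprod.inl_fst,
        biprod.lift_fst, Preadditive.comp_neg, Category.comp_id]
      rw [← hv, Preadditive.comp_add]
      abel
    · simp only [biprod.lift_desc, Category.assoc, Preadditive.add_comp, biprod.inl_snd,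
        biprod.lift_snd, comp_zero, zero_add]
      rw [← reassoc_of% hz', ← hz]

/-- objects of type A are closed under extensions -/
theorem typeA_extension (hbi : ∀ X Y : A, PP X → PP Y → PP (X ⊞ Y)) (hLS : LocLiftS PP)
    {F₁ F₂ F₃ : A} (i : F₁ ⟶ F₂) (π : F₂ ⟶ F₃) [Mono i] [Epi π] (hex : Ex i π)
    (h₁ : TypeA PP F₁) (h₃ : TypeA PP F₃) : TypeA PP F₂ := by
  obtain ⟨Q₁, P₁, hQ₁, hP₁, ψ₁, ⟨e₁⟩⟩ := h₁
  obtain ⟨Q₃, P₃, hQ₃, hP₃, ψ₃, ⟨e₃⟩⟩ := h₃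
  obtain ⟨P₃', hP₃', a, ha, β, hβ, hfa⟩ := hLS hP₃ (cokernel.π ψ₃ ≫ e₃.inv) π
  haveI := ha
  have hp₁ : FGK PP (cokernel.π ψ₁ ≫ e₁.inv) := ⟨Q₁, hQ₁, ψ₁, (ex_cokernel ψ₁).comp_mono e₁.inv⟩
  have hp₃ : FGK PP (cokernel.π ψ₃ ≫ e₃.inv) := ⟨Q₃, hQ₃, ψ₃, (ex_cokernel ψ₃).comp_mono e₃.inv⟩
  have h3 : FGK PP (β ≫ π) := by
    rw [hβ]
    exact fgk_comp hbi hLS.locLift a _ hfa hp₃
  haveI : Epi (β ≫ π) := by
    rw [hβ]
    exact epi_comp _ _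
  haveI : Epi (cokernel.π ψ₁ ≫ e₁.inv) := epi_comp _ _
  obtain ⟨Q, hQ, ψ, hψ⟩ := fgk_horseshoe hbi hLS.locLift hex (cokernel.π ψ₁ ≫ e₁.inv) β hp₁ h3
  haveI := epi_horseshoe hex (cokernel.π ψ₁ ≫ e₁.inv) β
  obtain ⟨iso⟩ := nonempty_iso_cokernel_of_ex_epi hψ
  exact ⟨Q, P₁ ⊞ P₃', hQ, hbi _ _ hP₁ hP₃', ψ, ⟨iso⟩⟩

end Groth.Agent.Lib.R2H2.ModQcE
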