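import Mathlib
import Groth.Prelude.Def_ModSite
import Groth.Prelude.Def_CohCx
import Groth.Agent.Lib.Helper23FreeOn
import Groth.Agent.Lib.R2H2ModFTA
import Groth.Agent.Lib.R2H2ModQcA
import Groth.Agent.Lib.R2H2ModQcB
import Groth.Agent.Lib.R2H2ModQcC
import Groth.Agent.Lib.R2H2ModQcD
import Groth.Agent.Lib.R2H2ModQcE

/-!
# Čech presentation of a covering map of finite free-on modules (helper2, round 2)

* `exists_glue`: gluing sections of a sheaf of modules along a covering family (with pullbacks);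
* `locLiftS`: the strong local lifting property of `FinFree O B` when fibre products of members of
  `B` are quasi-compact;
* `extension_typeA` (S9116).
-/

set_option backward.isDefEq.respectTransparency.types false
set_option autoImplicit false
universe u
open CategoryTheory CategoryTheory.Limits Opposite

namespace Groth.Agent.Lib.R2H2.ModQcF

open Groth.Agent.Lib.R2H2.ModFTA Groth.Agent.Lib.R2H2.ModQcA Groth.Agent.Lib.Helper23FreeOn
open Groth.Agent.Lib.R2H2.ModQcB Groth.Agent.Lib.R2H2.ModQcC Groth.Agent.Lib.R2H2.ModQcD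
open Groth.Agent.Lib.R2H2.ModQcE

section Glue

variable {D : Type u} [SmallCategory D] {K : GrothendieckTopology D} {R : Sheaf K RingCat.{u}}

/-- gluing sections along a covering family -/
theorem exists_glue [HasPullbacks D] (M : SheafOfModules.{u} R) {Y : D} {I : Type*} (X : I → D)
    (π : ∀ i, X i ⟶ Y) (hcov : Sieve.ofArrows X π ∈ K Y) (x : ∀ i, M.val.obj (op (X i)))
    (hx : ∀ i j, res M (pullback.fst (π i) (π j)) (x i) = res M (pullback.snd (π i) (π j)) (x j)) :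
    ∃ t : M.val.obj (op Y), ∀ i, res M (π i) t = x i := by
  let F : Sheaf K AddCommGrpCat.{u} := (SheafOfModules.toSheaf R).obj M
  have hsh : Presieve.IsSheaf K (F.obj ⋙ forget AddCommGrpCat.{u}) := by
    rw [← isSheaf_iff_isSheaf_of_type]
    exact ((sheafCompose K (forget AddCommGrpCat.{u})).obj F).2
  have h1 : (Presieve.ofArrows X π).IsSheafFor (F.obj ⋙ forget AddCommGrpCat.{u}) := by
    rw [Presieve.isSheafFor_iff_generate]
    exact hsh _ hcov
  rw [Presieve.isSheafFor_arrows_iff_pullbacks] at h1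
  obtain ⟨t, ht, -⟩ := h1 x hx
  exact ⟨t, ht⟩

end Glue

section Abstract

variable {A : Type*} [Category A] [Abelian A]

theorem ex_of_desc {R P' P : A} {r : R ⟶ P'} {a : P' ⟶ P} (w : r ≫ a = 0)
    (H : ∀ {T : A} (h : P' ⟶ T), r ≫ h = 0 → ∃ h' : P ⟶ T, a ≫ h' = h) : Ex r a := by
  refine ⟨w, ?_⟩
  intro T x hx
  obtain ⟨h', hh'⟩ := H (cokernel.π r) (cokernel.condition r)
  apply (ex_cokernel r).2 x
  rw [← hh', ← Category.assoc, hx, zero_comp]

end Abstract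

section Cech

variable {C : Type u} [SmallCategory C] {J : GrothendieckTopology C} (O : Sheaf J CommRingCat.{u})

theorem resHom_app_taut (M : ModSite.Mod O) {X W : C} (g : W ⟶ X) (m : M.val.obj (op X)) :
    (resHom O M g m).val.app (op W) (taut O W) = res M g m := by
  rw [← homEquiv_eq]
  exact Equiv.apply_symm_apply _ _

theorem homEquiv_symm_app_taut (M : ModSite.Mod O) {X : C} (m : M.val.obj (op X)) :
    ((homEquiv O M X).symm m).val.app (op X) (taut O X) = m := by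
  rw [← homEquiv_eq]
  exact Equiv.apply_symm_apply _ _

theorem resHom_res (M : ModSite.Mod O) {X W W' : C} (g : W ⟶ X) (u : W' ⟶ W)
    (m : M.val.obj (op X)) : resHom O M u (res M g m) = resHom O M (u ≫ g) m := by
  unfold resHom
  rw [res_res]

theorem resHom_injective (M : ModSite.Mod O) {X W : C} (g : W ⟶ X) (m m' : M.val.obj (op X))
    (h : resHom O M g m = resHom O M g m') : res M g m = res M g m' :=
  (homEquiv O M W).symm.injective h

theorem resHom_eq_homEquiv_symm (M : ModSite.Mod O) {X W : C} (g : W ⟶ X)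
    (m : M.val.obj (op X)) : resHom O M g m = (homEquiv O M W).symm (res M g m) := rfl

theorem hom_eq_homEquiv_symm (M : ModSite.Mod O) {X : C} (h : ModSite.freeOn O X ⟶ M) :
    h = (homEquiv O M X).symm (h.val.app (op X) (taut O X)) := by
  rw [← homEquiv_eq, Equiv.symm_apply_apply]

/-- Čech presentation: the kernel of the covering map is finitely generated -/
theorem fgk_cover [HasPullbacks C] (B : Set C)
    (hB₁ : ∀ X : C, ∃ (κ : Type u) (Y : κ → C) (g : ∀ k, Y k ⟶ X),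
      Sieve.ofArrows Y g ∈ J X ∧ ∀ k, Y k ∈ B)
    (hB₃ : ∀ (U U₁ U₂ : C) (f₁ : U₁ ⟶ U) (f₂ : U₂ ⟶ U), U ∈ B → U₁ ∈ B → U₂ ∈ B →
      CohCx.IsQcObject (hS J (pullback f₁ f₂)))
    {n : ℕ} (U : Fin n → C) (hU : ∀ i, U i ∈ B) (κ : Fin n → Type u) [∀ i, Finite (κ i)]
    (W : ∀ i, κ i → C) (g : ∀ i k, W i k ⟶ U i)
    (hg : ∀ i, Sieve.ofArrows (W i) (g i) ∈ J (U i)) (hWB : ∀ i k, W i k ∈ B) :
    FGK (FinFree O B) (Sigma.desc (fun ik : Σ i, κ i =>
      resHom O (∐ fun i => ModSite.freeOn O (U i)) (g ik.1 ik.2)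
        ((Sigma.ι (fun i => ModSite.freeOn O (U i)) ik.1).val.app _ (taut O (U ik.1)))) :
      (∐ fun ik : Σ i, κ i => ModSite.freeOn O (W ik.1 ik.2)) ⟶
        ∐ fun i => ModSite.freeOn O (U i)) := by
  have key : ∀ (i : Fin n) (k k' : κ i), ∃ (t : Type u) (_ : Finite t) (Z : t → C)
      (z : ∀ l, Z l ⟶ pullback (g i k) (g i k')), Sieve.ofArrows Z z ∈ J _ ∧ (∀ l, Z l ∈ B) := by
    intro i k k'
    obtain ⟨t, ht, Z, z, hz, hZB, -⟩ := exists_finite_B_cover B hB₁ _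
      (hB₃ _ _ _ (g i k) (g i k') (hU i) (hWB i k) (hWB i k')) ⊤ (J.top_mem _)
    exact ⟨t, ht, Z, z, hz, hZB⟩
  choose lam hlam Z z hz hZB using key
  haveI : ∀ i k k', Finite (lam i k k') := hlam
  let P : ModSite.Mod O := ∐ fun i => ModSite.freeOn O (U i)
  let P' : ModSite.Mod O := ∐ fun ik : Σ i, κ i => ModSite.freeOn O (W ik.1 ik.2)
  let e : ∀ i, P.val.obj (op (U i)) := fun i =>
    (Sigma.ι (fun i => ModSite.freeOn O (U i)) i).val.app _ (taut O (U i))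
  let e' : ∀ ik : Σ i, κ i, P'.val.obj (op (W ik.1 ik.2)) := fun ik =>
    (Sigma.ι (fun ik : Σ i, κ i => ModSite.freeOn O (W ik.1 ik.2)) ik).val.app _ (taut O _)
  let a : P' ⟶ P := Sigma.desc (fun ik : Σ i, κ i => resHom O P (g ik.1 ik.2) (e ik.1))
  have ha : ∀ ik : Σ i, κ i, a.val.app _ (e' ik) = res P (g ik.1 ik.2) (e ik.1) := by
    intro ik
    have h1 : Sigma.ι (fun ik : Σ i, κ i => ModSite.freeOn O (W ik.1 ik.2)) ik ≫ a =
      resHom O P (g ik.1 ik.2) (e ik.1) := Sigma.ι_desc _ _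
    have h2 : a.val.app _ (e' ik) =
      (Sigma.ι (fun ik : Σ i, κ i => ModSite.freeOn O (W ik.1 ik.2)) ik ≫ a).val.app _ (taut O _) := rfl
    rw [h2, h1, resHom_app_taut]
  let Lam : Type u := Σ (i : Fin n) (k : κ i) (k' : κ i), lam i k k'
  let ZZ : Lam → C := fun l => Z l.1 l.2.1 l.2.2.1 l.2.2.2
  let u₁ : ∀ l : Lam, ZZ l ⟶ W l.1 l.2.1 := fun l => z l.1 l.2.1 l.2.2.1 l.2.2.2 ≫ pullback.fst _ _
  let u₂ : ∀ l : Lam, ZZ l ⟶ W l.1 l.2.2.1 := fun l => z l.1 l.2.1 l.2.2.1 l.2.2.2 ≫ pullback.snd _ _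
  have hu : ∀ l : Lam, u₁ l ≫ g l.1 l.2.1 = u₂ l ≫ g l.1 l.2.2.1 := by
    intro l
    simp only [u₁, u₂, Category.assoc, pullback.condition]
  let rc : ∀ l : Lam, ModSite.freeOn O (ZZ l) ⟶ P' := fun l =>
    resHom O P' (u₁ l) (e' ⟨l.1, l.2.1⟩) - resHom O P' (u₂ l) (e' ⟨l.1, l.2.2.1⟩)
  let r : (∐ fun l : Lam => ModSite.freeOn O (ZZ l)) ⟶ P' := Sigma.desc rc
  have hr : ∀ l, Sigma.ι (fun l : Lam => ModSite.freeOn O (ZZ l)) l ≫ r = rc l :=
    fun l => Sigma.ι_desc _ _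
  refine ⟨_, finFree_sigma O B ZZ (fun l => hZB _ _ _ _), r, ?_⟩
  apply ex_of_desc
  · apply Sigma.hom_ext
    intro l
    rw [← Category.assoc, hr, comp_zero]
    change (resHom O P' (u₁ l) (e' ⟨l.1, l.2.1⟩) - resHom O P' (u₂ l) (e' ⟨l.1, l.2.2.1⟩)) ≫ a = 0
    rw [Preadditive.sub_comp, resHom_comp, resHom_comp, ha ⟨l.1, l.2.1⟩, ha ⟨l.1, l.2.2.1⟩,
      resHom_res, resHom_res, hu, sub_self]
  · intro T h hrh
    let m : ∀ ik : Σ i, κ i, T.val.obj (op (W ik.1 ik.2)) := fun ik => h.val.app _ (e' ik)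
    have hm1 : ∀ l : Lam, res T (u₁ l) (m ⟨l.1, l.2.1⟩) = res T (u₂ l) (m ⟨l.1, l.2.2.1⟩) := by
      intro l
      have h1 : rc l ≫ h = 0 := by
        rw [← hr, Category.assoc, hrh, comp_zero]
      change (resHom O P' (u₁ l) (e' ⟨l.1, l.2.1⟩) - resHom O P' (u₂ l) (e' ⟨l.1, l.2.2.1⟩)) ≫ h = 0 at h1
      rw [Preadditive.sub_comp, resHom_comp, resHom_comp, sub_eq_zero] at h1
      exact (homEquiv O T _).symm.injective h1
    have hm2 : ∀ (i : Fin n) (k k' : κ i),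
        res T (pullback.fst (g i k) (g i k')) (m ⟨i, k⟩) =
          res T (pullback.snd (g i k) (g i k')) (m ⟨i, k'⟩) := by
      intro i k k'
      apply sec_ext_sieve T _ (hz i k k')
      intro V f hf
      obtain ⟨V', b, c, hc, hbc⟩ := hf
      obtain ⟨l⟩ := hc
      rw [← hbc, ← res_res, ← res_res, res_res T (pullback.fst (g i k) (g i k')),
        res_res T (pullback.snd (g i k) (g i k'))]
      exact congrArg (res T b) (hm1 ⟨i, k, k', l⟩)
    have hm3 : ∀ i : Fin n, ∃ t : T.val.obj (op (U i)), ∀ k, res T (g i k) t = m ⟨i, k⟩ :=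
      fun i => exists_glue T (W i) (g i) (hg i) (fun k => m ⟨i, k⟩) (hm2 i)
    choose t ht using hm3
    refine ⟨Sigma.desc (fun i => (homEquiv O T (U i)).symm (t i)), ?_⟩
    apply Sigma.hom_ext
    rintro ⟨i, k⟩
    have h1 : Sigma.ι (fun ik : Σ i, κ i => ModSite.freeOn O (W ik.1 ik.2)) ⟨i, k⟩ ≫ a =
      resHom O P (g i k) (e i) := Sigma.ι_desc _ _
    rw [← Category.assoc, h1, resHom_comp]
    have h2 : (Sigma.desc (fun i => (homEquiv O T (U i)).symm (t i)) : P ⟶ T).val.app _ (e i) =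
        t i := by
      have h3 : (Sigma.desc (fun i => (homEquiv O T (U i)).symm (t i)) : P ⟶ T).val.app _ (e i) =
        (Sigma.ι (fun i => ModSite.freeOn O (U i)) i ≫
          (Sigma.desc (fun i => (homEquiv O T (U i)).symm (t i)) : P ⟶ T)).val.app _ (taut O _) := rfl
      rw [h3, Sigma.ι_desc, homEquiv_symm_app_taut]
    rw [h2, resHom_eq_homEquiv_symm, ht i k]
    exact (hom_eq_homEquiv_symm O T
      (Sigma.ι (fun ik : Σ i, κ i => ModSite.freeOn O (W ik.1 ik.2)) ⟨i, k⟩ ≫ h)).symm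

/-- the strong local lifting property of finite free-on modules -/
theorem locLiftS [HasPullbacks C] (B : Set C)
    (hB₁ : ∀ X : C, ∃ (κ : Type u) (Y : κ → C) (g : ∀ k, Y k ⟶ X),
      Sieve.ofArrows Y g ∈ J X ∧ ∀ k, Y k ∈ B)
    (hB₂ : ∀ U ∈ B, CohCx.IsQcObject (hS J U))
    (hB₃ : ∀ (U U₁ U₂ : C) (f₁ : U₁ ⟶ U) (f₂ : U₂ ⟶ U), U ∈ B → U₁ ∈ B → U₂ ∈ B →
      CohCx.IsQcObject (hS J (pullback f₁ f₂))) :
    LocLiftS (FinFree O B) := by
  intro P M N hP φ q _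
  obtain ⟨n, U, hU, ⟨e⟩⟩ := hP
  obtain ⟨κ, hκ, W, g, hg, hWB, β, hβ⟩ := exists_cover_lift O B hB₁ hB₂ U hU (e.inv ≫ φ) q
  haveI : ∀ i, Finite (κ i) := hκ
  haveI := epi_desc_resHom O U κ W g hg
  obtain ⟨R, hR, r, hr⟩ := fgk_cover O B hB₁ hB₃ U hU κ W g hg hWB
  refine ⟨_, finFree_sigma O B (fun ik : Σ i, κ i => W ik.1 ik.2) (fun ik => hWB _ _),
    (Sigma.desc (fun ik : Σ i, κ i =>
          resHom O (∐ fun i => ModSite.freeOn O (U i)) (g ik.1 ik.2)
            ((Sigma.ι (fun i => ModSite.freeOn O (U i)) ik.1).val.app _ (taut O (U ik.1))))) ≫ e.inv,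
    epi_comp _ _, β, ?_, ⟨R, hR, r, hr.comp_mono e.inv⟩⟩
  rw [hβ, Category.assoc]

/-- S9116: modules of type A are closed under extensions -/
theorem extension_typeA [HasPullbacks C] (B : Set C)
    (hB₁ : ∀ X : C, ∃ (κ : Type u) (Y : κ → C) (g : ∀ k, Y k ⟶ X),
      Sieve.ofArrows Y g ∈ J X ∧ ∀ k, Y k ∈ B)
    (hB₂ : ∀ U ∈ B, CohCx.IsQcObject (hS J U))
    (hB₃ : ∀ (U U₁ U₂ : C) (f₁ : U₁ ⟶ U) (f₂ : U₂ ⟶ U), U ∈ B → U₁ ∈ B → U₂ ∈ B →
      CohCx.IsQcObject (hS J (pullback f₁ f₂)))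
    (S : ShortComplex (ModSite.Mod O)) (hS : S.ShortExact)
    (h₁ : ModQcB.TypeA O B S.X₁) (h₃ : ModQcB.TypeA O B S.X₃) : ModQcB.TypeA O B S.X₂ := by
  haveI := hS.mono_f
  haveI := hS.epi_g
  have hex : Ex S.f S.g := (ex_iff S.f S.g S.zero).2 hS.exact
  exact typeA_conc O B (typeA_extension (finFree_biprod O B) (locLiftS O B hB₁ hB₂ hB₃)
    S.f S.g hex (typeA_abs O B h₁) (typeA_abs O B h₃))

end Cech

end Groth.Agent.Lib.R2H2.ModQcF
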