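import Mathlib
import Groth.Agent.Lib.R2H2ModQcC
import Groth.Agent.Lib.R2H2ModQcE

/-!
# Abstract "type A" objects: members of the class and biproducts (helper2, round 2)
-/

set_option backward.isDefEq.respectTransparency.types false
set_option autoImplicit false
open CategoryTheory CategoryTheory.Limits

namespace Groth.Agent.Lib.R2H2.ModQcG

open Groth.Agent.Lib.R2H2.ModQcC Groth.Agent.Lib.R2H2.ModQcE

variable {A : Type*} [Category A] [Abelian A] {PP : A → Prop}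

theorem typeA_of_mem {P : A} (hP : PP P) : TypeA PP P :=
  ⟨P, P, hP, hP, 0, ⟨(cokernelZeroIsoTarget (X := P) (Y := P)).symm⟩⟩

theorem typeA_of_iso {M N : A} (e : M ≅ N) (h : TypeA PP M) : TypeA PP N := by
  obtain ⟨Q, P, hQ, hP, ψ, ⟨e'⟩⟩ := h
  exact ⟨Q, P, hQ, hP, ψ, ⟨e.symm ≪≫ e'⟩⟩

theorem typeA_biprod (hbi : ∀ X Y : A, PP X → PP Y → PP (X ⊞ Y)) {M₁ M₂ : A}
    (h₁ : TypeA PP M₁) (h₂ : TypeA PP M₂) : TypeA PP (M₁ ⊞ M₂) := by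
  obtain ⟨Q₁, P₁, hQ₁, hP₁, ψ₁, ⟨e₁⟩⟩ := h₁
  obtain ⟨Q₂, P₂, hQ₂, hP₂, ψ₂, ⟨e₂⟩⟩ := h₂
  have hx₁ : Ex ψ₁ (cokernel.π ψ₁ ≫ e₁.inv) := (ex_cokernel ψ₁).comp_mono e₁.inv
  have hx₂ : Ex ψ₂ (cokernel.π ψ₂ ≫ e₂.inv) := (ex_cokernel ψ₂).comp_mono e₂.inv
  haveI : Epi (cokernel.π ψ₁ ≫ e₁.inv) := epi_comp _ _
  haveI : Epi (cokernel.π ψ₂ ≫ e₂.inv) := epi_comp _ _
  have hex : Ex (biprod.map ψ₁ ψ₂)
      (biprod.map (cokernel.π ψ₁ ≫ e₁.inv) (cokernel.π ψ₂ ≫ e₂.inv)) := by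
    refine ⟨?_, ?_⟩
    · apply biprod.hom_ext
      · simp only [Category.assoc, biprod.map_fst, zero_comp]
        rw [reassoc_of% (biprod.map_fst ψ₁ ψ₂), hx₁.1, comp_zero]
      · simp only [Category.assoc, biprod.map_snd, zero_comp]
        rw [reassoc_of% (biprod.map_snd ψ₁ ψ₂), hx₂.1, comp_zero]
    · intro T x hx
      have h1 : (x ≫ biprod.fst) ≫ cokernel.π ψ₁ ≫ e₁.inv = 0 := by
        have := congrArg (fun q => q ≫ biprod.fst) hx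
        simpa using this
      have h2 : (x ≫ biprod.snd) ≫ cokernel.π ψ₂ ≫ e₂.inv = 0 := by
        have := congrArg (fun q => q ≫ biprod.snd) hx
        simpa using this
      obtain ⟨T₁, π₁, hπ₁, y₁, hy₁⟩ := hx₁.2 _ h1
      obtain ⟨T₂, π₂, hπ₂, y₂, hy₂⟩ := hx₂.2 _ (show (π₁ ≫ x ≫ biprod.snd) ≫ _ = 0 by
        rw [Category.assoc, Category.assoc]
        rw [Category.assoc] at h2
        rw [h2, comp_zero])
      refine ⟨T₂, π₂ ≫ π₁, epi_comp _ _, biprod.lift (π₂ ≫ y₁) y₂, ?_⟩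
      apply biprod.hom_ext
      · simp only [Category.assoc, biprod.map_fst, biprod.lift_fst_assoc]
        rw [← hy₁]
      · simp only [Category.assoc, biprod.map_snd, biprod.lift_snd_assoc]
        rw [← hy₂]
  haveI : Epi (biprod.map (cokernel.π ψ₁ ≫ e₁.inv) (cokernel.π ψ₂ ≫ e₂.inv)) := by
    rw [epi_iff_surjective_up_to_refinements]
    intro T y
    obtain ⟨T₁, π₁, hπ₁, x₁, hx₁'⟩ :=
      surjective_up_to_refinements_of_epi (cokernel.π ψ₁ ≫ e₁.inv) (y ≫ biprod.fst)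
    obtain ⟨T₂, π₂, hπ₂, x₂, hx₂'⟩ :=
      surjective_up_to_refinements_of_epi (cokernel.π ψ₂ ≫ e₂.inv) (π₁ ≫ y ≫ biprod.snd)
    refine ⟨T₂, π₂ ≫ π₁, epi_comp _ _, biprod.lift (π₂ ≫ x₁) x₂, ?_⟩
    apply biprod.hom_ext
    · simp only [Category.assoc, biprod.map_fst, biprod.lift_fst_assoc]
      rw [← hx₁']
    · simp only [Category.assoc, biprod.map_snd, biprod.lift_snd_assoc]
      rw [← hx₂']
  obtain ⟨iso⟩ := nonempty_iso_cokernel_of_ex_epi hex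
  exact ⟨Q₁ ⊞ Q₂, P₁ ⊞ P₂, hbi _ _ hQ₁ hQ₂, hbi _ _ hP₁ hP₂, biprod.map ψ₁ ψ₂, ⟨iso⟩⟩

end Groth.Agent.Lib.R2H2.ModQcG
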