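import Mathlib
import Groth.Prelude.Def_ModSite
import Groth.Prelude.Def_CohCx
import Groth.Agent.Lib.Helper23FreeOn
import Groth.Agent.Lib.R2H2ModFTA
import Groth.Agent.Lib.R2H2ModQcA
import Groth.Agent.Lib.R2H2ModQcB
import Groth.Agent.Lib.R2H2ModQcC
import Groth.Agent.Lib.R2H2ModQcD
import Groth.Agent.Lib.R2H2ModQcE
import Groth.Agent.Lib.R2H2ModQcF
import Groth.Agent.Lib.R2H2ModQcG
import Groth.Agent.S0484

/-!
# Every module is a filtered colimit of modules of type A (helper2, round 2)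
-/

set_option backward.isDefEq.respectTransparency.types false
set_option autoImplicit false
universe u
open CategoryTheory CategoryTheory.Limits Opposite

namespace Groth.Agent.Lib.R2H2.ModQcH

open Groth.Agent.Lib.R2H2.ModFTA Groth.Agent.Lib.R2H2.ModQcA Groth.Agent.Lib.Helper23FreeOn
open Groth.Agent.Lib.R2H2.ModQcB Groth.Agent.Lib.R2H2.ModQcC Groth.Agent.Lib.R2H2.ModQcD
open Groth.Agent.Lib.R2H2.ModQcE Groth.Agent.Lib.R2H2.ModQcG Groth.Agent.Lib.R2H2.ModQcF

section Ext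

variable {D : Type u} [SmallCategory D] {K : GrothendieckTopology D} {R : Sheaf K RingCat.{u}}

theorem hom_ext_sections {M N : SheafOfModules.{u} R} (f g : M ⟶ N)
    (h : ∀ (Y : D) (s : M.val.obj (op Y)), f.val.app (op Y) s = g.val.app (op Y) s) : f = g := by
  apply SheafOfModules.hom_ext
  apply PresheafOfModules.hom_ext
  intro Y
  ext s
  exact h Y.unop s

end Ext

variable {C : Type u} [SmallCategory C] {J : GrothendieckTopology C} (O : Sheaf J CommRingCat.{u})
  (B : Set C) (F : ModSite.Mod O)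

/-- objects of the index category: presentations of type A with a map to `F` -/
structure Obj where
  m : ℕ
  n : ℕ
  V : Fin m → C
  U : Fin n → C
  ψ : (∐ fun j => ModSite.freeOn O (V j)) ⟶ ∐ fun i => ModSite.freeOn O (U i)
  hV : ∀ j, V j ∈ B
  hU : ∀ i, U i ∈ B
  φ : cokernel ψ ⟶ F

variable {O B F}

noncomputable instance : Category.{u} (Obj O B F) where
  Hom a b := {f : cokernel a.ψ ⟶ cokernel b.ψ // f ≫ b.φ = a.φ}
  id a := ⟨𝟙 _, Category.id_comp _⟩
  comp f g := ⟨f.1 ≫ g.1, by rw [Category.assoc, g.2, f.2]⟩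
  id_comp f := Subtype.ext (Category.id_comp _)
  comp_id f := Subtype.ext (Category.comp_id _)
  assoc f g h := Subtype.ext (Category.assoc _ _ _)

theorem comp_val {a b c : Obj O B F} (f : a ⟶ b) (g : b ⟶ c) : (f ≫ g).1 = f.1 ≫ g.1 := rfl

theorem Obj.typeA (a : Obj O B F) : ModQcB.TypeA O B (cokernel a.ψ) :=
  ⟨a.m, a.n, a.V, a.U, a.ψ, a.hV, a.hU, ⟨Iso.refl _⟩⟩

theorem exists_obj (M : ModSite.Mod O) (hM : ModQcB.TypeA O B M) (g : M ⟶ F) :
    ∃ (a : Obj O B F) (e : M ≅ cokernel a.ψ), e.hom ≫ a.φ = g := by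
  obtain ⟨m, n, V, U, ψ, hV, hU, ⟨e⟩⟩ := hM
  exact ⟨⟨m, n, V, U, ψ, hV, hU, e.inv ≫ g⟩, e, by simp⟩

variable (O B F) in
/-- the diagram -/
noncomputable def DD : Obj O B F ⥤ ModSite.Mod O where
  obj a := cokernel a.ψ
  map f := f.1

variable (O B F) in
/-- the cocone -/
noncomputable abbrev cc : Cocone (DD O B F) where
  pt := F
  ι := { app := fun a => a.φ
         naturality := fun a b f => by
           change f.1 ≫ b.φ = a.φ ≫ 𝟙 F
           rw [f.2, Category.comp_id] }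

theorem typeA_freeOn {U : C} (hU : U ∈ B) : ModQcB.TypeA O B (ModSite.freeOn O U) := by
  apply typeA_conc
  apply typeA_of_mem
  exact finFree_of_iso O B (coproductUniqueIso (fun _ : PUnit.{u + 1} => ModSite.freeOn O U))
    (finFree_sigma O B (fun _ : PUnit.{u + 1} => U) (fun _ => hU))

section Filtered

variable (hB₁ : ∀ X : C, ∃ (κ : Type u) (Y : κ → C) (g : ∀ k, Y k ⟶ X),
      Sieve.ofArrows Y g ∈ J X ∧ ∀ k, Y k ∈ B)
  (hB₂ : ∀ U ∈ B, CohCx.IsQcObject (hS J U))

include hB₁ hB₂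

theorem isFiltered : IsFiltered (Obj O B F) := by
  haveI : IsFilteredOrEmpty (Obj O B F) := by
    constructor
    · intro a b
      have hM : ModQcB.TypeA O B (cokernel a.ψ ⊞ cokernel b.ψ) :=
        typeA_conc O B (typeA_biprod (finFree_biprod O B) (typeA_abs O B a.typeA)
          (typeA_abs O B b.typeA))
      obtain ⟨c, e, hc⟩ := exists_obj _ hM (biprod.desc a.φ b.φ)
      exact ⟨c, ⟨biprod.inl ≫ e.hom, by rw [Category.assoc, hc, biprod.inl_desc]⟩,
        ⟨biprod.inr ≫ e.hom, by rw [Category.assoc, hc, biprod.inr_desc]⟩, trivial⟩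
    · intro a b f g
      have hM : ModQcB.TypeA O B (cokernel (f.1 - g.1)) :=
        cokernel_typeA O B hB₁ hB₂ _ _ (f.1 - g.1) a.typeA b.typeA
      have h0 : (f.1 - g.1) ≫ b.φ = 0 := by
        rw [Preadditive.sub_comp, f.2, g.2, sub_self]
      obtain ⟨c, e, hc⟩ := exists_obj _ hM (cokernel.desc (f.1 - g.1) b.φ h0)
      refine ⟨c, ⟨cokernel.π (f.1 - g.1) ≫ e.hom, by rw [Category.assoc, hc, cokernel.π_desc]⟩, ?_⟩
      apply Subtype.ext
      rw [comp_val, comp_val]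
      change f.1 ≫ cokernel.π (f.1 - g.1) ≫ e.hom = g.1 ≫ cokernel.π (f.1 - g.1) ≫ e.hom
      rw [← sub_eq_zero, ← Preadditive.sub_comp, cokernel.condition_assoc, zero_comp]
  exact { nonempty := ⟨⟨0, 0, Fin.elim0, Fin.elim0, 0, fun j => j.elim0, fun i => i.elim0, 0⟩⟩ }

end Filtered

section Colimit

variable (hB₁ : ∀ X : C, ∃ (κ : Type u) (Y : κ → C) (g : ∀ k, Y k ⟶ X),
      Sieve.ofArrows Y g ∈ J X ∧ ∀ k, Y k ∈ B)
  (hB₂ : ∀ U ∈ B, CohCx.IsQcObject (hS J U))

include hB₁ hB₂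

theorem comp_colimit_ι_eq_zero (a : Obj O B F) {K' : ModSite.Mod O} (κ' : K' ⟶ cokernel a.ψ)
    (h : κ' ≫ a.φ = 0) : κ' ≫ colimit.ι (DD O B F) a = 0 := by
  have key : ∀ (Y : C) (_ : Y ∈ B) (τ : ModSite.freeOn O Y ⟶ K'),
      τ ≫ κ' ≫ colimit.ι (DD O B F) a = 0 := by
    intro Y hY τ
    have h0 : (τ ≫ κ') ≫ a.φ = 0 := by rw [Category.assoc, h, comp_zero]
    have hM : ModQcB.TypeA O B (cokernel (τ ≫ κ')) :=
      cokernel_typeA O B hB₁ hB₂ _ _ _ (typeA_freeOn hY) a.typeA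
    obtain ⟨b, e, hb⟩ := exists_obj _ hM (cokernel.desc (τ ≫ κ') a.φ h0)
    let u : a ⟶ b := ⟨cokernel.π (τ ≫ κ') ≫ e.hom, by rw [Category.assoc, hb, cokernel.π_desc]⟩
    have hw : (DD O B F).map u ≫ colimit.ι (DD O B F) b = colimit.ι (DD O B F) a :=
      colimit.w _ u
    rw [← hw]
    change τ ≫ κ' ≫ (cokernel.π (τ ≫ κ') ≫ e.hom) ≫ _ = 0
    rw [← Category.assoc, ← Category.assoc (τ ≫ κ'), ← Category.assoc (τ ≫ κ'),
      cokernel.condition, zero_comp, zero_comp]
  apply hom_ext_sections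
  intro Y s
  have h0 : (0 : K' ⟶ colimit (DD O B F)).val.app (op Y) s = 0 := rfl
  rw [h0]
  obtain ⟨κ, Yk, gk, hcov, hYB⟩ := hB₁ Y
  apply sec_ext_sieve _ _ hcov
  intro Z g hg
  obtain ⟨Z', b, c, hc, hbc⟩ := hg
  obtain ⟨k⟩ := hc
  rw [res_zero, ← hbc, ← res_res, ← app_res]
  have h1 := key (Yk k) (hYB k) ((homEquiv O K' (Yk k)).symm (res K' (gk k) s))
  have h2 := congrArg (fun q => q.val.app (op (Yk k)) (taut O (Yk k))) h1
  have h3 : ((homEquiv O K' (Yk k)).symm (res K' (gk k) s) ≫ κ' ≫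
      colimit.ι (DD O B F) a).val.app (op (Yk k)) (taut O (Yk k)) =
      (κ' ≫ colimit.ι (DD O B F) a).val.app (op (Yk k))
        (((homEquiv O K' (Yk k)).symm (res K' (gk k) s)).val.app (op (Yk k)) (taut O (Yk k))) := rfl
  rw [h3, homEquiv_symm_app_taut] at h2
  rw [h2]
  exact res_zero _ _

omit hB₂ in
theorem epi_desc : Epi (colimit.desc (DD O B F) (cc O B F)) := by
  apply epi_of_locSurj
  intro Y t
  obtain ⟨κ, Yk, gk, hcov, hYB⟩ := hB₁ Y
  refine ⟨_, hcov, ?_⟩
  intro Z g hg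
  obtain ⟨Z', b, c, hc, hbc⟩ := hg
  obtain ⟨k⟩ := hc
  obtain ⟨a, e, ha⟩ := exists_obj _ (typeA_freeOn (O := O) (hYB k))
    ((homEquiv O F (Yk k)).symm (res F (gk k) t))
  refine ⟨res _ b ((e.hom ≫ colimit.ι (DD O B F) a).val.app _ (taut O (Yk k))), ?_⟩
  rw [app_res, ← hbc, ← res_res]
  congr 1
  have h1 : (colimit.desc (DD O B F) (cc O B F)).val.app (op (Yk k))
      ((e.hom ≫ colimit.ι (DD O B F) a).val.app _ (taut O (Yk k))) =
      ((e.hom ≫ colimit.ι (DD O B F) a) ≫ colimit.desc (DD O B F) (cc O B F)).val.app _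
        (taut O (Yk k)) := rfl
  have h4 : colimit.ι (DD O B F) a ≫ colimit.desc (DD O B F) (cc O B F) = a.φ :=
    colimit.ι_desc (cc O B F) a
  have h5 : (e.hom ≫ colimit.ι (DD O B F) a) ≫ colimit.desc (DD O B F) (cc O B F) =
      (homEquiv O F (Yk k)).symm (res F (gk k) t) := by
    rw [Category.assoc]
    exact (congrArg (fun q => e.hom ≫ q) h4).trans ha
  rw [h1, h5, homEquiv_symm_app_taut]

theorem mono_desc : Mono (colimit.desc (DD O B F) (cc O B F)) := by
  haveI : IsFiltered (Obj O B F) := isFiltered hB₁ hB₂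
  haveI : IsGrothendieckAbelian.{u} (ModSite.Mod O) :=
    Groth.Agent.S0484.result J (ModSite.ringSh O)
  haveI : IsConnected (Obj O B F) := IsFiltered.isConnected _
  let φ' : DD O B F ⟶ (Functor.const _).obj F := (cc O B F).ι
  have hS := ShortComplex.kernelSequence_exact φ'
  have hex := colim.exact_mapShortComplex hS (colimit.isColimit (kernel φ'))
    (colimit.isColimit (DD O B F)) (isColimitConstCocone (Obj O B F) F)
    (colimMap (kernel.ι φ')) (colimit.desc (DD O B F) (cc O B F))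
    (fun j => ι_colimMap _ _) (fun j => by
      refine (colimit.ι_desc (cc O B F) j).trans ?_
      exact (Category.comp_id (φ'.app j)).symm)
  have hf : colimMap (kernel.ι φ') = 0 := by
    apply colimit.hom_ext
    intro a
    rw [ι_colimMap, comp_zero]
    apply comp_colimit_ι_eq_zero hB₁ hB₂ a ((kernel.ι φ').app a)
    exact congrArg (fun q => q.app a) (kernel.condition φ')
  exact hex.mono_g hf

/-- every module is the filtered colimit of the type A modules mapping to it -/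
theorem isColimit_cc : Nonempty (IsColimit (cc O B F)) := by
  haveI := epi_desc (O := O) (B := B) (F := F) hB₁
  haveI := mono_desc (O := O) (B := B) (F := F) hB₁ hB₂
  haveI : IsIso ((colimit.isColimit (DD O B F)).desc (cc O B F)) :=
    isIso_of_mono_of_epi (colimit.desc (DD O B F) (cc O B F))
  exact ⟨IsColimit.ofPointIso (colimit.isColimit (DD O B F))⟩

/-- S9114 -/
theorem exists_filtered_colimit : ∃ (Λ : Type u) (_ : SmallCategory Λ) (_ : IsFiltered Λ)
    (D : Λ ⥤ ModSite.Mod O) (ι : D ⟶ (Functor.const Λ).obj F),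
    (∀ l, ModQcB.TypeA O B (D.obj l)) ∧ Nonempty (IsColimit (Cocone.mk F ι)) :=
  ⟨Obj O B F, inferInstance, isFiltered hB₁ hB₂, DD O B F, (cc O B F).ι, fun l => l.typeA,
    isColimit_cc hB₁ hB₂⟩

end Colimit

end Groth.Agent.Lib.R2H2.ModQcH
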