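import Mathlib
import Groth.Prelude.Def_Coh
import Groth.Prelude.Def_FlatMod2
import Groth.Agent.Lib.R2H2LocFreeTF
import Groth.Agent.Lib.Helper23Extend

set_option autoImplicit false
set_option backward.isDefEq.respectTransparency.types false
set_option linter.style.haveILetI false
universe u
open CategoryTheory CategoryTheory.Limits AlgebraicGeometry TopologicalSpace Opposite

namespace Groth.Agent.Lib.R2H2.NotHomothety

open Groth.Agent.Lib.R2H2.SubFam Groth.Agent.Lib.R2H2.LocFreeTF Groth.Agent.Lib.Helper23.GenLocus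
  Groth.Agent.Lib.Helper23.Extend

variable {X : Scheme.{u}}

/-- the value of a morphism out of the structure module is determined by the image of `1` -/
theorem app_eq_smul (E : X.Modules) (s : Coh.structureModule X ⟶ E) (W : X.Opens)
    (a : Γ(Coh.structureModule X, W)) :
    s.app W a = ofS W a • s.app W (toS W 1) := by
  have h1 : a = ofS W a • toS W 1 := by
    rw [smul_toS, mul_one]
    rfl
  conv_lhs => rw [h1]
  rw [Scheme.Modules.Hom.app_smul]

theorem app_one_res (E : X.Modules) (s : Coh.structureModule X ⟶ E) {W' W : X.Opens} (h : W' ≤ W) :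
    rs E h (s.app W (toS W 1)) = s.app W' (toS W' 1) := by
  have h1 := app_map s (homOfLE h) (toS W 1)
  rw [map_toS, map_one] at h1
  exact h1.symm

theorem main [IsIntegral X] (r : ℕ) (hr : 1 < r) (E : X.Modules)
    (hE : FlatMod.IsFinLocFreeOfRank r E)
    (s : Coh.structureModule X ⟶ E) (hs : s ≠ 0) (t : E ⟶ Coh.structureModule X) (ht : t ≠ 0)
    (ρ : Coh.Γtop X) (hρ : ρ = 0 ∨ IsUnit ρ) :
    (SheafOfModules.toSheaf X.ringCatSheaf).map (t ≫ s) ≠ Coh.smulAb E ρ := by
  intro heq
  have key : ∀ (W : X.Opens) (e : Γ(E, W)),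
      s.app W (t.app W e) = rO (le_top : W ≤ ⊤) ρ • e := by
    intro W e
    have := congrArg (fun φ => φ.hom.app (op W) e) heq
    exact this
  rcases hρ with rfl | hu
  · -- zero case
    have key0 : ∀ (W : X.Opens) (e : Γ(E, W)), s.app W (t.app W e) = 0 := by
      intro W e
      have h0 : (rO (le_top : W ≤ ⊤)) (0 : Γ(X, ⊤)) = 0 := (rO (le_top : W ≤ ⊤)).map_zero
      rw [key W e]
      exact (congrArg (· • e) h0).trans (zero_smul _ e)
    -- t ≠ 0
    obtain ⟨W₂, e₂, he₂⟩ : ∃ (W₂ : X.Opens) (e₂ : Γ(E, W₂)), t.app W₂ e₂ ≠ 0 := by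
      by_contra hcon
      push Not at hcon
      apply ht
      apply Scheme.Modules.hom_ext
      intro U
      ext e
      exact hcon U e
    obtain ⟨W₁, a₁, ha₁⟩ : ∃ (W₁ : X.Opens) (a₁ : Γ(Coh.structureModule X, W₁)),
        s.app W₁ a₁ ≠ 0 := by
      by_contra hcon
      push Not at hcon
      apply hs
      apply Scheme.Modules.hom_ext
      intro U
      ext e
      exact hcon U e
    set f₂ : Γ(X, W₂) := ofS W₂ (t.app W₂ e₂) with hf₂
    have hf₂0 : f₂ ≠ 0 := he₂
    have hW₂ : (W₂ : Set X).Nonempty := by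
      by_contra hcon
      rw [Set.not_nonempty_iff_eq_empty] at hcon
      apply hf₂0
      rw [← basicOpen_eq_bot_iff]
      have hle := X.basicOpen_le f₂
      ext x
      constructor
      · intro hx
        have : x ∈ (W₂ : Set X) := hle hx
        rw [hcon] at this
        exact this.elim
      · intro hx
        exact hx.elim
    -- σ₂ = 0
    have hσ₂ : s.app W₂ (toS W₂ 1) = 0 := by
      apply eq_zero_of_smul_eq_zero E hE f₂ hf₂0
      rw [← app_eq_smul E s W₂ (t.app W₂ e₂)]
      exact key0 W₂ e₂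
    have hσtop : s.app ⊤ (toS ⊤ 1) = 0 := by
      apply eq_zero_of_res_eq_zero E hE (le_top : W₂ ≤ ⊤) hW₂
      rw [app_one_res, hσ₂]
    apply ha₁
    rw [app_eq_smul E s W₁ a₁, ← app_one_res E s (le_top : W₁ ≤ ⊤), hσtop, rs_zero, smul_zero]
  · -- unit case
    obtain ⟨x⟩ : Nonempty X := inferInstance
    obtain ⟨W, hW, hxW, -, ⟨b⟩⟩ := exists_affine_basis_le E hE ⊤ x trivial
    haveI : Nonempty W := ⟨⟨x, hxW⟩⟩
    haveI : Nontrivial Γ(X, W) := inferInstance
    have huW : IsUnit (rO (le_top : W ≤ ⊤) ρ) := hu.map _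
    obtain ⟨v, hv⟩ := huW
    refine not_cyclic_of_basis b hr (s.app W (toS W 1)) (fun m => ?_)
    refine ⟨(↑v⁻¹ : Γ(X, W)) * ofS W (t.app W m), ?_⟩
    have h1 := key W m
    rw [app_eq_smul E s W (t.app W m), ← hv] at h1
    rw [mul_smul, h1, smul_smul, Units.inv_mul, one_smul]

end Groth.Agent.Lib.R2H2.NotHomothety
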