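import Groth.Agent.Lib.R2H2PnBeilinson
import Groth.Agent.Lib.R2H2GaetaAbs
import Groth.Agent.Lib.Helper23FTsub

/-!
# Gaeta resolutions on the projective plane (helper2, round 2)
-/

set_option autoImplicit false
set_option linter.style.haveILetI false
universe u

namespace Groth.Agent.Lib.R2H2.P2Gaeta

open CategoryTheory CategoryTheory.Limits AlgebraicGeometry Opposite TensorProduct
open Groth.Agent.Lib.R2H2.HHLin Groth.Agent.Lib.R2H2.PnSerre
  Groth.Agent.Lib.R2H2.PnMumford Groth.Agent.Lib.R2H2.PnLinRes Groth.Agent.Lib.R2H2.PnGG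
  Groth.Agent.Lib.R2H2.PnHorrocks Groth.Agent.Lib.R2H2.PnLocFree
  Groth.Agent.Lib.R2H2.PnBeilinson Groth.Agent.Lib.R2H2.GaetaAbs

section ClsMore

variable {X : Scheme.{u}}

theorem cls_zero' {M : X.Modules} : cls (0 : Coh.structureModule X ⟶ M) = 0 := by
  have h := cls_add (0 : Coh.structureModule X ⟶ M) 0
  rw [add_zero] at h
  exact left_eq_add.mp h

theorem cls_sub' {M : X.Modules} (σ τ : Coh.structureModule X ⟶ M) :
    cls (σ - τ) = cls σ - cls τ := by
  have h := cls_add (σ - τ) τ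
  rw [sub_add_cancel] at h
  rw [h, add_sub_cancel_right]

end ClsMore

section TwHom

variable {k : Type u} [Field k] {X : Scheme.{u}} [X.Over (Spec (CommRingCat.of k))]
  (T : X.Modules ⥤ X.Modules) [T.Full] [T.Faithful] (A : X.Modules)
  (w : T.obj A ≅ Coh.structureModule X)

include w in
theorem hom_eq_zero_of_subsingleton {B : X.Modules} (h : Subsingleton (Coh.HH X (T.obj B) 0))
    (f : A ⟶ B) : f = 0 := by
  apply T.map_injective
  have h1 : w.inv ≫ T.map f = 0 := eq_zero_of_cls _ (Subsingleton.elim _ _)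
  have h2 : T.map f = w.hom ≫ w.inv ≫ T.map f := by rw [Iso.hom_inv_id_assoc]
  rw [h2, h1, comp_zero, Functor.map_zero]

include w in
theorem subsingleton_of_hom_eq_zero {K : X.Modules} (h : ∀ g : A ⟶ K, g = 0) :
    Subsingleton (Coh.HH X (T.obj K) 0) := by
  have h0 : ∀ x : Coh.HH X (T.obj K) 0, x = 0 := fun x => by
    obtain ⟨σ, rfl⟩ := cls_surjective _ x
    have h1 : w.hom ≫ σ = T.map (T.preimage (w.hom ≫ σ)) := (T.map_preimage _).symm
    rw [h (T.preimage (w.hom ≫ σ)), Functor.map_zero] at h1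
    have h2 : σ = w.inv ≫ w.hom ≫ σ := by rw [Iso.inv_hom_id_assoc]
    rw [h2, h1, comp_zero]
    exact cls_zero'
  exact ⟨fun a b => (h0 a).trans (h0 b).symm⟩

include w in
theorem surjective_H0_of_lifts {M F : X.Modules} (φ : M ⟶ F)
    (hl : ∀ h : A ⟶ F, ∃ g : A ⟶ M, g ≫ φ = h) :
    Function.Surjective (HmapL (T.map φ) 0) := by
  intro y
  obtain ⟨τ, rfl⟩ := cls_surjective _ y
  obtain ⟨g, hg⟩ := hl (T.preimage (w.hom ≫ τ))
  refine ⟨cls (w.inv ≫ T.map g), ?_⟩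
  rw [cls_comp, Category.assoc, ← T.map_comp, hg, T.map_preimage, Iso.inv_hom_id_assoc]

include w in
theorem lifts_of_surjective_H0 {M F : X.Modules} (φ : M ⟶ F)
    (hs : Function.Surjective (HmapL (T.map φ) 0)) (h : A ⟶ F) :
    ∃ g : A ⟶ M, g ≫ φ = h := by
  obtain ⟨y, hy⟩ := hs (cls (w.inv ≫ T.map h))
  obtain ⟨σ, rfl⟩ := cls_surjective _ y
  rw [cls_comp] at hy
  have h1 : σ ≫ T.map φ = w.inv ≫ T.map h := by
    have h2 : cls (σ ≫ T.map φ - w.inv ≫ T.map h) = 0 := by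
      rw [cls_sub', hy, sub_self]
    exact sub_eq_zero.1 (eq_zero_of_cls _ h2)
  refine ⟨T.preimage (w.hom ≫ σ), ?_⟩
  apply T.map_injective
  rw [T.map_comp, T.map_preimage, Category.assoc, h1, Iso.hom_inv_id_assoc]

include w in
theorem end_scalar (hlin : ∀ (a : k) {B C : X.Modules} (f : B ⟶ C), T.map (a • f) = a • T.map f)
    (hO : ∀ g : Coh.structureModule X ⟶ Coh.structureModule X,
      ∃ c : k, g = c • 𝟙 (Coh.structureModule X))
    (f : A ⟶ A) : ∃ c : k, f = c • 𝟙 A := by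
  obtain ⟨c, hc⟩ := hO (w.inv ≫ T.map f ≫ w.hom)
  refine ⟨c, ?_⟩
  apply T.map_injective
  have h1 : T.map f = w.hom ≫ (w.inv ≫ T.map f ≫ w.hom) ≫ w.inv := by
    simp only [Category.assoc, Iso.hom_inv_id, Category.comp_id, Iso.hom_inv_id_assoc]
  rw [h1, hc, hlin, T.map_id, Linear.smul_comp, Linear.comp_smul, Category.id_comp,
    Iso.hom_inv_id]

end TwHom

section Pn

variable (k : Type u) [Field k] (n : ℕ)

local notation "PX" => CohB1.ProjSpace n k

/-- endomorphisms of the structure sheaf of `P^n_k` are scalars -/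
theorem end_unit (g : Coh.structureModule PX ⟶ Coh.structureModule PX) :
    ∃ c : k, g = c • 𝟙 (Coh.structureModule PX) := by
  have h1 : Module.finrank k (Coh.structureModule PX ⟶ Coh.structureModule PX) = 1 := by
    rw [(clsEquiv (k := k) (Coh.structureModule PX)).finrank_eq]
    exact finrank_H0_structure k n
  have hne : (𝟙 (Coh.structureModule PX)) ≠ 0 := by
    intro h0
    have h2 : ∀ f : Coh.structureModule PX ⟶ Coh.structureModule PX, f = 0 := fun f => by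
      rw [← Category.comp_id f, h0, comp_zero]
    have h3 : Subsingleton (Coh.structureModule PX ⟶ Coh.structureModule PX) :=
      ⟨fun a b => (h2 a).trans (h2 b).symm⟩
    rw [Module.finrank_zero_of_subsingleton] at h1
    exact zero_ne_one h1
  obtain ⟨c, hc⟩ := (finrank_eq_one_iff_of_nonzero' _ hne).1 h1 g
  exact ⟨c, hc.symm⟩

/-- the standard trivialization `O(a) ⊗ O(a') ≅ O` for `a + a' = 0` -/
theorem nonempty_twData (a a' : ℤ) (h : a + a' = 0) :
    Nonempty ((Tw n k a').obj (Twist.twistProjSpace n k a) ≅ Coh.structureModule PX) := by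
  obtain ⟨e⟩ := Groth.Agent.Lib.R2Lead.KRR.nonempty_twistProjSpace_tensor_iso n k a a'
  obtain ⟨z⟩ := Groth.Agent.Lib.R2Lead.KRR.nonempty_twistProjSpace_zero_iso n k
  exact ⟨e ≪≫ eqToIso (by rw [h]) ≪≫ z⟩

theorem end_twist (a : ℤ) (f : Twist.twistProjSpace n k a ⟶ Twist.twistProjSpace n k a) :
    ∃ c : k, f = c • 𝟙 _ := by
  obtain ⟨w⟩ := nonempty_twData k n a (-a) (add_neg_cancel a)
  haveI := isEquivalence_twR n k (-a)
  exact end_scalar (Tw n k (-a)) _ w (fun c {B C} f => twR_map_smul _ c f) (end_unit k n) f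

/-- untwisting by `O(0)` -/
theorem nonempty_tw_zero_iso (E : (PX).Modules) : Nonempty ((Tw n k 0).obj E ≅ E) := by
  obtain ⟨z⟩ := Groth.Agent.Lib.R2Lead.KRR.nonempty_twistProjSpace_zero_iso n k
  exact ⟨(twRIso z).app E ≪≫ Groth.Agent.Lib.Helper23.TensorUnit.tensorUnitIso E⟩

theorem subsingleton_HH_tw_zero (E : (PX).Modules) (i : ℕ) (h : Subsingleton (Coh.HH PX E i)) :
    Subsingleton (Coh.HH PX (CohB1.tensorMod E (Twist.twistProjSpace n k 0)) i) := by
  obtain ⟨e⟩ := nonempty_tw_zero_iso k n E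
  exact subsingleton_HH_of_iso e.symm i h

theorem subsingleton_HH_biprod {X : Scheme.{u}} (A B : X.Modules) (i : ℕ)
    (hA : Subsingleton (Coh.HH X A i)) (hB : Subsingleton (Coh.HH X B i)) :
    Subsingleton (Coh.HH X (A ⊞ B) i) := by
  have h0 : ∀ x : Coh.HH X (A ⊞ B) i, x = 0 := fun x => by
    have h2 : HmapL (biprod.fst ≫ biprod.inl + biprod.snd ≫ biprod.inr : A ⊞ B ⟶ A ⊞ B) i x =
        x := by
      rw [biprod.total, HmapL_id]
    rw [HmapL_add, HmapL_comp, HmapL_comp] at h2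
    rw [← h2, Subsingleton.elim (HmapL biprod.fst i x) 0,
      Subsingleton.elim (HmapL biprod.snd i x) 0, map_zero, map_zero, add_zero]
  exact ⟨fun a b => (h0 a).trans (h0 b).symm⟩

theorem subsingleton_HH_coprod_const {X : Scheme.{u}} (N : X.Modules) (b : ℕ) (i : ℕ)
    (h : Subsingleton (Coh.HH X N i)) :
    Subsingleton (Coh.HH X (∐ fun _ : Fin b => N) i) :=
  subsingleton_HH_of_iso (biproduct.isoCoproduct (fun _ : Fin b => N)) i
    (subsingleton_HH_biproduct _ i (fun _ => h))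

end Pn

section Plane

variable (k : Type u) [Field k]

local notation "P2" => CohB1.ProjSpace 2 k
local notation "OO" => Coh.structureModule (CohB1.ProjSpace 2 k)
local notation "Om1" => Twist.twistProjSpace 2 k (-1)

theorem isCoh_MM (a₂ a₃ : ℕ) : Coh.IsCoh (MM OO Om1 a₂ a₃) := by
  have hA : Coh.IsCoh (∐ fun _ : Fin a₂ => Om1) := isCoh_coprod_twist k 2 (fun _ => -1)
  have hB : Coh.IsCoh (∐ fun _ : Fin a₃ => OO) :=
    isCoh_of_isFinLocFree _ (Groth.Agent.Lib.Helper2.LocFree.isFinLocFree_of_iso_freeMod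
      (m := a₃) (∐ fun _ : Fin a₃ => OO) (Iso.refl _))
  have i1 : (∐ fun _ : Fin a₂ => Om1 : (P2).Modules).IsQuasicoherent := hA.1
  have i2 : SheafOfModules.IsFiniteType (R := (P2).ringCatSheaf) (∐ fun _ : Fin a₂ => Om1) := hA.2
  have i3 : (∐ fun _ : Fin a₃ => OO : (P2).Modules).IsQuasicoherent := hB.1
  have i4 : SheafOfModules.IsFiniteType (R := (P2).ringCatSheaf) (∐ fun _ : Fin a₃ => OO) := hB.2
  exact ⟨@Groth.Agent.Lib.Helper23.QCohLocal.isQuasicoherent_biprod _ _ _ i1 i3,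
    @Groth.Agent.Lib.Helper23.FTsub.isFiniteType_biprod _ _ _ i1 i3 i2 i4⟩

/-- cohomology of `O(-1)^a ⊞ O^b` on the plane, untwisted -/
theorem subsingleton_HH_MM (a₂ a₃ : ℕ) (i : ℕ) (hi : 1 ≤ i) :
    Subsingleton (Coh.HH P2 (MM OO Om1 a₂ a₃) i) := by
  obtain ⟨z⟩ := Groth.Agent.Lib.R2Lead.KRR.nonempty_twistProjSpace_zero_iso 2 k
  refine subsingleton_HH_biprod _ _ i ?_ ?_
  · refine subsingleton_HH_coprod_const _ a₂ i ?_
    exact Groth.Agent.Lib.R2H2.PnTwEquiv.subsingleton_HH_twist 2 k (-1) i (by omega) (by omega)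
  · refine subsingleton_HH_coprod_const _ a₃ i ?_
    refine subsingleton_HH_of_iso z i ?_
    exact Groth.Agent.Lib.R2H2.PnTwEquiv.subsingleton_HH_twist 2 k 0 i (by omega) (by omega)

/-- cohomology of `(O(-1)^a ⊞ O^b)(e)` on the plane in degree one -/
theorem subsingleton_HH_MM_tw (a₂ a₃ : ℕ) (e : ℤ) :
    Subsingleton (Coh.HH P2 ((Tw 2 k e).obj (MM OO Om1 a₂ a₃)) 1) := by
  obtain ⟨z⟩ := Groth.Agent.Lib.R2Lead.KRR.nonempty_twistProjSpace_zero_iso 2 k
  let A' : (P2).Modules := ∐ fun _ : Fin a₂ => Om1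
  let B' : (P2).Modules := ∐ fun _ : Fin a₃ => OO
  let B'' : (P2).Modules := ∐ fun _ : Fin a₃ => Twist.twistProjSpace 2 k 0
  have hA : Subsingleton (Coh.HH P2 ((Tw 2 k e).obj A') 1) :=
    subsingleton_HH_twR_coprod 2 k a₂ (-1) e 1 (by omega) (by omega)
  have hB'' : Subsingleton (Coh.HH P2 ((Tw 2 k e).obj B'') 1) :=
    subsingleton_HH_twR_coprod 2 k a₃ 0 e 1 (by omega) (by omega)
  have e2 : B'' ≅ B' := Sigma.mapIso (fun _ => z)
  have hB : Subsingleton (Coh.HH P2 ((Tw 2 k e).obj B') 1) :=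
    subsingleton_HH_of_iso ((Tw 2 k e).mapIso e2) 1 hB''
  have h0 : ∀ x : Coh.HH P2 ((Tw 2 k e).obj (A' ⊞ B')) 1, x = 0 := fun x => by
    have h2 : HmapL ((Tw 2 k e).map (biprod.fst ≫ biprod.inl + biprod.snd ≫ biprod.inr :
        A' ⊞ B' ⟶ A' ⊞ B')) 1 x = x := by
      rw [biprod.total, CategoryTheory.Functor.map_id, HmapL_id]
    rw [Functor.map_add, Functor.map_comp, Functor.map_comp, HmapL_add, HmapL_comp,
      HmapL_comp] at h2
    rw [← h2, Subsingleton.elim (HmapL ((Tw 2 k e).map biprod.fst) 1 x) 0,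
      Subsingleton.elim (HmapL ((Tw 2 k e).map biprod.snd) 1 x) 0, map_zero, map_zero, add_zero]
  exact ⟨fun a b => (h0 a).trans (h0 b).symm⟩

/-- **existence of a Gaeta resolution** -/
theorem gaeta_exists (F : (P2).Modules) (hF : Coh.IsCoh F)
    (h1 : Subsingleton (Coh.HH P2 F 1))
    (h2 : Subsingleton (Coh.HH P2 (CohB1.tensorMod F Om1) 2))
    (hμ : Function.Injective (mu (k := k) Om1 OO F)) :
    ∃ (α₁ α₂ α₃ : ℕ) (S : ShortComplex (P2).Modules), S.ShortExact ∧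
      Nonempty (S.X₁ ≅ ∐ fun _ : Fin α₁ => Twist.twistProjSpace 2 k (-2)) ∧
      Nonempty (S.X₂ ≅ (∐ fun _ : Fin α₂ => Om1) ⊞ (∐ fun _ : Fin α₃ => OO)) ∧
      Nonempty (S.X₃ ≅ F) := by
  let T1 : (P2).Modules ⥤ (P2).Modules := Tw 2 k 1
  haveI hT1 : T1.IsEquivalence := isEquivalence_twR 2 k 1
  obtain ⟨w1⟩ := nonempty_twData k 2 (-1) 1 (by norm_num)
  -- finiteness of the Hom spaces
  have hfinW : Module.Finite k (OO ⟶ F) := by
    have : Module.Finite k (Coh.HH P2 F 0) :=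
      Groth.Agent.Lib.R2H2.PnFinite.finite_HH 2 k F hF 0
    exact Module.Finite.equiv (clsEquiv (k := k) F).symm
  have hcoh1 : Coh.IsCoh (T1.obj F) := isCoh_twist k 2 F hF 1
  have hfin1 : Module.Finite k (OO ⟶ T1.obj F) := by
    have : Module.Finite k (Coh.HH P2 (T1.obj F) 0) :=
      Groth.Agent.Lib.R2H2.PnFinite.finite_HH 2 k _ hcoh1 0
    exact Module.Finite.equiv (clsEquiv (k := k) (T1.obj F)).symm
  have hfinH : Module.Finite k (Om1 ⟶ F) := by
    let L : (Om1 ⟶ F) →ₗ[k] (OO ⟶ T1.obj F) :=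
      { toFun := fun f => w1.inv ≫ T1.map f
        map_add' := fun f g => by rw [Functor.map_add, Preadditive.comp_add]
        map_smul' := fun a f => by
          rw [twR_map_smul, Linear.comp_smul]
          rfl }
    have hL : Function.Injective L := by
      intro f g hfg
      have h3 : w1.inv ≫ T1.map f = w1.inv ≫ T1.map g := hfg
      exact T1.map_injective ((cancel_epi w1.inv).1 h3)
    exact Module.Finite.of_injective L hL
  let wb := Module.finBasis k (OO ⟶ F)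
  obtain ⟨U, hU'⟩ := Submodule.exists_isCompl (LinearMap.range (mu (k := k) Om1 OO F))
  have hU : IsCompl U (LinearMap.range (mu (k := k) Om1 OO F)) := hU'.symm
  let ub := Module.finBasis k U
  let φ := phi OO Om1 F U ub wb
  have C1 := lift_O OO Om1 F U ub wb
  have C2 := lift_A OO Om1 F U hU ub wb
  have C3 := eq_zero_of_comp_phi OO Om1 F U hU ub wb hμ (end_twist k 2 (-1))
  -- surjectivity on `H^0`
  have D1 : Function.Surjective (HmapL φ 0) := by
    intro y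
    obtain ⟨s, rfl⟩ := cls_surjective _ y
    obtain ⟨g, hg⟩ := C1 s
    exact ⟨cls g, by rw [cls_comp, hg]⟩
  have D2 : Function.Surjective (HmapL (T1.map φ) 0) :=
    surjective_H0_of_lifts T1 Om1 w1 φ C2
  -- `F(1)` is globally generated
  have hreg1 : ∀ i : ℕ, 1 ≤ i → i ≤ 2 → Subsingleton (Coh.HH P2
      (CohB1.tensorMod F (Twist.twistProjSpace 2 k (1 - i))) i) := by
    intro i hi1 hi2
    interval_cases i
    · have e : (1 : ℤ) - ((1 : ℕ) : ℤ) = 0 := by norm_num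
      rw [e]
      exact subsingleton_HH_tw_zero k 2 F 1 h1
    · have e : (1 : ℤ) - ((2 : ℕ) : ℤ) = -1 := by norm_num
      rw [e]
      exact h2
  have hgg := globallyGenerated_of_regular 2 k F hF 1 hreg1
  have hep1 : Epi (T1.map φ) := epi_of_surjective_H0 (T1.map φ) hgg D2
  have hepφ : Epi φ := T1.epi_of_epi_map hep1
  -- the kernel
  let S : ShortComplex (P2).Modules := ShortComplex.mk (kernel.ι φ) φ (kernel.condition φ)
  have hS : S.ShortExact :=
    { exact := ShortComplex.exact_kernel φ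
      mono_f := equalizer.ι_mono
      epi_g := hepφ }
  have hK : Coh.IsCoh (kernel φ) :=
    isCoh_kernel k 2 (isCoh_MM k (Module.finrank k U) (Module.finrank k (OO ⟶ F))) hF φ
  have hS1 : (S.map T1).ShortExact := shortExact_map_twR _ (isInv 2 k 1) S hS
  have hM1 : Subsingleton (Coh.HH P2 (S.map T1).X₂ 1) :=
    subsingleton_HH_MM_tw k (Module.finrank k U) (Module.finrank k (OO ⟶ F)) 1
  have hD2' : Function.Surjective (HmapL (S.map T1).g 0) := D2
  have hK1_1 : Subsingleton (Coh.HH P2 (T1.obj (kernel φ)) 1) :=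
    subsingleton_X₁_succ_of_surjective (S.map T1) hS1 0 hD2' hM1
  have hK1_0 : Subsingleton (Coh.HH P2 (T1.obj (kernel φ)) 0) :=
    subsingleton_of_hom_eq_zero T1 Om1 w1 (fun g => by
      have h3 : (g ≫ kernel.ι φ) ≫ φ = 0 := by rw [Category.assoc, kernel.condition, comp_zero]
      have h4 := C3 (g ≫ kernel.ι φ) h3
      exact (cancel_mono (kernel.ι φ)).1 (h4.trans zero_comp.symm))
  have hM0_1 : Subsingleton (Coh.HH P2 S.X₂ 1) :=
    subsingleton_HH_MM k (Module.finrank k U) (Module.finrank k (OO ⟶ F)) 1 le_rfl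
  have hM0_2 : Subsingleton (Coh.HH P2 S.X₂ 2) :=
    subsingleton_HH_MM k (Module.finrank k U) (Module.finrank k (OO ⟶ F)) 2 (by norm_num)
  have hD1' : Function.Surjective (HmapL S.g 0) := D1
  have hK0_1 : Subsingleton (Coh.HH P2 (kernel φ) 1) :=
    subsingleton_X₁_succ_of_surjective S hS 0 hD1' hM0_1
  have h1' : Subsingleton (Coh.HH P2 S.X₃ 1) := h1
  have hK0_2 : Subsingleton (Coh.HH P2 (kernel φ) 2) :=
    subsingleton_X₁_succ S hS 1 h1' hM0_2
  obtain ⟨b, ⟨eK⟩⟩ := nonempty_iso_coprod_of_vanishing k 2 (kernel φ) hK 2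
    (by
      intro i hi1 hi2
      interval_cases i
      · have e : (2 : ℤ) - ((1 : ℕ) : ℤ) = 1 := by norm_num
        rw [e]
        exact hK1_1
      · have e : (2 : ℤ) - ((2 : ℕ) : ℤ) = 0 := by norm_num
        rw [e]
        exact subsingleton_HH_tw_zero k 2 _ 2 hK0_2)
    (by
      intro i hi1 hi2
      interval_cases i
      · have e : (2 : ℤ) - ((1 : ℕ) : ℤ) = 1 := by norm_num
        rw [e]
        exact hK1_0
      · have e : (2 : ℤ) - ((2 : ℕ) : ℤ) = 0 := by norm_num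
        rw [e]
        exact subsingleton_HH_tw_zero k 2 _ 1 hK0_1)
  exact ⟨b, _, _, S, hS, ⟨eK⟩, ⟨Iso.refl _⟩, ⟨Iso.refl _⟩⟩

/-- cohomology of `(O(-1)^a ⊞ O^b)(e)` on the plane, general degree -/
theorem subsingleton_HH_MM_tw' (a₂ a₃ : ℕ) (e : ℤ) (q : ℕ)
    (hA0 : ¬ (q = 0 ∧ 0 ≤ (-1 : ℤ) + e)) (hAn : ¬ (q = 2 ∧ (-1 : ℤ) + e ≤ -(((2 : ℕ) : ℤ) + 1)))
    (hB0 : ¬ (q = 0 ∧ 0 ≤ (0 : ℤ) + e)) (hBn : ¬ (q = 2 ∧ (0 : ℤ) + e ≤ -(((2 : ℕ) : ℤ) + 1))) :
    Subsingleton (Coh.HH P2 ((Tw 2 k e).obj (MM OO Om1 a₂ a₃)) q) := by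
  obtain ⟨z⟩ := Groth.Agent.Lib.R2Lead.KRR.nonempty_twistProjSpace_zero_iso 2 k
  let A' : (P2).Modules := ∐ fun _ : Fin a₂ => Om1
  let B' : (P2).Modules := ∐ fun _ : Fin a₃ => OO
  let B'' : (P2).Modules := ∐ fun _ : Fin a₃ => Twist.twistProjSpace 2 k 0
  have hA : Subsingleton (Coh.HH P2 ((Tw 2 k e).obj A') q) :=
    subsingleton_HH_twR_coprod 2 k a₂ (-1) e q hA0 hAn
  have hB'' : Subsingleton (Coh.HH P2 ((Tw 2 k e).obj B'') q) :=
    subsingleton_HH_twR_coprod 2 k a₃ 0 e q hB0 hBn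
  have e2 : B'' ≅ B' := Sigma.mapIso (fun _ => z)
  have hB : Subsingleton (Coh.HH P2 ((Tw 2 k e).obj B') q) :=
    subsingleton_HH_of_iso ((Tw 2 k e).mapIso e2) q hB''
  have h0 : ∀ x : Coh.HH P2 ((Tw 2 k e).obj (A' ⊞ B')) q, x = 0 := fun x => by
    have h2 : HmapL ((Tw 2 k e).map (biprod.fst ≫ biprod.inl + biprod.snd ≫ biprod.inr :
        A' ⊞ B' ⟶ A' ⊞ B')) q x = x := by
      rw [biprod.total, CategoryTheory.Functor.map_id, HmapL_id]
    rw [Functor.map_add, Functor.map_comp, Functor.map_comp, HmapL_add, HmapL_comp,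
      HmapL_comp] at h2
    rw [← h2, Subsingleton.elim (HmapL ((Tw 2 k e).map biprod.fst) q x) 0,
      Subsingleton.elim (HmapL ((Tw 2 k e).map biprod.snd) q x) 0, map_zero, map_zero, add_zero]
  exact ⟨fun a b => (h0 a).trans (h0 b).symm⟩

/-- one vanishing statement for a module with a Gaeta resolution -/
theorem vanishing_of_resolution (F : (P2).Modules) (α₁ α₂ α₃ : ℕ)
    (S : ShortComplex (P2).Modules) (hS : S.ShortExact)
    (e₁ : S.X₁ ≅ ∐ fun _ : Fin α₁ => Twist.twistProjSpace 2 k (-2))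
    (e₂ : S.X₂ ≅ MM OO Om1 α₂ α₃) (e₃ : S.X₃ ≅ F) (l : ℤ) (q : ℕ)
    (hA0 : ¬ (q = 0 ∧ 0 ≤ (-1 : ℤ) + l)) (hAn : ¬ (q = 2 ∧ (-1 : ℤ) + l ≤ -(((2 : ℕ) : ℤ) + 1)))
    (hB0 : ¬ (q = 0 ∧ 0 ≤ (0 : ℤ) + l)) (hBn : ¬ (q = 2 ∧ (0 : ℤ) + l ≤ -(((2 : ℕ) : ℤ) + 1)))
    (hCn : ¬ (q + 1 = 2 ∧ (-2 : ℤ) + l ≤ -(((2 : ℕ) : ℤ) + 1))) :
    Subsingleton (Coh.HH P2 ((Tw 2 k l).obj F) q) := by
  have hS' : (S.map (Tw 2 k l)).ShortExact := shortExact_map_twR _ (isInv 2 k l) S hS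
  have h₂ : Subsingleton (Coh.HH P2 (S.map (Tw 2 k l)).X₂ q) :=
    subsingleton_HH_of_iso ((Tw 2 k l).mapIso e₂.symm) q
      (subsingleton_HH_MM_tw' k α₂ α₃ l q hA0 hAn hB0 hBn)
  have h₁ : Subsingleton (Coh.HH P2 (S.map (Tw 2 k l)).X₁ (q + 1)) :=
    subsingleton_HH_of_iso ((Tw 2 k l).mapIso e₁.symm) (q + 1)
      (subsingleton_HH_twR_coprod 2 k α₁ (-2) l (q + 1) (by omega) hCn)
  have h₃ := subsingleton_X₃ (S.map (Tw 2 k l)) hS' q h₂ h₁
  exact subsingleton_HH_of_iso ((Tw 2 k l).mapIso e₃) q h₃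

/-- **necessity of the Gaeta conditions** -/
theorem gaeta_necessary (F : (P2).Modules) (α₁ α₂ α₃ : ℕ)
    (S : ShortComplex (P2).Modules) (hS : S.ShortExact)
    (e₁ : S.X₁ ≅ ∐ fun _ : Fin α₁ => Twist.twistProjSpace 2 k (-2))
    (e₂ : S.X₂ ≅ (∐ fun _ : Fin α₂ => Om1) ⊞ (∐ fun _ : Fin α₃ => OO)) (e₃ : S.X₃ ≅ F) :
    Subsingleton (Coh.HH P2 (CohB1.tensorMod F Om1) 0) ∧
      Subsingleton (Coh.HH P2 (CohB1.tensorMod F Om1) 2) ∧
      Subsingleton (Coh.HH P2 F 1) ∧ Subsingleton (Coh.HH P2 F 2) ∧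
      Subsingleton (Coh.HH P2 (CohB1.tensorMod F (Twist.twistProjSpace 2 k 1)) 1) ∧
      Subsingleton (Coh.HH P2 (CohB1.tensorMod F (Twist.twistProjSpace 2 k 1)) 2) ∧
      Function.Injective (mu (k := k) Om1 OO F) := by
  have key := vanishing_of_resolution k F α₁ α₂ α₃ S hS e₁ e₂ e₃
  obtain ⟨e0⟩ := nonempty_tw_zero_iso k 2 F
  refine ⟨key (-1) 0 (by omega) (by omega) (by omega) (by omega) (by omega),
    key (-1) 2 (by omega) (by omega) (by omega) (by omega) (by omega),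
    subsingleton_HH_of_iso e0 1 (key 0 1 (by omega) (by omega) (by omega) (by omega) (by omega)),
    subsingleton_HH_of_iso e0 2 (key 0 2 (by omega) (by omega) (by omega) (by omega) (by omega)),
    key 1 1 (by omega) (by omega) (by omega) (by omega) (by omega),
    key 1 2 (by omega) (by omega) (by omega) (by omega) (by omega), ?_⟩
  -- injectivity of `μ`
  let T1 : (P2).Modules ⥤ (P2).Modules := Tw 2 k 1
  haveI hT1 : T1.IsEquivalence := isEquivalence_twR 2 k 1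
  obtain ⟨w1⟩ := nonempty_twData k 2 (-1) 1 (by norm_num)
  have hOA : ∀ f : OO ⟶ Om1, f = 0 := fun f => by
    have : Subsingleton (Coh.HH P2 Om1 0) :=
      Groth.Agent.Lib.R2H2.PnTwEquiv.subsingleton_HH_twist 2 k (-1) 0 (by omega) (by omega)
    exact eq_zero_of_cls f (Subsingleton.elim _ _)
  have hMM : Function.Injective (mu (k := k) Om1 OO (MM OO Om1 α₂ α₃)) :=
    mu_injective_MM OO Om1 α₂ α₃ hOA (end_unit k 2)
  -- transport to `S.X₂`
  have hX₂ : Function.Injective (mu (k := k) Om1 OO S.X₂) :=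
    mu_injective_of_map OO Om1 e₂.inv
      (fun s => ⟨s ≫ e₂.hom, by rw [Category.assoc, Iso.hom_inv_id, Category.comp_id]⟩)
      (fun h hh => by
        have h3 : (h ≫ e₂.inv) ≫ e₂.hom = 0 := by rw [hh, zero_comp]
        rwa [Category.assoc, Iso.inv_hom_id, Category.comp_id] at h3) hMM
  -- `H^1(X₁) = 0` and `Hom(O(-1), X₁) = 0`
  have hX₁1 : Subsingleton (Coh.HH P2 S.X₁ 1) :=
    subsingleton_HH_of_iso e₁.symm 1 (subsingleton_HH_coprod_const _ α₁ 1
      (Groth.Agent.Lib.R2H2.PnTwEquiv.subsingleton_HH_twist 2 k (-2) 1 (by omega) (by omega)))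
  have hX₁0 : Subsingleton (Coh.HH P2 (T1.obj S.X₁) 0) :=
    subsingleton_HH_of_iso (T1.mapIso e₁.symm) 0
      (subsingleton_HH_twR_coprod 2 k α₁ (-2) 1 0 (by omega) (by omega))
  have hX₃ : Function.Injective (mu (k := k) Om1 OO S.X₃) := by
    refine mu_injective_of_map OO Om1 S.g ?_ ?_ hX₂
    · intro s
      obtain ⟨y, hy⟩ := exact₃ S hS 0 (cls s) (Subsingleton.elim _ _)
      obtain ⟨t, rfl⟩ := cls_surjective _ y
      rw [cls_comp] at hy
      refine ⟨t, ?_⟩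
      have h4 : cls (t ≫ S.g - s) = 0 := by rw [cls_sub', hy, sub_self]
      exact sub_eq_zero.1 (eq_zero_of_cls _ h4)
    · intro h hh
      have hmono : Mono S.f := hS.mono_f
      have h5 : h = hS.exact.lift h hh ≫ S.f := (hS.exact.lift_f h hh).symm
      rw [h5, hom_eq_zero_of_subsingleton T1 Om1 w1 hX₁0 (hS.exact.lift h hh), zero_comp]
  exact mu_injective_of_map OO Om1 e₃.hom
    (fun s => ⟨s ≫ e₃.inv, by rw [Category.assoc, Iso.inv_hom_id, Category.comp_id]⟩)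
    (fun h hh => by
      have h3 : (h ≫ e₃.hom) ≫ e₃.inv = 0 := by rw [hh, zero_comp]
      rwa [Category.assoc, Iso.hom_inv_id, Category.comp_id] at h3) hX₃

end Plane

end Groth.Agent.Lib.R2H2.P2Gaeta
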