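import Groth.Agent.Lib.R2H2PnBridge
import Groth.Agent.Lib.R2H2KoszulTw
import Groth.Agent.Lib.R2H2PnSerre
import Groth.Agent.Lib.R2H2PnCoh
import Groth.Agent.Lib.R2H2PnEuler

/-!
# Bott's formulas for the cohomology of `Ω^p(k)` on projective space (helper2, round 2)

Cohomology of the twisted Koszul syzygies `Z^t(k)`, `Z^t = ker (K^t → K^{t+1})`, of `P^n_A`; by
`R2H2PnBridge` these are the twisted exterior powers `Ω^p(k)`, `p + t = n + 1`.
-/

set_option backward.isDefEq.respectTransparency.types false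
set_option autoImplicit false
universe u

namespace Groth.Agent.Lib.R2H2.PnBott

open CategoryTheory CategoryTheory.Limits AlgebraicGeometry
open Groth.Agent.Lib.R2H2.KoszulAbs Groth.Agent.Lib.R2H2.HHLin Groth.Agent.Lib.R2H2.KoszulShift
open Groth.Agent.Lib.R2H2.KoszulTw Groth.Agent.Lib.R2H2.PnSerre Groth.Agent.Lib.R2H2.PnBridge

variable (n : ℕ) (A : Type u) [CommRing A]

/-- the twist functor `- ⊗ O(k)` -/
noncomputable def Tw (k : ℤ) : (CohB1.ProjSpace n A).Modules ⥤ (CohB1.ProjSpace n A).Modules :=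
  twR (Twist.twistProjSpace n A k)

instance (k : ℤ) : (Tw n A k).Additive := twR_additive _

lemma Tw_obj (k : ℤ) (M : (CohB1.ProjSpace n A).Modules) :
    (Tw n A k).obj M = CohB1.tensorMod M (Twist.twistProjSpace n A k) := rfl

lemma Tw_exact (k : ℤ) (S : ShortComplex (CohB1.ProjSpace n A).Modules) (hS : S.ShortExact) :
    (S.map (Tw n A k)).ShortExact :=
  shortExact_map_twR _ (isInv n A k) S hS

/-- the cohomology of the twisted Koszul summands -/
lemma subsingleton_HH_TwG (i : ℕ) (k : ℤ) (j : ℕ)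
    (h₀ : ¬ (j = 0 ∧ 0 ≤ -((n : ℤ) + 1) + i + k))
    (hn : ¬ (j = n ∧ -((n : ℤ) + 1) + i + k ≤ -((n : ℤ) + 1))) :
    Subsingleton (Coh.HH (CohB1.ProjSpace n A) ((Tw n A k).obj ((KP n A).G i)) j) := by
  obtain ⟨e⟩ := Groth.Agent.Lib.R2Lead.KRR.nonempty_twistProjSpace_tensor_iso n A
    (-((n : ℤ) + 1) + i) k
  exact subsingleton_HH_of_iso e.symm j
    (Groth.Agent.Lib.R2H2.PnCoh.subsingleton_HH_tilde A n _ j h₀ hn)

/-- the cohomology of the twisted Koszul terms -/
lemma subsingleton_HH_TwK (i : ℕ) (k : ℤ) (j : ℕ)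
    (h : n + 1 < i ∨ (¬ (j = 0 ∧ 0 ≤ -((n : ℤ) + 1) + i + k) ∧
      ¬ (j = n ∧ -((n : ℤ) + 1) + i + k ≤ -((n : ℤ) + 1)))) :
    Subsingleton (Coh.HH (CohB1.ProjSpace n A) ((Tw n A k).obj ((KP n A).K i)) j) := by
  rcases h with h | ⟨h₀, hn⟩
  · exact subsingleton_HH_FK_of_lt (KP n A) (Tw n A k) i j h
  · exact subsingleton_HH_FK (KP n A) (Tw n A k) i j (subsingleton_HH_TwG n A i k j h₀ hn)

/-- **Bott vanishing** for the twisted Koszul syzygies -/
theorem vanish_Z (t : ℕ) (ht : t ≤ n + 1) (k : ℤ) (q : ℕ)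
    (h0 : ¬ (q = 0 ∧ ((n + 1 - t : ℕ) : ℤ) < k))
    (hn : ¬ (q = n ∧ k < ((n + 1 - t : ℕ) : ℤ) - n))
    (hk : k = 0 → q ≠ n + 1 - t) :
    Subsingleton (Coh.HH (CohB1.ProjSpace n A)
      ((Tw n A k).obj (kernel ((KP n A).d t))) q) := by
  by_cases hc : n < q ∨ 0 ≤ k
  · refine subsingleton_HH_FZ_left (KP n A) (KP_exact n A) (Tw n A k) (Tw_exact n A k)
      (KP_mono n A) t q (fun i hi => ?_)
    refine subsingleton_HH_TwK n A i k _ (Or.inr ⟨?_, ?_⟩)
    · rintro ⟨h1, h2⟩
      apply h0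
      refine ⟨by omega, ?_⟩
      have hi' : i + 1 = t := by omega
      push_cast [Nat.cast_sub ht]
      have : (i : ℤ) + 1 = t := by exact_mod_cast hi'
      linarith
    · rintro ⟨h1, h2⟩
      rcases hc with hc | hc
      · omega
      · have hi0 : i = 0 := by
          have : (0 : ℤ) ≤ i := Int.natCast_nonneg _
          have : (i : ℤ) ≤ 0 := by linarith
          omega
        have hk0 : k = 0 := by
          subst hi0
          simp only [Nat.cast_zero, add_zero] at h2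
          linarith
        exact hk hk0 (by omega)
  · push Not at hc
    obtain ⟨hq, hk'⟩ := hc
    refine subsingleton_HH_FZ_right (KP n A) (KP_exact n A) (Tw n A k) (Tw_exact n A k) q t
      (fun j hj => ?_)
    by_cases hlt : n + 1 < t + j
    · exact subsingleton_HH_TwK n A (t + j) k _ (Or.inl hlt)
    · refine subsingleton_HH_TwK n A (t + j) k _ (Or.inr ⟨?_, ?_⟩)
      · rintro ⟨-, h2⟩
        have : ((t + j : ℕ) : ℤ) ≤ n + 1 := by exact_mod_cast (not_lt.1 hlt)
        linarith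
      · rintro ⟨h1, h2⟩
        apply hn
        have hj0 : j = 0 := by omega
        subst hj0
        refine ⟨by omega, ?_⟩
        push_cast [Nat.cast_sub ht]
        simp only [add_zero] at h2
        linarith

/-- **Bott vanishing** for twisted exterior powers of `Ω` on `P^n_A` -/
theorem vanish_extPow [QuasiSeparated (CohB1.ProjSpace.toSpec n A)] {p : ℕ}
    {L : (CohB1.ProjSpace n A).Modules}
    (hL : ExtPow.IsExtPow p (Omega.sheaf (CohB1.ProjSpace.toSpec n A)) L) (k : ℤ) (q : ℕ)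
    (h0 : ¬ (q = 0 ∧ (p : ℤ) < k)) (hn : ¬ (q = n ∧ k < (p : ℤ) - n))
    (hk : k = 0 → q ≠ p) :
    Subsingleton (Coh.HH (CohB1.ProjSpace n A)
      (CohB1.tensorMod L (Twist.twistProjSpace n A k)) q) := by
  by_cases hp : n + 1 < p
  · exact subsingleton_HH_of_isZero ((Tw n A k).map_isZero (isZero_of_lt hL hp)) q
  · have hpt : p + (n + 1 - p) = n + 1 := by omega
    obtain ⟨e⟩ := nonempty_iso_kernel hL (n + 1 - p) hpt
    have hsub : n + 1 - (n + 1 - p) = p := by omega
    refine subsingleton_HH_of_iso ((Tw n A k).mapIso e).symm q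
      (vanish_Z n A (n + 1 - p) (by omega) k q ?_ ?_ ?_)
    · rw [hsub]; exact h0
    · rw [hsub]; exact hn
    · rw [hsub]; exact hk

end Groth.Agent.Lib.R2H2.PnBott
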