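import Groth.Agent.Lib.R2H2PnBott
import Groth.Agent.Lib.Helper27PnSections

/-!
# `H^p(P^n_A, Ω^p) ≅ A` (helper2, round 2)
-/

set_option backward.isDefEq.respectTransparency.types false
set_option autoImplicit false
universe u

namespace Groth.Agent.Lib.R2H2.PnBott

open CategoryTheory CategoryTheory.Limits AlgebraicGeometry
open Groth.Agent.Lib.R2H2.KoszulAbs Groth.Agent.Lib.R2H2.HHLin Groth.Agent.Lib.R2H2.KoszulShift
open Groth.Agent.Lib.R2H2.KoszulTw Groth.Agent.Lib.R2H2.PnSerre Groth.Agent.Lib.R2H2.PnBridge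

variable (n : ℕ) (A : Type u) [CommRing A]

/-- the constants -/
noncomputable def homogZeroEquiv :
    ↥(MvPolynomial.homogeneousSubmodule (Fin (n + 1)) A 0) ≃ₗ[A] A :=
  ((LinearEquiv.ofInjective (Algebra.linearMap A (MvPolynomial (Fin (n + 1)) A))
    (MvPolynomial.C_injective (Fin (n + 1)) A)).trans
    (LinearEquiv.ofEq _ _ (by
      rw [MvPolynomial.homogeneousSubmodule_zero, Submodule.one_eq_range]))).symm

/-- the last Koszul cycle module is `O` -/
noncomputable def isoZTop :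
    kernel ((KP n A).d (n + 1)) ≅ Twist.twistProjSpace n A ((0 : ℕ) : ℤ) :=
  have hd : (KP n A).d (n + 1) = 0 :=
    ((KP n A).isZero_K (n + 1 + 1) (by omega)).eq_of_tgt _ _
  kernelIsoOfEq hd ≪≫ kernelZeroIsoSource ≪≫ isoKGTop (KP n A) ≪≫
    eqToIso (congrArg (fun m : ℤ => Twist.twistProjSpace n A m)
      (by push_cast; ring : -((n : ℤ) + 1) + ((n + 1 : ℕ) : ℤ) = ((0 : ℕ) : ℤ)))

/-- **`H^p(Z^t) ≅ A` for `t + p = n + 1`, `p ≤ n`** -/
theorem nonempty_HH_Z_equiv : ∀ (p t : ℕ), t + p = n + 1 → p ≤ n →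
    Nonempty (Coh.HH (CohB1.ProjSpace n A) (kernel ((KP n A).d t)) p ≃ₗ[A] A) := by
  intro p
  induction p with
  | zero =>
    intro t ht _
    obtain rfl : t = n + 1 := by omega
    obtain ⟨e4⟩ := Groth.Agent.Lib.Helper27PnSections.nonempty_linearEquiv n A 0
    exact ⟨(isoEquiv A (isoZTop n A) 0).trans (e4.trans (homogZeroEquiv n A))⟩
  | succ p ih =>
    intro t ht hp
    obtain ⟨e⟩ := ih (t + 1) (by omega) (by omega)
    have hS := ses_shortExact (KP n A) (KP_exact n A) t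
    have hK : ∀ j : ℕ, Subsingleton (Coh.HH (CohB1.ProjSpace n A) ((KP n A).K t) j) := by
      intro j
      refine subsingleton_HH_K (KP n A) t j
        (Groth.Agent.Lib.R2H2.PnCoh.subsingleton_HH_tilde A n _ j ?_ ?_)
      · rintro ⟨-, h2⟩
        have : (t : ℤ) ≤ n := by
          have : t ≤ n := by omega
          exact_mod_cast this
        linarith
      · rintro ⟨-, h2⟩
        have : (1 : ℤ) ≤ t := by
          have : 1 ≤ t := by omega
          exact_mod_cast this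
        linarith
    exact ⟨(deltaEquiv (ses (KP n A) t) hS A p (hK p) (hK (p + 1))).symm.trans e⟩

/-- **`H^p(P^n_A, Ω^p) ≅ A`** -/
theorem nonempty_HH_extPow_equiv [QuasiSeparated (CohB1.ProjSpace.toSpec n A)] {p : ℕ}
    (hp : p ≤ n) {L : (CohB1.ProjSpace n A).Modules}
    (hL : ExtPow.IsExtPow p (Omega.sheaf (CohB1.ProjSpace.toSpec n A)) L) :
    Nonempty (Coh.HH (CohB1.ProjSpace n A) L p ≃ₗ[A] A) := by
  have hpt : p + (n + 1 - p) = n + 1 := by omega
  obtain ⟨e⟩ := nonempty_iso_kernel hL (n + 1 - p) hpt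
  obtain ⟨e'⟩ := nonempty_HH_Z_equiv n A p (n + 1 - p) (by omega) hp
  exact ⟨(isoEquiv A e p).trans e'⟩

end Groth.Agent.Lib.R2H2.PnBott
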