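import Groth.Agent.Lib.R2H2PnDerSh

/-!
# The Euler relation `∑ x_l ∂_l = 0` for the maps `Ω → O(-1)` on projective space (helper2, round 2)
-/

set_option backward.isDefEq.respectTransparency.types false
set_option autoImplicit false
universe u

namespace Groth.Agent.Lib.R2H2.PnEulerRel

open CategoryTheory CategoryTheory.Limits AlgebraicGeometry TopologicalSpace Opposite
open Groth.Agent.Lib.Helper27GrTildeSect Groth.Agent.Lib.R2H2.PnDerAlg Groth.Agent.Lib.R2H2.PnDerSh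
open Groth.Agent.Lib.R2H2.PnMul Groth.Agent.Lib.R2H2.PnReg

variable (n : ℕ) (A : Type u) [CommRing A]

local notation "𝒢" => CohB1.polyGrading n A

section

variable {X : Scheme.{u}} {M N : X.Modules}

lemma sum_app {ι : Type*} (s : Finset ι) (f : ι → (M ⟶ N)) (U : X.Opens) (x : Γ(M, U)) :
    (∑ l ∈ s, f l).app U x = ∑ l ∈ s, (f l).app U x := by
  classical
  induction s using Finset.induction_on with
  | empty => simp
  | insert a s ha ih =>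
    rw [Finset.sum_insert ha, Finset.sum_insert ha, Scheme.Modules.Hom.add_app]
    change (f a).app U x + (∑ l ∈ s, f l).app U x = _
    rw [ih]

end

lemma secVal_sum {ι : Type*} (s : Finset ι) (q : ℤ) (W : (Proj 𝒢).Opens)
    (f : ι → Γ(GrTilde.tilde 𝒢 𝒢 q, W)) (y : ProjectiveSpectrum 𝒢) (hy : y ∈ W) :
    (secVal 𝒢 𝒢 q W (∑ l ∈ s, f l) y hy : Twist.Loc 𝒢 y) =
      ∑ l ∈ s, (secVal 𝒢 𝒢 q W (f l) y hy : Twist.Loc 𝒢 y) := by
  classical
  induction s using Finset.induction_on with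
  | empty => simp only [Finset.sum_empty]; rfl
  | insert a s ha ih =>
    rw [Finset.sum_insert ha, Finset.sum_insert ha, ← ih]
    rfl

lemma secVal_gsec (k : ℕ) (W : (Proj 𝒢).Opens) {b : MvPolynomial (Fin (n + 1)) A}
    (hb : b ∈ CohB1.polyGrading n A k) (y : ProjectiveSpectrum 𝒢) (hy : y ∈ W) :
    (secVal 𝒢 𝒢 (k : ℤ) W (gsec 𝒢 k W hb) y hy : Twist.Loc 𝒢 y) =
      algebraMap (MvPolynomial (Fin (n + 1)) A) (Twist.Loc 𝒢 y) b := by
  rw [← Localization.mk_one_eq_algebraMap]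
  rfl

/-- the value of `x_l · s` -/
lemma secVal_mulP (l : Fin (n + 1)) {p q : ℤ} (h : p + ((1 : ℕ) : ℤ) = q) (W : (Proj 𝒢).Opens)
    (s : Γ(GrTilde.tilde 𝒢 𝒢 p, W)) (y : ProjectiveSpectrum 𝒢) (hy : y ∈ W) :
    (secVal 𝒢 𝒢 q W ((mulP 𝒢 𝒢 (xs_mem n A l) h).app W s) y hy : Twist.Loc 𝒢 y) =
      algebraMap (MvPolynomial (Fin (n + 1)) A) (Twist.Loc 𝒢 y) (MvPolynomial.X l) * (secVal 𝒢 𝒢 p W s y hy : Twist.Loc 𝒢 y) := by
  rw [mulP_app]
  change (secVal 𝒢 𝒢 (1 : ℕ) W (gsec 𝒢 1 W (xs_mem n A l)) y hy : Twist.Loc 𝒢 y) * _ = _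
  rw [secVal_gsec]
  rfl

/-- Euler's relation for a function of degree zero -/
lemma sum_X_mul_dLoc (y : ProjectiveSpectrum 𝒢) (c : Twist.A0 𝒢 y) :
    ∑ l : Fin (n + 1), algebraMap (MvPolynomial (Fin (n + 1)) A) (Twist.Loc 𝒢 y) (MvPolynomial.X l) * dLoc n A l y c.val = 0 := by
  rw [HomogeneousLocalization.eq_num_div_den c]
  exact sum_X_mul_locDer_mk y.asHomogeneousIdeal.toIdeal.primeCompl ⟨c.den, c.den_mem⟩
    c.num_mem_deg c.den_mem_deg

variable [QuasiSeparated (CohB1.ProjSpace.toSpec n A)]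

lemma sum_phi_mulP_app (m q : ℤ) (hm : m + 1 = 0) (h : m + ((1 : ℕ) : ℤ) = q)
    (W : (Proj 𝒢).Opens) (c : Γ(Proj 𝒢, W)) :
    (∑ l : Fin (n + 1), phi n A l m hm ≫ mulP 𝒢 𝒢 (xs_mem n A l) h).app W
      ((OmegaSh.dOmega (CohB1.ProjSpace.toSpec n A)).app W c) = 0 := by
  rw [sum_app]
  apply sec_ext
  intro y hy
  refine (secVal_sum n A Finset.univ q W (fun l => (phi n A l m hm ≫
    mulP 𝒢 𝒢 (xs_mem n A l) h).app W
      ((OmegaSh.dOmega (CohB1.ProjSpace.toSpec n A)).app W c)) y hy).trans ?_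
  have h1 : ∀ l : Fin (n + 1),
      (secVal 𝒢 𝒢 q W ((phi n A l m hm ≫ mulP 𝒢 𝒢 (xs_mem n A l) h).app W
        ((OmegaSh.dOmega (CohB1.ProjSpace.toSpec n A)).app W c)) y hy : Twist.Loc 𝒢 y) =
      algebraMap (MvPolynomial (Fin (n + 1)) A) (Twist.Loc 𝒢 y) (MvPolynomial.X l) *
        dLoc n A l y (funVal 𝒢 W c y hy).val := by
    intro l
    change (secVal 𝒢 𝒢 q W ((mulP 𝒢 𝒢 (xs_mem n A l) h).app W
      ((phi n A l m hm).app W
        ((OmegaSh.dOmega (CohB1.ProjSpace.toSpec n A)).app W c))) y hy : Twist.Loc 𝒢 y) = _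
    rw [secVal_mulP, phi_d, secVal_dSec]
  simp_rw [h1]
  rw [sum_X_mul_dLoc]
  rfl

/-- **Euler's relation** `∑_l x_l · φ_l = 0` -/
theorem sum_phi_mulP (m q : ℤ) (hm : m + 1 = 0) (h : m + ((1 : ℕ) : ℤ) = q) :
    ∑ l : Fin (n + 1), phi n A l m hm ≫ mulP 𝒢 𝒢 (xs_mem n A l) h = 0 := by
  have huniv := Groth.Agent.Helper18OmLS.isUniversal_dOmega (CohB1.ProjSpace.toSpec n A)
    (GrTilde.tilde 𝒢 𝒢 q)
    ((OmegaSh.dOmega (CohB1.ProjSpace.toSpec n A)).postcomp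
      (0 : Omega.sheaf (CohB1.ProjSpace.toSpec n A) ⟶ GrTilde.tilde 𝒢 𝒢 q).val)
  refine huniv.unique ?_ rfl
  ext U c
  exact sum_phi_mulP_app n A m q hm h U.unop c

end Groth.Agent.Lib.R2H2.PnEulerRel
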