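import Groth.Agent.Lib.R2H2PnMinorSec
import Groth.Agent.Lib.Helper13ModBasis

/-!
# The minor morphisms `L → O(-p)` for an exterior power `L` of `Ω` on projective space
(helper2, round 2)
-/

set_option backward.isDefEq.respectTransparency.types false
set_option autoImplicit false
universe u

namespace Groth.Agent.Lib.R2H2.PnMinorHom

open CategoryTheory CategoryTheory.Limits AlgebraicGeometry TopologicalSpace Opposite
open Groth.Agent.Lib.Helper27GrTildeSect Groth.Agent.Lib.R2H2.PnDerSh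
open Groth.Agent.Lib.R2H2.PnMinorSec

variable (n : ℕ) (A : Type u) [CommRing A] [QuasiSeparated (CohB1.ProjSpace.toSpec n A)]

local notation "𝒢" => CohB1.polyGrading n A
local notation "ΩP" => Omega.sheaf (CohB1.ProjSpace.toSpec n A)
local notation "PX" => CohB1.ProjSpace n A

/-- the data of an exterior power (as in `ExtPow.IsExtPow`) -/
structure EPData (p : ℕ) (L : (CohB1.ProjSpace n A).Modules) where
  φ : ∀ U : (CohB1.ProjSpace n A).affineOpens, (L.val.obj (op U.1)) ≃ₗ[Γ(CohB1.ProjSpace n A, U.1)]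
    ↥(⋀[Γ(CohB1.ProjSpace n A, U.1)]^p ((ΩP).val.obj (op U.1)))
  compat : ∀ (U V : (CohB1.ProjSpace n A).affineOpens) (h : V.1 ≤ U.1)
    (e : Fin p → (ΩP).val.obj (op U.1)),
      L.val.map (homOfLE h).op ((φ U).symm (exteriorPower.ιMulti _ p e)) =
        (φ V).symm (exteriorPower.ιMulti _ p (fun j => (ΩP).val.map (homOfLE h).op (e j)))

lemma nonempty_EPData {p : ℕ} {L : (CohB1.ProjSpace n A).Modules}
    (hL : ExtPow.IsExtPow p ΩP L) : Nonempty (EPData n A p L) := by
  obtain ⟨φ, hφ⟩ := hL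
  exact ⟨⟨φ, hφ⟩⟩

variable {n A} {p : ℕ} {L : (CohB1.ProjSpace n A).Modules} (E : EPData n A p L)

lemma isBasis_affine :
    Opens.IsBasis (Set.range fun U : (CohB1.ProjSpace n A).affineOpens => U.1) := by
  rw [Subtype.range_coe]
  exact (CohB1.ProjSpace n A).isBasis_affineOpens

/-- the local minor map on an affine open -/
noncomputable def mLoc (m q : ℤ) (hm : m + 1 = 0) (hq : q = p * m) (J : Fin p → Fin (n + 1))
    (U : (CohB1.ProjSpace n A).affineOpens) :
    (L.val.obj (op U.1)) →ₗ[Γ(CohB1.ProjSpace n A, U.1)] ((OP n A q).val.obj (op U.1)) :=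
  (minorLin n A m q hm hq U.1 J).comp (E.φ U).toLinearMap

lemma mLoc_symm_ιMulti (m q : ℤ) (hm : m + 1 = 0) (hq : q = p * m) (J : Fin p → Fin (n + 1))
    (U : (CohB1.ProjSpace n A).affineOpens) (e : Fin p → (ΩP).val.obj (op U.1)) :
    mLoc E m q hm hq J U ((E.φ U).symm (exteriorPower.ιMulti _ p e)) =
      minorSec n A m q hm hq U.1 J e := by
  unfold mLoc
  rw [LinearMap.comp_apply, LinearEquiv.coe_coe, LinearEquiv.apply_symm_apply, minorLin_ιMulti]

/-- restriction followed by the local minor map -/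
noncomputable def f₁ (m q : ℤ) (hm : m + 1 = 0) (hq : q = p * m) (J : Fin p → Fin (n + 1))
    (U V : (CohB1.ProjSpace n A).affineOpens) (h : V.1 ≤ U.1) : Γ(L, U.1) →+ Γ(OP n A q, V.1) :=
  (mLoc E m q hm hq J V).toAddMonoidHom.comp (L.presheaf.map (homOfLE h).op).hom

/-- the local minor map followed by restriction -/
noncomputable def f₂ (m q : ℤ) (hm : m + 1 = 0) (hq : q = p * m) (J : Fin p → Fin (n + 1))
    (U V : (CohB1.ProjSpace n A).affineOpens) (h : V.1 ≤ U.1) : Γ(L, U.1) →+ Γ(OP n A q, V.1) :=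
  ((OP n A q).presheaf.map (homOfLE h).op).hom.comp (mLoc E m q hm hq J U).toAddMonoidHom

lemma f₁_smul (m q : ℤ) (hm : m + 1 = 0) (hq : q = p * m) (J : Fin p → Fin (n + 1))
    (U V : (CohB1.ProjSpace n A).affineOpens) (h : V.1 ≤ U.1) (r : Γ(CohB1.ProjSpace n A, U.1))
    (ℓ : Γ(L, U.1)) :
    f₁ E m q hm hq J U V h (r • ℓ) =
      (CohB1.ProjSpace n A).presheaf.map (homOfLE h).op r • f₁ E m q hm hq J U V h ℓ := by
  have h1 : L.presheaf.map (homOfLE h).op (r • ℓ) =
      (CohB1.ProjSpace n A).presheaf.map (homOfLE h).op r • L.presheaf.map (homOfLE h).op ℓ :=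
    Scheme.Modules.map_smul L (homOfLE h) r ℓ
  exact (congrArg (mLoc E m q hm hq J V) h1).trans
    ((mLoc E m q hm hq J V).map_smul _ (L.presheaf.map (homOfLE h).op ℓ))

lemma f₂_smul (m q : ℤ) (hm : m + 1 = 0) (hq : q = p * m) (J : Fin p → Fin (n + 1))
    (U V : (CohB1.ProjSpace n A).affineOpens) (h : V.1 ≤ U.1) (r : Γ(CohB1.ProjSpace n A, U.1))
    (ℓ : Γ(L, U.1)) :
    f₂ E m q hm hq J U V h (r • ℓ) =
      (CohB1.ProjSpace n A).presheaf.map (homOfLE h).op r • f₂ E m q hm hq J U V h ℓ := by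
  have h1 : mLoc E m q hm hq J U (r • ℓ) = r • mLoc E m q hm hq J U ℓ :=
    (mLoc E m q hm hq J U).map_smul r ℓ
  exact (congrArg ((OP n A q).presheaf.map (homOfLE h).op) h1).trans
    (Scheme.Modules.map_smul (OP n A q) (homOfLE h) r (mLoc E m q hm hq J U ℓ))

lemma f₁_eq_f₂ (m q : ℤ) (hm : m + 1 = 0) (hq : q = p * m) (J : Fin p → Fin (n + 1))
    (U V : (CohB1.ProjSpace n A).affineOpens) (h : V.1 ≤ U.1) (ℓ : Γ(L, U.1)) :
    f₁ E m q hm hq J U V h ℓ = f₂ E m q hm hq J U V h ℓ := by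
  obtain ⟨w, rfl⟩ : ∃ w, (E.φ U).symm w = ℓ := ⟨E.φ U ℓ, (E.φ U).symm_apply_apply ℓ⟩
  have hw : w ∈ Submodule.span Γ(CohB1.ProjSpace n A, U.1)
      (Set.range (exteriorPower.ιMulti Γ(CohB1.ProjSpace n A, U.1) p
        (M := (ΩP).val.obj (op U.1)))) := by
    rw [exteriorPower.ιMulti_span]; trivial
  induction hw using Submodule.span_induction with
  | mem w hw =>
    obtain ⟨e, rfl⟩ := hw
    have h1 : f₁ E m q hm hq J U V h ((E.φ U).symm (exteriorPower.ιMulti _ p e)) =
        minorSec n A m q hm hq V.1 J (fun j => (ΩP).val.map (homOfLE h).op (e j)) :=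
      (congrArg (mLoc E m q hm hq J V) (E.compat U V h e)).trans (mLoc_symm_ιMulti E m q hm hq J V _)
    have h2 : f₂ E m q hm hq J U V h ((E.φ U).symm (exteriorPower.ιMulti _ p e)) =
        (OP n A q).presheaf.map (homOfLE h).op (minorSec n A m q hm hq U.1 J e) :=
      congrArg ((OP n A q).presheaf.map (homOfLE h).op) (mLoc_symm_ιMulti E m q hm hq J U e)
    rw [h1, h2]
    exact (minorSec_map n A m q hm hq h J e).symm
  | zero =>
    exact (congrArg (f₁ E m q hm hq J U V h) (map_zero (E.φ U).symm)).trans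
      ((map_zero (f₁ E m q hm hq J U V h)).trans ((map_zero (f₂ E m q hm hq J U V h)).symm.trans
        (congrArg (f₂ E m q hm hq J U V h) (map_zero (E.φ U).symm)).symm))
  | add w w' _ _ hw hw' =>
    calc f₁ E m q hm hq J U V h ((E.φ U).symm (w + w'))
        = f₁ E m q hm hq J U V h ((E.φ U).symm w + (E.φ U).symm w') :=
          congrArg (f₁ E m q hm hq J U V h) (map_add (E.φ U).symm w w')
      _ = f₁ E m q hm hq J U V h ((E.φ U).symm w) + f₁ E m q hm hq J U V h ((E.φ U).symm w') :=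
          map_add (f₁ E m q hm hq J U V h) _ _
      _ = f₂ E m q hm hq J U V h ((E.φ U).symm w) + f₂ E m q hm hq J U V h ((E.φ U).symm w') := by
          rw [hw, hw']
      _ = f₂ E m q hm hq J U V h ((E.φ U).symm w + (E.φ U).symm w') :=
          (map_add (f₂ E m q hm hq J U V h) _ _).symm
      _ = f₂ E m q hm hq J U V h ((E.φ U).symm (w + w')) :=
          (congrArg (f₂ E m q hm hq J U V h) (map_add (E.φ U).symm w w')).symm
  | smul r w _ hw =>
    calc f₁ E m q hm hq J U V h ((E.φ U).symm (r • w))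
        = f₁ E m q hm hq J U V h (r • (E.φ U).symm w) :=
          congrArg (f₁ E m q hm hq J U V h) (map_smul (E.φ U).symm r w)
      _ = (CohB1.ProjSpace n A).presheaf.map (homOfLE h).op r •
            f₁ E m q hm hq J U V h ((E.φ U).symm w) := f₁_smul E m q hm hq J U V h r _
      _ = (CohB1.ProjSpace n A).presheaf.map (homOfLE h).op r •
            f₂ E m q hm hq J U V h ((E.φ U).symm w) := by rw [hw]
      _ = f₂ E m q hm hq J U V h (r • (E.φ U).symm w) := (f₂_smul E m q hm hq J U V h r _).symm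
      _ = f₂ E m q hm hq J U V h ((E.φ U).symm (r • w)) :=
          (congrArg (f₂ E m q hm hq J U V h) (map_smul (E.φ U).symm r w)).symm

/-- the minor morphism `L ⟶ O(q)`, `q = -p`, along `J` -/
noncomputable def mHom (m q : ℤ) (hm : m + 1 = 0) (hq : q = p * m) (J : Fin p → Fin (n + 1)) :
    L ⟶ OP n A q :=
  Groth.Agent.Helper13ModBasis.homOfBasis
    (fun U : (CohB1.ProjSpace n A).affineOpens => U.1) isBasis_affine
    (fun U => AddCommGrpCat.ofHom (mLoc E m q hm hq J U).toAddMonoidHom)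
    (fun U V h => by
      ext ℓ
      exact f₁_eq_f₂ E m q hm hq J U V h ℓ)
    (fun U a ℓ => (mLoc E m q hm hq J U).map_smul a ℓ)

lemma mHom_app (m q : ℤ) (hm : m + 1 = 0) (hq : q = p * m) (J : Fin p → Fin (n + 1))
    (U : (CohB1.ProjSpace n A).affineOpens) (ℓ : L.val.obj (op U.1)) :
    (mHom E m q hm hq J).app U.1 ℓ = mLoc E m q hm hq J U ℓ := by
  unfold mHom
  rw [Groth.Agent.Helper13ModBasis.homOfBasis_app]
  rfl

end Groth.Agent.Lib.R2H2.PnMinorHom
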