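import Groth.Agent.Lib.R2H2PnMinorLoc
import Groth.Agent.Lib.R2H2PnMinorHom
import Groth.Agent.Lib.R2H2PnEulerRel
import Groth.Agent.Lib.R2H2KoszulSheaf
import Groth.Agent.Lib.R2H2DevF
import Groth.Agent.Lib.Helper13AffBC

/-!
# Exterior powers of `Ω` on projective space as Koszul syzygies (helper2, round 2)

`L` a `p`-th exterior power of `Ω_{P^n_A/A}`, `p + t = n + 1`: `L ≅ ker (K^t → K^{t+1})` for the
Koszul complex `K^i = O(-n-1+i)^{C(n+1,i)}` of `x_0, …, x_n`.
-/

set_option backward.isDefEq.respectTransparency.types false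
set_option autoImplicit false
universe u

namespace Groth.Agent.Lib.R2H2.PnBridge

open CategoryTheory CategoryTheory.Limits AlgebraicGeometry TopologicalSpace Opposite
open Groth.Agent.Lib.Helper27GrTildeSect Groth.Agent.Lib.R2H2.PnDerSh
open Groth.Agent.Lib.R2H2.PnMinorSec Groth.Agent.Lib.R2H2.PnReg Groth.Agent.Lib.R2H2.PnChartOm
open Groth.Agent.Lib.R2H2.MinorAlg Groth.Agent.Lib.R2H2.PnMinorHom Groth.Agent.Lib.R2H2.PnMinorLoc
open Groth.Agent.Lib.R2H2.KoszulAbs Groth.Agent.Lib.R2H2.KoszulSheaf Groth.Agent.Lib.R2H2.PnMul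
open Groth.Agent.Lib.R2H2.PnEulerRel

variable (n : ℕ) (A : Type u) [CommRing A]

local notation "𝒢" => CohB1.polyGrading n A
local notation "ΩP" => Omega.sheaf (CohB1.ProjSpace.toSpec n A)

/-- the Koszul data `K^i = O(-n-1+i)^{C(n+1,i)}` -/
noncomputable def KP : KData (CohB1.ProjSpace n A).Modules (n + 1) :=
  kdata0 𝒢 (xs n A) (xs_mem n A) (-((n : ℤ) + 1))

lemma KP_G (i : ℕ) : (KP n A).G i = OP n A (-((n : ℤ) + 1) + i) := rfl

lemma KP_X (l : Fin (n + 1)) (i : ℕ) :
    (KP n A).X l i = mulP 𝒢 𝒢 (xs_mem n A l) (hidx (-((n : ℤ) + 1)) i) := rfl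

theorem KP_exact (i : ℕ) :
    (ShortComplex.mk ((KP n A).d i) ((KP n A).d (i + 1)) ((KP n A).d_comp_d i)).Exact :=
  exact_kdata0 𝒢 (xs n A) (xs_mem n A) (-((n : ℤ) + 1)) (xs_cov n A) i

theorem KP_mono : Mono ((KP n A).d 0) :=
  mono_kdata0 𝒢 (xs n A) (xs_mem n A) (-((n : ℤ) + 1)) (xs_cov n A)

variable {n A} [QuasiSeparated (CohB1.ProjSpace.toSpec n A)]
variable {p : ℕ} {L : (CohB1.ProjSpace n A).Modules} (E : EPData n A p L)

/-- a morphism out of an exterior power vanishing on the decomposable sections is zero -/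
lemma hom_eq_zero {N : (CohB1.ProjSpace n A).Modules} (f : L ⟶ N)
    (h : ∀ (U : (CohB1.ProjSpace n A).affineOpens) (e : Fin p → (ΩP).val.obj (op U.1)),
      f.app U.1 ((E.φ U).symm (exteriorPower.ιMulti _ p e)) = 0) : f = 0 := by
  refine Groth.Agent.Helper13ModBasis.hom_ext_basis
    (fun U : (CohB1.ProjSpace n A).affineOpens => U.1) isBasis_affine f 0 (fun U => ?_)
  ext ℓ
  obtain ⟨w, rfl⟩ : ∃ w, (E.φ U).symm w = ℓ := ⟨E.φ U ℓ, (E.φ U).symm_apply_apply ℓ⟩
  have hw : w ∈ Submodule.span Γ(CohB1.ProjSpace n A, U.1)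
      (Set.range (exteriorPower.ιMulti Γ(CohB1.ProjSpace n A, U.1) p
        (M := (ΩP).val.obj (op U.1)))) := by
    rw [exteriorPower.ιMulti_span]; trivial
  change f.app U.1 ((E.φ U).symm w) = 0
  induction hw using Submodule.span_induction with
  | mem w hw =>
    obtain ⟨e, rfl⟩ := hw
    exact h U e
  | zero =>
    exact (congrArg (f.app U.1) (map_zero (E.φ U).symm)).trans (map_zero (f.app U.1).hom)
  | add w w' _ _ hw hw' =>
    refine (congrArg (f.app U.1) (map_add (E.φ U).symm w w')).trans ?_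
    refine (map_add (f.app U.1).hom _ _).trans ?_
    rw [hw, hw', add_zero]
  | smul r w _ hw =>
    refine (congrArg (f.app U.1) (map_smul (E.φ U).symm r w)).trans ?_
    refine (Scheme.Modules.Hom.app_smul f r ((E.φ U).symm w)).trans ?_
    rw [hw, smul_zero]

section Generic

variable {X : Scheme.{u}}

/-- evaluation on sections as an additive map -/
noncomputable def appHom (M N : X.Modules) (U : X.Opens) : (M ⟶ N) →+ (Γ(M, U) →+ Γ(N, U)) where
  toFun f := (f.app U).hom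
  map_zero' := rfl
  map_add' _ _ := rfl

lemma zsmul_app {M N : X.Modules} (z : ℤ) (f : M ⟶ N) (U : X.Opens) (x : Γ(M, U)) :
    (z • f).app U x = z • f.app U x := by
  have h := map_zsmul (appHom M N U) z f
  exact congrArg (fun g : Γ(M, U) →+ Γ(N, U) => g x) h

lemma KData.hom_eq_zero {𝒟 : Type*} [Category 𝒟] [Preadditive 𝒟] {r : ℕ} (D : KData 𝒟 r) {Z : 𝒟}
    (i : ℕ) (f : Z ⟶ D.K i) (h : ∀ T : Finset (Fin r), T.card = i → f ≫ D.prj i T = 0) :
    f = 0 := by
  rw [← Category.comp_id f, ← D.total i, Preadditive.comp_sum]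
  refine Finset.sum_eq_zero fun T _ => ?_
  by_cases hT : T.card = i
  · rw [← Category.assoc, h T hT, zero_comp]
  · rw [D.prj_zero i T hT, zero_comp, comp_zero]

end Generic

section Euler

omit [QuasiSeparated (CohB1.ProjSpace.toSpec n A)] in
lemma sv_sum' {ι : Type*} (q : ℤ) (U : (CohB1.ProjSpace n A).Opens) (t : Finset ι)
    (f : ι → Γ(OP n A q, U)) (y : ProjectiveSpectrum 𝒢) (hy : y ∈ U) :
    sv n A q U y hy (∑ s ∈ t, f s) = ∑ s ∈ t, sv n A q U y hy (f s) :=
  map_sum (sv n A q U y hy) f t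

/-- Euler's relation for the values of the `φ_l` -/
lemma euler_val (U : (CohB1.ProjSpace n A).Opens) (ω : Γ(ΩP, U)) (y : ProjectiveSpectrum 𝒢)
    (hy : y ∈ U) :
    ∑ l : Fin (n + 1), algebraMap (MvPolynomial (Fin (n + 1)) A) (Twist.Loc 𝒢 y)
      (MvPolynomial.X l) * phiVal n A (-1) (by norm_num) U l y hy ω = 0 := by
  have h0 := sum_phi_mulP n A (-1) 0 (by norm_num) (by norm_num)
  have h1 : (∑ l : Fin (n + 1), phi n A l (-1) (by norm_num) ≫
      mulP 𝒢 𝒢 (xs_mem n A l) (by norm_num : (-1 : ℤ) + ((1 : ℕ) : ℤ) = 0)).app U ω =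
      (0 : Γ(OP n A 0, U)) :=
    congrArg (fun f : ΩP ⟶ GrTilde.tilde 𝒢 𝒢 0 => f.app U ω) h0
  rw [sum_app] at h1
  have h2 := congrArg (sv n A 0 U y hy) h1
  refine Eq.trans (Finset.sum_congr rfl fun l _ => ?_)
    ((sv_sum' 0 U Finset.univ (fun l => (phi n A l (-1) (by norm_num) ≫
      mulP 𝒢 𝒢 (xs_mem n A l) (by norm_num : (-1 : ℤ) + ((1 : ℕ) : ℤ) = 0)).app U ω) y hy).symm.trans
      (h2.trans (map_zero _)))
  exact (secVal_mulP n A l (p := -1) (q := 0) (by norm_num) U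
    ((phi n A l (-1) (by norm_num)).app U ω) y hy).symm

end Euler

section Main

variable (t : ℕ) (hpt : p + t = n + 1)

include hpt in
lemma hq_aux : (-((n : ℤ) + 1) + (t : ℤ)) = (p : ℤ) * (-1) := by
  have : (p : ℤ) + t = n + 1 := by exact_mod_cast hpt
  linarith

/-- the sorted minor morphism along a subset (zero if the cardinality is wrong) -/
noncomputable def mS0 (J : Finset (Fin (n + 1))) : L ⟶ OP n A (-((n : ℤ) + 1) + t) :=
  if h : J.card = p then
    mHom E (-1) (-((n : ℤ) + 1) + t) (by norm_num) (hq_aux t hpt) (J.orderEmbOfFin h)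
  else 0

/-- the sorted minor morphism along a subset, with values in the Koszul summand -/
noncomputable def mS (J : Finset (Fin (n + 1))) : L ⟶ (KP n A).G t := mS0 E t hpt J

/-- the comparison morphism to the Koszul term -/
noncomputable def cc : L ⟶ (KP n A).K t :=
  ∑ S : Finset (Fin (n + 1)), (sgn Sᶜ) • (mS E t hpt Sᶜ ≫ (KP n A).inj t S)

lemma cc_prj (S : Finset (Fin (n + 1))) (hS : S.card = t) :
    cc E t hpt ≫ (KP n A).prj t S = sgn Sᶜ • mS E t hpt Sᶜ := by
  unfold cc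
  rw [Preadditive.sum_comp, Finset.sum_eq_single S]
  · rw [Preadditive.zsmul_comp, Category.assoc, (KP n A).inj_prj, if_pos ⟨rfl, hS⟩,
      Category.comp_id]
  · intro S' _ hS'
    rw [Preadditive.zsmul_comp, Category.assoc, (KP n A).inj_prj,
      if_neg (fun h => hS' h.1), comp_zero, smul_zero]
  · intro h
    exact absurd (Finset.mem_univ _) h

/-- the values of the minor morphisms on decomposable sections -/
lemma sv_mS0 (J : Finset (Fin (n + 1))) (U : (CohB1.ProjSpace n A).affineOpens)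
    (e : Fin p → (ΩP).val.obj (op U.1)) (y : ProjectiveSpectrum 𝒢) (hy : y ∈ U.1) :
    sv n A (-((n : ℤ) + 1) + t) U.1 y hy
        ((mS0 E t hpt J).app U.1 ((E.φ U).symm (exteriorPower.ιMulti _ p e))) =
      minor (fun a l => phiVal n A (-1) (by norm_num) U.1 l y hy (e a)) J := by
  unfold mS0 minor
  split_ifs with h
  · refine (congrArg (sv n A (-((n : ℤ) + 1) + t) U.1 y hy)
      ((mHom_app E (-1) (-((n : ℤ) + 1) + t) (by norm_num) (hq_aux t hpt) (J.orderEmbOfFin h) U
        _).trans (mLoc_symm_ιMulti E (-1) (-((n : ℤ) + 1) + t) (by norm_num) (hq_aux t hpt)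
          (J.orderEmbOfFin h) U e))).trans ?_
    rw [sv_minorSec]
    rfl
  · exact map_zero _

/-- the value of a term of the composite with the Koszul differential -/
lemma sv_term (J'' : Finset (Fin (n + 1))) (l : Fin (n + 1)) (z : ℤ)
    (U : (CohB1.ProjSpace n A).affineOpens) (e : Fin p → (ΩP).val.obj (op U.1))
    (y : ProjectiveSpectrum 𝒢) (hy : y ∈ U.1) :
    sv n A (-((n : ℤ) + 1) + ((t + 1 : ℕ) : ℤ)) U.1 y hy
        ((z • (mS E t hpt J'' ≫ (KP n A).X l t)).app U.1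
          ((E.φ U).symm (exteriorPower.ιMulti _ p e))) =
      (z : Twist.Loc 𝒢 y) * (algebraMap (MvPolynomial (Fin (n + 1)) A) (Twist.Loc 𝒢 y)
        (MvPolynomial.X l) *
          minor (fun a l' => phiVal n A (-1) (by norm_num) U.1 l' y hy (e a)) J'') := by
  rw [zsmul_app]
  refine (map_zsmul (sv n A (-((n : ℤ) + 1) + ((t + 1 : ℕ) : ℤ)) U.1 y hy) z _).trans ?_
  rw [zsmul_eq_mul]
  congr 1
  refine (secVal_mulP n A l (hidx (-((n : ℤ) + 1)) t) U.1
    ((mS0 E t hpt J'').app U.1 ((E.φ U).symm (exteriorPower.ιMulti _ p e))) y hy).trans ?_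
  congr 1
  exact sv_mS0 E t hpt J'' U e y hy

omit [QuasiSeparated (CohB1.ProjSpace.toSpec n A)] in
lemma sv_zero (q : ℤ) (U : (CohB1.ProjSpace n A).Opens) (y : ProjectiveSpectrum 𝒢) (hy : y ∈ U) :
    sv n A q U y hy 0 = 0 := map_zero _

/-- the comparison morphism lands in the Koszul cycles -/
theorem cc_d : cc E t hpt ≫ (KP n A).d t = 0 := by
  refine KData.hom_eq_zero (KP n A) (t + 1) _ (fun T hT => ?_)
  rw [Category.assoc, (KP n A).d_comp_prj t T hT, Preadditive.comp_sum]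
  have hterm : ∀ l : Fin (n + 1), cc E t hpt ≫ (if l ∈ T then
      eps l (T.erase l) • ((KP n A).prj t (T.erase l) ≫ (KP n A).X l t) else 0) =
      if l ∈ T then (eps l (T.erase l) * sgn (T.erase l)ᶜ) •
        (mS E t hpt (T.erase l)ᶜ ≫ (KP n A).X l t) else 0 := by
    intro l
    split_ifs with hl
    · have hc : (T.erase l).card = t := by rw [Finset.card_erase_of_mem hl, hT]; rfl
      rw [Preadditive.comp_zsmul, ← Category.assoc, cc_prj E t hpt _ hc, Preadditive.zsmul_comp,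
        smul_smul]
    · rw [comp_zero]
  rw [Finset.sum_congr rfl fun l _ => hterm l]
  -- the cardinalities
  have hTle : T.card ≤ n + 1 := by
    have := Finset.card_le_univ T
    rwa [Fintype.card_fin] at this
  obtain ⟨k, rfl⟩ : ∃ k, p = k + 1 := ⟨p - 1, by omega⟩
  have hJ : Tᶜ.card = k := by
    rw [Finset.card_compl, Fintype.card_fin, hT]; omega
  apply hom_eq_zero E
  intro U e
  apply sv_ext n A
  intro y hy
  rw [sum_app]
  refine (sv_sum' _ U.1 Finset.univ _ y hy).trans ?_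
  refine Eq.trans ?_ (sv_zero _ U.1 y hy).symm
  have hv := fun a => euler_val U.1 (e a) y hy
  have hlap := laplace (fun l => algebraMap (MvPolynomial (Fin (n + 1)) A) (Twist.Loc 𝒢 y)
    (MvPolynomial.X l)) (fun a l' => phiVal n A (-1) (by norm_num) U.1 l' y hy (e a)) hv Tᶜ hJ
  have hmul := congrArg (fun z => ((sgn Tᶜ : ℤ) : Twist.Loc 𝒢 y) * z) hlap
  simp only [mul_zero] at hmul
  rw [Finset.mul_sum] at hmul
  refine Eq.trans (Finset.sum_congr rfl fun l _ => ?_) hmul
  by_cases hl : l ∈ T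
  · have hl' : l ∉ Tᶜ := by simpa using hl
    rw [if_pos hl, if_neg hl']
    refine (sv_term E t hpt _ l _ U e y hy).trans ?_
    have h1 : (T.erase l)ᶜ = insert l Tᶜ := by
      ext a
      simp only [Finset.mem_compl, Finset.mem_erase, Finset.mem_insert]
      tauto
    have h2 : T.erase l = Tᶜᶜ.erase l := by rw [compl_compl]
    have h3 := eps_compl l Tᶜ hl'
    rw [h1, h2, h3]
    push_cast
    ring
  · have hl' : l ∈ Tᶜ := by simpa using hl
    rw [if_neg hl, if_pos hl', mul_zero]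
    exact sv_zero _ U.1 y hy

end Main

section Cycles

omit [QuasiSeparated (CohB1.ProjSpace.toSpec n A)] in
/-- a section of a Koszul term all of whose components vanish is zero -/
lemma sec_eq_zero_of_prj (t : ℕ) (U : (CohB1.ProjSpace n A).Opens) (z : Γ((KP n A).K t, U))
    (h : ∀ S : Finset (Fin (n + 1)), S.card = t → ((KP n A).prj t S).app U z = 0) : z = 0 := by
  have h1 := congrArg (fun f : (KP n A).K t ⟶ (KP n A).K t => f.app U z) ((KP n A).total t)
  simp only at h1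
  rw [sum_app] at h1
  have h2 : (𝟙 ((KP n A).K t) : (KP n A).K t ⟶ (KP n A).K t).app U z = z := rfl
  rw [← h2, ← h1]
  refine Finset.sum_eq_zero fun S _ => ?_
  by_cases hS : S.card = t
  · change ((KP n A).inj t S).app U (((KP n A).prj t S).app U z) = 0
    rw [h S hS, map_zero]
  · rw [(KP n A).prj_zero t S hS, zero_comp]
    rfl

omit [QuasiSeparated (CohB1.ProjSpace.toSpec n A)] in
/-- a Koszul cycle over `U ⊆ D₊(x_{i₀})` whose components along the subsets containing `i₀` vanish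
is zero -/
lemma cycle_eq_zero (t : ℕ) {i₀ : Fin (n + 1)} (U : (CohB1.ProjSpace n A).Opens)
    (hU : U ≤ U₀ n A i₀) (z : Γ((KP n A).K t, U)) (hd : ((KP n A).d t).app U z = 0)
    (h : ∀ S : Finset (Fin (n + 1)), S.card = t → i₀ ∈ S → ((KP n A).prj t S).app U z = 0) :
    z = 0 := by
  refine sec_eq_zero_of_prj t U z (fun S hS => ?_)
  by_cases hi : i₀ ∈ S
  · exact h S hS hi
  have hT : (insert i₀ S).card = t + 1 := by rw [Finset.card_insert_of_notMem hi, hS]
  have h1 : ((KP n A).d t ≫ (KP n A).prj (t + 1) (insert i₀ S)).app U z = 0 := by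
    change ((KP n A).prj (t + 1) (insert i₀ S)).app U (((KP n A).d t).app U z) = 0
    rw [hd, map_zero]
  rw [(KP n A).d_comp_prj t _ hT, sum_app, Finset.sum_eq_single i₀] at h1
  · rw [if_pos (Finset.mem_insert_self i₀ S), Finset.erase_insert hi, zsmul_app] at h1
    have h2 : ((KP n A).X i₀ t).app U (((KP n A).prj t S).app U z) = 0 := by
      have h3 := congrArg (fun x => eps i₀ S • x) h1
      simp only [smul_zero, smul_smul, eps_mul_self, one_smul] at h3
      exact h3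
    apply sv_ext n A
    intro y hy
    have h4 := congrArg (sv n A _ U y hy) h2
    have h5 := (secVal_mulP n A i₀ (hidx (-((n : ℤ) + 1)) t) U
      (((KP n A).prj t S).app U z) y hy).symm.trans (h4.trans (sv_zero _ U y hy))
    have h6 := congrArg (fun x => uy hU y hy * x) h5
    simp only [mul_zero] at h6
    rw [← mul_assoc, uy_mul, one_mul] at h6
    exact h6.trans (sv_zero _ U y hy).symm
  · intro l _ hl
    split_ifs with hlT
    · have hlS : l ∈ S := (Finset.mem_insert.1 hlT).resolve_left hl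
      have hc : ((insert i₀ S).erase l).card = t := by
        rw [Finset.card_erase_of_mem hlT, hT]; rfl
      have hmem : i₀ ∈ (insert i₀ S).erase l :=
        Finset.mem_erase.2 ⟨Ne.symm hl, Finset.mem_insert_self i₀ S⟩
      rw [zsmul_app]
      change eps l _ • ((KP n A).X l t).app U (((KP n A).prj t ((insert i₀ S).erase l)).app U z) = 0
      rw [h _ hc hmem, map_zero, smul_zero]
    · rfl
  · intro h'
    exact absurd (Finset.mem_univ _) h'

end Cycles

section Iso

variable (t : ℕ) (hpt : p + t = n + 1)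

/-- the comparison morphism to the Koszul cycles -/
noncomputable def Φ : L ⟶ kernel ((KP n A).d t) :=
  kernel.lift _ (cc E t hpt) (cc_d E t hpt)

lemma Φ_ι : Φ E t hpt ≫ kernel.ι ((KP n A).d t) = cc E t hpt := kernel.lift_ι _ _ _

lemma Φ_ι_app (U : (CohB1.ProjSpace n A).Opens) (ℓ : Γ(L, U)) :
    (kernel.ι ((KP n A).d t)).app U ((Φ E t hpt).app U ℓ) = (cc E t hpt).app U ℓ :=
  congrArg (fun f : L ⟶ (KP n A).K t => f.app U ℓ) (Φ_ι E t hpt)

lemma prj_cc_app (S : Finset (Fin (n + 1))) (hS : S.card = t) (U : (CohB1.ProjSpace n A).Opens)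
    (ℓ : Γ(L, U)) :
    ((KP n A).prj t S).app U ((cc E t hpt).app U ℓ) = sgn Sᶜ • (mS E t hpt Sᶜ).app U ℓ := by
  have h := congrArg (fun f : L ⟶ (KP n A).G t => f.app U ℓ) (cc_prj E t hpt S hS)
  exact h.trans (zsmul_app _ _ U ℓ)

include hpt in
lemma card_compl_of (s : Set.powersetCard (Fin (n + 1)) p) : (s.valᶜ).card = t := by
  rw [Finset.card_compl, Fintype.card_fin]
  have : s.val.card = p := s.prop
  omega

/-- the minor morphism along a subset of the right cardinality, on an affine open -/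
lemma mS_app (s : Set.powersetCard (Fin (n + 1)) p) (U : (CohB1.ProjSpace n A).affineOpens)
    (ℓ : L.val.obj (op U.1)) :
    (mS E t hpt s.val).app U.1 ℓ =
      MJ U (-1) (-((n : ℤ) + 1) + t) (by norm_num) (hq_aux t hpt) s (E.φ U ℓ) := by
  have h1 : mS E t hpt s.val = mHom E (-1) (-((n : ℤ) + 1) + t) (by norm_num) (hq_aux t hpt)
      (s.val.orderEmbOfFin s.prop) := dif_pos s.prop
  rw [h1]
  exact mHom_app E (-1) (-((n : ℤ) + 1) + t) (by norm_num) (hq_aux t hpt) _ U ℓ

lemma sgn_smul_sgn_smul {M : Type*} [AddCommGroup M] (J : Finset (Fin (n + 1))) (x : M) :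
    sgn J • sgn J • x = x := by
  rw [smul_smul, sgn_mul_self, one_smul]

theorem Φ_app_injective {i₀ : Fin (n + 1)} (U : (CohB1.ProjSpace n A).affineOpens)
    (hU : U.1 ≤ U₀ n A i₀) : Function.Injective ((Φ E t hpt).app U.1) := by
  rw [injective_iff_map_eq_zero]
  intro ℓ hℓ
  have h1 : (cc E t hpt).app U.1 ℓ = 0 := by
    rw [← Φ_ι_app, hℓ, map_zero]
  have h2 : E.φ U ℓ = 0 := by
    refine eq_zero_of_MJ U hU (-1) (-((n : ℤ) + 1) + t) (by norm_num) (hq_aux t hpt) _
      (fun s₀ _ => ?_)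
    rw [← mS_app E t hpt s₀ U ℓ]
    have h3 := prj_cc_app E t hpt s₀.valᶜ (card_compl_of t hpt s₀) U.1 ℓ
    rw [h1, map_zero, compl_compl] at h3
    have h4 := congrArg (fun x => sgn s₀.val • x) h3
    simp only [smul_zero] at h4
    rw [sgn_smul_sgn_smul] at h4
    exact h4.symm
  exact (E.φ U).map_eq_zero_iff.1 h2

theorem Φ_app_surjective {i₀ : Fin (n + 1)} (U : (CohB1.ProjSpace n A).affineOpens)
    (hU : U.1 ≤ U₀ n A i₀) : Function.Surjective ((Φ E t hpt).app U.1) := by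
  intro r
  set z := (kernel.ι ((KP n A).d t)).app U.1 r with hz
  have hdz : ((KP n A).d t).app U.1 z = 0 :=
    congrArg (fun f : kernel ((KP n A).d t) ⟶ (KP n A).K (t + 1) => f.app U.1 r)
      (kernel.condition ((KP n A).d t))
  have hq' : (-((n : ℤ) + 1) + (t : ℤ)) + (p : ℤ) = 0 := by
    have := hq_aux (n := n) t hpt
    linarith
  obtain ⟨w, hw⟩ := exists_MJ_eq U hU (-1) (-((n : ℤ) + 1) + t) (by norm_num) (hq_aux t hpt) hq'
    (fun s => sgn s.val • ((KP n A).prj t s.valᶜ).app U.1 z)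
  refine ⟨(E.φ U).symm w, ?_⟩
  apply Groth.Agent.Lib.Helper20.StalkExact.injective_app_of_mono (kernel.ι ((KP n A).d t)) U.1
  rw [Φ_ι_app, ← hz]
  have hzero : (cc E t hpt).app U.1 ((E.φ U).symm w) - z = 0 := by
    refine cycle_eq_zero t U.1 hU _ ?_ (fun S hS hi => ?_)
    · rw [map_sub, hdz, sub_zero]
      exact congrArg (fun f : L ⟶ (KP n A).K (t + 1) => f.app U.1 ((E.φ U).symm w))
        (cc_d E t hpt)
    · rw [map_sub, prj_cc_app E t hpt S hS]
      have hSc : Sᶜ.card = p := by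
        rw [Finset.card_compl, Fintype.card_fin, hS]; omega
      have h1 := mS_app E t hpt ⟨Sᶜ, hSc⟩ U ((E.φ U).symm w)
      rw [LinearEquiv.apply_symm_apply, hw ⟨Sᶜ, hSc⟩ (by simpa using hi)] at h1
      rw [h1, sgn_smul_sgn_smul, compl_compl, sub_self]
  exact sub_eq_zero.1 hzero

/-- the comparison morphism is an isomorphism -/
theorem isIso_Φ : IsIso (Φ E t hpt) := by
  let ι : Type u := {U : (CohB1.ProjSpace n A).affineOpens // ∃ i₀ : Fin (n + 1), U.1 ≤ U₀ n A i₀}
  refine Groth.Agent.Helper13AffBC.isIso_of_bijective_on_basis _ (fun i : ι => i.1.1) ?_ ?_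
  · rw [Opens.isBasis_iff_nbhd]
    intro W y hyW
    obtain ⟨i₀, hi₀⟩ := xs_cov n A y
    have hy₀ : y ∈ U₀ n A i₀ := (mem_U₀ n A i₀ y).2 hi₀
    obtain ⟨V, hV, hyV, hVW⟩ := exists_isAffineOpen_mem_and_subset (x := y)
      (U := W ⊓ U₀ n A i₀) ⟨hyW, hy₀⟩
    exact ⟨V, ⟨⟨⟨V, hV⟩, i₀, fun x hx => (hVW hx).2⟩, rfl⟩, hyV, fun x hx => (hVW hx).1⟩
  · rintro ⟨U, i₀, hU⟩
    exact ⟨Φ_app_injective E t hpt U hU, Φ_app_surjective E t hpt U hU⟩

end Iso

omit [QuasiSeparated (CohB1.ProjSpace.toSpec n A)] in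
/-- the small affine opens form a basis -/
lemma isBasis_small : Opens.IsBasis (Set.range
    (fun i : {U : (CohB1.ProjSpace n A).affineOpens // ∃ i₀ : Fin (n + 1), U.1 ≤ U₀ n A i₀} =>
      i.1.1)) := by
  rw [Opens.isBasis_iff_nbhd]
  intro W y hyW
  obtain ⟨i₀, hi₀⟩ := xs_cov n A y
  have hy₀ : y ∈ U₀ n A i₀ := (mem_U₀ n A i₀ y).2 hi₀
  obtain ⟨V, hV, hyV, hVW⟩ := exists_isAffineOpen_mem_and_subset (x := y)
    (U := W ⊓ U₀ n A i₀) ⟨hyW, hy₀⟩
  exact ⟨V, ⟨⟨⟨V, hV⟩, i₀, fun x hx => (hVW hx).2⟩, rfl⟩, hyV, fun x hx => (hVW hx).1⟩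

/-- exterior powers of `Ω` of degree `> n + 1` vanish -/
theorem isZero_of_lt {p : ℕ} {L : (CohB1.ProjSpace n A).Modules}
    (hL : ExtPow.IsExtPow p ΩP L) (hp : n + 1 < p) : IsZero L := by
  obtain ⟨E⟩ := nonempty_EPData n A hL
  rw [IsZero.iff_id_eq_zero]
  refine Groth.Agent.Helper13ModBasis.hom_ext_basis _ isBasis_small _ _ ?_
  rintro ⟨U, i₀, hU⟩
  ext ℓ
  change ℓ = 0
  have h2 : E.φ U ℓ = 0 := by
    refine eq_zero_of_MJ U hU (-1) ((p : ℤ) * (-1)) (by norm_num) rfl _ (fun s₀ _ => ?_)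
    exfalso
    have h1 : s₀.val.card = p := s₀.prop
    have h2 := Finset.card_le_univ s₀.val
    rw [Fintype.card_fin] at h2
    omega
  exact (E.φ U).map_eq_zero_iff.1 h2

/-- **Exterior powers of `Ω` on projective space are Koszul syzygies.** -/
theorem nonempty_iso_kernel {p : ℕ} {L : (CohB1.ProjSpace n A).Modules}
    (hL : ExtPow.IsExtPow p ΩP L) (t : ℕ) (hpt : p + t = n + 1) :
    Nonempty (L ≅ kernel ((KP n A).d t)) := by
  obtain ⟨E⟩ := nonempty_EPData n A hL
  haveI := isIso_Φ E t hpt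
  exact ⟨asIso (Φ E t hpt)⟩

end Groth.Agent.Lib.R2H2.PnBridge
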