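import Groth.Agent.Lib.R2H2PnMinorSec
import Groth.Agent.Lib.Helper18OmLS6
import Groth.Agent.Lib.Helper13RestrictBC
import Groth.Agent.Lib.Helper27ProjUniq2
import Groth.Agent.Lib.Helper27GrTildeBridge2

/-!
# The differentials of projective space on the standard charts (helper2, round 2)

On an affine open `U ⊆ D₊(x_{i₀})` of `P^n_A` the module `Ω(U)` is generated by the differentials
`d (x_j / x_{i₀})`.
-/

set_option backward.isDefEq.respectTransparency.types false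
set_option autoImplicit false
universe u

namespace Groth.Agent.Lib.R2H2.PnChartOm

open CategoryTheory CategoryTheory.Limits AlgebraicGeometry TopologicalSpace Opposite
open Groth.Agent.Lib.Helper27GrTildeSect Groth.Agent.Lib.R2H2.PnDerSh
open Groth.Agent.Lib.R2H2.PnMinorSec Groth.Agent.Lib.R2H2.PnReg
open Groth.Agent.Lib.Helper27AwayGen HomogeneousLocalization

variable (n : ℕ) (A : Type u) [CommRing A]

local notation "𝒢" => CohB1.polyGrading n A
local notation "ΩP" => Omega.sheaf (CohB1.ProjSpace.toSpec n A)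

/-- the chart `D₊(x_{i₀})` -/
noncomputable def U₀ (i₀ : Fin (n + 1)) : (CohB1.ProjSpace n A).Opens :=
  Proj.basicOpen 𝒢 (MvPolynomial.X i₀)

lemma mem_U₀ (i₀ : Fin (n + 1)) (y : ProjectiveSpectrum 𝒢) :
    y ∈ U₀ n A i₀ ↔ (MvPolynomial.X i₀ : MvPolynomial (Fin (n + 1)) A) ∉ y.asHomogeneousIdeal :=
  ProjectiveSpectrum.mem_basicOpen 𝒢 _ y

lemma isAffineOpen_U₀ (i₀ : Fin (n + 1)) : IsAffineOpen (U₀ n A i₀) :=
  Proj.isAffineOpen_basicOpen 𝒢 (MvPolynomial.X i₀) (xs_mem n A i₀) Nat.one_pos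

/-- the function `x_j / x_{i₀}` on the chart -/
noncomputable def g₀ (i₀ j : Fin (n + 1)) : Γ(CohB1.ProjSpace n A, U₀ n A i₀) :=
  (Proj.awayToSection 𝒢 (MvPolynomial.X i₀)).hom
    (mk' 𝒢 (xs_mem n A i₀) 1 (MvPolynomial.X j) (xs_mem n A j))

lemma fv_g₀ (i₀ j : Fin (n + 1)) (y : ProjectiveSpectrum 𝒢) (hy : y ∈ U₀ n A i₀) :
    fv n A (U₀ n A i₀) y hy (g₀ n A i₀ j) =
      Localization.mk (MvPolynomial.X j)
        (⟨MvPolynomial.X i₀ ^ 1, fun h => (mem_U₀ n A i₀ y).1 hy (y.isPrime.mem_of_pow_mem 1 h)⟩ :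
          y.asHomogeneousIdeal.toIdeal.primeCompl) := rfl

variable [QuasiSeparated (CohB1.ProjSpace.toSpec n A)]

/-- the universal derivation of `P^n_A` over `A` -/
noncomputable def dΩ : OmegaSh.Der (CohB1.ProjSpace.toSpec n A) ΩP :=
  OmegaSh.dOmega (CohB1.ProjSpace.toSpec n A)

/-- the differentials `d (x_j / x_{i₀})` on the chart -/
noncomputable def b₀ (i₀ j : Fin (n + 1)) : Γ(ΩP, U₀ n A i₀) :=
  (dΩ n A).app (U₀ n A i₀) (g₀ n A i₀ j)

/-- the constants are killed by `d` -/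
lemma dΩ_const (i₀ : Fin (n + 1)) (r : A) :
    (dΩ n A).app (U₀ n A i₀) ((Proj.awayToSection 𝒢 (MvPolynomial.X i₀)).hom
      (mk' 𝒢 (xs_mem n A i₀) 0 (algebraMap A _ r) (SetLike.algebraMap_mem_graded 𝒢 r))) = 0 := by
  have h0 : (Proj.awayToSection 𝒢 (MvPolynomial.X i₀)).hom
      (mk' 𝒢 (xs_mem n A i₀) 0 (algebraMap A _ r) (SetLike.algebraMap_mem_graded 𝒢 r)) =
      (CohB1.ProjSpace n A).presheaf.map (homOfLE (le_top : U₀ n A i₀ ≤ ⊤)).op (constFun 𝒢 r) := by
    rw [mk'_zero_eq]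
    exact awayToSection_const 𝒢 (xs_mem n A i₀) Nat.one_pos r
  have h1 := Groth.Agent.Helper18OmLS.der_map (dΩ n A) (le_top : U₀ n A i₀ ≤ ⊤) (constFun 𝒢 r)
  have h2 : (dΩ n A).app ⊤ (constFun 𝒢 r) = 0 :=
    (dΩ n A).d_app (X := op ⊤) ((Scheme.ΓSpecIso (CommRingCat.of A)).inv r)
  refine (congrArg ((dΩ n A).app (U₀ n A i₀)) h0).trans (h1.trans ?_)
  rw [h2, map_zero]

/-- all differentials of functions on the chart lie in the span of the `b₀ j` -/
lemma dΩ_mem_span (i₀ : Fin (n + 1)) (g : Γ(CohB1.ProjSpace n A, U₀ n A i₀)) :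
    (dΩ n A).app (U₀ n A i₀) g ∈
      Submodule.span Γ(CohB1.ProjSpace n A, U₀ n A i₀) (Set.range (b₀ n A i₀)) := by
  set 𝒮 := Submodule.span Γ(CohB1.ProjSpace n A, U₀ n A i₀) (Set.range (b₀ n A i₀)) with h𝒮
  let aw : Away 𝒢 (MvPolynomial.X i₀) →+* Γ(CohB1.ProjSpace n A, U₀ n A i₀) :=
    (Proj.awayToSection 𝒢 (MvPolynomial.X i₀)).hom
  let E : Subring (Away 𝒢 (MvPolynomial.X i₀ : MvPolynomial (Fin (n + 1)) A)) :=
    { carrier := {q | (dΩ n A).app (U₀ n A i₀) (aw q) ∈ 𝒮}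
      mul_mem' := by
        intro q q' hq hq'
        change (dΩ n A).app (U₀ n A i₀) (aw (q * q')) ∈ 𝒮
        rw [map_mul, Groth.Agent.Helper18OmLS.der_mul]
        exact 𝒮.add_mem (𝒮.smul_mem _ hq') (𝒮.smul_mem _ hq)
      one_mem' := by
        change (dΩ n A).app (U₀ n A i₀) (aw 1) ∈ 𝒮
        rw [map_one]
        have : (dΩ n A).app (U₀ n A i₀) 1 = 0 := (dΩ n A).d_one (op (U₀ n A i₀))
        rw [this]
        exact 𝒮.zero_mem
      add_mem' := by
        intro q q' hq hq'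
        change (dΩ n A).app (U₀ n A i₀) (aw (q + q')) ∈ 𝒮
        rw [map_add, map_add]
        exact 𝒮.add_mem hq hq'
      zero_mem' := by
        change (dΩ n A).app (U₀ n A i₀) (aw 0) ∈ 𝒮
        rw [map_zero, map_zero]
        exact 𝒮.zero_mem
      neg_mem' := by
        intro q hq
        change (dΩ n A).app (U₀ n A i₀) (aw (-q)) ∈ 𝒮
        rw [map_neg, map_neg]
        exact 𝒮.neg_mem hq }
  have hE : E = ⊤ := by
    refine subring_eq_top 𝒢 (xs_mem n A i₀) (xs n A) (xs_mem n A) MvPolynomial.adjoin_range_X E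
      ?_ ?_
    · intro r
      have h0 := dΩ_const n A i₀ r
      exact (congrArg (· ∈ 𝒮) h0).mpr 𝒮.zero_mem
    · intro j
      exact Submodule.subset_span ⟨j, rfl⟩
  have hiso : IsIso (Proj.awayToSection 𝒢 (MvPolynomial.X i₀ : MvPolynomial (Fin (n + 1)) A)) := by
    have := (Proj.basicOpenIsoAway 𝒢 (MvPolynomial.X i₀ : MvPolynomial (Fin (n + 1)) A)
      (xs_mem n A i₀) Nat.one_pos).isIso_hom
    rwa [Proj.basicOpenIsoAway_hom] at this
  obtain ⟨q, rfl⟩ := (ConcreteCategory.bijective_of_isIso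
    (Proj.awayToSection 𝒢 (MvPolynomial.X i₀ : MvPolynomial (Fin (n + 1)) A))).2 g
  have : q ∈ E := by rw [hE]; trivial
  exact this

/-- the differentials `d (x_j / x_{i₀})` generate `Ω` over the chart -/
theorem span_b₀ (i₀ : Fin (n + 1)) :
    Submodule.span Γ(CohB1.ProjSpace n A, U₀ n A i₀) (Set.range (b₀ n A i₀)) = ⊤ := by
  letI : Algebra Γ(Spec (CommRingCat.of A), ⊤) Γ(CohB1.ProjSpace n A, U₀ n A i₀) :=
    ((CohB1.ProjSpace.toSpec n A).appLE ⊤ (U₀ n A i₀) le_top).hom.toAlgebra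
  let e := Groth.Agent.Helper18OmLS.sectionsEquiv (CohB1.ProjSpace.toSpec n A) (dΩ n A)
    (Groth.Agent.Helper18OmLS.isUniversal_dOmega (CohB1.ProjSpace.toSpec n A))
    (isAffineOpen_U₀ n A i₀) (isAffineOpen_top (Spec (CommRingCat.of A))) le_top rfl
  rw [eq_top_iff]
  intro ω _
  have h2 : e ω ∈ Submodule.span Γ(CohB1.ProjSpace n A, U₀ n A i₀)
      (Set.range (KaehlerDifferential.D Γ(Spec (CommRingCat.of A), ⊤)
        Γ(CohB1.ProjSpace n A, U₀ n A i₀))) := by
    rw [KaehlerDifferential.span_range_derivation]; trivial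
  have h3 : e.symm (e ω) ∈ Submodule.span Γ(CohB1.ProjSpace n A, U₀ n A i₀)
      (Set.range (b₀ n A i₀)) := by
    generalize e ω = w at h2
    induction h2 using Submodule.span_induction with
    | mem z hz =>
      obtain ⟨g, rfl⟩ := hz
      have h4 : e ((dΩ n A).app (U₀ n A i₀) g) = KaehlerDifferential.D _ _ g :=
        Groth.Agent.Helper18OmLS.sectionsEquiv_d _ _ _ _ _ _ _ g
      rw [← h4, e.symm_apply_apply]
      exact dΩ_mem_span n A i₀ g
    | zero => rw [map_zero]; exact Submodule.zero_mem _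
    | add z z' _ _ hz hz' => rw [map_add]; exact Submodule.add_mem _ hz hz'
    | smul r z _ hz => rw [map_smul]; exact Submodule.smul_mem _ r hz
  rwa [e.symm_apply_apply] at h3

section Small

variable {n A}
variable {i₀ : Fin (n + 1)} {U : (CohB1.ProjSpace n A).Opens} (hU : U ≤ U₀ n A i₀)

/-- the function `x_j / x_{i₀}` on `U ⊆ D₊(x_{i₀})` -/
noncomputable def g (j : Fin (n + 1)) : Γ(CohB1.ProjSpace n A, U) :=
  (CohB1.ProjSpace n A).presheaf.map (homOfLE hU).op (g₀ n A i₀ j)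

/-- the differential `d (x_j / x_{i₀})` on `U` -/
noncomputable def b (j : Fin (n + 1)) : Γ(ΩP, U) := (dΩ n A).app U (g hU j)

lemma b_eq (j : Fin (n + 1)) : b hU j = (ΩP).presheaf.map (homOfLE hU).op (b₀ n A i₀ j) :=
  Groth.Agent.Helper18OmLS.der_map (dΩ n A) hU (g₀ n A i₀ j)

omit [QuasiSeparated (CohB1.ProjSpace.toSpec n A)] in
include hU in
lemma X_not_mem (y : ProjectiveSpectrum 𝒢) (hy : y ∈ U) :
    (MvPolynomial.X i₀ : MvPolynomial (Fin (n + 1)) A) ∉ y.asHomogeneousIdeal :=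
  (mem_U₀ n A i₀ y).1 (hU hy)

/-- the inverse of `x_{i₀}` in the local ring at `y ∈ U` -/
noncomputable def uy (y : ProjectiveSpectrum 𝒢) (hy : y ∈ U) : Twist.Loc 𝒢 y :=
  Localization.mk 1 (⟨MvPolynomial.X i₀, X_not_mem hU y hy⟩ :
    y.asHomogeneousIdeal.toIdeal.primeCompl)

lemma phiVal_b (m : ℤ) (hm : m + 1 = 0) (l j : Fin (n + 1)) (hl : l ≠ i₀)
    (y : ProjectiveSpectrum 𝒢) (hy : y ∈ U) :
    phiVal n A m hm U l y hy (b hU j) = if j = l then uy hU y hy else 0 := by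
  rw [phiVal_apply]
  have h1 : (phiP n A l m hm).app U (b hU j) = dSec n A l m hm U (g hU j) :=
    phi_d n A l m hm U (g hU j)
  rw [h1]
  change dLoc n A l y (fv n A (U₀ n A i₀) y (hU hy) (g₀ n A i₀ j)) = _
  rw [fv_g₀, dLoc_mk]
  have hnum : MvPolynomial.pderiv l (MvPolynomial.X j : MvPolynomial (Fin (n + 1)) A) *
      MvPolynomial.X i₀ ^ 1 - MvPolynomial.X j * MvPolynomial.pderiv l (MvPolynomial.X i₀ ^ 1) =
      if j = l then MvPolynomial.X i₀ else 0 := by
    rw [pow_one, MvPolynomial.pderiv_X, MvPolynomial.pderiv_X, Pi.single_eq_of_ne hl.symm, mul_zero,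
      sub_zero]
    split_ifs with h
    · subst h
      rw [Pi.single_eq_same, one_mul]
    · rw [Pi.single_eq_of_ne h, zero_mul]
  rw [hnum]
  split_ifs with h
  · unfold uy
    rw [Localization.mk_eq_mk_iff, Localization.r_iff_exists]
    exact ⟨1, by simp only [OneMemClass.coe_one, one_mul, mul_one, pow_one]⟩
  · rw [Localization.mk_zero]

lemma b_self : b hU i₀ = 0 := by
  have h1 : g hU i₀ = 1 := by
    apply fv_injective n A
    intro y hy
    change fv n A (U₀ n A i₀) y (hU hy) (g₀ n A i₀ i₀) = fv n A U y hy 1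
    rw [fv_g₀]
    have h2 : fv n A U y hy 1 = 1 := by
      change (funVal 𝒢 U 1 y hy).val = 1
      have : funVal 𝒢 U 1 y hy = 1 := rfl
      rw [this, HomogeneousLocalization.val_one]
    rw [h2, ← Localization.mk_one, Localization.mk_eq_mk_iff, Localization.r_iff_exists]
    exact ⟨1, by simp only [OneMemClass.coe_one, one_mul, mul_one, pow_one]⟩
  unfold b
  rw [h1]
  exact (dΩ n A).d_one (op U)

omit [QuasiSeparated (CohB1.ProjSpace.toSpec n A)] in
lemma uy_mul (y : ProjectiveSpectrum 𝒢) (hy : y ∈ U) :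
    uy hU y hy * algebraMap (MvPolynomial (Fin (n + 1)) A) (Twist.Loc 𝒢 y) (MvPolynomial.X i₀) =
      1 := by
  unfold uy
  rw [← Localization.mk_one_eq_algebraMap]
  change Localization.mk 1 (⟨MvPolynomial.X i₀, X_not_mem hU y hy⟩ :
      y.asHomogeneousIdeal.toIdeal.primeCompl) * Localization.mk (MvPolynomial.X i₀) 1 = 1
  rw [Localization.mk_mul, one_mul, mul_one]
  exact Localization.mk_self (⟨MvPolynomial.X i₀, X_not_mem hU y hy⟩ :
      y.asHomogeneousIdeal.toIdeal.primeCompl)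

omit [QuasiSeparated (CohB1.ProjSpace.toSpec n A)] in
lemma isUnit_uy (y : ProjectiveSpectrum 𝒢) (hy : y ∈ U) : IsUnit (uy hU y hy) :=
  IsUnit.of_mul_eq_one _ (uy_mul hU y hy)

omit [QuasiSeparated (CohB1.ProjSpace.toSpec n A)] in
/-- `O(q)`, `q = -p`, is generated by `x_{i₀}^{-p}` over `U` -/
lemma exists_coef_u (p : ℕ) (q : ℤ) (hq : q + p = 0) (s : Γ(OP n A q, U)) :
    ∃ r : Γ(CohB1.ProjSpace n A, U), ∀ y hy,
      sv n A q U y hy s = fv n A U y hy r * uy hU y hy ^ p := by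
  have hXp : (MvPolynomial.X i₀ : MvPolynomial (Fin (n + 1)) A) ^ p ∈ 𝒢 p := by
    have h := SetLike.pow_mem_graded p (xs_mem n A i₀)
    rw [smul_eq_mul, mul_one] at h
    exact h
  have hWb : ∀ y : U, (MvPolynomial.X i₀ : MvPolynomial (Fin (n + 1)) A) ^ p ∉
      y.1.asHomogeneousIdeal := fun y h =>
    X_not_mem hU y.1 y.2 (y.1.isPrime.mem_of_pow_mem p h)
  obtain ⟨r, hr⟩ := exists_coef 𝒢 q U
    (SetLike.GradedOne.one_mem : (1 : MvPolynomial (Fin (n + 1)) A) ∈ 𝒢 0) hXp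
    (by push_cast; omega) hWb
    (fun y h => y.1.isPrime.ne_top ((Ideal.eq_top_iff_one _).mpr h)) s
  refine ⟨r, fun y hy => ?_⟩
  rw [← hr]
  change (funVal 𝒢 U r y hy).val * (Localization.mk 1 (⟨MvPolynomial.X i₀ ^ p, hWb ⟨y, hy⟩⟩ :
      y.asHomogeneousIdeal.toIdeal.primeCompl) : Twist.Loc 𝒢 y) = _
  congr 1
  unfold uy
  rw [Localization.mk_pow, one_pow]
  rfl

/-- the differentials `d (x_j / x_{i₀})` generate `Ω(U)` for `U ⊆ D₊(x_{i₀})` affine -/
theorem span_b (hUa : IsAffineOpen U) :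
    Submodule.span Γ(CohB1.ProjSpace n A, U) (Set.range (b hU)) = ⊤ := by
  haveI : (ΩP).IsQuasicoherent :=
    Groth.Agent.Helper18OmLS.isQuasicoherent_of_isUniversal (CohB1.ProjSpace.toSpec n A) (dΩ n A)
      (Groth.Agent.Helper18OmLS.isUniversal_dOmega (CohB1.ProjSpace.toSpec n A))
  have h1 := Groth.Agent.Helper13RestrictBC.span_restrict_eq_top (ΩP) (isAffineOpen_U₀ n A i₀)
    hUa hU
  rw [eq_top_iff, ← h1, Submodule.span_le]
  rintro _ ⟨ω, rfl⟩
  have h2 : ω ∈ Submodule.span Γ(CohB1.ProjSpace n A, U₀ n A i₀) (Set.range (b₀ n A i₀)) := by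
    rw [span_b₀]; trivial
  induction h2 using Submodule.span_induction with
  | mem z hz =>
    obtain ⟨j, rfl⟩ := hz
    exact Submodule.subset_span ⟨j, b_eq hU j⟩
  | zero =>
    have : ((ΩP).presheaf.map (homOfLE hU).op).hom 0 = 0 := map_zero _
    rw [SetLike.mem_coe, this]
    exact Submodule.zero_mem _
  | add z z' _ _ hz hz' =>
    have : ((ΩP).presheaf.map (homOfLE hU).op).hom (z + z') =
      ((ΩP).presheaf.map (homOfLE hU).op).hom z + ((ΩP).presheaf.map (homOfLE hU).op).hom z' :=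
      map_add _ _ _
    rw [SetLike.mem_coe, this]
    exact Submodule.add_mem _ hz hz'
  | smul r z _ hz =>
    have : ((ΩP).presheaf.map (homOfLE hU).op).hom (r • z) =
        (CohB1.ProjSpace n A).presheaf.map (homOfLE hU).op r •
          ((ΩP).presheaf.map (homOfLE hU).op).hom z :=
      Scheme.Modules.map_smul (ΩP) (homOfLE hU) r z
    rw [SetLike.mem_coe, this]
    exact Submodule.smul_mem _ _ hz

end Small

end Groth.Agent.Lib.R2H2.PnChartOm
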