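import Mathlib

/-!
# Extending partial derivatives to localizations of polynomial rings (helper2, round 2)

* `locDer M j : Derivation A (Localization M) (Localization M)` extending `MvPolynomial.pderiv j`
* `locDer_mk` : the quotient rule
* `numer_mem` : degree bookkeeping for the numerator of the quotient rule
-/

set_option backward.isDefEq.respectTransparency.types false
set_option autoImplicit false
universe u

namespace Groth.Agent.Lib.R2H2.PnDerAlg

open MvPolynomial

variable {A : Type u} [CommRing A] {σ : Type*}

section Loc

variable (M : Submonoid (MvPolynomial σ A)) (j : σ)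

/-- the `S`-linear map `Ω[S/A] → S_M` induced by `∂/∂x_j` -/
noncomputable def gMap : Ω[MvPolynomial σ A⁄A] →ₗ[MvPolynomial σ A] Localization M :=
  (Algebra.linearMap (MvPolynomial σ A) (Localization M)).comp
    (Derivation.liftKaehlerDifferential (pderiv (R := A) j))

lemma isBaseChange_map : IsBaseChange (Localization M)
    (KaehlerDifferential.map A A (MvPolynomial σ A) (Localization M)) := by
  haveI := Algebra.FormallyEtale.of_isLocalization (Rₘ := Localization M) M
  exact KaehlerDifferential.isBaseChange_of_formallyEtale A (MvPolynomial σ A) (Localization M)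

/-- the derivation of the localization extending `∂/∂x_j` -/
noncomputable def locDer : Derivation A (Localization M) (Localization M) :=
  ((isBaseChange_map M).lift (gMap M j)).compDer (KaehlerDifferential.D A (Localization M))

lemma locDer_algebraMap (a : MvPolynomial σ A) :
    locDer M j (algebraMap _ (Localization M) a) = algebraMap _ (Localization M) (pderiv j a) := by
  unfold locDer
  change (isBaseChange_map M).lift (gMap M j)
    (KaehlerDifferential.D A (Localization M) (algebraMap _ (Localization M) a)) = _
  rw [← KaehlerDifferential.map_D A A (MvPolynomial σ A) (Localization M),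
    IsBaseChange.lift_eq]
  unfold gMap
  rw [LinearMap.comp_apply, Derivation.liftKaehlerDifferential_comp_D]
  rfl

/-- the quotient rule -/
lemma locDer_mk (a : MvPolynomial σ A) (s : M) :
    locDer M j (Localization.mk a s) =
      Localization.mk (pderiv j a * s.1 - a * pderiv j s.1) (s * s) := by
  have hu : IsUnit (algebraMap (MvPolynomial σ A) (Localization M) s.1) :=
    IsLocalization.map_units (Localization M) s
  apply hu.mul_left_cancel
  have h1 : Localization.mk a s * algebraMap (MvPolynomial σ A) (Localization M) s.1 =
      algebraMap _ (Localization M) a := by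
    rw [Localization.mk_eq_mk']
    exact IsLocalization.mk'_spec _ a s
  have h2 := congrArg (locDer M j) h1
  rw [Derivation.leibniz, locDer_algebraMap, locDer_algebraMap, smul_eq_mul, smul_eq_mul] at h2
  have h3 : algebraMap (MvPolynomial σ A) (Localization M) s.1 * locDer M j (Localization.mk a s) =
      algebraMap _ (Localization M) (pderiv j a) -
        Localization.mk a s * algebraMap _ (Localization M) (pderiv j s.1) := by
    rw [← h2]; ring
  rw [h3, ← Localization.mk_one_eq_algebraMap, ← Localization.mk_one_eq_algebraMap,
    ← Localization.mk_one_eq_algebraMap, Localization.mk_mul, Localization.mk_mul,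
    Localization.sub_mk, Localization.mk_eq_mk_iff, Localization.r_iff_exists]
  refine ⟨1, ?_⟩
  simp only [OneMemClass.coe_one, one_mul, mul_one, Submonoid.coe_mul]
  ring

end Loc

section Degree

variable (j : σ)

lemma pderiv_eq_zero_of_mem_zero {a : MvPolynomial σ A}
    (ha : a ∈ homogeneousSubmodule σ A 0) : pderiv j a = 0 := by
  rw [mem_homogeneousSubmodule, ← totalDegree_zero_iff_isHomogeneous,
    totalDegree_eq_zero_iff_eq_C] at ha
  rw [ha, pderiv_C]

lemma pderiv_mem_succ {a : MvPolynomial σ A} {k : ℕ}
    (ha : a ∈ homogeneousSubmodule σ A (k + 1)) : pderiv j a ∈ homogeneousSubmodule σ A k := by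
  rw [mem_homogeneousSubmodule] at ha ⊢
  exact ha.pderiv

/-- the numerator of the quotient rule is homogeneous of degree `i + j - 1` (or zero) -/
lemma numer_mem {a s : MvPolynomial σ A} {i k : ℕ} (ha : a ∈ homogeneousSubmodule σ A i)
    (hs : s ∈ homogeneousSubmodule σ A k) :
    ∃ e : ℕ, (pderiv j a * s - a * pderiv j s) ∈ homogeneousSubmodule σ A e ∧
      (((e : ℤ) + 1 = i + k) ∨ (pderiv j a * s - a * pderiv j s) = 0) := by
  rcases i with _ | i
  · rw [pderiv_eq_zero_of_mem_zero j ha, zero_mul, zero_sub]
    rcases k with _ | k
    · rw [pderiv_eq_zero_of_mem_zero j hs, mul_zero, neg_zero]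
      exact ⟨0, zero_mem _, Or.inr rfl⟩
    · refine ⟨0 + k, neg_mem (SetLike.mul_mem_graded ha (pderiv_mem_succ j hs)), Or.inl ?_⟩
      push_cast; ring
  · rcases k with _ | k
    · rw [pderiv_eq_zero_of_mem_zero j hs, mul_zero, sub_zero]
      refine ⟨i + 0, SetLike.mul_mem_graded (pderiv_mem_succ j ha) hs, Or.inl ?_⟩
      push_cast; ring
    · have h1 : pderiv j a * s ∈ homogeneousSubmodule σ A (i + (k + 1)) :=
        SetLike.mul_mem_graded (pderiv_mem_succ j ha) hs
      have h2 : a * pderiv j s ∈ homogeneousSubmodule σ A (i + 1 + k) :=
        SetLike.mul_mem_graded ha (pderiv_mem_succ j hs)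
      have e : i + 1 + k = i + (k + 1) := by omega
      rw [e] at h2
      refine ⟨i + (k + 1), sub_mem h1 h2, Or.inl ?_⟩
      push_cast; ring

end Degree

section Euler

variable [Fintype σ]

/-- Euler's identity in the localization, for a fraction of homogeneous elements of equal degree -/
lemma sum_X_mul_locDer_mk (M : Submonoid (MvPolynomial σ A)) {a : MvPolynomial σ A} (s : M) {i : ℕ}
    (ha : a ∈ homogeneousSubmodule σ A i) (hs : s.1 ∈ homogeneousSubmodule σ A i) :
    ∑ l : σ, algebraMap (MvPolynomial σ A) (Localization M) (X l) *
      locDer M l (Localization.mk a s) = 0 := by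
  simp_rw [locDer_mk, ← Localization.mk_one_eq_algebraMap, Localization.mk_mul, one_mul]
  have h1 : ∀ l : σ, Localization.mk (X l * (pderiv l a * s.1 - a * pderiv l s.1)) (s * s) =
      Localization.mk (1 : MvPolynomial σ A) (s * s) * algebraMap _ (Localization M)
        (X l * (pderiv l a * s.1 - a * pderiv l s.1)) := by
    intro l
    rw [← Localization.mk_one_eq_algebraMap, Localization.mk_mul, one_mul, mul_one]
  simp_rw [h1]
  rw [← Finset.mul_sum, ← map_sum]
  have h2 : ∑ l : σ, X l * (pderiv l a * s.1 - a * pderiv l s.1) = 0 := by
    have ea := (mem_homogeneousSubmodule _ _).1 ha |>.sum_X_mul_pderiv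
    have es := (mem_homogeneousSubmodule _ _).1 hs |>.sum_X_mul_pderiv
    calc ∑ l : σ, X l * (pderiv l a * s.1 - a * pderiv l s.1)
        = (∑ l : σ, X l * pderiv l a) * s.1 - a * ∑ l : σ, X l * pderiv l s.1 := by
          rw [Finset.sum_mul, Finset.mul_sum, ← Finset.sum_sub_distrib]
          refine Finset.sum_congr rfl fun l _ => ?_
          ring
      _ = 0 := by
          rw [ea, es]
          simp only [nsmul_eq_mul]
          ring
  rw [h2, map_zero, mul_zero]

end Euler

end Groth.Agent.Lib.R2H2.PnDerAlg
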