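import Groth.Agent.Lib.R2H2PnDerAlg
import Groth.Agent.Lib.R2H2PnReg
import Groth.Agent.Lib.Helper18OmLS24

/-!
# The derivations `∂/∂x_j : O → O(-1)` on projective space (helper2, round 2)
-/

set_option backward.isDefEq.respectTransparency.types false
set_option autoImplicit false
universe u

namespace Groth.Agent.Lib.R2H2.PnDerSh

open CategoryTheory CategoryTheory.Limits AlgebraicGeometry TopologicalSpace Opposite
open Groth.Agent.Lib.Helper27GrTildeSect Groth.Agent.Lib.R2H2.PnDerAlg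

variable (n : ℕ) (A : Type u) [CommRing A]

local notation "𝒢" => CohB1.polyGrading n A

/-- `∂/∂x_j` on the local ring at `y` -/
noncomputable def dLoc (j : Fin (n + 1)) (y : ProjectiveSpectrum 𝒢) :
    Derivation A (Twist.Loc 𝒢 y) (Twist.Loc 𝒢 y) :=
  locDer y.asHomogeneousIdeal.toIdeal.primeCompl j

lemma dLoc_mk (j : Fin (n + 1)) (y : ProjectiveSpectrum 𝒢) (a s : MvPolynomial (Fin (n + 1)) A)
    (hs : s ∉ y.asHomogeneousIdeal) :
    dLoc n A j y (Localization.mk a (⟨s, hs⟩ : y.asHomogeneousIdeal.toIdeal.primeCompl)) =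
      Localization.mk (MvPolynomial.pderiv j a * s - a * MvPolynomial.pderiv j s)
        (⟨s * s, fun h => (y.isPrime.mem_or_mem h).elim hs hs⟩ :
          y.asHomogeneousIdeal.toIdeal.primeCompl) :=
  locDer_mk y.asHomogeneousIdeal.toIdeal.primeCompl j a ⟨s, hs⟩

lemma dLoc_mk_mem (j : Fin (n + 1)) (y : ProjectiveSpectrum 𝒢) {i k : ℕ}
    {a s : MvPolynomial (Fin (n + 1)) A} (ha : a ∈ 𝒢 i) (hs : s ∈ 𝒢 k)
    (hsy : s ∉ y.asHomogeneousIdeal) (m m' : ℤ) (hik : (i : ℤ) = k + m) (hm : m' + 1 = m) :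
    (show GrTilde.LocMod 𝒢 (M := MvPolynomial (Fin (n + 1)) A) y from
      dLoc n A j y (Localization.mk a (⟨s, hsy⟩ : y.asHomogeneousIdeal.toIdeal.primeCompl))) ∈
      GrTilde.tildeAt 𝒢 𝒢 m' y := by
  rw [dLoc_mk]
  obtain ⟨e, he, hdeg | hzero⟩ := numer_mem j ha hs
  · exact mk_mem_tildeAt 𝒢 𝒢 m' y he (SetLike.mul_mem_graded hs hs) _ (by push_cast; omega)
  · rw [hzero, Localization.mk_zero]
    exact zero_mem _

lemma dLoc_val_mem (j : Fin (n + 1)) (y : ProjectiveSpectrum 𝒢) (c : Twist.A0 𝒢 y) (m : ℤ)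
    (hm : m + 1 = 0) :
    (show GrTilde.LocMod 𝒢 (M := MvPolynomial (Fin (n + 1)) A) y from dLoc n A j y c.val) ∈
      GrTilde.tildeAt 𝒢 𝒢 m y := by
  rw [HomogeneousLocalization.eq_num_div_den c]
  exact dLoc_mk_mem n A j y c.num_mem_deg c.den_mem_deg c.den_mem 0 m (by ring) hm

/-- the dependent function `y ↦ ∂_j (c y)` -/
noncomputable def dSect (j : Fin (n + 1)) (m : ℤ) (hm : m + 1 = 0) (W : (Proj 𝒢).Opens)
    (c : Γ(Proj 𝒢, W)) : GrTilde.sect 𝒢 𝒢 m (op W) :=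
  ⟨fun y => ⟨dLoc n A j y.1 ((toFun 𝒢 W c).1 y).val, dLoc_val_mem n A j y.1 _ m hm⟩, by
    intro y
    obtain ⟨V, hyV, iV, deg, num, den, nin, hval⟩ := (toFun 𝒢 W c).2 y
    obtain ⟨e, he, hcond⟩ := numer_mem j num.2 den.2
    refine ⟨V, hyV, iV, e, deg + deg, ⟨_, he⟩, ⟨den.1 * den.1, SetLike.mul_mem_graded den.2 den.2⟩,
      fun z h => (z.1.isPrime.mem_or_mem h).elim (nin z) (nin z), ?_, fun z => ?_⟩
    · rcases hcond with h | h
      · exact Or.inl (by push_cast; omega)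
      · exact Or.inr h
    · have e1 := hval z
      dsimp only at e1 ⊢
      erw [e1]
      rw [HomogeneousLocalization.val_mk]
      exact dLoc_mk n A j z.1 num.1 den.1 (nin z)⟩

/-- `∂_j c` as a section of `O(m)`, `m = -1` -/
noncomputable def dSec (j : Fin (n + 1)) (m : ℤ) (hm : m + 1 = 0) (W : (Proj 𝒢).Opens)
    (c : Γ(Proj 𝒢, W)) : Γ(GrTilde.tilde 𝒢 𝒢 m, W) :=
  ofSect 𝒢 𝒢 m W (dSect n A j m hm W c)

lemma secVal_dSec (j : Fin (n + 1)) (m : ℤ) (hm : m + 1 = 0) (W : (Proj 𝒢).Opens)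
    (c : Γ(Proj 𝒢, W)) (y : ProjectiveSpectrum 𝒢) (hy : y ∈ W) :
    (secVal 𝒢 𝒢 m W (dSec n A j m hm W c) y hy : Twist.Loc 𝒢 y) =
      dLoc n A j y (funVal 𝒢 W c y hy).val := rfl

lemma dSec_add (j : Fin (n + 1)) (m : ℤ) (hm : m + 1 = 0) (W : (Proj 𝒢).Opens)
    (c c' : Γ(Proj 𝒢, W)) :
    dSec n A j m hm W (c + c') = dSec n A j m hm W c + dSec n A j m hm W c' := by
  apply sec_ext
  intro y hy
  rw [secVal_add]
  change dLoc n A j y (funVal 𝒢 W (c + c') y hy).val =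
    dLoc n A j y (funVal 𝒢 W c y hy).val + dLoc n A j y (funVal 𝒢 W c' y hy).val
  have h1 : funVal 𝒢 W (c + c') y hy = funVal 𝒢 W c y hy + funVal 𝒢 W c' y hy := rfl
  rw [h1, HomogeneousLocalization.val_add, map_add]

lemma dSec_zero (j : Fin (n + 1)) (m : ℤ) (hm : m + 1 = 0) (W : (Proj 𝒢).Opens) :
    dSec n A j m hm W 0 = 0 := by
  apply sec_ext
  intro y hy
  rw [secVal_zero]
  change dLoc n A j y (funVal 𝒢 W 0 y hy).val = 0
  have h1 : funVal 𝒢 W 0 y hy = 0 := rfl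
  rw [h1, HomogeneousLocalization.val_zero, map_zero]

lemma dSec_mul (j : Fin (n + 1)) (m : ℤ) (hm : m + 1 = 0) (W : (Proj 𝒢).Opens)
    (c c' : Γ(Proj 𝒢, W)) :
    dSec n A j m hm W (c * c') = c • dSec n A j m hm W c' + c' • dSec n A j m hm W c := by
  apply sec_ext
  intro y hy
  rw [secVal_add]
  change dLoc n A j y (funVal 𝒢 W (c * c') y hy).val =
    (secVal 𝒢 𝒢 m W (c • dSec n A j m hm W c') y hy : Twist.Loc 𝒢 y) +
      (secVal 𝒢 𝒢 m W (c' • dSec n A j m hm W c) y hy : Twist.Loc 𝒢 y)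
  rw [secVal_smul', secVal_smul', secVal_dSec, secVal_dSec, funVal_mul,
    HomogeneousLocalization.val_mul, Derivation.leibniz]
  rfl

lemma dSec_map (j : Fin (n + 1)) (m : ℤ) (hm : m + 1 = 0) {V W : (Proj 𝒢).Opens} (hle : V ≤ W)
    (c : Γ(Proj 𝒢, W)) :
    dSec n A j m hm V ((Proj 𝒢).presheaf.map (homOfLE hle).op c) =
      (GrTilde.tilde 𝒢 𝒢 m).presheaf.map (homOfLE hle).op (dSec n A j m hm W c) := rfl

section Generic

variable {X Y : Scheme.{u}} [IsAffine Y] (g : X ⟶ Y) (F : X.Modules)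
  (d : ∀ U : X.Opens, Γ(X, U) →+ Γ(F, U))
  (d_mul : ∀ (U : X.Opens) (a b : Γ(X, U)), d U (a * b) = a • d U b + b • d U a)
  (d_map : ∀ (U V : X.Opens) (h : V ≤ U) (a : Γ(X, U)),
    d V (X.presheaf.map (homOfLE h).op a) = F.presheaf.map (homOfLE h).op (d U a))
  (d_top : ∀ c : Γ(Y, ⊤), d (g ⁻¹ᵁ ⊤) (g.app ⊤ c) = 0)

include d_mul d_map d_top in
/-- an additive Leibniz family killing the global functions of an affine base kills all
functions pulled back from the base -/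
theorem d_app_eq_zero (V : Y.Opens) (c : Γ(Y, V)) : d (g ⁻¹ᵁ V) (g.app V c) = 0 := by
  refine TopCat.Sheaf.eq_of_locally_eq' ⟨F.presheaf, F.isSheaf⟩
    (fun f : {f : Γ(Y, ⊤) // Y.basicOpen f ≤ V} => g ⁻¹ᵁ Y.basicOpen f.1) (g ⁻¹ᵁ V)
    (fun f => homOfLE (fun x hx => f.2 hx)) ?_ _ 0 (fun f => ?_)
  · intro x hx
    obtain ⟨_, ⟨f, rfl⟩, hxf, hfV⟩ := (Opens.isBasis_iff_nbhd.1 (isBasis_basicOpen Y)) hx
    exact Opens.mem_iSup.mpr ⟨⟨f, hfV⟩, hxf⟩
  · obtain ⟨f, hfV⟩ := f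
    have hW : g ⁻¹ᵁ Y.basicOpen f ≤ g ⁻¹ᵁ V := fun x hx => hfV hx
    change F.presheaf.map (homOfLE hW).op (d (g ⁻¹ᵁ V) (g.app V c)) =
      F.presheaf.map (homOfLE hW).op 0
    rw [map_zero, ← d_map]
    -- naturality
    have hnat : ∀ (V₁ V₂ : Y.Opens) (h : V₂ ≤ V₁) (x : Γ(Y, V₁)),
        X.presheaf.map (homOfLE (show g ⁻¹ᵁ V₂ ≤ g ⁻¹ᵁ V₁ from fun z hz => h hz)).op (g.app V₁ x) =
          g.app V₂ (Y.presheaf.map (homOfLE h).op x) := by
      intro V₁ V₂ h x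
      have := g.naturality (homOfLE h).op
      exact (CategoryTheory.congr_fun this x).symm
    rw [hnat V (Y.basicOpen f) hfV c]
    set c' : Γ(Y, Y.basicOpen f) := Y.presheaf.map (homOfLE hfV).op c with hc'
    haveI : IsLocalization.Away f Γ(Y, Y.basicOpen f) :=
      (isAffineOpen_top Y).isLocalization_basicOpen f
    obtain ⟨⟨b, s⟩, hbs⟩ := IsLocalization.surj (Submonoid.powers f) c'
    have halg : ∀ x : Γ(Y, ⊤), algebraMap Γ(Y, ⊤) Γ(Y, Y.basicOpen f) x =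
        Y.presheaf.map (homOfLE (le_top : Y.basicOpen f ≤ ⊤)).op x := fun x => rfl
    -- `d` kills restrictions of global functions
    have hkill : ∀ x : Γ(Y, ⊤), d (g ⁻¹ᵁ Y.basicOpen f)
        (g.app (Y.basicOpen f) (algebraMap Γ(Y, ⊤) Γ(Y, Y.basicOpen f) x)) = 0 := by
      intro x
      rw [halg, ← hnat ⊤ (Y.basicOpen f) le_top x, d_map, d_top, map_zero]
    have hu : IsUnit (g.app (Y.basicOpen f) (algebraMap Γ(Y, ⊤) Γ(Y, Y.basicOpen f) s.1)) :=
      (IsLocalization.map_units Γ(Y, Y.basicOpen f) s).map (g.app (Y.basicOpen f)).hom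
    have h1 := congrArg (fun z => d (g ⁻¹ᵁ Y.basicOpen f) (g.app (Y.basicOpen f) z)) hbs
    simp only at h1
    rw [map_mul, d_mul, hkill, hkill, smul_zero, zero_add] at h1
    exact (hu.smul_eq_zero).1 h1

end Generic

section Der

open Groth.Agent.Lib.Helper27PnSections Groth.Agent.Lib.Helper27ProjGamma

lemma dSec_top (j : Fin (n + 1)) (m : ℤ) (hm : m + 1 = 0)
    (c : Γ(Spec (CommRingCat.of A), ⊤)) :
    dSec n A j m hm ((CohB1.ProjSpace.toSpec n A) ⁻¹ᵁ ⊤)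
      ((CohB1.ProjSpace.toSpec n A).app ⊤ c) = 0 := by
  obtain ⟨r, rfl⟩ : ∃ r : A, (Scheme.ΓSpecIso (CommRingCat.of A)).inv r = c :=
    ⟨(Scheme.ΓSpecIso (CommRingCat.of A)).hom c,
      congr($((Scheme.ΓSpecIso (CommRingCat.of A)).hom_inv_id) c)⟩
  apply sec_ext
  intro y hy
  rw [secVal_zero]
  obtain ⟨i, hi⟩ := exists_X_not_mem n A y
  have h1 := funVal_constFun_val 𝒢 (hX n A i) Nat.one_pos r y hi
  change dLoc n A j y (funVal 𝒢 ⊤ (constFun 𝒢 r) y trivial).val = 0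
  rw [h1, Localization.mk_one_eq_algebraMap, ← IsScalarTower.algebraMap_apply,
    Derivation.map_algebraMap]

/-- the derivation `∂/∂x_j : O → O(m)`, `m = -1`, of `P^n_A` over `A` -/
noncomputable def derX (j : Fin (n + 1)) (m : ℤ) (hm : m + 1 = 0) :
    OmegaSh.Der (CohB1.ProjSpace.toSpec n A) (GrTilde.tilde 𝒢 𝒢 m) where
  d {U} :=
    { toFun := fun c => dSec n A j m hm U.unop c
      map_zero' := dSec_zero n A j m hm U.unop
      map_add' := dSec_add n A j m hm U.unop }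
  d_mul {U} a b := dSec_mul n A j m hm U.unop a b
  d_map {U V} f x := by
    have hle : V.unop ≤ U.unop := leOfHom f.unop
    exact dSec_map n A j m hm hle x
  d_app {V} c := by
    have := d_app_eq_zero (CohB1.ProjSpace.toSpec n A) (GrTilde.tilde 𝒢 𝒢 m)
      (fun U => { toFun := fun c => dSec n A j m hm U c
                  map_zero' := dSec_zero n A j m hm U
                  map_add' := dSec_add n A j m hm U })
      (fun U a b => dSec_mul n A j m hm U a b)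
      (fun U V h a => dSec_map n A j m hm h a)
      (fun c => dSec_top n A j m hm c) V.unop c
    exact this

lemma derX_app (j : Fin (n + 1)) (m : ℤ) (hm : m + 1 = 0) (U : (Proj 𝒢).Opens)
    (c : Γ(Proj 𝒢, U)) : (derX n A j m hm).app U c = dSec n A j m hm U c := rfl

variable [QuasiSeparated (CohB1.ProjSpace.toSpec n A)]

/-- the `O`-linear map `Ω → O(m)`, `m = -1`, corresponding to `∂/∂x_j` -/
noncomputable def phi (j : Fin (n + 1)) (m : ℤ) (hm : m + 1 = 0) :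
    Omega.sheaf (CohB1.ProjSpace.toSpec n A) ⟶ GrTilde.tilde 𝒢 𝒢 m :=
  (Groth.Agent.Helper18OmLS.isUniversal_dOmega (CohB1.ProjSpace.toSpec n A)
    (GrTilde.tilde 𝒢 𝒢 m) (derX n A j m hm)).exists.choose

lemma phi_spec (j : Fin (n + 1)) (m : ℤ) (hm : m + 1 = 0) :
    (OmegaSh.dOmega (CohB1.ProjSpace.toSpec n A)).postcomp (phi n A j m hm).val =
      derX n A j m hm :=
  (Groth.Agent.Helper18OmLS.isUniversal_dOmega (CohB1.ProjSpace.toSpec n A)
    (GrTilde.tilde 𝒢 𝒢 m) (derX n A j m hm)).exists.choose_spec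

lemma phi_d (j : Fin (n + 1)) (m : ℤ) (hm : m + 1 = 0) (U : (Proj 𝒢).Opens)
    (c : Γ(Proj 𝒢, U)) :
    (phi n A j m hm).app U ((OmegaSh.dOmega (CohB1.ProjSpace.toSpec n A)).app U c) =
      dSec n A j m hm U c := by
  have h := congrArg (fun D : OmegaSh.Der (CohB1.ProjSpace.toSpec n A) (GrTilde.tilde 𝒢 𝒢 m) =>
    D.app U c) (phi_spec n A j m hm)
  exact h

end Der

end Groth.Agent.Lib.R2H2.PnDerSh
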