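import Groth.Agent.Lib.R2H2PnBott2
import Groth.Agent.Lib.R2H2PnTwEquiv
import Groth.Agent.Lib.R2H2PnHorrocks
import Groth.Agent.Lib.R2H2ExtPowOne
import Groth.Prelude.Def_KLin

/-!
# The cotangent sheaf of projective space is simple (helper2, round 2)

`End(O) = k`, `Ext` of Koszul terms, and `End(Ω^1_{P^n_k}) = k` via the Euler sequence
`0 → Z^n → K^n → Z^{n+1} → 0` and the long exact `Ext` sequences.
-/

set_option backward.isDefEq.respectTransparency.types false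
set_option autoImplicit false
set_option linter.unusedSectionVars false
universe u

namespace Groth.Agent.Lib.R2H2.PnOmSimple

open CategoryTheory CategoryTheory.Limits AlgebraicGeometry Abelian
open Groth.Agent.Lib.R2H2.KoszulAbs Groth.Agent.Lib.R2H2.HHLin Groth.Agent.Lib.R2H2.KoszulShift
open Groth.Agent.Lib.R2H2.KoszulTw Groth.Agent.Lib.R2H2.PnSerre Groth.Agent.Lib.R2H2.PnBridge
open Groth.Agent.Lib.R2H2.PnBott Groth.Agent.Lib.R2H2.PnTwEquiv Groth.Agent.Lib.R2H2.PnLinRes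

section Abstract

variable {k : Type u} [CommRing k] {C : Type*} [Category C] [Abelian C] [Linear k C]
  [HasExt.{u} C]

/-- simplicity passes from the cokernel to the kernel of a short exact sequence with vanishing
`Ext^1(X₃, X₂)` and `Hom(X₂, X₁)` -/
theorem end_X₁_of_end_X₃ (S : ShortComplex C) (hS : S.ShortExact)
    (h1 : Subsingleton (Ext S.X₃ S.X₂ 1)) (h2 : Subsingleton (Ext S.X₂ S.X₁ 0))
    (h3 : ∀ ψ : S.X₃ ⟶ S.X₃, ∃ c : k, ψ = c • 𝟙 S.X₃) (φ : S.X₁ ⟶ S.X₁) :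
    ∃ c : k, φ = c • 𝟙 S.X₁ := by
  obtain ⟨x₃, hx₃⟩ := Ext.covariant_sequence_exact₁ S.X₃ hS
    (hS.extClass.comp (Ext.mk₀ φ) (add_zero 1)) (Subsingleton.elim _ _) (zero_add 1)
  obtain ⟨ψ, rfl⟩ := (Ext.mk₀_bijective _ _).2 x₃
  obtain ⟨c, hc⟩ := h3 ψ
  refine ⟨c, ?_⟩
  have h4 : hS.extClass.comp (Ext.mk₀ (φ + -(c • 𝟙 S.X₁))) (add_zero 1) = 0 := by
    rw [Ext.mk₀_add, Ext.mk₀_neg, Ext.comp_add, Ext.comp_neg, ← hx₃, hc,
      Ext.mk₀_smul, Ext.mk₀_smul, Ext.smul_comp, Ext.comp_smul, Ext.mk₀_id_comp,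
      Ext.comp_mk₀_id, add_neg_cancel]
  obtain ⟨x₂, hx₂⟩ := Ext.contravariant_sequence_exact₁ hS _ (Ext.mk₀ (φ + -(c • 𝟙 S.X₁)))
    (add_zero 1) h4
  rw [Subsingleton.elim x₂ 0, Ext.comp_zero] at hx₂
  have h5 : φ + -(c • 𝟙 S.X₁) = 0 :=
    (Ext.mk₀_bijective _ _).1 (hx₂.symm.trans (Ext.mk₀_zero _ _).symm)
  exact add_neg_eq_zero.1 h5

end Abstract

section General

variable {X : Scheme.{u}}

section Lin

variable (k : Type u) [CommRing k] [X.Over (Spec (CommRingCat.of k))]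

/-- scalar endomorphisms transport along isomorphisms -/
lemma eq_smul_of_iso {M N : X.Modules} (e : M ≅ N) (f : M ⟶ M) (c : k)
    (h : e.inv ≫ f ≫ e.hom = c • 𝟙 N) : f = c • 𝟙 M := by
  have h1 : f = e.hom ≫ (e.inv ≫ f ≫ e.hom) ≫ e.inv := by
    simp only [Category.assoc, Iso.hom_inv_id, Category.comp_id, Iso.hom_inv_id_assoc]
  rw [h1, h, Linear.smul_comp, Linear.comp_smul, Category.id_comp, e.hom_inv_id]

end Lin

variable [HasExt.{u} X.Modules] {r : ℕ} (D : KData X.Modules r)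

lemma subsingleton_ext_K_left (i q : ℕ) (Y : X.Modules)
    (h : Subsingleton (Ext (D.G i) Y q)) : Subsingleton (Ext (D.K i) Y q) := by
  have h0 : ∀ x : Ext (D.K i) Y q, x = 0 := fun x => by
    let φ : (D.K i ⟶ D.K i) →+ Ext (D.K i) Y q :=
      AddMonoidHom.mk' (fun f => (Ext.mk₀ f).comp x (zero_add q))
        (fun a b => by rw [Ext.mk₀_add, Ext.add_comp])
    have h2 : φ (∑ S : Finset (Fin r), D.prj i S ≫ D.inj i S) = x := by
      rw [D.total i]
      exact Ext.mk₀_id_comp x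
    rw [map_sum] at h2
    rw [← h2]
    refine Finset.sum_eq_zero (fun S _ => ?_)
    change (Ext.mk₀ (D.prj i S ≫ D.inj i S)).comp x (zero_add q) = 0
    rw [← Ext.mk₀_comp_mk₀_assoc, Subsingleton.elim ((Ext.mk₀ (D.inj i S)).comp x (zero_add q)) 0,
      Ext.comp_zero]
  exact ⟨fun a b => (h0 a).trans (h0 b).symm⟩

lemma subsingleton_ext_K_right (i q : ℕ) (Y : X.Modules)
    (h : Subsingleton (Ext Y (D.G i) q)) : Subsingleton (Ext Y (D.K i) q) := by
  have h0 : ∀ x : Ext Y (D.K i) q, x = 0 := fun x => by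
    let φ : (D.K i ⟶ D.K i) →+ Ext Y (D.K i) q :=
      AddMonoidHom.mk' (fun f => x.comp (Ext.mk₀ f) (add_zero q))
        (fun a b => by rw [Ext.mk₀_add, Ext.comp_add])
    have h2 : φ (∑ S : Finset (Fin r), D.prj i S ≫ D.inj i S) = x := by
      rw [D.total i]
      exact Ext.comp_mk₀_id x
    rw [map_sum] at h2
    rw [← h2]
    refine Finset.sum_eq_zero (fun S _ => ?_)
    change x.comp (Ext.mk₀ (D.prj i S ≫ D.inj i S)) (add_zero q) = 0
    rw [← Ext.mk₀_comp_mk₀, ← Ext.comp_assoc_of_third_deg_zero,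
      Subsingleton.elim (x.comp (Ext.mk₀ (D.prj i S)) (add_zero q)) 0, Ext.zero_comp]
  exact ⟨fun a b => (h0 a).trans (h0 b).symm⟩

end General

section Pn

variable (k : Type u) [Field k] (n : ℕ)

local notation "PX" => CohB1.ProjSpace n k

/-- `End(O) = k` on `P^n_k` -/
theorem end_unit (f : Coh.structureModule PX ⟶ Coh.structureModule PX) :
    ∃ c : k, f = c • 𝟙 (Coh.structureModule PX) := by
  by_cases hid : cls (𝟙 (Coh.structureModule PX)) = 0
  · have h2 : 𝟙 (Coh.structureModule PX) = 0 := eq_zero_of_cls _ hid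
    refine ⟨0, ?_⟩
    rw [zero_smul, ← Category.comp_id f, h2, comp_zero]
  · obtain ⟨c, hc⟩ := (finrank_eq_one_iff_of_nonzero' _ hid).1
      (Groth.Agent.Lib.R2H2.PnHorrocks.finrank_H0_structure k n) (cls f)
    refine ⟨c, Groth.Agent.Lib.R2H2.PnHorrocks.cls_injective _ ?_⟩
    rw [← hc, KLin.smul_id]
    have h3 := cls_comp (𝟙 (Coh.structureModule PX)) (Formal.smulMod k (Coh.structureModule PX) c)
    rw [Category.id_comp] at h3
    rw [← h3]
    rfl

/-- endomorphisms of a module isomorphic to `O` are scalars -/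
theorem end_of_iso_unit {M : (PX).Modules} (e : M ≅ Coh.structureModule PX) (f : M ⟶ M) :
    ∃ c : k, f = c • 𝟙 M := by
  obtain ⟨c, hc⟩ := end_unit k n (e.inv ≫ f ≫ e.hom)
  exact ⟨c, eq_smul_of_iso k e f c hc⟩

end Pn

section Main

variable (k : Type u) [Field k] (n : ℕ)

local notation "PX" => CohB1.ProjSpace n k

/-- the Euler sequence `0 → Z^n → K^n → Z^{n+1} → 0` -/
noncomputable abbrev eulerS : ShortComplex (PX).Modules := ses (KP n k) n

lemma eulerS_shortExact : (eulerS k n).ShortExact := ses_shortExact (KP n k) (KP_exact n k) n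

/-- the last term of the Euler sequence is `O` -/
noncomputable def isoX₃ : (eulerS k n).X₃ ≅ Coh.structureModule PX :=
  isoZTop n k ≪≫ eqToIso (congrArg (fun m : ℤ => Twist.twistProjSpace n k m) Nat.cast_zero) ≪≫
    (Groth.Agent.Lib.R2Lead.KRR.nonempty_twistProjSpace_zero_iso n k).some

lemma isEquivalence_Tw (q : ℤ) : (Tw n k q).IsEquivalence := by
  haveI := isEquivalence_tw n k q
  exact Functor.isEquivalence_of_iso (twIso (Twist.twistProjSpace n k q))

/-- `(K^n-summand)(1) ≅ O` -/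
noncomputable def isoTwG : (Tw n k 1).obj ((KP n k).G n) ≅ Coh.structureModule PX :=
  (Groth.Agent.Lib.R2Lead.KRR.nonempty_twistProjSpace_tensor_iso n k (-((n : ℤ) + 1) + n) 1).some ≪≫
    eqToIso (congrArg (fun m : ℤ => Twist.twistProjSpace n k m)
      (by ring : -((n : ℤ) + 1) + n + 1 = 0)) ≪≫
    (Groth.Agent.Lib.R2Lead.KRR.nonempty_twistProjSpace_zero_iso n k).some

variable [HasExt.{u} (CohB1.ProjSpace n k).Modules]

lemma subsingleton_ext_G_Z : Subsingleton (Ext ((KP n k).G n) (kernel ((KP n k).d n)) 0) := by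
  haveI := isEquivalence_Tw k n 1
  apply subsingleton_ext_of_equiv (Tw n k 1)
  refine subsingleton_ext_of_iso (isoTwG k n) (Iso.refl _) 0 ?_
  refine subsingleton_ext_unit _ 0 (vanish_Z n k n (by omega) 1 0 ?_ ?_ ?_)
  · rintro ⟨-, h⟩
    have : ((n + 1 - n : ℕ) : ℤ) = 1 := by
      have : n + 1 - n = 1 := by omega
      rw [this]; rfl
    omega
  · rintro ⟨h1, h2⟩
    have : ((n + 1 - n : ℕ) : ℤ) = 1 := by
      have : n + 1 - n = 1 := by omega
      rw [this]; rfl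
    omega
  · intro h; omega

lemma subsingleton_ext_X₃_G : Subsingleton (Ext (eulerS k n).X₃ ((KP n k).G n) 1) := by
  refine subsingleton_ext_of_iso (isoX₃ k n) (Iso.refl _) 1 ?_
  refine subsingleton_ext_unit _ 1 (subsingleton_HH_twist n k (-((n : ℤ) + 1) + n) 1 ?_ ?_)
  · rintro ⟨h, -⟩; omega
  · rintro ⟨h1, h2⟩; omega

/-- **the Koszul syzygy `Z^n ≅ Ω^1` of `P^n_k` is simple** -/
theorem end_Z (φ : kernel ((KP n k).d n) ⟶ kernel ((KP n k).d n)) :
    ∃ c : k, φ = c • 𝟙 _ := by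
  exact end_X₁_of_end_X₃ (k := k) (eulerS k n) (eulerS_shortExact k n)
    (subsingleton_ext_K_right (KP n k) n 1 _ (subsingleton_ext_X₃_G k n))
    (subsingleton_ext_K_left (KP n k) n 0 _ (subsingleton_ext_G_Z k n))
    (fun ψ => end_of_iso_unit k n (isoX₃ k n) ψ) φ

/-- **`Ω^1_{P^n_k}` is simple** -/
theorem end_omega [QuasiSeparated (CohB1.ProjSpace.toSpec n k)]
    (φ : Omega.sheaf (CohB1.ProjSpace.toSpec n k) ⟶ Omega.sheaf (CohB1.ProjSpace.toSpec n k)) :
    ∃ c : k, φ = c • 𝟙 _ := by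
  obtain ⟨e⟩ := nonempty_iso_kernel (Groth.Agent.Lib.R2H2.ExtPowOne.isExtPow_one
    (Omega.sheaf (CohB1.ProjSpace.toSpec n k))) n (by omega : 1 + n = n + 1)
  obtain ⟨c, hc⟩ := end_Z k n (e.inv ≫ φ ≫ e.hom)
  exact ⟨c, eq_smul_of_iso k e φ c hc⟩

end Main

end Groth.Agent.Lib.R2H2.PnOmSimple
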