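import Groth.Agent.Lib.R2H2DetTriv
import Groth.Agent.Lib.R2H2PnOmSimple
import Groth.Agent.Lib.R2H2PnSplitType

/-!
# Globally generated bundles with trivial determinant on `P^n_k` are trivial (helper2, round 2)
-/

set_option backward.isDefEq.respectTransparency.types false
set_option autoImplicit false
set_option linter.unusedSectionVars false
universe u

namespace Groth.Agent.Lib.R2H2.PnDetTriv

open CategoryTheory CategoryTheory.Limits AlgebraicGeometry
open Groth.Agent.Lib.R2H2.DetTriv Groth.Agent.Lib.R2H2.PnOmSimple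

variable (k : Type u) [Field k] (n : ℕ)

/-- a globally generated finite locally free module of rank `r` on `P^n_k` whose `r`-th exterior
power is trivial is free -/
theorem nonempty_iso_freeMod {r N : ℕ} (E : (CohB1.ProjSpace n k).Modules)
    (hE : FlatMod.IsFinLocFreeOfRank r E) (ψ : FlatMod.freeMod (CohB1.ProjSpace n k) N ⟶ E) [Epi ψ]
    (L : (CohB1.ProjSpace n k).Modules) (hL : ExtPow.IsExtPow r E L)
    (θ : L ≅ Coh.structureModule (CohB1.ProjSpace n k)) :
    Nonempty (E ≅ FlatMod.freeMod (CohB1.ProjSpace n k) r) := by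
  haveI : Nonempty (CohB1.ProjSpace n k) := Groth.Agent.Lib.R2H2.PnLocFree.nonempty_projSpace k n
  obtain ⟨D⟩ := nonempty_EPData hL
  obtain ⟨f, hf⟩ := exists_wedge_ne_zero_of_epi hE D ψ
  set s : Fin r → (Coh.structureModule (CohB1.ProjSpace n k) ⟶ E) :=
    fun j => inj N (f j) ≫ ψ with hs
  obtain ⟨c, hc⟩ := end_unit k n (wedge D s ≫ θ.hom)
  have hc0 : c ≠ 0 := by
    rintro rfl
    rw [zero_smul] at hc
    apply hf
    rw [← cancel_mono θ.hom, hc, zero_comp]
  have hw : wedge D s = (c • 𝟙 _) ≫ θ.inv := by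
    rw [← hc, Category.assoc, Iso.hom_inv_id, Category.comp_id]
  haveI : IsIso (c • 𝟙 (Coh.structureModule (CohB1.ProjSpace n k))) :=
    ⟨⟨c⁻¹ • 𝟙 _, by
      rw [Linear.smul_comp, Linear.comp_smul, Category.id_comp, smul_smul, mul_inv_cancel₀ hc0,
        one_smul], by
      rw [Linear.smul_comp, Linear.comp_smul, Category.id_comp, smul_smul, inv_mul_cancel₀ hc0,
        one_smul]⟩⟩
  haveI : IsIso (wedge D s) := by rw [hw]; infer_instance
  haveI := isIso_frame hE D s
  exact ⟨(asIso (frame s)).symm⟩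

end Groth.Agent.Lib.R2H2.PnDetTriv
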