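import Groth.Agent.Lib.R2H2PnDualMain
import Groth.Agent.Lib.R2H2DualRep
import Groth.Agent.Lib.R2H2PnMulFrac
import Groth.Agent.Lib.R2H2PnFinite

/-!
# `O(-n-1)` is a dualizing sheaf on `P^n_R` for coherent modules (helper2, round 2)

`main R n` : for a Noetherian ring `R` there is an isomorphism `t : H^n(P^n_R, O(-n-1)) ≅ R` such that
for every coherent module `F` every linear form on `H^n(F)` is `t ∘ H^n(φ)` for a unique
`φ : F ⟶ O(-n-1)`.
-/

set_option autoImplicit false
set_option linter.unusedSectionVars false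
universe u

namespace Groth.Agent.Lib.R2H2.PnDualCoh

open MvPolynomial CategoryTheory CategoryTheory.Limits Opposite AlgebraicGeometry
open Groth.Agent.Lib.R2H2.HHLin Groth.Agent.Lib.R2H2.DualRep Groth.Agent.Lib.R2H2.PnFinite
  Groth.Agent.Lib.R2H2.LaurentPair Groth.Agent.Lib.R2H2.PnDual Groth.Agent.Lib.R2H2.PnMulFrac
  Groth.Agent.Lib.Helper23.QCohLocal Groth.Agent.Lib.Helper23.FinType

attribute [local instance] Abelian.hasFiniteBiproducts

variable (R : Type u) [CommRing R] (n : ℕ)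

local notation "PX" => CohB1.ProjSpace n R

section General

variable [IsNoetherianRing R] {ω : (CohB1.ProjSpace n R).Modules}
  (t : Coh.HH (CohB1.ProjSpace n R) ω n →ₗ[R] R)
  (hTw : ∀ a : ℤ, Rep t (Twist.twistProjSpace n R a))

include hTw in
theorem inj_of_coh (F : (PX).Modules) (hF : Coh.IsCoh F) : Inj t F := by
  obtain ⟨r, d, π, hπ⟩ := exists_epi_twists n R F hF
  exact inj_of_epi π (inj_biproduct _ fun j => (hTw (d j)).inj)

include hTw in
theorem sur_of_coh (F : (PX).Modules) (hF : Coh.IsCoh F) : Sur t F := by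
  obtain ⟨r, d, φ, hφ⟩ := exists_epi_twists n R F hF
  let f : Fin r → (PX).Modules := fun j => Twist.twistProjSpace n R (d j)
  have hEq : (⨁ f : (PX).Modules).IsQuasicoherent :=
    isQuasicoherent_biproduct f (fun j => isQCoh_twist n R (d j))
  have hEf : SheafOfModules.IsFiniteType (R := (PX).ringCatSheaf) (⨁ f : (PX).Modules) :=
    isFiniteType_biproduct f (fun j => isQCoh_twist n R (d j))
      (fun j => isFiniteType_twist n R (d j))
  have hMq : F.IsQuasicoherent := hF.1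
  have hKq : (kernel φ).IsQuasicoherent := isQuasicoherent_kernel φ
  have hmono : Mono (kernel.ι φ) := equalizer.ι_mono
  have hKf : SheafOfModules.IsFiniteType (R := (PX).ringCatSheaf) (kernel φ) :=
    @isFiniteType_of_mono PX _ _ _ (kernel.ι φ) hmono hEq hEf hKq
  have hK : Coh.IsCoh (kernel φ) := ⟨hKq, hKf⟩
  let S : ShortComplex (PX).Modules := ShortComplex.mk (kernel.ι φ) φ (kernel.condition φ)
  have hS : S.ShortExact :=
    { exact := ShortComplex.exact_kernel φ
      mono_f := hmono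
      epi_g := hφ }
  have hsurj : Function.Surjective (HmapL S.g n) := by
    intro x
    have hq : Coh.IsQCoh (kernel φ) := hKq
    have hsub : Subsingleton (Coh.HH PX S.X₁ (n + 1)) :=
      Groth.Agent.S0022.result n R (kernel φ) (n + 1) (by omega)
    exact exact₃ S hS n x (Subsingleton.elim _ _)
  have hepi : Epi S.g := hφ
  exact sur_of_exact S hS.exact (inj_of_coh R n t hTw (kernel φ) hK)
    (sur_biproduct f fun j => (hTw (d j)).sur) hsurj

include hTw in
theorem rep_of_coh (F : (PX).Modules) (hF : Coh.IsCoh F) : Rep t F :=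
  rep_of_inj_sur (inj_of_coh R n t hTw F hF) (sur_of_coh R n t hTw F hF)

end General

section Zero

local notation "𝒫₀" => CohB1.polyGrading 0 R

lemma X0_pow_not_mem (k : ℕ) (y : ProjectiveSpectrum 𝒫₀) :
    (X 0 : MvPolynomial (Fin (0 + 1)) R) ^ k ∉ y.asHomogeneousIdeal := by
  obtain ⟨i, hi⟩ := Groth.Agent.Lib.Helper27PnSections.exists_X_not_mem 0 R y
  have hi0 : i = 0 := Fin.ext (by have := i.2; simp at this ⊢)
  rw [hi0] at hi
  exact Groth.Agent.Lib.Helper27PnSections.X_pow_not_mem 0 R 0 k y hi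

lemma X0_pow_mem (k : ℕ) : (X 0 : MvPolynomial (Fin (0 + 1)) R) ^ k ∈ 𝒫₀ k := by
  have h1 : (X 0 : MvPolynomial (Fin (0 + 1)) R) ∈ 𝒫₀ 1 := isHomogeneous_X R 0
  have h2 := SetLike.pow_mem_graded k h1
  simpa using h2

/-- on `P^0_R` all the twisting sheaves are isomorphic -/
noncomputable def twIso0 (a : ℤ) (k : ℕ) : Otw R 0 a ≅ Otw R 0 (a + k) :=
  mulFIso 𝒫₀ 𝒫₀ (i := k) (j := 0) (a := X 0 ^ k) (b := 1) (k := (k : ℤ)) (k' := -(k : ℤ))
    (X0_pow_mem R k) (SetLike.GradedOne.one_mem) (by simp) (by simp)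
    (X0_pow_not_mem R k) (fun y => Groth.Agent.Lib.Helper27GrTildeSect.one_not_mem 𝒫₀ y) rfl
    (by ring)

end Zero

section Main

variable [IsNoetherianRing R]

theorem main_twists :
    ∃ t : Coh.HH PX (Otw R n (wN n)) n ≃ₗ[R] R,
      ∀ a : ℤ, Rep (t : Coh.HH PX (Otw R n (wN n)) n →ₗ[R] R) (Otw R n a) := by
  obtain ⟨t, ht⟩ := Groth.Agent.Lib.R2H2.PnDualMain.main R n
  refine ⟨t, fun a => ?_⟩
  by_cases hn : 1 ≤ n
  · exact ht a (Or.inr hn)
  · have hn0 : n = 0 := by omega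
    subst hn0
    by_cases ha : a ≤ wN 0
    · exact ht a (Or.inl ha)
    · obtain ⟨k, hk⟩ : ∃ k : ℕ, wN 0 + k = a := ⟨(a - wN 0).toNat, by omega⟩
      subst hk
      exact rep_of_iso (twIso0 R (wN 0) k) (ht (wN 0) (Or.inl le_rfl))

theorem main_family (F : ℤ → (PX).Modules) (hF : F = fun d => Otw R n d) :
    ∃ t : Coh.HH PX (F (-((n : ℤ) + 1))) n ≃ₗ[R] R,
      ∀ a : ℤ, Rep (t : Coh.HH PX (F (-((n : ℤ) + 1))) n →ₗ[R] R) (F a) := by
  subst hF
  exact main_twists R n

theorem main_tw :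
    ∃ t : Coh.HH PX (Twist.twistProjSpace n R (-((n : ℤ) + 1))) n ≃ₗ[R] R,
      ∀ a : ℤ, Rep (t : Coh.HH PX (Twist.twistProjSpace n R (-((n : ℤ) + 1))) n →ₗ[R] R)
        (Twist.twistProjSpace n R a) :=
  main_family R n (fun d => Twist.twistProjSpace n R d) (funext fun d => twist_eq R n d)

/-- **`O(-n-1)` is dualizing for coherent modules on `P^n_R`** -/
theorem main :
    ∃ t : Coh.HH PX (Twist.twistProjSpace n R (-((n : ℤ) + 1))) n ≃ₗ[R] R,
      ∀ F : (PX).Modules, Coh.IsCoh F →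
        Rep (t : Coh.HH PX (Twist.twistProjSpace n R (-((n : ℤ) + 1))) n →ₗ[R] R) F := by
  obtain ⟨t, ht⟩ := main_tw R n
  exact ⟨t, fun F hF => rep_of_coh R n _ ht F hF⟩

end Main

end Groth.Agent.Lib.R2H2.PnDualCoh
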