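import Groth.Agent.Lib.R2H2PnDual

/-!
# `O(-n-1)` represents the dual of the top cohomology of the twisting sheaves on `P^n_R`
(helper2, round 2)
-/

set_option autoImplicit false
set_option linter.unusedSectionVars false
universe u

namespace Groth.Agent.Lib.R2H2.PnDualMain

open MvPolynomial CategoryTheory CategoryTheory.Limits Opposite AlgebraicGeometry
open Groth.Agent.Lib.R2H2.Laurent Groth.Agent.Lib.R2H2.LaurentTop
  Groth.Agent.Lib.Helper27GrTildeSect
  Groth.Agent.Lib.R2H2.PnMul Groth.Agent.Lib.R2H2.LaurentMul Groth.Agent.Lib.R2H2.LaurentPair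
  Groth.Agent.Lib.R2H2.PnMulTop Groth.Agent.Lib.R2H2.PnHom Groth.Agent.Lib.R2H2.PnDual

variable (R : Type u) [CommRing R] (n : ℕ)

local notation "𝒫" => CohB1.polyGrading n R
local notation "PX" => CohB1.ProjSpace n R

/-- **the dualizing property of `O(-n-1)` for the twisting sheaves**: there is an isomorphism
`t : H^n(O(-n-1)) ≅ R` such that every linear form on `H^n(O(a))` is `t ∘ H^n(φ)` for a unique
`φ : O(a) ⟶ O(-n-1)` (for `a ≤ -n-1`, or for all `a` if `n ≥ 1`) -/
theorem main :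
    ∃ t : Coh.HH PX (Otw R n (wN n)) n ≃ₗ[R] R,
      ∀ (a : ℤ), (a ≤ wN n ∨ 1 ≤ n) → ∀ (ψ : Coh.HH PX (Otw R n a) n →ₗ[R] R),
        ∃! φ : Otw R n a ⟶ Otw R n (wN n),
          ∀ x : Coh.HH PX (Otw R n a) n,
            ψ x = t (Sheaf.H.map ((SheafOfModules.toSheaf (CohB1.ProjSpace n R).ringCatSheaf).map
              φ) n x) := by
  refine Exists.elim (exists_top_linear_family R n) (fun E hE => ?_)
  refine ⟨(E (wN n) (wN_neg n)).symm.trans (tN R n), ?_⟩
  intro a hcase ψ
  by_cases ha : a ≤ wN n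
  · obtain ⟨m, hm⟩ : ∃ m : ℕ, a + m = wN n := ⟨(wN n - a).toNat, by omega⟩
    have ha0 : a < 0 := lt_of_le_of_lt ha (wN_neg n)
    have key : ∀ (P' : MvPolynomial (Fin (n + 1)) R) (hP' : P' ∈ CohB1.polyGrading n R m)
        (f : VV R n a),
        ((E (wN n) (wN_neg n)).symm.trans (tN R n))
          (Sheaf.H.map ((SheafOfModules.toSheaf (CohB1.ProjSpace n R).ringCatSheaf).map
            (mulTw R n hP' hm)) n (E a ha0 f)) = pairL R n P' f := by
      intro P' hP' f
      rw [← hE a (wN n) ha0 (wN_neg n) m P' hP' hm f]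
      change tN R n ((E (wN n) (wN_neg n)).symm (E (wN n) (wN_neg n) (mulVV R n hP' hm f))) = _
      rw [LinearEquiv.symm_apply_apply, pairL_mulVV]
    obtain ⟨P, hP, hψ⟩ := pair_exists R n hm (ψ.comp (E a ha0).toLinearMap)
    have hψ' : ∀ f : VV R n a, ψ (E a ha0 f) = pairL R n P f := hψ
    refine ⟨mulTw R n hP hm, ?_, ?_⟩
    · intro x
      obtain ⟨f, rfl⟩ := (E a ha0).surjective x
      rw [key P hP f, hψ' f]
    · intro φ' hφ'
      obtain ⟨P', hP', hφeq⟩ := exists_eq_mulP φ' m hm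
      have hφeq' : φ' = mulTw R n hP' hm := hφeq
      subst hφeq'
      have hPP : P' = P := pair_unique R n hm hP' hP (fun f => by
        rw [← key P' hP' f, ← hφ' (E a ha0 f), hψ' f])
      subst hPP
      rfl
  · have hn : 1 ≤ n := hcase.resolve_left ha
    have hlt : wN n < a := not_le.mp ha
    have hss : Subsingleton (Coh.HH PX (Otw R n a) n) :=
      Groth.Agent.Lib.R2H2.PnCoh.subsingleton_HH_tilde R n a n (by rintro ⟨h, -⟩; omega)
        (by rintro ⟨-, h⟩; unfold wN at hlt; omega)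
    refine ⟨0, ?_, ?_⟩
    · intro x
      rw [Subsingleton.elim x 0, map_zero, map_zero, map_zero]
    · intro φ' _
      exact eq_zero_of_lt φ' hn hlt

end Groth.Agent.Lib.R2H2.PnDualMain
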