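import Groth.Agent.Lib.R2H2PnBridge
import Groth.Agent.Lib.R2H2ExtPowOne
import Groth.Agent.Lib.R2H2KoszulLast

/-!
# The Euler sequence on `P^n_A` (helper2, round 2)

Namespace `Groth.Agent.Lib.R2H2.PnEulerSeq`.  With `KP n A` the Koszul data of `x_0, …, x_n` on `P^n_A`
(`(KP n A).G n = O(-1)`, `(KP n A).G (n+1) = O(0)` up to the propositional equalities `hG₁`, `hG₂`; the maps
`(KP n A).X l n` are multiplication by `x_l`, lemma `KP_X`):

* `eulK n A : ⨁_{l : Fin (n+1)} (KP n A).G n ⟶ (KP n A).G (n+1)`, `epi_eulK`;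
* `nonempty_omega_iso : Ω_{P^n_A/A} ≅ kernel (eulK n A)`.

KERNEL GOTCHA: never transport these morphisms along `eqToHom` between `tilde (-(n+1)+n)` and `tilde (-1)`: the
kernel blows up on `f ≫ eqToHom p =?= f ≫ eqToHom p'`; transport objects only.
-/

set_option backward.isDefEq.respectTransparency.types false
set_option autoImplicit false
universe v u

namespace Groth.Agent.Lib.R2H2.PnEulerSeq

open CategoryTheory CategoryTheory.Limits AlgebraicGeometry
open Groth.Agent.Lib.R2H2.KoszulAbs Groth.Agent.Lib.R2H2.KoszulSheaf Groth.Agent.Lib.R2H2.PnMul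
open Groth.Agent.Lib.R2H2.PnBridge Groth.Agent.Lib.R2H2.PnReg Groth.Agent.Lib.R2H2.KoszulLast

variable (n : ℕ) (A : Type u) [CommRing A]

local notation "𝒢" => CohB1.polyGrading n A

/-- the Euler map `O(-1)^{n+1} ⟶ O` -/
noncomputable def eulK : (⨁ fun _ : Fin (n + 1) => (KP n A).G n) ⟶ (KP n A).G (n + 1) :=
  biproduct.desc fun l => (KP n A).X l n

lemma hG₁ : (KP n A).G n = GrTilde.tilde 𝒢 𝒢 (-1) := by
  have hp : (-((n : ℤ) + 1) + (n : ℤ)) = -1 := by ring
  rw [KP_G, hp]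
  rfl

lemma hG₂ : (KP n A).G (n + 1) = GrTilde.tilde 𝒢 𝒢 0 := by
  have hq : (-((n : ℤ) + 1) + ((n + 1 : ℕ) : ℤ)) = 0 := by push_cast; ring
  rw [KP_G, hq]
  rfl

/-- the Euler map is the last Koszul differential -/
theorem nonempty_kernel_iso : Nonempty (kernel ((KP n A).d n) ≅ kernel (eulK n A)) :=
  ⟨kernel.mapIso _ _ (isoK (KP n A)) (isoTop (KP n A)) (d_isoTop (KP n A))⟩

theorem epi_eulK : Epi (eulK n A) := by
  have h1 : Epi ((KP n A).d n) := by
    have hd : (KP n A).d (n + 1) = 0 := ((KP n A).isZero_K (n + 1 + 1) (by omega)).eq_of_tgt _ _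
    have h2 := KP_exact n A n
    exact (ShortComplex.exact_iff_epi _ hd).1 h2
  have h3 : eulK n A = (isoK (KP n A)).inv ≫ (KP n A).d n ≫ (isoTop (KP n A)).hom := by
    rw [d_isoTop, Iso.inv_hom_id_assoc]
    rfl
  rw [h3]
  infer_instance

/-- **the Euler sequence**: `Ω_{P^n_A/A}` is the kernel of the Euler map -/
theorem nonempty_omega_iso [QuasiSeparated (CohB1.ProjSpace.toSpec n A)] :
    Nonempty (Omega.sheaf (CohB1.ProjSpace.toSpec n A) ≅ kernel (eulK n A)) := by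
  obtain ⟨e⟩ := nonempty_iso_kernel (Groth.Agent.Lib.R2H2.ExtPowOne.isExtPow_one
    (Omega.sheaf (CohB1.ProjSpace.toSpec n A))) n (by omega : 1 + n = n + 1)
  obtain ⟨e'⟩ := nonempty_kernel_iso n A
  exact ⟨e ≪≫ e'⟩

end Groth.Agent.Lib.R2H2.PnEulerSeq
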