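import Groth.Agent.Lib.Helper27PnChart
import Groth.Prelude.Def_KRR

/-!
# Projective space is flat over its base (helper2, round 2)

* `flat_toSpec n R` : `P^n_R ⟶ Spec R` is flat (standard charts are polynomial rings);
* `flat_toBase n T` : `P^n_T ⟶ T` is flat.
-/

set_option autoImplicit false
universe u

namespace Groth.Agent.Lib.R2H2.PnFlat

open CategoryTheory CategoryTheory.Limits AlgebraicGeometry MvPolynomial HomogeneousLocalization
open Groth.Agent.Lib.Helper27PnChart

variable (n : ℕ) (R : Type u) [CommRing R]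

theorem flat_ringHom (i : Fin (n + 1)) :
    ((HomogeneousLocalization.fromZeroRingHom (CohB1.polyGrading n R)
        (Submonoid.powers (MvPolynomial.X i))).comp
      (algebraMap R (CohB1.polyGrading n R 0))).Flat := by
  have h1 : (HomogeneousLocalization.fromZeroRingHom (CohB1.polyGrading n R)
        (Submonoid.powers (MvPolynomial.X i))).comp
      (algebraMap R (CohB1.polyGrading n R 0)) =
      (chart n R i).comp (C : R →+* MvPolynomial {j : Fin (n + 1) // j ≠ i} R) := by
    ext r
    unfold chart
    rw [RingHom.comp_apply, RingHom.comp_apply, MvPolynomial.eval₂Hom_C, RingHom.comp_apply]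
  rw [h1]
  refine RingHom.Flat.comp ?_ (RingHom.Flat.of_bijective (chart_bijective n R i))
  have h2 : (C : R →+* MvPolynomial {j : Fin (n + 1) // j ≠ i} R) =
      algebraMap R (MvPolynomial {j : Fin (n + 1) // j ≠ i} R) := rfl
  rw [h2, RingHom.flat_algebraMap_iff]
  infer_instance

theorem flat_toSpec' : @Flat (Proj (CohB1.polyGrading n R)) _
    (Proj.toSpecZero (CohB1.polyGrading n R) ≫
      Spec.map (CommRingCat.ofHom (algebraMap R (CohB1.polyGrading n R 0)))) := by
  rw [IsZariskiLocalAtSource.iff_of_iSup_eq_top (P := @Flat) _ (iSup_basicOpen_X n R)]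
  intro i
  rw [← MorphismProperty.cancel_left_of_respectsIso (P := @Flat)
    (Proj.basicOpenIsoSpec (CohB1.polyGrading n R) (X i) (X_mem_one n R i) Nat.one_pos).inv,
    ← Category.assoc, ← Proj.awayι, ← Category.assoc, Proj.awayι_toSpecZero, ← Spec.map_comp,
    ← CommRingCat.ofHom_comp, HasRingHomProperty.Spec_iff (P := @Flat)]
  exact flat_ringHom n R i

instance flat_toSpec : Flat (CohB1.ProjSpace.toSpec n R) := flat_toSpec' n R

instance flat_toBase (T : Scheme.{u}) : Flat (CohB1.ProjSpaceOver.toBase n T) := by
  unfold CohB1.ProjSpaceOver.toBase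
  exact MorphismProperty.pullback_snd (P := @Flat) _ _ (flat_toSpec n (ULift.{u} ℤ))

instance flat_pr (T : Scheme.{u}) : Flat (KRR.pr n T) := flat_toBase n T

end Groth.Agent.Lib.R2H2.PnFlat
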