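import Groth.Agent.Lib.R2H2KoszulSheaf
import Groth.Agent.Lib.R2H2KoszulCx
import Groth.Agent.Lib.R2H2PnDual
import Groth.Agent.Lib.Helper27PnSections
import Groth.Agent.Lib.Helper27PnChart

/-!
# The Koszul complex of twisting sheaves on `P^n_R` (helper2, round 2)
-/

set_option autoImplicit false
universe u

namespace Groth.Agent.Lib.R2H2.PnKoszul

open CategoryTheory CategoryTheory.Limits AlgebraicGeometry
open Groth.Agent.Lib.R2H2.KoszulAbs Groth.Agent.Lib.R2H2.KoszulSheaf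
  Groth.Agent.Lib.R2H2.KoszulCx Groth.Agent.Lib.R2H2.PnDual

variable (n : ℕ) (R : Type u) [CommRing R]

local notation "PX" => CohB1.ProjSpace n R

/-- the homogeneous coordinates -/
noncomputable def xs : Fin (n + 1) → MvPolynomial (Fin (n + 1)) R := fun i => MvPolynomial.X i

lemma xs_mem (l : Fin (n + 1)) : xs n R l ∈ CohB1.polyGrading n R 1 :=
  Groth.Agent.Lib.Helper27PnChart.X_mem_one n R l

lemma xs_cov (y : ProjectiveSpectrum (CohB1.polyGrading n R)) :
    ∃ l, xs n R l ∉ y.asHomogeneousIdeal :=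
  Groth.Agent.Lib.Helper27PnSections.exists_X_not_mem n R y

/-- the Koszul data of the twisting sheaves on `P^n_R` -/
noncomputable def KD0 (a : ℤ) : KData (PX).Modules (n + 1) :=
  kdata0 (CohB1.polyGrading n R) (xs n R) (xs_mem n R) a

theorem koszul_family (T : ℤ → (PX).Modules) (hT : T = fun d => Otw R n d) (a : ℤ) :
    ∃ C : CochainComplex (PX).Modules ℤ, (∀ i : ℤ, C.ExactAt i) ∧
      (∀ i : ℕ, i ≤ n + 1 →
        Nonempty (C.X (i : ℤ) ≅ ∐ fun _ : Fin (Nat.choose (n + 1) i) => T (a + i))) ∧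
      (∀ i : ℤ, i < 0 ∨ (n : ℤ) + 1 < i → IsZero (C.X i)) := by
  subst hT
  refine ⟨cxZ (KD0 n R a), cxZ_exactAt (KD0 n R a)
    (exact_kdata0 (CohB1.polyGrading n R) (xs n R) (xs_mem n R) a (xs_cov n R))
    (mono_kdata0 (CohB1.polyGrading n R) (xs n R) (xs_mem n R) a (xs_cov n R)), ?_, ?_⟩
  · intro i _
    have hfb : HasFiniteBiproducts (PX).Modules := Abelian.hasFiniteBiproducts
    have e1 : (KD0 n R a).K i ≅ ∐ (fun _ : Idx (n + 1) i => Otw R n (a + i)) :=
      biproduct.isoCoproduct (fun _ : Idx (n + 1) i => Otw R n (a + i))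
    have hc : Fintype.card (Idx (n + 1) i) = Nat.choose (n + 1) i := by
      rw [Fintype.card_finset_len, Fintype.card_fin]
    let ε : Fin (Nat.choose (n + 1) i) ≃ Idx (n + 1) i := (Fintype.equivFinOfCardEq hc).symm
    have e2 := Sigma.reindex ε (fun _ : Idx (n + 1) i => Otw R n (a + i))
    exact ⟨cxZIso (KD0 n R a) i ≪≫ e1 ≪≫ e2.symm⟩
  · rintro i (hi | hi)
    · exact isZero_cxZ_neg (KD0 n R a) i hi
    · exact isZero_cxZ_large (KD0 n R a) i (by push_cast; omega)

/-- **the Koszul complex on `P^n_R`** -/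
theorem koszul (a : ℤ) :
    ∃ C : CochainComplex (PX).Modules ℤ, (∀ i : ℤ, C.ExactAt i) ∧
      (∀ i : ℕ, i ≤ n + 1 → Nonempty (C.X (i : ℤ) ≅
        ∐ fun _ : Fin (Nat.choose (n + 1) i) => Twist.twistProjSpace n R (a + i))) ∧
      (∀ i : ℤ, i < 0 ∨ (n : ℤ) + 1 < i → IsZero (C.X i)) :=
  koszul_family n R (fun d => Twist.twistProjSpace n R d) (funext fun d => twist_eq R n d) a

end Groth.Agent.Lib.R2H2.PnKoszul
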