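import Groth.Agent.Lib.R2H2PnSyzygy
import Groth.Agent.Lib.R2H2K0Gen
import Groth.Agent.Lib.R2H2PnKoszul

/-!
# The Grothendieck group of coherent sheaves on `P^n_k` (helper2, round 2)

`K_0(Coh P^n_k)` is freely generated by `[O], [O(-1)], …, [O(-n)]`.
-/

set_option autoImplicit false
set_option linter.style.haveILetI false
universe u

namespace Groth.Agent.Lib.R2H2.PnK0

open CategoryTheory CategoryTheory.Limits AlgebraicGeometry Opposite KZero
open Groth.Agent.Lib.R2H2.HHLin Groth.Agent.Lib.R2H2.PnSerre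
  Groth.Agent.Lib.R2H2.PnMumford Groth.Agent.Lib.R2H2.PnLinRes Groth.Agent.Lib.R2H2.PnGG
  Groth.Agent.Lib.R2H2.PnHorrocks Groth.Agent.Lib.R2H2.PnLocFree
  Groth.Agent.Lib.R2H2.PnBeilinson Groth.Agent.Lib.R2H2.PnSyzygy Groth.Agent.Lib.R2H2.K0Gen
  Groth.Agent.Lib.R2H2.DualExtGen Groth.Agent.Lib.Helper23.QCohLocal

section Les

section Gen
open CategoryTheory.Abelian
universe w v' u'
variable {C : Type u'} [Category.{v'} C] {J : GrothendieckTopology C}
  [HasSheafify J AddCommGrpCat.{w}] [HasExt.{w} (Sheaf J AddCommGrpCat.{w})]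
  (T : ShortComplex (Sheaf J AddCommGrpCat.{w})) (hT : T.ShortExact)

lemma H_map_g_comp_extClass (i : ℕ) (y : Sheaf.H T.X₂ i) :
    (Sheaf.H.map T.g i y).comp hT.extClass rfl = 0 := by
  rw [Sheaf.H.map_apply]
  refine (Ext.comp_assoc_of_second_deg_zero y (Ext.mk₀ T.g) hT.extClass rfl).trans ?_
  rw [hT.comp_extClass, Ext.comp_zero]

end Gen

variable {X : Scheme.{u}} (S : ShortComplex X.Modules) (hS : S.ShortExact)

lemma deltaL_HmapL_g (i : ℕ) (x : Coh.HH X S.X₂ i) : deltaL S hS i (HmapL S.g i x) = 0 := by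
  rw [deltaL_apply, HmapL_apply]
  exact H_map_g_comp_extClass _ (shortExact_toAbF S hS) i x

end Les

variable (k : Type u) [Field k] (n : ℕ)

local notation "PX" => CohB1.ProjSpace n k

/-- the property of being coherent -/
abbrev PC : ObjectProperty (CohB1.ProjSpace n k).Modules :=
  fun M : (CohB1.ProjSpace n k).Modules => Coh.IsCoh M

theorem isCoh_of_iso {M N : (PX).Modules} (e : M ≅ N) (hM : Coh.IsCoh M) : Coh.IsCoh N := by
  have i1 : M.IsQuasicoherent := hM.1
  have i2 : SheafOfModules.IsFiniteType (R := (PX).ringCatSheaf) M := hM.2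
  exact ⟨Groth.Agent.Lib.Helper23.TensorQCoh.isQuasicoherent_of_iso e,
    Groth.Agent.Lib.Helper23.FinType.isFiniteType_of_iso e⟩

theorem isCoh_of_isZero (Z : (PX).Modules) (hZ : IsZero Z) : Coh.IsCoh Z := by
  obtain ⟨m, d, ⟨e⟩⟩ := isSumOfTwists_of_isZero k n Z hZ
  exact isCoh_of_iso k n e.symm (isCoh_coprod_twist k n d)

theorem isCoh_coprod_const (m : ℤ) (b : ℕ) :
    Coh.IsCoh (∐ fun _ : Fin b => Twist.twistProjSpace n k m) :=
  isCoh_coprod_twist k n (fun _ => m)

/-- the class of `O(d)` -/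
noncomputable def w (d : ℤ) : K0sub (PC k n) := clSub (PC k n) (Twist.twistProjSpace n k d)

theorem clSub_coprod (m : ℤ) (b : ℕ) :
    clSub (PC k n) (∐ fun _ : Fin b => Twist.twistProjSpace n k m) = b • w k n m :=
  clSub_coprod_const (PC k n) (isCoh_of_isZero k n) _ (isCoh_twistSheaf k n m)
    (isCoh_coprod_const k n m) b

/-- the Koszul relation in `K_0` -/
theorem koszul_rel (a : ℤ) :
    ∑ i ∈ Finset.range (n + 1 + 1), (-1 : ℤ) ^ i • (Nat.choose (n + 1) i • w k n (a + i)) = 0 := by
  obtain ⟨C, hex, hX, hzero⟩ := Groth.Agent.Lib.R2H2.PnKoszul.koszul n k a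
  have hP : ∀ i : ℤ, PC k n (C.X i) := by
    intro i
    by_cases hi : i < 0 ∨ (n : ℤ) + 1 < i
    · exact isCoh_of_isZero k n _ (hzero i hi)
    · push Not at hi
      obtain ⟨j, rfl⟩ : ∃ j : ℕ, i = (j : ℤ) := ⟨i.toNat, by omega⟩
      obtain ⟨e⟩ := hX j (by omega)
      exact isCoh_of_iso k n e.symm (isCoh_coprod_const k n _ _)
  have h := alternating_sum_eq_zero (PC k n) (isCoh_of_isZero k n)
    (fun {X Y} f hX hY => isCoh_kernel k n hX hY f) C hex hP (n + 1) (fun i hi => hzero i (by
      rcases hi with hi | hi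
      · exact Or.inl hi
      · exact Or.inr (by push_cast at hi; omega)))
  rw [← h]
  apply Finset.sum_congr rfl
  intro i hi
  rw [Finset.mem_range] at hi
  obtain ⟨e⟩ := hX i (by omega)
  rw [clSub_of_iso (PC k n) (isCoh_of_isZero k n) e (hP i) (isCoh_coprod_const k n _ _),
    clSub_coprod]

/-- the homomorphism `ℤ^{n+1} → K_0` -/
noncomputable def Phi : (Fin (n + 1) → ℤ) →+ K0sub (PC k n) where
  toFun a := ∑ i : Fin (n + 1), a i • w k n (-((i : ℕ) : ℤ))
  map_zero' := by simp
  map_add' a b := by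
    simp only [Pi.add_apply, add_smul, Finset.sum_add_distrib]

theorem w_mem_range_of_le (i : ℕ) (hi : i ≤ n) : w k n (-(i : ℤ)) ∈ (Phi k n).range := by
  refine ⟨(Pi.single (⟨i, by omega⟩ : Fin (n + 1)) (1 : ℤ) : Fin (n + 1) → ℤ), ?_⟩
  change ∑ j : Fin (n + 1),
    ((Pi.single (⟨i, by omega⟩ : Fin (n + 1)) (1 : ℤ) : Fin (n + 1) → ℤ) j) •
      w k n (-((j : ℕ) : ℤ)) = _
  rw [Finset.sum_eq_single (⟨i, by omega⟩ : Fin (n + 1))]
  · rw [Pi.single_eq_same, one_smul]
  · intro j _ hj
    rw [Pi.single_eq_of_ne hj, zero_smul]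
  · intro h
    exact absurd (Finset.mem_univ _) h

theorem w_mem_range_aux : ∀ (N : ℕ) (d : ℤ), -(n : ℤ) - N ≤ d → d ≤ N →
    w k n d ∈ (Phi k n).range := by
  intro N
  induction N with
  | zero =>
    intro d h1 h2
    obtain ⟨i, rfl⟩ : ∃ i : ℕ, d = -(i : ℤ) := ⟨(-d).toNat, by omega⟩
    exact w_mem_range_of_le k n i (by push_cast at h1; omega)
  | succ N ih =>
    intro d h1 h2
    by_cases hA : d = (N : ℤ) + 1
    · -- upward step
      have hrel := koszul_rel k n ((N : ℤ) - n)
      rw [Finset.sum_range_succ] at hrel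
      have hsum : ∑ i ∈ Finset.range (n + 1), (-1 : ℤ) ^ i •
          (Nat.choose (n + 1) i • w k n ((N : ℤ) - n + i)) ∈ (Phi k n).range := by
        apply AddSubgroup.sum_mem
        intro i hi
        rw [Finset.mem_range] at hi
        apply AddSubgroup.zsmul_mem
        apply AddSubgroup.nsmul_mem
        exact ih _ (by omega) (by omega)
      have hlast : (-1 : ℤ) ^ (n + 1) • (Nat.choose (n + 1) (n + 1) •
          w k n ((N : ℤ) - n + ((n + 1 : ℕ) : ℤ))) ∈ (Phi k n).range := by
        rw [eq_neg_of_add_eq_zero_right hrel]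
        exact AddSubgroup.neg_mem _ hsum
      rw [Nat.choose_self, one_smul] at hlast
      have e1 : (N : ℤ) - n + ((n + 1 : ℕ) : ℤ) = d := by push_cast; omega
      rw [e1] at hlast
      have h2' := AddSubgroup.zsmul_mem _ hlast ((-1 : ℤ) ^ (n + 1))
      rw [smul_smul, ← pow_add, ← two_mul, pow_mul, neg_one_sq, one_pow, one_smul] at h2'
      exact h2'
    · by_cases hB : d = -(n : ℤ) - N - 1
      · -- downward step
        have hrel := koszul_rel k n d
        rw [Finset.sum_range_succ'] at hrel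
        have hsum : ∑ i ∈ Finset.range (n + 1), (-1 : ℤ) ^ (i + 1) •
            (Nat.choose (n + 1) (i + 1) • w k n (d + ((i + 1 : ℕ) : ℤ))) ∈ (Phi k n).range := by
          apply AddSubgroup.sum_mem
          intro i hi
          rw [Finset.mem_range] at hi
          apply AddSubgroup.zsmul_mem
          apply AddSubgroup.nsmul_mem
          exact ih _ (by push_cast; omega) (by push_cast; omega)
        have hfirst : (-1 : ℤ) ^ 0 • (Nat.choose (n + 1) 0 • w k n (d + ((0 : ℕ) : ℤ))) ∈
            (Phi k n).range := by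
          rw [eq_neg_of_add_eq_zero_right hrel]
          exact AddSubgroup.neg_mem _ hsum
        rw [pow_zero, one_smul, Nat.choose_zero_right, one_smul] at hfirst
        have e1 : d + ((0 : ℕ) : ℤ) = d := by push_cast; ring
        rw [e1] at hfirst
        exact hfirst
      · exact ih d (by push_cast at h1; omega) (by push_cast at h2; omega)

theorem w_mem_range (d : ℤ) : w k n d ∈ (Phi k n).range :=
  w_mem_range_aux k n d.natAbs d (by omega) (by omega)

/-- the class of every coherent module lies in the range -/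
theorem clSub_mem_range (F : (PX).Modules) (hF : Coh.IsCoh F) :
    clSub (PC k n) F ∈ (Phi k n).range := by
  apply syzygy_induction k n (fun _ G => clSub (PC k n) G ∈ (Phi k n).range) _ _ F hF
  · intro G b m hG ⟨e⟩
    rw [clSub_of_iso (PC k n) (isCoh_of_isZero k n) e hG (isCoh_coprod_const k n _ _),
      clSub_coprod]
    exact AddSubgroup.nsmul_mem _ (w_mem_range k n m) b
  · intro s b m G φ hepφ hG hK hres
    have hS : (ShortComplex.mk (kernel.ι φ) φ (kernel.condition φ)).ShortExact :=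
      { exact := ShortComplex.exact_kernel φ
        mono_f := equalizer.ι_mono
        epi_g := hepφ }
    have h := clSub_shortExact (PC k n) _ hS hK (isCoh_coprod_const k n m b) hG
    change clSub (PC k n) (∐ fun _ : Fin b => Twist.twistProjSpace n k m) =
      clSub (PC k n) (kernel φ) + clSub (PC k n) G at h
    have h2 : clSub (PC k n) G = clSub (PC k n) (∐ fun _ : Fin b => Twist.twistProjSpace n k m) -
        clSub (PC k n) (kernel φ) := by
      rw [h]
      abel
    rw [h2, clSub_coprod]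
    exact AddSubgroup.sub_mem _ (AddSubgroup.nsmul_mem _ (w_mem_range k n m) b) hres

theorem Phi_surjective : Function.Surjective (Phi k n) := by
  intro x
  have h : x ∈ (Phi k n).range :=
    K0sub_induction (PC k n) (Phi k n).range (fun X hX => clSub_mem_range k n X hX) x
  exact h

/-- the Euler characteristic of `G(t)` -/
noncomputable def chi (t : ℤ) (G : (PX).Modules) : ℤ :=
  ∑ q ∈ Finset.range (n + 1),
    (-1 : ℤ) ^ q * (Module.finrank k (Coh.HH PX ((Tw n k t).obj G) q) : ℤ)

/-- additivity of the Euler characteristic -/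
theorem chi_shortExact (t : ℤ) (S : ShortComplex (PX).Modules) (hS : S.ShortExact)
    (h₁ : Coh.IsCoh S.X₁) (h₂ : Coh.IsCoh S.X₂) (h₃ : Coh.IsCoh S.X₃) :
    chi k n t S.X₂ = chi k n t S.X₁ + chi k n t S.X₃ := by
  let S' : ShortComplex (PX).Modules := S.map (Tw n k t)
  have hS' : S'.ShortExact := shortExact_map_twR _ (isInv n k t) S hS
  have c₁ : Coh.IsCoh S'.X₁ := isCoh_twist k n _ h₁ t
  have c₂ : Coh.IsCoh S'.X₂ := isCoh_twist k n _ h₂ t
  have c₃ : Coh.IsCoh S'.X₃ := isCoh_twist k n _ h₃ t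
  haveI f₁ : ∀ i, Module.Finite k (Coh.HH PX S'.X₁ i) := fun i =>
    Groth.Agent.Lib.R2H2.PnFinite.finite_HH n k _ c₁ i
  haveI f₂ : ∀ i, Module.Finite k (Coh.HH PX S'.X₂ i) := fun i =>
    Groth.Agent.Lib.R2H2.PnFinite.finite_HH n k _ c₂ i
  haveI f₃ : ∀ i, Module.Finite k (Coh.HH PX S'.X₃ i) := fun i =>
    Groth.Agent.Lib.R2H2.PnFinite.finite_HH n k _ c₃ i
  have hmono : Mono S'.f := hS'.mono_f
  have hq : Coh.IsQCoh S'.X₁ := c₁.1
  have hd : Subsingleton (Coh.HH PX S'.X₁ (n + 1)) :=
    Groth.Agent.S0022.result n k _ (n + 1) (by omega)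
  have e1 : ∀ i, Function.Exact (HmapA k S'.f i) (HmapA k S'.g i) := fun i y =>
    ⟨fun hy => exact₂ S' hS' i y hy, by
      rintro ⟨a, rfl⟩
      exact HmapL_g_f S' i a⟩
  have e2 : ∀ i, Function.Exact (HmapA k S'.g i) (deltaA k S' hS' i) := fun i y =>
    ⟨fun hy => exact₃ S' hS' i y hy, by
      rintro ⟨a, rfl⟩
      exact deltaL_HmapL_g S' hS' i a⟩
  have e3 : ∀ i, Function.Exact (deltaA k S' hS' i) (HmapA k S'.f (i + 1)) := fun i y =>
    ⟨fun hy => exact₁ S' hS' i y hy, by
      rintro ⟨a, rfl⟩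
      exact HmapL_f_deltaL S' hS' i a⟩
  exact les_euler_finrank (k := k) (fun i => Coh.HH PX S'.X₁ i) (fun i => Coh.HH PX S'.X₂ i)
    (fun i => Coh.HH PX S'.X₃ i) (fun i => HmapA k S'.f i) (fun i => HmapA k S'.g i)
    (fun i => deltaA k S' hS' i) (injective_HmapL_zero S'.f) e1 e2 e3 n hd

theorem chi_twist_of_neg (t d : ℤ) (h1 : -(n : ℤ) ≤ d + t) (h2 : d + t ≤ -1) :
    chi k n t (Twist.twistProjSpace n k d) = 0 := by
  unfold chi
  apply Finset.sum_eq_zero
  intro q hq
  rw [Finset.mem_range] at hq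
  obtain ⟨e⟩ := Groth.Agent.Lib.R2Lead.KRR.nonempty_twistProjSpace_tensor_iso n k d t
  have h3 : Subsingleton (Coh.HH PX (Twist.twistProjSpace n k (d + t)) q) :=
    Groth.Agent.Lib.R2H2.PnTwEquiv.subsingleton_HH_twist n k (d + t) q (by omega) (by omega)
  have h4 : Subsingleton (Coh.HH PX ((Tw n k t).obj (Twist.twistProjSpace n k d)) q) :=
    subsingleton_HH_of_iso e.symm q h3
  rw [Module.finrank_zero_of_subsingleton]
  simp

theorem chi_twist_self (t d : ℤ) (h : d + t = 0) :
    chi k n t (Twist.twistProjSpace n k d) = 1 := by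
  have ht : t = -d := by omega
  subst ht
  unfold chi
  rw [Finset.sum_eq_single 0]
  · rw [pow_zero, one_mul]
    have h1 := gdim_self k n d
    unfold gdim at h1
    rw [h1]
    rfl
  · intro q hq hq0
    rw [Finset.mem_range] at hq
    obtain ⟨e⟩ := Groth.Agent.Lib.R2Lead.KRR.nonempty_twistProjSpace_tensor_iso n k d (-d)
    have h3 : Subsingleton (Coh.HH PX (Twist.twistProjSpace n k (d + -d)) q) :=
      Groth.Agent.Lib.R2H2.PnTwEquiv.subsingleton_HH_twist n k (d + -d) q (by omega) (by omega)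
    have h4 : Subsingleton (Coh.HH PX ((Tw n k (-d)).obj (Twist.twistProjSpace n k d)) q) :=
      subsingleton_HH_of_iso e.symm q h3
    rw [Module.finrank_zero_of_subsingleton]
    simp
  · intro h
    exact absurd (Finset.mem_range.2 (Nat.succ_pos n)) h

theorem Phi_injective : Function.Injective (Phi k n) := by
  rw [injective_iff_map_eq_zero]
  intro c hc
  let ψ : ℤ → (K0sub (PC k n) →+ ℤ) := fun t =>
    liftAdd (PC k n) (chi k n t) (fun S hS h₁ h₂ h₃ => chi_shortExact k n t S hS h₁ h₂ h₃)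
  have hψw : ∀ (t d : ℤ), ψ t (w k n d) = chi k n t (Twist.twistProjSpace n k d) := fun t d =>
    liftAdd_clSub _ _ _ (isCoh_twistSheaf k n d)
  have hsum : ∀ t : ℤ, ∑ i : Fin (n + 1),
      c i * chi k n t (Twist.twistProjSpace n k (-((i : ℕ) : ℤ))) = 0 := by
    intro t
    have h := congrArg (ψ t) hc
    rw [map_zero] at h
    change ψ t (∑ i : Fin (n + 1), c i • w k n (-((i : ℕ) : ℤ))) = 0 at h
    rw [map_sum] at h
    rw [← h]
    apply Finset.sum_congr rfl
    intro i _
    rw [map_zsmul, hψw, smul_eq_mul]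
  have key : ∀ (t : ℕ) (ht : t < n + 1), c ⟨t, ht⟩ = 0 := by
    intro t
    induction t using Nat.strong_induction_on with
    | _ t ih =>
      intro ht
      have h := hsum (t : ℤ)
      rw [Finset.sum_eq_single (⟨t, ht⟩ : Fin (n + 1))] at h
      · have h5 : chi k n (t : ℤ) (Twist.twistProjSpace n k
            (-(((⟨t, ht⟩ : Fin (n + 1)) : ℕ) : ℤ))) = 1 :=
          chi_twist_self k n (t : ℤ) _ (by simp)
        rw [h5, mul_one] at h
        exact h
      · intro i _ hi
        rcases lt_or_gt_of_ne (Fin.val_ne_of_ne hi) with hlt | hgt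
        · have h6 : c i = 0 := ih i hlt i.isLt
          rw [h6, zero_mul]
        · have h7 : chi k n (t : ℤ) (Twist.twistProjSpace n k (-((i : ℕ) : ℤ))) = 0 := by
            apply chi_twist_of_neg
            · have := i.isLt
              omega
            · have h8 : t < (i : ℕ) := hgt
              omega
          rw [h7, mul_zero]
      · intro h
        exact absurd (Finset.mem_univ _) h
  funext i
  exact key i i.isLt

theorem Phi_bijective : Function.Bijective (Phi k n) := ⟨Phi_injective k n, Phi_surjective k n⟩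

end Groth.Agent.Lib.R2H2.PnK0
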