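import Groth.Agent.Lib.R2H2PnHom
import Groth.Agent.Lib.R2H2PnBridge
import Groth.Agent.Lib.R2H2LinKer
import Groth.Agent.Lib.R2H2PnEulerSeq
import Groth.Agent.Lib.Helper23FinTypeLocal
import Groth.Agent.Lib.Helper23QCohSum
import Groth.Agent.Lib.Helper27GrTildeQCoh


/-!
# Linear forms on `P^n`: morphisms `O(p)^N ⟶ O(p+1)` (helper2, round 2)

Namespace `Groth.Agent.Lib.R2H2.PnLinForms`.

* `svH` (additive value map of sections of `O(a)`), `svH_mulP`, `hom_ext_sv`, `sum_app`;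
* `scal p r : O(p) ⟶ O(p)` (multiplication by the constant `r`), `scalS p : LinKer.Scal R (O(p))`;
* `mulP_eq_sum` (`mulP (∑ C r_i * Q_i) = ∑ scal r_i ≫ mulP Q_i`), `exists_coeffs` (degree-one forms);
* `not_epi_of_mem`: linear forms vanishing at a point of `P^n_R` do not generate `O(p+1)`;
* `evG v`, `pt v c₀ hv` (the `k`-point with coordinates `v`), `eq_zero_of_epi`;
* `nonempty_kernel_iso_of_epi`: on `P^n_k`, for an epimorphism `ℓ : O(-1)^N ⟶ O` (Koszul normalisation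
  `(KP n k).G n ⟶ (KP n k).G (n+1)`), `ker ℓ ≅ ker (eulK n k) ⊞ O(-1)^d` with `n + 1 + d = N`.
-/

set_option backward.isDefEq.respectTransparency.types false
set_option autoImplicit false
universe u

namespace Groth.Agent.Lib.R2H2.PnLinForms

open MvPolynomial CategoryTheory CategoryTheory.Limits AlgebraicGeometry TopologicalSpace Opposite
open Groth.Agent.Lib.R2H2.PnMul Groth.Agent.Lib.R2H2.PnMinorSec Groth.Agent.Lib.R2H2.PnBridge

variable (n : ℕ) (R : Type u) [CommRing R]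

local notation "𝒢" => CohB1.polyGrading n R
local notation "AA" => MvPolynomial (Fin (n + 1)) R
local notation "TT" => GrTilde.tilde (CohB1.polyGrading n R) (CohB1.polyGrading n R)

variable {n R}

/-- additive version of the value map -/
noncomputable def svH (a : ℤ) (W : (Proj 𝒢).Opens) (y : ProjectiveSpectrum 𝒢) (hy : y ∈ W) :
    Γ(TT a, W) →+ Twist.Loc 𝒢 y := Groth.Agent.Lib.R2H2.PnMinorSec.sv n R a W y hy

lemma svH_apply (a : ℤ) (W : (Proj 𝒢).Opens) (y : ProjectiveSpectrum 𝒢) (hy : y ∈ W) (s : Γ(TT a, W)) :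
    svH a W y hy s = Groth.Agent.Lib.R2H2.PnHom.sv a W s y hy := rfl

lemma svH_mulP {k : ℕ} {P : AA} (hP : P ∈ 𝒢 k) {p q : ℤ} (h : p + k = q)
    (W : (Proj 𝒢).Opens) (s : Γ(TT p, W)) (y : ProjectiveSpectrum 𝒢) (hy : y ∈ W) :
    svH q W y hy ((mulP 𝒢 𝒢 hP h).app W s) =
      Localization.mk P (1 : y.asHomogeneousIdeal.toIdeal.primeCompl) * svH p W y hy s := rfl

lemma hom_ext_sv {p q : ℤ} (φ ψ : TT p ⟶ TT q)
    (h : ∀ (W : (Proj 𝒢).Opens) (s : Γ(TT p, W)) (y : ProjectiveSpectrum 𝒢)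
      (hy : y ∈ W), svH q W y hy (φ.app W s) = svH q W y hy (ψ.app W s)) : φ = ψ := by
  apply Scheme.Modules.hom_ext
  intro W
  ext s
  exact Groth.Agent.Lib.R2H2.PnHom.sv_ext q W _ _ (fun y hy => h W s y hy)

lemma sum_app {Y : Scheme.{u}} {M N : Y.Modules} {ι : Type*} (t : Finset ι) (f : ι → (M ⟶ N))
    (W : Y.Opens) (s : Γ(M, W)) :
    (∑ i ∈ t, f i).app W s = ∑ i ∈ t, (f i).app W s := by
  have h := map_sum (appHom M N W) f t
  have h2 := congrArg (fun g : Γ(M, W) →+ Γ(N, W) => g s) h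
  simp only [AddMonoidHom.finsetSum_apply] at h2
  exact h2

/-- scalar multiplication on `O(p)` as multiplication by a constant polynomial -/
noncomputable def scal (p : ℤ) (r : R) : TT p ⟶ TT p :=
  mulP 𝒢 𝒢 (MvPolynomial.isHomogeneous_C (Fin (n + 1)) r : (C r : AA) ∈ 𝒢 0)
    (by simp : p + ((0 : ℕ) : ℤ) = p)

lemma svH_scal (p : ℤ) (r : R) (W : (Proj 𝒢).Opens) (s : Γ(TT p, W))
    (y : ProjectiveSpectrum 𝒢) (hy : y ∈ W) :
    svH p W y hy ((scal p r).app W s) =
      Localization.mk (C r : AA) (1 : y.asHomogeneousIdeal.toIdeal.primeCompl) * svH p W y hy s :=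
  rfl

/-- the scalar structure on `O(p)` -/
noncomputable def scalS (p : ℤ) : Groth.Agent.Lib.R2H2.LinKer.Scal R (TT p) where
  ρ :=
    { toFun := scal p
      map_zero' := by
        apply hom_ext_sv
        intro W s y hy
        rw [svH_scal, C_0, Localization.mk_zero, zero_mul]
        exact (map_zero _).symm
      map_add' := fun a b => by
        apply hom_ext_sv
        intro W s y hy
        have h1 : (scal p a + scal p b).app W s = (scal p a).app W s + (scal p b).app W s := rfl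
        rw [h1, map_add, svH_scal, svH_scal, svH_scal, C_add, ← Localization.add_mk_self, add_mul] }
  one := by
    apply hom_ext_sv
    intro W s y hy
    change svH p W y hy ((scal p 1).app W s) = svH p W y hy s
    rw [svH_scal, C_1, Localization.mk_one, one_mul]
  mul := fun a b => by
    apply hom_ext_sv
    intro W s y hy
    change svH p W y hy ((scal p (a * b)).app W s) =
      svH p W y hy ((scal p b).app W ((scal p a).app W s))
    rw [svH_scal, svH_scal, svH_scal, C_mul, ← mul_assoc, Localization.mk_mul, one_mul, mul_comm (C b)]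

lemma mulP_eq_sum {ι : Type*} (t : Finset ι) {k : ℕ} {P : AA} (hP : P ∈ 𝒢 k) (Q : ι → AA)
    (hQ : ∀ i, Q i ∈ 𝒢 k) (r : ι → R) (hPQ : P = ∑ i ∈ t, C (r i) * Q i) {p q : ℤ} (h : p + k = q) :
    (mulP 𝒢 𝒢 hP h : TT p ⟶ TT q) =
      ∑ i ∈ t, (scal p (r i) ≫ (mulP 𝒢 𝒢 (hQ i) h : TT p ⟶ TT q)) := by
  apply hom_ext_sv
  intro W s y hy
  rw [sum_app, map_sum, svH_mulP]
  have h1 : ∀ i, svH q W y hy ((scal p (r i) ≫ (mulP 𝒢 𝒢 (hQ i) h : TT p ⟶ TT q)).app W s) =
      Localization.mk (Q i) (1 : y.asHomogeneousIdeal.toIdeal.primeCompl) *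
        (Localization.mk (C (r i) : AA) (1 : y.asHomogeneousIdeal.toIdeal.primeCompl) *
          svH p W y hy s) := fun i => rfl
  simp_rw [h1]
  rw [hPQ]
  simp_rw [Localization.mk_one_eq_algebraMap]
  rw [map_sum, Finset.sum_mul]
  refine Finset.sum_congr rfl fun i _ => ?_
  rw [map_mul]
  ring

lemma exists_coeffs {P : AA} (hP : P ∈ 𝒢 1) : ∃ a : Fin (n + 1) → R, P = ∑ c, C (a c) * X c := by
  have h1 : P ∈ homogeneousSubmodule (Fin (n + 1)) R 1 := hP
  rw [homogeneousSubmodule_one_eq_span_X] at h1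
  obtain ⟨a, ha⟩ := (Submodule.mem_span_range_iff_exists_fun R).mp h1
  refine ⟨a, ?_⟩
  rw [← ha]
  refine Finset.sum_congr rfl fun c _ => ?_
  rw [smul_eq_C_mul]

section Point

/-- a morphism `O(p)^N ⟶ O(p+1)` whose components all vanish at a point is not an epimorphism -/
theorem not_epi_of_mem {N : ℕ} {p q : ℤ} (h : p + ((1 : ℕ) : ℤ) = q) (P : Fin N → AA)
    (hP : ∀ j, P j ∈ 𝒢 1) (y : ProjectiveSpectrum 𝒢) (hy : ∀ j, P j ∈ y.asHomogeneousIdeal) :
    ¬ Epi (biproduct.desc fun j => (mulP 𝒢 𝒢 (hP j) h : TT p ⟶ TT q)) := by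
  intro hepi
  obtain ⟨c₀, hc₀⟩ := Groth.Agent.Lib.Helper27PnSections.exists_X_not_mem n R y
  let W : (Proj 𝒢).Opens := Groth.Agent.Lib.R2H2.PnHom.Wi n R c₀
  have hW : IsAffineOpen W :=
    Proj.isAffineOpen_basicOpen 𝒢 (X c₀ : AA) (Groth.Agent.Lib.Helper27PnChart.X_mem_one n R c₀)
      zero_lt_one
  have hyW : y ∈ W := Groth.Agent.Lib.R2H2.PnHom.mem_Wi hc₀
  let s₀ : Γ(TT p, W) := Groth.Agent.Lib.R2H2.PnHom.uSec n R c₀ p W le_rfl
  let s₁ : Γ(TT q, W) :=
    (mulP 𝒢 𝒢 (Groth.Agent.Lib.Helper27PnChart.X_mem_one n R c₀) h).app W s₀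
  haveI : (TT q).IsQuasicoherent :=
    Groth.Agent.Lib.Helper27GrTildeSect.isQuasicoherent_tilde 𝒢 𝒢 q
  haveI : (⨁ fun _ : Fin N => TT p).IsQuasicoherent :=
    Groth.Agent.Lib.Helper23.QCohLocal.isQuasicoherent_biproduct _
      (fun _ => Groth.Agent.Lib.Helper27GrTildeSect.isQuasicoherent_tilde 𝒢 𝒢 p)
  obtain ⟨t, ht⟩ := Groth.Agent.Lib.Helper23.FinType.surjective_app_of_epi
    (biproduct.desc fun j => (mulP 𝒢 𝒢 (hP j) h : TT p ⟶ TT q)) hW s₁
  rw [biproduct.desc_eq, sum_app] at ht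
  have h2 := congrArg (svH q W y hyW) ht
  rw [map_sum] at h2
  have h3 : ∀ j, svH q W y hyW
      ((biproduct.π (fun _ : Fin N => TT p) j ≫ (mulP 𝒢 𝒢 (hP j) h : TT p ⟶ TT q)).app W t) =
      Localization.mk (P j) (1 : y.asHomogeneousIdeal.toIdeal.primeCompl) *
        svH p W y hyW ((biproduct.π (fun _ : Fin N => TT p) j).app W t) := fun j => rfl
  simp_rw [h3] at h2
  have h4 : svH q W y hyW s₁ =
      Localization.mk (X c₀ : AA) (1 : y.asHomogeneousIdeal.toIdeal.primeCompl) *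
        Groth.Agent.Lib.R2H2.PnHom.uVal n R c₀ p y hc₀ := rfl
  rw [h4] at h2
  -- the left side lies in the maximal ideal, the right side is a unit
  have hmem : (∑ j, Localization.mk (P j) (1 : y.asHomogeneousIdeal.toIdeal.primeCompl) *
      svH p W y hyW ((biproduct.π (fun _ : Fin N => TT p) j).app W t)) ∈
      IsLocalRing.maximalIdeal (Twist.Loc 𝒢 y) := by
    refine Ideal.sum_mem _ fun j _ => Ideal.mul_mem_right _ _ ?_
    rw [Localization.mk_one_eq_algebraMap]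
    exact (IsLocalization.AtPrime.to_map_mem_maximal_iff (Twist.Loc 𝒢 y)
      y.asHomogeneousIdeal.toIdeal (P j)).2 (hy j)
  rw [h2] at hmem
  have hunit : IsUnit (Localization.mk (X c₀ : AA) (1 : y.asHomogeneousIdeal.toIdeal.primeCompl) *
      Groth.Agent.Lib.R2H2.PnHom.uVal n R c₀ p y hc₀) := by
    refine IsUnit.mul ?_ ?_
    · rw [Localization.mk_one_eq_algebraMap]
      exact IsLocalization.map_units (Twist.Loc 𝒢 y)
        (⟨X c₀, hc₀⟩ : y.asHomogeneousIdeal.toIdeal.primeCompl)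
    · exact IsUnit.of_mul_eq_one _ ((mul_comm _ _).trans
        (Groth.Agent.Lib.R2H2.PnHom.uInv_mul_uVal n R c₀ p y hc₀))
  exact (IsLocalRing.mem_maximalIdeal _).1 hmem hunit

end Point

section Field

variable {n : ℕ} {k : Type u} [Field k]

local notation "𝒦" => CohB1.polyGrading n k
local notation "AK" => MvPolynomial (Fin (n + 1)) k
local notation "TK" => GrTilde.tilde (CohB1.polyGrading n k) (CohB1.polyGrading n k)

/-- the graded evaluation `x_c ↦ v_c T` -/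
noncomputable def evG (v : Fin (n + 1) → k) :
    GradedRingHom (CohB1.polyGrading n k) (CohB1.polyGrading 0 k) where
  toRingHom := (aeval (fun c => (C (v c) * X 0 : MvPolynomial (Fin (0 + 1)) k)) :
    MvPolynomial (Fin (n + 1)) k →ₐ[k] MvPolynomial (Fin (0 + 1)) k).toRingHom
  map_mem := by
    intro i x hx
    have h1 : x.IsHomogeneous i := hx
    have h2 := h1.aeval (fun c => (C (v c) * X 0 : MvPolynomial (Fin (0 + 1)) k))
      (n := 1) (fun c => (isHomogeneous_X k (0 : Fin (0 + 1))).C_mul (v c))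
    rw [one_mul] at h2
    exact h2

lemma evG_apply (v : Fin (n + 1) → k) (P : MvPolynomial (Fin (n + 1)) k) :
    evG v P = aeval (fun c => (C (v c) * X 0 : MvPolynomial (Fin (0 + 1)) k)) P := rfl

/-- the point of `P^n_k` with homogeneous coordinates `v`, `v c₀ ≠ 0` -/
noncomputable def pt (v : Fin (n + 1) → k) (c₀ : Fin (n + 1)) (hv : v c₀ ≠ 0) :
    ProjectiveSpectrum (CohB1.polyGrading n k) where
  asHomogeneousIdeal := (⊥ : HomogeneousIdeal (CohB1.polyGrading 0 k)).comap (evG v)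
  isPrime := by
    haveI : (⊥ : HomogeneousIdeal (CohB1.polyGrading 0 k)).toIdeal.IsPrime := by
      rw [HomogeneousIdeal.toIdeal_bot]
      exact Ideal.isPrime_bot
    exact HomogeneousIdeal.isPrime_comap (evG v)
  not_irrelevant_le := by
    intro hle
    have h1 : (X c₀ : MvPolynomial (Fin (n + 1)) k) ∈
        HomogeneousIdeal.irrelevant (CohB1.polyGrading n k) :=
      HomogeneousIdeal.mem_irrelevant_of_mem _ zero_lt_one (isHomogeneous_X k c₀)
    have h2 := hle h1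
    have h3 : evG v (X c₀) = 0 := by
      have : evG v (X c₀) ∈ (⊥ : HomogeneousIdeal (CohB1.polyGrading 0 k)) := h2
      exact (Submodule.mem_bot _).1 this
    rw [evG_apply, aeval_X] at h3
    have h4 := congrArg (coeff (Finsupp.single (0 : Fin (0 + 1)) 1)) h3
    rw [coeff_C_mul, coeff_X, if_pos rfl, mul_one, coeff_zero] at h4
    exact hv h4

lemma mem_pt (v : Fin (n + 1) → k) (c₀ : Fin (n + 1)) (hv : v c₀ ≠ 0)
    (P : MvPolynomial (Fin (n + 1)) k) (hP : evG v P = 0) : P ∈ (pt v c₀ hv).asHomogeneousIdeal := by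
  change evG v P ∈ (⊥ : HomogeneousIdeal (CohB1.polyGrading 0 k))
  rw [hP]
  exact Submodule.zero_mem _

lemma evG_lin (v : Fin (n + 1) → k) (a : Fin (n + 1) → k) (h : ∑ c, a c * v c = 0) :
    evG v (∑ c, C (a c) * X c) = 0 := by
  rw [evG_apply, map_sum]
  have h1 : ∀ c, aeval (fun c => (C (v c) * X 0 : MvPolynomial (Fin (0 + 1)) k))
      (C (a c) * X c : MvPolynomial (Fin (n + 1)) k) = C (a c * v c) * X 0 := by
    intro c
    rw [map_mul, aeval_C, aeval_X, C_mul, mul_assoc]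
    rfl
  simp_rw [h1]
  rw [← Finset.sum_mul, ← map_sum, h, C_0, zero_mul]


/-- linear forms cutting out no point of `P^n_k` have an injective coefficient matrix -/
theorem eq_zero_of_epi {N : ℕ} {p q : ℤ} (h : p + ((1 : ℕ) : ℤ) = q) (M : Fin N → Fin (n + 1) → k)
    (P : Fin N → AK) (hP : ∀ j, P j ∈ 𝒦 1) (hPM : ∀ j, P j = ∑ c, C (M j c) * X c)
    (hepi : Epi (biproduct.desc fun j => (mulP 𝒦 𝒦 (hP j) h : TK p ⟶ TK q)))
    (v : Fin (n + 1) → k) (hv : ∀ j, ∑ c, M j c * v c = 0) : v = 0 := by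
  by_contra hne
  obtain ⟨c₀, hc₀⟩ : ∃ c₀, v c₀ ≠ 0 := by
    by_contra hall
    push Not at hall
    exact hne (funext hall)
  exact not_epi_of_mem h P hP (pt v c₀ hc₀)
    (fun j => mem_pt v c₀ hc₀ _ (by rw [hPM j]; exact evG_lin v (M j) (hv j))) hepi

open Groth.Agent.Lib.R2H2.KoszulSheaf Groth.Agent.Lib.R2H2.PnEulerSeq in
/-- **the kernel of an epimorphism `O(-1)^N ⟶ O` on `P^n_k`** is `Ω ⊕ O(-1)^{N-n-1}` (in the Koszul normalisation
of the twists) -/
theorem nonempty_kernel_iso_of_epi (N : ℕ) (ℓ : Fin N → ((KP n k).G n ⟶ (KP n k).G (n + 1)))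
    (hepi : Epi (biproduct.desc ℓ)) :
    ∃ d : ℕ, n + 1 + d = N ∧ Nonempty (kernel (biproduct.desc ℓ) ≅
      kernel (eulK n k) ⊞ ⨁ fun _ : Fin d => (KP n k).G n) := by
  have hP : ∀ j, ∃ (P : AK) (hP : P ∈ 𝒦 1), ℓ j = mulP 𝒦 𝒦 hP (hidx (-((n : ℤ) + 1)) n) := fun j =>
    Groth.Agent.Lib.R2H2.PnHom.exists_eq_mulP (ℓ j) 1 (hidx (-((n : ℤ) + 1)) n)
  choose P hP hℓ using hP
  have hM : ∀ j, ∃ a : Fin (n + 1) → k, P j = ∑ c, C (a c) * X c := fun j => exists_coeffs (hP j)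
  choose M hM using hM
  have hepi' : Epi (biproduct.desc fun j =>
      (mulP 𝒦 𝒦 (hP j) (hidx (-((n : ℤ) + 1)) n) :
        TK (-((n : ℤ) + 1) + n) ⟶ TK (-((n : ℤ) + 1) + (n + 1 : ℕ)))) := by
    have h1 : ℓ = fun j => mulP 𝒦 𝒦 (hP j) (hidx (-((n : ℤ) + 1)) n) := funext hℓ
    rw [h1] at hepi
    exact hepi
  obtain ⟨d, Pm, Qm, hd, hPQ, hQP, hPM⟩ := Groth.Agent.Lib.R2H2.LinKer.exists_completion
    (Matrix.of M) (fun v hv => eq_zero_of_epi _ M P hP hM hepi' v hv)
  refine ⟨d, by omega, ?_⟩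
  exact Groth.Agent.Lib.R2H2.LinKer.nonempty_kernel_iso (scalS (-((n : ℤ) + 1) + n)) ℓ
    (fun c => (KP n k).X c n) Pm Qm hPQ hQP (fun j => by
      rw [hℓ j, mulP_eq_sum Finset.univ (hP j) (fun c => X c)
        (fun c => Groth.Agent.Lib.Helper27PnChart.X_mem_one n k c) (M j) (hM j)]
      refine Finset.sum_congr rfl fun c _ => ?_
      rw [hPM]
      rfl)

end Field

end Groth.Agent.Lib.R2H2.PnLinForms
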