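import Groth.Agent.Lib.R2H2PnLinForms
import Groth.Agent.Lib.Helper23PB
import Groth.Agent.Lib.R2LeadKRR
import Groth.Agent.Lib.R2H4TensorPows
import Groth.Agent.Lib.Helper1Sky4
import Groth.Agent.Lib.R2H2PullLF
import Groth.Agent.Lib.R2H2ProjOverPush
import Groth.Agent.S9705


/-!
# Restriction of `Ω_{P^n}` to a linear subspace (helper2, round 2)

Namespace `Groth.Agent.Lib.R2H2.PnLinRestr`.  For ANY morphism `i : P^m_k ⟶ P^n_k` with `i^*O(1) ≅ O(1)`:

* `invUniq` (tensor inverses are unique), `nonempty_pullback_neg_one_iso : i^*O(-1) ≅ O(-1)`,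
  `nonempty_pullback_zero_iso : i^*O(0) ≅ O(0)`;
* `eulerSC k n` (Euler short exact sequence), `pullback_shortExact`, `nonempty_pullback_kernel_iso`;
* `exists_forms`: the pulled back Euler map is a family of `n+1` linear forms on `P^m`;
* `nonempty_pullback_omega_iso : ∃ d, m + d = n ∧ i^*Ω_{P^n} ≅ Ω_{P^m} ⊞ ⨁_{Fin d} O(-1)`.
-/

set_option backward.isDefEq.respectTransparency.types false
set_option autoImplicit false
universe u

namespace Groth.Agent.Lib.R2H2.PnLinRestr

open CategoryTheory CategoryTheory.Limits AlgebraicGeometry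
open Groth.Agent.Lib.R2H2.PnBridge Groth.Agent.Lib.R2H2.PnEulerSeq Groth.Agent.Lib.R2H4TensorPows

section Inv

variable {X : Scheme.{u}}

/-- tensor inverses are unique -/
noncomputable def invUniq {M M' L : X.Modules} (e : CohB1.tensorMod M L ≅ Coh.structureModule X)
    (e' : CohB1.tensorMod M' L ≅ Coh.structureModule X) : M ≅ M' :=
  (rUnit M).symm ≪≫ tIso (Iso.refl M) e'.symm ≪≫ tIso (Iso.refl M) (tComm M' L) ≪≫
    (tAssoc M L M').symm ≪≫ tIso e (Iso.refl M') ≪≫ lUnit M'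

end Inv

section Twists

variable (k : Type u) [Field k] (m n : ℕ) (i : CohB1.ProjSpace m k ⟶ CohB1.ProjSpace n k)
  (hO : Nonempty ((Scheme.Modules.pullback i).obj (Twist.twistProjSpace n k 1) ≅
    Twist.twistProjSpace m k 1))

theorem nonempty_pullback_twist_tensor_iso (a b : ℤ) :
    Nonempty (CohB1.tensorMod ((Scheme.Modules.pullback i).obj (Twist.twistProjSpace n k a))
        ((Scheme.Modules.pullback i).obj (Twist.twistProjSpace n k b)) ≅
      (Scheme.Modules.pullback i).obj (Twist.twistProjSpace n k (a + b))) := by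
  have ha := Groth.Agent.Lib.R2Lead.KRR.isInvertible_twistProjSpace n k a
  have hb := Groth.Agent.Lib.R2Lead.KRR.isInvertible_twistProjSpace n k b
  obtain ⟨e⟩ := Groth.Agent.Lib.Helper23.PB.nonempty_pullback_tensorMod_iso i _ _ ha hb
  obtain ⟨ε₀⟩ := Groth.Agent.Lib.R2Lead.KRR.nonempty_twistProjSpace_tensor_iso n k a b
  exact ⟨e.symm ≪≫ (Scheme.Modules.pullback i).mapIso ε₀⟩

theorem nonempty_pullback_twist_zero_iso :
    Nonempty ((Scheme.Modules.pullback i).obj (Twist.twistProjSpace n k 0) ≅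
      Coh.structureModule (CohB1.ProjSpace m k)) := by
  obtain ⟨ε₁⟩ := Groth.Agent.Lib.R2Lead.KRR.nonempty_twistProjSpace_zero_iso n k
  exact ⟨(Scheme.Modules.pullback i).mapIso ε₁ ≪≫ Groth.Agent.Lib.Helper23.PB.pullbackUnitIso i⟩

include hO in
theorem nonempty_pullback_neg_one_iso :
    Nonempty ((Scheme.Modules.pullback i).obj (Twist.twistProjSpace n k (-1)) ≅
      Twist.twistProjSpace m k (-1)) := by
  obtain ⟨θ⟩ := hO
  obtain ⟨e0⟩ := nonempty_pullback_twist_tensor_iso k m n i (-1) 1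
  obtain ⟨z0⟩ := nonempty_pullback_twist_zero_iso k m n i
  have e1 : CohB1.tensorMod ((Scheme.Modules.pullback i).obj (Twist.twistProjSpace n k (-1)))
      ((Scheme.Modules.pullback i).obj (Twist.twistProjSpace n k 1)) ≅
      Coh.structureModule (CohB1.ProjSpace m k) :=
    e0 ≪≫ eqToIso (by norm_num) ≪≫ z0
  obtain ⟨e2⟩ := Groth.Agent.Lib.R2Lead.KRR.nonempty_twistProjSpace_tensor_iso m k (-1) 1
  obtain ⟨z⟩ := Groth.Agent.Lib.R2Lead.KRR.nonempty_twistProjSpace_zero_iso m k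
  have e2' : CohB1.tensorMod (Twist.twistProjSpace m k (-1)) (Twist.twistProjSpace m k 1) ≅
      Coh.structureModule (CohB1.ProjSpace m k) :=
    e2 ≪≫ eqToIso (by norm_num) ≪≫ z
  exact ⟨invUniq ((tIso (Iso.refl _) θ.symm) ≪≫ e1) e2'⟩

theorem nonempty_pullback_zero_iso :
    Nonempty ((Scheme.Modules.pullback i).obj (Twist.twistProjSpace n k 0) ≅
      Twist.twistProjSpace m k 0) := by
  obtain ⟨e1⟩ := nonempty_pullback_twist_zero_iso k m n i
  obtain ⟨z⟩ := Groth.Agent.Lib.R2Lead.KRR.nonempty_twistProjSpace_zero_iso m k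
  exact ⟨e1 ≪≫ z.symm⟩

end Twists

section Main

variable (k : Type u) [Field k]

lemma hGT₁ (n : ℕ) : (KP n k).G n = Twist.twistProjSpace n k (-1) :=
  (hG₁ n k).trans (Groth.Agent.Lib.R2H2.PnDual.twist_eq k n (-1)).symm

lemma hGT₂ (n : ℕ) : (KP n k).G (n + 1) = Twist.twistProjSpace n k 0 :=
  (hG₂ n k).trans (Groth.Agent.Lib.R2H2.PnDual.twist_eq k n 0).symm

variable (m n : ℕ) (i : CohB1.ProjSpace m k ⟶ CohB1.ProjSpace n k)
  (hO : Nonempty ((Scheme.Modules.pullback i).obj (Twist.twistProjSpace n k 1) ≅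
    Twist.twistProjSpace m k 1))

/-- the Euler sequence on `P^n_k` -/
noncomputable def eulerSC : ShortComplex (CohB1.ProjSpace n k).Modules :=
  ShortComplex.mk (kernel.ι (eulK n k)) (eulK n k) (kernel.condition _)

lemma eulerSC_shortExact : (eulerSC k n).ShortExact :=
  { exact := ShortComplex.exact_kernel _
    mono_f := inferInstanceAs (Mono (kernel.ι (eulK n k)))
    epi_g := epi_eulK n k }

lemma isFlat_G_top : FlatMod.IsFlat ((KP n k).G (n + 1)) := by
  rw [hGT₂]
  exact Groth.Agent.Lib.R2H2.PullLF.isFlat_of_isFinLocFree _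
    (Groth.Agent.Lib.R2H2.ProjOverPush.isFinLocFree_of_isInvertible
      (Groth.Agent.Lib.R2Lead.KRR.isInvertible_twistProjSpace n k 0))

lemma pullback_shortExact :
    ((eulerSC k n).map (Scheme.Modules.pullback i)).ShortExact :=
  Groth.Agent.Lib.Helper1.Sky.shortExact_map_pullback i (eulerSC k n) (eulerSC_shortExact k n)
    (isFlat_G_top k n)

/-- the pullback of the kernel of the Euler map is the kernel of the pullback -/
theorem nonempty_pullback_kernel_iso :
    Nonempty ((Scheme.Modules.pullback i).obj (kernel (eulK n k)) ≅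
      kernel ((Scheme.Modules.pullback i).map (eulK n k))) := by
  have hS := pullback_shortExact k m n i
  exact ⟨IsLimit.conePointUniqueUpToIso hS.fIsKernel
    (limit.isLimit (parallelPair ((Scheme.Modules.pullback i).map (eulK n k)) 0))⟩

include hO in
/-- the pulled back Euler map is a family of linear forms -/
theorem exists_forms :
    ∃ ℓ : Fin (n + 1) → ((KP m k).G m ⟶ (KP m k).G (m + 1)), Epi (biproduct.desc ℓ) ∧
      Nonempty (kernel ((Scheme.Modules.pullback i).map (eulK n k)) ≅ kernel (biproduct.desc ℓ)) := by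
  obtain ⟨t₁⟩ := nonempty_pullback_neg_one_iso k m n i hO
  obtain ⟨t₀⟩ := nonempty_pullback_zero_iso k m n i
  let θ₁ : (Scheme.Modules.pullback i).obj ((KP n k).G n) ≅ (KP m k).G m :=
    (Scheme.Modules.pullback i).mapIso (eqToIso (hGT₁ k n)) ≪≫ t₁ ≪≫ (eqToIso (hGT₁ k m)).symm
  let θ₀ : (Scheme.Modules.pullback i).obj ((KP n k).G (n + 1)) ≅ (KP m k).G (m + 1) :=
    (Scheme.Modules.pullback i).mapIso (eqToIso (hGT₂ k n)) ≪≫ t₀ ≪≫ (eqToIso (hGT₂ k m)).symm
  let ℓ : Fin (n + 1) → ((KP m k).G m ⟶ (KP m k).G (m + 1)) := fun l =>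
    θ₁.inv ≫ (Scheme.Modules.pullback i).map ((KP n k).X l n) ≫ θ₀.hom
  let p : (Scheme.Modules.pullback i).obj (⨁ fun _ : Fin (n + 1) => (KP n k).G n) ≅
      ⨁ fun _ : Fin (n + 1) => (KP m k).G m :=
    (Scheme.Modules.pullback i).mapBiproduct (fun _ : Fin (n + 1) => (KP n k).G n) ≪≫
      biproduct.mapIso (fun _ => θ₁)
  have w : (Scheme.Modules.pullback i).map (eulK n k) ≫ θ₀.hom = p.hom ≫ biproduct.desc ℓ := by
    have h1 : (Scheme.Modules.pullback i).map (eulK n k) =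
        ((Scheme.Modules.pullback i).mapBiproduct (fun _ : Fin (n + 1) => (KP n k).G n)).hom ≫
          biproduct.desc fun l => (Scheme.Modules.pullback i).map ((KP n k).X l n) :=
      (biproduct.mapBiproduct_hom_desc (Scheme.Modules.pullback i) _ _).symm
    rw [h1, Category.assoc]
    change _ = (_ ≫ _) ≫ _
    rw [Category.assoc]
    congr 1
    refine biproduct.hom_ext' _ _ fun l => ?_
    rw [biproduct.ι_desc_assoc]
    change _ = biproduct.ι _ l ≫ biproduct.map (fun _ => θ₁.hom) ≫ biproduct.desc ℓ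
    rw [biproduct.ι_map_assoc, biproduct.ι_desc]
    change _ = θ₁.hom ≫ θ₁.inv ≫ _
    rw [Iso.hom_inv_id_assoc]
  refine ⟨ℓ, ?_, ⟨kernel.mapIso _ _ p θ₀ w⟩⟩
  have hS := pullback_shortExact k m n i
  have hepi : Epi ((Scheme.Modules.pullback i).map (eulK n k)) := hS.epi_g
  have h2 : biproduct.desc ℓ = p.inv ≫ (Scheme.Modules.pullback i).map (eulK n k) ≫ θ₀.hom := by
    rw [w, Iso.inv_hom_id_assoc]
  rw [h2]
  infer_instance

include hO in
/-- **restriction of the cotangent sheaf to a linear subspace**: for `i : P^m_k ⟶ P^n_k` with `i^*O(1) ≅ O(1)`,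
`i^*Ω_{P^n} ≅ Ω_{P^m} ⊕ O(-1)^{n-m}` -/
theorem nonempty_pullback_omega_iso :
    ∃ d : ℕ, m + d = n ∧
      Nonempty ((Scheme.Modules.pullback i).obj (Omega.sheaf (CohB1.ProjSpace.toSpec n k)) ≅
        Omega.sheaf (CohB1.ProjSpace.toSpec m k) ⊞ ⨁ fun _ : Fin d => Twist.twistProjSpace m k (-1)) := by
  haveI : IsProper (CohB1.ProjSpace.toSpec n k) := Groth.Agent.S9705.isProper_projSpace_toSpec n k
  haveI : QuasiSeparated (CohB1.ProjSpace.toSpec n k) := inferInstance
  haveI : IsProper (CohB1.ProjSpace.toSpec m k) := Groth.Agent.S9705.isProper_projSpace_toSpec m k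
  haveI : QuasiSeparated (CohB1.ProjSpace.toSpec m k) := inferInstance
  obtain ⟨eP⟩ := nonempty_omega_iso n k
  obtain ⟨eH⟩ := nonempty_omega_iso m k
  obtain ⟨e1⟩ := nonempty_pullback_kernel_iso k m n i
  obtain ⟨ℓ, hepi, ⟨e2⟩⟩ := exists_forms k m n i hO
  obtain ⟨d, hd, ⟨e3⟩⟩ := Groth.Agent.Lib.R2H2.PnLinForms.nonempty_kernel_iso_of_epi (n + 1) ℓ hepi
  refine ⟨d, by omega, ⟨(Scheme.Modules.pullback i).mapIso eP ≪≫ e1 ≪≫ e2 ≪≫ e3 ≪≫
    biprod.mapIso eH.symm (biproduct.mapIso fun _ => eqToIso (hGT₁ k m))⟩⟩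

end Main

end Groth.Agent.Lib.R2H2.PnLinRestr
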