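import Groth.Agent.Lib.R2H2PnChartOm
import Groth.Agent.Lib.R2H2MinorAlg

/-!
# Minors of exterior powers of `Ω` on small affine opens of projective space (helper2, round 2)

For `U ⊆ D₊(x_{i₀})` affine, the minors `M_J`, `J ∌ i₀`, identify `⋀^p Ω(U)` with the free module on
the `p`-subsets not containing `i₀`.
-/

set_option backward.isDefEq.respectTransparency.types false
set_option autoImplicit false
universe u

namespace Groth.Agent.Lib.R2H2.PnMinorLoc

open CategoryTheory CategoryTheory.Limits AlgebraicGeometry TopologicalSpace Opposite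
open Groth.Agent.Lib.Helper27GrTildeSect Groth.Agent.Lib.R2H2.PnDerSh
open Groth.Agent.Lib.R2H2.PnMinorSec Groth.Agent.Lib.R2H2.PnReg Groth.Agent.Lib.R2H2.PnChartOm
open Groth.Agent.Lib.R2H2.MinorAlg

variable {n : ℕ} {A : Type u} [CommRing A] [QuasiSeparated (CohB1.ProjSpace.toSpec n A)]

local notation "𝒢" => CohB1.polyGrading n A
local notation "ΩP" => Omega.sheaf (CohB1.ProjSpace.toSpec n A)

variable {p : ℕ} {i₀ : Fin (n + 1)} (U : (CohB1.ProjSpace n A).affineOpens)
  (hU : U.1 ≤ U₀ n A i₀) (m q : ℤ) (hm : m + 1 = 0) (hq : q = p * m)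

/-- the differentials `d (x_j / x_{i₀})` as elements of the module of sections -/
noncomputable def bM (j : Fin (n + 1)) : (ΩP).val.obj (op U.1) := b hU j

lemma span_bM : Submodule.span Γ(CohB1.ProjSpace n A, U.1) (Set.range (bM U hU)) = ⊤ :=
  span_b hU U.2

variable (p) in
/-- the exterior products of the `bM j` -/
noncomputable def bb (s : Set.powersetCard (Fin (n + 1)) p) :
    ↥(⋀[Γ(CohB1.ProjSpace n A, U.1)]^p ((ΩP).val.obj (op U.1))) :=
  exteriorPower.ιMulti_family Γ(CohB1.ProjSpace n A, U.1) p (bM U hU) s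

lemma span_bb : Submodule.span Γ(CohB1.ProjSpace n A, U.1) (Set.range (bb p U hU)) = ⊤ :=
  exteriorPower.ιMulti_family_span_of_span Γ(CohB1.ProjSpace n A, U.1) (span_bM U hU)

lemma bb_eq_zero (s : Set.powersetCard (Fin (n + 1)) p) (hs : i₀ ∈ s.val) : bb p U hU s = 0 := by
  have : i₀ ∈ Set.range (s.val.orderEmbOfFin s.prop) := by
    rw [Finset.range_orderEmbOfFin]; exact hs
  obtain ⟨a, ha⟩ := this
  unfold bb exteriorPower.ιMulti_family
  refine AlternatingMap.map_coord_zero _ a ?_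
  change bM U hU (s.val.orderEmbOfFin s.prop a) = 0
  rw [ha]
  exact b_self hU

/-- the minor along the subset `s` -/
noncomputable def MJ (s : Set.powersetCard (Fin (n + 1)) p) :
    ↥(⋀[Γ(CohB1.ProjSpace n A, U.1)]^p ((ΩP).val.obj (op U.1))) →ₗ[Γ(CohB1.ProjSpace n A, U.1)]
      ((OP n A q).val.obj (op U.1)) :=
  minorLin n A m q hm hq U.1 (s.val.orderEmbOfFin s.prop)

lemma sv_MJ_bb (s₀ s : Set.powersetCard (Fin (n + 1)) p) (h₀ : i₀ ∉ s₀.val)
    (y : ProjectiveSpectrum 𝒢) (hy : y ∈ U.1) :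
    sv n A q U.1 y hy (MJ U m q hm hq s₀ (bb p U hU s)) =
      if s₀ = s then uy hU y hy ^ p else 0 := by
  unfold MJ bb exteriorPower.ιMulti_family
  rw [minorLin_ιMulti, sv_minorSec]
  have h1 : (valMat n A m hm U.1 (s₀.val.orderEmbOfFin s₀.prop)
      (bM U hU ∘ (Set.powersetCard.ofFinEmbEquiv.symm s)) y hy).det =
      minor (fun a l => phiVal n A m hm U.1 l y hy (b hU (s.val.orderEmbOfFin s.prop a)))
        s₀.val := by
    rw [minor_of_card _ _ s₀.prop]
    rfl
  refine h1.trans ?_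
  rw [minor_delta _ s₀.val s.val s₀.prop s.prop (uy hU y hy)]
  · by_cases h : s₀ = s
    · rw [if_pos h, if_pos (congrArg Subtype.val h)]
    · rw [if_neg h, if_neg (fun h' => h (Subtype.ext h'))]
  · intro a l hl
    exact phiVal_b hU m hm l _ (fun h => h₀ (h ▸ hl)) y hy

omit [QuasiSeparated (CohB1.ProjSpace.toSpec n A)] in
lemma sv_sum {ι : Type*} (t : Finset ι) (f : ι → Γ(OP n A q, U.1))
    (y : ProjectiveSpectrum 𝒢) (hy : y ∈ U.1) :
    sv n A q U.1 y hy (∑ s ∈ t, f s) = ∑ s ∈ t, sv n A q U.1 y hy (f s) :=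
  map_sum (sv n A q U.1 y hy) f t

/-- the value of a minor of a combination of the `bb s` -/
lemma sv_MJ_sum (c : Set.powersetCard (Fin (n + 1)) p → Γ(CohB1.ProjSpace n A, U.1))
    (s₀ : Set.powersetCard (Fin (n + 1)) p) (h₀ : i₀ ∉ s₀.val)
    (y : ProjectiveSpectrum 𝒢) (hy : y ∈ U.1) :
    sv n A q U.1 y hy (MJ U m q hm hq s₀ (∑ s, c s • bb p U hU s)) =
      fv n A U.1 y hy (c s₀) * uy hU y hy ^ p := by
  have h1 : MJ U m q hm hq s₀ (∑ s, c s • bb p U hU s) =
      ∑ s, c s • MJ U m q hm hq s₀ (bb p U hU s) := by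
    rw [map_sum]
    exact Finset.sum_congr rfl fun s _ => map_smul _ _ _
  rw [h1]
  refine (sv_sum U q Finset.univ (fun s => c s • MJ U m q hm hq s₀ (bb p U hU s)) y hy).trans ?_
  rw [Finset.sum_eq_single s₀]
  · refine (sv_smul n A q U.1 y hy (c s₀) _).trans ?_
    rw [sv_MJ_bb U hU m q hm hq s₀ s₀ h₀ y hy, if_pos rfl]
  · intro s _ hs
    refine (sv_smul n A q U.1 y hy (c s) _).trans ?_
    rw [sv_MJ_bb U hU m q hm hq s₀ s h₀ y hy, if_neg (Ne.symm hs), mul_zero]
  · intro h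
    exact absurd (Finset.mem_univ _) h

include hU in
/-- an element all of whose minors along subsets avoiding `i₀` vanish is zero -/
theorem eq_zero_of_MJ (w : ↥(⋀[Γ(CohB1.ProjSpace n A, U.1)]^p ((ΩP).val.obj (op U.1))))
    (h : ∀ s₀ : Set.powersetCard (Fin (n + 1)) p, i₀ ∉ s₀.val → MJ U m q hm hq s₀ w = 0) :
    w = 0 := by
  have hw : w ∈ Submodule.span Γ(CohB1.ProjSpace n A, U.1) (Set.range (bb p U hU)) := by
    rw [span_bb]; trivial
  obtain ⟨c, rfl⟩ := (Submodule.mem_span_range_iff_exists_fun _).1 hw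
  refine Finset.sum_eq_zero fun s _ => ?_
  by_cases hs : i₀ ∈ s.val
  · rw [bb_eq_zero U hU s hs, smul_zero]
  · have h1 : c s = 0 := by
      apply fv_injective n A
      intro y hy
      have h2 := sv_MJ_sum U hU m q hm hq c s hs y hy
      rw [h s hs] at h2
      have h2' : (0 : Twist.Loc 𝒢 y) = fv n A U.1 y hy (c s) * uy hU y hy ^ p :=
        (map_zero (sv n A q U.1 y hy)).symm.trans h2
      have h3 : fv n A U.1 y hy 0 = 0 := by
        change (funVal 𝒢 U.1 0 y hy).val = 0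
        have : funVal 𝒢 U.1 0 y hy = 0 := rfl
        rw [this, HomogeneousLocalization.val_zero]
      rw [h3]
      exact (((isUnit_uy hU y hy).pow p).mul_left_eq_zero).1 h2'.symm
    rw [h1, zero_smul]

include hU in
/-- prescribing the minors along the subsets avoiding `i₀` -/
theorem exists_MJ_eq (hq' : q + p = 0)
    (σ : Set.powersetCard (Fin (n + 1)) p → Γ(OP n A q, U.1)) :
    ∃ w : ↥(⋀[Γ(CohB1.ProjSpace n A, U.1)]^p ((ΩP).val.obj (op U.1))),
      ∀ s₀ : Set.powersetCard (Fin (n + 1)) p, i₀ ∉ s₀.val → MJ U m q hm hq s₀ w = σ s₀ := by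
  choose r hr using fun s => exists_coef_u hU p q hq' (σ s)
  refine ⟨∑ s, r s • bb p U hU s, fun s₀ h₀ => ?_⟩
  apply sv_ext n A
  intro y hy
  rw [hr s₀ y hy]
  exact sv_MJ_sum U hU m q hm hq r s₀ h₀ y hy

end Groth.Agent.Lib.R2H2.PnMinorLoc
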