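import Groth.Agent.Lib.R2H2PnEulerRel
import Groth.Agent.Lib.R2H2MinorAlg
import Groth.Prelude.Def_ExtPow2

/-!
# Minors of differential forms on projective space as sections of `O(-p)` (helper2, round 2)
-/

set_option backward.isDefEq.respectTransparency.types false
set_option autoImplicit false
universe u

namespace Groth.Agent.Lib.R2H2.PnMinorSec

open CategoryTheory CategoryTheory.Limits AlgebraicGeometry TopologicalSpace Opposite
open Groth.Agent.Lib.Helper27GrTildeSect Groth.Agent.Lib.R2H2.PnDerSh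
open Groth.Agent.Lib.R2H2.PnMul Groth.Agent.Lib.R2H2.PnReg Groth.Agent.Lib.R2H2.PnEulerRel

variable (n : ℕ) (A : Type u) [CommRing A]

local notation "𝒢" => CohB1.polyGrading n A

/-- the additive map "value at `y`" -/
noncomputable def secValHom (q : ℤ) (U : (Proj 𝒢).Opens) (y : ProjectiveSpectrum 𝒢) (hy : y ∈ U) :
    Γ(GrTilde.tilde 𝒢 𝒢 q, U) →+ Twist.Loc 𝒢 y where
  toFun s := secVal 𝒢 𝒢 q U s y hy
  map_zero' := rfl
  map_add' _ _ := rfl

lemma secValHom_apply (q : ℤ) (U : (Proj 𝒢).Opens) (y : ProjectiveSpectrum 𝒢) (hy : y ∈ U)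
    (s : Γ(GrTilde.tilde 𝒢 𝒢 q, U)) :
    secValHom n A q U y hy s = (secVal 𝒢 𝒢 q U s y hy : Twist.Loc 𝒢 y) := rfl

/-- a family of elements of the local rings which is the family of values of a section of `O(q)` -/
def IsSecVal (q : ℤ) (U : (Proj 𝒢).Opens)
    (f : ∀ y : ProjectiveSpectrum 𝒢, y ∈ U → Twist.Loc 𝒢 y) : Prop :=
  ∃ s : Γ(GrTilde.tilde 𝒢 𝒢 q, U), ∀ y hy, secValHom n A q U y hy s = f y hy

variable {n A}

lemma isSecVal_secVal {q : ℤ} {U : (Proj 𝒢).Opens} (s : Γ(GrTilde.tilde 𝒢 𝒢 q, U)) :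
    IsSecVal n A q U (fun y hy => secValHom n A q U y hy s) := ⟨s, fun _ _ => rfl⟩

lemma IsSecVal.add {q : ℤ} {U : (Proj 𝒢).Opens}
    {f g : ∀ y : ProjectiveSpectrum 𝒢, y ∈ U → Twist.Loc 𝒢 y}
    (hf : IsSecVal n A q U f) (hg : IsSecVal n A q U g) :
    IsSecVal n A q U (fun y hy => f y hy + g y hy) := by
  obtain ⟨s, hs⟩ := hf
  obtain ⟨t, ht⟩ := hg
  exact ⟨s + t, fun y hy => by rw [map_add, hs, ht]⟩

lemma isSecVal_zero {q : ℤ} {U : (Proj 𝒢).Opens} : IsSecVal n A q U (fun _ _ => 0) :=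
  ⟨0, fun _ _ => map_zero _⟩

lemma IsSecVal.intMul {q : ℤ} {U : (Proj 𝒢).Opens}
    {f : ∀ y : ProjectiveSpectrum 𝒢, y ∈ U → Twist.Loc 𝒢 y} (hf : IsSecVal n A q U f) (z : ℤ) :
    IsSecVal n A q U (fun y hy => (z : Twist.Loc 𝒢 y) * f y hy) := by
  obtain ⟨s, hs⟩ := hf
  exact ⟨z • s, fun y hy => by rw [map_zsmul, hs, zsmul_eq_mul]⟩

lemma IsSecVal.mul {p k q : ℤ} (h : p + k = q) {U : (Proj 𝒢).Opens}
    {f g : ∀ y : ProjectiveSpectrum 𝒢, y ∈ U → Twist.Loc 𝒢 y}
    (hf : IsSecVal n A p U f) (hg : IsSecVal n A k U g) :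
    IsSecVal n A q U (fun y hy => f y hy * g y hy) := by
  obtain ⟨s, hs⟩ := hf
  obtain ⟨t, ht⟩ := hg
  refine ⟨mulSec 𝒢 𝒢 h U s t, fun y hy => ?_⟩
  have e1 := hs y hy
  have e2 := ht y hy
  change secValHom n A q U y hy (mulSec 𝒢 𝒢 h U s t) = f y hy * g y hy
  rw [← e1, ← e2, mul_comm]
  rfl

lemma isSecVal_one {U : (Proj 𝒢).Opens} : IsSecVal n A 0 U (fun _ _ => 1) := by
  refine ⟨fracSec 𝒢 0 U (SetLike.GradedOne.one_mem : (1 : MvPolynomial (Fin (n + 1)) A) ∈ 𝒢 0)
    (SetLike.GradedOne.one_mem : (1 : MvPolynomial (Fin (n + 1)) A) ∈ 𝒢 0) (by simp)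
    (fun y h => y.1.isPrime.ne_top ((Ideal.eq_top_iff_one _).mpr h)), fun y hy => ?_⟩
  rw [secValHom_apply, secVal_fracSec]
  exact Localization.mk_self (⟨1, _⟩ : y.asHomogeneousIdeal.toIdeal.primeCompl)

lemma IsSecVal.prod {ι : Type*} (s : Finset ι) (d : ι → ℤ) {U : (Proj 𝒢).Opens}
    (f : ι → ∀ y : ProjectiveSpectrum 𝒢, y ∈ U → Twist.Loc 𝒢 y)
    (h : ∀ i ∈ s, IsSecVal n A (d i) U (f i)) :
    IsSecVal n A (∑ i ∈ s, d i) U (fun y hy => ∏ i ∈ s, f i y hy) := by
  classical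
  induction s using Finset.induction_on with
  | empty =>
    simp only [Finset.sum_empty, Finset.prod_empty]
    exact isSecVal_one
  | insert a s ha ih =>
    simp only [Finset.sum_insert ha, Finset.prod_insert ha]
    exact IsSecVal.mul rfl (h a (Finset.mem_insert_self a s))
      (ih fun i hi => h i (Finset.mem_insert_of_mem hi))

lemma IsSecVal.sum {ι : Type*} (s : Finset ι) (q : ℤ) {U : (Proj 𝒢).Opens}
    (f : ι → ∀ y : ProjectiveSpectrum 𝒢, y ∈ U → Twist.Loc 𝒢 y)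
    (h : ∀ i ∈ s, IsSecVal n A q U (f i)) :
    IsSecVal n A q U (fun y hy => ∑ i ∈ s, f i y hy) := by
  classical
  induction s using Finset.induction_on with
  | empty =>
    simp only [Finset.sum_empty]
    exact isSecVal_zero
  | insert a s ha ih =>
    simp only [Finset.sum_insert ha]
    exact IsSecVal.add (h a (Finset.mem_insert_self a s))
      (ih fun i hi => h i (Finset.mem_insert_of_mem hi))

lemma IsSecVal.det {p : ℕ} (q m : ℤ) (hq : q = p * m) {U : (Proj 𝒢).Opens}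
    (M : Fin p → Fin p → ∀ y : ProjectiveSpectrum 𝒢, y ∈ U → Twist.Loc 𝒢 y)
    (h : ∀ a b, IsSecVal n A m U (M a b)) :
    IsSecVal n A q U (fun y hy => Matrix.det (Matrix.of fun a b => M a b y hy)) := by
  simp_rw [Matrix.det_apply']
  refine IsSecVal.sum _ q _ fun σ _ => IsSecVal.intMul ?_ _
  have h1 := IsSecVal.prod (Finset.univ : Finset (Fin p)) (fun _ => m)
    (fun i => M (σ i) i) (fun i _ => h (σ i) i)
  have h2 : ∑ _i : Fin p, m = q := by
    rw [Finset.sum_const, Finset.card_univ, Fintype.card_fin, hq, nsmul_eq_mul]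
  rw [h2] at h1
  exact h1

section Minor

variable (n A)

/-- `O(q)` as a module on `ProjSpace n A` -/
noncomputable def OP (q : ℤ) : (CohB1.ProjSpace n A).Modules := GrTilde.tilde 𝒢 𝒢 q

/-- the value of a section of `O(q)` at `y` -/
noncomputable def sv (q : ℤ) (U : (CohB1.ProjSpace n A).Opens) (y : ProjectiveSpectrum 𝒢)
    (hy : y ∈ U) : Γ(OP n A q, U) →+ Twist.Loc 𝒢 y :=
  secValHom n A q U y hy

/-- the value of a function at `y` -/
noncomputable def fv (U : (CohB1.ProjSpace n A).Opens) (y : ProjectiveSpectrum 𝒢) (hy : y ∈ U)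
    (c : Γ(CohB1.ProjSpace n A, U)) : Twist.Loc 𝒢 y :=
  (funVal 𝒢 U c y hy).val

lemma sv_smul (q : ℤ) (U : (CohB1.ProjSpace n A).Opens) (y : ProjectiveSpectrum 𝒢) (hy : y ∈ U)
    (c : Γ(CohB1.ProjSpace n A, U)) (s : Γ(OP n A q, U)) :
    sv n A q U y hy (c • s) = fv n A U y hy c * sv n A q U y hy s := rfl

lemma sv_map (q : ℤ) {U V : (CohB1.ProjSpace n A).Opens} (hle : V ≤ U) (y : ProjectiveSpectrum 𝒢)
    (hy : y ∈ V) (s : Γ(OP n A q, U)) :
    sv n A q V y hy ((OP n A q).presheaf.map (homOfLE hle).op s) = sv n A q U y (hle hy) s := rfl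

lemma fv_map {U V : (CohB1.ProjSpace n A).Opens} (hle : V ≤ U) (y : ProjectiveSpectrum 𝒢)
    (hy : y ∈ V) (c : Γ(CohB1.ProjSpace n A, U)) :
    fv n A V y hy ((CohB1.ProjSpace n A).presheaf.map (homOfLE hle).op c) =
      fv n A U y (hle hy) c := rfl

lemma sv_ext {q : ℤ} {U : (CohB1.ProjSpace n A).Opens} (s t : Γ(OP n A q, U))
    (h : ∀ y hy, sv n A q U y hy s = sv n A q U y hy t) : s = t :=
  sec_ext 𝒢 𝒢 q U s t h

lemma fv_injective {U : (CohB1.ProjSpace n A).Opens} (c c' : Γ(CohB1.ProjSpace n A, U))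
    (h : ∀ y hy, fv n A U y hy c = fv n A U y hy c') : c = c' :=
  fun_ext 𝒢 U c c' fun y hy => HomogeneousLocalization.val_injective _ (h y hy)

variable [QuasiSeparated (CohB1.ProjSpace.toSpec n A)]

local notation "ΩP" => Omega.sheaf (CohB1.ProjSpace.toSpec n A)

/-- `φ_l : Ω → O(m)`, `m = -1` -/
noncomputable def phiP (l : Fin (n + 1)) (m : ℤ) (hm : m + 1 = 0) : ΩP ⟶ OP n A m :=
  phi n A l m hm

/-- the value at `y` of `φ_l (ω)` -/
noncomputable def phiVal (m : ℤ) (hm : m + 1 = 0) (U : (CohB1.ProjSpace n A).Opens)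
    (l : Fin (n + 1)) (y : ProjectiveSpectrum 𝒢) (hy : y ∈ U) : Γ(ΩP, U) →+ Twist.Loc 𝒢 y :=
  (sv n A m U y hy).comp ((phiP n A l m hm).app U).hom

lemma phiVal_apply (m : ℤ) (hm : m + 1 = 0) (U : (CohB1.ProjSpace n A).Opens) (l : Fin (n + 1))
    (y : ProjectiveSpectrum 𝒢) (hy : y ∈ U) (ω : Γ(ΩP, U)) :
    phiVal n A m hm U l y hy ω = sv n A m U y hy ((phiP n A l m hm).app U ω) := rfl

lemma phiVal_smul (m : ℤ) (hm : m + 1 = 0) (U : (CohB1.ProjSpace n A).Opens) (l : Fin (n + 1))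
    (y : ProjectiveSpectrum 𝒢) (hy : y ∈ U) (c : Γ(CohB1.ProjSpace n A, U)) (ω : Γ(ΩP, U)) :
    phiVal n A m hm U l y hy (c • ω) = fv n A U y hy c * phiVal n A m hm U l y hy ω := by
  rw [phiVal_apply, phiVal_apply]
  have h1 : (phiP n A l m hm).app U (c • ω) = c • (phiP n A l m hm).app U ω :=
    Scheme.Modules.Hom.app_smul _ _ _
  rw [h1, sv_smul]

lemma phiVal_map (m : ℤ) (hm : m + 1 = 0) {U V : (CohB1.ProjSpace n A).Opens} (hle : V ≤ U)
    (l : Fin (n + 1)) (y : ProjectiveSpectrum 𝒢) (hy : y ∈ V) (ω : Γ(ΩP, U)) :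
    phiVal n A m hm V l y hy ((ΩP).presheaf.map (homOfLE hle).op ω) =
      phiVal n A m hm U l y (hle hy) ω := by
  rw [phiVal_apply, phiVal_apply]
  have h1 : (phiP n A l m hm).app V ((ΩP).presheaf.map (homOfLE hle).op ω) =
      (OP n A m).presheaf.map (homOfLE hle).op ((phiP n A l m hm).app U ω) :=
    CategoryTheory.congr_fun ((phiP n A l m hm).mapPresheaf.naturality (homOfLE hle).op) ω
  rw [h1, sv_map]

/-- the matrix of values -/
noncomputable def valMat {p : ℕ} (m : ℤ) (hm : m + 1 = 0) (U : (CohB1.ProjSpace n A).Opens)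
    (J : Fin p → Fin (n + 1)) (ω : Fin p → Γ(ΩP, U)) (y : ProjectiveSpectrum 𝒢) (hy : y ∈ U) :
    Matrix (Fin p) (Fin p) (Twist.Loc 𝒢 y) :=
  Matrix.of fun a b => phiVal n A m hm U (J b) y hy (ω a)

lemma isSecVal_det_valMat {p : ℕ} (m q : ℤ) (hm : m + 1 = 0) (hq : q = p * m)
    (U : (CohB1.ProjSpace n A).Opens) (J : Fin p → Fin (n + 1)) (ω : Fin p → Γ(ΩP, U)) :
    IsSecVal n A q U (fun y hy => (valMat n A m hm U J ω y hy).det) :=
  IsSecVal.det q m hq (fun a b y hy => phiVal n A m hm U (J b) y hy (ω a))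
    (fun a b => ⟨(phiP n A (J b) m hm).app U (ω a), fun _ _ => rfl⟩)

/-- the minor `det [φ_{J b} (ω a)]` as a section of `O(q)`, `q = -p` -/
noncomputable def minorSec {p : ℕ} (m q : ℤ) (hm : m + 1 = 0) (hq : q = p * m)
    (U : (CohB1.ProjSpace n A).Opens) (J : Fin p → Fin (n + 1)) (ω : Fin p → Γ(ΩP, U)) :
    Γ(OP n A q, U) :=
  (isSecVal_det_valMat n A m q hm hq U J ω).choose

lemma sv_minorSec {p : ℕ} (m q : ℤ) (hm : m + 1 = 0) (hq : q = p * m)
    (U : (CohB1.ProjSpace n A).Opens) (J : Fin p → Fin (n + 1)) (ω : Fin p → Γ(ΩP, U))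
    (y : ProjectiveSpectrum 𝒢) (hy : y ∈ U) :
    sv n A q U y hy (minorSec n A m q hm hq U J ω) = (valMat n A m hm U J ω y hy).det :=
  (isSecVal_det_valMat n A m q hm hq U J ω).choose_spec y hy

omit [QuasiSeparated (CohB1.ProjSpace.toSpec n A)] in
lemma updateRow_of {Λ : Type*} {p : ℕ} (M : Fin p → Fin p → Λ) (a₀ : Fin p) (z : Fin p → Λ) :
    Matrix.updateRow (Matrix.of M) a₀ z = Matrix.of (fun a b => if a = a₀ then z b else M a b) := by
  ext a b
  rw [Matrix.updateRow_apply]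
  rfl

lemma valMat_update {p : ℕ} (m : ℤ) (hm : m + 1 = 0) (U : (CohB1.ProjSpace n A).Opens)
    (J : Fin p → Fin (n + 1)) (ω : Fin p → Γ(ΩP, U)) (a₀ : Fin p) (z : Γ(ΩP, U))
    (y : ProjectiveSpectrum 𝒢) (hy : y ∈ U) :
    valMat n A m hm U J (Function.update ω a₀ z) y hy =
      Matrix.updateRow (valMat n A m hm U J ω y hy) a₀
        (fun b => phiVal n A m hm U (J b) y hy z) := by
  ext a b
  rw [Matrix.updateRow_apply]
  unfold valMat
  simp only [Matrix.of_apply]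
  by_cases h : a = a₀
  · subst h
    rw [Function.update_self, if_pos rfl]
  · rw [Function.update_of_ne h, if_neg h]

lemma minorSec_map {p : ℕ} (m q : ℤ) (hm : m + 1 = 0) (hq : q = p * m)
    {U V : (CohB1.ProjSpace n A).Opens} (hle : V ≤ U) (J : Fin p → Fin (n + 1))
    (ω : Fin p → Γ(ΩP, U)) :
    (OP n A q).presheaf.map (homOfLE hle).op (minorSec n A m q hm hq U J ω) =
      minorSec n A m q hm hq V J (fun a => (ΩP).presheaf.map (homOfLE hle).op (ω a)) := by
  apply sv_ext n A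
  intro y hy
  rw [sv_minorSec, sv_map, sv_minorSec]
  congr 1
  ext a b
  unfold valMat
  simp only [Matrix.of_apply]
  rw [phiVal_map]

/-- the minor as an alternating map -/
noncomputable def minorAlt {p : ℕ} (m q : ℤ) (hm : m + 1 = 0) (hq : q = p * m)
    (U : (CohB1.ProjSpace n A).Opens) (J : Fin p → Fin (n + 1)) :
    ((ΩP).val.obj (op U)) [⋀^Fin p]→ₗ[Γ(CohB1.ProjSpace n A, U)] ((OP n A q).val.obj (op U)) where
  toFun ω := minorSec n A m q hm hq U J ω
  map_update_add' := by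
    intro inst ω a₀ z z'
    have : inst = instDecidableEqFin p := Subsingleton.elim _ _
    subst this
    apply sv_ext n A
    intro y hy
    refine (sv_minorSec n A m q hm hq U J _ y hy).trans ?_
    refine Eq.trans ?_ (map_add (sv n A q U y hy)
      (minorSec n A m q hm hq U J (Function.update ω a₀ z))
      (minorSec n A m q hm hq U J (Function.update ω a₀ z'))).symm
    rw [sv_minorSec, sv_minorSec, valMat_update, valMat_update, ← Matrix.det_updateRow_add]
    refine (congrArg Matrix.det (valMat_update n A m hm U J ω a₀ (z + z') y hy)).trans ?_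
    congr 2
    ext b
    exact map_add _ _ _
  map_update_smul' := by
    intro inst ω a₀ c z
    have : inst = instDecidableEqFin p := Subsingleton.elim _ _
    subst this
    apply sv_ext n A
    intro y hy
    refine (sv_minorSec n A m q hm hq U J _ y hy).trans ?_
    refine Eq.trans ?_ (sv_smul n A q U y hy c
      (minorSec n A m q hm hq U J (Function.update ω a₀ z))).symm
    rw [sv_minorSec, valMat_update, ← Matrix.det_updateRow_smul]
    refine (congrArg Matrix.det (valMat_update n A m hm U J ω a₀ (c • z) y hy)).trans ?_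
    congr 2
    ext b
    exact phiVal_smul n A m hm U (J b) y hy c z
  map_eq_zero_of_eq' := by
    intro ω a a' hω haa'
    apply sv_ext n A
    intro y hy
    refine (sv_minorSec n A m q hm hq U J _ y hy).trans ?_
    refine Eq.trans ?_ (map_zero (sv n A q U y hy)).symm
    apply Matrix.det_zero_of_row_eq haa'
    ext b
    unfold valMat
    simp only [Matrix.of_apply]
    rw [hω]

lemma minorAlt_apply {p : ℕ} (m q : ℤ) (hm : m + 1 = 0) (hq : q = p * m)
    (U : (CohB1.ProjSpace n A).Opens) (J : Fin p → Fin (n + 1))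
    (ω : Fin p → (ΩP).val.obj (op U)) :
    minorAlt n A m q hm hq U J ω = minorSec n A m q hm hq U J ω := rfl

/-- the linear map `⋀^p Ω(U) → O(q)(U)` given by the minor along `J` -/
noncomputable def minorLin {p : ℕ} (m q : ℤ) (hm : m + 1 = 0) (hq : q = p * m)
    (U : (CohB1.ProjSpace n A).Opens) (J : Fin p → Fin (n + 1)) :
    ↥(⋀[Γ(CohB1.ProjSpace n A, U)]^p ((ΩP).val.obj (op U))) →ₗ[Γ(CohB1.ProjSpace n A, U)]
      ((OP n A q).val.obj (op U)) :=
  exteriorPower.alternatingMapLinearEquiv (minorAlt n A m q hm hq U J)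

lemma minorLin_ιMulti {p : ℕ} (m q : ℤ) (hm : m + 1 = 0) (hq : q = p * m)
    (U : (CohB1.ProjSpace n A).Opens) (J : Fin p → Fin (n + 1))
    (ω : Fin p → (ΩP).val.obj (op U)) :
    minorLin n A m q hm hq U J (exteriorPower.ιMulti _ p ω) = minorSec n A m q hm hq U J ω :=
  exteriorPower.alternatingMapLinearEquiv_apply_ιMulti _ _

end Minor

end Groth.Agent.Lib.R2H2.PnMinorSec
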