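import Groth.Agent.Lib.R2H2PnOmSimple
import Groth.Agent.Lib.R2H2PnBeilinson

/-!
# Quotients of `Ω^1(1)` by `O(-1)` on projective space (helper2, round 2)

`End(Ω(1)) = k`, `Ext^1(Ω(1), O(-1)) = 0`; for a monomorphism `u : O(-1) → Ω(1)` every morphism
`Ω(1) → coker u` is a multiple of the projection and `coker u` is simple.
-/

set_option backward.isDefEq.respectTransparency.types false
set_option autoImplicit false
set_option linter.unusedSectionVars false
universe u

namespace Groth.Agent.Lib.R2H2.PnNullCorr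

open CategoryTheory CategoryTheory.Limits AlgebraicGeometry Abelian
open Groth.Agent.Lib.R2H2.KoszulAbs Groth.Agent.Lib.R2H2.HHLin Groth.Agent.Lib.R2H2.KoszulShift
open Groth.Agent.Lib.R2H2.KoszulTw Groth.Agent.Lib.R2H2.PnSerre Groth.Agent.Lib.R2H2.PnBridge
open Groth.Agent.Lib.R2H2.PnBott Groth.Agent.Lib.R2H2.PnTwEquiv Groth.Agent.Lib.R2H2.PnOmSimple

section Abstract

variable {C : Type*} [Category C] [Abelian C] [HasExt.{u} C]

theorem subsingleton_ext_X₁ (S : ShortComplex C) (hS : S.ShortExact) (Y : C) (i j : ℕ)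
    (hij : 1 + i = j)
    (h2 : Subsingleton (Ext S.X₂ Y i)) (h3 : Subsingleton (Ext S.X₃ Y j)) :
    Subsingleton (Ext S.X₁ Y i) := by
  have h0 : ∀ x : Ext S.X₁ Y i, x = 0 := fun x => by
    obtain ⟨x₂, hx₂⟩ := Ext.contravariant_sequence_exact₁ hS Y x hij (Subsingleton.elim _ _)
    rw [← hx₂, Subsingleton.elim x₂ 0, Ext.comp_zero]
  exact ⟨fun a b => (h0 a).trans (h0 b).symm⟩

end Abstract

section General

variable {X : Scheme.{u}} [HasExt.{u} X.Modules]

theorem subsingleton_ext_map_of_equiv (F : X.Modules ⥤ X.Modules) [F.Additive] [F.IsEquivalence]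
    (A B : X.Modules) (i : ℕ) (h : Subsingleton (Ext A B i)) :
    Subsingleton (Ext (F.obj A) (F.obj B) i) := by
  have : EnoughInjectives X.Modules :=
    Groth.Agent.S0485.result (Opens.grothendieckTopology X) X.ringCatSheaf
  have hb := Functor.mapExt_bijective_of_preservesInjectiveObjects F A B i
  exact hb.surjective.subsingleton

end General

section Pn

variable (k : Type u) [Field k] (n : ℕ) [QuasiSeparated (CohB1.ProjSpace.toSpec n k)]

/-- `Ω^1` -/
noncomputable abbrev Om : (CohB1.ProjSpace n k).Modules := Omega.sheaf (CohB1.ProjSpace.toSpec n k)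

/-- `Ω^1(1)` -/
noncomputable abbrev OmTw : (CohB1.ProjSpace n k).Modules :=
  CohB1.tensorMod (Om k n) (Twist.twistProjSpace n k 1)

/-- `End(Ω(1)) = k` -/
theorem end_omTw [HasExt.{u} (CohB1.ProjSpace n k).Modules] (φ : OmTw k n ⟶ OmTw k n) :
    ∃ c : k, φ = c • 𝟙 _ := by
  haveI := isEquivalence_Tw k n 1
  obtain ⟨φ', hφ'⟩ := (Tw n k 1).map_surjective (X := Om k n) (Y := Om k n) φ
  obtain ⟨c, hc⟩ := end_omega k n φ'
  refine ⟨c, ?_⟩
  rw [← hφ', hc]
  exact (Groth.Agent.Lib.R2H2.PnBeilinson.twR_map_smul _ c (𝟙 (Om k n))).trans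
    (by rw [CategoryTheory.Functor.map_id]; rfl)

variable [HasExt.{u} (CohB1.ProjSpace n k).Modules]

lemma subsingleton_ext_Z_twist :
    Subsingleton (Ext (kernel ((KP n k).d n)) (Twist.twistProjSpace n k (-2)) 1) := by
  refine subsingleton_ext_X₁ (eulerS k n) (eulerS_shortExact k n) _ 1 2 rfl ?_ ?_
  · refine subsingleton_ext_K_left (KP n k) n 1 _ ?_
    refine subsingleton_ext_twist n k (-((n : ℤ) + 1) + n) (-2) 1 ?_ ?_
    · rintro ⟨h, -⟩; omega
    · rintro ⟨h1, h2⟩; omega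
  · refine subsingleton_ext_of_iso (isoX₃ k n) (Iso.refl _) 2 ?_
    refine subsingleton_ext_unit _ 2 (subsingleton_HH_twist n k (-2) 2 ?_ ?_)
    · rintro ⟨h, -⟩; omega
    · rintro ⟨h1, h2⟩; omega

/-- `Ext^1(Ω(1), O(-1)) = 0` -/
lemma subsingleton_ext_omTw :
    Subsingleton (Ext (OmTw k n) (Twist.twistProjSpace n k (-1)) 1) := by
  haveI := isEquivalence_Tw k n 1
  obtain ⟨e⟩ := nonempty_iso_kernel (Groth.Agent.Lib.R2H2.ExtPowOne.isExtPow_one (Om k n)) n
    (by omega : 1 + n = n + 1)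
  obtain ⟨t⟩ := Groth.Agent.Lib.R2Lead.KRR.nonempty_twistProjSpace_tensor_iso n k (-2) 1
  have hm : (-2 : ℤ) + 1 = -1 := by norm_num
  have h := subsingleton_ext_map_of_equiv (Tw n k 1) (kernel ((KP n k).d n))
    (Twist.twistProjSpace n k (-2)) 1 (subsingleton_ext_Z_twist k n)
  rw [Tw_obj, Tw_obj] at h
  have α : OmTw k n ≅ CohB1.tensorMod (kernel ((KP n k).d n)) (Twist.twistProjSpace n k 1) :=
    (Tw n k 1).mapIso e
  have β : Twist.twistProjSpace n k (-1) ≅
      CohB1.tensorMod (Twist.twistProjSpace n k (-2)) (Twist.twistProjSpace n k 1) :=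
    eqToIso (congrArg (fun m : ℤ => Twist.twistProjSpace n k m) hm.symm) ≪≫ t.symm
  exact subsingleton_ext_of_iso α β 1 h

variable {k n}

/-- the short exact sequence of a monomorphism `O(-1) → Ω(1)` -/
noncomputable abbrev sesU (u : Twist.twistProjSpace n k (-1) ⟶ OmTw k n) :
    ShortComplex (CohB1.ProjSpace n k).Modules :=
  ShortComplex.mk u (cokernel.π u) (cokernel.condition u)

lemma sesU_shortExact (u : Twist.twistProjSpace n k (-1) ⟶ OmTw k n) [Mono u] :
    (sesU u).ShortExact :=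
  { exact := ShortComplex.exact_cokernel u
    mono_f := inferInstanceAs (Mono u)
    epi_g := inferInstanceAs (Epi (cokernel.π u)) }

/-- every morphism `Ω(1) → coker u` is a multiple of the projection -/
theorem exists_smul_π (u : Twist.twistProjSpace n k (-1) ⟶ OmTw k n) [Mono u]
    (g : OmTw k n ⟶ cokernel u) : ∃ c : k, g = c • cokernel.π u := by
  have hS := sesU_shortExact u
  haveI : Subsingleton (Ext (OmTw k n) (sesU u).X₁ 1) := subsingleton_ext_omTw k n
  obtain ⟨x₂, hx₂⟩ := Ext.covariant_sequence_exact₃ (OmTw k n) hS (Ext.mk₀ g) (zero_add 1)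
    (Subsingleton.elim _ _)
  obtain ⟨l, rfl⟩ := (Ext.mk₀_bijective _ _).2 x₂
  rw [Ext.mk₀_comp_mk₀] at hx₂
  have h1 : l ≫ cokernel.π u = g := (Ext.mk₀_bijective _ _).1 hx₂
  obtain ⟨c, hc⟩ := end_omTw k n l
  exact ⟨c, by rw [← h1, hc, Linear.smul_comp, Category.id_comp]⟩

/-- `coker u` is simple -/
theorem end_coker (u : Twist.twistProjSpace n k (-1) ⟶ OmTw k n) [Mono u]
    (ψ : cokernel u ⟶ cokernel u) : ∃ c : k, ψ = c • 𝟙 _ := by
  obtain ⟨c, hc⟩ := exists_smul_π u (cokernel.π u ≫ ψ)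
  refine ⟨c, ?_⟩
  rw [← cancel_epi (cokernel.π u), hc, Linear.comp_smul, Category.comp_id]

end Pn

end Groth.Agent.Lib.R2H2.PnNullCorr
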