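import Groth.Agent.Lib.R2H2PnHom
import Groth.Agent.Lib.R2H2PnHorrocks
import Groth.Agent.Lib.R2H2PnTwEquiv
import Groth.Agent.Lib.R2H2PnSerre
import Groth.Agent.Lib.R2H2KoszulBot
import Groth.Agent.Lib.R2H4TensorPows
import Groth.Agent.Lib.R2LeadKRR
import Groth.Agent.Lib.Helper23TensorUnit
import Groth.Agent.Lib.R2H2PnDual

/-!
# Sections of the twists of an extension `0 → O → E → J(c) → 0` on `P^n` (helper2, round 2)

Namespace `Groth.Agent.Lib.R2H2.PnSerreCorr`.
* `h0_middle_iff` : for a short exact sequence with `H^1(X₁) = 0`: `H^0(X₂) = 0 ↔ H^0(X₁) = 0 ∧ H^0(X₃) = 0`.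
* `exists_mono_twist` : a monomorphism `O(d') ⟶ O(d)` on `P^n_R` (`R` a domain) for `d' ≤ d`.
* `subsingleton_H0_twist_of_le` : for a subsheaf `J ⊆ O` of `P^n_k`, `H^0(J(d)) = 0` implies `H^0(J(d')) = 0` for `d' ≤ d`.
* `main` : for `0 → O → E → J(c) → 0` on `P^n_k`, `n ≥ 2`: `H^0(E(t)) = 0 ↔ t < 0 ∧ H^0(J(c+t)) = 0`.
-/

set_option backward.isDefEq.respectTransparency.types false
set_option autoImplicit false
universe u

namespace Groth.Agent.Lib.R2H2.PnSerreCorr

open CategoryTheory CategoryTheory.Limits AlgebraicGeometry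
open Groth.Agent.Lib.R2H2.HHLin Groth.Agent.Lib.R2H2.PnSerre Groth.Agent.Lib.R2H4TensorPows

section General

variable {X : Scheme.{u}}

theorem mono_of_app_injective {M N : X.Modules} (φ : M ⟶ N)
    (h : ∀ U : X.Opens, Function.Injective (φ.app U)) : Mono φ := by
  apply Functor.mono_of_mono_map (Scheme.Modules.toPresheaf X)
  apply (config := { allowSynthFailures := true }) NatTrans.mono_of_mono_app
  intro U
  rw [AddCommGrpCat.mono_iff_injective]
  exact h U.unop

theorem h0_middle_of (S : ShortComplex X.Modules) (hS : S.ShortExact)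
    (h₁ : Subsingleton (Coh.HH X S.X₁ 0)) (h₃ : Subsingleton (Coh.HH X S.X₃ 0)) :
    Subsingleton (Coh.HH X S.X₂ 0) := by
  have h0 : ∀ x : Coh.HH X S.X₂ 0, x = 0 := fun x => by
    obtain ⟨x₁, hx₁⟩ := exact₂ S hS 0 x (Subsingleton.elim _ _)
    rw [← hx₁, Subsingleton.elim x₁ 0, map_zero]
  exact ⟨fun a b => (h0 a).trans (h0 b).symm⟩

theorem h0_left_of (S : ShortComplex X.Modules) (hS : S.ShortExact)
    (h₂ : Subsingleton (Coh.HH X S.X₂ 0)) : Subsingleton (Coh.HH X S.X₁ 0) := by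
  haveI := hS.mono_f
  have hinj := Groth.Agent.Lib.R2H2.KoszulBot.injective_HmapL_zero S.f
  exact ⟨fun a b => hinj (Subsingleton.elim _ _)⟩

theorem h0_right_of (S : ShortComplex X.Modules) (hS : S.ShortExact)
    (h₂ : Subsingleton (Coh.HH X S.X₂ 0)) (h₁ : Subsingleton (Coh.HH X S.X₁ 1)) :
    Subsingleton (Coh.HH X S.X₃ 0) := by
  have h0 : ∀ x : Coh.HH X S.X₃ 0, x = 0 := fun x => by
    obtain ⟨x₂, hx₂⟩ := exact₃ S hS 0 x (Subsingleton.elim _ _)
    rw [← hx₂, Subsingleton.elim x₂ 0, map_zero]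
  exact ⟨fun a b => (h0 a).trans (h0 b).symm⟩

theorem h0_middle_iff (S : ShortComplex X.Modules) (hS : S.ShortExact)
    (h₁ : Subsingleton (Coh.HH X S.X₁ 1)) :
    Subsingleton (Coh.HH X S.X₂ 0) ↔
      Subsingleton (Coh.HH X S.X₁ 0) ∧ Subsingleton (Coh.HH X S.X₃ 0) :=
  ⟨fun h => ⟨h0_left_of S hS h, h0_right_of S hS h h₁⟩, fun h => h0_middle_of S hS h.1 h.2⟩

/-- tensoring with an invertible module preserves monomorphisms -/
theorem mono_twR_map (L : X.Modules) (hL : PicF.IsInvertible L) {A B : X.Modules} (φ : A ⟶ B)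
    [Mono φ] : Mono ((twR L).map φ) := by
  have hS : (ShortComplex.mk φ (cokernel.π φ) (cokernel.condition φ)).ShortExact :=
    { exact := ShortComplex.exact_cokernel φ
      mono_f := inferInstanceAs (Mono φ)
      epi_g := inferInstanceAs (Epi (cokernel.π φ)) }
  exact (shortExact_map_twR L hL _ hS).mono_f

theorem mono_tensorBi_map (L : X.Modules) (hL : PicF.IsInvertible L) {A B : X.Modules} (φ : A ⟶ B)
    [Mono φ] : Mono ((DCoh.tensorBi.obj L).map φ) := by
  have hS : (ShortComplex.mk φ (cokernel.π φ) (cokernel.condition φ)).ShortExact :=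
    { exact := ShortComplex.exact_cokernel φ
      mono_f := inferInstanceAs (Mono φ)
      epi_g := inferInstanceAs (Epi (cokernel.π φ)) }
  exact (Groth.Agent.Lib.R2Lead.TensorExact.shortExact_map_tensorBi_of_isInvertible L hL _ hS).mono_f

/-- for a subsheaf `J ⊆ O` and a monomorphism `m : A ⟶ B` of invertible modules, `J ⊗ A ⟶ J ⊗ B` is injective on
`H^0` -/
theorem injective_H0_tensor_map {J : X.Modules} (ι : J ⟶ Coh.structureModule X) [Mono ι]
    {A B : X.Modules} (hA : PicF.IsInvertible A) (m : A ⟶ B) [Mono m] :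
    Function.Injective (HmapL ((DCoh.tensorBi.obj J).map m) 0) := by
  have hnat : (DCoh.tensorBi.obj J).map m ≫ (DCoh.tensorBi.map ι).app B =
      (DCoh.tensorBi.map ι).app A ≫ (DCoh.tensorBi.obj (Coh.structureModule X)).map m :=
    (DCoh.tensorBi.map ι).naturality m
  haveI h1 : Mono ((DCoh.tensorBi.map ι).app A) := mono_twR_map A hA ι
  haveI h2 : Mono ((DCoh.tensorBi.obj (Coh.structureModule X)).map m) :=
    mono_tensorBi_map _ (Groth.Agent.Lib.Helper23.TensorUnit.isInvertible_structureModule X) m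
  haveI h3 : Mono ((DCoh.tensorBi.obj J).map m ≫ (DCoh.tensorBi.map ι).app B) := by
    rw [hnat]
    exact mono_comp _ _
  haveI : Mono ((DCoh.tensorBi.obj J).map m) := mono_of_mono _ ((DCoh.tensorBi.map ι).app B)
  exact Groth.Agent.Lib.R2H2.KoszulBot.injective_HmapL_zero _

end General

section Pn

open Groth.Agent.Lib.R2H2.PnHom Groth.Agent.Lib.R2H2.PnMul Groth.Agent.Lib.Helper27GrTildeSect

variable (n : ℕ) (R : Type u) [CommRing R] [IsDomain R]

local notation "𝒫" => CohB1.polyGrading n R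
local notation "AA" => MvPolynomial (Fin (n + 1)) R

theorem mono_mulP {e : ℕ} {P : AA} (hP : P ∈ CohB1.polyGrading n R e) (hP0 : P ≠ 0) {p q : ℤ} (h : p + e = q) :
    Mono (mulP 𝒫 𝒫 hP h) := by
  apply mono_of_app_injective
  intro W s s' hss
  apply sv_ext
  intro y hy
  have h1 : sv q W ((mulP 𝒫 𝒫 hP h).app W s) y hy = sv q W ((mulP 𝒫 𝒫 hP h).app W s') y hy := by
    rw [hss]
  have h2 : ∀ t : Γ(GrTilde.tilde 𝒫 𝒫 p, W), sv q W ((mulP 𝒫 𝒫 hP h).app W t) y hy =
      Localization.mk P (1 : y.asHomogeneousIdeal.toIdeal.primeCompl) * sv p W t y hy := fun t => rfl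
  rw [h2, h2] at h1
  have hne : (Localization.mk P (1 : y.asHomogeneousIdeal.toIdeal.primeCompl) : Twist.Loc 𝒫 y) ≠ 0 := by
    intro h0
    rw [Localization.mk_one_eq_algebraMap] at h0
    have hinj := IsLocalization.injective (Twist.Loc 𝒫 y)
      (M := y.asHomogeneousIdeal.toIdeal.primeCompl)
      (Ideal.primeCompl_le_nonZeroDivisors _)
    exact hP0 (hinj (h0.trans (map_zero _).symm))
  exact mul_left_cancel₀ hne h1

theorem exists_mono_twist (d' d : ℤ) (hd : d' ≤ d) :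
    ∃ m : Twist.twistProjSpace n R d' ⟶ Twist.twistProjSpace n R d, Mono m := by
  have key : ∀ F : ℤ → (CohB1.ProjSpace n R).Modules,
      F = (fun d => Groth.Agent.Lib.R2H2.PnDual.Otw R n d) → ∃ m : F d' ⟶ F d, Mono m := by
    intro F hF
    subst hF
    have h : d' + ((d - d').toNat : ℕ) = d := by omega
    exact ⟨mulP 𝒫 𝒫 (Xpow_mem n R 0 (d - d').toNat) h,
      mono_mulP n R (Xpow_mem n R 0 (d - d').toNat) (pow_ne_zero _ (MvPolynomial.X_ne_zero 0)) h⟩
  exact key (fun d => Twist.twistProjSpace n R d)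
    (funext fun d => Groth.Agent.Lib.R2H2.PnDual.twist_eq R n d)

end Pn

section Field

variable (k : Type u) [Field k] (n : ℕ)

local notation "PX" => CohB1.ProjSpace n k
local notation "OO" => Twist.twistProjSpace n k

/-- for a subsheaf `J ⊆ O` of `P^n_k`: `H^0(J(d)) = 0` implies `H^0(J(d')) = 0` for `d' ≤ d` -/
theorem subsingleton_H0_twist_of_le {J : (PX).Modules} (ι : J ⟶ Coh.structureModule PX) [Mono ι]
    (d' d : ℤ) (hd : d' ≤ d)
    (h : Subsingleton (Coh.HH PX (CohB1.tensorMod J (OO d)) 0)) :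
    Subsingleton (Coh.HH PX (CohB1.tensorMod J (OO d')) 0) := by
  obtain ⟨m, hm⟩ := exists_mono_twist n k d' d hd
  have hinj := injective_H0_tensor_map ι (isInv n k d') m
  exact ⟨fun a b => hinj (@Subsingleton.elim _ h _ _)⟩

/-- for `0 → O → E → J(c) → 0` on `P^n_k`, `n ≥ 2`: `H^0(E(t)) = 0 ↔ t < 0 ∧ H^0(J(c+t)) = 0` -/
theorem main (hn : 2 ≤ n) (J : (PX).Modules) (c : ℤ)
    (S : ShortComplex (PX).Modules) (hS : S.ShortExact)
    (h₁ : Nonempty (S.X₁ ≅ Coh.structureModule PX))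
    (h₃ : Nonempty (S.X₃ ≅ CohB1.tensorMod J (OO c))) (t : ℤ) :
    Subsingleton (Coh.HH PX (CohB1.tensorMod S.X₂ (OO t)) 0) ↔
      (t < 0 ∧ Subsingleton (Coh.HH PX (CohB1.tensorMod J (OO (c + t))) 0)) := by
  obtain ⟨e₁⟩ := h₁
  obtain ⟨e₃⟩ := h₃
  obtain ⟨eT⟩ := Groth.Agent.Lib.R2Lead.KRR.nonempty_twistProjSpace_tensor_iso n k c t
  have hS' := shortExact_map_twR (OO t) (isInv n k t) S hS
  let a₁ : (S.map (twR (OO t))).X₁ ≅ OO t := (twR (OO t)).mapIso e₁ ≪≫ lUnit (OO t)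
  let a₃ : (S.map (twR (OO t))).X₃ ≅ CohB1.tensorMod J (OO (c + t)) :=
    (twR (OO t)).mapIso e₃ ≪≫ tAssoc J (OO c) (OO t) ≪≫ tIso (Iso.refl J) eT
  have hH1 : Subsingleton (Coh.HH PX (S.map (twR (OO t))).X₁ 1) :=
    subsingleton_HH_of_iso a₁.symm 1
      (Groth.Agent.Lib.R2H2.PnTwEquiv.subsingleton_HH_twist n k t 1 (by omega) (by omega))
  have hiff := h0_middle_iff _ hS' hH1
  constructor
  · intro h
    have h' := hiff.1 h
    have hO : Subsingleton (Coh.HH PX (OO t) 0) := subsingleton_HH_of_iso a₁ 0 h'.1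
    refine ⟨?_, subsingleton_HH_of_iso a₃ 0 h'.2⟩
    by_contra hneg
    obtain ⟨m, rfl⟩ := Int.eq_ofNat_of_zero_le (not_lt.mp hneg)
    have hnt := Groth.Agent.Lib.R2H2.PnHorrocks.nontrivial_H0_twist k n m
    exact not_subsingleton _ hO
  · rintro ⟨ht, hJ⟩
    exact hiff.2 ⟨subsingleton_HH_of_iso a₁.symm 0
      (Groth.Agent.Lib.R2H2.PnTwEquiv.subsingleton_HH_twist n k t 0 (by omega) (by omega)),
      subsingleton_HH_of_iso a₃.symm 0 hJ⟩

end Field

end Groth.Agent.Lib.R2H2.PnSerreCorr
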