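import Groth.Agent.Lib.R2H2PnEulerSeq
import Groth.Agent.Lib.R2H2PnHom
import Groth.Agent.Lib.R2LeadTensorExact
import Groth.Agent.Lib.R2H2FibreFree
import Groth.Agent.Lib.R2H1DegCartier
import Groth.Agent.Lib.R2H2PnSerre
import Groth.Agent.Lib.R2H2PnSerreCorr
import Groth.Agent.Lib.R2H2PnBeilinson
import Groth.Agent.Lib.R2H2PnSplitType
import Groth.Agent.S9705

/-!
# Existence of null-correlation bundles on odd-dimensional projective spaces (helper2, round 2)

Namespace `Groth.Agent.Lib.R2H2.PnNullCorrExist`.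
* `bijective_sm_of_local_bijective` : bijective on sections over all small opens around `x` ⇒ bijective on the stalk.
* `free_of_prod`, `finrank_of_two_splittings` : algebra over a local ring.
* `nonempty_linearEquivs` : two splittings after an exact functor to modules.
* `stalk_free_rank_one`, `isFinLocFreeOfRank_cokernel` : for invertible `A_j, L, B`, `ev : ⨁ A_j ↠ B`, `u : L ↪ ⨁ A_j`,
  `u ≫ ev = 0`, stalkwise some `e_i` and some `v_j` iso ⇒ `coker (L ⟶ ker ev)` is locally free of rank `#ι - 2`.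
* `bijective_mulP_app`, `isIso_stalkFun_map_mulP` : multiplication by a form is an iso on stalks where it does not vanish.
* `vv`, `vv_comp`, `isFinLocFreeOfRank_coker`, `exists_nullCorrelation` (S11507).
-/

set_option backward.isDefEq.respectTransparency.types false
set_option autoImplicit false
universe u

namespace Groth.Agent.Lib.R2H2.PnNullCorrExist

open CategoryTheory CategoryTheory.Limits AlgebraicGeometry TopologicalSpace Opposite
open Groth.Agent.Lib.Helper1.BKF Groth.Agent.Lib.Helper1.Sky Groth.Agent.Lib.Helper1.StalkTensor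
  Groth.Agent.Lib.Helper1.KBC

attribute [local instance] Abelian.hasFiniteBiproducts

section General

variable {X : Scheme.{u}}

/-- a morphism which is bijective on the sections over all small opens around `x` is bijective on the stalk at `x` -/
theorem bijective_sm_of_local_bijective {M N : X.Modules} (φ : M ⟶ N) (x : X) (U : X.Opens)
    (hxU : x ∈ U) (h : ∀ W : X.Opens, W ≤ U → Function.Bijective (φ.app W)) :
    Function.Bijective (sm (toPMMap φ) x) := by
  constructor
  · rw [injective_iff_map_eq_zero]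
    intro a ha
    obtain ⟨V, hxV, p, rfl⟩ := exists_gm_eq a
    rw [sm_gm] at ha
    have ha' : gm (toPM N) x V hxV ((toPMMap φ).app (op V) p) = gm (toPM N) x V hxV 0 := by
      rw [ha, map_zero]
    obtain ⟨W, hxW, iU, iV, hW⟩ := gm_eq hxV hxV _ _ ha'
    rw [map_zero] at hW
    -- restrict to `W ⊓ U`
    let W' : X.Opens := W ⊓ U
    have hxW' : x ∈ W' := ⟨hxW, hxU⟩
    let j : W' ⟶ V := homOfLE (inf_le_left.trans iU.le)
    have h1 : (toPMMap φ).app (op W') (rs (toPM M) j p) = 0 := by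
      have hnat : (toPMMap φ).app (op W') (rs (toPM M) j p) =
          rs (toPM N) j ((toPMMap φ).app (op V) p) :=
        PresheafOfModules.naturality_apply (toPMMap φ) j.op p
      rw [hnat]
      have hj : j = (homOfLE inf_le_left : W' ⟶ W) ≫ iU := rfl
      rw [hj, ← rs_rs iU (homOfLE inf_le_left : W' ⟶ W), hW, map_zero]
    have h2 : rs (toPM M) j p = 0 := (h W' inf_le_right).1 (h1.trans (map_zero _).symm)
    rw [← gm_rs j hxW' p, h2, map_zero]
  · intro b
    obtain ⟨V, hxV, q, rfl⟩ := exists_gm_eq b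
    let W' : X.Opens := V ⊓ U
    have hxW' : x ∈ W' := ⟨hxV, hxU⟩
    let j : W' ⟶ V := homOfLE inf_le_left
    obtain ⟨p, hp⟩ := (h W' inf_le_right).2 (rs (toPM N) j q)
    refine ⟨gm (toPM M) x W' hxW' p, ?_⟩
    rw [sm_gm]
    have : (toPMMap φ).app (op W') p = rs (toPM N) j q := hp
    rw [this, gm_rs]

end General

section Alg

variable {R : Type u} [CommRing R] [IsLocalRing R]

/-- a direct factor of a finite free module over a local ring is finite free -/
theorem free_of_prod {M N P : Type u} [AddCommGroup M] [Module R M] [AddCommGroup N] [Module R N]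
    [AddCommGroup P] [Module R P] [Module.Free R M] [Module.Finite R M] (e : M ≃ₗ[R] N × P) :
    (Module.Free R N ∧ Module.Finite R N) ∧ (Module.Free R P ∧ Module.Finite R P) := by
  have hN : Module.Finite R N :=
    Module.Finite.of_surjective ((LinearMap.fst R N P).comp e.toLinearMap)
      (fun n => ⟨e.symm (n, 0), by simp⟩)
  have hP : Module.Finite R P :=
    Module.Finite.of_surjective ((LinearMap.snd R N P).comp e.toLinearMap)
      (fun p => ⟨e.symm (0, p), by simp⟩)
  have hNp : Module.Projective R N :=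
    Module.Projective.of_split (e.symm.toLinearMap.comp (LinearMap.inl R N P))
      ((LinearMap.fst R N P).comp e.toLinearMap) (by ext n; simp)
  have hPp : Module.Projective R P :=
    Module.Projective.of_split (e.symm.toLinearMap.comp (LinearMap.inr R N P))
      ((LinearMap.snd R N P).comp e.toLinearMap) (by ext n; simp)
  exact ⟨⟨Module.free_of_flat_of_isLocalRing, hN⟩, ⟨Module.free_of_flat_of_isLocalRing, hP⟩⟩

/-- rank count for two successive splittings -/
theorem finrank_of_two_splittings {V K B L C : Type u} [AddCommGroup V] [Module R V]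
    [AddCommGroup K] [Module R K] [AddCommGroup B] [Module R B] [AddCommGroup L] [Module R L]
    [AddCommGroup C] [Module R C] [Module.Free R V] [Module.Finite R V]
    (e₁ : V ≃ₗ[R] K × B) (e₂ : K ≃ₗ[R] L × C) (m : ℕ) (hV : Module.finrank R V = m + 2)
    (hB : Module.finrank R B = 1) (hL : Module.finrank R L = 1) :
    Module.Free R C ∧ Module.Finite R C ∧ Module.finrank R C = m := by
  obtain ⟨⟨hKf, hKfin⟩, ⟨hBf, hBfin⟩⟩ := free_of_prod e₁
  obtain ⟨⟨hLf, hLfin⟩, ⟨hCf, hCfin⟩⟩ := free_of_prod e₂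
  refine ⟨hCf, hCfin, ?_⟩
  have h1 := e₁.finrank_eq
  have h2 := e₂.finrank_eq
  rw [Module.finrank_prod] at h1 h2
  omega

end Alg

section Cat

variable {𝒞 : Type*} [Category 𝒞] [Abelian 𝒞] {R : Type u} [CommRing R]
  (T : 𝒞 ⥤ ModuleCat.{u} R) [T.Additive] [PreservesFiniteLimits T] [PreservesFiniteColimits T]

/-- the two splittings, after an exact functor to modules under which a component of `e` and a component of `v` become
isomorphisms -/
theorem nonempty_linearEquivs {ι : Type} [Fintype ι] [DecidableEq ι] (A : ι → 𝒞) (L B : 𝒞)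
    (e : ∀ j, A j ⟶ B) (v : ∀ j, L ⟶ A j)
    (hcomp : biproduct.lift v ≫ biproduct.desc e = 0) [Epi (biproduct.desc e)]
    [Mono (biproduct.lift v)]
    (i j₀ : ι) [IsIso (T.map (e i))] [IsIso (T.map (v j₀))] :
    Nonempty (T.obj (⨁ A) ≃ₗ[R] T.obj (kernel (biproduct.desc e)) × T.obj B) ∧
    Nonempty (T.obj (kernel (biproduct.desc e)) ≃ₗ[R]
      T.obj L × T.obj (cokernel (kernel.lift (biproduct.desc e) (biproduct.lift v) hcomp))) := by
  constructor
  · let S1 : ShortComplex 𝒞 :=
      ShortComplex.mk (kernel.ι (biproduct.desc e)) (biproduct.desc e) (kernel.condition _)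
    have hS1 : S1.ShortExact :=
      { exact := ShortComplex.exact_kernel _
        mono_f := equalizer.ι_mono
        epi_g := inferInstanceAs (Epi (biproduct.desc e)) }
    have hS1T := hS1.map_of_exact T
    let a : T.obj B ⟶ T.obj (⨁ A) := inv (T.map (e i)) ≫ T.map (biproduct.ι A i)
    have ha : a ≫ (S1.map T).g = 𝟙 _ := by
      change (inv (T.map (e i)) ≫ T.map (biproduct.ι A i)) ≫ T.map (biproduct.desc e) = 𝟙 _
      rw [Category.assoc, ← T.map_comp, biproduct.ι_desc, IsIso.inv_hom_id]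
    let sp := ShortComplex.Splitting.ofExactOfSection (S1.map T) hS1T.exact a ha hS1T.mono_f
    exact ⟨(sp.isoBinaryBiproduct ≪≫ ModuleCat.biprodIsoProd _ _).toLinearEquiv⟩
  · haveI : Mono (kernel.lift (biproduct.desc e) (biproduct.lift v) hcomp) :=
      mono_of_mono_fac (kernel.lift_ι _ _ hcomp)
    let S2 : ShortComplex 𝒞 :=
      ShortComplex.mk (kernel.lift (biproduct.desc e) (biproduct.lift v) hcomp)
        (cokernel.π _) (cokernel.condition _)
    have hS2 : S2.ShortExact :=
      { exact := ShortComplex.exact_cokernel _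
        mono_f := inferInstanceAs (Mono (kernel.lift (biproduct.desc e) (biproduct.lift v) hcomp))
        epi_g := inferInstanceAs (Epi (cokernel.π _)) }
    have hS2T := hS2.map_of_exact T
    let r : T.obj (kernel (biproduct.desc e)) ⟶ T.obj L :=
      T.map (kernel.ι (biproduct.desc e) ≫ biproduct.π A j₀) ≫ inv (T.map (v j₀))
    have hr : (S2.map T).f ≫ r = 𝟙 _ := by
      change T.map (kernel.lift (biproduct.desc e) (biproduct.lift v) hcomp) ≫
        T.map (kernel.ι (biproduct.desc e) ≫ biproduct.π A j₀) ≫ inv (T.map (v j₀)) = 𝟙 _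
      rw [← Category.assoc, ← T.map_comp, kernel.lift_ι_assoc, biproduct.lift_π,
        IsIso.hom_inv_id]
    let sp := ShortComplex.Splitting.ofExactOfRetraction (S2.map T) hS2T.exact r hr hS2T.epi_g
    exact ⟨(sp.isoBinaryBiproduct ≪≫ ModuleCat.biprodIsoProd _ _).toLinearEquiv⟩

end Cat

section Sch

variable {X : Scheme.{u}}

/-- the stalk of an invertible module is free of rank one -/
theorem stalk_free_rank_one (L : X.Modules) (hL : PicF.IsInvertible L) (x : X) :
    Module.Free (Groth.Agent.Lib.Helper1.Sky.Ox x) (St (toPM L) x) ∧ Module.Finite (Groth.Agent.Lib.Helper1.Sky.Ox x) (St (toPM L) x) ∧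
      Module.finrank (Groth.Agent.Lib.Helper1.Sky.Ox x) (St (toPM L) x) = 1 := by
  obtain ⟨g, hg⟩ := Groth.Agent.Lib.Helper20.RegMero.exists_isGen L hL x
  let e : Groth.Agent.Lib.Helper1.Sky.Ox x ≃ₗ[Groth.Agent.Lib.Helper1.Sky.Ox x] St (toPM L) x :=
    LinearEquiv.ofBijective (LinearMap.toSpanSingleton (Groth.Agent.Lib.Helper1.Sky.Ox x) (St (toPM L) x) g) hg
  exact ⟨Module.Free.of_equiv e, Module.Finite.equiv e, by
    rw [← e.finrank_eq, Module.finrank_self]⟩

/-- **cokernels of nowhere vanishing maps into kernels of nowhere vanishing maps**: for invertible `A_j`, `L`, `B`,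
`ev = (e_j) : ⨁ A_j ⟶ B` an epimorphism and `u = (v_j) : L ⟶ ⨁ A_j` a monomorphism with `u ≫ ev = 0` such that at
every point some `e_i` and some `v_j` are isomorphisms on the stalk, the cokernel of `L ⟶ ker ev` is finite locally
free of rank `#ι - 2`. -/
theorem isFinLocFreeOfRank_cokernel [IsLocallyNoetherian X] {ι : Type} [Fintype ι] [DecidableEq ι]
    (A : ι → X.Modules) (L B : X.Modules)
    (hA : ∀ j, PicF.IsInvertible (A j)) (hL : PicF.IsInvertible L) (hB : PicF.IsInvertible B)
    (hVc : Coh.IsCoh (⨁ A)) (hLc : Coh.IsCoh L) (hBc : Coh.IsCoh B)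
    (e : ∀ j, A j ⟶ B) (v : ∀ j, L ⟶ A j)
    (hcomp : biproduct.lift v ≫ biproduct.desc e = 0) [Epi (biproduct.desc e)]
    [Mono (biproduct.lift v)]
    (hloc : ∀ x : X, ∃ i j₀, IsIso ((stalkFun x).map (e i)) ∧ IsIso ((stalkFun x).map (v j₀)))
    (m : ℕ) (hm : Fintype.card ι = m + 2) :
    FlatMod.IsFinLocFreeOfRank m
      (cokernel (kernel.lift (biproduct.desc e) (biproduct.lift v) hcomp)) := by
  have hKc : Coh.IsCoh (kernel (biproduct.desc e)) :=
    Groth.Agent.Lib.R2H2.PdSheaf.isCoh_kernel hVc hBc _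
  have hCc : Coh.IsCoh (cokernel (kernel.lift (biproduct.desc e) (biproduct.lift v) hcomp)) := by
    have hKq : (kernel (biproduct.desc e)).IsQuasicoherent := hKc.1
    have hLq : L.IsQuasicoherent := hLc.1
    have hq : (cokernel (kernel.lift (biproduct.desc e) (biproduct.lift v) hcomp)).IsQuasicoherent :=
      Groth.Agent.Lib.Helper23.QCohLocal.isQuasicoherent_cokernel _
    exact ⟨hq, @Groth.Agent.Lib.Helper23.FinType.isFiniteType_of_epi X _ _ hKq hq (cokernel.π _)
      inferInstance hKc.2⟩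
  intro x
  obtain ⟨i, j₀, hi, hj⟩ := hloc x
  obtain ⟨⟨e₁⟩, ⟨e₂⟩⟩ := nonempty_linearEquivs (stalkFun x) A L B e v hcomp i j₀
  -- the stalk of `⨁ A`
  let eV : (stalkFun x).obj (⨁ A) ≃ₗ[Groth.Agent.Lib.Helper1.Sky.Ox x] (∀ j, (stalkFun x).obj (A j)) :=
    ((stalkFun x).mapBiproduct A ≪≫ ModuleCat.biproductIsoPi _).toLinearEquiv
  haveI : ∀ j, Module.Free (Groth.Agent.Lib.Helper1.Sky.Ox x) ((stalkFun x).obj (A j)) := fun j =>
    (stalk_free_rank_one (A j) (hA j) x).1
  haveI : ∀ j, Module.Finite (Groth.Agent.Lib.Helper1.Sky.Ox x) ((stalkFun x).obj (A j)) := fun j =>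
    (stalk_free_rank_one (A j) (hA j) x).2.1
  haveI : Module.Free (Groth.Agent.Lib.Helper1.Sky.Ox x) ((stalkFun x).obj (⨁ A)) := Module.Free.of_equiv eV.symm
  haveI : Module.Finite (Groth.Agent.Lib.Helper1.Sky.Ox x) ((stalkFun x).obj (⨁ A)) := Module.Finite.equiv eV.symm
  have hVr : Module.finrank (Groth.Agent.Lib.Helper1.Sky.Ox x) ((stalkFun x).obj (⨁ A)) = m + 2 := by
    rw [eV.finrank_eq, Module.finrank_pi_fintype]
    have h1 : ∀ j, Module.finrank (Groth.Agent.Lib.Helper1.Sky.Ox x) ((stalkFun x).obj (A j)) = 1 :=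
      fun j => (stalk_free_rank_one (A j) (hA j) x).2.2
    rw [Finset.sum_congr rfl (fun j _ => h1 j)]
    rw [Finset.sum_const, Finset.card_univ, hm, smul_eq_mul, mul_one]
  obtain ⟨hCf, hCfin, hCr⟩ := finrank_of_two_splittings e₁ e₂ m hVr
    (stalk_free_rank_one B hB x).2.2 (stalk_free_rank_one L hL x).2.2
  let b := Module.finBasisOfFinrankEq (Groth.Agent.Lib.Helper1.Sky.Ox x) _ hCr
  exact Groth.Agent.Lib.R2H2.FibreFree.exists_restrict_iso_freeMod_of_stalk_basis _ hCc x m b

end Sch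

section Pn

open Groth.Agent.Lib.Helper27GrTildeSect Groth.Agent.Lib.R2H2.PnMul Groth.Agent.Lib.R2H2.PnHom
open Groth.Agent.Lib.R2H2.KoszulAbs Groth.Agent.Lib.R2H2.PnBridge Groth.Agent.Lib.R2H2.PnEulerSeq

variable (n : ℕ) (R : Type u) [CommRing R]

local notation "𝒢" => CohB1.polyGrading n R
local notation "AA" => MvPolynomial (Fin (n + 1)) R

/-- multiplication by a homogeneous element is bijective on the sections over opens where it does not vanish -/
theorem bijective_mulP_app {k₀ : ℕ} {a : AA} (ha : a ∈ CohB1.polyGrading n R k₀) {p q : ℤ}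
    (h : p + k₀ = q) (W : (Proj 𝒢).Opens) (hW : ∀ y : W, a ∉ y.1.asHomogeneousIdeal) :
    Function.Bijective ((mulP 𝒢 𝒢 ha h).app W) :=
  bijective_mulSec_fracSec 𝒢 𝒢 h W ha (SetLike.GradedOne.one_mem : (1 : AA) ∈ 𝒢 0) (by simp)
    (fun y => Groth.Agent.Lib.Helper27GrTildeSect.one_not_mem 𝒢 y.1) hW

/-- multiplication by a homogeneous element is an isomorphism on the stalks at the points where it does not vanish -/
theorem isIso_stalkFun_map_mulP {k₀ : ℕ} {a : AA} (ha : a ∈ CohB1.polyGrading n R k₀) {p q : ℤ}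
    (h : p + k₀ = q) (x : Proj 𝒢)
    (hx : a ∉ (show ProjectiveSpectrum 𝒢 from x).asHomogeneousIdeal) :
    IsIso ((stalkFun x).map (mulP 𝒢 𝒢 ha h)) := by
  have hb := bijective_sm_of_local_bijective (mulP 𝒢 𝒢 ha h) x (Proj.basicOpen 𝒢 a)
    ((ProjectiveSpectrum.mem_basicOpen 𝒢 a _).mpr hx)
    (fun W hW => bijective_mulP_app n R ha h W
      (fun y => (ProjectiveSpectrum.mem_basicOpen 𝒢 a y.1).mp (hW y.2)))
  exact (ConcreteCategory.isIso_iff_bijective _).2 hb

end Pn

section Main

open Groth.Agent.Lib.Helper27GrTildeSect Groth.Agent.Lib.R2H2.PnMul Groth.Agent.Lib.R2H2.PnHom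
open Groth.Agent.Lib.R2H2.KoszulAbs Groth.Agent.Lib.R2H2.PnBridge Groth.Agent.Lib.R2H2.PnEulerSeq
open Groth.Agent.Lib.R2H2.PnSerre

variable (k : Type u) [Field k] (m : ℕ)

local notation "PX" => CohB1.ProjSpace (m + 1) k
local notation "DD" => KP (m + 1) k

/-- the twisting sheaves in the Koszul data -/
lemma hGT (i : ℕ) (d : ℤ) (h : -(((m + 1 : ℕ) : ℤ) + 1) + (i : ℤ) = d) :
    (DD).G i = Twist.twistProjSpace (m + 1) k d := by
  rw [KP_G, h]
  exact (Groth.Agent.Lib.R2H2.PnDual.twist_eq k (m + 1) d).symm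

lemma isInvertible_G (i : ℕ) : PicF.IsInvertible ((DD).G i) := by
  rw [hGT k m i _ rfl]
  exact isInv (m + 1) k _

lemma isCoh_G (i : ℕ) : Coh.IsCoh ((DD).G i) := by
  rw [hGT k m i _ rfl]
  exact Groth.Agent.Lib.R2H2.PnBeilinson.isCoh_twistSheaf k (m + 1) _

/-- the pairing involution `2a ↔ 2a+1` -/
def sg (hm : m % 2 = 0) (j : Fin (m + 1 + 1)) : Fin (m + 1 + 1) :=
  if h : j.val % 2 = 0 then ⟨j.val + 1, by have := j.2; omega⟩ else ⟨j.val - 1, by have := j.2; omega⟩

lemma sg_sg (hm : m % 2 = 0) (j : Fin (m + 1 + 1)) : sg m hm (sg m hm j) = j := by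
  apply Fin.ext
  unfold sg
  by_cases h : j.val % 2 = 0
  · have h2 : ¬ (j.val + 1) % 2 = 0 := by omega
    simp only [h, h2, dite_true, dite_false]
    omega
  · have h2 : (j.val - 1) % 2 = 0 := by omega
    simp only [h, h2, dite_true, dite_false]
    omega

lemma sg_ne (hm : m % 2 = 0) (j : Fin (m + 1 + 1)) : sg m hm j ≠ j := by
  intro h
  have h1 := congrArg Fin.val h
  unfold sg at h1
  by_cases h2 : j.val % 2 = 0
  · simp only [h2, dite_true] at h1
    omega
  · simp only [h2, dite_false] at h1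
    omega

/-- the signs -/
def ep (j : Fin (m + 1 + 1)) : ℤ := if j.val % 2 = 0 then 1 else -1

lemma ep_sg (hm : m % 2 = 0) (j : Fin (m + 1 + 1)) : ep m (sg m hm j) = -ep m j := by
  unfold ep sg
  by_cases h : j.val % 2 = 0
  · have h2 : ¬ (j.val + 1) % 2 = 0 := by omega
    simp only [h, h2, dite_true, if_true, if_false]
  · have h2 : (j.val - 1) % 2 = 0 := by omega
    simp only [h, h2, dite_false, if_true, if_false, neg_neg]

lemma ep_cases (j : Fin (m + 1 + 1)) : ep m j = 1 ∨ ep m j = -1 := by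
  unfold ep
  split_ifs
  · exact Or.inl rfl
  · exact Or.inr rfl

/-- the components of the null-correlation map `O(-2) ⟶ O(-1)^{n+1}` -/
noncomputable def vv (hm : m % 2 = 0) (j : Fin (m + 1 + 1)) : (DD).G m ⟶ (DD).G (m + 1) :=
  ep m j • (DD).X (sg m hm j) m

theorem vv_comp (hm : m % 2 = 0) :
    biproduct.lift (vv k m hm) ≫ biproduct.desc (fun l => (DD).X l (m + 1)) = 0 := by
  rw [biproduct.lift_desc]
  refine Finset.sum_involution (fun j _ => sg m hm j) ?_ ?_ ?_ ?_
  · intro j _
    unfold vv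
    rw [sg_sg, ep_sg, Preadditive.zsmul_comp, Preadditive.zsmul_comp, neg_smul,
      (DD).comm j (sg m hm j) m]
    exact add_neg_cancel _
  · intro j _ _
    exact sg_ne m hm j
  · intro j _
    exact Finset.mem_univ _
  · intro j _
    exact sg_sg m hm j

lemma isIso_map_zsmul_of_pm_one {C D : Type*} [Category C] [Preadditive C] [Category D]
    [Preadditive D] (T : C ⥤ D) [T.Additive] {X Y : C} (f : X ⟶ Y) [IsIso (T.map f)] (ε : ℤ)
    (hε : ε = 1 ∨ ε = -1) : IsIso (T.map (ε • f)) := by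
  rcases hε with rfl | rfl
  · rw [one_zsmul]
    infer_instance
  · rw [neg_one_zsmul, Functor.map_neg]
    exact ⟨⟨-inv (T.map f), by simp, by simp⟩⟩

theorem mono_lift_vv (hm : m % 2 = 0) : Mono (biproduct.lift (vv k m hm)) := by
  have h1 : biproduct.lift (vv k m hm) ≫ biproduct.π (fun _ : Fin (m + 1 + 1) => (DD).G (m + 1)) 0 =
      (DD).X (sg m hm 0) m := by
    rw [biproduct.lift_π]
    unfold vv ep
    simp
  haveI : Mono ((DD).X (sg m hm 0) m) := by
    rw [KP_X]
    exact Groth.Agent.Lib.R2H2.PnSerreCorr.mono_mulP (m + 1) k _ (MvPolynomial.X_ne_zero _) _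
  haveI : Mono (biproduct.lift (vv k m hm) ≫
      biproduct.π (fun _ : Fin (m + 1 + 1) => (DD).G (m + 1)) 0) := by
    rw [h1]
    infer_instance
  exact mono_of_mono _ (biproduct.π (fun _ : Fin (m + 1 + 1) => (DD).G (m + 1)) 0)

/-- the cokernel of the null-correlation map `O(-2) ⟶ Ω` is locally free of rank `n - 1` -/
theorem isFinLocFreeOfRank_coker (hm : m % 2 = 0) :
    FlatMod.IsFinLocFreeOfRank m (cokernel (kernel.lift (eulK (m + 1) k)
      (biproduct.lift (vv k m hm)) (vv_comp k m hm))) := by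
  haveI : IsLocallyNoetherian PX :=
    Groth.Agent.Lib.R2H2.PnFinite.isLocallyNoetherian_projSpace (m + 1) k
  haveI : Epi (biproduct.desc fun l => (DD).X l (m + 1)) := epi_eulK (m + 1) k
  haveI := mono_lift_vv k m hm
  have hVc : Coh.IsCoh (⨁ fun _ : Fin (m + 1 + 1) => (DD).G (m + 1)) := by
    have hfun : (fun _ : Fin (m + 1 + 1) => (DD).G (m + 1)) =
        fun _ => Twist.twistProjSpace (m + 1) k (-((m + 1 : ℕ) + 1 : ℤ) + ((m + 1 : ℕ) : ℤ)) :=
      funext fun _ => hGT k m (m + 1) _ rfl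
    rw [hfun]
    exact Groth.Agent.Lib.R2H2.PdSheaf.isCoh_of_iso (biproduct.isoCoproduct _).symm
      (Groth.Agent.Lib.R2H2.PnBeilinson.isCoh_coprod_twist k (m + 1) _)
  refine isFinLocFreeOfRank_cokernel (fun _ : Fin (m + 1 + 1) => (DD).G (m + 1)) ((DD).G m)
    ((DD).G (m + 1 + 1)) (fun _ => isInvertible_G k m _) (isInvertible_G k m _)
    (isInvertible_G k m _) hVc (isCoh_G k m _) (isCoh_G k m _)
    (fun l => (DD).X l (m + 1)) (vv k m hm) (vv_comp k m hm) ?_ m (by simp)
  intro x
  let y : ProjectiveSpectrum (CohB1.polyGrading (m + 1) k) := x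
  have hy := ich_spec (n := m + 1) (R := k) y
  refine ⟨ich y, sg m hm (ich y), ?_, ?_⟩
  · rw [KP_X]
    exact isIso_stalkFun_map_mulP (m + 1) k _ _ x hy
  · have h1 : vv k m hm (sg m hm (ich y)) = ep m (sg m hm (ich y)) • (DD).X (ich y) m := by
      unfold vv
      rw [sg_sg]
    rw [h1]
    haveI : IsIso ((stalkFun x).map ((DD).X (ich y) m)) := by
      rw [KP_X]
      exact isIso_stalkFun_map_mulP (m + 1) k _ _ x hy
    exact isIso_map_zsmul_of_pm_one (stalkFun x) _ _ (ep_cases m _)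

/-- **existence of null-correlation bundles**: for odd `n` there is a monomorphism `O(-1) ⟶ Ω(1)` on `P^n_k` with
locally free cokernel of rank `n - 1` -/
theorem exists_nullCorrelation (n : ℕ) (hn : Odd n) :
    ∃ u : Twist.twistProjSpace n k (-1) ⟶
        CohB1.tensorMod (Omega.sheaf (CohB1.ProjSpace.toSpec n k)) (Twist.twistProjSpace n k 1),
      Mono u ∧ FlatMod.IsFinLocFreeOfRank (n - 1) (cokernel u) := by
  obtain ⟨m, rfl⟩ : ∃ m, n = m + 1 := ⟨n - 1, by have := hn.pos; omega⟩
  have hm : m % 2 = 0 := by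
    obtain ⟨t, ht⟩ := hn
    omega
  haveI : IsProper (CohB1.ProjSpace.toSpec (m + 1) k) :=
    Groth.Agent.S9705.isProper_projSpace_toSpec (m + 1) k
  haveI : QuasiSeparated (CohB1.ProjSpace.toSpec (m + 1) k) := inferInstance
  obtain ⟨eΩ⟩ := nonempty_omega_iso (m + 1) k
  obtain ⟨eT⟩ := Groth.Agent.Lib.R2Lead.KRR.nonempty_twistProjSpace_tensor_iso (m + 1) k (-2) 1
  have hG : (KP (m + 1) k).G m = Twist.twistProjSpace (m + 1) k (-2) :=
    hGT k m m (-2) (by push_cast; ring)
  have hinv1 : PicF.IsInvertible (Twist.twistProjSpace (m + 1) k 1) := isInv (m + 1) k 1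
  let a1 : Twist.twistProjSpace (m + 1) k (-1) ≅ Twist.twistProjSpace (m + 1) k (-2 + 1) :=
    eqToIso (congrArg (Twist.twistProjSpace (m + 1) k) (by norm_num : (-1 : ℤ) = -2 + 1))
  let a2 : Twist.twistProjSpace (m + 1) k (-2 + 1) ≅
      (twR (Twist.twistProjSpace (m + 1) k 1)).obj (Twist.twistProjSpace (m + 1) k (-2)) := eT.symm
  let a3 : (twR (Twist.twistProjSpace (m + 1) k 1)).obj (Twist.twistProjSpace (m + 1) k (-2)) ≅
      (twR (Twist.twistProjSpace (m + 1) k 1)).obj ((KP (m + 1) k).G m) :=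
    (twR (Twist.twistProjSpace (m + 1) k 1)).mapIso (eqToIso hG.symm)
  let a : Twist.twistProjSpace (m + 1) k (-1) ≅
      (twR (Twist.twistProjSpace (m + 1) k 1)).obj ((KP (m + 1) k).G m) := a1 ≪≫ a2 ≪≫ a3
  let b : (twR (Twist.twistProjSpace (m + 1) k 1)).obj (kernel (eulK (m + 1) k)) ≅
      CohB1.tensorMod (Omega.sheaf (CohB1.ProjSpace.toSpec (m + 1) k))
        (Twist.twistProjSpace (m + 1) k 1) :=
    (twR (Twist.twistProjSpace (m + 1) k 1)).mapIso eΩ.symm
  haveI := mono_lift_vv k m hm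
  haveI hmono : Mono (kernel.lift (eulK (m + 1) k) (biproduct.lift (vv k m hm)) (vv_comp k m hm)) :=
    mono_of_mono_fac (kernel.lift_ι _ _ (vv_comp k m hm))
  let S2 : ShortComplex (CohB1.ProjSpace (m + 1) k).Modules :=
    ShortComplex.mk (kernel.lift (eulK (m + 1) k) (biproduct.lift (vv k m hm)) (vv_comp k m hm))
      (cokernel.π _) (cokernel.condition _)
  have hS2 : S2.ShortExact :=
    { exact := ShortComplex.exact_cokernel _
      mono_f := hmono
      epi_g := inferInstanceAs (Epi (cokernel.π _)) }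
  have hS2' := shortExact_map_twR _ hinv1 S2 hS2
  haveI := hS2'.mono_f
  haveI := hS2'.epi_g
  haveI hm1 : Mono ((S2.map (twR (Twist.twistProjSpace (m + 1) k 1))).f ≫ b.hom) := mono_comp _ _
  refine ⟨a.hom ≫ (S2.map (twR (Twist.twistProjSpace (m + 1) k 1))).f ≫ b.hom,
    @mono_comp _ _ _ _ _ a.hom inferInstance _ hm1, ?_⟩
  have hC := isFinLocFreeOfRank_coker k m hm
  have hC1 : FlatMod.IsFinLocFreeOfRank m (S2.map (twR (Twist.twistProjSpace (m + 1) k 1))).X₃ :=
    Groth.Agent.Lib.R2H1.DegCartier.isFinLocFreeOfRank_tensor_invertible m _ _ hC hinv1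
  have e1 : (S2.map (twR (Twist.twistProjSpace (m + 1) k 1))).X₃ ≅
      cokernel (S2.map (twR (Twist.twistProjSpace (m + 1) k 1))).f :=
    (hS2'.exact.gIsCokernel).coconePointUniqueUpToIso (colimit.isColimit _)
  have e2 : cokernel (S2.map (twR (Twist.twistProjSpace (m + 1) k 1))).f ≅
      cokernel (a.hom ≫ (S2.map (twR (Twist.twistProjSpace (m + 1) k 1))).f ≫ b.hom) :=
    cokernel.mapIso _ _ a.symm b (Iso.inv_hom_id_assoc a _).symm
  exact Groth.Agent.Lib.R2H2.PnLocFree.isFinLocFreeOfRank_of_iso (e1 ≪≫ e2) hC1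

end Main

end Groth.Agent.Lib.R2H2.PnNullCorrExist
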