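import Groth.Agent.Lib.R2H2PnNullCorr
import Groth.Agent.Lib.R2H2PnSplitType
import Groth.Agent.Lib.R2H4DegAdd
import Groth.Agent.Lib.R2H1SkyDecomp

/-!
# Isomorphism classes of quotients `Ω^1(1)/O(-1)` on projective space (helper2, round 2)

For monomorphisms `a a' : O(-1) → Ω(1)` with nonzero cokernels: `coker a ≅ coker a'` iff `a' = c·a`
with `c ≠ 0`.
-/

set_option backward.isDefEq.respectTransparency.types false
set_option autoImplicit false
set_option linter.unusedSectionVars false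
universe u

namespace Groth.Agent.Lib.R2H2.PnNullCorrIso

open CategoryTheory CategoryTheory.Limits AlgebraicGeometry Abelian
open Groth.Agent.Lib.R2H2.KoszulAbs Groth.Agent.Lib.R2H2.HHLin Groth.Agent.Lib.R2H2.KoszulShift
open Groth.Agent.Lib.R2H2.KoszulTw Groth.Agent.Lib.R2H2.PnSerre Groth.Agent.Lib.R2H2.PnBridge
open Groth.Agent.Lib.R2H2.PnBott Groth.Agent.Lib.R2H2.PnTwEquiv Groth.Agent.Lib.R2H2.PnOmSimple
open Groth.Agent.Lib.R2H2.PnNullCorr

section A

variable {X : Scheme.{u}}

/-- a locally free module of positive rank on a nonempty scheme is not zero -/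
theorem not_isZero_of_rank_pos [Nonempty X] {M : X.Modules} {r : ℕ}
    (hM : FlatMod.IsFinLocFreeOfRank r M) (hr : 0 < r) : ¬ IsZero M := by
  intro hz
  obtain ⟨x⟩ := (inferInstance : Nonempty X)
  obtain ⟨f1, t1, r1⟩ := Groth.Agent.Lib.R2H4DegAdd.stalk_facts hM x
  haveI : Subsingleton (M.presheaf.stalk x) := by
    refine subsingleton_of_forall_eq 0 fun y => ?_
    obtain ⟨U, hxU, m, rfl⟩ := TopCat.Presheaf.exists_germ_eq M.presheaf (x := x) y
    haveI := Groth.Agent.Lib.R2H1.SkyDecomp.subsingleton_sections_of_isZero hz U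
    rw [Subsingleton.elim m 0, map_zero]
  rw [Module.finrank_zero_of_subsingleton] at r1
  omega

end A

section Pn

variable (k : Type u) [Field k] (n : ℕ)

/-- `End(O(m)) = k` -/
theorem end_twist (m : ℤ) (μ : Twist.twistProjSpace n k m ⟶ Twist.twistProjSpace n k m) :
    ∃ d : k, μ = d • 𝟙 _ := by
  haveI := isEquivalence_Tw k n (-m)
  obtain ⟨t⟩ := Groth.Agent.Lib.R2Lead.KRR.nonempty_twistProjSpace_tensor_iso n k m (-m)
  have e : (Tw n k (-m)).obj (Twist.twistProjSpace n k m) ≅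
      Coh.structureModule (CohB1.ProjSpace n k) :=
    t ≪≫ eqToIso (congrArg (fun j : ℤ => Twist.twistProjSpace n k j)
      (by ring : m + -m = 0)) ≪≫
      (Groth.Agent.Lib.R2Lead.KRR.nonempty_twistProjSpace_zero_iso n k).some
  obtain ⟨d, hd⟩ := end_of_iso_unit k n e ((Tw n k (-m)).map μ)
  refine ⟨d, (Tw n k (-m)).map_injective ?_⟩
  rw [hd]
  exact ((Groth.Agent.Lib.R2H2.PnBeilinson.twR_map_smul _ d
    (𝟙 (Twist.twistProjSpace n k m))).trans (by rw [CategoryTheory.Functor.map_id]; rfl)).symm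

lemma not_isZero_twist (m : ℤ) : ¬ IsZero (Twist.twistProjSpace n k m) := by
  haveI : Nonempty (CohB1.ProjSpace n k) := Groth.Agent.Lib.R2H2.PnLocFree.nonempty_projSpace k n
  exact not_isZero_of_rank_pos
    (Groth.Agent.Lib.Helper23.SecTw.isFinLocFreeOfRank_one_of_isInvertible _
      (Groth.Agent.Lib.R2Lead.KRR.isInvertible_twistProjSpace n k m)) Nat.one_pos

variable [QuasiSeparated (CohB1.ProjSpace.toSpec n k)] [HasExt.{u} (CohB1.ProjSpace n k).Modules]

variable {k n}

/-- isomorphic cokernels ⇒ proportional -/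
theorem proportional_of_iso (a a' : Twist.twistProjSpace n k (-1) ⟶ OmTw k n) [Mono a] [Mono a']
    (hne : ¬ IsZero (cokernel a)) (θ : cokernel a ≅ cokernel a') :
    ∃ c : k, c ≠ 0 ∧ a' = a ≫ (c • 𝟙 _) := by
  obtain ⟨c, hc⟩ := exists_smul_π a' (cokernel.π a ≫ θ.hom)
  have hc0 : c ≠ 0 := by
    rintro rfl
    rw [zero_smul] at hc
    apply hne
    rw [IsZero.iff_id_eq_zero, ← cancel_epi (cokernel.π a), ← cancel_mono θ.hom, Category.comp_id,
      hc, comp_zero, zero_comp]
  have h1 : a ≫ cokernel.π a' = 0 := by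
    have h2 : c • (a ≫ cokernel.π a') = 0 := by
      rw [← Linear.comp_smul, ← hc, cokernel.condition_assoc, zero_comp]
    have h3 := congrArg (fun f => c⁻¹ • f) h2
    simpa [smul_smul, inv_mul_cancel₀ hc0] using h3
  have hS := sesU_shortExact a'
  haveI : Mono (sesU a').f := hS.mono_f
  obtain ⟨d, hd⟩ := end_twist k n (-1) (hS.exact.lift a h1)
  have h4 : hS.exact.lift a h1 ≫ a' = a := hS.exact.lift_f a h1
  rw [hd, Linear.smul_comp, Category.id_comp] at h4
  have hd0 : d ≠ 0 := by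
    rintro rfl
    rw [zero_smul] at h4
    apply not_isZero_twist k n (-1)
    rw [IsZero.iff_id_eq_zero, ← cancel_mono a, ← h4, comp_zero, comp_zero]
  refine ⟨d⁻¹, inv_ne_zero hd0, ?_⟩
  rw [Linear.comp_smul, Category.comp_id, ← h4, smul_smul, inv_mul_cancel₀ hd0, one_smul]

omit [QuasiSeparated (CohB1.ProjSpace.toSpec n k)] [HasExt.{u} (CohB1.ProjSpace n k).Modules] in
/-- proportional ⇒ isomorphic cokernels -/
theorem iso_of_proportional (a a' : Twist.twistProjSpace n k (-1) ⟶ OmTw k n)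
    (c : k) (hc : c ≠ 0) (h : a' = a ≫ (c • 𝟙 _)) : Nonempty (cokernel a ≅ cokernel a') := by
  let q : OmTw k n ≅ OmTw k n :=
    { hom := c • 𝟙 _
      inv := c⁻¹ • 𝟙 _
      hom_inv_id := by
        rw [Linear.smul_comp, Linear.comp_smul, Category.id_comp, smul_smul, mul_inv_cancel₀ hc,
          one_smul]
      inv_hom_id := by
        rw [Linear.smul_comp, Linear.comp_smul, Category.id_comp, smul_smul, inv_mul_cancel₀ hc,
          one_smul] }
  exact ⟨cokernel.mapIso a a' (Iso.refl _) q (by rw [h]; simp [q])⟩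

end Pn

end Groth.Agent.Lib.R2H2.PnNullCorrIso
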