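import Groth.Agent.Lib.R2H2PnLinRestr
import Groth.Agent.Lib.Helper23RestrTensor
import Groth.Agent.Lib.R2H2PnHorrocks
import Groth.Agent.Lib.R2H2PnBott
import Groth.Agent.Lib.R2H2PnTwEquiv
import Groth.Agent.Lib.R2H2PnSerre
import Groth.Agent.Lib.R2H2ExtPowOne

/-!
# A null-correlation bundle on `P^3` restricted to a plane (helper2, round 2)

Namespace `Groth.Agent.Lib.R2H2.PnNullCorrRestr`: for a monomorphism `u : O(-1) ⟶ Ω(1)` on `P^3_k` with locally
free cokernel `M` and `i : P^2_k ⟶ P^3_k` with `i^*O(1) ≅ O(1)`: `H^0(i^*M(-1)) = 0` and `H^0(i^*M) ≠ 0` (`main`).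
General helpers: `subsingleton_HH_biprod`, `nontrivial_HH_of_iso`, `injective_HmapL_inr`.
-/

set_option backward.isDefEq.respectTransparency.types false
set_option autoImplicit false
universe u

namespace Groth.Agent.Lib.R2H2.PnNullCorrRestr

open CategoryTheory CategoryTheory.Limits AlgebraicGeometry
open Groth.Agent.Lib.R2H2.HHLin Groth.Agent.Lib.R2H2.PnSerre Groth.Agent.Lib.R2H4TensorPows
open Groth.Agent.Lib.R2H2.PnLinRestr

section General

variable {X : Scheme.{u}}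

lemma subsingleton_HH_biprod (M N : X.Modules) (i : ℕ) (hM : Subsingleton (Coh.HH X M i))
    (hN : Subsingleton (Coh.HH X N i)) : Subsingleton (Coh.HH X (M ⊞ N) i) := by
  have h0 : ∀ x : Coh.HH X (M ⊞ N) i, x = 0 := fun x => by
    have h1 : (biprod.fst ≫ biprod.inl + biprod.snd ≫ biprod.inr : M ⊞ N ⟶ M ⊞ N) = 𝟙 _ :=
      biprod.total
    have h2 : HmapL (biprod.fst ≫ biprod.inl + biprod.snd ≫ biprod.inr : M ⊞ N ⟶ M ⊞ N) i x = x := by
      rw [h1, HmapL_id]
    rw [HmapL_add, HmapL_comp, HmapL_comp,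
      Subsingleton.elim (HmapL (biprod.fst : M ⊞ N ⟶ M) i x) 0,
      Subsingleton.elim (HmapL (biprod.snd : M ⊞ N ⟶ N) i x) 0, map_zero, map_zero, add_zero] at h2
    exact h2.symm
  exact ⟨fun a b => (h0 a).trans (h0 b).symm⟩

lemma injective_HmapL_of_iso {M N : X.Modules} (e : M ≅ N) (i : ℕ) :
    Function.Injective (HmapL e.hom i) := by
  intro a b hab
  have h1 : ∀ x : Coh.HH X M i, HmapL e.inv i (HmapL e.hom i x) = x := fun x => by
    rw [← HmapL_comp, e.hom_inv_id, HmapL_id]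
  rw [← h1 a, ← h1 b, hab]

lemma nontrivial_HH_of_iso {M N : X.Modules} (e : M ≅ N) (i : ℕ) (h : Nontrivial (Coh.HH X M i)) :
    Nontrivial (Coh.HH X N i) :=
  (injective_HmapL_of_iso e i).nontrivial

lemma injective_HmapL_inr (M N : X.Modules) (i : ℕ) :
    Function.Injective (HmapL (biprod.inr : N ⟶ M ⊞ N) i) := by
  intro a b hab
  have h1 : ∀ x : Coh.HH X N i, HmapL (biprod.snd : M ⊞ N ⟶ N) i (HmapL biprod.inr i x) = x :=
    fun x => by rw [← HmapL_comp, biprod.inr_snd, HmapL_id]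
  rw [← h1 a, ← h1 b, hab]

end General

section Main

variable (k : Type u) [Field k]

local notation "P3" => CohB1.ProjSpace 3 k
local notation "P2" => CohB1.ProjSpace 2 k
local notation "O3" => Twist.twistProjSpace 3 k
local notation "O2" => Twist.twistProjSpace 2 k

theorem main
    (u : O3 (-1) ⟶ CohB1.tensorMod (Omega.sheaf (CohB1.ProjSpace.toSpec 3 k)) (O3 1))
    [Mono u] (hM : FlatMod.IsFinLocFreeOfRank 2 (cokernel u))
    (i : P2 ⟶ P3)
    (hO : Nonempty ((Scheme.Modules.pullback i).obj (O3 1) ≅ O2 1)) :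
    Subsingleton (Coh.HH P2
        (CohB1.tensorMod ((Scheme.Modules.pullback i).obj (cokernel u)) (O2 (-1))) 0) ∧
      Nontrivial (Coh.HH P2 ((Scheme.Modules.pullback i).obj (cokernel u)) 0) := by
  haveI : IsProper (CohB1.ProjSpace.toSpec 2 k) := Groth.Agent.S9705.isProper_projSpace_toSpec 2 k
  haveI : QuasiSeparated (CohB1.ProjSpace.toSpec 2 k) := inferInstance
  -- the pulled back sequence
  let S : ShortComplex (P3).Modules := ShortComplex.mk u (cokernel.π u) (cokernel.condition u)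
  have hS : S.ShortExact :=
    { exact := ShortComplex.exact_cokernel u
      mono_f := inferInstanceAs (Mono u)
      epi_g := inferInstanceAs (Epi (cokernel.π u)) }
  have hfl : FlatMod.IsFlat S.X₃ :=
    Groth.Agent.Lib.R2H2.PullLF.isFlat_of_isFinLocFree _
      (fun x => by
        obtain ⟨U, hx, e⟩ := hM x
        exact ⟨U, 2, hx, e⟩)
  have hS' := Groth.Agent.Lib.Helper1.Sky.shortExact_map_pullback i S hS hfl
  -- the terms
  obtain ⟨θ⟩ := hO
  obtain ⟨a⟩ := nonempty_pullback_neg_one_iso k 2 3 i ⟨θ⟩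
  obtain ⟨d, hd, ⟨e⟩⟩ := nonempty_pullback_omega_iso k 2 3 i ⟨θ⟩
  obtain rfl : d = 1 := by omega
  let ΩH := Omega.sheaf (CohB1.ProjSpace.toSpec 2 k)
  let Xs : (P2).Modules := ⨁ fun _ : Fin 1 => O2 (-1)
  have eX : Xs ≅ O2 (-1) := biproductUniqueIso (fun _ : Fin 1 => O2 (-1))
  have b : (S.map (Scheme.Modules.pullback i)).X₂ ≅ (twR (O2 1)).obj (ΩH ⊞ Xs) :=
    Groth.Agent.Lib.Helper23.RestrTensor.pullbackTensorIso _ _ i ≪≫ tIso e θ
  obtain ⟨z⟩ := Groth.Agent.Lib.R2Lead.KRR.nonempty_twistProjSpace_zero_iso 2 k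
  have hΩ : ExtPow.IsExtPow 1 ΩH ΩH := Groth.Agent.Lib.R2H2.ExtPowOne.isExtPow_one _
  haveI : ∀ L : (P2).Modules, PreservesBinaryBiproducts (twR L) := fun L =>
    preservesBinaryBiproducts_of_preservesBiproducts _
  refine ⟨?_, ?_⟩
  · -- `H^0(i^*M(-1)) = 0`
    have hS'' := shortExact_map_twR (O2 (-1)) (isInv 2 k (-1))
      (S.map (Scheme.Modules.pullback i)) hS'
    -- `H^1` of the first term
    have h1 : Subsingleton (Coh.HH P2 ((S.map (Scheme.Modules.pullback i)).map (twR (O2 (-1)))).X₁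
        (0 + 1)) := by
      obtain ⟨t⟩ := Groth.Agent.Lib.R2Lead.KRR.nonempty_twistProjSpace_tensor_iso 2 k (-1) (-1)
      refine subsingleton_HH_of_iso (tIso a (Iso.refl (O2 (-1))) ≪≫ t).symm 1
        (Groth.Agent.Lib.R2H2.PnTwEquiv.subsingleton_HH_twist 2 k _ 1 ?_ ?_)
      · rintro ⟨h, -⟩; omega
      · rintro ⟨h, -⟩; omega
    -- `H^0` of the middle term
    have h2 : Subsingleton (Coh.HH P2 ((S.map (Scheme.Modules.pullback i)).map (twR (O2 (-1)))).X₂
        0) := by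
      obtain ⟨t⟩ := Groth.Agent.Lib.R2Lead.KRR.nonempty_twistProjSpace_tensor_iso 2 k 1 (-1)
      have t' : CohB1.tensorMod (O2 1) (O2 (-1)) ≅ O2 0 := t ≪≫ eqToIso (by norm_num)
      have b2 : ((S.map (Scheme.Modules.pullback i)).map (twR (O2 (-1)))).X₂ ≅
          (twR (O2 0)).obj ΩH ⊞ (twR (O2 0)).obj Xs :=
        tIso b (Iso.refl (O2 (-1))) ≪≫ tAssoc _ _ _ ≪≫ tIso (Iso.refl _) t' ≪≫
          (twR (O2 0)).mapBiprod ΩH Xs
      refine subsingleton_HH_of_iso b2.symm 0 (subsingleton_HH_biprod _ _ 0 ?_ ?_)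
      · exact Groth.Agent.Lib.R2H2.PnBott.vanish_extPow 2 k hΩ 0 0 (by omega) (by omega) (by omega)
      · obtain ⟨t2⟩ := Groth.Agent.Lib.R2Lead.KRR.nonempty_twistProjSpace_tensor_iso 2 k (-1) 0
        refine subsingleton_HH_of_iso (tIso eX (Iso.refl (O2 0)) ≪≫ t2).symm 0
          (Groth.Agent.Lib.R2H2.PnTwEquiv.subsingleton_HH_twist 2 k _ 0 ?_ ?_)
        · rintro ⟨-, h⟩; omega
        · rintro ⟨h, -⟩; omega
    have h0 : ∀ x : Coh.HH P2 ((S.map (Scheme.Modules.pullback i)).map (twR (O2 (-1)))).X₃ 0,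
        x = 0 := fun x => by
      obtain ⟨y, hy⟩ := exact₃ _ hS'' 0 x (Subsingleton.elim _ _)
      rw [← hy, Subsingleton.elim y 0, map_zero]
    exact ⟨fun x y => (h0 x).trans (h0 y).symm⟩
  · -- `H^0(i^*M) ≠ 0`
    have h1 : Subsingleton (Coh.HH P2 (S.map (Scheme.Modules.pullback i)).X₁ 0) := by
      refine subsingleton_HH_of_iso a.symm 0
        (Groth.Agent.Lib.R2H2.PnTwEquiv.subsingleton_HH_twist 2 k _ 0 ?_ ?_)
      · rintro ⟨-, h⟩; omega
      · rintro ⟨h, -⟩; omega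
    have h2 : Nontrivial (Coh.HH P2 (S.map (Scheme.Modules.pullback i)).X₂ 0) := by
      obtain ⟨t⟩ := Groth.Agent.Lib.R2Lead.KRR.nonempty_twistProjSpace_tensor_iso 2 k (-1) 1
      have eY : (twR (O2 1)).obj Xs ≅ Coh.structureModule P2 :=
        tIso eX (Iso.refl (O2 1)) ≪≫ t ≪≫ eqToIso (by norm_num) ≪≫ z
      have hY : Nontrivial (Coh.HH P2 ((twR (O2 1)).obj Xs) 0) := by
        refine nontrivial_HH_of_iso eY.symm 0 ?_
        have hf := Groth.Agent.Lib.R2H2.PnHorrocks.finrank_H0_structure k 2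
        exact Module.nontrivial_of_finrank_pos (R := k) (by rw [hf]; exact one_pos)
      have hZ : Nontrivial (Coh.HH P2 ((twR (O2 1)).obj ΩH ⊞ (twR (O2 1)).obj Xs) 0) :=
        (injective_HmapL_inr _ _ 0).nontrivial
      exact nontrivial_HH_of_iso (b ≪≫ (twR (O2 1)).mapBiprod ΩH Xs).symm 0 hZ
    have hinj : Function.Injective (HmapL (S.map (Scheme.Modules.pullback i)).g 0) := by
      intro x y hxy
      have h3 : HmapL (S.map (Scheme.Modules.pullback i)).g 0 (x - y) = 0 := by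
        rw [map_sub, hxy, sub_self]
      obtain ⟨w, hw⟩ := exact₂ _ hS' 0 (x - y) h3
      rw [Subsingleton.elim w 0, map_zero] at hw
      exact sub_eq_zero.1 hw.symm
    exact hinj.nontrivial

end Main

end Groth.Agent.Lib.R2H2.PnNullCorrRestr
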