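import Groth.Agent.Lib.R2H2PnEulerSeq

/-!
# `Ω_{P^1_A/A} ≅ O(-2)` (helper2, round 2)

Namespace `Groth.Agent.Lib.R2H2.PnOmegaP1`: `isoBot : D.K 0 ≅ D.G 0` for Koszul data, and
`nonempty_omega_iso : Ω_{P^1_A/A} ≅ O(-2)` from the Koszul complex `0 → O(-2) → O(-1)^2 → O → 0`.
-/

set_option backward.isDefEq.respectTransparency.types false
set_option autoImplicit false
universe v u

namespace Groth.Agent.Lib.R2H2.PnOmegaP1

open CategoryTheory CategoryTheory.Limits AlgebraicGeometry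
open Groth.Agent.Lib.R2H2.KoszulAbs Groth.Agent.Lib.R2H2.PnBridge Groth.Agent.Lib.R2H2.PnMinorSec

section Abs

variable {𝒟 : Type u} [Category.{v} 𝒟] [Preadditive 𝒟] {r : ℕ} (D : KData 𝒟 r)

/-- the bottom Koszul term -/
noncomputable def isoBot : D.K 0 ≅ D.G 0 where
  hom := D.prj 0 ∅
  inv := D.inj 0 ∅
  hom_inv_id := by
    have h := D.total 0
    rw [Finset.sum_eq_single ∅] at h
    · exact h
    · intro S _ hS
      have hc : S.card ≠ 0 := fun hc => hS (Finset.card_eq_zero.1 hc)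
      rw [D.prj_zero 0 S hc, zero_comp]
    · intro h'
      exact absurd (Finset.mem_univ _) h'
  inv_hom_id := by
    rw [D.inj_prj, if_pos ⟨rfl, Finset.card_empty⟩]

end Abs

variable (A : Type u) [CommRing A]

lemma hG₀ : (KP 1 A).G 0 = Twist.twistProjSpace 1 A (-2) := by
  have h : (-(((1 : ℕ) : ℤ) + 1) + ((0 : ℕ) : ℤ)) = -2 := by norm_num
  rw [KP_G, h]
  exact (Groth.Agent.Lib.R2H2.PnDual.twist_eq A 1 (-2)).symm

/-- **`Ω_{P^1} ≅ O(-2)`** -/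
theorem nonempty_omega_iso [QuasiSeparated (CohB1.ProjSpace.toSpec 1 A)] :
    Nonempty (Omega.sheaf (CohB1.ProjSpace.toSpec 1 A) ≅ Twist.twistProjSpace 1 A (-2)) := by
  obtain ⟨e1⟩ := nonempty_iso_kernel (Groth.Agent.Lib.R2H2.ExtPowOne.isExtPow_one
    (Omega.sheaf (CohB1.ProjSpace.toSpec 1 A))) 1 (by norm_num : 1 + 1 = 1 + 1)
  have hex := KP_exact 1 A 0
  haveI : Mono (ShortComplex.mk ((KP 1 A).d 0) ((KP 1 A).d (0 + 1)) ((KP 1 A).d_comp_d 0)).f :=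
    KP_mono 1 A
  have e2 : (KP 1 A).K 0 ≅ kernel ((KP 1 A).d 1) :=
    IsLimit.conePointUniqueUpToIso hex.fIsKernel (limit.isLimit (parallelPair ((KP 1 A).d 1) 0))
  exact ⟨e1 ≪≫ e2.symm ≪≫ isoBot (KP 1 A) ≪≫ eqToIso (hG₀ A)⟩

end Groth.Agent.Lib.R2H2.PnOmegaP1
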