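import Groth.Agent.Lib.R2H2RegCounitB
import Groth.Agent.Lib.R2H2PnTwEquiv
import Groth.Agent.Lib.Helper23TensorQCoh
set_option backward.isDefEq.respectTransparency.types false

/-!
# Quasi-coherent modules on `P^n_Y` are quotients of sums of `f^* G_j ⊗ O(-m_j)`
(helper2, round 2; S11169)

* `hom_ext_of_twR_pow` : morphisms out of a quasi-coherent module on `P^n_Y` which agree on the
  `f⁻¹ V` after every positive twist are equal;
* `kap` : the natural isomorphism `(- ⊗ O(1)^k) ⊗ O(-k) ≅ id`;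
* `main` : S11169.
-/

set_option autoImplicit false
set_option linter.unusedSectionVars false
set_option linter.style.haveILetI false
universe u

namespace Groth.Agent.Lib.R2H2.PnQuotTw

open CategoryTheory CategoryTheory.Limits AlgebraicGeometry TopologicalSpace Opposite
  MonoidalCategory TensorProduct
open Groth.Agent.Lib.Helper23.SecTw Groth.Agent.Lib.Helper23.GenLocus
  Groth.Agent.Lib.Helper23.QCohLocal Groth.Agent.Lib.Helper6
open Groth.Agent.Lib.R2H2.PnSerre Groth.Agent.Lib.R2H2.PnReg Groth.Agent.Lib.R2H2.KoszulPnT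
  Groth.Agent.Lib.R2H2.RegCounitA Groth.Agent.Lib.R2H2.RegCounitB Groth.Agent.Lib.R2H2.SecTwRel
open Groth.Agent.Lib.R2Lead.KRR
open Groth.Agent.Lib.Helper27GrTildeSect

variable (n : ℕ) (T : Scheme.{u})

section HomExt

variable {F G : (KRR.PY n T).Modules}

/-- morphisms out of a quasi-coherent module on `P^n_T` agreeing on the `p⁻¹ V` after all
positive twists are equal -/
theorem hom_ext_of_twR_pow [F.IsQuasicoherent] (φ ψ : F ⟶ G)
    (h : ∀ k : ℕ, 0 < k → ∀ V : T.Opens,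
      ((twR (CohB1.tensorPow (L1 n T) k)).map φ).app (KRR.pr n T ⁻¹ᵁ V) =
        ((twR (CohB1.tensorPow (L1 n T) k)).map ψ).app (KRR.pr n T ⁻¹ᵁ V)) : φ = ψ := by
  apply Groth.Agent.Lib.Helper23.CounitEpi.hom_ext_of_cover
  intro x
  haveI := Groth.Agent.S9705.isProper_toBase n T
  obtain ⟨V, hVaff, hxV, -⟩ := Opens.isBasis_iff_nbhd.1 T.isBasis_affineOpens
    (show (KRR.pr n T) x ∈ (⊤ : T.Opens) from trivial)
  obtain ⟨i, hi⟩ := hcovX n T x
  have hL := isInvertible_L1 n T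
  obtain ⟨U₀, hU₀⟩ : ∃ U₀ : (KRR.PY n T).Opens, U₀ = KRR.pr n T ⁻¹ᵁ V := ⟨_, rfl⟩
  obtain ⟨N, hNdef⟩ : ∃ N : (KRR.PY n T).Opens,
      N = CohB1.genLocus (L1 n T) (sec n T i) ⊓ U₀ := ⟨_, rfl⟩
  have hxN : x ∈ N := by
    rw [hNdef, genLocus_sec, hU₀]
    exact ⟨hi, hxV⟩
  have hNaff : IsAffineOpen N := by
    rw [hNdef, genLocus_sec, hU₀]
    exact Groth.Agent.Lib.Helper23.PB.isAffineOpen_pullback_inf
      (Proj.isAffineOpen_basicOpen (CohB1.polyGrading n (ULift.{u} ℤ)) (xs n (ULift.{u} ℤ) i) (xs_mem n (ULift.{u} ℤ) i)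
        Nat.one_pos) hVaff (W := ⊤) (isAffineOpen_top _) (fun _ _ => trivial)
        (fun _ _ => trivial)
  have hc : IsCompact (U₀ : Set (KRR.PY n T)) := by
    rw [hU₀]
    exact (KRR.pr n T).isCompact_preimage hVaff.isCompact
  have hqs' : IsQuasiSeparated (U₀ : Set (KRR.PY n T)) := by
    rw [hU₀]
    exact (KRR.pr n T).isQuasiSeparated_preimage hVaff.isQuasiSeparated
  have hqs : ∀ W W' : (KRR.PY n T).Opens, W ≤ U₀ → W' ≤ U₀ → IsAffineOpen W → IsAffineOpen W' →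
      IsCompact ((W ⊓ W' : (KRR.PY n T).Opens) : Set (KRR.PY n T)) :=
    fun W W' hW hW' haW haW' => hqs' W W' hW W.2 haW.isCompact hW' W'.2 haW'.isCompact
  refine ⟨N, hxN, ?_⟩
  have hN : φ.app N = ψ.app N := by
    subst hNdef
    ext t
    haveI : Coh.IsQCoh F := ‹F.IsQuasicoherent›
    obtain ⟨k, hk, t', ht'⟩ := main_rel U₀ hc hqs (L1 n T) hL (sec n T i) F t
    have h1 := h k hk V
    rw [← hU₀] at h1
    have h2 : ∀ χ : F ⟶ G,
        res _ (inf_le_right : CohB1.genLocus (L1 n T) (sec n T i) ⊓ U₀ ≤ U₀)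
          (((twR (CohB1.tensorPow (L1 n T) k)).map χ).app U₀ t') =
        tm G (CohB1.tensorPow (L1 n T) k) _ (χ.app _ t)
          (pw (L1 n T) _ (sv (sec n T i) _) k) := fun χ => by
      have e1 := Groth.Agent.Lib.Helper23.Extend.app_map
        ((twR (CohB1.tensorPow (L1 n T) k)).map χ)
        (homOfLE (inf_le_right : CohB1.genLocus (L1 n T) (sec n T i) ⊓ U₀ ≤ U₀)) t'
      refine e1.symm.trans ?_
      have e2 : (CohB1.tensorMod F (CohB1.tensorPow (L1 n T) k)).presheaf.map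
          (homOfLE (inf_le_right : CohB1.genLocus (L1 n T) (sec n T i) ⊓ U₀ ≤ U₀)).op t' =
          tm F (CohB1.tensorPow (L1 n T) k) _ t (pw (L1 n T) _ (sv (sec n T i) _) k) := ht'
      exact (congrArg (fun z => ((twR (CohB1.tensorPow (L1 n T) k)).map χ).app
        (CohB1.genLocus (L1 n T) (sec n T i) ⊓ U₀) z) e2).trans (twR_map_tm χ _ _ t _)
    have h3 : tm G (CohB1.tensorPow (L1 n T) k) _ (φ.app _ t)
          (pw (L1 n T) _ (sv (sec n T i) _) k) =
        tm G (CohB1.tensorPow (L1 n T) k) _ (ψ.app _ t)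
          (pw (L1 n T) _ (sv (sec n T i) _) k) := by
      rw [← h2 φ, ← h2 ψ, h1]
    have hgen : IsGen (L1 n T) (CohB1.genLocus (L1 n T) (sec n T i) ⊓ U₀)
        (sv (sec n T i) _) := by
      have h4 := (isGen_sv_genLocus (L1 n T) (sec n T i)).mono
        (inf_le_left : CohB1.genLocus (L1 n T) (sec n T i) ⊓ U₀ ≤ _)
      rwa [res_sv] at h4
    have hgenk := isGen_pw (L1 n T) _ _ hgen k
    have hinj := injective_tm_of_isGen G (CohB1.tensorPow (L1 n T) k) _ _ hgenk _ le_rfl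
    apply hinj
    change tm G _ _ (φ.app _ t) (res _ le_rfl _) = tm G _ _ (ψ.app _ t) (res _ le_rfl _)
    rw [res_self]
    exact h3
  intro W hW
  exact app_eq_of_app_eq_affine φ ψ hNaff hN W hW

end HomExt

section Kappa

variable {X : Scheme.{u}}

/-- if `L' ⊗ L ≅ O_X` then `(- ⊗ L) ⊗ L' ≅ id` -/
noncomputable def kapGen (L L' : X.Modules)
    (e' : (DCoh.tensorBi.obj L').obj L ≅ Coh.structureModule X) :
    twR L ⋙ twR L' ≅ 𝟭 X.Modules :=
  NatIso.hcomp (twIso L).symm (twIso L').symm ≪≫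
    ((Groth.Agent.Lib.Helper21.ModTensor6.tLTensorIso X.sheaf L' L).symm ≪≫
      DCoh.tensorBi.mapIso e' ≪≫ Groth.Agent.Lib.Helper21.ModTensor7.tLUnitIso X.sheaf)

theorem faithful_twR (L L' : X.Modules)
    (e : (DCoh.tensorBi.obj L).obj L' ≅ Coh.structureModule X)
    (e' : (DCoh.tensorBi.obj L').obj L ≅ Coh.structureModule X) : (twR L).Faithful := by
  haveI := Groth.Agent.Lib.R2H2.PnTwEquiv.isEquivalence_tensor L L' e e'
  exact Functor.Faithful.of_iso (twIso L)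

end Kappa

section Main

/-- `O(-k) ⊗ O(1)^k ≅ O` on `P^n_T` -/
theorem nonempty_neg_pow_iso (k : ℕ) :
    Nonempty ((DCoh.tensorBi.obj (Twist.twistOver n T (-((k : ℕ) : ℤ)))).obj
      (CohB1.tensorPow (L1 n T) k) ≅ Coh.structureModule (KRR.PY n T)) := by
  obtain ⟨ek⟩ := nonempty_tensorPow_iso n T k
  obtain ⟨e1⟩ := nonempty_twistOver_tensor_iso n T (-((k : ℕ) : ℤ)) (k : ℤ)
  obtain ⟨e0⟩ := nonempty_twistOver_zero_iso n T
  have hc : -((k : ℕ) : ℤ) + (k : ℤ) = 0 := by omega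
  rw [hc] at e1
  exact ⟨(DCoh.tensorBi.obj (Twist.twistOver n T (-((k : ℕ) : ℤ)))).mapIso ek ≪≫ e1 ≪≫ e0⟩

/-- `O(1)^k ⊗ O(-k) ≅ O` on `P^n_T` -/
theorem nonempty_pow_neg_iso (k : ℕ) :
    Nonempty ((DCoh.tensorBi.obj (CohB1.tensorPow (L1 n T) k)).obj
      (Twist.twistOver n T (-((k : ℕ) : ℤ))) ≅ Coh.structureModule (KRR.PY n T)) := by
  obtain ⟨ek⟩ := nonempty_tensorPow_iso n T k
  obtain ⟨e1⟩ := nonempty_twistOver_tensor_iso n T (k : ℤ) (-((k : ℕ) : ℤ))
  obtain ⟨e0⟩ := nonempty_twistOver_zero_iso n T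
  have hc : (k : ℤ) + -((k : ℕ) : ℤ) = 0 := by omega
  rw [hc] at e1
  exact ⟨(DCoh.tensorBi.mapIso ek).app (Twist.twistOver n T (-((k : ℕ) : ℤ))) ≪≫ e1 ≪≫ e0⟩

/-- **S11169** -/
theorem main (F : (CohB1.ProjSpaceOver n T).Modules) (hF : Coh.IsQCoh F) :
    ∃ (ι : Type u) (G : ι → T.Modules) (m : ι → ℕ)
      (p : (∐ fun j => CohB1.tensorMod ((Scheme.Modules.pullback (CohB1.ProjSpaceOver.toBase n T)).obj (G j))
        (Twist.twistOver n T (-((m j : ℕ) : ℤ)))) ⟶ F),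
      (∀ j, Coh.IsQCoh (G j)) ∧ (∀ j, 0 < m j) ∧ Epi p := by
  classical
  haveI : F.IsQuasicoherent := hF
  haveI := Groth.Agent.S9705.isProper_toBase n T
  let adj := Scheme.Modules.pullbackPushforwardAdjunction (KRR.pr n T)
  let m : ULift.{u} ℕ → ℕ := fun j => j.down + 1
  let Lk : ULift.{u} ℕ → (KRR.PY n T).Modules := fun j => CohB1.tensorPow (L1 n T) (m j)
  let G : ULift.{u} ℕ → T.Modules := fun j =>
    (Scheme.Modules.pushforward (KRR.pr n T)).obj ((twR (Lk j)).obj F)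
  have hκ : ∀ j : ULift.{u} ℕ, Nonempty ((DCoh.tensorBi.obj
      (Twist.twistOver n T (-((m j : ℕ) : ℤ)))).obj (Lk j) ≅ Coh.structureModule (KRR.PY n T)) :=
    fun j => nonempty_neg_pow_iso n T (m j)
  have hκ' : ∀ j : ULift.{u} ℕ, Nonempty ((DCoh.tensorBi.obj (Lk j)).obj
      (Twist.twistOver n T (-((m j : ℕ) : ℤ))) ≅ Coh.structureModule (KRR.PY n T)) :=
    fun j => nonempty_pow_neg_iso n T (m j)
  let κ : ∀ j : ULift.{u} ℕ,
      twR (Lk j) ⋙ twR (Twist.twistOver n T (-((m j : ℕ) : ℤ))) ≅ 𝟭 (KRR.PY n T).Modules :=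
    fun j => kapGen (Lk j) _ (hκ j).some
  let c : ∀ j : ULift.{u} ℕ,
      CohB1.tensorMod ((Scheme.Modules.pullback (CohB1.ProjSpaceOver.toBase n T)).obj (G j))
        (Twist.twistOver n T (-((m j : ℕ) : ℤ))) ⟶ F := fun j =>
    (twR (Twist.twistOver n T (-((m j : ℕ) : ℤ)))).map (adj.counit.app ((twR (Lk j)).obj F)) ≫
      (κ j).hom.app F
  refine ⟨ULift.{u} ℕ, G, m, Sigma.desc c, fun j => ?_, fun j => Nat.succ_pos _, ?_⟩
  · have hLq : (Lk j).IsQuasicoherent :=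
      isQuasicoherent_of_isInvertible _ (isInvertible_tensorPow (isInvertible_L1 n T) (m j))
    haveI : ((twR (Lk j)).obj F).IsQuasicoherent :=
      Groth.Agent.Lib.Helper23.TensorQCoh.isQuasicoherent_tensorMod _ _
    exact isQuasicoherent_pushforward (KRR.pr n T) _
  · constructor
    intro Z g h hgh
    apply hom_ext_of_twR_pow n T g h
    intro k hk V
    obtain ⟨j, hj⟩ : ∃ j : ULift.{u} ℕ, m j = k := ⟨⟨k - 1⟩, by change k - 1 + 1 = k; omega⟩
    subst hj
    have h1 : c j ≫ g = c j ≫ h := by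
      have := congrArg (fun q => Sigma.ι _ j ≫ q) hgh
      simpa only [← Category.assoc, Sigma.ι_desc] using this
    have hnat : ∀ q : F ⟶ Z, c j ≫ q =
        (twR (Twist.twistOver n T (-((m j : ℕ) : ℤ)))).map
          (adj.counit.app ((twR (Lk j)).obj F) ≫ (twR (Lk j)).map q) ≫ (κ j).hom.app Z := by
      intro q
      have h2 := (κ j).hom.naturality q
      change (twR (Twist.twistOver n T (-((m j : ℕ) : ℤ)))).map ((twR (Lk j)).map q) ≫
        (κ j).hom.app Z = (κ j).hom.app F ≫ q at h2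
      change ((twR (Twist.twistOver n T (-((m j : ℕ) : ℤ)))).map
        (adj.counit.app ((twR (Lk j)).obj F)) ≫ (κ j).hom.app F) ≫ q = _
      rw [Category.assoc, ← h2, Functor.map_comp, Category.assoc]
    rw [hnat g, hnat h] at h1
    have h3 := (cancel_mono ((κ j).hom.app Z)).1 h1
    haveI := faithful_twR (Twist.twistOver n T (-((m j : ℕ) : ℤ))) (Lk j) (hκ j).some (hκ' j).some
    have h4 : adj.counit.app ((twR (Lk j)).obj F) ≫ (twR (Lk j)).map g =
        adj.counit.app ((twR (Lk j)).obj F) ≫ (twR (Lk j)).map h :=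
      (twR (Twist.twistOver n T (-((m j : ℕ) : ℤ)))).map_injective h3
    have h5 : ∀ q : (twR (Lk j)).obj F ⟶ (twR (Lk j)).obj Z,
        (Scheme.Modules.pushforward (KRR.pr n T)).map q =
          adj.unit.app _ ≫ (Scheme.Modules.pushforward (KRR.pr n T)).map
            (adj.counit.app ((twR (Lk j)).obj F) ≫ q) := by
      intro q
      rw [Functor.map_comp, adj.right_triangle_components_assoc]
    have h6 : (Scheme.Modules.pushforward (KRR.pr n T)).map ((twR (Lk j)).map g) =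
        (Scheme.Modules.pushforward (KRR.pr n T)).map ((twR (Lk j)).map h) := by
      rw [h5, h5, h4]
    exact congrArg (fun q => Scheme.Modules.Hom.app q V) h6

end Main

end Groth.Agent.Lib.R2H2.PnQuotTw
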