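import Groth.Agent.Lib.R2H2WedgePair
import Groth.Agent.Lib.R2H2PnGG
import Groth.Agent.Lib.R2H2PnLinRes
import Groth.Agent.Lib.R2LeadKRR
import Groth.Agent.Lib.Helper27PnChart
import Groth.Agent.S3557
import Groth.Prelude.Def_KLin
import Groth.Agent.Lib.Helper23SecTw9

/-!
# Simple rank-two bundles on `P^n_k` have `H^0` of the normalised twist zero (helper2, round 2)

`main` : S11506.  For `s' : O(a) ⟶ E` nonzero with `c ≤ 2a` the endomorphism
`E --(s' ∧ -)--> O(c - a) --> O(a) --s'--> E` is nonzero and squares to zero.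
-/

set_option backward.isDefEq.respectTransparency.types false
set_option autoImplicit false
set_option linter.unusedSectionVars false
universe u

namespace Groth.Agent.Lib.R2H2.PnSimpleNorm

open CategoryTheory CategoryTheory.Limits AlgebraicGeometry TopologicalSpace Opposite
open Groth.Agent.Lib.R2H2.WedgePair Groth.Agent.Lib.R2H2.DetTriv Groth.Agent.Lib.R2H2.PnSerre
open Groth.Agent.Lib.R2H2.PnLinRes

section Integral

/-- projective space over a domain is integral -/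
theorem isIntegral_projSpace (n : ℕ) (R : Type u) [CommRing R] [IsDomain R] :
    IsIntegral (CohB1.ProjSpace n R) := by
  refine (Groth.Agent.S3557.result (R := R) (CohB1.polyGrading n R) ?_).2 ⟨?_, ?_⟩
  · intro f _ hf
    exact hf.eq_zero
  · refine ⟨MvPolynomial.X 0, ?_, MvPolynomial.X_ne_zero _⟩
    change (MvPolynomial.X 0 : MvPolynomial (Fin (n + 1)) R) ∈
      HomogeneousIdeal.irrelevant (CohB1.polyGrading n R)
    rw [HomogeneousIdeal.mem_irrelevant_iff, GradedRing.proj_apply]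
    exact DirectSum.decompose_of_mem_ne _
      (Groth.Agent.Lib.Helper27PnChart.X_mem_one n R 0) (by norm_num)
  · intro f _ g _ h
    exact mul_eq_zero.mp h

end Integral

section General

variable {X : Scheme.{u}}

theorem tensorMap_comp_tensorMap {M E N : X.Modules} (s' : M ⟶ E) (t : N ⟶ E) :
    KoszTw.tensorMap s' (𝟙 N) ≫ KoszTw.tensorMap (𝟙 E) t = KoszTw.tensorMap s' t := by
  rw [← KoszTw.tensorBi_map_app, ← KoszTw.tensorBi_obj_map]
  rfl

theorem twR_map_eq {L M E : X.Modules} (f : M ⟶ E) : (twR L).map f = KoszTw.tensorMap f (𝟙 L) :=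
  KoszTw.tensorBi_map_app f L

theorem cls_zero (M : X.Modules) : cls (0 : Coh.structureModule X ⟶ M) = 0 := by
  exact (AddEquiv.map_eq_zero_iff (Groth.Agent.Lib.Helper27PnSections.hh0Equiv X M).symm).2
    (Groth.Agent.Lib.Helper23.SecTw.sv_zero ⊤)

/-- the key construction: a nonzero `s' : A ⟶ E` from an invertible module, a trivialisation
`B ⊗ A ≅ C ≅ Λ²E` and a monomorphism `B ⟶ A` give a nonzero endomorphism of square zero -/
theorem exists_nilpotent [IsIntegral X] (E L A B C : X.Modules)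
    (hE : FlatMod.IsFinLocFreeOfRank 2 E)
    (D : EPData 2 E L) (hA : PicF.IsInvertible A) [(twR A).IsEquivalence]
    (θ : L ≅ C) (m : CohB1.tensorMod B A ≅ C) (mm : B ⟶ A) [Mono mm]
    (s' : A ⟶ E) (hs : s' ≠ 0) :
    ∃ ψ : E ⟶ E, ψ ≠ 0 ∧ ψ ≫ ψ = 0 := by
  let μ : CohB1.tensorMod E A ⟶ C := KoszTw.tensorMap (𝟙 E) s' ≫ W D ≫ θ.hom
  let lam : E ⟶ B := (twR A).preimage (μ ≫ m.inv)
  have hlam : (twR A).map lam = μ ≫ m.inv := (twR A).map_preimage _
  -- `s' ≫ λ = 0`
  have h1 : s' ≫ lam = 0 := by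
    apply (twR A).map_injective
    have hz : KoszTw.tensorMap s' (𝟙 A) ≫ μ = 0 := by
      change KoszTw.tensorMap s' (𝟙 A) ≫ KoszTw.tensorMap (𝟙 E) s' ≫ W D ≫ θ.hom = 0
      rw [← Category.assoc, tensorMap_comp_tensorMap, ← Category.assoc,
        tensorMap_self_W D hE hA s', zero_comp]
    have e1 : (twR A).map (s' ≫ lam) = KoszTw.tensorMap s' (𝟙 A) ≫ (μ ≫ m.inv) :=
      ((twR A).map_comp s' lam).trans
        (congrArg₂ (fun x y => x ≫ y) (twR_map_eq (L := A) s') hlam)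
    have e2 : KoszTw.tensorMap s' (𝟙 A) ≫ (μ ≫ m.inv) = 0 := by
      rw [← Category.assoc, hz, zero_comp]
    have e3 : (twR A).map (0 : A ⟶ B) = 0 := (twR A).map_zero A B
    exact e1.trans (e2.trans e3.symm)
  haveI : Mono s' := mono_of_ne_zero hE hA s' hs
  refine ⟨lam ≫ mm ≫ s', ?_, ?_⟩
  · intro h0
    have h2 : lam = 0 := by
      have : lam ≫ (mm ≫ s') = 0 ≫ (mm ≫ s') := h0.trans zero_comp.symm
      exact (cancel_mono (mm ≫ s')).1 this
    have h3 : μ = 0 := by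
      have h4 : μ ≫ m.inv = 0 :=
        hlam.symm.trans ((congrArg (twR A).map h2).trans (Functor.map_zero _ _ _))
      have h5 : (μ ≫ m.inv) ≫ m.hom = 0 := by rw [h4, zero_comp]
      rwa [Category.assoc, Iso.inv_hom_id, Category.comp_id] at h5
    have h6 : KoszTw.tensorMap (𝟙 E) s' ≫ W D = 0 := by
      have h7 : (KoszTw.tensorMap (𝟙 E) s' ≫ W D ≫ θ.hom) ≫ θ.inv = 0 := by
        change μ ≫ θ.inv = 0
        rw [h3, zero_comp]
      rwa [Category.assoc, Category.assoc, Iso.hom_inv_id, Category.comp_id] at h7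
    exact hs (eq_zero_of_tensorMap_W_eq_zero D hE hA s' h6)
  · calc (lam ≫ mm ≫ s') ≫ lam ≫ mm ≫ s' = lam ≫ mm ≫ (s' ≫ lam) ≫ mm ≫ s' := by
          simp only [Category.assoc]
      _ = 0 := by rw [h1, zero_comp, comp_zero, comp_zero]

/-- a nonzero section of `E ⊗ K` gives a nonzero morphism `A ⟶ E` when `A ⊗ K ≅ O` -/
theorem exists_hom_ne_zero (E A K : X.Modules) [(twR K).IsEquivalence]
    (w : CohB1.tensorMod A K ≅ Coh.structureModule X)
    (s : Coh.structureModule X ⟶ CohB1.tensorMod E K) (hs : s ≠ 0) :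
    ∃ s' : A ⟶ E, s' ≠ 0 := by
  let s' : A ⟶ E := (twR K).preimage (w.hom ≫ s)
  have hs'map : (twR K).map s' = w.hom ≫ s := (twR K).map_preimage _
  refine ⟨s', fun h0 => hs ?_⟩
  have h1 : w.hom ≫ s = 0 :=
    hs'map.symm.trans ((congrArg (twR K).map h0).trans (Functor.map_zero _ _ _))
  have h2 : w.inv ≫ w.hom ≫ s = 0 := by rw [h1, comp_zero]
  rwa [Iso.inv_hom_id_assoc] at h2

end General

section Main

variable (k : Type u) [Field k] (n : ℕ)

local notation "PX" => CohB1.ProjSpace n k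
local notation "OO" => Twist.twistProjSpace n k

attribute [local instance] isIntegral_projSpace

/-- the structure of a `k`-scheme on projective space -/
noncomputable local instance overSpec : (PX).Over (Spec (CommRingCat.of k)) :=
  ⟨CohB1.ProjSpace.toSpec n k⟩

theorem toSheaf_map_smul_id (E : (PX).Modules) (c : k) :
    (SheafOfModules.toSheaf (PX).ringCatSheaf).map (c • 𝟙 E) =
      Coh.smulAb E (Coh.toGlobal (CohB1.ProjSpace.toSpec n k) c) := by
  rw [KLin.smul_id]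
  rfl

/-- **S11506** -/
theorem main [IsAlgClosed k] [CharZero k]
    (E : (PX).Modules) (hE : FlatMod.IsFinLocFreeOfRank 2 E) (c k₀ : ℤ)
    (hdet : ∃ L : (PX).Modules, ExtPow.IsExtPow 2 E L ∧ Nonempty (L ≅ OO c))
    (hk₀ : c + 2 * k₀ = 0 ∨ c + 2 * k₀ = -1)
    (hsimple : ∀ φ : E ⟶ E, ∃ c' : k, (SheafOfModules.toSheaf (PX).ringCatSheaf).map φ =
      Coh.smulAb E (Coh.toGlobal (CohB1.ProjSpace.toSpec n k) c')) :
    Subsingleton (Coh.HH PX (CohB1.tensorMod E (OO k₀)) 0) := by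
  by_contra hns
  rw [not_subsingleton_iff_nontrivial] at hns
  obtain ⟨x, hx⟩ := exists_ne (0 : Coh.HH PX (CohB1.tensorMod E (OO k₀)) 0)
  obtain ⟨s, rfl⟩ := cls_surjective _ x
  have hs : s ≠ 0 := by
    rintro rfl
    exact hx (cls_zero _)
  obtain ⟨L, hL, ⟨θ⟩⟩ := hdet
  obtain ⟨D⟩ := nonempty_EPData hL
  -- the corresponding map `O(-k₀) ⟶ E`
  haveI hG : (twR (OO k₀)).IsEquivalence := Groth.Agent.Lib.R2H2.PnGG.isEquivalence_twR n k k₀
  haveI hG' : (twR (OO (-k₀))).IsEquivalence :=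
    Groth.Agent.Lib.R2H2.PnGG.isEquivalence_twR n k (-k₀)
  obtain ⟨w₀⟩ := Groth.Agent.Lib.R2Lead.KRR.nonempty_twistProjSpace_tensor_iso n k (-k₀) k₀
  obtain ⟨z⟩ := Groth.Agent.Lib.R2Lead.KRR.nonempty_twistProjSpace_zero_iso n k
  obtain ⟨s', hs'⟩ := exists_hom_ne_zero E (OO (-k₀)) (OO k₀)
    (w₀ ≪≫ eqToIso (congrArg (fun j => OO j) (neg_add_cancel k₀)) ≪≫ z) s hs
  obtain ⟨m₀⟩ := Groth.Agent.Lib.R2Lead.KRR.nonempty_twistProjSpace_tensor_iso n k (c - -k₀) (-k₀)
  obtain ⟨mm, hmm⟩ := Groth.Agent.Lib.R2H2.PnSerreCorr.exists_mono_twist n k (c - -k₀) (-k₀)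
    (by omega)
  obtain ⟨ψ, hψ0, hψ2⟩ := exists_nilpotent E L (OO (-k₀)) (OO (c - -k₀)) (OO c) hE D
    (isInv n k (-k₀)) θ
    (m₀ ≪≫ eqToIso (congrArg (fun j => OO j) (sub_add_cancel c (-k₀)))) mm s' hs'
  obtain ⟨c', hc'⟩ := hsimple ψ
  have hψ : ψ = c' • 𝟙 E := by
    apply (SheafOfModules.toSheaf (PX).ringCatSheaf).map_injective
    rw [hc', toSheaf_map_smul_id]
  have hid : 𝟙 E ≠ 0 := by
    intro h0
    apply hs'
    rw [← Category.comp_id s', h0, comp_zero]
  have h3 : (c' * c') • 𝟙 E = 0 := by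
    rw [← hψ2, hψ, Linear.smul_comp, Linear.comp_smul, Category.id_comp, smul_smul]
  have hc0 : c' = 0 := by
    by_contra hne
    apply hid
    have : 𝟙 E = (c' * c')⁻¹ • ((c' * c') • 𝟙 E) := by
      rw [smul_smul, inv_mul_cancel₀ (mul_ne_zero hne hne), one_smul]
    rw [this, h3, smul_zero]
  exact hψ0 (by rw [hψ, hc0, zero_smul])

end Main

end Groth.Agent.Lib.R2H2.PnSimpleNorm
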