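import Groth.Agent.Lib.R2H2PnSyzygy
import Groth.Agent.Lib.R2H2PnSerreCorr
import Groth.Agent.Lib.Helper1StalkTensorB
import Groth.Agent.Lib.R2H2PullLF

/-!
# Two-term resolutions by sums of twisting sheaves on `P^n_k` (helper2, round 2)

Namespace `Groth.Agent.Lib.R2H2.PnTwoTermRes`.
* `exists_desc_multi` : sections `x_p ∈ H^0(G(d_p))` give `φ : ∐ O(-d_p) ⟶ G` hitting every `x_p`.
* `exists_epi_from_negative_twists` : a coherent `G` with `H^0(G(j)) = 0` for `j ≤ 0` admits an epimorphism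
  from a finite sum of `O(m)`, `m < 0`, surjective on `H^0` of every twist.
* `exists_two_term_res` : if moreover `H^i(G(j)) = 0` for `0 < i < n - 1` and all `j`, then `G` has a resolution
  `0 → ⊕ O(k_i) → ⊕ O(m_j) → G → 0` with all `k_i, m_j < 0`.
* `subsingleton_H0_flat_twist_of_le` : for a flat `E`, `H^0(E(d)) = 0` implies `H^0(E(d')) = 0` for `d' ≤ d`.
-/

set_option backward.isDefEq.respectTransparency.types false
set_option autoImplicit false
set_option linter.style.haveILetI false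
universe u

namespace Groth.Agent.Lib.R2H2.PnTwoTermRes

open CategoryTheory CategoryTheory.Limits AlgebraicGeometry Opposite
open Groth.Agent.Lib.R2H2.HHLin Groth.Agent.Lib.R2H2.PnSerre
  Groth.Agent.Lib.R2H2.PnMumford Groth.Agent.Lib.R2H2.PnLinRes Groth.Agent.Lib.R2H2.PnGG
  Groth.Agent.Lib.R2H2.PnHorrocks Groth.Agent.Lib.R2H2.PnLocFree
  Groth.Agent.Lib.R2H2.PnBeilinson Groth.Agent.Lib.R2H2.PnSerreCorr

variable (k : Type u) [Field k] (n : ℕ)

local notation "PX" => CohB1.ProjSpace n k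
local notation "OO" => Twist.twistProjSpace n k

/-- sections `x_p ∈ H^0(G(d_p))` give `φ : ∐ O(-d_p) ⟶ G` hitting every `x_p` -/
theorem exists_desc_multi {ι : Type} [Finite ι] (d : ι → ℤ) (G : (PX).Modules)
    (x : ∀ p : ι, Coh.HH PX ((Tw n k (d p)).obj G) 0) :
    ∃ φ : (∐ fun p : ι => OO (-(d p))) ⟶ G,
      ∀ p, ∃ z, HmapL ((Tw n k (d p)).map φ) 0 z = x p := by
  have hT : ∀ j : ℤ, (Tw n k j).IsEquivalence := fun j => isEquivalence_twR n k j
  have hw : ∀ j : ℤ, Nonempty ((Tw n k j).obj (OO (-j)) ≅ Coh.structureModule PX) := fun j => by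
    obtain ⟨e⟩ := Groth.Agent.Lib.R2Lead.KRR.nonempty_twistProjSpace_tensor_iso n k (-j) j
    obtain ⟨z⟩ := Groth.Agent.Lib.R2Lead.KRR.nonempty_twistProjSpace_zero_iso n k
    exact ⟨e ≪≫ eqToIso (by rw [neg_add_cancel]) ≪≫ z⟩
  choose σ hσ using fun p => cls_surjective _ (x p)
  let w := fun p => (hw (d p)).some
  haveI := fun p => hT (d p)
  let φp : ∀ p, OO (-(d p)) ⟶ G := fun p => (Tw n k (d p)).preimage ((w p).hom ≫ σ p)
  refine ⟨Limits.Sigma.desc φp, fun p =>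
    ⟨cls ((w p).inv ≫ (Tw n k (d p)).map (Limits.Sigma.ι (fun p : ι => OO (-(d p))) p)), ?_⟩⟩
  rw [cls_comp, ← hσ p]
  congr 1
  rw [Category.assoc, ← Functor.map_comp, Limits.Sigma.ι_desc]
  change (w p).inv ≫ (Tw n k (d p)).map ((Tw n k (d p)).preimage ((w p).hom ≫ σ p)) = σ p
  rw [Functor.map_preimage, Iso.inv_hom_id_assoc]

/-- a coherent `G` with `H^0(G(j)) = 0` for `j ≤ 0` admits an epimorphism from a finite sum of `O(m)`, `m < 0`,
which is surjective on `H^0` of every twist -/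
theorem exists_epi_from_negative_twists (G : (PX).Modules) (hG : Coh.IsCoh G)
    (hlow : ∀ j : ℤ, j ≤ 0 → Subsingleton (Coh.HH PX ((Tw n k j).obj G) 0)) :
    ∃ (s : ℕ) (mm : Fin s → ℤ) (φ : (∐ fun j => OO (mm j)) ⟶ G), (∀ j, mm j < 0) ∧ Epi φ ∧
      ∀ j : ℤ, Function.Surjective (HmapL ((Tw n k j).map φ) 0) := by
  obtain ⟨d₀, hd₀⟩ := serre_vanishing_all n k G hG
  obtain ⟨M, hM⟩ : ∃ M : ℕ, (M : ℤ) = max d₀ 0 + n + 1 :=
    ⟨(max d₀ 0 + n + 1).toNat, by omega⟩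
  have hreg : ∀ i : ℕ, 1 ≤ i → i ≤ n → Subsingleton (Coh.HH PX
      (CohB1.tensorMod G (OO ((M : ℤ) - i))) i) := fun i hi hin =>
    hd₀ _ (by omega) i (by omega)
  have hfin : ∀ t : Fin M, Module.Finite k (Coh.HH PX ((Tw n k ((t : ℕ) + 1 : ℤ)).obj G) 0) :=
    fun t => Groth.Agent.Lib.R2H2.PnFinite.finite_HH n k _ (isCoh_twist k n G hG _) 0
  let b : Fin M → ℕ := fun t => Module.finrank k (Coh.HH PX ((Tw n k ((t : ℕ) + 1 : ℤ)).obj G) 0)
  let x : ∀ t : Fin M, Module.Basis (Fin (b t)) k (Coh.HH PX ((Tw n k ((t : ℕ) + 1 : ℤ)).obj G) 0) :=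
    fun t => Module.finBasis k _
  let d : (Σ t : Fin M, Fin (b t)) → ℤ := fun p => ((p.1 : ℕ) + 1 : ℤ)
  obtain ⟨φ0, hφ0⟩ := exists_desc_multi k n d G (fun p => x p.1 p.2)
  -- surjectivity in the degrees `1, …, M`
  have hs1 : ∀ t : Fin M, Function.Surjective (HmapL ((Tw n k ((t : ℕ) + 1 : ℤ)).map φ0) 0) := by
    intro t y
    choose z hz using fun l : Fin (b t) => hφ0 ⟨t, l⟩
    refine ⟨∑ l, Coh.toGlobal (PX ↘ Spec (CommRingCat.of k)) ((x t).repr y l) • z l, ?_⟩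
    rw [map_sum]
    refine Eq.trans ?_ ((x t).sum_repr y)
    refine Finset.sum_congr rfl fun l _ => ?_
    rw [map_smul, hz l]
    rfl
  -- reindexing
  let e : (Σ t : Fin M, Fin (b t)) ≃ Fin (Fintype.card (Σ t : Fin M, Fin (b t))) :=
    Fintype.equivFin _
  let mm : Fin (Fintype.card (Σ t : Fin M, Fin (b t))) → ℤ := fun j => -(d (e.symm j))
  let r : (∐ fun j => OO (mm j)) ≅ ∐ fun p : (Σ t : Fin M, Fin (b t)) => OO (-(d p)) :=
    Limits.Sigma.reindex e.symm (fun p : (Σ t : Fin M, Fin (b t)) => OO (-(d p)))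
  have hs2 : ∀ t : Fin M,
      Function.Surjective (HmapL ((Tw n k ((t : ℕ) + 1 : ℤ)).map (r.hom ≫ φ0)) 0) := by
    intro t y
    obtain ⟨y1, hy1⟩ := hs1 t y
    obtain ⟨y2, hy2⟩ := (bijective_HmapL_of_iso ((Tw n k ((t : ℕ) + 1 : ℤ)).mapIso r) 0).2 y1
    refine ⟨y2, ?_⟩
    rw [Functor.map_comp, HmapL_comp]
    change HmapL _ 0 (HmapL ((Tw n k ((t : ℕ) + 1 : ℤ)).mapIso r).hom 0 y2) = y
    rw [hy2, hy1]
  have hall : ∀ j : ℤ, Function.Surjective (HmapL ((Tw n k j).map (r.hom ≫ φ0)) 0) := by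
    intro j
    by_cases hj0 : j ≤ 0
    · intro y
      haveI := hlow j hj0
      exact ⟨0, Subsingleton.elim _ _⟩
    by_cases hjM : j ≤ M
    · obtain ⟨t, rfl⟩ : ∃ t : Fin M, j = ((t : ℕ) + 1 : ℤ) :=
        ⟨⟨(j - 1).toNat, by omega⟩, by simp only []; omega⟩
      exact hs2 t
    · have hMj : (M : ℤ) ≤ j := by omega
      have key : ∀ a : ℕ, Function.Surjective
          (HmapL ((Tw n k ((M : ℤ) + a)).map (r.hom ≫ φ0)) 0) := by
        intro a
        induction a with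
        | zero =>
          obtain ⟨t, ht⟩ : ∃ t : Fin M, (M : ℤ) + ((0 : ℕ) : ℤ) = ((t : ℕ) + 1 : ℤ) :=
            ⟨⟨M - 1, by omega⟩, by simp only []; omega⟩
          rw [ht]
          exact hs2 t
        | succ a ih =>
          exact surjective_H0_succ n k _ G (r.hom ≫ φ0) hG.1 M hreg ((M : ℤ) + a)
            ((M : ℤ) + ((a + 1 : ℕ) : ℤ)) (by push_cast; ring) (by omega) ih
      obtain ⟨a, rfl⟩ : ∃ a : ℕ, j = (M : ℤ) + a := ⟨(j - M).toNat, by omega⟩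
      exact key a
  have hgg := globallyGenerated_of_regular n k G hG M hreg
  have hT : (Tw n k (M : ℤ)).IsEquivalence := isEquivalence_twR n k M
  have hep : Epi ((Tw n k (M : ℤ)).map (r.hom ≫ φ0)) :=
    epi_of_surjective_H0 ((Tw n k (M : ℤ)).map (r.hom ≫ φ0)) hgg (hall M)
  refine ⟨_, mm, r.hom ≫ φ0, fun j => ?_, (Tw n k (M : ℤ)).epi_of_epi_map hep, hall⟩
  change -(((e.symm j).1 : ℕ) + 1 : ℤ) < 0
  omega

/-- **two-term resolutions**: a coherent `G` on `P^n_k` with `H^0(G(j)) = 0` for `j ≤ 0` and without intermediate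
cohomology in degrees `0 < i < n - 1` has a resolution `0 → ⊕ O(k_i) → ⊕ O(m_j) → G → 0`, `k_i, m_j < 0` -/
theorem exists_two_term_res (hn : 1 ≤ n) (G : (PX).Modules) (hG : Coh.IsCoh G)
    (hlow : ∀ j : ℤ, j ≤ 0 → Subsingleton (Coh.HH PX ((Tw n k j).obj G) 0))
    (hmid : ∀ (j : ℤ) (i : ℕ), 0 < i → i + 1 < n → Subsingleton (Coh.HH PX ((Tw n k j).obj G) i)) :
    ∃ (r s : ℕ) (kk : Fin r → ℤ) (mm : Fin s → ℤ) (S : ShortComplex (PX).Modules),
      S.ShortExact ∧ (∀ i, kk i < 0) ∧ (∀ j, mm j < 0) ∧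
      Nonempty (S.X₁ ≅ ∐ fun i : Fin r => OO (kk i)) ∧
      Nonempty (S.X₂ ≅ ∐ fun j : Fin s => OO (mm j)) ∧ Nonempty (S.X₃ ≅ G) := by
  obtain ⟨s, mm, φ, hmm, hepi, hsurj⟩ := exists_epi_from_negative_twists k n G hG hlow
  let S : ShortComplex (PX).Modules := ShortComplex.mk (kernel.ι φ) φ (kernel.condition φ)
  have hS : S.ShortExact :=
    { exact := ShortComplex.exact_kernel φ
      mono_f := equalizer.ι_mono
      epi_g := hepi }
  have hFcoh : Coh.IsCoh (∐ fun j => OO (mm j)) := isCoh_coprod_twist k n mm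
  have hK : Coh.IsCoh (kernel φ) := isCoh_kernel k n hFcoh hG φ
  have hSl : ∀ l : ℤ, (S.map (Tw n k l)).ShortExact := fun l =>
    shortExact_map_twR _ (isInv n k l) S hS
  have hF : ∀ (l : ℤ) (i : ℕ), 0 < i → i < n →
      Subsingleton (Coh.HH PX ((Tw n k l).obj (∐ fun j => OO (mm j))) i) := fun l i hi hin =>
    subsingleton_HH_twR_coprod' k n s mm l i (fun j => ⟨by omega, by omega⟩)
  have hF0 : ∀ l : ℤ, l ≤ 0 →
      Subsingleton (Coh.HH PX ((Tw n k l).obj (∐ fun j => OO (mm j))) 0) := fun l hl =>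
    subsingleton_HH_twR_coprod' k n s mm l 0 (fun j => ⟨by have := hmm j; omega, by omega⟩)
  have hK0 : ∀ l : ℤ, l ≤ 0 → Subsingleton (Coh.HH PX ((Tw n k l).obj (kernel φ)) 0) := fun l hl =>
    h0_left_of _ (hSl l) (hF0 l hl)
  have hKi : ∀ (l : ℤ) (i : ℕ), 0 < i → i < n →
      Subsingleton (Coh.HH PX ((Tw n k l).obj (kernel φ)) i) := by
    intro l i hi hin
    obtain ⟨i', rfl⟩ : ∃ i', i = i' + 1 := ⟨i - 1, by omega⟩
    have hinj : Function.Injective (HmapL (S.map (Tw n k l)).f (i' + 1)) := by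
      by_cases hi' : i' = 0
      · subst hi'
        exact injective_f_of_surjective_g _ (hSl l) 0 (hsurj l)
      · exact injective_f_of_subsingleton _ (hSl l) i' (hmid l i' (by omega) (by omega))
    exact ⟨fun a c => hinj (@Subsingleton.elim _ (hF l (i' + 1) hi hin) _ _)⟩
  obtain ⟨r, kk, ⟨eK⟩⟩ := (horrocks k n hn (kernel φ) hK).2 ⟨⟨0, hK0⟩, hKi⟩
  refine ⟨r, s, kk, mm, S, hS, fun i => ?_, hmm, ⟨eK⟩, ⟨Iso.refl _⟩, ⟨Iso.refl _⟩⟩
  -- negativity of the `kk i`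
  by_contra hneg
  obtain ⟨m, hm⟩ := Int.eq_ofNat_of_zero_le (not_lt.mp hneg)
  have hnt := nontrivial_H0_twist k n m
  rw [← hm] at hnt
  obtain ⟨z⟩ := Groth.Agent.Lib.R2Lead.KRR.nonempty_twistProjSpace_zero_iso n k
  have hK00 : Subsingleton (Coh.HH PX (kernel φ) 0) :=
    subsingleton_HH_of_iso
      (Groth.Agent.Lib.R2H4TensorPows.tIso (Iso.refl (kernel φ)) z ≪≫
        Groth.Agent.Lib.R2H4TensorPows.rUnit (kernel φ)) 0 (hK0 0 le_rfl)
  let f : Fin r → (PX).Modules := fun i => OO (kk i)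
  let ι' : OO (kk i) ⟶ kernel φ := biproduct.ι f i ≫ (biproduct.isoCoproduct f).hom ≫ eK.inv
  let ρ' : kernel φ ⟶ OO (kk i) := eK.hom ≫ (biproduct.isoCoproduct f).inv ≫ biproduct.π f i
  have hret : ι' ≫ ρ' = 𝟙 _ := by
    simp only [ι', ρ', Category.assoc, Iso.inv_hom_id_assoc, Iso.hom_inv_id_assoc,
      biproduct.ι_π_self]
    rfl
  have hinj := injective_HmapL_of_retract ι' ρ' hret 0
  have : Subsingleton (Coh.HH PX (OO (kk i)) 0) := ⟨fun a c => hinj (Subsingleton.elim _ _)⟩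
  exact not_subsingleton _ this

section Flat

open Groth.Agent.Lib.R2H4TensorPows in
/-- for a flat `E`, `H^0(E(d)) = 0` implies `H^0(E(d')) = 0` for `d' ≤ d` -/
theorem subsingleton_H0_flat_twist_of_le (E : (PX).Modules) (hE : FlatMod.IsFlat E) (d' d : ℤ)
    (hd : d' ≤ d) (h : Subsingleton (Coh.HH PX (CohB1.tensorMod E (OO d)) 0)) :
    Subsingleton (Coh.HH PX (CohB1.tensorMod E (OO d')) 0) := by
  obtain ⟨m, hm⟩ := exists_mono_twist n k d' d hd
  haveI := Groth.Agent.Lib.Helper1.StalkTensor.mono_tensor_of_isFlat m E hE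
  have hinj := Groth.Agent.Lib.R2H2.KoszulBot.injective_HmapL_zero ((DCoh.tensorBi.map m).app E)
  have h1 : Subsingleton (Coh.HH PX (CohB1.tensorMod (OO d) E) 0) :=
    subsingleton_HH_of_iso (tComm E (OO d)) 0 h
  have h2 : Subsingleton (Coh.HH PX (CohB1.tensorMod (OO d') E) 0) :=
    ⟨fun a c => hinj (@Subsingleton.elim _ h1 _ _)⟩
  exact subsingleton_HH_of_iso (tComm (OO d') E) 0 h2

open Groth.Agent.Lib.R2H4TensorPows in
/-- the two-term resolution of `E(-1)` for a locally free `E` with `H^0(E(-1)) = 0` -/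
theorem exists_res_of_locFree (hn : 1 ≤ n) (E : (PX).Modules) {r₀ : ℕ}
    (hE : FlatMod.IsFinLocFreeOfRank r₀ E)
    (hss : Subsingleton (Coh.HH PX (CohB1.tensorMod E (OO (-1))) 0))
    (hmid : ∀ (j : ℤ) (i : ℕ), 0 < i → i + 1 < n →
      Subsingleton (Coh.HH PX ((Tw n k j).obj (CohB1.tensorMod E (OO (-1)))) i)) :
    ∃ (r s : ℕ) (kk : Fin r → ℤ) (mm : Fin s → ℤ) (S : ShortComplex (PX).Modules),
      S.ShortExact ∧ (∀ i, kk i < 0) ∧ (∀ j, mm j < 0) ∧
      Nonempty (S.X₁ ≅ ∐ fun i : Fin r => OO (kk i)) ∧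
      Nonempty (S.X₂ ≅ ∐ fun j : Fin s => OO (mm j)) ∧
      Nonempty (S.X₃ ≅ CohB1.tensorMod E (OO (-1))) := by
  have hlf : FlatMod.IsFinLocFree E := fun x => by
    obtain ⟨U, hx, e⟩ := hE x
    exact ⟨U, r₀, hx, e⟩
  have hfl : FlatMod.IsFlat E := Groth.Agent.Lib.R2H2.PullLF.isFlat_of_isFinLocFree E hlf
  have hEcoh : Coh.IsCoh E := isCoh_of_isFinLocFree E hlf
  have hG : Coh.IsCoh (CohB1.tensorMod E (OO (-1))) := isCoh_twist k n E hEcoh (-1)
  have hlow : ∀ j : ℤ, j ≤ 0 →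
      Subsingleton (Coh.HH PX ((Tw n k j).obj (CohB1.tensorMod E (OO (-1)))) 0) := by
    intro j hj
    obtain ⟨eT⟩ := Groth.Agent.Lib.R2Lead.KRR.nonempty_twistProjSpace_tensor_iso n k (-1) j
    have h1 : Subsingleton (Coh.HH PX (CohB1.tensorMod E (OO (-1 + j))) 0) :=
      subsingleton_H0_flat_twist_of_le k n E hfl (-1 + j) (-1) (by omega) hss
    exact subsingleton_HH_of_iso
      ((tAssoc E (OO (-1)) (OO j) ≪≫ tIso (Iso.refl E) eT).symm) 0 h1
  exact exists_two_term_res k n hn _ hG hlow hmid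

end Flat

end Groth.Agent.Lib.R2H2.PnTwoTermRes
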