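import Groth.Agent.Lib.R2H2WedgeQuad
import Groth.Agent.Lib.R2H2KerInv
import Groth.Agent.Lib.R2H1PicPn
import Groth.Agent.Lib.R2H2PnTwoTermRes
import Groth.Agent.Lib.R2H2PnFinite

/-!
# Rank-two bundles on `P^n_k` with `H^0` of the normalised twist zero are simple (helper2, round 2)

Namespace `Groth.Agent.Lib.R2H2.PnStableSimple`.  `main` = S11505.

* `exists_factor_aux` : an endomorphism `ψ` with `ψ ∧ ψ = 0` factors through an invertible module (locally factorial `X`).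
* `not_subsingleton_of_hom_to` : a nonzero `f : E ⟶ N` gives a nonzero section of `(E ⊗ N) ⊗ (Λ²E)^{-1}`.
* `ufd_stalk`, `end_of_iso_twist`, `eq_zero_of_det_zero`, `main`.
-/

set_option backward.isDefEq.respectTransparency.types false
set_option autoImplicit false
set_option linter.unusedSectionVars false
universe u

namespace Groth.Agent.Lib.R2H2.PnStableSimple

open CategoryTheory CategoryTheory.Limits AlgebraicGeometry TopologicalSpace Opposite
open Groth.Agent.Lib.Helper23.SecTw Groth.Agent.Lib.Helper6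
open Groth.Agent.Lib.R2H2.WedgePair Groth.Agent.Lib.R2H2.DetTriv Groth.Agent.Lib.R2H2.PnSerre
open Groth.Agent.Lib.R2H2.PnLinRes Groth.Agent.Lib.R2H2.WedgeDesc Groth.Agent.Lib.R2H2.PnSimpleNorm
open Groth.Agent.Lib.R2H2.WedgeQuad

variable {X : Scheme.{u}}

section Abstract

/-- an endomorphism with `ψ ∧ ψ = 0` factors through an invertible module -/
theorem exists_factor_aux [IsIntegral X] [IsLocallyNoetherian X]
    (hufd : ∀ x : X, UniqueFactorizationMonoid (X.presheaf.stalk x))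
    (E L A B C : X.Modules) (hE : FlatMod.IsFinLocFreeOfRank 2 E) (D : EPData 2 E L)
    (hA : PicF.IsInvertible A) [(twR A).IsEquivalence] (hB : PicF.IsInvertible B)
    (θ : L ≅ C) (m : CohB1.tensorMod B A ≅ C) (ψ : E ⟶ E)
    (hψ : KoszTw.tensorMap ψ ψ ≫ W D = 0) (v : A ⟶ E) (hv : v ≫ ψ ≠ 0) :
    ∃ (K : X.Modules) (_ : PicF.IsInvertible K) (ψ₁ : E ⟶ K) (i₁ : K ⟶ E), ψ₁ ≫ i₁ = ψ := by
  have hlam : lamOf D θ m (v ≫ ψ) ≠ 0 := lamOf_ne_zero D hE hA θ m _ hv
  have hcomp : ψ ≫ lamOf D θ m (v ≫ ψ) = 0 := comp_lamOf_eq_zero D θ m ψ v hψ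
  exact ⟨kernel (lamOf D θ m (v ≫ ψ)),
    Groth.Agent.Lib.R2H2.KerInv.isInvertible_kernel hufd hE hB _ hlam,
    kernel.lift _ ψ hcomp, kernel.ι _, kernel.lift_ι _ _ _⟩

/-- a nonzero `f : E ⟶ N` gives a nonzero section of `(E ⊗ N) ⊗ C'` where `C' ⊗ Λ²E ≅ O` -/
theorem not_subsingleton_of_hom_to (E L N C C' : X.Modules)
    (hE : FlatMod.IsFinLocFreeOfRank 2 E) (hN : PicF.IsInvertible N) (D : EPData 2 E L)
    (θ : L ≅ C) [(twR C').IsEquivalence] (w : CohB1.tensorMod C C' ≅ Coh.structureModule X)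
    (f : E ⟶ N) (hf : f ≠ 0) :
    ¬ Subsingleton (Coh.HH X (CohB1.tensorMod (CohB1.tensorMod E N) C') 0) := by
  have h1 : W D ≫ descW D (Xi f) (Xi_tm_self f) = Xi f := W_descW D (Xi f) (Xi_tm_self f)
  have h2 : descW D (Xi f) (Xi_tm_self f) ≠ 0 := by
    intro h0
    apply Xi_ne_zero hE hN f hf
    rw [← h1, h0, comp_zero]
  refine not_subsingleton_of_hom_aux (CohB1.tensorMod E N) C C' w
    (θ.inv ≫ descW D (Xi f) (Xi_tm_self f)) ?_
  intro h0
  apply h2
  have h3 : θ.hom ≫ θ.inv ≫ descW D (Xi f) (Xi_tm_self f) = 0 := by rw [h0, comp_zero]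
  rwa [Iso.hom_inv_id_assoc] at h3

end Abstract

section Pn

variable (k : Type u) [Field k] (n : ℕ)

local notation "PX" => CohB1.ProjSpace n k
local notation "OO" => Twist.twistProjSpace n k

attribute [local instance] isIntegral_projSpace

open Groth.Agent.Lib.R2H1.PicPn in
theorem ufd_stalk_aux (x : Proj (CohB1.polyGrading n k)) :
    UniqueFactorizationMonoid ((Proj (CohB1.polyGrading n k)).presheaf.stalk x) := by
  have hx : x ∈ ⨆ i, U n k i := by
    rw [iSup_U]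
    trivial
  obtain ⟨i, hi⟩ := Opens.mem_iSup.1 hx
  haveI := ufd_U n k i
  haveI := isDomain_U n k i
  letI : Algebra Γ(Proj (CohB1.polyGrading n k), U n k i)
      ((Proj (CohB1.polyGrading n k)).presheaf.stalk x) :=
    (Proj (CohB1.polyGrading n k)).presheaf.algebra_section_stalk (U := U n k i) ⟨x, hi⟩
  haveI : IsLocalization ((isAffineOpen_U n k i).primeIdealOf ⟨x, hi⟩).asIdeal.primeCompl
      ((Proj (CohB1.polyGrading n k)).presheaf.stalk x) :=
    (isAffineOpen_U n k i).isLocalization_stalk ⟨x, hi⟩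
  exact UniqueFactorizationMonoid.of_isLocalization
    ((isAffineOpen_U n k i).primeIdealOf ⟨x, hi⟩).asIdeal.primeCompl
    ((Proj (CohB1.polyGrading n k)).presheaf.stalk x)

/-- the local rings of projective space over a field are factorial -/
theorem ufd_stalk (x : PX) : UniqueFactorizationMonoid ((PX).presheaf.stalk x) :=
  ufd_stalk_aux k n x

/-- endomorphisms of a module isomorphic to a twist are scalars -/
theorem end_of_iso_twist (L : (PX).Modules) (c : ℤ) (θ : L ≅ OO c) (f : L ⟶ L) :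
    ∃ d : k, f = d • 𝟙 L := by
  haveI : (twR (OO (-c))).IsEquivalence := Groth.Agent.Lib.R2H2.PnGG.isEquivalence_twR n k (-c)
  obtain ⟨w₀⟩ := Groth.Agent.Lib.R2Lead.KRR.nonempty_twistProjSpace_tensor_iso n k c (-c)
  obtain ⟨z⟩ := Groth.Agent.Lib.R2Lead.KRR.nonempty_twistProjSpace_zero_iso n k
  exact end_of_iso_aux k (Groth.Agent.Lib.R2H2.PnOmSimple.end_unit k n) L (OO c) (OO (-c)) θ
    (w₀ ≪≫ eqToIso (congrArg (fun j => OO j) (add_neg_cancel c)) ≪≫ z) f

/-- a nonzero morphism `O(a) ⟶ M` gives a nonzero section of `M(-a)` -/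
theorem not_subsingleton_of_hom (M : (PX).Modules) (a : ℤ) (s : OO a ⟶ M) (hs : s ≠ 0) :
    ¬ Subsingleton (Coh.HH PX (CohB1.tensorMod M (OO (-a))) 0) := by
  haveI : (twR (OO (-a))).IsEquivalence := Groth.Agent.Lib.R2H2.PnGG.isEquivalence_twR n k (-a)
  obtain ⟨w₀⟩ := Groth.Agent.Lib.R2Lead.KRR.nonempty_twistProjSpace_tensor_iso n k a (-a)
  obtain ⟨z⟩ := Groth.Agent.Lib.R2Lead.KRR.nonempty_twistProjSpace_zero_iso n k
  exact not_subsingleton_of_hom_aux M (OO a) (OO (-a))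
    (w₀ ≪≫ eqToIso (congrArg (fun j => OO j) (add_neg_cancel a)) ≪≫ z) s hs

open Groth.Agent.Lib.R2H4TensorPows in
/-- **an endomorphism with vanishing determinant is zero** when `H^0` of the normalised twist vanishes -/
theorem eq_zero_of_det_zero (E L : (PX).Modules) (hE : FlatMod.IsFinLocFreeOfRank 2 E)
    (D : EPData 2 E L) (c k₀ : ℤ) (θ : L ≅ OO c) (hk₀ : -1 ≤ c + 2 * k₀)
    (h0 : Subsingleton (Coh.HH PX (CohB1.tensorMod E (OO k₀)) 0))
    (ψ : E ⟶ E) (hψ : KoszTw.tensorMap ψ ψ ≫ W D = 0) : ψ = 0 := by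
  by_contra hne
  have hEc : Coh.IsCoh E := Groth.Agent.Lib.R2H4DegAdd.isCoh_of_rank hE
  obtain ⟨r, d, p, hp⟩ := Groth.Agent.Lib.R2H2.PnFinite.exists_epi_twists n k E hEc
  obtain ⟨j, hj⟩ : ∃ j, (biproduct.ι (fun j : Fin r => OO (d j)) j ≫ p) ≫ ψ ≠ 0 := by
    by_contra hcon
    push Not at hcon
    apply hne
    have h1 : p ≫ ψ = 0 := by
      apply biproduct.hom_ext'
      intro j
      rw [← Category.assoc, hcon j, comp_zero]
    exact (cancel_epi p).1 (h1.trans comp_zero.symm)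
  -- the factorisation through a line bundle
  haveI : (twR (OO (d j))).IsEquivalence :=
    Groth.Agent.Lib.R2H2.PnGG.isEquivalence_twR n k (d j)
  obtain ⟨m₀⟩ := Groth.Agent.Lib.R2Lead.KRR.nonempty_twistProjSpace_tensor_iso n k (c - d j) (d j)
  obtain ⟨K, hK, ψ₁, i₁, hfac⟩ := exists_factor_aux (ufd_stalk k n) E L (OO (d j)) (OO (c - d j))
    (OO c) hE D (isInv n k (d j)) (isInv n k (c - d j)) θ
    (m₀ ≪≫ eqToIso (congrArg (fun j => OO j) (sub_add_cancel c (d j)))) ψ hψ _ hj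
  obtain ⟨b, ⟨κ⟩⟩ := Groth.Agent.Lib.R2H1.PicPn.exists_iso_twist n k K hK
  have hψ₁ : ψ₁ ≫ κ.hom ≠ 0 := by
    intro h1
    apply hne
    have h2 : ψ₁ = 0 := by
      have : (ψ₁ ≫ κ.hom) ≫ κ.inv = 0 := by rw [h1, zero_comp]
      rwa [Category.assoc, Iso.hom_inv_id, Category.comp_id] at this
    rw [← hfac, h2, zero_comp]
  have hi₁ : κ.inv ≫ i₁ ≠ 0 := by
    intro h1
    apply hne
    have h2 : i₁ = 0 := by
      have : κ.hom ≫ κ.inv ≫ i₁ = 0 := by rw [h1, comp_zero]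
      rwa [Iso.hom_inv_id_assoc] at this
    rw [← hfac, h2, comp_zero]
  -- numerics
  have hfl : FlatMod.IsFlat E := Groth.Agent.Lib.R2H2.PullLF.isFlat_of_isFinLocFree E
    (Groth.Agent.Lib.R2H4DegAdd.isFinLocFree_of_rank hE)
  have h1 : k₀ < -b := by
    by_contra hle
    push Not at hle
    exact not_subsingleton_of_hom k n E b (κ.inv ≫ i₁) hi₁
      (Groth.Agent.Lib.R2H2.PnTwoTermRes.subsingleton_H0_flat_twist_of_le k n E hfl (-b) k₀ hle h0)
  have h2 : k₀ < b + -c := by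
    by_contra hle
    push Not at hle
    haveI : (twR (OO (-c))).IsEquivalence :=
      Groth.Agent.Lib.R2H2.PnGG.isEquivalence_twR n k (-c)
    obtain ⟨w₀⟩ := Groth.Agent.Lib.R2Lead.KRR.nonempty_twistProjSpace_tensor_iso n k c (-c)
    obtain ⟨z⟩ := Groth.Agent.Lib.R2Lead.KRR.nonempty_twistProjSpace_zero_iso n k
    obtain ⟨eT⟩ := Groth.Agent.Lib.R2Lead.KRR.nonempty_twistProjSpace_tensor_iso n k b (-c)
    have h3 := not_subsingleton_of_hom_to E L (OO b) (OO c) (OO (-c)) hE (isInv n k b) D θ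
      (w₀ ≪≫ eqToIso (congrArg (fun j => OO j) (add_neg_cancel c)) ≪≫ z) (ψ₁ ≫ κ.hom) hψ₁
    apply h3
    have h4 := Groth.Agent.Lib.R2H2.PnTwoTermRes.subsingleton_H0_flat_twist_of_le k n E hfl
      (b + -c) k₀ hle h0
    exact subsingleton_HH_of_iso ((tAssoc E (OO b) (OO (-c)) ≪≫ tIso (Iso.refl E) eT).symm) 0 h4
  omega

/-- **S11505** -/
theorem main [IsAlgClosed k] (E : (PX).Modules) (hE : FlatMod.IsFinLocFreeOfRank 2 E) (c k₀ : ℤ)
    (hdet : ∃ L : (PX).Modules, ExtPow.IsExtPow 2 E L ∧ Nonempty (L ≅ OO c))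
    (hk₀ : c + 2 * k₀ = 0 ∨ c + 2 * k₀ = -1)
    (h0 : Subsingleton (Coh.HH PX (CohB1.tensorMod E (OO k₀)) 0)) (φ : E ⟶ E) :
    ∃ c' : k, (SheafOfModules.toSheaf (PX).ringCatSheaf).map φ =
      Coh.smulAb E (Coh.toGlobal (CohB1.ProjSpace.toSpec n k) c') := by
  obtain ⟨L, hL, ⟨θ⟩⟩ := hdet
  obtain ⟨D⟩ := nonempty_EPData hL
  obtain ⟨t, ht⟩ := exists_root k D (end_of_iso_twist k n L c θ) φ
  have h1 : φ - t • 𝟙 E = 0 :=
    eq_zero_of_det_zero k n E L hE D c k₀ θ (by omega) h0 _ ht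
  refine ⟨t, ?_⟩
  rw [sub_eq_zero.1 h1]
  exact toSheaf_map_smul_id k n E t

end Pn

end Groth.Agent.Lib.R2H2.PnStableSimple
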