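import Mathlib

/-!
# Splicing short exact sequences into resolutions (helper2, round 2)

A resolution of `K` together with a short exact sequence `0 → K → E → G → 0` gives a resolution
of `G` (by `ChainComplex.augment`).
-/

set_option autoImplicit false
set_option linter.style.haveILetI false
universe v u

namespace Groth.Agent.Lib.R2H2.Splice

open CategoryTheory CategoryTheory.Limits

variable {𝒜 : Type u} [Category.{v} 𝒜] [Abelian 𝒜]

/-- the data of a (left) resolution of `G` of length at most `s` by objects satisfying `Q` -/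
def HasRes (Q : 𝒜 → Prop) (s : ℕ) (G : 𝒜) : Prop :=
  ∃ (C : ChainComplex 𝒜 ℕ) (π : C.X 0 ⟶ G) (w : C.d 1 0 ≫ π = 0),
    (∀ i : ℕ, s < i → IsZero (C.X i)) ∧ (∀ i : ℕ, Q (C.X i)) ∧
    (∀ i : ℕ, 1 ≤ i → IsZero (C.homology i)) ∧ Epi π ∧ (ShortComplex.mk (C.d 1 0) π w).Exact

theorem exact_epi_comp {A B C A' : 𝒜} (f : A ⟶ B) (g : B ⟶ C) (w : f ≫ g = 0)
    (h : (ShortComplex.mk f g w).Exact) (e : A' ⟶ A) [Epi e] :
    (ShortComplex.mk (e ≫ f) g (by rw [Category.assoc, w, comp_zero])).Exact := by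
  let φ : ShortComplex.mk (e ≫ f) g (by rw [Category.assoc, w, comp_zero]) ⟶
      ShortComplex.mk f g w :=
    { τ₁ := e
      τ₂ := 𝟙 _
      τ₃ := 𝟙 _
      comm₁₂ := by simp
      comm₂₃ := by simp }
  haveI : Epi φ.τ₁ := by dsimp [φ]; infer_instance
  haveI : IsIso φ.τ₂ := by dsimp [φ]; infer_instance
  haveI : Mono φ.τ₃ := by dsimp [φ]; infer_instance
  exact (ShortComplex.exact_iff_of_epi_of_isIso_of_mono φ).2 h

theorem exact_comp_mono {A B C C' : 𝒜} (f : A ⟶ B) (g : B ⟶ C) (w : f ≫ g = 0)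
    (h : (ShortComplex.mk f g w).Exact) (m : C ⟶ C') [Mono m] :
    (ShortComplex.mk f (g ≫ m) (by rw [← Category.assoc, w, zero_comp])).Exact := by
  let φ : ShortComplex.mk f g w ⟶
      ShortComplex.mk f (g ≫ m) (by rw [← Category.assoc, w, zero_comp]) :=
    { τ₁ := 𝟙 _
      τ₂ := 𝟙 _
      τ₃ := m
      comm₁₂ := by simp
      comm₂₃ := by simp }
  haveI : Epi φ.τ₁ := by dsimp [φ]; infer_instance
  haveI : IsIso φ.τ₂ := by dsimp [φ]; infer_instance
  haveI : Mono φ.τ₃ := by dsimp [φ]; infer_instance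
  exact (ShortComplex.exact_iff_of_epi_of_isIso_of_mono φ).1 h

/-- an object satisfying `Q` is its own resolution -/
theorem hasRes_zero (Q : 𝒜 → Prop) (h0 : ∀ Z : 𝒜, IsZero Z → Q Z) (G : 𝒜) (hG : Q G) :
    HasRes Q 0 G := by
  let C : ChainComplex 𝒜 ℕ := (ChainComplex.single₀ 𝒜).obj G
  have hX : ∀ i : ℕ, 0 < i → IsZero (C.X i) := fun i hi =>
    HomologicalComplex.isZero_single_obj_X (ComplexShape.down ℕ) 0 G i (by omega)
  have hd : C.d 1 0 = 0 := (hX 1 Nat.one_pos).eq_of_src _ _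
  have hepi : Epi (𝟙 G) := inferInstance
  have hmono : Mono (𝟙 G) := inferInstance
  refine ⟨C, 𝟙 G, by rw [hd, zero_comp], hX, fun i => ?_, fun i hi => ?_, hepi, ?_⟩
  · rcases Nat.eq_zero_or_pos i with h | h
    · subst h
      exact hG
    · exact h0 _ (hX i h)
  · rw [← HomologicalComplex.exactAt_iff_isZero_homology, HomologicalComplex.exactAt_iff]
    exact ShortComplex.exact_of_isZero_X₂ _ (hX i (by omega))
  · rw [ShortComplex.exact_iff_mono _ hd]
    exact hmono

/-- prolonging a resolution of the kernel along a short exact sequence -/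
theorem hasRes_succ (Q : 𝒜 → Prop) (s : ℕ) {K E G : 𝒜} (ι : K ⟶ E) (φ : E ⟶ G)
    (w : ι ≫ φ = 0) (hS : (ShortComplex.mk ι φ w).ShortExact) (hE : Q E)
    (h : HasRes Q s K) : HasRes Q (s + 1) G := by
  obtain ⟨C', π', w', hX', hQ', hH', hπ', hex'⟩ := h
  haveI : Mono ι := hS.mono_f
  have hepiφ : Epi φ := hS.epi_g
  have wa : C'.d 1 0 ≫ π' ≫ ι = 0 := by rw [← Category.assoc, w', zero_comp]
  let C : ChainComplex 𝒜 ℕ := C'.augment (π' ≫ ι) wa
  have wC : C.d 1 0 ≫ φ = 0 := by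
    change (π' ≫ ι) ≫ φ = 0
    rw [Category.assoc, w, comp_zero]
  refine ⟨C, φ, wC, fun i hi => ?_, fun i => ?_, fun i hi => ?_, hepiφ, ?_⟩
  · obtain ⟨i', rfl⟩ : ∃ i', i = i' + 1 := ⟨i - 1, by omega⟩
    exact hX' i' (by omega)
  · rcases Nat.eq_zero_or_pos i with h | h
    · subst h
      exact hE
    · obtain ⟨i', rfl⟩ : ∃ i', i = i' + 1 := ⟨i - 1, by omega⟩
      exact hQ' i'
  · rw [← HomologicalComplex.exactAt_iff_isZero_homology]
    obtain ⟨i', rfl⟩ : ∃ i', i = i' + 1 := ⟨i - 1, by omega⟩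
    rw [HomologicalComplex.exactAt_iff' C (i' + 2) (i' + 1) i' (ChainComplex.prev ℕ (i' + 1))
      (ChainComplex.next_nat_succ i')]
    rcases Nat.eq_zero_or_pos i' with h | h
    · subst h
      exact exact_comp_mono (C'.d 1 0) π' w' hex' ι
    · obtain ⟨j, rfl⟩ : ∃ j, i' = j + 1 := ⟨i' - 1, by omega⟩
      have h1 := hH' (j + 1) (by omega)
      rw [← HomologicalComplex.exactAt_iff_isZero_homology,
        HomologicalComplex.exactAt_iff' C' (j + 2) (j + 1) j (ChainComplex.prev ℕ (j + 1))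
          (ChainComplex.next_nat_succ j)] at h1
      exact h1
  · exact exact_epi_comp ι φ w hS.exact π'

end Groth.Agent.Lib.R2H2.Splice
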