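import Groth.Agent.Lib.R2H2PnBeilinson
import Groth.Agent.Lib.R2H2Splice

/-!
# Resolutions of coherent modules on `P^n_k` by sums of twisting sheaves (helper2, round 2)

* `exists_minimal_step`: for an `m`-regular coherent `G` there is an epimorphism `O(-m)^b ↠ G`
  inducing an isomorphism on `H^0(-(m))`; its kernel `K` is `(m+1)`-regular and `H^0(K(m)) = 0`
* `hasRes`: every coherent module on `P^n_k` has a resolution of length `≤ n` by finite direct sums
  of twisting sheaves (Hilbert's syzygy theorem, sheaf form)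
-/

set_option autoImplicit false
set_option linter.style.haveILetI false
universe u

namespace Groth.Agent.Lib.R2H2.PnSyzygy

open CategoryTheory CategoryTheory.Limits AlgebraicGeometry Opposite
open Groth.Agent.Lib.R2H2.HHLin Groth.Agent.Lib.R2H2.PnSerre
  Groth.Agent.Lib.R2H2.PnMumford Groth.Agent.Lib.R2H2.PnLinRes Groth.Agent.Lib.R2H2.PnGG
  Groth.Agent.Lib.R2H2.PnHorrocks Groth.Agent.Lib.R2H2.PnLocFree
  Groth.Agent.Lib.R2H2.PnBeilinson Groth.Agent.Lib.R2H2.Splice

variable (k : Type u) [Field k] (n : ℕ)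

local notation "PX" => CohB1.ProjSpace n k

/-- **a minimal step of the linear resolution** -/
theorem exists_minimal_step (G : (PX).Modules) (hG : Coh.IsCoh G) (m : ℤ)
    (hreg : ∀ i : ℕ, 1 ≤ i → i ≤ n → Subsingleton (Coh.HH PX
      (CohB1.tensorMod G (Twist.twistProjSpace n k (m - i))) i)) :
    ∃ (b : ℕ) (φ : (∐ fun _ : Fin b => Twist.twistProjSpace n k (-m)) ⟶ G), Epi φ ∧
      (∀ i : ℕ, 1 ≤ i → i ≤ n → Subsingleton (Coh.HH PX
        (CohB1.tensorMod (kernel φ) (Twist.twistProjSpace n k (m + 1 - i))) i)) ∧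
      Subsingleton (Coh.HH PX (CohB1.tensorMod (kernel φ) (Twist.twistProjSpace n k m)) 0) := by
  let T : (PX).Modules ⥤ (PX).Modules := Tw n k m
  have hT : T.IsEquivalence := isEquivalence_twR n k m
  have hcoh : Coh.IsCoh (T.obj G) := isCoh_twist k n G hG m
  have hfin : Module.Finite k (Coh.HH PX (T.obj G) 0) :=
    Groth.Agent.Lib.R2H2.PnFinite.finite_HH n k _ hcoh 0
  let b : ℕ := Module.finrank k (Coh.HH PX (T.obj G) 0)
  let x : Module.Basis (Fin b) k (Coh.HH PX (T.obj G) 0) := Module.finBasis k _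
  obtain ⟨e⟩ := Groth.Agent.Lib.R2Lead.KRR.nonempty_twistProjSpace_tensor_iso n k (-m) m
  obtain ⟨z⟩ := Groth.Agent.Lib.R2Lead.KRR.nonempty_twistProjSpace_zero_iso n k
  let w : T.obj (Twist.twistProjSpace n k (-m)) ≅ Coh.structureModule PX :=
    e ≪≫ eqToIso (by rw [neg_add_cancel]) ≪≫ z
  obtain ⟨φ, hφ⟩ := exists_desc T G (Twist.twistProjSpace n k (-m)) w b x (fun y => by
    refine ⟨fun j => Coh.toGlobal (PX ↘ Spec (CommRingCat.of k)) (x.repr y j), ?_⟩
    exact (x.sum_repr y).symm.trans (Finset.sum_congr rfl (fun j _ => rfl)))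
  have hgg := globallyGenerated_of_regular n k G hG m hreg
  have hep : Epi (T.map φ) := epi_of_surjective_H0 (T.map φ) hgg hφ
  have hepφ : Epi φ := T.epi_of_epi_map hep
  -- injectivity on `H^0` by a dimension count
  have hsrc : Module.finrank k (Coh.HH PX (T.obj (∐ fun _ : Fin b =>
      Twist.twistProjSpace n k (-m))) 0) = b := by
    have h1 := finrank_H0_split k n b (fun _ => -m) m
    rw [h1]
    have h2 : ∀ j : Fin b, Module.finrank k (Coh.HH PX ((Tw n k m).obj
        (Twist.twistProjSpace n k (-m))) 0) = 1 := fun _ => by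
      have h3 := gdim_self k n (-m)
      rw [neg_neg] at h3
      exact h3
    rw [Finset.sum_congr rfl (fun j _ => h2 j), Finset.sum_const, Finset.card_univ,
      Fintype.card_fin, smul_eq_mul, mul_one]
  have hAcoh : Coh.IsCoh (∐ fun _ : Fin b => Twist.twistProjSpace n k (-m)) :=
    isCoh_coprod_twist k n (fun _ => -m)
  have hfinA : Module.Finite k (Coh.HH PX (T.obj (∐ fun _ : Fin b =>
      Twist.twistProjSpace n k (-m))) 0) :=
    Groth.Agent.Lib.R2H2.PnFinite.finite_HH n k _ (isCoh_twist k n _ hAcoh m) 0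
  have hinj : Function.Injective (HmapL (T.map φ) 0) := by
    have h1 : Function.Injective (HmapA k (T.map φ) 0) ↔ Function.Surjective (HmapA k (T.map φ) 0) :=
      LinearMap.injective_iff_surjective_of_finrank_eq_finrank hsrc
    exact h1.2 hφ
  refine ⟨b, φ, hepφ, kernel_regular n k G m b φ hepφ hreg hφ, ?_⟩
  -- the kernel
  let S : ShortComplex (PX).Modules := ShortComplex.mk (kernel.ι φ) φ (kernel.condition φ)
  have hS : S.ShortExact :=
    { exact := ShortComplex.exact_kernel φ
      mono_f := equalizer.ι_mono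
      epi_g := hepφ }
  have hS' : (S.map T).ShortExact := shortExact_map_twR _ (isInv n k m) S hS
  have hmono : Mono (T.map (kernel.ι φ)) := hS'.mono_f
  have h0 : ∀ y : Coh.HH PX (T.obj (kernel φ)) 0, y = 0 := fun y => by
    apply Groth.Agent.Lib.R2H2.DualExtGen.injective_HmapL_zero (T.map (kernel.ι φ))
    apply hinj
    rw [← HmapL_comp, ← T.map_comp, kernel.condition, T.map_zero, HmapL_zero, map_zero,
      map_zero]
  exact ⟨fun a c => (h0 a).trans (h0 c).symm⟩

/-- finite direct sums of twisting sheaves -/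
def IsSumOfTwists (X : (PX).Modules) : Prop :=
  ∃ (m : ℕ) (d : Fin m → ℤ), Nonempty (X ≅ ∐ fun j : Fin m => Twist.twistProjSpace n k (d j))

theorem isSumOfTwists_of_isZero (Z : (PX).Modules) (hZ : IsZero Z) : IsSumOfTwists k n Z := by
  refine ⟨0, fun _ => 0, ⟨hZ.iso ?_⟩⟩
  rw [IsZero.iff_id_eq_zero]
  exact Limits.Sigma.hom_ext _ _ (fun j => Fin.elim0 j)

/-- **induction along the minimal linear resolution** : a property of coherent modules on `P^n_k`
which holds for direct sums `O(m)^b` and passes from the kernel of an epimorphism `O(m)^b ↠ G` to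
`G` holds for all coherent modules (after at most `n` steps) -/
theorem syzygy_induction_aux (motive : ℕ → (PX).Modules → Prop)
    (h0 : ∀ (G : (PX).Modules) (b : ℕ) (m : ℤ), Coh.IsCoh G →
      Nonempty (G ≅ ∐ fun _ : Fin b => Twist.twistProjSpace n k m) → motive 0 G)
    (hs : ∀ (s b : ℕ) (m : ℤ) (G : (PX).Modules)
      (φ : (∐ fun _ : Fin b => Twist.twistProjSpace n k m) ⟶ G), Epi φ → Coh.IsCoh G →
      Coh.IsCoh (kernel φ) → motive s (kernel φ) → motive (s + 1) G)
    (m₀ : ℤ) : ∀ (s j : ℕ), j + s = n → ∀ (G : (PX).Modules), Coh.IsCoh G →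
    (∀ i : ℕ, 1 ≤ i → i ≤ n → Subsingleton (Coh.HH PX
      (CohB1.tensorMod G (Twist.twistProjSpace n k (m₀ + j - i))) i)) →
    (∀ i : ℕ, 1 ≤ i → i ≤ j → Subsingleton (Coh.HH PX
      (CohB1.tensorMod G (Twist.twistProjSpace n k (m₀ + j - i))) (i - 1))) →
    motive s G := by
  intro s
  induction s with
  | zero =>
    intro j hj G hG hreg hlow
    have hjn : j = n := by omega
    subst hjn
    obtain ⟨b, he⟩ := nonempty_iso_coprod_of_vanishing k j G hG (m₀ + j) hreg hlow
    exact h0 G b (-(m₀ + j)) hG he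
  | succ s ih =>
    intro j hj G hG hreg hlow
    obtain ⟨b, φ, hepφ, hregK, h0K⟩ := exists_minimal_step k n G hG (m₀ + j) hreg
    have hAcoh : Coh.IsCoh (∐ fun _ : Fin b => Twist.twistProjSpace n k (-(m₀ + j))) :=
      isCoh_coprod_twist k n (fun _ => -(m₀ + j))
    have hK : Coh.IsCoh (kernel φ) := isCoh_kernel k n hAcoh hG φ
    let S : ShortComplex (PX).Modules := ShortComplex.mk (kernel.ι φ) φ (kernel.condition φ)
    have hS : S.ShortExact :=
      { exact := ShortComplex.exact_kernel φ
        mono_f := equalizer.ι_mono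
        epi_g := hepφ }
    have hres : motive s (kernel φ) := by
      apply ih (j + 1) (by omega) (kernel φ) hK
      · intro i hi hin
        have e1 : m₀ + ((j + 1 : ℕ) : ℤ) - (i : ℤ) = m₀ + j + 1 - i := by push_cast; ring
        rw [e1]
        exact hregK i hi hin
      · intro i hi hij
        rcases Nat.lt_or_ge i 2 with h2 | h2
        · have hi1 : i = 1 := by omega
          subst hi1
          have e1 : m₀ + ((j + 1 : ℕ) : ℤ) - ((1 : ℕ) : ℤ) = m₀ + j := by push_cast; ring
          rw [e1]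
          exact h0K
        · obtain ⟨l, rfl⟩ : ∃ l, i = l + 2 := ⟨i - 2, by omega⟩
          have e1 : m₀ + ((j + 1 : ℕ) : ℤ) - ((l + 2 : ℕ) : ℤ) = m₀ + j - ((l + 1 : ℕ) : ℤ) := by
            push_cast; ring
          rw [e1]
          have hS' : (S.map (Tw n k (m₀ + j - ((l + 1 : ℕ) : ℤ)))).ShortExact :=
            shortExact_map_twR _ (isInv n k _) S hS
          have h3 : Subsingleton (Coh.HH PX (S.map (Tw n k (m₀ + j - ((l + 1 : ℕ) : ℤ)))).X₃ l) := by
            have h4 := hlow (l + 1) (by omega) (by omega)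
            have e4 : l + 1 - 1 = l := by omega
            rw [e4] at h4
            exact h4
          have h2' : Subsingleton (Coh.HH PX
              (S.map (Tw n k (m₀ + j - ((l + 1 : ℕ) : ℤ)))).X₂ (l + 1)) :=
            subsingleton_HH_twR_coprod n k b (-(m₀ + j)) (m₀ + j - ((l + 1 : ℕ) : ℤ)) (l + 1)
              (by omega) (by
                rintro ⟨h1, h2⟩
                push_cast at h2
                omega)
          have e5 : l + 2 - 1 = l + 1 := by omega
          rw [e5]
          exact subsingleton_X₁_succ _ hS' l h3 h2'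
    exact hs s b (-(m₀ + j)) G φ hepφ hG hK hres

theorem syzygy_induction (motive : ℕ → (PX).Modules → Prop)
    (h0 : ∀ (G : (PX).Modules) (b : ℕ) (m : ℤ), Coh.IsCoh G →
      Nonempty (G ≅ ∐ fun _ : Fin b => Twist.twistProjSpace n k m) → motive 0 G)
    (hs : ∀ (s b : ℕ) (m : ℤ) (G : (PX).Modules)
      (φ : (∐ fun _ : Fin b => Twist.twistProjSpace n k m) ⟶ G), Epi φ → Coh.IsCoh G →
      Coh.IsCoh (kernel φ) → motive s (kernel φ) → motive (s + 1) G)
    (F : (PX).Modules) (hF : Coh.IsCoh F) : motive n F := by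
  obtain ⟨d₀, hd₀⟩ := serre_vanishing_all n k F hF
  apply syzygy_induction_aux k n motive h0 hs (d₀ + n) n 0 (by omega) F hF
  · intro i hi hin
    apply hd₀ _ _ i (by omega)
    push_cast
    omega
  · intro i hi hi0
    omega

/-- **Hilbert's syzygy theorem on `P^n_k`** : every coherent module has a resolution of length
at most `n` by finite direct sums of twisting sheaves -/
theorem hasRes (F : (PX).Modules) (hF : Coh.IsCoh F) : HasRes (IsSumOfTwists k n) n F := by
  apply syzygy_induction k n (fun s G => HasRes (IsSumOfTwists k n) s G) _ _ F hF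
  · intro G b m _ he
    exact hasRes_zero _ (isSumOfTwists_of_isZero k n) G ⟨b, fun _ => m, he⟩
  · intro s b m G φ hepφ _ _ hres
    have hS : (ShortComplex.mk (kernel.ι φ) φ (kernel.condition φ)).ShortExact :=
      { exact := ShortComplex.exact_kernel φ
        mono_f := equalizer.ι_mono
        epi_g := hepφ }
    exact hasRes_succ _ s (kernel.ι φ) φ (kernel.condition φ) hS
      ⟨b, fun _ => m, ⟨Iso.refl _⟩⟩ hres

end Groth.Agent.Lib.R2H2.PnSyzygy
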