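import Groth.Agent.Lib.R2H2PrimDecE
import Groth.Agent.Lib.Helper4NormDelta
set_option backward.isDefEq.respectTransparency.types false

/-!
# Uniqueness of the primary decomposition without embedded points (helper2, round 2)

* `exists_iso_of_kernel` : two epimorphisms out of `M` with the same kernel have isomorphic targets under `M`.
* `eq_zero_of_ass_disjoint` : a section of a quasi-coherent module over an open containing no associated point is zero.
* `eq_zero_of_forall_app_eq_zero` : a jointly monomorphic family is jointly injective on sections over any open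
  (via extension by zero).
* `finite_ass_inter` : finitely many associated points in an affine open.
* `germ_eq_zero` : for a primary decomposition of `M` without embedded points, `M_x → (G_x)_x` is injective.
* `kernel_comp_eq_zero`, `main`.
-/

set_option autoImplicit false
set_option linter.unusedSectionVars false
set_option linter.style.haveILetI false
universe u
open CategoryTheory CategoryTheory.Limits AlgebraicGeometry TopologicalSpace Opposite

noncomputable section

namespace Groth.Agent.Lib.R2H2.PrimUniq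

section Abelian

universe v w
variable {C : Type w} [Category.{v} C] [Abelian C] {M G G' : C}

lemma exists_desc (q : M ⟶ G) (q' : M ⟶ G') [Epi q] (h : kernel.ι q ≫ q' = 0) :
    ∃ e : G ⟶ G', q ≫ e = q' := by
  have hc := Abelian.epiIsCokernelOfKernel _ (kernelIsKernel q)
  obtain ⟨l, hl⟩ := CokernelCofork.IsColimit.desc' hc q' h
  exact ⟨l, hl⟩

theorem exists_iso_of_kernel (q : M ⟶ G) (q' : M ⟶ G') [Epi q] [Epi q']
    (h : kernel.ι q ≫ q' = 0) (h' : kernel.ι q' ≫ q = 0) :
    ∃ e : G ≅ G', q ≫ e.hom = q' := by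
  obtain ⟨e, he⟩ := exists_desc q q' h
  obtain ⟨e', he'⟩ := exists_desc q' q h'
  refine ⟨⟨e, e', ?_, ?_⟩, he⟩
  · rw [← cancel_epi q, ← Category.assoc, he, he', Category.comp_id]
  · rw [← cancel_epi q', ← Category.assoc, he', he, Category.comp_id]

end Abelian

section Sch

open Groth.Agent.Lib.Helper2.QCoh Groth.Agent.Lib.Helper2.Ass Groth.Agent.Lib.Helper23.SecTw

variable {X : Scheme.{u}}

/-- a section of a quasi-coherent module over an open containing no associated point vanishes -/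
lemma eq_zero_of_ass_disjoint (N : X.Modules) [N.IsQuasicoherent] (V : X.Opens) (t : Γ(N, V))
    (h : ∀ y ∈ AssSch.Ass N, y ∉ V) : t = 0 := by
  by_contra ht
  obtain ⟨y, hyV, hy, -⟩ := exists_isWeakAssPoint_of_ne_zero_open N V t ht
  exact h y ((isAssPoint_iff_isWeakAssPoint N y).2 hy) hyV

/-- finitely many associated points in an affine open -/
theorem finite_ass_inter [IsLocallyNoetherian X] (M : X.Modules) (hM : Coh.IsCoh M) (U : X.Opens)
    (hU : IsAffineOpen U) : (AssSch.Ass M ∩ (U : Set X)).Finite := by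
  haveI := hM.1
  haveI := hM.2
  haveI : IsNoetherianRing Γ(X, U) := IsLocallyNoetherian.component_noetherian ⟨U, hU⟩
  haveI : Module.Finite Γ(X, U) Γ(M, U) :=
    Groth.Agent.Lib.Helper23.FinType.finite_of_isFiniteType M hU
  have hA : (associatedPrimes Γ(X, U) Γ(M, U)).Finite := associatedPrimes.finite _ _
  have hP : {P : PrimeSpectrum Γ(X, U) | P.asIdeal ∈ associatedPrimes Γ(X, U) Γ(M, U)}.Finite :=
    hA.preimage (fun P _ Q _ h => PrimeSpectrum.ext h)
  refine (hP.image (fun P => hU.fromSpec P)).subset ?_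
  rintro x ⟨hx, hxU⟩
  refine ⟨hU.primeIdealOf ⟨x, hxU⟩, ?_, hU.fromSpec_primeIdealOf ⟨x, hxU⟩⟩
  exact (Groth.Agent.Lib.Helper23.AssAffine.isAssPoint_iff_mem_associatedPrimes hU M x hxU).1 hx

lemma secHom_comp {Y : Scheme.{u}} {M N : Y.Modules} (σ : Γ(M, ⊤)) (p : M ⟶ N) :
    secHom M σ ≫ p = secHom N (p.app ⊤ σ) := by
  unfold secHom
  refine (SheafOfModules.unitHomEquiv_symm_comp _ p).trans ?_
  congr 1
  ext U
  have n1 := congr($(p.mapPresheaf.naturality (homOfLE (le_top : U.unop ≤ ⊤)).op) σ)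
  exact n1

/-- a jointly monomorphic family is jointly injective on sections over opens -/
theorem eq_zero_of_forall_app_eq_zero {ι : Type*} (M : X.Modules) (G : ι → X.Modules)
    (q : ∀ i, M ⟶ G i)
    (hm : ∀ (T : X.Modules) (a b : T ⟶ M), (∀ i, a ≫ q i = b ≫ q i) → a = b)
    (V : X.Opens) (s : Γ(M, V.ι ''ᵁ ⊤)) (h : ∀ i, (q i).app (V.ι ''ᵁ ⊤) s = 0) : s = 0 := by
  let adj := CxOX.extZeroAdj V.ι
  let R := Scheme.Modules.restrictFunctor V.ι
  let s' : Γ(R.obj M, ⊤) := s
  let z' : Γ(R.obj M, ⊤) := 0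
  let a₀ : Coh.structureModule ↑V ⟶ R.obj M := secHom (R.obj M) s'
  let b₀ : Coh.structureModule ↑V ⟶ R.obj M := secHom (R.obj M) z'
  let a : (CxOX.extZero V.ι).obj (Coh.structureModule ↑V) ⟶ M := (adj.homEquiv _ _).symm a₀
  let b : (CxOX.extZero V.ι).obj (Coh.structureModule ↑V) ⟶ M := (adj.homEquiv _ _).symm b₀
  have hab : a = b := by
    apply hm _ a b
    intro i
    have h1 : a ≫ q i = (adj.homEquiv _ _).symm (a₀ ≫ R.map (q i)) :=
      (adj.homEquiv_naturality_right_symm _ _).symm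
    have h2 : b ≫ q i = (adj.homEquiv _ _).symm (b₀ ≫ R.map (q i)) :=
      (adj.homEquiv_naturality_right_symm _ _).symm
    rw [h1, h2]
    congr 1
    have e1 : a₀ ≫ R.map (q i) = secHom (R.obj (G i)) ((R.map (q i)).app ⊤ s') :=
      secHom_comp s' _
    have e2 : b₀ ≫ R.map (q i) = secHom (R.obj (G i)) ((R.map (q i)).app ⊤ z') :=
      secHom_comp z' _
    rw [e1, e2]
    congr 1
    have e3 : (R.map (q i)).app ⊤ s' = 0 := h i
    rw [e3]
    exact (map_zero _).symm
  have hab₀ : a₀ = b₀ := (adj.homEquiv _ _).symm.injective hab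
  have e4 : s' = z' := by
    have := congrArg (fun f => Scheme.Modules.Hom.app f ⊤ (1 : Γ(↑V, ⊤))) hab₀
    simp only [a₀, b₀] at this
    rw [Groth.Agent.Lib.R2H2.PrimDecB.secHom_app_one,
      Groth.Agent.Lib.R2H2.PrimDecB.secHom_app_one] at this
    exact this
  exact e4

section Main

variable [IsLocallyNoetherian X] (M : X.Modules) (hM : Coh.IsCoh M) (hne : AssSch.NoEmbedded M)
  (G : ↥(AssSch.Ass M) → X.Modules) (q : ∀ x, M ⟶ G x)
  (hG : ∀ x, (G x).IsQuasicoherent) (hA : ∀ x, AssSch.Ass (G x) = {x.1})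
  (hm : ∀ (T : X.Modules) (a b : T ⟶ M), (∀ x, a ≫ q x = b ≫ q x) → a = b)

include hM hne hG hA hm in
/-- `M_x → (G_x)_x` is injective at an associated point (no embedded points) -/
theorem germ_eq_zero (x : ↥(AssSch.Ass M)) (W : X.Opens) (hxW : x.1 ∈ W) (s : Γ(M, W))
    (hs : (q x).app W s = 0) : M.presheaf.germ W x.1 hxW s = 0 := by
  classical
  obtain ⟨_, ⟨U, hU : IsAffineOpen U, rfl⟩, hxU, hUW⟩ :=
    (X.isBasis_affineOpens).exists_subset_of_mem_open hxW W.2
  have hfin := finite_ass_inter M hM U hU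
  let S : Set X := (AssSch.Ass M ∩ (U : Set X)) \ {x.1}
  have hSfin : S.Finite := hfin.subset Set.sdiff_subset
  let Z : Set X := ⋃ y ∈ S, closure ({y} : Set X)
  have hZ : IsClosed Z := hSfin.isClosed_biUnion (fun y _ => isClosed_closure)
  have hxZ : x.1 ∉ Z := by
    intro hx
    obtain ⟨y, hy⟩ := Set.mem_iUnion.1 hx
    obtain ⟨hyS, hxy⟩ := Set.mem_iUnion.1 hy
    have hsp : y ⤳ x.1 := specializes_iff_mem_closure.2 hxy
    have := hne x.1 x.2 y hyS.1.1 hsp
    exact hyS.2 this.symm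
  let V : X.Opens := U ⊓ ⟨Zᶜ, hZ.isOpen_compl⟩
  have hxV : x.1 ∈ V := ⟨hxU, hxZ⟩
  have hV' : V.ι ''ᵁ ⊤ = V := V.ι_image_top
  have hle : V.ι ''ᵁ ⊤ ≤ W := by
    rw [hV']
    exact fun z hz => hUW hz.1
  have hxV' : x.1 ∈ V.ι ''ᵁ ⊤ := by rw [hV']; exact hxV
  let s₁ : Γ(M, V.ι ''ᵁ ⊤) := M.presheaf.map (homOfLE hle).op s
  have hs₁ : s₁ = 0 := by
    apply eq_zero_of_forall_app_eq_zero M G q hm V s₁
    intro y
    by_cases hyx : y = x
    · subst hyx
      have n1 := congr($((q y).mapPresheaf.naturality (homOfLE hle).op) s)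
      refine n1.trans ?_
      change (G y).presheaf.map (homOfLE hle).op ((q y).app W s) = 0
      rw [hs, map_zero]
    · haveI := hG y
      apply eq_zero_of_ass_disjoint (G y) (V.ι ''ᵁ ⊤)
      intro z hz hzV
      rw [hA y, Set.mem_singleton_iff] at hz
      subst hz
      rw [hV'] at hzV
      have hyS : y.1 ∈ S := ⟨⟨y.2, hzV.1⟩, fun h => hyx (Subtype.ext h)⟩
      apply hzV.2
      exact Set.mem_iUnion.2 ⟨y.1, Set.mem_iUnion.2 ⟨hyS, subset_closure rfl⟩⟩
  have hg : M.presheaf.germ W x.1 hxW s = M.presheaf.germ (V.ι ''ᵁ ⊤) x.1 hxV' s₁ :=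
    (TopCat.Presheaf.germ_res_apply M.presheaf (homOfLE hle) x.1 hxV' s).symm
  rw [hg, hs₁, map_zero]

include hM hne hG hA hm in
/-- the kernel of `q x` is killed by any other quotient `q'` with `Ass = {x}` -/
theorem kernel_comp_eq_zero (x : ↥(AssSch.Ass M)) {G' : X.Modules} (q' : M ⟶ G')
    [G'.IsQuasicoherent] (hA' : AssSch.Ass G' = {x.1}) : kernel.ι (q x) ≫ q' = 0 := by
  apply Scheme.Modules.hom_ext
  intro O
  ext k
  change q'.app O ((kernel.ι (q x)).app O k) = 0
  have hs : (q x).app O ((kernel.ι (q x)).app O k) = 0 := by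
    have h0 := congrArg (fun f => Scheme.Modules.Hom.app f O k) (kernel.condition (q x))
    exact h0
  by_contra ht
  obtain ⟨y, hyO, hy, hgerm⟩ := exists_isWeakAssPoint_of_ne_zero_open G' O _ ht
  have hyA : y ∈ AssSch.Ass G' := (isAssPoint_iff_isWeakAssPoint G' y).2 hy
  rw [hA', Set.mem_singleton_iff] at hyA
  subst hyA
  apply hgerm
  rw [← Groth.Agent.Lib.Helper4.NormDelta.stalkLin_germ q' x.1 O hyO,
    germ_eq_zero M hM hne G q hG hA hm x O hyO _ hs, map_zero]

include hM hne in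
theorem main (G' : ↥(AssSch.Ass M) → X.Modules) (q' : ∀ x, M ⟶ G' x)
    (hq : ∀ x, Epi (q x)) (hq' : ∀ x, Epi (q' x))
    (hG' : ∀ x, (G' x).IsQuasicoherent) (hA' : ∀ x, AssSch.Ass (G' x) = {x.1})
    (hG : ∀ x, (G x).IsQuasicoherent) (hA : ∀ x, AssSch.Ass (G x) = {x.1})
    (hm : ∀ (T : X.Modules) (a b : T ⟶ M), (∀ x, a ≫ q x = b ≫ q x) → a = b)
    (hm' : ∀ (T : X.Modules) (a b : T ⟶ M), (∀ x, a ≫ q' x = b ≫ q' x) → a = b)
    (x : ↥(AssSch.Ass M)) : ∃ e : G x ≅ G' x, q x ≫ e.hom = q' x := by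
  haveI := hq x
  haveI := hq' x
  haveI := hG x
  haveI := hG' x
  exact exists_iso_of_kernel (q x) (q' x)
    (kernel_comp_eq_zero M hM hne G q hG hA hm x (q' x) (hA' x))
    (kernel_comp_eq_zero M hM hne G' q' hG' hA' hm' x (q x) (hA x))

end Main

end Sch

end Groth.Agent.Lib.R2H2.PrimUniq
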