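import Mathlib
set_option backward.isDefEq.respectTransparency.types false

/-!
# Homology of complexes of modules commutes with products (helper2, round 2)

`K`, `K_j` complexes of `A`-modules with morphisms `φ_j : K ⟶ K_j` making every `K.X i` the product of the
`(K_j).X i`.  Then `K.homology k` is the product of the `(K_j).homology k`.
-/

set_option autoImplicit false
set_option linter.unusedSectionVars false
universe u v
open CategoryTheory CategoryTheory.Limits

namespace Groth.Agent.Lib.R2H2.ProdHomology

variable {A : Type u} [Ring A] {ι : Type*} {c : ComplexShape ι} {J : Type v}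
  (K : HomologicalComplex (ModuleCat.{max u v} A) c)
  (Kj : J → HomologicalComplex (ModuleCat.{max u v} A) c) (φ : ∀ j, K ⟶ Kj j)

/-- elementwise: the kernel property of cycles -/
lemma exists_cycle (k : ι) (y : K.X k) (hy : (K.d k (c.next k)).hom y = 0) :
    ∃ z : K.cycles k, (K.iCycles k).hom z = y := by
  have hex : (ShortComplex.mk (K.iCycles k) (K.d k (c.next k)) (K.iCycles_d k _)).Exact :=
    ShortComplex.exact_of_f_is_kernel _ (K.cyclesIsKernel k (c.next k) rfl)
  exact (ShortComplex.moduleCat_exact_iff _).1 hex y hy

/-- elementwise: the cokernel property of homology -/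
lemma exists_boundary (k : ι) (z : K.cycles k) (hz : (K.homologyπ k).hom z = 0) :
    ∃ w : K.X (c.prev k), (K.toCycles (c.prev k) k).hom w = z := by
  have hex : (ShortComplex.mk (K.toCycles (c.prev k) k) (K.homologyπ k)
      (K.toCycles_comp_homologyπ _ k)).Exact :=
    ShortComplex.exact_of_g_is_cokernel _ (K.homologyIsCokernel (c.prev k) k rfl)
  exact (ShortComplex.moduleCat_exact_iff _).1 hex z hz

lemma homologyπ_surjective (k : ι) : Function.Surjective (K.homologyπ k).hom :=
  (ModuleCat.epi_iff_surjective _).1 inferInstance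

lemma iCycles_injective (k : ι) : Function.Injective (K.iCycles k).hom :=
  (ModuleCat.mono_iff_injective _).1 inferInstance

variable {K Kj}

lemma iCycles_cyclesMap (j : J) (k : ι) (z : K.cycles k) :
    ((Kj j).iCycles k).hom ((HomologicalComplex.cyclesMap (φ j) k).hom z) =
      ((φ j).f k).hom ((K.iCycles k).hom z) :=
  ConcreteCategory.congr_hom (HomologicalComplex.cyclesMap_i (φ j) k) z

lemma homologyMap_homologyπ (j : J) (k : ι) (z : K.cycles k) :
    (HomologicalComplex.homologyMap (φ j) k).hom ((K.homologyπ k).hom z) =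
      ((Kj j).homologyπ k).hom ((HomologicalComplex.cyclesMap (φ j) k).hom z) :=
  ConcreteCategory.congr_hom (HomologicalComplex.homologyπ_naturality (φ j) k) z

lemma f_d (j : J) (i k : ι) (x : K.X i) :
    ((φ j).f k).hom ((K.d i k).hom x) = ((Kj j).d i k).hom (((φ j).f i).hom x) :=
  (ConcreteCategory.congr_hom ((φ j).comm i k) x).symm

/-- **homology commutes with products** -/
theorem bijective_homology
    (hφ : ∀ i, Function.Bijective (fun (x : K.X i) (j : J) => ((φ j).f i).hom x)) (k : ι) :
    Function.Bijective (fun (x : K.homology k) (j : J) =>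
      (HomologicalComplex.homologyMap (φ j) k).hom x) := by
  constructor
  · -- injectivity
    show Function.Injective (LinearMap.pi fun j =>
      (HomologicalComplex.homologyMap (φ j) k).hom : K.homology k →ₗ[A] ∀ j, (Kj j).homology k)
    refine (injective_iff_map_eq_zero _).2 (fun x hx => ?_)
    have hx' : ∀ j, (HomologicalComplex.homologyMap (φ j) k).hom x = 0 := fun j => congrFun hx j
    obtain ⟨z, rfl⟩ := homologyπ_surjective K k x
    have hb : ∀ j, ∃ w : (Kj j).X (c.prev k), ((Kj j).toCycles (c.prev k) k).hom w =
        (HomologicalComplex.cyclesMap (φ j) k).hom z := fun j =>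
      exists_boundary (Kj j) k _ ((homologyMap_homologyπ φ j k z).symm.trans (hx' j))
    choose w hw using hb
    obtain ⟨W, hW⟩ := (hφ (c.prev k)).2 w
    have hW' : ∀ j, ((φ j).f (c.prev k)).hom W = w j := fun j => congrFun hW j
    have hz : (K.toCycles (c.prev k) k).hom W = z := by
      apply iCycles_injective K k
      have h1 : (K.iCycles k).hom ((K.toCycles (c.prev k) k).hom W) = (K.d (c.prev k) k).hom W :=
        ConcreteCategory.congr_hom (K.toCycles_i (c.prev k) k) W
      rw [h1]
      apply (hφ k).1
      funext j
      show ((φ j).f k).hom ((K.d (c.prev k) k).hom W) = ((φ j).f k).hom ((K.iCycles k).hom z)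
      rw [f_d, hW' j, ← iCycles_cyclesMap, ← hw j]
      exact (ConcreteCategory.congr_hom ((Kj j).toCycles_i (c.prev k) k) (w j)).symm
    rw [← hz]
    exact ConcreteCategory.congr_hom (K.toCycles_comp_homologyπ (c.prev k) k) W
  · -- surjectivity
    intro ξ
    have hz : ∀ j, ∃ z : (Kj j).cycles k, ((Kj j).homologyπ k).hom z = ξ j := fun j =>
      homologyπ_surjective (Kj j) k (ξ j)
    choose zj hzj using hz
    obtain ⟨y, hy⟩ := (hφ k).2 (fun j => ((Kj j).iCycles k).hom (zj j))
    have hy' : ∀ j, ((φ j).f k).hom y = ((Kj j).iCycles k).hom (zj j) := fun j => congrFun hy j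
    have hdy : (K.d k (c.next k)).hom y = 0 := by
      apply (hφ (c.next k)).1
      funext j
      show ((φ j).f (c.next k)).hom ((K.d k (c.next k)).hom y) = ((φ j).f (c.next k)).hom 0
      rw [f_d, hy' j, map_zero]
      exact ConcreteCategory.congr_hom ((Kj j).iCycles_d k (c.next k)) (zj j)
    obtain ⟨z, hz⟩ := exists_cycle K k y hdy
    refine ⟨(K.homologyπ k).hom z, ?_⟩
    funext j
    show (HomologicalComplex.homologyMap (φ j) k).hom ((K.homologyπ k).hom z) = ξ j
    rw [homologyMap_homologyπ, ← hzj j]
    congr 1
    apply iCycles_injective (Kj j) k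
    rw [iCycles_cyclesMap, hz, hy' j]

end Groth.Agent.Lib.R2H2.ProdHomology
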