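import Mathlib
set_option backward.isDefEq.respectTransparency.types false

/-!
# Tensoring with a finite free module commutes with arbitrary products (helper2, round 2)
-/

set_option autoImplicit false
set_option linter.unusedSectionVars false
universe u v w
open TensorProduct

namespace Groth.Agent.Lib.R2H2.ProdTensor

variable {A : Type u} [CommRing A] {P : Type v} [AddCommGroup P] [Module A P]

section Basis

variable {κ : Type} [Fintype κ] [DecidableEq κ] (b : Module.Basis κ A P)

/-- `P ⊗ M ≃ (κ → M)` for a finite basis indexed by `κ` -/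
noncomputable def Φ (M : Type w) [AddCommGroup M] [Module A M] : P ⊗[A] M ≃ₗ[A] (κ → M) :=
  (TensorProduct.congr b.equivFun (LinearEquiv.refl A M)) ≪≫ₗ TensorProduct.comm A (κ → A) M ≪≫ₗ
    TensorProduct.piScalarRight A A M κ

lemma Φ_tmul (M : Type w) [AddCommGroup M] [Module A M] (p : P) (m : M) (i : κ) :
    Φ b M (p ⊗ₜ m) i = b.repr p i • m := by
  simp [Φ]

lemma Φ_nat {M M' : Type w} [AddCommGroup M] [Module A M] [AddCommGroup M'] [Module A M']
    (g : M →ₗ[A] M') (x : P ⊗[A] M) (i : κ) :
    Φ b M' (LinearMap.lTensor P g x) i = g (Φ b M x i) := by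
  induction x using TensorProduct.induction_on with
  | zero => simp
  | tmul p m => simp [Φ_tmul]
  | add x y hx hy => simp only [map_add, Pi.add_apply, hx, hy]

include b in
theorem bijective_lTensor_pi_of_basis {J : Type w} (M : J → Type w) [∀ j, AddCommGroup (M j)]
    [∀ j, Module A (M j)] :
    Function.Bijective (fun (x : P ⊗[A] (∀ j, M j)) (j : J) =>
      LinearMap.lTensor P (LinearMap.proj j : (∀ j, M j) →ₗ[A] M j) x) := by
  have key : ∀ (x : P ⊗[A] (∀ j, M j)) (j : J) (i : κ),
      Φ b (M j) (LinearMap.lTensor P (LinearMap.proj j : (∀ j, M j) →ₗ[A] M j) x) i =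
        (Φ b (∀ j, M j) x i) j := fun x j i => Φ_nat b _ x i
  constructor
  · intro x y hxy
    apply (Φ b (∀ j, M j)).injective
    funext i j
    rw [← key, ← key]
    exact congrArg (fun t => Φ b (M j) t i) (congrFun hxy j)
  · intro ξ
    refine ⟨(Φ b (∀ j, M j)).symm (fun i j => Φ b (M j) (ξ j) i), ?_⟩
    funext j
    apply (Φ b (M j)).injective
    funext i
    show Φ b (M j) (LinearMap.lTensor P (LinearMap.proj j : (∀ j, M j) →ₗ[A] M j) _) i = _
    rw [key, LinearEquiv.apply_symm_apply]

end Basis

/-- **tensoring with a finite free module commutes with arbitrary products** -/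
theorem bijective_lTensor_pi [Module.Free A P] [Module.Finite A P] {J : Type w} (M : J → Type w)
    [∀ j, AddCommGroup (M j)] [∀ j, Module A (M j)] :
    Function.Bijective (fun (x : P ⊗[A] (∀ j, M j)) (j : J) =>
      LinearMap.lTensor P (LinearMap.proj j : (∀ j, M j) →ₗ[A] M j) x) := by
  classical
  rcases subsingleton_or_nontrivial A with hA | hA
  · haveI : Subsingleton (P ⊗[A] (∀ j, M j)) := Module.subsingleton A _
    haveI : ∀ j, Subsingleton (P ⊗[A] M j) := fun j => Module.subsingleton A _
    exact ⟨fun x y _ => Subsingleton.elim _ _, fun ξ => ⟨0, Subsingleton.elim _ _⟩⟩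
  · let b := Module.finBasis A P
    exact bijective_lTensor_pi_of_basis b M

end Groth.Agent.Lib.R2H2.ProdTensor
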