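import Mathlib
import Groth.Prelude.Def_ega3
import Groth.Agent.Lib.Helper3FlatCx
import Groth.Agent.Lib.R2H2ProdHomology
import Groth.Agent.Lib.R2H2ProdTensor
set_option backward.isDefEq.respectTransparency.types false

/-!
# `T_k = H_k(Q ⊗ -)` commutes with arbitrary products for `Q` a complex of finite free modules
(helper2, round 2)
-/

set_option autoImplicit false
set_option linter.unusedSectionVars false
set_option linter.style.haveILetI false
universe u
open CategoryTheory CategoryTheory.Limits MonoidalCategory

namespace Groth.Agent.Lib.R2H2.ProdTFun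

open Groth.Agent.Lib.R2H2.ProdHomology Groth.Agent.Lib.R2H2.ProdTensor Groth.Agent.Lib.Helper3

variable {A : Type u} [CommRing A] {ι : Type} {c : ComplexShape ι}

theorem preservesProducts_TFun (Q : HomologicalComplex (ModuleCat.{u} A) c)
    (hQ : ∀ i, Module.Finite A (Q.X i) ∧ Module.Free A (Q.X i)) (k : ι) (J : Type u) :
    PreservesLimitsOfShape (Discrete J) (CohIII.TFun Q k) := by
  haveI : ∀ M : J → ModuleCat.{u} A, PreservesLimit (Discrete.functor M) (CohIII.TFun Q k) := by
    intro M
    refine preservesLimit_of_preserves_limit_cone (ModuleCat.productConeIsLimit M) ?_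
    refine (isLimitMapConeFanMkEquiv (CohIII.TFun Q k) M _).symm ?_
    have hbij : Function.Bijective (fun (x : (CohIII.TFun Q k).obj (ModuleCat.of A (∀ j, M j))) (j : J) =>
        ((CohIII.TFun Q k).map (ModuleCat.ofHom
          (LinearMap.proj j : (∀ j, M j) →ₗ[A] M j))).hom x) := by
      refine bijective_homology (K := CohIII.tensorObj Q (ModuleCat.of A (∀ j, M j)))
        (Kj := fun j => CohIII.tensorObj Q (M j))
        (fun j => CohIII.tensorMap Q (ModuleCat.ofHom (LinearMap.proj j : (∀ j, M j) →ₗ[A] M j)))
        (fun i => ?_) k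
      haveI := (hQ i).1
      haveI := (hQ i).2
      exact bijective_lTensor_pi (P := Q.X i) (fun j => M j)
    let P0 := ModuleCat.productConeIsLimit (fun j => (CohIII.TFun Q k).obj (M j))
    refine @IsLimit.ofPointIso _ _ _ _ _ _ _ P0 ?_
    rw [ConcreteCategory.isIso_iff_bijective]
    exact hbij
  exact preservesLimitsOfShape_of_discrete _

end Groth.Agent.Lib.R2H2.ProdTFun
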