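import Groth.Agent.Lib.R2H2ClosedPnLin
import Groth.Agent.Lib.R2H2PnFinite
import Groth.Agent.Lib.R2H2PnSerre
import Groth.Agent.Lib.R2H2AmpleRes
import Groth.Agent.Lib.R2H2QProjK0
import Groth.Agent.Lib.Helper18FinFlat1
set_option backward.isDefEq.respectTransparency.types false

/-!
# Closed subschemes of `P^n_B`: finiteness and Serre vanishing for the twists of the structure sheaf
(helper2, round 2)

For a Noetherian ring `B` and a closed immersion `k : W ⟶ P^n_B`:
* `finite_HH_pullback_twist` : `H^q(W, k^* O(m))` is a finite `B`-module;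
* `exists_vanishing_pullback_twist` : `H^q(W, k^* O(m)) = 0` for `q > 0` and `m ≫ 0`.
-/

set_option autoImplicit false
set_option linter.style.haveILetI false
universe u

open CategoryTheory CategoryTheory.Limits AlgebraicGeometry TopologicalSpace

namespace Groth.Agent.Lib.R2H2.ProjAff

open Groth.Agent.Lib.R2H2.PnSerre Groth.Agent.Lib.R2H2.HHLin

variable (n : ℕ) (B : Type u) [CommRing B] [IsNoetherianRing B] {W : Scheme.{u}}
  (k : W ⟶ CohB1.ProjSpace n B) [IsClosedImmersion k]

local notation "PB" => CohB1.ProjSpace n B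

omit [IsNoetherianRing B] [IsClosedImmersion k] in
theorem isCoh_pullback_twist (m : ℤ) :
    Coh.IsCoh ((Scheme.Modules.pullback k).obj (Twist.twistProjSpace n B m)) := by
  have hinv : PicF.IsInvertible ((Scheme.Modules.pullback k).obj (Twist.twistProjSpace n B m)) :=
    Groth.Agent.Lib.Helper23.PB.isInvertible_pullback k _
      (Groth.Agent.Lib.R2Lead.KRR.isInvertible_twistProjSpace n B m)
  exact ⟨Groth.Agent.Lib.Helper23.SecTw.isQuasicoherent_of_isInvertible _ hinv,
    Groth.Agent.Lib.R2H2.PnFinite.isFiniteType_of_isInvertible _ hinv⟩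

/-- `H^q(W, k^* O(m))` is a finite `B`-module -/
theorem finite_HH_pullback_twist [W.Over (Spec (CommRingCat.of B))]
    (hk : k ≫ CohB1.ProjSpace.toSpec n B = W ↘ Spec (CommRingCat.of B)) (m : ℤ) (q : ℕ) :
    Module.Finite B (Coh.HH W ((Scheme.Modules.pullback k).obj (Twist.twistProjSpace n B m)) q) := by
  have cM := isCoh_pullback_twist n B k m
  obtain ⟨e⟩ := Groth.Agent.Lib.R2H2.ClosedPnLin.nonempty_HH_push_linearEquiv n B k hk _ cM.1 q
  haveI : IsNoetherian PB := Groth.Agent.Lib.R2H2.QProjK0.isNoetherian_projSpace n B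
  have cP := Groth.Agent.Lib.R2H2.ClosedPn.isCoh_push k _ cM
  haveI := Groth.Agent.Lib.R2H2.PnFinite.finite_HH n B _ cP q
  exact Module.Finite.equiv e.symm

/-- Serre vanishing for the twists of the structure sheaf of a closed subscheme of `P^n_B` -/
theorem exists_vanishing_pullback_twist :
    ∃ m₀ : ℤ, ∀ m : ℤ, m₀ ≤ m → ∀ q : ℕ, 0 < q →
      Subsingleton (Coh.HH W ((Scheme.Modules.pullback k).obj (Twist.twistProjSpace n B m)) q) := by
  have hO : Coh.IsCoh (Coh.structureModule W) := by
    haveI : SheafOfModules.IsFinitePresentation (R := W.ringCatSheaf) (Coh.structureModule W) :=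
      Groth.Agent.Helper18FinFlat.isFinitePresentation_structureModule W
    exact ⟨inferInstance, inferInstance⟩
  have cP := Groth.Agent.Lib.R2H2.ClosedPn.isCoh_push k _ hO
  obtain ⟨m₀, hm₀⟩ := serre_vanishing_all n B _ cP
  refine ⟨m₀, fun m hm q hq => ?_⟩
  have h1 := (Groth.Agent.Lib.R2H2.ClosedPn.subsingleton_HH_twistOn_iff n B k
    (Coh.structureModule W) hO.1 m q).2 (hm₀ m hm q hq)
  -- `O_W ⊗ M ≅ M`
  have e : CohB1.tensorMod (Coh.structureModule W)
      ((Scheme.Modules.pullback k).obj (Twist.twistProjSpace n B m)) ≅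
      (Scheme.Modules.pullback k).obj (Twist.twistProjSpace n B m) :=
    Groth.Agent.Lib.Helper21.ModTensor7.tLUnitIso W.sheaf |>.app _
  exact subsingleton_HH_of_iso e q h1

end Groth.Agent.Lib.R2H2.ProjAff
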