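import Groth.Agent.S0051
import Groth.Agent.S3545
import Groth.Agent.Lib.R2H2GrTildeShift
import Groth.Agent.Lib.Helper27TwistAmple2
import Groth.Agent.Lib.Helper27GrTildeMul2
import Groth.Agent.Lib.Helper27GrTildeZero
import Groth.Agent.Lib.Helper10GradedPeriod
import Groth.Agent.Lib.Helper14GradedNoeth
import Groth.Agent.Lib.R2H4TensorPows
import Groth.Agent.Lib.Helper23TensorQCoh
import Groth.Agent.Lib.R2H2PnSerre
import Mathlib.AlgebraicGeometry.ProjectiveSpectrum.Proper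
set_option backward.isDefEq.respectTransparency.types false

/-!
# Serre vanishing on `Proj` of a Noetherian graded ring with generators in arbitrary degrees
(helper2, round 2)

For a Noetherian `ℕ`-graded ring there is `e > 0` such that `Proj` is covered by the `D₊(g)`,
`g ∈ 𝒜 e`; `O(e)` is then ample and invertible, `O(-k) ⊗ O(e)^{⊗ n} ≅ O(ne - k)`, each `O(-k)` is
coherent, and Serre vanishing for ample modules on proper schemes (S0051) gives the vanishing of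
`H^p(F(d))` for `d` large.
-/

set_option autoImplicit false
universe u

namespace Groth.Agent.Lib.R2H2.ProjSerre

open CategoryTheory CategoryTheory.Limits AlgebraicGeometry TopologicalSpace Opposite
open Groth.Agent.Lib.Helper27GrTildeSect Groth.Agent.Lib.R2H4TensorPows

variable {R A : Type u} [CommRing R] [CommRing A] [Algebra R A] (𝒜 : ℕ → Submodule R A)
  [GradedAlgebra 𝒜]

section cover

variable {e n₀ : ℕ} (hper : ∀ n, n₀ ≤ n → 𝒜 (n + e) = 𝒜 e * 𝒜 n)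

include hper in
/-- every point of `Proj` lies in some `D₊(g)`, `g ∈ 𝒜 e` -/
theorem exists_not_mem (y : ProjectiveSpectrum 𝒜) :
    ∃ g : 𝒜 e, (g : A) ∉ y.asHomogeneousIdeal := by
  by_contra hcon
  push Not at hcon
  obtain ⟨d, f, hd, hf, hfy⟩ := exists_homogeneous_pos_not_mem 𝒜 y
  have hx : f ^ (n₀ + e) ∈ 𝒜 ((n₀ + e) • d) := SetLike.pow_mem_graded _ hf
  obtain ⟨n, hn, hnd⟩ : ∃ n, n₀ ≤ n ∧ (n₀ + e) • d = n + e := by
    have h1 : n₀ + e ≤ (n₀ + e) * d := Nat.le_mul_of_pos_right _ hd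
    refine ⟨(n₀ + e) * d - e, by omega, ?_⟩
    rw [smul_eq_mul]
    omega
  rw [hnd, hper n hn] at hx
  have hle : 𝒜 e * 𝒜 n ≤ y.asHomogeneousIdeal.toIdeal.restrictScalars R := by
    rw [Submodule.mul_le]
    intro a ha b hb
    exact Ideal.mul_mem_right _ _ (hcon ⟨a, ha⟩)
  exact hfy (y.isPrime.mem_of_pow_mem _ (hle hx))

end cover

section main

variable {e : ℕ} (he : 0 < e)
  (hcov : ∀ y : Proj 𝒜, ∃ g : 𝒜 e, (g : A) ∉ (show ProjectiveSpectrum 𝒜 from y).asHomogeneousIdeal)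

include hcov in
/-- `O(me) ⊗ O(k) ≅ O(me + k)` -/
theorem nonempty_tensor_iso (m : ℕ) (k q : ℤ) (h : (m : ℤ) * e + k = q) :
    Nonempty (CohB1.tensorMod (GrTilde.tilde 𝒜 𝒜 ((m : ℤ) * e)) (GrTilde.tilde 𝒜 𝒜 k) ≅
      GrTilde.tilde 𝒜 𝒜 q) := by
  apply nonempty_tensor_iso_of_cover 𝒜 h
  intro y
  obtain ⟨g, hg⟩ := hcov y
  have hW : ∀ (j : ℕ) (z : (Proj.basicOpen 𝒜 (g : A) : (Proj 𝒜).Opens)),
      (g : A) ^ j ∉ z.1.asHomogeneousIdeal := fun j z h =>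
    (ProjectiveSpectrum.mem_basicOpen 𝒜 (g : A) z.1).mp z.2 (z.1.isPrime.mem_of_pow_mem _ h)
  refine ⟨Proj.basicOpen 𝒜 (g : A), m • e, 0, (g : A) ^ m, 1,
    (ProjectiveSpectrum.mem_basicOpen 𝒜 (g : A) y).mpr hg,
    SetLike.pow_mem_graded m g.2, SetLike.GradedOne.one_mem, ?_, ?_, hW m⟩
  · rw [smul_eq_mul]
    push_cast
    ring
  · intro z h
    exact z.1.isPrime.ne_top ((Ideal.eq_top_iff_one _).mpr h)

include hcov in
/-- `O(e)^{⊗ (n+1)} ≅ O((n+1)e)` -/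
theorem nonempty_tensorPow_iso (n : ℕ) :
    Nonempty (CohB1.tensorPow (GrTilde.tilde 𝒜 𝒜 (e : ℤ)) (n + 1) ≅
      GrTilde.tilde 𝒜 𝒜 (((n + 1 : ℕ) : ℤ) * e)) := by
  induction n with
  | zero =>
    have h1 : (((0 + 1 : ℕ) : ℤ) * e) = (e : ℤ) := by push_cast; ring
    rw [h1]
    exact ⟨lUnit _⟩
  | succ n ih =>
    obtain ⟨φ⟩ := ih
    obtain ⟨ψ⟩ := nonempty_tensor_iso 𝒜 hcov (n + 1) (e : ℤ) (((n + 1 + 1 : ℕ) : ℤ) * e)
      (by push_cast; ring)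
    exact ⟨tIso φ (Iso.refl _) ≪≫ ψ⟩

include hcov in
/-- `F ⊗ O((n+1)e - k) ≅ (F ⊗ O(-k)) ⊗ O(e)^{⊗ (n+1)}` -/
theorem nonempty_twist_iso (F : (Proj 𝒜).Modules) (n k : ℕ) (d : ℤ)
    (hd : d = ((n + 1 : ℕ) : ℤ) * e - k) :
    Nonempty (CohB1.tensorMod (CohB1.tensorMod F (GrTilde.tilde 𝒜 𝒜 (-(k : ℤ))))
      (CohB1.tensorPow (GrTilde.tilde 𝒜 𝒜 (e : ℤ)) (n + 1)) ≅
        CohB1.tensorMod F (GrTilde.tilde 𝒜 𝒜 d)) := by
  obtain ⟨φ⟩ := nonempty_tensorPow_iso 𝒜 hcov n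
  obtain ⟨ψ⟩ := nonempty_tensor_iso 𝒜 hcov (n + 1) (-(k : ℤ)) d (by rw [hd]; ring)
  exact ⟨tAssoc _ _ _ ≪≫ tIso (Iso.refl F) (tIso (Iso.refl _) φ ≪≫ tComm _ _ ≪≫ ψ)⟩

end main

/-- **Serre vanishing on `Proj` of a Noetherian graded ring.** -/
theorem serre_vanishing [IsNoetherianRing A] (F : (Proj 𝒜).Modules) (hF : Coh.IsCoh F)
    (p : ℕ) (hp : 0 < p) :
    ∃ d₀ : ℤ, ∀ d : ℤ, d₀ ≤ d →
      Subsingleton (Coh.HH (Proj 𝒜) (CohB1.tensorMod F (GrTilde.tilde 𝒜 𝒜 d)) p) := by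
  classical
  haveI : Algebra.FiniteType (𝒜 0) A :=
    Groth.Agent.Lib.Helper14.finiteType_of_isNoetherianRing_graded 𝒜
  obtain ⟨n₀, e, he, -, hper⟩ := Groth.Agent.Lib.Helper10.GradedPeriod.exists_period 𝒜
  have hcov : ∀ y : Proj 𝒜, ∃ g : 𝒜 e,
      (g : A) ∉ (show ProjectiveSpectrum 𝒜 from y).asHomogeneousIdeal :=
    fun y => exists_not_mem 𝒜 hper y
  have hcov' : ∀ y : Proj 𝒜, ∃ g : 𝒜 e,
      (Subtype.val g : A) ∉ (show ProjectiveSpectrum 𝒜 from y).asHomogeneousIdeal := hcov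
  haveI : CompactSpace (Proj 𝒜) :=
    QuasiCompact.compactSpace_of_compactSpace (Proj.toSpecZero 𝒜)
  have hample : CohB1.IsAmple (GrTilde.tilde 𝒜 𝒜 (e : ℤ)) :=
    isAmple_of_cover 𝒜 e (fun g : 𝒜 e => (g : A)) (fun g => g.2) hcov' he
  have hfg : (HomogeneousIdeal.irrelevant 𝒜).toIdeal.FG := IsNoetherian.noetherian _
  -- the coherent modules `F ⊗ O(-k)`
  have hcoh : ∀ k : ℕ, Coh.IsCoh (CohB1.tensorMod F (GrTilde.tilde 𝒜 𝒜 (-(k : ℤ)))) := by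
    intro k
    haveI : F.IsQuasicoherent := hF.1
    haveI : SheafOfModules.IsFiniteType (R := (Proj 𝒜).ringCatSheaf) F := hF.2
    haveI : (GrTilde.tilde 𝒜 𝒜 (-(k : ℤ))).IsQuasicoherent :=
      Groth.Agent.S3545.result 𝒜 𝒜 (-(k : ℤ))
    haveI : SheafOfModules.IsFiniteType (R := (Proj 𝒜).ringCatSheaf)
        (GrTilde.tilde 𝒜 𝒜 (-(k : ℤ))) :=
      Groth.Agent.Lib.R2H2.GrTildeShift.isFT_twist_neg 𝒜 hfg k
    exact ⟨Groth.Agent.Lib.Helper23.TensorQCoh.isQuasicoherent_tensorMod _ _,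
      Groth.Agent.Lib.Helper23.TensorQCoh.isFiniteType_tensorMod _ _⟩
  have hvan := fun k : ℕ =>
    (Groth.Agent.S0051.result (𝒜 0) (Proj 𝒜) (Proj.toSpecZero 𝒜) (GrTilde.tilde 𝒜 𝒜 (e : ℤ))
      hample.1).1 hample _ (hcoh k)
  choose Nk hNk using hvan
  obtain ⟨N, hN⟩ : ∃ N : ℕ, ∀ k, k < e → Nk k ≤ N :=
    ⟨(Finset.range e).sup Nk, fun k hk => Finset.le_sup (Finset.mem_range.2 hk)⟩
  refine ⟨((N + 1 : ℕ) : ℤ) * e, fun d hd => ?_⟩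
  -- write `d = (n+1) e - k`
  have he' : (0 : ℤ) < e := by exact_mod_cast he
  obtain ⟨k, hk, n, hdn⟩ : ∃ k : ℕ, k < e ∧ ∃ n : ℕ, N ≤ n ∧ d = ((n + 1 : ℕ) : ℤ) * e - k := by
    have h1 : 0 ≤ (-d) % (e : ℤ) := Int.emod_nonneg _ he'.ne'
    have h2 : (-d) % (e : ℤ) < e := Int.emod_lt_of_pos _ he'
    have h3 := Int.emod_add_mul_ediv (-d) (e : ℤ)
    refine ⟨((-d) % (e : ℤ)).toNat, by omega, (-((-d) / (e : ℤ)) - 1).toNat, ?_, ?_⟩
    · have h4 : ((N + 1 : ℕ) : ℤ) * e ≤ (-((-d) / (e : ℤ))) * e := by nlinarith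
      have h5 : ((N + 1 : ℕ) : ℤ) ≤ -((-d) / (e : ℤ)) := le_of_mul_le_mul_right h4 he'
      omega
    · have h4 : ((N + 1 : ℕ) : ℤ) * e ≤ (-((-d) / (e : ℤ))) * e := by nlinarith
      have h5 : ((N + 1 : ℕ) : ℤ) ≤ -((-d) / (e : ℤ)) := le_of_mul_le_mul_right h4 he'
      have h6 : (((-((-d) / (e : ℤ)) - 1).toNat + 1 : ℕ) : ℤ) = -((-d) / (e : ℤ)) := by
        push_cast
        omega
      rw [h6, Int.toNat_of_nonneg h1]
      nlinarith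
  obtain ⟨hNn, hdn⟩ := hdn
  obtain ⟨φ⟩ := nonempty_twist_iso 𝒜 hcov F n k d hdn
  exact Groth.Agent.Lib.R2H2.PnSerre.subsingleton_HH_of_iso φ p
    (hNk k (n + 1) (by have := hN k hk; omega) p hp)

end Groth.Agent.Lib.R2H2.ProjSerre
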