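import Groth.Agent.Lib.R2H2GrTildePi
import Groth.Agent.Lib.Helper13GammaStar
import Groth.Agent.Lib.Helper13Veronese
import Groth.Agent.Lib.Helper27EpiGen2
import Groth.Agent.Lib.Helper23QCohLocal
import Groth.Agent.Lib.Helper27SerreGen
import Groth.Agent.S3587
set_option backward.isDefEq.respectTransparency.types false

/-!
# Quotients of `L~` on `Proj` are of the form `M~` (helper2, round 2)

`𝒜` an `ℕ`-graded ring, `g i ∈ 𝒜 e` (`i` in a finite type) with the `D₊(g i)` covering `Proj 𝒜`,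
`L` a graded module and `π : L~ ⟶ F` an epimorphism onto a quasi-coherent module.  The *saturation*
`Sat π ⊆ L` (homogeneous elements all of whose multiples `b x / g_i^k` are killed by `π`) is a
homogeneous submodule and `(L / Sat π)~ ≅ F`.
-/

set_option autoImplicit false
universe u

namespace Groth.Agent.Lib.R2H2.ProjTildeCoh

open CategoryTheory CategoryTheory.Limits AlgebraicGeometry TopologicalSpace Opposite TopCat GrTilde
open Groth.Agent.Lib.R2H2.GrTildeShift Groth.Agent.Lib.R2H2.GrTildeQuot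
  Groth.Agent.Lib.Helper27GrTildeSect Groth.Agent.Helper13GrTildeFrac Groth.Agent.Lib.Helper6

variable {R A : Type u} [CommRing R] [CommRing A] [Algebra R A] (𝒜 : ℕ → Submodule R A)
  [GradedAlgebra 𝒜]
variable {L : Type u} [AddCommGroup L] [Module R L] [Module A L] [IsScalarTower R A L]
  (ℒ : ℕ → Submodule R L) [DirectSum.Decomposition ℒ] [SetLike.GradedSMul 𝒜 ℒ]

section fracLemmas

theorem frac_eq {g₀ : A} {d : ℕ} (hg₀ : g₀ ∈ 𝒜 d) (k : ℕ) {m m' : L} (hm : m ∈ ℒ (k * d))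
    (hm' : m' ∈ ℒ (k * d)) (h : m = m') : frac 𝒜 ℒ hg₀ k hm = frac 𝒜 ℒ hg₀ k hm' := by
  subst h
  rfl

theorem frac_eq_zero {g₀ : A} {d : ℕ} (hg₀ : g₀ ∈ 𝒜 d) (k : ℕ) {m : L} (hm : m ∈ ℒ (k * d))
    (h : m = 0) : frac 𝒜 ℒ hg₀ k hm = 0 := by
  subst h
  exact frac_zero 𝒜 ℒ hg₀ k

/-- `g^N m / g^(N+k) = m / g^k` -/
theorem frac_pow_smul {g₀ : A} {d : ℕ} (hg₀ : g₀ ∈ 𝒜 d) (N k : ℕ) {m : L} (hm : m ∈ ℒ (k * d))
    (hm' : g₀ ^ N • m ∈ ℒ ((N + k) * d)) :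
    frac 𝒜 ℒ hg₀ (N + k) hm' = frac 𝒜 ℒ hg₀ k hm := by
  apply sec_ext
  intro y hy
  rw [secVal_frac, secVal_frac, LocalizedModule.mk_eq]
  refine ⟨1, ?_⟩
  simp only [one_smul, Submonoid.smul_def]
  rw [smul_smul, pow_add, mul_comm]

omit [DirectSum.Decomposition ℒ] [IsScalarTower R A L] in
theorem pow_smul_mem {g₀ : A} {d : ℕ} (hg₀ : g₀ ∈ 𝒜 d) (N k : ℕ) {m : L} (hm : m ∈ ℒ (k * d)) :
    g₀ ^ N • m ∈ ℒ ((N + k) * d) := by
  have h := SetLike.GradedSMul.smul_mem (SetLike.pow_mem_graded N hg₀) hm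
  rw [add_mul]
  exact h

end fracLemmas

section sat

variable {e : ℕ} {ι : Type} (g : ι → A) (hg : ∀ i, g i ∈ 𝒜 e)
variable {F : (Proj 𝒜).Modules} (π : tilde 𝒜 ℒ 0 ⟶ F)

/-- the saturation condition on an element `x` (thought of as homogeneous of degree `t`) -/
def SatAt (t : ℕ) (x : L) : Prop :=
  ∀ (i : ι) (s k : ℕ) (b : A), s + t = k * e → b ∈ 𝒜 s → ∀ hm : b • x ∈ ℒ (k * e),
    π.app (Proj.basicOpen 𝒜 (g i)) (frac 𝒜 ℒ (hg i) k hm) = 0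

theorem satAt_zero (t : ℕ) : SatAt 𝒜 ℒ g hg π t 0 := by
  intro i s k b _ _ hm
  rw [frac_eq_zero 𝒜 ℒ (hg i) k hm (smul_zero b), map_zero]

omit [DirectSum.Decomposition ℒ] in
theorem smul_mem_of_eq {t s k : ℕ} {b : A} {x : L} (h : s + t = k * e) (hb : b ∈ 𝒜 s)
    (hx : x ∈ ℒ t) : b • x ∈ ℒ (k * e) := by
  have h1 := SetLike.GradedSMul.smul_mem hb hx
  rw [vadd_eq_add, h] at h1
  exact h1

theorem satAt_add {t : ℕ} {x y : L} (hx : x ∈ ℒ t) (hy : y ∈ ℒ t)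
    (h1 : SatAt 𝒜 ℒ g hg π t x) (h2 : SatAt 𝒜 ℒ g hg π t y) : SatAt 𝒜 ℒ g hg π t (x + y) := by
  intro i s k b h hb hm
  have hbx := smul_mem_of_eq 𝒜 ℒ h hb hx
  have hby := smul_mem_of_eq 𝒜 ℒ h hb hy
  rw [frac_eq 𝒜 ℒ (hg i) k hm (add_mem hbx hby) (smul_add b x y),
    frac_add 𝒜 ℒ (hg i) k hbx hby, map_add,
    h1 i s k b h hb hbx, h2 i s k b h hb hby, add_zero]

theorem satAt_smul {t q : ℕ} {a : A} (ha : a ∈ 𝒜 q) {x : L}
    (h1 : SatAt 𝒜 ℒ g hg π t x) : SatAt 𝒜 ℒ g hg π (q + t) (a • x) := by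
  intro i s k b h hb hm
  have hba : b * a ∈ 𝒜 (s + q) := SetLike.mul_mem_graded hb ha
  have hm' : (b * a) • x ∈ ℒ (k * e) := by rw [mul_smul]; exact hm
  rw [frac_eq 𝒜 ℒ (hg i) k hm hm' (mul_smul b a x).symm]
  exact h1 i (s + q) k (b * a) (by omega) hba hm'

/-- the carrier of the saturation -/
def satSet : Set L := {x | ∀ t, SatAt 𝒜 ℒ g hg π t (DirectSum.decompose ℒ x t : L)}

theorem sat_zero : (0 : L) ∈ satSet 𝒜 ℒ g hg π := by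
  intro t
  rw [DirectSum.decompose_zero]
  exact satAt_zero 𝒜 ℒ g hg π t

theorem sat_add {x y : L} (hx : x ∈ satSet 𝒜 ℒ g hg π) (hy : y ∈ satSet 𝒜 ℒ g hg π) :
    x + y ∈ satSet 𝒜 ℒ g hg π := by
  intro t
  rw [DirectSum.decompose_add, DirectSum.add_apply, Submodule.coe_add]
  exact satAt_add 𝒜 ℒ g hg π (SetLike.coe_mem _) (SetLike.coe_mem _) (hx t) (hy t)

theorem sat_smul (a : A) {x : L} (hx : x ∈ satSet 𝒜 ℒ g hg π) :
    a • x ∈ satSet 𝒜 ℒ g hg π := by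
  classical
  induction a using DirectSum.Decomposition.inductionOn 𝒜 with
  | zero => rw [zero_smul]; exact sat_zero 𝒜 ℒ g hg π
  | @homogeneous q a =>
    intro t
    rw [Groth.Agent.Helper13Veronese.decompose_smul_of_mem 𝒜 ℒ a.2 x t]
    split_ifs with hqt
    · have h1 := satAt_smul 𝒜 ℒ g hg π a.2 (hx (t - q))
      have e1 : q + (t - q) = t := by omega
      rw [e1] at h1
      exact h1
    · exact satAt_zero 𝒜 ℒ g hg π t
  | add a b ha hb =>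
    rw [add_smul]
    exact sat_add 𝒜 ℒ g hg π ha hb

/-- **the saturation of `π`** -/
def Sat : Submodule A L where
  carrier := satSet 𝒜 ℒ g hg π
  zero_mem' := sat_zero 𝒜 ℒ g hg π
  add_mem' := sat_add 𝒜 ℒ g hg π
  smul_mem' := fun a _ hx => sat_smul 𝒜 ℒ g hg π a hx

theorem isHomog_sat : IsHomog ℒ (Sat 𝒜 ℒ g hg π) := by
  classical
  intro d x hx t
  by_cases htd : d = t
  · subst htd
    rw [DirectSum.decompose_of_mem_same ℒ (SetLike.coe_mem _)]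
    exact hx d
  · rw [DirectSum.decompose_of_mem_ne ℒ (SetLike.coe_mem _) htd]
    exact satAt_zero 𝒜 ℒ g hg π t

/-- elements of the saturation are killed -/
theorem app_frac_eq_zero_of_mem {x : L} (hx : x ∈ Sat 𝒜 ℒ g hg π) (k : ℕ)
    (hxk : x ∈ ℒ (k * e)) (i : ι) :
    π.app (Proj.basicOpen 𝒜 (g i)) (frac 𝒜 ℒ (hg i) k hxk) = 0 := by
  have h1 := hx (k * e)
  rw [DirectSum.decompose_of_mem_same ℒ hxk] at h1
  have hm : (1 : A) • x ∈ ℒ (k * e) := by rw [one_smul]; exact hxk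
  have h2 := h1 i 0 k 1 (by omega) SetLike.GradedOne.one_mem hm
  rw [← h2]
  exact congrArg _ (frac_eq 𝒜 ℒ (hg i) k hxk hm (one_smul A x).symm)

end sat

section K2

variable {e : ℕ} (he : 0 < e) {ι : Type} (g : ι → A) (hg : ∀ i, g i ∈ 𝒜 e)
variable {F : (Proj 𝒜).Modules} (π : tilde 𝒜 ℒ 0 ⟶ F)

omit [DirectSum.Decomposition ℒ] [SetLike.GradedSMul 𝒜 ℒ] [IsScalarTower R A L] [Module R L]
  [Module A L] [AddCommGroup L] in
/-- `D₊(g_i) ∩ D₊(g_{i₀})` is the basic open of the function `g_{i₀}/g_i` on `D₊(g_i)` -/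
theorem basicOpen_cfun (i₀ i : ι) :
    (Proj 𝒜).basicOpen (cfun 𝒜 e g hg i₀ i) =
      Proj.basicOpen 𝒜 (g i) ⊓ Proj.basicOpen 𝒜 (g i₀) := by
  ext y
  have hunit : ∀ hy : y ∈ Proj.basicOpen 𝒜 (g i),
      IsUnit (funVal 𝒜 _ (cfun 𝒜 e g hg i₀ i) y hy) ↔ g i₀ ∉ y.asHomogeneousIdeal := by
    intro hy
    exact isUnit_of_val_eq_mk _ (not_mem_of_mem_basicOpen 𝒜 y hy)
      (funVal_fracFun 𝒜 _ (hg i₀) (hg i) _ y hy)
  constructor
  · intro hy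
    have hyW : y ∈ Proj.basicOpen 𝒜 (g i) := (Proj 𝒜).basicOpen_le _ hy
    exact ⟨hyW, (ProjectiveSpectrum.mem_basicOpen 𝒜 (g i₀) y).mpr
      ((hunit hyW).mp ((mem_basicOpen_iff_isUnit_funVal 𝒜 _ _ y hyW).mp hy))⟩
  · rintro ⟨hyW, hy0⟩
    exact (mem_basicOpen_iff_isUnit_funVal 𝒜 _ _ y hyW).mpr
      ((hunit hyW).mpr ((ProjectiveSpectrum.mem_basicOpen 𝒜 (g i₀) y).mp hy0))

/-- `(g_{i₀}/g_i)^N · (ℓ / g_i^n) = g_{i₀}^N ℓ / g_i^(N+n)` -/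
theorem cfun_pow_smul_frac (i₀ i : ι) (N n : ℕ) {ℓ : L} (hℓ : ℓ ∈ ℒ (n * e)) :
    cfun 𝒜 e g hg i₀ i ^ N • frac 𝒜 ℒ (hg i) n hℓ =
      frac 𝒜 ℒ (hg i) (N + n) (pow_smul_mem 𝒜 ℒ (hg i₀) N n hℓ) := by
  apply sec_ext
  intro y hy
  rw [secVal_smul, funVal_pow, HomogeneousLocalization.val_pow, cfun, funVal_fracFun,
    secVal_frac, secVal_frac, Localization.mk_pow, LocalizedModule.mk_smul_mk,
    LocalizedModule.mk_eq]
  refine ⟨1, ?_⟩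
  simp only [one_smul, Submonoid.smul_def, Submonoid.coe_mul, SubmonoidClass.coe_pow]
  first | rfl | (congr 1; ring)

/-- on the overlap, `ℓ / g_i^n = (g_{i₀}/g_i)^n · (ℓ / g_{i₀}^n)` -/
theorem res_frac_eq (i₀ i : ι) (n : ℕ) {ℓ : L} (hℓ : ℓ ∈ ℒ (n * e)) :
    res (tilde 𝒜 ℒ 0)
        (inf_le_left : Proj.basicOpen 𝒜 (g i) ⊓ Proj.basicOpen 𝒜 (g i₀) ≤ _)
        (frac 𝒜 ℒ (hg i) n hℓ) =
      hfun 𝒜 e g hg i i₀ ^ n • res (tilde 𝒜 ℒ 0) inf_le_right (frac 𝒜 ℒ (hg i₀) n hℓ) := by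
  apply sec_ext
  intro y hy
  rw [secVal_smul, funVal_pow, HomogeneousLocalization.val_pow, hfun, funVal_fracFun,
    secVal_map, secVal_map, secVal_frac, secVal_frac, Localization.mk_pow,
    LocalizedModule.mk_smul_mk, LocalizedModule.mk_eq]
  refine ⟨1, ?_⟩
  simp only [one_smul, Submonoid.smul_def, Submonoid.coe_mul, SubmonoidClass.coe_pow, smul_smul]

variable [F.IsQuasicoherent]

include he in
theorem exists_pow_app_frac_eq_zero (i₀ i : ι) (n : ℕ) {ℓ : L} (hℓ : ℓ ∈ ℒ (n * e))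
    (h0 : π.app (Proj.basicOpen 𝒜 (g i₀)) (frac 𝒜 ℒ (hg i₀) n hℓ) = 0) :
    ∃ N₀ : ℕ, ∀ N, N₀ ≤ N → π.app (Proj.basicOpen 𝒜 (g i))
      (frac 𝒜 ℒ (hg i) (N + n) (pow_smul_mem 𝒜 ℒ (hg i₀) N n hℓ)) = 0 := by
  have hU : IsAffineOpen (Proj.basicOpen 𝒜 (g i)) :=
    Proj.isAffineOpen_basicOpen 𝒜 (g i) (hg i) he
  have h1 : res F (inf_le_left : Proj.basicOpen 𝒜 (g i) ⊓ Proj.basicOpen 𝒜 (g i₀) ≤ _)
      (π.app _ (frac 𝒜 ℒ (hg i) n hℓ)) = 0 := by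
    have e1 := (Groth.Agent.Lib.Helper23.Extend.app_map π
      (homOfLE (inf_le_left : Proj.basicOpen 𝒜 (g i) ⊓ Proj.basicOpen 𝒜 (g i₀) ≤ _))
      (frac 𝒜 ℒ (hg i) n hℓ)).symm
    have e2 := (Groth.Agent.Lib.Helper23.Extend.app_map π
      (homOfLE (inf_le_right : Proj.basicOpen 𝒜 (g i) ⊓ Proj.basicOpen 𝒜 (g i₀) ≤ _))
      (frac 𝒜 ℒ (hg i₀) n hℓ))
    change res F _ (π.app _ (frac 𝒜 ℒ (hg i) n hℓ)) =
      π.app _ (res (tilde 𝒜 ℒ 0) _ (frac 𝒜 ℒ (hg i) n hℓ)) at e1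
    change π.app _ (res (tilde 𝒜 ℒ 0) _ (frac 𝒜 ℒ (hg i₀) n hℓ)) =
      res F _ (π.app _ (frac 𝒜 ℒ (hg i₀) n hℓ)) at e2
    rw [e1, res_frac_eq 𝒜 ℒ g hg i₀ i n hℓ, Scheme.Modules.Hom.app_smul, e2, h0, res_zero,
      smul_zero]
  obtain ⟨N₀, hN₀⟩ := Groth.Agent.Helper13GammaStar.exists_pow_smul_eq_zero_of_eq hU F
    (cfun 𝒜 e g hg i₀ i) (basicOpen_cfun 𝒜 g hg i₀ i).symm inf_le_left _ h1
  refine ⟨N₀, fun N hN => ?_⟩
  rw [← cfun_pow_smul_frac 𝒜 ℒ g hg i₀ i N n hℓ, Scheme.Modules.Hom.app_smul]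
  obtain ⟨c, rfl⟩ := Nat.exists_eq_add_of_le hN
  rw [pow_add, mul_comm, mul_smul, hN₀, smul_zero]

include he in
/-- **the key lemma**: a section `ℓ / g_{i₀}^n` killed by `π` has `g_{i₀}^N ℓ` in the saturation -/
theorem exists_pow_smul_mem_sat [Fintype ι] (i₀ : ι) (n : ℕ) {ℓ : L} (hℓ : ℓ ∈ ℒ (n * e))
    (h0 : π.app (Proj.basicOpen 𝒜 (g i₀)) (frac 𝒜 ℒ (hg i₀) n hℓ) = 0) :
    ∃ N : ℕ, g i₀ ^ N • ℓ ∈ Sat 𝒜 ℒ g hg π := by
  classical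
  choose N₀ hN₀ using fun i => exists_pow_app_frac_eq_zero 𝒜 ℒ he g hg π i₀ i n hℓ h0
  refine ⟨Finset.univ.sup N₀, ?_⟩
  have hx := pow_smul_mem 𝒜 ℒ (hg i₀) (Finset.univ.sup N₀) n hℓ
  intro t
  by_cases ht : (Finset.univ.sup N₀ + n) * e = t
  · subst ht
    rw [DirectSum.decompose_of_mem_same ℒ hx]
    intro i s k b h hb hm
    have hk : Finset.univ.sup N₀ + n ≤ k := by
      apply Nat.le_of_mul_le_mul_right _ he
      omega
    obtain ⟨j, hj⟩ : ∃ j, k = j + (Finset.univ.sup N₀ + n) :=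
      ⟨k - (Finset.univ.sup N₀ + n), by omega⟩
    subst hj
    have hs : s = j • e := by
      rw [smul_eq_mul]
      have h' : (j + (Finset.univ.sup N₀ + n)) * e = j * e + (Finset.univ.sup N₀ + n) * e :=
        add_mul _ _ _
      omega
    subst hs
    rw [← frac_smul 𝒜 ℒ (hg i) j (Finset.univ.sup N₀ + n) hb hx hm,
      Scheme.Modules.Hom.app_smul, hN₀ i _ (Finset.le_sup (Finset.mem_univ i)), smul_zero]
  · rw [DirectSum.decompose_of_mem_ne ℒ hx ht]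
    exact satAt_zero 𝒜 ℒ g hg π t

end K2

end Groth.Agent.Lib.R2H2.ProjTildeCoh
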