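import Groth.Agent.Lib.R2H2ProjTildeCoh
import Groth.Agent.Lib.Helper23QCohAbelian
import Groth.Agent.Lib.Helper27GrTildeQCoh
import Groth.Agent.Lib.R2H2ProjSerre
import Groth.Agent.Lib.Helper27SerreGen4
set_option backward.isDefEq.respectTransparency.types false

/-!
# Quotients of `L~` on `Proj` are of the form `M~`, part 2 (helper2, round 2)

`u : L → N` a graded-surjective map of graded modules whose kernel is the saturation of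
`π : L~ ⟶ F` (epi, `F` quasi-coherent).  Then `N~ ≅ F`.
-/

set_option autoImplicit false
universe u

namespace Groth.Agent.Lib.R2H2.ProjTildeCoh

open CategoryTheory CategoryTheory.Limits AlgebraicGeometry TopologicalSpace Opposite TopCat GrTilde
open Groth.Agent.Lib.R2H2.GrTildeShift Groth.Agent.Lib.R2H2.GrTildeQuot
  Groth.Agent.Lib.Helper27GrTildeSect Groth.Agent.Helper13GrTildeFrac Groth.Agent.Lib.Helper6

variable {R A : Type u} [CommRing R] [CommRing A] [Algebra R A] (𝒜 : ℕ → Submodule R A)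
  [GradedAlgebra 𝒜]
variable {L : Type u} [AddCommGroup L] [Module R L] [Module A L] [IsScalarTower R A L]
  (ℒ : ℕ → Submodule R L) [DirectSum.Decomposition ℒ] [SetLike.GradedSMul 𝒜 ℒ]
variable {N : Type u} [AddCommGroup N] [Module R N] [Module A N] [IsScalarTower R A N]
  (𝒩 : ℕ → Submodule R N) [DirectSum.Decomposition 𝒩] [SetLike.GradedSMul 𝒜 𝒩]

section main

variable {e : ℕ} (he : 0 < e) {ι : Type} (g : ι → A) (hg : ∀ i, g i ∈ 𝒜 e)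
  (hcov : ∀ x : Proj 𝒜, ∃ i, x ∈ Proj.basicOpen 𝒜 (g i))
variable (u : L →ₗ[A] N) (hu : ∀ (i : ℕ) (m : L), m ∈ ℒ i → u m ∈ 𝒩 i)
  (hsurj : ∀ (i : ℕ) (y : N), y ∈ 𝒩 i → ∃ x ∈ ℒ i, u x = y)

/-- the map `L~ ⟶ N~` -/
noncomputable abbrev qt : tilde 𝒜 ℒ 0 ⟶ tilde 𝒜 𝒩 0 := tmap u (shiftsBy_of_preserves u hu 0)

include he hcov hsurj hg in
theorem epi_qt : Epi (qt 𝒜 ℒ 𝒩 u hu) := by
  haveI : (tilde 𝒜 𝒩 0).IsQuasicoherent := isQuasicoherent_tilde 𝒜 𝒩 0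
  constructor
  intro Z a b hab
  apply Groth.Agent.Lib.Helper27EpiGen.hom_ext_of_affine_cover (tilde 𝒜 𝒩 0) Z
    (fun i => Proj.basicOpen 𝒜 (g i)) (fun i => Proj.isAffineOpen_basicOpen 𝒜 (g i) (hg i) he) hcov
  intro i σ
  obtain ⟨k, y, hy, rfl⟩ := exists_frac 𝒜 𝒩 he (hg i) σ
  obtain ⟨x, hx, rfl⟩ := hsurj _ y hy
  rw [← tmap_frac u hu (hg i) k hx]
  change (qt 𝒜 ℒ 𝒩 u hu ≫ a).app _ _ = (qt 𝒜 ℒ 𝒩 u hu ≫ b).app _ _
  rw [hab]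

variable {F : (Proj 𝒜).Modules} [F.IsQuasicoherent] (π : tilde 𝒜 ℒ 0 ⟶ F)
  (hker : ∀ x : L, u x = 0 ↔ x ∈ Sat 𝒜 ℒ g hg π)

include he in
/-- a fraction vanishing on `D₊(g)` is killed by a power of `g` -/
theorem exists_pow_smul_eq_zero_of_frac_eq_zero {g₀ : A} (hg₀ : g₀ ∈ 𝒜 e) (k : ℕ) {y : N}
    (hy : y ∈ 𝒩 (k * e)) (h : frac 𝒜 𝒩 hg₀ k hy = 0) : ∃ n : ℕ, g₀ ^ n • y = 0 := by
  refine Groth.Agent.S3587.result 𝒜 𝒩 he hg₀ k (k * e) ⟨y, hy⟩ ?_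
  intro x
  have h1 : secVal 𝒜 𝒩 0 (Proj.basicOpen 𝒜 g₀) (frac 𝒜 𝒩 hg₀ k hy) x.1 x.2 =
      secVal 𝒜 𝒩 0 (Proj.basicOpen 𝒜 g₀) 0 x.1 x.2 := by rw [h]
  rw [secVal_frac, secVal_zero] at h1
  exact h1

include he hker hcov in
theorem kernel_ι_qt_comp : kernel.ι (qt 𝒜 ℒ 𝒩 u hu) ≫ π = 0 := by
  haveI : (tilde 𝒜 𝒩 0).IsQuasicoherent := isQuasicoherent_tilde 𝒜 𝒩 0
  haveI : (tilde 𝒜 ℒ 0).IsQuasicoherent := isQuasicoherent_tilde 𝒜 ℒ 0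
  haveI : (kernel (qt 𝒜 ℒ 𝒩 u hu)).IsQuasicoherent :=
    Groth.Agent.Lib.Helper23.QCohLocal.isQuasicoherent_kernel _
  apply Groth.Agent.Lib.Helper27EpiGen.hom_ext_of_affine_cover (kernel (qt 𝒜 ℒ 𝒩 u hu)) F
    (fun i => Proj.basicOpen 𝒜 (g i)) (fun i => Proj.isAffineOpen_basicOpen 𝒜 (g i) (hg i) he) hcov
  intro i τ
  change π.app _ ((kernel.ι (qt 𝒜 ℒ 𝒩 u hu)).app _ τ) = 0
  have h0 : (qt 𝒜 ℒ 𝒩 u hu).app _ ((kernel.ι (qt 𝒜 ℒ 𝒩 u hu)).app _ τ) = 0 := by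
    change (kernel.ι (qt 𝒜 ℒ 𝒩 u hu) ≫ qt 𝒜 ℒ 𝒩 u hu).app (Proj.basicOpen 𝒜 (g i)) τ = 0
    rw [kernel.condition]
    rfl
  obtain ⟨k, x, hx, hσ⟩ := exists_frac 𝒜 ℒ he (hg i) ((kernel.ι (qt 𝒜 ℒ 𝒩 u hu)).app _ τ)
  rw [hσ] at h0 ⊢
  rw [tmap_frac u hu (hg i) k hx] at h0
  obtain ⟨n, hn⟩ := exists_pow_smul_eq_zero_of_frac_eq_zero 𝒜 𝒩 he (hg i) k (hu _ x hx) h0
  rw [← map_smul, hker] at hn
  have hm := pow_smul_mem 𝒜 ℒ (hg i) n k hx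
  rw [← frac_pow_smul 𝒜 ℒ (hg i) n k hx hm]
  exact app_frac_eq_zero_of_mem 𝒜 ℒ g hg π hn (n + k) hm i

variable [Fintype ι] [Epi π]

include he hcov hsurj hker hu in
/-- **`N~ ≅ F`** when `L → N` is graded-surjective with kernel the saturation of `π`. -/
theorem nonempty_iso : Nonempty (tilde 𝒜 𝒩 0 ≅ F) := by
  haveI : (tilde 𝒜 𝒩 0).IsQuasicoherent := isQuasicoherent_tilde 𝒜 𝒩 0
  haveI : (tilde 𝒜 ℒ 0).IsQuasicoherent := isQuasicoherent_tilde 𝒜 ℒ 0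
  haveI := epi_qt 𝒜 ℒ 𝒩 he g hg hcov u hu hsurj
  have hk := kernel_ι_qt_comp 𝒜 ℒ 𝒩 he g hg hcov u hu π hker
  let πb : tilde 𝒜 𝒩 0 ⟶ F := Abelian.epiDesc (qt 𝒜 ℒ 𝒩 u hu) π hk
  have hfac : qt 𝒜 ℒ 𝒩 u hu ≫ πb = π := Abelian.comp_epiDesc _ _ _
  haveI : Epi πb := by
    haveI : Epi (qt 𝒜 ℒ 𝒩 u hu ≫ πb) := by rw [hfac]; infer_instance
    exact epi_of_epi (qt 𝒜 ℒ 𝒩 u hu) πb
  haveI : Mono πb := by
    apply Preadditive.mono_of_kernel_zero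
    haveI : (kernel πb).IsQuasicoherent :=
      Groth.Agent.Lib.Helper23.QCohLocal.isQuasicoherent_kernel _
    apply Groth.Agent.Lib.Helper27EpiGen.hom_ext_of_affine_cover (kernel πb) (tilde 𝒜 𝒩 0)
      (fun i => Proj.basicOpen 𝒜 (g i))
      (fun i => Proj.isAffineOpen_basicOpen 𝒜 (g i) (hg i) he) hcov
    intro i τ
    change (kernel.ι πb).app _ τ = 0
    have h0 : πb.app _ ((kernel.ι πb).app _ τ) = 0 := by
      change (kernel.ι πb ≫ πb).app (Proj.basicOpen 𝒜 (g i)) τ = 0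
      rw [kernel.condition]
      rfl
    obtain ⟨k, y, hy, hσ⟩ := exists_frac 𝒜 𝒩 he (hg i) ((kernel.ι πb).app _ τ)
    rw [hσ] at h0 ⊢
    obtain ⟨x, hx, rfl⟩ := hsurj _ y hy
    rw [← tmap_frac u hu (hg i) k hx] at h0
    have h1 : π.app (Proj.basicOpen 𝒜 (g i)) (frac 𝒜 ℒ (hg i) k hx) = 0 := by
      rw [← hfac]
      exact h0
    obtain ⟨n, hn⟩ := exists_pow_smul_mem_sat 𝒜 ℒ he g hg π i k hx h1
    rw [← hker, map_smul] at hn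
    have hm := pow_smul_mem 𝒜 𝒩 (hg i) n k (hu _ x hx)
    rw [← frac_pow_smul 𝒜 𝒩 (hg i) n k (hu _ x hx) hm]
    exact frac_eq_zero 𝒜 𝒩 (hg i) (n + k) hm hn
  haveI : IsIso πb := isIso_of_mono_of_epi πb
  exact ⟨asIso πb⟩

end main

section quotient

variable {e : ℕ} (he : 0 < e) {ι : Type} [Fintype ι] (g : ι → A) (hg : ∀ i, g i ∈ 𝒜 e)
  (hcov : ∀ x : Proj 𝒜, ∃ i, x ∈ Proj.basicOpen 𝒜 (g i))
  {F : (Proj 𝒜).Modules} [F.IsQuasicoherent] (π : tilde 𝒜 ℒ 0 ⟶ F) [Epi π]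

include he hcov hg π in
/-- a quasi-coherent quotient of `L~` is `(L / Sat)~` -/
theorem exists_graded_iso :
    ∃ (M : Type u) (_ : AddCommGroup M) (_ : Module R M) (_ : Module A M)
      (_ : IsScalarTower R A M) (ℳ : ℕ → Submodule R M) (_ : DirectSum.Decomposition ℳ)
      (_ : SetLike.GradedSMul 𝒜 ℳ),
      (Module.Finite A L → Module.Finite A M) ∧ Nonempty (tilde 𝒜 ℳ 0 ≅ F) := by
  have hP : IsHomog ℒ (Sat 𝒜 ℒ g hg π) := isHomog_sat 𝒜 ℒ g hg π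
  letI := quotDecomposition hP
  haveI := quot_gradedSMul (𝒜 := 𝒜) ℒ (Sat 𝒜 ℒ g hg π)
  refine ⟨L ⧸ Sat 𝒜 ℒ g hg π, inferInstance, inferInstance, inferInstance, inferInstance,
    quotGr ℒ (Sat 𝒜 ℒ g hg π), quotDecomposition hP, quot_gradedSMul ℒ _, ?_, ?_⟩
  · intro h
    infer_instance
  · refine nonempty_iso 𝒜 ℒ (quotGr ℒ (Sat 𝒜 ℒ g hg π)) he g hg hcov (Submodule.mkQ _)
      (mkQ_preserves ℒ _) ?_ π ?_
    · rintro i y ⟨x, hx, rfl⟩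
      exact ⟨x, hx, rfl⟩
    · intro x
      rw [Submodule.mkQ_apply, Submodule.Quotient.mk_eq_zero]

end quotient

/-- **every coherent module on `Proj 𝒜` (`A` Noetherian) is `M~` for a finite graded module `M`.** -/
theorem coherent_is_tilde [IsNoetherianRing A] (F : (Proj 𝒜).Modules) (hF : Coh.IsCoh F) :
    ∃ (M : Type u) (_ : AddCommGroup M) (_ : Module R M) (_ : Module A M)
      (_ : IsScalarTower R A M) (ℳ : ℕ → Submodule R M) (_ : DirectSum.Decomposition ℳ)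
      (_ : SetLike.GradedSMul 𝒜 ℳ),
      Module.Finite A M ∧ Nonempty (GrTilde.tilde 𝒜 ℳ 0 ≅ F) := by
  classical
  haveI : Algebra.FiniteType (𝒜 0) A :=
    Groth.Agent.Lib.Helper14.finiteType_of_isNoetherianRing_graded 𝒜
  obtain ⟨n₀, e, he, -, hper⟩ := Groth.Agent.Lib.Helper10.GradedPeriod.exists_period 𝒜
  have hcov : ∀ y : Proj 𝒜, ∃ g : 𝒜 e,
      (g : A) ∉ (show ProjectiveSpectrum 𝒜 from y).asHomogeneousIdeal :=
    fun y => Groth.Agent.Lib.R2H2.ProjSerre.exists_not_mem 𝒜 hper y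
  haveI : CompactSpace (Proj 𝒜) :=
    QuasiCompact.compactSpace_of_compactSpace (Proj.toSpecZero 𝒜)
  -- a finite subcover
  obtain ⟨t, ht⟩ : ∃ t : Finset (𝒜 e), ∀ y : Proj 𝒜, ∃ g ∈ t,
      y ∈ Proj.basicOpen 𝒜 (g : A) := by
    obtain ⟨t, ht⟩ := isCompact_univ.elim_finite_subcover
      (fun g : 𝒜 e => ((Proj.basicOpen 𝒜 (g : A) : (Proj 𝒜).Opens) : Set (Proj 𝒜)))
      (fun g => (Proj.basicOpen 𝒜 (g : A)).2) (by
        intro y _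
        obtain ⟨g, hg⟩ := hcov y
        exact Set.mem_iUnion.2 ⟨g, (ProjectiveSpectrum.mem_basicOpen 𝒜 _ y).mpr hg⟩)
    refine ⟨t, fun y => ?_⟩
    have h1 := ht (Set.mem_univ y)
    simp only [Set.mem_iUnion] at h1
    obtain ⟨g, hg, hy⟩ := h1
    exact ⟨g, hg, hy⟩
  let G : Fin t.card → A := fun j => (((t.equivFin.symm j : t) : 𝒜 e) : A)
  have hG : ∀ j, G j ∈ 𝒜 e := fun j => ((t.equivFin.symm j : t) : 𝒜 e).2
  have hcovG : ∀ y : Proj 𝒜, ∃ j, y ∈ Proj.basicOpen 𝒜 (G j) := by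
    intro y
    obtain ⟨g, hg, hy⟩ := ht y
    refine ⟨t.equivFin ⟨g, hg⟩, ?_⟩
    simp only [G, Equiv.symm_apply_apply]
    exact hy
  have hcovG' : ∀ y : Proj 𝒜,
      ∃ j, G j ∉ (show ProjectiveSpectrum 𝒜 from y).asHomogeneousIdeal := by
    intro y
    obtain ⟨j, hj⟩ := hcovG y
    exact ⟨j, (ProjectiveSpectrum.mem_basicOpen 𝒜 _ y).mp hj⟩
  haveI : F.IsQuasicoherent := hF.1
  haveI : SheafOfModules.IsFiniteType (R := (Proj 𝒜).ringCatSheaf) F := hF.2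
  obtain ⟨N, hN⟩ := exists_epi_twist 𝒜 e G hG hcovG' he F
  obtain ⟨r, p, hp⟩ := hN N le_rfl (-((N * e : ℕ) : ℤ)) (by push_cast; ring)
  obtain ⟨π, hπ⟩ := Groth.Agent.Lib.R2H2.GrTildePi.exists_epi_free 𝒜 (N * e) r F
    (fun j => Sigma.ι (fun _ : Fin r => GrTilde.tilde 𝒜 𝒜 (-((N * e : ℕ) : ℤ))) j ≫ p) (by
      intro Z a b hab
      rw [← cancel_epi p]
      apply Sigma.hom_ext
      intro j
      rw [← Category.assoc, ← Category.assoc]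
      exact hab j)
  obtain ⟨M, i1, i2, i3, i4, ℳ, i5, i6, hfin, hiso⟩ :=
    exists_graded_iso 𝒜 (Groth.Agent.Lib.R2H2.GrTildePi.freeGr 𝒜 (N * e) r) he G hG hcovG π
  exact ⟨M, i1, i2, i3, i4, ℳ, i5, i6, hfin inferInstance, hiso⟩

end Groth.Agent.Lib.R2H2.ProjTildeCoh
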