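import Mathlib
import Groth.Agent.Lib.R2LeadKRR
import Groth.Agent.Lib.Helper16ClosedEmb
import Groth.Agent.Lib.Helper21ModCoh

set_option autoImplicit false
universe v u v' u'
open CategoryTheory CategoryTheory.Limits AlgebraicGeometry TopologicalSpace Opposite MonoidalCategory

namespace Groth.Agent.Lib.R2Lead.KRR2

section General

theorem epi_map_of_natIso {C : Type*} [Category C] {D : Type*} [Category D] {F G : C ⥤ D}
    (e : F ≅ G) {X Y : C} (f : X ⟶ Y) (h : Epi (G.map f)) : Epi (F.map f) := by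
  have h1 : F.map f = e.hom.app X ≫ G.map f ≫ e.inv.app Y := by simp
  rw [h1]
  infer_instance

open Groth.Agent.Lib.Helper17.RDerLib in
/-- if `RⁱF(X₂) ⟶ RⁱF(X₃)` is an epimorphism and `Rⁱ⁺¹F(X₂) = 0` then `Rⁱ⁺¹F(X₁) = 0`. -/
theorem isZero_rd_succ_X₁_of_epi {C : Type u} [Category.{v} C] [Abelian C] [HasInjectiveResolutions C]
    [EnoughInjectives C] {D : Type u'} [Category.{v'} D] [Abelian D] (F : C ⥤ D) [F.Additive]
    (S : ShortComplex C) (hS : S.ShortExact) (i : ℕ)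
    (hepi : Epi ((F.rightDerived i).map S.g))
    (h₂ : IsZero ((F.rightDerived (i + 1)).obj S.X₂)) :
    IsZero ((F.rightDerived (i + 1)).obj S.X₁) := by
  obtain ⟨T⟩ := nonempty_sesRes S hS
  have hδ : T.delta F i (i + 1) rfl = 0 := by
    have h1 := comp_δ F T i (i + 1) rfl
    exact (cancel_epi ((F.rightDerived i).map S.g)).1 (h1.trans comp_zero.symm)
  have hex := exact₁ F T i (i + 1) rfl
  haveI : Mono ((F.rightDerived (i + 1)).map S.f) := hex.mono_g hδ
  exact IsZero.of_mono ((F.rightDerived (i + 1)).map S.f) h₂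

/-- for a left exact functor, `R⁰F(g)` is an epimorphism as soon as `F(g)` is. -/
theorem epi_rightDerived_zero_map {C : Type u} [Category.{v} C] [Abelian C] [HasInjectiveResolutions C]
    [EnoughInjectives C] {D : Type u'} [Category.{v'} D] [Abelian D] (F : C ⥤ D) [F.Additive]
    [PreservesFiniteLimits F] {X Y : C} (g : X ⟶ Y) (h : Epi (F.map g)) :
    Epi ((F.rightDerived 0).map g) :=
  epi_map_of_natIso F.rightDerivedZeroIsoSelf g h

end General

section PY

open Groth.Agent.Lib.R2Lead.KRR Groth.Agent.Lib.Helper23.QCohLocal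

variable (n : ℕ) (Y : Scheme.{u})

theorem nonempty_twFun_one_neg_one_iso :
    Nonempty (twFun n Y 1 ⋙ twFun n Y (-(((0 + 1 : ℕ)) : ℤ)) ≅ 𝟭 _) := by
  obtain ⟨e⟩ := nonempty_twFun_comp_iso n Y (-(((0 + 1 : ℕ)) : ℤ)) 1
  have hcast : (-(((0 + 1 : ℕ)) : ℤ) + 1) = 0 := by norm_num
  rw [hcast] at e
  obtain ⟨e0⟩ := nonempty_twFun_zero_iso n Y
  exact ⟨e ≪≫ e0⟩

theorem epi_toAbF_map {Z : Scheme.{u}} {M N : Z.Modules} (g : M ⟶ N) (h : Epi g) :
    Epi ((toAbF Z).map g) := by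
  haveI : PreservesFiniteColimits (toAbF Z) :=
    inferInstanceAs (PreservesFiniteColimits (SheafOfModules.toSheaf Z.ringCatSheaf))
  infer_instance

theorem epi_rightDerived_zero_twist {X₂ X₃ : (KRR.PY n Y).Modules} (g : X₂ ⟶ X₃)
    (hepi : Epi ((Scheme.Modules.pushforward (KRR.pr n Y)).map g)) :
    Epi (((Coh.pushAb (KRR.pr n Y)).rightDerived 0).map
      ((toAbF (KRR.PY n Y)).map ((twFun n Y (-(((0 + 1 : ℕ)) : ℤ))).map ((twFun n Y 1).map g)))) := by
  haveI : PreservesFiniteLimits (Coh.pushAb (KRR.pr n Y)) :=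
    Groth.Agent.Lib.Helper16.ClosedEmb.push_preservesFiniteLimits (KRR.pr n Y).base
  apply epi_rightDerived_zero_map
  obtain ⟨ε⟩ := nonempty_twFun_one_neg_one_iso n Y
  let η : (twFun n Y 1 ⋙ twFun n Y (-(((0 + 1 : ℕ)) : ℤ))) ⋙ toAbF (KRR.PY n Y) ⋙
      Coh.pushAb (KRR.pr n Y) ≅ toAbF (KRR.PY n Y) ⋙ Coh.pushAb (KRR.pr n Y) :=
    Functor.isoWhiskerRight ε _ ≪≫ Functor.leftUnitor _
  refine epi_map_of_natIso η g ?_
  exact epi_toAbF_map (Z := Y) ((Scheme.Modules.pushforward (KRR.pr n Y)).map g) hepi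

end PY

end Groth.Agent.Lib.R2Lead.KRR2
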