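import Groth.Agent.S0055
import Groth.Agent.S0796
import Groth.Agent.Lib.H6xPropSuppD
import Groth.Agent.Lib.R2H3AmpleFinite
import Groth.Agent.Lib.Helper23AmpleIso
import Groth.Agent.Lib.R2LeadKRR2
import Groth.Agent.Lib.R2H2PnSerre
import Groth.Agent.Lib.R2H2PdSheaf
import Groth.Agent.Lib.Helper17RDer6
set_option backward.isDefEq.respectTransparency.types false

/-!
# Direct images of twists of an exact sequence with proper supports (helper2, round 2; S4465)

* `epi_map_of_isZero_rd_one` : for a left exact functor `F` and a short exact sequence `S`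
  with `R¹F(S.X₁) = 0`, the map `F(S.g)` is an epimorphism.
* `isAmple_restrict_pullback` : restriction to `i⁻¹U` of the pullback of `L` along a closed
  immersion `i` is ample if `L|_U` is.
* `exists_isZero_Rpush_one_twist` : `R¹f_*(N ⊗ L^n) = 0` for `n ≫ 0`, `N` coherent with support
  proper over the base and `L` relatively ample.
* `main` : S4465.
-/

set_option autoImplicit false
set_option linter.unusedSectionVars false
set_option linter.style.haveILetI false
universe v u v' u'
open CategoryTheory CategoryTheory.Limits AlgebraicGeometry TopologicalSpace Opposite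

noncomputable section

namespace Groth.Agent.Lib.R2H2.PropSuppExact

section General

open Groth.Agent.Lib.Helper17.RDerLib in
theorem epi_map_of_isZero_rd_one {C : Type u} [Category.{v} C] [Abelian C]
    [HasInjectiveResolutions C] [EnoughInjectives C] {D : Type u'} [Category.{v'} D] [Abelian D]
    (F : C ⥤ D) [F.Additive] [PreservesFiniteLimits F] (S : ShortComplex C) (hS : S.ShortExact)
    (h : IsZero ((F.rightDerived 1).obj S.X₁)) : Epi (F.map S.g) := by
  obtain ⟨T⟩ := nonempty_sesRes S hS
  have hex := exact₃ F T 0 1 rfl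
  haveI : Epi ((F.rightDerived 0).map S.g) := hex.epi_f (h.eq_of_tgt _ _)
  exact Groth.Agent.Lib.R2Lead.KRR2.epi_map_of_natIso F.rightDerivedZeroIsoSelf.symm S.g
    inferInstance

/-- exactness of the image of a complex exact in the middle under a left exact functor which maps
the relevant quotient map to an epimorphism -/
theorem exact_map_of_epi {C : Type*} [Category C] [Abelian C] {D : Type*} [Category D] [Abelian D]
    (Φ : C ⥤ D) [Φ.Additive] [PreservesFiniteLimits Φ] (S : ShortComplex C)
    (h : Epi (Φ.map (kernel.lift S.g S.f S.zero))) : (S.map Φ).Exact := by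
  rw [ShortComplex.exact_iff_epi_kernel_lift]
  have h1 : Φ.map (kernel.lift S.g S.f S.zero) ≫ kernelComparison S.g Φ =
      kernel.lift (S.map Φ).g (S.map Φ).f (S.map Φ).zero :=
    map_lift_kernelComparison S.g Φ S.zero
  have h2 : Epi (Φ.map (kernel.lift S.g S.f S.zero) ≫ kernelComparison S.g Φ) :=
    epi_comp' h inferInstance
  rw [h1] at h2
  exact h2

end General

variable {X Y : Scheme.{u}}

/-- restriction and pullback along a closed immersion: ampleness -/
theorem isAmple_restrict_pullback {T : Scheme.{u}} (i : T ⟶ X) [IsClosedImmersion i]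
    (L : X.Modules) (U : X.Opens) (h : CohB1.IsAmple (L.restrict U.ι)) :
    CohB1.IsAmple (((Scheme.Modules.pullback i).obj L).restrict (i ⁻¹ᵁ U).ι) := by
  haveI : IsAffineHom (i ∣_ U) := IsZariskiLocalAtTarget.restrict (P := @IsAffineHom) inferInstance U
  have h' := Groth.Agent.Lib.Helper23.PB.isAmple_pullback_of_isAffineHom (i ∣_ U)
    (L.restrict U.ι) h
  refine Groth.Agent.Lib.Helper23.AmpleIso.isAmple_of_iso ?_ h'
  exact (Scheme.Modules.pullback (i ∣_ U)).mapIso
      ((Scheme.Modules.restrictFunctorIsoPullback U.ι).app L) ≪≫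
    (Scheme.Modules.pullbackComp (i ∣_ U) U.ι).app L ≪≫
    (Scheme.Modules.pullbackCongr (morphismRestrict_ι i U)).app L ≪≫
    ((Scheme.Modules.pullbackComp (i ⁻¹ᵁ U).ι i).app L).symm ≪≫
    ((Scheme.Modules.restrictFunctorIsoPullback (i ⁻¹ᵁ U).ι).app
      ((Scheme.Modules.pullback i).obj L)).symm

/-- `F ↦ F ⊗ P` in the two spellings -/
def twRIso (P : X.Modules) : DCoh.tensorRightMod P ≅ Groth.Agent.Lib.R2H2.PnSerre.twR P :=
  NatIso.ofComponents (fun _ => Iso.refl _) (fun f => by
    simp only [Iso.refl_hom]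
    exact (Category.comp_id _).trans (Category.id_comp _).symm)

theorem shortExact_map_tensorRightMod (P : X.Modules) (hP : PicF.IsInvertible P)
    (S : ShortComplex X.Modules) (hS : S.ShortExact) :
    (S.map (DCoh.tensorRightMod P)).ShortExact :=
  ShortComplex.shortExact_of_iso (S.mapNatIso (twRIso P)).symm
    (Groth.Agent.Lib.R2H2.PnSerre.shortExact_map_twR P hP S hS)

section Vanish

variable (f : X ⟶ Y) [IsNoetherian Y] [LocallyOfFiniteType f] [QuasiCompact f]

/-- Serre vanishing in degree one for modules with proper support -/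
theorem exists_isZero_Rpush_one_twist [HasInjectiveResolutions X.Modules] (L : X.Modules)
    (hL : PicF.IsInvertible L) (hamp : RelAmple.IsRelAmple f L) (N : X.Modules)
    (hN : Coh.IsCoh N) (hs : ClSub.IsProperOver f (CohB1.support N)) :
    ∃ n₀ : ℕ, ∀ n : ℕ, n₀ ≤ n →
      IsZero ((Coh.Rpush f 1).obj (CohB1.tensorMod N (CohB1.tensorPow L n))) := by
  haveI : IsLocallyNoetherian X := LocallyOfFiniteType.isLocallyNoetherian f
  have hc := Groth.Agent.Lib.H6xPropSupp.isCompact_of_isProperOver f _ hs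
  obtain ⟨T, i, hcl, hprop, G, hG, ⟨φ⟩⟩ :=
    Groth.Agent.Lib.H6xPropSupp.exists_closed_model' f N hN hs hc
  haveI := hcl
  haveI := hprop
  haveI := Groth.Agent.Lib.R2H3.RpushRestrict.hasInjectiveResolutions_modules T
  set L' : T.Modules := (Scheme.Modules.pullback i).obj L with hL'def
  have hL' : PicF.IsInvertible L' := Groth.Agent.Lib.Helper23.PB.isInvertible_pullback i L hL
  have ha : ∀ W : Y.Opens, IsAffineOpen W → CohB1.IsAmple (L'.restrict ((i ≫ f) ⁻¹ᵁ W).ι) := by
    intro W hW
    have h1 := isAmple_restrict_pullback i L (f ⁻¹ᵁ W) (hamp.2 ⟨W, hW⟩)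
    exact h1
  obtain ⟨n₀, hn₀⟩ := Groth.Agent.S0055.result (i ≫ f) L' hL' ha G hG
  refine ⟨n₀, fun n hn => ?_⟩
  set M' : T.Modules := CohB1.tensorMod G (CohB1.tensorPow L' n) with hM'
  have cM' : Coh.IsCoh M' :=
    Groth.Agent.Lib.R2H3.AmpleSV.isCoh_tensorMod_invertible G _ hG
      (Groth.Agent.Lib.Helper23.SecTw.isInvertible_tensorPow hL' n)
  -- vanishing on `T`
  have hz : IsZero ((Coh.Rpush (i ≫ f) 1).obj M') := by
    obtain ⟨e⟩ := Groth.Agent.Lib.Helper23.ModAbBridge.nonempty_toAb_Rpush_iso (i ≫ f) M' 1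
    exact Groth.Agent.Lib.R2H2.LerayAff.isZero_of_isZero_toAb _
      (IsZero.of_iso (hn₀ n hn 1 Nat.one_pos) e)
  obtain ⟨e3⟩ := Groth.Agent.Lib.H6xPropSupp.nonempty_Rpush_push_iso i f M' cM'.1 1
  obtain ⟨e2⟩ := Groth.Agent.Lib.R2H3.AmpleFinite.nonempty_push_twist_iso i L hL G n
  let e1 : CohB1.tensorMod N (CohB1.tensorPow L n) ≅
      CohB1.tensorMod ((Scheme.Modules.pushforward i).obj G) (CohB1.tensorPow L n) :=
    (DCoh.tensorRightMod (CohB1.tensorPow L n)).mapIso φ
  exact IsZero.of_iso hz ((Coh.Rpush f 1).mapIso (e1 ≪≫ e2) ≪≫ e3)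

end Vanish

/-- **S4465** -/
theorem main (f : X ⟶ Y) [IsNoetherian Y] [LocallyOfFiniteType f] [QuasiCompact f]
    (L : X.Modules) (hL : PicF.IsInvertible L) (hamp : RelAmple.IsRelAmple f L)
    (C : ShortComplex X.Modules) (hC : C.Exact)
    (h1 : Coh.IsCoh C.X₁) (h2 : Coh.IsCoh C.X₂) (h3 : Coh.IsCoh C.X₃)
    (hs1 : ClSub.IsProperOver f (CohB1.support C.X₁)) :
    ∃ N : ℕ, ∀ n : ℕ, N ≤ n →
      (C.map (DCoh.tensorRightMod (CohB1.tensorPow L n) ⋙ Coh.push f)).Exact := by
  haveI : IsLocallyNoetherian X := LocallyOfFiniteType.isLocallyNoetherian f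
  haveI : IsLocallyNoetherian Y := inferInstance
  haveI := Groth.Agent.Lib.R2H3.RpushRestrict.hasInjectiveResolutions_modules X
  haveI : EnoughInjectives X.Modules := by
    have := Groth.Agent.S0484.result (Opens.grothendieckTopology X) X.ringCatSheaf
    exact inferInstanceAs (EnoughInjectives (SheafOfModules.{u} X.ringCatSheaf))
  -- the kernel of `g` and the epimorphism `u : F ⟶ K`
  let u : C.X₁ ⟶ kernel C.g := kernel.lift C.g C.f C.zero
  haveI hu : Epi u := (ShortComplex.exact_iff_epi_kernel_lift C).1 hC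
  have cK : Coh.IsCoh (kernel C.g) := Groth.Agent.Lib.R2H2.PdSheaf.isCoh_kernel h2 h3 C.g
  have cN : Coh.IsCoh (kernel u) := Groth.Agent.Lib.R2H2.PdSheaf.isCoh_kernel h1 cK u
  let S₁ : ShortComplex X.Modules := ShortComplex.mk (kernel.ι u) u (kernel.condition u)
  have hS₁ : S₁.ShortExact :=
    ShortComplex.ShortExact.mk' (ShortComplex.exact_kernel u) inferInstance hu
  have hsN : ClSub.IsProperOver f (CohB1.support (kernel u)) :=
    ((Groth.Agent.S0796.result f S₁ hS₁ cN h1 cK).1 hs1).1
  obtain ⟨n₀, hn₀⟩ := exists_isZero_Rpush_one_twist f L hL hamp (kernel u) cN hsN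
  refine ⟨n₀, fun n hn => ?_⟩
  set P := CohB1.tensorPow L n with hP
  have hPinv : PicF.IsInvertible P := Groth.Agent.Lib.Helper23.SecTw.isInvertible_tensorPow hL n
  -- the twisted short exact sequence
  have hS₂ : (S₁.map (DCoh.tensorRightMod P)).ShortExact :=
    shortExact_map_tensorRightMod P hPinv S₁ hS₁
  haveI : PreservesLimitsOfSize.{0, 0} (Scheme.Modules.pushforward f) :=
    (Scheme.Modules.pullbackPushforwardAdjunction f).rightAdjoint_preservesLimits
  haveI : PreservesFiniteLimits (Scheme.Modules.pushforward f) :=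
    PreservesLimitsOfSize.preservesFiniteLimits _
  have hepi : Epi ((Scheme.Modules.pushforward f).map ((DCoh.tensorRightMod P).map u)) :=
    epi_map_of_isZero_rd_one (Scheme.Modules.pushforward f) (S₁.map (DCoh.tensorRightMod P)) hS₂
      (hn₀ n hn)
  -- the twist functor is exact
  haveI : PreservesFiniteLimits (DCoh.tensorRightMod P) := by
    haveI : PreservesFiniteLimits (Groth.Agent.Lib.R2H2.PnSerre.twR P) := by
      haveI := Groth.Agent.Lib.R2H1.ProjLF.preservesFiniteLimits_tensorBi_obj P
        (Groth.Agent.Lib.R2H3.AmpleFinite.isFinLocFree_of_isInvertible P hPinv)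
      exact preservesFiniteLimits_of_natIso (Groth.Agent.Lib.R2H2.PnSerre.twIso P)
    exact preservesFiniteLimits_of_natIso (twRIso P).symm
  haveI : PreservesFiniteLimits (DCoh.tensorRightMod P ⋙ Coh.push f) :=
    comp_preservesFiniteLimits _ _
  exact exact_map_of_epi (DCoh.tensorRightMod P ⋙ Coh.push f) C hepi

end Groth.Agent.Lib.R2H2.PropSuppExact
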