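import Mathlib
import Groth.Prelude
import Groth.Agent.Lib.R2H2Bc0
set_option backward.isDefEq.respectTransparency.types false
set_option autoImplicit false
set_option linter.unusedSectionVars false
set_option linter.style.haveILetI false
universe u
open CategoryTheory AlgebraicGeometry TopologicalSpace Opposite Abelian
open AlgebraicGeometry.Scheme.Modules CohCmp

noncomputable section

namespace Groth.Agent.Lib.R2H2.PullCompSec

open Groth.Agent.Lib.R2H2.BcSect Groth.Agent.Lib.R2H2.PullRes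
  Groth.Agent.Helper13PullbackUnit Groth.Agent.Lib.R2H3.PullUnit Groth.Agent.Lib.R2H2.PullOnUnit
  Groth.Agent.Lib.R2H2.ResSect Groth.Agent.Lib.R2H2.Bc0

section T'

variable {X Y Z : Scheme.{u}} {f : X ⟶ Y} {g : Y ⟶ Z} {p : X ⟶ Z} (e : f ≫ g = p)

/-- `T` sends `unitSec_f (unitSec_g n)` to `unitSec_p n`, over arbitrary opens -/
theorem T_hom_unitSec' (G : Z.Modules) {V : Z.Opens} {B : Y.Opens} {A : X.Opens}
    (hB : B ≤ g ⁻¹ᵁ V) (hA : A ≤ f ⁻¹ᵁ B) (hC : A ≤ p ⁻¹ᵁ V) (n : Γ(G, V)) :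
    (T e G).hom.app A (unitSec f ((Scheme.Modules.pullback g).obj G) hA (unitSec g G hB n)) =
      unitSec p G hC n := by
  have h1 : unitSec g G hB n = ((Scheme.Modules.pullback g).obj G).presheaf.map (homOfLE hB).op
      (unitSec g G le_rfl n) := (unitSec_res g G le_rfl hB n).symm
  rw [h1, unitSec_of_res]
  have h2 : unitSec f ((Scheme.Modules.pullback g).obj G) (hA.trans (f.preimage_mono hB))
        (unitSec g G le_rfl n) =
      ((Scheme.Modules.pullback f).obj ((Scheme.Modules.pullback g).obj G)).presheaf.map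
        (homOfLE hC).op
        (unitSec f ((Scheme.Modules.pullback g).obj G) (preimage_le e V) (unitSec g G le_rfl n)) :=
    (unitSec_res f _ (preimage_le e V) hC _).symm
  rw [h2, app_res, T_hom_unitSec, unitSec_res]

end T'

section Bc0Comp

variable {X Y Z U V W : Scheme.{u}} (f : X ⟶ Y) (g : Y ⟶ Z) (ξ : X ⟶ U) (η : Y ⟶ V) (ζ : Z ⟶ W)
  (φ : U ⟶ V) (ψ : V ⟶ W) (h₁ : f ≫ η = ξ ≫ φ) (h₂ : g ≫ ζ = η ≫ ψ)
  (hw : (f ≫ g) ≫ ζ = ξ ≫ (φ ≫ ψ)) (L : Z.Modules)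

lemma T_rfl_inv {X Y Z : Scheme.{u}} (f : X ⟶ Y) (g : Y ⟶ Z) (G : Z.Modules) :
    (T (rfl : f ≫ g = f ≫ g) G).inv = (Scheme.Modules.pullbackComp f g).inv.app G := by
  simp [T, Scheme.Modules.pullbackCongr]

lemma T_rfl_hom {X Y Z : Scheme.{u}} (f : X ⟶ Y) (g : Y ⟶ Z) (G : Z.Modules) :
    (T (rfl : f ≫ g = f ≫ g) G).hom = (Scheme.Modules.pullbackComp f g).hom.app G := by
  simp [T, Scheme.Modules.pullbackCongr]

lemma bc0_unitSec {X S S' X' : Scheme.{u}} (f : X ⟶ S) (g : S' ⟶ S) (f' : X' ⟶ S') (g' : X' ⟶ X)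
    (w : g' ≫ f = f' ≫ g) (F : X.Modules) {V₀ : S.Opens} {A : S'.Opens} (hle : A ≤ g ⁻¹ᵁ V₀)
    (n : Γ(F, f ⁻¹ᵁ V₀)) :
    (CohBC.bc0 f g f' g' w F).app A
        (unitSec g ((pushforward f).obj F) hle (show Γ((pushforward f).obj F, V₀) from n)) =
      unitSec g' F (Groth.Agent.Lib.R2H2.BcGen.preimage_le' (w := w) hle) n := by
  have h1 := tr_unitSec g (CohBC.bc0Adj f g f' g' w F) hle (show Γ((pushforward f).obj F, V₀) from n)
  refine h1.trans ?_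
  exact φres_bc0Adj f g f' g' w F hle n

/-- **horizontal composition of degree zero base change maps** -/
theorem bc0_comp_horizontal :
    (Scheme.Modules.pullbackComp φ ψ).hom.app ((pushforward ζ).obj L) ≫
        CohBC.bc0 ζ (φ ≫ ψ) ξ (f ≫ g) hw L =
      (Scheme.Modules.pullback φ).map (CohBC.bc0 ζ ψ η g h₂ L) ≫
        CohBC.bc0 η φ ξ f h₁ ((Scheme.Modules.pullback g).obj L) ≫
        (pushforward ξ).map ((Scheme.Modules.pullbackComp f g).hom.app L) := by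
  have key : CohBC.bc0 ζ (φ ≫ ψ) ξ (f ≫ g) hw L =
      (Scheme.Modules.pullbackComp φ ψ).inv.app ((pushforward ζ).obj L) ≫
        (Scheme.Modules.pullback φ).map (CohBC.bc0 ζ ψ η g h₂ L) ≫
        CohBC.bc0 η φ ξ f h₁ ((Scheme.Modules.pullback g).obj L) ≫
        (pushforward ξ).map ((Scheme.Modules.pullbackComp f g).hom.app L) := by
    apply pullback_hom_ext
    intro V₀ n
    have hL := bc0_unitSec ζ (φ ≫ ψ) ξ (f ≫ g) hw L (le_refl ((φ ≫ ψ) ⁻¹ᵁ V₀)) n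
    refine hL.trans ?_
    have hT : ((Scheme.Modules.pullbackComp φ ψ).inv.app ((pushforward ζ).obj L)).app
          ((φ ≫ ψ) ⁻¹ᵁ V₀) (unitSec (φ ≫ ψ) ((pushforward ζ).obj L) le_rfl n) =
        unitSec φ ((Scheme.Modules.pullback ψ).obj ((pushforward ζ).obj L))
          (preimage_le (rfl : φ ≫ ψ = φ ≫ ψ) V₀) (unitSec ψ ((pushforward ζ).obj L) le_rfl n) := by
      have h0 := T_hom_unitSec (rfl : φ ≫ ψ = φ ≫ ψ) ((pushforward ζ).obj L) V₀ n
      have h00 := inv_app_eq_of_hom_app_eq (T (rfl : φ ≫ ψ = φ ≫ ψ) ((pushforward ζ).obj L)) _ _ _ h0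
      rw [T_rfl_inv] at h00
      exact h00
    symm
    change ((pushforward ξ).map ((Scheme.Modules.pullbackComp f g).hom.app L)).app ((φ ≫ ψ) ⁻¹ᵁ V₀)
      ((CohBC.bc0 η φ ξ f h₁ ((Scheme.Modules.pullback g).obj L)).app ((φ ≫ ψ) ⁻¹ᵁ V₀)
        (((Scheme.Modules.pullback φ).map (CohBC.bc0 ζ ψ η g h₂ L)).app ((φ ≫ ψ) ⁻¹ᵁ V₀)
          (((Scheme.Modules.pullbackComp φ ψ).inv.app ((pushforward ζ).obj L)).app ((φ ≫ ψ) ⁻¹ᵁ V₀)
            (unitSec (φ ≫ ψ) ((pushforward ζ).obj L) le_rfl n)))) = _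
    rw [hT, map_unitSec]
    have h2' := bc0_unitSec ζ ψ η g h₂ L (le_refl (ψ ⁻¹ᵁ V₀)) n
    rw [h2']
    have h1' := bc0_unitSec η φ ξ f h₁ ((Scheme.Modules.pullback g).obj L)
      (preimage_le (rfl : φ ≫ ψ = φ ≫ ψ) V₀)
      (unitSec g L (Groth.Agent.Lib.R2H2.BcGen.preimage_le' (w := h₂) (le_refl (ψ ⁻¹ᵁ V₀))) n)
    refine (congrArg (fun t => ((pushforward ξ).map
      ((Scheme.Modules.pullbackComp f g).hom.app L)).app ((φ ≫ ψ) ⁻¹ᵁ V₀) t) h1').trans ?_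
    have h3 := T_hom_unitSec' (rfl : f ≫ g = f ≫ g) L
      (Groth.Agent.Lib.R2H2.BcGen.preimage_le' (w := h₂) (le_refl (ψ ⁻¹ᵁ V₀)))
      (Groth.Agent.Lib.R2H2.BcGen.preimage_le' (w := h₁) (preimage_le (rfl : φ ≫ ψ = φ ≫ ψ) V₀))
      (Groth.Agent.Lib.R2H2.BcGen.preimage_le' (w := hw) (le_refl ((φ ≫ ψ) ⁻¹ᵁ V₀))) n
    rw [T_rfl_hom] at h3
    exact h3
  rw [key, ← Category.assoc]
  have h4 : (Scheme.Modules.pullbackComp φ ψ).hom.app ((pushforward ζ).obj L) ≫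
      (Scheme.Modules.pullbackComp φ ψ).inv.app ((pushforward ζ).obj L) = 𝟙 _ := by
    rw [← NatTrans.comp_app, Iso.hom_inv_id]
    rfl
  rw [h4, Category.id_comp]

end Bc0Comp

end Groth.Agent.Lib.R2H2.PullCompSec
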