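import Mathlib
import Groth.Prelude
import Groth.Agent.Lib.R2H2PullCompSec
import Groth.Agent.Lib.R2H2SubFam
import Groth.Agent.S16954
set_option backward.isDefEq.respectTransparency.types false
set_option autoImplicit false
set_option linter.unusedSectionVars false
set_option linter.style.haveILetI false
universe u
open CategoryTheory AlgebraicGeometry TopologicalSpace Opposite Abelian
open AlgebraicGeometry.Scheme.Modules CohCmp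

noncomputable section

namespace Groth.Agent.Lib.R2H2.PullOnComp

open Groth.Agent.Lib.R2H2.BcSect Groth.Agent.Lib.R2H2.PullRes
  Groth.Agent.Helper13PullbackUnit Groth.Agent.Lib.R2H3.PullUnit Groth.Agent.Lib.R2H2.PullOnUnit
  Groth.Agent.Lib.R2H2.ResSect Groth.Agent.Lib.R2H2.Bc0 Groth.Agent.Lib.R2H2.PullCompSec
  Groth.Agent.Lib.R2H2.PullCalc Groth.Agent.Lib.R2H2.PullComp Groth.Agent.Lib.R2H2.ResDelta

section MapΘ

variable {X Y : TopCat.{u}} (a : X ⟶ Y) {A : CohTop.Ab Y} {A' A'' : CohTop.Ab X}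
  (t : (CohPull.inv a).obj A ⟶ A') (ψ : A' ⟶ A'')

lemma map_pullΘ (p : ℕ) (y : Sheaf.H A p) :
    Sheaf.H.map ψ p (pullΘ a t p y) = pullΘ a (t ≫ ψ) p y := by
  change Sheaf.H.map ψ p (Sheaf.H.map t p (CohPull.pullAb a A p y)) =
    Sheaf.H.map (t ≫ ψ) p (CohPull.pullAb a A p y)
  rw [Sheaf.H.map_apply, Sheaf.H.map_apply, Sheaf.H.map_apply, Ext.comp_assoc_of_third_deg_zero,
    Ext.mk₀_comp_mk₀]

end MapΘ

section PullOnComp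

variable {X Y Z : Scheme.{u}} (f : X ⟶ Y) (g : Y ⟶ Z) (UZ : Z.Opens) (UY : Y.Opens) (UX : X.Opens)
  (h₂ : UY ≤ g ⁻¹ᵁ UZ) (h₁ : UX ≤ f ⁻¹ᵁ UY) (h₃ : UX ≤ (f ≫ g) ⁻¹ᵁ UZ) (L : Z.Modules)

/-- **the pullback maps on cohomology over opens compose** -/
theorem pullOn_comp (p : ℕ) (x : Coh.HHon Z L UZ p) :
    CohPull.mapH ((restrictFunctor UX.ι).map ((Scheme.Modules.pullbackComp f g).hom.app L)) p
      (CohPull.pullOn f UY UX h₁ ((Scheme.Modules.pullback g).obj L) p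
        (CohPull.pullOn g UZ UY h₂ L p x)) =
    CohPull.pullOn (f ≫ g) UZ UX h₃ L p x := by
  rw [pullOn_eq_pullΘ, pullOn_eq_pullΘ, pullOn_eq_pullΘ]
  change Sheaf.H.map ((toAbOn X UX).map ((Scheme.Modules.pullbackComp f g).hom.app L)) p _ = _
  rw [map_pullΘ]
  have e : (f.resLE UY UX h₁).base ≫ (g.resLE UZ UY h₂).base = ((f ≫ g).resLE UZ UX h₃).base :=
    congrArg (fun φ : (UX : Scheme.{u}) ⟶ (UZ : Scheme.{u}) => φ.base)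
      (Scheme.Hom.resLE_comp_resLE f h₁ g h₂)
  refine pullΘ_comp_of_sections _ _ _ e _ _ _ ?_ p x
  intro V n
  have s1 := homEquiv_sigma_app g UZ UY h₂ L V n
  have s3 := homEquiv_sigma_app (f ≫ g) UZ UX h₃ L V n
  refine s3.trans (Eq.symm ?_)
  erw [s1]
  rw [Adjunction.homEquiv_naturality_right]
  have hh : ((f ≫ g).resLE UZ UX h₃) ⁻¹ᵁ V ≤
      (f.resLE UY UX h₁) ⁻¹ᵁ ((g.resLE UZ UY h₂) ⁻¹ᵁ V) :=
    map_le (f.resLE UY UX h₁).base (g.resLE UZ UY h₂).base ((f ≫ g).resLE UZ UX h₃).base e V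
  have s2 := homEquiv_sigma_app f UY UX h₁ ((Scheme.Modules.pullback g).obj L)
    ((g.resLE UZ UY h₂) ⁻¹ᵁ V)
    (unitSec g L (image_preimage_resLE_le g UZ UY h₂ V) (show Γ(L, UZ.ι ''ᵁ V) from n))
  change ((Scheme.Modules.pullback (f ≫ g)).obj L).presheaf.map (homOfLE (UX.ι.image_mono hh)).op
    (((Scheme.Modules.pullbackComp f g).hom.app L).app
      (UX.ι ''ᵁ ((f.resLE UY UX h₁) ⁻¹ᵁ ((g.resLE UZ UY h₂) ⁻¹ᵁ V)))
      ((((CohPull.invPushAdj (f.resLE UY UX h₁).base).homEquiv _ _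
        (sigma f UY UX h₁ ((Scheme.Modules.pullback g).obj L))).hom.app
          (op ((g.resLE UZ UY h₂) ⁻¹ᵁ V)))
        (unitSec g L (image_preimage_resLE_le g UZ UY h₂ V) (show Γ(L, UZ.ι ''ᵁ V) from n)))) = _
  erw [s2]
  have hC : UX.ι ''ᵁ ((f.resLE UY UX h₁) ⁻¹ᵁ ((g.resLE UZ UY h₂) ⁻¹ᵁ V)) ≤
      (f ≫ g) ⁻¹ᵁ (UZ.ι ''ᵁ V) :=
    (image_preimage_resLE_le f UY UX h₁ _).trans
      (f.preimage_mono (image_preimage_resLE_le g UZ UY h₂ V))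
  have h3 := T_hom_unitSec' (rfl : f ≫ g = f ≫ g) L (image_preimage_resLE_le g UZ UY h₂ V)
    (image_preimage_resLE_le f UY UX h₁ ((g.resLE UZ UY h₂) ⁻¹ᵁ V)) hC
    (show Γ(L, UZ.ι ''ᵁ V) from n)
  rw [T_rfl_hom] at h3
  erw [h3]
  exact unitSec_res (f ≫ g) L hC (UX.ι.image_mono hh) _

end PullOnComp

section GenBCComp

variable {X Y Z U V W : Scheme.{u}} (f : X ⟶ Y) (g : Y ⟶ Z) (ξ : X ⟶ U) (η : Y ⟶ V) (ζ : Z ⟶ W)
  (φ : U ⟶ V) (ψ : V ⟶ W) (h₁ : f ≫ η = ξ ≫ φ) (h₂ : g ≫ ζ = η ≫ ψ)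
  (hw : (f ≫ g) ≫ ζ = ξ ≫ (φ ≫ ψ))
  [HasInjectiveResolutions X.Modules] [HasInjectiveResolutions Y.Modules]
  [HasInjectiveResolutions Z.Modules]
  (L : Z.Modules) (p : ℕ)
  {Δζ : RDer.DerivedLES (pushforward ζ)} {Δη : RDer.DerivedLES (pushforward η)}
  {Δξ : RDer.DerivedLES (pushforward ξ)}
  {Eζ : CohCmp.SectCmp ζ Δζ} {Eη : CohCmp.SectCmp η Δη} {Eξ : CohCmp.SectCmp ξ Δξ}
  (B₂ : CohCmp.GenBC ζ ψ η g h₂ Eζ Eη) (B₁ : CohCmp.GenBC η φ ξ f h₁ Eη Eξ)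
  (B : CohCmp.GenBC ζ (φ ≫ ψ) ξ (f ≫ g) hw Eζ Eξ)

/-- both sides of the composition formula, on the pullback of a class -/
theorem comp_on_eps (V' : W.Opens) (x : Coh.HHon Z L (ζ ⁻¹ᵁ V') p) :
    (B.bc p L).app ((φ ≫ ψ) ⁻¹ᵁ V')
        (unitSec (φ ≫ ψ) ((Coh.Rpush ζ p).obj L) le_rfl (Eζ.ε V' L p x)) =
      ((Scheme.Modules.pullbackComp φ ψ).inv.app ((Coh.Rpush ζ p).obj L) ≫
        (Scheme.Modules.pullback φ).map (B₂.bc p L) ≫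
        B₁.bc p ((Scheme.Modules.pullback g).obj L) ≫
        (Coh.Rpush ξ p).map ((Scheme.Modules.pullbackComp f g).hom.app L)).app ((φ ≫ ψ) ⁻¹ᵁ V')
        (unitSec (φ ≫ ψ) ((Coh.Rpush ζ p).obj L) le_rfl (Eζ.ε V' L p x)) := by
  have hL : (B.bc p L).app ((φ ≫ ψ) ⁻¹ᵁ V')
      (unitSec (φ ≫ ψ) ((Coh.Rpush ζ p).obj L) le_rfl (Eζ.ε V' L p x)) =
      Eξ.ε ((φ ≫ ψ) ⁻¹ᵁ V') ((Scheme.Modules.pullback (f ≫ g)).obj L) p
        (CohPull.pullOn (f ≫ g) (ζ ⁻¹ᵁ V') (ξ ⁻¹ᵁ ((φ ≫ ψ) ⁻¹ᵁ V'))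
          (sqLE ζ (φ ≫ ψ) ξ (f ≫ g) hw V') L p x) :=
    (homEquiv_symm_app (φ ≫ ψ) (B.φ p L) V' (Eζ.ε V' L p x)).trans (B.compat V' L p x)
  refine hL.trans ?_
  have hT : ((Scheme.Modules.pullbackComp φ ψ).inv.app ((Coh.Rpush ζ p).obj L)).app
        ((φ ≫ ψ) ⁻¹ᵁ V') (unitSec (φ ≫ ψ) ((Coh.Rpush ζ p).obj L) le_rfl (Eζ.ε V' L p x)) =
      unitSec φ ((Scheme.Modules.pullback ψ).obj ((Coh.Rpush ζ p).obj L))
        (preimage_le (rfl : φ ≫ ψ = φ ≫ ψ) V')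
        (unitSec ψ ((Coh.Rpush ζ p).obj L) le_rfl (Eζ.ε V' L p x)) := by
    have h0 := T_hom_unitSec (rfl : φ ≫ ψ = φ ≫ ψ) ((Coh.Rpush ζ p).obj L) V' (Eζ.ε V' L p x)
    have h00 := inv_app_eq_of_hom_app_eq (T (rfl : φ ≫ ψ = φ ≫ ψ) ((Coh.Rpush ζ p).obj L)) _ _ _ h0
    rw [T_rfl_inv] at h00
    exact h00
  symm
  change ((Coh.Rpush ξ p).map ((Scheme.Modules.pullbackComp f g).hom.app L)).app ((φ ≫ ψ) ⁻¹ᵁ V')
    ((B₁.bc p ((Scheme.Modules.pullback g).obj L)).app ((φ ≫ ψ) ⁻¹ᵁ V')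
      (((Scheme.Modules.pullback φ).map (B₂.bc p L)).app ((φ ≫ ψ) ⁻¹ᵁ V')
        (((Scheme.Modules.pullbackComp φ ψ).inv.app ((Coh.Rpush ζ p).obj L)).app ((φ ≫ ψ) ⁻¹ᵁ V')
          (unitSec (φ ≫ ψ) ((Coh.Rpush ζ p).obj L) le_rfl (Eζ.ε V' L p x))))) = _
  rw [hT, map_unitSec]
  have h2' : (B₂.bc p L).app (ψ ⁻¹ᵁ V') (unitSec ψ ((Coh.Rpush ζ p).obj L) le_rfl (Eζ.ε V' L p x)) =
      Eη.ε (ψ ⁻¹ᵁ V') ((Scheme.Modules.pullback g).obj L) p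
        (CohPull.pullOn g (ζ ⁻¹ᵁ V') (η ⁻¹ᵁ (ψ ⁻¹ᵁ V')) (sqLE ζ ψ η g h₂ V') L p x) :=
    (homEquiv_symm_app ψ (B₂.φ p L) V' (Eζ.ε V' L p x)).trans (B₂.compat V' L p x)
  rw [h2']
  have h1' := (tr_unitSec φ (B₁.φ p ((Scheme.Modules.pullback g).obj L))
      (preimage_le (rfl : φ ≫ ψ = φ ≫ ψ) V')
      (Eη.ε (ψ ⁻¹ᵁ V') ((Scheme.Modules.pullback g).obj L) p
        (CohPull.pullOn g (ζ ⁻¹ᵁ V') (η ⁻¹ᵁ (ψ ⁻¹ᵁ V')) (sqLE ζ ψ η g h₂ V') L p x))).trans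
    (Groth.Agent.Lib.R2H2.BcGen.φres_eps B₁ ((Scheme.Modules.pullback g).obj L) p
      (preimage_le (rfl : φ ≫ ψ = φ ≫ ψ) V')
      (CohPull.pullOn g (ζ ⁻¹ᵁ V') (η ⁻¹ᵁ (ψ ⁻¹ᵁ V')) (sqLE ζ ψ η g h₂ V') L p x))
  refine (congrArg (fun t => ((Coh.Rpush ξ p).map
    ((Scheme.Modules.pullbackComp f g).hom.app L)).app ((φ ≫ ψ) ⁻¹ᵁ V') t) h1').trans ?_
  refine (Eξ.natural ((φ ≫ ψ) ⁻¹ᵁ V') ((Scheme.Modules.pullbackComp f g).hom.app L) p _).symm.trans ?_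
  exact congrArg (fun t => Eξ.ε ((φ ≫ ψ) ⁻¹ᵁ V') ((Scheme.Modules.pullback (f ≫ g)).obj L) p t)
    (pullOn_comp f g (ζ ⁻¹ᵁ V') (η ⁻¹ᵁ (ψ ⁻¹ᵁ V')) (ξ ⁻¹ᵁ ((φ ≫ ψ) ⁻¹ᵁ V')) _ _ _ L p x)

/-- morphisms out of a pullback are determined by their values on pulled back sections, locally -/
theorem pullback_hom_ext_local {X Z : Scheme.{u}} (q : X ⟶ Z) {F : Z.Modules} {M : X.Modules}
    (a b : (Scheme.Modules.pullback q).obj F ⟶ M)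
    (h : ∀ (V₀ : Z.Opens) (m : Γ(F, V₀)) (z : Z), z ∈ V₀ →
      ∃ (V' : Z.Opens) (hV' : V' ≤ V₀), z ∈ V' ∧
        a.app (q ⁻¹ᵁ V') (unitSec q F le_rfl (F.presheaf.map (homOfLE hV').op m)) =
          b.app (q ⁻¹ᵁ V') (unitSec q F le_rfl (F.presheaf.map (homOfLE hV').op m))) : a = b := by
  apply pullback_hom_ext
  intro V₀ m
  apply Groth.Agent.Lib.R2H2.SubFam.eq_of_locally_eq
  intro u hu
  obtain ⟨V', hV', hzV', heq⟩ := h V₀ m (q u) hu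
  refine ⟨q ⁻¹ᵁ V', q.preimage_mono hV', hzV', ?_⟩
  have e1 : ((Scheme.Modules.pullback q).obj F).presheaf.map (homOfLE (q.preimage_mono hV')).op
      (unitSec q F le_rfl m) = unitSec q F le_rfl (F.presheaf.map (homOfLE hV').op m) := by
    rw [unitSec_res, unitSec_of_res]
  change M.presheaf.map (homOfLE (q.preimage_mono hV')).op (a.app (q ⁻¹ᵁ V₀) (unitSec q F le_rfl m)) =
    M.presheaf.map (homOfLE (q.preimage_mono hV')).op (b.app (q ⁻¹ᵁ V₀) (unitSec q F le_rfl m))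
  rw [← app_res, ← app_res, e1]
  exact heq

/-- **horizontal composition of the base change maps of higher direct images** -/
theorem genBC_comp_horizontal :
    (Scheme.Modules.pullbackComp φ ψ).hom.app ((Coh.Rpush ζ p).obj L) ≫ B.bc p L =
      (Scheme.Modules.pullback φ).map (B₂.bc p L) ≫
        B₁.bc p ((Scheme.Modules.pullback g).obj L) ≫
        (Coh.Rpush ξ p).map ((Scheme.Modules.pullbackComp f g).hom.app L) := by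
  have key : B.bc p L =
      (Scheme.Modules.pullbackComp φ ψ).inv.app ((Coh.Rpush ζ p).obj L) ≫
        (Scheme.Modules.pullback φ).map (B₂.bc p L) ≫
        B₁.bc p ((Scheme.Modules.pullback g).obj L) ≫
        (Coh.Rpush ξ p).map ((Scheme.Modules.pullbackComp f g).hom.app L) := by
    apply pullback_hom_ext_local
    intro V₀ m z hz
    obtain ⟨V', hV', hzV', x, hx⟩ := Groth.Agent.S16954.result ζ Eζ L p V₀ m z hz
    refine ⟨V', hV', hzV', ?_⟩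
    rw [← hx]
    exact comp_on_eps f g ξ η ζ φ ψ h₁ h₂ hw L p B₂ B₁ B V' x
  rw [key, ← Category.assoc]
  have h4 : (Scheme.Modules.pullbackComp φ ψ).hom.app ((Coh.Rpush ζ p).obj L) ≫
      (Scheme.Modules.pullbackComp φ ψ).inv.app ((Coh.Rpush ζ p).obj L) = 𝟙 _ := by
    rw [← NatTrans.comp_app, Iso.hom_inv_id]
    rfl
  rw [h4, Category.id_comp]

end GenBCComp

end Groth.Agent.Lib.R2H2.PullOnComp
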