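import Groth.Agent.Lib.R2H2PushClK
import Groth.Agent.Lib.R2H2PullLF
import Groth.Agent.Lib.R2H2FLFKernel
import Groth.Agent.Lib.Helper23QCohAbelian
import Groth.Agent.Lib.Helper20OmegaUnr
import Groth.Agent.Lib.Helper26ModLocFree
set_option backward.isDefEq.respectTransparency.types false

/-!
# `g^K ∘ f_K = 0` when the image of `g` misses the image of the closed immersion `f`
(helper2, round 2)

* `isFinLocFree_X₁`, `ResChain.vb_w` : syzygies of vector bundles are vector bundles.
* `isZero_restrict_push` : `(f_* G)|_U = 0` for `U` disjoint from the image of `f`.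
* `alt_sum_pullback_eq_zero` : the alternating sum of the pullbacks of the terms of a resolution of
  a module vanishing on an open `U`, along a morphism landing in `U`, vanishes in `K⁰`.
* `pull_pushCl_eq_zero` (S3750).
-/

set_option autoImplicit false
universe v w u

open CategoryTheory CategoryTheory.Limits AlgebraicGeometry TopologicalSpace Opposite KZero
open Groth.Agent.Lib.R2H2.PdSheaf Groth.Agent.Lib.R2H2.PushClRes Groth.Agent.Lib.R2H2.K0Gen
open Groth.Agent.Lib.R2H2.PushClK

namespace Groth.Agent.Lib.R2H2.PushClDisj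

section Vb

variable {X : Scheme.{u}}

theorem isFinLocFree_X₁ (S : ShortComplex X.Modules) (hS : S.ShortExact)
    (h₂ : FlatMod.IsFinLocFree S.X₂) (h₃ : FlatMod.IsFinLocFree S.X₃) :
    FlatMod.IsFinLocFree S.X₁ := by
  haveI := hS.mono_f
  haveI := hS.epi_g
  have h1 := hS.exact.fIsKernel
  have h2 := kernelIsKernel S.g
  have e' := h1.conePointUniqueUpToIso h2
  have e : S.X₁ ≅ kernel S.g := e'
  exact Groth.Agent.Lib.Helper26.ModLocFree.isFinLocFree_of_iso e.symm
    (Groth.Agent.Lib.R2H2.FLFKernel.isFinLocFree_kernel_of_epi S.g h₂ h₃)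

theorem vb_w {M : X.Modules} (R : ResChain M) (hM : FlatMod.IsFinLocFree M)
    (hc : ∀ k, FlatMod.IsFinLocFree (R.c k)) : ∀ k, FlatMod.IsFinLocFree (R.w k) := by
  intro k
  induction k with
  | zero => exact isFinLocFree_X₁ _ R.se0 (hc 0) hM
  | succ k ih => exact isFinLocFree_X₁ _ (R.se k) (hc (k + 1)) ih

end Vb

section Restrict

variable {P M : Scheme.{u}} (F : P ⟶ M)

theorem isZero_restrict_push (G : P.Modules) (U : M.Opens)
    (hU : Disjoint (U : Set M) (Set.range F)) :
    IsZero ((Scheme.Modules.restrictFunctor U.ι).obj ((Scheme.Modules.pushforward F).obj G)) := by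
  apply Groth.Agent.Lib.Helper20.OmegaUnr.isZero_of_basis _ Set.univ
  · exact TopologicalSpace.Opens.isBasis_iff_nbhd.2 (fun {W x} hx => ⟨W, trivial, hx, le_rfl⟩)
  · intro W _
    change Subsingleton Γ(G, F ⁻¹ᵁ (U.ι ''ᵁ W))
    have h0 : F ⁻¹ᵁ (U.ι ''ᵁ W) = ⊥ := by
      ext x
      constructor
      · rintro ⟨y, -, hy⟩
        have h1 : U.ι y ∈ Set.range U.ι := ⟨y, rfl⟩
        rw [Scheme.Opens.range_ι] at h1
        have h3 : U.ι y = F x := hy
        rw [h3] at h1
        exact absurd ⟨x, rfl⟩ (Set.disjoint_left.1 hU h1)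
      · intro hx
        exact absurd hx (by simp)
    rw [h0]
    exact Module.subsingleton Γ(P, ⊥) _

theorem shortExact_map_restrict (U : M.Opens) (S : ShortComplex M.Modules) (hS : S.ShortExact) :
    (S.map (Scheme.Modules.restrictFunctor U.ι)).ShortExact := by
  haveI := Groth.Agent.Lib.Helper23.QCohLocal.restrictFunctor_isRightAdjoint U.ι
  haveI : PreservesFiniteLimits (Scheme.Modules.restrictFunctor U.ι) := inferInstance
  haveI : PreservesFiniteColimits (Scheme.Modules.restrictFunctor U.ι) := inferInstance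
  exact hS.map_of_exact _

end Restrict

section Key

variable {M Z : Scheme.{u}} (h : Z ⟶ M)

theorem alt_sum_pullback_eq_zero (U : M.Opens) (hU : Set.range h ⊆ (U : Set M))
    (A : M.Modules) (hA : IsZero ((Scheme.Modules.restrictFunctor U.ι).obj A)) (n : ℕ)
    (L : ChainComplex M.Modules ℕ) (π : L ⟶ (ChainComplex.single₀ M.Modules).obj A)
    (hL : KRR.IsLFRes A n L π) :
    ∑ k ∈ Finset.range (n + 1),
      (-1 : ℤ) ^ k • KRR.cl Z ((Scheme.Modules.pullback h).obj (L.X k)) = 0 := by
  haveI := hL.quasiIso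
  -- the chain on `U`
  let R := (chainOfRes L π).map (Scheme.Modules.restrictFunctor U.ι)
    (fun S hS => shortExact_map_restrict U S hS)
  have hvb : ∀ E : M.Modules, FlatMod.IsFinLocFree E →
      FlatMod.IsFinLocFree ((Scheme.Modules.restrictFunctor U.ι).obj E) := fun E hE =>
    Groth.Agent.Lib.Helper26.ModLocFree.isFinLocFree_of_iso
      ((Scheme.Modules.restrictFunctorIsoPullback U.ι).app E).symm
      (Groth.Agent.Lib.R2H2.PullLF.isFinLocFree_pullback U.ι E hE)
  have hc : ∀ k, KRR.vbP (↑U) (R.c k) := fun k => hvb _ (hL.finLocFree k)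
  have hM : KRR.vbP (↑U) ((Scheme.Modules.restrictFunctor U.ι).obj A) :=
    isFinLocFree_of_isZero _ hA
  have hw : ∀ k, KRR.vbP (↑U) (R.w k) := vb_w R hM hc
  have hz : IsZero (R.c (n + 1)) :=
    (Scheme.Modules.restrictFunctor U.ι).map_isZero (hL.isZero (n + 1) (by omega))
  have e1 := R.euler (KRR.vbP (↑U)) n hM hc hw hz
  rw [clSub_of_isZero (KRR.vbP (↑U)) hA hM] at e1
  -- factor `h` through `U`
  have hr : Set.range h ⊆ Set.range U.ι := by
    rw [Scheme.Opens.range_ι]
    exact hU
  let h' : Z ⟶ ↑U := IsOpenImmersion.lift U.ι h hr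
  have hfac : h' ≫ U.ι = h := IsOpenImmersion.lift_fac U.ι h hr
  have e2 := congrArg (Groth.Agent.Lib.R2H2.PullLF.pullK h') e1
  rw [map_zero, map_sum] at e2
  rw [e2]
  refine Finset.sum_congr rfl (fun k _ => ?_)
  rw [map_zsmul]
  congr 1
  have hk : FlatMod.IsFinLocFree ((Scheme.Modules.restrictFunctor U.ι).obj (L.X k)) := hc k
  have e3 : Groth.Agent.Lib.R2H2.PullLF.pullK h' (clSub (KRR.vbP (↑U)) (R.c k)) =
      KRR.cl Z ((Scheme.Modules.pullback h').obj
        ((Scheme.Modules.restrictFunctor U.ι).obj (L.X k))) :=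
    Groth.Agent.Lib.R2H2.PullLF.pullK_cl h' _ hk
  rw [e3]
  let e : (Scheme.Modules.pullback h').obj ((Scheme.Modules.restrictFunctor U.ι).obj (L.X k)) ≅
      (Scheme.Modules.pullback h).obj (L.X k) :=
    (Scheme.Modules.pullback h').mapIso
        ((Scheme.Modules.restrictFunctorIsoPullback U.ι).app (L.X k)) ≪≫
      (Scheme.Modules.pullbackComp h' U.ι).app (L.X k) ≪≫
      (Scheme.Modules.pullbackCongr hfac).app (L.X k)
  exact (clSub_of_iso (KRR.vbP Z) (fun W hW => isFinLocFree_of_isZero W hW) e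
    (Groth.Agent.Lib.R2H2.PullLF.isFinLocFree_pullback h' _ hk)
    (Groth.Agent.Lib.R2H2.PullLF.isFinLocFree_pullback h _ (hL.finLocFree k))).symm

end Key

section Main

variable {P M Z : Scheme.{u}} (F : P ⟶ M) (hF : Mor2.IsRegularClosedImmersion F)
  [IsNoetherian M] (hMe : KRR.HasEnoughLocFree M) (h : Z ⟶ M)
  (hdisj : Disjoint (Set.range h) (Set.range F))
  {KP : Type v} {KM : Type v} {KZ : Type v} [CommRing KP] [CommRing KM] [CommRing KZ]
  (φP : SGA6.Kvb P →+ KP) (hφP : Function.Bijective φP) (φM : SGA6.Kvb M →+ KM)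
  (φZ : SGA6.Kvb Z →+ KZ)

include hF hMe hdisj hφP in
/-- **S3750** (general form) -/
theorem pull_pushCl_eq_zero (gh : KM →+ KZ) (hgh : KRR.IsPull h φM φZ gh)
    (gF : KP →+ KM) (hgF : KRR.IsPushCl F φP φM gF) (p : KP) : gh (gF p) = 0 := by
  haveI : IsClosedImmersion F := hF.1
  have key : (gh.comp gF).comp φP = 0 := by
    apply Groth.Agent.Lib.R2H2.K0Chain.hom_ext
    intro G hG
    obtain ⟨-, n, L, π, hL⟩ := hasLFRes_push F hF hMe G hG
    rw [AddMonoidHom.comp_apply, AddMonoidHom.comp_apply, hgF G hG n L π hL, map_sum,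
      AddMonoidHom.zero_apply]
    have hopen : IsOpen (Set.range F)ᶜ := F.isClosedEmbedding.isClosed_range.isOpen_compl
    let U : M.Opens := ⟨(Set.range F)ᶜ, hopen⟩
    have hU : Set.range h ⊆ (U : Set M) := fun y hy hy' => Set.disjoint_left.1 hdisj hy hy'
    have hUd : Disjoint (U : Set M) (Set.range F) := disjoint_compl_left
    have e := alt_sum_pullback_eq_zero h U hU _ (isZero_restrict_push F G U hUd) n L π hL
    have e' := congrArg φZ e
    rw [map_zero, map_sum] at e'
    rw [← e']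
    refine Finset.sum_congr rfl (fun k _ => ?_)
    rw [map_zsmul, map_zsmul, hgh (L.X k) (hL.finLocFree k)]
  obtain ⟨u, rfl⟩ := hφP.2 p
  exact DFunLike.congr_fun key u

end Main

end Groth.Agent.Lib.R2H2.PushClDisj
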