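import Groth.Agent.Lib.R2H2PdSheaf
import Groth.Agent.Lib.R2H2K0Gen
set_option backward.isDefEq.respectTransparency.types false

/-!
# Resolutions as chains of short exact sequences, Euler characteristics in `K₀`
(helper2, round 2)

* `ResChain M` : a resolution `… → c 1 → c 0 → M → 0` recorded through its syzygies `w k`.
* `ResChain.map` : image under an exact functor.
* `ResChain.euler` : `[M] = ∑ (-1)^k [c k]` in `K₀(P)` when everything lies in `P`.
* `ResChain.ofRes` : the chain of a quasi-isomorphism `L ⟶ M[0]`.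
* `ResChain.p1` : propagation of "coherent of finite projective dimension".
-/

set_option autoImplicit false
universe v u w

open CategoryTheory CategoryTheory.Limits AlgebraicGeometry KZero
open Groth.Agent.Lib.R2H2.PdSheaf Groth.Agent.Lib.R2H2.K0Gen

namespace Groth.Agent.Lib.R2H2

/-- a resolution of `M` recorded as a chain of short exact sequences. -/
structure ResChain {A : Type u} [Category.{v} A] [Abelian A] (M : A) where
  c : ℕ → A
  w : ℕ → A
  i0 : w 0 ⟶ c 0
  p0 : c 0 ⟶ M
  z0 : i0 ≫ p0 = 0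
  se0 : (ShortComplex.mk i0 p0 z0).ShortExact
  i : ∀ k, w (k + 1) ⟶ c (k + 1)
  p : ∀ k, c (k + 1) ⟶ w k
  z : ∀ k, i k ≫ p k = 0
  se : ∀ k, (ShortComplex.mk (i k) (p k) (z k)).ShortExact

namespace ResChain

section Abel

variable {A : Type u} [Category.{v} A] [Abelian A] {M : A} (R : ResChain M)

/-- image under an exact functor -/
noncomputable def map {B : Type*} [Category B] [Abelian B] (F : A ⥤ B)
    [F.PreservesZeroMorphisms]
    (hF : ∀ S : ShortComplex A, S.ShortExact → (S.map F).ShortExact) : ResChain (F.obj M) where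
  c := fun k => F.obj (R.c k)
  w := fun k => F.obj (R.w k)
  i0 := F.map R.i0
  p0 := F.map R.p0
  z0 := by rw [← F.map_comp, R.z0, F.map_zero]
  se0 := hF _ R.se0
  i := fun k => F.map (R.i k)
  p := fun k => F.map (R.p k)
  z := fun k => by rw [← F.map_comp, R.z k, F.map_zero]
  se := fun k => hF _ (R.se k)

theorem isZero_w (k : ℕ) (h : IsZero (R.c (k + 1))) : IsZero (R.w (k + 1)) := by
  haveI : Mono (R.i k) := (R.se k).mono_f
  exact IsZero.of_mono (R.i k) h

theorem alt_sum_telescope {G : Type*} [AddCommGroup G] (c w : ℕ → G) (m : G)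
    (h0 : c 0 = w 0 + m) (hs : ∀ k, c (k + 1) = w (k + 1) + w k) (N : ℕ) :
    ∑ k ∈ Finset.range (N + 1), (-1 : ℤ) ^ k • c k = m + (-1 : ℤ) ^ N • w N := by
  induction N with
  | zero => simp [h0, add_comm]
  | succ N ih =>
    rw [Finset.sum_range_succ, ih, hs N, pow_succ]
    simp only [smul_add, mul_neg, mul_one, neg_smul]
    abel

/-- **Euler characteristic of a finite resolution** -/
theorem euler (P : ObjectProperty A) (n : ℕ) (hM : P M) (hc : ∀ k, P (R.c k))
    (hw : ∀ k, P (R.w k)) (hz : IsZero (R.c (n + 1))) :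
    clSub P M = ∑ k ∈ Finset.range (n + 1), (-1 : ℤ) ^ k • clSub P (R.c k) := by
  have h0 : clSub P (R.c 0) = clSub P (R.w 0) + clSub P M :=
    clSub_shortExact P _ R.se0 (hw 0) (hc 0) hM
  have hs : ∀ k, clSub P (R.c (k + 1)) = clSub P (R.w (k + 1)) + clSub P (R.w k) := fun k =>
    clSub_shortExact P _ (R.se k) (hw (k + 1)) (hc (k + 1)) (hw k)
  have h1 := alt_sum_telescope (fun k => clSub P (R.c k)) (fun k => clSub P (R.w k))
    (clSub P M) h0 hs (n + 1)
  rw [Finset.sum_range_succ] at h1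
  beta_reduce at h1
  rw [clSub_of_isZero P hz (hc _), clSub_of_isZero P (R.isZero_w n hz) (hw _)] at h1
  simp only [smul_zero, add_zero] at h1
  exact h1.symm

/-- the chain of a resolution given as a quasi-isomorphism of complexes -/
noncomputable def ofRes (L : ChainComplex A ℕ) (e : L.homology 0 ≅ M)
    (hex : ∀ i, L.ExactAt (i + 1)) : ResChain M where
  c := L.X
  w := fun k => Nat.rec (kernel (aug e)) (fun k _ => L.cycles (k + 1)) k
  i0 := kernel.ι (aug e)
  p0 := aug e
  z0 := kernel.condition _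
  se0 := shortExact_aug e
  i := fun k => L.iCycles (k + 1)
  p := fun k => match k with
    | 0 => augLift e
    | k + 1 => L.toCycles (k + 2) (k + 1)
  z := fun k => match k with
    | 0 => iCycles_augLift e
    | k + 1 => iCycles_toCycles L k
  se := fun k => match k with
    | 0 => shortExact_cycles_one e
    | k + 1 => shortExact_cycles L k (hex k)

theorem ofRes_c (L : ChainComplex A ℕ) (e : L.homology 0 ≅ M)
    (hex : ∀ i, L.ExactAt (i + 1)) (k : ℕ) : (ofRes L e hex).c k = L.X k := rfl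

end Abel

section P1

variable {X : Scheme.{u}} [IsLocallyNoetherian X] {s : Finset X.affineOpens} {M : X.Modules}
  (R : ResChain M)

theorem isCoh_w (cM : Coh.IsCoh M) (hc : ∀ k, Coh.IsCoh (R.c k)) : ∀ k, Coh.IsCoh (R.w k) := by
  intro k
  induction k with
  | zero => exact isCoh_X₁ _ R.se0 (hc 0) cM
  | succ k ih => exact isCoh_X₁ _ (R.se k) (hc (k + 1)) ih

/-- propagation of finite projective dimension along a finite resolution -/
theorem p1 (n : ℕ) (cM : Coh.IsCoh M) (hc : ∀ k, P1 s (R.c k))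
    (hz : ∀ k, n < k → IsZero (R.c k)) : P1 s M ∧ ∀ k, P1 s (R.w k) := by
  have cc : ∀ k, Coh.IsCoh (R.c k) := fun k => (hc k).1
  have cw : ∀ k, Coh.IsCoh (R.w k) := R.isCoh_w cM cc
  haveI qc : ∀ k, (R.c k).IsQuasicoherent := fun k => (cc k).1
  haveI qw : ∀ k, (R.w k).IsQuasicoherent := fun k => (cw k).1
  haveI qM : M.IsQuasicoherent := cM.1
  -- a common bound
  choose d hd using (fun k => (hc k).2)
  obtain ⟨D, hDd⟩ : ∃ D : ℕ, ∀ k, k ≤ n → d k ≤ D :=
    ⟨(Finset.range (n + 1)).sup d, fun k hk =>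
      Finset.le_sup (f := d) (Finset.mem_range.2 (by omega))⟩
  have hD : ∀ k, PdLT s (R.c k) D := by
    intro k
    by_cases hk : k ≤ n
    · exact (hd k).mono (hDd k hk)
    · exact (pdLT_zero_of_isZero (hz k (by omega))).mono (Nat.zero_le _)
  have key : ∀ j k, k + j = n + 1 → PdLT s (R.w k) (D + j) := by
    intro j
    induction j with
    | zero =>
      intro k hk
      obtain rfl : k = n + 1 := by omega
      exact (pdLT_zero_of_isZero (R.isZero_w n (hz _ (by omega)))).mono (Nat.zero_le _)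
    | succ j ih =>
      intro k hk
      have h1 := ih (k + 1) (by omega)
      have h2 : PdLT s (R.c (k + 1)) (D + j + 1) := (hD (k + 1)).mono (by omega)
      exact PdLT.X₃ (n := D + j) (ShortComplex.mk (R.i k) (R.p k) (R.z k)) (R.se k) h1 h2
  have pw0 : PdLT s (R.w 0) (D + (n + 1)) := key (n + 1) 0 (by omega)
  have h2 : PdLT s (R.c 0) (D + (n + 1) + 1) := (hD 0).mono (by omega)
  have pM : PdLT s M (D + (n + 1) + 1) :=
    PdLT.X₃ (n := D + (n + 1)) (ShortComplex.mk R.i0 R.p0 R.z0) R.se0 pw0 h2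
  refine ⟨⟨cM, _, pM⟩, fun k => ⟨cw k, ?_⟩⟩
  by_cases hk : k ≤ n + 1
  · exact ⟨_, key (n + 1 - k) k (by omega)⟩
  · obtain ⟨k, rfl⟩ : ∃ i, k = i + 1 := ⟨k - 1, by omega⟩
    exact ⟨0, pdLT_zero_of_isZero (R.isZero_w k (hz _ (by omega)))⟩

end P1

end ResChain

end Groth.Agent.Lib.R2H2
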