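import Groth.Agent.Lib.R2H2PushClRes
import Groth.Agent.Lib.R2H2ResChain
import Groth.Agent.Lib.R2H2K0Chain
set_option backward.isDefEq.respectTransparency.types false

/-!
# The push-forward `f_K : K(X) → K(Y)` of a regular closed immersion (helper2, round 2)

* `delta s : K⁰(Y) → K₀(P1 s)`, bijective (`delta_bijective`).
* `clSub_eq_alt_sum` : `[M] = ∑ (-1)^k [L_k]` in `K₀(P1 s)` for a finite locally free resolution.
* `pushCl_apply` : the value of any map satisfying `KRR.IsPushCl` on `[G]`.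
* `pushK`, `existsUnique_isPushCl` (S3799), `pushCl_comp` (S3748).
-/

set_option autoImplicit false
universe v w u

open CategoryTheory CategoryTheory.Limits AlgebraicGeometry TopologicalSpace Opposite KZero
open Groth.Agent.Lib.R2H2.PdSheaf Groth.Agent.Lib.R2H2.PushClRes Groth.Agent.Lib.R2H2.K0Gen

namespace Groth.Agent.Lib.R2H2.PushClK

section Delta

variable {Y : Scheme.{u}} [IsNoetherian Y] (s : Finset Y.affineOpens)

theorem vb_P1 (M : Y.Modules) (hM : FlatMod.IsFinLocFree M) : P1 s M :=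
  vb_le_P1 (fun M hM => isCoh_of_isFinLocFree M hM) M hM

/-- `K⁰(Y) → K₀(coherent of finite pd)` -/
noncomputable def delta : SGA6.Kvb Y →+ K0sub (P1 s) :=
  SGA6.mapSub (𝟭 Y.Modules) (KRR.vbP Y) (P1 s) (vb_P1 s)

variable {s}

theorem delta_bijective (hs : IsOpenCover (fun k : s => (k.1 : Y.Opens)))
    (hYe : KRR.HasEnoughLocFree Y) : Function.Bijective (delta s) :=
  bijective_mapSub_P1 hs hYe (fun M hM => isCoh_of_isFinLocFree M hM)

theorem delta_cl (M : Y.Modules) (hM : FlatMod.IsFinLocFree M) :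
    delta s (KRR.cl Y M) = clSub (P1 s) M :=
  Groth.Agent.Lib.R2H2.K0Chain.mapSub_clSub (vb_P1 s) hM

theorem p1_of_iso {M N : Y.Modules} (e : M ≅ N) (hM : P1 s M) : P1 s N := by
  obtain ⟨c, n, hn⟩ := hM
  exact ⟨isCoh_of_iso e c, n, hn.of_iso e⟩

theorem p1_of_isZero (Z : Y.Modules) (hZ : IsZero Z) : P1 s Z :=
  vb_P1 s Z (isFinLocFree_of_isZero Z hZ)

/-- the chain of short exact sequences of a resolution -/
noncomputable def chainOfRes {F : Y.Modules} (L : ChainComplex Y.Modules ℕ)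
    (π : L ⟶ (ChainComplex.single₀ Y.Modules).obj F) [QuasiIso π] : ResChain F :=
  ResChain.ofRes L (asIso (HomologicalComplex.homologyMap π 0) ≪≫
      HomologicalComplex.singleObjHomologySelfIso (ComplexShape.down ℕ) 0 F)
    (fun i => (quasiIsoAt_iff_exactAt' π (i + 1)
      (ChainComplex.exactAt_succ_single_obj F i)).1 inferInstance)

/-- **Euler characteristic of a finite locally free resolution in `K₀(P1 s)`** -/
theorem clSub_eq_alt_sum (M : Y.Modules) (cM : Coh.IsCoh M) (n : ℕ)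
    (L : ChainComplex Y.Modules ℕ) (π : L ⟶ (ChainComplex.single₀ Y.Modules).obj M)
    (h : KRR.IsLFRes M n L π) :
    clSub (P1 s) M =
      ∑ k ∈ Finset.range (n + 1), (-1 : ℤ) ^ k • clSub (P1 s) (L.X k) := by
  haveI := h.quasiIso
  have hc : ∀ k, P1 s ((chainOfRes L π).c k) := fun k => vb_P1 s _ (h.finLocFree k)
  obtain ⟨hM, hw⟩ := (chainOfRes L π).p1 n cM hc h.isZero
  exact (chainOfRes L π).euler (P1 s) n hM hc hw (h.isZero (n + 1) (by omega))

end Delta

section Apply

variable {X Y : Scheme.{u}} (i : X ⟶ Y) [IsNoetherian Y] (hYe : KRR.HasEnoughLocFree Y)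
  {s : Finset Y.affineOpens} (hs : IsOpenCover (fun k : s => (k.1 : Y.Opens)))
  {KX : Type v} {KY : Type w} [CommRing KX] [CommRing KY]
  (φX : SGA6.Kvb X →+ KX) (φY : SGA6.Kvb Y →+ KY)

include hYe hs in
/-- the value of a push-forward on the class of a bundle whose direct image is resolvable -/
theorem pushCl_apply (h : KX →+ KY) (hh : KRR.IsPushCl i φX φY h) (G : X.Modules)
    (hG : FlatMod.IsFinLocFree G) (hP : P1 s ((Scheme.Modules.pushforward i).obj G))
    (u : SGA6.Kvb Y) (hu : delta s u = clSub (P1 s) ((Scheme.Modules.pushforward i).obj G)) :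
    h (φX (KRR.cl X G)) = φY u := by
  obtain ⟨cP, m, hm⟩ := hP
  obtain ⟨n, L, π, hL⟩ := Groth.Agent.Lib.R2H2.PdRes.hasLFRes_of_pdLT hYe
    (fun M hM => isCoh_of_isFinLocFree M hM) hs _ cP m hm
  rw [hh G hG n L π hL]
  have e := clSub_eq_alt_sum (s := s) _ cP n L π hL
  have hu' : u = ∑ k ∈ Finset.range (n + 1), (-1 : ℤ) ^ k • KRR.cl Y (L.X k) := by
    apply (delta_bijective hs hYe).1
    rw [hu, e, map_sum]
    refine Finset.sum_congr rfl (fun k _ => ?_)
    rw [map_zsmul, delta_cl _ (hL.finLocFree k)]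
  rw [hu', map_sum]
  refine Finset.sum_congr rfl (fun k _ => ?_)
  rw [map_zsmul]

end Apply

section Push

variable {X Y : Scheme.{u}} (f : X ⟶ Y) (hf : Mor2.IsRegularClosedImmersion f)
  [IsNoetherian Y] (hYe : KRR.HasEnoughLocFree Y) (s : Finset Y.affineOpens)

include hf hYe in
theorem p1_push (F : X.Modules) (hF : FlatMod.IsFinLocFree F) :
    P1 s ((Scheme.Modules.pushforward f).obj F) := by
  obtain ⟨hc, n, L, π, hL⟩ := hasLFRes_push f hf hYe F hF
  exact ⟨hc, n + 2, Groth.Agent.Lib.R2H2.PdRes.pdLT_of_isLFRes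
    (fun M hM => isCoh_of_isFinLocFree M hM) _ hc n L π hL⟩

/-- `K⁰(X) → K₀(P1 s)`, `[F] ↦ [f_*F]` -/
noncomputable def pushK : SGA6.Kvb X →+ K0sub (P1 s) :=
  liftAdd (KRR.vbP X) (fun F => clSub (P1 s) ((Scheme.Modules.pushforward f).obj F)) (by
    intro S hS h1 h2 h3
    haveI : IsClosedImmersion f := hf.1
    exact clSub_shortExact (P1 s) (S.map (Scheme.Modules.pushforward f))
      (Groth.Agent.Lib.R2H2.ClosedPnLin.shortExact_map_push f f.isClosedEmbedding S hS)
      (p1_push f hf hYe s _ h1) (p1_push f hf hYe s _ h2) (p1_push f hf hYe s _ h3))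

theorem pushK_cl (F : X.Modules) (hF : FlatMod.IsFinLocFree F) :
    pushK f hf hYe s (KRR.cl X F) = clSub (P1 s) ((Scheme.Modules.pushforward f).obj F) :=
  liftAdd_clSub (KRR.vbP X) _ _ hF

variable {KX : Type v} {KY : Type w} [CommRing KX] [CommRing KY]
  (φX : SGA6.Kvb X →+ KX) (hφX : Function.Bijective φX) (φY : SGA6.Kvb Y →+ KY)

include hf hYe hφX in
/-- **S3799**: existence and uniqueness of the push-forward of a regular closed immersion -/
theorem existsUnique_isPushCl : ∃! h : KX →+ KY, KRR.IsPushCl f φX φY h := by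
  obtain ⟨s, hs⟩ := Groth.Agent.Lib.Helper26.ModLim.exists_finite_affine_cover Y
  let δe := AddEquiv.ofBijective (delta s) (delta_bijective hs hYe)
  let φXe := AddEquiv.ofBijective φX hφX
  let h : KX →+ KY := φY.comp (δe.symm.toAddMonoidHom.comp
    ((pushK f hf hYe s).comp φXe.symm.toAddMonoidHom))
  have hh : KRR.IsPushCl f φX φY h := by
    intro F hF n L π hL
    have e1 : φXe.symm (φX (KRR.cl X F)) = KRR.cl X F := φXe.symm_apply_apply _
    have cP := (hasLFRes_push f hf hYe F hF).1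
    have e2 := clSub_eq_alt_sum (s := s) _ cP n L π hL
    have e3 : δe.symm (clSub (P1 s) ((Scheme.Modules.pushforward f).obj F)) =
        ∑ k ∈ Finset.range (n + 1), (-1 : ℤ) ^ k • KRR.cl Y (L.X k) := by
      rw [AddEquiv.symm_apply_eq]
      change _ = delta s _
      rw [e2, map_sum]
      refine Finset.sum_congr rfl (fun k _ => ?_)
      rw [map_zsmul, delta_cl _ (hL.finLocFree k)]
    change φY (δe.symm (pushK f hf hYe s (φXe.symm (φX (KRR.cl X F))))) = _
    rw [e1, pushK_cl f hf hYe s F hF, e3, map_sum]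
    refine Finset.sum_congr rfl (fun k _ => ?_)
    rw [map_zsmul]
  refine ⟨h, hh, fun h' hh' => ?_⟩
  have key : h'.comp φX = h.comp φX := by
    apply Groth.Agent.Lib.R2H2.K0Chain.hom_ext
    intro F hF
    obtain ⟨-, n, L, π, hL⟩ := hasLFRes_push f hf hYe F hF
    rw [AddMonoidHom.comp_apply, AddMonoidHom.comp_apply]
    exact (hh' F hF n L π hL).trans (hh F hF n L π hL).symm
  apply AddMonoidHom.ext
  intro x
  obtain ⟨u, rfl⟩ := hφX.2 x
  exact DFunLike.congr_fun key u

end Push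

section Comp

variable {X Y Z : Scheme.{u}} (f : X ⟶ Y) (g : Y ⟶ Z)
  (hf : Mor2.IsRegularClosedImmersion f) (hg : Mor2.IsRegularClosedImmersion g)
  [IsNoetherian Y] (hYe : KRR.HasEnoughLocFree Y) [IsNoetherian Z] (hZe : KRR.HasEnoughLocFree Z)

omit [AlgebraicGeometry.IsNoetherian Y] in
include hg hZe in
/-- direct images of resolvable modules are resolvable, with the expected class -/
theorem p1_push_of_hasLFRes {sZ : Finset Z.affineOpens} (M : Y.Modules) (cM : Coh.IsCoh M) (n : ℕ)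
    (L : ChainComplex Y.Modules ℕ) (π : L ⟶ (ChainComplex.single₀ Y.Modules).obj M)
    (hL : KRR.IsLFRes M n L π) :
    P1 sZ ((Scheme.Modules.pushforward g).obj M) ∧
      clSub (P1 sZ) ((Scheme.Modules.pushforward g).obj M) =
        ∑ k ∈ Finset.range (n + 1),
          (-1 : ℤ) ^ k • clSub (P1 sZ) ((Scheme.Modules.pushforward g).obj (L.X k)) := by
  haveI := hL.quasiIso
  haveI : IsClosedImmersion g := hg.1
  let R := (chainOfRes L π).map (Scheme.Modules.pushforward g)
    (fun S hS => Groth.Agent.Lib.R2H2.ClosedPnLin.shortExact_map_push g g.isClosedEmbedding S hS)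
  have hc : ∀ k, P1 sZ (R.c k) := fun k => p1_push g hg hZe sZ _ (hL.finLocFree k)
  have hz : ∀ k, n < k → IsZero (R.c k) := fun k hk =>
    (Scheme.Modules.pushforward g).map_isZero (hL.isZero k hk)
  have cP : Coh.IsCoh ((Scheme.Modules.pushforward g).obj M) :=
    Groth.Agent.Lib.R2H2.ClosedPn.isCoh_push g M cM
  obtain ⟨hM, hw⟩ := R.p1 n cP hc hz
  exact ⟨hM, R.euler (P1 sZ) n hM hc hw (hz (n + 1) (by omega))⟩

variable {KX : Type v} {KY : Type v} {KZ : Type v} [CommRing KX] [CommRing KY] [CommRing KZ]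
  (φX : SGA6.Kvb X →+ KX) (hφX : Function.Bijective φX) (φY : SGA6.Kvb Y →+ KY)
  (φZ : SGA6.Kvb Z →+ KZ)

include hf hg hYe hZe hφX in
/-- **S3748**: `(f ≫ g)_K = g_K ∘ f_K` -/
theorem pushCl_comp (a : KX →+ KY) (ha : KRR.IsPushCl f φX φY a) (b : KY →+ KZ)
    (hb : KRR.IsPushCl g φY φZ b) (c : KX →+ KZ) (hc : KRR.IsPushCl (f ≫ g) φX φZ c) :
    c = b.comp a := by
  obtain ⟨sZ, hsZ⟩ := Groth.Agent.Lib.Helper26.ModLim.exists_finite_affine_cover Z
  have key : c.comp φX = (b.comp a).comp φX := by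
    apply Groth.Agent.Lib.R2H2.K0Chain.hom_ext
    intro F hF
    obtain ⟨cM, n, L, π, hL⟩ := hasLFRes_push f hf hYe F hF
    obtain ⟨hP, he⟩ := p1_push_of_hasLFRes g hg hZe (sZ := sZ) _ cM n L π hL
    -- classes of the `g_* L_k`
    have hu : ∀ k, ∃ u : SGA6.Kvb Z,
        delta sZ u = clSub (P1 sZ) ((Scheme.Modules.pushforward g).obj (L.X k)) := fun k =>
      (delta_bijective hsZ hZe).2 _
    choose u hu using hu
    have hbk : ∀ k, b (φY (KRR.cl Y (L.X k))) = φZ (u k) := fun k =>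
      pushCl_apply g hZe hsZ φY φZ b hb (L.X k) (hL.finLocFree k)
        (p1_push g hg hZe sZ _ (hL.finLocFree k)) (u k) (hu k)
    -- the composite
    let e : (Scheme.Modules.pushforward g).obj ((Scheme.Modules.pushforward f).obj F) ≅
        (Scheme.Modules.pushforward (f ≫ g)).obj F :=
      (Scheme.Modules.pushforwardComp f g).app F
    have hP' : P1 sZ ((Scheme.Modules.pushforward (f ≫ g)).obj F) := p1_of_iso e hP
    have hcl : clSub (P1 sZ) ((Scheme.Modules.pushforward (f ≫ g)).obj F) =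
        clSub (P1 sZ) ((Scheme.Modules.pushforward g).obj
          ((Scheme.Modules.pushforward f).obj F)) :=
      (clSub_of_iso (P1 sZ) (p1_of_isZero) e hP hP').symm
    have hc' : c (φX (KRR.cl X F)) =
        φZ (∑ k ∈ Finset.range (n + 1), (-1 : ℤ) ^ k • u k) := by
      apply pushCl_apply (f ≫ g) hZe hsZ φX φZ c hc F hF hP'
      rw [hcl, he, map_sum]
      refine Finset.sum_congr rfl (fun k _ => ?_)
      rw [map_zsmul, hu k]
    rw [AddMonoidHom.comp_apply, AddMonoidHom.comp_apply, AddMonoidHom.comp_apply, hc',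
      ha F hF n L π hL, map_sum, map_sum]
    refine Finset.sum_congr rfl (fun k _ => ?_)
    rw [map_zsmul, map_zsmul, hbk k]
  apply AddMonoidHom.ext
  intro x
  obtain ⟨u, rfl⟩ := hφX.2 x
  exact DFunLike.congr_fun key u

end Comp

end Groth.Agent.Lib.R2H2.PushClK
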