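import Groth.Agent.Lib.R2H2PushClK
import Groth.Agent.Lib.R2H1ProjLF
import Groth.Agent.Lib.Helper1FLF1
import Groth.Agent.Lib.R2H2PullLF
import Groth.Agent.Lib.R2H2K0Gen

/-!
# The projection formula `f_K (x · f^K y) = f_K x · y` for a regular closed immersion (S3747)

* `isLFRes_tensor` : tensoring a finite locally free resolution of `G` with a finite locally free `E`
  gives a finite locally free resolution of (anything isomorphic to) `E ⊗ G`.
* `main3747` : the projection formula on models of the `K`-rings.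
-/

set_option backward.isDefEq.respectTransparency.types false
set_option autoImplicit false

universe v w u

open CategoryTheory CategoryTheory.Limits AlgebraicGeometry

namespace Groth.Agent.Lib.R2H2.PushClMul

section Res

variable {Y : Scheme.{u}} (E : Y.Modules) (hE : FlatMod.IsFinLocFree E)

include hE in
/-- tensoring a resolution with a finite locally free module -/
theorem isLFRes_tensor {G G' : Y.Modules} (e : (DCoh.tensorBi.obj E).obj G ≅ G') (n : ℕ)
    (L : ChainComplex Y.Modules ℕ) (π : L ⟶ (ChainComplex.single₀ Y.Modules).obj G)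
    (h : KRR.IsLFRes G n L π) :
    ∃ π' : ((DCoh.tensorBi.obj E).mapHomologicalComplex (ComplexShape.down ℕ)).obj L ⟶
        (ChainComplex.single₀ Y.Modules).obj G',
      KRR.IsLFRes G' n
        (((DCoh.tensorBi.obj E).mapHomologicalComplex (ComplexShape.down ℕ)).obj L) π' := by
  haveI := Groth.Agent.Lib.R2H1.ProjLF.preservesFiniteLimits_tensorBi_obj E hE
  haveI := Groth.Agent.Lib.R2H1.ProjLF.preservesFiniteColimits_tensorBi_obj E
  haveI : (DCoh.tensorBi.obj E).PreservesHomology := inferInstance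
  haveI := h.quasiIso
  refine ⟨((DCoh.tensorBi.obj E).mapHomologicalComplex (ComplexShape.down ℕ)).map π ≫
    (HomologicalComplex.singleMapHomologicalComplex (DCoh.tensorBi.obj E)
      (ComplexShape.down ℕ) 0).hom.app G ≫ (ChainComplex.single₀ Y.Modules).map e.hom,
    ?_, ?_, ?_⟩
  · intro i
    exact Groth.Agent.Lib.Helper1.FLF.isFinLocFree_tensor _ _ hE (h.finLocFree i)
  · intro i hi
    exact Functor.map_isZero (DCoh.tensorBi.obj E) (h.isZero i hi)
  · infer_instance

end Res

section K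

variable {X Y : Scheme.{u}} (f : X ⟶ Y) (hf : Mor2.IsRegularClosedImmersion f)
  [IsNoetherian Y] (hYe : KRR.HasEnoughLocFree Y)
  {KX : Type v} {KY : Type w} [CommRing KX] [CommRing KY]

include hf hYe in
/-- **S3747**: `f_K (x · f^K y) = f_K x · y` for a regular closed immersion `f`. -/
theorem main3747
    (φX : SGA6.Kvb X →+ KX) (hφX : Function.Bijective φX)
    (hmulX : ∀ E F : X.Modules, FlatMod.IsFinLocFree E → FlatMod.IsFinLocFree F →
      φX (KRR.cl _ E) * φX (KRR.cl _ F) = φX (KRR.cl _ (((DCoh.tensorBi (X := X)).obj E).obj F)))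
    (φY : SGA6.Kvb Y →+ KY) (hφY : Function.Bijective φY)
    (hmulY : ∀ E F : Y.Modules, FlatMod.IsFinLocFree E → FlatMod.IsFinLocFree F →
      φY (KRR.cl _ E) * φY (KRR.cl _ F) = φY (KRR.cl _ (((DCoh.tensorBi (X := Y)).obj E).obj F)))
    (g : KY →+ KX) (hg : KRR.IsPull f φY φX g) (h : KX →+ KY) (hh : KRR.IsPushCl f φX φY h)
    (x : KX) (y : KY) : h (x * g y) = h x * y := by
  obtain ⟨y', rfl⟩ := hφY.2 y
  let a : SGA6.Kvb Y →+ KY := h.comp ((AddMonoidHom.mulLeft x).comp (g.comp φY))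
  let b : SGA6.Kvb Y →+ KY := (AddMonoidHom.mulLeft (h x)).comp φY
  suffices a = b from DFunLike.congr_fun this y'
  apply Groth.Agent.Lib.R2H2.PullLF.hom_ext_cl
  intro E hE
  change h (x * g (φY (KRR.cl Y E))) = h x * φY (KRR.cl Y E)
  rw [hg E hE]
  have hpE := Groth.Agent.Lib.R2H2.PullLF.isFinLocFree_pullback f E hE
  obtain ⟨x', rfl⟩ := hφX.2 x
  let a₂ : SGA6.Kvb X →+ KY := h.comp ((AddMonoidHom.mulRight
    (φX (KRR.cl X ((Scheme.Modules.pullback f).obj E)))).comp φX)
  let b₂ : SGA6.Kvb X →+ KY := (AddMonoidHom.mulRight (φY (KRR.cl Y E))).comp (h.comp φX)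
  suffices a₂ = b₂ from DFunLike.congr_fun this x'
  apply Groth.Agent.Lib.R2H2.PullLF.hom_ext_cl
  intro F hF
  change h (φX (KRR.cl X F) * φX (KRR.cl X ((Scheme.Modules.pullback f).obj E))) =
    h (φX (KRR.cl X F)) * φY (KRR.cl Y E)
  obtain ⟨hc, n, L, π, hL⟩ := Groth.Agent.Lib.R2H2.PushClRes.hasLFRes_push f hf hYe F hF
  haveI := Groth.Agent.Lib.R2H1.ProjLF.isIso_prj f E hE F
  obtain ⟨π', hL'⟩ := isLFRes_tensor E hE (asIso (Groth.Agent.Lib.R2H1.ProjLF.prj f E F)) n L π hL
  rw [mul_comm, hmulX _ _ hpE hF,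
    hh _ (Groth.Agent.Lib.Helper1.FLF.isFinLocFree_tensor _ _ hpE hF) n _ π' hL',
    hh F hF n L π hL, Finset.sum_mul]
  refine Finset.sum_congr rfl fun k _ => ?_
  rw [smul_mul_assoc, mul_comm, hmulY _ _ hE (hL.finLocFree k)]
  rfl

end K

end Groth.Agent.Lib.R2H2.PushClMul
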