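import Groth.Agent.Lib.R2H2RegK0
import Groth.Agent.Lib.R2H2KoszulNat
import Groth.Agent.Lib.R2H2RegPush
set_option backward.isDefEq.respectTransparency.types false

/-!
# The push-forward `p_K : K(P^n_Y) → K(Y)` (helper2, round 2)

* `shortExact_map_pushforward` : `f_*` is exact on short exact sequences with `R¹ f_* X₁ = 0`;
* `pushReg` : `K₀(regular bundles on P^n_Y) → K(Y)`, `[F] ↦ [p_* F]`;
* `main3798` : existence and uniqueness of `p_K`.
-/

set_option autoImplicit false
set_option linter.unusedSectionVars false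
set_option linter.style.haveILetI false
universe v w u

namespace Groth.Agent.Lib.R2H2.PushK

open CategoryTheory CategoryTheory.Limits AlgebraicGeometry KZero
open Groth.Agent.Lib.R2H2.K0Gen Groth.Agent.Lib.R2H2.KoszulRel Groth.Agent.Lib.R2H2.KoszulPnT

section General

variable {X Y : Scheme.{u}} (f : X ⟶ Y)

theorem shortExact_map_pushforward (S : ShortComplex X.Modules) (hS : S.ShortExact)
    (h : Van f 1 S.X₁) : (S.map (Scheme.Modules.pushforward f)).ShortExact := by
  haveI : PreservesLimitsOfSize.{0, 0} (Scheme.Modules.pushforward f) :=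
    (Scheme.Modules.pullbackPushforwardAdjunction f).rightAdjoint_preservesLimits
  haveI : PreservesFiniteLimits (Scheme.Modules.pushforward f) :=
    PreservesLimitsOfSize.preservesFiniteLimits _
  have h1 := (Functor.preservesFiniteLimits_iff_forall_exact_map_and_mono
    (Scheme.Modules.pushforward f)).1 inferInstance S hS
  haveI : Mono (S.map (Scheme.Modules.pushforward f)).f := h1.2
  haveI : Epi (S.map (Scheme.Modules.pushforward f)).g :=
    Groth.Agent.Lib.R2H2.KoszulNat.epi_pushforward_of_van f S hS h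
  exact ShortComplex.ShortExact.mk h1.1

end General

variable (n : ℕ) (Y : Scheme.{u})

/-- the regular bundles -/
abbrev Reg : ObjectProperty (KRR.PY n Y).Modules :=
  fun M => FlatMod.IsFinLocFree M ∧ KRR.IsRegSheaf n Y M

/-- `[F] ↦ [p_* F]` on regular bundles -/
noncomputable def pushReg [IsNoetherian Y] : K0sub (Reg n Y) →+ SGA6.Kvb Y :=
  liftAdd (Reg n Y) (fun F => KRR.cl Y ((Scheme.Modules.pushforward (KRR.pr n Y)).obj F)) (by
    intro S hS h₁ h₂ h₃
    exact clSub_shortExact (KRR.vbP Y) (S.map (Scheme.Modules.pushforward (KRR.pr n Y)))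
      (shortExact_map_pushforward (KRR.pr n Y) S hS
        (isZero_RpushAb_of_isRegSheaf n Y _ h₁.2 1 le_rfl))
      (Groth.Agent.Lib.R2H2.RegPush.main3756 n Y _ h₁.1 h₁.2)
      (Groth.Agent.Lib.R2H2.RegPush.main3756 n Y _ h₂.1 h₂.2)
      (Groth.Agent.Lib.R2H2.RegPush.main3756 n Y _ h₃.1 h₃.2))

theorem pushReg_clSub [IsNoetherian Y] (F : (KRR.PY n Y).Modules) (hF : Reg n Y F) :
    pushReg n Y (clSub (Reg n Y) F) =
      KRR.cl Y ((Scheme.Modules.pushforward (KRR.pr n Y)).obj F) :=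
  liftAdd_clSub (Reg n Y) _ _ hF

/-- **S3798**: existence and uniqueness of the push-forward `p_K` -/
theorem main3798 [IsNoetherian Y] {KP : Type v} {KY : Type w} [CommRing KP] [CommRing KY]
    (φP : SGA6.Kvb (KRR.PY n Y) →+ KP) (hφP : Function.Bijective φP) (φY : SGA6.Kvb Y →+ KY) :
    ∃! g : KP →+ KY, KRR.IsPushPr n Y φP φY g := by
  have hle : ∀ M : (KRR.PY n Y).Modules, Reg n Y M → KRR.vbP (KRR.PY n Y) M := fun M h => h.1
  let β := SGA6.mapSub (𝟭 (KRR.PY n Y).Modules) (Reg n Y) (KRR.vbP (KRR.PY n Y)) hle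
  have hβ : Function.Bijective β := Groth.Agent.Lib.R2H2.RegK0.main3758 n Y hle
  have hβcl : ∀ F : (KRR.PY n Y).Modules, Reg n Y F →
      β (clSub (Reg n Y) F) = KRR.cl (KRR.PY n Y) F := fun F hF =>
    Groth.Agent.Lib.R2H2.K0Chain.mapSub_clSub hle hF
  let eβ := AddEquiv.ofBijective β hβ
  let eφ := AddEquiv.ofBijective φP hφP
  let g : KP →+ KY :=
    φY.comp ((pushReg n Y).comp (eβ.symm.toAddMonoidHom.comp eφ.symm.toAddMonoidHom))
  have hg : KRR.IsPushPr n Y φP φY g := by
    intro F hF hreg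
    have h1 : eφ.symm (φP (KRR.cl (KRR.PY n Y) F)) = KRR.cl (KRR.PY n Y) F :=
      eφ.symm_apply_apply _
    have h2 : eβ.symm (KRR.cl (KRR.PY n Y) F) = clSub (Reg n Y) F := by
      rw [← hβcl F ⟨hF, hreg⟩]
      exact eβ.symm_apply_apply _
    change φY (pushReg n Y (eβ.symm (eφ.symm (φP (KRR.cl (KRR.PY n Y) F))))) = _
    rw [h1, h2, pushReg_clSub n Y F ⟨hF, hreg⟩]
  refine ⟨g, hg, fun g' hg' => ?_⟩
  have hcomp : g'.comp (φP.comp β) = g.comp (φP.comp β) := by
    apply Groth.Agent.Lib.R2H2.K0Chain.hom_ext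
    intro F hF
    change g' (φP (β (clSub (Reg n Y) F))) = g (φP (β (clSub (Reg n Y) F)))
    rw [hβcl F hF, hg' F hF.1 hF.2, hg F hF.1 hF.2]
  apply AddMonoidHom.ext
  intro x
  obtain ⟨y, rfl⟩ := hφP.2 x
  obtain ⟨z, rfl⟩ := hβ.2 y
  exact DFunLike.congr_fun hcomp z

end Groth.Agent.Lib.R2H2.PushK
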