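import Groth.Agent.Lib.R2H2TrackedTwist
import Groth.Agent.Lib.R2H2OpenImmSec
import Groth.Agent.Lib.R2H2FreeBasis
import Groth.Agent.Lib.R2H3PullUnit
import Groth.Agent.Lib.R2H2ProjOverPush
import Groth.Agent.Lib.Helper27PnSections
set_option backward.isDefEq.respectTransparency.types false

/-!
# `p_* O(m)` is free of rank `C(n+m, m)` on `P^n_Y` (helper2, round 2)

* `monomial_indep`, `monomial_span` : the monomials of degree `m` are a basis of `R[x]_m`;
* `gsec_basis` : the sections `x^α / 1` are a basis of `Γ(P^n_R, O(m))` over `Γ(P^n_R, O)`;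
* `basis_over` : the pulled back monomial sections are a basis of `Γ(p⁻¹ V, O(m))` over `Γ(V, O_Y)`
  for every affine open `V` of `Y`;
* `nonempty_push_twistOver_iso` : `p_* O(m) ≅ O_Y^{C(n+m,m)}`.
-/

set_option autoImplicit false
universe u

open CategoryTheory CategoryTheory.Limits AlgebraicGeometry TopologicalSpace Opposite MvPolynomial
open Groth.Agent.Lib.Helper23.SecTw Groth.Agent.Lib.Helper6 Groth.Agent.Helper13PullbackUnit
  Groth.Agent.Lib.Helper27PullGen Groth.Agent.Lib.Helper27GrTildeSect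

namespace Groth.Agent.Lib.R2H2.PushTwist

section Alg

variable (n m : ℕ) (R : Type u) [CommRing R]

/-- exponent vectors of total degree `m` in `n + 1` variables -/
abbrev J : Type := ↥((Finset.univ : Finset (Fin (n + 1))).finsuppAntidiag m)

theorem card_J : Fintype.card (J n m) = Nat.choose (n + m) m := by
  rw [Fintype.card_coe, Finset.card_finsuppAntidiag_nat_eq_choose, Finset.card_univ,
    Fintype.card_fin]
  congr 1
  omega

theorem degree_J (α : J n m) : α.1.degree = m := by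
  rw [Finsupp.degree_eq_sum]
  exact (Finset.mem_finsuppAntidiag.mp α.2).1

theorem monomial_mem (α : J n m) :
    (monomial α.1 (1 : R)) ∈ CohB1.polyGrading n R m :=
  (mem_homogeneousSubmodule _ _).mpr (isHomogeneous_monomial (1 : R) (degree_J n m α))

variable {K : Type} [Fintype K] (e : K ≃ J n m)

include e in
theorem monomial_indep (r : K → R)
    (h : ∑ k, r k • (monomial (e k).1 (1 : R) : MvPolynomial (Fin (n + 1)) R) = 0) :
    ∀ k, r k = 0 := by
  classical
  intro k₀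
  have h1 := congrArg (coeff (e k₀).1) h
  rw [coeff_sum, coeff_zero] at h1
  rw [Finset.sum_eq_single k₀] at h1
  · simpa using h1
  · intro k _ hk
    rw [coeff_smul, coeff_monomial, if_neg, smul_zero]
    intro h2
    exact hk (e.injective (Subtype.ext h2))
  · intro h2
    exact absurd (Finset.mem_univ k₀) h2

include e in
theorem monomial_span (c : MvPolynomial (Fin (n + 1)) R) (hc : c ∈ CohB1.polyGrading n R m) :
    ∃ r : K → R, c = ∑ k, r k • (monomial (e k).1 (1 : R) : MvPolynomial (Fin (n + 1)) R) := by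
  classical
  refine ⟨fun k => coeff (e k).1 c, ?_⟩
  have hc' : c.IsHomogeneous m := (mem_homogeneousSubmodule _ _).mp hc
  have h1 : ∀ k, coeff (e k).1 c • (monomial (e k).1 (1 : R) : MvPolynomial (Fin (n + 1)) R) =
      monomial (e k).1 (coeff (e k).1 c) := by
    intro k
    rw [smul_monomial, smul_eq_mul, mul_one]
  rw [Finset.sum_congr rfl (fun k _ => h1 k)]
  rw [Equiv.sum_comp e (fun α : J n m => monomial α.1 (coeff α.1 c))]
  rw [Finset.sum_coe_sort ((Finset.univ : Finset (Fin (n + 1))).finsuppAntidiag m)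
    (fun α => monomial α (coeff α c))]
  have hsub : c.support ⊆ (Finset.univ : Finset (Fin (n + 1))).finsuppAntidiag m := by
    intro α hα
    have h2 := hc' (mem_support_iff.mp hα)
    rw [Finset.mem_finsuppAntidiag]
    refine ⟨?_, Finset.subset_univ _⟩
    rw [← Finsupp.degree_eq_sum, Finsupp.degree_eq_weight_one]
    exact h2
  rw [← Finset.sum_subset hsub]
  · exact (support_sum_monomial_coeff c).symm
  · intro α _ hα
    rw [notMem_support_iff.mp hα, monomial_zero]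

end Alg

section PR

variable (n : ℕ) (R : Type u) [CommRing R] (m : ℕ)

local notation "𝒬" => CohB1.polyGrading n R

theorem constFun_bijective : Function.Bijective (constFun 𝒬 : R → Γ(Proj 𝒬, ⊤)) := by
  haveI := Groth.Agent.Lib.Helper27ProjGamma.isIso_toSpec_appTop n R
  have h1 : Function.Bijective ((Scheme.ΓSpecIso (CommRingCat.of R)).inv) :=
    ConcreteCategory.bijective_of_isIso _
  have h2 : Function.Bijective (CohB1.ProjSpace.toSpec n R).appTop :=
    ConcreteCategory.bijective_of_isIso _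
  exact h2.comp h1

theorem constFun_zero : constFun 𝒬 (0 : R) = 0 := by
  unfold constFun
  rw [map_zero, map_zero]

theorem gsec_congr {U : (Proj 𝒬).Opens} {b b' : MvPolynomial (Fin (n + 1)) R} (h : b = b')
    (hb : b ∈ 𝒬 m) (hb' : b' ∈ 𝒬 m) : gsec 𝒬 m U hb = gsec 𝒬 m U hb' := by
  subst h
  rfl

/-- a basis of forms of degree `m` gives a basis of the global sections of `O(m)` -/
theorem gsec_basis {N : ℕ} (b : Fin N → MvPolynomial (Fin (n + 1)) R) (hb : ∀ k, b k ∈ 𝒬 m)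
    (hind : ∀ r : Fin N → R, ∑ k, r k • b k = 0 → ∀ k, r k = 0)
    (hspan : ∀ c, c ∈ 𝒬 m → ∃ r : Fin N → R, c = ∑ k, r k • b k)
    (U : (Proj 𝒬).Opens) (hU : U = ⊤) :
    (∀ f : Fin N → Γ(Proj 𝒬, U), ∑ k, f k • gsec 𝒬 m U (hb k) = 0 → ∀ k, f k = 0) ∧
    (∀ t : Γ(GrTilde.tilde 𝒬 𝒬 (m : ℤ), U), ∃ f : Fin N → Γ(Proj 𝒬, U),
      t = ∑ k, f k • gsec 𝒬 m U (hb k)) := by
  subst hU
  have hmem : ∀ r : Fin N → R, ∑ k, r k • b k ∈ 𝒬 m := fun r =>
    Submodule.sum_mem _ (fun k _ => Submodule.smul_mem _ _ (hb k))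
  have key : ∀ r : Fin N → R,
      ∑ k, constFun 𝒬 (r k) • gsec 𝒬 m ⊤ (hb k) = gsec 𝒬 m ⊤ (hmem r) := by
    intro r
    let G : ↥(𝒬 m) →+ Γ(GrTilde.tilde 𝒬 𝒬 (m : ℤ), ⊤) :=
      AddMonoidHom.mk' (fun c => gsec 𝒬 m ⊤ c.2)
        (fun c c' => Groth.Agent.Lib.Helper27PnSections.gsec_add n R m c.2 c'.2)
    have h1 : gsec 𝒬 m ⊤ (hmem r) = G (∑ k, r k • (⟨b k, hb k⟩ : ↥(𝒬 m))) := by
      change _ = gsec 𝒬 m ⊤ (∑ k, r k • (⟨b k, hb k⟩ : ↥(𝒬 m))).2
      refine gsec_congr n R m ?_ _ _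
      rw [AddSubmonoidClass.coe_finset_sum]
      rfl
    rw [h1, map_sum]
    refine Finset.sum_congr rfl (fun k _ => ?_)
    exact (Groth.Agent.Lib.Helper27PnSections.gsec_smul n R m (r k) (hb k)).symm
  constructor
  · intro f hf
    choose r hr using fun k => (constFun_bijective n R).2 (f k)
    have h1 : ∑ k, constFun 𝒬 (r k) • gsec 𝒬 m ⊤ (hb k) = 0 := by
      rw [← hf]
      exact Finset.sum_congr rfl (fun k _ => by rw [hr k])
    rw [key r] at h1
    have h2 := Groth.Agent.Lib.Helper27PnSections.gsec_eq_zero n R m (hmem r) h1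
    have h3 := hind r h2
    intro k
    rw [← hr k, h3 k, constFun_zero]
  · intro t
    obtain ⟨c, hc, rfl⟩ := Groth.Agent.Lib.Helper27PnSections.exists_global_poly n R m t
    obtain ⟨r, hr⟩ := hspan c hc
    refine ⟨fun k => constFun 𝒬 (r k), ?_⟩
    rw [key r]
    exact gsec_congr n R m hr _ _

end PR

section Over

open Groth.Agent.Lib.R2H2.ProjOver Groth.Agent.Lib.R2H3.PullUnit
  Groth.Agent.Lib.R2H2.TrackedTwist Groth.Agent.Lib.Helper27PMapSec

variable (n : ℕ) (Y : Scheme.{u}) (m : ℕ)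

/-- the first projection `P^n_Y ⟶ P^n_ℤ` -/
noncomputable abbrev fstZ :
    CohB1.ProjSpaceOver n Y ⟶ Proj (CohB1.polyGrading n (ULift.{u} ℤ)) :=
  pullback.fst (CohB1.ProjSpace.toSpec n (ULift.{u} ℤ)) (specULiftZIsTerminal.from Y)

/-- `O(m)` on `P^n_ℤ` -/
noncomputable abbrev MZ : (Proj (CohB1.polyGrading n (ULift.{u} ℤ))).Modules :=
  GrTilde.tilde (CohB1.polyGrading n (ULift.{u} ℤ)) (CohB1.polyGrading n (ULift.{u} ℤ)) (m : ℤ)

/-- `O(m)` on `P^n_Y` -/
noncomputable abbrev MY : (CohB1.ProjSpaceOver n Y).Modules :=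
  (Scheme.Modules.pullback (fstZ n Y)).obj (MZ n m)

variable {N : ℕ} (e : Fin N ≃ J n m)

/-- the monomial sections of `O(m)` on `P^n_ℤ` -/
noncomputable def σZ (k : Fin N) : Γ(MZ n m, ⊤) :=
  gsec (CohB1.polyGrading n (ULift.{u} ℤ)) m ⊤ (monomial_mem n m (ULift.{u} ℤ) (e k))

theorem le_fst_top (V : Y.Opens) :
    CohB1.ProjSpaceOver.toBase n Y ⁻¹ᵁ V ≤ fstZ n Y ⁻¹ᵁ ⊤ := fun _ _ => trivial

/-- the monomial sections of `O(m)` on `P^n_Y`, over `p⁻¹ V` -/
noncomputable def τ (V : Y.Opens) (k : Fin N) :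
    Γ(MY n Y m, CohB1.ProjSpaceOver.toBase n Y ⁻¹ᵁ V) :=
  unitSec (fstZ n Y) (MZ n m) (le_fst_top n Y V) (σZ n m e k)

theorem res_τ {V V' : Y.Opens} (h : V' ≤ V) (k : Fin N) :
    res (MY n Y m) ((CohB1.ProjSpaceOver.toBase n Y).preimage_mono h) (τ n Y m e V k) =
      τ n Y m e V' k := by
  unfold τ
  rw [unitSec_apply, unitSec_apply]
  exact res_res (MY n Y m) _ _ _

theorem phi_monomial (R' R : Type u) [CommRing R'] [CommRing R] [Algebra R' R]
    (α : Fin (n + 1) →₀ ℕ) :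
    phi n R' R (monomial α (1 : R')) = monomial α (1 : R) := by
  change MvPolynomial.map (algebraMap R' R) (monomial α 1) = _
  rw [MvPolynomial.map_monomial, map_one]

theorem unitSec_eq_res {X Z : Scheme.{u}} (g : X ⟶ Z) (G : Z.Modules) {V : Z.Opens}
    {W : X.Opens} (hW : W ≤ g ⁻¹ᵁ V) (σ : Γ(G, V)) :
    unitSec g G hW σ = res ((Scheme.Modules.pullback g).obj G) hW
      (unitSec g G (le_refl (g ⁻¹ᵁ V)) σ) := by
  rw [unitSec_le_rfl]
  rfl

/-- iterated `unitSec` does not depend on the intermediate open -/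
theorem unitSec_unitSec_eq {X X' Z : Scheme.{u}} (f : X ⟶ X') (g : X' ⟶ Z) (G : Z.Modules)
    {V : Z.Opens} {W W' : X'.Opens} (hW : W ≤ g ⁻¹ᵁ V) (hW' : W' ≤ g ⁻¹ᵁ V) {U : X.Opens}
    (hU : U ≤ f ⁻¹ᵁ W) (hU' : U ≤ f ⁻¹ᵁ W') (σ : Γ(G, V)) :
    unitSec f ((Scheme.Modules.pullback g).obj G) hU (unitSec g G hW σ) =
      unitSec f ((Scheme.Modules.pullback g).obj G) hU' (unitSec g G hW' σ) := by
  rw [unitSec_eq_res g G hW, unitSec_eq_res g G hW', unitSec_res, unitSec_res]

theorem bijective_resf_of_eq {X : Scheme.{u}} {U U' : X.Opens} (e : U' = U) (h : U' ≤ U) :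
    Function.Bijective (X.presheaf.map (homOfLE h).op) := by
  subst e
  have h0 : (homOfLE h).op = 𝟙 (op U') := rfl
  rw [h0, X.presheaf.map_id]
  exact Function.bijective_id

end Over

end Groth.Agent.Lib.R2H2.PushTwist
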