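import Groth.Agent.Lib.R2H2PushTwist
set_option backward.isDefEq.respectTransparency.types false

/-!
# `p_* O(m)` is free of rank `C(n+m, m)` on `P^n_Y`, part 2 (helper2, round 2)

* `basis_over` : the pulled back monomial sections are a basis of `Γ(p⁻¹ V, O(m))` over `Γ(V, O_Y)`
  for every affine open `V` of `Y`;
* `nonempty_push_twistOver_iso` : `p_* O(m) ≅ O_Y^{C(n+m,m)}`.
-/

set_option autoImplicit false
universe u

open CategoryTheory CategoryTheory.Limits AlgebraicGeometry TopologicalSpace Opposite MvPolynomial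
open Groth.Agent.Lib.Helper23.SecTw Groth.Agent.Lib.Helper6 Groth.Agent.Helper13PullbackUnit
  Groth.Agent.Lib.Helper27PullGen Groth.Agent.Lib.Helper27GrTildeSect

namespace Groth.Agent.Lib.R2H2.PushTwist

section Transfer

/-- transport of a basis along a semilinear bijection -/
theorem transfer_basis {SY SA SB A B : Type*} [CommRing SY] [CommRing SA] [CommRing SB]
    [AddCommGroup A] [Module SA A] [AddCommGroup B] [Module SB B]
    (Θ : A →+ B) (hΘ : Function.Bijective Θ) (lam : SA → SB)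
    (hsm : ∀ (f : SA) (s : A), Θ (f • s) = lam f • Θ s)
    (pV : SY → SA) (hbij : Function.Bijective (fun c => lam (pV c))) (h0 : lam (pV 0) = 0)
    {N : ℕ} (τ : Fin N → A) (g : Fin N → B) (hτ : ∀ k, Θ (τ k) = g k)
    (hI : ∀ f : Fin N → SB, ∑ k, f k • g k = 0 → ∀ k, f k = 0)
    (hS : ∀ t : B, ∃ f : Fin N → SB, t = ∑ k, f k • g k) :
    (∀ c : Fin N → SY, ∑ k, pV (c k) • τ k = 0 → ∀ k, c k = 0) ∧
    (∀ s : A, ∃ c : Fin N → SY, s = ∑ k, pV (c k) • τ k) := by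
  have hsum : ∀ c : Fin N → SY, Θ (∑ k, pV (c k) • τ k) = ∑ k, lam (pV (c k)) • g k := by
    intro c
    rw [map_sum]
    exact Finset.sum_congr rfl (fun k _ => by rw [hsm, hτ])
  constructor
  · intro c hc
    have h1 : ∑ k, lam (pV (c k)) • g k = 0 := by
      rw [← hsum c, hc, map_zero]
    have h2 := hI _ h1
    intro k
    have h3 : (fun c => lam (pV c)) (c k) = (fun c => lam (pV c)) 0 := by
      change lam (pV (c k)) = lam (pV 0)
      rw [h2 k, h0]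
    exact hbij.1 h3
  · intro s
    obtain ⟨f, hf⟩ := hS (Θ s)
    choose c hc using fun k => hbij.2 (f k)
    refine ⟨c, hΘ.1 ?_⟩
    rw [hsum c, hf]
    exact Finset.sum_congr rfl (fun k _ => by rw [← hc k])

end Transfer

section General

open Groth.Agent.Lib.R2H3.PullUnit

variable {X X' Z : Scheme.{u}} {f : X ⟶ X'} {g : X' ⟶ Z} {p : X ⟶ Z} (e0 : f ≫ g = p)
  (G : Z.Modules) {N' : X.Modules} (Φ : (Scheme.Modules.pullback p).obj G ≅ N') (VZ : Z.Opens)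
  {W : X'.Opens} (h' : p ⁻¹ᵁ VZ ≤ f ⁻¹ᵁ W)

/-- the comparison map `Γ(g^* G, W) → Γ(N', p⁻¹ VZ)` -/
noncomputable def Θ : Γ((Scheme.Modules.pullback g).obj G, W) →+ Γ(N', p ⁻¹ᵁ VZ) :=
  ((Φ.hom.app (p ⁻¹ᵁ VZ)).hom.comp ((T e0 G).hom.app (p ⁻¹ᵁ VZ)).hom).comp
    (unitSec f ((Scheme.Modules.pullback g).obj G) h')

theorem Θ_apply (s : Γ((Scheme.Modules.pullback g).obj G, W)) :
    Θ e0 G Φ VZ h' s = Φ.hom.app (p ⁻¹ᵁ VZ) ((T e0 G).hom.app (p ⁻¹ᵁ VZ)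
      (unitSec f ((Scheme.Modules.pullback g).obj G) h' s)) := rfl

theorem Θ_smul (r : Γ(X', W)) (s : Γ((Scheme.Modules.pullback g).obj G, W)) :
    Θ e0 G Φ VZ h' (r • s) = (f.appLE W (p ⁻¹ᵁ VZ) h').hom r • Θ e0 G Φ VZ h' s := by
  rw [Θ_apply, Θ_apply, unitSec_smul, Scheme.Modules.Hom.app_smul, Scheme.Modules.Hom.app_smul]

theorem Θ_unitSec (hW' : W ≤ g ⁻¹ᵁ VZ) (σ : Γ(G, VZ)) :
    Θ e0 G Φ VZ h' (unitSec g G hW' σ) = Φ.hom.app (p ⁻¹ᵁ VZ) (unitSec p G le_rfl σ) := by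
  rw [Θ_apply, unitSec_unitSec_eq f g G hW' (le_refl _) h' (preimage_le e0 VZ) σ,
    T_hom_unitSec]

theorem Θ_bijective [IsOpenImmersion f] (hW : W ≤ f.opensRange) (hge : f ⁻¹ᵁ W ≤ p ⁻¹ᵁ VZ) :
    Function.Bijective (Θ e0 G Φ VZ h') := by
  have b1 := Groth.Agent.Lib.R2H2.OpenImmSec.unitSec_bijective f
    ((Scheme.Modules.pullback g).obj G) hW h' hge
  have b2 := Groth.Agent.Lib.R2H2.OpenImmSec.bijective_app_of_iso (T e0 G) (p ⁻¹ᵁ VZ)
  have b3 := Groth.Agent.Lib.R2H2.OpenImmSec.bijective_app_of_iso Φ (p ⁻¹ᵁ VZ)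
  exact b3.comp (b2.comp b1)

theorem appLE_bijective [IsOpenImmersion f] (hW : W ≤ f.opensRange)
    (hge : f ⁻¹ᵁ W ≤ p ⁻¹ᵁ VZ) : Function.Bijective (f.appLE W (p ⁻¹ᵁ VZ) h') := by
  haveI : IsIso (f.app W) := f.isIso_app _ hW
  have c1 : Function.Bijective (f.app W) := ConcreteCategory.bijective_of_isIso _
  have c2 : Function.Bijective (X.presheaf.map (homOfLE h').op) :=
    bijective_resf_of_eq (le_antisymm h' hge) h'
  exact c2.comp c1

end General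

section Over2

open Groth.Agent.Lib.R2H2.ProjOver Groth.Agent.Lib.R2H3.PullUnit
  Groth.Agent.Lib.R2H2.TrackedTwist Groth.Agent.Lib.Helper27PMapSec

variable (n : ℕ) (Y : Scheme.{u}) (m : ℕ) {N : ℕ} (e : Fin N ≃ J n m)

/-- **the monomial sections are a basis over every affine open of the base** -/
theorem basis_over {V : Y.Opens} (hV : IsAffineOpen V) :
    (∀ c : Fin N → Γ(Y, V),
      ∑ k, ((CohB1.ProjSpaceOver.toBase n Y).app V).hom (c k) • τ n Y m e V k = 0 →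
        ∀ k, c k = 0) ∧
    (∀ s : Γ(MY n Y m, CohB1.ProjSpaceOver.toBase n Y ⁻¹ᵁ V), ∃ c : Fin N → Γ(Y, V),
      s = ∑ k, ((CohB1.ProjSpaceOver.toBase n Y).app V).hom (c k) • τ n Y m e V k) := by
  letI : Algebra (ULift.{u} ℤ) Γ(Y, V) := algZ Γ(Y, V)
  let p := CohB1.ProjSpaceOver.toBase n Y
  let j : Spec (CommRingCat.of Γ(Y, V)) ⟶ Y := hV.fromSpec
  let A : Proj (CohB1.polyGrading n Γ(Y, V)) ⟶ CohB1.ProjSpaceOver n Y := a n Γ(Y, V) j
  haveI hAoi : IsOpenImmersion A := isOpenImmersion_a n Γ(Y, V) j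
  have hjr : j.opensRange = V := hV.opensRange_fromSpec
  have hAr : A.opensRange = p ⁻¹ᵁ V :=
    (opensRange_a n Γ(Y, V) j).trans (congrArg (fun W : Y.Opens => p ⁻¹ᵁ W) hjr)
  let φ := phi n (ULift.{u} ℤ) Γ(Y, V)
  have hφ := irrelevant_le_map n (ULift.{u} ℤ) Γ(Y, V)
  let pφ := Proj.map φ hφ
  have e0 : A ≫ fstZ n Y = pφ := a_fst n Γ(Y, V) j
  have hcov : ∀ x : Proj (CohB1.polyGrading n Γ(Y, V)), ∃ i : Fin (n + 1),
      x ∈ Proj.basicOpen (CohB1.polyGrading n Γ(Y, V)) (φ (MvPolynomial.X i)) := by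
    intro x
    have hx : x ∈ (⨆ i : Fin (n + 1), Proj.basicOpen (CohB1.polyGrading n Γ(Y, V))
        (MvPolynomial.X i)) := by
      rw [Groth.Agent.Lib.Helper27PnChart.iSup_basicOpen_X]; trivial
    obtain ⟨i, hi⟩ := TopologicalSpace.Opens.mem_iSup.1 hx
    exact ⟨i, by rw [phi_X]; exact hi⟩
  obtain ⟨Φ, hΦ⟩ := exists_tracked_iso φ hφ
    (fun i : Fin (n + 1) => (MvPolynomial.X i : MvPolynomial (Fin (n + 1)) (ULift.{u} ℤ)))
    (fun i => Groth.Agent.Lib.Helper27PnChart.X_mem_one n (ULift.{u} ℤ) i) hcov m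
  have h' : pφ ⁻¹ᵁ ⊤ ≤ A ⁻¹ᵁ (p ⁻¹ᵁ V) := by
    intro x _
    have hx : A.base x ∈ A.opensRange := ⟨x, rfl⟩
    rw [hAr] at hx
    exact hx
  have hge : A ⁻¹ᵁ (p ⁻¹ᵁ V) ≤ pφ ⁻¹ᵁ ⊤ := fun _ _ => trivial
  -- the comparison map
  let Θ' := Θ e0 (MZ n m) Φ ⊤ h'
  have hΘbij : Function.Bijective Θ' := Θ_bijective e0 (MZ n m) Φ ⊤ h' hAr.ge hge
  let lam : Γ(CohB1.ProjSpaceOver n Y, p ⁻¹ᵁ V) →
      Γ(Proj (CohB1.polyGrading n Γ(Y, V)), pφ ⁻¹ᵁ ⊤) :=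
    fun r => (A.appLE (p ⁻¹ᵁ V) (pφ ⁻¹ᵁ ⊤) h').hom r
  have hΘsmul : ∀ (f : Γ(CohB1.ProjSpaceOver n Y, p ⁻¹ᵁ V)) (s : Γ(MY n Y m, p ⁻¹ᵁ V)),
      Θ' (f • s) = lam f • Θ' s := fun f s => Θ_smul e0 (MZ n m) Φ ⊤ h' f s
  have hlam : Function.Bijective lam := appLE_bijective (p := pφ) ⊤ h' hAr.ge hge
  have hlam0 : lam 0 = 0 := map_zero (A.appLE (p ⁻¹ᵁ V) (pφ ⁻¹ᵁ ⊤) h').hom
  have hpV : Function.Bijective (p.app V) := by
    haveI := Groth.Agent.Lib.R2H2.ProjOverPush.isIso_toBase_app n Y hV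
    exact ConcreteCategory.bijective_of_isIso _
  -- the images of the monomial sections
  have hb : ∀ k, φ (monomial (e k).1 (1 : ULift.{u} ℤ)) ∈ CohB1.polyGrading n Γ(Y, V) m :=
    fun k => Graded.map_mem φ (monomial_mem n m (ULift.{u} ℤ) (e k))
  have hΘτ : ∀ k, Θ' (τ n Y m e V k) =
      gsec (CohB1.polyGrading n Γ(Y, V)) m (pφ ⁻¹ᵁ ⊤) (hb k) := by
    intro k
    refine (Θ_unitSec e0 (MZ n m) Φ ⊤ h' (le_fst_top n Y V) (σZ n m e k)).trans ?_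
    exact hΦ _ (monomial_mem n m (ULift.{u} ℤ) (e k))
  have hbk : ∀ k, φ (monomial (e k).1 (1 : ULift.{u} ℤ)) = monomial (e k).1 (1 : Γ(Y, V)) :=
    fun k => phi_monomial n (ULift.{u} ℤ) Γ(Y, V) (e k).1
  obtain ⟨hI, hS⟩ := gsec_basis n Γ(Y, V) m
    (fun k => φ (monomial (e k).1 (1 : ULift.{u} ℤ))) hb
    (fun r hr => monomial_indep n m Γ(Y, V) e r (by
      rw [← hr]
      exact Finset.sum_congr rfl (fun k _ => by rw [hbk k])))
    (fun c hc => by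
      obtain ⟨r, hr⟩ := monomial_span n m Γ(Y, V) e c hc
      refine ⟨r, hr.trans (Finset.sum_congr rfl (fun k _ => by rw [hbk k]))⟩)
    (pφ ⁻¹ᵁ ⊤) rfl
  have hbij : Function.Bijective (fun c : Γ(Y, V) => lam ((p.app V).hom c)) := hlam.comp hpV
  have h0 : lam ((p.app V).hom 0) = 0 := by
    rw [map_zero]
    exact hlam0
  exact transfer_basis Θ' hΘbij lam hΘsmul (fun c : Γ(Y, V) => (p.app V).hom c) hbij h0
    (τ n Y m e V) (fun k => gsec (CohB1.polyGrading n Γ(Y, V)) m (pφ ⁻¹ᵁ ⊤) (hb k)) hΘτ hI hS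

end Over2

section Final

variable (n : ℕ) (Y : Scheme.{u}) (m : ℕ)

theorem nonempty_push_MY_iso :
    Nonempty ((∐ fun _ : Fin (Nat.choose (n + m) m) => Coh.structureModule Y) ≅
      (Scheme.Modules.pushforward (CohB1.ProjSpaceOver.toBase n Y)).obj (MY n Y m)) := by
  let e : Fin (Nat.choose (n + m) m) ≃ J n m := (Fintype.equivFinOfCardEq (card_J n m)).symm
  let p := CohB1.ProjSpaceOver.toBase n Y
  let 𝒩 := (Scheme.Modules.pushforward p).obj (MY n Y m)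
  let t : Fin (Nat.choose (n + m) m) → Γ(𝒩, ⊤) := fun k => τ n Y m e ⊤ k
  have hres : ∀ (V : Y.Opens) (k : Fin (Nat.choose (n + m) m)),
      res 𝒩 (le_top : V ≤ ⊤) (t k) = τ n Y m e V k := fun V k => res_τ n Y m e le_top k
  have hconv : ∀ (V : Y.Opens) (c : Fin (Nat.choose (n + m) m) → Γ(Y, V)),
      ∑ k, c k • res 𝒩 (le_top : V ≤ ⊤) (t k) =
        ∑ k, (p.app V).hom (c k) • τ n Y m e V k := by
    intro V c
    refine Finset.sum_congr rfl (fun k _ => ?_)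
    rw [hres]
    rfl
  refine Groth.Agent.Lib.R2H2.FreeBasis.nonempty_iso_of_basis 𝒩 t
    (fun V hV c hc => ?_) (fun V hV s => ?_)
  · exact (basis_over n Y m e hV).1 c ((hconv V c).symm.trans hc)
  · obtain ⟨c, hc⟩ := (basis_over n Y m e hV).2 s
    exact ⟨c, hc.trans (hconv V c).symm⟩

/-- **`p_* O(m) ≅ O_Y^{C(n+m,m)}`** for `p : P^n_Y ⟶ Y`, `m ≥ 0` -/
theorem nonempty_push_twistOver_iso :
    Nonempty ((∐ fun _ : Fin (Nat.choose (n + m) m) => Coh.structureModule Y) ≅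
      (Scheme.Modules.pushforward (CohB1.ProjSpaceOver.toBase n Y)).obj
        (Twist.twistOver n Y (m : ℤ))) :=
  nonempty_push_MY_iso n Y m

end Final

end Groth.Agent.Lib.R2H2.PushTwist
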