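import Mathlib

set_option autoImplicit false
set_option linter.style.haveILetI false
universe u
open CategoryTheory AlgebraicGeometry TopologicalSpace Opposite

namespace Groth.Agent.Lib.R2H2.QAffLocal

variable {X Y : Scheme.{u}}

/-- restriction to the basic open -/
noncomputable abbrev resB {W : X.Opens} (g : Γ(X, W)) : Γ(X, W) →+* Γ(X, X.basicOpen g) :=
  (X.presheaf.map (homOfLE (X.basicOpen_le g)).op).hom

theorem exists_basicOpen_affine (W : X.Opens) [W.toScheme.IsQuasiAffine] (x : X) (hx : x ∈ W) :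
    ∃ g : Γ(X, W), IsAffineOpen (X.basicOpen g) ∧ x ∈ X.basicOpen g := by
  obtain ⟨_, ⟨_, ⟨r, hr, rfl⟩, rfl⟩, hxr, -⟩ :=
    (Scheme.IsQuasiAffine.isBasis_basicOpen W.toScheme).exists_subset_of_mem_open
      (Set.mem_univ (⟨x, hx⟩ : W.toScheme)) isOpen_univ
  refine ⟨W.topIso.hom r, ?_, ?_⟩
  · have h1 := Scheme.Opens.ι_image_basicOpen_topIso_inv W (W.topIso.hom r)
    rw [← h1]
    have : W.topIso.inv (W.topIso.hom r) = r := by
      rw [← CommRingCat.comp_apply, Iso.hom_inv_id]; rfl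
    rw [this]
    exact hr.image_of_isOpenImmersion W.ι
  · have h1 := Scheme.Opens.ι_image_basicOpen_topIso_inv W (W.topIso.hom r)
    rw [← h1]
    have : W.topIso.inv (W.topIso.hom r) = r := by
      rw [← CommRingCat.comp_apply, Iso.hom_inv_id]; rfl
    rw [this]
    exact ⟨⟨x, hx⟩, hxr, rfl⟩

theorem exists_finset_good (f : X ⟶ Y) [LocallyOfFiniteType f] (V : Y.Opens) (hV : IsAffineOpen V)
    (hc : IsCompact (f ⁻¹ᵁ V).1) (hqs : IsQuasiSeparated (f ⁻¹ᵁ V).1)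
    (g : Γ(X, f ⁻¹ᵁ V)) (hU : IsAffineOpen (X.basicOpen g)) :
    ∃ T : Finset Γ(X, f ⁻¹ᵁ V), ∀ S' : Subring Γ(X, X.basicOpen g),
      (∀ a : Γ(Y, V), (f.appLE V (X.basicOpen g) (X.basicOpen_le g)).hom a ∈ S') →
      (∀ t ∈ T, resB g t ∈ S') →
      (∀ u : Γ(X, X.basicOpen g), u * resB g g = 1 → u ∈ S') → S' = ⊤ := by
  classical
  have hft : (f.appLE V (X.basicOpen g) (X.basicOpen_le g)).hom.FiniteType :=
    HasRingHomProperty.appLE @LocallyOfFiniteType f inferInstance ⟨V, hV⟩ ⟨_, hU⟩ _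
  letI := (f.appLE V (X.basicOpen g) (X.basicOpen_le g)).hom.toAlgebra
  obtain ⟨s, hs⟩ := (hft : Algebra.FiniteType Γ(Y, V) Γ(X, X.basicOpen g)).out
  have hex : ∀ a : Γ(X, X.basicOpen g), ∃ (n : ℕ) (y : Γ(X, f ⁻¹ᵁ V)),
      resB g y = (resB g g) ^ n * a :=
    fun a => exists_eq_pow_mul_of_isCompact_of_isQuasiSeparated X _ hc hqs g a
  choose n y hy using hex
  refine ⟨s.image y, fun S' h1 h2 h3 => ?_⟩
  have hunit : IsUnit (resB g g) := RingedSpace.isUnit_res_basicOpen _ g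
  obtain ⟨u, hu⟩ := hunit.exists_left_inv
  have hu' := h3 u hu
  let S'' : Subalgebra Γ(Y, V) Γ(X, X.basicOpen g) := { S' with algebraMap_mem' := h1 }
  have hle : Algebra.adjoin Γ(Y, V) (s : Set Γ(X, X.basicOpen g)) ≤ S'' := by
    refine Algebra.adjoin_le (fun a ha => ?_)
    have : a = u ^ (n a) * resB g (y a) := by
      rw [hy, ← mul_assoc, ← mul_pow, hu, one_pow, one_mul]
    show a ∈ S'
    rw [this]
    exact S'.mul_mem (S'.pow_mem hu' _) (h2 _ (Finset.mem_image_of_mem _ ha))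
  rw [hs] at hle
  rw [eq_top_iff]
  intro z _
  exact hle (Algebra.mem_top : z ∈ (⊤ : Subalgebra Γ(Y, V) Γ(X, X.basicOpen g)))

theorem isClosedImmersion_restrict_basicOpen {X Z Y : Scheme.{u}} (h : X ⟶ Z) (π : Z ⟶ Y)
    (f : X ⟶ Y) (e : h ≫ π = f) (V : Y.Opens)
    (hP : IsAffineOpen (π ⁻¹ᵁ V)) (r : Γ(Z, π ⁻¹ᵁ V))
    (hle : f ⁻¹ᵁ V ≤ h ⁻¹ᵁ (π ⁻¹ᵁ V))
    (g : Γ(X, f ⁻¹ᵁ V)) (hg : (h.appLE (π ⁻¹ᵁ V) (f ⁻¹ᵁ V) hle).hom r = g)
    (hU : IsAffineOpen (X.basicOpen g))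
    (T : Finset Γ(X, f ⁻¹ᵁ V))
    (hT : ∀ S' : Subring Γ(X, X.basicOpen g),
      (∀ a : Γ(Y, V), (f.appLE V (X.basicOpen g) (X.basicOpen_le g)).hom a ∈ S') →
      (∀ t ∈ T, resB g t ∈ S') →
      (∀ u : Γ(X, X.basicOpen g), u * resB g g = 1 → u ∈ S') → S' = ⊤)
    (hrange : ∀ t ∈ T, t ∈ Set.range (h.appLE (π ⁻¹ᵁ V) (f ⁻¹ᵁ V) hle).hom) :
    h ⁻¹ᵁ (Z.basicOpen r) = X.basicOpen g ∧ IsClosedImmersion (h ∣_ Z.basicOpen r) := by
  subst e
  have hΩP : Z.basicOpen r ≤ π ⁻¹ᵁ V := Z.basicOpen_le r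
  -- the preimage
  have hpre : h ⁻¹ᵁ (Z.basicOpen r) = X.basicOpen g := by
    rw [← hg, Scheme.preimage_basicOpen]
    have : (h.appLE (π ⁻¹ᵁ V) ((h ≫ π) ⁻¹ᵁ V) hle).hom r =
        (X.presheaf.map (homOfLE hle).op).hom ((h.app (π ⁻¹ᵁ V)).hom r) := rfl
    rw [this, Scheme.basicOpen_res]
    exact (inf_eq_right.mpr (X.basicOpen_le _)).symm
  refine ⟨hpre, ?_⟩
  have hUΩ : X.basicOpen g ≤ h ⁻¹ᵁ (Z.basicOpen r) := le_of_eq hpre.symm
  have hres : ∀ s : Γ(Z, π ⁻¹ᵁ V),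
      (h.appLE (Z.basicOpen r) (X.basicOpen g) hUΩ).hom ((Z.presheaf.map (homOfLE hΩP).op).hom s) =
        resB g ((h.appLE (π ⁻¹ᵁ V) ((h ≫ π) ⁻¹ᵁ V) hle).hom s) := by
    intro s
    show ((Z.presheaf.map (homOfLE hΩP).op) ≫ h.appLE (Z.basicOpen r) (X.basicOpen g) hUΩ).hom s =
      ((h.appLE (π ⁻¹ᵁ V) ((h ≫ π) ⁻¹ᵁ V) hle) ≫
        X.presheaf.map (homOfLE (X.basicOpen_le g)).op).hom s
    rw [Scheme.Hom.map_appLE, Scheme.Hom.appLE_map]
  -- surjectivity on sections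
  have hsurj : Function.Surjective (h.appLE (Z.basicOpen r) (X.basicOpen g) hUΩ).hom := by
    have htop := hT (h.appLE (Z.basicOpen r) (X.basicOpen g) hUΩ).hom.range ?_ ?_ ?_
    · intro z
      have : z ∈ (h.appLE (Z.basicOpen r) (X.basicOpen g) hUΩ).hom.range := by rw [htop]; trivial
      exact this
    · intro a
      refine ⟨(π.appLE V (Z.basicOpen r) hΩP).hom a, ?_⟩
      rw [← CommRingCat.comp_apply, Scheme.Hom.appLE_comp_appLE]
    · intro t ht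
      obtain ⟨rt, rfl⟩ := hrange t ht
      exact ⟨(Z.presheaf.map (homOfLE hΩP).op).hom rt, hres rt⟩
    · intro u hu
      have hunit : IsUnit ((Z.presheaf.map (homOfLE hΩP).op).hom r) :=
        RingedSpace.isUnit_res_basicOpen _ r
      obtain ⟨v, hv⟩ := hunit.exists_left_inv
      have hv' : (h.appLE (Z.basicOpen r) (X.basicOpen g) hUΩ).hom v * resB g g = 1 := by
        have hrg := hres r
        rw [hg] at hrg
        rw [← hrg, ← map_mul, hv, map_one]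
      have : u = (h.appLE (Z.basicOpen r) (X.basicOpen g) hUΩ).hom v := by
        have hunit' : IsUnit (resB g g) := RingedSpace.isUnit_res_basicOpen _ g
        exact hunit'.mul_left_injective (hu.trans hv'.symm)
      rw [this]
      exact ⟨v, rfl⟩
  have hΩaff : IsAffineOpen (Z.basicOpen r) := hP.basicOpen r
  haveI : IsAffine (Z.basicOpen r).toScheme := hΩaff
  rw [HasAffineProperty.iff_of_isAffine (P := @IsClosedImmersion)]
  refine ⟨?_, ?_⟩
  · change IsAffineOpen (h ⁻¹ᵁ (Z.basicOpen r))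
    rw [hpre]; exact hU
  · have hs : Function.Surjective (h.app (Z.basicOpen r)) := by
      have h1 : h.appLE (Z.basicOpen r) (X.basicOpen g) hUΩ =
          h.app (Z.basicOpen r) ≫ X.presheaf.map (homOfLE hUΩ).op := rfl
      have h2 : Function.Bijective (X.presheaf.map (homOfLE hUΩ).op) := by
        have : IsIso (X.presheaf.map (homOfLE hUΩ).op) := by
          have : homOfLE hUΩ = eqToHom hpre.symm := rfl
          rw [this]; infer_instance
        exact ConcreteCategory.bijective_of_isIso _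
      intro z
      obtain ⟨w, hw⟩ := hsurj ((X.presheaf.map (homOfLE hUΩ).op) z)
      refine ⟨w, h2.1 ?_⟩
      rw [← hw, h1]; rfl
    have key : ∀ W : Z.Opens, W = Z.basicOpen r → Function.Surjective (h.app W) := by
      rintro W rfl; exact hs
    rw [morphismRestrict_appTop]
    have h3 := key ((Z.basicOpen r).ι ''ᵁ ⊤) (by simp)
    have h4 : Function.Bijective (X.presheaf.map (eqToHom
        (image_morphismRestrict_preimage h (Z.basicOpen r) ⊤)).op) :=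
      ConcreteCategory.bijective_of_isIso _
    exact h4.2.comp h3

/-- the property produced by `exists_finset_good` -/
def Good (f : X ⟶ Y) (V : Y.Opens) (g : Γ(X, f ⁻¹ᵁ V)) (T : Finset Γ(X, f ⁻¹ᵁ V)) : Prop :=
  ∀ S' : Subring Γ(X, X.basicOpen g),
      (∀ a : Γ(Y, V), (f.appLE V (X.basicOpen g) (X.basicOpen_le g)).hom a ∈ S') →
      (∀ t ∈ T, resB g t ∈ S') →
      (∀ u : Γ(X, X.basicOpen g), u * resB g g = 1 → u ∈ S') → S' = ⊤

theorem isImmersion_of_local {X Z Y : Scheme.{u}} (h : X ⟶ Z) (π : Z ⟶ Y) [IsAffineHom π]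
    (f : X ⟶ Y) (e : h ≫ π = f)
    (hcov : ∀ x : X, ∃ (V : Y.Opens) (_ : IsAffineOpen V) (g : Γ(X, f ⁻¹ᵁ V))
      (T : Finset Γ(X, f ⁻¹ᵁ V)), x ∈ X.basicOpen g ∧ IsAffineOpen (X.basicOpen g) ∧
        Good f V g T ∧ ∀ t, (t = g ∨ t ∈ T) → ∃ r : Γ(Z, π ⁻¹ᵁ V),
          (h.appLE (π ⁻¹ᵁ V) (f ⁻¹ᵁ V) (by rw [← e]; exact le_rfl)).hom r = t) :
    IsImmersion h := by
  have : MorphismProperty.RespectsRight @IsImmersion @IsOpenImmersion :=
    ⟨fun i hi f hf => by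
      have : IsImmersion f := hf
      have : IsOpenImmersion i := hi
      exact inferInstanceAs (IsImmersion (f ≫ i))⟩
  refine IsZariskiLocalAtTarget.of_range_subset_iSup (P := @IsImmersion)
    (fun k : {Ω : Z.Opens // IsClosedImmersion (h ∣_ Ω)} => k.1) ?_ (fun k => ?_)
  · rintro _ ⟨x, rfl⟩
    obtain ⟨V, hV, g, T, hxg, hU, hT, hr⟩ := hcov x
    obtain ⟨r, hrg⟩ := hr g (Or.inl rfl)
    have hle : f ⁻¹ᵁ V ≤ h ⁻¹ᵁ (π ⁻¹ᵁ V) := by rw [← e]; exact le_rfl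
    obtain ⟨hpre, hcl⟩ := isClosedImmersion_restrict_basicOpen h π f e V (hV.preimage π) r hle g hrg
      hU T hT (fun t ht => hr t (Or.inr ht))
    refine TopologicalSpace.Opens.mem_iSup.mpr ⟨⟨Z.basicOpen r, hcl⟩, ?_⟩
    show x ∈ h ⁻¹ᵁ (Z.basicOpen r)
    rw [hpre]; exact hxg
  · haveI := k.2
    infer_instance

end Groth.Agent.Lib.R2H2.QAffLocal
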