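import Mathlib
import Groth.Prelude.Def_RelSpec
import Groth.Agent.Lib.Helper18QCAlg1
import Groth.Agent.Lib.Helper23FTsub

set_option autoImplicit false
set_option linter.style.haveILetI false
universe u
open CategoryTheory CategoryTheory.Limits AlgebraicGeometry TopologicalSpace Opposite

namespace Groth.Agent.Lib.R2H2.QCohAlg

open Groth.Agent.Lib.Helper2.Push Groth.Agent.Lib.Helper23.QCohLocal Groth.Agent.Helper18QCAlg
  Groth.Agent.Lib.Helper23.Extend

variable {X : Scheme.{u}} (B : RelSpec.QCAlg X) {E : X.Modules} (j : E ⟶ B.toModule)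

/-- restriction of sections of `B` -/
noncomputable abbrev rB {V W : X.Opens} (h : V ≤ W) : B.presheaf.obj (op W) →+* B.presheaf.obj (op V) :=
  (B.presheaf.map (homOfLE h).op).hom

/-- restriction of functions -/
noncomputable abbrev rO {V W : X.Opens} (h : V ≤ W) : Γ(X, W) →+* Γ(X, V) :=
  (X.presheaf.map (homOfLE h).op).hom

/-- the structure map on sections -/
noncomputable abbrev st (V : X.Opens) : Γ(X, V) →+* B.presheaf.obj (op V) := (B.str.app (op V)).hom

/-- `j` on sections, with values in the ring `B(V)`. -/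
noncomputable def jj (V : X.Opens) (e : Γ(E, V)) : B.presheaf.obj (op V) := j.app V e

theorem rB_rB {U V W : X.Opens} (h₁ : U ≤ V) (h₂ : V ≤ W) (x : B.presheaf.obj (op W)) :
    rB B h₁ (rB B h₂ x) = rB B (h₁.trans h₂) x := by
  change ((B.presheaf.map (homOfLE h₂).op) ≫ (B.presheaf.map (homOfLE h₁).op)).hom x = _
  rw [← Functor.map_comp]; rfl

theorem rB_self {U : X.Opens} (h : U ≤ U) (x : B.presheaf.obj (op U)) : rB B h x = x := by
  have : (homOfLE h).op = 𝟙 (op U) := rfl
  simp [rB]

theorem rB_st {V W : X.Opens} (h : V ≤ W) (r : Γ(X, W)) :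
    rB B h (st B W r) = st B V (rO h r) := str_res_apply' B h r

theorem rB_jj {V W : X.Opens} (h : V ≤ W) (e : Γ(E, W)) :
    rB B h (jj B j W e) = jj B j V (E.presheaf.map (homOfLE h).op e) :=
  (app_map j (homOfLE h) e).symm

theorem jj_smul (V : X.Opens) (r : Γ(X, V)) (e : Γ(E, V)) :
    jj B j V (r • e) = st B V r * jj B j V e := by
  have := Scheme.Modules.Hom.app_smul j r e
  exact this

theorem jj_add (V : X.Opens) (e e' : Γ(E, V)) :
    jj B j V (e + e') = jj B j V e + jj B j V e' := map_add (j.app V).hom e e'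

/-- the subring of `B(V)` generated by the functions and the sections of `E`. -/
noncomputable def gen (V : X.Opens) : Subring (B.presheaf.obj (op V)) :=
  Subring.closure (Set.range (st B V) ∪ Set.range (jj B j V))

theorem st_mem_gen (V : X.Opens) (r : Γ(X, V)) : st B V r ∈ gen B j V :=
  Subring.subset_closure (Or.inl ⟨r, rfl⟩)

theorem jj_mem_gen (V : X.Opens) (e : Γ(E, V)) : jj B j V e ∈ gen B j V :=
  Subring.subset_closure (Or.inr ⟨e, rfl⟩)

theorem rB_mem_gen {V W : X.Opens} (h : V ≤ W) {t : B.presheaf.obj (op W)} (ht : t ∈ gen B j W) :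
    rB B h t ∈ gen B j V := by
  induction ht using Subring.closure_induction with
  | mem x hx =>
    rcases hx with ⟨r, rfl⟩ | ⟨e, rfl⟩
    · rw [rB_st]; exact st_mem_gen B j V _
    · rw [rB_jj]; exact jj_mem_gen B j V _
  | zero => rw [map_zero]; exact Subring.zero_mem _
  | one => rw [map_one]; exact Subring.one_mem _
  | add x y _ _ hx hy => rw [map_add]; exact Subring.add_mem _ hx hy
  | neg x _ hx => rw [map_neg]; exact Subring.neg_mem _ hx
  | mul x y _ _ hx hy => rw [map_mul]; exact Subring.mul_mem _ hx hy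

section loc

variable [E.IsQuasicoherent] {V : X.Opens} (hV : IsAffineOpen V) (f : Γ(X, V))

/-- the restriction of `f` to `D(f)` -/
noncomputable abbrev fres : Γ(X, X.basicOpen f) := rO (X.basicOpen_le f) f

theorem isUnit_fres : IsUnit (fres f) := RingedSpace.isUnit_res_basicOpen _ f

include hV in
/-- elements of the generated subring over `D(f)` come from the generated subring over `V`, up to
a power of `f`. -/
theorem exists_mem_gen_of_basicOpen {t : B.presheaf.obj (op (X.basicOpen f))}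
    (ht : t ∈ gen B j (X.basicOpen f)) :
    ∃ (n : ℕ) (t' : B.presheaf.obj (op V)), t' ∈ gen B j V ∧
      rB B (X.basicOpen_le f) t' = st B _ (fres f) ^ n * t := by
  induction ht using Subring.closure_induction with
  | mem x hx =>
    rcases hx with ⟨r, rfl⟩ | ⟨e, rfl⟩
    · haveI := hV.isLocalization_basicOpen f
      obtain ⟨⟨a, m⟩, hm⟩ := IsLocalization.surj (Submonoid.powers f) r
      obtain ⟨n, hn⟩ := m.2
      refine ⟨n, st B V a, st_mem_gen B j V a, ?_⟩
      rw [rB_st, ← map_pow, ← map_mul]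
      congr 1
      have h1 : (algebraMap Γ(X, V) Γ(X, X.basicOpen f)) a = rO (X.basicOpen_le f) a := rfl
      have h2 : (algebraMap Γ(X, V) Γ(X, X.basicOpen f)) (m : Γ(X, V)) =
          rO (X.basicOpen_le f) (m : Γ(X, V)) := rfl
      rw [← h1, ← hm, h2, ← hn, map_pow, mul_comm]
    · obtain ⟨n, e', he'⟩ := (IsLocOn.of_isQuasicoherent hV E).exists_extension f e
      refine ⟨n, jj B j V e', jj_mem_gen B j V e', ?_⟩
      rw [rB_jj, he', jj_smul, map_pow]
  | zero => exact ⟨0, 0, Subring.zero_mem _, by simp⟩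
  | one => exact ⟨0, 1, Subring.one_mem _, by simp⟩
  | add x y _ _ hx hy =>
    obtain ⟨n, x', hx', hxe⟩ := hx
    obtain ⟨m, y', hy', hye⟩ := hy
    refine ⟨n + m, st B V (f ^ m) * x' + st B V (f ^ n) * y',
      Subring.add_mem _ (Subring.mul_mem _ (st_mem_gen B j V _) hx')
        (Subring.mul_mem _ (st_mem_gen B j V _) hy'), ?_⟩
    rw [map_add, map_mul, map_mul, rB_st, rB_st, hxe, hye, map_pow, map_pow, map_pow, map_pow]
    ring
  | neg x _ hx =>
    obtain ⟨n, x', hx', hxe⟩ := hx
    exact ⟨n, -x', Subring.neg_mem _ hx', by rw [map_neg, hxe]; ring⟩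
  | mul x y _ _ hx hy =>
    obtain ⟨n, x', hx', hxe⟩ := hx
    obtain ⟨m, y', hy', hye⟩ := hy
    refine ⟨n + m, x' * y', Subring.mul_mem _ hx' hy', ?_⟩
    rw [map_mul, hxe, hye]
    ring

include hV in
omit [E.IsQuasicoherent] in
/-- if `B(V)` is generated, so is `B(D(f))`. -/
theorem gen_basicOpen_eq_top (h : gen B j V = ⊤) : gen B j (X.basicOpen f) = ⊤ := by
  rw [eq_top_iff]
  rintro b -
  obtain ⟨n, t, ht⟩ := exists_extension_aux B hV f b
  obtain ⟨u, hu⟩ := (isUnit_fres f).exists_left_inv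
  have h1 : b = st B _ (u ^ n) * rB B (X.basicOpen_le f) t := by
    change rB B (X.basicOpen_le f) t = _ at ht
    rw [ht, ← mul_assoc, ← map_mul, ← mul_pow, hu, one_pow, map_one, one_mul]
  rw [h1]
  exact Subring.mul_mem _ (st_mem_gen B j _ _)
    (rB_mem_gen B j _ (by rw [h]; exact Subring.mem_top _))

include hV in
theorem exists_pow_mul_mem_gen {b : B.presheaf.obj (op V)}
    (hb : rB B (X.basicOpen_le f) b ∈ gen B j (X.basicOpen f)) :
    ∃ N : ℕ, st B V (f ^ N) * b ∈ gen B j V := by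
  obtain ⟨n, t', ht', he⟩ := exists_mem_gen_of_basicOpen B j hV f hb
  have h0 : (B.presheaf.map (homOfLE (X.basicOpen_le f)).op).hom (t' - st B V (f ^ n) * b) = 0 := by
    change rB B (X.basicOpen_le f) (t' - st B V (f ^ n) * b) = 0
    rw [map_sub, map_mul, rB_st, he, map_pow, map_pow, sub_self]
  obtain ⟨m, hm⟩ := exists_pow_aux B hV f _ h0
  refine ⟨m + n, ?_⟩
  have h2 : st B V (f ^ (m + n)) * b = st B V (f ^ m) * t' := by
    have h3 : st B V (f ^ m) * (t' - st B V (f ^ n) * b) = 0 := hm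
    rw [mul_sub, sub_eq_zero] at h3
    rw [h3, pow_add, map_mul, mul_assoc]
  rw [h2]
  exact Subring.mul_mem _ (st_mem_gen B j V _) ht'

end loc

section glue

variable [E.IsQuasicoherent] {V : X.Opens} (hV : IsAffineOpen V)

include hV in
theorem mem_gen_of_finset {b : B.presheaf.obj (op V)} (s : Finset Γ(X, V))
    (hs : Ideal.span (s : Set Γ(X, V)) = ⊤)
    (hb : ∀ f ∈ s, rB B (X.basicOpen_le f) b ∈ gen B j (X.basicOpen f)) : b ∈ gen B j V := by
  have h1 : ∀ f ∈ s, ∃ N : ℕ, st B V (f ^ N) * b ∈ gen B j V :=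
    fun f hf => exists_pow_mul_mem_gen B j hV f (hb f hf)
  choose! N hN using h1
  let M := s.sup N
  let I : Ideal Γ(X, V) :=
    { carrier := {a | st B V a * b ∈ gen B j V}
      add_mem' := fun {a a'} ha ha' => by
        show st B V (a + a') * b ∈ gen B j V
        rw [map_add, add_mul]; exact Subring.add_mem _ ha ha'
      zero_mem' := by
        show st B V 0 * b ∈ gen B j V
        rw [map_zero, zero_mul]; exact Subring.zero_mem _
      smul_mem' := fun c a ha => by
        show st B V (c • a) * b ∈ gen B j V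
        rw [smul_eq_mul, map_mul, mul_assoc]
        exact Subring.mul_mem _ (st_mem_gen B j V c) ha }
  have hI : Ideal.span ((fun x => x ^ M) '' (s : Set Γ(X, V))) ≤ I := by
    rw [Ideal.span_le]
    rintro _ ⟨f, hf, rfl⟩
    show st B V (f ^ M) * b ∈ gen B j V
    have hle : N f ≤ M := Finset.le_sup (f := N) hf
    obtain ⟨k, hk⟩ := Nat.exists_eq_add_of_le hle
    rw [hk, pow_add, mul_comm (f ^ N f), map_mul, mul_assoc]
    exact Subring.mul_mem _ (st_mem_gen B j V _) (hN f hf)
  rw [Ideal.span_pow_eq_top _ hs M] at hI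
  have h1 : (1 : Γ(X, V)) ∈ I := hI Submodule.mem_top
  have h2 : st B V 1 * b ∈ gen B j V := h1
  rwa [map_one, one_mul] at h2

include hV in
/-- local membership in the generated subring implies membership, over an affine open. -/
theorem mem_gen_of_locally {b : B.presheaf.obj (op V)}
    (hb : ∀ x ∈ V, ∃ (W : X.Opens) (hW : W ≤ V), x ∈ W ∧ rB B hW b ∈ gen B j W) :
    b ∈ gen B j V := by
  have h1 : ∀ x : V, ∃ f : Γ(X, V), (x : X) ∈ X.basicOpen f ∧
      rB B (X.basicOpen_le f) b ∈ gen B j (X.basicOpen f) := by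
    intro x
    obtain ⟨W, hW, hxW, hbW⟩ := hb x x.2
    obtain ⟨f, hfW, hxf⟩ := hV.exists_basicOpen_le ⟨x, hxW⟩ x.2
    refine ⟨f, hxf, ?_⟩
    have := rB_mem_gen B j hfW hbW
    rwa [rB_rB] at this
  choose F hxF hbF using h1
  have hcov : ⨆ f : Set.range F, X.basicOpen (f : Γ(X, V)) = V := by
    apply le_antisymm
    · exact iSup_le fun f => X.basicOpen_le _
    · intro x hx
      exact Opens.mem_iSup.mpr ⟨⟨F ⟨x, hx⟩, ⟨_, rfl⟩⟩, hxF ⟨x, hx⟩⟩
  rw [hV.iSup_basicOpen_eq_self_iff] at hcov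
  obtain ⟨s, hs, hs'⟩ := (Ideal.span_eq_top_iff_finite _).mp hcov
  refine mem_gen_of_finset B j hV s hs' ?_
  intro f hf
  obtain ⟨x, rfl⟩ := hs hf
  exact hbF x

omit [E.IsQuasicoherent] in
theorem gen_eq_top_of_eq {W W' : X.Opens} (h : W = W') (hW : gen B j W = ⊤) : gen B j W' = ⊤ := by
  subst h; exact hW

include hV in
/-- generation can be checked on an affine open cover. -/
theorem gen_eq_top_of_cover {ι : Type*} (U : ι → X.Opens) (hU : ∀ i, IsAffineOpen (U i))
    (hcov : ∀ x : X, ∃ i, x ∈ U i) (hgen : ∀ i, gen B j (U i) = ⊤) : gen B j V = ⊤ := by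
  rw [eq_top_iff]
  rintro b -
  refine mem_gen_of_locally B j hV ?_
  intro x hx
  obtain ⟨i, hi⟩ := hcov x
  obtain ⟨f, g, hfg, hxf⟩ := exists_basicOpen_le_affine_inter hV (hU i) x ⟨hx, hi⟩
  refine ⟨X.basicOpen f, X.basicOpen_le f, hxf, ?_⟩
  rw [gen_eq_top_of_eq B j hfg.symm (gen_basicOpen_eq_top B j (hU i) g (hgen i))]
  exact Subring.mem_top _

end glue

section main

open Groth.Agent.Lib.Helper23.FTsub in
/-- EGA I 9.6.5-type statement: on a qcqs scheme, a quasi-coherent algebra of finite type is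
generated by a quasi-coherent submodule of finite type. -/
theorem exists_generating_submodule [CompactSpace X] [QuasiSeparatedSpace X]
    (hB : ∀ U : X.affineOpens, (B.str.app (op (U : X.Opens))).hom.FiniteType) :
    ∃ (E : X.Modules) (j : E ⟶ B.toModule), Mono j ∧ E.IsQuasicoherent ∧
      SheafOfModules.IsFiniteType (R := X.ringCatSheaf) E ∧
      ∀ U : X.affineOpens, gen B j U.1 = ⊤ := by
  classical
  -- a finite affine cover
  obtain ⟨t, ht⟩ := isCompact_univ.elim_finite_subcover
    (fun U : X.affineOpens => ((U : X.Opens) : Set X)) (fun U => U.1.isOpen)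
    (by
      intro x _
      have hx : x ∈ (⨆ U : X.affineOpens, (U : X.Opens)) := by
        rw [iSup_affineOpens_eq_top]; trivial
      obtain ⟨U, hU⟩ := Opens.mem_iSup.mp hx
      exact Set.mem_iUnion.mpr ⟨U, hU⟩)
  -- generators
  have hgen : ∀ U : X.affineOpens, ∃ s : Finset (B.presheaf.obj (op (U : X.Opens))),
      ∀ (S : Subring (B.presheaf.obj (op (U : X.Opens)))), (∀ r, st B U.1 r ∈ S) →
        (∀ b ∈ s, b ∈ S) → S = ⊤ := by
    intro U
    letI := (B.str.app (op (U : X.Opens))).hom.toAlgebra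
    obtain ⟨s, hs⟩ : (⊤ : Subalgebra Γ(X, U.1) (B.presheaf.obj (op (U : X.Opens)))).FG := (hB U).out
    refine ⟨s, fun S h1 h2 => ?_⟩
    rw [eq_top_iff]
    rintro b -
    have hb : b ∈ Algebra.adjoin Γ(X, U.1) (s : Set (B.presheaf.obj (op (U : X.Opens)))) := by
      rw [hs]; trivial
    induction hb using Algebra.adjoin_induction with
    | mem x hx => exact h2 x hx
    | algebraMap r => exact h1 r
    | add x y _ _ hx hy => exact S.add_mem hx hy
    | mul x y _ _ hx hy => exact S.mul_mem hx hy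
  choose s hs using hgen
  let a₀ : Σ U : X.affineOpens, Γ(B.toModule, U.1) := ⟨⟨⊥, isAffineOpen_bot X⟩, 0⟩
  let l : List (Σ U : X.affineOpens, Γ(B.toModule, U.1)) :=
    t.toList.flatMap (fun U => (s U).toList.map (fun b => ⟨U, b⟩))
  obtain ⟨E, i, hi, hq, hf, hmem⟩ := exists_ft_sub_list B.toModule a₀ l
  haveI := hq
  refine ⟨E, i, hi, hq, hf, ?_⟩
  have hcover : ∀ x : X, ∃ U : t, x ∈ (U : X.affineOpens).1 := by
    intro x
    have := ht (Set.mem_univ x)
    simp only [Set.mem_iUnion] at this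
    obtain ⟨U, hU, hx⟩ := this
    exact ⟨⟨U, hU⟩, hx⟩
  have hgenU : ∀ U : t, gen B i (U : X.affineOpens).1 = ⊤ := by
    rintro ⟨U, hU⟩
    refine hs U _ ?_ ?_
    · intro r; exact st_mem_gen B i _ r
    · intro b hb
      have hmem' : (⟨U, b⟩ : Σ U : X.affineOpens, Γ(B.toModule, U.1)) ∈ a₀ :: l := by
        refine List.mem_cons_of_mem _ ?_
        rw [List.mem_flatMap]
        exact ⟨U, Finset.mem_toList.mpr hU, List.mem_map.mpr ⟨b, Finset.mem_toList.mpr hb, rfl⟩⟩
      obtain ⟨g, hg⟩ := hmem _ hmem'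
      have : jj B i U.1 g = b := hg
      rw [← this]
      exact jj_mem_gen B i _ g
  intro V
  exact gen_eq_top_of_cover B i V.2 (fun U : t => (U : X.affineOpens).1)
    (fun U => (U : X.affineOpens).2) hcover hgenU

end main

end Groth.Agent.Lib.R2H2.QCohAlg
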