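import Mathlib
import Groth.Agent.Lib.R2H2QCohAlg

set_option autoImplicit false
set_option linter.style.haveILetI false
universe u
open CategoryTheory CategoryTheory.Limits AlgebraicGeometry TopologicalSpace Opposite

namespace Groth.Agent.Lib.R2H2.QCohSubAlg

open Groth.Agent.Lib.Helper2.Push Groth.Agent.Lib.Helper23.QCohLocal Groth.Agent.Helper18QCAlg
  Groth.Agent.Lib.Helper23.Extend Groth.Agent.Lib.R2H2.QCohAlg

variable {X : Scheme.{u}} (B : RelSpec.QCAlg X) {E : X.Modules} (j : E ⟶ B.toModule)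

/-- sections of `B` lying locally in the subring generated by `E`. -/
noncomputable def locGen (V : X.Opens) : Subring (B.presheaf.obj (op V)) where
  carrier := {b | ∀ x ∈ V, ∃ (W : X.Opens) (hW : W ≤ V), x ∈ W ∧ rB B hW b ∈ gen B j W}
  mul_mem' := by
    intro a b ha hb x hx
    obtain ⟨W₁, hW₁, hx₁, h₁⟩ := ha x hx
    obtain ⟨W₂, hW₂, hx₂, h₂⟩ := hb x hx
    refine ⟨W₁ ⊓ W₂, inf_le_left.trans hW₁, ⟨hx₁, hx₂⟩, ?_⟩
    rw [map_mul]
    refine Subring.mul_mem _ ?_ ?_
    · have := rB_mem_gen B j (inf_le_left : W₁ ⊓ W₂ ≤ W₁) h₁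
      rwa [rB_rB] at this
    · have := rB_mem_gen B j (inf_le_right : W₁ ⊓ W₂ ≤ W₂) h₂
      rwa [rB_rB] at this
  one_mem' := fun x hx => ⟨V, le_rfl, hx, by rw [map_one]; exact Subring.one_mem _⟩
  add_mem' := by
    intro a b ha hb x hx
    obtain ⟨W₁, hW₁, hx₁, h₁⟩ := ha x hx
    obtain ⟨W₂, hW₂, hx₂, h₂⟩ := hb x hx
    refine ⟨W₁ ⊓ W₂, inf_le_left.trans hW₁, ⟨hx₁, hx₂⟩, ?_⟩
    rw [map_add]
    refine Subring.add_mem _ ?_ ?_
    · have := rB_mem_gen B j (inf_le_left : W₁ ⊓ W₂ ≤ W₁) h₁
      rwa [rB_rB] at this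
    · have := rB_mem_gen B j (inf_le_right : W₁ ⊓ W₂ ≤ W₂) h₂
      rwa [rB_rB] at this
  zero_mem' := fun x hx => ⟨V, le_rfl, hx, by rw [map_zero]; exact Subring.zero_mem _⟩
  neg_mem' := by
    intro a ha x hx
    obtain ⟨W₁, hW₁, hx₁, h₁⟩ := ha x hx
    exact ⟨W₁, hW₁, hx₁, by rw [map_neg]; exact Subring.neg_mem _ h₁⟩

theorem mem_locGen_iff {V : X.Opens} (b : B.presheaf.obj (op V)) :
    b ∈ locGen B j V ↔ ∀ x ∈ V, ∃ (W : X.Opens) (hW : W ≤ V), x ∈ W ∧ rB B hW b ∈ gen B j W :=
  Iff.rfl

theorem gen_le_locGen (V : X.Opens) : gen B j V ≤ locGen B j V := by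
  intro b hb x hx
  exact ⟨V, le_rfl, hx, by rwa [rB_self]⟩

theorem locGen_eq_gen [E.IsQuasicoherent] {V : X.Opens} (hV : IsAffineOpen V) :
    locGen B j V = gen B j V :=
  le_antisymm (fun _ hb => mem_gen_of_locally B j hV hb) (gen_le_locGen B j V)

theorem rB_mem_locGen {V W : X.Opens} (h : V ≤ W) {b : B.presheaf.obj (op W)}
    (hb : b ∈ locGen B j W) : rB B h b ∈ locGen B j V := by
  intro x hx
  obtain ⟨W₁, hW₁, hx₁, h₁⟩ := hb x (h hx)
  refine ⟨W₁ ⊓ V, inf_le_right, ⟨hx₁, hx⟩, ?_⟩
  rw [rB_rB]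
  have := rB_mem_gen B j (inf_le_left : W₁ ⊓ V ≤ W₁) h₁
  rwa [rB_rB] at this

/-- the presheaf of rings `V ↦ locGen V`. -/
noncomputable def subPresheaf : TopCat.Presheaf CommRingCat.{u} X.carrier where
  obj V := CommRingCat.of (locGen B j V.unop)
  map {V W} i := CommRingCat.ofHom
    ((B.presheaf.map i).hom.restrict (locGen B j V.unop) (locGen B j W.unop)
      (fun b hb => rB_mem_locGen B j (leOfHom i.unop) hb))
  map_id V := by
    ext b
    change (B.presheaf.map (𝟙 V)).hom b.1 = b.1
    rw [B.presheaf.map_id]; rfl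
  map_comp {U V W} i k := by
    ext b
    change (B.presheaf.map (i ≫ k)).hom b.1 = (B.presheaf.map k).hom ((B.presheaf.map i).hom b.1)
    rw [B.presheaf.map_comp]; rfl

theorem subPresheaf_map_val {V W : (Opens X.carrier)ᵒᵖ} (i : V ⟶ W)
    (b : (subPresheaf B j).obj V) :
    (((subPresheaf B j).map i).hom b : locGen B j W.unop).1 =
      (B.presheaf.map i).hom (b : locGen B j V.unop).1 := rfl

theorem subPresheaf_isSheaf : (subPresheaf B j).IsSheaf := by
  rw [TopCat.Presheaf.isSheaf_iff_isSheafUniqueGluing]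
  intro ι U sf hsf
  -- glue in `B`
  have hcomp : TopCat.Presheaf.IsCompatible B.presheaf U
      (fun i => ((sf i : locGen B j (U i)).1 : B.presheaf.obj (op (U i)))) := by
    intro i k
    have := congrArg Subtype.val (hsf i k)
    exact this
  obtain ⟨s, hs, hs'⟩ := TopCat.Sheaf.existsUnique_gluing ⟨B.presheaf, B.isSheaf⟩ U _ hcomp
  have hsmem : s ∈ locGen B j (iSup U) := by
    intro x hx
    obtain ⟨i, hi⟩ := Opens.mem_iSup.mp hx
    obtain ⟨W, hW, hxW, hWg⟩ := (sf i : locGen B j (U i)).2 x hi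
    refine ⟨W, hW.trans (le_iSup U i), hxW, ?_⟩
    have h1 : rB B (le_iSup U i) s = (sf i : locGen B j (U i)).1 := hs i
    rw [← rB_rB B hW (le_iSup U i), h1]
    exact hWg
  refine ⟨⟨s, hsmem⟩, ?_, ?_⟩
  · intro i
    apply Subtype.ext
    exact hs i
  · intro t ht
    apply Subtype.ext
    refine hs' _ ?_
    intro i
    exact congrArg Subtype.val (ht i)

/-- the structure map of the generated subalgebra. -/
noncomputable def subStr : X.presheaf ⟶ subPresheaf B j where
  app V := CommRingCat.ofHom ((st B V.unop).codRestrict (locGen B j V.unop)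
    (fun r => gen_le_locGen B j _ (st_mem_gen B j _ r)))
  naturality {V W} i := by
    ext r
    refine Subtype.ext ?_
    change (st B W.unop) ((X.presheaf.map i).hom r) = (B.presheaf.map i).hom (st B V.unop r)
    have := B.str.naturality i
    exact congr($(this) r)

theorem subStr_app_val (V : X.Opens) (r : Γ(X, V)) :
    ((((subStr B j).app (op V)).hom r : locGen B j V)).1 = st B V r := rfl

section qc

variable [E.IsQuasicoherent]

theorem subPresheaf_isQC : RelSpec.IsQC (subPresheaf B j) (subStr B j) := by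
  intro U hU r
  letI := ((subPresheaf B j).map (homOfLE (X.basicOpen_le r)).op).hom.toAlgebra
  have halg : ∀ b : (subPresheaf B j).obj (op U),
      ((algebraMap ((subPresheaf B j).obj (op U)) ((subPresheaf B j).obj (op (X.basicOpen r))) b :
        locGen B j (X.basicOpen r))).1 = rB B (X.basicOpen_le r) (b : locGen B j U).1 := fun b => rfl
  have hD : IsAffineOpen (X.basicOpen r) := hU.basicOpen r
  obtain ⟨u, hu⟩ := (isUnit_fres r).exists_left_inv
  refine IsLocalization.Away.mk _ ?_ ?_ ?_
  · -- the image of `r` is a unit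
    refine ⟨⟨_, ((subStr B j).app (op (X.basicOpen r))).hom u, ?_, ?_⟩, rfl⟩
    · refine Subtype.ext ?_
      change rB B (X.basicOpen_le r) (st B U r) * st B _ u = 1
      rw [rB_st, ← map_mul, mul_comm, hu, map_one]
    · refine Subtype.ext ?_
      change st B _ u * rB B (X.basicOpen_le r) (st B U r) = 1
      rw [rB_st, ← map_mul, hu, map_one]
  · intro z
    have hz : (z : locGen B j (X.basicOpen r)).1 ∈ gen B j (X.basicOpen r) := by
      rw [← locGen_eq_gen B j hD]; exact z.2
    obtain ⟨n, t', ht', he⟩ := exists_mem_gen_of_basicOpen B j hU r hz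
    refine ⟨n, ⟨t', gen_le_locGen B j U ht'⟩, ?_⟩
    refine Subtype.ext ?_
    change (z : locGen B j (X.basicOpen r)).1 * (rB B (X.basicOpen_le r) (st B U r)) ^ n =
      rB B (X.basicOpen_le r) t'
    rw [he, rB_st, mul_comm]
  · intro a b hab
    have h1 : rB B (X.basicOpen_le r) ((a : locGen B j U).1 - (b : locGen B j U).1) = 0 := by
      rw [map_sub, sub_eq_zero]
      exact congrArg Subtype.val hab
    obtain ⟨n, hn⟩ := exists_pow_aux B hU r _ h1
    refine ⟨n, ?_⟩
    refine Subtype.ext ?_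
    change (st B U r) ^ n * (a : locGen B j U).1 = (st B U r) ^ n * (b : locGen B j U).1
    have h2 : st B U (r ^ n) * ((a : locGen B j U).1 - (b : locGen B j U).1) = 0 := hn
    rw [mul_sub, sub_eq_zero, map_pow] at h2
    exact h2

/-- the quasi-coherent subalgebra of `B` generated by (the image of) `E`. -/
noncomputable def subAlg : RelSpec.QCAlg X where
  presheaf := subPresheaf B j
  isSheaf := subPresheaf_isSheaf B j
  str := subStr B j
  isQC := subPresheaf_isQC B j

/-- the inclusion of the generated subalgebra. -/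
noncomputable def subAlgι : subAlg B j ⟶ B where
  hom :=
    { app := fun V => CommRingCat.ofHom (locGen B j V.unop).subtype
      naturality := fun {V W} i => by
        ext b
        rfl }
  comm := by
    ext V r
    rfl

theorem subAlgι_injective (V : X.Opens) :
    Function.Injective ((subAlgι B j).hom.app (op V)).hom := fun _ _ h => Subtype.ext h

theorem jj_mem_range (V : X.Opens) (e : Γ(E, V)) :
    jj B j V e ∈ Set.range ((subAlgι B j).hom.app (op V)).hom :=
  ⟨⟨jj B j V e, gen_le_locGen B j V (jj_mem_gen B j V e)⟩, rfl⟩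

theorem subAlg_finiteType [hE : SheafOfModules.IsFiniteType (R := X.ringCatSheaf) E]
    {V : X.Opens} (hV : IsAffineOpen V) : ((subAlg B j).str.app (op V)).hom.FiniteType := by
  classical
  haveI : Module.Finite Γ(X, V) Γ(E, V) :=
    Groth.Agent.Lib.Helper23.FinType.finite_of_isFiniteType E hV
  obtain ⟨s, hs⟩ := (Module.finite_def.mp this : (⊤ : Submodule Γ(X, V) Γ(E, V)).FG)
  letI : Algebra Γ(X, V) ((subPresheaf B j).obj (op V)) :=
    ((subStr B j).app (op V)).hom.toAlgebra
  let mk : Γ(E, V) → (subPresheaf B j).obj (op V) := fun e =>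
    ⟨jj B j V e, gen_le_locGen B j V (jj_mem_gen B j V e)⟩
  change Algebra.FiniteType Γ(X, V) ((subPresheaf B j).obj (op V))
  refine ⟨⟨s.image mk, ?_⟩⟩
  rw [eq_top_iff]
  rintro ⟨t, ht⟩ -
  have halg : ∀ r : Γ(X, V), algebraMap Γ(X, V) ((subPresheaf B j).obj (op V)) r =
      ⟨st B V r, gen_le_locGen B j V (st_mem_gen B j V r)⟩ := fun r => rfl
  -- sections of `E`
  have hE : ∀ e : Γ(E, V), mk e ∈
      Algebra.adjoin Γ(X, V) ((s.image mk : Finset _) : Set ((subPresheaf B j).obj (op V))) := by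
    intro e
    have he : e ∈ Submodule.span Γ(X, V) (s : Set Γ(E, V)) := by rw [hs]; trivial
    induction he using Submodule.span_induction with
    | mem e he =>
      exact Algebra.subset_adjoin (Finset.mem_coe.mpr (Finset.mem_image_of_mem _ he))
    | zero =>
      have : mk 0 = 0 := Subtype.ext (map_zero (j.app V).hom)
      rw [this]; exact Subalgebra.zero_mem _
    | add e e' _ _ h h' =>
      have : mk (e + e') = mk e + mk e' := Subtype.ext (jj_add B j V e e')
      rw [this]; exact Subalgebra.add_mem _ h h'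
    | smul r e _ h =>
      have : mk (r • e) = algebraMap Γ(X, V) ((subPresheaf B j).obj (op V)) r * mk e :=
        Subtype.ext (jj_smul B j V r e)
      rw [this]; exact Subalgebra.mul_mem _ (Subalgebra.algebraMap_mem _ r) h
  have htg : t ∈ gen B j V := by rw [← locGen_eq_gen B j hV]; exact ht
  let mk' : ∀ t : B.presheaf.obj (op V), t ∈ locGen B j V → (subPresheaf B j).obj (op V) :=
    fun t h => ⟨t, h⟩
  have key : ∀ (t : B.presheaf.obj (op V)) (_ : t ∈ gen B j V) (ht' : t ∈ locGen B j V),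
      mk' t ht' ∈
        Algebra.adjoin Γ(X, V) ((s.image mk : Finset _) : Set ((subPresheaf B j).obj (op V))) := by
    intro t htg
    induction htg using Subring.closure_induction with
    | mem x hx =>
      intro ht'
      rcases hx with ⟨r, rfl⟩ | ⟨e, rfl⟩
      · exact Subalgebra.algebraMap_mem _ r
      · exact hE e
    | zero => intro _; exact Subalgebra.zero_mem _
    | one => intro _; exact Subalgebra.one_mem _
    | add x y hx hy ihx ihy =>
      intro _
      exact Subalgebra.add_mem _ (ihx (gen_le_locGen B j V hx)) (ihy (gen_le_locGen B j V hy))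
    | neg x hx ihx =>
      intro _
      exact Subalgebra.neg_mem _ (ihx (gen_le_locGen B j V hx))
    | mul x y hx hy ihx ihy =>
      intro _
      exact Subalgebra.mul_mem _ (ihx (gen_le_locGen B j V hx)) (ihy (gen_le_locGen B j V hy))
  exact key t htg ht

/-- a quasi-coherent submodule of finite type generates a quasi-coherent subalgebra of finite
type. -/
theorem exists_subalgebra_of_submodule [SheafOfModules.IsFiniteType (R := X.ringCatSheaf) E] :
    ∃ (B' : RelSpec.QCAlg X) (φ : B' ⟶ B),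
      (∀ V : X.Opens, Function.Injective (φ.hom.app (op V)).hom) ∧
      (∀ V : X.affineOpens, (B'.str.app (op (V : X.Opens))).hom.FiniteType) ∧
      ∀ (V : X.Opens) (e : Γ(E, V)), jj B j V e ∈ Set.range (φ.hom.app (op V)).hom :=
  ⟨subAlg B j, subAlgι B j, subAlgι_injective B j, fun V => subAlg_finiteType B j V.2,
    jj_mem_range B j⟩

end qc

end Groth.Agent.Lib.R2H2.QCohSubAlg
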