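import Mathlib
import Groth.Prelude.Def_RelSpec
import Groth.Prelude.Def_Mor2
import Groth.Agent.Lib.R2H2QAffLocal
import Groth.Agent.Lib.R2H2QCohSubAlg
import Groth.Agent.Lib.Helper10QAffRelSpec
import Groth.Agent.Lib.Helper13RelSpecLocal
import Groth.Agent.Lib.Helper23FTsub

set_option autoImplicit false
set_option linter.style.haveILetI false
universe u
open CategoryTheory CategoryTheory.Limits AlgebraicGeometry TopologicalSpace Opposite

namespace Groth.Agent.Lib.R2H2.QAffFactor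

open Groth.Agent.Lib.R2H2.QAffLocal Groth.Agent.Lib.R2H2.QCohSubAlg Groth.Agent.Lib.R2H2.QCohAlg
  Groth.Agent.Lib.Helper10.RelSpecHom

variable {X Y : Scheme.{u}}

theorem quasiSeparated_of_isQuasiAffine (f : X ⟶ Y) (hf : Mor2.IsQuasiAffine f) :
    QuasiSeparated f := by
  rw [HasAffineProperty.eq_targetAffineLocally (P := @QuasiSeparated)]
  intro U
  show QuasiSeparatedSpace (f ⁻¹ᵁ U.1).toScheme
  haveI := hf.2 U.1 U.2
  infer_instance

/-- local data for a quasi-affine morphism of finite type over an affine open -/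
theorem exists_local_data (f : X ⟶ Y) (hf : Mor2.IsQuasiAffine f) [LocallyOfFiniteType f]
    (V : Y.Opens) (hV : IsAffineOpen V) :
    ∃ G : Finset Γ(X, f ⁻¹ᵁ V), (∀ g ∈ G, IsAffineOpen (X.basicOpen g)) ∧
      ∀ x ∈ f ⁻¹ᵁ V, ∃ g ∈ G, x ∈ X.basicOpen g := by
  classical
  haveI := hf.2 V hV
  haveI : QuasiCompact f := hf.1
  have hc : IsCompact (f ⁻¹ᵁ V : Set X) := QuasiCompact.isCompact_preimage (f := f) _ V.2 hV.isCompact
  have h1 : ∀ x : (f ⁻¹ᵁ V : Set X), ∃ g : Γ(X, f ⁻¹ᵁ V), IsAffineOpen (X.basicOpen g) ∧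
      (x : X) ∈ X.basicOpen g := fun x => exists_basicOpen_affine (f ⁻¹ᵁ V) x.1 x.2
  choose g hg1 hg2 using h1
  obtain ⟨t, ht⟩ := hc.elim_finite_subcover (fun x : (f ⁻¹ᵁ V : Set X) => (X.basicOpen (g x) : Set X))
    (fun x => (X.basicOpen (g x)).2) (fun x hx => Set.mem_iUnion.mpr ⟨⟨x, hx⟩, hg2 ⟨x, hx⟩⟩)
  refine ⟨t.image g, ?_, ?_⟩
  · intro g' hg'
    obtain ⟨x, -, rfl⟩ := Finset.mem_image.mp hg'
    exact hg1 x
  · intro x hx
    obtain ⟨y, hy⟩ := Set.mem_iUnion.mp (ht hx)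
    obtain ⟨hyt, hxy⟩ := Set.mem_iUnion.mp hy
    exact ⟨g y, Finset.mem_image_of_mem _ hyt, hxy⟩

theorem exists_factor [CompactSpace Y] [QuasiSeparatedSpace Y]
    (f : X ⟶ Y) (hf : Mor2.IsQuasiAffine f) [LocallyOfFiniteType f] :
    ∃ (X'' : Scheme.{u}) (g : X'' ⟶ Y) (j : X ⟶ X''),
      IsAffineHom g ∧ LocallyOfFiniteType g ∧ IsImmersion j ∧ j ≫ g = f := by
  classical
  haveI : QuasiCompact f := hf.1
  haveI : QuasiSeparated f := quasiSeparated_of_isQuasiAffine f hf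
  let A := RelSpec.QCAlg.directImage f
  -- local data
  have hG := fun V : Y.affineOpens => exists_local_data f hf V.1 V.2
  choose G hGaff hGcov using hG
  have hc : ∀ V : Y.affineOpens, IsCompact (f ⁻¹ᵁ V.1).1 := fun V =>
    QuasiCompact.isCompact_preimage (f := f) _ V.1.2 V.2.isCompact
  have hqs : ∀ V : Y.affineOpens, IsQuasiSeparated (f ⁻¹ᵁ V.1).1 := fun V =>
    f.isQuasiSeparated_preimage V.2.isQuasiSeparated
  have hT : ∀ (V : Y.affineOpens) (g : Γ(X, f ⁻¹ᵁ V.1)), ∃ T : Finset Γ(X, f ⁻¹ᵁ V.1),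
      IsAffineOpen (X.basicOpen g) → Good f V.1 g T := by
    intro V g
    by_cases hU : IsAffineOpen (X.basicOpen g)
    · obtain ⟨T, hT⟩ := exists_finset_good f V.1 V.2 (hc V) (hqs V) g hU
      exact ⟨T, fun _ => hT⟩
    · exact ⟨∅, fun h => absurd h hU⟩
  choose T hT using hT
  -- finite affine cover of `Y`
  obtain ⟨s, hs⟩ : ∃ s : Finset Y.affineOpens, ∀ y : Y, ∃ V ∈ s, y ∈ V.1 := by
    obtain ⟨t, ht⟩ := isCompact_univ.elim_finite_subcover
      (fun V : Y.affineOpens => (V.1 : Set Y)) (fun V => V.1.2) (fun y _ => by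
        obtain ⟨_, ⟨V, hV, rfl⟩, hyV, -⟩ := Y.isBasis_affineOpens.exists_subset_of_mem_open
          (Set.mem_univ y) isOpen_univ
        exact Set.mem_iUnion.mpr ⟨⟨V, hV⟩, hyV⟩)
    refine ⟨t, fun y => ?_⟩
    obtain ⟨V, hV⟩ := Set.mem_iUnion.mp (ht (Set.mem_univ y))
    obtain ⟨hVt, hyV⟩ := Set.mem_iUnion.mp hV
    exact ⟨V, hVt, hyV⟩
  -- the list of sections
  let secs : Finset (Σ V : Y.affineOpens, Γ(A.toModule, V.1)) :=
    s.sigma (fun V => (G V ∪ (G V).biUnion (T V) : Finset Γ(X, f ⁻¹ᵁ V.1)))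
  obtain ⟨E, j, hj, hEq, hEf, hmem⟩ := Groth.Agent.Lib.Helper23.FTsub.exists_ft_sub_list
    A.toModule ⟨⟨⊥, isAffineOpen_bot Y⟩, 0⟩ secs.toList
  haveI := hEq
  haveI := hEf
  let B := subAlg A j
  let φ := subAlgι A j
  -- the presheaf map
  let ω : AffAlg.alg B.π ⟶ AffAlg.alg f := B.gammaMap ≫ φ.hom
  have hω : B.π.c ≫ ω = f.c := by
    show B.π.c ≫ B.gammaMap ≫ φ.hom = f.c
    rw [← Category.assoc, B.π_c_gammaMap]
    exact φ.comm
  let h : X ⟶ B.spec := glued B.π f ω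
  have hcomp : h ≫ B.π = f := glued_comp B.π f ω hω
  refine ⟨B.spec, B.π, h, inferInstance, ?_, ?_, hcomp⟩
  · exact Groth.Agent.Helper13RelSpecLocal.locallyOfFiniteType_π B
      (fun U hU => subAlg_finiteType A j hU)
  · refine isImmersion_of_local h B.π f hcomp (fun x => ?_)
    obtain ⟨V, hVs, hxV⟩ := hs (f x)
    obtain ⟨g, hgG, hxg⟩ := hGcov V x hxV
    refine ⟨V.1, V.2, g, T V g, hxg, hGaff V g hgG, hT V g (hGaff V g hgG), ?_⟩
    intro t ht
    -- `t` is in the list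
    have htmem : (⟨V, t⟩ : Σ V : Y.affineOpens, Γ(A.toModule, V.1)) ∈ secs := by
      refine Finset.mem_sigma.mpr ⟨hVs, ?_⟩
      rcases ht with rfl | ht
      · exact Finset.mem_union_left _ hgG
      · exact Finset.mem_union_right _ (Finset.mem_biUnion.mpr ⟨g, hgG, ht⟩)
    obtain ⟨e', he'⟩ := hmem ⟨V, t⟩ (List.mem_cons_of_mem _ (Finset.mem_toList.mpr htmem))
    obtain ⟨b, hb⟩ := jj_mem_range A j V.1 e'
    have hiso : IsIso B.gammaMap := Groth.Agent.S8255.result B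
    haveI : IsIso (B.gammaMap.app (op V.1)) :=
      @NatIso.isIso_app_of_isIso _ _ _ _ _ _ _ hiso (op V.1)
    obtain ⟨r, hr⟩ := (ConcreteCategory.bijective_of_isIso (B.gammaMap.app (op V.1))).2 b
    refine ⟨r, ?_⟩
    have h1 : AffAlg.algHom B.π f h hcomp = ω := algHom_glued B.π f ω hω
    have h2 := algHom_app B.π f h hcomp V.1
    rw [h1] at h2
    rw [← h2]
    show (φ.hom.app (op V.1)).hom ((B.gammaMap.app (op V.1)).hom r) = t
    rw [hr, hb]
    exact he'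

end Groth.Agent.Lib.R2H2.QAffFactor
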