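import Groth.Agent.Lib.R2H2QuillenRes
set_option backward.isDefEq.respectTransparency.types false

/-!
# Quillen's canonical resolution: the complex (helper2, round 2)

`main20013` : a quasi-coherent regular sheaf `F` on `P^n_T` has a resolution
`0 ⟶ p^*(T_n)(-n) ⟶ ⋯ ⟶ p^*(T_0) ⟶ F ⟶ 0` with `T_i` quasi-coherent on `T`.
-/

set_option autoImplicit false
set_option linter.unusedSectionVars false
set_option linter.style.haveILetI false
universe u

namespace Groth.Agent.Lib.R2H2.QuillenCx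

open CategoryTheory CategoryTheory.Limits AlgebraicGeometry TopologicalSpace Opposite
open Groth.Agent.Lib.R2H2.KoszulRel Groth.Agent.Lib.R2H2.KoszulPnT Groth.Agent.Lib.R2Lead.KRR
  Groth.Agent.Lib.R2H2.RegK0 Groth.Agent.Lib.R2H2.QuillenRes

variable (n : ℕ) (T : Scheme.{u})

noncomputable def twFunEq {a b : ℤ} (h : a = b) : twFun n T a ≅ twFun n T b :=
  eqToIso (by rw [h])

/-- `(-)(1)(-(k+1)) ≅ (-)(-k)` -/
noncomputable def thetaN (k : ℕ) :
    twFun n T 1 ⋙ twFun n T (-((k + 1 : ℕ) : ℤ)) ≅ twFun n T (-(k : ℤ)) :=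
  Classical.choice (nonempty_twFun_comp_iso n T (-((k + 1 : ℕ) : ℤ)) 1) ≪≫
    twFunEq n T (by push_cast; ring)

/-- `(-)(-0) ≅ id` -/
noncomputable def e0 : twFun n T (-((0 : ℕ) : ℤ)) ≅ 𝟭 (KRR.PY n T).Modules :=
  twFunEq n T (by simp) ≪≫ Classical.choice (nonempty_twFun_zero_iso n T)

instance preservesEpi_twFun (d : ℤ) : (twFun n T d).PreservesEpimorphisms := by
  haveI : PreservesColimitsOfShape WalkingSpan (twFun n T d) := inferInstance
  exact preservesEpimorphisms_of_preservesColimitsOfShape _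

instance preservesMono_twFun (d : ℤ) : (twFun n T d).PreservesMonomorphisms := by
  haveI : PreservesLimitsOfShape WalkingCospan (twFun n T d) := inferInstance
  exact preservesMonomorphisms_of_preservesLimitsOfShape _

variable (F : (KRR.PY n T).Modules)

/-- the terms of the resolution -/
noncomputable abbrev LX (k : ℕ) : (KRR.PY n T).Modules :=
  (twFun n T (-(k : ℤ))).obj ((Scheme.Modules.pullback (KRR.pr n T)).obj
    ((Scheme.Modules.pushforward (KRR.pr n T)).obj (Wseq n T F k)))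

noncomputable def theta (k : ℕ) :
    (twFun n T (-((k + 1 : ℕ) : ℤ))).obj (Wseq n T F (k + 1)) ≅
      (twFun n T (-(k : ℤ))).obj (kernel (eps n T (Wseq n T F k))) :=
  (thetaN n T k).app (kernel (eps n T (Wseq n T F k)))

/-- `A_k = (ε_{W_k})(-k)` -/
noncomputable def AA (k : ℕ) : LX n T F k ⟶ (twFun n T (-(k : ℤ))).obj (Wseq n T F k) :=
  (twFun n T (-(k : ℤ))).map (eps n T (Wseq n T F k))

/-- `B_k = (ker ε_{W_k} ⟶ p^* p_* W_k)(-k)` -/
noncomputable def BB (k : ℕ) :
    (twFun n T (-(k : ℤ))).obj (kernel (eps n T (Wseq n T F k))) ⟶ LX n T F k :=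
  (twFun n T (-(k : ℤ))).map (kernel.ι (eps n T (Wseq n T F k)))

theorem BB_AA (k : ℕ) : BB n T F k ≫ AA n T F k = 0 := by
  unfold BB AA
  rw [← CategoryTheory.Functor.map_comp, kernel.condition, Functor.map_zero]

/-- the differential -/
noncomputable def dL (k : ℕ) : LX n T F (k + 1) ⟶ LX n T F k :=
  (AA n T F (k + 1) ≫ (theta n T F k).hom) ≫ BB n T F k

theorem dL_comp (k : ℕ) : dL n T F (k + 1) ≫ dL n T F k = 0 := by
  unfold dL
  simp only [Category.assoc]
  rw [reassoc_of% (BB_AA n T F (k + 1))]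
  simp

/-- the complex -/
noncomputable def LL : ChainComplex (KRR.PY n T).Modules ℕ :=
  ChainComplex.of (LX n T F) (dL n T F) (dL_comp n T F)

theorem LL_d (k : ℕ) : (LL n T F).d (k + 1) k = dL n T F k :=
  ChainComplex.of_d _ _ k

/-- `W_0(-0) ≅ F` -/
noncomputable def m0 : (twFun n T (-((0 : ℕ) : ℤ))).obj (Wseq n T F 0) ⟶ F :=
  (e0 n T).hom.app F

instance isIso_m0 : IsIso (m0 n T F) := by
  unfold m0
  exact (inferInstance : IsIso ((e0 n T).app F).hom)

/-- the augmentation in degree `0` -/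
noncomputable def pi0 : LX n T F 0 ⟶ F :=
  AA n T F 0 ≫ m0 n T F

theorem dL_pi0 : dL n T F 0 ≫ pi0 n T F = 0 := by
  unfold dL pi0
  simp only [Category.assoc]
  rw [reassoc_of% (BB_AA n T F 0)]
  simp

/-- the augmentation -/
noncomputable def piL : LL n T F ⟶ (ChainComplex.single₀ (KRR.PY n T).Modules).obj F :=
  (ChainComplex.toSingle₀Equiv (LL n T F) F).symm ⟨pi0 n T F, by
    have h : (LL n T F).d 1 0 = dL n T F 0 := LL_d n T F 0
    rw [h]
    exact dL_pi0 n T F⟩

variable {n T F}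

theorem exact_BB_AA (h : Good n T F) (k : ℕ) :
    (ShortComplex.mk (BB n T F k) (AA n T F k) (BB_AA n T F k)).Exact :=
  (shortExact_map_twFun n T (-(k : ℤ)) (ses n T (Wseq n T F k))
    (ses_shortExact (good_Wseq h k))).exact

theorem epi_AA (h : Good n T F) (k : ℕ) : Epi (AA n T F k) := by
  haveI : Epi (eps n T (Wseq n T F k)) :=
    Groth.Agent.Lib.R2H2.RegCounitB.epi_counit_of_isRegSheaf n T _ (good_Wseq h k).1
      (good_Wseq h k).2
  unfold AA
  infer_instance

theorem mono_BB (k : ℕ) : Mono (BB n T F k) := by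
  unfold BB
  infer_instance

theorem exact_dL_dL (h : Good n T F) (k : ℕ) :
    (ShortComplex.mk (dL n T F (k + 1)) (dL n T F k) (dL_comp n T F k)).Exact := by
  haveI := epi_AA h (k + 2)
  haveI := mono_BB (n := n) (T := T) (F := F) k
  have hd : dL n T F k = AA n T F (k + 1) ≫ ((theta n T F k).hom ≫ BB n T F k) := by
    unfold dL
    rw [Category.assoc]
  have key : ∀ (g : LX n T F (k + 1) ⟶ LX n T F k)
      (_ : g = AA n T F (k + 1) ≫ ((theta n T F k).hom ≫ BB n T F k))
      (w : dL n T F (k + 1) ≫ g = 0),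
      (ShortComplex.mk (dL n T F (k + 1)) g w).Exact := by
    rintro _ rfl w
    exact exact_of_epi_comp_mono (AA n T F (k + 2) ≫ (theta n T F (k + 1)).hom)
      (BB n T F (k + 1)) (AA n T F (k + 1)) ((theta n T F k).hom ≫ BB n T F k)
      (BB_AA n T F (k + 1)) (exact_BB_AA h (k + 1)) w
  exact key _ hd _


theorem exact_dL_pi0 (h : Good n T F) :
    (ShortComplex.mk (dL n T F 0) (pi0 n T F) (dL_pi0 n T F)).Exact := by
  haveI := epi_AA h 1
  exact exact_of_epi_comp_mono (AA n T F 1 ≫ (theta n T F 0).hom)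
    (BB n T F 0) (AA n T F 0) (m0 n T F)
    (BB_AA n T F 0) (exact_BB_AA h 0) (dL_pi0 n T F)

theorem epi_pi0 (h : Good n T F) : Epi (pi0 n T F) := by
  haveI := epi_AA h 0
  unfold pi0
  infer_instance

theorem exactAt_LL (h : Good n T F) (k : ℕ) : (LL n T F).ExactAt (k + 1) := by
  rw [HomologicalComplex.exactAt_iff' _ (k + 1 + 1) (k + 1) k (by simp) (by simp)]
  have key : ∀ (f : (LL n T F).X (k + 1 + 1) ⟶ (LL n T F).X (k + 1))
      (g : (LL n T F).X (k + 1) ⟶ (LL n T F).X k) (_ : f = dL n T F (k + 1))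
      (_ : g = dL n T F k) (w : f ≫ g = 0), (ShortComplex.mk f g w).Exact := by
    rintro _ _ rfl rfl w
    exact exact_dL_dL h k
  exact key _ _ (LL_d n T F (k + 1)) (LL_d n T F k) _

theorem piL_f_zero : (piL n T F).f 0 = pi0 n T F :=
  ChainComplex.toSingle₀Equiv_symm_apply_f_zero _ _

theorem quasiIso_piL (h : Good n T F) : QuasiIso (piL n T F) := ⟨fun i => by
  cases i with
  | zero =>
    rw [ChainComplex.quasiIsoAt₀_iff, ShortComplex.quasiIso_iff_of_zeros']
    · have key : ∀ (f : (LL n T F).X 1 ⟶ (LL n T F).X 0)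
          (g : (LL n T F).X 0 ⟶ ((ChainComplex.single₀ (KRR.PY n T).Modules).obj F).X 0)
          (_ : f = dL n T F 0) (_ : g = pi0 n T F) (w : f ≫ g = 0),
          (ShortComplex.mk f g w).Exact ∧ Epi g := by
        rintro _ _ rfl rfl w
        exact ⟨exact_dL_pi0 h, epi_pi0 h⟩
      exact key _ _ (LL_d n T F 0) piL_f_zero _
    all_goals rfl
  | succ k =>
    rw [quasiIsoAt_iff_exactAt']
    · exact exactAt_LL h k
    · apply ChainComplex.exactAt_succ_single_obj⟩

variable (n T)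

/-- **S20013** -/
theorem main20013 (F : (KRR.PY n T).Modules) (hF : Coh.IsQCoh F) (hreg : KRR.IsRegSheaf n T F) :
    ∃ (Tm : ℕ → T.Modules) (L : ChainComplex (KRR.PY n T).Modules ℕ)
      (π : L ⟶ (ChainComplex.single₀ (KRR.PY n T).Modules).obj F),
      (∀ i, Coh.IsQCoh (Tm i)) ∧
      (∀ i, i ≤ n → Nonempty (L.X i ≅
        KRR.twF n T (-(i : ℤ)) ((Scheme.Modules.pullback (KRR.pr n T)).obj (Tm i)))) ∧
      (∀ i, n < i → IsZero (L.X i)) ∧ QuasiIso π := by
  have h : Good n T F := ⟨hF, hreg⟩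
  refine ⟨fun i => (Scheme.Modules.pushforward (KRR.pr n T)).obj (Wseq n T F i), LL n T F,
    piL n T F, fun i => isQuasicoherent_push (good_Wseq h i), fun i _ => ⟨Iso.refl _⟩,
    fun i hi => ?_, quasiIso_piL h⟩
  haveI : (Scheme.Modules.pushforward (KRR.pr n T)).Additive :=
    (Scheme.Modules.pullbackPushforwardAdjunction (KRR.pr n T)).right_adjoint_additive
  have h0 := isZero_Wseq_of_gt h i hi
  have h1 : IsZero ((Scheme.Modules.pushforward (KRR.pr n T)).obj (Wseq n T F i)) :=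
    (Scheme.Modules.pushforward (KRR.pr n T)).map_isZero h0
  have h2 : IsZero ((Scheme.Modules.pullback (KRR.pr n T)).obj
      ((Scheme.Modules.pushforward (KRR.pr n T)).obj (Wseq n T F i))) :=
    (Scheme.Modules.pullback (KRR.pr n T)).map_isZero h1
  exact (twFun n T (-(i : ℤ))).map_isZero h2

end Groth.Agent.Lib.R2H2.QuillenCx
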