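import Groth.Agent.Lib.R2H2RegPush
import Groth.Agent.Lib.R2H2PnSerre
import Groth.Agent.Lib.Helper23RestrTensor
import Groth.Agent.Lib.Helper1FLF1
import Groth.Agent.Lib.R2H2ProjOverPush

/-!
# Large twists of a vector bundle on `P^n_Y` are regular (helper2, round 2)

`Y` Noetherian, `F` finite locally free on `P^n_Y`.

* `exists_vanishing` : `R^i p_* F(d) = 0` for all `i > 0`, `d ≥ d₁` (relative Serre vanishing);
* `exists_isRegSheaf_twF` : `F(m)` is regular for `m ≥ m₀`;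
* `main3757` : `p_* F(m)` is finite locally free for `m ≥ m₀`.
-/

set_option autoImplicit false
set_option linter.unusedSectionVars false
set_option linter.style.haveILetI false
universe u

namespace Groth.Agent.Lib.R2H2.RegTwist

open CategoryTheory CategoryTheory.Limits AlgebraicGeometry TopologicalSpace Opposite
open Groth.Agent.Lib.R2H2.HHLin Groth.Agent.Lib.R2H2.PnSerre Groth.Agent.Lib.R2H2.ProjOver
  Groth.Agent.Lib.R2H2.KoszulRel Groth.Agent.Lib.R2Lead.KRR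

section Over

variable (n : ℕ) {T : Scheme.{u}} (R : Type u) [CommRing R] (j : Spec (CommRingCat.of R) ⟶ T)

/-- `a^* (O(d) ⊗ F) ≅ a^* F ⊗ O(d)` -/
theorem nonempty_pullback_twF_iso (F : (KRR.PY n T).Modules) (d : ℤ) :
    Nonempty ((Scheme.Modules.pullback (a n R j)).obj (KRR.twF n T d F) ≅
      CohB1.tensorMod ((Scheme.Modules.pullback (a n R j)).obj F)
        (Twist.twistProjSpace n R d)) := by
  obtain ⟨e0⟩ := nonempty_pullback_twistOver_iso n R j d
  let e1 := Groth.Agent.Lib.Helper23.RestrTensor.pullbackTensorIso (Twist.twistOver n T d)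
    F (a n R j)
  let e3 := PicGrp.tensorModIso e0 (Iso.refl ((Scheme.Modules.pullback (a n R j)).obj F))
  let e4 := (twIso (Twist.twistProjSpace n R d)).app ((Scheme.Modules.pullback (a n R j)).obj F)
  exact ⟨e1 ≪≫ e3 ≪≫ e4⟩

end Over

section Main

variable (n : ℕ) (Y : Scheme.{u})

theorem isQuasicoherent_twF (F : (KRR.PY n Y).Modules) [F.IsQuasicoherent] (d : ℤ) :
    (KRR.twF n Y d F).IsQuasicoherent := by
  haveI := isQuasicoherent_twistOver n (Y := Y) d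
  exact Groth.Agent.Lib.Helper23.TensorQCoh.isQuasicoherent_tensorMod _ _

theorem isFinLocFree_twF (F : (KRR.PY n Y).Modules) (hF : FlatMod.IsFinLocFree F) (d : ℤ) :
    FlatMod.IsFinLocFree (KRR.twF n Y d F) :=
  Groth.Agent.Lib.Helper1.FLF.isFinLocFree_tensor _ _
    (Groth.Agent.Lib.R2H2.ProjOverPush.isFinLocFree_of_isInvertible
      (isInvertible_twistOver n Y d)) hF

/-- **relative Serre vanishing on `P^n_Y`** for vector bundles, `Y` Noetherian -/
theorem exists_vanishing [IsNoetherian Y] (F : (KRR.PY n Y).Modules)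
    (hF : FlatMod.IsFinLocFree F) :
    ∃ d₁ : ℕ, ∀ d : ℤ, (d₁ : ℤ) ≤ d → ∀ i : ℕ, 0 < i →
      IsZero ((Coh.RpushAb (KRR.pr n Y) i).obj (Coh.toAb (KRR.twF n Y d F))) := by
  classical
  haveI hFq : F.IsQuasicoherent := Groth.Agent.Lib.R2H2.PullLF.isQuasicoherent_of_isFinLocFree F hF
  have hloc : ∀ x : Y, ∃ V : Y.Opens, IsAffineOpen V ∧ x ∈ V := by
    intro x
    obtain ⟨V, hV, hxV, -⟩ := (Opens.isBasis_iff_nbhd.1 Y.isBasis_affineOpens) (Opens.mem_top x)
    exact ⟨V, hV, hxV⟩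
  choose Vx hVa hxV using hloc
  obtain ⟨s, hs⟩ := isCompact_univ.elim_finite_subcover (fun x : Y => (Vx x : Set Y))
    (fun x => (Vx x).2) (fun y _ => Set.mem_iUnion.2 ⟨y, hxV y⟩)
  have hb : ∀ x : Y, ∃ d₀ : ℤ, ∀ d : ℤ, d₀ ≤ d → ∀ i : ℕ, 0 < i →
      Subsingleton (Coh.HHon (CohB1.ProjSpaceOver n Y) (KRR.twF n Y d F)
        (CohB1.ProjSpaceOver.toBase n Y ⁻¹ᵁ Vx x) i) := by
    intro x
    haveI : IsNoetherianRing Γ(Y, Vx x) :=
      IsLocallyNoetherian.component_noetherian ⟨Vx x, hVa x⟩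
    let j : Spec (CommRingCat.of Γ(Y, Vx x)) ⟶ Y := (hVa x).fromSpec
    let a' : CohB1.ProjSpace n Γ(Y, Vx x) ⟶ CohB1.ProjSpaceOver n Y := a n Γ(Y, Vx x) j
    haveI hAoi : IsOpenImmersion a' := isOpenImmersion_a n Γ(Y, Vx x) j
    have hE := Groth.Agent.Lib.R2H2.PullLF.isFinLocFree_pullback a' F hF
    obtain ⟨d₀, hd₀⟩ := serre_vanishing_all n Γ(Y, Vx x) ((Scheme.Modules.pullback a').obj F)
      (Groth.Agent.Lib.R2H2.PnLocFree.isCoh_of_isFinLocFree _ hE)
    refine ⟨d₀, fun d hd i hi => ?_⟩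
    haveI := isQuasicoherent_twF n Y F d
    obtain ⟨e⟩ := nonempty_pullback_twF_iso n Γ(Y, Vx x) j F d
    have h1 : Subsingleton (Coh.HHon (CohB1.ProjSpaceOver n Y) (KRR.twF n Y d F)
        a'.opensRange i) :=
      (subsingleton_HHon_opensRange_iff a' (KRR.twF n Y d F) i).2
        (subsingleton_HH_of_iso e.symm i (hd₀ d hd i hi))
    have hAr : a'.opensRange = CohB1.ProjSpaceOver.toBase n Y ⁻¹ᵁ Vx x :=
      (opensRange_a n Γ(Y, Vx x) j).trans
        (congrArg (fun W : Y.Opens => CohB1.ProjSpaceOver.toBase n Y ⁻¹ᵁ W)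
          (hVa x).opensRange_fromSpec)
    rw [hAr] at h1
    exact h1
  choose dx hdx using hb
  refine ⟨s.sup (fun x => (dx x).toNat), fun d hd i hi => ?_⟩
  haveI := Groth.Agent.S9705.isProper_toBase n Y
  haveI := isQuasicoherent_twF n Y F d
  refine Groth.Agent.Lib.R2H2.LerayAff.isZero_RpushAb_of_affine_cover
    (CohB1.ProjSpaceOver.toBase n Y) (KRR.twF n Y d F) i (fun x : s => Vx x.1) (fun y => ?_)
    (fun x => hVa x.1) (fun x => hdx x.1 d ?_ i hi)
  · obtain ⟨x, hx⟩ := Set.mem_iUnion.1 (hs (Set.mem_univ y))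
    obtain ⟨hxs, hyx⟩ := Set.mem_iUnion.1 hx
    exact ⟨⟨x, hxs⟩, hyx⟩
  · have h1 : (dx x.1).toNat ≤ s.sup (fun x => (dx x).toNat) :=
      Finset.le_sup (f := fun x => (dx x).toNat) x.2
    have h2 : dx x.1 ≤ ((dx x.1).toNat : ℤ) := Int.self_le_toNat _
    omega

/-- large twists of a vector bundle are regular -/
theorem exists_isRegSheaf_twF [IsNoetherian Y] (F : (KRR.PY n Y).Modules)
    (hF : FlatMod.IsFinLocFree F) :
    ∃ m₀ : ℕ, ∀ m : ℕ, m₀ ≤ m → KRR.IsRegSheaf n Y (KRR.twF n Y (m : ℤ) F) := by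
  obtain ⟨d₁, h⟩ := exists_vanishing n Y F hF
  haveI hFq : F.IsQuasicoherent := Groth.Agent.Lib.R2H2.PullLF.isQuasicoherent_of_isFinLocFree F hF
  refine ⟨d₁ + n, fun m hm i hi => ?_⟩
  by_cases hin : i ≤ n
  · obtain ⟨e⟩ := nonempty_twFun_comp_iso n Y (-(i : ℤ)) (m : ℤ)
    have e' : KRR.twF n Y (-(i : ℤ)) (KRR.twF n Y (m : ℤ) F) ≅
        KRR.twF n Y (-(i : ℤ) + (m : ℤ)) F := e.app F
    exact van_of_iso (KRR.pr n Y) i e'.symm (h (-(i : ℤ) + (m : ℤ)) (by omega) i hi)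
  · haveI := isQuasicoherent_twF n Y F (m : ℤ)
    haveI := isQuasicoherent_twF n Y (KRR.twF n Y (m : ℤ) F) (-(i : ℤ))
    exact Groth.Agent.Lib.R2H2.PnPullVan.isZero_RpushAb_of_gt n _ i (by omega)

/-- **`p_* F(m)` is finite locally free for `m ≫ 0`** -/
theorem main3757 [IsNoetherian Y] (F : (KRR.PY n Y).Modules) (hF : FlatMod.IsFinLocFree F) :
    ∃ m₀ : ℕ, ∀ m : ℕ, m₀ ≤ m →
      FlatMod.IsFinLocFree
        ((Scheme.Modules.pushforward (KRR.pr n Y)).obj (KRR.twF n Y (m : ℤ) F)) := by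
  obtain ⟨m₀, h⟩ := exists_isRegSheaf_twF n Y F hF
  refine ⟨m₀, fun m hm => ?_⟩
  refine Groth.Agent.Lib.R2H2.RegPush.main3756 n Y _ ?_ (h m hm)
  -- `F(m)` is finite locally free
  exact isFinLocFree_twF n Y F hF (m : ℤ)

end Main

end Groth.Agent.Lib.R2H2.RegTwist
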