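import Groth.Agent.Lib.R2H2K0Chain
import Groth.Agent.Lib.R2H2RegTwist
import Groth.Agent.Lib.R2H2KoszulK
set_option backward.isDefEq.respectTransparency.types false

/-!
# `K₀` of regular bundles on `P^n_Y` (helper2, round 2)

* `R n Y k X` : `X` is `k`-regular, i.e. `R^q p_* X(s) = 0` for `q ≥ 1`, `s ≥ k - q`;
* `Q n Y k` : finite locally free and `k`-regular (`Q n Y 0` is the class of regular bundles);
* `hyp` : the hypotheses of Quillen's filtration argument `K0Chain.Hyp`;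
* `main3758` : `K₀(regular bundles) → K₀(bundles)` is bijective.
-/

set_option autoImplicit false
set_option linter.unusedSectionVars false
set_option linter.style.haveILetI false
universe v u

namespace Groth.Agent.Lib.R2H2.RegK0

open CategoryTheory CategoryTheory.Limits AlgebraicGeometry KZero
open Groth.Agent.Lib.R2H2.K0Gen Groth.Agent.Lib.R2H2.K0Epi Groth.Agent.Lib.R2H2.KoszulAbs
  Groth.Agent.Lib.R2H2.KoszulRel Groth.Agent.Lib.R2H2.KoszulPnT Groth.Agent.Lib.R2H2.KoszulShift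
  Groth.Agent.Lib.R2Lead.KRR Groth.Agent.Lib.R2Lead.TensorExact

section Abstract

variable {A : Type u} [Category.{v} A] [Abelian A] (P : ObjectProperty A)

/-- the alternating sum of the classes of a bounded exact sequence vanishes, provided the terms
and the cycles have the property `P` -/
theorem alt_sum_nat' (X : ℕ → A) (d : ∀ i, X i ⟶ X (i + 1)) (w : ∀ i, d i ≫ d (i + 1) = 0)
    (hex : ∀ i, (ShortComplex.mk (d i) (d (i + 1)) (w i)).Exact) (hmono : Mono (d 0)) (N : ℕ)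
    (hzero : ∀ i, N < i → IsZero (X i)) (hP : ∀ i, P (X i)) (hPk : ∀ i, P (kernel (d i))) :
    ∑ i ∈ Finset.range (N + 1), (-1 : ℤ) ^ i • clSub P (X i) = 0 := by
  let S : ℕ → ShortComplex A := fun i => ShortComplex.mk (d i) (d (i + 1)) (w i)
  have hSE : ∀ i, (kerS (S i)).ShortExact := fun i => kerS_shortExact (S i) (hex i)
  let z : ℕ → K0sub P := fun i => clSub P (kernel (d i))
  have hrel : ∀ i, clSub P (X i) = z i + z (i + 1) := fun i =>
    clSub_shortExact P _ (hSE i) (hPk i) (hP i) (hPk (i + 1))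
  have hz0 : z 0 = 0 := clSub_of_isZero P (isZero_kernel_of_mono _) (hPk 0)
  have hz1 : z (N + 1) = 0 :=
    clSub_of_isZero P (IsZero.of_mono (kernel.ι (d (N + 1))) (hzero (N + 1) (by omega)))
      (hPk (N + 1))
  rw [Finset.sum_congr rfl (fun i _ => by rw [hrel i]), telescope_nat z N, hz0, hz1, smul_zero,
    add_zero]

/-- the cycles of a bounded exact sequence have property `P`, if `P` is stable under kernels of
epimorphisms -/
theorem prop_kernel (hiso : ∀ {X Y : A}, (X ≅ Y) → P X → P Y)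
    (hker : ∀ {X Y : A} (f : X ⟶ Y), Epi f → P X → P Y → P (kernel f))
    (X : ℕ → A) (d : ∀ i, X i ⟶ X (i + 1)) (w : ∀ i, d i ≫ d (i + 1) = 0)
    (hex : ∀ i, (ShortComplex.mk (d i) (d (i + 1)) (w i)).Exact) (N : ℕ)
    (hzero : ∀ i, N < i → IsZero (X i)) (hP : ∀ i, P (X i)) : ∀ i, P (kernel (d i)) := by
  let S : ℕ → ShortComplex A := fun i => ShortComplex.mk (d i) (d (i + 1)) (w i)
  have hSE : ∀ i, (kerS (S i)).ShortExact := fun i => kerS_shortExact (S i) (hex i)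
  have hPk : ∀ k i : ℕ, N ≤ i + k → P (kernel (d i)) := by
    intro k
    induction k with
    | zero =>
      intro i hi
      have h0 : d i = 0 := (hzero (i + 1) (by omega)).eq_of_tgt _ _
      rw [h0]
      exact hiso (kernelZeroIsoSource (X := X i) (Y := X (i + 1))).symm (hP i)
    | succ k ih =>
      intro i hi
      have h1 : P (kernel (d (i + 1))) := ih (i + 1) (by omega)
      haveI : Epi (kerS (S i)).g := (hSE i).epi_g
      have h2 : P (kernel (kerS (S i)).g) := hker (kerS (S i)).g inferInstance (hP i) h1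
      have e : kernel (d i) ≅ kernel (kerS (S i)).g := by
        have h3 := IsLimit.conePointUniqueUpToIso (hSE i).fIsKernel
          (kernelIsKernel (kerS (S i)).g)
        exact h3
      exact hiso e.symm h2
  exact fun i => hPk N i (by omega)

variable {r : ℕ} (D : KData A r)

/-- the Koszul relation in `K0sub P`, given that the cycles have property `P` -/
theorem koszul_relation' (hz : ∀ Z : A, IsZero Z → P Z)
    (hiso : ∀ {X Y : A}, (X ≅ Y) → P X → P Y)
    (hcop : ∀ L : A, P L → ∀ b : ℕ, P (∐ fun _ : Fin b => L))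
    (hex : ∀ i, (ShortComplex.mk (D.d i) (D.d (i + 1)) (D.d_comp_d i)).Exact)
    (hmono : Mono (D.d 0)) (hG : ∀ i, P (D.G i)) (hPk : ∀ i, P (kernel (D.d i))) :
    ∑ i ∈ Finset.range (r + 1), (-1 : ℤ) ^ i • ((Nat.choose r i) • clSub P (D.G i)) = 0 := by
  have hK : ∀ i, P (D.K i) := fun i => hiso (isoCoprod D i).symm (hcop _ (hG i) _)
  have h := alt_sum_nat' P D.K D.d D.d_comp_d hex hmono r
    (fun i hi => D.isZero_K i hi) hK hPk
  rw [← h]
  refine Finset.sum_congr rfl (fun i _ => ?_)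
  rw [clSub_of_iso P hz (isoCoprod D i) (hK i) (hcop _ (hG i) _),
    clSub_coprod_const P hz (D.G i) (hG i) (hcop _ (hG i)) _]

end Abstract

section Van

attribute [local instance] Abelian.hasFiniteBiproducts

variable {X Y : Scheme.{u}} (f : X ⟶ Y)

theorem van_coprod (G : X.Modules ⥤ X.Modules) [G.Additive] (q : ℕ) (L : X.Modules) (b : ℕ)
    (h : Van f q (G.obj L)) : Van f q (G.obj (∐ fun _ : Fin b => L)) := by
  have h' : IsZero ((G ⋙ TT f q).obj L) := (van_iff f q _).1 h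
  let e : (⨁ fun _ : Fin b => L) ≅ ∐ fun _ : Fin b => L := biproduct.isoCoproduct _
  have hz : IsZero ((G ⋙ TT f q).obj (⨁ fun _ : Fin b => L)) := by
    rw [IsZero.iff_id_eq_zero, ← CategoryTheory.Functor.map_id, ← biproduct.total,
      CategoryTheory.Functor.map_sum]
    refine Finset.sum_eq_zero (fun j _ => ?_)
    rw [CategoryTheory.Functor.map_comp,
      h'.eq_of_tgt ((G ⋙ TT f q).map (biproduct.π (fun _ : Fin b => L) j)) 0, zero_comp]
  rw [van_iff]
  exact IsZero.of_iso hz ((G ⋙ TT f q).mapIso e.symm)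

end Van

variable (n : ℕ) (Y : Scheme.{u})

theorem shortExact_map_twFun (d : ℤ) (S : ShortComplex (KRR.PY n Y).Modules)
    (hS : S.ShortExact) : (S.map (twFun n Y d)).ShortExact :=
  shortExact_map_tensorBi_of_isInvertible _ (isInvertible_twistOver n Y d) S hS

instance preservesFiniteLimits_twFun (d : ℤ) : PreservesFiniteLimits (twFun n Y d) := by
  rw [Functor.preservesFiniteLimits_iff_forall_exact_map_and_mono]
  intro S hS
  have h := shortExact_map_twFun n Y d S hS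
  exact ⟨h.exact, h.mono_f⟩

instance preservesFiniteColimits_twFun (d : ℤ) : PreservesFiniteColimits (twFun n Y d) := by
  rw [Functor.preservesFiniteColimits_iff_forall_exact_map_and_epi]
  intro S hS
  have h := shortExact_map_twFun n Y d S hS
  exact ⟨h.exact, h.epi_g⟩

theorem tw2 (a b : ℤ) (M : (KRR.PY n Y).Modules) :
    Nonempty (KRR.twF n Y a (KRR.twF n Y b M) ≅ KRR.twF n Y (a + b) M) := by
  obtain ⟨e⟩ := nonempty_twFun_comp_iso n Y a b
  exact ⟨e.app M⟩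

theorem tw0 (M : (KRR.PY n Y).Modules) : Nonempty (KRR.twF n Y 0 M ≅ M) := by
  obtain ⟨e⟩ := nonempty_twFun_zero_iso n Y
  exact ⟨e.app M⟩

theorem twEq {a b : ℤ} (h : a = b) (M : (KRR.PY n Y).Modules) :
    Nonempty (KRR.twF n Y a M ≅ KRR.twF n Y b M) := by
  subst h
  exact ⟨Iso.refl _⟩

/-- `X` is `k`-regular -/
def R (k : ℤ) (X : (KRR.PY n Y).Modules) : Prop :=
  ∀ q : ℕ, 1 ≤ q → ∀ s : ℤ, k - q ≤ s → Van (KRR.pr n Y) q (KRR.twF n Y s X)

variable {n Y}

theorem R_of_isRegSheaf_twF {k : ℤ} {X : (KRR.PY n Y).Modules}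
    (h : KRR.IsRegSheaf n Y (KRR.twF n Y k X)) : R n Y k X := by
  intro q hq s hs
  obtain ⟨j, hj⟩ : ∃ j : ℕ, (j : ℤ) = s + q - k :=
    ⟨(s + q - k).toNat, Int.toNat_of_nonneg (by omega)⟩
  have h1 : Van (KRR.pr n Y) q (KRR.twF n Y (-(q : ℤ)) (KRR.twF n Y (j : ℤ) (KRR.twF n Y k X))) :=
    isRegSheaf_twF_nat n Y _ h j q hq
  obtain ⟨e1⟩ := tw2 n Y (j : ℤ) k X
  obtain ⟨e2⟩ := tw2 n Y (-(q : ℤ)) ((j : ℤ) + k) X
  obtain ⟨e3⟩ := twEq n Y (show -(q : ℤ) + ((j : ℤ) + k) = s by omega) X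
  exact van_of_iso (KRR.pr n Y) q ((twFun n Y (-(q : ℤ))).mapIso e1 ≪≫ e2 ≪≫ e3) h1

theorem isRegSheaf_twF_of_R {k : ℤ} {X : (KRR.PY n Y).Modules} (h : R n Y k X) :
    KRR.IsRegSheaf n Y (KRR.twF n Y k X) := by
  intro q hq
  have h1 := h q hq (-(q : ℤ) + k) (by omega)
  obtain ⟨e⟩ := tw2 n Y (-(q : ℤ)) k X
  exact van_of_iso (KRR.pr n Y) q e.symm h1

theorem R_zero_iff (X : (KRR.PY n Y).Modules) : KRR.IsRegSheaf n Y X ↔ R n Y 0 X := by
  obtain ⟨e⟩ := tw0 n Y X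
  constructor
  · intro h
    exact R_of_isRegSheaf_twF (isRegSheaf_of_iso n Y e.symm h)
  · intro h
    exact isRegSheaf_of_iso n Y e (isRegSheaf_twF_of_R h)

theorem R_mono {k l : ℤ} (hkl : k ≤ l) {X : (KRR.PY n Y).Modules} (h : R n Y k X) :
    R n Y l X := fun q hq s hs => h q hq s (by omega)

theorem R_of_iso {k : ℤ} {X X' : (KRR.PY n Y).Modules} (e : X ≅ X') (h : R n Y k X) :
    R n Y k X' := fun q hq s hs =>
  van_of_iso (KRR.pr n Y) q ((twFun n Y s).mapIso e) (h q hq s hs)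

theorem R_of_isZero (k : ℤ) {X : (KRR.PY n Y).Modules} (hX : IsZero X) : R n Y k X :=
  fun q _ s _ => van_of_isZero (KRR.pr n Y) q ((twFun n Y s).map_isZero hX)

theorem R_tw {k : ℤ} (m : ℤ) {X : (KRR.PY n Y).Modules} (h : R n Y k X) :
    R n Y (k - m) (KRR.twF n Y m X) := by
  intro q hq s hs
  obtain ⟨e⟩ := tw2 n Y s m X
  exact van_of_iso (KRR.pr n Y) q e.symm (h q hq (s + m) (by omega))

theorem R_coprod {k : ℤ} {L : (KRR.PY n Y).Modules} (h : R n Y k L) (b : ℕ) :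
    R n Y k (∐ fun _ : Fin b => L) := fun q hq s hs =>
  van_coprod (KRR.pr n Y) (twFun n Y s) q L b (h q hq s hs)

theorem R_X₃ {k : ℤ} (S : ShortComplex (KRR.PY n Y).Modules) (hS : S.ShortExact)
    (h₁ : R n Y k S.X₁) (h₂ : R n Y k S.X₂) : R n Y k S.X₃ := by
  intro q hq s hs
  exact van_X₃ (KRR.pr n Y) (S.map (twFun n Y s)) (shortExact_map_twFun n Y s S hS) q
    (h₂ q hq s hs) (h₁ (q + 1) (by omega) s (by push_cast; omega))

/-- the cycles of the Koszul complex of a `k`-regular sheaf are `k`-regular -/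
theorem R_kernel_KDT {k : ℤ} {X : (KRR.PY n Y).Modules} (h : R n Y k X) (t : ℕ) :
    R n Y k (kernel ((KDT n Y X 0).d t)) := by
  intro q hq s hs
  let D := (KDT n Y X 0).map (twFun n Y s)
  have hex : ∀ i : ℕ, (ShortComplex.mk (D.d i) (D.d (i + 1)) (D.d_comp_d i)).Exact := by
    intro i
    have h1 := (exact_KDT n Y X 0 i).map (twFun n Y s)
    have e : ShortComplex.mk (D.d i) (D.d (i + 1)) (D.d_comp_d i) =
        (ShortComplex.mk ((KDT n Y X 0).d i) ((KDT n Y X 0).d (i + 1))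
          ((KDT n Y X 0).d_comp_d i)).map (twFun n Y s) := by
      have e1 := (KDT n Y X 0).map_d (twFun n Y s) i
      have e2 := (KDT n Y X 0).map_d (twFun n Y s) (i + 1)
      change ShortComplex.mk (((KDT n Y X 0).map (twFun n Y s)).d i)
        (((KDT n Y X 0).map (twFun n Y s)).d (i + 1)) _ = _
      simp only [ShortComplex.map]
      congr 1
    rw [e]
    exact h1
  have hmono : Mono (D.d 0) := by
    have e1 := (KDT n Y X 0).map_d (twFun n Y s) 0
    change Mono (((KDT n Y X 0).map (twFun n Y s)).d 0)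
    rw [e1]
    haveI := mono_KDT n Y X 0
    haveI : PreservesLimitsOfShape WalkingCospan (twFun n Y s) := inferInstance
    haveI : (twFun n Y s).PreservesMonomorphisms :=
      preservesMonomorphisms_of_preservesLimitsOfShape _
    exact (twFun n Y s).map_mono _
  have h2 : Van (KRR.pr n Y) q (kernel (D.d t)) := by
    apply van_Z (KRR.pr n Y) D hex hmono t q
    intro i hi
    change Van (KRR.pr n Y) _ (KRR.twF n Y s (KRR.twF n Y (0 + (i : ℤ)) X))
    obtain ⟨e⟩ := tw2 n Y s (0 + (i : ℤ)) X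
    exact van_of_iso (KRR.pr n Y) _ e.symm
      (h (q + (t - (i + 1))) (by omega) (s + (0 + (i : ℤ))) (by push_cast; omega))
  have e3 : kernel (D.d t) ≅ (twFun n Y s).obj (kernel ((KDT n Y X 0).d t)) := by
    have e1 := (KDT n Y X 0).map_d (twFun n Y s) t
    change kernel (((KDT n Y X 0).map (twFun n Y s)).d t) ≅ _
    rw [e1]
    exact (PreservesKernel.iso (twFun n Y s) ((KDT n Y X 0).d t)).symm
  exact van_of_iso (KRR.pr n Y) q e3 h2

variable (n Y)

/-- finite locally free and `k`-regular -/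
def Q : ℕ → ObjectProperty (KRR.PY n Y).Modules
  | 0 => fun M => FlatMod.IsFinLocFree M ∧ KRR.IsRegSheaf n Y M
  | (k + 1) => fun M => FlatMod.IsFinLocFree M ∧ R n Y ((k + 1 : ℕ) : ℤ) M

variable {n Y}

theorem Q_iff (k : ℕ) (M : (KRR.PY n Y).Modules) :
    Q n Y k M ↔ FlatMod.IsFinLocFree M ∧ R n Y (k : ℤ) M := by
  cases k with
  | zero =>
    change FlatMod.IsFinLocFree M ∧ KRR.IsRegSheaf n Y M ↔ _
    rw [Nat.cast_zero, R_zero_iff]
  | succ k => exact Iff.rfl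

variable (n Y)

/-- the operations `X ↦ X(i+1)` -/
noncomputable def tt (i : ℕ) (X : (KRR.PY n Y).Modules) : (KRR.PY n Y).Modules :=
  KRR.twF n Y (0 + ((i + 1 : ℕ) : ℤ)) X

/-- the Koszul coefficients -/
def cc (i : ℕ) : ℤ := (-1) ^ i * (Nat.choose (n + 1) (i + 1) : ℤ)

variable {n Y}

theorem Q_isZero (k : ℕ) (Z : (KRR.PY n Y).Modules) (hZ : IsZero Z) : Q n Y k Z :=
  (Q_iff k Z).2 ⟨Groth.Agent.Lib.R2H2.ProjOverPush.isFinLocFree_of_isZero Z hZ,
    R_of_isZero _ hZ⟩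

theorem Q_iso (k : ℕ) {M M' : (KRR.PY n Y).Modules} (e : M ≅ M') (h : Q n Y k M) :
    Q n Y k M' :=
  (Q_iff k M').2 ⟨Groth.Agent.Lib.R2H2.ProjOverPush.isFinLocFree_of_iso e ((Q_iff k M).1 h).1,
    R_of_iso e ((Q_iff k M).1 h).2⟩

theorem Q_coprod (k : ℕ) (L : (KRR.PY n Y).Modules) (h : Q n Y k L) (b : ℕ) :
    Q n Y k (∐ fun _ : Fin b => L) :=
  (Q_iff k _).2 ⟨Groth.Agent.Lib.R2H2.KoszulK.isFinLocFree_coprod L ((Q_iff k L).1 h).1 b,
    R_coprod ((Q_iff k L).1 h).2 b⟩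

theorem Q_tt (i k : ℕ) (X : (KRR.PY n Y).Modules) (h : Q n Y (k + 1) X) :
    Q n Y k (tt n Y i X) := by
  obtain ⟨h1, h2⟩ := (Q_iff (k + 1) X).1 h
  refine (Q_iff k _).2 ⟨Groth.Agent.Lib.R2H2.RegTwist.isFinLocFree_twF n Y X h1 _, ?_⟩
  exact R_mono (by push_cast; omega) (R_tw (0 + ((i + 1 : ℕ) : ℤ)) h2)

theorem Q_tt' (i k : ℕ) (X : (KRR.PY n Y).Modules) (h : Q n Y k X) :
    Q n Y k (tt n Y i X) := by
  obtain ⟨h1, h2⟩ := (Q_iff k X).1 h
  refine (Q_iff k _).2 ⟨Groth.Agent.Lib.R2H2.RegTwist.isFinLocFree_twF n Y X h1 _, ?_⟩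
  exact R_mono (by push_cast; omega) (R_tw (0 + ((i + 1 : ℕ) : ℤ)) h2)

/-- the Koszul relation in `K₀ (Q k)` -/
theorem Q_kos (k : ℕ) (X : (KRR.PY n Y).Modules) (h : Q n Y k X) :
    clSub (Q n Y k) X =
      ∑ i ∈ Finset.range (n + 1), cc n i • clSub (Q n Y k) (tt n Y i X) := by
  obtain ⟨h1, h2⟩ := (Q_iff k X).1 h
  let D := KDT n Y X 0
  have hG : ∀ i, Q n Y k (D.G i) := by
    intro i
    refine (Q_iff k _).2 ⟨Groth.Agent.Lib.R2H2.RegTwist.isFinLocFree_twF n Y X h1 _, ?_⟩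
    exact R_mono (by omega) (R_tw (0 + (i : ℤ)) h2)
  have hK : ∀ i, FlatMod.IsFinLocFree (D.K i) := fun i =>
    Groth.Agent.Lib.R2H2.ProjOverPush.isFinLocFree_of_iso (isoCoprod D i).symm
      (Groth.Agent.Lib.R2H2.KoszulK.isFinLocFree_coprod _ ((Q_iff k _).1 (hG i)).1 _)
  have hPk1 : ∀ i, FlatMod.IsFinLocFree (kernel (D.d i)) :=
    prop_kernel (KRR.vbP (KRR.PY n Y))
      (fun e h => Groth.Agent.Lib.R2H2.ProjOverPush.isFinLocFree_of_iso e h)
      (fun f hf hX hY => by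
        haveI := hf
        exact Groth.Agent.Lib.R2H2.FLFKernel.isFinLocFree_kernel_of_epi f hX hY)
      D.K D.d D.d_comp_d (exact_KDT n Y X 0) (n + 1) (fun i hi => D.isZero_K i hi) hK
  have hPk : ∀ i, Q n Y k (kernel (D.d i)) := fun i =>
    (Q_iff k _).2 ⟨hPk1 i, R_kernel_KDT h2 i⟩
  have hrel := koszul_relation' (Q n Y k) D (Q_isZero k) (fun e h => Q_iso k e h)
    (fun L hL b => Q_coprod k L hL b) (exact_KDT n Y X 0) (mono_KDT n Y X 0) hG hPk
  rw [Finset.sum_range_succ'] at hrel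
  have e0 : clSub (Q n Y k) (D.G 0) = clSub (Q n Y k) X := by
    obtain ⟨e1⟩ := twEq n Y (show (0 : ℤ) + ((0 : ℕ) : ℤ) = 0 by simp) X
    obtain ⟨e2⟩ := tw0 n Y X
    exact clSub_of_iso (Q n Y k) (Q_isZero k) (e1 ≪≫ e2) (hG 0) h
  have h3 : clSub (Q n Y k) X = -∑ i ∈ Finset.range (n + 1),
      (-1 : ℤ) ^ (i + 1) • ((Nat.choose (n + 1) (i + 1)) • clSub (Q n Y k) (D.G (i + 1))) := by
    rw [← e0]
    have h4 : (-1 : ℤ) ^ 0 • ((Nat.choose (n + 1) 0) • clSub (Q n Y k) (D.G 0)) =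
        clSub (Q n Y k) (D.G 0) := by
      rw [pow_zero, one_smul, Nat.choose_zero_right, one_smul]
    rw [h4] at hrel
    exact eq_neg_of_add_eq_zero_right hrel
  rw [h3, ← Finset.sum_neg_distrib]
  apply Finset.sum_congr rfl
  intro i _
  change _ = cc n i • clSub (Q n Y k) (D.G (i + 1))
  unfold cc
  rw [pow_succ, mul_neg_one, neg_smul, neg_neg, mul_smul, natCast_zsmul]

variable (n Y)

theorem hyp [IsNoetherian Y] :
    Groth.Agent.Lib.R2H2.K0Chain.Hyp (KRR.vbP (KRR.PY n Y)) (Q n Y) (n + 1) (cc n) (tt n Y) where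
  mono k X h := by
    obtain ⟨h1, h2⟩ := (Q_iff k X).1 h
    exact (Q_iff (k + 1) X).2 ⟨h1, R_mono (by push_cast; omega) h2⟩
  sub k X h := ((Q_iff k X).1 h).1
  exh X hX := by
    obtain ⟨m₀, h⟩ := Groth.Agent.Lib.R2H2.RegTwist.exists_isRegSheaf_twF n Y X hX
    exact ⟨m₀, (Q_iff m₀ X).2 ⟨hX, R_of_isRegSheaf_twF (h m₀ le_rfl)⟩⟩
  tQ i k X h := Q_tt i k X h
  tadd i k S hS h₁ h₂ h₃ :=
    clSub_shortExact (Q n Y k) (S.map (twFun n Y (0 + ((i + 1 : ℕ) : ℤ))))
      (shortExact_map_twFun n Y _ S hS) (Q_tt i k _ h₁) (Q_tt i k _ h₂) (Q_tt i k _ h₃)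
  kos k X h := Q_kos k X h

/-- **S3758**: `K₀` of the regular bundles on `P^n_Y` maps bijectively to `K₀` of all bundles -/
theorem main3758 [IsNoetherian Y]
    (h : ∀ M : (KRR.PY n Y).Modules,
      FlatMod.IsFinLocFree M ∧ KRR.IsRegSheaf n Y M → FlatMod.IsFinLocFree M) :
    Function.Bijective (SGA6.mapSub (𝟭 (KRR.PY n Y).Modules)
      (fun M : (KRR.PY n Y).Modules => FlatMod.IsFinLocFree M ∧ KRR.IsRegSheaf n Y M)
      (KRR.vbP (KRR.PY n Y)) h) :=
  Groth.Agent.Lib.R2H2.K0Chain.bijective_mapSub (hyp n Y) h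

end Groth.Agent.Lib.R2H2.RegK0
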