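import Groth.Agent.S15744
import Groth.Agent.Lib.Helper23SecTw3

/-!
# Extension of twisted sections over a quasi-compact open (helper2, round 2)

A relative version of helper23's `S15744.main`: for a quasi-compact open `U₀` of a scheme `X` in
which affine opens have quasi-compact intersections, `L` invertible with a global section `s`,
`F` quasi-coherent and `t` a section of `F` over `X_s ∩ U₀`, some `t ⊗ s^{⊗ n}` extends to `U₀`.

* `exists_compat_rel` : `exists_compat` with an arbitrary open in place of `X_s`;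
* `exists_frame_le` : frames inside a given open;
* `main_rel`.
-/

set_option autoImplicit false
universe u

namespace Groth.Agent.Lib.R2H2.SecTwRel

open CategoryTheory Limits AlgebraicGeometry TopologicalSpace Opposite
open Groth.Agent.Lib.Helper23.SecTw Groth.Agent.Lib.Helper23.GenLocus
  Groth.Agent.Lib.Helper23.QCohLocal Groth.Agent.Lib.Helper6

variable {X : Scheme.{u}}

/-- after multiplying by a high power of the coefficient, local twisted extensions agree on overlaps -/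
theorem exists_compat_rel (F L : X.Modules) [F.IsQuasicoherent] (s : Coh.structureModule X ⟶ L)
    (Gs : X.Opens) (t : Γ(F, Gs)) {Wx Wy : X.Opens}
    (hc : IsCompact ((Wx ⊓ Wy : X.Opens) : Set X))
    (ex : Γ(L, Wx)) (ey : Γ(L, Wy)) (fx : Γ(X, Wx)) (fy : Γ(X, Wy))
    (hx : sv s Wx = fx • ex) (hy : sv s Wy = fy • ey) (hgen : IsGen L Wy ey)
    (hbx : X.basicOpen fx = Gs ⊓ Wx) (hby : X.basicOpen fy = Gs ⊓ Wy)
    (N : ℕ) (tx : Γ(F, Wx)) (ty : Γ(F, Wy))
    (htx : res F (X.basicOpen_le fx) tx =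
      resf (X.basicOpen_le fx) fx ^ N • res F (hbx.le.trans inf_le_left) t)
    (hty : res F (X.basicOpen_le fy) ty =
      resf (X.basicOpen_le fy) fy ^ N • res F (hby.le.trans inf_le_left) t) :
    ∃ m : ℕ, ∀ k, m ≤ k →
      tw F L (Wx ⊓ Wy) (res F inf_le_left (fx ^ k • tx)) (res L inf_le_left ex) (N + k) =
      tw F L (Wx ⊓ Wy) (res F inf_le_right (fy ^ k • ty)) (res L inf_le_right ey) (N + k) := by
  obtain ⟨g, hg1, hg2⟩ := exists_transition L s ex ey fx fy hx hy hgen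
  obtain ⟨a, ha⟩ : ∃ a : Γ(X, Wx ⊓ Wy), a = resf inf_le_right fy := ⟨_, rfl⟩
  obtain ⟨u, hu⟩ : ∃ u : Γ(F, Wx ⊓ Wy),
      u = g ^ N • res F inf_le_left tx - res F inf_le_right ty := ⟨_, rfl⟩
  have hD : X.basicOpen a = (Wx ⊓ Wy) ⊓ X.basicOpen fy := by
    rw [ha]; exact Scheme.basicOpen_res _ _ _
  have hDy : X.basicOpen a ≤ X.basicOpen fy := by rw [hD]; exact inf_le_right
  have hDG : X.basicOpen a ≤ Gs := hDy.trans (hby.le.trans inf_le_left)
  have hDx : X.basicOpen a ≤ X.basicOpen fx := by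
    rw [hbx]
    exact le_inf hDG ((X.basicOpen_le a).trans inf_le_left)
  have h0 : res F (X.basicOpen_le a) u = 0 := by
    have e1 : res F ((X.basicOpen_le a).trans inf_le_left) tx =
        resf ((X.basicOpen_le a).trans inf_le_left) fx ^ N • res F hDG t := by
      have := congrArg (res F hDx) htx
      rw [res_res, res_smul, resf_pow, resf_resf, res_res] at this
      exact this
    have e2 : res F ((X.basicOpen_le a).trans inf_le_right) ty =
        resf ((X.basicOpen_le a).trans inf_le_right) fy ^ N • res F hDG t := by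
      have := congrArg (res F hDy) hty
      rw [res_res, res_smul, resf_pow, resf_resf, res_res] at this
      exact this
    have e3 : resf (X.basicOpen_le a) g * resf ((X.basicOpen_le a).trans inf_le_left) fx =
        resf ((X.basicOpen_le a).trans inf_le_right) fy := by
      have := congrArg (resf (X.basicOpen_le a)) hg2
      rw [resf_mul, resf_resf, resf_resf] at this
      rw [mul_comm]
      exact this
    rw [hu, res_sub, res_smul, resf_pow, res_res, res_res, e1, e2, ← mul_smul, ← mul_pow, e3,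
      sub_self]
  obtain ⟨m, hm⟩ := Groth.Agent.Lib.Helper23.QCohLocal.exists_pow_smul_eq_zero_qc' hc F a
    (X.basicOpen a) rfl (X.basicOpen_le a) u h0
  refine ⟨m, fun k hk => ?_⟩
  have hk0 : a ^ k • u = 0 := by
    obtain ⟨j, rfl⟩ := Nat.exists_eq_add_of_le hk
    rw [add_comm, pow_add, mul_smul, hm, smul_zero]
  rw [hg1, tw_smul, ← sub_eq_zero, ← tw_sub_left]
  have : g ^ (N + k) • res F (inf_le_left : Wx ⊓ Wy ≤ Wx) (fx ^ k • tx) -
      res F (inf_le_right : Wx ⊓ Wy ≤ Wy) (fy ^ k • ty) = a ^ k • u := by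
    rw [hu, smul_sub, res_smul, res_smul, resf_pow, resf_pow, ← ha, ← mul_smul, ← mul_smul, ha,
      ← hg2, mul_pow]
    congr 2
    ring
  rw [this, hk0, tw_zero]

/-- local frames of an invertible module adapted to a global section, inside a given open -/
theorem exists_frame_le (L : X.Modules) (hL : PicF.IsInvertible L)
    (s : Coh.structureModule X ⟶ L) (U₀ : X.Opens) (x : X) (hx : x ∈ U₀) :
    ∃ W : X.Opens, x ∈ W ∧ W ≤ U₀ ∧ IsAffineOpen W ∧ ∃ (e : Γ(L, W)) (f : Γ(X, W)),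
      sv s W = f • e ∧ X.basicOpen f = (CohB1.genLocus L s ⊓ U₀) ⊓ W ∧ IsGen L W e := by
  obtain ⟨W₁, hxW₁, -, e₁, f₁, hval, hbo, hgen⟩ := exists_frame L hL s x
  obtain ⟨W, hW, hxW, hWle⟩ := Opens.isBasis_iff_nbhd.1 X.isBasis_affineOpens
    (show x ∈ W₁ ⊓ U₀ from ⟨hxW₁, hx⟩)
  have h1 : W ≤ W₁ := hWle.trans inf_le_left
  have h2 : W ≤ U₀ := hWle.trans inf_le_right
  refine ⟨W, hxW, h2, hW, res L h1 e₁, resf h1 f₁, ?_, ?_, hgen.mono h1⟩
  · rw [← res_sv s h1, hval, res_smul]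
  · have h3 : X.basicOpen (resf h1 f₁) = W ⊓ X.basicOpen f₁ := Scheme.basicOpen_res _ _ _
    rw [h3, hbo]
    apply le_antisymm
    · rintro y ⟨hyW, hyG, -⟩
      exact ⟨⟨hyG, h2 hyW⟩, hyW⟩
    · rintro y ⟨⟨hyG, -⟩, hyW⟩
      exact ⟨hyW, hyG, h1 hyW⟩

/-- **extension of twisted sections over a quasi-compact open** -/
theorem main_rel (U₀ : X.Opens) (hU₀ : IsCompact (U₀ : Set X))
    (hqs : ∀ W W' : X.Opens, W ≤ U₀ → W' ≤ U₀ → IsAffineOpen W → IsAffineOpen W' →
      IsCompact ((W ⊓ W' : X.Opens) : Set X))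
    (L : X.Modules) (hL : PicF.IsInvertible L) (s : Coh.structureModule X ⟶ L)
    (F : X.Modules) [Coh.IsQCoh F] (t : Γ(F, CohB1.genLocus L s ⊓ U₀)) :
    ∃ n : ℕ, 0 < n ∧ ∃ t' : Γ(CohB1.tensorMod F (CohB1.tensorPow L n), U₀),
      res _ (inf_le_right : CohB1.genLocus L s ⊓ U₀ ≤ U₀) t' =
        tw F L (CohB1.genLocus L s ⊓ U₀) t (sv s _) n := by
  obtain ⟨Gs, hGs⟩ : ∃ Gs : X.Opens, Gs = CohB1.genLocus L s ⊓ U₀ := ⟨_, rfl⟩
  have hfr : ∀ x : U₀, ∃ W : X.Opens, x.1 ∈ W ∧ W ≤ U₀ ∧ IsAffineOpen W ∧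
      ∃ (e : Γ(L, W)) (f : Γ(X, W)),
        sv s W = f • e ∧ X.basicOpen f = (CohB1.genLocus L s ⊓ U₀) ⊓ W ∧ IsGen L W e :=
    fun x => exists_frame_le L hL s U₀ x.1 x.2
  choose W hxW hWle hWaff e f hval hbo hgen using hfr
  obtain ⟨T, hT⟩ : ∃ T : Finset U₀, U₀ ≤ ⨆ x : T, W x.1 := by
    obtain ⟨T, hT⟩ := hU₀.elim_finite_subcover (fun x : U₀ => (W x : Set X)) (fun x => (W x).2)
      (fun y hy => Set.mem_iUnion.2 ⟨⟨y, hy⟩, hxW ⟨y, hy⟩⟩)
    refine ⟨T, fun y hy => ?_⟩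
    obtain ⟨z, hz⟩ := Set.mem_iUnion.1 (hT hy)
    obtain ⟨hzT, hyz⟩ := Set.mem_iUnion.1 hz
    exact Opens.mem_iSup.2 ⟨⟨z, hzT⟩, hyz⟩
  -- Step 1 : local extensions
  have h1 : ∀ x, ∃ (n : ℕ) (tx : Γ(F, W x)), res F (X.basicOpen_le (f x)) tx =
      resf (X.basicOpen_le (f x)) (f x) ^ n • res F ((hbo x).le.trans inf_le_left) t := by
    intro x
    exact exists_extension_qcqs' (hWaff x).isCompact (hWaff x).isQuasiSeparated F (f x)
      (X.basicOpen (f x)) rfl (X.basicOpen_le _) _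
  choose n0 t0 ht0 using h1
  obtain ⟨N, hN⟩ : ∃ N : ℕ, N = T.sup n0 := ⟨_, rfl⟩
  have h1' : ∀ x : T, ∃ tx : Γ(F, W x.1), res F (X.basicOpen_le (f x.1)) tx =
      resf (X.basicOpen_le (f x.1)) (f x.1) ^ N • res F ((hbo x.1).le.trans inf_le_left) t := by
    intro x
    have hle : n0 x.1 ≤ N := hN ▸ Finset.le_sup x.2
    obtain ⟨k, hk⟩ := Nat.exists_eq_add_of_le hle
    refine ⟨(f x.1) ^ k • t0 x.1, ?_⟩
    rw [res_smul, ht0, resf_pow, ← mul_smul, ← pow_add, hk, add_comm]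
  choose t1 ht1 using h1'
  -- Step 2 : compatibility
  have hc : ∀ x y : T, IsCompact ((W x.1 ⊓ W y.1 : X.Opens) : Set X) := fun x y =>
    hqs _ _ (hWle x.1) (hWle y.1) (hWaff x.1) (hWaff y.1)
  have h2 : ∀ x y : T, ∃ m : ℕ, ∀ k, m ≤ k →
      tw F L (W x.1 ⊓ W y.1) (res F inf_le_left (f x.1 ^ k • t1 x)) (res L inf_le_left (e x.1)) (N + k) =
      tw F L (W x.1 ⊓ W y.1) (res F inf_le_right (f y.1 ^ k • t1 y)) (res L inf_le_right (e y.1))
        (N + k) := fun x y =>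
    exists_compat_rel F L s (CohB1.genLocus L s ⊓ U₀) t (hc x y) (e x.1) (e y.1) (f x.1) (f y.1)
      (hval x.1) (hval y.1) (hgen y.1) (hbo x.1) (hbo y.1) N (t1 x) (t1 y) (ht1 x) (ht1 y)
  choose m hm using h2
  obtain ⟨M, hM⟩ : ∃ M : ℕ,
      M = (Finset.univ : Finset (T × T)).sup (fun p => m p.1 p.2) + 1 := ⟨_, rfl⟩
  have hmM : ∀ x y : T, m x y ≤ M := fun x y => by
    rw [hM]
    exact (Finset.le_sup (f := fun p : T × T => m p.1 p.2) (Finset.mem_univ (x, y))).trans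
      (Nat.le_succ _)
  -- Step 3 : glue
  have hcompat : TopCat.Presheaf.IsCompatible
      (modSheaf (CohB1.tensorMod F (CohB1.tensorPow L (N + M)))).1
      (fun x : T => W x.1) (fun x => tw F L (W x.1) (f x.1 ^ M • t1 x) (e x.1) (N + M)) := by
    intro x y
    change res _ (inf_le_left : W x.1 ⊓ W y.1 ≤ W x.1) (tw F L (W x.1) (f x.1 ^ M • t1 x) (e x.1) (N + M)) =
      res _ (inf_le_right : W x.1 ⊓ W y.1 ≤ W y.1) (tw F L (W y.1) (f y.1 ^ M • t1 y) (e y.1) (N + M))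
    rw [res_tw, res_tw]
    exact hm x y M (hmM x y)
  obtain ⟨t', ht'⟩ : ∃ t' : Γ(CohB1.tensorMod F (CohB1.tensorPow L (N + M)), U₀), ∀ x : T,
      res _ (hWle x.1) t' = tw F L (W x.1) (f x.1 ^ M • t1 x) (e x.1) (N + M) := by
    obtain ⟨t', ht', -⟩ :=
      (modSheaf (CohB1.tensorMod F (CohB1.tensorPow L (N + M)))).existsUnique_gluing'
        (fun x : T => W x.1) U₀ (fun x => homOfLE (hWle x.1)) hT _ hcompat
    exact ⟨t', ht'⟩
  refine ⟨N + M, by rw [hM]; omega, t', ?_⟩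
  -- Step 4 : check on the cover of `X_s ∩ U₀`
  have hcov : CohB1.genLocus L s ⊓ U₀ ≤ ⨆ x : T, X.basicOpen (f x.1) := by
    intro y hy
    obtain ⟨x, hx⟩ := Opens.mem_iSup.1 (hT hy.2)
    refine Opens.mem_iSup.2 ⟨x, ?_⟩
    rw [hbo]
    exact ⟨hy, hx⟩
  refine (modSheaf _).eq_of_locally_eq' (fun x : T => X.basicOpen (f x.1)) _
    (fun x => homOfLE ((hbo x.1).le.trans inf_le_left)) hcov _ _ (fun x => ?_)
  have hx' : res _ (hWle x.1) t' = tw F L (W x.1) (f x.1 ^ M • t1 x) (e x.1) (N + M) := ht' x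
  change res _ ((hbo x.1).le.trans inf_le_left)
      (res _ (inf_le_right : CohB1.genLocus L s ⊓ U₀ ≤ U₀) t') =
    res _ ((hbo x.1).le.trans inf_le_left)
      (tw F L (CohB1.genLocus L s ⊓ U₀) t (sv s _) (N + M))
  have e1 : res _ ((hbo x.1).le.trans inf_le_left)
      (res _ (inf_le_right : CohB1.genLocus L s ⊓ U₀ ≤ U₀) t') =
      res _ (X.basicOpen_le (f x.1)) (res _ (hWle x.1) t') := by
    rw [res_res, res_res]
  rw [e1, hx', res_tw, res_tw, res_smul, ht1, resf_pow, ← mul_smul, ← pow_add, add_comm M N,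
    ← tw_smul, res_sv, ← res_smul, ← hval, res_sv]

end Groth.Agent.Lib.R2H2.SecTwRel
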