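import Groth.Agent.Lib.R2H2RegCounitA
import Groth.Agent.Lib.R2H2SecTwRel
import Groth.Agent.Lib.R2H2PnSerre
import Groth.Agent.Lib.Helper27OpenImmAmple
import Groth.Agent.Lib.Helper23CounitEpi
import Groth.Agent.Lib.Helper23SecTw6
import Groth.Agent.Lib.Helper23PB3
import Groth.Agent.Lib.Helper2QCoh
import Groth.Agent.S9705

/-!
# Regular sheaves on `P^n_T` are generated by their direct image (helper2, round 2)

* `twR_map_tm` : naturality of `m ⊗ x` in the first variable;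
* `app_eq_of_app_eq_affine` : morphisms out of a quasi-coherent module agreeing on an affine open `N`
  agree on every open contained in `N`;
* `epi_counit_of_isRegSheaf` : for `F` quasi-coherent and regular on `P^n_T`, the counit
  `p^* p_* F ⟶ F` is an epimorphism (Mumford, Quillen).
-/

set_option autoImplicit false
universe u

namespace Groth.Agent.Lib.R2H2.RegCounitB

open CategoryTheory CategoryTheory.Limits AlgebraicGeometry TopologicalSpace Opposite
  MonoidalCategory TensorProduct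
open Groth.Agent.Lib.Helper23.SecTw Groth.Agent.Lib.Helper23.GenLocus
  Groth.Agent.Lib.Helper23.QCohLocal Groth.Agent.Lib.Helper6
open Groth.Agent.Lib.R2H2.PnSerre Groth.Agent.Lib.R2H2.PnReg Groth.Agent.Lib.R2H2.KoszulPnT
  Groth.Agent.Lib.R2H2.RegCounitA Groth.Agent.Lib.R2H2.SecTwRel
open Groth.Agent.Lib.R2Lead.KRR
open Groth.Agent.Lib.Helper27GrTildeSect

section General

variable {X : Scheme.{u}}

/-- naturality of `m ⊗ x` in the first variable -/
theorem twR_map_tm {F G : X.Modules} (χ : F ⟶ G) (N : X.Modules) (U : X.Opens) (t : Γ(F, U))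
    (x : Γ(N, U)) : ((twR N).map χ).app U (tm F N U t x) = tm G N U (χ.app U t) x := by
  have h1 := (PresheafOfModules.sheafificationAdjunction (𝟙 X.ringCatSheaf.obj)).unit.naturality
    ((show CohB1.toPMod F ⟶ CohB1.toPMod G from χ.val) ▷ CohB1.toPMod N)
  have h2 := congrArg (fun φ => (φ.app (op U)).hom (t ⊗ₜ x)) h1
  exact h2.symm

/-- morphisms out of a quasi-coherent module which agree on an affine open agree on all smaller opens -/
theorem app_eq_of_app_eq_affine {F G : X.Modules} [F.IsQuasicoherent] (φ ψ : F ⟶ G)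
    {N : X.Opens} (hN : IsAffineOpen N) (h : φ.app N = ψ.app N) (W : X.Opens) (hW : W ≤ N) :
    φ.app W = ψ.app W := by
  ext m
  have hloc : ∀ y : W, ∃ g : Γ(X, N), X.basicOpen g ≤ W ∧ y.1 ∈ X.basicOpen g :=
    fun y => hN.exists_basicOpen_le y (hW y.2)
  choose g hgW hyg using hloc
  refine (modSheaf G).eq_of_locally_eq' (fun y : W => X.basicOpen (g y)) W
    (fun y => homOfLE (hgW y)) ?_ _ _ (fun y => ?_)
  · intro z hz
    exact Opens.mem_iSup.2 ⟨⟨z, hz⟩, hyg ⟨z, hz⟩⟩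
  · change res G (hgW y) (φ.app W m) = res G (hgW y) (ψ.app W m)
    have e1 : ∀ χ : F ⟶ G, res G (hgW y) (χ.app W m) = χ.app _ (res F (hgW y) m) :=
      fun χ => (Groth.Agent.Lib.Helper23.Extend.app_map χ (homOfLE (hgW y)) m).symm
    rw [e1 φ, e1 ψ]
    obtain ⟨k, t, ht⟩ := Groth.Agent.Lib.Helper2.QCoh.exists_extension hN F (g y) (res F (hgW y) m)
    have e2 : ∀ χ : F ⟶ G, χ.app _ (F.presheaf.map (homOfLE (X.basicOpen_le (g y))).op t) =
        G.presheaf.map (homOfLE (X.basicOpen_le (g y))).op (χ.app N t) :=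
      fun χ => Groth.Agent.Lib.Helper23.Extend.app_map χ (homOfLE (X.basicOpen_le (g y))) t
    have e3 : φ.app _ (F.presheaf.map (homOfLE (X.basicOpen_le (g y))).op t) =
        ψ.app _ (F.presheaf.map (homOfLE (X.basicOpen_le (g y))).op t) := by
      rw [e2 φ, e2 ψ, h]
    rw [ht, Scheme.Modules.Hom.app_smul, Scheme.Modules.Hom.app_smul] at e3
    have hu : IsUnit ((X.presheaf.map (homOfLE (X.basicOpen_le (g y))).op (g y)) ^ k) :=
      (RingedSpace.isUnit_res_basicOpen X.toRingedSpace (g y)).pow k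
    exact hu.smul_left_cancel.1 e3

end General

variable (n : ℕ) (T : Scheme.{u})


/-- `O(1)` on `P^n_T` -/
noncomputable abbrev L1 : (KRR.PY n T).Modules :=
  (Scheme.Modules.pullback (fstZ n T)).obj (GrTilde.tilde (CohB1.polyGrading n (ULift.{u} ℤ)) (CohB1.polyGrading n (ULift.{u} ℤ)) ((1 : ℕ) : ℤ))

lemma L1_eq : L1 n T = Twist.twistOver n T ((1 : ℕ) : ℤ) := rfl

lemma hcovX (x : KRR.PY n T) :
    ∃ k : Fin (n + 1), (fstZ n T) x ∈ Proj.basicOpen (CohB1.polyGrading n (ULift.{u} ℤ)) (xs n (ULift.{u} ℤ) k) := by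
  obtain ⟨l, hl⟩ := xs_cov n (ULift.{u} ℤ)
    (show ProjectiveSpectrum (CohB1.polyGrading n (ULift.{u} ℤ)) from (fstZ n T) x)
  exact ⟨l, (ProjectiveSpectrum.mem_basicOpen (CohB1.polyGrading n (ULift.{u} ℤ)) _ _).2 hl⟩

/-- the coordinate sections of `O(1)` -/
noncomputable def sec (i : Fin (n + 1)) : Coh.structureModule (KRR.PY n T) ⟶ L1 n T :=
  secHom _ (ProjUP.pullSec (fstZ n T) (GrTilde.tilde (CohB1.polyGrading n (ULift.{u} ℤ)) (CohB1.polyGrading n (ULift.{u} ℤ)) ((1 : ℕ) : ℤ))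
    (gsec (CohB1.polyGrading n (ULift.{u} ℤ)) 1 ⊤ (xs_mem n (ULift.{u} ℤ) i)))

lemma genLocus_sec (i : Fin (n + 1)) :
    CohB1.genLocus (L1 n T) (sec n T i) =
      (fstZ n T) ⁻¹ᵁ Proj.basicOpen (CohB1.polyGrading n (ULift.{u} ℤ)) (xs n (ULift.{u} ℤ) i) :=
  genLocus_pullSec_gsec (CohB1.polyGrading n (ULift.{u} ℤ)) 1 (xs n (ULift.{u} ℤ)) (xs_mem n (ULift.{u} ℤ)) (fstZ n T)
    (hcovX n T) i

lemma isInvertible_L1 : PicF.IsInvertible (L1 n T) :=
  isInvertible_twistOver n T ((1 : ℕ) : ℤ)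

theorem nonempty_tensorPow_iso (k : ℕ) :
    Nonempty (CohB1.tensorPow (L1 n T) k ≅ Twist.twistOver n T (k : ℤ)) := by
  induction k with
  | zero =>
    obtain ⟨e⟩ := nonempty_twistOver_zero_iso n T
    exact ⟨e.symm⟩
  | succ k ih =>
    obtain ⟨ek⟩ := ih
    obtain ⟨e⟩ := nonempty_twistOver_tensor_iso n T (k : ℤ) ((1 : ℕ) : ℤ)
    have e1 : CohB1.tensorPow (L1 n T) (k + 1) ≅
        (DCoh.tensorBi.obj (Twist.twistOver n T k)).obj (Twist.twistOver n T ((1 : ℕ) : ℤ)) :=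
      (DCoh.tensorBi.mapIso ek).app (L1 n T)
    have hc : ((k + 1 : ℕ) : ℤ) = (k : ℤ) + ((1 : ℕ) : ℤ) := by
      push_cast
      ring
    rw [hc]
    exact ⟨e1 ≪≫ e⟩

variable {F G : (KRR.PY n T).Modules}

/-- morphisms out of a regular sheaf agreeing on the `p⁻¹ V` agree on the `p⁻¹ V` after twisting -/
theorem twR_pow_map_app_eq (hreg : KRR.IsRegSheaf n T F) (φ ψ : F ⟶ G)
    (h : ∀ V : T.Opens, φ.app (KRR.pr n T ⁻¹ᵁ V) = ψ.app (KRR.pr n T ⁻¹ᵁ V)) (k : ℕ)
    (V : T.Opens) :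
    ((twR (CohB1.tensorPow (L1 n T) k)).map φ).app (KRR.pr n T ⁻¹ᵁ V) =
      ((twR (CohB1.tensorPow (L1 n T) k)).map ψ).app (KRR.pr n T ⁻¹ᵁ V) := by
  have h0 : (Scheme.Modules.pushforward (KRR.pr n T)).map φ =
      (Scheme.Modules.pushforward (KRR.pr n T)).map ψ :=
    Scheme.Modules.hom_ext _ _ (fun V => h V)
  have h1 := push_twFun_map_eq n T hreg φ ψ h0 k
  obtain ⟨ek⟩ := nonempty_tensorPow_iso n T k
  let Ψ : twR (CohB1.tensorPow (L1 n T) k) ≅ twFun n T (k : ℤ) :=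
    (DCoh.tensorBi (X := KRR.PY n T)).flip.mapIso ek ≪≫ (twIso (Twist.twistOver n T k)).symm
  have h2 : ∀ χ : F ⟶ G, (twR (CohB1.tensorPow (L1 n T) k)).map χ =
      Ψ.hom.app F ≫ (twFun n T (k : ℤ)).map χ ≫ Ψ.inv.app G := fun χ => by
    have h3 := Ψ.hom.naturality χ
    rw [← Category.assoc, ← h3, Category.assoc, Iso.hom_inv_id_app, Category.comp_id]
  have h3 : (Scheme.Modules.pushforward (KRR.pr n T)).map
      ((twR (CohB1.tensorPow (L1 n T) k)).map φ) =
      (Scheme.Modules.pushforward (KRR.pr n T)).map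
        ((twR (CohB1.tensorPow (L1 n T) k)).map ψ) := by
    rw [h2 φ, h2 ψ, CategoryTheory.Functor.map_comp, CategoryTheory.Functor.map_comp,
      CategoryTheory.Functor.map_comp, CategoryTheory.Functor.map_comp, h1]
  exact congrArg (fun m => Scheme.Modules.Hom.app m V) h3

/-- **Mumford–Quillen**: a quasi-coherent regular sheaf on `P^n_T` is generated by its direct image -/
theorem epi_counit_of_isRegSheaf (F : (KRR.PY n T).Modules) (hF : Coh.IsQCoh F)
    (hreg : KRR.IsRegSheaf n T F) :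
    Epi ((Scheme.Modules.pullbackPushforwardAdjunction (KRR.pr n T)).counit.app F) := by
  haveI : F.IsQuasicoherent := hF
  rw [Groth.Agent.Lib.Helper23.CounitEpi.epi_counit_iff]
  intro G φ ψ hV
  apply Groth.Agent.Lib.Helper23.CounitEpi.hom_ext_of_cover
  intro x
  haveI := Groth.Agent.S9705.isProper_toBase n T
  obtain ⟨V, hVaff, hxV, -⟩ := Opens.isBasis_iff_nbhd.1 T.isBasis_affineOpens
    (show (KRR.pr n T) x ∈ (⊤ : T.Opens) from trivial)
  obtain ⟨i, hi⟩ := hcovX n T x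
  have hL := isInvertible_L1 n T
  obtain ⟨U₀, hU₀⟩ : ∃ U₀ : (KRR.PY n T).Opens, U₀ = KRR.pr n T ⁻¹ᵁ V := ⟨_, rfl⟩
  obtain ⟨N, hNdef⟩ : ∃ N : (KRR.PY n T).Opens,
      N = CohB1.genLocus (L1 n T) (sec n T i) ⊓ U₀ := ⟨_, rfl⟩
  have hxN : x ∈ N := by
    rw [hNdef, genLocus_sec, hU₀]
    exact ⟨hi, hxV⟩
  have hNaff : IsAffineOpen N := by
    rw [hNdef, genLocus_sec, hU₀]
    exact Groth.Agent.Lib.Helper23.PB.isAffineOpen_pullback_inf
      (Proj.isAffineOpen_basicOpen (CohB1.polyGrading n (ULift.{u} ℤ)) (xs n (ULift.{u} ℤ) i) (xs_mem n (ULift.{u} ℤ) i)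
        Nat.one_pos) hVaff (W := ⊤) (isAffineOpen_top _) (fun _ _ => trivial)
        (fun _ _ => trivial)
  have hc : IsCompact (U₀ : Set (KRR.PY n T)) := by
    rw [hU₀]
    exact (KRR.pr n T).isCompact_preimage hVaff.isCompact
  have hqs' : IsQuasiSeparated (U₀ : Set (KRR.PY n T)) := by
    rw [hU₀]
    exact (KRR.pr n T).isQuasiSeparated_preimage hVaff.isQuasiSeparated
  have hqs : ∀ W W' : (KRR.PY n T).Opens, W ≤ U₀ → W' ≤ U₀ → IsAffineOpen W → IsAffineOpen W' →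
      IsCompact ((W ⊓ W' : (KRR.PY n T).Opens) : Set (KRR.PY n T)) :=
    fun W W' hW hW' haW haW' => hqs' W W' hW W.2 haW.isCompact hW' W'.2 haW'.isCompact
  refine ⟨N, hxN, ?_⟩
  have hN : φ.app N = ψ.app N := by
    subst hNdef
    ext t
    obtain ⟨k, -, t', ht'⟩ := main_rel U₀ hc hqs (L1 n T) hL (sec n T i) F t
    have h1 := twR_pow_map_app_eq n T hreg φ ψ hV k V
    rw [← hU₀] at h1
    have h2 : ∀ χ : F ⟶ G,
        res _ (inf_le_right : CohB1.genLocus (L1 n T) (sec n T i) ⊓ U₀ ≤ U₀)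
          (((twR (CohB1.tensorPow (L1 n T) k)).map χ).app U₀ t') =
        tm G (CohB1.tensorPow (L1 n T) k) _ (χ.app _ t)
          (pw (L1 n T) _ (sv (sec n T i) _) k) := fun χ => by
      have e1 := Groth.Agent.Lib.Helper23.Extend.app_map
        ((twR (CohB1.tensorPow (L1 n T) k)).map χ)
        (homOfLE (inf_le_right : CohB1.genLocus (L1 n T) (sec n T i) ⊓ U₀ ≤ U₀)) t'
      refine e1.symm.trans ?_
      have e2 : (CohB1.tensorMod F (CohB1.tensorPow (L1 n T) k)).presheaf.map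
          (homOfLE (inf_le_right : CohB1.genLocus (L1 n T) (sec n T i) ⊓ U₀ ≤ U₀)).op t' =
          tm F (CohB1.tensorPow (L1 n T) k) _ t (pw (L1 n T) _ (sv (sec n T i) _) k) := ht'
      exact (congrArg (fun z => ((twR (CohB1.tensorPow (L1 n T) k)).map χ).app
        (CohB1.genLocus (L1 n T) (sec n T i) ⊓ U₀) z) e2).trans (twR_map_tm χ _ _ t _)
    have h3 : tm G (CohB1.tensorPow (L1 n T) k) _ (φ.app _ t)
          (pw (L1 n T) _ (sv (sec n T i) _) k) =
        tm G (CohB1.tensorPow (L1 n T) k) _ (ψ.app _ t)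
          (pw (L1 n T) _ (sv (sec n T i) _) k) := by
      rw [← h2 φ, ← h2 ψ, h1]
    have hgen : IsGen (L1 n T) (CohB1.genLocus (L1 n T) (sec n T i) ⊓ U₀)
        (sv (sec n T i) _) := by
      have h4 := (isGen_sv_genLocus (L1 n T) (sec n T i)).mono
        (inf_le_left : CohB1.genLocus (L1 n T) (sec n T i) ⊓ U₀ ≤ _)
      rwa [res_sv] at h4
    have hgenk := isGen_pw (L1 n T) _ _ hgen k
    have hinj := injective_tm_of_isGen G (CohB1.tensorPow (L1 n T) k) _ _ hgenk _ le_rfl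
    apply hinj
    change tm G _ _ (φ.app _ t) (res _ le_rfl _) = tm G _ _ (ψ.app _ t) (res _ le_rfl _)
    rw [res_self]
    exact h3
  intro W hW
  exact app_eq_of_app_eq_affine φ ψ hNaff hN W hW

end Groth.Agent.Lib.R2H2.RegCounitB
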