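import Groth.Agent.Lib.R2H2PnPullVan
import Groth.Agent.Lib.R2H2RegCounitB
import Groth.Agent.S19433

/-!
# The kernel of `p^* p_* F ⟶ F` for a regular sheaf on `P^n_T` (helper2, round 2)

* `isRegSheaf_twF_one_pullback` : `(p^* G)(1)` is regular for every quasi-coherent `G` on `T`;
* `isRegSheaf_twF_one_kernel_counit` : for `F` quasi-coherent and regular, `Z(1)` is regular where
  `Z = ker (p^* p_* F ⟶ F)` (Mumford, Quillen); no hypothesis on `T`.
-/

set_option autoImplicit false
set_option linter.style.haveILetI false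
universe u

namespace Groth.Agent.Lib.R2H2.RegKernel

open CategoryTheory CategoryTheory.Limits AlgebraicGeometry TopologicalSpace Opposite
open Groth.Agent.Lib.R2H2.KoszulRel Groth.Agent.Lib.R2H2.KoszulPnT Groth.Agent.Lib.R2Lead.KRR
  Groth.Agent.Lib.R2H2.PnPullVan Groth.Agent.Lib.Helper23.QCohLocal

variable (n : ℕ) (T : Scheme.{u})

/-- `(p^* G)(1)` is regular -/
theorem isRegSheaf_twF_one_pullback (G : T.Modules) [G.IsQuasicoherent] :
    KRR.IsRegSheaf n T (KRR.twF n T 1 ((Scheme.Modules.pullback (KRR.pr n T)).obj G)) := by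
  intro i hi
  obtain ⟨e⟩ := nonempty_twFun_comp_iso n T (-(i : ℤ)) 1
  have e' : KRR.twF n T (-(i : ℤ)) (KRR.twF n T 1 ((Scheme.Modules.pullback (KRR.pr n T)).obj G)) ≅
      KRR.twF n T (-(i : ℤ) + 1) ((Scheme.Modules.pullback (KRR.pr n T)).obj G) := e.app _
  by_cases hin : i ≤ n + 1
  · have h := isZero_RpushAb_twF_pullback n T G (-(i : ℤ) + 1) (by omega) i hi
    exact van_of_iso (KRR.pr n T) i e'.symm h
  · haveI := isQuasicoherent_twF_pullback n G (-(i : ℤ) + 1)
    have h := isZero_RpushAb_of_gt n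
      (KRR.twF n T (-(i : ℤ) + 1) ((Scheme.Modules.pullback (KRR.pr n T)).obj G)) i (by omega)
    exact van_of_iso (KRR.pr n T) i e'.symm h

/-- **Mumford–Quillen**: the kernel `Z` of `p^* p_* F ⟶ F` has `Z(1)` regular -/
theorem isRegSheaf_twF_one_kernel_counit (F : (KRR.PY n T).Modules) (hF : Coh.IsQCoh F)
    (hreg : KRR.IsRegSheaf n T F) :
    KRR.IsRegSheaf n T (KRR.twF n T 1
      (kernel ((Scheme.Modules.pullbackPushforwardAdjunction (KRR.pr n T)).counit.app F))) := by
  haveI : F.IsQuasicoherent := hF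
  haveI := Groth.Agent.S9705.isProper_toBase n T
  haveI hG : ((Scheme.Modules.pushforward (KRR.pr n T)).obj F).IsQuasicoherent :=
    isQuasicoherent_pushforward (KRR.pr n T) F
  haveI hpG : ((Scheme.Modules.pullback (KRR.pr n T)).obj
      ((Scheme.Modules.pushforward (KRR.pr n T)).obj F)).IsQuasicoherent :=
    Groth.Agent.Lib.Helper2.PullbackSec.isQuasicoherent_pullback _ _
  have hε : Epi ((Scheme.Modules.pullbackPushforwardAdjunction (KRR.pr n T)).counit.app F) :=
    Groth.Agent.Lib.R2H2.RegCounitB.epi_counit_of_isRegSheaf n T F hF hreg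
  let S : ShortComplex (KRR.PY n T).Modules :=
    ShortComplex.mk (kernel.ι ((Scheme.Modules.pullbackPushforwardAdjunction (KRR.pr n T)).counit.app F))
      ((Scheme.Modules.pullbackPushforwardAdjunction (KRR.pr n T)).counit.app F) (kernel.condition _)
  have hS : S.ShortExact :=
    { exact := ShortComplex.exact_kernel _
      mono_f := equalizer.ι_mono
      epi_g := hε }
  haveI hpG' : ((Scheme.Modules.pushforward (KRR.pr n T) ⋙
      Scheme.Modules.pullback (KRR.pr n T)).obj F).IsQuasicoherent := hpG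
  haveI hF' : ((𝟭 (KRR.PY n T).Modules).obj F).IsQuasicoherent := hF
  have h₁ : Coh.IsQCoh S.X₁ := isQuasicoherent_kernel _
  have hepi : Epi ((Scheme.Modules.pushforward (KRR.pr n T)).map S.g) := by
    have h := (Scheme.Modules.pullbackPushforwardAdjunction (KRR.pr n T)).right_triangle_components F
    exact epi_of_epi_fac h
  exact Groth.Agent.S19433.result n T S hS h₁ hpG hF
    (isRegSheaf_twF_one_pullback n T ((Scheme.Modules.pushforward (KRR.pr n T)).obj F)) hreg hepi

end Groth.Agent.Lib.R2H2.RegKernel
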