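import Groth.Agent.Lib.R2H2UnitIso
import Groth.Agent.Lib.R2H2RegKernel
import Groth.Agent.Lib.R2H2RegK0
import Groth.Agent.Lib.R2H2RegTwist
import Groth.Agent.Lib.R2H2KoszulNat
set_option backward.isDefEq.respectTransparency.types false

/-!
# Quillen's canonical resolution of a regular sheaf on `P^n_T` (helper2, round 2)

`F` quasi-coherent and regular on `P^n_T`.  Put `W_0 = F`, `W_{k+1} = (ker (p^* p_* W_k ⟶ W_k))(1)`;
all `W_k` are regular, `W_{n+1} = 0`, and the complex with terms `p^*(p_* W_k)(-k)` resolves `F`.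
-/

set_option autoImplicit false
set_option linter.unusedSectionVars false
set_option linter.style.haveILetI false
universe v u

namespace Groth.Agent.Lib.R2H2.QuillenRes

open CategoryTheory CategoryTheory.Limits AlgebraicGeometry TopologicalSpace Opposite
open Groth.Agent.Lib.R2H2.KoszulRel Groth.Agent.Lib.R2H2.KoszulPnT Groth.Agent.Lib.R2Lead.KRR
  Groth.Agent.Lib.R2H2.PnPullVan Groth.Agent.Lib.Helper23.QCohLocal Groth.Agent.Lib.R2H2.RegK0

section Abstract

variable {C : Type u} [Category.{v} C] [Abelian C]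

theorem exact_of_epi_comp_mono {X₀ X₁ X₂ X₃ X₄ : C} (e : X₀ ⟶ X₁) (f : X₁ ⟶ X₂) (g : X₂ ⟶ X₃)
    (m : X₃ ⟶ X₄) [Epi e] [Mono m] (w : f ≫ g = 0) (h : (ShortComplex.mk f g w).Exact)
    (w' : (e ≫ f) ≫ (g ≫ m) = 0) : (ShortComplex.mk (e ≫ f) (g ≫ m) w').Exact := by
  have w₁ : (e ≫ f) ≫ g = 0 := by rw [Category.assoc, w, comp_zero]
  let φ₁ : ShortComplex.mk (e ≫ f) g w₁ ⟶ ShortComplex.mk f g w :=
    { τ₁ := e
      τ₂ := 𝟙 _
      τ₃ := 𝟙 _
      comm₁₂ := by simp
      comm₂₃ := by simp }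
  haveI : Epi φ₁.τ₁ := by dsimp [φ₁]; infer_instance
  haveI : IsIso φ₁.τ₂ := by dsimp [φ₁]; infer_instance
  haveI : Mono φ₁.τ₃ := by dsimp [φ₁]; infer_instance
  have h₁ : (ShortComplex.mk (e ≫ f) g w₁).Exact :=
    (ShortComplex.exact_iff_of_epi_of_isIso_of_mono φ₁).2 h
  let φ₂ : ShortComplex.mk (e ≫ f) g w₁ ⟶ ShortComplex.mk (e ≫ f) (g ≫ m) w' :=
    { τ₁ := 𝟙 _
      τ₂ := 𝟙 _
      τ₃ := m
      comm₁₂ := by simp
      comm₂₃ := by simp }
  haveI : Epi φ₂.τ₁ := by dsimp [φ₂]; infer_instance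
  haveI : IsIso φ₂.τ₂ := by dsimp [φ₂]; infer_instance
  haveI : Mono φ₂.τ₃ := by dsimp [φ₂]; infer_instance
  exact (ShortComplex.exact_iff_of_epi_of_isIso_of_mono φ₂).1 h₁

end Abstract

section General

variable {X Y : Scheme.{u}} (f : X ⟶ Y)

theorem van_zero_iff (M : X.Modules) :
    Van f 0 M ↔ IsZero ((Scheme.Modules.pushforward f).obj M) := by
  haveI : PreservesLimitsOfSize.{0, 0} (Coh.pushAb f) :=
    (TopCat.Sheaf.pullbackPushforwardAdjunction AddCommGrpCat.{u} f.base).rightAdjoint_preservesLimits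
  haveI : PreservesFiniteLimits (Coh.pushAb f) := PreservesLimitsOfSize.preservesFiniteLimits _
  let e := (Coh.pushAb f).rightDerivedZeroIsoSelf
  haveI : (toAbF Y).Faithful :=
    inferInstanceAs ((SheafOfModules.toSheaf Y.ringCatSheaf).Faithful)
  constructor
  · intro h
    have h1 : IsZero ((Coh.pushAb f).obj (Coh.toAb M)) := IsZero.of_iso h (e.app _).symm
    have h2 : IsZero ((toAbF Y).obj ((Scheme.Modules.pushforward f).obj M)) := h1
    rw [IsZero.iff_id_eq_zero]
    apply (toAbF Y).map_injective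
    rw [CategoryTheory.Functor.map_id, Functor.map_zero]
    exact h2.eq_of_src _ _
  · intro h
    have h2 : IsZero ((toAbF Y).obj ((Scheme.Modules.pushforward f).obj M)) :=
      (toAbF Y).map_isZero h
    have h1 : IsZero ((Coh.pushAb f).obj (Coh.toAb M)) := h2
    exact IsZero.of_iso h1 (e.app _)

/-- if `f_* X₂ ⟶ f_* X₃` is an epimorphism and `R¹ f_* X₂ = 0` then `R¹ f_* X₁ = 0` -/
theorem van_one_X₁ (S : ShortComplex X.Modules) (hS : S.ShortExact)
    (hepi : Epi ((Scheme.Modules.pushforward f).map S.g)) (h₂ : Van f 1 S.X₂) :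
    Van f 1 S.X₁ := by
  have hS' := shortExact_toAbF S hS
  obtain ⟨T⟩ := Groth.Agent.Lib.Helper17.RDerLib.nonempty_sesRes _ hS'
  haveI : PreservesLimitsOfSize.{0, 0} (Coh.pushAb f) :=
    (TopCat.Sheaf.pullbackPushforwardAdjunction AddCommGrpCat.{u} f.base).rightAdjoint_preservesLimits
  haveI : PreservesFiniteLimits (Coh.pushAb f) := PreservesLimitsOfSize.preservesFiniteLimits _
  let e := (Coh.pushAb f).rightDerivedZeroIsoSelf
  haveI : PreservesFiniteColimits (toAbF Y) :=
    inferInstanceAs (PreservesFiniteColimits (SheafOfModules.toSheaf Y.ringCatSheaf))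
  have hepi2 : Epi ((Coh.pushAb f).map ((toAbF X).map S.g)) := by
    haveI := hepi
    have : Epi ((toAbF Y).map ((Scheme.Modules.pushforward f).map S.g)) := inferInstance
    exact this
  have hnat : ((Coh.pushAb f).rightDerived 0).map ((toAbF X).map S.g) =
      e.hom.app _ ≫ (Coh.pushAb f).map ((toAbF X).map S.g) ≫ e.inv.app _ := by
    rw [← Category.assoc, ← e.hom.naturality, Category.assoc, Iso.hom_inv_id_app, Category.comp_id]
  have ha : Epi (((Coh.pushAb f).rightDerived 0).map ((toAbF X).map S.g)) := by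
    rw [hnat]
    infer_instance
  have hδ : T.delta (Coh.pushAb f) 0 1 rfl = 0 := by
    have h0 := Groth.Agent.Lib.Helper17.RDerLib.comp_δ (Coh.pushAb f) T 0 1 rfl
    haveI : Epi (((Coh.pushAb f).rightDerived 0).map (S.map (toAbF X)).g) := ha
    exact (cancel_epi (((Coh.pushAb f).rightDerived 0).map (S.map (toAbF X)).g)).1
      (h0.trans comp_zero.symm)
  have hex := Groth.Agent.Lib.Helper17.RDerLib.exact₁ (Coh.pushAb f) T 0 1 rfl
  have hmono : Mono (((Coh.pushAb f).rightDerived 1).map ((toAbF X).map S.f)) := hex.mono_g hδ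
  exact @IsZero.of_mono _ _ _ _ _ (((Coh.pushAb f).rightDerived 1).map ((toAbF X).map S.f))
    hmono h₂

end General

variable (n : ℕ) (T : Scheme.{u})

/-- quasi-coherent and regular -/
def Good (W : (KRR.PY n T).Modules) : Prop := Coh.IsQCoh W ∧ KRR.IsRegSheaf n T W

/-- the counit `p^* p_* W ⟶ W` -/
noncomputable abbrev eps (W : (KRR.PY n T).Modules) :
    (Scheme.Modules.pullback (KRR.pr n T)).obj ((Scheme.Modules.pushforward (KRR.pr n T)).obj W) ⟶
      W :=
  (Scheme.Modules.pullbackPushforwardAdjunction (KRR.pr n T)).counit.app W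

/-- `W ↦ (ker (p^* p_* W ⟶ W))(1)` -/
noncomputable def next (W : (KRR.PY n T).Modules) : (KRR.PY n T).Modules :=
  KRR.twF n T 1 (kernel (eps n T W))

variable {n T}

theorem isQuasicoherent_pullpush {W : (KRR.PY n T).Modules} (h : Good n T W) :
    ((Scheme.Modules.pullback (KRR.pr n T)).obj
      ((Scheme.Modules.pushforward (KRR.pr n T)).obj W)).IsQuasicoherent := by
  haveI : W.IsQuasicoherent := h.1
  haveI := Groth.Agent.S9705.isProper_toBase n T
  haveI hG : ((Scheme.Modules.pushforward (KRR.pr n T)).obj W).IsQuasicoherent :=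
    isQuasicoherent_pushforward (KRR.pr n T) W
  exact Groth.Agent.Lib.Helper2.PullbackSec.isQuasicoherent_pullback _ _

theorem isQuasicoherent_push {W : (KRR.PY n T).Modules} (h : Good n T W) :
    ((Scheme.Modules.pushforward (KRR.pr n T)).obj W).IsQuasicoherent := by
  haveI : W.IsQuasicoherent := h.1
  haveI := Groth.Agent.S9705.isProper_toBase n T
  exact isQuasicoherent_pushforward (KRR.pr n T) W

theorem isQuasicoherent_kernel_eps {W : (KRR.PY n T).Modules} (h : Good n T W) :
    (kernel (eps n T W)).IsQuasicoherent := by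
  haveI := isQuasicoherent_pullpush h
  haveI : W.IsQuasicoherent := h.1
  exact isQuasicoherent_kernel _

theorem good_next {W : (KRR.PY n T).Modules} (h : Good n T W) : Good n T (next n T W) := by
  haveI := isQuasicoherent_kernel_eps h
  exact ⟨Groth.Agent.Lib.R2H2.RegTwist.isQuasicoherent_twF n T _ 1,
    Groth.Agent.Lib.R2H2.RegKernel.isRegSheaf_twF_one_kernel_counit n T W h.1 h.2⟩

variable (n T)

/-- the short exact sequence `0 ⟶ K ⟶ p^* p_* W ⟶ W ⟶ 0` -/
noncomputable def ses (W : (KRR.PY n T).Modules) : ShortComplex (KRR.PY n T).Modules :=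
  ShortComplex.mk (kernel.ι (eps n T W)) (eps n T W) (kernel.condition _)

variable {n T}

theorem ses_shortExact {W : (KRR.PY n T).Modules} (h : Good n T W) : (ses n T W).ShortExact :=
  { exact := ShortComplex.exact_kernel _
    mono_f := equalizer.ι_mono
    epi_g := Groth.Agent.Lib.R2H2.RegCounitB.epi_counit_of_isRegSheaf n T W h.1 h.2 }

theorem isIso_push_eps {W : (KRR.PY n T).Modules} (h : Good n T W) :
    IsIso ((Scheme.Modules.pushforward (KRR.pr n T)).map (eps n T W)) := by
  haveI := isQuasicoherent_push h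
  haveI := Groth.Agent.Lib.R2H2.UnitIso.isIso_unit_of_isQuasicoherent n T
    ((Scheme.Modules.pushforward (KRR.pr n T)).obj W)
  have htri := (Scheme.Modules.pullbackPushforwardAdjunction (KRR.pr n T)).right_triangle_components W
  haveI : IsIso ((Scheme.Modules.pullbackPushforwardAdjunction (KRR.pr n T)).unit.app
      ((Scheme.Modules.pushforward (KRR.pr n T)).obj W) ≫
      (Scheme.Modules.pushforward (KRR.pr n T)).map (eps n T W)) := by
    rw [htri]
    infer_instance
  exact IsIso.of_isIso_comp_left ((Scheme.Modules.pullbackPushforwardAdjunction (KRR.pr n T)).unit.app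
      ((Scheme.Modules.pushforward (KRR.pr n T)).obj W)) _

theorem van_pullpush {W : (KRR.PY n T).Modules} (h : Good n T W) (q : ℕ) (hq : 1 ≤ q) :
    Van (KRR.pr n T) q ((Scheme.Modules.pullback (KRR.pr n T)).obj
      ((Scheme.Modules.pushforward (KRR.pr n T)).obj W)) := by
  haveI := isQuasicoherent_push h
  obtain ⟨e⟩ := tw0 n T ((Scheme.Modules.pullback (KRR.pr n T)).obj
    ((Scheme.Modules.pushforward (KRR.pr n T)).obj W))
  exact van_of_iso (KRR.pr n T) q e (isZero_RpushAb_twF_pullback n T _ 0 (by omega) q hq)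

/-- all the higher direct images (and the direct image) of `ker (p^* p_* W ⟶ W)` vanish -/
theorem van_kernel_eps {W : (KRR.PY n T).Modules} (h : Good n T W) (q : ℕ) :
    Van (KRR.pr n T) q (kernel (eps n T W)) := by
  have hS := ses_shortExact h
  haveI := isIso_push_eps h
  haveI : (Scheme.Modules.pushforward (KRR.pr n T)).Additive :=
    (Scheme.Modules.pullbackPushforwardAdjunction (KRR.pr n T)).right_adjoint_additive
  match q with
  | 0 =>
    rw [van_zero_iff]
    haveI : PreservesLimitsOfSize.{0, 0} (Scheme.Modules.pushforward (KRR.pr n T)) :=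
      (Scheme.Modules.pullbackPushforwardAdjunction (KRR.pr n T)).rightAdjoint_preservesLimits
    haveI : PreservesFiniteLimits (Scheme.Modules.pushforward (KRR.pr n T)) :=
      PreservesLimitsOfSize.preservesFiniteLimits _
    haveI : PreservesLimitsOfShape WalkingCospan (Scheme.Modules.pushforward (KRR.pr n T)) :=
      inferInstance
    haveI : (Scheme.Modules.pushforward (KRR.pr n T)).PreservesMonomorphisms :=
      preservesMonomorphisms_of_preservesLimitsOfShape _
    haveI : Mono ((Scheme.Modules.pushforward (KRR.pr n T)).map (kernel.ι (eps n T W))) :=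
      (Scheme.Modules.pushforward (KRR.pr n T)).map_mono _
    have h0 : (Scheme.Modules.pushforward (KRR.pr n T)).map (kernel.ι (eps n T W)) ≫
        (Scheme.Modules.pushforward (KRR.pr n T)).map (eps n T W) = 0 := by
      rw [← CategoryTheory.Functor.map_comp, kernel.condition, Functor.map_zero]
    have h1 : (Scheme.Modules.pushforward (KRR.pr n T)).map (kernel.ι (eps n T W)) = 0 := by
      rw [← cancel_mono ((Scheme.Modules.pushforward (KRR.pr n T)).map (eps n T W)), h0, zero_comp]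
    exact IsZero.of_mono_eq_zero _ h1
  | 1 =>
    have hepi : Epi ((Scheme.Modules.pushforward (KRR.pr n T)).map (eps n T W)) := inferInstance
    exact van_one_X₁ (KRR.pr n T) (ses n T W) hS hepi (van_pullpush h 1 le_rfl)
  | q + 2 =>
    exact van_X₁ (KRR.pr n T) (ses n T W) hS (q + 1)
      (isZero_RpushAb_of_isRegSheaf n T W h.2 (q + 1) (by omega)) (van_pullpush h (q + 2) (by omega))

/-- dimension shifting -/
theorem van_shift {W : (KRR.PY n T).Modules} (h : Good n T W) (d : ℤ) (hd : -(n : ℤ) ≤ d) (q : ℕ)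
    (hq : Van (KRR.pr n T) q (KRR.twF n T d W)) :
    Van (KRR.pr n T) (q + 1) (KRR.twF n T d (kernel (eps n T W))) := by
  have hS := shortExact_map_twFun n T d (ses n T W) (ses_shortExact h)
  haveI := isQuasicoherent_push h
  exact van_X₁ (KRR.pr n T) ((ses n T W).map (twFun n T d)) hS q hq
    (isZero_RpushAb_twF_pullback n T _ d hd (q + 1) (by omega))

variable (n T)

/-- the sequence `W_k` -/
noncomputable def Wseq (F : (KRR.PY n T).Modules) : ℕ → (KRR.PY n T).Modules
  | 0 => F
  | (k + 1) => next n T (Wseq F k)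

variable {n T}

theorem good_Wseq {F : (KRR.PY n T).Modules} (h : Good n T F) : ∀ k, Good n T (Wseq n T F k)
  | 0 => h
  | (k + 1) => good_next (good_Wseq h k)

theorem claimC {F : (KRR.PY n T).Modules} (h : Good n T F) : ∀ i : ℕ, i ≤ n → ∀ k : ℕ,
    Van (KRR.pr n T) i (KRR.twF n T (-1 - (i : ℤ)) (Wseq n T F (k + 1 + i))) := by
  intro i
  induction i with
  | zero =>
    intro _ k
    have h1 := van_kernel_eps (good_Wseq h k) 0
    obtain ⟨e1⟩ := tw2 n T (-1 - ((0 : ℕ) : ℤ)) 1 (kernel (eps n T (Wseq n T F k)))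
    obtain ⟨e2⟩ := twEq n T (show (-1 - ((0 : ℕ) : ℤ)) + 1 = 0 by simp)
      (kernel (eps n T (Wseq n T F k)))
    obtain ⟨e3⟩ := tw0 n T (kernel (eps n T (Wseq n T F k)))
    exact van_of_iso (KRR.pr n T) 0 (e1 ≪≫ e2 ≪≫ e3).symm h1
  | succ i ih =>
    intro hi k
    have h1 := ih (by omega) k
    have h2 := van_shift (good_Wseq h (k + 1 + i)) (-1 - (i : ℤ)) (by omega) i h1
    obtain ⟨e1⟩ := tw2 n T (-1 - ((i + 1 : ℕ) : ℤ)) 1 (kernel (eps n T (Wseq n T F (k + 1 + i))))
    obtain ⟨e2⟩ := twEq n T (show (-1 - ((i + 1 : ℕ) : ℤ)) + 1 = -1 - (i : ℤ) by push_cast; ring)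
      (kernel (eps n T (Wseq n T F (k + 1 + i))))
    exact van_of_iso (KRR.pr n T) (i + 1) (e1 ≪≫ e2).symm h2

/-- `W_{n+1} = 0` -/
theorem isZero_Wseq_succ {F : (KRR.PY n T).Modules} (h : Good n T F) :
    IsZero (Wseq n T F (n + 1)) := by
  have hgood := good_Wseq h (n + 1)
  haveI : (Wseq n T F (n + 1)).IsQuasicoherent := hgood.1
  haveI hGq : (KRR.twF n T (-1) (Wseq n T F (n + 1))).IsQuasicoherent :=
    Groth.Agent.Lib.R2H2.RegTwist.isQuasicoherent_twF n T _ (-1)
  have hreg : KRR.IsRegSheaf n T (KRR.twF n T (-1) (Wseq n T F (n + 1))) := by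
    intro i hi
    by_cases hin : i ≤ n
    · have h1 := claimC h i hin (n - i)
      have e : n - i + 1 + i = n + 1 := by omega
      rw [e] at h1
      obtain ⟨e1⟩ := tw2 n T (-(i : ℤ)) (-1) (Wseq n T F (n + 1))
      obtain ⟨e2⟩ := twEq n T (show -(i : ℤ) + -1 = -1 - (i : ℤ) by ring) (Wseq n T F (n + 1))
      exact van_of_iso (KRR.pr n T) i (e1 ≪≫ e2).symm h1
    · haveI := Groth.Agent.Lib.R2H2.RegTwist.isQuasicoherent_twF n T
        (KRR.twF n T (-1) (Wseq n T F (n + 1))) (-(i : ℤ))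
      exact isZero_RpushAb_of_gt n _ i (by omega)
  have h0 : Van (KRR.pr n T) 0 (KRR.twF n T (-1) (Wseq n T F (n + 1))) := by
    have h1 := claimC h 0 (by omega) n
    obtain ⟨e2⟩ := twEq n T (show (-1 - ((0 : ℕ) : ℤ)) = -1 by simp) (Wseq n T F (n + 1))
    exact van_of_iso (KRR.pr n T) 0 e2 h1
  rw [van_zero_iff] at h0
  haveI hepi := Groth.Agent.Lib.R2H2.RegCounitB.epi_counit_of_isRegSheaf n T _ hGq hreg
  have hz : IsZero ((Scheme.Modules.pullback (KRR.pr n T)).obj
      ((Scheme.Modules.pushforward (KRR.pr n T)).obj (KRR.twF n T (-1) (Wseq n T F (n + 1))))) :=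
    (Scheme.Modules.pullback (KRR.pr n T)).map_isZero h0
  have hG0 : IsZero (KRR.twF n T (-1) (Wseq n T F (n + 1))) :=
    IsZero.of_epi (eps n T (KRR.twF n T (-1) (Wseq n T F (n + 1)))) hz
  obtain ⟨e1⟩ := tw2 n T 1 (-1) (Wseq n T F (n + 1))
  obtain ⟨e2⟩ := twEq n T (show (1 : ℤ) + -1 = 0 by norm_num) (Wseq n T F (n + 1))
  obtain ⟨e3⟩ := tw0 n T (Wseq n T F (n + 1))
  exact IsZero.of_iso ((twFun n T 1).map_isZero hG0) (e1 ≪≫ e2 ≪≫ e3).symm

theorem isZero_next {W : (KRR.PY n T).Modules} (hW : IsZero W) : IsZero (next n T W) := by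
  haveI : (Scheme.Modules.pushforward (KRR.pr n T)).Additive :=
    (Scheme.Modules.pullbackPushforwardAdjunction (KRR.pr n T)).right_adjoint_additive
  have h1 : IsZero ((Scheme.Modules.pushforward (KRR.pr n T)).obj W) :=
    (Scheme.Modules.pushforward (KRR.pr n T)).map_isZero hW
  have h2 : IsZero ((Scheme.Modules.pullback (KRR.pr n T)).obj
      ((Scheme.Modules.pushforward (KRR.pr n T)).obj W)) :=
    (Scheme.Modules.pullback (KRR.pr n T)).map_isZero h1
  have h3 : IsZero (kernel (eps n T W)) := IsZero.of_mono (kernel.ι (eps n T W)) h2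
  exact (twFun n T 1).map_isZero h3

theorem isZero_Wseq_of_gt {F : (KRR.PY n T).Modules} (h : Good n T F) (k : ℕ) (hk : n < k) :
    IsZero (Wseq n T F k) := by
  obtain ⟨m, rfl⟩ : ∃ m, k = n + 1 + m := ⟨k - (n + 1), by omega⟩
  clear hk
  induction m with
  | zero => exact isZero_Wseq_succ h
  | succ m ih => exact isZero_next ih

end Groth.Agent.Lib.R2H2.QuillenRes
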