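import Groth.Agent.Lib.R2H2DevF
import Groth.Agent.Lib.Helper23FinTypeLocal
set_option backward.isDefEq.respectTransparency.types false

/-!
# Sections of subobjects of `O_X`-modules (helper2, round 2)

* `rangeApp φ U` : the `Γ(X, U)`-submodule of `Γ(F, U)` of sections in the image of `φ.app U`.
* `rangeApp_mk_arrow`, `rangeApp_inf` : sections of `Subobject.mk f` and of `A ⊓ B`.
* `rangeApp_idealMulι`, `rangeApp_idealMulι_comp` : sections of `J · T` over affine opens.
* `isZero_of_sections`, `eq_zero_of_app_cover`, `le_of_rangeApp_le` : quasi-coherent subobjects are compared on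
  the members of an affine open cover.
-/

set_option autoImplicit false
set_option linter.unusedSectionVars false
set_option linter.style.haveILetI false
universe u
open CategoryTheory CategoryTheory.Limits AlgebraicGeometry TopologicalSpace Opposite

noncomputable section

namespace Groth.Agent.Lib.R2H2.SubSec

open Groth.Agent.Lib.R2H2.DevA Groth.Agent.Lib.R2H2.DevF Groth.Agent.Lib.R2H2.IdealMulSec
  Groth.Agent.Lib.Helper2.FlatOver

variable {X : Scheme.{u}}

/-- the `Γ(X,U)`-submodule of sections in the image of `φ` over `U` -/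
def rangeApp {A F : X.Modules} (φ : A ⟶ F) (U : X.Opens) : Submodule Γ(X, U) Γ(F, U) where
  carrier := Set.range (Scheme.Modules.Hom.app φ U)
  add_mem' := by
    rintro _ _ ⟨a, rfl⟩ ⟨b, rfl⟩
    exact ⟨a + b, map_add _ a b⟩
  zero_mem' := ⟨0, map_zero _⟩
  smul_mem' := by
    rintro r _ ⟨a, rfl⟩
    exact ⟨r • a, Scheme.Modules.Hom.app_smul φ r a⟩

theorem mem_rangeApp {A F : X.Modules} (φ : A ⟶ F) (U : X.Opens) (s : Γ(F, U)) :
    s ∈ rangeApp φ U ↔ ∃ a : Γ(A, U), Scheme.Modules.Hom.app φ U a = s := Iff.rfl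

theorem app_mem_rangeApp {A F : X.Modules} (φ : A ⟶ F) (U : X.Opens) (a : Γ(A, U)) :
    Scheme.Modules.Hom.app φ U a ∈ rangeApp φ U := ⟨a, rfl⟩

theorem rangeApp_comp_le {A B F : X.Modules} (ψ : A ⟶ B) (φ : B ⟶ F) (U : X.Opens) :
    rangeApp (ψ ≫ φ) U ≤ rangeApp φ U := by
  rintro _ ⟨a, rfl⟩
  exact ⟨Scheme.Modules.Hom.app ψ U a, rfl⟩

theorem rangeApp_iso_comp {A B F : X.Modules} (e : A ≅ B) (φ : B ⟶ F) (U : X.Opens) :
    rangeApp (e.hom ≫ φ) U = rangeApp φ U := by
  apply le_antisymm (rangeApp_comp_le _ _ _)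
  rintro _ ⟨b, rfl⟩
  refine ⟨Scheme.Modules.Hom.app e.inv U b, ?_⟩
  have h := congrArg (fun f => Scheme.Modules.Hom.app f U b) e.inv_hom_id
  change Scheme.Modules.Hom.app φ U
    (Scheme.Modules.Hom.app e.hom U (Scheme.Modules.Hom.app e.inv U b)) = _
  have h' : Scheme.Modules.Hom.app e.hom U (Scheme.Modules.Hom.app e.inv U b) = b := h
  rw [h']

theorem rangeApp_mk_arrow {A F : X.Modules} (f : A ⟶ F) [Mono f] (U : X.Opens) :
    rangeApp (Subobject.mk f).arrow U = rangeApp f U := by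
  rw [← Subobject.underlyingIso_hom_comp_eq_mk f, rangeApp_iso_comp]

/-- sections of an intersection of subobjects -/
theorem rangeApp_inf {F : X.Modules} (A B : Subobject F) (U : X.Opens) :
    rangeApp (A ⊓ B).arrow U = rangeApp A.arrow U ⊓ rangeApp B.arrow U := by
  apply le_antisymm
  · apply le_inf
    · rw [← Subobject.ofLE_arrow (inf_le_left : A ⊓ B ≤ A)]
      exact rangeApp_comp_le _ _ _
    · rw [← Subobject.ofLE_arrow (inf_le_right : A ⊓ B ≤ B)]
      exact rangeApp_comp_le _ _ _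
  · rintro s ⟨⟨a, ha⟩, ⟨b, hb⟩⟩
    let q := cokernel.π B.arrow
    have hq : Scheme.Modules.Hom.app (A.arrow ≫ q) U a = 0 := by
      change Scheme.Modules.Hom.app q U (Scheme.Modules.Hom.app A.arrow U a) = 0
      rw [ha, ← hb]
      have h0 := congrArg (fun f => Scheme.Modules.Hom.app f U b) (cokernel.condition B.arrow)
      exact h0
    obtain ⟨r, hr⟩ := exists_kernel_app_eq (A.arrow ≫ q) U a hq
    let k := kernel.ι (A.arrow ≫ q) ≫ A.arrow
    have hk : k ≫ q = 0 := by
      change (kernel.ι (A.arrow ≫ q) ≫ A.arrow) ≫ q = 0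
      rw [Category.assoc, kernel.condition]
    haveI hmB : Mono B.arrow := Subobject.arrow_mono B
    have hA : A.Factors k := (Subobject.factors_iff _ _).2 ⟨kernel.ι (A.arrow ≫ q), rfl⟩
    have hB : B.Factors k :=
      (Subobject.factors_iff _ _).2 ⟨Abelian.monoLift B.arrow k hk, Abelian.monoLift_comp B.arrow k hk⟩
    have hAB : (A ⊓ B).Factors k := (Subobject.inf_factors k).2 ⟨hA, hB⟩
    refine ⟨Scheme.Modules.Hom.app ((A ⊓ B).factorThru k hAB) U r, ?_⟩
    have h1 := congrArg (fun f => Scheme.Modules.Hom.app f U r)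
      (Subobject.factorThru_arrow (A ⊓ B) k hAB)
    refine Eq.trans h1 ?_
    change Scheme.Modules.Hom.app A.arrow U
      (Scheme.Modules.Hom.app (kernel.ι (A.arrow ≫ q)) U r) = s
    rw [hr, ha]

/-- sections of `J · T` over an affine open -/
theorem rangeApp_idealMulι (J : X.IdealSheafData) (T : X.Modules) [T.IsQuasicoherent]
    {U : X.Opens} (hU : IsAffineOpen U) :
    rangeApp (Dual3.idealMulι J T) U = J.ideal ⟨U, hU⟩ • (⊤ : Submodule Γ(X, U) Γ(T, U)) := by
  apply le_antisymm
  · rintro _ ⟨t, rfl⟩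
    exact idealMulι_app_mem J T hU t
  · intro s hs
    exact (mem_range_idealMulι_iff J T U s).2 ((un_app_eq_zero_iff J T hU s).2 hs)

/-- sections of the image of `J · T` under `p : T ⟶ F` over an affine open -/
theorem rangeApp_idealMulι_comp (J : X.IdealSheafData) (T : X.Modules) [T.IsQuasicoherent]
    {F : X.Modules} (p : T ⟶ F) {U : X.Opens} (hU : IsAffineOpen U) :
    rangeApp (Dual3.idealMulι J T ≫ p) U = J.ideal ⟨U, hU⟩ • rangeApp p U := by
  apply le_antisymm
  · rintro _ ⟨t, rfl⟩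
    change Scheme.Modules.Hom.app p U (Scheme.Modules.Hom.app (Dual3.idealMulι J T) U t) ∈ _
    have h1 : Scheme.Modules.Hom.app (Dual3.idealMulι J T) U t ∈
        J.ideal ⟨U, hU⟩ • (⊤ : Submodule Γ(X, U) Γ(T, U)) := idealMulι_app_mem J T hU t
    refine Submodule.smul_induction_on h1 ?_ ?_
    · intro r hr n _
      rw [Scheme.Modules.Hom.app_smul]
      exact Submodule.smul_mem_smul hr (app_mem_rangeApp p U n)
    · intro x y hx hy
      rw [map_add]
      exact Submodule.add_mem _ hx hy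
  · rw [Submodule.smul_le]
    rintro r hr _ ⟨n, rfl⟩
    have h1 : r • n ∈ J.ideal ⟨U, hU⟩ • (⊤ : Submodule Γ(X, U) Γ(T, U)) :=
      Submodule.smul_mem_smul hr trivial
    rw [← rangeApp_idealMulι J T hU] at h1
    obtain ⟨t, ht⟩ := h1
    refine ⟨t, ?_⟩
    change Scheme.Modules.Hom.app p U (Scheme.Modules.Hom.app (Dual3.idealMulι J T) U t) = _
    rw [ht, Scheme.Modules.Hom.app_smul]

/-- a quasi-coherent module all of whose sections over the members of an affine cover vanish is zero -/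
theorem isZero_of_sections (T : X.Modules) [T.IsQuasicoherent] (𝒰 : Set X.Opens)
    (haff : ∀ U ∈ 𝒰, IsAffineOpen U) (hcov : ∀ x : X, ∃ U ∈ 𝒰, x ∈ U)
    (h : ∀ U ∈ 𝒰, ∀ t : Γ(T, U), t = 0) : IsZero T := by
  refine isZero_of_support_subset_empty _ (fun x hx => hx ?_)
  obtain ⟨U, hU𝒰, hxU⟩ := hcov x
  have hU := haff U hU𝒰
  letI := moduleStalkSections T U x hxU
  haveI := isLocalizedModule_germ hU T x hxU
  refine ⟨fun a b => ?_⟩
  have key : ∀ y : T.presheaf.stalk x, y = 0 := by
    intro y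
    obtain ⟨⟨t'', sx⟩, hy⟩ := IsLocalizedModule.surj (hU.primeIdealOf ⟨x, hxU⟩).asIdeal.primeCompl
      (germₗ T U x hxU) y
    rw [h U hU𝒰 t'', map_zero] at hy
    have hu := IsLocalizedModule.map_units (germₗ T U x hxU) sx
    rw [Module.End.isUnit_iff] at hu
    apply hu.1
    rw [map_zero]
    exact hy
  rw [key a, key b]

/-- a morphism of quasi-coherent modules vanishing on sections over an affine cover is zero -/
theorem eq_zero_of_app_cover {A C : X.Modules} [A.IsQuasicoherent] [C.IsQuasicoherent]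
    (φ : A ⟶ C) (𝒰 : Set X.Opens)
    (haff : ∀ U ∈ 𝒰, IsAffineOpen U) (hcov : ∀ x : X, ∃ U ∈ 𝒰, x ∈ U)
    (h : ∀ U ∈ 𝒰, ∀ a : Γ(A, U), Scheme.Modules.Hom.app φ U a = 0) : φ = 0 := by
  haveI : (cokernel φ).IsQuasicoherent :=
    Groth.Agent.Lib.Helper23.QCohLocal.isQuasicoherent_cokernel φ
  haveI hIm : (Abelian.image φ).IsQuasicoherent :=
    Groth.Agent.Lib.Helper23.QCohLocal.isQuasicoherent_kernel (cokernel.π φ)
  have hz : IsZero (Abelian.image φ) := by
    apply isZero_of_sections _ 𝒰 haff hcov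
    intro U hU t
    obtain ⟨a, rfl⟩ := Groth.Agent.Lib.Helper23.FinType.surjective_app_of_epi
      (Abelian.factorThruImage φ) (haff U hU) t
    apply Groth.Agent.Lib.Helper20.StalkExact.injective_app_of_mono (Abelian.image.ι φ) U
    rw [map_zero]
    have h1 := congrArg (fun f => Scheme.Modules.Hom.app f U a) (Abelian.image.fac φ)
    exact h1.trans (h U hU a)
  rw [← Abelian.image.fac φ, hz.eq_of_tgt (Abelian.factorThruImage φ) 0, zero_comp]

/-- quasi-coherent subobjects are compared on sections over an affine cover -/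
theorem le_of_rangeApp_le {F : X.Modules} [F.IsQuasicoherent] (A B : Subobject F)
    [(A : X.Modules).IsQuasicoherent] [(B : X.Modules).IsQuasicoherent] (𝒰 : Set X.Opens)
    (haff : ∀ U ∈ 𝒰, IsAffineOpen U) (hcov : ∀ x : X, ∃ U ∈ 𝒰, x ∈ U)
    (h : ∀ U ∈ 𝒰, rangeApp A.arrow U ≤ rangeApp B.arrow U) : A ≤ B := by
  haveI : (cokernel B.arrow).IsQuasicoherent :=
    Groth.Agent.Lib.Helper23.QCohLocal.isQuasicoherent_cokernel B.arrow
  have h0 : A.arrow ≫ cokernel.π B.arrow = 0 := by
    apply eq_zero_of_app_cover _ 𝒰 haff hcov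
    intro U hU a
    obtain ⟨b, hb⟩ := h U hU (app_mem_rangeApp A.arrow U a)
    change Scheme.Modules.Hom.app (cokernel.π B.arrow) U (Scheme.Modules.Hom.app A.arrow U a) = 0
    rw [← hb]
    have h1 := congrArg (fun f => Scheme.Modules.Hom.app f U b) (cokernel.condition B.arrow)
    exact h1
  haveI hmB : Mono B.arrow := Subobject.arrow_mono B
  exact Subobject.le_of_comm (Abelian.monoLift B.arrow A.arrow h0) (Abelian.monoLift_comp B.arrow A.arrow h0)

end Groth.Agent.Lib.R2H2.SubSec
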