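import Groth.Agent.Lib.R2H2RatFun
import Groth.Agent.Lib.R2H2SubSec
import Groth.Agent.Lib.Helper20StalkExact
set_option backward.isDefEq.respectTransparency.types false

/-!
# Submodules of the sheaf of rational functions are torsion-free of rank one
(helper2, round 2; S4356)

* `rho_surjective` : `K → Γ(Spec K, j⁻¹ U)` is surjective when the generic point lies in `U`.
* `isTorsionFree_of_mono` : a submodule of the sheaf of rational functions is torsion-free.
* `main` : S4356.
-/

set_option autoImplicit false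
set_option linter.unusedSectionVars false
set_option linter.style.haveILetI false
universe u
open CategoryTheory CategoryTheory.Limits AlgebraicGeometry TopologicalSpace Opposite

noncomputable section

namespace Groth.Agent.Lib.R2H2.RatFunSub

open Groth.Agent.Lib.R2H2.RatFun Groth.Agent.Lib.Helper2.QCoh Groth.Agent.Lib.Helper23.GenLocus

variable (X : Scheme.{u}) [IsIntegral X]

lemma preimage_eq_top (U : X.Opens) (hξ : genericPoint X ∈ U) :
    X.fromSpecStalk (genericPoint X) ⁻¹ᵁ U = ⊤ := by
  rw [eq_top_iff]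
  intro p _
  change X.fromSpecStalk (genericPoint X) p ∈ U
  have h1 : X.fromSpecStalk (genericPoint X) p ∈ Set.range (X.fromSpecStalk (genericPoint X)) :=
    ⟨p, rfl⟩
  rw [Scheme.range_fromSpecStalk] at h1
  exact h1.mem_open U.2 hξ

lemma rho_surjective (U : X.Opens) (hξ : genericPoint X ∈ U) : Function.Surjective (rho X U) := by
  have h1 : Function.Surjective (Scheme.ΓSpecIso (X.presheaf.stalk (genericPoint X))).inv.hom :=
    (ConcreteCategory.bijective_of_isIso
      (Scheme.ΓSpecIso (X.presheaf.stalk (genericPoint X))).inv).2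
  have he : X.fromSpecStalk (genericPoint X) ⁻¹ᵁ U = ⊤ := preimage_eq_top X U hξ
  have h3 : (homOfLE (le_top : X.fromSpecStalk (genericPoint X) ⁻¹ᵁ U ≤ ⊤)) = eqToHom he :=
    Subsingleton.elim _ _
  haveI : IsIso ((Spec (X.presheaf.stalk (genericPoint X))).presheaf.map
      (homOfLE (le_top : X.fromSpecStalk (genericPoint X) ⁻¹ᵁ U ≤ ⊤)).op) := by
    rw [h3]
    infer_instance
  have h2 : Function.Surjective ((Spec (X.presheaf.stalk (genericPoint X))).presheaf.map
      (homOfLE (le_top : X.fromSpecStalk (genericPoint X) ⁻¹ᵁ U ≤ ⊤)).op).hom :=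
    (ConcreteCategory.bijective_of_isIso _).2
  exact h2.comp h1

variable {X}

/-- the section of the sheaf of rational functions over `V` attached to `c ∈ K` -/
noncomputable def rS (V : X.Opens) (c : X.presheaf.stalk (genericPoint X)) : Γ(ratSheaf X, V) :=
  toS (X.fromSpecStalk (genericPoint X) ⁻¹ᵁ V) (rho X V c)

/-- the value of a morphism to the sheaf of rational functions, as an element of `K` -/
lemma exists_rho_eq {G : X.Modules} (i : G ⟶ ratSheaf X) (V : X.Opens)
    (hξ : genericPoint X ∈ V) (s : Γ(G, V)) :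
    ∃ c : X.presheaf.stalk (genericPoint X),
      Scheme.Modules.Hom.app i V s = rS V c := by
  obtain ⟨c, hc⟩ := rho_surjective X V hξ (ofS _ (Scheme.Modules.Hom.app i V s))
  exact ⟨c, by unfold rS; rw [hc]; rfl⟩

lemma smul_rS (V : X.Opens) (hξ : genericPoint X ∈ V) (a : Γ(X, V))
    (c : X.presheaf.stalk (genericPoint X)) :
    a • rS V c = rS V (X.presheaf.germ V _ hξ a * c) := by
  unfold rS
  rw [map_mul, rho_germ]
  rfl

lemma rS_injective (V : X.Opens) (hξ : genericPoint X ∈ V)
    (c : X.presheaf.stalk (genericPoint X)) (h : rS V c = 0) : c = 0 := by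
  have h1 : rho X V c = 0 := h
  exact rho_injective X V hξ (h1.trans (map_zero _).symm)

lemma rS_zero (V : X.Opens) : rS (X := X) V 0 = 0 := by
  unfold rS
  rw [map_zero]
  rfl

lemma res_rS {V V' : X.Opens} (h : V' ≤ V) (c : X.presheaf.stalk (genericPoint X)) :
    (ratSheaf X).presheaf.map (homOfLE h).op (rS V c) = rS V' c := by
  unfold rS
  change toS _ ((Spec (X.presheaf.stalk (genericPoint X))).presheaf.map
    (homOfLE ((X.fromSpecStalk (genericPoint X)).preimage_mono h)).op (rho X V c)) = _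
  rw [rho_res X h]

/-- a submodule of the sheaf of rational functions is torsion-free -/
theorem isTorsionFree_of_mono {G : X.Modules} (i : G ⟶ ratSheaf X) [Mono i] :
    TorSh.IsTorsionFree G := by
  intro x
  constructor
  intro r hr
  have hr0 : r ≠ 0 := by
    rintro rfl
    have := hr.1 (show (0 : X.presheaf.stalk x) * 1 = 0 * 0 by simp)
    exact one_ne_zero this
  -- it suffices to show `r • m = 0 → m = 0`
  suffices hkey : ∀ m : G.presheaf.stalk x, r • m = 0 → m = 0 by
    intro m m' hmm
    have h0 : r • (m - m') = 0 := by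
      rw [smul_sub]
      exact sub_eq_zero.2 hmm
    exact sub_eq_zero.1 (hkey _ h0)
  intro m hm
  obtain ⟨U₁, hx₁, s, rfl⟩ := G.presheaf.exists_germ_eq m
  obtain ⟨U₂, hx₂, a, rfl⟩ := X.presheaf.exists_germ_eq (x := x) r
  -- restrict to the intersection
  let V₀ : X.Opens := U₁ ⊓ U₂
  have hxV₀ : x ∈ V₀ := ⟨hx₁, hx₂⟩
  let s₀ : Γ(G, V₀) := G.presheaf.map (homOfLE (inf_le_left : V₀ ≤ U₁)).op s
  let a₀ : Γ(X, V₀) := X.presheaf.map (homOfLE (inf_le_right : V₀ ≤ U₂)).op a
  have hs₀ : G.presheaf.germ V₀ x hxV₀ s₀ = G.presheaf.germ U₁ x hx₁ s :=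
    TopCat.Presheaf.germ_res_apply G.presheaf (homOfLE (inf_le_left : V₀ ≤ U₁)) x hxV₀ s
  have ha₀ : X.presheaf.germ V₀ x hxV₀ a₀ = X.presheaf.germ U₂ x hx₂ a :=
    TopCat.Presheaf.germ_res_apply X.presheaf (homOfLE (inf_le_right : V₀ ≤ U₂)) x hxV₀ a
  have h1 : G.presheaf.germ V₀ x hxV₀ (a₀ • s₀) = G.presheaf.germ V₀ x hxV₀ 0 := by
    rw [germ_smul, hs₀, ha₀, hm, map_zero]
  obtain ⟨V, hxV, i₁, i₂, hV⟩ := G.presheaf.germ_eq x hxV₀ hxV₀ _ 0 h1
  rw [map_zero] at hV
  have hVle : V ≤ V₀ := leOfHom i₁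
  let s' : Γ(G, V) := G.presheaf.map (homOfLE hVle).op s₀
  let a' : Γ(X, V) := X.presheaf.map (homOfLE hVle).op a₀
  have has' : a' • s' = 0 := by
    have : G.presheaf.map (homOfLE hVle).op (a₀ • s₀) = a' • s' :=
      Scheme.Modules.map_smul G (homOfLE hVle) a₀ s₀
    rw [← this]
    exact hV
  have hξV : genericPoint X ∈ V := genericPoint_mem X V x hxV
  obtain ⟨c, hc⟩ := exists_rho_eq i V hξV s'
  have h2 : Scheme.Modules.Hom.app i V (a' • s') = 0 := by rw [has', map_zero]
  rw [Scheme.Modules.Hom.app_smul, hc, smul_rS V hξV] at h2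
  have h3 := rS_injective V hξV _ h2
  have ha'0 : X.presheaf.germ V _ hξV a' ≠ 0 := by
    intro h
    have h4 : a' = 0 := germ_injective_of_isIntegral X _ hξV (h.trans (map_zero _).symm)
    apply hr0
    have h5 : X.presheaf.germ V x hxV a' = X.presheaf.germ U₂ x hx₂ a := by
      rw [← ha₀]
      exact TopCat.Presheaf.germ_res_apply X.presheaf (homOfLE hVle) x hxV a₀
    rw [← h5, h4, map_zero]
  have hc0 : c = 0 := (mul_eq_zero.1 h3).resolve_left ha'0
  have h6 : Scheme.Modules.Hom.app i V s' = 0 := by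
    rw [hc, hc0, rS_zero]
  have hs'0 : s' = 0 :=
    Groth.Agent.Lib.Helper20.StalkExact.injective_app_of_mono i V (h6.trans (map_zero _).symm)
  have h7 : G.presheaf.germ V x hxV s' = G.presheaf.germ V₀ x hxV₀ s₀ :=
    TopCat.Presheaf.germ_res_apply G.presheaf (homOfLE hVle) x hxV s₀
  rw [← hs₀, ← h7, hs'0, map_zero]

lemma app_res {G : X.Modules} (i : G ⟶ ratSheaf X) {V V' : X.Opens} (h : V' ≤ V) (t : Γ(G, V)) :
    Scheme.Modules.Hom.app i V' (G.presheaf.map (homOfLE h).op t) =
      (ratSheaf X).presheaf.map (homOfLE h).op (Scheme.Modules.Hom.app i V t) :=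
  congr($(i.mapPresheaf.naturality (homOfLE h).op) t)

/-- a nonzero quasi-coherent submodule of the sheaf of rational functions has generic rank one -/
theorem finrank_eq_one {G : X.Modules} [G.IsQuasicoherent] (i : G ⟶ ratSheaf X) [Mono i]
    (hG : ¬ IsZero G) :
    Module.finrank (X.presheaf.stalk (genericPoint X)) (G.presheaf.stalk (genericPoint X)) = 1 := by
  classical
  have hTF := isTorsionFree_of_mono i
  -- a nonzero section over an affine open containing the generic point
  obtain ⟨U, hU, hξU, s, hs⟩ : ∃ U : X.Opens, IsAffineOpen U ∧ genericPoint X ∈ U ∧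
      ∃ s : Γ(G, U), s ≠ 0 := by
    by_contra hcon
    push Not at hcon
    apply hG
    refine Groth.Agent.Lib.R2H2.SubSec.isZero_of_sections G
      {U | IsAffineOpen U ∧ genericPoint X ∈ U} (fun U h => h.1) ?_
      (fun U h t => hcon U h.1 h.2 t)
    intro x
    obtain ⟨_, ⟨V, hV, rfl⟩, hxV, -⟩ :=
      X.isBasis_affineOpens.exists_subset_of_mem_open (Set.mem_univ x) isOpen_univ
    exact ⟨V, ⟨hV, genericPoint_mem X V x hxV⟩, hxV⟩
  set v : G.presheaf.stalk (genericPoint X) := G.presheaf.germ U (genericPoint X) hξU s with hv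
  have hv0 : v ≠ 0 := fun h => hs (germ_genericPoint_injective G hTF hU hξU s h)
  have hfield : IsField (X.presheaf.stalk (genericPoint X)) :=
    isField_stalk_of_closure_mem_irreducibleComponents X _
      (by simp [irreducibleComponents_eq_singleton])
  let μ : X.presheaf.stalk (genericPoint X) →ₗ[X.presheaf.stalk (genericPoint X)]
      G.presheaf.stalk (genericPoint X) :=
    LinearMap.toSpanSingleton (X.presheaf.stalk (genericPoint X))
      (G.presheaf.stalk (genericPoint X)) v
  have hinj : Function.Injective μ := by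
    rw [injective_iff_map_eq_zero]
    intro c hc
    by_contra hc0
    obtain ⟨b, hb⟩ := hfield.mul_inv_cancel hc0
    have hcu : IsUnit c := IsUnit.of_mul_eq_one b hb
    have hcv : c • v = 0 := hc
    exact hv0 (germ_smul_eq_zero_of_isUnit hcu hcv)
  have hsurj : Function.Surjective μ := by
    intro w
    obtain ⟨W, hξW, s', rfl⟩ := G.presheaf.exists_germ_eq w
    let V : X.Opens := U ⊓ W
    have hξV : genericPoint X ∈ V := ⟨hξU, hξW⟩
    let sV : Γ(G, V) := G.presheaf.map (homOfLE (inf_le_left : V ≤ U)).op s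
    let sV' : Γ(G, V) := G.presheaf.map (homOfLE (inf_le_right : V ≤ W)).op s'
    have hsV : G.presheaf.germ V _ hξV sV = v :=
      TopCat.Presheaf.germ_res_apply G.presheaf (homOfLE (inf_le_left : V ≤ U)) _ hξV s
    have hsV' : G.presheaf.germ V _ hξV sV' = G.presheaf.germ W _ hξW s' :=
      TopCat.Presheaf.germ_res_apply G.presheaf (homOfLE (inf_le_right : V ≤ W)) _ hξV s'
    obtain ⟨a, ha⟩ := exists_rho_eq i V hξV sV
    obtain ⟨a', ha'⟩ := exists_rho_eq i V hξV sV'
    have ha0 : a ≠ 0 := by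
      rintro rfl
      rw [rS_zero] at ha
      have h1 : sV = 0 :=
        Groth.Agent.Lib.Helper20.StalkExact.injective_app_of_mono i V (ha.trans (map_zero _).symm)
      apply hv0
      rw [← hsV, h1, map_zero]
    obtain ⟨b, hb⟩ := hfield.mul_inv_cancel ha0
    obtain ⟨V₂, hξV₂, g, hg⟩ := X.presheaf.exists_germ_eq (x := genericPoint X) (a' * b)
    let V' : X.Opens := V ⊓ V₂
    have hξV' : genericPoint X ∈ V' := ⟨hξV, hξV₂⟩
    let g' : Γ(X, V') := X.presheaf.map (homOfLE (inf_le_right : V' ≤ V₂)).op g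
    have hg' : X.presheaf.germ V' _ hξV' g' = a' * b := by
      rw [← hg]
      exact TopCat.Presheaf.germ_res_apply X.presheaf (homOfLE (inf_le_right : V' ≤ V₂)) _ hξV' g
    let t : Γ(G, V') := G.presheaf.map (homOfLE (inf_le_left : V' ≤ V)).op sV
    let t' : Γ(G, V') := G.presheaf.map (homOfLE (inf_le_left : V' ≤ V)).op sV'
    have ht : G.presheaf.germ V' _ hξV' t = v := by
      rw [← hsV]
      exact TopCat.Presheaf.germ_res_apply G.presheaf (homOfLE (inf_le_left : V' ≤ V)) _ hξV' sV
    have ht' : G.presheaf.germ V' _ hξV' t' = G.presheaf.germ W _ hξW s' := by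
      rw [← hsV']
      exact TopCat.Presheaf.germ_res_apply G.presheaf (homOfLE (inf_le_left : V' ≤ V)) _ hξV' sV'
    have hit : Scheme.Modules.Hom.app i V' t = rS V' a := by
      rw [app_res i (inf_le_left : V' ≤ V) sV, ha, res_rS]
    have hit' : Scheme.Modules.Hom.app i V' t' = rS V' a' := by
      rw [app_res i (inf_le_left : V' ≤ V) sV', ha', res_rS]
    have hkey : g' • t = t' := by
      apply Groth.Agent.Lib.Helper20.StalkExact.injective_app_of_mono i V'
      rw [Scheme.Modules.Hom.app_smul, hit, hit', smul_rS V' hξV', hg']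
      congr 1
      rw [mul_assoc, mul_comm b a, hb, mul_one]
    refine ⟨a' * b, ?_⟩
    change (a' * b) • v = _
    rw [← ht', ← hkey, germ_smul, hg', ht]
  exact (LinearEquiv.ofBijective μ ⟨hinj, hsurj⟩).finrank_eq.symm.trans
    (Module.finrank_self (X.presheaf.stalk (genericPoint X)))

/-- S4356 -/
theorem main (X : Scheme.{u}) [IsIntegral X] (G : X.Modules) [G.IsQuasicoherent]
    (i : G ⟶ ratSheaf X) [Mono i] (hG : ¬ IsZero G) :
    TorSh.IsTorsionFree G ∧
      Module.finrank (X.presheaf.stalk (genericPoint X)) (G.presheaf.stalk (genericPoint X)) = 1 :=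
  ⟨isTorsionFree_of_mono i, finrank_eq_one i hG⟩

end Groth.Agent.Lib.R2H2.RatFunSub
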