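import Groth.Agent.Lib.R2H2QuillenRes
import Groth.Agent.Lib.R2H2RegPush
import Groth.Agent.Lib.R2H2FLFKernel
import Groth.Agent.Lib.R2H2PushK
import Groth.Agent.Lib.Helper1Sky4
import Groth.Agent.Lib.R2H2PullLF
import Groth.Agent.Lib.Helper21ModTensor6
import Groth.Agent.Lib.R2H2PnSerre
import Groth.Agent.Lib.R2LeadTensorExact
import Groth.Agent.Lib.Helper1FLF1
import Groth.Agent.Lib.Helper23RestrTensor
import Groth.Agent.Lib.R2H2ProjOverPush
import Groth.Agent.Lib.R2H2K0Gen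
import Groth.Agent.Lib.R2H2K0Chain
import Groth.Agent.Lib.R2H2PnPullVan
set_option backward.isDefEq.respectTransparency.types false

/-!
# Base change for regular vector bundles on `P^n_Y` (helper2, round 2)

`F` a regular vector bundle on `P^n_Y`, `Y` locally Noetherian, `φ : Y₁ ⟶ Y` arbitrary,
`ψ : P^n_{Y₁} ⟶ P^n_Y` the induced morphism.  Then `ψ^* F` is regular and the base change map
`φ^* p_* F ⟶ p₁_* ψ^* F` is an isomorphism (`main3770`).  The proof pulls back Quillen's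
canonical resolution (all of whose terms and syzygies are vector bundles).
-/

set_option autoImplicit false
set_option linter.unusedSectionVars false
set_option linter.style.haveILetI false
universe v u

namespace Groth.Agent.Lib.R2H2.RegBC

open CategoryTheory CategoryTheory.Limits AlgebraicGeometry
open Groth.Agent.Lib.R2H2.KoszulRel Groth.Agent.Lib.R2H2.KoszulPnT Groth.Agent.Lib.R2Lead.KRR
  Groth.Agent.Lib.R2H2.RegK0 Groth.Agent.Lib.R2H2.QuillenRes Groth.Agent.Lib.R2H2.PnPullVan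

section VB

variable (n : ℕ) (Y : Scheme.{u})

/-- regular vector bundles -/
def GoodV (W : (KRR.PY n Y).Modules) : Prop := FlatMod.IsFinLocFree W ∧ KRR.IsRegSheaf n Y W

variable {n Y}

theorem good_of_goodV {W : (KRR.PY n Y).Modules} (h : GoodV n Y W) : Good n Y W :=
  ⟨Groth.Agent.Lib.R2H2.PullLF.isQuasicoherent_of_isFinLocFree W h.1, h.2⟩

variable [IsLocallyNoetherian Y]

theorem isFinLocFree_push {W : (KRR.PY n Y).Modules} (h : GoodV n Y W) :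
    FlatMod.IsFinLocFree ((Scheme.Modules.pushforward (KRR.pr n Y)).obj W) :=
  Groth.Agent.Lib.R2H2.RegPush.main3756 n Y W h.1 h.2

theorem isFinLocFree_pullpush {W : (KRR.PY n Y).Modules} (h : GoodV n Y W) :
    FlatMod.IsFinLocFree ((Scheme.Modules.pullback (KRR.pr n Y)).obj
      ((Scheme.Modules.pushforward (KRR.pr n Y)).obj W)) :=
  Groth.Agent.Lib.R2H2.PullLF.isFinLocFree_pullback _ _ (isFinLocFree_push h)

theorem isFinLocFree_kernel_eps {W : (KRR.PY n Y).Modules} (h : GoodV n Y W) :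
    FlatMod.IsFinLocFree (kernel (eps n Y W)) := by
  haveI : Epi (eps n Y W) := (ses_shortExact (good_of_goodV h)).epi_g
  exact Groth.Agent.Lib.R2H2.FLFKernel.isFinLocFree_kernel_of_epi (eps n Y W)
    (isFinLocFree_pullpush h) h.1

theorem goodV_next {W : (KRR.PY n Y).Modules} (h : GoodV n Y W) : GoodV n Y (next n Y W) :=
  ⟨Groth.Agent.Lib.R2H2.RegTwist.isFinLocFree_twF n Y _ (isFinLocFree_kernel_eps h) 1,
    (good_next (good_of_goodV h)).2⟩

theorem goodV_Wseq {F : (KRR.PY n Y).Modules} (h : GoodV n Y F) : ∀ k, GoodV n Y (Wseq n Y F k)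
  | 0 => h
  | (k + 1) => goodV_next (goodV_Wseq h k)

end VB

section Reg

variable {n : ℕ} {T : Scheme.{u}}

/-- variant of `R_X₃` -/
theorem R_X₃' {k : ℤ} (S : ShortComplex (KRR.PY n T).Modules) (hS : S.ShortExact)
    (h₁ : R n T (k + 1) S.X₁) (h₂ : R n T k S.X₂) : R n T k S.X₃ := by
  intro q hq s hs
  exact van_X₃ (KRR.pr n T) (S.map (twFun n T s)) (shortExact_map_twFun n T s S hS) q
    (h₂ q hq s hs) (h₁ (q + 1) (by omega) s (by push_cast; omega))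

theorem R_pullback (G : T.Modules) [G.IsQuasicoherent] :
    R n T 0 ((Scheme.Modules.pullback (KRR.pr n T)).obj G) := by
  intro q hq s hs
  by_cases hqn : q ≤ n
  · exact isZero_RpushAb_twF_pullback n T G s (by omega) q hq
  · haveI := isQuasicoherent_twF_pullback n G s
    exact isZero_RpushAb_of_gt n _ q (by omega)

/-- `R 0 (X(1)) → R 1 X` -/
theorem R_one_of_R_twF_one {X : (KRR.PY n T).Modules} (h : R n T 0 (KRR.twF n T 1 X)) :
    R n T 1 X := by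
  have h1 := R_tw (-1) h
  obtain ⟨e1⟩ := tw2 n T (-1) 1 X
  obtain ⟨e2⟩ := twEq n T (show (-1 : ℤ) + 1 = 0 by norm_num) X
  obtain ⟨e3⟩ := tw0 n T X
  exact R_mono (by norm_num) (R_of_iso (e1 ≪≫ e2 ≪≫ e3) h1)

end Reg

section Transfer

/-- a functor `Φ` from modules on `P^n_Y` to modules on `P^n_{Y₁}` which is exact on sequences of
vector bundles, commutes with twists and carries `p^* M` to `p₁^* (Φ₀ M)` -/
structure Transfer (n : ℕ) (Y Y₁ : Scheme.{u})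
    (Φ : (KRR.PY n Y).Modules ⥤ (KRR.PY n Y₁).Modules) [Φ.PreservesZeroMorphisms]
    (Φ₀ : Y.Modules → Y₁.Modules) : Prop where
  ses : ∀ S : ShortComplex (KRR.PY n Y).Modules, S.ShortExact → FlatMod.IsFinLocFree S.X₃ →
    (S.map Φ).ShortExact
  tw : ∀ (d : ℤ) (M : (KRR.PY n Y).Modules),
    Nonempty (Φ.obj (KRR.twF n Y d M) ≅ KRR.twF n Y₁ d (Φ.obj M))
  mid : ∀ M : Y.Modules, FlatMod.IsFinLocFree M →
    Nonempty (Φ.obj ((Scheme.Modules.pullback (KRR.pr n Y)).obj M) ≅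
      (Scheme.Modules.pullback (KRR.pr n Y₁)).obj (Φ₀ M))
  qc : ∀ M : Y.Modules, FlatMod.IsFinLocFree M → (Φ₀ M).IsQuasicoherent

variable {n : ℕ} {Y Y₁ : Scheme.{u}} {Φ : (KRR.PY n Y).Modules ⥤ (KRR.PY n Y₁).Modules}
  [Φ.PreservesZeroMorphisms] {Φ₀ : Y.Modules → Y₁.Modules} (hΦ : Transfer n Y Y₁ Φ Φ₀)
  [IsLocallyNoetherian Y] (F : (KRR.PY n Y).Modules) (hF : GoodV n Y F)

/-- the transferred short exact sequence `0 ⟶ Φ K_k ⟶ Φ p^* p_* W_k ⟶ Φ W_k ⟶ 0` -/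
noncomputable abbrev sesP (Φ : (KRR.PY n Y).Modules ⥤ (KRR.PY n Y₁).Modules)
    [Φ.PreservesZeroMorphisms] (F : (KRR.PY n Y).Modules) (k : ℕ) :
    ShortComplex (KRR.PY n Y₁).Modules :=
  (ses n Y (Wseq n Y F k)).map Φ

include hΦ hF in
theorem sesP_shortExact (k : ℕ) : (sesP Φ F k).ShortExact :=
  hΦ.ses (ses n Y (Wseq n Y F k)) (ses_shortExact (good_of_goodV (goodV_Wseq hF k)))
    (goodV_Wseq hF k).1

include hΦ in
/-- `Φ W_{k+1} ≅ (Φ K_k)(1)` -/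
theorem nonempty_VsuccIso (k : ℕ) :
    Nonempty (Φ.obj (Wseq n Y F (k + 1)) ≅ KRR.twF n Y₁ 1 (sesP Φ F k).X₁) :=
  hΦ.tw 1 (kernel (eps n Y (Wseq n Y F k)))

include hF in
theorem isZero_V (k : ℕ) (hk : n < k) : IsZero (Φ.obj (Wseq n Y F k)) :=
  Φ.map_isZero (isZero_Wseq_of_gt (good_of_goodV hF) k hk)

include hΦ hF in
/-- all `Φ W_k` are regular -/
theorem regV_aux : ∀ m k : ℕ, n + 1 ≤ k + m → R n Y₁ 0 (Φ.obj (Wseq n Y F k)) := by
  intro m
  induction m with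
  | zero =>
    intro k hk
    exact R_of_isZero 0 (isZero_V F hF k (by omega))
  | succ m ih =>
    intro k hk
    by_cases hk' : n < k
    · exact R_of_isZero 0 (isZero_V F hF k hk')
    · have h1 : R n Y₁ 0 (Φ.obj (Wseq n Y F (k + 1))) := ih (k + 1) (by omega)
      obtain ⟨eV⟩ := nonempty_VsuccIso hΦ F k
      have h2 : R n Y₁ 1 (sesP Φ F k).X₁ := R_one_of_R_twF_one (R_of_iso eV h1)
      have hT := isFinLocFree_push (goodV_Wseq hF k)
      haveI := hΦ.qc _ hT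
      obtain ⟨eM⟩ := hΦ.mid _ hT
      have h3 : R n Y₁ 0 (sesP Φ F k).X₂ := R_of_iso eM.symm (R_pullback _)
      exact R_X₃' (sesP Φ F k) (sesP_shortExact hΦ F hF k) h2 h3

include hΦ hF in
theorem regV (k : ℕ) : R n Y₁ 0 (Φ.obj (Wseq n Y F k)) :=
  regV_aux hΦ F hF (n + 1) k (by omega)

include hΦ hF in
/-- all the direct images of `(Φ W_k)(-k)` vanish, `1 ≤ k` -/
theorem vanV_aux : ∀ m k : ℕ, 1 ≤ k → n + 1 ≤ k + m → ∀ q : ℕ,
    Van (KRR.pr n Y₁) q (KRR.twF n Y₁ (-(k : ℤ)) (Φ.obj (Wseq n Y F k))) := by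
  intro m
  induction m with
  | zero =>
    intro k _ hk q
    exact van_of_isZero _ q ((twFun n Y₁ (-(k : ℤ))).map_isZero (isZero_V F hF k (by omega)))
  | succ m ih =>
    intro k hk1 hk q
    by_cases hk' : n < k
    · exact van_of_isZero _ q ((twFun n Y₁ (-(k : ℤ))).map_isZero (isZero_V F hF k hk'))
    · have hS := shortExact_map_twFun n Y₁ (-(k : ℤ)) (sesP Φ F k) (sesP_shortExact hΦ F hF k)
      -- the middle term
      have hT := isFinLocFree_push (goodV_Wseq hF k)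
      haveI := hΦ.qc _ hT
      obtain ⟨eM⟩ := hΦ.mid _ hT
      have hmid : Van (KRR.pr n Y₁) q ((sesP Φ F k).map (twFun n Y₁ (-(k : ℤ)))).X₂ := by
        refine van_of_iso (KRR.pr n Y₁) q ((twFun n Y₁ (-(k : ℤ))).mapIso eM.symm) ?_
        match q with
        | 0 => exact isZero_RpushAb_zero_twF_pullback n Y₁ _ (-(k : ℤ)) (by omega) (by omega)
        | q + 1 => exact isZero_RpushAb_twF_pullback n Y₁ _ (-(k : ℤ)) (by omega) (q + 1) (by omega)
      -- the left term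
      have hleft : Van (KRR.pr n Y₁) (q + 1) ((sesP Φ F k).map (twFun n Y₁ (-(k : ℤ)))).X₁ := by
        have h1 := ih (k + 1) (by omega) (by omega) (q + 1)
        obtain ⟨eV⟩ := nonempty_VsuccIso hΦ F k
        obtain ⟨e1⟩ := tw2 n Y₁ (-((k + 1 : ℕ) : ℤ)) 1 (sesP Φ F k).X₁
        obtain ⟨e2⟩ := twEq n Y₁ (show (-((k + 1 : ℕ) : ℤ)) + 1 = -(k : ℤ) by push_cast; ring)
          (sesP Φ F k).X₁
        exact van_of_iso (KRR.pr n Y₁) (q + 1)
          ((twFun n Y₁ (-((k + 1 : ℕ) : ℤ))).mapIso eV ≪≫ e1 ≪≫ e2) h1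
      exact van_X₃ (KRR.pr n Y₁) ((sesP Φ F k).map (twFun n Y₁ (-(k : ℤ)))) hS q hmid hleft

include hΦ hF in
/-- all the direct images of `Φ K_0` vanish -/
theorem van_pull_kernel (q : ℕ) : Van (KRR.pr n Y₁) q (sesP Φ F 0).X₁ := by
  have h1 := vanV_aux hΦ F hF n 1 le_rfl (by omega) q
  obtain ⟨eV⟩ := nonempty_VsuccIso hΦ F 0
  obtain ⟨e1⟩ := tw2 n Y₁ (-((1 : ℕ) : ℤ)) 1 (sesP Φ F 0).X₁
  obtain ⟨e2⟩ := twEq n Y₁ (show (-((1 : ℕ) : ℤ)) + 1 = 0 by norm_num) (sesP Φ F 0).X₁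
  obtain ⟨e3⟩ := tw0 n Y₁ (sesP Φ F 0).X₁
  exact van_of_iso (KRR.pr n Y₁) q
    ((twFun n Y₁ (-((1 : ℕ) : ℤ))).mapIso eV ≪≫ e1 ≪≫ e2 ≪≫ e3) h1

include hΦ hF in
/-- `Φ F` is regular -/
theorem Transfer.isRegSheaf : KRR.IsRegSheaf n Y₁ (Φ.obj F) :=
  (R_zero_iff _).2 (regV hΦ F hF 0)

include hΦ hF in
/-- `p₁_* Φ (p^* p_* F) ⟶ p₁_* Φ F` is an isomorphism -/
theorem Transfer.isIso_push_eps :
    IsIso ((Scheme.Modules.pushforward (KRR.pr n Y₁)).map (Φ.map (eps n Y F))) := by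
  have hS := sesP_shortExact hΦ F hF 0
  have hSE := Groth.Agent.Lib.R2H2.PushK.shortExact_map_pushforward (KRR.pr n Y₁)
    (sesP Φ F 0) hS (van_pull_kernel hΦ F hF 1)
  have h0 := van_pull_kernel hΦ F hF 0
  rw [van_zero_iff] at h0
  haveI : Epi ((sesP Φ F 0).map (Scheme.Modules.pushforward (KRR.pr n Y₁))).g := hSE.epi_g
  haveI : Mono ((sesP Φ F 0).map (Scheme.Modules.pushforward (KRR.pr n Y₁))).g :=
    hSE.exact.mono_g (h0.eq_of_src _ _)
  exact isIso_of_mono_of_epi ((sesP Φ F 0).map (Scheme.Modules.pushforward (KRR.pr n Y₁))).g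

include hΦ hF in
/-- `p₁_* Φ F ≅ Φ₀ (p_* F)` -/
theorem Transfer.nonempty_push_iso :
    Nonempty ((Scheme.Modules.pushforward (KRR.pr n Y₁)).obj (Φ.obj F) ≅
      Φ₀ ((Scheme.Modules.pushforward (KRR.pr n Y)).obj F)) := by
  haveI := hΦ.isIso_push_eps F hF
  have hT := isFinLocFree_push hF
  haveI := hΦ.qc _ hT
  obtain ⟨eM⟩ := hΦ.mid _ hT
  haveI := Groth.Agent.Lib.R2H2.UnitIso.isIso_unit_of_isQuasicoherent n Y₁
    (Φ₀ ((Scheme.Modules.pushforward (KRR.pr n Y)).obj F))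
  exact ⟨(asIso ((Scheme.Modules.pushforward (KRR.pr n Y₁)).map (Φ.map (eps n Y F)))).symm ≪≫
    (Scheme.Modules.pushforward (KRR.pr n Y₁)).mapIso eM ≪≫
    (asIso ((Scheme.Modules.pullbackPushforwardAdjunction (KRR.pr n Y₁)).unit.app _)).symm⟩

end Transfer

section BC

variable (n : ℕ) {Y Y₁ : Scheme.{u}} (φ : Y₁ ⟶ Y)

theorem projSpaceMap_fst :
    KRR.projSpaceMap n φ ≫ pullback.fst (CohB1.ProjSpace.toSpec n (ULift.{u} ℤ))
      (specULiftZIsTerminal.from Y) =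
    pullback.fst (CohB1.ProjSpace.toSpec n (ULift.{u} ℤ)) (specULiftZIsTerminal.from Y₁) :=
  (pullback.lift_fst _ _ _).trans (Category.comp_id _)

/-- `ψ^* O(d) ≅ O(d)` -/
noncomputable def pullTwistIso (d : ℤ) :
    (Scheme.Modules.pullback (KRR.projSpaceMap n φ)).obj (Twist.twistOver n Y d) ≅
      Twist.twistOver n Y₁ d :=
  (Scheme.Modules.pullbackComp (KRR.projSpaceMap n φ) _).app _ ≪≫
    (Scheme.Modules.pullbackCongr (projSpaceMap_fst n φ)).app _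

/-- `ψ^* (M(d)) ≅ (ψ^* M)(d)` -/
noncomputable def pullTwFIso (d : ℤ) (M : (KRR.PY n Y).Modules) :
    (Scheme.Modules.pullback (KRR.projSpaceMap n φ)).obj (KRR.twF n Y d M) ≅
      KRR.twF n Y₁ d ((Scheme.Modules.pullback (KRR.projSpaceMap n φ)).obj M) :=
  Groth.Agent.Lib.Helper23.RestrTensor.pullbackTensorIso (Twist.twistOver n Y d) M
      (KRR.projSpaceMap n φ) ≪≫
    PicGrp.tensorModIso (pullTwistIso n φ d)
      (Iso.refl ((Scheme.Modules.pullback (KRR.projSpaceMap n φ)).obj M))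

variable (hsq : KRR.projSpaceMap n φ ≫ KRR.pr n Y = KRR.pr n Y₁ ≫ φ)

/-- `ψ^* p^* M ≅ p₁^* φ^* M` -/
noncomputable def midIso (M : Y.Modules) :
    (Scheme.Modules.pullback (KRR.projSpaceMap n φ)).obj
        ((Scheme.Modules.pullback (KRR.pr n Y)).obj M) ≅
      (Scheme.Modules.pullback (KRR.pr n Y₁)).obj ((Scheme.Modules.pullback φ).obj M) :=
  (Scheme.Modules.pullbackComp (KRR.projSpaceMap n φ) (KRR.pr n Y)).app M ≪≫
    (Scheme.Modules.pullbackCongr hsq).app M ≪≫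
    ((Scheme.Modules.pullbackComp (KRR.pr n Y₁) φ).app M).symm

include hsq in
theorem transfer_pullback :
    Transfer n Y Y₁ (Scheme.Modules.pullback (KRR.projSpaceMap n φ))
      (fun M => (Scheme.Modules.pullback φ).obj M) where
  ses S hS h₃ := Groth.Agent.Lib.Helper1.Sky.shortExact_map_pullback (KRR.projSpaceMap n φ) S hS
    (Groth.Agent.Lib.R2H2.PullLF.isFlat_of_isFinLocFree _ h₃)
  tw d M := ⟨pullTwFIso n φ d M⟩
  mid M _ := ⟨midIso n φ hsq M⟩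
  qc M hM := Groth.Agent.Lib.R2H2.PullLF.isQuasicoherent_of_isFinLocFree _
    (Groth.Agent.Lib.R2H2.PullLF.isFinLocFree_pullback φ _ hM)

variable [IsLocallyNoetherian Y] (F : (KRR.PY n Y).Modules) (hF : GoodV n Y F)

include hF in
/-- **base change for regular vector bundles on `P^n_Y`** -/
theorem main3770 :
    KRR.IsRegSheaf n Y₁ ((Scheme.Modules.pullback (KRR.projSpaceMap n φ)).obj F) ∧
      IsIso (KRR.bcMap n φ hsq F) := by
  have hΦ := transfer_pullback n φ hsq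
  refine ⟨hΦ.isRegSheaf F hF, ?_⟩
  haveI := hΦ.isIso_push_eps F hF
  haveI := hΦ.qc _ (isFinLocFree_push hF)
  haveI := Groth.Agent.Lib.R2H2.UnitIso.isIso_unit_of_isQuasicoherent n Y₁
    ((Scheme.Modules.pullback φ).obj ((Scheme.Modules.pushforward (KRR.pr n Y)).obj F))
  unfold KRR.bcMap
  rw [Adjunction.homEquiv_unit, Functor.map_comp, Functor.map_comp, Functor.map_comp]
  infer_instance

end BC

section Tensor

/-- `A ⊗ (B ⊗ M) ≅ B ⊗ (A ⊗ M)` -/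
noncomputable def swapIso {X : Scheme.{u}} (A B M : X.Modules) :
    (DCoh.tensorBi.obj A).obj ((DCoh.tensorBi.obj B).obj M) ≅
      (DCoh.tensorBi.obj B).obj ((DCoh.tensorBi.obj A).obj M) :=
  (Groth.Agent.Lib.Helper21.ModTensor6.tLTensorIso X.sheaf A B).symm.app M ≪≫
    (DCoh.tensorBi.mapIso
      (show (DCoh.tensorBi.obj A).obj B ≅ (DCoh.tensorBi.obj B).obj A from
        (Groth.Agent.Lib.R2H2.PnSerre.twIso A).app B)).app M ≪≫
    (Groth.Agent.Lib.Helper21.ModTensor6.tLTensorIso X.sheaf B A).app M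

variable (n : ℕ) (Y : Scheme.{u}) (E : Y.Modules) (hE : FlatMod.IsFinLocFree E)

include hE in
theorem transfer_tensor :
    Transfer n Y Y (DCoh.tensorBi.obj ((Scheme.Modules.pullback (KRR.pr n Y)).obj E))
      (fun M => (DCoh.tensorBi.obj E).obj M) where
  ses S hS _ := by
    have hfl := Groth.Agent.Lib.R2H2.PullLF.isFlat_of_isFinLocFree _
      (Groth.Agent.Lib.R2H2.PullLF.isFinLocFree_pullback (KRR.pr n Y) E hE)
    exact Groth.Agent.Lib.R2Lead.TensorExact.shortExact_map_tensorBi _ (fun x => hfl x) S hS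
  tw d M := ⟨swapIso _ _ M⟩
  mid M _ := ⟨(Groth.Agent.Lib.Helper23.RestrTensor.pullbackTensorIso E M (KRR.pr n Y)).symm⟩
  qc M hM := Groth.Agent.Lib.R2H2.PullLF.isQuasicoherent_of_isFinLocFree _
    (Groth.Agent.Lib.Helper1.FLF.isFinLocFree_tensor _ _ hE hM)

end Tensor

section K

open KZero

variable (n : ℕ) {Y Y₁ : Scheme.{u}} [IsNoetherian Y] [IsNoetherian Y₁] (φ : Y₁ ⟶ Y)

theorem projSpaceMap_pr : KRR.projSpaceMap n φ ≫ KRR.pr n Y = KRR.pr n Y₁ ≫ φ :=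
  pullback.lift_snd _ _ _

/-- **S3800**: `φ^K ∘ p_K = (p₁)_K ∘ ψ^K` -/
theorem main3800 {KP KY KP₁ KY₁ : Type v} [CommRing KP] [CommRing KY] [CommRing KP₁]
    [CommRing KY₁]
    (φP : SGA6.Kvb (KRR.PY n Y) →+ KP) (hφP : Function.Bijective φP)
    (φY : SGA6.Kvb Y →+ KY) (φP₁ : SGA6.Kvb (KRR.PY n Y₁) →+ KP₁) (φY₁ : SGA6.Kvb Y₁ →+ KY₁)
    (gφ : KY →+ KY₁) (hgφ : KRR.IsPull φ φY φY₁ gφ)
    (gψ : KP →+ KP₁) (hgψ : KRR.IsPull (KRR.projSpaceMap n φ) φP φP₁ gψ)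
    (b : KP →+ KY) (hb : KRR.IsPushPr n Y φP φY b)
    (b₁ : KP₁ →+ KY₁) (hb₁ : KRR.IsPushPr n Y₁ φP₁ φY₁ b₁) (z : KP) :
    gφ (b z) = b₁ (gψ z) := by
  have hsq := projSpaceMap_pr n φ
  have hle : ∀ M : (KRR.PY n Y).Modules, Groth.Agent.Lib.R2H2.PushK.Reg n Y M →
      KRR.vbP (KRR.PY n Y) M := fun M h => h.1
  let β := SGA6.mapSub (𝟭 (KRR.PY n Y).Modules) (Groth.Agent.Lib.R2H2.PushK.Reg n Y)
    (KRR.vbP (KRR.PY n Y)) hle
  have hβ : Function.Bijective β := Groth.Agent.Lib.R2H2.RegK0.main3758 n Y hle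
  have hβcl : ∀ F : (KRR.PY n Y).Modules, Groth.Agent.Lib.R2H2.PushK.Reg n Y F →
      β (clSub (Groth.Agent.Lib.R2H2.PushK.Reg n Y) F) = KRR.cl (KRR.PY n Y) F := fun F hF =>
    Groth.Agent.Lib.R2H2.K0Chain.mapSub_clSub hle hF
  have hcomp : (gφ.comp b).comp (φP.comp β) = (b₁.comp gψ).comp (φP.comp β) := by
    apply Groth.Agent.Lib.R2H2.K0Chain.hom_ext
    intro F hF
    change gφ (b (φP (β (clSub (Groth.Agent.Lib.R2H2.PushK.Reg n Y) F)))) =
      b₁ (gψ (φP (β (clSub (Groth.Agent.Lib.R2H2.PushK.Reg n Y) F))))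
    obtain ⟨hreg₁, hiso⟩ := main3770 n φ hsq F hF
    have hpF := Groth.Agent.Lib.R2H2.RegPush.main3756 n Y F hF.1 hF.2
    have hψF := Groth.Agent.Lib.R2H2.PullLF.isFinLocFree_pullback (KRR.projSpaceMap n φ) F hF.1
    rw [hβcl F hF, hb F hF.1 hF.2, hgψ F hF.1, hgφ _ hpF, hb₁ _ hψF hreg₁]
    congr 1
    haveI := hiso
    exact Groth.Agent.Lib.R2H2.K0Gen.clSub_of_iso (KRR.vbP Y₁)
      (fun Z hZ => Groth.Agent.Lib.R2H2.ProjOverPush.isFinLocFree_of_isZero Z hZ)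
      (asIso (KRR.bcMap n φ hsq F))
      (Groth.Agent.Lib.R2H2.PullLF.isFinLocFree_pullback φ _ hpF)
      (Groth.Agent.Lib.R2H2.RegPush.main3756 n Y₁ _ hψF hreg₁)
  obtain ⟨y, rfl⟩ := hφP.2 z
  obtain ⟨w, rfl⟩ := hβ.2 y
  exact DFunLike.congr_fun hcomp w

/-- **S3762**: the projection formula `p_K (x · p^K y) = p_K x · y` -/
theorem main3762 (Y : Scheme.{u}) [IsNoetherian Y] {KP KY : Type v} [CommRing KP] [CommRing KY]
    (φP : SGA6.Kvb (KRR.PY n Y) →+ KP) (hφP : Function.Bijective φP)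
    (hmulP : ∀ E F : (KRR.PY n Y).Modules, FlatMod.IsFinLocFree E → FlatMod.IsFinLocFree F →
      φP (KRR.cl _ E) * φP (KRR.cl _ F) =
        φP (KRR.cl _ (((DCoh.tensorBi (X := KRR.PY n Y)).obj E).obj F)))
    (φY : SGA6.Kvb Y →+ KY) (hφY : Function.Bijective φY)
    (hmulY : ∀ E F : Y.Modules, FlatMod.IsFinLocFree E → FlatMod.IsFinLocFree F →
      φY (KRR.cl _ E) * φY (KRR.cl _ F) = φY (KRR.cl _ (((DCoh.tensorBi (X := Y)).obj E).obj F)))
    (g : KP →+ KY) (hg : KRR.IsPushPr n Y φP φY g)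
    (q : KY →+ KP) (hq : KRR.IsPull (KRR.pr n Y) φY φP q) (x : KP) (y : KY) :
    g (x * q y) = g x * y := by
  obtain ⟨y', rfl⟩ := hφY.2 y
  let a : SGA6.Kvb Y →+ KY := g.comp ((AddMonoidHom.mulLeft x).comp (q.comp φY))
  let b' : SGA6.Kvb Y →+ KY := (AddMonoidHom.mulLeft (g x)).comp φY
  suffices a = b' from DFunLike.congr_fun this y'
  apply Groth.Agent.Lib.R2H2.PullLF.hom_ext_cl
  intro E hE
  change g (x * q (φY (KRR.cl Y E))) = g x * φY (KRR.cl Y E)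
  rw [hq E hE]
  have hpE := Groth.Agent.Lib.R2H2.PullLF.isFinLocFree_pullback (KRR.pr n Y) E hE
  have hΦ := transfer_tensor n Y E hE
  have hle : ∀ M : (KRR.PY n Y).Modules, Groth.Agent.Lib.R2H2.PushK.Reg n Y M →
      KRR.vbP (KRR.PY n Y) M := fun M h => h.1
  let β := SGA6.mapSub (𝟭 (KRR.PY n Y).Modules) (Groth.Agent.Lib.R2H2.PushK.Reg n Y)
    (KRR.vbP (KRR.PY n Y)) hle
  have hβ : Function.Bijective β := Groth.Agent.Lib.R2H2.RegK0.main3758 n Y hle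
  have hβcl : ∀ F : (KRR.PY n Y).Modules, Groth.Agent.Lib.R2H2.PushK.Reg n Y F →
      β (clSub (Groth.Agent.Lib.R2H2.PushK.Reg n Y) F) = KRR.cl (KRR.PY n Y) F := fun F hF =>
    Groth.Agent.Lib.R2H2.K0Chain.mapSub_clSub hle hF
  let a₂ : KP →+ KY := g.comp (AddMonoidHom.mulRight
    (φP (KRR.cl (KRR.PY n Y) ((Scheme.Modules.pullback (KRR.pr n Y)).obj E))))
  let b₂ : KP →+ KY := (AddMonoidHom.mulRight (φY (KRR.cl Y E))).comp g
  have hcomp : a₂.comp (φP.comp β) = b₂.comp (φP.comp β) := by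
    apply Groth.Agent.Lib.R2H2.K0Chain.hom_ext
    intro F hF
    change g (φP (β (clSub (Groth.Agent.Lib.R2H2.PushK.Reg n Y) F)) *
        φP (KRR.cl (KRR.PY n Y) ((Scheme.Modules.pullback (KRR.pr n Y)).obj E))) =
      g (φP (β (clSub (Groth.Agent.Lib.R2H2.PushK.Reg n Y) F))) * φY (KRR.cl Y E)
    have hpF := Groth.Agent.Lib.R2H2.RegPush.main3756 n Y F hF.1 hF.2
    have hreg := hΦ.isRegSheaf F hF
    obtain ⟨e⟩ := hΦ.nonempty_push_iso F hF
    rw [hβcl F hF, mul_comm, hmulP _ _ hpE hF.1,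
      hg _ (Groth.Agent.Lib.Helper1.FLF.isFinLocFree_tensor _ _ hpE hF.1) hreg,
      hg F hF.1 hF.2, mul_comm, hmulY _ _ hE hpF]
    congr 1
    exact Groth.Agent.Lib.R2H2.K0Gen.clSub_of_iso (KRR.vbP Y)
      (fun Z hZ => Groth.Agent.Lib.R2H2.ProjOverPush.isFinLocFree_of_isZero Z hZ) e
      (Groth.Agent.Lib.R2H2.RegPush.main3756 n Y _
        (Groth.Agent.Lib.Helper1.FLF.isFinLocFree_tensor _ _ hpE hF.1) hreg)
      (Groth.Agent.Lib.Helper1.FLF.isFinLocFree_tensor _ _ hE hpF)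
  obtain ⟨x', rfl⟩ := hφP.2 x
  obtain ⟨w, rfl⟩ := hβ.2 x'
  exact DFunLike.congr_fun hcomp w

end K

end Groth.Agent.Lib.R2H2.RegBC
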