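import Groth.Agent.Lib.R2H2KoszulPnT
import Groth.Agent.Lib.R2H2KoszulNat

/-!
# Regular sheaves on `P^n_T`: morphisms are detected on the direct images of the twists
(helper2, round 2)

* `epi_push_d_KDT` : for `F` regular and `k ≥ 0`, `p_* (F(k)^{n+1}) ⟶ p_* F(k+1)` is an epimorphism;
* `push_twFun_map_eq` : if `p_* φ = p_* ψ` for `φ ψ : F ⟶ G` with `F` regular, then
  `p_* (φ(k)) = p_* (ψ(k))` for all `k ≥ 0`.
-/

set_option autoImplicit false
universe u

namespace Groth.Agent.Lib.R2H2.RegCounitA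

open CategoryTheory CategoryTheory.Limits AlgebraicGeometry TopologicalSpace Opposite
  MonoidalCategory
open Groth.Agent.Lib.R2H2.KoszulAbs Groth.Agent.Lib.R2H2.KoszulSheaf
  Groth.Agent.Lib.R2H2.KoszulRel Groth.Agent.Lib.R2H2.PnReg Groth.Agent.Lib.R2H2.KoszulPnT
  Groth.Agent.Lib.R2H2.KoszulNat
open Groth.Agent.Lib.R2Lead.KRR

variable (n : ℕ) (T : Scheme.{u})

/-- the natural transformation `Φ F ⟶ Φ G` induced by `φ : F ⟶ G` -/
noncomputable def Φmap {F G : (KRR.PY n T).Modules} (φ : F ⟶ G) : Φ n T F ⟶ Φ n T G :=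
  Functor.whiskerLeft (Scheme.Modules.pullback (fstZ n T))
    ((DCoh.tensorBi (X := KRR.PY n T)).flip.map φ)

/-- the Koszul data on `P^n_ℤ` -/
noncomputable abbrev D0 (a : ℤ) :
    KData (Proj (CohB1.polyGrading n (ULift.{u} ℤ))).Modules (n + 1) :=
  kdata0 (CohB1.polyGrading n (ULift.{u} ℤ)) (xs n (ULift.{u} ℤ)) (xs_mem n (ULift.{u} ℤ)) a

lemma Φmap_app_G {F G : (KRR.PY n T).Modules} (φ : F ⟶ G) (a : ℤ) (i : ℕ) :
    (Φmap n T φ).app ((D0 n a).G i) = (twFun n T (a + i)).map φ := rfl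

lemma KDT_d (F : (KRR.PY n T).Modules) (a : ℤ) (i : ℕ) :
    (KDT n T F a).d i = (Φ n T F).map ((D0 n a).d i) :=
  KData.map_d (D0 n a) (Φ n T F) i

variable (F : (KRR.PY n T).Modules)

/-- for `F` regular, `p_* (F(k)^{n+1}) ⟶ p_* F(k+1)` is an epimorphism -/
theorem epi_push_d_KDT (hreg : KRR.IsRegSheaf n T F) (k : ℕ) :
    Epi ((Scheme.Modules.pushforward (KRR.pr n T)).map ((KDT n T F ((k : ℤ) - n)).d n)) := by
  apply epi_push_d_top (KRR.pr n T) (KDT n T F ((k : ℤ) - n)) (exact_KDT n T F ((k : ℤ) - n))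
    (mono_KDT n T F ((k : ℤ) - n))
  intro i hi
  have hk := isRegSheaf_twF_nat n T F hreg k (1 + (n - (i + 1))) (by omega)
  obtain ⟨e⟩ := nonempty_twFun_comp_iso n T (-((1 + (n - (i + 1)) : ℕ) : ℤ)) (k : ℤ)
  have e' : KRR.twF n T (-((1 + (n - (i + 1)) : ℕ) : ℤ)) (KRR.twF n T (k : ℤ) F) ≅
      KRR.twF n T (-((1 + (n - (i + 1)) : ℕ) : ℤ) + (k : ℤ)) F := e.app F
  have h2 := van_of_iso (KRR.pr n T) (1 + (n - (i + 1))) e' hk
  have e2 : -((1 + (n - (i + 1)) : ℕ) : ℤ) + (k : ℤ) = (k : ℤ) - n + (i : ℤ) := by omega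
  rw [e2] at h2
  exact h2

variable {F} {G : (KRR.PY n T).Modules}

/-- if `p_* φ = p_* ψ` and `F` is regular then `p_* (φ(k)) = p_* (ψ(k))` for all `k ≥ 0` -/
theorem push_twFun_map_eq (hreg : KRR.IsRegSheaf n T F) (φ ψ : F ⟶ G)
    (h : (Scheme.Modules.pushforward (KRR.pr n T)).map φ =
      (Scheme.Modules.pushforward (KRR.pr n T)).map ψ) (k : ℕ) :
    (Scheme.Modules.pushforward (KRR.pr n T)).map ((twFun n T (k : ℤ)).map φ) =
      (Scheme.Modules.pushforward (KRR.pr n T)).map ((twFun n T (k : ℤ)).map ψ) := by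
  induction k with
  | zero =>
    obtain ⟨e0⟩ := nonempty_twFun_zero_iso n T
    have h1 : ∀ χ : F ⟶ G, (twFun n T 0).map χ = e0.hom.app F ≫ χ ≫ e0.inv.app G := fun χ => by
      have h2 := e0.hom.naturality χ
      rw [Functor.id_map] at h2
      rw [← Category.assoc, ← h2, Category.assoc, Iso.hom_inv_id_app, Category.comp_id]
    change (Scheme.Modules.pushforward (KRR.pr n T)).map ((twFun n T 0).map φ) =
      (Scheme.Modules.pushforward (KRR.pr n T)).map ((twFun n T 0).map ψ)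
    rw [h1 φ, h1 ψ, CategoryTheory.Functor.map_comp, CategoryTheory.Functor.map_comp,
      CategoryTheory.Functor.map_comp, CategoryTheory.Functor.map_comp, h]
  | succ k ih =>
    have hepi := epi_push_d_KDT n T F hreg k
    rw [KDT_d] at hepi
    have key : ∀ d : ℤ, d = (k : ℤ) - n + (n : ℕ) →
        (Scheme.Modules.pushforward (KRR.pr n T)).map ((twFun n T d).map φ) =
          (Scheme.Modules.pushforward (KRR.pr n T)).map ((twFun n T d).map ψ) →
        (Scheme.Modules.pushforward (KRR.pr n T)).map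
            ((Φmap n T φ).app ((D0 n ((k : ℤ) - n)).G n)) =
          (Scheme.Modules.pushforward (KRR.pr n T)).map
            ((Φmap n T ψ).app ((D0 n ((k : ℤ) - n)).G n)) := by
      rintro d rfl h'
      exact h'
    have hG := key (k : ℤ) (by ring) ih
    have htop := agree_top (D0 n ((k : ℤ) - n)) (Φmap n T φ) (Φmap n T ψ)
      (Scheme.Modules.pushforward (KRR.pr n T)) hepi hG
    have key2 : ∀ d : ℤ, d = (k : ℤ) - n + ((n + 1 : ℕ) : ℤ) →
        (Scheme.Modules.pushforward (KRR.pr n T)).map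
            ((Φmap n T φ).app ((D0 n ((k : ℤ) - n)).G (n + 1))) =
          (Scheme.Modules.pushforward (KRR.pr n T)).map
            ((Φmap n T ψ).app ((D0 n ((k : ℤ) - n)).G (n + 1))) →
        (Scheme.Modules.pushforward (KRR.pr n T)).map ((twFun n T d).map φ) =
          (Scheme.Modules.pushforward (KRR.pr n T)).map ((twFun n T d).map ψ) := by
      rintro d rfl h'
      exact h'
    exact key2 ((k + 1 : ℕ) : ℤ) (by push_cast; ring) htop

end Groth.Agent.Lib.R2H2.RegCounitA
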