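import Groth.Agent.Lib.R2H2EWFlat
import Groth.Agent.Lib.R2H2PullLF
import Groth.Agent.Lib.R2LeadTensorExact
import Groth.Agent.Lib.Helper20FormalPull
import Groth.Agent.Lib.R2H2TensorLin
import Groth.Agent.Lib.Helper1BKF6

/-!
# Flatness of the global sections of an acyclic vector bundle on `P^n_R` (helper2, round 2)

For a finite locally free module `G` on `P^n_R` with `H^q(P^n_R, G) = 0` for all `q ≥ 1`:

* `Θ n R G : 𝒩 ↦ G ⊗ π^* 𝒩` is exact, commutes with coproducts, is `R`-linear;
* `subsingleton_HH_Θ` : `H^q(P^n_R, G ⊗ π^* 𝒩) = 0` for all `q ≥ 1` and all quasi-coherent `𝒩`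
  on `Spec R` (descending induction on `q`);
* `flat_hom_of_acyclic` : `Hom(O, G) = Γ(P^n_R, G)` is a flat `R`-module.
-/

set_option autoImplicit false
set_option linter.unusedSectionVars false
set_option linter.style.haveILetI false
universe u

namespace Groth.Agent.Lib.R2H2.RegFlat

open CategoryTheory CategoryTheory.Limits AlgebraicGeometry TopologicalSpace Opposite
open Groth.Agent.Lib.R2H2.HHLin Groth.Agent.Lib.R2H2.PnSerre
open Groth.Agent.Lib.Helper23.SecTw Groth.Agent.Lib.Helper23.QCohLocal Groth.Agent.Lib.Helper6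
open Groth.Agent.Lib.R2H2.CoprodSec Groth.Agent.Lib.R2H2.CoprodCoh
  Groth.Agent.Lib.R2H2.PnCoh Groth.Agent.Lib.R2H2.ProjSec Groth.Agent.Lib.R2H2.KoszulPoly
  Groth.Agent.Lib.R2H2.PnPullVan

variable (n : ℕ) (R : Type u) [CommRing R]

local notation "PX" => CohB1.ProjSpace n R
local notation "SR" => Spec (CommRingCat.of R)
local notation "πR" => CohB1.ProjSpace.toSpec n R

/-- `𝒩 ↦ G ⊗ π^* 𝒩` -/
noncomputable abbrev Θ (G : (PX).Modules) : (SR).Modules ⥤ (PX).Modules :=
  Scheme.Modules.pullback πR ⋙ DCoh.tensorBi.obj G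

instance Θ_additive (G : (PX).Modules) : (Θ n R G).Additive := by
  infer_instance

theorem shortExact_map_Θ (G : (PX).Modules) (hG : FlatMod.IsFinLocFree G)
    (S : ShortComplex (SR).Modules) (hS : S.ShortExact) : (S.map (Θ n R G)).ShortExact := by
  haveI := hS.mono_f
  have h1 : (S.map (Scheme.Modules.pullback πR)).ShortExact :=
    Groth.Agent.Lib.Helper21.FlatCalc.shortExact_map_of_mono _ S hS
      (Groth.Agent.Lib.Helper26.FpqcMod.mono_pullback_of_flat πR S.f)
  have hfl := Groth.Agent.Lib.R2H2.PullLF.isFlat_of_isFinLocFree G hG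
  have h2 : ((S.map (Scheme.Modules.pullback πR)).map (DCoh.tensorBi.obj G)).ShortExact :=
    Groth.Agent.Lib.R2Lead.TensorExact.shortExact_map_tensorBi G (fun x => hfl x) _ h1
  exact h2

theorem preservesFiniteLimits_Θ (G : (PX).Modules) (hG : FlatMod.IsFinLocFree G) :
    PreservesFiniteLimits (Θ n R G) := by
  rw [Functor.preservesFiniteLimits_iff_forall_exact_map_and_mono]
  intro S hS
  have h := shortExact_map_Θ n R G hG S hS
  exact ⟨h.exact, h.mono_f⟩

theorem preservesFiniteColimits_Θ (G : (PX).Modules) (hG : FlatMod.IsFinLocFree G) :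
    PreservesFiniteColimits (Θ n R G) := by
  rw [Functor.preservesFiniteColimits_iff_forall_exact_map_and_epi]
  intro S hS
  have h := shortExact_map_Θ n R G hG S hS
  exact ⟨h.exact, h.epi_g⟩

theorem preservesColimitsOfShape_Θ (G : (PX).Modules) (J : Type u) :
    PreservesColimitsOfShape (Discrete J) (Θ n R G) := by
  haveI : PreservesColimitsOfShape (Discrete J) (DCoh.tensorBi.obj G) :=
    Groth.Agent.Lib.Helper1.BKF.preservesColimitsOfShape_tensorBi_obj (O := (PX).sheaf)
      (Discrete J) G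
  haveI : PreservesColimitsOfSize.{u, u} (Scheme.Modules.pullback πR) :=
    (Scheme.Modules.pullbackPushforwardAdjunction πR).leftAdjoint_preservesColimits
  infer_instance

theorem Θ_map_smulMod (G : (PX).Modules) (N : (SR).Modules) (a : R) :
    (Θ n R G).map (Formal.smulMod R N a) = Formal.smulMod R ((Θ n R G).obj N) a := by
  have hf : πR ≫ (SR ↘ SR) = (PX ↘ SR) := by
    rw [Groth.Agent.Lib.R2H2.EWFlat.over_self, Category.comp_id]
    rfl
  change (DCoh.tensorBi.obj G).map ((Scheme.Modules.pullback πR).map (Formal.smulMod R N a)) = _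
  rw [Groth.Agent.Lib.Helper20.FormalPull.pullback_map_smulMod πR hf N a]
  exact Groth.Agent.Lib.R2H2.TensorLin.tensorBi_map_smulModΓ G _ _

theorem isQuasicoherent_Θ (G : (PX).Modules) (hG : FlatMod.IsFinLocFree G)
    (N : (SR).Modules) [N.IsQuasicoherent] : ((Θ n R G).obj N).IsQuasicoherent := by
  haveI : ((Scheme.Modules.pullback πR).obj N).IsQuasicoherent :=
    Groth.Agent.Lib.Helper2.PullbackSec.isQuasicoherent_pullback _ _
  haveI := Groth.Agent.Lib.R2H2.PullLF.isQuasicoherent_of_isFinLocFree G hG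
  exact Groth.Agent.Lib.Helper23.TensorQCoh.isQuasicoherent_tensorMod _ _

/-- `Θ_G(O) ≅ G` -/
noncomputable def ΘUnitIso (G : (PX).Modules) :
    (Θ n R G).obj (Coh.structureModule SR) ≅ G :=
  PicGrp.tensorModIso (Iso.refl G) (Groth.Agent.Lib.Helper23.PB.pullbackUnitIso πR) ≪≫
    Groth.Agent.Lib.Helper23.TensorUnit.tensorUnitIso G

/-- the cohomology of `Θ` of a free module -/
theorem subsingleton_HH_Θ_sigma (G : (PX).Modules) (hG : FlatMod.IsFinLocFree G) (q : ℕ)
    (hq : Subsingleton (Coh.HH PX G q)) (I : Type u) :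
    Subsingleton (Coh.HH PX ((Θ n R G).obj (∐ fun _ : I => Coh.structureModule SR)) q) := by
  classical
  haveI hO := isQuasicoherent_structureModule SR
  let E : I → (PX).Modules := fun _ => (Θ n R G).obj (Coh.structureModule SR)
  have hEq : ∀ j, (E j).IsQuasicoherent := fun _ => isQuasicoherent_Θ n R G hG _
  have hE0 : ∀ j (y : Coh.HH PX (E j) q), y = 0 := fun _ y => by
    haveI := subsingleton_HH_of_iso (ΘUnitIso n R G).symm q hq
    exact Subsingleton.elim _ _
  have h1 : Subsingleton (Coh.HH PX (∐ E) q) := by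
    have key : ∀ x : Coh.HH PX (∐ E) q, x = 0 := fun x => by
      obtain ⟨S, hS⟩ := exists_sum_HH E (Wp (CohB1.polyGrading n R) (vars R n)) (iSup_Wp_vars R n)
        (isAffineOpen_biInf_Wp (CohB1.polyGrading n R) (vars R n) (hfs_vars R n)) hEq q x
      rw [hS]
      refine Finset.sum_eq_zero (fun j _ => ?_)
      have h0 : ∀ y : Coh.HH PX (E j) q, HmapL (Sigma.ι E j) q y = 0 := fun y => by
        rw [hE0 j y, map_zero]
      exact h0 _
    exact ⟨fun a b => (key a).trans (key b).symm⟩
  haveI := preservesColimitsOfShape_Θ n R G I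
  let e : (Θ n R G).obj (∐ fun _ : I => Coh.structureModule SR) ≅ ∐ E :=
    PreservesCoproduct.iso (Θ n R G) (fun _ : I => Coh.structureModule SR)
  exact subsingleton_HH_of_iso e.symm q h1

/-- the presentation of a quasi-coherent module on `Spec R` and the long exact sequence -/
theorem subsingleton_HH_Θ_step (G : (PX).Modules) (hG : FlatMod.IsFinLocFree G) (q : ℕ)
    (hq : Subsingleton (Coh.HH PX G q))
    (ih : ∀ (N : (SR).Modules), N.IsQuasicoherent →
      Subsingleton (Coh.HH PX ((Θ n R G).obj N) (q + 1)))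
    (N : (SR).Modules) (hN : N.IsQuasicoherent) :
    Subsingleton (Coh.HH PX ((Θ n R G).obj N) q) := by
  haveI := hN
  obtain ⟨I, φ, hφ⟩ := exists_epi_sigma_unit (CommRingCat.of R) N
  haveI hO := isQuasicoherent_structureModule SR
  haveI hSig : (∐ fun _ : I => Coh.structureModule SR).IsQuasicoherent := by
    classical
    exact isQuasicoherent_sigma _ (fun _ => hO)
  have hKq : (kernel φ).IsQuasicoherent := isQuasicoherent_kernel φ
  let S : ShortComplex (SR).Modules := ShortComplex.mk (kernel.ι φ) φ (kernel.condition φ)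
  have hS : S.ShortExact :=
    { exact := ShortComplex.exact_kernel φ
      mono_f := equalizer.ι_mono
      epi_g := hφ }
  have hS' := shortExact_map_Θ n R G hG S hS
  have h2 : Subsingleton (Coh.HH PX (S.map (Θ n R G)).X₂ q) :=
    subsingleton_HH_Θ_sigma n R G hG q hq I
  have h1 : Subsingleton (Coh.HH PX (S.map (Θ n R G)).X₁ (q + 1)) := ih (kernel φ) hKq
  have key : ∀ x : Coh.HH PX (S.map (Θ n R G)).X₃ q, x = 0 := fun x => by
    obtain ⟨y, hy⟩ := exact₃ (S.map (Θ n R G)) hS' q x (Subsingleton.elim _ _)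
    rw [← hy, Subsingleton.elim y 0, map_zero]
  exact ⟨fun a b => (key a).trans (key b).symm⟩

theorem subsingleton_HH_Θ_aux (G : (PX).Modules) (hG : FlatMod.IsFinLocFree G)
    (hacyc : ∀ q : ℕ, 1 ≤ q → Subsingleton (Coh.HH PX G q)) (k : ℕ) :
    ∀ q : ℕ, 1 ≤ q → n + 1 ≤ q + k → ∀ (N : (SR).Modules), N.IsQuasicoherent →
      Subsingleton (Coh.HH PX ((Θ n R G).obj N) q) := by
  induction k with
  | zero =>
    intro q _ hq N hN
    haveI := hN
    have hq3 : Coh.IsQCoh ((Θ n R G).obj N) := isQuasicoherent_Θ n R G hG N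
    exact Groth.Agent.S0022.result n R _ q (by omega)
  | succ k ih =>
    intro q hq1 hq N hN
    exact subsingleton_HH_Θ_step n R G hG q (hacyc q hq1)
      (ih (q + 1) (by omega) (by omega)) N hN

/-- `H^q(P^n_R, G ⊗ π^* 𝒩) = 0` for `q ≥ 1`, `G` an acyclic vector bundle -/
theorem subsingleton_HH_Θ (G : (PX).Modules) (hG : FlatMod.IsFinLocFree G)
    (hacyc : ∀ q : ℕ, 1 ≤ q → Subsingleton (Coh.HH PX G q)) (q : ℕ) (hq : 1 ≤ q)
    (N : (SR).Modules) (hN : N.IsQuasicoherent) :
    Subsingleton (Coh.HH PX ((Θ n R G).obj N) q) :=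
  subsingleton_HH_Θ_aux n R G hG hacyc n q hq (by omega) N hN

/-- **the global sections of an acyclic vector bundle on `P^n_R` are flat over `R`** -/
theorem flat_hom_of_acyclic (G : (PX).Modules) (hG : FlatMod.IsFinLocFree G)
    (hacyc : ∀ q : ℕ, 1 ≤ q → Subsingleton (Coh.HH PX G q)) :
    Module.Flat R (Coh.structureModule PX ⟶ G) := by
  haveI := preservesFiniteLimits_Θ n R G hG
  haveI := preservesFiniteColimits_Θ n R G hG
  exact Groth.Agent.Lib.R2H2.EWFlat.flat_hom_of_exact (A := R) (Θ n R G)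
    (preservesColimitsOfShape_Θ n R G) (Θ_map_smulMod n R G)
    (fun N hN => by
      haveI := hN
      exact isQuasicoherent_Θ n R G hG N)
    (fun N hN => subsingleton_HH_Θ n R G hG hacyc (0 + 1) (by omega) N hN)
    (Wp (CohB1.polyGrading n R) (vars R n)) (iSup_Wp_vars R n)
    (isAffineOpen_biInf_Wp (CohB1.polyGrading n R) (vars R n) (hfs_vars R n))
    G (ΘUnitIso n R G)

end Groth.Agent.Lib.R2H2.RegFlat
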