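import Mathlib

/-!
# Projective dimension of quotients by regular sequences, without local hypotheses
(helper2, round 2)

* `hasProjectiveDimensionLT_quotient` : `pd (M / (rs) M) < n + length rs` when `pd M < n` and `rs`
  is weakly regular on `M`.
* `hasProjectiveDimensionLT_restrictScalars` : for a surjection `φ : A → B` whose kernel is
  generated by a weakly regular sequence `rs`, every finite projective `B`-module has
  `pd_A < length rs + 1`.
-/

set_option autoImplicit false
universe u

open CategoryTheory CategoryTheory.Limits RingTheory.Sequence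

namespace Groth.Agent.Lib.R2H2.RegSeqPd

section Quot

variable {R : Type u} [CommRing R]

theorem hasProjectiveDimensionLT_quotient (rs : List R) :
    ∀ (M : ModuleCat.{u} R) (n : ℕ), HasProjectiveDimensionLT M n → IsWeaklyRegular M rs →
      HasProjectiveDimensionLT
        (ModuleCat.of R (M ⧸ (Ideal.ofList rs • ⊤ : Submodule R M))) (n + rs.length) := by
  induction rs with
  | nil =>
    intro M n hM _
    have h0 : (Ideal.ofList ([] : List R) • ⊤ : Submodule R M) = ⊥ := by
      rw [Ideal.ofList_nil, Submodule.bot_smul]
    haveI := hM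
    exact hasProjectiveDimensionLT_of_iso
      (Submodule.quotEquivOfEqBot _ h0).symm.toModuleIso n
  | cons x rs ih =>
    intro M n hM reg
    rw [isWeaklyRegular_cons_iff] at reg
    have hS := reg.1.smulShortComplex_shortExact
    have h3 : HasProjectiveDimensionLT (ModuleCat.of R (QuotSMulTop x M)) (n + 1) :=
      hS.hasProjectiveDimensionLT_X₃ n hM (hasProjectiveDimensionLT_of_ge M n (n + 1) (by omega))
    haveI h4 := ih (ModuleCat.of R (QuotSMulTop x M)) (n + 1) h3 reg.2
    have h5 := hasProjectiveDimensionLT_of_iso
      (Submodule.quotOfListConsSMulTopEquivQuotSMulTopInner M x rs).symm.toModuleIso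
      (n + 1 + rs.length)
    have hl : n + (x :: rs).length = n + 1 + rs.length := by
      rw [List.length_cons]; omega
    rw [hl]
    exact h5

end Quot

section Restrict

variable {A B : Type u} [CommRing A] [CommRing B] (φ : A →+* B)

/-- the class of modules of `pd < m` is stable under finite powers -/
theorem hasProjectiveDimensionLT_pi {C : Type*} [Category C] [Abelian C]
    (F : ModuleCat.{u} B ⥤ C) [F.Additive] (m : ℕ)
    (h : HasProjectiveDimensionLT (F.obj (ModuleCat.of B B)) m) :
    ∀ r : ℕ, HasProjectiveDimensionLT (F.obj (ModuleCat.of B (Fin r → B))) m := by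
  intro r
  induction r with
  | zero =>
    have hz : IsZero (ModuleCat.of B (Fin 0 → B)) := ModuleCat.isZero_of_subsingleton _
    haveI := (F.map_isZero hz).hasProjectiveDimensionLT_zero
    exact hasProjectiveDimensionLT_of_ge _ 0 m (Nat.zero_le _)
  | succ r ih =>
    let e : ModuleCat.of B (Fin (r + 1) → B) ≅ ModuleCat.of B B ⊞ ModuleCat.of B (Fin r → B) :=
      (Fin.consLinearEquiv B (fun _ : Fin (r + 1) => B)).symm.toModuleIso ≪≫
        (ModuleCat.biprodIsoProd (ModuleCat.of B B) (ModuleCat.of B (Fin r → B))).symm
    haveI := h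
    haveI := ih
    haveI : PreservesBinaryBiproducts F := preservesBinaryBiproducts_of_preservesBiproducts F
    exact hasProjectiveDimensionLT_of_iso
      (F.mapIso e ≪≫ F.mapBiprod _ _).symm m

theorem hasProjectiveDimensionLT_of_finite_projective {C : Type*} [Category C] [Abelian C]
    (F : ModuleCat.{u} B ⥤ C) [F.Additive] (m : ℕ)
    (h : HasProjectiveDimensionLT (F.obj (ModuleCat.of B B)) m)
    (N : ModuleCat.{u} B) [Module.Finite B N] [Module.Projective B N] :
    HasProjectiveDimensionLT (F.obj N) m := by
  obtain ⟨r, f, hf⟩ := Module.Finite.exists_fin' B N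
  obtain ⟨g, hg⟩ := Module.projective_lifting_property f LinearMap.id hf
  let ρ : Retract N (ModuleCat.of B (Fin r → B)) :=
    { i := ModuleCat.ofHom g
      r := ModuleCat.ofHom f
      retract := by
        ext x
        exact LinearMap.congr_fun hg x }
  haveI := hasProjectiveDimensionLT_pi F m h r
  exact (ρ.map F).hasProjectiveDimensionLT m

theorem hasProjectiveDimensionLT_restrictScalars (hφ : Function.Surjective φ) (rs : List A)
    (hreg : IsWeaklyRegular A rs) (hker : RingHom.ker φ = Ideal.ofList rs)
    (N : ModuleCat.{u} B) [Module.Finite B N] [Module.Projective B N] :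
    HasProjectiveDimensionLT ((ModuleCat.restrictScalars φ).obj N) (rs.length + 1) := by
  apply hasProjectiveDimensionLT_of_finite_projective
  -- `pd_A B < 1 + length rs`
  have h1 : HasProjectiveDimensionLT (ModuleCat.of A A) 1 := inferInstance
  have h2 := hasProjectiveDimensionLT_quotient rs (ModuleCat.of A A) 1 h1 hreg
  let ψ : A →ₗ[A] ((ModuleCat.restrictScalars φ).obj (ModuleCat.of B B)) :=
    { toFun := fun a => (φ a : B)
      map_add' := fun a b => map_add φ a b
      map_smul' := fun a b => by
        change φ (a * b) = φ a * φ b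
        exact map_mul φ a b }
  have hψs : Function.Surjective ψ := hφ
  have hψk : LinearMap.ker ψ = (Ideal.ofList rs • ⊤ : Submodule A A) := by
    rw [smul_eq_mul, Ideal.mul_top, ← hker]
    ext a
    exact Iff.rfl
  let e : (A ⧸ (Ideal.ofList rs • ⊤ : Submodule A A)) ≃ₗ[A]
      ((ModuleCat.restrictScalars φ).obj (ModuleCat.of B B)) :=
    (Submodule.quotEquivOfEq _ _ hψk.symm).trans (ψ.quotKerEquivOfSurjective hψs)
  haveI := h2
  have h3 := hasProjectiveDimensionLT_of_iso e.toModuleIso (1 + rs.length)
  rw [Nat.add_comm]
  exact h3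

end Restrict

end Groth.Agent.Lib.R2H2.RegSeqPd
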