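import Groth.Agent.Lib.Helper13QcqsBC
import Groth.Agent.Lib.R2H2CechShRes

/-!
# Base change of the relative Čech complex — part A (helper2, round 2)

Namespace `Groth.Agent.Lib.R2H2.RelCechBC`.  For a commutative square `g' ≫ f = f' ≫ g`, opens `W ⊆ X`,
`W' ⊆ X'` with `W' ≤ g'⁻¹ W` and an `O_X`-module `F`:
* `psiX : (j_W)_*(F|_W) ⟶ g'_* (j_{W'})_*((g'^*F)|_{W'})` (sections: `unitSec`), `psi` its direct image to `S`,
  `phi : g^* f_* (j_W)_*(F|_W) ⟶ f'_* (j_{W'})_*((g'^*F)|_{W'})` the adjoint;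
* `adj_unitSec`, `phi_unitSec` : values on unit sections; `psi_natural`, `phi_natural` : compatibility with
  restriction to smaller opens.
-/

set_option backward.isDefEq.respectTransparency.types false
set_option autoImplicit false
set_option linter.unusedSectionVars false
universe u

open CategoryTheory CategoryTheory.Limits AlgebraicGeometry Opposite TopologicalSpace

namespace Groth.Agent.Lib.R2H2.RelCechBC

open Scheme.Modules Groth.Agent.Helper13PullbackUnit Groth.Agent.Helper13AffBC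
  Groth.Agent.Helper13QcqsBC Groth.Agent.Lib.Helper6 CechOX Groth.Agent.Lib.R2H2.CechShRes

section Adj
variable {S S' : Scheme.{u}} (g : S' ⟶ S) (N : S.Modules) (N' : S'.Modules)
  (ψ : N ⟶ (pushforward g).obj N')

/-- the adjoint of `ψ : N ⟶ g_* N'` on unit sections -/
theorem adj_unitSec {U : S.Opens} {U' : S'.Opens} (hle : U' ≤ g ⁻¹ᵁ U) (m : Γ(N, U)) :
    (((pullbackPushforwardAdjunction g).homEquiv N N').symm ψ).app U' (unitSec g N hle m) =
      N'.presheaf.map (homOfLE hle).op (ψ.app U m) := by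
  set φ := ((pullbackPushforwardAdjunction g).homEquiv N N').symm ψ with hφ
  have h0 : (pullbackPushforwardAdjunction g).unit.app N ≫ (pushforward g).map φ = ψ := by
    have := ((pullbackPushforwardAdjunction g).homEquiv N N').apply_symm_apply ψ
    rw [Adjunction.homEquiv_unit] at this
    exact this
  have n : φ.app U' (((Scheme.Modules.pullback g).obj N).presheaf.map (homOfLE hle).op
        (((pullbackPushforwardAdjunction g).unit.app N).app U m)) =
      N'.presheaf.map (homOfLE hle).op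
        (φ.app (g ⁻¹ᵁ U) (((pullbackPushforwardAdjunction g).unit.app N).app U m)) :=
    CategoryTheory.congr_fun (φ.mapPresheaf.naturality (homOfLE hle).op) _
  rw [unitSec_apply, n, ← h0]
  rfl

end Adj

section PsiX
variable {X X' : Scheme.{u}} (g' : X' ⟶ X) (F : X.Modules)

lemma IV_le {W : X.Opens} {W' : X'.Opens} (hW : W' ≤ g' ⁻¹ᵁ W) (V : X.Opens) :
    IV W' (g' ⁻¹ᵁ V) ≤ g' ⁻¹ᵁ (IV W V) := by
  rw [IV_eq, IV_eq]
  intro x hx
  exact ⟨hW hx.1, hx.2⟩

lemma IV_mono (W : X.Opens) {V₁ V₂ : X.Opens} (h : V₂ ≤ V₁) : IV W V₂ ≤ IV W V₁ :=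
  W.ι.image_mono (W.ι.preimage_mono h)

/-- the underlying map of abelian presheaves of `psiX` -/
noncomputable def psiXPre {W : X.Opens} {W' : X'.Opens} (hW : W' ≤ g' ⁻¹ᵁ W) :
    ((pushRestr W).obj F).presheaf ⟶
      ((pushforward g').obj ((pushRestr W').obj ((Scheme.Modules.pullback g').obj F))).presheaf where
  app V := AddCommGrpCat.ofHom (unitSec g' F (IV_le g' hW V.unop))
  naturality V₁ V₂ i := by
    obtain ⟨V₁⟩ := V₁
    obtain ⟨V₂⟩ := V₂
    have hle : V₂ ≤ V₁ := leOfHom i.unop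
    apply AddCommGrpCat.hom_ext
    apply AddMonoidHom.ext
    intro m
    change unitSec g' F (IV_le g' hW V₂) (res F (IV_mono W hle) (show Γ(F, IV W V₁) from m)) =
      res ((Scheme.Modules.pullback g').obj F) (IV_mono W' (g'.preimage_mono hle))
        (unitSec g' F (IV_le g' hW V₁) (show Γ(F, IV W V₁) from m))
    exact (unitSec_res g' F _ _ _ _ _).symm

/-- `(j_W)_*(F|_W) ⟶ g'_* (j_{W'})_*((g'^*F)|_{W'})`; on sections it is `unitSec` -/
noncomputable def psiX {W : X.Opens} {W' : X'.Opens} (hW : W' ≤ g' ⁻¹ᵁ W) :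
    (pushRestr W).obj F ⟶
      (pushforward g').obj ((pushRestr W').obj ((Scheme.Modules.pullback g').obj F)) :=
  ⟨PresheafOfModules.homMk (psiXPre g' F hW) (fun V r m => by
      obtain ⟨V⟩ := V
      change ↑(Γ(X, V)) at r
      change unitSec g' F (IV_le g' hW V)
          (((W.ι.appIso (W.ι ⁻¹ᵁ V)).inv (W.ι.app V r)) • (show ↑Γ(F, IV W V) from m)) =
        ((W'.ι.appIso (W'.ι ⁻¹ᵁ (g' ⁻¹ᵁ V))).inv (W'.ι.app (g' ⁻¹ᵁ V) (g'.app V r))) •
          unitSec g' F (IV_le g' hW V) (show ↑Γ(F, IV W V) from m)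
      rw [unitSec_smul]
      congr 1
      have h1 := ConcreteCategory.congr_hom (W.ι.app_appIso_inv V) r
      have h2 := ConcreteCategory.congr_hom (W'.ι.app_appIso_inv (g' ⁻¹ᵁ V)) (g'.app V r)
      simp only [CategoryTheory.comp_apply] at h1 h2
      rw [h1, h2]
      have h3 := ConcreteCategory.congr_hom
        (g'.map_appLE (IV_le g' hW V) (homOfLE (W.ι.image_preimage_le V)).op) r
      simp only [CategoryTheory.comp_apply] at h3
      refine h3.trans ?_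
      rfl)⟩

theorem psiX_app {W : X.Opens} {W' : X'.Opens} (hW : W' ≤ g' ⁻¹ᵁ W) (V : X.Opens)
    (m : Γ(F, IV W V)) : (psiX g' F hW).app V m = unitSec g' F (IV_le g' hW V) m := rfl

end PsiX

section Psi
variable {X S X' S' : Scheme.{u}} (f : X ⟶ S) (g : S' ⟶ S) (g' : X' ⟶ X) (f' : X' ⟶ S')
  (w : g' ≫ f = f' ≫ g) (F : X.Modules)

/-- `f_*(j_W)_*(F|_W) ⟶ g_* f'_* (j_{W'})_*((g'^*F)|_{W'})` -/
noncomputable def psi {W : X.Opens} {W' : X'.Opens} (hW : W' ≤ g' ⁻¹ᵁ W) :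
    (pushforward f).obj ((pushRestr W).obj F) ⟶
      (pushforward g).obj ((pushforward f').obj
        ((pushRestr W').obj ((Scheme.Modules.pullback g').obj F))) :=
  (pushforward f).map (psiX g' F hW) ≫
    (pushforwardComp g' f).hom.app _ ≫ (pushforwardCongr w).hom.app _ ≫
    (pushforwardComp f' g).inv.app _

include w in
lemma preimage_eq (U : S.Opens) : f' ⁻¹ᵁ (g ⁻¹ᵁ U) = g' ⁻¹ᵁ (f ⁻¹ᵁ U) := by
  rw [← Scheme.Hom.comp_preimage, ← Scheme.Hom.comp_preimage, w]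

theorem psi_app {W : X.Opens} {W' : X'.Opens} (hW : W' ≤ g' ⁻¹ᵁ W) (U : S.Opens)
    (m : Γ(F, IV W (f ⁻¹ᵁ U))) :
    (psi f g g' f' w F hW).app U m =
      res ((Scheme.Modules.pullback g').obj F)
        (IV_mono W' (le_of_eq (preimage_eq f g g' f' w U)))
        (unitSec g' F (IV_le g' hW (f ⁻¹ᵁ U)) m) := rfl

/-- the adjoint `g^* f_*(j_W)_*(F|_W) ⟶ f'_* (j_{W'})_*((g'^*F)|_{W'})` -/
noncomputable def phi {W : X.Opens} {W' : X'.Opens} (hW : W' ≤ g' ⁻¹ᵁ W) :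
    (Scheme.Modules.pullback g).obj ((pushforward f).obj ((pushRestr W).obj F)) ⟶
      (pushforward f').obj ((pushRestr W').obj ((Scheme.Modules.pullback g').obj F)) :=
  ((pullbackPushforwardAdjunction g).homEquiv _ _).symm (psi f g g' f' w F hW)

include w in
lemma IV_le' {W : X.Opens} {W' : X'.Opens} (hW : W' ≤ g' ⁻¹ᵁ W) {U : S.Opens} {U' : S'.Opens}
    (hle : U' ≤ g ⁻¹ᵁ U) : IV W' (f' ⁻¹ᵁ U') ≤ g' ⁻¹ᵁ (IV W (f ⁻¹ᵁ U)) :=
  (IV_mono W' ((f'.preimage_mono hle).trans (le_of_eq (preimage_eq f g g' f' w U)))).trans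
    (IV_le g' hW (f ⁻¹ᵁ U))

theorem phi_unitSec {W : X.Opens} {W' : X'.Opens} (hW : W' ≤ g' ⁻¹ᵁ W) {U : S.Opens}
    {U' : S'.Opens} (hle : U' ≤ g ⁻¹ᵁ U) (m : Γ(F, IV W (f ⁻¹ᵁ U))) :
    (phi f g g' f' w F hW).app U'
        (unitSec g ((pushforward f).obj ((pushRestr W).obj F)) hle m) =
      unitSec g' F (IV_le' f g g' f' w hW hle) m := by
  refine (adj_unitSec g _ _ (psi f g g' f' w F hW) hle m).trans ?_
  rw [psi_app]
  change res ((Scheme.Modules.pullback g').obj F) (IV_mono W' (f'.preimage_mono hle))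
    (res ((Scheme.Modules.pullback g').obj F) _ _) = _
  rw [res_res, unitSec_res g' F _ (IV_le' f g g' f' w hW hle) le_rfl]
  congr 1
  exact res_self F m

end Psi

section Nat
variable {X S X' S' : Scheme.{u}} (f : X ⟶ S) (g : S' ⟶ S) (g' : X' ⟶ X) (f' : X' ⟶ S')
  (w : g' ≫ f = f' ≫ g) (F : X.Modules)

theorem psi_natural {W₁ W₂ : X.Opens} {W₁' W₂' : X'.Opens} (hW₁ : W₁' ≤ g' ⁻¹ᵁ W₁)
    (hW₂ : W₂' ≤ g' ⁻¹ᵁ W₂) (h : W₂ ≤ W₁) (h' : W₂' ≤ W₁') :
    (pushforward f).map (pushRestrMapApp h F) ≫ psi f g g' f' w F hW₂ =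
      psi f g g' f' w F hW₁ ≫ (pushforward g).map ((pushforward f').map
        (pushRestrMapApp h' ((Scheme.Modules.pullback g').obj F))) := by
  apply Scheme.Modules.hom_ext
  intro U
  have key : ∀ m : Γ(F, IV W₁ (f ⁻¹ᵁ U)),
      res ((Scheme.Modules.pullback g').obj F)
        (IV_mono W₂' (le_of_eq (preimage_eq f g g' f' w U)))
        (unitSec g' F (IV_le g' hW₂ (f ⁻¹ᵁ U)) (res F (image_preimage_mono h (f ⁻¹ᵁ U)) m)) =
      res ((Scheme.Modules.pullback g').obj F) (image_preimage_mono h' (f' ⁻¹ᵁ (g ⁻¹ᵁ U)))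
        (res ((Scheme.Modules.pullback g').obj F)
          (IV_mono W₁' (le_of_eq (preimage_eq f g g' f' w U)))
          (unitSec g' F (IV_le g' hW₁ (f ⁻¹ᵁ U)) m)) := by
    intro m
    rw [← unitSec_res g' F (IV_le g' hW₁ (f ⁻¹ᵁ U)) (IV_le g' hW₂ (f ⁻¹ᵁ U))
      (image_preimage_mono h (f ⁻¹ᵁ U)) (image_preimage_mono h' (g' ⁻¹ᵁ (f ⁻¹ᵁ U))) m,
      res_res, res_res]
  refine AddCommGrpCat.hom_ext (AddMonoidHom.ext fun m => ?_)
  exact key m

theorem phi_natural {W₁ W₂ : X.Opens} {W₁' W₂' : X'.Opens} (hW₁ : W₁' ≤ g' ⁻¹ᵁ W₁)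
    (hW₂ : W₂' ≤ g' ⁻¹ᵁ W₂) (h : W₂ ≤ W₁) (h' : W₂' ≤ W₁') :
    (Scheme.Modules.pullback g).map ((pushforward f).map (pushRestrMapApp h F)) ≫
        phi f g g' f' w F hW₂ =
      phi f g g' f' w F hW₁ ≫ (pushforward f').map
        (pushRestrMapApp h' ((Scheme.Modules.pullback g').obj F)) := by
  unfold phi
  rw [← Adjunction.homEquiv_naturality_left_symm, ← Adjunction.homEquiv_naturality_right_symm,
    psi_natural f g g' f' w F hW₁ hW₂ h h']

end Nat

end Groth.Agent.Lib.R2H2.RelCechBC
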