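import Groth.Agent.Lib.R2H2RelCechBCA

/-!
# Base change of the relative Čech complex — part B (helper2, round 2)

`phi` (part A) is an isomorphism when the square is cartesian, `W' = g'⁻¹ W`, `F` is quasi-coherent and
`W ∩ f⁻¹U` is affine for every affine open `U` of `S`:
* `pushRestr_smul`, `push_pushRestr_smul` : the module structures on sections;
* `phi_app_bijective`, `isIso_phi`.
-/

set_option backward.isDefEq.respectTransparency.types false
set_option autoImplicit false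
set_option linter.unusedSectionVars false
universe u

open CategoryTheory CategoryTheory.Limits AlgebraicGeometry Opposite TopologicalSpace

namespace Groth.Agent.Lib.R2H2.RelCechBC

open Scheme.Modules Groth.Agent.Helper13PullbackUnit Groth.Agent.Helper13AffBC
  Groth.Agent.Helper13QcqsBC Groth.Agent.Helper13FlatMV Groth.Agent.Lib.Helper6 CechOX
  Groth.Agent.Lib.R2H2.CechShRes

section Smul
variable {X S : Scheme.{u}} (f : X ⟶ S) (F : X.Modules)

theorem pushRestr_smul (W V : X.Opens) (r : Γ(X, V)) (m : Γ(F, IV W V)) :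
    ((r • (show Γ((pushRestr W).obj F, V) from m) : Γ((pushRestr W).obj F, V)) : Γ(F, IV W V)) =
      (resf (W.ι.image_preimage_le V) r) • m := by
  change ((W.ι.appIso (W.ι ⁻¹ᵁ V)).inv (W.ι.app V r)) • m = _
  congr 1
  exact ConcreteCategory.congr_hom (W.ι.app_appIso_inv V) r

lemma IV_le_preimage (W : X.Opens) (U : S.Opens) : IV W (f ⁻¹ᵁ U) ≤ f ⁻¹ᵁ U :=
  W.ι.image_preimage_le _

theorem push_pushRestr_smul (W : X.Opens) (U : S.Opens) (r : Γ(S, U)) (m : Γ(F, IV W (f ⁻¹ᵁ U))) :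
    ((r • (show Γ((pushforward f).obj ((pushRestr W).obj F), U) from m) :
        Γ((pushforward f).obj ((pushRestr W).obj F), U)) : Γ(F, IV W (f ⁻¹ᵁ U))) =
      (f.appLE U (IV W (f ⁻¹ᵁ U)) (IV_le_preimage f W U) r) • m := by
  refine (pushRestr_smul F W (f ⁻¹ᵁ U) (f.app U r) m).trans ?_
  rfl

end Smul

section Iso
variable {X S X' S' : Scheme.{u}} (f : X ⟶ S) (g : S' ⟶ S) (g' : X' ⟶ X) (f' : X' ⟶ S')
  (h : IsPullback g' f' f g) (F : X.Modules) [F.IsQuasicoherent]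
  {W : X.Opens} {W' : X'.Opens} (hW : W' = g' ⁻¹ᵁ W)

include h hW in
lemma Vp_eq {U : S.Opens} {U' : S'.Opens} (hle : U' ≤ g ⁻¹ᵁ U) :
    Vp g' f' U' (IV W (f ⁻¹ᵁ U)) = IV W' (f' ⁻¹ᵁ U') := by
  subst hW
  rw [IV_eq, IV_eq]
  apply le_antisymm
  · rintro x ⟨⟨hx1, -⟩, hx2⟩
    exact ⟨hx1, hx2⟩
  · rintro x ⟨hx1, hx2⟩
    refine ⟨⟨hx1, ?_⟩, hx2⟩
    exact preimage_le f g g' f' h hle hx2

include h hW in
theorem phi_app_bijective
    [((pushforward f).obj ((pushRestr W).obj F)).IsQuasicoherent]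
    {U : S.Opens} {U' : S'.Opens} (hU : IsAffineOpen U) (hU' : IsAffineOpen U')
    (hle : U' ≤ g ⁻¹ᵁ U) (hWaff : IsAffineOpen (IV W (f ⁻¹ᵁ U))) :
    Function.Bijective ((phi f g g' f' h.w F (le_of_eq hW)).app U') := by
  have hA : IV W (f ⁻¹ᵁ U) ≤ f ⁻¹ᵁ U := IV_le_preimage f W U
  have hA' : IV W' (f' ⁻¹ᵁ U') ≤ f' ⁻¹ᵁ U' := IV_le_preimage f' W' U'
  have hA'A : IV W' (f' ⁻¹ᵁ U') ≤ g' ⁻¹ᵁ (IV W (f ⁻¹ᵁ U)) :=
    IV_le' f g g' f' h.w (le_of_eq hW) hle
  have hK := KBij_of_isAffineOpen f g g' f' h F hle hU hU' hA hWaff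
  letI : Algebra Γ(S, U) Γ(S', U') := (g.appLE U U' hle).hom.toAlgebra
  let N := (pushforward f).obj ((pushRestr W).obj F)
  let φ : SecR f F U (IV W (f ⁻¹ᵁ U)) hA →+ Γ((Scheme.Modules.pullback g).obj N, U') :=
    unitSec g N hle
  have hφ : ∀ (r : Γ(S, U)) (m : SecR f F U (IV W (f ⁻¹ᵁ U)) hA),
      φ (r • m) = algebraMap Γ(S, U) Γ(S', U') r • φ m := by
    intro r m
    have e := unitSec_smul g N hle r (show Γ(N, U) from m)
    refine Eq.trans (congrArg (unitSec g N hle) ?_) e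
    exact (push_pushRestr_smul f F W U r m).symm
  have hφ' : ∀ (r : Γ(S, U)) (m : SecR f F U (IV W (f ⁻¹ᵁ U)) hA),
      uW f g' f' F hA hA'A hA' (r • m) =
        algebraMap Γ(S, U) Γ(S', U') r • uW f g' f' F hA hA'A hA' m :=
    uW_smul f g g' f' h F hle hA hA'A hA'
  refine bijective_of_kap_bijective (R := Γ(S, U)) (R' := Γ(S', U'))
    (M := SecR f F U (IV W (f ⁻¹ᵁ U)) hA)
    (Q := Γ((Scheme.Modules.pullback g).obj N, U'))
    (Q' := SecR f' ((Scheme.Modules.pullback g').obj F) U' (IV W' (f' ⁻¹ᵁ U')) hA')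
    φ hφ (uW f g' f' F hA hA'A hA') hφ'
    ((phi f g g' f' h.w F (le_of_eq hW)).app U').hom ?_ ?_ ?_ ?_
  · intro r' q
    have e := (phi f g g' f' h.w F (le_of_eq hW)).app_smul r' q
    refine e.trans ?_
    exact push_pushRestr_smul f' ((Scheme.Modules.pullback g').obj F) W' U' r' _
  · intro m
    exact phi_unitSec f g g' f' h.w F (le_of_eq hW) hle m
  · refine kap_bijective_of_existsUnique _ hφ ?_
    intro Q _ _ l hl
    refine existsUnique_lift g N hU hU' hle Q l fun r x => ?_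
    have e := hl r x
    refine Eq.trans (congrArg l ?_) e
    exact push_pushRestr_smul f F W U r x
  · have hVle : Vp g' f' U' (IV W (f ⁻¹ᵁ U)) ≤ IV W' (f' ⁻¹ᵁ U') :=
      le_of_eq (Vp_eq f g g' f' h hW hle)
    let ψ := resL f' ((Scheme.Modules.pullback g').obj F) U' hA'
      (inf_le_right : Vp g' f' U' (IV W (f ⁻¹ᵁ U)) ≤ f' ⁻¹ᵁ U') hVle
    have hψ : Function.Bijective ψ :=
      map_bijective_of_eq ((Scheme.Modules.pullback g').obj F) (Vp_eq f g g' f' h hW hle)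
        (homOfLE hVle)
    have hn : ∀ x, ψ (kap (uW f g' f' F hA hA'A hA') hφ' x) =
        kap (R := Γ(S, U)) (R' := Γ(S', U'))
          (uW f g' f' F hA
            (inf_le_left : Vp g' f' U' (IV W (f ⁻¹ᵁ U)) ≤ g' ⁻¹ᵁ (IV W (f ⁻¹ᵁ U))) inf_le_right)
          (uW_smul f g g' f' h F hle hA inf_le_left inf_le_right) x := by
      intro x
      have := kap_nat (R := Γ(S, U)) (R' := Γ(S', U'))
        (uW f g' f' F hA hA'A hA') hφ'
        (uW f g' f' F hA
          (inf_le_left : Vp g' f' U' (IV W (f ⁻¹ᵁ U)) ≤ g' ⁻¹ᵁ (IV W (f ⁻¹ᵁ U))) inf_le_right)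
        (uW_smul f g g' f' h F hle hA inf_le_left inf_le_right)
        LinearMap.id ψ (fun a => unitSec_res g' F _ _ le_rfl hVle a |>.trans (by
          congr 1
          exact res_self F a)) x
      rw [this, LinearMap.lTensor_id, LinearMap.id_apply]
    have hcomp : (ψ : _ → _) ∘ (kap (uW f g' f' F hA hA'A hA') hφ') =
        kap (R := Γ(S, U)) (R' := Γ(S', U'))
          (uW f g' f' F hA
            (inf_le_left : Vp g' f' U' (IV W (f ⁻¹ᵁ U)) ≤ g' ⁻¹ᵁ (IV W (f ⁻¹ᵁ U))) inf_le_right)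
          (uW_smul f g g' f' h F hle hA inf_le_left inf_le_right) := funext hn
    have hb : Function.Bijective ((ψ : _ → _) ∘ (kap (uW f g' f' F hA hA'A hA') hφ')) :=
      hcomp ▸ hK
    exact (Function.Bijective.of_comp_iff' hψ _).1 hb

include h hW in
/-- the comparison `g^* f_*(j_W)_*(F|_W) ⟶ f'_* (j_{W'})_*((g'^*F)|_{W'})` is an isomorphism when
`W ∩ f⁻¹U` is affine for all affine `U` -/
theorem isIso_phi [((pushforward f).obj ((pushRestr W).obj F)).IsQuasicoherent]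
    (hWaff : ∀ U : S.Opens, IsAffineOpen U → IsAffineOpen (IV W (f ⁻¹ᵁ U))) :
    IsIso (phi f g g' f' h.w F (le_of_eq hW)) := by
  let ι : Type u := {U' : S'.Opens // IsAffineOpen U' ∧ ∃ U : S.Opens, IsAffineOpen U ∧ U' ≤ g ⁻¹ᵁ U}
  refine isIso_of_bijective_on_basis _ (fun i : ι => i.1) ?_ ?_
  · rw [Opens.isBasis_iff_nbhd]
    intro T y hyT
    obtain ⟨V, hV, hyV, -⟩ := exists_isAffineOpen_mem_and_subset (x := g y) (U := ⊤) trivial
    obtain ⟨U', hU', hyU', hU'T⟩ := exists_isAffineOpen_mem_and_subset (x := y)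
      (U := T ⊓ g ⁻¹ᵁ V) ⟨hyT, hyV⟩
    exact ⟨U', ⟨⟨U', hU', V, hV, hU'T.trans inf_le_right⟩, rfl⟩, hyU', hU'T.trans inf_le_left⟩
  · rintro ⟨U', hU', U, hU, hle⟩
    exact phi_app_bijective f g g' f' h F hW hU hU' hle (hWaff U hU)

end Iso

end Groth.Agent.Lib.R2H2.RelCechBC
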