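import Mathlib
import Groth.Prelude.Def_Coh
import Groth.Agent.Lib.Helper23QCohSum
import Groth.Agent.Lib.Helper23QCohAbelian
import Groth.Agent.Lib.Helper23ModAbBridge
import Groth.Agent.Lib.Helper21RelExtSS
import Groth.Agent.Lib.Helper17RDer6
import Groth.Agent.S4456
import Groth.Agent.Lib.Helper23PushAcyclic
import Groth.Agent.Lib.Helper23AffOpen2

/-!
# Higher direct images of quasi-coherent modules: semi-separated source, affine base
(helper3, round 2)

* `isZero_Rpush_push_of_affine`: `R^{q+1} f_* (j_* F) = 0` for `j` and `j ≫ f` affine, `F` quasi-coherent.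
* `exists_mono_acyclic`: on a quasi-compact scheme in which affine opens have affine intersections,
  over an affine base, every quasi-coherent module embeds into a quasi-coherent `f_*`-acyclic module.
* `isQuasicoherent_Rpush_of_affine`: `R^p f_* M` is quasi-coherent (such `X`, affine base).
-/

set_option autoImplicit false
set_option linter.style.haveILetI false
set_option linter.unusedSectionVars false
set_option linter.unusedVariables false
universe u
open CategoryTheory CategoryTheory.Limits TopologicalSpace AlgebraicGeometry Opposite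

namespace Groth.Agent.Lib.R2H3.RpushQCohSS

open Groth.Agent.Lib.Helper23.QCohLocal Groth.Agent.Lib.Helper23.AffVanish

attribute [local instance] CategoryTheory.Abelian.hasFiniteBiproducts

/-- `R^{q+1} f_* (j_* F) = 0` for `j` and `j ≫ f` affine and `F` quasi-coherent. -/
theorem isZero_Rpush_push_of_affine {X S U : Scheme.{u}} (f : X ⟶ S) (j : U ⟶ X) [IsAffineHom j]
    [IsAffineHom (j ≫ f)] [HasInjectiveResolutions X.Modules] (F : U.Modules) [F.IsQuasicoherent]
    (q : ℕ) : IsZero ((Coh.Rpush f (q + 1)).obj ((Scheme.Modules.pushforward j).obj F)) := by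
  apply Groth.Agent.Lib.Helper21.RelExtSS.isZero_of_isZero_toAb
  obtain ⟨e1⟩ := Groth.Agent.Lib.Helper23.ModAbBridge.nonempty_toAb_Rpush_iso f
    ((Scheme.Modules.pushforward j).obj F) (q + 1)
  obtain ⟨e2⟩ := Groth.Agent.S4456.result j f F (q + 1)
  refine IsZero.of_iso ?_ (e1 ≪≫ e2)
  refine isZero_Rpush_of_basis (j ≫ f).base S.affineOpens
    S.isBasis_affineOpens (ab' F) ?_ q
  intro V hV i
  exact subsingleton_HE_of_isAffineOpen (IsAffineOpen.preimage hV (j ≫ f)) F i

section Embed

variable {X S : Scheme.{u}} (f : X ⟶ S) [IsAffine S] [CompactSpace X]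
  (hd : ∀ V W : X.Opens, IsAffineOpen V → IsAffineOpen W → IsAffineOpen (V ⊓ W))
  [HasInjectiveResolutions X.Modules]

include hd in
/-- every quasi-coherent module embeds into a quasi-coherent `f_*`-acyclic module. -/
theorem exists_mono_acyclic (M : X.Modules) [M.IsQuasicoherent] :
    ∃ (J : X.Modules) (i : M ⟶ J), Mono i ∧ J.IsQuasicoherent ∧
      ∀ q : ℕ, IsZero ((Coh.Rpush f (q + 1)).obj J) := by
  obtain ⟨n, U, hUa, hUc⟩ : ∃ (n : ℕ) (U : Fin n → X.Opens), (∀ k, IsAffineOpen (U k)) ∧
      ∀ x : X, ∃ k, x ∈ U k := by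
    have hloc : ∀ x : X, ∃ V : X.Opens, IsAffineOpen V ∧ x ∈ V := by
      intro x
      obtain ⟨V, hV, hxV, -⟩ := (Opens.isBasis_iff_nbhd.1 X.isBasis_affineOpens) (Opens.mem_top x)
      exact ⟨V, hV, hxV⟩
    choose V hVa hxV using hloc
    obtain ⟨s, hs⟩ := isCompact_univ.elim_finite_subcover (fun x : X => (V x : Set X))
      (fun x => (V x).2) (fun y _ => Set.mem_iUnion.2 ⟨y, hxV y⟩)
    refine ⟨s.card, fun k => V (s.equivFin.symm k).1, fun k => hVa _, fun x => ?_⟩
    obtain ⟨y, hy⟩ := Set.mem_iUnion.1 (hs (Set.mem_univ x))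
    obtain ⟨hys, hxy⟩ := Set.mem_iUnion.1 hy
    refine ⟨s.equivFin ⟨y, hys⟩, ?_⟩
    simpa using hxy
  have haff : ∀ k, IsAffineHom (U k).ι := by
    intro k
    rw [isAffineHom_iff]
    intro W hW
    rw [← Scheme.Hom.isAffineOpen_iff_of_isOpenImmersion (U k).ι,
      Scheme.Hom.image_preimage_eq_opensRange_inf, Scheme.Opens.opensRange_ι]
    exact hd _ _ (hUa k) hW
  let N : Fin n → X.Modules := fun k =>
    (Scheme.Modules.pushforward (U k).ι).obj (M.restrict (U k).ι)
  have hN : ∀ k, (N k).IsQuasicoherent := fun k => by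
    haveI := haff k
    exact isQuasicoherent_pushforward (U k).ι _
  refine ⟨⨁ N, biproduct.lift (fun k => (Scheme.Modules.restrictAdjunction (U k).ι).unit.app M), ?_,
    isQuasicoherent_biproduct N hN, ?_⟩
  · refine Preadditive.mono_of_cancel_zero _ (fun g hg => ?_)
    apply eq_zero_of_comp_units U hUc
    intro k
    have := congr($hg ≫ biproduct.π N k)
    simpa using this
  · intro q
    have hk : ∀ k, IsZero ((Coh.Rpush f (q + 1)).obj (N k)) := fun k => by
      haveI := haff k
      haveI : IsAffine ↑(U k) := hUa k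
      haveI : IsAffineHom ((U k).ι ≫ f) := isAffineHom_of_isAffine _
      exact isZero_Rpush_push_of_affine f (U k).ι (M.restrict (U k).ι) q
    rw [IsZero.iff_id_eq_zero]
    have h1 : 𝟙 ((Coh.Rpush f (q + 1)).obj (⨁ N)) = (Coh.Rpush f (q + 1)).map (𝟙 (⨁ N)) :=
      ((Coh.Rpush f (q + 1)).map_id _).symm
    rw [h1, ← biproduct.total, Functor.map_sum]
    refine Finset.sum_eq_zero (fun k _ => ?_)
    rw [Functor.map_comp]
    rw [(hk k).eq_of_tgt ((Coh.Rpush f (q + 1)).map (biproduct.π N k)) 0, zero_comp]

include hd in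
theorem quasiSeparatedSpace_of_hd : QuasiSeparatedSpace X := by
  rw [quasiSeparatedSpace_iff_forall_affineOpens]
  intro U V
  exact (hd U.1 V.1 U.2 V.2).isCompact

include hd in
/-- higher direct images of quasi-coherent modules are quasi-coherent: quasi-compact source in
which affine opens have affine intersections, affine base. -/
theorem isQuasicoherent_Rpush_of_affine : ∀ (p : ℕ) (M : X.Modules) [M.IsQuasicoherent],
    ((Coh.Rpush f p).obj M).IsQuasicoherent := by
  haveI : QuasiCompact f := (HasAffineProperty.iff_of_isAffine (P := @QuasiCompact)).2 ‹CompactSpace X›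
  haveI : QuasiSeparated f :=
    (HasAffineProperty.iff_of_isAffine (P := @QuasiSeparated)).2 (quasiSeparatedSpace_of_hd hd)
  have := Groth.Agent.S0484.result (Opens.grothendieckTopology X) X.ringCatSheaf
  have : EnoughInjectives X.Modules :=
    inferInstanceAs (EnoughInjectives (SheafOfModules.{u} X.ringCatSheaf))
  intro p
  induction p with
  | zero =>
    intro M _
    haveI : PreservesFiniteLimits (Scheme.Modules.pushforward f) := inferInstance
    have e : (Coh.Rpush f 0).obj M ≅ (Scheme.Modules.pushforward f).obj M :=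
      (Functor.rightDerivedZeroIsoSelf (Scheme.Modules.pushforward f)).app M
    exact (SheafOfModules.isQuasicoherent S.ringCatSheaf).prop_of_iso e.symm
      (isQuasicoherent_pushforward f M)
  | succ p ih =>
    intro M _
    obtain ⟨J, i, hi, hJ, hvan⟩ := exists_mono_acyclic f hd M
    let Sc : ShortComplex X.Modules := ShortComplex.mk i (cokernel.π i) (cokernel.condition i)
    have hS : Sc.ShortExact := Groth.Agent.Lib.Helper17.RDerLib.cokernel_ses i
    obtain ⟨T⟩ := Groth.Agent.Lib.Helper17.RDerLib.nonempty_sesRes Sc hS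
    haveI hQ : (cokernel i).IsQuasicoherent := isQuasicoherent_cokernel i
    have h3 := Groth.Agent.Lib.Helper17.RDerLib.exact₃ (Coh.push f) T p (p + 1) rfl
    have h1 := Groth.Agent.Lib.Helper17.RDerLib.exact₁ (Coh.push f) T p (p + 1) rfl
    haveI hepi : Epi (T.delta (Coh.push f) p (p + 1) rfl) :=
      h1.epi_f ((hvan p).eq_of_tgt _ _)
    have hc := h3.gIsCokernel
    let e : cokernel ((Coh.Rpush f p).map Sc.g) ≅ (Coh.Rpush f (p + 1)).obj M :=
      IsColimit.coconePointUniqueUpToIso (cokernelIsCokernel ((Coh.Rpush f p).map Sc.g)) hc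
    haveI h1q : ((Coh.Rpush f p).obj J).IsQuasicoherent := ih J
    haveI h2q : ((Coh.Rpush f p).obj (cokernel i)).IsQuasicoherent := ih (cokernel i)
    exact (SheafOfModules.isQuasicoherent S.ringCatSheaf).prop_of_iso e
      (isQuasicoherent_cokernel ((Coh.Rpush f p).map Sc.g))

end Embed

end Groth.Agent.Lib.R2H3.RpushQCohSS
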