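import Groth.Agent.Lib.R2H2RelCechDA
import Groth.Agent.Lib.R2H3RpushQCohSS
import Groth.Agent.S5744

/-!
# Relative Čech complex computes `Rf_*` — part B (helper2, round 2)

Namespace `Groth.Agent.Lib.R2H2.RelCechD`.
* `isZero_obj_piObj` : an additive functor killing the factors kills a finite product.
* `isAffineOpen_Ux`, `isZero_rightDerived_term`, `isQCoh_relCech_term`, `nonempty_relCech_iso_Rpush`.
-/

set_option backward.isDefEq.respectTransparency.types false
set_option autoImplicit false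
set_option linter.unusedSectionVars false
universe u

open CategoryTheory CategoryTheory.Limits AlgebraicGeometry Opposite

attribute [local instance] HasDerivedCategory.standard
attribute [local instance] Abelian.hasFiniteBiproducts

namespace Groth.Agent.Lib.R2H2.RelCechD

section Fin
universe v' u' v'' u'' w
variable {ℬ : Type u'} [Category.{v'} ℬ] [Abelian ℬ] {𝒟 : Type u''} [Category.{v''} 𝒟] [Abelian 𝒟]

/-- an additive functor that kills the factors kills a finite product -/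
theorem isZero_obj_piObj (H : ℬ ⥤ 𝒟) [H.Additive] {J : Type w} [Finite J] (Gj : J → ℬ) [HasProduct Gj]
    (h : ∀ j, IsZero (H.obj (Gj j))) : IsZero (H.obj (∏ᶜ Gj)) := by
  obtain ⟨n, ⟨e⟩⟩ := Finite.exists_equiv_fin J
  haveI : HasProduct (Gj ∘ e.symm) := inferInstance
  have e1 : ∏ᶜ (Gj ∘ e.symm) ≅ ∏ᶜ Gj := Pi.reindex e.symm Gj
  have e2 : ⨁ (Gj ∘ e.symm) ≅ ∏ᶜ (Gj ∘ e.symm) := biproduct.isoProduct _
  refine IsZero.of_iso ?_ (H.mapIso (e2 ≪≫ e1).symm)
  rw [IsZero.iff_id_eq_zero, ← H.map_id, ← biproduct.total, Functor.map_sum]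
  refine Finset.sum_eq_zero (fun k _ => ?_)
  rw [Functor.map_comp]
  have hz : H.map (biproduct.π (Gj ∘ e.symm) k) = 0 := (h _).eq_of_tgt _ _
  rw [hz, zero_comp]

end Fin

section Main

open Groth.Agent.Lib.R2H2.CechShRes CechOX Groth.Agent.Lib.Helper16.CechLow
  Groth.Agent.Lib.Helper21.DerAcycNat

variable {X S : Scheme.{u}} (f : X ⟶ S)
  [IsAffineHom (pullback.diagonal (terminal.from X))] [IsAffineHom (pullback.diagonal (terminal.from S))]
  {ι : Type u} [Finite ι] (𝒰 : ι → X.Opens) (h𝒰 : ∀ i, IsAffineOpen (𝒰 i)) (F : X.Modules)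
  [F.IsQuasicoherent]

include h𝒰 in
theorem isAffineOpen_Ux {n : ℕ} (x : Fin (n + 1) → ι) : IsAffineOpen (Ux 𝒰 x) := by
  have e : Ux 𝒰 x = ⨅ a, 𝒰 (x a) :=
    le_antisymm (le_iInf fun a => Ux_le 𝒰 x a) (le_Ux 𝒰 x _ (fun a => iInf_le _ a))
  rw [e]
  exact isAffineOpen_iInf_fin n _ (fun a => h𝒰 _)

theorem quasiSeparatedSpace_of_affineDiag : QuasiSeparatedSpace X := by
  rw [quasiSeparatedSpace_iff_quasiSeparated]
  exact ⟨inferInstance⟩

include h𝒰 in
theorem isZero_rightDerived_term (n q : ℕ) (hq : 0 < q) :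
    IsZero (((Scheme.Modules.pushforward f).rightDerived q).obj (((cechSh 𝒰).obj F).X n)) := by
  obtain ⟨q, rfl⟩ : ∃ q', q = q' + 1 := ⟨q - 1, by omega⟩
  change IsZero (((Scheme.Modules.pushforward f).rightDerived (q + 1)).obj
    (∏ᶜ fun x : Fin (n + 1) → ι => (PF F).obj (op (Ux 𝒰 x))))
  refine isZero_obj_piObj _ _ (fun x => ?_)
  have hW := isAffineOpen_Ux 𝒰 h𝒰 x
  haveI : IsAffine (Ux 𝒰 x).toScheme := hW
  haveI : IsAffineHom (Ux 𝒰 x).ι := isAffineHom_ι hW
  haveI : IsAffineHom ((Ux 𝒰 x).ι ≫ f) := isAffineHom_of_isAffine _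
  haveI : ((Scheme.Modules.restrictFunctor (Ux 𝒰 x).ι).obj F).IsQuasicoherent :=
    Scheme.Modules.isQuasicoherent_restrictFunctor (Ux 𝒰 x).ι F
  exact Groth.Agent.Lib.R2H3.RpushQCohSS.isZero_Rpush_push_of_affine f (Ux 𝒰 x).ι
    ((Scheme.Modules.restrictFunctor (Ux 𝒰 x).ι).obj F) q

include h𝒰 in
theorem isQCoh_cechSh_term (n : ℕ) : (((cechSh 𝒰).obj F).X n).IsQuasicoherent := by
  change (∏ᶜ fun x : Fin (n + 1) → ι => (PF F).obj (op (Ux 𝒰 x))).IsQuasicoherent
  refine Groth.Agent.S5744.isQCoh_piObj _ (fun x => ?_)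
  have hW := isAffineOpen_Ux 𝒰 h𝒰 x
  haveI : IsAffineHom (Ux 𝒰 x).ι := isAffineHom_ι hW
  exact Groth.Agent.S5744.isQCoh_pushRestr _ F

include h𝒰 in
theorem isQCoh_relCech_term [CompactSpace X] (n : ℕ) :
    (((relCech 𝒰 f).obj F).X n).IsQuasicoherent := by
  haveI : QuasiSeparatedSpace X := quasiSeparatedSpace_of_affineDiag
  haveI : QuasiSeparatedSpace S := quasiSeparatedSpace_of_affineDiag
  haveI : QuasiSeparated (f ≫ terminal.from S) := by
    rw [terminal.comp_from, ← quasiSeparatedSpace_iff_quasiSeparated]; infer_instance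
  haveI : QuasiSeparated f := QuasiSeparated.of_comp f (terminal.from S)
  haveI := isQCoh_cechSh_term 𝒰 h𝒰 F n
  exact Groth.Agent.Lib.Helper23.QCohLocal.isQuasicoherent_pushforward f (((cechSh 𝒰).obj F).X n)

include h𝒰 in
theorem nonempty_relCech_iso_Rpush (hcov : ⨆ i, 𝒰 i = ⊤) [DCoh.HasRpush f] :
    Nonempty (DCoh.toD S (relCechZ 𝒰 f F) ≅ (DCoh.Rpush f).obj (DCoh.inD X F)) :=
  nonempty_iso_RG (Scheme.Modules.pushforward f) (cechRes 𝒰 hcov F)
    (fun n q hq => isZero_rightDerived_term f 𝒰 h𝒰 F n q hq)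

end Main

end Groth.Agent.Lib.R2H2.RelCechD
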