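import Groth.Agent.Lib.R2H2RelCechBCB
import Groth.Agent.Lib.R2H2RelCechDB
import Groth.Agent.Lib.Helper20PullbackAff

/-!
# Base change of the relative Čech complex — part C (helper2, round 2)

* `mem_Ux_iff`, `Ux_pre` : `U'_{x} = g'⁻¹ U_x` for the pulled back family;
* `PhiN`, `PhiN_π`, `Phi` : the comparison morphism of complexes `g^* Č(𝒰, f, F) ⟶ Č(𝒰', f', g'^*F)`;
* `isIso_PhiN`, `isIso_Phi`.
-/

set_option backward.isDefEq.respectTransparency.types false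
set_option autoImplicit false
set_option linter.unusedSectionVars false
universe u

open CategoryTheory CategoryTheory.Limits AlgebraicGeometry Opposite TopologicalSpace

namespace Groth.Agent.Lib.R2H2.RelCechBC

open Scheme.Modules CechOX Groth.Agent.Lib.R2H2.CechShRes Groth.Agent.Lib.Helper16.CechLow

section Opens
variable {X X' : Scheme.{u}} (g' : X' ⟶ X) {ι : Type u} (𝒰 : ι → X.Opens)

lemma mem_Ux_iff {n : ℕ} (x : Fin (n + 1) → ι) (y : X) : y ∈ Ux 𝒰 x ↔ ∀ a, y ∈ 𝒰 (x a) := by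
  have e : Ux 𝒰 x = ⨅ a, 𝒰 (x a) :=
    le_antisymm (le_iInf fun a => Ux_le 𝒰 x a) (le_Ux 𝒰 x _ (fun a => iInf_le _ a))
  rw [e, ← SetLike.mem_coe, Opens.coe_iInf, Set.mem_iInter]
  rfl

/-- the pulled back family -/
abbrev pre : ι → X'.Opens := fun i => g' ⁻¹ᵁ 𝒰 i

lemma Ux_pre {n : ℕ} (x : Fin (n + 1) → ι) : Ux (pre g' 𝒰) x = g' ⁻¹ᵁ (Ux 𝒰 x) := by
  ext y
  rw [SetLike.mem_coe, SetLike.mem_coe, mem_Ux_iff]
  change _ ↔ g' y ∈ Ux 𝒰 x
  rw [mem_Ux_iff]
  rfl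

end Opens

section Cx
variable {X S X' S' : Scheme.{u}} (f : X ⟶ S) (g : S' ⟶ S) (g' : X' ⟶ X) (f' : X' ⟶ S')
  (w : g' ≫ f = f' ≫ g) (F : X.Modules) {ι : Type u} (𝒰 : ι → X.Opens)

/-- `g'^* F` -/
noncomputable abbrev Fp : X'.Modules := (Scheme.Modules.pullback g').obj F

/-- the factors of the degree `n` term -/
noncomputable abbrev fam (n : ℕ) : (Fin (n + 1) → ι) → X.Modules := fun x => (PF F).obj (op (Ux 𝒰 x))

/-- the comparison on the factor `x` -/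
noncomputable abbrev phix {n : ℕ} (x : Fin (n + 1) → ι) :
    (Scheme.Modules.pullback g).obj ((pushforward f).obj (fam F 𝒰 n x)) ⟶
      (pushforward f').obj (fam (Fp g' F) (pre g' 𝒰) n x) :=
  phi f g g' f' w F (le_of_eq (Ux_pre g' 𝒰 x))

/-- the inverse of the comparison `f'_*(∏ …) ⟶ ∏ f'_*(…)` -/
noncomputable def cmpInv (n : ℕ) :
    (∏ᶜ fun x : Fin (n + 1) → ι => (pushforward f').obj (fam (Fp g' F) (pre g' 𝒰) n x)) ⟶
      (pushforward f').obj (∏ᶜ fam (Fp g' F) (pre g' 𝒰) n) :=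
  inv (piComparison (pushforward f') (fam (Fp g' F) (pre g' 𝒰) n))

lemma cmpInv_π (n : ℕ) (x : Fin (n + 1) → ι) :
    cmpInv g' f' F 𝒰 n ≫ (pushforward f').map (Pi.π (fam (Fp g' F) (pre g' 𝒰) n) x) =
      Pi.π (fun x : Fin (n + 1) → ι => (pushforward f').obj (fam (Fp g' F) (pre g' 𝒰) n x)) x :=
  inv_piComparison_comp_map_π (pushforward f') (fam (Fp g' F) (pre g' 𝒰) n) x

/-- the comparison in degree `n` -/
noncomputable def PhiN (n : ℕ) :
    (Scheme.Modules.pullback g).obj ((pushforward f).obj ((CS 𝒰 F).X n)) ⟶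
      (pushforward f').obj ((CS (pre g' 𝒰) (Fp g' F)).X n) :=
  Pi.lift (fun x : Fin (n + 1) → ι =>
      (Scheme.Modules.pullback g).map ((pushforward f).map (prg 𝒰 (PF F) n x)) ≫
        phix f g g' f' w F 𝒰 x) ≫
    cmpInv g' f' F 𝒰 n

theorem PhiN_π (n : ℕ) (x : Fin (n + 1) → ι) :
    PhiN f g g' f' w F 𝒰 n ≫ (pushforward f').map (prg (pre g' 𝒰) (PF (Fp g' F)) n x) =
      (Scheme.Modules.pullback g).map ((pushforward f).map (prg 𝒰 (PF F) n x)) ≫
        phix f g g' f' w F 𝒰 x := by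
  unfold PhiN
  rw [Category.assoc]
  erw [cmpInv_π g' f' F 𝒰 n x]
  exact Pi.lift_π _ x

theorem push_hom_ext (n : ℕ) {T : S'.Modules}
    (a b : T ⟶ (pushforward f').obj ((CS (pre g' 𝒰) (Fp g' F)).X n))
    (hab : ∀ x : Fin (n + 1) → ι,
      a ≫ (pushforward f').map (prg (pre g' 𝒰) (PF (Fp g' F)) n x) =
        b ≫ (pushforward f').map (prg (pre g' 𝒰) (PF (Fp g' F)) n x)) : a = b := by
  refine (cancel_mono (piComparison (pushforward f') (fam (Fp g' F) (pre g' 𝒰) n))).1 ?_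
  refine Pi.hom_ext _ _ (fun x => ?_)
  rw [Category.assoc, Category.assoc, piComparison_comp_π]
  exact hab x

end Cx

section D
variable {X S X' S' : Scheme.{u}} (f : X ⟶ S) (g : S' ⟶ S) (g' : X' ⟶ X) (f' : X' ⟶ S')
  (w : g' ≫ f = f' ≫ g) (F : X.Modules) {ι : Type u} (𝒰 : ι → X.Opens)
  [(Scheme.Modules.pullback g).Additive]

lemma PF_map_face {n : ℕ} (x : Fin (n + 2) → ι) (i : Fin (n + 2)) :
    (PF F).map (face 𝒰 x i).op = pushRestrMapApp (leOfHom (face 𝒰 x i)) F := rfl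

theorem PhiN_d (n : ℕ) :
    PhiN f g g' f' w F 𝒰 n ≫ (pushforward f').map ((CS (pre g' 𝒰) (Fp g' F)).d n (n + 1)) =
      (Scheme.Modules.pullback g).map ((pushforward f).map ((CS 𝒰 F).d n (n + 1))) ≫
        PhiN f g g' f' w F 𝒰 (n + 1) := by
  apply push_hom_ext g' f' F 𝒰 (n + 1)
  intro x
  rw [Category.assoc, Category.assoc, PhiN_π, ← Functor.map_comp, d_prg, ← Category.assoc,
    ← Functor.map_comp, ← Functor.map_comp, d_prg]
  simp only [Functor.map_sum, Functor.map_zsmul, Preadditive.comp_sum, Preadditive.sum_comp,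
    Preadditive.comp_zsmul, Preadditive.zsmul_comp]
  refine Finset.sum_congr rfl fun i _ => ?_
  congr 1
  rw [Functor.map_comp, Functor.map_comp, Functor.map_comp, ← Category.assoc, PhiN_π,
    Category.assoc, Category.assoc]
  congr 1
  rw [PF_map_face, PF_map_face]
  exact (phi_natural f g g' f' w F _ _ _ _).symm

end D

section PhiCx
variable {X S X' S' : Scheme.{u}} (f : X ⟶ S) (g : S' ⟶ S) (g' : X' ⟶ X) (f' : X' ⟶ S')
  (w : g' ≫ f = f' ≫ g) (F : X.Modules) {ι : Type u} (𝒰 : ι → X.Opens)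
  [(Scheme.Modules.pullback g).Additive]

/-- the comparison morphism of complexes `g^* Č(𝒰, f, F) ⟶ Č(𝒰', f', g'^*F)` -/
noncomputable def Phi :
    ((Scheme.Modules.pullback g).mapHomologicalComplex (ComplexShape.up ℕ)).obj
        ((relCech 𝒰 f).obj F) ⟶
      (relCech (pre g' 𝒰) f').obj (Fp g' F) where
  f n := PhiN f g g' f' w F 𝒰 n
  comm' i j hij := by
    obtain rfl : i + 1 = j := hij
    exact PhiN_d f g g' f' w F 𝒰 i

lemma Phi_f (n : ℕ) : (Phi f g g' f' w F 𝒰).f n = PhiN f g g' f' w F 𝒰 n := rfl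

end PhiCx

section IsoN
variable {X S X' S' : Scheme.{u}} (f : X ⟶ S) (g : S' ⟶ S) (g' : X' ⟶ X) (f' : X' ⟶ S')
  (w : g' ≫ f = f' ≫ g) (F : X.Modules) {ι : Type u} [Finite ι] (𝒰 : ι → X.Opens)
  [(Scheme.Modules.pullback g).Additive]

theorem isIso_PhiN (n : ℕ) (hφ : ∀ x : Fin (n + 1) → ι, IsIso (phix f g g' f' w F 𝒰 x)) :
    IsIso (PhiN f g g' f' w F 𝒰 n) := by
  let L : X.Modules ⥤ S'.Modules := pushforward f ⋙ Scheme.Modules.pullback g
  haveI : Finite (Fin (n + 1) → ι) := inferInstance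
  haveI : PreservesLimit (Discrete.functor (fam F 𝒰 n)) L := inferInstance
  have e : (Pi.lift (fun x : Fin (n + 1) → ι => L.map (Pi.π (fam F 𝒰 n) x) ≫
        phix f g g' f' w F 𝒰 x) : L.obj (∏ᶜ fam F 𝒰 n) ⟶ _) =
      piComparison L (fam F 𝒰 n) ≫ Limits.Pi.map (fun x => phix f g g' f' w F 𝒰 x) := by
    refine Pi.hom_ext _ _ (fun x => ?_)
    rw [Pi.lift_π, Category.assoc, Limits.Pi.map_π, ← Category.assoc, piComparison_comp_π]
  haveI : IsIso (cmpInv g' f' F 𝒰 n) := by unfold cmpInv; infer_instance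
  haveI : IsIso (Limits.Pi.map (f := fun x => L.obj (fam F 𝒰 n x))
      (g := fun x => (pushforward f').obj (fam (Fp g' F) (pre g' 𝒰) n x))
      (fun x => phix f g g' f' w F 𝒰 x)) := inferInstance
  change IsIso ((Pi.lift (fun x : Fin (n + 1) → ι => L.map (Pi.π (fam F 𝒰 n) x) ≫
        phix f g g' f' w F 𝒰 x) : L.obj (∏ᶜ fam F 𝒰 n) ⟶ _) ≫ cmpInv g' f' F 𝒰 n)
  rw [e]
  infer_instance

end IsoN

end Groth.Agent.Lib.R2H2.RelCechBC
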