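import Groth.Agent.Lib.R2H2RelCechBCC

/-!
# Base change of the relative Čech complex — part D (helper2, round 2)

* `isZero_rightDerived_term_of_affineHom`, `nonempty_relCech_iso_Rpush_of_affineHom` : the relative Čech complex of a
  finite cover by opens `U` with `U ↪ X` and `U → S` affine (all finite intersections) computes `Rf_*`;
* `isIso_phix`, `isIso_Phi`, `nonempty_pullback_relCech_iso`, `nonempty_toD_pullback_relCech_iso` (S9519).
-/

set_option backward.isDefEq.respectTransparency.types false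
set_option autoImplicit false
set_option linter.unusedSectionVars false
universe u

open CategoryTheory CategoryTheory.Limits AlgebraicGeometry Opposite TopologicalSpace

attribute [local instance] HasDerivedCategory.standard

namespace Groth.Agent.Lib.R2H2.RelCechBC

open Scheme.Modules CechOX Groth.Agent.Lib.R2H2.CechShRes Groth.Agent.Lib.Helper16.CechLow
  Groth.Agent.Lib.R2H2.RelCechD Groth.Agent.Lib.Helper21.DerAcycNat

section RelAff
variable {X S : Scheme.{u}} (f : X ⟶ S) {ι : Type u} [Finite ι] (𝒰 : ι → X.Opens)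
  (hA : ∀ (n : ℕ) (x : Fin (n + 1) → ι), IsAffineHom (Ux 𝒰 x).ι ∧ IsAffineHom ((Ux 𝒰 x).ι ≫ f))
  (F : X.Modules) [F.IsQuasicoherent]

include hA in
theorem isZero_rightDerived_term_of_affineHom (n q : ℕ) (hq : 0 < q) :
    IsZero (((Scheme.Modules.pushforward f).rightDerived q).obj (((cechSh 𝒰).obj F).X n)) := by
  obtain ⟨q, rfl⟩ : ∃ q', q = q' + 1 := ⟨q - 1, by omega⟩
  change IsZero (((Scheme.Modules.pushforward f).rightDerived (q + 1)).obj
    (∏ᶜ fun x : Fin (n + 1) → ι => (PF F).obj (op (Ux 𝒰 x))))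
  refine isZero_obj_piObj _ _ (fun x => ?_)
  haveI : IsAffineHom (Ux 𝒰 x).ι := (hA n x).1
  haveI : IsAffineHom ((Ux 𝒰 x).ι ≫ f) := (hA n x).2
  haveI : ((Scheme.Modules.restrictFunctor (Ux 𝒰 x).ι).obj F).IsQuasicoherent :=
    Scheme.Modules.isQuasicoherent_restrictFunctor (Ux 𝒰 x).ι F
  exact Groth.Agent.Lib.R2H3.RpushQCohSS.isZero_Rpush_push_of_affine f (Ux 𝒰 x).ι
    ((Scheme.Modules.restrictFunctor (Ux 𝒰 x).ι).obj F) q

include hA in
theorem nonempty_relCech_iso_Rpush_of_affineHom (hcov : ⨆ i, 𝒰 i = ⊤) [DCoh.HasRpush f] :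
    Nonempty (DCoh.toD S (relCechZ 𝒰 f F) ≅ (DCoh.Rpush f).obj (DCoh.inD X F)) :=
  nonempty_iso_RG (Scheme.Modules.pushforward f) (cechRes 𝒰 hcov F)
    (fun n q hq => isZero_rightDerived_term_of_affineHom f 𝒰 hA F n q hq)

end RelAff

section Main
variable {X S X' S' : Scheme.{u}} (f : X ⟶ S) (g : S' ⟶ S) (g' : X' ⟶ X) (f' : X' ⟶ S')
  (h : IsPullback g' f' f g)
  [IsAffineHom (pullback.diagonal (terminal.from X))] [IsAffineHom (pullback.diagonal (terminal.from S))]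
  (F : X.Modules) [F.IsQuasicoherent] {ι : Type u} [Finite ι] (𝒰 : ι → X.Opens)
  (h𝒰 : ∀ i, IsAffineOpen (𝒰 i))

include h𝒰 in
lemma affineHom_Ux {n : ℕ} (x : Fin (n + 1) → ι) :
    IsAffineHom (Ux 𝒰 x).ι ∧ IsAffineHom ((Ux 𝒰 x).ι ≫ f) := by
  have hW := isAffineOpen_Ux 𝒰 h𝒰 x
  haveI : IsAffine (Ux 𝒰 x).toScheme := hW
  exact ⟨isAffineHom_ι hW, isAffineHom_of_isAffine _⟩

include h h𝒰 in
lemma affineHom_Ux_pre {n : ℕ} (x : Fin (n + 1) → ι) :
    IsAffineHom (Ux (pre g' 𝒰) x).ι ∧ IsAffineHom ((Ux (pre g' 𝒰) x).ι ≫ f') := by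
  obtain ⟨h1, h2⟩ := affineHom_Ux f 𝒰 h𝒰 x
  rw [Ux_pre]
  have s := isPullback_morphismRestrict g' (Ux 𝒰 x)
  exact ⟨MorphismProperty.of_isPullback s h1, MorphismProperty.of_isPullback (s.paste_vert h) h2⟩

include h h𝒰 in
theorem isIso_phix {n : ℕ} (x : Fin (n + 1) → ι) : IsIso (phix f g g' f' h.w F 𝒰 x) := by
  obtain ⟨h1, h2⟩ := affineHom_Ux f 𝒰 h𝒰 x
  haveI : ((Scheme.Modules.restrictFunctor (Ux 𝒰 x).ι).obj F).IsQuasicoherent :=
    Scheme.Modules.isQuasicoherent_restrictFunctor (Ux 𝒰 x).ι F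
  haveI : ((pushforward f).obj ((pushRestr (Ux 𝒰 x)).obj F)).IsQuasicoherent := by
    have h3 : ((pushforward ((Ux 𝒰 x).ι ≫ f)).obj
        ((Scheme.Modules.restrictFunctor (Ux 𝒰 x).ι).obj F)).IsQuasicoherent :=
      Groth.Agent.Lib.Helper23.QCohLocal.isQuasicoherent_pushforward ((Ux 𝒰 x).ι ≫ f) _
    exact (SheafOfModules.isQuasicoherent S.ringCatSheaf).prop_of_iso
      ((pushforwardComp (Ux 𝒰 x).ι f).app _).symm h3
  refine isIso_phi f g g' f' h F (Ux_pre g' 𝒰 x) (fun U hU => ?_)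
  have h4 : IsAffineOpen (((Ux 𝒰 x).ι ≫ f) ⁻¹ᵁ U) := hU.preimage ((Ux 𝒰 x).ι ≫ f)
  exact h4.image_of_isOpenImmersion (Ux 𝒰 x).ι

variable [(Scheme.Modules.pullback g).Additive]

include h h𝒰 in
theorem isIso_Phi : IsIso (Phi f g g' f' h.w F 𝒰) := by
  haveI : ∀ n, IsIso ((Phi f g g' f' h.w F 𝒰).f n) := fun n =>
    isIso_PhiN f g g' f' h.w F 𝒰 n (fun x => isIso_phix f g g' f' h F 𝒰 h𝒰 x)
  exact HomologicalComplex.Hom.isIso_of_components _

include h h𝒰 in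
theorem nonempty_pullback_relCech_iso :
    Nonempty (((Scheme.Modules.pullback g).mapHomologicalComplex (ComplexShape.up ℕ)).obj
        ((relCech 𝒰 f).obj F) ≅ (relCech (pre g' 𝒰) f').obj (Fp g' F)) := by
  haveI := isIso_Phi f g g' f' h F 𝒰 h𝒰
  exact ⟨asIso (Phi f g g' f' h.w F 𝒰)⟩

include h h𝒰 in
theorem nonempty_toD_pullback_relCech_iso (hcov : ⨆ i, 𝒰 i = ⊤) [DCoh.HasRpush f'] :
    Nonempty (DCoh.toD S' ((((Scheme.Modules.pullback g).mapHomologicalComplex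
          (ComplexShape.up ℕ)).obj ((relCech 𝒰 f).obj F)).extend ComplexShape.embeddingUpNat) ≅
      (DCoh.Rpush f').obj (DCoh.inD X' (Fp g' F))) := by
  obtain ⟨e⟩ := nonempty_pullback_relCech_iso f g g' f' h F 𝒰 h𝒰
  obtain ⟨e'⟩ := nonempty_relCech_iso_Rpush_of_affineHom f' (pre g' 𝒰)
    (fun n x => affineHom_Ux_pre f g g' f' h 𝒰 h𝒰 x) (Fp g' F) (g'.iSup_preimage_eq_top hcov)
  exact ⟨DerivedCategory.Q.mapIso
    ((ComplexShape.embeddingUpNat.extendFunctor S'.Modules).mapIso e) ≪≫ e'⟩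

end Main

end Groth.Agent.Lib.R2H2.RelCechBC
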