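import Groth.Agent.Lib.Helper21DerAcycNat
import Groth.Agent.Lib.H6xRDBridge
import Groth.Agent.Lib.R2H2CechShRes

/-!
# Relative Čech complex computes `Rf_*` — part A (helper2, round 2)

Namespace `Groth.Agent.Lib.R2H2.RelCechD`.
* `isAffineHom_of_isAffine`, `isAffineHom_ι`, `isAffineOpen_inf`, `isAffineOpen_iInf_fin` : schemes with affine diagonal.
* `Res.ι`, `quasiIso_desc`, `quasiIso_map_desc` (Leray), `nonempty_iso_RG` : a resolution by `G`-acyclic modules
  computes `RG` of a module in the unbounded derived category.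
* `cechRes` : the Čech complex of sheaves as a resolution (`Helper21.DerAcycNat.Res`).
-/

set_option backward.isDefEq.respectTransparency.types false
set_option autoImplicit false
set_option linter.unusedSectionVars false
universe u

open CategoryTheory CategoryTheory.Limits AlgebraicGeometry

attribute [local instance] HasDerivedCategory.standard

namespace Groth.Agent.Lib.R2H2.RelCechD

section Aff

instance : MorphismProperty.HasOfPostcompProperty @IsAffineHom (MorphismProperty.diagonal @IsAffineHom) :=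
  MorphismProperty.hasOfPostcompProperty_iff_le_diagonal.mpr le_rfl

/-- a morphism from an affine scheme to a scheme with affine diagonal is affine -/
theorem isAffineHom_of_isAffine {W Y : Scheme.{u}} [IsAffine W]
    [IsAffineHom (pullback.diagonal (terminal.from Y))] (g : W ⟶ Y) : IsAffineHom g := by
  haveI : IsAffineHom (g ≫ terminal.from Y) := by rw [terminal.comp_from]; infer_instance
  exact MorphismProperty.of_postcomp (W := @IsAffineHom) (W' := (MorphismProperty.diagonal @IsAffineHom))
    g (terminal.from Y) ‹_› ‹_›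

variable {X : Scheme.{u}} [IsAffineHom (pullback.diagonal (terminal.from X))]

theorem isAffineHom_ι {W : X.Opens} (hW : IsAffineOpen W) : IsAffineHom W.ι := by
  haveI : IsAffine W := hW
  exact isAffineHom_of_isAffine W.ι

theorem isAffineOpen_inf {U V : X.Opens} (hU : IsAffineOpen U) (hV : IsAffineOpen V) :
    IsAffineOpen (U ⊓ V) := by
  haveI := isAffineHom_ι hU
  have h1 : IsAffineOpen (U.ι ⁻¹ᵁ V) := hV.preimage U.ι
  have h2 := h1.image_of_isOpenImmersion U.ι
  rwa [Scheme.Hom.image_preimage_eq_opensRange_inf, Scheme.Opens.opensRange_ι] at h2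

theorem isAffineOpen_iInf_fin : ∀ (n : ℕ) (V : Fin (n + 1) → X.Opens),
    (∀ a, IsAffineOpen (V a)) → IsAffineOpen (⨅ a, V a)
  | 0, V, hV => by
    have : (⨅ a, V a) = V 0 := by
      apply le_antisymm (iInf_le _ 0)
      refine le_iInf fun a => ?_
      have ha : a = 0 := Fin.ext (by have := a.2; simp only [Fin.val_zero]; omega)
      rw [ha]
    rw [this]; exact hV 0
  | n + 1, V, hV => by
    have e : (⨅ a, V a) = V 0 ⊓ ⨅ a : Fin (n + 1), V a.succ := by
      apply le_antisymm
      · exact le_inf (iInf_le _ 0) (le_iInf fun a => iInf_le _ a.succ)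
      · refine le_iInf fun a => ?_
        refine Fin.cases ?_ (fun b => ?_) a
        · exact inf_le_left
        · exact inf_le_right.trans (iInf_le _ b)
    rw [e]
    exact isAffineOpen_inf (hV 0) (isAffineOpen_iInf_fin n _ fun a => hV _)

end Aff

open Groth.Agent.Lib.Helper21.DerAcycNat Groth.Agent.S12229
  Groth.Agent.Lib.Helper23Acyclic Groth.Agent.Lib.Helper23Leray Groth.Agent.Lib.Helper23Bridge

section Gen
universe v' u' v'' u''
variable {ℬ : Type u'} [Category.{v'} ℬ] [Abelian ℬ]

/-- the augmentation of a resolution as a morphism of complexes -/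
noncomputable def Res.ι {Z : ℬ} (R : Res Z) : (CochainComplex.single₀ ℬ).obj Z ⟶ R.K :=
  (CochainComplex.fromSingle₀Equiv _ _).symm ⟨R.ι₀, R.w⟩

lemma Res.ι_f_zero {Z : ℬ} (R : Res Z) : (Res.ι R).f 0 = R.ι₀ :=
  CochainComplex.fromSingle₀Equiv_symm_apply_f_zero _ _

instance {Z : ℬ} (R : Res Z) : QuasiIso (Res.ι R) := ⟨fun n => by
  cases n with
  | zero =>
    rw [CochainComplex.quasiIsoAt₀_iff, ShortComplex.quasiIso_iff_of_zeros]
    · refine (ShortComplex.exact_and_mono_f_iff_of_iso ?_).2 ⟨R.exact₀, R.mono⟩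
      exact ShortComplex.isoMk (Iso.refl _) (Iso.refl _) (Iso.refl _)
        (by
          dsimp only [Iso.refl_hom]
          erw [Category.id_comp, Category.comp_id]
          exact (Res.ι_f_zero R).symm)
        (by
          dsimp only [Iso.refl_hom]
          erw [Category.id_comp, Category.comp_id]
          rfl)
    all_goals first | rfl | exact R.K.shape _ _ (by simp)
  | succ n =>
    rw [quasiIsoAt_iff_exactAt]
    · rw [HomologicalComplex.exactAt_iff' _ n (n + 1) (n + 1 + 1) (by simp) (by simp)]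
      exact R.exact_succ n
    · apply CochainComplex.exactAt_succ_single_obj⟩

lemma ι_desc {Z : ℬ} (R : Res Z) (J : InjectiveResolution Z) :
    Res.ι R ≫ Res.desc (𝟙 Z) J R = J.ι := by
  apply HomologicalComplex.from_single_hom_ext
  rw [HomologicalComplex.comp_f, Res.ι_f_zero]
  exact (Res.desc_commutes_zero (𝟙 Z) J R).trans (Category.id_comp _)

theorem quasiIso_desc {Z : ℬ} (R : Res Z) (J : InjectiveResolution Z) :
    QuasiIso (Res.desc (𝟙 Z) J R) := by
  have : QuasiIso (Res.ι R ≫ Res.desc (𝟙 Z) J R) := by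
    rw [ι_desc]
    infer_instance
  exact quasiIso_of_comp_left (Res.ι R) (Res.desc (𝟙 Z) J R)

variable {𝒟 : Type u''} [Category.{v''} 𝒟] [Abelian 𝒟] (G : ℬ ⥤ 𝒟) [G.Additive]
  [EnoughInjectives ℬ] [PreservesFiniteLimits G]

/-- Leray: `G` of the comparison map from a resolution by `G`-acyclic objects to an injective resolution is a
quasi-isomorphism -/
theorem quasiIso_map_desc {Z : ℬ} (R : Res Z)
    (hR : ∀ (n q : ℕ), 0 < q → IsZero ((G.rightDerived q).obj (R.K.X n)))
    (J : InjectiveResolution Z) :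
    QuasiIso ((G.mapHomologicalComplex (ComplexShape.up ℤ)).map
      (HomologicalComplex.extendMap (Res.desc (𝟙 Z) J R) ComplexShape.embeddingUpNat)) := by
  have : HasDerivedCategory.{max u' v'} ℬ := HasDerivedCategory.standard _
  have : HasDerivedCategory.{max u'' v''} 𝒟 := HasDerivedCategory.standard _
  let RK : CochainComplex ℬ ℤ := R.K.extend ComplexShape.embeddingUpNat
  have hRK : RK.IsStrictlyGE 0 := by dsimp [RK]; infer_instance
  let K : CochainComplex.Plus ℬ := ⟨RK, 0, hRK⟩
  have hK : IsIso (τ G K) := by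
    refine leray G K (fun m => ?_)
    by_cases hm : m < 0
    · exact isIso_τ_sgl_of_isZero G (CochainComplex.isZero_of_isStrictlyGE RK 0 m hm)
    · obtain ⟨n, rfl⟩ : ∃ n : ℕ, (n : ℤ) = m := ⟨m.toNat, Int.toNat_of_nonneg (not_lt.1 hm)⟩
      rw [acyclic_iff]
      intro i hi
      have e : RK.X (n : ℤ) ≅ R.K.X n :=
        HomologicalComplex.extendXIso R.K ComplexShape.embeddingUpNat (i := n) rfl
      exact IsZero.of_iso (hR n i hi) ((G.rightDerived i).mapIso e)
  have hψ : QuasiIso (HomologicalComplex.extendMap (Res.desc (𝟙 Z) J R)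
      ComplexShape.embeddingUpNat) :=
    (HomologicalComplex.quasiIso_extendMap_iff _ _).2 (quasiIso_desc R J)
  have hJ : J.cochainComplex.IsStrictlyGE 0 := inferInstance
  have hinj : ∀ k, Injective (J.cochainComplex.X k) := fun k => inferInstance
  let a' : K ⟶ ⟨J.cochainComplex, 0, hJ⟩ := ObjectProperty.homMk
    (HomologicalComplex.extendMap (Res.desc (𝟙 Z) J R) ComplexShape.embeddingUpNat)
  exact (isIso_τ_iff_quasiIso G J.cochainComplex 0 hJ hinj a' hψ).1 hK

end Gen

section Sch

variable {X : Scheme.{u}} {A' : Type*} [Category A'] [Abelian A'] [HasDerivedCategory A']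
  (G : X.Modules ⥤ A') [G.Additive] [PreservesFiniteLimits G]
  [(G.mapHomotopyCategory (ComplexShape.up ℤ) ⋙ DerivedCategory.Qh).HasRightDerivedFunctor
    (HomotopyCategory.quasiIso X.Modules (ComplexShape.up ℤ))]

open Groth.Agent.Lib.H6xRDBridge Groth.Agent.Lib.H6xRpushTri Groth.Agent.Lib.H6xMV

/-- a resolution of `M` by `G`-acyclic modules computes `RG(M[0])` -/
theorem nonempty_iso_RG {M : X.Modules} (R : Res M)
    (hR : ∀ (n q : ℕ), 0 < q → IsZero ((G.rightDerived q).obj (R.K.X n))) :
    Nonempty (DerivedCategory.Q.obj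
        (((G.mapHomologicalComplex (ComplexShape.up ℕ)).obj R.K).extend ComplexShape.embeddingUpNat) ≅
      (RG G).obj ((DerivedCategory.singleFunctor X.Modules 0).obj M)) := by
  let I : InjectiveResolution M := injectiveResolution M
  have hq := quasiIso_map_desc G R hR I
  haveI : IsIso (DerivedCategory.Q.map ((G.mapHomologicalComplex (ComplexShape.up ℤ)).map
      (HomologicalComplex.extendMap (Res.desc (𝟙 M) I R) ComplexShape.embeddingUpNat))) := by
    rw [DerivedCategory.isIso_Q_map_iff_quasiIso]; exact hq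
  exact ⟨DerivedCategory.Q.mapIso (extendMapIso G R.K ComplexShape.embeddingUpNat).symm ≪≫
    asIso (DerivedCategory.Q.map ((G.mapHomologicalComplex (ComplexShape.up ℤ)).map
      (HomologicalComplex.extendMap (Res.desc (𝟙 M) I R) ComplexShape.embeddingUpNat))) ≪≫
    (rgSingleIso G I).symm⟩

end Sch

section CechRes

open Groth.Agent.Lib.R2H2.CechShRes CechOX

variable {X : Scheme.{u}} {ι : Type u} (𝒰 : ι → X.Opens) (h𝒰 : ⨆ i, 𝒰 i = ⊤) (F : X.Modules)

/-- the Čech complex of sheaves as a resolution of `F` -/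
noncomputable def cechRes : Res F where
  K := (cechSh 𝒰).obj F
  ι₀ := cechShAug 𝒰 F
  mono := by
    have hB := isBasis_Sm 𝒰 h𝒰
    let S : ShortComplex X.Modules :=
      ShortComplex.mk (0 : F ⟶ F) (CechOX.cechShAug 𝒰 F) Limits.zero_comp
    have hS : S.Exact :=
      Groth.Agent.Lib.R2H2.KoszExact.exact_of_basis
        (fun V : Sm 𝒰 => V.1) hB S (fun V x hx => by
          obtain ⟨j, hj⟩ := V.2
          refine ⟨0, ?_⟩
          rw [aug_injective 𝒰 F V.1 j hj x hx]
          exact map_zero _)
    exact (S.exact_iff_mono rfl).1 hS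
  w := aug_d 𝒰 F
  exact₀ :=
    Groth.Agent.Lib.R2H2.KoszExact.exact_of_basis
      (fun V : Sm 𝒰 => V.1) (isBasis_Sm 𝒰 h𝒰) _ (fun V x hx => by
        obtain ⟨j, hj⟩ := V.2
        exact exists_aug_eq 𝒰 F V.1 j hj x hx)
  exact_succ p :=
    Groth.Agent.Lib.R2H2.KoszExact.exact_of_basis
      (fun V : Sm 𝒰 => V.1) (isBasis_Sm 𝒰 h𝒰) _ (fun V x hx => by
        obtain ⟨j, hj⟩ := V.2
        exact exists_d_eq 𝒰 F V.1 j hj x hx)

lemma cechRes_K : (cechRes 𝒰 h𝒰 F).K = (cechSh 𝒰).obj F := rfl

end CechRes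

end Groth.Agent.Lib.R2H2.RelCechD
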