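import Mathlib

set_option backward.isDefEq.respectTransparency.types false
set_option autoImplicit false

/-!
# Elementwise criterion for quasi-isomorphisms of complexes of abelian groups
-/

open CategoryTheory CategoryTheory.Limits

universe u

namespace Groth.Agent.Lib.R2H2.SAbQIsoA

/-- elementwise criterion for a morphism of short complexes of abelian groups to be a
quasi-isomorphism -/
theorem shortComplex_quasiIso_of_elementwise {S T : ShortComplex AddCommGrpCat.{u}} (φ : S ⟶ T)
    (hinj : ∀ x : S.X₂, S.g x = 0 → (∃ w : T.X₁, T.f w = φ.τ₂ x) → ∃ v : S.X₁, S.f v = x)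
    (hsurj : ∀ y : T.X₂, T.g y = 0 →
      ∃ x : S.X₂, S.g x = 0 ∧ ∃ w : T.X₁, T.f w = y - φ.τ₂ x) :
    ShortComplex.QuasiIso φ := by
  rw [ShortComplex.quasiIso_iff]
  -- exactness facts
  have hcS : ∀ x : S.X₂, S.g x = 0 → ∃ c : S.cycles, S.iCycles c = x := by
    intro x hx
    have hex : (ShortComplex.mk S.iCycles S.g S.iCycles_g).Exact :=
      ShortComplex.exact_of_f_is_kernel _ S.cyclesIsKernel
    rw [ShortComplex.ab_exact_iff] at hex
    exact hex x hx
  have hbS : ∀ c : S.cycles, S.homologyπ c = 0 → ∃ v : S.X₁, S.toCycles v = c := by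
    intro c hc
    have hex : (ShortComplex.mk S.toCycles S.homologyπ S.toCycles_comp_homologyπ).Exact :=
      ShortComplex.exact_of_g_is_cokernel _ S.homologyIsCokernel
    rw [ShortComplex.ab_exact_iff] at hex
    exact hex c hc
  have hbT : ∀ c : T.cycles, T.homologyπ c = 0 → ∃ v : T.X₁, T.toCycles v = c := by
    intro c hc
    have hex : (ShortComplex.mk T.toCycles T.homologyπ T.toCycles_comp_homologyπ).Exact :=
      ShortComplex.exact_of_g_is_cokernel _ T.homologyIsCokernel
    rw [ShortComplex.ab_exact_iff] at hex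
    exact hex c hc
  have hπS : Function.Surjective S.homologyπ :=
    (AddCommGrpCat.epi_iff_surjective _).1 inferInstance
  have hπT : Function.Surjective T.homologyπ :=
    (AddCommGrpCat.epi_iff_surjective _).1 inferInstance
  have hiS : Function.Injective S.iCycles :=
    (AddCommGrpCat.mono_iff_injective _).1 inferInstance
  have hiT : Function.Injective T.iCycles :=
    (AddCommGrpCat.mono_iff_injective _).1 inferInstance
  have e1 : ∀ c : S.cycles, ShortComplex.homologyMap φ (S.homologyπ c)
      = T.homologyπ (ShortComplex.cyclesMap φ c) := fun c =>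
    ConcreteCategory.congr_hom (ShortComplex.homologyπ_naturality φ) c
  have e2 : ∀ c : S.cycles, T.iCycles (ShortComplex.cyclesMap φ c) = φ.τ₂ (S.iCycles c) :=
    fun c => ConcreteCategory.congr_hom (ShortComplex.cyclesMap_i φ) c
  have e3S : ∀ v : S.X₁, S.iCycles (S.toCycles v) = S.f v := fun v =>
    ConcreteCategory.congr_hom S.toCycles_i v
  have e3T : ∀ v : T.X₁, T.iCycles (T.toCycles v) = T.f v := fun v =>
    ConcreteCategory.congr_hom T.toCycles_i v
  have e4S : ∀ v : S.X₁, S.homologyπ (S.toCycles v) = 0 := fun v =>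
    ConcreteCategory.congr_hom S.toCycles_comp_homologyπ v
  have e4T : ∀ v : T.X₁, T.homologyπ (T.toCycles v) = 0 := fun v =>
    ConcreteCategory.congr_hom T.toCycles_comp_homologyπ v
  have e5S : ∀ c : S.cycles, S.g (S.iCycles c) = 0 := fun c =>
    ConcreteCategory.congr_hom S.iCycles_g c
  have e5T : ∀ c : T.cycles, T.g (T.iCycles c) = 0 := fun c =>
    ConcreteCategory.congr_hom T.iCycles_g c
  have hmono : Mono (ShortComplex.homologyMap φ) := by
    rw [AddCommGrpCat.mono_iff_injective]
    refine (injective_iff_map_eq_zero (ShortComplex.homologyMap φ).hom).2 ?_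
    intro h hh
    obtain ⟨c, rfl⟩ := hπS h
    have h1 : T.homologyπ (ShortComplex.cyclesMap φ c) = 0 := (e1 c).symm.trans hh
    obtain ⟨w, hw⟩ := hbT _ h1
    have h2 : T.f w = φ.τ₂ (S.iCycles c) := by
      rw [← e3T, hw, e2]
    obtain ⟨v, hv⟩ := hinj (S.iCycles c) (e5S c) ⟨w, h2⟩
    have h3 : S.toCycles v = c := hiS ((e3S v).trans hv)
    rw [← h3]
    exact e4S v
  have hepi : Epi (ShortComplex.homologyMap φ) := by
    rw [AddCommGrpCat.epi_iff_surjective]
    intro h
    obtain ⟨c, rfl⟩ := hπT h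
    obtain ⟨x, hx, w, hw⟩ := hsurj (T.iCycles c) (e5T c)
    obtain ⟨c', hc'⟩ := hcS x hx
    refine ⟨S.homologyπ c', ?_⟩
    rw [e1]
    have h4 : c = ShortComplex.cyclesMap φ c' + T.toCycles w := by
      apply hiT
      rw [map_add, e2, e3T, hc', hw]
      abel
    rw [h4, map_add, e4T, add_zero]
  exact isIso_of_mono_of_epi _

/-- elementwise criterion for a morphism of complexes of abelian groups to be a
quasi-isomorphism in a given degree -/
theorem quasiIsoAt_of_elementwise {ι : Type*} {c : ComplexShape ι}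
    {K L : HomologicalComplex AddCommGrpCat.{u} c} (φ : K ⟶ L) (i j k : ι)
    (hi : c.prev j = i) (hk : c.next j = k)
    (hinj : ∀ x : K.X j, K.d j k x = 0 → (∃ w : L.X i, L.d i j w = φ.f j x) →
      ∃ v : K.X i, K.d i j v = x)
    (hsurj : ∀ y : L.X j, L.d j k y = 0 →
      ∃ x : K.X j, K.d j k x = 0 ∧ ∃ w : L.X i, L.d i j w = y - φ.f j x) :
    QuasiIsoAt φ j := by
  rw [quasiIsoAt_iff' φ i j k hi hk]
  exact shortComplex_quasiIso_of_elementwise _ hinj hsurj

end Groth.Agent.Lib.R2H2.SAbQIsoA
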