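import Mathlib
import Groth.Agent.Lib.R2H2SAbQIsoA

set_option backward.isDefEq.respectTransparency.types false
set_option autoImplicit false

/-!
# Homotopy equivalences of underlying simplicial sets of simplicial abelian groups
-/

open CategoryTheory Simplicial Opposite AlgebraicTopology AlgebraicTopology.DoldKan

universe u

namespace Groth.Agent.Lib.R2H2.SAbQIsoB

variable (X : SimplicialObject AddCommGrpCat.{u})

/-- underlying simplicial set -/
abbrev S : SSet.{u} := X ⋙ forget AddCommGrpCat.{u}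

/-- free simplicial abelian group on the underlying simplicial set -/
abbrev Z : SimplicialObject AddCommGrpCat.{u} :=
  ((SimplicialObject.whiskering _ _).obj AddCommGrpCat.free).obj (S X)

/-- the alternating face map complex -/
noncomputable abbrev KX : ChainComplex AddCommGrpCat.{u} ℕ :=
  (alternatingFaceMapComplex AddCommGrpCat.{u}).obj X

/-- the differentials, typed on the simplicial object -/
noncomputable def dd (n k : ℕ) : X _⦋n⦌ ⟶ X _⦋k⦌ := (KX X).d n k

/-- the projector `P^∞`, typed on the simplicial object -/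
noncomputable def Pf (n : ℕ) : X _⦋n⦌ ⟶ X _⦋n⦌ := (PInfty : KX X ⟶ KX X).f n

/-- the counit -/
noncomputable def eps : Z X ⟶ X where
  app Δ := AddCommGrpCat.ofHom (FreeAbelianGroup.lift (fun x : X.obj Δ => x))
  naturality Δ Δ' φ := by
    apply AddCommGrpCat.hom_ext
    apply FreeAbelianGroup.lift_ext
    intro x
    change FreeAbelianGroup.lift (fun x : X.obj Δ' => x)
      (FreeAbelianGroup.map (X.map φ) (FreeAbelianGroup.of x)) =
      X.map φ (FreeAbelianGroup.lift (fun x : X.obj Δ => x) (FreeAbelianGroup.of x))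
    rw [FreeAbelianGroup.map_of_apply, FreeAbelianGroup.lift_apply_of, FreeAbelianGroup.lift_apply_of]

variable {X}

/-- the class of a simplex in the free simplicial abelian group -/
def cls {Δ : SimplexCategoryᵒᵖ} (x : X.obj Δ) : (Z X).obj Δ :=
  (FreeAbelianGroup.of x : FreeAbelianGroup (X.obj Δ))

/-- the reduced class of a simplex -/
def rcls {Δ : SimplexCategoryᵒᵖ} (x : X.obj Δ) : (Z X).obj Δ := cls x - cls (0 : X.obj Δ)

theorem eps_cls {Δ : SimplexCategoryᵒᵖ} (x : X.obj Δ) : (eps X).app Δ (cls x) = x :=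
  FreeAbelianGroup.lift_apply_of _ _

theorem eps_rcls {Δ : SimplexCategoryᵒᵖ} (x : X.obj Δ) : (eps X).app Δ (rcls x) = x := by
  unfold rcls
  rw [map_sub, eps_cls, eps_cls, sub_zero]

variable {Y : SimplicialObject AddCommGrpCat.{u}}

/-- the map induced on free simplicial abelian groups -/
noncomputable abbrev Zmap (φ : S X ⟶ S Y) : Z X ⟶ Z Y :=
  ((SimplicialObject.whiskering _ _).obj AddCommGrpCat.free).map φ

/-- application of a map of underlying simplicial sets, typed in the simplicial abelian group -/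
def ap (φ : S X ⟶ S Y) {Δ : SimplexCategoryᵒᵖ} (x : X.obj Δ) : Y.obj Δ := φ.app Δ x

theorem Zmap_cls (φ : S X ⟶ S Y) {Δ : SimplexCategoryᵒᵖ} (x : X.obj Δ) :
    (Zmap φ).app Δ (cls x) = cls (ap φ x) :=
  FreeAbelianGroup.map_of_apply x

theorem eps_Zmap_rcls (φ : S X ⟶ S Y) {Δ : SimplexCategoryᵒᵖ} (x : X.obj Δ) :
    (eps Y).app Δ ((Zmap φ).app Δ (rcls x)) = ap φ x - ap φ (0 : X.obj Δ) := by
  unfold rcls
  rw [map_sub, Zmap_cls, Zmap_cls, map_sub, eps_cls, eps_cls]

theorem sum_apply {M N : AddCommGrpCat.{u}} {ι : Type*} (s : Finset ι) (f : ι → (M ⟶ N)) (x : M) :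
    (∑ i ∈ s, f i) x = ∑ i ∈ s, f i x := by
  have h1 : (∑ i ∈ s, f i).hom = ∑ i ∈ s, (f i).hom := map_sum AddCommGrpCat.homAddEquiv f s
  change (∑ i ∈ s, f i).hom x = _
  rw [h1, AddMonoidHom.finsetSum_apply]

theorem Z_δ_cls {n : ℕ} (i : Fin (n + 2)) (x : X _⦋n + 1⦌) :
    (Z X).δ i (cls x) = cls (X.δ i x) :=
  FreeAbelianGroup.map_of_apply x

theorem Z_δ_rcls {n : ℕ} (i : Fin (n + 2)) (x : X _⦋n + 1⦌) :
    (Z X).δ i (rcls x) = rcls (X.δ i x) := by
  unfold rcls
  rw [map_sub, Z_δ_cls, Z_δ_cls, map_zero]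

theorem rcls_zero {Δ : SimplexCategoryᵒᵖ} : rcls (0 : X.obj Δ) = 0 := sub_self _

theorem dd_succ_apply (n : ℕ) (x : X _⦋n + 1⦌) :
    dd X (n + 1) n x = ∑ i : Fin (n + 2), (-1 : ℤ) ^ (i : ℕ) • X.δ i x := by
  unfold dd
  rw [alternatingFaceMapComplex_obj_d]
  unfold AlternatingFaceMapComplex.objD
  rw [sum_apply]
  rfl

theorem dd_of_higher (n : ℕ) (x : X _⦋n + 1⦌) (hx : ∀ j : Fin (n + 1), X.δ j.succ x = 0) :
    dd X (n + 1) n x = X.δ 0 x := by
  rw [dd_succ_apply, Fin.sum_univ_succ]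
  simp [hx]

theorem ddZ_of_higher (n : ℕ) (x : X _⦋n + 1⦌) (hx : ∀ j : Fin (n + 1), X.δ j.succ x = 0) :
    dd (Z X) (n + 1) n (rcls x) = rcls (X.δ 0 x) := by
  rw [dd_succ_apply, Fin.sum_univ_succ]
  have h1 : ∀ j : Fin (n + 1), (Z X).δ j.succ (rcls x) = 0 := by
    intro j
    rw [Z_δ_rcls, hx, rcls_zero]
  simp only [h1, smul_zero, Finset.sum_const_zero, add_zero]
  rw [Z_δ_rcls]
  simp

/-- all differentials out of an element vanish -/
theorem dd_eq_zero_of_next (n : ℕ) (z : X _⦋n⦌)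
    (hz : (KX X).d n ((ComplexShape.down ℕ).next n) z = 0) (k : ℕ) : dd X n k z = 0 := by
  unfold dd
  by_cases h : (ComplexShape.down ℕ).Rel n k
  · rw [← (ComplexShape.down ℕ).next_eq' h]
    exact hz
  · rw [(KX X).shape n k h]
    rfl

theorem dd_nat (f : X ⟶ Y) (n k : ℕ) (z : X _⦋n⦌) :
    dd Y n k (f.app _ z) = f.app _ (dd X n k z) :=
  ConcreteCategory.congr_hom (((alternatingFaceMapComplex AddCommGrpCat.{u}).map f).comm n k) z

section PInfty

variable (X)

theorem Pf_higher (n : ℕ) (j : Fin (n + 1)) (z : X _⦋n + 1⦌) :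
    X.δ j.succ (Pf X (n + 1) z) = 0 := by
  have h := (HigherFacesVanish.of_P (X := X) (n + 1) n) j (by omega)
  rw [← PInfty_f] at h
  exact ConcreteCategory.congr_hom h z

theorem Pf_dd (n k : ℕ) (z : X _⦋n⦌) :
    dd X n k (Pf X n z) = Pf X k (dd X n k z) :=
  ConcreteCategory.congr_hom ((PInfty : KX X ⟶ KX X).comm n k) z

theorem Pf_sub (n : ℕ) (z : X _⦋n⦌) (hz : ∀ k, dd X n k z = 0) :
    ∃ v : X _⦋n + 1⦌, dd X (n + 1) n v = Pf X n z - z := by
  have h1 := (homotopyPInftyToId X).comm n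
  have h2 := ConcreteCategory.congr_hom h1 z
  rw [AddCommGrpCat.hom_add_apply, AddCommGrpCat.hom_add_apply,
    prevD_eq _ (show (ComplexShape.down ℕ).Rel (n + 1) n from rfl)] at h2
  have h3 : (dNext n (homotopyPInftyToId X).hom) z = 0 := by
    change (homotopyPInftyToId X).hom _ _ (dd X n _ z) = 0
    rw [hz, map_zero]
  rw [h3, zero_add] at h2
  refine ⟨(homotopyPInftyToId X).hom n (n + 1) z, ?_⟩
  change Pf X n z = dd X (n + 1) n ((homotopyPInftyToId X).hom n (n + 1) z) + z at h2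
  rw [h2]
  abel

variable {X}

theorem Pf_nat (f : X ⟶ Y) (n : ℕ) (z : X _⦋n⦌) :
    f.app _ (Pf X n z) = Pf Y n (f.app _ z) :=
  (ConcreteCategory.congr_hom (PInfty_f_naturality n f) z).symm

/-- the reduced class of `P^∞ z` is a cycle if `z` is a cycle -/
theorem ddZ_Pf (n : ℕ) (z : X _⦋n⦌) (hz : ∀ k, dd X n k z = 0) (k : ℕ) :
    dd (Z X) n k (rcls (Pf X n z)) = 0 := by
  by_cases h : (ComplexShape.down ℕ).Rel n k
  · have hn : k + 1 = n := h
    subst hn
    rw [ddZ_of_higher k _ (fun j => Pf_higher X k j z),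
      ← dd_of_higher k _ (fun j => Pf_higher X k j z), Pf_dd, hz, map_zero, rcls_zero]
  · unfold dd
    rw [(KX (Z X)).shape n k h]
    rfl

end PInfty

/-- consequence of the chain homotopy on free simplicial abelian groups -/
theorem exists_boundary_of_homotopy {φ ψ : S X ⟶ S X} (H : SimplicialObject.Homotopy φ ψ) (n : ℕ)
    (ξ : (Z X) _⦋n⦌) (hξ : ∀ k, dd (Z X) n k ξ = 0) :
    ∃ w : X _⦋n + 1⦌, dd X (n + 1) n w
      = (eps X).app _ ((Zmap φ).app _ ξ) - (eps X).app _ ((Zmap ψ).app _ ξ) := by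
  let hh := (H.whiskerRight AddCommGrpCat.free).toChainHomotopy
  have h1 := hh.comm n
  have h2 := ConcreteCategory.congr_hom h1 ξ
  rw [AddCommGrpCat.hom_add_apply, AddCommGrpCat.hom_add_apply,
    prevD_eq _ (show (ComplexShape.down ℕ).Rel (n + 1) n from rfl)] at h2
  have h3 : (dNext n hh.hom) ξ = 0 := by
    change hh.hom _ _ (dd (Z X) n _ ξ) = 0
    rw [hξ, map_zero]
  rw [h3, zero_add] at h2
  refine ⟨(eps X).app _ (hh.hom n (n + 1) ξ), ?_⟩
  rw [dd_nat]
  change (Zmap φ).app _ ξ = dd (Z X) (n + 1) n (hh.hom n (n + 1) ξ) + (Zmap ψ).app _ ξ at h2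
  rw [h2, map_add]
  abel

theorem exists_boundary_of_homotopy' {φ ψ : S X ⟶ S X}
    (H : Nonempty (SimplicialObject.Homotopy φ ψ) ∨ Nonempty (SimplicialObject.Homotopy ψ φ))
    (n : ℕ) (ξ : (Z X) _⦋n⦌) (hξ : ∀ k, dd (Z X) n k ξ = 0) :
    ∃ w : X _⦋n + 1⦌, dd X (n + 1) n w
      = (eps X).app _ ((Zmap φ).app _ ξ) - (eps X).app _ ((Zmap ψ).app _ ξ) := by
  rcases H with ⟨⟨H⟩⟩ | ⟨⟨H⟩⟩
  · exact exists_boundary_of_homotopy H n ξ hξ
  · obtain ⟨w, hw⟩ := exists_boundary_of_homotopy H n ξ hξ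
    refine ⟨-w, ?_⟩
    rw [map_neg, hw]
    abel

end Groth.Agent.Lib.R2H2.SAbQIsoB
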