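import Mathlib
import Groth.Agent.Lib.R2H2SAbQIsoB

set_option backward.isDefEq.respectTransparency.types false
set_option autoImplicit false

/-!
# Homotopy equivalences of underlying simplicial sets of simplicial abelian groups: main theorem
-/

open CategoryTheory Simplicial Opposite AlgebraicTopology AlgebraicTopology.DoldKan

universe u

namespace Groth.Agent.Lib.R2H2.SAbQIsoC

open Groth.Agent.Lib.R2H2.SAbQIsoB

variable {X Y : SimplicialObject AddCommGrpCat.{u}}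

/-- the underlying map of simplicial sets -/
abbrev um (f : X ⟶ Y) : S X ⟶ S Y := Functor.whiskerRight f (forget AddCommGrpCat.{u})

theorem um_app (f : X ⟶ Y) {Δ : SimplexCategoryᵒᵖ} (x : X.obj Δ) :
    ap (um f) x = f.app Δ x := rfl

theorem comp_app' {A B C : SimplicialObject AddCommGrpCat.{u}} (a : S A ⟶ S B) (b : S B ⟶ S C)
    {Δ : SimplexCategoryᵒᵖ} (x : A.obj Δ) : ap (a ≫ b) x = ap b (ap a x) := rfl

/-- pushing a boundary relation through a map of simplicial sets -/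
theorem dd_sset_map (g : S Y ⟶ S X) (n : ℕ) (y : Y _⦋n + 1⦌)
    (hy : ∀ j : Fin (n + 1), Y.δ j.succ y = 0) :
    dd X (n + 1) n (ap g y - ap g (0 : Y _⦋n + 1⦌))
      = ap g (dd Y (n + 1) n y) - ap g (0 : Y _⦋n⦌) := by
  have h1 := ddZ_of_higher n y hy
  rw [← dd_of_higher n y hy] at h1
  have h2 := congrArg (fun t => (eps X).app _ ((Zmap g).app _ t)) h1
  simp only [] at h2
  rw [← dd_nat, ← dd_nat, eps_Zmap_rcls, eps_Zmap_rcls] at h2
  exact h2

theorem dd_sset_cycle (g : S Y ⟶ S X) (n : ℕ) (y : Y _⦋n⦌)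
    (hy : ∀ k, dd (Z Y) n k (rcls y) = 0) (k : ℕ) :
    dd X n k (ap g y - ap g (0 : Y _⦋n⦌)) = 0 := by
  have h2 := congrArg (fun t => (eps X).app _ ((Zmap g).app _ t)) (hy k)
  simp only [] at h2
  have e0 : (eps X).app (op ⦋k⦌) ((Zmap g).app (op ⦋k⦌) 0) = 0 := by rw [map_zero, map_zero]
  rw [← dd_nat, ← dd_nat, eps_Zmap_rcls, e0] at h2
  exact h2

theorem eps_Zmap_id_rcls {A : SimplicialObject AddCommGrpCat.{u}} {Δ : SimplexCategoryᵒᵖ}
    (x : A.obj Δ) : (eps A).app Δ ((Zmap (𝟙 (S A))).app Δ (rcls x)) = x := by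
  have h : Zmap (𝟙 (S A)) = 𝟙 (Z A) := CategoryTheory.Functor.map_id _ _
  rw [h]
  exact eps_rcls x

theorem quasiIso_of_homotopyEquiv (f : X ⟶ Y) (g : S Y ⟶ S X)
    (hX : Nonempty (SimplicialObject.Homotopy (um f ≫ g) (𝟙 (S X))) ∨
      Nonempty (SimplicialObject.Homotopy (𝟙 (S X)) (um f ≫ g)))
    (hY : Nonempty (SimplicialObject.Homotopy (g ≫ um f) (𝟙 (S Y))) ∨
      Nonempty (SimplicialObject.Homotopy (𝟙 (S Y)) (g ≫ um f))) :
    QuasiIso ((alternatingFaceMapComplex AddCommGrpCat.{u}).map f) := by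
  refine ⟨fun n => ?_⟩
  refine Groth.Agent.Lib.R2H2.SAbQIsoA.quasiIsoAt_of_elementwise _ (n + 1) n
    ((ComplexShape.down ℕ).next n) (ChainComplex.prev ℕ n) rfl ?_ ?_
  · -- injectivity
    intro x hx hw
    obtain ⟨w, hw⟩ := hw
    change X _⦋n⦌ at x
    change Y _⦋n + 1⦌ at w
    change dd Y (n + 1) n w = f.app _ x at hw
    change ∃ v : X _⦋n + 1⦌, dd X (n + 1) n v = x
    have hz : ∀ k, dd X n k x = 0 := dd_eq_zero_of_next n x hx
    obtain ⟨v1, hv1⟩ := Pf_sub X n x hz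
    have hξ := ddZ_Pf n x hz
    obtain ⟨w1, hw1⟩ := exists_boundary_of_homotopy' hX n (rcls (Pf X n x)) hξ
    rw [eps_Zmap_id_rcls, eps_Zmap_rcls, comp_app', comp_app', um_app, um_app, map_zero] at hw1
    have hy : dd Y (n + 1) n (Pf Y (n + 1) w) = f.app _ (Pf X n x) := by
      rw [Pf_dd, hw, Pf_nat]
    have h3 := dd_sset_map g n (Pf Y (n + 1) w) (fun j => Pf_higher Y n j w)
    rw [hy] at h3
    refine ⟨(ap g (Pf Y (n + 1) w) - ap g (0 : Y _⦋n + 1⦌)) - w1 - v1, ?_⟩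
    rw [map_sub, map_sub, h3, hw1, hv1]
    abel
  · -- surjectivity
    intro y hy
    change Y _⦋n⦌ at y
    have hz : ∀ k, dd Y n k y = 0 := dd_eq_zero_of_next n y hy
    obtain ⟨v1, hv1⟩ := Pf_sub Y n y hz
    have hξ := ddZ_Pf n y hz
    obtain ⟨w2, hw2⟩ := exists_boundary_of_homotopy' hY n (rcls (Pf Y n y)) hξ
    rw [eps_Zmap_id_rcls, eps_Zmap_rcls, comp_app', comp_app', um_app, um_app] at hw2
    refine ⟨ap g (Pf Y n y) - ap g (0 : Y _⦋n⦌), ?_, ?_⟩
    · exact dd_sset_cycle g n (Pf Y n y) hξ _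
    · refine ⟨-v1 - w2, ?_⟩
      change dd Y (n + 1) n (-v1 - w2) = y - f.app _ (ap g (Pf Y n y) - ap g (0 : Y _⦋n⦌))
      rw [map_sub, map_neg, hv1, hw2, map_sub]
      abel

end Groth.Agent.Lib.R2H2.SAbQIsoC
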