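import Mathlib
import Groth.Prelude.Def_ModSite
import Groth.Prelude.Def_AlgSpPerf
import Groth.Agent.Lib.Helper21RestrExact
import Groth.Agent.Lib.Helper21RetractFreeSite
import Groth.Agent.Lib.Helper4ModEpi

set_option backward.isDefEq.respectTransparency.types false
set_option autoImplicit false

/-!
# Local lifting of maps out of direct summands of finite free modules on a ringed site
-/

open CategoryTheory CategoryTheory.Limits Opposite

universe u

namespace Groth.Agent.Lib.R2H2.SPerfA

open Groth.Agent.Lib.Helper21.RestrExact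

variable {C : Type u} [SmallCategory C] {J : GrothendieckTopology C} (O : Sheaf J CommRingCat.{u})

/-- restriction from `C/W` to `C/W'` along `g : W' ⟶ W` -/
noncomputable abbrev rho {W' W : C} (g : W' ⟶ W) :
    ModSite.Mod (O.over W) ⥤ ModSite.Mod (O.over W') :=
  SheafOfModules.overMap (ModSite.ringSh O) g

/-- restricting to `C/W` and then to `C/W'` is restricting to `C/W'` -/
noncomputable abbrev rhoIso {W' W : C} (g : W' ⟶ W) :
    ModSite.restr O W ⋙ rho O g ≅ ModSite.restr O W' :=
  SheafOfModules.overFunctorMap (ModSite.ringSh O) g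

instance rho_additive {W' W : C} (g : W' ⟶ W) : (rho O g).Additive where
  map_add := by
    intros
    rfl

/-- transport of a morphism between restricted modules along `g : W' ⟶ W` -/
noncomputable def tr {W' W : C} (g : W' ⟶ W) {A B : ModSite.Mod O}
    (u : (ModSite.restr O W).obj A ⟶ (ModSite.restr O W).obj B) :
    (ModSite.restr O W').obj A ⟶ (ModSite.restr O W').obj B :=
  (rhoIso O g).inv.app A ≫ (rho O g).map u ≫ (rhoIso O g).hom.app B

theorem tr_restr {W' W : C} (g : W' ⟶ W) {A B : ModSite.Mod O} (φ : A ⟶ B) :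
    tr O g ((ModSite.restr O W).map φ) = (ModSite.restr O W').map φ := by
  unfold tr
  have h := (rhoIso O g).hom.naturality φ
  rw [Functor.comp_map] at h
  rw [h, Iso.inv_hom_id_app_assoc]

theorem tr_comp {W' W : C} (g : W' ⟶ W) {A B D : ModSite.Mod O}
    (u : (ModSite.restr O W).obj A ⟶ (ModSite.restr O W).obj B)
    (v : (ModSite.restr O W).obj B ⟶ (ModSite.restr O W).obj D) :
    tr O g (u ≫ v) = tr O g u ≫ tr O g v := by
  unfold tr
  simp only [Functor.map_comp, Category.assoc, Iso.hom_inv_id_app_assoc]

theorem tr_add {W' W : C} (g : W' ⟶ W) {A B : ModSite.Mod O}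
    (u v : (ModSite.restr O W).obj A ⟶ (ModSite.restr O W).obj B) :
    tr O g (u + v) = tr O g u + tr O g v := by
  unfold tr
  rw [Functor.map_add, Preadditive.add_comp, Preadditive.comp_add]

theorem tr_sub {W' W : C} (g : W' ⟶ W) {A B : ModSite.Mod O}
    (u v : (ModSite.restr O W).obj A ⟶ (ModSite.restr O W).obj B) :
    tr O g (u - v) = tr O g u - tr O g v := by
  unfold tr
  rw [Functor.map_sub, Preadditive.sub_comp, Preadditive.comp_sub]

theorem tr_zero {W' W : C} (g : W' ⟶ W) {A B : ModSite.Mod O} :
    tr O g (0 : (ModSite.restr O W).obj A ⟶ (ModSite.restr O W).obj B) = 0 := by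
  unfold tr
  rw [Functor.map_zero, zero_comp, comp_zero]

/-- a finite intersection of covering sieves is covering -/
theorem finset_inf_mem {ι : Type*} (s : Finset ι) {W : C} (S : ι → Sieve W)
    (hS : ∀ i ∈ s, S i ∈ J W) : s.inf S ∈ J W :=
  Finset.inf_induction (J.top_mem W) (fun _ h₁ _ h₂ => J.intersection_covering h₁ h₂) hS

end Groth.Agent.Lib.R2H2.SPerfA
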