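import Mathlib
import Groth.Agent.Lib.R2H2SPerfA

set_option backward.isDefEq.respectTransparency.types false
set_option autoImplicit false

/-!
# Local lifting of maps out of direct summands of finite free modules on a ringed site: lifting lemma
-/

open CategoryTheory CategoryTheory.Limits Opposite

universe u

namespace Groth.Agent.Lib.R2H2.SPerfB

open Groth.Agent.Lib.R2H2.SPerfA Groth.Agent.Lib.Helper21.RestrExact
open Groth.Agent.Lib.Helper21.RetractFreeSite

variable {C : Type u} [SmallCategory C] {J : GrothendieckTopology C} (O : Sheaf J CommRingCat.{u})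

/-- the terminal object of `C/W` -/
abbrev tW (W : C) : Over W := Over.mk (𝟙 W)

/-- `tW W` is terminal -/
noncomputable def tWTerminal (W : C) : IsTerminal (tW W) := Over.mkIdTerminal

/-- the image of the terminal object of `C/W'` in `C/W` -/
abbrev yg {W' W : C} (g : W' ⟶ W) : Over W := (Over.map g).obj (tW W')

/-- the structure arrow of `yg g` -/
def ag {W' W : C} (g : W' ⟶ W) : yg g ⟶ tW W := Over.homMk g (by simp)

/-- the free module of rank `n` on the base site -/
noncomputable abbrev Fn (n : ℕ) : ModSite.Mod O := F (ModSite.ringSh O) n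

/-- the restricted coprojections form a colimit cofan -/
noncomputable def restrCofanIsColimit (W : C) (n : ℕ) :
    IsColimit (Cofan.mk ((ModSite.restr O W).obj (Fn O n))
      (fun j : ULift.{u} (Fin n) => (ModSite.restr O W).map (ι (ModSite.ringSh O) n j))) :=
  isColimitCofanMkObjOfIsColimit (ModSite.restr O W) _ _
    (coproductIsCoproduct (fun _ : ULift.{u} (Fin n) => SheafOfModules.unit (ModSite.ringSh O)))

/-- sections at the terminal object of `C/W` versus maps out of the unit -/
noncomputable abbrev uE (W : C) (M : ModSite.Mod (O.over W)) :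
    (SheafOfModules.unit (ModSite.ringSh (O.over W)) ⟶ M) ≃+ M.val.obj (op (tW W)) :=
  unitEquiv (ModSite.ringSh (O.over W)) (tWTerminal W) M

theorem uE_rho {W' W : C} (g : W' ⟶ W) {M : ModSite.Mod (O.over W)}
    (χ : SheafOfModules.unit (ModSite.ringSh (O.over W)) ⟶ M) :
    uE O W' ((rho O g).obj M) ((rho O g).map χ) = M.val.map (ag g).op (uE O W M χ) := by
  change χ.val.app (op (yg g)) (1 : (ModSite.ringSh (O.over W)).obj.obj (op (yg g))) =
    M.val.map (ag g).op (χ.val.app (op (tW W)) (1 : (ModSite.ringSh (O.over W)).obj.obj (op (tW W))))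
  have h := PresheafOfModules.naturality_apply χ.val (ag g).op
    (1 : (ModSite.ringSh (O.over W)).obj.obj (op (tW W)))
  rw [← h]
  congr 1
  exact (map_one ((ModSite.ringSh (O.over W)).obj.map (ag g).op).hom).symm

/-- local lifting of a map out of a restricted finite free module through an epimorphism -/
theorem exists_lift_free (W : C) (n : ℕ) {M' N' : ModSite.Mod (O.over W)} (p : N' ⟶ M') [Epi p]
    (ψ : (ModSite.restr O W).obj (Fn O n) ⟶ M') :
    ∃ S ∈ J W, ∀ ⦃W' : C⦄ (g : W' ⟶ W), S g →
      ∃ l : (ModSite.restr O W').obj (Fn O n) ⟶ (rho O g).obj N',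
        l ≫ (rho O g).map p = (rhoIso O g).inv.app (Fn O n) ≫ (rho O g).map ψ := by
  -- the sections to lift
  let χ : ∀ j : ULift.{u} (Fin n), SheafOfModules.unit (ModSite.ringSh (O.over W)) ⟶ M' :=
    fun j => (ModSite.restr O W).map (ι (ModSite.ringSh O) n j) ≫ ψ
  let t : ∀ j : ULift.{u} (Fin n), M'.val.obj (op (tW W)) := fun j => uE O W M' (χ j)
  have hls := Groth.Agent.Lib.Helper4.ModEpi.isLocallySurjective_of_epi p
  let S' : ∀ j : ULift.{u} (Fin n), Sieve (tW W) := fun j =>
    Presheaf.imageSieve ((PresheafOfModules.toPresheaf _).map p.val) (t j)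
  have hS' : ∀ j, S' j ∈ (J.over W) (tW W) := fun j => hls.imageSieve_mem (t j)
  let S : ∀ j : ULift.{u} (Fin n), Sieve W := fun j => Sieve.overEquiv (tW W) (S' j)
  have hS : ∀ j, S j ∈ J W := fun j => (J.mem_over_iff (S' j)).1 (hS' j)
  refine ⟨Finset.univ.inf S, finset_inf_mem Finset.univ S (fun j _ => hS j), ?_⟩
  intro W' g hg
  have hg' : ∀ j, S' j (ag g) := by
    intro j
    have h1 : S j g := (Finset.inf_le (f := S) (Finset.mem_univ j)) _ hg
    have h2 := (Sieve.overEquiv_iff (S' j) g).1 h1
    have h3 : ag g = (Over.homMk (𝟙 W') (by simp) : yg g ⟶ Over.mk (g ≫ (tW W).hom)) ≫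
        (Over.homMk g : Over.mk (g ≫ (tW W).hom) ⟶ tW W) := by
      apply Over.OverMorphism.ext
      simp [ag]
    rw [h3]
    exact (S' j).downward_closed h2 _
  choose u hu using hg'
  -- `u j : N'(yg g)` with `p (u j) = t j |`
  let v : ∀ j : ULift.{u} (Fin n),
      SheafOfModules.unit (ModSite.ringSh (O.over W')) ⟶ (rho O g).obj N' :=
    fun j => (uE O W' ((rho O g).obj N')).symm (u j)
  refine ⟨(restrCofanIsColimit O W' n).desc (Cofan.mk _ v), ?_⟩
  apply (restrCofanIsColimit O W' n).hom_ext
  rintro ⟨j⟩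
  rw [← Category.assoc, (restrCofanIsColimit O W' n).fac]
  change v j ≫ (rho O g).map p =
    (ModSite.restr O W').map (ι (ModSite.ringSh O) n j) ≫
      (rhoIso O g).inv.app (Fn O n) ≫ (rho O g).map ψ
  have hnat := (rhoIso O g).inv.naturality (ι (ModSite.ringSh O) n j)
  rw [← Category.assoc, hnat, Category.assoc, Functor.comp_map, ← Functor.map_comp]
  apply (uE O W' ((rho O g).obj M')).injective
  -- left side
  have hl : uE O W' ((rho O g).obj M') (v j ≫ (rho O g).map p) =
      ((rho O g).map p).val.app (op (tW W')) (uE O W' ((rho O g).obj N') (v j)) := rfl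
  rw [hl]
  have hv : uE O W' ((rho O g).obj N') (v j) = u j :=
    (uE O W' ((rho O g).obj N')).apply_symm_apply (u j)
  rw [hv]
  -- right side
  have hr : uE O W' ((rho O g).obj M')
      ((rhoIso O g).inv.app (SheafOfModules.unit (ModSite.ringSh O)) ≫ (rho O g).map (χ j)) =
      uE O W' ((rho O g).obj M') ((rho O g).map (χ j)) := rfl
  refine Eq.trans ?_ hr.symm
  rw [uE_rho]
  exact hu j

end Groth.Agent.Lib.R2H2.SPerfB
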