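import Mathlib
import Groth.Agent.Lib.R2H2SPerfB

set_option backward.isDefEq.respectTransparency.types false
set_option autoImplicit false

/-!
# Local lifting for direct summands of finite free modules on a ringed site
-/

open CategoryTheory CategoryTheory.Limits Opposite

universe u

namespace Groth.Agent.Lib.R2H2.SPerfC

open Groth.Agent.Lib.R2H2.SPerfA Groth.Agent.Lib.R2H2.SPerfB Groth.Agent.Lib.Helper21.RestrExact
open Groth.Agent.Lib.Helper21.RetractFreeSite

variable {C : Type u} [SmallCategory C] {J : GrothendieckTopology C} (O : Sheaf J CommRingCat.{u})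

/-- local lifting for direct summands of finite free modules, general target over `C/W` -/
theorem exists_lift_summand (W : C) {E₀ : ModSite.Mod O}
    (hE : DCoh.IsFinFreeSummandMod (ModSite.ringSh O) E₀)
    {M' N' : ModSite.Mod (O.over W)} (p : N' ⟶ M') [Epi p]
    (φ : (ModSite.restr O W).obj E₀ ⟶ M') :
    ∃ S ∈ J W, ∀ ⦃W' : C⦄ (g : W' ⟶ W), S g →
      ∃ l : (ModSite.restr O W').obj E₀ ⟶ (rho O g).obj N',
        l ≫ (rho O g).map p = (rhoIso O g).inv.app E₀ ≫ (rho O g).map φ := by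
  obtain ⟨n, i, r, hir⟩ := hE
  change E₀ ⟶ Fn O n at i
  change Fn O n ⟶ E₀ at r
  obtain ⟨S, hS, h⟩ := exists_lift_free O W n p ((ModSite.restr O W).map r ≫ φ)
  refine ⟨S, hS, ?_⟩
  intro W' g hg
  obtain ⟨l0, hl0⟩ := h g hg
  refine ⟨(ModSite.restr O W').map i ≫ l0, ?_⟩
  have hnat : (ModSite.restr O W').map i ≫ (rhoIso O g).inv.app (Fn O n) =
      (rhoIso O g).inv.app E₀ ≫ (rho O g).map ((ModSite.restr O W).map i) :=
    (rhoIso O g).inv.naturality i
  have hir' : (ModSite.restr O W).map i ≫ (ModSite.restr O W).map r = 𝟙 _ := by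
    rw [← Functor.map_comp]
    exact (congrArg (fun z => (ModSite.restr O W).map z) hir).trans (CategoryTheory.Functor.map_id _ _)
  calc ((ModSite.restr O W').map i ≫ l0) ≫ (rho O g).map p
      = (ModSite.restr O W').map i ≫ (l0 ≫ (rho O g).map p) := Category.assoc _ _ _
    _ = (ModSite.restr O W').map i ≫ ((rhoIso O g).inv.app (Fn O n) ≫
          (rho O g).map ((ModSite.restr O W).map r ≫ φ)) := by rw [hl0]
    _ = ((ModSite.restr O W').map i ≫ (rhoIso O g).inv.app (Fn O n)) ≫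
          (rho O g).map ((ModSite.restr O W).map r ≫ φ) := (Category.assoc _ _ _).symm
    _ = ((rhoIso O g).inv.app E₀ ≫ (rho O g).map ((ModSite.restr O W).map i)) ≫
          (rho O g).map ((ModSite.restr O W).map r ≫ φ) := by rw [hnat]
    _ = (rhoIso O g).inv.app E₀ ≫ (rho O g).map
          ((ModSite.restr O W).map i ≫ (ModSite.restr O W).map r ≫ φ) := by
        rw [Category.assoc, ← Functor.map_comp]
    _ = (rhoIso O g).inv.app E₀ ≫ (rho O g).map φ := by
        rw [← Category.assoc ((ModSite.restr O W).map i), hir', Category.id_comp]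

/-- local lifting for direct summands of finite free modules, targets restricted from the base -/
theorem exists_lift_summand_base (W : C) {E₀ : ModSite.Mod O}
    (hE : DCoh.IsFinFreeSummandMod (ModSite.ringSh O) E₀) {A B : ModSite.Mod O}
    (p : (ModSite.restr O W).obj A ⟶ (ModSite.restr O W).obj B) [Epi p]
    (φ : (ModSite.restr O W).obj E₀ ⟶ (ModSite.restr O W).obj B) :
    ∃ S ∈ J W, ∀ ⦃W' : C⦄ (g : W' ⟶ W), S g →
      ∃ l : (ModSite.restr O W').obj E₀ ⟶ (ModSite.restr O W').obj A,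
        l ≫ tr O g p = tr O g φ := by
  obtain ⟨S, hS, h⟩ := exists_lift_summand O W hE p φ
  refine ⟨S, hS, ?_⟩
  intro W' g hg
  obtain ⟨l, hl⟩ := h g hg
  refine ⟨l ≫ (rhoIso O g).hom.app A, ?_⟩
  unfold tr
  rw [Category.assoc, Iso.hom_inv_id_app_assoc, ← Category.assoc, hl, Category.assoc]

/-- local lifting (the statement of `S9041`) -/
theorem exists_local_lift {E F G : ModSite.Mod O}
    (hE : DCoh.IsFinFreeSummandMod (ModSite.ringSh O) E) (p : G ⟶ F) [Epi p] (φ : E ⟶ F) (V : C) :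
    ∃ R ∈ J V, ∀ ⦃W : C⦄ (g : W ⟶ V), R g →
      ∃ l : (ModSite.restr O W).obj E ⟶ (ModSite.restr O W).obj G,
        l ≫ (ModSite.restr O W).map p = (ModSite.restr O W).map φ := by
  obtain ⟨S, hS, h⟩ := exists_lift_summand_base O V hE ((ModSite.restr O V).map p)
    ((ModSite.restr O V).map φ)
  refine ⟨S, hS, ?_⟩
  intro W g hg
  obtain ⟨l, hl⟩ := h g hg
  rw [tr_restr, tr_restr] at hl
  exact ⟨l, hl⟩

/-- local lifting through an exact sequence restricted from the base -/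
theorem exists_lift_exact (W : C) {E₀ : ModSite.Mod O}
    (hE : DCoh.IsFinFreeSummandMod (ModSite.ringSh O) E₀) (S₀ : ShortComplex (ModSite.Mod O))
    (hS₀ : S₀.Exact) (θ : (ModSite.restr O W).obj E₀ ⟶ (ModSite.restr O W).obj S₀.X₂)
    (hθ : θ ≫ (ModSite.restr O W).map S₀.g = 0) :
    ∃ S ∈ J W, ∀ ⦃W' : C⦄ (g : W' ⟶ W), S g →
      ∃ l : (ModSite.restr O W').obj E₀ ⟶ (ModSite.restr O W').obj S₀.X₁,
        l ≫ (ModSite.restr O W').map S₀.f = tr O g θ := by
  let SW := S₀.map (ModSite.restr O W)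
  have hSW : SW.Exact := hS₀.map (ModSite.restr O W)
  let tc : (ModSite.restr O W).obj S₀.X₁ ⟶ SW.cycles := SW.toCycles
  let ic : SW.cycles ⟶ (ModSite.restr O W).obj S₀.X₂ := SW.iCycles
  haveI : Epi tc := (SW.exact_iff_epi_toCycles).1 hSW
  let θ' : (ModSite.restr O W).obj E₀ ⟶ SW.cycles := SW.liftCycles θ hθ
  have h1 : (ModSite.restr O W).map S₀.f = tc ≫ ic := SW.toCycles_i.symm
  have h2 : θ' ≫ ic = θ := SW.liftCycles_i θ hθ
  obtain ⟨S, hS, h⟩ := exists_lift_summand O W hE tc θ'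
  refine ⟨S, hS, ?_⟩
  intro W' g hg
  obtain ⟨l, hl⟩ := h g hg
  refine ⟨l ≫ (rhoIso O g).hom.app S₀.X₁, ?_⟩
  have hnat : (rho O g).map ((ModSite.restr O W).map S₀.f) ≫ (rhoIso O g).hom.app S₀.X₂ =
      (rhoIso O g).hom.app S₀.X₁ ≫ (ModSite.restr O W').map S₀.f :=
    (rhoIso O g).hom.naturality S₀.f
  have e2 : (rho O g).map ((ModSite.restr O W).map S₀.f) = (rho O g).map tc ≫ (rho O g).map ic := by
    rw [← Functor.map_comp, h1]
  have e3 : (rho O g).map θ' ≫ (rho O g).map ic = (rho O g).map θ := by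
    rw [← Functor.map_comp, h2]
  unfold tr
  calc (l ≫ (rhoIso O g).hom.app S₀.X₁) ≫ (ModSite.restr O W').map S₀.f
      = l ≫ ((rhoIso O g).hom.app S₀.X₁ ≫ (ModSite.restr O W').map S₀.f) := Category.assoc _ _ _
    _ = l ≫ (((rho O g).map tc ≫ (rho O g).map ic) ≫ (rhoIso O g).hom.app S₀.X₂) := by
        rw [← hnat, e2]
    _ = (l ≫ (rho O g).map tc) ≫ (rho O g).map ic ≫ (rhoIso O g).hom.app S₀.X₂ := by
        simp only [Category.assoc]
    _ = ((rhoIso O g).inv.app E₀ ≫ (rho O g).map θ') ≫ (rho O g).map ic ≫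
          (rhoIso O g).hom.app S₀.X₂ := by rw [hl]
    _ = (rhoIso O g).inv.app E₀ ≫ ((rho O g).map θ' ≫ (rho O g).map ic) ≫
          (rhoIso O g).hom.app S₀.X₂ := by simp only [Category.assoc]
    _ = (rhoIso O g).inv.app E₀ ≫ (rho O g).map θ ≫ (rhoIso O g).hom.app S₀.X₂ := by rw [e3]

end Groth.Agent.Lib.R2H2.SPerfC
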