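import Mathlib
import Groth.Agent.Lib.R2H2SPerfC

set_option backward.isDefEq.respectTransparency.types false
set_option autoImplicit false

/-!
# Maps from strictly perfect complexes to complexes acyclic in high degrees are locally null-homotopic
-/

open CategoryTheory CategoryTheory.Limits Opposite

universe u

namespace Groth.Agent.Lib.R2H2.SPerfD

open Groth.Agent.Lib.R2H2.SPerfA Groth.Agent.Lib.R2H2.SPerfB Groth.Agent.Lib.R2H2.SPerfC
open Groth.Agent.Lib.Helper21.RestrExact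

section General

variable {A : Type*} [Category A] [Preadditive A]

/-- a homotopy to zero from its components -/
noncomputable def homotopyOfComm {X Y : CochainComplex A ℤ} (φ : X ⟶ Y)
    (h : ∀ j : ℤ, X.X (j + 1) ⟶ Y.X j)
    (comm : ∀ j : ℤ, φ.f (j + 1) = X.d (j + 1) (j + 1 + 1) ≫ h (j + 1) + h j ≫ Y.d j (j + 1)) :
    Homotopy φ 0 where
  hom i j := if hij : j + 1 = i then (X.XIsoOfEq hij.symm).hom ≫ h j else 0
  zero i j hij := dif_neg hij
  comm i := by
    obtain ⟨j, rfl⟩ : ∃ j, i = j + 1 := ⟨i - 1, by omega⟩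
    rw [dNext_eq _ (show (ComplexShape.up ℤ).Rel (j + 1) (j + 1 + 1) from rfl),
      prevD_eq _ (show (ComplexShape.up ℤ).Rel j (j + 1) from rfl)]
    rw [dif_pos rfl, dif_pos rfl]
    simp only [HomologicalComplex.XIsoOfEq_rfl, Iso.refl_hom, Category.id_comp,
      HomologicalComplex.zero_f, add_zero]
    exact comm j

end General

variable {C : Type u} [SmallCategory C] {J : GrothendieckTopology C} (O : Sheaf J CommRingCat.{u})

/-- partial null-homotopy in degrees `> k` of the restriction to `C/W` -/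
def PH {E K : CochainComplex (ModSite.Mod O) ℤ} (γ : E ⟶ K) (W : C) (k : ℤ) : Prop :=
  ∃ h : ∀ j : ℤ, (ModSite.restr O W).obj (E.X (j + 1)) ⟶ (ModSite.restr O W).obj (K.X j),
    ∀ j : ℤ, k ≤ j → (ModSite.restr O W).map (γ.f (j + 1)) =
      (ModSite.restr O W).map (E.d (j + 1) (j + 1 + 1)) ≫ h (j + 1) +
        h j ≫ (ModSite.restr O W).map (K.d j (j + 1))

/-- local partial null-homotopies -/
def PHloc {E K : CochainComplex (ModSite.Mod O) ℤ} (γ : E ⟶ K) (k : ℤ) : Prop :=
  ∀ V : C, ∃ R ∈ J V, ∀ ⦃W : C⦄ (g : W ⟶ V), R g → PH O γ W k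

variable {O}

theorem PH_transport {E K : CochainComplex (ModSite.Mod O) ℤ} {γ : E ⟶ K} {W : C} {k : ℤ}
    (hph : PH O γ W k) {W' : C} (g : W' ⟶ W) : PH O γ W' k := by
  obtain ⟨h, hh⟩ := hph
  refine ⟨fun j => tr O g (h j), ?_⟩
  intro j hj
  have := congrArg (tr O g) (hh j hj)
  rw [tr_restr, tr_add, tr_comp, tr_comp, tr_restr, tr_restr] at this
  exact this

theorem phloc_step {E K : CochainComplex (ModSite.Mod O) ℤ} (γ : E ⟶ K)
    (hE : ∀ i : ℤ, DCoh.IsFinFreeSummandMod (ModSite.ringSh O) (E.X i)) (m : ℤ)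
    (hK : K.ExactAt (m + 1)) (hm : PHloc O γ (m + 1)) : PHloc O γ m := by
  intro V
  obtain ⟨R₁, hR₁, h₁⟩ := hm V
  -- for each arrow of `R₁`, a covering sieve on which the next component exists
  have key : ∀ ⦃W : C⦄ (g : W ⟶ V), R₁ g → ∃ S ∈ J W, ∀ ⦃W' : C⦄ (g' : W' ⟶ W), S g' →
      PH O γ W' m := by
    intro W g hg
    obtain ⟨h, hh⟩ := h₁ g hg
    let θ : (ModSite.restr O W).obj (E.X (m + 1)) ⟶ (ModSite.restr O W).obj (K.X (m + 1)) :=
      (ModSite.restr O W).map (γ.f (m + 1)) -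
        (ModSite.restr O W).map (E.d (m + 1) (m + 1 + 1)) ≫ h (m + 1)
    have hθ : θ ≫ (ModSite.restr O W).map (K.d (m + 1) (m + 1 + 1)) = 0 := by
      have e1 := hh (m + 1) le_rfl
      have e2 : (ModSite.restr O W).map (γ.f (m + 1)) ≫
          (ModSite.restr O W).map (K.d (m + 1) (m + 1 + 1)) =
          (ModSite.restr O W).map (E.d (m + 1) (m + 1 + 1)) ≫
            (ModSite.restr O W).map (γ.f (m + 1 + 1)) := by
        rw [← Functor.map_comp, ← Functor.map_comp, γ.comm]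
      have e3 : (ModSite.restr O W).map (E.d (m + 1) (m + 1 + 1)) ≫
          (ModSite.restr O W).map (E.d (m + 1 + 1) (m + 1 + 1 + 1)) = 0 := by
        rw [← Functor.map_comp, E.d_comp_d, Functor.map_zero]
      change ((ModSite.restr O W).map (γ.f (m + 1)) -
        (ModSite.restr O W).map (E.d (m + 1) (m + 1 + 1)) ≫ h (m + 1)) ≫
          (ModSite.restr O W).map (K.d (m + 1) (m + 1 + 1)) = 0
      rw [Preadditive.sub_comp, e2, e1, Preadditive.comp_add, ← Category.assoc, e3, zero_comp,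
        zero_add, Category.assoc, sub_self]
    let S₀ : ShortComplex (ModSite.Mod O) :=
      ShortComplex.mk (K.d m (m + 1)) (K.d (m + 1) (m + 1 + 1)) (K.d_comp_d _ _ _)
    have hS₀ : S₀.Exact :=
      (K.exactAt_iff' m (m + 1) (m + 1 + 1) (by simp) (by simp)).1 hK
    obtain ⟨S, hS, hl⟩ := exists_lift_exact O W (hE (m + 1)) S₀ hS₀ θ hθ
    refine ⟨S, hS, ?_⟩
    intro W' g' hg'
    obtain ⟨l, hl⟩ := hl g' hg'
    change l ≫ (ModSite.restr O W').map (K.d m (m + 1)) = tr O g' θ at hl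
    refine ⟨Function.update (fun j => tr O g' (h j)) m l, ?_⟩
    intro j hj
    rcases eq_or_lt_of_le hj with rfl | hlt
    · rw [Function.update_self, Function.update_of_ne (by omega), hl]
      change _ = _ + tr O g' ((ModSite.restr O W).map (γ.f (m + 1)) -
        (ModSite.restr O W).map (E.d (m + 1) (m + 1 + 1)) ≫ h (m + 1))
      rw [tr_sub, tr_comp, tr_restr, tr_restr]
      abel
    · rw [Function.update_of_ne (by omega), Function.update_of_ne (by omega)]
      have := congrArg (tr O g') (hh j (by omega))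
      rw [tr_restr, tr_add, tr_comp, tr_comp, tr_restr, tr_restr] at this
      exact this
  choose S hS hSph using key
  refine ⟨Sieve.bind R₁ (fun W g hg => S g hg), J.bind_covering hR₁ (fun W g hg => hS g hg), ?_⟩
  intro W' f hf
  obtain ⟨W, g', g, hg, hg', rfl⟩ := hf
  exact hSph g hg g' hg'

theorem phloc_of_le {E K : CochainComplex (ModSite.Mod O) ℤ} (γ : E ⟶ K) {k k' : ℤ} (hk : k ≤ k')
    (h : PHloc O γ k) : PHloc O γ k' := by
  intro V
  obtain ⟨R, hR, hph⟩ := h V
  refine ⟨R, hR, ?_⟩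
  intro W g hg
  obtain ⟨h, hh⟩ := hph g hg
  exact ⟨h, fun j hj => hh j (hk.trans hj)⟩

theorem phloc_top {E K : CochainComplex (ModSite.Mod O) ℤ} (γ : E ⟶ K) (b : ℤ)
    (hb : ∀ i : ℤ, b < i → IsZero (E.X i)) : PHloc O γ b := by
  intro V
  refine ⟨⊤, J.top_mem V, ?_⟩
  intro W g _
  refine ⟨fun _ => 0, ?_⟩
  intro j hj
  exact (Functor.map_isZero (ModSite.restr O W) (hb (j + 1) (by omega))).eq_of_src _ _

theorem phloc_sub {E K : CochainComplex (ModSite.Mod O) ℤ} (γ : E ⟶ K)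
    (hE : ∀ i : ℤ, DCoh.IsFinFreeSummandMod (ModSite.ringSh O) (E.X i)) (a b : ℤ)
    (hb : ∀ i : ℤ, b < i → IsZero (E.X i)) (hK : ∀ j : ℤ, a ≤ j → K.ExactAt j) :
    ∀ n : ℕ, a - 1 ≤ b - n → PHloc O γ (b - n) := by
  intro n
  induction n with
  | zero =>
    intro _
    have : b - ((0 : ℕ) : ℤ) = b := by simp
    rw [this]
    exact phloc_top γ b hb
  | succ n ih =>
    intro hn
    have h1 : PHloc O γ (b - (n : ℤ)) := ih (by push_cast at hn ⊢; omega)
    have h2 : b - (n : ℤ) = (b - ((n + 1 : ℕ) : ℤ)) + 1 := by push_cast; ring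
    rw [h2] at h1
    exact phloc_step γ hE _ (hK _ (by omega)) h1

/-- a map from a strictly perfect complex vanishing below `a` to a complex which is exact in degrees
`≥ a` is locally null-homotopic -/
theorem exists_null_homotopy_locally {E K : CochainComplex (ModSite.Mod O) ℤ} (γ : E ⟶ K)
    (hE : DCoh.IsStrictlyPerfectMod (ModSite.ringSh O) E) (a : ℤ)
    (hEa : ∀ j : ℤ, j < a → IsZero (E.X j)) (hK : ∀ j : ℤ, a ≤ j → K.ExactAt j) (V : C) :
    ∃ R ∈ J V, ∀ ⦃W : C⦄ (g : W ⟶ V), R g →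
      Nonempty (Homotopy (((ModSite.restr O W).mapHomologicalComplex (ComplexShape.up ℤ)).map γ) 0) := by
  obtain ⟨⟨a', b, hab⟩, hfree⟩ := hE
  have hb : ∀ i : ℤ, b < i → IsZero (E.X i) := fun i hi => hab i (Or.inr hi)
  have hloc : PHloc O γ (a - 1) := by
    by_cases hba : b ≤ a - 1
    · exact phloc_of_le γ hba (phloc_top γ b hb)
    · have h1 := phloc_sub γ hfree a b hb hK (b - (a - 1)).toNat (by
        rw [Int.toNat_of_nonneg (by omega)]; omega)
      have h2 : b - ((b - (a - 1)).toNat : ℤ) = a - 1 := by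
        rw [Int.toNat_of_nonneg (by omega)]; ring
      rw [h2] at h1
      exact h1
  obtain ⟨R, hR, hph⟩ := hloc V
  refine ⟨R, hR, ?_⟩
  intro W g hg
  obtain ⟨h, hh⟩ := hph g hg
  refine ⟨homotopyOfComm _ h ?_⟩
  intro j
  by_cases hj : a - 1 ≤ j
  · exact hh j hj
  · exact (Functor.map_isZero (ModSite.restr O W) (hEa (j + 1) (by omega))).eq_of_src _ _

end Groth.Agent.Lib.R2H2.SPerfD
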