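import Mathlib
import Groth.Agent.Lib.R2H2SPerfD

set_option backward.isDefEq.respectTransparency.types false
set_option autoImplicit false

/-!
# Local lifting up to homotopy of maps out of strictly perfect complexes on a ringed site
-/

open CategoryTheory CategoryTheory.Limits Opposite

universe u

namespace Groth.Agent.Lib.R2H2.SPerfE

open Groth.Agent.Lib.R2H2.SPerfA Groth.Agent.Lib.R2H2.SPerfD Groth.Agent.Lib.Helper21.RestrExact

section General

universe v' u'

variable {A : Type u'} [Category.{v'} A] [Abelian A]

open CochainComplex HomologicalComplex in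
/-- the mapping cone is acyclic in degree `j` if `H^j(f)` is epi and `H^{j+1}(f)` is mono -/
theorem isZero_homology_mappingCone {G F : CochainComplex A ℤ} (f : G ⟶ F) (j : ℤ)
    (h1 : Epi (homologyMap f j)) (h2 : Mono (homologyMap f (j + 1))) :
    IsZero ((mappingCone f).homology j) := by
  letI : HasDerivedCategory A := HasDerivedCategory.standard A
  let T := mappingCone.triangle f
  have hT : DerivedCategory.Q.mapTriangle.obj T ∈ distTriang _ :=
    DerivedCategory.mappingCone_triangle_distinguished f
  have ex1 := homologyMap_exact₁_of_distTriang T hT j (j + 1) rfl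
  have ex2 := homologyMap_exact₂_of_distTriang T hT j
  have ex3 := homologyMap_exact₃_of_distTriang T hT j (j + 1) rfl
  have z2 : homologyMap T.mor₂ j = 0 := by
    have hz := homologyMap_comp_eq_zero_of_distTriang T hT j
    haveI : Epi (homologyMap T.mor₁ j) := h1
    rw [← cancel_epi (homologyMap T.mor₁ j), hz, comp_zero]
  have z3 : homologyδOfTriangle T j (j + 1) rfl = 0 := by
    have hz := homologyδOfTriangle_homologyMap T hT j (j + 1) rfl
    haveI : Mono (homologyMap T.mor₁ (j + 1)) := h2
    rw [← cancel_mono (homologyMap T.mor₁ (j + 1)), hz, zero_comp]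
  exact ex3.isZero_of_both_zeros z2 z3

open CochainComplex in
/-- if `α ≫ inr f` is null-homotopic then `α` lifts through `f` up to homotopy -/
theorem exists_lift_of_null_homotopy {E G F : CochainComplex A ℤ} (f : G ⟶ F) (α : E ⟶ F)
    (h : Nonempty (Homotopy (α ≫ mappingCone.inr f) 0)) :
    ∃ β : E ⟶ G, Nonempty (Homotopy (β ≫ f) α) := by
  obtain ⟨h⟩ := h
  let q := HomotopyCategory.quotient A (ComplexShape.up ℤ)
  have hT := HomotopyCategory.mappingCone_triangleh_distinguished f
  have hz : q.map α ≫ (mappingCone.triangleh f).mor₂ = 0 := by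
    change q.map α ≫ q.map (mappingCone.inr f) = 0
    rw [← Functor.map_comp, HomotopyCategory.eq_of_homotopy _ _ h, Functor.map_zero]
  obtain ⟨β', hβ'⟩ := Pretriangulated.Triangle.coyoneda_exact₂ _ hT (q.map α) hz
  obtain ⟨β, rfl⟩ := q.map_surjective β'
  refine ⟨β, ⟨HomotopyCategory.homotopyOfEq _ _ ?_⟩⟩
  change q.map (β ≫ f) = q.map α
  rw [Functor.map_comp]
  exact hβ'.symm

end General

variable {C : Type u} [SmallCategory C] {J : GrothendieckTopology C} (O : Sheaf J CommRingCat.{u})

open CochainComplex in
/-- local lifting up to homotopy (the statement of `S9046`) -/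
theorem exists_local_lift_upToHomotopy
    (E F G : CochainComplex (ModSite.Mod O) ℤ) (α : E ⟶ F) (f : G ⟶ F)
    (hE : DCoh.IsStrictlyPerfectMod (ModSite.ringSh O) E) (a : ℤ)
    (hEa : ∀ j : ℤ, j < a → IsZero (E.X j))
    (hiso : ∀ j : ℤ, a < j → IsIso (HomologicalComplex.homologyMap f j))
    (hepi : Epi (HomologicalComplex.homologyMap f a)) (V : C) :
    ∃ R ∈ J V, ∀ ⦃W : C⦄ (g : W ⟶ V), R g →
      ∃ β : ((ModSite.restr O W).mapHomologicalComplex (ComplexShape.up ℤ)).obj E ⟶
          ((ModSite.restr O W).mapHomologicalComplex (ComplexShape.up ℤ)).obj G,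
        Nonempty (Homotopy (β ≫ ((ModSite.restr O W).mapHomologicalComplex (ComplexShape.up ℤ)).map f)
          (((ModSite.restr O W).mapHomologicalComplex (ComplexShape.up ℤ)).map α)) := by
  have hK : ∀ j : ℤ, a ≤ j → (mappingCone f).ExactAt j := by
    intro j hj
    rw [HomologicalComplex.exactAt_iff_isZero_homology]
    apply isZero_homology_mappingCone f j
    · rcases eq_or_lt_of_le hj with rfl | hlt
      · exact hepi
      · haveI := hiso j hlt
        infer_instance
    · haveI := hiso (j + 1) (by omega)
      infer_instance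
  obtain ⟨R, hR, hnull⟩ := exists_null_homotopy_locally (α ≫ mappingCone.inr f) hE a hEa hK V
  refine ⟨R, hR, ?_⟩
  intro W g hg
  obtain ⟨h0⟩ := hnull g hg
  let Φ := (ModSite.restr O W).mapHomologicalComplex (ComplexShape.up ℤ)
  apply exists_lift_of_null_homotopy (Φ.map f) (Φ.map α)
  have e1 : Φ.map α ≫ mappingCone.inr (Φ.map f) =
      Φ.map (α ≫ mappingCone.inr f) ≫ (mappingCone.mapHomologicalComplexIso f (ModSite.restr O W)).hom := by
    rw [Functor.map_comp, Category.assoc, mappingCone.map_inr]
  rw [e1]
  have h1 := h0.compRight (mappingCone.mapHomologicalComplexIso f (ModSite.restr O W)).hom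
  rw [zero_comp] at h1
  exact ⟨h1⟩

end Groth.Agent.Lib.R2H2.SPerfE
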