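import Mathlib
import Groth.Agent.Lib.R2H2SPerfE

set_option backward.isDefEq.respectTransparency.types false
set_option autoImplicit false

/-!
# Morphisms in the derived category out of strictly perfect complexes are locally chain maps
-/

open CategoryTheory CategoryTheory.Limits Opposite

universe u

namespace Groth.Agent.Lib.R2H2.SPerfF

open Groth.Agent.Lib.R2H2.SPerfE

variable {C : Type u} [SmallCategory C] {J : GrothendieckTopology C} (O : Sheaf J CommRingCat.{u})

theorem locally_chainMap
    [HasDerivedCategory.{u} (ModSite.Mod O)] [∀ W : C, HasDerivedCategory.{u} (ModSite.Mod (O.over W))]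
    [∀ W : C, (ModSite.restr O W).Additive] [∀ W : C, PreservesFiniteColimits (ModSite.restr O W)]
    (E F : CochainComplex (ModSite.Mod O) ℤ) (hE : DCoh.IsStrictlyPerfectMod (ModSite.ringSh O) E)
    (α : DerivedCategory.Q.obj E ⟶ DerivedCategory.Q.obj F) (V : C) :
    ∃ R ∈ J V, ∀ ⦃W : C⦄ (g : W ⟶ V), R g →
      ∃ α' : ((ModSite.restr O W).mapHomologicalComplex (ComplexShape.up ℤ)).obj E ⟶
          ((ModSite.restr O W).mapHomologicalComplex (ComplexShape.up ℤ)).obj F,
        (ModSite.restr O W).mapDerivedCategory.map α =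
          (ModSite.restr O W).mapDerivedCategoryFactors.hom.app E ≫ DerivedCategory.Q.map α' ≫
            (ModSite.restr O W).mapDerivedCategoryFactors.inv.app F := by
  obtain ⟨F', a, s, hs, hα⟩ := DerivedCategory.left_fac α
  have hqi : QuasiIso s := (DerivedCategory.isIso_Q_map_iff_quasiIso _ s).1 hs
  obtain ⟨⟨a', b', hab⟩, _⟩ := id hE
  have hiso : ∀ j : ℤ, IsIso (HomologicalComplex.homologyMap s j) := fun j =>
    (quasiIsoAt_iff_isIso_homologyMap s j).1 (hqi.quasiIsoAt j)
  haveI := hiso a'
  obtain ⟨R, hR, h⟩ := exists_local_lift_upToHomotopy O E F' F a s hE a'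
    (fun j hj => hab j (Or.inl hj)) (fun j _ => hiso j) inferInstance V
  refine ⟨R, hR, ?_⟩
  intro W g hg
  obtain ⟨β, ⟨hβ⟩⟩ := h g hg
  refine ⟨β, ?_⟩
  let Φ := (ModSite.restr O W).mapHomologicalComplex (ComplexShape.up ℤ)
  let D := (ModSite.restr O W).mapDerivedCategory
  let fac := (ModSite.restr O W).mapDerivedCategoryFactors
  have n1 : D.map (DerivedCategory.Q.map a) ≫ fac.hom.app F' =
      fac.hom.app E ≫ DerivedCategory.Q.map (Φ.map a) :=
    (ModSite.restr O W).mapDerivedCategoryFactors_hom_naturality a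
  have n2 : D.map (DerivedCategory.Q.map s) ≫ fac.hom.app F' =
      fac.hom.app F ≫ DerivedCategory.Q.map (Φ.map s) :=
    (ModSite.restr O W).mapDerivedCategoryFactors_hom_naturality s
  have e1 : DerivedCategory.Q.map β ≫ DerivedCategory.Q.map (Φ.map s) =
      DerivedCategory.Q.map (Φ.map a) := by
    rw [← Functor.map_comp]
    exact DerivedCategory.Q_map_eq_of_homotopy _ hβ
  haveI : IsIso (D.map (DerivedCategory.Q.map s)) := Functor.map_isIso D _
  haveI : IsIso (fac.hom.app F') := inferInstance
  rw [← cancel_mono (D.map (DerivedCategory.Q.map s)), ← cancel_mono (fac.hom.app F')]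
  change (D.map α ≫ D.map (DerivedCategory.Q.map s)) ≫ fac.hom.app F' =
    ((fac.hom.app E ≫ DerivedCategory.Q.map β ≫ fac.inv.app F) ≫
      D.map (DerivedCategory.Q.map s)) ≫ fac.hom.app F'
  have e2 : D.map α ≫ D.map (DerivedCategory.Q.map s) = D.map (DerivedCategory.Q.map a) := by
    rw [← Functor.map_comp, hα, Category.assoc, IsIso.inv_hom_id, Category.comp_id]
  rw [e2, n1]
  simp only [Category.assoc]
  rw [n2, Iso.inv_hom_id_app_assoc, e1]

end Groth.Agent.Lib.R2H2.SPerfF
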