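import Mathlib
import Groth.Prelude.Def_FSch3
import Groth.Agent.Lib.R2H2FormalSys
import Groth.Agent.Lib.R2H2LimRing
import Groth.Agent.Lib.Helper22SqZero2

set_option autoImplicit false
set_option linter.style.haveILetI false
universe u
open CategoryTheory AlgebraicGeometry

namespace Groth.Agent.Lib.R2H2.SpfIso

open Groth.Agent.Lib.R2H2.FormalSys Groth.Agent.Lib.R2H2.LimRing

/-- a morphism of systems which is levelwise an isomorphism is an isomorphism -/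
noncomputable def isoOfApp {𝔛 𝔜 : FSch.Sys.{u}} (f : 𝔛 ⟶ 𝔜)
    (h : ∀ n, IsIso (FSch.Hom.app f n)) : 𝔛 ≅ 𝔜 where
  hom := f
  inv := ⟨fun n => inv (FSch.Hom.app f n), fun n => by
    rw [IsIso.inv_comp_eq, ← Category.assoc, FSch.Hom.comm f n, Category.assoc,
      IsIso.hom_inv_id, Category.comp_id]⟩
  hom_inv_id := FSch.Hom.ext (funext fun n => IsIso.hom_inv_id _)
  inv_hom_id := FSch.Hom.ext (funext fun n => IsIso.inv_hom_id _)

variable (𝔛 : FSch.Sys.{u})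

theorem isAffine_level (hF : 𝔛.IsFormal) (hA : 𝔛.IsAdic) [IsAffine (𝔛.X 0)] (n : ℕ) :
    IsAffine (𝔛.X n) := by
  haveI := isClosedImmersion_toX hF n
  haveI : IsAffine (𝔛.toX n).ker.subscheme := IsAffine.of_isIso (inv (𝔛.toX n).toImage)
  exact Groth.Agent.Lib.Helper22.SqZero.isAffine_of_pow_eq_bot _ (n + 1)
    (ker_toX_pow_eq_bot hF hA n)

/-- the ring of global sections at level `n` -/
abbrev Rn (n : ℕ) : Type u := Γ(𝔛.X n, ⊤)

/-- the transition ring maps -/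
noncomputable def πn (n : ℕ) : Rn 𝔛 (n + 1) →+* Rn 𝔛 n := (𝔛.ι n).appTop.hom

theorem tr_eq (n : ℕ) : tr (Rn 𝔛) (πn 𝔛) (Nat.zero_le n) = (𝔛.toX n).appTop.hom := by
  induction n with
  | zero =>
    rw [tr_self]
    show _ = (Scheme.Hom.appTop (𝟙 (𝔛.X 0))).hom
    simp
  | succ n ih =>
    rw [tr_succ (Rn 𝔛) (πn 𝔛) (Nat.zero_le n), ih]
    show _ = (Scheme.Hom.appTop (𝔛.toX n ≫ 𝔛.ι n)).hom
    rw [Scheme.Hom.comp_appTop, CommRingCat.hom_comp]
    rfl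

section main

variable (hF : 𝔛.IsFormal) (hA : 𝔛.IsAdic)

include hF in
theorem πn_surjective [∀ n, IsAffine (𝔛.X n)] (n : ℕ) : Function.Surjective (πn 𝔛 n) := by
  haveI := (hF n).1
  exact (IsClosedImmersion.isAffine_surjective_of_isAffine (𝔛.ι n)).2

include hF hA in
theorem ker_πn [∀ n, IsAffine (𝔛.X n)] (n : ℕ) :
    RingHom.ker (πn 𝔛 n) = (I (Rn 𝔛) (πn 𝔛) (n + 1)) ^ (n + 1) := by
  haveI := (hF n).1
  haveI := isClosedImmersion_toX hF (n + 1)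
  have h1 := congrArg (fun J => Scheme.IdealSheafData.ideal J ⟨⊤, isAffineOpen_top _⟩) (hA n)
  simp only [Scheme.IdealSheafData.ideal_pow, Pi.pow_apply, Scheme.Hom.ker_apply] at h1
  rw [I, tr_eq]
  exact h1

include hF hA in
theorem exists_iso_spf [IsAffine (𝔛.X 0)] [IsLocallyNoetherian (𝔛.X 0)]
    (hft : FSch.IdealFT (𝔛.ι 0).ker) :
    ∃ (A : Type u) (_ : CommRing A) (J : Ideal A),
      IsNoetherianRing A ∧ IsAdicComplete J A ∧ Nonempty (𝔛 ≅ FSch.spf A J) := by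
  haveI : ∀ n, IsAffine (𝔛.X n) := isAffine_level 𝔛 hF hA
  have hsurj := πn_surjective 𝔛 hF
  have hker := ker_πn 𝔛 hF hA
  haveI : IsNoetherianRing (Rn 𝔛 0) :=
    IsLocallyNoetherian.component_noetherian ⟨⊤, isAffineOpen_top _⟩
  have hfg : (I (Rn 𝔛) (πn 𝔛) 1).FG := by
    haveI := (hF 0).1
    have h1 := hft ⟨⊤, isAffineOpen_top _⟩
    rw [Scheme.Hom.ker_apply] at h1
    rw [I, tr_succ_self]
    exact h1
  refine ⟨limRing (Rn 𝔛) (πn 𝔛), inferInstance, K (Rn 𝔛) (πn 𝔛) 0,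
    isNoetherianRing hsurj hker hfg, isAdicComplete hsurj hker hfg, ⟨?_⟩⟩
  -- the ring isomorphisms
  let e : ∀ n, (limRing (Rn 𝔛) (πn 𝔛) ⧸ (K (Rn 𝔛) (πn 𝔛) 0) ^ (n + 1)) ≃+* Rn 𝔛 n := fun n =>
    (Ideal.quotEquivOfEq (K_eq_pow hsurj hker hfg n).symm).trans (quotEquiv hsurj n)
  have he : ∀ n a, e n (Ideal.Quotient.mk _ a) = p (Rn 𝔛) (πn 𝔛) n a := fun n a => rfl
  let φ : 𝔛 ⟶ FSch.spf (limRing (Rn 𝔛) (πn 𝔛)) (K (Rn 𝔛) (πn 𝔛) 0) :=
    ⟨fun n => (𝔛.X n).isoSpec.hom ≫ Spec.map (CommRingCat.ofHom (e n).toRingHom), fun n => by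
      show ((𝔛.X n).isoSpec.hom ≫ Spec.map (CommRingCat.ofHom (e n).toRingHom)) ≫
        Spec.map (CommRingCat.ofHom (Ideal.Quotient.factor
          (Ideal.pow_le_pow_right (Nat.le_succ (n + 1))))) =
        𝔛.ι n ≫ (𝔛.X (n + 1)).isoSpec.hom ≫
          Spec.map (CommRingCat.ofHom (e (n + 1)).toRingHom)
      rw [← Scheme.isoSpec_hom_naturality_assoc, Category.assoc, ← Spec.map_comp,
        ← Spec.map_comp]
      congr 2
      ext a
      show e n (Ideal.Quotient.factor (Ideal.pow_le_pow_right (Nat.le_succ (n + 1)))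
          (Ideal.Quotient.mk ((K (Rn 𝔛) (πn 𝔛) 0) ^ (n + 1 + 1)) a)) =
        πn 𝔛 n (e (n + 1) (Ideal.Quotient.mk ((K (Rn 𝔛) (πn 𝔛) 0) ^ (n + 1 + 1)) a))
      rw [Ideal.Quotient.factor_mk, he, he, π_p]⟩
  refine isoOfApp φ (fun n => ?_)
  show IsIso ((𝔛.X n).isoSpec.hom ≫ Spec.map (CommRingCat.ofHom (e n).toRingHom))
  haveI : IsIso (CommRingCat.ofHom (e n).toRingHom) :=
    (e n).toCommRingCatIso.isIso_hom
  infer_instance

end main

end Groth.Agent.Lib.R2H2.SpfIso
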