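import Mathlib
import Groth.Agent.S3869
import Groth.Agent.Lib.Helper19ComplFlatMap
import Groth.Agent.Lib.Helper2NoethDesc

/-!
# The stalk ring `A_{S}` of a formal spectrum (helper2, run 2)

* `flat_of_directed_union`: a ring flat over each member of a directed family of rings is flat over
  the union of their images;
* `flat_cAtPrime_stalkSubring`, `faithfullyFlat_cAtPrime_stalkSubring`: `A{S⁻¹}` is (faithfully)
  flat over `A_{S}` (EGA 0_I 7.6.18);
* `isNoetherianRing_stalkSubring`: `A_{S}` is Noetherian (EGA 0_I 7.6.18).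
-/
set_option autoImplicit false
universe u v

namespace Groth.Agent.Lib.R2H2.StalkFlat

section General

/-- a finite family in a directed union of subrings lies in one of them -/
theorem exists_forall_mem_of_directed {B : Type u} [CommRing B] {ι : Type v} [Nonempty ι]
    (S : ι → Subring B) (hdir : Directed (· ≤ ·) S) {l : ℕ} (f : Fin l → B)
    (hf : ∀ j, f j ∈ ⨆ i, S i) : ∃ i, ∀ j, f j ∈ S i := by
  induction l with
  | zero => exact ⟨Classical.arbitrary ι, fun j => j.elim0⟩
  | succ n ih =>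
    obtain ⟨i₁, h₁⟩ := ih (fun j => f j.succ) (fun j => hf j.succ)
    obtain ⟨i₂, h₂⟩ := (Subring.mem_iSup_of_directed hdir).mp (hf 0)
    obtain ⟨i₃, h13, h23⟩ := hdir i₁ i₂
    refine ⟨i₃, fun j => ?_⟩
    refine Fin.cases ?_ (fun j' => ?_) j
    · exact h23 h₂
    · exact h13 (h₁ j')

/-- a ring which is flat over each member of a directed family of rings mapping to `B` is flat
over the union of their images -/
theorem flat_of_directed_union {B : Type u} [CommRing B] {ι : Type v} [Nonempty ι]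
    (C : ι → Type u) [∀ i, CommRing (C i)] (φ : ∀ i, C i →+* B)
    (hdir : Directed (· ≤ ·) (fun i => (φ i).range))
    (hflat : ∀ i, (φ i).Flat) : Module.Flat (↥(⨆ i, (φ i).range)) B := by
  apply Module.Flat.of_forall_isTrivialRelation
  intro l f x hfx
  obtain ⟨i, hi⟩ := exists_forall_mem_of_directed (fun i => (φ i).range) hdir
    (fun j => (f j : B)) (fun j => (f j).2)
  choose c hc using hi
  letI := (φ i).toAlgebra
  haveI : Module.Flat (C i) B := hflat i
  have hsum : ∑ j, c j • x j = 0 := by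
    rw [← hfx]
    refine Finset.sum_congr rfl (fun j _ => ?_)
    rw [Algebra.smul_def]
    change φ i (c j) * x j = (f j : B) * x j
    rw [hc j]
  obtain ⟨k, a, y, h1, h2⟩ := Module.Flat.isTrivialRelation_of_sum_smul_eq_zero (R := C i) (M := B)
    (f := c) (x := x) hsum
  refine ⟨k, fun j m => ⟨φ i (a j m), ?_⟩, y, ?_, ?_⟩
  · exact (le_iSup (fun i => (φ i).range) i) ⟨a j m, rfl⟩
  · intro j
    rw [h1 j]
    refine Finset.sum_congr rfl (fun m _ => ?_)
    rw [Algebra.smul_def]
    rfl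
  · intro m
    apply Subtype.ext
    have := congrArg (φ i) (h2 m)
    rw [map_sum, map_zero] at this
    simp only [map_mul, hc] at this
    rw [Subring.coe_zero, ← this]
    push_cast
    rfl

end General

section Stalk

open Groth.Agent.S3869

variable (A : Type u) [CommRing A] (J : Ideal A) (𝔭 : Ideal A) [𝔭.IsPrime]

/-- `A_f → A_𝔭` is flat. -/
theorem flat_awayToAtPrime (f : A) (hf : f ∉ 𝔭) : (FSch.awayToAtPrime A 𝔭 f hf).Flat := by
  letI : Algebra (Localization.Away f) (Localization.AtPrime 𝔭) :=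
    (FSch.awayToAtPrime A 𝔭 f hf).toAlgebra
  haveI : IsScalarTower A (Localization.Away f) (Localization.AtPrime 𝔭) :=
    IsScalarTower.of_algebraMap_eq fun a => (awayToAtPrime_algebraMap A 𝔭 f hf a).symm
  have hle : Submonoid.powers f ≤ 𝔭.primeCompl := by
    rintro _ ⟨n, rfl⟩
    exact fun h => hf (Ideal.IsPrime.mem_of_pow_mem ‹_› n h)
  haveI : IsLocalization (𝔭.primeCompl.map (algebraMap A (Localization.Away f)))
      (Localization.AtPrime 𝔭) :=
    IsLocalization.isLocalization_of_submonoid_le (Localization.Away f) (Localization.AtPrime 𝔭)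
      (Submonoid.powers f) 𝔭.primeCompl hle
  change Module.Flat (Localization.Away f) (Localization.AtPrime 𝔭)
  exact IsLocalization.flat (Localization.AtPrime 𝔭)
    (𝔭.primeCompl.map (algebraMap A (Localization.Away f)))

theorem map_awayToAtPrime_eq (f : A) (hf : f ∉ 𝔭) :
    (J.map (algebraMap A (Localization.Away f))).map (FSch.awayToAtPrime A 𝔭 f hf) =
      J.map (algebraMap A (Localization.AtPrime 𝔭)) := by
  rw [Ideal.map_map]
  congr 1
  ext a
  simp [FSch.awayToAtPrime]

/-- `A_{f} → A{S⁻¹}` is flat. -/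
theorem flat_cAwayToAtPrime [IsNoetherianRing A] (f : A) (hf : f ∉ 𝔭) :
    (FSch.cAwayToAtPrime A J 𝔭 f hf).Flat := by
  haveI : IsNoetherianRing (Localization.Away f) :=
    IsLocalization.isNoetherianRing (Submonoid.powers f) _ inferInstance
  haveI : IsNoetherianRing (Localization.AtPrime 𝔭) :=
    IsLocalization.isNoetherianRing 𝔭.primeCompl _ inferInstance
  unfold FSch.cAwayToAtPrime
  exact Groth.Agent.Lib.Helper19.complMap_flat _ _ _ (flat_awayToAtPrime A 𝔭 f hf)
    (map_awayToAtPrime_eq A J 𝔭 f hf)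

/-- `A{S⁻¹}` is flat over `A_{S}`. -/
theorem flat_cAtPrime_stalkSubring [IsNoetherianRing A] :
    Module.Flat (FSch.stalkSubring A J 𝔭) (FSch.cAtPrime A J 𝔭) := by
  haveI : Nonempty {f : A // f ∉ 𝔭} :=
    ⟨⟨1, fun h => (Ideal.IsPrime.ne_top ‹_›) ((Ideal.eq_top_iff_one _).mpr h)⟩⟩
  exact flat_of_directed_union (fun f : {f : A // f ∉ 𝔭} => FSch.cAway A J f.1)
    (fun f => FSch.cAwayToAtPrime A J 𝔭 f.1 f.2) (directed_ranges A J 𝔭)
    (fun f => flat_cAwayToAtPrime A J 𝔭 f.1 f.2)

/-- **EGA 0_I 7.6.18**: `A{S⁻¹}` is faithfully flat over `A_{S}`. -/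
theorem faithfullyFlat_cAtPrime_stalkSubring [IsNoetherianRing A] (hJ : J ≤ 𝔭) :
    Module.FaithfullyFlat (FSch.stalkSubring A J 𝔭) (FSch.cAtPrime A J 𝔭) := by
  haveI := flat_cAtPrime_stalkSubring A J 𝔭
  haveI : IsLocalRing (FSch.cAtPrime A J 𝔭) := isLocalRing_cAtPrime A J 𝔭 hJ
  haveI : IsLocalRing (FSch.stalkSubring A J 𝔭) := (Groth.Agent.S3869.result A J 𝔭 hJ).1
  haveI : IsLocalHom (algebraMap (FSch.stalkSubring A J 𝔭) (FSch.cAtPrime A J 𝔭)) :=
    isLocalHom_subtype A J 𝔭 hJ
  exact Module.FaithfullyFlat.of_flat_of_isLocalHom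

/-- **EGA 0_I 7.6.18**: `A_{S}` is Noetherian. -/
theorem isNoetherianRing_stalkSubring [IsNoetherianRing A] (hJ : J ≤ 𝔭) :
    IsNoetherianRing (FSch.stalkSubring A J 𝔭) := by
  haveI := faithfullyFlat_cAtPrime_stalkSubring A J 𝔭 hJ
  haveI : IsNoetherianRing (Localization.AtPrime 𝔭) :=
    IsLocalization.isNoetherianRing 𝔭.primeCompl _ inferInstance
  haveI : IsNoetherianRing (FSch.cAtPrime A J 𝔭) :=
    Groth.Agent.Lib.Helper19.isNoetherianRing_adicCompletion _
  exact Groth.Agent.Lib.Helper2.NoethDesc.isNoetherianRing_of_faithfullyFlat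
    (S := FSch.cAtPrime A J 𝔭)

end Stalk

end Groth.Agent.Lib.R2H2.StalkFlat
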