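import Groth.Agent.Lib.R2H2LocPsh

/-!
# ℤ-gradings on modules and the graded strands of localizations (helper2, round 2)

For an `ℕ`-graded ring `A` and an `A`-module `N` with a `ℤ`-grading by additive subgroups
(`ZGr`), the degree-`d` strand of the localization `S⁻¹ N` consists of the fractions `m / s` with
`m`, `s` homogeneous and `deg m = deg s + d`.  If `S` consists of homogeneous elements the strands
form an internal direct sum decomposition of `S⁻¹ N` (`ZGr.loc`).
-/

set_option autoImplicit false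
set_option linter.unusedSectionVars false
set_option linter.style.haveILetI false
universe u

namespace Groth.Agent.Lib.R2H2.Strand

open Groth.Agent.Lib.R2H2.LocPsh

section General

variable {N : Type*} [AddCommGroup N]

/-- elementary criterion for an internal direct sum over `ℤ` -/
theorem isInternal_of (pc : ℤ → AddSubgroup N)
    (hsum : ∀ n : N, ∃ (s : Finset ℤ) (c : ℤ → N), (∀ j, c j ∈ pc j) ∧ n = ∑ j ∈ s, c j)
    (hind : ∀ (s : Finset ℤ) (c : ℤ → N), (∀ j, c j ∈ pc j) → ∑ j ∈ s, c j = 0 →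
      ∀ j ∈ s, c j = 0) :
    DirectSum.IsInternal pc := by
  classical
  constructor
  · rw [injective_iff_map_eq_zero]
    intro x hx
    rw [DirectSum.coeAddMonoidHom_eq_dfinsuppSum] at hx
    have h1 : ∀ j ∈ x.support, ((x j : pc j) : N) = 0 := by
      apply hind x.support (fun j => ((x j : pc j) : N)) (fun j => (x j).2)
      exact hx
    apply DFinsupp.ext
    intro j
    by_cases hj : j ∈ x.support
    · exact Subtype.ext (h1 j hj)
    · rw [DFinsupp.mem_support_toFun, not_not] at hj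
      exact hj
  · intro n
    obtain ⟨s, c, hc, rfl⟩ := hsum n
    refine ⟨∑ j ∈ s, DirectSum.of (fun j => pc j) j ⟨c j, hc j⟩, ?_⟩
    rw [map_sum]
    refine Finset.sum_congr rfl (fun j _ => ?_)
    exact DirectSum.coeAddMonoidHom_of pc j ⟨c j, hc j⟩

end General

variable {R A : Type u} [CommRing R] [CommRing A] [Algebra R A] (𝒜 : ℕ → Submodule R A)
  [GradedAlgebra 𝒜]

/-- a `ℤ`-grading of an `A`-module by additive subgroups, compatible with the grading of `A` -/
structure ZGr (N : Type u) [AddCommGroup N] [Module A N] where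
  pc : ℤ → AddSubgroup N
  smul_mem : ∀ {i : ℕ} {j : ℤ} {a : A} {n : N}, a ∈ 𝒜 i → n ∈ pc j → a • n ∈ pc (i + j)
  internal : DirectSum.IsInternal pc

namespace ZGr

variable {𝒜} {N : Type u} [AddCommGroup N] [Module A N] (G : ZGr 𝒜 N)

lemma mem_of_eq {n : N} {i i' : ℤ} (h : n ∈ G.pc i) (e : i = i') : n ∈ G.pc i' := e ▸ h

/-- the projection to the degree-`d` component -/
noncomputable def comp (d : ℤ) : N →+ N :=
  letI := G.internal.chooseDecomposition
  { toFun := fun n => (DirectSum.decompose G.pc n d : N)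
    map_zero' := by
      rw [DirectSum.decompose_zero]
      rfl
    map_add' := fun x y => by
      rw [DirectSum.decompose_add]
      rfl }

lemma comp_mem (d : ℤ) (n : N) : G.comp d n ∈ G.pc d :=
  letI := G.internal.chooseDecomposition
  (DirectSum.decompose G.pc n d).2

lemma comp_of_mem {d : ℤ} {n : N} (h : n ∈ G.pc d) : G.comp d n = n :=
  letI := G.internal.chooseDecomposition
  DirectSum.decompose_of_mem_same G.pc h

lemma comp_of_mem_ne {d e : ℤ} {n : N} (h : n ∈ G.pc e) (hne : e ≠ d) : G.comp d n = 0 :=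
  letI := G.internal.chooseDecomposition
  DirectSum.decompose_of_mem_ne G.pc h hne

lemma exists_sum (n : N) : ∃ s : Finset ℤ, n = ∑ j ∈ s, G.comp j n := by
  classical
  letI := G.internal.chooseDecomposition
  exact ⟨(DirectSum.decompose G.pc n).support, (DirectSum.sum_support_decompose G.pc n).symm⟩

lemma comp_sum_of_mem (s : Finset ℤ) (c : ℤ → N) (hc : ∀ j, c j ∈ G.pc j) (d : ℤ) :
    G.comp d (∑ j ∈ s, c j) = if d ∈ s then c d else 0 := by
  classical
  rw [map_sum]
  split_ifs with hd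
  · rw [Finset.sum_eq_single d]
    · exact G.comp_of_mem (hc d)
    · intro j _ hj
      exact G.comp_of_mem_ne (hc j) hj
    · intro h
      exact absurd hd h
  · apply Finset.sum_eq_zero
    intro j hj
    apply G.comp_of_mem_ne (hc j)
    rintro rfl
    exact hd hj

lemma eq_zero_of_sum_eq_zero (s : Finset ℤ) (c : ℤ → N) (hc : ∀ j, c j ∈ G.pc j)
    (h : ∑ j ∈ s, c j = 0) : ∀ j ∈ s, c j = 0 := by
  intro j hj
  have h1 := G.comp_sum_of_mem s c hc j
  rw [h, map_zero, if_pos hj] at h1
  exact h1.symm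

/-- the shifted version of independence -/
lemma eq_zero_of_sum_eq_zero_shift (k : ℤ) (s : Finset ℤ) (c : ℤ → N)
    (hc : ∀ j, c j ∈ G.pc (k + j)) (h : ∑ j ∈ s, c j = 0) : ∀ j ∈ s, c j = 0 := by
  classical
  have hinj : Function.Injective (fun j : ℤ => k + j) := fun a b hab => by
    simpa using hab
  have h2 : ∑ e ∈ s.image (fun j : ℤ => k + j), c (e - k) = 0 := by
    rw [Finset.sum_image (fun a _ b _ hab => hinj hab)]
    rw [← h]
    refine Finset.sum_congr rfl (fun j _ => ?_)
    congr 1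
    ring
  have h3 := G.eq_zero_of_sum_eq_zero (s.image (fun j : ℤ => k + j)) (fun e => c (e - k))
    (fun e => G.mem_of_eq (hc (e - k)) (by ring)) h2
  intro j hj
  have h4 := h3 (k + j) (Finset.mem_image_of_mem _ hj)
  have e1 : k + j - k = j := by ring
  rw [e1] at h4
  exact h4

end ZGr

section Hom

variable {𝒜} {N N' : Type u} [AddCommGroup N] [Module A N] [AddCommGroup N'] [Module A N']

/-- an additive map preserving the pieces commutes with the projections -/
theorem comp_map (G : ZGr 𝒜 N) (G' : ZGr 𝒜 N') (φ : N →+ N')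
    (hφ : ∀ (d : ℤ) (n : N), n ∈ G.pc d → φ n ∈ G'.pc d) (d : ℤ) (n : N) :
    φ (G.comp d n) = G'.comp d (φ n) := by
  classical
  obtain ⟨s, hs⟩ := G.exists_sum n
  have h1 : φ n = ∑ j ∈ s, φ (G.comp j n) := by
    conv_lhs => rw [hs]
    rw [map_sum]
  rw [h1, G'.comp_sum_of_mem s (fun j => φ (G.comp j n)) (fun j => hφ j _ (G.comp_mem j n))]
  split_ifs with hd
  · rfl
  · have h2 : G.comp d n = 0 := by
      have h3 := G.comp_sum_of_mem s (fun j => G.comp j n) (fun j => G.comp_mem j n) d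
      rw [← hs, if_neg hd] at h3
      exact h3
    rw [h2, map_zero]

end Hom

section Strand

variable {N : Type u} [AddCommGroup N] [Module A N]

/-- the submonoid of homogeneous elements -/
def homSub : Submonoid A where
  carrier := {a | ∃ j : ℕ, a ∈ 𝒜 j}
  one_mem' := ⟨0, SetLike.GradedOne.one_mem⟩
  mul_mem' := by
    rintro a b ⟨i, hi⟩ ⟨j, hj⟩
    exact ⟨i + j, SetLike.mul_mem_graded hi hj⟩

variable {𝒜}

/-- the additive map `m ↦ m / s` -/
noncomputable def mkHom (S : Submonoid A) (s : S) : N →+ LocalizedModule S N where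
  toFun m := LocalizedModule.mk m s
  map_zero' := LocalizedModule.zero_mk s
  map_add' m m' := by
    rw [IsLocalizedModule.mk_eq_mk', IsLocalizedModule.mk_eq_mk', IsLocalizedModule.mk_eq_mk',
      IsLocalizedModule.mk'_add]

lemma mkHom_apply (S : Submonoid A) (s : S) (m : N) : mkHom S s m = LocalizedModule.mk m s := rfl

/-- the degree-`d` strand of the localization -/
def strand (G : ZGr 𝒜 N) (S : Submonoid A) (d : ℤ) : AddSubgroup (LocalizedModule S N) where
  carrier := {z | ∃ (i : ℤ) (j : ℕ) (m : N) (s : S), m ∈ G.pc i ∧ (s : A) ∈ 𝒜 j ∧ i = j + d ∧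
    z = LocalizedModule.mk m s}
  zero_mem' := ⟨d, 0, 0, 1, zero_mem _, SetLike.GradedOne.one_mem, by simp,
    (LocalizedModule.zero_mk 1).symm⟩
  add_mem' := by
    rintro _ _ ⟨i, j, m, s, hm, hs, hij, rfl⟩ ⟨i', j', m', s', hm', hs', hij', rfl⟩
    refine ⟨((j + j' : ℕ) : ℤ) + d, j + j', s' • m + s • m', s * s', ?_, ?_, rfl, ?_⟩
    · refine add_mem ?_ ?_
      · exact G.mem_of_eq (G.smul_mem hs' hm) (by rw [hij]; push_cast; ring)
      · exact G.mem_of_eq (G.smul_mem hs hm') (by rw [hij']; push_cast; ring)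
    · exact SetLike.mul_mem_graded hs hs'
    · exact LocalizedModule.mk_add_mk
  neg_mem' := by
    rintro _ ⟨i, j, m, s, hm, hs, hij, rfl⟩
    exact ⟨i, j, -m, s, neg_mem hm, hs, hij, LocalizedModule.mk_neg.symm⟩

lemma mk_mem_strand (G : ZGr 𝒜 N) (S : Submonoid A) {d i : ℤ} {j : ℕ} {m : N} {s : S}
    (hm : m ∈ G.pc i) (hs : (s : A) ∈ 𝒜 j) (hij : i = j + d) :
    LocalizedModule.mk m s ∈ strand G S d := ⟨i, j, m, s, hm, hs, hij, rfl⟩

lemma locMap_mem_strand (G : ZGr 𝒜 N) {S S' : Submonoid A} (h : S ≤ S') {d : ℤ}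
    {z : LocalizedModule S N} (hz : z ∈ strand G S d) : locMap N h z ∈ strand G S' d := by
  obtain ⟨i, j, m, s, hm, hs, hij, rfl⟩ := hz
  rw [locMap_mk]
  exact ⟨i, j, m, ⟨s.1, h s.2⟩, hm, hs, hij, rfl⟩

lemma nMap_mem_strand {N' : Type u} [AddCommGroup N'] [Module A N'] (G : ZGr 𝒜 N)
    (G' : ZGr 𝒜 N') (g : N →ₗ[A] N') (hg : ∀ (d : ℤ) (n : N), n ∈ G.pc d → g n ∈ G'.pc d)
    (S : Submonoid A) {d : ℤ} {z : LocalizedModule S N} (hz : z ∈ strand G S d) :
    nMap S g z ∈ strand G' S d := by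
  obtain ⟨i, j, m, s, hm, hs, hij, rfl⟩ := hz
  rw [nMap_mk]
  exact ⟨i, j, g m, s, hg i m hm, hs, hij, rfl⟩

/-- common denominators -/
lemma exists_common (G : ZGr 𝒜 N) (S : Submonoid A) (t : Finset ℤ)
    (z : ℤ → LocalizedModule S N) (hz : ∀ d ∈ t, z d ∈ strand G S d) :
    ∃ (j : ℕ) (s : S) (m : ℤ → N), (s : A) ∈ 𝒜 j ∧
      ∀ d ∈ t, m d ∈ G.pc (j + d) ∧ z d = LocalizedModule.mk (m d) s := by
  classical
  induction t using Finset.induction_on with
  | empty =>
    exact ⟨0, 1, fun _ => 0, SetLike.GradedOne.one_mem, fun d hd => absurd hd (Finset.notMem_empty d)⟩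
  | insert d₀ t hd₀ ih =>
    obtain ⟨j, s, m, hs, hm⟩ := ih (fun d hd => hz d (Finset.mem_insert_of_mem hd))
    obtain ⟨i₀, j₀, m₀, s₀, hm₀, hs₀, hij₀, hz₀⟩ := hz d₀ (Finset.mem_insert_self d₀ t)
    refine ⟨j₀ + j, s₀ * s, fun d => if d = d₀ then s • m₀ else s₀ • m d,
      SetLike.mul_mem_graded hs₀ hs, ?_⟩
    intro d hd
    by_cases hdd : d = d₀
    · subst hdd
      dsimp only
      rw [if_pos rfl]
      constructor
      · exact G.mem_of_eq (G.smul_mem hs hm₀) (by rw [hij₀]; push_cast; ring)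
      · rw [hz₀]
        exact (LocalizedModule.mk_cancel_common_right s₀ s m₀).symm
    · dsimp only
      rw [if_neg hdd]
      have hdt : d ∈ t := (Finset.mem_insert.mp hd).resolve_left hdd
      obtain ⟨h1, h2⟩ := hm d hdt
      constructor
      · exact G.mem_of_eq (G.smul_mem hs₀ h1) (by push_cast; ring)
      · rw [h2]
        exact (LocalizedModule.mk_cancel_common_left s₀ s (m d)).symm

theorem strand_internal (G : ZGr 𝒜 N) (S : Submonoid A) (hS : S ≤ homSub 𝒜) :
    DirectSum.IsInternal (strand G S) := by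
  classical
  apply isInternal_of
  · intro z
    induction z with | _ m s
    obtain ⟨j, hj⟩ := hS s.2
    obtain ⟨t, ht⟩ := G.exists_sum m
    refine ⟨t.image (fun i : ℤ => i - j), fun d => LocalizedModule.mk (G.comp (j + d) m) s,
      fun d => mk_mem_strand G S (G.comp_mem _ m) hj rfl, ?_⟩
    rw [Finset.sum_image (fun a _ b _ (hab : a - (j : ℤ) = b - j) => by linarith)]
    have h1 : ∀ i ∈ t, LocalizedModule.mk (G.comp ((j : ℤ) + (i - j)) m) s =
        mkHom S s (G.comp i m) := by
      intro i _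
      have e : (j : ℤ) + (i - j) = i := by ring
      rw [e]
      rfl
    rw [Finset.sum_congr rfl h1, ← map_sum, ← ht]
    rfl
  · intro t c hc h
    obtain ⟨j, s, m, hs, hm⟩ := exists_common G S t c (fun d _ => hc d)
    have h1 : ∑ d ∈ t, c d = mkHom S s (∑ d ∈ t, m d) := by
      rw [map_sum]
      exact Finset.sum_congr rfl (fun d hd => (hm d hd).2)
    rw [h1, mkHom_apply, mk_eq_zero_iff] at h
    obtain ⟨u, hu⟩ := h
    obtain ⟨k, hk⟩ := hS u.2
    have hu' : ∑ d ∈ t, (u : A) • (if d ∈ t then m d else 0) = 0 := by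
      have h2 : (u : A) • ∑ d ∈ t, m d = 0 := hu
      rw [Finset.smul_sum] at h2
      rw [← h2]
      exact Finset.sum_congr rfl (fun d hd => by rw [if_pos hd])
    have h3 := G.eq_zero_of_sum_eq_zero_shift ((k : ℤ) + j) t
      (fun d => (u : A) • (if d ∈ t then m d else 0)) (fun d => by
        split_ifs with hd
        · exact G.mem_of_eq (G.smul_mem hk (hm d hd).1) (by ring)
        · rw [smul_zero]
          exact zero_mem _) hu'
    intro d hd
    have h4 := h3 d hd
    rw [if_pos hd] at h4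
    rw [(hm d hd).2]
    exact mk_eq_zero_of_smul S (m d) s u.1 u.2 h4

/-- the grading of the localization at a submonoid of homogeneous elements -/
noncomputable def ZGr.loc (G : ZGr 𝒜 N) (S : Submonoid A) (hS : S ≤ homSub 𝒜) :
    ZGr 𝒜 (LocalizedModule S N) where
  pc := strand G S
  smul_mem := by
    rintro i j a _ ha ⟨i', j', m, s, hm, hs, hij, rfl⟩
    rw [smul_mk']
    exact ⟨i + i', j', a • m, s, G.smul_mem ha hm, hs, by rw [hij]; ring, rfl⟩
  internal := strand_internal G S hS

lemma comp_loc_locMap (G : ZGr 𝒜 N) {S S' : Submonoid A} (hS : S ≤ homSub 𝒜)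
    (hS' : S' ≤ homSub 𝒜) (h : S ≤ S') (d : ℤ) (z : LocalizedModule S N) :
    locMap N h ((G.loc S hS).comp d z) = (G.loc S' hS').comp d (locMap N h z) :=
  comp_map (G.loc S hS) (G.loc S' hS') (locMap N h).toAddMonoidHom
    (fun _ _ hz => locMap_mem_strand G h hz) d z

lemma comp_loc_nMap {N' : Type u} [AddCommGroup N'] [Module A N'] (G : ZGr 𝒜 N)
    (G' : ZGr 𝒜 N') (g : N →ₗ[A] N') (hg : ∀ (d : ℤ) (n : N), n ∈ G.pc d → g n ∈ G'.pc d)
    (S : Submonoid A) (hS : S ≤ homSub 𝒜) (d : ℤ) (z : LocalizedModule S N) :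
    nMap S g ((G.loc S hS).comp d z) = (G'.loc S hS).comp d (nMap S g z) :=
  comp_map (G.loc S hS) (G'.loc S hS) (nMap S g).toAddMonoidHom
    (fun _ _ hz => nMap_mem_strand G G' g hg S hz) d z

end Strand

end Groth.Agent.Lib.R2H2.Strand
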