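import Groth.Agent.Lib.R2H2StrandCech

/-!
# The Čech complex of localizations is the direct sum of its strands (helper2, round 2)
-/

set_option autoImplicit false
set_option linter.unusedSectionVars false
universe u

namespace Groth.Agent.Lib.R2H2.StrandSum

open CategoryTheory CategoryTheory.Limits Opposite DirectSum
open Groth.Agent.Lib.Helper16.CechLow Groth.Agent.Lib.R2H2.LocPsh Groth.Agent.Lib.R2H2.CechCmp
  Groth.Agent.Lib.R2H2.Strand Groth.Agent.Lib.R2H2.StrandCech

section Abstract

variable {ι : Type} [DecidableEq ι] (K : CochainComplex AddCommGrpCat.{u} ℕ)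
  (L : ι → CochainComplex AddCommGrpCat.{u} ℕ) (i : ∀ d, L d ⟶ K) (π : ∀ d, K ⟶ L d) (p : ℕ)

/-- the sum of the maps induced in cohomology -/
noncomputable def sumMap :
    (⨁ d, ((L d).homology p : AddCommGrpCat.{u})) →+ (K.homology p : AddCommGrpCat.{u}) :=
  DirectSum.toAddMonoid (fun d => (HomologicalComplex.homologyMap (i d) p).hom)

lemma sumMap_of (d : ι) (h : ((L d).homology p : AddCommGrpCat.{u})) :
    sumMap K L i p (DirectSum.of _ d h) = HomologicalComplex.homologyMap (i d) p h :=
  DirectSum.toAddMonoid_of _ _ _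

variable (h1 : ∀ d, i d ≫ π d = 𝟙 _) (h2 : ∀ d d', d ≠ d' → i d ≫ π d' = 0)

include h1 h2 in
lemma proj_sumMap (d' : ι) (t : ⨁ d, ((L d).homology p : AddCommGrpCat.{u})) :
    HomologicalComplex.homologyMap (π d') p (sumMap K L i p t) = t d' := by
  have key : (HomologicalComplex.homologyMap (π d') p).hom.comp (sumMap K L i p) =
      DFinsupp.evalAddMonoidHom d' := by
    apply DirectSum.addHom_ext
    intro d h
    rw [AddMonoidHom.comp_apply, sumMap_of]
    change (HomologicalComplex.homologyMap (i d) p ≫ HomologicalComplex.homologyMap (π d') p) h =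
      (DirectSum.of (fun d => ((L d).homology p : AddCommGrpCat.{u})) d h) d'
    rw [← HomologicalComplex.homologyMap_comp]
    by_cases hd : d = d'
    · subst hd
      rw [h1, HomologicalComplex.homologyMap_id, DirectSum.of_eq_same]
      rfl
    · rw [h2 d d' hd, HomologicalComplex.homologyMap_zero, DirectSum.of_eq_of_ne _ _ _ (Ne.symm hd)]
      rfl
  exact DFunLike.congr_fun key t

include h1 h2 in
lemma sumMap_injective : Function.Injective (sumMap K L i p) := by
  rw [injective_iff_map_eq_zero]
  intro t ht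
  apply DFinsupp.ext
  intro d'
  rw [← proj_sumMap K L i π p h1 h2 d' t, ht, map_zero]
  rfl

variable (h3 : ∀ c : K.X p, ∃ s : Finset ι, c = ∑ d ∈ s, (i d).f p ((π d).f p c))

include h3 in
lemma sumMap_surjective : Function.Surjective (sumMap K L i p) := by
  intro h
  have hsurj : Function.Surjective (K.homologyπ p) :=
    (AddCommGrpCat.epi_iff_surjective _).mp inferInstance
  have hinj : Function.Injective (K.iCycles p) :=
    (AddCommGrpCat.mono_iff_injective _).mp inferInstance
  obtain ⟨z, rfl⟩ := hsurj h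
  obtain ⟨s, hs⟩ := h3 (K.iCycles p z)
  have hz : z = ∑ d ∈ s, HomologicalComplex.cyclesMap (i d) p
      (HomologicalComplex.cyclesMap (π d) p z) := by
    apply hinj
    rw [map_sum]
    refine hs.trans (Finset.sum_congr rfl (fun d _ => ?_))
    have e1 : (K.iCycles p) (HomologicalComplex.cyclesMap (i d) p
        (HomologicalComplex.cyclesMap (π d) p z)) =
        (i d).f p ((L d).iCycles p (HomologicalComplex.cyclesMap (π d) p z)) :=
      ConcreteCategory.congr_hom (HomologicalComplex.cyclesMap_i (i d) p) _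
    have e2 : ((L d).iCycles p) (HomologicalComplex.cyclesMap (π d) p z) =
        (π d).f p (K.iCycles p z) :=
      ConcreteCategory.congr_hom (HomologicalComplex.cyclesMap_i (π d) p) _
    rw [e1, e2]
  refine ⟨∑ d ∈ s, DirectSum.of _ d ((L d).homologyπ p
    (HomologicalComplex.cyclesMap (π d) p z)), ?_⟩
  rw [map_sum]
  conv_rhs => rw [hz]
  rw [map_sum]
  refine Finset.sum_congr rfl (fun d _ => ?_)
  rw [sumMap_of]
  exact ConcreteCategory.congr_hom (HomologicalComplex.homologyπ_naturality (i d) p) _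

include h1 h2 h3 in
/-- cohomology of a complex which is the "direct sum" of retracts -/
theorem nonempty_sum_addEquiv :
    Nonempty ((⨁ d, ((L d).homology p : AddCommGrpCat.{u})) ≃+
      (K.homology p : AddCommGrpCat.{u})) :=
  ⟨AddEquiv.ofBijective (sumMap K L i p)
    ⟨sumMap_injective K L i π p h1 h2, sumMap_surjective K L i π p h3⟩⟩

end Abstract

section Cech

variable {R A : Type u} [CommRing R] [CommRing A] [Algebra R A] {𝒜 : ℕ → Submodule R A}
  [GradedAlgebra 𝒜]
variable (fs : List A) (hfs : ∀ a ∈ fs, a ∈ homSub 𝒜)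
variable {N : Type u} [AddCommGroup N] [Module A N] (G : ZGr 𝒜 N)

lemma exists_sum' {P : Type u} [AddCommGroup P] [Module A P] (H : ZGr 𝒜 P) (n : P) :
    ∃ s : Finset ℤ, ∀ s' : Finset ℤ, s ⊆ s' → n = ∑ j ∈ s', H.comp j n := by
  classical
  obtain ⟨s, hs⟩ := H.exists_sum n
  refine ⟨s, fun s' hss' => ?_⟩
  have h0 : ∀ j ∈ s' \ s, H.comp j n = 0 := by
    intro j hj
    rw [Finset.mem_sdiff] at hj
    have h1 := H.comp_sum_of_mem s (fun j => H.comp j n) (fun j => H.comp_mem j n) j
    rw [← hs, if_neg hj.2] at h1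
    exact h1
  rw [← Finset.sum_sdiff hss', Finset.sum_eq_zero h0, zero_add]
  exact hs

theorem inclC_projC_ne (d d' : ℤ) (h : d ≠ d') : inclC fs G d ≫ projC fs hfs G d' = 0 := by
  ext n c
  apply elt_ext (fam fs) (pshd G d') n
  intro x
  change pr (fam fs) (pshd G d') n x ((projC fs hfs G d').f n ((inclC fs G d).f n c)) =
    pr (fam fs) (pshd G d') n x 0
  rw [pr_projC, map_zero]
  apply sval_ext G
  rw [projT_coe, pr_inclC]
  exact (G.loc (SS fs x) (SS_le_homSub fs hfs x)).comp_of_mem_ne
    (sval_mem G (pr (fam fs) (pshd G d) n x c)) h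

theorem exists_finset_sum (p : ℕ) (c : (CN fs N).X p) :
    ∃ s : Finset ℤ, c = ∑ d ∈ s, (inclC fs G d).f p ((projC fs hfs G d).f p c) := by
  classical
  have hx : ∀ x : Fin (p + 1) → Idx fs, ∃ s : Finset ℤ, ∀ s' : Finset ℤ, s ⊆ s' →
      pr (fam fs) (psh (A := A) N) p x c = ∑ j ∈ s',
        (G.loc (SS fs x) (SS_le_homSub fs hfs x)).comp j (pr (fam fs) (psh (A := A) N) p x c) :=
    fun x => exists_sum' (G.loc (SS fs x) (SS_le_homSub fs hfs x)) _
  choose sx hsx using hx
  refine ⟨Finset.univ.biUnion sx, ?_⟩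
  apply elt_ext (fam fs) (psh (A := A) N) p
  intro x
  rw [map_sum]
  refine (hsx x _ (Finset.subset_biUnion_of_mem sx (Finset.mem_univ x))).trans
    (Finset.sum_congr rfl (fun d _ => ?_))
  rw [pr_inclC, pr_projC, projT_coe]

include hfs in
/-- the cohomology of the Čech complex of localizations is the direct sum of the cohomologies of
the strands -/
theorem nonempty_strand_sum (p : ℕ) :
    Nonempty ((⨁ d : ℤ, ((CNd fs G d).homology p : AddCommGrpCat.{u})) ≃+
      ((CN fs N).homology p : AddCommGrpCat.{u})) :=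
  nonempty_sum_addEquiv (CN fs N) (fun d => CNd fs G d) (fun d => inclC fs G d)
    (fun d => projC fs hfs G d) p (fun d => inclC_projC fs hfs G d)
    (fun d d' h => inclC_projC_ne fs hfs G d d' h) (exists_finset_sum fs hfs G p)

end Cech

end Groth.Agent.Lib.R2H2.StrandSum
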