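import Mathlib
import Groth.Agent.Lib.R2H2SubFamExt
import Groth.Agent.S9819

set_option autoImplicit false
set_option linter.style.haveILetI false
universe u v
open CategoryTheory CategoryTheory.Limits AlgebraicGeometry TopologicalSpace Opposite

namespace Groth.Agent.Lib.R2H2.SubFam

open Groth.Agent.Lib.Helper2.Push Groth.Agent.Lib.Helper23.QCohLocal
  Groth.Agent.Lib.Helper23.Extend Groth.Agent.Lib.Helper23.FinType Groth.Agent.Lib.Helper2.QCoh
  Groth.Agent.Lib.Helper23.ModLocal

/-- on a scheme with a well-ordered affine open cover as in EGA I 9.4.7, a section over an affine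
open with quasi-compact inclusion lies in a quasi-coherent submodule of finite type. -/
theorem exists_ft_sub_of_section {X : Scheme.{u}} {L : Type v} [LinearOrder L]
    [WellFoundedLT L] (V : L → X.Opens) (hV : ∀ l, IsAffineOpen (V l)) (hcov : ⨆ l, V l = ⊤)
    (hW : ∀ l, IsCompact ((V l : Set X) ∩ ⋃ m ∈ Set.Iio l, (V m : Set X)))
    {U : X.Opens} (hU : IsAffineOpen U) [QuasiCompact hU.fromSpec]
    (F : X.Modules) [F.IsQuasicoherent] (s : Γ(F, U)) :
    ∃ (G' : X.Modules) (i' : G' ⟶ F), Mono i' ∧ G'.IsQuasicoherent ∧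
      SheafOfModules.IsFiniteType (R := X.ringCatSheaf) G' ∧ ∃ g : Γ(G', U), i'.app U g = s := by
  let R : CommRingCat.{u} := Γ(X, U)
  let h : Spec R ⟶ X := hU.fromSpec
  let B : (Spec R).Modules := F.restrict h
  have htop : h ''ᵁ ⊤ = U := by
    rw [Scheme.Hom.image_top_eq_opensRange, hU.opensRange_fromSpec]
  let s' : Γ(B, ⊤) := F.presheaf.map (eqToHom htop).op s
  classical
  obtain ⟨N, hN, c, hc, hcT⟩ := exists_finite_mono_of_finset R ((ΓF R).obj B)
    ({(s' : ((ΓF R).obj B))} : Finset ((ΓF R).obj B))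
  haveI := hc
  haveI : Mono (adjTilde R B c) := mono_adjTilde R B c
  haveI : ((tilde.functor R).obj N).IsQuasicoherent := inferInstanceAs (tilde N).IsQuasicoherent
  haveI : SheafOfModules.IsFiniteType (R := (Spec R).ringCatSheaf) ((tilde.functor R).obj N) :=
    (isFiniteType_tilde_iff R N).2 hN
  obtain ⟨G', ψ, e, hmono, hq, hft, hcompat⟩ :=
    exists_extension_isFiniteType V hV hcov hW h F ((tilde.functor R).obj N) (adjTilde R B c)
  refine ⟨G', ψ, hmono, hq, hft, ?_⟩
  obtain ⟨n, hn⟩ := hcT s' (Submodule.subset_span (Finset.mem_coe.2 (Finset.mem_singleton_self _)))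
  obtain ⟨σ, hσ⟩ := exists_section_adjTilde R B c n
  refine Groth.Agent.S9819.exists_app_eq_of_eq ψ htop s ⟨e.inv.app ⊤ σ, ?_⟩
  have h1 : ((Scheme.Modules.restrictFunctor h).map ψ).app ⊤ (e.inv.app ⊤ σ) = s' := by
    rw [← hcompat, Scheme.Modules.Hom.comp_app]
    have h2 : e.hom.app ⊤ (e.inv.app ⊤ σ) = σ := by
      have h3 : (e.inv ≫ e.hom).app ⊤ σ = σ := by rw [e.inv_hom_id]; rfl
      exact h3
    change (adjTilde R B c).app ⊤ (e.hom.app ⊤ (e.inv.app ⊤ σ)) = s'
    rw [h2, hσ, hn]
  exact h1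

/-- compact subsets of a locally Noetherian space are Noetherian. -/
theorem isCompact_of_subset_of_locallyNoetherian {α : Type*} [TopologicalSpace α]
    (hα : ∀ x : α, ∃ U : Set α, IsOpen U ∧ x ∈ U ∧ NoetherianSpace U) {T : Set α}
    (hT : IsCompact T) {A : Set α} (hA : A ⊆ T) : IsCompact A := by
  choose U hUo hxU hUn using hα
  obtain ⟨t, ht⟩ := hT.elim_finite_subcover U hUo (fun x _ => Set.mem_iUnion.mpr ⟨x, hxU x⟩)
  have hA' : A = ⋃ x ∈ t, A ∩ U x := by
    ext a
    simp only [Set.mem_iUnion, Set.mem_inter_iff, exists_and_left, exists_prop]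
    constructor
    · intro ha
      have := ht (hA ha)
      simp only [Set.mem_iUnion, exists_prop] at this
      exact ⟨ha, this⟩
    · exact fun h => h.1
  rw [hA']
  refine t.isCompact_biUnion (fun x _ => ?_)
  exact (noetherianSpace_set_iff (U x)).mp (hUn x) _ Set.inter_subset_right

/-- on a scheme with locally Noetherian underlying space, every section over an affine open of a
quasi-coherent module lies in a quasi-coherent submodule of finite type. -/
theorem exists_ft_sub_of_section_locallyNoetherian {X : Scheme.{u}}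
    (hX : ∀ x : X, ∃ U : X.Opens, x ∈ U ∧ NoetherianSpace (U : Set X))
    (F : X.Modules) [F.IsQuasicoherent] {U : X.Opens} (hU : IsAffineOpen U) (s : Γ(F, U)) :
    ∃ (G' : X.Modules) (i' : G' ⟶ F), Mono i' ∧ G'.IsQuasicoherent ∧
      SheafOfModules.IsFiniteType (R := X.ringCatSheaf) G' ∧ ∃ g : Γ(G', U), i'.app U g = s := by
  have hX' : ∀ x : X, ∃ U : Set X, IsOpen U ∧ x ∈ U ∧ NoetherianSpace U := by
    intro x
    obtain ⟨U, hxU, hU⟩ := hX x
    exact ⟨U, U.isOpen, hxU, hU⟩
  obtain ⟨hLO, hWF⟩ := exists_wellOrder X.affineOpens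
  letI := hLO
  haveI := hWF
  haveI : QuasiCompact hU.fromSpec := by
    rw [quasiCompact_iff]
    intro A _ hA
    rw [hU.fromSpec.isOpenEmbedding.isInducing.isCompact_iff]
    refine isCompact_of_subset_of_locallyNoetherian hX' hA ?_
    rw [Set.image_preimage_eq_inter_range]
    exact Set.inter_subset_left
  exact exists_ft_sub_of_section (fun l : X.affineOpens => (l : X.Opens)) (fun l => l.2)
    (iSup_affineOpens_eq_top X)
    (fun l => isCompact_of_subset_of_locallyNoetherian hX' l.2.isCompact Set.inter_subset_left)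
    hU F s

end Groth.Agent.Lib.R2H2.SubFam
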