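import Groth.Agent.Lib.R2H2DeligneSurj
set_option backward.isDefEq.respectTransparency.types false

/-!
# Sections of subobjects, part 2 (helper2, round 2)

* `exists_factor_of_rangeApp_le`, `comp_eq_zero_of_rangeApp_le` : factorisations checked on sections over an
  affine cover.
* `exists_app_eq_of_isLimit`, `exists_app_eq_of_isColimit` : sections of kernels (any open) and cokernels (affine).
* `epi_of_surjective_app_cover`, `isQuasicoherent_idealMul`, `epi_idealMul_map`, `exists_inclPow`.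
-/

set_option autoImplicit false
set_option linter.unusedSectionVars false
set_option linter.style.haveILetI false
universe u
open CategoryTheory CategoryTheory.Limits AlgebraicGeometry TopologicalSpace Opposite

noncomputable section

namespace Groth.Agent.Lib.R2H2.SubSec

open Groth.Agent.Lib.R2H2.DevA Groth.Agent.Lib.R2H2.DevF Groth.Agent.Lib.R2H2.IdealMulSec
  Groth.Agent.Lib.R2H2.DeligneSurj

variable {X : Scheme.{u}}

/-- the cover by all affine opens -/
def affCover (X : Scheme.{u}) : Set X.Opens := {U | IsAffineOpen U}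

theorem affCover_aff : ∀ U ∈ affCover X, IsAffineOpen U := fun _ h => h

theorem affCover_cov : ∀ x : X, ∃ U ∈ affCover X, x ∈ U := by
  intro x
  obtain ⟨V, hV, hxV, -⟩ := exists_isAffineOpen_mem_and_subset (x := x) (U := ⊤) trivial
  exact ⟨V, hV, hxV⟩

/-- factor through a monomorphism, checked on sections over an affine cover -/
theorem exists_factor_of_rangeApp_le {A B T : X.Modules} [A.IsQuasicoherent] [B.IsQuasicoherent]
    [T.IsQuasicoherent] (f : A ⟶ T) (g : B ⟶ T) [Mono g] (𝒰 : Set X.Opens)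
    (haff : ∀ U ∈ 𝒰, IsAffineOpen U) (hcov : ∀ x : X, ∃ U ∈ 𝒰, x ∈ U)
    (h : ∀ U ∈ 𝒰, rangeApp f U ≤ rangeApp g U) : ∃ l : A ⟶ B, l ≫ g = f := by
  haveI : (cokernel g).IsQuasicoherent :=
    Groth.Agent.Lib.Helper23.QCohLocal.isQuasicoherent_cokernel g
  have h0 : f ≫ cokernel.π g = 0 := by
    apply eq_zero_of_app_cover _ 𝒰 haff hcov
    intro U hU a
    obtain ⟨b, hb⟩ := h U hU (app_mem_rangeApp f U a)
    change Scheme.Modules.Hom.app (cokernel.π g) U (Scheme.Modules.Hom.app f U a) = 0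
    rw [← hb]
    exact congrArg (fun k => Scheme.Modules.Hom.app k U b) (cokernel.condition g)
  exact ⟨Abelian.monoLift g f h0, Abelian.monoLift_comp g f h0⟩

/-- vanishing of a composite, checked on sections over an affine cover -/
theorem comp_eq_zero_of_rangeApp_le {A B T C : X.Modules} [A.IsQuasicoherent] [C.IsQuasicoherent]
    (f : A ⟶ T) (g : B ⟶ T) (q : T ⟶ C) (hgq : g ≫ q = 0) (𝒰 : Set X.Opens)
    (haff : ∀ U ∈ 𝒰, IsAffineOpen U) (hcov : ∀ x : X, ∃ U ∈ 𝒰, x ∈ U)
    (h : ∀ U ∈ 𝒰, rangeApp f U ≤ rangeApp g U) : f ≫ q = 0 := by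
  apply eq_zero_of_app_cover _ 𝒰 haff hcov
  intro U hU a
  obtain ⟨b, hb⟩ := h U hU (app_mem_rangeApp f U a)
  change Scheme.Modules.Hom.app q U (Scheme.Modules.Hom.app f U a) = 0
  rw [← hb]
  exact congrArg (fun k => Scheme.Modules.Hom.app k U b) hgq

/-- sections of a kernel -/
theorem exists_app_eq_of_isLimit {K A B : X.Modules} (i : K ⟶ A) (f : A ⟶ B) (w : i ≫ f = 0)
    (hl : IsLimit (KernelFork.ofι i w)) (U : X.Opens) (a : Γ(A, U))
    (ha : Scheme.Modules.Hom.app f U a = 0) : ∃ k : Γ(K, U), Scheme.Modules.Hom.app i U k = a := by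
  obtain ⟨r, hr⟩ := exists_kernel_app_eq f U a ha
  obtain ⟨l, hl'⟩ := KernelFork.IsLimit.lift' hl (kernel.ι f) (kernel.condition f)
  refine ⟨Scheme.Modules.Hom.app l U r, ?_⟩
  have h1 := congrArg (fun k => Scheme.Modules.Hom.app k U r) hl'
  exact h1.trans hr

/-- sections of a cokernel over an affine open -/
theorem exists_app_eq_of_isColimit {A B Q : X.Modules} [A.IsQuasicoherent] [B.IsQuasicoherent]
    (p : A ⟶ B) (π : B ⟶ Q) (w : p ≫ π = 0) (hc : IsColimit (CokernelCofork.ofπ π w))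
    {V : X.Opens} (hV : IsAffineOpen V) (g : Γ(B, V)) (hg : Scheme.Modules.Hom.app π V g = 0) :
    ∃ t : Γ(A, V), Scheme.Modules.Hom.app p V t = g := by
  apply exists_app_eq_of_cokernel p hV g
  obtain ⟨l, hl⟩ := CokernelCofork.IsColimit.desc' hc (cokernel.π p) (cokernel.condition p)
  have hl' : π ≫ l = cokernel.π p := hl
  rw [← hl']
  change Scheme.Modules.Hom.app l V (Scheme.Modules.Hom.app π V g) = 0
  rw [hg, map_zero]

/-- a morphism of quasi-coherent modules surjective on sections over an affine cover is an epimorphism -/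
theorem epi_of_surjective_app_cover {A B : X.Modules} [A.IsQuasicoherent] [B.IsQuasicoherent]
    (f : A ⟶ B) (𝒰 : Set X.Opens)
    (haff : ∀ U ∈ 𝒰, IsAffineOpen U) (hcov : ∀ x : X, ∃ U ∈ 𝒰, x ∈ U)
    (h : ∀ U ∈ 𝒰, Function.Surjective (Scheme.Modules.Hom.app f U)) : Epi f := by
  haveI : (cokernel f).IsQuasicoherent :=
    Groth.Agent.Lib.Helper23.QCohLocal.isQuasicoherent_cokernel f
  apply Preadditive.epi_of_isZero_cokernel
  apply isZero_of_sections _ 𝒰 haff hcov
  intro U hU t
  obtain ⟨b, rfl⟩ := Groth.Agent.Lib.Helper23.FinType.surjective_app_of_epi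
    (cokernel.π f) (haff U hU) t
  obtain ⟨a, rfl⟩ := h U hU b
  exact congrArg (fun k => Scheme.Modules.Hom.app k U a) (cokernel.condition f)

/-- `J · T` is quasi-coherent for quasi-coherent `T` -/
theorem isQuasicoherent_idealMul (J : X.IdealSheafData) (T : X.Modules) [T.IsQuasicoherent] :
    ((Dual3.idealMul J).obj T).IsQuasicoherent := by
  haveI : ((𝟭 X.Modules).obj T).IsQuasicoherent := inferInstanceAs T.IsQuasicoherent
  haveI h1 : ((Scheme.Modules.pushforward J.subschemeι).obj
      ((Scheme.Modules.pullback J.subschemeι).obj T)).IsQuasicoherent :=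
    Groth.Agent.Lib.Helper23.QCohLocal.isQuasicoherent_pushforward J.subschemeι
      ((Scheme.Modules.pullback J.subschemeι).obj T)
  haveI : ((Scheme.Modules.pullback J.subschemeι ⋙
      Scheme.Modules.pushforward J.subschemeι).obj T).IsQuasicoherent := h1
  change (kernel ((Scheme.Modules.pullbackPushforwardAdjunction J.subschemeι).unit.app T)).IsQuasicoherent
  exact Groth.Agent.Lib.Helper23.QCohLocal.isQuasicoherent_kernel _

/-- `J · -` preserves epimorphisms of quasi-coherent modules -/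
theorem epi_idealMul_map (J : X.IdealSheafData) {A B : X.Modules} [A.IsQuasicoherent]
    [B.IsQuasicoherent] (π : A ⟶ B) [Epi π] : Epi ((Dual3.idealMul J).map π) := by
  haveI := isQuasicoherent_idealMul J A
  haveI := isQuasicoherent_idealMul J B
  apply epi_of_surjective_app_cover _ (affCover X) affCover_aff affCover_cov
  intro U hU b
  have hb : Scheme.Modules.Hom.app (Dual3.idealMulι J B) U b ∈
      J.ideal ⟨U, hU⟩ • (⊤ : Submodule Γ(X, U) Γ(B, U)) := idealMulι_app_mem J B hU b
  have key : ∀ y ∈ J.ideal ⟨U, hU⟩ • (⊤ : Submodule Γ(X, U) Γ(B, U)),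
      ∃ x ∈ J.ideal ⟨U, hU⟩ • (⊤ : Submodule Γ(X, U) Γ(A, U)),
        Scheme.Modules.Hom.app π U x = y := by
    intro y hy
    refine Submodule.smul_induction_on hy ?_ ?_
    · intro r hr β _
      obtain ⟨α, rfl⟩ := Groth.Agent.Lib.Helper23.FinType.surjective_app_of_epi π hU β
      exact ⟨r • α, Submodule.smul_mem_smul hr trivial, Scheme.Modules.Hom.app_smul π r α⟩
    · rintro y₁ y₂ ⟨x₁, hx₁, rfl⟩ ⟨x₂, hx₂, rfl⟩
      exact ⟨x₁ + x₂, Submodule.add_mem _ hx₁ hx₂, map_add _ _ _⟩
  obtain ⟨x, hx, hxb⟩ := key _ hb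
  rw [← rangeApp_idealMulι J A hU] at hx
  obtain ⟨a', ha'⟩ := hx
  refine ⟨a', ?_⟩
  apply Groth.Agent.Lib.Helper20.StalkExact.injective_app_of_mono (Dual3.idealMulι J B) U
  rw [← hxb, ← ha']
  exact congrArg (fun k => Scheme.Modules.Hom.app k U a') (Dual3.idealMul_map_ι J π)

/-- the inclusion `I^n T ⊆ I^m T` for `m ≤ n` -/
theorem exists_inclPow (I : X.IdealSheafData) (T : X.Modules) [T.IsQuasicoherent] {m n : ℕ}
    (h : m ≤ n) :
    ∃ l : (Dual3.idealMul (I ^ n)).obj T ⟶ (Dual3.idealMul (I ^ m)).obj T,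
      l ≫ Dual3.idealMulι (I ^ m) T = Dual3.idealMulι (I ^ n) T := by
  haveI := isQuasicoherent_idealMul (I ^ n) T
  haveI := isQuasicoherent_idealMul (I ^ m) T
  apply exists_factor_of_rangeApp_le _ _ (affCover X) affCover_aff affCover_cov
  intro U hU
  rw [rangeApp_idealMulι (I ^ n) T hU, rangeApp_idealMulι (I ^ m) T hU]
  exact Submodule.smul_mono (Ideal.pow_le_pow_right h) le_rfl

end Groth.Agent.Lib.R2H2.SubSec
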