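import Groth.Agent.Lib.R2H2SubFamMod
import Groth.Prelude.Def_ClSub2
set_option backward.isDefEq.respectTransparency.types false

/-!
# The `I`-torsion subsheaf of a coherent module (helper2, round 2)

For a quasi-coherent ideal `I` (`IdealSheafData`) and a module `H` on a Noetherian scheme:
`torsFam I H` is the family of sections killed by `I`; `tors I H := (torsFam I H).toMod` with its
inclusion `torsι`; it is coherent if `H` is (`isCoh_tors`) and killed by `I` (`killed_tors`).
`mem_of_affine` : over an affine open, a section killed by `I(V)` belongs to the family.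
-/

set_option autoImplicit false
set_option linter.style.haveILetI false
universe u
open CategoryTheory CategoryTheory.Limits AlgebraicGeometry TopologicalSpace Opposite

noncomputable section

namespace Groth.Agent.Lib.R2H2.TorsFam

open Groth.Agent.Lib.R2H2.SubFam Groth.Agent.Lib.R2H2.SubFam.Fam Groth.Agent.Lib.Helper2.Push
  Groth.Agent.Lib.Helper23.QCohLocal Groth.Agent.Lib.Helper23.Extend

variable {X : Scheme.{u}} (I : X.IdealSheafData) (H : X.Modules)

/-- the family of sections killed by `I` -/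
def torsFam : Fam H where
  obj T :=
    { carrier := {t | ∀ (U : X.affineOpens) (h : U.1 ≤ T) (a : Γ(X, U.1)), a ∈ I.ideal U →
        a • rs H h t = 0}
      add_mem' := by
        intro t t' ht ht' U h a ha
        rw [rs_add, smul_add, ht U h a ha, ht' U h a ha, add_zero]
      zero_mem' := by
        intro U h a _
        rw [rs_zero, smul_zero]
      smul_mem' := by
        intro r t ht U h a ha
        rw [rs_smul, smul_comm, ht U h a ha, smul_zero] }
  res_mem := by
    intro T' T h t ht U hU a ha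
    rw [rs_rs]
    exact ht U (hU.trans h) a ha
  loc := by
    intro T t hloc U hU a ha
    refine eq_of_locally_eq _ _ (fun x hx => ?_)
    obtain ⟨T', hT', hxT', hmem⟩ := hloc x (hU hx)
    obtain ⟨g, hgle, hxg⟩ := U.2.exists_basicOpen_le (V := U.1 ⊓ T') ⟨x, ⟨hx, hxT'⟩⟩ hx
    have hDU : (⟨X.basicOpen g, U.2.basicOpen g⟩ : X.affineOpens) ≤ U := X.basicOpen_le g
    refine ⟨X.basicOpen g, X.basicOpen_le g, hxg, ?_⟩
    rw [rs_smul, rs_zero, rs_rs]
    have haD : rO (X.basicOpen_le g) a ∈ I.ideal ⟨X.basicOpen g, U.2.basicOpen g⟩ :=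
      I.ideal_le_comap_ideal hDU ha
    have h1 := hmem ⟨X.basicOpen g, U.2.basicOpen g⟩ (hgle.trans inf_le_right) _ haD
    rw [rs_rs] at h1
    exact h1

theorem mem_torsFam {T : X.Opens} (t : Γ(H, T)) :
    t ∈ (torsFam I H).obj T ↔ ∀ (U : X.affineOpens) (h : U.1 ≤ T) (a : Γ(X, U.1)),
      a ∈ I.ideal U → a • rs H h t = 0 := Iff.rfl

/-- over an affine open, a section killed by `I(V)` belongs to the family -/
theorem mem_of_affine {V : X.Opens} (hV : IsAffineOpen V) {t : Γ(H, V)}
    (ht : ∀ b ∈ I.ideal ⟨V, hV⟩, b • t = 0) : t ∈ (torsFam I H).obj V := by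
  intro U hU a ha
  rw [← I.map_ideal (U := U) (V := ⟨V, hV⟩) hU] at ha
  have ha' : a ∈ Submodule.span Γ(X, U.1)
      ((rO hU) '' (I.ideal ⟨V, hV⟩ : Set Γ(X, V))) := ha
  clear ha
  induction ha' using Submodule.span_induction with
  | mem x hx =>
    obtain ⟨b, hb, rfl⟩ := hx
    rw [← rs_smul, ht b hb, rs_zero]
  | zero => rw [zero_smul]
  | add x y _ _ hx hy => rw [add_smul, hx, hy, add_zero]
  | smul c x _ hx => rw [smul_eq_mul, mul_smul, hx, smul_zero]

/-- sections of the family over an affine open are killed by `I(V)` -/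
theorem smul_eq_zero_of_mem {V : X.Opens} (hV : IsAffineOpen V) {t : Γ(H, V)}
    (ht : t ∈ (torsFam I H).obj V) (b : Γ(X, V)) (hb : b ∈ I.ideal ⟨V, hV⟩) : b • t = 0 := by
  have h := ht ⟨V, hV⟩ le_rfl b hb
  rwa [rs_self] at h

variable [IsNoetherian X]

theorem goodAff_torsFam (hH : Coh.IsCoh H) {T : X.Opens} (hT : IsAffineOpen T) :
    GoodAff (torsFam I H) T := by
  haveI : H.IsQuasicoherent := hH.1
  haveI : SheafOfModules.IsFiniteType (R := X.ringCatSheaf) H := hH.2
  have hloc : IsLocOn H T := IsLocOn.of_isQuasicoherent hT H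
  haveI : IsNoetherianRing Γ(X, T) := IsLocallyNoetherian.component_noetherian ⟨T, hT⟩
  haveI : Module.Finite Γ(X, T) Γ(H, T) :=
    Groth.Agent.Lib.Helper23.FinType.finite_of_isFiniteType H hT
  haveI : IsNoetherian Γ(X, T) Γ(H, T) := isNoetherian_of_isNoetherianRing_of_finite _ _
  refine ⟨fun f s hs => ?_, IsNoetherian.noetherian _⟩
  obtain ⟨n₀, t₀, ht₀⟩ := hloc.exists_extension f s
  have ht₀' : rs H (X.basicOpen_le f) t₀ = rO (X.basicOpen_le f) f ^ n₀ • s := ht₀
  obtain ⟨G, hG⟩ : (I.ideal ⟨T, hT⟩).FG := IsNoetherian.noetherian _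
  have hk : ∀ b ∈ I.ideal ⟨T, hT⟩, ∃ k : ℕ, f ^ k • (b • t₀) = 0 := by
    intro b hb
    apply hloc.exists_pow_smul_eq_zero f (b • t₀)
    have hDT : (⟨X.basicOpen f, hT.basicOpen f⟩ : X.affineOpens) ≤ ⟨T, hT⟩ := X.basicOpen_le f
    have hbD : rO (X.basicOpen_le f) b ∈ I.ideal ⟨X.basicOpen f, hT.basicOpen f⟩ :=
      I.ideal_le_comap_ideal hDT hb
    have h0 := hs ⟨X.basicOpen f, hT.basicOpen f⟩ le_rfl _ hbD
    rw [rs_self] at h0
    change rs H (X.basicOpen_le f) (b • t₀) = 0
    rw [rs_smul, ht₀', smul_comm, h0, smul_zero]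
  choose! k hk using hk
  refine ⟨n₀ + G.sup k, f ^ (G.sup k) • t₀, mem_of_affine I H hT ?_, ?_⟩
  · intro b hb
    rw [← hG] at hb
    induction hb using Submodule.span_induction with
    | mem x hx =>
      have hxI : x ∈ I.ideal ⟨T, hT⟩ := by rw [← hG]; exact Submodule.subset_span hx
      have hK : G.sup k = (G.sup k - k x) + k x := (Nat.sub_add_cancel (Finset.le_sup hx)).symm
      rw [smul_comm, hK, pow_add, mul_smul, hk x hxI, smul_zero]
    | zero => rw [zero_smul]
    | add x y _ _ hx hy => rw [add_smul, hx, hy, add_zero]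
    | smul c x _ hx => rw [smul_eq_mul, mul_smul, hx, smul_zero]
  · rw [rs_smul, map_pow, ht₀', ← mul_smul, ← pow_add, add_comm]

theorem qf_torsFam (hH : Coh.IsCoh H) : QF (torsFam I H) ⊤ := by
  intro x _
  obtain ⟨T, hT, hxT, -⟩ := exists_isAffineOpen_mem_and_subset (x := x) (U := ⊤) trivial
  exact ⟨T, hT, le_top, hxT, fun T' _ hT' => goodAff_torsFam I H hH hT'⟩

/-- the `I`-torsion submodule -/
abbrev tors : X.Modules := (torsFam I H).toMod

/-- the inclusion of the `I`-torsion -/
abbrev torsι : tors I H ⟶ H := (torsFam I H).ι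

instance : Mono (torsι I H) := inferInstanceAs (Mono (torsFam I H).ι)

theorem isCoh_tors (hH : Coh.IsCoh H) : Coh.IsCoh (tors I H) := by
  haveI : H.IsQuasicoherent := hH.1
  exact (torsFam I H).isQuasicoherent_toMod (qf_torsFam I H hH)

omit [AlgebraicGeometry.IsNoetherian X] in
theorem killed_tors' (U : X.affineOpens) (a : Γ(X, U.1)) (ha : a ∈ I.ideal U)
    (m : Γ(tors I H, U.1)) : a • m = 0 := by
  apply (torsFam I H).ι_app_injective U.1
  rw [Scheme.Modules.Hom.app_smul, map_zero]
  have hm := (torsFam I H).ι_app_mem m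
  exact smul_eq_zero_of_mem I H U.2 hm a ha

omit [AlgebraicGeometry.IsNoetherian X] in
theorem killed_tors : ClSub.KilledByIdeal I (tors I H) :=
  fun U a ha m => killed_tors' I H U a ha m

omit [AlgebraicGeometry.IsNoetherian X] in
/-- sections of `H` over an affine open killed by `I(V)` come from the torsion -/
theorem exists_torsι_app_eq {V : X.Opens} (hV : IsAffineOpen V) (t : Γ(H, V))
    (ht : ∀ b ∈ I.ideal ⟨V, hV⟩, b • t = 0) : ∃ s : Γ(tors I H, V), (torsι I H).app V s = t :=
  ⟨(torsFam I H).sec t (mem_of_affine I H hV ht), rfl⟩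

end Groth.Agent.Lib.R2H2.TorsFam
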