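import Groth.Agent.Lib.R2H2PMapTwist2
import Groth.Agent.Lib.Helper27ClosedProj
set_option backward.isDefEq.respectTransparency.types false

/-!
# A tracked isomorphism `(Proj.map φ)^* O(m) ≅ O(m)` (helper2, round 2)

`exists_tracked_iso`: for a graded ring homomorphism `φ : 𝒜 → ℬ` (over possibly different base rings)
such that `Proj ℬ` is covered by the `D₊(φ (G i))`, `deg G i = 1`, there is an isomorphism
`Φ : (Proj.map φ)^* O_𝒜(m) ≅ O_ℬ(m)` sending the pulled back section `F / 1` to `φ F / 1`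
for every form `F` of degree `m`.
-/

set_option autoImplicit false
universe u

open CategoryTheory CategoryTheory.Limits AlgebraicGeometry TopologicalSpace Opposite
  HomogeneousLocalization
open Groth.Agent.Lib.Helper23.SecTw Groth.Agent.Lib.Helper6 Groth.Agent.Helper13PullbackUnit
  Groth.Agent.Lib.Helper27PullGen Groth.Agent.Lib.Helper27GrTildeSect Groth.Agent.Helper13Dehom
  Groth.Agent.Lib.Helper27ClosedProj Groth.Agent.Lib.Helper27PMapSec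

namespace Groth.Agent.Lib.R2H2.TrackedTwist

section A1

variable {R R' A B : Type u} [CommRing R] [CommRing R'] [CommRing A] [Algebra R A]
  {𝒜 : ℕ → Submodule R A} [GradedAlgebra 𝒜] [CommRing B] [Algebra R' B]
  {ℬ : ℕ → Submodule R' B} [GradedAlgebra ℬ]
  (φ : 𝒜 →+*ᵍ ℬ) (hφ : HomogeneousIdeal.irrelevant ℬ ≤ (HomogeneousIdeal.irrelevant 𝒜).map φ)

/-- `p^♯ (F / f^d) = φ F / φ f^d` -/
theorem appLE_dehom {f : A} (hf : f ∈ 𝒜 1) {d : ℕ} {F : A} (hF : F ∈ 𝒜 d) :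
    (Proj.map φ hφ).appLE (Proj.basicOpen 𝒜 f) (Proj.basicOpen ℬ (φ f)) (by rfl) (dehom hf F) =
      dehom (Graded.map_mem φ hf) (φ F) := by
  have ha : F ∈ 𝒜 (d • 1) := by simpa using hF
  have hb : φ F ∈ ℬ (d • 1) := by simpa using Graded.map_mem φ hF
  rw [dehom_eq_awayToSection hf ha, dehom_eq_awayToSection (Graded.map_mem φ hf) hb]
  have h := Proj.awayToSection_comp_appLE φ hφ hf
  have h2 := congr($h (Away.mk 𝒜 hf d F ha))
  refine h2.trans ?_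
  change (Proj.awayToSection ℬ (φ f)).hom (Away.map φ f (Away.mk 𝒜 hf d F ha)) = _
  rw [Away.map_mk]

theorem app_dehom {f : A} (hf : f ∈ 𝒜 1) {d : ℕ} {F : A} (hF : F ∈ 𝒜 d) :
    ((Proj.map φ hφ).app (Proj.basicOpen 𝒜 f)).hom (dehom hf F) =
      (show Γ(Proj ℬ, Proj.map φ hφ ⁻¹ᵁ Proj.basicOpen 𝒜 f) from dehom (Graded.map_mem φ hf) (φ F)) := by
  have h := appLE_dehom φ hφ hf hF
  rw [← Scheme.Hom.appLE_eq_app]
  exact h

end A1

section Main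

variable {R R' A B : Type u} [CommRing R] [CommRing R'] [CommRing A] [Algebra R A]
  {𝒜 : ℕ → Submodule R A} [GradedAlgebra 𝒜] [CommRing B] [Algebra R' B]
  {ℬ : ℕ → Submodule R' B} [GradedAlgebra ℬ]
  (φ : 𝒜 →+*ᵍ ℬ) (hφ : HomogeneousIdeal.irrelevant ℬ ≤ (HomogeneousIdeal.irrelevant 𝒜).map φ)
  {ι : Type*} (G : ι → A) (hG : ∀ i, G i ∈ 𝒜 1)

include hG in
/-- **the tracked isomorphism `(Proj.map φ)^* O(m) ≅ O(m)`** -/
theorem exists_tracked_iso (hcov : ∀ x : Proj ℬ, ∃ i, x ∈ Proj.basicOpen ℬ (φ (G i))) (m : ℕ) :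
    ∃ Φ : (Scheme.Modules.pullback (Proj.map φ hφ)).obj (GrTilde.tilde 𝒜 𝒜 (m : ℤ)) ≅
        GrTilde.tilde ℬ ℬ (m : ℤ),
      ∀ (F : A) (hF : F ∈ 𝒜 m),
        Φ.hom.app (Proj.map φ hφ ⁻¹ᵁ ⊤)
          (unitSec (Proj.map φ hφ) (GrTilde.tilde 𝒜 𝒜 (m : ℤ)) (le_refl (Proj.map φ hφ ⁻¹ᵁ ⊤))
            (gsec 𝒜 m ⊤ hF)) =
        gsec ℬ m (Proj.map φ hφ ⁻¹ᵁ ⊤) (Graded.map_mem φ hF) := by
  haveI : (GrTilde.tilde 𝒜 𝒜 (m : ℤ)).IsQuasicoherent := isQuasicoherent_tilde 𝒜 𝒜 _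
  have hH : ∀ i, φ (G i) ∈ ℬ 1 := fun i => Graded.map_mem φ (hG i)
  set p := Proj.map φ hφ with hp
  set M := GrTilde.tilde 𝒜 𝒜 (m : ℤ) with hM
  set N := GrTilde.tilde ℬ ℬ (m : ℤ) with hN
  set M' := (Scheme.Modules.pullback p).obj M with hM'
  let D : ι → (Proj 𝒜).Opens := fun i => Proj.basicOpen 𝒜 (G i)
  let W : ι → (Proj ℬ).Opens := fun i => p ⁻¹ᵁ D i
  have hWD : ∀ i, W i ≤ Proj.basicOpen ℬ (φ (G i)) := fun i => le_rfl
  have hDW : ∀ i, Proj.basicOpen ℬ (φ (G i)) ≤ p ⁻¹ᵁ D i := fun i => le_rfl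
  let a : ∀ i, Γ(M', W i) := fun i =>
    unitSec p M (le_refl (W i)) (gsec 𝒜 m (D i) (pow_mem_deg (hG i) m))
  let b : ∀ i, Γ(N, W i) := fun i => gsec ℬ m (W i) (pow_mem_deg (hH i) m)
  have ha : ∀ i, IsGen M' (W i) (a i) := fun i => isGen_unitSec_pow 𝒜 p (hG i) m
  have hb : ∀ i, IsGen N (W i) (b i) := fun i =>
    (isGen_gsec ℬ m (pow_mem_deg (hH i) m)).mono
      ((hWD i).trans (basicOpen_le_basicOpen_pow ℬ (φ (G i)) m))
  have hcovW : ∀ x : Proj ℬ, ∃ i, x ∈ W i := hcov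
  have trA : ∀ i k, res M (inf_le_left : D i ⊓ D k ≤ D i)
        (gsec 𝒜 m (D i) (pow_mem_deg (hG i) m)) =
      resf (inf_le_right : D i ⊓ D k ≤ D k) (dehom (hG k) (G i ^ m)) •
        res M (inf_le_right : D i ⊓ D k ≤ D k) (gsec 𝒜 m (D k) (pow_mem_deg (hG k) m)) := by
    intro i k
    have h1 := gsec_eq_dehom_smul 𝒜 (hG k) m (pow_mem_deg (hG i) m)
    have h2 := congrArg (res M (inf_le_right : D i ⊓ D k ≤ D k)) h1
    rw [res_smul] at h2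
    exact h2
  obtain ⟨Φ, hΦ⟩ := exists_iso_of_frames M' N W hcovW a b ha hb (by
    intro i k g hg
    have u1 := unitSec_res p M (inf_le_left : D i ⊓ D k ≤ D i)
      (le_refl (p ⁻¹ᵁ (D i ⊓ D k))) (gsec 𝒜 m (D i) (pow_mem_deg (hG i) m))
    have u2 := unitSec_res p M (inf_le_right : D i ⊓ D k ≤ D k)
      (le_refl (p ⁻¹ᵁ (D i ⊓ D k))) (gsec 𝒜 m (D k) (pow_mem_deg (hG k) m))
    have s1 : res M' (inf_le_left : W i ⊓ W k ≤ W i) (a i) =
        p.appLE (D i ⊓ D k) (W i ⊓ W k) le_rfl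
            (resf (inf_le_right : D i ⊓ D k ≤ D k) (dehom (hG k) (G i ^ m))) •
          res M' (inf_le_right : W i ⊓ W k ≤ W k) (a k) := by
      refine u1.symm.trans ?_
      rw [trA i k, unitSec_smul]
      congr 1
    have hgP : g = p.appLE (D i ⊓ D k) (W i ⊓ W k) le_rfl
        (resf (inf_le_right : D i ⊓ D k ≤ D k) (dehom (hG k) (G i ^ m))) := by
      apply ((ha k).mono (inf_le_right : W i ⊓ W k ≤ W k) _ le_rfl).1
      change g • res _ le_rfl (res _ _ (a k)) = _ • res _ le_rfl (res _ _ (a k))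
      rw [res_self, ← hg, s1]
    have hle : W i ⊓ W k ≤ Proj.basicOpen ℬ (φ (G k)) := inf_le_right.trans (hWD k)
    have t1 : res N (inf_le_left : W i ⊓ W k ≤ W i) (b i) =
        resf hle (dehom (hH k) (φ (G i) ^ m)) •
          res N (inf_le_right : W i ⊓ W k ≤ W k) (b k) := by
      have h1 := gsec_eq_dehom_smul ℬ (hH k) m (pow_mem_deg (hH i) m)
      have h2 := congrArg (res N hle) h1
      rw [res_smul] at h2
      exact h2
    have e5 : p.appLE (D i ⊓ D k) (W i ⊓ W k) le_rfl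
          (resf (inf_le_right : D i ⊓ D k ≤ D k) (dehom (hG k) (G i ^ m))) =
        resf hle (dehom (hH k) (φ (G i) ^ m)) := by
      rw [appLE_resf p (inf_le_right : D i ⊓ D k ≤ D k) hle (hDW k) le_rfl,
        appLE_dehom φ hφ (hG k) (pow_mem_deg (hG i) m), map_pow]
    rw [hgP, e5]
    exact t1)
  refine ⟨Φ, fun F hF => ?_⟩
  have hcovV : p ⁻¹ᵁ ⊤ ≤ ⨆ i, W i := by
    intro x _
    obtain ⟨i, hi⟩ := hcovW x
    exact Opens.mem_iSup.mpr ⟨i, hi⟩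
  refine (modSheaf N).eq_of_locally_eq' W (p ⁻¹ᵁ ⊤)
    (fun i => homOfLE (p.preimage_mono (le_top : D i ≤ ⊤))) hcovV _ _ (fun i => ?_)
  change res N (p.preimage_mono (le_top : D i ≤ ⊤)) (Φ.hom.app (p ⁻¹ᵁ ⊤) _) =
    res N (p.preimage_mono (le_top : D i ≤ ⊤)) (gsec ℬ m (p ⁻¹ᵁ ⊤) (Graded.map_mem φ hF))
  have h1 : res N (p.preimage_mono (le_top : D i ≤ ⊤))
        (Φ.hom.app (p ⁻¹ᵁ ⊤) (unitSec p M (le_refl (p ⁻¹ᵁ ⊤)) (gsec 𝒜 m ⊤ hF))) =
      Φ.hom.app (W i) (res M' (p.preimage_mono (le_top : D i ≤ ⊤))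
        (unitSec p M (le_refl (p ⁻¹ᵁ ⊤)) (gsec 𝒜 m ⊤ hF))) :=
    (Groth.Agent.Lib.Helper23.Extend.app_map Φ.hom (homOfLE (p.preimage_mono (le_top : D i ≤ ⊤))) _).symm
  rw [h1, res_unitSec_gsec 𝒜 p (hG i) m hF]
  have h2 := hΦ i (W i) le_rfl ((p.app (D i)).hom (dehom (hG i) F))
  rw [res_self, res_self] at h2
  refine h2.trans ?_
  rw [app_dehom φ hφ (hG i) hF]
  have h3 := gsec_eq_dehom_smul ℬ (hH i) m (Graded.map_mem φ hF)
  exact h3.symm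

end Main

end Groth.Agent.Lib.R2H2.TrackedTwist
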