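import Groth.Agent.Lib.R2H2RegFlat
import Groth.Agent.Lib.R2H2PushTwistB
import Groth.Agent.Lib.R2H2PnFlat
import Groth.Agent.Lib.Helper27ProjSpaceSurj
import Groth.Agent.Lib.Helper26FpqcMod
import Groth.Agent.Lib.Helper20ParaF4
import Groth.Agent.Lib.R2H3PnChart
set_option backward.isDefEq.respectTransparency.types false

/-!
# `G ≅ p_* p^* G` for quasi-coherent `G` and `p : P^n_T ⟶ T` (helper2, round 2)

* `exists_decomp` : (Eilenberg–Watts) for an exact, coproduct preserving `Ψ` with `H^1(Ψ N) = 0`, every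
  section of `Ψ N` is a finite sum of sections of `Ψ O` pushed along maps `O ⟶ N`;
* `bijective_unit_app_top` : `Γ(Spec R, N) → Γ(P^n_R, π^* N)` is bijective for quasi-coherent `N`;
* `isIso_unit_of_isQuasicoherent` : the unit `G ⟶ p_* p^* G` is an isomorphism for `G` quasi-coherent on
  an arbitrary base `T`.
-/

set_option autoImplicit false
set_option linter.unusedSectionVars false
set_option linter.style.haveILetI false
universe u

namespace Groth.Agent.Lib.R2H2.UnitIso

open CategoryTheory CategoryTheory.Limits AlgebraicGeometry TopologicalSpace Opposite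
open Groth.Agent.Lib.R2H2.HHLin Groth.Agent.Lib.R2H2.PnSerre
open Groth.Agent.Lib.Helper23.SecTw Groth.Agent.Lib.Helper23.QCohLocal Groth.Agent.Lib.Helper6
open Groth.Agent.Lib.R2H2.CoprodSec Groth.Agent.Lib.R2H2.CoprodCoh
  Groth.Agent.Lib.R2H2.PnCoh Groth.Agent.Lib.R2H2.ProjSec Groth.Agent.Lib.R2H2.KoszulPoly
  Groth.Agent.Lib.R2H2.PnPullVan Groth.Agent.Lib.R2H2.EWFlat

section Abstract

variable {A : Type u} [CommRing A] {X : Scheme.{u}}

local notation "SA" => Spec (CommRingCat.of A)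
local notation "OS" => Coh.structureModule (Spec (CommRingCat.of A))
local notation "OX" => Coh.structureModule X

/-- every section of `Ψ N` is a finite sum of sections of `Ψ O` pushed along maps `O ⟶ N` -/
theorem exists_decomp
    (Ψ : (SA).Modules ⥤ X.Modules) [Ψ.Additive]
    (hex : ∀ S : ShortComplex (SA).Modules, S.ShortExact → (S.map Ψ).ShortExact)
    (hcop : ∀ J : Type u, PreservesColimitsOfShape (Discrete J) Ψ)
    (hqc : ∀ N : (SA).Modules, N.IsQuasicoherent → (Ψ.obj N).IsQuasicoherent)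
    (hH1 : ∀ N : (SA).Modules, N.IsQuasicoherent → Subsingleton (Coh.HH X (Ψ.obj N) (0 + 1)))
    {ι : Type u} [Finite ι] (U : ι → X.Opens) (hcov : ⨆ i, U i = ⊤)
    (hU : ∀ s : Finset ι, s.Nonempty → IsAffineOpen (⨅ i ∈ s, U i))
    (N : (SA).Modules) (hN : N.IsQuasicoherent) (σ : OX ⟶ Ψ.obj N) :
    ∃ (J : Type u) (T : Finset J) (w : J → (OX ⟶ Ψ.obj OS)) (m : J → (OS ⟶ N)),
      σ = ∑ j ∈ T, w j ≫ Ψ.map (m j) := by
  classical
  haveI := hN
  haveI hO : (OS).IsQuasicoherent :=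
    Groth.Agent.Lib.R2H2.PnPullVan.isQuasicoherent_structureModule SA
  obtain ⟨J, π, hπ⟩ :=
    Groth.Agent.Lib.R2H2.PnPullVan.exists_epi_sigma_unit (CommRingCat.of A) N
  let d : J → (SA).Modules := fun _ => OS
  haveI hSig : (∐ d).IsQuasicoherent := isQuasicoherent_sigma d (fun _ => hO)
  have hK' : (kernel π).IsQuasicoherent := isQuasicoherent_kernel π
  let S : ShortComplex (SA).Modules := ShortComplex.mk (kernel.ι π) π (kernel.condition π)
  have hS : S.ShortExact :=
    { exact := ShortComplex.exact_kernel π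
      mono_f := equalizer.ι_mono
      epi_g := hπ }
  have hS' : (S.map Ψ).ShortExact := hex S hS
  obtain ⟨W, hW'⟩ : ∃ W : OX ⟶ Ψ.obj (∐ d), W ≫ Ψ.map π = σ :=
    exists_lift_of_subsingleton_H1 (S.map Ψ) hS' (hH1 _ hK') σ
  haveI := hcop J
  let cΨ : Ψ.obj (∐ d) ≅ ∐ (fun j => Ψ.obj (d j)) := PreservesCoproduct.iso Ψ d
  obtain ⟨T, hT⟩ := exists_finset_sum (fun j => Ψ.obj (d j)) U hcov hU (fun j => hqc _ hO)
    (W ≫ cΨ.hom)
  obtain ⟨w, hw⟩ : ∃ w : J → (OX ⟶ Ψ.obj OS),
      ∀ j, w j = (W ≫ cΨ.hom) ≫ Sigma.π (fun j => Ψ.obj (d j)) j := ⟨_, fun _ => rfl⟩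
  have hιc : ∀ j, Sigma.ι (fun j => Ψ.obj (d j)) j ≫ cΨ.inv = Ψ.map (Sigma.ι d j) := fun j =>
    ι_comp_sigmaComparison Ψ d j
  have hW2 : W = ∑ j ∈ T, w j ≫ Ψ.map (Sigma.ι d j) := by
    have h1 : W = (W ≫ cΨ.hom) ≫ cΨ.inv := by
      rw [Category.assoc, Iso.hom_inv_id, Category.comp_id]
    have h2 : (W ≫ cΨ.hom) ≫ cΨ.inv =
        ∑ j ∈ T, (w j ≫ Sigma.ι (fun j => Ψ.obj (d j)) j) ≫ cΨ.inv := by
      rw [← Preadditive.sum_comp]
      refine congrArg (· ≫ cΨ.inv) (hT.trans (Finset.sum_congr rfl (fun j _ => ?_)))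
      rw [hw]
    rw [h1, h2]
    refine Finset.sum_congr rfl (fun j _ => ?_)
    rw [Category.assoc, hιc]
  refine ⟨J, T, w, fun j => Sigma.ι d j ≫ π, ?_⟩
  rw [← hW', hW2, Preadditive.sum_comp]
  refine Finset.sum_congr rfl (fun j _ => ?_)
  rw [Category.assoc, ← Ψ.map_comp]

end Abstract

section Pn

variable (n : ℕ) (R : Type u) [CommRing R]

local notation "PX" => CohB1.ProjSpace n R
local notation "SR" => Spec (CommRingCat.of R)
local notation "πR" => CohB1.ProjSpace.toSpec n R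
local notation "OS" => Coh.structureModule (Spec (CommRingCat.of R))
local notation "OP" => Coh.structureModule (CohB1.ProjSpace n R)

/-- `- ⊗ O(0) ≅ 𝟭` -/
theorem nonempty_twR_zero_iso :
    Nonempty (twR (Twist.twistProjSpace n R 0) ≅ 𝟭 (PX).Modules) := by
  obtain ⟨e0⟩ := Groth.Agent.Lib.R2Lead.KRR.nonempty_twistProjSpace_zero_iso n R
  exact ⟨(twIso (Twist.twistProjSpace n R 0)).symm ≪≫ DCoh.tensorBi.mapIso e0 ≪≫
    Groth.Agent.Lib.Helper21.ModTensor7.tLUnitIso (PX).sheaf⟩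

/-- `Ψ_0 ≅ π^*` -/
theorem nonempty_Ψ_zero_iso : Nonempty (Ψ n R 0 ≅ Scheme.Modules.pullback πR) := by
  obtain ⟨e⟩ := nonempty_twR_zero_iso n R
  exact ⟨Functor.isoWhiskerLeft (Scheme.Modules.pullback πR) e ≪≫ Functor.rightUnitor _⟩

/-- every section of `π^* N` is a finite sum of sections of `π^* O` pushed along maps `O ⟶ N` -/
theorem exists_decomp_pullback (N : (SR).Modules) (hN : N.IsQuasicoherent)
    (σ : OP ⟶ (Scheme.Modules.pullback πR).obj N) :
    ∃ (J : Type u) (T : Finset J) (w : J → (OP ⟶ (Scheme.Modules.pullback πR).obj OS))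
      (m : J → (OS ⟶ N)), σ = ∑ j ∈ T, w j ≫ (Scheme.Modules.pullback πR).map (m j) := by
  obtain ⟨τ⟩ := nonempty_Ψ_zero_iso n R
  haveI := preservesColimits_Ψ n R 0
  obtain ⟨J, T, w, m, h⟩ := exists_decomp (A := R) (Ψ n R 0) (shortExact_map_Ψ n R 0)
    (fun J => inferInstance)
    (fun N hN => by
      haveI := hN
      exact isQuasicoherent_Ψ n R 0 N)
    (fun N hN => by
      haveI := hN
      exact subsingleton_HH_Ψ n R 0 (by omega) (0 + 1) (by omega) N)
    (Wp (CohB1.polyGrading n R) (vars R n)) (iSup_Wp_vars R n)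
    (isAffineOpen_biInf_Wp (CohB1.polyGrading n R) (vars R n) (hfs_vars R n))
    N hN (σ ≫ τ.inv.app N)
  refine ⟨J, T, fun j => w j ≫ τ.hom.app OS, m, ?_⟩
  have h1 : σ = (σ ≫ τ.inv.app N) ≫ τ.hom.app N := by
    rw [Category.assoc, Iso.inv_hom_id_app, Category.comp_id]
  rw [h1, h, Preadditive.sum_comp]
  refine Finset.sum_congr rfl (fun j _ => ?_)
  rw [Category.assoc, Category.assoc, τ.hom.naturality]


open Groth.Agent.Helper13PullbackUnit in
/-- maps `O_S ⟶ π_* π^* O_S` factor through the unit -/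
theorem exists_comp_unit_eq
    (y : OS ⟶ (Scheme.Modules.pushforward πR).obj ((Scheme.Modules.pullback πR).obj OS)) :
    ∃ v : OS ⟶ OS, v ≫ (Scheme.Modules.pullbackPushforwardAdjunction πR).unit.app OS = y := by
  haveI := Groth.Agent.Lib.Helper27ProjGamma.isIso_toSpec_appTop n R
  have hb : Function.Bijective (Scheme.Hom.app πR ⊤) :=
    ConcreteCategory.bijective_of_isIso (CohB1.ProjSpace.toSpec n R).appTop
  have hu : Function.Bijective ((Groth.Agent.Lib.R2H3.PnChart.pullbackUnitHom πR).app (πR ⁻¹ᵁ ⊤)) :=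
    Groth.Agent.Lib.R2H2.OpenImmSec.bijective_app_of_iso
      (asIso (Groth.Agent.Lib.R2H3.PnChart.pullbackUnitHom πR)) (πR ⁻¹ᵁ ⊤)
  obtain ⟨r, hr⟩ := hb.2 (OmegaSh.fnSect PX (πR ⁻¹ᵁ ⊤)
    ((Groth.Agent.Lib.R2H3.PnChart.pullbackUnitHom πR).app (πR ⁻¹ᵁ ⊤)
      (show Γ((Scheme.Modules.pullback πR).obj OS, πR ⁻¹ᵁ ⊤) from sv y ⊤)))
  refine ⟨secHom OS (OmegaSh.strSect SR ⊤ r), ?_⟩
  apply hom_ext_of_sv
  rw [sv_comp, Groth.Agent.Lib.R2H2.PnGG.sv_top_secHom']
  apply hu.1
  have h1 := Groth.Agent.Lib.R2H3.PnChart.pullbackUnitHom_pullSect πR ⊤ r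
  refine h1.trans ?_
  exact congrArg (OmegaSh.strSect PX (πR ⁻¹ᵁ ⊤)) hr

/-- composition with the unit is bijective on maps out of the structure sheaf -/
theorem bijective_comp_unit (N : (SR).Modules) (hN : N.IsQuasicoherent) :
    Function.Bijective (fun m : OS ⟶ N =>
      m ≫ (Scheme.Modules.pullbackPushforwardAdjunction πR).unit.app N) := by
  haveI : (Scheme.Modules.pushforward πR).Additive :=
    (Scheme.Modules.pullbackPushforwardAdjunction πR).right_adjoint_additive
  have e : ∀ k : OS ⟶ N, (Scheme.Modules.pullbackPushforwardAdjunction πR).homEquiv _ _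
      ((Scheme.Modules.pullback πR).map k) =
        k ≫ (Scheme.Modules.pullbackPushforwardAdjunction πR).unit.app N := fun k => by
    rw [Adjunction.homEquiv_unit]
    exact ((Scheme.Modules.pullbackPushforwardAdjunction πR).unit.naturality k).symm
  constructor
  · intro m m' h
    have h1 : (Scheme.Modules.pullback πR).map m = (Scheme.Modules.pullback πR).map m' := by
      apply ((Scheme.Modules.pullbackPushforwardAdjunction πR).homEquiv _ _).injective
      rw [e, e]
      exact h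
    have h2 : (Scheme.Modules.pullback πR).map (m - m') = 0 := by
      rw [Functor.map_sub, h1, sub_self]
    have hs : ∀ y : SR, ∃ _ : Unit, y ∈ Set.range πR := fun y =>
      ⟨(), (Groth.Agent.Lib.Helper27ProjSpaceSurj.surjective_toSpec n R).surj y⟩
    have h3 : m - m' = 0 :=
      Groth.Agent.Lib.Helper26.FpqcMod.eq_zero_of_family (fun _ : Unit => πR) hs (m - m')
        (fun _ => h2)
    exact sub_eq_zero.1 h3
  · intro σt
    let σ := ((Scheme.Modules.pullbackPushforwardAdjunction πR).homEquiv _ _).symm σt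
    let u := Groth.Agent.Lib.Helper23.PB.pullbackUnitIso πR
    obtain ⟨J, T, w, m, h⟩ := exists_decomp_pullback n R N hN (u.inv ≫ σ)
    have hσ : σ = ∑ j ∈ T, (u.hom ≫ w j) ≫ (Scheme.Modules.pullback πR).map (m j) := by
      have h1 : σ = u.hom ≫ (u.inv ≫ σ) := by rw [Iso.hom_inv_id_assoc]
      rw [h1, h, Preadditive.comp_sum]
      refine Finset.sum_congr rfl (fun j _ => ?_)
      rw [Category.assoc]
    have hv : ∀ j, ∃ v : OS ⟶ OS,
        v ≫ (Scheme.Modules.pullbackPushforwardAdjunction πR).unit.app OS =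
          (Scheme.Modules.pullbackPushforwardAdjunction πR).homEquiv _ _ (u.hom ≫ w j) := fun j =>
      exists_comp_unit_eq n R _
    choose v hv using hv
    refine ⟨∑ j ∈ T, v j ≫ m j, ?_⟩
    change (∑ j ∈ T, v j ≫ m j) ≫ _ = σt
    have hσt : σt = (Scheme.Modules.pullbackPushforwardAdjunction πR).homEquiv _ _ σ :=
      (Equiv.apply_symm_apply _ σt).symm
    rw [hσt, hσ, Adjunction.homEquiv_unit, CategoryTheory.Functor.map_sum, Preadditive.comp_sum,
      Preadditive.sum_comp]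
    refine Finset.sum_congr rfl (fun j _ => ?_)
    rw [CategoryTheory.Functor.map_comp, ← Category.assoc, ← Adjunction.homEquiv_unit, ← hv j,
      Category.assoc, Category.assoc]
    congr 1
    exact (Scheme.Modules.pullbackPushforwardAdjunction πR).unit.naturality (m j)

/-- **`Γ(Spec R, N) → Γ(P^n_R, π^* N)` is bijective** -/
theorem bijective_unit_app_top (N : (SR).Modules) (hN : N.IsQuasicoherent) :
    Function.Bijective (((Scheme.Modules.pullbackPushforwardAdjunction πR).unit.app N).app ⊤) :=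
  Groth.Agent.Lib.Helper20.ParaFLib.bijective_app_top_of_bijective_comp _
    (bijective_comp_unit n R N hN)

open Groth.Agent.Helper13PullbackUnit in
theorem unitSec_bijective_top (N : (SR).Modules) (hN : N.IsQuasicoherent)
    (W : (SR).Opens) (hW : W = ⊤) (U : (PX).Opens) (hU : U = ⊤) (hle : U ≤ πR ⁻¹ᵁ W) :
    Function.Bijective (unitSec πR N hle) := by
  subst hW
  subst hU
  have h1 := bijective_unit_app_top n R N hN
  have h2 : Function.Bijective
      (((Scheme.Modules.pullback πR).obj N).presheaf.map (homOfLE hle).op) :=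
    Groth.Agent.Lib.R2H2.OpenImmSec.bijective_map_of_eq _ rfl hle
  have h3 : (unitSec πR N hle : Γ(N, ⊤) → Γ((Scheme.Modules.pullback πR).obj N, ⊤)) =
      (((Scheme.Modules.pullback πR).obj N).presheaf.map (homOfLE hle).op) ∘
        (((Scheme.Modules.pullbackPushforwardAdjunction πR).unit.app N).app ⊤) := rfl
  rw [h3]
  exact h2.comp h1

end Pn

section Over

open Groth.Agent.Lib.R2H2.ProjOver Groth.Agent.Lib.R2H3.PullUnit Groth.Agent.Lib.R2H2.PushTwist
  Groth.Agent.Helper13PullbackUnit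

variable (n : ℕ) (T : Scheme.{u})

/-- the unit `G ⟶ p_* p^* G` is bijective on sections over affine opens -/
theorem bijective_unit_app (G : T.Modules) [G.IsQuasicoherent] {V : T.Opens}
    (hV : IsAffineOpen V) :
    Function.Bijective
      (((Scheme.Modules.pullbackPushforwardAdjunction (CohB1.ProjSpaceOver.toBase n T)).unit.app
        G).app V) := by
  let p := CohB1.ProjSpaceOver.toBase n T
  let j : Spec (CommRingCat.of Γ(T, V)) ⟶ T := hV.fromSpec
  let A : Proj (CohB1.polyGrading n Γ(T, V)) ⟶ CohB1.ProjSpaceOver n T := a n Γ(T, V) j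
  haveI hAoi : IsOpenImmersion A := isOpenImmersion_a n Γ(T, V) j
  let π := CohB1.ProjSpace.toSpec n Γ(T, V)
  have hsq : A ≫ p = π ≫ j := a_toBase n Γ(T, V) j
  have hjr : j.opensRange = V := hV.opensRange_fromSpec
  have hAr : A.opensRange = p ⁻¹ᵁ V :=
    (opensRange_a n Γ(T, V) j).trans (congrArg (fun W : T.Opens => p ⁻¹ᵁ W) hjr)
  haveI hjG : ((Scheme.Modules.pullback j).obj G).IsQuasicoherent :=
    Groth.Agent.Lib.Helper2.PullbackSec.isQuasicoherent_pullback _ _
  let Φ := (Groth.Agent.Lib.R2H3.PullUnit.T (rfl : π ≫ j = π ≫ j) G).symm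
  have h' : (π ≫ j) ⁻¹ᵁ V ≤ A ⁻¹ᵁ (p ⁻¹ᵁ V) := preimage_le hsq V
  have hge : A ⁻¹ᵁ (p ⁻¹ᵁ V) ≤ (π ≫ j) ⁻¹ᵁ V := by
    intro x hx
    change (π ≫ j) x ∈ V
    rw [← hsq]
    exact hx
  have hΘb : Function.Bijective (Θ hsq G Φ V h') :=
    Θ_bijective hsq G Φ V h' (le_of_eq hAr.symm) hge
  have key : ∀ σ : Γ(G, V), Θ hsq G Φ V h' (unitSec p G le_rfl σ) =
      unitSec π ((Scheme.Modules.pullback j).obj G) (preimage_le rfl V)
        (unitSec j G le_rfl σ) := by
    intro σ
    rw [Θ_unitSec hsq G Φ V h' le_rfl σ]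
    have h1 := T_hom_unitSec (rfl : π ≫ j = π ≫ j) G V σ
    have h2 := congrArg (fun ψ => Scheme.Modules.Hom.app ψ ((π ≫ j) ⁻¹ᵁ V)
      (unitSec π ((Scheme.Modules.pullback j).obj G) (preimage_le rfl V) (unitSec j G le_rfl σ)))
      (Groth.Agent.Lib.R2H3.PullUnit.T (rfl : π ≫ j = π ≫ j) G).hom_inv_id
    have h3 := congrArg (fun t => Scheme.Modules.Hom.app Φ.hom ((π ≫ j) ⁻¹ᵁ V) t) h1
    exact h3.symm.trans h2
  have b1 : Function.Bijective (unitSec j G (le_refl (j ⁻¹ᵁ V))) :=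
    Groth.Agent.Lib.R2H2.OpenImmSec.unitSec_bijective j G (le_of_eq hjr.symm) le_rfl le_rfl
  have hU : (π ≫ j) ⁻¹ᵁ V = ⊤ := by
    apply top_unique
    intro x _
    change j (π x) ∈ V
    exact (le_of_eq hjr) (show j (π x) ∈ j.opensRange from ⟨π x, rfl⟩)
  have b2 : Function.Bijective
      (unitSec π ((Scheme.Modules.pullback j).obj G) (preimage_le (rfl : π ≫ j = π ≫ j) V)) :=
    unitSec_bijective_top n Γ(T, V) _ hjG (j ⁻¹ᵁ V) hV.fromSpec_preimage_self _ hU _
  have b3 : Function.Bijective ((Θ hsq G Φ V h') ∘ (unitSec p G (le_refl (p ⁻¹ᵁ V)))) := by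
    have : ((Θ hsq G Φ V h') ∘ (unitSec p G (le_refl (p ⁻¹ᵁ V)))) =
        (unitSec π ((Scheme.Modules.pullback j).obj G) (preimage_le rfl V)) ∘
          (unitSec j G (le_refl (j ⁻¹ᵁ V))) := funext key
    rw [this]
    exact b2.comp b1
  have b4 : Function.Bijective (unitSec p G (le_refl (p ⁻¹ᵁ V))) :=
    (Function.Bijective.of_comp_iff' hΘb _).1 b3
  have h5 : (((Scheme.Modules.pullbackPushforwardAdjunction p).unit.app G).app V :
      Γ(G, V) → _) = unitSec p G (le_refl (p ⁻¹ᵁ V)) :=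
    funext (fun x => (unitSec_le_rfl p G V x).symm)
  rw [h5]
  exact b4

/-- **the unit `G ⟶ p_* p^* G` is an isomorphism for quasi-coherent `G`** -/
theorem isIso_unit_of_isQuasicoherent (G : T.Modules) [G.IsQuasicoherent] :
    IsIso ((Scheme.Modules.pullbackPushforwardAdjunction (KRR.pr n T)).unit.app G) :=
  Groth.Agent.Lib.R2H2.ProjOverPush.isIso_of_bijective_on_affines _
    (fun _ hV => bijective_unit_app n T G hV)

end Over

end Groth.Agent.Lib.R2H2.UnitIso
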