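import Groth.Agent.Lib.R2H2WedgePair
import Groth.Agent.Lib.Helper13ModBasis

/-!
# Alternating maps out of `E ⊗ E` factor through the wedge pairing (helper2, round 2)

Namespace `Groth.Agent.Lib.R2H2.WedgeDesc`.
* `altOf` : the alternating map of a bilinear map vanishing on the diagonal.
* `descW D Φ halt : L ⟶ F` for `D : EPData 2 E L` and `Φ : E ⊗ E ⟶ F` with `Φ (u ⊗ u) = 0` over affine opens;
  `W_descW : W D ≫ descW D Φ halt = Φ`.
-/

set_option backward.isDefEq.respectTransparency.types false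
set_option autoImplicit false
set_option linter.unusedSectionVars false
universe u

namespace Groth.Agent.Lib.R2H2.WedgeDesc

open CategoryTheory CategoryTheory.Limits AlgebraicGeometry TopologicalSpace Opposite TensorProduct
open Groth.Agent.Lib.Helper23.SecTw Groth.Agent.Lib.Helper6
open Groth.Agent.Lib.R2H2.DetTriv Groth.Agent.Lib.R2H2.WedgePair

section Alg

variable {A Mo No : Type*} [CommRing A] [AddCommGroup Mo] [Module A Mo] [AddCommGroup No]
  [Module A No]

/-- the alternating map of a bilinear map vanishing on the diagonal -/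
def altOf (β : Mo → Mo → No) (h₁ : ∀ m₁ m₂ n, β (m₁ + m₂) n = β m₁ n + β m₂ n)
    (h₂ : ∀ (a : A) m n, β (a • m) n = a • β m n)
    (h₃ : ∀ m n₁ n₂, β m (n₁ + n₂) = β m n₁ + β m n₂)
    (h₄ : ∀ (a : A) m n, β m (a • n) = a • β m n) (h₀ : ∀ m, β m m = 0) :
    Mo [⋀^Fin 2]→ₗ[A] No where
  toFun v := β (v 0) (v 1)
  map_update_add' v i x y := by
    fin_cases i
    · simp [h₁]
    · simp [h₃]
  map_update_smul' v i a x := by
    fin_cases i
    · simp [h₂]
    · simp [h₄]
  map_eq_zero_of_eq' v i j hij hne := by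
    fin_cases i <;> fin_cases j
    · exact absurd rfl hne
    · have h : v 0 = v 1 := hij
      change β (v 0) (v 1) = 0
      rw [← h]
      exact h₀ _
    · have h : v 1 = v 0 := hij
      change β (v 0) (v 1) = 0
      rw [h]
      exact h₀ _
    · exact absurd rfl hne

lemma altOf_apply (β : Mo → Mo → No) (h₁ : ∀ m₁ m₂ n, β (m₁ + m₂) n = β m₁ n + β m₂ n)
    (h₂ : ∀ (a : A) m n, β (a • m) n = a • β m n)
    (h₃ : ∀ m n₁ n₂, β m (n₁ + n₂) = β m n₁ + β m n₂)
    (h₄ : ∀ (a : A) m n, β m (a • n) = a • β m n) (h₀ : ∀ m, β m m = 0) (v : Fin 2 → Mo) :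
    altOf β h₁ h₂ h₃ h₄ h₀ v = β (v 0) (v 1) := rfl

lemma eq_vec (v : Fin 2 → Mo) : v = ![v 0, v 1] := by
  ext i; fin_cases i <;> rfl

end Alg

variable {X : Scheme.{u}}

section Desc

variable {E L F : X.Modules} (D : EPData 2 E L) (Φ : CohB1.tensorMod E E ⟶ F)
  (halt : ∀ (U : X.affineOpens) (u : Γ(E, U.1)), Φ.app U.1 (tm E E U.1 u u) = 0)

/-- the local alternating map -/
noncomputable def altΦ (U : X.affineOpens) :
    (E.val.obj (op U.1)) [⋀^Fin 2]→ₗ[Γ(X, U.1)] (F.val.obj (op U.1)) :=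
  altOf (A := Γ(X, U.1)) (fun u v : E.val.obj (op U.1) => (Φ.app U.1 (tm E E U.1 u v) : F.val.obj (op U.1)))
    (fun m₁ m₂ n => (congrArg (fun z => (Φ.app U.1 z : F.val.obj (op U.1)))
      (tm_add_left E E U.1 m₁ m₂ n)).trans (map_add _ _ _))
    (fun a m n => (congrArg (fun z => (Φ.app U.1 z : F.val.obj (op U.1)))
      (tm_smul_left E E U.1 a m n)).trans (Scheme.Modules.Hom.app_smul Φ a _))
    (fun m n₁ n₂ => (congrArg (fun z => (Φ.app U.1 z : F.val.obj (op U.1)))
      (tm_add_right E E U.1 m n₁ n₂)).trans (map_add _ _ _))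
    (fun a m n => (congrArg (fun z => (Φ.app U.1 z : F.val.obj (op U.1)))
      (tm_smul_right E E U.1 a m n)).trans (Scheme.Modules.Hom.app_smul Φ a _))
    (halt U)

/-- the local linear maps `L(U) ⟶ F(U)` -/
noncomputable def dLin (U : X.affineOpens) :
    (L.val.obj (op U.1)) →ₗ[Γ(X, U.1)] (F.val.obj (op U.1)) :=
  (exteriorPower.alternatingMapLinearEquiv (altΦ Φ halt U)) ∘ₗ (D.φ U).toLinearMap

lemma dLin_wedge (U : X.affineOpens) (v : Fin 2 → E.val.obj (op U.1)) :
    dLin D Φ halt U ((D.φ U).symm (exteriorPower.ιMulti Γ(X, U.1) 2 v)) =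
      Φ.app U.1 (tm E E U.1 (v 0) (v 1)) := by
  unfold dLin
  rw [LinearMap.comp_apply, LinearEquiv.coe_coe, LinearEquiv.apply_symm_apply,
    exteriorPower.alternatingMapLinearEquiv_apply_ιMulti]
  rfl

lemma dLin_nat (U V : X.affineOpens) (h : V.1 ≤ U.1) (x : L.val.obj (op U.1)) :
    F.val.map (homOfLE h).op (dLin D Φ halt U x) =
      dLin D Φ halt V (L.val.map (homOfLE h).op x) := by
  obtain ⟨ω, rfl⟩ := (D.φ U).symm.surjective x
  have hω : ω ∈ Submodule.span Γ(X, U.1)
      (Set.range (exteriorPower.ιMulti Γ(X, U.1) 2 (M := E.val.obj (op U.1)))) := by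
    rw [exteriorPower.ιMulti_span]
    trivial
  induction hω using Submodule.span_induction with
  | mem ω hω =>
    obtain ⟨v, rfl⟩ := hω
    rw [dLin_wedge, D.compat U V h v, dLin_wedge]
    have h1 := Groth.Agent.Lib.Helper23.Extend.app_map Φ (homOfLE h) (tm E E U.1 (v 0) (v 1))
    have h2 := res_tm E E h (v 0) (v 1)
    exact h1.symm.trans (congrArg (fun z => Φ.app V.1 z) h2)
  | zero =>
    rw [map_zero, map_zero, map_zero, map_zero]
    exact (map_zero (dLin D Φ halt V)).symm
  | add a b _ _ ha hb =>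
    have e1 : (D.φ U).symm (a + b) = (D.φ U).symm a + (D.φ U).symm b := map_add _ _ _
    have e2 : dLin D Φ halt U ((D.φ U).symm a + (D.φ U).symm b) =
        dLin D Φ halt U ((D.φ U).symm a) + dLin D Φ halt U ((D.φ U).symm b) := map_add _ _ _
    have e3 : F.val.map (homOfLE h).op
        (dLin D Φ halt U ((D.φ U).symm a) + dLin D Φ halt U ((D.φ U).symm b)) =
        F.val.map (homOfLE h).op (dLin D Φ halt U ((D.φ U).symm a)) +
          F.val.map (homOfLE h).op (dLin D Φ halt U ((D.φ U).symm b)) := map_add _ _ _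
    have e4 : L.val.map (homOfLE h).op ((D.φ U).symm a + (D.φ U).symm b) =
        L.val.map (homOfLE h).op ((D.φ U).symm a) + L.val.map (homOfLE h).op ((D.φ U).symm b) :=
      map_add _ _ _
    rw [e1, e2, e3, e4, ha, hb]
    exact (map_add (dLin D Φ halt V) _ _).symm
  | smul a ω _ ih =>
    have e1 : (D.φ U).symm (a • ω) = a • (D.φ U).symm ω := map_smul _ _ _
    have e2 : dLin D Φ halt U (a • (D.φ U).symm ω) = a • dLin D Φ halt U ((D.φ U).symm ω) :=
      map_smul _ _ _
    have e3 : F.val.map (homOfLE h).op (a • dLin D Φ halt U ((D.φ U).symm ω)) =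
        (X.ringCatSheaf.obj.map (homOfLE h).op a) •
          F.val.map (homOfLE h).op (dLin D Φ halt U ((D.φ U).symm ω)) :=
      PresheafOfModules.map_smul F.val (homOfLE h).op a _
    have e4 : L.val.map (homOfLE h).op (a • (D.φ U).symm ω) =
        (X.ringCatSheaf.obj.map (homOfLE h).op a) • L.val.map (homOfLE h).op ((D.φ U).symm ω) :=
      PresheafOfModules.map_smul L.val (homOfLE h).op a _
    rw [e1, e2, e3, e4, ih]
    exact (map_smul (dLin D Φ halt V) _ _).symm

/-- the components as morphisms of abelian groups -/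
noncomputable def dAbL (U : X.affineOpens) : Γ(L, U.1) ⟶ Γ(F, U.1) :=
  AddCommGrpCat.ofHom (dLin D Φ halt U).toAddMonoidHom

/-- **the descent of an alternating map along the wedge pairing** -/
noncomputable def descW : L ⟶ F :=
  Groth.Agent.Helper13ModBasis.homOfBasis (fun U : X.affineOpens => U.1) isBasis_aff
    (dAbL D Φ halt)
    (fun U V h => by
      ext x
      exact (dLin_nat D Φ halt U V h x).symm)
    (fun U a m => map_smul (dLin D Φ halt U) a m)

theorem descW_app (U : X.affineOpens) (x : Γ(L, U.1)) :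
    (descW D Φ halt).app U.1 x = dLin D Φ halt U x := by
  have h := Groth.Agent.Helper13ModBasis.homOfBasis_app (fun U : X.affineOpens => U.1) isBasis_aff
    (dAbL D Φ halt)
    (fun U V h => by
      ext x
      exact (dLin_nat D Φ halt U V h x).symm)
    (fun U a m => map_smul (dLin D Φ halt U) a m) U
  exact congrArg (fun φ => φ x) (congrArg (fun φ => (ConcreteCategory.hom φ : _ → _)) h)

theorem W_descW : W D ≫ descW D Φ halt = Φ := by
  refine hom_ext_tm_basis (fun U : X.affineOpens => U.1) isBasis_aff _ _ fun U m n => ?_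
  change (descW D Φ halt).app U.1 ((W D).app U.1 (tm E E U.1 m n)) = _
  rw [W_tm, descW_app, dLin_wedge]
  rfl

end Desc

end Groth.Agent.Lib.R2H2.WedgeDesc
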