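import Groth.Agent.Lib.R2H2DetTriv
import Groth.Agent.Lib.Helper18Tens1
import Groth.Agent.Lib.Helper23SecTw2
import Groth.Agent.Lib.Helper23SecTw3
import Groth.Agent.Lib.Helper23SecTw6
import Groth.Agent.Lib.Helper23TensorMap
import Groth.Agent.Lib.R2H2LocFreeTF
import Groth.Agent.Lib.R2H2PnSerreCorr
import Groth.Prelude.Def_KoszTw

/-!
# The wedge pairing `E ⊗ E ⟶ Λ²E` (helper2, round 2)

* `liftAff` : a morphism `M ⊗ N ⟶ F` from a family of bilinear maps on the affine opens compatible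
  with restriction.
* `W D : E ⊗ E ⟶ L` for `D : EPData 2 E L`, `W_tm`, alternating, nondegenerate on free opens.
-/

set_option backward.isDefEq.respectTransparency.types false
set_option autoImplicit false
set_option linter.unusedSectionVars false
universe u

namespace Groth.Agent.Lib.R2H2.WedgePair

open CategoryTheory CategoryTheory.Limits AlgebraicGeometry TopologicalSpace Opposite TensorProduct
  MonoidalCategory
open Groth.Agent.Lib.Helper23.GenLocus Groth.Agent.Lib.Helper23.Extend Groth.Agent.Lib.Helper23.Serre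
open Groth.Agent.Lib.Helper23.SecTw Groth.Agent.Lib.Helper6
open Groth.Agent.Lib.R2H2.DetTriv

variable {X : Scheme.{u}}

section general

variable {C : Type*} [Category C] {R : Cᵒᵖ ⥤ CommRingCat.{u}}
variable {M₁ M₂ M₃ : PresheafOfModules.{u} (R ⋙ forget₂ CommRingCat RingCat)}

open Groth.Agent.Helper18Tens in
/-- naturality of `ofBilinApp` along one map -/
theorem ofBilinApp_nat {Z W : Cᵒᵖ} (f : Z ⟶ W)
    (βZ : M₁.obj Z → M₂.obj Z → M₃.obj Z) (βW : M₁.obj W → M₂.obj W → M₃.obj W)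
    (a₁ : ∀ m₁ m₂ n, βZ (m₁ + m₂) n = βZ m₁ n + βZ m₂ n)
    (a₂ : ∀ (a : (R ⋙ forget₂ CommRingCat RingCat).obj Z) m n, βZ (a • m) n = a • βZ m n)
    (a₃ : ∀ m n₁ n₂, βZ m (n₁ + n₂) = βZ m n₁ + βZ m n₂)
    (a₄ : ∀ (a : (R ⋙ forget₂ CommRingCat RingCat).obj Z) m n, βZ m (a • n) = a • βZ m n)
    (b₁ : ∀ m₁ m₂ n, βW (m₁ + m₂) n = βW m₁ n + βW m₂ n)
    (b₂ : ∀ (a : (R ⋙ forget₂ CommRingCat RingCat).obj W) m n, βW (a • m) n = a • βW m n)
    (b₃ : ∀ m n₁ n₂, βW m (n₁ + n₂) = βW m n₁ + βW m n₂)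
    (b₄ : ∀ (a : (R ⋙ forget₂ CommRingCat RingCat).obj W) m n, βW m (a • n) = a • βW m n)
    (hnat : ∀ m n, M₃.map f (βZ m n) = βW (M₁.map f m) (M₂.map f n))
    (z : (M₁ ⊗ M₂).obj Z) :
    (ofBilinApp W βW b₁ b₂ b₃ b₄).hom (((M₁ ⊗ M₂).map f).hom z) =
      (M₃.map f).hom ((ofBilinApp Z βZ a₁ a₂ a₃ a₄).hom z) := by
  have key : (M₁ ⊗ M₂).map f ≫ (ModuleCat.restrictScalars
        ((R ⋙ forget₂ CommRingCat RingCat).map f).hom).map (ofBilinApp W βW b₁ b₂ b₃ b₄) =
      ofBilinApp Z βZ a₁ a₂ a₃ a₄ ≫ M₃.map f :=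
    ModuleCat.MonoidalCategory.tensor_ext (fun m₁ m₂ => by
      have e1 : ((M₁ ⊗ M₂).map f).hom (m₁ ⊗ₜ[R.obj Z] m₂) = M₁.map f m₁ ⊗ₜ[R.obj W] M₂.map f m₂ :=
        PresheafOfModules.Monoidal.tensorObj_map_tmul f m₁ m₂
      change (ofBilinApp W βW b₁ b₂ b₃ b₄).hom (((M₁ ⊗ M₂).map f).hom (m₁ ⊗ₜ[R.obj Z] m₂)) =
        (M₃.map f).hom ((ofBilinApp Z βZ a₁ a₂ a₃ a₄).hom (m₁ ⊗ₜ[R.obj Z] m₂))
      rw [e1]
      exact (hnat m₁ m₂).symm)
  exact congrArg (fun φ => φ.hom z) key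

end general

section LiftAff

variable {M N F : X.Modules}
variable (β : ∀ U : X.affineOpens, M.val.obj (op U.1) → N.val.obj (op U.1) → F.val.obj (op U.1))
  (h₁ : ∀ U m₁ m₂ n, β U (m₁ + m₂) n = β U m₁ n + β U m₂ n)
  (h₂ : ∀ U (a : X.ringCatSheaf.obj.obj (op U.1)) m n, β U (a • m) n = a • β U m n)
  (h₃ : ∀ U m n₁ n₂, β U m (n₁ + n₂) = β U m n₁ + β U m n₂)
  (h₄ : ∀ U (a : X.ringCatSheaf.obj.obj (op U.1)) m n, β U m (a • n) = a • β U m n)
  (hnat : ∀ (U V : X.affineOpens) (h : V.1 ≤ U.1) m n,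
    F.val.map (homOfLE h).op (β U m n) = β V (M.val.map (homOfLE h).op m) (N.val.map (homOfLE h).op n))

/-- the sectionwise tensor product presheaf -/
noncomputable abbrev TP (M N : X.Modules) : X.PresheafOfModules := CohB1.tensorPre M N

/-- the component over an affine open -/
noncomputable def dAff (U : X.affineOpens) : (TP M N).obj (op U.1) ⟶ F.val.obj (op U.1) :=
  Groth.Agent.Helper18Tens.ofBilinApp (R := X.sheaf.obj) (M₁ := CohB1.toPMod M) (M₂ := CohB1.toPMod N)
    (M₃ := CohB1.toPMod F) (op U.1) (β U) (h₁ U) (h₂ U) (h₃ U) (h₄ U)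

lemma dAff_tmul (U : X.affineOpens) (m : M.val.obj (op U.1)) (n : N.val.obj (op U.1)) :
    (dAff β h₁ h₂ h₃ h₄ U).hom (m ⊗ₜ n) = β U m n := rfl

/-- the component as a morphism of abelian groups -/
noncomputable def dAb (U : X.affineOpens) :
    (TP M N).presheaf.obj (op U.1) ⟶ F.presheaf.obj (op U.1) :=
  AddCommGrpCat.ofHom (dAff β h₁ h₂ h₃ h₄ U).hom.toAddMonoidHom

include hnat in
lemma dAb_nat (U V : X.affineOpens) (h : V.1 ≤ U.1) :
    (TP M N).presheaf.map (homOfLE h).op ≫ dAb β h₁ h₂ h₃ h₄ V =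
      dAb β h₁ h₂ h₃ h₄ U ≫ F.presheaf.map (homOfLE h).op := by
  ext z
  exact ofBilinApp_nat (R := X.sheaf.obj) (M₁ := CohB1.toPMod M) (M₂ := CohB1.toPMod N)
    (M₃ := CohB1.toPMod F) (homOfLE h).op (β U) (β V) (h₁ U) (h₂ U) (h₃ U) (h₄ U)
    (h₁ V) (h₂ V) (h₃ V) (h₄ V) (hnat U V h) z

/-- the basis of affine opens -/
lemma isBasis_aff : Opens.IsBasis (Set.range fun U : X.affineOpens => U.1) := by
  rw [Subtype.range_coe]
  exact X.isBasis_affineOpens

/-- the natural transformation on the basis of affine opens -/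
noncomputable def basisNat : (inducedFunctor fun U : X.affineOpens => U.1).op ⋙ (TP M N).presheaf ⟶
    (inducedFunctor fun U : X.affineOpens => U.1).op ⋙ F.presheaf where
  app U := dAb β h₁ h₂ h₃ h₄ U.unop
  naturality U V f := dAb_nat β h₁ h₂ h₃ h₄ hnat U.unop V.unop
    (leOfHom ((inducedFunctor fun U : X.affineOpens => U.1).map f.unop))

/-- the extension to all opens -/
noncomputable def abHomT : (TP M N).presheaf ⟶ F.presheaf :=
  TopCat.Sheaf.restrictHomEquivHom (TP M N).presheaf (⟨F.presheaf, F.isSheaf⟩ : TopCat.Sheaf Ab X)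
    isBasis_aff (basisNat β h₁ h₂ h₃ h₄ hnat)

lemma abHomT_app (U : X.affineOpens) :
    (abHomT β h₁ h₂ h₃ h₄ hnat).app (op U.1) = dAb β h₁ h₂ h₃ h₄ U :=
  TopCat.Sheaf.extend_hom_app (TP M N).presheaf (⟨F.presheaf, F.isSheaf⟩ : TopCat.Sheaf Ab X)
    isBasis_aff (basisNat β h₁ h₂ h₃ h₄ hnat) U

lemma abHomT_res (U : X.Opens) (V : X.affineOpens) (hle : V.1 ≤ U) (z : (TP M N).obj (op U)) :
    F.presheaf.map (homOfLE hle).op ((abHomT β h₁ h₂ h₃ h₄ hnat).app (op U) z) =
      (dAff β h₁ h₂ h₃ h₄ V).hom (((TP M N).map (homOfLE hle).op).hom z) := by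
  have := (abHomT β h₁ h₂ h₃ h₄ hnat).naturality (homOfLE hle).op
  rw [abHomT_app β h₁ h₂ h₃ h₄ hnat V] at this
  exact (CategoryTheory.congr_fun this z).symm

/-- the extension, with values typed in the module of sections -/
noncomputable def appF (U : X.Opens) (z : (TP M N).obj (op U)) : F.val.obj (op U) :=
  (abHomT β h₁ h₂ h₃ h₄ hnat).app (op U) z

lemma appF_res (U : X.Opens) (V : X.affineOpens) (hle : V.1 ≤ U) (z : (TP M N).obj (op U)) :
    F.val.map (homOfLE hle).op (appF β h₁ h₂ h₃ h₄ hnat U z) =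
      (dAff β h₁ h₂ h₃ h₄ V).hom (((TP M N).map (homOfLE hle).op).hom z) :=
  abHomT_res β h₁ h₂ h₃ h₄ hnat U V hle z

lemma abHomT_smul (U : X.Opens) (a : X.ringCatSheaf.obj.obj (op U)) (z : (TP M N).obj (op U)) :
    appF β h₁ h₂ h₃ h₄ hnat U (a • z) = a • appF β h₁ h₂ h₃ h₄ hnat U z := by
  refine Groth.Agent.Helper13ModBasis.section_ext_basis (fun U : X.affineOpens => U.1) isBasis_aff
    F (U := U) _ _ fun V hle => ?_
  have e1 := appF_res β h₁ h₂ h₃ h₄ hnat U V hle (a • z)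
  have h1 : F.val.map (homOfLE hle).op (a • appF β h₁ h₂ h₃ h₄ hnat U z) =
      (X.ringCatSheaf.obj.map (homOfLE hle).op a) •
        F.val.map (homOfLE hle).op (appF β h₁ h₂ h₃ h₄ hnat U z) :=
    PresheafOfModules.map_smul F.val (homOfLE hle).op a _
  have h2 : ((TP M N).map (homOfLE hle).op).hom (a • z) =
      (X.ringCatSheaf.obj.map (homOfLE hle).op a) • ((TP M N).map (homOfLE hle).op).hom z :=
    PresheafOfModules.map_smul (TP M N) (homOfLE hle).op a z
  refine e1.trans (Eq.trans ?_ h1.symm)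
  rw [h2, appF_res β h₁ h₂ h₃ h₄ hnat U V hle z]
  exact map_smul (dAff β h₁ h₂ h₃ h₄ V).hom _ _

/-- the morphism of presheaves of modules -/
noncomputable def preHom : (TP M N) ⟶ F.val :=
  PresheafOfModules.homMk (abHomT β h₁ h₂ h₃ h₄ hnat)
    (fun U a z => abHomT_smul β h₁ h₂ h₃ h₄ hnat U.unop a z)

/-- **a morphism out of a tensor product from bilinear maps on the affine opens** -/
noncomputable def liftAff : CohB1.tensorMod M N ⟶ F :=
  Groth.Agent.Helper18Tens.tensorDesc M N F (preHom β h₁ h₂ h₃ h₄ hnat)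

theorem liftAff_tm (U : X.affineOpens) (m : Γ(M, U.1)) (n : Γ(N, U.1)) :
    (liftAff β h₁ h₂ h₃ h₄ hnat).app U.1 (tm M N U.1 m n) = β U m n := by
  have h := Groth.Agent.Helper18Tens.tensorDesc_tmul M N F (preHom β h₁ h₂ h₃ h₄ hnat) U.1 m n
  refine h.trans ?_
  change (abHomT β h₁ h₂ h₃ h₄ hnat).app (op U.1) (m ⊗ₜ n) = β U m n
  rw [abHomT_app]
  rfl

end LiftAff

section Alg

variable {A Mo : Type*} [CommRing A] [AddCommGroup Mo] [Module A Mo]

lemma upd0 (a b x : Mo) : Function.update ![a, b] 0 x = ![x, b] := by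
  ext i; fin_cases i <;> simp

lemma upd1 (a b y : Mo) : Function.update ![a, b] 1 y = ![a, y] := by
  ext i; fin_cases i <;> simp

lemma wd_add_left (a a' b : Mo) : exteriorPower.ιMulti A 2 ![a + a', b] =
    exteriorPower.ιMulti A 2 ![a, b] + exteriorPower.ιMulti A 2 ![a', b] := by
  have h := (exteriorPower.ιMulti A 2 (M := Mo)).map_update_add ![a, b] 0 a a'
  rwa [upd0, upd0, upd0] at h

lemma wd_add_right (a b b' : Mo) : exteriorPower.ιMulti A 2 ![a, b + b'] =
    exteriorPower.ιMulti A 2 ![a, b] + exteriorPower.ιMulti A 2 ![a, b'] := by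
  have h := (exteriorPower.ιMulti A 2 (M := Mo)).map_update_add ![a, b] 1 b b'
  rwa [upd1, upd1, upd1] at h

lemma wd_smul_left (r : A) (a b : Mo) : exteriorPower.ιMulti A 2 ![r • a, b] =
    r • exteriorPower.ιMulti A 2 ![a, b] := by
  have h := (exteriorPower.ιMulti A 2 (M := Mo)).map_update_smul ![a, b] 0 r a
  rwa [upd0, upd0] at h

lemma wd_smul_right (r : A) (a b : Mo) : exteriorPower.ιMulti A 2 ![a, r • b] =
    r • exteriorPower.ιMulti A 2 ![a, b] := by
  have h := (exteriorPower.ιMulti A 2 (M := Mo)).map_update_smul ![a, b] 1 r b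
  rwa [upd1, upd1] at h

lemma wd_self (a : Mo) : exteriorPower.ιMulti A 2 ![a, a] = 0 :=
  (exteriorPower.ιMulti A 2 (M := Mo)).map_eq_zero_of_eq ![a, a] (i := 0) (j := 1) rfl (by decide)

/-- nondegeneracy of the wedge on a free module of rank two -/
lemma eq_zero_of_wd_eq_zero (b : Module.Basis (Fin 2) A Mo) (σ : Mo)
    (h : ∀ u : Mo, exteriorPower.ιMulti A 2 ![u, σ] = 0) : σ = 0 := by
  have key : ∀ u : Mo, b.det ![u, σ] = 0 := by
    intro u
    have h1 := exteriorPower.alternatingMapLinearEquiv_apply_ιMulti b.det ![u, σ]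
    rw [h u, map_zero] at h1
    exact h1.symm
  apply b.ext_elem
  intro i
  rw [map_zero, Finsupp.zero_apply]
  fin_cases i
  · have h1 := key (b 1)
    rw [Module.Basis.det_apply, Matrix.det_fin_two] at h1
    simp only [Module.Basis.toMatrix_apply, Matrix.cons_val_zero, Matrix.cons_val_one,
      Module.Basis.repr_self] at h1
    simpa using h1
  · have h1 := key (b 0)
    rw [Module.Basis.det_apply, Matrix.det_fin_two] at h1
    simp only [Module.Basis.toMatrix_apply, Matrix.cons_val_zero, Matrix.cons_val_one,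
      Module.Basis.repr_self] at h1
    simpa using h1

end Alg

section Wedge

variable {E L : X.Modules} (D : EPData 2 E L)

/-- the local wedge `u ∧ v` -/
noncomputable def wβ (U : X.affineOpens) (u v : E.val.obj (op U.1)) : L.val.obj (op U.1) :=
  (D.φ U).symm (exteriorPower.ιMulti Γ(X, U.1) 2 ![u, v])

/-- **the wedge pairing** `E ⊗ E ⟶ L` -/
noncomputable def W : CohB1.tensorMod E E ⟶ L :=
  liftAff (wβ D)
    (fun U m₁ m₂ n => by
      unfold wβ
      rw [wd_add_left, map_add])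
    (fun U a m n => by
      unfold wβ
      have h := wd_smul_left (A := Γ(X, U.1)) (show Γ(X, U.1) from a) m n
      exact (congrArg (D.φ U).symm h).trans (map_smul (D.φ U).symm (show Γ(X, U.1) from a) _))
    (fun U m n₁ n₂ => by
      unfold wβ
      rw [wd_add_right, map_add])
    (fun U a m n => by
      unfold wβ
      have h := wd_smul_right (A := Γ(X, U.1)) (show Γ(X, U.1) from a) m n
      exact (congrArg (D.φ U).symm h).trans (map_smul (D.φ U).symm (show Γ(X, U.1) from a) _))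
    (fun U V h m n => by
      unfold wβ
      rw [D.compat U V h]
      congr 2)

theorem W_tm (U : X.affineOpens) (u v : Γ(E, U.1)) :
    (W D).app U.1 (tm E E U.1 u v) = (D.φ U).symm (exteriorPower.ιMulti Γ(X, U.1) 2 ![u, v]) :=
  liftAff_tm _ _ _ _ _ _ U u v

theorem W_tm_self (U : X.affineOpens) (u : Γ(E, U.1)) :
    (W D).app U.1 (tm E E U.1 u u) = 0 := by
  exact (W_tm D U u u).trans ((congrArg (D.φ U).symm (wd_self u)).trans (map_zero _))

/-- nondegeneracy over an affine open where `E` is free -/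
theorem eq_zero_of_W_eq_zero (U : X.affineOpens) (b : Module.Basis (Fin 2) Γ(X, U.1) Γ(E, U.1))
    (σ : Γ(E, U.1)) (h : ∀ u : Γ(E, U.1), (W D).app U.1 (tm E E U.1 u σ) = 0) : σ = 0 := by
  refine eq_zero_of_wd_eq_zero b σ fun u => ?_
  have h1 := h u
  rw [W_tm] at h1
  exact (D.φ U).symm.injective (h1.trans (map_zero _).symm)

end Wedge

section HomExt

open Groth.Agent.Lib.Helper23.TensorMap in
/-- morphisms out of a tensor product are determined by their values on pure tensors -/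
theorem hom_ext_tm {M N F : X.Modules} (f g : CohB1.tensorMod M N ⟶ F)
    (h : ∀ (W : X.Opens) (m : Γ(M, W)) (n : Γ(N, W)),
      f.app W (tm M N W m n) = g.app W (tm M N W m n)) : f = g := by
  apply ((adj X).homEquiv _ _).injective
  have key : ∀ (φ : CohB1.tensorMod M N ⟶ F) (W : X.Opens) (m : Γ(M, W)) (n : Γ(N, W)),
      ((((adj X).homEquiv (show X.PresheafOfModules from CohB1.tensorPre M N) F) φ).app (op W)).hom
        (m ⊗ₜ n) = φ.app W (tm M N W m n) := by
    intro φ W m n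
    have h1 : ((adj X).homEquiv (show X.PresheafOfModules from CohB1.tensorPre M N) F) φ =
        SecTwist.toTensor M N ≫ (SheafOfModules.forget _ ⋙
          PresheafOfModules.restrictScalars (𝟙 X.ringCatSheaf.obj)).map φ := by
      erw [Adjunction.homEquiv_unit]
      rfl
    rw [h1]
    rfl
  ext W : 2
  obtain ⟨W⟩ := W
  apply LinearMap.ext
  intro z
  refine TensorProduct.induction_on z ?_ ?_ ?_
  · exact (map_zero _).trans (map_zero _).symm
  · intro m n
    exact (key f W m n).trans ((h W m n).trans (key g W m n).symm)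
  · intro a b ha hb
    exact (map_add _ a b).trans ((congrArg₂ (· + ·) ha hb).trans (map_add _ a b).symm)

/-- the same over a basis of opens -/
theorem hom_ext_tm_basis {ι : Type*} (B : ι → X.Opens) (hB : Opens.IsBasis (Set.range B))
    {M N F : X.Modules} (f g : CohB1.tensorMod M N ⟶ F)
    (h : ∀ (i : ι) (m : Γ(M, B i)) (n : Γ(N, B i)),
      f.app (B i) (tm M N (B i) m n) = g.app (B i) (tm M N (B i) m n)) : f = g := by
  apply hom_ext_tm
  intro W m n
  refine Groth.Agent.Helper13ModBasis.section_ext_basis B hB F _ _ fun i hle => ?_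
  change res F hle (f.app W (tm M N W m n)) = res F hle (g.app W (tm M N W m n))
  have h1 : ∀ φ : CohB1.tensorMod M N ⟶ F, res F hle (φ.app W (tm M N W m n)) =
      φ.app (B i) (tm M N (B i) (res M hle m) (res N hle n)) := by
    intro φ
    rw [← res_tm M N hle m n]
    exact (app_map φ (homOfLE hle) _).symm
  rw [h1 f, h1 g]
  exact h i _ _

end HomExt

section Inv

variable {E L M : X.Modules}

/-- good opens: affine, `M` has a generator, `E` has a basis -/
def Good (M E : X.Modules) (U : X.affineOpens) : Prop :=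
  (∃ g : Γ(M, U.1), IsGen M U.1 g) ∧ Nonempty (Module.Basis (Fin 2) Γ(X, U.1) Γ(E, U.1))

lemma exists_good (hE : FlatMod.IsFinLocFreeOfRank 2 E) (hM : PicF.IsInvertible M)
    (x : X) (V : X.Opens) (hx : x ∈ V) :
    ∃ U : X.affineOpens, x ∈ U.1 ∧ U.1 ≤ V ∧ Good M E U := by
  obtain ⟨W, hxW, -, e, f, -, -, hgen⟩ := exists_frame M hM 0 x
  obtain ⟨U, hU, hxU, hle, hb⟩ :=
    Groth.Agent.Lib.R2H2.LocFreeTF.exists_affine_basis_le E hE (W ⊓ V) x ⟨hxW, hx⟩
  exact ⟨⟨U, hU⟩, hxU, hle.trans inf_le_right,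
    ⟨res M (hle.trans inf_le_left) e, hgen.mono _⟩, hb⟩

/-- the family of good opens -/
def goodB (M E : X.Modules) : {U : X.affineOpens // Good M E U} → X.Opens := fun U => U.1.1

lemma isBasis_good (hE : FlatMod.IsFinLocFreeOfRank 2 E) (hM : PicF.IsInvertible M) :
    Opens.IsBasis (Set.range (goodB M E)) := by
  rw [Opens.isBasis_iff_nbhd]
  intro V x hx
  obtain ⟨U, hxU, hle, hg⟩ := exists_good hE hM x V hx
  exact ⟨U.1, ⟨⟨U, hg⟩, rfl⟩, hxU, hle⟩

/-- every section is a multiple of a generator -/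
lemma exists_smul_eq {U : X.Opens} {g : Γ(M, U)} (hg : IsGen M U g) (t : Γ(M, U)) :
    ∃ α : Γ(X, U), t = α • g := by
  obtain ⟨α, hα⟩ := (hg U le_rfl).2 t
  refine ⟨α, ?_⟩
  have h1 : res M (le_refl U) g = g := res_self M g
  rw [← hα]
  change α • res M (le_refl U) g = α • g
  rw [h1]

variable (D : EPData 2 E L) (hE : FlatMod.IsFinLocFreeOfRank 2 E) (hM : PicF.IsInvertible M)
  (s' : M ⟶ E)

include hE hM in
/-- `s' ∧ s' = 0` -/
theorem tensorMap_self_W : KoszTw.tensorMap s' s' ≫ W D = 0 := by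
  refine hom_ext_tm_basis (goodB M E) (isBasis_good hE hM) _ _ fun U m n => ?_
  obtain ⟨⟨g, hg⟩, -⟩ := U.2
  obtain ⟨α, rfl⟩ := exists_smul_eq hg m
  obtain ⟨α', rfl⟩ := exists_smul_eq hg n
  rw [Scheme.Modules.Hom.comp_app]
  change (W D).app U.1.1 ((KoszTw.tensorMap s' s').app U.1.1 (tm M M U.1.1 (α • g) (α' • g))) = _
  have h1 : (KoszTw.tensorMap s' s').app U.1.1 (tm M M U.1.1 (α • g) (α' • g)) =
      tm E E U.1.1 (s'.app U.1.1 (α • g)) (s'.app U.1.1 (α' • g)) :=
    KoszTw.tensorMap_tmul s' s' U.1.1 _ _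
  rw [h1, Scheme.Modules.Hom.app_smul, Scheme.Modules.Hom.app_smul, tm_smul_left, tm_smul_right,
    Scheme.Modules.Hom.app_smul, Scheme.Modules.Hom.app_smul, W_tm_self, smul_zero, smul_zero]
  rfl

include hE hM in
/-- nondegeneracy: if `u ∧ s'(t) = 0` for all `u, t` then `s' = 0` -/
theorem eq_zero_of_tensorMap_W_eq_zero (h : KoszTw.tensorMap (𝟙 E) s' ≫ W D = 0) : s' = 0 := by
  refine Groth.Agent.Helper13ModBasis.hom_ext_basis (goodB M E) (isBasis_good hE hM) _ _ fun U => ?_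
  obtain ⟨⟨g, hg⟩, ⟨b⟩⟩ := U.2
  have hσ : s'.app U.1.1 g = 0 := by
    refine eq_zero_of_W_eq_zero D U.1 b _ fun u => ?_
    have h1 : (KoszTw.tensorMap (𝟙 E) s').app U.1.1 (tm E M U.1.1 u g) =
        tm E E U.1.1 ((𝟙 E : E ⟶ E).app U.1.1 u) (s'.app U.1.1 g) :=
      KoszTw.tensorMap_tmul (𝟙 E) s' U.1.1 _ _
    have h2 := congrArg (fun φ => φ.app U.1.1 (tm E M U.1.1 u g)) h
    change (W D).app U.1.1 ((KoszTw.tensorMap (𝟙 E) s').app U.1.1 (tm E M U.1.1 u g)) = 0 at h2
    rw [h1] at h2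
    exact h2
  ext t
  obtain ⟨α, rfl⟩ := exists_smul_eq hg t
  change s'.app U.1.1 (α • g) = 0
  rw [Scheme.Modules.Hom.app_smul, hσ, smul_zero]

end Inv

section Mono

variable [IsIntegral X] {E M : X.Modules}

/-- a nonzero morphism from an invertible module to a finite locally free module of rank two on
an integral scheme is a monomorphism -/
theorem mono_of_ne_zero (hE : FlatMod.IsFinLocFreeOfRank 2 E) (hM : PicF.IsInvertible M)
    (s' : M ⟶ E) (hs : s' ≠ 0) : Mono s' := by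
  -- a section with nonzero image
  obtain ⟨U₁, t₁, ht₁⟩ : ∃ (U₁ : X.Opens) (t₁ : Γ(M, U₁)), s'.app U₁ t₁ ≠ 0 := by
    by_contra hcon
    push Not at hcon
    apply hs
    refine Groth.Agent.Helper13ModBasis.hom_ext_basis (fun U : X.Opens => U)
      (by rw [Set.range_id']; exact Opens.isBasis_iff_nbhd.2 fun {U x} hx => ⟨U, trivial, hx, le_rfl⟩)
      _ _ fun U => ?_
    ext t
    exact hcon U t
  have hne₁ : (U₁ : Set X).Nonempty := by
    by_contra hemp
    apply ht₁
    have hbot : U₁ ≤ ⊥ := by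
      intro x hx
      exact (hemp ⟨x, hx⟩).elim
    exact eq_zero_of_le_bot E hbot _
  apply Groth.Agent.Lib.R2H2.PnSerreCorr.mono_of_app_injective
  intro U₀
  rw [injective_iff_map_eq_zero]
  intro t ht
  refine Groth.Agent.Helper13ModBasis.section_ext_basis (goodB M E) (isBasis_good hE hM) M _ _
    fun U hle => ?_
  obtain ⟨⟨g, hg⟩, -⟩ := U.2
  rw [map_zero]
  change res M hle t = 0
  obtain ⟨α, hα⟩ := exists_smul_eq hg (res M hle t)
  refine hα.trans ?_
  by_cases hα0 : α = 0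
  · rw [hα0, zero_smul]
    rfl
  exfalso
  -- `s'(g) = 0` on `U`
  have h1 : α • s'.app U.1.1 g = 0 := by
    rw [← Scheme.Modules.Hom.app_smul, ← hα]
    have := app_map s' (homOfLE hle) t
    change s'.app U.1.1 (res M hle t) = res E hle (s'.app U₀ t) at this
    rw [this, ht, res_zero]
    rfl
  have hσ : s'.app U.1.1 g = 0 :=
    Groth.Agent.Lib.R2H2.LocFreeTF.eq_zero_of_smul_eq_zero E hE α hα0 _ h1
  -- then `s'(t₁)` vanishes on `U ⊓ U₁`
  apply ht₁
  by_cases hUe : (U.1.1 : Set X).Nonempty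
  · have hne : ((U.1.1 ⊓ U₁ : X.Opens) : Set X).Nonempty :=
      nonempty_preirreducible_inter U.1.1.isOpen U₁.isOpen hUe hne₁
    refine Groth.Agent.Lib.R2H2.LocFreeTF.eq_zero_of_res_eq_zero E hE
      (inf_le_right : U.1.1 ⊓ U₁ ≤ U₁) hne _ ?_
    have h2 := app_map s' (homOfLE (inf_le_right : U.1.1 ⊓ U₁ ≤ U₁)) t₁
    change s'.app (U.1.1 ⊓ U₁) (res M inf_le_right t₁) = res E inf_le_right (s'.app U₁ t₁) at h2
    change res E inf_le_right (s'.app U₁ t₁) = 0
    rw [← h2]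
    obtain ⟨γ, hγ⟩ := exists_smul_eq (hg.mono (inf_le_left : U.1.1 ⊓ U₁ ≤ U.1.1))
      (res M inf_le_right t₁)
    rw [hγ, Scheme.Modules.Hom.app_smul]
    have h3 := app_map s' (homOfLE (inf_le_left : U.1.1 ⊓ U₁ ≤ U.1.1)) g
    change s'.app (U.1.1 ⊓ U₁) (res M inf_le_left g) = res E inf_le_left (s'.app U.1.1 g) at h3
    rw [h3, hσ, res_zero, smul_zero]
  · -- `U` empty: then `α = 0` since `Γ(X, ∅)` is trivial
    exfalso
    apply hα0
    have hbot : U.1.1 ≤ ⊥ := by
      intro x hx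
      exact (hUe ⟨x, hx⟩).elim
    have : Subsingleton Γ(X, U.1.1) := by
      have hb : U.1.1 = ⊥ := le_bot_iff.1 hbot
      rw [hb]
      exact CommRingCat.subsingleton_of_isTerminal X.sheaf.isTerminalOfEmpty
    exact Subsingleton.elim _ _

end Mono

end Groth.Agent.Lib.R2H2.WedgePair
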