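import Groth.Agent.Lib.R2H2PnSimpleNorm
import Groth.Agent.Lib.R2H2WedgeDesc
import Groth.Agent.Lib.R2H2PnOmSimple

/-!
# Determinant and trace of endomorphisms of rank-two bundles via the wedge pairing (helper2, round 2)

Namespace `Groth.Agent.Lib.R2H2.WedgeQuad`.

* `exists_root` : for `φ : E ⟶ E` there is `t : k` with `det (φ - t) = 0`, i.e. `(φ - t) ∧ (φ - t) = 0`
  (needs `End(Λ²E) = k`).
* `Xi f` : the alternating map `x ⊗ y ↦ x ⊗ f y - y ⊗ f x` for `f : E ⟶ N`.
* `lamOf D θ m y : E ⟶ B` (`x ↦ y ∧ x`), `lamOf_ne_zero`, `comp_lamOf_eq_zero`.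
* `end_of_iso_aux`, `not_subsingleton_of_hom_aux` : twisting arguments with abstract modules.
-/

set_option backward.isDefEq.respectTransparency.types false
set_option autoImplicit false
set_option linter.unusedSectionVars false
universe u

namespace Groth.Agent.Lib.R2H2.WedgeQuad

open CategoryTheory CategoryTheory.Limits AlgebraicGeometry TopologicalSpace Opposite
open Groth.Agent.Lib.Helper23.SecTw Groth.Agent.Lib.Helper6
open Groth.Agent.Lib.R2H2.WedgePair Groth.Agent.Lib.R2H2.DetTriv Groth.Agent.Lib.R2H2.PnSerre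
open Groth.Agent.Lib.R2H2.PnLinRes Groth.Agent.Lib.R2H2.WedgeDesc Groth.Agent.Lib.R2H2.PnSimpleNorm

section Alg

variable {A Mo Lo : Type*} [CommRing A] [AddCommGroup Mo] [Module A Mo] [AddCommGroup Lo]
  [Module A Lo]

theorem quad_zero (w : Mo →ₗ[A] Mo →ₗ[A] Lo) (u v pu pv : Mo) (d r t : A)
    (h1 : w pu pv = d • w u v) (h2 : w pu v + w u pv = r • w u v) (h3 : d - t * r + t * t = 0) :
    w (pu - t • u) (pv - t • v) = 0 := by
  have h4 : w pu v = r • w u v - w u pv := by rw [← h2]; abel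
  simp only [map_sub, map_smul, LinearMap.sub_apply, LinearMap.smul_apply]
  rw [h1, h4]
  have key : ∀ W Y : Lo, d • W - t • Y - t • (r • W - Y - t • W) = (d - t * r + t * t) • W := by
    intro W Y
    module
  rw [key, h3, zero_smul]

end Alg

variable {X : Scheme.{u}}

section General

theorem tensorMap_tm {M M' N N' : X.Modules} (f : M ⟶ M') (g : N ⟶ N') (U : X.Opens)
    (m : Γ(M, U)) (n : Γ(N, U)) :
    (KoszTw.tensorMap f g).app U (tm M N U m n) = tm M' N' U (f.app U m) (g.app U n) :=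
  KoszTw.tensorMap_tmul f g U m n

theorem sub_app_apply {M N : X.Modules} (f g : M ⟶ N) (U : X.Opens) (m : Γ(M, U)) :
    (f - g).app U m = f.app U m - g.app U m := rfl

theorem add_app_apply {M N : X.Modules} (f g : M ⟶ N) (U : X.Opens) (m : Γ(M, U)) :
    (f + g).app U m = f.app U m + g.app U m := rfl

variable {E L : X.Modules} (D : EPData 2 E L)

theorem W_tm_swap (U : X.affineOpens) (u v : Γ(E, U.1)) :
    (W D).app U.1 (tm E E U.1 u v) + (W D).app U.1 (tm E E U.1 v u) = 0 := by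
  have h := W_tm_self D U (u + v)
  rw [tm_add_left, tm_add_right, tm_add_right, map_add, map_add, map_add, W_tm_self, W_tm_self,
    zero_add, add_zero] at h
  exact h

/-- the wedge pairing over an affine open, as a bilinear map -/
noncomputable def wL (U : X.affineOpens) :
    Γ(E, U.1) →ₗ[Γ(X, U.1)] Γ(E, U.1) →ₗ[Γ(X, U.1)] Γ(L, U.1) :=
  LinearMap.mk₂ Γ(X, U.1) (fun u v => (W D).app U.1 (tm E E U.1 u v))
    (fun m₁ m₂ n => by rw [tm_add_left, map_add])
    (fun a m n => by rw [tm_smul_left, Scheme.Modules.Hom.app_smul])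
    (fun m n₁ n₂ => by rw [tm_add_right, map_add])
    (fun a m n => by rw [tm_smul_right, Scheme.Modules.Hom.app_smul])

theorem wL_apply (U : X.affineOpens) (u v : Γ(E, U.1)) :
    wL D U u v = (W D).app U.1 (tm E E U.1 u v) := rfl

end General

section Root

variable (k : Type u) [Field k] [X.Over (Spec (CommRingCat.of k))]

/-- the structure map to the sections over `U` -/
noncomputable def scHom (U : X.Opens) : k →+* Γ(X, U) :=
  (X.presheaf.map (homOfLE (le_top : U ≤ ⊤)).op).hom.comp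
    (Coh.toGlobal (X ↘ Spec (CommRingCat.of k)))

theorem smul_app_apply' {M N : X.Modules} (a : k) (f : M ⟶ N) (U : X.Opens) (m : Γ(M, U)) :
    (a • f).app U m = scHom k U a • f.app U m :=
  KLin.smul_app_apply a f U m

theorem smul_id_app_apply {M : X.Modules} (a : k) (U : X.Opens) (m : Γ(M, U)) :
    (a • 𝟙 M).app U m = scHom k U a • m :=
  smul_app_apply' k a (𝟙 M) U m

theorem tensorMap_smul_id (a : k) (M N : X.Modules) :
    KoszTw.tensorMap (a • 𝟙 M) (𝟙 N) = a • 𝟙 (CohB1.tensorMod M N) := by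
  refine hom_ext_tm _ _ fun U m n => ?_
  rw [tensorMap_tm, smul_id_app_apply, smul_id_app_apply, tm_smul_left]
  rfl

variable {E L : X.Modules} (D : EPData 2 E L)

/-- **the characteristic polynomial has a root**: if `End(L) = k` then for every endomorphism `φ` of `E` there
is `t : k` with `(φ - t) ∧ (φ - t) = 0` -/
theorem exists_root [IsAlgClosed k] (hend : ∀ f : L ⟶ L, ∃ d : k, f = d • 𝟙 L) (φ : E ⟶ E) :
    ∃ t : k, KoszTw.tensorMap (φ - t • 𝟙 E) (φ - t • 𝟙 E) ≫ W D = 0 := by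
  -- the determinant
  have halt₁ : ∀ (U : X.affineOpens) (u : Γ(E, U.1)),
      (KoszTw.tensorMap φ φ ≫ W D).app U.1 (tm E E U.1 u u) = 0 := by
    intro U u
    change (W D).app U.1 ((KoszTw.tensorMap φ φ).app U.1 (tm E E U.1 u u)) = 0
    rw [tensorMap_tm, W_tm_self]
  -- the trace
  have halt₂ : ∀ (U : X.affineOpens) (u : Γ(E, U.1)),
      (KoszTw.tensorMap φ (𝟙 E) ≫ W D + KoszTw.tensorMap (𝟙 E) φ ≫ W D).app U.1
        (tm E E U.1 u u) = 0 := by
    intro U u
    rw [add_app_apply]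
    change (W D).app U.1 ((KoszTw.tensorMap φ (𝟙 E)).app U.1 (tm E E U.1 u u)) +
      (W D).app U.1 ((KoszTw.tensorMap (𝟙 E) φ).app U.1 (tm E E U.1 u u)) = 0
    rw [tensorMap_tm, tensorMap_tm]
    exact W_tm_swap D U _ _
  obtain ⟨d, hd⟩ := hend (descW D _ halt₁)
  obtain ⟨r, hr⟩ := hend (descW D _ halt₂)
  have hd' := W_descW D _ halt₁
  have hr' := W_descW D _ halt₂
  rw [hd] at hd'
  rw [hr] at hr'
  -- a root of the characteristic polynomial
  obtain ⟨t, ht⟩ : ∃ t : k, d - t * r + t * t = 0 := by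
    have hdeg : (Polynomial.C (1 : k) * Polynomial.X ^ 2 + Polynomial.C (-r) * Polynomial.X +
        Polynomial.C d).degree ≠ 0 := by
      rw [Polynomial.degree_quadratic one_ne_zero]
      norm_num
    obtain ⟨t, ht⟩ := IsAlgClosed.exists_root _ hdeg
    refine ⟨t, ?_⟩
    simp only [Polynomial.IsRoot.def, Polynomial.eval_add, Polynomial.eval_mul, Polynomial.eval_C,
      Polynomial.eval_pow, Polynomial.eval_X] at ht
    linear_combination ht
  refine ⟨t, ?_⟩
  refine hom_ext_tm_basis (fun U : X.affineOpens => U.1) isBasis_aff _ _ fun U u v => ?_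
  change (W D).app U.1 ((KoszTw.tensorMap (φ - t • 𝟙 E) (φ - t • 𝟙 E)).app U.1 (tm E E U.1 u v)) =
    (0 : CohB1.tensorMod E E ⟶ L).app U.1 (tm E E U.1 u v)
  rw [tensorMap_tm, sub_app_apply, sub_app_apply, smul_id_app_apply, smul_id_app_apply]
  refine (quad_zero (wL D U) u v (φ.app U.1 u) (φ.app U.1 v) (scHom k U.1 d) (scHom k U.1 r)
    (scHom k U.1 t) ?_ ?_ ?_).trans rfl
  · have h1 := congrArg (fun g => g.app U.1 (tm E E U.1 u v)) hd'
    change (d • 𝟙 L).app U.1 ((W D).app U.1 (tm E E U.1 u v)) =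
      (W D).app U.1 ((KoszTw.tensorMap φ φ).app U.1 (tm E E U.1 u v)) at h1
    rw [tensorMap_tm, smul_id_app_apply] at h1
    exact h1.symm
  · have h1 := congrArg (fun g => g.app U.1 (tm E E U.1 u v)) hr'
    change (r • 𝟙 L).app U.1 ((W D).app U.1 (tm E E U.1 u v)) =
      (KoszTw.tensorMap φ (𝟙 E) ≫ W D + KoszTw.tensorMap (𝟙 E) φ ≫ W D).app U.1
        (tm E E U.1 u v) at h1
    rw [add_app_apply] at h1
    change (r • 𝟙 L).app U.1 ((W D).app U.1 (tm E E U.1 u v)) =
      (W D).app U.1 ((KoszTw.tensorMap φ (𝟙 E)).app U.1 (tm E E U.1 u v)) +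
      (W D).app U.1 ((KoszTw.tensorMap (𝟙 E) φ).app U.1 (tm E E U.1 u v)) at h1
    rw [tensorMap_tm, tensorMap_tm, smul_id_app_apply] at h1
    exact h1.symm
  · rw [← map_mul, ← map_mul, ← map_sub, ← map_add, ht, map_zero]

end Root

section XiSec

variable {E N : X.Modules} (f : E ⟶ N)

/-- the local formula of `Xi` -/
noncomputable def xiβ (U : X.affineOpens) (m n : E.val.obj (op U.1)) :
    (CohB1.tensorMod E N).val.obj (op U.1) :=
  tm E N U.1 m (f.app U.1 n) - tm E N U.1 n (f.app U.1 m)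

/-- the alternating map `x ⊗ y ↦ x ⊗ f y - y ⊗ f x` -/
noncomputable def Xi : CohB1.tensorMod E E ⟶ CohB1.tensorMod E N :=
  liftAff (xiβ f)
    (fun U m₁ m₂ n => by
      unfold xiβ
      have e1 : tm E N U.1 (m₁ + m₂) (f.app U.1 n) =
          tm E N U.1 m₁ (f.app U.1 n) + tm E N U.1 m₂ (f.app U.1 n) := tm_add_left E N U.1 _ _ _
      have e2 : f.app U.1 (m₁ + m₂) = f.app U.1 m₁ + f.app U.1 m₂ := map_add _ _ _
      have e3 : tm E N U.1 n (f.app U.1 m₁ + f.app U.1 m₂) =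
          tm E N U.1 n (f.app U.1 m₁) + tm E N U.1 n (f.app U.1 m₂) := tm_add_right E N U.1 _ _ _
      rw [e1, e2, e3]
      abel)
    (fun U a m n => by
      unfold xiβ
      have e1 : tm E N U.1 ((show Γ(X, U.1) from a) • m) (f.app U.1 n) =
          (show Γ(X, U.1) from a) • tm E N U.1 m (f.app U.1 n) := tm_smul_left E N U.1 _ _ _
      have e2 : f.app U.1 ((show Γ(X, U.1) from a) • m) = (show Γ(X, U.1) from a) • f.app U.1 m :=
        Scheme.Modules.Hom.app_smul f _ _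
      have e3 : tm E N U.1 n ((show Γ(X, U.1) from a) • f.app U.1 m) =
          (show Γ(X, U.1) from a) • tm E N U.1 n (f.app U.1 m) := tm_smul_right E N U.1 _ _ _
      refine (congrArg₂ (fun p q => p - q) e1 ((congrArg (tm E N U.1 n) e2).trans e3)).trans ?_
      exact (smul_sub (show Γ(X, U.1) from a) _ _).symm)
    (fun U m n₁ n₂ => by
      unfold xiβ
      have e1 : tm E N U.1 (n₁ + n₂) (f.app U.1 m) =
          tm E N U.1 n₁ (f.app U.1 m) + tm E N U.1 n₂ (f.app U.1 m) := tm_add_left E N U.1 _ _ _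
      have e2 : f.app U.1 (n₁ + n₂) = f.app U.1 n₁ + f.app U.1 n₂ := map_add _ _ _
      have e3 : tm E N U.1 m (f.app U.1 n₁ + f.app U.1 n₂) =
          tm E N U.1 m (f.app U.1 n₁) + tm E N U.1 m (f.app U.1 n₂) := tm_add_right E N U.1 _ _ _
      rw [e1, e2, e3]
      abel)
    (fun U a m n => by
      unfold xiβ
      have e1 : tm E N U.1 ((show Γ(X, U.1) from a) • n) (f.app U.1 m) =
          (show Γ(X, U.1) from a) • tm E N U.1 n (f.app U.1 m) := tm_smul_left E N U.1 _ _ _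
      have e2 : f.app U.1 ((show Γ(X, U.1) from a) • n) = (show Γ(X, U.1) from a) • f.app U.1 n :=
        Scheme.Modules.Hom.app_smul f _ _
      have e3 : tm E N U.1 m ((show Γ(X, U.1) from a) • f.app U.1 n) =
          (show Γ(X, U.1) from a) • tm E N U.1 m (f.app U.1 n) := tm_smul_right E N U.1 _ _ _
      refine (congrArg₂ (fun p q => p - q) ((congrArg (tm E N U.1 m) e2).trans e3) e1).trans ?_
      exact (smul_sub (show Γ(X, U.1) from a) _ _).symm)
    (fun U V h m n => by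
      unfold xiβ
      have e0 : ∀ a b : Γ(E, U.1), res (CohB1.tensorMod E N) h (tm E N U.1 a (f.app U.1 b)) =
          tm E N V.1 (res E h a) (f.app V.1 (res E h b)) := by
        intro a b
        rw [res_tm]
        congr 1
        exact (Groth.Agent.Lib.Helper23.Extend.app_map f (homOfLE h) b).symm
      have e1 : (CohB1.tensorMod E N).val.map (homOfLE h).op
          (tm E N U.1 m (f.app U.1 n) - tm E N U.1 n (f.app U.1 m)) =
          res (CohB1.tensorMod E N) h (tm E N U.1 m (f.app U.1 n)) -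
            res (CohB1.tensorMod E N) h (tm E N U.1 n (f.app U.1 m)) := map_sub _ _ _
      refine e1.trans ?_
      rw [e0, e0]
      rfl)

theorem Xi_tm (U : X.affineOpens) (m n : Γ(E, U.1)) :
    (Xi f).app U.1 (tm E E U.1 m n) =
      tm E N U.1 m (f.app U.1 n) - tm E N U.1 n (f.app U.1 m) :=
  liftAff_tm _ _ _ _ _ _ U m n

theorem Xi_tm_self (U : X.affineOpens) (m : Γ(E, U.1)) :
    (Xi f).app U.1 (tm E E U.1 m m) = 0 := by
  rw [Xi_tm, sub_self]

end XiSec

section Nondeg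

variable {E N : X.Modules}

/-- `Xi f` is nonzero when `f` is -/
theorem Xi_ne_zero (hE : FlatMod.IsFinLocFreeOfRank 2 E) (hN : PicF.IsInvertible N) (f : E ⟶ N)
    (hf : f ≠ 0) : Xi f ≠ 0 := by
  intro h0
  apply hf
  refine Groth.Agent.Helper13ModBasis.hom_ext_basis (goodB N E) (isBasis_good hE hN) _ _ fun U => ?_
  obtain ⟨⟨g, hg⟩, ⟨b⟩⟩ := U.2
  obtain ⟨p, hp⟩ := exists_smul_eq hg (f.app U.1.1 (b 0))
  obtain ⟨q, hq⟩ := exists_smul_eq hg (f.app U.1.1 (b 1))
  have h1 : tm E N U.1.1 (b 0) (f.app U.1.1 (b 1)) - tm E N U.1.1 (b 1) (f.app U.1.1 (b 0)) = 0 := by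
    rw [← Xi_tm f U.1 (b 0) (b 1), h0]
    rfl
  rw [hp, hq, tm_smul_right, tm_smul_right, ← tm_smul_left, ← tm_smul_left, ← tm_sub_left] at h1
  have h2 : q • b 0 - p • b 1 = 0 := by
    have hinj := injective_tm_of_isGen E N U.1.1 g hg U.1.1 le_rfl
    apply hinj
    change tm E N U.1.1 (q • b 0 - p • b 1) (res N le_rfl g) = tm E N U.1.1 0 (res N le_rfl g)
    rw [res_self, h1, tm_zero_left]
  have hq0 : q = 0 := by
    have := congrArg (fun v => b.repr v 0) h2
    simpa using this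
  have hp0 : p = 0 := by
    have := congrArg (fun v => b.repr v 1) h2
    simpa using this
  have hb : ∀ i, f.app U.1.1 (b i) = 0 := by
    intro i
    fin_cases i
    · exact hp.trans (by rw [hp0, zero_smul])
    · exact hq.trans (by rw [hq0, zero_smul])
  ext t
  change f.app U.1.1 t = 0
  rw [← b.sum_repr t, map_sum]
  refine Finset.sum_eq_zero fun i _ => ?_
  rw [Scheme.Modules.Hom.app_smul, hb i, smul_zero]

end Nondeg

section Lam

variable [IsIntegral X] {E L A B C : X.Modules} (D : EPData 2 E L)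
  (hE : FlatMod.IsFinLocFreeOfRank 2 E) (hA : PicF.IsInvertible A) [(twR A).IsEquivalence]
  (θ : L ≅ C) (m : CohB1.tensorMod B A ≅ C)

/-- the morphism `E ⟶ B`, `x ↦ y ∧ x`, for `y : A ⟶ E` and `B ⊗ A ≅ Λ²E` -/
noncomputable def lamOf (y : A ⟶ E) : E ⟶ B :=
  (twR A).preimage ((KoszTw.tensorMap (𝟙 E) y ≫ W D ≫ θ.hom) ≫ m.inv)

theorem map_lamOf (y : A ⟶ E) :
    (twR A).map (lamOf D θ m y) = (KoszTw.tensorMap (𝟙 E) y ≫ W D ≫ θ.hom) ≫ m.inv :=
  (twR A).map_preimage _

include hE hA in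
theorem lamOf_ne_zero (y : A ⟶ E) (hy : y ≠ 0) : lamOf D θ m y ≠ 0 := by
  intro h2
  apply hy
  have h4 : (KoszTw.tensorMap (𝟙 E) y ≫ W D ≫ θ.hom) ≫ m.inv = 0 :=
    (map_lamOf D θ m y).symm.trans ((congrArg (twR A).map h2).trans ((twR A).map_zero E B))
  have h5 : ((KoszTw.tensorMap (𝟙 E) y ≫ W D ≫ θ.hom) ≫ m.inv) ≫ m.hom = 0 := by
    rw [h4, zero_comp]
  rw [Category.assoc, Iso.inv_hom_id, Category.comp_id] at h5
  have h7 : (KoszTw.tensorMap (𝟙 E) y ≫ W D ≫ θ.hom) ≫ θ.inv = 0 := by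
    rw [h5, zero_comp]
  rw [Category.assoc, Category.assoc, Iso.hom_inv_id, Category.comp_id] at h7
  exact eq_zero_of_tensorMap_W_eq_zero D hE hA y h7

theorem comp_lamOf_eq_zero (ψ : E ⟶ E) (v : A ⟶ E) (hψ : KoszTw.tensorMap ψ ψ ≫ W D = 0) :
    ψ ≫ lamOf D θ m (v ≫ ψ) = 0 := by
  apply (twR A).map_injective
  have e1 : (twR A).map (ψ ≫ lamOf D θ m (v ≫ ψ)) =
      KoszTw.tensorMap ψ (𝟙 A) ≫ ((KoszTw.tensorMap (𝟙 E) (v ≫ ψ) ≫ W D ≫ θ.hom) ≫ m.inv) :=
    ((twR A).map_comp ψ _).trans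
      (congrArg₂ (fun x y => x ≫ y) (twR_map_eq (L := A) ψ) (map_lamOf D θ m (v ≫ ψ)))
  have e2 : KoszTw.tensorMap ψ (𝟙 A) ≫ KoszTw.tensorMap (𝟙 E) (v ≫ ψ) =
      KoszTw.tensorMap (𝟙 E) v ≫ KoszTw.tensorMap ψ ψ := by
    rw [tensorMap_comp_tensorMap, ← KoszTw.tensorMap_comp, Category.id_comp]
  have e3 : KoszTw.tensorMap ψ (𝟙 A) ≫
      ((KoszTw.tensorMap (𝟙 E) (v ≫ ψ) ≫ W D ≫ θ.hom) ≫ m.inv) = 0 := by
    calc KoszTw.tensorMap ψ (𝟙 A) ≫ ((KoszTw.tensorMap (𝟙 E) (v ≫ ψ) ≫ W D ≫ θ.hom) ≫ m.inv)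
        = (KoszTw.tensorMap ψ (𝟙 A) ≫ KoszTw.tensorMap (𝟙 E) (v ≫ ψ)) ≫ W D ≫ θ.hom ≫ m.inv := by
          simp only [Category.assoc]
      _ = KoszTw.tensorMap (𝟙 E) v ≫ (KoszTw.tensorMap ψ ψ ≫ W D) ≫ θ.hom ≫ m.inv := by
          rw [e2]
          simp only [Category.assoc]
      _ = 0 := by rw [hψ, zero_comp, comp_zero]
  exact e1.trans (e3.trans ((twR A).map_zero E B).symm)

end Lam

section Aux

variable (k : Type u) [Field k] [X.Over (Spec (CommRingCat.of k))]

/-- endomorphisms of a module isomorphic to an invertible module `C` with tensor inverse `A` are scalars when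
`End(O) = k` -/
theorem end_of_iso_aux (hunit : ∀ g : Coh.structureModule X ⟶ Coh.structureModule X,
      ∃ d : k, g = d • 𝟙 (Coh.structureModule X))
    (L C A : X.Modules) [(twR A).IsEquivalence] (θ : L ≅ C)
    (w : CohB1.tensorMod C A ≅ Coh.structureModule X) (f : L ⟶ L) :
    ∃ d : k, f = d • 𝟙 L := by
  let e : (twR A).obj L ≅ Coh.structureModule X := (twR A).mapIso θ ≪≫ w
  obtain ⟨d, hd⟩ := hunit (e.inv ≫ (twR A).map f ≫ e.hom)
  have h1 : (twR A).map f = d • 𝟙 ((twR A).obj L) :=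
    Groth.Agent.Lib.R2H2.PnOmSimple.eq_smul_of_iso k e ((twR A).map f) d hd
  refine ⟨d, (twR A).map_injective (h1.trans ?_)⟩
  refine Eq.symm ((twR_map_eq (L := A) (d • 𝟙 L)).trans ?_)
  exact tensorMap_smul_id k d L A

omit [X.Over (Spec (CommRingCat.of k))] in
/-- a nonzero morphism `A ⟶ M` gives a nonzero section of `M ⊗ A'` when `A ⊗ A' ≅ O` -/
theorem not_subsingleton_of_hom_aux (M A A' : X.Modules) [(twR A').IsEquivalence]
    (w : CohB1.tensorMod A A' ≅ Coh.structureModule X) (s : A ⟶ M) (hs : s ≠ 0) :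
    ¬ Subsingleton (Coh.HH X (CohB1.tensorMod M A') 0) := by
  intro hss
  let σ : Coh.structureModule X ⟶ CohB1.tensorMod M A' := w.inv ≫ (twR A').map s
  have hσ : σ = 0 := by
    apply eq_zero_of_cls
    exact Subsingleton.elim _ _
  apply hs
  apply (twR A').map_injective
  have h1 : w.hom ≫ σ = 0 := by rw [hσ, comp_zero]
  have h2 : w.hom ≫ σ = (twR A').map s := by
    change w.hom ≫ w.inv ≫ (twR A').map s = _
    rw [Iso.hom_inv_id_assoc]
  exact (h2.symm.trans h1).trans ((twR A').map_zero A M).symm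

end Aux

end Groth.Agent.Lib.R2H2.WedgeQuad
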