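import Groth.Agent.Lib.R2H3MultAutRed
import Groth.Agent.Lib.Helper12Act
import Groth.Prelude.Def_SGA3x

/-!
# From `AlgGrp.Action` to actions on points; multiplicative type in `TwC.Locally` form
(helper3, round 2)
-/

set_option autoImplicit false
set_option linter.style.haveILetI false
set_option linter.unusedVariables false
set_option linter.unusedSectionVars false

universe u

open CategoryTheory MonoidalCategory CartesianMonoidalCategory MonObj GrpObj AlgebraicGeometry
  CategoryTheory.Limits

namespace Groth.Agent.Lib.R2H3.MultAct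

/-- the action on points attached to an `AlgGrp.Action`. -/
noncomputable def PtAction.ofAction {S : Scheme.{u}} {G X : Over S} [GrpObj G]
    (a : AlgGrp.Action G X) : PtAction G X where
  smul g x := lift g x ≫ a.act
  one_smul x := Groth.Agent.Lib.Helper12.act_one a x
  mul_smul g h x := Groth.Agent.Lib.Helper12.act_mul a g h x
  comp_smul k g x := Groth.Agent.Lib.Helper12.comp_lift_act a k g x

lemma PtAction.ofAction_smul {S : Scheme.{u}} {G X : Over S} [GrpObj G]
    (a : AlgGrp.Action G X) {Y : Over S} (g : Y ⟶ G) (x : Y ⟶ X) :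
    (PtAction.ofAction a).smul g x = lift g x ≫ a.act := rfl

/-- `SGA3x.IsMultTypeFT` in the `TwC.Locally` form used by the rigidity theorems. -/
theorem locally_of_isMultTypeFT {S : Scheme.{u}} {H : Over S} [GrpObj H]
    (hH : SGA3x.IsMultTypeFT H) :
    TwC.Locally S TwC.Topology.fpqc (fun S' f => ∃ (M : Type) (_ : AddCommGroup M),
      Nonempty (Grp.mk (Red.bc f H) ≅ Grp.mk (Red.DS S' M))) := by
  obtain ⟨S', f, hfl, hsurj, hqc, hloc⟩ := hH
  refine ⟨S', f, hfl, hsurj, hqc, fun s' => ?_⟩
  obtain ⟨U, hU, M, inst, -, e⟩ := hloc s'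
  exact ⟨U, hU, M, inst, e⟩

/-- a connected group scheme over a field is geometrically connected. -/
theorem geometricallyConnected_of_field {k : Type u} [Field k]
    (G : Over (Spec (CommRingCat.of k))) [GrpObj G] [ConnectedSpace G.left] :
    GeometricallyConnected G.hom :=
  Groth.Agent.Lib.Helper12.GeomConn.geometricallyConnected_of_section (k := k) G.hom
    (unitSec G) unitSec_hom

end Groth.Agent.Lib.R2H3.MultAct
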