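import Mathlib
import Groth.Agent.Lib.Helper23SecTw9
import Groth.Agent.Lib.R2H3QProj

/-!
# Covering a quasi-projective scheme of dimension `d` by `d + 1` affine opens (helper3, round 2)

* `exists_affine_cover_of_height` : on a scheme with Noetherian underlying space in which every finite set of points
  lies in an affine open, a closed set all of whose irreducible closed subsets have height `< e` is covered by `e`
  affine opens.
* `exists_affine_cover_of_isAmple` : a Noetherian-space scheme of dimension `d` with an ample module is covered by `d + 1`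
  affine opens.
-/

set_option autoImplicit false
universe u
open CategoryTheory CategoryTheory.Limits AlgebraicGeometry TopologicalSpace Opposite

namespace Groth.Agent.Lib.R2H3.AffCoverDim

theorem exists_affine_cover_of_height {X : Scheme.{u}} [NoetherianSpace X]
    (hfin : ∀ Z : Set X, Z.Finite → ∃ U : X.Opens, IsAffineOpen U ∧ Z ⊆ U) :
    ∀ (e : ℕ) (Z : Set X), IsClosed Z →
      (∀ C : IrreducibleCloseds X, (C : Set X) ⊆ Z → Order.height C < (e : ℕ∞)) →
      ∃ U : Fin e → X.Opens, (∀ i, IsAffineOpen (U i)) ∧ Z ⊆ ⋃ i, (U i : Set X) := by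
  intro e
  induction e with
  | zero =>
    intro Z hZ h
    refine ⟨fun i => i.elim0, fun i => i.elim0, fun z hz => ?_⟩
    exfalso
    have := h ⟨closure {z}, isIrreducible_singleton.closure, isClosed_closure⟩
      (hZ.closure_subset_iff.2 (Set.singleton_subset_iff.2 hz))
    simp at this
  | succ e ih =>
    intro Z hZ h
    obtain ⟨S, hSf, hSc, hSi, hSU⟩ := NoetherianSpace.exists_finite_set_isClosed_irreducible hZ
    -- generic points
    have hgen : ∀ t : S, ∃ z : X, IsGenericPoint z t.1 := fun t =>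
      ⟨_, (hSi t.1 t.2).isGenericPoint_genericPoint (hSc t.1 t.2)⟩
    choose g hg using hgen
    have : Finite S := hSf.to_subtype
    obtain ⟨U, hU, hgU⟩ := hfin (Set.range g) (Set.finite_range g)
    let Z' : Set X := Z \ (U : Set X)
    have hZ' : IsClosed Z' := hZ.sdiff U.2
    obtain ⟨V, hV, hZ'V⟩ := ih Z' hZ' (fun C hC => by
      have hCZ : (C : Set X) ⊆ ⋃₀ S := hSU ▸ hC.trans Set.sdiff_subset
      lift S to Finset (Set X) using hSf
      obtain ⟨t, htS, hCt⟩ := isIrreducible_iff_sUnion_isClosed.1 C.2 S hSc hCZ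
      let T : IrreducibleCloseds X := ⟨t, hSi t htS, hSc t htS⟩
      have hlt : C < T := by
        refine lt_of_le_of_ne (SetLike.coe_subset_coe.1 hCt) ?_
        intro heq
        have h1 : g ⟨t, htS⟩ ∈ (C : Set X) := by
          rw [heq]; exact (hg ⟨t, htS⟩).mem
        have h2 : g ⟨t, htS⟩ ∈ (U : Set X) := hgU ⟨⟨t, htS⟩, rfl⟩
        exact (hC h1).2 h2
      have hT : Order.height T < ((e + 1 : ℕ) : ℕ∞) := by
        refine h T ?_
        rw [hSU]
        exact Set.subset_sUnion_of_mem htS
      have hC' : Order.height C < ⊤ := lt_of_le_of_lt (Order.height_mono hlt.le) (hT.trans (by simp))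
      have h3 := Order.height_strictMono hlt hC'
      have h4 : Order.height C + 1 ≤ Order.height T := Order.add_one_le_of_lt h3
      have h5 : Order.height T ≤ (e : ℕ∞) := by
        have : Order.height T < (e : ℕ∞) + 1 := by exact_mod_cast hT
        exact Order.le_of_lt_add_one this
      have h6 : Order.height C + 1 ≤ (e : ℕ∞) := h4.trans h5
      exact (ENat.add_one_le_iff (ne_of_lt hC')).1 h6)
    refine ⟨Fin.cons U V, fun i => ?_, fun z hz => ?_⟩
    · refine Fin.cases ?_ (fun i => ?_) i
      · simpa using hU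
      · simpa using hV i
    · by_cases hzU : z ∈ (U : Set X)
      · exact Set.mem_iUnion.2 ⟨0, by simpa using hzU⟩
      · obtain ⟨i, hi⟩ := Set.mem_iUnion.1 (hZ'V ⟨hz, hzU⟩)
        exact Set.mem_iUnion.2 ⟨i.succ, by simpa using hi⟩

theorem exists_affine_cover_of_isAmple {X : Scheme.{u}} [NoetherianSpace X] (L : X.Modules) (hL : CohB1.IsAmple L)
    (d : ℕ) (hX : topologicalKrullDim ↥X = d) :
    ∃ U : Fin (d + 1) → X.Opens, (∀ i, IsAffineOpen (U i)) ∧ ⨆ i, U i = ⊤ := by
  have : CompactSpace X := hL.2.1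
  have hfin : ∀ Z : Set X, Z.Finite → ∃ U : X.Opens, IsAffineOpen U ∧ Z ⊆ U := fun Z hZ => by
    obtain ⟨n, s, h1, -, h3⟩ :=
      Groth.Agent.Lib.Helper23.SecTw.exists_affine_genLocus_of_finite L hL Z hZ ⊤ (fun _ _ => trivial)
    exact ⟨_, h3, h1⟩
  obtain ⟨U, hU, hcov⟩ := exists_affine_cover_of_height hfin (d + 1) Set.univ isClosed_univ (fun C _ => by
    have h1 : (Order.height C : WithBot ℕ∞) ≤ topologicalKrullDim X := Order.height_le_krullDim C
    rw [hX] at h1
    have h2 : Order.height C ≤ (d : ℕ∞) := by exact_mod_cast h1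
    exact lt_of_le_of_lt h2 (by exact_mod_cast Nat.lt_succ_self d))
  refine ⟨U, hU, ?_⟩
  rw [eq_top_iff]
  intro x _
  obtain ⟨i, hi⟩ := Set.mem_iUnion.1 (hcov (Set.mem_univ x))
  exact Opens.mem_iSup.2 ⟨i, hi⟩

end Groth.Agent.Lib.R2H3.AffCoverDim
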