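import Mathlib
import Groth.Agent.Lib.H6xPropSuppC
import Groth.Agent.Lib.Helper22FTIdeal
import Groth.Agent.S0786

/-!
# Finite type modules supported on a closed subset with quasi-compact complement (helper3, round 2)

Non-Noetherian versions of helper2/helper6's closed-model lemmas, for finite type ideal sheaves on a
quasi-compact quasi-separated scheme.

* `exists_ft_support_eq`: a closed subset with quasi-compact complement is the support of a finite type
  ideal sheaf (Stacks 01PH);
* `exists_killed_pow_ft`: a finite type quasi-coherent module whose sections vanish off the support of a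
  finite type ideal sheaf `I` is killed by a power of `I`;
* `exists_closed_model_ft`: such a module is the pushforward of a quasi-coherent module along a closed
  immersion with prescribed range.
-/

set_option backward.isDefEq.respectTransparency.types false
set_option autoImplicit false
set_option linter.style.haveILetI false
set_option linter.unusedVariables false
set_option linter.unusedSectionVars false
universe u
open CategoryTheory CategoryTheory.Limits AlgebraicGeometry TopologicalSpace Opposite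

namespace Groth.Agent.Lib.R2H3.AffStratA

open Groth.Agent.Lib.R2H2.NilFilt Groth.Agent.Lib.R2H2.SubFam Groth.Agent.Lib.R2H2.TorsFam
  Groth.Agent.Lib.Helper2.Push Groth.Agent.Lib.Helper22.FTIdeal

section killed

variable {X : Scheme.{u}} (I : X.IdealSheafData)

/-- over an affine open, a finite type quasi-coherent module whose sections vanish off the support of a
finite type ideal sheaf `I` is killed by a power of `I` -/
theorem exists_pow_le_annihilator_ft (hI : FT I) (T : X.Modules) (hT : Coh.IsCoh T)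
    (hvan : ∀ W : X.Opens, Disjoint (W : Set X) (I.support : Set X) → Subsingleton Γ(T, W))
    (U : X.affineOpens) :
    ∃ k : ℕ, ∀ a ∈ (I.ideal U) ^ k, ∀ m : Γ(T, U.1), a • m = 0 := by
  haveI : T.IsQuasicoherent := hT.1
  haveI : SheafOfModules.IsFiniteType (R := X.ringCatSheaf) T := hT.2
  have hloc : IsLocOn T U.1 := IsLocOn.of_isQuasicoherent U.2 T
  haveI : Module.Finite Γ(X, U.1) Γ(T, U.1) :=
    Groth.Agent.Lib.Helper23.FinType.finite_of_isFiniteType T U.2
  have hrad : I.ideal U ≤ (Module.annihilator Γ(X, U.1) Γ(T, U.1)).radical := by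
    intro a ha
    have hdis : Disjoint ((X.basicOpen a : X.Opens) : Set X) (I.support : Set X) := by
      rw [Set.disjoint_left]
      intro x hxa hxs
      have hxU : x ∈ U.1 := X.basicOpen_le a hxa
      have h1 := (Scheme.IdealSheafData.mem_support_iff_of_mem hxU).1 hxs
      exact (X.mem_zeroLocus_iff _ x).1 h1 a ha hxa
    haveI := hvan (X.basicOpen a) hdis
    have hpow : ∀ m : Γ(T, U.1), ∃ n : ℕ, a ^ n • m = 0 := fun m =>
      hloc.exists_pow_smul_eq_zero a m (Subsingleton.elim _ _)
    choose n hn using hpow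
    obtain ⟨G, hG⟩ := (Module.Finite.fg_top : (⊤ : Submodule Γ(X, U.1) Γ(T, U.1)).FG)
    refine ⟨G.sup n, ?_⟩
    rw [Module.mem_annihilator]
    intro m
    have hm : m ∈ Submodule.span Γ(X, U.1) (G : Set Γ(T, U.1)) := by rw [hG]; trivial
    induction hm using Submodule.span_induction with
    | mem x hx =>
      have hK : G.sup n = (G.sup n - n x) + n x := (Nat.sub_add_cancel (Finset.le_sup hx)).symm
      rw [hK, pow_add, mul_smul, hn x, smul_zero]
    | zero => rw [smul_zero]
    | add x y _ _ hx hy => rw [smul_add, hx, hy, add_zero]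
    | smul c x _ hx => rw [smul_comm, hx, smul_zero]
  obtain ⟨k, hk⟩ := Ideal.exists_pow_le_of_le_radical_of_fg hrad (hI U)
  exact ⟨k, fun a ha m => Module.mem_annihilator.1 (hk ha) m⟩

/-- a finite type quasi-coherent module whose sections vanish off the quasi-compact support of a finite
type ideal sheaf `I` is killed by a power of `I` -/
theorem exists_killed_pow_ft (hI : FT I) (T : X.Modules) (hT : Coh.IsCoh T)
    (hvan : ∀ W : X.Opens, Disjoint (W : Set X) (I.support : Set X) → Subsingleton Γ(T, W))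
    (hc : IsCompact (I.support : Set X)) :
    ∃ k : ℕ, ClSub.KilledByIdeal (I ^ k) T := by
  classical
  haveI : T.IsQuasicoherent := hT.1
  choose kU hkU using exists_pow_le_annihilator_ft I hI T hT hvan
  obtain ⟨s, hs⟩ : ∃ s : Finset X.affineOpens, (I.support : Set X) ⊆ ⋃ U ∈ s, (U.1 : Set X) :=
    hc.elim_finite_subcover (fun U : X.affineOpens => (U.1 : Set X))
      (fun U => U.1.2) (fun x _ => by
        obtain ⟨V, hV, hxV, -⟩ := exists_isAffineOpen_mem_and_subset (x := x) (U := ⊤) trivial
        exact Set.mem_iUnion.2 ⟨⟨V, hV⟩, hxV⟩)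
  refine ⟨s.sup kU, killed_of_cover (I ^ (s.sup kU)) T
    (fun U : {U : X.affineOpens // U ∈ s ∨ Disjoint (U.1 : Set X) (I.support : Set X)} => U.1)
    (fun x => ?_) (fun U a ha m => ?_)⟩
  · by_cases hx : x ∈ (I.support : Set X)
    · obtain ⟨U, hU⟩ := Set.mem_iUnion.1 (hs hx)
      obtain ⟨hUs, hxU⟩ := Set.mem_iUnion.1 hU
      exact ⟨⟨U, Or.inl hUs⟩, hxU⟩
    · have hopen : IsOpen ((I.support : Set X)ᶜ) := I.support.isClosed.isOpen_compl
      obtain ⟨V, hV, hxV, hVs⟩ := exists_isAffineOpen_mem_and_subset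
        (x := x) (U := ⟨(I.support : Set X)ᶜ, hopen⟩) hx
      refine ⟨⟨⟨V, hV⟩, Or.inr ?_⟩, hxV⟩
      rw [Set.disjoint_left]
      intro y hyV hys
      exact hVs hyV hys
  · rcases U.2 with hUs | hdis
    · refine hkU U.1 a ?_ m
      have ha' : a ∈ (I.ideal U.1) ^ (s.sup kU) := ha
      exact Ideal.pow_le_pow_right (Finset.le_sup hUs) ha'
    · haveI := hvan U.1.1 hdis
      exact Subsingleton.elim _ _

end killed

section Support

variable {X : Scheme.{u}}

/-- finitely many local sections of an ideal sheaf on a qcqs scheme lie in a common finite type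
sub-ideal sheaf -/
theorem exists_ft_le_forall_mem [CompactSpace X] [QuasiSeparatedSpace X] (I : X.IdealSheafData)
    (t : Finset (Σ V : X.affineOpens, Γ(X, V.1))) (h : ∀ q ∈ t, q.2 ∈ I.ideal q.1) :
    ∃ J : X.IdealSheafData, J ≤ I ∧ FT J ∧ ∀ q ∈ t, q.2 ∈ J.ideal q.1 := by
  classical
  induction t using Finset.induction_on with
  | empty => exact ⟨⊥, bot_le, ft_bot, fun q hq => absurd hq (Finset.notMem_empty q)⟩
  | insert a t ha ih =>
    obtain ⟨J₁, h1, h2, h3⟩ := ih (fun q hq => h q (Finset.mem_insert_of_mem hq))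
    obtain ⟨J₂, h4, h5, h6⟩ := exists_ft_le_mem I a.1 a.2 (h a (Finset.mem_insert_self a t))
    refine ⟨J₁ ⊔ J₂, sup_le h1 h4, h2.sup h5, fun q hq => ?_⟩
    rcases Finset.mem_insert.1 hq with rfl | hq
    · exact (le_sup_right : J₂ ≤ J₁ ⊔ J₂) _ h6
    · exact (le_sup_left : J₁ ≤ J₁ ⊔ J₂) _ (h3 q hq)

/-- a section of an affine open whose non-vanishing locus misses `Z` lies in the vanishing ideal of `Z` -/
theorem mem_vanishingIdeal_of_disjoint (Z : Closeds X) (V : X.affineOpens) (f : Γ(X, V.1))
    (hf : Disjoint ((X.basicOpen f : X.Opens) : Set X) (Z : Set X)) :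
    f ∈ (Scheme.IdealSheafData.vanishingIdeal Z).ideal V := by
  rw [Scheme.IdealSheafData.vanishingIdeal_ideal, PrimeSpectrum.mem_vanishingIdeal]
  intro p hp
  by_contra hfp
  have h1 : p ∈ (PrimeSpectrum.basicOpen f : Set (PrimeSpectrum Γ(X, V.1))) := hfp
  have h2 : V.2.fromSpec p ∈ X.basicOpen f := by
    have h3 : p ∈ V.2.fromSpec ⁻¹ᵁ (X.basicOpen f) := by
      rw [V.2.fromSpec_preimage_basicOpen]
      exact h1
    exact h3
  exact Set.disjoint_left.1 hf h2 hp

/-- **Stacks 01PH**: on a qcqs scheme, a closed subset with quasi-compact complement is the support of a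
finite type ideal sheaf -/
theorem exists_ft_support_eq [CompactSpace X] [QuasiSeparatedSpace X] (Z : Closeds X)
    (hZ : IsCompact ((Z : Set X)ᶜ)) :
    ∃ J : X.IdealSheafData, FT J ∧ (J.support : Set X) = Z := by
  classical
  set I := Scheme.IdealSheafData.vanishingIdeal Z with hI
  have hopen : IsOpen ((Z : Set X)ᶜ) := Z.isClosed.isOpen_compl
  -- cover the complement by basic opens of affine opens
  have hcov : ∀ x : ((Z : Set X)ᶜ : Set X), ∃ (V : X.affineOpens) (f : Γ(X, V.1)),
      (x : X) ∈ X.basicOpen f ∧ ((X.basicOpen f : X.Opens) : Set X) ⊆ (Z : Set X)ᶜ := by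
    intro x
    obtain ⟨V, hV, hxV, -⟩ := exists_isAffineOpen_mem_and_subset (x := (x : X)) (U := ⊤) trivial
    obtain ⟨f, hf1, hf2⟩ := hV.exists_basicOpen_le
      (V := ⟨(Z : Set X)ᶜ, hopen⟩) ⟨(x : X), x.2⟩ hxV
    exact ⟨⟨V, hV⟩, f, hf2, hf1⟩
  choose V f hxf hfZ using hcov
  obtain ⟨t, ht⟩ := hZ.elim_finite_subcover
    (fun x : ((Z : Set X)ᶜ : Set X) => ((X.basicOpen (f x) : X.Opens) : Set X))
    (fun x => (X.basicOpen (f x)).2) (fun y hy => Set.mem_iUnion.2 ⟨⟨y, hy⟩, hxf ⟨y, hy⟩⟩)
  let t' : Finset (Σ V : X.affineOpens, Γ(X, V.1)) := t.image (fun x => ⟨V x, f x⟩)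
  have ht' : ∀ q ∈ t', q.2 ∈ I.ideal q.1 := by
    intro q hq
    obtain ⟨x, -, rfl⟩ := Finset.mem_image.1 hq
    refine mem_vanishingIdeal_of_disjoint Z (V x) (f x) ?_
    rw [Set.disjoint_left]
    intro y hy hyZ
    exact hfZ x hy hyZ
  obtain ⟨J, hJI, hJft, hJt⟩ := exists_ft_le_forall_mem I t' ht'
  refine ⟨J, hJft, ?_⟩
  apply Set.Subset.antisymm
  · intro y hy
    by_contra hyZ
    obtain ⟨x, hx⟩ := Set.mem_iUnion.1 (ht hyZ)
    obtain ⟨hxt, hyx⟩ := Set.mem_iUnion.1 hx
    have hyV : y ∈ (V x).1 := X.basicOpen_le (f x) hyx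
    have h1 := (Scheme.IdealSheafData.mem_support_iff_of_mem hyV).1 hy
    have h2 : f x ∈ J.ideal (V x) := hJt ⟨V x, f x⟩ (Finset.mem_image.2 ⟨x, hxt, rfl⟩)
    exact (X.mem_zeroLocus_iff _ y).1 h1 (f x) h2 hyx
  · have h1 : Z ≤ J.support :=
      Scheme.IdealSheafData.le_support_iff_le_vanishingIdeal.2 hJI
    exact h1

end Support

section Model

variable {X : Scheme.{u}}

/-- a finite type quasi-coherent module on a qcqs scheme whose sections vanish off a closed subset `Z`
with quasi-compact complement is the pushforward of a quasi-coherent module along a closed immersion with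
range `Z` -/
theorem exists_closed_model_ft [CompactSpace X] [QuasiSeparatedSpace X] (Z : Closeds X)
    (hZ : IsCompact ((Z : Set X)ᶜ)) (T : X.Modules) (hT : Coh.IsCoh T)
    (hvan : ∀ W : X.Opens, Disjoint (W : Set X) (Z : Set X) → Subsingleton Γ(T, W)) :
    ∃ (Z' : Scheme.{u}) (i : Z' ⟶ X) (_ : IsClosedImmersion i) (G : Z'.Modules),
      Set.range i = (Z : Set X) ∧ G.IsQuasicoherent ∧
        Nonempty (T ≅ (Scheme.Modules.pushforward i).obj G) := by
  haveI : T.IsQuasicoherent := hT.1
  obtain ⟨J, hJft, hJs⟩ := exists_ft_support_eq Z hZ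
  have hc : IsCompact (J.support : Set X) := J.support.isClosed.isCompact
  obtain ⟨k, hk⟩ := exists_killed_pow_ft J hJft T hT (fun W hW => hvan W (hJs ▸ hW)) hc
  have hk' : ClSub.KilledByIdeal (J ^ (k + 1)) T := by
    intro U a ha m
    refine hk U a ?_ m
    have hle : J ^ (k + 1) ≤ J ^ k := by
      rw [pow_succ]
      exact mul_le_of_le_one_right' le_top
    exact hle U ha
  set K : X.IdealSheafData := J ^ (k + 1) with hK
  have hker : K.subschemeι.ker = K := Scheme.IdealSheafData.ker_subschemeι K
  have hrange : Set.range K.subschemeι = (Z : Set X) := by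
    rw [Scheme.IdealSheafData.range_subschemeι, hK,
      Scheme.IdealSheafData.support_pow J (k + 1) (Nat.succ_ne_zero k), hJs]
  haveI := Groth.Agent.S0786.isIso_unit_closedImmersion K.subschemeι T
    (fun U r hr m => hk' U r (by rw [hker] at hr; exact hr) m)
  exact ⟨K.subscheme, K.subschemeι, inferInstance, (Scheme.Modules.pullback K.subschemeι).obj T,
    hrange, Groth.Agent.Lib.Helper2.PullbackSec.isQuasicoherent_pullback K.subschemeι T,
    ⟨asIso ((Scheme.Modules.pullbackPushforwardAdjunction K.subschemeι).unit.app T)⟩⟩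

end Model

end Groth.Agent.Lib.R2H3.AffStratA
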