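import Groth.Agent.Lib.R2H3FPQuot

/-!
# Sections over affine opens of filtered colimits of quasi-coherent modules (helper3, round 2)

`exists_rep_of_isColimit_affine`: if `c` is a colimit cocone of a filtered diagram of quasi-coherent modules, with
quasi-coherent point, every section of `c.pt` over an affine open comes from a section of some `D.obj j`.
-/

set_option autoImplicit false
set_option linter.style.haveILetI false
universe u
open CategoryTheory Limits AlgebraicGeometry TopologicalSpace Opposite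

namespace Groth.Agent.Lib.R2H3.QCohColimSec

open Groth.Agent.Lib.Helper23.QCohLocal Groth.Agent.Lib.Helper23.Extend

section spec
variable (R : CommRingCat.{u})

/-- a morphism out of a quasi-coherent module on `Spec R` vanishing on global sections vanishes -/
theorem eq_zero_of_ΓF_map_eq_zero {A B : (Spec R).Modules} [A.IsQuasicoherent] (m : A ⟶ B)
    (h : (ΓF R).map m = 0) : m = 0 := by
  have : IsIso ((tildeΓAdj R).counit.app A) := isIso_fromTildeΓ A
  rw [← cancel_epi ((tildeΓAdj R).counit.app A)]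
  have hnat := (tildeΓAdj R).counit.naturality m
  simp only [Functor.comp_obj, Functor.id_obj, Functor.comp_map, Functor.id_map] at hnat
  rw [← hnat, h, Functor.map_zero, zero_comp, comp_zero]

theorem exists_rep_spec {J : Type u} [SmallCategory J] [IsFiltered J] (D : J ⥤ (Spec R).Modules)
    (hD : ∀ j, (D.obj j).IsQuasicoherent) (c : Cocone D) (hc : IsColimit c) [c.pt.IsQuasicoherent]
    (z : Γ(c.pt, ⊤)) : ∃ (j : J) (y : Γ(D.obj j, ⊤)), (c.ι.app j).app ⊤ y = z := by
  haveI : Nonempty J := IsFiltered.nonempty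
  let r : J → Submodule R ((ΓF R).obj c.pt) := fun j => LinearMap.range ((ΓF R).map (c.ι.app j)).hom
  let N : Submodule R ((ΓF R).obj c.pt) := ⨆ j, r j
  let Q : ModuleCat.{u} R := ModuleCat.of R (((ΓF R).obj c.pt) ⧸ N)
  let q : (ΓF R).obj c.pt ⟶ Q := ModuleCat.ofHom (X := ((ΓF R).obj c.pt)) (Y := (((ΓF R).obj c.pt) ⧸ N)) N.mkQ
  have hε : IsIso ((tildeΓAdj R).counit.app c.pt) := isIso_fromTildeΓ c.pt
  let ψ : c.pt ⟶ (tilde.functor R).obj Q := inv ((tildeΓAdj R).counit.app c.pt) ≫ (tilde.functor R).map q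
  -- `Γ ψ = q ≫ η`
  have hΓψ : (ΓF R).map ψ = q ≫ (tildeΓAdj R).unit.app Q := by
    have htri : (tildeΓAdj R).unit.app ((ΓF R).obj c.pt) ≫ (ΓF R).map ((tildeΓAdj R).counit.app c.pt) = 𝟙 _ :=
      (tildeΓAdj R).right_triangle_components c.pt
    have h1 : (ΓF R).map (inv ((tildeΓAdj R).counit.app c.pt)) =
        (tildeΓAdj R).unit.app ((ΓF R).obj c.pt) := by
      rw [Functor.map_inv]
      exact (IsIso.eq_inv_of_inv_hom_id htri).symm
    have hnat := (tildeΓAdj R).unit.naturality q
    simp only [Functor.id_obj, Functor.id_map, Functor.comp_obj, Functor.comp_map] at hnat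
    rw [Functor.map_comp, h1, ← hnat]
  have hrq : ∀ j, (ΓF R).map (c.ι.app j) ≫ q = 0 := by
    intro j
    refine ModuleCat.hom_ext (LinearMap.ext fun y => ?_)
    simp only [ModuleCat.hom_comp, LinearMap.comp_apply, ModuleCat.hom_zero, LinearMap.zero_apply]
    change N.mkQ (((ΓF R).map (c.ι.app j)).hom y) = 0
    rw [Submodule.mkQ_apply, Submodule.Quotient.mk_eq_zero]
    exact (le_iSup r j) ⟨y, rfl⟩
  have hψ : ψ = 0 := by
    refine hc.hom_ext (fun j => ?_)
    rw [comp_zero]
    have := hD j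
    refine eq_zero_of_ΓF_map_eq_zero R _ ?_
    rw [Functor.map_comp, hΓψ, reassoc_of% (hrq j), zero_comp]
  have hq : q = 0 := by
    have hη : IsIso ((tildeΓAdj R).unit.app Q) :=
      inferInstanceAs (IsIso ((tilde.toTildeΓNatIso (R := R)).hom.app Q))
    rw [← cancel_mono ((tildeΓAdj R).unit.app Q), ← hΓψ, hψ, Functor.map_zero, zero_comp]
  have hN : N = ⊤ := by
    rw [eq_top_iff]
    intro x _
    have h1 : N.mkQ x = 0 := by
      have := congrArg (fun f : (ΓF R).obj c.pt ⟶ Q => f.hom x) hq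
      simp only [ModuleCat.hom_zero, LinearMap.zero_apply] at this
      exact this
    rwa [Submodule.mkQ_apply, Submodule.Quotient.mk_eq_zero] at h1
  have hdir : Directed (· ≤ ·) r := by
    intro j j'
    refine ⟨IsFiltered.max j j', ?_, ?_⟩
    · rintro _ ⟨y, rfl⟩
      refine ⟨((ΓF R).map (D.map (IsFiltered.leftToMax j j'))).hom y, ?_⟩
      rw [← ModuleCat.comp_apply, ← Functor.map_comp, c.w]
    · rintro _ ⟨y, rfl⟩
      refine ⟨((ΓF R).map (D.map (IsFiltered.rightToMax j j'))).hom y, ?_⟩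
      rw [← ModuleCat.comp_apply, ← Functor.map_comp, c.w]
  have hz : (show ((ΓF R).obj c.pt) from z) ∈ N := by rw [hN]; trivial
  obtain ⟨j, y, hy⟩ := (Submodule.mem_iSup_of_directed r hdir).1 hz
  exact ⟨j, y, hy⟩

end spec

section global
variable {X : Scheme.{u}}

theorem exists_rep_of_eq {J : Type u} [SmallCategory J] (D : J ⥤ X.Modules) (c : Cocone D) {W W' : X.Opens}
    (e : W = W') (h : ∀ z : Γ(c.pt, W), ∃ (j : J) (y : Γ(D.obj j, W)), (c.ι.app j).app W y = z)
    (z : Γ(c.pt, W')) : ∃ (j : J) (y : Γ(D.obj j, W')), (c.ι.app j).app W' y = z := by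
  subst e
  exact h z

/-- **sections of a filtered colimit of quasi-coherent modules over an affine open** come from a stage -/
theorem exists_rep_of_isColimit_affine {J : Type u} [SmallCategory J] [IsFiltered J] (D : J ⥤ X.Modules)
    (hD : ∀ j, (D.obj j).IsQuasicoherent) (c : Cocone D) (hc : IsColimit c) [c.pt.IsQuasicoherent]
    {V : X.Opens} (hV : IsAffineOpen V) (z : Γ(c.pt, V)) :
    ∃ (j : J) (y : Γ(D.obj j, V)), (c.ι.app j).app V y = z := by
  let h : Spec Γ(X, V) ⟶ X := hV.fromSpec
  have htop : h ''ᵁ ⊤ = V := (Scheme.Hom.image_top_eq_opensRange _).trans hV.opensRange_fromSpec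
  refine exists_rep_of_eq D c htop (fun z' => ?_) z
  let Rf := Scheme.Modules.restrictFunctor h
  have hc' : IsColimit (Rf.mapCocone c) := isColimitOfPreserves Rf hc
  have hD' : ∀ j, ((D ⋙ Rf).obj j).IsQuasicoherent := fun j => by
    have := hD j
    exact Scheme.Modules.isQuasicoherent_restrictFunctor h (D.obj j)
  have hpt : (Rf.mapCocone c).pt.IsQuasicoherent :=
    Scheme.Modules.isQuasicoherent_restrictFunctor h c.pt
  obtain ⟨j, y, hy⟩ := exists_rep_spec Γ(X, V) (D ⋙ Rf) hD' (Rf.mapCocone c) hc' z'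
  exact ⟨j, y, hy⟩

end global

end Groth.Agent.Lib.R2H3.QCohColimSec
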