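import Groth.Agent.Lib.R2H3FPDirected
import Groth.Agent.Lib.R2H3QCohColimSec
import Groth.Agent.Lib.R2H2CoprodCoh
import Groth.Agent.Lib.R2H2PnFinite
import Groth.Agent.Lib.Helper23QCohAbelian

/-!
# A quasi-coherent module on a qcqs scheme is a filtered colimit of finitely presented modules
(Stacks 01PJ; helper3, round 2)

* `finitePresentation_pi`: finite products of finitely presented modules (over a ring) are finitely presented.
* `secPi`: sections of a finite biproduct.
* `isQuasicoherent_biproduct'`, `isFinitePresentation_biproduct`: finite biproducts (indexed by any finite type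
  in `Type u`) of finitely presented quasi-coherent modules.
* `exists_kernel_section`: left exactness of sections.
* `Idx`, `Idx.le`, `exists_colimit_of_family`: the filtered system of quotients of finite partial sums of a family
  `φ s : G s ⟶ F` hitting every section over affine opens, by finite type quasi-coherent subobjects of the kernels,
  has colimit `F`.
-/

set_option autoImplicit false
set_option linter.style.haveILetI false
universe u
open CategoryTheory Limits AlgebraicGeometry TopologicalSpace Opposite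

namespace Groth.Agent.Lib.R2H3.FPColim

open Groth.Agent.Lib.Helper23.QCohLocal Groth.Agent.Lib.Helper23.FinType Groth.Agent.Lib.Helper23.Extend
  Groth.Agent.Lib.R2H3.FPExtend Groth.Agent.Lib.Helper23.FTsub Groth.Agent.Lib.R2H3.FPQuot
  Groth.Agent.Lib.R2H3.LimFPDesc Groth.Agent.Lib.R2H3.FPDirected

section algebra

theorem finitePresentation_pi {R : Type*} [Ring R] {ι : Type*} [Finite ι] :
    ∀ {M : ι → Type*} [∀ i, AddCommGroup (M i)] [∀ i, Module R (M i)]
      [∀ i, Module.FinitePresentation R (M i)], Module.FinitePresentation R (Π i, M i) := by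
  apply Finite.induction_empty_option _ _ _ ι
  · exact fun e h => Module.FinitePresentation.of_equiv (LinearEquiv.piCongrLeft R _ e)
  · intro M _ _ _
    exact Module.finitePresentation_of_projective R _
  · exact fun ih => Module.FinitePresentation.of_equiv (LinearEquiv.piOptionEquivProd R).symm

end algebra

section biproduct

theorem biproduct_total {C : Type*} [Category C] [Preadditive C] {J : Type*} [Fintype J] [DecidableEq J]
    (f : J → C) [HasBiproduct f] : ∑ j, biproduct.π f j ≫ biproduct.ι f j = 𝟙 (⨁ f) := by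
  apply biproduct.hom_ext'
  intro k
  rw [Preadditive.comp_sum, Category.comp_id, Finset.sum_eq_single k]
  · rw [biproduct.ι_π_self_assoc]
  · intro j _ hjk
    rw [biproduct.ι_π_ne_assoc _ hjk.symm, zero_comp]
  · intro h
    exact absurd (Finset.mem_univ k) h

variable {X : Scheme.{u}}

/-- sections of a finite biproduct -/
noncomputable def secPi {ι : Type u} [Fintype ι] [DecidableEq ι] (A : ι → X.Modules) (U : X.Opens) :
    Γ((⨁ A : X.Modules), U) ≃ₗ[Γ(X, U)] (∀ k, Γ(A k, U)) :=
  LinearEquiv.ofLinearMap (LinearMap.pi fun k => appₗ (biproduct.π A k) U)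
    (∑ k, (appₗ (biproduct.ι A k) U).comp (LinearMap.proj k))
    (by
      apply LinearMap.ext
      intro x
      funext k
      rw [LinearMap.comp_apply, LinearMap.pi_apply, LinearMap.sum_apply, map_sum, LinearMap.id_apply]
      rw [Finset.sum_eq_single k]
      · rw [LinearMap.comp_apply, LinearMap.proj_apply, appₗ_apply, appₗ_apply]
        have := congrArg (fun θ : A k ⟶ A k => θ.app U (x k)) (biproduct.ι_π_self A k)
        simp only [Scheme.Modules.Hom.comp_app, Scheme.Modules.Hom.id_app] at this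
        exact this
      · intro j _ hjk
        rw [LinearMap.comp_apply, LinearMap.proj_apply, appₗ_apply, appₗ_apply]
        have := congrArg (fun θ : A j ⟶ A k => θ.app U (x j)) (biproduct.ι_π_ne A hjk)
        simp only [Scheme.Modules.Hom.comp_app, Scheme.Modules.Hom.zero_app] at this
        exact this
      · intro h
        exact absurd (Finset.mem_univ k) h)
    (by
      apply LinearMap.ext
      intro s
      rw [LinearMap.comp_apply, LinearMap.sum_apply, LinearMap.id_apply]
      have h1 : (∑ j : ι, biproduct.π A j ≫ biproduct.ι A j : (⨁ A : X.Modules) ⟶ ⨁ A) = 𝟙 _ :=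
        biproduct_total A
      have h2 := congrArg (fun φ : (⨁ A : X.Modules) ⟶ (⨁ A : X.Modules) => φ.app U s) h1
      simp only [Groth.Agent.Lib.R2H2.PnFinite.sum_app, Scheme.Modules.Hom.comp_app,
        Scheme.Modules.Hom.id_app] at h2
      exact h2)

theorem isQuasicoherent_biproduct' {ι : Type u} [Fintype ι] [DecidableEq ι] (A : ι → X.Modules)
    (hq : ∀ k, (A k).IsQuasicoherent) : (⨁ A : X.Modules).IsQuasicoherent := by
  have h := Groth.Agent.Lib.R2H2.CoprodCoh.isQuasicoherent_sigma A hq
  exact Groth.Agent.Lib.Helper23.TensorQCoh.isQuasicoherent_of_iso (biproduct.isoCoproduct A).symm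

theorem isFinitePresentation_biproduct {ι : Type u} [Fintype ι] [DecidableEq ι] (A : ι → X.Modules)
    (hq : ∀ k, (A k).IsQuasicoherent)
    (hf : ∀ k, SheafOfModules.IsFinitePresentation (R := X.ringCatSheaf) (A k)) :
    SheafOfModules.IsFinitePresentation (R := X.ringCatSheaf) (⨁ A : X.Modules) := by
  have : (⨁ A : X.Modules).IsQuasicoherent := isQuasicoherent_biproduct' A hq
  refine isFinitePresentation_of_fpOn_top _ (fun U hU _ => ?_)
  have hk : ∀ k, Module.FinitePresentation Γ(X, U) Γ(A k, U) := fun k => by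
    have := hq k
    have := hf k
    exact Groth.Agent.Lib.Helper2.FPAff.finitePresentation_sections (A k) hU
  have : Module.FinitePresentation Γ(X, U) (∀ k, Γ(A k, U)) := finitePresentation_pi
  exact Module.FinitePresentation.of_equiv (secPi A U).symm

/-- left exactness of sections -/
theorem exists_kernel_section {A B : X.Modules} (f : A ⟶ B) (V : X.Opens) (t : Γ(A, V))
    (ht : f.app V t = 0) : ∃ r : Γ((kernel f : X.Modules), V), (kernel.ι f).app V r = t := by
  let E : ShortComplex X.Modules := ShortComplex.mk (kernel.ι f) (factorThruImage f) (by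
    rw [← cancel_mono (image.ι f), Category.assoc, image.fac, kernel.condition, zero_comp])
  have hE : E.ShortExact :=
    { exact := by
        have h1 : (ShortComplex.mk (kernel.ι f) f (kernel.condition f)).Exact := ShortComplex.exact_kernel f
        rw [ShortComplex.exact_iff_of_epi_of_isIso_of_mono
          (φ := ({ τ₁ := 𝟙 _, τ₂ := 𝟙 _, τ₃ := image.ι f } : E ⟶ ShortComplex.mk (kernel.ι f) f (kernel.condition f)))]
        exact h1
      mono_f := inferInstanceAs (Mono (kernel.ι f))
      epi_g := inferInstanceAs (Epi (factorThruImage f)) }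
  refine Groth.Agent.Lib.Helper20.StalkExact.exists_app_eq_of_exact E hE V t ?_
  have hinj := Groth.Agent.Lib.Helper20.StalkExact.injective_app_of_mono (image.ι f) V
  apply hinj
  rw [map_zero]
  have := congrArg (fun θ : A ⟶ B => θ.app V t) (image.fac f)
  simp only [Scheme.Modules.Hom.comp_app] at this
  exact this.trans ht

end biproduct

section main

variable {X : Scheme.{u}} {F : X.Modules} {S : Type u} (G : S → X.Modules) (φ : ∀ s, G s ⟶ F)

/-- finite partial sums of the family `G` -/
noncomputable abbrev GT (T : Finset S) : X.Modules := ⨁ (fun s : ↥T => G s.1)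

/-- the map from a finite partial sum to `F` -/
noncomputable def φT (T : Finset S) : GT G T ⟶ F := biproduct.desc (fun s : ↥T => φ s.1)

/-- the inclusion of partial sums -/
noncomputable def incl {T T' : Finset S} (h : T ⊆ T') : GT G T ⟶ GT G T' :=
  biproduct.desc (fun s : ↥T => biproduct.ι (fun s : ↥T' => G s.1) ⟨s.1, h s.2⟩)

theorem ι_φT (T : Finset S) (s : ↥T) : biproduct.ι (fun s : ↥T => G s.1) s ≫ φT G φ T = φ s.1 :=
  biproduct.ι_desc _ _

theorem ι_incl {T T' : Finset S} (h : T ⊆ T') (s : ↥T) :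
    biproduct.ι (fun s : ↥T => G s.1) s ≫ incl G h = biproduct.ι (fun s : ↥T' => G s.1) ⟨s.1, h s.2⟩ :=
  biproduct.ι_desc _ _

theorem incl_φT {T T' : Finset S} (h : T ⊆ T') : incl G h ≫ φT G φ T' = φT G φ T := by
  apply biproduct.hom_ext'
  intro s
  rw [← Category.assoc, ι_incl, ι_φT, ι_φT]

theorem incl_refl {T : Finset S} (h : T ⊆ T) : incl G h = 𝟙 _ := by
  apply biproduct.hom_ext'
  intro s
  rw [ι_incl, Category.comp_id]

theorem incl_comp {T T' T'' : Finset S} (h₁ : T ⊆ T') (h₂ : T' ⊆ T'') (h₃ : T ⊆ T'') :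
    incl G h₁ ≫ incl G h₂ = incl G h₃ := by
  apply biproduct.hom_ext'
  intro s
  rw [← Category.assoc, ι_incl, ι_incl, ι_incl]

@[reassoc]
theorem incl_comp' {T T' T'' : Finset S} (h₁ : T ⊆ T') (h₂ : T' ⊆ T'') :
    incl G h₁ ≫ incl G h₂ = incl G (h₁.trans h₂) := incl_comp G h₁ h₂ _

theorem isQuasicoherent_GT (hGq : ∀ s, (G s).IsQuasicoherent) (T : Finset S) : (GT G T).IsQuasicoherent := by
  classical
  exact isQuasicoherent_biproduct' _ (fun s => hGq s.1)

theorem isFinitePresentation_GT (hGq : ∀ s, (G s).IsQuasicoherent)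
    (hGf : ∀ s, SheafOfModules.IsFinitePresentation (R := X.ringCatSheaf) (G s)) (T : Finset S) :
    SheafOfModules.IsFinitePresentation (R := X.ringCatSheaf) (GT G T) := by
  classical
  exact isFinitePresentation_biproduct _ (fun s => hGq s.1) (fun s => hGf s.1)

/-- the index set: a finite set of indices and a finite type quasi-coherent subobject of the kernel -/
structure Idx : Type (u + 1) where
  T : Finset S
  B : Subobject (kernel (φT G φ T) : X.Modules)
  hB : FTSub (kernel (φT G φ T) : X.Modules) B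

variable {G φ}

/-- the subobject, mapped into the partial sum -/
noncomputable def Idx.m (x : Idx G φ) : (Subobject.underlying.obj x.B : X.Modules) ⟶ GT G x.T :=
  x.B.arrow ≫ kernel.ι (φT G φ x.T)

instance (x : Idx G φ) : Mono x.m := by
  unfold Idx.m
  infer_instance

theorem Idx.m_φT (x : Idx G φ) : x.m ≫ φT G φ x.T = 0 := by
  unfold Idx.m
  rw [Category.assoc, kernel.condition, comp_zero]

/-- the preorder relation on the index set -/
def Idx.le (x y : Idx G φ) : Prop :=
  ∃ h : x.T ⊆ y.T, ∃ l : (Subobject.underlying.obj x.B : X.Modules) ⟶ (Subobject.underlying.obj y.B : X.Modules),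
    l ≫ y.m = x.m ≫ incl G h

theorem Idx.le_refl (x : Idx G φ) : Idx.le x x :=
  ⟨Finset.Subset.refl _, 𝟙 _, by rw [incl_refl, Category.id_comp, Category.comp_id]⟩

theorem Idx.le_trans {x y z : Idx G φ} (h₁ : Idx.le x y) (h₂ : Idx.le y z) : Idx.le x z := by
  obtain ⟨h₁, l₁, e₁⟩ := h₁
  obtain ⟨h₂, l₂, e₂⟩ := h₂
  refine ⟨h₁.trans h₂, l₁ ≫ l₂, ?_⟩
  rw [Category.assoc, e₂, reassoc_of% e₁, incl_comp]

/-- constructing an index above a given one -/
theorem Idx.le_mk (x : Idx G φ) {T' : Finset S} (h : x.T ⊆ T') {C : X.Modules}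
    (c : C ⟶ (kernel (φT G φ T') : X.Modules)) [Mono c] [C.IsQuasicoherent]
    [SheafOfModules.IsFiniteType (R := X.ringCatSheaf) C]
    (ia : (Subobject.underlying.obj x.B : X.Modules) ⟶ C)
    (hia : ia ≫ c ≫ kernel.ι (φT G φ T') = x.m ≫ incl G h) :
    Idx.le x ⟨T', Subobject.mk c, ftSub_mk c⟩ := by
  refine ⟨h, ia ≫ (Subobject.underlyingIso c).inv, ?_⟩
  change (ia ≫ (Subobject.underlyingIso c).inv) ≫ (Subobject.mk c).arrow ≫ kernel.ι (φT G φ T') = _
  rw [Category.assoc, Subobject.underlyingIso_arrow_assoc, hia]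

theorem Idx.exists_ge [CompactSpace X] [QuasiSeparatedSpace X] [F.IsQuasicoherent]
    (hGq : ∀ s, (G s).IsQuasicoherent) (x y : Idx G φ) : ∃ z : Idx G φ, Idx.le x z ∧ Idx.le y z := by
  classical
  have hx : x.T ⊆ x.T ∪ y.T := Finset.subset_union_left
  have hy : y.T ⊆ x.T ∪ y.T := Finset.subset_union_right
  have hq := isQuasicoherent_GT G hGq (x.T ∪ y.T)
  have hKq : (kernel (φT G φ (x.T ∪ y.T)) : X.Modules).IsQuasicoherent := isQuasicoherent_kernel _
  let kx : (Subobject.underlying.obj x.B : X.Modules) ⟶ (kernel (φT G φ (x.T ∪ y.T)) : X.Modules) :=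
    kernel.lift _ (x.m ≫ incl G hx) (by rw [Category.assoc, incl_φT, Idx.m_φT])
  let ky : (Subobject.underlying.obj y.B : X.Modules) ⟶ (kernel (φT G φ (x.T ∪ y.T)) : X.Modules) :=
    kernel.lift _ (y.m ≫ incl G hy) (by rw [Category.assoc, incl_φT, Idx.m_φT])
  have := x.hB.1
  have := x.hB.2
  have := y.hB.1
  have := y.hB.2
  obtain ⟨C, c, ia, ib, hc, hCq, hCf, hac, hbc⟩ := exists_sup_sub _ _ _ kx ky
  have := hc
  have := hCq
  have := hCf
  refine ⟨⟨x.T ∪ y.T, Subobject.mk c, ftSub_mk c⟩, Idx.le_mk x hx c ia ?_, Idx.le_mk y hy c ib ?_⟩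
  · rw [reassoc_of% hac, kernel.lift_ι]
  · rw [reassoc_of% hbc, kernel.lift_ι]

theorem exists_ftSub [CompactSpace X] [QuasiSeparatedSpace X] (K : X.Modules) [K.IsQuasicoherent] :
    ∃ B : Subobject K, FTSub K B := by
  obtain ⟨G', i', hi', hq', hf', -⟩ := Groth.Agent.S9819.result K ⟨⊥, isAffineOpen_bot X⟩ 0
  have := hi'
  have hq'' : G'.IsQuasicoherent := hq'
  have hf'' : SheafOfModules.IsFiniteType (R := X.ringCatSheaf) G' := hf'
  exact ⟨Subobject.mk i', ftSub_mk i'⟩

/-- **the filtered system of finitely presented modules attached to a family hitting all sections** has colimit `F` -/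
theorem exists_colimit_of_family [CompactSpace X] [QuasiSeparatedSpace X] [F.IsQuasicoherent]
    (hGq : ∀ s, (G s).IsQuasicoherent)
    (hGf : ∀ s, SheafOfModules.IsFinitePresentation (R := X.ringCatSheaf) (G s))
    (hsec : ∀ (V : X.Opens), IsAffineOpen V → ∀ a : Γ(F, V), ∃ (s : S) (b : Γ(G s, V)), (φ s).app V b = a)
    (J : Type u) [Preorder J] (p : J → Idx G φ) (hp : ∀ j j', j ≤ j' ↔ Idx.le (p j) (p j'))
    (hcof : ∀ x, ∃ j, Idx.le x (p j)) :
    ∃ (_ : IsDirected J (· ≤ ·)) (_ : Nonempty J) (D : J ⥤ X.Modules) (ι : D ⟶ (Functor.const J).obj F),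
      Nonempty (IsColimit (Cocone.mk F ι)) ∧
      ∀ j, SheafOfModules.IsFinitePresentation (R := X.ringCatSheaf) (D.obj j) := by
  classical
  have hGTq : ∀ T, (GT G T).IsQuasicoherent := isQuasicoherent_GT G hGq
  have hGTf : ∀ T, SheafOfModules.IsFinitePresentation (R := X.ringCatSheaf) (GT G T) :=
    isFinitePresentation_GT G hGq hGf
  have hKq : ∀ T, (kernel (φT G φ T) : X.Modules).IsQuasicoherent := fun T => by
    have := hGTq T
    exact isQuasicoherent_kernel _
  have hBq : ∀ x : Idx G φ, (Subobject.underlying.obj x.B : X.Modules).IsQuasicoherent := fun x => x.hB.1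
  have hBf : ∀ x : Idx G φ, SheafOfModules.IsFiniteType (R := X.ringCatSheaf)
      (Subobject.underlying.obj x.B : X.Modules) := fun x => x.hB.2
  have hdir : IsDirected J (· ≤ ·) := ⟨fun j₁ j₂ => by
    obtain ⟨z, h1, h2⟩ := Idx.exists_ge hGq (p j₁) (p j₂)
    obtain ⟨j₃, h3⟩ := hcof z
    exact ⟨j₃, (hp _ _).2 (Idx.le_trans h1 h3), (hp _ _).2 (Idx.le_trans h2 h3)⟩⟩
  have hne : Nonempty J := by
    have := hKq ∅
    obtain ⟨B₀, hB₀⟩ := exists_ftSub (kernel (φT G φ ∅) : X.Modules)
    obtain ⟨j, -⟩ := hcof ⟨∅, B₀, hB₀⟩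
    exact ⟨j⟩
  have hle : ∀ {j j' : J}, (j ⟶ j') → Idx.le (p j) (p j') := fun f => (hp _ _).1 (leOfHom f)
  let D : J ⥤ X.Modules :=
    { obj := fun j => cokernel (p j).m
      map := fun {j j'} f => cokernel.map (p j).m (p j').m (hle f).choose_spec.choose (incl G (hle f).choose)
        (hle f).choose_spec.choose_spec.symm
      map_id := fun j => by
        apply coequalizer.hom_ext
        simp [incl_refl]
      map_comp := fun {j j' j''} f g => by
        apply coequalizer.hom_ext
        simp [incl_comp'_assoc] }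
  have hDπ : ∀ {j j' : J} (f : j ⟶ j') (h : (p j).T ⊆ (p j').T),
      cokernel.π (p j).m ≫ D.map f = incl G h ≫ cokernel.π (p j').m :=
    fun {j j'} f h => cokernel.π_desc (p j).m _ _
  let ιF : D ⟶ (Functor.const J).obj F :=
    { app := fun j => cokernel.desc (p j).m (φT G φ (p j).T) (p j).m_φT
      naturality := fun {j j'} f => by
        apply coequalizer.hom_ext
        change cokernel.π (p j).m ≫ D.map f ≫ cokernel.desc (p j').m (φT G φ (p j').T) (p j').m_φT =
          cokernel.π (p j).m ≫ cokernel.desc (p j).m (φT G φ (p j).T) (p j).m_φT ≫ 𝟙 F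
        rw [reassoc_of% (hDπ f (hle f).choose), cokernel.π_desc, Category.comp_id, cokernel.π_desc, incl_φT] }
  have hιF : ∀ j : J, cokernel.π (p j).m ≫ ιF.app j = φT G φ (p j).T := fun j => cokernel.π_desc _ _ _
  have hDq : ∀ j, (D.obj j).IsQuasicoherent := fun j => by
    have := hBq (p j)
    have := hGTq (p j).T
    exact isQuasicoherent_cokernel (p j).m
  have hDf : ∀ j, SheafOfModules.IsFinitePresentation (R := X.ringCatSheaf) (D.obj j) := fun j => by
    have := hBq (p j)
    have := hBf (p j)
    have := hGTq (p j).T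
    have := hGTf (p j).T
    exact isFinitePresentation_cokernel (p j).m
  haveI : IsFiltered J := isFiltered_of_directed_le_nonempty J
  have hcq : (colimit D).IsQuasicoherent := isQuasicoherent_colimit D hDq
  let κ : colimit D ⟶ F := colimit.desc D (Cocone.mk F ιF)
  have hκ : ∀ j, colimit.ι D j ≫ κ = ιF.app j := fun j => colimit.ι_desc _ _
  -- `κ` is an epimorphism
  have hepi : Epi κ := by
    refine Groth.Agent.Helper18OmLS.epi_of_surjective_app_cover κ (fun V : X.affineOpens => (V : X.Opens))
      (IsOpenCover.mk (iSup_affineOpens_eq_top X)) (fun V => V.2) (fun V a => ?_)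
    obtain ⟨s, b, hb⟩ := hsec V.1 V.2 a
    have := hKq {s}
    obtain ⟨B₀, hB₀⟩ := exists_ftSub (kernel (φT G φ {s}) : X.Modules)
    obtain ⟨j, hT, -, -⟩ := hcof ⟨{s}, B₀, hB₀⟩
    have hs : s ∈ (p j).T := hT (Finset.mem_singleton_self s)
    let b' : Γ(GT G (p j).T, V.1) := (biproduct.ι (fun s : ↥(p j).T => G s.1) ⟨s, hs⟩).app V.1 b
    refine ⟨(colimit.ι D j).app V.1 ((cokernel.π (p j).m).app V.1 b'), ?_⟩
    have h0 : biproduct.ι (fun s : ↥(p j).T => G s.1) ⟨s, hs⟩ ≫ cokernel.π (p j).m ≫ colimit.ι D j ≫ κ = φ s := by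
      rw [hκ, hιF]
      exact ι_φT G φ (p j).T ⟨s, hs⟩
    have h1 := congrArg (fun θ : G s ⟶ F => θ.app V.1 b) h0
    simp only [Scheme.Modules.Hom.comp_app] at h1
    exact h1.trans hb
  -- `κ` is a monomorphism
  have hmono : Mono κ := by
    refine Preadditive.mono_of_kernel_zero ?_
    refine Groth.Agent.Lib.R2H3.LimHom.hom_ext_affine _ _ (fun V hV x => ?_)
    rw [Scheme.Modules.Hom.zero_app]
    have hκz : κ.app V ((kernel.ι κ).app V x) = 0 := by
      have := congrArg (fun θ : (kernel κ : X.Modules) ⟶ F => θ.app V x) (kernel.condition κ)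
      simp only [Scheme.Modules.Hom.comp_app, Scheme.Modules.Hom.zero_app] at this
      exact this
    generalize (kernel.ι κ).app V x = z at hκz
    haveI : (colimit.cocone D).pt.IsQuasicoherent := hcq
    obtain ⟨j, y, hy⟩ := Groth.Agent.Lib.R2H3.QCohColimSec.exists_rep_of_isColimit_affine D hDq
      (colimit.cocone D) (colimit.isColimit D) hV z
    change (colimit.ι D j).app V y = z at hy
    have hy0 : (ιF.app j).app V y = 0 := by
      have h5 : (ιF.app j).app V y = κ.app V ((colimit.ι D j).app V y) := by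
        rw [← hκ j]
        rfl
      rw [h5, hy]
      exact hκz
    have := hBq (p j)
    have := hBf (p j)
    have := hGTq (p j).T
    have := hDq j
    have := hKq (p j).T
    have hπsurj : Function.Surjective ((cokernel.π (p j).m).app V) :=
      surjective_app_of_epi (cokernel.π (p j).m) hV
    obtain ⟨t, ht⟩ := hπsurj y
    have hφt : (φT G φ (p j).T).app V t = 0 := by
      have h6 : (ιF.app j).app V ((cokernel.π (p j).m).app V t) = (φT G φ (p j).T).app V t :=
        congrArg (fun θ : GT G (p j).T ⟶ F => θ.app V t) (hιF j)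
      rw [← h6, ht]
      exact hy0
    obtain ⟨w, hw⟩ := exists_kernel_section (φT G φ (p j).T) V t hφt
    obtain ⟨G', i', hi', hq', hf', w', hw'⟩ :=
      Groth.Agent.S9819.result (kernel (φT G φ (p j).T) : X.Modules) ⟨V, hV⟩ w
    have := hi'
    have hq'' : G'.IsQuasicoherent := hq'
    have hf'' : SheafOfModules.IsFiniteType (R := X.ringCatSheaf) G' := hf'
    obtain ⟨C, c, ia, ib, hc, hCq, hCf, hac, hbc⟩ := exists_sup_sub _ _ _ (p j).B.arrow i'
    have := hc
    have := hCq
    have := hCf
    let x' : Idx G φ := ⟨(p j).T, Subobject.mk c, ftSub_mk c⟩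
    have hle1 : Idx.le (p j) x' := Idx.le_mk (p j) (Finset.Subset.refl _) c ia (by
      rw [reassoc_of% hac, incl_refl, Category.comp_id]
      rfl)
    obtain ⟨j', hj'⟩ := hcof x'
    have hjj' : j ≤ j' := (hp _ _).2 (Idx.le_trans hle1 hj')
    obtain ⟨hT', l', hl'⟩ := hj'
    have hkey2 : (ib ≫ (Subobject.underlyingIso c).inv) ≫ x'.m = i' ≫ kernel.ι (φT G φ (p j).T) := by
      change (ib ≫ (Subobject.underlyingIso c).inv) ≫ (Subobject.mk c).arrow ≫ kernel.ι (φT G φ (p j).T) = _
      rw [Category.assoc, Subobject.underlyingIso_arrow_assoc, reassoc_of% hbc]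
    have hkey : (i' ≫ kernel.ι (φT G φ (p j).T)) ≫ incl G hT' ≫ cokernel.π (p j').m = 0 := by
      rw [← hkey2]
      have h7 : x'.m ≫ incl G hT' ≫ cokernel.π (p j').m = 0 := by
        rw [← Category.assoc, ← hl', Category.assoc, cokernel.condition, comp_zero]
      rw [Category.assoc, h7, comp_zero]
    have htw : t = (i' ≫ kernel.ι (φT G φ (p j).T)).app V w' := by
      rw [Scheme.Modules.Hom.comp_app]
      change t = (kernel.ι (φT G φ (p j).T)).app V (i'.app V w')
      have hw'' : i'.app V w' = w := hw'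
      rw [hw'', hw]
    have hkill : (D.map (homOfLE hjj')).app V y = 0 := by
      rw [← ht]
      have h1 : (D.map (homOfLE hjj')).app V ((cokernel.π (p j).m).app V t) =
          (cokernel.π (p j').m).app V ((incl G hT').app V t) :=
        congrArg (fun θ : GT G (p j).T ⟶ D.obj j' => θ.app V t) (hDπ (homOfLE hjj') hT')
      refine h1.trans ?_
      rw [htw]
      have h2 := congrArg (fun θ : G' ⟶ D.obj j' => θ.app V w') hkey
      rw [Scheme.Modules.Hom.zero_app] at h2
      exact h2
    have h3 : (colimit.ι D j').app V ((D.map (homOfLE hjj')).app V y) = (colimit.ι D j).app V y :=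
      congrArg (fun θ : D.obj j ⟶ colimit D => θ.app V y) (colimit.w D (homOfLE hjj'))
    rw [← hy, ← h3, hkill, map_zero]
    rfl
  have hiso : IsIso κ := isIso_of_mono_of_epi κ
  exact ⟨hdir, hne, D, ιF,
    ⟨IsColimit.ofIsoColimit (colimit.isColimit D) (Cocone.ext (asIso κ) (fun j => hκ j))⟩, hDf⟩

end main

end Groth.Agent.Lib.R2H3.FPColim
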