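import Mathlib
import Groth.Prelude.Def_Coh
import Groth.Agent.S2128
import Groth.Agent.S0484
import Groth.Agent.Lib.Helper9HTerminal
import Groth.Agent.Lib.Helper9TopColimSch
import Groth.Agent.Lib.R2H2HHLin
import Groth.Agent.Lib.Helper23QCohAbelian
import Groth.Agent.Lib.Helper23FinTypeLocal

/-!
# Zariski cohomology of modules on a qcqs scheme commutes with filtered colimits (helper3, round 2)

* `preservesColimitsOfShape_HHF`: `M ↦ H^p(X, M)` preserves filtered colimits on a qcqs scheme;
* `exists_rep_of_isColimit`: every class of the colimit comes from a stage;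
* `subsingleton_HH_of_fp`: if `H^p` vanishes on the images of all finitely presented modules mapping to a
  quasi-coherent `F`, it vanishes on `F`.
-/

set_option autoImplicit false
set_option linter.unusedSectionVars false
set_option linter.style.haveILetI false
universe u
open CategoryTheory CategoryTheory.Limits AlgebraicGeometry TopologicalSpace Opposite

namespace Groth.Agent.Lib.R2H3.AffStratB

open Groth.Agent.Lib.R2H2.HHLin

variable (X : Scheme.{u})

/-- the cohomology functor on modules -/
noncomputable def HHF (p : ℕ) : X.Modules ⥤ AddCommGrpCat.{u} :=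
  SheafOfModules.toSheaf.{u} X.ringCatSheaf ⋙
    Sheaf.functorH.{u, u, u, u} (Opens.grothendieckTopology X) p

theorem HHF_map_apply (p : ℕ) {M N : X.Modules} (φ : M ⟶ N) (x : Coh.HH X M p) :
    ((HHF X p).map φ).hom x = HmapL φ p x := rfl

theorem preservesColimitsOfShape_HHF [CompactSpace X] [QuasiSeparatedSpace X] (p : ℕ)
    (J : Type u) [SmallCategory J] [IsFiltered J] :
    PreservesColimitsOfShape J (HHF X p) := by
  have h1 : PreservesColimitsOfShape J (SheafOfModules.toSheaf.{u} X.ringCatSheaf) :=
    Groth.Agent.S0484.preservesColimitsOfShape_toSheaf _ _ J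
  have h2 : PreservesColimitsOfShape J
      ((Sheaf.cohomologyPresheafFunctor (Opens.grothendieckTopology X) p).flip.obj
        (op (⊤ : Opens X))) := by
    constructor
    intro F
    refine Groth.Agent.Lib.Helper9.TopColim.preservesColimit_of_compact
      (Groth.Agent.Lib.Helper9.TopColim.isBasis_compact X) ⊤ ?_ ⊤ ⟨le_rfl, ?_⟩ p J F
    · rw [Opens.coe_top]
      exact isQuasiSeparated_univ
    · rw [Opens.coe_top]
      exact isCompact_univ
  have h3 : PreservesColimitsOfShape J
      (Sheaf.functorH.{u, u, u, u} (Opens.grothendieckTopology X) p) :=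
    preservesColimitsOfShape_of_natIso
      (Groth.Agent.Lib.Helper9.HTerminal.functorHIso (Opens.grothendieckTopology X)
        (isTerminalTop : IsTerminal (⊤ : Opens X)) p).symm
  exact @comp_preservesColimitsOfShape _ _ _ _ _ _ _ _
    (SheafOfModules.toSheaf.{u} X.ringCatSheaf) _ h1 h3

/-- every cohomology class of a filtered colimit comes from a stage -/
theorem exists_rep_of_isColimit [CompactSpace X] [QuasiSeparatedSpace X] (p : ℕ)
    {J : Type u} [SmallCategory J] [IsFiltered J] {D : J ⥤ X.Modules} (c : Cocone D)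
    (hc : IsColimit c) (x : Coh.HH X c.pt p) :
    ∃ (j : J) (y : Coh.HH X (D.obj j) p), HmapL (c.ι.app j) p y = x := by
  haveI := preservesColimitsOfShape_HHF X p J
  have hc' : IsColimit ((HHF X p).mapCocone c) := isColimitOfPreserves _ hc
  obtain ⟨j, y, hy⟩ := Concrete.isColimit_exists_rep (D ⋙ HHF X p) hc' x
  exact ⟨j, y, hy⟩

/-- if `H^p` vanishes on all finite type quasi-coherent submodules of a quasi-coherent module `F`
on a qcqs scheme, it vanishes on `F` -/
theorem subsingleton_HH_of_ft_sub [CompactSpace X] [QuasiSeparatedSpace X] (p : ℕ)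
    (F : X.Modules) (hF : Coh.IsQCoh F)
    (h : ∀ (T : X.Modules) (i : T ⟶ F), Mono i → Coh.IsQCoh T → CohB1.IsFT T →
      Subsingleton (Coh.HH X T p)) :
    Subsingleton (Coh.HH X F p) := by
  obtain ⟨J, hJ1, hJ2, D, c, hc, hfp, hpt⟩ := Groth.Agent.S2128.result X F hF
  subst hpt
  haveI : c.pt.IsQuasicoherent := hF
  refine subsingleton_of_forall_eq 0 fun x => ?_
  obtain ⟨j, y, rfl⟩ := exists_rep_of_isColimit X p c hc x
  haveI : SheafOfModules.IsFinitePresentation (R := X.ringCatSheaf) (D.obj j) := hfp j
  haveI : (D.obj j).IsQuasicoherent := inferInstance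
  haveI : SheafOfModules.IsFiniteType (R := X.ringCatSheaf) (D.obj j) := inferInstance
  let φ : D.obj j ⟶ c.pt := c.ι.app j
  have hTq : (Abelian.image φ).IsQuasicoherent := by
    haveI : (cokernel φ).IsQuasicoherent :=
      Groth.Agent.Lib.Helper23.QCohLocal.isQuasicoherent_cokernel φ
    exact Groth.Agent.Lib.Helper23.QCohLocal.isQuasicoherent_kernel (cokernel.π φ)
  haveI := hTq
  have hTf : SheafOfModules.IsFiniteType (R := X.ringCatSheaf) (Abelian.image φ) :=
    @Groth.Agent.Lib.Helper23.FinType.isFiniteType_of_epi X (D.obj j) (Abelian.image φ) inferInstance hTq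
      (Abelian.factorThruImage φ) inferInstance inferInstance
  haveI := h (Abelian.image φ) (Abelian.image.ι φ) inferInstance hTq hTf
  have hfac : Abelian.factorThruImage φ ≫ Abelian.image.ι φ = φ := Abelian.image.fac φ
  change HmapL φ p y = 0
  rw [← hfac, HmapL_comp, Subsingleton.elim (HmapL (Abelian.factorThruImage φ) p y) 0, map_zero]

end Groth.Agent.Lib.R2H3.AffStratB
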