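import Mathlib
import Groth.Prelude.Def_MoreMor
import Groth.Agent.Lib.R2H3AffineDesc

/-!
# Affine stratifications: topology and the top stratum (helper3, round 2)

* `isAffineOpen_of_range_eq`: an open which is the range of a preimmersion from an affine scheme is affine;
* `compactSpace_of_strat`, `quasiSeparatedSpace_of_strat`;
* `isAffineHom_of_range_eq`: the inclusion of an open stratum is an affine morphism;
* `hasAffineStratification_of_closedImmersion`: the induced stratification on a closed subscheme whose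
  underlying set is a closed union of strata.
-/

set_option autoImplicit false
set_option linter.style.haveILetI false
set_option linter.unusedSectionVars false
universe u
open CategoryTheory CategoryTheory.Limits AlgebraicGeometry TopologicalSpace Opposite

namespace Groth.Agent.Lib.R2H3.AffStratC

variable {X : Scheme.{u}}

/-- an open subset which is the range of a preimmersion from an affine scheme is affine -/
theorem isAffineOpen_of_range_eq {T : Scheme.{u}} (ι : T ⟶ X) [IsPreimmersion ι] [IsAffine T]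
    (U : X.Opens) (h : Set.range ι = (U : Set X)) : IsAffineOpen U := by
  have hsub : Set.range ι ⊆ Set.range U.ι := by rw [Scheme.Opens.range_ι, h]
  let ι' : T ⟶ U := IsOpenImmersion.lift U.ι ι hsub
  have hfac : ι' ≫ U.ι = ι := IsOpenImmersion.lift_fac _ _ _
  haveI : IsPreimmersion (ι' ≫ U.ι) := by rw [hfac]; infer_instance
  haveI : IsPreimmersion ι' := IsPreimmersion.of_comp ι' U.ι
  have hsurj : Function.Surjective ι' := by
    intro y
    have hy : U.ι y ∈ Set.range ι := by
      have h0 : U.ι y ∈ Set.range U.ι := ⟨y, rfl⟩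
      rw [Scheme.Opens.range_ι] at h0
      rw [h]
      exact h0
    obtain ⟨t, ht⟩ := hy
    refine ⟨t, ?_⟩
    apply U.ι.isOpenEmbedding.injective
    rw [← Scheme.Hom.comp_apply, hfac]
    exact ht
  haveI : Surjective ι' := ⟨hsurj⟩
  haveI : IsClosedImmersion ι' :=
    IsClosedImmersion.of_isPreimmersion ι' (by rw [hsurj.range_eq]; exact isClosed_univ)
  exact Groth.Agent.Lib.R2H3.AffineDesc.isAffine_of_surjective_universallyClosed T U ι'

/-- the inclusion of an open subset which is the range of an affine preimmersion from an affine scheme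
is an affine morphism -/
theorem isAffineHom_of_range_eq {T : Scheme.{u}} (ι : T ⟶ X) [IsPreimmersion ι] [IsAffine T]
    [IsAffineHom ι] (U : X.Opens) (h : Set.range ι = (U : Set X)) : IsAffineHom U.ι := by
  constructor
  intro V hV
  have hW : IsAffineOpen (ι ⁻¹ᵁ V) := hV.preimage ι
  haveI : IsAffine (ι ⁻¹ᵁ V).toScheme := hW
  have hr : Set.range ((ι ⁻¹ᵁ V).ι ≫ ι) = ((U ⊓ V : X.Opens) : Set X) := by
    ext x
    simp only [Scheme.Hom.comp_base, TopCat.hom_comp, ContinuousMap.coe_comp, Set.mem_range,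
      Function.comp_apply, Opens.coe_inf, Set.mem_inter_iff, SetLike.mem_coe]
    constructor
    · rintro ⟨t, rfl⟩
      have h0 : (ι ⁻¹ᵁ V).ι t ∈ Set.range (ι ⁻¹ᵁ V).ι := ⟨t, rfl⟩
      rw [Scheme.Opens.range_ι] at h0
      refine ⟨?_, h0⟩
      have : ι ((ι ⁻¹ᵁ V).ι t) ∈ Set.range ι := ⟨_, rfl⟩
      rw [h] at this
      exact this
    · rintro ⟨hxU, hxV⟩
      have : x ∈ Set.range ι := by rw [h]; exact hxU
      obtain ⟨t, rfl⟩ := this
      have h0 : t ∈ Set.range (ι ⁻¹ᵁ V).ι := by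
        rw [Scheme.Opens.range_ι]
        exact hxV
      obtain ⟨t', rfl⟩ := h0
      exact ⟨t', rfl⟩
  have h1 : IsAffineOpen (U ⊓ V) := isAffineOpen_of_range_eq ((ι ⁻¹ᵁ V).ι ≫ ι) (U ⊓ V) hr
  have h2 : U.ι ''ᵁ (U.ι ⁻¹ᵁ V) = U ⊓ V := by
    rw [Scheme.Hom.image_preimage_eq_opensRange_inf, Scheme.Opens.opensRange_ι]
  rw [← U.ι.isAffineOpen_iff_of_isOpenImmersion, h2]
  exact h1

section Strat

variable {n : ℕ} (s : X → Fin (n + 1))
  (hstr : ∀ i : Fin (n + 1), ∃ (Z : Scheme.{u}) (ι : Z ⟶ X),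
    IsImmersion ι ∧ IsAffine Z ∧ IsAffineHom ι ∧ Set.range ι = {x : X | s x = i})

include hstr in
theorem compactSpace_of_strat : CompactSpace X := by
  constructor
  have h1 : (Set.univ : Set X) = ⋃ i : Fin (n + 1), {x : X | s x = i} := by
    ext x
    simp
  rw [h1]
  refine isCompact_iUnion fun i => ?_
  obtain ⟨Z, ι, -, hZ, -, hr⟩ := hstr i
  rw [← hr]
  exact isCompact_range ι.continuous

include hstr in
theorem quasiSeparatedSpace_of_strat : QuasiSeparatedSpace X := by
  rw [quasiSeparatedSpace_iff_forall_affineOpens]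
  intro U V
  have h1 : (U ∩ V : Set X) = ⋃ i : Fin (n + 1), ((U ∩ V : Set X) ∩ {x : X | s x = i}) := by
    ext x
    simp
  rw [h1]
  refine isCompact_iUnion fun i => ?_
  obtain ⟨Z, ι, -, hZ, hι, hr⟩ := hstr i
  have hU : IsAffineOpen (ι ⁻¹ᵁ U.1) := U.2.preimage ι
  have hV : IsAffineOpen (ι ⁻¹ᵁ V.1) := V.2.preimage ι
  have hc : IsCompact ((ι ⁻¹ᵁ U.1 : Z.Opens) ∩ (ι ⁻¹ᵁ V.1 : Z.Opens) : Set Z) :=
    QuasiSeparatedSpace.inter_isCompact _ _ (ι ⁻¹ᵁ U.1).2 hU.isCompact (ι ⁻¹ᵁ V.1).2 hV.isCompact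
  have h2 : ((U ∩ V : Set X) ∩ {x : X | s x = i}) =
      ι '' ((ι ⁻¹ᵁ U.1 : Z.Opens) ∩ (ι ⁻¹ᵁ V.1 : Z.Opens) : Set Z) := by
    ext x
    constructor
    · rintro ⟨⟨hxU, hxV⟩, hxi⟩
      have : x ∈ Set.range ι := by rw [hr]; exact hxi
      obtain ⟨z, rfl⟩ := this
      exact ⟨z, ⟨hxU, hxV⟩, rfl⟩
    · rintro ⟨z, ⟨hzU, hzV⟩, rfl⟩
      refine ⟨⟨hzU, hzV⟩, ?_⟩
      have : ι z ∈ Set.range ι := ⟨z, rfl⟩
      rw [hr] at this
      exact this
  rw [h2]
  exact hc.image ι.continuous

end Strat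

/-- the induced affine stratification on a closed subscheme whose underlying set is the union of the
strata of index `≤ n` -/
theorem hasAffineStratification_of_closedImmersion {n : ℕ} (s : X → Fin (n + 2))
    (hcl : ∀ i : Fin (n + 2), IsClosed {x : X | s x ≤ i})
    (hstr : ∀ i : Fin (n + 2), ∃ (Z : Scheme.{u}) (ι : Z ⟶ X),
      IsImmersion ι ∧ IsAffine Z ∧ IsAffineHom ι ∧ Set.range ι = {x : X | s x = i})
    {Z' : Scheme.{u}} (i : Z' ⟶ X) [IsClosedImmersion i]
    (hr : Set.range i = {x : X | s x ≤ Fin.castSucc (Fin.last n)}) :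
    MoreMor.HasAffineStratification Z' n := by
  have hlt : ∀ z : Z', (s (i z)).val < n + 1 := by
    intro z
    have h1 : i z ∈ Set.range i := ⟨z, rfl⟩
    rw [hr] at h1
    have h2 : (s (i z)).val ≤ n := by
      have := Fin.le_def.1 h1
      simpa using this
    omega
  let s' : Z' → Fin (n + 1) := fun z => ⟨(s (i z)).val, hlt z⟩
  have hs' : ∀ (z : Z') (k : Fin (n + 1)), s' z = k ↔ s (i z) = Fin.castSucc k := by
    intro z k
    rw [Fin.ext_iff, Fin.ext_iff]
    simp [s']
  have hs'le : ∀ (z : Z') (k : Fin (n + 1)), s' z ≤ k ↔ s (i z) ≤ Fin.castSucc k := by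
    intro z k
    rw [Fin.le_def, Fin.le_def]
    simp [s']
  refine ⟨s', fun k => ?_, fun k => ?_⟩
  · have h1 : {z : Z' | s' z ≤ k} = i ⁻¹' {x : X | s x ≤ Fin.castSucc k} := by
      ext z
      exact hs'le z k
    rw [h1]
    exact (hcl _).preimage i.continuous
  · obtain ⟨T, ι, hι1, hι2, hι3, hι4⟩ := hstr (Fin.castSucc k)
    haveI := hι1
    haveI := hι2
    haveI := hι3
    refine ⟨pullback ι i, pullback.snd ι i, inferInstance, ?_,
      MorphismProperty.pullback_snd (P := @IsAffineHom) ι i inferInstance, ?_⟩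
    · haveI : IsAffineHom (pullback.fst ι i) := inferInstance
      exact isAffine_of_isAffineHom (pullback.fst ι i)
    · rw [AlgebraicGeometry.Scheme.Pullback.range_snd, hι4]
      ext z
      exact (hs' z k).symm

end Groth.Agent.Lib.R2H3.AffStratC
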