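import Mathlib
import Groth.Agent.Lib.R2H3AffStratA
import Groth.Agent.Lib.R2H3AffStratB
import Groth.Agent.Lib.R2H3AffStratC
import Groth.Agent.Lib.R2H1CurveVanish
import Groth.Agent.Lib.Helper23Support
import Groth.Agent.S0007

/-!
# Cohomology vanishes above the affine stratification number (helper3, round 2)

`main`: if `X` has an affine stratification with index set `{0, …, n}` then `H^p(X, F) = 0` for every
quasi-coherent `F` and `p > n` (Stacks 0F2X).
-/

set_option backward.isDefEq.respectTransparency.types false
set_option autoImplicit false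
set_option linter.style.haveILetI false
set_option linter.unusedVariables false
set_option linter.unusedSectionVars false
universe u
open CategoryTheory CategoryTheory.Limits AlgebraicGeometry TopologicalSpace Opposite

namespace Groth.Agent.Lib.R2H3.AffStratD

open Groth.Agent.Lib.R2H3.AffStratA Groth.Agent.Lib.R2H3.AffStratB Groth.Agent.Lib.R2H3.AffStratC
  Groth.Agent.Lib.R2H2.HHLin Groth.Agent.Lib.R2H1.CurveVanish

/-- stalks of a subobject of a module with vanishing stalk vanish -/
theorem subsingleton_stalk_of_mono {X : Scheme.{u}} {T G : X.Modules} (i : T ⟶ G) [Mono i] (x : X)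
    (h : Subsingleton (G.presheaf.stalk x)) : Subsingleton (T.presheaf.stalk x) := by
  have hinj : Function.Injective ((TopCat.Presheaf.stalkFunctor AddCommGrpCat.{u} x).map
      (Scheme.Modules.Hom.mapPresheaf i)) :=
    TopCat.Presheaf.stalkFunctor_map_injective_of_app_injective
      (f := Scheme.Modules.Hom.mapPresheaf i)
      (fun U => Groth.Agent.Lib.Helper20.StalkExact.injective_app_of_mono i U) x
  haveI : Subsingleton ((TopCat.Presheaf.stalkFunctor AddCommGrpCat.{u} x).obj G.presheaf) := h
  exact hinj.subsingleton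

/-- transport of vanishing along an isomorphism -/
theorem subsingleton_HH_of_iso {X : Scheme.{u}} {M N : X.Modules} (e : M ≅ N) (q : ℕ)
    (h : Subsingleton (Coh.HH X N q)) : Subsingleton (Coh.HH X M q) := by
  refine subsingleton_of_forall_eq 0 fun x => ?_
  have h1 : HmapL e.inv q (HmapL e.hom q x) = x := by
    rw [← HmapL_comp, e.hom_inv_id, HmapL_id]
  rw [← h1, Subsingleton.elim (HmapL e.hom q x) 0, map_zero]

theorem main : ∀ (n : ℕ) (X : Scheme.{u}), MoreMor.HasAffineStratification X n →
    ∀ (F : X.Modules), Coh.IsQCoh F → ∀ p : ℕ, n < p → Subsingleton (Coh.HH X F p) := by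
  intro n
  induction n with
  | zero =>
    intro X hX F hF p hp
    obtain ⟨s, hcl, hstr⟩ := hX
    obtain ⟨T, ι, h1, h2, h3, h4⟩ := hstr 0
    haveI := h1
    haveI := h2
    have hU : IsAffineOpen (⊤ : X.Opens) := by
      refine isAffineOpen_of_range_eq ι ⊤ ?_
      rw [h4]
      ext x
      simp only [Set.mem_ofPred_eq, Opens.coe_top, Set.mem_univ, iff_true]
      exact Fin.ext (by have := (s x).isLt; simp at this ⊢)
    haveI : IsAffine (⊤ : X.Opens).toScheme := hU
    haveI : IsAffine X := .of_isIso X.topIso.inv
    haveI : Coh.IsQCoh F := hF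
    exact Groth.Agent.S0007.result X F p hp
  | succ n ih =>
    intro X hX F hF p hp
    obtain ⟨s, hcl, hstr⟩ := hX
    haveI : CompactSpace X := compactSpace_of_strat s hstr
    haveI : QuasiSeparatedSpace X := quasiSeparatedSpace_of_strat s hstr
    let Zc : Closeds X := ⟨{x : X | s x ≤ Fin.castSucc (Fin.last n)}, hcl _⟩
    let U : X.Opens := ⟨(Zc : Set X)ᶜ, Zc.isClosed.isOpen_compl⟩
    obtain ⟨T, ι, h1, h2, h3, h4⟩ := hstr (Fin.last (n + 1))
    haveI := h1
    haveI := h2
    haveI := h3
    have hmemU : ∀ x : X, x ∈ U ↔ ¬ s x ≤ Fin.castSucc (Fin.last n) := fun x => Iff.rfl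
    have hrU : Set.range ι = (U : Set X) := by
      rw [h4]
      ext x
      change s x = Fin.last (n + 1) ↔ ¬ s x ≤ Fin.castSucc (Fin.last n)
      rw [Fin.ext_iff, Fin.le_def]
      have h5 := (s x).isLt
      simp only [Fin.val_last, Fin.val_castSucc]
      omega
    have hUaff : IsAffineOpen U := isAffineOpen_of_range_eq ι U hrU
    haveI : IsAffineHom U.ι := isAffineHom_of_range_eq ι U hrU
    have hZcompact : IsCompact ((Zc : Set X)ᶜ) := hUaff.isCompact
    -- vanishing for modules supported on the closed union of the lower strata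
    have key : ∀ (G : X.Modules), Coh.IsQCoh G → (∀ x ∈ U, Subsingleton (G.presheaf.stalk x)) →
        ∀ q : ℕ, n < q → Subsingleton (Coh.HH X G q) := by
      intro G hG hstalk q hq
      apply subsingleton_HH_of_ft_sub X q G hG
      intro T' i hi hTq hTf
      haveI := hi
      have hst : ∀ x ∈ U, Subsingleton (T'.presheaf.stalk x) := fun x hx =>
        subsingleton_stalk_of_mono i x (hstalk x hx)
      have hvan : ∀ W : X.Opens, Disjoint (W : Set X) (Zc : Set X) → Subsingleton Γ(T', W) := by
        intro W hW
        refine ⟨fun a b => ?_⟩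
        have h0 : ∀ r : Γ(T', W), r = 0 := fun r =>
          Groth.Agent.Lib.Helper23.Support.eq_zero_of_disjoint_support T' W
            (fun x hx hx' => hx' (hst x (fun hxZ => Set.disjoint_left.1 hW hx hxZ))) r
        rw [h0 a, h0 b]
      obtain ⟨Z', j, hj, G', hrange, hG'q, ⟨e⟩⟩ :=
        exists_closed_model_ft Zc hZcompact T' ⟨hTq, hTf⟩ hvan
      haveI := hj
      have hZ' : MoreMor.HasAffineStratification Z' n :=
        hasAffineStratification_of_closedImmersion s hcl hstr j hrange
      have h5 : Subsingleton (Coh.HH Z' G' q) := ih Z' hZ' G' hG'q q hq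
      have h6 : Subsingleton (Coh.HH X ((Scheme.Modules.pushforward j).obj G') q) :=
        (Groth.Agent.Lib.R2H2.ClosedPn.subsingleton_HH_push_iff j G' hG'q q).1 h5
      exact subsingleton_HH_of_iso e q h6
    -- the unit, its kernel, image and cokernel
    obtain ⟨m, rfl⟩ : ∃ m, p = m + 1 := ⟨p - 1, by omega⟩
    haveI : F.IsQuasicoherent := hF
    haveI : (F.restrict U.ι).IsQuasicoherent :=
      Scheme.Modules.isQuasicoherent_restrictFunctor U.ι F
    haveI hpq : ((Scheme.Modules.pushforward U.ι).obj (F.restrict U.ι)).IsQuasicoherent :=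
      Groth.Agent.Lib.Helper23.QCohLocal.isQuasicoherent_pushforward U.ι _
    let η := eta U F
    have hKq : (kernel η).IsQuasicoherent :=
      Groth.Agent.Lib.Helper23.QCohLocal.isQuasicoherent_kernel η
    have hCq : (cokernel η).IsQuasicoherent :=
      Groth.Agent.Lib.Helper23.QCohLocal.isQuasicoherent_cokernel η
    haveI HK : Subsingleton (Coh.HH X (kernel η) (m + 1)) :=
      key (kernel η) hKq (fun x hx => stalk_kernel_subsingleton U F x hx) (m + 1) (by omega)
    haveI HC : Subsingleton (Coh.HH X (cokernel η) m) :=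
      key (cokernel η) hCq (fun x hx => stalk_cokernel_subsingleton U F x hx) m (by omega)
    haveI : IsAffine (U : Scheme.{u}) := hUaff
    haveI HA : Subsingleton (Coh.HH X ((Scheme.Modules.pushforward U.ι).obj (F.restrict U.ι))
        (m + 1)) := by
      rw [← Groth.Agent.Lib.R2H2.ClosedPn.subsingleton_HH_push_iff U.ι (F.restrict U.ι)
        inferInstance (m + 1)]
      exact Groth.Agent.S0007.result (U : Scheme.{u}) (F.restrict U.ι) (m + 1) (by omega)
    -- image sequence
    let S₂ : ShortComplex X.Modules :=
      ShortComplex.mk (kernel.ι (cokernel.π η)) (cokernel.π η) (kernel.condition _)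
    have hS₂ : S₂.ShortExact :=
      { exact := ShortComplex.exact_kernel (cokernel.π η)
        mono_f := inferInstanceAs (Mono (kernel.ι (cokernel.π η)))
        epi_g := inferInstanceAs (Epi (cokernel.π η)) }
    haveI HI : Subsingleton (Coh.HH X (kernel (cokernel.π η)) (m + 1)) :=
      subsingleton_left S₂ hS₂ m
    -- kernel sequence
    let q : F ⟶ kernel (cokernel.π η) := kernel.lift (cokernel.π η) η (cokernel.condition η)
    have hq : q ≫ kernel.ι (cokernel.π η) = η := kernel.lift_ι _ _ _
    haveI : Epi q := inferInstanceAs (Epi (Abelian.factorThruImage η))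
    let S₁ : ShortComplex X.Modules := ShortComplex.mk (kernel.ι η) q (by
      rw [← cancel_mono (kernel.ι (cokernel.π η)), Category.assoc, hq, kernel.condition, zero_comp])
    have hS₁ : S₁.ShortExact := by
      have hexact : S₁.Exact := by
        let φ : S₁ ⟶ ShortComplex.mk (kernel.ι η) η (kernel.condition _) :=
          { τ₁ := 𝟙 _, τ₂ := 𝟙 _, τ₃ := kernel.ι (cokernel.π η),
            comm₁₂ := by simp [S₁]
            comm₂₃ := by
              show 𝟙 _ ≫ η = q ≫ kernel.ι (cokernel.π η)
              rw [hq, Category.id_comp] }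
        haveI : Epi φ.τ₁ := (inferInstance : Epi (𝟙 (kernel η)))
        haveI : IsIso φ.τ₂ := (inferInstance : IsIso (𝟙 F))
        haveI : Mono φ.τ₃ := (inferInstance : Mono (kernel.ι (cokernel.π η)))
        rw [ShortComplex.exact_iff_of_epi_of_isIso_of_mono φ]
        exact ShortComplex.exact_kernel η
      haveI : Mono S₁.f := (inferInstance : Mono (kernel.ι η))
      haveI : Epi S₁.g := (inferInstance : Epi q)
      exact { exact := hexact }
    haveI : Subsingleton (Coh.HH X S₁.X₁ (m + 1)) := HK
    haveI : Subsingleton (Coh.HH X S₁.X₃ (m + 1)) := HI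
    exact subsingleton_mid S₁ hS₁ (m + 1)

end Groth.Agent.Lib.R2H3.AffStratD
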