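import Mathlib
import Groth.Agent.Lib.H5bCM

/-!
# Two functions cutting out a component of codimension two are algebraically independent
(helper3, round 2)

* `height_le_one_of_not_algebraicIndependent`: in a Noetherian domain over a field `k`, a minimal
  prime over `(a₀, a₁)` has height `≤ 1` when `a₀, a₁` are algebraically dependent over `k`.
* `height_add_dim_quotient`: for a domain of finite type over a field, `ht p + dim A/p = dim A`.
* `algebraicIndependent_of_dim`: `A` domain of finite type over `k`, `p` minimal over `(a₀, a₁)`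
  with `dim A/p + 2 = dim A`: then `a₀, a₁` are algebraically independent over `k`.
-/

universe u

open CategoryTheory

namespace Groth.Agent.Lib.R2H3.AlgIndepDim

section HeightLeOne

variable {k A : Type u} [Field k] [CommRing A] [IsDomain A] [Algebra k A] [IsNoetherianRing A]

theorem height_le_one_of_not_algebraicIndependent (a₀ a₁ : A) (p : Ideal A)
    (hp : p ∈ (Ideal.span {a₀, a₁}).minimalPrimes)
    (hdep : ¬ AlgebraicIndependent k ![a₀, a₁]) : p.height ≤ 1 := by
  have hpp : p.IsPrime := hp.1.1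
  let ev : MvPolynomial (Fin 2) k →ₐ[k] A := MvPolynomial.aeval ![a₀, a₁]
  have hker : RingHom.ker ev.toRingHom ≠ ⊥ := by
    intro h
    apply hdep
    rw [algebraicIndependent_iff_injective_aeval]
    exact (RingHom.injective_iff_ker_eq_bot ev.toRingHom).2 h
  have hbprime : (RingHom.ker ev.toRingHom).IsPrime := RingHom.ker_isPrime _
  let ev' : (MvPolynomial (Fin 2) k ⧸ RingHom.ker ev.toRingHom) →+* A :=
    RingHom.kerLift ev.toRingHom
  let algBA : Algebra (MvPolynomial (Fin 2) k ⧸ RingHom.ker ev.toRingHom) A := ev'.toAlgebra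
  let M : Ideal (MvPolynomial (Fin 2) k ⧸ RingHom.ker ev.toRingHom) := p.comap ev'
  have hMprime : M.IsPrime := Ideal.comap_isPrime _ _
  have hlies : p.LiesOver M := ⟨rfl⟩
  have h1 := Ideal.height_le_height_add_of_liesOver M p
  -- the dimension of the image ring is at most one
  have hdimB : ringKrullDim (MvPolynomial (Fin 2) k ⧸ RingHom.ker ev.toRingHom) ≤ 1 := by
    have h2 := Groth.Agent.Lib.H5b.height_add_dim_quotient_finite k (Fin 2)
      (RingHom.ker ev.toRingHom)
    have h3 : (1 : ℕ∞) ≤ (RingHom.ker ev.toRingHom).height := by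
      have hlt : (⊥ : Ideal (MvPolynomial (Fin 2) k)) < RingHom.ker ev.toRingHom :=
        bot_lt_iff_ne_bot.mpr hker
      have := Ideal.height_add_one_le_of_lt_of_isPrime hlt
      exact le_trans (by simp) this
    rw [Nat.card_fin] at h2
    obtain ⟨d, hd⟩ : ∃ d : ℕ∞, ringKrullDim (MvPolynomial (Fin 2) k ⧸ RingHom.ker ev.toRingHom) = d := by
      have hnt : Nontrivial (MvPolynomial (Fin 2) k ⧸ RingHom.ker ev.toRingHom) :=
        Ideal.Quotient.nontrivial_iff.mpr hbprime.ne_top
      have h0 : (0 : WithBot ℕ∞) ≤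
          ringKrullDim (MvPolynomial (Fin 2) k ⧸ RingHom.ker ev.toRingHom) :=
        ringKrullDim_nonneg_of_nontrivial
      have hne : ringKrullDim (MvPolynomial (Fin 2) k ⧸ RingHom.ker ev.toRingHom) ≠ ⊥ := by
        intro h
        rw [h] at h0
        exact absurd h0 (by simp)
      exact ⟨_, (WithBot.coe_unbot _ hne).symm⟩
    rw [hd] at h2 ⊢
    have h4 : (RingHom.ker ev.toRingHom).height + d = 2 := by
      have : (((RingHom.ker ev.toRingHom).height + d : ℕ∞) : WithBot ℕ∞) = ((2 : ℕ∞) : WithBot ℕ∞) := by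
        rw [WithBot.coe_add]
        exact h2
      exact WithBot.coe_injective this
    have h5 : d ≤ 1 := by
      by_contra hcon
      have h6 : (2 : ℕ∞) ≤ d := by
        have : (1 : ℕ∞) < d := lt_of_not_ge hcon
        exact Order.add_one_le_of_lt this
      have h7 : (1 : ℕ∞) + 2 ≤ (RingHom.ker ev.toRingHom).height + d := add_le_add h3 h6
      rw [h4] at h7
      exact absurd h7 (by decide)
    exact_mod_cast h5
  have hM : M.height ≤ 1 := by
    have h2 := Ideal.height_le_ringKrullDim_of_ne_top (I := M) hMprime.ne_top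
    have h3 := h2.trans hdimB
    exact_mod_cast h3
  -- the image of `p` modulo `M A` is a minimal prime
  have hmin : p ∈ (M.map (algebraMap _ A)).minimalPrimes := by
    have hgen : ∀ (j : Fin 2) (a : A), ev (MvPolynomial.X j) = a → a ∈ p →
        a ∈ M.map (algebraMap _ A) := by
      intro j a hja hap
      have hm : (Ideal.Quotient.mk _ (MvPolynomial.X j) :
          MvPolynomial (Fin 2) k ⧸ RingHom.ker ev.toRingHom) ∈ M := by
        change ev' (Ideal.Quotient.mk _ (MvPolynomial.X j)) ∈ p
        have : ev' (Ideal.Quotient.mk _ (MvPolynomial.X j)) = a := hja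
        rw [this]
        exact hap
      have := Ideal.mem_map_of_mem (algebraMap _ A) hm
      have h2 : algebraMap (MvPolynomial (Fin 2) k ⧸ RingHom.ker ev.toRingHom) A
          (Ideal.Quotient.mk _ (MvPolynomial.X j)) = a := hja
      rw [h2] at this
      exact this
    have hle1 : Ideal.span {a₀, a₁} ≤ M.map (algebraMap _ A) := by
      rw [Ideal.span_le, Set.insert_subset_iff, Set.singleton_subset_iff]
      refine ⟨hgen 0 a₀ (by simp [ev]) (hp.1.2 (Ideal.subset_span (by simp))),
        hgen 1 a₁ (by simp [ev]) (hp.1.2 (Ideal.subset_span (by simp)))⟩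
    have hle2 : M.map (algebraMap _ A) ≤ p := Ideal.map_comap_le
    refine ⟨⟨hpp, hle2⟩, fun q hq hqp => ?_⟩
    exact hp.2 ⟨hq.1, hle1.trans hq.2⟩ hqp
  have h0 : (p.map (Ideal.Quotient.mk (M.map (algebraMap _ A)))).height = 0 := by
    rw [Ideal.minimalPrimes_eq_comap] at hmin
    obtain ⟨q', hq', hq'p⟩ := hmin
    have hq'prime : q'.IsPrime := hq'.1.1
    have : p.map (Ideal.Quotient.mk (M.map (algebraMap _ A))) = q' := by
      rw [← hq'p]
      exact Ideal.map_comap_of_surjective _ Ideal.Quotient.mk_surjective _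
    rw [this]
    exact Ideal.height_eq_zero_iff.mpr hq'
  rw [h0, add_zero] at h1
  exact h1.trans hM

end HeightLeOne

section Arith

lemma arith (hp hI : ℕ∞) (dQ dI : WithBot ℕ∞) (N : ℕ)
    (e1 : ((hp + hI : ℕ∞) : WithBot ℕ∞) + dQ = ((N : ℕ∞) : WithBot ℕ∞))
    (e2 : ((hI : ℕ∞) : WithBot ℕ∞) + dI = ((N : ℕ∞) : WithBot ℕ∞)) :
    ((hp : ℕ∞) : WithBot ℕ∞) + dQ = dI := by
  induction dQ using WithBot.recBotCoe with
  | bot => simp at e1
  | coe q =>
    induction dI using WithBot.recBotCoe with
    | bot => simp at e2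
    | coe i =>
      rw [← WithBot.coe_add] at e1 e2 ⊢
      have e1' : hp + hI + q = N := WithBot.coe_injective e1
      have e2' : hI + i = N := WithBot.coe_injective e2
      have hN : ((N : ℕ) : ℕ∞) ≠ ⊤ := ENat.natCast_ne_top N
      have hpf : hp ≠ ⊤ := fun h => by rw [h] at e1'; simp at e1'
      have hIf : hI ≠ ⊤ := fun h => by rw [h] at e2'; simp at e2'
      have hqf : q ≠ ⊤ := fun h => by rw [h] at e1'; simp at e1'
      have hif : i ≠ ⊤ := fun h => by rw [h] at e2'; simp at e2'
      lift hp to ℕ using hpf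
      lift hI to ℕ using hIf
      lift q to ℕ using hqf
      lift i to ℕ using hif
      have e1'' : hp + hI + q = N := by exact_mod_cast e1'
      have e2'' : hI + i = N := by exact_mod_cast e2'
      have : hp + q = i := by omega
      exact_mod_cast congrArg (fun n : ℕ => ((n : ℕ∞) : WithBot ℕ∞)) this

end Arith

section Quot

open Groth.Agent.Lib.Helper28 Groth.Agent.Lib.H5b

variable (k : Type u) [Field k] (N : ℕ) (I : Ideal (MvPolynomial (Fin N) k)) [hI : I.IsPrime]

theorem height_add_dim_quotient_of_quotient (p' : Ideal (MvPolynomial (Fin N) k ⧸ I))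
    [hp' : p'.IsPrime] :
    ((p'.height : ℕ∞) : WithBot ℕ∞) + ringKrullDim ((MvPolynomial (Fin N) k ⧸ I) ⧸ p') =
      ringKrullDim (MvPolynomial (Fin N) k ⧸ I) := by
  have := isCohenMacaulayRing_mvPolynomial_finite k (Fin N)
  have hQprime : (p'.comap (Ideal.Quotient.mk I)).IsPrime := Ideal.comap_isPrime _ _
  have hIQ : I ≤ p'.comap (Ideal.Quotient.mk I) := by
    intro x hx
    rw [Ideal.mem_comap, Ideal.Quotient.eq_zero_iff_mem.mpr hx]
    exact p'.zero_mem
  have h1 := height_comap_eq_height_add_height_map I p'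
  have h2 : (I.map (algebraMap (MvPolynomial (Fin N) k)
      (Localization.AtPrime (p'.comap (Ideal.Quotient.mk I))))).height = I.height :=
    IsLocalization.height_map_of_disjoint (p'.comap (Ideal.Quotient.mk I)).primeCompl I (by
      rw [Set.disjoint_left]
      intro x hx hxI
      exact hx (hIQ hxI))
  rw [h2] at h1
  have h3 := height_add_dim_quotient_finite k (Fin N) (p'.comap (Ideal.Quotient.mk I))
  have h4 := height_add_dim_quotient_finite k (Fin N) I
  rw [Nat.card_fin] at h3 h4
  have h5 : ringKrullDim ((MvPolynomial (Fin N) k ⧸ I) ⧸ p') =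
      ringKrullDim (MvPolynomial (Fin N) k ⧸ p'.comap (Ideal.Quotient.mk I)) := by
    have hmap : (p'.comap (Ideal.Quotient.mk I)).map (Ideal.Quotient.mk I) = p' :=
      Ideal.map_comap_of_surjective _ Ideal.Quotient.mk_surjective _
    exact ringKrullDim_eq_of_ringEquiv
      ((Ideal.quotEquivOfEq hmap.symm).trans (DoubleQuot.quotQuotEquivQuotOfLE hIQ))
  rw [h5]
  rw [h1] at h3
  exact arith _ _ _ _ N h3 h4

end Quot

section General

variable {k A : Type u} [Field k] [CommRing A] [IsDomain A] [Algebra k A] [Algebra.FiniteType k A]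

omit [IsDomain A] [Algebra k A] [Algebra.FiniteType k A] in
/-- the dimension formula for domains of finite type over a field. -/
theorem height_add_dim_quotient (k : Type u) {A : Type u} [Field k] [CommRing A] [IsDomain A]
    [Algebra k A] [Algebra.FiniteType k A] (p : Ideal A) [hp : p.IsPrime] :
    ((p.height : ℕ∞) : WithBot ℕ∞) + ringKrullDim (A ⧸ p) = ringKrullDim A := by
  obtain ⟨N, f, hf⟩ := Algebra.FiniteType.iff_quotient_mvPolynomial''.1
    (inferInstance : Algebra.FiniteType k A)
  have hI : (RingHom.ker f.toRingHom).IsPrime := RingHom.ker_isPrime _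
  let e : (MvPolynomial (Fin N) k ⧸ RingHom.ker f.toRingHom) ≃+* A :=
    RingHom.quotientKerEquivOfSurjective (f := f.toRingHom) hf
  have hp' : (p.comap (e : (MvPolynomial (Fin N) k ⧸ RingHom.ker f.toRingHom) →+* A)).IsPrime := Ideal.comap_isPrime _ _
  have h1 := height_add_dim_quotient_of_quotient k N (RingHom.ker f.toRingHom)
    (p.comap (e : (MvPolynomial (Fin N) k ⧸ RingHom.ker f.toRingHom) →+* A))
  have h2 : (p.comap (e : (MvPolynomial (Fin N) k ⧸ RingHom.ker f.toRingHom) →+* A)).height = p.height := RingEquiv.height_comap e p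
  have h3 : ringKrullDim ((MvPolynomial (Fin N) k ⧸ RingHom.ker f.toRingHom) ⧸
      p.comap (e : (MvPolynomial (Fin N) k ⧸ RingHom.ker f.toRingHom) →+* A)) = ringKrullDim (A ⧸ p) :=
    ringKrullDim_eq_of_ringEquiv (Ideal.quotientEquiv _ _ e
      (Ideal.map_comap_of_surjective _ e.surjective p).symm)
  rw [h2, h3, ringKrullDim_eq_of_ringEquiv e] at h1
  exact h1

theorem exists_dim_le (B : Type u) [CommRing B] [Algebra k B] [Algebra.FiniteType k B] :
    ∃ n : ℕ, ringKrullDim B ≤ n := by
  obtain ⟨N, f, hf⟩ := Algebra.FiniteType.iff_quotient_mvPolynomial''.1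
    (inferInstance : Algebra.FiniteType k B)
  refine ⟨N, ?_⟩
  have h1 := ringKrullDim_le_of_surjective f.toRingHom hf
  have h2 : ringKrullDim (MvPolynomial (Fin N) k) = N := by
    rw [MvPolynomial.ringKrullDim_of_isNoetherianRing, ringKrullDim_eq_zero_of_field, zero_add,
      Nat.card_fin]
  rw [h2] at h1
  exact h1

/-- two functions cutting out a component of codimension two are algebraically independent. -/
theorem algebraicIndependent_of_dim (a₀ a₁ : A) (p : Ideal A)
    (hp : p ∈ (Ideal.span {a₀, a₁}).minimalPrimes)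
    (hdim : ringKrullDim (A ⧸ p) + 2 = ringKrullDim A) : AlgebraicIndependent k ![a₀, a₁] := by
  by_contra hdep
  have hpp : p.IsPrime := hp.1.1
  have hN : IsNoetherianRing A := Algebra.FiniteType.isNoetherianRing k A
  have h1 := height_le_one_of_not_algebraicIndependent (k := k) a₀ a₁ p hp hdep
  have h2 := height_add_dim_quotient k p
  obtain ⟨n, hn⟩ := exists_dim_le (k := k) (A ⧸ p)
  have hnt : Nontrivial (A ⧸ p) := Ideal.Quotient.nontrivial_iff.mpr hpp.ne_top
  have h0 : (0 : WithBot ℕ∞) ≤ ringKrullDim (A ⧸ p) := ringKrullDim_nonneg_of_nontrivial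
  rw [← hdim] at h2
  generalize ringKrullDim (A ⧸ p) = d at h2 hn h0
  induction d using WithBot.recBotCoe with
  | bot => simp at h0
  | coe d =>
    have hdf : d ≠ ⊤ := by
      intro h
      rw [h] at hn
      have : ((⊤ : ℕ∞) : WithBot ℕ∞) ≤ ((n : ℕ∞) : WithBot ℕ∞) := hn
      rw [WithBot.coe_le_coe] at this
      exact absurd this (by simp)
    lift d to ℕ using hdf
    have hpf : p.height ≠ ⊤ := ne_top_of_le_ne_top (by simp) h1
    generalize p.height = h at h1 h2 hpf
    lift h to ℕ using hpf
    have h1' : h ≤ 1 := by exact_mod_cast h1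
    have h2e : ((((h : ℕ∞) + (d : ℕ∞) : ℕ∞)) : WithBot ℕ∞) =
        ((((d : ℕ∞) + 2 : ℕ∞)) : WithBot ℕ∞) := by
      rw [WithBot.coe_add, WithBot.coe_add]
      exact h2
    have h2n : (h : ℕ∞) + (d : ℕ∞) = (d : ℕ∞) + 2 := WithBot.coe_injective h2e
    have h2' : h + d = d + 2 := by exact_mod_cast h2n
    omega

end General

end Groth.Agent.Lib.R2H3.AlgIndepDim
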