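import Mathlib

/-!
# Algebraic independence of a generic linear combination (helper3, round 2)

* `eval_linear_ne_zero`: if `a ∈ D` is transcendental over a set of coefficients `B₀`, then
  `a X + b` is transcendental over the polynomials with coefficients in `B₀`.
* `algebraicIndependent_linear`: for a field extension `K/k` and `g₀, g₁ ∈ K` algebraically
  independent over `k`, the elements `x_0, …, x_{m+1}, Σ g_i x_i, g₁` of `K[x_0, …, x_{m+1}]` are
  algebraically independent over `k`.
-/

universe u

open Polynomial

namespace Groth.Agent.Lib.R2H3.AlgIndepLin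

section PolyLemma

variable {D : Type*} [CommRing D]

theorem eval_linear_ne_zero (B₀ : Set D) (h0 : (0 : D) ∈ B₀) (a b : D)
    (ha : ∀ S : D[X], S ≠ 0 → (∀ n, S.coeff n ∈ B₀) → S.eval a ≠ 0)
    (q : D[X][X]) (hq : q ≠ 0) (hqc : ∀ j n, (q.coeff j).coeff n ∈ B₀) :
    q.eval (C a * X + C b) ≠ 0 := by
  classical
  set L : D[X] := C a * X + C b with hL
  have hLdeg : L.natDegree ≤ 1 := by
    rw [hL]
    exact natDegree_linear_le
  have hLcoeff : L.coeff 1 = a := by
    rw [hL]
    simp
  let w : ℕ → ℕ := fun j => (q.coeff j).natDegree + j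
  have hne : q.support.Nonempty := by
    rw [Finset.nonempty_iff_ne_empty, Ne, support_eq_empty]
    exact hq
  obtain ⟨j₀, hj₀, hj₀max⟩ := Finset.exists_mem_eq_sup q.support hne w
  set Dm := q.support.sup w with hDm
  let F := q.support.filter (fun j => w j = Dm)
  let S : D[X] := ∑ j ∈ F, C (q.coeff j).leadingCoeff * X ^ j
  have hScoeff : ∀ n, S.coeff n = if n ∈ F then (q.coeff n).leadingCoeff else 0 := by
    intro n
    simp only [S, finsetSum_coeff, coeff_C_mul, coeff_X_pow]
    simp only [mul_ite, mul_one, mul_zero]
    rw [Finset.sum_ite_eq F n (fun j => (q.coeff j).leadingCoeff)]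
  have hSne : S ≠ 0 := by
    intro h
    have h1 := hScoeff j₀
    rw [h, coeff_zero] at h1
    have hj₀F : j₀ ∈ F := by
      simp only [F, Finset.mem_filter]
      exact ⟨hj₀, hj₀max.symm⟩
    rw [if_pos hj₀F] at h1
    have h2 : q.coeff j₀ ≠ 0 := mem_support_iff.mp hj₀
    exact h2 (leadingCoeff_eq_zero.mp h1.symm)
  have hSB : ∀ n, S.coeff n ∈ B₀ := by
    intro n
    rw [hScoeff]
    split_ifs
    · exact hqc n _
    · exact h0
  have hSa := ha S hSne hSB
  -- the coefficient of `X ^ Dm`
  have hcoeff : (q.eval L).coeff Dm = S.eval a := by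
    rw [eval_eq_sum, sum_def, finsetSum_coeff]
    have hterm : ∀ j ∈ q.support, (q.coeff j * L ^ j).coeff Dm =
        if w j = Dm then (q.coeff j).leadingCoeff * a ^ j else 0 := by
      intro j hj
      have hwle : w j ≤ Dm := Finset.le_sup (f := w) hj
      have hLj : (L ^ j).natDegree ≤ j := by
        have := natDegree_pow_le_of_le j hLdeg
        simpa using this
      split_ifs with hw
      · rw [← hw]
        change (q.coeff j * L ^ j).coeff ((q.coeff j).natDegree + j) = _
        rw [coeff_mul_add_eq_of_natDegree_le le_rfl hLj]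
        have h1 : (L ^ j).coeff j = a ^ j := by
          have := coeff_pow_of_natDegree_le (m := j) hLdeg
          rw [mul_one, hLcoeff] at this
          exact this
        rw [h1]
        rfl
      · apply coeff_eq_zero_of_natDegree_lt
        have h1 : (q.coeff j * L ^ j).natDegree ≤ w j := natDegree_mul_le_of_le le_rfl hLj
        exact lt_of_le_of_lt h1 (lt_of_le_of_ne hwle hw)
    rw [Finset.sum_congr rfl hterm, ← Finset.sum_filter]
    simp only [S, eval_finsetSum, eval_mul, eval_C, eval_pow, eval_X]
    rfl
  intro h
  rw [h, coeff_zero] at hcoeff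
  exact hSa hcoeff.symm

end PolyLemma

section Linear

open MvPolynomial in
/-- the family `x_0, …, x_{m+1}, Σ g_i x_i, g₁`. -/
noncomputable def fam {K : Type u} [Field K] (m : ℕ) (g : Fin (m + 2) → K) :
    Fin (m + 2) ⊕ Fin 2 → MvPolynomial (Fin (m + 2)) K :=
  Sum.elim (fun i => MvPolynomial.X i) ![∑ i, MvPolynomial.C (g i) * MvPolynomial.X i,
    MvPolynomial.C (g 1)]

variable {k K : Type u} [Field k] [Field K] [Algebra k K]

theorem algebraicIndependent_linear (m : ℕ) (g : Fin (m + 2) → K)
    (hg : AlgebraicIndependent k ![g 0, g 1]) :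
    AlgebraicIndependent k (fam m g) := by
  classical
  -- the auxiliary families containing `g 0` and `g 1`
  have hF₁ : AlgebraicIndependent k
      (Sum.elim (fun i : Fin (m + 2) => (MvPolynomial.X i : MvPolynomial (Fin (m + 2)) K))
        (algebraMap K (MvPolynomial (Fin (m + 2)) K) ∘ ![g 0, g 1])) :=
    AlgebraicIndependent.sumElim_comp hg (MvPolynomial.algebraicIndependent_X (Fin (m + 2)) K)
  have hF₁' : AlgebraicIndependent k
      (Sum.elim (fun i : Fin (m + 1) => (MvPolynomial.X i : MvPolynomial (Fin (m + 1)) K))
        (algebraMap K (MvPolynomial (Fin (m + 1)) K) ∘ ![g 0, g 1])) :=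
    AlgebraicIndependent.sumElim_comp hg (MvPolynomial.algebraicIndependent_X (Fin (m + 1)) K)
  rw [AlgebraicIndependent.iff_transcendental_adjoin_image (Sum.inr 0)]
  constructor
  · -- the subfamily without the linear combination
    let ι' : {j : Fin (m + 2) ⊕ Fin 2 // j ≠ Sum.inr 0} → Fin (m + 2) ⊕ Fin 2 := fun j => j.1
    have hι' : Function.Injective ι' := Subtype.val_injective
    have h1 := hF₁.comp ι' hι'
    convert h1 using 1
    funext j
    obtain ⟨j, hj⟩ := j
    rcases j with i | i
    · rfl
    · fin_cases i
      · exact absurd rfl hj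
      · simp [fam, ι']
  · -- the linear combination is transcendental
    set B := Algebra.adjoin k (fam m g '' {Sum.inr 0}ᶜ) with hB
    let D' := MvPolynomial (Fin (m + 1)) K
    let F₁' : Fin (m + 1) ⊕ Fin 2 → D' :=
      Sum.elim (fun i : Fin (m + 1) => (MvPolynomial.X i : MvPolynomial (Fin (m + 1)) K))
        (algebraMap K (MvPolynomial (Fin (m + 1)) K) ∘ ![g 0, g 1])
    let B₀ : Subalgebra k D' := Algebra.adjoin k (F₁' '' {Sum.inr 0}ᶜ)
    let Φ := MvPolynomial.finSuccEquiv K (m + 1)
    let a : D' := MvPolynomial.C (g 0)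
    let b : D' := ∑ i : Fin (m + 1), MvPolynomial.C (g i.succ) * MvPolynomial.X i
    have htr : Transcendental B₀ a := by
      have := hF₁'.transcendental_adjoin (s := {Sum.inr 0}ᶜ) (i := Sum.inr 0) (by simp)
      exact this
    -- `a` is transcendental over `B₀`, in the form needed
    have ha : ∀ S : D'[X], S ≠ 0 → (∀ n, S.coeff n ∈ (B₀ : Set D')) → S.eval a ≠ 0 := by
      intro S hS hSc hev
      apply htr
      have hlift : S ∈ Polynomial.lifts (algebraMap B₀ D') := by
        rw [Polynomial.lifts_iff_coeff_lifts]
        intro n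
        exact ⟨⟨S.coeff n, hSc n⟩, rfl⟩
      obtain ⟨S', hS'⟩ := (Polynomial.mem_lifts _).1 hlift
      refine ⟨S', ?_, ?_⟩
      · intro h
        apply hS
        rw [← hS', h, Polynomial.map_zero]
      · rw [Polynomial.aeval_def, Polynomial.eval₂_eq_eval_map, hS', hev]
    -- membership of generators in `B₀`
    have hX' : ∀ i : Fin (m + 1), (MvPolynomial.X i : D') ∈ B₀ := fun i =>
      Algebra.subset_adjoin ⟨Sum.inl i, by simp, rfl⟩
    have hg1 : (MvPolynomial.C (g 1) : D') ∈ B₀ :=
      Algebra.subset_adjoin ⟨Sum.inr 1, by simp, by simp [F₁', MvPolynomial.algebraMap_eq]⟩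
    -- coefficients of elements of `B` lie in `B₀`
    have hBcoeff : ∀ y ∈ B, ∀ n, (Φ y).coeff n ∈ B₀ := by
      intro y hy
      induction hy using Algebra.adjoin_induction with
      | mem y hy =>
        obtain ⟨j, hj, rfl⟩ := hy
        intro n
        rcases j with i | i
        · refine Fin.cases ?_ (fun i' => ?_) i
          · change (Φ (MvPolynomial.X 0)).coeff n ∈ B₀
            rw [MvPolynomial.finSuccEquiv_X_zero, Polynomial.coeff_X]
            split_ifs
            · exact one_mem _
            · exact zero_mem _
          · change (Φ (MvPolynomial.X i'.succ)).coeff n ∈ B₀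
            rw [MvPolynomial.finSuccEquiv_X_succ, Polynomial.coeff_C]
            split_ifs
            · exact hX' i'
            · exact zero_mem _
        · fin_cases i
          · exact absurd rfl hj
          · change (Φ (MvPolynomial.C (g 1))).coeff n ∈ B₀
            have : Φ (MvPolynomial.C (g 1)) = Polynomial.C (MvPolynomial.C (g 1)) := by
              simp [Φ, MvPolynomial.finSuccEquiv_apply]
            rw [this, Polynomial.coeff_C]
            split_ifs
            · exact hg1
            · exact zero_mem _
      | algebraMap r =>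
        intro n
        have : Φ (algebraMap k (MvPolynomial (Fin (m + 2)) K) r) =
            Polynomial.C (algebraMap k D' r) := by
          rw [IsScalarTower.algebraMap_apply k K (MvPolynomial (Fin (m + 2)) K),
            MvPolynomial.algebraMap_eq, IsScalarTower.algebraMap_apply k K D',
            MvPolynomial.algebraMap_eq]
          simp [Φ, MvPolynomial.finSuccEquiv_apply]
        rw [this, Polynomial.coeff_C]
        split_ifs
        · exact Subalgebra.algebraMap_mem _ _
        · exact zero_mem _
      | add x y _ _ hx hy =>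
        intro n
        rw [map_add, Polynomial.coeff_add]
        exact add_mem (hx n) (hy n)
      | mul x y _ _ hx hy =>
        intro n
        rw [map_mul, Polynomial.coeff_mul]
        exact sum_mem fun c _ => mul_mem (hx c.1) (hy c.2)
    -- the image of the linear combination
    have hΦU : Φ (fam m g (Sum.inr 0)) = Polynomial.C a * Polynomial.X + Polynomial.C b := by
      change Φ (∑ i, MvPolynomial.C (g i) * MvPolynomial.X i) = _
      rw [Fin.sum_univ_succ, map_add, map_mul, map_sum, MvPolynomial.finSuccEquiv_X_zero]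
      have hC : ∀ c : K, Φ (MvPolynomial.C c) = Polynomial.C (MvPolynomial.C c) := fun c => by
        simp [Φ, MvPolynomial.finSuccEquiv_apply]
      rw [hC]
      congr 1
      change _ = Polynomial.C (∑ i : Fin (m + 1), MvPolynomial.C (g i.succ) * MvPolynomial.X i)
      rw [map_sum]
      refine Finset.sum_congr rfl fun i _ => ?_
      rw [map_mul, hC, MvPolynomial.finSuccEquiv_X_succ, map_mul]
    -- conclusion
    rintro ⟨P, hP, hPU⟩
    let φ : B →+* D'[X] := (Φ : MvPolynomial (Fin (m + 2)) K →+* D'[X]).comp (algebraMap B _)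
    have hφinj : Function.Injective φ := by
      intro x y hxy
      apply Subtype.ext
      exact Φ.injective hxy
    have hq : P.map φ ≠ 0 := by
      intro h
      apply hP
      exact Polynomial.map_injective φ hφinj (by rw [h, Polynomial.map_zero])
    have hqc : ∀ j n, ((P.map φ).coeff j).coeff n ∈ (B₀ : Set D') := by
      intro j n
      rw [Polynomial.coeff_map]
      exact hBcoeff _ (P.coeff j).2 n
    have hmain := eval_linear_ne_zero (B₀ : Set D') (zero_mem _) a b ha (P.map φ) hq hqc
    apply hmain
    rw [← hΦU, Polynomial.eval_map]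
    have h1 : Φ (Polynomial.aeval (fam m g (Sum.inr 0)) P) = 0 := by rw [hPU, map_zero]
    rw [Polynomial.aeval_def] at h1
    have h2 := Polynomial.hom_eval₂ P (algebraMap B (MvPolynomial (Fin (m + 2)) K))
      (Φ : MvPolynomial (Fin (m + 2)) K →+* D'[X]) (fam m g (Sum.inr 0))
    rw [← h1]
    exact h2.symm

end Linear

end Groth.Agent.Lib.R2H3.AlgIndepLin
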