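import Mathlib
import Groth.Prelude.Def_Red
import Groth.Prelude.Def_Red2
import Groth.Prelude.Def_TwC
import Groth.Prelude.Def_SGA3x

/-!
# fpqc-local arguments over affine opens of the base (helper3, round 2)

* `exists_fpqc_over_affine`: an fpqc covering `S' ⟶ S` (in the shape used by `TwC.Locally` and
  `SGA3x.IsMultTypeFT`) gives over every affine open `V` of `S` a surjective flat quasi-compact
  morphism `W ⟶ V` from a quasi-compact open of `S'`;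
* `isOpen_of_fpqc_local`: a subset of `S` is open if its preimages under such morphisms are;
* `of_fpqc_local`: a "sieve" on `S` that is Zariski- and fpqc-local contains an open `U` as
  soon as it does so locally on such coverings;
* `bcTriv`: base change of a trivialisation `G_W ≅ D_W(M)`;
* `exists_common_cover`: simultaneous trivialisation of two groups of multiplicative type.
-/

set_option autoImplicit false
set_option linter.style.haveILetI false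
set_option linter.unusedVariables false
set_option linter.unusedSectionVars false

universe u

open CategoryTheory MonoidalCategory CartesianMonoidalCategory MonObj GrpObj AlgebraicGeometry
  CategoryTheory.Limits MorphismProperty

namespace Groth.Agent.Lib.R2H3.FpqcLocal

/-- surjective, flat and quasi-compact. -/
abbrev Qfpqc : MorphismProperty Scheme.{u} := @Surjective ⊓ @Flat ⊓ @QuasiCompact

theorem exists_fpqc_over_affine {S S' : Scheme.{u}} (f : S' ⟶ S) [Flat f]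
    (hqc : ∀ V : S.Opens, IsAffineOpen V →
      ∃ W : S'.Opens, IsCompact (W : Set S') ∧ f.base '' (W : Set S') = (V : Set S))
    (V : S.Opens) (hV : IsAffineOpen V) :
    ∃ (W : S'.Opens) (q : (W : Scheme.{u}) ⟶ (V : Scheme.{u})),
      q ≫ V.ι = W.ι ≫ f ∧ Qfpqc q := by
  obtain ⟨W, hWc, hWV⟩ := hqc V hV
  have hrange : Set.range (W.ι ≫ f) ⊆ Set.range V.ι := by
    rintro _ ⟨w, rfl⟩
    rw [Scheme.Opens.range_ι, ← hWV]
    exact ⟨w.1, w.2, rfl⟩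
  let q : (W : Scheme.{u}) ⟶ (V : Scheme.{u}) := IsOpenImmersion.lift V.ι (W.ι ≫ f) hrange
  have hq : q ≫ V.ι = W.ι ≫ f := IsOpenImmersion.lift_fac _ _ _
  refine ⟨W, q, hq, ⟨⟨?_, ?_⟩, ?_⟩⟩
  · refine ⟨fun v => ?_⟩
    have hv : (V.ι v : S) ∈ f.base '' (W : Set S') := by rw [hWV]; exact v.2
    obtain ⟨w, hw, hwv⟩ := hv
    refine ⟨⟨w, hw⟩, ?_⟩
    apply V.ι.injective
    rw [← Scheme.Hom.comp_apply, hq]
    exact hwv
  · have : Flat (q ≫ V.ι) := by rw [hq]; infer_instance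
    exact MorphismProperty.of_postcomp (W := @Flat) (W' := @IsOpenImmersion) q V.ι
      inferInstance this
  · haveI : CompactSpace (W : Scheme.{u}) := isCompact_iff_compactSpace.mp hWc
    haveI : IsAffine (V : Scheme.{u}) := hV
    change QuasiCompact q
    infer_instance

/-- a subset of `S` is open if its preimages under fpqc morphisms onto the affine opens are. -/
theorem isOpen_of_fpqc_local {S : Scheme.{u}} (R : Set S)
    (H : ∀ V : S.Opens, IsAffineOpen V → ∃ (T : Scheme.{u}) (c : T ⟶ (V : Scheme.{u})),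
      Qfpqc c ∧ IsOpen {x : T | (c ≫ V.ι) x ∈ R}) : IsOpen R := by
  rw [isOpen_iff_forall_mem_open]
  intro s hs
  obtain ⟨_, ⟨V : S.Opens, hV, rfl⟩, hsV, -⟩ := S.isBasis_affineOpens.exists_subset_of_mem_open
    (Set.mem_univ s) isOpen_univ
  obtain ⟨T, c, ⟨⟨hc1, hc2⟩, hc3⟩, hopen⟩ := H V hV
  haveI : Surjective c := hc1
  haveI : Flat c := hc2
  haveI : QuasiCompact c := hc3
  have hq : Topology.IsQuotientMap c := Flat.isQuotientMap_of_surjective c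
  have hRV : IsOpen (V.ι ⁻¹' R) := by
    rw [← hq.isOpen_preimage]
    exact hopen
  refine ⟨V.ι '' (V.ι ⁻¹' R), ?_, V.ι.isOpenEmbedding.isOpenMap _ hRV, ⟨⟨s, hsV⟩, hs, rfl⟩⟩
  rintro _ ⟨v, hv, rfl⟩
  exact hv

/-- fpqc-local and Zariski-local sieves. -/
theorem of_fpqc_local {S : Scheme.{u}} (𝒢 : ∀ T : Scheme.{u}, (T ⟶ S) → Prop)
    (Q1 : ∀ {T T' : Scheme.{u}} (a : T' ⟶ T) (t : T ⟶ S), 𝒢 T t → 𝒢 T' (a ≫ t))
    (Q2 : ∀ {T T' : Scheme.{u}} (a : T' ⟶ T) (t : T ⟶ S), Qfpqc a → 𝒢 T' (a ≫ t) → 𝒢 T t)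
    (Q3 : ∀ {T : Scheme.{u}} (t : T ⟶ S),
      (∀ x : T, ∃ O : T.Opens, x ∈ O ∧ 𝒢 O (O.ι ≫ t)) → 𝒢 T t)
    (U : S.Opens)
    (H : ∀ V : S.Opens, IsAffineOpen V → ∃ (T : Scheme.{u}) (c : T ⟶ (V : Scheme.{u})),
      Qfpqc c ∧ ∀ x : T, (c ≫ V.ι) x ∈ U → ∃ (O : Scheme.{u}) (j : O ⟶ T),
        IsOpenImmersion j ∧ x ∈ Set.range j ∧ 𝒢 O (j ≫ c ≫ V.ι)) :
    𝒢 U U.ι := by
  apply Q3
  intro x
  obtain ⟨_, ⟨V : S.Opens, hV, rfl⟩, hxV, -⟩ := S.isBasis_affineOpens.exists_subset_of_mem_open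
    (Set.mem_univ (U.ι x)) isOpen_univ
  obtain ⟨T, c, hc, hx⟩ := H V hV
  refine ⟨U.ι ⁻¹ᵁ V, hxV, ?_⟩
  obtain ⟨O, hO⟩ : ∃ O : (U : Scheme.{u}).Opens, O = U.ι ⁻¹ᵁ V := ⟨_, rfl⟩
  rw [← hO]
  have hrange : Set.range (O.ι ≫ U.ι) ⊆ Set.range V.ι := by
    rintro _ ⟨w, rfl⟩
    rw [Scheme.Opens.range_ι]
    exact hO.le w.2
  obtain ⟨iA, hiA⟩ : ∃ iA : (O : Scheme.{u}) ⟶ (V : Scheme.{u}), iA ≫ V.ι = O.ι ≫ U.ι :=
    ⟨IsOpenImmersion.lift V.ι (O.ι ≫ U.ι) hrange, IsOpenImmersion.lift_fac _ _ _⟩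
  have hsnd : Qfpqc (pullback.snd c iA) :=
    MorphismProperty.pullback_snd (P := Qfpqc) c iA hc
  apply Q2 (pullback.snd c iA) _ hsnd
  apply Q3
  intro y
  have hy : (c ≫ V.ι) ((pullback.fst c iA) y) ∈ U := by
    rw [← Scheme.Hom.comp_apply, ← Category.assoc, pullback.condition, Category.assoc, hiA,
      Scheme.Hom.comp_apply, Scheme.Hom.comp_apply]
    exact (O.ι ((pullback.snd c iA) y)).2
  obtain ⟨O', j, hj, hxj, h𝒢⟩ := hx _ hy
  refine ⟨(pullback.fst c iA) ⁻¹ᵁ j.opensRange, hxj, ?_⟩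
  obtain ⟨O'', hO''⟩ : ∃ O'' : (pullback c iA).Opens,
      O'' = (pullback.fst c iA) ⁻¹ᵁ j.opensRange := ⟨_, rfl⟩
  rw [← hO'']
  have hrange2 : Set.range (O''.ι ≫ pullback.fst c iA) ⊆ Set.range j := by
    rintro _ ⟨w, rfl⟩
    exact hO''.le w.2
  obtain ⟨a, ha⟩ : ∃ a : (O'' : Scheme.{u}) ⟶ O', a ≫ j = O''.ι ≫ pullback.fst c iA :=
    ⟨IsOpenImmersion.lift j _ hrange2, IsOpenImmersion.lift_fac _ _ _⟩
  have heq : O''.ι ≫ pullback.snd c iA ≫ O.ι ≫ U.ι = a ≫ j ≫ c ≫ V.ι := by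
    rw [← hiA, ← Category.assoc (pullback.snd c iA), ← pullback.condition, ← Category.assoc a,
      ha]
    simp only [Category.assoc]
  rw [heq]
  exact Q1 a _ h𝒢

section BaseChangeTriv

open scoped Obj in
/-- iterated base change of a group, as an isomorphism of groups. -/
noncomputable def bcCompIso {S W W' : Scheme.{u}} (b : W' ⟶ W) (w : W ⟶ S) (G : Over S)
    [GrpObj G] : Grp.mk (Red.bc (b ≫ w) G) ≅ Grp.mk (Red.bc b (Red.bc w G)) :=
  (Functor.mapGrpNatIso (Over.pullbackComp b w) ≪≫ Functor.mapGrpCompIso).app (Grp.mk G)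

noncomputable def bcCongrIso {S W : Scheme.{u}} {w w' : W ⟶ S} (h : w = w') (G : Over S)
    [GrpObj G] : Grp.mk (Red.bc w G) ≅ Grp.mk (Red.bc w' G) := by
  subst h
  exact Iso.refl _

open scoped Obj in
noncomputable def bcMapIso {S W : Scheme.{u}} (b : W ⟶ S) {G H : Over S} [GrpObj G] [GrpObj H]
    (e : Grp.mk G ≅ Grp.mk H) : Grp.mk (Red.bc b G) ≅ Grp.mk (Red.bc b H) :=
  (Over.pullback b).mapGrp.mapIso e

noncomputable def bcDSIso {W W' : Scheme.{u}} (b : W' ⟶ W) (M : Type) [AddCommGroup M] :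
    Grp.mk (Red.bc b (Red.DS W M)) ≅ Grp.mk (Red.DS W' M) :=
  (bcCompIso b _ _).symm ≪≫ bcCongrIso (Limits.IsTerminal.hom_ext specULiftZIsTerminal _ _) _

/-- base change of a trivialisation. -/
noncomputable def bcTriv {S W W' : Scheme.{u}} (b : W' ⟶ W) (w : W ⟶ S) (w' : W' ⟶ S)
    (hw : w' = b ≫ w) (G : Over S) [GrpObj G] (M : Type) [AddCommGroup M]
    (e : Grp.mk (Red.bc w G) ≅ Grp.mk (Red.DS W M)) :
    Grp.mk (Red.bc w' G) ≅ Grp.mk (Red.DS W' M) :=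
  bcCongrIso hw G ≪≫ bcCompIso b w G ≪≫ bcMapIso b e ≪≫ bcDSIso b M

end BaseChangeTriv

/-- simultaneous trivialisation, over the affine opens of the base, of a group of multiplicative
type and of a group of multiplicative type and of finite type. -/
theorem exists_common_cover {S : Scheme.{u}} (G H : Over S) [GrpObj G] [GrpObj H]
    (hG : TwC.Locally S TwC.Topology.fpqc (fun S' g => ∃ (M : Type) (_ : AddCommGroup M),
      Nonempty (Grp.mk (Red.bc g G) ≅ Grp.mk (Red.DS S' M))))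
    (hH : SGA3x.IsMultTypeFT H) (V : S.Opens) (hV : IsAffineOpen V) :
    ∃ (T : Scheme.{u}) (c : T ⟶ (V : Scheme.{u})), Qfpqc c ∧ ∀ x : T, ∃ O : T.Opens, x ∈ O ∧
      ∃ (M N : Type) (_ : AddCommGroup M) (_ : AddCommGroup N), AddGroup.FG N ∧
        Nonempty (Grp.mk (Red.bc (O.ι ≫ c ≫ V.ι) G) ≅ Grp.mk (Red.DS (O : Scheme.{u}) M)) ∧
        Nonempty (Grp.mk (Red.bc (O.ι ≫ c ≫ V.ι) H) ≅ Grp.mk (Red.DS (O : Scheme.{u}) N)) := by
  obtain ⟨SG, fG, hflG, hsurjG, hqcG, hlocG⟩ := hG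
  obtain ⟨SH, fH, hflH, hsurjH, hqcH, hlocH⟩ := hH
  obtain ⟨WG, qG, hqG, ⟨⟨hG1, hG2⟩, hG3⟩⟩ := exists_fpqc_over_affine fG hqcG V hV
  obtain ⟨WH, qH, hqH, ⟨⟨hH1, hH2⟩, hH3⟩⟩ := exists_fpqc_over_affine fH hqcH V hV
  haveI : Surjective qG := hG1
  haveI : Flat qG := hG2
  haveI : QuasiCompact qG := hG3
  haveI : Surjective qH := hH1
  haveI : Flat qH := hH2
  haveI : QuasiCompact qH := hH3
  refine ⟨pullback qG qH, pullback.fst qG qH ≫ qG,
    ⟨⟨(inferInstance : Surjective (pullback.fst qG qH ≫ qG)),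
      (inferInstance : Flat (pullback.fst qG qH ≫ qG))⟩,
      (inferInstance : QuasiCompact (pullback.fst qG qH ≫ qG))⟩, fun x => ?_⟩
  obtain ⟨UG, hxUG, M, instM, ⟨eG⟩⟩ := hlocG (WG.ι ((pullback.fst qG qH) x))
  obtain ⟨UH, hxUH, N, instN, hFG, ⟨eH⟩⟩ := hlocH (WH.ι ((pullback.snd qG qH) x))
  obtain ⟨O, hO⟩ : ∃ O : (pullback qG qH).Opens,
      O = (pullback.fst qG qH ≫ WG.ι) ⁻¹ᵁ UG ⊓ (pullback.snd qG qH ≫ WH.ι) ⁻¹ᵁ UH := ⟨_, rfl⟩
  have hxO : x ∈ O := by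
    rw [hO]
    exact ⟨hxUG, hxUH⟩
  have hrG : Set.range (O.ι ≫ pullback.fst qG qH ≫ WG.ι) ⊆ Set.range UG.ι := by
    rintro _ ⟨w, rfl⟩
    rw [Scheme.Opens.range_ι]
    exact (hO.le w.2).1
  have hrH : Set.range (O.ι ≫ pullback.snd qG qH ≫ WH.ι) ⊆ Set.range UH.ι := by
    rintro _ ⟨w, rfl⟩
    rw [Scheme.Opens.range_ι]
    exact (hO.le w.2).2
  obtain ⟨bG, hbG⟩ : ∃ bG : (O : Scheme.{u}) ⟶ (UG : Scheme.{u}),
      bG ≫ UG.ι = O.ι ≫ pullback.fst qG qH ≫ WG.ι :=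
    ⟨IsOpenImmersion.lift UG.ι _ hrG, IsOpenImmersion.lift_fac _ _ _⟩
  obtain ⟨bH, hbH⟩ : ∃ bH : (O : Scheme.{u}) ⟶ (UH : Scheme.{u}),
      bH ≫ UH.ι = O.ι ≫ pullback.snd qG qH ≫ WH.ι :=
    ⟨IsOpenImmersion.lift UH.ι _ hrH, IsOpenImmersion.lift_fac _ _ _⟩
  have hwG : O.ι ≫ (pullback.fst qG qH ≫ qG) ≫ V.ι = bG ≫ UG.ι ≫ fG := by
    rw [← Category.assoc bG, hbG]
    simp only [Category.assoc]
    rw [hqG]
  have hwH : O.ι ≫ (pullback.fst qG qH ≫ qG) ≫ V.ι = bH ≫ UH.ι ≫ fH := by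
    rw [← Category.assoc bH, hbH, pullback.condition]
    simp only [Category.assoc]
    rw [hqH]
  exact ⟨O, hxO, M, N, instM, instN, hFG, ⟨bcTriv bG _ _ hwG G M eG⟩, ⟨bcTriv bH _ _ hwH H N eH⟩⟩

end Groth.Agent.Lib.R2H3.FpqcLocal
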