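import Mathlib
import Groth.Agent.Lib.R2H3FpqcLocal
import Groth.Agent.Lib.R2H3LocDesc
import Groth.Agent.Lib.Helper12Descent

/-!
# fpqc-local properties of morphisms of `S`-schemes, over the base `S` (helper3, round 2)

For a morphism `F : A ⟶ B` in `Over S` and a property `P` of morphisms of schemes which is
Zariski-local on the target, stable under base change and satisfies fpqc descent, `P F.left` may be
checked after the base changes `(Over.pullback t).map F` along an fpqc covering of `S`
(`descend_over`).
-/

set_option autoImplicit false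
set_option linter.style.haveILetI false
set_option linter.unusedVariables false
set_option linter.unusedSectionVars false

universe u

open CategoryTheory CategoryTheory.Limits AlgebraicGeometry MorphismProperty
open Groth.Agent.Lib.R2H3.FpqcLocal

namespace Groth.Agent.Lib.R2H3.BCDescent

variable {S : Scheme.{u}}

/-- canonical map between base changes. -/
noncomputable def cmap (X : Over S) {T T' : Scheme.{u}} (a : T' ⟶ T) (t : T ⟶ S) :
    pullback X.hom (a ≫ t) ⟶ pullback X.hom t :=
  pullback.lift (pullback.fst _ _) (pullback.snd _ _ ≫ a)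
    (by rw [Category.assoc, pullback.condition])

@[reassoc]
lemma cmap_fst (X : Over S) {T T' : Scheme.{u}} (a : T' ⟶ T) (t : T ⟶ S) :
    cmap X a t ≫ pullback.fst X.hom t = pullback.fst X.hom (a ≫ t) :=
  pullback.lift_fst _ _ _

@[reassoc]
lemma cmap_snd (X : Over S) {T T' : Scheme.{u}} (a : T' ⟶ T) (t : T ⟶ S) :
    cmap X a t ≫ pullback.snd X.hom t = pullback.snd X.hom (a ≫ t) ≫ a :=
  pullback.lift_snd _ _ _

theorem isPullback_cmap (X : Over S) {T T' : Scheme.{u}} (a : T' ⟶ T) (t : T ⟶ S) :
    IsPullback (cmap X a t) (pullback.snd X.hom (a ≫ t)) (pullback.snd X.hom t) a := by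
  refine IsPullback.of_right ?_ (cmap_snd X a t) (IsPullback.of_hasPullback X.hom t)
  rw [cmap_fst]
  exact IsPullback.of_hasPullback X.hom (a ≫ t)

variable {A B : Over S} (F : A ⟶ B)

lemma pullback_map_left {T : Scheme.{u}} (t : T ⟶ S) :
    ((Over.pullback t).map F).left
      = pullback.lift (pullback.fst A.hom t ≫ F.left) (pullback.snd A.hom t)
          (by rw [Category.assoc, Over.w F, pullback.condition]) := rfl

@[reassoc]
lemma pullback_map_left_fst {T : Scheme.{u}} (t : T ⟶ S) :
    ((Over.pullback t).map F).left ≫ pullback.fst B.hom t = pullback.fst A.hom t ≫ F.left := by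
  rw [pullback_map_left, pullback.lift_fst]

@[reassoc]
lemma pullback_map_left_snd {T : Scheme.{u}} (t : T ⟶ S) :
    ((Over.pullback t).map F).left ≫ pullback.snd B.hom t = pullback.snd A.hom t := by
  rw [pullback_map_left, pullback.lift_snd]

/-- the base change `(Over.pullback t).map F` is a base change of `F.left`. -/
theorem isPullback_bc {T : Scheme.{u}} (t : T ⟶ S) :
    IsPullback (pullback.fst A.hom t) ((Over.pullback t).map F).left F.left
      (pullback.fst B.hom t) := by
  refine (IsPullback.of_right ?_ (pullback_map_left_fst F t)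
    (IsPullback.of_hasPullback B.hom t).flip).flip
  rw [pullback_map_left_snd, Over.w F]
  exact (IsPullback.of_hasPullback A.hom t).flip

/-- the base changes along `a ≫ t` and `t` are related by a cartesian square. -/
theorem isPullback_bcmap {T T' : Scheme.{u}} (a : T' ⟶ T) (t : T ⟶ S) :
    IsPullback (cmap A a t) ((Over.pullback (a ≫ t)).map F).left ((Over.pullback t).map F).left
      (cmap B a t) := by
  refine IsPullback.of_right ?_ ?_ (isPullback_bc F t)
  · rw [cmap_fst, cmap_fst]
    exact isPullback_bc F (a ≫ t)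
  · apply pullback.hom_ext
    · rw [Category.assoc, Category.assoc, pullback_map_left_fst, cmap_fst, cmap_fst_assoc,
        pullback_map_left_fst]
    · rw [Category.assoc, Category.assoc, pullback_map_left_snd, cmap_snd, cmap_snd,
        pullback_map_left_snd_assoc]

variable (P : MorphismProperty Scheme.{u})

/-- the sieve of base changes where `F` has `P`. -/
def Good (T : Scheme.{u}) (t : T ⟶ S) : Prop := P ((Over.pullback t).map F).left

variable [IsZariskiLocalAtTarget P] [P.IsStableUnderBaseChange] [P.DescendsAlong Qfpqc]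

lemma good_precomp {T T' : Scheme.{u}} (a : T' ⟶ T) (t : T ⟶ S) (h : Good F P T t) :
    Good F P T' (a ≫ t) :=
  P.of_isPullback (isPullback_bcmap F a t) h

lemma good_descend {T T' : Scheme.{u}} (a : T' ⟶ T) (t : T ⟶ S) (ha : Qfpqc a)
    (h : Good F P T' (a ≫ t)) : Good F P T t := by
  have hc : Qfpqc (cmap B a t) :=
    MorphismProperty.of_isPullback (P := Qfpqc) (isPullback_cmap B a t).flip ha
  exact of_isPullback_of_descendsAlong (P := P) (Q := Qfpqc) (isPullback_bcmap F a t).flip hc h

lemma good_local {T : Scheme.{u}} (t : T ⟶ S)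
    (h : ∀ x : T, ∃ O : T.Opens, x ∈ O ∧ Good F P O (O.ι ≫ t)) : Good F P T t := by
  unfold Good
  apply IsZariskiLocalAtTarget.of_forall_exists_morphismRestrict
  intro y
  obtain ⟨O, hxO, hO⟩ := h (pullback.snd B.hom t y)
  haveI : IsOpenImmersion (cmap B O.ι t) :=
    MorphismProperty.of_isPullback (P := @IsOpenImmersion) (isPullback_cmap B O.ι t).flip
      inferInstance
  refine ⟨(cmap B O.ι t).opensRange, ?_, ?_⟩
  · -- `y` lies in the range
    obtain ⟨z, hz1, hz2⟩ := Scheme.Pullback.exists_preimage_pullback
      (f := pullback.snd B.hom t) (g := O.ι) y ⟨_, hxO⟩ rfl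
    refine ⟨(isPullback_cmap B O.ι t).isoPullback.inv z, ?_⟩
    rw [← Scheme.Hom.comp_apply, IsPullback.isoPullback_inv_fst]
    exact hz1
  · rw [P.arrow_mk_iso_iff (morphismRestrictOpensRange _ _)]
    exact (LocDesc.iff_of_isPullback_of_isPullback (isPullback_bcmap F O.ι t)
      (IsPullback.of_hasPullback _ _)).mp hO

/-- **fpqc descent over the base** for a morphism of `S`-schemes. -/
theorem descend_over
    (H : ∀ V : S.Opens, IsAffineOpen V → ∃ (T : Scheme.{u}) (c : T ⟶ (V : Scheme.{u})),
      Qfpqc c ∧ ∀ x : T, ∃ (O : Scheme.{u}) (j : O ⟶ T),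
        IsOpenImmersion j ∧ x ∈ Set.range j ∧ P ((Over.pullback (j ≫ c ≫ V.ι)).map F).left) :
    P F.left := by
  have h1 : Good F P (⊤ : S.Opens) (⊤ : S.Opens).ι := by
    refine of_fpqc_local (Good F P) (fun a t h => good_precomp F P a t h)
      (fun a t ha h => good_descend F P a t ha h) (fun t h => good_local F P t h) ⊤ ?_
    intro V hV
    obtain ⟨T, c, hc, hx⟩ := H V hV
    exact ⟨T, c, hc, fun x _ => hx x⟩
  have h2 : Good F P S (𝟙 S) := by
    have := good_precomp F P S.topIso.inv (⊤ : S.Opens).ι h1
    rwa [Scheme.toIso_inv_ι] at this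
  have hq : Qfpqc (pullback.fst B.hom (𝟙 S)) :=
    ⟨⟨inferInstance, inferInstance⟩, inferInstance⟩
  exact of_isPullback_of_descendsAlong (P := P) (Q := Qfpqc) (isPullback_bc F (𝟙 S)).flip hq h2

end Groth.Agent.Lib.R2H3.BCDescent
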