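import Groth.Prelude.Def_EGA4Misc
import Groth.Agent.S5863
import Groth.Agent.Lib.Helper14IrrComp
import Mathlib

/-!
# Pointwise-birational morphisms and flat base change (helper3, run 2)

* `mem_genericPoints_iff` : maximal points through generizations.
* `map_mem_genericPoints_of_flat` : flat morphisms map maximal points to maximal points.
* `bijective_residueFieldMap_of_section` : a `κ(y')`-point of `X'` over `y'` forces a trivial residue extension.
* `fiber_of_birational_point` : fibre of a base change over a point above a "birational" point.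
* `exists_specializes_lift` : generizations lift along the base change over a "birational" point.
* `isBirational_of_isPullback_of_flat` : `RadPt.IsBirational` is stable under flat base change.
-/

set_option autoImplicit false
set_option linter.style.haveILetI false
set_option linter.unusedVariables false
set_option linter.unusedSectionVars false
universe u

open CategoryTheory CategoryTheory.Limits AlgebraicGeometry Topology

namespace Groth.Agent.Lib.R2H3.BirBC

theorem mem_genericPoints_iff {α : Type*} [TopologicalSpace α] [T0Space α] [QuasiSober α] (y : α) :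
    y ∈ genericPoints α ↔ ∀ y' : α, y' ⤳ y → y' = y :=
  Groth.Agent.Lib.Helper14.closure_mem_irreducibleComponents_iff y

theorem map_mem_genericPoints_of_flat {X Y : Scheme.{u}} (g : X ⟶ Y) [Flat g] {x : X}
    (hx : x ∈ genericPoints X) : g x ∈ genericPoints Y := by
  rw [mem_genericPoints_iff] at hx ⊢
  intro z hz
  obtain ⟨x', hx', rfl⟩ := Flat.generalizingMap g hz
  rw [hx x' hx']

theorem isPurelyInseparable_of_bijective {F E : Type*} [Field F] [Field E] (φ : F →+* E)
    (h : Function.Bijective φ) : φ.IsPurelyInseparable := by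
  algebraize [φ]
  show IsPurelyInseparable F E
  rw [isPurelyInseparable_iff]
  intro x
  obtain ⟨a, rfl⟩ := h.2 x
  exact ⟨isIntegral_algebraMap, fun _ => ⟨a, rfl⟩⟩

/-- A `K`-point of `X'` over `y'` with `κ(y') ≅ K` forces a trivial residue field extension at its
image point. -/
theorem bijective_residueFieldMap_of_section {X' Y' : Scheme.{u}} (f' : X' ⟶ Y') (y' : Y')
    {K : Type u} [Field K] (θ : Y'.residueField y' ⟶ CommRingCat.of K)
    (hθ : Function.Bijective θ.hom)
    (σ : Spec (.of K) ⟶ X') (hσ : σ ≫ f' = Spec.map θ ≫ Y'.fromSpecResidueField y') :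
    Function.Bijective (f'.residueFieldMap (σ (IsLocalRing.closedPoint K))).hom := by
  have key := Scheme.descResidueField_stalkClosedPointTo_comp (f := f') σ
  have h1 : (Y'.SpecToEquivOfField K) (σ ≫ f') = ⟨y', θ⟩ := by
    rw [← Equiv.eq_symm_apply, hσ]
    rfl
  obtain ⟨e, he⟩ := Scheme.SpecToEquivOfField_eq_iff.mp h1
  simp only [Scheme.SpecToEquivOfField_apply_snd] at he
  have he' := key.symm.trans he
  clear key he h1
  generalize Scheme.descResidueField (Scheme.stalkClosedPointTo σ) = ψ at he'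
  have hb : Function.Bijective (ψ.hom ∘
      (f'.residueFieldMap (σ (IsLocalRing.closedPoint K))).hom) := by
    have h2 : Function.Bijective (Y'.residueFieldCongr e).hom.hom :=
      ConcreteCategory.bijective_of_isIso (Y'.residueFieldCongr e).hom
    have h3 := congrArg (fun φ => (CommRingCat.Hom.hom φ : _ → _)) he'
    simp only [CommRingCat.hom_comp, RingHom.coe_comp] at h3
    rw [h3]
    exact hθ.comp h2
  have hψ : Function.Bijective ψ.hom :=
    ⟨RingHom.injective _, Function.Surjective.of_comp hb.2⟩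
  exact (Function.Bijective.of_comp_iff' hψ _).mp hb

/-- The fibre of a base change over a point lying above a point with one-point fibre and trivial
residue field extension. -/
theorem fiber_of_birational_point {X Y X' Y' : Scheme.{u}} {f : X ⟶ Y} {g : Y' ⟶ Y} {f' : X' ⟶ Y'}
    {g' : X' ⟶ X} (sq : IsPullback g' f' f g) (y' : Y') (x : X) (hx : f x = g y')
    (huniq : ∀ x₁ x₂ : X, f x₁ = g y' → f x₂ = g y' → x₁ = x₂)
    (hbij : Function.Bijective (f.residueFieldMap x).hom) :
    (∃ x' : X', f' x' = y' ∧ g' x' = x) ∧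
      (∀ x₁ x₂ : X', f' x₁ = y' → f' x₂ = y' → x₁ = x₂) ∧
      ∀ x' : X', f' x' = y' → Function.Bijective (f'.residueFieldMap x').hom := by
  -- radicial at `g y'`
  have hrad : RadPt.IsRadicialAt f (g y') := by
    refine ⟨huniq, fun x₁ h₁ => ?_⟩
    obtain rfl := huniq x₁ x h₁ hx
    exact isPurelyInseparable_of_bijective _ hbij
  have hrad' : RadPt.IsRadicialAt f' y' := (Groth.Agent.S5863.result sq y').mp hrad
  -- the section
  haveI : IsIso (f.residueFieldMap x) := (ConcreteCategory.isIso_iff_bijective _).mpr hbij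
  let a : Spec (Y'.residueField y') ⟶ X :=
    Spec.map (g.residueFieldMap y') ≫ Spec.map (Y.residueFieldCongr hx).hom ≫
      Spec.map (inv (f.residueFieldMap x)) ≫ X.fromSpecResidueField x
  have ha : a ≫ f = Y'.fromSpecResidueField y' ≫ g := by
    simp only [a, Category.assoc]
    rw [← Scheme.Hom.SpecMap_residueFieldMap_fromSpecResidueField f x,
      ← Spec.map_comp_assoc (f.residueFieldMap x), IsIso.hom_inv_id, Spec.map_id, Category.id_comp,
      Scheme.residueFieldCongr_fromSpecResidueField,
      Scheme.Hom.SpecMap_residueFieldMap_fromSpecResidueField]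
  let σ : Spec (Y'.residueField y') ⟶ X' := sq.lift a (Y'.fromSpecResidueField y') ha
  have hσ1 : σ ≫ g' = a := sq.lift_fst _ _ _
  have hσ2 : σ ≫ f' = Y'.fromSpecResidueField y' := sq.lift_snd _ _ _
  obtain ⟨x₀, hx₀⟩ : ∃ x₀ : X', x₀ = σ (IsLocalRing.closedPoint (Y'.residueField y')) := ⟨_, rfl⟩
  have hfx₀ : f' x₀ = y' := by
    rw [hx₀, ← Scheme.Hom.comp_apply, hσ2, Scheme.fromSpecResidueField_apply]
  have hgx₀ : g' x₀ = x := by
    rw [hx₀, ← Scheme.Hom.comp_apply, hσ1]
    simp only [a, Scheme.Hom.comp_apply, Scheme.fromSpecResidueField_apply]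
  have hb₀ : Function.Bijective (f'.residueFieldMap x₀).hom := by
    rw [hx₀]
    refine bijective_residueFieldMap_of_section f' y' (K := Y'.residueField y') (𝟙 _)
      Function.bijective_id σ ?_
    rw [Spec.map_id]
    exact hσ2.trans (Category.id_comp _).symm
  refine ⟨⟨x₀, hfx₀, hgx₀⟩, hrad'.1, fun x' hx' => ?_⟩
  obtain rfl := hrad'.1 x' x₀ hx' hfx₀
  exact hb₀

/-- Generizations lift along the base change `f'` over points of `Y'` lying above a point `f x`
at which `f` induces a trivial residue field extension. -/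
theorem exists_specializes_lift {X Y X' Y' : Scheme.{u}} {f : X ⟶ Y} {g : Y' ⟶ Y} {f' : X' ⟶ Y'}
    {g' : X' ⟶ X} (sq : IsPullback g' f' f g) (x : X)
    (hbij : Function.Bijective (f.residueFieldMap x).hom)
    (x' : X') (hx' : g' x' = x) (y'' : Y') (hy'' : g y'' = f x) (hs : y'' ⤳ f' x') :
    ∃ x'' : X', f' x'' = y'' ∧ x'' ⤳ x' := by
  haveI : IsIso (f.residueFieldMap x) := (ConcreteCategory.isIso_iff_bijective _).mpr hbij
  have P := isPullback_fiberToSpecResidueField_of_isPullback sq.flip x
  obtain ⟨Θ, hΘ⟩ : ∃ Θ : g'.fiber x ⟶ g.fiber (f x),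
      Θ = pullback.map g' (X.fromSpecResidueField x) g (Y.fromSpecResidueField (f x)) f'
        (Spec.map (f.residueFieldMap x)) f sq.flip.w.symm (by simp) :=
    ⟨_, rfl⟩
  rw [← hΘ] at P
  haveI : IsIso Θ := P.isIso_fst_of_isIso
  have hΘι : Θ ≫ g.fiberι (f x) = g'.fiberι x ≫ f' := by
    rw [hΘ]
    exact pullback.lift_fst _ _ _
  -- the points
  let z' : g'.fiber x := (g'.fiberHomeo x).symm ⟨x', hx'⟩
  have hz' : g'.fiberι x z' = x' := g'.fiberι_fiberHomeo_symm x ⟨x', hx'⟩
  let w'' : g.fiber (f x) := (g.fiberHomeo (f x)).symm ⟨y'', hy''⟩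
  have hw'' : g.fiberι (f x) w'' = y'' := g.fiberι_fiberHomeo_symm (f x) ⟨y'', hy''⟩
  have hw' : g.fiberι (f x) (Θ z') = f' x' := by
    rw [← Scheme.Hom.comp_apply, hΘι, Scheme.Hom.comp_apply, hz']
  have h1 : w'' ⤳ Θ z' := by
    rw [← (g.fiberι (f x)).isEmbedding.isInducing.specializes_iff, hw'', hw']
    exact hs
  have h2 : (inv Θ) w'' ⤳ (inv Θ) (Θ z') := h1.map (inv Θ).continuous
  have h3 : (inv Θ) (Θ z') = z' := by
    rw [← Scheme.Hom.comp_apply, IsIso.hom_inv_id]
    rfl
  rw [h3] at h2
  refine ⟨g'.fiberι x ((inv Θ) w''), ?_, ?_⟩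
  · rw [← Scheme.Hom.comp_apply, ← hΘι, Scheme.Hom.comp_apply, ← Scheme.Hom.comp_apply (inv Θ) Θ,
      IsIso.inv_hom_id]
    exact hw''
  · rw [← hz']
    exact h2.map (g'.fiberι x).continuous

/-- `RadPt.IsBirational` is stable under flat base change. -/
theorem isBirational_of_isPullback_of_flat {X Y X' Y' : Scheme.{u}} {f : X ⟶ Y} {g : Y' ⟶ Y}
    [Flat g] {f' : X' ⟶ Y'} {g' : X' ⟶ X} (sq : IsPullback g' f' f g)
    (hf : RadPt.IsBirational f) : RadPt.IsBirational f' := by
  haveI : Flat g' := MorphismProperty.of_isPullback sq.flip inferInstance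
  obtain ⟨hbij, hfib⟩ := hf
  -- over a maximal point of `Y'`
  have hover : ∀ y' : Y', g y' ∈ genericPoints Y →
      (∃ x' : X', f' x' = y') ∧ (∀ x₁ x₂ : X', f' x₁ = y' → f' x₂ = y' → x₁ = x₂) ∧
        ∀ x' : X', f' x' = y' → Function.Bijective (f'.residueFieldMap x').hom := by
    intro y' hy'
    obtain ⟨x, hxg, hx⟩ := hbij.surjOn hy'
    obtain ⟨⟨x', h1, -⟩, h2, h3⟩ := fiber_of_birational_point sq y' x hx (hfib _ hy').1
      ((hfib _ hy').2 x hx)
    exact ⟨⟨x', h1⟩, h2, h3⟩
  -- maximal points go to maximal points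
  have hmaps : ∀ x' : X', x' ∈ genericPoints X' → f' x' ∈ genericPoints Y' := by
    intro x' hx'
    have hx : g' x' ∈ genericPoints X := map_mem_genericPoints_of_flat g' hx'
    have hy : f (g' x') ∈ genericPoints Y := hbij.mapsTo hx
    have hcomm : g (f' x') = f (g' x') := by
      rw [← Scheme.Hom.comp_apply, ← Scheme.Hom.comp_apply, sq.w]
    rw [mem_genericPoints_iff]
    intro y'' hy''
    have h1 : g y'' ⤳ f (g' x') := hcomm ▸ hy''.map g.continuous
    have h2 : g y'' = f (g' x') := (mem_genericPoints_iff _).mp hy _ h1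
    obtain ⟨x'', hx''1, hx''2⟩ := exists_specializes_lift sq (g' x')
      ((hfib _ hy).2 _ rfl) x' rfl y'' h2 hy''
    have := (mem_genericPoints_iff _).mp hx' x'' hx''2
    rw [← hx''1, this]
  refine ⟨⟨hmaps, ?_, ?_⟩, ?_⟩
  · intro x₁ hx₁ x₂ hx₂ h12
    have hy' := hmaps x₂ hx₂
    exact (hover (f' x₂) (map_mem_genericPoints_of_flat g hy')).2.1 x₁ x₂ h12 rfl
  · intro y' hy'
    have hgy' := map_mem_genericPoints_of_flat g hy'
    obtain ⟨⟨x', hx'⟩, huniq, -⟩ := hover y' hgy'
    refine ⟨x', ?_, hx'⟩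
    rw [mem_genericPoints_iff]
    intro x'' hx''
    have h1 : f' x'' ⤳ y' := hx' ▸ hx''.map f'.continuous
    have h2 : f' x'' = y' := (mem_genericPoints_iff _).mp hy' _ h1
    exact huniq x'' x' h2 hx'
  · intro y' hy'
    have hgy' := map_mem_genericPoints_of_flat g hy'
    exact (hover y' hgy').2

end Groth.Agent.Lib.R2H3.BirBC
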