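import Groth.Agent.Lib.R2H3DepthEmb
import Groth.Agent.Lib.Helper4FibDimL

/-!
# Cohen–Macaulay closed subschemes of `P^N_k` and vanishing of `H^j(X, O_X(-q))` (helper3, round 2)

Namespace `Groth.Agent.Lib.R2H3.CMVanish`.

* `nonempty_pullback_twist_tensor_iso`, `nonempty_pullback_twist_zero_iso`: `i^*O(a) ⊗ i^*O(b) ≅ i^*O(a+b)`,
  `i^*O(0) ≅ O_X`;
* `isCM_of_depth`: `depth O_{X,x} ≥ n = dim X` implies `O_{X,x}` Cohen–Macaulay of dimension `n`;
* `isCM_of_vanishing`: if `H^j(X, O_X ⊗ i^*O(-q)) = 0` for `j < n = dim X` and `q ≫ 0` then the local rings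
  at closed points are Cohen–Macaulay of dimension `n`;
* `vanishing_of_isCM`: conversely, for `F` coherent with `depth F_x ≥ n` at closed points.
-/

set_option autoImplicit false
set_option linter.style.haveILetI false
set_option linter.unusedSectionVars false
universe u

open CategoryTheory CategoryTheory.Limits AlgebraicGeometry TopologicalSpace Opposite

namespace Groth.Agent.Lib.R2H3.CMVanish

open Groth.Agent.Lib.Helper23.AmpleIso

section Twist

variable (k : Type u) [Field k] (N : ℕ) {X : Scheme.{u}} (i : X ⟶ CohB1.ProjSpace N k)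

theorem nonempty_pullback_twist_tensor_iso (a b : ℤ) :
    Nonempty (CohB1.tensorMod ((Scheme.Modules.pullback i).obj (Twist.twistProjSpace N k a))
        ((Scheme.Modules.pullback i).obj (Twist.twistProjSpace N k b)) ≅
      (Scheme.Modules.pullback i).obj (Twist.twistProjSpace N k (a + b))) := by
  have ha := Groth.Agent.Lib.R2Lead.KRR.isInvertible_twistProjSpace N k a
  have hb := Groth.Agent.Lib.R2Lead.KRR.isInvertible_twistProjSpace N k b
  obtain ⟨e⟩ := Groth.Agent.Lib.Helper23.PB.nonempty_pullback_tensorMod_iso i _ _ ha hb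
  obtain ⟨ε₀⟩ := Groth.Agent.Lib.R2Lead.KRR.nonempty_twistProjSpace_tensor_iso N k a b
  exact ⟨e.symm ≪≫ (Scheme.Modules.pullback i).mapIso ε₀⟩

theorem nonempty_pullback_twist_zero_iso :
    Nonempty ((Scheme.Modules.pullback i).obj (Twist.twistProjSpace N k 0) ≅
      Coh.structureModule X) := by
  obtain ⟨ε₁⟩ := Groth.Agent.Lib.R2Lead.KRR.nonempty_twistProjSpace_zero_iso N k
  exact ⟨(Scheme.Modules.pullback i).mapIso ε₁ ≪≫ Groth.Agent.Lib.Helper23.PB.pullbackUnitIso i⟩

/-- `i^*O(a) ⊗ i^*O(-a) ≅ O_X` -/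
theorem nonempty_pullback_twist_neg_iso (a : ℤ) :
    Nonempty (CohB1.tensorMod ((Scheme.Modules.pullback i).obj (Twist.twistProjSpace N k a))
        ((Scheme.Modules.pullback i).obj (Twist.twistProjSpace N k (-a))) ≅
      Coh.structureModule X) := by
  obtain ⟨e⟩ := nonempty_pullback_twist_tensor_iso k N i a (-a)
  obtain ⟨z⟩ := nonempty_pullback_twist_zero_iso k N i
  exact ⟨e ≪≫ eqToIso (by rw [add_neg_cancel]) ≪≫ z⟩

end Twist

section CM

variable {X : Scheme.{u}} [IsLocallyNoetherian X]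

/-- `depth O_{X,x} ≥ n = dim X` implies that `O_{X,x}` is Cohen–Macaulay of dimension `n` -/
theorem isCM_of_depth (n : ℕ) (hn : topologicalKrullDim X = n) (x : X)
    (hx : (n : ℕ∞) ≤ LocCoh.depth (X.presheaf.stalk x) (X.presheaf.stalk x)) :
    LocCoh.IsCohenMacaulayLocalRing (X.presheaf.stalk x) ∧
      ringKrullDim (X.presheaf.stalk x) = n := by
  have h1 : ringKrullDim (X.presheaf.stalk x) ≤ (n : WithBot ℕ∞) := by
    rw [← hn]
    exact Groth.Agent.Lib.Helper4.FibDim.ringKrullDim_stalk_le_topologicalKrullDim X x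
  have h2 : ((LocCoh.depth (X.presheaf.stalk x) (X.presheaf.stalk x) : ℕ∞) : WithBot ℕ∞) ≤
      Module.supportDim (X.presheaf.stalk x) (X.presheaf.stalk x) :=
    Groth.Agent.Lib.Helper28.depth_le_supportDim
  rw [Module.supportDim_self_eq_ringKrullDim] at h2
  have h3 : ((n : ℕ∞) : WithBot ℕ∞) ≤
      ((LocCoh.depth (X.presheaf.stalk x) (X.presheaf.stalk x) : ℕ∞) : WithBot ℕ∞) :=
    WithBot.coe_le_coe.2 hx
  have h4 : ((n : ℕ∞) : WithBot ℕ∞) = (n : WithBot ℕ∞) := rfl
  have h5 : ringKrullDim (X.presheaf.stalk x) = (n : WithBot ℕ∞) :=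
    le_antisymm h1 (h4 ▸ h3.trans h2)
  refine ⟨{ supportDim_eq_depth := ?_ }, h5⟩
  rw [Module.supportDim_self_eq_ringKrullDim]
  exact le_antisymm (h5 ▸ h4 ▸ h3) h2

/-- `depth O_{X,x} = n` if `O_{X,x}` is Cohen–Macaulay of dimension `n` -/
theorem depth_eq_of_isCM (n : ℕ) (x : X)
    (h : LocCoh.IsCohenMacaulayLocalRing (X.presheaf.stalk x) ∧
      ringKrullDim (X.presheaf.stalk x) = n) :
    LocCoh.depth (X.presheaf.stalk x) (X.presheaf.stalk x) = (n : ℕ∞) := by
  obtain ⟨hcm, hdim⟩ := h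
  have h1 := hcm.supportDim_eq_depth
  rw [Module.supportDim_self_eq_ringKrullDim, hdim] at h1
  have h3 : (((n : ℕ) : ℕ∞) : WithBot ℕ∞) =
      ((LocCoh.depth (X.presheaf.stalk x) (X.presheaf.stalk x) : ℕ∞) : WithBot ℕ∞) := h1
  exact (WithBot.coe_injective h3).symm

/-- depth of the structure module -/
theorem depth_structureModule (x : X) :
    LocCoh.depth (X.presheaf.stalk x) ((Coh.structureModule X).presheaf.stalk x) =
      LocCoh.depth (X.presheaf.stalk x) (X.presheaf.stalk x) :=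
  (Groth.Agent.Lib.Helper28.idealDepth_congr
    (Groth.Agent.Lib.Helper23.UnitStalk.unitStalkEquiv x) _).symm

end CM

section Emb

variable (k : Type u) [Field k] (N : ℕ) {X : Scheme.{u}} (i : X ⟶ CohB1.ProjSpace N k)
  [IsClosedImmersion i]

include i in
theorem isLocallyNoetherian_of_closedImmersion : IsLocallyNoetherian X := by
  letI : X.Over (Spec (CommRingCat.of k)) := ⟨i ≫ CohB1.ProjSpace.toSpec N k⟩
  haveI : IsProper (X ↘ Spec (CommRingCat.of k)) := by
    haveI := Groth.Agent.S9705.isProper_projSpace_toSpec N k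
    change IsProper (i ≫ CohB1.ProjSpace.toSpec N k)
    infer_instance
  exact LocallyOfFiniteType.isLocallyNoetherian (X ↘ Spec (CommRingCat.of k))

/-- if `H^j(X, O_X(-q)) = 0` for `j < n = dim X` and `q ≫ 0` then the local rings of `X` at closed points
are Cohen–Macaulay of dimension `n` -/
theorem isCM_of_vanishing (n : ℕ) (hn : topologicalKrullDim X = n)
    (h : ∃ q₀ : ℕ, ∀ q : ℕ, q₀ ≤ q → ∀ j : ℕ, j < n →
      Subsingleton (Coh.HH X (CohB1.tensorMod (Coh.structureModule X)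
        ((Scheme.Modules.pullback i).obj (Twist.twistProjSpace N k (-(q : ℤ))))) j))
    (x : X) (hcl : IsClosed ({x} : Set X)) :
    LocCoh.IsCohenMacaulayLocalRing (X.presheaf.stalk x) ∧
      ringKrullDim (X.presheaf.stalk x) = n := by
  haveI := isLocallyNoetherian_of_closedImmersion k N i
  apply isCM_of_depth n hn x
  have hOc : Coh.IsCoh (Coh.structureModule X) :=
    Groth.Agent.Lib.R2H3.ZeroConn.isCoh_structureModule X
  obtain ⟨q₀, hq₀⟩ := h
  rcases n with _ | n'
  · simp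
  · have hd := (Groth.Agent.Lib.R2H3.DepthEmb.vanishing_iff_depth k N i _ hOc n').1
      ⟨q₀, fun q hq j hj => hq₀ q hq j (Nat.lt_succ_of_le hj)⟩ x hcl
    rw [depth_structureModule] at hd
    exact hd

/-- if the local rings of `X` at closed points are Cohen–Macaulay of dimension `n`, then
`H^j(X, F(-q)) = 0` for `j < n`, `q ≫ 0` for every coherent `F` with `depth F_x ≥ n` at closed points -/
theorem vanishing_of_depth (n : ℕ) (F : X.Modules) (hF : Coh.IsCoh F)
    (hd : ∀ x : X, IsClosed ({x} : Set X) →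
      (n : ℕ∞) ≤ LocCoh.depth (X.presheaf.stalk x) (F.presheaf.stalk x)) :
    ∃ q₀ : ℕ, ∀ q : ℕ, q₀ ≤ q → ∀ j : ℕ, j < n →
      Subsingleton (Coh.HH X (CohB1.tensorMod F
        ((Scheme.Modules.pullback i).obj (Twist.twistProjSpace N k (-(q : ℤ))))) j) := by
  rcases n with _ | n'
  · exact ⟨0, fun q _ j hj => absurd hj (Nat.not_lt_zero j)⟩
  · obtain ⟨q₀, hq₀⟩ := (Groth.Agent.Lib.R2H3.DepthEmb.vanishing_iff_depth k N i F hF n').2 hd
    exact ⟨q₀, fun q hq j hj => hq₀ q hq j (Nat.lt_succ_iff.1 hj)⟩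

theorem vanishing_structureModule_of_isCM (n : ℕ)
    (hCM : ∀ x : X, IsClosed ({x} : Set X) →
      LocCoh.IsCohenMacaulayLocalRing (X.presheaf.stalk x) ∧
        ringKrullDim (X.presheaf.stalk x) = n) :
    ∃ q₀ : ℕ, ∀ q : ℕ, q₀ ≤ q → ∀ j : ℕ, j < n →
      Subsingleton (Coh.HH X (CohB1.tensorMod (Coh.structureModule X)
        ((Scheme.Modules.pullback i).obj (Twist.twistProjSpace N k (-(q : ℤ))))) j) := by
  haveI := isLocallyNoetherian_of_closedImmersion k N i
  refine vanishing_of_depth k N i n _ (Groth.Agent.Lib.R2H3.ZeroConn.isCoh_structureModule X) ?_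
  intro x hcl
  rw [depth_structureModule, depth_eq_of_isCM n x (hCM x hcl)]

end Emb

end Groth.Agent.Lib.R2H3.CMVanish
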