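import Mathlib

/-!
# One-morphism fpqc coverings (helper3, round 2)

The prelude (`TwC.Locally`, `SGA3x.IsMultTypeFT`, ...) expresses "fpqc covering" for one flat
surjective morphism `f : X ⟶ Y` by the condition `Cov f`: every affine open of `Y` is the image
of a quasi-compact open of `X`.  This file relates it to Mathlib's fpqc precoverage:

* `cov_pullback_fst`, `cov_pullback_snd`: `Cov` is stable under base change;
* `singleton_mem_fpqcPrecoverage`: a flat surjective `f` with `Cov f` is an fpqc covering;
* `effectiveEpi_of_cov`: such an `f` is an effective epimorphism of schemes (no quasi-compactness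
  of `f` is needed).
-/

set_option autoImplicit false
set_option linter.style.haveILetI false

universe v u

open CategoryTheory CategoryTheory.Limits AlgebraicGeometry

namespace Groth.Agent.Lib.R2H3.FpqcCover

/-- every affine open of the target is the image of a quasi-compact open of the source. -/
def Cov {X Y : Scheme.{u}} (f : X ⟶ Y) : Prop :=
  ∀ V : Y.Opens, IsAffineOpen V → ∃ W : X.Opens, IsCompact (W : Set X) ∧
    f.base '' (W : Set X) = (V : Set Y)

/-- the one-morphism cover attached to a surjective morphism. -/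
noncomputable abbrev cv {X Y : Scheme.{u}} (f : X ⟶ Y) [Surjective f] :
    Scheme.Cover.{v} (Scheme.precoverage ⊤) Y := f.cover (P := ⊤) trivial

lemma cov_iff_quasiCompactCover {X Y : Scheme.{u}} (f : X ⟶ Y) [Surjective f] :
    Cov f ↔ QuasiCompactCover (cv.{v} f).toPreZeroHypercover := by
  rw [quasiCompactCover_iff]
  constructor
  · intro h U hU
    rw [IsCompactOpenCovered.iff_of_unique]
    obtain ⟨W, hW, hWU⟩ := h U hU
    exact ⟨W, hW, hWU⟩
  · intro h U hU
    have h1 := h hU
    rw [IsCompactOpenCovered.iff_of_unique] at h1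
    obtain ⟨W, hW, hWU⟩ := h1
    exact ⟨W, hW, hWU⟩

/-- `Cov` is stable under base change. -/
theorem cov_pullback_fst {X Y T : Scheme.{u}} (g : T ⟶ Y) (f : X ⟶ Y) [Surjective f]
    (h : Cov f) : Cov (pullback.fst g f) := by
  haveI : QuasiCompactCover (cv.{u} f).toPreZeroHypercover :=
    (cov_iff_quasiCompactCover.{u} f).mp h
  haveI : QuasiCompactCover ((cv.{u} f).toPreZeroHypercover.pullback₁ g) :=
    inferInstance
  intro U hU
  have h1 := QuasiCompactCover.isCompactOpenCovered_of_isAffineOpen
    (𝒰 := (cv.{u} f).toPreZeroHypercover.pullback₁ g) hU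
  haveI : Unique ((cv.{u} f).toPreZeroHypercover.pullback₁ g).I₀ :=
    inferInstanceAs (Unique PUnit)
  rw [IsCompactOpenCovered.iff_of_unique] at h1
  obtain ⟨W, hW, hWU⟩ := h1
  exact ⟨W, hW, hWU⟩

theorem cov_of_iso_comp {X X' Y : Scheme.{u}} (e : X' ≅ X) (f : X ⟶ Y) (h : Cov f) :
    Cov (e.hom ≫ f) := by
  intro V hV
  obtain ⟨W, hW, hWV⟩ := h V hV
  refine ⟨e.hom ⁻¹ᵁ W, ?_, ?_⟩
  · have h1 : ((e.hom ⁻¹ᵁ W : X'.Opens) : Set X') = e.inv.base '' (W : Set X) := by
      ext x
      constructor
      · intro hx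
        refine ⟨e.hom.base x, hx, ?_⟩
        rw [← Scheme.Hom.comp_apply, e.hom_inv_id]
        rfl
      · rintro ⟨y, hy, rfl⟩
        change e.hom.base (e.inv.base y) ∈ W
        rw [← Scheme.Hom.comp_apply, e.inv_hom_id]
        exact hy
    rw [h1]
    exact hW.image e.inv.continuous
  · rw [← hWV]
    ext y
    constructor
    · rintro ⟨x, hx, rfl⟩
      exact ⟨e.hom.base x, hx, rfl⟩
    · rintro ⟨x, hx, rfl⟩
      refine ⟨e.inv.base x, ?_, ?_⟩
      · change e.hom.base (e.inv.base x) ∈ W
        rw [← Scheme.Hom.comp_apply, e.inv_hom_id]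
        exact hx
      · rw [← Scheme.Hom.comp_apply, ← Category.assoc, e.inv_hom_id, Category.id_comp]

theorem cov_pullback_snd {X Y T : Scheme.{u}} (f : X ⟶ Y) (g : T ⟶ Y) [Surjective f]
    (h : Cov f) : Cov (pullback.snd f g) := by
  have h1 := cov_of_iso_comp (pullbackSymmetry f g) _ (cov_pullback_fst g f h)
  rwa [pullbackSymmetry_hom_comp_fst] at h1

/-- a flat surjective morphism satisfying `Cov` is an fpqc covering. -/
theorem singleton_mem_fpqcPrecoverage {X Y : Scheme.{u}} (f : X ⟶ Y) [Flat f] [Surjective f]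
    (h : Cov f) : Presieve.singleton f ∈ Scheme.fpqcPrecoverage Y := by
  refine ⟨?_, ?_⟩
  · rw [Scheme.qcPrecoverage, PreZeroHypercoverFamily.mem_precoverage_iff]
    refine ⟨(cv.{u+1} f).toPreZeroHypercover, ?_, by simp⟩
    simp only [Scheme.qcCoverFamily_property, Scheme.quasiCompactCover_iff]
    exact (cov_iff_quasiCompactCover.{u+1} f).mp h
  · rw [Scheme.singleton_mem_precoverage_iff]
    exact ⟨f.surjective, ‹Flat f›⟩

/-- a flat surjective morphism satisfying `Cov` is an effective epimorphism. -/
theorem effectiveEpi_of_cov {X Y : Scheme.{u}} (f : X ⟶ Y) [Flat f] [Surjective f]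
    (h : Cov f) : EffectiveEpi f := by
  rw [← Sieve.effectiveEpimorphic_singleton,
    Presieve.EffectiveEpimorphic.iff_forall_isSheafFor_yoneda]
  intro Z
  exact (GrothendieckTopology.Subcanonical.isSheaf_of_isRepresentable _).isSheafFor _
    (Precoverage.generate_mem_toGrothendieck (singleton_mem_fpqcPrecoverage f h))

end Groth.Agent.Lib.R2H3.FpqcCover
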