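import Groth.Agent.Lib.R2H3FpqcLocal
import Groth.Agent.Lib.R2H3FpqcCover

/-!
# Base change of groups of multiplicative type (helper3, round 2)

`isMultTypeFT_bc`: the base change of a group of multiplicative type and of finite type
(`SGA3x.IsMultTypeFT`) along an arbitrary morphism `t : T ⟶ S` is of multiplicative type and of
finite type; `locally_bc` is the version without finiteness.
-/

set_option autoImplicit false
set_option linter.style.haveILetI false
set_option linter.unusedVariables false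

universe u

open CategoryTheory MonoidalCategory CartesianMonoidalCategory MonObj GrpObj AlgebraicGeometry
  CategoryTheory.Limits
open Groth.Agent.Lib.R2H3.FpqcLocal Groth.Agent.Lib.R2H3.FpqcCover

namespace Groth.Agent.Lib.R2H3.MultTypeBC

/-- the local trivialisation over the preimage of an open of the covering. -/
theorem exists_triv_preimage {S T S₁ : Scheme.{u}} (H : Over S) [GrpObj H] (t : T ⟶ S)
    (f : S₁ ⟶ S) (U : S₁.Opens) (M : Type) [AddCommGroup M]
    (e : Grp.mk (Red.bc (U.ι ≫ f) H) ≅ Grp.mk (Red.DS (U : Scheme.{u}) M)) :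
    Nonempty (Grp.mk (Red.bc (((pullback.snd t f) ⁻¹ᵁ U).ι ≫ pullback.fst t f) (Red.bc t H)) ≅
      Grp.mk (Red.DS (((pullback.snd t f) ⁻¹ᵁ U : (pullback t f).Opens) : Scheme.{u}) M)) := by
  obtain ⟨U', hU'⟩ : ∃ U' : (pullback t f).Opens, U' = (pullback.snd t f) ⁻¹ᵁ U := ⟨_, rfl⟩
  rw [← hU']
  obtain ⟨b, hb⟩ : ∃ b : (U' : Scheme.{u}) ⟶ (U : Scheme.{u}),
      b ≫ U.ι = U'.ι ≫ pullback.snd t f := by
    refine ⟨IsOpenImmersion.lift U.ι (U'.ι ≫ pullback.snd t f) ?_,
      IsOpenImmersion.lift_fac _ _ _⟩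
    rintro _ ⟨w, rfl⟩
    rw [Scheme.Opens.range_ι]
    exact hU'.le w.2
  have hw : (U'.ι ≫ pullback.fst t f) ≫ t = b ≫ U.ι ≫ f := by
    rw [Category.assoc, pullback.condition, ← Category.assoc, ← hb, Category.assoc]
  exact ⟨(bcCompIso (U'.ι ≫ pullback.fst t f) t H).symm ≪≫ bcTriv b (U.ι ≫ f) _ hw H M e⟩

/-- base change of a group of multiplicative type and of finite type. -/
theorem isMultTypeFT_bc {S T : Scheme.{u}} (H : Over S) [GrpObj H] (hH : SGA3x.IsMultTypeFT H)
    (t : T ⟶ S) : SGA3x.IsMultTypeFT (Red.bc t H) := by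
  obtain ⟨S₁, f, hfl, hsurj, hcov, hloc⟩ := hH
  haveI := hfl
  haveI := hsurj
  refine ⟨pullback t f, pullback.fst t f, inferInstance, inferInstance,
    cov_pullback_fst t f hcov, fun x => ?_⟩
  obtain ⟨U, hxU, M, inst, hM, ⟨e⟩⟩ := hloc ((pullback.snd t f) x)
  exact ⟨(pullback.snd t f) ⁻¹ᵁ U, hxU, M, inst, hM, exists_triv_preimage H t f U M e⟩

/-- base change of a group of multiplicative type. -/
theorem locally_bc {S T : Scheme.{u}} (H : Over S) [GrpObj H]
    (hH : TwC.Locally S TwC.Topology.fpqc (fun S' f => ∃ (M : Type) (_ : AddCommGroup M),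
      Nonempty (Grp.mk (Red.bc f H) ≅ Grp.mk (Red.DS S' M)))) (t : T ⟶ S) :
    TwC.Locally T TwC.Topology.fpqc (fun T' g => ∃ (M : Type) (_ : AddCommGroup M),
      Nonempty (Grp.mk (Red.bc g (Red.bc t H)) ≅ Grp.mk (Red.DS T' M))) := by
  obtain ⟨S₁, f, hfl, hsurj, hcov, hloc⟩ := hH
  haveI := hfl
  haveI := hsurj
  refine ⟨pullback t f, pullback.fst t f, inferInstance, inferInstance,
    cov_pullback_fst t f hcov, fun x => ?_⟩
  obtain ⟨U, hxU, M, inst, ⟨e⟩⟩ := hloc ((pullback.snd t f) x)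
  exact ⟨(pullback.snd t f) ⁻¹ᵁ U, hxU, M, inst, exists_triv_preimage H t f U M e⟩

end Groth.Agent.Lib.R2H3.MultTypeBC
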