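import Groth.Agent.Lib.R2H3MonoFib
import Groth.Agent.Lib.Helper12Descent

/-!
# Properties of the structure morphism of a group of multiplicative type and of finite type
(helper3, round 2)

* `prop_of_isMultTypeFT`: a property of morphisms which is Zariski-local on the target, stable
  under base change and descends along fpqc morphisms holds for the structure morphism of a group
  of multiplicative type and of finite type as soon as it holds for the diagonalisable groups
  `D_U(M)` with `M` finitely generated.
* `isAffineHom_of_isMultTypeFT`, `lfp_of_isMultTypeFT`, `isSeparated_of_isMultTypeFT`,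
  `quasiCompact_of_isMultTypeFT`.
-/

set_option autoImplicit false
set_option linter.style.haveILetI false
set_option linter.unusedVariables false

universe u

open CategoryTheory CategoryTheory.Limits AlgebraicGeometry MorphismProperty

namespace Groth.Agent.Lib.R2H3.MultTypeProps

theorem prop_of_isMultTypeFT (P : MorphismProperty Scheme.{u}) [IsZariskiLocalAtTarget P]
    [P.IsStableUnderBaseChange] [P.DescendsAlong (@Surjective ⊓ @Flat ⊓ @QuasiCompact)]
    (hP : ∀ (U : Scheme.{u}) (M : Type) [AddCommGroup M], AddGroup.FG M → P (Red.DS U M).hom)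
    {S : Scheme.{u}} (H : Over S) [GrpObj H] (hH : SGA3x.IsMultTypeFT H) : P H.hom := by
  obtain ⟨S', f, hfl, hsurj, hqc, hloc⟩ := hH
  haveI := hfl
  refine LocDesc.of_locally_fpqc (P := P) H.hom f hqc fun s' => ?_
  obtain ⟨U, hU, M, inst, hM, ⟨e⟩⟩ := hloc s'
  refine ⟨U, hU, ?_⟩
  let e' : Red.bc (U.ι ≫ f) H ≅ Red.DS (U : Scheme.{u}) M := (Grp.forget _).mapIso e
  have hw : e'.hom.left ≫ (Red.DS (U : Scheme.{u}) M).hom = (Red.bc (U.ι ≫ f) H).hom :=
    Over.w e'.hom
  change P (Red.bc (U.ι ≫ f) H).hom
  rw [← hw]
  haveI : IsIso e'.hom.left := inferInstance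
  exact (P.cancel_left_of_respectsIso e'.hom.left _).mpr (hP _ M hM)

/-- `Spec R[M] ⟶ Spec R` is of finite presentation for `M` finitely generated and `R`
Noetherian. -/
theorem lfp_diag (R : Type u) [CommRing R] [IsNoetherianRing R] (M : Type) [AddCommGroup M]
    (hM : AddGroup.FG M) : LocallyOfFinitePresentation (Red.diag R M).hom := by
  haveI : AddMonoid.FG M := AddGroup.fg_iff_addMonoid_fg.mp hM
  haveI : Monoid.FG (Multiplicative M) := inferInstance
  have hft : Algebra.FiniteType R (MonoidAlgebra R (Multiplicative M)) :=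
    MonoidAlgebra.finiteType_of_fg
  have hfp : Algebra.FinitePresentation R (MonoidAlgebra R (Multiplicative M)) :=
    Algebra.FinitePresentation.of_finiteType.mp hft
  change LocallyOfFinitePresentation
    (Spec.map (CommRingCat.ofHom (algebraMap R (MonoidAlgebra R (Multiplicative M)))))
  rw [HasRingHomProperty.Spec_iff (P := @LocallyOfFinitePresentation)]
  exact (RingHom.finitePresentation_algebraMap (A := R)
    (B := MonoidAlgebra R (Multiplicative M))).mpr hfp

theorem lfp_DS (U : Scheme.{u}) (M : Type) [AddCommGroup M] (hM : AddGroup.FG M) :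
    LocallyOfFinitePresentation (Red.DS U M).hom := by
  haveI : IsNoetherianRing (ULift.{u} ℤ) := isNoetherianRing_of_ringEquiv ℤ ULift.ringEquiv.symm
  haveI := lfp_diag (ULift.{u} ℤ) M hM
  change LocallyOfFinitePresentation (pullback.snd (Red.diag (ULift.{u} ℤ) M).hom _)
  infer_instance

theorem isAffineHom_DS (U : Scheme.{u}) (M : Type) [AddCommGroup M] :
    IsAffineHom (Red.DS U M).hom := by
  haveI : IsAffineHom (Red.diag (ULift.{u} ℤ) M).hom := by
    change IsAffineHom
      (Spec.map (CommRingCat.ofHom (algebraMap (ULift.{u} ℤ)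
        (MonoidAlgebra (ULift.{u} ℤ) (Multiplicative M)))))
    infer_instance
  change IsAffineHom (pullback.snd (Red.diag (ULift.{u} ℤ) M).hom _)
  exact MorphismProperty.pullback_snd (P := @IsAffineHom) _ _ inferInstance

theorem lfp_of_isMultTypeFT {S : Scheme.{u}} (H : Over S) [GrpObj H]
    (hH : SGA3x.IsMultTypeFT H) : LocallyOfFinitePresentation H.hom :=
  prop_of_isMultTypeFT @LocallyOfFinitePresentation (fun U M _ hM => lfp_DS U M hM) H hH

theorem isAffineHom_of_isMultTypeFT {S : Scheme.{u}} (H : Over S) [GrpObj H]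
    (hH : SGA3x.IsMultTypeFT H) : IsAffineHom H.hom := by
  haveI := Groth.Agent.Lib.Helper12.descendsAlong_isAffineHom.{u}
  exact prop_of_isMultTypeFT @IsAffineHom (fun U M _ hM => isAffineHom_DS U M) H hH

theorem isSeparated_of_isMultTypeFT {S : Scheme.{u}} (H : Over S) [GrpObj H]
    (hH : SGA3x.IsMultTypeFT H) : IsSeparated H.hom := by
  haveI := isAffineHom_of_isMultTypeFT H hH
  infer_instance

theorem quasiCompact_of_isMultTypeFT {S : Scheme.{u}} (H : Over S) [GrpObj H]
    (hH : SGA3x.IsMultTypeFT H) : QuasiCompact H.hom := by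
  haveI := isAffineHom_of_isMultTypeFT H hH
  infer_instance

end Groth.Agent.Lib.R2H3.MultTypeProps
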