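import Groth.Agent.Lib.R2H3UnitLocusSep
import Groth.Agent.Lib.R2H3MultTypeProps
import Groth.Agent.Lib.R2H3MultTypeBC

/-!
# The centralizing locus of a point normalizing a subgroup of multiplicative type
(helper3, round 2)

Let `i : H ⟶ G` be a monomorphism of `S`-groups with `H` of multiplicative type and of finite
type, `N` an `S`-scheme and `n : N ⟶ G` a point of `G` normalizing `H` (`n h n⁻¹` is a point of `H`
for all points `h` of `H`).  Then the condition "`n` centralizes `H`" is represented by an open and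
closed subscheme of `N` (`exists_clopen_cent`): conjugation by `n` is an endomorphism `c` of the
`N`-group `H_N`, and the unit locus of the homomorphism `c · id⁻¹` is open and closed.
-/

set_option autoImplicit false
set_option linter.style.haveILetI false
set_option linter.unusedVariables false
set_option linter.unusedSectionVars false

universe u

open CategoryTheory MonoidalCategory CartesianMonoidalCategory MonObj GrpObj AlgebraicGeometry
  CategoryTheory.Limits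
open Groth.Agent.Lib.Helper27.GaGm Groth.Agent.Lib.H6xDSPts Groth.Agent.Lib.R2H3.MultAct
  Groth.Agent.Lib.R2H3.FpqcLocal Groth.Agent.Lib.R2H3.UnitLocus

namespace Groth.Agent.Lib.R2H3.CentNorm

/-- multiplicativity on points implies being a homomorphism (for groups). -/
theorem isMonHom_of_forall_mul {C : Type*} [Category C] [CartesianMonoidalCategory C] {X Y : C}
    [GrpObj X] [GrpObj Y] (f : X ⟶ Y)
    (hmul : ∀ (T : C) (x y : T ⟶ X), (x * y) ≫ f = (x ≫ f) * (y ≫ f)) : IsMonHom f := by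
  apply Groth.Agent.Lib.H6xDSPts.isMonHom_of_pts f _ hmul
  have h := hmul (𝟙_ C) 1 1
  rw [_root_.mul_one] at h
  exact (mul_eq_left (a := (1 : 𝟙_ C ⟶ X) ≫ f) (b := (1 : 𝟙_ C ⟶ X) ≫ f)).mp h.symm

/-- a group of multiplicative type is commutative. -/
theorem comm_of_multType' {S : Scheme.{u}} {H : Over S} [GrpObj H]
    (hH : TwC.Locally S TwC.Topology.fpqc (fun S' f => ∃ (M : Type) (_ : AddCommGroup M),
      Nonempty (Grp.mk (Red.bc f H) ≅ Grp.mk (Red.DS S' M))))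
    (Y : Over S) (x y : Y ⟶ H) : x * y = y * x := by
  obtain ⟨S', f, hflat, hsurj, -, hloc⟩ := hH
  haveI : Epi (pullback.fst Y.hom f) := Flat.epi_of_flat_of_surjective _
  apply Over.OverMorphism.ext
  rw [← cancel_epi (pullback.fst Y.hom f)]
  apply Scheme.hom_ext_of_forall
  intro z
  obtain ⟨V, hs'V, M, instM, ⟨e⟩⟩ := hloc ((pullback.snd Y.hom f) z)
  refine ⟨(pullback.snd Y.hom f) ⁻¹ᵁ V, hs'V, ?_⟩
  obtain ⟨t, ht⟩ : ∃ t : ((pullback.snd Y.hom f) ⁻¹ᵁ V).toScheme ⟶ V.toScheme,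
      t ≫ V.ι = ((pullback.snd Y.hom f) ⁻¹ᵁ V).ι ≫ pullback.snd Y.hom f :=
    ⟨(pullback.snd Y.hom f).resLE V _ le_rfl, Scheme.Hom.resLE_comp_ι _ _⟩
  obtain ⟨j, hj⟩ : ∃ j : (Over.map (V.ι ≫ f)).obj (Over.mk t) ⟶ Y,
      j.left = ((pullback.snd Y.hom f) ⁻¹ᵁ V).ι ≫ pullback.fst Y.hom f := by
    refine ⟨Over.homMk (((pullback.snd Y.hom f) ⁻¹ᵁ V).ι ≫ pullback.fst Y.hom f) ?_, rfl⟩
    simp only [Over.map_obj_left, Over.mk_left, Over.map_obj_hom, Over.mk_hom, Category.assoc]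
    rw [pullback.condition, ← Category.assoc, ← ht, Category.assoc]
  -- commutativity of the points over `Over.mk t`
  have key : (j ≫ x) * (j ≫ y) = (j ≫ y) * (j ≫ x) := by
    obtain ⟨a, ha⟩ : ∃ a : Red.bc (V.ι ≫ f) H ⟶ Red.DS (V : Scheme.{u}) M, a = e.hom.hom.hom :=
      ⟨_, rfl⟩
    obtain ⟨b, hb⟩ : ∃ b : Red.DS (V : Scheme.{u}) M ⟶ Red.bc (V.ι ≫ f) H, b = e.inv.hom.hom :=
      ⟨_, rfl⟩
    haveI : IsMonHom a := by rw [ha]; infer_instance
    haveI : IsMonHom b := by rw [hb]; infer_instance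
    have hab : a ≫ b = 𝟙 _ := by
      rw [ha, hb, ← Grp.comp_hom_hom, e.hom_inv_id, Grp.id_hom_hom]
    obtain ⟨x', hx'⟩ : ∃ x' : Over.mk t ⟶ Red.bc (V.ι ≫ f) H,
        adjE (V.ι ≫ f) H (Over.mk t) x' = j ≫ x := ⟨_, Equiv.apply_symm_apply _ _⟩
    obtain ⟨y', hy'⟩ : ∃ y' : Over.mk t ⟶ Red.bc (V.ι ≫ f) H,
        adjE (V.ι ≫ f) H (Over.mk t) y' = j ≫ y := ⟨_, Equiv.apply_symm_apply _ _⟩
    have hc : (x' ≫ a) * (y' ≫ a) = (y' ≫ a) * (x' ≫ a) := by
      apply dsFn_ext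
      intro m
      rw [dsFn_mul, dsFn_mul, mul_comm]
    have hc2 : x' * y' = y' * x' := by
      have h3 := congrArg (fun t => t ≫ b) hc
      simp only [MonObj.mul_comp _ _ b, Category.assoc, hab, Category.comp_id] at h3
      exact h3
    rw [← hx', ← hy', ← adjE_mul, ← adjE_mul, hc2]
  rw [← MonObj.comp_mul, ← MonObj.comp_mul] at key
  have h2 := congrArg (fun t => t.left) key
  simp only [Over.comp_left] at h2
  rw [hj, Category.assoc, Category.assoc] at h2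
  exact h2

section Conj

variable {S : Scheme.{u}} {H G : Over S} [GrpObj H] [GrpObj G] (i : H ⟶ G) [IsMonHom i] [Mono i]
  (N : Over S) (n : N ⟶ G)
  (hn : ∀ (X' : Over S) (x : X' ⟶ N) (h : X' ⟶ H),
    ∃ h' : X' ⟶ H, (x ≫ n) * (h ≫ i) * (x ≫ n)⁻¹ = h' ≫ i)

/-- the conjugate of a point of `H` by a point of `N`. -/
noncomputable def cj {X' : Over S} (x : X' ⟶ N) (h : X' ⟶ H) : X' ⟶ H := (hn X' x h).choose

lemma cj_spec {X' : Over S} (x : X' ⟶ N) (h : X' ⟶ H) :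
    cj i N n hn x h ≫ i = (x ≫ n) * (h ≫ i) * (x ≫ n)⁻¹ := (hn X' x h).choose_spec.symm

lemma cj_comp {X' X'' : Over S} (k : X'' ⟶ X') (x : X' ⟶ N) (h : X' ⟶ H) :
    k ≫ cj i N n hn x h = cj i N n hn (k ≫ x) (k ≫ h) := by
  rw [← cancel_mono i, Category.assoc, cj_spec, cj_spec, MonObj.comp_mul, MonObj.comp_mul,
    GrpObj.comp_inv, Category.assoc, Category.assoc]

lemma cj_mul {X' : Over S} (x : X' ⟶ N) (h₁ h₂ : X' ⟶ H) :
    cj i N n hn x (h₁ * h₂) = cj i N n hn x h₁ * cj i N n hn x h₂ := by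
  rw [← cancel_mono i, MonObj.mul_comp, cj_spec, cj_spec, cj_spec, MonObj.mul_comp]
  group

lemma cj_eq_self_iff {X' : Over S} (x : X' ⟶ N) (h : X' ⟶ H) :
    cj i N n hn x h = h ↔ (x ≫ n) * (h ≫ i) = (h ≫ i) * (x ≫ n) := by
  rw [← cancel_mono i, cj_spec, mul_inv_eq_iff_eq_mul]

/-- the tautological point of `N` with values in an `N`-scheme. -/
def pt (Y : Over N.left) : (Over.map N.hom).obj Y ⟶ N := Over.homMk Y.hom rfl

lemma map_comp_pt {Y Y' : Over N.left} (k : Y' ⟶ Y) : (Over.map N.hom).map k ≫ pt N Y = pt N Y' := by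
  apply Over.OverMorphism.ext
  exact Over.w k

/-- the difference `c · id⁻¹` of conjugation by `n` and the identity of `H_N`. -/
noncomputable def dCj : Red.bc N.hom H ⟶ Red.bc N.hom H :=
  (adjE N.hom H (Red.bc N.hom H)).symm
    (cj i N n hn (pt N (Red.bc N.hom H)) (adjE N.hom H _ (𝟙 _)) * (adjE N.hom H _ (𝟙 _))⁻¹)

lemma adjE_comp_dCj (Y : Over N.left) (y : Y ⟶ Red.bc N.hom H) :
    adjE N.hom H Y (y ≫ dCj i N n hn) =
      cj i N n hn (pt N Y) (adjE N.hom H Y y) * (adjE N.hom H Y y)⁻¹ := by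
  unfold dCj
  rw [adjE_comp, Equiv.apply_symm_apply, MonObj.comp_mul, GrpObj.comp_inv, cj_comp, map_comp_pt,
    ← adjE_comp, Category.comp_id]

variable (hcomm : ∀ (Y : Over S) (a b : Y ⟶ H), a * b = b * a)

include hcomm in
theorem isMonHom_dCj : IsMonHom (dCj i N n hn) := by
  apply isMonHom_of_forall_mul
  intro T x y
  apply (adjE N.hom H T).injective
  rw [adjE_mul, adjE_comp_dCj, adjE_comp_dCj, adjE_comp_dCj, adjE_mul, cj_mul, _root_.mul_inv_rev]
  obtain ⟨a, ha⟩ : ∃ a, a = cj i N n hn (pt N T) (adjE N.hom H T x) := ⟨_, rfl⟩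
  obtain ⟨b, hb⟩ : ∃ b, b = cj i N n hn (pt N T) (adjE N.hom H T y) := ⟨_, rfl⟩
  rw [← ha, ← hb]
  have h1 := hcomm _ b (adjE N.hom H T x)⁻¹
  have h2 := hcomm _ (adjE N.hom H T y)⁻¹ (adjE N.hom H T x)⁻¹
  calc a * b * ((adjE N.hom H T y)⁻¹ * (adjE N.hom H T x)⁻¹)
      = a * b * ((adjE N.hom H T x)⁻¹ * (adjE N.hom H T y)⁻¹) := by rw [h2]
    _ = a * (b * (adjE N.hom H T x)⁻¹) * (adjE N.hom H T y)⁻¹ := by group
    _ = a * ((adjE N.hom H T x)⁻¹ * b) * (adjE N.hom H T y)⁻¹ := by rw [h1]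
    _ = a * (adjE N.hom H T x)⁻¹ * (b * (adjE N.hom H T y)⁻¹) := by group

/-- the point `t` of `N` centralizes `H`. -/
def Cent (T : Scheme.{u}) (t : T ⟶ N.left) : Prop :=
  ∀ (X' : Over S) (x : X' ⟶ N), (∃ a : X'.left ⟶ T, a ≫ t = x.left) →
    ∀ h : X' ⟶ H, (x ≫ n) * (h ≫ i) = (h ≫ i) * (x ≫ n)

theorem trivS_dCj_iff (T : Scheme.{u}) (t : T ⟶ N.left) :
    TrivS (dCj i N n hn) T t ↔ Cent i N n T t := by
  constructor
  · rintro htr X' x ⟨a, ha⟩ h
    obtain ⟨k', hk'⟩ : ∃ k' : (Over.map N.hom).obj (Over.mk (a ≫ t)) ⟶ X', k'.left = 𝟙 _ :=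
      ⟨Over.homMk (𝟙 _) (by
        change 𝟙 _ ≫ X'.hom = (a ≫ t) ≫ N.hom
        rw [Category.id_comp, ha, Over.w x]), rfl⟩
    haveI : IsIso k'.left := by rw [hk']; infer_instance
    haveI : IsIso k' := by
      haveI : IsIso ((Over.forget _).map k') := ‹IsIso k'.left›
      exact isIso_of_reflects_iso k' (Over.forget _)
    have h1 := htr (Over.mk (a ≫ t)) a rfl ((adjE N.hom H _).symm (k' ≫ h))
    have h2 := congrArg (adjE N.hom H (Over.mk (a ≫ t))) h1
    rw [adjE_comp_dCj, adjE_one, Equiv.apply_symm_apply, mul_inv_eq_one, cj_eq_self_iff] at h2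
    have h3 : pt N (Over.mk (a ≫ t)) = k' ≫ x := by
      apply Over.OverMorphism.ext
      change a ≫ t = k'.left ≫ x.left
      rw [hk', Category.id_comp, ha]
    rw [h3, Category.assoc, Category.assoc, ← MonObj.comp_mul, ← MonObj.comp_mul] at h2
    exact (cancel_epi k').mp h2
  · intro hc Y a ha y
    apply (adjE N.hom H Y).injective
    rw [adjE_comp_dCj, adjE_one, mul_inv_eq_one, cj_eq_self_iff]
    exact hc _ (pt N Y) ⟨a, ha⟩ _

end Conj

section Main

variable {S : Scheme.{u}} {H G : Over S} [GrpObj H] [GrpObj G] (i : H ⟶ G) [IsMonHom i] [Mono i]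
  (N : Over S) (n : N ⟶ G)

/-- **The centralizing locus of a normalizing point is open and closed.** -/
theorem exists_clopen_cent (hH : SGA3x.IsMultTypeFT H)
    (hn : ∀ (X' : Over S) (x : X' ⟶ N) (h : X' ⟶ H),
      ∃ h' : X' ⟶ H, (x ≫ n) * (h ≫ i) * (x ≫ n)⁻¹ = h' ≫ i) :
    ∃ U : N.left.Opens, IsClosed (U : Set N.left) ∧
      ∀ (T : Scheme.{u}) (t : T ⟶ N.left), Cent i N n T t ↔ Set.range t ⊆ (U : Set N.left) := by
  have hcomm : ∀ (Y : Over S) (a b : Y ⟶ H), a * b = b * a :=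
    comm_of_multType' (Groth.Agent.Lib.R2H3.MultAct.locally_of_isMultTypeFT hH)
  haveI := isMonHom_dCj i N n hn hcomm
  have hHB : SGA3x.IsMultTypeFT (Red.bc N.hom H) :=
    Groth.Agent.Lib.R2H3.MultTypeBC.isMultTypeFT_bc H hH N.hom
  haveI : IsAffineHom (Red.bc N.hom H).hom :=
    Groth.Agent.Lib.R2H3.MultTypeProps.isAffineHom_of_isMultTypeFT _ hHB
  haveI : LocallyOfFinitePresentation (Red.bc N.hom H).hom :=
    Groth.Agent.Lib.R2H3.MultTypeProps.lfp_of_isMultTypeFT _ hHB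
  haveI : IsSeparated (Red.bc N.hom H).hom := inferInstance
  haveI : QuasiCompact (Red.bc N.hom H).hom := inferInstance
  haveI : QuasiSeparated (Red.bc N.hom H).hom := inferInstance
  obtain ⟨U, hU, h1, h2⟩ := exists_clopen_trivS (Red.bc N.hom H) (Red.bc N.hom H) hHB
    (Or.inr ⟨inferInstance, inferInstance, inferInstance⟩) (dCj i N n hn)
  refine ⟨U, hU, fun T t => ?_⟩
  rw [← trivS_dCj_iff i N n hn]
  constructor
  · rintro htr _ ⟨x, rfl⟩
    have h3 := trivS_precomp (dCj i N n hn) (T.fromSpecResidueField x) t htr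
    have h4 := trivS_residue_of_field (dCj i N n hn) _ h3
    have h5 := (h1 _).mpr h4
    have h6 : (T.fromSpecResidueField x ≫ t) (IsLocalRing.closedPoint (T.residueField x)) =
        t x := by
      rw [Scheme.Hom.comp_apply, Scheme.fromSpecResidueField_apply]
    exact h6 ▸ h5
  · intro hr
    have hrange : Set.range t ⊆ Set.range U.ι := by
      rw [Scheme.Opens.range_ι]
      exact hr
    have h3 := trivS_precomp (dCj i N n hn) (IsOpenImmersion.lift U.ι t hrange) U.ι h2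
    rwa [IsOpenImmersion.lift_fac] at h3

/-- **The centralizer of a subgroup of multiplicative type is open and closed in its
normalizer.** -/
theorem exists_clopen_immersion_cent_norm (hH : SGA3x.IsMultTypeFT H)
    {Z : Over S} [GrpObj Z] [GrpObj N] (j : Z ⟶ G)
    (hj : Red.IsCentralizerOf i j) (hk : Red.IsNormalizerOf i n) :
    ∃ f : Z ⟶ N, f ≫ n = j ∧ IsOpenImmersion f.left ∧ IsClosedImmersion f.left := by
  obtain ⟨-, hjm, hjc⟩ := hj
  obtain ⟨-, hkm, hkn⟩ := hk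
  haveI := hjm
  haveI := hkm
  -- points of the centralizer commute with `H`
  have hZc : ∀ (X' : Over S) (x : X' ⟶ Z) (h : X' ⟶ H),
      (x ≫ j) * (h ≫ i) = (h ≫ i) * (x ≫ j) :=
    (hjc Z j).mp ⟨𝟙 Z, Category.id_comp j⟩
  -- the normalizer normalizes
  have hn : ∀ (X' : Over S) (x : X' ⟶ N) (h : X' ⟶ H),
      ∃ h' : X' ⟶ H, (x ≫ n) * (h ≫ i) * (x ≫ n)⁻¹ = h' ≫ i := fun X' x h =>
    ((hkn N n).mp ⟨𝟙 N, Category.id_comp n⟩ X' x h).1
  -- the morphism `f`
  obtain ⟨f, hf⟩ : ∃ f : Z ⟶ N, f ≫ n = j := by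
    apply (hkn Z j).mpr
    intro X' x h
    have hc := hZc X' x h
    refine ⟨⟨h, ?_⟩, ⟨h, ?_⟩⟩
    · rw [hc, mul_inv_cancel_right]
    · rw [_root_.mul_assoc, ← hc, inv_mul_cancel_left]
  refine ⟨f, hf, ?_⟩
  obtain ⟨U, hU, hcent⟩ := exists_clopen_cent i N n hH hn
  -- `f` lands in `U`
  have hfU : Set.range f.left ⊆ (U : Set N.left) := by
    rw [← hcent]
    rintro X' x ⟨a, ha⟩ h
    obtain ⟨x', hx'⟩ : ∃ x' : X' ⟶ Z, x'.left = a := ⟨Over.homMk a (by
      rw [← Over.w f, ← Category.assoc, ha, Over.w x]), rfl⟩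
    have hxx : x = x' ≫ f := by
      apply Over.OverMorphism.ext
      rw [Over.comp_left, hx', ha]
    rw [hxx, Category.assoc, hf]
    exact hZc X' x' h
  have hrange : Set.range f.left ⊆ Set.range U.ι := by
    rw [Scheme.Opens.range_ι]
    exact hfU
  obtain ⟨f', hf'⟩ : ∃ f' : Z.left ⟶ (U : Scheme.{u}), f' ≫ U.ι = f.left :=
    ⟨IsOpenImmersion.lift U.ι f.left hrange, IsOpenImmersion.lift_fac _ _ _⟩
  -- the point `U.ι` of `N` centralizes `H`
  obtain ⟨nU, hnU⟩ : ∃ nU : Over.mk (U.ι ≫ N.hom) ⟶ N, nU.left = U.ι := ⟨Over.homMk U.ι rfl, rfl⟩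
  have hcU : Cent i N n U U.ι := (hcent U U.ι).mpr (by rw [Scheme.Opens.range_ι])
  obtain ⟨z, hz⟩ : ∃ z : Over.mk (U.ι ≫ N.hom) ⟶ Z, z ≫ j = nU ≫ n := by
    apply (hjc _ (nU ≫ n)).mpr
    intro X' x h
    rw [← Category.assoc]
    exact hcU X' (x ≫ nU) ⟨x.left, by rw [Over.comp_left, hnU]⟩ h
  -- `f'` is an isomorphism
  have h1 : z ≫ f = nU := by
    rw [← cancel_mono n, Category.assoc, hf, hz]
  have h2 : z.left ≫ f' = 𝟙 _ := by
    rw [← cancel_mono U.ι, Category.assoc, hf', ← Over.comp_left, h1, hnU, Category.id_comp]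
  have h3 : f' ≫ z.left = 𝟙 _ := by
    haveI : Mono j.left := inferInstance
    rw [← cancel_mono j.left, Category.assoc, ← Over.comp_left, hz, Over.comp_left, hnU,
      ← Category.assoc, hf', ← Over.comp_left, hf, Category.id_comp]
  haveI : IsIso f' := ⟨z.left, h3, h2⟩
  have hopen : IsOpenImmersion f.left := by
    rw [← hf']
    infer_instance
  refine ⟨hopen, ?_⟩
  haveI := hopen
  apply IsClosedImmersion.of_isPreimmersion
  have hr : Set.range f.left = (U : Set N.left) := by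
    have hsurj : Function.Surjective f' := f'.homeomorph.surjective
    rw [← hf', Scheme.Hom.comp_base, TopCat.coe_comp, Set.range_comp,
      Set.range_eq_univ.mpr hsurj, Set.image_univ, Scheme.Opens.range_ι]
  rw [hr]
  exact hU

end Main

end Groth.Agent.Lib.R2H3.CentNorm
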