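import Groth.Agent.Lib.R2H3FreeActGeo
import Groth.Agent.Lib.R2H3BCDescent
import Groth.Agent.Lib.R2H3ActPt

/-!
# Free actions of groups of multiplicative type on affine schemes (helper3, round 2)

`PtAction.isClosedImmersion_graph_of_free`: for a free action (on points) of an `S`-group of
multiplicative type `G` on an `S`-scheme `X` affine over `S`, the graph morphism
`G ×_S X ⟶ X ×_S X`, `(g, x) ↦ (g x, x)`, is a closed immersion.  Reductions: fpqc descent over the
base (`BCDescent.descend_over`) to the diagonalisable case over an affine base, then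
`isClosedImmersion_graph_affine`.
-/

set_option autoImplicit false
set_option linter.style.haveILetI false
set_option linter.unusedVariables false
set_option linter.unusedSectionVars false

universe u

open CategoryTheory MonoidalCategory CartesianMonoidalCategory MonObj GrpObj AlgebraicGeometry
  CategoryTheory.Limits
open Groth.Agent.Lib.Helper27.GaGm Groth.Agent.Lib.H6xDSPts
open Groth.Agent.Lib.R2H3.FpqcLocal

namespace Groth.Agent.Lib.R2H3.MultAct

section Graph

variable {W : Scheme.{u}} {Gw Xw : Over W} [GrpObj Gw] (P : PtAction Gw Xw)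

/-- the graph morphism `(g, x) ↦ (g x, x)` of an action on points. -/
noncomputable def PtAction.graph : Gw ⊗ Xw ⟶ Xw ⊗ Xw :=
  lift (P.smul (fst Gw Xw) (snd Gw Xw)) (snd Gw Xw)

@[reassoc]
lemma PtAction.graph_fst : P.graph ≫ fst Xw Xw = P.smul (fst Gw Xw) (snd Gw Xw) := lift_fst _ _

@[reassoc]
lemma PtAction.graph_snd : P.graph ≫ snd Xw Xw = snd Gw Xw := lift_snd _ _

/-- the graph of the restriction along a homomorphism. -/
lemma PtAction.comap_graph {Gw' : Over W} [GrpObj Gw'] (u : Gw' ⟶ Gw) [IsMonHom u] :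
    (P.comap u).graph = (u ▷ Xw) ≫ P.graph := by
  apply CartesianMonoidalCategory.hom_ext
  · rw [PtAction.graph_fst, Category.assoc, PtAction.graph_fst, P.comp_smul, whiskerRight_fst,
      whiskerRight_snd]
    rfl
  · rw [PtAction.graph_snd, Category.assoc, PtAction.graph_snd, whiskerRight_snd]

/-- transport of an action along an isomorphism of the scheme acted on. -/
noncomputable def PtAction.transport {Xw' : Over W} (j : Xw' ≅ Xw) : PtAction Gw Xw' where
  smul g x := P.smul g (x ≫ j.hom) ≫ j.inv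
  one_smul x := by rw [P.one_smul, Category.assoc, j.hom_inv_id, Category.comp_id]
  mul_smul g h x := by
    rw [P.mul_smul, Category.assoc, j.inv_hom_id, Category.comp_id]
  comp_smul k g x := by
    rw [← Category.assoc, P.comp_smul, Category.assoc]

lemma PtAction.transport_smul {Xw' : Over W} (j : Xw' ≅ Xw) {Y : Over W} (g : Y ⟶ Gw)
    (x : Y ⟶ Xw') : (P.transport j).smul g x = P.smul g (x ≫ j.hom) ≫ j.inv := rfl

end Graph

section BaseChange

variable {S W : Scheme.{u}} (w : W ⟶ S) {G X : Over S} [GrpObj G] (P : PtAction G X)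

lemma adjE_pullback_map {Y Z : Over S} (k : Y ⟶ Z) :
    adjE w Z ((Over.pullback w).obj Y) ((Over.pullback w).map k)
      = (Over.mapPullbackAdj w).counit.app Y ≫ k := by
  unfold adjE
  rw [Adjunction.homEquiv_counit]
  exact (Over.mapPullbackAdj w).counit.naturality k

/-- base change of the action is compatible with base change of points. -/
lemma PtAction.bc_smul_map {Y : Over S} (g : Y ⟶ G) (x : Y ⟶ X) :
    (P.bc w).smul ((Over.pullback w).map g) ((Over.pullback w).map x)
      = (Over.pullback w).map (P.smul g x) := by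
  apply (adjE w X _).injective
  rw [PtAction.bc_smul, adjE_pullback_map, adjE_pullback_map, adjE_pullback_map, P.comp_smul]

open Functor.OplaxMonoidal in
/-- the base change of the graph is the graph of the base change. -/
lemma PtAction.map_graph :
    (Over.pullback w).map P.graph ≫ δ (Over.pullback w) X X
      = δ (Over.pullback w) G X ≫ (P.bc w).graph := by
  apply CartesianMonoidalCategory.hom_ext
  · rw [Category.assoc, Category.assoc, δ_fst, PtAction.graph_fst, ← Functor.map_comp,
      PtAction.graph_fst, (P.bc w).comp_smul, δ_fst, δ_snd, PtAction.bc_smul_map]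
  · rw [Category.assoc, Category.assoc, δ_snd, PtAction.graph_snd, ← Functor.map_comp,
      PtAction.graph_snd, δ_snd]

open Functor.OplaxMonoidal in
lemma PtAction.isClosedImmersion_map_graph
    (h : IsClosedImmersion (P.bc w).graph.left) :
    IsClosedImmersion ((Over.pullback w).map P.graph).left := by
  have e : (Over.pullback w).map P.graph
      = δ (Over.pullback w) G X ≫ (P.bc w).graph ≫ inv (δ (Over.pullback w) X X) := by
    rw [← Category.assoc, ← PtAction.map_graph, Category.assoc, IsIso.hom_inv_id, Category.comp_id]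
  rw [e, Over.comp_left, Over.comp_left]
  haveI : IsIso (δ (Over.pullback w) G X).left :=
    Functor.map_isIso (Over.forget W) (δ (Over.pullback w) G X)
  haveI : IsIso (inv (δ (Over.pullback w) X X)).left :=
    Functor.map_isIso (Over.forget W) (inv (δ (Over.pullback w) X X))
  infer_instance

lemma PtAction.bc_free
    (hfree : ∀ (Y : Over S) (g : Y ⟶ G) (x : Y ⟶ X), P.smul g x = x → g = 1)
    (Y : Over W) (g : Y ⟶ Red.bc w G) (x : Y ⟶ Red.bc w X) (h : (P.bc w).smul g x = x) :
    g = 1 := by
  apply (adjE w G Y).injective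
  rw [adjE_one]
  apply hfree _ _ (adjE w X Y x)
  rw [← PtAction.bc_smul, h]

end BaseChange

section Core

variable {W : Scheme.{u}} [IsAffine W] {M : Type} [AddCommGroup M] {Xw : Over W}
  [IsAffine Xw.left] (P : PtAction (Red.DS W M) Xw)

/-- **Free actions, diagonalisable group over an affine base.** -/
theorem PtAction.isClosedImmersion_graph_diag
    (hfree : ∀ (Y : Over W) (g : Y ⟶ Red.DS W M) (x : Y ⟶ Xw), P.smul g x = x → g = 1) :
    IsClosedImmersion P.graph.left := by
  obtain ⟨π, hπ⟩ : ∃ π : Spec (CommRingCat.of Γ(Xw.left, ⊤)) ⟶ W,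
    π = Xw.left.isoSpec.inv ≫ Xw.hom := ⟨_, rfl⟩
  let j : Over.mk π ≅ Xw := Over.isoMk Xw.left.isoSpec.symm (by
    simp only [Over.mk_left, Over.mk_hom, Iso.symm_hom]
    exact hπ.symm)
  haveI : IsAffine (Xw ⊗ Xw).left := by
    change IsAffine (pullback Xw.hom Xw.hom)
    infer_instance
  have hfree' : ∀ (Y : Over W) (g : Y ⟶ Red.DS W M) (x : Y ⟶ Over.mk π),
      (P.transport j).smul g x = x → g = 1 := by
    intro Y g x h
    apply hfree Y g (x ≫ j.hom)
    rw [PtAction.transport_smul] at h
    have h2 := congrArg (fun t => t ≫ j.hom) h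
    simp only [Category.assoc, j.inv_hom_id, Category.comp_id] at h2
    exact h2
  have key := isClosedImmersion_graph_affine π (P.transport j) hfree'
    ((Red.DS W M ◁ j.hom) ≫ P.graph) (fst Xw Xw ≫ j.inv) (snd Xw Xw ≫ j.inv) ?_ ?_
  · have e : P.graph = (Red.DS W M ◁ j.inv) ≫ (Red.DS W M ◁ j.hom) ≫ P.graph := by
      rw [← Category.assoc, ← MonoidalCategory.whiskerLeft_comp, j.inv_hom_id,
        MonoidalCategory.whiskerLeft_id, Category.id_comp]
    rw [e, Over.comp_left]
    haveI : IsIso (Red.DS W M ◁ j.inv).left :=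
      Functor.map_isIso (Over.forget W) (Red.DS W M ◁ j.inv)
    infer_instance
  · rw [Category.assoc, PtAction.graph_fst_assoc, PtAction.transport_smul, ← Category.assoc,
      P.comp_smul, whiskerLeft_fst, whiskerLeft_snd]
  · rw [Category.assoc, PtAction.graph_snd_assoc, whiskerLeft_snd_assoc, j.hom_inv_id,
      Category.comp_id]

end Core

section Main

variable {S : Scheme.{u}} {G X : Over S} [GrpObj G] (P : PtAction G X)

/-- **Free actions of groups of multiplicative type on schemes affine over the base**: the graph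
is a closed immersion. -/
theorem PtAction.isClosedImmersion_graph_of_free
    (hG : TwC.Locally S TwC.Topology.fpqc (fun S' f => ∃ (M : Type) (_ : AddCommGroup M),
      Nonempty (Grp.mk (Red.bc f G) ≅ Grp.mk (Red.DS S' M))))
    (hX : IsAffineHom X.hom)
    (hfree : ∀ (Y : Over S) (g : Y ⟶ G) (x : Y ⟶ X), P.smul g x = x → g = 1) :
    IsClosedImmersion P.graph.left := by
  haveI := Groth.Agent.Lib.Helper12.descendsAlong_isClosedImmersion.{u}
  obtain ⟨S', f, hflat, hsurj, hqc, hloc⟩ := hG
  haveI := hflat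
  refine BCDescent.descend_over P.graph @IsClosedImmersion fun V hV => ?_
  obtain ⟨W₀, q, hq, hQ⟩ := exists_fpqc_over_affine f hqc V hV
  refine ⟨W₀, q, hQ, fun x => ?_⟩
  obtain ⟨U, hxU, M, instM, ⟨e⟩⟩ := hloc (W₀.ι x)
  -- an affine open neighbourhood inside `W₀ ⊓ U`
  obtain ⟨O, hO, hxO, hOle⟩ : ∃ O : S'.Opens, IsAffineOpen O ∧ W₀.ι x ∈ O ∧ O ≤ W₀ ⊓ U := by
    obtain ⟨O, hO, h1, h2⟩ := TopologicalSpace.Opens.isBasis_iff_nbhd.mp
      (S'.isBasis_affineOpens) (U := W₀ ⊓ U) (x := W₀.ι x) ⟨x.2, hxU⟩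
    exact ⟨O, hO, h1, h2⟩
  have hrange : Set.range O.ι ⊆ Set.range W₀.ι := by
    rw [Scheme.Opens.range_ι, Scheme.Opens.range_ι]
    exact fun y hy => (hOle hy).1
  obtain ⟨j, hj⟩ : ∃ j : (O : Scheme.{u}) ⟶ (W₀ : Scheme.{u}), j ≫ W₀.ι = O.ι :=
    ⟨IsOpenImmersion.lift W₀.ι O.ι hrange, IsOpenImmersion.lift_fac _ _ _⟩
  haveI : IsOpenImmersion j := by
    have : IsOpenImmersion (j ≫ W₀.ι) := by rw [hj]; infer_instance
    exact IsOpenImmersion.of_comp j W₀.ι
  refine ⟨O, j, inferInstance, ?_, ?_⟩
  · refine ⟨⟨W₀.ι x, hxO⟩, ?_⟩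
    apply W₀.ι.injective
    rw [← Scheme.Hom.comp_apply, hj]
    rfl
  · have hw : j ≫ q ≫ V.ι = O.ι ≫ f := by rw [hq, ← Category.assoc, hj]
    rw [hw]
    haveI : IsAffine (O : Scheme.{u}) := hO
    -- the trivialisation over `O`
    have hOU : O ≤ U := fun y hy => (hOle hy).2
    let e' : Grp.mk (Red.bc (O.ι ≫ f) G) ≅ Grp.mk (Red.DS (O : Scheme.{u}) M) :=
      bcTriv (S'.homOfLE hOU) (U.ι ≫ f) (O.ι ≫ f) (by rw [← Category.assoc, Scheme.homOfLE_ι])
        G M e
    obtain ⟨u, hu⟩ : ∃ u : Red.DS (O : Scheme.{u}) M ⟶ Red.bc (O.ι ≫ f) G, u = e'.inv.hom.hom :=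
      ⟨_, rfl⟩
    obtain ⟨v, hv⟩ : ∃ v : Red.bc (O.ι ≫ f) G ⟶ Red.DS (O : Scheme.{u}) M, v = e'.hom.hom.hom :=
      ⟨_, rfl⟩
    haveI : IsMonHom u := by rw [hu]; infer_instance
    have hvu : v ≫ u = 𝟙 _ := by
      rw [hu, hv, ← Grp.comp_hom_hom, e'.hom_inv_id, Grp.id_hom_hom]
    have huv : u ≫ v = 𝟙 _ := by
      rw [hu, hv, ← Grp.comp_hom_hom, e'.inv_hom_id, Grp.id_hom_hom]
    apply PtAction.isClosedImmersion_map_graph
    -- the base change of `X` is affine
    haveI : IsAffineHom (Red.bc (O.ι ≫ f) X).hom := by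
      change IsAffineHom (pullback.snd X.hom (O.ι ≫ f))
      infer_instance
    haveI : IsAffine (Red.bc (O.ι ≫ f) X).left :=
      isAffine_of_isAffineHom (Red.bc (O.ι ≫ f) X).hom
    have hfreeD : ∀ (Y : Over (O : Scheme.{u})) (g : Y ⟶ Red.DS (O : Scheme.{u}) M)
        (x : Y ⟶ Red.bc (O.ι ≫ f) X), ((P.bc (O.ι ≫ f)).comap u).smul g x = x → g = 1 := by
      intro Y g x h
      have h1 := PtAction.bc_free (O.ι ≫ f) P hfree Y (g ≫ u) x h
      have h2 : (1 : Y ⟶ Red.DS (O : Scheme.{u}) M) ≫ u = 1 := MonObj.one_comp u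
      calc g = (g ≫ u) ≫ v := by rw [Category.assoc, huv, Category.comp_id]
        _ = ((1 : Y ⟶ Red.DS (O : Scheme.{u}) M) ≫ u) ≫ v := by rw [h1, h2]
        _ = 1 := by rw [Category.assoc, huv, Category.comp_id]
    have key := PtAction.isClosedImmersion_graph_diag ((P.bc (O.ι ≫ f)).comap u) hfreeD
    rw [PtAction.comap_graph] at key
    have e2 : (P.bc (O.ι ≫ f)).graph
        = (v ▷ Red.bc (O.ι ≫ f) X) ≫ (u ▷ Red.bc (O.ι ≫ f) X) ≫ (P.bc (O.ι ≫ f)).graph := by
      rw [← Category.assoc, ← MonoidalCategory.comp_whiskerRight, hvu,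
        MonoidalCategory.id_whiskerRight, Category.id_comp]
    rw [e2, Over.comp_left]
    haveI : IsIso (v ▷ Red.bc (O.ι ≫ f) X) :=
      ⟨u ▷ Red.bc (O.ι ≫ f) X, by
        rw [← MonoidalCategory.comp_whiskerRight, hvu, MonoidalCategory.id_whiskerRight], by
        rw [← MonoidalCategory.comp_whiskerRight, huv, MonoidalCategory.id_whiskerRight]⟩
    haveI : IsIso (v ▷ Red.bc (O.ι ≫ f) X).left :=
      Functor.map_isIso (Over.forget _) (v ▷ Red.bc (O.ι ≫ f) X)
    infer_instance

end Main

section Action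

variable {S : Scheme.{u}} {G X : Over S} [GrpObj G] (a : AlgGrp.Action G X)

lemma PtAction.ofAction_graph : (PtAction.ofAction a).graph = lift a.act (snd G X) := by
  unfold PtAction.graph
  rw [PtAction.ofAction_smul, lift_fst_snd, Category.id_comp]

/-- sections of the first projection are closed immersions when the second factor is separated
over the base. -/
lemma isClosedImmersion_lift_id {A B : Over S} [IsSeparated B.hom] (t : A ⟶ B) :
    IsClosedImmersion (lift (𝟙 A) t).left := by
  haveI : IsSeparated (fst A B).left := by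
    change IsSeparated (pullback.fst A.hom B.hom)
    infer_instance
  have h : (lift (𝟙 A) t).left ≫ (fst A B).left = 𝟙 _ := by
    rw [← Over.comp_left, lift_fst]
    rfl
  haveI : IsClosedImmersion ((lift (𝟙 A) t).left ≫ (fst A B).left) := by
    rw [h]; infer_instance
  exact IsClosedImmersion.of_comp (lift (𝟙 A) t).left (fst A B).left

/-- **Free actions**: graph and orbit maps are closed immersions. -/
theorem isClosedImmersion_graph_and_orbit
    (hG : TwC.Locally S TwC.Topology.fpqc (fun S' f => ∃ (M : Type) (_ : AddCommGroup M),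
      Nonempty (Grp.mk (Red.bc f G) ≅ Grp.mk (Red.DS S' M))))
    (hX : IsAffineHom X.hom)
    (hfree : ∀ (Y : Over S) (g : Y ⟶ G) (x : Y ⟶ X), lift g x ≫ a.act = x → g = 1) :
    IsClosedImmersion (lift a.act (snd G X)).left ∧
      ∀ σ : 𝟙_ (Over S) ⟶ X, IsClosedImmersion (a.orbitMap σ).left := by
  have h1 : IsClosedImmersion (lift a.act (snd G X)).left := by
    rw [← PtAction.ofAction_graph]
    exact PtAction.isClosedImmersion_graph_of_free (PtAction.ofAction a) hG hX
      (fun Y g x h => hfree Y g x h)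
  refine ⟨h1, fun σ => ?_⟩
  haveI := hX
  haveI : IsSeparated X.hom := inferInstance
  have hcomm : a.orbitMap σ ≫ lift (𝟙 X) (toUnit X ≫ σ)
      = lift (𝟙 G) (toUnit G ≫ σ) ≫ lift a.act (snd G X) := by
    apply CartesianMonoidalCategory.hom_ext
    · rw [Category.assoc, Category.assoc, lift_fst, lift_fst, Category.comp_id]
      rfl
    · rw [Category.assoc, Category.assoc, lift_snd, lift_snd, lift_snd, ← Category.assoc]
      congr 1
      exact toUnit_unique _ _
  haveI := isClosedImmersion_lift_id (toUnit X ≫ σ)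
  haveI := isClosedImmersion_lift_id (toUnit G ≫ σ)
  haveI : IsClosedImmersion ((a.orbitMap σ).left ≫ (lift (𝟙 X) (toUnit X ≫ σ)).left) := by
    rw [← Over.comp_left, hcomm, Over.comp_left]
    infer_instance
  exact IsClosedImmersion.of_comp (a.orbitMap σ).left (lift (𝟙 X) (toUnit X ≫ σ)).left

end Action

end Groth.Agent.Lib.R2H3.MultAct
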