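import Groth.Agent.Lib.R2H3TensorConn

/-!
# Connected schemes over an algebraically closed field are geometrically connected
(helper3, round 2)

`connectedSpace_pullback_of_isAlgClosed`: for a connected scheme `X` over an algebraically closed
field `k` and any field extension `L` of `k`, the base change `X ×_k L` is connected.
-/

set_option autoImplicit false
set_option linter.style.haveILetI false

universe u

open CategoryTheory CategoryTheory.Limits AlgebraicGeometry TensorProduct

namespace Groth.Agent.Lib.R2H3.GeomConn

instance surjective_specMap_field {k L : Type u} [Field k] [Field L] (φ : k →+* L) :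
    Surjective (Spec.map (CommRingCat.ofHom φ)) := by
  constructor
  intro x
  haveI : Subsingleton (Spec (CommRingCat.of k)) :=
    inferInstanceAs (Subsingleton (PrimeSpectrum k))
  haveI : Nonempty (Spec (CommRingCat.of L)) := inferInstanceAs (Nonempty (PrimeSpectrum L))
  obtain ⟨y⟩ := ‹Nonempty (Spec (CommRingCat.of L))›
  exact ⟨y, Subsingleton.elim _ _⟩

/-- the fibres of `X ×_k L ⟶ X` are connected, for `k` algebraically closed. -/
theorem connectedSpace_fiber {k L : Type u} [Field k] [IsAlgClosed k] [Field L] (φ : k →+* L)
    {X : Scheme.{u}} (f : X ⟶ Spec (CommRingCat.of k)) (x : X) :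
    ConnectedSpace ↥((pullback.fst f (Spec.map (CommRingCat.ofHom φ))).fiber x) := by
  obtain ⟨ψ, hψ⟩ : ∃ ψ : k →+* X.residueField x,
      X.fromSpecResidueField x ≫ f = Spec.map (CommRingCat.ofHom ψ) := by
    obtain ⟨ψ, hψ⟩ := Spec.map_surjective (X.fromSpecResidueField x ≫ f)
    exact ⟨ψ.hom, hψ.symm⟩
  algebraize [φ, ψ]
  -- the chain of isomorphisms
  let e1 : (pullback.fst f (Spec.map (CommRingCat.ofHom φ))).fiber x ≅
      pullback (X.fromSpecResidueField x) (pullback.fst f (Spec.map (CommRingCat.ofHom φ))) :=
    pullbackSymmetry _ _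
  let e2 : pullback (X.fromSpecResidueField x) (pullback.fst f (Spec.map (CommRingCat.ofHom φ))) ≅
      pullback (X.fromSpecResidueField x ≫ f) (Spec.map (CommRingCat.ofHom φ)) :=
    pullbackRightPullbackFstIso _ _ _
  let e3 : pullback (X.fromSpecResidueField x ≫ f) (Spec.map (CommRingCat.ofHom φ)) ≅
      pullback (Spec.map (CommRingCat.ofHom (algebraMap k (X.residueField x))))
        (Spec.map (CommRingCat.ofHom (algebraMap k L))) := by
    rw [hψ]
  let e4 := pullbackSpecIso k (X.residueField x) L
  haveI : ConnectedSpace ↥(Spec (CommRingCat.of ((X.residueField x) ⊗[k] L))) :=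
    Groth.Agent.Lib.R2H3.TensorConn.connectedSpace_primeSpectrum_tensor
      (k := k) (K := X.residueField x) (L := L)
  exact ((e1 ≪≫ e2 ≪≫ e3 ≪≫ e4).hom.homeomorph.connectedSpace_iff).mpr inferInstance

/-- **A connected scheme over an algebraically closed field is geometrically connected.** -/
theorem connectedSpace_pullback_of_isAlgClosed {k L : Type u} [Field k] [IsAlgClosed k] [Field L]
    (φ : k →+* L) {X : Scheme.{u}} (f : X ⟶ Spec (CommRingCat.of k)) [ConnectedSpace X] :
    ConnectedSpace ↥(pullback f (Spec.map (CommRingCat.ofHom φ))) := by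
  haveI : UniversallyOpen (Spec.map (CommRingCat.ofHom φ)) := inferInstance
  haveI : UniversallyOpen (pullback.fst f (Spec.map (CommRingCat.ofHom φ))) := inferInstance
  haveI : Surjective (pullback.fst f (Spec.map (CommRingCat.ofHom φ))) := inferInstance
  have hfib : ∀ x : X, _root_.IsConnected
      ((pullback.fst f (Spec.map (CommRingCat.ofHom φ))) ⁻¹' {x}) := by
    intro x
    haveI := connectedSpace_fiber φ f x
    rw [← (pullback.fst f (Spec.map (CommRingCat.ofHom φ))).range_fiberι, ← Set.image_univ]
    exact isConnected_univ.image _ (Scheme.Hom.continuous _).continuousOn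
  have h1 := Topology.IsCoinducing.isConnected_preimage_of_isClosed hfib
    (((pullback.fst f (Spec.map (CommRingCat.ofHom φ))).isOpenMap.isQuotientMap
      (pullback.fst f (Spec.map (CommRingCat.ofHom φ))).continuous
      (pullback.fst f (Spec.map (CommRingCat.ofHom φ))).surjective).isCoinducing)
    isClosed_univ isConnected_univ
  rw [Set.preimage_univ] at h1
  exact connectedSpace_iff_univ.mpr h1

end Groth.Agent.Lib.R2H3.GeomConn
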