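import Groth.Agent.Lib.R2H3UnitLocusSep
import Groth.Agent.Lib.R2H3MultTypeBC
import Groth.Agent.Lib.R2H3GeomConn
import Groth.Agent.Lib.R2H3FreeActRed

/-!
# Descent of central homomorphisms along fpqc coverings with geometrically connected fibres
(helper3, round 2)

Let `π : S' ⟶ S` be an fpqc covering and `u' : H ×_S S' ⟶ G ×_S S'` a homomorphism.
* `Phi π u' Y a ha : (Y ⟶ H) → (Y ⟶ G)`: the map induced by `u'` on the points of `H` with
  values in an `S`-scheme `Y` whose structure morphism is lifted to `a : Y ⟶ S'`.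
* `dHom`: for two liftings `a`, `b`, the difference `Φ_a⁻¹ Φ_b`, a homomorphism of `Y`-groups if
  `u'` is central.
* `phi_eq_of_connected`: if `H` is of multiplicative type and of finite type, `G` is separated of
  finite presentation and the geometric fibres of `π` are connected, then `Φ_a = Φ_b`.
* `exists_descent`: then `u'` descends to `S`.
-/

set_option autoImplicit false
set_option linter.style.haveILetI false
set_option linter.unusedVariables false
set_option linter.unusedSectionVars false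

universe u

open CategoryTheory MonoidalCategory CartesianMonoidalCategory MonObj GrpObj AlgebraicGeometry
  CategoryTheory.Limits
open Groth.Agent.Lib.R2H3.MultAct Groth.Agent.Lib.R2H3.FpqcLocal
  Groth.Agent.Lib.R2H3.UnitLocus Groth.Agent.Lib.R2H3.FpqcCover

namespace Groth.Agent.Lib.R2H3.CentralDescent

/-- multiplicativity on points implies being a homomorphism (for groups). -/
theorem isMonHom_of_forall_mul {C : Type*} [Category C] [CartesianMonoidalCategory C] {X Y : C}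
    [GrpObj X] [GrpObj Y] (f : X ⟶ Y)
    (hmul : ∀ (T : C) (x y : T ⟶ X), (x * y) ≫ f = (x ≫ f) * (y ≫ f)) : IsMonHom f := by
  apply Groth.Agent.Lib.H6xDSPts.isMonHom_of_pts f _ hmul
  have h := hmul (𝟙_ C) 1 1
  rw [_root_.mul_one] at h
  exact (mul_eq_left (a := (1 : 𝟙_ C ⟶ X) ≫ f) (b := (1 : 𝟙_ C ⟶ X) ≫ f)).mp h.symm

section Phi

variable {S S' : Scheme.{u}} (π : S' ⟶ S) {H G : Over S} [GrpObj H] [GrpObj G]
  (u' : Red.bc π H ⟶ Red.bc π G)

/-- the identification of `Y` with the image of `a : Y ⟶ S'`. -/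
noncomputable def kap (Y : Over S) (a : Y.left ⟶ S') (ha : a ≫ π = Y.hom) :
    (Over.map π).obj (Over.mk a) ≅ Y :=
  Over.isoMk (Iso.refl _) (by simp [ha])

@[simp] lemma kap_hom_left (Y : Over S) (a : Y.left ⟶ S') (ha : a ≫ π = Y.hom) :
    (kap π Y a ha).hom.left = 𝟙 _ := rfl

@[simp] lemma kap_inv_left (Y : Over S) (a : Y.left ⟶ S') (ha : a ≫ π = Y.hom) :
    (kap π Y a ha).inv.left = 𝟙 _ := rfl

/-- the map induced by `u'` on points with values in `Y`, the structure morphism of `Y` being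
lifted to `a : Y ⟶ S'`. -/
noncomputable def Phi (Y : Over S) (a : Y.left ⟶ S') (ha : a ≫ π = Y.hom) (h : Y ⟶ H) : Y ⟶ G :=
  (kap π Y a ha).inv ≫
    adjE π G (Over.mk a) ((adjE π H (Over.mk a)).symm ((kap π Y a ha).hom ≫ h) ≫ u')

lemma phi_congr (Y : Over S) {a a' : Y.left ⟶ S'} (haa : a = a') (ha : a ≫ π = Y.hom)
    (ha' : a' ≫ π = Y.hom) (h : Y ⟶ H) : Phi π u' Y a ha h = Phi π u' Y a' ha' h := by
  subst haa
  rfl

lemma adjE_symm_mul {W : Scheme.{u}} (w : W ⟶ S) (Y : Over W) (x y : (Over.map w).obj Y ⟶ G) :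
    (adjE w G Y).symm (x * y) = (adjE w G Y).symm x * (adjE w G Y).symm y := by
  apply (adjE w G Y).injective
  rw [adjE_mul, Equiv.apply_symm_apply, Equiv.apply_symm_apply, Equiv.apply_symm_apply]

lemma phi_mul [IsMonHom u'] (Y : Over S) (a : Y.left ⟶ S') (ha : a ≫ π = Y.hom)
    (h₁ h₂ : Y ⟶ H) : Phi π u' Y a ha (h₁ * h₂) = Phi π u' Y a ha h₁ * Phi π u' Y a ha h₂ := by
  unfold Phi
  rw [MonObj.comp_mul, adjE_symm_mul, MonObj.mul_comp, adjE_mul, MonObj.comp_mul]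

lemma phi_one [IsMonHom u'] (Y : Over S) (a : Y.left ⟶ S') (ha : a ≫ π = Y.hom) :
    Phi π u' Y a ha 1 = 1 := by
  have h := phi_mul π u' Y a ha 1 1
  rw [_root_.mul_one] at h
  exact (mul_eq_left (a := Phi π u' Y a ha 1) (b := Phi π u' Y a ha 1)).mp h.symm

lemma phi_inv [IsMonHom u'] (Y : Over S) (a : Y.left ⟶ S') (ha : a ≫ π = Y.hom) (h : Y ⟶ H) :
    Phi π u' Y a ha h⁻¹ = (Phi π u' Y a ha h)⁻¹ := by
  apply eq_inv_of_mul_eq_one_left
  rw [← phi_mul, inv_mul_cancel, phi_one]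

/-- naturality of `Phi`. -/
lemma phi_comp {Y Y' : Over S} (k : Y' ⟶ Y) (a : Y.left ⟶ S') (ha : a ≫ π = Y.hom)
    (ha' : (k.left ≫ a) ≫ π = Y'.hom) (h : Y ⟶ H) :
    Phi π u' Y' (k.left ≫ a) ha' (k ≫ h) = k ≫ Phi π u' Y a ha h := by
  obtain ⟨kt, hkt⟩ : ∃ kt : Over.mk (k.left ≫ a) ⟶ Over.mk a, kt.left = k.left :=
    ⟨Over.homMk k.left rfl, rfl⟩
  have hsq : (Over.map π).map kt ≫ (kap π Y a ha).hom =
      (kap π Y' (k.left ≫ a) ha').hom ≫ k := by
    apply Over.OverMorphism.ext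
    simp [hkt]
  have hsq' : (kap π Y' (k.left ≫ a) ha').inv ≫
      (Over.map π).map kt = k ≫ (kap π Y a ha).inv := by
    apply Over.OverMorphism.ext
    simp [hkt]
  unfold Phi
  have h1 : (adjE π H (Over.mk (k.left ≫ a))).symm
      ((kap π Y' (k.left ≫ a) ha').hom ≫ k ≫ h) =
      kt ≫ (adjE π H (Over.mk a)).symm ((kap π Y a ha).hom ≫ h) := by
    apply (adjE π H _).injective
    rw [Equiv.apply_symm_apply, adjE_comp, Equiv.apply_symm_apply]
    exact ((Category.assoc _ _ _).symm.trans (congrArg (· ≫ h) hsq.symm)).trans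
      (Category.assoc _ _ _)
  have h2 : (kt ≫ (adjE π H (Over.mk a)).symm ((kap π Y a ha).hom ≫ h)) ≫ u' =
      kt ≫ ((adjE π H (Over.mk a)).symm ((kap π Y a ha).hom ≫ h) ≫ u') := Category.assoc _ _ _
  rw [h1, h2, adjE_comp]
  exact (Category.assoc _ _ _).symm.trans
    ((congrArg (· ≫ _) hsq').trans (Category.assoc _ _ _))

/-- `Phi` on the image of an object of `Over S'`. -/
lemma phi_map (X' : Over S') (h : (Over.map π).obj X' ⟶ H) :
    Phi π u' ((Over.map π).obj X') X'.hom rfl h =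
      adjE π G X' ((adjE π H X').symm h ≫ u') := by
  obtain ⟨j, hj⟩ : ∃ j : Over.mk X'.hom ≅ X', j.hom.left = 𝟙 _ :=
    ⟨Over.isoMk (Iso.refl _) (by simp), rfl⟩
  have hk : (kap π ((Over.map π).obj X') X'.hom rfl).hom = (Over.map π).map j.hom := by
    apply Over.OverMorphism.ext
    simp [hj]
  unfold Phi
  have h1 : (adjE π H (Over.mk X'.hom)).symm
      ((kap π ((Over.map π).obj X') X'.hom rfl).hom ≫ h) = j.hom ≫ (adjE π H X').symm h := by
    apply (adjE π H _).injective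
    rw [Equiv.apply_symm_apply, adjE_comp, Equiv.apply_symm_apply, hk]
  rw [h1, Category.assoc, adjE_comp, ← hk, Iso.inv_hom_id_assoc]

lemma adjE_comp_map' {W : Scheme.{u}} (w : W ⟶ S) (u : H ⟶ G) (Y : Over W)
    (h : Y ⟶ Red.bc w H) :
    adjE w G Y (h ≫ (Over.pullback w).map u) = adjE w H Y h ≫ u :=
  (Over.mapPullbackAdj w).homEquiv_naturality_right_symm h u

/-- if `u'` is the base change of `u` then `Phi` is composition with `u`. -/
lemma phi_eq_comp (u : H ⟶ G) (hu : (Over.pullback π).map u = u') (Y : Over S)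
    (a : Y.left ⟶ S') (ha : a ≫ π = Y.hom) (h : Y ⟶ H) : Phi π u' Y a ha h = h ≫ u := by
  unfold Phi
  rw [← hu, adjE_comp_map', Equiv.apply_symm_apply, Category.assoc, Iso.inv_hom_id_assoc]

/-- centrality of `Phi`. -/
lemma phi_central
    (hc : ∀ (X : Over S') (g : X ⟶ Red.bc π G) (h : X ⟶ Red.bc π H),
      g * (h ≫ u') = (h ≫ u') * g)
    (Y : Over S) (a : Y.left ⟶ S') (ha : a ≫ π = Y.hom) (h : Y ⟶ H) (g : Y ⟶ G) :
    g * Phi π u' Y a ha h = Phi π u' Y a ha h * g := by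
  have h1 := hc (Over.mk a) ((adjE π G (Over.mk a)).symm ((kap π Y a ha).hom ≫ g))
    ((adjE π H (Over.mk a)).symm ((kap π Y a ha).hom ≫ h))
  have h2 := congrArg (fun z => (kap π Y a ha).inv ≫ adjE π G (Over.mk a) z) h1
  simp only [adjE_mul, Equiv.apply_symm_apply, MonObj.comp_mul, Iso.inv_hom_id_assoc] at h2
  exact h2

end Phi

section DHom

variable {S S' : Scheme.{u}} (π : S' ⟶ S) {H G : Over S} [GrpObj H] [GrpObj G]
  (u' : Red.bc π H ⟶ Red.bc π G)
  (Y : Over S) (a b : Y.left ⟶ S') (ha : a ≫ π = Y.hom) (hb : b ≫ π = Y.hom)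

lemma lift_w (Z : Over Y.left) (a : Y.left ⟶ S') (ha : a ≫ π = Y.hom) :
    (Z.hom ≫ a) ≫ π = ((Over.map Y.hom).obj Z).hom := by
  rw [Category.assoc, ha]
  rfl

/-- the difference of the two maps induced by `u'` via the liftings `a` and `b`. -/
noncomputable def dHom : Red.bc Y.hom H ⟶ Red.bc Y.hom G :=
  (adjE Y.hom G (Red.bc Y.hom H)).symm
    ((Phi π u' ((Over.map Y.hom).obj (Red.bc Y.hom H)) ((Red.bc Y.hom H).hom ≫ a)
        (lift_w π Y _ a ha) (adjE Y.hom H _ (𝟙 _)))⁻¹ *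
      Phi π u' ((Over.map Y.hom).obj (Red.bc Y.hom H)) ((Red.bc Y.hom H).hom ≫ b)
        (lift_w π Y _ b hb) (adjE Y.hom H _ (𝟙 _)))

lemma map_comp_phi_univ (Z : Over Y.left) (z : Z ⟶ Red.bc Y.hom H) (a : Y.left ⟶ S')
    (ha : a ≫ π = Y.hom) :
    (Over.map Y.hom).map z ≫ Phi π u' ((Over.map Y.hom).obj (Red.bc Y.hom H))
        ((Red.bc Y.hom H).hom ≫ a) (lift_w π Y _ a ha) (adjE Y.hom H _ (𝟙 _)) =
      Phi π u' ((Over.map Y.hom).obj Z) (Z.hom ≫ a) (lift_w π Y Z a ha) (adjE Y.hom H Z z) := by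
  have h1 : adjE Y.hom H Z z = (Over.map Y.hom).map z ≫ adjE Y.hom H _ (𝟙 _) := by
    rw [← adjE_comp, Category.comp_id]
  have h2 : ((Over.map Y.hom).map z).left ≫ (Red.bc Y.hom H).hom ≫ a = Z.hom ≫ a := by
    rw [← Category.assoc]
    congr 1
    exact Over.w z
  have h3 : (((Over.map Y.hom).map z).left ≫ (Red.bc Y.hom H).hom ≫ a) ≫ π =
      ((Over.map Y.hom).obj Z).hom := by
    rw [h2]
    exact lift_w π Y Z a ha
  rw [← phi_comp π u' ((Over.map Y.hom).map z) _ (lift_w π Y _ a ha) h3, h1]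
  exact phi_congr π u' _ h2 _ _ _

/-- the value of `dHom` on points. -/
lemma adjE_comp_dHom (Z : Over Y.left) (z : Z ⟶ Red.bc Y.hom H) :
    adjE Y.hom G Z (z ≫ dHom π u' Y a b ha hb) =
      (Phi π u' ((Over.map Y.hom).obj Z) (Z.hom ≫ a) (lift_w π Y Z a ha) (adjE Y.hom H Z z))⁻¹ *
        Phi π u' ((Over.map Y.hom).obj Z) (Z.hom ≫ b) (lift_w π Y Z b hb)
          (adjE Y.hom H Z z) := by
  rw [adjE_comp]
  unfold dHom
  rw [Equiv.apply_symm_apply, MonObj.comp_mul, GrpObj.comp_inv,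
    map_comp_phi_univ π u' Y Z z a ha, map_comp_phi_univ π u' Y Z z b hb]

lemma grp_aux {Γ : Type*} [Group Γ] (A₁ A₂ B₁ B₂ : Γ) (hc : ∀ g : Γ, g * A₂ = A₂ * g) :
    (A₁ * A₂)⁻¹ * (B₁ * B₂) = (A₁⁻¹ * B₁) * (A₂⁻¹ * B₂) := by
  have h1 : A₂⁻¹ * (A₁⁻¹ * B₁) = (A₁⁻¹ * B₁) * A₂⁻¹ := by
    have h := hc (A₁⁻¹ * B₁)
    calc A₂⁻¹ * (A₁⁻¹ * B₁) = A₂⁻¹ * ((A₁⁻¹ * B₁) * A₂) * A₂⁻¹ := by group
      _ = A₂⁻¹ * (A₂ * (A₁⁻¹ * B₁)) * A₂⁻¹ := by rw [h]
      _ = (A₁⁻¹ * B₁) * A₂⁻¹ := by group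
  calc (A₁ * A₂)⁻¹ * (B₁ * B₂) = (A₂⁻¹ * (A₁⁻¹ * B₁)) * B₂ := by group
    _ = ((A₁⁻¹ * B₁) * A₂⁻¹) * B₂ := by rw [h1]
    _ = (A₁⁻¹ * B₁) * (A₂⁻¹ * B₂) := by group

/-- if `u'` is central, `dHom` is a homomorphism. -/
theorem isMonHom_dHom [IsMonHom u']
    (hc : ∀ (X : Over S') (g : X ⟶ Red.bc π G) (h : X ⟶ Red.bc π H),
      g * (h ≫ u') = (h ≫ u') * g) : IsMonHom (dHom π u' Y a b ha hb) := by
  apply isMonHom_of_forall_mul
  intro T x y
  apply (adjE Y.hom G T).injective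
  rw [adjE_comp_dHom, adjE_mul Y.hom G T (x ≫ dHom π u' Y a b ha hb) (y ≫ dHom π u' Y a b ha hb),
    adjE_comp_dHom, adjE_comp_dHom, adjE_mul Y.hom H T x y, phi_mul, phi_mul]
  apply grp_aux
  intro g
  exact phi_central π u' hc _ _ _ _ g

/-- triviality of `dHom` above `r : T ⟶ Y`, in terms of `Phi`. -/
theorem trivS_dHom_iff (T : Scheme.{u}) (r : T ⟶ Y.left) :
    TrivS (dHom π u' Y a b ha hb) T r ↔
      ∀ (Z : Over S) (c : Z.left ⟶ T) (hca : (c ≫ r ≫ a) ≫ π = Z.hom)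
        (hcb : (c ≫ r ≫ b) ≫ π = Z.hom) (h : Z ⟶ H),
        Phi π u' Z (c ≫ r ≫ a) hca h = Phi π u' Z (c ≫ r ≫ b) hcb h := by
  constructor
  · intro htr Z c hca hcb h
    -- `Z` as an object over `Y`
    obtain ⟨Z', hZ'⟩ : ∃ Z' : Over Y.left, Z' = Over.mk (c ≫ r) := ⟨_, rfl⟩
    have hZw : (c ≫ r) ≫ Y.hom = Z.hom := by
      rw [← hca, ← ha]
      simp only [Category.assoc]
    obtain ⟨k, hk⟩ : ∃ k : (Over.map Y.hom).obj (Over.mk (c ≫ r)) ≅ Z, k.hom.left = 𝟙 _ :=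
      ⟨Over.isoMk (Iso.refl _) (by simp [hZw]), rfl⟩
    have h1 := htr (Over.mk (c ≫ r)) c rfl ((adjE Y.hom H (Over.mk (c ≫ r))).symm (k.hom ≫ h))
    have h2 := congrArg (adjE Y.hom G (Over.mk (c ≫ r))) h1
    rw [adjE_comp_dHom, adjE_one, Equiv.apply_symm_apply, inv_mul_eq_one] at h2
    have h3 : ∀ (a : Y.left ⟶ S') (ha : a ≫ π = Y.hom) (hca : (c ≫ r ≫ a) ≫ π = Z.hom),
        Phi π u' ((Over.map Y.hom).obj (Over.mk (c ≫ r))) ((Over.mk (c ≫ r)).hom ≫ a)
          (lift_w π Y _ a ha) (k.hom ≫ h) = k.hom ≫ Phi π u' Z (c ≫ r ≫ a) hca h := by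
      intro a ha hca
      have h4 : (k.hom.left ≫ c ≫ r ≫ a) ≫ π =
          ((Over.map Y.hom).obj (Over.mk (c ≫ r))).hom := by
        rw [hk, Category.id_comp]
        simp only [Category.assoc, ha]
        rfl
      rw [← phi_comp π u' k.hom (c ≫ r ≫ a) hca h4]
      apply phi_congr
      rw [hk, Category.id_comp]
      exact Category.assoc _ _ _
    rw [h3 a ha hca, h3 b hb hcb] at h2
    exact (cancel_epi k.hom).mp h2
  · intro hph Z c hc z
    apply (adjE Y.hom G Z).injective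
    rw [adjE_comp_dHom, adjE_one, inv_mul_eq_one]
    have hca : (c ≫ r ≫ a) ≫ π = ((Over.map Y.hom).obj Z).hom := by
      rw [← lift_w π Y Z a ha, ← hc]
      simp only [Category.assoc]
    have hcb : (c ≫ r ≫ b) ≫ π = ((Over.map Y.hom).obj Z).hom := by
      rw [← lift_w π Y Z b hb, ← hc]
      simp only [Category.assoc]
    have h1 := hph ((Over.map Y.hom).obj Z) c hca hcb (adjE Y.hom H Z z)
    have e1 : Z.hom ≫ a = c ≫ r ≫ a := by rw [← hc, Category.assoc]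
    have e2 : Z.hom ≫ b = c ≫ r ≫ b := by rw [← hc, Category.assoc]
    rw [phi_congr π u' ((Over.map Y.hom).obj Z) e1 (lift_w π Y Z a ha) hca (adjE Y.hom H Z z),
      phi_congr π u' ((Over.map Y.hom).obj Z) e2 (lift_w π Y Z b hb) hcb (adjE Y.hom H Z z)]
    exact h1

end DHom

section Geom

variable {S S' : Scheme.{u}} (π : S' ⟶ S) {H G : Over S} [GrpObj H] [GrpObj G]
  (u' : Red.bc π H ⟶ Red.bc π G)

instance isSeparated_bc {T : Scheme.{u}} (t : T ⟶ S) [IsSeparated G.hom] :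
    IsSeparated (Red.bc t G).hom :=
  inferInstanceAs (IsSeparated (pullback.snd G.hom t))

lemma hG_bc {T : Scheme.{u}} (t : T ⟶ S) [LocallyOfFinitePresentation G.hom]
    [QuasiCompact G.hom] [QuasiSeparated G.hom] :
    IsLocallyNoetherian T ∨ (LocallyOfFinitePresentation (Red.bc t G).hom ∧
      QuasiCompact (Red.bc t G).hom ∧ QuasiSeparated (Red.bc t G).hom) :=
  Or.inr ⟨inferInstanceAs (LocallyOfFinitePresentation (pullback.snd G.hom t)),
    inferInstanceAs (QuasiCompact (pullback.snd G.hom t)),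
    inferInstanceAs (QuasiSeparated (pullback.snd G.hom t))⟩

/-- connectedness of the fibres of `π` above algebraically closed points, from connectedness of
the fibres above the geometric points `Red.geomPt s`. -/
theorem connectedSpace_of_geomPt
    (hconn : ∀ s : S, ConnectedSpace ↥(pullback π (Red.geomPt s)))
    (L : Type u) [Field L] [IsAlgClosed L] (w : Spec (CommRingCat.of L) ⟶ S) :
    ConnectedSpace ↥(pullback π w) := by
  obtain ⟨s, hs⟩ : ∃ s : S, s = w (IsLocalRing.closedPoint L) := ⟨_, rfl⟩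
  obtain ⟨φ₀, hφ₀⟩ : ∃ φ₀ : S.residueField s →+* L,
      Spec.map (CommRingCat.ofHom φ₀) ≫ S.fromSpecResidueField s = w := by
    subst hs
    exact ⟨(S.descResidueField (Scheme.stalkClosedPointTo w)).hom,
      Scheme.descResidueField_stalkClosedPointTo_fromSpecResidueField L S w⟩
  algebraize [φ₀]
  obtain ⟨ψ, hψ⟩ : ∃ ψ : AlgebraicClosure (S.residueField s) →+* L,
      ψ.comp (algebraMap (S.residueField s) (AlgebraicClosure (S.residueField s))) = φ₀ := by
    refine ⟨(IsAlgClosed.lift (R := S.residueField s) (M := L)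
      (S := AlgebraicClosure (S.residueField s))).toRingHom, ?_⟩
    exact (IsAlgClosed.lift (R := S.residueField s) (M := L)
      (S := AlgebraicClosure (S.residueField s))).comp_algebraMap
  have hw : w = Spec.map (CommRingCat.ofHom ψ) ≫ Red.geomPt s := by
    rw [← hφ₀, ← hψ]
    unfold Red.geomPt
    rw [← Category.assoc, ← Spec.map_comp]
    rfl
  rw [hw]
  haveI := hconn s
  haveI : ConnectedSpace ↥(pullback (pullback.snd π (Red.geomPt s))
      (Spec.map (CommRingCat.ofHom ψ))) :=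
    Groth.Agent.Lib.R2H3.GeomConn.connectedSpace_pullback_of_isAlgClosed ψ
      (pullback.snd π (Red.geomPt s))
  exact ((pullbackLeftPullbackSndIso π (Red.geomPt s)
    (Spec.map (CommRingCat.ofHom ψ))).hom.homeomorph.connectedSpace_iff).mp inferInstance

variable [IsMonHom u'] [IsSeparated G.hom] [LocallyOfFinitePresentation G.hom]
  [QuasiCompact G.hom] [QuasiSeparated G.hom]

/-- the geometric case: two liftings through a field `L` such that the fibre of `π` over `L` is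
connected induce the same map. -/
theorem phi_eq_geom (hH : SGA3x.IsMultTypeFT H)
    (hc : ∀ (X : Over S') (g : X ⟶ Red.bc π G) (h : X ⟶ Red.bc π H),
      g * (h ≫ u') = (h ≫ u') * g)
    {L : Type u} [Field L] (a₀ b₀ : Spec (CommRingCat.of L) ⟶ S') (h₀ : a₀ ≫ π = b₀ ≫ π)
    [ConnectedSpace ↥(pullback π (a₀ ≫ π))]
    (Z : Over S) (c : Z.left ⟶ Spec (CommRingCat.of L)) (hca : (c ≫ a₀) ≫ π = Z.hom)
    (hcb : (c ≫ b₀) ≫ π = Z.hom) (h : Z ⟶ H) :
    Phi π u' Z (c ≫ a₀) hca h = Phi π u' Z (c ≫ b₀) hcb h := by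
  obtain ⟨Yx, hYx⟩ : ∃ Yx : Over S, Yx = Over.mk (pullback.fst π (a₀ ≫ π) ≫ π) := ⟨_, rfl⟩
  subst hYx
  have haX : pullback.fst π (a₀ ≫ π) ≫ π = (Over.mk (pullback.fst π (a₀ ≫ π) ≫ π)).hom := rfl
  have hbX : (pullback.snd π (a₀ ≫ π) ≫ a₀) ≫ π =
      (Over.mk (pullback.fst π (a₀ ≫ π) ≫ π)).hom := by
    rw [Category.assoc, ← pullback.condition]
    rfl
  obtain ⟨d, hd⟩ : ∃ d, d = dHom π u' (Over.mk (pullback.fst π (a₀ ≫ π) ≫ π))
      (pullback.fst π (a₀ ≫ π)) (pullback.snd π (a₀ ≫ π) ≫ a₀) haX hbX := ⟨_, rfl⟩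
  haveI : IsMonHom d := by
    rw [hd]
    exact isMonHom_dHom π u' _ _ _ haX hbX hc
  obtain ⟨σa, hσa1, hσa2⟩ : ∃ σa : Spec (CommRingCat.of L) ⟶ pullback π (a₀ ≫ π),
      σa ≫ pullback.fst π (a₀ ≫ π) = a₀ ∧ σa ≫ pullback.snd π (a₀ ≫ π) = 𝟙 _ :=
    ⟨pullback.lift a₀ (𝟙 _) (by rw [Category.id_comp]), pullback.lift_fst _ _ _,
      pullback.lift_snd _ _ _⟩
  obtain ⟨σb, hσb1, hσb2⟩ : ∃ σb : Spec (CommRingCat.of L) ⟶ pullback π (a₀ ≫ π),
      σb ≫ pullback.fst π (a₀ ≫ π) = b₀ ∧ σb ≫ pullback.snd π (a₀ ≫ π) = 𝟙 _ :=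
    ⟨pullback.lift b₀ (𝟙 _) (by rw [Category.id_comp, h₀]), pullback.lift_fst _ _ _,
      pullback.lift_snd _ _ _⟩
  have htriv_a : TrivS d (Spec (CommRingCat.of L)) σa := by
    rw [hd, trivS_dHom_iff]
    intro Z' c' hca' hcb' h'
    apply phi_congr
    rw [hσa1, ← Category.assoc σa, hσa2, Category.id_comp]
  haveI : ConnectedSpace ↥(Over.mk (pullback.fst π (a₀ ≫ π) ≫ π)).left :=
    ‹ConnectedSpace ↥(pullback π (a₀ ≫ π))›
  have hall : TrivS d (pullback π (a₀ ≫ π)) (𝟙 _) :=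
    trivS_id_of_connected (Groth.Agent.Lib.R2H3.MultTypeBC.isMultTypeFT_bc H hH _)
      (hG_bc _) d σa htriv_a
  have htriv_b := trivS_precomp d σb (𝟙 _) hall
  rw [hd, trivS_dHom_iff] at htriv_b
  have e1 : c ≫ (σb ≫ 𝟙 _) ≫ pullback.fst π (a₀ ≫ π) = c ≫ b₀ := by
    rw [Category.comp_id, hσb1]
  have e2 : c ≫ (σb ≫ 𝟙 _) ≫ pullback.snd π (a₀ ≫ π) ≫ a₀ = c ≫ a₀ := by
    rw [Category.comp_id, ← Category.assoc σb, hσb2, Category.id_comp]
  have h1 := htriv_b Z c (by rw [e1]; exact hcb) (by rw [e2]; exact hca) h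
  rw [phi_congr π u' Z e1 _ hcb h, phi_congr π u' Z e2 _ hca h] at h1
  exact h1.symm

/-- **Independence of the lifting.**  If the fibres of `π` above algebraically closed points are
connected, the map induced by the central homomorphism `u'` on the points of `H` with values in
`Y` does not depend on the lifting `Y ⟶ S'` of the structure morphism. -/
theorem phi_eq_of_connected (hH : SGA3x.IsMultTypeFT H)
    (hc : ∀ (X : Over S') (g : X ⟶ Red.bc π G) (h : X ⟶ Red.bc π H),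
      g * (h ≫ u') = (h ≫ u') * g)
    (hconn : ∀ (L : Type u) [Field L] [IsAlgClosed L] (w : Spec (CommRingCat.of L) ⟶ S),
      ConnectedSpace ↥(pullback π w))
    (Y : Over S) (a b : Y.left ⟶ S') (ha : a ≫ π = Y.hom) (hb : b ≫ π = Y.hom) (h : Y ⟶ H) :
    Phi π u' Y a ha h = Phi π u' Y b hb h := by
  obtain ⟨d, hd⟩ : ∃ d, d = dHom π u' Y a b ha hb := ⟨_, rfl⟩
  haveI : IsMonHom d := by
    rw [hd]
    exact isMonHom_dHom π u' _ _ _ ha hb hc
  have hall : TrivS d Y.left (𝟙 _) := by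
    apply trivS_id_of_forall (Groth.Agent.Lib.R2H3.MultTypeBC.isMultTypeFT_bc H hH _)
      (hG_bc _) d
    intro s
    apply trivS_descend d (Spec.map (CommRingCat.ofHom (algebraMap (Y.left.residueField s)
      (AlgebraicClosure (Y.left.residueField s))))) _
      (Groth.Agent.Lib.R2H3.MultHom.qfpqc_specMap_field _)
    rw [hd, trivS_dHom_iff]
    intro Z c hca hcb h'
    haveI := hconn (AlgebraicClosure (Y.left.residueField s))
      (((Spec.map (CommRingCat.ofHom (algebraMap (Y.left.residueField s)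
        (AlgebraicClosure (Y.left.residueField s)))) ≫ Y.left.fromSpecResidueField s) ≫ a) ≫ π)
    exact phi_eq_geom π u' hH hc _ _ (by
      simp only [Category.assoc, ha, hb]) Z c hca hcb h'
  rw [hd, trivS_dHom_iff] at hall
  have e1 : 𝟙 Y.left ≫ 𝟙 Y.left ≫ a = a := by rw [Category.id_comp, Category.id_comp]
  have e2 : 𝟙 Y.left ≫ 𝟙 Y.left ≫ b = b := by rw [Category.id_comp, Category.id_comp]
  have h1 := hall Y (𝟙 _) (by rw [e1]; exact ha) (by rw [e2]; exact hb) h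
  rw [phi_congr π u' Y e1 _ ha h, phi_congr π u' Y e2 _ hb h] at h1
  exact h1

end Geom

section Descent

variable {S S' : Scheme.{u}} (π : S' ⟶ S) [Flat π] [Surjective π] {H G : Over S} [GrpObj H]
  [GrpObj G] (u' : Red.bc π H ⟶ Red.bc π G)

lemma adjE_id_eq_counit : adjE π H (Red.bc π H) (𝟙 _) = (Over.mapPullbackAdj π).counit.app H := by
  unfold adjE
  rw [Adjunction.homEquiv_counit, CategoryTheory.Functor.map_id, Category.id_comp]

lemma adjE_id_left : (adjE π H (Red.bc π H) (𝟙 _)).left = pullback.fst H.hom π := by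
  have h : (adjE π H (Red.bc π H) (𝟙 _)).left =
      (𝟙 (Red.bc π H) : Red.bc π H ⟶ Red.bc π H).left ≫ pullback.fst H.hom π := rfl
  rw [h]
  exact Category.id_comp _

/-- a homomorphism `u` is determined by its base change along a flat surjective morphism. -/
theorem eq_of_bc_eq (u₁ u₂ : H ⟶ G)
    (h : (Over.pullback π).map u₁ = (Over.pullback π).map u₂) : u₁ = u₂ := by
  have h1 := congrArg (adjE π G ((Over.pullback π).obj H)) h
  rw [adjE_pullback_map, adjE_pullback_map, ← adjE_id_eq_counit] at h1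
  have h2 := congrArg (fun z => z.left) h1
  simp only [Over.comp_left] at h2
  rw [adjE_id_left] at h2
  haveI : Epi (pullback.fst H.hom π) := Flat.epi_of_flat_of_surjective _
  exact Over.OverMorphism.ext ((cancel_epi _).mp h2)

/-- **Descent of a homomorphism.** -/
theorem exists_descent [IsMonHom u'] (hcov : Cov π)
    (hkey : ∀ (Y : Over S) (a b : Y.left ⟶ S') (ha : a ≫ π = Y.hom) (hb : b ≫ π = Y.hom)
      (h : Y ⟶ H), Phi π u' Y a ha h = Phi π u' Y b hb h) :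
    ∃ u : H ⟶ G, IsMonHom u ∧ (Over.pullback π).map u = u' := by
  obtain ⟨h₀, hh₀⟩ : ∃ h₀ : (Over.map π).obj (Red.bc π H) ⟶ H,
      h₀ = adjE π H (Red.bc π H) (𝟙 _) := ⟨_, rfl⟩
  obtain ⟨g', hg'⟩ : ∃ g' : (Over.map π).obj (Red.bc π H) ⟶ G,
      g' = adjE π G (Red.bc π H) u' := ⟨_, rfl⟩
  have hε : h₀.left = pullback.fst H.hom π := by rw [hh₀, adjE_id_left]
  haveI : EffectiveEpi h₀.left := by
    rw [hε]
    exact effectiveEpi_of_cov _ (cov_pullback_fst H.hom π hcov)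
  have hphi0 : Phi π u' ((Over.map π).obj (Red.bc π H)) (Red.bc π H).hom rfl h₀ = g' := by
    rw [phi_map, hh₀, Equiv.symm_apply_apply, Category.id_comp, hg']
  have hcond : ∀ {Z : Scheme.{u}} (q₁ q₂ : Z ⟶ ((Over.map π).obj (Red.bc π H)).left),
      q₁ ≫ h₀.left = q₂ ≫ h₀.left → q₁ ≫ g'.left = q₂ ≫ g'.left := by
    intro Z q₁ q₂ hq
    obtain ⟨k₁, hk₁⟩ : ∃ k₁ : Over.mk (q₁ ≫ ((Over.map π).obj (Red.bc π H)).hom) ⟶
        (Over.map π).obj (Red.bc π H), k₁.left = q₁ := ⟨Over.homMk q₁ rfl, rfl⟩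
    obtain ⟨k₂, hk₂⟩ : ∃ k₂ : Over.mk (q₁ ≫ ((Over.map π).obj (Red.bc π H)).hom) ⟶
        (Over.map π).obj (Red.bc π H), k₂.left = q₂ := by
      refine ⟨Over.homMk q₂ ?_, rfl⟩
      change q₂ ≫ ((Over.map π).obj (Red.bc π H)).hom =
        q₁ ≫ ((Over.map π).obj (Red.bc π H)).hom
      rw [← Over.w h₀, ← Category.assoc, ← hq, Category.assoc]
    have hk : k₁ ≫ h₀ = k₂ ≫ h₀ := by
      apply Over.OverMorphism.ext
      rw [Over.comp_left, Over.comp_left, hk₁, hk₂, hq]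
    have ha₁ : (k₁.left ≫ (Red.bc π H).hom) ≫ π =
        (Over.mk (q₁ ≫ ((Over.map π).obj (Red.bc π H)).hom)).hom := by
      rw [hk₁, Category.assoc]
      rfl
    have ha₂ : (k₂.left ≫ (Red.bc π H).hom) ≫ π =
        (Over.mk (q₁ ≫ ((Over.map π).obj (Red.bc π H)).hom)).hom := by
      rw [Category.assoc]
      exact Over.w k₂
    have e1 := phi_comp π u' k₁ (Red.bc π H).hom rfl ha₁ h₀
    have e2 := phi_comp π u' k₂ (Red.bc π H).hom rfl ha₂ h₀
    have e3 := hkey _ (k₁.left ≫ (Red.bc π H).hom) (k₂.left ≫ (Red.bc π H).hom) ha₁ ha₂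
      (k₁ ≫ h₀)
    rw [e1, hk, e2, hphi0] at e3
    have e4 := congrArg (fun z => z.left) e3
    simp only [Over.comp_left, hk₁, hk₂] at e4
    exact e4
  obtain ⟨u₀, hu₀⟩ : ∃ u₀ : H.left ⟶ G.left, h₀.left ≫ u₀ = g'.left :=
    ⟨EffectiveEpi.desc h₀.left g'.left (fun q₁ q₂ hq => hcond q₁ q₂ hq),
      EffectiveEpi.fac h₀.left g'.left _⟩
  have hu₀w : u₀ ≫ G.hom = H.hom := by
    rw [← cancel_epi h₀.left, ← Category.assoc, hu₀, Over.w g', Over.w h₀]
  obtain ⟨u, hu⟩ : ∃ u : H ⟶ G, u.left = u₀ := ⟨Over.homMk u₀ hu₀w, rfl⟩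
  have hu1 : h₀ ≫ u = g' := by
    apply Over.OverMorphism.ext
    rw [Over.comp_left, hu, hu₀]
  have hu2 : (Over.pullback π).map u = u' := by
    apply (adjE π G ((Over.pullback π).obj H)).injective
    rw [adjE_pullback_map, ← adjE_id_eq_counit, ← hh₀, hu1, hg']
  refine ⟨u, ?_, hu2⟩
  apply isMonHom_of_forall_mul
  intro T x y
  obtain ⟨p, hp⟩ : ∃ p : Over.mk (pullback.fst T.hom π ≫ T.hom) ⟶ T,
      p.left = pullback.fst T.hom π := ⟨Over.homMk (pullback.fst T.hom π) rfl, rfl⟩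
  have haT : pullback.snd T.hom π ≫ π = (Over.mk (pullback.fst T.hom π ≫ T.hom)).hom :=
    pullback.condition.symm
  haveI : Epi (pullback.fst T.hom π) := Flat.epi_of_flat_of_surjective _
  have hP : ∀ h : Over.mk (pullback.fst T.hom π ≫ T.hom) ⟶ H,
      h ≫ u = Phi π u' _ (pullback.snd T.hom π) haT h :=
    fun h => (phi_eq_comp π u' u hu2 _ _ haT h).symm
  have h1 : p ≫ ((x * y) ≫ u) = p ≫ ((x ≫ u) * (y ≫ u)) := by
    rw [← Category.assoc, MonObj.comp_mul, hP, phi_mul, ← hP, ← hP, MonObj.comp_mul,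
      Category.assoc, Category.assoc]
  have h2 := congrArg (fun z => z.left) h1
  simp only [Over.comp_left, hp] at h2
  exact Over.OverMorphism.ext ((cancel_epi _).mp h2)

end Descent

/-- **Descent of central homomorphisms along an fpqc covering with geometrically connected
fibres.** -/
theorem existsUnique_descent {S S' : Scheme.{u}} (H G : Over S) [GrpObj H] [GrpObj G]
    (hH : SGA3x.IsMultTypeFT H) [IsSeparated G.hom] [LocallyOfFinitePresentation G.hom]
    [QuasiCompact G.hom] [QuasiSeparated G.hom] (π : S' ⟶ S) [Flat π] [Surjective π]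
    (hcov : Cov π) (hconn : ∀ s : S, ConnectedSpace ↥(pullback π (Red.geomPt s)))
    (u' : Red.bc π H ⟶ Red.bc π G) [IsMonHom u']
    (hc : ∀ (X : Over S') (g : X ⟶ Red.bc π G) (h : X ⟶ Red.bc π H),
      g * (h ≫ u') = (h ≫ u') * g) :
    ∃! u : H ⟶ G, IsMonHom u ∧ (Over.pullback π).map u = u' := by
  obtain ⟨u, hu1, hu2⟩ := exists_descent π u' hcov
    (phi_eq_of_connected π u' hH hc (fun L _ _ w => connectedSpace_of_geomPt π hconn L w))
  refine ⟨u, ⟨hu1, hu2⟩, ?_⟩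
  rintro v ⟨-, hv⟩
  exact eq_of_bc_eq π v u (hv.trans hu2.symm)

end Groth.Agent.Lib.R2H3.CentralDescent
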