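import Groth.Agent.Lib.R2H3MultHomDS
import Groth.Agent.Lib.R2H3FpqcLocal
import Groth.Agent.Lib.Helper12Torsor

/-!
# Loci where a homomorphism of groups of multiplicative type is a monomorphism, an isomorphism,
faithfully flat (helper3, round 2)

The generic theorem `exists_clopen_locus`: let `P` be a property of morphisms of schemes that is
stable under base change, Zariski-local on the target and descends along fpqc morphisms, and let
`𝒫` be a property of homomorphisms of character groups such that `D(φ)` has `P` when `φ` has `𝒫`,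
and conversely over fields.  For a homomorphism `u : G ⟶ H` from a group of multiplicative type to
a group of multiplicative type and of finite type, the set of points `s` such that `u_s` has `P` is
open and closed, and `u` has `P` over it.
-/

set_option autoImplicit false
set_option linter.style.haveILetI false
set_option linter.unusedVariables false
set_option linter.unusedSectionVars false

universe u

open CategoryTheory MonoidalCategory CartesianMonoidalCategory MonObj GrpObj AlgebraicGeometry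
  CategoryTheory.Limits MorphismProperty
open Groth.Agent.Lib.Helper27.GaGm Groth.Agent.Lib.H6xDSPts Groth.Agent.Lib.R2H3.MultAct
open Groth.Agent.Lib.R2H3.OverBc Groth.Agent.Lib.R2H3.FpqcLocal

namespace Groth.Agent.Lib.R2H3.MultHom

section F5

variable {U : Scheme.{u}} {M N : Type} [AddCommGroup M] [AddCommGroup N]
  (v : Red.DS U M ⟶ Red.DS U N) [IsMonHom v]

/-- over a scheme mapping into `Wphi v φ`, the base change of `v` is the base change of
`D_U(φ)`. -/
theorem bcHom_eq_of_mem_Wphi (φ : N →+ M) {T' : Scheme.{u}} (a : T' ⟶ U)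
    (ha : ∀ y : T', a y ∈ Wphi v φ) : bcHom a v = bcHom a (Red.DSmap U φ) := by
  apply pullback.hom_ext
  · rw [bcHom_fst, bcHom_fst]
    obtain ⟨Y, hY⟩ : ∃ Y : Over U, Y = Over.mk (pullback.snd (Red.DS U M).hom a ≫ a) := ⟨_, rfl⟩
    obtain ⟨g, hg⟩ : ∃ g : Over.mk (pullback.snd (Red.DS U M).hom a ≫ a) ⟶ Red.DS U M,
        g.left = pullback.fst (Red.DS U M).hom a :=
      ⟨Over.homMk (pullback.fst (Red.DS U M).hom a) pullback.condition, rfl⟩
    have h := comp_eq_of_mem_Wphi v φ _ (fun y => by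
      change (pullback.snd (Red.DS U M).hom a ≫ a) y ∈ _
      rw [Scheme.Hom.comp_apply]
      exact ha _) g
    have h2 := congrArg (fun k => k.left) h
    simp only [Over.comp_left] at h2
    rw [hg] at h2
    exact h2
  · rw [bcHom_snd, bcHom_snd]

end F5

/-- the spectrum of a field extension is an fpqc morphism. -/
theorem qfpqc_specMap_field {K L : Type u} [Field K] [Field L] (f : K →+* L) :
    Qfpqc (Spec.map (CommRingCat.ofHom f)) := by
  refine ⟨⟨?_, ?_⟩, ?_⟩
  · refine ⟨fun y => ?_⟩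
    exact ⟨(default : Spec (CommRingCat.of L)), Subsingleton.elim (α := Spec (CommRingCat.of K)) _ _⟩
  · change Flat (Spec.map (CommRingCat.ofHom f))
    rw [Flat.SpecMap_iff]
    change f.Flat
    algebraize [f]
    change Module.Flat K L
    infer_instance
  · change QuasiCompact (Spec.map (CommRingCat.ofHom f))
    infer_instance

section Triv

variable {S : Scheme.{u}} {G H : Over S} [GrpObj G] [GrpObj H] (u : G ⟶ H) [IsMonHom u]
variable {U : Scheme.{u}} (t : U ⟶ S) {M N : Type} [AddCommGroup M] [AddCommGroup N]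
  (eG : Grp.mk (Red.bc t G) ≅ Grp.mk (Red.DS U M))
  (eH : Grp.mk (Red.bc t H) ≅ Grp.mk (Red.DS U N))

/-- the homomorphism of diagonalisable groups attached to `u` and to trivialisations of the
source and of the target. -/
noncomputable def vOf : Red.DS U M ⟶ Red.DS U N :=
  eG.inv.hom.hom ≫ (Over.pullback t).map u ≫ eH.hom.hom.hom

open scoped Obj in
instance : IsMonHom (vOf u t eG eH) := by
  unfold vOf
  haveI : IsMonHom ((Over.pullback t).map u) :=
    Functor.map.instIsMonHom (F := Over.pullback t) (f := u)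
  infer_instance

variable {P : MorphismProperty Scheme.{u}} [P.RespectsIso]

theorem bcHom_vOf_iff {T' : Scheme.{u}} (a : T' ⟶ U) :
    P (bcHom a (vOf u t eG eH)) ↔ P (bcHom (a ≫ t) u) := by
  rw [bcHom_comp_iff (P := P)]
  unfold vOf
  haveI : IsIso eG.inv.hom.hom :=
    ⟨eG.hom.hom.hom, by rw [← Grp.comp_hom_hom, eG.inv_hom_id, Grp.id_hom_hom],
      by rw [← Grp.comp_hom_hom, eG.hom_inv_id, Grp.id_hom_hom]⟩
  haveI : IsIso eH.hom.hom.hom :=
    ⟨eH.inv.hom.hom, by rw [← Grp.comp_hom_hom, eH.hom_inv_id, Grp.id_hom_hom],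
      by rw [← Grp.comp_hom_hom, eH.inv_hom_id, Grp.id_hom_hom]⟩
  exact bcHom_conj_iff a _ _ _

theorem P_of_mem_Wphi [P.IsStableUnderBaseChange] (φ : N →+ M) (hφ : P (Red.DSmap U φ).left)
    {T' : Scheme.{u}} (a : T' ⟶ U) (ha : ∀ y : T', a y ∈ Wphi (vOf u t eG eH) φ) :
    P (bcHom (a ≫ t) u) := by
  rw [← bcHom_vOf_iff (P := P) u t eG eH a, bcHom_eq_of_mem_Wphi _ φ a ha]
  exact bcHom_of_left a _ hφ

theorem fibre_iff [P.IsStableUnderBaseChange] [P.DescendsAlong Qfpqc]
    (Pc : ∀ (M N : Type) [AddCommGroup M] [AddCommGroup N], (N →+ M) → Prop)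
    (hb : ∀ (W : Scheme.{u}) (M N : Type) [AddCommGroup M] [AddCommGroup N] (φ : N →+ M),
      Pc M N φ → P (Red.DSmap W φ).left)
    (hc : ∀ (W : Scheme.{u}) (K : Type u) [Field K] (a : Spec (CommRingCat.of K) ⟶ W)
      (M N : Type) [AddCommGroup M] [AddCommGroup N] (φ : N →+ M),
      P (bcHom a (Red.DSmap W φ)) → Pc M N φ) (x : U) :
    P (bcHom (S.fromSpecResidueField (t x)) u) ↔
      Pc M N (AddMonoidHom.toMultiplicative.symm (phiAt (vOf u t eG eH) x)) := by
  have h1 : P (bcHom (S.fromSpecResidueField (t x)) u) ↔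
      P (bcHom (U.fromSpecResidueField x ≫ t) u) := by
    have heq := t.SpecMap_residueFieldMap_fromSpecResidueField x
    rw [← heq]
    constructor
    · exact of_bcHom _ _ u
    · exact bcHom_of_descendsAlong Qfpqc _ _ u (qfpqc_specMap_field (t.residueFieldMap x).hom)
  rw [h1, ← bcHom_vOf_iff (P := P) u t eG eH,
    bcHom_eq_of_mem_Wphi _ (AddMonoidHom.toMultiplicative.symm (phiAt (vOf u t eG eH) x)) _
      (fun y => by
        rw [Scheme.fromSpecResidueField_apply]
        exact mem_Wphi_phiAt _ x)]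
  constructor
  · exact hc U _ (U.fromSpecResidueField x) M N _
  · intro h
    exact bcHom_of_left _ _ (hb U M N _ h)

include eG eH in
/-- local structure around a point of a scheme over which source and target are
diagonalisable. -/
theorem local_structure [P.IsStableUnderBaseChange] [P.DescendsAlong Qfpqc] [AddGroup.FG N]
    (Pc : ∀ (M N : Type) [AddCommGroup M] [AddCommGroup N], (N →+ M) → Prop)
    (hb : ∀ (W : Scheme.{u}) (M N : Type) [AddCommGroup M] [AddCommGroup N] (φ : N →+ M),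
      Pc M N φ → P (Red.DSmap W φ).left)
    (hc : ∀ (W : Scheme.{u}) (K : Type u) [Field K] (a : Spec (CommRingCat.of K) ⟶ W)
      (M N : Type) [AddCommGroup M] [AddCommGroup N] (φ : N →+ M),
      P (bcHom a (Red.DSmap W φ)) → Pc M N φ) (x : U) :
    ∃ W₀ : U.Opens, x ∈ W₀ ∧
      (∀ y : W₀, (P (bcHom (S.fromSpecResidueField ((W₀.ι ≫ t) y)) u) ↔
        P (bcHom (S.fromSpecResidueField (t x)) u))) ∧
      (P (bcHom (S.fromSpecResidueField (t x)) u) → P (bcHom (W₀.ι ≫ t) u)) := by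
  obtain ⟨φ, hφ⟩ : ∃ φ : N →+ M,
      φ = AddMonoidHom.toMultiplicative.symm (phiAt (vOf u t eG eH) x) := ⟨_, rfl⟩
  have hclopen := isClopen_Wphi (vOf u t eG eH) φ
  refine ⟨⟨Wphi (vOf u t eG eH) φ, hclopen.2⟩, ?_, ?_, ?_⟩
  · change x ∈ Wphi (vOf u t eG eH) φ
    rw [hφ]
    exact mem_Wphi_phiAt _ x
  · intro y
    rw [fibre_iff u t eG eH Pc hb hc x, Scheme.Hom.comp_apply, fibre_iff u t eG eH Pc hb hc, ← hφ]
    have hy : phiAt (vOf u t eG eH) (Scheme.Opens.ι _ y) = AddMonoidHom.toMultiplicative φ := y.2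
    rw [hy]
    simp
  · intro hx
    rw [fibre_iff u t eG eH Pc hb hc x, ← hφ] at hx
    exact P_of_mem_Wphi u t eG eH φ (hb U M N φ hx) _ (fun y => y.2)

end Triv

section Main

variable {S : Scheme.{u}} (G H : Over S) [GrpObj G] [GrpObj H]

/-- **SGA3 IX 2.x / X**: the generic theorem on loci attached to a homomorphism of groups of
multiplicative type. -/
theorem exists_clopen_locus
    (hG : TwC.Locally S TwC.Topology.fpqc (fun S' g => ∃ (M : Type) (_ : AddCommGroup M),
      Nonempty (Grp.mk (Red.bc g G) ≅ Grp.mk (Red.DS S' M))))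
    (hH : SGA3x.IsMultTypeFT H) (u : G ⟶ H) [IsMonHom u]
    (P : MorphismProperty Scheme.{u}) [P.IsStableUnderBaseChange]
    [IsZariskiLocalAtTarget P] [P.DescendsAlong Qfpqc]
    (Pc : ∀ (M N : Type) [AddCommGroup M] [AddCommGroup N], (N →+ M) → Prop)
    (hb : ∀ (W : Scheme.{u}) (M N : Type) [AddCommGroup M] [AddCommGroup N] (φ : N →+ M),
      Pc M N φ → P (Red.DSmap W φ).left)
    (hc : ∀ (W : Scheme.{u}) (K : Type u) [Field K] (a : Spec (CommRingCat.of K) ⟶ W)
      (M N : Type) [AddCommGroup M] [AddCommGroup N] (φ : N →+ M),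
      P (bcHom a (Red.DSmap W φ)) → Pc M N φ) :
    ∃ U : S.Opens, IsClosed (U : Set S) ∧
      (∀ s : S, s ∈ U ↔ P (bcHom (S.fromSpecResidueField s) u)) ∧ P (bcHom U.ι u) := by
  obtain ⟨R, hR⟩ : ∃ R : Set S, R = {s | P (bcHom (S.fromSpecResidueField s) u)} := ⟨_, rfl⟩
  have hRmem : ∀ s, s ∈ R ↔ P (bcHom (S.fromSpecResidueField s) u) := by
    intro s
    rw [hR]
    rfl
  -- the local structure over the common trivialising coverings
  have KL : ∀ V : S.Opens, IsAffineOpen V → ∃ (T : Scheme.{u}) (c : T ⟶ (V : Scheme.{u})),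
      Qfpqc c ∧ ∀ x : T, ∃ (O' : Scheme.{u}) (j : O' ⟶ T), IsOpenImmersion j ∧
        x ∈ Set.range j ∧ (∀ y : O', ((j ≫ c ≫ V.ι) y ∈ R ↔ (c ≫ V.ι) x ∈ R)) ∧
        ((c ≫ V.ι) x ∈ R → P (bcHom (j ≫ c ≫ V.ι) u)) := by
    intro V hV
    obtain ⟨T, c, hc', hloc⟩ := exists_common_cover G H hG hH V hV
    refine ⟨T, c, hc', fun x => ?_⟩
    obtain ⟨O, hxO, M, N, instM, instN, hFG, ⟨eG⟩, ⟨eH⟩⟩ := hloc x
    obtain ⟨W₀, hxW₀, h1, h2⟩ := local_structure u (O.ι ≫ c ≫ V.ι) eG eH Pc hb hc ⟨x, hxO⟩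
    have hx' : (O.ι ≫ c ≫ V.ι) ⟨x, hxO⟩ = (c ≫ V.ι) x := by
      rw [Scheme.Hom.comp_apply]
      rfl
    refine ⟨W₀, W₀.ι ≫ O.ι, inferInstance, ⟨⟨⟨x, hxO⟩, hxW₀⟩, rfl⟩, ?_, ?_⟩
    · intro y
      rw [hRmem, hRmem, ← hx', ← h1 y, Category.assoc]
    · intro hx
      rw [hRmem, ← hx'] at hx
      rw [Category.assoc]
      exact h2 hx
  have hopen : IsOpen R := by
    apply isOpen_of_fpqc_local
    intro V hV
    obtain ⟨T, c, hc', hloc⟩ := KL V hV
    refine ⟨T, c, hc', ?_⟩
    rw [isOpen_iff_forall_mem_open]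
    intro x hx
    obtain ⟨O', j, hj, hxj, h1, -⟩ := hloc x
    refine ⟨Set.range j, ?_, j.isOpenEmbedding.isOpen_range, hxj⟩
    rintro _ ⟨y, rfl⟩
    change (c ≫ V.ι) (j y) ∈ R
    rw [← Scheme.Hom.comp_apply, h1 y]
    exact hx
  have hclosed : IsOpen Rᶜ := by
    apply isOpen_of_fpqc_local
    intro V hV
    obtain ⟨T, c, hc', hloc⟩ := KL V hV
    refine ⟨T, c, hc', ?_⟩
    rw [isOpen_iff_forall_mem_open]
    intro x hx
    obtain ⟨O', j, hj, hxj, h1, -⟩ := hloc x
    refine ⟨Set.range j, ?_, j.isOpenEmbedding.isOpen_range, hxj⟩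
    rintro _ ⟨y, rfl⟩
    change (c ≫ V.ι) (j y) ∈ Rᶜ
    rw [← Scheme.Hom.comp_apply, Set.mem_compl_iff, h1 y]
    exact hx
  refine ⟨⟨R, hopen⟩, ⟨hclosed⟩, hRmem, ?_⟩
  refine of_fpqc_local (fun T t => P (bcHom t u)) (fun a t h => of_bcHom a t u h)
    (fun a t ha h => bcHom_of_descendsAlong Qfpqc a t u ha h) (fun t h => ?_) ⟨R, hopen⟩
    (fun V hV => ?_)
  · choose O hxO hO using h
    exact bcHom_of_iSup_eq_top t u O (by
      rw [eq_top_iff]
      intro s _
      exact TopologicalSpace.Opens.mem_iSup.mpr ⟨s, hxO s⟩) hO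
  · obtain ⟨T, c, hc', hloc⟩ := KL V hV
    refine ⟨T, c, hc', fun x hx => ?_⟩
    obtain ⟨O', j, hj, hxj, -, h2⟩ := hloc x
    exact ⟨O', j, hj, hxj, h2 hx⟩

end Main

end Groth.Agent.Lib.R2H3.MultHom
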