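import Groth.Agent.Lib.R2H3FpqcLocal
import Groth.Agent.Lib.R2H3MultHomMain

/-!
# Loci defined by fpqc-local sieves which are locally represented by clopen subsets
(helper3, round 2)

`exists_clopen_of_fpqc_local`: let `𝒢` be a sieve on `S` (a property of morphisms `T ⟶ S`,
stable under precomposition) which descends along fpqc morphisms and is Zariski-local.  If
fpqc-locally on `S` the sieve is represented by an open and closed subset, then the set `U` of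
points `s` of `S` with `𝒢 (Spec κ(s))` is open and closed, and `𝒢 U`.
-/

set_option autoImplicit false
set_option linter.style.haveILetI false
set_option linter.unusedVariables false
set_option linter.unusedSectionVars false

universe u

open CategoryTheory CategoryTheory.Limits AlgebraicGeometry MorphismProperty
open Groth.Agent.Lib.R2H3.FpqcLocal

namespace Groth.Agent.Lib.R2H3.ClopenLocus

theorem exists_clopen_of_fpqc_local {S : Scheme.{u}} (𝒢 : ∀ T : Scheme.{u}, (T ⟶ S) → Prop)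
    (Q1 : ∀ {T T' : Scheme.{u}} (a : T' ⟶ T) (t : T ⟶ S), 𝒢 T t → 𝒢 T' (a ≫ t))
    (Q2 : ∀ {T T' : Scheme.{u}} (a : T' ⟶ T) (t : T ⟶ S), Qfpqc a → 𝒢 T' (a ≫ t) → 𝒢 T t)
    (Q3 : ∀ {T : Scheme.{u}} (t : T ⟶ S),
      (∀ x : T, ∃ O : T.Opens, x ∈ O ∧ 𝒢 O (O.ι ≫ t)) → 𝒢 T t)
    (hloc : ∀ V : S.Opens, IsAffineOpen V → ∃ (T : Scheme.{u}) (c : T ⟶ (V : Scheme.{u})),
      Qfpqc c ∧ ∀ x : T, ∃ (O : Scheme.{u}) (j : O ⟶ T), IsOpenImmersion j ∧ x ∈ Set.range j ∧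
        ∃ Z : Set O, IsClopen Z ∧
          (∀ (Y : Scheme.{u}) (y : Y ⟶ O), Set.range y ⊆ Z → 𝒢 Y (y ≫ j ≫ c ≫ V.ι)) ∧
          (∀ (K : Type u) [Field K] (y : Spec (CommRingCat.of K) ⟶ O),
            𝒢 (Spec (CommRingCat.of K)) (y ≫ j ≫ c ≫ V.ι) → Set.range y ⊆ Z)) :
    ∃ U : S.Opens, IsClosed (U : Set S) ∧
      (∀ s : S, s ∈ U ↔ 𝒢 (Spec (S.residueField s)) (S.fromSpecResidueField s)) ∧
      𝒢 U U.ι := by
  obtain ⟨R, hR⟩ : ∃ R : Set S,
      R = {s | 𝒢 (Spec (S.residueField s)) (S.fromSpecResidueField s)} := ⟨_, rfl⟩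
  have hRmem : ∀ s, s ∈ R ↔ 𝒢 (Spec (S.residueField s)) (S.fromSpecResidueField s) := by
    intro s
    rw [hR]
    rfl
  -- the preimage of `R` in a local model is the representing clopen subset
  have key : ∀ {O : Scheme.{u}} (g : O ⟶ S) (Z : Set O),
      (∀ (Y : Scheme.{u}) (y : Y ⟶ O), Set.range y ⊆ Z → 𝒢 Y (y ≫ g)) →
      (∀ (K : Type u) [Field K] (y : Spec (CommRingCat.of K) ⟶ O),
        𝒢 (Spec (CommRingCat.of K)) (y ≫ g) → Set.range y ⊆ Z) →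
      ∀ x : O, x ∈ Z ↔ g x ∈ R := by
    intro O g Z h1 h2 x
    have hcomm := Scheme.Hom.SpecMap_residueFieldMap_fromSpecResidueField g x
    have hq : Qfpqc (Spec.map (g.residueFieldMap x)) :=
      Groth.Agent.Lib.R2H3.MultHom.qfpqc_specMap_field (g.residueFieldMap x).hom
    rw [hRmem]
    constructor
    · intro hx
      have h3 := h1 _ (O.fromSpecResidueField x) (by
        rw [Scheme.range_fromSpecResidueField]
        exact Set.singleton_subset_iff.mpr hx)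
      rw [← hcomm] at h3
      exact Q2 _ _ hq h3
    · intro hs
      have h3 := Q1 (Spec.map (g.residueFieldMap x)) _ hs
      rw [hcomm] at h3
      have h4 := h2 (O.residueField x) (O.fromSpecResidueField x) h3
      rw [Scheme.range_fromSpecResidueField] at h4
      exact Set.singleton_subset_iff.mp h4
  have hopen : IsOpen R := by
    apply isOpen_of_fpqc_local
    intro V hV
    obtain ⟨T, c, hc', hl⟩ := hloc V hV
    refine ⟨T, c, hc', ?_⟩
    rw [isOpen_iff_forall_mem_open]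
    intro x hx
    obtain ⟨O, j, hj, ⟨x₀, rfl⟩, Z, hZ, h1, h2⟩ := hl x
    have hk := key (j ≫ c ≫ V.ι) Z h1 h2
    refine ⟨j '' Z, ?_, j.isOpenEmbedding.isOpenMap _ hZ.2, ⟨x₀, ?_, rfl⟩⟩
    · rintro _ ⟨y, hy, rfl⟩
      change (c ≫ V.ι) (j y) ∈ R
      rw [← Scheme.Hom.comp_apply]
      exact (hk y).mp hy
    · rw [hk x₀, Scheme.Hom.comp_apply]
      exact hx
  have hclosed : IsOpen Rᶜ := by
    apply isOpen_of_fpqc_local
    intro V hV
    obtain ⟨T, c, hc', hl⟩ := hloc V hV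
    refine ⟨T, c, hc', ?_⟩
    rw [isOpen_iff_forall_mem_open]
    intro x hx
    obtain ⟨O, j, hj, ⟨x₀, rfl⟩, Z, hZ, h1, h2⟩ := hl x
    have hk := key (j ≫ c ≫ V.ι) Z h1 h2
    refine ⟨j '' Zᶜ, ?_, j.isOpenEmbedding.isOpenMap _ hZ.1.isOpen_compl, ⟨x₀, ?_, rfl⟩⟩
    · rintro _ ⟨y, hy, rfl⟩
      change (c ≫ V.ι) (j y) ∈ Rᶜ
      rw [← Scheme.Hom.comp_apply, Set.mem_compl_iff, ← hk y]
      exact hy
    · rw [Set.mem_compl_iff, hk x₀, Scheme.Hom.comp_apply]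
      exact hx
  refine ⟨⟨R, hopen⟩, ⟨hclosed⟩, hRmem, ?_⟩
  refine of_fpqc_local 𝒢 Q1 Q2 Q3 ⟨R, hopen⟩ (fun V hV => ?_)
  obtain ⟨T, c, hc', hl⟩ := hloc V hV
  refine ⟨T, c, hc', fun x hx => ?_⟩
  obtain ⟨O, j, hj, ⟨x₀, rfl⟩, Z, hZ, h1, h2⟩ := hl x
  have hk := key (j ≫ c ≫ V.ι) Z h1 h2
  have hx₀ : x₀ ∈ Z := by
    rw [hk x₀, Scheme.Hom.comp_apply]
    exact hx
  obtain ⟨O', hO'⟩ : ∃ O' : O.Opens, (O' : Set O) = Z := ⟨⟨Z, hZ.2⟩, rfl⟩
  refine ⟨O', O'.ι ≫ j, inferInstance, ⟨⟨x₀, by rw [← hO'] at hx₀; exact hx₀⟩, rfl⟩, ?_⟩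
  rw [Category.assoc]
  apply h1
  rw [Scheme.Opens.range_ι, hO']

end Groth.Agent.Lib.R2H3.ClopenLocus
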