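import Mathlib

/-!
# Coreflection onto the objects killed by an "ideal": the lowest non-vanishing derived functor
represents an `Ext` group (helper3, round 2)

Abstract setting: an abelian category `𝒜`, an adjunction `adj : Θ ⊣ T` of endofunctors and a natural
transformation `η : 𝟭 ⟶ Θ` which is an epimorphism on every object (think `Θ = - ⊗ B` for a quotient
`O → B`, `T = ℋom(B, -)`).  The objects `M` with `η_M` a monomorphism (hence an isomorphism) play the
role of the `B`-modules.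

* `ev adj η G : T G ⟶ G` (evaluation at one), `ev_mono`, `exists_lift`;
* `RelInj` : relative injectivity; `relInj_T`, `splitting`;
* `main` : if `R^q T (A) = 0` for `q < r`, then `Hom(M, R^r T (A)) ≅ Ext^r(M, A)` for all `M` with `η_M`
  mono, through composition with one class `ε ∈ Ext^r(R^r T (A), A)`.
-/

set_option autoImplicit false
set_option linter.unusedSectionVars false
set_option linter.style.haveILetI false
universe w v u

namespace Groth.Agent.Lib.R2H3.Corefl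

open CategoryTheory CategoryTheory.Limits Abelian

variable {𝒜 : Type u} [Category.{v} 𝒜] [Abelian 𝒜]
  {Θ T : 𝒜 ⥤ 𝒜} (adj : Θ ⊣ T) (η : 𝟭 𝒜 ⟶ Θ)

/-- evaluation at one `T G ⟶ G` -/
noncomputable def ev (G : 𝒜) : T.obj G ⟶ G := η.app (T.obj G) ≫ adj.counit.app G

theorem ev_naturality {G G' : 𝒜} (f : G ⟶ G') : T.map f ≫ ev adj η G' = ev adj η G ≫ f := by
  unfold ev
  have h1 : T.map f ≫ η.app (T.obj G') = η.app (T.obj G) ≫ Θ.map (T.map f) :=
    η.naturality (T.map f)
  have h2 : Θ.map (T.map f) ≫ adj.counit.app G' = adj.counit.app G ≫ f :=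
    adj.counit.naturality f
  rw [← Category.assoc, h1, Category.assoc, h2, Category.assoc]

theorem comp_ev {M G : 𝒜} (u : M ⟶ T.obj G) :
    u ≫ ev adj η G = η.app M ≫ (adj.homEquiv M G).symm u := by
  unfold ev
  have h1 : u ≫ η.app (T.obj G) = η.app M ≫ Θ.map u := η.naturality u
  rw [← Category.assoc, h1, Category.assoc, Adjunction.homEquiv_counit]

section

variable (hη : ∀ N : 𝒜, Epi (η.app N))
include hη

theorem ev_mono (G : 𝒜) : Mono (ev adj η G) := by
  constructor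
  intro M u u' h
  rw [comp_ev, comp_ev] at h
  haveI := hη M
  have h2 := (cancel_epi (η.app M)).1 h
  exact (adj.homEquiv M G).symm.injective h2

theorem isIso_of_mono (M : 𝒜) (hM : Mono (η.app M)) : IsIso (η.app M) := by
  haveI := hη M
  exact isIso_of_mono_of_epi _

theorem exists_lift (M : 𝒜) (hM : Mono (η.app M)) (G : 𝒜) (h : M ⟶ G) :
    ∃ u : M ⟶ T.obj G, u ≫ ev adj η G = h := by
  haveI := isIso_of_mono η hη M hM
  refine ⟨adj.homEquiv M G (inv (η.app M) ≫ h), ?_⟩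
  rw [comp_ev, Equiv.symm_apply_apply, IsIso.hom_inv_id_assoc]

omit hη in
theorem mono_of_mono_le {M' M'' : 𝒜} (j : M' ⟶ M'') [Mono j] (h : Mono (η.app M'')) :
    Mono (η.app M') := by
  have h1 : η.app M' ≫ Θ.map j = j ≫ η.app M'' := (η.naturality j).symm
  haveI : Mono (η.app M' ≫ Θ.map j) := by
    rw [h1]
    exact mono_comp _ _
  exact mono_of_mono (η.app M') (Θ.map j)

include adj in
theorem mono_T (G : 𝒜) : Mono (η.app (T.obj G)) := by
  haveI : Mono (η.app (T.obj G) ≫ adj.counit.app G) := ev_mono adj η hη G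
  exact mono_of_mono (η.app (T.obj G)) (adj.counit.app G)

end

/-- relative injectivity with respect to the objects on which `η` is a monomorphism -/
def RelInj (Q : 𝒜) : Prop :=
  ∀ ⦃M' M'' : 𝒜⦄ (j : M' ⟶ M'') [Mono j], Mono (η.app M'') → ∀ f : M' ⟶ Q, ∃ g : M'' ⟶ Q, j ≫ g = f

theorem relInj_of_isZero (Q : 𝒜) (hQ : IsZero Q) : RelInj η Q := by
  intro M' M'' j _ _ f
  exact ⟨0, hQ.eq_of_tgt _ _⟩

include adj in
theorem relInj_T (hη : ∀ N : 𝒜, Epi (η.app N)) (G : 𝒜) [Injective G] : RelInj η (T.obj G) := by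
  intro M' M'' j _ hM'' f
  obtain ⟨g, hg⟩ := exists_lift adj η hη M'' hM'' G (Injective.factorThru (f ≫ ev adj η G) j)
  refine ⟨g, ?_⟩
  haveI := ev_mono adj η hη G
  rw [← cancel_mono (ev adj η G), Category.assoc, hg, Injective.comp_factorThru]

/-- a short exact sequence with relatively injective sub and middle term (the latter killed by the
ideal) splits, and the quotient is relatively injective -/
theorem splitting (S : ShortComplex 𝒜) (hS : S.ShortExact) (h₁ : RelInj η S.X₁)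
    (h₂ : RelInj η S.X₂) (hM : Mono (η.app S.X₂)) :
    (∃ s : S.X₃ ⟶ S.X₂, s ≫ S.g = 𝟙 _) ∧ RelInj η S.X₃ := by
  haveI := hS.mono_f
  haveI := hS.epi_g
  obtain ⟨ρ, hρ⟩ := h₁ S.f hM (𝟙 _)
  let sp := ShortComplex.Splitting.ofExactOfRetraction S hS.exact ρ hρ hS.epi_g
  refine ⟨⟨sp.s, sp.s_g⟩, ?_⟩
  intro M' M'' j _ hM'' f
  obtain ⟨g, hg⟩ := h₂ j hM'' (f ≫ sp.s)
  refine ⟨g ≫ S.g, ?_⟩
  rw [← Category.assoc, hg, Category.assoc, sp.s_g, Category.comp_id]

section Complex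

variable [T.Additive] (hη : ∀ N : 𝒜, Epi (η.app N)) {A : 𝒜} (I : InjectiveResolution A)

/-- the complex `T(I^•)` -/
noncomputable abbrev cx : CochainComplex 𝒜 ℕ :=
  (T.mapHomologicalComplex (ComplexShape.up ℕ)).obj I.cocomplex

/-- the short complex `0 → Z^q → C^q → Z^{q+1} → 0` -/
noncomputable def cycSeq (q : ℕ) : ShortComplex 𝒜 :=
  ShortComplex.mk ((cx (T := T) I).iCycles q) ((cx (T := T) I).toCycles q (q + 1)) (by
    rw [← cancel_mono ((cx (T := T) I).iCycles (q + 1)), Category.assoc,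
      HomologicalComplex.toCycles_i, HomologicalComplex.iCycles_d, zero_comp])

theorem epi_toCycles (q : ℕ) (h : IsZero ((cx (T := T) I).homology (q + 1))) :
    Epi ((cx (T := T) I).toCycles q (q + 1)) := by
  apply Preadditive.epi_of_cancel_zero
  intro P g hg
  have hc := (cx (T := T) I).homologyIsCokernel q (q + 1) (by simp)
  have h1 : g = (cx (T := T) I).homologyπ (q + 1) ≫
      hc.desc (CokernelCofork.ofπ g hg) := (hc.fac (CokernelCofork.ofπ g hg)
        WalkingParallelPair.one).symm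
  have h2 : ∀ d : (cx (T := T) I).homology (q + 1) ⟶ P,
      (cx (T := T) I).homologyπ (q + 1) ≫ d = 0 := fun d => by
    rw [h.eq_of_tgt ((cx (T := T) I).homologyπ (q + 1)) 0, zero_comp]
  rw [h1]
  exact h2 _

theorem cycSeq_shortExact (q : ℕ) (h : IsZero ((cx (T := T) I).homology (q + 1))) :
    (cycSeq (T := T) I q).ShortExact := by
  have hk : IsLimit (KernelFork.ofι ((cx (T := T) I).iCycles q) (cycSeq (T := T) I q).zero) :=
    isKernelOfComp ((cx (T := T) I).iCycles (q + 1)) ((cx (T := T) I).d q (q + 1))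
      ((cx (T := T) I).cyclesIsKernel q (q + 1) (by simp)) (cycSeq (T := T) I q).zero
      ((cx (T := T) I).toCycles_i q (q + 1))
  exact
    { exact := ShortComplex.exact_of_f_is_kernel _ hk
      mono_f := inferInstanceAs (Mono ((cx (T := T) I).iCycles q))
      epi_g := epi_toCycles I q h }

include hη adj in
theorem relInj_X (q : ℕ) : RelInj η ((cx (T := T) I).X q) := by
  haveI : Injective (I.cocomplex.X q) := I.injective q
  exact relInj_T adj η hη (I.cocomplex.X q)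

include hη adj in
theorem mono_X (q : ℕ) : Mono (η.app ((cx (T := T) I).X q)) :=
  mono_T adj η hη (I.cocomplex.X q)

theorem isZero_cycles_zero (h : IsZero ((cx (T := T) I).homology 0)) :
    IsZero ((cx (T := T) I).cycles 0) := by
  haveI : IsIso ((cx (T := T) I).homologyπ 0) :=
    (cx (T := T) I).isIso_homologyπ 0 0 (by simp) (by
      apply HomologicalComplex.shape
      simp)
  exact IsZero.of_iso h (asIso ((cx (T := T) I).homologyπ 0))

include hη adj in
theorem relInj_cycles (r : ℕ) (hvan : ∀ q, q ≤ r → IsZero ((cx (T := T) I).homology q)) :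
    ∀ q, q ≤ r → RelInj η ((cx (T := T) I).cycles q) := by
  intro q
  induction q with
  | zero =>
    intro _
    exact relInj_of_isZero η _ (isZero_cycles_zero I (hvan 0 (Nat.zero_le _)))
  | succ q ih =>
    intro hq
    have hS := cycSeq_shortExact (T := T) I q (hvan (q + 1) hq)
    exact (splitting η (cycSeq (T := T) I q) hS (ih (by omega)) (relInj_X adj η hη I q)
      (mono_X adj η hη I q)).2

end Complex

section Main

variable [HasExt.{w} 𝒜] [T.Additive] (hη : ∀ N : 𝒜, Epi (η.app N)) {A : 𝒜}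
  (I : InjectiveResolution A)

/-- evaluation on the terms of the complex -/
noncomputable def evC (q : ℕ) : (cx (T := T) I).X q ⟶ I.cocomplex.X q := ev adj η (I.cocomplex.X q)

theorem evC_d (p q : ℕ) :
    evC adj η I p ≫ I.cocomplex.d p q = (cx (T := T) I).d p q ≫ evC adj η I q :=
  (ev_naturality adj η (I.cocomplex.d p q)).symm

include hη in
theorem evC_mono (q : ℕ) : Mono (evC adj η I q) := ev_mono adj η hη (I.cocomplex.X q)

include hη in
theorem exists_liftC (M : 𝒜) (hM : Mono (η.app M)) (q : ℕ) (h : M ⟶ I.cocomplex.X q) :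
    ∃ u : M ⟶ (cx (T := T) I).X q, u ≫ evC adj η I q = h :=
  exists_lift adj η hη M hM (I.cocomplex.X q) h

include hη adj in
/-- the case of positive degree -/
theorem main_succ (r₀ : ℕ) (hvan : ∀ q, q ≤ r₀ → IsZero ((cx (T := T) I).homology q)) :
    ∃ ε : Ext.{w} ((cx (T := T) I).homology (r₀ + 1)) A (r₀ + 1), ∀ M : 𝒜, Mono (η.app M) →
      Function.Bijective (fun u : M ⟶ (cx (T := T) I).homology (r₀ + 1) =>
        (Ext.mk₀ u).comp ε (zero_add (r₀ + 1))) := by
  obtain ⟨C, hC⟩ : ∃ C : CochainComplex 𝒜 ℕ, C = cx (T := T) I := ⟨_, rfl⟩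
  have hevm : ∀ q, Mono (evC adj η I q) := fun q => evC_mono adj η hη I q
  -- notation
  set p := (cx (T := T) I).toCycles r₀ (r₀ + 1) with hp
  set π := (cx (T := T) I).homologyπ (r₀ + 1) with hπ
  have hc := (cx (T := T) I).homologyIsCokernel r₀ (r₀ + 1) (by simp)
  haveI hπepi : Epi π := epi_of_isColimit_cofork hc
  have hpπ : p ≫ π = 0 := (cx (T := T) I).toCycles_comp_homologyπ r₀ (r₀ + 1)
  -- the image of `p`
  let e := Abelian.factorThruImage p
  let m := Abelian.image.ι p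
  have hem : e ≫ m = p := Abelian.image.fac p
  have hmπ : m ≫ π = 0 := by
    rw [← cancel_epi e, ← Category.assoc, hem, hpπ, comp_zero]
  -- the kernel of `p`
  have hzero : (cx (T := T) I).iCycles r₀ ≫ p = 0 := (cycSeq (T := T) I r₀).zero
  have hkp : IsLimit (KernelFork.ofι ((cx (T := T) I).iCycles r₀) hzero) :=
    isKernelOfComp ((cx (T := T) I).iCycles (r₀ + 1)) ((cx (T := T) I).d r₀ (r₀ + 1))
      ((cx (T := T) I).cyclesIsKernel r₀ (r₀ + 1) (by simp)) hzero
      ((cx (T := T) I).toCycles_i r₀ (r₀ + 1))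
  have hzero' : (cx (T := T) I).iCycles r₀ ≫ e = 0 := by
    rw [← cancel_mono m, Category.assoc, hem, hzero, zero_comp]
  have hke : IsLimit (KernelFork.ofι ((cx (T := T) I).iCycles r₀) hzero') :=
    isKernelOfComp m p hkp hzero' hem
  let S₁ : ShortComplex 𝒜 := ShortComplex.mk ((cx (T := T) I).iCycles r₀) e hzero'
  have hS₁ : S₁.ShortExact :=
    { exact := ShortComplex.exact_of_f_is_kernel _ hke
      mono_f := inferInstanceAs (Mono ((cx (T := T) I).iCycles r₀))
      epi_g := inferInstanceAs (Epi (Abelian.factorThruImage p)) }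
  obtain ⟨⟨s, hs⟩, hB⟩ := splitting η S₁ hS₁
    (relInj_cycles adj η hη I r₀ hvan r₀ le_rfl) (relInj_X adj η hη I r₀) (mono_X adj η hη I r₀)
  have hs' : s ≫ e = 𝟙 _ := hs
  -- `Z^r` is killed by the ideal
  have hZ : Mono (η.app ((cx (T := T) I).cycles (r₀ + 1))) :=
    mono_of_mono_le η ((cx (T := T) I).iCycles (r₀ + 1)) (mono_X adj η hη I (r₀ + 1))
  obtain ⟨ρ, hρ⟩ := hB m hZ (𝟙 _)
  -- the section `σ`
  have hσ0 : p ≫ (𝟙 _ - ρ ≫ m) = 0 := by
    rw [Preadditive.comp_sub, Category.comp_id, ← hem, Category.assoc, reassoc_of% hρ, sub_self]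
  let σ : (cx (T := T) I).homology (r₀ + 1) ⟶ (cx (T := T) I).cycles (r₀ + 1) :=
    hc.desc (CokernelCofork.ofπ (𝟙 _ - ρ ≫ m) hσ0)
  have hπσ : π ≫ σ = 𝟙 _ - ρ ≫ m := hc.fac (CokernelCofork.ofπ (𝟙 _ - ρ ≫ m) hσ0)
    WalkingParallelPair.one
  have hσπ : σ ≫ π = 𝟙 _ := by
    rw [← cancel_epi π, ← Category.assoc, hπσ, Preadditive.sub_comp, Category.id_comp,
      Category.assoc, hmπ, comp_zero, sub_zero, Category.comp_id]
  -- lifting of maps killed by `π`
  have hlift : ∀ (M : 𝒜) (w : M ⟶ (cx (T := T) I).cycles (r₀ + 1)), w ≫ π = 0 →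
      ∃ v : M ⟶ (cx (T := T) I).X r₀, v ≫ p = w := by
    intro M w hw
    refine ⟨w ≫ ρ ≫ s, ?_⟩
    have h1 : w = w ≫ ρ ≫ m := by
      have h2 : w ≫ (π ≫ σ) = w ≫ (𝟙 _ - ρ ≫ m) := by rw [hπσ]
      rw [← Category.assoc, hw, zero_comp, Preadditive.comp_sub, Category.comp_id] at h2
      exact (sub_eq_zero.1 h2.symm)
    rw [← hem, Category.assoc, Category.assoc, reassoc_of% hs']
    exact h1.symm
  -- the cocycles
  let c : ∀ {M : 𝒜}, (M ⟶ (cx (T := T) I).homology (r₀ + 1)) → (M ⟶ I.cocomplex.X (r₀ + 1)) :=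
    fun {M} u => u ≫ σ ≫ (cx (T := T) I).iCycles (r₀ + 1) ≫ evC adj η I (r₀ + 1)
  have hcd : ∀ {M : 𝒜} (u : M ⟶ (cx (T := T) I).homology (r₀ + 1)),
      c u ≫ I.cocomplex.d (r₀ + 1) (r₀ + 1 + 1) = 0 := by
    intro M u
    change (u ≫ σ ≫ (cx (T := T) I).iCycles (r₀ + 1) ≫ evC adj η I (r₀ + 1)) ≫ _ = 0
    rw [Category.assoc, Category.assoc, Category.assoc, evC_d adj η I,
      HomologicalComplex.iCycles_d_assoc, zero_comp, comp_zero, comp_zero]
  have hcsub : ∀ {M : 𝒜} (u u' : M ⟶ (cx (T := T) I).homology (r₀ + 1)),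
      c u - c u' = c (u - u') := by
    intro M u u'
    change u ≫ _ - u' ≫ _ = (u - u') ≫ _
    rw [Preadditive.sub_comp]
  refine ⟨I.extMk (c (𝟙 _)) (r₀ + 1 + 1) rfl (hcd _), ?_⟩
  intro M hM
  have hΨ : ∀ u : M ⟶ (cx (T := T) I).homology (r₀ + 1),
      (Ext.mk₀ u).comp (I.extMk (c (𝟙 _)) (r₀ + 1 + 1) rfl (hcd _)) (zero_add (r₀ + 1)) =
        I.extMk (c u) (r₀ + 1 + 1) rfl (hcd u) := by
    intro u
    rw [InjectiveResolution.mk₀_comp_extMk]
    congr 1
    change u ≫ 𝟙 _ ≫ _ = u ≫ _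
    rw [Category.id_comp]
  -- vanishing criterion
  have hzero_iff : ∀ u : M ⟶ (cx (T := T) I).homology (r₀ + 1),
      I.extMk (c u) (r₀ + 1 + 1) rfl (hcd u) = 0 → u = 0 := by
    intro u hu
    obtain ⟨g, hg⟩ := (I.extMk_eq_zero_iff (c u) (r₀ + 1 + 1) rfl (hcd u) r₀ rfl).1 hu
    obtain ⟨v, hv⟩ := exists_liftC adj η hη I M hM r₀ g
    have h1 : (v ≫ (cx (T := T) I).d r₀ (r₀ + 1)) ≫ evC adj η I (r₀ + 1) =
        (u ≫ σ ≫ (cx (T := T) I).iCycles (r₀ + 1)) ≫ evC adj η I (r₀ + 1) := by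
      rw [Category.assoc, ← evC_d adj η I, ← Category.assoc, hv, hg]
      change u ≫ _ = _
      simp only [Category.assoc]
    haveI := hevm (r₀ + 1)
    have h2 := (cancel_mono (evC adj η I (r₀ + 1))).1 h1
    rw [← (cx (T := T) I).toCycles_i r₀ (r₀ + 1), ← Category.assoc, ← Category.assoc] at h2
    have h3 : v ≫ p = u ≫ σ := (cancel_mono ((cx (T := T) I).iCycles (r₀ + 1))).1 h2
    have h4 : (v ≫ p) ≫ π = (u ≫ σ) ≫ π := by rw [h3]
    rw [Category.assoc, hpπ, comp_zero, Category.assoc, hσπ, Category.comp_id] at h4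
    exact h4.symm
  constructor
  · intro u u' huu'
    have h1 : I.extMk (c u) (r₀ + 1 + 1) rfl (hcd u) = I.extMk (c u') (r₀ + 1 + 1) rfl (hcd u') := by
      rw [← hΨ, ← hΨ]
      exact huu'
    have h2 : I.extMk (c u - c u') (r₀ + 1 + 1) rfl (by rw [Preadditive.sub_comp, hcd, hcd, sub_self]) = 0 := by
      rw [← InjectiveResolution.sub_extMk _ _ _ _ _ (hcd u) (hcd u'), h1, sub_self]
    have h3 : I.extMk (c (u - u')) (r₀ + 1 + 1) rfl (hcd _) = 0 := by
      rw [← h2]
      congr 1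
      exact (hcsub u u').symm
    exact sub_eq_zero.1 (hzero_iff _ h3)
  · intro α
    obtain ⟨f, hf, rfl⟩ := I.extMk_surjective α (r₀ + 1 + 1) rfl
    obtain ⟨g, hg⟩ := exists_liftC adj η hη I M hM (r₀ + 1) f
    have hgd : g ≫ (cx (T := T) I).d (r₀ + 1) (r₀ + 1 + 1) = 0 := by
      haveI := hevm (r₀ + 1 + 1)
      rw [← cancel_mono (evC adj η I (r₀ + 1 + 1)), Category.assoc, ← evC_d adj η I,
        ← Category.assoc, hg, hf, zero_comp]
    let g' := (cx (T := T) I).liftCycles g (r₀ + 1 + 1) (by simp) hgd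
    have hg' : g' ≫ (cx (T := T) I).iCycles (r₀ + 1) = g :=
      (cx (T := T) I).liftCycles_i g (r₀ + 1 + 1) (by simp) hgd
    let u := g' ≫ π
    have hw : (g' - u ≫ σ) ≫ π = 0 := by
      rw [Preadditive.sub_comp, Category.assoc, hσπ, Category.comp_id, sub_self]
    obtain ⟨v, hv⟩ := hlift M (g' - u ≫ σ) hw
    refine ⟨u, ?_⟩
    change (Ext.mk₀ u).comp _ _ = _
    rw [hΨ]
    have h1 : f - c u = (v ≫ evC adj η I r₀) ≫ I.cocomplex.d r₀ (r₀ + 1) := by
      have e1 : (v ≫ evC adj η I r₀) ≫ I.cocomplex.d r₀ (r₀ + 1) =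
          ((v ≫ p) ≫ (cx (T := T) I).iCycles (r₀ + 1)) ≫ evC adj η I (r₀ + 1) := by
        rw [Category.assoc, evC_d adj η I]
        simp only [Category.assoc]
        rw [hp, HomologicalComplex.toCycles_i_assoc]
      rw [e1, hv, ← hg, ← hg']
      change (g' ≫ _) ≫ _ - u ≫ σ ≫ _ ≫ _ = ((g' - u ≫ σ) ≫ _) ≫ _
      simp only [Preadditive.sub_comp, Category.assoc]
    have h2 : I.extMk (f - c u) (r₀ + 1 + 1) rfl (by rw [Preadditive.sub_comp, hf, hcd, sub_self]) = 0 :=
      (I.extMk_eq_zero_iff _ (r₀ + 1 + 1) rfl _ r₀ rfl).2 ⟨_, h1.symm⟩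
    rw [← InjectiveResolution.sub_extMk _ _ _ _ _ hf (hcd u)] at h2
    exact (sub_eq_zero.1 h2).symm

include hη adj in
/-- the case of degree zero -/
theorem main_zero (W : 𝒜) (e₀ : W ≅ T.obj A) :
    ∃ ε : Ext.{w} W A 0, ∀ M : 𝒜, Mono (η.app M) →
      Function.Bijective (fun u : M ⟶ W => (Ext.mk₀ u).comp ε (zero_add 0)) := by
  refine ⟨Ext.mk₀ (e₀.hom ≫ ev adj η A), ?_⟩
  intro M hM
  haveI := ev_mono adj η hη A
  constructor
  · intro u u' h
    have h' : (Ext.mk₀ u).comp (Ext.mk₀ (e₀.hom ≫ ev adj η A)) (zero_add 0) =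
        (Ext.mk₀ u').comp (Ext.mk₀ (e₀.hom ≫ ev adj η A)) (zero_add 0) := h
    rw [Ext.mk₀_comp_mk₀, Ext.mk₀_comp_mk₀] at h'
    have h2 := (Ext.mk₀_bijective M A).1 h'
    rw [← Category.assoc, ← Category.assoc] at h2
    have h3 := (cancel_mono (ev adj η A)).1 h2
    exact (cancel_mono e₀.hom).1 h3
  · intro α
    obtain ⟨f, rfl⟩ := (Ext.mk₀_bijective M A).2 α
    obtain ⟨v, hv⟩ := exists_lift adj η hη M hM A f
    refine ⟨v ≫ e₀.inv, ?_⟩
    change (Ext.mk₀ (v ≫ e₀.inv)).comp (Ext.mk₀ (e₀.hom ≫ ev adj η A)) (zero_add 0) = _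
    rw [Ext.mk₀_comp_mk₀, Category.assoc, Iso.inv_hom_id_assoc, hv]

include hη adj in
/-- **Main theorem**: if `R^q T (A) = 0` for `q < r` then composition with one class
`ε ∈ Ext^r(R^r T (A), A)` identifies `Hom(M, R^r T (A))` with `Ext^r(M, A)` for every `M` on which
`η` is a monomorphism. -/
theorem main [HasInjectiveResolutions 𝒜] (A : 𝒜) (r : ℕ)
    (hvan : ∀ q, q < r → IsZero ((T.rightDerived q).obj A)) :
    ∃ ε : Ext.{w} ((T.rightDerived r).obj A) A r, ∀ M : 𝒜, Mono (η.app M) →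
      Function.Bijective (fun u : M ⟶ (T.rightDerived r).obj A =>
        (Ext.mk₀ u).comp ε (zero_add r)) := by
  rcases Nat.eq_zero_or_pos r with hr | hr
  · subst hr
    haveI : PreservesLimitsOfSize.{0, 0} T := adj.rightAdjoint_preservesLimits
    haveI : PreservesFiniteLimits T := PreservesLimitsOfSize.preservesFiniteLimits _
    exact main_zero adj η hη _ ((Functor.rightDerivedZeroIsoSelf T).app A)
  · obtain ⟨r₀, rfl⟩ : ∃ r₀, r = r₀ + 1 := ⟨r - 1, by omega⟩
    let I := injectiveResolution A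
    have hiso : ∀ q, (T.rightDerived q).obj A ≅ (cx (T := T) I).homology q := fun q =>
      I.isoRightDerivedObj T q
    obtain ⟨ε, hε⟩ := main_succ adj η hη I r₀ (fun q hq =>
      IsZero.of_iso (hvan q (by omega)) (hiso q).symm)
    refine ⟨(Ext.mk₀ (hiso (r₀ + 1)).hom).comp ε (zero_add _), ?_⟩
    intro M hM
    have hb := hε M hM
    have hcomp : (fun u : M ⟶ (T.rightDerived (r₀ + 1)).obj A =>
        (Ext.mk₀ u).comp ((Ext.mk₀ (hiso (r₀ + 1)).hom).comp ε (zero_add _)) (zero_add (r₀ + 1))) =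
        (fun u : M ⟶ (cx (T := T) I).homology (r₀ + 1) =>
          (Ext.mk₀ u).comp ε (zero_add (r₀ + 1))) ∘ (fun u => u ≫ (hiso (r₀ + 1)).hom) := by
      funext u
      change _ = (Ext.mk₀ (u ≫ (hiso (r₀ + 1)).hom)).comp ε (zero_add (r₀ + 1))
      rw [← Ext.mk₀_comp_mk₀, Ext.comp_assoc_of_second_deg_zero]
    rw [hcomp]
    refine hb.comp ?_
    exact ⟨fun u u' h => (cancel_mono (hiso (r₀ + 1)).hom).1 h,
      fun v => ⟨v ≫ (hiso (r₀ + 1)).inv, by simp⟩⟩

end Main

end Groth.Agent.Lib.R2H3.Corefl
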