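import Mathlib
import Groth.Prelude.Def_ModSite2
import Groth.Agent.Lib.R2H3Corefl
import Groth.Agent.Lib.R2H3ClosedTensor

/-!
# Closed immersions: `Hom(ι_*F, Ext^r(ι_*O_X, A)) ≅ Ext^r(ι_*F, A)` (helper3, round 2)

For a closed immersion `ι : X ⟶ P` and an `O_P`-module `A` whose lower Ext sheaves
`Ext^q(ι_*O_X, A)`, `q < r`, vanish, there is one class
`ε ∈ Ext^r(Ext^r(ι_*O_X, A), A)` such that for every `O_X`-module `F`, composition with `ε` is a bijection
`Hom(ι_*F, Ext^r(ι_*O_X, A)) → Ext^r(ι_*F, A)`.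
-/

set_option autoImplicit false
set_option linter.unusedSectionVars false
set_option linter.style.haveILetI false
universe u

namespace Groth.Agent.Lib.R2H3.ClosedCorefl

open CategoryTheory CategoryTheory.Limits AlgebraicGeometry Opposite Abelian
open Groth.Agent.Lib.R2H3.ClosedTensor

variable {X P : Scheme.{u}} (ι : X ⟶ P) [IsClosedImmersion ι]
  [ModSite.HasSheafHom (O := P.sheaf) ((Scheme.Modules.pushforward ι).obj (Coh.structureModule X))]
  [HasInjectiveResolutions (ModSite.Mod P.sheaf)]

/-- `ι_* F` as a module on the site of `P` -/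
noncomputable abbrev pushS (F : X.Modules) : ModSite.Mod P.sheaf :=
  (Scheme.Modules.pushforward ι).obj F

theorem main' [HasExt.{u} (ModSite.Mod P.sheaf)] (A : ModSite.Mod P.sheaf) (r : ℕ)
    (hvan : ∀ q, q < r → IsZero ((ModSite.extSh (O := P.sheaf)
      ((Scheme.Modules.pushforward ι).obj (Coh.structureModule X)) q).obj A)) :
    ∃ ε : Ext.{u} ((ModSite.extSh (O := P.sheaf)
        ((Scheme.Modules.pushforward ι).obj (Coh.structureModule X)) r).obj A) A r,
      ∀ F : X.Modules, Function.Bijective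
        (fun u : pushS ι F ⟶
          (ModSite.extSh (O := P.sheaf)
            ((Scheme.Modules.pushforward ι).obj (Coh.structureModule X)) r).obj A =>
          (Ext.mk₀ u).comp ε (zero_add r)) := by
  obtain ⟨ε, hε⟩ := Groth.Agent.Lib.R2H3.Corefl.main.{u}
    (ModSite.sheafHomAdj (O := P.sheaf) (pushO ι)) (η ι) (fun N => epi_η_app ι N) A r hvan
  exact ⟨ε, fun F => hε _ (mono_η_push ι F)⟩

/-- the Ext sheaf `ℰxt^q(ι_*O_X, A)` as an object of `P.Modules` -/
noncomputable def extShObj (A : P.Modules) (q : ℕ) : P.Modules :=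
  (ModSite.extSh (O := P.sheaf)
    ((Scheme.Modules.pushforward ι).obj (Coh.structureModule X)) q).obj A

theorem main [hE : HasExt.{u} P.Modules] (A : P.Modules) (r : ℕ)
    (hvan : ∀ q, q < r → IsZero ((ModSite.extSh (O := P.sheaf)
      ((Scheme.Modules.pushforward ι).obj (Coh.structureModule X)) q).obj A)) :
    ∃ ε : Ext.{u} (extShObj ι A r) A r,
      ∀ F : X.Modules, Function.Bijective
        (fun u : (Scheme.Modules.pushforward ι).obj F ⟶ extShObj ι A r =>
          (Ext.mk₀ u).comp ε (zero_add r)) := by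
  letI hE' : HasExt.{u} (ModSite.Mod P.sheaf) := hE
  exact main' ι A r hvan

end Groth.Agent.Lib.R2H3.ClosedCorefl
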