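import Mathlib
import Groth.Prelude.Def_Coh
import Groth.Prelude.Def_CohTop
import Groth.Agent.Lib.Helper16ClosedEmb
import Groth.Agent.Lib.Helper16ExtPrecomp
import Groth.Agent.Lib.R2H2HHLin
import Groth.Agent.Lib.R2H2AffPushLin

/-!
# The natural isomorphism `H^p(X, F) ≅ H^p(P, ι_* F)` for a closed embedding (helper3, round 2)

`sigmaTop i hi F p : H^p(Z, F) → H^p(X, i_* F)`, `y ↦ uZ ∘ i_*(y)`, for a closed embedding `i` of
topological spaces; bijective, additive, compatible with composition of `Ext` classes.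
`sigma ι hι F p` : the same for modules on schemes; `sigma_HmapL` (naturality), `sigmaL` (linear over
a base ring).
-/

set_option autoImplicit false
set_option linter.unusedSectionVars false
set_option linter.style.haveILetI false
universe u

namespace Groth.Agent.Lib.R2H3.ClosedSigma

open CategoryTheory CategoryTheory.Limits AlgebraicGeometry Opposite Abelian TopologicalSpace
open Groth.Agent.Lib.Helper16.ClosedEmb Groth.Agent.Lib.R2H2.HHLin

section Top

variable {Z X : TopCat.{u}} (i : Z ⟶ X) (hi : Topology.IsClosedEmbedding i)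

/-- `i_*` on `Ext` classes of abelian sheaves -/
noncomputable def pushExt {F G : CohTop.Ab Z} {a : ℕ} (x : Ext.{u} F G a) :
    Ext.{u} ((CohTop.push i).obj F) ((CohTop.push i).obj G) a :=
  haveI := push_preservesFiniteColimits i hi
  haveI := push_preservesFiniteLimits i
  x.mapExactFunctor (CohTop.push i)

theorem pushExt_mk₀ {F G : CohTop.Ab Z} (f : F ⟶ G) :
    pushExt i hi (Ext.mk₀ f) = Ext.mk₀ ((CohTop.push i).map f) := by
  haveI := push_preservesFiniteColimits i hi
  haveI := push_preservesFiniteLimits i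
  exact Ext.mapExactFunctor_mk₀ (CohTop.push i) f

theorem pushExt_comp {F G K : CohTop.Ab Z} {a b c : ℕ} (x : Ext.{u} F G a) (x' : Ext.{u} G K b)
    (h : a + b = c) :
    pushExt i hi (x.comp x' h) = (pushExt i hi x).comp (pushExt i hi x') h := by
  haveI := push_preservesFiniteColimits i hi
  haveI := push_preservesFiniteLimits i
  exact Ext.mapExactFunctor_comp (CohTop.push i) x x' h

theorem pushExt_add {F G : CohTop.Ab Z} {a : ℕ} (x x' : Ext.{u} F G a) :
    pushExt i hi (x + x') = pushExt i hi x + pushExt i hi x' := by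
  haveI := push_preservesFiniteColimits i hi
  haveI := push_preservesFiniteLimits i
  exact Ext.mapExactFunctor_add (CohTop.push i) F G a x x'

/-- the comparison map `H^p(Z, F) → H^p(X, i_* F)` -/
noncomputable def sigmaTop (F : CohTop.Ab Z) (p : ℕ) (y : CohTop.H F p) :
    CohTop.H ((CohTop.push i).obj F) p :=
  (Ext.mk₀ (uZ i)).comp (pushExt i hi y) (zero_add p)

theorem sigmaTop_add (F : CohTop.Ab Z) (p : ℕ) (y y' : CohTop.H F p) :
    sigmaTop i hi F p (y + y') = sigmaTop i hi F p y + sigmaTop i hi F p y' := by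
  unfold sigmaTop
  rw [pushExt_add, Ext.comp_add]

theorem sigmaTop_comp {F G : CohTop.Ab Z} {p a c : ℕ} (y : CohTop.H F p) (x : Ext.{u} F G a)
    (h : p + a = c) :
    sigmaTop i hi G c (y.comp x h) = (sigmaTop i hi F p y).comp (pushExt i hi x) h := by
  unfold sigmaTop
  rw [pushExt_comp]
  exact (Ext.comp_assoc (Ext.mk₀ (uZ i)) (pushExt i hi y) (pushExt i hi x) (zero_add p) h
    (by omega)).symm

theorem sigmaTop_bijective (F : CohTop.Ab Z) (p : ℕ) :
    Function.Bijective (sigmaTop i hi F p) := by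
  haveI := push_full i hi
  haveI := push_faithful i hi
  haveI := push_preservesFiniteColimits i hi
  haveI := push_preservesFiniteLimits i
  haveI := push_preservesInjectiveObjects i
  have h1 := Functor.mapExt_bijective_of_preservesInjectiveObjects.{u, u} (CohTop.push i)
    (constZ Z) F p
  have h2 := Groth.Agent.Lib.Helper16.ExtPrecomp.precomp_bijective.{u} (CohTop.push i) (uZ i)
    (uZ_precomp_bijective i hi) p F
  exact h2.comp h1

end Top

section Scheme

variable {X P : Scheme.{u}} (ι : X ⟶ P) (hι : Topology.IsClosedEmbedding ι.base)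

/-- the comparison map `H^p(X, F) → H^p(P, ι_* F)` -/
noncomputable def sigma (F : X.Modules) (p : ℕ) (y : Coh.HH X F p) :
    Coh.HH P ((Scheme.Modules.pushforward ι).obj F) p :=
  sigmaTop ι.base hι (Coh.toAb F) p y

theorem sigma_add (F : X.Modules) (p : ℕ) (y y' : Coh.HH X F p) :
    sigma ι hι F p (y + y') = sigma ι hι F p y + sigma ι hι F p y' :=
  sigmaTop_add ι.base hι (Coh.toAb F) p y y'

theorem sigma_bijective (F : X.Modules) (p : ℕ) : Function.Bijective (sigma ι hι F p) :=
  sigmaTop_bijective ι.base hι (Coh.toAb F) p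

theorem sigma_HmapL {F G : X.Modules} (φ : F ⟶ G) (p : ℕ) (y : Coh.HH X F p) :
    sigma ι hι G p (HmapL φ p y) =
      HmapL ((Scheme.Modules.pushforward ι).map φ) p (sigma ι hι F p y) := by
  have h1 := sigmaTop_comp ι.base hι (F := Coh.toAb F) (G := Coh.toAb G) y (Ext.mk₀ (abMap φ))
    (add_zero p)
  rw [pushExt_mk₀] at h1
  exact h1

/-- multiplication by a global function on `ι_* M` is the pushforward of multiplication by its
pullback -/
lemma smulAb_push (M : X.Modules) (r : Coh.Γtop P) :
    Coh.smulAb ((Scheme.Modules.pushforward ι).obj M) r =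
      (CohTop.push ι.base).map (Coh.smulAb M ((ι.appTop).hom r)) := by
  apply Sheaf.hom_ext
  ext U m
  change Coh.resTop P U r • (show ((Scheme.Modules.pushforward ι).obj M).val.obj U from m) = _
  have h1 : (Coh.smulAb M ((ι.appTop).hom r)).hom.app (op (ι ⁻¹ᵁ U.unop)) m =
      @HSMul.hSMul (X.ringCatSheaf.obj.obj (op (ι ⁻¹ᵁ U.unop))) (M.val.obj (op (ι ⁻¹ᵁ U.unop)))
        (M.val.obj (op (ι ⁻¹ᵁ U.unop))) _
        (Coh.resTop X (op (ι ⁻¹ᵁ U.unop)) ((ι.appTop).hom r)) m := rfl
  refine Eq.trans ?_ h1.symm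
  have h2 : Coh.resTop X (op (ι ⁻¹ᵁ U.unop)) ((ι.appTop).hom r) =
      (ι.app U.unop).hom (Coh.resTop P U r) := by
    have := ι.naturality (homOfLE (le_top (a := U.unop))).op
    exact (ConcreteCategory.congr_hom this r).symm
  rw [h2]
  rfl

section Linear

variable (A : Type u) [CommRing A] [X.Over (Spec (CommRingCat.of A))]
  [P.Over (Spec (CommRingCat.of A))]
  (hA : ι ≫ (P ↘ Spec (CommRingCat.of A)) = X ↘ Spec (CommRingCat.of A))

include hA in
theorem sigma_smul (F : X.Modules) (p : ℕ) (a : A) (y : Coh.HH X F p) :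
    sigma ι hι F p (a • y) = a • sigma ι hι F p y := by
  have h1 := sigmaTop_comp ι.base hι (F := Coh.toAb F) (G := Coh.toAb F) y
    (Ext.mk₀ (Coh.smulAb F (Coh.toGlobal (X ↘ Spec (CommRingCat.of A)) a))) (add_zero p)
  rw [pushExt_mk₀] at h1
  have h2 : (ι.appTop).hom (Coh.toGlobal (P ↘ Spec (CommRingCat.of A)) a) =
      Coh.toGlobal (X ↘ Spec (CommRingCat.of A)) a := by
    rw [← hA]
    simp only [Coh.toGlobal, Scheme.Hom.comp_appTop, CommRingCat.hom_comp]
    rfl
  have h3 := smulAb_push ι F
    (Coh.toGlobal (P ↘ Spec (CommRingCat.of A)) a)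
  rw [h2] at h3
  rw [← h3] at h1
  exact h1

/-- the comparison map as a linear equivalence -/
noncomputable def sigmaL (F : X.Modules) (p : ℕ) :
    Coh.HH X F p ≃ₗ[A] Coh.HH P ((Scheme.Modules.pushforward ι).obj F) p :=
  LinearEquiv.ofBijective
    { toFun := sigma ι hι F p
      map_add' := sigma_add ι hι F p
      map_smul' := sigma_smul ι hι A hA F p }
    (sigma_bijective ι hι F p)

theorem sigmaL_apply (F : X.Modules) (p : ℕ) (y : Coh.HH X F p) :
    sigmaL ι hι A hA F p y = sigma ι hι F p y := rfl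

end Linear

end Scheme

end Groth.Agent.Lib.R2H3.ClosedSigma
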