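import Mathlib
import Groth.Prelude.Def_Coh
import Groth.Prelude.Def_KLin
import Groth.Agent.Lib.R2H2HHLin
import Groth.Agent.Lib.R2H2DualExtGen
import Groth.Agent.Lib.Helper21ModCoh

/-!
# The Yoneda pairing `H^j(X, M) × Ext^i(M, N) → H^{j+i}(X, N)` (helper3, round 2)

For a scheme `X` (over `Spec A`), `x ∈ Ext^i_{O_X}(M, N)` and `y ∈ H^j(X, M) = Ext^j(ℤ, M)`:
`pair x y h = y ∘ ab(x)`, where `ab(x)` is the image of `x` under the exact forgetful functor to abelian
sheaves.

* `abExt`, `abExt_mk₀`, `abExt_comp`, `abExt_extClass`, `abExt_add`, `abExt_smul`;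
* `pairL x h : H^j(X, M) →ₗ[A] H^{j+i}(X, N)`; `pairL_mk₀`, `pairL_comp`, `pairL_extClass`
  (connecting maps), `pairL_add`, `pairL_smul`.
-/

set_option autoImplicit false
set_option linter.unusedSectionVars false
set_option linter.style.haveILetI false
universe u

namespace Groth.Agent.Lib.R2H3.YonedaPair

open CategoryTheory CategoryTheory.Limits AlgebraicGeometry Opposite Abelian
open Groth.Agent.Lib.R2H2.HHLin Groth.Agent.Lib.Helper23.QCohLocal

variable {X : Scheme.{u}}

noncomputable instance preservesFiniteColimits_toAbF : PreservesFiniteColimits (toAbF X) :=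
  inferInstanceAs (PreservesFiniteColimits (SheafOfModules.toSheaf X.ringCatSheaf))

variable [HasExt.{u} X.Modules]

/-- the image of an `Ext` class of modules among the abelian sheaves -/
noncomputable def abExt {M N : X.Modules} {i : ℕ} (x : Ext.{u} M N i) :
    Ext.{u} (Coh.toAb M) (Coh.toAb N) i :=
  x.mapExactFunctor (toAbF X)

theorem abExt_mk₀ {M N : X.Modules} (φ : M ⟶ N) : abExt (Ext.mk₀ φ) = Ext.mk₀ (abMap φ) :=
  Ext.mapExactFunctor_mk₀ (toAbF X) φ

theorem abExt_comp {M N L : X.Modules} {a b c : ℕ} (x : Ext.{u} M N a) (x' : Ext.{u} N L b)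
    (h : a + b = c) : abExt (x.comp x' h) = (abExt x).comp (abExt x') h :=
  Ext.mapExactFunctor_comp (toAbF X) x x' h

theorem abExt_extClass {S : ShortComplex X.Modules} (hS : S.ShortExact) :
    abExt hS.extClass = (shortExact_toAbF S hS).extClass :=
  Ext.mapExactFunctor_extClass (toAbF X) hS

theorem abExt_add {M N : X.Modules} {i : ℕ} (x x' : Ext.{u} M N i) :
    abExt (x + x') = abExt x + abExt x' :=
  Ext.mapExactFunctor_add (toAbF X) M N i x x'

theorem abExt_zero {M N : X.Modules} {i : ℕ} : abExt (0 : Ext.{u} M N i) = 0 :=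
  Ext.mapExactFunctor_zero (toAbF X) M N i

/-- the Yoneda pairing, as an additive map in `y` -/
noncomputable def pair {M N : X.Modules} {i : ℕ} (x : Ext.{u} M N i) {j l : ℕ} (h : j + i = l)
    (y : Coh.HH X M j) : Coh.HH X N l :=
  y.comp (abExt x) h

theorem pair_mk₀ {M N : X.Modules} (φ : M ⟶ N) (j : ℕ) (y : Coh.HH X M j) :
    pair (Ext.mk₀ φ) (add_zero j) y = HmapL φ j y := by
  unfold pair
  rw [abExt_mk₀]
  rfl

theorem pair_comp {M N L : X.Modules} {a b c : ℕ} (x : Ext.{u} M N a) (x' : Ext.{u} N L b)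
    (h : a + b = c) {j l m : ℕ} (h1 : j + a = l) (h2 : l + b = m) (h3 : j + c = m)
    (y : Coh.HH X M j) :
    pair (x.comp x' h) h3 y = pair x' h2 (pair x h1 y) := by
  unfold pair
  rw [abExt_comp]
  exact (Ext.comp_assoc y (abExt x) (abExt x') h1 h (by omega)).symm

theorem pair_extClass {S : ShortComplex X.Modules} (hS : S.ShortExact) (j : ℕ)
    (y : Coh.HH X S.X₃ j) : pair hS.extClass rfl y = deltaL S hS j y := by
  unfold pair
  rw [abExt_extClass]
  rfl

theorem pair_add_left {M N : X.Modules} {i : ℕ} (x x' : Ext.{u} M N i) {j l : ℕ} (h : j + i = l)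
    (y : Coh.HH X M j) : pair (x + x') h y = pair x h y + pair x' h y := by
  unfold pair
  rw [abExt_add, Ext.comp_add]

theorem pair_add_right {M N : X.Modules} {i : ℕ} (x : Ext.{u} M N i) {j l : ℕ} (h : j + i = l)
    (y y' : Coh.HH X M j) : pair x h (y + y') = pair x h y + pair x h y' := by
  unfold pair
  rw [Ext.add_comp]

section Linear

variable (A : Type u) [CommRing A] [X.Over (Spec (CommRingCat.of A))]

theorem abMap_smul_id (M : X.Modules) (a : A) :
    abMap ((a • 𝟙 M : M ⟶ M)) = Coh.smulAb M (Coh.toGlobal (X ↘ Spec (CommRingCat.of A)) a) := by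
  rw [KLin.smul_id]
  rfl

theorem abExt_smul {M N : X.Modules} {i : ℕ} (a : A) (x : Ext.{u} M N i) :
    abExt (a • x) = (abExt x).comp
      (Ext.mk₀ (Coh.smulAb N (Coh.toGlobal (X ↘ Spec (CommRingCat.of A)) a))) (add_zero i) := by
  rw [Ext.smul_eq_comp_mk₀, abExt_comp, abExt_mk₀, abMap_smul_id]

theorem abExt_smul' {M N : X.Modules} {i : ℕ} (a : A) (x : Ext.{u} M N i) :
    abExt (a • x) = (Ext.mk₀ (Coh.smulAb M (Coh.toGlobal (X ↘ Spec (CommRingCat.of A)) a))).comp
      (abExt x) (zero_add i) := by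
  have h1 : a • x = (Ext.mk₀ (a • 𝟙 M)).comp x (zero_add i) := by
    rw [Ext.mk₀_smul, Ext.smul_comp, Ext.mk₀_id_comp]
  rw [h1, abExt_comp, abExt_mk₀, abMap_smul_id]

theorem smul_HH_eq {M : X.Modules} {j : ℕ} (a : A) (y : Coh.HH X M j) :
    a • y = y.comp
      (Ext.mk₀ (Coh.smulAb M (Coh.toGlobal (X ↘ Spec (CommRingCat.of A)) a))) (add_zero j) := rfl

theorem pair_smul_right {M N : X.Modules} {i : ℕ} (x : Ext.{u} M N i) {j l : ℕ} (h : j + i = l)
    (a : A) (y : Coh.HH X M j) : pair x h (a • y) = a • pair x h y := by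
  unfold pair
  rw [smul_HH_eq, smul_HH_eq,
    Ext.comp_assoc y _ (abExt x) (add_zero j) (zero_add i) (by omega), ← abExt_smul' A a x,
    abExt_smul A a x, Ext.comp_assoc y (abExt x) _ h (add_zero i) (by omega)]

theorem pair_smul_left {M N : X.Modules} {i : ℕ} (x : Ext.{u} M N i) {j l : ℕ} (h : j + i = l)
    (a : A) (y : Coh.HH X M j) : pair (a • x) h y = a • pair x h y := by
  unfold pair
  rw [smul_HH_eq, abExt_smul A a x, Ext.comp_assoc y (abExt x) _ h (add_zero i) (by omega)]

/-- the Yoneda pairing with `x`, as a linear map -/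
noncomputable def pairL {M N : X.Modules} {i : ℕ} (x : Ext.{u} M N i) {j l : ℕ} (h : j + i = l) :
    Coh.HH X M j →ₗ[A] Coh.HH X N l where
  toFun := pair x h
  map_add' := pair_add_right x h
  map_smul' := pair_smul_right A x h

theorem pairL_apply {M N : X.Modules} {i : ℕ} (x : Ext.{u} M N i) {j l : ℕ} (h : j + i = l)
    (y : Coh.HH X M j) : pairL A x h y = pair x h y := rfl

end Linear

end Groth.Agent.Lib.R2H3.YonedaPair
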