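import Mathlib
import Groth.Agent.Lib.R2H3YonedaPair
import Groth.Agent.Lib.R2H2PnDualExt

/-!
# Natural Serre duality on `P^n_k` through the Yoneda pairing (helper3, round 2)

`theta t M i j h : Ext^i(M, ω) →ₗ[k] (H^j(P, M))^*`, `x ↦ (y ↦ t (y ∘ x))`, for `j + i = n`.

`main k n` : there is `t : H^n(P, ω) ≃ₗ[k] k` such that `theta t M i j h` is bijective for every coherent
`M` and all `i + j = n`.
-/

set_option autoImplicit false
set_option linter.unusedSectionVars false
set_option linter.style.haveILetI false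
universe u

namespace Groth.Agent.Lib.R2H3.PnDualNat

open CategoryTheory CategoryTheory.Limits AlgebraicGeometry Opposite Abelian
open Groth.Agent.Lib.R2H2.HHLin Groth.Agent.Lib.Helper23.QCohLocal
  Groth.Agent.Lib.R2H3.YonedaPair Groth.Agent.Lib.R2H2.DualRep Groth.Agent.Lib.R2H2.PnFinite
  Groth.Agent.Lib.R2H2.PnDualExt Groth.Agent.Lib.R2H2.PnTwEquiv Groth.Agent.Lib.Helper23.FinType

attribute [local instance] Abelian.hasFiniteBiproducts

section General

variable {k : Type u} [Field k] {X : Scheme.{u}} [X.Over (Spec (CommRingCat.of k))]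
  [HasExt.{u} X.Modules] {ω : X.Modules} {n : ℕ} (t : Coh.HH X ω n →ₗ[k] k)

/-- the duality map defined by the Yoneda pairing and the trace `t` -/
noncomputable def theta (M : X.Modules) (i j : ℕ) (h : j + i = n) :
    Ext.{u} M ω i →ₗ[k] Module.Dual k (Coh.HH X M j) where
  toFun x := t ∘ₗ pairL k x h
  map_add' x x' := by
    ext y
    change t (pair (x + x') h y) = t (pair x h y) + t (pair x' h y)
    rw [pair_add_left, map_add]
  map_smul' a x := by
    ext y
    change t (pair (a • x) h y) = a • t (pair x h y)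
    rw [pair_smul_left, map_smul]

theorem theta_apply (M : X.Modules) (i j : ℕ) (h : j + i = n) (x : Ext.{u} M ω i)
    (y : Coh.HH X M j) : theta t M i j h x y = t (pair x h y) := rfl

/-- naturality of `theta` with respect to composition on the left -/
theorem theta_comp {M N : X.Modules} {a b c : ℕ} (x : Ext.{u} M N a) (x' : Ext.{u} N ω b)
    (hc : a + b = c) (j l : ℕ) (h1 : j + a = l) (h2 : l + b = n) (h3 : j + c = n)
    (y : Coh.HH X M j) :
    theta t M c j h3 (x.comp x' hc) y = theta t N b l h2 x' (pair x h1 y) := by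
  rw [theta_apply, theta_apply, pair_comp x x' hc h1 h2 h3]

end General

section Pn

variable (k : Type u) [Field k] (n : ℕ) [HasExt.{u} (CohB1.ProjSpace n k).Modules]

variable (t : Coh.HH (CohB1.ProjSpace n k) (Twist.twistProjSpace n k (-((n : ℤ) + 1))) n →ₗ[k] k)

theorem theta_surjective_zero (ht : ∀ F : (CohB1.ProjSpace n k).Modules, Coh.IsCoh F → Rep t F)
    (M : (CohB1.ProjSpace n k).Modules) (hM : Coh.IsCoh M) (j : ℕ) (h : j + 0 = n) :
    Function.Surjective (theta t M 0 j h) := by
  have hj : j = n := by omega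
  subst hj
  intro ψ
  obtain ⟨φ, hφ⟩ := (ht M hM).sur ψ
  refine ⟨Ext.mk₀ φ, ?_⟩
  ext y
  rw [theta_apply, pair_mk₀]
  exact (hφ y).symm

theorem theta_surjective_succ (i : ℕ)
    (ih : ∀ M : (CohB1.ProjSpace n k).Modules, Coh.IsCoh M → ∀ (j : ℕ) (h : j + i = n),
      Function.Surjective (theta t M i j h))
    (M : (CohB1.ProjSpace n k).Modules) (hM : Coh.IsCoh M) (j : ℕ) (h : j + (i + 1) = n) :
    Function.Surjective (theta t M (i + 1) j h) := by
  obtain ⟨q, hq, r, p, hp⟩ := exists_epi_neg n k M hM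
  let f : Fin r → (CohB1.ProjSpace n k).Modules := fun _ => Twist.twistProjSpace n k (-(q : ℤ))
  have hE : Coh.IsCoh (⨁ f) := isCoh_biproduct_twist k n (fun _ => -(q : ℤ))
  have hEq : (⨁ f : (CohB1.ProjSpace n k).Modules).IsQuasicoherent := hE.1
  have hMq : M.IsQuasicoherent := hM.1
  have hKq : (kernel p).IsQuasicoherent := isQuasicoherent_kernel p
  have hmono : Mono (kernel.ι p) := equalizer.ι_mono
  have hKf : SheafOfModules.IsFiniteType (R := (CohB1.ProjSpace n k).ringCatSheaf) (kernel p) :=
    @isFiniteType_of_mono (CohB1.ProjSpace n k) _ _ _ (kernel.ι p) hmono hEq hE.2 hKq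
  have hK : Coh.IsCoh (kernel p) := ⟨hKq, hKf⟩
  let S : ShortComplex (CohB1.ProjSpace n k).Modules := ShortComplex.mk (kernel.ι p) p (kernel.condition p)
  have hS : S.ShortExact :=
    { exact := ShortComplex.exact_kernel p
      mono_f := hmono
      epi_g := hp }
  have hV2 : Subsingleton (Coh.HH (CohB1.ProjSpace n k) S.X₂ j) := by
    exact Groth.Agent.Lib.R2H2.PnSerre.subsingleton_HH_biproduct f j (fun a =>
      subsingleton_HH_twist n k (-(q : ℤ)) j (by
        intro h
        have := h.2
        omega) (fun h => by omega))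
  -- the connecting map is injective
  have hinj : Function.Injective (deltaA k S hS j) := by
    rw [injective_iff_map_eq_zero]
    intro x hx
    obtain ⟨x₂, rfl⟩ := exact₃ S hS j x hx
    rw [Subsingleton.elim x₂ 0, map_zero]
  intro ψ
  obtain ⟨g, hg⟩ := LinearMap.exists_leftInverse_of_injective (deltaA k S hS j)
    (LinearMap.ker_eq_bot.2 hinj)
  let ψ' : Module.Dual k (Coh.HH (CohB1.ProjSpace n k) S.X₁ (j + 1)) := ψ ∘ₗ g
  obtain ⟨x, hx⟩ := ih (kernel p) hK (j + 1) (by omega) ψ'
  refine ⟨hS.extClass.comp x (add_comm 1 i), ?_⟩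
  ext y
  rw [theta_comp t hS.extClass x (add_comm 1 i) j (j + 1) rfl (by omega) h y, pair_extClass, hx]
  change ψ (g (deltaA k S hS j y)) = ψ y
  have h1 : g (deltaA k S hS j y) = y := LinearMap.congr_fun hg y
  rw [h1]

theorem theta_surjective (ht : ∀ F : (CohB1.ProjSpace n k).Modules, Coh.IsCoh F → Rep t F) :
    ∀ (i : ℕ) (M : (CohB1.ProjSpace n k).Modules), Coh.IsCoh M → ∀ (j : ℕ) (h : j + i = n),
      Function.Surjective (theta t M i j h) := by
  intro i
  induction i with
  | zero => exact fun M hM j h => theta_surjective_zero k n t ht M hM j h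
  | succ i ih => exact fun M hM j h => theta_surjective_succ k n t i ih M hM j h

theorem theta_bijective (ht : ∀ F : (CohB1.ProjSpace n k).Modules, Coh.IsCoh F → Rep t F)
    (i : ℕ) (M : (CohB1.ProjSpace n k).Modules) (hM : Coh.IsCoh M) (j : ℕ) (h : j + i = n) :
    Function.Bijective (theta t M i j h) := by
  have hs := theta_surjective k n t ht i M hM j h
  obtain ⟨h1, h2, -⟩ := good_all k n i M hM
  have hfin : Module.Finite k (Coh.HH (CohB1.ProjSpace n k) M j) := finite_HH n k M hM j
  have hfinD : Module.Finite k (Module.Dual k (Coh.HH (CohB1.ProjSpace n k) M j)) := inferInstance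
  have hrank : Module.finrank k (Ext.{u} M (Twist.twistProjSpace n k (-((n : ℤ) + 1))) i) =
      Module.finrank k (Module.Dual k (Coh.HH (CohB1.ProjSpace n k) M j)) := by
    rw [Subspace.dual_finrank_eq]
    exact h2 j (by omega)
  exact ⟨(LinearMap.injective_iff_surjective_of_finrank_eq_finrank hrank).2 hs, hs⟩

/-- **natural Serre duality on `P^n_k`** -/
theorem main :
    ∃ t : Coh.HH (CohB1.ProjSpace n k) (Twist.twistProjSpace n k (-((n : ℤ) + 1))) n ≃ₗ[k] k, ∀ (M : (CohB1.ProjSpace n k).Modules), Coh.IsCoh M →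
      ∀ (i j : ℕ) (h : j + i = n),
        Function.Bijective (theta (t : Coh.HH (CohB1.ProjSpace n k) (Twist.twistProjSpace n k (-((n : ℤ) + 1))) n →ₗ[k] k) M i j h) := by
  obtain ⟨t, ht⟩ := Groth.Agent.Lib.R2H2.PnDualCoh.main k n
  exact ⟨t, fun M hM i j h => theta_bijective k n _ ht i M hM j h⟩

end Pn

end Groth.Agent.Lib.R2H3.PnDualNat
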