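import Mathlib
import Groth.Agent.Lib.R2H3ClosedCorefl
import Groth.Agent.Lib.R2H3PnDualNat
import Groth.Agent.Lib.R2H3ClosedSigma
import Groth.Agent.Lib.R2H3ClosedPush
import Groth.Agent.Lib.R2H2ClosedPn
import Groth.Agent.S0485

/-!
# The dualizing sheaf of a closed subscheme of `P^N_k` (helper3, round 2)

`main` : for a closed immersion `ι : X ⟶ P = P^N_k` over `k` such that `ℰxt^q(ι_*O_X, ω_P) = 0` for
`q < c`, and `ω` with `ι_*ω ≅ ℰxt^c(ι_*O_X, ω_P)`, `d + c = N`: there is a trace `t : H^d(X, ω) → k` such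
that `Hom(F, ω) → H^d(X, F)^*` is bijective for every coherent `F`  (Hartshorne III.7.5).
-/

set_option autoImplicit false
set_option linter.unusedSectionVars false
set_option linter.style.haveILetI false
universe u

namespace Groth.Agent.Lib.R2H3.ClosedDual

open CategoryTheory CategoryTheory.Limits AlgebraicGeometry Opposite Abelian
open Groth.Agent.Lib.R2H2.HHLin Groth.Agent.Lib.R2H3.YonedaPair Groth.Agent.Lib.R2H3.PnDualNat
  Groth.Agent.Lib.R2H3.ClosedSigma Groth.Agent.Lib.R2H3.ClosedPush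

theorem main (k : Type u) [Field k] (N c d : ℕ) (hcd : d + c = N)
    (X : Scheme.{u}) [X.Over (Spec (CommRingCat.of k))] (ι : X ⟶ CohB1.ProjSpace N k)
    [IsClosedImmersion ι]
    (hι : ι ≫ CohB1.ProjSpace.toSpec N k = X ↘ Spec (CommRingCat.of k))
    [ModSite.HasSheafHom (O := (CohB1.ProjSpace N k).sheaf)
      ((Scheme.Modules.pushforward ι).obj (Coh.structureModule X))]
    [HasInjectiveResolutions (ModSite.Mod (CohB1.ProjSpace N k).sheaf)]
    (hvan : ∀ q, q < c → IsZero ((ModSite.extSh (O := (CohB1.ProjSpace N k).sheaf)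
      ((Scheme.Modules.pushforward ι).obj (Coh.structureModule X)) q).obj
        (Twist.twistProjSpace N k (-((N : ℤ) + 1)))))
    (ω : X.Modules)
    (hω : Nonempty ((Scheme.Modules.pushforward ι).obj ω ≅
      (ModSite.extSh (O := (CohB1.ProjSpace N k).sheaf)
        ((Scheme.Modules.pushforward ι).obj (Coh.structureModule X)) c).obj
          (Twist.twistProjSpace N k (-((N : ℤ) + 1))))) :
    ∃ t : Coh.HH X ω d →ₗ[k] k, ∀ F : X.Modules, Coh.IsCoh F → ∀ ψ : Coh.HH X F d →ₗ[k] k,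
      ∃! φ : F ⟶ ω, ∀ x : Coh.HH X F d,
        ψ x = t (Sheaf.H.map ((SheafOfModules.toSheaf X.ringCatSheaf).map φ) d x) := by
  haveI : EnoughInjectives (CohB1.ProjSpace N k).Modules :=
    Groth.Agent.S0485.result (Opens.grothendieckTopology (CohB1.ProjSpace N k))
      (CohB1.ProjSpace N k).ringCatSheaf
  haveI : HasExt.{u} (CohB1.ProjSpace N k).Modules := hasExt_of_enoughInjectives.{u} _
  obtain ⟨e₀⟩ := hω
  let e : (Scheme.Modules.pushforward ι).obj ω ≅
      Groth.Agent.Lib.R2H3.ClosedCorefl.extShObj ι (Twist.twistProjSpace N k (-((N : ℤ) + 1))) c := e₀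
  obtain ⟨ε₀, hε₀⟩ := Groth.Agent.Lib.R2H3.ClosedCorefl.main ι
    (Twist.twistProjSpace N k (-((N : ℤ) + 1))) c hvan
  obtain ⟨tP, htP⟩ := Groth.Agent.Lib.R2H3.PnDualNat.main k N
  have hcl : Topology.IsClosedEmbedding ι.base := ι.isClosedEmbedding
  -- the class `ε ∈ Ext^c(ι_*ω, ω_P)`
  obtain ⟨ε, hεdef⟩ : ∃ ε : Ext.{u} ((Scheme.Modules.pushforward ι).obj ω)
      (Twist.twistProjSpace N k (-((N : ℤ) + 1))) c, ε = (Ext.mk₀ e.hom).comp ε₀ (zero_add c) :=
    ⟨_, rfl⟩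
  -- the trace
  let t : Coh.HH X ω d →ₗ[k] k :=
    (tP : Coh.HH (CohB1.ProjSpace N k) (Twist.twistProjSpace N k (-((N : ℤ) + 1))) N →ₗ[k] k) ∘ₗ
      (pairL k ε hcd ∘ₗ (sigmaL ι hcl k hι ω d : Coh.HH X ω d →ₗ[k] _))
  refine ⟨t, fun F hF ψ => ?_⟩
  haveI : F.IsQuasicoherent := hF.1
  haveI : IsFinite ι := inferInstance
  have hcoh : Coh.IsCoh ((Scheme.Modules.pushforward ι).obj F) :=
    Groth.Agent.Lib.R2H2.ClosedPn.isCoh_push ι F hF
  have hθ := htP ((Scheme.Modules.pushforward ι).obj F) hcoh c d hcd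
  -- the key formula
  have key : ∀ (φ' : F ⟶ ω) (y : Coh.HH X F d),
      t (HmapL φ' d y) =
        theta (tP : Coh.HH (CohB1.ProjSpace N k) (Twist.twistProjSpace N k (-((N : ℤ) + 1))) N →ₗ[k] k)
          ((Scheme.Modules.pushforward ι).obj F) c d hcd
          ((Ext.mk₀ ((Scheme.Modules.pushforward ι).map φ' ≫ e.hom)).comp ε₀ (zero_add c))
          (sigma ι hcl F d y) := by
    intro φ' y
    change tP (pair ε hcd (sigma ι hcl ω d (HmapL φ' d y))) = _
    rw [sigma_HmapL, ← pair_mk₀, ← pair_comp (Ext.mk₀ ((Scheme.Modules.pushforward ι).map φ')) ε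
      (zero_add c) (add_zero d) hcd hcd, theta_apply, hεdef, Ext.mk₀_comp_mk₀_assoc]
    rfl
  -- the linear form on `H^d(P, ι_* F)`
  let ψ' : Module.Dual k (Coh.HH (CohB1.ProjSpace N k) ((Scheme.Modules.pushforward ι).obj F) d) :=
    ψ ∘ₗ ((sigmaL ι hcl k hι F d).symm : _ →ₗ[k] Coh.HH X F d)
  have hψ' : ∀ y : Coh.HH X F d, ψ' (sigma ι hcl F d y) = ψ y := by
    intro y
    change ψ ((sigmaL ι hcl k hι F d).symm (sigmaL ι hcl k hι F d y)) = ψ y
    rw [LinearEquiv.symm_apply_apply]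
  obtain ⟨x, hx⟩ := hθ.2 ψ'
  obtain ⟨u, hu⟩ := (hε₀ F).2 x
  have hu' : (Ext.mk₀ u).comp ε₀ (zero_add c) = x := hu
  let v : (Scheme.Modules.pushforward ι).obj F ⟶ (Scheme.Modules.pushforward ι).obj ω := u ≫ e.inv
  refine ⟨pushPreimage ι v, ?_, ?_⟩
  · intro y
    change ψ y = t (HmapL (pushPreimage ι v) d y)
    rw [key, map_pushPreimage]
    have h1 : v ≫ e.hom = u := by
      change (u ≫ e.inv) ≫ e.hom = u
      rw [Category.assoc, Iso.inv_hom_id, Category.comp_id]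
    rw [h1, hu', hx, hψ']
  · intro φ' hφ'
    have h1 : theta (tP : Coh.HH (CohB1.ProjSpace N k)
          (Twist.twistProjSpace N k (-((N : ℤ) + 1))) N →ₗ[k] k)
        ((Scheme.Modules.pushforward ι).obj F) c d hcd
        ((Ext.mk₀ ((Scheme.Modules.pushforward ι).map φ' ≫ e.hom)).comp ε₀ (zero_add c)) = ψ' := by
      ext z
      obtain ⟨y, rfl⟩ := (sigma_bijective ι hcl F d).2 z
      rw [← key, hψ']
      exact (hφ' y).symm
    have h2 : (Ext.mk₀ ((Scheme.Modules.pushforward ι).map φ' ≫ e.hom)).comp ε₀ (zero_add c) = x :=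
      hθ.1 (h1.trans hx.symm)
    have h3 : (Scheme.Modules.pushforward ι).map φ' ≫ e.hom = u :=
      (hε₀ F).1 (h2.trans hu'.symm)
    apply push_map_injective ι
    rw [map_pushPreimage]
    change _ = u ≫ e.inv
    rw [← h3, Category.assoc, Iso.hom_inv_id, Category.comp_id]

end Groth.Agent.Lib.R2H3.ClosedDual
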