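import Mathlib
import Groth.Prelude.Def_DerCA
import Groth.Agent.Lib.Helper1ExtCech4
import Groth.Agent.Lib.R2H2KoszulLow

/-!
# Connections along a derivation on the extended Cech complex (helper3, round 2)

For a derivation `θ` of a commutative ring `A`, a `θ`-connection on an `A`-module `M` is an
additive map `∇ : M →+ M` with `∇ (a • x) = θ a • x + a • ∇ x`.  We show that connections extend
uniquely to localizations (via the twisted square `Tw θ M`), that they pass to mapping cocones,
hence to the extended alternating Cech complex of `A`, and that a connection on a complex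
induces a connection on its cohomology.
-/

set_option autoImplicit false
set_option backward.isDefEq.respectTransparency.types false
set_option linter.style.haveILetI false
set_option linter.unusedSectionVars false
universe u
open CategoryTheory CategoryTheory.Limits

namespace Groth.Agent.Lib.R2H3.ConnCech

variable {A : Type u} [CommRing A]

/-- a `θ`-connection on a module -/
def IsConn (θ : Derivation ℤ A A) {M : Type u} [AddCommGroup M] [Module A M] (D : M →+ M) : Prop :=
  ∀ (a : A) (x : M), D (a • x) = θ a • x + a • D x

/-- the twisted square `M × M` with `a • (x, y) = (a • x, a • y + θ a • x)` -/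
def Tw (_θ : Derivation ℤ A A) (M : Type u) : Type u := M × M

namespace Tw

variable {θ : Derivation ℤ A A} {M N : Type u} [AddCommGroup M] [Module A M]
  [AddCommGroup N] [Module A N]

instance : AddCommGroup (Tw θ M) := inferInstanceAs (AddCommGroup (M × M))

/-- first component -/
def fst (z : Tw θ M) : M := Prod.fst z

/-- second component -/
def snd (z : Tw θ M) : M := Prod.snd z

/-- constructor -/
def mk (x y : M) : Tw θ M := ((x, y) : M × M)

@[simp] lemma fst_mk (x y : M) : (mk x y : Tw θ M).fst = x := rfl
@[simp] lemma snd_mk (x y : M) : (mk x y : Tw θ M).snd = y := rfl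

@[ext] lemma ext' {z w : Tw θ M} (h1 : z.fst = w.fst) (h2 : z.snd = w.snd) : z = w :=
  Prod.ext h1 h2

@[simp] lemma fst_add (z w : Tw θ M) : (z + w).fst = z.fst + w.fst := rfl
@[simp] lemma snd_add (z w : Tw θ M) : (z + w).snd = z.snd + w.snd := rfl
@[simp] lemma fst_zero : (0 : Tw θ M).fst = 0 := rfl
@[simp] lemma snd_zero : (0 : Tw θ M).snd = 0 := rfl

instance : SMul A (Tw θ M) := ⟨fun a z => mk (a • z.fst) (a • z.snd + θ a • z.fst)⟩

@[simp] lemma fst_smul (a : A) (z : Tw θ M) : (a • z).fst = a • z.fst := rfl
@[simp] lemma snd_smul (a : A) (z : Tw θ M) : (a • z).snd = a • z.snd + θ a • z.fst := rfl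

instance : Module A (Tw θ M) where
  one_smul z := by
    ext
    · simp
    · simp
  mul_smul a b z := by
    ext
    · simp [mul_smul]
    · simp only [snd_smul, fst_smul, Derivation.leibniz, smul_eq_mul, smul_add, mul_smul,
        add_smul]
      rw [smul_comm b (θ a)]
      abel
  smul_zero a := by
    ext
    · simp
    · simp
  smul_add a z w := by
    ext
    · simp
    · simp only [snd_smul, snd_add, fst_add, smul_add]
      abel
  add_smul a b z := by
    ext
    · simp [add_smul]
    · simp only [snd_smul, snd_add, map_add, add_smul]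
      abel
  zero_smul z := by
    ext
    · simp
    · simp

/-- first projection, linear -/
def fstₗ : Tw θ M →ₗ[A] M where
  toFun := fst
  map_add' _ _ := rfl
  map_smul' _ _ := rfl

/-- second projection, additive -/
def sndAdd : Tw θ M →+ M where
  toFun := snd
  map_zero' := rfl
  map_add' _ _ := rfl

/-- functoriality -/
def map (g : M →ₗ[A] N) : Tw θ M →ₗ[A] Tw θ N where
  toFun z := mk (g z.fst) (g z.snd)
  map_add' z w := by
    ext
    · simp
    · simp
  map_smul' a z := by
    ext
    · simp
    · simp

@[simp] lemma fst_map (g : M →ₗ[A] N) (z : Tw θ M) : (map g z).fst = g z.fst := rfl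
@[simp] lemma snd_map (g : M →ₗ[A] N) (z : Tw θ M) : (map g z).snd = g z.snd := rfl

/-- the section attached to a connection -/
def sec (D : M →+ M) (hD : IsConn θ D) : M →ₗ[A] Tw θ M where
  toFun x := mk x (D x)
  map_add' x y := by
    ext
    · simp
    · simp
  map_smul' a x := by
    ext
    · simp
    · simp only [snd_mk, RingHom.id_apply, snd_smul, fst_mk]
      rw [hD a x]
      abel

@[simp] lemma fst_sec (D : M →+ M) (hD : IsConn θ D) (x : M) : (sec D hD x).fst = x := rfl
@[simp] lemma snd_sec (D : M →+ M) (hD : IsConn θ D) (x : M) : (sec D hD x).snd = D x := rfl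

/-- if `s` acts bijectively on `M`, it acts as a unit on `Tw θ M` -/
lemma isUnit_algebraMap (s : A) (hs : IsUnit (algebraMap A (Module.End A M) s)) :
    IsUnit (algebraMap A (Module.End A (Tw θ M)) s) := by
  rw [Module.End.isUnit_iff] at hs ⊢
  have hs' : Function.Bijective (fun x : M => s • x) := hs
  constructor
  · intro z w h
    have h' : s • z = s • w := h
    have h1 : s • z.fst = s • w.fst := congrArg fst h'
    have h1' : z.fst = w.fst := hs'.1 h1
    have h2 : s • z.snd + θ s • z.fst = s • w.snd + θ s • w.fst := congrArg snd h'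
    rw [h1'] at h2
    have h2' : z.snd = w.snd := hs'.1 (add_right_cancel h2)
    exact ext' h1' h2'
  · intro w
    obtain ⟨x, hx⟩ := hs'.2 w.fst
    obtain ⟨y, hy⟩ := hs'.2 (w.snd - θ s • x)
    refine ⟨mk x y, ?_⟩
    change s • (mk x y : Tw θ M) = w
    ext
    · exact hx
    · change s • y + θ s • x = w.snd
      have hy' : s • y = w.snd - θ s • x := hy
      rw [hy']
      abel

end Tw

section Loc

variable (θ : Derivation ℤ A A) (S : Submonoid A) {M M' : Type u} [AddCommGroup M] [Module A M]
  [AddCommGroup M'] [Module A M'] (f : M →ₗ[A] M') [IsLocalizedModule S f]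

include S f in
lemma map_units_tw (s : S) : IsUnit (algebraMap A (Module.End A (Tw θ M')) s) :=
  Tw.isUnit_algebraMap (s : A) (IsLocalizedModule.map_units f s)

/-- the section on the localization -/
noncomputable def locSec (D : M →+ M) (hD : IsConn θ D) : M' →ₗ[A] Tw θ M' :=
  IsLocalizedModule.lift S f ((Tw.map f) ∘ₗ Tw.sec D hD) (map_units_tw θ S f)

lemma locSec_apply (D : M →+ M) (hD : IsConn θ D) (x : M) :
    locSec θ S f D hD (f x) = Tw.mk (f x) (f (D x)) :=
  IsLocalizedModule.lift_apply S f _ _ x

lemma fst_locSec (D : M →+ M) (hD : IsConn θ D) (z : M') : (locSec θ S f D hD z).fst = z := by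
  have h : Tw.fstₗ ∘ₗ locSec θ S f D hD = LinearMap.id := by
    apply IsLocalizedModule.ext S f (IsLocalizedModule.map_units f)
    ext x
    change (locSec θ S f D hD (f x)).fst = f x
    rw [locSec_apply]
    rfl
  exact LinearMap.congr_fun h z

/-- the connection on the localization -/
noncomputable def locConn (D : M →+ M) (hD : IsConn θ D) : M' →+ M' :=
  Tw.sndAdd.comp (locSec θ S f D hD).toAddMonoidHom

lemma locConn_apply (D : M →+ M) (hD : IsConn θ D) (x : M) :
    locConn θ S f D hD (f x) = f (D x) := by
  change (locSec θ S f D hD (f x)).snd = _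
  rw [locSec_apply]
  rfl

lemma locSec_eq (D : M →+ M) (hD : IsConn θ D) (z : M') :
    locSec θ S f D hD z = Tw.mk z (locConn θ S f D hD z) := by
  ext
  · exact fst_locSec θ S f D hD z
  · rfl

lemma isConn_locConn (D : M →+ M) (hD : IsConn θ D) : IsConn θ (locConn θ S f D hD) := by
  intro a z
  change (locSec θ S f D hD (a • z)).snd = _
  rw [map_smul, Tw.snd_smul, fst_locSec]
  change a • locConn θ S f D hD z + θ a • z = _
  abel

/-- compatibility of the localized connections with localized linear maps -/
lemma locConn_map {N N' : Type u} [AddCommGroup N] [Module A N] [AddCommGroup N'] [Module A N']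
    (f' : N →ₗ[A] N') [IsLocalizedModule S f'] (D : M →+ M) (hD : IsConn θ D)
    (E : N →+ N) (hE : IsConn θ E) (g : M →ₗ[A] N) (hg : ∀ x, E (g x) = g (D x))
    (z : M') :
    locConn θ S f' E hE (IsLocalizedModule.map S f f' g z) =
      IsLocalizedModule.map S f f' g (locConn θ S f D hD z) := by
  have h : locSec θ S f' E hE ∘ₗ IsLocalizedModule.map S f f' g =
      Tw.map (IsLocalizedModule.map S f f' g) ∘ₗ locSec θ S f D hD := by
    apply IsLocalizedModule.ext S f (map_units_tw θ S f')
    ext x
    · change (locSec θ S f' E hE (IsLocalizedModule.map S f f' g (f x))).fst =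
        IsLocalizedModule.map S f f' g (locSec θ S f D hD (f x)).fst
      rw [IsLocalizedModule.map_apply, locSec_apply, locSec_apply]
      simp [IsLocalizedModule.map_apply]
    · change (locSec θ S f' E hE (IsLocalizedModule.map S f f' g (f x))).snd =
        IsLocalizedModule.map S f f' g (locSec θ S f D hD (f x)).snd
      rw [IsLocalizedModule.map_apply, locSec_apply, locSec_apply]
      simp [IsLocalizedModule.map_apply, hg]
  have h' := LinearMap.congr_fun h z
  exact congrArg Tw.snd h'

end Loc

open DerCA CochainComplex HomologicalComplex HomComplex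

section CoconeD

variable {C : Type*} [Category* C] [Preadditive C]
  {K L : CochainComplex C ℤ} (φ : K ⟶ L) [HasHomotopyCofiber φ]

set_option backward.defeqAttrib.useBackward true in
set_option backward.isDefEq.respectTransparency false in
/-- the differential of the mapping cocone, second component -/
lemma cocone_d_snd_v (p p' q : ℤ) (hpp' : p + 1 = p') (hpq : p + -1 = q) :
    (mappingCocone φ).d p p' ≫ (mappingCocone.snd φ).v p' p (by lia) =
      -((mappingCocone.fst φ).f p ≫ φ.f p) - (mappingCocone.snd φ).v p q hpq ≫ L.d q p := by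
  subst hpp' hpq
  simp [mappingCocone, mappingCocone.snd, mappingCocone.fst,
    Cochain.leftShift_v _ _ _ _ _ _ _ _ (add_zero _),
    Cochain.leftShift_v (n := 1) _ _ _ _ _ p _ (p + -1) (by lia),
    Int.negOnePow_even 2 ⟨1, rfl⟩, mappingCone.d_snd_v φ (p + -1) p (by lia)]
  abel

end CoconeD

/-- a `θ`-connection on a complex of modules -/
structure Conn (θ : Derivation ℤ A A) (K : DRing.Cx A) where
  /-- the operators -/
  nabla : ∀ p : ℤ, K.X p →+ K.X p
  isConn : ∀ p, IsConn θ (nabla p)
  comm : ∀ (p q : ℤ) (x : K.X p), nabla q ((K.d p q).hom x) = (K.d p q).hom (nabla p x)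

namespace Conn

variable (θ : Derivation ℤ A A)

/-- the connection `θ` on `A[0]` -/
noncomputable def single :
    Conn θ ((HomologicalComplex.single (ModuleCat.{u} A) (ComplexShape.up ℤ) 0).obj
      (ModuleCat.of A A)) where
  nabla p :=
    if h : p = 0 then
      let e := (HomologicalComplex.singleObjXIsoOfEq (ComplexShape.up ℤ) 0
        (ModuleCat.of A A) p h).toLinearEquiv
      e.symm.toLinearMap.toAddMonoidHom.comp
        (((θ : A →ₗ[ℤ] A).toAddMonoidHom).comp e.toLinearMap.toAddMonoidHom)
    else 0
  isConn p := by
    intro a x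
    by_cases h : p = 0
    · simp only [dif_pos h]
      set e := (HomologicalComplex.singleObjXIsoOfEq (ComplexShape.up ℤ) 0
        (ModuleCat.of A A) p h).toLinearEquiv with he
      change e.symm (θ (e (a • x))) = θ a • x + a • e.symm (θ (e x))
      rw [map_smul, smul_eq_mul, Derivation.leibniz, map_add, map_smul]
      have h1 : e.symm (e x • θ a) = θ a • x := by
        rw [smul_eq_mul, mul_comm, ← smul_eq_mul, map_smul, LinearEquiv.symm_apply_apply]
      rw [h1]
      abel
    · have hz : IsZero (((HomologicalComplex.single (ModuleCat.{u} A) (ComplexShape.up ℤ) 0).obj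
        (ModuleCat.of A A)).X p) := HomologicalComplex.isZero_single_obj_X _ _ _ _ h
      have := ModuleCat.subsingleton_of_isZero hz
      exact Subsingleton.elim _ _
  comm p q x := by
    rw [HomologicalComplex.single_obj_d]
    simp

variable {θ}

/-- localization of a connection -/
noncomputable def loc (S : Submonoid A) {K : DRing.Cx A} (c : Conn θ K) :
    Conn θ ((locCx S).obj K) where
  nabla p := (locConn θ S (LocalizedModule.mkLinearMap S (K.X p)) (c.nabla p) (c.isConn p) :
    LocalizedModule S (K.X p) →+ LocalizedModule S (K.X p))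
  isConn p := by
    exact isConn_locConn θ S (LocalizedModule.mkLinearMap S (K.X p)) (c.nabla p) (c.isConn p)
  comm p q x := by
    exact locConn_map θ S (LocalizedModule.mkLinearMap S (K.X p))
      (LocalizedModule.mkLinearMap S (K.X q))
      (c.nabla p) (c.isConn p) (c.nabla q) (c.isConn q) (K.d p q).hom (c.comm p q) x

lemma loc_unit (S : Submonoid A) {K : DRing.Cx A} (c : Conn θ K) (p : ℤ) (x : K.X p) :
    (c.loc S).nabla p (((locCxUnit S K).f p).hom x) =
      ((locCxUnit S K).f p).hom (c.nabla p x) := by
  change locConn θ S (LocalizedModule.mkLinearMap S (K.X p)) (c.nabla p) (c.isConn p)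
    (LocalizedModule.mkLinearMap S (K.X p) x) = LocalizedModule.mkLinearMap S (K.X p) (c.nabla p x)
  exact locConn_apply θ S (LocalizedModule.mkLinearMap S (K.X p)) (c.nabla p) (c.isConn p) x

section Cocone

variable {K L : DRing.Cx A} (φ : K ⟶ L) (cK : Conn θ K) (cL : Conn θ L)

/-- the operator on the mapping cocone -/
noncomputable def coconeNabla (p : ℤ) : (mappingCocone φ).X p →+ (mappingCocone φ).X p :=
  ((mappingCocone.inl φ).v p p (add_zero p)).hom.toAddMonoidHom.comp
      ((cK.nabla p).comp ((mappingCocone.fst φ).f p).hom.toAddMonoidHom) +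
    ((mappingCocone.inr φ).1.v (p + -1) p (by lia)).hom.toAddMonoidHom.comp
      ((cL.nabla (p + -1)).comp
        ((mappingCocone.snd φ).v p (p + -1) rfl).hom.toAddMonoidHom)

lemma fst_coconeNabla (p : ℤ) (z : (mappingCocone φ).X p) :
    ((mappingCocone.fst φ).f p).hom (coconeNabla φ cK cL p z) =
      cK.nabla p (((mappingCocone.fst φ).f p).hom z) := by
  have h1 := fun u => congrArg (fun t => t.hom u) (mappingCocone.inl_v_fst_f φ p)
  have h2 := fun v => congrArg (fun t => t.hom v)
    (mappingCocone.inr_v_fst_f φ (p + -1) p (by lia))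
  simp only [ModuleCat.hom_comp, LinearMap.comp_apply, ModuleCat.hom_id, LinearMap.id_apply,
    ModuleCat.hom_zero, LinearMap.zero_apply] at h1 h2
  change ((mappingCocone.fst φ).f p).hom (_ + _) = _
  rw [map_add]
  erw [h1, h2]
  rw [add_zero]
  rfl

lemma snd_coconeNabla (p q : ℤ) (hpq : p + -1 = q) (z : (mappingCocone φ).X p) :
    ((mappingCocone.snd φ).v p q hpq).hom (coconeNabla φ cK cL p z) =
      cL.nabla q (((mappingCocone.snd φ).v p q hpq).hom z) := by
  subst hpq
  have h1 := fun u => congrArg (fun t => t.hom u) (mappingCocone.inl_v_snd_v φ p (p + -1) rfl)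
  have h2 := fun v => congrArg (fun t => t.hom v)
    (mappingCocone.inr_v_snd_v φ (p + -1) p (by lia))
  simp only [ModuleCat.hom_comp, LinearMap.comp_apply, ModuleCat.hom_id, LinearMap.id_apply,
    ModuleCat.hom_zero, LinearMap.zero_apply] at h1 h2
  change ((mappingCocone.snd φ).v p (p + -1) rfl).hom (_ + _) = _
  rw [map_add]
  erw [h1, h2]
  rw [zero_add]
  rfl

/-- a connection on the mapping cocone of a horizontal morphism -/
noncomputable def cocone
    (hφ : ∀ (p : ℤ) (x : K.X p), cL.nabla p ((φ.f p).hom x) = (φ.f p).hom (cK.nabla p x)) :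
    Conn θ (mappingCocone φ) where
  nabla := coconeNabla φ cK cL
  isConn p := by
    intro a z
    apply Groth.Agent.Lib.Helper1.ExtCech4.coc_ext φ p (p + -1) rfl
    · rw [fst_coconeNabla, map_smul, cK.isConn p, map_add, map_smul, map_smul, fst_coconeNabla]
    · rw [snd_coconeNabla, map_smul, cL.isConn (p + -1), map_add, map_smul, map_smul,
        snd_coconeNabla]
  comm p q z := by
    by_cases hpq : p + 1 = q
    · subst hpq
      apply Groth.Agent.Lib.Helper1.ExtCech4.coc_ext φ (p + 1) p (by lia)
      · have hc := fun w => congrArg (fun t => t.hom w) ((mappingCocone.fst φ).comm p (p + 1))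
        simp only [ModuleCat.hom_comp, LinearMap.comp_apply] at hc
        change ((mappingCocone.fst φ).f (p + 1)).hom (coconeNabla φ cK cL (p + 1)
          (((mappingCocone φ).d p (p + 1)).hom z)) =
          ((mappingCocone.fst φ).f (p + 1)).hom (((mappingCocone φ).d p (p + 1)).hom
            (coconeNabla φ cK cL p z))
        rw [fst_coconeNabla, ← hc, ← hc, cK.comm, fst_coconeNabla]
      · have hd := fun w => congrArg (fun t => t.hom w)
          (cocone_d_snd_v φ p (p + 1) (p + -1) rfl rfl)
        simp only [ModuleCat.hom_comp, LinearMap.comp_apply, ModuleCat.hom_sub,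
          ModuleCat.hom_neg, LinearMap.sub_apply, LinearMap.neg_apply] at hd
        change ((mappingCocone.snd φ).v (p + 1) p _).hom (coconeNabla φ cK cL (p + 1)
          (((mappingCocone φ).d p (p + 1)).hom z)) =
          ((mappingCocone.snd φ).v (p + 1) p _).hom (((mappingCocone φ).d p (p + 1)).hom
            (coconeNabla φ cK cL p z))
        rw [snd_coconeNabla, hd, hd, map_sub, map_neg, hφ, cL.comm, fst_coconeNabla,
          snd_coconeNabla]
    · rw [(mappingCocone φ).shape p q hpq]
      simp

end Cocone

/-- the connection induced by `θ` on the extended Cech complex of `A` -/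
noncomputable def extCech (θ : Derivation ℤ A A) :
    ∀ fs : List A, Conn θ (DerCA.extCech (ModuleCat.of A A) fs)
  | [] => single θ
  | f :: fs =>
    cocone (locCxUnit (Submonoid.powers f) (DerCA.extCech (ModuleCat.of A A) fs))
      (extCech θ fs) ((extCech θ fs).loc (Submonoid.powers f))
      (fun p x => loc_unit (Submonoid.powers f) (extCech θ fs) p x)

/-- a connection on a complex induces a connection on its cohomology -/
theorem exists_homology {K : DRing.Cx A} (c : Conn θ K) (i : ℤ) :
    ∃ D : K.homology i →+ K.homology i, IsConn θ D := by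
  classical
  let cls := Groth.Agent.Lib.R2H2.KoszulLow.cls K i (i + 1) rfl
  have hcls : Function.Surjective cls :=
    Groth.Agent.Lib.R2H2.KoszulLow.cls_surjective K i (i + 1) rfl
  -- the operator on cocycles
  let nZ : LinearMap.ker (K.d i (i + 1)).hom →+ LinearMap.ker (K.d i (i + 1)).hom :=
    { toFun := fun z => ⟨c.nabla i z.1, by
        rw [LinearMap.mem_ker, ← c.comm, z.2, map_zero]⟩
      map_zero' := by
        apply Subtype.ext
        simp
      map_add' := fun z w => by
        apply Subtype.ext
        simp }
  have hnZ : ∀ (a : A) (z : LinearMap.ker (K.d i (i + 1)).hom),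
      nZ (a • z) = θ a • z + a • nZ z := by
    intro a z
    apply Subtype.ext
    exact c.isConn i a z.1
  let Dt : LinearMap.ker (K.d i (i + 1)).hom →+ K.homology i :=
    cls.toAddMonoidHom.comp nZ
  have hker : cls.toAddMonoidHom.ker ≤ Dt.ker := by
    intro z hz
    rw [AddMonoidHom.mem_ker] at hz ⊢
    have hz' : cls z = 0 := hz
    rw [Groth.Agent.Lib.R2H2.KoszulLow.cls_eq_zero_iff K (i - 1) i (i + 1) (by lia) rfl] at hz'
    obtain ⟨y, hy⟩ := hz'
    change cls (nZ z) = 0
    rw [Groth.Agent.Lib.R2H2.KoszulLow.cls_eq_zero_iff K (i - 1) i (i + 1) (by lia) rfl]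
    refine ⟨c.nabla (i - 1) y, ?_⟩
    rw [← c.comm, hy]
    rfl
  let D : K.homology i →+ K.homology i :=
    cls.toAddMonoidHom.liftOfRightInverse (Function.surjInv hcls)
      (Function.rightInverse_surjInv hcls) ⟨Dt, hker⟩
  have hD : ∀ z, D (cls z) = cls (nZ z) := fun z =>
    AddMonoidHom.liftOfRightInverse_comp_apply cls.toAddMonoidHom (Function.surjInv hcls)
      (Function.rightInverse_surjInv hcls) ⟨Dt, hker⟩ z
  refine ⟨D, ?_⟩
  intro a ξ
  obtain ⟨z, rfl⟩ := hcls ξ
  rw [← map_smul, hD, hD, hnZ, map_add, map_smul, map_smul]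

end Conn

end Groth.Agent.Lib.R2H3.ConnCech
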