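import Mathlib

/-!
# Conormal injectivity for formally smooth quotients (R2 helper3)

For a tower `A → B → R` with `B → R` surjective and `R` formally smooth over `A`, the map
`I/I² → R ⊗[B] Ω[B⁄A]` (`I = ker (B → R)`) is injective; in particular an element `x ∈ I`
with `1 ⊗ D x = 0` lies in `I²`.
-/

set_option autoImplicit false
universe u
open TensorProduct KaehlerDifferential

namespace Groth.Agent.Lib.R2H3.FSmConormal

variable (A B R : Type u) [CommRing A] [CommRing B] [CommRing R] [Algebra A B] [Algebra B R]
  [Algebra A R] [IsScalarTower A B R]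

theorem surjective_kerSquareLift (hs : Function.Surjective (algebraMap B R)) :
    Function.Surjective (IsScalarTower.toAlgHom A B R).kerSquareLift := by
  intro r
  obtain ⟨b, rfl⟩ := hs r
  exact ⟨Ideal.Quotient.mk _ b, AlgHom.kerSquareLift_mk _ _⟩

theorem ker_kerSquareLift_sq :
    RingHom.ker (IsScalarTower.toAlgHom A B R).kerSquareLift.toRingHom ^ 2 = ⊥ := by
  rw [AlgHom.ker_kerSquareLift, Ideal.cotangentIdeal_square]

theorem exists_section_kerSquareLift [Algebra.FormallySmooth A R]
    (hφs : Function.Surjective (IsScalarTower.toAlgHom A B R).kerSquareLift)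
    (hφn : IsNilpotent (RingHom.ker
      ((IsScalarTower.toAlgHom A B R).kerSquareLift :
        (B ⧸ RingHom.ker (IsScalarTower.toAlgHom A B R).toRingHom ^ 2) →+* R))) :
    ∃ g : R →ₐ[A] (B ⧸ RingHom.ker (IsScalarTower.toAlgHom A B R).toRingHom ^ 2),
      (IsScalarTower.toAlgHom A B R).kerSquareLift.comp g = AlgHom.id A R :=
  ⟨_, Algebra.FormallySmooth.comp_liftOfSurjective (AlgHom.id A R) _ hφs hφn⟩

theorem kerCotangentToTensor_injective_of_formallySmooth
    (hs : Function.Surjective (algebraMap B R)) [Algebra.FormallySmooth A R] :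
    Function.Injective (kerCotangentToTensor A B R) := by
  obtain ⟨g, hg⟩ := exists_section_kerSquareLift A B R (surjective_kerSquareLift A B R hs)
    ⟨2, ker_kerSquareLift_sq A B R⟩
  obtain ⟨l, hl⟩ := (retractionKerCotangentToTensorEquivSection (R := A) hs).symm ⟨g, hg⟩
  intro x y hxy
  have := congrArg l hxy
  rw [← LinearMap.comp_apply, ← LinearMap.comp_apply, hl] at this
  exact this

theorem mem_sq_of_one_tmul_D_eq_zero (hs : Function.Surjective (algebraMap B R))
    [Algebra.FormallySmooth A R] (x : B) (hx : x ∈ RingHom.ker (algebraMap B R))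
    (h : (1 : R) ⊗ₜ[B] D A B x = 0) : x ∈ RingHom.ker (algebraMap B R) ^ 2 := by
  have h1 : kerCotangentToTensor A B R ((RingHom.ker (algebraMap B R)).toCotangent ⟨x, hx⟩) = 0 := by
    rw [kerCotangentToTensor_toCotangent]
    exact h
  have h2 := kerCotangentToTensor_injective_of_formallySmooth A B R hs (h1.trans (map_zero _).symm)
  rw [Ideal.toCotangent_eq_zero] at h2
  exact h2

end Groth.Agent.Lib.R2H3.FSmConormal
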