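import Mathlib
import Groth.Agent.Lib.R2H3FSmConormal

/-!
# The conormal module of a smooth quotient of a smooth algebra is stably free (helper3, round 2)

`A → B → R = B/I` with `R` formally smooth over `A`, `Ω[B⁄A]` free of rank `d` and `Ω[R⁄A]` free of rank `d'`:
then `(R ⊗[B] I) × R^{d'} ≃ R^d`.
-/

set_option autoImplicit false
universe u
open TensorProduct KaehlerDifferential

namespace Groth.Agent.Lib.R2H3.ConormalSplit

variable (A B R : Type u) [CommRing A] [CommRing B] [CommRing R] [Algebra A B] [Algebra B R]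
  [Algebra A R] [IsScalarTower A B R]

/-- `R ⊗[B] I ≃ I/I²` for `R = B/I`. -/
noncomputable def tensorKerEquivCotangent (hs : Function.Surjective (algebraMap B R)) :
    (R ⊗[B] (RingHom.ker (algebraMap B R))) ≃ₗ[B] (RingHom.ker (algebraMap B R)).Cotangent :=
  (TensorProduct.congr
    ((Ideal.quotientKerAlgEquivOfSurjective (f := Algebra.ofId B R) hs).symm.toLinearEquiv)
    (LinearEquiv.refl B (RingHom.ker (algebraMap B R)))).trans
  (TensorProduct.quotTensorEquivQuotSMul (RingHom.ker (algebraMap B R)) (RingHom.ker (algebraMap B R)))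

theorem exists_stablyFree_conormal (hs : Function.Surjective (algebraMap B R))
    [Algebra.FormallySmooth A R] {d d' : ℕ}
    (bB : Module.Basis (Fin d) B Ω[B⁄A]) (bR : Module.Basis (Fin d') R Ω[R⁄A]) :
    Nonempty (((R ⊗[B] (RingHom.ker (algebraMap B R))) × (Fin d' → R)) ≃ₗ[R] (Fin d → R)) := by
  let e₀ := tensorKerEquivCotangent B R hs
  let k₁ : (R ⊗[B] (RingHom.ker (algebraMap B R))) →ₗ[R] R ⊗[B] Ω[B⁄A] :=
    LinearMap.extendScalarsOfSurjective hs ((kerCotangentToTensor A B R).comp e₀.toLinearMap)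
  let m : R ⊗[B] Ω[B⁄A] →ₗ[R] Ω[R⁄A] := KaehlerDifferential.mapBaseChange A B R
  have hk₁ : Function.Injective k₁ := by
    intro x y hxy
    have h := Groth.Agent.Lib.R2H3.FSmConormal.kerCotangentToTensor_injective_of_formallySmooth A B R hs hxy
    exact e₀.injective h
  have hex : Function.Exact k₁ m := by
    intro x
    have h0 := KaehlerDifferential.exact_kerCotangentToTensor_mapBaseChange A B R hs x
    constructor
    · intro hx
      obtain ⟨y, hy⟩ := h0.mp hx
      exact ⟨e₀.symm y, by simpa [k₁] using hy⟩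
    · rintro ⟨y, rfl⟩
      exact h0.mpr ⟨e₀ y, rfl⟩
  have hm : Function.Surjective m := KaehlerDifferential.mapBaseChange_surjective A B R hs
  haveI : Module.Free R Ω[R⁄A] := Module.Free.of_basis bR
  obtain ⟨σ, hσ⟩ := Module.projective_lifting_property m LinearMap.id hm
  obtain ⟨e, -, -⟩ := hex.splitSurjectiveEquiv hk₁ ⟨σ, hσ⟩
  exact ⟨((LinearEquiv.prodCongr (LinearEquiv.refl R _) bR.equivFun.symm).trans e.symm).trans
    (bB.baseChange R).equivFun⟩

end Groth.Agent.Lib.R2H3.ConormalSplit
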