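import Mathlib
import Groth.Prelude.Def_TwC
import Groth.Prelude.Def_AutFam

/-!
# Points of constant group schemes and families of homomorphisms out of them (helper3, round 2)

`R` is an `U`-scheme with an isomorphism `e : R ≅ TwC.const U M` (`M : Type`).

* `locus e g m`: the open locus of `X` where the point `g : X ⟶ R` has index `m`; these loci are
  pairwise disjoint and cover `X` (`exists_mem_locus`, `locus_disjoint`, `hom_ext_pieces`).
* `ptT e T m`: the constant point of index `m` over `T`; `pieceι_comp`: a point is constant on its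
  loci.
* `cOf e φ m`: the component of index `m` of a family `φ : R ⊗ T ⟶ H`; `fam_ext_cOf`,
  `exists_fam`: families correspond to arbitrary functions `M → (T ⟶ H)`.
* with `TwC.IsConstGrp M R e`: `ptT_mul`, `ptT_one`, `cOf_mul`, `isHomFamily_of_cOf`: families of
  homomorphisms correspond to multiplicative functions.
-/

set_option autoImplicit false
set_option linter.style.haveILetI false
set_option linter.unusedVariables false
set_option linter.unusedSectionVars false

universe u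

open CategoryTheory CategoryTheory.Limits AlgebraicGeometry Opposite
  MonoidalCategory CartesianMonoidalCategory MonObj GrpObj

namespace Groth.Agent.Lib.R2H3.ConstPts

section Sigma

variable {U : Scheme.{u}} {M : Type}

lemma isOpenImmersion_copy (m : M) : IsOpenImmersion (Sigma.ι (fun _ : M => U) m) := by
  have h : IsOpenImmersion ((sigmaOpenCover (fun _ : M => U)).f m) := inferInstance
  exact h

lemma exists_mem_copy (z : ↥(∐ fun _ : M => U)) :
    ∃ m, z ∈ Set.range (Sigma.ι (fun _ : M => U) m) := by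
  obtain ⟨m, w, hw⟩ := (sigmaOpenCover (fun _ : M => U)).exists_eq z
  exact ⟨m, w, hw⟩

lemma copy_unique {m n : M} {x : ↥(∐ fun _ : M => U)}
    (hm : x ∈ Set.range (Sigma.ι (fun _ : M => U) m))
    (hn : x ∈ Set.range (Sigma.ι (fun _ : M => U) n)) : m = n := by
  obtain ⟨a, rfl⟩ := hm
  obtain ⟨b, hb⟩ := hn
  exact (congrArg Sigma.fst ((sigmaι_eq_iff _ _ _ _ _).mp hb)).symm

lemma factor_all {T : Scheme.{u}} (h : T ⟶ U)
    (y : T ⟶ ∐ fun _ : M => U) (hy : y ≫ Sigma.desc (fun _ : M => 𝟙 U) = h) (m : M)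
    (hU : ∀ t : T, y t ∈ Set.range (Sigma.ι (fun _ : M => U) m)) :
    y = h ≫ Sigma.ι (fun _ : M => U) m := by
  haveI := isOpenImmersion_copy (U := U) m
  have hr : Set.range y ⊆ Set.range (Sigma.ι (fun _ : M => U) m) := by
    rintro _ ⟨z, rfl⟩
    exact hU z
  have hl : IsOpenImmersion.lift (Sigma.ι (fun _ : M => U) m) y hr ≫
      Sigma.ι (fun _ : M => U) m = y := IsOpenImmersion.lift_fac _ _ _
  have hl2 : IsOpenImmersion.lift (Sigma.ι (fun _ : M => U) m) y hr = h := by
    have h3 := congrArg (fun k => k ≫ Sigma.desc (fun _ : M => 𝟙 U)) hl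
    simp only [Category.assoc, Sigma.ι_desc, Category.comp_id] at h3
    rw [h3, hy]
  calc y = IsOpenImmersion.lift (Sigma.ι (fun _ : M => U) m) y hr ≫
      Sigma.ι (fun _ : M => U) m := hl.symm
    _ = h ≫ Sigma.ι (fun _ : M => U) m := by rw [hl2]

end Sigma

variable {U : Scheme.{u}} {M : Type} {R : Over U} (e : R ≅ TwC.const U M)

/-- the locus where the point `g` of `R` has index `m`. -/
noncomputable def locus {X : Over U} (g : X ⟶ R) (m : M) : X.left.Opens :=
  (g ≫ e.hom).left ⁻¹ᵁ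
    (haveI := isOpenImmersion_copy (U := U) m; (Sigma.ι (fun _ : M => U) m).opensRange)

lemma mem_locus {X : Over U} (g : X ⟶ R) (m : M) (x : X.left) :
    x ∈ locus e g m ↔ (g ≫ e.hom).left x ∈ Set.range (Sigma.ι (fun _ : M => U) m) := Iff.rfl

lemma exists_mem_locus {X : Over U} (g : X ⟶ R) (x : X.left) : ∃ m, x ∈ locus e g m :=
  exists_mem_copy _

lemma locus_disjoint {X : Over U} (g : X ⟶ R) {m n : M} {x : X.left} (hm : x ∈ locus e g m)
    (hn : x ∈ locus e g n) : m = n :=
  copy_unique ((mem_locus e g m x).1 hm) ((mem_locus e g n x).1 hn)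

/-- the constant point of index `m`. -/
noncomputable def ptT (T : Over U) (m : M) : T ⟶ R := toUnit T ≫ TwC.pt U M m ≫ e.inv

lemma comp_ptT {T T' : Over U} (a : T' ⟶ T) (m : M) : a ≫ ptT e T m = ptT e T' m := by
  unfold ptT
  rw [← Category.assoc, comp_toUnit]

lemma ptT_comp_hom_left (T : Over U) (m : M) :
    (ptT e T m ≫ e.hom).left = T.hom ≫ Sigma.ι (fun _ : M => U) m := by
  unfold ptT
  rw [Category.assoc, Category.assoc, Iso.inv_hom_id, Category.comp_id, Over.comp_left]
  rfl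

lemma mem_locus_ptT (T : Over U) (m : M) (y : T.left) : y ∈ locus e (ptT e T m) m := by
  rw [mem_locus, ptT_comp_hom_left, Scheme.Hom.comp_apply]
  exact ⟨_, rfl⟩

/-- a point all of whose values have index `m` is the constant point. -/
lemma eq_ptT_of_mem {T : Over U} (g : T ⟶ R) (m : M) (h : ∀ y : T.left, y ∈ locus e g m) :
    g = ptT e T m := by
  have h1 : (g ≫ e.hom).left = T.hom ≫ Sigma.ι (fun _ : M => U) m :=
    factor_all T.hom (g ≫ e.hom).left (Over.w (g ≫ e.hom)) m (fun y => (mem_locus e g m y).1 (h y))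
  have h2 : g ≫ e.hom = ptT e T m ≫ e.hom := by
    apply Over.OverMorphism.ext
    rw [h1, ptT_comp_hom_left]
  have h3 := congrArg (fun k => k ≫ e.inv) h2
  simpa only [Category.assoc, Iso.hom_inv_id, Category.comp_id] using h3

/-- the piece of `X` where `g` has index `m`, as a scheme over `U`. -/
noncomputable def piece {X : Over U} (g : X ⟶ R) (m : M) : Over U :=
  Over.mk ((locus e g m).ι ≫ X.hom)

/-- the inclusion of a piece. -/
noncomputable def pieceι {X : Over U} (g : X ⟶ R) (m : M) : piece e g m ⟶ X :=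
  Over.homMk (locus e g m).ι rfl

lemma pieceι_comp {X : Over U} (g : X ⟶ R) (m : M) :
    pieceι e g m ≫ g = ptT e (piece e g m) m := by
  apply eq_ptT_of_mem
  intro y
  rw [mem_locus]
  have h1 : ((pieceι e g m ≫ g) ≫ e.hom).left y = (g ≫ e.hom).left ((locus e g m).ι y) := by
    rw [Category.assoc, Over.comp_left, Scheme.Hom.comp_apply]
    rfl
  rw [h1]
  exact y.2

/-- morphisms out of `X` are determined by their restrictions to the pieces of a point of `R`. -/
lemma hom_ext_pieces {X Y : Over U} (g : X ⟶ R) (a b : X ⟶ Y)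
    (h : ∀ m, pieceι e g m ≫ a = pieceι e g m ≫ b) : a = b := by
  apply Over.OverMorphism.ext
  have hcov : TopologicalSpace.IsOpenCover (fun m => locus e g m) := by
    rw [TopologicalSpace.IsOpenCover, eq_top_iff]
    intro x _
    obtain ⟨m, hm⟩ := exists_mem_locus e g x
    exact TopologicalSpace.Opens.mem_iSup.mpr ⟨m, hm⟩
  refine Scheme.Cover.hom_ext (X.left.openCoverOfIsOpenCover _ hcov) _ _ (fun m => ?_)
  exact congrArg (fun k => k.left) (h m)

section Fam

variable {H : Over U}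

/-- the component of index `m` of a family. -/
noncomputable def cOf {T : Over U} (φ : R ⊗ T ⟶ H) (m : M) : T ⟶ H :=
  lift (ptT e T m) (𝟙 T) ≫ φ

lemma lift_ptT_comp {X T : Over U} (t : X ⟶ T) (m : M) (φ : R ⊗ T ⟶ H) :
    lift (ptT e X m) t ≫ φ = t ≫ cOf e φ m := by
  unfold cOf
  rw [← Category.assoc, comp_lift, comp_ptT, Category.comp_id]

lemma cOf_whiskerLeft {T T' : Over U} (a : T' ⟶ T) (φ : R ⊗ T ⟶ H) (m : M) :
    cOf e ((R ◁ a) ≫ φ) m = a ≫ cOf e φ m := by
  have h1 : cOf e ((R ◁ a) ≫ φ) m = lift (ptT e T' m) a ≫ φ := by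
    unfold cOf
    rw [← Category.assoc, lift_whiskerLeft, Category.id_comp]
  rw [h1, lift_ptT_comp]

/-- the restriction of `lift g t ≫ φ` to a piece of `g`. -/
lemma piece_lift_comp {X T : Over U} (g : X ⟶ R) (t : X ⟶ T) (m : M) (φ : R ⊗ T ⟶ H) :
    pieceι e g m ≫ lift g t ≫ φ = (pieceι e g m ≫ t) ≫ cOf e φ m := by
  rw [← Category.assoc, comp_lift, pieceι_comp, lift_ptT_comp]

lemma piece_fst_comp {T : Over U} (m : M) (φ : R ⊗ T ⟶ H) :
    pieceι e (fst R T) m ≫ φ = (pieceι e (fst R T) m ≫ snd R T) ≫ cOf e φ m := by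
  have := piece_lift_comp e (fst R T) (snd R T) m φ
  rwa [lift_fst_snd, Category.id_comp] at this

/-- a family is determined by its components. -/
theorem fam_ext_cOf {T : Over U} (φ φ' : R ⊗ T ⟶ H) (h : ∀ m, cOf e φ m = cOf e φ' m) :
    φ = φ' := by
  apply hom_ext_pieces e (fst R T)
  intro m
  rw [piece_fst_comp e m φ, piece_fst_comp e m φ', h]

/-- every function `M → (T ⟶ H)` is the family of components of a family. -/
theorem exists_fam {T : Over U} (c : M → (T ⟶ H)) : ∃ φ : R ⊗ T ⟶ H, ∀ m, cOf e φ m = c m := by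
  have hcov : TopologicalSpace.IsOpenCover (fun m => locus e (fst R T) m) := by
    rw [TopologicalSpace.IsOpenCover, eq_top_iff]
    intro x _
    obtain ⟨m, hm⟩ := exists_mem_locus e (fst R T) x
    exact TopologicalSpace.Opens.mem_iSup.mpr ⟨m, hm⟩
  let 𝒰 := (R ⊗ T).left.openCoverOfIsOpenCover _ hcov
  have h𝒰 : ∀ m : M, 𝒰.f m = (locus e (fst R T) m).ι := fun m => rfl
  let f : ∀ m : M, 𝒰.X m ⟶ H.left := fun m =>
    (locus e (fst R T) m).ι ≫ (snd R T).left ≫ (c m).left
  have hcompat : ∀ m n : M, pullback.fst (𝒰.f m) (𝒰.f n) ≫ f m =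
      pullback.snd (𝒰.f m) (𝒰.f n) ≫ f n := by
    intro m n
    by_cases hmn : m = n
    · subst hmn
      have : pullback.fst (𝒰.f m) (𝒰.f m) = pullback.snd (𝒰.f m) (𝒰.f m) :=
        (cancel_mono (𝒰.f m)).1 pullback.condition
      rw [this]
    · haveI : IsEmpty ↥(pullback (𝒰.f m) (𝒰.f n)) := by
        refine ⟨fun z => hmn ?_⟩
        have h1 : (pullback.fst (𝒰.f m) (𝒰.f n) ≫ 𝒰.f m) z ∈ locus e (fst R T) m := by
          rw [Scheme.Hom.comp_apply]
          exact ((pullback.fst (𝒰.f m) (𝒰.f n)) z).2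
        have h2 : (pullback.fst (𝒰.f m) (𝒰.f n) ≫ 𝒰.f m) z ∈ locus e (fst R T) n := by
          rw [pullback.condition, Scheme.Hom.comp_apply]
          exact ((pullback.snd (𝒰.f m) (𝒰.f n)) z).2
        exact locus_disjoint e (fst R T) h1 h2
      exact (isInitialOfIsEmpty (X := pullback (𝒰.f m) (𝒰.f n))).hom_ext _ _
  let φl : (R ⊗ T).left ⟶ H.left := 𝒰.glueMorphisms f hcompat
  have hφl : ∀ m, (locus e (fst R T) m).ι ≫ φl = f m := fun m => 𝒰.ι_glueMorphisms f hcompat m
  have hw : φl ≫ H.hom = (R ⊗ T).hom := by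
    refine Scheme.Cover.hom_ext 𝒰 _ _ (fun (m : M) => ?_)
    change (locus e (fst R T) m).ι ≫ φl ≫ H.hom = (locus e (fst R T) m).ι ≫ (R ⊗ T).hom
    rw [← Category.assoc, hφl]
    change ((locus e (fst R T) m).ι ≫ (snd R T).left ≫ (c m).left) ≫ H.hom = _
    simp only [Category.assoc]
    rw [Over.w (c m), Over.w (snd R T)]
  refine ⟨Over.homMk φl hw, fun m => ?_⟩
  apply Over.OverMorphism.ext
  -- the point `lift (ptT m) 𝟙` lands in the locus of index `m`
  let k : T ⟶ R ⊗ T := lift (ptT e T m) (𝟙 T)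
  have hk1 : k ≫ fst R T = ptT e T m := lift_fst _ _
  have hk2 : k ≫ snd R T = 𝟙 T := lift_snd _ _
  have hrange : Set.range k.left ⊆ Set.range (locus e (fst R T) m).ι := by
    rintro _ ⟨y, rfl⟩
    rw [Scheme.Opens.range_ι]
    change k.left y ∈ locus e (fst R T) m
    rw [mem_locus]
    have h3 : (fst R T ≫ e.hom).left (k.left y) = ((k ≫ fst R T) ≫ e.hom).left y := rfl
    rw [h3, hk1]
    exact (mem_locus e _ m y).1 (mem_locus_ptT e T m y)
  obtain ⟨k', hk'⟩ : ∃ k' : T.left ⟶ (locus e (fst R T) m : Scheme.{u}),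
      k' ≫ (locus e (fst R T) m).ι = k.left :=
    ⟨IsOpenImmersion.lift _ _ hrange, IsOpenImmersion.lift_fac _ _ _⟩
  change k.left ≫ φl = (c m).left
  rw [← hk', Category.assoc, hφl]
  change k' ≫ (locus e (fst R T) m).ι ≫ (snd R T).left ≫ (c m).left = _
  rw [← Category.assoc, hk', ← Category.assoc, ← Over.comp_left, hk2]
  exact Category.id_comp _

end Fam

section Grp

variable {e} [Group M] [GrpObj R] (he : TwC.IsConstGrp M R e)

include he in
lemma ptT_mul (T : Over U) (m n : M) : ptT e T m * ptT e T n = ptT e T (m * n) := by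
  unfold ptT
  rw [← MonObj.comp_mul, he m n]

include he in
lemma ptT_one (T : Over U) : ptT e T 1 = 1 := by
  have h := ptT_mul he T 1 1
  rw [_root_.mul_one] at h
  have h2 : ptT e T 1 * ptT e T 1 = ptT e T 1 * 1 := by rw [h, _root_.mul_one]
  exact mul_left_cancel h2

variable {H : Over U} [GrpObj H]

include he in
lemma cOf_mul {T : Over U} (φ : R ⊗ T ⟶ H) (hφ : AutFam.IsHomFamily R H φ) (m n : M) :
    cOf e φ (m * n) = cOf e φ m * cOf e φ n := by
  unfold cOf
  rw [← ptT_mul he]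
  exact hφ T _ _ (𝟙 T)

include he in
/-- a family with multiplicative components is a family of homomorphisms. -/
theorem isHomFamily_of_cOf {T : Over U} (φ : R ⊗ T ⟶ H)
    (h : ∀ m n, cOf e φ (m * n) = cOf e φ m * cOf e φ n) : AutFam.IsHomFamily R H φ := by
  intro X g₁ g₂ t
  apply hom_ext_pieces e g₁
  intro m
  apply hom_ext_pieces e (pieceι e g₁ m ≫ g₂)
  intro n
  obtain ⟨j, hj⟩ : ∃ j : piece e (pieceι e g₁ m ≫ g₂) n ⟶ X,
      j = pieceι e (pieceι e g₁ m ≫ g₂) n ≫ pieceι e g₁ m := ⟨_, rfl⟩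
  have hg₁ : j ≫ g₁ = ptT e _ m := by rw [hj, Category.assoc, pieceι_comp, comp_ptT]
  have hg₂ : j ≫ g₂ = ptT e _ n := by
    rw [hj, Category.assoc]
    exact pieceι_comp e (pieceι e g₁ m ≫ g₂) n
  have key : ∀ (g : X ⟶ R) (k : M), j ≫ g = ptT e _ k →
      j ≫ lift g t ≫ φ = (j ≫ t) ≫ cOf e φ k := by
    intro g k hk
    rw [← Category.assoc, comp_lift, hk, lift_ptT_comp]
  have h12 : j ≫ (g₁ * g₂) = ptT e _ (m * n) := by
    rw [MonObj.comp_mul, hg₁, hg₂, ptT_mul he]
  have e1 : ∀ ψ : X ⟶ H,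
      pieceι e (pieceι e g₁ m ≫ g₂) n ≫ pieceι e g₁ m ≫ ψ = j ≫ ψ := fun ψ => by
    rw [hj, Category.assoc]
  rw [e1, e1, key _ _ h12, MonObj.comp_mul, key _ _ hg₁, key _ _ hg₂, h, MonObj.comp_mul]

end Grp

end Groth.Agent.Lib.R2H3.ConstPts
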