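import Mathlib
import Groth.Agent.Lib.R2H3ConstPts
import Groth.Agent.Lib.H6xDSPts
import Groth.Agent.Lib.Helper27GaGm

/-!
# The Cartier dual of a constant group scheme (helper3, round 2)

For an `U`-group `R` which is the constant group `M_U` (`TwC.IsConstGrp M R e`), the functor of
characters `Hom_{U-gr}(R, 𝔾_m)` is represented by the diagonalisable group `D_U(M^ab)`
(`exists_representsHom_const`), with a pairing which is also multiplicative in the second
variable.
-/

set_option autoImplicit false
set_option linter.style.haveILetI false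
set_option linter.unusedVariables false
set_option linter.unusedSectionVars false

universe u

open CategoryTheory CategoryTheory.Limits AlgebraicGeometry Opposite
  MonoidalCategory CartesianMonoidalCategory MonObj GrpObj
open Groth.Agent.Lib.Helper27.GaGm Groth.Agent.Lib.H6xDSPts Groth.Agent.Lib.R2H3.ConstPts

namespace Groth.Agent.Lib.R2H3.ConstDual

variable {U : Scheme.{u}} {M : Type} [Group M]

/-- a cached group structure on the `T`-points of `𝔾_m` (speeds up instance search). -/
noncomputable local instance instGrpHomGm (T : Over U) : Group (T ⟶ Red.Gm U) := inferInstance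

/-- the class of `m` in the abelianisation, written additively. -/
def ab (m : M) : Additive (Abelianization M) := Additive.ofMul (Abelianization.of m)

lemma ab_mul (m n : M) : ab (m * n) = ab m + ab n := by
  unfold ab
  rw [map_mul, ofMul_mul]

lemma ab_surjective (x : Additive (Abelianization M)) : ∃ m : M, ab m = x := by
  obtain ⟨m, hm⟩ := QuotientGroup.mk_surjective (Additive.toMul x)
  exact ⟨m, congrArg Additive.ofMul hm⟩

variable (U) in
/-- the character of `D_U(M^ab)` attached to `m`. -/
noncomputable def chiM (m : M) : Red.DS U (Additive (Abelianization M)) ⟶ Red.Gm U :=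
  Red.chi U (ab m)

lemma gmFn_comp_chiM {X : Over U} (x : X ⟶ Red.DS U (Additive (Abelianization M))) (m : M) :
    Red.gmFn (x ≫ chiM U m) = dsFn x (ab m) := gmFn_chi x (ab m)

lemma chiM_mul (m n : M) : chiM U (m * n) = chiM U m * chiM U n := by
  apply gmFn_injective
  have h1 : ∀ k : M, Red.gmFn (chiM U k) = dsFn (𝟙 _) (ab k) := by
    intro k
    rw [← gmFn_comp_chiM, Category.id_comp]
  rw [gmFn_mul, h1, h1, h1, ab_mul, dsFn_add]

variable {R : Over U} [GrpObj R] {e : R ≅ TwC.const U M} (he : TwC.IsConstGrp M R e)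

include he in
/-- **The Cartier dual of the constant group `M_U` is `D_U(M^ab)`.** -/
theorem exists_representsHom_const :
    ∃ υ : R ⊗ Red.DS U (Additive (Abelianization M)) ⟶ Red.Gm U,
      AutFam.RepresentsHom R (Red.Gm U) (Red.DS U (Additive (Abelianization M))) υ ∧
      ∀ (X : Over U) (r : X ⟶ R) (a b : X ⟶ Red.DS U (Additive (Abelianization M))),
        lift r (a * b) ≫ υ = (lift r a ≫ υ) * (lift r b ≫ υ) := by
  obtain ⟨υ, hυ⟩ := exists_fam e (H := Red.Gm U) (fun m => chiM U m)
  have hυhom : AutFam.IsHomFamily R (Red.Gm U) υ := by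
    apply isHomFamily_of_cOf he
    intro m n
    rw [hυ, hυ, hυ, chiM_mul]
  refine ⟨υ, ⟨hυhom, ?_⟩, ?_⟩
  · intro T φ hφ
    -- the character of `M` attached to `φ`
    have hc1 : cOf e φ 1 = 1 := by
      have h := cOf_mul he φ hφ 1 1
      rw [_root_.mul_one] at h
      have h2 : cOf e φ 1 * cOf e φ 1 = cOf e φ 1 * 1 := by rw [← h, _root_.mul_one]
      exact mul_left_cancel h2
    let χ₀ : M →* Γ(T.left, ⊤)ˣ :=
      { toFun := fun m => gmUnit (cOf e φ m)
        map_one' := by
          rw [hc1]
          apply Units.ext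
          simp [gmFn_one]
        map_mul' := fun m n => by rw [cOf_mul he φ hφ, gmUnit_mul] }
    let χ : Multiplicative (Additive (Abelianization M)) →* Γ(T.left, ⊤) :=
      { toFun := fun x => ((Abelianization.lift χ₀ (Additive.toMul (Multiplicative.toAdd x)) :
          Γ(T.left, ⊤)ˣ) : Γ(T.left, ⊤))
        map_one' := by simp
        map_mul' := fun x y => by simp }
    obtain ⟨a, ha⟩ := dsFn_surj (S := U) (X := T) χ
    have ha' : ∀ m : M, dsFn a (ab m) = Red.gmFn (cOf e φ m) := by
      intro m
      rw [ha]
      change ((Abelianization.lift χ₀ (Abelianization.of m) : Γ(T.left, ⊤)ˣ) : Γ(T.left, ⊤)) = _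
      rw [Abelianization.lift_apply_of]
      rfl
    have hcomp : ∀ (a₂ : T ⟶ Red.DS U (Additive (Abelianization M))) (m : M),
        cOf e ((R ◁ a₂) ≫ υ) m = a₂ ≫ chiM U m := by
      intro a₂ m
      rw [cOf_whiskerLeft, hυ]
    refine ⟨a, ?_, ?_⟩
    · change (R ◁ a) ≫ υ = φ
      apply fam_ext_cOf e
      intro m
      rw [hcomp]
      apply gmFn_injective
      rw [gmFn_comp_chiM, ha']
    · intro a₂ ha₂
      replace ha₂ : (R ◁ a₂) ≫ υ = φ := ha₂
      apply dsFn_ext
      intro x
      obtain ⟨m, rfl⟩ := ab_surjective x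
      rw [ha', ← gmFn_comp_chiM, ← hcomp, ha₂]
  · intro X r a b
    apply hom_ext_pieces e r
    intro m
    have key : ∀ c : X ⟶ Red.DS U (Additive (Abelianization M)),
        pieceι e r m ≫ lift r c ≫ υ = (pieceι e r m ≫ c) ≫ chiM U m := by
      intro c
      rw [piece_lift_comp, hυ]
    haveI : IsMonHom (chiM U m : Red.DS U (Additive (Abelianization M)) ⟶ Red.Gm U) := by
      unfold chiM
      infer_instance
    rw [key (a * b), MonObj.comp_mul, MonObj.comp_mul, key a, key b]
    exact MonObj.mul_comp _ _ _

end Groth.Agent.Lib.R2H3.ConstDual
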