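import Mathlib

/-!
# The group algebra of a group is free over the group algebra of a subgroup (helper3, round 2)

For an injective homomorphism `f : H →* G` of commutative groups the ring homomorphism
`R[H] → R[G]` makes `R[G]` a free `R[H]`-module (a basis is given by coset representatives), hence
it is faithfully flat as soon as `R` is non-trivial.
-/

set_option autoImplicit false
set_option linter.style.haveILetI false
set_option linter.unusedVariables false
set_option linter.unusedSectionVars false

open MonoidAlgebra

namespace Groth.Agent.Lib.R2H3.MonAlgFree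

variable (R : Type*) [CommRing R] {G H : Type*} [CommGroup G] [CommGroup H] (f : H →* G)

/-- the bijection `(G / f(H)) × H ≃ G` given by coset representatives. -/
noncomputable def tau (hf : Function.Injective f) : (G ⧸ f.range) × H ≃ G :=
  Equiv.ofBijective (fun p => Quotient.out p.1 * f p.2) (by
    constructor
    · rintro ⟨q, h⟩ ⟨q', h'⟩ heq
      simp only at heq
      have hq : q = q' := by
        have h1 := congrArg (QuotientGroup.mk (s := f.range)) heq
        rw [QuotientGroup.mk_mul, QuotientGroup.mk_mul, QuotientGroup.out_eq', QuotientGroup.out_eq',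
          (QuotientGroup.eq_one_iff (N := f.range) (f h)).mpr ⟨h, rfl⟩,
          (QuotientGroup.eq_one_iff (N := f.range) (f h')).mpr ⟨h', rfl⟩, mul_one, mul_one] at h1
        exact h1
      subst hq
      have h2 : f h = f h' := mul_left_cancel heq
      rw [hf h2]
    · intro g
      have hmem : (Quotient.out (QuotientGroup.mk (s := f.range) g))⁻¹ * g ∈ f.range := by
        rw [← QuotientGroup.eq, QuotientGroup.out_eq']
      obtain ⟨h, hh⟩ := hmem
      exact ⟨(QuotientGroup.mk g, h), by simp [hh]⟩)

lemma tau_apply (hf : Function.Injective f) (q : G ⧸ f.range) (h : H) :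
    tau f hf (q, h) = Quotient.out q * f h := rfl

/-- the additive bijection between finitely supported families of elements of `R[H]` indexed by
the cosets and `R[G]`. -/
noncomputable def E (hf : Function.Injective f) :
    ((G ⧸ f.range) →₀ MonoidAlgebra R H) ≃+ MonoidAlgebra R G :=
  (coeffAddEquiv (R := MonoidAlgebra R H) (M := G ⧸ f.range)).symm.trans
    ((curryAddEquiv (R := R) (M := G ⧸ f.range) (N := H)).symm.trans
      ((coeffAddEquiv (R := R) (M := (G ⧸ f.range) × H)).trans
        ((Finsupp.domCongr (tau f hf)).trans (coeffAddEquiv (R := R) (M := G)).symm)))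

lemma E_single (hf : Function.Injective f) (q : G ⧸ f.range) (h : H) (r : R) :
    E R f hf (Finsupp.single q (MonoidAlgebra.single h r)) =
      MonoidAlgebra.single (Quotient.out q * f h) r := by
  simp [E, tau_apply]

/-- the ring homomorphism `R[H] → R[G]`. -/
noncomputable abbrev ringMap : MonoidAlgebra R H →+* MonoidAlgebra R G :=
  (MonoidAlgebra.mapDomainAlgHom R R f).toRingHom

lemma ringMap_single (h : H) (r : R) :
    ringMap R f (MonoidAlgebra.single h r) = MonoidAlgebra.single (f h) r := by
  simp [ringMap]

section

variable (hf : Function.Injective f)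
include hf

/-- the linear map given by the family of coset representatives. -/
noncomputable def L :
    letI := (ringMap R f).toAlgebra
    ((G ⧸ f.range) →₀ MonoidAlgebra R H) →ₗ[MonoidAlgebra R H] MonoidAlgebra R G :=
  letI := (ringMap R f).toAlgebra
  Finsupp.linearCombination (MonoidAlgebra R H)
    (fun q : G ⧸ f.range => MonoidAlgebra.single (Quotient.out q) (1 : R))

lemma L_eq_E (l : (G ⧸ f.range) →₀ MonoidAlgebra R H) : L R f l = E R f hf l := by
  letI := (ringMap R f).toAlgebra
  have h : (L R f).toAddMonoidHom = (E R f hf).toAddMonoidHom := by
    apply Finsupp.addHom_ext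
    intro q a
    have h2 : ((L R f).toAddMonoidHom.comp (Finsupp.singleAddHom q)) =
        ((E R f hf).toAddMonoidHom.comp (Finsupp.singleAddHom q)) := by
      apply MonoidAlgebra.addMonoidHom_ext
      intro h r
      change L R f (Finsupp.single q (MonoidAlgebra.single h r)) =
        E R f hf (Finsupp.single q (MonoidAlgebra.single h r))
      rw [E_single]
      unfold L
      rw [Finsupp.linearCombination_single, Algebra.smul_def]
      change ringMap R f (MonoidAlgebra.single h r) * _ = _
      rw [ringMap_single, MonoidAlgebra.single_mul_single, mul_one, mul_comm]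
    exact DFunLike.congr_fun h2 a
  exact DFunLike.congr_fun h l

theorem free : letI := (ringMap R f).toAlgebra
    Module.Free (MonoidAlgebra R H) (MonoidAlgebra R G) := by
  letI := (ringMap R f).toAlgebra
  have hbij : Function.Bijective (L R f) := by
    have h : (L R f : _ → _) = E R f hf := funext (L_eq_E R f hf)
    rw [h]
    exact (E R f hf).bijective
  exact Module.Free.of_equiv (LinearEquiv.ofBijective (L R f) hbij)

theorem faithfullyFlat [Nontrivial R] : (ringMap R f).FaithfullyFlat := by
  letI := (ringMap R f).toAlgebra
  haveI := free R f hf
  change Module.FaithfullyFlat (MonoidAlgebra R H) (MonoidAlgebra R G)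
  infer_instance

end

end Groth.Agent.Lib.R2H3.MonAlgFree
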