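import Mathlib
import Groth.Agent.Lib.R2H3LocDesc

/-!
# Base change of a morphism of `S`-schemes, and morphism properties (helper3, round 2)

For `g : X ⟶ Y` in `Over S` and `t : T ⟶ S` we study `((Over.pullback t).map g).left`:
it is a base change of `g.left`; for `a : T' ⟶ T` the morphism attached to `a ≫ t` is a base
change of the one attached to `t`; consequences for morphism properties that are stable under
base change, descend along fpqc morphisms, or are Zariski-local on the target.
-/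

set_option autoImplicit false
set_option linter.style.haveILetI false
set_option linter.unusedVariables false
set_option linter.unusedSectionVars false

universe u

open CategoryTheory CategoryTheory.Limits AlgebraicGeometry MorphismProperty

namespace Groth.Agent.Lib.R2H3.OverBc

variable {S T T' : Scheme.{u}}

/-- the base change of `g` along `t`, as a morphism of schemes. -/
noncomputable abbrev bcHom (t : T ⟶ S) {X Y : Over S} (g : X ⟶ Y) :
    pullback X.hom t ⟶ pullback Y.hom t := ((Over.pullback t).map g).left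

lemma bcHom_fst (t : T ⟶ S) {X Y : Over S} (g : X ⟶ Y) :
    bcHom t g ≫ pullback.fst Y.hom t = pullback.fst X.hom t ≫ g.left :=
  pullback.lift_fst _ _ _

@[reassoc]
lemma bcHom_snd (t : T ⟶ S) {X Y : Over S} (g : X ⟶ Y) :
    bcHom t g ≫ pullback.snd Y.hom t = pullback.snd X.hom t :=
  pullback.lift_snd _ _ _

/-- `bcHom t g` is a base change of `g.left`. -/
theorem isPullback_bcHom (t : T ⟶ S) {X Y : Over S} (g : X ⟶ Y) :
    IsPullback (pullback.fst X.hom t) (bcHom t g) g.left (pullback.fst Y.hom t) := by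
  refine IsPullback.of_bot ?_ (bcHom_fst t g).symm (IsPullback.of_hasPullback Y.hom t)
  rw [bcHom_snd, Over.w g]
  exact IsPullback.of_hasPullback X.hom t

/-- the transition morphism `X ×_S T' ⟶ X ×_S T` attached to `a : T' ⟶ T`. -/
noncomputable def trans (X : Over S) (a : T' ⟶ T) (t : T ⟶ S) :
    pullback X.hom (a ≫ t) ⟶ pullback X.hom t :=
  pullback.lift (pullback.fst _ _) (pullback.snd _ _ ≫ a)
    (by rw [pullback.condition, Category.assoc])

@[reassoc (attr := simp)]
lemma trans_fst (X : Over S) (a : T' ⟶ T) (t : T ⟶ S) :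
    trans X a t ≫ pullback.fst X.hom t = pullback.fst X.hom (a ≫ t) :=
  pullback.lift_fst _ _ _

@[reassoc (attr := simp)]
lemma trans_snd (X : Over S) (a : T' ⟶ T) (t : T ⟶ S) :
    trans X a t ≫ pullback.snd X.hom t = pullback.snd X.hom (a ≫ t) ≫ a :=
  pullback.lift_snd _ _ _

/-- the transition morphism is a base change of `a`. -/
theorem isPullback_trans (X : Over S) (a : T' ⟶ T) (t : T ⟶ S) :
    IsPullback (trans X a t) (pullback.snd X.hom (a ≫ t)) (pullback.snd X.hom t) a :=
  Groth.Agent.Lib.R2H3.LocDesc.isPullback_lift X.hom t a _ _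
    (IsPullback.of_hasPullback X.hom (a ≫ t))

lemma trans_bcHom (a : T' ⟶ T) (t : T ⟶ S) {X Y : Over S} (g : X ⟶ Y) :
    trans X a t ≫ bcHom t g = bcHom (a ≫ t) g ≫ trans Y a t := by
  apply pullback.hom_ext
  · rw [Category.assoc, bcHom_fst, trans_fst_assoc, Category.assoc, trans_fst, bcHom_fst]
  · rw [Category.assoc, bcHom_snd, trans_snd, Category.assoc, trans_snd, bcHom_snd_assoc]

/-- `bcHom (a ≫ t) g` is a base change of `bcHom t g`. -/
theorem isPullback_bcHom_comp (a : T' ⟶ T) (t : T ⟶ S) {X Y : Over S} (g : X ⟶ Y) :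
    IsPullback (trans X a t) (bcHom (a ≫ t) g) (bcHom t g) (trans Y a t) := by
  refine IsPullback.of_right ?_ (trans_bcHom a t g) (isPullback_bcHom t g)
  rw [trans_fst, trans_fst]
  exact isPullback_bcHom (a ≫ t) g

variable {P : MorphismProperty Scheme.{u}}

/-- base change. -/
theorem of_bcHom [P.IsStableUnderBaseChange] (a : T' ⟶ T) (t : T ⟶ S) {X Y : Over S}
    (g : X ⟶ Y) (h : P (bcHom t g)) : P (bcHom (a ≫ t) g) :=
  P.of_isPullback (isPullback_bcHom_comp a t g) h

theorem bcHom_of_left [P.IsStableUnderBaseChange] (t : T ⟶ S) {X Y : Over S}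
    (g : X ⟶ Y) (h : P g.left) : P (bcHom t g) :=
  P.of_isPullback (isPullback_bcHom t g) h

/-- descent. -/
theorem bcHom_of_descendsAlong (Q : MorphismProperty Scheme.{u}) [Q.IsStableUnderBaseChange]
    [P.DescendsAlong Q] (a : T' ⟶ T) (t : T ⟶ S) {X Y : Over S} (g : X ⟶ Y) (ha : Q a)
    (h : P (bcHom (a ≫ t) g)) : P (bcHom t g) :=
  of_isPullback_of_descendsAlong (P := P) (Q := Q) (isPullback_bcHom_comp a t g).flip
    (Q.of_isPullback (isPullback_trans Y a t).flip ha) h

/-- equal base maps. -/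
theorem bcHom_congr {t t' : T ⟶ S} (htt : t = t') {X Y : Over S} (g : X ⟶ Y)
    (h : P (bcHom t g)) : P (bcHom t' g) := by
  subst htt
  exact h

/-- Zariski localisation on the base. -/
theorem bcHom_of_iSup_eq_top [IsZariskiLocalAtTarget P] [P.IsStableUnderBaseChange]
    (t : T ⟶ S) {X Y : Over S} (g : X ⟶ Y) {ι : Type*} (U : ι → T.Opens)
    (hU : ⨆ i, U i = ⊤) (h : ∀ i, P (bcHom ((U i).ι ≫ t) g)) : P (bcHom t g) := by
  rw [IsZariskiLocalAtTarget.iff_of_iSup_eq_top (P := P)
    (fun i => (pullback.snd Y.hom t) ⁻¹ᵁ U i) (by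
      rw [← Scheme.Hom.preimage_iSup, hU, Scheme.Hom.preimage_top])]
  intro i
  obtain ⟨V, hV⟩ : ∃ V : (pullback Y.hom t).Opens, V = (pullback.snd Y.hom t) ⁻¹ᵁ U i :=
    ⟨_, rfl⟩
  rw [← hV]
  -- the morphism `V ⟶ Y ×_S U_i`
  obtain ⟨r, hr⟩ : ∃ r : (V : Scheme.{u}) ⟶ (U i : Scheme.{u}),
      r ≫ (U i).ι = V.ι ≫ pullback.snd Y.hom t := by
    subst hV
    exact ⟨pullback.snd Y.hom t ∣_ U i, morphismRestrict_ι _ _⟩
  have hc1 : (V.ι ≫ pullback.fst Y.hom t) ≫ Y.hom = r ≫ (U i).ι ≫ t := by
    rw [Category.assoc, pullback.condition, ← Category.assoc, ← hr, Category.assoc]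
  obtain ⟨c, hc⟩ : ∃ c : (V : Scheme.{u}) ⟶ pullback Y.hom ((U i).ι ≫ t),
      c = pullback.lift (V.ι ≫ pullback.fst Y.hom t) r hc1 := ⟨_, rfl⟩
  have hcι : c ≫ trans Y (U i).ι t = V.ι := by
    apply pullback.hom_ext
    · rw [Category.assoc, trans_fst, hc, pullback.lift_fst]
    · rw [Category.assoc, trans_snd, hc, pullback.lift_snd_assoc, hr]
  have hsq := isPullback_bcHom_comp (U i).ι t g
  have hres : IsPullback ((bcHom t g ⁻¹ᵁ V).ι) (bcHom t g ∣_ V) (bcHom t g) V.ι :=
    (isPullback_morphismRestrict (bcHom t g) V).flip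
  have hw : (bcHom t g ⁻¹ᵁ V).ι ≫ bcHom t g = ((bcHom t g ∣_ V) ≫ c) ≫ trans Y (U i).ι t := by
    rw [Category.assoc, hcι, hres.w]
  have hleft : IsPullback (hsq.lift _ _ hw) (bcHom t g ∣_ V) (bcHom ((U i).ι ≫ t) g) c := by
    refine IsPullback.of_right ?_ (hsq.lift_snd _ _ hw) hsq
    rw [hsq.lift_fst, hcι]
    exact hres
  exact P.of_isPullback hleft (h i)

/-- iterated base change. -/
theorem bcHom_comp_iff [P.RespectsIso] (a : T' ⟶ T) (t : T ⟶ S) {X Y : Over S} (g : X ⟶ Y) :
    P (bcHom (a ≫ t) g) ↔ P (bcHom a ((Over.pullback t).map g)) := by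
  have nat := (CategoryTheory.Over.pullbackComp a t).hom.naturality g
  have nat2 := congrArg (fun k => k.left) nat
  simp only [Over.comp_left, Functor.comp_map] at nat2
  haveI h1 : IsIso ((CategoryTheory.Over.pullbackComp a t).hom.app Y).left :=
    inferInstanceAs (IsIso ((CategoryTheory.Over.forget _).map ((CategoryTheory.Over.pullbackComp a t).hom.app Y)))
  haveI h2 : IsIso ((CategoryTheory.Over.pullbackComp a t).hom.app X).left :=
    inferInstanceAs (IsIso ((CategoryTheory.Over.forget _).map ((CategoryTheory.Over.pullbackComp a t).hom.app X)))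
  change P ((Over.pullback (a ≫ t)).map g).left ↔
    P ((Over.pullback a).map ((Over.pullback t).map g)).left
  rw [← P.cancel_right_of_respectsIso _ ((CategoryTheory.Over.pullbackComp a t).hom.app Y).left, nat2,
    P.cancel_left_of_respectsIso]

/-- conjugation by isomorphisms. -/
theorem bcHom_conj_iff [P.RespectsIso] (t : T ⟶ S) {X X' Y Y' : Over S} (g : X ⟶ Y)
    (e₁ : X' ⟶ X) (e₂ : Y ⟶ Y') [IsIso e₁] [IsIso e₂] :
    P (bcHom t (e₁ ≫ g ≫ e₂)) ↔ P (bcHom t g) := by
  haveI h1 : IsIso ((Over.pullback t).map e₁).left :=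
    inferInstanceAs (IsIso ((CategoryTheory.Over.forget _).map ((Over.pullback t).map e₁)))
  haveI h2 : IsIso ((Over.pullback t).map e₂).left :=
    inferInstanceAs (IsIso ((CategoryTheory.Over.forget _).map ((Over.pullback t).map e₂)))
  change P ((Over.pullback t).map (e₁ ≫ g ≫ e₂)).left ↔ P ((Over.pullback t).map g).left
  rw [Functor.map_comp, Functor.map_comp, Over.comp_left, Over.comp_left,
    P.cancel_left_of_respectsIso, P.cancel_right_of_respectsIso]

end Groth.Agent.Lib.R2H3.OverBc
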