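import Groth.Agent.Lib.R2H3MultHomGeo
import Groth.Agent.Lib.R2H3MonAlgFree
import Groth.Agent.Lib.R2H3OverBc
import Groth.Agent.Lib.Helper27DiagSub

/-!
# The homomorphisms `D_W(φ)` of diagonalisable groups (helper3, round 2)

For `φ : N →+ M`:
* `φ` surjective ⇒ `D_W(φ)` is a closed immersion, in particular a monomorphism;
* `φ` bijective ⇒ `D_W(φ)` is an isomorphism;
* `φ` injective ⇒ `D_W(φ)` is flat and surjective;
and the converses hold after any base change to the spectrum of a field.
-/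

set_option autoImplicit false
set_option linter.style.haveILetI false
set_option linter.unusedVariables false
set_option linter.unusedSectionVars false

universe u

open CategoryTheory MonoidalCategory CartesianMonoidalCategory MonObj GrpObj AlgebraicGeometry
  CategoryTheory.Limits
open Groth.Agent.Lib.Helper27.GaGm Groth.Agent.Lib.H6xDSPts Groth.Agent.Lib.R2H3.MultAct
open Groth.Agent.Lib.R2H3.OverBc

namespace Groth.Agent.Lib.R2H3.MultHom

variable {W : Scheme.{u}} {M N L : Type} [AddCommGroup M] [AddCommGroup N] [AddCommGroup L]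

lemma DSmap_comp (φ : N →+ M) (ψ : L →+ N) :
    Red.DSmap W φ ≫ Red.DSmap W ψ = Red.DSmap W (φ.comp ψ) := by
  apply dsFn_ext
  intro l
  rw [dsFn_DSmap, ← Category.id_comp (Red.DSmap W φ), dsFn_DSmap,
    ← Category.id_comp (Red.DSmap W (φ.comp ψ)), dsFn_DSmap]
  rfl

lemma DSmap_id : Red.DSmap W (AddMonoidHom.id M) = 𝟙 _ := by
  apply dsFn_ext
  intro l
  rw [← Category.id_comp (Red.DSmap W (AddMonoidHom.id M)), dsFn_DSmap]
  rfl

theorem mono_DSmap_left (φ : N →+ M) (hφ : Function.Surjective φ) :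
    Mono (Red.DSmap W φ).left := by
  haveI := Groth.Agent.Lib.Helper27DiagSub.isClosedImmersion_DSmap_left W φ hφ
  infer_instance

theorem isIso_DSmap_left (φ : N →+ M) (hφ : Function.Bijective φ) :
    IsIso (Red.DSmap W φ).left := by
  obtain ⟨e, he⟩ : ∃ e : N ≃+ M, (e : N →+ M) = φ :=
    ⟨AddEquiv.ofBijective φ hφ, rfl⟩
  have h1 : Red.DSmap W φ ≫ Red.DSmap W (e.symm : M →+ N) = 𝟙 _ := by
    rw [DSmap_comp, ← he, ← DSmap_id]
    congr 1
    ext m
    simp
  have h2 : Red.DSmap W (e.symm : M →+ N) ≫ Red.DSmap W φ = 𝟙 _ := by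
    rw [DSmap_comp, ← he, ← DSmap_id]
    congr 1
    ext m
    simp
  haveI : IsIso (Red.DSmap W φ) := ⟨_, h1, h2⟩
  exact inferInstanceAs (IsIso ((CategoryTheory.Over.forget _).map (Red.DSmap W φ)))

theorem flat_surjective_diagMap_left (R : Type u) [CommRing R] [Nontrivial R] (φ : N →+ M)
    (hφ : Function.Injective φ) :
    Flat (Red.diagMap R φ).left ∧ Surjective (Red.diagMap R φ).left := by
  have h := Groth.Agent.Lib.R2H3.MonAlgFree.faithfullyFlat R (AddMonoidHom.toMultiplicative φ)
    (fun a b hab => hφ hab)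
  exact (flat_and_surjective_SpecMap_iff _).mpr h

theorem flat_surjective_DSmap_left (φ : N →+ M) (hφ : Function.Injective φ) :
    Flat (Red.DSmap W φ).left ∧ Surjective (Red.DSmap W φ).left := by
  have h := flat_surjective_diagMap_left (ULift.{u} ℤ) φ hφ
  exact bcHom_of_left (P := (@Flat ⊓ @Surjective : MorphismProperty Scheme.{u})) _ _ h

section Field

variable {K : Type u} [Field K] (a : Spec (CommRingCat.of K) ⟶ W)

/-- the point of the fibre `D_W(M) ×_W Spec K` with values in a `K`-algebra `B` attached to a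
character with values in `B`. -/
noncomputable def fibPt {B : Type u} [CommRing B] [Algebra K B] (χ : Multiplicative M →* B) :
    Spec (CommRingCat.of B) ⟶ pullback (Red.DS W M).hom a :=
  pullback.lift (hq (Spec.map (CommRingCat.ofHom (algebraMap K B)) ≫ a) χ).left
    (Spec.map (CommRingCat.ofHom (algebraMap K B))) (Over.w (hq _ χ))

lemma fibPt_fst {B : Type u} [CommRing B] [Algebra K B] (χ : Multiplicative M →* B) :
    fibPt a χ ≫ pullback.fst (Red.DS W M).hom a =
      (hq (Spec.map (CommRingCat.ofHom (algebraMap K B)) ≫ a) χ).left :=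
  pullback.lift_fst _ _ _

lemma fibPt_snd {B : Type u} [CommRing B] [Algebra K B] (χ : Multiplicative M →* B) :
    fibPt a χ ≫ pullback.snd (Red.DS W M).hom a =
      Spec.map (CommRingCat.ofHom (algebraMap K B)) :=
  pullback.lift_snd _ _ _

lemma fibPt_bcHom {B : Type u} [CommRing B] [Algebra K B] (φ : N →+ M)
    (χ : Multiplicative M →* B) :
    fibPt a χ ≫ bcHom a (Red.DSmap W φ) =
      fibPt a (χ.comp (AddMonoidHom.toMultiplicative φ)) := by
  apply pullback.hom_ext
  · rw [Category.assoc, bcHom_fst, ← Category.assoc, fibPt_fst, fibPt_fst, ← Over.comp_left,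
      hq_comp_DSmap]
  · rw [Category.assoc, bcHom_snd, fibPt_snd, fibPt_snd]

lemma fibPt_injective {B : Type u} [CommRing B] [Algebra K B] (χ₁ χ₂ : Multiplicative M →* B)
    (h : fibPt a χ₁ = fibPt a χ₂) : χ₁ = χ₂ := by
  have h1 := congrArg (fun k => k ≫ pullback.fst (Red.DS W M).hom a) h
  simp only [fibPt_fst] at h1
  have h2 : hq (Spec.map (CommRingCat.ofHom (algebraMap K B)) ≫ a) χ₁ =
      hq (Spec.map (CommRingCat.ofHom (algebraMap K B)) ≫ a) χ₂ := Over.OverMorphism.ext h1
  rw [← charOf_hq _ χ₁, h2, charOf_hq]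

theorem surjective_of_mono (φ : N →+ M) (h : Mono (bcHom a (Red.DSmap W φ))) :
    Function.Surjective φ := by
  intro m
  obtain ⟨B, hB⟩ : ∃ B : Type u, B = MonoidAlgebra K (Multiplicative (M ⧸ φ.range)) := ⟨_, rfl⟩
  obtain ⟨χ₁, hχ₁⟩ : ∃ χ₁ : Multiplicative M →* MonoidAlgebra K (Multiplicative (M ⧸ φ.range)),
      χ₁ = (MonoidAlgebra.of K (Multiplicative (M ⧸ φ.range))).comp
        (AddMonoidHom.toMultiplicative (QuotientAddGroup.mk' φ.range)) := ⟨_, rfl⟩
  have hcomp : χ₁.comp (AddMonoidHom.toMultiplicative φ) =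
      (1 : Multiplicative M →* _).comp (AddMonoidHom.toMultiplicative φ) := by
    apply MonoidHom.ext
    intro n
    rw [hχ₁]
    simp only [MonoidHom.comp_apply, MonoidHom.one_apply]
    have h0 : (AddMonoidHom.toMultiplicative (QuotientAddGroup.mk' φ.range))
        ((AddMonoidHom.toMultiplicative φ) n) = 1 := by
      change Multiplicative.ofAdd ((QuotientAddGroup.mk' φ.range) (φ (Multiplicative.toAdd n))) = 1
      have h00 : (QuotientAddGroup.mk' φ.range) (φ (Multiplicative.toAdd n)) = 0 :=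
        (QuotientAddGroup.eq_zero_iff (N := φ.range) (φ (Multiplicative.toAdd n))).mpr
          (AddMonoidHom.mem_range.mpr ⟨_, rfl⟩)
      rw [h00]
      rfl
    rw [h0, map_one]
  have h1 := fibPt_bcHom a φ χ₁
  rw [hcomp, ← fibPt_bcHom a φ 1] at h1
  have h2 := fibPt_injective a _ _ ((cancel_mono _).mp h1)
  have h3 := DFunLike.congr_fun h2 (Multiplicative.ofAdd m)
  rw [hχ₁, MonoidHom.comp_apply, MonoidHom.one_apply] at h3
  have h4 := MonoidAlgebra.of_injective (R := K) (M := Multiplicative (M ⧸ φ.range))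
    (h3.trans (map_one (MonoidAlgebra.of K (Multiplicative (M ⧸ φ.range)))).symm)
  have h5 : (QuotientAddGroup.mk' φ.range) m = 0 := by
    have := congrArg Multiplicative.toAdd h4
    exact this
  exact AddMonoidHom.mem_range.mp ((QuotientAddGroup.eq_zero_iff (N := φ.range) m).mp h5)

theorem injective_of_flat_surjective (φ : N →+ M) (h1 : Flat (bcHom a (Red.DSmap W φ)))
    (h2 : Surjective (bcHom a (Red.DSmap W φ))) : Function.Injective φ := by
  rw [injective_iff_map_eq_zero]
  intro n₀ hn₀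
  haveI : Epi (bcHom a (Red.DSmap W φ)) := Flat.epi_of_flat_of_surjective _
  obtain ⟨j, hj⟩ : ∃ j : ℤ →+ N, j = zmultiplesHom N n₀ := ⟨_, rfl⟩
  have hcomp : φ.comp j = φ.comp (0 : ℤ →+ N) := by
    ext
    simp [hj, hn₀]
  have hz : bcHom a (Red.DSmap W φ) ≫ bcHom a (Red.DSmap W j) =
      bcHom a (Red.DSmap W φ) ≫ bcHom a (Red.DSmap W (0 : ℤ →+ N)) := by
    unfold bcHom
    rw [← Over.comp_left, ← Functor.map_comp, DSmap_comp, hcomp, ← DSmap_comp, Functor.map_comp,
      Over.comp_left]
  have hz' := (cancel_epi _).mp hz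
  obtain ⟨χ, hχ⟩ : ∃ χ : Multiplicative N →* MonoidAlgebra K (Multiplicative N),
      χ = MonoidAlgebra.of K (Multiplicative N) := ⟨_, rfl⟩
  have h3 := fibPt_bcHom a j χ
  rw [hz', fibPt_bcHom] at h3
  have h4 := fibPt_injective a _ _ h3
  have h5 := DFunLike.congr_fun h4 (Multiplicative.ofAdd (1 : ℤ))
  simp only [MonoidHom.comp_apply] at h5
  have h6 : (AddMonoidHom.toMultiplicative j) (Multiplicative.ofAdd (1 : ℤ)) =
      Multiplicative.ofAdd n₀ := by
    change Multiplicative.ofAdd (j 1) = _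
    rw [hj]
    simp
  have h7 : (AddMonoidHom.toMultiplicative (0 : ℤ →+ N)) (Multiplicative.ofAdd (1 : ℤ)) =
      Multiplicative.ofAdd (0 : N) := rfl
  rw [h6, h7, hχ] at h5
  have h8 := MonoidAlgebra.of_injective (R := K) (M := Multiplicative N) h5.symm
  exact (congrArg Multiplicative.toAdd h8)

theorem bijective_of_isIso (φ : N →+ M) (h : IsIso (bcHom a (Red.DSmap W φ))) :
    Function.Bijective φ :=
  ⟨injective_of_flat_surjective a φ inferInstance inferInstance,
    surjective_of_mono a φ inferInstance⟩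

end Field

end Groth.Agent.Lib.R2H3.MultHom
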