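import Groth.Agent.Lib.R2H3UnitLocusSep

/-!
# Triviality of a homomorphism of groups of multiplicative type at a point (helper3, round 2)

Let `u : G ⟶ H` be a homomorphism of `S`-groups, `t : U ⟶ S` a morphism over which `G` and `H`
become diagonalisable, `v = vOf u t eG eH : D_U(M) ⟶ D_U(N)` the corresponding homomorphism.

* `trivS_comp_iff_vOf`: `u` is trivial above `a ≫ t` iff `v` is trivial above `a`.
* `trivS_field_iff_phiAt`: `v` is trivial at the point `x` of `U` iff the homomorphism of character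
  groups `phiAt v x` is trivial.
* `isMultTypeFT_DS`: `D_S(M)` is of multiplicative type and of finite type for `M` finitely
  generated.
-/

set_option autoImplicit false
set_option linter.style.haveILetI false
set_option linter.unusedVariables false
set_option linter.unusedSectionVars false

universe u

open CategoryTheory MonoidalCategory CartesianMonoidalCategory MonObj GrpObj AlgebraicGeometry
  CategoryTheory.Limits
open Groth.Agent.Lib.Helper27.GaGm Groth.Agent.Lib.H6xDSPts Groth.Agent.Lib.R2H3.MultAct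
  Groth.Agent.Lib.R2H3.MultHom Groth.Agent.Lib.R2H3.FpqcLocal Groth.Agent.Lib.R2H3.UnitLocus

namespace Groth.Agent.Lib.R2H3.TrivFibre

/-- `D_S(M)` is of multiplicative type and of finite type. -/
theorem isMultTypeFT_DS (S : Scheme.{u}) (M : Type) [AddCommGroup M] (hM : AddGroup.FG M) :
    SGA3x.IsMultTypeFT (Red.DS S M) := by
  refine ⟨S, 𝟙 S, inferInstance, inferInstance, fun V hV => ⟨V, hV.isCompact, ?_⟩, fun s => ?_⟩
  · simp
  · exact ⟨⊤, trivial, M, inferInstance, hM, ⟨bcDSIso _ M⟩⟩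

section VOf

variable {S : Scheme.{u}} {G H : Over S} [GrpObj G] [GrpObj H] (u : G ⟶ H) [IsMonHom u]
variable {U : Scheme.{u}} (t : U ⟶ S) {M N : Type} [AddCommGroup M] [AddCommGroup N]
  (eG : Grp.mk (Red.bc t G) ≅ Grp.mk (Red.DS U M))
  (eH : Grp.mk (Red.bc t H) ≅ Grp.mk (Red.DS U N))

lemma adjE_comp_map₁ {A B : Over S} (F : A ⟶ B) (Y : Over U) (h : Y ⟶ Red.bc t A) :
    adjE t B Y (h ≫ (Over.pullback t).map F) = adjE t A Y h ≫ F :=
  (Over.mapPullbackAdj t).homEquiv_naturality_right_symm h F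

open scoped Obj in
/-- triviality of `u` above `a ≫ t` and triviality of `vOf u t eG eH` above `a`. -/
theorem trivS_comp_iff_vOf (T : Scheme.{u}) (a : T ⟶ U) :
    TrivS u T (a ≫ t) ↔ TrivS (vOf u t eG eH) T a := by
  haveI : IsMonHom ((Over.pullback t).map u) :=
    Functor.map.instIsMonHom (F := Over.pullback t) (f := u)
  obtain ⟨ei, hei⟩ : ∃ ei : Red.DS U M ⟶ Red.bc t G, ei = eG.inv.hom.hom := ⟨_, rfl⟩
  obtain ⟨eh, heh⟩ : ∃ eh : Red.bc t G ⟶ Red.DS U M, eh = eG.hom.hom.hom := ⟨_, rfl⟩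
  obtain ⟨fi, hfi⟩ : ∃ fi : Red.DS U N ⟶ Red.bc t H, fi = eH.inv.hom.hom := ⟨_, rfl⟩
  obtain ⟨fh, hfh⟩ : ∃ fh : Red.bc t H ⟶ Red.DS U N, fh = eH.hom.hom.hom := ⟨_, rfl⟩
  haveI : IsMonHom ei := by rw [hei]; infer_instance
  haveI : IsMonHom fi := by rw [hfi]; infer_instance
  haveI : IsMonHom fh := by rw [hfh]; infer_instance
  have hehi : eh ≫ ei = 𝟙 _ := by
    rw [hei, heh, ← Grp.comp_hom_hom, eG.hom_inv_id, Grp.id_hom_hom]
  have hfhi : fh ≫ fi = 𝟙 _ := by
    rw [hfi, hfh, ← Grp.comp_hom_hom, eH.hom_inv_id, Grp.id_hom_hom]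
  have hv : vOf u t eG eH = ei ≫ (Over.pullback t).map u ≫ fh := by
    unfold vOf
    rw [hei, hfh]
  -- points
  have hpt : ∀ (Y : Over U) (y : Y ⟶ Red.DS U M),
      y ≫ vOf u t eG eH = 1 ↔ adjE t G Y (y ≫ ei) ≫ u = 1 := by
    intro Y y
    rw [← adjE_comp_map₁, hv]
    constructor
    · intro h
      have h1 := congrArg (fun k => k ≫ fi) h
      simp only [Category.assoc, hfhi, Category.comp_id, MonObj.one_comp] at h1
      rw [Category.assoc, h1, adjE_one]
    · intro h
      have h1 : (y ≫ ei) ≫ (Over.pullback t).map u = 1 := by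
        apply (adjE t H Y).injective
        rw [h, adjE_one]
      rw [← Category.assoc, ← Category.assoc, h1, MonObj.one_comp]
  constructor
  · intro h Y b hb y
    rw [hpt]
    exact h ((Over.map t).obj Y) b (by
      change b ≫ a ≫ t = Y.hom ≫ t
      rw [← Category.assoc, hb]) _
  · intro h Y b hb y
    obtain ⟨k', hk'⟩ : ∃ k' : (Over.map t).obj (Over.mk (b ≫ a)) ⟶ Y, k'.left = 𝟙 _ :=
      ⟨Over.homMk (𝟙 _) (by simp [hb]), rfl⟩
    haveI : IsIso k'.left := by rw [hk']; infer_instance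
    haveI : IsIso k' := by
      haveI : IsIso ((Over.forget _).map k') := ‹IsIso k'.left›
      exact isIso_of_reflects_iso k' (Over.forget _)
    have h1 := h (Over.mk (b ≫ a)) b rfl ((adjE t G _).symm (k' ≫ y) ≫ eh)
    rw [hpt, Category.assoc, hehi, Category.comp_id, Equiv.apply_symm_apply,
      Category.assoc] at h1
    rw [← cancel_epi k', h1, MonObj.comp_one]

end VOf

section PhiAt

variable {U : Scheme.{u}} {M N : Type} [AddCommGroup M] [AddCommGroup N]
  (v : Red.DS U M ⟶ Red.DS U N) [IsMonHom v]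

lemma comp_DSmap_zero {Y : Over U} (y : Y ⟶ Red.DS U M) :
    y ≫ Red.DSmap U (0 : N →+ M) = 1 := by
  apply dsFn_ext
  intro n
  rw [dsFn_DSmap, dsFn_one]
  exact dsFn_zero y

lemma hq_one {B : Type u} [CommRing B] (q : Spec (CommRingCat.of B) ⟶ U) :
    hq q (1 : Multiplicative N →* B) = 1 := by
  apply dsFn_ext
  intro n
  rw [dsFn_hq, dsFn_one, MonoidHom.one_apply]
  exact map_one (Scheme.ΓSpecIso (CommRingCat.of B)).inv.hom

/-- `v` is trivial at the point `x` iff the homomorphism of character groups at `x` is trivial. -/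
theorem trivS_field_iff_phiAt (x : U) :
    TrivS v (Spec (U.residueField x)) (U.fromSpecResidueField x) ↔ phiAt v x = 1 := by
  obtain ⟨φ, hφ⟩ : ∃ φ : N →+ M, φ = AddMonoidHom.toMultiplicative.symm (phiAt v x) := ⟨_, rfl⟩
  have hφ' : AddMonoidHom.toMultiplicative φ = phiAt v x := by
    rw [hφ, Equiv.apply_symm_apply]
  have hx : x ∈ Wphi v φ := by
    rw [hφ]
    exact mem_Wphi_phiAt v x
  have hcomp : ∀ (Y : Over U) (b : Y.left ⟶ Spec (U.residueField x)),
      b ≫ U.fromSpecResidueField x = Y.hom → ∀ y : Y ⟶ Red.DS U M,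
      y ≫ v = y ≫ Red.DSmap U φ := by
    intro Y b hb y
    apply comp_eq_of_mem_Wphi v φ Y _ y
    intro p
    rw [← hb, Scheme.Hom.comp_apply, Scheme.fromSpecResidueField_apply]
    exact hx
  constructor
  · intro h
    -- the universal character
    obtain ⟨β, hβ⟩ : ∃ β : U.residueField x →+*
        MonoidAlgebra (U.residueField x) (Multiplicative M),
        β = algebraMap _ _ := ⟨_, rfl⟩
    obtain ⟨q, hq'⟩ : ∃ q : Spec (CommRingCat.of (MonoidAlgebra (U.residueField x)
        (Multiplicative M))) ⟶ U,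
        q = Spec.map (CommRingCat.ofHom β) ≫ U.fromSpecResidueField x := ⟨_, rfl⟩
    have h1 := h (Over.mk q) (Spec.map (CommRingCat.ofHom β)) hq'.symm
      (hq q (MonoidAlgebra.of (U.residueField x) (Multiplicative M)))
    rw [hcomp (Over.mk q) (Spec.map (CommRingCat.ofHom β)) hq'.symm, hq_comp_DSmap,
      ← hq_one (N := N) q] at h1
    have h2 := congrArg charOf h1
    rw [charOf_hq, charOf_hq, hφ'] at h2
    apply MonoidHom.ext
    intro n
    have h3 := DFunLike.congr_fun h2 n
    rw [MonoidHom.comp_apply, MonoidHom.one_apply] at h3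
    have h4 : MonoidAlgebra.of (U.residueField x) (Multiplicative M) (phiAt v x n) =
        MonoidAlgebra.of (U.residueField x) (Multiplicative M) 1 := by
      rw [h3, map_one]
    exact MonoidAlgebra.of_injective h4
  · intro h Y b hb y
    have h0 : φ = 0 := by
      rw [hφ, h]
      rfl
    rw [hcomp Y b hb y, h0, comp_DSmap_zero]

end PhiAt

end Groth.Agent.Lib.R2H3.TrivFibre
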