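import Groth.Agent.Lib.R2H3QuotBC
import Groth.Agent.Lib.R2H3MultHomDS
import Groth.Agent.Lib.R2H3MultTypeProps
import Groth.Agent.Lib.R2H3TrivFibre
import Groth.Agent.Lib.Helper8FixedPt

/-!
# `D_S(M) ⟶ D_S(N)` is the fppf quotient of `D_S(M)` by `D_S(M/N)`

* `isPullback_act_of_pts`: the cartesian square of a quotient from the description of the kernel
  on points.
* `exists_lift_of_comp_eq_one`: a point of `D_S(M)` killed by `D_S(M) ⟶ D_S(N)` comes from
  `D_S(M/N)`.
* `isQuotient_DS`: for a subgroup `N` of a finitely generated abelian group `M`, the restriction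
  `D_S(M) ⟶ D_S(N)` is the fppf quotient by `D_S(M/N)`.
-/

set_option autoImplicit false
universe v u₁ u

open CategoryTheory Limits MonoidalCategory CartesianMonoidalCategory MonObj GrpObj
  AlgebraicGeometry

namespace Groth.Agent.Lib.R2H3.DSQuot

open Groth.Agent.Lib.Helper12.QuotGrp Groth.Agent.Lib.H6xDSPts Groth.Agent.Lib.R2H3.MultHom

section Cat

variable {C : Type u₁} [Category.{v} C] [CartesianMonoidalCategory C]
  {G H Q : C} [GrpObj G] [GrpObj H] [GrpObj Q]

/-- the cartesian square `G × H ⇉ G ⟶ Q` from the description of the kernel of `q` on points. -/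
theorem isPullback_act_of_pts (i : H ⟶ G) [Mono i] (q : G ⟶ Q) [IsMonHom q]
    (hiq : i ≫ q = 1)
    (hker : ∀ (X : C) (g : X ⟶ G), g ≫ q = 1 → ∃ h : X ⟶ H, h ≫ i = g) :
    IsPullback (fst G H) ((G ◁ i) ≫ μ[G]) q q := by
  have hw : fst G H ≫ q = ((G ◁ i) ≫ μ[G]) ≫ q := by
    have h1 : (G ◁ i) ≫ μ[G] = fst G H * (snd G H ≫ i) := act_eq i
    rw [h1, MonObj.mul_comp, Category.assoc, hiq, MonObj.comp_one, _root_.mul_one]
  refine ⟨⟨hw⟩, ⟨PullbackCone.IsLimit.mk hw
    (fun s => lift s.fst (hker s.pt (s.fst⁻¹ * s.snd) ?_).choose) ?_ ?_ ?_⟩⟩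
  · rw [MonObj.mul_comp, GrpObj.inv_comp, s.condition, inv_mul_cancel]
  · intro s
    exact lift_fst _ _
  · intro s
    have h1 := (hker s.pt (s.fst⁻¹ * s.snd)
      (by rw [MonObj.mul_comp, GrpObj.inv_comp, s.condition, inv_mul_cancel])).choose_spec
    rw [lift_act, h1, mul_inv_cancel_left]
  · intro s m hm1 hm2
    have h1 := (hker s.pt (s.fst⁻¹ * s.snd)
      (by rw [MonObj.mul_comp, GrpObj.inv_comp, s.condition, inv_mul_cancel])).choose_spec
    apply CartesianMonoidalCategory.hom_ext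
    · rw [hm1, lift_fst]
    · rw [lift_snd, ← cancel_mono i, h1]
      have h2 : m = lift (m ≫ fst G H) (m ≫ snd G H) := by
        apply CartesianMonoidalCategory.hom_ext <;> simp
      rw [h2, lift_act, hm1] at hm2
      rw [← hm2, inv_mul_cancel_left]

end Cat

section DS

variable {S : Scheme.{u}} {M : Type} [AddCommGroup M] (N : AddSubgroup M)

/-- a point of `D_S(M)` killed by the restriction to `D_S(N)` comes from `D_S(M/N)`. -/
lemma exists_lift_of_comp_eq_one {X : Over S} (g : X ⟶ Red.DS S M)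
    (hg : g ≫ Red.DSmap S N.subtype = 1) :
    ∃ h : X ⟶ Red.DS S (M ⧸ N), h ≫ Red.DSmap S (QuotientAddGroup.mk' N) = g := by
  obtain ⟨φ, hφd⟩ : ∃ φ : M →+ Additive Γ(X.left, ⊤), ∀ m, φ m = Additive.ofMul (dsFn g m) :=
    ⟨{ toFun := fun m => Additive.ofMul (dsFn g m)
       map_zero' := by rw [dsFn_zero]; rfl
       map_add' := fun m m' => by rw [dsFn_add]; rfl }, fun m => rfl⟩
  have hφ : N ≤ φ.ker := by
    intro n hn
    rw [AddMonoidHom.mem_ker, hφd]
    have h1 : dsFn g n = dsFn (g ≫ Red.DSmap S N.subtype) ⟨n, hn⟩ := by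
      rw [dsFn_DSmap]; rfl
    rw [h1, hg, dsFn_one]; rfl
  obtain ⟨h, hh⟩ := dsFn_surj (X := X)
    (AddMonoidHom.toMultiplicativeLeft (QuotientAddGroup.lift N φ hφ))
  refine ⟨h, ?_⟩
  apply dsFn_ext
  intro m
  rw [dsFn_DSmap, hh]
  change Additive.toMul (QuotientAddGroup.lift N φ hφ (QuotientAddGroup.mk' N m)) = _
  rw [QuotientAddGroup.mk'_apply, QuotientAddGroup.lift_mk, hφd]
  rfl

lemma fg_subgroup (hM : AddGroup.FG M) : AddGroup.FG N := by
  haveI : Module.Finite ℤ M := Module.Finite.iff_addGroup_fg.mpr hM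
  haveI : IsNoetherian ℤ M := isNoetherian_of_isNoetherianRing_of_finite ℤ M
  haveI : Module.Finite ℤ (AddSubgroup.toIntSubmodule N) :=
    Module.Finite.of_fg (IsNoetherian.noetherian _)
  exact Module.Finite.iff_addGroup_fg.mp
    (inferInstanceAs (Module.Finite ℤ (AddSubgroup.toIntSubmodule N)))

theorem mono_DSmap_mk : Mono (Red.DSmap S (QuotientAddGroup.mk' N)) := by
  haveI : Mono ((Over.forget S).map (Red.DSmap S (QuotientAddGroup.mk' N))) :=
    mono_DSmap_left (W := S) (QuotientAddGroup.mk' N) (QuotientAddGroup.mk'_surjective N)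
  exact (Over.forget S).mono_of_mono_map inferInstance

/-- `D_S(M) ⟶ D_S(N)` is the fppf quotient of `D_S(M)` by `D_S(M/N)`. -/
theorem isQuotient_DS (hM : AddGroup.FG M) :
    RedSub.IsQuotient (Red.DSmap S (QuotientAddGroup.mk' N)) (Red.DSmap S N.subtype) := by
  have hfs := flat_surjective_DSmap_left (W := S) N.subtype Subtype.val_injective
  have hN : AddGroup.FG N := fg_subgroup N hM
  refine ⟨hfs.2, hfs.1, ?_, ?_⟩
  · have h1 : LocallyOfFinitePresentation
        ((Red.DSmap S N.subtype).left ≫ (Red.DS S N).hom) := by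
      rw [Over.w]
      exact Groth.Agent.Lib.R2H3.MultTypeProps.lfp_DS S M hM
    exact Groth.Agent.Lib.Helper8FixedPt.lfp_of_comp_of_lft _ _ h1
      (Groth.Agent.Lib.R2H3.MonoFib.lft_DS S N hN)
  · haveI := mono_DSmap_mk (S := S) N
    refine isPullback_act_of_pts _ _ ?_ (fun X g hg => exists_lift_of_comp_eq_one N g hg)
    rw [DSmap_comp]
    have h0 : (QuotientAddGroup.mk' N).comp N.subtype = 0 := by
      ext n
      simp
    rw [h0, ← Category.id_comp (Red.DSmap S (0 : N →+ M ⧸ N))]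
    exact Groth.Agent.Lib.R2H3.TrivFibre.comp_DSmap_zero _

end DS

end Groth.Agent.Lib.R2H3.DSQuot
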