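import Groth.Agent.Lib.R2H3DepthOfVanish

/-!
# Depth and vanishing of the cohomology of negative twists, embedded form (helper3, round 2)

Namespace `Groth.Agent.Lib.R2H3.DepthEmb`.

For a closed immersion `i : X ⟶ P^N_k` and a coherent `F` on `X`:
`H^j(X, F ⊗ i^*O(-q)) = 0` for all `j ≤ n` and `q ≫ 0` iff `depth F_x ≥ n + 1` at all closed points
(`vanishing_iff_depth`).
-/

set_option autoImplicit false
set_option linter.style.haveILetI false
set_option linter.unusedSectionVars false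
universe u

open CategoryTheory CategoryTheory.Limits AlgebraicGeometry TopologicalSpace Opposite MonoidalCategory TensorProduct

namespace Groth.Agent.Lib.R2H3.DepthEmb

open Groth.Agent.Lib.Helper23.SecTw Groth.Agent.Lib.Helper23.GenLocus Groth.Agent.Lib.Helper6
  Groth.Agent.Lib.Helper23.AmpleIso Groth.Agent.Lib.Helper23.Extend
  Groth.Agent.Lib.R2H3.NegTwist Groth.Agent.Lib.R2H2.PnSerre Groth.Agent.Lib.R2H2.PnBeilinson
  Groth.Agent.Lib.R2H3.NegTwistCalc

section Twist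

variable (N : ℕ) (k : Type u) [Field k]

/-- `O(-1)^{⊗ q} ≅ O(-q)` on `P^N_k` -/
theorem nonempty_tensorPow_twist_neg_iso (q : ℕ) :
    Nonempty (CohB1.tensorPow (Twist.twistProjSpace N k (-1)) q ≅
      Twist.twistProjSpace N k (-(q : ℤ))) := by
  induction q with
  | zero =>
    obtain ⟨ε₁⟩ := Groth.Agent.Lib.R2Lead.KRR.nonempty_twistProjSpace_zero_iso N k
    exact ⟨ε₁.symm ≪≫ eqToIso (by norm_num)⟩
  | succ q ih =>
    obtain ⟨e⟩ := ih
    obtain ⟨ε₀⟩ := Groth.Agent.Lib.R2Lead.KRR.nonempty_twistProjSpace_tensor_iso N k (-(q : ℤ)) (-1)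
    exact ⟨tensorModIso e (Iso.refl _) ≪≫ ε₀ ≪≫ eqToIso (by push_cast; ring_nf)⟩

end Twist

section Emb

variable (k : Type u) [Field k] (N : ℕ) {X : Scheme.{u}} (i : X ⟶ CohB1.ProjSpace N k)
  [IsClosedImmersion i]

/-- the pullbacks of `O(1)` and `O(-1)` to a closed subscheme of `P^N_k`: ample and inverse to each
other, and `F ⊗ i^*O(-q) ≅ F ⊗ (i^*O(-1))^{⊗ q}` -/
theorem exists_data :
    CohB1.IsAmple ((Scheme.Modules.pullback i).obj (Twist.twistProjSpace N k 1)) ∧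
    ClSub.IsInverseOf ((Scheme.Modules.pullback i).obj (Twist.twistProjSpace N k 1))
      ((Scheme.Modules.pullback i).obj (Twist.twistProjSpace N k (-1))) ∧
    ∀ (F : X.Modules) (q : ℕ), Nonempty (CohB1.tensorMod F
        ((Scheme.Modules.pullback i).obj (Twist.twistProjSpace N k (-(q : ℤ)))) ≅
      CohB1.tensorMod F (CohB1.tensorPow
        ((Scheme.Modules.pullback i).obj (Twist.twistProjSpace N k (-1))) q)) := by
  have h1 := Groth.Agent.Lib.R2Lead.KRR.isInvertible_twistProjSpace N k 1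
  have hm1 := Groth.Agent.Lib.R2Lead.KRR.isInvertible_twistProjSpace N k (-1)
  refine ⟨Groth.Agent.Lib.Helper23.PB.isAmple_pullback_of_isAffineHom i _
    (Groth.Agent.Lib.R2H2.QProjK0.isAmple_twistProjSpace_one N k), ?_, ?_⟩
  · obtain ⟨a⟩ := Groth.Agent.Lib.Helper23.PB.nonempty_pullback_tensorMod_iso i _ _ h1 hm1
    obtain ⟨ε₀⟩ := Groth.Agent.Lib.R2Lead.KRR.nonempty_twistProjSpace_tensor_iso N k 1 (-1)
    obtain ⟨ε₁⟩ := Groth.Agent.Lib.R2Lead.KRR.nonempty_twistProjSpace_zero_iso N k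
    exact ⟨a.symm ≪≫ (Scheme.Modules.pullback i).mapIso (ε₀ ≪≫ eqToIso (by norm_num) ≪≫ ε₁) ≪≫
      Groth.Agent.Lib.Helper23.PB.pullbackUnitIso i⟩
  · intro F q
    obtain ⟨e⟩ := nonempty_tensorPow_twist_neg_iso N k q
    obtain ⟨b⟩ := Groth.Agent.Lib.Helper23.PB.nonempty_pullback_tensorPow_iso i _ hm1 q
    exact ⟨tensorModIso (Iso.refl F) ((Scheme.Modules.pullback i).mapIso e.symm ≪≫ b)⟩

/-- **Depth and negative twists.**  For a closed subscheme `X` of `P^N_k` and a coherent `F` on `X`: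
`H^j(X, F(-q)) = 0` for all `j ≤ n` and all `q ≫ 0` iff `depth F_x ≥ n + 1` at all closed points. -/
theorem vanishing_iff_depth (F : X.Modules) (hF : Coh.IsCoh F) (n : ℕ) :
    (∃ q₀ : ℕ, ∀ q : ℕ, q₀ ≤ q → ∀ j : ℕ, j ≤ n →
      Subsingleton (Coh.HH X (CohB1.tensorMod F
        ((Scheme.Modules.pullback i).obj (Twist.twistProjSpace N k (-(q : ℤ))))) j)) ↔
    ∀ x : X, IsClosed ({x} : Set X) →
      ((n + 1 : ℕ) : ℕ∞) ≤ LocCoh.depth (X.presheaf.stalk x) (F.presheaf.stalk x) := by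
  letI : X.Over (Spec (CommRingCat.of k)) := ⟨i ≫ CohB1.ProjSpace.toSpec N k⟩
  haveI : IsProper (X ↘ Spec (CommRingCat.of k)) := by
    haveI := Groth.Agent.S9705.isProper_projSpace_toSpec N k
    change IsProper (i ≫ CohB1.ProjSpace.toSpec N k)
    infer_instance
  obtain ⟨hL, hM, he⟩ := exists_data k N i
  constructor
  · rintro ⟨q₀, hq₀⟩
    refine Groth.Agent.Lib.R2H3.DepthOfVanish.depth_of_vanishing k X _ hL _ hM n F hF
      ⟨q₀, fun m hm j hj => ?_⟩
    obtain ⟨e⟩ := he F m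
    exact subsingleton_HH_of_iso e j (hq₀ m hm j hj)
  · intro hd
    have hj : ∀ j : ℕ, ∃ m₀ : ℕ, j ≤ n → ∀ m : ℕ, m₀ ≤ m →
        Subsingleton (Coh.HH X (CohB1.tensorMod F (CohB1.tensorPow
          ((Scheme.Modules.pullback i).obj (Twist.twistProjSpace N k (-1))) m)) j) := by
      intro j
      by_cases hjn : j ≤ n
      · obtain ⟨m₀, hm₀⟩ := Groth.Agent.Lib.R2H3.NegTwistAll.main_all k X _ hL _ hM j F hF
          (fun x hx => le_trans (by exact_mod_cast Nat.succ_le_succ hjn) (hd x hx))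
        exact ⟨m₀, fun _ => hm₀⟩
      · exact ⟨0, fun h => absurd h hjn⟩
    choose m₀ hm₀ using hj
    refine ⟨(Finset.range (n + 1)).sup m₀, fun q hq j hjn => ?_⟩
    obtain ⟨e⟩ := he F q
    refine subsingleton_HH_of_iso e.symm j (hm₀ j hjn q (le_trans ?_ hq))
    exact Finset.le_sup (Finset.mem_range.2 (Nat.lt_succ_of_le hjn))

end Emb

end Groth.Agent.Lib.R2H3.DepthEmb
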