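import Groth.Agent.Lib.R2H3NegTwistAll
import Groth.Agent.Lib.R2H3ZeroConn
import Groth.Agent.Lib.R2H3PnH0Drop

/-!
# Depth from the vanishing of the cohomology of negative twists (helper3, round 2)

Namespace `Groth.Agent.Lib.R2H3.DepthOfVanish`.

`X` proper over a field, `L` ample with inverse `M`, `F` coherent.  If `Hⁱ(X, F ⊗ M^{⊗ m}) = 0` for all
`i ≤ n` and `m ≫ 0` then `depth F_x ≥ n + 1` at all closed points (`depth_of_vanishing`), the converse of
`NegTwistAll.main_all`.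
-/

set_option autoImplicit false
set_option linter.style.haveILetI false
set_option linter.unusedSectionVars false
universe u

open CategoryTheory CategoryTheory.Limits AlgebraicGeometry TopologicalSpace Opposite MonoidalCategory TensorProduct

namespace Groth.Agent.Lib.R2H3.DepthOfVanish

open Groth.Agent.Lib.Helper23.SecTw Groth.Agent.Lib.Helper23.GenLocus Groth.Agent.Lib.Helper6
  Groth.Agent.Lib.Helper23.AmpleIso Groth.Agent.Lib.Helper23.Extend
  Groth.Agent.Lib.R2H3.NegTwist Groth.Agent.Lib.R2H2.PnSerre Groth.Agent.Lib.R2H2.PnBeilinson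
  Groth.Agent.Lib.R2H3.NegTwistLin Groth.Agent.Lib.R2H3.NegTwistCalc Groth.Agent.Lib.R2H3.NegTwistH1
  Groth.Agent.Lib.R2H3.NegTwistData Groth.Agent.Lib.Helper2.Ass Groth.Agent.Lib.Helper23.AssAffine
  Groth.Agent.Lib.Helper2.QCoh

variable {X : Scheme.{u}}

section BaseCase

/-- a quasi-coherent module with a closed associated point has a nonzero global section -/
theorem exists_section_ne_zero_of_closed_assPoint [IsLocallyNoetherian X] (G : X.Modules)
    [G.IsQuasicoherent] (x : X) (hcl : IsClosed ({x} : Set X)) (hass : Curv2.IsAssPoint G x) :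
    ∃ t : Γ(G, ⊤), t ≠ 0 := by
  obtain ⟨U, hU, hxU⟩ : ∃ U : X.Opens, IsAffineOpen U ∧ x ∈ U := by
    obtain ⟨_, ⟨U, hU, rfl⟩, hxU, -⟩ :=
      X.isBasis_affineOpens.exists_subset_of_mem_open (Set.mem_univ x) isOpen_univ
    exact ⟨U, hU, hxU⟩
  haveI : IsNoetherianRing Γ(X, U) := IsLocallyNoetherian.component_noetherian ⟨U, hU⟩
  rw [isAssPoint_iff_mem_associatedPrimes hU G x hxU] at hass
  obtain ⟨hprime, m, hm⟩ := isAssociatedPrime_iff.mp hass
  have hm0 : m ≠ 0 := by
    intro h0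
    apply hprime.ne_top
    rw [hm, h0, Ideal.eq_top_iff_one, Submodule.mem_colon_singleton, Submodule.mem_bot, smul_zero]
  let W : X.Opens := ⟨({x} : Set X)ᶜ, hcl.isOpen_compl⟩
  have hres : res G (inf_le_left : U ⊓ W ≤ U) m = 0 := by
    apply Groth.Agent.Lib.R2H3.ZeroConn.eq_zero_of_locally
    rintro y ⟨hyU, hyW⟩
    have hyx : y ≠ x := hyW
    -- an element of `p_x` not in `p_y`
    have hnle : ¬ (hU.primeIdealOf ⟨x, hxU⟩).asIdeal ≤ (hU.primeIdealOf ⟨y, hyU⟩).asIdeal := by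
      intro hle
      have h1 : hU.primeIdealOf ⟨x, hxU⟩ ⤳ hU.primeIdealOf ⟨y, hyU⟩ :=
        (PrimeSpectrum.le_iff_specializes _ _).1 hle
      have h2 := h1.map hU.fromSpec.continuous
      rw [hU.fromSpec_primeIdealOf ⟨x, hxU⟩, hU.fromSpec_primeIdealOf ⟨y, hyU⟩] at h2
      have h3 : y ∈ closure ({x} : Set X) := h2.mem_closure
      rw [hcl.closure_eq] at h3
      exact hyx h3
    obtain ⟨s, hsx, hsy⟩ := Set.not_subset.1 hnle
    have hsm : s • m = 0 := by
      have h4 : s ∈ (hU.primeIdealOf ⟨x, hxU⟩).asIdeal := hsx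
      rw [hm, Submodule.mem_colon_singleton, Submodule.mem_bot] at h4
      exact h4
    have hyB : y ∈ X.basicOpen s :=
      (Groth.Agent.Lib.Helper2.mem_basicOpen_iff_notMem_primeIdealOf hU y hyU s).2 hsy
    refine ⟨(U ⊓ W) ⊓ X.basicOpen s, inf_le_left, ⟨⟨hyU, hyW⟩, hyB⟩, ?_⟩
    rw [res_res]
    have hle : (U ⊓ W) ⊓ X.basicOpen s ≤ X.basicOpen s := inf_le_right
    have hunit : IsUnit (resf (inf_le_left.trans inf_le_left : (U ⊓ W) ⊓ X.basicOpen s ≤ U) s) := by
      have h5 : resf (inf_le_left.trans inf_le_left : (U ⊓ W) ⊓ X.basicOpen s ≤ U) s =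
          resf hle (resf (X.basicOpen_le s) s) := (resf_resf (X.basicOpen_le s) hle s).symm
      rw [h5]
      exact (X.toRingedSpace.isUnit_res_basicOpen s).map _
    apply hunit.smul_eq_zero.1
    rw [← res_smul, hsm, res_zero]
  obtain ⟨t, ht, -⟩ := exists_res_eq₂ G (le_top : U ≤ ⊤) (le_top : W ≤ ⊤)
    (by
      intro z _
      by_cases hz : z = x
      · exact Or.inl (hz ▸ hxU)
      · exact Or.inr hz)
    (inf_le_left : U ⊓ W ≤ U) (inf_le_right : U ⊓ W ≤ W) le_rfl m 0 (by rw [hres, res_zero])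
  refine ⟨t, fun h0 => hm0 ?_⟩
  rw [← ht, h0, res_zero]

/-- `H⁰` of a quasi-coherent module with a closed associated point is nonzero -/
theorem not_subsingleton_H0_of_closed_assPoint [IsLocallyNoetherian X] (G : X.Modules)
    [G.IsQuasicoherent] (x : X) (hcl : IsClosed ({x} : Set X)) (hass : Curv2.IsAssPoint G x) :
    ¬ Subsingleton (Coh.HH X G 0) := by
  intro hsub
  obtain ⟨t, ht⟩ := exists_section_ne_zero_of_closed_assPoint G x hcl hass
  apply ht
  apply (h0Equiv G).symm.injective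
  exact Subsingleton.elim _ _

end BaseCase

section Data

/-- data for the converse: a contraction `χ : M^{⊗ E} ⟶ O_X` which is a unit near a finite set `A` and
vanishes at a closed point `x ∉ A` -/
theorem exists_data_vanish (X : Scheme.{u}) (L : X.Modules) (hL : CohB1.IsAmple L) (M : X.Modules)
    (hM : ClSub.IsInverseOf L M) (A : Set X) (hA : A.Finite) (x : X)
    (hcl : IsClosed ({x} : Set X)) (hxA : x ∉ A) :
    ∃ (E : ℕ) (_ : 0 < E) (χ : CohB1.tensorPow M E ⟶ Coh.structureModule X) (U V : X.Opens),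
      (∀ y ∈ A, y ∈ U) ∧
      (∀ (W : X.Opens), W ≤ U → ∀ e : Γ(CohB1.tensorPow M E, W),
        IsGen (CohB1.tensorPow M E) W e → IsUnit (ofS W (χ.app W e))) ∧
      x ∈ V ∧
      (∀ (W : X.Opens) (_ : W ≤ V) (hxW : x ∈ W) (m : Γ(CohB1.tensorPow M E, W)),
        (X.presheaf.germ W x hxW).hom (ofS W (χ.app W m)) ∈
          IsLocalRing.maximalIdeal (X.presheaf.stalk x)) := by
  classical
  have hLi := hL.1
  haveI : CompactSpace X := hL.2.1
  haveI := quasiSeparatedSpace_of_isAmple L hL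
  have hMi := isInvertible_of_isInverseOf L M hM
  obtain ⟨n₀, σ₀, hAσ, -, haff⟩ := exists_affine_genLocus_of_finite L hL (A ∪ {x})
    (hA.union (Set.finite_singleton x)) ⊤ (fun _ _ => trivial)
  have hxU : x ∈ CohB1.genLocus (CohB1.tensorPow L (n₀ + 1)) σ₀ := hAσ (Or.inr rfl)
  have hAU : ∀ y ∈ A, y ∈ CohB1.genLocus (CohB1.tensorPow L (n₀ + 1)) σ₀ :=
    fun y hy => hAσ (Or.inl hy)
  have hL' : PicF.IsInvertible (CohB1.tensorPow L (n₀ + 1)) := isInvertible_tensorPow hLi (n₀ + 1)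
  -- prime avoidance
  obtain ⟨a, hax, hay⟩ : ∃ a : Γ(X, CohB1.genLocus (CohB1.tensorPow L (n₀ + 1)) σ₀),
      a ∈ (haff.primeIdealOf ⟨x, hxU⟩).asIdeal ∧
      ∀ y (hy : y ∈ A), a ∉ (haff.primeIdealOf ⟨y, hAU y hy⟩).asIdeal := by
    let f : X → Ideal Γ(X, CohB1.genLocus (CohB1.tensorPow L (n₀ + 1)) σ₀) := fun y =>
      if hy : y ∈ CohB1.genLocus (CohB1.tensorPow L (n₀ + 1)) σ₀ then
        (haff.primeIdealOf ⟨y, hy⟩).asIdeal else ⊤
    have hf : ∀ y (hy : y ∈ CohB1.genLocus (CohB1.tensorPow L (n₀ + 1)) σ₀),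
        f y = (haff.primeIdealOf ⟨y, hy⟩).asIdeal := fun y hy => dif_pos hy
    by_contra hcon
    push Not at hcon
    have hsub : ((haff.primeIdealOf ⟨x, hxU⟩).asIdeal :
          Set Γ(X, CohB1.genLocus (CohB1.tensorPow L (n₀ + 1)) σ₀)) ⊆
        ⋃ y ∈ (hA.toFinset : Set X),
          ((f y : Ideal _) : Set Γ(X, CohB1.genLocus (CohB1.tensorPow L (n₀ + 1)) σ₀)) := by
      intro a ha
      obtain ⟨y, hy, hay⟩ := hcon a ha
      refine Set.mem_biUnion (hA.mem_toFinset.2 hy) ?_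
      rw [hf y (hAU y hy)]
      exact hay
    obtain ⟨y, hys, hle⟩ := (Ideal.subset_union_prime (s := hA.toFinset) (f := f) x x
      (fun i hi _ _ => by
        have hiA := hA.mem_toFinset.1 hi
        rw [hf i (hAU i hiA)]
        exact (haff.primeIdealOf ⟨i, hAU i hiA⟩).isPrime)).1 hsub
    have hyA : y ∈ A := hA.mem_toFinset.1 hys
    rw [hf y (hAU y hyA)] at hle
    have h1 : haff.primeIdealOf ⟨x, hxU⟩ ⤳ haff.primeIdealOf ⟨y, hAU y hyA⟩ :=
      (PrimeSpectrum.le_iff_specializes _ _).1 hle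
    have h2 := h1.map haff.fromSpec.continuous
    rw [haff.fromSpec_primeIdealOf ⟨x, hxU⟩, haff.fromSpec_primeIdealOf ⟨y, hAU y hyA⟩] at h2
    have h3 : y ∈ closure ({x} : Set X) := h2.mem_closure
    rw [hcl.closure_eq] at h3
    have h4 : y = x := h3
    exact hxA (h4 ▸ hyA)
  haveI : Coh.IsQCoh (Coh.structureModule X) :=
    Groth.Agent.Lib.Helper23.Serre.isQuasicoherent_structureModule' X
  obtain ⟨n, hn, t', ht'⟩ := Groth.Agent.S15744.main X (CohB1.tensorPow L (n₀ + 1)) hL' σ₀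
    (Coh.structureModule X) (toS _ a)
  let σ : Coh.structureModule X ⟶
      CohB1.tensorMod (Coh.structureModule X) (CohB1.tensorPow (CohB1.tensorPow L (n₀ + 1)) n) :=
    SecTwist.tmulHom (𝟙 _) (SecTwist.powHom σ₀ n)
  let w : Coh.structureModule X ⟶
      CohB1.tensorMod (Coh.structureModule X) (CohB1.tensorPow (CohB1.tensorPow L (n₀ + 1)) n) :=
    secHom _ t'
  have hsvσ : ∀ W : X.Opens, sv σ W = tm (Coh.structureModule X) _ W (toS W 1)
      (pw (CohB1.tensorPow L (n₀ + 1)) W (sv σ₀ W) n) := by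
    intro W
    rw [sv_tmulHom, sv_powHom]
    rfl
  have hUσ : CohB1.genLocus (CohB1.tensorPow L (n₀ + 1)) σ₀ ≤ CohB1.genLocus _ σ := by
    apply le_genLocus_of_isGen
    rw [hsvσ]
    exact isGen_tm _ _ _ _ _ (isGen_one _)
      (isGen_pw _ _ _ (isGen_sv_genLocus (CohB1.tensorPow L (n₀ + 1)) σ₀) n)
  have hwa : sv w (CohB1.genLocus (CohB1.tensorPow L (n₀ + 1)) σ₀) =
      a • sv σ (CohB1.genLocus (CohB1.tensorPow L (n₀ + 1)) σ₀) := by
    rw [sv_secHom, ht', hsvσ, ← tm_smul_left, smul_toS, mul_one]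
    rfl
  obtain ⟨e₀⟩ := hM
  obtain ⟨i2⟩ := nonempty_tensorPow_tensorPow_iso L hLi (n₀ + 1) n ((n₀ + 1) * n) rfl
  obtain ⟨b⟩ := nonempty_tensorPow_tensorMod_iso M L hMi hLi ((n₀ + 1) * n)
  let c : CohB1.tensorPow (CohB1.tensorMod M L) ((n₀ + 1) * n) ≅ Coh.structureModule X :=
    tensorPowIso (braidMod M L ≪≫ e₀) ((n₀ + 1) * n) ≪≫
      Groth.Agent.Lib.Helper23.TensorUnit.tensorPowUnitIso ((n₀ + 1) * n)
  let ε : CohB1.tensorMod (CohB1.tensorPow M ((n₀ + 1) * n))
      (CohB1.tensorMod (Coh.structureModule X) (CohB1.tensorPow (CohB1.tensorPow L (n₀ + 1)) n)) ≅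
      Coh.structureModule X :=
    tensorModIso (Iso.refl _) ((braidMod _ _ ≪≫ SecTwist.unitorR _) ≪≫ i2) ≪≫ b ≪≫ c
  obtain ⟨h1, h2⟩ := chi_props (CohB1.tensorPow M ((n₀ + 1) * n)) _ ε σ w _ a hUσ hwa
  refine ⟨(n₀ + 1) * n, Nat.mul_pos (Nat.succ_pos n₀) hn, mulSec _ w ≫ ε.hom, X.basicOpen a,
    CohB1.genLocus (CohB1.tensorPow L (n₀ + 1)) σ₀, ?_, ?_, hxU, ?_⟩
  · intro y hy
    exact (Groth.Agent.Lib.Helper2.mem_basicOpen_iff_notMem_primeIdealOf haff y (hAU y hy) a).2
      (hay y hy)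
  · intro W hW e he
    have hWU : W ≤ CohB1.genLocus (CohB1.tensorPow L (n₀ + 1)) σ₀ := hW.trans (X.basicOpen_le a)
    rw [h2 W hWU e]
    refine IsUnit.mul ?_ (h1 W hWU e he)
    have h5 : resf hWU a = resf hW (resf (X.basicOpen_le a) a) :=
      (resf_resf (X.basicOpen_le a) hW a).symm
    rw [h5]
    exact (X.toRingedSpace.isUnit_res_basicOpen a).map _
  · intro W hWV hxW m
    rw [h2 W hWV m, map_mul]
    refine Ideal.mul_mem_right _ _ ?_
    have h6 : (X.presheaf.germ W x hxW).hom (resf hWV a) =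
        (X.presheaf.germ _ x hxU).hom a :=
      TopCat.Presheaf.germ_res_apply X.presheaf (homOfLE hWV) x hxW a
    rw [h6, IsLocalRing.mem_maximalIdeal, mem_nonunits_iff]
    intro hunit
    have h7 : x ∈ X.basicOpen a := (X.mem_basicOpen a x hxU).2 hunit
    exact (Groth.Agent.Lib.Helper2.mem_basicOpen_iff_notMem_primeIdealOf haff x hxU a).1 h7 hax

end Data

section Stalk

open scoped Pointwise

open Groth.Agent.Lib.Helper2.FlatOver Groth.Agent.Lib.Helper4.NormDelta Groth.Agent.Lib.Helper23.StalkLin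

/-- if the contraction `η : F ⊗ N ⟶ F` is a monomorphism and `χ` vanishes at `x`, then
`depth F_x ≥ depth (coker η)_x + 1` -/
theorem depth_of_depth_cokernel_eta [IsLocallyNoetherian X] (N : X.Modules)
    (hN : PicF.IsInvertible N) (χ : N ⟶ Coh.structureModule X) (F : X.Modules) (hF : Coh.IsCoh F)
    [Mono (eta N χ F)] (x : X) (V : X.Opens) (hxV : x ∈ V)
    (hχ : ∀ (W : X.Opens) (_ : W ≤ V) (hxW : x ∈ W) (m : Γ(N, W)),
      (X.presheaf.germ W x hxW).hom (ofS W (χ.app W m)) ∈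
        IsLocalRing.maximalIdeal (X.presheaf.stalk x))
    (j : ℕ)
    (hj : (j : ℕ∞) ≤
      LocCoh.depth (X.presheaf.stalk x) ((cokernel (eta N χ F)).presheaf.stalk x)) :
    ((j + 1 : ℕ) : ℕ∞) ≤ LocCoh.depth (X.presheaf.stalk x) (F.presheaf.stalk x) := by
  haveI : F.IsQuasicoherent := hF.1
  haveI : SheafOfModules.IsFiniteType (R := X.ringCatSheaf) F := hF.2
  haveI := Groth.Agent.Lib.Helper2.FibreCrit.finite_stalk F x
  have hGN : Coh.IsCoh (CohB1.tensorMod F N) :=
    Groth.Agent.Lib.R2H3.AmpleSV.isCoh_tensorMod_invertible F N hF hN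
  haveI : (CohB1.tensorMod F N).IsQuasicoherent := hGN.1
  haveI : ((twR N).obj F).IsQuasicoherent := hGN.1
  rcases subsingleton_or_nontrivial (F.presheaf.stalk x) with hsub | hnt
  · rw [Groth.Agent.Lib.Helper28.depth_eq_top_of_subsingleton]
    exact le_top
  obtain ⟨W₀, e₀, hxW₀, he₀⟩ := exists_gen N hN x
  obtain ⟨U, hUdef⟩ : ∃ U : X.Opens, U = W₀ ⊓ V := ⟨_, rfl⟩
  have hUW₀ : U ≤ W₀ := hUdef ▸ inf_le_left
  have hUV : U ≤ V := hUdef ▸ inf_le_right
  have hxU : x ∈ U := hUdef ▸ ⟨hxW₀, hxV⟩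
  obtain ⟨e, hedef⟩ : ∃ e : Γ(N, U), e = res N hUW₀ e₀ := ⟨_, rfl⟩
  have he : IsGen N U e := hedef ▸ he₀.mono hUW₀
  obtain ⟨a, hadef⟩ : ∃ a : X.presheaf.stalk x,
      a = (X.presheaf.germ U x hxU).hom (ofS U (χ.app U e)) := ⟨_, rfl⟩
  have ha : a ∈ IsLocalRing.maximalIdeal (X.presheaf.stalk x) := hadef ▸ hχ U hUV hxU e
  -- key formula
  have hkey : ∀ (W : X.Opens) (hW : W ≤ U) (hxW : x ∈ W) (g : Γ(F, W)),
      stalkLin (eta N χ F) x
        (((twR N).obj F).presheaf.germ W x hxW (tm F N W g (res N hW e))) =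
        a • F.presheaf.germ W x hxW g := by
    intro W hW hxW g
    have h1 := stalkLin_germ (eta N χ F) x W hxW (tm F N W g (res N hW e))
    rw [eta_tm, germ_smul] at h1
    refine h1.trans ?_
    congr 1
    rw [hadef, app_res]
    exact TopCat.Presheaf.germ_res_apply X.presheaf (homOfLE hW) x hxW (ofS U (χ.app U e))
  -- every germ of `F ⊗ N` is a germ of a pure tensor with `e`
  have hpure : ∀ z : ((twR N).obj F).presheaf.stalk x, ∃ (W : X.Opens) (hW : W ≤ U) (hxW : x ∈ W)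
      (g : Γ(F, W)), z = ((twR N).obj F).presheaf.germ W x hxW (tm F N W g (res N hW e)) := by
    intro z
    obtain ⟨W', hxW', t, rfl⟩ := TopCat.Presheaf.exists_germ_eq ((twR N).obj F).presheaf z
    have hW : W' ⊓ U ≤ U := inf_le_right
    have hxW : x ∈ W' ⊓ U := ⟨hxW', hxU⟩
    obtain ⟨g, hg⟩ := (bijective_tm_of_isGen F N U e he (W' ⊓ U) hW).2
      (res ((twR N).obj F) (inf_le_left : W' ⊓ U ≤ W') t)
    refine ⟨W' ⊓ U, hW, hxW, g, ?_⟩
    have hg' : tm F N (W' ⊓ U) g (res N hW e) =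
        res ((twR N).obj F) (inf_le_left : W' ⊓ U ≤ W') t := hg
    rw [hg']
    exact (TopCat.Presheaf.germ_res_apply ((twR N).obj F).presheaf
      (homOfLE (inf_le_left : W' ⊓ U ≤ W')) x hxW t).symm
  have hpureF : ∀ y : F.presheaf.stalk x, ∃ (W : X.Opens) (hW : W ≤ U) (hxW : x ∈ W)
      (g : Γ(F, W)), y = F.presheaf.germ W x hxW g := by
    intro y
    obtain ⟨W', hxW', t, rfl⟩ := TopCat.Presheaf.exists_germ_eq F.presheaf y
    exact ⟨W' ⊓ U, inf_le_right, ⟨hxW', hxU⟩, res F (inf_le_left : W' ⊓ U ≤ W') t,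
      (TopCat.Presheaf.germ_res_apply F.presheaf
        (homOfLE (inf_le_left : W' ⊓ U ≤ W')) x ⟨hxW', hxU⟩ t).symm⟩
  -- the range of `η_x` is `a F_x`
  have hrange : LinearMap.range (stalkLin (eta N χ F) x) =
      a • (⊤ : Submodule (X.presheaf.stalk x) (F.presheaf.stalk x)) := by
    ext y
    rw [Submodule.mem_smul_pointwise_iff_exists]
    constructor
    · rintro ⟨z, rfl⟩
      obtain ⟨W, hW, hxW, g, rfl⟩ := hpure z
      exact ⟨_, Submodule.mem_top, (hkey W hW hxW g).symm⟩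
    · rintro ⟨y', -, rfl⟩
      obtain ⟨W, hW, hxW, g, rfl⟩ := hpureF y'
      exact ⟨_, hkey W hW hxW g⟩
  -- `a` is `F_x`-regular
  have hreg : IsSMulRegular (F.presheaf.stalk x) a := by
    rw [isSMulRegular_iff_right_eq_zero_of_smul]
    intro y hy
    obtain ⟨W, hW, hxW, g, rfl⟩ := hpureF y
    rw [← hkey W hW hxW g] at hy
    have h0 : ((twR N).obj F).presheaf.germ W x hxW (tm F N W g (res N hW e)) = 0 := by
      apply stalkLin_injective (eta N χ F) x
      rw [hy, map_zero]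
    have h0' : ((twR N).obj F).presheaf.germ W x hxW (tm F N W g (res N hW e)) =
        ((twR N).obj F).presheaf.germ W x hxW 0 := by rw [h0, map_zero]
    obtain ⟨W'', hxW'', i₁, i₂, hW''⟩ :=
      TopCat.Presheaf.germ_eq ((twR N).obj F).presheaf x hxW hxW _ 0 h0'
    rw [map_zero] at hW''
    have hle : W'' ≤ W := i₁.le
    have h1 : tm F N W'' (res F hle g) (res N (hle.trans hW) e) = 0 := by
      have h2 : res (CohB1.tensorMod F N) hle (tm F N W g (res N hW e)) = 0 := hW''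
      rw [res_tm, res_res] at h2
      exact h2
    have h3 : res F hle g = 0 := by
      apply (bijective_tm_of_isGen F N U e he W'' (hle.trans hW)).1
      change tm F N W'' (res F hle g) (res N (hle.trans hW) e) = tm F N W'' 0 (res N (hle.trans hW) e)
      rw [h1, tm_zero_left]
    rw [← TopCat.Presheaf.germ_res_apply F.presheaf (homOfLE hle) x hxW'' g]
    change F.presheaf.germ W'' x hxW'' (res F hle g) = 0
    rw [h3, map_zero]
  -- the cokernel stalk
  have hC := Groth.Agent.Lib.R2H2.NilFilt.isCoh_cokernel hGN hF (eta N χ F)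
  let S : ShortComplex X.Modules :=
    ShortComplex.mk (eta N χ F) (cokernel.π (eta N χ F)) (cokernel.condition _)
  have hS : S.ShortExact :=
    { exact := ShortComplex.exact_cokernel _
      mono_f := inferInstanceAs (Mono (eta N χ F))
      epi_g := inferInstanceAs (Epi (cokernel.π (eta N χ F))) }
  have hex : Function.Exact (stalkLin (eta N χ F) x) (stalkLin (cokernel.π (eta N χ F)) x) :=
    stalkLin_exact S hS x
  have hsurj : Function.Surjective (stalkLin (cokernel.π (eta N χ F)) x) :=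
    stalkLin_surjective (cokernel.π (eta N χ F)) x
  have hker : a • (⊤ : Submodule (X.presheaf.stalk x) (F.presheaf.stalk x)) =
      LinearMap.ker (stalkLin (cokernel.π (eta N χ F)) x) := by
    rw [← hrange]
    exact ((LinearMap.exact_iff).1 hex).symm
  let eq : QuotSMulTop a (F.presheaf.stalk x) ≃ₗ[X.presheaf.stalk x]
      (cokernel (eta N χ F)).presheaf.stalk x :=
    (Submodule.quotEquivOfEq _ _ hker).trans
      (LinearMap.quotKerEquivOfSurjective (stalkLin (cokernel.π (eta N χ F)) x) hsurj)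
  have hIM : IsLocalRing.maximalIdeal (X.presheaf.stalk x) •
      (⊤ : Submodule (X.presheaf.stalk x) (F.presheaf.stalk x)) ≠ ⊤ :=
    Groth.Agent.Lib.Helper28.maximalIdeal_smul_top_ne_top
  have h1 := Groth.Agent.Lib.Helper28.idealDepth_quotSMulTop_add_one
    (IsLocalRing.maximalIdeal (X.presheaf.stalk x)) (F.presheaf.stalk x) hIM a ha hreg
  have h2 := Groth.Agent.Lib.Helper28.idealDepth_congr eq
    (IsLocalRing.maximalIdeal (X.presheaf.stalk x))
  change _ ≤ LocCoh.idealDepth (IsLocalRing.maximalIdeal (X.presheaf.stalk x)) (F.presheaf.stalk x)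
  rw [← h1, h2, Nat.cast_add, Nat.cast_one]
  exact add_le_add_left hj 1

end Stalk

section Main

/-- **Depth from vanishing.**  `X` proper over a field, `L` ample with inverse `M`, `F` coherent.  If
`Hⁱ(X, F ⊗ M^{⊗ m}) = 0` for all `i ≤ n` and all `m ≫ 0`, then `depth F_x ≥ n + 1` at all closed
points `x`. -/
theorem depth_of_vanishing (k : Type u) [Field k] (X : Scheme.{u}) [X.Over (Spec (CommRingCat.of k))]
    [IsProper (X ↘ (Spec (CommRingCat.of k)))]
    (L : X.Modules) (hL : CohB1.IsAmple L) (M : X.Modules) (hM : ClSub.IsInverseOf L M) :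
    ∀ (n : ℕ) (F : X.Modules), Coh.IsCoh F →
      (∃ m₀ : ℕ, ∀ m : ℕ, m₀ ≤ m → ∀ i : ℕ, i ≤ n →
        Subsingleton (Coh.HH X (CohB1.tensorMod F (CohB1.tensorPow M m)) i)) →
      ∀ x : X, IsClosed ({x} : Set X) →
        ((n + 1 : ℕ) : ℕ∞) ≤ LocCoh.depth (X.presheaf.stalk x) (F.presheaf.stalk x) := by
  have hLi := hL.1
  haveI : CompactSpace X := hL.2.1
  haveI : IsLocallyNoetherian X :=
    LocallyOfFiniteType.isLocallyNoetherian (X ↘ Spec (CommRingCat.of k))
  haveI : IsNoetherian X := {}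
  have hMi := isInvertible_of_isInverseOf L M hM
  intro n
  induction n with
  | zero =>
    rintro F hF ⟨m₀, hm₀⟩ x hcl
    haveI : F.IsQuasicoherent := hF.1
    haveI : SheafOfModules.IsFiniteType (R := X.ringCatSheaf) F := hF.2
    haveI := Groth.Agent.Lib.Helper2.FibreCrit.finite_stalk F x
    rw [Nat.zero_add, Nat.cast_one, Order.one_le_iff_ne_zero]
    intro h0
    have hass : Curv2.IsAssPoint F x := Groth.Agent.Lib.Helper28.depth_eq_zero_iff.1 h0
    have hinv := isInvertible_tensorPow hMi m₀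
    have hFr : Coh.IsCoh (CohB1.tensorMod F (CohB1.tensorPow M m₀)) :=
      Groth.Agent.Lib.R2H3.AmpleSV.isCoh_tensorMod_invertible F _ hF hinv
    haveI : (CohB1.tensorMod F (CohB1.tensorPow M m₀)).IsQuasicoherent := hFr.1
    exact not_subsingleton_H0_of_closed_assPoint _ x hcl
      ((isAssPoint_tensor_iff F _ hinv x).2 hass) (hm₀ m₀ le_rfl 0 le_rfl)
  | succ n ih =>
    rintro F hF ⟨m₀, hm₀⟩ x hcl
    haveI : F.IsQuasicoherent := hF.1
    haveI : SheafOfModules.IsFiniteType (R := X.ringCatSheaf) F := hF.2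
    have hd1 : ∀ y : X, IsClosed ({y} : Set X) →
        ((n + 1 : ℕ) : ℕ∞) ≤ LocCoh.depth (X.presheaf.stalk y) (F.presheaf.stalk y) :=
      ih F hF ⟨m₀, fun m hm i hi => hm₀ m hm i (hi.trans (Nat.le_succ n))⟩
    have hncl : ∀ y, Curv2.IsAssPoint F y → ¬ IsClosed ({y} : Set X) := by
      intro y hy hycl
      haveI := Groth.Agent.Lib.Helper2.FibreCrit.finite_stalk F y
      have h2 := hd1 y hycl
      have h0 : LocCoh.depth (X.presheaf.stalk y) (F.presheaf.stalk y) = 0 :=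
        Groth.Agent.Lib.Helper28.depth_eq_zero_iff.2 hy
      rw [h0] at h2
      exact absurd h2 (by simp)
    obtain ⟨E, hE, χ, U, V, hAU, hunit, hxV, hvan⟩ := exists_data_vanish X L hL M hM
      {y | Curv2.IsAssPoint F y} (finite_assPoints F hF) x hcl (fun hx => hncl x hx hcl)
    have hN : PicF.IsInvertible (CohB1.tensorPow M E) := isInvertible_tensorPow hMi E
    have hinj : ∀ W, Function.Injective ((eta (CohB1.tensorPow M E) χ F).app W) :=
      Groth.Agent.Lib.R2H3.PnH0Drop.eta_app_injective _ hN χ F hF U hunit (fun y hy => hAU y hy)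
    haveI : Mono (eta (CohB1.tensorPow M E) χ F) := mono_of_app_injective _ hinj
    have hGN : Coh.IsCoh (CohB1.tensorMod F (CohB1.tensorPow M E)) :=
      Groth.Agent.Lib.R2H3.AmpleSV.isCoh_tensorMod_invertible F _ hF hN
    have hC := Groth.Agent.Lib.R2H2.NilFilt.isCoh_cokernel hGN hF (eta (CohB1.tensorPow M E) χ F)
    let S : ShortComplex X.Modules := ShortComplex.mk (eta (CohB1.tensorPow M E) χ F)
      (cokernel.π _) (cokernel.condition _)
    have hS : S.ShortExact :=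
      { exact := ShortComplex.exact_cokernel _
        mono_f := inferInstanceAs (Mono (eta (CohB1.tensorPow M E) χ F))
        epi_g := inferInstanceAs (Epi (cokernel.π (eta (CohB1.tensorPow M E) χ F))) }
    have hCvan : ∀ m : ℕ, m₀ ≤ m → ∀ i : ℕ, i ≤ n → Subsingleton (Coh.HH X
        (CohB1.tensorMod (cokernel (eta (CohB1.tensorPow M E) χ F)) (CohB1.tensorPow M m)) i) := by
      intro m hm i hi
      have hinv := isInvertible_tensorPow hMi m
      have hSm := shortExact_map_twR (CohB1.tensorPow M m) hinv S hS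
      have h₂ : Subsingleton (Coh.HH X (CohB1.tensorMod F (CohB1.tensorPow M m)) i) :=
        hm₀ m hm i (hi.trans (Nat.le_succ n))
      obtain ⟨e3⟩ :=
        Groth.Agent.Lib.R2H3.AmpleSV.nonempty_tensor_tensorPow_add_iso F M E m (E + m) rfl
      have h₁ : Subsingleton (Coh.HH X (CohB1.tensorMod (CohB1.tensorMod F (CohB1.tensorPow M E))
          (CohB1.tensorPow M m)) (i + 1)) :=
        subsingleton_HH_of_iso e3.symm (i + 1)
          (hm₀ (E + m) (hm.trans (Nat.le_add_left m E)) (i + 1) (Nat.succ_le_succ hi))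
      exact subsingleton_X₃ (S.map (twR (CohB1.tensorPow M m))) hSm i h₂ h₁
    have hdC := ih _ hC ⟨m₀, hCvan⟩ x hcl
    exact depth_of_depth_cokernel_eta _ hN χ F hF x V hxV hvan (n + 1) hdC

end Main

end Groth.Agent.Lib.R2H3.DepthOfVanish
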