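import Mathlib
import Groth.Agent.Lib.Helper23ExtRDNat
import Groth.Agent.Lib.Helper21DerPost

set_option autoImplicit false
universe v v' u u' w t
open CategoryTheory CategoryTheory.Limits Opposite

namespace Groth.Agent.Lib.R2H3.DerLin

section Lin
variable {R : Type t} [Ring R] {𝒜 : Type u} [Category.{v} 𝒜] [Abelian 𝒜] [Linear R 𝒜]
  [HasInjectiveResolutions 𝒜]
  {𝒟 : Type u'} [Category.{v'} 𝒟] [Abelian 𝒟] [Linear R 𝒟] (F : 𝒜 ⥤ 𝒟) [F.Additive] [F.Linear R]

theorem homologyMap_smul {ι : Type*} {c : ComplexShape ι} {K L : HomologicalComplex 𝒟 c}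
    (a : R) (φ : K ⟶ L) (i : ι) :
    HomologicalComplex.homologyMap (a • φ) i = a • HomologicalComplex.homologyMap φ i := by
  have h : (HomologicalComplex.shortComplexFunctor 𝒟 c i).map (a • φ) =
      a • (HomologicalComplex.shortComplexFunctor 𝒟 c i).map φ := by
    ext <;> rfl
  change ShortComplex.homologyMap ((HomologicalComplex.shortComplexFunctor 𝒟 c i).map (a • φ)) = _
  rw [h, ShortComplex.homologyMap_smul]
  rfl

theorem eq_smul_id_of_comm {A B : 𝒟} (a : R) (f : A ⟶ A) (e : A ≅ B)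
    (h : f ≫ e.hom = e.hom ≫ (a • 𝟙 B)) : f = a • 𝟙 A := by
  rw [Linear.comp_smul, Category.comp_id] at h
  have h3 : f = (a • e.hom) ≫ e.inv := by
    rw [← h, Category.assoc, Iso.hom_inv_id, Category.comp_id]
  rw [h3, Linear.smul_comp, Iso.hom_inv_id]

theorem rightDerived_map_smul_id (a : R) (N : 𝒜) (n : ℕ) :
    (F.rightDerived n).map (a • 𝟙 N) = a • 𝟙 ((F.rightDerived n).obj N) := by
  let I := injectiveResolution N
  let φ : I.cocomplex ⟶ I.cocomplex := a • 𝟙 _
  have comm : I.ι.f 0 ≫ φ.f 0 = (a • 𝟙 N) ≫ I.ι.f 0 := by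
    change I.ι.f 0 ≫ (a • 𝟙 (I.cocomplex.X 0)) = _
    rw [Linear.comp_smul, Category.comp_id]
    erw [Linear.smul_comp, Category.id_comp]
    rfl
  have h := InjectiveResolution.isoRightDerivedObj_hom_naturality (a • 𝟙 N) I I φ comm F n
  have h2 : HomologicalComplex.homologyMap
      ((F.mapHomologicalComplex (ComplexShape.up ℕ)).map φ) n = a • 𝟙 _ := by
    have : (F.mapHomologicalComplex (ComplexShape.up ℕ)).map φ = a • 𝟙 _ := by
      change (F.mapHomologicalComplex (ComplexShape.up ℕ)).map (a • 𝟙 _) = _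
      rw [Functor.map_smul, CategoryTheory.Functor.map_id]
    rw [this, homologyMap_smul, HomologicalComplex.homologyMap_id]
  have h' : (F.rightDerived n).map (a • 𝟙 N) ≫ (I.isoRightDerivedObj F n).hom =
      (I.isoRightDerivedObj F n).hom ≫ (a • 𝟙 _) :=
    h.trans (congrArg (fun x => (I.isoRightDerivedObj F n).hom ≫ x) h2)
  exact eq_smul_id_of_comm a _ _ h'

end Lin
section ExtLin
open Abelian Groth.Agent.Lib.Helper21.DerPost Groth.Agent.Lib.Helper23ExtRDNat

variable {A : Type t} [CommRing A] {𝒜 : Type u} [Category.{v} 𝒜] [Abelian 𝒜] [Linear A 𝒜]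
  [HasInjectiveResolutions 𝒜] [HasExt.{v} 𝒜]
  (Φ : 𝒜 ⥤ ModuleCat.{v} A) [Φ.Additive] [Φ.Linear A] (M : 𝒜)
  (e : Φ ⋙ forget₂ (ModuleCat.{v} A) AddCommGrpCat.{v} ≅ preadditiveCoyoneda.obj (op M))

include e in
/-- if an `A`-linear functor `Φ` to `A`-modules is, after forgetting the module structure, the
functor `Hom(M, -)`, then its right derived functors are `A`-linearly `Ext^n(M, -)`. -/
theorem nonempty_linearEquiv_ext (N : 𝒜) (n : ℕ) :
    Nonempty ((Φ.rightDerived n).obj N ≃ₗ[A] Ext.{v} M N n) := by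
  let U := forget₂ (ModuleCat.{v} A) AddCommGrpCat.{v}
  let ε : Φ.rightDerived n ⋙ U ≅ (extFunctor.{v} n).obj (op M) :=
    (postIso Φ U n).symm ≪≫ natIsoRightDerived e n ≪≫ rightDerivedCoyonedaIso M n
  let φ : (Φ.rightDerived n).obj N ≃+ Ext.{v} M N n := (ε.app N).addCommGroupIsoToAddEquiv
  have hnat : ∀ (f : N ⟶ N) (x : (Φ.rightDerived n).obj N),
      φ (((Φ.rightDerived n).map f).hom x) = (φ x).comp (Ext.mk₀ f) (add_zero n) := by
    intro f x
    have := ε.hom.naturality f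
    exact congrArg (fun g => g.hom x) this
  refine ⟨{ φ with map_smul' := fun a x => ?_ }⟩
  change φ (a • x) = a • φ x
  rw [Ext.smul_eq_comp_mk₀, ← hnat, rightDerived_map_smul_id]
  rfl

end ExtLin

end Groth.Agent.Lib.R2H3.DerLin
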