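import Groth.Agent.Lib.R2H3MultActRed

/-!
# `D_{Spec R}(M) ≅ Spec R[M]` as group schemes over `Spec R` (helper3, round 2)

`toDiag : Red.DS (Spec R) M ⟶ Red.diag R M` and `ofDiag : Red.diag R M ⟶ Red.DS (Spec R) M` are
mutually inverse homomorphisms of group objects of `Over (Spec R)`.
-/

set_option autoImplicit false
set_option linter.style.haveILetI false
set_option linter.unusedVariables false
set_option linter.unusedSectionVars false

universe u

open CategoryTheory MonoidalCategory CartesianMonoidalCategory MonObj GrpObj AlgebraicGeometry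
  CategoryTheory.Limits
open Groth.Agent.Lib.Helper27.GaGm Groth.Agent.Lib.H6xDSPts Groth.Agent.Lib.R2H3.MultAct

namespace Groth.Agent.Lib.R2H3.DiagIso

variable {R : Type u} [CommRing R] {M : Type} [AddCommGroup M]

/-- the character of a point of `D_W(M)`, as a monoid hom. -/
noncomputable def dsChar {W : Scheme.{u}} {Y : Over W} (g : Y ⟶ Red.DS W M) :
    Multiplicative M →* Γ(Y.left, ⊤) where
  toFun m := dsFn g (Multiplicative.toAdd m)
  map_one' := dsFn_zero g
  map_mul' a b := dsFn_add g _ _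

lemma dsChar_apply {W : Scheme.{u}} {Y : Over W} (g : Y ⟶ Red.DS W M) (m : M) :
    dsChar g (Multiplicative.ofAdd m) = dsFn g m := rfl

/-- `z.left` with a clean target type. -/
noncomputable def ptL {T : Over (Spec (CommRingCat.of R))} (z : T ⟶ Red.diag R M) :
    T.left ⟶ Spec (CommRingCat.of (MonoidAlgebra R (Multiplicative M))) := z.left

lemma ptL_w {T : Over (Spec (CommRingCat.of R))} (z : T ⟶ Red.diag R M) :
    ptL z ≫ Spec.map (CommRingCat.ofHom (algebraMap R (MonoidAlgebra R (Multiplicative M)))) =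
      T.hom := Over.w z

lemma ptL_comp {T T' : Over (Spec (CommRingCat.of R))} (k : T' ⟶ T) (z : T ⟶ Red.diag R M) :
    ptL (k ≫ z) = k.left ≫ ptL z := rfl

lemma ptL_ext {T : Over (Spec (CommRingCat.of R))} (z z' : T ⟶ Red.diag R M)
    (h : ptL z = ptL z') : z = z' := Over.OverMorphism.ext h

lemma fn_ptL_mul {T : Over (Spec (CommRingCat.of R))} (x y : T ⟶ Red.diag R M)
    (a : MonoidAlgebra R (Multiplicative M))
    (ha : Coalgebra.comul (R := R) a = a ⊗ₜ[R] a) :
    fn (ptL (x * y)) a = fn (ptL x) a * fn (ptL y) a :=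
  fn_mul_left_of_grouplike (R := R) (A := MonoidAlgebra R (Multiplicative M)) x y a ha

/-- points of `Spec R[M]` over `Spec R` are determined by the values of the characters. -/
lemma diag_pt_ext {T : Over (Spec (CommRingCat.of R))} (z z' : T ⟶ Red.diag R M)
    (h : ∀ m : M, fn (ptL z) (MonoidAlgebra.single (Multiplicative.ofAdd m) 1) =
      fn (ptL z') (MonoidAlgebra.single (Multiplicative.ofAdd m) 1)) : z = z' := by
  apply ptL_ext
  apply fn_ext
  intro c
  rw [fn_eq, fn_eq]
  have hh : fnHom (ptL z) = fnHom (ptL z') := by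
    apply MonoidAlgebra.ringHom_ext
    · intro r
      rw [← fn_eq, ← fn_eq, ← algebraMap_eq_single, ← fn_specMap, ← fn_specMap, ptL_w, ptL_w]
    · intro m
      exact h (Multiplicative.toAdd m)
  rw [hh]

variable (R M)

/-- the ring hom `R[M] → Γ(D_{Spec R}(M))`. -/
noncomputable def toDiagHom :
    MonoidAlgebra R (Multiplicative M) →+* Γ((Red.DS (Spec (CommRingCat.of R)) M).left, ⊤) :=
  liftHom (fnHom (A := R) (Red.DS (Spec (CommRingCat.of R)) M).hom)
    (dsChar (𝟙 (Red.DS (Spec (CommRingCat.of R)) M)))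

/-- the underlying morphism of `toDiag`. -/
noncomputable def toDiagLeft :
    (Red.DS (Spec (CommRingCat.of R)) M).left ⟶
      Spec (CommRingCat.of (MonoidAlgebra R (Multiplicative M))) :=
  (fn_surj (toDiagHom R M)).choose

lemma fn_toDiagLeft (c : MonoidAlgebra R (Multiplicative M)) :
    fn (toDiagLeft R M) c = toDiagHom R M c :=
  (fn_surj (toDiagHom R M)).choose_spec c

/-- the comparison morphism `D_{Spec R}(M) ⟶ Spec R[M]`. -/
lemma toDiagLeft_w :
    toDiagLeft R M ≫
      Spec.map (CommRingCat.ofHom (algebraMap R (MonoidAlgebra R (Multiplicative M)))) =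
      (Red.DS (Spec (CommRingCat.of R)) M).hom := by
  apply fn_ext (A := R)
  intro r
  rw [fn_specMap, fn_toDiagLeft, algebraMap_eq_single]
  unfold toDiagHom
  rw [liftHom_single, map_one, _root_.mul_one]
  rfl

noncomputable def toDiag : Red.DS (Spec (CommRingCat.of R)) M ⟶ Red.diag R M :=
  Over.homMk (toDiagLeft R M) (toDiagLeft_w R M)

lemma ptL_toDiag : ptL (toDiag R M) = toDiagLeft R M := rfl

lemma fn_comp_toDiag {T : Over (Spec (CommRingCat.of R))}
    (x : T ⟶ Red.DS (Spec (CommRingCat.of R)) M) (m : M) :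
    fn (ptL (x ≫ toDiag R M))
      (MonoidAlgebra.single (Multiplicative.ofAdd m) 1) = dsFn x m := by
  rw [ptL_comp, fn_comp, ptL_toDiag, fn_toDiagLeft]
  unfold toDiagHom
  rw [liftHom_single, map_one, _root_.one_mul, dsChar_apply, ← dsFn_eq_appTop]

/-- the character of `Spec R[M]`. -/
noncomputable def diagChar' : Multiplicative M →*
    Γ(Spec (CommRingCat.of (MonoidAlgebra R (Multiplicative M))), ⊤) :=
  ((Scheme.ΓSpecIso (CommRingCat.of (MonoidAlgebra R (Multiplicative M)))).inv.hom :
    MonoidAlgebra R (Multiplicative M) →+* _).toMonoidHom.comp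
    (MonoidAlgebra.of R (Multiplicative M))

/-- the character of `Spec R[M]`. -/
noncomputable def diagChar : Multiplicative M →* Γ((Red.diag R M).left, ⊤) := diagChar' R M

lemma diagChar_apply (m : Multiplicative M) :
    diagChar R M m = (Scheme.ΓSpecIso (CommRingCat.of (MonoidAlgebra R (Multiplicative M)))).inv
      (MonoidAlgebra.single m 1) := rfl

lemma fn_id {A : Type u} [CommRing A] (a : A) :
    fn (𝟙 (Spec (CommRingCat.of A))) a = (Scheme.ΓSpecIso (CommRingCat.of A)).inv a := by
  unfold fn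
  simp

/-- the comparison morphism `Spec R[M] ⟶ D_{Spec R}(M)`. -/
noncomputable def ofDiag : Red.diag R M ⟶ Red.DS (Spec (CommRingCat.of R)) M :=
  (dsFn_surj (S := Spec (CommRingCat.of R)) (X := Red.diag R M) (diagChar R M)).choose

lemma dsFn_ofDiag (m : M) :
    dsFn (ofDiag R M) m =
      (Scheme.ΓSpecIso (CommRingCat.of (MonoidAlgebra R (Multiplicative M)))).inv
        (MonoidAlgebra.single (Multiplicative.ofAdd m) 1) :=
  (dsFn_surj (S := Spec (CommRingCat.of R)) (X := Red.diag R M) (diagChar R M)).choose_spec m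

lemma ofDiag_toDiag : ofDiag R M ≫ toDiag R M = 𝟙 _ := by
  apply diag_pt_ext
  intro m
  rw [fn_comp_toDiag, dsFn_ofDiag]
  have h1 : ptL (𝟙 (Red.diag R M)) =
      𝟙 (Spec (CommRingCat.of (MonoidAlgebra R (Multiplicative M)))) := rfl
  rw [h1]
  exact (fn_id _).symm

lemma toDiag_ofDiag : toDiag R M ≫ ofDiag R M = 𝟙 _ := by
  apply dsFn_ext
  intro m
  rw [dsFn_comp, dsFn_ofDiag]
  have h := fn_comp_toDiag R M (𝟙 _) m
  rw [Category.id_comp] at h
  exact h

lemma isUnit_fn_single {T : Scheme.{u}}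
    (z : T ⟶ Spec (CommRingCat.of (MonoidAlgebra R (Multiplicative M)))) (m : M) :
    IsUnit (fn z (MonoidAlgebra.single (Multiplicative.ofAdd m) (1 : R))) := by
  rw [fn_eq]
  apply IsUnit.map
  refine IsUnit.of_mul_eq_one (MonoidAlgebra.single (Multiplicative.ofAdd (-m)) (1 : R)) ?_
  rw [MonoidAlgebra.single_mul_single, _root_.mul_one, ← ofAdd_add, add_neg_cancel, ofAdd_zero]
  rfl

lemma comul_single (m : M) :
    Coalgebra.comul (R := R) (MonoidAlgebra.single (Multiplicative.ofAdd m) (1 : R)) =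
      (MonoidAlgebra.single (Multiplicative.ofAdd m) (1 : R)) ⊗ₜ[R]
        (MonoidAlgebra.single (Multiplicative.ofAdd m) (1 : R)) := by
  simp

lemma fn_one_left {T : Over (Spec (CommRingCat.of R))} (m : M) :
    fn (ptL (1 : T ⟶ Red.diag R M))
      (MonoidAlgebra.single (Multiplicative.ofAdd m) 1) = 1 := by
  have h := fn_ptL_mul (1 : T ⟶ Red.diag R M) 1 _ (comul_single R M m)
  have h11 : (1 : T ⟶ Red.diag R M) * 1 = 1 := _root_.mul_one _
  rw [h11] at h
  exact (isUnit_fn_single R M _ m).mul_left_cancel (by rw [← h, _root_.mul_one])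

instance isMonHom_toDiag : IsMonHom (toDiag R M) := by
  apply isMonHom_of_pts
  · apply diag_pt_ext
    intro m
    rw [fn_comp_toDiag, dsFn_one, fn_one_left]
  · intro T x y
    apply diag_pt_ext
    intro m
    rw [fn_comp_toDiag, dsFn_mul, fn_ptL_mul _ _ _ (comul_single R M m), fn_comp_toDiag,
      fn_comp_toDiag]

end Groth.Agent.Lib.R2H3.DiagIso
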