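import Mathlib
import Groth.Prelude.Def_DiffOp
import Groth.Agent.Lib.Helper4DiffOp

/-!
# Differential operators (commutator sense) and powers of the diagonal ideal (helper3, round 2)

For an `A`-linear `D : M → N` between `B`-modules, `epsT D : B ⊗[A] B →+ M →+ N` is the biadditive map
`b ⊗ c ↦ (m ↦ b • D (c • m))`.  If `D` is a differential operator of order `≤ k` (iterated commutators),
then `epsT D` vanishes on the `(k+1)`-st power of the kernel of the multiplication `B ⊗[A] B → B`
(`epsT_eq_zero_of_mem_pow`).
-/

set_option autoImplicit false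
set_option linter.unusedSectionVars false
universe u v

open TensorProduct Diff16

namespace Groth.Agent.Lib.R2H3.DiffAlg

variable {A B : Type u} [CommRing A] [CommRing B] [Algebra A B]
variable {M N : Type v} [AddCommGroup M] [Module A M] [Module B M] [IsScalarTower A B M]
  [AddCommGroup N] [Module A N] [Module B N] [IsScalarTower A B N]

/-- `(b, c) ↦ (m ↦ b • D (c • m))` -/
noncomputable def epsBi (D : M →ₗ[A] N) : B →+ B →+ M →+ N :=
  AddMonoidHom.mk' (fun b => AddMonoidHom.mk' (fun c => AddMonoidHom.mk' (fun m => b • D (c • m))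
      (fun m m' => by rw [smul_add, map_add, smul_add]))
      (fun c c' => by
        ext m
        change b • D ((c + c') • m) = b • D (c • m) + b • D (c' • m)
        rw [add_smul, map_add, smul_add]))
    (fun b b' => by
      ext c m
      change (b + b') • D (c • m) = b • D (c • m) + b' • D (c • m)
      rw [add_smul])

theorem epsBi_apply (D : M →ₗ[A] N) (b c : B) (m : M) : epsBi D b c m = b • D (c • m) := rfl

/-- `b ⊗ c ↦ (m ↦ b • D (c • m))` -/
noncomputable def epsT (D : M →ₗ[A] N) : B ⊗[A] B →+ M →+ N :=
  TensorProduct.liftAddHom (epsBi D) (fun a b c => by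
    ext m
    rw [epsBi_apply, epsBi_apply, smul_assoc a c m, LinearMap.map_smul, smul_comm b a,
      smul_assoc a b])

theorem epsT_tmul (D : M →ₗ[A] N) (b c : B) (m : M) : epsT D (b ⊗ₜ[A] c) m = b • D (c • m) := rfl

theorem epsT_left_mul (D : M →ₗ[A] N) (b : B) (τ : B ⊗[A] B) (m : M) :
    epsT D ((b ⊗ₜ[A] (1 : B)) * τ) m = b • epsT D τ m := by
  induction τ using TensorProduct.induction_on with
  | zero => rw [mul_zero, map_zero, AddMonoidHom.zero_apply, smul_zero]
  | tmul b' c =>
    rw [Algebra.TensorProduct.tmul_mul_tmul, one_mul, epsT_tmul, epsT_tmul, mul_smul]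
  | add x y hx hy =>
    rw [mul_add, map_add, map_add, AddMonoidHom.add_apply, AddMonoidHom.add_apply, hx, hy, smul_add]

theorem epsT_mul_right (D : M →ₗ[A] N) (c : B) (τ : B ⊗[A] B) (m : M) :
    epsT D (τ * ((1 : B) ⊗ₜ[A] c)) m = epsT D τ (c • m) := by
  induction τ using TensorProduct.induction_on with
  | zero => rw [zero_mul, map_zero, AddMonoidHom.zero_apply, AddMonoidHom.zero_apply]
  | tmul b' c' =>
    rw [Algebra.TensorProduct.tmul_mul_tmul, mul_one, epsT_tmul, epsT_tmul, mul_smul]
  | add x y hx hy =>
    rw [add_mul, map_add, map_add, AddMonoidHom.add_apply, AddMonoidHom.add_apply, hx, hy]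

theorem epsT_one (D : M →ₗ[A] N) (m : M) : epsT D (1 : B ⊗[A] B) m = D m := by
  rw [Algebra.TensorProduct.one_def, epsT_tmul, one_smul, one_smul]

theorem epsT_comm_mul (D : M →ₗ[A] N) (b : B) (τ : B ⊗[A] B) (m : M) :
    epsT D (((1 : B) ⊗ₜ[A] b - b ⊗ₜ[A] (1 : B)) * τ) m = epsT (commutator A B M N D b) τ m := by
  induction τ using TensorProduct.induction_on with
  | zero => rw [mul_zero, map_zero, map_zero]
  | tmul b' c =>
    rw [sub_mul, Algebra.TensorProduct.tmul_mul_tmul, Algebra.TensorProduct.tmul_mul_tmul, one_mul,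
      one_mul, map_sub, AddMonoidHom.sub_apply, epsT_tmul, epsT_tmul, epsT_tmul,
      Groth.Agent.Lib.Helper4.commutator_apply, smul_sub, mul_smul, mul_smul, smul_comm b' b]
  | add x y hx hy =>
    rw [mul_add, map_add, map_add, AddMonoidHom.add_apply, AddMonoidHom.add_apply, hx, hy]

theorem epsT_of_isDiffOpLE_zero (D : M →ₗ[A] N) (hD : IsDiffOpLE A B M N 0 D) (τ : B ⊗[A] B)
    (m : M) : epsT D τ m = (Algebra.TensorProduct.lmul' A (S := B) τ) • D m := by
  induction τ using TensorProduct.induction_on with
  | zero => rw [map_zero, map_zero, AddMonoidHom.zero_apply, zero_smul]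
  | tmul b c =>
    rw [epsT_tmul, Algebra.TensorProduct.lmul'_apply_tmul, hD c m, mul_smul]
  | add x y hx hy =>
    rw [map_add, map_add, AddMonoidHom.add_apply, hx, hy, add_smul]

/-- a differential operator of order `≤ k` kills the `(k+1)`-st power of the diagonal ideal -/
theorem epsT_eq_zero_of_mem_pow (k : ℕ) : ∀ (D : M →ₗ[A] N), IsDiffOpLE A B M N k D →
    ∀ τ ∈ KaehlerDifferential.ideal A B ^ (k + 1), epsT D τ = 0 := by
  induction k with
  | zero =>
    intro D hD τ hτ
    ext m
    rw [zero_add, pow_one] at hτ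
    rw [epsT_of_isDiffOpLE_zero D hD]
    have h0 : Algebra.TensorProduct.lmul' A (S := B) τ = 0 := hτ
    rw [h0, zero_smul, AddMonoidHom.zero_apply]
  | succ k ih =>
    intro D hD τ hτ
    rw [pow_succ'] at hτ
    refine Submodule.mul_induction_on hτ ?_ ?_
    · intro x hx y hy
      rw [← KaehlerDifferential.span_range_eq_ideal] at hx
      revert y
      induction hx using Submodule.span_induction with
      | mem x hx =>
        obtain ⟨b, rfl⟩ := hx
        intro y hy
        ext m
        rw [epsT_comm_mul, ih _ (hD b) y hy]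
      | zero =>
        intro y hy
        rw [zero_mul, map_zero]
      | add x x' _ _ hx hx' =>
        intro y hy
        rw [add_mul, map_add, hx y hy, hx' y hy, add_zero]
      | smul t x _ hx =>
        intro y hy
        have e : t • x * y = x * (t * y) := by rw [smul_eq_mul]; ring
        rw [e]
        exact hx _ (Ideal.mul_mem_left _ t hy)
    · intro x y hx hy
      rw [map_add, hx, hy, add_zero]

end Groth.Agent.Lib.R2H3.DiffAlg
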