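import Mathlib
import Groth.Prelude.Def_OmegaPn
import Groth.Prelude.Def_DiffOp
import Groth.Agent.Lib.R2H3DiffAlg
import Groth.Agent.Lib.R2H3DeltaGeo
import Groth.Agent.Lib.Helper18OmLS13

/-!
# Commutator-sense differential operators factor through principal parts on a chart (helper3, round 2)

* `exists_u0`: over a good affine chart `U ⊆ X` over `T ⊆ S`, for quasi-coherent `F`, a differential operator
  `D' : Γ(F,U) → Γ(G,U)` of order `≤ k` (commutator sense, relative to `Γ(S,T) → Γ(X,U)`) factors as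
  `u₀ ∘ d^k` with `u₀ : Γ(P^k(F), U) → Γ(G, U)` linear over `Γ(X,U)`.
-/

set_option autoImplicit false
set_option linter.style.haveILetI false
set_option linter.unusedSectionVars false
universe u
open CategoryTheory CategoryTheory.Limits AlgebraicGeometry TopologicalSpace Opposite
open Nrm16 TensorProduct

namespace Groth.Agent.Lib.R2H3.DiffGeo

open Groth.Agent.Lib.R2H3 Groth.Agent.Lib.R2H3.PnChart Groth.Agent.Lib.R2H3.PnKer
open Groth.Agent.Lib.R2H3.PnBCGeo Groth.Agent.Lib.R2H3.DiffAlg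
open Groth.Agent.Helper18OmLS Groth.Agent.Helper13PullbackUnit

section

variable {X S : Scheme.{u}} (f : X ⟶ S) {U : X.Opens} {T : S.Opens} (hU : IsAffineOpen U)
  (hT : IsAffineOpen T) (hUT : U ≤ f ⁻¹ᵁ T)

include hU hT hUT in
theorem isAffineOpen_pr1_preimage (n : ℕ) : IsAffineOpen (PrinPart.pr1 f n ⁻¹ᵁ U) := by
  rw [pr1_preimage_eq]
  have hle : W0 f U ≤ (pullback.diagonal f).coborderRange := W0_le_coborderRange f hU hT hUT
  have hle' : W0 f U ≤ (pullback.diagonal f).coborderRange.ι.opensRange := by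
    rw [Scheme.Opens.opensRange_ι]; exact hle
  have hV : IsAffineOpen ((pullback.diagonal f).coborderRange.ι ⁻¹ᵁ W0 f U) :=
    (isAffineOpen_W0 f hU hT hUT).preimage_of_isOpenImmersion _ hle'
  exact hV.preimage (PrinPart.infNbhdι (PrinPart.diagCl f) n)

variable (F G : X.Modules) [F.IsQuasicoherent] (k : ℕ)
  [Algebra Γ(S, T) Γ(X, U)] (halg : algebraMap Γ(S, T) Γ(X, U) = (f.appLE T U hUT).hom)
  [Module Γ(S, T) Γ(F, U)] [IsScalarTower Γ(S, T) Γ(X, U) Γ(F, U)]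
  [Module Γ(S, T) Γ(G, U)] [IsScalarTower Γ(S, T) Γ(X, U) Γ(G, U)]

include hU hT hUT halg in
theorem exists_u0 (D' : Γ(F, U) →ₗ[Γ(S, T)] Γ(G, U))
    (hD' : Diff16.IsDiffOpLE Γ(S, T) Γ(X, U) Γ(F, U) Γ(G, U) k D') :
    ∃ u₀ : Γ(PrinPart.PMod f k F, U) →+ Γ(G, U),
      (∀ (b : Γ(X, U)) (y : Γ(PrinPart.PMod f k F, U)), u₀ (b • y) = b • u₀ y) ∧
      ∀ m : Γ(F, U), u₀ (PrinPart.dP f k F U m) = D' m := by
  -- the ring map `ρ : R → B ⊗[A] B`
  let iL : Γ(X, U) →+* Γ(X, U) ⊗[Γ(S, T)] Γ(X, U) := Algebra.TensorProduct.includeLeftRingHom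
  let iR : Γ(X, U) →+* Γ(X, U) ⊗[Γ(S, T)] Γ(X, U) :=
    (Algebra.TensorProduct.includeRight : Γ(X, U) →ₐ[Γ(S, T)] Γ(X, U) ⊗[Γ(S, T)] Γ(X, U)).toRingHom
  obtain ⟨ρ, ⟨hρ1, hρ2⟩, -⟩ := PO_ring f hUT hU hT (Γ(X, U) ⊗[Γ(S, T)] Γ(X, U)) iL iR (by
    ext α
    rw [← halg]
    change (algebraMap Γ(S, T) Γ(X, U) α) ⊗ₜ[Γ(S, T)] (1 : Γ(X, U)) =
      (1 : Γ(X, U)) ⊗ₜ[Γ(S, T)] (algebraMap Γ(S, T) Γ(X, U) α)
    rw [Algebra.algebraMap_eq_smul_one, TensorProduct.smul_tmul])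
  have hρ₁ : ∀ b, ρ (pp₁ f U b) = b ⊗ₜ[Γ(S, T)] (1 : Γ(X, U)) := fun b => congr($hρ1 b)
  have hρ₂ : ∀ c, ρ (pp₂ f U c) = (1 : Γ(X, U)) ⊗ₜ[Γ(S, T)] c := fun c => congr($hρ2 c)
  have hmul : ∀ r, Algebra.TensorProduct.lmul' Γ(S, T) (S := Γ(X, U)) (ρ r) = mm f U r := by
    intro r
    induction closure_pp f hU hT hUT r using AddSubmonoid.closure_induction with
    | mem x hx =>
      obtain ⟨y, z, rfl⟩ := hx
      rw [map_mul, map_mul, hρ₁, hρ₂, Algebra.TensorProduct.lmul'_apply_tmul,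
        Algebra.TensorProduct.lmul'_apply_tmul, map_mul, mm_pp₁, mm_pp₂, mul_one, one_mul]
    | zero => rw [map_zero, map_zero, map_zero]
    | add x y _ _ hx hy => rw [map_add, map_add, map_add, hx, hy]
  have hρI : ∀ r ∈ RingHom.ker (mm f U) ^ (k + 1),
      ρ r ∈ KaehlerDifferential.ideal Γ(S, T) Γ(X, U) ^ (k + 1) := by
    intro r hr
    have h1 : (RingHom.ker (mm f U)).map ρ ≤ KaehlerDifferential.ideal Γ(S, T) Γ(X, U) := by
      rw [Ideal.map_le_iff_le_comap]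
      intro x hx
      rw [Ideal.mem_comap]
      change Algebra.TensorProduct.lmul' Γ(S, T) (S := Γ(X, U)) (ρ x) = 0
      rw [hmul]
      exact hx
    have h2 : ρ r ∈ ((RingHom.ker (mm f U)).map ρ) ^ (k + 1) := by
      rw [← Ideal.map_pow]
      exact Ideal.mem_map_of_mem _ hr
    exact Ideal.pow_right_mono h1 (k + 1) h2
  -- `ε : R → (M → N)`
  let ε : Γ(pullback f f, W0 f U) →+ Γ(F, U) →+ Γ(G, U) := (epsT D').comp ρ.toAddMonoidHom
  have hε : ∀ r, ε r = epsT D' (ρ r) := fun r => rfl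
  have hεzero : ∀ r, (nu f k U).toAddMonoidHom r = 0 → ε r = 0 := by
    intro r hr
    have hr' : r ∈ RingHom.ker (nu f k U) := hr
    rw [ker_nu f hU hT hUT k] at hr'
    rw [hε]
    exact epsT_eq_zero_of_mem_pow k D' hD' _ (hρI r hr')
  obtain ⟨β, hβ⟩ := DeltaGeo.exists_factor (nu f k U).toAddMonoidHom
    (nbhdι_appLE_surjective f hU hT hUT k) ε hεzero
  have hβ' : ∀ r, β (nu f k U r) = epsT D' (ρ r) := hβ
  letI algNk : Algebra Γ(X, U) Γ(PrinPart.nbhd f k, PrinPart.pr1 f k ⁻¹ᵁ U) :=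
    ((PrinPart.pr2 f k).appLE U (PrinPart.pr1 f k ⁻¹ᵁ U)
      (PrinPart.preimage_pr1 f k U).le).hom.toAlgebra
  have hsurj := nbhdι_appLE_surjective f hU hT hUT k
  have hbal : ∀ (b : Γ(X, U)) (ν : Γ(PrinPart.nbhd f k, PrinPart.pr1 f k ⁻¹ᵁ U)) (m : Γ(F, U)),
      β (b • ν) m = β ν (b • m) := by
    intro b ν m
    obtain ⟨r, rfl⟩ := hsurj ν
    have e1 : b • (nu f k U r) = nu f k U (r * pp₂ f U b) := by
      rw [Algebra.smul_def, map_mul, nu_pp₂, mul_comm]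
      rfl
    change β (b • (nu f k U r)) m = β (nu f k U r) (b • m)
    rw [e1, hβ', hβ', map_mul, hρ₂, epsT_mul_right]
  let Ψ := TensorProduct.liftAddHom β (fun b ν m => hbal b ν m)
  have hΨ : ∀ ν m, Ψ (ν ⊗ₜ m) = β ν m := fun ν m => rfl
  obtain ⟨e, he⟩ := exists_pullback_equiv (PrinPart.pr2 f k) F (PrinPart.preimage_pr1 f k U).le hU
    (isAffineOpen_pr1_preimage f hU hT hUT k) rfl
  have hΨsmul : ∀ (b : Γ(X, U))
      (τ : Γ(PrinPart.nbhd f k, PrinPart.pr1 f k ⁻¹ᵁ U) ⊗[Γ(X, U)] Γ(F, U)),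
      Ψ ((PrinPart.pr1 f k).app U b • τ) = b • Ψ τ := by
    intro b τ
    induction τ using TensorProduct.induction_on with
    | zero => rw [smul_zero, map_zero, smul_zero]
    | tmul ν m =>
      obtain ⟨r, rfl⟩ := hsurj ν
      change Ψ ((PrinPart.pr1 f k).app U b • ((nu f k U r) ⊗ₜ[Γ(X, U)] m)) =
        b • Ψ ((nu f k U r) ⊗ₜ[Γ(X, U)] m)
      rw [TensorProduct.smul_tmul', smul_eq_mul, ← nu_pp₁, ← map_mul, hΨ, hΨ, hβ', hβ', map_mul,
        hρ₁, epsT_left_mul]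
    | add x y hx hy => rw [smul_add, map_add, map_add, hx, hy, smul_add]
  refine ⟨Ψ.comp e.symm.toLinearMap.toAddMonoidHom, ?_, ?_⟩
  · intro b y
    change Ψ (e.symm ((PrinPart.pr1 f k).app U b •
      (show Γ((Scheme.Modules.pullback (PrinPart.pr2 f k)).obj F, PrinPart.pr1 f k ⁻¹ᵁ U) from y))) =
      b • Ψ (e.symm y)
    rw [map_smul, hΨsmul]
  · intro m
    change Ψ (e.symm (unitSec (PrinPart.pr2 f k) F (PrinPart.preimage_pr1 f k U).le m)) = D' m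
    have h1 : unitSec (PrinPart.pr2 f k) F (PrinPart.preimage_pr1 f k U).le m =
        e ((1 : Γ(PrinPart.nbhd f k, PrinPart.pr1 f k ⁻¹ᵁ U)) ⊗ₜ m) := by
      rw [he, one_smul]
    rw [h1, LinearEquiv.symm_apply_apply, hΨ, ← map_one (nu f k U), hβ', map_one, epsT_one]

end

end Groth.Agent.Lib.R2H3.DiffGeo
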