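import Mathlib

/-!
# Quasi-compact opens are locally principal near points of dimension at most one (helper3, round 2)

Ring level: for a Noetherian local ring `R` of Krull dimension `≤ 1`, every proper ideal has the
radical of a principal ideal.  Consequence for `A → R = A_p`: a finitely generated ideal of `A`
becomes, after inverting one `t ∉ p`, radically principal.
-/

set_option autoImplicit false
set_option linter.style.haveILetI false
set_option linter.unusedSectionVars false
universe u

namespace Groth.Agent.Lib.R2H3.DimOneOpen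

section Local

variable {R : Type*} [CommRing R] [IsLocalRing R] [IsNoetherianRing R]

/-- in a local ring of dimension `≤ 1` the non-maximal primes are minimal -/
lemma mem_minimalPrimes_of_ne_maximalIdeal (hdim : ringKrullDim R ≤ 1) (P : Ideal R) [P.IsPrime]
    (hP : P ≠ IsLocalRing.maximalIdeal R) : P ∈ minimalPrimes R := by
  rw [← Ideal.height_eq_zero_iff]
  have hlt : P < IsLocalRing.maximalIdeal R :=
    lt_of_le_of_ne (IsLocalRing.le_maximalIdeal Ideal.IsPrime.ne_top') hP
  have h1 : P.height < (IsLocalRing.maximalIdeal R).height :=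
    Ideal.height_strict_mono_of_isPrime_of_isPrime hlt
  have h2 : ((IsLocalRing.maximalIdeal R).height : WithBot ℕ∞) ≤ 1 :=
    (Ideal.height_le_ringKrullDim_of_isPrime).trans hdim
  have h3 : (IsLocalRing.maximalIdeal R).height ≤ 1 := by exact_mod_cast h2
  have h4 : P.height < 1 := lt_of_lt_of_le h1 h3
  exact Order.lt_one_iff.mp h4

/-- every proper ideal of a Noetherian local ring of dimension `≤ 1` is radically principal -/
theorem exists_radical_span_singleton_eq (hdim : ringKrullDim R ≤ 1) (J : Ideal R) (hJ : J ≠ ⊤) :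
    ∃ g : R, (Ideal.span {g}).radical = J.radical := by
  classical
  set m := IsLocalRing.maximalIdeal R with hm
  have hfin : (minimalPrimes R).Finite := minimalPrimes.finite_of_isNoetherianRing R
  set Q : Finset (Ideal R) := hfin.toFinset with hQ
  set Q₁ : Finset (Ideal R) := Q.filter (fun q => J ≤ q) with hQ₁
  set Q₂ : Finset (Ideal R) := Q.filter (fun q => ¬ J ≤ q) with hQ₂
  set K : Ideal R := m ⊓ Q₁.inf id with hK
  have hJm : J ≤ m := IsLocalRing.le_maximalIdeal hJ
  have hprimeQ : ∀ q ∈ Q, q.IsPrime := fun q hq => (hfin.mem_toFinset.mp hq).1.1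
  have hnot : ¬ ((K : Set R) ⊆ ⋃ q ∈ (↑Q₂ : Set (Ideal R)), (id q : Ideal R)) := by
    intro hsub
    rw [Ideal.subset_union_prime (f := id) m m
      (fun q hq _ _ => hprimeQ q (Finset.mem_filter.mp hq).1)] at hsub
    obtain ⟨q, hq, hKq⟩ := hsub
    have hqQ : q ∈ Q := (Finset.mem_filter.mp hq).1
    have hqJ : ¬ J ≤ q := (Finset.mem_filter.mp hq).2
    haveI : q.IsPrime := hprimeQ q hqQ
    rcases (Ideal.IsPrime.inf_le ‹q.IsPrime›).mp hKq with h | h
    · -- m ≤ q
      exact hqJ (hJm.trans h)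
    · obtain ⟨q', hq', hq'q⟩ := (Ideal.IsPrime.inf_le' ‹q.IsPrime›).mp h
      have hq'Q : q' ∈ Q := (Finset.mem_filter.mp hq').1
      have hq'J : J ≤ q' := (Finset.mem_filter.mp hq').2
      exact hqJ (hq'J.trans hq'q)
  rw [Set.not_subset] at hnot
  obtain ⟨g, hgK, hgQ₂⟩ := hnot
  have hgm : g ∈ m := (inf_le_left : K ≤ m) hgK
  have hgQ₁ : ∀ q ∈ Q₁, g ∈ q := fun q hq =>
    (Finset.inf_le hq : Q₁.inf id ≤ id q) ((inf_le_right : K ≤ Q₁.inf id) hgK)
  have hgQ₂' : ∀ q ∈ Q₂, g ∉ q := by
    intro q hq hgq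
    exact hgQ₂ (Set.mem_biUnion (Finset.mem_coe.mpr hq) hgq)
  -- key: for every prime `P`: `g ∈ P ↔ J ≤ P`
  have key : ∀ P : Ideal R, P.IsPrime → (g ∈ P ↔ J ≤ P) := by
    intro P hP
    by_cases hPm : P = m
    · subst hPm
      exact ⟨fun _ => hJm, fun _ => hgm⟩
    · have hPmin : P ∈ minimalPrimes R := mem_minimalPrimes_of_ne_maximalIdeal hdim P hPm
      have hPQ : P ∈ Q := hfin.mem_toFinset.mpr hPmin
      constructor
      · intro hg
        by_contra hJP
        exact hgQ₂' P (Finset.mem_filter.mpr ⟨hPQ, hJP⟩) hg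
      · intro hJP
        exact hgQ₁ P (Finset.mem_filter.mpr ⟨hPQ, hJP⟩)
  refine ⟨g, ?_⟩
  rw [Ideal.radical_eq_sInf, Ideal.radical_eq_sInf]
  congr 1
  ext P
  simp only [Set.mem_ofPred_eq, Ideal.span_singleton_le_iff_mem]
  constructor
  · rintro ⟨h1, h2⟩
    exact ⟨(key P h2).mp h1, h2⟩
  · rintro ⟨h1, h2⟩
    exact ⟨(key P h2).mpr h1, h2⟩

end Local

section Loc

variable {A : Type*} [CommRing A] (p : Ideal A) [p.IsPrime] (R : Type*) [CommRing R] [Algebra A R]
  [IsLocalization.AtPrime R p]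

/-- membership in an extended ideal of a localization at a prime -/
lemma exists_mul_mem_of_mem_map (I : Ideal A) (x : A)
    (hx : algebraMap A R x ∈ I.map (algebraMap A R)) : ∃ t : A, t ∉ p ∧ t * x ∈ I := by
  rw [IsLocalization.mem_map_algebraMap_iff p.primeCompl] at hx
  obtain ⟨⟨y, s⟩, h⟩ := hx
  rw [← map_mul, IsLocalization.eq_iff_exists p.primeCompl] at h
  obtain ⟨c, hc⟩ := h
  refine ⟨c * s, p.primeCompl.mul_mem c.2 s.2, ?_⟩
  have : (c : A) * (s : A) * x = c * (x * s) := by ring
  rw [this, hc]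
  exact I.mul_mem_left _ y.2

/-- **Main ring-level statement.**  If `A_p` is Noetherian of dimension `≤ 1` and `s` is a finite
subset of `A`, then there are `t ∉ p`, `a ∈ A` and `N ≥ 1` such that `t f^N ∈ (a)` for all `f ∈ s`
and `t a^N ∈ (s)`. -/
theorem exists_principal [IsNoetherianRing R] (hdim : ringKrullDim R ≤ 1) (s : Finset A) :
    ∃ (t a : A) (N : ℕ), t ∉ p ∧ 0 < N ∧ (∀ f ∈ s, t * f ^ N ∈ Ideal.span {a}) ∧
      t * a ^ N ∈ Ideal.span (s : Set A) := by
  classical
  haveI : IsLocalRing R := IsLocalization.AtPrime.isLocalRing R p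
  set I : Ideal A := Ideal.span (s : Set A) with hI
  by_cases hIp : I ≤ p
  · -- the extended ideal is proper
    have hJ : I.map (algebraMap A R) ≠ ⊤ := by
      intro htop
      have h1 : algebraMap A R 1 ∈ I.map (algebraMap A R) := by rw [htop]; trivial
      obtain ⟨t, ht, htI⟩ := exists_mul_mem_of_mem_map p R I 1 h1
      rw [mul_one] at htI
      exact ht (hIp htI)
    obtain ⟨g, hg⟩ := exists_radical_span_singleton_eq hdim (I.map (algebraMap A R)) hJ
    -- write `g = a / u`
    obtain ⟨a, u, hau⟩ := IsLocalization.exists_mk'_eq p.primeCompl g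
    have hunit : IsUnit (algebraMap A R (u : A)) := IsLocalization.map_units R u
    have hspan : Ideal.span {g} = Ideal.span {algebraMap A R a} := by
      have h1 : g * algebraMap A R (u : A) = algebraMap A R a := by
        rw [← hau, IsLocalization.mk'_spec]
      rw [← h1]
      exact (Ideal.span_singleton_mul_right_unit hunit g).symm
    rw [hspan] at hg
    -- each `f ∈ s` is in the radical of `(a)`
    have hf : ∀ f ∈ s, ∃ (n : ℕ) (t : A), t ∉ p ∧ t * f ^ n ∈ Ideal.span {a} := by
      intro f hfs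
      have h1 : algebraMap A R f ∈ (I.map (algebraMap A R)).radical :=
        Ideal.le_radical (Ideal.mem_map_of_mem _ (Ideal.subset_span hfs))
      rw [← hg] at h1
      obtain ⟨n, hn⟩ := h1
      have h2 : algebraMap A R (f ^ n) ∈ (Ideal.span {a}).map (algebraMap A R) := by
        rw [Ideal.map_span, Set.image_singleton, map_pow]
        exact hn
      obtain ⟨t, ht, htm⟩ := exists_mul_mem_of_mem_map p R _ _ h2
      exact ⟨n, t, ht, htm⟩
    choose! n t htp htm using hf
    -- `a` is in the radical of `I`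
    have ha : ∃ (n₀ : ℕ) (t₀ : A), t₀ ∉ p ∧ t₀ * a ^ n₀ ∈ I := by
      have h1 : algebraMap A R a ∈ (Ideal.span {algebraMap A R a}).radical :=
        Ideal.le_radical (Ideal.mem_span_singleton_self _)
      rw [hg] at h1
      obtain ⟨n₀, hn₀⟩ := h1
      rw [← map_pow] at hn₀
      obtain ⟨t₀, ht₀, htm₀⟩ := exists_mul_mem_of_mem_map p R _ _ hn₀
      exact ⟨n₀, t₀, ht₀, htm₀⟩
    obtain ⟨n₀, t₀, ht₀, htm₀⟩ := ha
    set N := (s.sup n) + n₀ + 1 with hN
    set T := t₀ * ∏ f ∈ s, t f with hT
    refine ⟨T, a, N, ?_, by omega, ?_, ?_⟩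
    · intro hTp
      rcases (Ideal.IsPrime.mem_or_mem ‹p.IsPrime› hTp) with h | h
      · exact ht₀ h
      · obtain ⟨f, hfs, hf⟩ := (Ideal.IsPrime.prod_mem_iff).mp h
        exact htp f hfs hf
    · intro f hfs
      have hle : n f ≤ N := by
        have := Finset.le_sup (f := n) hfs
        omega
      obtain ⟨k, hk⟩ := Nat.exists_eq_add_of_le hle
      have hprod : ∏ f' ∈ s, t f' = t f * ∏ f' ∈ s.erase f, t f' :=
        (Finset.mul_prod_erase s t hfs).symm
      have : T * f ^ N = (t₀ * (∏ f' ∈ s.erase f, t f') * f ^ k) * (t f * f ^ n f) := by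
        rw [hT, hprod, hk, pow_add]; ring
      rw [this]
      exact Ideal.mul_mem_left _ _ (htm f hfs)
    · have hle : n₀ ≤ N := by omega
      obtain ⟨k, hk⟩ := Nat.exists_eq_add_of_le hle
      have : T * a ^ N = ((∏ f ∈ s, t f) * a ^ k) * (t₀ * a ^ n₀) := by
        rw [hT, hk, pow_add]; ring
      rw [this]
      exact Ideal.mul_mem_left _ _ htm₀
  · -- some element of `I` is outside `p`
    obtain ⟨t, htI, htp⟩ := Set.not_subset.mp hIp
    refine ⟨t, 1, 1, htp, one_pos, fun f _ => ?_, ?_⟩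
    · rw [Ideal.span_singleton_one]; trivial
    · rw [one_pow, mul_one]; exact htI

end Loc

end Groth.Agent.Lib.R2H3.DimOneOpen
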