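import Groth.Agent.Lib.R2H3DimOneOpen
import Groth.Agent.Lib.R2H3RpushAffVanish
import Groth.Agent.Lib.R2H3RpushBCVanish

/-!
# Higher direct images along quasi-compact open immersions vanish in dimension `≤ 1`
(helper3, round 2)

If all local rings of `X` are Noetherian of dimension `≤ 1` and `U ⊆ X` is a retrocompact open, then
every point has an affine open neighbourhood `W` with `U ∩ W` affine; hence `R^p j_* F = 0` for
`p > 0` and `F` quasi-coherent on `U`.
-/

set_option autoImplicit false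
set_option linter.style.haveILetI false
set_option linter.unusedSectionVars false
set_option linter.unusedVariables false
universe u
open CategoryTheory CategoryTheory.Limits TopologicalSpace AlgebraicGeometry Opposite

namespace Groth.Agent.Lib.R2H3.DimOneRpush

open Groth.Agent.Lib.R2H3.RpushRestrict Groth.Agent.Lib.R2H3.RpushAffVanish

attribute [local instance] hasInjectiveResolutions_modules

/-- a compact open subset of an affine open is a finite union of basic opens -/
lemma exists_finset_basicOpen {X : Scheme.{u}} (V : X.Opens) (hV : IsAffineOpen V) (O : X.Opens)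
    (hOV : O ≤ V) (hc : IsCompact (O : Set X)) :
    ∃ s : Finset Γ(X, V), (∀ f ∈ s, X.basicOpen f ≤ O) ∧
      ∀ y ∈ O, ∃ f ∈ s, y ∈ X.basicOpen f := by
  classical
  let ι := {f : Γ(X, V) // X.basicOpen f ≤ O}
  obtain ⟨t, ht⟩ := hc.elim_finite_subcover (fun f : ι => ((X.basicOpen f.1 : X.Opens) : Set X))
    (fun f => (X.basicOpen f.1).isOpen) (by
      intro y hy
      obtain ⟨f, hf1, hf2⟩ := hV.exists_basicOpen_le (V := O) ⟨y, hy⟩ (hOV hy)
      exact Set.mem_iUnion.mpr ⟨⟨f, hf1⟩, hf2⟩)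
  refine ⟨t.image Subtype.val, ?_, ?_⟩
  · intro f hf
    obtain ⟨g, -, rfl⟩ := Finset.mem_image.mp hf
    exact g.2
  · intro y hy
    obtain ⟨g, hg, hyg⟩ := Set.mem_iUnion₂.mp (ht hy)
    exact ⟨g.1, Finset.mem_image.mpr ⟨g, hg, rfl⟩, hyg⟩

/-- in a local ring, if a finite sum is a unit then one of the summands is -/
lemma exists_isUnit_of_isUnit_sum {R : Type*} [CommRing R] [IsLocalRing R] {ι : Type*}
    (s : Finset ι) (g : ι → R) (h : IsUnit (∑ i ∈ s, g i)) : ∃ i ∈ s, IsUnit (g i) := by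
  by_contra hcon
  push Not at hcon
  have : ∑ i ∈ s, g i ∈ IsLocalRing.maximalIdeal R :=
    Ideal.sum_mem _ fun i hi => (IsLocalRing.mem_maximalIdeal _).mpr (hcon i hi)
  exact (IsLocalRing.mem_maximalIdeal _).mp this h

/-- near a point with Noetherian local ring of dimension `≤ 1`, a retrocompact open is principal -/
theorem exists_basicOpen_inf_eq {X : Scheme.{u}} (V : X.Opens) (hV : IsAffineOpen V) (x : X)
    (hx : x ∈ V) (hN : IsNoetherianRing (X.presheaf.stalk x))
    (hd : ringKrullDim (X.presheaf.stalk x) ≤ 1) (U : X.Opens)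
    (hc : IsCompact ((U ⊓ V : X.Opens) : Set X)) :
    ∃ t a : Γ(X, V), x ∈ X.basicOpen t ∧ U ⊓ X.basicOpen t = X.basicOpen (t * a) := by
  classical
  obtain ⟨s, hs1, hs2⟩ := exists_finset_basicOpen V hV (U ⊓ V) inf_le_right hc
  letI : Algebra Γ(X, V) (X.presheaf.stalk x) :=
    TopCat.Presheaf.algebra_section_stalk X.presheaf ⟨x, hx⟩
  haveI : IsLocalization.AtPrime (X.presheaf.stalk x) (hV.primeIdealOf ⟨x, hx⟩).asIdeal :=
    hV.isLocalization_stalk ⟨x, hx⟩
  obtain ⟨t, a, N, htp, hNpos, hfa, hta⟩ :=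
    Groth.Agent.Lib.R2H3.DimOneOpen.exists_principal (hV.primeIdealOf ⟨x, hx⟩).asIdeal
      (X.presheaf.stalk x) hd s
  refine ⟨t, a, ?_, ?_⟩
  · rw [Scheme.mem_basicOpen _ _ _ hx]
    exact (IsLocalization.AtPrime.isUnit_to_map_iff (X.presheaf.stalk x)
      (hV.primeIdealOf ⟨x, hx⟩).asIdeal t).mpr htp
  · apply le_antisymm
    · rintro y ⟨hyU, hyt⟩
      have hyV : y ∈ V := X.basicOpen_le t hyt
      obtain ⟨f, hfs, hyf⟩ := hs2 y ⟨hyU, hyV⟩
      obtain ⟨b, hb⟩ := Ideal.mem_span_singleton'.mp (hfa f hfs)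
      rw [Scheme.basicOpen_mul]
      refine ⟨hyt, ?_⟩
      have hyt' := (Scheme.mem_basicOpen X t y hyV).mp hyt
      have hyf' := (Scheme.mem_basicOpen X f y hyV).mp hyf
      apply (Scheme.mem_basicOpen X a y hyV).mpr
      have h1 : IsUnit (X.presheaf.germ V y hyV (t * f ^ N)) := by
        rw [map_mul, map_pow]
        exact hyt'.mul (hyf'.pow N)
      rw [← hb, map_mul] at h1
      exact isUnit_of_mul_isUnit_right h1
    · intro y hy
      rw [Scheme.basicOpen_mul] at hy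
      obtain ⟨hyt, hya⟩ := hy
      refine ⟨?_, hyt⟩
      have hyV : y ∈ V := X.basicOpen_le t hyt
      obtain ⟨c, -, hc⟩ := Submodule.mem_span_finset.mp hta
      have hyt' := (Scheme.mem_basicOpen X t y hyV).mp hyt
      have hya' := (Scheme.mem_basicOpen X a y hyV).mp hya
      have h1 : IsUnit (X.presheaf.germ V y hyV (t * a ^ N)) := by
        rw [map_mul, map_pow]
        exact hyt'.mul (hya'.pow N)
      rw [← hc, map_sum] at h1
      obtain ⟨f, hfs, hf⟩ := exists_isUnit_of_isUnit_sum s _ h1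
      rw [smul_eq_mul, map_mul] at hf
      have hyf : y ∈ X.basicOpen f :=
        (Scheme.mem_basicOpen X f y hyV).mpr (isUnit_of_mul_isUnit_right hf)
      exact (hs1 f hfs hyf).1

/-- **Vanishing of `R^{q+1} j_*` for retrocompact opens in dimension `≤ 1`.** -/
theorem isZero_Rpush (X : Scheme.{u})
    (hX : ∀ x : X, IsNoetherianRing (X.presheaf.stalk x) ∧ ringKrullDim (X.presheaf.stalk x) ≤ 1)
    (U : X.Opens) [QuasiCompact U.ι] (F : (U : Scheme.{u}).Modules) [F.IsQuasicoherent] (q : ℕ) :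
    IsZero ((Coh.Rpush U.ι (q + 1)).obj F) := by
  let B : Set X.Opens := {W | IsAffineOpen W ∧ IsAffineOpen (U ⊓ W)}
  have hB : Opens.IsBasis B := by
    rw [Opens.isBasis_iff_nbhd]
    intro O x hxO
    obtain ⟨V, hV, hxV, hVO⟩ := Opens.isBasis_iff_nbhd.mp X.isBasis_affineOpens hxO
    have hc : IsCompact ((U ⊓ V : X.Opens) : Set X) := by
      have h1 : IsCompact ((U.ι ⁻¹ᵁ V : (U : Scheme.{u}).Opens) : Set (U : Scheme.{u})) :=
        U.ι.isCompact_preimage hV.isCompact
      have h2 := h1.image U.ι.continuous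
      have h3 : (U.ι '' ((U.ι ⁻¹ᵁ V : (U : Scheme.{u}).Opens) : Set (U : Scheme.{u}))) =
          ((U ⊓ V : X.Opens) : Set X) := by
        have := congrArg (fun W : X.Opens => (W : Set X))
          (U.ι.image_preimage_eq_opensRange_inf V)
        simpa using this
      rwa [h3] at h2
    obtain ⟨t, a, hxt, hUt⟩ := exists_basicOpen_inf_eq V hV x hxV (hX x).1 (hX x).2 U hc
    refine ⟨X.basicOpen t, ⟨hV.basicOpen t, ?_⟩, hxt, (X.basicOpen_le t).trans hVO⟩
    rw [hUt]
    exact hV.basicOpen (t * a)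
  refine Groth.Agent.Lib.Helper20.OmegaUnr.isZero_of_basis _ B hB ?_
  rintro W ⟨hW, hUW⟩
  haveI : IsAffine W.toScheme := hW
  haveI : IsAffine (U.ι ⁻¹ᵁ W).toScheme := by
    change IsAffineOpen (U.ι ⁻¹ᵁ W)
    rw [← U.ι.isAffineOpen_iff_of_isOpenImmersion, U.ι.image_preimage_eq_opensRange_inf,
      Scheme.Opens.opensRange_ι]
    exact hUW
  haveI : (F.restrict (U.ι ⁻¹ᵁ W).ι).IsQuasicoherent :=
    Scheme.Modules.isQuasicoherent_restrictFunctor (U.ι ⁻¹ᵁ W).ι F
  obtain ⟨e2⟩ := nonempty_Rpush_restrict_iso U.ι W F (q + 1)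
  have h0 : IsZero (((Coh.Rpush U.ι (q + 1)).obj F).restrict W.ι) :=
    IsZero.of_iso (isZero_Rpush_of_isAffineHom (U.ι ∣_ W) (F.restrict (U.ι ⁻¹ᵁ W).ι) q) e2
  have h6 : Subsingleton Γ((Coh.Rpush U.ι (q + 1)).obj F, W.ι ''ᵁ ⊤) := by
    refine ⟨fun s t => ?_⟩
    exact (eq_zero_of_isZero _ h0 ⊤ s).trans (eq_zero_of_isZero _ h0 ⊤ t).symm
  rwa [Scheme.Opens.ι_image_top] at h6

end Groth.Agent.Lib.R2H3.DimOneRpush
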