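import Groth.Agent.Lib.Helper21ExtShDelta
import Groth.Agent.Lib.Helper21ExtShLocFree
import Groth.Agent.Lib.Helper21Dual10
import Groth.Agent.Lib.R2H2PnLocFree
import Groth.Agent.Lib.R2H2PdSheaf
import Groth.Agent.Lib.R2H2NilFilt

/-!
# Coherence of the local Ext sheaves (helper3, round 2)

`X` locally Noetherian with enough locally frees, `F`, `G` coherent: `ℰxt^p(F, G)` is coherent.
-/

set_option autoImplicit false
set_option linter.style.haveILetI false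
set_option linter.unusedSectionVars false
universe u
open CategoryTheory CategoryTheory.Limits AlgebraicGeometry Opposite

namespace Groth.Agent.Lib.R2H3.ExtShCoh

open Groth.Agent.Lib.Helper21.ExtShDelta Groth.Agent.Lib.Helper21.CoDeltaLib
  Groth.Agent.Lib.Helper21.Dual Groth.Agent.Lib.Helper21.ExtShLocFree
  Groth.Agent.Lib.Helper21.ModTensor3
  Groth.Agent.Lib.R2H2.PnLocFree Groth.Agent.Lib.R2H2.PdSheaf Groth.Agent.Lib.R2H2.NilFilt

section Generic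

universe v v' w w'

variable {𝒜 : Type w} [Category.{v} 𝒜] [Abelian 𝒜] {𝒟 : Type w'} [Category.{v'} 𝒟] [Abelian 𝒟]
  (Δ : CoDelta 𝒜 𝒟) (P𝒜 Q : 𝒜 → Prop) (P : 𝒟 → Prop)
  (hiso : ∀ A B : 𝒟, (A ≅ B) → P A → P B)
  (hker : ∀ {A B : 𝒟} (f : A ⟶ B), P A → P B → P (kernel f))
  (hcoker : ∀ {A B : 𝒟} (f : A ⟶ B), P A → P B → P (cokernel f))
  (hsyz : ∀ F : 𝒜, P𝒜 F → ∃ (E K : 𝒜) (i : K ⟶ E) (p : E ⟶ F) (w : i ≫ p = 0),
    (ShortComplex.mk i p w).ShortExact ∧ Q E ∧ P𝒜 K)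
  (h0 : ∀ L : 𝒜, Q L → P (Δ.E 0 L)) (hvan : ∀ L : 𝒜, Q L → ∀ q : ℕ, IsZero (Δ.E (q + 1) L))

include hiso hker hsyz h0 in
theorem prop_E0 (F : 𝒜) (hF : P𝒜 F) : P (Δ.E 0 F) := by
  obtain ⟨E, K, i, p, w, hS, hE, hK⟩ := hsyz F hF
  obtain ⟨E₁, K₁, i₁, p₁, w₁, hS₁, hE₁, hK₁⟩ := hsyz K hK
  haveI : Epi p₁ := hS₁.epi_g
  obtain ⟨w', hw⟩ := Δ.exact₂ _ hS 0
  haveI : Mono (Δ.map 0 p) := Δ.mono_zero _ hS
  haveI : Mono (Δ.map 0 p₁) := Δ.mono_of_epi p₁
  have e1 : Δ.E 0 F ≅ kernel (Δ.map 0 i) :=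
    IsLimit.conePointUniqueUpToIso hw.fIsKernel (limit.isLimit _)
  have e2 : kernel (Δ.map 0 i) ≅ kernel (Δ.map 0 i ≫ Δ.map 0 p₁) :=
    (kernelCompMono _ _).symm
  exact hiso _ _ (e1 ≪≫ e2).symm (hker _ (h0 _ hE) (h0 _ hE₁))

include hiso hker hcoker hsyz h0 hvan in
theorem prop_E1 (F : 𝒜) (hF : P𝒜 F) : P (Δ.E 1 F) := by
  obtain ⟨E, K, i, p, w, hS, hE, hK⟩ := hsyz F hF
  obtain ⟨w', hw⟩ := Δ.exact₃ _ hS 0
  haveI : Epi (Δ.δ _ hS 0) := Δ.epi_δ _ hS 0 (hvan E hE 0)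
  have e1 : Δ.E 1 F ≅ cokernel (Δ.map 0 i) :=
    IsColimit.coconePointUniqueUpToIso hw.gIsCokernel (colimit.isColimit _)
  exact hiso _ _ e1.symm (hcoker _ (h0 _ hE) (prop_E0 Δ P𝒜 Q P hiso hker hsyz h0 K hK))

include hiso hker hcoker hsyz h0 hvan in
theorem prop_E : ∀ (q : ℕ) (F : 𝒜), P𝒜 F → P (Δ.E q F)
  | 0, F, hF => prop_E0 Δ P𝒜 Q P hiso hker hsyz h0 F hF
  | 1, F, hF => prop_E1 Δ P𝒜 Q P hiso hker hcoker hsyz h0 hvan F hF
  | q + 2, F, hF => by
    obtain ⟨E, K, i, p, w, hS, hE, hK⟩ := hsyz F hF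
    haveI : IsIso (Δ.δ _ hS (q + 1)) := Δ.isIso_δ _ hS (q + 1) (hvan E hE q) (hvan E hE (q + 1))
    exact hiso _ _ (asIso (Δ.δ _ hS (q + 1))) (prop_E (q + 1) K hK)

end Generic

attribute [local instance] Groth.Agent.Lib.Helper21.ExtShDelta.hasSheafHom

variable {X : Scheme.{u}} [IsLocallyNoetherian X] [HasInjectiveResolutions (ModSite.Mod X.sheaf)]

theorem isCoh_tensorMod {F G : X.Modules} (hF : Coh.IsCoh F) (hG : Coh.IsCoh G) :
    Coh.IsCoh (CohB1.tensorMod F G) := by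
  haveI : F.IsQuasicoherent := hF.1
  haveI : G.IsQuasicoherent := hG.1
  haveI : SheafOfModules.IsFiniteType (R := X.ringCatSheaf) F := hF.2
  haveI : SheafOfModules.IsFiniteType (R := X.ringCatSheaf) G := hG.2
  exact ⟨Groth.Agent.Lib.Helper23.TensorQCoh.isQuasicoherent_tensorMod F G,
    Groth.Agent.Lib.Helper23.TensorQCoh.isFiniteType_tensorMod F G⟩

/-- `ℋom(L, G)` is coherent for `L` finite locally free and `G` coherent. -/
theorem isCoh_sheafHom_of_isFinLocFree (L G : X.Modules) (hL : FlatMod.IsFinLocFree L)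
    (hG : Coh.IsCoh G) : Coh.IsCoh ((ModSite.sheafHom (O := X.sheaf) L).obj G) := by
  have h1 : Coh.IsCoh (CohB1.tensorMod G (dual (O := X.sheaf) L)) :=
    isCoh_tensorMod hG (isCoh_of_isFinLocFree _ (isFinLocFree_dual L hL))
  exact isCoh_of_iso ((cIso (O := X.sheaf) L (isLocFF_of_isFinLocFree L hL)).app G) h1

variable (G : X.Modules)

/-- `ℰxt^0(M, G) ≅ ℋom(M, G)` -/
noncomputable def E0Iso (M : X.Modules) :
    (extShDelta (O := X.sheaf) G).E 0 M ≅ (ModSite.sheafHom (O := X.sheaf) M).obj G := by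
  haveI := sheafHom_preservesFiniteLimits X.sheaf M
  exact (Functor.rightDerivedZeroIsoSelf (ModSite.sheafHom (O := X.sheaf) M)).app G

variable {G} (hG : Coh.IsCoh G)

include hG in
theorem isCoh_E0_of_isFinLocFree (L : X.Modules) (hL : FlatMod.IsFinLocFree L) :
    Coh.IsCoh ((extShDelta (O := X.sheaf) G).E 0 L) :=
  isCoh_of_iso (E0Iso G L).symm (isCoh_sheafHom_of_isFinLocFree L G hL hG)

theorem isZero_E_succ_of_isFinLocFree (L : X.Modules) (hL : FlatMod.IsFinLocFree L) (q : ℕ) :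
    IsZero ((extShDelta (O := X.sheaf) G).E (q + 1) L) :=
  isZero_extSh_of_isFinLocFree L G hL q

variable (hX : KRR.HasEnoughLocFree X)

include hX in
/-- the syzygy sequence `0 → K → E → F → 0`. -/
theorem exists_syz (F : X.Modules) (hF : Coh.IsCoh F) :
    ∃ (E K : X.Modules) (i : K ⟶ E) (p : E ⟶ F) (w : i ≫ p = 0),
      (ShortComplex.mk i p w).ShortExact ∧ FlatMod.IsFinLocFree E ∧ Coh.IsCoh K := by
  obtain ⟨E, p, hE, hp⟩ := hX F hF
  haveI := hp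
  exact ⟨E, kernel p, kernel.ι p, p, kernel.condition p,
    ShortComplex.ShortExact.mk' (ShortComplex.exact_of_f_is_kernel _ (kernelIsKernel p))
      (inferInstanceAs (Mono (kernel.ι p))) (inferInstanceAs (Epi p)), hE,
    isCoh_kernel (isCoh_of_isFinLocFree _ hE) hF p⟩

include hG hX in
/-- **Coherence of the local Ext sheaves**: `ℰxt^q(F, G)` is coherent for `F`, `G` coherent on a
locally Noetherian scheme with enough locally frees. -/
theorem isCoh_extSh (F : X.Modules) (hF : Coh.IsCoh F) (q : ℕ) :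
    Coh.IsCoh ((ModSite.extSh (O := X.sheaf) F q).obj G) :=
  prop_E (extShDelta (O := X.sheaf) G) (fun F : X.Modules => Coh.IsCoh F)
    (fun L : X.Modules => FlatMod.IsFinLocFree L) (fun M : X.Modules => Coh.IsCoh M)
    (fun A B e hA => isCoh_of_iso e hA)
    (fun f hA hB => isCoh_kernel hA hB f)
    (fun f hA hB => isCoh_cokernel hA hB f)
    (fun F hF => exists_syz hX F hF)
    (fun L hL => isCoh_E0_of_isFinLocFree hG L hL)
    (fun L hL q => isZero_E_succ_of_isFinLocFree L hL q) q F hF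

end Groth.Agent.Lib.R2H3.ExtShCoh
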