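import Groth.Agent.Lib.Helper21Dual10
import Groth.Agent.Lib.Helper21Dual12
import Groth.Agent.Lib.Helper23DerComp

/-!
# Twisting the second variable of the local Ext sheaves (helper3, round 2)

On a small ringed site, for `E` locally finite free: `ℰxt^q(F, G ⊗ E^∨) ≅ ℰxt^q(F, G) ⊗ E^∨`,
naturally in `G`.
-/

set_option autoImplicit false
set_option linter.style.haveILetI false
set_option linter.unusedSectionVars false
universe u
open CategoryTheory CategoryTheory.Limits Opposite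

namespace Groth.Agent.Lib.R2H3.ExtShTwist

open Groth.Agent.Lib.Helper21.ModTensor Groth.Agent.Lib.Helper21.ModTensor2
  Groth.Agent.Lib.Helper21.ModTensor3 Groth.Agent.Lib.Helper21.ModTensor4
  Groth.Agent.Lib.Helper21.ModTensor5
  Groth.Agent.Lib.Helper21.Dual Groth.Agent.Lib.Helper21.LocFact
  Groth.Agent.Lib.Helper21.DerPost Groth.Agent.Lib.Helper23DerComp

attribute [local instance] Groth.Agent.Lib.Helper21.ExtShDelta.hasSheafHom

variable {C : Type u} [SmallCategory C] {J : GrothendieckTopology C} {O : Sheaf J CommRingCat.{u}}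

/-- `ℋom(F, - ⊗ E^∨) ≅ ℋom(F ⊗ E, -)` for `E` locally finite free. -/
noncomputable def sheafHomTwistIso (E F : ModSite.Mod O) (hE : IsLocFF E) :
    tR O (dual E) ⋙ ModSite.sheafHom F ≅
      ModSite.sheafHom (((ModSite.tensorBi O).obj F).obj E) :=
  Functor.isoWhiskerRight (cIso E hE) (ModSite.sheafHom F) ≪≫ (sheafHomTensorIso F E).symm

/-- **`ℰxt^q(F, - ⊗ E^∨) ≅ ℰxt^q(F, -) ⊗ E^∨`** for `E` locally finite free. -/
theorem nonempty_extSh_twist_snd_iso (E F : ModSite.Mod O) (hE : IsLocFF E)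
    [HasInjectiveResolutions (ModSite.Mod O)] (q : ℕ) :
    Nonempty (tR O (dual E) ⋙ ModSite.extSh (O := O) F q ≅
      ModSite.extSh (O := O) F q ⋙ tR O (dual E)) := by
  haveI : PreservesFiniteLimits (tR O (dual E)) := preservesFiniteLimits_tR_dual E hE
  haveI : (tR O (dual E)).PreservesHomology := inferInstance
  haveI : (tR O (dual E)).PreservesInjectiveObjects := preservesInjectiveObjects_tR_dual E hE
  obtain ⟨e⟩ := nonempty_extSh_tensor_iso' E F hE q
  exact ⟨(compIso (tR O (dual E)) (ModSite.sheafHom F) q).symm ≪≫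
    natIsoRightDerived (sheafHomTwistIso E F hE) q ≪≫ e⟩

section Inv

open Groth.Agent.Lib.Helper21.ModTensor6 Groth.Agent.Lib.Helper21.ModTensor7

/-- `- ⊗ O ≅ 𝟭` -/
noncomputable def tRUnitIso : tR O (ModSite.unit O) ≅ 𝟭 (ModSite.Mod O) :=
  ((brd O).app (ModSite.unit O)).symm ≪≫ tLUnitIso O

/-- `- ⊗ L ≅ - ⊗ L'` for `L ≅ L'` -/
noncomputable def tRCongr {L L' : ModSite.Mod O} (e : L ≅ L') : tR O L ≅ tR O L' :=
  (ModSite.tensorBi O).flip.mapIso e

/-- the equivalence `- ⊗ L` with inverse `- ⊗ L'`, when `L ⊗ L' ≅ O ≅ L' ⊗ L`. -/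
noncomputable def tREquiv (L L' : ModSite.Mod O)
    (e : ((ModSite.tensorBi O).obj L).obj L' ≅ ModSite.unit O)
    (e' : ((ModSite.tensorBi O).obj L').obj L ≅ ModSite.unit O) :
    ModSite.Mod O ≌ ModSite.Mod O :=
  CategoryTheory.Equivalence.mk (tR O L) (tR O L')
    (tRTensorIso O L L' ≪≫ tRCongr e ≪≫ tRUnitIso).symm
    (tRTensorIso O L' L ≪≫ tRCongr e' ≪≫ tRUnitIso)

/-- `- ⊗ L' ≅ - ⊗ L^∨` when `L ⊗ L' ≅ O ≅ L' ⊗ L` and `L` is locally finite free. -/
noncomputable def tRInvIsoDual (L L' : ModSite.Mod O) (hL : IsLocFF L)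
    (e : ((ModSite.tensorBi O).obj L).obj L' ≅ ModSite.unit O)
    (e' : ((ModSite.tensorBi O).obj L').obj L ≅ ModSite.unit O) :
    tR O L' ≅ tR O (dual L) :=
  (tREquiv L L' e e').toAdjunction.rightAdjointUniq (dualAdj L hL)

/-- **`ℰxt^q(F, - ⊗ L') ≅ ℰxt^q(F, -) ⊗ L'`** for `L'` with an inverse `L` that is locally finite
free. -/
theorem nonempty_extSh_twist_snd_iso_of_inv (L L' F : ModSite.Mod O) (hL : IsLocFF L)
    (e : ((ModSite.tensorBi O).obj L).obj L' ≅ ModSite.unit O)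
    (e' : ((ModSite.tensorBi O).obj L').obj L ≅ ModSite.unit O)
    [HasInjectiveResolutions (ModSite.Mod O)] (q : ℕ) :
    Nonempty (tR O L' ⋙ ModSite.extSh (O := O) F q ≅ ModSite.extSh (O := O) F q ⋙ tR O L') := by
  obtain ⟨φ⟩ := nonempty_extSh_twist_snd_iso L F hL q
  let α := tRInvIsoDual L L' hL e e'
  exact ⟨Functor.isoWhiskerRight α _ ≪≫ φ ≪≫ Functor.isoWhiskerLeft _ α.symm⟩

end Inv

end Groth.Agent.Lib.R2H3.ExtShTwist
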