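import Groth.Agent.Lib.R2H3ExtLocGlob
import Groth.Agent.Lib.R2H3ExtShCoh
import Groth.Agent.Lib.R2H3ExtShTwist
import Groth.Agent.Lib.R2H2ClosedPnGamma
import Groth.Agent.Lib.R2H2QProjK0
import Groth.Agent.Lib.Helper18PBUnit2

/-!
# `Ext^i(F, G(d)) ≃ₗ H^0(ℰxt^i(F, G(d)))` for `d ≫ 0` on projective schemes (helper3, round 2)

Hartshorne III.6.9 for a closed subscheme `X` of `P^n_A`, `A` Noetherian.
-/

set_option autoImplicit false
set_option linter.style.haveILetI false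
set_option linter.unusedSectionVars false
universe u
open CategoryTheory CategoryTheory.Limits AlgebraicGeometry Opposite Abelian

namespace Groth.Agent.Lib.R2H3.ExtLocGlobProj

open Groth.Agent.Lib.Helper21.Dual Groth.Agent.Lib.Helper21.ModTensor3
  Groth.Agent.Lib.R2H2.PnSerre

attribute [local instance] Groth.Agent.Lib.Helper21.ExtShDelta.hasSheafHom

variable (A : Type u) [CommRing A] [IsNoetherianRing A] (n : ℕ) {X : Scheme.{u}}
  (ι : X ⟶ CohB1.ProjSpace n A) [IsClosedImmersion ι]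

/-- `O_X(d) = ι^* O(d)` -/
noncomputable abbrev OX (d : ℤ) : X.Modules :=
  (Scheme.Modules.pullback ι).obj (Twist.twistProjSpace n A d)

include ι in
theorem isLocallyNoetherian : IsLocallyNoetherian X := by
  haveI : IsNoetherian (CohB1.ProjSpace n A) :=
    Groth.Agent.Lib.R2H2.QProjK0.isNoetherian_projSpace n A
  exact LocallyOfFiniteType.isLocallyNoetherian ι

include ι in
theorem compactSpace : CompactSpace X := by
  haveI : IsNoetherian (CohB1.ProjSpace n A) :=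
    Groth.Agent.Lib.R2H2.QProjK0.isNoetherian_projSpace n A
  exact (ι.isClosedEmbedding).compactSpace

include ι in
theorem hasEnoughLocFree : KRR.HasEnoughLocFree X := by
  haveI := isLocallyNoetherian A n ι
  haveI := compactSpace A n ι
  exact Groth.Agent.Lib.R2H2.QProjK0.hasEnoughLocFree_of_embedding n A ι ι.isEmbedding

/-- `O_X(-d) ⊗ O_X(d) ≅ O_X` -/
theorem nonempty_OX_neg_tensor (d : ℤ) :
    Nonempty ((DCoh.tensorBi.obj (OX A n ι (-d))).obj (OX A n ι d) ≅ Coh.structureModule X) := by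
  obtain ⟨e⟩ := Groth.Agent.Lib.R2H2.QProjK0.nonempty_twist_tensor_neg_iso n A (-d)
  rw [neg_neg] at e
  exact ⟨Groth.Agent.Lib.R2H2.ClosedPn.pullTensorUnitIso ι _ _ e⟩

/-- `O_X(d) ⊗ O_X(-d) ≅ O_X` -/
theorem nonempty_OX_tensor_neg (d : ℤ) :
    Nonempty ((DCoh.tensorBi.obj (OX A n ι d)).obj (OX A n ι (-d)) ≅ Coh.structureModule X) := by
  obtain ⟨e⟩ := Groth.Agent.Lib.R2H2.QProjK0.nonempty_twist_tensor_neg_iso n A d
  exact ⟨Groth.Agent.Lib.R2H2.ClosedPn.pullTensorUnitIso ι _ _ e⟩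

theorem isLocFF_OX (d : ℤ) : IsLocFF (O := X.sheaf) (OX A n ι d) :=
  isLocFF_of_isFinLocFree _ (Groth.Agent.Helper18PBUnit.isFinLocFree_of_isInvertible
    (Groth.Agent.Lib.Helper23.PB.isInvertible_pullback ι _
      (Groth.Agent.Lib.R2Lead.KRR.isInvertible_twistProjSpace n A d)))

variable [HasInjectiveResolutions (ModSite.Mod X.sheaf)]
  (L : ℤ → X.Modules) (hL : ∀ d : ℤ, Nonempty (OX A n ι d ≅ L d))

include hL in
/-- `L (-d) ⊗ L d ≅ O_X` -/
theorem nonempty_L_neg_tensor (d : ℤ) :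
    Nonempty ((DCoh.tensorBi.obj (L (-d))).obj (L d) ≅ Coh.structureModule X) := by
  obtain ⟨e⟩ := nonempty_OX_neg_tensor A n ι d
  obtain ⟨a⟩ := hL (-d)
  obtain ⟨b⟩ := hL d
  exact ⟨(DCoh.tensorBi.mapIso a.symm).app _ ≪≫ (DCoh.tensorBi.obj _).mapIso b.symm ≪≫ e⟩

include hL in
/-- `L d ⊗ L (-d) ≅ O_X` -/
theorem nonempty_L_tensor_neg (d : ℤ) :
    Nonempty ((DCoh.tensorBi.obj (L d)).obj (L (-d)) ≅ Coh.structureModule X) := by
  obtain ⟨e⟩ := nonempty_OX_tensor_neg A n ι d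
  obtain ⟨a⟩ := hL (-d)
  obtain ⟨b⟩ := hL d
  exact ⟨(DCoh.tensorBi.mapIso b.symm).app _ ≪≫ (DCoh.tensorBi.obj _).mapIso a.symm ≪≫ e⟩

include hL in
theorem isLocFF_L (d : ℤ) : IsLocFF (O := X.sheaf) (L d) := by
  obtain ⟨b⟩ := hL d
  exact isLocFF_of_isFinLocFree _ (Groth.Agent.Helper18PBUnit.isFinLocFree_of_iso b
    (Groth.Agent.Helper18PBUnit.isFinLocFree_of_isInvertible
      (Groth.Agent.Lib.Helper23.PB.isInvertible_pullback ι _
        (Groth.Agent.Lib.R2Lead.KRR.isInvertible_twistProjSpace n A d))))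

include hL in
/-- `ℰxt^q(F, G ⊗ L d) ≅ ℰxt^q(F, G) ⊗ L d` -/
theorem nonempty_extSh_twist_iso (F G : X.Modules) (q : ℕ) (d : ℤ) :
    Nonempty ((ModSite.extSh (O := X.sheaf) F q).obj (CohB1.tensorMod G (L d)) ≅
      CohB1.tensorMod ((ModSite.extSh (O := X.sheaf) F q).obj G) (L d)) := by
  obtain ⟨e⟩ := nonempty_L_neg_tensor A n ι L hL d
  obtain ⟨e'⟩ := nonempty_L_tensor_neg A n ι L hL d
  obtain ⟨φ⟩ := Groth.Agent.Lib.R2H3.ExtShTwist.nonempty_extSh_twist_snd_iso_of_inv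
    (O := X.sheaf) (L (-d)) (L d) F (isLocFF_L A n ι L hL (-d)) e e' q
  exact ⟨φ.app G⟩

include hL in
/-- coherence of the local Ext sheaves on a closed subscheme of `P^n_A`. -/
theorem isCoh_extSh (F G : X.Modules) (hF : Coh.IsCoh F) (hG : Coh.IsCoh G) (q : ℕ) :
    Coh.IsCoh ((ModSite.extSh (O := X.sheaf) F q).obj G) := by
  haveI := isLocallyNoetherian A n ι
  exact Groth.Agent.Lib.R2H3.ExtShCoh.isCoh_extSh hG (hasEnoughLocFree A n ι) F hF q

include hL in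
/-- uniform Serre vanishing for the local Ext sheaves `ℰxt^b(F, G ⊗ L d)`, `b < i`. -/
theorem exists_vanishing (F G : X.Modules) (hF : Coh.IsCoh F) (hG : Coh.IsCoh G) (i : ℕ) :
    ∃ d₀ : ℕ, ∀ d : ℕ, d₀ ≤ d → ∀ b : ℕ, b < i → ∀ p : ℕ,
      Subsingleton (Coh.HH X ((ModSite.extSh (O := X.sheaf) F b).obj
        (CohB1.tensorMod G (L (d : ℤ)))) (p + 1)) := by
  induction i with
  | zero => exact ⟨0, fun d _ b hb => absurd hb (Nat.not_lt_zero b)⟩
  | succ i ih =>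
    obtain ⟨d₁, h₁⟩ := ih
    have hK : Coh.IsCoh ((ModSite.extSh (O := X.sheaf) F i).obj G) :=
      isCoh_extSh A n ι L hL F G hF hG i
    obtain ⟨d₂, h₂⟩ := Groth.Agent.Lib.R2H2.ClosedPnGamma.serre_vanishing_closed n A ι
      L hL _ hK
    refine ⟨max d₁ d₂.toNat, fun d hd b hb p => ?_⟩
    rcases Nat.lt_succ_iff_lt_or_eq.1 hb with hb' | rfl
    · exact h₁ d (le_trans (le_max_left _ _) hd) b hb' p
    · obtain ⟨φ⟩ := nonempty_extSh_twist_iso A n ι L hL F G b (d : ℤ)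
      have hd2 : d₂ ≤ (d : ℤ) := by
        have := le_trans (le_max_right d₁ d₂.toNat) hd
        omega
      exact subsingleton_HH_of_iso φ.symm (p + 1) (h₂ (d : ℤ) hd2 (p + 1) (Nat.succ_pos p))

variable [X.Over (Spec (CommRingCat.of A))] [HasExt.{u} X.Modules]

include hL in
/-- **Hartshorne III.6.9** on a closed subscheme of `P^n_A`, for a family `L d ≅ ι^* O(d)`. -/
theorem main' (F G : X.Modules) (hF : Coh.IsCoh F) (hG : Coh.IsCoh G)
    [ModSite.HasSheafHom (O := X.sheaf) F] (i : ℕ) :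
    ∃ d₀ : ℕ, ∀ d : ℕ, d₀ ≤ d →
      Nonempty (Abelian.Ext F (CohB1.tensorMod G (L (d : ℤ))) i ≃ₗ[A]
        Coh.HH X ((ModSite.extSh (O := X.sheaf) F i).obj
          (CohB1.tensorMod G (L (d : ℤ)))) 0) := by
  obtain ⟨d₀, h⟩ := exists_vanishing A n ι L hL F G hF hG i
  exact ⟨d₀, fun d hd => Groth.Agent.Lib.R2H3.ExtLocGlob.main F _ i (fun b hb p => h d hd b hb p)⟩

/-- **Hartshorne III.6.9** on a closed subscheme of `P^n_A`. -/
theorem main (F G : X.Modules) (hF : Coh.IsCoh F) (hG : Coh.IsCoh G)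
    [ModSite.HasSheafHom (O := X.sheaf) F] (i : ℕ) :
    ∃ d₀ : ℕ, ∀ d : ℕ, d₀ ≤ d →
      Nonempty (Abelian.Ext F (CohB1.tensorMod G (OX A n ι (d : ℤ))) i ≃ₗ[A]
        Coh.HH X ((ModSite.extSh (O := X.sheaf) F i).obj
          (CohB1.tensorMod G (OX A n ι (d : ℤ)))) 0) :=
  main' A n ι (fun d => OX A n ι d) (fun _ => ⟨Iso.refl _⟩) F G hF hG i

end Groth.Agent.Lib.R2H3.ExtLocGlobProj
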