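import Groth.Agent.Lib.R2H3ExtLocGlobProj
import Groth.Agent.Lib.R2H3ExtTwist
import Groth.Agent.Lib.R2H2PnDualExt
import Groth.Agent.Lib.R2H3GradedFam

/-!
# Vanishing of local Ext sheaves on `P^n_k` versus cohomology of negative twists (helper3, round 2)

`F` coherent on `P = P^n_k`, `ω = O(-n-1)`, `q ≤ n`:
`ℰxt^q(F, ω) = 0` iff `H^{n-q}(P, F(-m)) = 0` for all `m ≫ 0`.
-/

set_option autoImplicit false
set_option linter.style.haveILetI false
set_option linter.unusedSectionVars false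
universe u
open CategoryTheory CategoryTheory.Limits AlgebraicGeometry Opposite Abelian

namespace Groth.Agent.Lib.R2H3.ExtShVanish

open Groth.Agent.Lib.R2H2.PnSerre Groth.Agent.Lib.R2H2.PnTwEquiv Groth.Agent.Lib.R2H2.PnFinite
  Groth.Agent.Lib.R2H2.PnDual

attribute [local instance] Groth.Agent.Lib.Helper21.ExtShDelta.hasSheafHom
attribute [local instance] Abelian.hasFiniteBiproducts

section Epi

variable (n : ℕ) (R : Type u) [CommRing R]

local notation "PX" => CohB1.ProjSpace n R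

/-- every coherent module on `P^n_R` is a quotient of `O(-m)^r` for every `m ≫ 0` -/
theorem exists_epi_neg_all (F : (PX).Modules) (hF : Coh.IsCoh F) :
    ∃ n₀ : ℕ, ∀ m : ℕ, n₀ ≤ m → ∃ (r : ℕ)
      (p : (∐ fun _ : Fin r => Twist.twistProjSpace n R (-(m : ℤ))) ⟶ F), Epi p := by
  have key : ∀ T : ℤ → (PX).Modules, T = (fun d => Otw R n d) →
      ∃ n₀ : ℕ, ∀ m : ℕ, n₀ ≤ m → ∃ (r : ℕ) (p : (∐ fun _ : Fin r => T (-(m : ℤ))) ⟶ F),
        Epi p := by
    intro T hT
    subst hT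
    let F' : (Proj (CohB1.polyGrading n R)).Modules := F
    have i1 : F'.IsQuasicoherent := hF.1
    have i2 : SheafOfModules.IsFiniteType (R := (Proj (CohB1.polyGrading n R)).ringCatSheaf) F' :=
      hF.2
    obtain ⟨n₀, hn₀⟩ := Groth.Agent.Lib.Helper27GrTildeSect.exists_epi_twist
      (CohB1.polyGrading n R) 1
      (fun i : Fin (n + 1) => (MvPolynomial.X i : MvPolynomial (Fin (n + 1)) R))
      (Groth.Agent.Lib.Helper27PnChart.X_mem_one n R)
      (fun y => Groth.Agent.Lib.Helper27PnSections.exists_X_not_mem n R y) Nat.one_pos F'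
    refine ⟨n₀, fun m hm => ?_⟩
    obtain ⟨r, p, hp⟩ := hn₀ m hm (-(m : ℤ)) (by
      push_cast
      ring)
    exact ⟨r, p, hp⟩
  exact key (fun d => Twist.twistProjSpace n R d) (funext fun d => twist_eq R n d)

end Epi

section Main

variable (k : Type u) [Field k] (n : ℕ)


theorem isCoh_twist (d : ℤ) : Coh.IsCoh (Twist.twistProjSpace n k d) :=
  ⟨isQCoh_twist n k d, isFiniteType_twist n k d⟩

/-- `O(a) ⊗ O(-a) ≅ O` -/
theorem nonempty_tw_tensor_neg (a : ℤ) :
    Nonempty (CohB1.tensorMod (Twist.twistProjSpace n k a) (Twist.twistProjSpace n k (-a)) ≅ Coh.structureModule (CohB1.ProjSpace n k)) :=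
  Groth.Agent.Lib.R2H2.QProjK0.nonempty_twist_tensor_neg_iso n k a

/-- `O(-a) ⊗ O(a) ≅ O` -/
theorem nonempty_tw_neg_tensor (a : ℤ) :
    Nonempty (CohB1.tensorMod (Twist.twistProjSpace n k (-a)) (Twist.twistProjSpace n k a) ≅ Coh.structureModule (CohB1.ProjSpace n k)) := by
  obtain ⟨e⟩ := Groth.Agent.Lib.R2H2.QProjK0.nonempty_twist_tensor_neg_iso n k (-a)
  rw [neg_neg] at e
  exact ⟨e⟩

variable [HasExt.{u} (CohB1.ProjSpace n k).Modules]

theorem subsingleton_ext_twist_iff (A B : (CohB1.ProjSpace n k).Modules) (a : ℤ) (i : ℕ) :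
    Subsingleton (Ext ((twR (Twist.twistProjSpace n k (-a))).obj A) B i) ↔
      Subsingleton (Ext A ((twR (Twist.twistProjSpace n k a)).obj B) i) := by
  obtain ⟨e⟩ := nonempty_tw_tensor_neg k n a
  obtain ⟨e'⟩ := nonempty_tw_neg_tensor k n a
  constructor
  · intro h
    -- `B ≅ (B(a))(-a)` and `A ≅ (A(-a))(a)`
    have β : (twR (Twist.twistProjSpace n k (-a))).obj ((twR (Twist.twistProjSpace n k a)).obj B) ≅ B :=
      Groth.Agent.Lib.R2H2.AmpleRes.cancelIso B (Twist.twistProjSpace n k a) (Twist.twistProjSpace n k (-a)) e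
    have α : (twR (Twist.twistProjSpace n k a)).obj ((twR (Twist.twistProjSpace n k (-a))).obj A) ≅ A :=
      Groth.Agent.Lib.R2H2.AmpleRes.cancelIso A (Twist.twistProjSpace n k (-a)) (Twist.twistProjSpace n k a) e'
    have h1 : Subsingleton (Ext ((twR (Twist.twistProjSpace n k (-a))).obj A)
        ((twR (Twist.twistProjSpace n k (-a))).obj ((twR (Twist.twistProjSpace n k a)).obj B)) i) :=
      subsingleton_ext_of_iso (Iso.refl ((twR (Twist.twistProjSpace n k (-a))).obj A)) β i h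
    have h2 : Subsingleton (Ext ((twR (Twist.twistProjSpace n k a)).obj ((twR (Twist.twistProjSpace n k (-a))).obj A))
        ((twR (Twist.twistProjSpace n k a)).obj B) i) :=
      Groth.Agent.Lib.R2H3.ExtTwist.subsingleton_ext_twR (Twist.twistProjSpace n k (-a)) (Twist.twistProjSpace n k a) e'
        ((twR (Twist.twistProjSpace n k (-a))).obj A) ((twR (Twist.twistProjSpace n k a)).obj B) i h1
    exact subsingleton_ext_of_iso α.symm (Iso.refl ((twR (Twist.twistProjSpace n k a)).obj B)) i h2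
  · intro h
    exact Groth.Agent.Lib.R2H3.ExtTwist.subsingleton_ext_twR (Twist.twistProjSpace n k a) (Twist.twistProjSpace n k (-a)) e A B i h

/-- a coherent module on `P^n_k` all of whose large twists have no global sections is zero. -/
theorem isZero_of_H0_twist (E : (CohB1.ProjSpace n k).Modules) (hE : Coh.IsCoh E)
    (h : ∃ m₀ : ℤ, ∀ m : ℤ, m₀ ≤ m →
      Subsingleton (Coh.HH (CohB1.ProjSpace n k) (CohB1.tensorMod E (Twist.twistProjSpace n k m)) 0)) :
    IsZero E := by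
  obtain ⟨m₀, hm₀⟩ := h
  obtain ⟨n₀, hn₀⟩ := exists_epi_neg_all n k E hE
  let m : ℕ := max n₀ m₀.toNat
  obtain ⟨r, p, hp⟩ := hn₀ m (le_max_left _ _)
  have hm : m₀ ≤ (m : ℤ) := by
    have : m₀.toNat ≤ m := le_max_right _ _
    omega
  have h0 : Subsingleton (Coh.HH (CohB1.ProjSpace n k)
      (CohB1.tensorMod E (Twist.twistProjSpace n k (m : ℤ))) 0) := hm₀ _ hm
  -- `Hom(O(-m), E) = 0`
  have h1 : Subsingleton (Ext (Coh.structureModule (CohB1.ProjSpace n k))
      ((twR (Twist.twistProjSpace n k (m : ℤ))).obj E) 0) :=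
    subsingleton_ext_unit _ 0 h0
  have h2 : Subsingleton (Ext ((twR (Twist.twistProjSpace n k (-(m : ℤ)))).obj
      (Coh.structureModule (CohB1.ProjSpace n k))) E 0) :=
    (subsingleton_ext_twist_iff k n _ E (m : ℤ) 0).2 h1
  have e3 : (twR (Twist.twistProjSpace n k (-(m : ℤ)))).obj
      (Coh.structureModule (CohB1.ProjSpace n k)) ≅ Twist.twistProjSpace n k (-(m : ℤ)) :=
    (Groth.Agent.Lib.Helper21.ModTensor7.tLUnitIso (CohB1.ProjSpace n k).sheaf).app _
  have h3 : Subsingleton (Ext (Twist.twistProjSpace n k (-(m : ℤ))) E 0) :=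
    subsingleton_ext_of_iso e3.symm (Iso.refl E) 0 h2
  have h4 : Subsingleton (Twist.twistProjSpace n k (-(m : ℤ)) ⟶ E) :=
    (Ext.addEquiv₀ (X := Twist.twistProjSpace n k (-(m : ℤ))) (Y := E)).symm.toEquiv.subsingleton
  have hp0 : p = 0 := by
    apply Sigma.hom_ext
    intro j
    rw [comp_zero]
    exact Subsingleton.elim _ _
  haveI := hp
  exact IsZero.of_epi_eq_zero p hp0

variable [HasInjectiveResolutions (ModSite.Mod (CohB1.ProjSpace n k).sheaf)]

/-- `O(d)` on `P^n_k` is the pullback of `O(d)` along the identity. -/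
theorem nonempty_OX_id (d : ℤ) :
    Nonempty (Groth.Agent.Lib.R2H3.ExtLocGlobProj.OX k n (𝟙 (CohB1.ProjSpace n k)) d ≅
      Twist.twistProjSpace n k d) :=
  ⟨(Scheme.Modules.pullbackId (CohB1.ProjSpace n k)).app _⟩

/-- **Vanishing of the local Ext sheaf against cohomology of negative twists** on `P^n_k`. -/
theorem isZero_extSh_iff (F : (CohB1.ProjSpace n k).Modules) (hF : Coh.IsCoh F)
    [ModSite.HasSheafHom (O := (CohB1.ProjSpace n k).sheaf) F] (q : ℕ) (hq : q ≤ n) :
    IsZero ((ModSite.extSh (O := (CohB1.ProjSpace n k).sheaf) F q).obj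
        (Twist.twistProjSpace n k (-((n : ℤ) + 1)))) ↔
      ∃ m₀ : ℤ, ∀ m : ℤ, m₀ ≤ m → Subsingleton (Coh.HH (CohB1.ProjSpace n k)
        (CohB1.tensorMod F (Twist.twistProjSpace n k (-m))) (n - q)) := by
  have hω : Coh.IsCoh (Twist.twistProjSpace n k (-((n : ℤ) + 1))) := isCoh_twist k n _
  have hL := nonempty_OX_id k n
  have hE : Coh.IsCoh ((ModSite.extSh (O := (CohB1.ProjSpace n k).sheaf) F q).obj
      (Twist.twistProjSpace n k (-((n : ℤ) + 1)))) :=
    Groth.Agent.Lib.R2H3.ExtLocGlobProj.isCoh_extSh k n (𝟙 _) _ hL F _ hF hω q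
  obtain ⟨d₀, hd₀⟩ := Groth.Agent.Lib.R2H3.ExtLocGlobProj.main' k n (𝟙 (CohB1.ProjSpace n k))
    (fun d => Twist.twistProjSpace n k d) hL F _ hF hω q
  -- the key equivalence for `d ≥ d₀`
  have key : ∀ d : ℕ, d₀ ≤ d →
      (Subsingleton (Coh.HH (CohB1.ProjSpace n k)
        (CohB1.tensorMod F (Twist.twistProjSpace n k (-(d : ℤ)))) (n - q)) ↔
      Subsingleton (Coh.HH (CohB1.ProjSpace n k)
        (CohB1.tensorMod ((ModSite.extSh (O := (CohB1.ProjSpace n k).sheaf) F q).obj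
          (Twist.twistProjSpace n k (-((n : ℤ) + 1)))) (Twist.twistProjSpace n k (d : ℤ))) 0)) := by
    intro d hd
    obtain ⟨e1⟩ := hd₀ d hd
    obtain ⟨φ⟩ := Groth.Agent.Lib.R2H3.ExtLocGlobProj.nonempty_extSh_twist_iso k n (𝟙 _) _ hL F
      (Twist.twistProjSpace n k (-((n : ℤ) + 1))) q (d : ℤ)
    have hFd : Coh.IsCoh (CohB1.tensorMod F (Twist.twistProjSpace n k (-(d : ℤ)))) := by
      haveI : IsLocallyNoetherian (CohB1.ProjSpace n k) :=
        Groth.Agent.Lib.R2H3.ExtLocGlobProj.isLocallyNoetherian k n (𝟙 _)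
      exact Groth.Agent.Lib.R2H3.ExtShCoh.isCoh_tensorMod hF (isCoh_twist k n _)
    rw [← Groth.Agent.Lib.R2H2.PnDualExt.subsingleton_iff k n _ hFd q hq]
    have h1 := subsingleton_ext_twist_iff k n F (Twist.twistProjSpace n k (-((n : ℤ) + 1)))
      (d : ℤ) q
    have h2 : Subsingleton (Ext F (CohB1.tensorMod (Twist.twistProjSpace n k (-((n : ℤ) + 1)))
        (Twist.twistProjSpace n k (d : ℤ))) q) ↔
        Subsingleton (Coh.HH (CohB1.ProjSpace n k)
          ((ModSite.extSh (O := (CohB1.ProjSpace n k).sheaf) F q).obj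
            (CohB1.tensorMod (Twist.twistProjSpace n k (-((n : ℤ) + 1)))
              (Twist.twistProjSpace n k (d : ℤ)))) 0) :=
      ⟨fun h => e1.symm.toEquiv.subsingleton, fun h => e1.toEquiv.subsingleton⟩
    have h3 : Subsingleton (Coh.HH (CohB1.ProjSpace n k)
          ((ModSite.extSh (O := (CohB1.ProjSpace n k).sheaf) F q).obj
            (CohB1.tensorMod (Twist.twistProjSpace n k (-((n : ℤ) + 1)))
              (Twist.twistProjSpace n k (d : ℤ)))) 0) ↔
        Subsingleton (Coh.HH (CohB1.ProjSpace n k)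
        (CohB1.tensorMod ((ModSite.extSh (O := (CohB1.ProjSpace n k).sheaf) F q).obj
          (Twist.twistProjSpace n k (-((n : ℤ) + 1)))) (Twist.twistProjSpace n k (d : ℤ))) 0) :=
      ⟨fun h => subsingleton_HH_of_iso φ 0 h, fun h => subsingleton_HH_of_iso φ.symm 0 h⟩
    exact h1.trans (h2.trans h3)
  constructor
  · intro hz
    refine ⟨(d₀ : ℤ), fun m hm => ?_⟩
    obtain ⟨d, rfl⟩ : ∃ d : ℕ, m = (d : ℤ) := ⟨m.toNat, by omega⟩
    have hd : d₀ ≤ d := by omega
    rw [key d hd]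
    exact Groth.Agent.Lib.R2H3.GradedFam.subsingleton_HH_of_isZero
      (Functor.map_isZero (twR (Twist.twistProjSpace n k (d : ℤ))) hz) 0
  · rintro ⟨m₀, hm₀⟩
    apply isZero_of_H0_twist k n _ hE
    refine ⟨max (d₀ : ℤ) m₀, fun m hm => ?_⟩
    obtain ⟨d, rfl⟩ : ∃ d : ℕ, m = (d : ℤ) := ⟨m.toNat, by
      have : (0 : ℤ) ≤ d₀ := Int.natCast_nonneg _
      have := le_trans (le_max_left (d₀ : ℤ) m₀) hm
      omega⟩
    have hd : d₀ ≤ d := by
      have := le_trans (le_max_left (d₀ : ℤ) m₀) hm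
      omega
    rw [← key d hd]
    exact hm₀ _ (le_trans (le_max_right _ _) hm)

end Main

end Groth.Agent.Lib.R2H3.ExtShVanish
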