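import Groth.Agent.Lib.R2H3CMVanish
import Groth.Agent.Lib.R2H3ExtTwist
import Groth.Agent.Lib.R2H2ClosedPnGamma
import Groth.Agent.Lib.R2H2PnMumford
import Groth.Agent.Lib.R2H2PdSheaf

/-!
# Dimension shifting for a dualizing sheaf (helper3, round 2)

Namespace `Groth.Agent.Lib.R2H3.DualShift`.

* `subsingleton_ext_succ_iff`, `subsingleton_HH_succ_iff`, `subsingleton_ext_one_iff`,
  `injective_HmapL_iff`: dimension shifting along a short exact sequence;
* `IsDualizing`, `extends_iff_injective`, `subsingleton_ext_zero_iff`;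
* `main`: if every coherent module is a quotient of a coherent `E` with `H^j(E) = 0` for `j < n` and
  `Ext^i(E, ω) = 0` for `i ≥ 1`, then `Ext^i(F, ω) = 0 ↔ H^{n-i}(F) = 0` for `i ≤ n`;
* `exists_resolution`: such `E` exist on a Cohen–Macaulay closed subscheme of `P^N_k`.
-/

set_option autoImplicit false
set_option linter.style.haveILetI false
set_option linter.unusedSectionVars false
universe u

open CategoryTheory CategoryTheory.Limits AlgebraicGeometry Opposite Abelian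

namespace Groth.Agent.Lib.R2H3.DualShift

open Groth.Agent.Lib.R2H2.PnSerre Groth.Agent.Lib.Helper23.AmpleIso Groth.Agent.Lib.R2H2.HHLin
  Groth.Agent.Lib.R2H3.NegTwist Groth.Agent.Lib.R2H2.PnBeilinson Groth.Agent.Lib.R2H2.PnMumford

variable {X : Scheme.{u}}

section Shift

variable (S : ShortComplex X.Modules) (hS : S.ShortExact)

include hS in
theorem subsingleton_HH_succ_iff (j : ℕ) (h1 : Subsingleton (Coh.HH X S.X₂ j))
    (h2 : Subsingleton (Coh.HH X S.X₂ (j + 1))) :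
    Subsingleton (Coh.HH X S.X₃ j) ↔ Subsingleton (Coh.HH X S.X₁ (j + 1)) :=
  ⟨fun h => subsingleton_X₁_succ S hS j h h2, fun h => subsingleton_X₃ S hS j h1 h⟩

include hS in
theorem injective_HmapL_iff (j : ℕ) (h1 : Subsingleton (Coh.HH X S.X₂ j)) :
    Function.Injective (HmapL S.f (j + 1)) ↔ Subsingleton (Coh.HH X S.X₃ j) := by
  constructor
  · intro h
    have hsurj := surjective_g_of_injective_f S hS j h
    exact hsurj.subsingleton
  · intro h
    exact injective_f_of_subsingleton S hS j h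

variable [HasExt.{u} X.Modules]

include hS in
theorem subsingleton_ext_succ_iff (Y : X.Modules) (i : ℕ) (h1 : Subsingleton (Ext S.X₂ Y i))
    (h2 : Subsingleton (Ext S.X₂ Y (i + 1))) :
    Subsingleton (Ext S.X₃ Y (i + 1)) ↔ Subsingleton (Ext S.X₁ Y i) := by
  constructor
  · intro h
    have h0 : ∀ x : Ext S.X₁ Y i, x = 0 := fun x => by
      obtain ⟨x₂, hx₂⟩ := Ext.contravariant_sequence_exact₁ hS Y x (Nat.add_comm 1 i)
        (Subsingleton.elim _ _)
      rw [← hx₂, Subsingleton.elim x₂ 0, Ext.comp_zero]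
    exact ⟨fun a b => (h0 a).trans (h0 b).symm⟩
  · intro h
    have h0 : ∀ x : Ext S.X₃ Y (i + 1), x = 0 := fun x => by
      obtain ⟨x₁, hx₁⟩ := Ext.contravariant_sequence_exact₃ hS Y x (Subsingleton.elim _ _)
        (Nat.add_comm 1 i)
      rw [← hx₁, Subsingleton.elim x₁ 0, Ext.comp_zero]
    exact ⟨fun a b => (h0 a).trans (h0 b).symm⟩

include hS in
theorem subsingleton_ext_one_iff (Y : X.Modules) (h2 : Subsingleton (Ext S.X₂ Y 1)) :
    Subsingleton (Ext S.X₃ Y 1) ↔ ∀ φ : S.X₁ ⟶ Y, ∃ ψ : S.X₂ ⟶ Y, S.f ≫ ψ = φ := by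
  constructor
  · intro h φ
    obtain ⟨x₂, hx₂⟩ := Ext.contravariant_sequence_exact₁ hS Y (Ext.mk₀ φ) (Nat.add_comm 1 0)
      (Subsingleton.elim _ _)
    obtain ⟨ψ, rfl⟩ := (Ext.mk₀_bijective S.X₂ Y).2 x₂
    refine ⟨ψ, ?_⟩
    rw [Ext.mk₀_comp_mk₀] at hx₂
    exact (Ext.mk₀_bijective S.X₁ Y).1 hx₂
  · intro h
    have h0 : ∀ x : Ext S.X₃ Y 1, x = 0 := fun x => by
      obtain ⟨x₁, hx₁⟩ := Ext.contravariant_sequence_exact₃ hS Y x (Subsingleton.elim _ _)
        (Nat.add_comm 1 0)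
      obtain ⟨φ, rfl⟩ := (Ext.mk₀_bijective S.X₁ Y).2 x₁
      obtain ⟨ψ, rfl⟩ := h φ
      rw [← hx₁, ← Ext.mk₀_comp_mk₀, ← Ext.comp_assoc_of_third_deg_zero,
        ShortComplex.ShortExact.extClass_comp, Ext.zero_comp]
    exact ⟨fun a b => (h0 a).trans (h0 b).symm⟩

end Shift

section Dual

variable (k : Type u) [Field k] [X.Over (Spec (CommRingCat.of k))] (n : ℕ) (ω : X.Modules)
  (t : Coh.HH X ω n →ₗ[k] k)

/-- the dualizing property of `(ω, t)` -/
def IsDualizing : Prop :=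
  ∀ F : X.Modules, Coh.IsCoh F → ∀ ψ : Coh.HH X F n →ₗ[k] k,
    ∃! φ : F ⟶ ω, ∀ x : Coh.HH X F n, ψ x = t (HmapL φ n x)

variable {k n ω t}

theorem extends_iff_injective (hdual : IsDualizing k n ω t) {K E : X.Modules}
    (hK : Coh.IsCoh K) (hE : Coh.IsCoh E) (f : K ⟶ E) :
    (∀ φ : K ⟶ ω, ∃ ψ : E ⟶ ω, f ≫ ψ = φ) ↔ Function.Injective (HmapL f n) := by
  have hiff : Function.Injective (HmapL f n) ↔ Function.Surjective (HmapA k f n).dualMap := by
    rw [LinearMap.dualMap_surjective_iff]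
    rfl
  rw [hiff]
  constructor
  · intro h ψK
    obtain ⟨φ, hφ, -⟩ := hdual K hK ψK
    obtain ⟨ψ', rfl⟩ := h φ
    refine ⟨t ∘ₗ HmapA k ψ' n, ?_⟩
    ext x
    rw [hφ x, HmapL_comp]
    rfl
  · intro h φ
    obtain ⟨ψE, hψE⟩ := h (t ∘ₗ HmapA k φ n)
    obtain ⟨ψ', hψ', -⟩ := hdual E hE ψE
    refine ⟨ψ', ?_⟩
    refine (hdual K hK (t ∘ₗ HmapA k φ n)).unique ?_ ?_
    · intro x
      rw [← hψE, HmapL_comp, ← hψ']
      rfl
    · intro x
      rfl

theorem subsingleton_hom_iff (hdual : IsDualizing k n ω t) {F : X.Modules} (hF : Coh.IsCoh F) :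
    Subsingleton (F ⟶ ω) ↔ Subsingleton (Coh.HH X F n) := by
  rw [← Module.subsingleton_dual_iff k (V := Coh.HH X F n)]
  constructor
  · intro h
    refine ⟨fun a b => ?_⟩
    obtain ⟨φa, hφa, -⟩ := hdual F hF a
    obtain ⟨φb, hφb, -⟩ := hdual F hF b
    ext x
    rw [hφa x, hφb x, Subsingleton.elim φa φb]
  · intro h
    refine ⟨fun a b => ?_⟩
    refine (hdual F hF (t ∘ₗ HmapA k a n)).unique (fun x => rfl) (fun x => ?_)
    rw [Subsingleton.elim (t ∘ₗ HmapA k a n) (t ∘ₗ HmapA k b n)]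
    rfl

theorem subsingleton_ext_zero_iff [HasExt.{u} X.Modules] (hdual : IsDualizing k n ω t)
    {F : X.Modules} (hF : Coh.IsCoh F) :
    Subsingleton (Ext F ω 0) ↔ Subsingleton (Coh.HH X F n) := by
  rw [← subsingleton_hom_iff hdual hF]
  exact (Equiv.ofBijective _ (Ext.mk₀_bijective F ω)).subsingleton_congr.symm

end Dual

section Main

variable {k : Type u} [Field k] [X.Over (Spec (CommRingCat.of k))] [IsLocallyNoetherian X]
  [HasExt.{u} X.Modules] {n : ℕ} {ω : X.Modules} {t : Coh.HH X ω n →ₗ[k] k}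

/-- **Dimension shifting.**  If every coherent module is a quotient of a coherent `E` with
`H^j(E) = 0` for `j < n` and `Ext^i(E, ω) = 0` for `i ≥ 1`, then for a dualizing pair `(ω, t)`:
`Ext^i(F, ω) = 0 ↔ H^{n-i}(F) = 0` for all coherent `F` and `i ≤ n`. -/
theorem main (hdual : IsDualizing k n ω t)
    (hres : ∀ F : X.Modules, Coh.IsCoh F → ∃ (E : X.Modules) (p : E ⟶ F), Epi p ∧ Coh.IsCoh E ∧
      (∀ j : ℕ, j < n → Subsingleton (Coh.HH X E j)) ∧
      (∀ i : ℕ, 1 ≤ i → Subsingleton (Ext E ω i)))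
    (i : ℕ) : ∀ F : X.Modules, Coh.IsCoh F → i ≤ n →
      (Subsingleton (Ext F ω i) ↔ Subsingleton (Coh.HH X F (n - i))) := by
  induction i with
  | zero =>
    intro F hF _
    exact subsingleton_ext_zero_iff hdual hF
  | succ i ih =>
    intro F hF hi
    obtain ⟨E, p, hp, hE, hEH, hEext⟩ := hres F hF
    haveI := hp
    let S : ShortComplex X.Modules := ShortComplex.mk (kernel.ι p) p (kernel.condition p)
    have hS : S.ShortExact := Groth.Agent.Lib.Helper17.Res.kernel_shortExact p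
    have hK : Coh.IsCoh (kernel p) := Groth.Agent.Lib.R2H2.PdSheaf.isCoh_kernel hE hF p
    obtain ⟨j, hj⟩ : ∃ j, n = j + (i + 1) := ⟨n - (i + 1), by omega⟩
    have h1 : n - (i + 1) = j := by omega
    have h2 : n - i = j + 1 := by omega
    rw [h1]
    rcases Nat.eq_zero_or_pos i with hi0 | hipos
    · subst hi0
      have hinj := extends_iff_injective hdual hK hE S.f
      rw [subsingleton_ext_one_iff S hS ω (hEext 1 le_rfl), hinj]
      have hn : n = j + 1 := hj
      subst hn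
      exact injective_HmapL_iff S hS j (hEH j (by omega))
    · rw [subsingleton_ext_succ_iff S hS ω i (hEext i hipos) (hEext (i + 1) (by omega)),
        ih (kernel p) hK (by omega), h2]
      exact (subsingleton_HH_succ_iff S hS j (hEH j (by omega)) (hEH (j + 1) (by omega))).symm

end Main

section Res

variable (k : Type u) [Field k] (N : ℕ) (ι : X ⟶ CohB1.ProjSpace N k)
  [IsClosedImmersion ι] [HasExt.{u} X.Modules]

include ι in
/-- on a closed subscheme of `P^N_k` whose local rings at closed points are Cohen–Macaulay of dimension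
`n`, every coherent module is a quotient of some `E = O(-q)^r` with `H^j(E) = 0` for `j < n` and
`Ext^i(E, ω) = 0` for `i ≥ 1` (for a fixed coherent `ω`) -/
theorem exists_resolution (n : ℕ)
    (hCM : ∀ x : X, IsClosed ({x} : Set X) →
      LocCoh.IsCohenMacaulayLocalRing (X.presheaf.stalk x) ∧
        ringKrullDim (X.presheaf.stalk x) = n)
    (ω : X.Modules) (hω : Coh.IsCoh ω) (F : X.Modules) (hF : Coh.IsCoh F) :
    ∃ (E : X.Modules) (p : E ⟶ F), Epi p ∧ Coh.IsCoh E ∧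
      (∀ j : ℕ, j < n → Subsingleton (Coh.HH X E j)) ∧
      (∀ i : ℕ, 1 ≤ i → Subsingleton (Ext E ω i)) := by
  haveI := Groth.Agent.Lib.R2H3.CMVanish.isLocallyNoetherian_of_closedImmersion k N ι
  obtain ⟨hL, -, -⟩ := Groth.Agent.Lib.R2H3.DepthEmb.exists_data k N ι
  haveI : CompactSpace X := hL.2.1
  haveI : F.IsQuasicoherent := hF.1
  haveI : SheafOfModules.IsFiniteType (R := X.ringCatSheaf) F := hF.2
  obtain ⟨n₀, hn₀⟩ := Groth.Agent.Lib.Helper23.LocGen.isGloballyGenerated_twist_eventually _ hL F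
  obtain ⟨q₀, hq₀⟩ := Groth.Agent.Lib.R2H3.CMVanish.vanishing_structureModule_of_isCM k N ι n hCM
  obtain ⟨d₀, hd₀⟩ := Groth.Agent.Lib.R2H2.ClosedPnGamma.serre_vanishing_closed N k ι
    (fun m => (Scheme.Modules.pullback ι).obj (Twist.twistProjSpace N k m))
    (fun m => ⟨Iso.refl _⟩) ω hω
  obtain ⟨q, hq1, hq2, hq3⟩ : ∃ q : ℕ, n₀ ≤ q ∧ q₀ ≤ q ∧ d₀ ≤ (q : ℤ) := by
    refine ⟨max n₀ (max q₀ d₀.toNat), le_max_left _ _,
      (le_max_left _ _).trans (le_max_right _ _), ?_⟩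
    refine (Int.self_le_toNat d₀).trans ?_
    exact_mod_cast (le_max_right q₀ d₀.toNat).trans (le_max_right n₀ _)
  have h1 := Groth.Agent.Lib.R2Lead.KRR.isInvertible_twistProjSpace N k 1
  have hPinv : PicF.IsInvertible
      ((Scheme.Modules.pullback ι).obj (Twist.twistProjSpace N k (-(q : ℤ)))) :=
    Groth.Agent.Lib.Helper23.PB.isInvertible_pullback ι _
      (Groth.Agent.Lib.R2Lead.KRR.isInvertible_twistProjSpace N k _)
  obtain ⟨e1⟩ := Groth.Agent.Lib.Helper23.PB.nonempty_pullback_tensorPow_iso ι _ h1 q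
  obtain ⟨e2⟩ := Groth.Agent.Lib.R2H2.QProjK0.nonempty_twist_iso_tensorPow N k q
  obtain ⟨e⟩ := Groth.Agent.Lib.R2H3.CMVanish.nonempty_pullback_twist_neg_iso k N ι (q : ℤ)
  -- a finite epi onto `F ⊗ L^q`
  have hLq : PicF.IsInvertible (CohB1.tensorPow
      ((Scheme.Modules.pullback ι).obj (Twist.twistProjSpace N k 1)) q) :=
    Groth.Agent.Lib.Helper23.SecTw.isInvertible_tensorPow hL.1 q
  have hG : Coh.IsCoh (CohB1.tensorMod F (CohB1.tensorPow
      ((Scheme.Modules.pullback ι).obj (Twist.twistProjSpace N k 1)) q)) :=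
    Groth.Agent.Lib.R2H3.AmpleSV.isCoh_tensorMod_invertible _ _ hF hLq
  haveI := hG.1
  haveI := hG.2
  obtain ⟨r, g, hg⟩ := Groth.Agent.Lib.R2H2.FinGen.exists_finite_epi _ (hn₀ q hq1)
  haveI := hg
  let g' : FlatMod.freeMod X r ⟶ CohB1.tensorMod F
      ((Scheme.Modules.pullback ι).obj (Twist.twistProjSpace N k (q : ℤ))) :=
    g ≫ (tensorModIso (Iso.refl F) ((Scheme.Modules.pullback ι).mapIso e2 ≪≫ e1).symm).hom
  haveI : Epi g' := epi_comp _ _
  haveI := Groth.Agent.Lib.R2H2.AmpleRes.epi_twR_map _ hPinv g'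
  obtain ⟨pp, ss, hps⟩ := Groth.Agent.Lib.R2H3.ExtTwist.exists_decomp_twR_freeMod
    ((Scheme.Modules.pullback ι).obj (Twist.twistProjSpace N k (-(q : ℤ)))) r
  refine ⟨(twR ((Scheme.Modules.pullback ι).obj (Twist.twistProjSpace N k (-(q : ℤ))))).obj
      (FlatMod.freeMod X r),
    (twR _).map g' ≫ (Groth.Agent.Lib.R2H2.AmpleRes.cancelIso F _ _ e).hom, epi_comp _ _,
    Groth.Agent.Lib.R2H2.QProjK0.isCoh_of_isFinLocFree _
      (Groth.Agent.Lib.R2H2.AmpleRes.isFinLocFree_twR_freeMod _ hPinv r), ?_, ?_⟩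
  · intro j hj
    exact Groth.Agent.Lib.R2H3.ExtTwist.subsingleton_HH_of_decomp _ pp ss hps j
      (fun _ => hq₀ q hq2 j hj)
  · intro i hi
    refine Groth.Agent.Lib.R2H3.ExtTwist.subsingleton_ext_of_decomp _ pp ss hps ω i (fun _ => ?_)
    exact Groth.Agent.Lib.R2H3.ExtTwist.subsingleton_ext_twR _ _ e (Coh.structureModule X) ω i
      (Groth.Agent.Lib.R2H2.PnTwEquiv.subsingleton_ext_unit _ i (hd₀ q hq3 i hi))

end Res

end Groth.Agent.Lib.R2H3.DualShift
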