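import Groth.Agent.Lib.R2H3BCDescent

/-!
# Factoring a morphism of `S`-schemes through a monomorphism is fpqc-local on `S`
(helper3, round 2)

For `i : H ⟶ G`, `i' : H' ⟶ G` in `Over S` with `i'.left` a monomorphism, `Fac i i' T t` says
that the composite `H ×_S T ⟶ H ⟶ G` factors through `i'`.  This sieve is stable under
precomposition, descends along fpqc morphisms (which are effective epimorphisms) and is
Zariski-local; hence `exists_factor_of_fpqc_local`.
-/

set_option autoImplicit false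
set_option linter.style.haveILetI false
set_option linter.unusedVariables false
set_option linter.unusedSectionVars false

universe u

open CategoryTheory CategoryTheory.Limits AlgebraicGeometry MorphismProperty
open Groth.Agent.Lib.R2H3.FpqcLocal Groth.Agent.Lib.R2H3.BCDescent

namespace Groth.Agent.Lib.R2H3.FactorMono

/-- a morphism which factors through a monomorphism after an effective epimorphism factors
through it. -/
lemma exists_factor_of_effectiveEpi {C : Type*} [Category C] {Y A B X : C} (π : Y ⟶ A)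
    [EffectiveEpi π] (j : B ⟶ X) [Mono j] (k : A ⟶ X) (g' : Y ⟶ B) (h : g' ≫ j = π ≫ k) :
    ∃ g : A ⟶ B, g ≫ j = k := by
  have hd : ∀ {Z : C} (g₁ g₂ : Z ⟶ Y), g₁ ≫ π = g₂ ≫ π → g₁ ≫ g' = g₂ ≫ g' := by
    intro Z g₁ g₂ h12
    rw [← cancel_mono j, Category.assoc, Category.assoc, h, ← Category.assoc, h12,
      Category.assoc]
  refine ⟨EffectiveEpi.desc π g' hd, ?_⟩
  rw [← cancel_epi π, ← Category.assoc, EffectiveEpi.fac, h]

variable {S : Scheme.{u}} {H H' G : Over S} (i : H ⟶ G) (i' : H' ⟶ G)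

/-- the composite `H ×_S T ⟶ H ⟶ G` factors through `i'`. -/
def Fac (T : Scheme.{u}) (t : T ⟶ S) : Prop :=
  ∃ g : pullback H.hom t ⟶ H'.left, g ≫ i'.left = pullback.fst H.hom t ≫ i.left

lemma fac_precomp {T T' : Scheme.{u}} (a : T' ⟶ T) (t : T ⟶ S) (h : Fac i i' T t) :
    Fac i i' T' (a ≫ t) := by
  obtain ⟨g, hg⟩ := h
  exact ⟨cmap H a t ≫ g, by rw [Category.assoc, hg, cmap_fst_assoc]⟩

variable [Mono i'.left]

lemma fac_descend {T T' : Scheme.{u}} (a : T' ⟶ T) (t : T ⟶ S) (ha : Qfpqc a)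
    (h : Fac i i' T' (a ≫ t)) : Fac i i' T t := by
  obtain ⟨g', hg'⟩ := h
  have hc : Qfpqc (cmap H a t) :=
    MorphismProperty.of_isPullback (P := Qfpqc) (isPullback_cmap H a t).flip ha
  haveI : Surjective (cmap H a t) := hc.1.1
  haveI : Flat (cmap H a t) := hc.1.2
  haveI : QuasiCompact (cmap H a t) := hc.2
  exact exists_factor_of_effectiveEpi (cmap H a t) i'.left (pullback.fst H.hom t ≫ i.left) g'
    (by rw [hg', cmap_fst_assoc])

lemma fac_local {T : Scheme.{u}} (t : T ⟶ S)
    (h : ∀ x : T, ∃ O : T.Opens, x ∈ O ∧ Fac i i' O (O.ι ≫ t)) : Fac i i' T t := by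
  choose O hxO hO using h
  choose g hg using hO
  haveI : ∀ x : T, IsOpenImmersion (cmap H (O x).ι t) := fun x =>
    MorphismProperty.of_isPullback (P := @IsOpenImmersion) (isPullback_cmap H (O x).ι t).flip
      inferInstance
  let 𝒰 : (pullback H.hom t).OpenCover := {
    I₀ := T
    X x := pullback H.hom ((O x).ι ≫ t)
    f x := cmap H (O x).ι t
    mem₀ := by
      rw [Scheme.presieve₀_mem_precoverage_iff]
      refine ⟨fun y => ⟨pullback.snd H.hom t y, ?_⟩, inferInstance⟩
      obtain ⟨z, hz1, hz2⟩ := Scheme.Pullback.exists_preimage_pullback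
        (f := pullback.snd H.hom t) (g := (O (pullback.snd H.hom t y)).ι) y
        ⟨_, hxO (pullback.snd H.hom t y)⟩ rfl
      refine ⟨(isPullback_cmap H (O (pullback.snd H.hom t y)).ι t).isoPullback.inv z, ?_⟩
      rw [← Scheme.Hom.comp_apply, IsPullback.isoPullback_inv_fst]
      exact hz1 }
  have hcompat : ∀ x y : T, pullback.fst (𝒰.f x) (𝒰.f y) ≫ g x = pullback.snd _ _ ≫ g y := by
    intro x y
    rw [← cancel_mono i'.left, Category.assoc, Category.assoc, hg, hg]
    change pullback.fst (cmap H (O x).ι t) (cmap H (O y).ι t) ≫ _ =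
      pullback.snd (cmap H (O x).ι t) (cmap H (O y).ι t) ≫ _
    rw [← cmap_fst H (O x).ι t, ← cmap_fst H (O y).ι t, Category.assoc, Category.assoc,
      pullback.condition_assoc]
  refine ⟨𝒰.glueMorphisms g hcompat, ?_⟩
  apply 𝒰.hom_ext
  intro x
  rw [Scheme.Cover.ι_glueMorphisms_assoc, hg]
  change _ = cmap H (O x).ι t ≫ _
  rw [cmap_fst_assoc]

/-- **Factoring through a monomorphism is fpqc-local on the base.** -/
theorem exists_factor_of_fpqc_local
    (hloc : ∀ V : S.Opens, IsAffineOpen V → ∃ (T : Scheme.{u}) (c : T ⟶ (V : Scheme.{u})),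
      Qfpqc c ∧ ∀ x : T, ∃ (O : Scheme.{u}) (j : O ⟶ T),
        IsOpenImmersion j ∧ x ∈ Set.range j ∧ Fac i i' O (j ≫ c ≫ V.ι)) :
    ∃ φ : H ⟶ H', φ ≫ i' = i := by
  have h1 : Fac i i' (⊤ : S.Opens) (⊤ : S.Opens).ι := by
    refine of_fpqc_local (Fac i i') (fun a t h => fac_precomp i i' a t h)
      (fun a t ha h => fac_descend i i' a t ha h) (fun t h => fac_local i i' t h) ⊤ ?_
    intro V hV
    obtain ⟨T, c, hc, hx⟩ := hloc V hV
    exact ⟨T, c, hc, fun x _ => hx x⟩
  have h2 : Fac i i' S (𝟙 S) := by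
    have := fac_precomp i i' S.topIso.inv (⊤ : S.Opens).ι h1
    rwa [Scheme.toIso_inv_ι] at this
  obtain ⟨g, hg⟩ := h2
  haveI : IsIso (pullback.fst H.hom (𝟙 S)) := inferInstance
  refine ⟨Over.homMk (inv (pullback.fst H.hom (𝟙 S)) ≫ g) ?_, ?_⟩
  · have h3 : H'.hom = i'.left ≫ G.hom := (Over.w i').symm
    rw [h3, Category.assoc, ← Category.assoc g, hg, Category.assoc, Over.w i, IsIso.inv_hom_id_assoc]
  · apply Over.OverMorphism.ext
    change (inv (pullback.fst H.hom (𝟙 S)) ≫ g) ≫ i'.left = i.left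
    rw [Category.assoc, hg, IsIso.inv_hom_id_assoc]

end Groth.Agent.Lib.R2H3.FactorMono
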