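import Groth.Agent.Lib.R2H3MultFibGeo
import Groth.Agent.Lib.R2H3ActPt

/-!
# Centrality of a homomorphism from a group of multiplicative type is detected on fibres
(helper3, round 2)

`central_of_fibres`: for `u : H ⟶ G` with `H` of multiplicative type and `G` locally of finite type
over `S`, if `u` is central on all fibres then `u` is central.
-/

set_option autoImplicit false
set_option linter.style.haveILetI false
set_option linter.unusedVariables false
set_option linter.unusedSectionVars false

universe u

open CategoryTheory MonoidalCategory CartesianMonoidalCategory MonObj GrpObj AlgebraicGeometry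
  CategoryTheory.Limits
open Groth.Agent.Lib.Helper27.GaGm Groth.Agent.Lib.H6xDSPts

namespace Groth.Agent.Lib.R2H3.MultAct

section Conj

variable {S : Scheme.{u}} {H G : Over S} [GrpObj H] [GrpObj G] (u : H ⟶ G) [IsMonHom u]

/-- the action of `H` on `G` by conjugation through `u`. -/
noncomputable def conjVia : PtAction H G where
  smul {Y} h g := (h ≫ u) * g * (h ≫ u)⁻¹
  one_smul {Y} x := by
    rw [MonObj.one_comp]
    group
  mul_smul {Y} g h x := by
    rw [MonObj.mul_comp]
    group
  comp_smul {Y Y'} k g x := by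
    rw [MonObj.comp_mul, MonObj.comp_mul, GrpObj.comp_inv, Category.assoc]

lemma conjVia_smul {Y : Over S} (h : Y ⟶ H) (g : Y ⟶ G) :
    (conjVia u).smul h g = (h ≫ u) * g * (h ≫ u)⁻¹ := rfl

/-- a `S`-scheme lying over a field valued point of `S` lies over the residue field of a point. -/
theorem IsFib.exists_residue {Y : Over S} (hY : IsFib Y) :
    ∃ (s : S) (X' : Over (Spec (S.residueField s))),
      Nonempty (Y ≅ (Over.map (S.fromSpecResidueField s)).obj X') := by
  obtain ⟨K, _, q, p, hp⟩ := hY
  refine ⟨q (IsLocalRing.closedPoint K),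
    Over.mk (p ≫ Spec.map (S.descResidueField (Scheme.stalkClosedPointTo q))), ⟨?_⟩⟩
  refine Over.isoMk (Iso.refl _) ?_
  simp only [Iso.refl_hom, Category.id_comp, Over.map_obj_hom, Over.mk_hom, Category.assoc]
  rw [Scheme.descResidueField_stalkClosedPointTo_fromSpecResidueField, hp]

lemma adjE_comp_map {W : Scheme.{u}} (w : W ⟶ S) (Y : Over W) (h : Y ⟶ Red.bc w H) :
    adjE w G Y (h ≫ (Over.pullback w).map u) = adjE w H Y h ≫ u :=
  (Over.mapPullbackAdj w).homEquiv_naturality_right_symm h u

include u in
/-- **Centrality on fibres.** -/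
theorem central_of_fibres [LocallyOfFiniteType G.hom]
    (hH : TwC.Locally S TwC.Topology.fpqc (fun S' f => ∃ (M : Type) (_ : AddCommGroup M),
      Nonempty (Grp.mk (Red.bc f H) ≅ Grp.mk (Red.DS S' M))))
    (hfib : ∀ (s : S) (X : Over (Spec (S.residueField s)))
      (g : X ⟶ Red.bc (S.fromSpecResidueField s) G)
      (h : X ⟶ Red.bc (S.fromSpecResidueField s) H),
      g * (h ≫ (Over.pullback (S.fromSpecResidueField s)).map u)
        = (h ≫ (Over.pullback (S.fromSpecResidueField s)).map u) * g)
    (X : Over S) (g : X ⟶ G) (h : X ⟶ H) : g * (h ≫ u) = (h ≫ u) * g := by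
  have h0 : ∀ (Y : Over S), IsFib Y → ∀ (h : Y ⟶ H) (g : Y ⟶ G), (conjVia u).smul h g = g := by
    intro Y hY h g
    obtain ⟨s, X', ⟨e⟩⟩ := hY.exists_residue
    have h1 := hfib s X' ((adjE _ G X').symm (e.inv ≫ g)) ((adjE _ H X').symm (e.inv ≫ h))
    have h2 := congrArg (adjE (S.fromSpecResidueField s) G X') h1
    rw [adjE_mul, adjE_mul, adjE_comp_map, Equiv.apply_symm_apply, Equiv.apply_symm_apply,
      Category.assoc, ← MonObj.comp_mul, ← MonObj.comp_mul] at h2
    have h3 : g * (h ≫ u) = (h ≫ u) * g := (cancel_epi e.inv).mp h2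
    rw [conjVia_smul, ← h3]
    group
  have h1 := PtAction.trivial_of_multType_fib (conjVia u) h0 hH X h g
  rw [conjVia_smul] at h1
  calc g * (h ≫ u) = ((h ≫ u) * g * (h ≫ u)⁻¹) * (h ≫ u) := by rw [h1]
    _ = (h ≫ u) * g := by group

end Conj

end Groth.Agent.Lib.R2H3.MultAct
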