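import Groth.Agent.Lib.R2H3HomLiftLocal
import Groth.Agent.Lib.R2H3FactorMono
import Groth.Agent.Lib.R2H3MultFibCentral

/-!
# Homomorphisms from groups of multiplicative type which factor through a subgroup of
multiplicative type modulo a nilpotent ideal (helper3, round 2)

`exists_factor_of_eq_mod`: over `S = Spec R`, with `J` a nilpotent ideal of `R`, let `i : H ⟶ G`
and `i' : H' ⟶ G` be homomorphisms of `S`-groups with `H`, `H'` of multiplicative type, `i'` a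
monomorphism and one of `i`, `i'` central.  If on the points killing `J` the homomorphism `i`
factors through `i'`, then `i` factors through `i'`.
-/

set_option autoImplicit false
set_option linter.style.haveILetI false
set_option linter.unusedVariables false
set_option linter.unusedSectionVars false

universe u

open CategoryTheory MonoidalCategory CartesianMonoidalCategory MonObj GrpObj AlgebraicGeometry
  CategoryTheory.Limits
open Groth.Agent.Lib.Helper27.GaGm Groth.Agent.Lib.H6xDSPts Groth.Agent.Lib.R2H3.MultAct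
  Groth.Agent.Lib.R2H3.MultHom Groth.Agent.Lib.R2H3.FpqcLocal Groth.Agent.Lib.R2H3.BCDescent
  Groth.Agent.Lib.R2H3.FactorMono

namespace Groth.Agent.Lib.R2H3.HomLift

/-- simultaneous trivialisation, over the affine opens of the base, of two groups of
multiplicative type. -/
theorem exists_common_cover₂ {S : Scheme.{u}} (G H : Over S) [GrpObj G] [GrpObj H]
    (hG : TwC.Locally S TwC.Topology.fpqc (fun S' g => ∃ (M : Type) (_ : AddCommGroup M),
      Nonempty (Grp.mk (Red.bc g G) ≅ Grp.mk (Red.DS S' M))))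
    (hH : TwC.Locally S TwC.Topology.fpqc (fun S' g => ∃ (M : Type) (_ : AddCommGroup M),
      Nonempty (Grp.mk (Red.bc g H) ≅ Grp.mk (Red.DS S' M))))
    (V : S.Opens) (hV : IsAffineOpen V) :
    ∃ (T : Scheme.{u}) (c : T ⟶ (V : Scheme.{u})), Qfpqc c ∧ ∀ x : T, ∃ O : T.Opens, x ∈ O ∧
      ∃ (M N : Type) (_ : AddCommGroup M) (_ : AddCommGroup N),
        Nonempty (Grp.mk (Red.bc (O.ι ≫ c ≫ V.ι) G) ≅ Grp.mk (Red.DS (O : Scheme.{u}) M)) ∧
        Nonempty (Grp.mk (Red.bc (O.ι ≫ c ≫ V.ι) H) ≅ Grp.mk (Red.DS (O : Scheme.{u}) N)) := by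
  obtain ⟨SG, fG, hflG, hsurjG, hqcG, hlocG⟩ := hG
  obtain ⟨SH, fH, hflH, hsurjH, hqcH, hlocH⟩ := hH
  obtain ⟨WG, qG, hqG, ⟨⟨hG1, hG2⟩, hG3⟩⟩ := exists_fpqc_over_affine fG hqcG V hV
  obtain ⟨WH, qH, hqH, ⟨⟨hH1, hH2⟩, hH3⟩⟩ := exists_fpqc_over_affine fH hqcH V hV
  haveI : Surjective qG := hG1
  haveI : Flat qG := hG2
  haveI : QuasiCompact qG := hG3
  haveI : Surjective qH := hH1
  haveI : Flat qH := hH2
  haveI : QuasiCompact qH := hH3
  refine ⟨pullback qG qH, pullback.fst qG qH ≫ qG,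
    ⟨⟨(inferInstance : Surjective (pullback.fst qG qH ≫ qG)),
      (inferInstance : Flat (pullback.fst qG qH ≫ qG))⟩,
      (inferInstance : QuasiCompact (pullback.fst qG qH ≫ qG))⟩, fun x => ?_⟩
  obtain ⟨UG, hxUG, M, instM, ⟨eG⟩⟩ := hlocG (WG.ι ((pullback.fst qG qH) x))
  obtain ⟨UH, hxUH, N, instN, ⟨eH⟩⟩ := hlocH (WH.ι ((pullback.snd qG qH) x))
  obtain ⟨O, hO⟩ : ∃ O : (pullback qG qH).Opens,
      O = (pullback.fst qG qH ≫ WG.ι) ⁻¹ᵁ UG ⊓ (pullback.snd qG qH ≫ WH.ι) ⁻¹ᵁ UH := ⟨_, rfl⟩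
  have hxO : x ∈ O := by
    rw [hO]
    exact ⟨hxUG, hxUH⟩
  have hrG : Set.range (O.ι ≫ pullback.fst qG qH ≫ WG.ι) ⊆ Set.range UG.ι := by
    rintro _ ⟨w, rfl⟩
    rw [Scheme.Opens.range_ι]
    exact (hO.le w.2).1
  have hrH : Set.range (O.ι ≫ pullback.snd qG qH ≫ WH.ι) ⊆ Set.range UH.ι := by
    rintro _ ⟨w, rfl⟩
    rw [Scheme.Opens.range_ι]
    exact (hO.le w.2).2
  obtain ⟨bG, hbG⟩ : ∃ bG : (O : Scheme.{u}) ⟶ (UG : Scheme.{u}),
      bG ≫ UG.ι = O.ι ≫ pullback.fst qG qH ≫ WG.ι :=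
    ⟨IsOpenImmersion.lift UG.ι _ hrG, IsOpenImmersion.lift_fac _ _ _⟩
  obtain ⟨bH, hbH⟩ : ∃ bH : (O : Scheme.{u}) ⟶ (UH : Scheme.{u}),
      bH ≫ UH.ι = O.ι ≫ pullback.snd qG qH ≫ WH.ι :=
    ⟨IsOpenImmersion.lift UH.ι _ hrH, IsOpenImmersion.lift_fac _ _ _⟩
  have hwG : O.ι ≫ (pullback.fst qG qH ≫ qG) ≫ V.ι = bG ≫ UG.ι ≫ fG := by
    rw [← Category.assoc bG, hbG]
    simp only [Category.assoc]
    rw [hqG]
  have hwH : O.ι ≫ (pullback.fst qG qH ≫ qG) ≫ V.ι = bH ≫ UH.ι ≫ fH := by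
    rw [← Category.assoc bH, hbH, pullback.condition]
    simp only [Category.assoc]
    rw [hqH]
  exact ⟨O, hxO, M, N, instM, instN, ⟨bcTriv bG _ _ hwG G M eG⟩, ⟨bcTriv bH _ _ hwH H N eH⟩⟩

section Global

variable {R : Type u} [CommRing R] (J : Ideal R) (hJ : IsNilpotent J)
  {G H H' : Over (Spec (CommRingCat.of R))} [GrpObj G] [GrpObj H] [GrpObj H']
  (i : H ⟶ G) [IsMonHom i] (i' : H' ⟶ G) [IsMonHom i'] [Mono i']
  (hc : (∀ (X : Over (Spec (CommRingCat.of R))) (g : X ⟶ G) (h : X ⟶ H),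
      g * (h ≫ i) = (h ≫ i) * g) ∨
    (∀ (X : Over (Spec (CommRingCat.of R))) (g : X ⟶ G) (h : X ⟶ H'),
      g * (h ≫ i') = (h ≫ i') * g))
  (h0 : ∀ (Y : Over (Spec (CommRingCat.of R))), (∀ r ∈ J, fn Y.hom r = 0) →
    ∀ h : Y ⟶ H, ∃ h' : Y ⟶ H', h' ≫ i' = h ≫ i)

include hJ hc h0 in
open scoped Obj in
/-- the local case: over an affine scheme over which both groups are diagonalisable. -/
theorem fac_of_split {A : Type u} [CommRing A]
    (w : Spec (CommRingCat.of A) ⟶ Spec (CommRingCat.of R)) {M M' : Type} [AddCommGroup M]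
    [AddCommGroup M']
    (e : Grp.mk (Red.bc w H) ≅ Grp.mk (Red.DS (Spec (CommRingCat.of A)) M))
    (e' : Grp.mk (Red.bc w H') ≅ Grp.mk (Red.DS (Spec (CommRingCat.of A)) M')) :
    Fac i i' (Spec (CommRingCat.of A)) w := by
  obtain ⟨φ, hφ⟩ : ∃ φ : R →+* A, φ = ringOf w := ⟨_, rfl⟩
  have hwφ : w = Spec.map (CommRingCat.ofHom φ) := by rw [hφ, specMap_ringOf]
  -- the nilpotent ideal
  have hI : IsNilpotent (J.map φ) := by
    obtain ⟨n, hn⟩ := hJ
    refine ⟨n, ?_⟩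
    rw [← Ideal.map_pow, hn, Ideal.zero_eq_bot, Ideal.map_bot]
    rfl
  -- the homomorphisms of diagonalisable groups
  haveI : IsMonHom ((Over.pullback w).map i) :=
    Functor.map.instIsMonHom (F := Over.pullback w) (f := i)
  haveI : IsMonHom ((Over.pullback w).map i') :=
    Functor.map.instIsMonHom (F := Over.pullback w) (f := i')
  obtain ⟨ei, hei⟩ : ∃ ei : Red.DS (Spec (CommRingCat.of A)) M ⟶ Red.bc w H,
      ei = e.inv.hom.hom := ⟨_, rfl⟩
  obtain ⟨eh, heh⟩ : ∃ eh : Red.bc w H ⟶ Red.DS (Spec (CommRingCat.of A)) M,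
      eh = e.hom.hom.hom := ⟨_, rfl⟩
  obtain ⟨ei', hei'⟩ : ∃ ei' : Red.DS (Spec (CommRingCat.of A)) M' ⟶ Red.bc w H',
      ei' = e'.inv.hom.hom := ⟨_, rfl⟩
  obtain ⟨eh', heh'⟩ : ∃ eh' : Red.bc w H' ⟶ Red.DS (Spec (CommRingCat.of A)) M',
      eh' = e'.hom.hom.hom := ⟨_, rfl⟩
  haveI : IsMonHom ei := by rw [hei]; infer_instance
  haveI : IsMonHom ei' := by rw [hei']; infer_instance
  have hehi : eh ≫ ei = 𝟙 _ := by
    rw [hei, heh, ← Grp.comp_hom_hom, e.hom_inv_id, Grp.id_hom_hom]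
  have hehi' : eh' ≫ ei' = 𝟙 _ := by
    rw [hei', heh', ← Grp.comp_hom_hom, e'.hom_inv_id, Grp.id_hom_hom]
  have heih' : ei' ≫ eh' = 𝟙 _ := by
    rw [hei', heh', ← Grp.comp_hom_hom, e'.inv_hom_id, Grp.id_hom_hom]
  haveI : Mono ei' := ⟨fun a b hab => by
    have := congrArg (fun k => k ≫ eh') hab
    simpa only [Category.assoc, heih', Category.comp_id] using this⟩
  haveI : Mono ((Over.pullback w).map i') := inferInstance
  obtain ⟨u, hu⟩ : ∃ u : Red.DS (Spec (CommRingCat.of A)) M ⟶ Red.bc w G,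
      u = ei ≫ (Over.pullback w).map i := ⟨_, rfl⟩
  obtain ⟨v, hv⟩ : ∃ v : Red.DS (Spec (CommRingCat.of A)) M' ⟶ Red.bc w G,
      v = ei' ≫ (Over.pullback w).map i' := ⟨_, rfl⟩
  haveI : IsMonHom u := by rw [hu]; infer_instance
  haveI : IsMonHom v := by rw [hv]; infer_instance
  haveI : Mono v := by rw [hv]; exact mono_comp _ _
  -- centrality
  have hcw : (∀ (Y : Over (Spec (CommRingCat.of A))) (g : Y ⟶ Red.bc w G)
        (y : Y ⟶ Red.DS (Spec (CommRingCat.of A)) M), g * (y ≫ u) = (y ≫ u) * g) ∨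
      (∀ (Y : Over (Spec (CommRingCat.of A))) (g : Y ⟶ Red.bc w G)
        (y : Y ⟶ Red.DS (Spec (CommRingCat.of A)) M'), g * (y ≫ v) = (y ≫ v) * g) := by
    rcases hc with hc | hc
    · refine Or.inl (fun Y g y => ?_)
      apply (adjE w G Y).injective
      rw [adjE_mul, adjE_mul, hu, ← Category.assoc, adjE_comp_map]
      exact hc _ _ _
    · refine Or.inr (fun Y g y => ?_)
      apply (adjE w G Y).injective
      rw [adjE_mul, adjE_mul, hv, ← Category.assoc, adjE_comp_map]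
      exact hc _ _ _
  -- the factorisation on the points killing the ideal
  have h0w : ∀ (Y : Over (Spec (CommRingCat.of A))), (∀ a ∈ J.map φ, fn Y.hom a = 0) →
      ∀ y : Y ⟶ Red.DS (Spec (CommRingCat.of A)) M,
        ∃ y' : Y ⟶ Red.DS (Spec (CommRingCat.of A)) M', y' ≫ v = y ≫ u := by
    intro Y hY y
    have hYJ : ∀ r ∈ J, fn ((Over.map w).obj Y).hom r = 0 := by
      intro r hr
      change fn (Y.hom ≫ w) r = 0
      rw [hwφ, fn_specMap]
      exact hY _ (Ideal.mem_map_of_mem φ hr)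
    obtain ⟨h', hh'⟩ := h0 ((Over.map w).obj Y) hYJ (adjE w H Y (y ≫ ei))
    refine ⟨(adjE w H' Y).symm h' ≫ eh', ?_⟩
    rw [hv, Category.assoc, ← Category.assoc eh', hehi', Category.id_comp]
    apply (adjE w G Y).injective
    rw [adjE_comp_map, Equiv.apply_symm_apply, hh', hu, ← Category.assoc, adjE_comp_map]
  obtain ⟨ψ, hψ⟩ := exists_factor_local (J.map φ) hI u v hcw h0w
  -- conclusion
  refine ⟨(eh ≫ ψ ≫ ei').left ≫ pullback.fst H'.hom w, ?_⟩
  have h1 : (eh ≫ ψ ≫ ei') ≫ (Over.pullback w).map i' = (Over.pullback w).map i := by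
    rw [Category.assoc, Category.assoc, ← hv, hψ, hu, ← Category.assoc, hehi, Category.id_comp]
  rw [Category.assoc, ← pullback_map_left_fst i' w, ← Category.assoc, ← Over.comp_left, h1]
  exact pullback_map_left_fst i w

include hJ hc h0 in
/-- **Factoring modulo a nilpotent ideal.** -/
theorem exists_factor_of_eq_mod
    (hH : TwC.Locally (Spec (CommRingCat.of R)) TwC.Topology.fpqc
      (fun S' f => ∃ (M : Type) (_ : AddCommGroup M),
        Nonempty (Grp.mk (Red.bc f H) ≅ Grp.mk (Red.DS S' M))))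
    (hH' : TwC.Locally (Spec (CommRingCat.of R)) TwC.Topology.fpqc
      (fun S' f => ∃ (M : Type) (_ : AddCommGroup M),
        Nonempty (Grp.mk (Red.bc f H') ≅ Grp.mk (Red.DS S' M)))) :
    ∃ φ : H ⟶ H', φ ≫ i' = i := by
  haveI : Mono i'.left := inferInstance
  apply exists_factor_of_fpqc_local i i'
  intro V hV
  obtain ⟨T, c, hc', hx⟩ := exists_common_cover₂ H H' hH hH' V hV
  refine ⟨T, c, hc', fun x => ?_⟩
  obtain ⟨O, hxO, M, M', instM, instM', ⟨e⟩, ⟨e'⟩⟩ := hx x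
  -- an affine chart inside `O`
  obtain ⟨U, hU, hxU, hUO⟩ := TopologicalSpace.Opens.isBasis_iff_nbhd.mp
    (T.isBasis_affineOpens) (U := O) (x := x) hxO
  have hrange : Set.range hU.fromSpec ⊆ Set.range O.ι := by
    rw [hU.range_fromSpec, Scheme.Opens.range_ι]
    exact hUO
  obtain ⟨b, hb⟩ : ∃ b : Spec (CommRingCat.of Γ(T, U)) ⟶ (O : Scheme.{u}),
      b ≫ O.ι = hU.fromSpec :=
    ⟨IsOpenImmersion.lift O.ι _ hrange, IsOpenImmersion.lift_fac _ _ _⟩
  refine ⟨Spec (CommRingCat.of Γ(T, U)), hU.fromSpec, inferInstance, ?_, ?_⟩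
  · rw [hU.range_fromSpec]
    exact hxU
  · have hw : hU.fromSpec ≫ c ≫ V.ι = b ≫ O.ι ≫ c ≫ V.ι := by rw [← Category.assoc b, hb]
    exact fac_of_split J hJ i i' hc h0 _ (bcTriv b _ _ hw H M e) (bcTriv b _ _ hw H' M' e')

end Global

section ModJ

variable {R : Type u} [CommRing R] (J : Ideal R)
  {G H H' : Over (Spec (CommRingCat.of R))} [GrpObj G] [GrpObj H] [GrpObj H']
  (i : H ⟶ G) [IsMonHom i] (i' : H' ⟶ G) [IsMonHom i']

/-- a morphism between the base changes to `Spec (R ⧸ J)` compatible with `i` and `i'` gives the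
factorisation of `i` through `i'` on the points killing `J`. -/
theorem exists_pt_of_bcHom
    (ψ : Red.bc (Spec.map (CommRingCat.ofHom (Ideal.Quotient.mk J))) H ⟶
      Red.bc (Spec.map (CommRingCat.ofHom (Ideal.Quotient.mk J))) H')
    (hψ : ψ ≫ (Over.pullback (Spec.map (CommRingCat.ofHom (Ideal.Quotient.mk J)))).map i' =
      (Over.pullback (Spec.map (CommRingCat.ofHom (Ideal.Quotient.mk J)))).map i)
    (Y : Over (Spec (CommRingCat.of R))) (hY : ∀ r ∈ J, fn Y.hom r = 0) (h : Y ⟶ H) :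
    ∃ h' : Y ⟶ H', h' ≫ i' = h ≫ i := by
  obtain ⟨θ, hθ⟩ : ∃ θ : R ⧸ J →+* Γ(Y.left, ⊤), ∀ r, θ (Ideal.Quotient.mk J r) = fn Y.hom r :=
    ⟨Ideal.Quotient.lift J (fnHom Y.hom) (fun r hr => by rw [← fn_eq]; exact hY r hr),
      fun r => by rw [Ideal.Quotient.lift_mk, fn_eq]⟩
  obtain ⟨p, hp⟩ := fn_surj (Y := Y.left) θ
  have hpι : p ≫ Spec.map (CommRingCat.ofHom (Ideal.Quotient.mk J)) = Y.hom := by
    apply fn_ext
    intro r
    rw [fn_specMap, hp, hθ]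
  obtain ⟨k, hk⟩ : ∃ k : (Over.map (Spec.map (CommRingCat.ofHom (Ideal.Quotient.mk J)))).obj
      (Over.mk p) ⟶ Y, k.left = 𝟙 _ :=
    ⟨Over.homMk (𝟙 _) (by simp [hpι]), rfl⟩
  obtain ⟨k', hk'⟩ : ∃ k' : Y ⟶ (Over.map (Spec.map (CommRingCat.ofHom
      (Ideal.Quotient.mk J)))).obj (Over.mk p), k'.left = 𝟙 _ :=
    ⟨Over.homMk (𝟙 _) (by simp [hpι]), rfl⟩
  have hk'k : k' ≫ k = 𝟙 Y := by
    apply Over.OverMorphism.ext
    rw [Over.comp_left, hk, hk']
    exact Category.comp_id _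
  refine ⟨k' ≫ adjE _ H' (Over.mk p) ((adjE _ H (Over.mk p)).symm (k ≫ h) ≫ ψ), ?_⟩
  rw [Category.assoc, ← adjE_comp_map, Category.assoc, hψ, adjE_comp_map, Equiv.apply_symm_apply,
    ← Category.assoc, ← Category.assoc, hk'k, Category.id_comp]

end ModJ

end Groth.Agent.Lib.R2H3.HomLift
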