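import Groth.Agent.Lib.R2H3UnitLocusLocal
import Groth.Agent.Lib.R2H3ClopenLocus
import Groth.Agent.Lib.R2H3DiagIso
import Groth.Agent.Lib.R2H3HomLiftMain

/-!
# The unit locus of a homomorphism from a group of multiplicative type (helper3, round 2)

Let `u : H ⟶ G` be a homomorphism of `S`-groups with `H` of multiplicative type, and suppose that
the condition `u(y) = 1` on the points of `H` is represented by a closed subscheme of `H` locally
of finite presentation (e.g. the kernel of `u`, if `G` is separated and locally of finite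
presentation over `S`, or `S` is locally Noetherian).  Then the set of points `s` of `S` such
that `u_s` is trivial is open and closed, and `u` is trivial above it
(`exists_clopen_unit_locus`).
-/

set_option autoImplicit false
set_option linter.style.haveILetI false
set_option linter.unusedVariables false
set_option linter.unusedSectionVars false

universe u

open CategoryTheory MonoidalCategory CartesianMonoidalCategory MonObj GrpObj AlgebraicGeometry
  CategoryTheory.Limits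
open Groth.Agent.Lib.Helper27.GaGm Groth.Agent.Lib.H6xDSPts Groth.Agent.Lib.R2H3.MultAct
  Groth.Agent.Lib.R2H3.MultHom Groth.Agent.Lib.R2H3.HomLift Groth.Agent.Lib.R2H3.FpqcLocal
  Groth.Agent.Lib.R2H3.DiagIso

namespace Groth.Agent.Lib.R2H3.UnitLocus

/-- a closed immersion locally of finite presentation into an affine scheme is cut out by a
finitely generated ideal. -/
theorem exists_ideal_of_closedImmersion {A : Type u} [CommRing A] {K : Scheme.{u}}
    (κ : K ⟶ Spec (CommRingCat.of A)) [IsClosedImmersion κ] [LocallyOfFinitePresentation κ] :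
    ∃ I : Ideal A, I.FG ∧ ∀ (Z : Scheme.{u}) (z : Z ⟶ Spec (CommRingCat.of A)),
      (∃ z' : Z ⟶ K, z' ≫ κ = z) ↔ ∀ i ∈ I, fn z i = 0 := by
  obtain ⟨I, e, he⟩ := (IsClosedImmersion.Spec_iff (R := CommRingCat.of A) (f := κ)).mp
    inferInstance
  refine ⟨I, ?_, fun Z z => ⟨?_, ?_⟩⟩
  · have h1 : LocallyOfFinitePresentation
        (Spec.map (CommRingCat.ofHom (Ideal.Quotient.mk I))) := by
      have : Spec.map (CommRingCat.ofHom (Ideal.Quotient.mk I)) = e.inv ≫ κ := by
        rw [he, Iso.inv_hom_id_assoc]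
      rw [this]
      infer_instance
    rw [LocallyOfFinitePresentation.SpecMap_iff] at h1
    have h2 : (algebraMap A (A ⧸ I)).FinitePresentation := h1
    rw [RingHom.finitePresentation_algebraMap] at h2
    have h3 := Algebra.FinitePresentation.ker_fG_of_surjective (Ideal.Quotient.mkₐ A I)
      (Ideal.Quotient.mkₐ_surjective A I)
    have h4 : RingHom.ker (Ideal.Quotient.mkₐ A I).toRingHom = I := Ideal.Quotient.mkₐ_ker A I
    rw [h4] at h3
    exact h3
  · rintro ⟨z', rfl⟩ i hi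
    rw [he, ← Category.assoc, fn_specMap, Ideal.Quotient.eq_zero_iff_mem.mpr hi, fn_eq, map_zero]
  · intro hz
    obtain ⟨θ, hθ⟩ : ∃ θ : A ⧸ I →+* Γ(Z, ⊤), ∀ r, θ (Ideal.Quotient.mk I r) = fn z r :=
      ⟨Ideal.Quotient.lift I (fnHom z) (fun r hr => by rw [← fn_eq]; exact hz r hr),
        fun r => by rw [Ideal.Quotient.lift_mk, fn_eq]⟩
    obtain ⟨p, hp⟩ := fn_surj (Y := Z) θ
    refine ⟨p ≫ e.inv, ?_⟩
    rw [he, Category.assoc, Iso.inv_hom_id_assoc]
    apply fn_ext
    intro r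
    rw [fn_specMap, hp, hθ]

section Global

variable {S : Scheme.{u}} {H G : Over S} [GrpObj H] [GrpObj G] (u : H ⟶ G) [IsMonHom u]

/-- `u` is trivial on the points of `H` lying over `t : T ⟶ S`. -/
def TrivS (T : Scheme.{u}) (t : T ⟶ S) : Prop :=
  ∀ (Y : Over S) (a : Y.left ⟶ T), a ≫ t = Y.hom → ∀ y : Y ⟶ H, y ≫ u = 1

lemma trivS_precomp {T T' : Scheme.{u}} (a : T' ⟶ T) (t : T ⟶ S) (h : TrivS u T t) :
    TrivS u T' (a ≫ t) := fun Y b hb y => h Y (b ≫ a) (by rw [Category.assoc, hb]) y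

lemma trivS_descend {T T' : Scheme.{u}} (a : T' ⟶ T) (t : T ⟶ S) (ha : Qfpqc a)
    (h : TrivS u T' (a ≫ t)) : TrivS u T t := by
  intro Y b hb y
  have hq : Qfpqc (pullback.fst b a) := MorphismProperty.pullback_fst (P := Qfpqc) b a ha
  haveI : Surjective (pullback.fst b a) := hq.1.1
  haveI : Flat (pullback.fst b a) := hq.1.2
  haveI : Epi (pullback.fst b a) := Flat.epi_of_flat_of_surjective _
  obtain ⟨k, hk⟩ : ∃ k : Over.mk (pullback.fst b a ≫ Y.hom) ⟶ Y, k.left = pullback.fst b a :=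
    ⟨Over.homMk (pullback.fst b a) rfl, rfl⟩
  have h1 := h (Over.mk (pullback.fst b a ≫ Y.hom)) (pullback.snd b a) (by
    change pullback.snd b a ≫ a ≫ t = pullback.fst b a ≫ Y.hom
    rw [← Category.assoc, ← pullback.condition, Category.assoc, hb]) (k ≫ y)
  have h2 : k ≫ (y ≫ u) = k ≫ 1 := by rw [MonObj.comp_one, ← Category.assoc, h1]
  have h3 := congrArg (fun z => z.left) h2
  simp only [Over.comp_left, hk] at h3
  exact Over.OverMorphism.ext ((cancel_epi _).mp h3)

lemma trivS_local {T : Scheme.{u}} (t : T ⟶ S)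
    (h : ∀ x : T, ∃ O : T.Opens, x ∈ O ∧ TrivS u O (O.ι ≫ t)) : TrivS u T t := by
  intro Y b hb y
  apply Over.OverMorphism.ext
  apply Scheme.hom_ext_of_forall
  intro p
  obtain ⟨O, hpO, hO⟩ := h (b p)
  refine ⟨b ⁻¹ᵁ O, hpO, ?_⟩
  obtain ⟨k, hk⟩ : ∃ k : Over.mk ((b ⁻¹ᵁ O).ι ≫ Y.hom) ⟶ Y, k.left = (b ⁻¹ᵁ O).ι :=
    ⟨Over.homMk (b ⁻¹ᵁ O).ι rfl, rfl⟩
  have h1 := hO (Over.mk ((b ⁻¹ᵁ O).ι ≫ Y.hom)) (b.resLE O (b ⁻¹ᵁ O) le_rfl) (by
    change b.resLE O (b ⁻¹ᵁ O) le_rfl ≫ O.ι ≫ t = (b ⁻¹ᵁ O).ι ≫ Y.hom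
    rw [← Category.assoc, Scheme.Hom.resLE_comp_ι, Category.assoc, hb]) (k ≫ y)
  have h2 : k ≫ (y ≫ u) = k ≫ 1 := by rw [MonObj.comp_one, ← Category.assoc, h1]
  have h3 := congrArg (fun z => z.left) h2
  simp only [Over.comp_left, hk] at h3
  exact h3

/-- triviality on points and triviality of the base change. -/
lemma trivS_iff {T : Scheme.{u}} (t : T ⟶ S) :
    TrivS u T t ↔ (Over.pullback t).map u = 1 := by
  constructor
  · intro h
    have h1 := h ((Over.map t).obj (Red.bc t H)) (Red.bc t H).hom rfl (adjE t H _ (𝟙 _))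
    apply (adjE t G _).injective
    rw [adjE_one, ← h1, ← adjE_comp_map, Category.id_comp]
  · intro h Y a ha y
    obtain ⟨k, hk⟩ : ∃ k : (Over.map t).obj (Over.mk a) ⟶ Y, k.left = 𝟙 _ :=
      ⟨Over.homMk (𝟙 _) (by simp [ha]), rfl⟩
    haveI : IsIso k.left := by rw [hk]; infer_instance
    haveI : IsIso k := by
      haveI : IsIso ((Over.forget _).map k) := ‹IsIso k.left›
      exact isIso_of_reflects_iso k (Over.forget _)
    have h1 : adjE t G (Over.mk a) ((adjE t H (Over.mk a)).symm (k ≫ y) ≫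
        (Over.pullback t).map u) = 1 := by
      rw [h, MonObj.comp_one, adjE_one]
    rw [adjE_comp_map, Equiv.apply_symm_apply, Category.assoc] at h1
    rw [← cancel_epi k, h1, MonObj.comp_one]

section Split

variable {K : Scheme.{u}} (k : K ⟶ H.left) [IsClosedImmersion k] [LocallyOfFinitePresentation k]
  (hK : ∀ (Y : Over S) (y : Y ⟶ H), y ≫ u = 1 ↔ ∃ z : Y.left ⟶ K, z ≫ k = y.left)

instance isIso_toDiagLeft (A : Type u) [CommRing A] (M : Type) [AddCommGroup M] :
    IsIso (toDiagLeft A M) :=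
  ⟨(ofDiag A M).left, by
    have h := congrArg (fun z => z.left) (toDiag_ofDiag A M)
    exact h, by
    have h := congrArg (fun z => z.left) (ofDiag_toDiag A M)
    exact h⟩

lemma fn_comp_toDiagLeft {A : Type u} [CommRing A] {M : Type} [AddCommGroup M]
    {Y : Over (Spec (CommRingCat.of A))} (y : Y ⟶ Red.DS (Spec (CommRingCat.of A)) M)
    (i : MonoidAlgebra A (Multiplicative M)) :
    fn (y.left ≫ toDiagLeft A M) i = liftHom (fnHom Y.hom) (chiOf y) i := by
  rw [fn_comp, fn_toDiagLeft]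
  unfold toDiagHom
  have h := liftHom_nat (y.left.appTop.hom : Γ((Red.DS (Spec (CommRingCat.of A)) M).left, ⊤) →+*
    Γ(Y.left, ⊤)) (fnHom (Red.DS (Spec (CommRingCat.of A)) M).hom)
    (chiOf (𝟙 (Red.DS (Spec (CommRingCat.of A)) M))) i
  have h1 : (y.left.appTop.hom : Γ((Red.DS (Spec (CommRingCat.of A)) M).left, ⊤) →+*
      Γ(Y.left, ⊤)).comp (fnHom (Red.DS (Spec (CommRingCat.of A)) M).hom) = fnHom Y.hom := by
    rw [← fnHom_comp, Over.w y]
  have h2 : ((y.left.appTop.hom : Γ((Red.DS (Spec (CommRingCat.of A)) M).left, ⊤) →+*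
      Γ(Y.left, ⊤)) : _ →* _).comp (chiOf (𝟙 (Red.DS (Spec (CommRingCat.of A)) M))) =
      chiOf y := by
    rw [← chiOf_comp, Category.comp_id]
  rw [h1, h2] at h
  exact h.symm

include hK in
open scoped Obj in
/-- the case of a base over which `H` is diagonalisable. -/
theorem exists_clopen_split {A : Type u} [CommRing A] (w : Spec (CommRingCat.of A) ⟶ S)
    {M : Type} [AddCommGroup M]
    (e : Grp.mk (Red.bc w H) ≅ Grp.mk (Red.DS (Spec (CommRingCat.of A)) M)) :
    ∃ Z : Set (Spec (CommRingCat.of A)), IsClopen Z ∧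
      (∀ (Y : Scheme.{u}) (y : Y ⟶ Spec (CommRingCat.of A)),
        Set.range y ⊆ Z → TrivS u Y (y ≫ w)) ∧
      (∀ (L : Type u) [Field L] (y : Spec (CommRingCat.of L) ⟶ Spec (CommRingCat.of A)),
        TrivS u (Spec (CommRingCat.of L)) (y ≫ w) → Set.range y ⊆ Z) := by
  haveI : IsMonHom ((Over.pullback w).map u) :=
    Functor.map.instIsMonHom (F := Over.pullback w) (f := u)
  obtain ⟨ei, hei⟩ : ∃ ei : Red.DS (Spec (CommRingCat.of A)) M ⟶ Red.bc w H,
      ei = e.inv.hom.hom := ⟨_, rfl⟩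
  obtain ⟨eh, heh⟩ : ∃ eh : Red.bc w H ⟶ Red.DS (Spec (CommRingCat.of A)) M,
      eh = e.hom.hom.hom := ⟨_, rfl⟩
  haveI : IsMonHom ei := by rw [hei]; infer_instance
  have hehi : eh ≫ ei = 𝟙 _ := by
    rw [hei, heh, ← Grp.comp_hom_hom, e.hom_inv_id, Grp.id_hom_hom]
  have heih : ei ≫ eh = 𝟙 _ := by
    rw [hei, heh, ← Grp.comp_hom_hom, e.inv_hom_id, Grp.id_hom_hom]
  obtain ⟨uW, huW⟩ : ∃ uW : Red.DS (Spec (CommRingCat.of A)) M ⟶ Red.bc w G,
      uW = ei ≫ (Over.pullback w).map u := ⟨_, rfl⟩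
  haveI : IsMonHom uW := by rw [huW]; infer_instance
  -- points of `D_W(M)` and points of `H`
  have hpt : ∀ (Y : Over (Spec (CommRingCat.of A)))
      (y : Y ⟶ Red.DS (Spec (CommRingCat.of A)) M),
      y ≫ uW = 1 ↔ adjE w H Y (y ≫ ei) ≫ u = 1 := by
    intro Y y
    rw [← adjE_comp_map, Category.assoc, ← huW]
    constructor
    · intro h
      rw [h, adjE_one]
    · intro h
      apply (adjE w G Y).injective
      rw [h, adjE_one]
  -- comparison of the two notions of triviality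
  have hcmp : ∀ (T : Scheme.{u}) (a : T ⟶ Spec (CommRingCat.of A)),
      TrivS u T (a ≫ w) ↔ Triv uW T a := by
    intro T a
    constructor
    · intro h Y b hb y
      rw [hpt]
      exact h ((Over.map w).obj Y) b (by
        change b ≫ a ≫ w = Y.hom ≫ w
        rw [← Category.assoc, hb]) _
    · intro h Y b hb y
      obtain ⟨k', hk'⟩ : ∃ k' : (Over.map w).obj (Over.mk (b ≫ a)) ⟶ Y, k'.left = 𝟙 _ :=
        ⟨Over.homMk (𝟙 _) (by simp [hb]), rfl⟩
      haveI : IsIso k'.left := by rw [hk']; infer_instance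
      haveI : IsIso k' := by
        haveI : IsIso ((Over.forget _).map k') := ‹IsIso k'.left›
        exact isIso_of_reflects_iso k' (Over.forget _)
      have h1 := h (Over.mk (b ≫ a)) b rfl ((adjE w H _).symm (k' ≫ y) ≫ eh)
      rw [hpt, Category.assoc, hehi, Category.comp_id, Equiv.apply_symm_apply,
        Category.assoc] at h1
      rw [← cancel_epi k', h1, MonObj.comp_one]
  -- the ideal
  obtain ⟨θ, hθ⟩ : ∃ θ : (Red.bc w H).left ⟶
      Spec (CommRingCat.of (MonoidAlgebra A (Multiplicative M))),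
      θ = eh.left ≫ toDiagLeft A M := ⟨_, rfl⟩
  haveI : IsIso eh.left :=
    ⟨ei.left, by rw [← Over.comp_left, hehi]; rfl, by rw [← Over.comp_left, heih]; rfl⟩
  haveI : IsIso θ := by rw [hθ]; infer_instance
  obtain ⟨I, hfg, hIz⟩ := exists_ideal_of_closedImmersion
    (pullback.snd k (pullback.fst H.hom w) ≫ θ)
  have hI : ∀ (Y : Over (Spec (CommRingCat.of A)))
      (y : Y ⟶ Red.DS (Spec (CommRingCat.of A)) M),
      y ≫ uW = 1 ↔ ∀ i ∈ I, liftHom (fnHom Y.hom) (chiOf y) i = 0 := by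
    intro Y y
    have hleft : (adjE w H Y (y ≫ ei)).left = (y ≫ ei).left ≫ pullback.fst H.hom w := rfl
    have hθy : (y ≫ ei).left ≫ θ = y.left ≫ toDiagLeft A M := by
      rw [hθ, ← Category.assoc, ← Over.comp_left, Category.assoc, heih, Category.comp_id]
    rw [hpt, hK]
    constructor
    · rintro ⟨z, hz⟩ i hi
      rw [← fn_comp_toDiagLeft, ← hθy]
      refine (hIz _ _).mp ⟨pullback.lift z (y ≫ ei).left (by rw [hz, hleft]), ?_⟩ i hi
      rw [← Category.assoc, pullback.lift_snd]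
    · intro h
      have h1 : ∀ i ∈ I, fn ((y ≫ ei).left ≫ θ) i = 0 := by
        intro i hi
        rw [hθy, fn_comp_toDiagLeft]
        exact h i hi
      obtain ⟨z', hz'⟩ := (hIz _ _).mpr h1
      refine ⟨z' ≫ pullback.fst k (pullback.fst H.hom w), ?_⟩
      have hz'' : z' ≫ pullback.snd k (pullback.fst H.hom w) = (y ≫ ei).left :=
        (cancel_mono θ).mp (by simpa only [Category.assoc] using hz')
      rw [Category.assoc, pullback.condition, ← Category.assoc, hz'', hleft]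
  obtain ⟨Z, hZ, h1, h2⟩ := exists_clopen uW I hI hfg
  exact ⟨Z, hZ, fun Y y hy => (hcmp Y y).mpr (h1 Y y hy),
    fun L _ y hy => h2 L y ((hcmp _ y).mp hy)⟩

include hK in
/-- **The unit locus is open and closed.** -/
theorem exists_clopen_unit_locus
    (hH : TwC.Locally S TwC.Topology.fpqc (fun S' f => ∃ (M : Type) (_ : AddCommGroup M),
      Nonempty (Grp.mk (Red.bc f H) ≅ Grp.mk (Red.DS S' M)))) :
    ∃ U : S.Opens, IsClosed (U : Set S) ∧
      (∀ s : S, s ∈ U ↔ TrivS u (Spec (S.residueField s)) (S.fromSpecResidueField s)) ∧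
      TrivS u U U.ι := by
  apply Groth.Agent.Lib.R2H3.ClopenLocus.exists_clopen_of_fpqc_local (TrivS u)
    (fun a t h => trivS_precomp u a t h) (fun a t ha h => trivS_descend u a t ha h)
    (fun t h => trivS_local u t h)
  intro V hV
  obtain ⟨T, c, hc', hx⟩ := exists_common_cover₂ H H hH hH V hV
  refine ⟨T, c, hc', fun x => ?_⟩
  obtain ⟨O, hxO, M, M', instM, instM', ⟨e⟩, -⟩ := hx x
  obtain ⟨U, hU, hxU, hUO⟩ := TopologicalSpace.Opens.isBasis_iff_nbhd.mp
    (T.isBasis_affineOpens) (U := O) (x := x) hxO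
  have hrange : Set.range hU.fromSpec ⊆ Set.range O.ι := by
    rw [hU.range_fromSpec, Scheme.Opens.range_ι]
    exact hUO
  obtain ⟨b, hb⟩ : ∃ b : Spec (CommRingCat.of Γ(T, U)) ⟶ (O : Scheme.{u}),
      b ≫ O.ι = hU.fromSpec :=
    ⟨IsOpenImmersion.lift O.ι _ hrange, IsOpenImmersion.lift_fac _ _ _⟩
  have hw : hU.fromSpec ≫ c ≫ V.ι = b ≫ O.ι ≫ c ≫ V.ι := by rw [← Category.assoc b, hb]
  refine ⟨Spec (CommRingCat.of Γ(T, U)), hU.fromSpec, inferInstance, ?_, ?_⟩
  · rw [hU.range_fromSpec]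
    exact hxU
  · obtain ⟨Z, hZ, h1, h2⟩ := exists_clopen_split u k hK (hU.fromSpec ≫ c ≫ V.ι)
      (bcTriv b _ _ hw H M e)
    exact ⟨Z, hZ, fun Y y hy => by simpa only [Category.assoc] using h1 Y y hy,
      fun L _ y hy => h2 L y (by simpa only [Category.assoc] using hy)⟩

end Split

end Global

end Groth.Agent.Lib.R2H3.UnitLocus
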