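import Groth.Agent.Lib.R2H3EqLocusLocal
import Groth.Agent.Lib.R2H3UnitLocus
import Groth.Agent.Lib.Helper8FixedPt

/-!
# The locus where two subgroups of multiplicative type coincide (helper3, round 2)

Let `G` be an `S`-group separated over `S`, `i₁ : H₁ ⟶ G`, `i₂ : H₂ ⟶ G` two monomorphisms of
`S`-groups with `H₁`, `H₂` of multiplicative type and `i₁` central.  Suppose that the condition
`i₁(z₁) = i₂(z₂)` on the points of `H₁ ×_S H₂` is represented by a closed subscheme locally of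
finite presentation (e.g. `S` locally Noetherian, or `G` locally of finite presentation).  Then
the set of points `s` of `S` such that `(H₁)_s = (H₂)_s` as subgroups of `G_s` is open and closed,
and `H₁ = H₂` above it (`exists_clopen_eq_locus`).
-/

set_option autoImplicit false
set_option linter.style.haveILetI false
set_option linter.unusedVariables false
set_option linter.unusedSectionVars false

universe u

open CategoryTheory MonoidalCategory CartesianMonoidalCategory MonObj GrpObj AlgebraicGeometry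
  CategoryTheory.Limits
open Groth.Agent.Lib.Helper27.GaGm Groth.Agent.Lib.H6xDSPts Groth.Agent.Lib.R2H3.MultAct
  Groth.Agent.Lib.R2H3.MultHom Groth.Agent.Lib.R2H3.HomLift Groth.Agent.Lib.R2H3.FpqcLocal
  Groth.Agent.Lib.R2H3.DiagIso Groth.Agent.Lib.R2H3.UnitLocus Groth.Agent.Lib.R2H3.FactorMono
  Groth.Agent.Lib.R2H3.BCDescent

namespace Groth.Agent.Lib.R2H3.EqLocus

section Points

variable {S : Scheme.{u}} {H H' G : Over S} (i : H ⟶ G) (i' : H' ⟶ G)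

/-- the points of `H` lying over `t : T ⟶ S` have their image under `i` in the image of `i'`. -/
def FacPt (T : Scheme.{u}) (t : T ⟶ S) : Prop :=
  ∀ (Y : Over S) (a : Y.left ⟶ T), a ≫ t = Y.hom →
    ∀ h : Y ⟶ H, ∃ h' : Y ⟶ H', h' ≫ i' = h ≫ i

lemma facPt_of_fac {T : Scheme.{u}} (t : T ⟶ S) (hf : Fac i i' T t) : FacPt i i' T t := by
  obtain ⟨g, hg⟩ := hf
  intro Y a ha h
  have hl : h.left ≫ H.hom = a ≫ t := by rw [Over.w h, ha]
  have hg' : g ≫ H'.hom = pullback.fst H.hom t ≫ H.hom := by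
    rw [← Over.w i', ← Category.assoc, hg, Category.assoc, Over.w i]
  refine ⟨Over.homMk (pullback.lift h.left a hl ≫ g) ?_, ?_⟩
  · rw [Category.assoc, hg', pullback.lift_fst_assoc, Over.w h]
  · apply Over.OverMorphism.ext
    change (pullback.lift h.left a hl ≫ g) ≫ i'.left = h.left ≫ i.left
    rw [Category.assoc, hg, pullback.lift_fst_assoc]

lemma fac_of_facPt {T : Scheme.{u}} (t : T ⟶ S) (hf : FacPt i i' T t) : Fac i i' T t := by
  obtain ⟨h', hh'⟩ := hf (Over.mk (pullback.fst H.hom t ≫ H.hom)) (pullback.snd H.hom t)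
    (pullback.condition.symm) (Over.homMk (pullback.fst H.hom t) rfl)
  refine ⟨h'.left, ?_⟩
  have h1 := congrArg (fun z => z.left) hh'
  exact h1

lemma fac_iff_facPt {T : Scheme.{u}} (t : T ⟶ S) : Fac i i' T t ↔ FacPt i i' T t :=
  ⟨facPt_of_fac i i' t, fac_of_facPt i i' t⟩

end Points

section LocalCmp

variable {S : Scheme.{u}} {H H' G : Over S} (i : H ⟶ G) (i' : H' ⟶ G)
  {W : Scheme.{u}} (w : W ⟶ S) {D D' : Over W}
  (ei : D ⟶ Red.bc w H) (eh : Red.bc w H ⟶ D)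
  (ei' : D' ⟶ Red.bc w H') (eh' : Red.bc w H' ⟶ D')

lemma adjE_comp_map₀ {A B : Over S} (F : A ⟶ B) (Y : Over W) (h : Y ⟶ Red.bc w A) :
    adjE w B Y (h ≫ (Over.pullback w).map F) = adjE w A Y h ≫ F :=
  (Over.mapPullbackAdj w).homEquiv_naturality_right_symm h F

/-- the points of `D` lying over `t : T ⟶ W` have their image under `j` in the image of `j'`. -/
def PtLoc {Gw : Over W} (j : D ⟶ Gw) (j' : D' ⟶ Gw) (T : Scheme.{u}) (t : T ⟶ W) : Prop :=
  ∀ (Y : Over W) (b : Y.left ⟶ T), b ≫ t = Y.hom →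
    ∀ h₁ : Y ⟶ D, ∃ h₂ : Y ⟶ D', h₂ ≫ j' = h₁ ≫ j

include eh' in
lemma ptLoc_of_facPt (hehi' : eh' ≫ ei' = 𝟙 _) {T : Scheme.{u}} (t : T ⟶ W)
    (hf : FacPt i i' T (t ≫ w)) :
    PtLoc (ei ≫ (Over.pullback w).map i) (ei' ≫ (Over.pullback w).map i') T t := by
  intro Y b hb h₁
  obtain ⟨h', hh'⟩ := hf ((Over.map w).obj Y) b (by
    change b ≫ t ≫ w = Y.hom ≫ w
    rw [← Category.assoc, hb]) (adjE w H Y (h₁ ≫ ei))
  refine ⟨(adjE w H' Y).symm h' ≫ eh', ?_⟩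
  rw [Category.assoc, ← Category.assoc eh', hehi', Category.id_comp]
  apply (adjE w G Y).injective
  rw [adjE_comp_map₀, Equiv.apply_symm_apply, hh', ← Category.assoc, adjE_comp_map₀]

include eh in
lemma facPt_of_ptLoc (hehi : eh ≫ ei = 𝟙 _) {T : Scheme.{u}} (t : T ⟶ W)
    (hp : PtLoc (ei ≫ (Over.pullback w).map i) (ei' ≫ (Over.pullback w).map i') T t) :
    FacPt i i' T (t ≫ w) := by
  intro Y a ha h
  obtain ⟨k', hk'⟩ : ∃ k' : (Over.map w).obj (Over.mk (a ≫ t)) ⟶ Y, k'.left = 𝟙 _ :=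
    ⟨Over.homMk (𝟙 _) (by simp [ha]), rfl⟩
  haveI : IsIso k'.left := by rw [hk']; infer_instance
  haveI : IsIso k' := by
    haveI : IsIso ((Over.forget _).map k') := ‹IsIso k'.left›
    exact isIso_of_reflects_iso k' (Over.forget _)
  obtain ⟨h₂, hh₂⟩ := hp (Over.mk (a ≫ t)) a rfl ((adjE w H _).symm (k' ≫ h) ≫ eh)
  refine ⟨inv k' ≫ adjE w H' _ (h₂ ≫ ei'), ?_⟩
  rw [Category.assoc, ← adjE_comp_map₀, Category.assoc, hh₂, Category.assoc,
    ← Category.assoc eh, hehi, Category.id_comp, adjE_comp_map₀, Equiv.apply_symm_apply,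
    Category.assoc, IsIso.inv_hom_id_assoc]

end LocalCmp

section Iso

variable {S : Scheme.{u}} {H H' G : Over S} (i : H ⟶ G) (i' : H' ⟶ G)

/-- the morphism of base changes attached to a factorisation. -/
noncomputable def bcLift {T : Scheme.{u}} (t : T ⟶ S) (g : pullback H.hom t ⟶ H'.left)
    (hg : g ≫ i'.left = pullback.fst H.hom t ≫ i.left) : Red.bc t H ⟶ Red.bc t H' :=
  Over.homMk (pullback.lift g (pullback.snd H.hom t) (by
    rw [← Over.w i', ← Category.assoc, hg, Category.assoc, Over.w i, pullback.condition]))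
    (pullback.lift_snd _ _ _)

lemma bcLift_comp {T : Scheme.{u}} (t : T ⟶ S) (g : pullback H.hom t ⟶ H'.left)
    (hg : g ≫ i'.left = pullback.fst H.hom t ≫ i.left) :
    bcLift i i' t g hg ≫ (Over.pullback t).map i' = (Over.pullback t).map i := by
  apply Over.OverMorphism.ext
  apply pullback.hom_ext
  · rw [Over.comp_left, Category.assoc, pullback_map_left_fst, pullback_map_left_fst]
    change pullback.lift g _ _ ≫ _ = _
    rw [pullback.lift_fst_assoc, hg]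
  · rw [Over.comp_left, Category.assoc, pullback_map_left_snd, pullback_map_left_snd]
    change pullback.lift g _ _ ≫ _ = _
    rw [pullback.lift_snd]

/-- two monomorphisms with the same image on points have isomorphic sources. -/
theorem exists_iso_of_fac [Mono i] [Mono i'] {T : Scheme.{u}} (t : T ⟶ S)
    (h12 : Fac i i' T t) (h21 : Fac i' i T t) :
    ∃ ψ : Red.bc t H ≅ Red.bc t H',
      ψ.hom ≫ (Over.pullback t).map i' = (Over.pullback t).map i := by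
  obtain ⟨g, hg⟩ := h12
  obtain ⟨g', hg'⟩ := h21
  haveI : Mono ((Over.pullback t).map i) := inferInstance
  haveI : Mono ((Over.pullback t).map i') := inferInstance
  refine ⟨⟨bcLift i i' t g hg, bcLift i' i t g' hg', ?_, ?_⟩, bcLift_comp i i' t g hg⟩
  · rw [← cancel_mono ((Over.pullback t).map i), Category.assoc, bcLift_comp, bcLift_comp,
      Category.id_comp]
  · rw [← cancel_mono ((Over.pullback t).map i'), Category.assoc, bcLift_comp, bcLift_comp,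
      Category.id_comp]

theorem fac_of_iso {T : Scheme.{u}} (t : T ⟶ S) (ψ : Red.bc t H ⟶ Red.bc t H')
    (hψ : ψ ≫ (Over.pullback t).map i' = (Over.pullback t).map i) : Fac i i' T t := by
  refine ⟨ψ.left ≫ pullback.fst H'.hom t, ?_⟩
  rw [Category.assoc, ← pullback_map_left_fst i' t, ← Category.assoc, ← Over.comp_left, hψ]
  exact pullback_map_left_fst i t

/-- the two descriptions of "same subobject after base change". -/
theorem fac_and_fac_iff [Mono i] [Mono i'] {T : Scheme.{u}} (t : T ⟶ S) :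
    (Fac i i' T t ∧ Fac i' i T t) ↔ ∃ ψ : Red.bc t H ≅ Red.bc t H',
      ψ.hom ≫ (Over.pullback t).map i' = (Over.pullback t).map i := by
  constructor
  · rintro ⟨h1, h2⟩
    exact exists_iso_of_fac i i' t h1 h2
  · rintro ⟨ψ, hψ⟩
    refine ⟨fac_of_iso i i' t ψ.hom hψ, fac_of_iso i' i t ψ.inv ?_⟩
    rw [← hψ, Iso.inv_hom_id_assoc]

end Iso

section Split

variable {S : Scheme.{u}} {H₁ H₂ G : Over S} [GrpObj H₁] [GrpObj H₂] [GrpObj G]
  (i₁ : H₁ ⟶ G) [IsMonHom i₁] (i₂ : H₂ ⟶ G) [IsMonHom i₂]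

/-- `H₁` and `H₂` have the same image in `G` on the points lying over `t : T ⟶ S`. -/
def SameSub (T : Scheme.{u}) (t : T ⟶ S) : Prop := Fac i₁ i₂ T t ∧ Fac i₂ i₁ T t

variable [Mono i₁] [Mono i₂]
  (hc : ∀ (X : Over S) (g : X ⟶ G) (h : X ⟶ H₁), g * (h ≫ i₁) = (h ≫ i₁) * g)
  {K : Scheme.{u}} (κ : K ⟶ pullback H₁.hom H₂.hom) [IsClosedImmersion κ]
  [LocallyOfFinitePresentation κ]
  (hK : ∀ (Z : Scheme.{u}) (z₁ : Z ⟶ H₁.left) (z₂ : Z ⟶ H₂.left)
    (hz : z₁ ≫ H₁.hom = z₂ ≫ H₂.hom),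
    z₁ ≫ i₁.left = z₂ ≫ i₂.left ↔ ∃ z : Z ⟶ K, z ≫ κ = pullback.lift z₁ z₂ hz)

include hc hK in
open scoped Obj in
/-- the case of a base over which `H₁` and `H₂` are diagonalisable. -/
theorem exists_clopen_eq_split {A : Type u} [CommRing A] (w : Spec (CommRingCat.of A) ⟶ S)
    {M₁ M₂ : Type} [AddCommGroup M₁] [AddCommGroup M₂]
    (e₁ : Grp.mk (Red.bc w H₁) ≅ Grp.mk (Red.DS (Spec (CommRingCat.of A)) M₁))
    (e₂ : Grp.mk (Red.bc w H₂) ≅ Grp.mk (Red.DS (Spec (CommRingCat.of A)) M₂)) :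
    ∃ Z : Set (Spec (CommRingCat.of A)), IsClopen Z ∧
      (∀ (Y : Scheme.{u}) (y : Y ⟶ Spec (CommRingCat.of A)),
        Set.range y ⊆ Z → SameSub i₁ i₂ Y (y ≫ w)) ∧
      (∀ (L : Type u) [Field L] (y : Spec (CommRingCat.of L) ⟶ Spec (CommRingCat.of A)),
        SameSub i₁ i₂ (Spec (CommRingCat.of L)) (y ≫ w) → Set.range y ⊆ Z) := by
  haveI : IsMonHom ((Over.pullback w).map i₁) :=
    Functor.map.instIsMonHom (F := Over.pullback w) (f := i₁)
  haveI : IsMonHom ((Over.pullback w).map i₂) :=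
    Functor.map.instIsMonHom (F := Over.pullback w) (f := i₂)
  haveI : Mono ((Over.pullback w).map i₁) := inferInstance
  haveI : Mono ((Over.pullback w).map i₂) := inferInstance
  obtain ⟨ei₁, hei₁⟩ : ∃ ei₁ : Red.DS (Spec (CommRingCat.of A)) M₁ ⟶ Red.bc w H₁,
      ei₁ = e₁.inv.hom.hom := ⟨_, rfl⟩
  obtain ⟨eh₁, heh₁⟩ : ∃ eh₁ : Red.bc w H₁ ⟶ Red.DS (Spec (CommRingCat.of A)) M₁,
      eh₁ = e₁.hom.hom.hom := ⟨_, rfl⟩
  obtain ⟨ei₂, hei₂⟩ : ∃ ei₂ : Red.DS (Spec (CommRingCat.of A)) M₂ ⟶ Red.bc w H₂,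
      ei₂ = e₂.inv.hom.hom := ⟨_, rfl⟩
  obtain ⟨eh₂, heh₂⟩ : ∃ eh₂ : Red.bc w H₂ ⟶ Red.DS (Spec (CommRingCat.of A)) M₂,
      eh₂ = e₂.hom.hom.hom := ⟨_, rfl⟩
  haveI : IsMonHom ei₁ := by rw [hei₁]; infer_instance
  haveI : IsMonHom ei₂ := by rw [hei₂]; infer_instance
  have hehi₁ : eh₁ ≫ ei₁ = 𝟙 _ := by
    rw [hei₁, heh₁, ← Grp.comp_hom_hom, e₁.hom_inv_id, Grp.id_hom_hom]
  have heih₁ : ei₁ ≫ eh₁ = 𝟙 _ := by
    rw [hei₁, heh₁, ← Grp.comp_hom_hom, e₁.inv_hom_id, Grp.id_hom_hom]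
  have hehi₂ : eh₂ ≫ ei₂ = 𝟙 _ := by
    rw [hei₂, heh₂, ← Grp.comp_hom_hom, e₂.hom_inv_id, Grp.id_hom_hom]
  have heih₂ : ei₂ ≫ eh₂ = 𝟙 _ := by
    rw [hei₂, heh₂, ← Grp.comp_hom_hom, e₂.inv_hom_id, Grp.id_hom_hom]
  haveI : Mono ei₁ := ⟨fun a b hab => by
    have := congrArg (fun k => k ≫ eh₁) hab
    simpa only [Category.assoc, heih₁, Category.comp_id] using this⟩
  haveI : Mono ei₂ := ⟨fun a b hab => by
    have := congrArg (fun k => k ≫ eh₂) hab
    simpa only [Category.assoc, heih₂, Category.comp_id] using this⟩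
  obtain ⟨j₁, hj₁⟩ : ∃ j₁ : Red.DS (Spec (CommRingCat.of A)) M₁ ⟶ Red.bc w G,
      j₁ = ei₁ ≫ (Over.pullback w).map i₁ := ⟨_, rfl⟩
  obtain ⟨j₂, hj₂⟩ : ∃ j₂ : Red.DS (Spec (CommRingCat.of A)) M₂ ⟶ Red.bc w G,
      j₂ = ei₂ ≫ (Over.pullback w).map i₂ := ⟨_, rfl⟩
  haveI : IsMonHom j₁ := by rw [hj₁]; infer_instance
  haveI : IsMonHom j₂ := by rw [hj₂]; infer_instance
  haveI : Mono j₁ := by rw [hj₁]; exact mono_comp _ _
  haveI : Mono j₂ := by rw [hj₂]; exact mono_comp _ _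
  -- centrality
  have hcw : Central j₁ := by
    intro Y g y
    apply (adjE w G Y).injective
    rw [adjE_mul, adjE_mul, hj₁, ← Category.assoc, adjE_comp_map₀]
    exact hc _ _ _
  -- comparison of the sieves
  have hcmp : ∀ (T : Scheme.{u}) (a : T ⟶ Spec (CommRingCat.of A)),
      SameSub i₁ i₂ T (a ≫ w) ↔ SI j₁ j₂ T a := by
    intro T a
    unfold SameSub
    rw [fac_iff_facPt, fac_iff_facPt]
    constructor
    · rintro ⟨h1, h2⟩
      have p1 := ptLoc_of_facPt i₁ i₂ w ei₁ ei₂ eh₂ hehi₂ a h1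
      have p2 := ptLoc_of_facPt i₂ i₁ w ei₂ ei₁ eh₁ hehi₁ a h2
      rw [← hj₁, ← hj₂] at p1 p2
      exact fun Y b hb => ⟨p1 Y b hb, p2 Y b hb⟩
    · intro h
      have p1 : PtLoc j₁ j₂ T a := fun Y b hb => (h Y b hb).1
      have p2 : PtLoc j₂ j₁ T a := fun Y b hb => (h Y b hb).2
      rw [hj₁, hj₂] at p1 p2
      exact ⟨facPt_of_ptLoc i₁ i₂ w ei₁ eh₁ ei₂ hehi₁ a p1,
        facPt_of_ptLoc i₂ i₁ w ei₂ eh₂ ei₁ hehi₂ a p2⟩
  -- the morphism to `H₁ ×_S H₂`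
  obtain ⟨θ₁, hθ₁⟩ : ∃ θ₁ : (Red.DS (Spec (CommRingCat.of A)) (M₁ × M₂)).left ⟶ H₁.left,
      θ₁ = (Red.DSmap (Spec (CommRingCat.of A)) (AddMonoidHom.inl M₁ M₂) ≫ ei₁).left ≫
        pullback.fst H₁.hom w := ⟨_, rfl⟩
  obtain ⟨θ₂, hθ₂⟩ : ∃ θ₂ : (Red.DS (Spec (CommRingCat.of A)) (M₁ × M₂)).left ⟶ H₂.left,
      θ₂ = (Red.DSmap (Spec (CommRingCat.of A)) (AddMonoidHom.inr M₁ M₂) ≫ ei₂).left ≫
        pullback.fst H₂.hom w := ⟨_, rfl⟩
  have hθ₁' : θ₁ ≫ H₁.hom = (Red.DS (Spec (CommRingCat.of A)) (M₁ × M₂)).hom ≫ w := by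
    rw [hθ₁, Category.assoc, pullback.condition, ← Category.assoc]
    congr 1
    exact Over.w (Red.DSmap (Spec (CommRingCat.of A)) (AddMonoidHom.inl M₁ M₂) ≫ ei₁)
  have hθ₂' : θ₂ ≫ H₂.hom = (Red.DS (Spec (CommRingCat.of A)) (M₁ × M₂)).hom ≫ w := by
    rw [hθ₂, Category.assoc, pullback.condition, ← Category.assoc]
    congr 1
    exact Over.w (Red.DSmap (Spec (CommRingCat.of A)) (AddMonoidHom.inr M₁ M₂) ≫ ei₂)
  obtain ⟨θ, hθ⟩ : ∃ θ : (Red.DS (Spec (CommRingCat.of A)) (M₁ × M₂)).left ⟶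
      pullback H₁.hom H₂.hom, θ = pullback.lift θ₁ θ₂ (hθ₁'.trans hθ₂'.symm) := ⟨_, rfl⟩
  -- the ideal
  obtain ⟨J, hfg, hJz⟩ := exists_ideal_of_closedImmersion
    (pullback.snd κ θ ≫ toDiagLeft A (M₁ × M₂))
  have hJ : ∀ (Y : Over (Spec (CommRingCat.of A)))
      (y : Y ⟶ Red.DS (Spec (CommRingCat.of A)) (M₁ × M₂)),
      y ≫ vHom j₁ j₂ = 1 ↔ ∀ i ∈ J, liftHom (fnHom Y.hom) (chiOf y) i = 0 := by
    intro Y y
    have hl1 : (adjE w H₁ Y (y ≫ Red.DSmap (Spec (CommRingCat.of A))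
        (AddMonoidHom.inl M₁ M₂) ≫ ei₁) ≫ i₁).left = y.left ≫ θ₁ ≫ i₁.left := by
      rw [hθ₁]
      change (y.left ≫ (Red.DSmap (Spec (CommRingCat.of A)) (AddMonoidHom.inl M₁ M₂) ≫
        ei₁).left ≫ pullback.fst H₁.hom w) ≫ i₁.left = _
      simp only [Category.assoc]
    have hl2 : (adjE w H₂ Y (y ≫ Red.DSmap (Spec (CommRingCat.of A))
        (AddMonoidHom.inr M₁ M₂) ≫ ei₂) ≫ i₂).left = y.left ≫ θ₂ ≫ i₂.left := by
      rw [hθ₂]
      change (y.left ≫ (Red.DSmap (Spec (CommRingCat.of A)) (AddMonoidHom.inr M₁ M₂) ≫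
        ei₂).left ≫ pullback.fst H₂.hom w) ≫ i₂.left = _
      simp only [Category.assoc]
    have hv : y ≫ vHom j₁ j₂ = 1 ↔ y.left ≫ θ₁ ≫ i₁.left = y.left ≫ θ₂ ≫ i₂.left := by
      unfold vHom
      rw [MonObj.comp_mul, GrpObj.comp_inv, mul_inv_eq_one, ← (adjE w G Y).apply_eq_iff_eq,
        hj₁, hj₂]
      have a1 : y ≫ Red.DSmap (Spec (CommRingCat.of A)) (AddMonoidHom.inl M₁ M₂) ≫ ei₁ ≫
          (Over.pullback w).map i₁ = (y ≫ Red.DSmap (Spec (CommRingCat.of A))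
            (AddMonoidHom.inl M₁ M₂) ≫ ei₁) ≫ (Over.pullback w).map i₁ := by
        simp only [Category.assoc]
      have a2 : y ≫ Red.DSmap (Spec (CommRingCat.of A)) (AddMonoidHom.inr M₁ M₂) ≫ ei₂ ≫
          (Over.pullback w).map i₂ = (y ≫ Red.DSmap (Spec (CommRingCat.of A))
            (AddMonoidHom.inr M₁ M₂) ≫ ei₂) ≫ (Over.pullback w).map i₂ := by
        simp only [Category.assoc]
      rw [a1, a2, adjE_comp_map₀, adjE_comp_map₀]
      constructor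
      · intro h
        have h' := congrArg (fun z => z.left) h
        exact hl1.symm.trans (h'.trans hl2)
      · intro h
        apply Over.OverMorphism.ext
        exact hl1.trans (h.trans hl2.symm)
    have hcond : (y.left ≫ θ₁) ≫ H₁.hom = (y.left ≫ θ₂) ≫ H₂.hom := by
      rw [Category.assoc, Category.assoc, hθ₁', hθ₂']
    have hlift : pullback.lift (y.left ≫ θ₁) (y.left ≫ θ₂) hcond = y.left ≫ θ := by
      rw [hθ]
      apply pullback.hom_ext
      · rw [pullback.lift_fst, Category.assoc, pullback.lift_fst]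
      · rw [pullback.lift_snd, Category.assoc, pullback.lift_snd]
    have hv' : y ≫ vHom j₁ j₂ = 1 ↔ ∃ z : Y.left ⟶ K, z ≫ κ = y.left ≫ θ := by
      rw [hv, ← hlift, ← hK Y.left (y.left ≫ θ₁) (y.left ≫ θ₂) hcond]
      simp only [Category.assoc]
    rw [hv']
    constructor
    · rintro ⟨z, hz⟩ i hi
      rw [← fn_comp_toDiagLeft]
      refine (hJz _ _).mp ⟨pullback.lift z y.left hz, ?_⟩ i hi
      rw [← Category.assoc, pullback.lift_snd]
    · intro h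
      have h1 : ∀ i ∈ J, fn (y.left ≫ toDiagLeft A (M₁ × M₂)) i = 0 := by
        intro i hi
        rw [fn_comp_toDiagLeft]
        exact h i hi
      obtain ⟨z', hz'⟩ := (hJz _ _).mpr h1
      have hz'' : z' ≫ pullback.snd κ θ = y.left :=
        (cancel_mono (toDiagLeft A (M₁ × M₂))).mp (by simpa only [Category.assoc] using hz')
      refine ⟨z' ≫ pullback.fst κ θ, ?_⟩
      rw [Category.assoc, pullback.condition, ← Category.assoc, hz'']
  obtain ⟨Z, hZ, h1, h2⟩ := exists_clopen_sameImage j₁ j₂ J hJ hcw hfg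
  refine ⟨Z, hZ, fun Y y hy => ?_, fun L _ y hy => h2 L y ((hcmp _ y).mp hy)⟩
  have hloc : ∀ p : Y, ∃ V : Y.Opens, p ∈ V ∧ SameSub i₁ i₂ V (V.ι ≫ y ≫ w) := by
    intro p
    obtain ⟨V, hpV, hV⟩ := h1 Y y hy p
    refine ⟨V, hpV, ?_⟩
    have := (hcmp V (V.ι ≫ y)).mpr hV
    rwa [Category.assoc] at this
  exact ⟨fac_local i₁ i₂ (y ≫ w) (fun p => by
      obtain ⟨V, hpV, hV⟩ := hloc p
      exact ⟨V, hpV, hV.1⟩),
    fac_local i₂ i₁ (y ≫ w) (fun p => by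
      obtain ⟨V, hpV, hV⟩ := hloc p
      exact ⟨V, hpV, hV.2⟩)⟩

include hc hK in
/-- **The locus where two subgroups of multiplicative type coincide is open and closed.** -/
theorem exists_clopen_eq_locus
    (hH₁ : TwC.Locally S TwC.Topology.fpqc (fun S' f => ∃ (M : Type) (_ : AddCommGroup M),
      Nonempty (Grp.mk (Red.bc f H₁) ≅ Grp.mk (Red.DS S' M))))
    (hH₂ : TwC.Locally S TwC.Topology.fpqc (fun S' f => ∃ (M : Type) (_ : AddCommGroup M),
      Nonempty (Grp.mk (Red.bc f H₂) ≅ Grp.mk (Red.DS S' M)))) :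
    ∃ U : S.Opens, IsClosed (U : Set S) ∧
      (∀ s : S, s ∈ U ↔
        SameSub i₁ i₂ (Spec (S.residueField s)) (S.fromSpecResidueField s)) ∧
      SameSub i₁ i₂ U U.ι := by
  apply Groth.Agent.Lib.R2H3.ClopenLocus.exists_clopen_of_fpqc_local (SameSub i₁ i₂)
    (fun a t h => ⟨fac_precomp i₁ i₂ a t h.1, fac_precomp i₂ i₁ a t h.2⟩)
    (fun a t ha h => ⟨fac_descend i₁ i₂ a t ha h.1, fac_descend i₂ i₁ a t ha h.2⟩)
    (fun t h => ⟨fac_local i₁ i₂ t (fun x => by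
        obtain ⟨O, hx, hO⟩ := h x
        exact ⟨O, hx, hO.1⟩),
      fac_local i₂ i₁ t (fun x => by
        obtain ⟨O, hx, hO⟩ := h x
        exact ⟨O, hx, hO.2⟩)⟩)
  intro V hV
  obtain ⟨T, c, hc', hx⟩ := exists_common_cover₂ H₁ H₂ hH₁ hH₂ V hV
  refine ⟨T, c, hc', fun x => ?_⟩
  obtain ⟨O, hxO, M, M', instM, instM', ⟨e⟩, ⟨e'⟩⟩ := hx x
  obtain ⟨U, hU, hxU, hUO⟩ := TopologicalSpace.Opens.isBasis_iff_nbhd.mp
    (T.isBasis_affineOpens) (U := O) (x := x) hxO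
  have hrange : Set.range hU.fromSpec ⊆ Set.range O.ι := by
    rw [hU.range_fromSpec, Scheme.Opens.range_ι]
    exact hUO
  obtain ⟨b, hb⟩ : ∃ b : Spec (CommRingCat.of Γ(T, U)) ⟶ (O : Scheme.{u}),
      b ≫ O.ι = hU.fromSpec :=
    ⟨IsOpenImmersion.lift O.ι _ hrange, IsOpenImmersion.lift_fac _ _ _⟩
  have hw : hU.fromSpec ≫ c ≫ V.ι = b ≫ O.ι ≫ c ≫ V.ι := by rw [← Category.assoc b, hb]
  refine ⟨Spec (CommRingCat.of Γ(T, U)), hU.fromSpec, inferInstance, ?_, ?_⟩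
  · rw [hU.range_fromSpec]
    exact hxU
  · obtain ⟨Z, hZ, h1, h2⟩ := exists_clopen_eq_split i₁ i₂ hc κ hK (hU.fromSpec ≫ c ≫ V.ι)
      (bcTriv b _ _ hw H₁ M e) (bcTriv b _ _ hw H₂ M' e')
    exact ⟨Z, hZ, fun Y y hy => by simpa only [Category.assoc] using h1 Y y hy,
      fun L _ y hy => h2 L y (by simpa only [Category.assoc] using hy)⟩

end Split

section Kernel

variable {S : Scheme.{u}} {H₁ H₂ G : Over S} (i₁ : H₁ ⟶ G) (i₂ : H₂ ⟶ G)

/-- the subscheme of `H₁ ×_S H₂` where `i₁` and `i₂` agree. -/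
noncomputable def eqK : pullback i₁.left i₂.left ⟶ pullback H₁.hom H₂.hom :=
  pullback.map i₁.left i₂.left (i₁.left ≫ G.hom) (i₂.left ≫ G.hom) (𝟙 _) (𝟙 _) G.hom
    (Category.id_comp _).symm (Category.id_comp _).symm ≫
    (pullback.congrHom (Over.w i₁) (Over.w i₂)).hom

@[reassoc]
lemma eqK_fst : eqK i₁ i₂ ≫ pullback.fst H₁.hom H₂.hom = pullback.fst i₁.left i₂.left := by
  unfold eqK
  rw [pullback.congrHom_hom]
  simp only [pullback.map, Category.assoc, pullback.lift_fst, Category.comp_id]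

@[reassoc]
lemma eqK_snd : eqK i₁ i₂ ≫ pullback.snd H₁.hom H₂.hom = pullback.snd i₁.left i₂.left := by
  unfold eqK
  rw [pullback.congrHom_hom]
  simp only [pullback.map, Category.assoc, pullback.lift_snd, Category.comp_id]

lemma eqK_prop (P : MorphismProperty Scheme.{u}) [P.IsStableUnderBaseChange] [P.RespectsIso]
    (h : P (pullback.diagonal G.hom)) : P (eqK i₁ i₂) := by
  unfold eqK
  rw [MorphismProperty.cancel_right_of_respectsIso P]
  exact MorphismProperty.of_isPullback (pullback_map_diagonal_isPullback i₁.left i₂.left G.hom) h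

instance [IsSeparated G.hom] : IsClosedImmersion (eqK i₁ i₂) :=
  eqK_prop i₁ i₂ @IsClosedImmersion inferInstance

lemma eqK_spec (Z : Scheme.{u}) (z₁ : Z ⟶ H₁.left) (z₂ : Z ⟶ H₂.left)
    (hz : z₁ ≫ H₁.hom = z₂ ≫ H₂.hom) :
    z₁ ≫ i₁.left = z₂ ≫ i₂.left ↔
      ∃ z : Z ⟶ pullback i₁.left i₂.left, z ≫ eqK i₁ i₂ = pullback.lift z₁ z₂ hz := by
  constructor
  · intro h
    refine ⟨pullback.lift z₁ z₂ h, ?_⟩
    apply pullback.hom_ext
    · rw [Category.assoc, eqK_fst, pullback.lift_fst, pullback.lift_fst]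
    · rw [Category.assoc, eqK_snd, pullback.lift_snd, pullback.lift_snd]
  · rintro ⟨z, hz'⟩
    have h1 := congrArg (fun k => k ≫ pullback.fst H₁.hom H₂.hom) hz'
    have h2 := congrArg (fun k => k ≫ pullback.snd H₁.hom H₂.hom) hz'
    simp only [Category.assoc, eqK_fst, eqK_snd, pullback.lift_fst, pullback.lift_snd] at h1 h2
    rw [← h1, ← h2, Category.assoc, Category.assoc, pullback.condition]

end Kernel

end Groth.Agent.Lib.R2H3.EqLocus
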