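import Groth.Agent.Lib.R2H3UnitLocusLocal

/-!
# Finiteness of the coefficient ideals of the images of a finitely generated ideal
(helper3, round 2)

Let `J` be a finitely generated ideal of a group algebra `A[N]`.  For a homomorphism
`l : N →* M` consider the ideal of `A[M]` generated by the image of `J`, and its coefficient ideal
in `A`.  When `l` varies, only finitely many ideals of `A` are obtained
(`finite_setOf_coeffIdeal_map`): each of them is generated by sums of coefficients of the
generators of `J` over subsets of their supports.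
-/

set_option autoImplicit false
set_option linter.style.haveILetI false
set_option linter.unusedVariables false
set_option linter.unusedSectionVars false

universe u

open Groth.Agent.Lib.R2H3.MultAct

namespace Groth.Agent.Lib.R2H3.UnitLocus

section

variable {R : Type u} [CommRing R] {G : Type} [CommGroup G]

/-- the coefficient ideal of the ideal generated by a set is generated by the coefficients of
the elements of the set. -/
lemma coeffIdeal_span_le (X : Set (MonoidAlgebra R G)) (𝔞 : Ideal R)
    (h : ∀ x ∈ X, ∀ g : G, x.coeff g ∈ 𝔞) : coeffIdeal (Ideal.span X) ≤ 𝔞 := by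
  classical
  apply Ideal.span_le.mpr
  rintro c ⟨i, hi, g, rfl⟩
  apply coeff_mem_of_mem_map
  have hle : Ideal.span X ≤ 𝔞.map (algebraMap R (MonoidAlgebra R G)) := by
    apply Ideal.span_le.mpr
    intro θ hθ
    rw [← MonoidAlgebra.sum_coeff_single θ]
    apply Ideal.sum_mem
    intro g' _
    exact single_mem_map 𝔞 g' (h θ hθ g')
  exact hle hi

end

section Finite

variable {A : Type u} [CommRing A] {N M : Type} [CommGroup N] [CommGroup M]

/-- a coefficient of the image under `mapDomain` is a sum of coefficients over a subset of the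
support. -/
lemma coeff_mapDomain_eq_sum (l : N →* M) (f : MonoidAlgebra A N) (m : M) [DecidableEq M] :
    (MonoidAlgebra.mapDomainRingHom A l f).coeff m =
      (f.coeff.support.filter (fun n => l n = m)).sum (fun n => f.coeff n) := by
  classical
  change (Finsupp.mapDomain l f.coeff) m = _
  rw [Finsupp.mapDomain, Finsupp.sum_apply, Finsupp.sum, Finset.sum_filter]
  apply Finset.sum_congr rfl
  intro n _
  rw [Finsupp.single_apply]

/-- **Finiteness.** -/
theorem finite_setOf_coeffIdeal_map (J : Ideal (MonoidAlgebra A N)) (hJ : J.FG) :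
    {𝔠 : Ideal A | ∃ l : N →* M,
      𝔠 = coeffIdeal (J.map (MonoidAlgebra.mapDomainRingHom A l))}.Finite := by
  classical
  obtain ⟨s, hs⟩ := hJ
  obtain ⟨Sg, hSg⟩ : ∃ Sg : Finset A, Sg = s.biUnion (fun f =>
      f.coeff.support.powerset.image (fun C => C.sum (fun n => f.coeff n))) := ⟨_, rfl⟩
  have hfin : ((fun X : Set A => Ideal.span X) '' (𝒫 (Sg : Set A))).Finite :=
    (Sg.finite_toSet.powerset).image _
  apply hfin.subset
  rintro 𝔠 ⟨l, rfl⟩
  refine ⟨{c | ∃ f ∈ s, ∃ m : M, c = (MonoidAlgebra.mapDomainRingHom A l f).coeff m}, ?_, ?_⟩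
  · rintro c ⟨f, hf, m, rfl⟩
    rw [Finset.mem_coe, hSg, Finset.mem_biUnion]
    refine ⟨f, hf, ?_⟩
    rw [Finset.mem_image]
    exact ⟨f.coeff.support.filter (fun n => l n = m),
      Finset.mem_powerset.mpr (Finset.filter_subset _ _), (coeff_mapDomain_eq_sum l f m).symm⟩
  · apply le_antisymm
    · apply Ideal.span_le.mpr
      rintro c ⟨f, hf, m, rfl⟩
      apply coeff_mem
      apply Ideal.mem_map_of_mem
      rw [← hs]
      exact Ideal.subset_span hf
    · rw [← hs, Ideal.map_span]
      apply coeffIdeal_span_le
      rintro x ⟨f, hf, rfl⟩ g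
      exact Ideal.subset_span ⟨f, hf, g, rfl⟩

end Finite

end Groth.Agent.Lib.R2H3.UnitLocus
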