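import Groth.Agent.Lib.R2H3EqLocusAlg
import Groth.Agent.Lib.R2H3MultHomMain

/-!
# The locus where two diagonalisable subgroups coincide: local model (helper3, round 2)

Let `W = Spec R`, `G` a `W`-group, `j₁ : D_W(M₁) ⟶ G` and `j₂ : D_W(M₂) ⟶ G` two monomorphisms of
`W`-groups, `j₁` central.  Suppose that the kernel of the homomorphism
`v : D_W(M₁ × M₂) ⟶ G`, `v = (p₁ j₁)(p₂ j₂)⁻¹`, is cut out by a finitely generated ideal `J` of
`R[M₁ × M₂]`.  Then there is an open and closed subset `Z` of `W` such that the images of `j₁`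
and `j₂` coincide (on points) locally above `Z`, and such that every field valued point of `W`
above which the images coincide lies in `Z` (`exists_clopen_sameImage`).
-/

set_option autoImplicit false
set_option linter.style.haveILetI false
set_option linter.unusedVariables false
set_option linter.unusedSectionVars false

universe u

open CategoryTheory MonoidalCategory CartesianMonoidalCategory MonObj GrpObj AlgebraicGeometry
  CategoryTheory.Limits
open Groth.Agent.Lib.Helper27.GaGm Groth.Agent.Lib.H6xDSPts Groth.Agent.Lib.R2H3.MultAct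
  Groth.Agent.Lib.R2H3.MultHom Groth.Agent.Lib.R2H3.HomLift Groth.Agent.Lib.R2H3.FpqcLocal
  Groth.Agent.Lib.R2H3.UnitLocus

namespace Groth.Agent.Lib.R2H3.EqLocus

/-- multiplicativity on points implies being a homomorphism (for groups). -/
theorem isMonHom_of_forall_mul {C : Type*} [Category C] [CartesianMonoidalCategory C] {X Y : C}
    [GrpObj X] [GrpObj Y] (f : X ⟶ Y)
    (hmul : ∀ (T : C) (x y : T ⟶ X), (x * y) ≫ f = (x ≫ f) * (y ≫ f)) : IsMonHom f := by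
  apply Groth.Agent.Lib.H6xDSPts.isMonHom_of_pts f _ hmul
  have h := hmul (𝟙_ C) 1 1
  rw [_root_.mul_one] at h
  exact (mul_eq_left (a := (1 : 𝟙_ C ⟶ X) ≫ f) (b := (1 : 𝟙_ C ⟶ X) ≫ f)).mp h.symm

section General

variable {W : Scheme.{u}} {N : Type} [AddCommGroup N] {Gw : Over W} [GrpObj Gw]

/-- the product `a b⁻¹` of two homomorphisms from a diagonalisable group, `a` central, is a
homomorphism. -/
theorem isMonHom_mul_inv_of_central (a b : Red.DS W N ⟶ Gw) [IsMonHom a] [IsMonHom b]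
    (hc : ∀ (Y : Over W) (g : Y ⟶ Gw) (y : Y ⟶ Red.DS W N), g * (y ≫ a) = (y ≫ a) * g) :
    IsMonHom (a * b⁻¹) := by
  apply isMonHom_of_forall_mul
  intro T x y
  rw [MonObj.comp_mul, GrpObj.comp_inv, MonObj.comp_mul, GrpObj.comp_inv, MonObj.comp_mul,
    GrpObj.comp_inv, MonObj.mul_comp, MonObj.mul_comp]
  have h1 : (x ≫ b) * (y ≫ b) = (y ≫ b) * (x ≫ b) := by
    rw [← MonObj.mul_comp x y b, ← MonObj.mul_comp y x b, ds_mul_comm]
  have h2 := hc T (x ≫ b)⁻¹ y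
  calc (x ≫ a) * (y ≫ a) * ((x ≫ b) * (y ≫ b))⁻¹
      = (x ≫ a) * (y ≫ a) * ((y ≫ b) * (x ≫ b))⁻¹ := by rw [h1]
    _ = (x ≫ a) * ((y ≫ a) * (x ≫ b)⁻¹) * (y ≫ b)⁻¹ := by group
    _ = (x ≫ a) * ((x ≫ b)⁻¹ * (y ≫ a)) * (y ≫ b)⁻¹ := by rw [h2]
    _ = (x ≫ a) * (x ≫ b)⁻¹ * ((y ≫ a) * (y ≫ b)⁻¹) := by group

lemma chiOf_comp_DSmap {M : Type} [AddCommGroup M] (φ : N →+ M) {Y : Over W}
    (y : Y ⟶ Red.DS W M) :
    chiOf (y ≫ Red.DSmap W φ) = (chiOf y).comp (AddMonoidHom.toMultiplicative φ) := by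
  apply MonoidHom.ext
  intro n
  rw [MonoidHom.comp_apply, chiOf_apply, chiOf_apply, dsFn_DSmap]
  rfl

end General

section Field

variable {W : Scheme.{u}} {M₁ M₂ : Type} [AddCommGroup M₁] [AddCommGroup M₂]
  {Gw : Over W} [GrpObj Gw] (j₁ : Red.DS W M₁ ⟶ Gw) (j₂ : Red.DS W M₂ ⟶ Gw)
  [IsMonHom j₁] [IsMonHom j₂]

/-- the points of `D_W(M₁)` over `q` have their image under `j₁` in the image of `j₂`. -/
def PtFac {B : Type u} [CommRing B] (q : Spec (CommRingCat.of B) ⟶ W) : Prop :=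
  ∀ h₁ : Over.mk q ⟶ Red.DS W M₁, ∃ h₂ : Over.mk q ⟶ Red.DS W M₂, h₂ ≫ j₂ = h₁ ≫ j₁

variable {j₁ j₂}

/-- the character of the point of `D_W(M₂)` with the same image as the point of `D_W(M₁)`
attached to a character. -/
noncomputable def facChar {B : Type u} [CommRing B] {q : Spec (CommRingCat.of B) ⟶ W}
    (hQ : PtFac j₁ j₂ q) (χ : Multiplicative M₁ →* B) : Multiplicative M₂ →* B :=
  charOf (hQ (hq q χ)).choose

lemma hq_facChar {B : Type u} [CommRing B] {q : Spec (CommRingCat.of B) ⟶ W}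
    (hQ : PtFac j₁ j₂ q) (χ : Multiplicative M₁ →* B) :
    hq q (facChar hQ χ) ≫ j₂ = hq q χ ≫ j₁ := by
  unfold facChar
  rw [hq_charOf]
  exact (hQ (hq q χ)).choose_spec

lemma facChar_unique [Mono j₂] {B : Type u} [CommRing B] {q : Spec (CommRingCat.of B) ⟶ W}
    (hQ : PtFac j₁ j₂ q) (χ : Multiplicative M₁ →* B) (χ₂ : Multiplicative M₂ →* B)
    (e : hq q χ₂ ≫ j₂ = hq q χ ≫ j₁) : χ₂ = facChar hQ χ := by
  have h1 : hq q χ₂ = hq q (facChar hQ χ) :=
    (cancel_mono j₂).mp (e.trans (hq_facChar hQ χ).symm)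
  have h2 := congrArg charOf h1
  rwa [charOf_hq, charOf_hq] at h2

lemma facChar_nat [Mono j₂] {B B' : Type u} [CommRing B] [CommRing B'] (ψ : B →+* B')
    {q : Spec (CommRingCat.of B) ⟶ W} {q' : Spec (CommRingCat.of B') ⟶ W}
    (hq' : q' = Spec.map (CommRingCat.ofHom ψ) ≫ q) (hQ : PtFac j₁ j₂ q) (hQ' : PtFac j₁ j₂ q')
    (χ : Multiplicative M₁ →* B) :
    facChar hQ' ((ψ : B →* B').comp χ) = (ψ : B →* B').comp (facChar hQ χ) := by
  subst hq'
  obtain ⟨k, hk⟩ : ∃ k : Over.mk (Spec.map (CommRingCat.ofHom ψ) ≫ q) ⟶ Over.mk q,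
      k.left = Spec.map (CommRingCat.ofHom ψ) := ⟨Over.homMk _ rfl, rfl⟩
  symm
  apply facChar_unique
  rw [← hq_comp ψ k hk, ← hq_comp ψ k hk, Category.assoc, Category.assoc, hq_facChar]

lemma facChar_mul [Mono j₂] {B : Type u} [CommRing B] {q : Spec (CommRingCat.of B) ⟶ W}
    (hQ : PtFac j₁ j₂ q) (χ χ' : Multiplicative M₁ →* B) :
    facChar hQ (χ * χ') = facChar hQ χ * facChar hQ χ' := by
  symm
  apply facChar_unique
  rw [hq_mul, hq_mul, MonObj.mul_comp _ _ j₂, MonObj.mul_comp _ _ j₁, hq_facChar, hq_facChar]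

variable {L : Type u} [Field L] (t : Spec (CommRingCat.of L) ⟶ W)

/-- the transformation of functors of characters attached to a factorisation on points. -/
noncomputable def facFun [Mono j₂]
    (h : ∀ (B : Type u) [CommRing B] (β : L →+* B),
      PtFac j₁ j₂ (Spec.map (CommRingCat.ofHom β) ≫ t)) :
    HomFun L (Multiplicative M₁) (Multiplicative M₂) where
  map B _ β χ := facChar (h B β) χ
  nat B B' _ _ ψ β χ := facChar_nat ψ (by rw [specMap_comp_eq, Category.assoc]) _ _ χ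
  mul B _ β χ₁ χ₂ := facChar_mul _ χ₁ χ₂

/-- a factorisation on affine points over a field is given by a homomorphism of character
groups. -/
theorem exists_hom_of_ptFac [Mono j₂]
    (h : ∀ (B : Type u) [CommRing B] (β : L →+* B),
      PtFac j₁ j₂ (Spec.map (CommRingCat.ofHom β) ≫ t)) :
    ∃ φ : M₂ →+ M₁, ∀ (B : Type u) [CommRing B] (β : L →+* B) (χ : Multiplicative M₁ →* B),
      hq (Spec.map (CommRingCat.ofHom β) ≫ t) χ ≫ j₁ =
        hq (Spec.map (CommRingCat.ofHom β) ≫ t) χ ≫ Red.DSmap W φ ≫ j₂ := by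
  refine ⟨AddMonoidHom.toMultiplicative.symm (facFun t h).phi, fun B _ β χ => ?_⟩
  have h1 := (facFun t h).map_eq_comp_phi B β χ
  change facChar (h B β) χ = _ at h1
  rw [← Category.assoc, hq_comp_DSmap, Equiv.apply_symm_apply, ← h1, hq_facChar]

/-- if the images coincide on affine points over a field, the two diagonalisable groups are
isomorphic, compatibly with `j₁` and `j₂`. -/
theorem exists_equiv_of_ptFac [Mono j₁] [Mono j₂]
    (h : ∀ (B : Type u) [CommRing B] (β : L →+* B),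
      PtFac j₁ j₂ (Spec.map (CommRingCat.ofHom β) ≫ t))
    (h' : ∀ (B : Type u) [CommRing B] (β : L →+* B),
      PtFac j₂ j₁ (Spec.map (CommRingCat.ofHom β) ≫ t)) :
    ∃ α : M₂ ≃+ M₁, ∀ (B : Type u) [CommRing B] (β : L →+* B) (χ : Multiplicative M₁ →* B),
      hq (Spec.map (CommRingCat.ofHom β) ≫ t) χ ≫ j₁ =
        hq (Spec.map (CommRingCat.ofHom β) ≫ t) χ ≫ Red.DSmap W (α : M₂ →+ M₁) ≫ j₂ := by
  obtain ⟨φ, hφ⟩ := exists_hom_of_ptFac t h
  obtain ⟨φ', hφ'⟩ := exists_hom_of_ptFac t h'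
  -- the two composites are the identity
  have key : ∀ {N N' : Type} [AddCommGroup N] [AddCommGroup N'] (k : Red.DS W N ⟶ Gw)
      (k' : Red.DS W N' ⟶ Gw) [Mono k] (a : N' →+ N) (a' : N →+ N')
      (ha : ∀ (B : Type u) [CommRing B] (β : L →+* B) (χ : Multiplicative N →* B),
        hq (Spec.map (CommRingCat.ofHom β) ≫ t) χ ≫ k =
          hq (Spec.map (CommRingCat.ofHom β) ≫ t) χ ≫ Red.DSmap W a ≫ k')
      (ha' : ∀ (B : Type u) [CommRing B] (β : L →+* B) (χ : Multiplicative N' →* B),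
        hq (Spec.map (CommRingCat.ofHom β) ≫ t) χ ≫ k' =
          hq (Spec.map (CommRingCat.ofHom β) ≫ t) χ ≫ Red.DSmap W a' ≫ k),
      ∀ n : N, a (a' n) = n := by
    intro N N' _ _ k k' _ a a' ha ha' n
    have h1 := ha (MonoidAlgebra L (Multiplicative N))
      (algebraMap L (MonoidAlgebra L (Multiplicative N))) (MonoidAlgebra.of L (Multiplicative N))
    rw [← Category.assoc, hq_comp_DSmap, ha', ← Category.assoc, hq_comp_DSmap, cancel_mono] at h1
    have h2 := congrArg charOf h1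
    rw [charOf_hq, charOf_hq] at h2
    have h3 := DFunLike.congr_fun h2 (Multiplicative.ofAdd n)
    have h4 := MonoidAlgebra.of_injective h3
    exact (Multiplicative.ofAdd.injective h4).symm
  have hl : ∀ m, φ' (φ m) = m := key j₂ j₁ φ' φ hφ' hφ
  have hr : ∀ m, φ (φ' m) = m := key j₁ j₂ φ φ' hφ hφ'
  exact ⟨AddEquiv.mk ⟨φ, φ', hl, hr⟩ φ.map_add, hφ⟩

end Field

section Alg

variable {R : Type u} [CommRing R] {G G' : Type} [CommGroup G] [CommGroup G']

lemma liftHom_comp_mapDomain {B : Type u} [CommRing B] (β : R →+* B) (χ : G' →* B)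
    (l : G →* G') (f : MonoidAlgebra R G) :
    liftHom β (χ.comp l) f = liftHom β χ (MonoidAlgebra.mapDomainRingHom R l f) := by
  have h : liftHom β (χ.comp l) = (liftHom β χ).comp (MonoidAlgebra.mapDomainRingHom R l) := by
    apply MonoidAlgebra.ringHom_ext
    · intro r
      simp
    · intro g
      simp
  rw [h]
  rfl

end Alg

section Local

variable {R : Type u} [CommRing R] {M₁ M₂ : Type} [AddCommGroup M₁] [AddCommGroup M₂]
  {Gw : Over (Spec (CommRingCat.of R))} [GrpObj Gw]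
  (j₁ : Red.DS (Spec (CommRingCat.of R)) M₁ ⟶ Gw) (j₂ : Red.DS (Spec (CommRingCat.of R)) M₂ ⟶ Gw)
  [IsMonHom j₁] [IsMonHom j₂]

/-- the homomorphism `(x₁, x₂) ↦ j₁(x₁) j₂(x₂)⁻¹` of `D(M₁ × M₂)`. -/
noncomputable def vHom : Red.DS (Spec (CommRingCat.of R)) (M₁ × M₂) ⟶ Gw :=
  (Red.DSmap (Spec (CommRingCat.of R)) (AddMonoidHom.inl M₁ M₂) ≫ j₁) *
    (Red.DSmap (Spec (CommRingCat.of R)) (AddMonoidHom.inr M₁ M₂) ≫ j₂)⁻¹

/-- the homomorphism `(m₁, m₂) ↦ m₁ + α m₂`. -/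
def lam (α : M₂ ≃+ M₁) : M₁ × M₂ →+ M₁ :=
  AddMonoidHom.coprod (AddMonoidHom.id M₁) (α : M₂ →+ M₁)

/-- the difference `j₁ (D(α) j₂)⁻¹`. -/
noncomputable def dAl (α : M₂ ≃+ M₁) : Red.DS (Spec (CommRingCat.of R)) M₁ ⟶ Gw :=
  Red.DSmap (Spec (CommRingCat.of R)) (lam α) ≫ vHom j₁ j₂

lemma comp_dAl (α : M₂ ≃+ M₁) {Y : Over (Spec (CommRingCat.of R))}
    (y : Y ⟶ Red.DS (Spec (CommRingCat.of R)) M₁) :
    y ≫ dAl j₁ j₂ α =
      (y ≫ j₁) * (y ≫ Red.DSmap (Spec (CommRingCat.of R)) (α : M₂ →+ M₁) ≫ j₂)⁻¹ := by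
  unfold dAl vHom
  have h1 : (lam α).comp (AddMonoidHom.inl M₁ M₂) = AddMonoidHom.id M₁ :=
    AddMonoidHom.coprod_comp_inl _ _
  have h2 : (lam α).comp (AddMonoidHom.inr M₁ M₂) = (α : M₂ →+ M₁) :=
    AddMonoidHom.coprod_comp_inr _ _
  rw [← Category.assoc, MonObj.comp_mul, GrpObj.comp_inv, Category.assoc, Category.assoc,
    ← Category.assoc (Red.DSmap _ (lam α)), ← Category.assoc (Red.DSmap _ (lam α)), DSmap_comp,
    DSmap_comp, h1, h2, DSmap_id, Category.id_comp]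

lemma comp_dAl_eq_one_iff (α : M₂ ≃+ M₁) {Y : Over (Spec (CommRingCat.of R))}
    (y : Y ⟶ Red.DS (Spec (CommRingCat.of R)) M₁) :
    y ≫ dAl j₁ j₂ α = 1 ↔
      y ≫ j₁ = y ≫ Red.DSmap (Spec (CommRingCat.of R)) (α : M₂ →+ M₁) ≫ j₂ := by
  rw [comp_dAl, mul_inv_eq_one]

/-- centrality of `j₁`. -/
def Central : Prop :=
  ∀ (Y : Over (Spec (CommRingCat.of R))) (g : Y ⟶ Gw)
    (y : Y ⟶ Red.DS (Spec (CommRingCat.of R)) M₁), g * (y ≫ j₁) = (y ≫ j₁) * g

theorem isMonHom_vHom (hc : Central j₁) : IsMonHom (vHom j₁ j₂) := by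
  unfold vHom
  apply isMonHom_mul_inv_of_central
  intro Y g y
  rw [← Category.assoc]
  exact hc Y g _

theorem isMonHom_dAl (hc : Central j₁) (α : M₂ ≃+ M₁) : IsMonHom (dAl j₁ j₂ α) := by
  haveI := isMonHom_vHom j₁ j₂ hc
  unfold dAl
  infer_instance

/-- the ideal cutting out the kernel of `dAl`. -/
noncomputable def IAl (J : Ideal (MonoidAlgebra R (Multiplicative (M₁ × M₂)))) (α : M₂ ≃+ M₁) :
    Ideal (MonoidAlgebra R (Multiplicative M₁)) :=
  J.map (MonoidAlgebra.mapDomainRingHom R (AddMonoidHom.toMultiplicative (lam α)))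

variable (J : Ideal (MonoidAlgebra R (Multiplicative (M₁ × M₂))))
  (hJ : ∀ (Y : Over (Spec (CommRingCat.of R)))
    (y : Y ⟶ Red.DS (Spec (CommRingCat.of R)) (M₁ × M₂)),
    y ≫ vHom j₁ j₂ = 1 ↔ ∀ i ∈ J, liftHom (fnHom Y.hom) (chiOf y) i = 0)

include hJ in
lemma hIAl (α : M₂ ≃+ M₁) (Y : Over (Spec (CommRingCat.of R)))
    (y : Y ⟶ Red.DS (Spec (CommRingCat.of R)) M₁) :
    y ≫ dAl j₁ j₂ α = 1 ↔ ∀ i ∈ IAl J α, liftHom (fnHom Y.hom) (chiOf y) i = 0 := by
  unfold dAl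
  rw [← Category.assoc, hJ, chiOf_comp_DSmap]
  constructor
  · intro h
    have hle : IAl J α ≤ RingHom.ker (liftHom (fnHom Y.hom) (chiOf y)) := by
      unfold IAl
      rw [Ideal.map_le_iff_le_comap]
      intro f hf
      rw [Ideal.mem_comap, RingHom.mem_ker, ← liftHom_comp_mapDomain]
      exact h f hf
    intro i hi
    exact (RingHom.mem_ker).mp (hle hi)
  · intro h f hf
    rw [liftHom_comp_mapDomain]
    exact h _ (Ideal.mem_map_of_mem _ hf)

/-- the images of `j₁` and `j₂` coincide on the points lying over `t : T ⟶ W`. -/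
def SI (T : Scheme.{u}) (t : T ⟶ Spec (CommRingCat.of R)) : Prop :=
  ∀ (Y : Over (Spec (CommRingCat.of R))) (b : Y.left ⟶ T), b ≫ t = Y.hom →
    (∀ h₁ : Y ⟶ Red.DS (Spec (CommRingCat.of R)) M₁,
      ∃ h₂ : Y ⟶ Red.DS (Spec (CommRingCat.of R)) M₂, h₂ ≫ j₂ = h₁ ≫ j₁) ∧
    (∀ h₂ : Y ⟶ Red.DS (Spec (CommRingCat.of R)) M₂,
      ∃ h₁ : Y ⟶ Red.DS (Spec (CommRingCat.of R)) M₁, h₁ ≫ j₁ = h₂ ≫ j₂)

lemma si_of_triv (α : M₂ ≃+ M₁) (T : Scheme.{u}) (t : T ⟶ Spec (CommRingCat.of R))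
    (h : Triv (dAl j₁ j₂ α) T t) : SI j₁ j₂ T t := by
  intro Y b hb
  constructor
  · intro h₁
    refine ⟨h₁ ≫ Red.DSmap _ (α : M₂ →+ M₁), ?_⟩
    rw [Category.assoc]
    exact ((comp_dAl_eq_one_iff j₁ j₂ α h₁).mp (h Y b hb h₁)).symm
  · intro h₂
    refine ⟨h₂ ≫ Red.DSmap _ (α.symm : M₁ →+ M₂), ?_⟩
    rw [(comp_dAl_eq_one_iff j₁ j₂ α _).mp (h Y b hb _), Category.assoc,
      ← Category.assoc (Red.DSmap _ (α.symm : M₁ →+ M₂)), DSmap_comp]
    have h1 : (α.symm : M₁ →+ M₂).comp (α : M₂ →+ M₁) = AddMonoidHom.id M₂ := by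
      ext m
      simp
    rw [h1, DSmap_id, Category.id_comp]

end Local

section Univ

variable {R : Type u} [CommRing R] {M : Type} [AddCommGroup M]
  {Gw : Over (Spec (CommRingCat.of R))} [GrpObj Gw]
  (u : Red.DS (Spec (CommRingCat.of R)) M ⟶ Gw) [IsMonHom u]
  (I : Ideal (MonoidAlgebra R (Multiplicative M)))
  (hI : ∀ (Y : Over (Spec (CommRingCat.of R))) (y : Y ⟶ Red.DS (Spec (CommRingCat.of R)) M),
    y ≫ u = 1 ↔ ∀ i ∈ I, liftHom (fnHom Y.hom) (chiOf y) i = 0)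

include hI in
/-- if `u` kills the universal point over `B[M]`, the coefficient ideal of `I` dies in `B`. -/
lemma kills_of_univ {B : Type u} [CommRing B] (β : R →+* B)
    (q : Spec (CommRingCat.of (MonoidAlgebra B (Multiplicative M))) ⟶ Spec (CommRingCat.of R))
    (hq' : q = Spec.map (CommRingCat.ofHom
      ((algebraMap B (MonoidAlgebra B (Multiplicative M))).comp β)))
    (h1 : hq q (MonoidAlgebra.of B (Multiplicative M)) ≫ u = 1) :
    ∀ c ∈ coeffIdeal I, β c = 0 := by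
  apply kills_of_map_eq_zero
  intro i hi
  obtain ⟨gam, hgam⟩ : ∃ gam : R →+* MonoidAlgebra B (Multiplicative M),
      gam = (algebraMap B (MonoidAlgebra B (Multiplicative M))).comp β := ⟨_, rfl⟩
  rw [← hgam] at hq'
  subst hq'
  rw [hI] at h1
  have h2 := h1 i hi
  -- transport to `B[M]`
  obtain ⟨ε, hε⟩ : ∃ ε : Γ((Over.mk (Spec.map (CommRingCat.ofHom gam))).left, ⊤) →+*
      MonoidAlgebra B (Multiplicative M),
      ε = (Scheme.ΓSpecIso (CommRingCat.of (MonoidAlgebra B (Multiplicative M)))).hom.hom :=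
    ⟨_, rfl⟩
  have h3 := congrArg ε h2
  rw [map_zero, ← liftHom_nat] at h3
  have e1 : ε.comp (fnHom (Over.mk (Spec.map (CommRingCat.ofHom gam))).hom) = gam := by
    apply RingHom.ext
    intro a
    rw [RingHom.comp_apply, ← fn_eq, hε]
    change (Scheme.ΓSpecIso (CommRingCat.of _)).hom.hom (fn (Spec.map (CommRingCat.ofHom gam)) a) = _
    erw [fn_eq_ringOf, ringOf_specMap]
    exact congrArg (fun k => k.hom (gam a)) (Scheme.ΓSpecIso (CommRingCat.of _)).inv_hom_id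
  have e2 : (ε : _ →* MonoidAlgebra B (Multiplicative M)).comp
      (chiOf (hq (Spec.map (CommRingCat.ofHom gam)) (MonoidAlgebra.of B (Multiplicative M)))) =
      charOf (hq (Spec.map (CommRingCat.ofHom gam)) (MonoidAlgebra.of B (Multiplicative M))) := by
    apply MonoidHom.ext
    intro m
    rw [hε]
    rfl
  rw [charOf_hq] at e2
  rw [e1, e2, hgam, liftHom_comp_map, liftHom_algebraMap_of] at h3
  exact h3

end Univ

section Clopen

variable {R : Type u} [CommRing R] {M₁ M₂ : Type} [AddCommGroup M₁] [AddCommGroup M₂]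
  {Gw : Over (Spec (CommRingCat.of R))} [GrpObj Gw]
  (j₁ : Red.DS (Spec (CommRingCat.of R)) M₁ ⟶ Gw) (j₂ : Red.DS (Spec (CommRingCat.of R)) M₂ ⟶ Gw)
  [IsMonHom j₁] [IsMonHom j₂]
  (J : Ideal (MonoidAlgebra R (Multiplicative (M₁ × M₂))))
  (hJ : ∀ (Y : Over (Spec (CommRingCat.of R)))
    (y : Y ⟶ Red.DS (Spec (CommRingCat.of R)) (M₁ × M₂)),
    y ≫ vHom j₁ j₂ = 1 ↔ ∀ i ∈ J, liftHom (fnHom Y.hom) (chiOf y) i = 0)

/-- the field valued point of `Spec R` attached to a prime ideal. -/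
noncomputable def ptHom (x : PrimeSpectrum R) : R →+* FractionRing (R ⧸ x.asIdeal) :=
  (algebraMap (R ⧸ x.asIdeal) (FractionRing (R ⧸ x.asIdeal))).comp (Ideal.Quotient.mk x.asIdeal)

lemma ptHom_eq_zero_iff (x : PrimeSpectrum R) (c : R) : ptHom x c = 0 ↔ c ∈ x.asIdeal := by
  unfold ptHom
  rw [RingHom.comp_apply, map_eq_zero_iff _ (IsFractionRing.injective (R ⧸ x.asIdeal) _),
    Ideal.Quotient.eq_zero_iff_mem]

lemma range_specMap_ptHom (x : PrimeSpectrum R) :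
    Set.range (Spec.map (CommRingCat.ofHom (ptHom x))) = {x} := by
  ext z
  simp only [Set.mem_range]
  have hpt : ∀ p : Spec (CommRingCat.of (FractionRing (R ⧸ x.asIdeal))),
      (Spec.map (CommRingCat.ofHom (ptHom x))) p = x := by
    intro p
    rw [Spec.map_apply]
    apply PrimeSpectrum.ext
    change Ideal.comap (ptHom x) p.asIdeal = x.asIdeal
    have hbot : p.asIdeal = ⊥ := by
      rcases Ideal.eq_bot_or_top p.asIdeal with h | h
      · exact h
      · exact absurd h p.2.ne_top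
    rw [hbot]
    ext c
    rw [Ideal.mem_comap, Ideal.mem_bot, ptHom_eq_zero_iff]
  constructor
  · rintro ⟨p, rfl⟩
    exact hpt p
  · rintro rfl
    exact ⟨(default : PrimeSpectrum (FractionRing (R ⧸ z.asIdeal))), hpt _⟩

/-- the zero locus of an ideal, as a subset of `Spec R`. -/
def zl (𝔠 : Ideal R) : Set (Spec (CommRingCat.of R)) :=
  (PrimeSpectrum.zeroLocus (𝔠 : Set R) : Set (PrimeSpectrum R))

lemma mem_zl_iff (𝔠 : Ideal R) (x : PrimeSpectrum R) :
    (x : Spec (CommRingCat.of R)) ∈ zl 𝔠 ↔ 𝔠 ≤ x.asIdeal := by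
  change x ∈ PrimeSpectrum.zeroLocus (𝔠 : Set R) ↔ _
  rw [PrimeSpectrum.mem_zeroLocus]
  rfl

/-- the coefficient ideal of `IAl J α`. -/
noncomputable def cAl (α : M₂ ≃+ M₁) : Ideal R :=
  coeffIdeal (R := R) (G := Multiplicative M₁) (IAl J α)

include hJ in
/-- the unit locus of `dAl α`, as the zero locus of a coefficient ideal. -/
theorem exists_clopen_dAl (hc : Central j₁) (hfg : J.FG) (α : M₂ ≃+ M₁) :
    IsClopen (zl (cAl J α)) ∧
      (∀ (Y : Scheme.{u}) (y : Y ⟶ Spec (CommRingCat.of R)),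
        Set.range y ⊆ zl (cAl J α) → Triv (dAl j₁ j₂ α) Y y) ∧
      (∀ (K : Type u) [Field K] (y : Spec (CommRingCat.of K) ⟶ Spec (CommRingCat.of R)),
        Triv (dAl j₁ j₂ α) (Spec (CommRingCat.of K)) y →
        Set.range y ⊆ zl (cAl J α)) := by
  haveI := isMonHom_dAl j₁ j₂ hc α
  have hfgα : (IAl J α).FG := Ideal.FG.map hfg _
  obtain ⟨Z, hZ, h1, h2⟩ := exists_clopen (dAl j₁ j₂ α) (IAl J α) (hIAl j₁ j₂ J hJ α) hfgα
  have hZeq : Z = zl (cAl J α) := by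
    ext x
    obtain ⟨x', hx'⟩ : ∃ x' : PrimeSpectrum R, (x' : Spec (CommRingCat.of R)) = x := ⟨x, rfl⟩
    subst hx'
    refine Iff.trans ?_ (mem_zl_iff (cAl J α) x').symm
    constructor
    · intro hx c hcc
      have h3 := h1 _ (Spec.map (CommRingCat.ofHom (ptHom x'))) (by
        rw [range_specMap_ptHom]
        exact Set.singleton_subset_iff.mpr hx)
      have h4 := kills_of_triv (dAl j₁ j₂ α) (IAl J α) (hIAl j₁ j₂ J hJ α) (ptHom x') h3 c hcc
      exact (ptHom_eq_zero_iff x' c).mp h4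
    · intro hx
      have h3 : Triv (dAl j₁ j₂ α) _ (Spec.map (CommRingCat.ofHom (ptHom x'))) := by
        apply triv_of_kills (dAl j₁ j₂ α) (IAl J α) (hIAl j₁ j₂ J hJ α)
        intro c hcc
        apply fn_specMap_eq_zero
        exact (ptHom_eq_zero_iff x' c).mpr (hx hcc)
      have h4 := h2 _ _ h3
      rw [range_specMap_ptHom] at h4
      exact Set.singleton_subset_iff.mp h4
  rw [← hZeq]
  exact ⟨hZ, h1, h2⟩

include hJ in
/-- the union of the unit loci is open and closed. -/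
theorem isClopen_iUnion (hc : Central j₁) (hfg : J.FG) :
    IsClopen (⋃ α : M₂ ≃+ M₁, zl (cAl J α)) := by
  constructor
  · have hfin : (Set.range (fun α : M₂ ≃+ M₁ => zl (cAl J α))).Finite := by
      have h0 := finite_setOf_coeffIdeal_map (M := Multiplicative M₁) J hfg
      apply (h0.image (fun 𝔠 : Ideal R => zl 𝔠)).subset
      rintro _ ⟨α, rfl⟩
      exact ⟨_, ⟨AddMonoidHom.toMultiplicative (lam α), rfl⟩, rfl⟩
    rw [← Set.sUnion_range, Set.sUnion_eq_biUnion]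
    apply hfin.isClosed_biUnion
    rintro _ ⟨α, rfl⟩
    exact (exists_clopen_dAl j₁ j₂ J hJ hc hfg α).1.1
  · apply isOpen_iUnion
    intro α
    exact (exists_clopen_dAl j₁ j₂ J hJ hc hfg α).1.2


include hJ in
/-- over a field, if the images coincide then `j₁ = D(α) j₂` for an isomorphism `α`. -/
theorem exists_triv_of_si [Mono j₁] [Mono j₂] (hc : Central j₁) {L : Type u} [Field L]
    (t : Spec (CommRingCat.of L) ⟶ Spec (CommRingCat.of R))
    (h : SI j₁ j₂ (Spec (CommRingCat.of L)) t) :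
    ∃ α : M₂ ≃+ M₁, Triv (dAl j₁ j₂ α) (Spec (CommRingCat.of L)) t := by
  have h12 : ∀ (B : Type u) [CommRing B] (β : L →+* B),
      PtFac j₁ j₂ (Spec.map (CommRingCat.ofHom β) ≫ t) := fun B _ β h₁ =>
    (h (Over.mk (Spec.map (CommRingCat.ofHom β) ≫ t)) (Spec.map (CommRingCat.ofHom β)) rfl).1 h₁
  have h21 : ∀ (B : Type u) [CommRing B] (β : L →+* B),
      PtFac j₂ j₁ (Spec.map (CommRingCat.ofHom β) ≫ t) := fun B _ β h₂ =>
    (h (Over.mk (Spec.map (CommRingCat.ofHom β) ≫ t)) (Spec.map (CommRingCat.ofHom β)) rfl).2 h₂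
  obtain ⟨α, hα⟩ := exists_equiv_of_ptFac t h12 h21
  refine ⟨α, ?_⟩
  haveI := isMonHom_dAl j₁ j₂ hc α
  obtain ⟨ρ, hρ⟩ : ∃ ρ : R →+* L, ρ = ringOf t := ⟨_, rfl⟩
  have htρ : t = Spec.map (CommRingCat.ofHom ρ) := by rw [hρ, specMap_ringOf]
  have hkill := kills_of_univ (dAl j₁ j₂ α) (IAl J α) (hIAl j₁ j₂ J hJ α) ρ
    (Spec.map (CommRingCat.ofHom (algebraMap L (MonoidAlgebra L (Multiplicative M₁)))) ≫ t)
    (by rw [htρ, ← specMap_comp_eq])
    ((comp_dAl_eq_one_iff j₁ j₂ α _).mpr (hα _ _ _))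
  apply triv_of_kills (dAl j₁ j₂ α) (IAl J α) (hIAl j₁ j₂ J hJ α)
  intro c hcc
  rw [htρ]
  exact fn_specMap_eq_zero ρ c (hkill c hcc)

include hJ in
/-- **The locus where the images of `j₁` and `j₂` coincide is open and closed.** -/
theorem exists_clopen_sameImage [Mono j₁] [Mono j₂] (hc : Central j₁) (hfg : J.FG) :
    ∃ Z : Set (Spec (CommRingCat.of R)), IsClopen Z ∧
      (∀ (Y : Scheme.{u}) (y : Y ⟶ Spec (CommRingCat.of R)), Set.range y ⊆ Z →
        ∀ p : Y, ∃ V : Y.Opens, p ∈ V ∧ SI j₁ j₂ V (V.ι ≫ y)) ∧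
      (∀ (K : Type u) [Field K] (y : Spec (CommRingCat.of K) ⟶ Spec (CommRingCat.of R)),
        SI j₁ j₂ (Spec (CommRingCat.of K)) y → Set.range y ⊆ Z) := by
  refine ⟨⋃ α : M₂ ≃+ M₁, zl (cAl J α), isClopen_iUnion j₁ j₂ J hJ hc hfg, ?_, ?_⟩
  · intro Y y hy p
    obtain ⟨α, hα⟩ := Set.mem_iUnion.mp (hy ⟨p, rfl⟩)
    obtain ⟨hclo, h1, -⟩ := exists_clopen_dAl j₁ j₂ J hJ hc hfg α
    refine ⟨⟨y ⁻¹' zl (cAl J α), hclo.2.preimage y.continuous⟩, hα, ?_⟩
    apply si_of_triv j₁ j₂ α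
    apply h1
    rintro _ ⟨v, rfl⟩
    exact v.2
  · intro K _ y hy
    obtain ⟨α, hα⟩ := exists_triv_of_si j₁ j₂ J hJ hc y hy
    obtain ⟨-, -, h2⟩ := exists_clopen_dAl j₁ j₂ J hJ hc hfg α
    exact (h2 K y hα).trans (Set.subset_iUnion (fun α : M₂ ≃+ M₁ => zl (cAl J α)) α)

end Clopen

end Groth.Agent.Lib.R2H3.EqLocus
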