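import Mathlib
import Groth.Prelude.Def_Coh

/-!
# Extension of derivations along formally etale algebras and etale schemes (helper3, round 2)

* `extDer θ` : the unique extension of a derivation `θ` of `A` to a formally etale `A`-algebra `B`.
* For a scheme `V` etale over `Spec A`, the derivation `θ` extends to an endomorphism `sheafDer` of
  the underlying abelian sheaf of `O_V`, satisfying the Leibniz rule with respect to multiplication
  by elements of `A`.
-/

set_option autoImplicit false
set_option backward.isDefEq.respectTransparency.types false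
set_option linter.style.haveILetI false
set_option linter.unusedSectionVars false
universe u
open CategoryTheory CategoryTheory.Limits AlgebraicGeometry Opposite TopologicalSpace

namespace Groth.Agent.Lib.R2H3.EtDer

section Alg

variable {A B : Type u} [CommRing A] [CommRing B] [Algebra A B]

/-- the extension of a derivation to a formally etale algebra -/
noncomputable def extDer [Algebra.FormallyEtale A B] (θ : Derivation ℤ A A) : Derivation ℤ B B :=
  ((KaehlerDifferential.isBaseChange_of_formallyEtale ℤ A B).lift
    ((Algebra.linearMap A B) ∘ₗ θ.liftKaehlerDifferential)).compDer (KaehlerDifferential.D ℤ B)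

lemma extDer_algebraMap [Algebra.FormallyEtale A B] (θ : Derivation ℤ A A) (a : A) :
    extDer (B := B) θ (algebraMap A B a) = algebraMap A B (θ a) := by
  change ((KaehlerDifferential.isBaseChange_of_formallyEtale ℤ A B).lift
    ((Algebra.linearMap A B) ∘ₗ θ.liftKaehlerDifferential))
      (KaehlerDifferential.D ℤ B (algebraMap A B a)) = _
  rw [← KaehlerDifferential.map_D ℤ ℤ A B, IsBaseChange.lift_eq]
  simp

/-- a derivation out of a formally unramified algebra which vanishes on the base vanishes -/
lemma eq_zero_of_formallyUnramified [Algebra.FormallyUnramified A B] {M : Type u} [AddCommGroup M]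
    [Module B M] [Module A M] [IsScalarTower A B M] (δ : Derivation ℤ B M)
    (h : ∀ a : A, δ (algebraMap A B a) = 0) (b : B) : δ b = 0 := by
  let δ' : Derivation A B M :=
    { toFun := δ
      map_add' := δ.map_add
      map_smul' := by
        intro a b
        rw [Algebra.smul_def, Derivation.leibniz, h a, smul_zero, add_zero, RingHom.id_apply,
          algebraMap_smul]
      map_one_eq_zero' := δ.map_one_eq_zero
      leibniz' := δ.leibniz }
  have h1 : δ' b = δ'.liftKaehlerDifferential (KaehlerDifferential.D A B b) :=
    (Derivation.liftKaehlerDifferential_comp_D δ' b).symm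
  have h2 : KaehlerDifferential.D A B b = 0 := Subsingleton.elim _ _
  change δ' b = 0
  rw [h1, h2, map_zero]

lemma extDer_comp [Algebra.FormallyEtale A B] {B' : Type u} [CommRing B'] [Algebra A B']
    [Algebra.FormallyEtale A B'] [Algebra B B'] [IsScalarTower A B B'] (θ : Derivation ℤ A A)
    (b : B) :
    extDer (B := B') θ (algebraMap B B' b) = algebraMap B B' (extDer (B := B) θ b) := by
  let δ1 : Derivation ℤ B B' :=
    { toFun := fun b => extDer (B := B') θ (algebraMap B B' b)
      map_add' := by intro x y; simp
      map_smul' := by intro n x; simp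
      map_one_eq_zero' := by simp
      leibniz' := by
        intro x y
        change extDer (B := B') θ (algebraMap B B' (x * y)) =
          x • extDer (B := B') θ (algebraMap B B' y) + y • extDer (B := B') θ (algebraMap B B' x)
        rw [map_mul, Derivation.leibniz, algebraMap_smul, algebraMap_smul] }
  let δ2 : Derivation ℤ B B' :=
    { toFun := fun b => algebraMap B B' (extDer (B := B) θ b)
      map_add' := by intro x y; simp
      map_smul' := by intro n x; simp
      map_one_eq_zero' := by simp
      leibniz' := by
        intro x y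
        change algebraMap B B' (extDer (B := B) θ (x * y)) =
          x • algebraMap B B' (extDer (B := B) θ y) + y • algebraMap B B' (extDer (B := B) θ x)
        rw [Derivation.leibniz, map_add, smul_eq_mul, smul_eq_mul, map_mul, map_mul,
          Algebra.smul_def, Algebra.smul_def] }
  have h := eq_zero_of_formallyUnramified (A := A) (δ1 - δ2) (by
    intro a
    change extDer (B := B') θ (algebraMap B B' (algebraMap A B a)) -
      algebraMap B B' (extDer (B := B) θ (algebraMap A B a)) = 0
    rw [← IsScalarTower.algebraMap_apply, extDer_algebraMap, extDer_algebraMap,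
      ← IsScalarTower.algebraMap_apply, sub_self]) b
  exact sub_eq_zero.mp h

end Alg

section Sch

variable {A : Type u} [CommRing A] {V : Scheme.{u}} (f : V ⟶ Spec (CommRingCat.of A))

/-- the structure map `A → Γ(V, W)` -/
noncomputable def φ (W : V.Opens) : A →+* Γ(V, W) :=
  (f.appLE ⊤ W le_top).hom.comp (Scheme.ΓSpecIso (CommRingCat.of A)).inv.hom

lemma φ_map {W W' : V.Opens} (h : W' ≤ W) (a : A) :
    (V.presheaf.map (homOfLE h).op).hom (φ f W a) = φ f W' a := by
  change ((f.appLE ⊤ W le_top) ≫ V.presheaf.map (homOfLE h).op).hom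
    ((Scheme.ΓSpecIso (CommRingCat.of A)).inv.hom a) = _
  rw [Scheme.Hom.appLE_map]
  rfl

lemma etale_φ [Etale f] (W : V.affineOpens) : (φ f W.1).Etale := by
  have h1 : (f.appLE ⊤ W.1 le_top).hom.Etale :=
    HasRingHomProperty.appLE (P := @Etale) f inferInstance ⟨⊤, isAffineOpen_top _⟩ W le_top
  exact RingHom.Etale.respectsIso.2 _
    (Scheme.ΓSpecIso (CommRingCat.of A)).symm.commRingCatIsoToRingEquiv h1

variable [Etale f] (θ : Derivation ℤ A A)

/-- the extended derivation on sections over an affine open -/
noncomputable def derApp (W : V.affineOpens) : Γ(V, W.1) →+ Γ(V, W.1) :=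
  letI := (φ f W.1).toAlgebra
  haveI : Algebra.FormallyEtale A Γ(V, W.1) := (etale_φ f W).formallyEtale
  ((extDer θ : Derivation ℤ Γ(V, W.1) Γ(V, W.1)) : Γ(V, W.1) →ₗ[ℤ] Γ(V, W.1)).toAddMonoidHom

lemma derApp_φ (W : V.affineOpens) (a : A) : derApp f θ W (φ f W.1 a) = φ f W.1 (θ a) := by
  letI := (φ f W.1).toAlgebra
  haveI : Algebra.FormallyEtale A Γ(V, W.1) := (etale_φ f W).formallyEtale
  exact extDer_algebraMap θ a

lemma derApp_mul (W : V.affineOpens) (x y : Γ(V, W.1)) :
    derApp f θ W (x * y) = x * derApp f θ W y + y * derApp f θ W x := by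
  letI := (φ f W.1).toAlgebra
  haveI : Algebra.FormallyEtale A Γ(V, W.1) := (etale_φ f W).formallyEtale
  exact (extDer θ : Derivation ℤ Γ(V, W.1) Γ(V, W.1)).leibniz x y

lemma derApp_map {W W' : V.affineOpens} (h : W'.1 ≤ W.1) (s : Γ(V, W.1)) :
    derApp f θ W' ((V.presheaf.map (homOfLE h).op).hom s) =
      (V.presheaf.map (homOfLE h).op).hom (derApp f θ W s) := by
  letI := (φ f W.1).toAlgebra
  haveI : Algebra.FormallyEtale A Γ(V, W.1) := (etale_φ f W).formallyEtale
  letI := (φ f W'.1).toAlgebra
  haveI : Algebra.FormallyEtale A Γ(V, W'.1) := (etale_φ f W').formallyEtale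
  letI := (V.presheaf.map (homOfLE h).op).hom.toAlgebra
  haveI : IsScalarTower A Γ(V, W.1) Γ(V, W'.1) :=
    IsScalarTower.of_algebraMap_eq (fun a => (φ_map f h a).symm)
  exact extDer_comp θ s

end Sch

section Sh

variable {A : Type u} [CommRing A] {V : Scheme.{u}} (f : V ⟶ Spec (CommRingCat.of A)) [Etale f]
  (θ : Derivation ℤ A A)

/-- the abelian sheaf underlying `O_V` -/
noncomputable abbrev OAb (V : Scheme.{u}) : Sheaf (Opens.grothendieckTopology V) AddCommGrpCat.{u} :=
  Coh.toAb (Coh.structureModule V)

/-- affine opens as an indexed basis -/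
abbrev Bf (V : Scheme.{u}) : V.affineOpens → V.Opens := fun W => W.1

lemma isBasis_Bf : Opens.IsBasis (Set.range (Bf V)) := by
  rw [show Set.range (Bf V) = V.affineOpens from Subtype.range_coe]
  exact V.isBasis_affineOpens

/-- the derivation on the basis of affine opens -/
noncomputable def basisNat :
    (inducedFunctor (Bf V)).op ⋙ (OAb V).obj ⟶ (inducedFunctor (Bf V)).op ⋙ (OAb V).obj where
  app W := AddCommGrpCat.ofHom (derApp f θ W.unop)
  naturality W W' i := by
    ext s
    exact derApp_map f θ (leOfHom ((inducedFunctor (Bf V)).map i.unop)) s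

/-- the derivation of the structure sheaf extending `θ`, as a map of abelian presheaves -/
noncomputable def presheafDer : (OAb V).obj ⟶ (OAb V).obj :=
  TopCat.Sheaf.restrictHomEquivHom (OAb V).obj (OAb V) isBasis_Bf (basisNat f θ)

lemma presheafDer_app (W : V.affineOpens) :
    (presheafDer f θ).app (op W.1) = AddCommGrpCat.ofHom (derApp f θ W) :=
  TopCat.Sheaf.extend_hom_app (OAb V).obj (OAb V) isBasis_Bf (basisNat f θ) W

/-- the derivation of the structure sheaf extending `θ` -/
noncomputable def sheafDer : OAb V ⟶ OAb V := ⟨presheafDer f θ⟩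

lemma resTop_toGlobal (W : V.Opens) (a : A) :
    Coh.resTop V (op W) (Coh.toGlobal f a) = φ f W a := by
  rfl

/-- the Leibniz rule for `sheafDer` -/
theorem sheafDer_leibniz (a : A) :
    Coh.smulAb (Coh.structureModule V) (Coh.toGlobal f a) ≫ sheafDer f θ =
      Coh.smulAb (Coh.structureModule V) (Coh.toGlobal f (θ a)) +
        sheafDer f θ ≫ Coh.smulAb (Coh.structureModule V) (Coh.toGlobal f a) := by
  apply Sheaf.hom_ext
  apply TopCat.Sheaf.hom_ext (OAb V).obj (OAb V) isBasis_Bf
  intro W
  ext s
  change (presheafDer f θ).app (op W.1)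
      ((Coh.smulAb (Coh.structureModule V) (Coh.toGlobal f a)).hom.app (op W.1) s) =
    (Coh.smulAb (Coh.structureModule V) (Coh.toGlobal f (θ a))).hom.app (op W.1) s +
      (Coh.smulAb (Coh.structureModule V) (Coh.toGlobal f a)).hom.app (op W.1)
        ((presheafDer f θ).app (op W.1) s)
  rw [presheafDer_app]
  have key : ∀ t : Γ(V, W.1), derApp f θ W (φ f W.1 a * t) =
      φ f W.1 (θ a) * t + φ f W.1 a * derApp f θ W t := by
    intro t
    rw [derApp_mul, derApp_φ]
    ring
  exact key s

end Sh

end Groth.Agent.Lib.R2H3.EtDer
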