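import Groth.Agent.Lib.R2H3ExtAffine
import Groth.Agent.Lib.Helper20PullbackAff
set_option backward.isDefEq.respectTransparency.types false

/-!
# Sections of the local Ext sheaves over affine opens (helper3, round 2)

`X` locally Noetherian, `U` an affine open, `F` coherent, `G` quasi-coherent:
`Γ(U, ℰxt^i(F, G)) ≃ₗ[Γ(X, U)] Ext^i_{Γ(X,U)}(F(U), G(U))`.
-/

set_option autoImplicit false
set_option linter.style.haveILetI false
set_option linter.unusedSectionVars false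
universe u
open CategoryTheory CategoryTheory.Limits AlgebraicGeometry Opposite Abelian

namespace Groth.Agent.Lib.R2H3.ExtAffSec

section Congr

universe w v u₁ t

variable {C : Type u₁} [Category.{v} C] [Abelian C] [HasExt.{w} C] (R : Type t) [CommRing R]
  [Linear R C]

/-- `Ext(X, Z) ≃ₗ Ext(X', Z)` for `X ≅ X'` -/
noncomputable def extCongrLeft {X X' : C} (e : X ≅ X') (Z : C) (n : ℕ) :
    Ext X Z n ≃ₗ[R] Ext X' Z n :=
  LinearEquiv.ofLinearMap (Ext.precompOfLinear (Ext.mk₀ e.inv) R Z (zero_add n))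
    (Ext.precompOfLinear (Ext.mk₀ e.hom) R Z (zero_add n))
    (by
      ext x
      change (Ext.mk₀ e.inv).comp ((Ext.mk₀ e.hom).comp x (zero_add n)) (zero_add n) = x
      rw [Ext.mk₀_comp_mk₀_assoc, e.inv_hom_id, Ext.mk₀_id_comp])
    (by
      ext x
      change (Ext.mk₀ e.hom).comp ((Ext.mk₀ e.inv).comp x (zero_add n)) (zero_add n) = x
      rw [Ext.mk₀_comp_mk₀_assoc, e.hom_inv_id, Ext.mk₀_id_comp])

/-- `Ext(X, Z) ≃ₗ Ext(X, Z')` for `Z ≅ Z'` -/
noncomputable def extCongrRight (X : C) {Z Z' : C} (e : Z ≅ Z') (n : ℕ) :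
    Ext X Z n ≃ₗ[R] Ext X Z' n :=
  LinearEquiv.ofLinearMap (Ext.postcompOfLinear (Ext.mk₀ e.hom) R X (add_zero n))
    (Ext.postcompOfLinear (Ext.mk₀ e.inv) R X (add_zero n))
    (by
      ext x
      change ((x.comp (Ext.mk₀ e.inv) (add_zero n)).comp (Ext.mk₀ e.hom) (add_zero n)) = x
      rw [Ext.comp_assoc_of_third_deg_zero, Ext.mk₀_comp_mk₀, e.inv_hom_id, Ext.comp_mk₀_id])
    (by
      ext x
      change ((x.comp (Ext.mk₀ e.hom) (add_zero n)).comp (Ext.mk₀ e.inv) (add_zero n)) = x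
      rw [Ext.comp_assoc_of_third_deg_zero, Ext.mk₀_comp_mk₀, e.hom_inv_id, Ext.comp_mk₀_id])

end Congr

section Main

open Groth.Agent.Lib.R2H3.ExtAffine Groth.Agent.Lib.R2H3.ExtAffQC Groth.Agent.Lib.R2H3.OpenShriek
  Groth.Agent.Lib.Helper20.Thickening Groth.Agent.Lib.Helper20.PullbackAff
  Groth.Agent.Lib.Helper20.OmegaAff Groth.Agent.Lib.Helper21.DerPost Groth.Agent.Lib.Helper21.Dual

variable {X : Scheme.{u}} [IsLocallyNoetherian X] [HasInjectiveResolutions (ModSite.Mod X.sheaf)]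

attribute [local instance] Groth.Agent.Lib.Helper21.ExtShDelta.hasSheafHom
attribute [local instance 2000] Groth.Agent.Lib.R2H3.ExtAffine.overSelf

/-- `ℰxt^i(F, G) ≅ ℰxt^i(F', G')` for `F ≅ F'`, `G ≅ G'` -/
theorem nonempty_extSh_congr {Y : Scheme.{u}} [HasInjectiveResolutions (ModSite.Mod Y.sheaf)]
    {F F' G G' : Y.Modules} (eF : F ≅ F') (eG : G ≅ G') (i : ℕ) :
    Nonempty ((ModSite.extSh (O := Y.sheaf) F i).obj G ≅
      (ModSite.extSh (O := Y.sheaf) F' i).obj G') :=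
  ⟨(natIsoRightDerived (sheafHomCongr (O := Y.sheaf) eF) i).app G ≪≫
    (ModSite.extSh (O := Y.sheaf) F' i).mapIso eG⟩

/-- **sections of the local Ext sheaves over an affine open** -/
theorem nonempty_sections_linearEquiv_ext {U : X.Opens} (hU : IsAffineOpen U) (F G : X.Modules)
    (hF : Coh.IsCoh F) [G.IsQuasicoherent] (i : ℕ) :
    Nonempty (Γ((ModSite.extSh (O := X.sheaf) F i).obj G, U) ≃ₗ[Γ(X, U)]
      Ext.{u} (ModuleCat.of Γ(X, U) Γ(F, U)) (ModuleCat.of Γ(X, U) Γ(G, U)) i) := by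
  haveI : IsNoetherianRing Γ(X, U) := IsLocallyNoetherian.component_noetherian ⟨U, hU⟩
  letI : HasInjectiveResolutions (ModSite.Mod (SA Γ(X, U)).sheaf) :=
    Groth.Agent.Lib.R2H3.RpushRestrict.hasInjectiveResolutions_modules (SA Γ(X, U))
  haveI : EnoughInjectives (SA Γ(X, U)).Modules :=
    Groth.Agent.S0485.result (Opens.grothendieckTopology (SA Γ(X, U))) (SA Γ(X, U)).ringCatSheaf
  haveI : HasExt.{u} (SA Γ(X, U)).Modules := hasExt_of_enoughInjectives.{u} _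
  let E : X.Modules := (ModSite.extSh (O := X.sheaf) F i).obj G
  haveI : F.IsQuasicoherent := hF.1
  haveI : SheafOfModules.IsFiniteType (R := X.ringCatSheaf) F := hF.2
  -- the modules of sections
  let M' : ModuleCat.{u} Γ(X, U) := (ΓUF hU).obj F
  let N' : ModuleCat.{u} Γ(X, U) := (ΓUF hU).obj G
  haveI : Module.Finite Γ(X, U) M' :=
    (Groth.Agent.Lib.Helper23.FinType.finite_ΓU_iff F hU).2
      (Groth.Agent.Lib.Helper23.FinType.finite_of_isFiniteType F hU)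
  -- restrictions as tildes
  let eF : F.restrict hU.fromSpec ≅ (tl Γ(X, U)).obj M' :=
    isoTildeOfΓIso (F.restrict hU.fromSpec) M' (Iso.refl _)
  let eG : G.restrict hU.fromSpec ≅ (tl Γ(X, U)).obj N' :=
    isoTildeOfΓIso (G.restrict hU.fromSpec) N' (Iso.refl _)
  obtain ⟨e1⟩ := nonempty_restrict_extSh_iso hU.fromSpec F G i
  obtain ⟨e2⟩ := nonempty_extSh_congr eF eG i
  obtain ⟨e3⟩ := nonempty_sections_extSh_linearEquiv Γ(X, U) M' N' i
  let e4 : (ΓUF hU).obj E ≃ₗ[Γ(X, U)] Ext.{u} M' N' i :=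
    ((Γm Γ(X, U)).mapIso (e1 ≪≫ e2)).toLinearEquiv.trans e3
  let e5 : Ext.{u} M' N' i ≃ₗ[Γ(X, U)]
      Ext.{u} (ModuleCat.of Γ(X, U) Γ(F, U)) (ModuleCat.of Γ(X, U) Γ(G, U)) i :=
    (extCongrLeft Γ(X, U) (ΓUEquiv hU F).toModuleIso.symm N' i).trans
      (extCongrRight Γ(X, U) _ (ΓUEquiv hU G).toModuleIso.symm i)
  exact ⟨(ΓUEquiv hU E).trans (e4.trans e5)⟩

end Main

end Groth.Agent.Lib.R2H3.ExtAffSec
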