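import Groth.Agent.Lib.R2H3LerayDeg

/-!
# Bounded degenerate Leray (helper3, round 2)

`Rⁿ(F ⋙ G)(X) ≅ G(RⁿF X)` as soon as `F` sends injectives to `G`-acyclics and `RᵇF X` is
`G`-acyclic for all `b < n` (no condition on `RⁿF X` itself nor on higher ones).
-/

set_option autoImplicit false
set_option linter.style.haveILetI false
set_option linter.unusedSectionVars false
set_option linter.unusedVariables false
universe v v' v'' u u' u''
open CategoryTheory CategoryTheory.Limits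

namespace Groth.Agent.Lib.R2H3.LerayDegB

open Groth.Agent.Lib.Helper16.AcyclicCx Groth.Agent.Lib.Helper17.RDerLib
  Groth.Agent.Lib.R2H3.LerayDeg

variable {ℬ : Type u} [Category.{v} ℬ] [Abelian ℬ] [EnoughInjectives ℬ]
  {𝒞 : Type u'} [Category.{v'} 𝒞] [Abelian 𝒞] {G : ℬ ⥤ 𝒞} [G.Additive] [PreservesFiniteLimits G]

section Main

variable (K : CochainComplex ℬ ℕ) (hK : ∀ n, GAcyc G (K.X n))

include hK in
lemma acyc_cycles : ∀ n, (∀ m, m ≤ n → GAcyc G (K.homology m)) →
    GAcyc G (kernel (K.d n (n + 1)))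
  | 0, hH => (hH 0 le_rfl).of_iso (homologyZeroIso' K)
  | n + 1, hH => by
    have h1 : GAcyc G (kernel (toZ K n)) := by
      refine (acyc_cycles n (fun m hm => hH m (by omega))).of_iso ?_
      have e : toZ K n ≫ kernel.ι (K.d (n + 1) (n + 2)) = K.d n (n + 1) := kernel.lift_ι _ _ _
      exact (kernelIsoOfEq e.symm) ≪≫ kernelCompMono _ _
    have h2 : GAcyc G (Abelian.image (toZ K n)) := GAcyc.X₃ (scA_shortExact (toZ K n)) h1 (hK n)
    have h3 : GAcyc G (cokernel (toZ K n)) :=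
      (hH (n + 1) le_rfl).of_iso (homologySuccIso' K n)
    exact GAcyc.X₂ (scB_shortExact (toZ K n)) h2 h3

include hK in
lemma acyc_kernel_toZ (n : ℕ) (hH : ∀ m, m ≤ n → GAcyc G (K.homology m)) :
    GAcyc G (kernel (toZ K n)) := by
  refine (acyc_cycles K hK n hH).of_iso ?_
  have e : toZ K n ≫ kernel.ι (K.d (n + 1) (n + 2)) = K.d n (n + 1) := kernel.lift_ι _ _ _
  exact (kernelIsoOfEq e.symm) ≪≫ kernelCompMono _ _

include hK in
lemma acyc_image_toZ (n : ℕ) (hH : ∀ m, m ≤ n → GAcyc G (K.homology m)) :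
    GAcyc G (Abelian.image (toZ K n)) :=
  GAcyc.X₃ (scA_shortExact (toZ K n)) (acyc_kernel_toZ K hK n hH) (hK n)

/-- `Hⁿ(G K) ≅ G (Hⁿ K)` when the terms of `K` and the cohomology of `K` in degrees `< n` are
`G`-acyclic. -/
noncomputable def homologyMapIso : ∀ n : ℕ, (∀ m, m < n → GAcyc G (K.homology m)) →
    (((G.mapHomologicalComplex (ComplexShape.up ℕ)).obj K).homology n ≅ G.obj (K.homology n))
  | 0, _ => homologyZeroIso G K ≪≫ G.mapIso (homologyZeroIso' K).symm
  | n + 1, hH => homologySuccIso G K n ≪≫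
      cokerIso (toZ K n) (acyc_kernel_toZ K hK n (fun m hm => hH m (by omega)))
        (acyc_image_toZ K hK n (fun m hm => hH m (by omega))) ≪≫
      G.mapIso (homologySuccIso' K n).symm

end Main

/-- **Bounded degenerate Leray**: `Rⁿ(F ⋙ G)(X) ≅ G(RⁿF X)` when `F` sends injectives to
`G`-acyclics and `RᵇF X` is `G`-acyclic for `b < n`. -/
theorem nonempty_rightDerived_comp_iso_of_acyclic_lt {𝒜 : Type u''} [Category.{v''} 𝒜] [Abelian 𝒜]
    [hA : HasInjectiveResolutions 𝒜] (F : 𝒜 ⥤ ℬ) [F.Additive]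
    (hI : ∀ I : 𝒜, Injective I → GAcyc G (F.obj I)) (X : 𝒜) (n : ℕ)
    (hX : ∀ b : ℕ, b < n → GAcyc G ((F.rightDerived b).obj X)) :
    Nonempty (((F ⋙ G).rightDerived n).obj X ≅ G.obj ((F.rightDerived n).obj X)) := by
  let I := injectiveResolution X
  let K : CochainComplex ℬ ℕ := (F.mapHomologicalComplex (ComplexShape.up ℕ)).obj I.cocomplex
  have hK : ∀ m, GAcyc G (K.X m) := fun m => hI _ (I.injective m)
  have hH : ∀ m, m < n → GAcyc G (K.homology m) :=
    fun m hm => (hX m hm).of_iso (I.isoRightDerivedObj F m)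
  let e1 : ((F ⋙ G).rightDerived n).obj X ≅
      ((G.mapHomologicalComplex (ComplexShape.up ℕ)).obj K).homology n :=
    I.isoRightDerivedObj (F ⋙ G) n
  let e2 := homologyMapIso K hK n hH
  let e3 : G.obj (K.homology n) ≅ G.obj ((F.rightDerived n).obj X) :=
    G.mapIso (I.isoRightDerivedObj F n).symm
  exact ⟨e1 ≪≫ e2 ≪≫ e3⟩

end Groth.Agent.Lib.R2H3.LerayDegB
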