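import Groth.Agent.Lib.R2H3DerLin
import Groth.Agent.Lib.R2H3LerayDegB
import Groth.Agent.Lib.R2H2SheafHomExt
import Groth.Agent.Lib.Helper21FreeConst
import Groth.Agent.S0485

/-!
# Local-to-global Ext, degenerate linear form (helper3, round 2)

`X` a scheme over `Spec A`, `M N : X.Modules`.  If `H^{p+1}(X, ℰxt^b(M, N)) = 0` for all `p` and all
`b < n`, then `Ext^n(M, N) ≃ₗ[A] H^0(X, ℰxt^n(M, N))`.
-/

set_option autoImplicit false
set_option linter.style.haveILetI false
set_option linter.unusedSectionVars false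
universe u
open CategoryTheory CategoryTheory.Limits AlgebraicGeometry Opposite Abelian

namespace Groth.Agent.Lib.R2H3.ExtLocGlob

open Groth.Agent.Lib.R2H3.DerLin Groth.Agent.Lib.R2H3.LerayDeg Groth.Agent.Lib.R2H3.LerayDegB
  Groth.Agent.Lib.R2H2.SheafHomExt Groth.Agent.Lib.Helper21.FreeAb
  Groth.Agent.Lib.Helper21.TorsFree Groth.Agent.Lib.Helper21.ModTensor3
  Groth.Agent.Lib.Helper21.ModTensor5

attribute [local instance] Groth.Agent.Lib.Helper21.ExtShDelta.hasSheafHom

variable {A : Type u} [CommRing A] {X : Scheme.{u}} [X.Over (Spec (CommRingCat.of A))]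

/-- global sections as an `A`-module: `Hom(O_X, -)`. -/
noncomputable abbrev ΓA (A : Type u) [CommRing A] (X : Scheme.{u}) [X.Over (Spec (CommRingCat.of A))] :
    X.Modules ⥤ ModuleCat.{u} A :=
  (linearCoyoneda A X.Modules).obj (op (Coh.structureModule X))

instance linear_ΓA : (ΓA A X).Linear A where
  map_smul f a := by
    ext g
    exact Linear.comp_smul _ _ _ g a f

instance preservesFiniteLimits_ΓA : PreservesFiniteLimits (ΓA A X) := by
  haveI : PreservesFiniteLimits
      (ΓA A X ⋙ forget₂ (ModuleCat.{u} A) AddCommGrpCat.{u}) :=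
    inferInstanceAs (PreservesFiniteLimits
      (preadditiveCoyoneda.obj (op (Coh.structureModule X))))
  exact preservesFiniteLimits_of_reflects_of_preserves (ΓA A X)
    (forget₂ (ModuleCat.{u} A) AddCommGrpCat.{u})

instance : EnoughInjectives X.Modules :=
  Groth.Agent.S0485.result (Opens.grothendieckTopology X) X.ringCatSheaf

variable [HasExt.{u} X.Modules]

/-- `R^p Γ_A(Y) ≃ₗ[A] H^p(X, Y)`. -/
theorem nonempty_rightDerived_ΓA (Y : X.Modules) (p : ℕ) :
    Nonempty (((ΓA A X).rightDerived p).obj Y ≃ₗ[A] Coh.HH X Y p) := by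
  obtain ⟨e⟩ := nonempty_linearEquiv_ext (ΓA A X) (Coh.structureModule X) (Iso.refl _) Y p
  exact ⟨e.trans (extUnitEquiv Y p)⟩

theorem gAcyc_ΓA (Y : X.Modules) (h : ∀ p : ℕ, Subsingleton (Coh.HH X Y (p + 1))) :
    GAcyc (ΓA A X) Y := by
  intro p
  obtain ⟨e⟩ := nonempty_rightDerived_ΓA (A := A) Y (p + 1)
  haveI := h p
  haveI : Subsingleton (((ΓA A X).rightDerived (p + 1)).obj Y) := e.toEquiv.subsingleton
  exact ModuleCat.isZero_of_subsingleton _

/-- `Γ_A(Y) ≃ₗ[A] H^0(X, Y)`. -/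
theorem nonempty_ΓA_linearEquiv (Y : X.Modules) :
    Nonempty ((ΓA A X).obj Y ≃ₗ[A] Coh.HH X Y 0) := by
  obtain ⟨e⟩ := nonempty_rightDerived_ΓA (A := A) Y 0
  exact ⟨((Functor.rightDerivedZeroIsoSelf (ΓA A X)).app Y).symm.toLinearEquiv.trans e⟩

section SheafHom

variable (M : X.Modules) [ModSite.HasSheafHom (O := X.sheaf) M]

/-- the internal Hom `ℋom(M, -)` as an endofunctor of `X.Modules`. -/
noncomputable abbrev shHom : X.Modules ⥤ X.Modules := ModSite.sheafHom (O := X.sheaf) M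

instance additive_tR' : ((ModSite.tensorBi X.sheaf).flip.obj M).Additive := tR_additive X.sheaf M

instance additive_shHom : (shHom M).Additive :=
  (ModSite.sheafHomAdj (O := X.sheaf) M).right_adjoint_additive

theorem shHom_map_smul_id (B : X.Modules) (a : A) :
    (shHom M).map (a • 𝟙 B) = a • 𝟙 ((shHom M).obj B) := by
  haveI : DCoh.HasSheafHom M := Groth.Agent.Lib.Helper21.ModTensor3.tL_isLeftAdjoint X.sheaf M
  have h := (sheafHomIso M).hom.naturality (a • 𝟙 B)
  rw [sheafHom_map_smul, Linear.smul_comp, Category.id_comp] at h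
  have h2 : (shHom M).map (a • 𝟙 B) =
      (sheafHomIso M).inv.app B ≫ (a • (sheafHomIso M).hom.app B) := by
    rw [h, ← Category.assoc, ← NatTrans.comp_app, Iso.inv_hom_id, NatTrans.id_app,
      Category.id_comp]
  rw [h2, Linear.comp_smul, ← NatTrans.comp_app, Iso.inv_hom_id, NatTrans.id_app]

instance linear_shHom : (shHom M).Linear A where
  map_smul {B B'} f a := by
    have h1 : a • f = (a • 𝟙 B) ≫ f := by rw [Linear.smul_comp, Category.id_comp]
    rw [h1, Functor.map_comp, shHom_map_smul_id, Linear.smul_comp, Category.id_comp]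

/-- `Hom(O, ℋom(M, -)) ≅ Hom(M, -)`. -/
noncomputable def coyonedaIso :
    (shHom M ⋙ ΓA A X) ⋙ forget₂ (ModuleCat.{u} A) AddCommGrpCat.{u} ≅
      preadditiveCoyoneda.obj (op M) :=
  adjCoyonedaIso (ModSite.sheafHomAdj (O := X.sheaf) M) (ModSite.unit X.sheaf) ≪≫
    coyonedaIsoOfIso ((Groth.Agent.Lib.Helper21.ModTensor7.tLUnitIso X.sheaf).app M)

end SheafHom

/-- **Degenerate local-to-global Ext**, `A`-linear form. -/
theorem main (M N : X.Modules) [ModSite.HasSheafHom (O := X.sheaf) M]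
    [HasInjectiveResolutions (ModSite.Mod X.sheaf)] (n : ℕ)
    (h : ∀ b : ℕ, b < n → ∀ p : ℕ,
      Subsingleton (Coh.HH X ((ModSite.extSh (O := X.sheaf) M b).obj N) (p + 1))) :
    Nonempty (Ext M N n ≃ₗ[A] Coh.HH X ((ModSite.extSh (O := X.sheaf) M n).obj N) 0) := by
  haveI hres : HasInjectiveResolutions X.Modules := inferInstance
  obtain ⟨e1⟩ := nonempty_linearEquiv_ext (shHom M ⋙ ΓA A X) M (coyonedaIso M) N n
  have hI : ∀ I : X.Modules, Injective I → GAcyc (ΓA A X) ((shHom M).obj I) := by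
    intro I hI
    haveI : Injective (C := ModSite.Mod X.sheaf) I := hI
    apply gAcyc_ΓA
    intro p
    exact ⟨fun x y => (ext_sheafHom_eq_zero X.sheaf M I p _ TF_Zc x).trans
      (ext_sheafHom_eq_zero X.sheaf M I p _ TF_Zc y).symm⟩
  obtain ⟨e2⟩ := nonempty_rightDerived_comp_iso_of_acyclic_lt (𝒜 := X.Modules) (G := ΓA A X)
    (hA := hres)
    (shHom M) hI N n (fun b hb => gAcyc_ΓA _ (h b hb))
  obtain ⟨e3⟩ := nonempty_ΓA_linearEquiv (A := A) (((shHom M).rightDerived n).obj N)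
  exact ⟨e1.symm.trans (e2.toLinearEquiv.trans e3)⟩

end Groth.Agent.Lib.R2H3.ExtLocGlob
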