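import Groth.Agent.Lib.R2H3ExtAffQC
import Groth.Agent.Lib.R2H3ExtLocGlob
import Groth.Agent.Lib.R2H2GammaDer
import Groth.Agent.Lib.Helper23AffVanish7
import Groth.Agent.S9498
import Groth.Agent.Lib.Helper20LocFree
import Groth.Agent.Lib.R2H2KoszulShift
import Groth.Agent.Lib.Helper23FinType2
set_option backward.isDefEq.respectTransparency.types false

/-!
# The local Ext sheaves on a Noetherian affine scheme (helper3, round 2)

`A` Noetherian, `M` a finite `A`-module, `N` any `A`-module:
`ℰxt^n(M~, N~) ≅ (Ext^n_A(M, N))~` on `Spec A`.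
-/

set_option autoImplicit false
set_option linter.style.haveILetI false
set_option linter.unusedSectionVars false
universe u
open CategoryTheory CategoryTheory.Limits AlgebraicGeometry Opposite Abelian

namespace Groth.Agent.Lib.R2H3.ExtAffine

section MapExt

universe w w' v v' u₁ u₂

variable {C : Type u₁} [Category.{v} C] [Abelian C] {D : Type u₂} [Category.{v'} D] [Abelian D]
  (F : C ⥤ D) [F.Additive] [PreservesFiniteLimits F] [PreservesFiniteColimits F]

attribute [local simp] Ext.mapExactFunctor_comp Ext.mapExactFunctor_mk₀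
  Ext.mapExactFunctor_extClass

/-- a fully faithful exact functor induces bijections on `Ext(X, Y)` for the objects `X` which
have resolutions by objects acyclic for `Ext(-, Y)` and `Ext(F -, F Y)`. -/
lemma mapExt_bijective_of_resolving [F.Full] [F.Faithful] [HasExt.{w} C] [HasExt.{w'} D]
    (P₀ Q : C → Prop) (Y : C)
    (hsyz : ∀ X, P₀ X → ∃ (S : ShortComplex C) (_ : S.ShortExact), S.X₃ = X ∧ Q S.X₂ ∧ P₀ S.X₁)
    (hQP : ∀ E, Q E → P₀ E)
    (hQ : ∀ E, Q E → ∀ n : ℕ, Subsingleton (Ext.{w} E Y (n + 1)))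
    (hQ' : ∀ E, Q E → ∀ n : ℕ, Subsingleton (Ext.{w'} (F.obj E) (F.obj Y) (n + 1)))
    (X : C) (hX : P₀ X) (n : ℕ) : Function.Bijective (F.mapExtAddHom X Y n) := by
  induction n generalizing X with
  | zero => simpa [Ext.mapExactFunctor₀] using ⟨Functor.Faithful.map_injective, Functor.Full.map_surjective⟩
  | succ n hn =>
    obtain ⟨S, hS, rfl, hE, hK⟩ := hsyz X hX
    haveI := hS.mono_f
    haveI := hS.epi_g
    haveI := hQ S.X₂ hE n
    haveI : Subsingleton (Ext.{w'} (S.map F).X₂ (F.obj Y) (n + 1)) := hQ' S.X₂ hE n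
    exact AddMonoidHom.bijective_of_surjective_of_bijective_of_right_exact _ _ _ _
      (F.mapExtAddHom S.X₂ Y n) (F.mapExtAddHom S.X₁ Y n) (F.mapExtAddHom S.X₃ Y (n + 1))
      (by cat_disch) (by cat_disch)
      ((ShortComplex.ab_exact_iff_function_exact _).1
        (Ext.contravariant_sequence_exact₁' hS Y n (n + 1) (add_comm 1 n)))
      ((ShortComplex.ab_exact_iff_function_exact _).1
        (Ext.contravariant_sequence_exact₁' (hS.map F) (F.obj Y) n (n + 1) (add_comm 1 n)))
      (hn _ (hQP _ hE)).surjective (hn _ hK)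
      (fun x₃ ↦ Ext.contravariant_sequence_exact₃ hS _ x₃ (by subsingleton) (add_comm 1 n))
      (fun y₃ ↦ Ext.contravariant_sequence_exact₃ (hS.map F) _ y₃ (by subsingleton)
        (add_comm 1 n))

end MapExt

variable (A : Type u) [CommRing A]

/-- `Spec A` -/
noncomputable abbrev SA : Scheme.{u} := Spec (CommRingCat.of A)

/-- the identity as structure morphism (Mathlib's `specOverSpec` is only propositionally the
identity) -/
@[reducible] noncomputable def overSelf : (SA A).Over (Spec (CommRingCat.of A)) := ⟨𝟙 _⟩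

attribute [local instance 2000] overSelf

/-- global sections on `Spec A`, as `A`-modules -/
noncomputable abbrev Γm : (SA A).Modules ⥤ ModuleCat.{u} A :=
  moduleSpecΓFunctor (R := CommRingCat.of A)

/-- the tilde functor -/
noncomputable abbrev tl : ModuleCat.{u} A ⥤ (SA A).Modules := tilde.functor (CommRingCat.of A)

theorem Γm_map_smul {E E' : (SA A).Modules} (a : A) (f : E ⟶ E') :
    (Γm A).map (a • f) = a • (Γm A).map f := by
  apply ModuleCat.hom_ext
  apply LinearMap.ext
  intro x
  have h := KLin.smul_app_apply a f ⊤ x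
  refine Eq.trans ?_ (h.trans ?_)
  · rfl
  · have e2 : Coh.toGlobal (SA A ↘ Spec (CommRingCat.of A)) a =
        (Scheme.ΓSpecIso (CommRingCat.of A)).inv.hom a := by
      have e0 : (SA A ↘ Spec (CommRingCat.of A)) = 𝟙 (SA A) := rfl
      change ((SA A ↘ Spec (CommRingCat.of A)).appTop).hom
        ((Scheme.ΓSpecIso (CommRingCat.of A)).inv.hom a) = _
      rw [e0, Scheme.Hom.id_appTop]
      rfl
    rw [e2]
    have e1 : (SA A).presheaf.map (homOfLE (le_top : (⊤ : (SA A).Opens) ≤ ⊤)).op = 𝟙 _ :=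
      (SA A).presheaf.map_id _
    rw [e1]
    rfl

instance linear_Γm : (Γm A).Linear A where
  map_smul f a := Γm_map_smul A a f

/-- the adjunction `~ ⊣ Γ` -/
noncomputable abbrev tlAdj : tl A ⊣ Γm A := tilde.adjunction (R := CommRingCat.of A)

instance linear_tl : (tl A).Linear A where
  map_smul {M N} f a := by
    apply ((tlAdj A).homEquiv M _).injective
    rw [Adjunction.homEquiv_unit, Adjunction.homEquiv_unit, Γm_map_smul, Linear.comp_smul]
    have h1 : (a • f) ≫ (tlAdj A).unit.app N =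
        (tlAdj A).unit.app M ≫ (Γm A).map ((tl A).map (a • f)) :=
      (tlAdj A).unit.naturality (a • f)
    have h2 : f ≫ (tlAdj A).unit.app N =
        (tlAdj A).unit.app M ≫ (Γm A).map ((tl A).map f) :=
      (tlAdj A).unit.naturality f
    rw [← h1, ← h2, Linear.smul_comp]

instance full_tl : (tl A).Full :=
  (tilde.fullyFaithfulFunctor (R := CommRingCat.of A)).full

instance faithful_tl : (tl A).Faithful :=
  (tilde.fullyFaithfulFunctor (R := CommRingCat.of A)).faithful

instance isQuasicoherent_tl (N : ModuleCat.{u} A) : ((tl A).obj N).IsQuasicoherent :=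
  inferInstanceAs (tilde (R := CommRingCat.of A) N).IsQuasicoherent

instance preservesFiniteLimits_tl : PreservesFiniteLimits (tl A) :=
  (Groth.Agent.S9498.aux (CommRingCat.of A)).1

instance preservesFiniteColimits_tl : PreservesFiniteColimits (tl A) :=
  (Groth.Agent.S9498.aux (CommRingCat.of A)).2

section HH0

open Groth.Agent.Lib.R2H2.GammaDer

theorem toGlobal_self (a : A) : Coh.toGlobal (SA A ↘ Spec (CommRingCat.of A)) a =
    (Scheme.ΓSpecIso (CommRingCat.of A)).inv.hom a := by
  have e0 : (SA A ↘ Spec (CommRingCat.of A)) = 𝟙 (SA A) := rfl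
  change ((SA A ↘ Spec (CommRingCat.of A)).appTop).hom
    ((Scheme.ΓSpecIso (CommRingCat.of A)).inv.hom a) = _
  rw [e0, Scheme.Hom.id_appTop]
  rfl

/-- `H^0(Spec A, E) ≃ₗ[A] Γ(E)` -/
noncomputable def hh0Equiv (E : (SA A).Modules) : Coh.HH (SA A) E 0 ≃ₗ[A] (Γm A).obj E where
  toFun := e0Lin (SA A) E
  map_add' := map_add _
  map_smul' a x := by
    have h1 : a • x = Coh.toGlobal (SA A ↘ Spec (CommRingCat.of A)) a • x := rfl
    rw [h1, map_smul, toGlobal_self]
    rfl
  invFun := (e0Lin (SA A) E).symm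
  left_inv := (e0Lin (SA A) E).left_inv
  right_inv := (e0Lin (SA A) E).right_inv

end HH0

section Compare

open Groth.Agent.Lib.R2H3.ExtAffQC Groth.Agent.Lib.R2H3.ExtLocGlob

variable [IsNoetherianRing A] [HasExt.{u} (SA A).Modules]
  [HasInjectiveResolutions (ModSite.Mod (SA A).sheaf)]

attribute [local instance] Groth.Agent.Lib.Helper21.ExtShDelta.hasSheafHom

instance : IsAffine (SA A) := inferInstance

/-- local-to-global Ext on a Noetherian affine scheme -/
theorem nonempty_ext_linearEquiv_HH (F G : (SA A).Modules) (hF : Coh.IsCoh F)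
    [G.IsQuasicoherent] (n : ℕ) :
    Nonempty (Ext F G n ≃ₗ[A]
      Coh.HH (SA A) ((ModSite.extSh (O := (SA A).sheaf) F n).obj G) 0) := by
  refine main (A := A) F G n (fun b _ p => ?_)
  haveI := isQuasicoherent_extSh F G hF b
  exact Groth.Agent.Lib.Helper23.AffVanish.subsingleton_HH _ (p + 1) (Nat.succ_pos p)

/-- `Ext^{n+1}(L, G) = 0` for `L` finite locally free, `G` quasi-coherent on an affine scheme -/
theorem subsingleton_ext_of_isFinLocFree (L G : (SA A).Modules) (hL : FlatMod.IsFinLocFree L)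
    [G.IsQuasicoherent] (n : ℕ) : Subsingleton (Ext L G (n + 1)) := by
  obtain ⟨e⟩ := nonempty_ext_linearEquiv_HH A L G
    (Groth.Agent.Lib.R2H2.PnLocFree.isCoh_of_isFinLocFree L hL) (n + 1)
  haveI : Subsingleton (Coh.HH (SA A)
      ((ModSite.extSh (O := (SA A).sheaf) L (n + 1)).obj G) 0) :=
    Groth.Agent.Lib.R2H2.KoszulShift.subsingleton_HH_of_isZero
      (Groth.Agent.Lib.Helper21.ExtShLocFree.isZero_extSh_of_isFinLocFree L G hL n) 0
  exact e.toEquiv.subsingleton

end Compare

section CompareTilde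

open Groth.Agent.Lib.R2H3.ExtAffQC Groth.Agent.Lib.R2H3.ExtLocGlob

variable [IsNoetherianRing A] [HasExt.{u} (SA A).Modules]
  [HasInjectiveResolutions (ModSite.Mod (SA A).sheaf)]

/-- `(A^b)~` is finite locally free -/
theorem isFinLocFree_tl_free (b : ℕ) :
    FlatMod.IsFinLocFree ((tl A).obj (ModuleCat.of A (Fin b → A))) :=
  Groth.Agent.Lib.Helper2.LocFree.isFinLocFree_of_iso_freeMod _
    (Groth.Agent.Lib.Helper20.LocFree.tildeFreeMod (R := CommRingCat.of A)
      (ModuleCat.of A (Fin b → A)) (Pi.basisFun A (Fin b)))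

/-- `Ext^n_A(M, N) → Ext^n(M~, N~)` is bijective for `M` finite over a Noetherian ring -/
theorem mapExt_bijective (M N : ModuleCat.{u} A) [Module.Finite A M] (n : ℕ) :
    Function.Bijective ((tl A).mapExtAddHom M N n) := by
  refine mapExt_bijective_of_resolving (tl A) (fun M => Module.Finite A M)
    (fun E => ∃ b : ℕ, E = ModuleCat.of A (Fin b → A)) N ?_ ?_ ?_ ?_ M inferInstance n
  · intro X hX
    haveI : Module.Finite A X := hX
    obtain ⟨b, p, hp⟩ := Module.Finite.exists_fin' A X
    refine ⟨p.shortComplexKer, LinearMap.shortExact_shortComplexKer hp, rfl, ⟨b, rfl⟩, ?_⟩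
    exact (inferInstance : Module.Finite A (LinearMap.ker p))
  · rintro E ⟨b, rfl⟩
    exact (inferInstance : Module.Finite A (Fin b → A))
  · rintro E ⟨b, rfl⟩ n
    haveI : Projective (ModuleCat.of A (Fin b → A)) := inferInstance
    exact Ext.subsingleton_of_projective _ _ n
  · rintro E ⟨b, rfl⟩ n
    exact subsingleton_ext_of_isFinLocFree A _ _ (isFinLocFree_tl_free A b) n

/-- `Ext^n_A(M, N) ≃ₗ[A] Ext^n(M~, N~)` -/
noncomputable def extTildeEquiv (M N : ModuleCat.{u} A) [Module.Finite A M] (n : ℕ) :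
    Ext M N n ≃ₗ[A] Ext ((tl A).obj M) ((tl A).obj N) n :=
  LinearEquiv.ofBijective ((tl A).mapExtLinearMap A M N n) (mapExt_bijective A M N n)

end CompareTilde

section Main

open Groth.Agent.Lib.R2H3.ExtAffQC Groth.Agent.Lib.R2H3.ExtLocGlob

variable [IsNoetherianRing A] [HasExt.{u} (SA A).Modules]
  [HasInjectiveResolutions (ModSite.Mod (SA A).sheaf)]

attribute [local instance] Groth.Agent.Lib.Helper21.ExtShDelta.hasSheafHom

theorem isCoh_tl (M : ModuleCat.{u} A) [Module.Finite A M] : Coh.IsCoh ((tl A).obj M) :=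
  ⟨inferInstance,
    (Groth.Agent.Lib.Helper23.FinType.isFiniteType_tilde_iff (CommRingCat.of A) M).2 inferInstance⟩

/-- `Γ(Spec A, ℰxt^n(M~, N~)) ≃ₗ[A] Ext^n_A(M, N)` -/
theorem nonempty_sections_extSh_linearEquiv (M N : ModuleCat.{u} A) [Module.Finite A M] (n : ℕ) :
    Nonempty ((Γm A).obj ((ModSite.extSh (O := (SA A).sheaf) ((tl A).obj M) n).obj
      ((tl A).obj N)) ≃ₗ[A] Ext M N n) := by
  obtain ⟨e1⟩ := nonempty_ext_linearEquiv_HH A ((tl A).obj M) ((tl A).obj N) (isCoh_tl A M) n
  exact ⟨(hh0Equiv A _).symm.trans (e1.symm.trans (extTildeEquiv A M N n).symm)⟩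

/-- **`ℰxt^n(M~, N~) ≅ (Ext^n_A(M, N))~`** -/
theorem nonempty_extSh_tilde_iso (M N : ModuleCat.{u} A) [Module.Finite A M] (n : ℕ) :
    Nonempty ((ModSite.extSh (O := (SA A).sheaf) ((tl A).obj M) n).obj ((tl A).obj N) ≅
      (tl A).obj (ModuleCat.of A (Ext M N n))) := by
  let E : (SA A).Modules :=
    (ModSite.extSh (O := (SA A).sheaf) ((tl A).obj M) n).obj ((tl A).obj N)
  haveI : E.IsQuasicoherent := isQuasicoherent_extSh ((tl A).obj M) ((tl A).obj N) (isCoh_tl A M) n
  obtain ⟨e⟩ := nonempty_sections_extSh_linearEquiv A M N n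
  haveI : IsIso (Scheme.Modules.fromTildeΓ (R := CommRingCat.of A) E) :=
    Groth.Agent.Lib.Helper23.QCohLocal.isIso_fromTildeΓ (R := CommRingCat.of A) E
  exact ⟨(asIso (Scheme.Modules.fromTildeΓ (R := CommRingCat.of A) E)).symm ≪≫
    (tl A).mapIso e.toModuleIso⟩

end Main

end Groth.Agent.Lib.R2H3.ExtAffine
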