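import Mathlib
import Groth.Prelude.Def_DerCA
import Groth.Agent.Lib.Helper1ExtCech4

/-! Restriction of scalars and the extended alternating Cech complex (helper3, round 2).

For a ring map `φ : P → R`, an `R`-module `M` and a list `fs'` in `P`, the restriction of scalars of
`extCech M (fs'.map φ)` is isomorphic to `extCech (restrict M) fs'`.  Consequently vanishing of
`extCechH` can be tested after restriction of scalars. -/

set_option autoImplicit false
set_option maxHeartbeats 400000
set_option backward.isDefEq.respectTransparency.types false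
set_option linter.style.haveILetI false
set_option linter.unusedVariables false
set_option linter.unusedSectionVars false
universe u
open CategoryTheory CategoryTheory.Limits

namespace Groth.Agent.Lib.R2H3.ExtCechRestrict

open DerCA CochainComplex HomologicalComplex
open Groth.Agent.Lib.Helper1.ExtCech Groth.Agent.Lib.Helper1.ExtCech4

variable {P R : Type u} [CommRing P] [CommRing R] (φ : P →+* R)

/-- restriction of scalars -/
noncomputable abbrev ρ : ModuleCat.{u} R ⥤ ModuleCat.{u} P := ModuleCat.restrictScalars φ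

lemma smul_def (M : ModuleCat.{u} R) (p : P) (m : (ρ φ).obj M) :
    p • m = (φ p • (show M from m) : M) := rfl

section Loc

variable (f : P) (M : ModuleCat.{u} R)

/-- the restriction of scalars of the localisation map `M → M_{φ f}` -/
noncomputable abbrev resUnit : (ρ φ).obj M ⟶ (ρ φ).obj ((locFunctor (Submonoid.powers (φ f))).obj M) :=
  (ρ φ).map ((locUnit (Submonoid.powers (φ f))).app M)

lemma resUnit_apply (m : M) :
    (resUnit φ f M).hom m = LocalizedModule.mkLinearMap (Submonoid.powers (φ f)) M m := rfl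

instance isLocalizedModule_resUnit :
    IsLocalizedModule (Submonoid.powers f) (resUnit φ f M).hom where
  map_units s := by
    obtain ⟨s, n, rfl⟩ := s
    rw [Module.End.isUnit_iff]
    have h := IsLocalizedModule.map_units (LocalizedModule.mkLinearMap (Submonoid.powers (φ f)) M)
      (⟨(φ f) ^ n, ⟨n, rfl⟩⟩ : Submonoid.powers (φ f))
    rw [Module.End.isUnit_iff] at h
    change Function.Bijective ((algebraMap P (Module.End P ((ρ φ).obj
        ((locFunctor (Submonoid.powers (φ f))).obj M)))) (f ^ n) : _ → _)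
    have e : ((algebraMap P (Module.End P ((ρ φ).obj
        ((locFunctor (Submonoid.powers (φ f))).obj M)))) (f ^ n) : _ → _) =
        ((algebraMap R (Module.End R (LocalizedModule (Submonoid.powers (φ f)) M)))
          ((φ f) ^ n) : _ → _) := by
      funext y
      change (f ^ n) • y = ((φ f) ^ n) • (show LocalizedModule (Submonoid.powers (φ f)) M from y)
      rw [smul_def, map_pow]
      rfl
    rw [e]
    exact h
  surj y := by
    obtain ⟨⟨m, t⟩, h⟩ := IsLocalizedModule.surj (Submonoid.powers (φ f))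
      (LocalizedModule.mkLinearMap (Submonoid.powers (φ f)) M)
      (show LocalizedModule (Submonoid.powers (φ f)) M from y)
    obtain ⟨t, n, rfl⟩ := t
    refine ⟨⟨m, ⟨f ^ n, n, rfl⟩⟩, ?_⟩
    change (f ^ n) • y = _
    rw [smul_def, map_pow]
    exact h
  exists_of_eq {x₁ x₂} e := by
    obtain ⟨c, hc⟩ := IsLocalizedModule.exists_of_eq (S := Submonoid.powers (φ f))
      (f := LocalizedModule.mkLinearMap (Submonoid.powers (φ f)) M)
      (x₁ := (show M from x₁)) (x₂ := (show M from x₂)) e
    obtain ⟨c, n, rfl⟩ := c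
    refine ⟨⟨f ^ n, n, rfl⟩, ?_⟩
    change (f ^ n) • x₁ = (f ^ n) • x₂
    rw [smul_def, smul_def, map_pow]
    exact hc

/-- `restrict (M_{φ f}) ≅ (restrict M)_f` -/
noncomputable def θ : (ρ φ).obj ((locFunctor (Submonoid.powers (φ f))).obj M) ≅
    (locFunctor (Submonoid.powers f)).obj ((ρ φ).obj M) :=
  (IsLocalizedModule.linearEquiv (Submonoid.powers f) (resUnit φ f M).hom
    (LocalizedModule.mkLinearMap (Submonoid.powers f) ((ρ φ).obj M))).toModuleIso

lemma resUnit_θ : resUnit φ f M ≫ (θ φ f M).hom =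
    (locUnit (Submonoid.powers f)).app ((ρ φ).obj M) := by
  apply ModuleCat.hom_ext
  apply LinearMap.ext
  intro m
  exact IsLocalizedModule.linearEquiv_apply (Submonoid.powers f) (resUnit φ f M).hom
    (LocalizedModule.mkLinearMap (Submonoid.powers f) ((ρ φ).obj M)) m

variable {M}

lemma θ_naturality {M' : ModuleCat.{u} R} (g : M ⟶ M') :
    (ρ φ).map ((locFunctor (Submonoid.powers (φ f))).map g) ≫ (θ φ f M').hom =
      (θ φ f M).hom ≫ (locFunctor (Submonoid.powers f)).map ((ρ φ).map g) := by
  apply ModuleCat.hom_ext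
  apply IsLocalizedModule.ext (Submonoid.powers f) (resUnit φ f M).hom
    (IsLocalizedModule.map_units
      (LocalizedModule.mkLinearMap (Submonoid.powers f) ((ρ φ).obj M')))
  have h1 : resUnit φ f M ≫ (ρ φ).map ((locFunctor (Submonoid.powers (φ f))).map g) =
      (ρ φ).map g ≫ resUnit φ f M' := by
    rw [← Functor.map_comp, ← Functor.map_comp]
    congr 1
    exact ((locUnit (Submonoid.powers (φ f))).naturality g).symm
  have h2 : resUnit φ f M ≫ ((ρ φ).map ((locFunctor (Submonoid.powers (φ f))).map g) ≫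
      (θ φ f M').hom) = resUnit φ f M ≫ ((θ φ f M).hom ≫
      (locFunctor (Submonoid.powers f)).map ((ρ φ).map g)) := by
    rw [← Category.assoc, h1, Category.assoc, resUnit_θ, ← Category.assoc, resUnit_θ]
    exact (locUnit (Submonoid.powers f)).naturality ((ρ φ).map g)
  exact congrArg ModuleCat.Hom.hom h2

end Loc

section Cx

variable (f : P) (K : DRing.Cx R)

/-- restriction of scalars on complexes -/
noncomputable abbrev ρC : DRing.Cx R ⥤ DRing.Cx P :=
  (ρ φ).mapHomologicalComplex (ComplexShape.up ℤ)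

/-- `restrict (K_{φ f}) ≅ (restrict K)_f` for complexes -/
noncomputable def Θ : (ρC φ).obj ((locCx (Submonoid.powers (φ f))).obj K) ≅
    (locCx (Submonoid.powers f)).obj ((ρC φ).obj K) :=
  HomologicalComplex.Hom.isoOfComponents (fun i => θ φ f (K.X i)) (by
    intro i j _
    exact (θ_naturality φ f (K.d i j)).symm)

lemma map_locCxUnit_Θ :
    (ρC φ).map (locCxUnit (Submonoid.powers (φ f)) K) ≫ (Θ φ f K).hom =
      locCxUnit (Submonoid.powers f) ((ρC φ).obj K) := by
  apply HomologicalComplex.hom_ext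
  intro i
  exact resUnit_θ φ f (K.X i)

end Cx

section Cocone

variable {K₁ L₁ K₂ L₂ : DRing.Cx P} (ψ₁ : K₁ ⟶ L₁) (ψ₂ : K₂ ⟶ L₂)
  (a : K₁ ≅ K₂) (b : L₁ ≅ L₂) (comm : ψ₁ ≫ b.hom = a.hom ≫ ψ₂)

include comm in
lemma comm_inv : ψ₂ ≫ b.inv = a.inv ≫ ψ₁ := by
  rw [← cancel_mono b.hom, Category.assoc, Iso.inv_hom_id, Category.comp_id, Category.assoc, comm,
    Iso.inv_hom_id_assoc]

/-- isomorphic arrows have isomorphic mapping cocones -/
noncomputable def coconeIso : mappingCocone ψ₁ ≅ mappingCocone ψ₂ where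
  hom := cocMap ψ₁ ψ₂ a.hom b.hom comm
  inv := cocMap ψ₂ ψ₁ a.inv b.inv (comm_inv ψ₁ ψ₂ a b comm)
  hom_inv_id := by
    rw [← cocMap_comp]
    rw [cocMap_congr ψ₁ ψ₁ (a := a.hom ≫ a.inv) (a' := 𝟙 _) (b := b.hom ≫ b.inv) (b' := 𝟙 _)
      _ a.hom_inv_id b.hom_inv_id]
    exact cocMap_id ψ₁
  inv_hom_id := by
    rw [← cocMap_comp]
    rw [cocMap_congr ψ₂ ψ₂ (a := a.inv ≫ a.hom) (a' := 𝟙 _) (b := b.inv ≫ b.hom) (b' := 𝟙 _)
      _ a.inv_hom_id b.inv_hom_id]
    exact cocMap_id ψ₂

end Cocone

/-- additive functors commute with mapping cocones -/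
noncomputable def mapCoconeIso {K L : DRing.Cx R} (ψ : K ⟶ L) :
    (ρC φ).obj (mappingCocone ψ) ≅ mappingCocone ((ρC φ).map ψ) :=
  ((ρC φ).commShiftIso (-1 : ℤ)).app (mappingCone ψ) ≪≫
    (CategoryTheory.shiftFunctor (DRing.Cx P) (-1 : ℤ)).mapIso
      (mappingCone.mapHomologicalComplexIso ψ (ρ φ))

/-- **Restriction of scalars commutes with the extended Cech complex.** -/
theorem nonempty_iso (M : ModuleCat.{u} R) : ∀ fs' : List P,
    Nonempty ((ρC φ).obj (extCech M (fs'.map φ)) ≅ extCech ((ρ φ).obj M) fs')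
  | [] => ⟨(HomologicalComplex.singleMapHomologicalComplex (ρ φ) (ComplexShape.up ℤ) 0).app M⟩
  | f :: fs' => by
    obtain ⟨e⟩ := nonempty_iso M fs'
    change Nonempty ((ρC φ).obj (mappingCocone (locCxUnit (Submonoid.powers (φ f))
      (extCech M (fs'.map φ)))) ≅
      mappingCocone (locCxUnit (Submonoid.powers f) (extCech ((ρ φ).obj M) fs')))
    refine ⟨mapCoconeIso φ _ ≪≫ coconeIso _ _ e
      (Θ φ f _ ≪≫ (locCx (Submonoid.powers f)).mapIso e) ?_⟩
    change (ρC φ).map (locCxUnit (Submonoid.powers (φ f)) (extCech M (fs'.map φ))) ≫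
      ((Θ φ f _).hom ≫ (locCx (Submonoid.powers f)).map e.hom) = _
    rw [← Category.assoc, map_locCxUnit_Θ]
    exact locCxUnit_naturality (Submonoid.powers f) e.hom

end Groth.Agent.Lib.R2H3.ExtCechRestrict
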