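import Mathlib
import Groth.Agent.Lib.R2H3KzGen
import Groth.Agent.Lib.R2H3KzFBC
import Groth.Agent.Lib.Helper13KzLiftH
import Groth.Agent.Lib.Helper13KzTor

/-!
# Powers of Koszul-regular sequences; Koszul homology with flat coefficients (helper3, round 2)

* `isKoszulRegularSeq_map_pow`: if `l` is Koszul-regular then so is `l.map (· ^ n)`.
* `isZero_homology_of_flat`: for `l` Koszul-regular and `N` flat, `H^i(K(l; N)) = 0` for `i ≠ 0`.
* `subsingleton_koszulHLim_of_lt_length`: hence `colim_n H^p(l^n; N) = 0` for `p < l.length`.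
-/

set_option autoImplicit false
set_option linter.style.haveILetI false
set_option linter.unusedVariables false
set_option linter.unusedSectionVars false
universe u

namespace Groth.Agent.Lib.R2H3.KzPow

open CategoryTheory CategoryTheory.Limits CochainComplex CohIII MonoidalCategory
open Groth.Agent.Helper13Kz Groth.Agent.Helper13KzLift Groth.Agent.Lib.Helper21
open Groth.Agent.Lib.R2H3.KzGen

variable {A : Type u} [CommRing A]

/-- the cone of multiplication by `x` is acyclic in degree `i` iff `x` is surjective on `H^i` and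
injective on `H^{i+1}`. -/
theorem isZero_cone_iff (K : CochainComplex (ModuleCat.{u} A) ℤ) (x : A) (i : ℤ) :
    IsZero ((mappingCone (x • 𝟙 K)).homology i) ↔
      Function.Surjective (fun z : K.homology i => x • z) ∧
        Function.Injective (fun z : K.homology (i + 1) => x • z) := by
  obtain ⟨g, δ, h1, h2, h3⟩ := cone_les K x i
  constructor
  · intro hz
    have hsub := ModuleCat.subsingleton_of_isZero hz
    constructor
    · intro z
      have : g z = 0 := hsub.elim _ _
      obtain ⟨w, hw⟩ := (h1 z).1 this
      exact ⟨w, hw⟩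
    · intro a b hab
      have hab' : x • (a - b) = 0 := by rw [smul_sub]; exact sub_eq_zero.2 hab
      obtain ⟨c, hc⟩ := (h3 (a - b)).1 hab'
      have hc0 : c = 0 := hsub.elim _ _
      rw [hc0, map_zero] at hc
      exact sub_eq_zero.1 hc.symm
  · rintro ⟨hs, hi⟩
    suffices hsub : Subsingleton ((mappingCone (x • 𝟙 K)).homology i) from
      ModuleCat.isZero_of_subsingleton _
    refine ⟨fun a b => ?_⟩
    have key : ∀ c : (mappingCone (x • 𝟙 K)).homology i, c = 0 := by
      intro c
      have h4 : x • δ c = 0 := (h3 (δ c)).2 ⟨c, rfl⟩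
      have h5 : δ c = 0 := hi (show x • δ c = x • (0 : K.homology (i + 1)) from by
        rw [smul_zero]; exact h4)
      obtain ⟨z, hz⟩ := (h2 c).1 h5
      obtain ⟨w, hw⟩ := hs z
      rw [← hz]
      exact (h1 z).2 ⟨w, hw⟩
    rw [key a, key b]

theorem isZero_cone_one (K : CochainComplex (ModuleCat.{u} A) ℤ) (i : ℤ) :
    IsZero ((mappingCone ((1 : A) • 𝟙 K)).homology i) := by
  rw [isZero_cone_iff]
  constructor
  · intro z
    exact ⟨z, one_smul _ _⟩
  · intro a b hab
    have : (1 : A) • a = (1 : A) • b := hab
    rwa [one_smul, one_smul] at this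

theorem isZero_cone_mul (K : CochainComplex (ModuleCat.{u} A) ℤ) (x y : A) (i : ℤ)
    (hx : IsZero ((mappingCone (x • 𝟙 K)).homology i))
    (hy : IsZero ((mappingCone (y • 𝟙 K)).homology i)) :
    IsZero ((mappingCone ((x * y) • 𝟙 K)).homology i) := by
  rw [isZero_cone_iff] at hx hy ⊢
  constructor
  · intro z
    obtain ⟨w, hw⟩ := hx.1 z
    obtain ⟨v, hv⟩ := hy.1 w
    refine ⟨v, ?_⟩
    change (x * y) • v = z
    rw [mul_smul]
    change x • (y • v) = z
    have hv' : y • v = w := hv
    rw [hv']
    exact hw
  · intro a b hab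
    have hab' : x • (y • a) = x • (y • b) := by
      have : (x * y) • a = (x * y) • b := hab
      rwa [mul_smul, mul_smul] at this
    exact hy.2 (hx.2 hab')

theorem isZero_cone_pow (K : CochainComplex (ModuleCat.{u} A) ℤ) (x : A) (i : ℤ)
    (hx : IsZero ((mappingCone (x • 𝟙 K)).homology i)) (n : ℕ) :
    IsZero ((mappingCone ((x ^ n) • 𝟙 K)).homology i) := by
  induction n with
  | zero => rw [pow_zero]; exact isZero_cone_one K i
  | succ n ih => rw [pow_succ]; exact isZero_cone_mul K _ _ i ih hx

/-- Koszul-regularity in terms of `koszulCx`. -/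
theorem isKoszulRegularSeq_iff (l : List A) :
    LCI.IsKoszulRegularSeq A l ↔
      ∀ i : ℤ, i ≠ 0 → IsZero ((koszulCx (ModuleCat.of A A) l).homology i) :=
  forall_congr' fun i => forall_congr' fun _ => isZero_congr (koszul_eq A l) i

theorem isKoszulRegularSeq_cons_pow (x : A) (l : List A) (h : LCI.IsKoszulRegularSeq A (x :: l))
    (n : ℕ) : LCI.IsKoszulRegularSeq A (x ^ n :: l) := by
  rw [isKoszulRegularSeq_iff] at h ⊢
  intro i hi
  exact isZero_cone_pow (koszulCx (ModuleCat.of A A) l) x i (h i hi) n

theorem isKoszulRegularSeq_swap (f g : List A) (h : LCI.IsKoszulRegularSeq A (f ++ g)) :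
    LCI.IsKoszulRegularSeq A (g ++ f) := by
  rw [isKoszulRegularSeq_iff] at h ⊢
  intro i hi
  exact isZero_swap f g i (h i hi)

theorem isKoszulRegularSeq_map_pow_append (n : ℕ) : ∀ (a b : List A),
    LCI.IsKoszulRegularSeq A (a ++ b) → LCI.IsKoszulRegularSeq A (a.map (· ^ n) ++ b) := by
  intro a
  induction a using List.reverseRecOn with
  | nil => intro b h; simpa using h
  | append_singleton a' x ih =>
    intro b h
    have h1 : LCI.IsKoszulRegularSeq A (a' ++ (x :: b)) := by
      simpa [List.append_assoc] using h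
    have h2 := ih (x :: b) h1
    have h3 : LCI.IsKoszulRegularSeq A (x :: (b ++ a'.map (· ^ n))) := by
      have := isKoszulRegularSeq_swap _ _ h2
      simpa using this
    have h4 := isKoszulRegularSeq_cons_pow x _ h3 n
    have h5 : LCI.IsKoszulRegularSeq A ((x ^ n :: b) ++ a'.map (· ^ n)) := by
      simpa using h4
    have h6 := isKoszulRegularSeq_swap _ _ h5
    simpa [List.map_append, List.append_assoc] using h6

/-- powers of a Koszul-regular sequence form a Koszul-regular sequence. -/
theorem isKoszulRegularSeq_map_pow (l : List A) (h : LCI.IsKoszulRegularSeq A l) (n : ℕ) :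
    LCI.IsKoszulRegularSeq A (l.map (· ^ n)) := by
  have := isKoszulRegularSeq_map_pow_append n l [] (by simpa using h)
  simpa using this

/-- Koszul homology with flat coefficients of a Koszul-regular sequence vanishes outside degree 0. -/
theorem isZero_homology_of_flat (l : List A) (h : LCI.IsKoszulRegularSeq A l)
    (N : ModuleCat.{u} A) [Module.Flat A N] (i : ℤ) (hi : i ≠ 0) :
    IsZero ((koszulCx N l).homology i) := by
  have h1 := isZero_homology_tensor_flat N (ModuleCat.of A A) l i ((isKoszulRegularSeq_iff l).1 h i hi)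
  have e : koszulCx (ModuleCat.of A A ⊗ N) l ≅ koszulCx N l := (KF l).mapIso (λ_ N)
  exact h1.of_iso ((HomologicalComplex.homologyFunctor _ _ i).mapIso e.symm)

theorem subsingleton_koszulHLim_of_lt_length (l : List A) (h : LCI.IsKoszulRegularSeq A l)
    (N : ModuleCat.{u} A) [Module.Flat A N] (p : ℕ) (hp : p < l.length) :
    Subsingleton (CohIII.koszulHLim l N p) := by
  have hz : ∀ n : ℕ, Subsingleton (CohIII.koszulHPow l N p n : Type u) := by
    intro n
    have h2 : IsZero ((CohIII.koszulCx N (l.map (· ^ n))).homology ((p : ℤ) - l.length)) :=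
      isZero_homology_of_flat _ (isKoszulRegularSeq_map_pow l h n) N _ (by omega)
    exact ModuleCat.subsingleton_of_isZero h2
  refine ⟨fun a b => ?_⟩
  have h0 : ∀ z : CohIII.koszulHLim l N p, z = 0 := by
    intro z
    obtain ⟨n, x, rfl⟩ := Module.DirectLimit.exists_of z
    haveI := hz n
    exact (congrArg _ (Subsingleton.elim x 0)).trans (map_zero _)
  rw [h0 a, h0 b]

end Groth.Agent.Lib.R2H3.KzPow
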