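import Mathlib
import Groth.Prelude.Def_DerCA
import Groth.Agent.Lib.R2H3ExtCechRestrict
import Groth.Agent.Lib.R2H2KoszulDelta
import Groth.Agent.Lib.R2H2KoszulRing
import Groth.Agent.Lib.R2H3KzPow

/-! The extended alternating Cech complex of a Koszul-regular sequence has cohomology only in the top
degree (helper3, round 2).  Proof: restrict scalars to the (Noetherian) subring generated by the
sequence, identify `extCechH` with local cohomology there (helper1) and local cohomology with the
direct limit of Koszul cohomology (helper2), go back by change of rings for `koszulHLim`, and use that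
powers of a Koszul-regular sequence are Koszul-regular. -/

set_option autoImplicit false
set_option maxHeartbeats 400000
set_option backward.isDefEq.respectTransparency.types false
set_option linter.style.haveILetI false
set_option linter.unusedVariables false
set_option linter.unusedSectionVars false
universe u
open CategoryTheory CategoryTheory.Limits

namespace Groth.Agent.Lib.R2H3.ExtCechKoszul

open DerCA CochainComplex HomologicalComplex
open Groth.Agent.Lib.R2H3.ExtCechRestrict

section Restrict

variable {P R : Type u} [CommRing P] [CommRing R] (φ : P →+* R)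

lemma exactAt_of_restrict (K : DRing.Cx R) (q : ℤ) (h : ((ρC φ).obj K).ExactAt q) : K.ExactAt q := by
  rw [HomologicalComplex.exactAt_iff, ShortComplex.moduleCat_exact_iff] at h ⊢
  intro x hx
  obtain ⟨y, hy⟩ := h x hx
  exact ⟨y, hy⟩

/-- vanishing of `extCechH` can be tested after restriction of scalars -/
theorem isZero_of_restrict (M : ModuleCat.{u} R) (fs' : List P) (q : ℤ)
    (h : IsZero (extCechH fs' ((ρ φ).obj M) q)) : IsZero (extCechH (fs'.map φ) M q) := by
  obtain ⟨e⟩ := nonempty_iso φ M fs'
  have h1 : IsZero (((ρC φ).obj (extCech M (fs'.map φ))).homology q) :=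
    h.of_iso ((HomologicalComplex.homologyFunctor _ _ q).mapIso e)
  rw [← HomologicalComplex.exactAt_iff_isZero_homology] at h1 ⊢
  exact exactAt_of_restrict φ _ q h1

end Restrict

section Noeth

variable {P : Type u} [CommRing P] [IsNoetherianRing P]

/-- over a Noetherian ring, `extCechH` vanishes if the direct limit Koszul cohomology does -/
theorem isZero_extCechH_of_subsingleton_koszulHLim (fs : List P) (N : ModuleCat.{u} P) (p : ℕ)
    (h : Subsingleton (CohIII.koszulHLim fs N p)) : IsZero (extCechH fs N (p : ℤ)) := by
  obtain ⟨e1⟩ := Groth.Agent.Lib.Helper1.ExtCech4.nonempty_iso fs N p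
  obtain ⟨e2⟩ := Groth.Agent.Lib.R2H2.KoszulDelta.nonempty_iso fs p
  have h3 : IsZero ((Groth.Agent.Lib.R2H2.KoszulDelta.KF fs p).obj N) := by
    haveI : Subsingleton ((Groth.Agent.Lib.R2H2.KoszulDelta.KF fs p).obj N) := h
    exact ModuleCat.isZero_of_subsingleton _
  exact h3.of_iso (e1 ≪≫ (e2.app N).symm)

end Noeth

section Main

variable (R : Type u) [CommRing R]

theorem isZero_extCechH_of_koszulRegular (fs : List R) (hfs : LCI.IsKoszulRegularSeq R fs)
    (q : ℤ) (hq : q ≠ (fs.length : ℤ)) : IsZero (extCechH fs (ModuleCat.of R R) q) := by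
  by_cases hq' : q < 0 ∨ (fs.length : ℤ) < q
  · exact Groth.Agent.Lib.Helper1.ExtCech.isZero_extCechH fs _ q hq'
  push Not at hq'
  obtain ⟨p, rfl⟩ := Int.eq_ofNat_of_zero_le hq'.1
  have hp : p < fs.length := by
    have := hq'.2
    omega
  -- the Noetherian subring
  let P : Subalgebra ℤ R := Algebra.adjoin ℤ {x | x ∈ fs}
  have hfg : P.FG := Subalgebra.fg_def.mpr ⟨_, List.finite_toSet fs, rfl⟩
  haveI : Algebra.FiniteType ℤ P := (Subalgebra.fg_iff_finiteType P).mp hfg
  haveI : IsNoetherianRing P := Algebra.FiniteType.isNoetherianRing ℤ P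
  let φ : P →+* R := P.val.toRingHom
  let fs' : List P := fs.attach.map (fun x => ⟨x.1, Algebra.subset_adjoin x.2⟩)
  have hfs' : fs'.map φ = fs := by
    change (fs.attach.map _).map _ = fs
    rw [List.map_map]
    exact List.attach_map_subtype_val fs
  rw [← hfs']
  apply isZero_of_restrict φ (ModuleCat.of R R) fs'
  apply isZero_extCechH_of_subsingleton_koszulHLim
  -- change of rings for koszulHLim
  let N : ModuleCat.{u} P := (ρ φ).obj (ModuleCat.of R R)
  obtain ⟨e⟩ := Groth.Agent.Lib.R2H2.KoszulRing.nonempty_koszulHLim_addEquiv φ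
    (M := N) (N := R) (AddEquiv.refl R) (fun a x => rfl) fs' p
  have h5 : Subsingleton (CohIII.koszulHLim (fs'.map φ) (ModuleCat.of R R) p) := by
    rw [hfs']
    exact Groth.Agent.Lib.R2H3.KzPow.subsingleton_koszulHLim_of_lt_length fs hfs
      (ModuleCat.of R R) p hp
  exact e.toEquiv.subsingleton

end Main

end Groth.Agent.Lib.R2H3.ExtCechKoszul
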