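import Groth.Agent.Lib.Helper28Depth
import Groth.Agent.Lib.Helper28DepthLoc
import Groth.Agent.Lib.Helper5RLR3

/-!
# Vanishing of `Ext^i(N, M)` below the codimension of the support of `N` (helper3, round 2)

Namespace `Groth.Agent.Lib.R2H3.ExtDepthVan`.

* `ext_subsingleton_of_le_idealDepth` : `R` Noetherian, `M`, `N` finite, `I ≤ Ann N`,
  `n ≤ depth_I M`: `Ext^i(N, M) = 0` for `i < n`.
* `natCast_le_depth_localization_of_projective` : `M` finite projective, `R_p` regular local:
  `ht p ≤ depth M_p`.
* `ext_subsingleton_of_height` : `R` Noetherian, `M` finite projective, `N` finite, `R_p` regular and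
  `c ≤ ht p` for all `p ∈ Supp N`: `Ext^i(N, M) = 0` for `i < c`.
-/

set_option autoImplicit false
set_option linter.style.haveILetI false
universe u

open CategoryTheory Abelian

namespace Groth.Agent.Lib.R2H3.ExtDepthVan

open Groth.Agent.Lib.Helper28

section A

variable {R : Type u} [CommRing R] [IsNoetherianRing R] (I : Ideal R)
  (M N : Type u) [AddCommGroup M] [Module R M] [Module.Finite R M]
  [AddCommGroup N] [Module R N] [Module.Finite R N]

theorem ext_subsingleton_of_le_idealDepth (hN : I ≤ Module.annihilator R N) (n : ℕ)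
    (h : (n : ℕ∞) ≤ LocCoh.idealDepth I M) (i : ℕ) (hi : i < n) :
    Subsingleton (Ext.{u} (ModuleCat.of R N) (ModuleCat.of R M) i) := by
  by_cases hIM : I • (⊤ : Submodule R M) = ⊤
  · obtain ⟨r, hr1, hr0⟩ := Submodule.exists_sub_one_mem_and_smul_eq_zero_of_fg_of_le_smul I
      (⊤ : Submodule R M) Module.Finite.fg_top hIM.ge
    have key : ∀ z : Ext.{u} (ModuleCat.of R N) (ModuleCat.of R M) i, z = 0 := by
      intro z
      have h1 : r • z = 0 := ext_smul_eq_zero_of_mem_annihilator_right
        (Module.mem_annihilator.mpr fun m => hr0 m trivial) z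
      have h2 : (r - 1) • z = 0 := ext_smul_eq_zero_of_mem_annihilator_left (hN hr1) z
      have : z = r • z - (r - 1) • z := by rw [sub_smul, one_smul]; abel
      rw [this, h1, h2, sub_zero]
    exact ⟨fun x y => by rw [key x, key y]⟩
  · obtain ⟨rs, hlen, hmem, hreg⟩ := (natCast_le_idealDepth_iff hIM n).1 h
    have hsupp : Module.support R N ⊆ PrimeSpectrum.zeroLocus I := by
      rw [Module.support_eq_zeroLocus]
      exact PrimeSpectrum.zeroLocus_anti_mono_ideal hN
    exact ModuleCat.subsingleton_ext_of_exists_isRegular I (ModuleCat.of R N) hsupp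
      (ModuleCat.of R M) (lt_top_iff_ne_top.mpr hIM) rs hmem hreg i (hlen ▸ hi)

end A

section B

variable {R : Type u} [CommRing R] [IsNoetherianRing R] (p : Ideal R) [p.IsPrime]
  (M : Type u) [AddCommGroup M] [Module R M] [Module.Finite R M] [Module.Projective R M]

theorem natCast_le_depth_localization_of_projective
    [IsRegularLocalRing (Localization.AtPrime p)] (c : ℕ) (hc : (c : ℕ∞) ≤ p.height) :
    (c : ℕ∞) ≤ LocCoh.depth (Localization.AtPrime p) (LocalizedModule p.primeCompl M) := by
  set Rp := Localization.AtPrime p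
  set Mp := LocalizedModule p.primeCompl M
  haveI : Module.Finite Rp Mp := inferInstance
  haveI : Module.Projective Rp Mp := inferInstance
  haveI : Module.Free Rp Mp := Module.free_of_flat_of_isLocalRing
  -- depth of the ring
  haveI hCM : LocCoh.IsCohenMacaulayLocalRing Rp :=
    Groth.Agent.Lib.Helper5.isCohenMacaulayLocalRing_of_isRegularLocalRing Rp
  have hdim : (c : ℕ∞) ≤ LocCoh.depth Rp Rp := by
    have h1 := hCM.supportDim_eq_depth
    rw [Module.supportDim_self_eq_ringKrullDim, IsLocalization.AtPrime.ringKrullDim_eq_height p Rp]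
      at h1
    have h2 : p.height = LocCoh.depth Rp Rp := by exact_mod_cast h1
    rw [← h2]
    exact hc
  -- depth of a finite free module
  let b := Module.finBasis Rp Mp
  have e : Mp ≃ₗ[Rp] (Fin (Module.finrank Rp Mp) → Rp) := b.equivFun
  unfold LocCoh.depth at hdim ⊢
  rw [idealDepth_congr e]
  exact hdim.trans (idealDepth_le_idealDepth_pi_fin _ Rp _)

end B

section C

variable {R : Type u} [CommRing R] [IsNoetherianRing R]
  (M N : Type u) [AddCommGroup M] [Module R M] [Module.Finite R M] [Module.Projective R M]
  [AddCommGroup N] [Module R N] [Module.Finite R N]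

/-- **vanishing of Ext below the codimension of the support** over a ring which is regular along
the support -/
theorem ext_subsingleton_of_height (c : ℕ)
    (hreg : ∀ p : PrimeSpectrum R, p ∈ Module.support R N →
      IsRegularLocalRing (Localization.AtPrime p.asIdeal))
    (hht : ∀ p : PrimeSpectrum R, p ∈ Module.support R N → (c : ℕ∞) ≤ p.asIdeal.height)
    (i : ℕ) (hi : i < c) :
    Subsingleton (Ext.{u} (ModuleCat.of R N) (ModuleCat.of R M) i) := by
  refine ext_subsingleton_of_le_idealDepth (Module.annihilator R N) M N le_rfl c ?_ i hi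
  rw [idealDepth_eq_iInf_depth_localization]
  refine le_iInf₂ fun p hp => ?_
  have hpS : p ∈ Module.support R N := by
    rw [Module.support_eq_zeroLocus]
    exact hp
  haveI := hreg p hpS
  exact natCast_le_depth_localization_of_projective p.asIdeal M c (hht p hpS)

end C

end Groth.Agent.Lib.R2H3.ExtDepthVan
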