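import Groth.Agent.Lib.R2H3ExtStalk
import Groth.Agent.Lib.R2H3ExtCodimVan
import Groth.Agent.Lib.R2H3ExtAffQC
import Groth.Agent.Lib.Helper28Depth
import Groth.Agent.Lib.Helper28DepthLoc
import Groth.Agent.Lib.Helper5FinDimDepth
import Groth.Agent.Lib.Helper18Epi1
import Groth.Agent.Lib.Helper2FibreCrit2
set_option backward.isDefEq.respectTransparency.types false

/-!
# Depth along a closed subset and vanishing of local Ext sheaves (helper3, round 2)

Namespace `Groth.Agent.Lib.R2H3.ExtDepthSupp`.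

* `natCast_le_depth_of_ext_subsingleton` : algebra (Rees): `R` Noetherian local, `M`, `N` finite,
  `N ≠ 0`, `Ext^i(N, M) = 0` for `i < n` implies `n ≤ depth M`.
* `natCast_le_depth_stalk_of_isZero_extSh` : `X` locally Noetherian, `F`, `G` coherent, `x ∈ Supp G`,
  `ℰxt^i(G, F) = 0` for `i < n` implies `n ≤ depth F_x`.
* `isZero_extSh_of_le_depth` : if `n ≤ depth F_x` for all `x ∈ Supp G` then `ℰxt^i(G, F) = 0` for
  `i < n`.
-/

set_option autoImplicit false
set_option linter.style.haveILetI false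
universe u

open CategoryTheory AlgebraicGeometry TopologicalSpace Opposite Limits

namespace Groth.Agent.Lib.R2H3.ExtDepthSupp

open Groth.Agent.Lib.Helper28

section Alg

variable {R : Type u} [CommRing R] [IsNoetherianRing R] [IsLocalRing R]
  (M N : Type u) [AddCommGroup M] [Module R M] [Module.Finite R M]
  [AddCommGroup N] [Module R N] [Module.Finite R N]

theorem natCast_le_depth_of_ext_subsingleton [Nontrivial N] (n : ℕ)
    (h : ∀ i < n, Subsingleton (Abelian.Ext.{u} (ModuleCat.of R N) (ModuleCat.of R M) i)) :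
    (n : ℕ∞) ≤ LocCoh.depth R M := by
  unfold LocCoh.depth
  by_cases hm : IsLocalRing.maximalIdeal R • (⊤ : Submodule R M) = ⊤
  · rw [idealDepth_eq_top_of_smul_top_eq_top _ _ hm]; exact le_top
  · have hI : Module.annihilator R N ≤ IsLocalRing.maximalIdeal R := by
      refine IsLocalRing.le_maximalIdeal ?_
      intro htop
      have h1 : (1 : R) ∈ Module.annihilator R N := by rw [htop]; trivial
      obtain ⟨a, b, hab⟩ := exists_pair_ne N
      apply hab
      have ha := Module.mem_annihilator.mp h1 a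
      have hb := Module.mem_annihilator.mp h1 b
      rw [one_smul] at ha hb
      rw [ha, hb]
    have hlt : Module.annihilator R N • (⊤ : Submodule R M) < ⊤ :=
      lt_of_le_of_lt (Submodule.smul_mono_left hI) (lt_top_iff_ne_top.mpr hm)
    have h23 :=
      (ModuleCat.exists_isRegular_tfae (Module.annihilator R N) n (ModuleCat.of R M) hlt).out 2 3
    obtain ⟨rs, hlen, hmem, hreg⟩ := h23.1 ⟨ModuleCat.of R N, inferInstance, inferInstance,
      Module.support_eq_zeroLocus, h⟩
    rw [natCast_le_idealDepth_iff hm n]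
    exact ⟨rs, hlen, fun r hr => hI (hmem r hr), hreg⟩

end Alg

section Geom

variable {X : Scheme.{u}} [IsLocallyNoetherian X] [HasInjectiveResolutions (ModSite.Mod X.sheaf)]

theorem natCast_le_depth_stalk_of_isZero_extSh (G F : X.Modules) (hG : Coh.IsCoh G)
    (hF : Coh.IsCoh F) [ModSite.HasSheafHom (O := X.sheaf) G] (x : X)
    (hx : x ∈ CohB1.support G) (n : ℕ)
    (hvan : ∀ i : ℕ, i < n → IsZero ((ModSite.extSh (O := X.sheaf) G i).obj F)) :
    (n : ℕ∞) ≤ LocCoh.depth (X.presheaf.stalk x) (F.presheaf.stalk x) := by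
  haveI : F.IsQuasicoherent := hF.1
  haveI : SheafOfModules.IsFiniteType (R := X.ringCatSheaf) F := hF.2
  haveI : G.IsQuasicoherent := hG.1
  haveI : SheafOfModules.IsFiniteType (R := X.ringCatSheaf) G := hG.2
  haveI : Module.Finite (X.presheaf.stalk x) (F.presheaf.stalk x) :=
    Groth.Agent.Lib.Helper2.FibreCrit.finite_stalk F x
  haveI : Module.Finite (X.presheaf.stalk x) (G.presheaf.stalk x) :=
    Groth.Agent.Lib.Helper2.FibreCrit.finite_stalk G x
  haveI : Nontrivial (G.presheaf.stalk x) := not_subsingleton_iff_nontrivial.mp hx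
  apply natCast_le_depth_of_ext_subsingleton (F.presheaf.stalk x) (G.presheaf.stalk x) n
  intro i hi
  obtain ⟨e⟩ := Groth.Agent.Lib.R2H3.ExtStalk.nonempty_stalk_extSh_linearEquiv G F hG x i
  haveI : Subsingleton ((show X.Modules from
      (ModSite.extSh (O := X.sheaf) G i).obj F).presheaf.stalk x) :=
    Groth.Agent.Helper18Epi.subsingleton_stalk_of_isZero (hvan i hi) x
  exact e.symm.toEquiv.subsingleton

theorem isZero_extSh_of_le_depth (G F : X.Modules) (hG : Coh.IsCoh G)
    (hF : Coh.IsCoh F) [ModSite.HasSheafHom (O := X.sheaf) G] (n : ℕ)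
    (hdepth : ∀ x ∈ CohB1.support G,
      (n : ℕ∞) ≤ LocCoh.depth (X.presheaf.stalk x) (F.presheaf.stalk x))
    (i : ℕ) (hi : i < n) :
    IsZero ((ModSite.extSh (O := X.sheaf) G i).obj F) := by
  haveI : F.IsQuasicoherent := hF.1
  haveI : SheafOfModules.IsFiniteType (R := X.ringCatSheaf) F := hF.2
  haveI : G.IsQuasicoherent := hG.1
  haveI : SheafOfModules.IsFiniteType (R := X.ringCatSheaf) G := hG.2
  let E : X.Modules := (ModSite.extSh (O := X.sheaf) G i).obj F
  refine Groth.Agent.Lib.R2H3.ExtCodimVan.isZero_of_subsingleton_affine E fun U hU => ?_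
  obtain ⟨e⟩ := Groth.Agent.Lib.R2H3.ExtAffSec.nonempty_sections_linearEquiv_ext hU G F hG i
  haveI : IsNoetherianRing Γ(X, U) := IsLocallyNoetherian.component_noetherian ⟨U, hU⟩
  haveI : Module.Finite Γ(X, U) Γ(F, U) :=
    Groth.Agent.Lib.Helper23.FinType.finite_of_isFiniteType F hU
  haveI : Module.Finite Γ(X, U) Γ(G, U) :=
    Groth.Agent.Lib.Helper23.FinType.finite_of_isFiniteType G hU
  -- points of the support
  have hpt : ∀ p : PrimeSpectrum Γ(X, U), p ∈ Module.support Γ(X, U) Γ(G, U) →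
      hU.fromSpec p ∈ CohB1.support G := by
    intro p hp
    change ¬ Subsingleton (G.presheaf.stalk (hU.fromSpec p))
    rw [Groth.Agent.Lib.Helper20.FittSheaf.subsingleton_stalk_iff_notMem_support G hU _
      (Groth.Agent.Lib.Helper2.QCoh.fromSpec_mem hU p),
      Groth.Agent.Lib.Helper2.QCoh.primeIdealOf_fromSpec, not_not]
    exact hp
  have hloc : ∀ p : PrimeSpectrum Γ(X, U), Module.annihilator Γ(X, U) Γ(G, U) ≤ p.asIdeal →
      (n : ℕ∞) ≤ LocCoh.depth (Localization.AtPrime p.asIdeal)
        (LocalizedModule p.asIdeal.primeCompl Γ(F, U)) := by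
    intro p hp
    have hp' : p ∈ Module.support Γ(X, U) Γ(G, U) := by
      rw [Module.support_eq_zeroLocus]; exact hp
    have hy : hU.fromSpec p ∈ U := Groth.Agent.Lib.Helper2.QCoh.fromSpec_mem hU p
    letI alg : Algebra Γ(X, U) (X.presheaf.stalk (hU.fromSpec p)) :=
      TopCat.Presheaf.algebra_section_stalk X.presheaf ⟨hU.fromSpec p, hy⟩
    haveI : IsLocalization p.asIdeal.primeCompl (X.presheaf.stalk (hU.fromSpec p)) :=
      hU.isLocalization_stalk' p hy
    letI mF := Groth.Agent.Lib.Helper2.FlatOver.moduleStalkSections F U (hU.fromSpec p) hy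
    haveI tF : IsScalarTower Γ(X, U) (X.presheaf.stalk (hU.fromSpec p))
        (F.presheaf.stalk (hU.fromSpec p)) := by
      refine ⟨fun a b y => ?_⟩
      change (X.presheaf.germ U (hU.fromSpec p) hy a * b) • y =
        X.presheaf.germ U (hU.fromSpec p) hy a • (b • y)
      rw [mul_smul]
    have hlm := Groth.Agent.Lib.Helper2.FlatOver.isLocalizedModule_germ hU F (hU.fromSpec p) hy
    rw [Groth.Agent.Lib.Helper2.QCoh.primeIdealOf_fromSpec] at hlm
    haveI := hlm
    have := (Groth.Agent.Lib.Helper5.FinDimDepth.transport_aux p.asIdeal Γ(F, U)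
      (X.presheaf.stalk (hU.fromSpec p)) (F.presheaf.stalk (hU.fromSpec p))
      (Groth.Agent.Lib.Helper2.FlatOver.germₗ F U (hU.fromSpec p) hy)).1
    rw [← this]
    exact hdepth _ (hpt p hp')
  haveI : Subsingleton (Abelian.Ext.{u} (ModuleCat.of Γ(X, U) Γ(G, U))
      (ModuleCat.of Γ(X, U) Γ(F, U)) i) := by
    refine Groth.Agent.Lib.R2H3.ExtDepthVan.ext_subsingleton_of_le_idealDepth
      (Module.annihilator Γ(X, U) Γ(G, U)) Γ(F, U) Γ(G, U) le_rfl n ?_ i hi
    rw [idealDepth_eq_iInf_depth_localization]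
    exact le_iInf₂ fun p hp => hloc p hp
  exact e.toEquiv.subsingleton

end Geom

end Groth.Agent.Lib.R2H3.ExtDepthSupp
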