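import Groth.Agent.Lib.R2H3ExtAffSec
import Groth.Agent.Lib.Helper8ExtBC
import Groth.Agent.Lib.Helper2FlatOver
set_option backward.isDefEq.respectTransparency.types false

/-!
# Stalks of the local Ext sheaves (helper3, round 2)

Namespace `Groth.Agent.Lib.R2H3.ExtStalk`.

* `nonempty_ext_localization` : algebra: `A` Noetherian, `B` a localization of `A`, `M` finite,
  `E ≃ Ext^i_A(M, N)`, and `M'`, `N'`, `E'` localizations of `M`, `N`, `E`:
  `E' ≃ₗ[B] Ext^i_B(M', N')`.
* `nonempty_stalk_extSh_linearEquiv` : `X` locally Noetherian, `F` coherent, `G` quasi-coherent: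
  `ℰxt^i(F, G)_x ≃ₗ[O_x] Ext^i_{O_x}(F_x, G_x)`.
-/

set_option autoImplicit false
set_option linter.style.haveILetI false
universe u

open CategoryTheory AlgebraicGeometry TopologicalSpace Opposite Limits TensorProduct

namespace Groth.Agent.Lib.R2H3.ExtStalk

open Groth.Agent.Lib.R2H3.ExtAffSec

section Alg

variable {A : Type u} [CommRing A] [IsNoetherianRing A] (S : Submonoid A)
  (B : Type u) [CommRing B] [Algebra A B] [IsLocalization S B]
  {M N E : Type u} [AddCommGroup M] [Module A M] [Module.Finite A M]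
  [AddCommGroup N] [Module A N] [AddCommGroup E] [Module A E]
  {M' N' E' : Type u} [AddCommGroup M'] [Module A M'] [Module B M'] [IsScalarTower A B M']
  [AddCommGroup N'] [Module A N'] [Module B N'] [IsScalarTower A B N']
  [AddCommGroup E'] [Module A E'] [Module B E'] [IsScalarTower A B E']

theorem nonempty_ext_localization (fM : M →ₗ[A] M') (fN : N →ₗ[A] N') (fE : E →ₗ[A] E')
    [IsLocalizedModule S fM] [IsLocalizedModule S fN] [IsLocalizedModule S fE] (i : ℕ)
    (e : E ≃ₗ[A] Abelian.Ext.{u} (ModuleCat.of A M) (ModuleCat.of A N) i) :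
    Nonempty (E' ≃ₗ[B] Abelian.Ext.{u} (ModuleCat.of B M') (ModuleCat.of B N') i) := by
  haveI : Module.Flat A B := IsLocalization.flat B S
  obtain ⟨e1⟩ := Groth.Agent.Lib.Helper8.ExtBC.ext_baseChange A B N i M
  let eE : B ⊗[A] E ≃ₗ[B] E' := (IsLocalizedModule.isBaseChange S B fE).equiv
  let eM : B ⊗[A] M ≃ₗ[B] M' := (IsLocalizedModule.isBaseChange S B fM).equiv
  let eN : B ⊗[A] N ≃ₗ[B] N' := (IsLocalizedModule.isBaseChange S B fN).equiv
  let e2 : B ⊗[A] E ≃ₗ[B] B ⊗[A] Abelian.Ext.{u} (ModuleCat.of A M) (ModuleCat.of A N) i :=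
    LinearEquiv.baseChange A B _ _ e
  let e3 : Abelian.Ext.{u} (ModuleCat.of B (B ⊗[A] M)) (ModuleCat.of B (B ⊗[A] N)) i ≃ₗ[B]
      Abelian.Ext.{u} (ModuleCat.of B M') (ModuleCat.of B N') i :=
    (extCongrLeft B eM.toModuleIso (ModuleCat.of B (B ⊗[A] N)) i).trans
      (extCongrRight B (ModuleCat.of B M') eN.toModuleIso i)
  exact ⟨eE.symm.trans (e2.trans (e1.trans e3))⟩

end Alg

section Geom

variable {X : Scheme.{u}} [IsLocallyNoetherian X] [HasInjectiveResolutions (ModSite.Mod X.sheaf)]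

open Groth.Agent.Lib.Helper2.FlatOver

/-- **stalks of the local Ext sheaves** -/
theorem nonempty_stalk_extSh_linearEquiv (F G : X.Modules) (hF : Coh.IsCoh F)
    [G.IsQuasicoherent] [ModSite.HasSheafHom (O := X.sheaf) F] (x : X) (i : ℕ) :
    Nonempty ((show X.Modules from (ModSite.extSh (O := X.sheaf) F i).obj G).presheaf.stalk x
        ≃ₗ[X.presheaf.stalk x]
      Abelian.Ext.{u} (ModuleCat.of (X.presheaf.stalk x) (F.presheaf.stalk x))
        (ModuleCat.of (X.presheaf.stalk x) (G.presheaf.stalk x)) i) := by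
  obtain ⟨U, hU, hxU, -⟩ := exists_isAffineOpen_mem_and_subset (U := ⊤) (x := x) trivial
  haveI : IsNoetherianRing Γ(X, U) := IsLocallyNoetherian.component_noetherian ⟨U, hU⟩
  haveI : F.IsQuasicoherent := hF.1
  haveI : SheafOfModules.IsFiniteType (R := X.ringCatSheaf) F := hF.2
  let E : X.Modules := (ModSite.extSh (O := X.sheaf) F i).obj G
  haveI : E.IsQuasicoherent := Groth.Agent.Lib.R2H3.ExtAffQC.isQuasicoherent_extSh F G hF i
  obtain ⟨e⟩ := nonempty_sections_linearEquiv_ext hU F G hF i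
  haveI : Module.Finite Γ(X, U) Γ(F, U) :=
    Groth.Agent.Lib.Helper23.FinType.finite_of_isFiniteType F hU
  letI alg : Algebra Γ(X, U) (X.presheaf.stalk x) :=
    TopCat.Presheaf.algebra_section_stalk X.presheaf ⟨x, hxU⟩
  haveI : IsLocalization (hU.primeIdealOf ⟨x, hxU⟩).asIdeal.primeCompl (X.presheaf.stalk x) :=
    hU.isLocalization_stalk ⟨x, hxU⟩
  letI mF := moduleStalkSections F U x hxU
  letI mG := moduleStalkSections G U x hxU
  letI mE := moduleStalkSections E U x hxU
  haveI tF : IsScalarTower Γ(X, U) (X.presheaf.stalk x) (F.presheaf.stalk x) := by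
    refine ⟨fun a b y => ?_⟩
    change (X.presheaf.germ U x hxU a * b) • y = X.presheaf.germ U x hxU a • (b • y)
    rw [mul_smul]
  haveI tG : IsScalarTower Γ(X, U) (X.presheaf.stalk x) (G.presheaf.stalk x) := by
    refine ⟨fun a b y => ?_⟩
    change (X.presheaf.germ U x hxU a * b) • y = X.presheaf.germ U x hxU a • (b • y)
    rw [mul_smul]
  haveI tE : IsScalarTower Γ(X, U) (X.presheaf.stalk x) (E.presheaf.stalk x) := by
    refine ⟨fun a b y => ?_⟩
    change (X.presheaf.germ U x hxU a * b) • y = X.presheaf.germ U x hxU a • (b • y)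
    rw [mul_smul]
  haveI := isLocalizedModule_germ hU F x hxU
  haveI := isLocalizedModule_germ hU G x hxU
  haveI := isLocalizedModule_germ hU E x hxU
  exact nonempty_ext_localization (hU.primeIdealOf ⟨x, hxU⟩).asIdeal.primeCompl
    (X.presheaf.stalk x) (germₗ F U x hxU) (germₗ G U x hxU) (germₗ E U x hxU) i e

end Geom

end Groth.Agent.Lib.R2H3.ExtStalk
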