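import Groth.Agent.Lib.H6xLinkB
import Groth.Agent.Lib.Helper8GV
import Groth.Agent.S0342

/-!
# Local duality as a vanishing criterion (helper3, round 2)

Namespace `Groth.Agent.Lib.R2H3.LocDualVan`.

* `subsingleton_H_iff_ext` : `T` Gorenstein local of dimension `d`, `M` finite, `i ≤ d`:
  `H^i_m(M) = 0 ↔ Ext^{d-i}(M, T) = 0`.
* `subsingleton_H_of_dim_lt` : `H^i_m(M) = 0` for `i > dim T`.
* `subsingleton_H_iff_ext_of_regular` : same for regular local rings, and with `T` replaced by a
  free module of rank one.
-/

set_option autoImplicit false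
set_option linter.style.haveILetI false
universe u

open CategoryTheory CategoryTheory.Abelian IsLocalRing

namespace Groth.Agent.Lib.R2H3.LocDualVan

open Groth.Agent.Lib.Helper8.ExtBC Groth.Agent.Lib.Helper29.GorHull
  Groth.Agent.Lib.Helper8.Bridge Groth.Agent.Lib.Helper8.LC

section Gor

variable (T : Type u) [CommRing T] [hT : LocCoh.IsGorensteinLocalRing T] (d : ℕ)
  (hd : ringKrullDim T = d) (M : Type u) [AddCommGroup M] [Module T M] [Module.Finite T M]

include hd in
theorem subsingleton_H_iff_ext (i : ℕ) (hi : i ≤ d) :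
    Subsingleton (LocCoh.H (maximalIdeal T) i M) ↔
      Subsingleton (Ext.{u} (ModuleCat.of T M) (ModuleCat.of T T) (d - i)) := by
  constructor
  · intro h
    have := Groth.Agent.Lib.H6xLink.ext_subsingleton_of_H_vanish T d hd M (d - i) (by omega)
    refine this ?_
    have hdi : d - (d - i) = i := by omega
    rw [hdi]
    intro y
    exact Subsingleton.elim _ _
  · intro h
    obtain ⟨e⟩ := duality_gorenstein T d hd M i hi
    rw [← subsingleton_E_iff] at h
    haveI := h
    have : Subsingleton (Groth.Agent.Lib.Helper8.ExtLES.E (d - i) (ModuleCat.of T M)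
        (ModuleCat.of T T) →ₗ[T] Hn T d) :=
      ⟨fun f g => LinearMap.ext fun x => by rw [Subsingleton.elim x 0, map_zero, map_zero]⟩
    exact e.toEquiv.subsingleton

include hd in
theorem subsingleton_H_of_dim_lt (i : ℕ) (hi : d < i) :
    Subsingleton (LocCoh.H (maximalIdeal T) i M) := by
  haveI : IsNoetherianRing T := inferInstance
  refine ⟨fun a b => ?_⟩
  have h : Module.supportDim T M < ((i : ℕ) : WithBot ℕ∞) := by
    refine lt_of_le_of_lt (Module.supportDim_le_ringKrullDim T M) ?_
    rw [hd]
    exact_mod_cast hi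
  rw [Groth.Agent.Lib.Helper8.GV.H_eq_zero_of_supportDim_lt (maximalIdeal T) i M h a,
    Groth.Agent.Lib.Helper8.GV.H_eq_zero_of_supportDim_lt (maximalIdeal T) i M h b]

end Gor

end Groth.Agent.Lib.R2H3.LocDualVan
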