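import Groth.Agent.Lib.R2H3ExtStalk
import Groth.Agent.Lib.R2H3LocDualVan
import Groth.Agent.Lib.R2H4DegAdd
import Groth.Agent.Lib.Helper18Epi1
import Groth.Agent.Lib.Helper2FibreCrit2
import Groth.Agent.S0020
set_option backward.isDefEq.respectTransparency.types false

/-!
# Stalks of local Ext sheaves into an invertible module and local cohomology (helper3, round 2)

Namespace `Groth.Agent.Lib.R2H3.ExtStalkDual`.

* `isZero_iff_closed_stalks` : a quasi-coherent module of finite type on a quasi-compact scheme is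
  zero iff its stalks at closed points vanish.
* `subsingleton_stalk_extSh_iff` : `X` locally Noetherian, `F` coherent, `L` locally free of rank
  one, `O_x` regular of dimension `d`, `i ≤ d`:
  `ℰxt^{d-i}(F, L)_x = 0 ↔ H^i_{m_x}(F_x) = 0`.
-/

set_option autoImplicit false
set_option linter.style.haveILetI false
universe u

open CategoryTheory AlgebraicGeometry TopologicalSpace Opposite Limits

namespace Groth.Agent.Lib.R2H3.ExtStalkDual

variable {X : Scheme.{u}}

theorem isZero_iff_closed_stalks [CompactSpace X] (E : X.Modules)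
    [SheafOfModules.IsFiniteType (R := X.ringCatSheaf) E] :
    IsZero E ↔ ∀ x : X, IsClosed ({x} : Set X) → Subsingleton (E.presheaf.stalk x) := by
  constructor
  · intro h x _
    exact Groth.Agent.Helper18Epi.subsingleton_stalk_of_isZero h x
  · intro h
    have hcl : IsClosed (CohB1.support E) := Groth.Agent.S0020.result X E inferInstance
    apply Groth.Agent.Helper18Epi.isZero_of_subsingleton_stalk
    intro y
    by_contra hy
    obtain ⟨x, hx, hxc⟩ := hcl.exists_closed_singleton ⟨y, hy⟩
    exact hx (h x hxc)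

variable [IsLocallyNoetherian X] [HasInjectiveResolutions (ModSite.Mod X.sheaf)]

open Groth.Agent.Lib.R2H3.ExtAffSec in
theorem subsingleton_stalk_extSh_iff (F L : X.Modules) (hF : Coh.IsCoh F)
    (hL : FlatMod.IsFinLocFreeOfRank 1 L) [ModSite.HasSheafHom (O := X.sheaf) F] (x : X)
    [hreg : IsRegularLocalRing (X.presheaf.stalk x)] (d : ℕ)
    (hd : ringKrullDim (X.presheaf.stalk x) = d) (i : ℕ) (hi : i ≤ d) :
    Subsingleton ((show X.Modules from
        (ModSite.extSh (O := X.sheaf) F (d - i)).obj L).presheaf.stalk x) ↔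
      Subsingleton (LocCoh.H (IsLocalRing.maximalIdeal (X.presheaf.stalk x)) i
        (F.presheaf.stalk x)) := by
  haveI : SheafOfModules.IsFinitePresentation (R := X.ringCatSheaf) L :=
    Groth.Agent.Lib.Helper2.LocFree.isFP_of_isFinLocFree L
      (Groth.Agent.Lib.R2H4DegAdd.isFinLocFree_of_rank hL)
  haveI : L.IsQuasicoherent := inferInstance
  haveI : F.IsQuasicoherent := hF.1
  haveI : SheafOfModules.IsFiniteType (R := X.ringCatSheaf) F := hF.2
  obtain ⟨e⟩ := Groth.Agent.Lib.R2H3.ExtStalk.nonempty_stalk_extSh_linearEquiv F L hF x (d - i)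
  obtain ⟨hfree, hfin, hrk⟩ := Groth.Agent.Lib.R2H4DegAdd.stalk_facts hL x
  haveI := hfree
  haveI := hfin
  haveI : Module.Finite (X.presheaf.stalk x) (F.presheaf.stalk x) :=
    Groth.Agent.Lib.Helper2.FibreCrit.finite_stalk F x
  have eL : L.presheaf.stalk x ≃ₗ[X.presheaf.stalk x] X.presheaf.stalk x :=
    LinearEquiv.ofFinrankEq _ _ (by rw [hrk, Module.finrank_self])
  let e2 := extCongrRight (X.presheaf.stalk x)
    (ModuleCat.of (X.presheaf.stalk x) (F.presheaf.stalk x)) eL.toModuleIso (d - i)
  haveI : LocCoh.IsGorensteinLocalRing (X.presheaf.stalk x) :=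
    Groth.Agent.S0342.result (X.presheaf.stalk x)
  rw [Groth.Agent.Lib.R2H3.LocDualVan.subsingleton_H_iff_ext (X.presheaf.stalk x) d hd
    (F.presheaf.stalk x) i hi]
  exact (e.trans e2).toEquiv.subsingleton_congr

end Groth.Agent.Lib.R2H3.ExtStalkDual
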