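import Groth.Agent.Lib.Helper21NullOn3
import Groth.Agent.Lib.Helper21ModLocalIso
import Groth.Agent.Lib.Helper21Dual10
import Groth.Agent.Lib.Helper21DerPost
import Groth.Agent.Lib.R2H3SchemTors
set_option backward.isDefEq.respectTransparency.types false

/-!
# Local Ext sheaves with supports for a module supported in the closed set (helper3, round 2)

Namespace `Groth.Agent.Lib.R2H3.ExtZNull`.

* `quotOnIso` : `M|_U = 0` implies `M/M_U ≅ M` (site level).
* `extZShIsoOfNull` : `M|_U = 0` implies `ℰxt^q_Z(M, -) ≅ ℰxt^q(M, -)`.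
* `isZero_restr_of_support` : for a scheme `X`, an open `U` and a module `F` all of whose stalks at
  points of `U` vanish, `F|_U = 0`.
-/

set_option autoImplicit false
set_option linter.style.haveILetI false
universe u

open CategoryTheory AlgebraicGeometry TopologicalSpace Opposite Limits

namespace Groth.Agent.Lib.R2H3.ExtZNull

section Site

variable {C : Type u} [SmallCategory C] {J : GrothendieckTopology C} (O : Sheaf J CommRingCat.{u})
  (U : C)

open Groth.Agent.Lib.Helper21.NullOn

/-- `M|_U = 0` implies `M ≅ M/M_U` -/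
theorem isIso_π (M : ModSite.Mod O) (h : IsZero ((ModSite.restr O U).obj M)) :
    IsIso (π O U M) := by
  have h0 : IsZero ((ModSite.extZero O U).obj ((ModSite.restr O U).obj M)) :=
    Functor.map_isZero _ h
  have hc : (ModSite.extZeroAdj O U).counit.app M = 0 := h0.eq_of_src _ _
  change IsIso (cokernel.π ((ModSite.extZeroAdj O U).counit.app M))
  rw [hc]
  infer_instance

noncomputable def quotOnIso (M : ModSite.Mod O) (h : IsZero ((ModSite.restr O U).obj M)) :
    M ≅ (ModSite.quotOn O U).obj M :=
  haveI := isIso_π O U M h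
  asIso (π O U M)

variable [ModSite.HasPushOver O U] [HasInjectiveResolutions (ModSite.Mod O)]

/-- `M|_U = 0` implies `ℰxt^q_Z(M, -) ≅ ℰxt^q(M, -)` -/
noncomputable def extZShIsoOfNull (M : ModSite.Mod O) [ModSite.HasSheafHom M]
    [ModSite.HasSheafHom ((ModSite.quotOn O U).obj M)]
    (h : IsZero ((ModSite.restr O U).obj M)) (q : ℕ) :
    ModSite.extZSh U M q ≅ ModSite.extSh M q :=
  Groth.Agent.Lib.Helper21.DerPost.natIsoRightDerived
    (sheafHomQuotIso O U M ≪≫
      Groth.Agent.Lib.Helper21.Dual.sheafHomCongr (quotOnIso O U M h).symm) q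

end Site

section Scheme

variable {X : Scheme.{u}}

theorem isZero_restr_of_support (U : X.Opens) (F : X.Modules)
    (h : ∀ x ∈ CohB1.support F, x ∉ (U : Set X)) :
    IsZero ((ModSite.restr X.sheaf U).obj F) := by
  apply Groth.Agent.Lib.Helper21.ModLocalIso.isZero_of_forall_eq_zero
  intro A s
  have hVU : A.unop.left ≤ U := A.unop.hom.le
  change Γ(F, A.unop.left) at s
  change s = 0
  apply Groth.Agent.Lib.R2H3.SchemTors.section_eq_zero_of_locally
  intro x
  have hx : Subsingleton (F.presheaf.stalk x.1) := by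
    by_contra hns
    exact h x.1 hns (hVU x.2)
  have h0 : F.presheaf.germ A.unop.left x.1 x.2 s = F.presheaf.germ A.unop.left x.1 x.2 0 :=
    Subsingleton.elim _ _
  obtain ⟨W, hW, iU, iV, hres⟩ := F.presheaf.germ_eq x.1 x.2 x.2 s 0 h0
  refine ⟨W, iU.le, hW, ?_⟩
  rw [map_zero] at hres
  exact hres

end Scheme

end Groth.Agent.Lib.R2H3.ExtZNull
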