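import Groth.Agent.Lib.R2H3FPQuot
import Groth.Agent.Lib.R2H3LimFPDesc
import Groth.Agent.Lib.Helper23TensorQCoh
import Groth.Agent.S0484
import Groth.Agent.S9819

/-!
# A finite type quasi-coherent module on a qcqs scheme is a directed colimit of finitely presented modules with
surjective transition maps (Stacks 01PK; helper3, round 2)
-/

set_option autoImplicit false
set_option linter.style.haveILetI false
universe u
open CategoryTheory Limits AlgebraicGeometry TopologicalSpace Opposite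

namespace Groth.Agent.Lib.R2H3.FPDirected

open Groth.Agent.Lib.Helper23.QCohLocal Groth.Agent.Lib.Helper23.FinType Groth.Agent.Lib.Helper23.Extend
  Groth.Agent.Lib.R2H3.FPExtend Groth.Agent.Lib.Helper23.FTsub Groth.Agent.Lib.R2H3.FPQuot
  Groth.Agent.Lib.R2H3.LimFPDesc

variable {X : Scheme.{u}}

/-- finite type quasi-coherent subobjects -/
def FTSub (K : X.Modules) (S : Subobject K) : Prop :=
  (Subobject.underlying.obj S : X.Modules).IsQuasicoherent ∧
    SheafOfModules.IsFiniteType (R := X.ringCatSheaf) (Subobject.underlying.obj S : X.Modules)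

theorem ftSub_mk {K G : X.Modules} (i : G ⟶ K) [Mono i] [G.IsQuasicoherent]
    [SheafOfModules.IsFiniteType (R := X.ringCatSheaf) G] : FTSub K (Subobject.mk i) :=
  ⟨Groth.Agent.Lib.Helper23.TensorQCoh.isQuasicoherent_of_iso (Subobject.underlyingIso i).symm,
    isFiniteType_of_iso (Subobject.underlyingIso i).symm⟩

theorem exists_ftSub_ge [CompactSpace X] [QuasiSeparatedSpace X] {K : X.Modules} [K.IsQuasicoherent]
    {S₁ S₂ : Subobject K} (h₁ : FTSub K S₁) (h₂ : FTSub K S₂) :
    ∃ S₃ : Subobject K, FTSub K S₃ ∧ S₁ ≤ S₃ ∧ S₂ ≤ S₃ := by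
  have := h₁.1
  have := h₁.2
  have := h₂.1
  have := h₂.2
  obtain ⟨C, c, ia, ib, hc, hCq, hCf, hac, hbc⟩ := exists_sup_sub K _ _ S₁.arrow S₂.arrow
  have := hc
  have := hCq
  have := hCf
  exact ⟨Subobject.mk c, ftSub_mk c, Subobject.le_mk_of_comm ia hac, Subobject.le_mk_of_comm ib hbc⟩

/-- the directed system of quotients of `G₀` by a cofinal directed family of finite type quasi-coherent subobjects of
the kernel of an epimorphism `G₀ ⟶ F` has colimit `F` -/
theorem exists_colimit_of_subobjects [CompactSpace X] [QuasiSeparatedSpace X] {F G₀ : X.Modules}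
    [F.IsQuasicoherent] [G₀.IsQuasicoherent] [SheafOfModules.IsFinitePresentation (R := X.ringCatSheaf) G₀]
    (φ₀ : G₀ ⟶ F) [Epi φ₀]
    (J : Type u) [PartialOrder J] [hdir : IsDirected J (· ≤ ·)] [hne : Nonempty J]
    (sub : J → Subobject (kernel φ₀ : X.Modules)) (hmono : ∀ {j j' : J}, j ≤ j' → sub j ≤ sub j')
    (hP : ∀ j, FTSub (kernel φ₀ : X.Modules) (sub j))
    (hcof : ∀ S, FTSub (kernel φ₀ : X.Modules) S → ∃ j, S ≤ sub j) :
    ∃ (D : J ⥤ X.Modules) (ι : D ⟶ (Functor.const J).obj F), Nonempty (IsColimit (Cocone.mk F ι)) ∧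
      (∀ j, SheafOfModules.IsFinitePresentation (R := X.ringCatSheaf) (D.obj j)) ∧
      ∀ (j j' : J) (h : j ⟶ j'), Epi (D.map h) := by
  let K : X.Modules := kernel φ₀
  let ι : K ⟶ G₀ := kernel.ι φ₀
  have hKq : K.IsQuasicoherent := isQuasicoherent_kernel φ₀
  have hqS : ∀ j : J, (Subobject.underlying.obj (sub j) : X.Modules).IsQuasicoherent := fun j => (hP j).1
  have hfS : ∀ j : J, SheafOfModules.IsFiniteType (R := X.ringCatSheaf)
      (Subobject.underlying.obj (sub j) : X.Modules) := fun j => (hP j).2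
  let m : ∀ j : J, (Subobject.underlying.obj (sub j) : X.Modules) ⟶ G₀ := fun j => (sub j).arrow ≫ ι
  have hmφ : ∀ j : J, m j ≫ φ₀ = 0 := fun j => by
    change ((sub j).arrow ≫ ι) ≫ φ₀ = 0
    rw [Category.assoc, kernel.condition, comp_zero]
  have hmm : ∀ {j j' : J} (h : j ≤ j'), Subobject.ofLE _ _ (hmono h) ≫ m j' = m j := fun h => by
    change Subobject.ofLE _ _ (hmono h) ≫ (sub _).arrow ≫ ι = (sub _).arrow ≫ ι
    rw [Subobject.ofLE_arrow_assoc]
  let D : J ⥤ X.Modules :=
    { obj := fun j => cokernel (m j)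
      map := fun {j j'} h => cokernel.map (m j) (m j') (Subobject.ofLE _ _ (hmono (leOfHom h))) (𝟙 G₀)
        (by rw [Category.comp_id]; exact (hmm (leOfHom h)).symm)
      map_id := fun j => by
        apply coequalizer.hom_ext
        simp
      map_comp := fun {j j' j''} f g => by
        apply coequalizer.hom_ext
        simp }
  have hDπ : ∀ {j j' : J} (h : j ⟶ j'), cokernel.π (m j) ≫ D.map h = cokernel.π (m j') :=
    fun {j j'} h => (cokernel.π_desc (m j) (𝟙 G₀ ≫ cokernel.π (m j')) _).trans (Category.id_comp _)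
  let ιF : D ⟶ (Functor.const J).obj F :=
    { app := fun j => cokernel.desc (m j) φ₀ (hmφ j)
      naturality := fun {j j'} h => by
        apply coequalizer.hom_ext
        change cokernel.π (m j) ≫ D.map h ≫ cokernel.desc (m j') φ₀ (hmφ j') =
          cokernel.π (m j) ≫ cokernel.desc (m j) φ₀ (hmφ j) ≫ 𝟙 F
        rw [reassoc_of% (hDπ h), cokernel.π_desc, Category.comp_id, cokernel.π_desc] }
  have hιF : ∀ j : J, cokernel.π (m j) ≫ ιF.app j = φ₀ := fun j => cokernel.π_desc _ _ _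
  obtain ⟨j₀⟩ := hne
  -- the union property
  have hunion : ∀ {T : X.Modules} (g : G₀ ⟶ T), (∀ j, m j ≫ g = 0) → ι ≫ g = 0 := by
    intro T g hg
    refine Groth.Agent.Lib.R2H3.LimHom.hom_ext_affine _ _ (fun V hV a => ?_)
    obtain ⟨G, i, hi, hq, hf, a', ha'⟩ := Groth.Agent.S9819.result K ⟨V, hV⟩ a
    have := hi
    have hq2 : G.IsQuasicoherent := hq
    have hf2 : SheafOfModules.IsFiniteType (R := X.ringCatSheaf) G := hf
    obtain ⟨j, hj⟩ := hcof (Subobject.mk i) (ftSub_mk i)
    -- `a` comes from the subobject `sub j`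
    have h1 : ∃ b : Γ((Subobject.underlying.obj (sub j) : X.Modules), V), (sub j).arrow.app V b = a := by
      refine ⟨(Subobject.ofLE _ _ hj).app V ((Subobject.underlyingIso i).inv.app V a'), ?_⟩
      have h2 := congrArg (fun θ : G ⟶ K => θ.app V a')
        (show (Subobject.underlyingIso i).inv ≫ Subobject.ofLE _ _ hj ≫ (sub j).arrow = i by
          rw [Subobject.ofLE_arrow, Subobject.underlyingIso_arrow])
      simp only [Scheme.Modules.Hom.comp_app] at h2
      exact h2.trans ha'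
    obtain ⟨b, hb⟩ := h1
    have h3 := congrArg (fun θ : (Subobject.underlying.obj (sub j) : X.Modules) ⟶ T => θ.app V b) (hg j)
    change (((sub j).arrow ≫ ι) ≫ g).app V b = (0 : _ ⟶ T).app V b at h3
    simp only [Scheme.Modules.Hom.comp_app, Scheme.Modules.Hom.zero_app] at h3
    rw [Scheme.Modules.Hom.comp_app, Scheme.Modules.Hom.zero_app]
    rw [← hb]
    exact h3
  -- `φ₀` is the cokernel of `ι`
  have hcok : IsColimit (CokernelCofork.ofπ φ₀ (kernel.condition φ₀)) :=
    Abelian.epiIsCokernelOfKernel (Fork.ofι (kernel.ι φ₀) ((kernel.condition φ₀).trans comp_zero.symm))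
      (kernelIsKernel φ₀)
  refine ⟨D, ιF, ⟨?_⟩, ?_, ?_⟩
  · -- the colimit property
    have hg_indep : ∀ (s : Cocone D) (j j' : J),
        cokernel.π (m j) ≫ s.ι.app j = cokernel.π (m j') ≫ s.ι.app j' := by
      intro s j j'
      obtain ⟨j₃, h1, h2⟩ := hdir.directed j j'
      have e1 : cokernel.π (m j) ≫ s.ι.app j = cokernel.π (m j₃) ≫ s.ι.app j₃ := by
        rw [← s.w (homOfLE h1), reassoc_of% (hDπ (homOfLE h1))]
      have e2 : cokernel.π (m j') ≫ s.ι.app j' = cokernel.π (m j₃) ≫ s.ι.app j₃ := by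
        rw [← s.w (homOfLE h2), reassoc_of% (hDπ (homOfLE h2))]
      rw [e1, e2]
    have hg_zero : ∀ (s : Cocone D), ι ≫ (cokernel.π (m j₀) ≫ s.ι.app j₀) = 0 := by
      intro s
      refine hunion _ (fun j => ?_)
      rw [hg_indep s j₀ j, cokernel.condition_assoc, zero_comp]
    refine
      { desc := fun s => hcok.desc (CokernelCofork.ofπ (cokernel.π (m j₀) ≫ s.ι.app j₀) (hg_zero s))
        fac := fun s j => ?_
        uniq := fun s t ht => ?_ }
    · have h1 : φ₀ ≫ hcok.desc (CokernelCofork.ofπ (cokernel.π (m j₀) ≫ s.ι.app j₀) (hg_zero s)) =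
          cokernel.π (m j₀) ≫ s.ι.app j₀ := hcok.fac _ WalkingParallelPair.one
      apply coequalizer.hom_ext
      change cokernel.π (m j) ≫ ιF.app j ≫ _ = cokernel.π (m j) ≫ s.ι.app j
      rw [reassoc_of% (hιF j), h1, hg_indep s j₀ j]
    · have h1 : φ₀ ≫ hcok.desc (CokernelCofork.ofπ (cokernel.π (m j₀) ≫ s.ι.app j₀) (hg_zero s)) =
          cokernel.π (m j₀) ≫ s.ι.app j₀ := hcok.fac _ WalkingParallelPair.one
      rw [← cancel_epi φ₀, h1, ← ht j₀]
      change φ₀ ≫ t = cokernel.π (m j₀) ≫ ιF.app j₀ ≫ t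
      rw [reassoc_of% (hιF j₀)]
  · intro j
    have := hqS j
    have := hfS j
    exact isFinitePresentation_cokernel (m j)
  · intro j j' h
    have : Epi (cokernel.π (m j) ≫ D.map h) := by rw [hDπ h]; infer_instance
    exact epi_of_epi (cokernel.π (m j)) (D.map h)

/-- **Stacks 01PK**: a finite type quasi-coherent module on a qcqs scheme is a directed colimit of finitely presented
modules with surjective transition maps. -/
theorem exists_directed_fp_quotients [CompactSpace X] [QuasiSeparatedSpace X] (F : X.Modules)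
    [F.IsQuasicoherent] [SheafOfModules.IsFiniteType (R := X.ringCatSheaf) F] :
    ∃ (J : Type u) (_ : PartialOrder J) (_ : IsDirected J (· ≤ ·)) (_ : Nonempty J) (D : J ⥤ X.Modules)
      (ι : D ⟶ (Functor.const J).obj F), Nonempty (IsColimit (Cocone.mk F ι)) ∧
      (∀ j, SheafOfModules.IsFinitePresentation (R := X.ringCatSheaf) (D.obj j)) ∧
      ∀ (j j' : J) (h : j ⟶ j'), Epi (D.map h) := by
  haveI : IsGrothendieckAbelian.{u} X.Modules := Groth.Agent.S0484.result _ X.ringCatSheaf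
  haveI : WellPowered.{u} X.Modules := IsGrothendieckAbelian.wellPowered _
  obtain ⟨G₀, φ₀, hq₀, hfp₀, hepi₀⟩ := exists_fp_epi F
  have := hq₀
  have := hfp₀
  have := hepi₀
  have hKq : (kernel φ₀ : X.Modules).IsQuasicoherent := isQuasicoherent_kernel φ₀
  let α : Type (u + 1) := {S : Subobject (kernel φ₀ : X.Modules) // FTSub (kernel φ₀ : X.Modules) S}
  haveI : Small.{u} α := small_subtype _ (FTSub (kernel φ₀ : X.Modules))
  let e : Shrink.{u} α → α := (equivShrink α).symm
  have hsurj : ∀ a : α, ∃ j : Shrink.{u} α, e j = a := fun a => ⟨equivShrink α a, Equiv.symm_apply_apply _ _⟩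
  obtain ⟨G', i', hi', hq', hf', -⟩ :=
    Groth.Agent.S9819.result (kernel φ₀ : X.Modules) ⟨⊥, isAffineOpen_bot X⟩ 0
  have := hi'
  have hq'' : G'.IsQuasicoherent := hq'
  have hf'' : SheafOfModules.IsFiniteType (R := X.ringCatSheaf) G' := hf'
  obtain ⟨j₀, -⟩ := hsurj ⟨Subobject.mk i', ftSub_mk i'⟩
  have hdir : IsDirected (Shrink.{u} α) (· ≤ ·) := ⟨fun j j' => by
    obtain ⟨S₃, hS₃, h1, h2⟩ := exists_ftSub_ge (e j).2 (e j').2
    obtain ⟨j₃, hj₃⟩ := hsurj ⟨S₃, hS₃⟩
    refine ⟨j₃, ?_, ?_⟩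
    · change (e j).1 ≤ (e j₃).1
      rw [hj₃]; exact h1
    · change (e j').1 ≤ (e j₃).1
      rw [hj₃]; exact h2⟩
  have hne : Nonempty (Shrink.{u} α) := ⟨j₀⟩
  obtain ⟨D, ιF, h1, h2, h3⟩ := exists_colimit_of_subobjects φ₀ (Shrink.{u} α) (fun j => (e j).1)
    (fun h => h) (fun j => (e j).2) (fun S hS => by
      obtain ⟨j, hj⟩ := hsurj ⟨S, hS⟩
      exact ⟨j, by rw [hj]⟩)
  exact ⟨Shrink.{u} α, inferInstance, hdir, hne, D, ιF, h1, h2, h3⟩

end Groth.Agent.Lib.R2H3.FPDirected
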