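import Groth.Agent.Lib.R2H3FPExtend
import Groth.Agent.Lib.Helper23FTsub
import Groth.Agent.Lib.Helper18OmLS10
import Groth.Agent.Lib.Helper20StalkExact

/-!
# Finitely presented covers of finite type quasi-coherent modules on qcqs schemes (helper3, round 2)

* `isFinitePresentation_biprod`
* `exists_fp_surj_affine`, `exists_fp_epi`: a finite type quasi-coherent module on a qcqs scheme is a quotient of a
  finitely presented quasi-coherent module.
* `exists_fp_epi_isoOn` (Stacks 01PH): if moreover `F` is of finite presentation on a quasi-compact open `U`, the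
  surjection can be chosen to be an isomorphism over `U`.
-/

set_option autoImplicit false
set_option linter.style.haveILetI false
universe u
open CategoryTheory Limits AlgebraicGeometry TopologicalSpace Opposite

namespace Groth.Agent.Lib.R2H3.FPQuot

open Groth.Agent.Lib.Helper23.QCohLocal Groth.Agent.Lib.Helper2.Push Groth.Agent.Lib.Helper2.QCoh
  Groth.Agent.Lib.Helper23.FinType Groth.Agent.Lib.Helper23.ModLocal Groth.Agent.Lib.Helper23.Extend
  Groth.Agent.Lib.Helper2.FPAff Groth.Agent.Lib.R2H3.FPExtend Groth.Agent.Lib.Helper23.FTsub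

variable {X : Scheme.{u}}

/-- a binary direct sum of finitely presented quasi-coherent modules is finitely presented -/
theorem isFinitePresentation_biprod (A B : X.Modules) [A.IsQuasicoherent] [B.IsQuasicoherent]
    [SheafOfModules.IsFinitePresentation (R := X.ringCatSheaf) A]
    [SheafOfModules.IsFinitePresentation (R := X.ringCatSheaf) B] :
    SheafOfModules.IsFinitePresentation (R := X.ringCatSheaf) (A ⊞ B : X.Modules) := by
  have : (A ⊞ B : X.Modules).IsQuasicoherent := isQuasicoherent_biprod A B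
  refine isFinitePresentation_of_fpOn_top _ (fun U hU _ => ?_)
  have : Module.FinitePresentation Γ(X, U) Γ(A, U) := finitePresentation_sections A hU
  have : Module.FinitePresentation Γ(X, U) Γ(B, U) := finitePresentation_sections B hU
  let fA : Γ(A, U) →ₗ[Γ(X, U)] Γ((A ⊞ B : X.Modules), U) :=
    { toFun := fun x => (biprod.inl : A ⟶ A ⊞ B).app U x
      map_add' := fun x y => map_add _ x y
      map_smul' := fun r x => Scheme.Modules.Hom.app_smul (biprod.inl : A ⟶ A ⊞ B) r x }
  let fB : Γ(B, U) →ₗ[Γ(X, U)] Γ((A ⊞ B : X.Modules), U) :=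
    { toFun := fun x => (biprod.inr : B ⟶ A ⊞ B).app U x
      map_add' := fun x y => map_add _ x y
      map_smul' := fun r x => Scheme.Modules.Hom.app_smul (biprod.inr : B ⟶ A ⊞ B) r x }
  have hfA : ∀ x, fA x = (biprod.inl : A ⟶ A ⊞ B).app U x := fun _ => rfl
  have hfB : ∀ x, fB x = (biprod.inr : B ⟶ A ⊞ B).app U x := fun _ => rfl
  have hsurj : Function.Surjective (fA.coprod fB) := by
    intro s
    refine ⟨((biprod.fst : A ⊞ B ⟶ A).app U s, (biprod.snd : A ⊞ B ⟶ B).app U s), ?_⟩
    rw [LinearMap.coprod_apply]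
    have h1 : (biprod.fst ≫ biprod.inl + biprod.snd ≫ biprod.inr : A ⊞ B ⟶ A ⊞ B) = 𝟙 _ := biprod.total
    have h2 := congrArg (fun φ : (A ⊞ B : X.Modules) ⟶ (A ⊞ B : X.Modules) => φ.app U s) h1
    simp only [Scheme.Modules.Hom.add_app, Scheme.Modules.Hom.comp_app, Scheme.Modules.Hom.id_app] at h2
    exact h2
  have hinj : Function.Injective (fA.coprod fB) := by
    rw [← LinearMap.ker_eq_bot, LinearMap.ker_eq_bot']
    rintro ⟨x, y⟩ hxy
    rw [LinearMap.coprod_apply, hfA, hfB] at hxy
    have h1 := congrArg (fun z => (biprod.fst : A ⊞ B ⟶ A).app U z) hxy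
    have h2 := congrArg (fun z => (biprod.snd : A ⊞ B ⟶ B).app U z) hxy
    simp only [map_add, map_zero] at h1 h2
    have e1 : (biprod.fst : A ⊞ B ⟶ A).app U ((biprod.inl : A ⟶ A ⊞ B).app U x) = x := by
      have := congrArg (fun φ : A ⟶ A => φ.app U x) (biprod.inl_fst : (biprod.inl : A ⟶ A ⊞ B) ≫ biprod.fst = 𝟙 A)
      simp only [Scheme.Modules.Hom.comp_app, Scheme.Modules.Hom.id_app] at this
      exact this
    have e2 : (biprod.fst : A ⊞ B ⟶ A).app U ((biprod.inr : B ⟶ A ⊞ B).app U y) = 0 := by
      have := congrArg (fun φ : B ⟶ A => φ.app U y) (biprod.inr_fst : (biprod.inr : B ⟶ A ⊞ B) ≫ biprod.fst = 0)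
      simp only [Scheme.Modules.Hom.comp_app, Scheme.Modules.Hom.zero_app] at this
      exact this
    have e3 : (biprod.snd : A ⊞ B ⟶ B).app U ((biprod.inl : A ⟶ A ⊞ B).app U x) = 0 := by
      have := congrArg (fun φ : A ⟶ B => φ.app U x) (biprod.inl_snd : (biprod.inl : A ⟶ A ⊞ B) ≫ biprod.snd = 0)
      simp only [Scheme.Modules.Hom.comp_app, Scheme.Modules.Hom.zero_app] at this
      exact this
    have e4 : (biprod.snd : A ⊞ B ⟶ B).app U ((biprod.inr : B ⟶ A ⊞ B).app U y) = y := by
      have := congrArg (fun φ : B ⟶ B => φ.app U y) (biprod.inr_snd : (biprod.inr : B ⟶ A ⊞ B) ≫ biprod.snd = 𝟙 B)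
      simp only [Scheme.Modules.Hom.comp_app, Scheme.Modules.Hom.id_app] at this
      exact this
    rw [e1, e2, add_zero] at h1
    rw [e3, e4, zero_add] at h2
    rw [h1, h2]; rfl
  exact Module.FinitePresentation.of_equiv (LinearEquiv.ofBijective (fA.coprod fB) ⟨hinj, hsurj⟩)

/-- if the restriction of `H` to an affine open `V` is isomorphic to `N^~` with `N` finitely presented, then `H` is of
finite presentation on `V` -/
theorem fpOn_of_restrict_iso_tilde (H : X.Modules) [H.IsQuasicoherent] {V : X.Opens} (hV : IsAffineOpen V)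
    (N : ModuleCat.{u} Γ(X, V)) (hN : Module.FinitePresentation Γ(X, V) N)
    (e : H.restrict hV.fromSpec ≅ (tilde.functor Γ(X, V)).obj N) : FPOn H V := by
  have : ((tilde.functor Γ(X, V)).obj N).IsQuasicoherent := inferInstanceAs (tilde N).IsQuasicoherent
  have : SheafOfModules.IsFinitePresentation (R := (Spec Γ(X, V)).ringCatSheaf) ((tilde.functor Γ(X, V)).obj N) :=
    (isFinitePresentation_tilde_iff Γ(X, V) N).2 hN
  have hFr : FPOn (H.restrict hV.fromSpec) ⊤ := by
    intro W hW _
    have h1 : Module.FinitePresentation Γ(Spec Γ(X, V), W) Γ((tilde.functor Γ(X, V)).obj N, W) :=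
      finitePresentation_sections _ hW
    have hb : IsIso (e.hom.app W) := inferInstance
    have hbij : Function.Bijective (e.hom.app W) := ConcreteCategory.bijective_of_isIso (e.hom.app W)
    let e' : Γ(H.restrict hV.fromSpec, W) ≃ₗ[Γ(Spec Γ(X, V), W)] Γ((tilde.functor Γ(X, V)).obj N, W) :=
      LinearEquiv.ofBijective
        { toFun := fun x => e.hom.app W x
          map_add' := fun x y => map_add _ x y
          map_smul' := fun r x => Scheme.Modules.Hom.app_smul e.hom r x } hbij
    exact Module.FinitePresentation.of_equiv e'.symm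
  have : SheafOfModules.IsFinitePresentation (R := (Spec Γ(X, V)).ringCatSheaf) (H.restrict hV.fromSpec) :=
    isFinitePresentation_of_fpOn_top _ hFr
  have := fpOn_of_isFinitePresentation_restrict hV.fromSpec H
  rw [hV.opensRange_fromSpec] at this
  exact this

/-- a finite type quasi-coherent module on a qcqs scheme receives a morphism from a finitely presented quasi-coherent
module which is surjective on sections over a given affine open -/
theorem exists_fp_surj_affine [CompactSpace X] [QuasiSeparatedSpace X] (F : X.Modules) [F.IsQuasicoherent]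
    [SheafOfModules.IsFiniteType (R := X.ringCatSheaf) F] (V : X.Opens) (hV : IsAffineOpen V) :
    ∃ (G : X.Modules) (φ : G ⟶ F), G.IsQuasicoherent ∧
      SheafOfModules.IsFinitePresentation (R := X.ringCatSheaf) G ∧ Function.Surjective (φ.app V) := by
  let R : CommRingCat.{u} := Γ(X, V)
  let h : Spec R ⟶ X := hV.fromSpec
  have : QuasiCompact h := quasiCompact_of_compactSpace h
  let B : (Spec R).Modules := F.restrict h
  have hfin : Module.Finite R ((ΓF R).obj B) := (finite_ΓU_iff F hV).2 (finite_of_isFiniteType F hV)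
  obtain ⟨n, f, hf⟩ := Module.Finite.exists_fin' R ((ΓF R).obj B)
  let N : ModuleCat.{u} R := ModuleCat.of R (Fin n → R)
  let c : N ⟶ (ΓF R).obj B := ModuleCat.ofHom (X := (Fin n → R)) (Y := ((ΓF R).obj B)) f
  have hN : Module.FinitePresentation R N := inferInstanceAs (Module.FinitePresentation R (Fin n → R))
  have : ((tilde.functor R).obj N).IsQuasicoherent := inferInstanceAs (tilde N).IsQuasicoherent
  obtain ⟨H, ψ, e, hHq, hcomp, -, -⟩ := exists_extension' h F ((tilde.functor R).obj N) (adjTilde R B c)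
  have := hHq
  have hHV : FPOn H V := fpOn_of_restrict_iso_tilde H hV N hN e
  obtain ⟨G, θ, hGq, hGfp, hiso⟩ := exists_fp_isoOn H V hV.isCompact hHV
  refine ⟨G, θ ≫ ψ, hGq, hGfp, ?_⟩
  have h1 : h ''ᵁ ⊤ = V := (Scheme.Hom.image_top_eq_opensRange _).trans hV.opensRange_fromSpec
  have hψ : Function.Surjective (ψ.app V) := by
    refine Groth.Agent.Helper18OmLS.surjective_app_of_eq ψ h1.symm ?_
    intro z
    have hz : ∃ m : N, c.hom m = z := hf z
    obtain ⟨m, hm⟩ := hz
    obtain ⟨σ, hσ⟩ := exists_section_adjTilde R B c m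
    have hb : IsIso (e.hom.app ⊤) := inferInstance
    obtain ⟨τ, hτ⟩ := (ConcreteCategory.bijective_of_isIso (e.hom.app ⊤)).2 σ
    refine ⟨τ, ?_⟩
    have h2 := congrArg (fun φ : H.restrict h ⟶ F.restrict h => φ.app ⊤ τ) hcomp
    simp only [Scheme.Modules.Hom.comp_app] at h2
    refine Eq.trans ?_ (hσ.trans hm)
    rw [← hτ]
    exact h2.symm
  have hθ : Function.Surjective (θ.app V) := by
    have := hiso V le_rfl
    exact (ConcreteCategory.bijective_of_isIso (θ.app V)).2
  intro z
  obtain ⟨y, hy⟩ := hψ z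
  obtain ⟨w, hw⟩ := hθ y
  exact ⟨w, by rw [Scheme.Modules.Hom.comp_app]; change ψ.app V (θ.app V w) = z; rw [hw, hy]⟩

/-- **quotient of a finitely presented module**: on a qcqs scheme, every finite type quasi-coherent module is a quotient
of a finitely presented quasi-coherent module -/
theorem exists_fp_epi [CompactSpace X] [QuasiSeparatedSpace X] (F : X.Modules) [F.IsQuasicoherent]
    [SheafOfModules.IsFiniteType (R := X.ringCatSheaf) F] :
    ∃ (G : X.Modules) (φ : G ⟶ F), G.IsQuasicoherent ∧
      SheafOfModules.IsFinitePresentation (R := X.ringCatSheaf) G ∧ Epi φ := by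
  have key : ∀ (S : X.Opens), IsCompact (S : Set X) →
      ∃ (G : X.Modules) (φ : G ⟶ F), G.IsQuasicoherent ∧
        SheafOfModules.IsFinitePresentation (R := X.ringCatSheaf) G ∧
        ∀ x ∈ S, ∃ W : X.Opens, IsAffineOpen W ∧ x ∈ W ∧ Function.Surjective (φ.app W) := by
    intro S hS
    refine compact_open_induction_on (P := fun S => ∃ (G : X.Modules) (φ : G ⟶ F), G.IsQuasicoherent ∧
        SheafOfModules.IsFinitePresentation (R := X.ringCatSheaf) G ∧
        ∀ x ∈ S, ∃ W : X.Opens, IsAffineOpen W ∧ x ∈ W ∧ Function.Surjective (φ.app W)) S hS ?_ ?_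
    · have hq : (kernel (𝟙 F)).IsQuasicoherent := isQuasicoherent_kernel (𝟙 F)
      refine ⟨kernel (𝟙 F), 0, hq, ?_, fun x hx => (hx : x ∈ (∅ : Set X)).elim⟩
      refine isFinitePresentation_of_fpOn_top _ (fun W _ _ => ?_)
      have hsub : Subsingleton Γ(kernel (𝟙 F), W) := by
        refine ⟨fun a b => ?_⟩
        have h0 : kernel.ι (𝟙 F) = 0 := by
          have := kernel.condition (𝟙 F)
          rwa [Category.comp_id] at this
        apply injective_app_of_mono (kernel.ι (𝟙 F)) W
        rw [h0]; rfl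
      infer_instance
    · intro S hS V ih
      obtain ⟨G₁, φ₁, hq₁, hfp₁, hs₁⟩ := ih
      obtain ⟨G₂, φ₂, hq₂, hfp₂, hs₂⟩ := exists_fp_surj_affine F V.1 V.2
      have := hq₁
      have := hq₂
      have := hfp₁
      have := hfp₂
      refine ⟨(G₁ ⊞ G₂ : X.Modules), biprod.desc φ₁ φ₂, isQuasicoherent_biprod G₁ G₂,
        isFinitePresentation_biprod G₁ G₂, ?_⟩
      intro x hx
      rcases hx with hx | hx
      · obtain ⟨W, hW, hxW, hsurj⟩ := hs₁ x hx
        refine ⟨W, hW, hxW, fun z => ?_⟩
        obtain ⟨y, hy⟩ := hsurj z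
        refine ⟨(biprod.inl : G₁ ⟶ G₁ ⊞ G₂).app W y, ?_⟩
        have := congrArg (fun φ : G₁ ⟶ F => φ.app W y) (biprod.inl_desc φ₁ φ₂)
        simp only [Scheme.Modules.Hom.comp_app] at this
        exact this.trans hy
      · refine ⟨V.1, V.2, hx, fun z => ?_⟩
        obtain ⟨y, hy⟩ := hs₂ z
        refine ⟨(biprod.inr : G₂ ⟶ G₁ ⊞ G₂).app V.1 y, ?_⟩
        have := congrArg (fun φ : G₂ ⟶ F => φ.app V.1 y) (biprod.inr_desc φ₁ φ₂)
        simp only [Scheme.Modules.Hom.comp_app] at this
        exact this.trans hy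
  obtain ⟨G, φ, hq, hfp, hs⟩ := key ⊤ isCompact_univ
  have := hq
  refine ⟨G, φ, hq, hfp, ?_⟩
  choose W hW hxW hsurj using fun x : X => hs x (Set.mem_univ x)
  refine Groth.Agent.Helper18OmLS.epi_of_surjective_app_cover φ W ?_ hW hsurj
  refine IsOpenCover.mk (eq_top_iff.mpr ?_)
  intro x _
  exact Opens.mem_iSup.mpr ⟨x, hxW x⟩

/-- the linear map on sections over `W` induced by a morphism of modules -/
noncomputable def appₗ {A B : X.Modules} (m : A ⟶ B) (W : X.Opens) : Γ(A, W) →ₗ[Γ(X, W)] Γ(B, W) :=
  { toFun := fun x => m.app W x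
    map_add' := fun x y => map_add _ x y
    map_smul' := fun r x => Scheme.Modules.Hom.app_smul m r x }

theorem appₗ_apply {A B : X.Modules} (m : A ⟶ B) (W : X.Opens) (x : Γ(A, W)) : appₗ m W x = m.app W x := rfl

/-- for a short exact sequence, the sections over `W` of the kernel are the kernel of the map on sections -/
theorem range_appₗ_eq_ker (E : ShortComplex X.Modules) (hE : E.ShortExact) (W : X.Opens) :
    LinearMap.range (appₗ E.f W) = LinearMap.ker (appₗ E.g W) := by
  ext t
  constructor
  · rintro ⟨r, rfl⟩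
    rw [LinearMap.mem_ker, appₗ_apply, appₗ_apply]
    have := congrArg (fun φ : E.X₁ ⟶ E.X₃ => φ.app W r) E.zero
    simp only [Scheme.Modules.Hom.comp_app, Scheme.Modules.Hom.zero_app] at this
    exact this
  · intro ht
    rw [LinearMap.mem_ker, appₗ_apply] at ht
    obtain ⟨r, hr⟩ := Groth.Agent.Lib.Helper20.StalkExact.exists_app_eq_of_exact E hE W t ht
    exact ⟨r, hr⟩

/-- **Stacks 01PH**: on a qcqs scheme, a finite type quasi-coherent module which is of finite presentation on a
quasi-compact open `U` is a quotient of a finitely presented quasi-coherent module by a surjection which is an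
isomorphism over `U`. -/
theorem exists_fp_epi_isoOn [CompactSpace X] [QuasiSeparatedSpace X] (F : X.Modules) [F.IsQuasicoherent]
    [SheafOfModules.IsFiniteType (R := X.ringCatSheaf) F] (U : X.Opens) (hU : IsCompact (U : Set X))
    (hFU : FPOn F U) :
    ∃ (G : X.Modules) (φ : G ⟶ F), G.IsQuasicoherent ∧
      SheafOfModules.IsFinitePresentation (R := X.ringCatSheaf) G ∧ Epi φ ∧ IsoOn φ U := by
  obtain ⟨G₀, φ₀, hq₀, hfp₀, hepi₀⟩ := exists_fp_epi F
  have := hq₀
  have := hfp₀
  have := hepi₀
  let K : X.Modules := kernel φ₀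
  let ι : K ⟶ G₀ := kernel.ι φ₀
  have hKq : K.IsQuasicoherent := isQuasicoherent_kernel φ₀
  let S₀ : ShortComplex X.Modules := ShortComplex.mk ι φ₀ (kernel.condition φ₀)
  have hS₀ : S₀.ShortExact :=
    { exact := ShortComplex.exact_kernel φ₀
      mono_f := inferInstanceAs (Mono (kernel.ι φ₀))
      epi_g := inferInstanceAs (Epi φ₀) }
  have hKU : FTOn K U := by
    intro W hW hWU
    have h1 : Module.FinitePresentation Γ(X, W) Γ(F, W) := hFU W hW hWU
    have h2 : Module.FinitePresentation Γ(X, W) Γ(G₀, W) := finitePresentation_sections G₀ hW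
    have hsurj : Function.Surjective (appₗ φ₀ W) := surjective_app_of_epi φ₀ hW
    have hfg : (LinearMap.ker (appₗ φ₀ W)).FG := Module.FinitePresentation.fg_ker (appₗ φ₀ W) hsurj
    have hr : LinearMap.range (appₗ ι W) = LinearMap.ker (appₗ φ₀ W) := range_appₗ_eq_ker S₀ hS₀ W
    have hinj : Function.Injective (appₗ ι W) := injective_app_of_mono ι W
    rw [← hr] at hfg
    have : Module.Finite Γ(X, W) (LinearMap.range (appₗ ι W)) := Module.Finite.iff_fg.2 hfg
    exact Module.Finite.equiv (LinearEquiv.ofInjective (appₗ ι W) hinj).symm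
  obtain ⟨K', ψ, hmono, hq', hft', hisoψ⟩ := exists_sub_isFiniteType K U hU hKU
  have := hq'
  have := hft'
  have := hmono
  let m : K' ⟶ G₀ := ψ ≫ ι
  have hm : Mono m := mono_comp ψ ι
  let G : X.Modules := cokernel m
  let π : G₀ ⟶ G := cokernel.π m
  have hGq : G.IsQuasicoherent := isQuasicoherent_cokernel m
  let S₁ : ShortComplex X.Modules := ShortComplex.mk m π (cokernel.condition m)
  have hS₁ : S₁.ShortExact :=
    { exact := ShortComplex.exact_cokernel m
      mono_f := hm
      epi_g := inferInstanceAs (Epi (cokernel.π m)) }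
  have hπepi : Epi π := inferInstanceAs (Epi (cokernel.π m))
  have hGfp : SheafOfModules.IsFinitePresentation (R := X.ringCatSheaf) G := by
    refine isFinitePresentation_of_fpOn_top G (fun W hW _ => ?_)
    have h2 : Module.FinitePresentation Γ(X, W) Γ(G₀, W) := finitePresentation_sections G₀ hW
    have h3 : Module.Finite Γ(X, W) Γ(K', W) := finite_of_isFiniteType K' hW
    have hsurj : Function.Surjective (appₗ π W) := surjective_app_of_epi π hW
    have hr : LinearMap.range (appₗ m W) = LinearMap.ker (appₗ π W) := range_appₗ_eq_ker S₁ hS₁ W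
    have hfg : (LinearMap.ker (appₗ π W)).FG := by
      rw [← hr, LinearMap.range_eq_map]
      exact (Module.Finite.fg_top).map _
    exact Module.finitePresentation_of_surjective (appₗ π W) hsurj hfg
  have hfac : m ≫ φ₀ = 0 := by
    change (ψ ≫ ι) ≫ φ₀ = 0
    rw [Category.assoc, kernel.condition, comp_zero]
  let φ : G ⟶ F := cokernel.desc m φ₀ hfac
  have hπφ : π ≫ φ = φ₀ := cokernel.π_desc m φ₀ hfac
  have hφepi : Epi φ := by
    have : Epi (π ≫ φ) := by rw [hπφ]; infer_instance
    exact epi_of_epi π φ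
  refine ⟨G, φ, hGq, hGfp, hφepi, ?_⟩
  -- iso over `U`
  let κ : Type u := {W : X.Opens // IsAffineOpen W ∧ W ≤ U}
  have hbij : ∀ k : κ, Function.Bijective (φ.app k.1) := by
    rintro ⟨W, hW, hWU⟩
    refine ⟨?_, surjective_app_of_epi φ hW⟩
    have key : ∀ g : Γ(G, W), φ.app W g = 0 → g = 0 := by
      intro g hg
      obtain ⟨g₀, rfl⟩ := surjective_app_of_epi π hW g
      have h1 : φ₀.app W g₀ = 0 := by
        have := congrArg (fun θ : G₀ ⟶ F => θ.app W g₀) hπφ
        simp only [Scheme.Modules.Hom.comp_app] at this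
        exact this.symm.trans hg
      obtain ⟨k, hk⟩ := Groth.Agent.Lib.Helper20.StalkExact.exists_app_eq_of_exact S₀ hS₀ W g₀ h1
      have := hisoψ W hWU
      obtain ⟨k', hk'⟩ := (ConcreteCategory.bijective_of_isIso (ψ.app W)).2 k
      have h2 : m.app W k' = g₀ := by
        change (ψ ≫ ι).app W k' = g₀
        rw [Scheme.Modules.Hom.comp_app]
        change ι.app W (ψ.app W k') = g₀
        rw [hk']; exact hk
      rw [← h2]
      have := congrArg (fun θ : K' ⟶ G => θ.app W k') (cokernel.condition m)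
      simp only [Scheme.Modules.Hom.comp_app, Scheme.Modules.Hom.zero_app] at this
      exact this
    intro a b hab
    have : φ.app W (a - b) = 0 := by rw [map_sub, hab, sub_self]
    exact sub_eq_zero.1 (key _ this)
  have hiso := isIso_restrict_of_bijective_app φ U (fun k : κ => k.1) (fun k => k.2.1) (fun k => k.2.2)
    (by
      intro x hx
      obtain ⟨_, ⟨W, hW, rfl⟩, hxW, hWU⟩ := X.isBasis_affineOpens.exists_subset_of_mem_open hx U.2
      exact Opens.mem_iSup.2 ⟨⟨W, hW, hWU⟩, hxW⟩) hbij
  have h2 := (isIso_restrict_iff U.ι φ).1 hiso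
  rwa [Scheme.Opens.opensRange_ι] at h2

end Groth.Agent.Lib.R2H3.FPQuot
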