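import Mathlib
import Groth.Agent.Lib.R2H3FibCrit
import Groth.Agent.Lib.R2H3SepField

/-!
# Fibrewise criterion for universally separating families of module maps
(EGA IV 11.10.9 / 11.10.10 / 11.9.x at ring level, module version; helper3, round 2)
-/

set_option autoImplicit false
set_option linter.style.haveILetI false
universe u

open TensorProduct

namespace Groth.Agent.Lib.R2H3.FibCritMod

open Groth.Agent.Lib.R2H3.FibCrit Groth.Agent.Lib.R2H3.SepField

section defs
variable {A : Type*} [CommRing A] {R : Type*} [CommRing R] [Algebra A R]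
  {M : Type*} [AddCommGroup M] [Module A M] [Module R M] [IsScalarTower A R M]

/-- multiplication by `r : R` as an `A`-linear endomorphism. -/
def smulA (A : Type*) [CommRing A] {R : Type*} [CommRing R] [Algebra A R]
    (M : Type*) [AddCommGroup M] [Module A M] [Module R M] [IsScalarTower A R M] (r : R) :
    M →ₗ[A] M where
  toFun m := r • m
  map_add' := smul_add r
  map_smul' a m := smul_comm r a m

@[simp] theorem smulA_apply (r : R) (m : M) : smulA A M r m = r • m := rfl

variable (κ : Type*) [CommRing κ] [Algebra A κ] {ι : Type*} {N : ι → Type*}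
  [∀ i, AddCommGroup (N i)] [∀ i, Module A (N i)] [∀ i, Module R (N i)]
  [∀ i, IsScalarTower A R (N i)]

variable (A) in
/-- the family `κ ⊗ u i` is locally separating with respect to elements of `R`. -/
def WeakSep (u : ∀ i, M →ₗ[R] N i) : Prop :=
  ∀ (h : R) (y : κ ⊗[A] M), (∀ i, ∃ n : ℕ, ((u i).restrictScalars A).lTensor κ
    ((smulA A M (h ^ n)).lTensor κ y) = 0) → ∃ n : ℕ, (smulA A M (h ^ n)).lTensor κ y = 0

end defs

section G
variable {A : Type u} [CommRing A] (J : Ideal A) (κ : Type u) [CommRing κ] [Algebra A κ]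
  {R : Type u} [CommRing R] [Algebra A R]
  {M : Type u} [AddCommGroup M] [Module A M] [Module R M] [IsScalarTower A R M]
  {ι : Type*} {N : ι → Type u} [∀ i, AddCommGroup (N i)] [∀ i, Module A (N i)]
  [∀ i, Module R (N i)] [∀ i, IsScalarTower A R (N i)] [∀ i, Module.Flat A (N i)]
  (u : ∀ i, M →ₗ[R] N i)

/-- **the graded step**, module version, for a general "residue algebra" `κ` of the ideal `J`. -/
theorem gr_step_mod (Sg : Submonoid A) [hfree : ∀ k : ℕ, Module.Free κ (κ ⊗[A] ↥(J ^ k))]
    (hker : ∀ (Y : Type u) [AddCommGroup Y] [Module A Y] (y : Y), (1 : κ) ⊗ₜ[A] y = 0 →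
      ∃ s ∈ Sg, s • y ∈ J • (⊤ : Submodule A Y))
    (hκ : WeakSep A κ u)
    (h : R) (x : M) (hx : ∀ i, ∃ n : ℕ, u i (h ^ n • x) = 0) (k : ℕ)
    (hxk : x ∈ (J ^ k) • (⊤ : Submodule A M)) :
    ∃ (s : A) (a : ℕ), s ∈ Sg ∧ s • (h ^ a • x) ∈ (J ^ (k + 1)) • (⊤ : Submodule A M) := by
  classical
  rw [← range_theta] at hxk
  obtain ⟨ρ, hρ⟩ := hxk
  have hμ : ∀ (r : R) (w : (J ^ k : Ideal A) ⊗[A] M),
      theta (J ^ k) M ((smulA A M r).lTensor (J ^ k : Ideal A) w) =
        r • theta (J ^ k) M w := fun r w => by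
    rw [theta_lTensor]
    rfl
  have h1 : ∀ i, ∃ n : ℕ, ((u i).restrictScalars A).lTensor (J ^ k : Ideal A)
      ((smulA A M (h ^ n)).lTensor (J ^ k : Ideal A) ρ) = 0 := by
    intro i
    obtain ⟨n, hn⟩ := hx i
    refine ⟨n, theta_injective_of_flat (J ^ k) (N i) ?_⟩
    rw [map_zero, theta_lTensor, hμ, hρ]
    exact hn
  have hcomm : ∀ (j : Module.Free.ChooseBasisIndex κ (κ ⊗[A] (J ^ k : Ideal A))) (r : R)
      (w : (J ^ k : Ideal A) ⊗[A] M),
      (coord (A := A) (κ := κ) (W := κ ⊗[A] (J ^ k : Ideal A)) j).rTensor M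
        ((TensorProduct.mk A κ (J ^ k : Ideal A) 1).rTensor M
          ((smulA A M r).lTensor (J ^ k : Ideal A) w)) =
      (smulA A M r).lTensor κ
        ((coord (A := A) (κ := κ) (W := κ ⊗[A] (J ^ k : Ideal A)) j).rTensor M
          ((TensorProduct.mk A κ (J ^ k : Ideal A) 1).rTensor M w)) := by
    intro j r w
    induction w using TensorProduct.induction_on with
    | zero => simp
    | tmul a r' => simp
    | add a b ha hb => simp only [map_add, ha, hb]
  have h2 : ∀ (j : Module.Free.ChooseBasisIndex κ (κ ⊗[A] (J ^ k : Ideal A))) (i : ι), ∃ n : ℕ,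
      ((u i).restrictScalars A).lTensor κ ((smulA A M (h ^ n)).lTensor κ
          (coords (A := A) (κ := κ) (W := κ ⊗[A] (J ^ k : Ideal A)) M
            ((TensorProduct.mk A κ (J ^ k : Ideal A) 1).rTensor M ρ) j)) = 0 := by
    intro j i
    obtain ⟨n, hn⟩ := h1 i
    refine ⟨n, ?_⟩
    rw [coords_apply, ← hcomm]
    have e3 : ∀ w : (J ^ k : Ideal A) ⊗[A] M, ((u i).restrictScalars A).lTensor κ
        ((coord (A := A) (κ := κ) (W := κ ⊗[A] (J ^ k : Ideal A)) j).rTensor M
          ((TensorProduct.mk A κ (J ^ k : Ideal A) 1).rTensor M w)) =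
        (coord (A := A) (κ := κ) (W := κ ⊗[A] (J ^ k : Ideal A)) j).rTensor (N i)
          ((TensorProduct.mk A κ (J ^ k : Ideal A) 1).rTensor (N i)
            (((u i).restrictScalars A).lTensor (J ^ k : Ideal A) w)) := by
      intro w
      induction w using TensorProduct.induction_on with
      | zero => simp
      | tmul a r' => simp
      | add a b ha hb => simp only [map_add, ha, hb]
    rw [e3, hn, map_zero, map_zero]
  have h3 : ∀ j, ∃ n : ℕ, (smulA A M (h ^ n)).lTensor κ
      (coords (A := A) (κ := κ) (W := κ ⊗[A] (J ^ k : Ideal A)) M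
        ((TensorProduct.mk A κ (J ^ k : Ideal A) 1).rTensor M ρ) j) = 0 :=
    fun j => hκ _ _ (h2 j)
  choose Nn hN using h3
  set F := coords (A := A) (κ := κ) (W := κ ⊗[A] (J ^ k : Ideal A)) M
    ((TensorProduct.mk A κ (J ^ k : Ideal A) 1).rTensor M ρ) with hF
  have hadd : ∀ (a b : ℕ) (w : κ ⊗[A] M), (smulA A M (h ^ (a + b))).lTensor κ w =
      (smulA A M (h ^ a)).lTensor κ ((smulA A M (h ^ b)).lTensor κ w) := by
    intro a b w
    induction w using TensorProduct.induction_on with
    | zero => simp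
    | tmul c m => simp [pow_add, mul_smul]
    | add x y hx hy => simp only [map_add, hx, hy]
  have h4 : ∀ j, (smulA A M (h ^ (F.support.sup Nn))).lTensor κ (F j) = 0 := by
    intro j
    by_cases hj : j ∈ F.support
    · have hle : Nn j ≤ F.support.sup Nn := Finset.le_sup hj
      rw [← Nat.sub_add_cancel hle, hadd, hN j, map_zero]
    · rw [Finsupp.notMem_support_iff.mp hj, map_zero]
  have h5 : (TensorProduct.mk A κ (J ^ k : Ideal A) 1).rTensor M
      ((smulA A M (h ^ (F.support.sup Nn))).lTensor (J ^ k : Ideal A) ρ) = 0 := by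
    apply coords_injective (A := A) (κ := κ) (W := κ ⊗[A] (J ^ k : Ideal A)) M
    rw [map_zero]
    apply Finsupp.ext
    intro j
    rw [coords_apply, Finsupp.zero_apply, hcomm, ← coords_apply]
    exact h4 j
  have h6 : (1 : κ) ⊗ₜ[A]
      ((smulA A M (h ^ (F.support.sup Nn))).lTensor (J ^ k : Ideal A) ρ) = 0 := by
    have hassoc : ∀ w : (J ^ k : Ideal A) ⊗[A] M,
        TensorProduct.assoc A κ (J ^ k : Ideal A) M
          ((TensorProduct.mk A κ (J ^ k : Ideal A) 1).rTensor M w) =
        (1 : κ) ⊗ₜ[A] w := by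
      intro w
      induction w using TensorProduct.induction_on with
      | zero => simp
      | tmul a r' => rfl
      | add a b ha hb => rw [map_add, map_add, ha, hb, TensorProduct.tmul_add]
    rw [← hassoc, h5, map_zero]
  obtain ⟨s, hs, hsρ⟩ := hker _ _ h6
  refine ⟨s, F.support.sup Nn, hs, ?_⟩
  have h7 : theta (J ^ k) M (s • (smulA A M (h ^ (F.support.sup Nn))).lTensor
      (J ^ k : Ideal A) ρ) = s • (h ^ (F.support.sup Nn) • x) := by
    rw [map_smul, hμ, hρ]
  rw [← h7]
  have h8 := Submodule.mem_map_of_mem (f := theta (J ^ k) M) hsρ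
  rw [Submodule.map_smul'', Submodule.map_top, range_theta, ← Submodule.mul_smul, ← pow_succ'] at h8
  exact h8

end G


section K
variable {A : Type u} [CommRing A] {R : Type u} [CommRing R] [Algebra A R] [IsNoetherianRing R]
  {M : Type u} [AddCommGroup M] [Module A M] [Module R M] [IsScalarTower A R M]
  [Module.Finite R M]

/-- Krull intersection step, module version. -/
theorem exists_notMem_smul_eq_zero (𝔭 : Ideal A) [𝔭.IsPrime] (q : Ideal R) [q.IsPrime]
    (hq : q.comap (algebraMap A R) = 𝔭) (h : R) (x : M) (hh : h ∉ q)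
    (H : ∀ k : ℕ, ∃ (s : A) (a : ℕ), s ∉ 𝔭 ∧
      s • (h ^ a • x) ∈ (𝔭 ^ k) • (⊤ : Submodule A M)) :
    ∃ t : R, t ∉ q ∧ t • x = 0 := by
  have hx0 : LocalizedModule.mkLinearMap q.primeCompl M x = 0 := by
    have hmem : ∀ k, LocalizedModule.mkLinearMap q.primeCompl M x ∈
        (IsLocalRing.maximalIdeal (Localization.AtPrime q)) ^ k •
          (⊤ : Submodule (Localization.AtPrime q) (LocalizedModule q.primeCompl M)) := by
      intro k
      obtain ⟨s, a, hs, hmem⟩ := H k
      have h1 : ∀ y ∈ (𝔭 ^ k) • (⊤ : Submodule A M),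
          LocalizedModule.mkLinearMap q.primeCompl M y ∈
          (IsLocalRing.maximalIdeal (Localization.AtPrime q)) ^ k •
            (⊤ : Submodule (Localization.AtPrime q) (LocalizedModule q.primeCompl M)) := by
        intro y hy
        refine Submodule.smul_induction_on hy (fun c hc m _ => ?_)
          (fun y z hy hz => by rw [map_add]; exact Submodule.add_mem _ hy hz)
        have e1 : LocalizedModule.mkLinearMap q.primeCompl M (c • m) =
            (algebraMap R (Localization.AtPrime q) (algebraMap A R c)) •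
              LocalizedModule.mkLinearMap q.primeCompl M m := by
          rw [← algebraMap_smul R c m, map_smul]
          exact (algebraMap_smul (Localization.AtPrime q) _ _).symm
        rw [e1]
        refine Submodule.smul_mem_smul ?_ Submodule.mem_top
        have hcq : algebraMap A R c ∈ q ^ k := by
          have hle : 𝔭 ^ k ≤ (q ^ k).comap (algebraMap A R) := by
            rw [← hq]
            exact Ideal.le_comap_pow _ _
          exact hle hc
        have h2 : Ideal.map (algebraMap R (Localization.AtPrime q)) (q ^ k) =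
            (IsLocalRing.maximalIdeal (Localization.AtPrime q)) ^ k := by
          rw [Ideal.map_pow, Localization.AtPrime.map_eq_maximalIdeal]
        rw [← h2]
        exact Ideal.mem_map_of_mem _ hcq
      have h2 := h1 _ hmem
      have e2 : LocalizedModule.mkLinearMap q.primeCompl M (s • (h ^ a • x)) =
          (algebraMap R (Localization.AtPrime q) (algebraMap A R s) *
            algebraMap R (Localization.AtPrime q) h ^ a) •
              LocalizedModule.mkLinearMap q.primeCompl M x := by
        rw [← algebraMap_smul R s (h ^ a • x), map_smul, map_smul, mul_smul, ← map_pow,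
          algebraMap_smul (Localization.AtPrime q), algebraMap_smul (Localization.AtPrime q)]
      rw [e2] at h2
      have hu1 : IsUnit (algebraMap R (Localization.AtPrime q) (algebraMap A R s)) :=
        IsLocalization.map_units (Localization.AtPrime q)
          (⟨algebraMap A R s, fun hsq => hs (hq ▸ (Ideal.mem_comap.mpr hsq))⟩ : q.primeCompl)
      have hu2 : IsUnit (algebraMap R (Localization.AtPrime q) h) :=
        IsLocalization.map_units (Localization.AtPrime q) (⟨h, hh⟩ : q.primeCompl)
      obtain ⟨w, hw⟩ := hu1.mul (hu2.pow a)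
      have h3 := Submodule.smul_mem _ (↑w⁻¹ : Localization.AtPrime q) h2
      rw [← hw, smul_smul, Units.inv_mul, one_smul] at h3
      exact h3
    have h3 : LocalizedModule.mkLinearMap q.primeCompl M x ∈
        ⨅ k : ℕ, (IsLocalRing.maximalIdeal (Localization.AtPrime q)) ^ k •
          (⊤ : Submodule (Localization.AtPrime q) (LocalizedModule q.primeCompl M)) := by
      rw [Submodule.mem_iInf]
      exact hmem
    rw [Ideal.iInf_pow_smul_eq_bot_of_isLocalRing _ (Ideal.IsMaximal.ne_top inferInstance)] at h3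
    exact h3
  obtain ⟨⟨t, ht⟩, htx⟩ := (IsLocalizedModule.eq_zero_iff q.primeCompl
    (LocalizedModule.mkLinearMap q.primeCompl M)).mp hx0
  exact ⟨t, ht, htx⟩

end K

section N
variable {A R : Type u} [CommRing A] [CommRing R] [Algebra A R] [IsNoetherianRing R]
  {M : Type u} [AddCommGroup M] [Module A M] [Module R M] [IsScalarTower A R M]
  [Module.Finite R M]
  {ι : Type*} {N : ι → Type u} [∀ i, AddCommGroup (N i)] [∀ i, Module A (N i)]
  [∀ i, Module R (N i)] [∀ i, IsScalarTower A R (N i)] [∀ i, Module.Flat A (N i)]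
  (u : ∀ i, M →ₗ[R] N i)

/-- **Theorem N**, module version: fibrewise locally separating implies locally separating
(Noetherian ring, finite source module, flat targets). -/
theorem locSepMaps_of_fibrewise
    (hfib : ∀ (𝔭 : Ideal A) [𝔭.IsPrime], WeakSep A 𝔭.ResidueField u) : LocSepMaps u := by
  intro h e he
  by_contra hcon
  push Not at hcon
  let 𝔞 : Ideal R :=
    { carrier := {r | ∃ n : ℕ, (h ^ n * r) • e = 0}
      add_mem' := by
        rintro r r' ⟨n, hn⟩ ⟨m, hm⟩
        refine ⟨n + m, ?_⟩
        have e1 : (h ^ (n + m) * (r + r')) • e =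
            h ^ m • ((h ^ n * r) • e) + h ^ n • ((h ^ m * r') • e) := by
          rw [smul_smul, smul_smul, ← add_smul]
          congr 1
          ring
        rw [e1, hn, hm, smul_zero, smul_zero, add_zero]
      zero_mem' := ⟨0, by simp⟩
      smul_mem' := by
        rintro c r ⟨n, hn⟩
        refine ⟨n, ?_⟩
        have e1 : (h ^ n * (c • r)) • e = c • ((h ^ n * r) • e) := by
          rw [smul_eq_mul, smul_smul]
          congr 1
          ring
        rw [e1, hn, smul_zero] }
  have hdisj : Disjoint (𝔞 : Set R) (Submonoid.powers h) := by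
    rw [Set.disjoint_left]
    rintro r ⟨n, hn⟩ ⟨m, rfl⟩
    exact hcon (n + m) (by rw [pow_add]; exact hn)
  obtain ⟨q, hqp, h𝔞q, hqdisj⟩ := Ideal.exists_le_prime_disjoint 𝔞 (Submonoid.powers h) hdisj
  haveI := hqp
  have hhq : h ∉ q := fun hh => Set.disjoint_left.mp hqdisj hh (Submonoid.mem_powers h)
  have key : ∀ k : ℕ, ∃ (s : A) (a : ℕ), s ∉ q.comap (algebraMap A R) ∧
      s • (h ^ a • e) ∈ ((q.comap (algebraMap A R)) ^ k) • (⊤ : Submodule A M) := by
    intro k
    induction k with
    | zero =>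
      refine ⟨1, 0, fun h1 => ?_, ?_⟩
      · exact (Ideal.IsPrime.ne_top inferInstance) ((Ideal.eq_top_iff_one _).mpr h1)
      · rw [pow_zero, Ideal.one_eq_top, Submodule.top_smul]
        exact Submodule.mem_top
    | succ k ih =>
      obtain ⟨s, a, hs, hmem⟩ := ih
      obtain ⟨s', a', hs', hmem'⟩ := gr_step_mod (q.comap (algebraMap A R))
        (q.comap (algebraMap A R)).ResidueField u (q.comap (algebraMap A R)).primeCompl
        (fun Y _ _ y hy => by
          obtain ⟨s, hs, hsy⟩ := exists_smul_mem_of_tmul_eq_zero (q.comap (algebraMap A R)) y hy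
          exact ⟨s, hs, hsy⟩)
        (hfib (q.comap (algebraMap A R))) h (s • (h ^ a • e)) (fun i => by
          obtain ⟨n, hn⟩ := he i
          refine ⟨n, ?_⟩
          have e1 : h ^ n • s • (h ^ a • e) = s • (h ^ a • (h ^ n • e)) := by
            rw [smul_comm (h ^ n) s, smul_comm (h ^ n) (h ^ a)]
          rw [e1, ← algebraMap_smul R s, map_smul, map_smul, map_smul, hn, smul_zero, smul_zero])
        k hmem
      refine ⟨s' * s, a' + a, ?_, ?_⟩
      · exact (q.comap (algebraMap A R)).primeCompl.mul_mem hs' hs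
      · have e2 : (s' * s) • (h ^ (a' + a) • e) = s' • (h ^ a' • s • (h ^ a • e)) := by
          rw [mul_smul, pow_add, mul_smul, smul_comm (h ^ a') s]
        rw [e2]
        exact hmem'
  obtain ⟨t, htq, hte⟩ := exists_notMem_smul_eq_zero (q.comap (algebraMap A R)) q rfl h e hhq key
  exact htq (h𝔞q ⟨0, by simpa using hte⟩)

end N

section nilp
variable {A : Type u} [CommRing A] (J : Ideal A)
  {R : Type u} [CommRing R] [Algebra A R]
  {M : Type u} [AddCommGroup M] [Module A M] [Module R M] [IsScalarTower A R M]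
  {ι : Type*} {N : ι → Type u} [∀ i, AddCommGroup (N i)] [∀ i, Module A (N i)]
  [∀ i, Module R (N i)] [∀ i, IsScalarTower A R (N i)] [∀ i, Module.Flat A (N i)]
  (u : ∀ i, M →ₗ[R] N i)

theorem mem_smul_top_of_tmul_eq_zero {Y : Type*} [AddCommGroup Y] [Module A Y] (y : Y)
    (hy : (1 : A ⧸ J) ⊗ₜ[A] y = 0) : y ∈ J • (⊤ : Submodule A Y) := by
  have h3 := congrArg (TensorProduct.quotTensorEquivQuotSMul Y J) hy
  rw [map_zero, show (1 : A ⧸ J) = Ideal.Quotient.mk J 1 from rfl,
    TensorProduct.quotTensorEquivQuotSMul_mk_tmul, one_smul, Submodule.Quotient.mk_eq_zero] at h3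
  exact h3

/-- nilpotent dévissage: if `J` is nilpotent with free graded pieces and the family is locally
separating modulo `J`, it is locally separating. -/
theorem locSepMaps_of_nilpotent (hJ : IsNilpotent J)
    (hfree : ∀ k : ℕ, Module.Free (A ⧸ J) ((A ⧸ J) ⊗[A] ↥(J ^ k)))
    (hκ : WeakSep A (A ⧸ J) u) : LocSepMaps u := by
  intro h e he
  obtain ⟨K, hK⟩ := hJ
  have key : ∀ k : ℕ, ∃ a : ℕ, h ^ a • e ∈ (J ^ k) • (⊤ : Submodule A M) := by
    intro k
    induction k with
    | zero =>
      refine ⟨0, ?_⟩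
      rw [pow_zero, Ideal.one_eq_top, Submodule.top_smul]
      exact Submodule.mem_top
    | succ k ih =>
      obtain ⟨a, hmem⟩ := ih
      obtain ⟨s', a', hs', hmem'⟩ := gr_step_mod J (A ⧸ J) u (⊥ : Submonoid A)
        (fun Y _ _ y hy => ⟨1, Submonoid.one_mem _, by
          rw [one_smul]
          exact mem_smul_top_of_tmul_eq_zero J y hy⟩)
        hκ h (h ^ a • e) (fun i => by
          obtain ⟨n, hn⟩ := he i
          refine ⟨n, ?_⟩
          rw [smul_comm (h ^ n) (h ^ a), map_smul, map_smul, hn, smul_zero]) k hmem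
      rw [Submonoid.mem_bot] at hs'
      refine ⟨a' + a, ?_⟩
      rw [hs', one_smul] at hmem'
      have e3 : h ^ (a' + a) • e = h ^ a' • h ^ a • e := by rw [pow_add, mul_smul]
      rw [e3]
      exact hmem'
  obtain ⟨a, ha⟩ := key K
  rw [hK, Submodule.zero_eq_bot, Submodule.bot_smul, Submodule.mem_bot] at ha
  exact ⟨a, ha⟩

end nilp


section BC
variable {A : Type u} [CommRing A] {R : Type u} [CommRing R] [Algebra A R]
  {M : Type u} [AddCommGroup M] [Module A M] [Module R M] [IsScalarTower A R M]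
  {ι : Type*} {N : ι → Type u} [∀ i, AddCommGroup (N i)] [∀ i, Module A (N i)]
  [∀ i, Module R (N i)] [∀ i, IsScalarTower A R (N i)]
  (u : ∀ i, M →ₗ[R] N i)

/-- the family base-changed to the `R`-algebra `R'` is locally separating. -/
def BCSep (R' : Type u) [CommRing R'] [Algebra R R'] : Prop :=
  LocSepMaps (A := R') (fun i => (u i).baseChange R')

omit [Algebra A R] [Module A M] [IsScalarTower A R M] [∀ i, Module A (N i)]
  [∀ i, IsScalarTower A R (N i)] in
/-- invariance under isomorphisms of `R`-algebras. -/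
theorem BCSep.of_algEquiv {R' R'' : Type u} [CommRing R'] [Algebra R R'] [CommRing R'']
    [Algebra R R''] (e : R' ≃ₐ[R] R'') (h : BCSep u R') : BCSep u R'' := by
  intro g y hy
  have hsemi : ∀ (X : Type u) [AddCommGroup X] [Module R X] (b : R'') (z : R'' ⊗[R] X),
      (TensorProduct.congr e.symm.toLinearEquiv (LinearEquiv.refl R X)) (b • z) =
        e.symm b • (TensorProduct.congr e.symm.toLinearEquiv (LinearEquiv.refl R X)) z := by
    intro X _ _ b z
    induction z using TensorProduct.induction_on with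
    | zero => simp
    | tmul c x =>
      rw [TensorProduct.smul_tmul', TensorProduct.congr_tmul, TensorProduct.congr_tmul,
        TensorProduct.smul_tmul', smul_eq_mul, smul_eq_mul]
      congr 1
      exact map_mul e.symm b c
    | add a b ha hb => simp only [smul_add, map_add, ha, hb]
  have hnat : ∀ i (z : R'' ⊗[R] M),
      (TensorProduct.congr e.symm.toLinearEquiv (LinearEquiv.refl R (N i)))
        ((u i).baseChange R'' z) =
      (u i).baseChange R' ((TensorProduct.congr e.symm.toLinearEquiv (LinearEquiv.refl R M)) z) := by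
    intro i z
    induction z using TensorProduct.induction_on with
    | zero => simp
    | tmul c x => simp
    | add a b ha hb => simp only [map_add, ha, hb]
  obtain ⟨n, hn⟩ := h (e.symm g)
    ((TensorProduct.congr e.symm.toLinearEquiv (LinearEquiv.refl R M)) y) (fun i => by
      obtain ⟨n, hn⟩ := hy i
      refine ⟨n, ?_⟩
      change (e.symm g) ^ n • (u i).baseChange R' _ = 0
      rw [← hnat, ← map_pow, ← hsemi]
      have hn' : g ^ n • (u i).baseChange R'' y = 0 := hn
      rw [hn', map_zero])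
  refine ⟨n, ?_⟩
  rw [← map_pow, ← hsemi] at hn
  exact (LinearEquiv.map_eq_zero_iff _).mp hn

omit [Algebra A R] [Module A M] [IsScalarTower A R M] [∀ i, Module A (N i)]
  [∀ i, IsScalarTower A R (N i)] in
/-- transitivity of base change. -/
theorem BCSep.trans {R₁ R₂ : Type u} [CommRing R₁] [Algebra R R₁] [CommRing R₂]
    [Algebra R₁ R₂] [Algebra R R₂] [IsScalarTower R R₁ R₂] (h : BCSep u R₂) :
    BCSep (R := R₁) (fun i => (u i).baseChange R₁) R₂ := by
  intro g y hy
  have hnat : ∀ i (z : R₂ ⊗[R₁] (R₁ ⊗[R] M)),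
      (TensorProduct.AlgebraTensorModule.cancelBaseChange R R₁ R₂ R₂ (N i))
        (((u i).baseChange R₁).baseChange R₂ z) =
      (u i).baseChange R₂
        ((TensorProduct.AlgebraTensorModule.cancelBaseChange R R₁ R₂ R₂ M) z) := by
    intro i z
    induction z using TensorProduct.induction_on with
    | zero => simp
    | tmul c x =>
      induction x using TensorProduct.induction_on with
      | zero => simp
      | tmul b m => simp
      | add a b ha hb =>
        rw [TensorProduct.tmul_add, map_add, map_add, ha, hb, map_add, map_add]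
    | add a b ha hb => simp only [map_add, ha, hb]
  obtain ⟨n, hn⟩ := h g
    ((TensorProduct.AlgebraTensorModule.cancelBaseChange R R₁ R₂ R₂ M) y) (fun i => by
      obtain ⟨n, hn⟩ := hy i
      refine ⟨n, ?_⟩
      change g ^ n • (u i).baseChange R₂ _ = 0
      rw [← hnat, ← map_smul]
      have hn' : g ^ n • ((u i).baseChange R₁).baseChange R₂ y = 0 := hn
      rw [hn', map_zero])
  refine ⟨n, ?_⟩
  rw [← map_smul] at hn
  exact (LinearEquiv.map_eq_zero_iff _).mp hn

/-- local separation of the base change to a pushout of `κ` gives the weak fibre condition. -/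
theorem weakSep_of_bcSep (κ : Type u) [CommRing κ] [Algebra A κ] (Rκ : Type u) [CommRing Rκ]
    [Algebra R Rκ] [Algebra κ Rκ] [Algebra A Rκ] [IsScalarTower A R Rκ] [IsScalarTower A κ Rκ]
    [Algebra.IsPushout A κ R Rκ] (h : BCSep u Rκ) : WeakSep A κ u := by
  have hA1 : ∀ (r : R) (y : κ ⊗[A] M),
      (Algebra.IsPushout.cancelBaseChange A κ R Rκ M).symm ((smulA A M r).lTensor κ y) =
        algebraMap R Rκ r • (Algebra.IsPushout.cancelBaseChange A κ R Rκ M).symm y := by
    intro r y
    induction y using TensorProduct.induction_on with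
    | zero => simp
    | tmul c m =>
      rw [LinearMap.lTensor_tmul, smulA_apply, Algebra.IsPushout.cancelBaseChange_symm_tmul,
        Algebra.IsPushout.cancelBaseChange_symm_tmul, TensorProduct.smul_tmul', smul_eq_mul,
        TensorProduct.tmul_smul, TensorProduct.smul_tmul', Algebra.smul_def]
    | add a b ha hb => simp only [map_add, smul_add, ha, hb]
  have hA2 : ∀ i (y : κ ⊗[A] M),
      (Algebra.IsPushout.cancelBaseChange A κ R Rκ (N i)).symm
        (((u i).restrictScalars A).lTensor κ y) =
      (u i).baseChange Rκ ((Algebra.IsPushout.cancelBaseChange A κ R Rκ M).symm y) := by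
    intro i y
    induction y using TensorProduct.induction_on with
    | zero => simp
    | tmul c m => simp
    | add a b ha hb => simp only [map_add, ha, hb]
  intro h₀ y hy
  obtain ⟨n, hn⟩ := h (algebraMap R Rκ h₀)
    ((Algebra.IsPushout.cancelBaseChange A κ R Rκ M).symm y) (fun i => by
      obtain ⟨n, hn⟩ := hy i
      refine ⟨n, ?_⟩
      change (algebraMap R Rκ h₀) ^ n • (u i).baseChange Rκ _ = 0
      rw [← map_smul, ← map_pow, ← hA1, ← hA2, hn, map_zero])
  refine ⟨n, ?_⟩
  rw [← map_pow, ← hA1] at hn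
  exact (LinearEquiv.map_eq_zero_iff _).mp hn

end BC


section U
attribute [local instance] Algebra.TensorProduct.rightAlgebra

variable {A R : Type u} [CommRing A] [CommRing R] [Algebra A R] [IsNoetherianRing R]
  {M : Type u} [AddCommGroup M] [Module A M] [Module R M] [IsScalarTower A R M]
  [Module.Finite R M]
  {ι : Type*} {N : ι → Type u} [∀ i, AddCommGroup (N i)] [∀ i, Module A (N i)]
  [∀ i, Module R (N i)] [∀ i, IsScalarTower A R (N i)] [∀ i, Module.Flat A (N i)]
  (u : ∀ i, M →ₗ[R] N i)

omit [Module A M] [IsScalarTower A R M] in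
/-- finite type base change (concrete model `A₁ ⊗[A] R`). -/
theorem bcSep_of_finiteType
    (hfib : ∀ (L : Type u) [Field L] [Algebra A L], BCSep u (L ⊗[A] R))
    (A₁ : Type u) [CommRing A₁] [Algebra A A₁] [Algebra.FiniteType A A₁] :
    BCSep u (A₁ ⊗[A] R) := by
  haveI : IsNoetherianRing (R ⊗[A] A₁) := Algebra.FiniteType.isNoetherianRing R _
  haveI : IsNoetherianRing (A₁ ⊗[A] R) :=
    isNoetherianRing_of_ringEquiv _ (Algebra.TensorProduct.comm A R A₁).toRingEquiv
  haveI : ∀ i, Module.Flat A₁ ((A₁ ⊗[A] R) ⊗[R] N i) := fun i =>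
    Module.Flat.of_linearEquiv
      (Algebra.IsPushout.cancelBaseChange A A₁ R (A₁ ⊗[A] R) (N i))
  refine locSepMaps_of_fibrewise (A := A₁) (R := A₁ ⊗[A] R) (M := (A₁ ⊗[A] R) ⊗[R] M)
    (N := fun i => (A₁ ⊗[A] R) ⊗[R] N i) (fun i => (u i).baseChange (A₁ ⊗[A] R))
    (fun 𝔭₁ _ => ?_)
  refine weakSep_of_bcSep (A := A₁) (R := A₁ ⊗[A] R) (fun i => (u i).baseChange (A₁ ⊗[A] R))
    𝔭₁.ResidueField (𝔭₁.ResidueField ⊗[A₁] (A₁ ⊗[A] R)) ?_
  letI : Algebra R (𝔭₁.ResidueField ⊗[A₁] (A₁ ⊗[A] R)) :=
    ((algebraMap (A₁ ⊗[A] R) (𝔭₁.ResidueField ⊗[A₁] (A₁ ⊗[A] R))).comp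
      (algebraMap R (A₁ ⊗[A] R))).toAlgebra
  haveI : IsScalarTower R (A₁ ⊗[A] R) (𝔭₁.ResidueField ⊗[A₁] (A₁ ⊗[A] R)) :=
    IsScalarTower.of_algebraMap_eq (fun _ => rfl)
  refine BCSep.trans u (R₁ := A₁ ⊗[A] R) (R₂ := 𝔭₁.ResidueField ⊗[A₁] (A₁ ⊗[A] R)) ?_
  refine BCSep.of_algEquiv u (R' := 𝔭₁.ResidueField ⊗[A] R)
    (AlgEquiv.ofRingEquiv
      (f := (Algebra.TensorProduct.cancelBaseChange A A₁ 𝔭₁.ResidueField 𝔭₁.ResidueField
        R).symm.toRingEquiv) (fun r => ?_)) (hfib 𝔭₁.ResidueField)
  change (Algebra.TensorProduct.cancelBaseChange A A₁ 𝔭₁.ResidueField 𝔭₁.ResidueField R).symm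
    ((1 : 𝔭₁.ResidueField) ⊗ₜ[A] r) = (1 : 𝔭₁.ResidueField) ⊗ₜ[A₁] ((1 : A₁) ⊗ₜ[A] r)
  simp

end U

section transfer
attribute [local instance] Algebra.TensorProduct.rightAlgebra

variable {A R : Type u} [CommRing A] [CommRing R] [Algebra A R]
  {B B' : Type u} [CommRing B] [CommRing B'] [Algebra A B] [Algebra A B'] (f : B →ₐ[A] B')

variable (R) in
/-- the map of models `B ⊗[A] R → B' ⊗[A] R` induced by `f : B → B'`, as a map of `R`-algebras. -/
def rho : B ⊗[A] R →ₐ[R] B' ⊗[A] R :=
  { toRingHom := (Algebra.TensorProduct.map f (AlgHom.id A R)).toRingHom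
    commutes' := fun r => by
      change (Algebra.TensorProduct.map f (AlgHom.id A R)) ((1 : B) ⊗ₜ[A] r) =
        (1 : B') ⊗ₜ[A] r
      simp }

theorem rho_apply (w : B ⊗[A] R) :
    rho R f w = (Algebra.TensorProduct.map f (AlgHom.id A R)) w := rfl

theorem rho_psi_symm (X : Type u) [AddCommGroup X] [Module A X] [Module R X]
    [IsScalarTower A R X] (w : B ⊗[A] X) :
    (rho R f).toLinearMap.rTensor X
      ((Algebra.IsPushout.cancelBaseChange A B R (B ⊗[A] R) X).symm w) =
      (Algebra.IsPushout.cancelBaseChange A B' R (B' ⊗[A] R) X).symm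
        (f.toLinearMap.rTensor X w) := by
  induction w using TensorProduct.induction_on with
  | zero => simp
  | tmul a x =>
    rw [Algebra.IsPushout.cancelBaseChange_symm_tmul, LinearMap.rTensor_tmul,
      LinearMap.rTensor_tmul, Algebra.IsPushout.cancelBaseChange_symm_tmul]
    congr 1
  | add a b ha hb => simp only [map_add, ha, hb]

theorem rho_smul (X : Type u) [AddCommGroup X] [Module R X] (b : B ⊗[A] R)
    (w : (B ⊗[A] R) ⊗[R] X) :
    (rho R f).toLinearMap.rTensor X (b • w) = rho R f b • (rho R f).toLinearMap.rTensor X w := by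
  induction w using TensorProduct.induction_on with
  | zero => simp
  | tmul c x =>
    rw [TensorProduct.smul_tmul', LinearMap.rTensor_tmul, LinearMap.rTensor_tmul,
      TensorProduct.smul_tmul', smul_eq_mul, smul_eq_mul, AlgHom.toLinearMap_apply,
      AlgHom.toLinearMap_apply, map_mul]
  | add a b ha hb => simp only [smul_add, map_add, ha, hb]

theorem rho_baseChange {X Y : Type u} [AddCommGroup X] [Module R X] [AddCommGroup Y] [Module R Y]
    (v : X →ₗ[R] Y) (w : (B ⊗[A] R) ⊗[R] X) :
    (rho R f).toLinearMap.rTensor Y (v.baseChange (B ⊗[A] R) w) =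
      v.baseChange (B' ⊗[A] R) ((rho R f).toLinearMap.rTensor X w) := by
  induction w using TensorProduct.induction_on with
  | zero => simp
  | tmul c x => simp
  | add a b ha hb => simp only [map_add, ha, hb]

theorem rho_injective (hf : Function.Injective f) (X : Type u) [AddCommGroup X] [Module A X]
    [Module R X] [IsScalarTower A R X] [Module.Flat A X] :
    Function.Injective ((rho R f).toLinearMap.rTensor X) := by
  rw [injective_iff_map_eq_zero]
  intro w hw
  have h2 := rho_psi_symm (R := R) f X (Algebra.IsPushout.cancelBaseChange A B R (B ⊗[A] R) X w)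
  rw [LinearEquiv.symm_apply_apply, hw] at h2
  have h3 := (LinearEquiv.map_eq_zero_iff _).mp h2.symm
  have hflat : Function.Injective (f.toLinearMap.rTensor X) :=
    Module.Flat.rTensor_preserves_injective_linearMap (M := X) f.toLinearMap hf
  have h4 := hflat (h3.trans (map_zero _).symm)
  exact (LinearEquiv.map_eq_zero_iff _).mp h4

variable {M : Type u} [AddCommGroup M] [Module A M] [Module R M] [IsScalarTower A R M]
  {ι : Type*} {N : ι → Type u} [∀ i, AddCommGroup (N i)] [∀ i, Module A (N i)]
  [∀ i, Module R (N i)] [∀ i, IsScalarTower A R (N i)] [∀ i, Module.Flat A (N i)]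
  (u : ∀ i, M →ₗ[R] N i)

omit [Module A M] [IsScalarTower A R M] in
/-- local separation ascends along an injective map of base algebras, for elements coming from
the smaller algebra. -/
theorem exists_pow_smul_eq_zero_of_injective (hf : Function.Injective f)
    (h1 : BCSep u (B ⊗[A] R)) (h₁ : B ⊗[A] R) (y₁ : (B ⊗[A] R) ⊗[R] M)
    (hy : ∀ i, ∃ n : ℕ, (rho R f h₁) ^ n •
      (u i).baseChange (B' ⊗[A] R) ((rho R f).toLinearMap.rTensor M y₁) = 0) :
    ∃ n : ℕ, (rho R f h₁) ^ n • (rho R f).toLinearMap.rTensor M y₁ = 0 := by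
  obtain ⟨n, hn⟩ := h1 h₁ y₁ (fun i => by
    obtain ⟨n, hn⟩ := hy i
    refine ⟨n, rho_injective f hf (N i) ?_⟩
    beta_reduce
    rw [map_zero, rho_smul, map_pow, rho_baseChange]
    exact hn)
  refine ⟨n, ?_⟩
  have h5 := congrArg ((rho R f).toLinearMap.rTensor M) hn
  rw [rho_smul, map_pow, map_zero] at h5
  exact h5

end transfer

section U2
attribute [local instance] Algebra.TensorProduct.rightAlgebra

variable {A R : Type u} [CommRing A] [CommRing R] [Algebra A R]
  {M : Type u} [AddCommGroup M] [Module A M] [Module R M] [IsScalarTower A R M]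
  {ι : Type*} {N : ι → Type u} [∀ i, AddCommGroup (N i)] [∀ i, Module A (N i)]
  [∀ i, Module R (N i)] [∀ i, IsScalarTower A R (N i)] [∀ i, Module.Flat A (N i)]
  (u : ∀ i, M →ₗ[R] N i)

/-- reduction to finitely generated subalgebras (EGA IV 11.9.x at ring level): if the family is
locally separating after base change to every finitely generated subalgebra of `A'`, it is so after
base change to `A'`. -/
theorem bcSep_of_forall_fg_subalgebra (A' : Type u) [CommRing A'] [Algebra A A']
    (hfg : ∀ A₁ : Subalgebra A A', A₁.FG → BCSep u (A₁ ⊗[A] R)) : BCSep u (A' ⊗[A] R) := by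
  classical
  intro h y hy
  choose S hS using fun w : A' ⊗[A] R => TensorProduct.exists_finset w
  choose S' hS' using fun w : A' ⊗[A] M => TensorProduct.exists_finset w
  let T : Finset A' := (S h).image Prod.fst ∪
    (S' (Algebra.IsPushout.cancelBaseChange A A' R (A' ⊗[A] R) M y)).image Prod.fst
  let A₁ : Subalgebra A A' := Algebra.adjoin A (T : Set A')
  obtain ⟨h₁, hh₁⟩ : ∃ h₁ : A₁ ⊗[A] R,
      (Algebra.TensorProduct.map A₁.val (AlgHom.id A R)) h₁ = h := by
    rw [hS h]
    have : ∀ p ∈ S h, ∃ w : A₁ ⊗[A] R,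
        (Algebra.TensorProduct.map A₁.val (AlgHom.id A R)) w = p.1 ⊗ₜ[A] p.2 := by
      intro p hp
      have hpT : p.1 ∈ A₁ := Algebra.subset_adjoin (Finset.mem_coe.mpr
        (Finset.mem_union_left _ (Finset.mem_image_of_mem _ hp)))
      exact ⟨(⟨p.1, hpT⟩ : A₁) ⊗ₜ[A] p.2, by simp⟩
    choose! w hw using this
    exact ⟨∑ p ∈ S h, w p, by rw [map_sum]; exact Finset.sum_congr rfl hw⟩
  obtain ⟨z₁, hz₁⟩ : ∃ z₁ : A₁ ⊗[A] M, (A₁.val.toLinearMap.rTensor M) z₁ =
      Algebra.IsPushout.cancelBaseChange A A' R (A' ⊗[A] R) M y := by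
    rw [hS' (Algebra.IsPushout.cancelBaseChange A A' R (A' ⊗[A] R) M y)]
    have : ∀ p ∈ S' (Algebra.IsPushout.cancelBaseChange A A' R (A' ⊗[A] R) M y),
        ∃ w : A₁ ⊗[A] M, (A₁.val.toLinearMap.rTensor M) w = p.1 ⊗ₜ[A] p.2 := by
      intro p hp
      have hpT : p.1 ∈ A₁ := Algebra.subset_adjoin (Finset.mem_coe.mpr
        (Finset.mem_union_right _ (Finset.mem_image_of_mem _ hp)))
      exact ⟨(⟨p.1, hpT⟩ : A₁) ⊗ₜ[A] p.2, by simp⟩
    choose! w hw using this
    exact ⟨∑ p ∈ S' (Algebra.IsPushout.cancelBaseChange A A' R (A' ⊗[A] R) M y), w p, by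
      rw [map_sum]; exact Finset.sum_congr rfl hw⟩
  have h1 := hfg A₁ (Subalgebra.fg_adjoin_finset T)
  have hy₁ : (rho R A₁.val).toLinearMap.rTensor M
      ((Algebra.IsPushout.cancelBaseChange A A₁ R (A₁ ⊗[A] R) M).symm z₁) = y := by
    rw [rho_psi_symm, hz₁, LinearEquiv.symm_apply_apply]
  have hh₁' : rho R A₁.val h₁ = h := hh₁
  have key := exists_pow_smul_eq_zero_of_injective A₁.val u Subtype.val_injective h1 h₁
    ((Algebra.IsPushout.cancelBaseChange A A₁ R (A₁ ⊗[A] R) M).symm z₁)
  rw [hy₁, hh₁'] at key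
  exact key hy

variable [IsNoetherianRing R] [Module.Finite R M]

/-- **Theorem U**, module version (concrete model `A' ⊗[A] R`): if the family is locally separating
after every base change to a field, it is so after every base change. -/
theorem bcSep_baseChange
    (hfib : ∀ (L : Type u) [Field L] [Algebra A L], BCSep u (L ⊗[A] R))
    (A' : Type u) [CommRing A'] [Algebra A A'] : BCSep u (A' ⊗[A] R) := by
  refine bcSep_of_forall_fg_subalgebra u A' (fun A₁ hA₁ => ?_)
  haveI : Algebra.FiniteType A A₁ := (Subalgebra.fg_iff_finiteType _).mp hA₁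
  exact bcSep_of_finiteType u hfib A₁

end U2


section boundary
attribute [local instance] Algebra.TensorProduct.rightAlgebra
open CategoryTheory CategoryTheory.Limits

/-- the concrete model `A' ⊗[A] R` as an `R`-algebra (via the right factor). -/
abbrev modelAlgebra (A R A' : Type u) [CommRing A] [CommRing R] [CommRing A'] [Algebra A R]
    [Algebra A A'] : Algebra R (A' ⊗[A] R) := Algebra.TensorProduct.rightAlgebra

/-- interface with pushout squares of commutative rings: local separation of the base change to a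
pushout `R'` is local separation of the base change to the model `A' ⊗[A] R`. -/
theorem bcSep_iff_of_isPushout {A R A' : Type u} [CommRing A] [CommRing R] [CommRing A']
    [Algebra A R] [Algebra A A'] {R' : CommRingCat.{u}} (α' : CommRingCat.of R ⟶ R')
    (β' : CommRingCat.of A' ⟶ R')
    (H : IsPushout (CommRingCat.ofHom (algebraMap A R)) (CommRingCat.ofHom (algebraMap A A')) α' β')
    {M : Type u} [AddCommGroup M] [Module R M] {ι : Type*} {N : ι → Type u}
    [∀ i, AddCommGroup (N i)] [∀ i, Module R (N i)] (u : ∀ i, M →ₗ[R] N i) :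
    (letI := α'.hom.toAlgebra
     BCSep u R') ↔ BCSep u (A' ⊗[A] R) := by
  letI : Algebra A' R' := β'.hom.toAlgebra
  letI : Algebra R R' := α'.hom.toAlgebra
  letI : Algebra A R' := (β'.hom.comp (algebraMap A A')).toAlgebra
  haveI t1 : IsScalarTower A A' R' := IsScalarTower.of_algebraMap_eq (fun r => rfl)
  haveI t2 : IsScalarTower A R R' := IsScalarTower.of_algebraMap_eq (fun r => by
    have := congrArg (fun φ => φ.hom r) H.w
    exact this.symm)
  have H' : IsPushout (CommRingCat.ofHom (algebraMap A A')) (CommRingCat.ofHom (algebraMap A R))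
      (CommRingCat.ofHom (algebraMap A' R')) (CommRingCat.ofHom (algebraMap R R')) := H.flip
  haveI hpo : Algebra.IsPushout A A' R R' := CommRingCat.isPushout_iff_isPushout.1 H'
  let e : (A' ⊗[A] R) ≃ₐ[R] R' := AlgEquiv.ofRingEquiv
    (f := (Algebra.IsPushout.equiv A A' R R').toRingEquiv) (fun r => by
      change (Algebra.IsPushout.equiv A A' R R') ((1 : A') ⊗ₜ[A] r) = algebraMap R R' r
      rw [Algebra.IsPushout.equiv_tmul, map_one, one_mul])
  exact ⟨fun h => BCSep.of_algEquiv u e.symm h, fun h => BCSep.of_algEquiv u e h⟩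

end boundary


section boundary2
attribute [local instance] Algebra.TensorProduct.rightAlgebra
open CategoryTheory CategoryTheory.Limits

/-- the weak fibre condition from local separation of the base change to a pushout of `κ` in
`CommRingCat`. -/
theorem weakSep_of_bcSep_cat {A R κ : Type u} [CommRing A] [CommRing R] [CommRing κ]
    [Algebra A R] [Algebra A κ] {R' : CommRingCat.{u}} (α' : CommRingCat.of R ⟶ R')
    (β' : CommRingCat.of κ ⟶ R')
    (H : IsPushout (CommRingCat.ofHom (algebraMap A R)) (CommRingCat.ofHom (algebraMap A κ)) α' β')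
    {M : Type u} [AddCommGroup M] [Module A M] [Module R M] [IsScalarTower A R M]
    {ι : Type*} {N : ι → Type u}
    [∀ i, AddCommGroup (N i)] [∀ i, Module A (N i)] [∀ i, Module R (N i)]
    [∀ i, IsScalarTower A R (N i)] (u : ∀ i, M →ₗ[R] N i)
    (h : letI := α'.hom.toAlgebra
      BCSep u R') : WeakSep A κ u :=
  weakSep_of_bcSep u κ (κ ⊗[A] R) ((bcSep_iff_of_isPushout α' β' H u).mp h)

end boundary2

section ringcase
variable {A R : Type u} [CommRing A] [CommRing R] [Algebra A R]
  {ι : Type*} {C : ι → Type u} [∀ i, CommRing (C i)] [∀ i, Algebra A (C i)]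
  [∀ i, Module.Flat A (C i)] (φ : ∀ i, R →ₐ[A] C i)

/-- nilpotent dévissage for families of ring maps. -/
theorem ringLocSep_of_nilpotent (J : Ideal A) (hJ : IsNilpotent J)
    (hfree : ∀ k : ℕ, Module.Free (A ⧸ J) ((A ⧸ J) ⊗[A] ↥(J ^ k)))
    (h0 : RingLocSep (fun i =>
      (Algebra.TensorProduct.map (AlgHom.id A (A ⧸ J)) (φ i)).toRingHom)) :
    RingLocSep (fun i => (φ i).toRingHom) := by
  letI : ∀ i, Algebra R (C i) := fun i => (φ i).toRingHom.toAlgebra
  haveI : ∀ i, IsScalarTower A R (C i) := fun i =>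
    IsScalarTower.of_algebraMap_eq (fun a => ((φ i).commutes a).symm)
  have hw : WeakSep A (A ⧸ J) (fun i => Algebra.linearMap R (C i)) := by
    intro h y hy
    obtain ⟨n, hn⟩ := h0 ((1 : A ⧸ J) ⊗ₜ[A] h) y (fun i => by
      obtain ⟨n, hn⟩ := hy i
      refine ⟨n, ?_⟩
      rw [one_tmul_pow_mul, map_apply_eq_lTensor]
      exact hn)
    refine ⟨n, ?_⟩
    rw [one_tmul_pow_mul] at hn
    exact hn
  have h1 := locSepMaps_of_nilpotent J (fun i => Algebra.linearMap R (C i)) hJ hfree hw
  intro h e he
  obtain ⟨n, hn⟩ := h1 h e (fun i => by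
    obtain ⟨n, hn⟩ := he i
    refine ⟨n, ?_⟩
    have hn' : φ i (h ^ n * e) = 0 := hn
    rw [Algebra.linearMap_apply, Algebra.smul_def]
    change φ i (h ^ n) * φ i e = 0
    rw [← map_mul]
    exact hn')
  exact ⟨n, by rw [smul_eq_mul] at hn; exact hn⟩

end ringcase

end Groth.Agent.Lib.R2H3.FibCritMod
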