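import Mathlib
import Groth.Agent.Lib.R2H3FibCritMod
import Groth.Agent.Lib.R2H3FibCritGeo
import Groth.Agent.Lib.Helper2FlatOver2
import Groth.Agent.Lib.Helper23FinType2
import Groth.Agent.Lib.Helper2PullbackSec

/-!
# Fibrewise criterion for universally separating families of module maps: chart reductions
(EGA IV 11.10.9 / 11.10.10 / 11.9.x; helper3, round 2)
-/

set_option autoImplicit false
set_option linter.style.haveILetI false
universe u
open CategoryTheory CategoryTheory.Limits AlgebraicGeometry TopologicalSpace Opposite TensorProduct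

namespace Groth.Agent.Lib.R2H3.FibCritModGeo

open Groth.Agent.Lib.R2H3.FibCrit Groth.Agent.Lib.R2H3.FibCritMod Groth.Agent.Lib.R2H3.FibCritGeo
open Groth.Agent.Lib.R2H3.SepField Groth.Agent.Lib.R2H3.SepPull Groth.Agent.Lib.R2H3.SepFieldGeo
open Groth.Agent.Lib.R2H3.ConormalH1

section converse
variable {Y : Scheme.{u}} {ι : Type*} (F : Y.Modules) [F.IsQuasicoherent] (G : ι → Y.Modules)
  [∀ i, (G i).IsQuasicoherent] (u : ∀ i, F ⟶ G i)

/-- converse of `locSepMaps_appL`: a family which is locally separating on sections over affine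
opens around every point is separating. -/
theorem separating_of_locSepMaps
    (hloc : ∀ y : Y, ∃ (P : Y.Opens) (_ : IsAffineOpen P), y ∈ P ∧
      LocSepMaps (fun i => appL (u i) P))
    (V : Y.Opens) (t : Γ(F, V)) (ht : ∀ i, (u i).app V t = 0) : t = 0 := by
  refine F.isSheaf.section_ext (U := op V) fun y hy => ?_
  obtain ⟨P, hP, hyP, hsep⟩ := hloc y
  obtain ⟨h, hhle, hyh⟩ := hP.exists_basicOpen_le (V := P ⊓ V) ⟨y, ⟨hyP, hy⟩⟩ hyP
  have hDV : Y.basicOpen h ≤ V := hhle.trans inf_le_right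
  refine ⟨Y.basicOpen h, hDV, hyh, ?_⟩
  rw [map_zero]
  letI := basicModule F h
  letI := fun i => basicModule (G i) h
  have hlocF := isLocalizedModule_basicRes F hP h
  obtain ⟨⟨y₀, ⟨_, k, rfl⟩⟩, hk⟩ := IsLocalizedModule.surj (Submonoid.powers h) (basicRes F h)
    (F.presheaf.map (homOfLE hDV).op t)
  have hk' : h ^ k • F.presheaf.map (homOfLE hDV).op t = basicRes F h y₀ := hk
  have hτ : ∀ i, ∃ n : ℕ, h ^ n • appL (u i) P y₀ = 0 := by
    intro i
    have hlocG := isLocalizedModule_basicRes (G i) hP h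
    have hnat : basicRes (G i) h (appL (u i) P y₀) =
        (u i).app (Y.basicOpen h) (basicRes F h y₀) := by
      have := (Scheme.Modules.Hom.mapPresheaf (u i)).naturality (homOfLE (Y.basicOpen_le h)).op
      exact (congr($this y₀)).symm
    have hres : (u i).app (Y.basicOpen h) (F.presheaf.map (homOfLE hDV).op t) = 0 := by
      have := (Scheme.Modules.Hom.mapPresheaf (u i)).naturality (homOfLE hDV).op
      have h1 : (u i).app (Y.basicOpen h) (F.presheaf.map (homOfLE hDV).op t) =
          (G i).presheaf.map (homOfLE hDV).op ((u i).app V t) := congr($this t)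
      rw [h1, ht i, map_zero]
    have h0 : basicRes (G i) h (appL (u i) P y₀) = 0 := by
      rw [hnat, ← hk', basicModule_smul, Scheme.Modules.Hom.app_smul, hres, smul_zero]
    obtain ⟨⟨_, n, rfl⟩, hn⟩ := (IsLocalizedModule.eq_zero_iff (Submonoid.powers h)
      (basicRes (G i) h)).mp h0
    exact ⟨n, hn⟩
  obtain ⟨n, hn⟩ := hsep h y₀ hτ
  have h0 : basicRes F h y₀ = 0 := (IsLocalizedModule.eq_zero_iff (Submonoid.powers h)
    (basicRes F h)).mpr ⟨⟨h ^ n, n, rfl⟩, hn⟩
  rw [h0] at hk'
  have hu := IsLocalizedModule.map_units (basicRes F h) (⟨h ^ k, k, rfl⟩ : Submonoid.powers h)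
  have hinj := ((Module.End.isUnit_iff _).mp hu).injective
  apply hinj
  rw [map_zero]
  exact hk'

end converse


section transport

theorem LocSepMaps.of_linearEquiv {A : Type*} [CommRing A] {M M' : Type*} [AddCommGroup M]
    [Module A M] [AddCommGroup M'] [Module A M'] {ι : Type*} {N N' : ι → Type*}
    [∀ i, AddCommGroup (N i)] [∀ i, Module A (N i)] [∀ i, AddCommGroup (N' i)]
    [∀ i, Module A (N' i)] (eM : M ≃ₗ[A] M') (eN : ∀ i, N i ≃ₗ[A] N' i)
    {f : ∀ i, M →ₗ[A] N i} {f' : ∀ i, M' →ₗ[A] N' i}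
    (hcomm : ∀ i m, eN i (f i m) = f' i (eM m)) (h : LocSepMaps f) : LocSepMaps f' := by
  intro g m' hm'
  obtain ⟨n, hn⟩ := h g (eM.symm m') (fun i => by
    obtain ⟨n, hn⟩ := hm' i
    refine ⟨n, (eN i).injective ?_⟩
    rw [map_smul, hcomm, LinearEquiv.apply_symm_apply, hn, map_zero])
  refine ⟨n, ?_⟩
  have := congrArg eM hn
  rw [map_smul, LinearEquiv.apply_symm_apply, map_zero] at this
  exact this

variable {X X' : Scheme.{u}} (g : X' ⟶ X) {ι : Type*} (F : X.Modules) [F.IsQuasicoherent]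
  (G : ι → X.Modules) [∀ i, (G i).IsQuasicoherent] (u : ∀ i, F ⟶ G i)
  {U : X.Opens} (hU : IsAffineOpen U) {P : X'.Opens} (hP : IsAffineOpen P) (hle : P ≤ g ⁻¹ᵁ U)
  [Algebra Γ(X, U) Γ(X', P)] (halg : algebraMap Γ(X, U) Γ(X', P) = (g.appLE U P hle).hom)

include hU hP halg in
/-- chart dictionary: local separation of the pulled-back family on sections over `P` is local
separation of the base-changed family of section modules. -/
theorem locSepMaps_pullback_iff :
    LocSepMaps (fun i => appL ((Scheme.Modules.pullback g).map (u i)) P) ↔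
      BCSep (fun i => appL (u i) U) Γ(X', P) := by
  obtain ⟨e, he⟩ := Groth.Agent.Helper18OmLS.exists_pullback_equiv g F hle hU hP halg
  choose ei hei using fun i =>
    Groth.Agent.Helper18OmLS.exists_pullback_equiv g (G i) hle hU hP halg
  have hcomm : ∀ i (t : Γ(X', P) ⊗[Γ(X, U)] Γ(F, U)),
      ei i ((appL (u i) U).baseChange Γ(X', P) t) =
        appL ((Scheme.Modules.pullback g).map (u i)) P (e t) := by
    intro i t
    induction t using TensorProduct.induction_on with
    | zero => simp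
    | tmul b m =>
      rw [LinearMap.baseChange_tmul, hei, he, map_smul, appL_apply, appL_apply, map_unitSec]
    | add x y hx hy => rw [map_add, map_add, hx, hy, map_add, map_add]
  constructor
  · intro h
    refine LocSepMaps.of_linearEquiv e.symm (fun i => (ei i).symm) (fun i m => ?_) h
    rw [LinearEquiv.symm_apply_eq, hcomm, LinearEquiv.apply_symm_apply]
  · intro h
    exact LocSepMaps.of_linearEquiv e ei hcomm h

end transport


section natiso

/-- the property of being separating is invariant under natural isomorphisms of functors. -/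
theorem separating_of_natIso {X Y : Scheme.{u}} {Φ Ψ : X.Modules ⥤ Y.Modules} (α : Φ ≅ Ψ)
    {ι : Type*} (F : X.Modules) (G : ι → X.Modules) (u : ∀ i, F ⟶ G i)
    (h : ∀ (V : Y.Opens) (t : Γ(Φ.obj F, V)), (∀ i, (Φ.map (u i)).app V t = 0) → t = 0)
    (V : Y.Opens) (t : Γ(Ψ.obj F, V)) (ht : ∀ i, (Ψ.map (u i)).app V t = 0) : t = 0 := by
  have h1 : (α.inv.app F).app V t = 0 := by
    apply h V
    intro i
    have hn := α.inv.naturality (u i)
    have h3 : (Φ.map (u i)).app V ((α.inv.app F).app V t) =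
        (α.inv.app (G i)).app V ((Ψ.map (u i)).app V t) :=
      (congr($(congrArg (fun θ => Scheme.Modules.Hom.app θ V) hn) t)).symm
    rw [h3, ht i, map_zero]
  have h2 : (α.hom.app F).app V ((α.inv.app F).app V t) = t := by
    have hn := α.inv_hom_id_app F
    exact congr($(congrArg (fun θ => Scheme.Modules.Hom.app θ V) hn) t)
  rw [← h2, h1, map_zero]

end natiso


section chart
attribute [local instance] Algebra.TensorProduct.rightAlgebra

variable {X S S' : Scheme.{u}} (p : X ⟶ S) (g : S' ⟶ S) {W : S.Opens} {W' : S'.Opens}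
  {U : X.Opens} (hW : IsAffineOpen W) (hW' : IsAffineOpen W') (hU : IsAffineOpen U)
  (hUle : U ≤ p ⁻¹ᵁ W) (hW'le : W' ≤ g ⁻¹ᵁ W)
  {A₀ A' : Type u} [CommRing A₀] [CommRing A'] [Algebra A₀ A'] [Algebra A₀ Γ(X, U)]
  (e₀ : CommRingCat.of A₀ ≅ Γ(S, W)) (eA : CommRingCat.of A' ≅ Γ(S', W'))
  (h₀ : CommRingCat.ofHom (algebraMap A₀ Γ(X, U)) = e₀.hom ≫ p.appLE W U hUle)
  (hA : CommRingCat.ofHom (algebraMap A₀ A') ≫ eA.hom = e₀.hom ≫ g.appLE W W' hW'le)

include hW hW' hU h₀ hA in
/-- the pushout square of a chart of a fibre product, with the base corner and the `S'`-corner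
replaced by isomorphic rings. -/
theorem isPushout_chart :
    IsPushout (CommRingCat.ofHom (algebraMap A₀ Γ(X, U))) (CommRingCat.ofHom (algebraMap A₀ A'))
      ((pullback.fst p g).appLE U ((pullback.fst p g) ⁻¹ᵁ U ⊓ (pullback.snd p g) ⁻¹ᵁ W')
        inf_le_left)
      (eA.hom ≫ (pullback.snd p g).appLE W'
        ((pullback.fst p g) ⁻¹ᵁ U ⊓ (pullback.snd p g) ⁻¹ᵁ W') inf_le_right) := by
  have Hpb := IsPullback.of_hasPullback p g
  have Hpo := Groth.Agent.Lib.R2H3.ProdChart.isPushout_appLE Hpb hW hU hW' hUle hW'le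
  refine IsPushout.of_iso Hpo e₀.symm (Iso.refl _) eA.symm (Iso.refl _) ?_ ?_ ?_ ?_
  · rw [Iso.refl_hom, Category.comp_id, Iso.symm_hom, h₀, Iso.inv_hom_id_assoc]
  · rw [Iso.symm_hom, Iso.symm_hom, ← cancel_mono eA.hom, Category.assoc, Iso.inv_hom_id,
      Category.comp_id, Category.assoc, hA, Iso.inv_hom_id_assoc]
  · simp
  · simp

variable {ι : Type*} (F : X.Modules) [F.IsQuasicoherent] (G : ι → X.Modules)
  [∀ i, (G i).IsQuasicoherent] (u : ∀ i, F ⟶ G i)

include hW hW' hU h₀ hA in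
/-- chart dictionary for modules: local separation of the pulled-back family on sections over the
chart `P` of `X ×_S S'` is local separation of the base change of the section modules to the model
`A' ⊗[A₀] Γ(X, U)`. -/
theorem chart_iff_mod :
    LocSepMaps (fun i => appL ((Scheme.Modules.pullback (pullback.fst p g)).map (u i))
      ((pullback.fst p g) ⁻¹ᵁ U ⊓ (pullback.snd p g) ⁻¹ᵁ W')) ↔
    BCSep (fun i => appL (u i) U) (A' ⊗[A₀] Γ(X, U)) := by
  have Hpb := IsPullback.of_hasPullback p g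
  have hP : IsAffineOpen ((pullback.fst p g) ⁻¹ᵁ U ⊓ (pullback.snd p g) ⁻¹ᵁ W') :=
    Groth.Agent.Lib.R2H3.ProdChart.isAffineOpen_inf Hpb hW hU hW' hUle hW'le
  letI : Algebra Γ(X, U) Γ(pullback p g, (pullback.fst p g) ⁻¹ᵁ U ⊓ (pullback.snd p g) ⁻¹ᵁ W') :=
    ((pullback.fst p g).appLE U _ inf_le_left).hom.toAlgebra
  rw [locSepMaps_pullback_iff (pullback.fst p g) F G u hU hP inf_le_left rfl]
  exact bcSep_iff_of_isPushout (A := A₀) (R := Γ(X, U)) (A' := A') _ _
    (isPushout_chart p g hW hW' hU hUle hW'le e₀ eA h₀ hA) (fun i => appL (u i) U)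

end chart


section fibreL
variable {X S : Scheme.{u}} (p : X ⟶ S) {ι : Type u} (F : X.Modules) [F.IsQuasicoherent]
  (G : ι → X.Modules) [∀ i, (G i).IsQuasicoherent] (u : ∀ i, F ⟶ G i)

/-- if the family is separating on all fibres, it is separating after every base change to the
spectrum of a field. -/
theorem separating_field
    (hB : ∀ s : S, ∀ (V : (p.fiber s).Opens)
      (t : Γ((Scheme.Modules.pullback (p.fiberι s)).obj F, V)),
      (∀ i, ((Scheme.Modules.pullback (p.fiberι s)).map (u i)).app V t = 0) → t = 0)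
    (L : Type u) [Field L] (ℓ : Spec (CommRingCat.of L) ⟶ S)
    (V : (pullback p ℓ).Opens) (t : Γ((Scheme.Modules.pullback (pullback.fst p ℓ)).obj F, V))
    (ht : ∀ i, ((Scheme.Modules.pullback (pullback.fst p ℓ)).map (u i)).app V t = 0) : t = 0 := by
  have hψ : Spec.map (Scheme.descResidueField (Scheme.stalkClosedPointTo ℓ)) ≫
      S.fromSpecResidueField (ℓ (IsLocalRing.closedPoint L)) = ℓ :=
    Scheme.descResidueField_stalkClosedPointTo_fromSpecResidueField L S ℓ
  have hg : HasSepCharts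
      (cmp (S.fromSpecResidueField (ℓ (IsLocalRing.closedPoint L))) _ ℓ hψ p) :=
    hasSepCharts_of_isPullback_field
      (k := S.residueField (ℓ (IsLocalRing.closedPoint L))) (Iso.refl _)
      (isPullback_cmp (S.fromSpecResidueField (ℓ (IsLocalRing.closedPoint L))) _ ℓ hψ p)
  have e1 : cmp (S.fromSpecResidueField (ℓ (IsLocalRing.closedPoint L))) _ ℓ hψ p ≫
      pullback.fst p (S.fromSpecResidueField (ℓ (IsLocalRing.closedPoint L))) =
      pullback.fst p ℓ := pullback.lift_fst _ _ _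
  haveI : ((Scheme.Modules.pullback
      (pullback.fst p (S.fromSpecResidueField (ℓ (IsLocalRing.closedPoint L))))).obj
        F).IsQuasicoherent :=
    Groth.Agent.Lib.Helper2.PullbackSec.isQuasicoherent_pullback _ F
  haveI : ∀ i, ((Scheme.Modules.pullback
      (pullback.fst p (S.fromSpecResidueField (ℓ (IsLocalRing.closedPoint L))))).obj
        (G i)).IsQuasicoherent := fun i =>
    Groth.Agent.Lib.Helper2.PullbackSec.isQuasicoherent_pullback _ (G i)
  refine separating_of_natIso
    (Scheme.Modules.pullbackComp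
      (cmp (S.fromSpecResidueField (ℓ (IsLocalRing.closedPoint L))) _ ℓ hψ p)
      (pullback.fst p (S.fromSpecResidueField (ℓ (IsLocalRing.closedPoint L)))) ≪≫
      Scheme.Modules.pullbackCongr e1) F G u ?_ V t ht
  intro V₀ t₀ ht₀
  exact separating_pullback_of_hasSepCharts hg
    ((Scheme.Modules.pullback
      (pullback.fst p (S.fromSpecResidueField (ℓ (IsLocalRing.closedPoint L))))).obj F)
    (fun i => (Scheme.Modules.pullback
      (pullback.fst p (S.fromSpecResidueField (ℓ (IsLocalRing.closedPoint L))))).obj (G i))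
    (fun i => (Scheme.Modules.pullback
      (pullback.fst p (S.fromSpecResidueField (ℓ (IsLocalRing.closedPoint L))))).map (u i))
    (fun V₁ t₁ ht₁ => hB (ℓ (IsLocalRing.closedPoint L)) V₁ t₁ ht₁) V₀ t₀ ht₀

end fibreL


section main
attribute [local instance] Algebra.TensorProduct.rightAlgebra

variable {X S : Scheme.{u}} [IsLocallyNoetherian X] (p : X ⟶ S) {ι : Type u} (F : X.Modules)
  [F.IsQuasicoherent] [SheafOfModules.IsFiniteType (R := X.ringCatSheaf) F]
  (G : ι → X.Modules) [∀ i, (G i).IsQuasicoherent] (hG : ∀ i, FlatMod.IsFlatOver p (G i))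
  (u : ∀ i, F ⟶ G i)

include hG in
/-- chart-level statement: local separation after an arbitrary base change follows from the
separating property after base change to fields. -/
theorem locSepMaps_chart
    (hL : ∀ (L : Type u) [Field L] (ℓ : Spec (CommRingCat.of L) ⟶ S) (V : (pullback p ℓ).Opens)
      (t : Γ((Scheme.Modules.pullback (pullback.fst p ℓ)).obj F, V)),
      (∀ i, ((Scheme.Modules.pullback (pullback.fst p ℓ)).map (u i)).app V t = 0) → t = 0)
    {S' : Scheme.{u}} (g : S' ⟶ S) {W : S.Opens} {W' : S'.Opens} {U : X.Opens}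
    (hW : IsAffineOpen W) (hW' : IsAffineOpen W') (hU : IsAffineOpen U) (hUle : U ≤ p ⁻¹ᵁ W)
    (hW'le : W' ≤ g ⁻¹ᵁ W) :
    LocSepMaps (fun i => appL ((Scheme.Modules.pullback (pullback.fst p g)).map (u i))
      ((pullback.fst p g) ⁻¹ᵁ U ⊓ (pullback.snd p g) ⁻¹ᵁ W')) := by
  letI : Algebra Γ(S, W) Γ(X, U) := (p.appLE W U hUle).hom.toAlgebra
  letI : Algebra Γ(S, W) Γ(S', W') := (g.appLE W W' hW'le).hom.toAlgebra
  letI : Module Γ(S, W) Γ(F, U) := Module.compHom Γ(F, U) (p.appLE W U hUle).hom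
  letI : ∀ i, Module Γ(S, W) Γ(G i, U) := fun i =>
    Module.compHom Γ(G i, U) (p.appLE W U hUle).hom
  haveI : IsScalarTower Γ(S, W) Γ(X, U) Γ(F, U) :=
    IsScalarTower.of_algebraMap_smul (fun _ _ => rfl)
  haveI : ∀ i, IsScalarTower Γ(S, W) Γ(X, U) Γ(G i, U) := fun i =>
    IsScalarTower.of_algebraMap_smul (fun _ _ => rfl)
  haveI : IsNoetherianRing Γ(X, U) := IsLocallyNoetherian.component_noetherian ⟨U, hU⟩
  haveI : Module.Finite Γ(X, U) Γ(F, U) :=
    Groth.Agent.Lib.Helper23.FinType.finite_of_isFiniteType F hU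
  haveI : ∀ i, Module.Flat Γ(S, W) Γ(G i, U) := fun i =>
    (Groth.Agent.Lib.Helper2.FlatOver.isFlatOver_iff_forall_affine p (G i)).1 (hG i) U W hUle hU hW
  rw [chart_iff_mod p g hW hW' hU hUle hW'le (A₀ := Γ(S, W)) (A' := Γ(S', W')) (Iso.refl _)
    (Iso.refl _) (by rw [Iso.refl_hom, Category.id_comp]; rfl)
    (by rw [Iso.refl_hom, Iso.refl_hom, Category.id_comp, Category.comp_id]; rfl) F G u]
  refine bcSep_baseChange (fun i => appL (u i) U) (fun L _ _ => ?_) Γ(S', W')
  have hle : (⊤ : (Spec (CommRingCat.of L)).Opens) ≤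
      (Spec.map (CommRingCat.ofHom (algebraMap Γ(S, W) L)) ≫ hW.fromSpec) ⁻¹ᵁ W := by
    intro x _
    change hW.fromSpec _ ∈ W
    have := hW.range_fromSpec
    exact this.le ⟨_, rfl⟩
  rw [← chart_iff_mod p (Spec.map (CommRingCat.ofHom (algebraMap Γ(S, W) L)) ≫ hW.fromSpec) hW
    (isAffineOpen_top _) hU hUle hle (A₀ := Γ(S, W)) (A' := L) (Iso.refl _)
    (Scheme.ΓSpecIso (CommRingCat.of L)).symm (by rw [Iso.refl_hom, Category.id_comp]; rfl)
    (by rw [Iso.refl_hom, Category.id_comp]; exact appLE_top_spec hW _ hle) F G u]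
  have Hpb := IsPullback.of_hasPullback p
    (Spec.map (CommRingCat.ofHom (algebraMap Γ(S, W) L)) ≫ hW.fromSpec)
  have hP := Groth.Agent.Lib.R2H3.ProdChart.isAffineOpen_inf Hpb hW hU (isAffineOpen_top _)
    hUle hle
  haveI : ((Scheme.Modules.pullback (pullback.fst p
      (Spec.map (CommRingCat.ofHom (algebraMap Γ(S, W) L)) ≫ hW.fromSpec))).obj
        F).IsQuasicoherent :=
    Groth.Agent.Lib.Helper2.PullbackSec.isQuasicoherent_pullback _ F
  haveI : ∀ i, ((Scheme.Modules.pullback (pullback.fst p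
      (Spec.map (CommRingCat.ofHom (algebraMap Γ(S, W) L)) ≫ hW.fromSpec))).obj
        (G i)).IsQuasicoherent := fun i =>
    Groth.Agent.Lib.Helper2.PullbackSec.isQuasicoherent_pullback _ (G i)
  exact locSepMaps_appL _ _ _ (hL L _) hP

include hG in
/-- if the family is separating after every base change to the spectrum of a field, it is so
after every base change. -/
theorem separating_baseChange
    (hL : ∀ (L : Type u) [Field L] (ℓ : Spec (CommRingCat.of L) ⟶ S) (V : (pullback p ℓ).Opens)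
      (t : Γ((Scheme.Modules.pullback (pullback.fst p ℓ)).obj F, V)),
      (∀ i, ((Scheme.Modules.pullback (pullback.fst p ℓ)).map (u i)).app V t = 0) → t = 0)
    {S' : Scheme.{u}} (g : S' ⟶ S) (V : (pullback p g).Opens)
    (t : Γ((Scheme.Modules.pullback (pullback.fst p g)).obj F, V))
    (ht : ∀ i, ((Scheme.Modules.pullback (pullback.fst p g)).map (u i)).app V t = 0) : t = 0 := by
  haveI : ((Scheme.Modules.pullback (pullback.fst p g)).obj F).IsQuasicoherent :=
    Groth.Agent.Lib.Helper2.PullbackSec.isQuasicoherent_pullback _ F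
  haveI : ∀ i, ((Scheme.Modules.pullback (pullback.fst p g)).obj (G i)).IsQuasicoherent := fun i =>
    Groth.Agent.Lib.Helper2.PullbackSec.isQuasicoherent_pullback _ (G i)
  refine separating_of_locSepMaps _ _ _ (fun x' => ?_) V t ht
  obtain ⟨W, hW, hxW, -⟩ := exists_isAffineOpen_mem_and_subset
    (x := p (pullback.fst p g x')) (U := ⊤) trivial
  have hx1 : pullback.snd p g x' ∈ g ⁻¹ᵁ W := by
    change g (pullback.snd p g x') ∈ W
    rw [← Scheme.Hom.comp_apply, ← pullback.condition, Scheme.Hom.comp_apply]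
    exact hxW
  obtain ⟨W', hW', hxW', hW'le0⟩ := exists_isAffineOpen_mem_and_subset
    (x := pullback.snd p g x') (U := g ⁻¹ᵁ W) hx1
  have hW'le : W' ≤ g ⁻¹ᵁ W := hW'le0
  have hx2 : pullback.fst p g x' ∈ p ⁻¹ᵁ W := hxW
  obtain ⟨U, hU, hxU, hUle0⟩ := exists_isAffineOpen_mem_and_subset
    (x := pullback.fst p g x') (U := p ⁻¹ᵁ W) hx2
  have hUle : U ≤ p ⁻¹ᵁ W := hUle0
  have Hpb := IsPullback.of_hasPullback p g
  have hP : IsAffineOpen ((pullback.fst p g) ⁻¹ᵁ U ⊓ (pullback.snd p g) ⁻¹ᵁ W') :=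
    Groth.Agent.Lib.R2H3.ProdChart.isAffineOpen_inf Hpb hW hU hW' hUle hW'le
  exact ⟨_, hP, ⟨hxU, hxW'⟩, locSepMaps_chart p F G hG u hL g hW hW' hU hUle hW'le⟩

end main

end Groth.Agent.Lib.R2H3.FibCritModGeo
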