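import Mathlib
import Groth.Agent.Lib.R2H3FibCritModGeo

/-!
# Separating families over an affine base: chart dictionary with base ring `A`
(EGA IV 11.9.x / 11.10.x; helper3, round 2)
-/

set_option autoImplicit false
set_option linter.style.haveILetI false
universe u
open CategoryTheory CategoryTheory.Limits AlgebraicGeometry TopologicalSpace Opposite TensorProduct

namespace Groth.Agent.Lib.R2H3.FibCritAff

open Groth.Agent.Lib.R2H3.FibCrit Groth.Agent.Lib.R2H3.FibCritMod Groth.Agent.Lib.R2H3.FibCritGeo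
open Groth.Agent.Lib.R2H3.FibCritModGeo
open Groth.Agent.Lib.R2H3.SepField Groth.Agent.Lib.R2H3.SepPull Groth.Agent.Lib.R2H3.SepFieldGeo

section setup
variable {X : Scheme.{u}} (A : CommRingCat.{u}) (p : X ⟶ Spec A) (U : X.Opens)

theorem le_top_preimage : U ≤ p ⁻¹ᵁ ⊤ := fun _ _ => trivial

/-- `Γ(X, U)` as an algebra over the base ring `A` of the affine base `Spec A`. -/
@[reducible] noncomputable def algU : Algebra ↑A Γ(X, U) :=
  ((Scheme.ΓSpecIso A).inv ≫ p.appLE ⊤ U (le_top_preimage A p U)).hom.toAlgebra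

/-- sections of a module over `U` as a module over the base ring `A`. -/
@[reducible] noncomputable def modU (F : X.Modules) : Module ↑A Γ(F, U) :=
  Module.compHom Γ(F, U) ((Scheme.ΓSpecIso A).inv ≫ p.appLE ⊤ U (le_top_preimage A p U)).hom

theorem isScalarTower_modU (F : X.Modules) :
    letI := algU A p U
    letI := modU A p U F
    IsScalarTower ↑A Γ(X, U) Γ(F, U) := by
  letI := algU A p U
  letI := modU A p U F
  exact IsScalarTower.of_algebraMap_smul (fun _ _ => rfl)

theorem flat_modU (F : X.Modules) [F.IsQuasicoherent] (hF : FlatMod.IsFlatOver p F)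
    (hU : IsAffineOpen U) :
    letI := modU A p U F
    Module.Flat ↑A Γ(F, U) := by
  letI := modU A p U F
  letI : Module Γ(Spec A, ⊤) Γ(F, U) :=
    Module.compHom Γ(F, U) (p.appLE ⊤ U (le_top_preimage A p U)).hom
  haveI hfl : Module.Flat Γ(Spec A, ⊤) Γ(F, U) :=
    (Groth.Agent.Lib.Helper2.FlatOver.isFlatOver_iff_forall_affine p F).1 hF U ⊤
      (le_top_preimage A p U) hU (isAffineOpen_top _)
  letI : Algebra ↑A Γ(Spec A, ⊤) := (Scheme.ΓSpecIso A).inv.hom.toAlgebra
  haveI : IsScalarTower ↑A Γ(Spec A, ⊤) Γ(F, U) :=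
    IsScalarTower.of_algebraMap_smul (fun _ _ => rfl)
  haveI : Module.Flat ↑A Γ(Spec A, ⊤) :=
    RingHom.Flat.of_bijective (f := (Scheme.ΓSpecIso A).inv.hom)
      (ConcreteCategory.bijective_of_isIso (Scheme.ΓSpecIso A).inv)
  exact Module.Flat.trans ↑A Γ(Spec A, ⊤) Γ(F, U)

end setup


section chartaff
attribute [local instance] Algebra.TensorProduct.rightAlgebra

variable {X : Scheme.{u}} (A : CommRingCat.{u}) (p : X ⟶ Spec A) {U : X.Opens}
  (hU : IsAffineOpen U) {B : CommRingCat.{u}} (γ : A ⟶ B) [Algebra ↑A ↑B]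
  (hγ : algebraMap ↑A ↑B = γ.hom)
  {ι : Type*} (F : X.Modules) [F.IsQuasicoherent] (G : ι → X.Modules)
  [∀ i, (G i).IsQuasicoherent] (u : ∀ i, F ⟶ G i)

include hγ in
theorem gammaSpec_naturality
    (hle : (⊤ : (Spec B).Opens) ≤ (Spec.map γ) ⁻¹ᵁ ⊤) :
    CommRingCat.ofHom (algebraMap ↑A ↑B) ≫ (Scheme.ΓSpecIso B).symm.hom =
      (Scheme.ΓSpecIso A).symm.hom ≫ (Spec.map γ).appLE ⊤ ⊤ hle := by
  have h1 : CommRingCat.ofHom (algebraMap ↑A ↑B) = γ := by
    ext x
    rw [CommRingCat.hom_ofHom, hγ]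
  rw [h1, Iso.symm_hom, Iso.symm_hom]
  refine (Scheme.ΓSpecIso_inv_naturality γ).trans ?_
  rfl

include hU hγ in
/-- chart dictionary over an affine base, with base ring `A` itself. -/
theorem chart_iff_aff :
    letI := algU A p U
    LocSepMaps (fun i => appL ((Scheme.Modules.pullback (pullback.fst p (Spec.map γ))).map (u i))
      ((pullback.fst p (Spec.map γ)) ⁻¹ᵁ U ⊓ (pullback.snd p (Spec.map γ)) ⁻¹ᵁ ⊤)) ↔
    BCSep (fun i => appL (u i) U) (↑B ⊗[↑A] Γ(X, U)) := by
  letI := algU A p U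
  exact chart_iff_mod p (Spec.map γ) (isAffineOpen_top _) (isAffineOpen_top _) hU
    (le_top_preimage A p U) (W' := ⊤) (fun _ _ => trivial) (A₀ := ↑A) (A' := ↑B)
    (Scheme.ΓSpecIso A).symm (Scheme.ΓSpecIso B).symm rfl
    (gammaSpec_naturality A γ hγ _) F G u

end chartaff


section nilp
attribute [local instance] Algebra.TensorProduct.rightAlgebra

variable {X : Scheme.{u}} (A : CommRingCat.{u}) (p : X ⟶ Spec A)
  (J : Ideal ↑A) (hJ : IsNilpotent J)
  (hfree : ∀ k : ℕ, Module.Free (↑A ⧸ J) ((↑A ⧸ J) ⊗[↑A] ↥(J ^ k)))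
  {ι : Type*} (F : X.Modules) [F.IsQuasicoherent] (G : ι → X.Modules)
  [∀ i, (G i).IsQuasicoherent] (hG : ∀ i, FlatMod.IsFlatOver p (G i)) (u : ∀ i, F ⟶ G i)

include hJ hfree hG in
/-- EGA IV 11.10.x (nilpotent dévissage), modules version over an affine base: a family which is
separating modulo a nilpotent ideal with free graded pieces is separating. -/
theorem separating_of_nilpotent
    (h0 : ∀ (V : (pullback p (Spec.map (CommRingCat.ofHom (Ideal.Quotient.mk J)))).Opens)
      (t : Γ((Scheme.Modules.pullback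
        (pullback.fst p (Spec.map (CommRingCat.ofHom (Ideal.Quotient.mk J))))).obj F, V)),
      (∀ i, ((Scheme.Modules.pullback
        (pullback.fst p (Spec.map (CommRingCat.ofHom (Ideal.Quotient.mk J))))).map (u i)).app V t
          = 0) → t = 0)
    (V : X.Opens) (t : Γ(F, V)) (ht : ∀ i, (u i).app V t = 0) : t = 0 := by
  refine separating_of_locSepMaps F G u (fun x => ?_) V t ht
  obtain ⟨U, hU, hxU, -⟩ := exists_isAffineOpen_mem_and_subset (x := x) (U := ⊤) trivial
  refine ⟨U, hU, hxU, ?_⟩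
  letI := algU A p U
  letI := modU A p U F
  letI := fun i => modU A p U (G i)
  haveI := isScalarTower_modU A p U F
  haveI := fun i => isScalarTower_modU A p U (G i)
  haveI : ∀ i, Module.Flat ↑A Γ(G i, U) := fun i => flat_modU A p U (G i) (hG i) hU
  refine locSepMaps_of_nilpotent J (fun i => appL (u i) U) hJ hfree ?_
  refine weakSep_of_bcSep _ (↑A ⧸ J) ((↑A ⧸ J) ⊗[↑A] Γ(X, U)) ?_
  refine (chart_iff_aff A p hU (B := CommRingCat.of (↑A ⧸ J))
    (CommRingCat.ofHom (Ideal.Quotient.mk J)) rfl F G u).mp ?_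
  have Hpb := IsPullback.of_hasPullback p (Spec.map (CommRingCat.ofHom (Ideal.Quotient.mk J)))
  have hP := Groth.Agent.Lib.R2H3.ProdChart.isAffineOpen_inf Hpb (isAffineOpen_top _) hU
    (isAffineOpen_top _) (le_top_preimage A p U) (V := ⊤) (fun _ _ => trivial)
  haveI : ((Scheme.Modules.pullback (pullback.fst p
      (Spec.map (CommRingCat.ofHom (Ideal.Quotient.mk J))))).obj F).IsQuasicoherent :=
    Groth.Agent.Lib.Helper2.PullbackSec.isQuasicoherent_pullback _ F
  haveI : ∀ i, ((Scheme.Modules.pullback (pullback.fst p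
      (Spec.map (CommRingCat.ofHom (Ideal.Quotient.mk J))))).obj (G i)).IsQuasicoherent := fun i =>
    Groth.Agent.Lib.Helper2.PullbackSec.isQuasicoherent_pullback _ (G i)
  exact locSepMaps_appL _ _ _ h0 hP

end nilp


section fg
attribute [local instance] Algebra.TensorProduct.rightAlgebra

variable {X : Scheme.{u}} (A A' : CommRingCat.{u}) (φ : A ⟶ A') (p : X ⟶ Spec A)
  {ι : Type*} (F : X.Modules) [F.IsQuasicoherent] (G : ι → X.Modules)
  [∀ i, (G i).IsQuasicoherent] (hG : ∀ i, FlatMod.IsFlatOver p (G i)) (u : ∀ i, F ⟶ G i)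

include hG in
/-- EGA IV 11.9.x: if the family is separating after base change to every finitely generated
subalgebra of `A'`, it is separating after base change to `A'`. -/
theorem separating_baseChange_of_fg
    (hfg : ∀ (B : CommRingCat.{u}) (a : A ⟶ B) (b : B ⟶ A'), a ≫ b = φ →
      Function.Injective b.hom → a.hom.FiniteType →
      ∀ (V : (pullback p (Spec.map a)).Opens)
        (t : Γ((Scheme.Modules.pullback (pullback.fst p (Spec.map a))).obj F, V)),
        (∀ i, ((Scheme.Modules.pullback (pullback.fst p (Spec.map a))).map (u i)).app V t = 0) →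
          t = 0)
    (V : (pullback p (Spec.map φ)).Opens)
    (t : Γ((Scheme.Modules.pullback (pullback.fst p (Spec.map φ))).obj F, V))
    (ht : ∀ i, ((Scheme.Modules.pullback (pullback.fst p (Spec.map φ))).map (u i)).app V t = 0) :
    t = 0 := by
  haveI : ((Scheme.Modules.pullback (pullback.fst p (Spec.map φ))).obj F).IsQuasicoherent :=
    Groth.Agent.Lib.Helper2.PullbackSec.isQuasicoherent_pullback _ F
  haveI : ∀ i, ((Scheme.Modules.pullback (pullback.fst p (Spec.map φ))).obj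
      (G i)).IsQuasicoherent := fun i =>
    Groth.Agent.Lib.Helper2.PullbackSec.isQuasicoherent_pullback _ (G i)
  refine separating_of_locSepMaps _ _ _ (fun x' => ?_) V t ht
  obtain ⟨U, hU, hxU, -⟩ := exists_isAffineOpen_mem_and_subset
    (x := pullback.fst p (Spec.map φ) x') (U := ⊤) trivial
  have Hpb := IsPullback.of_hasPullback p (Spec.map φ)
  have hP := Groth.Agent.Lib.R2H3.ProdChart.isAffineOpen_inf Hpb (isAffineOpen_top _) hU
    (isAffineOpen_top _) (le_top_preimage A p U) (V := ⊤) (fun _ _ => trivial)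
  refine ⟨_, hP, ⟨hxU, trivial⟩, ?_⟩
  letI := algU A p U
  letI := modU A p U F
  letI := fun i => modU A p U (G i)
  haveI := isScalarTower_modU A p U F
  haveI := fun i => isScalarTower_modU A p U (G i)
  haveI : ∀ i, Module.Flat ↑A Γ(G i, U) := fun i => flat_modU A p U (G i) (hG i) hU
  letI : Algebra ↑A ↑A' := φ.hom.toAlgebra
  refine (chart_iff_aff A p hU φ rfl F G u).mpr ?_
  refine bcSep_of_forall_fg_subalgebra (fun i => appL (u i) U) ↑A' (fun A₁ hA₁ => ?_)
  refine (chart_iff_aff A p hU (B := CommRingCat.of ↥A₁)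
    (CommRingCat.ofHom (algebraMap ↑A ↥A₁)) rfl F G u).mp ?_
  haveI : Algebra.FiniteType ↑A ↥A₁ := (Subalgebra.fg_iff_finiteType A₁).mp hA₁
  have hsep := hfg (CommRingCat.of ↥A₁) (CommRingCat.ofHom (algebraMap ↑A ↥A₁))
    (CommRingCat.ofHom A₁.val.toRingHom) (by ext x; rfl) Subtype.val_injective
    (RingHom.finiteType_algebraMap.mpr inferInstance)
  have Hpb₁ := IsPullback.of_hasPullback p
    (Spec.map (CommRingCat.ofHom (algebraMap ↑A ↥A₁)))
  have hP₁ := Groth.Agent.Lib.R2H3.ProdChart.isAffineOpen_inf Hpb₁ (isAffineOpen_top _) hU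
    (isAffineOpen_top _) (le_top_preimage A p U) (V := ⊤) (fun _ _ => trivial)
  haveI : ((Scheme.Modules.pullback (pullback.fst p
      (Spec.map (CommRingCat.ofHom (algebraMap ↑A ↥A₁))))).obj F).IsQuasicoherent :=
    Groth.Agent.Lib.Helper2.PullbackSec.isQuasicoherent_pullback _ F
  haveI : ∀ i, ((Scheme.Modules.pullback (pullback.fst p
      (Spec.map (CommRingCat.ofHom (algebraMap ↑A ↥A₁))))).obj (G i)).IsQuasicoherent := fun i =>
    Groth.Agent.Lib.Helper2.PullbackSec.isQuasicoherent_pullback _ (G i)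
  exact locSepMaps_appL _ _ _ hsep hP₁

end fg


section ringself
variable {X : Scheme.{u}} {ι : Type u} {Z : ι → Scheme.{u}} (f : ∀ i, Z i ⟶ X)

/-- a family which is locally separating on charts around every point is schematically dominant
(no base change). -/
theorem schDominant_of_ringLocSep_self
    (hloc : ∀ x : X, ∃ (U : X.Opens) (_ : IsAffineOpen U), x ∈ U ∧
      RingLocSep (fun τ : Idx f U => ((f τ.1).appLE U τ.2.1 τ.2.2.2).hom))
    (V : X.Opens) (t : Γ(X, V)) (ht : ∀ i, (f i).app V t = 0) : t = 0 := by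
  apply Groth.Agent.Lib.R2H3.SchDom.eq_zero_of_locally
  intro x hx
  obtain ⟨U, hU, hxU, hsep⟩ := hloc x
  obtain ⟨h, hhle, hxh⟩ := hU.exists_basicOpen_le (V := U ⊓ V) ⟨x, ⟨hxU, hx⟩⟩ hxU
  have hDV : X.basicOpen h ≤ V := hhle.trans inf_le_right
  refine ⟨X.basicOpen h, hDV, hxh, ?_⟩
  haveI := hU.isLocalization_basicOpen h
  obtain ⟨⟨e, ⟨_, k, rfl⟩⟩, hek⟩ := IsLocalization.surj (Submonoid.powers h)
    (X.presheaf.map (homOfLE hDV).op t)
  have hek' : X.presheaf.map (homOfLE hDV).op t *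
      (X.presheaf.map (homOfLE (X.basicOpen_le h)).op h) ^ k =
      X.presheaf.map (homOfLE (X.basicOpen_le h)).op e := by
    rw [← map_pow]
    exact hek
  have hu := RingedSpace.isUnit_res_basicOpen X.toRingedSpace h
  have hτ : ∀ τ : Idx f U, ∃ n : ℕ, ((f τ.1).appLE U τ.2.1 τ.2.2.2).hom (h ^ n * e) = 0 := by
    intro τ
    obtain ⟨i, T, hT, hTle⟩ := τ
    have hb : (Z i).basicOpen ((f i).appLE U T hTle h) = T ⊓ (f i) ⁻¹ᵁ (X.basicOpen h) :=
      Scheme.basicOpen_appLE (f i) _ U hTle h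
    have hQD : (Z i).basicOpen ((f i).appLE U T hTle h) ≤ (f i) ⁻¹ᵁ (X.basicOpen h) :=
      hb.le.trans inf_le_right
    have hQV : (Z i).basicOpen ((f i).appLE U T hTle h) ≤ (f i) ⁻¹ᵁ V :=
      hQD.trans ((f i).preimage_mono hDV)
    have H0 : (Z i).presheaf.map (homOfLE ((Z i).basicOpen_le ((f i).appLE U T hTle h))).op
        ((f i).appLE U T hTle e) = 0 := by
      rw [← CommRingCat.comp_apply, Scheme.Hom.appLE_map]
      have e1 : (f i).appLE U _ (((Z i).basicOpen_le _).trans hTle) e =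
          (f i).appLE (X.basicOpen h) _ hQD
            (X.presheaf.map (homOfLE (X.basicOpen_le h)).op e) := by
        rw [← CommRingCat.comp_apply, Scheme.Hom.map_appLE]
      rw [e1, ← hek', map_mul]
      have e2 : (f i).appLE (X.basicOpen h) _ hQD (X.presheaf.map (homOfLE hDV).op t) =
          (Z i).presheaf.map (homOfLE hQV).op ((f i).app V t) := by
        rw [← CommRingCat.comp_apply, Scheme.Hom.map_appLE]
        rfl
      rw [e2, ht i, map_zero, zero_mul]
    obtain ⟨n, hn⟩ := exists_pow_mul_eq_zero_of_res_basicOpen_eq_zero_of_isAffineOpen (Z i) hT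
      _ _ H0
    refine ⟨n, ?_⟩
    change (f i).appLE U T hTle (h ^ n * e) = 0
    rw [map_mul, map_pow]
    exact hn
  obtain ⟨n, hn⟩ := hsep h e hτ
  have h1 := congrArg (X.presheaf.map (homOfLE (X.basicOpen_le h)).op) hn
  rw [map_mul, map_pow, map_zero] at h1
  have h2 := (hu.pow n).mul_right_eq_zero.mp h1
  rw [h2] at hek'
  exact (hu.pow k).mul_left_eq_zero.mp hek'

end ringself


section nilpring
variable {X : Scheme.{u}} (A : CommRingCat.{u}) (p : X ⟶ Spec A)
  (J : Ideal ↑A) (hJ : IsNilpotent J)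
  (hfree : ∀ k : ℕ, Module.Free (↑A ⧸ J) ((↑A ⧸ J) ⊗[↑A] ↥(J ^ k)))
  {ι : Type u} (Z : ι → Scheme.{u}) (v : ∀ i, Z i ⟶ X) [∀ i, Flat (v i ≫ p)]

include hJ hfree in
/-- EGA IV 11.10.x (nilpotent dévissage), schematically dominant families over an affine base. -/
theorem schDominant_of_nilpotent
    (h0 : ∀ (V : (pullback p (Spec.map (CommRingCat.ofHom (Ideal.Quotient.mk J)))).Opens)
      (t : Γ(pullback p (Spec.map (CommRingCat.ofHom (Ideal.Quotient.mk J))), V)),
      (∀ i, (bcMap p Z v (Spec.map (CommRingCat.ofHom (Ideal.Quotient.mk J))) i).app V t = 0) →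
        t = 0)
    (V : X.Opens) (t : Γ(X, V)) (ht : ∀ i, (v i).app V t = 0) : t = 0 := by
  refine schDominant_of_ringLocSep_self v (fun x => ?_) V t ht
  obtain ⟨U, hU, hxU, -⟩ := exists_isAffineOpen_mem_and_subset (x := x) (U := ⊤) trivial
  refine ⟨U, hU, hxU, ?_⟩
  letI := algU A p U
  letI : ∀ τ : Idx v U, Algebra ↑A Γ(Z τ.1, τ.2.1) := fun τ =>
    (((Scheme.ΓSpecIso A).inv ≫ p.appLE ⊤ U (le_top_preimage A p U)) ≫
      (v τ.1).appLE U τ.2.1 τ.2.2.2).hom.toAlgebra
  haveI : ∀ τ : Idx v U, Module.Flat ↑A Γ(Z τ.1, τ.2.1) := fun τ => by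
    have h1 := HasRingHomProperty.appLE (P := @Flat) (v τ.1 ≫ p) inferInstance
      ⟨⊤, isAffineOpen_top _⟩ ⟨τ.2.1, τ.2.2.1⟩ (fun _ _ => trivial)
    rw [← Scheme.Hom.appLE_comp_appLE (v τ.1) p ⊤ U τ.2.1 (le_top_preimage A p U) τ.2.2.2] at h1
    have h2 : RingHom.Flat (Scheme.ΓSpecIso A).inv.hom :=
      RingHom.Flat.of_bijective (ConcreteCategory.bijective_of_isIso (Scheme.ΓSpecIso A).inv)
    have h3 : RingHom.Flat (((Scheme.ΓSpecIso A).inv ≫ p.appLE ⊤ U (le_top_preimage A p U)) ≫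
        (v τ.1).appLE U τ.2.1 τ.2.2.2).hom := by
      rw [Category.assoc, CommRingCat.hom_comp]
      exact RingHom.Flat.comp h2 h1
    exact h3
  have Hpb := IsPullback.of_hasPullback p (Spec.map (CommRingCat.ofHom (Ideal.Quotient.mk J)))
  have hP := Groth.Agent.Lib.R2H3.ProdChart.isAffineOpen_inf Hpb (isAffineOpen_top _) hU
    (isAffineOpen_top _) (le_top_preimage A p U) (V := ⊤) (fun _ _ => trivial)
  have H1 := isPushout_chart p (Spec.map (CommRingCat.ofHom (Ideal.Quotient.mk J)))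
    (isAffineOpen_top _) (isAffineOpen_top _) hU (le_top_preimage A p U) (W' := ⊤)
    (fun _ _ => trivial) (A₀ := ↑A) (A' := ↑A ⧸ J) (Scheme.ΓSpecIso A).symm
    (Scheme.ΓSpecIso (CommRingCat.of (↑A ⧸ J))).symm rfl
    (gammaSpec_naturality A (B := CommRingCat.of (↑A ⧸ J))
      (CommRingCat.ofHom (Ideal.Quotient.mk J)) rfl _)
  have h2 := ringLocSep_of_schDominant
    (g := pullback.fst p (Spec.map (CommRingCat.ofHom (Ideal.Quotient.mk J)))) (f := v)
    (c := fun i => pullback.fst (v i ≫ p) (Spec.map (CommRingCat.ofHom (Ideal.Quotient.mk J))))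
    (m := fun i => bcMap p Z v (Spec.map (CommRingCat.ofHom (Ideal.Quotient.mk J))) i)
    (fun i => (isPullback_bcMap p Z v _ i).w) h0 (U := U) hP inf_le_left
  have h3 := (ringLocSep_tensor_iff (A := ↑A) (R := Γ(X, U)) (A' := ↑A ⧸ J) _ _ H1
    (fun τ : Idx v U => (⟨((v τ.1).appLE U τ.2.1 τ.2.2.2).hom, fun _ => rfl⟩ :
        Γ(X, U) →ₐ[↑A] Γ(Z τ.1, τ.2.1)))
    (fun τ => Γ(pullback (v τ.1 ≫ p) (Spec.map (CommRingCat.ofHom (Ideal.Quotient.mk J))),
      chartOpen v
        (fun i => pullback.fst (v i ≫ p) (Spec.map (CommRingCat.ofHom (Ideal.Quotient.mk J))))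
        (fun i => bcMap p Z v (Spec.map (CommRingCat.ofHom (Ideal.Quotient.mk J))) i)
        ((pullback.fst p (Spec.map (CommRingCat.ofHom (Ideal.Quotient.mk J)))) ⁻¹ᵁ U ⊓
          (pullback.snd p (Spec.map (CommRingCat.ofHom (Ideal.Quotient.mk J)))) ⁻¹ᵁ ⊤) τ))
    (fun τ => (pullback.fst (v τ.1 ≫ p)
      (Spec.map (CommRingCat.ofHom (Ideal.Quotient.mk J)))).appLE τ.2.1 _ inf_le_left)
    (fun τ => (bcMap p Z v (Spec.map (CommRingCat.ofHom (Ideal.Quotient.mk J))) τ.1).appLE _ _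
      inf_le_right)
    (fun τ => Groth.Agent.Lib.R2H3.ProdChart.isPushout_appLE
      (isPullback_bcMap p Z v (Spec.map (CommRingCat.ofHom (Ideal.Quotient.mk J))) τ.1) hU
      τ.2.2.1 hP τ.2.2.2 inf_le_left)).mp h2
  exact ringLocSep_of_nilpotent
    (fun τ : Idx v U => (⟨((v τ.1).appLE U τ.2.1 τ.2.2.2).hom, fun _ => rfl⟩ :
        Γ(X, U) →ₐ[↑A] Γ(Z τ.1, τ.2.1))) J hJ hfree h3

end nilpring

end Groth.Agent.Lib.R2H3.FibCritAff
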