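import Mathlib
import Groth.Agent.Lib.R2H3FibDimLimF
import Groth.Agent.Lib.R2H3RpushQCohGen

/-!
# `R^d f_*` of a finite type quasi-coherent module, `f` proper with fibres of dimension `≤ d`

(helper3, round 2)  `isCoh_Rpush_top` (= S7432).
-/

set_option autoImplicit false
set_option linter.unusedSectionVars false
set_option linter.style.haveILetI false
universe u
open CategoryTheory CategoryTheory.Limits AlgebraicGeometry TopologicalSpace Topology Opposite

namespace Groth.Agent.Lib.R2H3.FibDimLimG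

open Groth.Agent.Lib.Helper4.FibDim Groth.Agent.Lib.Helper3.LocDimBC
  Groth.Agent.Lib.R2H3.FibDimLimA Groth.Agent.Lib.R2H3.FibDimLimB
  Groth.Agent.Lib.R2H3.FibDimLimC Groth.Agent.Lib.R2H3.FibDimLimD Groth.Agent.Lib.R2H3.FibDimLimE
  Groth.Agent.Lib.R2H3.FibDimLimF Groth.Agent.Lib.R2H2.GammaDer

/-- affine base -/
theorem isFiniteType_Rpush_top_of_isAffine {X S : Scheme.{u}} (f : X ⟶ S) [IsProper f]
    [IsAffine S] (d : ℕ) (hd : ∀ x : X, FlatMor.fibreDimAt f x ≤ d)
    [HasInjectiveResolutions X.Modules] (M : X.Modules) (hM : Coh.IsCoh M) :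
    SheafOfModules.IsFiniteType (R := S.ringCatSheaf) ((Coh.Rpush f d).obj M) := by
  haveI : M.IsQuasicoherent := hM.1
  haveI Q := Groth.Agent.Lib.R2H3.RpushQCohGen.isQuasicoherent_Rpush_of_qcqs f M d
  let R : CommRingCat.{u} := Γ(S, ⊤)
  let e : S ≅ Spec R := S.isoSpec
  let h : X ⟶ Spec (CommRingCat.of R) := f ≫ e.hom
  haveI : IsProper h := inferInstanceAs (IsProper (f ≫ e.hom))
  haveI : LocallyOfFiniteType f := inferInstance
  have h9 : IsPullback (𝟙 X) f h e.hom := IsPullback.of_horiz_isIso ⟨by simp [h]⟩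
  have hfd : ∀ x, FlatMor.fibreDimAt h x ≤ d := fun x => by
    have h5 := fibreDimAt_eq_of_isPullback h e.hom (𝟙 X) f h9 x
    have h6 : (𝟙 X : X ⟶ X) x = x := rfl
    rw [h6] at h5
    rw [← h5]
    exact hd x
  have hfin := finite_HH_top R h d hfd M hM
  obtain ⟨e1⟩ := nonempty_sections_Rpush_iso f M d
  have hfin2 : @Module.Finite (Coh.Γtop S) (Coh.HH X M d) _ _ (Module.compHom _ (topHom f)) := by
    refine finite_of_smul (Module.compHom _ (Coh.toGlobal h)) (Module.compHom _ (topHom f))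
      (fun p => ⟨(e.hom.appTop).hom ((Scheme.ΓSpecIso R).inv.hom p), fun x => ?_⟩) hfin
    rfl
  haveI : Module.Finite (Coh.Γtop S) ((ModuleCat.restrictScalars (topHom f)).obj
      (ModuleCat.of (Coh.Γtop X) (Coh.HH X M d))) := hfin2
  have hfin3 : Module.Finite (Coh.Γtop S) ((ΓF S).obj ((Coh.Rpush f d).obj M)) :=
    Module.Finite.equiv e1.toLinearEquiv.symm
  refine Groth.Agent.Lib.Helper23.FinType.isFiniteType_of_finite _
    (fun _ : PUnit.{u + 1} => (⊤ : S.Opens)) (IsOpenCover.mk (by simp))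
    (fun _ => isAffineOpen_top S) (fun _ => ?_)
  exact hfin3

/-- **= S7432**: `R^d f_*` of a quasi-coherent module of finite type, for `f` proper with fibres of
dimension `≤ d`, is quasi-coherent of finite type. -/
theorem isCoh_Rpush_top {X Y : Scheme.{u}} (f : X ⟶ Y) [IsProper f] (d : ℕ)
    (hd : ∀ y : Y, topologicalKrullDim ↥(f.fiber y) ≤ d) [HasInjectiveResolutions X.Modules]
    (M : X.Modules) (hM : Coh.IsCoh M) : Coh.IsCoh ((Coh.Rpush f d).obj M) := by
  haveI : M.IsQuasicoherent := hM.1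
  haveI : SheafOfModules.IsFiniteType (R := X.ringCatSheaf) M := hM.2
  haveI Q := Groth.Agent.Lib.R2H3.RpushQCohGen.isQuasicoherent_Rpush_of_qcqs f M d
  refine ⟨Q, ?_⟩
  refine Groth.Agent.Lib.Helper23.FinType.isFiniteType_of_open_cover _
    (fun V : Y.affineOpens => V.1) (iSup_affineOpens_eq_top Y) (fun V => ?_)
  haveI := Groth.Agent.Lib.R2H3.RpushRestrict.hasInjectiveResolutions_modules
    ((f ⁻¹ᵁ V.1 : X.Opens) : Scheme.{u})
  obtain ⟨e⟩ := Groth.Agent.Lib.R2H3.RpushRestrict.nonempty_Rpush_restrict_iso f V.1 M d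
  haveI : IsAffine (V.1 : Scheme.{u}) := V.2
  haveI : (M.restrict (f ⁻¹ᵁ V.1).ι).IsQuasicoherent :=
    Scheme.Modules.isQuasicoherent_restrictFunctor (f ⁻¹ᵁ V.1).ι M
  have cM : Coh.IsCoh (M.restrict (f ⁻¹ᵁ V.1).ι) :=
    ⟨inferInstance, Groth.Agent.Lib.Helper23.FinType.isFiniteType_restrict (f ⁻¹ᵁ V.1).ι M⟩
  haveI : IsProper (f ∣_ V.1) := inferInstance
  haveI : LocallyOfFiniteType f := inferInstance
  haveI := isFiniteType_Rpush_top_of_isAffine (f ∣_ V.1) d
    (fibreDimAt_morphismRestrict_le f d (fibreDimAt_le_of_fiber f d hd) V.1) _ cM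
  exact Groth.Agent.Lib.Helper23.FinType.isFiniteType_of_iso e.symm

end Groth.Agent.Lib.R2H3.FibDimLimG
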