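import Mathlib

/-!
# Containment in an ideal with flat quotient can be checked on fibres (reduced Noetherian base)

* `tmul_one_eq_zero_of_fibre`: `B ⧸ I'` flat over `A`, `a : B` whose image in a fibre
  `B ⊗ K` (`K` a field with `ker (A → K) = p`) lies in `I' (B ⊗ K)`: then the class of `a` dies in
  `(B ⧸ I') ⊗ κ(p)`.
* `eq_zero_of_forall_tmul_residueField`: over a reduced Noetherian ring an element of a flat module
  which dies in all fibres is zero.
-/

set_option autoImplicit false
set_option linter.style.haveILetI false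
set_option linter.unusedVariables false
set_option linter.unusedSectionVars false
universe u
open TensorProduct

namespace Groth.Agent.Lib.R2H3.FibreLeAlg

theorem tmul_one_eq_zero_of_fibre (A B : Type u) [CommRing A] [CommRing B] [Algebra A B]
    (I' : Ideal B) [Module.Flat A (B ⧸ I')] (a : B) (p : Ideal A) [p.IsPrime]
    (K BK : Type u) [CommRing K] (hK : IsField K) [CommRing BK] [Algebra A K] [Algebra K BK]
    [Algebra B BK] [Algebra A BK] [IsScalarTower A K BK] [IsScalarTower A B BK]
    [Algebra.IsPushout A K B BK] (hker : RingHom.ker (algebraMap A K) = p)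
    (ha : algebraMap B BK a ∈ I'.map (algebraMap B BK)) :
    (Ideal.Quotient.mk I' a) ⊗ₜ[A] (1 : p.ResidueField) = (0 : (B ⧸ I') ⊗[A] p.ResidueField) := by
  classical
  haveI : Nontrivial K := hK.nontrivial
  have hbc : IsBaseChange K (IsScalarTower.toAlgHom A B BK).toLinearMap := Algebra.IsPushout.out
  let g₀ : B →ₗ[A] K ⊗[A] (B ⧸ I') :=
    (TensorProduct.mk A K (B ⧸ I') 1).comp (Ideal.Quotient.mkₐ A I').toLinearMap
  let θ : BK →ₗ[K] K ⊗[A] (B ⧸ I') := hbc.lift g₀
  have hθ : ∀ b : B, θ (algebraMap B BK b) = 1 ⊗ₜ Ideal.Quotient.mk I' b :=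
    fun b => hbc.lift_eq g₀ b
  have hkill : ∀ i ∈ I', ∀ y : BK, θ (y * algebraMap B BK i) = 0 := by
    intro i hi y
    refine hbc.inductionOn y (fun y => θ (y * algebraMap B BK i) = 0) ?_ ?_ ?_ ?_
    · simp
    · intro b
      change θ (algebraMap B BK b * algebraMap B BK i) = 0
      rw [← map_mul, hθ, Ideal.Quotient.eq_zero_iff_mem.2 (I'.mul_mem_left b hi), tmul_zero]
    · intro k y ih
      rw [smul_mul_assoc, map_smul, ih, smul_zero]
    · intro y₁ y₂ h₁ h₂
      rw [add_mul, map_add, h₁, h₂, add_zero]
  have hall : ∀ x ∈ I'.map (algebraMap B BK), ∀ y : BK, θ (y * x) = 0 := by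
    intro x hx
    induction hx using Submodule.span_induction with
    | mem x hx =>
      obtain ⟨i, hi, rfl⟩ := hx
      exact hkill i hi
    | zero => intro y; simp
    | add x y _ _ hx hy => intro z; rw [mul_add, map_add, hx, hy, add_zero]
    | smul r x _ hx => intro z; rw [smul_eq_mul, ← mul_assoc]; exact hx _
  have hθa : (1 : K) ⊗ₜ[A] Ideal.Quotient.mk I' a = 0 := by
    rw [← hθ]
    have := hall _ ha 1
    rwa [one_mul] at this
  have hK0 : (Ideal.Quotient.mk I' a) ⊗ₜ[A] (1 : K) = 0 := by
    have := congrArg (TensorProduct.comm A K (B ⧸ I')) hθa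
    rwa [TensorProduct.comm_tmul, map_zero] at this
  have hf₁ : p ≤ RingHom.ker (Algebra.ofId A K) := by
    intro x hx
    rw [← hker] at hx
    exact hx
  have hf₂ : p.primeCompl ≤ (IsUnit.submonoid K).comap (Algebra.ofId A K) := by
    intro x hx
    have hx0 : algebraMap A K x ≠ 0 := by
      intro h0
      apply hx
      rw [← hker]
      exact h0
    obtain ⟨y, hy⟩ := hK.mul_inv_cancel hx0
    exact IsUnit.of_mul_eq_one y hy
  let ι : p.ResidueField →ₐ[A] K := Ideal.ResidueField.liftₐ p (Algebra.ofId A K) hf₁ hf₂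
  have hinj : Function.Injective (ι.toLinearMap.lTensor (B ⧸ I')) :=
    Module.Flat.lTensor_preserves_injective_linearMap ι.toLinearMap ι.toRingHom.injective
  apply hinj
  rw [map_zero, LinearMap.lTensor_tmul]
  change (Ideal.Quotient.mk I' a) ⊗ₜ[A] (ι 1) = 0
  rw [map_one]
  exact hK0

theorem eq_zero_of_forall_tmul_residueField (A : Type u) [CommRing A] [IsNoetherianRing A]
    [IsReduced A] (C : Type u) [AddCommGroup C] [Module A C] [Module.Flat A C] (c : C)
    (h : ∀ (p : Ideal A) [p.IsPrime], c ⊗ₜ[A] (1 : p.ResidueField) = 0) : c = 0 := by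
  classical
  have hfin : (minimalPrimes A).Finite := minimalPrimes.finite_of_isNoetherianRing A
  haveI : Fintype (minimalPrimes A) := hfin.fintype
  haveI hprime : ∀ p : minimalPrimes A, p.1.IsPrime := fun p => p.2.1.1
  let j : A →ₗ[A] (∀ p : minimalPrimes A, p.1.ResidueField) :=
    LinearMap.pi (fun p => Algebra.linearMap A p.1.ResidueField)
  have hj : Function.Injective j := by
    rw [injective_iff_map_eq_zero]
    intro r hr
    have h1 : ∀ p : minimalPrimes A, r ∈ p.1 := by
      intro p
      have : algebraMap A p.1.ResidueField r = 0 := congrFun hr p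
      rwa [Ideal.algebraMap_residueField_eq_zero] at this
    have h2 : r ∈ sInf (minimalPrimes A) := by
      rw [Submodule.mem_sInf]
      intro p hp
      exact h1 ⟨p, hp⟩
    have h3 : sInf (minimalPrimes A) = (⊥ : Ideal A) := by
      rw [minimalPrimes, Ideal.sInf_minimalPrimes]
      exact nilradical_eq_zero A
    rw [h3] at h2
    exact h2
  have hinj := Module.Flat.lTensor_preserves_injective_linearMap (M := C) j hj
  have h3 : (j.lTensor C) (c ⊗ₜ 1) = 0 := by
    apply (TensorProduct.piRight A A C (fun p : minimalPrimes A => p.1.ResidueField)).injective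
    rw [map_zero, LinearMap.lTensor_tmul, TensorProduct.piRight_apply,
      TensorProduct.piRightHom_tmul]
    funext p
    change c ⊗ₜ[A] (algebraMap A p.1.ResidueField 1) = 0
    rw [map_one]
    exact h p.1
  have h4 : c ⊗ₜ[A] (1 : A) = 0 := hinj (by rw [h3, map_zero])
  have := congrArg (TensorProduct.rid A C) h4
  simpa using this

end Groth.Agent.Lib.R2H3.FibreLeAlg
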