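import Mathlib
import Groth.Agent.Lib.R2H3FibreLeAlg
import Groth.Agent.Lib.R2H3RelCartier

/-!
# Containment of ideal sheaves from the fibres over a reduced locally Noetherian base

`le_of_forall_fibre_le`: `S` reduced and locally Noetherian, `φ : X ⟶ S` any morphism, `D`, `D'`
quasi-coherent ideal sheaves on `X` with `V(D')` flat over `S`. If `D O_{X_s} ≤ D' O_{X_s}` on all
fibres then `D ≤ D'`.
-/

set_option autoImplicit false
set_option linter.style.haveILetI false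
set_option linter.unusedVariables false
set_option linter.unusedSectionVars false
universe u
open CategoryTheory Limits AlgebraicGeometry TopologicalSpace Opposite TensorProduct

namespace Groth.Agent.Lib.R2H3.FibreLe

open Groth.Agent.Lib.Helper2 Groth.Agent.Lib.Helper2.PullbackSec Groth.Agent.Lib.Helper2.FlatOver
open Groth.Agent.Lib.R2H3.UnivInj Groth.Agent.Lib.R2H3.FibreLeAlg
open Groth.Agent.Lib.Helper20

variable {X S : Scheme.{u}} [IsLocallyNoetherian S] [AlgebraicGeometry.IsReduced S] (φ : X ⟶ S)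
  (D D' : X.IdealSheafData) [Flat (D'.subschemeι ≫ φ)]

theorem ideal_le_of_forall_fibre_le
    (hfib : ∀ s : S, D.comap (pullback.fst φ (S.fromSpecResidueField s)) ≤
      D'.comap (pullback.fst φ (S.fromSpecResidueField s)))
    {V₀ : S.Opens} {W : X.Opens} (hV₀ : IsAffineOpen V₀) (hW : IsAffineOpen W)
    (eU : W ≤ φ ⁻¹ᵁ V₀) : D.ideal ⟨W, hW⟩ ≤ D'.ideal ⟨W, hW⟩ := by
  intro a haD
  letI aAB : Algebra Γ(S, V₀) Γ(X, W) := (φ.appLE V₀ W eU).hom.toAlgebra
  haveI : IsNoetherianRing Γ(S, V₀) := IsLocallyNoetherian.component_noetherian ⟨V₀, hV₀⟩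
  haveI : _root_.IsReduced Γ(S, V₀) := inferInstance
  haveI hfl : Module.Flat Γ(S, V₀) (Γ(X, W) ⧸ D'.ideal ⟨W, hW⟩) :=
    RelCartier.flat_quotient_of_flat φ D' hV₀ hW eU
  have hz : ∀ (p : Ideal Γ(S, V₀)) [p.IsPrime],
      (Ideal.Quotient.mk (D'.ideal ⟨W, hW⟩) a) ⊗ₜ[Γ(S, V₀)] (1 : p.ResidueField) = 0 := by
    intro p hp
    classical
    let q : PrimeSpectrum Γ(S, V₀) := ⟨p, hp⟩
    let s : S := hV₀.fromSpec q
    have hsV₀ : s ∈ V₀ := QCoh.fromSpec_mem hV₀ q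
    let g : Spec (S.residueField s) ⟶ S := S.fromSpecResidueField s
    let g' : φ.fiber s ⟶ X := φ.fiberι s
    let f' : φ.fiber s ⟶ Spec (S.residueField s) := pullback.snd φ g
    have hc : IsPullback g' f' φ g := IsPullback.of_hasPullback φ g
    have hV₁ : IsAffineOpen (⊤ : (Spec (S.residueField s)).Opens) := isAffineOpen_top _
    have eV' : (⊤ : (Spec (S.residueField s)).Opens) ≤ g ⁻¹ᵁ V₀ := by
      intro z _
      change g z ∈ V₀
      rw [Scheme.fromSpecResidueField_apply]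
      exact hsV₀
    set W' : (φ.fiber s).Opens := g' ⁻¹ᵁ W ⊓ f' ⁻¹ᵁ ⊤ with hW'def
    have hW' : IsAffineOpen W' := isAffineOpen_inf_preimage hc eV' eU hV₀ hV₁ hW
    have e1 : W' ≤ g' ⁻¹ᵁ W := inf_le_left
    have e2 : W' ≤ f' ⁻¹ᵁ ⊤ := inf_le_right
    letI aAK : Algebra Γ(S, V₀) Γ(Spec (S.residueField s), ⊤) := (g.appLE V₀ ⊤ eV').hom.toAlgebra
    letI aBB' : Algebra Γ(X, W) Γ(φ.fiber s, W') := (g'.appLE W W' e1).hom.toAlgebra
    letI aKB' : Algebra Γ(Spec (S.residueField s), ⊤) Γ(φ.fiber s, W') :=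
      (f'.appLE ⊤ W' e2).hom.toAlgebra
    letI aAB' : Algebra Γ(S, V₀) Γ(φ.fiber s, W') :=
      ((g'.appLE W W' e1).hom.comp (φ.appLE V₀ W eU).hom).toAlgebra
    haveI tABB' : IsScalarTower Γ(S, V₀) Γ(X, W) Γ(φ.fiber s, W') :=
      IsScalarTower.of_algebraMap_eq (fun a => rfl)
    haveI tAKB' : IsScalarTower Γ(S, V₀) Γ(Spec (S.residueField s), ⊤) Γ(φ.fiber s, W') := by
      refine IsScalarTower.of_algebraMap_eq (fun a => ?_)
      change (g'.appLE W W' e1).hom ((φ.appLE V₀ W eU).hom a) =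
        (f'.appLE ⊤ W' e2).hom ((g.appLE V₀ ⊤ eV').hom a)
      have h1 := Scheme.Hom.appLE_comp_appLE g' φ V₀ W W' eU e1
      have h2 := Scheme.Hom.appLE_comp_appLE f' g V₀ ⊤ W' eV' e2
      have h3 : (φ.appLE V₀ W eU ≫ g'.appLE W W' e1) = (g.appLE V₀ ⊤ eV' ≫ f'.appLE ⊤ W' e2) := by
        rw [h1, h2]
        congr 1
        exact hc.w
      exact congrArg (fun ψ => ψ.hom a) h3
    haveI hPO : Algebra.IsPushout Γ(S, V₀) Γ(Spec (S.residueField s), ⊤) Γ(X, W)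
        Γ(φ.fiber s, W') := algebra_isPushout hc eV' eU hV₀ hV₁ hW e1 e2
    have hK : IsField Γ(Spec (S.residueField s), ⊤) :=
      MulEquiv.isField (Field.toIsField (S.residueField s))
        (Scheme.ΓSpecIso (S.residueField s)).commRingCatIsoToRingEquiv.toMulEquiv
    have hker : RingHom.ker (algebraMap Γ(S, V₀) Γ(Spec (S.residueField s), ⊤)) = p := by
      ext a
      rw [RingHom.mem_ker]
      change (g.appLE V₀ ⊤ eV').hom a = 0 ↔ a ∈ p
      rw [appLE_fromSpecResidueField_eq_zero_iff s eV' a, QCoh.mem_basicOpen_fromSpec_iff hV₀ q a]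
      simp [q]
    refine tmul_one_eq_zero_of_fibre Γ(S, V₀) Γ(X, W) (D'.ideal ⟨W, hW⟩) a p
      Γ(Spec (S.residueField s), ⊤) Γ(φ.fiber s, W') hK hker ?_
    have h1 := EffCartier.ideal_comap_eq_map g' D hW' hW e1
    have h2 := EffCartier.ideal_comap_eq_map g' D' hW' hW e1
    have h3 : (D.comap g').ideal ⟨W', hW'⟩ ≤ (D'.comap g').ideal ⟨W', hW'⟩ := hfib s ⟨W', hW'⟩
    rw [h1, h2] at h3
    exact h3 (Ideal.mem_map_of_mem _ haD)
  have := eq_zero_of_forall_tmul_residueField Γ(S, V₀) (Γ(X, W) ⧸ D'.ideal ⟨W, hW⟩) _ hz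
  exact Ideal.Quotient.eq_zero_iff_mem.1 this

theorem le_of_forall_fibre_le
    (hfib : ∀ s : S, D.comap (pullback.fst φ (S.fromSpecResidueField s)) ≤
      D'.comap (pullback.fst φ (S.fromSpecResidueField s))) : D ≤ D' := by
  refine Scheme.IdealSheafData.le_of_iSup_eq_top
    (ι := {W : X.affineOpens // ∃ V₀ : S.affineOpens, W.1 ≤ φ ⁻¹ᵁ V₀.1}) (fun W => W.1) ?_ ?_
  · rw [eq_top_iff]
    intro x _
    obtain ⟨W, V₀, hW, hV₀, hxW, eU⟩ := exists_affine_nhds φ x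
    exact Opens.mem_iSup.2 ⟨⟨⟨W, hW⟩, ⟨V₀, hV₀⟩, eU⟩, hxW⟩
  · rintro ⟨W, V₀, eU⟩
    exact ideal_le_of_forall_fibre_le φ D D' hfib V₀.2 W.2 eU

end Groth.Agent.Lib.R2H3.FibreLe
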