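import Mathlib
import Groth.Agent.Lib.R2H3FlatSyz
import Groth.Agent.Lib.Helper3FibreFree
import Groth.Agent.Lib.Helper28Hull2

/-!
# Projective dimension and fibres (helper3, round 2) — EGA IV 11.3.?-type statements

`A → B` flat of finite presentation, `M` a finitely presented `B`-module flat over `A`.
* `pdLT_baseChange`: `pd_{B ⊗ A'} (B ⊗ A') ⊗[B] M ≤ pd_B M` for every `A`-algebra `A'`.
* `pdLT_of_fibres`: if `pd` of all fibres `(B ⊗ κ(p)) ⊗[B] M` is `< n` then `pd_B M < n`.
-/

set_option autoImplicit false
set_option linter.style.haveILetI false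
set_option linter.unusedVariables false
set_option linter.unusedSectionVars false

universe u
open TensorProduct CategoryTheory CategoryTheory.Limits

namespace Groth.Agent.Lib.R2H3.FibrePd

open Groth.Agent.Lib.R2H3.FlatSyz

section FibreSES

attribute [local instance] Algebra.TensorProduct.rightAlgebra

variable (A B : Type u) [CommRing A] [CommRing B] [Algebra A B] (A' : Type u) [CommRing A']
  [Algebra A A']
  {F M : Type u} [AddCommGroup F] [Module B F] [Module A F] [IsScalarTower A B F]
  [AddCommGroup M] [Module B M] [Module A M] [IsScalarTower A B M] [Module.Flat A M]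

/-- Base change to a "fibre" `B ⊗[A] A'` keeps the kernel of a surjection onto an `A`-flat module
injective. -/
theorem baseChange_subtype_injective (π : F →ₗ[B] M) (hπ : Function.Surjective π) :
    Function.Injective ((LinearMap.ker π).subtype.baseChange (B ⊗[A] A')) := by
  have := lTensor_injective_of_flat_coker A A' B (B ⊗[A] A') (LinearMap.ker π).subtype π
    (Submodule.injective_subtype _) hπ (LinearMap.exact_subtype_ker_map π)
  exact this

/-- The kernel of the base change is the base change of the kernel. -/
noncomputable def kerBaseChangeEquiv (π : F →ₗ[B] M) (hπ : Function.Surjective π) :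
    (B ⊗[A] A') ⊗[B] (LinearMap.ker π) ≃ₗ[B ⊗[A] A'] LinearMap.ker (π.baseChange (B ⊗[A] A')) := by
  have hex : Function.Exact ((LinearMap.ker π).subtype.baseChange (B ⊗[A] A'))
      (π.baseChange (B ⊗[A] A')) :=
    lTensor_exact (B ⊗[A] A') (LinearMap.exact_subtype_ker_map π) hπ
  refine LinearEquiv.ofBijective (LinearMap.codRestrict _
    ((LinearMap.ker π).subtype.baseChange (B ⊗[A] A')) (fun t => hex.apply_apply_eq_zero t)) ⟨?_, ?_⟩
  · intro x y hxy
    exact baseChange_subtype_injective A B A' π hπ (congrArg Subtype.val hxy)
  · rintro ⟨x, hx⟩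
    obtain ⟨t, ht⟩ := (hex x).1 hx
    exact ⟨t, Subtype.ext ht⟩

end FibreSES

section BaseChange

variable (A B : Type u) [CommRing A] [CommRing B] [Algebra A B] [Module.Flat A B] (A' : Type u)
  [CommRing A'] [Algebra A A']

/-- **Projective dimension does not increase on fibres** (for modules flat over the base). -/
theorem pdLT_baseChange (n : ℕ) :
    ∀ (M : Type u) [AddCommGroup M] [Module B M] [Module A M] [IsScalarTower A B M]
      [Module.Flat A M], HasProjectiveDimensionLT (ModuleCat.of B M) n →
      HasProjectiveDimensionLT (ModuleCat.of (B ⊗[A] A') ((B ⊗[A] A') ⊗[B] M)) n := by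
  induction n with
  | zero =>
    intro M _ _ _ _ _ h
    have hz : IsZero (ModuleCat.of B M) := (hasProjectiveDimensionLT_zero_iff_isZero _).1 h
    haveI : Subsingleton M := ModuleCat.subsingleton_of_isZero hz
    have : Subsingleton ((B ⊗[A] A') ⊗[B] M) := by
      refine ⟨fun x y => ?_⟩
      have hz : ∀ z : (B ⊗[A] A') ⊗[B] M, z = 0 := by
        intro z
        induction z using TensorProduct.induction_on with
        | zero => rfl
        | tmul b m => rw [Subsingleton.elim m 0, TensorProduct.tmul_zero]
        | add x y hx hy => rw [hx, hy, add_zero]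
      rw [hz x, hz y]
    exact (ModuleCat.isZero_of_subsingleton _).hasProjectiveDimensionLT_zero
  | succ n ih =>
    intro M _ _ _ _ _ h
    rcases Nat.eq_zero_or_pos n with rfl | hn
    · have hP : Module.Projective B M :=
        (IsProjective.iff_projective M).2 (projective_iff_hasProjectiveDimensionLT_one.2 h)
      exact projective_iff_hasProjectiveDimensionLT_one.1
        ((IsProjective.iff_projective _).1 inferInstance)
    · obtain ⟨m, rfl⟩ : ∃ m, n = m + 1 := ⟨n - 1, by omega⟩
      let π : (M →₀ B) →ₗ[B] M := Finsupp.linearCombination B (id : M → M)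
      have hπ : Function.Surjective π :=
        Finsupp.linearCombination_surjective B Function.surjective_id
      haveI : Module.Flat A (M →₀ B) := Module.Flat.trans A B _
      haveI : Module.Flat A (LinearMap.ker π) := by
        have := Groth.Agent.Lib.Helper1.Tor.flat_ker (R := A) (M' := LinearMap.ker π)
          (M := M →₀ B) (M'' := M) ((LinearMap.ker π).subtype.restrictScalars A)
          (π.restrictScalars A) (Submodule.injective_subtype _) hπ
          (LinearMap.exact_subtype_ker_map π)
        exact this
      have hK : HasProjectiveDimensionLT (ModuleCat.of B (LinearMap.ker π)) (m + 1) :=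
        Groth.Agent.Helper13Ses.pdLT_ker π hπ m h
      have hK' := ih (LinearMap.ker π) hK
      have hK'' : HasProjectiveDimensionLT
          (ModuleCat.of (B ⊗[A] A') (LinearMap.ker (π.baseChange (B ⊗[A] A')))) (m + 1) :=
        hasProjectiveDimensionLT_of_iso (kerBaseChangeEquiv A B A' π hπ).toModuleIso (m + 1)
      have hπ' : Function.Surjective (π.baseChange (B ⊗[A] A')) :=
        LinearMap.lTensor_surjective _ hπ
      have hS := Groth.Agent.Helper13Ses.sesKer_shortExact (π.baseChange (B ⊗[A] A')) hπ'
      exact (hS.hasProjectiveDimensionLT_X₃_iff m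
        ((IsProjective.iff_projective ((B ⊗[A] A') ⊗[B] (M →₀ B))).1 inferInstance)).2 hK''

end BaseChange

section Chain

variable (A : Type u) {B : Type u} [CommRing A] [CommRing B] [Algebra A B] (q : Ideal B) [q.IsPrime]

/-- the ideal `p B_q` of `B_q`, where `p = q ∩ A`. -/
noncomputable abbrev Jq : Ideal (Localization.AtPrime q) :=
  (q.under A).map (algebraMap A (Localization.AtPrime q))

theorem Jq_le_maximalIdeal : Jq A q ≤ IsLocalRing.maximalIdeal (Localization.AtPrime q) := by
  rw [Ideal.map_le_iff_le_comap]
  intro a ha
  rw [Ideal.mem_comap, IsScalarTower.algebraMap_apply A B (Localization.AtPrime q),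
    ← Localization.AtPrime.map_eq_maximalIdeal]
  exact Ideal.mem_map_of_mem _ ha

theorem isUnit_algebraMap_quot (a : A) (ha : a ∉ q.under A) :
    IsUnit (algebraMap A (Localization.AtPrime q ⧸ Jq A q) a) := by
  have h1 : IsUnit (algebraMap B (Localization.AtPrime q) (algebraMap A B a)) :=
    IsLocalization.map_units (Localization.AtPrime q)
      (⟨algebraMap A B a, fun h => ha h⟩ : q.primeCompl)
  have h2 : algebraMap A (Localization.AtPrime q ⧸ Jq A q) a =
      Ideal.Quotient.mk (Jq A q) (algebraMap B (Localization.AtPrime q) (algebraMap A B a)) := by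
    rw [IsScalarTower.algebraMap_apply A (Localization.AtPrime q) (Localization.AtPrime q ⧸ Jq A q),
      IsScalarTower.algebraMap_apply A B (Localization.AtPrime q)]
    rfl
  rw [h2]
  exact h1.map _

/-- `A_p → B_q / p B_q`. -/
noncomputable def locToQuot :
    Localization.AtPrime (q.under A) →ₐ[A] (Localization.AtPrime q ⧸ Jq A q) :=
  IsLocalization.liftAlgHom (M := (q.under A).primeCompl)
    (f := Algebra.ofId A (Localization.AtPrime q ⧸ Jq A q))
    (fun y => isUnit_algebraMap_quot A q y.1 y.2)

theorem locToQuot_maximalIdeal (x : Localization.AtPrime (q.under A))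
    (hx : x ∈ IsLocalRing.maximalIdeal (Localization.AtPrime (q.under A))) :
    locToQuot A q x = 0 := by
  rw [← Localization.AtPrime.map_eq_maximalIdeal] at hx
  have : Ideal.map (algebraMap A (Localization.AtPrime (q.under A))) (q.under A) ≤
      RingHom.ker (locToQuot A q).toRingHom := by
    rw [Ideal.map_le_iff_le_comap]
    intro a ha
    rw [Ideal.mem_comap, RingHom.mem_ker]
    show locToQuot A q (algebraMap A _ a) = 0
    rw [AlgHom.commutes,
      IsScalarTower.algebraMap_apply A (Localization.AtPrime q) (Localization.AtPrime q ⧸ Jq A q),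
      Ideal.Quotient.algebraMap_eq, Ideal.Quotient.eq_zero_iff_mem]
    exact Ideal.mem_map_of_mem _ ha
  exact this hx

/-- `κ(p) → B_q / p B_q`. -/
noncomputable def resToQuot :
    (q.under A).ResidueField →ₐ[A] (Localization.AtPrime q ⧸ Jq A q) :=
  Ideal.Quotient.liftₐ _ (locToQuot A q) (locToQuot_maximalIdeal A q)

/-- `B ⊗ κ(p) → B_q / p B_q`. -/
noncomputable def fibreToQuot :
    (B ⊗[A] (q.under A).ResidueField) →ₐ[B] (Localization.AtPrime q ⧸ Jq A q) :=
  Algebra.TensorProduct.lift (Algebra.ofId B _) (resToQuot A q) (fun _ _ => Commute.all _ _)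

end Chain

section Chain2

variable (A : Type u) {B : Type u} [CommRing A] [CommRing B] [Algebra A B] (q : Ideal B) [q.IsPrime]
  (M : Type u) [AddCommGroup M] [Module B M]

/-- `(B_q / p B_q) ⊗[B] M ≃ M_q / p M_q`. -/
noncomputable def quotEquiv :
    (Localization.AtPrime q ⧸ Jq A q) ⊗[B] M ≃ₗ[Localization.AtPrime q ⧸ Jq A q]
      (LocalizedModule q.primeCompl M ⧸
        Jq A q • (⊤ : Submodule (Localization.AtPrime q) (LocalizedModule q.primeCompl M))) :=
  (AlgebraTensorModule.cancelBaseChange B (Localization.AtPrime q)
      (Localization.AtPrime q ⧸ Jq A q) (Localization.AtPrime q ⧸ Jq A q) M).symm ≪≫ₗ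
    AlgebraTensorModule.congr (LinearEquiv.refl _ _)
      (IsLocalizedModule.isBaseChange q.primeCompl (Localization.AtPrime q)
        (LocalizedModule.mkLinearMap q.primeCompl M)).equiv ≪≫ₗ
    LinearEquiv.extendScalarsOfSurjective Ideal.Quotient.mk_surjective
      (TensorProduct.quotTensorEquivQuotSMul (LocalizedModule q.primeCompl M) (Jq A q))

theorem flat_quot
    (h : Module.Flat (B ⊗[A] (q.under A).ResidueField)
      ((B ⊗[A] (q.under A).ResidueField) ⊗[B] M)) :
    Module.Flat (Localization.AtPrime q ⧸ Jq A q)
      (LocalizedModule q.primeCompl M ⧸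
        Jq A q • (⊤ : Submodule (Localization.AtPrime q) (LocalizedModule q.primeCompl M))) := by
  letI : Algebra (B ⊗[A] (q.under A).ResidueField) (Localization.AtPrime q ⧸ Jq A q) :=
    (fibreToQuot A q).toRingHom.toAlgebra
  haveI : IsScalarTower B (B ⊗[A] (q.under A).ResidueField) (Localization.AtPrime q ⧸ Jq A q) :=
    IsScalarTower.of_algebraMap_eq' (fibreToQuot A q).comp_algebraMap.symm
  have e1 := AlgebraTensorModule.cancelBaseChange B (B ⊗[A] (q.under A).ResidueField)
    (Localization.AtPrime q ⧸ Jq A q) (Localization.AtPrime q ⧸ Jq A q) M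
  haveI : Module.Flat (Localization.AtPrime q ⧸ Jq A q)
      ((Localization.AtPrime q ⧸ Jq A q) ⊗[B ⊗[A] (q.under A).ResidueField]
        ((B ⊗[A] (q.under A).ResidueField) ⊗[B] M)) := Module.Flat.baseChange _ _ _
  exact Module.Flat.of_linearEquiv ((quotEquiv A q M).symm ≪≫ₗ e1.symm)

theorem subsingleton_quot
    (h : Subsingleton ((B ⊗[A] (q.under A).ResidueField) ⊗[B] M)) :
    Subsingleton (LocalizedModule q.primeCompl M ⧸
        Jq A q • (⊤ : Submodule (Localization.AtPrime q) (LocalizedModule q.primeCompl M))) := by
  letI : Algebra (B ⊗[A] (q.under A).ResidueField) (Localization.AtPrime q ⧸ Jq A q) :=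
    (fibreToQuot A q).toRingHom.toAlgebra
  haveI : IsScalarTower B (B ⊗[A] (q.under A).ResidueField) (Localization.AtPrime q ⧸ Jq A q) :=
    IsScalarTower.of_algebraMap_eq' (fibreToQuot A q).comp_algebraMap.symm
  have e1 := AlgebraTensorModule.cancelBaseChange B (B ⊗[A] (q.under A).ResidueField)
    (Localization.AtPrime q ⧸ Jq A q) (Localization.AtPrime q ⧸ Jq A q) M
  have h1 : Subsingleton ((Localization.AtPrime q ⧸ Jq A q) ⊗[B ⊗[A] (q.under A).ResidueField]
        ((B ⊗[A] (q.under A).ResidueField) ⊗[B] M)) := by
    refine ⟨fun x y => ?_⟩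
    have hz : ∀ z : (Localization.AtPrime q ⧸ Jq A q) ⊗[B ⊗[A] (q.under A).ResidueField]
        ((B ⊗[A] (q.under A).ResidueField) ⊗[B] M), z = 0 := by
      intro z
      induction z using TensorProduct.induction_on with
      | zero => rfl
      | tmul b m => rw [Subsingleton.elim m 0, TensorProduct.tmul_zero]
      | add x y hx hy => rw [hx, hy, add_zero]
    rw [hz x, hz y]
  exact ((quotEquiv A q M).symm ≪≫ₗ e1.symm).injective.subsingleton

end Chain2


section Fibres

variable (A B : Type u) [CommRing A] [CommRing B] [Algebra A B]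
  (M : Type u) [AddCommGroup M] [Module B M] [Module A M] [IsScalarTower A B M]

theorem subsingleton_localizedModule_of_fibre [Module.Finite B M] (q : Ideal B) [q.IsPrime]
    (h : Subsingleton ((B ⊗[A] (q.under A).ResidueField) ⊗[B] M)) :
    Subsingleton (LocalizedModule q.primeCompl M) := by
  have h1 := subsingleton_quot A q M h
  have htop : Jq A q • (⊤ : Submodule (Localization.AtPrime q) (LocalizedModule q.primeCompl M)) =
      ⊤ := Submodule.Quotient.subsingleton_iff.1 h1
  have hfg : (⊤ : Submodule (Localization.AtPrime q) (LocalizedModule q.primeCompl M)).FG :=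
    Module.finite_def.1 inferInstance
  have hbot : (⊤ : Submodule (Localization.AtPrime q) (LocalizedModule q.primeCompl M)) = ⊥ :=
    Submodule.eq_bot_of_le_smul_of_le_jacobson_bot (Jq A q) ⊤ hfg (le_of_eq htop.symm)
      (le_trans (Jq_le_maximalIdeal A q) (IsLocalRing.maximalIdeal_le_jacobson ⊥))
  have : Subsingleton (Submodule (Localization.AtPrime q) (LocalizedModule q.primeCompl M)) :=
    subsingleton_iff_bot_eq_top.1 hbot.symm
  exact (Submodule.subsingleton_iff (Localization.AtPrime q)).1 this

/-- If all fibres of a finite module vanish, the module vanishes. -/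
theorem subsingleton_of_fibres [Module.Finite B M]
    (h : ∀ p : PrimeSpectrum A, Subsingleton ((B ⊗[A] p.asIdeal.ResidueField) ⊗[B] M)) :
    Subsingleton M := by
  apply Module.subsingleton_of_localization_maximal (R := B)
    (fun p ↦ LocalizedModule p.primeCompl M) (fun p ↦ LocalizedModule.mkLinearMap p.primeCompl M)
  intro q hq
  haveI := hq.isPrime
  exact subsingleton_localizedModule_of_fibre A B M q (h ⟨q.under A, inferInstance⟩)

/-- **Fibrewise criterion for projectivity**: a finitely presented `B`-module, flat over `A`, all of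
whose fibres are flat over the fibre rings, is projective. -/
theorem projective_of_fibres [Module.FinitePresentation B M] [Module.Flat A M]
    (h : ∀ p : PrimeSpectrum A, Module.Flat (B ⊗[A] p.asIdeal.ResidueField)
      ((B ⊗[A] p.asIdeal.ResidueField) ⊗[B] M)) :
    Module.Projective B M := by
  haveI : Module.Flat B M := by
    apply Module.flat_of_localized_maximal
    intro q hq
    haveI := hq.isPrime
    haveI : Module.Flat A (LocalizedModule q.primeCompl M) :=
      Groth.Agent.Lib.Helper28.flat_localizedModule_of_flat q.primeCompl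
    have hflat := flat_quot A q M (h ⟨q.under A, inferInstance⟩)
    haveI : Module.Free (Localization.AtPrime q) (LocalizedModule q.primeCompl M) :=
      Groth.Agent.Lib.Helper3.FibreFree.free_of_flat_of_flat_quotient (q.under A)
        (Jq_le_maximalIdeal A q) hflat
    exact Module.Flat.trans B (Localization.AtPrime q) _
  exact Module.Flat.projective_of_finitePresentation

end Fibres

section Main

variable (A B : Type u) [CommRing A] [CommRing B] [Algebra A B] [Algebra.FinitePresentation A B]
  [Module.Flat A B]

/-- **Projective dimension is bounded by that of the fibres.** -/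
theorem pdLT_of_fibres (n : ℕ) :
    ∀ (M : Type u) [AddCommGroup M] [Module B M] [Module A M] [IsScalarTower A B M]
      [Module.FinitePresentation B M] [Module.Flat A M],
      (∀ p : PrimeSpectrum A, HasProjectiveDimensionLT
        (ModuleCat.of (B ⊗[A] p.asIdeal.ResidueField)
          ((B ⊗[A] p.asIdeal.ResidueField) ⊗[B] M)) n) →
      HasProjectiveDimensionLT (ModuleCat.of B M) n := by
  induction n with
  | zero =>
    intro M _ _ _ _ _ _ h
    haveI : Subsingleton M := subsingleton_of_fibres A B M fun p =>
      ModuleCat.subsingleton_of_isZero ((hasProjectiveDimensionLT_zero_iff_isZero _).1 (h p))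
    exact (ModuleCat.isZero_of_subsingleton _).hasProjectiveDimensionLT_zero
  | succ n ih =>
    intro M _ _ _ _ _ _ h
    rcases Nat.eq_zero_or_pos n with rfl | hn
    · haveI : Module.Projective B M := projective_of_fibres A B M fun p => by
        haveI : Module.Projective (B ⊗[A] p.asIdeal.ResidueField)
            ((B ⊗[A] p.asIdeal.ResidueField) ⊗[B] M) :=
          (IsProjective.iff_projective _).2 (projective_iff_hasProjectiveDimensionLT_one.2 (h p))
        infer_instance
      exact projective_iff_hasProjectiveDimensionLT_one.1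
        ((IsProjective.iff_projective M).1 inferInstance)
    · obtain ⟨m, rfl⟩ : ∃ m, n = m + 1 := ⟨n - 1, by omega⟩
      obtain ⟨k, π, hπ, hfp⟩ := exists_surjective_fp_ker A B M
      haveI := hfp
      haveI : Module.Flat A (Fin k → B) := Module.Flat.trans A B _
      haveI : Module.Flat A (LinearMap.ker π) := by
        have := Groth.Agent.Lib.Helper1.Tor.flat_ker (R := A) (M' := LinearMap.ker π)
          (M := Fin k → B) (M'' := M) ((LinearMap.ker π).subtype.restrictScalars A)
          (π.restrictScalars A) (Submodule.injective_subtype _) hπ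
          (LinearMap.exact_subtype_ker_map π)
        exact this
      have hK : HasProjectiveDimensionLT (ModuleCat.of B (LinearMap.ker π)) (m + 1) := by
        apply ih (LinearMap.ker π)
        intro p
        have hπ' : Function.Surjective (π.baseChange (B ⊗[A] p.asIdeal.ResidueField)) :=
          LinearMap.lTensor_surjective _ hπ
        have h1 : HasProjectiveDimensionLT (ModuleCat.of (B ⊗[A] p.asIdeal.ResidueField)
            (LinearMap.ker (π.baseChange (B ⊗[A] p.asIdeal.ResidueField)))) (m + 1) :=
          Groth.Agent.Helper13Ses.pdLT_ker (π.baseChange (B ⊗[A] p.asIdeal.ResidueField)) hπ' m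
            (h p)
        have e : ModuleCat.of (B ⊗[A] p.asIdeal.ResidueField)
            ((B ⊗[A] p.asIdeal.ResidueField) ⊗[B] (LinearMap.ker π)) ≅
            ModuleCat.of (B ⊗[A] p.asIdeal.ResidueField)
              (LinearMap.ker (π.baseChange (B ⊗[A] p.asIdeal.ResidueField))) :=
          (kerBaseChangeEquiv A B p.asIdeal.ResidueField π hπ).toModuleIso
        exact hasProjectiveDimensionLT_of_iso e.symm (m + 1)
      have hS := Groth.Agent.Helper13Ses.sesKer_shortExact π hπ
      exact (hS.hasProjectiveDimensionLT_X₃_iff m
        ((IsProjective.iff_projective (Fin k → B)).1 inferInstance)).2 hK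

end Main

end Groth.Agent.Lib.R2H3.FibrePd
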