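import Mathlib
import Groth.Prelude.Def_EGA43

/-!
# Ring-level lemmas for the finite base change criterion of universal openness (helper3)

* `exists_curve`: in a Noetherian domain, through a prime `s` containing a nonzero element `ϖ`
  there is a prime `𝔮 ≤ s` avoiding `ϖ` such that `s` is minimal among the primes between `𝔮`
  and `s` containing `ϖ` (a "curve through `s` not contained in `V(ϖ)`").
* `exists_mul_pow_eq_zero`: an element lying in every prime below `𝔓` is nilpotent near `𝔓`.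
* `not_isOpenAt`: a witness against openness at a point of `Spec T → Spec D`.
-/

set_option autoImplicit false
set_option linter.style.haveILetI false
universe u
open TensorProduct

namespace Groth.Agent.Lib.R2H3.FinOpenA

/-- **Curve lemma.** -/
theorem exists_curve {D : Type*} [CommRing D] [IsDomain D] [IsNoetherianRing D] (s : Ideal D)
    [s.IsPrime] (ϖ : D) (_hϖs : ϖ ∈ s) (hϖ0 : ϖ ≠ 0) :
    ∃ 𝔮 : Ideal D, 𝔮.IsPrime ∧ 𝔮 ≤ s ∧ ϖ ∉ 𝔮 ∧
      ∀ Q : Ideal D, Q.IsPrime → 𝔮 ≤ Q → Q ≤ s → ϖ ∈ Q → Q = s := by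
  classical
  let 𝒮 : Set (Ideal D) := {𝔮 | 𝔮.IsPrime ∧ 𝔮 ≤ s ∧ ϖ ∉ 𝔮}
  have hne : 𝒮.Nonempty := ⟨⊥, Ideal.isPrime_bot, bot_le, by simpa using hϖ0⟩
  obtain ⟨𝔮, h𝔮, hmax⟩ := set_has_maximal_iff_noetherian.mpr (inferInstance : IsNoetherian D D) 𝒮 hne
  obtain ⟨h𝔮p, h𝔮s, h𝔮ϖ⟩ := h𝔮
  refine ⟨𝔮, h𝔮p, h𝔮s, h𝔮ϖ, ?_⟩
  intro Q hQp hqQ hQs hϖQ
  by_contra hne'
  have hQlt : Q < s := lt_of_le_of_ne hQs hne'
  -- maximality: primes strictly between contain ϖ
  have hmax' : ∀ Q' : Ideal D, Q'.IsPrime → 𝔮 < Q' → Q' ≤ s → ϖ ∈ Q' := by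
    intro Q' hQ'p hlt hle
    by_contra hn
    exact hmax Q' ⟨hQ'p, hle, hn⟩ hlt
  let I : Ideal D := 𝔮 ⊔ Ideal.span {ϖ}
  have hIQ : I ≤ Q := sup_le hqQ ((Ideal.span_singleton_le_iff_mem _).mpr hϖQ)
  obtain ⟨P, hP, hPQ⟩ := Ideal.exists_minimalPrimes_le hIQ
  have hfin : I.minimalPrimes.Finite := Ideal.finite_minimalPrimes_of_isNoetherianRing D I
  -- prime avoidance
  have havoid : ¬ ((s : Set D) ⊆ ⋃ P' ∈ (↑hfin.toFinset : Set (Ideal D)), (P' : Set D)) := by
    intro hsub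
    rw [Ideal.subset_union_prime (f := fun P' : Ideal D => P') P P
      (fun P' hP' _ _ => (hfin.mem_toFinset.mp hP').1.1)] at hsub
    obtain ⟨P', hP', hsP'⟩ := hsub
    have hP'm := hfin.mem_toFinset.mp hP'
    have h1 : P ≤ P' := hPQ.trans (hQs.trans hsP')
    have h2 : P' ≤ P := hP'm.2 hP.1 h1
    exact absurd (hsP'.trans h2) (not_le_of_gt (lt_of_le_of_lt hPQ hQlt))
  rw [Set.not_subset] at havoid
  obtain ⟨h, hhs, hhn⟩ := havoid
  have hh : ∀ P' ∈ I.minimalPrimes, h ∉ P' := by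
    intro P' hP' hmem
    apply hhn
    simp only [Set.mem_iUnion]
    exact ⟨P', hfin.mem_toFinset.mpr hP', hmem⟩
  have hJs : 𝔮 ⊔ Ideal.span {h} ≤ s := sup_le h𝔮s ((Ideal.span_singleton_le_iff_mem _).mpr hhs)
  obtain ⟨Q', hQ', hQ's⟩ := Ideal.exists_minimalPrimes_le hJs
  have hQ'p : Q'.IsPrime := hQ'.1.1
  have hqQ' : 𝔮 ≤ Q' := le_sup_left.trans hQ'.1.2
  have hhQ' : h ∈ Q' := hQ'.1.2 (Ideal.mem_sup_right (Ideal.mem_span_singleton_self h))
  have hhq : h ∉ 𝔮 := fun hm => hh P hP (hP.1.2 (Ideal.mem_sup_left hm))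
  have hlt : 𝔮 < Q' := lt_of_le_of_ne hqQ' (fun e => hhq (e ▸ hhQ'))
  have hϖQ' : ϖ ∈ Q' := hmax' Q' hQ'p hlt hQ's
  have hIQ' : I ≤ Q' := sup_le hqQ' ((Ideal.span_singleton_le_iff_mem _).mpr hϖQ')
  obtain ⟨P', hP', hP'Q'⟩ := Ideal.exists_minimalPrimes_le hIQ'
  have hP'p : P'.IsPrime := hP'.1.1
  have hqP' : 𝔮 ≤ P' := le_sup_left.trans hP'.1.2
  have hϖP' : ϖ ∈ P' := hP'.1.2 (Ideal.mem_sup_right (Ideal.mem_span_singleton_self ϖ))
  have hltP' : 𝔮 < P' := lt_of_le_of_ne hqP' (fun e => h𝔮ϖ (e ▸ hϖP'))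
  have hht : (Q'.map (Ideal.Quotient.mk 𝔮)).height ≤ 1 :=
    Ideal.map_height_le_one_of_mem_minimalPrimes hQ'
  by_cases hPQ' : P' = Q'
  · exact hh P' hP' (hPQ' ▸ hhQ')
  have hlt2 : P' < Q' := lt_of_le_of_ne hP'Q' hPQ'
  -- pass to the quotient
  let f := Ideal.Quotient.mk 𝔮
  have hf : Function.Surjective f := Ideal.Quotient.mk_surjective
  have hker : RingHom.ker f = 𝔮 := Ideal.mk_ker
  have hP'bar : (P'.map f).IsPrime := Ideal.map_isPrime_of_surjective hf (hker.le.trans hqP')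
  have hQ'bar : (Q'.map f).IsPrime := Ideal.map_isPrime_of_surjective hf (hker.le.trans hqQ')
  have hc1 : (P'.map f).comap f = P' := by
    rw [Ideal.comap_map_of_surjective f hf, ← RingHom.ker_eq_comap_bot, hker]
    exact sup_eq_left.mpr hqP'
  have hc2 : (Q'.map f).comap f = Q' := by
    rw [Ideal.comap_map_of_surjective f hf, ← RingHom.ker_eq_comap_bot, hker]
    exact sup_eq_left.mpr hqQ'
  have hlt3 : P'.map f < Q'.map f := by
    refine lt_of_le_of_ne (Ideal.map_mono hlt2.le) (fun e => ?_)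
    have := congrArg (Ideal.comap f) e
    rw [hc1, hc2] at this
    exact hPQ' this
  have hlt4 : (⊥ : Ideal (D ⧸ 𝔮)) < P'.map f := by
    refine lt_of_le_of_ne bot_le (fun e => ?_)
    have := congrArg (Ideal.comap f) e
    rw [hc1, ← RingHom.ker_eq_comap_bot, hker] at this
    exact hltP'.ne this
  haveI : (⊥ : Ideal (D ⧸ 𝔮)).IsPrime := Ideal.isPrime_bot
  have h5 : (⊥ : Ideal (D ⧸ 𝔮)).height < (P'.map f).height :=
    Ideal.height_strict_mono_of_isPrime hlt4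
  have h6 : (P'.map f).height < (Q'.map f).height := Ideal.height_strict_mono_of_isPrime hlt3
  have h7 : (1 : ℕ∞) ≤ (P'.map f).height := Order.one_le_iff_pos.mpr (lt_of_le_of_lt bot_le h5)
  have h8 : (1 : ℕ∞) < (Q'.map f).height := lt_of_le_of_lt h7 h6
  exact absurd hht (not_le_of_gt h8)

/-- An element lying in all primes below `𝔓` is nilpotent in a neighbourhood of `𝔓`. -/
theorem exists_mul_pow_eq_zero {S : Type*} [CommRing S] (𝔓 : Ideal S) [𝔓.IsPrime] (a : S)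
    (h : ∀ 𝔔 : Ideal S, 𝔔.IsPrime → 𝔔 ≤ 𝔓 → a ∈ 𝔔) : ∃ b ∉ 𝔓, ∃ N : ℕ, a ^ N * b = 0 := by
  let L := Localization.AtPrime 𝔓
  have hnil : IsNilpotent (algebraMap S L a) := by
    rw [nilpotent_iff_mem_prime]
    intro J hJ
    have h1 : (J.comap (algebraMap S L)).IsPrime := Ideal.comap_isPrime _ _
    have h2 : J.comap (algebraMap S L) ≤ 𝔓 := by
      intro x hx
      by_contra hx'
      have hu : IsUnit (algebraMap S L x) :=
        IsLocalization.map_units L (⟨x, hx'⟩ : 𝔓.primeCompl)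
      exact hJ.ne_top (Ideal.eq_top_of_isUnit_mem _ hx hu)
    exact h _ h1 h2
  obtain ⟨N, hN⟩ := hnil
  rw [← map_pow, IsLocalization.map_eq_zero_iff 𝔓.primeCompl L] at hN
  obtain ⟨m, hm⟩ := hN
  exact ⟨m.1, m.2, N, by rw [mul_comm]; exact hm⟩

open EGA43 PrimeSpectrum in
/-- A witness against openness at a point. -/
theorem not_isOpenAt {D T : Type*} [CommRing D] [IsDomain D] [CommRing T] [Algebra D T]
    (w : PrimeSpectrum T) (ϖ : D) (hϖ : ϖ ≠ 0) (b : T) (hb : b ∉ w.asIdeal) (N : ℕ)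
    (h0 : algebraMap D T ϖ ^ N * b = 0) : ¬ IsOpenAt (comap (algebraMap D T)) w := by
  intro hopen
  have hU : (basicOpen b : Set (PrimeSpectrum T)) ∈ nhds w :=
    (basicOpen b).isOpen.mem_nhds hb
  have h1 := hopen _ hU
  let η : PrimeSpectrum D := ⟨⊥, Ideal.isPrime_bot⟩
  have hspec : η ⤳ comap (algebraMap D T) w :=
    (PrimeSpectrum.le_iff_specializes η _).mp bot_le
  obtain ⟨O, hO, hOo, hwO⟩ := mem_nhds_iff.mp h1
  have hη : η ∈ O := hspec.mem_open hOo hwO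
  obtain ⟨v, hv, hvη⟩ := hO hη
  have h2 : algebraMap D T ϖ ^ N * b ∈ v.asIdeal := by rw [h0]; exact zero_mem _
  have h3 : algebraMap D T ϖ ∈ v.asIdeal := by
    rcases v.isPrime.mem_or_mem h2 with h | h
    · exact v.isPrime.mem_of_pow_mem _ h
    · exact absurd h hv
  have h4 : ϖ ∈ (comap (algebraMap D T) v).asIdeal := h3
  rw [hvη] at h4
  exact hϖ (by simpa [η] using h4)


/-- Descent of a relation `a ^ N * b = 0` in `A ⊗[R] B` to a finitely generated subalgebra of `A`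
containing a prescribed finite set. -/
theorem exists_fg_subalgebra {R A B : Type*} [CommRing R] [CommRing A] [CommRing B] [Algebra R A]
    [Algebra R B] (b : A ⊗[R] B) (a : A) (N : ℕ)
    (h : (algebraMap A (A ⊗[R] B) a) ^ N * b = 0) (F : Finset A) :
    ∃ (A' : Subalgebra R A), A'.FG ∧ (↑F : Set A) ⊆ A' ∧ ∃ ha : a ∈ A',
      ∃ b' : A' ⊗[R] B, Algebra.TensorProduct.map A'.val (AlgHom.id R B) b' = b ∧
        (algebraMap A' (A' ⊗[R] B) ⟨a, ha⟩) ^ N * b' = 0 := by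
  classical
  obtain ⟨A0, hA0, b0, hb0⟩ := TensorProduct.Algebra.exists_of_fg b
  let A1 : Subalgebra R A := A0 ⊔ Algebra.adjoin R ((insert a F : Finset A) : Set A)
  have hA1 : A1.FG := hA0.sup (Subalgebra.fg_adjoin_finset _)
  have h01 : A0 ≤ A1 := le_sup_left
  have hF1 : ((insert a F : Finset A) : Set A) ⊆ A1 :=
    fun x hx => (le_sup_right : _ ≤ A1) (Algebra.subset_adjoin hx)
  have ha1 : a ∈ A1 := hF1 (by simp)
  let φ01 := Algebra.TensorProduct.map (Subalgebra.inclusion h01) (AlgHom.id R B)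
  let φ1 := Algebra.TensorProduct.map A1.val (AlgHom.id R B)
  let b1 : A1 ⊗[R] B := φ01 b0
  have hb1 : φ1 b1 = b := by
    rw [← hb0]
    have : (φ1.comp φ01) b0 = LinearMap.rTensor B A0.val.toLinearMap b0 := by
      have e : φ1.comp φ01 = Algebra.TensorProduct.map A0.val (AlgHom.id R B) := by
        ext <;> simp [φ1, φ01]
      rw [e]
      rfl
    exact this
  let z : A1 ⊗[R] B := (algebraMap A1 (A1 ⊗[R] B) ⟨a, ha1⟩) ^ N * b1
  have hz : LinearMap.rTensor B A1.val.toLinearMap z = LinearMap.rTensor B A1.val.toLinearMap 0 := by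
    rw [map_zero]
    show φ1 z = 0
    simp only [z, map_mul, map_pow, hb1]
    rw [← h]
    congr 2
  obtain ⟨A2, h12, hA2, h2⟩ := TensorProduct.Algebra.eq_of_fg_of_subtype_eq hA1 hz
  let φ12 := Algebra.TensorProduct.map (Subalgebra.inclusion h12) (AlgHom.id R B)
  let φ2 := Algebra.TensorProduct.map A2.val (AlgHom.id R B)
  have hF2 : ((insert a F : Finset A) : Set A) ⊆ A2 := fun x hx => h12 (hF1 hx)
  have ha2 : a ∈ A2 := h12 ha1
  refine ⟨A2, hA2, fun x hx => hF2 (by simp [hx]), ha2, φ12 b1, ?_, ?_⟩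
  · rw [← hb1]
    have e : φ2.comp φ12 = φ1 := by
      ext <;> simp [φ1, φ12, φ2]
    rw [← e]
    rfl
  · have h3 : φ12 z = 0 := by
      have : φ12 z = LinearMap.rTensor B (Subalgebra.inclusion h12).toLinearMap z := rfl
      rw [this, h2, map_zero]
    simp only [z, map_mul, map_pow] at h3
    rw [← h3]
    congr 2

/-- If `R → A` kills the prime `𝔭` and inverts its complement (so that `A` is an algebra over the
residue field of `𝔭`), then `A ⊗[R] B` is flat over `A`. -/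
theorem flat_tensor_of_ker {R A B : Type u} [CommRing R] [CommRing A] [CommRing B] [Algebra R A]
    [Algebra R B] (𝔭 : Ideal R) [𝔭.IsPrime] (h1 : ∀ c ∈ 𝔭, algebraMap R A c = 0)
    (h2 : ∀ c ∉ 𝔭, IsUnit (algebraMap R A c)) : Module.Flat A (A ⊗[R] B) := by
  let k := 𝔭.ResidueField
  let φk : k →+* A := Ideal.ResidueField.lift 𝔭 (algebraMap R A)
    (fun c hc => h1 c hc) (fun c hc => h2 c hc)
  letI : Algebra k A := φk.toAlgebra
  haveI : IsScalarTower R k A := IsScalarTower.of_algebraMap_eq fun r => by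
    show algebraMap R A r = φk (algebraMap R k r)
    exact (Ideal.ResidueField.lift_algebraMap 𝔭 (algebraMap R A) _ _ r).symm
  let e : A ⊗[k] (k ⊗[R] B) ≃ₗ[A] A ⊗[R] B :=
    TensorProduct.AlgebraTensorModule.cancelBaseChange R k A A B
  exact Module.Flat.of_linearEquiv e.symm

end Groth.Agent.Lib.R2H3.FinOpenA
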