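import Mathlib
import Groth.Prelude.Def_EGA43

/-!
# Point selection in a fibre product of spectra (helper3)

`exists_point`: in `Spec (D ⊗[R] B)` with `D` of finite type over `R`, every open neighbourhood of a
point `𝔓0` contains a point `w` lying over the same point of `Spec B` and whose image in `Spec D`
is closed in its fibre over `Spec R`.
-/

set_option autoImplicit false
set_option linter.style.haveILetI false
universe u
open TensorProduct PrimeSpectrum

namespace Groth.Agent.Lib.R2H3.FinOpenB

/-- Base change of a field extension is open on spectra: `Spec (K ⊗[R] D) → Spec (k ⊗[R] D)`. -/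
theorem isOpenMap_comap_map {R D k K : Type u} [CommRing R] [CommRing D] [Field k] [Field K]
    [Algebra R D] [Algebra R k] [Algebra R K] [Algebra k K] [IsScalarTower R k K] :
    IsOpenMap (comap (Algebra.TensorProduct.map (IsScalarTower.toAlgHom R k K)
      (AlgHom.id R D)).toRingHom :
        PrimeSpectrum (K ⊗[R] D) → PrimeSpectrum (k ⊗[R] D)) := by
  let C := k ⊗[R] D
  let e1 : C ⊗[k] K ≃ₐ[k] K ⊗[k] C := Algebra.TensorProduct.comm k C K
  let e2 : K ⊗[k] (k ⊗[R] D) ≃ₐ[K] K ⊗[R] D := Algebra.TensorProduct.cancelBaseChange R k K K D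
  let ε : C ⊗[k] K ≃+* K ⊗[R] D := e1.toRingEquiv.trans e2.toRingEquiv
  have hcomp : (Algebra.TensorProduct.map (IsScalarTower.toAlgHom R k K)
      (AlgHom.id R D)).toRingHom = ε.toRingHom.comp (algebraMap C (C ⊗[k] K)) := by
    refine RingHom.ext fun c => ?_
    induction c using TensorProduct.induction_on with
    | zero => simp
    | tmul a d =>
      simp only [AlgHom.toRingHom_eq_coe, RingHom.coe_coe, Algebra.TensorProduct.map_tmul,
        IsScalarTower.coe_toAlgHom', AlgHom.coe_id, id_eq, RingEquiv.toRingHom_eq_coe,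
        RingHom.coe_comp, Function.comp_apply]
      show _ = e2 (e1 ((a ⊗ₜ[R] d) ⊗ₜ[k] (1 : K)))
      rw [Algebra.TensorProduct.comm_tmul, Algebra.TensorProduct.cancelBaseChange_tmul,
        Algebra.smul_def, mul_one]
    | add x y hx hy => rw [map_add, map_add, hx, hy]
  rw [hcomp, PrimeSpectrum.comap_comp]
  refine IsOpenMap.comp PrimeSpectrum.isOpenMap_comap_algebraMap_tensorProduct_of_field ?_
  exact (PrimeSpectrum.homeomorphOfRingEquiv ε).symm.isOpenMap


/-- **Point selection.** -/
theorem exists_point {R D B : Type u} [CommRing R] [CommRing D] [CommRing B] [Algebra R D]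
    [Algebra R B] [Algebra.FiniteType R D] (𝔓0 : PrimeSpectrum (D ⊗[R] B))
    (U : Set (PrimeSpectrum (D ⊗[R] B))) (hU : IsOpen U) (h0 : 𝔓0 ∈ U) :
    ∃ w ∈ U,
      comap (Algebra.TensorProduct.includeRight : B →ₐ[R] D ⊗[R] B).toRingHom w =
        comap (Algebra.TensorProduct.includeRight : B →ₐ[R] D ⊗[R] B).toRingHom 𝔓0 ∧
      ∀ s' : PrimeSpectrum D, comap (algebraMap D (D ⊗[R] B)) w ≤ s' →
        comap (algebraMap R D) s' = comap (algebraMap R D) (comap (algebraMap D (D ⊗[R] B)) w) →
        s' = comap (algebraMap D (D ⊗[R] B)) w := by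
  classical
  let T := D ⊗[R] B
  let incR : B →ₐ[R] T := Algebra.TensorProduct.includeRight
  let incL : D →ₐ[R] T := Algebra.TensorProduct.includeLeft
  let p : PrimeSpectrum B := comap incR.toRingHom 𝔓0
  let y : PrimeSpectrum R := comap (algebraMap R B) p
  let K := p.asIdeal.ResidueField
  let k := y.asIdeal.ResidueField
  let ι : k →+* K := Ideal.ResidueField.map y.asIdeal p.asIdeal (algebraMap R B) rfl
  letI : Algebra k K := ι.toAlgebra
  haveI : IsScalarTower R k K := IsScalarTower.of_algebraMap_eq fun r => by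
    show algebraMap R K r = ι (algebraMap R k r)
    rw [Ideal.ResidueField.map_algebraMap]
    exact IsScalarTower.algebraMap_apply R B K r
  let C := k ⊗[R] D
  let F' := K ⊗[R] D
  let μ : C →ₐ[R] F' := Algebra.TensorProduct.map (IsScalarTower.toAlgHom R k K) (AlgHom.id R D)
  have hμ : IsOpenMap (comap μ.toRingHom) := isOpenMap_comap_map
  let θ' : T →ₐ[R] F' := Algebra.TensorProduct.lift
    (Algebra.TensorProduct.includeRight : D →ₐ[R] F')
    ((Algebra.TensorProduct.includeLeft : K →ₐ[R] F').comp (IsScalarTower.toAlgHom R B K))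
    (fun _ _ => Commute.all _ _)
  -- the point `Q0` of `Spec F'` over `𝔓0`
  let L := 𝔓0.asIdeal.ResidueField
  let κL : K →ₐ[R] L := Ideal.ResidueField.mapₐ p.asIdeal 𝔓0.asIdeal incR rfl
  let δ : D →ₐ[R] L := (IsScalarTower.toAlgHom R T L).comp incL
  let π : F' →ₐ[R] L := Algebra.TensorProduct.productMap κL δ
  have hπθ : π.comp θ' = IsScalarTower.toAlgHom R T L := by
    apply Algebra.TensorProduct.ext'
    intro d b
    simp only [AlgHom.coe_comp, Function.comp_apply, θ', Algebra.TensorProduct.lift_tmul, map_mul]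
    rw [Algebra.TensorProduct.includeRight_apply, Algebra.TensorProduct.includeLeft_apply]
    show (κL 1 * δ d) * (κL ((IsScalarTower.toAlgHom R B K) b) * δ 1) = _
    rw [map_one, map_one, one_mul, mul_one]
    have h1 : δ d = algebraMap T L (d ⊗ₜ[R] (1 : B)) := rfl
    have h2 : κL ((IsScalarTower.toAlgHom R B K) b) = algebraMap T L ((1 : D) ⊗ₜ[R] b) := by
      show Ideal.ResidueField.map p.asIdeal 𝔓0.asIdeal _ _ (algebraMap B K b) = _
      rw [Ideal.ResidueField.map_algebraMap]
      rfl
    rw [h1, h2, ← map_mul, Algebra.TensorProduct.tmul_mul_tmul, mul_one, one_mul]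
    rfl
  let Q0 : PrimeSpectrum F' := ⟨RingHom.ker π.toRingHom, RingHom.ker_isPrime _⟩
  have hQ0 : comap θ'.toRingHom Q0 = 𝔓0 := by
    apply PrimeSpectrum.ext
    ext t
    show π (θ' t) = 0 ↔ t ∈ 𝔓0.asIdeal
    have : π (θ' t) = algebraMap T L t := by
      have := congrArg (fun φ : T →ₐ[R] L => φ t) hπθ
      exact this
    rw [this, Ideal.algebraMap_residueField_eq_zero]
  let U' : Set (PrimeSpectrum F') := comap θ'.toRingHom ⁻¹' U
  have hU' : IsOpen U' := hU.preimage (PrimeSpectrum.continuous_comap θ'.toRingHom)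
  have hQ0U' : Q0 ∈ U' := by show comap θ'.toRingHom Q0 ∈ U; rw [hQ0]; exact h0
  let V : Set (PrimeSpectrum C) := comap μ.toRingHom '' U'
  have hV : IsOpen V := hμ _ hU'
  have hVne : V.Nonempty := ⟨_, Q0, hQ0U', rfl⟩
  haveI : Algebra.FiniteType k C := inferInstance
  haveI : IsJacobsonRing C := isJacobsonRing_of_finiteType (A := k)
  obtain ⟨m, hmV, hmcl⟩ := nonempty_inter_closedPoints hVne hV.isLocallyClosed
  obtain ⟨Q, hQU', rfl⟩ := hmV
  have hmax : (comap μ.toRingHom Q).asIdeal.IsMaximal :=
    (PrimeSpectrum.isClosed_singleton_iff_isMaximal _).mp hmcl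
  let w : PrimeSpectrum T := comap θ'.toRingHom Q
  have hwU : w ∈ U := hQU'
  -- `w` lies over `p`
  have hwp : comap incR.toRingHom w = p := by
    have h1 : comap incR.toRingHom w =
        comap (algebraMap B K) (comap (Algebra.TensorProduct.includeLeft : K →ₐ[R] F').toRingHom Q) := by
      rw [← PrimeSpectrum.comap_comp_apply, ← PrimeSpectrum.comap_comp_apply]
      congr 1
      ext b
      show (Algebra.TensorProduct.includeRight : D →ₐ[R] F') 1 *
        ((Algebra.TensorProduct.includeLeft : K →ₐ[R] F').comp (IsScalarTower.toAlgHom R B K)) b =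
          (algebraMap B K b) ⊗ₜ[R] (1 : D)
      rw [map_one, one_mul]
      rfl
    rw [h1]
    have h2 : comap (Algebra.TensorProduct.includeLeft : K →ₐ[R] F').toRingHom Q = ⟨⊥, Ideal.isPrime_bot⟩ :=
      Subsingleton.elim _ _
    rw [h2]
    apply PrimeSpectrum.ext
    show Ideal.comap (algebraMap B K) ⊥ = p.asIdeal
    rw [← RingHom.ker_eq_comap_bot]
    exact Ideal.ker_algebraMap_residueField _
  -- image in `Spec D`
  have hws : comap (algebraMap D T) w =
      comap (Algebra.TensorProduct.includeRight : D →ₐ[R] C).toRingHom (comap μ.toRingHom Q) := by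
    rw [← PrimeSpectrum.comap_comp_apply, ← PrimeSpectrum.comap_comp_apply]
    congr 1
    ext d
    show (Algebra.TensorProduct.includeRight : D →ₐ[R] F') d *
        ((Algebra.TensorProduct.includeLeft : K →ₐ[R] F').comp (IsScalarTower.toAlgHom R B K)) 1 =
          μ ((1 : k) ⊗ₜ[R] d)
    rw [map_one, mul_one]
    show (1 : K) ⊗ₜ[R] d = ((IsScalarTower.toAlgHom R k K) 1) ⊗ₜ[R] ((AlgHom.id R D) d)
    rw [map_one]
    rfl
  have hwy : comap (algebraMap R D) (comap (algebraMap D T) w) = y := by
    show comap (algebraMap R D) (comap (algebraMap D T) w) = comap (algebraMap R B) p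
    rw [← hwp]
    apply PrimeSpectrum.ext
    ext r
    show algebraMap D T (algebraMap R D r) ∈ w.asIdeal ↔ incR (algebraMap R B r) ∈ w.asIdeal
    rw [← IsScalarTower.algebraMap_apply R D T, incR.commutes]
  refine ⟨w, hwU, hwp, ?_⟩
  intro s' hle hs'
  rw [hwy] at hs'
  let iso := PrimeSpectrum.preimageOrderIsoFiber R D y
  let a' : comap (algebraMap R D) ⁻¹' {y} := ⟨s', hs'⟩
  let a : comap (algebraMap R D) ⁻¹' {y} := ⟨comap (algebraMap D T) w, hwy⟩
  have ha : a = iso.symm (comap μ.toRingHom Q) := by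
    apply Subtype.ext
    show comap (algebraMap D T) w = _
    rw [hws]
    rfl
  have hle' : a ≤ a' := hle
  have h3 : iso a ≤ iso a' := iso.le_iff_le.mpr hle'
  rw [ha, OrderIso.apply_symm_apply] at h3
  have h4 : (comap μ.toRingHom Q).asIdeal = (iso a').asIdeal :=
    hmax.eq_of_le (iso a').isPrime.ne_top h3
  have h5 : iso a' = comap μ.toRingHom Q := PrimeSpectrum.ext h4.symm
  have h6 : a' = a := by
    rw [ha, ← h5, OrderIso.symm_apply_apply]
  exact congrArg Subtype.val h6

end Groth.Agent.Lib.R2H3.FinOpenB
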