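import Mathlib
import Groth.Prelude.Def_EGA43
import Groth.Agent.Lib.R2H3FinOpenA
import Groth.Agent.Lib.R2H3FinOpenB

/-!
# Ring-level core of the finite base change criterion for universal openness (helper3)

`ring_main`: `R` Noetherian, `B` of finite type over `R`, `A` a discrete valuation ring over `R`
and `𝔓` a point of `Spec (A ⊗[R] B)` over the closed point of `A`.  If for every finite type
`R`-algebra domain `D` and every point `w` of `Spec (D ⊗[R] B)` over the same point of `Spec B` as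
`𝔓` whose image in `Spec D` is isolated in its fibre over `Spec R`, the map
`Spec (D ⊗[R] B) → Spec D` is open at `w`, then `𝔓` has a generization over the generic point
of `Spec A`.
-/

set_option autoImplicit false
set_option linter.style.haveILetI false
universe u
open TensorProduct PrimeSpectrum EGA43

namespace Groth.Agent.Lib.R2H3.FinOpenC

open Groth.Agent.Lib.R2H3.FinOpenA Groth.Agent.Lib.R2H3.FinOpenB

/-- The point `s` of `Spec D` is isolated in its fibre over `Spec R`. -/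
def IsolatedInFibre (R D : Type*) [CommRing R] [CommRing D] [Algebra R D]
    (s : PrimeSpectrum D) : Prop :=
  ∃ O : Set (PrimeSpectrum D), IsOpen O ∧ s ∈ O ∧
    ∀ s' ∈ O, comap (algebraMap R D) s' = comap (algebraMap R D) s → s' = s

theorem isolated_quotient {R D0 : Type u} [CommRing R] [CommRing D0] [Algebra R D0]
    [IsNoetherianRing D0] (s : PrimeSpectrum D0) (𝔮 : Ideal D0) [𝔮.IsPrime]
    (ϖ0 : D0) (c : R) (v : D0) (e : ℕ)
    (hc : c ∈ (comap (algebraMap R D0) s).asIdeal) (hv : ϖ0 ^ e = v * algebraMap R D0 c)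
    (hcurve : ∀ Q : Ideal D0, Q.IsPrime → 𝔮 ≤ Q → Q ≤ s.asIdeal → ϖ0 ∈ Q → Q = s.asIdeal)
    (hclosed : ∀ s' : PrimeSpectrum D0, s ≤ s' →
      comap (algebraMap R D0) s' = comap (algebraMap R D0) s → s' = s)
    (sbar : PrimeSpectrum (D0 ⧸ 𝔮)) (hsbar : comap (Ideal.Quotient.mk 𝔮) sbar = s) :
    IsolatedInFibre R (D0 ⧸ 𝔮) sbar := by
  classical
  let D := D0 ⧸ 𝔮
  let mk : D0 →+* D := Ideal.Quotient.mk 𝔮
  have hmk : Function.Surjective mk := Ideal.Quotient.mk_surjective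
  have halg : ∀ r : R, algebraMap R D r = mk (algebraMap R D0 r) := fun r => rfl
  have hcomapR : ∀ t : PrimeSpectrum D,
      comap (algebraMap R D) t = comap (algebraMap R D0) (comap mk t) := fun t => by
    apply PrimeSpectrum.ext
    ext r
    rfl
  let y : PrimeSpectrum R := comap (algebraMap R D0) s
  have hy : comap (algebraMap R D) sbar = y := by rw [hcomapR, hsbar]
  let J : Ideal D := y.asIdeal.map (algebraMap R D)
  have hfin : J.minimalPrimes.Finite := Ideal.finite_minimalPrimes_of_isNoetherianRing D J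
  -- key property
  have KP : ∀ P' : Ideal D, P'.IsPrime → J ≤ P' → P' ≤ sbar.asIdeal → P' = sbar.asIdeal := by
    intro P' hP' hJP' hP's
    have hQp : (P'.comap mk).IsPrime := Ideal.comap_isPrime _ _
    have h1 : 𝔮 ≤ P'.comap mk := by
      intro x hx
      show mk x ∈ P'
      rw [(Ideal.Quotient.eq_zero_iff_mem).mpr hx]
      exact zero_mem _
    have hs_eq : s.asIdeal = sbar.asIdeal.comap mk := by rw [← hsbar]; rfl
    have h2 : P'.comap mk ≤ s.asIdeal := by rw [hs_eq]; exact Ideal.comap_mono hP's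
    have h3 : ϖ0 ∈ P'.comap mk := by
      have h4 : algebraMap R D0 c ∈ P'.comap mk := by
        show mk (algebraMap R D0 c) ∈ P'
        rw [← halg]
        exact hJP' (Ideal.mem_map_of_mem _ hc)
      have h5 : ϖ0 ^ e ∈ P'.comap mk := by rw [hv]; exact Ideal.mul_mem_left _ _ h4
      exact hQp.mem_of_pow_mem _ h5
    have h6 := hcurve _ hQp h1 h2 h3
    rw [hs_eq] at h6
    exact Ideal.comap_injective_of_surjective mk hmk h6
  let Bad : Set (PrimeSpectrum D) :=
    ⋃ P ∈ (hfin.toFinset.filter (fun P => P ≠ sbar.asIdeal) : Finset (Ideal D)), zeroLocus (P : Set D)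
  have hBad : IsClosed Bad :=
    isClosed_biUnion_finset fun P _ => isClosed_zeroLocus _
  refine ⟨Badᶜ, hBad.isOpen_compl, ?_, ?_⟩
  · intro hmem
    simp only [Bad, Set.mem_iUnion, Finset.mem_filter, Set.Finite.mem_toFinset] at hmem
    obtain ⟨P, ⟨hPM, hPne⟩, hPs⟩ := hmem
    rw [mem_zeroLocus] at hPs
    exact hPne (KP P hPM.1.1 hPM.1.2 hPs)
  · intro s' hs'O hs'y
    have hJs' : J ≤ s'.asIdeal := by
      rw [Ideal.map_le_iff_le_comap]
      have : y.asIdeal = (comap (algebraMap R D) s').asIdeal := by rw [hs'y, hy]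
      rw [this]
      exact le_rfl
    obtain ⟨P, hPM, hPs'⟩ := Ideal.exists_minimalPrimes_le hJs'
    have hPeq : P = sbar.asIdeal := by
      by_contra hne
      apply hs'O
      simp only [Bad, Set.mem_iUnion, Finset.mem_filter, Set.Finite.mem_toFinset]
      exact ⟨P, ⟨hPM, hne⟩, (mem_zeroLocus _ _).mpr hPs'⟩
    have hle : sbar ≤ s' := by
      show sbar.asIdeal ≤ s'.asIdeal
      rw [← hPeq]; exact hPs'
    have h1 : s ≤ comap mk s' := by
      rw [← hsbar]
      exact Ideal.comap_mono hle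
    have h2 : comap (algebraMap R D0) (comap mk s') = comap (algebraMap R D0) s := by
      rw [← hcomapR, hs'y, hy]
    have h3 := hclosed _ h1 h2
    rw [← hsbar] at h3
    exact PrimeSpectrum.comap_injective_of_surjective mk hmk h3


set_option maxHeartbeats 1600000 in
/-- **Ring-level core.** -/
theorem ring_main {R A B : Type u} [CommRing R] [CommRing A] [CommRing B] [Algebra R A]
    [Algebra R B] [IsDomain A] [IsDiscreteValuationRing A] [IsNoetherianRing R]
    (𝔓 : PrimeSpectrum (A ⊗[R] B))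
    (h𝔓 : comap (algebraMap A (A ⊗[R] B)) 𝔓 = IsLocalRing.closedPoint A)
    (H : ∀ (D : Type u) [CommRing D] [IsDomain D] [Algebra R D] [Algebra.FiniteType R D]
        (w : PrimeSpectrum (D ⊗[R] B)),
        comap (Algebra.TensorProduct.includeRight : B →ₐ[R] D ⊗[R] B).toRingHom w =
          comap (Algebra.TensorProduct.includeRight : B →ₐ[R] A ⊗[R] B).toRingHom 𝔓 →
        IsolatedInFibre R D (comap (algebraMap D (D ⊗[R] B)) w) →
        IsOpenAt (comap (algebraMap D (D ⊗[R] B))) w) :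
    ∃ 𝔔 : PrimeSpectrum (A ⊗[R] B), 𝔔 ≤ 𝔓 ∧
      comap (algebraMap A (A ⊗[R] B)) 𝔔 ≠ IsLocalRing.closedPoint A := by
  classical
  by_contra hno
  push Not at hno
  let S := A ⊗[R] B
  obtain ⟨ϖ, hϖ⟩ := IsDiscreteValuationRing.exists_irreducible A
  have hϖ0 : ϖ ≠ 0 := hϖ.ne_zero
  have hϖm : ϖ ∈ IsLocalRing.maximalIdeal A := by
    rw [IsLocalRing.mem_maximalIdeal]
    exact hϖ.not_isUnit
  let a : S := algebraMap A S ϖ
  have ha : ∀ 𝔔 : Ideal S, 𝔔.IsPrime → 𝔔 ≤ 𝔓.asIdeal → a ∈ 𝔔 := by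
    intro 𝔔 h𝔔 hle
    have h1 := hno ⟨𝔔, h𝔔⟩ hle
    have h2 : ϖ ∈ (comap (algebraMap A S) ⟨𝔔, h𝔔⟩).asIdeal := by rw [h1]; exact hϖm
    exact h2
  obtain ⟨b, hb, N, hN⟩ := exists_mul_pow_eq_zero 𝔓.asIdeal a ha
  let 𝔭y : Ideal R := (IsLocalRing.maximalIdeal A).comap (algebraMap R A)
  haveI : 𝔭y.IsPrime := Ideal.comap_isPrime _ _
  by_cases hcase : ∃ c ∈ 𝔭y, algebraMap R A c ≠ 0
  swap
  · -- the flat case
    push Not at hcase
    have hflat : Module.Flat A S := flat_tensor_of_ker 𝔭y hcase (fun c hc => by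
      have : algebraMap R A c ∉ IsLocalRing.maximalIdeal A := hc
      rwa [IsLocalRing.mem_maximalIdeal, mem_nonunits_iff, not_not] at this)
    have hreg : IsSMulRegular S (ϖ ^ N) :=
      Module.Flat.isSMulRegular_of_nonZeroDivisors
        (mem_nonZeroDivisors_of_ne_zero (pow_ne_zero N hϖ0))
    have h1 : (ϖ ^ N) • b = (ϖ ^ N) • (0 : S) := by
      rw [smul_zero, Algebra.smul_def, map_pow]
      exact hN
    have h2 : b = 0 := hreg h1
    exact hb (h2 ▸ zero_mem _)
  obtain ⟨c, hc, hc0⟩ := hcase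
  obtain ⟨e, uu, hcu⟩ := IsDiscreteValuationRing.eq_unit_mul_pow_irreducible hc0 hϖ
  -- descend to a finitely generated subalgebra
  obtain ⟨A', hA'fg, hFA', hϖA', b', hb'b, hb'0⟩ :=
    exists_fg_subalgebra b ϖ N hN ({(↑uu⁻¹ : A)} : Finset A)
  have huA' : (↑uu⁻¹ : A) ∈ A' := hFA' (by simp)
  let D0 := ↥A'
  haveI : Algebra.FiniteType R D0 := A'.fg_iff_finiteType.mp hA'fg
  haveI : IsNoetherianRing D0 := Algebra.FiniteType.isNoetherianRing R D0
  let ϖ0 : D0 := ⟨ϖ, hϖA'⟩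
  let v0 : D0 := ⟨↑uu⁻¹, huA'⟩
  have hϖ00 : ϖ0 ≠ 0 := fun h => hϖ0 (congrArg Subtype.val h)
  let T0 := D0 ⊗[R] B
  let Φ : T0 →ₐ[R] S := Algebra.TensorProduct.map A'.val (AlgHom.id R B)
  let 𝔓0 : PrimeSpectrum T0 := comap Φ.toRingHom 𝔓
  have hmem0 : 𝔓0 ∈ (PrimeSpectrum.basicOpen b' : Set (PrimeSpectrum T0)) := by
    show Φ b' ∉ 𝔓.asIdeal
    rw [hb'b]; exact hb
  obtain ⟨w, hwU, hwp, hwcl⟩ := exists_point 𝔓0 _ (PrimeSpectrum.basicOpen b').isOpen hmem0
  let s : PrimeSpectrum D0 := comap (algebraMap D0 T0) w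
  -- the point of `Spec R` below
  have hΦR : ∀ x : B, Φ ((Algebra.TensorProduct.includeRight : B →ₐ[R] T0) x) =
      (Algebra.TensorProduct.includeRight : B →ₐ[R] S) x := fun x => by
    show (Algebra.TensorProduct.map A'.val (AlgHom.id R B)) ((1 : D0) ⊗ₜ[R] x) = (1 : A) ⊗ₜ[R] x
    rw [Algebra.TensorProduct.map_tmul, map_one]
    rfl
  have hp0 : comap (Algebra.TensorProduct.includeRight : B →ₐ[R] T0).toRingHom 𝔓0 =
      comap (Algebra.TensorProduct.includeRight : B →ₐ[R] S).toRingHom 𝔓 := by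
    apply PrimeSpectrum.ext
    ext x
    show Φ ((Algebra.TensorProduct.includeRight : B →ₐ[R] T0) x) ∈ 𝔓.asIdeal ↔ _
    rw [hΦR]
    rfl
  have hsy : (comap (algebraMap R D0) s).asIdeal = 𝔭y := by
    ext r
    show algebraMap D0 T0 (algebraMap R D0 r) ∈ w.asIdeal ↔ algebraMap R A r ∈ IsLocalRing.maximalIdeal A
    have h1 : algebraMap D0 T0 (algebraMap R D0 r) =
        (Algebra.TensorProduct.includeRight : B →ₐ[R] T0) (algebraMap R B r) := by
      rw [← IsScalarTower.algebraMap_apply R D0 T0, AlgHom.commutes]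
    rw [h1]
    have h2 : (Algebra.TensorProduct.includeRight : B →ₐ[R] T0) (algebraMap R B r) ∈ w.asIdeal ↔
        (Algebra.TensorProduct.includeRight : B →ₐ[R] S) (algebraMap R B r) ∈ 𝔓.asIdeal := by
      have := congrArg (fun t : PrimeSpectrum B => algebraMap R B r ∈ t.asIdeal) (hwp.trans hp0)
      exact iff_of_eq this
    rw [h2, AlgHom.commutes, IsScalarTower.algebraMap_apply R A S]
    have h3 : algebraMap A S (algebraMap R A r) ∈ 𝔓.asIdeal ↔
        algebraMap R A r ∈ (comap (algebraMap A S) 𝔓).asIdeal := Iff.rfl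
    rw [h3, h𝔓]
    rfl
  have hcs : c ∈ (comap (algebraMap R D0) s).asIdeal := by rw [hsy]; exact hc
  have hv0 : ϖ0 ^ e = v0 * algebraMap R D0 c := by
    apply Subtype.ext
    show ϖ ^ e = (↑uu⁻¹ : A) * algebraMap R A c
    rw [hcu, ← mul_assoc, Units.inv_mul, one_mul]
  have hϖ0s : ϖ0 ∈ s.asIdeal := by
    have h1 : ϖ0 ^ e ∈ s.asIdeal := by
      rw [hv0]
      exact Ideal.mul_mem_left _ _ hcs
    exact s.isPrime.mem_of_pow_mem _ h1
  obtain ⟨𝔮, h𝔮p, h𝔮s, hϖ𝔮, hcurve⟩ := exists_curve s.asIdeal ϖ0 hϖ0s hϖ00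
  haveI := h𝔮p
  let D := D0 ⧸ 𝔮
  let mkₐ : D0 →ₐ[R] D := Ideal.Quotient.mkₐ R 𝔮
  have hmk : Function.Surjective mkₐ := Ideal.Quotient.mkₐ_surjective R 𝔮
  let T := D ⊗[R] B
  let Ψ : T0 →ₐ[R] T := Algebra.TensorProduct.map mkₐ (AlgHom.id R B)
  have hΨ : Function.Surjective Ψ := Algebra.TensorProduct.map_surjective mkₐ (AlgHom.id R B) hmk
    Function.surjective_id
  have hker : RingHom.ker Ψ ≤ w.asIdeal := by
    have h1 : RingHom.ker Ψ = (RingHom.ker mkₐ).map
        (Algebra.TensorProduct.includeLeft : D0 →ₐ[R] T0) :=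
      Algebra.TensorProduct.rTensor_ker (C := B) mkₐ hmk
    rw [h1, Ideal.map_le_iff_le_comap]
    intro x hx
    have hx' : x ∈ 𝔮 := by
      have : mkₐ x = 0 := hx
      exact Ideal.Quotient.eq_zero_iff_mem.mp this
    exact h𝔮s hx'
  have hwbarp : (w.asIdeal.map Ψ).IsPrime := Ideal.map_isPrime_of_surjective hΨ hker
  let wbar : PrimeSpectrum T := ⟨w.asIdeal.map Ψ, hwbarp⟩
  have hwbar : comap Ψ.toRingHom wbar = w := by
    apply PrimeSpectrum.ext
    show (w.asIdeal.map Ψ).comap Ψ = w.asIdeal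
    rw [Ideal.comap_map_of_surjective Ψ hΨ]
    exact sup_eq_left.mpr hker
  let sbar : PrimeSpectrum D := comap (algebraMap D T) wbar
  have hsbar : comap (Ideal.Quotient.mk 𝔮) sbar = s := by
    apply PrimeSpectrum.ext
    ext x
    show algebraMap D T (Ideal.Quotient.mk 𝔮 x) ∈ wbar.asIdeal ↔ algebraMap D0 T0 x ∈ w.asIdeal
    have hw' : w.asIdeal = wbar.asIdeal.comap Ψ := congrArg PrimeSpectrum.asIdeal hwbar.symm
    rw [hw']
    show _ ↔ Ψ (algebraMap D0 T0 x) ∈ wbar.asIdeal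
    have : Ψ (algebraMap D0 T0 x) = algebraMap D T (Ideal.Quotient.mk 𝔮 x) := by
      rw [Algebra.TensorProduct.algebraMap_apply, Algebra.TensorProduct.algebraMap_apply]
      show (Algebra.TensorProduct.map mkₐ (AlgHom.id R B)) (x ⊗ₜ[R] (1 : B)) = _
      rw [Algebra.TensorProduct.map_tmul]
      rfl
    rw [this]
  have hiso : IsolatedInFibre R D sbar :=
    isolated_quotient s 𝔮 ϖ0 c v0 e hcs hv0 hcurve
      (fun s' hle hs' => hwcl s' hle hs') sbar hsbar
  have hwbarp' : comap (Algebra.TensorProduct.includeRight : B →ₐ[R] T).toRingHom wbar =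
      comap (Algebra.TensorProduct.includeRight : B →ₐ[R] S).toRingHom 𝔓 := by
    rw [← hp0, ← hwp]
    apply PrimeSpectrum.ext
    ext x
    show (Algebra.TensorProduct.includeRight : B →ₐ[R] T) x ∈ wbar.asIdeal ↔
      (Algebra.TensorProduct.includeRight : B →ₐ[R] T0) x ∈ w.asIdeal
    have hw' : w.asIdeal = wbar.asIdeal.comap Ψ := congrArg PrimeSpectrum.asIdeal hwbar.symm
    rw [hw']
    show _ ↔ Ψ ((Algebra.TensorProduct.includeRight : B →ₐ[R] T0) x) ∈ wbar.asIdeal
    have : Ψ ((Algebra.TensorProduct.includeRight : B →ₐ[R] T0) x) =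
        (Algebra.TensorProduct.includeRight : B →ₐ[R] T) x := by
      show (Algebra.TensorProduct.map mkₐ (AlgHom.id R B)) ((1 : D0) ⊗ₜ[R] x) = (1 : D) ⊗ₜ[R] x
      rw [Algebra.TensorProduct.map_tmul, map_one]
      rfl
    rw [this]
  have hopen := H D wbar hwbarp' hiso
  -- contradiction with the witness
  have hϖbar : (Ideal.Quotient.mk 𝔮 ϖ0 : D) ≠ 0 := fun h => hϖ𝔮 (Ideal.Quotient.eq_zero_iff_mem.mp h)
  have hbbar : Ψ b' ∉ wbar.asIdeal := by
    intro hmem
    have : b' ∈ (comap Ψ.toRingHom wbar).asIdeal := hmem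
    rw [hwbar] at this
    exact hwU this
  have hzero : algebraMap D T (Ideal.Quotient.mk 𝔮 ϖ0) ^ N * Ψ b' = 0 := by
    have h1 : algebraMap D T (Ideal.Quotient.mk 𝔮 ϖ0) = Ψ (algebraMap D0 T0 ϖ0) := by
      rw [Algebra.TensorProduct.algebraMap_apply, Algebra.TensorProduct.algebraMap_apply]
      show _ = (Algebra.TensorProduct.map mkₐ (AlgHom.id R B)) (ϖ0 ⊗ₜ[R] (1 : B))
      rw [Algebra.TensorProduct.map_tmul]
      rfl
    rw [h1, ← map_pow, ← map_mul, hb'0, map_zero]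
  exact not_isOpenAt wbar _ hϖbar _ hbbar N hzero hopen

end Groth.Agent.Lib.R2H3.FinOpenC
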