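import Mathlib
import Groth.Prelude.Def_EGA43
import Groth.Agent.Lib.R2H3FinOpenC
import Groth.Agent.Lib.R2H3ZMTFin
import Groth.Agent.Lib.Helper26UnivOpenAt
import Groth.Agent.Lib.Helper6UniD

/-!
# Universal openness can be tested on finite base changes (helper3)

EGA IV 14.5.9 / 14.5.10 style: `Y` Noetherian, `f : X ⟶ Y` locally of finite type, `x : X`.
If for every finite `g : Y' ⟶ Y` the base change of `f` is open at every point over `x`, then `f`
is universally open at `x` (`isUnivOpenAt_of_finite`; no maximality assumption on `x`).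
-/

set_option autoImplicit false
set_option linter.style.haveILetI false
universe u
open CategoryTheory CategoryTheory.Limits AlgebraicGeometry TensorProduct EGA43

namespace Groth.Agent.Lib.R2H3.FinOpenD

open Groth.Agent.Lib.R2H3.FinOpenC Groth.Agent.Lib.Helper26.UnivOpenAt Groth.Agent.Lib.Helper7

/-- The fibre product of two affine schemes as the spectrum of the tensor product, with the
tensor factors in the order used in `FinOpenC`. -/
theorem exists_tensorIso (R D B : Type u) [CommRing R] [CommRing D] [CommRing B] [Algebra R D]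
    [Algebra R B] :
    ∃ e : pullback (Spec.map (CommRingCat.ofHom (algebraMap R B)))
        (Spec.map (CommRingCat.ofHom (algebraMap R D))) ≅ Spec (CommRingCat.of (D ⊗[R] B)),
      e.hom ≫ Spec.map (CommRingCat.ofHom (algebraMap D (D ⊗[R] B))) = pullback.snd _ _ ∧
      e.hom ≫ Spec.map (CommRingCat.ofHom
        (Algebra.TensorProduct.includeRight : B →ₐ[R] D ⊗[R] B).toRingHom) = pullback.fst _ _ := by
  refine ⟨pullbackSymmetry _ _ ≪≫ pullbackSpecIso R D B, ?_, ?_⟩
  · simp only [Iso.trans_hom, Category.assoc]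
    rw [pullbackSpecIso_hom_fst']
    exact pullbackSymmetry_hom_comp_fst _ _
  · simp only [Iso.trans_hom, Category.assoc]
    erw [pullbackSpecIso_hom_snd]
    exact pullbackSymmetry_hom_comp_snd _ _

/-- Openness at a point descends along a square of open embeddings. -/
theorem isOpenAt_of_square_of_isOpenMap {P₀ P Y₀ Y : Type*} [TopologicalSpace P₀]
    [TopologicalSpace P] [TopologicalSpace Y₀] [TopologicalSpace Y] (θ : P₀ → P) (j : Y₀ → Y)
    (s : P → Y) (s₀ : P₀ → Y₀) (hθ : IsOpenMap θ) (hj : Continuous j)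
    (hj' : Function.Injective j) (hsq : ∀ p, s (θ p) = j (s₀ p)) (p₀ : P₀)
    (h : IsOpenAt s (θ p₀)) : IsOpenAt s₀ p₀ := by
  intro N hN
  have h1 : θ '' N ∈ nhds (θ p₀) := hθ.image_mem_nhds hN
  have h2 := h _ h1
  rw [hsq] at h2
  have h3 : j ⁻¹' (s '' (θ '' N)) ∈ nhds (s₀ p₀) := hj.continuousAt.preimage_mem_nhds h2
  refine Filter.mem_of_superset h3 ?_
  rintro y₀ ⟨_, ⟨p, hp, rfl⟩, hy⟩
  rw [hsq] at hy
  exact ⟨p, hp, hj' hy⟩

/-- A point isolated in its fibre is a point of quasi-finiteness. -/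
theorem quasiFiniteAt_of_isolated' {X Y : Scheme.{u}} (f : X ⟶ Y) [LocallyOfFiniteType f] (s : X)
    (hiso : ∃ O : Set X, IsOpen O ∧ s ∈ O ∧ ∀ s' ∈ O, f.base s' = f.base s → s' = s) :
    f.QuasiFiniteAt s := by
  rw [Scheme.Hom.quasiFiniteAt_iff_isOpen_singleton_asFiber]
  rw [← (f.fiberHomeo (f.base s)).isOpen_image]
  simp only [Set.image_singleton, Scheme.Hom.asFiber, Homeomorph.apply_symm_apply]
  obtain ⟨O, hO, hsO, hO'⟩ := hiso
  rw [isOpen_induced_iff]
  refine ⟨O, hO, ?_⟩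
  ext t
  simp only [Set.mem_preimage, Set.mem_singleton_iff]
  constructor
  · intro ht
    apply Subtype.ext
    exact hO' t.1 ht t.2
  · intro ht
    rw [ht]
    exact hsO

theorem quasiFiniteAt_of_isolated {R D : Type u} [CommRing R] [CommRing D] [Algebra R D]
    [Algebra.FiniteType R D] (s : PrimeSpectrum D) (hiso : IsolatedInFibre R D s) :
    (Spec.map (CommRingCat.ofHom (algebraMap R D))).QuasiFiniteAt
      (s : ↥(Spec (CommRingCat.of D))) := by
  haveI : LocallyOfFiniteType (Spec.map (CommRingCat.ofHom (algebraMap R D))) := by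
    rw [HasRingHomProperty.Spec_iff (P := @LocallyOfFiniteType)]
    exact (RingHom.finiteType_algebraMap (A := R) (B := D)).mpr inferInstance
  obtain ⟨O, hO, hsO, hO'⟩ := hiso
  exact quasiFiniteAt_of_isolated' _ _ ⟨O, hO, hsO, fun s' hs' h => hO' s' hs' h⟩


set_option maxHeartbeats 1600000 in
/-- The finite base change hypothesis on `f` gives the ring-level hypothesis of `ring_main`
on affine charts. -/
theorem isOpenAt_of_finite_hyp {X Y : Scheme.{u}} [IsNoetherian Y] (f : X ⟶ Y) (x : X)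
    (H : ∀ (Y' : Scheme.{u}) (g : Y' ⟶ Y) [IsFinite g], ∀ x' : ↥(pullback f g),
      (pullback.fst f g).base x' = x → IsOpenAt (pullback.snd f g).base x')
    {R B : Type u} [CommRing R] [CommRing B] [Algebra R B] [IsNoetherianRing R]
    (iV : Spec (CommRingCat.of R) ⟶ Y) (iW : Spec (CommRingCat.of B) ⟶ X) [IsOpenImmersion iV]
    [IsOpenImmersion iW]
    (hcomm : Spec.map (CommRingCat.ofHom (algebraMap R B)) ≫ iV = iW ≫ f)
    (D : Type u) [CommRing D] [Algebra R D] [Algebra.FiniteType R D]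
    (w : PrimeSpectrum (D ⊗[R] B))
    (hw : iW.base (PrimeSpectrum.comap
      (Algebra.TensorProduct.includeRight : B →ₐ[R] D ⊗[R] B).toRingHom w) = x)
    (hiso : IsolatedInFibre R D (PrimeSpectrum.comap (algebraMap D (D ⊗[R] B)) w)) :
    IsOpenAt (PrimeSpectrum.comap (algebraMap D (D ⊗[R] B))) w := by
  let φ := Spec.map (CommRingCat.ofHom (algebraMap R B))
  let ψ := Spec.map (CommRingCat.ofHom (algebraMap R D))
  let hD : Spec (CommRingCat.of D) ⟶ Y := ψ ≫ iV
  haveI : IsNoetherianRing D := Algebra.FiniteType.isNoetherianRing R D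
  haveI : LocallyOfFiniteType ψ := by
    rw [HasRingHomProperty.Spec_iff (P := @LocallyOfFiniteType)]
    exact (RingHom.finiteType_algebraMap (A := R) (B := D)).mpr inferInstance
  haveI : LocallyOfFiniteType hD := inferInstanceAs (LocallyOfFiniteType (ψ ≫ iV))
  let s : ↥(Spec (CommRingCat.of D)) := PrimeSpectrum.comap (algebraMap D (D ⊗[R] B)) w
  have hqf : hD.QuasiFiniteAt s :=
    (Scheme.Hom.quasiFiniteAt_comp_iff (f := ψ) (g := iV)).mpr (quasiFiniteAt_of_isolated _ hiso)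
  let U : (Spec (CommRingCat.of D)).Opens := hD.quasiFiniteLocus
  have hsU : s ∈ U := hqf
  let g₀ : (↑U : Scheme.{u}) ⟶ Y := U.ι ≫ hD
  haveI : LocallyQuasiFinite g₀ := inferInstanceAs (LocallyQuasiFinite (hD.quasiFiniteLocus.ι ≫ hD))
  haveI : LocallyOfFiniteType g₀ := inferInstanceAs (LocallyOfFiniteType (U.ι ≫ hD))
  haveI : IsSeparated g₀ := by
    haveI : IsSeparated (g₀ ≫ terminal.from Y) := by
      rw [terminal.comp_from, ← terminal.comp_from U.ι]
      infer_instance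
    exact IsSeparated.of_comp g₀ (terminal.from Y)
  haveI : QuasiCompact g₀ := inferInstance
  haveI : CompactSpace ↥(↑U : Scheme.{u}) := QuasiCompact.compactSpace_of_compactSpace g₀
  haveI : LocallyOfFiniteType (g₀.toNormalization ≫ g₀.fromNormalization) := by
    rw [g₀.toNormalization_fromNormalization]; infer_instance
  obtain ⟨T, j', π', hj', hπ', hfac⟩ :=
    Groth.Agent.Lib.R2H3.ZMTFin.exists_finite_of_integral g₀.fromNormalization g₀.toNormalization
  rw [g₀.toNormalization_fromNormalization] at hfac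
  haveI := hj'
  haveI := hπ'
  have hcomm2 : (U.ι ≫ ψ) ≫ iV = j' ≫ π' := by rw [hfac, Category.assoc]
  let m : pullback φ (U.ι ≫ ψ) ⟶ pullback f π' :=
    pullback.map φ (U.ι ≫ ψ) f π' iW j' iV hcomm hcomm2
  have hm1 : m ≫ pullback.fst f π' = pullback.fst φ (U.ι ≫ ψ) ≫ iW := pullback.lift_fst _ _ _
  have hm2 : m ≫ pullback.snd f π' = pullback.snd φ (U.ι ≫ ψ) ≫ j' := pullback.lift_snd _ _ _
  let m1 : pullback φ (U.ι ≫ ψ) ⟶ pullback φ ψ :=
    pullback.map φ (U.ι ≫ ψ) φ ψ (𝟙 _) U.ι (𝟙 _) (by simp) (by simp)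
  have hm11 : m1 ≫ pullback.fst φ ψ = pullback.fst φ (U.ι ≫ ψ) :=
    (pullback.lift_fst _ _ _).trans (Category.comp_id _)
  have hm12 : m1 ≫ pullback.snd φ ψ = pullback.snd φ (U.ι ≫ ψ) ≫ U.ι := pullback.lift_snd _ _ _
  obtain ⟨e, he1, he2⟩ := exists_tensorIso R D B
  let w' : ↥(pullback φ ψ) := e.inv.base w
  have hw'w : e.hom.base w' = w := by
    show e.hom.base (e.inv.base w) = w
    rw [← Scheme.Hom.comp_apply, e.inv_hom_id]; rfl
  have hsnd : (pullback.snd φ ψ).base w' = s := by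
    rw [← he1, Scheme.Hom.comp_apply, hw'w]; rfl
  have hrange : w' ∈ Set.range m1.base := by
    rw [Scheme.Pullback.range_map]
    refine ⟨⟨(pullback.fst φ ψ).base w', rfl⟩, ?_⟩
    show (pullback.snd φ ψ).base w' ∈ Set.range U.ι.base
    rw [hsnd, Scheme.Opens.range_ι]
    exact hsU
  obtain ⟨p₀, hp₀⟩ := hrange
  have hfstp₀ : (pullback.fst f π').base (m.base p₀) = x := by
    rw [← Scheme.Hom.comp_apply, hm1, Scheme.Hom.comp_apply, ← hm11, Scheme.Hom.comp_apply, hp₀,
      ← he2, Scheme.Hom.comp_apply, hw'w]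
    exact hw
  have h1 : IsOpenAt (pullback.snd f π').base (m.base p₀) := H T π' _ hfstp₀
  have h2 : IsOpenAt (pullback.snd φ (U.ι ≫ ψ)).base p₀ :=
    isOpenAt_of_square_of_isOpenMap m.base j'.base _ _ m.isOpenEmbedding.isOpenMap j'.continuous
      j'.isOpenEmbedding.injective
      (fun p => by rw [← Scheme.Hom.comp_apply, hm2, Scheme.Hom.comp_apply]) p₀ h1
  have h3 := isOpenAt_of_square (m1 ≫ e.hom).base U.ι.base
    (PrimeSpectrum.comap (algebraMap D (D ⊗[R] B))) (pullback.snd φ (U.ι ≫ ψ)).base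
    (m1 ≫ e.hom).continuous U.ι.isOpenEmbedding.isOpenMap
    (fun p => by
      show (Spec.map (CommRingCat.ofHom (algebraMap D (D ⊗[R] B)))).base ((m1 ≫ e.hom).base p) = _
      rw [← Scheme.Hom.comp_apply, Category.assoc, he1, hm12, Scheme.Hom.comp_apply]) p₀ h2
  have h4 : (m1 ≫ e.hom).base p₀ = w := by
    rw [Scheme.Hom.comp_apply, hp₀, hw'w]
  rw [h4] at h3
  exact h3


set_option maxHeartbeats 1600000 in
/-- The DVR criterion on an affine chart, from the finite base change hypothesis. -/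
theorem dvrCrit_SpecMap {X Y : Scheme.{u}} [IsNoetherian Y] (f : X ⟶ Y) (x : X)
    (H : ∀ (Y' : Scheme.{u}) (g : Y' ⟶ Y) [IsFinite g], ∀ x' : ↥(pullback f g),
      (pullback.fst f g).base x' = x → IsOpenAt (pullback.snd f g).base x')
    {R B : Type u} [CommRing R] [CommRing B] [Algebra R B] [IsNoetherianRing R]
    (iV : Spec (CommRingCat.of R) ⟶ Y) (iW : Spec (CommRingCat.of B) ⟶ X) [IsOpenImmersion iV]
    [IsOpenImmersion iW]
    (hcomm : Spec.map (CommRingCat.ofHom (algebraMap R B)) ≫ iV = iW ≫ f)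
    (𝔭 : PrimeSpectrum B) (h𝔭 : iW.base (𝔭 : ↥(Spec (CommRingCat.of B))) = x) :
    DVRCrit (Spec.map (CommRingCat.ofHom (algebraMap R B))) (𝔭 : ↥(Spec (CommRingCat.of B))) := by
  intro A _ _ _ g hg x' hx'1 hx'2
  obtain ⟨ψ, rfl⟩ := Spec.map_surjective g
  letI : Algebra R A := ψ.hom.toAlgebra
  obtain ⟨e, he1, he2⟩ := exists_tensorIso R A B
  let e' : pullback (Spec.map (CommRingCat.ofHom (algebraMap R B))) (Spec.map ψ) ≅
      Spec (CommRingCat.of (A ⊗[R] B)) := e
  have he1' : e'.hom ≫ Spec.map (CommRingCat.ofHom (algebraMap A (A ⊗[R] B))) =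
      pullback.snd (Spec.map (CommRingCat.ofHom (algebraMap R B))) (Spec.map ψ) := he1
  have he2' : e'.hom ≫ Spec.map (CommRingCat.ofHom
      (Algebra.TensorProduct.includeRight : B →ₐ[R] A ⊗[R] B).toRingHom) =
      pullback.fst (Spec.map (CommRingCat.ofHom (algebraMap R B))) (Spec.map ψ) := he2
  let 𝔓 : PrimeSpectrum (A ⊗[R] B) := e'.hom.base x'
  have h𝔓 : PrimeSpectrum.comap (algebraMap A (A ⊗[R] B)) 𝔓 = IsLocalRing.closedPoint A := by
    have h1 : (e'.hom ≫ Spec.map (CommRingCat.ofHom (algebraMap A (A ⊗[R] B)))).base x' =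
        IsLocalRing.closedPoint A := by rw [he1']; exact hx'2
    rw [Scheme.Hom.comp_apply] at h1
    exact h1
  have h𝔓B : PrimeSpectrum.comap
      (Algebra.TensorProduct.includeRight : B →ₐ[R] A ⊗[R] B).toRingHom 𝔓 = 𝔭 := by
    have h1 : (e'.hom ≫ Spec.map (CommRingCat.ofHom
      (Algebra.TensorProduct.includeRight : B →ₐ[R] A ⊗[R] B).toRingHom)).base x' = 𝔭 := by
      rw [he2']; exact hx'1
    rw [Scheme.Hom.comp_apply] at h1
    exact h1
  obtain ⟨𝔔, h𝔔le, h𝔔ne⟩ := ring_main 𝔓 h𝔓 (fun D _ _ _ _ w hw hiso =>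
    isOpenAt_of_finite_hyp f x H iV iW hcomm D w (by rw [hw, h𝔓B]; exact h𝔭) hiso)
  refine ⟨e'.inv.base 𝔔, ?_, ?_⟩
  · have h1 : (𝔔 : ↥(Spec (CommRingCat.of (A ⊗[R] B)))) ⤳ 𝔓 :=
      (PrimeSpectrum.le_iff_specializes 𝔔 𝔓).mp h𝔔le
    have h2 := h1.map e'.inv.continuous
    have h3 : e'.inv.base 𝔓 = x' := by
      show e'.inv.base (e'.hom.base x') = x'
      rw [← Scheme.Hom.comp_apply, e'.hom_inv_id]; rfl
    rw [h3] at h2
    exact h2
  · intro hcl
    apply h𝔔ne
    have h1 : (pullback.snd (Spec.map (CommRingCat.ofHom (algebraMap R B))) (Spec.map ψ)).base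
        (e'.inv.base 𝔔) = (Spec.map (CommRingCat.ofHom (algebraMap A (A ⊗[R] B)))).base 𝔔 := by
      rw [← he1', Scheme.Hom.comp_apply, ← Scheme.Hom.comp_apply e'.inv e'.hom, e'.inv_hom_id]
      rfl
    rw [h1] at hcl
    exact hcl

set_option maxHeartbeats 800000 in
/-- **Universal openness at a point can be tested on finite base changes.** -/
theorem isUnivOpenAt_of_finite {X Y : Scheme.{u}} [IsNoetherian Y] (f : X ⟶ Y)
    [LocallyOfFiniteType f] (x : X)
    (H : ∀ (Y' : Scheme.{u}) (g : Y' ⟶ Y) [IsFinite g], ∀ x' : ↥(pullback f g),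
      (pullback.fst f g).base x' = x → IsOpenAt (pullback.snd f g).base x') :
    IsUnivOpenAt f x := by
  obtain ⟨_, ⟨V, hV : IsAffineOpen V, rfl⟩, hyV, -⟩ :=
    Y.isBasis_affineOpens.exists_subset_of_mem_open (Set.mem_univ (f.base x)) isOpen_univ
  obtain ⟨_, ⟨W, hW : IsAffineOpen W, rfl⟩, hxW, hWV⟩ :=
    X.isBasis_affineOpens.exists_subset_of_mem_open (show x ∈ ((f ⁻¹ᵁ V : X.Opens) : Set X) from hyV)
      (f ⁻¹ᵁ V).isOpen
  have e : W ≤ f ⁻¹ᵁ V := hWV
  let φ : Γ(Y, V) ⟶ Γ(X, W) := f.appLE V W e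
  letI : Algebra Γ(Y, V) Γ(X, W) := φ.hom.toAlgebra
  have hφ : CommRingCat.ofHom (algebraMap Γ(Y, V) Γ(X, W)) = φ := rfl
  haveI hN : IsNoetherianRing Γ(Y, V) := IsLocallyNoetherian.component_noetherian ⟨V, hV⟩
  haveI hft : Algebra.FiniteType Γ(Y, V) Γ(X, W) := by
    have := HasRingHomProperty.appLE (P := @LocallyOfFiniteType) f inferInstance ⟨V, hV⟩ ⟨W, hW⟩ e
    exact (RingHom.finiteType_algebraMap (A := Γ(Y, V)) (B := Γ(X, W))).mp this
  have hcomm : Spec.map φ ≫ hV.fromSpec = hW.fromSpec ≫ f :=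
    IsAffineOpen.SpecMap_appLE_fromSpec f hV hW e
  have hx : x ∈ Set.range hW.fromSpec.base := by
    rw [hW.range_fromSpec]; exact hxW
  obtain ⟨𝔭, rfl⟩ := hx
  have h1 : DVRCrit (Spec.map (CommRingCat.ofHom (algebraMap Γ(Y, V) Γ(X, W)))) 𝔭 :=
    dvrCrit_SpecMap f _ H hV.fromSpec hW.fromSpec hcomm 𝔭 rfl
  have h2 := isUnivOpenAt_SpecMap_of_dvrCrit (A := Γ(Y, V)) (B := Γ(X, W)) 𝔭 h1
  have h3 : IsUnivOpenAt (Spec.map φ ≫ hV.fromSpec) 𝔭 :=
    Groth.Agent.S4925.result _ _ _ h2 (isUnivOpenAt_of_universallyOpen _ _)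
  rw [hcomm] at h3
  exact Groth.Agent.S4926.result _ _ _ h3

end Groth.Agent.Lib.R2H3.FinOpenD
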