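import Mathlib
import Groth.Agent.Lib.Helper18FittSh5
import Groth.Agent.Lib.Helper18FittSh3
import Groth.Agent.Lib.Helper22FTLimit
import Groth.Agent.Lib.Helper20FormalPull
import Groth.Agent.Lib.Helper5Compl
import Groth.Agent.S2575
import Groth.Agent.S2584

/-!
# Fitting ideals on fibres and constructibility of loci (helper3, run 2)

For `f : X ⟶ S` of finite presentation and a finite type quasi-coherent ideal sheaf `I` on `X`:
* `comap_fiberι_eq_top_iff` : `I.comap (f.fiberι s) = ⊤ ↔ s ∉ range (I.subschemeι ≫ f)`;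
* `comap_fiberι_eq_bot_iff` : `I.comap (f.fiberι s) = ⊥ ↔` the fibre of `V(I) ⟶ X` over `s` is an isomorphism;
* `isLocallyConstructible_setOf_comap_eq_top/bot` : both loci are locally constructible;
* `isFinLocFreeOfRank_fibre_iff` : the fibre `F_s` is locally free of rank `n` iff
  `Fitt_k(F)` pulls back to `⊥` on `X_s` for `k < n` and `Fitt_n(F)` pulls back to `⊤`.
-/

set_option autoImplicit false
set_option linter.style.haveILetI false
set_option linter.unusedVariables false
universe u
open CategoryTheory AlgebraicGeometry Limits Opposite TopologicalSpace Topology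

namespace Groth.Agent.Lib.R2H3.FittFibre

variable {X S : Scheme.{u}} (f : X ⟶ S)

theorem comap_fiberι_eq_top_iff (I : X.IdealSheafData) (s : S) :
    I.comap (f.fiberι s) = ⊤ ↔ s ∉ Set.range (I.subschemeι ≫ f) := by
  rw [Scheme.IdealSheafData.comap, Scheme.Hom.ker_eq_top_iff_isEmpty]
  constructor
  · rintro h ⟨z, hz⟩
    have hz' : I.subschemeι z ∈ Set.range (f.fiberι s) := by
      rw [Scheme.Hom.range_fiberι]
      simpa using hz
    obtain ⟨x, hx⟩ := hz'
    obtain ⟨w, -, -⟩ := Scheme.Pullback.exists_preimage_pullback (f := f.fiberι s)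
      (g := I.subschemeι) x z hx
    exact h.false w
  · intro h
    refine ⟨fun w => h ?_⟩
    refine ⟨pullback.snd (f.fiberι s) I.subschemeι w, ?_⟩
    have h1 : I.subschemeι (pullback.snd (f.fiberι s) I.subschemeι w) =
        f.fiberι s (pullback.fst (f.fiberι s) I.subschemeι w) := by
      rw [← Scheme.Hom.comp_apply, ← Scheme.Hom.comp_apply, pullback.condition]
    have h2 : f.fiberι s (pullback.fst (f.fiberι s) I.subschemeι w) ∈ f ⁻¹' {s} := by
      rw [← Scheme.Hom.range_fiberι]
      exact ⟨_, rfl⟩
    rw [Scheme.Hom.comp_apply, h1]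
    exact h2

/-- the fibre of `V(I) ⟶ X` over `s`, in the form of S2575. -/
noncomputable abbrev fibMap (I : X.IdealSheafData) (s : S) :
    pullback (I.subschemeι ≫ f) (S.fromSpecResidueField s) ⟶ pullback f (S.fromSpecResidueField s) :=
  pullback.lift (pullback.fst (I.subschemeι ≫ f) (S.fromSpecResidueField s) ≫ I.subschemeι)
    (pullback.snd (I.subschemeι ≫ f) (S.fromSpecResidueField s))
    ((Category.assoc _ _ _).trans pullback.condition)

theorem isPullback_fibMap (I : X.IdealSheafData) (s : S) :
    IsPullback (fibMap f I s) (pullback.fst (I.subschemeι ≫ f) (S.fromSpecResidueField s))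
      (pullback.fst f (S.fromSpecResidueField s)) I.subschemeι := by
  have big : IsPullback (fibMap f I s ≫ pullback.snd f (S.fromSpecResidueField s))
      (pullback.fst (I.subschemeι ≫ f) (S.fromSpecResidueField s)) (S.fromSpecResidueField s)
      (I.subschemeι ≫ f) := by
    have := (IsPullback.of_hasPullback (I.subschemeι ≫ f) (S.fromSpecResidueField s)).flip
    rwa [show fibMap f I s ≫ pullback.snd f (S.fromSpecResidueField s) =
      pullback.snd (I.subschemeι ≫ f) (S.fromSpecResidueField s) from pullback.lift_snd _ _ _]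
  exact IsPullback.of_right big (pullback.lift_fst _ _ _)
    (IsPullback.of_hasPullback f (S.fromSpecResidueField s)).flip

theorem comap_fiberι_eq_bot_iff (I : X.IdealSheafData) (s : S) :
    I.comap (f.fiberι s) = ⊥ ↔ IsIso (fibMap f I s) := by
  rw [Scheme.IdealSheafData.comap, ← IsClosedImmersion.isIso_iff_ker_eq_bot]
  have hp := isPullback_fibMap f I s
  have h1 : hp.isoPullback.hom ≫ pullback.fst (f.fiberι s) I.subschemeι = fibMap f I s :=
    hp.isoPullback_hom_fst
  rw [← h1]
  constructor
  · intro h
    exact IsIso.comp_isIso' inferInstance h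
  · intro h
    exact (isIso_comp_left_iff hp.isoPullback.hom _).mp h

variable [LocallyOfFinitePresentation f] [QuasiCompact f] [QuasiSeparated f]

omit [QuasiSeparated f] in
theorem isLocallyConstructible_setOf_comap_eq_top (I : X.IdealSheafData)
    (hI : Groth.Agent.Lib.Helper22.FTIdeal.FT I) :
    IsLocallyConstructible {s : S | I.comap (f.fiberι s) = ⊤} := by
  haveI : LocallyOfFinitePresentation I.subschemeι :=
    Groth.Agent.Lib.Helper22.FTLimit.locallyOfFinitePresentation_subschemeι I hI
  have h1 : IsLocallyConstructible (Set.range (I.subschemeι ≫ f)) := by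
    rw [← Set.image_univ]
    exact (I.subschemeι ≫ f).isLocallyConstructible_image IsLocallyConstructible.univ
  convert Groth.Agent.Lib.Helper5.isLocallyConstructible_compl h1 using 1
  ext s
  exact comap_fiberι_eq_top_iff f I s

theorem isLocallyConstructible_setOf_comap_eq_bot (I : X.IdealSheafData)
    (hI : Groth.Agent.Lib.Helper22.FTIdeal.FT I) :
    IsLocallyConstructible {s : S | I.comap (f.fiberι s) = ⊥} := by
  haveI : LocallyOfFinitePresentation I.subschemeι :=
    Groth.Agent.Lib.Helper22.FTLimit.locallyOfFinitePresentation_subschemeι I hI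
  convert Groth.Agent.S2575.result I.subschemeι f using 1
  ext s
  exact comap_fiberι_eq_bot_iff f I s

omit [LocallyOfFinitePresentation f] [QuasiCompact f] [QuasiSeparated f] in
theorem isFinLocFreeOfRank_pullback_iff {Y : Scheme.{u}} (g : Y ⟶ X) (F : X.Modules) [F.IsQuasicoherent]
    (hft : CohB1.IsFT F) (n : ℕ) :
    FlatMod.IsFinLocFreeOfRank n ((Scheme.Modules.pullback g).obj F) ↔
      (∀ k : ℕ, k < n → (Fitt.sheafIdeal F k).comap g = ⊥) ∧
        (Fitt.sheafIdeal F n).comap g = ⊤ := by
  haveI : SheafOfModules.IsFiniteType (R := X.ringCatSheaf) F := hft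
  have hq : ((Scheme.Modules.pullback g).obj F).IsQuasicoherent :=
    Groth.Agent.Lib.Helper20.PullbackAff.isQuasicoherent_pullback g F
  have hft' : CohB1.IsFT ((Scheme.Modules.pullback g).obj F) :=
    Groth.Agent.Lib.Helper20.FormalPull.isFiniteType_pullback g F
  have hc : ∀ k, (Fitt.sheafIdeal F k).comap g =
      Fitt.sheafIdeal ((Scheme.Modules.pullback g).obj F) k :=
    fun k => Groth.Agent.Helper18FittSh.main_S8872 g F ‹_› hft k
  constructor
  · intro h
    obtain ⟨h1, h2⟩ := (Groth.Agent.Helper18FittSh.main_S8875 Y _ hq hft' n).mp h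
    exact ⟨fun k hk => (hc k).trans (h1 k hk), (hc n).trans (h2 n le_rfl)⟩
  · rintro ⟨h1, h2⟩
    haveI := hq
    exact Groth.Agent.Helper18FittSh.isFinLocFreeOfRank_of_fitt _ hft' n
      (fun k hk => (hc k).symm.trans (h1 k hk)) ((hc n).symm.trans h2)

theorem isLocallyConstructible_setOf_fibre_isFinLocFreeOfRank (F : X.Modules) [F.IsQuasicoherent]
    (hF : CohB1.IsFP F) (n : ℕ) :
    IsLocallyConstructible
      {s : S | FlatMod.IsFinLocFreeOfRank n ((Scheme.Modules.pullback (f.fiberι s)).obj F)} := by
  have hft : CohB1.IsFT F := by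
    haveI : SheafOfModules.IsFinitePresentation (R := X.ringCatSheaf) F := hF
    obtain ⟨σ, hσ⟩ := SheafOfModules.IsFinitePresentation.exists_quasicoherentData (R := X.ringCatSheaf) F
    exact { exists_localGeneratorsData := ⟨σ.localGeneratorsData,
      { isFiniteType := fun i => (hσ.isFinite_presentation i).isFiniteType_generators }⟩ }
  have hI : ∀ k, Groth.Agent.Lib.Helper22.FTIdeal.FT (Fitt.sheafIdeal F k) :=
    fun k => Groth.Agent.Helper18FittSh.main_S8873 X F hF k
  have hset : {s : S | FlatMod.IsFinLocFreeOfRank n ((Scheme.Modules.pullback (f.fiberι s)).obj F)} =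
      (⋂ k : Fin n, {s : S | (Fitt.sheafIdeal F k).comap (f.fiberι s) = ⊥}) ∩
        {s : S | (Fitt.sheafIdeal F n).comap (f.fiberι s) = ⊤} := by
    ext s
    rw [Set.mem_ofPred_eq, isFinLocFreeOfRank_pullback_iff (f.fiberι s) F hft n]
    simp only [Set.mem_inter_iff, Set.mem_iInter, Set.mem_ofPred_eq]
    constructor
    · rintro ⟨h1, h2⟩
      exact ⟨fun k => h1 k k.2, h2⟩
    · rintro ⟨h1, h2⟩
      exact ⟨fun k hk => h1 ⟨k, hk⟩, h2⟩
  rw [hset]
  exact (IsLocallyConstructible.iInter fun k : Fin n =>
    isLocallyConstructible_setOf_comap_eq_bot f _ (hI (k : ℕ))).inter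
    (isLocallyConstructible_setOf_comap_eq_top f _ (hI n))

end Groth.Agent.Lib.R2H3.FittFibre
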