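import Mathlib
import Groth.Agent.Lib.R2H3FittFibre
import Groth.Agent.Lib.Helper26ModRank
import Groth.Agent.Lib.Helper20LocFree
import Groth.Agent.Lib.Helper18Fitt20

/-!
# Local freeness of pullbacks via Fitting ideals (helper3, run 2)

* `comap_eq_top_iff`, `comap_eq_bot_iff_le_ker`, `mem_support_of_comap_eq_bot`;
* `sheafIdeal_mono` : Fitting ideal sheaves increase with the index;
* `isOpenImmersion_subschemeι_iff` : `V(K) ⟶ T` is an open immersion iff `K` vanishes near every point of
  its support;
* `isFinLocFree_pullback_iff` : for `t : T ⟶ X` and `F` quasi-coherent of finite type on `X`,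
  `t^* F` is finite locally free iff all closed immersions `V(Fitt_k(F) · O_T) ⟶ T` are open immersions;
* `isLocallyConstructible_iInter_of_locally_finite`;
* `isLocallyConstructible_setOf_fibre_isFinLocFree`.
-/

set_option autoImplicit false
set_option linter.style.haveILetI false
set_option linter.unusedVariables false
universe u
open CategoryTheory AlgebraicGeometry Limits Opposite TopologicalSpace Topology

namespace Groth.Agent.Lib.R2H3.FittFibreB

open Groth.Agent.Lib.R2H3.FittFibre
open Groth.Agent.Lib.Helper20.PullbackAff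

section ideals

variable {T X : Scheme.{u}}

theorem mem_support_comap_iff (I : X.IdealSheafData) (g : T ⟶ X) (y : T) :
    y ∈ (I.comap g).support ↔ g y ∈ I.support := by
  rw [Scheme.IdealSheafData.support_comap]
  rfl

theorem comap_eq_top_iff (I : X.IdealSheafData) (g : T ⟶ X) :
    I.comap g = ⊤ ↔ ∀ y : T, g y ∉ I.support := by
  rw [← Scheme.IdealSheafData.support_eq_bot_iff]
  constructor
  · intro h y hy
    have : y ∈ (I.comap g).support := (mem_support_comap_iff I g y).mpr hy
    rw [h] at this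
    exact this
  · intro h
    ext y
    constructor
    · intro hy
      exact (h y ((mem_support_comap_iff I g y).mp hy)).elim
    · intro hy
      exact hy.elim

theorem comap_eq_bot_iff_le_ker (I : X.IdealSheafData) (g : T ⟶ X) :
    I.comap g = ⊥ ↔ I ≤ g.ker := by
  rw [← le_bot_iff, ← Scheme.IdealSheafData.le_map_iff_comap_le, Scheme.IdealSheafData.map_bot]

theorem comap_comp_eq_bot {Z : Scheme.{u}} (I : X.IdealSheafData) (g : T ⟶ X) (h : Z ⟶ T)
    (hI : I.comap g = ⊥) : I.comap (h ≫ g) = ⊥ := by
  rw [Scheme.IdealSheafData.comap_comp, hI, Scheme.IdealSheafData.comap_bot]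

theorem mem_support_of_comap_eq_bot (I : X.IdealSheafData) (g : T ⟶ X) (h : I.comap g = ⊥)
    (y : T) : g y ∈ I.support := by
  rw [← mem_support_comap_iff, h, Scheme.IdealSheafData.support_bot]
  trivial

end ideals

section mono

open Groth.Agent.Helper18FittSh Groth.Agent.Helper18Fitt

theorem sheafIdeal_mono {X : Scheme.{u}} (F : X.Modules) [F.IsQuasicoherent] (hft : CohB1.IsFT F)
    {k k' : ℕ} (h : k ≤ k') : Fitt.sheafIdeal F k ≤ Fitt.sheafIdeal F k' := by
  rw [Scheme.IdealSheafData.le_def]
  intro V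
  have hfin := finite_sections F hft
  haveI := hfin V
  rw [sheafIdeal_ideal F k hfin V, sheafIdeal_ideal F k' hfin V]
  exact fitt_mono h

end mono

section locbot

variable {T : Scheme.{u}}

theorem isOpenImmersion_subschemeι_iff (K : T.IdealSheafData) :
    IsOpenImmersion K.subschemeι ↔
      ∀ y : T, y ∈ K.support → ∃ W : T.Opens, y ∈ W ∧ K.comap W.ι = ⊥ := by
  constructor
  · intro h y hy
    refine ⟨K.subschemeι.opensRange, ?_, ?_⟩
    · have : y ∈ Set.range K.subschemeι := by
        rw [Scheme.IdealSheafData.range_subschemeι]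
        exact hy
      exact this
    · rw [comap_eq_bot_iff_le_ker]
      have h1 : K.subschemeι.opensRange.ι =
          (IsOpenImmersion.isoOfRangeEq K.subschemeι.opensRange.ι K.subschemeι (by simp)).hom ≫
            K.subschemeι := by
        simp
      rw [h1]
      calc K = K.subschemeι.ker := K.ker_subschemeι.symm
        _ ≤ _ := Scheme.Hom.le_ker_comp _ _
  · intro h
    choose W hW hW' using h
    obtain ⟨D, hD⟩ : ∃ D : T.Opens, D = K.support.compl := ⟨_, rfl⟩
    let U : Option {y : T // y ∈ K.support} → T.Opens := fun o =>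
      match o with
      | none => D
      | some y => W y.1 y.2
    have hU : iSup U = ⊤ := by
      rw [eq_top_iff]
      intro y _
      by_cases hy : y ∈ K.support
      · exact Opens.mem_iSup.mpr ⟨some ⟨y, hy⟩, hW y hy⟩
      · refine Opens.mem_iSup.mpr ⟨none, ?_⟩
        show y ∈ D
        rw [hD]
        exact hy
    refine IsZariskiLocalAtTarget.of_iSup_eq_top (P := @IsOpenImmersion) U hU fun o => ?_
    have key : IsOpenImmersion (pullback.snd K.subschemeι (U o).ι) := by
      rcases o with _ | ⟨y, hy⟩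
      · haveI : IsEmpty ↑(pullback K.subschemeι D.ι) := by
          refine ⟨fun w => ?_⟩
          have h1 : K.subschemeι (pullback.fst K.subschemeι D.ι w) =
              D.ι (pullback.snd K.subschemeι D.ι w) := by
            rw [← Scheme.Hom.comp_apply, ← Scheme.Hom.comp_apply, pullback.condition]
          have h2 : K.subschemeι (pullback.fst K.subschemeι D.ι w) ∈ K.support := by
            have : K.subschemeι (pullback.fst K.subschemeι D.ι w) ∈ Set.range K.subschemeι :=
              ⟨_, rfl⟩
            rw [Scheme.IdealSheafData.range_subschemeι K] at this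
            exact this
          have h3 : D.ι (pullback.snd K.subschemeι D.ι w) ∈ D :=
            (pullback.snd K.subschemeι D.ι w).2
          rw [← h1] at h3
          have h4 : ∀ z : T, z ∈ D → z ∉ K.support := by
            intro z hz
            rw [hD] at hz
            exact hz
          exact h4 _ h3 h2
        change IsOpenImmersion (pullback.snd K.subschemeι D.ι)
        infer_instance
      · have hb : K.comap (W y hy).ι = ⊥ := hW' y hy
        have h1 : IsIso (pullback.fst (W y hy).ι K.subschemeι) := by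
          rw [IsClosedImmersion.isIso_iff_ker_eq_bot]
          exact hb
        have h2 : pullback.snd K.subschemeι (W y hy).ι =
            (pullbackSymmetry _ _).hom ≫ pullback.fst (W y hy).ι K.subschemeι := by
          simp
        change IsOpenImmersion (pullback.snd K.subschemeι (W y hy).ι)
        rw [h2]
        infer_instance
    have h3 : K.subschemeι ∣_ U o = (pullbackRestrictIsoRestrict K.subschemeι (U o)).inv ≫
        pullback.snd K.subschemeι (U o).ι := rfl
    rw [h3]
    infer_instance

end locbot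

section transfer

variable {T : Scheme.{u}} (G : T.Modules) [G.IsQuasicoherent]

theorem exists_restrict_iso_of_isFinLocFreeOfRank_pullback_ι (W : T.Opens) (r : ℕ)
    (h : FlatMod.IsFinLocFreeOfRank r ((Scheme.Modules.pullback W.ι).obj G)) (y : T) (hy : y ∈ W) :
    ∃ U : T.Opens, y ∈ U ∧ Nonempty (G.restrict U.ι ≅ FlatMod.freeMod (U : Scheme.{u}) r) := by
  obtain ⟨U', hyU', ⟨e'⟩⟩ := h ⟨y, hy⟩
  let e1 : G.restrict W.ι ≅ (Scheme.Modules.pullback W.ι).obj G :=
    (Scheme.Modules.restrictFunctorIsoPullback W.ι).app G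
  let e2 : G.restrict (U'.ι ≫ W.ι) ≅ (G.restrict W.ι).restrict U'.ι :=
    (Scheme.Modules.restrictFunctorComp U'.ι W.ι).app G
  let e'' : G.restrict (U'.ι ≫ W.ι) ≅ FlatMod.freeMod (U' : Scheme.{u}) r :=
    e2 ≪≫ (Scheme.Modules.restrictFunctor U'.ι).mapIso e1 ≪≫ e'
  obtain ⟨W'', hW'', hyW'', ⟨b⟩⟩ :=
    Groth.Agent.Helper18FittSh.exists_affine_basis_of_restrict_iso_freeMod G (U'.ι ≫ W.ι) e''
      ⟨⟨y, hy⟩, hyU'⟩
  exact ⟨W'', hyW'', ⟨Groth.Agent.Lib.Helper20.LocFree.restrictIsoFreeMod G hW'' b⟩⟩

theorem isFinLocFreeOfRank_pullback_ι_of_restrict_iso (W : T.Opens) (r : ℕ)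
    (e : G.restrict W.ι ≅ FlatMod.freeMod (W : Scheme.{u}) r) :
    FlatMod.IsFinLocFreeOfRank r ((Scheme.Modules.pullback W.ι).obj G) := by
  intro x
  exact Groth.Agent.Lib.Helper26.ModRank.exists_restrict_iso_freeMod_pullback W.ι G e x x.2

end transfer

section main

variable {T X : Scheme.{u}} (t : T ⟶ X) (F : X.Modules) [F.IsQuasicoherent]

theorem isFinLocFreeOfRank_pullback_ι_comp_iff (hft : CohB1.IsFT F) (W : T.Opens) (n : ℕ) :
    FlatMod.IsFinLocFreeOfRank n
        ((Scheme.Modules.pullback W.ι).obj ((Scheme.Modules.pullback t).obj F)) ↔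
      (∀ k : ℕ, k < n → (Fitt.sheafIdeal F k).comap (W.ι ≫ t) = ⊥) ∧
        (Fitt.sheafIdeal F n).comap (W.ι ≫ t) = ⊤ := by
  rw [← isFinLocFreeOfRank_pullback_iff (W.ι ≫ t) F hft n]
  let e : (Scheme.Modules.pullback W.ι).obj ((Scheme.Modules.pullback t).obj F) ≅
      (Scheme.Modules.pullback (W.ι ≫ t)).obj F := (Scheme.Modules.pullbackComp W.ι t).app F
  exact ⟨Groth.Agent.Lib.Helper26.ModRank.isFinLocFreeOfRank_of_iso e,
    Groth.Agent.Lib.Helper26.ModRank.isFinLocFreeOfRank_of_iso e.symm⟩

theorem isFinLocFree_pullback_iff (hft : CohB1.IsFT F) :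
    FlatMod.IsFinLocFree ((Scheme.Modules.pullback t).obj F) ↔
      ∀ k : ℕ, IsOpenImmersion ((Fitt.sheafIdeal F k).comap t).subschemeι := by
  haveI : SheafOfModules.IsFiniteType (R := X.ringCatSheaf) F := hft
  haveI hq : ((Scheme.Modules.pullback t).obj F).IsQuasicoherent := isQuasicoherent_pullback t F
  simp only [isOpenImmersion_subschemeι_iff]
  constructor
  · intro hG k y hy
    obtain ⟨U, n, hyU, ⟨e⟩⟩ := hG y
    have h1 := isFinLocFreeOfRank_pullback_ι_of_restrict_iso _ U n e
    obtain ⟨h2, h3⟩ := (isFinLocFreeOfRank_pullback_ι_comp_iff t F hft U n).mp h1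
    refine ⟨U, hyU, ?_⟩
    rw [← Scheme.IdealSheafData.comap_comp]
    by_cases hkn : k < n
    · exact h2 k hkn
    · exfalso
      have h4 : (Fitt.sheafIdeal F k).comap (U.ι ≫ t) = ⊤ := by
        rw [eq_top_iff, ← h3]
        exact Scheme.IdealSheafData.comap_mono _ (sheafIdeal_mono F hft (not_lt.mp hkn))
      have h5 := (comap_eq_top_iff _ _).mp h4 ⟨y, hyU⟩
      exact h5 ((mem_support_comap_iff _ t y).mp hy)
  · intro hK y
    have hex : ∃ r : ℕ, t y ∉ (Fitt.sheafIdeal F r).support :=
      Groth.Agent.Helper18FittSh.main_S8877 X F ‹_› hft (t y)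
    classical
    obtain ⟨r, hr, hmin⟩ : ∃ r : ℕ, t y ∉ (Fitt.sheafIdeal F r).support ∧
        ∀ j < r, t y ∈ (Fitt.sheafIdeal F j).support :=
      ⟨Nat.find hex, Nat.find_spec hex, fun j hj => not_not.mp (Nat.find_min hex hj)⟩
    obtain ⟨D, hD⟩ : ∃ D : T.Opens, D = (((Fitt.sheafIdeal F r).comap t).support).compl := ⟨_, rfl⟩
    have hyD : y ∈ D := by
      rw [hD]
      intro hy
      exact hr ((mem_support_comap_iff _ t y).mp hy)
    have hDtop : ∀ W : T.Opens, W ≤ D → (Fitt.sheafIdeal F r).comap (W.ι ≫ t) = ⊤ := by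
      intro W hWD
      rw [comap_eq_top_iff]
      intro w hw
      have h1 : (W.ι w) ∈ D := hWD w.2
      rw [hD] at h1
      apply h1
      rw [Scheme.Hom.comp_apply] at hw
      exact (mem_support_comap_iff _ t _).mpr hw
    rcases r with _ | k
    · have h1 : FlatMod.IsFinLocFreeOfRank 0
          ((Scheme.Modules.pullback D.ι).obj ((Scheme.Modules.pullback t).obj F)) := by
        rw [isFinLocFreeOfRank_pullback_ι_comp_iff t F hft D 0]
        exact ⟨fun k hk => (Nat.not_lt_zero k hk).elim, hDtop D le_rfl⟩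
      obtain ⟨U, hyU, hU⟩ := exists_restrict_iso_of_isFinLocFreeOfRank_pullback_ι _ D 0 h1 y hyD
      exact ⟨U, 0, hyU, hU⟩
    · have hyk : y ∈ ((Fitt.sheafIdeal F k).comap t).support :=
        (mem_support_comap_iff _ t y).mpr (hmin k (Nat.lt_succ_self k))
      obtain ⟨W₁, hyW₁, hW₁⟩ := hK k y hyk
      have h1 : FlatMod.IsFinLocFreeOfRank (k + 1)
          ((Scheme.Modules.pullback (W₁ ⊓ D).ι).obj ((Scheme.Modules.pullback t).obj F)) := by
        rw [isFinLocFreeOfRank_pullback_ι_comp_iff t F hft (W₁ ⊓ D) (k + 1)]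
        refine ⟨fun j hj => ?_, hDtop _ inf_le_right⟩
        have h2 : (Fitt.sheafIdeal F k).comap ((W₁ ⊓ D).ι ≫ t) = ⊥ := by
          have h3 : (W₁ ⊓ D).ι = T.homOfLE (inf_le_left : W₁ ⊓ D ≤ W₁) ≫ W₁.ι := by simp
          rw [h3, Category.assoc]
          apply comap_comp_eq_bot
          rw [Scheme.IdealSheafData.comap_comp]
          exact hW₁
        rw [← le_bot_iff, ← h2]
        exact Scheme.IdealSheafData.comap_mono _ (sheafIdeal_mono F hft (Nat.lt_succ_iff.mp hj))
      obtain ⟨U, hyU, hU⟩ :=
        exists_restrict_iso_of_isFinLocFreeOfRank_pullback_ι _ (W₁ ⊓ D) (k + 1) h1 y ⟨hyW₁, hyD⟩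
      exact ⟨U, k + 1, hyU, hU⟩

end main

section topo
open scoped Set.Notation

theorem isLocallyConstructible_iInter_of_locally_finite {S : Type*} [TopologicalSpace S]
    (E : ℕ → Set S) (hE : ∀ k, IsLocallyConstructible (E k))
    (h : ∀ x : S, ∃ V : Set S, IsOpen V ∧ x ∈ V ∧ ∃ N : ℕ, ∀ k, N ≤ k → V ⊆ E k) :
    IsLocallyConstructible (⋂ k, E k) := by
  intro x
  obtain ⟨V, hVo, hxV, N, hN⟩ := h x
  have hE' : IsLocallyConstructible (⋂ k : Fin N, E k) :=
    IsLocallyConstructible.iInter fun k : Fin N => hE k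
  obtain ⟨U', hU'n, hU'o, hc⟩ := hE' x
  refine ⟨U' ∩ V, Filter.inter_mem hU'n (hVo.mem_nhds hxV), hU'o.inter hVo, ?_⟩
  have hset : (U' ∩ V) ↓∩ (⋂ k, E k) =
      Set.inclusion (Set.inter_subset_left : U' ∩ V ⊆ U') ⁻¹' (U' ↓∩ (⋂ k : Fin N, E k)) := by
    ext ⟨z, hzU', hzV⟩
    simp only [Set.mem_preimage, Set.mem_iInter, Set.inclusion_mk]
    constructor
    · intro hz k
      exact hz k
    · intro hz k
      by_cases hk : k < N
      · exact hz ⟨k, hk⟩
      · exact hN k (not_lt.mp hk) hzV
  rw [hset]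
  exact hc.preimage_of_isOpenEmbedding <| .inclusion _ <|
    .preimage continuous_subtype_val <| hU'o.inter hVo

end topo

section final

variable {X S : Scheme.{u}} (f : X ⟶ S)

omit f in
theorem isOpenImmersion_iff_of_isPullback {P T : Scheme.{u}} (I : X.IdealSheafData) (t : T ⟶ X)
    (q : P ⟶ T) (p : P ⟶ I.subscheme) (hp : IsPullback q p t I.subschemeι) :
    IsOpenImmersion q ↔ IsOpenImmersion (I.comap t).subschemeι := by
  have h1 : q = hp.isoPullback.hom ≫ (I.comapIso t).inv ≫ (I.comap t).subschemeι := by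
    rw [Scheme.IdealSheafData.comapIso_inv_subschemeι]
    exact hp.isoPullback_hom_fst.symm
  constructor
  · intro h
    have h2 : (I.comap t).subschemeι = (I.comapIso t).hom ≫ hp.isoPullback.inv ≫ q := by
      rw [hp.isoPullback_inv_fst, Scheme.IdealSheafData.comapIso_hom_fst]
    rw [h2]
    infer_instance
  · intro h
    rw [h1]
    infer_instance

theorem isOpenImmersion_fibMap_iff (I : X.IdealSheafData) (s : S) :
    IsOpenImmersion (fibMap f I s) ↔ IsOpenImmersion (I.comap (f.fiberι s)).subschemeι :=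
  isOpenImmersion_iff_of_isPullback (T := f.fiber s) I (f.fiberι s) (fibMap f I s)
    (pullback.fst (I.subschemeι ≫ f) (S.fromSpecResidueField s)) (isPullback_fibMap f I s)

variable [LocallyOfFinitePresentation f] [QuasiCompact f] [QuasiSeparated f]

theorem isLocallyConstructible_setOf_fibre_isFinLocFree (F : X.Modules) [F.IsQuasicoherent]
    (hF : CohB1.IsFP F) :
    IsLocallyConstructible
      {s : S | FlatMod.IsFinLocFree ((Scheme.Modules.pullback (f.fiberι s)).obj F)} := by
  have hft : CohB1.IsFT F := by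
    haveI : SheafOfModules.IsFinitePresentation (R := X.ringCatSheaf) F := hF
    obtain ⟨σ, hσ⟩ := SheafOfModules.IsFinitePresentation.exists_quasicoherentData (R := X.ringCatSheaf) F
    exact { exists_localGeneratorsData := ⟨σ.localGeneratorsData,
      { isFiniteType := fun i => (hσ.isFinite_presentation i).isFiniteType_generators }⟩ }
  have hI : ∀ k, Groth.Agent.Lib.Helper22.FTIdeal.FT (Fitt.sheafIdeal F k) :=
    fun k => Groth.Agent.Helper18FittSh.main_S8873 X F hF k
  have hset : {s : S | FlatMod.IsFinLocFree ((Scheme.Modules.pullback (f.fiberι s)).obj F)} =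
      ⋂ k : ℕ, {s : S | IsOpenImmersion (fibMap f (Fitt.sheafIdeal F k) s)} := by
    ext s
    simp only [Set.mem_iInter, Set.mem_ofPred_eq]
    rw [isFinLocFree_pullback_iff (f.fiberι s) F hft]
    exact forall_congr' fun k => (isOpenImmersion_fibMap_iff f _ s).symm
  rw [hset]
  apply isLocallyConstructible_iInter_of_locally_finite
  · intro k
    haveI : LocallyOfFinitePresentation (Fitt.sheafIdeal F k).subschemeι :=
      Groth.Agent.Lib.Helper22.FTLimit.locallyOfFinitePresentation_subschemeι _ (hI k)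
    exact Groth.Agent.S2584.result (Fitt.sheafIdeal F k).subschemeι f
  · intro x
    obtain ⟨V, hV, hxV, -⟩ := exists_isAffineOpen_mem_and_subset (x := x) (U := ⊤) trivial
    refine ⟨V, V.2, hxV, ?_⟩
    have hcomp : IsCompact (f ⁻¹' (V : Set S)) :=
      QuasiCompact.isCompact_preimage (f := f) _ V.2 hV.isCompact
    obtain ⟨N, hN⟩ := hcomp.elim_directed_cover
      (fun r : ℕ => ((Fitt.sheafIdeal F r).support : Set X)ᶜ)
      (fun r => (Fitt.sheafIdeal F r).support.isClosed.isOpen_compl)
      (fun z _ => by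
        obtain ⟨r, hr⟩ := Groth.Agent.Helper18FittSh.main_S8877 X F ‹_› hft z
        exact Set.mem_iUnion.mpr ⟨r, hr⟩)
      (fun r r' => ⟨max r r',
        Set.compl_subset_compl.mpr (Scheme.IdealSheafData.support_antitone
          (sheafIdeal_mono F hft (le_max_left r r'))),
        Set.compl_subset_compl.mpr (Scheme.IdealSheafData.support_antitone
          (sheafIdeal_mono F hft (le_max_right r r')))⟩)
    refine ⟨N, fun k hk s hs => ?_⟩
    show IsOpenImmersion (fibMap f (Fitt.sheafIdeal F k) s)
    rw [isOpenImmersion_fibMap_iff]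
    have htop : (Fitt.sheafIdeal F k).comap (f.fiberι s) = ⊤ := by
      rw [comap_eq_top_iff]
      intro y hy
      have h1 : f.fiberι s y ∈ f ⁻¹' {s} := by
        rw [← Scheme.Hom.range_fiberι]
        exact ⟨y, rfl⟩
      have h2 : f.fiberι s y ∈ f ⁻¹' (V : Set S) := by
        have : f (f.fiberι s y) = s := h1
        show f (f.fiberι s y) ∈ V
        rw [this]
        exact hs
      have h3 := hN h2
      exact h3 (Scheme.IdealSheafData.support_antitone (sheafIdeal_mono F hft hk) hy)
    rw [isOpenImmersion_subschemeι_iff, htop]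
    intro y hy
    exact hy.elim

end final

end Groth.Agent.Lib.R2H3.FittFibreB
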