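import Mathlib
import Groth.Agent.Lib.Helper18OmLS13

/-!
# Injectivity of `A ⊗ I^n → A ⊗ B` from flatness of graded pieces (helper3, round 2)

Setting: `C → B → C` ring maps composing to the identity (a section of a retraction), `J = ker (B → C)`,
and a family of ideals `I k` with `I 0 = ⊤`, `I (k+1) = J * I k` (i.e. `I k = J ^ k`).

* `oneTmul` : the `C`-linear map `M → C ⊗[B] M`, `x ↦ 1 ⊗ x`.
* `lTensor_injective_of_flat_gr` : if `C ⊗[B] I k` is `C`-flat for `k < n` then `A ⊗[C] I n → A ⊗[C] B`
  is injective for every `C`-module `A`.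
* `lTensor_injective_of_pushout` : if `B' = C' ⊗[C] B` then injectivity of `C' ⊗[C] P → C' ⊗[C] B` gives
  injectivity of `B' ⊗[B] P → B' ⊗[B] B`.
-/

set_option autoImplicit false
set_option linter.style.haveILetI false
universe u

namespace Groth.Agent.Lib.R2H3.FlatGr

open TensorProduct

theorem lTensor_injective_of_pushout {C B C' B' : Type u} [CommRing C] [CommRing B]
    [CommRing C'] [CommRing B'] [Algebra C B] [Algebra C C'] [Algebra B B'] [Algebra C' B']
    [Algebra C B'] [IsScalarTower C B B'] [IsScalarTower C C' B'] [Algebra.IsPushout C C' B B']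
    {P : Type u} [AddCommGroup P] [Module B P] [Module C P] [IsScalarTower C B P]
    (ι : P →ₗ[B] B)
    (hinjC : Function.Injective (LinearMap.lTensor C' (ι.restrictScalars C))) :
    Function.Injective (LinearMap.lTensor B' ι) := by
  let eP := Algebra.IsPushout.cancelBaseChange C C' B B' P
  let eB := Algebra.IsPushout.cancelBaseChange C C' B B' B
  let ιC : P →ₗ[C] B := ι.restrictScalars C
  have hsq : ∀ z : C' ⊗[C] P, LinearMap.lTensor B' ι (eP.symm z) =
      eB.symm (LinearMap.lTensor C' ιC z) := by
    intro z
    induction z using TensorProduct.induction_on with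
    | zero => simp
    | tmul c' p =>
      rw [Algebra.IsPushout.cancelBaseChange_symm_tmul, LinearMap.lTensor_tmul,
        LinearMap.lTensor_tmul, Algebra.IsPushout.cancelBaseChange_symm_tmul]
      rfl
    | add x y hx hy => rw [map_add, map_add, hx, hy, map_add, map_add]
  intro a b hab
  obtain ⟨a', rfl⟩ := eP.symm.surjective a
  obtain ⟨b', rfl⟩ := eP.symm.surjective b
  rw [hsq, hsq] at hab
  rw [hinjC (eB.symm.injective hab)]

section

variable {C B : Type u} [CommRing C] [CommRing B] [Algebra C B] [Algebra B C]
  (hπσ : ∀ c : C, algebraMap B C (algebraMap C B c) = c)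

include hπσ in
theorem algebraMap_surjective : Function.Surjective (algebraMap B C) :=
  fun c => ⟨algebraMap C B c, hπσ c⟩

/-- `x ↦ 1 ⊗ x` as a `C`-linear map -/
noncomputable def oneTmul (M : Type u) [AddCommGroup M] [Module B M] [Module C M]
    [IsScalarTower C B M] : M →ₗ[C] C ⊗[B] M where
  toFun x := (1 : C) ⊗ₜ[B] x
  map_add' := TensorProduct.tmul_add 1
  map_smul' c x := by
    rw [RingHom.id_apply, ← algebraMap_smul B c x, ← TensorProduct.smul_tmul,
      TensorProduct.smul_tmul', Algebra.smul_def, hπσ, smul_eq_mul]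

theorem oneTmul_apply (M : Type u) [AddCommGroup M] [Module B M] [Module C M]
    [IsScalarTower C B M] (x : M) : oneTmul hπσ M x = (1 : C) ⊗ₜ[B] x := rfl

theorem oneTmul_surjective (M : Type u) [AddCommGroup M] [Module B M] [Module C M]
    [IsScalarTower C B M] : Function.Surjective (oneTmul hπσ M) := by
  intro z
  induction z using TensorProduct.induction_on with
  | zero => exact ⟨0, map_zero _⟩
  | tmul c x =>
    refine ⟨algebraMap C B c • x, ?_⟩
    rw [oneTmul_apply, ← TensorProduct.smul_tmul, Algebra.smul_def, hπσ, mul_one]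
  | add x y hx hy =>
    obtain ⟨a, rfl⟩ := hx
    obtain ⟨b, rfl⟩ := hy
    exact ⟨a + b, map_add _ _ _⟩

include hπσ in
theorem lTensor_injective_of_flat_gr (I : ℕ → Ideal B) (h0 : I 0 = ⊤)
    (hs : ∀ k, I (k + 1) = RingHom.ker (algebraMap B C) * I k)
    (n : ℕ) (hflat : ∀ k < n, Module.Flat C (C ⊗[B] ↥(I k)))
    (A : Type u) [AddCommGroup A] [Module C A] :
    Function.Injective (LinearMap.lTensor A ((I n).subtype.restrictScalars C)) := by
  induction n with
  | zero =>
    let r : B →ₗ[C] ↥(I 0) :=
      { toFun := fun x => ⟨x, by rw [h0]; trivial⟩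
        map_add' := fun _ _ => rfl
        map_smul' := fun _ _ => rfl }
    have hcomp : (LinearMap.lTensor A r).comp
        (LinearMap.lTensor A ((I 0).subtype.restrictScalars C)) = LinearMap.id := by
      rw [← LinearMap.lTensor_comp]
      have : r.comp ((I 0).subtype.restrictScalars C) = LinearMap.id := by
        ext s
        rfl
      rw [this, LinearMap.lTensor_id]
    intro a b hab
    have := congrArg (LinearMap.lTensor A r) hab
    rw [← LinearMap.comp_apply, ← LinearMap.comp_apply, hcomp] at this
    exact this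
  | succ k ih =>
    have hle : I (k + 1) ≤ I k := by
      rw [hs]
      exact Ideal.mul_le_right
    let i : ↥(I (k + 1)) →ₗ[C] ↥(I k) := (Submodule.inclusion hle).restrictScalars C
    have hi : Function.Injective i := Submodule.inclusion_injective hle
    let q : ↥(I k) →ₗ[C] C ⊗[B] ↥(I k) := oneTmul hπσ _
    have hq : Function.Surjective q := oneTmul_surjective hπσ _
    have hex : Function.Exact i q := by
      intro y
      constructor
      · intro hy
        have h1 : y ∈ (RingHom.ker (algebraMap B C) • ⊤ : Submodule B ↥(I k)) :=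
          Groth.Agent.Helper18OmLS.mem_smul_top_of_one_tmul_eq_zero'
            (algebraMap_surjective hπσ) y hy
        have h2 : (y : B) ∈ I (k + 1) := by
          rw [hs]
          refine Submodule.smul_induction_on h1 ?_ ?_
          · intro j hj z _
            exact Ideal.mul_mem_mul hj z.2
          · intro a b ha hb
            exact Ideal.add_mem _ ha hb
        exact ⟨⟨y, h2⟩, rfl⟩
      · rintro ⟨z, rfl⟩
        have key : ∀ b ∈ RingHom.ker (algebraMap B C) * I k,
            ∃ h : b ∈ I k, (1 : C) ⊗ₜ[B] (⟨b, h⟩ : ↥(I k)) = 0 := by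
          intro b hb
          refine Submodule.smul_induction_on hb ?_ ?_
          · intro j hj z hz
            refine ⟨Ideal.mul_mem_left _ _ hz, ?_⟩
            have : (⟨j • z, Ideal.mul_mem_left _ _ hz⟩ : ↥(I k)) = j • (⟨z, hz⟩ : ↥(I k)) := rfl
            rw [this, ← TensorProduct.smul_tmul, Algebra.smul_def,
              (show algebraMap B C j = 0 from hj), zero_mul, TensorProduct.zero_tmul]
          · rintro a b ⟨ha, ha'⟩ ⟨hb, hb'⟩
            refine ⟨Ideal.add_mem _ ha hb, ?_⟩
            have : (⟨a + b, Ideal.add_mem _ ha hb⟩ : ↥(I k)) = ⟨a, ha⟩ + ⟨b, hb⟩ := rfl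
            rw [this, TensorProduct.tmul_add, ha', hb', add_zero]
        have hz : (z : B) ∈ RingHom.ker (algebraMap B C) * I k := by
          rw [← hs]
          exact z.2
        obtain ⟨h, hh⟩ := key _ hz
        exact hh
    haveI := hflat k (Nat.lt_succ_self k)
    have h1 : Function.Injective (LinearMap.lTensor A i) :=
      LinearMap.lTensor_injective_of_exact_of_flat q hq i hi hex A
    have h2 := ih (fun j hj => hflat j (Nat.lt_succ_of_lt hj))
    have hcomp : (I (k + 1)).subtype.restrictScalars C =
        ((I k).subtype.restrictScalars C).comp i := rfl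
    rw [hcomp, LinearMap.lTensor_comp]
    exact h2.comp h1

end

end Groth.Agent.Lib.R2H3.FlatGr
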