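import Mathlib
import Groth.Agent.Lib.R2H3FlatSyz
import Groth.Agent.Lib.Helper18Strict7
import Groth.Agent.Lib.Helper2FlatOver2

/-!
# Kernels of epimorphisms onto flat finitely presented modules (helper3, round 2) — EGA IV 11.3.9.?

* `finitePresentation_ker`: `A → B` of finite presentation, `G`, `H` finitely presented `B`-modules,
  `H` flat over `A`, `p : G → H` surjective. Then `ker p` is finitely presented.
* `isFP_kernel`: the scheme version.
-/

set_option autoImplicit false
set_option linter.style.haveILetI false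
set_option linter.unusedVariables false
set_option linter.unusedSectionVars false

universe u
open CategoryTheory CategoryTheory.Limits AlgebraicGeometry TopologicalSpace

namespace Groth.Agent.Lib.R2H3.FpKer

open Groth.Agent.Lib.R2H3.FlatSyz

section alg

theorem finitePresentation_ker (A B : Type u) [CommRing A] [CommRing B] [Algebra A B]
    [Algebra.FinitePresentation A B]
    {G H : Type u} [AddCommGroup G] [Module B G] [Module.FinitePresentation B G]
    [AddCommGroup H] [Module B H] [Module A H] [IsScalarTower A B H]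
    [Module.FinitePresentation B H] [Module.Flat A H]
    (p : G →ₗ[B] H) (hp : Function.Surjective p) :
    Module.FinitePresentation B (LinearMap.ker p) := by
  obtain ⟨k, π, hπ, hfp⟩ := exists_surjective_fp_ker A B H
  haveI := hfp
  -- the fibre product `Q = G ×_H B^k`
  let d : (G × (Fin k → B)) →ₗ[B] H := p.coprod (-π)
  have hd : ∀ g v, d (g, v) = p g - π v := fun g v => by
    simp [d, LinearMap.coprod_apply, sub_eq_add_neg]
  let pr₁ : LinearMap.ker d →ₗ[B] G := (LinearMap.fst B G (Fin k → B)) ∘ₗ (LinearMap.ker d).subtype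
  let pr₂ : LinearMap.ker d →ₗ[B] (Fin k → B) :=
    (LinearMap.snd B G (Fin k → B)) ∘ₗ (LinearMap.ker d).subtype
  have hmem : ∀ x : LinearMap.ker d, p x.1.1 = π x.1.2 := by
    intro x
    have := x.2
    rw [LinearMap.mem_ker, show x.1 = (x.1.1, x.1.2) from rfl, hd, sub_eq_zero] at this
    exact this
  have hpr₁ : Function.Surjective pr₁ := by
    intro g
    obtain ⟨v, hv⟩ := hπ (p g)
    exact ⟨⟨(g, v), by rw [LinearMap.mem_ker, hd, hv, sub_self]⟩, rfl⟩
  have hpr₂ : Function.Surjective pr₂ := by
    intro v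
    obtain ⟨g, hg⟩ := hp (π v)
    exact ⟨⟨(g, v), by rw [LinearMap.mem_ker, hd, hg, sub_self]⟩, rfl⟩
  -- `ker pr₁ ≃ ker π`
  let e₁ : LinearMap.ker π →ₗ[B] LinearMap.ker pr₁ :=
    LinearMap.codRestrict _ (LinearMap.codRestrict (LinearMap.ker d)
      ((LinearMap.inr B G (Fin k → B)) ∘ₗ (LinearMap.ker π).subtype) (fun v => by
        rw [LinearMap.mem_ker]
        show d ((0 : G), (v : Fin k → B)) = 0
        rw [hd, map_zero, zero_sub, neg_eq_zero]
        exact v.2)) (fun v => by
        rw [LinearMap.mem_ker]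
        rfl)
  have he₁ : Function.Bijective e₁ := by
    constructor
    · intro v w hvw
      have h1 : ((e₁ v : LinearMap.ker d) : G × (Fin k → B)) = ((e₁ w : LinearMap.ker d) : _) := by
        rw [hvw]
      exact Subtype.ext (congrArg Prod.snd h1)
    · rintro ⟨x, hx⟩
      have hx1 : x.1.1 = 0 := hx
      have hx2 : π x.1.2 = 0 := by rw [← hmem x, hx1, map_zero]
      refine ⟨⟨x.1.2, hx2⟩, Subtype.ext (Subtype.ext ?_)⟩
      show ((0 : G), x.1.2) = x.1
      rw [← hx1]
  haveI : Module.FinitePresentation B (LinearMap.ker pr₁) := by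
    have e : LinearMap.ker π ≃ₗ[B] LinearMap.ker pr₁ := LinearEquiv.ofBijective e₁ he₁
    exact Module.FinitePresentation.of_equiv (M := LinearMap.ker π) (N := LinearMap.ker pr₁) e
  haveI : Module.FinitePresentation B (LinearMap.ker d) :=
    Module.finitePresentation_of_ker pr₁ hpr₁
  -- `0 → ker p → Q → B^k → 0`
  let f : LinearMap.ker p →ₗ[B] LinearMap.ker d :=
    LinearMap.codRestrict (LinearMap.ker d)
      ((LinearMap.inl B G (Fin k → B)) ∘ₗ (LinearMap.ker p).subtype) (fun g => by
        rw [LinearMap.mem_ker]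
        show d ((g : G), (0 : Fin k → B)) = 0
        rw [hd, map_zero, sub_zero]
        exact g.2)
  have hf : Function.Injective f := by
    intro g g' hgg'
    have h1 : ((f g : LinearMap.ker d) : G × (Fin k → B)) = ((f g' : LinearMap.ker d) : _) := by
      rw [hgg']
    exact Subtype.ext (congrArg Prod.fst h1)
  have hex : Function.Exact f pr₂ := by
    intro x
    constructor
    · intro hx
      have hx2 : x.1.2 = 0 := hx
      have hx1 : p x.1.1 = 0 := by rw [hmem x, hx2, map_zero]
      refine ⟨⟨x.1.1, hx1⟩, Subtype.ext ?_⟩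
      show ((x.1.1 : G), (0 : Fin k → B)) = x.1
      rw [← hx2]
    · rintro ⟨g, rfl⟩
      rfl
  exact Module.finitePresentation_of_projective_of_exact f pr₂ hf hpr₂ hex

end alg

section sch

open Groth.Agent.Helper18Strict

variable {X Y : Scheme.{u}} (f : X ⟶ Y) [LocallyOfFinitePresentation f]

/-- EGA IV 11.3.9-type statement: the kernel of an epimorphism of finitely presented quasi-coherent
modules with `f`-flat target is finitely presented. -/
theorem isFP_kernel (G H : X.Modules) [G.IsQuasicoherent] [H.IsQuasicoherent] (hG : CohB1.IsFP G)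
    (hH : CohB1.IsFP H) (hflat : FlatMod.IsFlatOver f H) (p : G ⟶ H) [Epi p] :
    CohB1.IsFP (kernel p) := by
  haveI : SheafOfModules.IsFinitePresentation (R := X.ringCatSheaf) G := hG
  haveI : SheafOfModules.IsFinitePresentation (R := X.ringCatSheaf) H := hH
  haveI : (kernel p).IsQuasicoherent := Groth.Agent.Lib.Helper23.QCohLocal.isQuasicoherent_kernel p
  have key : ∀ x : X, ∃ W : X.Opens, IsAffineOpen W ∧ x ∈ W ∧
      Module.FinitePresentation Γ(X, W) Γ(kernel p, W) := by
    intro x
    obtain ⟨W, V, hW, hV, hxW, hWV⟩ := Groth.Agent.Lib.Helper2.FlatOver.exists_affine_nhds f x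
    refine ⟨W, hW, hxW, ?_⟩
    letI : Algebra Γ(Y, V) Γ(X, W) := (f.appLE V W hWV).hom.toAlgebra
    haveI : Algebra.FinitePresentation Γ(Y, V) Γ(X, W) :=
      HasRingHomProperty.appLE @LocallyOfFinitePresentation f ‹_› ⟨V, hV⟩ ⟨W, hW⟩ hWV
    letI : Module Γ(Y, V) Γ(H, W) := Module.compHom Γ(H, W) (f.appLE V W hWV).hom
    haveI : IsScalarTower Γ(Y, V) Γ(X, W) Γ(H, W) := by
      refine ⟨fun a b m => ?_⟩
      change ((f.appLE V W hWV).hom a * b) • m = (f.appLE V W hWV).hom a • (b • m)
      rw [mul_smul]
    haveI : Module.Flat Γ(Y, V) Γ(H, W) :=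
      (Groth.Agent.Lib.Helper2.FlatOver.isFlatOver_iff_forall_affine f H).1 hflat W V hWV hW hV
    have hsurj : Function.Surjective (appₗ p W) :=
      Groth.Agent.Lib.Helper23.FinType.surjective_app_of_epi p hW
    haveI : Module.FinitePresentation Γ(X, W) Γ(G, W) :=
      Groth.Agent.Lib.Helper2.FPAff.finitePresentation_sections G hW
    haveI : Module.FinitePresentation Γ(X, W) Γ(H, W) :=
      Groth.Agent.Lib.Helper2.FPAff.finitePresentation_sections H hW
    haveI := finitePresentation_ker Γ(Y, V) Γ(X, W) (appₗ p W) hsurj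
    obtain ⟨ε⟩ := nonempty_kernel_sections_equiv p W
    exact Module.FinitePresentation.of_equiv ε.symm
  choose W hW hxW hfp using key
  refine Groth.Agent.Lib.Helper2.FinPushFP.isFinitePresentation_of_finitePresentation_sections _
    W ?_ hW hfp
  rw [IsOpenCover, eq_top_iff]
  intro x _
  exact Opens.mem_iSup.2 ⟨x, hxW x⟩

end sch

end Groth.Agent.Lib.R2H3.FpKer
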