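import Mathlib
import Groth.Prelude.Def_Desc
import Groth.Agent.Lib.H5bDDAffineEff2
import Groth.Agent.Lib.R2H3ZarGlueOver
import Groth.Agent.Lib.Helper12AffineDescent
import Groth.Agent.Lib.R2H3FpqcLocal

/-!
# fpqc descent of representability, affine case (helper3, round 2)

For a presheaf `G` on schemes over `S`:

* `IsFpqcSheaf G`: the sheaf condition for single flat, surjective, quasi-compact coverings.
* `IsUnivAt G w A e`: for `w : O ⟶ S`, the scheme `A` over `O` together with the section `e` of `G`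
  over `A` (regarded over `S` through `w`) represents the restriction of `G` to schemes over `O`.
* `IsUnivAt.baseChange`: base change of a representing object.
* `exists_univ_descent`: if `p : X ⟶ V` is flat, surjective and quasi-compact, `G` is an fpqc sheaf
  and the restriction of `G` to `X` is represented by a scheme affine over `X`, then the
  restriction of `G` to `V` is represented by a scheme affine over `V` (via effectivity of descent
  for affine schemes).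
-/

set_option autoImplicit false
set_option linter.style.haveILetI false
set_option linter.unusedVariables false
set_option linter.unusedSectionVars false

universe u

open CategoryTheory CategoryTheory.Limits AlgebraicGeometry Opposite MorphismProperty
open Groth.Agent.Lib.R2H3.ZarGlueOver Groth.Agent.Lib.R2H3.FpqcLocal

namespace Groth.Agent.Lib.R2H3.FpqcRep

variable {S : Scheme.{u}} (G : (Over S)ᵒᵖ ⥤ Type u)

/-- the sheaf condition for single fpqc coverings. -/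
structure IsFpqcSheaf : Prop where
  sep : ∀ {T' T : Scheme.{u}} (q : T' ⟶ T) [Flat q] [Surjective q] [QuasiCompact q]
    {t : T ⟶ S} {t' : T' ⟶ S} (h : q ≫ t = t') (b b' : G.obj (op (Over.mk t))),
    rs G q h b = rs G q h b' → b = b'
  glue : ∀ {T' T : Scheme.{u}} (q : T' ⟶ T) [Flat q] [Surjective q] [QuasiCompact q]
    {t : T ⟶ S} {t' : T' ⟶ S} (h : q ≫ t = t') (b' : G.obj (op (Over.mk t'))),
    (∀ h2 : pullback.snd q q ≫ t' = pullback.fst q q ≫ t',
      rs G (pullback.fst q q) rfl b' = rs G (pullback.snd q q) h2 b') →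
    ∃ b : G.obj (op (Over.mk t)), rs G q h b = b'

variable {G}

lemma univ_h {O T : Scheme.{u}} {w : O ⟶ S} {A : Over O} {a : T ⟶ A.left} {x : T ⟶ O}
    {t : T ⟶ S} (hx : a ≫ A.hom = x) (ht : x ≫ w = t) : a ≫ A.hom ≫ w = t := by
  rw [← Category.assoc, hx, ht]

variable (G)

/-- `A` over `O`, with the section `e`, represents the restriction of `G` to schemes over `O`. -/
def IsUnivAt {O : Scheme.{u}} (w : O ⟶ S) (A : Over O)
    (e : G.obj (op (Over.mk (A.hom ≫ w)))) : Prop :=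
  ∀ (T : Scheme.{u}) (x : T ⟶ O) (t : T ⟶ S) (ht : x ≫ w = t) (b : G.obj (op (Over.mk t))),
    ∃! a : T ⟶ A.left, ∃ hx : a ≫ A.hom = x, rs G a (univ_h hx ht) e = b

variable {G}

namespace IsUnivAt

variable {O : Scheme.{u}} {w : O ⟶ S} {A : Over O} {e : G.obj (op (Over.mk (A.hom ≫ w)))}

lemma exists_lift (hA : IsUnivAt G w A e) {T : Scheme.{u}} (x : T ⟶ O) {t : T ⟶ S}
    (ht : x ≫ w = t) (b : G.obj (op (Over.mk t))) :
    ∃ a : T ⟶ A.left, ∃ hx : a ≫ A.hom = x, rs G a (univ_h hx ht) e = b :=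
  (hA T x t ht b).exists

lemma inj (hA : IsUnivAt G w A e) {T : Scheme.{u}} {a₁ a₂ : T ⟶ A.left} {t : T ⟶ S}
    (h₁ : a₁ ≫ A.hom ≫ w = t) (h₂ : a₂ ≫ A.hom ≫ w = t) (hx : a₁ ≫ A.hom = a₂ ≫ A.hom)
    (he : rs G a₁ h₁ e = rs G a₂ h₂ e) : a₁ = a₂ :=
  (hA T (a₂ ≫ A.hom) t (by rw [Category.assoc]; exact h₂) (rs G a₂ h₂ e)).unique
    ⟨hx, he⟩ ⟨rfl, rfl⟩

/-- base change of a representing object. -/
theorem baseChange (hA : IsUnivAt G w A e) {O' : Scheme.{u}} (b : O' ⟶ O) :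
    IsUnivAt G (b ≫ w) (Over.mk (pullback.snd A.hom b))
      (rs G (pullback.fst A.hom b) (by
        change pullback.fst A.hom b ≫ A.hom ≫ w = pullback.snd A.hom b ≫ b ≫ w
        rw [← Category.assoc, pullback.condition, Category.assoc]) e) := by
  intro T x t ht b₀
  have ht' : (x ≫ b) ≫ w = t := by rw [Category.assoc]; exact ht
  obtain ⟨a, hxa, hea⟩ := hA.exists_lift (x ≫ b) ht' b₀
  refine ⟨pullback.lift a x hxa, ⟨pullback.lift_snd _ _ _, ?_⟩, ?_⟩
  · rw [rs_rs, ← hea]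
    exact rs_congr' (pullback.lift_fst _ _ _) _ _ _
  · rintro a'' ⟨hx'', he''⟩
    replace hx'' : a'' ≫ pullback.snd A.hom b = x := hx''
    rw [rs_rs] at he''
    have h1 : a'' ≫ pullback.fst A.hom b = a := by
      refine hA.inj (t := t) ?_ (univ_h hxa ht') ?_ ?_
      · rw [Category.assoc, ← Category.assoc (pullback.fst A.hom b), pullback.condition,
          Category.assoc, ← Category.assoc a'', hx'']
        exact ht
      · rw [Category.assoc, pullback.condition, ← Category.assoc, hx'', hxa]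
      · rw [hea, ← he'']
    apply pullback.hom_ext
    · rw [h1, pullback.lift_fst]
    · rw [hx'', pullback.lift_snd]

end IsUnivAt

section Descent

variable {X V : Scheme.{u}} (p : X ⟶ V) (v : V ⟶ S) (A' : Over X)
  (e' : G.obj (op (Over.mk (A'.hom ≫ p ≫ v)))) (hU : IsUnivAt G (p ≫ v) A' e')

lemma lifts_h {T : Scheme.{u}} {x₀ x₁ : T ⟶ X} (h : x₀ ≫ p = x₁ ≫ p) (a₀ : Desc.Lifts A' x₀) :
    a₀.1 ≫ A'.hom ≫ p ≫ v = x₁ ≫ p ≫ v := by
  rw [← Category.assoc, a₀.2, ← Category.assoc, h, Category.assoc]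

include hU in
lemma phi_exists {T : Scheme.{u}} (x₀ x₁ : T ⟶ X) (h : x₀ ≫ p = x₁ ≫ p)
    (a₀ : Desc.Lifts A' x₀) :
    ∃ a₁ : Desc.Lifts A' x₁, rs G a₁.1 (lifts_h p v A' rfl a₁) e' =
      rs G a₀.1 (lifts_h p v A' h a₀) e' := by
  obtain ⟨a, hx, he⟩ := hU.exists_lift x₁ (t := x₁ ≫ p ≫ v) rfl
    (rs G a₀.1 (lifts_h p v A' h a₀) e')
  exact ⟨⟨a, hx⟩, he⟩

/-- the gluing bijections of the canonical descent datum on a representing object. -/
noncomputable def phiFun {T : Scheme.{u}} (x₀ x₁ : T ⟶ X) (h : x₀ ≫ p = x₁ ≫ p)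
    (a₀ : Desc.Lifts A' x₀) : Desc.Lifts A' x₁ :=
  (phi_exists p v A' e' hU x₀ x₁ h a₀).choose

lemma phi_spec {T : Scheme.{u}} (x₀ x₁ : T ⟶ X) (h : x₀ ≫ p = x₁ ≫ p)
    (a₀ : Desc.Lifts A' x₀) {t : T ⟶ S}
    (h₁ : (phiFun p v A' e' hU x₀ x₁ h a₀).1 ≫ A'.hom ≫ p ≫ v = t)
    (h₀ : a₀.1 ≫ A'.hom ≫ p ≫ v = t) :
    rs G (phiFun p v A' e' hU x₀ x₁ h a₀).1 h₁ e' = rs G a₀.1 h₀ e' := by
  have ht : x₁ ≫ p ≫ v = t := by rw [← h₀]; exact (lifts_h p v A' h a₀).symm
  subst ht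
  exact (phi_exists p v A' e' hU x₀ x₁ h a₀).choose_spec

lemma phi_unique {T : Scheme.{u}} (x₀ x₁ : T ⟶ X) (h : x₀ ≫ p = x₁ ≫ p)
    (a₀ : Desc.Lifts A' x₀) (a₁ : Desc.Lifts A' x₁) {t : T ⟶ S}
    (h₁ : a₁.1 ≫ A'.hom ≫ p ≫ v = t) (h₀ : a₀.1 ≫ A'.hom ≫ p ≫ v = t)
    (he : rs G a₁.1 h₁ e' = rs G a₀.1 h₀ e') : phiFun p v A' e' hU x₀ x₁ h a₀ = a₁ := by
  apply Subtype.ext
  refine hU.inj (t := t) ?_ h₁ ?_ ?_
  · rw [← h₀]
    exact (lifts_h p v A' rfl _).trans (lifts_h p v A' h a₀).symm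
  · rw [(phiFun p v A' e' hU x₀ x₁ h a₀).2, a₁.2]
  · rw [he]
    exact phi_spec p v A' e' hU x₀ x₁ h a₀ _ h₀

/-- the canonical descent datum on a representing object of the restriction of `G` to `X`. -/
noncomputable def dd : Desc.SchDD p where
  obj := A'
  φ T x₀ x₁ h :=
    { toFun := phiFun p v A' e' hU x₀ x₁ h
      invFun := phiFun p v A' e' hU x₁ x₀ h.symm
      left_inv := fun a₀ => by
        refine phi_unique p v A' e' hU x₁ x₀ h.symm _ a₀ (t := x₀ ≫ p ≫ v)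
          (lifts_h p v A' rfl a₀) (lifts_h p v A' h.symm _) ?_
        exact (phi_spec p v A' e' hU x₀ x₁ h a₀ _ _).symm
      right_inv := fun a₁ => by
        refine phi_unique p v A' e' hU x₀ x₁ h _ a₁ (t := x₁ ≫ p ≫ v)
          (lifts_h p v A' rfl a₁) (lifts_h p v A' h _) ?_
        exact (phi_spec p v A' e' hU x₁ x₀ h.symm a₁ _ _).symm }
  φ_natural T T' g x₀ x₁ h h' a a' ha' := by
    have hg : (g ≫ (phiFun p v A' e' hU x₀ x₁ h a).1) ≫ A'.hom = g ≫ x₁ := by
      rw [Category.assoc, (phiFun p v A' e' hU x₀ x₁ h a).2]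
    have := phi_unique p v A' e' hU (g ≫ x₀) (g ≫ x₁) h' a'
      ⟨g ≫ (phiFun p v A' e' hU x₀ x₁ h a).1, hg⟩ (t := g ≫ x₁ ≫ p ≫ v)
      (by
        change (g ≫ (phiFun p v A' e' hU x₀ x₁ h a).1) ≫ A'.hom ≫ p ≫ v = _
        rw [Category.assoc, lifts_h p v A' rfl _])
      (by
        rw [ha', Category.assoc, lifts_h p v A' h a])
      (by
        change rs G (g ≫ (phiFun p v A' e' hU x₀ x₁ h a).1) _ e' = rs G a'.1 _ e'
        have h1 : rs G (g ≫ (phiFun p v A' e' hU x₀ x₁ h a).1)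
            (by rw [Category.assoc, lifts_h p v A' rfl _]) e' =
            rs G g (rfl : g ≫ x₁ ≫ p ≫ v = g ≫ x₁ ≫ p ≫ v)
              (rs G (phiFun p v A' e' hU x₀ x₁ h a).1 (lifts_h p v A' rfl _) e') :=
          (rs_rs _ _ _ _ _).symm
        rw [h1, phi_spec p v A' e' hU x₀ x₁ h a _ (lifts_h p v A' h a), rs_rs]
        exact rs_congr' ha'.symm _ _ _)
    exact congrArg Subtype.val this
  φ_self T x a := by
    exact phi_unique p v A' e' hU x x rfl a a (t := x ≫ p ≫ v) (lifts_h p v A' rfl a)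
      (lifts_h p v A' rfl a) rfl
  φ_comp T x₀ x₁ x₂ h₀₁ h₁₂ a := by
    change phiFun p v A' e' hU x₁ x₂ h₁₂ (phiFun p v A' e' hU x₀ x₁ h₀₁ a) =
      phiFun p v A' e' hU x₀ x₂ (h₀₁.trans h₁₂) a
    symm
    refine phi_unique p v A' e' hU x₀ x₂ (h₀₁.trans h₁₂) a _ (t := x₂ ≫ p ≫ v)
      (lifts_h p v A' rfl _) (lifts_h p v A' (h₀₁.trans h₁₂) a) ?_
    rw [phi_spec p v A' e' hU x₁ x₂ h₁₂ _ _ (lifts_h p v A' h₁₂ _)]
    exact phi_spec p v A' e' hU x₀ x₁ h₀₁ a _ _

lemma dd_φ_apply {T : Scheme.{u}} (x₀ x₁ : T ⟶ X) (h : x₀ ≫ p = x₁ ≫ p)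
    (a₀ : Desc.Lifts A' x₀) :
    (dd p v A' e' hU).φ x₀ x₁ h a₀ = phiFun p v A' e' hU x₀ x₁ h a₀ := rfl

end Descent

section Main

variable {X V : Scheme.{u}} (p : X ⟶ V) [Flat p] [Surjective p] [QuasiCompact p] (v : V ⟶ S)
  (A' : Over X) [IsAffineHom A'.hom]
  (e' : G.obj (op (Over.mk (A'.hom ≫ p ≫ v)))) (hU : IsUnivAt G (p ≫ v) A' e')
  (hF : IsFpqcSheaf G)

include hU hF in
/-- **fpqc descent of representability (affine case).** -/
theorem exists_univ_descent :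
    ∃ (U : Over V) (e : G.obj (op (Over.mk (U.hom ≫ v)))),
      IsAffineHom U.hom ∧ IsUnivAt G v U e := by
  haveI : IsAffineHom (dd p v A' e' hU).obj.hom := ‹IsAffineHom A'.hom›
  obtain ⟨U, ⟨ι⟩⟩ := Groth.Agent.Lib.H5bDDGlue.effective_of_isAffineHom p (dd p v A' e' hU)
  obtain ⟨J, hJdef⟩ : ∃ J : pullback p U.hom ⟶ A'.left, J = ι.hom.hom.left := ⟨_, rfl⟩
  obtain ⟨Jinv, hJinvdef⟩ : ∃ Jinv : A'.left ⟶ pullback p U.hom, Jinv = ι.inv.hom.left := ⟨_, rfl⟩
  have hJ1 : J ≫ Jinv = 𝟙 _ := by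
    rw [hJdef, hJinvdef]
    exact congrArg (fun k => k.hom.left) ι.hom_inv_id
  have hJ2 : Jinv ≫ J = 𝟙 _ := by
    rw [hJdef, hJinvdef]
    exact congrArg (fun k => k.hom.left) ι.inv_hom_id
  have hJf : J ≫ A'.hom = pullback.fst p U.hom := by
    rw [hJdef]
    exact Over.w ι.hom.hom
  have hJinvf : Jinv ≫ pullback.fst p U.hom = A'.hom := by
    rw [hJinvdef]
    exact Over.w ι.inv.hom
  have hJ2a : ∀ {W : Scheme.{u}} (k : A'.left ⟶ W), Jinv ≫ J ≫ k = k := fun k => by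
    rw [← Category.assoc, hJ2, Category.id_comp]
  have hJ1a : ∀ {W : Scheme.{u}} (k : pullback p U.hom ⟶ W), J ≫ Jinv ≫ k = k := fun k => by
    rw [← Category.assoc, hJ1, Category.id_comp]
  have hJfa : ∀ {W : Scheme.{u}} (k : X ⟶ W), J ≫ A'.hom ≫ k = pullback.fst p U.hom ≫ k :=
    fun k => by rw [← Category.assoc, hJf]
  have hJinvfa : ∀ {W : Scheme.{u}} (k : X ⟶ W), Jinv ≫ pullback.fst p U.hom ≫ k = A'.hom ≫ k :=
    fun k => by rw [← Category.assoc, hJinvf]
  have hcond : pullback.fst p U.hom ≫ p ≫ v = pullback.snd p U.hom ≫ U.hom ≫ v := by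
    rw [← Category.assoc, pullback.condition, Category.assoc]
  -- compatibility of `J` with the descent data
  have key1 : ∀ {Z : Scheme.{u}} (c₀ c₁ : Z ⟶ pullback p U.hom)
      (hc : c₀ ≫ pullback.snd p U.hom = c₁ ≫ pullback.snd p U.hom) {t : Z ⟶ S}
      (h₀ : (c₀ ≫ J) ≫ A'.hom ≫ p ≫ v = t) (h₁ : (c₁ ≫ J) ≫ A'.hom ≫ p ≫ v = t),
      rs G (c₀ ≫ J) h₀ e' = rs G (c₁ ≫ J) h₁ e' := by
    intro Z c₀ c₁ hc t h₀ h₁
    have hx : (c₀ ≫ pullback.fst p U.hom) ≫ p = (c₁ ≫ pullback.fst p U.hom) ≫ p := by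
      rw [Category.assoc, Category.assoc, pullback.condition, ← Category.assoc, hc,
        Category.assoc]
    let vv : Desc.Lifts ((Desc.toDD p).obj U).obj (c₀ ≫ pullback.fst p U.hom) := ⟨c₀, rfl⟩
    let ww : Desc.Lifts A' (c₀ ≫ pullback.fst p U.hom) :=
      ⟨c₀ ≫ J, by rw [Category.assoc, hJf]⟩
    have h3 := ι.hom.comm (c₀ ≫ pullback.fst p U.hom) (c₁ ≫ pullback.fst p U.hom) hx vv ww
      (congrArg (fun k => c₀ ≫ k) hJdef)
    have h4 : (((Desc.toDD p).obj U).φ (c₀ ≫ pullback.fst p U.hom)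
        (c₁ ≫ pullback.fst p U.hom) hx vv).1 = c₁ := by
      change (Desc.canMap p U _ _ hx vv).1 = c₁
      rw [Desc.canMap_val]
      apply pullback.hom_ext
      · rw [pullback.lift_fst]
      · rw [pullback.lift_snd]
        exact hc
    rw [h4, ← hJdef] at h3
    replace h3 : (phiFun p v A' e' hU (c₀ ≫ pullback.fst p U.hom) (c₁ ≫ pullback.fst p U.hom)
      hx ww).1 = c₁ ≫ J := h3
    have h5 := phi_spec p v A' e' hU (c₀ ≫ pullback.fst p U.hom) (c₁ ≫ pullback.fst p U.hom) hx ww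
      (t := t) (by
        rw [h3]
        exact h₁) h₀
    refine (h5.symm : rs G (c₀ ≫ J) h₀ e' = _).trans ?_
    exact rs_congr' h3 _ _ _
  -- the universal section
  have hq : pullback.snd p U.hom ≫ U.hom ≫ v = pullback.fst p U.hom ≫ p ≫ v := hcond.symm
  have hJt : J ≫ A'.hom ≫ p ≫ v = pullback.fst p U.hom ≫ p ≫ v := hJfa _
  obtain ⟨e, he⟩ := hF.glue (pullback.snd p U.hom) (t := U.hom ≫ v)
    (t' := pullback.fst p U.hom ≫ p ≫ v) hq (rs G J hJt e') (fun h2 => by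
      rw [rs_rs, rs_rs]
      exact key1 _ _ pullback.condition _ _)
  have key2 : ∀ {Z : Scheme.{u}} (c : Z ⟶ pullback p U.hom) {t : Z ⟶ S}
      (h : (c ≫ pullback.snd p U.hom) ≫ U.hom ≫ v = t) (h' : (c ≫ J) ≫ A'.hom ≫ p ≫ v = t),
      rs G (c ≫ pullback.snd p U.hom) h e = rs G (c ≫ J) h' e' := by
    intro Z c t h h'
    have h1 : rs G (c ≫ pullback.snd p U.hom) h e =
        rs G c (by rw [← h, Category.assoc, hq]) (rs G (pullback.snd p U.hom) hq e) :=
      (rs_rs _ _ _ _ _).symm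
    rw [h1, he, rs_rs]
  refine ⟨U, e, ?_, ?_⟩
  · -- affineness descends
    haveI := Groth.Agent.Lib.Helper12.descendsAlong_isAffineHom.{u}
    have h1 : IsAffineHom (pullback.fst p U.hom) := by
      rw [← hJf]
      haveI : IsIso J := ⟨Jinv, hJ1, hJ2⟩
      infer_instance
    exact of_isPullback_of_descendsAlong (P := @IsAffineHom) (Q := Qfpqc)
      (IsPullback.of_hasPullback p U.hom) ⟨⟨inferInstance, inferInstance⟩, inferInstance⟩ h1
  · intro T x t ht b
    -- base change of `T` to `X`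
    have hTcond : pullback.fst p x ≫ p ≫ v = pullback.snd p x ≫ t := by
      rw [← Category.assoc, pullback.condition, Category.assoc, ht]
    obtain ⟨a', hxa', hea'⟩ := hU.exists_lift (pullback.fst p x) (t := pullback.snd p x ≫ t)
      hTcond (rs G (pullback.snd p x) rfl b)
    have hxa'a : ∀ {W : Scheme.{u}} (k : X ⟶ W), a' ≫ A'.hom ≫ k = pullback.fst p x ≫ k :=
      fun k => by rw [← Category.assoc, hxa']
    have hat : a' ≫ A'.hom ≫ p ≫ v = pullback.snd p x ≫ t := univ_h hxa' hTcond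
    have hdesc : ∀ {Z : Scheme.{u}} (g₁ g₂ : Z ⟶ pullback p x),
        g₁ ≫ pullback.snd p x = g₂ ≫ pullback.snd p x →
        g₁ ≫ a' ≫ Jinv ≫ pullback.snd p U.hom = g₂ ≫ a' ≫ Jinv ≫ pullback.snd p U.hom := by
      intro Z g₁ g₂ hg
      -- the two points of `A'`
      have hx0 : ∀ g : Z ⟶ pullback p x,
          ((g ≫ a') ≫ A'.hom) ≫ p = g ≫ pullback.snd p x ≫ x := by
        intro g
        rw [Category.assoc g, hxa', Category.assoc, pullback.condition]
      have hx12 : ((g₁ ≫ a') ≫ A'.hom) ≫ p = ((g₂ ≫ a') ≫ A'.hom) ≫ p := by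
        rw [hx0, hx0, ← Category.assoc, hg, Category.assoc]
      have ht₁ : (g₁ ≫ a') ≫ A'.hom ≫ p ≫ v = g₁ ≫ pullback.snd p x ≫ t := by
        rw [Category.assoc, hat]
      have ht₂ : (g₂ ≫ a') ≫ A'.hom ≫ p ≫ v = g₁ ≫ pullback.snd p x ≫ t := by
        rw [Category.assoc, hat, ← Category.assoc, ← hg, Category.assoc]
      have hE : rs G (g₂ ≫ a') ht₂ e' = rs G (g₁ ≫ a') ht₁ e' := by
        have e1 : rs G (g₁ ≫ a') ht₁ e' = rs G g₁ rfl (rs G a' hat e') :=
          (rs_rs _ _ _ _ _).symm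
        have e2 : rs G (g₂ ≫ a') ht₂ e' = rs G g₂ (by rw [← Category.assoc, ← hg, Category.assoc])
            (rs G a' hat e') :=
          (rs_rs _ _ _ _ _).symm
        rw [e1, e2, hea', rs_rs, rs_rs]
        exact rs_congr' hg.symm _ _ _
      let ww : Desc.Lifts A' ((g₁ ≫ a') ≫ A'.hom) := ⟨g₁ ≫ a', rfl⟩
      let ww₂ : Desc.Lifts A' ((g₂ ≫ a') ≫ A'.hom) := ⟨g₂ ≫ a', rfl⟩
      have h6 := phi_unique p v A' e' hU ((g₁ ≫ a') ≫ A'.hom) ((g₂ ≫ a') ≫ A'.hom) hx12
        ww ww₂ ht₂ ht₁ hE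
      let vv : Desc.Lifts ((Desc.toDD p).obj U).obj ((g₁ ≫ a') ≫ A'.hom) :=
        ⟨(g₁ ≫ a') ≫ Jinv, by
          change ((g₁ ≫ a') ≫ Jinv) ≫ pullback.fst p U.hom = _
          rw [Category.assoc, hJinvf]⟩
      have hw : g₁ ≫ a' = ((g₁ ≫ a') ≫ Jinv) ≫ J := by
        rw [Category.assoc, hJ2, Category.comp_id]
      have h3 := ι.hom.comm ((g₁ ≫ a') ≫ A'.hom) ((g₂ ≫ a') ≫ A'.hom) hx12 vv ww
        (hw.trans (congrArg (fun k => ((g₁ ≫ a') ≫ Jinv) ≫ k) hJdef))
      replace h3 : (phiFun p v A' e' hU ((g₁ ≫ a') ≫ A'.hom) ((g₂ ≫ a') ≫ A'.hom) hx12 ww).1 =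
          (Desc.canMap p U _ _ hx12 vv).1 ≫ ι.hom.hom.left := h3
      rw [h6, ← hJdef, Desc.canMap_val] at h3
      replace h3 : g₂ ≫ a' = pullback.lift ((g₂ ≫ a') ≫ A'.hom)
          (((g₁ ≫ a') ≫ Jinv) ≫ pullback.snd p U.hom) (by
            rw [Category.assoc ((g₁ ≫ a') ≫ Jinv), ← pullback.condition, ← Category.assoc,
              Category.assoc (g₁ ≫ a'), hJinvf]
            exact hx12.symm) ≫ J := h3
      have h7 := congrArg (fun k => k ≫ Jinv ≫ pullback.snd p U.hom) h3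
      simp only [Category.assoc] at h7
      rw [hJ1a, pullback.lift_snd] at h7
      try simp only [Category.assoc] at h7
      exact h7.symm
    -- the descended morphism
    let a : T ⟶ U.left := EffectiveEpi.desc (pullback.snd p x)
      (a' ≫ Jinv ≫ pullback.snd p U.hom) (fun g₁ g₂ hg => hdesc g₁ g₂ hg)
    have ha : pullback.snd p x ≫ a = a' ≫ Jinv ≫ pullback.snd p U.hom := EffectiveEpi.fac _ _ _
    have hax : a ≫ U.hom = x := by
      rw [← cancel_epi (pullback.snd p x), ← Category.assoc, ha]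
      simp only [Category.assoc]
      rw [← pullback.condition, hJinvfa, hxa'a, pullback.condition]
    have hab : rs G a (univ_h hax ht) e = b := by
      apply hF.sep (pullback.snd p x) (t := t) (t' := pullback.snd p x ≫ t) rfl
      rw [rs_rs]
      have h1 : rs G (pullback.snd p x ≫ a) (by rw [Category.assoc, univ_h hax ht]) e =
          rs G ((a' ≫ Jinv) ≫ pullback.snd p U.hom) (by
            have h9 := congrArg (fun k => k ≫ U.hom ≫ v) ha
            simp only [Category.assoc] at h9 ⊢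
            rw [← h9, univ_h hax ht]) e :=
        rs_congr' (by rw [ha, Category.assoc]) _ _ _
      rw [h1, key2 (a' ≫ Jinv) _ (by
        simp only [Category.assoc]
        rw [hJ2a]
        exact hat), ← hea']
      exact rs_congr' (by rw [Category.assoc, hJ2, Category.comp_id]) _ _ _
    refine ⟨a, ⟨hax, hab⟩, ?_⟩
    rintro a₂ ⟨hax₂, hab₂⟩
    -- uniqueness
    have hc : ∀ (a₀ : T ⟶ U.left), a₀ ≫ U.hom = x →
        pullback.fst p x ≫ p = (pullback.snd p x ≫ a₀) ≫ U.hom := by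
      intro a₀ h0
      rw [Category.assoc, h0, pullback.condition]
    have huniq : ∀ (a₀ : T ⟶ U.left) (h0 : a₀ ≫ U.hom = x),
        rs G a₀ (univ_h h0 ht) e = b →
        pullback.lift (pullback.fst p x) (pullback.snd p x ≫ a₀) (hc a₀ h0) ≫ J = a' := by
      intro a₀ h0 hb0
      have hl1 : (pullback.lift (pullback.fst p x) (pullback.snd p x ≫ a₀) (hc a₀ h0) ≫ J) ≫
          A'.hom = pullback.fst p x := by
        rw [Category.assoc, hJf, pullback.lift_fst]
      refine hU.inj (t := pullback.snd p x ≫ t) (univ_h hl1 hTcond) hat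
        (by rw [hl1, hxa']) ?_
      rw [hea', ← key2 _ (by
        rw [pullback.lift_snd, Category.assoc, univ_h h0 ht])]
      have h2 : rs G (pullback.lift (pullback.fst p x) (pullback.snd p x ≫ a₀) (hc a₀ h0) ≫
          pullback.snd p U.hom) (by rw [pullback.lift_snd, Category.assoc, univ_h h0 ht]) e =
          rs G (pullback.snd p x ≫ a₀) (by rw [Category.assoc, univ_h h0 ht]) e :=
        rs_congr' (pullback.lift_snd _ _ _) _ _ _
      rw [h2, ← rs_rs (h := univ_h h0 ht) (h' := rfl), hb0]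
    have h1 := huniq a hax hab
    have h2 := huniq a₂ hax₂ hab₂
    have h3 : pullback.lift (pullback.fst p x) (pullback.snd p x ≫ a₂) (hc a₂ hax₂) =
        pullback.lift (pullback.fst p x) (pullback.snd p x ≫ a) (hc a hax) := by
      have := h2.trans h1.symm
      have h4 := congrArg (fun k => k ≫ Jinv) this
      simp only [Category.assoc, hJ1, Category.comp_id] at h4
      exact h4
    have h5 := congrArg (fun k => k ≫ pullback.snd p U.hom) h3
    simp only [pullback.lift_snd] at h5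
    exact (cancel_epi (pullback.snd p x)).1 h5

end Main

end Groth.Agent.Lib.R2H3.FpqcRep
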