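import Mathlib
import Groth.Agent.Lib.R2H3FpqcRep

/-!
# Zariski gluing of representing objects, relative form (helper3, round 2)

* `prodO G w`: the presheaf `G ×_S O` on schemes over `S`, for `w : O ⟶ S`.
* `IsUnivAt.unique`: uniqueness of representing objects.
* `exists_univ_zariski`: if the restrictions of the Zariski sheaf `G` to the members of an open
  cover of `O` are representable by schemes affine over them, so is the restriction of `G` to `O`.
-/

set_option autoImplicit false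
set_option linter.style.haveILetI false
set_option linter.unusedVariables false
set_option linter.unusedSectionVars false

universe u

open CategoryTheory CategoryTheory.Limits AlgebraicGeometry Opposite MorphismProperty
open Groth.Agent.Lib.R2H3.ZarGlueOver Groth.Agent.Lib.R2H3.FpqcLocal
  Groth.Agent.Lib.R2H3.MorSLocal

namespace Groth.Agent.Lib.R2H3.FpqcRep

variable {S : Scheme.{u}} (G : (Over S)ᵒᵖ ⥤ Type u) {O : Scheme.{u}} (w : O ⟶ S)

/-- the presheaf `G ×_S O` on schemes over `S`. -/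
def prodO : (Over S)ᵒᵖ ⥤ Type u where
  obj T := {x : T.unop.left ⟶ O // x ≫ w = T.unop.hom} × G.obj T
  map {T T'} a := ↾fun xb =>
    (⟨a.unop.left ≫ xb.1.1, by rw [Category.assoc, xb.1.2, CategoryTheory.Over.w]⟩, G.map a xb.2)
  map_id T := by
    refine ConcreteCategory.hom_ext _ _ (fun xb => ?_)
    refine Prod.ext (Subtype.ext ?_) ?_
    · change 𝟙 _ ≫ xb.1.1 = xb.1.1
      rw [Category.id_comp]
    · change G.map (𝟙 T) xb.2 = xb.2
      rw [G.map_id]
      rfl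
  map_comp {T T' T''} a a' := by
    refine ConcreteCategory.hom_ext _ _ (fun xb => ?_)
    refine Prod.ext (Subtype.ext ?_) ?_
    · change (a'.unop.left ≫ a.unop.left) ≫ xb.1.1 = a'.unop.left ≫ a.unop.left ≫ xb.1.1
      rw [Category.assoc]
    · change G.map (a ≫ a') xb.2 = G.map a' (G.map a xb.2)
      rw [G.map_comp]
      rfl

variable {G w}

lemma prodO_map_fst {T T' : Over S} (a : T' ⟶ T) (xb : (prodO G w).obj (op T)) :
    ((prodO G w).map a.op xb).1.1 = a.left ≫ xb.1.1 := rfl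

lemma prodO_map_snd {T T' : Over S} (a : T' ⟶ T) (xb : (prodO G w).obj (op T)) :
    ((prodO G w).map a.op xb).2 = G.map a.op xb.2 := rfl

lemma prodO_ext {T : Over S} {xb xb' : (prodO G w).obj (op T)} (h1 : xb.1.1 = xb'.1.1)
    (h2 : xb.2 = xb'.2) : xb = xb' :=
  Prod.ext (Subtype.ext h1) h2

theorem isZarSheaf_prodO (hG : IsZarSheaf G) : IsZarSheaf (prodO G w) := by
  refine ⟨fun T 𝒰 xb xb' h => ?_, fun T 𝒰 x hx => ?_⟩
  · refine prodO_ext ?_ ?_
    · refine Scheme.Cover.hom_ext 𝒰 _ _ (fun i => ?_)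
      exact congrArg (fun k => k.1.1) (h i)
    · apply hG.sep T 𝒰
      intro i
      exact congrArg (fun k => k.2) (h i)
  · have hcompat : ∀ i j, pullback.fst (𝒰.f i) (𝒰.f j) ≫ (x i).1.1 =
        pullback.snd (𝒰.f i) (𝒰.f j) ≫ (x j).1.1 := fun i j =>
      congrArg (fun k => k.1.1) (hx i j)
    let x₀ : T.left ⟶ O := 𝒰.glueMorphisms (fun i => (x i).1.1) hcompat
    have hx₀ : ∀ i, 𝒰.f i ≫ x₀ = (x i).1.1 := fun i => 𝒰.ι_glueMorphisms _ _ i
    have hx₀w : x₀ ≫ w = T.hom := by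
      refine Scheme.Cover.hom_ext 𝒰 _ _ (fun i => ?_)
      rw [← Category.assoc, hx₀]
      exact (x i).1.2
    obtain ⟨b, hb⟩ := hG.glue T 𝒰 (fun i => (x i).2) (fun i j => congrArg (fun k => k.2) (hx i j))
    refine ⟨(⟨x₀, hx₀w⟩, b), fun i => ?_⟩
    exact prodO_ext (hx₀ i) (hb i)

namespace IsUnivAt

variable {A B : Over O} {e : G.obj (op (Over.mk (A.hom ≫ w)))}
  {eB : G.obj (op (Over.mk (B.hom ≫ w)))}

/-- uniqueness of representing objects. -/
theorem unique (hA : IsUnivAt G w A e) (hB : IsUnivAt G w B eB) :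
    ∃ f : A.left ≅ B.left, f.hom ≫ B.hom = A.hom := by
  obtain ⟨α, hα1, hα2⟩ := hB.exists_lift A.hom (t := A.hom ≫ w) rfl e
  obtain ⟨β, hβ1, hβ2⟩ := hA.exists_lift B.hom (t := B.hom ≫ w) rfl eB
  refine ⟨⟨α, β, ?_, ?_⟩, hα1⟩
  · refine hA.inj (t := A.hom ≫ w) ?_ (by rw [Category.id_comp]) ?_ ?_
    · rw [Category.assoc, univ_h hβ1 rfl, univ_h hα1 rfl]
    · rw [Category.assoc, hβ1, hα1, Category.id_comp]
    · rw [rs_id']
      have h1 : rs G (α ≫ β) (by rw [Category.assoc, univ_h hβ1 rfl, univ_h hα1 rfl]) e =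
          rs G α (univ_h hα1 rfl) (rs G β (univ_h hβ1 rfl) e) := (rs_rs _ _ _ _ _).symm
      rw [h1, hβ2, hα2]
  · refine hB.inj (t := B.hom ≫ w) ?_ (by rw [Category.id_comp]) ?_ ?_
    · rw [Category.assoc, univ_h hα1 rfl, univ_h hβ1 rfl]
    · rw [Category.assoc, hα1, hβ1, Category.id_comp]
    · rw [rs_id']
      have h1 : rs G (β ≫ α) (by rw [Category.assoc, univ_h hα1 rfl, univ_h hβ1 rfl]) eB =
          rs G β (univ_h hβ1 rfl) (rs G α (univ_h hα1 rfl) eB) := (rs_rs _ _ _ _ _).symm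
      rw [h1, hα2, hβ2]

end IsUnivAt

section Glue

variable {ι : Type u} (𝒱 : ι → O.Opens) (A : ∀ i, Over (𝒱 i : Scheme.{u}))
  (e : ∀ i, G.obj (op (Over.mk ((A i).hom ≫ (𝒱 i).ι ≫ w))))
  (hA : ∀ i, IsUnivAt G ((𝒱 i).ι ≫ w) (A i) (e i))

/-- the piece of `prodO G w` given by a local representing object. -/
noncomputable def piece (i : ι) : Piece (prodO G w) where
  W := Over.mk ((A i).hom ≫ (𝒱 i).ι ≫ w)
  e := (⟨(A i).hom ≫ (𝒱 i).ι, by simp⟩, e i)
  inj T a a' haa := by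
    have h1 : a.left ≫ (A i).hom ≫ (𝒱 i).ι = a'.left ≫ (A i).hom ≫ (𝒱 i).ι :=
      congrArg (fun k => k.1.1) haa
    have h2 : rs G a.left (Over.w a) (e i) = rs G a'.left (Over.w a') (e i) :=
      congrArg (fun k => k.2) haa
    apply Over.OverMorphism.ext
    refine (hA i).inj (t := T.hom) (Over.w a) (Over.w a') ?_ h2
    rw [← cancel_mono (𝒱 i).ι, Category.assoc, Category.assoc]
    exact h1
  locus T xb := xb.1.1 ⁻¹ᵁ (𝒱 i)
  locus_spec T xb T' φ := by
    constructor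
    · rintro ⟨a, ha⟩
      have h1 : a.left ≫ (A i).hom ≫ (𝒱 i).ι = φ.left ≫ xb.1.1 := congrArg (fun k => k.1.1) ha
      rintro _ ⟨y, rfl⟩
      change xb.1.1 (φ.left y) ∈ 𝒱 i
      rw [← Scheme.Hom.comp_apply, ← h1, Scheme.Hom.comp_apply, Scheme.Hom.comp_apply]
      exact ((A i).hom (a.left y)).2
    · intro hr
      have hr' : Set.range (φ.left ≫ xb.1.1) ⊆ Set.range (𝒱 i).ι := by
        rintro _ ⟨y, rfl⟩
        rw [Scheme.Opens.range_ι, Scheme.Hom.comp_apply]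
        exact hr ⟨y, rfl⟩
      obtain ⟨x', hx'⟩ : ∃ x' : T'.left ⟶ (𝒱 i : Scheme.{u}), x' ≫ (𝒱 i).ι = φ.left ≫ xb.1.1 :=
        ⟨IsOpenImmersion.lift (𝒱 i).ι _ hr', IsOpenImmersion.lift_fac _ _ _⟩
      have ht : x' ≫ (𝒱 i).ι ≫ w = T'.hom := by
        rw [← Category.assoc, hx', Category.assoc, xb.1.2]
        exact Over.w φ
      obtain ⟨a₀, ha1, ha2⟩ := (hA i).exists_lift x' ht
        (G.map φ.op xb.2 : G.obj (op (Over.mk T'.hom)))
      refine ⟨Over.homMk a₀ (univ_h ha1 ht), ?_⟩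
      refine prodO_ext ?_ ha2
      change a₀ ≫ (A i).hom ≫ (𝒱 i).ι = φ.left ≫ xb.1.1
      rw [← Category.assoc, ha1, hx']

include hA in
/-- **Zariski gluing of representing objects** (relative form, affine case). -/
theorem exists_univ_zariski (hG : IsZarSheaf G) (hcov : ∀ o : O, ∃ i, o ∈ 𝒱 i)
    (haff : ∀ i, IsAffineHom (A i).hom) :
    ∃ (A₀ : Over O) (e₀ : G.obj (op (Over.mk (A₀.hom ≫ w)))),
      IsAffineHom A₀.hom ∧ IsUnivAt G w A₀ e₀ := by
  have hrep : (prodO G w).IsRepresentable :=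
    isRepresentable_of_pieces (isZarSheaf_prodO hG) (piece 𝒱 A e hA) (fun T xb y => by
      obtain ⟨i, hi⟩ := hcov (xb.1.1 y)
      exact ⟨i, hi⟩)
  obtain ⟨A₀', ⟨r⟩⟩ := hrep.has_representation
  have hr : ∀ {T : Over S} (a : T ⟶ A₀'),
      r.homEquiv a = (prodO G w).map a.op (r.homEquiv (𝟙 A₀')) := fun a => r.homEquiv_eq a
  generalize hu : r.homEquiv (𝟙 A₀') = u at hr
  obtain ⟨⟨x₀, hx₀⟩, e₀⟩ := u
  have h0 : 𝟙 A₀'.left ≫ A₀'.hom = x₀ ≫ w := by rw [Category.id_comp, hx₀]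
  obtain ⟨e₀', he₀'⟩ : ∃ e₀' : G.obj (op (Over.mk (x₀ ≫ w))),
      e₀' = rs G (𝟙 A₀'.left) h0 (e₀ : G.obj (op (Over.mk A₀'.hom))) := ⟨_, rfl⟩
  have hU : IsUnivAt G w (Over.mk x₀) e₀' := by
    intro T x t ht b
    let xb : (prodO G w).obj (op (Over.mk t)) := (⟨x, ht⟩, b)
    obtain ⟨a, ha⟩ : ∃ a : Over.mk t ⟶ A₀', r.homEquiv a = xb :=
      ⟨r.homEquiv.symm xb, Equiv.apply_symm_apply _ _⟩
    rw [hr] at ha
    have ha1 : a.left ≫ x₀ = x := congrArg (fun k => k.1.1) ha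
    have ha2 : rs G a.left (Over.w a) (e₀ : G.obj (op (Over.mk A₀'.hom))) = b :=
      congrArg (fun k => k.2) ha
    have key : ∀ (a₂ : T ⟶ A₀'.left) (h : a₂ ≫ x₀ ≫ w = t) (h' : a₂ ≫ A₀'.hom = t),
        rs G a₂ h e₀' = rs G a₂ h' (e₀ : G.obj (op (Over.mk A₀'.hom))) := by
      intro a₂ h h'
      rw [he₀', rs_rs]
      exact rs_congr' (Category.comp_id _) _ _ _
    refine ⟨a.left, ⟨ha1, ?_⟩, ?_⟩
    · rw [key _ _ (Over.w a)]
      exact ha2
    · rintro a₂ ⟨hx₂, hb₂⟩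
      replace hx₂ : a₂ ≫ x₀ = x := hx₂
      have hw₂ : a₂ ≫ A₀'.hom = t := by rw [← hx₀, ← Category.assoc, hx₂, ht]
      rw [key _ _ hw₂] at hb₂
      let a₂' : Over.mk t ⟶ A₀' := Over.homMk a₂ hw₂
      have h2 : r.homEquiv a₂' = xb := by
        rw [hr]
        exact prodO_ext hx₂ hb₂
      have h3 : a₂' = a := r.homEquiv.injective (h2.trans (by rw [hr]; exact ha.symm))
      exact congrArg (fun k => k.left) h3
  refine ⟨Over.mk x₀, e₀', ?_, hU⟩
  -- affineness is local on the target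
  change IsAffineHom x₀
  apply IsZariskiLocalAtTarget.of_forall_exists_morphismRestrict
  intro o
  obtain ⟨i, hi⟩ := hcov o
  refine ⟨𝒱 i, hi, ?_⟩
  have hbc := hU.baseChange (𝒱 i).ι
  obtain ⟨f, hf⟩ := hbc.unique (hA i)
  have h1 : IsAffineHom (pullback.snd x₀ (𝒱 i).ι) := by
    have h2 : pullback.snd x₀ (𝒱 i).ι = f.hom ≫ (A i).hom := hf.symm
    rw [h2]
    haveI := haff i
    infer_instance
  unfold morphismRestrict
  exact (MorphismProperty.cancel_left_of_respectsIso @IsAffineHom _ _).mpr h1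

end Glue

end Groth.Agent.Lib.R2H3.FpqcRep
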