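import Mathlib
import Groth.Prelude.Def_TwC
import Groth.Agent.Lib.R2H3FpqcRepZar

/-!
# Representability by affine schemes is local for the fpqc topology (helper3, round 2)

`HasAffRep G w`: the restriction of the presheaf `G` (on schemes over `S`) to schemes over `O`
(through `w : O ⟶ S`) is representable by a scheme affine over `O`.

* `HasAffRep.baseChange`, `HasAffRep.of_zariski`, `HasAffRep.descent`.
* `hasAffRep_of_locally_fpqc`: if `G` is a Zariski sheaf and an fpqc sheaf, and `G` is representable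
  by affine schemes locally on `S` for the fpqc topology (`TwC.Locally`), then `G` is representable
  by a scheme affine over `S`.
* `HasAffRep.exists_bijective`: unpacking over `S`.
-/

set_option autoImplicit false
set_option linter.style.haveILetI false
set_option linter.unusedVariables false
set_option linter.unusedSectionVars false

universe u

open CategoryTheory CategoryTheory.Limits AlgebraicGeometry Opposite MorphismProperty
open Groth.Agent.Lib.R2H3.ZarGlueOver Groth.Agent.Lib.R2H3.FpqcLocal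
  Groth.Agent.Lib.R2H3.MorSLocal

namespace Groth.Agent.Lib.R2H3.FpqcRep

variable {S : Scheme.{u}} (G : (Over S)ᵒᵖ ⥤ Type u)

/-- the restriction of `G` to schemes over `O` is representable by a scheme affine over `O`. -/
def HasAffRep {O : Scheme.{u}} (w : O ⟶ S) : Prop :=
  ∃ (A : Over O) (e : G.obj (op (Over.mk (A.hom ≫ w)))), IsAffineHom A.hom ∧ IsUnivAt G w A e

variable {G}

namespace HasAffRep

variable {O : Scheme.{u}} {w : O ⟶ S}

lemma congr {w' : O ⟶ S} (h : w = w') (hw : HasAffRep G w) : HasAffRep G w' := by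
  subst h
  exact hw

lemma baseChange (hw : HasAffRep G w) {O' : Scheme.{u}} (b : O' ⟶ O) : HasAffRep G (b ≫ w) := by
  obtain ⟨A, e, haff, hA⟩ := hw
  refine ⟨_, _, ?_, hA.baseChange b⟩
  change IsAffineHom (pullback.snd A.hom b)
  exact MorphismProperty.pullback_snd (P := @IsAffineHom) _ _ haff

lemma of_zariski (hG : IsZarSheaf G) {ι : Type u} (𝒱 : ι → O.Opens)
    (hcov : ∀ o : O, ∃ i, o ∈ 𝒱 i) (h : ∀ i, HasAffRep G ((𝒱 i).ι ≫ w)) : HasAffRep G w := by
  choose A e haff hA using h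
  exact exists_univ_zariski 𝒱 A e hA hG hcov haff

lemma descent {X V : Scheme.{u}} (p : X ⟶ V) [Flat p] [Surjective p] [QuasiCompact p]
    (v : V ⟶ S) (hF : IsFpqcSheaf G) (h : HasAffRep G (p ≫ v)) : HasAffRep G v := by
  obtain ⟨A', e', haff, hA'⟩ := h
  haveI := haff
  exact exists_univ_descent p v A' e' hA' hF

/-- unpacking over the base. -/
theorem exists_bijective (h : HasAffRep G (𝟙 S)) :
    ∃ (A : Over S) (e : G.obj (op A)), IsAffineHom A.hom ∧
      ∀ T : Over S, Function.Bijective (fun a : T ⟶ A => G.map a.op e) := by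
  obtain ⟨A, e₁, haff, hA⟩ := h
  have h0 : 𝟙 A.left ≫ A.hom ≫ 𝟙 S = A.hom := by rw [Category.id_comp, Category.comp_id]
  obtain ⟨e, he⟩ : ∃ e : G.obj (op (Over.mk A.hom)), e = rs G (𝟙 A.left) h0 e₁ := ⟨_, rfl⟩
  have key : ∀ {T : Scheme.{u}} (a : T ⟶ A.left) {t : T ⟶ S} (h : a ≫ A.hom = t)
      (h' : a ≫ A.hom ≫ 𝟙 S = t), rs G a h e = rs G a h' e₁ := by
    intro T a t h h'
    rw [he, rs_rs]
    exact rs_congr' (Category.comp_id _) _ _ _
  refine ⟨A, e, haff, fun T => ⟨?_, ?_⟩⟩
  · intro a a' haa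
    replace haa : rs G a.left (Over.w a) e = rs G a'.left (Over.w a') e := haa
    have h1 : a.left ≫ A.hom ≫ 𝟙 S = T.hom := by rw [Category.comp_id]; exact Over.w a
    have h2 : a'.left ≫ A.hom ≫ 𝟙 S = T.hom := by rw [Category.comp_id]; exact Over.w a'
    rw [key _ _ h1, key _ _ h2] at haa
    apply Over.OverMorphism.ext
    exact hA.inj h1 h2 ((Over.w a).trans (Over.w a').symm) haa
  · intro b
    obtain ⟨a₀, ha1, ha2⟩ := hA.exists_lift T.hom (t := T.hom) (Category.comp_id _)
      (b : G.obj (op (Over.mk T.hom)))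
    refine ⟨Over.homMk a₀ ha1, ?_⟩
    change rs G a₀ ha1 e = b
    rw [key _ _ (univ_h ha1 (Category.comp_id _))]
    exact ha2

end HasAffRep

/-- **Representability by affine schemes is local for the fpqc topology.** -/
theorem hasAffRep_of_locally_fpqc (hZ : IsZarSheaf G) (hF : IsFpqcSheaf G)
    (h : TwC.Locally S TwC.Topology.fpqc (fun S' f => HasAffRep G f)) : HasAffRep G (𝟙 S) := by
  obtain ⟨S', f, hflat, hsurj, hqc, hloc⟩ := h
  haveI := hflat
  choose U hU hrep using hloc
  -- affine opens of the base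
  have hV : ∀ V : S.Opens, IsAffineOpen V → HasAffRep G V.ι := by
    intro V hV
    obtain ⟨W₀, q, hq, hQ⟩ := exists_fpqc_over_affine f hqc V hV
    haveI : Surjective q := hQ.1.1
    haveI : Flat q := hQ.1.2
    haveI : QuasiCompact q := hQ.2
    have h1 : HasAffRep G (W₀.ι ≫ f) := by
      refine HasAffRep.of_zariski hZ (ι := (W₀ : Scheme.{u}))
        (fun s' => W₀.ι ⁻¹ᵁ U (W₀.ι s')) (fun o => ⟨o, hU _⟩) (fun s' => ?_)
      have hrange : Set.range ((W₀.ι ⁻¹ᵁ U (W₀.ι s')).ι ≫ W₀.ι) ⊆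
          Set.range (U (W₀.ι s')).ι := by
        rintro _ ⟨y, rfl⟩
        rw [Scheme.Opens.range_ι, Scheme.Hom.comp_apply]
        exact y.2
      obtain ⟨b, hb⟩ : ∃ b : ((W₀.ι ⁻¹ᵁ U (W₀.ι s') : (W₀ : Scheme.{u}).Opens) : Scheme.{u}) ⟶
          (U (W₀.ι s') : Scheme.{u}), b ≫ (U (W₀.ι s')).ι = (W₀.ι ⁻¹ᵁ U (W₀.ι s')).ι ≫ W₀.ι :=
        ⟨IsOpenImmersion.lift _ _ hrange, IsOpenImmersion.lift_fac _ _ _⟩
      refine ((hrep (W₀.ι s')).baseChange b).congr ?_
      rw [← Category.assoc, hb, Category.assoc]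
    have h2 : HasAffRep G (q ≫ V.ι) := h1.congr (by rw [hq])
    exact h2.descent q V.ι hF
  -- gluing over the base
  have hex : ∀ s : S, ∃ V : S.Opens, IsAffineOpen V ∧ s ∈ V := by
    intro s
    obtain ⟨_, ⟨V, hV', rfl⟩, hs, -⟩ :=
      S.isBasis_affineOpens.exists_subset_of_mem_open (Set.mem_univ s) isOpen_univ
    exact ⟨V, hV', hs⟩
  choose V hVaff hVs using hex
  refine HasAffRep.of_zariski hZ (ι := S) V (fun s => ⟨s, hVs s⟩) (fun s => ?_)
  exact (hV (V s) (hVaff s)).congr (Category.comp_id _).symm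

end Groth.Agent.Lib.R2H3.FpqcRep
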