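import Mathlib

/-!
# Functorial actions of a diagonalisable group which are trivial modulo a nilpotent ideal
(helper3, round 2)

Pure algebra behind the rigidity of actions of diagonalisable groups.  A `FunAct C G` is a natural
action of the group functor `B ↦ Hom(G, Bˣ)` (the diagonalisable group `D(G)`) on the functor
`B ↦ Hom(C, B)` (the affine scheme `Spec C`).  If it is linear over `φ : R → C` and trivial on all
points killing a nilpotent ideal `J ⊆ R`, it is trivial.
-/

set_option autoImplicit false
set_option linter.style.haveILetI false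
set_option linter.unusedVariables false
set_option linter.unusedSectionVars false

universe u

namespace Groth.Agent.Lib.R2H3.MultAct

/-- a natural action of `B ↦ Hom(G, B)` on `B ↦ Hom(C, B)`. -/
structure FunAct (C : Type u) [CommRing C] (G : Type) [CommGroup G] where
  /-- the action on `B`-points -/
  act : ∀ (B : Type u) [CommRing B], (G →* B) → (C →+* B) → (C →+* B)
  nat : ∀ (B B' : Type u) [CommRing B] [CommRing B'] (β : B →+* B') (χ : G →* B) (α : C →+* B),
    act B' ((β : B →* B').comp χ) (β.comp α) = β.comp (act B χ α)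
  one : ∀ (B : Type u) [CommRing B] (α : C →+* B), act B 1 α = α
  mul : ∀ (B : Type u) [CommRing B] (χ₁ χ₂ : G →* B) (α : C →+* B),
    act B (χ₁ * χ₂) α = act B χ₁ (act B χ₂ α)

variable {C : Type u} [CommRing C] {G : Type} [CommGroup G]

lemma algebraMap_eq_single {A : Type*} [CommRing A] (c : A) :
    algebraMap A (MonoidAlgebra A G) c = MonoidAlgebra.single 1 c := rfl

lemma coe_monoidHom_apply {A B : Type*} [CommRing A] [CommRing B] (f : A →+* B) (x : A) :
    (f : A →* B) x = f x := rfl

lemma coeff_single_apply' {A : Type*} [CommRing A] [DecidableEq G] (k m : G) (a : A) :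
    (MonoidAlgebra.single k a).coeff m = if k = m then a else 0 := by
  rw [MonoidAlgebra.coeff_single, Finsupp.single_apply]

/-- coefficients of an element of an extended ideal lie in the ideal -/
theorem coeff_mem_of_mem_map {I : Ideal C} (θ : MonoidAlgebra C G)
    (h : θ ∈ I.map (algebraMap C (MonoidAlgebra C G))) (m : G) : θ.coeff m ∈ I := by
  classical
  have key : ∀ θ : MonoidAlgebra C G, θ ∈ I.map (algebraMap C (MonoidAlgebra C G)) →
      ∀ (a : MonoidAlgebra C G) (m : G), (a * θ).coeff m ∈ I := by
    intro θ h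
    induction h using Submodule.span_induction with
    | mem x hx =>
      obtain ⟨c, hc, rfl⟩ := hx
      intro a m
      rw [algebraMap_eq_single, MonoidAlgebra.coeff_mul_single_one]
      exact I.mul_mem_left _ hc
    | zero => intro a m; simp
    | add x y _ _ hx hy =>
      intro a m
      rw [mul_add, MonoidAlgebra.coeff_add, Finsupp.add_apply]
      exact I.add_mem (hx a m) (hy a m)
    | smul b x _ hx =>
      intro a m
      rw [smul_eq_mul, ← mul_assoc]
      exact hx (a * b) m
  simpa using key θ h 1 m

/-- the ring hom `C[G] → B` attached to `α : C → B` and `χ : G → B`. -/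
noncomputable def liftHom {B : Type*} [CommRing B] (α : C →+* B) (χ : G →* B) :
    MonoidAlgebra C G →+* B :=
  MonoidAlgebra.liftNCRingHom α χ (fun _ _ => Commute.all _ _)

@[simp] lemma liftHom_single {B : Type*} [CommRing B] (α : C →+* B) (χ : G →* B) (g : G) (c : C) :
    liftHom α χ (MonoidAlgebra.single g c) = α c * χ g :=
  MonoidAlgebra.liftNCRingHom_single _ _ _ _ _

lemma liftHom_comp_algebraMap {B : Type*} [CommRing B] (α : C →+* B) (χ : G →* B) :
    (liftHom α χ).comp (algebraMap C (MonoidAlgebra C G)) = α := by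
  ext c
  simp

lemma liftHom_comp_of {B : Type*} [CommRing B] (α : C →+* B) (χ : G →* B) :
    ((liftHom α χ : MonoidAlgebra C G →+* B) : MonoidAlgebra C G →* B).comp
      (MonoidAlgebra.of C G) = χ := by
  ext g
  simp [MonoidAlgebra.of_apply]

namespace FunAct

variable (A : FunAct C G)

/-- the universal orbit map `C → C[G]`. -/
noncomputable def univ : C →+* MonoidAlgebra C G :=
  A.act (MonoidAlgebra C G) (MonoidAlgebra.of C G) (algebraMap C (MonoidAlgebra C G))

lemma act_eq_liftHom_comp_univ (B : Type u) [CommRing B] (χ : G →* B) (α : C →+* B) :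
    A.act B χ α = (liftHom α χ).comp A.univ := by
  have := A.nat _ _ (liftHom α χ) (MonoidAlgebra.of C G) (algebraMap C (MonoidAlgebra C G))
  rw [liftHom_comp_algebraMap, liftHom_comp_of] at this
  exact this

lemma counit_univ (c : C) : liftHom (RingHom.id C) (1 : G →* C) (A.univ c) = c := by
  have h := A.act_eq_liftHom_comp_univ C 1 (RingHom.id C)
  rw [A.one] at h
  exact (congrArg (fun k : C →+* C => k c) h).symm

/-- coassociativity: `ŷ (ρ_m c) = ρ_m c · m`. -/
lemma univ_coeff (c : C) (m : G) :
    A.univ ((A.univ c).coeff m) = MonoidAlgebra.single m ((A.univ c).coeff m) := by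
  classical
  obtain ⟨ι', hι'⟩ : ∃ k : MonoidAlgebra C G →+* MonoidAlgebra (MonoidAlgebra C G) G,
    k = algebraMap _ _ := ⟨_, rfl⟩
  obtain ⟨χ₁, hχ₁⟩ : ∃ k : G →* MonoidAlgebra (MonoidAlgebra C G) G,
    k = MonoidAlgebra.of (MonoidAlgebra C G) G := ⟨_, rfl⟩
  obtain ⟨χ₂, hχ₂⟩ : ∃ k : G →* MonoidAlgebra (MonoidAlgebra C G) G,
    k = (ι' : MonoidAlgebra C G →* _).comp (MonoidAlgebra.of C G) := ⟨_, rfl⟩
  obtain ⟨α₂, hα₂⟩ : ∃ k : C →+* MonoidAlgebra (MonoidAlgebra C G) G,
    k = ι'.comp (algebraMap C (MonoidAlgebra C G)) := ⟨_, rfl⟩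
  have h1 : A.act _ χ₂ α₂ = ι'.comp A.univ := by
    rw [hχ₂, hα₂]
    exact A.nat _ _ ι' _ _
  have h2 := A.mul _ χ₁ χ₂ α₂
  rw [h1, A.act_eq_liftHom_comp_univ _ (χ₁ * χ₂) α₂,
    A.act_eq_liftHom_comp_univ _ χ₁ (ι'.comp A.univ)] at h2
  have hL : ∀ θ : MonoidAlgebra C G,
      (liftHom α₂ (χ₁ * χ₂) θ).coeff m = MonoidAlgebra.single m (θ.coeff m) := by
    intro θ
    induction θ using MonoidAlgebra.induction_linear with
    | zero => simp
    | add x y hx hy =>
      rw [map_add, MonoidAlgebra.coeff_add, Finsupp.add_apply, hx, hy, MonoidAlgebra.coeff_add,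
        Finsupp.add_apply, MonoidAlgebra.single_add]
    | single k a =>
      rw [liftHom_single, hα₂, hχ₁, hχ₂, hι']
      simp only [RingHom.comp_apply, MonoidHom.mul_apply, MonoidHom.comp_apply,
        MonoidAlgebra.of_apply, coe_monoidHom_apply, algebraMap_eq_single,
        MonoidAlgebra.single_mul_single, mul_one, one_mul]
      rw [coeff_single_apply', coeff_single_apply']
      split_ifs with hk
      · rw [hk]
      · simp
  have hR : ∀ θ : MonoidAlgebra C G,
      (liftHom (ι'.comp A.univ) χ₁ θ).coeff m = A.univ (θ.coeff m) := by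
    intro θ
    induction θ using MonoidAlgebra.induction_linear with
    | zero => simp
    | add x y hx hy =>
      rw [map_add, MonoidAlgebra.coeff_add, Finsupp.add_apply, hx, hy, MonoidAlgebra.coeff_add,
        Finsupp.add_apply, map_add]
    | single k a =>
      rw [liftHom_single, hχ₁, hι']
      simp only [RingHom.comp_apply, MonoidAlgebra.of_apply, algebraMap_eq_single,
        MonoidAlgebra.single_mul_single, mul_one, one_mul]
      rw [coeff_single_apply', coeff_single_apply']
      split_ifs with hk
      · rfl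
      · simp
  have h3 := congrArg (fun k : C →+* _ => (k c).coeff m) h2
  simp only [RingHom.comp_apply] at h3
  rw [hL, hR] at h3
  exact h3.symm

/-- **Rigidity**: a functorial action of `D(G)` on `Spec C` which is linear over `φ : R → C` and
trivial on the points killing a nilpotent ideal `J` of `R` is trivial. -/
theorem trivial {R : Type*} [CommRing R] (φ : R →+* C) (J : Ideal R) (hJ : IsNilpotent J)
    (hlin : ∀ (B : Type u) [CommRing B] (χ : G →* B) (α : C →+* B) (r : R),
      A.act B χ α (φ r) = α (φ r))
    (htriv : ∀ (B : Type u) [CommRing B] (χ : G →* B) (α : C →+* B),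
      (∀ r ∈ J, α (φ r) = 0) → A.act B χ α = α)
    (B : Type u) [CommRing B] (χ : G →* B) (α : C →+* B) : A.act B χ α = α := by
  classical
  -- it suffices to treat the universal point
  suffices hu : A.univ = algebraMap C (MonoidAlgebra C G) by
    rw [A.act_eq_liftHom_comp_univ, hu, liftHom_comp_algebraMap]
  -- linearity
  have h3 : ∀ (r : R) (c : C) (n : G),
      (A.univ (φ r * c)).coeff n = φ r * (A.univ c).coeff n := by
    intro r c n
    have : A.univ (φ r) = algebraMap C (MonoidAlgebra C G) (φ r) := hlin _ _ _ r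
    rw [map_mul, this, algebraMap_eq_single, MonoidAlgebra.coeff_single_one_mul]
  -- triviality modulo `J`
  have h4 : ∀ (c : C) (n : G), n ≠ 1 → (A.univ c).coeff n ∈ J.map φ := by
    intro c n hn
    obtain ⟨I, hI⟩ : ∃ I : Ideal (MonoidAlgebra C G),
      I = (J.map φ).map (algebraMap C (MonoidAlgebra C G)) := ⟨_, rfl⟩
    have hq := A.nat _ _ (Ideal.Quotient.mk I) (MonoidAlgebra.of C G)
      (algebraMap C (MonoidAlgebra C G))
    rw [htriv] at hq
    · have h5 : A.univ c - algebraMap C (MonoidAlgebra C G) c ∈ I := by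
        rw [← Ideal.Quotient.eq]
        exact (congrArg (fun k : C →+* _ => k c) hq).symm
      rw [hI] at h5
      have h6 := coeff_mem_of_mem_map _ h5 n
      rw [MonoidAlgebra.coeff_sub, Finsupp.sub_apply, algebraMap_eq_single, coeff_single_apply',
        if_neg (Ne.symm hn), sub_zero] at h6
      exact h6
    · intro r hr
      rw [RingHom.comp_apply, Ideal.Quotient.eq_zero_iff_mem, hI]
      exact Ideal.mem_map_of_mem _ (Ideal.mem_map_of_mem _ hr)
  -- the components `ρ_n`, `n ≠ 1`, take values in all powers of `J`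
  have h5 : ∀ (n : G), n ≠ 1 → ∀ (k : ℕ) (c : C), (A.univ c).coeff n ∈ (J ^ k).map φ := by
    intro n hn k
    induction k with
    | zero =>
      intro c
      rw [pow_zero, Ideal.one_eq_top, Ideal.map_top]
      trivial
    | succ k ih =>
      intro c
      have key : ∀ d ∈ (J ^ k).map φ, ∀ a : C, (A.univ (a * d)).coeff n ∈ (J ^ (k + 1)).map φ := by
        intro d hd
        induction hd using Submodule.span_induction with
        | mem x hx =>
          obtain ⟨j, hj, rfl⟩ := hx
          intro a
          rw [mul_comm, h3, pow_succ, Ideal.map_mul]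
          exact Ideal.mul_mem_mul (Ideal.mem_map_of_mem _ hj) (h4 a n hn)
        | zero => intro a; simp
        | add x y _ _ hx hy =>
          intro a
          rw [mul_add, map_add, MonoidAlgebra.coeff_add, Finsupp.add_apply]
          exact Ideal.add_mem _ (hx a) (hy a)
        | smul b x _ hx =>
          intro a
          rw [smul_eq_mul, ← mul_assoc]
          exact hx (a * b)
      have h6 := key _ (ih c) 1
      rw [one_mul, A.univ_coeff, coeff_single_apply', if_pos rfl] at h6
      exact h6
  obtain ⟨N, hN⟩ := hJ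
  have h6 : ∀ (c : C) (n : G), n ≠ 1 → (A.univ c).coeff n = 0 := by
    intro c n hn
    have := h5 n hn N c
    rw [hN, Ideal.zero_eq_bot, Ideal.map_bot] at this
    exact this
  ext c : 1
  have h7 : A.univ c = MonoidAlgebra.single 1 ((A.univ c).coeff 1) := by
    apply MonoidAlgebra.coeff_injective
    ext n
    rw [coeff_single_apply']
    split_ifs with hn
    · rw [hn]
    · exact h6 c n (Ne.symm hn)
  obtain ⟨a, ha⟩ : ∃ a, A.univ c = MonoidAlgebra.single 1 a := ⟨_, h7⟩
  have h8 := A.counit_univ c
  rw [ha, liftHom_single, map_one, mul_one, RingHom.id_apply] at h8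
  rw [ha, h8, algebraMap_eq_single]

end FunAct

end Groth.Agent.Lib.R2H3.MultAct
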