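import Mathlib
import Groth.Agent.Lib.R2H3MultActAlg

/-!
# Functorial actions of a diagonalisable group which are trivial on fibres (helper3, round 2)

A natural action `FunAct C G` of the diagonalisable group `D(G)` on `Spec C`, linear over
`φ : R → C` with `C` of finite type over `R`, which is trivial on all points lying over a field
valued point of `R` (i.e. on the fibres of `Spec C → Spec R`) is trivial
(`FunAct.trivial_of_fibres`).  The proof: the ideal `J` generated by the components of non-trivial
weight is finitely generated, and `J_q = q J_q` at every prime `q` of `C` by the fibre hypothesis, so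
`J = 0` by Nakayama.
-/

set_option autoImplicit false
set_option linter.style.haveILetI false
set_option linter.unusedVariables false
set_option linter.unusedSectionVars false

universe u

namespace Groth.Agent.Lib.R2H3.MultAct

variable {C : Type u} [CommRing C] {G : Type} [CommGroup G]

/-- products of elements of `C[G]` whose coefficients of non-trivial weight lie in `J` again have
this property. -/
lemma coeff_mul_mem_of_ne_one (J : Ideal C) (f g : MonoidAlgebra C G)
    (hf : ∀ n, n ≠ 1 → f.coeff n ∈ J) (hg : ∀ n, n ≠ 1 → g.coeff n ∈ J) (n : G) (hn : n ≠ 1) :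
    (f * g).coeff n ∈ J := by
  classical
  rw [MonoidAlgebra.coeff_mul]
  unfold Finsupp.sum
  refine Ideal.sum_mem _ fun a _ => Ideal.sum_mem _ fun b _ => ?_
  beta_reduce
  split_ifs with hab
  · by_cases ha : a = 1
    · have hb : b ≠ 1 := by
        rintro rfl
        rw [ha, mul_one] at hab
        exact hn hab.symm
      exact J.mul_mem_left _ (hg b hb)
    · exact J.mul_mem_right _ (hf a ha)
  · exact J.zero_mem

/-- an ideal of a ring which is finitely generated and satisfies `I_q = q I_q` for all primes `q`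
(in the form: every element of a generating set is multiplied into `q I` by an element outside
`q`) is zero. -/
theorem ideal_eq_bot_of_local_nakayama (s : Finset C)
    (h : ∀ (q : Ideal C) [q.IsPrime], ∀ g ∈ s, ∃ t, t ∉ q ∧ t * g ∈ q * Ideal.span (s : Set C)) :
    Ideal.span (s : Set C) = ⊥ := by
  classical
  apply ideal_eq_bot_of_localization'
  intro 𝔪 h𝔪
  haveI : 𝔪.IsPrime := h𝔪.isPrime
  set L := Localization.AtPrime 𝔪 with hL
  set I : Ideal L := Ideal.map (algebraMap C L) (Ideal.span (s : Set C)) with hI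
  have hfg : (I : Submodule L L).FG := by
    rw [hI, Ideal.map_span]
    exact ⟨s.image (algebraMap C L), by rw [Finset.coe_image]⟩
  refine Submodule.eq_bot_of_le_smul_of_le_jacobson_bot (IsLocalRing.maximalIdeal L) I hfg ?_
    (IsLocalRing.maximalIdeal_le_jacobson _)
  rw [hI, Ideal.map_span, Ideal.span_le]
  rintro _ ⟨g, hg, rfl⟩
  obtain ⟨t, ht, htg⟩ := h 𝔪 g hg
  have hunit : IsUnit (algebraMap C L t) := IsLocalization.map_units L (⟨t, ht⟩ : 𝔪.primeCompl)
  have h1 : algebraMap C L (t * g) ∈ IsLocalRing.maximalIdeal L • I := by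
    have h2 := Ideal.mem_map_of_mem (algebraMap C L) htg
    rw [Ideal.map_mul, Localization.AtPrime.map_eq_maximalIdeal] at h2
    rw [smul_eq_mul, hI]
    exact h2
  rw [map_mul] at h1
  have h3 := Ideal.mul_mem_left _ (↑hunit.unit⁻¹ : L) h1
  rw [← mul_assoc, IsUnit.val_inv_mul, one_mul] at h3
  rw [← Ideal.map_span]
  exact h3

namespace FunAct

variable (A : FunAct C G)

/-- the weight-`n` component of `c`. -/
noncomputable def comp (n : G) (c : C) : C := (A.univ c).coeff n

lemma comp_comp [DecidableEq G] (m n : G) (c : C) :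
    A.comp n (A.comp m c) = if m = n then A.comp m c else 0 := by
  unfold comp
  rw [A.univ_coeff, coeff_single_apply']

lemma comp_add (n : G) (c d : C) : A.comp n (c + d) = A.comp n c + A.comp n d := by
  unfold comp
  rw [map_add, MonoidAlgebra.coeff_add, Finsupp.add_apply]

lemma comp_zero (n : G) : A.comp n 0 = 0 := by
  unfold comp
  rw [map_zero]
  rfl

variable {R : Type u} [CommRing R] (φ : R →+* C)
  (hlin : ∀ (B : Type u) [CommRing B] (χ : G →* B) (α : C →+* B) (r : R),
      A.act B χ α (φ r) = α (φ r))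

include hlin in
lemma univ_base (r : R) : A.univ (φ r) = MonoidAlgebra.single 1 (φ r) := by
  have := hlin _ (MonoidAlgebra.of C G) (algebraMap C (MonoidAlgebra C G)) r
  rw [algebraMap_eq_single] at this
  exact this

include hlin in
lemma comp_base_mul (n : G) (r : R) (c : C) : A.comp n (φ r * c) = φ r * A.comp n c := by
  unfold comp
  rw [map_mul, A.univ_base φ hlin, MonoidAlgebra.coeff_single_one_mul]

include hlin in
/-- the components of non-trivial weight of every element lie in the ideal generated by those of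
a set of algebra generators. -/
theorem comp_mem_of_generators (s : Set C)
    (hs : @Algebra.adjoin R C _ _ φ.toAlgebra s = ⊤) (J : Ideal C)
    (hJ : ∀ x ∈ s, ∀ n, n ≠ 1 → A.comp n x ∈ J) (c : C) (n : G) (hn : n ≠ 1) :
    A.comp n c ∈ J := by
  classical
  letI := φ.toAlgebra
  have hc : c ∈ Algebra.adjoin R s := by rw [hs]; trivial
  suffices h : ∀ n, n ≠ 1 → A.comp n c ∈ J from h n hn
  induction hc using Algebra.adjoin_induction with
  | mem x hx => exact hJ x hx
  | algebraMap r =>
    intro n hn
    change (A.univ (φ r)).coeff n ∈ J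
    rw [A.univ_base φ hlin, coeff_single_apply', if_neg (Ne.symm hn)]
    exact J.zero_mem
  | add x y _ _ hx hy =>
    intro n hn
    rw [comp_add]
    exact J.add_mem (hx n hn) (hy n hn)
  | mul x y _ _ hx hy =>
    intro n hn
    change (A.univ (x * y)).coeff n ∈ J
    rw [map_mul]
    exact coeff_mul_mem_of_ne_one J _ _ hx hy n hn

include hlin in
/-- `ρ_n` maps `p C` into `(p C) · J` if all components of weight `n` lie in `J`. -/
lemma comp_mem_mul (p : Ideal R) (J : Ideal C) (n : G) (hJ : ∀ c, A.comp n c ∈ J) (y : C)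
    (hy : y ∈ p.map φ) : A.comp n y ∈ p.map φ * J := by
  suffices h : ∀ a : C, A.comp n (a * y) ∈ p.map φ * J by simpa using h 1
  induction hy using Submodule.span_induction with
  | mem x hx =>
    obtain ⟨r, hr, rfl⟩ := hx
    intro a
    rw [mul_comm a (φ r), A.comp_base_mul φ hlin]
    exact Ideal.mul_mem_mul (Ideal.mem_map_of_mem _ hr) (hJ a)
  | zero => intro a; rw [mul_zero, comp_zero]; exact Ideal.zero_mem _
  | add x y _ _ hx hy =>
    intro a
    rw [mul_add, comp_add]
    exact Ideal.add_mem _ (hx a) (hy a)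
  | smul b x _ hx =>
    intro a
    rw [smul_eq_mul, ← mul_assoc]
    exact hx (a * b)

/-- `liftHom (ι ∘ α₀) of` is the coefficientwise map. -/
lemma liftHom_of_eq_mapRingHom {B₀ : Type u} [CommRing B₀] (α₀ : C →+* B₀)
    (θ : MonoidAlgebra C G) :
    liftHom ((algebraMap B₀ (MonoidAlgebra B₀ G)).comp α₀) (MonoidAlgebra.of B₀ G) θ
      = MonoidAlgebra.mapRingHom G α₀ θ := by
  induction θ using MonoidAlgebra.induction_linear with
  | zero => simp
  | add x y hx hy => rw [map_add, map_add, hx, hy]
  | single k a =>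
    rw [liftHom_single, MonoidAlgebra.mapRingHom_single, RingHom.comp_apply, algebraMap_eq_single,
      MonoidAlgebra.of_apply, MonoidAlgebra.single_mul_single, mul_one, one_mul]

/-- the fibre hypothesis: the action is trivial on all points lying over a field valued point of
`R`. -/
def FibTriv : Prop :=
  ∀ (K : Type u) [Field K] (ψ : R →+* K) (B : Type u) [CommRing B] (β : K →+* B) (α : C →+* B),
    α.comp φ = β.comp ψ → ∀ χ : G →* B, A.act B χ α = α

/-- over the fibre at a prime `p` of `R`, the components of non-trivial weight vanish. -/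
theorem exists_mul_comp_mem (htriv : A.FibTriv φ) (p : Ideal R) [p.IsPrime] (c : C) (n : G)
    (hn : n ≠ 1) : ∃ r, r ∉ p ∧ φ r * A.comp n c ∈ p.map φ := by
  classical
  obtain ⟨Mo, hMo⟩ : ∃ Mo : Submonoid C, Mo = Submonoid.map φ p.primeCompl := ⟨_, rfl⟩
  obtain ⟨I, hI⟩ : ∃ I : Ideal (Localization Mo),
    I = (p.map φ).map (algebraMap C (Localization Mo)) := ⟨_, rfl⟩
  obtain ⟨α₀, hα₀⟩ : ∃ α₀ : C →+* (Localization Mo ⧸ I),
    α₀ = (Ideal.Quotient.mk I).comp (algebraMap C (Localization Mo)) := ⟨_, rfl⟩
  have h1 : p ≤ RingHom.ker (α₀.comp φ) := by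
    intro r hr
    rw [RingHom.mem_ker, hα₀, RingHom.comp_apply, RingHom.comp_apply,
      Ideal.Quotient.eq_zero_iff_mem, hI]
    exact Ideal.mem_map_of_mem _ (Ideal.mem_map_of_mem _ hr)
  have h2 : p.primeCompl ≤ (IsUnit.submonoid (Localization Mo ⧸ I)).comap (α₀.comp φ) := by
    intro r hr
    change IsUnit (α₀.comp φ r)
    rw [hα₀, RingHom.comp_apply, RingHom.comp_apply]
    apply IsUnit.map
    exact IsLocalization.map_units (Localization Mo)
      (⟨φ r, by rw [hMo]; exact Submonoid.mem_map_of_mem _ hr⟩ : Mo)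
  obtain ⟨β₀, hβ₀⟩ : ∃ β₀ : p.ResidueField →+* (Localization Mo ⧸ I),
      ∀ r, β₀ (algebraMap R p.ResidueField r) = α₀ (φ r) :=
    ⟨Ideal.ResidueField.lift p (α₀.comp φ) h1 h2,
      fun r => Ideal.ResidueField.lift_algebraMap p _ h1 h2 r⟩
  have key := htriv p.ResidueField (algebraMap R p.ResidueField)
    (MonoidAlgebra (Localization Mo ⧸ I) G)
    ((algebraMap _ (MonoidAlgebra (Localization Mo ⧸ I) G)).comp β₀)
    ((algebraMap _ (MonoidAlgebra (Localization Mo ⧸ I) G)).comp α₀) (by
      ext r
      simp only [RingHom.comp_apply]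
      rw [hβ₀]) (MonoidAlgebra.of _ G)
  rw [A.act_eq_liftHom_comp_univ] at key
  have key2 := congrArg (fun k : C →+* _ => (k c).coeff n) key
  simp only [RingHom.comp_apply] at key2
  rw [liftHom_of_eq_mapRingHom, MonoidAlgebra.coeff_mapRingHom, algebraMap_eq_single,
    coeff_single_apply', if_neg (Ne.symm hn)] at key2
  change α₀ (A.comp n c) = 0 at key2
  rw [hα₀, RingHom.comp_apply, Ideal.Quotient.eq_zero_iff_mem, hI,
    IsLocalization.mem_map_algebraMap_iff Mo] at key2
  obtain ⟨⟨⟨y, hy⟩, ⟨m, hm⟩⟩, hym⟩ := key2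
  simp only at hym
  rw [← map_mul, IsLocalization.eq_iff_exists Mo] at hym
  obtain ⟨⟨m', hm'⟩, hmm⟩ := hym
  simp only at hmm
  rw [hMo] at hm hm'
  obtain ⟨r₁, hr₁, rfl⟩ := hm
  obtain ⟨r₂, hr₂, rfl⟩ := hm'
  refine ⟨r₂ * r₁, ?_, ?_⟩
  · exact (p.primeCompl.mul_mem hr₂ hr₁ : r₂ * r₁ ∈ p.primeCompl)
  · have : φ (r₂ * r₁) * A.comp n c = φ r₂ * (A.comp n c * φ r₁) := by
      rw [map_mul]; ring
    rw [this]
    change φ r₂ * (A.comp n c * φ r₁) = φ r₂ * y at hmm
    rw [hmm]
    exact Ideal.mul_mem_left _ _ hy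

include hlin in
/-- **Rigidity on fibres**: a functorial action of `D(G)` on `Spec C`, linear over `φ : R → C` with
`C` of finite type over `R`, which is trivial on the fibres of `Spec C → Spec R` is trivial. -/
theorem trivial_of_fibres (hft : φ.FiniteType) (htriv : A.FibTriv φ)
    (B : Type u) [CommRing B] (χ : G →* B) (α : C →+* B) : A.act B χ α = α := by
  classical
  suffices hu : A.univ = algebraMap C (MonoidAlgebra C G) by
    rw [A.act_eq_liftHom_comp_univ, hu, liftHom_comp_algebraMap]
  obtain ⟨s, hs⟩ := (show @Algebra.FiniteType R C _ _ φ.toAlgebra from hft).out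
  -- the finite set of components of non-trivial weight of the generators
  obtain ⟨gens, hgens⟩ : ∃ gens : Finset C, gens = s.biUnion (fun x =>
      ((A.univ x).coeff.support.erase 1).image (fun n => A.comp n x)) := ⟨_, rfl⟩
  have hJ1 : ∀ x ∈ (s : Set C), ∀ n, n ≠ 1 → A.comp n x ∈ Ideal.span (gens : Set C) := by
    intro x hx n hn
    by_cases h0 : A.comp n x = 0
    · rw [h0]; exact Ideal.zero_mem _
    · apply Ideal.subset_span
      rw [hgens, Finset.mem_coe, Finset.mem_biUnion]
      refine ⟨x, hx, Finset.mem_image.mpr ⟨n, ?_, rfl⟩⟩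
      rw [Finset.mem_erase, Finsupp.mem_support_iff]
      exact ⟨hn, h0⟩
  have hJ : ∀ c n, n ≠ 1 → A.comp n c ∈ Ideal.span (gens : Set C) :=
    A.comp_mem_of_generators φ hlin (s : Set C) hs _ hJ1
  have hbot : Ideal.span (gens : Set C) = ⊥ := by
    apply ideal_eq_bot_of_local_nakayama
    intro q _ g hg
    rw [hgens, Finset.mem_biUnion] at hg
    obtain ⟨x, hx, hg⟩ := hg
    rw [Finset.mem_image] at hg
    obtain ⟨n, hn, rfl⟩ := hg
    rw [Finset.mem_erase] at hn
    obtain ⟨r, hr, hrg⟩ := A.exists_mul_comp_mem φ htriv (q.comap φ) x n hn.1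
    refine ⟨φ r, hr, ?_⟩
    have h1 := A.comp_mem_mul φ hlin (q.comap φ) (Ideal.span (gens : Set C)) n
      (fun c => hJ c n hn.1) _ hrg
    rw [A.comp_base_mul φ hlin, comp_comp, if_pos rfl] at h1
    exact Ideal.mul_mono_left Ideal.map_comap_le h1
  have h6 : ∀ (c : C) (n : G), n ≠ 1 → (A.univ c).coeff n = 0 := by
    intro c n hn
    have := hJ c n hn
    rw [hbot] at this
    exact this
  ext c : 1
  have h7 : A.univ c = MonoidAlgebra.single 1 ((A.univ c).coeff 1) := by
    apply MonoidAlgebra.coeff_injective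
    ext n
    rw [coeff_single_apply']
    split_ifs with hn
    · rw [hn]
    · exact h6 c n (Ne.symm hn)
  obtain ⟨a, ha⟩ : ∃ a, A.univ c = MonoidAlgebra.single 1 a := ⟨_, h7⟩
  have h8 := A.counit_univ c
  rw [ha, liftHom_single, map_one, mul_one, RingHom.id_apply] at h8
  rw [ha, h8, algebraMap_eq_single]

end FunAct

end Groth.Agent.Lib.R2H3.MultAct
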