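import Mathlib
import Groth.Agent.Lib.R2H3MultFibAlg

/-!
# Free functorial actions of a diagonalisable group (helper3, round 2)

For a free natural action `A : FunAct C G` of `D(G)` on `Spec C`, the ideal generated by the
weight-`m` component `C_m` is the unit ideal for every `m : G` (`FunAct.span_comp_eq_top`).  The
proof takes a homogeneous ideal `𝔞 ⊇ C · C_m` maximal among the proper homogeneous ideals; the
weights occurring in `C/𝔞` form a subgroup `N` of `G` not containing `m`, and `D(G/N)` fixes the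
point `C → C/𝔞`.
-/

set_option autoImplicit false
set_option linter.style.haveILetI false
set_option linter.unusedVariables false
set_option linter.unusedSectionVars false

universe u

namespace Groth.Agent.Lib.R2H3.MultAct

variable {C : Type u} [CommRing C] {G : Type} [CommGroup G]

lemma liftHom_eq_sum {B : Type*} [CommRing B] (α : C →+* B) (χ : G →* B)
    (θ : MonoidAlgebra C G) :
    liftHom α χ θ = θ.coeff.sum fun n r => α r * χ n := by
  conv_lhs => rw [← MonoidAlgebra.sum_coeff_single θ]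
  rw [map_finsuppSum]
  simp only [liftHom_single]

namespace FunAct

variable (A : FunAct C G)

lemma comp_one_one : A.comp 1 (1 : C) = 1 := by
  classical
  unfold comp
  have h : A.univ (1 : C) = MonoidAlgebra.single 1 1 := by
    rw [← MonoidAlgebra.one_def]
    exact map_one A.univ
  rw [h, coeff_single_apply', if_pos rfl]

/-- an element is the sum of its components. -/
lemma sum_comp (c : C) : ((A.univ c).coeff.sum fun n r => r) = c := by
  have h := A.counit_univ c
  rw [liftHom_eq_sum] at h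
  simpa using h

/-- homogeneous elements of weight `n`. -/
def IsHomogElem (n : G) (c : C) : Prop := A.univ c = MonoidAlgebra.single n c

lemma isHomogElem_comp (n : G) (c : C) : A.IsHomogElem n (A.comp n c) := A.univ_coeff c n

lemma IsHomogElem.mul {n n' : G} {c c' : C} (h : A.IsHomogElem n c) (h' : A.IsHomogElem n' c') :
    A.IsHomogElem (n * n') (c * c') := by
  unfold IsHomogElem at *
  rw [map_mul, h, h', MonoidAlgebra.single_mul_single]

lemma IsHomogElem.comp_eq [DecidableEq G] {n : G} {c : C} (h : A.IsHomogElem n c) (k : G) :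
    A.comp k c = if n = k then c else 0 := by
  unfold comp
  rw [h, coeff_single_apply']

lemma IsHomogElem.comp_mul {n : G} {c : C} (h : A.IsHomogElem n c) (d : C) (k : G) :
    A.comp k (d * c) = A.comp (k * n⁻¹) d * c := by
  unfold comp
  rw [map_mul, h, MonoidAlgebra.coeff_mul_single_apply]

/-- homogeneous ideals. -/
def IsHomog (𝔞 : Ideal C) : Prop := ∀ c ∈ 𝔞, ∀ n, A.comp n c ∈ 𝔞

lemma isHomog_span (s : Set C) (hs : ∀ c ∈ s, ∃ n, A.IsHomogElem n c) :
    A.IsHomog (Ideal.span s) := by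
  classical
  intro c hc n
  suffices h : ∀ (a : C) (k : G), A.comp k (a * c) ∈ Ideal.span s by simpa using h 1 n
  induction hc using Submodule.span_induction with
  | mem x hx =>
    obtain ⟨m, hm⟩ := hs x hx
    intro a k
    rw [hm.comp_mul]
    exact Ideal.mul_mem_left _ _ (Ideal.subset_span hx)
  | zero => intro a k; rw [mul_zero, comp_zero]; exact Ideal.zero_mem _
  | add x y _ _ hx hy =>
    intro a k
    rw [mul_add, comp_add]
    exact Ideal.add_mem _ (hx a k) (hy a k)
  | smul b x _ hx =>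
    intro a k
    rw [smul_eq_mul, ← mul_assoc]
    exact hx (a * b) k

lemma IsHomog.sup {𝔞 𝔟 : Ideal C} (ha : A.IsHomog 𝔞) (hb : A.IsHomog 𝔟) : A.IsHomog (𝔞 ⊔ 𝔟) := by
  intro c hc n
  obtain ⟨a, ha', b, hb', rfl⟩ := Submodule.mem_sup.mp hc
  rw [comp_add]
  exact Ideal.add_mem _ (Ideal.mem_sup_left (ha a ha' n)) (Ideal.mem_sup_right (hb b hb' n))

/-- every proper homogeneous ideal is contained in a maximal proper homogeneous ideal. -/
theorem exists_maximal_homog (I : Ideal C) (hI : A.IsHomog I) (hI1 : I ≠ ⊤) :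
    ∃ 𝔞 : Ideal C, I ≤ 𝔞 ∧ Maximal (fun 𝔟 : Ideal C => A.IsHomog 𝔟 ∧ 𝔟 ≠ ⊤) 𝔞 := by
  refine zorn_le_nonempty₀ {𝔟 : Ideal C | A.IsHomog 𝔟 ∧ 𝔟 ≠ ⊤} ?_ I ⟨hI, hI1⟩
  intro c hcs hchain y hy
  have hdir : DirectedOn (· ≤ ·) c := hchain.directedOn
  have hne : c.Nonempty := ⟨y, hy⟩
  refine ⟨sSup c, ⟨?_, ?_⟩, fun z hz => le_sSup hz⟩
  · intro x hx n
    rw [Submodule.mem_sSup_of_directed hne hdir] at hx ⊢
    obtain ⟨𝔟, hb, hxb⟩ := hx
    exact ⟨𝔟, hb, (hcs hb).1 x hxb n⟩
  · intro htop
    have h1 : (1 : C) ∈ sSup c := by rw [htop]; trivial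
    rw [Submodule.mem_sSup_of_directed hne hdir] at h1
    obtain ⟨𝔟, hb, h1b⟩ := h1
    exact (hcs hb).2 ((Ideal.eq_top_iff_one _).mpr h1b)

/-- in the quotient by a maximal proper homogeneous ideal, non-zero homogeneous elements are
invertible with homogeneous inverse. -/
lemma exists_inv_of_maximal {𝔞 : Ideal C}
    (h𝔞 : Maximal (fun 𝔟 : Ideal C => A.IsHomog 𝔟 ∧ 𝔟 ≠ ⊤) 𝔞) {n : G} {c : C}
    (hc : A.IsHomogElem n c) (hc𝔞 : c ∉ 𝔞) :
    ∃ d, A.IsHomogElem n⁻¹ d ∧ 1 - d * c ∈ 𝔞 := by
  classical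
  have hb : A.IsHomog (𝔞 ⊔ Ideal.span {c}) :=
    h𝔞.prop.1.sup A (A.isHomog_span {c} (by rintro x rfl; exact ⟨n, hc⟩))
  have htop : 𝔞 ⊔ Ideal.span {c} = ⊤ := by
    by_contra hne
    have hle := h𝔞.le_of_ge ⟨hb, hne⟩ le_sup_left
    exact hc𝔞 (hle (Ideal.mem_sup_right (Ideal.subset_span rfl)))
  have h1 : (1 : C) ∈ 𝔞 ⊔ Ideal.span {c} := by rw [htop]; trivial
  obtain ⟨a, ha, y, hy, hay⟩ := Submodule.mem_sup.mp h1
  obtain ⟨d, rfl⟩ := Ideal.mem_span_singleton'.mp hy
  refine ⟨A.comp n⁻¹ d, A.isHomogElem_comp _ _, ?_⟩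
  have h2 := congrArg (A.comp 1) hay
  rw [comp_add, hc.comp_mul, one_mul, comp_one_one] at h2
  rw [← h2, add_sub_cancel_right]
  exact h𝔞.prop.1 a ha 1

/-- **Free actions**: if the action is free, every weight space generates the unit ideal. -/
theorem span_comp_eq_top
    (hfree : ∀ (B : Type u) [CommRing B] (χ : G →* B) (α : C →+* B), A.act B χ α = α → χ = 1)
    (m : G) : Ideal.span (Set.range (A.comp m)) = ⊤ := by
  classical
  by_contra hne
  have hI : A.IsHomog (Ideal.span (Set.range (A.comp m))) :=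
    A.isHomog_span _ (by rintro _ ⟨c, rfl⟩; exact ⟨m, A.isHomogElem_comp m c⟩)
  obtain ⟨𝔞, hle, h𝔞⟩ := A.exists_maximal_homog _ hI hne
  have h1𝔞 : (1 : C) ∉ 𝔞 := fun h => h𝔞.prop.2 ((Ideal.eq_top_iff_one _).mpr h)
  -- the subgroup of weights occurring in `C/𝔞`
  let N : Subgroup G :=
    { carrier := {n | ∃ c, A.comp n c ∉ 𝔞}
      one_mem' := ⟨1, by rw [comp_one_one]; exact h1𝔞⟩
      mul_mem' := by
        rintro n n' ⟨c, hc⟩ ⟨c', hc'⟩
        obtain ⟨d, hd, hdc⟩ := A.exists_inv_of_maximal h𝔞 (A.isHomogElem_comp n c) hc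
        obtain ⟨d', hd', hdc'⟩ := A.exists_inv_of_maximal h𝔞 (A.isHomogElem_comp n' c') hc'
        have hh := (A.isHomogElem_comp n c).mul A (A.isHomogElem_comp n' c')
        refine ⟨A.comp n c * A.comp n' c', ?_⟩
        rw [hh.comp_eq, if_pos rfl]
        intro hmem
        apply h1𝔞
        have e : (1 : C) = (1 - d * A.comp n c) + d * A.comp n c * (1 - d' * A.comp n' c')
            + d * d' * (A.comp n c * A.comp n' c') := by ring
        rw [e]
        exact 𝔞.add_mem (𝔞.add_mem hdc (𝔞.mul_mem_left _ hdc')) (𝔞.mul_mem_left _ hmem)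
      inv_mem' := by
        rintro n ⟨c, hc⟩
        obtain ⟨d, hd, hdc⟩ := A.exists_inv_of_maximal h𝔞 (A.isHomogElem_comp n c) hc
        refine ⟨d, ?_⟩
        rw [hd.comp_eq, if_pos rfl]
        intro hmem
        apply h1𝔞
        have e : (1 : C) = (1 - d * A.comp n c) + d * A.comp n c := by ring
        rw [e]
        exact 𝔞.add_mem hdc (𝔞.mul_mem_right _ hmem) }
  have hmN : m ∉ N := by
    rintro ⟨c, hc⟩
    exact hc (hle (Ideal.subset_span ⟨c, rfl⟩))
  have hN : ∀ n, n ∉ N → ∀ c, A.comp n c ∈ 𝔞 := by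
    intro n hn c
    by_contra h
    exact hn ⟨c, h⟩
  -- the fixed point
  obtain ⟨α, hα⟩ : ∃ α : C →+* MonoidAlgebra (C ⧸ 𝔞) (G ⧸ N),
    α = (algebraMap (C ⧸ 𝔞) (MonoidAlgebra (C ⧸ 𝔞) (G ⧸ N))).comp (Ideal.Quotient.mk 𝔞) :=
    ⟨_, rfl⟩
  obtain ⟨χ, hχ⟩ : ∃ χ : G →* MonoidAlgebra (C ⧸ 𝔞) (G ⧸ N),
    χ = (MonoidAlgebra.of (C ⧸ 𝔞) (G ⧸ N)).comp (QuotientGroup.mk' N) := ⟨_, rfl⟩
  have hfix : A.act _ χ α = α := by
    rw [A.act_eq_liftHom_comp_univ]
    ext c : 1
    rw [RingHom.comp_apply, liftHom_eq_sum]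
    have h1 : ((A.univ c).coeff.sum fun n r => α r * χ n)
        = ((A.univ c).coeff.sum fun n r => α r) := by
      apply Finsupp.sum_congr
      intro n _
      by_cases hn : n ∈ N
      · have : χ n = 1 := by
          rw [hχ, MonoidHom.comp_apply, QuotientGroup.mk'_apply,
            (QuotientGroup.eq_one_iff n).mpr hn, map_one]
        rw [this, mul_one]
      · have : α ((A.univ c).coeff n) = 0 := by
          have h0 : Ideal.Quotient.mk 𝔞 ((A.univ c).coeff n) = 0 :=
            Ideal.Quotient.eq_zero_iff_mem.mpr (hN n hn c)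
          rw [hα, RingHom.comp_apply, h0, map_zero]
        rw [this, zero_mul]
    rw [h1, ← map_finsuppSum, A.sum_comp]
  have hχ1 := hfree _ χ α hfix
  -- hence `G/N` is trivial
  have h2 := congrArg (fun k : G →* _ => k m) hχ1
  simp only [MonoidHom.one_apply] at h2
  rw [hχ, MonoidHom.comp_apply, QuotientGroup.mk'_apply, MonoidAlgebra.of_apply,
    MonoidAlgebra.one_def] at h2
  have hnt : Nontrivial (C ⧸ 𝔞) := Ideal.Quotient.nontrivial_iff.mpr h𝔞.prop.2
  have h3 := congrArg (fun θ : MonoidAlgebra (C ⧸ 𝔞) (G ⧸ N) => θ.coeff 1) h2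
  beta_reduce at h3
  rw [MonoidAlgebra.coeff_single, MonoidAlgebra.coeff_single, Finsupp.single_apply,
    Finsupp.single_apply, if_pos rfl] at h3
  split_ifs at h3 with h4
  · exact hmN ((QuotientGroup.eq_one_iff m).mp h4)
  · exact zero_ne_one h3

/-- if the action is free, `C[G]` is generated as a ring by the image of the universal orbit map
and the constants. -/
theorem subring_eq_top_of_free
    (hfree : ∀ (B : Type u) [CommRing B] (χ : G →* B) (α : C →+* B), A.act B χ α = α → χ = 1)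
    (S : Subring (MonoidAlgebra C G)) (h1 : ∀ c, A.univ c ∈ S)
    (h2 : ∀ c, MonoidAlgebra.single (1 : G) c ∈ S) : S = ⊤ := by
  classical
  have hm : ∀ m : G, MonoidAlgebra.single m (1 : C) ∈ S := by
    intro m
    have h := (Ideal.eq_top_iff_one _).mp (A.span_comp_eq_top hfree m)
    suffices key : ∀ x ∈ Ideal.span (Set.range (A.comp m)), MonoidAlgebra.single m x ∈ S from
      key 1 h
    intro x hx
    induction hx using Submodule.span_induction with
    | mem x hx =>
      obtain ⟨c, rfl⟩ := hx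
      have e : MonoidAlgebra.single m (A.comp m c) = A.univ (A.comp m c) :=
        (A.univ_coeff c m).symm
      rw [e]
      exact h1 _
    | zero => rw [MonoidAlgebra.single_zero]; exact S.zero_mem
    | add x y _ _ hx hy => rw [MonoidAlgebra.single_add]; exact S.add_mem hx hy
    | smul b x _ hx =>
      have e : MonoidAlgebra.single m (b • x) = MonoidAlgebra.single 1 b * MonoidAlgebra.single m x := by
        rw [MonoidAlgebra.single_mul_single, one_mul, smul_eq_mul]
      rw [e]
      exact S.mul_mem (h2 b) hx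
  rw [eq_top_iff]
  intro θ _
  clear * - hm h2
  induction θ using MonoidAlgebra.induction_linear with
  | zero => exact S.zero_mem
  | add x y hx hy => exact S.add_mem hx hy
  | single k a =>
    have e : MonoidAlgebra.single k a = MonoidAlgebra.single 1 a * MonoidAlgebra.single k 1 := by
      rw [MonoidAlgebra.single_mul_single, one_mul, mul_one]
    rw [e]
    exact S.mul_mem (h2 a) (hm k)

end FunAct

end Groth.Agent.Lib.R2H3.MultAct
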