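import Groth.Agent.Lib.R2H3MultFibAlg
import Groth.Agent.Lib.R2H3MultActRed

/-!
# Rigidity on fibres for actions of groups of multiplicative type (helper3, round 2)

An action (on points) of an `S`-group of multiplicative type `G` on an `S`-scheme `X` locally of
finite type which is trivial on all points lying over a field valued point of `S` (i.e. on the
fibres) is trivial: `PtAction.trivial_of_multType_fib`.  The reductions parallel those of
`R2H3MultActRed` (nilpotent case); the algebraic core is `FunAct.trivial_of_fibres`.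
-/

set_option autoImplicit false
set_option linter.style.haveILetI false
set_option linter.unusedVariables false
set_option linter.unusedSectionVars false

universe u

open CategoryTheory MonoidalCategory CartesianMonoidalCategory MonObj GrpObj AlgebraicGeometry
  CategoryTheory.Limits
open Groth.Agent.Lib.Helper27.GaGm Groth.Agent.Lib.H6xDSPts

namespace Groth.Agent.Lib.R2H3.MultAct

/-- `Y` lies over a field valued point of `W`. -/
def IsFib {W : Scheme.{u}} (Y : Over W) : Prop :=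
  ∃ (K : Type u) (_ : Field K) (q : Spec (CommRingCat.of K) ⟶ W)
    (p : Y.left ⟶ Spec (CommRingCat.of K)), p ≫ q = Y.hom

lemma IsFib.of_hom {W : Scheme.{u}} {Y Y' : Over W} (k : Y' ⟶ Y) (h : IsFib Y) : IsFib Y' := by
  obtain ⟨K, _, q, p, hp⟩ := h
  exact ⟨K, _, q, k.left ≫ p, by rw [Category.assoc, hp, Over.w k]⟩

lemma IsFib.map {S W : Scheme.{u}} (w : W ⟶ S) {Y : Over W} (h : IsFib Y) :
    IsFib ((Over.map w).obj Y) := by
  obtain ⟨K, _, q, p, hp⟩ := h
  refine ⟨K, _, q ≫ w, p, ?_⟩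
  simp only [Over.map_obj_left, Over.map_obj_hom]
  rw [← Category.assoc, hp]

/-- the spectrum of the residue field of a point, over the base. -/
lemma isFib_residueField {W : Scheme.{u}} (Y : Over W) (y : Y.left) :
    IsFib (Over.mk (Y.left.fromSpecResidueField y ≫ Y.hom)) :=
  ⟨Y.left.residueField y, inferInstance, Y.left.fromSpecResidueField y ≫ Y.hom, 𝟙 _,
    Category.id_comp _⟩

section General

variable {W : Scheme.{u}} {Gw Xw : Over W} [GrpObj Gw] (P : PtAction Gw Xw)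

/-- pointwise variant of `PtAction.base_eq`. -/
theorem PtAction.base_eq' (good : Over W → Prop)
    (h0 : ∀ Y : Over W, good Y → ∀ (g : Y ⟶ Gw) (x : Y ⟶ Xw), P.smul g x = x)
    (hgood : ∀ (Y : Over W) (y : Y.left), ∃ (Y₀ : Over W) (k : Y₀ ⟶ Y), good Y₀ ∧
      y ∈ Set.range k.left)
    {Y : Over W} (g : Y ⟶ Gw) (x : Y ⟶ Xw) (y : Y.left) :
    (P.smul g x).left y = x.left y := by
  obtain ⟨Y₀, k, hg, ⟨y₀, rfl⟩⟩ := hgood Y y
  have h := P.comp_smul k g x
  rw [h0 Y₀ hg] at h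
  have h2 := congrArg (fun t => t.left y₀) h
  simp only [Over.comp_left, Scheme.Hom.comp_apply] at h2
  exact h2

/-- an action which is trivial on fibres is trivial on the underlying spaces. -/
theorem PtAction.base_eq_of_fib
    (h0 : ∀ Y : Over W, IsFib Y → ∀ (g : Y ⟶ Gw) (x : Y ⟶ Xw), P.smul g x = x)
    {Y : Over W} (g : Y ⟶ Gw) (x : Y ⟶ Xw) (y : Y.left) :
    (P.smul g x).left y = x.left y := by
  refine P.base_eq' IsFib h0 (fun Y y => ?_) g x y
  refine ⟨Over.mk (Y.left.fromSpecResidueField y ≫ Y.hom),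
    Over.homMk (Y.left.fromSpecResidueField y) rfl, isFib_residueField Y y, ?_⟩
  change y ∈ Set.range (Y.left.fromSpecResidueField y)
  rw [Scheme.range_fromSpecResidueField]
  rfl

end General

section Affine

variable {W : Scheme.{u}} {M : Type} [AddCommGroup M] {C : Type u} [CommRing C]
  (π : Spec (CommRingCat.of C) ⟶ W) (P : PtAction (Red.DS W M) (Over.mk π))

/-- an action of `D_W(M)` on `Spec C` which is trivial on the canonical affine points is
trivial. -/
theorem PtAction.trivial_of_affine_points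
    (haff : ∀ (B : Type u) [CommRing B] (χ : Multiplicative M →* B) (α : C →+* B),
      P.smul (gof π α χ) (xof π α) = xof π α)
    (Y : Over W) (g : Y ⟶ Red.DS W M) (x : Y ⟶ Over.mk π) : P.smul g x = x := by
  obtain ⟨χ, hχ⟩ : ∃ χ : Multiplicative M →* Γ(Y.left, ⊤),
      ∀ m, χ (Multiplicative.ofAdd m) = dsFn g m :=
    ⟨{ toFun := fun m => dsFn g (Multiplicative.toAdd m)
       map_one' := dsFn_zero g
       map_mul' := fun a b => dsFn_add g _ _ }, fun m => rfl⟩
  obtain ⟨α, hα⟩ : ∃ α : C →+* Γ(Y.left, ⊤), α = fnHom (A := C) x.left := ⟨_, rfl⟩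
  have hk : Y.left.toSpecΓ ≫ Spec.map (CommRingCat.ofHom α) = x.left := by
    apply fn_ext (A := C)
    intro c
    rw [fn_specMap]
    unfold fn
    rw [toSpecΓ_appTop_inv, hα]
    rfl
  let k : Y ⟶ Yof π α := Over.homMk (Y.left.toSpecΓ) (by
    simp only [Over.mk_left, Over.mk_hom]
    rw [← Category.assoc, hk]
    exact Over.w x)
  have hkx : k ≫ xof π α = x := by
    apply Over.OverMorphism.ext
    rw [Over.comp_left, xof_left]
    exact hk
  have hkg : k ≫ gof π α χ = g := by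
    apply dsFn_ext
    intro m
    rw [dsFn_comp, dsFn_gof, hχ]
    exact toSpecΓ_appTop_inv _
  rw [← hkx, ← hkg, ← P.comp_smul, haff]

/-- **Rigidity on fibres, affine case**. -/
theorem PtAction.trivial_of_affine_fib {R : Type u} [CommRing R] (φ : R →+* C)
    (hft : φ.FiniteType)
    (hlin : ∀ (Y : Over W) (x x' : Y ⟶ Over.mk π) (r : R),
      fn (A := C) x.left (φ r) = fn (A := C) x'.left (φ r))
    (htriv : ∀ (K : Type u) [Field K] (ψ : R →+* K) (Y : Over W) (x : Y ⟶ Over.mk π)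
      (p : Y.left ⟶ Spec (CommRingCat.of K)),
      x.left ≫ Spec.map (CommRingCat.ofHom φ) = p ≫ Spec.map (CommRingCat.ofHom ψ) →
      ∀ g : Y ⟶ Red.DS W M, P.smul g x = x)
    (Y : Over W) (g : Y ⟶ Red.DS W M) (x : Y ⟶ Over.mk π) : P.smul g x = x := by
  refine PtAction.trivial_of_affine_points π P (fun B _ χ α => ?_) Y g x
  have h := FunAct.trivial_of_fibres (toFunAct π P) φ ?_ hft ?_ B χ α
  · apply Over.OverMorphism.ext
    rw [xof_left]
    apply ringOf_injective
    rw [ringOf_specMap]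
    exact h
  · intro B _ χ α r
    have h1 := hlin (Yof π α) (P.smul (gof π α χ) (xof π α)) (xof π α) r
    rw [xof_left] at h1
    erw [fn_eq_ringOf, fn_eq_ringOf, ringOf_specMap] at h1
    exact ΓSpecIso_inv_injective h1
  · intro K _ ψ B _ β α hcomm χ
    have h1 := htriv K ψ (Yof π α) (xof π α) (Spec.map (CommRingCat.ofHom β)) (by
      rw [xof_left, ← specMap_comp_eq, ← specMap_comp_eq, hcomm]) (gof π α χ)
    change ringOf (actPt π P χ α) = α
    unfold actPt
    rw [h1, xof_left, ringOf_specMap]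

end Affine

section Local

variable {W : Scheme.{u}} {M : Type} [AddCommGroup M] {Xw : Over W} [LocallyOfFiniteType Xw.hom]
  (Pw : PtAction (Red.DS W M) Xw)
  (h0w : ∀ (Y : Over W), IsFib Y → ∀ (g : Y ⟶ Red.DS W M) (x : Y ⟶ Xw), Pw.smul g x = x)

include h0w in
/-- **Rigidity on fibres, diagonalisable case**: an action of `D_W(M)` on a `W`-scheme locally of
finite type which is trivial on the fibres is trivial. -/
theorem PtAction.trivial_of_diag_fib (Y : Over W) (g : Y ⟶ Red.DS W M) (x : Y ⟶ Xw) :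
    Pw.smul g x = x := by
  have hbase : ∀ {Y : Over W} (g : Y ⟶ Red.DS W M) (x : Y ⟶ Xw) (y : Y.left),
      (Pw.smul g x).left y = x.left y := fun g x y => Pw.base_eq_of_fib h0w g x y
  apply Over.OverMorphism.ext
  apply Scheme.hom_ext_of_forall
  intro y
  -- an affine chart of `Xw` around the image of `y`, lying over an affine open of `W`
  obtain ⟨V, hV, hsV⟩ : ∃ V : W.Opens, IsAffineOpen V ∧ Xw.hom (x.left y) ∈ V := by
    obtain ⟨V, hV, h1, -⟩ := TopologicalSpace.Opens.isBasis_iff_nbhd.mp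
      (W.isBasis_affineOpens) (U := ⊤) (x := Xw.hom (x.left y)) trivial
    exact ⟨V, hV, h1⟩
  obtain ⟨U, hU, hpU, hUV⟩ : ∃ U : Xw.left.Opens, IsAffineOpen U ∧ x.left y ∈ U ∧
      U ≤ Xw.hom ⁻¹ᵁ V := by
    obtain ⟨U, hU, h1, h2⟩ := TopologicalSpace.Opens.isBasis_iff_nbhd.mp
      (Xw.left.isBasis_affineOpens) (U := Xw.hom ⁻¹ᵁ V) (x := x.left y) hsV
    exact ⟨U, hU, h1, h2⟩
  refine ⟨x.left ⁻¹ᵁ U, hpU, ?_⟩
  -- notation
  obtain ⟨π, hπ⟩ : ∃ π : Spec (CommRingCat.of Γ(Xw.left, U)) ⟶ W, π = hU.fromSpec ≫ Xw.hom :=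
    ⟨_, rfl⟩
  obtain ⟨j, hj⟩ : ∃ j : Over.mk π ⟶ Xw, j.left = hU.fromSpec :=
    ⟨Over.homMk hU.fromSpec hπ.symm, rfl⟩
  haveI : IsOpenImmersion j.left := by rw [hj]; infer_instance
  obtain ⟨Yy, hYy⟩ : ∃ Yy : Over W, Yy = Over.mk ((x.left ⁻¹ᵁ U).ι ≫ Y.hom) := ⟨_, rfl⟩
  subst hYy
  obtain ⟨k, hk⟩ : ∃ k : Over.mk ((x.left ⁻¹ᵁ U).ι ≫ Y.hom) ⟶ Y, k.left = (x.left ⁻¹ᵁ U).ι :=
    ⟨Over.homMk (x.left ⁻¹ᵁ U).ι rfl, rfl⟩
  have hrange : Set.range ((x.left ⁻¹ᵁ U).ι ≫ x.left) ⊆ Set.range hU.fromSpec := by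
    rw [hU.range_fromSpec]
    rintro _ ⟨t, rfl⟩
    rw [Scheme.Hom.comp_apply]
    exact t.2
  obtain ⟨x', hx'⟩ : ∃ x' : Over.mk ((x.left ⁻¹ᵁ U).ι ≫ Y.hom) ⟶ Over.mk π, x' ≫ j = k ≫ x := by
    refine ⟨Over.homMk (IsOpenImmersion.lift hU.fromSpec ((x.left ⁻¹ᵁ U).ι ≫ x.left) hrange) ?_, ?_⟩
    · simp only [Over.mk_left, Over.mk_hom]
      rw [hπ, ← Category.assoc, IsOpenImmersion.lift_fac, Category.assoc, Over.w x]
    · apply Over.OverMorphism.ext
      simp only [Over.comp_left, Over.homMk_left]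
      rw [hj, hk, IsOpenImmersion.lift_fac]
  -- the ring map `Γ(W, V) → Γ(Xw, U)`
  obtain ⟨φ, hφ, hft⟩ : ∃ φ : Γ(W, V) →+* Γ(Xw.left, U),
      Spec.map (CommRingCat.ofHom φ) ≫ hV.fromSpec = π ∧ φ.FiniteType :=
    ⟨(Xw.hom.appLE V U hUV).hom, by
      rw [hπ, ← IsAffineOpen.SpecMap_appLE_fromSpec Xw.hom hV hU hUV]
      rfl, Scheme.Hom.finiteType_appLE Xw.hom hV hU hUV⟩
  -- the restricted action is trivial
  have key := PtAction.trivial_of_affine_fib (C := Γ(Xw.left, U)) π (Pw.restrict j hbase) φ hft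
    ?_ ?_ _ (k ≫ g) x'
  · have h1 := Pw.comp_smul k g x
    rw [← hx', ← Pw.restrict_smul_comp j hbase, key, hx'] at h1
    have h2 := congrArg (fun t => t.left) h1
    simp only [Over.comp_left] at h2
    rw [hk] at h2
    exact h2
  · -- linearity
    intro Y₁ x₁ x₂ r
    rw [← fn_specMap, ← fn_specMap]
    congr 1
    rw [← cancel_mono hV.fromSpec, Category.assoc, Category.assoc, hφ]
    exact (Over.w x₁).trans (Over.w x₂).symm
  · -- triviality on fibres
    intro K _ ψ Y₁ x₁ p hp g₁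
    apply PtAction.mono_of_open j
    rw [Pw.restrict_smul_comp j hbase]
    apply h0w
    refine ⟨K, inferInstance, Spec.map (CommRingCat.ofHom ψ) ≫ hV.fromSpec, p, ?_⟩
    rw [← Category.assoc, ← hp, Category.assoc, hφ]
    exact Over.w x₁

end Local

section Main

variable {S : Scheme.{u}} {G X : Over S} [GrpObj G] [LocallyOfFiniteType X.hom] (P : PtAction G X)
  (h0 : ∀ (Y : Over S), IsFib Y → ∀ (g : Y ⟶ G) (x : Y ⟶ X), P.smul g x = x)

include h0 in
/-- the case of points defined over a scheme over which `G` is diagonalisable. -/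
theorem PtAction.trivial_of_split_fib {W : Scheme.{u}} (w : W ⟶ S) {M : Type} [AddCommGroup M]
    (e : Grp.mk (Red.bc w G) ≅ Grp.mk (Red.DS W M)) (Y' : Over W)
    (g : (Over.map w).obj Y' ⟶ G) (x : (Over.map w).obj Y' ⟶ X) : P.smul g x = x := by
  obtain ⟨u, hu⟩ : ∃ u : Red.DS W M ⟶ Red.bc w G, u = e.inv.hom.hom := ⟨_, rfl⟩
  obtain ⟨v, hv⟩ : ∃ v : Red.bc w G ⟶ Red.DS W M, v = e.hom.hom.hom := ⟨_, rfl⟩
  haveI : IsMonHom u := by rw [hu]; infer_instance
  have hvu : v ≫ u = 𝟙 _ := by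
    rw [hu, hv, ← Grp.comp_hom_hom, e.hom_inv_id, Grp.id_hom_hom]
  haveI : LocallyOfFiniteType (Red.bc w X).hom := by
    change LocallyOfFiniteType (pullback.snd X.hom w)
    infer_instance
  have h0w : ∀ (Y : Over W), IsFib Y →
      ∀ (g : Y ⟶ Red.DS W M) (x : Y ⟶ Red.bc w X), ((P.bc w).comap u).smul g x = x := by
    intro Y hY g x
    apply (adjE w X Y).injective
    change adjE w X Y ((P.bc w).smul (g ≫ u) x) = _
    rw [PtAction.bc_smul]
    exact h0 ((Over.map w).obj Y) (hY.map w) _ _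
  have triv := PtAction.trivial_of_diag_fib ((P.bc w).comap u) h0w Y'
    ((adjE w G Y').symm g ≫ v) ((adjE w X Y').symm x)
  change (P.bc w).smul (((adjE w G Y').symm g ≫ v) ≫ u) ((adjE w X Y').symm x) = _ at triv
  rw [Category.assoc, hvu, Category.comp_id] at triv
  have h2 := congrArg (adjE w X Y') triv
  rw [PtAction.bc_smul, Equiv.apply_symm_apply, Equiv.apply_symm_apply] at h2
  exact h2

include h0 in
/-- **Rigidity on fibres**: an action (on points) of an `S`-group of multiplicative type on an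
`S`-scheme locally of finite type which is trivial on the fibres is trivial. -/
theorem PtAction.trivial_of_multType_fib
    (hG : TwC.Locally S TwC.Topology.fpqc (fun S' f => ∃ (M : Type) (_ : AddCommGroup M),
      Nonempty (Grp.mk (Red.bc f G) ≅ Grp.mk (Red.DS S' M))))
    (Y : Over S) (g : Y ⟶ G) (x : Y ⟶ X) : P.smul g x = x := by
  obtain ⟨S', f, hflat, hsurj, -, hloc⟩ := hG
  haveI : Epi (pullback.fst Y.hom f) := Flat.epi_of_flat_of_surjective _
  apply Over.OverMorphism.ext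
  rw [← cancel_epi (pullback.fst Y.hom f)]
  apply Scheme.hom_ext_of_forall
  intro z
  obtain ⟨U, hs'U, M, instM, ⟨e⟩⟩ := hloc ((pullback.snd Y.hom f) z)
  refine ⟨(pullback.snd Y.hom f) ⁻¹ᵁ U, hs'U, ?_⟩
  obtain ⟨t, ht⟩ : ∃ t : ((pullback.snd Y.hom f) ⁻¹ᵁ U).toScheme ⟶ U.toScheme,
      t ≫ U.ι = ((pullback.snd Y.hom f) ⁻¹ᵁ U).ι ≫ pullback.snd Y.hom f :=
    ⟨(pullback.snd Y.hom f).resLE U _ le_rfl, Scheme.Hom.resLE_comp_ι _ _⟩
  obtain ⟨k, hk⟩ : ∃ k : (Over.map (U.ι ≫ f)).obj (Over.mk t) ⟶ Y,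
      k.left = ((pullback.snd Y.hom f) ⁻¹ᵁ U).ι ≫ pullback.fst Y.hom f := by
    refine ⟨Over.homMk (((pullback.snd Y.hom f) ⁻¹ᵁ U).ι ≫ pullback.fst Y.hom f) ?_, rfl⟩
    simp only [Over.map_obj_left, Over.mk_left, Over.map_obj_hom, Over.mk_hom, Category.assoc]
    rw [pullback.condition, ← Category.assoc, ← ht, Category.assoc]
  have h1 := P.comp_smul k g x
  rw [PtAction.trivial_of_split_fib P h0 (U.ι ≫ f) e (Over.mk t) (k ≫ g) (k ≫ x)] at h1
  have h2 := congrArg (fun t => t.left) h1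
  simp only [Over.comp_left] at h2
  rw [hk, Category.assoc, Category.assoc] at h2
  exact h2

end Main

end Groth.Agent.Lib.R2H3.MultAct
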