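import Groth.Agent.Lib.R2H3FreeActAlg
import Groth.Agent.Lib.R2H3MultFibGeo

/-!
# Free actions of diagonalisable groups on affine schemes: the graph is a closed immersion
(helper3, round 2)

* `univPt`: the universal point `Spec C[M] ⟶ D_W(M) × Spec C`, an isomorphism (`isIso_univPt`);
* `isClosedImmersion_graph_affine`: for a free action (on points) of `D_W(M)` on `Spec C`, any
  morphism `Γ : D_W(M) × Spec C ⟶ T` to an affine `W`-scheme whose composites with two morphisms
  `p₁ p₂ : T ⟶ Spec C` are the action and the projection is a closed immersion.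
-/

set_option autoImplicit false
set_option linter.style.haveILetI false
set_option linter.unusedVariables false
set_option linter.unusedSectionVars false

universe u

open CategoryTheory MonoidalCategory CartesianMonoidalCategory MonObj GrpObj AlgebraicGeometry
  CategoryTheory.Limits
open Groth.Agent.Lib.Helper27.GaGm Groth.Agent.Lib.H6xDSPts

namespace Groth.Agent.Lib.R2H3.MultAct

section Univ

variable {W : Scheme.{u}} (M : Type) [AddCommGroup M] {C : Type u} [CommRing C]
  (π : Spec (CommRingCat.of C) ⟶ W)

/-- the base of the universal point. -/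
noncomputable abbrev Yu : Over W :=
  Yof π (algebraMap C (MonoidAlgebra C (Multiplicative M)))

/-- the universal point of `D_W(M)`. -/
noncomputable abbrev gu : Yu M π ⟶ Red.DS W M :=
  gof π (algebraMap C (MonoidAlgebra C (Multiplicative M))) (MonoidAlgebra.of C (Multiplicative M))

/-- the universal point of `Spec C`. -/
noncomputable abbrev xu : Yu M π ⟶ Over.mk π :=
  xof π (algebraMap C (MonoidAlgebra C (Multiplicative M)))

/-- the universal point of `D_W(M) × Spec C`. -/
noncomputable def univPt : Yu M π ⟶ Red.DS W M ⊗ Over.mk π := lift (gu M π) (xu M π)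

lemma fn_comp_xu {Y : Over W} (k : Y ⟶ Yu M π) (c : C) :
    fn (A := C) (k ≫ xu M π).left c = fn k.left (MonoidAlgebra.single 1 c) := by
  rw [Over.comp_left, xof_left, fn_specMap]
  rfl

lemma dsFn_comp_gu {Y : Over W} (k : Y ⟶ Yu M π) (m : M) :
    dsFn (k ≫ gu M π) m = fn k.left (MonoidAlgebra.single (Multiplicative.ofAdd m) (1 : C)) := by
  rw [dsFn_comp, dsFn_gof]
  rfl

/-- uniqueness of the classifying morphism. -/
theorem classify_unique {Y : Over W} (k k' : Y ⟶ Yu M π) (hg : k ≫ gu M π = k' ≫ gu M π)
    (hx : k ≫ xu M π = k' ≫ xu M π) : k = k' := by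
  apply Over.OverMorphism.ext
  have h : fnHom k.left = fnHom k'.left := by
    apply MonoidAlgebra.ringHom_ext
    · intro c
      have := congrArg (fun t : Y ⟶ Over.mk π => fn (A := C) t.left c) hx
      beta_reduce at this
      rw [fn_comp_xu, fn_comp_xu] at this
      exact this
    · intro m
      have := congrArg (fun t : Y ⟶ Red.DS W M => dsFn t (Multiplicative.toAdd m)) hg
      beta_reduce at this
      rw [dsFn_comp_gu, dsFn_comp_gu] at this
      exact this
  apply fn_ext
  intro b
  exact congrArg (fun t : _ →+* _ => t b) h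

/-- existence of the classifying morphism. -/
theorem classify_exists {Y : Over W} (g : Y ⟶ Red.DS W M) (x : Y ⟶ Over.mk π) :
    ∃ k : Y ⟶ Yu M π, k ≫ gu M π = g ∧ k ≫ xu M π = x := by
  obtain ⟨χ, hχ⟩ : ∃ χ : Multiplicative M →* Γ(Y.left, ⊤),
      ∀ m, χ (Multiplicative.ofAdd m) = dsFn g m :=
    ⟨{ toFun := fun m => dsFn g (Multiplicative.toAdd m)
       map_one' := dsFn_zero g
       map_mul' := fun a b => dsFn_add g _ _ }, fun m => rfl⟩
  obtain ⟨t, ht⟩ := fn_surj (Y := Y.left) (liftHom (fnHom (A := C) x.left) χ)
  have htx : t ≫ Spec.map (CommRingCat.ofHom (algebraMap C (MonoidAlgebra C (Multiplicative M))))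
      = x.left := by
    apply fn_ext (A := C)
    intro c
    rw [fn_specMap, ht, algebraMap_eq_single, liftHom_single, map_one, _root_.mul_one]
    rfl
  let k : Y ⟶ Yu M π := Over.homMk t (by
    simp only [Over.mk_left, Over.mk_hom]
    rw [← Category.assoc, htx]
    exact Over.w x)
  refine ⟨k, ?_, ?_⟩
  · apply dsFn_ext
    intro m
    rw [dsFn_comp_gu]
    change fn t _ = _
    rw [ht, liftHom_single, map_one, _root_.one_mul, hχ]
  · apply Over.OverMorphism.ext
    rw [Over.comp_left, xof_left]
    exact htx

/-- the universal point is an isomorphism. -/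
theorem isIso_univPt : IsIso (univPt M π) := by
  obtain ⟨v, hvg, hvx⟩ := classify_exists M π (fst (Red.DS W M) (Over.mk π))
    (snd (Red.DS W M) (Over.mk π))
  refine ⟨v, ?_, ?_⟩
  · apply classify_unique M π
    · rw [Category.assoc, hvg, Category.id_comp]
      exact lift_fst _ _
    · rw [Category.assoc, hvx, Category.id_comp]
      exact lift_snd _ _
  · apply CartesianMonoidalCategory.hom_ext
    · rw [Category.assoc, Category.id_comp]
      unfold univPt
      rw [lift_fst, hvg]
    · rw [Category.assoc, Category.id_comp]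
      unfold univPt
      rw [lift_snd, hvx]

end Univ

section Free

variable {W : Scheme.{u}} {M : Type} [AddCommGroup M] {C : Type u} [CommRing C]
  (π : Spec (CommRingCat.of C) ⟶ W) (P : PtAction (Red.DS W M) (Over.mk π))

/-- freeness of the action gives freeness of the attached functorial action. -/
theorem toFunAct_free
    (hfree : ∀ (Y : Over W) (g : Y ⟶ Red.DS W M) (x : Y ⟶ Over.mk π), P.smul g x = x → g = 1)
    (B : Type u) [CommRing B] (χ : Multiplicative M →* B) (α : C →+* B)
    (h : (toFunAct π P).act B χ α = α) : χ = 1 := by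
  have h1 : P.smul (gof π α χ) (xof π α) = xof π α := by
    apply Over.OverMorphism.ext
    rw [xof_left]
    apply ringOf_injective
    rw [ringOf_specMap]
    exact h
  have h2 := hfree _ _ _ h1
  apply MonoidHom.ext
  intro m
  have h3 := dsFn_gof π α χ (Multiplicative.toAdd m)
  rw [h2, dsFn_one, ofAdd_toAdd] at h3
  have h4 : (Scheme.ΓSpecIso (CommRingCat.of B)).inv (χ m)
      = (Scheme.ΓSpecIso (CommRingCat.of B)).inv 1 := by
    rw [← h3]
    exact (map_one (Scheme.ΓSpecIso (CommRingCat.of B)).inv.hom).symm
  exact ΓSpecIso_inv_injective h4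

/-- **Free actions, affine case**: the graph of a free action of `D_W(M)` on `Spec C` is a closed
immersion. -/
theorem isClosedImmersion_graph_affine
    (hfree : ∀ (Y : Over W) (g : Y ⟶ Red.DS W M) (x : Y ⟶ Over.mk π), P.smul g x = x → g = 1)
    {T : Over W} [IsAffine T.left] (Γ : Red.DS W M ⊗ Over.mk π ⟶ T) (p₁ p₂ : T ⟶ Over.mk π)
    (h₁ : Γ ≫ p₁ = P.smul (fst _ _) (snd _ _)) (h₂ : Γ ≫ p₂ = snd _ _) :
    IsClosedImmersion Γ.left := by
  haveI := isIso_univPt M π
  obtain ⟨f, hf⟩ : ∃ f : Spec (CommRingCat.of (MonoidAlgebra C (Multiplicative M))) ⟶ T.left,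
    f = (univPt M π ≫ Γ).left := ⟨_, rfl⟩
  -- the two composites
  have hf1 : f ≫ p₁.left = actPt π P (MonoidAlgebra.of C (Multiplicative M))
      (algebraMap C (MonoidAlgebra C (Multiplicative M))) := by
    rw [hf, ← Over.comp_left, Category.assoc, h₁, P.comp_smul]
    unfold univPt
    rw [lift_fst, lift_snd]
    rfl
  have hf2 : f ≫ p₂.left
      = Spec.map (CommRingCat.ofHom (algebraMap C (MonoidAlgebra C (Multiplicative M)))) := by
    rw [hf, ← Over.comp_left, Category.assoc, h₂]
    unfold univPt
    rw [lift_snd]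
    rfl
  -- surjectivity on global sections
  have hsurj : Function.Surjective f.appTop := by
    obtain ⟨S, hS⟩ : ∃ S : Subring (MonoidAlgebra C (Multiplicative M)),
      S = (f.appTop.hom.range).comap
        (Scheme.ΓSpecIso (CommRingCat.of (MonoidAlgebra C (Multiplicative M)))).inv.hom := ⟨_, rfl⟩
    have htop : S = ⊤ := by
      apply FunAct.subring_eq_top_of_free (toFunAct π P) (toFunAct_free π P hfree)
      · intro c
        rw [hS, Subring.mem_comap, RingHom.mem_range]
        refine ⟨fn (A := C) p₁.left c, ?_⟩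
        have e1 : f.appTop.hom (fn (A := C) p₁.left c) = fn (A := C) (f ≫ p₁.left) c :=
          (fn_comp f p₁.left c).symm
        rw [e1, hf1, fn_eq_ringOf]
        rfl
      · intro c
        rw [hS, Subring.mem_comap, RingHom.mem_range]
        refine ⟨fn (A := C) p₂.left c, ?_⟩
        have e1 : f.appTop.hom (fn (A := C) p₂.left c) = fn (A := C) (f ≫ p₂.left) c :=
          (fn_comp f p₂.left c).symm
        rw [e1, hf2, fn_eq_ringOf, ringOf_specMap]
        rfl
    intro b'
    have hb : (Scheme.ΓSpecIso (CommRingCat.of (MonoidAlgebra C (Multiplicative M)))).hom b'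
        ∈ S := by rw [htop]; trivial
    rw [hS, Subring.mem_comap, RingHom.mem_range] at hb
    obtain ⟨a, ha⟩ := hb
    refine ⟨a, ha.trans ?_⟩
    exact congrArg (fun k => k.hom b')
      (Scheme.ΓSpecIso (CommRingCat.of (MonoidAlgebra C (Multiplicative M)))).hom_inv_id
  haveI : IsClosedImmersion f := IsClosedImmersion.of_surjective_of_isAffine f hsurj
  have hΓ : Γ.left = (inv (univPt M π)).left ≫ f := by
    rw [hf, ← Over.comp_left, ← Category.assoc, IsIso.inv_hom_id, Category.id_comp]
  rw [hΓ]
  haveI : IsIso (inv (univPt M π)).left :=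
    Functor.map_isIso (Over.forget W) (inv (univPt M π))
  exact IsClosedImmersion.comp _ _

end Free

end Groth.Agent.Lib.R2H3.MultAct
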