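import Groth.Agent.Lib.Helper4Unibranch
import Mathlib

/-!
# Geometric unibranchness along integral birational extensions: local algebra (helper3, run 2)

`BirData R S` : elementary form of "`Spec S → Spec R` is birational" (bijection on minimal primes with
trivial residue extensions).  Main results: `local_forward`, `local_backward`: for `R` local and `S`
integral over `R` with `BirData R S`, `R` is geometrically unibranch iff `S` is local, with purely
inseparable residue extension over `R` (`PowMem`), and geometrically unibranch.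
-/

set_option autoImplicit false
set_option linter.style.haveILetI false
set_option linter.unusedVariables false
set_option linter.unusedSectionVars false
universe u

open Groth.Agent.Lib.Helper4.Unibranch

namespace Groth.Agent.Lib.R2H3.GUBirAlg

section PowMem

variable {R S N : Type*} [CommRing R] [CommRing S] [CommRing N]

theorem ringExpChar_quot_eq (g : S →+* N) (M : Ideal N) [M.IsMaximal]
    (hM' : (M.comap g).IsMaximal) :
    ringExpChar (N ⧸ M) = ringExpChar (S ⧸ M.comap g) := by
  letI : Field (S ⧸ M.comap g) := Ideal.Quotient.field _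
  letI : Field (N ⧸ M) := Ideal.Quotient.field _
  let ι : S ⧸ M.comap g →+* N ⧸ M := Ideal.quotientMap M g le_rfl
  haveI := expChar_of_injective_ringHom (f := ι) ι.injective (ringExpChar (S ⧸ M.comap g))
  exact ringExpChar.eq _ _

theorem powMem_comp (f : R →+* S) (g : S →+* N) (hg : g.IsIntegral)
    (hf : PowMem f) (hgP : PowMem g) : PowMem (g.comp f) := by
  intro M hM x
  haveI hM' : (M.comap g).IsMaximal := Ideal.isMaximal_comap_of_isIntegral_of_isMaximal' g hg M
  obtain ⟨n, s, hs⟩ := hgP M x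
  obtain ⟨k, r, hr⟩ := hf (M.comap g) (Ideal.Quotient.mk _ s)
  rw [← ringExpChar_quot_eq g M hM'] at hr
  refine ⟨n + k, r, ?_⟩
  simp only [RingHom.comp_apply] at hs hr ⊢
  rw [← map_pow, Ideal.Quotient.eq] at hr
  have h2 : g (f r) - g s ^ ringExpChar (N ⧸ M) ^ k ∈ M := by
    have := hr
    rw [Ideal.mem_comap, map_sub, map_pow] at this
    exact this
  rw [pow_add, pow_mul, ← hs, ← map_pow]
  exact Ideal.Quotient.eq.mpr h2

theorem powMem_of_comp (f : R →+* S) (g : S →+* N) (h : PowMem (g.comp f)) : PowMem g := by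
  intro M hM x
  obtain ⟨n, r, hr⟩ := h M x
  exact ⟨n, f r, hr⟩

theorem powMem_of_comp_of_surj (f : R →+* S) (g : S →+* N) (h : PowMem (g.comp f))
    (hsurj : ∀ (M : Ideal S) [M.IsMaximal], ∃ M' : Ideal N, M'.IsMaximal ∧ M'.comap g = M) :
    PowMem f := by
  intro M hM x
  obtain ⟨s, rfl⟩ := Ideal.Quotient.mk_surjective x
  obtain ⟨M', hM', rfl⟩ := hsurj M
  obtain ⟨n, r, hr⟩ := h M' (Ideal.Quotient.mk _ (g s))
  rw [ringExpChar_quot_eq g M' hM] at hr
  refine ⟨n, r, ?_⟩
  simp only [RingHom.comp_apply] at hr ⊢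
  rw [← map_pow, ← map_pow, Ideal.Quotient.eq, ← map_sub] at hr
  rw [← map_pow]
  exact Ideal.Quotient.eq.mpr hr

end PowMem

section Local

variable {S N : Type*} [CommRing S] [CommRing N]

theorem exists_maximal_over (g : S →+* N) (hg : g.IsIntegral)
    (hker : RingHom.ker g ≤ nilradical S) (M : Ideal S) [M.IsMaximal] :
    ∃ M' : Ideal N, M'.IsMaximal ∧ M'.comap g = M := by
  algebraize [g]
  haveI : Algebra.IsIntegral S N := ⟨hg⟩
  exact Ideal.exists_ideal_over_maximal_of_isIntegral M
    (hker.trans (nilradical_le_prime M))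

theorem isLocalRing_of_integral_of_local [Nontrivial S] (g : S →+* N) (hg : g.IsIntegral)
    [IsLocalRing N] (hker : RingHom.ker g ≤ nilradical S) : IsLocalRing S := by
  apply IsLocalRing.of_unique_max_ideal
  obtain ⟨M, hM⟩ := Ideal.exists_maximal S
  have key : ∀ (M : Ideal S) [M.IsMaximal], M = (IsLocalRing.maximalIdeal N).comap g := by
    intro M hM
    obtain ⟨M', hM', rfl⟩ := exists_maximal_over g hg hker M
    rw [IsLocalRing.eq_maximalIdeal hM']
  refine ⟨M, hM, fun M' hM' => ?_⟩
  rw [key M, key M']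

end Local

section Nil

variable (A : Type*) [CommRing A]

theorem minimalPrimes_eq_of_nilradical_isPrime (h : (nilradical A).IsPrime) :
    minimalPrimes A = {nilradical A} := by
  have h1 : (⊥ : Ideal A).radical.minimalPrimes = {(⊥ : Ideal A).radical} :=
    @Ideal.minimalPrimes_eq_subsingleton_self _ _ _ h
  rw [Ideal.radical_minimalPrimes] at h1
  exact h1

theorem nilradical_eq_of_minimalPrimes_eq {P : Ideal A} (h : minimalPrimes A = {P}) :
    nilradical A = P := by
  have h1 : sInf (⊥ : Ideal A).minimalPrimes = (⊥ : Ideal A).radical := Ideal.sInf_minimalPrimes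
  have h2 : (⊥ : Ideal A).minimalPrimes = {P} := h
  rw [h2, sInf_singleton] at h1
  exact h1.symm

end Nil

/-- Elementary form of "`Spec S → Spec R` is birational": bijection on minimal primes, with trivial
extension of the residue fields at minimal primes. -/
structure BirData (R S : Type*) [CommRing R] [CommRing S] [Algebra R S] : Prop where
  hmin : ∀ Q ∈ minimalPrimes S, Q.comap (algebraMap R S) ∈ minimalPrimes R
  hinj : ∀ Q ∈ minimalPrimes S, ∀ Q' ∈ minimalPrimes S,
    Q.comap (algebraMap R S) = Q'.comap (algebraMap R S) → Q = Q'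
  hsurj : ∀ P ∈ minimalPrimes R, ∃ Q ∈ minimalPrimes S, Q.comap (algebraMap R S) = P
  hfrac : ∀ Q ∈ minimalPrimes S, ∀ c : S, ∃ a s : R,
    algebraMap R S s ∉ Q ∧ algebraMap R S s * c - algebraMap R S a ∈ Q

namespace BirData

variable {R S : Type*} [CommRing R] [CommRing S] [Algebra R S] (H : BirData R S)
include H

theorem nilradical_of_left (hR : (nilradical R).IsPrime) :
    (nilradical S).IsPrime ∧ (nilradical S).comap (algebraMap R S) = nilradical R := by
  have hmR := minimalPrimes_eq_of_nilradical_isPrime R hR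
  obtain ⟨Q₀, hQ₀, hQ₀c⟩ := H.hsurj (nilradical R) (by rw [hmR]; rfl)
  have hmS : minimalPrimes S = {Q₀} := by
    ext Q
    constructor
    · intro hQ
      have h1 := H.hmin Q hQ
      rw [hmR] at h1
      exact H.hinj Q hQ Q₀ hQ₀ ((h1 : _ = _).trans hQ₀c.symm)
    · rintro rfl
      exact hQ₀
  have hn := nilradical_eq_of_minimalPrimes_eq S hmS
  rw [hn]
  exact ⟨hQ₀.1.1, hQ₀c⟩

theorem nilradical_of_right (hS : (nilradical S).IsPrime) :
    (nilradical R).IsPrime ∧ (nilradical S).comap (algebraMap R S) = nilradical R := by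
  have hmS := minimalPrimes_eq_of_nilradical_isPrime S hS
  have hQ₀ : nilradical S ∈ minimalPrimes S := by rw [hmS]; rfl
  have hP₀ := H.hmin _ hQ₀
  have hmR : minimalPrimes R = {(nilradical S).comap (algebraMap R S)} := by
    ext P
    constructor
    · intro hP
      obtain ⟨Q, hQ, rfl⟩ := H.hsurj P hP
      rw [hmS] at hQ
      rw [(hQ : Q = _)]
      rfl
    · rintro rfl
      exact hP₀
  have hn := nilradical_eq_of_minimalPrimes_eq R hmR
  rw [hn]
  exact ⟨hP₀.1.1, rfl⟩

theorem exists_prime_over [Algebra.IsIntegral R S] (p : Ideal R) [p.IsPrime] :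
    ∃ q : Ideal S, q.IsPrime ∧ q.comap (algebraMap R S) = p := by
  obtain ⟨P, hP, hPp⟩ := Ideal.exists_minimalPrimes_le (bot_le : (⊥ : Ideal R) ≤ p)
  obtain ⟨Q, hQ, rfl⟩ := H.hsurj P hP
  haveI := hQ.1.1
  obtain ⟨q, -, hq, hqc⟩ := Ideal.exists_ideal_over_prime_of_isIntegral_of_isPrime p Q hPp
  exact ⟨q, hq, hqc⟩

end BirData

section Kappa

variable {R S : Type u} [CommRing R] [CommRing S] [Algebra R S] [Algebra.IsIntegral R S]

/-- The normalisations of the reductions of `R` and `S` agree when `R_red ⊆ S_red` is an integral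
extension of domains with the same fraction field. -/
theorem exists_normRed_equiv (hR : (nilradical R).IsPrime) (hS : (nilradical S).IsPrime)
    (hcomap : (nilradical S).comap (algebraMap R S) = nilradical R)
    (hfrac : ∀ c : S, ∃ a s : R, algebraMap R S s ∉ nilradical S ∧
      algebraMap R S s * c - algebraMap R S a ∈ nilradical S) :
    ∃ κ : CAlg2.normRed R ≃+* CAlg2.normRed S, ∀ r : R,
      κ (algebraMap (CAlg2.red R) (CAlg2.normRed R) (Ideal.Quotient.mk _ r)) =
        algebraMap (CAlg2.red S) (CAlg2.normRed S) (Ideal.Quotient.mk _ (algebraMap R S r)) := by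
  haveI := hR
  haveI := hS
  haveI : IsDomain (CAlg2.red R) := Ideal.Quotient.isDomain _
  haveI : IsDomain (CAlg2.red S) := Ideal.Quotient.isDomain _
  let φ : CAlg2.red R →+* CAlg2.red S :=
    Ideal.quotientMap (nilradical S) (algebraMap R S) (le_of_eq hcomap.symm)
  have hφinj : Function.Injective φ := Ideal.quotientMap_injective' (le_of_eq hcomap)
  have hφmk : ∀ r : R, φ (Ideal.Quotient.mk _ r) = Ideal.Quotient.mk _ (algebraMap R S r) :=
    fun r => rfl
  letI algDE : Algebra (CAlg2.red R) (CAlg2.red S) := φ.toAlgebra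
  haveI : IsScalarTower (CAlg2.red R) (CAlg2.red S) (FractionRing (CAlg2.red S)) :=
    inferInstance
  have halg : ∀ d : CAlg2.red R, algebraMap (CAlg2.red R) (FractionRing (CAlg2.red S)) d =
      algebraMap (CAlg2.red S) (FractionRing (CAlg2.red S)) (φ d) := fun d =>
    IsScalarTower.algebraMap_apply (CAlg2.red R) (CAlg2.red S) (FractionRing (CAlg2.red S)) d
  haveI : Algebra.IsIntegral (CAlg2.red R) (CAlg2.red S) := by
    refine ⟨fun e => ?_⟩
    obtain ⟨s, rfl⟩ := Ideal.Quotient.mk_surjective e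
    obtain ⟨p, hp, hps⟩ := Algebra.IsIntegral.isIntegral (R := R) s
    refine ⟨p.map (Ideal.Quotient.mk (nilradical R)), hp.map _, ?_⟩
    rw [Polynomial.eval₂_map]
    have h1 : (algebraMap (CAlg2.red R) (CAlg2.red S)).comp (Ideal.Quotient.mk (nilradical R)) =
        (Ideal.Quotient.mk (nilradical S)).comp (algebraMap R S) := by
      ext r; rfl
    rw [h1, ← Polynomial.hom_eval₂, hps, map_zero]
  have hinjL : Function.Injective (algebraMap (CAlg2.red R) (FractionRing (CAlg2.red S))) := by
    intro a b hab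
    rw [halg, halg] at hab
    exact hφinj (IsFractionRing.injective (CAlg2.red S) (FractionRing (CAlg2.red S)) hab)
  haveI : FaithfulSMul (CAlg2.red R) (FractionRing (CAlg2.red S)) :=
    (faithfulSMul_iff_algebraMap_injective _ _).mpr hinjL
  haveI : IsFractionRing (CAlg2.red R) (FractionRing (CAlg2.red S)) := by
    apply IsFractionRing.of_field
    intro z
    obtain ⟨e₁, e₂, he₂, rfl⟩ := IsFractionRing.div_surjective (A := CAlg2.red S) z
    obtain ⟨c₁, rfl⟩ := Ideal.Quotient.mk_surjective e₁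
    obtain ⟨c₂, rfl⟩ := Ideal.Quotient.mk_surjective e₂
    obtain ⟨a₁, s₁, hs₁, h₁⟩ := hfrac c₁
    obtain ⟨a₂, s₂, hs₂, h₂⟩ := hfrac c₂
    refine ⟨Ideal.Quotient.mk _ (a₁ * s₂), Ideal.Quotient.mk _ (a₂ * s₁), ?_⟩
    have k₁ : φ (Ideal.Quotient.mk _ s₁) * Ideal.Quotient.mk _ c₁ = φ (Ideal.Quotient.mk _ a₁) := by
      rw [hφmk, hφmk, ← map_mul, Ideal.Quotient.eq]; exact h₁
    have k₂ : φ (Ideal.Quotient.mk _ s₂) * Ideal.Quotient.mk _ c₂ = φ (Ideal.Quotient.mk _ a₂) := by
      rw [hφmk, hφmk, ← map_mul, Ideal.Quotient.eq]; exact h₂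
    have n₁ : φ (Ideal.Quotient.mk _ s₁) ≠ 0 := by
      rw [hφmk, Ne, Ideal.Quotient.eq_zero_iff_mem]; exact hs₁
    have n₂ : φ (Ideal.Quotient.mk _ s₂) ≠ 0 := by
      rw [hφmk, Ne, Ideal.Quotient.eq_zero_iff_mem]; exact hs₂
    have n₃ : (Ideal.Quotient.mk (nilradical S) c₂) ≠ 0 := nonZeroDivisors.ne_zero he₂
    have hι := IsFractionRing.injective (CAlg2.red S) (FractionRing (CAlg2.red S))
    have m₁ := (map_ne_zero_iff _ hι).mpr n₁
    have m₂ := (map_ne_zero_iff _ hι).mpr n₂
    have m₃ := (map_ne_zero_iff _ hι).mpr n₃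
    have t₁ : algebraMap (CAlg2.red S) (FractionRing (CAlg2.red S))
        (φ (Ideal.Quotient.mk _ (a₁ * s₂))) =
        algebraMap (CAlg2.red S) (FractionRing (CAlg2.red S)) (φ (Ideal.Quotient.mk _ s₁)) *
          algebraMap (CAlg2.red S) (FractionRing (CAlg2.red S)) (Ideal.Quotient.mk _ c₁) *
          algebraMap (CAlg2.red S) (FractionRing (CAlg2.red S)) (φ (Ideal.Quotient.mk _ s₂)) := by
      rw [map_mul (Ideal.Quotient.mk _), map_mul φ, ← k₁, map_mul, map_mul]
    have t₂ : algebraMap (CAlg2.red S) (FractionRing (CAlg2.red S))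
        (φ (Ideal.Quotient.mk _ (a₂ * s₁))) =
        algebraMap (CAlg2.red S) (FractionRing (CAlg2.red S)) (φ (Ideal.Quotient.mk _ s₂)) *
          algebraMap (CAlg2.red S) (FractionRing (CAlg2.red S)) (Ideal.Quotient.mk _ c₂) *
          algebraMap (CAlg2.red S) (FractionRing (CAlg2.red S)) (φ (Ideal.Quotient.mk _ s₁)) := by
      rw [map_mul (Ideal.Quotient.mk _), map_mul φ, ← k₂, map_mul, map_mul]
    rw [halg, halg, t₁, t₂]
    field_simp
  let e₁ : CAlg2.normRed R ≃ₐ[CAlg2.red R] integralClosure (CAlg2.red R) (FractionRing (CAlg2.red S)) :=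
    (FractionRing.algEquiv (CAlg2.red R) (FractionRing (CAlg2.red S))).mapIntegralClosure
  let e₂ : integralClosure (CAlg2.red R) (FractionRing (CAlg2.red S)) ≃+* CAlg2.normRed S :=
    { toFun := fun x => ⟨x.1, IsIntegral.tower_top x.2⟩
      invFun := fun x => ⟨x.1, isIntegral_trans _ x.2⟩
      left_inv := fun x => rfl
      right_inv := fun x => rfl
      map_mul' := fun x y => rfl
      map_add' := fun x y => rfl }
  refine ⟨e₁.toRingEquiv.trans e₂, fun r => ?_⟩
  apply Subtype.ext
  show ((e₁ (algebraMap (CAlg2.red R) (CAlg2.normRed R) (Ideal.Quotient.mk _ r)) : _) :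
    FractionRing (CAlg2.red S)) = _
  rw [e₁.commutes]
  exact halg _

end Kappa

section Main

/-- The canonical map from a ring to the normalisation of its reduction. -/
noncomputable abbrev can (A : Type u) [CommRing A] : A →+* CAlg2.normRed A :=
  (algebraMap (CAlg2.red A) (CAlg2.normRed A)).comp (Ideal.Quotient.mk (nilradical A))

theorem gu_iff (A : Type u) [CommRing A] [IsLocalRing A] :
    CAlg2.IsGeomUnibranch A ↔
      (nilradical A).IsPrime ∧ IsLocalRing (CAlg2.normRed A) ∧ PowMem (can A) := by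
  rw [isGeomUnibranch_iff_of_ringEquiv A (RingEquiv.refl _) (can A) (fun _ => rfl),
    Ideal.Quotient.isDomain_iff_prime]

theorem can_isIntegral (A : Type u) [CommRing A] : (can A).IsIntegral := by
  refine RingHom.IsIntegral.trans _ _
    (RingHom.isIntegral_of_surjective _ Ideal.Quotient.mk_surjective) ?_
  exact algebraMap_isIntegral_iff.mpr inferInstance

theorem ker_can_le (A : Type u) [CommRing A] : RingHom.ker (can A) ≤ nilradical A := by
  intro x hx
  rw [RingHom.mem_ker, RingHom.comp_apply] at hx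
  have h1 : algebraMap (CAlg2.red A) (FractionRing (CAlg2.red A)) (Ideal.Quotient.mk _ x) = 0 := by
    have := congrArg (fun y : CAlg2.normRed A => (y : FractionRing (CAlg2.red A))) hx
    exact this
  have h2 := (IsLocalization.injective (FractionRing (CAlg2.red A))
    (le_refl (nonZeroDivisors (CAlg2.red A)))) (h1.trans (map_zero _).symm)
  exact Ideal.Quotient.eq_zero_iff_mem.mp h2

variable {R S : Type u} [CommRing R] [CommRing S] [Algebra R S] [Algebra.IsIntegral R S]

theorem local_forward [IsLocalRing R] (H : BirData R S) (hR : CAlg2.IsGeomUnibranch R) :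
    ∃ (_ : IsLocalRing S), PowMem (algebraMap R S) ∧ CAlg2.IsGeomUnibranch S := by
  obtain ⟨hRn, hRl, hRp⟩ := (gu_iff R).mp hR
  obtain ⟨hSn, hcomap⟩ := H.nilradical_of_left hRn
  have hQ₀ : nilradical S ∈ minimalPrimes S := by
    rw [minimalPrimes_eq_of_nilradical_isPrime S hSn]; rfl
  obtain ⟨κ, hκ⟩ := exists_normRed_equiv hRn hSn hcomap (H.hfrac _ hQ₀)
  haveI := hRl
  haveI : IsLocalRing (CAlg2.normRed S) := κ.isLocalRing
  have hp1 : PowMem ((can S).comp (algebraMap R S)) :=
    powMem_of_ringEquiv (can R) _ κ (fun r => hκ r) hRp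
  have hp2 : PowMem (can S) := powMem_of_comp _ _ hp1
  haveI : Nontrivial S := by
    refine nontrivial_of_ne (0 : S) 1 (fun h => hSn.ne_top ?_)
    exact (Ideal.eq_top_iff_one _).mpr (h ▸ zero_mem _)
  have hSl : IsLocalRing S :=
    isLocalRing_of_integral_of_local (can S) (can_isIntegral S) (ker_can_le S)
  have hp3 : PowMem (algebraMap R S) :=
    powMem_of_comp_of_surj _ (can S) hp1
      (fun M _ => exists_maximal_over (can S) (can_isIntegral S) (ker_can_le S) M)
  exact ⟨hSl, hp3, (@gu_iff S _ hSl).mpr ⟨hSn, inferInstance, hp2⟩⟩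

theorem local_backward [IsLocalRing R] [IsLocalRing S] (H : BirData R S)
    (hp : PowMem (algebraMap R S)) (hS : CAlg2.IsGeomUnibranch S) : CAlg2.IsGeomUnibranch R := by
  obtain ⟨hSn, hSl, hSp⟩ := (gu_iff S).mp hS
  obtain ⟨hRn, hcomap⟩ := H.nilradical_of_right hSn
  have hQ₀ : nilradical S ∈ minimalPrimes S := by
    rw [minimalPrimes_eq_of_nilradical_isPrime S hSn]; rfl
  obtain ⟨κ, hκ⟩ := exists_normRed_equiv hRn hSn hcomap (H.hfrac _ hQ₀)
  haveI := hSl
  haveI : IsLocalRing (CAlg2.normRed R) := κ.symm.isLocalRing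
  have hp1 : PowMem ((can S).comp (algebraMap R S)) :=
    powMem_comp _ _ (can_isIntegral S) hp hSp
  have hp2 : PowMem (can R) :=
    powMem_of_ringEquiv ((can S).comp (algebraMap R S)) (can R) κ.symm
      (fun r => by rw [RingEquiv.symm_apply_eq]; exact (hκ r).symm) hp1
  exact (gu_iff R).mpr ⟨hRn, inferInstance, hp2⟩

end Main

end Groth.Agent.Lib.R2H3.GUBirAlg
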