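import Groth.Agent.Lib.R2H3GUBirAlg
import Groth.Agent.Lib.R2H3BirBC
import Groth.Agent.Lib.Helper3EtGUSch
import Groth.Agent.Lib.Helper4VarDim2
import Groth.Agent.Lib.Helper4GenFinite2
import Groth.Agent.Lib.Helper6StalkIso
import Mathlib

/-!
# Geometric unibranchness along integral birational morphisms: scheme plumbing (helper3, run 2)
-/

set_option autoImplicit false
set_option linter.style.haveILetI false
set_option linter.unusedVariables false
set_option linter.unusedSectionVars false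
universe u

open CategoryTheory CategoryTheory.Limits AlgebraicGeometry Topology
open Groth.Agent.Lib.Helper4.Unibranch Groth.Agent.Lib.Helper4.VarDim

namespace Groth.Agent.Lib.R2H3.GUBirSch

open Groth.Agent.Lib.R2H3.GUBirAlg Groth.Agent.Lib.R2H3.BirBC

section Eval

variable {X : Scheme.{u}} {U : X.Opens} (hU : IsAffineOpen U) (x : X) (hx : x ∈ U)

theorem eval_eq_zero_iff (c : Γ(X, U)) :
    (X.evaluation U x hx).hom c = 0 ↔ c ∈ (hU.primeIdealOf ⟨x, hx⟩).asIdeal :=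
  (mem_primeIdealOf_iff hU x hx c).symm

theorem exists_eval_frac (z : X.residueField x) :
    ∃ c s : Γ(X, U), s ∉ (hU.primeIdealOf ⟨x, hx⟩).asIdeal ∧
      z * (X.evaluation U x hx).hom s = (X.evaluation U x hx).hom c := by
  obtain ⟨t, rfl⟩ := X.residue_surjective x z
  letI := TopCat.Presheaf.algebra_section_stalk X.presheaf ⟨x, hx⟩
  haveI := hU.isLocalization_stalk ⟨x, hx⟩
  obtain ⟨⟨c, s⟩, h⟩ := IsLocalization.surj (hU.primeIdealOf ⟨x, hx⟩).asIdeal.primeCompl t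
  refine ⟨c, s.1, s.2, ?_⟩
  have := congrArg (X.residue x).hom h
  rw [map_mul] at this
  exact this

theorem eval_surjective_of_isMaximal (hmax : (hU.primeIdealOf ⟨x, hx⟩).asIdeal.IsMaximal) :
    Function.Surjective (X.evaluation U x hx).hom := by
  intro z
  obtain ⟨c, s, hs, h⟩ := exists_eval_frac hU x hx z
  obtain ⟨y, i, hi, hyi⟩ := hmax.exists_inv hs
  refine ⟨c * y, ?_⟩
  have h1 : (X.evaluation U x hx).hom (y * s) = 1 := by
    have := congrArg (X.evaluation U x hx).hom hyi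
    rw [map_add, (eval_eq_zero_iff hU x hx i).mpr hi, add_zero, map_one] at this
    exact this
  rw [map_mul, ← h, mul_assoc, ← map_mul, mul_comm s y, h1, mul_one]

/-- exponential characteristic of the residue field from that of the residue domain -/
theorem expChar_residueField (e : ℕ) [ExpChar (Γ(X, U) ⧸ (hU.primeIdealOf ⟨x, hx⟩).asIdeal) e] :
    ExpChar (X.residueField x) e := by
  let ι : Γ(X, U) ⧸ (hU.primeIdealOf ⟨x, hx⟩).asIdeal →+* X.residueField x :=
    Ideal.Quotient.lift _ (X.evaluation U x hx).hom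
      (fun c hc => (eval_eq_zero_iff hU x hx c).mpr hc)
  have hι : Function.Injective ι := by
    rw [injective_iff_map_eq_zero]
    intro a ha
    obtain ⟨c, rfl⟩ := Ideal.Quotient.mk_surjective a
    rw [Ideal.Quotient.eq_zero_iff_mem]
    exact (eval_eq_zero_iff hU x hx c).mp ha
  exact expChar_of_injective_ringHom hι e

end Eval

section Generic

variable {X : Scheme.{u}} {U : X.Opens} (hU : IsAffineOpen U)

theorem mem_genericPoints_of_minimal (x : X) (hx : x ∈ U)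
    (h : (hU.primeIdealOf ⟨x, hx⟩).asIdeal ∈ minimalPrimes Γ(X, U)) : x ∈ genericPoints X := by
  rw [mem_genericPoints_iff]
  intro x' hx'
  have hx'U : x' ∈ U := hx'.mem_open U.isOpen hx
  have hle := (primeIdealOf_le_iff hU x' x hx'U hx).mpr hx'
  have hge := h.2 ⟨(hU.primeIdealOf ⟨x', hx'U⟩).isPrime, bot_le⟩ hle
  exact primeIdealOf_injective hU x' x hx'U hx (PrimeSpectrum.ext (le_antisymm hle hge))

theorem minimal_of_mem_genericPoints (x : X) (hx : x ∈ U) (h : x ∈ genericPoints X) :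
    (hU.primeIdealOf ⟨x, hx⟩).asIdeal ∈ minimalPrimes Γ(X, U) :=
  Groth.Agent.Lib.Helper4.GenFinite.primeIdealOf_mem_minimalPrimes hU x hx h

end Generic

section Chart

variable {X Y : Scheme.{u}} (f : X ⟶ Y) (V : Y.Opens)

/-- The algebra structure on sections over the preimage. -/
@[reducible] noncomputable def appAlg : Algebra Γ(Y, V) Γ(X, f ⁻¹ᵁ V) := (f.app V).hom.toAlgebra

variable {f V} (hV : IsAffineOpen V) (hU : IsAffineOpen (f ⁻¹ᵁ V))

theorem comap_app (x : X) (hx : x ∈ f ⁻¹ᵁ V) :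
    (hU.primeIdealOf ⟨x, hx⟩).asIdeal.comap (f.app V).hom =
      (hV.primeIdealOf ⟨f x, hx⟩).asIdeal := by
  have := Groth.Agent.Lib.Helper3.EtGUSch.comap_primeIdealOf f hV hU le_rfl hx
  rwa [Scheme.Hom.appLE_eq_app] at this

include hV in
theorem exists_frac_of_surjective (x : X) (hx : x ∈ f ⁻¹ᵁ V)
    (hs : Function.Surjective (f.residueFieldMap x).hom) (c : Γ(X, f ⁻¹ᵁ V)) :
    ∃ a s : Γ(Y, V), (f.app V).hom s ∉ (hU.primeIdealOf ⟨x, hx⟩).asIdeal ∧
      (f.app V).hom s * c - (f.app V).hom a ∈ (hU.primeIdealOf ⟨x, hx⟩).asIdeal := by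
  obtain ⟨w, hw⟩ := hs ((X.evaluation (f ⁻¹ᵁ V) x hx).hom c)
  obtain ⟨a, s, hs', h⟩ := exists_eval_frac hV (f x) hx w
  refine ⟨a, s, ?_, ?_⟩
  · intro hmem
    apply hs'
    rw [← comap_app hV hU x hx]
    exact hmem
  · rw [← eval_eq_zero_iff hU x hx, map_sub, map_mul, sub_eq_zero]
    have h1 := congrArg (f.residueFieldMap x).hom h
    rw [map_mul, hw] at h1
    have n1 := Scheme.evaluation_naturality_apply f x hx s
    have n2 := Scheme.evaluation_naturality_apply f x hx a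
    rw [mul_comm]
    exact (n1 ▸ n2 ▸ h1 : _)

include hV hU in
theorem birData_of_isBirational (hf : RadPt.IsBirational f) :
    @BirData Γ(Y, V) Γ(X, f ⁻¹ᵁ V) _ _ (appAlg f V) := by
  letI := appAlg f V
  obtain ⟨hbij, hfib⟩ := hf
  -- dictionary for minimal primes of `Γ(X, f ⁻¹ᵁ V)`
  have key : ∀ Q ∈ minimalPrimes Γ(X, f ⁻¹ᵁ V), ∃ (x : X) (hx : x ∈ f ⁻¹ᵁ V),
      x ∈ genericPoints X ∧ (hU.primeIdealOf ⟨x, hx⟩).asIdeal = Q := by
    intro Q hQ
    haveI := hQ.1.1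
    let q : PrimeSpectrum Γ(X, f ⁻¹ᵁ V) := ⟨Q, hQ.1.1⟩
    have hq := primeIdealOf_fromSpec hU q (fromSpec_mem hU q)
    refine ⟨hU.fromSpec q, fromSpec_mem hU q, ?_, ?_⟩
    · apply mem_genericPoints_of_minimal hU _ (fromSpec_mem hU q)
      rw [hq]; exact hQ
    · rw [hq]
  have hcomapalg : ∀ I : Ideal Γ(X, f ⁻¹ᵁ V), I.comap (algebraMap Γ(Y, V) Γ(X, f ⁻¹ᵁ V)) =
      I.comap (f.app V).hom := fun I => rfl
  refine ⟨?_, ?_, ?_, ?_⟩
  · intro Q hQ
    obtain ⟨x, hx, hxg, rfl⟩ := key Q hQ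
    rw [hcomapalg, comap_app hV hU x hx]
    exact minimal_of_mem_genericPoints hV (f x) hx (hbij.mapsTo hxg)
  · intro Q hQ Q' hQ' hc
    obtain ⟨x, hx, hxg, rfl⟩ := key Q hQ
    obtain ⟨x', hx', hxg', rfl⟩ := key Q' hQ'
    rw [hcomapalg, hcomapalg, comap_app hV hU x hx, comap_app hV hU x' hx'] at hc
    have h1 : f x = f x' := primeIdealOf_injective hV (f x) (f x') hx hx' (PrimeSpectrum.ext hc)
    have h2 : x = x' := hbij.injOn hxg hxg' h1
    subst h2
    rfl
  · intro P hP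
    haveI := hP.1.1
    let p : PrimeSpectrum Γ(Y, V) := ⟨P, hP.1.1⟩
    have hp := primeIdealOf_fromSpec hV p (fromSpec_mem hV p)
    have hη : hV.fromSpec p ∈ genericPoints Y := by
      apply mem_genericPoints_of_minimal hV _ (fromSpec_mem hV p)
      rw [hp]; exact hP
    obtain ⟨x, hxg, hx⟩ := hbij.surjOn hη
    have hxU : x ∈ f ⁻¹ᵁ V := by
      show f x ∈ V
      rw [hx]; exact fromSpec_mem hV p
    refine ⟨_, minimal_of_mem_genericPoints hU x hxU hxg, ?_⟩
    rw [hcomapalg, comap_app hV hU x hxU]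
    have : hV.primeIdealOf ⟨f x, hxU⟩ = p := by
      rw [← hp]
      congr 1
      exact Subtype.ext hx
    rw [this]
  · intro Q hQ c
    obtain ⟨x, hx, hxg, rfl⟩ := key Q hQ
    have hy := hbij.mapsTo hxg
    exact exists_frac_of_surjective hV hU x hx ((hfib _ hy).2 x rfl).2 c

include hU in
theorem expChar_source (x : X) (hx : x ∈ f ⁻¹ᵁ V) (e : ℕ)
    [ExpChar (Γ(X, f ⁻¹ᵁ V) ⧸ (hU.primeIdealOf ⟨x, hx⟩).asIdeal) e] :
    ExpChar (Y.residueField (f x)) e := by
  have h1 : ExpChar (X.residueField x) e := expChar_residueField hU x hx e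
  have h2 : ExpChar (X.residueField x) (ringExpChar (Y.residueField (f x))) :=
    expChar_of_injective_ringHom (f.residueFieldMap x).hom.injective _
  have h3 : ringExpChar (Y.residueField (f x)) = e := ExpChar.eq h2 h1
  rw [← h3]
  exact ringExpChar.expChar _

include hV in
theorem pi_iff (x : X) (hx : x ∈ f ⁻¹ᵁ V)
    (hmax : (hU.primeIdealOf ⟨x, hx⟩).asIdeal.IsMaximal)
    (hmaxy : (hV.primeIdealOf ⟨f x, hx⟩).asIdeal.IsMaximal) :
    (f.residueFieldMap x).hom.IsPurelyInseparable ↔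
      ∀ c : Γ(X, f ⁻¹ᵁ V), ∃ (n : ℕ) (a : Γ(Y, V)),
        (f.app V).hom a - c ^ (ringExpChar (Γ(X, f ⁻¹ᵁ V) ⧸ (hU.primeIdealOf ⟨x, hx⟩).asIdeal)) ^ n ∈
          (hU.primeIdealOf ⟨x, hx⟩).asIdeal := by
  haveI : ExpChar (Γ(X, f ⁻¹ᵁ V) ⧸ (hU.primeIdealOf ⟨x, hx⟩).asIdeal)
      (ringExpChar (Γ(X, f ⁻¹ᵁ V) ⧸ (hU.primeIdealOf ⟨x, hx⟩).asIdeal)) := ringExpChar.expChar _
  haveI := expChar_source hU x hx
    (ringExpChar (Γ(X, f ⁻¹ᵁ V) ⧸ (hU.primeIdealOf ⟨x, hx⟩).asIdeal))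
  have nat : ∀ a : Γ(Y, V), (f.residueFieldMap x).hom ((Y.evaluation V (f x) hx).hom a) =
      (X.evaluation (f ⁻¹ᵁ V) x hx).hom ((f.app V).hom a) :=
    fun a => Scheme.evaluation_naturality_apply f x hx a
  constructor
  · intro hpi c
    algebraize [(f.residueFieldMap x).hom]
    rw [RingHom.IsPurelyInseparable] at hpi
    obtain ⟨n, w, hw⟩ := IsPurelyInseparable.pow_mem (Y.residueField (f x))
      (ringExpChar (Γ(X, f ⁻¹ᵁ V) ⧸ (hU.primeIdealOf ⟨x, hx⟩).asIdeal))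
      ((X.evaluation (f ⁻¹ᵁ V) x hx).hom c)
    obtain ⟨a, rfl⟩ := eval_surjective_of_isMaximal hV (f x) hx hmaxy w
    refine ⟨n, a, ?_⟩
    rw [← eval_eq_zero_iff hU x hx, map_sub, map_pow, sub_eq_zero, ← hw]
    exact (nat a).symm
  · intro h
    algebraize [(f.residueFieldMap x).hom]
    rw [RingHom.IsPurelyInseparable, isPurelyInseparable_iff_pow_mem (Y.residueField (f x))
      (ringExpChar (Γ(X, f ⁻¹ᵁ V) ⧸ (hU.primeIdealOf ⟨x, hx⟩).asIdeal))]
    intro z
    obtain ⟨c, rfl⟩ := eval_surjective_of_isMaximal hU x hx hmax z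
    obtain ⟨n, a, ha⟩ := h c
    refine ⟨n, (Y.evaluation V (f x) hx).hom a, ?_⟩
    rw [← eval_eq_zero_iff hU x hx, map_sub, map_pow, sub_eq_zero] at ha
    rw [← ha]
    exact nat a

end Chart

section LocalMain

theorem gu_localization_iff_of_isLocalRing (C : Type u) [CommRing C] [IsLocalRing C] (q : Ideal C)
    [q.IsPrime] (hq : q = IsLocalRing.maximalIdeal C) :
    CAlg2.IsGeomUnibranch (Localization.AtPrime q) ↔ CAlg2.IsGeomUnibranch C := by
  have hu : q.primeCompl ≤ IsUnit.submonoid C := by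
    intro c hc
    have : c ∉ IsLocalRing.maximalIdeal C := hq ▸ hc
    exact (IsLocalRing.notMem_maximalIdeal).mp this
  let e : C ≃ₐ[C] Localization.AtPrime q := IsLocalization.atUnits C q.primeCompl hu
  exact ⟨fun h => isGeomUnibranch_of_ringEquiv e.symm.toRingEquiv h,
    fun h => isGeomUnibranch_of_ringEquiv e.toRingEquiv h⟩

variable {X Y : Scheme.{u}} (f : X ⟶ Y) [IsIntegralHom f] {V : Y.Opens} (hV : IsAffineOpen V)
  [IsLocalRing Γ(Y, V)]

/-- The local case: `Γ(Y, V)` is a local ring and `y` is its closed point. -/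
theorem local_main (hf : RadPt.IsBirational f) (y : Y) (hyV : y ∈ V)
    (hy : (hV.primeIdealOf ⟨y, hyV⟩).asIdeal = IsLocalRing.maximalIdeal Γ(Y, V)) :
    CAlg2.IsGeomUnibranch Γ(Y, V) ↔
      (RadPt.IsRadicialAt f y ∧
        ∀ x : X, f x = y → CAlg2.IsGeomUnibranch (X.presheaf.stalk x)) := by
  have hU : IsAffineOpen (f ⁻¹ᵁ V) := hV.preimage f
  letI := appAlg f V
  haveI : Algebra.IsIntegral Γ(Y, V) Γ(X, f ⁻¹ᵁ V) := ⟨IsIntegralHom.isIntegral_app f V hV⟩
  have H := birData_of_isBirational hV hU hf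
  have hcomapalg : ∀ I : Ideal Γ(X, f ⁻¹ᵁ V), I.comap (algebraMap Γ(Y, V) Γ(X, f ⁻¹ᵁ V)) =
      I.comap (f.app V).hom := fun I => rfl
  -- primes over the closed point
  have hovr : ∀ (x : X) (hxy : f x = y), ∃ hx : x ∈ f ⁻¹ᵁ V,
      (hV.primeIdealOf ⟨f x, hx⟩).asIdeal = IsLocalRing.maximalIdeal Γ(Y, V) ∧
      (hU.primeIdealOf ⟨x, hx⟩).asIdeal.IsMaximal := by
    intro x hxy
    subst hxy
    refine ⟨hyV, hy, ?_⟩
    apply Ideal.isMaximal_of_isIntegral_of_isMaximal_comap (R := Γ(Y, V))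
    rw [hcomapalg, comap_app hV hU x hyV, hy]
    exact IsLocalRing.maximalIdeal.isMaximal _
  have pt : ∀ (q' : Ideal Γ(X, f ⁻¹ᵁ V)) [q'.IsPrime],
      q'.comap (algebraMap Γ(Y, V) Γ(X, f ⁻¹ᵁ V)) = IsLocalRing.maximalIdeal Γ(Y, V) →
      ∃ (x : X) (hx : x ∈ f ⁻¹ᵁ V), f x = y ∧ (hU.primeIdealOf ⟨x, hx⟩).asIdeal = q' := by
    intro q' hq' hc
    let q : PrimeSpectrum Γ(X, f ⁻¹ᵁ V) := ⟨q', hq'⟩
    have hq := primeIdealOf_fromSpec hU q (fromSpec_mem hU q)
    refine ⟨hU.fromSpec q, fromSpec_mem hU q, ?_, by rw [hq]⟩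
    apply primeIdealOf_injective hV _ _ (fromSpec_mem hU q) hyV
    apply PrimeSpectrum.ext
    rw [← comap_app hV hU _ (fromSpec_mem hU q), hq, hy]
    exact hc
  constructor
  · intro hA
    obtain ⟨hCl, hp, hC⟩ := local_forward H hA
    haveI := hCl
    refine ⟨⟨fun x x' hx hx' => ?_, fun x hx => ?_⟩, fun x hx => ?_⟩
    · obtain ⟨hxU, -, hm⟩ := hovr x hx
      obtain ⟨hxU', -, hm'⟩ := hovr x' hx'
      apply primeIdealOf_injective hU x x' hxU hxU'
      apply PrimeSpectrum.ext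
      rw [IsLocalRing.eq_maximalIdeal hm, IsLocalRing.eq_maximalIdeal hm']
    · obtain ⟨hxU, hmy, hm⟩ := hovr x hx
      rw [pi_iff hV hU x hxU hm (hmy ▸ IsLocalRing.maximalIdeal.isMaximal _)]
      intro c
      haveI := hm
      obtain ⟨n, a, ha⟩ := hp (hU.primeIdealOf ⟨x, hxU⟩).asIdeal (Ideal.Quotient.mk _ c)
      refine ⟨n, a, ?_⟩
      rw [RingHom.comp_apply, ← map_pow, Ideal.Quotient.eq] at ha
      exact ha
    · obtain ⟨hxU, -, hm⟩ := hovr x hx
      apply Groth.Agent.Lib.Helper3.EtGUSch.isGeomUnibranch_stalk_of_localization hU x hxU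
      exact (gu_localization_iff_of_isLocalRing _ _ (IsLocalRing.eq_maximalIdeal hm)).mpr hC
  · rintro ⟨hrad, hgu⟩
    -- a point over `y`
    obtain ⟨q₀, hq₀p, hq₀c⟩ := H.exists_prime_over (IsLocalRing.maximalIdeal Γ(Y, V))
    obtain ⟨x₀, hx₀U, hx₀y, hx₀q⟩ := pt q₀ hq₀c
    obtain ⟨_, hmy₀, hm₀⟩ := hovr x₀ hx₀y
    -- `Γ(X, f ⁻¹ᵁ V)` is local
    have hCl : IsLocalRing Γ(X, f ⁻¹ᵁ V) := by
      apply IsLocalRing.of_unique_max_ideal
      refine ⟨_, hm₀, fun M hM => ?_⟩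
      have hMc : M.comap (algebraMap Γ(Y, V) Γ(X, f ⁻¹ᵁ V)) = IsLocalRing.maximalIdeal Γ(Y, V) :=
        IsLocalRing.eq_maximalIdeal (Ideal.isMaximal_comap_of_isIntegral_of_isMaximal M)
      obtain ⟨x, hxU, hxy, hxq⟩ := pt M hMc
      have hxx : x = x₀ := hrad.1 x x₀ hxy hx₀y
      subst hxx
      exact hxq.symm
    haveI := hCl
    have hpm : PowMem (algebraMap Γ(Y, V) Γ(X, f ⁻¹ᵁ V)) := by
      intro M hM z
      have hMc : M.comap (algebraMap Γ(Y, V) Γ(X, f ⁻¹ᵁ V)) = IsLocalRing.maximalIdeal Γ(Y, V) :=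
        IsLocalRing.eq_maximalIdeal (Ideal.isMaximal_comap_of_isIntegral_of_isMaximal M)
      obtain ⟨x, hxU, hxy, rfl⟩ := pt M hMc
      obtain ⟨_, hmy, _⟩ := hovr x hxy
      obtain ⟨c, rfl⟩ := Ideal.Quotient.mk_surjective z
      obtain ⟨n, a, ha⟩ := (pi_iff hV hU x hxU hM
        (hmy ▸ IsLocalRing.maximalIdeal.isMaximal _)).mp (hrad.2 x hxy) c
      refine ⟨n, a, ?_⟩
      rw [RingHom.comp_apply, ← map_pow, Ideal.Quotient.eq]
      exact ha
    have hC : CAlg2.IsGeomUnibranch Γ(X, f ⁻¹ᵁ V) := by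
      have h1 := Groth.Agent.Lib.Helper3.EtGUSch.isGeomUnibranch_localization_primeIdealOf hU x₀
        hx₀U (hgu x₀ hx₀y)
      exact (gu_localization_iff_of_isLocalRing _ _ (IsLocalRing.eq_maximalIdeal hm₀)).mp h1
    exact local_backward H hpm hC

end LocalMain

section Global

open Groth.Agent.Lib.Helper6

theorem gu_of_isIso_stalkMap {X Z : Scheme.{u}} (g : Z ⟶ X) (z : Z) [IsIso (g.stalkMap z)] :
    CAlg2.IsGeomUnibranch (Z.presheaf.stalk z) ↔ CAlg2.IsGeomUnibranch (X.presheaf.stalk (g z)) := by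
  let e : X.presheaf.stalk (g z) ≃+* Z.presheaf.stalk z :=
    (asIso (g.stalkMap z)).commRingCatIsoToRingEquiv
  exact ⟨fun h => isGeomUnibranch_of_ringEquiv e.symm h,
    fun h => isGeomUnibranch_of_ringEquiv e h⟩

/-- EGA IV 6.15.5 (i): for `f` integral with birational reduction, `Y` is geometrically unibranch at `y`
iff `f` is radicial at `y` and `X` is geometrically unibranch at the points over `y`. -/
theorem main {X Y : Scheme.{u}} (f : X ⟶ Y) [IsIntegralHom f] (hf : RadPt.IsBirational f) (y : Y) :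
    CAlg2.IsGeomUnibranch (Y.presheaf.stalk y) ↔
      (RadPt.IsRadicialAt f y ∧
        ∀ x : X, f x = y → CAlg2.IsGeomUnibranch (X.presheaf.stalk x)) := by
  have sq : IsPullback (pullback.fst f (Y.fromSpecStalk y)) (pullback.snd f (Y.fromSpecStalk y))
      f (Y.fromSpecStalk y) := IsPullback.of_hasPullback f (Y.fromSpecStalk y)
  have hf₁ := isBirational_of_isPullback_of_flat sq hf
  have hV : IsAffineOpen (⊤ : (Spec (Y.presheaf.stalk y)).Opens) := isAffineOpen_top _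
  let eΓ : (Y.presheaf.stalk y : Type u) ≃+* Γ(Spec (Y.presheaf.stalk y), ⊤) :=
    (Scheme.ΓSpecIso (Y.presheaf.stalk y)).symm.commRingCatIsoToRingEquiv
  haveI : IsLocalRing Γ(Spec (Y.presheaf.stalk y), ⊤) := eΓ.isLocalRing
  have hjy : (Y.fromSpecStalk y) (IsLocalRing.closedPoint (Y.presheaf.stalk y)) = y :=
    Scheme.fromSpecStalk_closedPoint
  have hy₀ : (hV.primeIdealOf ⟨IsLocalRing.closedPoint (Y.presheaf.stalk y), trivial⟩).asIdeal =
      IsLocalRing.maximalIdeal Γ(Spec (Y.presheaf.stalk y), ⊤) :=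
    IsLocalRing.eq_maximalIdeal (hV.primeIdealOf_isMaximal_of_isClosed
      ⟨IsLocalRing.closedPoint (Y.presheaf.stalk y), trivial⟩
      (IsLocalRing.isClosed_singleton_closedPoint _))
  have hloc := local_main (pullback.snd f (Y.fromSpecStalk y)) hV hf₁
    (IsLocalRing.closedPoint (Y.presheaf.stalk y)) trivial hy₀
  have h1 : CAlg2.IsGeomUnibranch (Y.presheaf.stalk y) ↔
      CAlg2.IsGeomUnibranch Γ(Spec (Y.presheaf.stalk y), ⊤) :=
    ⟨fun h => isGeomUnibranch_of_ringEquiv eΓ h, fun h => isGeomUnibranch_of_ringEquiv eΓ.symm h⟩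
  have h2 := Groth.Agent.S5863.result sq (IsLocalRing.closedPoint (Y.presheaf.stalk y))
  rw [hjy] at h2
  rw [h1, hloc, ← h2]
  refine and_congr_right (fun _ => ?_)
  constructor
  · intro H x hx
    obtain ⟨z, hz1, hz2⟩ := Scheme.Pullback.exists_preimage_pullback (f := f)
      (g := Y.fromSpecStalk y) x (IsLocalRing.closedPoint (Y.presheaf.stalk y)) (hx.trans hjy.symm)
    haveI := isIso_stalkMap_fst_pullback_fromSpecStalk f y z
    have := (gu_of_isIso_stalkMap (pullback.fst f (Y.fromSpecStalk y)) z).mp (H z hz2)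
    rw [hz1] at this
    exact this
  · intro H z hz
    haveI := isIso_stalkMap_fst_pullback_fromSpecStalk f y z
    apply (gu_of_isIso_stalkMap (pullback.fst f (Y.fromSpecStalk y)) z).mpr
    apply H
    rw [← Scheme.Hom.comp_apply, pullback.condition, Scheme.Hom.comp_apply, hz, hjy]

end Global

end Groth.Agent.Lib.R2H3.GUBirSch
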