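import Mathlib
import Groth.Prelude.Def_OmegaPn
import Groth.Agent.S5952
import Groth.Agent.Lib.R2H3PullGen
import Groth.Agent.Lib.R2H3ComapPow
import Groth.Agent.Lib.R2H3IdealModFin
import Groth.Agent.Lib.R2H3PnChart
import Groth.Agent.Lib.Helper20EffCartier
import Groth.Agent.Lib.Helper20PullbackAff
import Groth.Agent.Lib.Helper20OmegaAff
import Groth.Agent.Lib.Helper18OmLS13
import Groth.Agent.Lib.Helper18OmLS15
import Groth.Agent.Lib.R2H3ConormalH1

/-!
# Chart criterion for injectivity of the canonical map `u^* Gr_n(f) ⟶ Gr_n(f')` (helper3, round 2)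

* `lift_bijective_of_lTensor_injective`: ring-level: `B' ⊗[B] P → P'` bijective when `P ⊆ B`, `P' = P·B' ⊆ B'`
  and `B' ⊗[B] P → B' ⊗[B] B` is injective.
* `idealSectₗ`: `idealSect` as a linear map.
* `injective_app_chart`: for a commutative square `u ≫ f = f' ≫ v` with `f'.ker^n = (f.ker^n).comap v`, affine
  charts `W ≤ v⁻¹U'`, `Vy ≤ f⁻¹U'`, `Vy' ≤ f'⁻¹W ⊓ u⁻¹Vy` with surjective restrictions, the canonical map
  `φ` (an `IsGrMap`) is injective on sections over `Vy'` provided `Γ(X',W) ⊗ Γ(I^n,U') → Γ(X',W) ⊗ Γ(X,U')` is injective.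
-/

set_option autoImplicit false
set_option linter.style.haveILetI false
universe u
open CategoryTheory CategoryTheory.Limits AlgebraicGeometry TopologicalSpace Opposite

namespace Groth.Agent.Lib.R2H3.GrChart

open Groth.Agent.Lib.R2H3 Groth.Agent.Helper18OmLS Groth.Agent.Helper13PullbackUnit
open TensorProduct

theorem lift_bijective_of_lTensor_injective {B B' : Type u} [CommRing B] [CommRing B'] [Algebra B B']
    {P P' : Type u} [AddCommGroup P] [Module B P] [AddCommGroup P'] [Module B' P']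
    (ι : P →ₗ[B] B) (hinj : Function.Injective (LinearMap.lTensor B' ι))
    (ι' : P' →ₗ[B'] B') (hι' : Function.Injective ι')
    (ρ : P →+ P') (hρ : ∀ s, ι' (ρ s) = algebraMap B B' (ι s))
    (hrange : ∀ p', ι' p' ∈ Ideal.map (algebraMap B B') (LinearMap.range ι)) :
    ∃ L : B' ⊗[B] P →+ P', (∀ b' s, L (b' ⊗ₜ s) = b' • ρ s) ∧ (∀ (c : B') z, L (c • z) = c • L z) ∧
      Function.Bijective L := by
  have hρs : ∀ (b : B) (s : P), ρ (b • s) = algebraMap B B' b • ρ s := by
    intro b s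
    apply hι'
    rw [hρ, LinearMap.map_smul, LinearMap.map_smul, hρ, smul_eq_mul, smul_eq_mul, map_mul]
  let L : B' ⊗[B] P →+ P' := TensorProduct.liftAddHom
    { toFun := fun b' => (DistribSMul.toAddMonoidHom P' b').comp ρ
      map_zero' := by
        ext s
        simp
      map_add' := fun a b => by
        ext s
        simp [add_smul] }
    (fun b b' s => by
      change (b • b') • ρ s = b' • ρ (b • s)
      rw [hρs, Algebra.smul_def, mul_smul, smul_comm])
  have hL : ∀ b' s, L (b' ⊗ₜ s) = b' • ρ s := fun b' s => rfl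
  have hcomp : ∀ z, ι' (L z) = TensorProduct.rid B B' (LinearMap.lTensor B' ι z) := by
    intro z
    induction z using TensorProduct.induction_on with
    | zero => simp
    | tmul b' s =>
      rw [hL, map_smul, hρ, LinearMap.lTensor_tmul, TensorProduct.rid_tmul, smul_eq_mul,
        Algebra.smul_def, mul_comm]
    | add x y hx hy => rw [map_add, map_add, hx, hy, map_add, map_add]
  have hsm : ∀ (c : B') z, L (c • z) = c • L z := by
    intro c z
    induction z using TensorProduct.induction_on with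
    | zero => simp
    | tmul b' s => rw [TensorProduct.smul_tmul', hL, hL, smul_eq_mul, mul_smul]
    | add x y hx hy => rw [smul_add, map_add, hx, hy, map_add, smul_add]
  refine ⟨L, hL, hsm, ?_, ?_⟩
  · rw [injective_iff_map_eq_zero]
    intro z hz
    have h1 := hcomp z
    rw [hz, map_zero] at h1
    have h2 : LinearMap.lTensor B' ι z = 0 := by
      apply (TensorProduct.rid B B').injective
      rw [← h1, map_zero]
    exact (injective_iff_map_eq_zero _).1 hinj z h2
  · intro p'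
    have key : ∀ x ∈ Ideal.map (algebraMap B B') (LinearMap.range ι), ∃ z, ι' (L z) = x := by
      intro x hx
      unfold Ideal.map at hx
      induction hx using Submodule.span_induction with
      | mem y hy =>
        obtain ⟨a, ⟨s, rfl⟩, rfl⟩ := hy
        exact ⟨1 ⊗ₜ s, by rw [hL, one_smul, hρ]⟩
      | zero => exact ⟨0, by rw [map_zero, map_zero]⟩
      | add a b _ _ iha ihb =>
        obtain ⟨za, hza⟩ := iha
        obtain ⟨zb, hzb⟩ := ihb
        exact ⟨za + zb, by rw [map_add, map_add, hza, hzb]⟩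
      | smul c a _ iha =>
        obtain ⟨za, hza⟩ := iha
        refine ⟨c • za, ?_⟩
        rw [hsm, map_smul, hza]
    obtain ⟨z, hz⟩ := key _ (hrange p')
    exact ⟨z, hι' hz⟩



/-- `idealSect` as a linear map -/
noncomputable def idealSectₗ {X : Scheme.{u}} (K : X.IdealSheafData) (U : X.Opens) :
    Γ(ClSub.idealMod K, U) →ₗ[Γ(X, U)] Γ(X, U) where
  toFun := fun s => OmegaSh.idealSect K U s
  map_add' := fun s t => map_add _ s t
  map_smul' := fun r s => idealSect_smul K U r s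

theorem idealSectₗ_apply {X : Scheme.{u}} (K : X.IdealSheafData) (U : X.Opens)
    (s : Γ(ClSub.idealMod K, U)) : idealSectₗ K U s = OmegaSh.idealSect K U s := rfl

section chart

variable {Y X Y' X' : Scheme.{u}} (f : Y ⟶ X) (v : X' ⟶ X) (u : Y' ⟶ Y) (f' : Y' ⟶ X') (n : ℕ)
    (hK : f'.ker ^ n = (f.ker ^ n).comap v)
    (φ : (Scheme.Modules.pullback u).obj (PrinPart.grMod f n) ⟶ PrinPart.grMod f' n)
    (hφ : PrinPart.IsGrMap f' f v u n φ)
    {W : X'.Opens} {U' : X.Opens} {Vy : Y.Opens} {Vy' : Y'.Opens}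
    (hW : IsAffineOpen W) (hU' : IsAffineOpen U') (hVa : IsAffineOpen Vy) (hVa' : IsAffineOpen Vy')
    (hWU : W ≤ v ⁻¹ᵁ U') (hVU : Vy ≤ f ⁻¹ᵁ U') (hVW : Vy' ≤ f' ⁻¹ᵁ W) (hVV : Vy' ≤ u ⁻¹ᵁ Vy)
    (hsurjf : Function.Surjective (f.appLE U' Vy hVU).hom)
    (hsurjf' : Function.Surjective (f'.appLE W Vy' hVW).hom)
    [algBB' : Algebra Γ(X, U') Γ(X', W)]
    (halgBB' : algebraMap Γ(X, U') Γ(X', W) = (v.appLE U' W hWU).hom)
    (hinj : Function.Injective (LinearMap.lTensor Γ(X', W) (idealSectₗ (f.ker ^ n) U')))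

include hK hφ hW hU' hVa hVa' hVV hsurjf hsurjf' halgBB' hinj in
theorem injective_app_chart : Function.Injective (φ.app Vy') := by
  obtain ⟨hw, hφ⟩ := hφ
  set K := f.ker ^ n with hKdef
  set K' := f'.ker ^ n with hK'def
  have hideal : K'.ideal ⟨W, hW⟩ = (K.ideal ⟨U', hU'⟩).map (v.appLE U' W hWU).hom := by
    rw [hK]
    exact Groth.Agent.Lib.Helper20.EffCartier.ideal_comap_eq_map v K hW hU' hWU
  let ι : Γ(ClSub.idealMod K, U') →ₗ[Γ(X, U')] Γ(X, U') := idealSectₗ K U'
  let ι' : Γ(ClSub.idealMod K', W) →ₗ[Γ(X', W)] Γ(X', W) := idealSectₗ K' W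
  have hι' : Function.Injective ι' := idealSect_injective K' W
  have hmem : ∀ s : Γ(ClSub.idealMod K, U'),
      (v.appLE U' W hWU).hom (OmegaSh.idealSect K U' s) ∈ K'.ideal ⟨W, hW⟩ := by
    intro s
    rw [hideal]
    exact Ideal.mem_map_of_mem _ (IdealModFin.idealSect_mem K ⟨U', hU'⟩ s)
  let ρ : Γ(ClSub.idealMod K, U') →+ Γ(ClSub.idealMod K', W) :=
    { toFun := fun s => (IdealModFin.idealModEquiv K' ⟨W, hW⟩).symm ⟨_, hmem s⟩
      map_zero' := by
        rw [← map_zero (IdealModFin.idealModEquiv K' ⟨W, hW⟩).symm]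
        congr 1
        apply Subtype.ext
        change (v.appLE U' W hWU).hom (OmegaSh.idealSect K U' 0) = 0
        rw [map_zero, map_zero]
      map_add' := fun s t => by
        rw [← map_add (IdealModFin.idealModEquiv K' ⟨W, hW⟩).symm]
        congr 1
        apply Subtype.ext
        change (v.appLE U' W hWU).hom (OmegaSh.idealSect K U' (s + t)) =
          (v.appLE U' W hWU).hom (OmegaSh.idealSect K U' s) +
          (v.appLE U' W hWU).hom (OmegaSh.idealSect K U' t)
        rw [map_add, map_add] }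
  have hρ0 : ∀ s, OmegaSh.idealSect K' W (ρ s) = (v.appLE U' W hWU).hom (OmegaSh.idealSect K U' s) := by
    intro s
    have h1 := (IdealModFin.idealModEquiv K' ⟨W, hW⟩).apply_symm_apply ⟨_, hmem s⟩
    exact congrArg Subtype.val h1
  have hρ : ∀ s, ι' (ρ s) = algebraMap Γ(X, U') Γ(X', W) (ι s) := by
    intro s
    rw [halgBB']
    exact hρ0 s
  have hrange : ∀ p', ι' p' ∈ Ideal.map (algebraMap Γ(X, U') Γ(X', W)) (LinearMap.range ι) := by
    intro p'
    have h1 : OmegaSh.idealSect K' W p' ∈ K'.ideal ⟨W, hW⟩ :=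
      IdealModFin.idealSect_mem K' ⟨W, hW⟩ p'
    rw [hideal] at h1
    rw [halgBB']
    refine Ideal.map_mono ?_ h1
    intro a ha
    obtain ⟨s, hs⟩ := IdealModFin.exists_idealSect_eq K ⟨U', hU'⟩ a ha
    exact ⟨s, hs⟩
  obtain ⟨L, hL, hLsm, hLinj, hLsurj⟩ :=
    lift_bijective_of_lTensor_injective ι hinj ι' hι' ρ hρ hrange
  have h₂ : Vy' ≤ f' ⁻¹ᵁ (v ⁻¹ᵁ U') := hVW.trans (f'.preimage_mono hWU)
  have h₁ : Vy' ≤ u ⁻¹ᵁ (f ⁻¹ᵁ U') := hVV.trans (u.preimage_mono hVU)
  have hring : ∀ b : Γ(X, U'), u.appLE Vy Vy' hVV (f.appLE U' Vy hVU b) =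
      f'.appLE W Vy' hVW (v.appLE U' W hWU b) := by
    intro b
    have h1 := Scheme.Hom.appLE_comp_appLE u f U' Vy Vy' hVU hVV
    have h2 := Scheme.Hom.appLE_comp_appLE f' v U' W Vy' hWU hVW
    have h3 : ∀ (k k' : Y' ⟶ X) (_ : k = k') (h : Vy' ≤ k ⁻¹ᵁ U') (h' : Vy' ≤ k' ⁻¹ᵁ U'),
        k.appLE U' Vy' h = k'.appLE U' Vy' h' := by
      rintro k _ rfl h h'
      rfl
    have h4 := (h1.trans (h3 _ _ hw _ _)).trans h2.symm
    have h5 := congr($h4 b)
    rw [CommRingCat.comp_apply, CommRingCat.comp_apply] at h5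
    exact h5
  let G := PrinPart.grMod f n
  let Xs : Γ(ClSub.idealMod K, U') → Γ((Scheme.Modules.pullback u).obj G, Vy') := fun s =>
    unitSec u G hVV (show Γ(G, Vy) from unitSec f (ClSub.idealMod K) hVU s)
  have hXs_add : ∀ s t, Xs (s + t) = Xs s + Xs t := by
    intro s t
    change unitSec u G hVV (show Γ(G, Vy) from
      unitSec f (ClSub.idealMod K) hVU (s + t)) = _
    rw [map_add]
    exact map_add (unitSec u G hVV) _ _
  have hXs_zero : Xs 0 = 0 := by
    change unitSec u G hVV (show Γ(G, Vy) from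
      unitSec f (ClSub.idealMod K) hVU 0) = _
    rw [map_zero]
    exact map_zero (unitSec u G hVV)
  have hXs_smul : ∀ (b : Γ(X, U')) s,
      Xs (b • s) = f'.appLE W Vy' hVW (v.appLE U' W hWU b) • Xs s := by
    intro b s
    change unitSec u G hVV (show Γ(G, Vy) from
      unitSec f (ClSub.idealMod K) hVU (b • s)) = _
    rw [unitSec_smul]
    refine (unitSec_smul u G hVV _ _).trans ?_
    rw [hring]
  let XsHom : Γ(ClSub.idealMod K, U') →+ Γ((Scheme.Modules.pullback u).obj G, Vy') :=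
    { toFun := Xs, map_zero' := hXs_zero, map_add' := hXs_add }
  let Λ : Γ(X', W) ⊗[Γ(X, U')] Γ(ClSub.idealMod K, U') →+
      Γ((Scheme.Modules.pullback u).obj G, Vy') := TensorProduct.liftAddHom
    { toFun := fun b' => (DistribSMul.toAddMonoidHom _ (f'.appLE W Vy' hVW b')).comp XsHom
      map_zero' := by
        ext s
        simp
      map_add' := fun a b => by
        ext s
        simp [add_smul] }
    (fun b b' s => by
      change f'.appLE W Vy' hVW (b • b') • Xs s = f'.appLE W Vy' hVW b' • Xs (b • s)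
      rw [hXs_smul, Algebra.smul_def, halgBB', map_mul, mul_comm, mul_smul])
  have hΛ : ∀ b' s, Λ (b' ⊗ₜ s) = f'.appLE W Vy' hVW b' • Xs s := fun b' s => rfl
  have hΛsm : ∀ (c : Γ(X', W)) z, Λ (c • z) = f'.appLE W Vy' hVW c • Λ z := by
    intro c z
    induction z using TensorProduct.induction_on with
    | zero => simp
    | tmul b' s => rw [TensorProduct.smul_tmul', hΛ, hΛ, smul_eq_mul, map_mul, mul_smul]
    | add x y hx hy => rw [smul_add, map_add, hx, hy, map_add, smul_add]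
  -- pure tensors: φ (Xs s) = unitSec (ρ s)
  have hφXs : ∀ s, φ.app Vy' (Xs s) = unitSec f' (ClSub.idealMod K') hVW (ρ s) := by
    intro s
    obtain ⟨s0, hs0⟩ := Groth.Agent.S5952.exists_idealSect_pull v K K' hK U' s
    have hk := hφ U' s s0 hs0 Vy' h₁ h₂
    have hρs : ρ s = (ClSub.idealMod K').presheaf.map (homOfLE hWU).op s0 := by
      apply idealSect_injective
      refine (hρ0 s).trans ?_
      rw [idealSect_res, hs0]
      rfl
    rw [hρs, unitSec_res]
    have hX : Xs s = unitSec u G h₁ (show Γ(G, f ⁻¹ᵁ U') from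
        OmegaSh.pullSect f (ClSub.idealMod K) U' s) :=
      unitSec_res u G hVU hVV (show Γ(G, f ⁻¹ᵁ U') from OmegaSh.pullSect f (ClSub.idealMod K) U' s)
    rw [hX]
    change φ.app Vy' (((Scheme.Modules.pullback u).obj G).presheaf.map (homOfLE h₁).op
      (OmegaSh.pullSect u G (f ⁻¹ᵁ U') (OmegaSh.pullSect f (ClSub.idealMod K) U' s))) = _
    rw [PnChart.app_naturality]
    exact hk
  have hφΛ : ∀ z, φ.app Vy' (Λ z) = unitSec f' (ClSub.idealMod K') hVW (L z) := by
    intro z
    induction z using TensorProduct.induction_on with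
    | zero =>
      rw [map_zero, map_zero, map_zero, map_zero]
      rfl
    | tmul b' s =>
      rw [hΛ, hL, Scheme.Modules.Hom.app_smul, hφXs, unitSec_smul]
      rfl
    | add x y hx hy =>
      rw [map_add, map_add, hx, hy, map_add, map_add]
      rfl
  -- surjectivity of Λ
  letI algCC' : Algebra Γ(Y, Vy) Γ(Y', Vy') := (u.appLE Vy Vy' hVV).hom.toAlgebra
  letI algBC : Algebra Γ(X, U') Γ(Y, Vy) := (f.appLE U' Vy hVU).hom.toAlgebra
  letI algBC' : Algebra Γ(X', W) Γ(Y', Vy') := (f'.appLE W Vy' hVW).hom.toAlgebra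
  have hsurjf0 : Function.Surjective (algebraMap Γ(X, U') Γ(Y, Vy)) := hsurjf
  have hsurjf0' : Function.Surjective (algebraMap Γ(X', W) Γ(Y', Vy')) := hsurjf'
  have halgf' : ∀ b' : Γ(X', W), algebraMap Γ(X', W) Γ(Y', Vy') b' = f'.appLE W Vy' hVW b' :=
    fun _ => rfl
  haveI : (ClSub.idealMod K).IsQuasicoherent := inferInstance
  haveI : G.IsQuasicoherent :=
    Groth.Agent.Lib.Helper20.PullbackAff.isQuasicoherent_pullback f (ClSub.idealMod K)
  have hΛsurj : Function.Surjective Λ := by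
    intro ξ
    obtain ⟨eu, heu⟩ := exists_pullback_equiv u G hVV hVa hVa' rfl
    obtain ⟨t, rfl⟩ := eu.surjective ξ
    induction t using TensorProduct.induction_on with
    | zero => exact ⟨0, by rw [map_zero, map_zero]⟩
    | tmul c' m =>
      obtain ⟨b', rfl⟩ := hsurjf0' c'
      obtain ⟨s, hs⟩ := exists_unitSec_eq f (ClSub.idealMod K) hVU hU' hVa rfl hsurjf0 m
      refine ⟨b' ⊗ₜ s, ?_⟩
      rw [hΛ, heu, halgf', ← hs]
    | add x y hx hy =>
      obtain ⟨zx, hzx⟩ := hx
      obtain ⟨zy, hzy⟩ := hy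
      exact ⟨zx + zy, by rw [map_add, map_add, hzx, hzy]⟩
  -- kernel of unitSec f'
  have hker : ∀ p' : Γ(ClSub.idealMod K', W),
      unitSec f' (ClSub.idealMod K') hVW p' = 0 →
      p' ∈ (RingHom.ker (algebraMap Γ(X', W) Γ(Y', Vy')) • ⊤ :
        Submodule Γ(X', W) Γ(ClSub.idealMod K', W)) := by
    intro p' hp'
    obtain ⟨e', he'⟩ := exists_pullback_equiv f' (ClSub.idealMod K') hVW hW hVa' rfl
    have h1 : e' ((1 : Γ(Y', Vy')) ⊗ₜ p') = 0 := by rw [he', hp', smul_zero]
    have h2 : (1 : Γ(Y', Vy')) ⊗ₜ[Γ(X', W)] p' = 0 := by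
      apply e'.injective
      rw [h1, map_zero]
    exact mem_smul_top_of_one_tmul_eq_zero' hsurjf0' p' h2
  have hkill : ∀ p' ∈ (RingHom.ker (algebraMap Γ(X', W) Γ(Y', Vy')) • ⊤ :
      Submodule Γ(X', W) Γ(ClSub.idealMod K', W)), ∀ z, L z = p' → Λ z = 0 := by
    intro p' hp'
    refine Submodule.smul_induction_on hp' ?_ ?_
    · intro i hi q _ z hz
      obtain ⟨z0, rfl⟩ := hLsurj q
      have hz' : z = i • z0 := hLinj (by rw [hz, hLsm])
      rw [hz', hΛsm, ← halgf', (show algebraMap Γ(X', W) Γ(Y', Vy') i = 0 from hi), zero_smul]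
    · intro p1 p2 h1 h2 z hz
      obtain ⟨z1, hz1⟩ := hLsurj p1
      obtain ⟨z2, hz2⟩ := hLsurj p2
      have hz' : z = z1 + z2 := hLinj (by rw [hz, map_add, hz1, hz2])
      rw [hz', map_add, h1 z1 hz1, h2 z2 hz2, add_zero]
  rw [injective_iff_map_eq_zero]
  intro ξ hξ
  obtain ⟨z, rfl⟩ := hΛsurj ξ
  rw [hφΛ] at hξ
  exact hkill _ (hker _ hξ) z rfl

end chart

end Groth.Agent.Lib.R2H3.GrChart
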