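import Mathlib
import Groth.Agent.Lib.Helper3GrpHomQF

/-!
# Loci of a homomorphism of group schemes (helper3, run 2)

For a morphism property `P` that is stable under base change, Zariski-local at the source and
satisfies fpqc descent, and a homomorphism `u : G ⟶ H` of group schemes over a field `k` with `G`
locally of finite type: if `u` is `P` on a non-empty open of `G` then `u` is `P`.
(Translate by rational points after base change to the algebraic closure, then descend.)
-/

set_option autoImplicit false
set_option linter.unusedVariables false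
set_option linter.unusedSectionVars false
set_option linter.style.haveILetI false

open CategoryTheory CategoryTheory.Limits MonoidalCategory CartesianMonoidalCategory MonObj GrpObj
  AlgebraicGeometry TopologicalSpace Topology

universe u

namespace Groth.Agent.Lib.R2H3.GrpHomLocus

section locus

variable (P : MorphismProperty Scheme.{u})

/-- the locus of points of the source near which `f` has `P`. -/
def locus {X Y : Scheme.{u}} (f : X ⟶ Y) : Set X :=
  {x | ∃ W : X.Opens, x ∈ W ∧ P (W.ι ≫ f)}

theorem isOpen_locus {X Y : Scheme.{u}} (f : X ⟶ Y) : IsOpen (locus P f) := by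
  rw [isOpen_iff_forall_mem_open]
  rintro x ⟨W, hxW, hW⟩
  exact ⟨W, fun y hy => ⟨W, hy, hW⟩, W.2, hxW⟩

variable {P}

theorem locus_of_isPullback [P.IsStableUnderBaseChange] {X Y X' Y' : Scheme.{u}} {p' : X' ⟶ X}
    {f' : X' ⟶ Y'} {f : X ⟶ Y} {p : Y' ⟶ Y} (hpb : IsPullback p' f' f p) (z : X')
    (hz : p' z ∈ locus P f) : z ∈ locus P f' := by
  obtain ⟨W, hzW, hW⟩ := hz
  let O : X'.Opens := p' ⁻¹ᵁ W
  have htop : IsPullback (p' ∣_ W) O.ι W.ι p' := isPullback_morphismRestrict p' W
  have hbig := htop.paste_vert hpb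
  exact ⟨O, hzW, MorphismProperty.of_isPullback hbig hW⟩

theorem mem_locus_iso_comp_iff [P.IsStableUnderBaseChange] {X' X Y : Scheme.{u}} (e : X' ⟶ X)
    [IsIso e] (f : X ⟶ Y) (z : X') : z ∈ locus P (e ≫ f) ↔ e z ∈ locus P f := by
  constructor
  · intro hz
    have hpb : IsPullback (inv e) f (e ≫ f) (𝟙 Y) :=
      IsPullback.of_horiz_isIso ⟨by simp⟩
    have := locus_of_isPullback hpb (e z) (by
      rw [← Scheme.Hom.comp_apply, IsIso.hom_inv_id]; exact hz)
    exact this
  · intro hz
    have hpb : IsPullback e (e ≫ f) f (𝟙 Y) := IsPullback.of_horiz_isIso ⟨by simp⟩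
    exact locus_of_isPullback hpb z hz

theorem mem_locus_comp_iso_iff [P.IsStableUnderBaseChange] {X Y Y' : Scheme.{u}} (f : X ⟶ Y)
    (e : Y ⟶ Y') [IsIso e] (z : X) : z ∈ locus P (f ≫ e) ↔ z ∈ locus P f := by
  constructor
  · intro hz
    have hpb : IsPullback (𝟙 X) f (f ≫ e) e := IsPullback.of_horiz_isIso ⟨by simp⟩
    exact locus_of_isPullback hpb z hz
  · intro hz
    have hpb : IsPullback (𝟙 X) (f ≫ e) f (inv e) := IsPullback.of_horiz_isIso ⟨by simp⟩
    exact locus_of_isPullback hpb z hz

theorem of_locus_eq_univ [IsZariskiLocalAtSource P] {X Y : Scheme.{u}} (f : X ⟶ Y)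
    (h : locus P f = Set.univ) : P f := by
  have hx : ∀ x : X, ∃ W : X.Opens, x ∈ W ∧ P (W.ι ≫ f) := fun x => by
    have : x ∈ locus P f := h ▸ Set.mem_univ x
    exact this
  choose W hxW hW using hx
  refine IsZariskiLocalAtSource.of_iSup_eq_top W ?_ hW
  rw [eq_top_iff]
  intro x _
  exact Opens.mem_iSup.mpr ⟨x, hxW x⟩

theorem locus_eq_univ [IsZariskiLocalAtSource P] {X Y : Scheme.{u}} (f : X ⟶ Y)
    (h : P f) : locus P f = Set.univ := by
  rw [Set.eq_univ_iff_forall]
  intro x
  exact ⟨⊤, trivial, IsZariskiLocalAtSource.comp h _⟩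

end locus

section translation

variable {C : Type*} [Category C] [CartesianMonoidalCategory C]

theorem mulRight_hom_comp {A B : C} [GrpObj A] [GrpObj B] (u : A ⟶ B) [IsMonHom u]
    (f : 𝟙_ C ⟶ A) : (mulRight f).hom ≫ u = u ≫ (mulRight (f ≫ u)).hom := by
  simp only [mulRight, Category.assoc, IsMonHom.mul_hom]
  rw [← Category.assoc, ← Category.assoc]
  congr 1
  ext <;> simp

theorem mulRight_inv_comp {A B : C} [GrpObj A] [GrpObj B] (u : A ⟶ B) [IsMonHom u]
    (f : 𝟙_ C ⟶ A) : (mulRight f).inv ≫ u = u ≫ (mulRight (f ≫ u)).inv := by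
  rw [Iso.inv_comp_eq, ← Category.assoc, Iso.eq_comp_inv, mulRight_hom_comp]

end translation

section algClosed

variable {P : MorphismProperty Scheme.{u}} [P.IsStableUnderBaseChange]
variable {K : Type u} [Field K] [IsAlgClosed K] (G H : Over (Spec (.of K))) [GrpObj G] [GrpObj H]
  (u : G ⟶ H) [IsMonHom u] [LocallyOfFiniteType G.hom]

/-- over an algebraically closed field, the `P`-locus of a homomorphism of group schemes
(source locally of finite type) is empty or everything. -/
theorem locus_eq_univ_of_isAlgClosed (hne : (locus P u.left).Nonempty) :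
    locus P u.left = Set.univ := by
  have := LocallyOfFiniteType.jacobsonSpace G.hom
  rw [← not_ne_iff, ← Set.nonempty_compl]
  intro H'
  obtain ⟨x, hx, hxc⟩ := nonempty_inter_closedPoints H'
    (isOpen_locus P u.left).isClosed_compl.isLocallyClosed
  obtain ⟨y, hy, hyc⟩ := nonempty_inter_closedPoints hne
    (isOpen_locus P u.left).isLocallyClosed
  let x' : 𝟙_ _ ⟶ G := Over.homMk _ ((pointEquivClosedPoint G.hom).symm ⟨x, hxc⟩).2
  let y' : 𝟙_ _ ⟶ G := Over.homMk _ ((pointEquivClosedPoint G.hom).symm ⟨y, hyc⟩).2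
  let α := (GrpObj.mulRight x').symm ≪≫ (GrpObj.mulRight y')
  let β := (GrpObj.mulRight (x' ≫ u)).symm ≪≫ (GrpObj.mulRight (y' ≫ u))
  have hαβ : α.hom ≫ u = u ≫ β.hom := by
    dsimp only [Iso.trans_hom, Iso.symm_hom, α, β]
    rw [Category.assoc, mulRight_hom_comp, ← Category.assoc, mulRight_inv_comp, Category.assoc]
  have hα : x' ≫ α.hom = y' := by
    dsimp only [Iso.trans_hom, Iso.symm_hom, α]
    rw [← Category.assoc, ← Iso.eq_comp_inv]
    simp [comp_lift_assoc]
  have hα' : α.hom.left x = y := by
    simpa [x', y', pointEquivClosedPoint] using congr(($hα).left (IsLocalRing.closedPoint K))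
  apply hx
  have h1 : x ∈ locus P (α.hom.left ≫ u.left) := by
    rw [mem_locus_iso_comp_iff, hα']
    exact hy
  have h2 : α.hom.left ≫ u.left = u.left ≫ β.hom.left := by
    rw [← Over.comp_left, hαβ, Over.comp_left]
  rw [h2, mem_locus_comp_iso_iff] at h1
  exact h1

end algClosed

section field

open scoped Obj
open Groth.Agent.Lib.Helper3.GrpHomQF

variable {P : MorphismProperty Scheme.{u}} [P.IsStableUnderBaseChange] [IsZariskiLocalAtSource P]
  [P.DescendsAlong (@Surjective ⊓ @Flat ⊓ @QuasiCompact)]
variable {k : Type u} [Field k] (G H : Over (Spec (.of k))) [GrpObj G] [GrpObj H]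
  (u : G ⟶ H) [IsMonHom u] [LocallyOfFiniteType G.hom]

/-- over a field, a homomorphism of group schemes (source locally of finite type) that is `P`
on a non-empty open of the source is `P` (`P` stable under base change, local at the source,
with fpqc descent). -/
theorem of_locus_nonempty (hne : (locus P u.left).Nonempty) : P u.left := by
  let Ω : Type u := AlgebraicClosure k
  let g : Spec (.of Ω) ⟶ Spec (.of k) := Spec.map (CommRingCat.ofHom <| algebraMap k Ω)
  let G' : Over (Spec (.of Ω)) := (Over.pullback g).obj G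
  let H' : Over (Spec (.of Ω)) := (Over.pullback g).obj H
  let u' : G' ⟶ H' := (Over.pullback g).map u
  haveI : IsMonHom u' := inferInstanceAs (IsMonHom ((Over.pullback g).map u))
  have hpb : IsPullback (pullback.fst G.hom g) u'.left u.left (pullback.fst H.hom g) :=
    isPullback_overPullback_map G H u g
  haveI : LocallyOfFiniteType G'.hom :=
    inferInstanceAs (LocallyOfFiniteType (pullback.snd G.hom g))
  obtain ⟨x, hx⟩ := hne
  obtain ⟨z, hz⟩ := (pullback.fst G.hom g).surjective x
  have hz' : z ∈ locus P u'.left := locus_of_isPullback hpb z (by rw [hz]; exact hx)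
  have huniv := locus_eq_univ_of_isAlgClosed G' H' u' ⟨z, hz'⟩
  have hP' : P u'.left := of_locus_eq_univ _ huniv
  exact MorphismProperty.of_isPullback_of_descendsAlong
    (Q := @Surjective ⊓ @Flat ⊓ @QuasiCompact) hpb.flip
    ⟨⟨inferInstance, inferInstance⟩, inferInstance⟩ hP'

end field

section relative

open scoped Obj
open Groth.Agent.Lib.Helper3.GrpHomQF

variable {P : MorphismProperty Scheme.{u}} [P.IsStableUnderBaseChange] [IsZariskiLocalAtSource P]
  [P.DescendsAlong (@Surjective ⊓ @Flat ⊓ @QuasiCompact)]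
variable {S : Scheme.{u}} (G H : Over S) [GrpObj G] [GrpObj H] (u : G ⟶ H) [IsMonHom u]

/-- if `u` is `P` near a point `x` over `s`, then the fibre `u_s` is `P`. -/
theorem fibre_of_mem_locus (x : G.left)
    (hlft : LocallyOfFiniteType (G.hom.fiberToSpecResidueField (G.hom x)))
    (hx : x ∈ locus P u.left) :
    P ((Over.pullback (S.fromSpecResidueField (G.hom x))).map u).left := by
  let s := G.hom x
  let t := S.fromSpecResidueField s
  let Gs : Over (Spec (CommRingCat.of (S.residueField s))) := (Over.pullback t).obj G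
  let Hs : Over (Spec (CommRingCat.of (S.residueField s))) := (Over.pullback t).obj H
  let us : Gs ⟶ Hs := (Over.pullback t).map u
  haveI : IsMonHom us := inferInstanceAs (IsMonHom ((Over.pullback t).map u))
  have hpb : IsPullback (pullback.fst G.hom t) us.left u.left (pullback.fst H.hom t) :=
    isPullback_overPullback_map G H u t
  haveI : LocallyOfFiniteType Gs.hom := hlft
  have hx' : x ∈ Set.range (G.hom.fiberι s) := by
    rw [Scheme.Hom.range_fiberι]
    rfl
  obtain ⟨z₀, hz₀⟩ := hx'
  have hz₀' : pullback.fst G.hom t z₀ = x := hz₀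
  have hz : z₀ ∈ locus P us.left := locus_of_isPullback hpb z₀ (by rw [hz₀']; exact hx)
  exact of_locus_nonempty Gs Hs us ⟨z₀, hz⟩

/-- **the `P`-locus of a homomorphism of group schemes is the preimage of the (open) set of
points of the base whose fibre is `P`**, given the fibrewise criterion `hcrit` for `P`. -/
theorem isOpen_and_locus_eq
    (hlft : ∀ s : S, LocallyOfFiniteType (G.hom.fiberToSpecResidueField s))
    (hcrit : ∀ x : G.left,
      P ((Over.pullback (S.fromSpecResidueField (G.hom x))).map u).left → x ∈ locus P u.left) :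
    IsOpen {s : S | P ((Over.pullback (S.fromSpecResidueField s)).map u).left} ∧
    locus P u.left =
      G.hom.base ⁻¹' {s : S | P ((Over.pullback (S.fromSpecResidueField s)).map u).left} := by
  have hb : ∀ x : G.left, x ∈ locus P u.left ↔
      P ((Over.pullback (S.fromSpecResidueField (G.hom x))).map u).left :=
    fun x => ⟨fibre_of_mem_locus G H u x (hlft _), hcrit x⟩
  refine ⟨?_, ?_⟩
  · have hO : IsOpen (locus P u.left) := isOpen_locus P u.left
    have hc : Continuous (Groth.Agent.Lib.Helper3.GrpFibDim.unitSec G) :=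
      (Groth.Agent.Lib.Helper3.GrpFibDim.unitSec G).continuous
    convert hO.preimage hc using 1
    ext s
    simp only [Set.mem_ofPred_eq, Set.mem_preimage]
    rw [hb, hom_unitSec']
  · ext x
    simp only [Set.mem_ofPred_eq, Set.mem_preimage]
    exact hb x

end relative

end Groth.Agent.Lib.R2H3.GrpHomLocus
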