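import Mathlib
import Groth.Agent.S1477

/-!
# Henselian couples: lifting of clopens along finite morphisms implies lifting of sections of
étale separated morphisms (helper3, round 2)

Let `S` be quasi-compact quasi-separated, `i : S₀ ⟶ S` a closed immersion, and suppose that for
every finite `g : S' ⟶ S` the open-closed subsets of `S' ×_S S₀` lift uniquely to `S'` (`HensA i`).
Then sections of étale separated `S`-schemes over `S₀` lift uniquely to `S`.
-/

universe u

open CategoryTheory CategoryTheory.Limits AlgebraicGeometry TopologicalSpace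

namespace Groth.Agent.Lib.R2H3.HensSect

theorem locallyQuasiFinite_of_etale {X S : Scheme.{u}} (f : X ⟶ S) [Etale f] :
    LocallyQuasiFinite f := by
  constructor
  intro U hU V hV e
  have h1 := f.etale_appLE hU hV e
  algebraize [(f.appLE U V e).hom]
  have : Algebra.Etale Γ(S, U) Γ(X, V) := h1
  exact RingHom.quasiFinite_algebraMap.mpr inferInstance

/-- a section of an étale morphism is an open immersion. -/
theorem isOpenImmersion_of_section {X Y : Scheme.{u}} (g : X ⟶ Y) [Etale g] (s : Y ⟶ X)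
    (hs : s ≫ g = 𝟙 Y) : IsOpenImmersion s := by
  have h1 : Etale (s ≫ g) := by rw [hs]; infer_instance
  have : Etale s := Etale.of_comp s g
  have : Mono s := SplitMono.mono ⟨g, hs⟩
  exact IsOpenImmersion.of_flat_of_mono s

/-- a section of a separated morphism is a closed immersion. -/
theorem isClosedImmersion_of_section {X Y : Scheme.{u}} (g : X ⟶ Y) [IsSeparated g] (s : Y ⟶ X)
    (hs : s ≫ g = 𝟙 Y) : IsClosedImmersion s := by
  have h1 : IsClosedImmersion (s ≫ g) := by rw [hs]; infer_instance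
  exact IsClosedImmersion.of_comp s g

/-- a compact subset of a scheme is contained in a quasi-compact open. -/
theorem exists_compact_open_superset (Y : Scheme.{u}) (K : Set ↥Y) (hK : IsCompact K) :
    ∃ W : Y.Opens, IsCompact (W : Set ↥Y) ∧ K ⊆ W := by
  have hex : ∀ x : Y, ∃ V : Y.Opens, IsAffineOpen V ∧ x ∈ V := by
    intro x
    obtain ⟨_, ⟨V, hV, rfl⟩, hxV, -⟩ := Y.isBasis_affineOpens.exists_subset_of_mem_open
      (Set.mem_univ x) isOpen_univ
    exact ⟨V, hV, hxV⟩
  choose V hV hxV using hex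
  obtain ⟨t, -, ht⟩ := hK.elim_nhds_subcover (fun x => (V x : Set ↥Y))
    (fun x _ => (V x).2.mem_nhds (hxV x))
  refine ⟨⨆ x ∈ t, V x, ?_, ?_⟩
  · simp only [Opens.coe_iSup]
    exact t.isCompact_biUnion (fun x _ => (hV x).isCompact)
  · simpa only [Opens.coe_iSup] using ht

variable {S S₀ : Scheme.{u}} (i : S₀ ⟶ S)

/-- condition a): open-closed subsets lift uniquely along finite morphisms. -/
def HensA : Prop :=
  ∀ (S' : Scheme.{u}) (g : S' ⟶ S), IsFinite g →
    ∀ V : Set ↥(pullback g i), IsClopen V →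
      ∃! U : Set ↥S', IsClopen U ∧ (pullback.fst g i).base ⁻¹' U = V

variable {i}

/-- under a), a closed subset not meeting `S₀` is empty. -/
theorem eq_empty_of_isClosed_of_disjoint (ha : HensA i) (Z : Set ↥S) (hZ : IsClosed Z)
    (hd : Disjoint Z (Set.range i)) : Z = ∅ := by
  let I := Scheme.IdealSheafData.vanishingIdeal ⟨Z, hZ⟩
  have hr : Set.range I.subschemeι = Z := by
    rw [Scheme.IdealSheafData.range_subschemeι, Scheme.IdealSheafData.coe_support_vanishingIdeal]
    rfl
  have hemp : IsEmpty ↥(pullback I.subschemeι i) := by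
    rw [Scheme.isEmpty_pullback_iff, hr]
    exact hd
  obtain ⟨U, -, hU⟩ := ha I.subscheme I.subschemeι inferInstance ∅ isClopen_empty
  have h1 : (∅ : Set ↥I.subscheme) = U := hU ∅ ⟨isClopen_empty, Set.eq_empty_of_isEmpty _⟩
  have h2 : (Set.univ : Set ↥I.subscheme) = U := hU _ ⟨isClopen_univ, Set.eq_empty_of_isEmpty _⟩
  have h3 : IsEmpty ↥I.subscheme := by
    rw [← Set.univ_eq_empty_iff, h2, ← h1]
  rw [← hr]
  exact Set.range_eq_empty _

/-- under a), a section of an étale separated morphism is determined by its restriction to `S₀`. -/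
theorem section_unique (ha : HensA i) {S' : Scheme.{u}} (g : S' ⟶ S) [Etale g] [IsSeparated g]
    (u u' : S ⟶ S') (hu : u ≫ g = 𝟙 S) (hu' : u' ≫ g = 𝟙 S) (h : i ≫ u = i ≫ u') : u = u' := by
  have := isOpenImmersion_of_section g u hu
  have := isOpenImmersion_of_section g u' hu'
  have := isClosedImmersion_of_section g u' hu'
  have hcl : IsClopen (Set.range u') :=
    ⟨u'.isClosedEmbedding.isClosed_range, u'.isOpenEmbedding.isOpen_range⟩
  have hW : IsClopen (u ⁻¹' Set.range u') := hcl.preimage u.continuous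
  have hemp : (u ⁻¹' Set.range u')ᶜ = ∅ := by
    apply eq_empty_of_isClosed_of_disjoint ha _ hW.compl.isClosed
    rw [Set.disjoint_left]
    rintro _ hs ⟨y, rfl⟩
    apply hs
    refine ⟨i y, ?_⟩
    rw [← Scheme.Hom.comp_apply, ← Scheme.Hom.comp_apply, h]
  have hsub : Set.range u ⊆ Set.range u' := by
    rintro _ ⟨s, rfl⟩
    have : s ∈ u ⁻¹' Set.range u' := by
      by_contra hs
      have : s ∈ (u ⁻¹' Set.range u')ᶜ := hs
      rw [hemp] at this
      exact this
    exact this
  let θ : S ⟶ S := IsOpenImmersion.lift u' u hsub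
  have hθ : θ ≫ u' = u := IsOpenImmersion.lift_fac u' u hsub
  have hθ1 : θ = 𝟙 S := by
    have := congrArg (fun k => k ≫ g) hθ
    simp only [Category.assoc, hu', hu, Category.comp_id] at this
    exact this
  rw [← hθ, hθ1, Category.id_comp]

section Exists

variable [CompactSpace ↥S] [QuasiSeparatedSpace ↥S] [IsClosedImmersion i]

/-- under a), a section over `S₀` of an étale separated morphism extends to `S`. -/
theorem section_exists (ha : HensA i) {S' : Scheme.{u}} (g : S' ⟶ S) [Etale g] [IsSeparated g]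
    (u₀ : S₀ ⟶ pullback g i) (hu₀ : u₀ ≫ pullback.snd g i = 𝟙 S₀) :
    ∃ u : S ⟶ S', u ≫ g = 𝟙 S ∧ i ≫ u = u₀ ≫ pullback.fst g i := by
  have : CompactSpace ↥S₀ := i.isClosedEmbedding.compactSpace
  let w₀ : S₀ ⟶ S' := u₀ ≫ pullback.fst g i
  have hw₀ : w₀ ≫ g = i := by
    change (u₀ ≫ pullback.fst g i) ≫ g = i
    rw [Category.assoc, pullback.condition, ← Category.assoc, hu₀, Category.id_comp]
  obtain ⟨S'', hS''c, hS''⟩ := exists_compact_open_superset S' (Set.range w₀)
    (isCompact_range w₀.continuous)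
  have : CompactSpace ↥(S'' : Scheme.{u}) := isCompact_iff_compactSpace.mp hS''c
  let g'' : (S'' : Scheme.{u}) ⟶ S := S''.ι ≫ g
  have : QuasiCompact g'' := quasiCompact_of_compactSpace g''
  have : LocallyQuasiFinite g'' := locallyQuasiFinite_of_etale g''
  obtain ⟨T, j, π, hj, hjqc, hπfin, hπfp, hjπ⟩ := Groth.Agent.S1477.result g''
  -- lifts of the section
  let u₀'' : S₀ ⟶ S'' := IsOpenImmersion.lift S''.ι w₀ (by
    rw [Scheme.Opens.range_ι]; exact hS'')
  have hu₀'' : u₀'' ≫ S''.ι = w₀ := IsOpenImmersion.lift_fac _ _ _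
  let v₀ : S₀ ⟶ T := u₀'' ≫ j
  have hv₀ : v₀ ≫ π = i := by
    change (u₀'' ≫ j) ≫ π = i
    rw [Category.assoc, hjπ]
    change u₀'' ≫ S''.ι ≫ g = i
    rw [← Category.assoc, hu₀'', hw₀]
  let s₀ : S₀ ⟶ pullback π i := pullback.lift v₀ (𝟙 S₀) (by rw [hv₀, Category.id_comp])
  have hs₀1 : s₀ ≫ pullback.fst π i = v₀ := pullback.lift_fst _ _ _
  have hs₀2 : s₀ ≫ pullback.snd π i = 𝟙 S₀ := pullback.lift_snd _ _ _
  have hs₀cl : IsClosedImmersion s₀ := isClosedImmersion_of_section (pullback.snd π i) s₀ hs₀2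
  have hs₀op : IsOpenImmersion s₀ := by
    let s'' : S₀ ⟶ pullback g'' i := pullback.lift u₀'' (𝟙 S₀) (by
      change u₀'' ≫ S''.ι ≫ g = 𝟙 S₀ ≫ i
      rw [← Category.assoc, hu₀'', hw₀, Category.id_comp])
    have hs'' : s'' ≫ pullback.snd g'' i = 𝟙 S₀ := pullback.lift_snd _ _ _
    have : IsOpenImmersion s'' := isOpenImmersion_of_section (pullback.snd g'' i) s'' hs''
    let j₀ : pullback g'' i ⟶ pullback π i := pullback.map g'' i π i j (𝟙 _) (𝟙 _)
      (by rw [Category.comp_id, hjπ]) (by rw [Category.comp_id, Category.id_comp])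
    have hfac : s₀ = s'' ≫ j₀ := by
      apply pullback.hom_ext
      · rw [hs₀1, Category.assoc, pullback.lift_fst, ← Category.assoc, pullback.lift_fst]
      · rw [hs₀2, Category.assoc, pullback.lift_snd, ← Category.assoc, pullback.lift_snd,
          Category.comp_id]
    rw [hfac]
    infer_instance
  have hV₀ : IsClopen (Set.range s₀) :=
    ⟨s₀.isClosedEmbedding.isClosed_range, s₀.isOpenEmbedding.isOpen_range⟩
  obtain ⟨U, ⟨hUc, hUV⟩, -⟩ := ha T π hπfin (Set.range s₀) hV₀
  replace hUV : (pullback.fst π i) ⁻¹' U = Set.range s₀ := hUV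
  -- `U` is contained in the image of `j`
  have hUj : U ⊆ Set.range j := by
    have hcl : IsClosed (π '' (U \ Set.range j)) :=
      π.isClosedMap _ (hUc.isClosed.sdiff j.isOpenEmbedding.isOpen_range)
    have hemp := eq_empty_of_isClosed_of_disjoint ha _ hcl (by
      rw [Set.disjoint_left]
      rintro _ ⟨t, ⟨htU, htj⟩, rfl⟩ ⟨y, hy⟩
      obtain ⟨z, hz1, hz2⟩ := Scheme.Pullback.exists_preimage_pullback (f := π) (g := i) t y hy.symm
      have hz : z ∈ (pullback.fst π i) ⁻¹' U := by
        change (pullback.fst π i) z ∈ U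
        rw [hz1]
        exact htU
      rw [hUV] at hz
      obtain ⟨y', rfl⟩ := hz
      apply htj
      refine ⟨u₀'' y', ?_⟩
      rw [← hz1, ← Scheme.Hom.comp_apply, ← Scheme.Hom.comp_apply, hs₀1])
    intro t ht
    by_contra htj
    have : π t ∈ π '' (U \ Set.range j) := ⟨t, ⟨ht, htj⟩, rfl⟩
    rw [hemp] at this
    exact this
  -- the open subscheme `U` of `T`
  let UT : T.Opens := ⟨U, hUc.isOpen⟩
  have hUTr : Set.range UT.ι = U := Scheme.Opens.range_ι UT
  have hUTcl : IsClosedImmersion UT.ι :=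
    IsClosedImmersion.of_isPreimmersion UT.ι (by rw [hUTr]; exact hUc.isClosed)
  let h : (UT : Scheme.{u}) ⟶ S := UT.ι ≫ π
  let ℓ : (UT : Scheme.{u}) ⟶ S'' := IsOpenImmersion.lift j UT.ι (by rw [hUTr]; exact hUj)
  have hℓ : ℓ ≫ j = UT.ι := IsOpenImmersion.lift_fac _ _ _
  have : IsOpenImmersion ℓ := by
    have : IsOpenImmersion (ℓ ≫ j) := by rw [hℓ]; infer_instance
    exact IsOpenImmersion.of_comp ℓ j
  have hh : h = ℓ ≫ g'' := by
    change UT.ι ≫ π = ℓ ≫ g''
    rw [← hjπ, ← Category.assoc, hℓ]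
  have hhet : Etale h := by rw [hh]; infer_instance
  have hhfin : IsFinite h := inferInstanceAs (IsFinite (UT.ι ≫ π))
  -- `pullback.snd h i` is an isomorphism
  have hiso₀ : IsIso (pullback.snd h i) := by
    let q' := pullback.snd UT.ι (pullback.fst π i)
    have hq' : Set.range q' = Set.range s₀ := by
      rw [Scheme.Pullback.range_snd, hUTr]
      exact hUV
    let e₁ : pullback UT.ι (pullback.fst π i) ≅ S₀ := IsOpenImmersion.isoOfRangeEq q' s₀ hq'
    have he₁ : e₁.hom ≫ s₀ = q' := IsOpenImmersion.isoOfRangeEq_hom_fac q' s₀ hq'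
    let e₂ := pullbackRightPullbackFstIso π i UT.ι
    have he₂ : e₂.hom ≫ pullback.snd h i = q' ≫ pullback.snd π i :=
      pullbackRightPullbackFstIso_hom_snd π i UT.ι
    have : pullback.snd h i = e₂.inv ≫ e₁.hom := by
      rw [Iso.eq_inv_comp, he₂, ← he₁, Category.assoc, hs₀2, Category.comp_id]
    rw [this]
    infer_instance
  -- the rank of `h` is one
  have hrank : Scheme.Hom.finrank h = 1 := by
    have hlc := Scheme.Hom.isLocallyConstant_finrank h
    have hcl : IsClopen {s | Scheme.Hom.finrank h s = 1}ᶜ := (hlc.isClopen_fiber 1).compl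
    have hemp := eq_empty_of_isClosed_of_disjoint ha _ hcl.isClosed (by
      rw [Set.disjoint_left]
      rintro _ hs ⟨y, rfl⟩
      apply hs
      change Scheme.Hom.finrank h (i y) = 1
      rw [← Scheme.Hom.finrank_pullback_snd h i y, Scheme.Hom.finrank_eq_one_of_isIso]
      rfl)
    ext s
    by_contra hs
    have : s ∈ {s | Scheme.Hom.finrank h s = 1}ᶜ := hs
    rw [hemp] at this
    exact this
  have hiso : IsIso h := (Scheme.Hom.isIso_iff_finrank_eq h).2 hrank
  -- the section
  refine ⟨inv h ≫ ℓ ≫ S''.ι, ?_, ?_⟩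
  · rw [Category.assoc, Category.assoc]
    change inv h ≫ ℓ ≫ g'' = _
    rw [← hh, IsIso.inv_hom_id]
  · have hrange : Set.range v₀ ⊆ Set.range UT.ι := by
      rw [hUTr]
      rintro _ ⟨y, rfl⟩
      have : s₀ y ∈ (pullback.fst π i) ⁻¹' U := by
        rw [hUV]
        exact ⟨y, rfl⟩
      change (pullback.fst π i) (s₀ y) ∈ U at this
      rwa [← Scheme.Hom.comp_apply, hs₀1] at this
    let w : S₀ ⟶ UT := IsOpenImmersion.lift UT.ι v₀ hrange
    have hw : w ≫ UT.ι = v₀ := IsOpenImmersion.lift_fac _ _ _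
    have hwh : w ≫ h = i := by
      change w ≫ UT.ι ≫ π = i
      rw [← Category.assoc, hw, hv₀]
    have h1 : i ≫ inv h = w := by
      rw [← hwh, Category.assoc, IsIso.hom_inv_id, Category.comp_id]
    have h2 : w ≫ ℓ = u₀'' := by
      rw [← cancel_mono j, Category.assoc, hℓ, hw]
    change i ≫ inv h ≫ ℓ ≫ S''.ι = w₀
    rw [← Category.assoc, h1, ← Category.assoc, h2, hu₀'']

end Exists

end Groth.Agent.Lib.R2H3.HensSect
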