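import Groth.Prelude.Def_AutFam
import Groth.Agent.Lib.R2H3MultActRed

/-!
# Base change of the representing object of `Hom_{S-gr}(G, H)` (helper3, round 2)

* `bcFam w υ`: base change along `w : O ⟶ S` of a family `υ : G ⊗ A ⟶ H`.
* `famDown w φ₀`: a family `bc w G ⊗ T₀ ⟶ bc w H` over `O` as a family `G ⊗ T₀ ⟶ H` over `S`
  (`T₀` regarded over `S` through `w`).
* `representsHom_bc`: if `(A, υ)` represents `Hom_{S-gr}(G, H)` then `(bc w A, bcFam w υ)`
  represents `Hom_{O-gr}(bc w G, bc w H)`.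
-/

set_option autoImplicit false
set_option linter.style.haveILetI false
set_option linter.unusedVariables false
set_option linter.unusedSectionVars false

universe u

open CategoryTheory MonoidalCategory CartesianMonoidalCategory MonObj GrpObj AlgebraicGeometry
  CategoryTheory.Limits
open Groth.Agent.Lib.R2H3.MultAct

namespace Groth.Agent.Lib.R2H3.HomRepBC

variable {S O : Scheme.{u}} (w : O ⟶ S)

lemma adjE_map {A B : Over S} (F : A ⟶ B) (Y : Over O) (h : Y ⟶ Red.bc w A) :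
    adjE w B Y (h ≫ (Over.pullback w).map F) = adjE w A Y h ≫ F :=
  (Over.mapPullbackAdj w).homEquiv_naturality_right_symm h F

section Fam

variable (G H A : Over S)

/-- base change of a family. -/
noncomputable def bcFam (υ : G ⊗ A ⟶ H) : Red.bc w G ⊗ Red.bc w A ⟶ Red.bc w H :=
  Functor.LaxMonoidal.μ (Over.pullback w) G A ≫ (Over.pullback w).map υ

lemma adjE_lift_mu (Y₀ : Over O) (g₀ : Y₀ ⟶ Red.bc w G) (a₀ : Y₀ ⟶ Red.bc w A) :
    adjE w (G ⊗ A) Y₀ (lift g₀ a₀ ≫ Functor.LaxMonoidal.μ (Over.pullback w) G A) =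
      lift (adjE w G Y₀ g₀) (adjE w A Y₀ a₀) := by
  apply CartesianMonoidalCategory.hom_ext
  · rw [lift_fst, ← adjE_map, Category.assoc, Functor.Monoidal.μ_fst, lift_fst]
  · rw [lift_snd, ← adjE_map, Category.assoc, Functor.Monoidal.μ_snd, lift_snd]

lemma adjE_bcFam (υ : G ⊗ A ⟶ H) (Y₀ : Over O) (g₀ : Y₀ ⟶ Red.bc w G) (a₀ : Y₀ ⟶ Red.bc w A) :
    adjE w H Y₀ (lift g₀ a₀ ≫ bcFam w G H A υ) =
      lift (adjE w G Y₀ g₀) (adjE w A Y₀ a₀) ≫ υ := by
  rw [bcFam, ← Category.assoc, adjE_map, adjE_lift_mu]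

variable (T₀ : Over O)

/-- the comparison `G ×_S T₀ ⟶ (G ×_S O) ×_O T₀`. -/
noncomputable def theta : (G ⊗ (Over.map w).obj T₀).left ⟶ (Red.bc w G ⊗ T₀).left :=
  pullback.lift (pullback.lift (pullback.fst G.hom (T₀.hom ≫ w))
      (pullback.snd G.hom (T₀.hom ≫ w) ≫ T₀.hom)
      (by rw [Category.assoc]; exact pullback.condition))
    (pullback.snd G.hom (T₀.hom ≫ w))
    (by
      change pullback.lift _ _ _ ≫ pullback.snd G.hom w = _
      rw [pullback.lift_snd])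

lemma theta_fst_fst : theta w G T₀ ≫ pullback.fst (Red.bc w G).hom T₀.hom ≫
    pullback.fst G.hom w = pullback.fst G.hom (T₀.hom ≫ w) := by
  unfold theta
  rw [pullback.lift_fst_assoc, pullback.lift_fst]

lemma theta_snd : theta w G T₀ ≫ pullback.snd (Red.bc w G).hom T₀.hom =
    pullback.snd G.hom (T₀.hom ≫ w) := by
  unfold theta
  rw [pullback.lift_snd]

variable {G H}

/-- a family over `O` as a family over `S`. -/
noncomputable def famDown (φ₀ : Red.bc w G ⊗ T₀ ⟶ Red.bc w H) :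
    G ⊗ (Over.map w).obj T₀ ⟶ H :=
  Over.homMk (theta w G T₀ ≫ φ₀.left ≫ pullback.fst H.hom w) (by
    have h1 : φ₀.left ≫ pullback.snd H.hom w = (Red.bc w G ⊗ T₀).hom := Over.w φ₀
    have h2 : (Red.bc w G ⊗ T₀).hom = pullback.snd (Red.bc w G).hom T₀.hom ≫ T₀.hom := by
      rw [Over.tensorObj_hom]
      exact pullback.condition
    change (theta w G T₀ ≫ φ₀.left ≫ pullback.fst H.hom w) ≫ H.hom =
      pullback.fst G.hom (T₀.hom ≫ w) ≫ G.hom
    rw [Category.assoc, Category.assoc, pullback.condition, ← Category.assoc φ₀.left, h1, h2,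
      Category.assoc, ← Category.assoc (theta w G T₀), theta_snd, pullback.condition])

lemma famDown_left (φ₀ : Red.bc w G ⊗ T₀ ⟶ Red.bc w H) :
    (famDown w T₀ φ₀).left = theta w G T₀ ≫ φ₀.left ≫ pullback.fst H.hom w := rfl

lemma liftL_fst (Y₀ : Over O) (g : (Over.map w).obj Y₀ ⟶ G) (t₀ : Y₀ ⟶ T₀) :
    (lift g ((Over.map w).map t₀)).left ≫ pullback.fst G.hom (T₀.hom ≫ w) = g.left := by
  rw [Over.lift_left]
  exact pullback.lift_fst _ _ _

lemma liftL_snd (Y₀ : Over O) (g : (Over.map w).obj Y₀ ⟶ G) (t₀ : Y₀ ⟶ T₀) :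
    (lift g ((Over.map w).map t₀)).left ≫ pullback.snd G.hom (T₀.hom ≫ w) = t₀.left := by
  rw [Over.lift_left]
  exact pullback.lift_snd _ _ _

lemma liftO_fst (Y₀ : Over O) (g₀ : Y₀ ⟶ Red.bc w G) (t₀ : Y₀ ⟶ T₀) :
    (lift g₀ t₀).left ≫ pullback.fst (Red.bc w G).hom T₀.hom = g₀.left := by
  rw [Over.lift_left]
  exact pullback.lift_fst _ _ _

lemma liftO_snd (Y₀ : Over O) (g₀ : Y₀ ⟶ Red.bc w G) (t₀ : Y₀ ⟶ T₀) :
    (lift g₀ t₀).left ≫ pullback.snd (Red.bc w G).hom T₀.hom = t₀.left := by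
  rw [Over.lift_left]
  exact pullback.lift_snd _ _ _

lemma lift_comp_theta (Y₀ : Over O) (g₀ : Y₀ ⟶ Red.bc w G) (t₀ : Y₀ ⟶ T₀) :
    (lift (adjE w G Y₀ g₀) ((Over.map w).map t₀)).left ≫ theta w G T₀ = (lift g₀ t₀).left := by
  have h2 : g₀.left ≫ pullback.snd G.hom w = Y₀.hom := Over.w g₀
  have h3 : theta w G T₀ ≫ pullback.fst (Red.bc w G).hom T₀.hom ≫ pullback.snd G.hom w =
      pullback.snd G.hom (T₀.hom ≫ w) ≫ T₀.hom := by
    unfold theta
    rw [pullback.lift_fst_assoc, pullback.lift_snd]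
  apply pullback.hom_ext
  · rw [liftO_fst]
    apply pullback.hom_ext
    · rw [Category.assoc, Category.assoc, theta_fst_fst, liftL_fst]
      rfl
    · rw [Category.assoc, Category.assoc, h3, ← Category.assoc, liftL_snd, h2]
      exact Over.w t₀
  · rw [Category.assoc, theta_snd, liftL_snd, liftO_snd]

/-- the action of `famDown φ₀` on points. -/
lemma adjE_lift_comp (φ₀ : Red.bc w G ⊗ T₀ ⟶ Red.bc w H) (Y₀ : Over O)
    (g₀ : Y₀ ⟶ Red.bc w G) (t₀ : Y₀ ⟶ T₀) :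
    adjE w H Y₀ (lift g₀ t₀ ≫ φ₀) =
      lift (adjE w G Y₀ g₀) ((Over.map w).map t₀) ≫ famDown w T₀ φ₀ := by
  apply Over.OverMorphism.ext
  change ((lift g₀ t₀).left ≫ φ₀.left) ≫ pullback.fst H.hom w =
    (lift (adjE w G Y₀ g₀) ((Over.map w).map t₀)).left ≫ (famDown w T₀ φ₀).left
  rw [famDown_left, ← Category.assoc _ (theta w G T₀), lift_comp_theta, Category.assoc]

/-- every point of `G ⊗ T₀` over `S` comes from a point over `O`. -/
lemma exists_pt {Y : Over S} (t : Y ⟶ (Over.map w).obj T₀) :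
    ∃ (Y₀ : Over O) (k : Y ≅ (Over.map w).obj Y₀) (t₀ : Y₀ ⟶ T₀),
      t = k.hom ≫ (Over.map w).map t₀ := by
  refine ⟨Over.mk (t.left ≫ T₀.hom), Over.isoMk (Iso.refl _) ?_, Over.homMk t.left rfl, ?_⟩
  · change 𝟙 _ ≫ (t.left ≫ T₀.hom) ≫ w = Y.hom
    rw [Category.id_comp, Category.assoc]
    exact Over.w t
  · apply Over.OverMorphism.ext
    change t.left = 𝟙 _ ≫ t.left
    rw [Category.id_comp]

end Fam

section Rep

variable {G H A : Over S} [GrpObj G] [GrpObj H]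

/-- a family of homomorphisms over `O` gives a family of homomorphisms over `S`. -/
theorem isHomFamily_famDown (T₀ : Over O) (φ₀ : Red.bc w G ⊗ T₀ ⟶ Red.bc w H)
    (hφ₀ : AutFam.IsHomFamily (Red.bc w G) (Red.bc w H) φ₀) :
    AutFam.IsHomFamily G H (famDown w T₀ φ₀) := by
  intro Y g₁ g₂ t
  obtain ⟨Y₀, k, t₀, rfl⟩ := exists_pt w T₀ t
  obtain ⟨g₁₀, hg₁⟩ : ∃ g₁₀ : Y₀ ⟶ Red.bc w G, g₁ = k.hom ≫ adjE w G Y₀ g₁₀ :=
    ⟨(adjE w G Y₀).symm (k.inv ≫ g₁), by rw [Equiv.apply_symm_apply, Iso.hom_inv_id_assoc]⟩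
  obtain ⟨g₂₀, hg₂⟩ : ∃ g₂₀ : Y₀ ⟶ Red.bc w G, g₂ = k.hom ≫ adjE w G Y₀ g₂₀ :=
    ⟨(adjE w G Y₀).symm (k.inv ≫ g₂), by rw [Equiv.apply_symm_apply, Iso.hom_inv_id_assoc]⟩
  have key : ∀ g₀ : Y₀ ⟶ Red.bc w G,
      lift (k.hom ≫ adjE w G Y₀ g₀) (k.hom ≫ (Over.map w).map t₀) ≫ famDown w T₀ φ₀ =
        k.hom ≫ adjE w H Y₀ (lift g₀ t₀ ≫ φ₀) := by
    intro g₀
    rw [adjE_lift_comp, ← Category.assoc, comp_lift]
  rw [hg₁, hg₂, ← MonObj.comp_mul, ← adjE_mul, key, key, key, hφ₀, adjE_mul, MonObj.comp_mul]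

/-- **Base change of the representing object of the functor of homomorphisms.** -/
theorem representsHom_bc (υ : G ⊗ A ⟶ H) (hA : AutFam.RepresentsHom G H A υ) :
    AutFam.RepresentsHom (Red.bc w G) (Red.bc w H) (Red.bc w A) (bcFam w G H A υ) := by
  obtain ⟨hυ, huniv⟩ := hA
  refine ⟨?_, ?_⟩
  · intro X₀ g₁ g₂ t₀
    apply (adjE w H X₀).injective
    rw [adjE_bcFam, adjE_mul, adjE_mul, adjE_bcFam, adjE_bcFam]
    exact hυ _ _ _ _
  · intro T₀ φ₀ hφ₀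
    obtain ⟨a, ha, hau⟩ := huniv ((Over.map w).obj T₀) (famDown w T₀ φ₀)
      (isHomFamily_famDown w T₀ φ₀ hφ₀)
    have ha : (G ◁ a) ≫ υ = famDown w T₀ φ₀ := ha
    -- a morphism `bc w G ⊗ T₀ ⟶ bc w H` is determined by its action on points, through `adjE`
    have hC1 : ∀ (Y₀ : Over O) (g₀ : Y₀ ⟶ Red.bc w G) (t₀ : Y₀ ⟶ T₀) (a₀ : T₀ ⟶ Red.bc w A),
        adjE w H Y₀ (lift g₀ t₀ ≫ (Red.bc w G ◁ a₀) ≫ bcFam w G H A υ) =
          lift (adjE w G Y₀ g₀) ((Over.map w).map t₀) ≫ (G ◁ adjE w A T₀ a₀) ≫ υ := by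
      intro Y₀ g₀ t₀ a₀
      rw [← Category.assoc, lift_whiskerLeft, adjE_bcFam, adjE_comp, ← Category.assoc (lift _ _),
        lift_whiskerLeft]
    have hpt : ∀ a₀ : T₀ ⟶ Red.bc w A, (Red.bc w G ◁ a₀) ≫ bcFam w G H A υ = φ₀ ↔
        (G ◁ adjE w A T₀ a₀) ≫ υ = famDown w T₀ φ₀ := by
      intro a₀
      constructor
      · intro h
        obtain ⟨Y₀, k, t₀, ht₀⟩ := exists_pt w T₀ (snd G ((Over.map w).obj T₀))
        obtain ⟨g₀, hg₀⟩ : ∃ g₀ : Y₀ ⟶ Red.bc w G,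
            fst G ((Over.map w).obj T₀) = k.hom ≫ adjE w G Y₀ g₀ :=
          ⟨(adjE w G Y₀).symm (k.inv ≫ fst G ((Over.map w).obj T₀)),
            by rw [Equiv.apply_symm_apply, Iso.hom_inv_id_assoc]⟩
        have hid : 𝟙 (G ⊗ (Over.map w).obj T₀) =
            k.hom ≫ lift (adjE w G Y₀ g₀) ((Over.map w).map t₀) := by
          rw [comp_lift, ← hg₀, ← ht₀, lift_fst_snd]
        have h1 : lift (adjE w G Y₀ g₀) ((Over.map w).map t₀) ≫ (G ◁ adjE w A T₀ a₀) ≫ υ =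
            lift (adjE w G Y₀ g₀) ((Over.map w).map t₀) ≫ famDown w T₀ φ₀ := by
          rw [← hC1, h, adjE_lift_comp]
        calc (G ◁ adjE w A T₀ a₀) ≫ υ
            = 𝟙 _ ≫ (G ◁ adjE w A T₀ a₀) ≫ υ := (Category.id_comp _).symm
          _ = 𝟙 _ ≫ famDown w T₀ φ₀ := by
              rw [hid, Category.assoc, h1, Category.assoc]
          _ = famDown w T₀ φ₀ := Category.id_comp _
      · intro h
        have h1 : lift (fst (Red.bc w G) T₀) (snd (Red.bc w G) T₀) ≫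
            (Red.bc w G ◁ a₀) ≫ bcFam w G H A υ =
            lift (fst (Red.bc w G) T₀) (snd (Red.bc w G) T₀) ≫ φ₀ := by
          apply (adjE w H _).injective
          rw [hC1, h, adjE_lift_comp]
        rw [lift_fst_snd, Category.id_comp, Category.id_comp] at h1
        exact h1
    refine ⟨(adjE w A T₀).symm a, ?_, ?_⟩
    · change (Red.bc w G ◁ (adjE w A T₀).symm a) ≫ bcFam w G H A υ = φ₀
      rw [hpt, Equiv.apply_symm_apply, ha]
    · intro a₀' ha₀'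
      have ha₀' : (Red.bc w G ◁ a₀') ≫ bcFam w G H A υ = φ₀ := ha₀'
      rw [hpt] at ha₀'
      have := hau _ ha₀'
      rw [← this, Equiv.symm_apply_apply]

end Rep

end Groth.Agent.Lib.R2H3.HomRepBC
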