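import Groth.Agent.Lib.R2H3MultActAlg
import Groth.Agent.Lib.H6xDSPts

/-!
# Actions of diagonalisable groups on affine schemes, on points (helper3, round 2)

`PtAction Gw Xw`: an action of the group object `Gw` on `Xw` in `Over W`, given on points.
An action of `D_W(M)` on an affine `W`-scheme `Spec C` gives a `FunAct C (Multiplicative M)`;
the rigidity theorem `FunAct.trivial` then gives `PtAction.trivial_of_affine`.
-/

set_option autoImplicit false
set_option linter.style.haveILetI false
set_option linter.unusedVariables false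
set_option linter.unusedSectionVars false

universe u

open CategoryTheory MonoidalCategory CartesianMonoidalCategory MonObj GrpObj AlgebraicGeometry
  CategoryTheory.Limits
open Groth.Agent.Lib.Helper27.GaGm Groth.Agent.Lib.H6xDSPts

namespace Groth.Agent.Lib.R2H3.MultAct

/-- an action of a group object on an object of `Over W`, given on points. -/
structure PtAction {W : Scheme.{u}} (Gw Xw : Over W) [GrpObj Gw] where
  /-- the action on `Y`-points -/
  smul : ∀ {Y : Over W}, (Y ⟶ Gw) → (Y ⟶ Xw) → (Y ⟶ Xw)
  one_smul : ∀ {Y : Over W} (x : Y ⟶ Xw), smul 1 x = x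
  mul_smul : ∀ {Y : Over W} (g h : Y ⟶ Gw) (x : Y ⟶ Xw), smul (g * h) x = smul g (smul h x)
  comp_smul : ∀ {Y Y' : Over W} (k : Y' ⟶ Y) (g : Y ⟶ Gw) (x : Y ⟶ Xw),
    k ≫ smul g x = smul (k ≫ g) (k ≫ x)

section RingOf

variable {B C : Type u} [CommRing B] [CommRing C]

/-- the ring hom of a morphism of affine schemes. -/
noncomputable def ringOf (z : Spec (CommRingCat.of B) ⟶ Spec (CommRingCat.of C)) : C →+* B :=
  (Spec.preimage z).hom

lemma specMap_ringOf (z : Spec (CommRingCat.of B) ⟶ Spec (CommRingCat.of C)) :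
    Spec.map (CommRingCat.ofHom (ringOf z)) = z := by
  unfold ringOf
  simp [Spec.map_preimage]

lemma ringOf_specMap (α : C →+* B) : ringOf (Spec.map (CommRingCat.ofHom α)) = α := by
  unfold ringOf
  rw [Spec.preimage_map]
  rfl

lemma ringOf_injective :
    Function.Injective (ringOf : (Spec (CommRingCat.of B) ⟶ Spec (CommRingCat.of C)) → _) := by
  intro z z' h
  rw [← specMap_ringOf z, ← specMap_ringOf z', h]

lemma fn_eq_ringOf (z : Spec (CommRingCat.of B) ⟶ Spec (CommRingCat.of C)) (c : C) :
    fn z c = (Scheme.ΓSpecIso (CommRingCat.of B)).inv (ringOf z c) := by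
  conv_lhs => rw [← specMap_ringOf z, ← Category.id_comp (Spec.map _), fn_specMap]
  unfold fn
  simp

lemma ΓSpecIso_inv_injective :
    Function.Injective ((Scheme.ΓSpecIso (CommRingCat.of B)).inv :
      CommRingCat.of B ⟶ _) :=
  (ConcreteCategory.bijective_of_isIso (Scheme.ΓSpecIso (CommRingCat.of B)).inv).1

end RingOf

section Affine

variable {W : Scheme.{u}} {M : Type} [AddCommGroup M] {C : Type u} [CommRing C]
  (π : Spec (CommRingCat.of C) ⟶ W)

/-- the `W`-scheme `Spec B` attached to a `B`-point `α` of `Spec C`. -/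
noncomputable abbrev Yof {B : Type u} [CommRing B] (α : C →+* B) : Over W :=
  Over.mk (Spec.map (CommRingCat.ofHom α) ≫ π)

/-- the tautological point of `Spec C` over `Yof π α`. -/
noncomputable def xof {B : Type u} [CommRing B] (α : C →+* B) : Yof π α ⟶ Over.mk π :=
  Over.homMk (Spec.map (CommRingCat.ofHom α)) rfl

@[simp] lemma xof_left {B : Type u} [CommRing B] (α : C →+* B) :
    (xof π α).left = Spec.map (CommRingCat.ofHom α) := rfl

/-- a character with values in `B`, as a character with values in `Γ(Spec B)`. -/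
noncomputable def chiΓ {B : Type u} [CommRing B] (α : C →+* B) (χ : Multiplicative M →* B) :
    Multiplicative M →* Γ((Yof π α).left, ⊤) where
  toFun m := (Scheme.ΓSpecIso (CommRingCat.of B)).inv (χ m)
  map_one' := by
    rw [map_one]
    exact map_one (Scheme.ΓSpecIso (CommRingCat.of B)).inv.hom
  map_mul' a b := by
    rw [map_mul]
    exact map_mul (Scheme.ΓSpecIso (CommRingCat.of B)).inv.hom _ _

/-- the point of `D_W(M)` over `Yof π α` attached to a character `χ`. -/
noncomputable def gof {B : Type u} [CommRing B] (α : C →+* B) (χ : Multiplicative M →* B) :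
    Yof π α ⟶ Red.DS W M :=
  (dsFn_surj (S := W) (X := Yof π α) (chiΓ π α χ)).choose

lemma dsFn_gof {B : Type u} [CommRing B] (α : C →+* B) (χ : Multiplicative M →* B) (m : M) :
    dsFn (gof π α χ) m =
      (Scheme.ΓSpecIso (CommRingCat.of B)).inv (χ (Multiplicative.ofAdd m)) :=
  (dsFn_surj (S := W) (X := Yof π α) (chiΓ π α χ)).choose_spec m

lemma specMap_comp_eq {B B' : Type u} [CommRing B] [CommRing B'] (α : C →+* B) (β : B →+* B') :
    Spec.map (CommRingCat.ofHom (β.comp α)) =
      Spec.map (CommRingCat.ofHom β) ≫ Spec.map (CommRingCat.ofHom α) := by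
  rw [← Spec.map_comp]
  rfl

/-- the morphism `Yof π (β ∘ α) ⟶ Yof π α` induced by `β`. -/
noncomputable def kof {B B' : Type u} [CommRing B] [CommRing B'] (α : C →+* B) (β : B →+* B') :
    Yof π (β.comp α) ⟶ Yof π α :=
  Over.homMk (Spec.map (CommRingCat.ofHom β)) (by
    simp only [Over.mk_left, Over.mk_hom]
    rw [specMap_comp_eq, Category.assoc])

@[simp] lemma kof_left {B B' : Type u} [CommRing B] [CommRing B'] (α : C →+* B) (β : B →+* B') :
    (kof π α β).left = Spec.map (CommRingCat.ofHom β) := rfl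

lemma kof_xof {B B' : Type u} [CommRing B] [CommRing B'] (α : C →+* B) (β : B →+* B') :
    kof π α β ≫ xof π α = xof π (β.comp α) := by
  apply Over.OverMorphism.ext
  simp only [Over.comp_left, kof_left, xof_left]
  rw [specMap_comp_eq]

lemma kof_gof {B B' : Type u} [CommRing B] [CommRing B'] (α : C →+* B) (β : B →+* B')
    (χ : Multiplicative M →* B) :
    kof π α β ≫ gof π α χ = gof π (β.comp α) ((β : B →* B').comp χ) := by
  apply dsFn_ext
  intro m
  rw [dsFn_comp, dsFn_gof, dsFn_gof, kof_left]
  have := Scheme.ΓSpecIso_inv_naturality (CommRingCat.ofHom β)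
  exact (congrArg (fun k => k.hom (χ (Multiplicative.ofAdd m))) this).symm

lemma gof_one {B : Type u} [CommRing B] (α : C →+* B) :
    gof π α (1 : Multiplicative M →* B) = 1 := by
  apply dsFn_ext
  intro m
  rw [dsFn_gof, dsFn_one, MonoidHom.one_apply]
  exact map_one (Scheme.ΓSpecIso (CommRingCat.of B)).inv.hom

lemma gof_mul {B : Type u} [CommRing B] (α : C →+* B) (χ₁ χ₂ : Multiplicative M →* B) :
    gof π α (χ₁ * χ₂) = gof π α χ₁ * gof π α χ₂ := by
  apply dsFn_ext
  intro m
  rw [dsFn_mul, dsFn_gof, dsFn_gof, dsFn_gof, MonoidHom.mul_apply]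
  exact map_mul (Scheme.ΓSpecIso (CommRingCat.of B)).inv.hom _ _

lemma ringOf_specMap_comp {B B' : Type u} [CommRing B] [CommRing B'] (β : B →+* B')
    (z : Spec (CommRingCat.of B) ⟶ Spec (CommRingCat.of C)) :
    ringOf (Spec.map (CommRingCat.ofHom β) ≫ z) = β.comp (ringOf z) := by
  conv_lhs => rw [← specMap_ringOf z, ← specMap_comp_eq, ringOf_specMap]

variable (P : PtAction (Red.DS W M) (Over.mk π))

/-- the point `χ • α`, as a morphism of affine schemes. -/
noncomputable def actPt {B : Type u} [CommRing B] (χ : Multiplicative M →* B) (α : C →+* B) :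
    Spec (CommRingCat.of B) ⟶ Spec (CommRingCat.of C) :=
  (P.smul (gof π α χ) (xof π α)).left

lemma actPt_w {B : Type u} [CommRing B] (χ : Multiplicative M →* B) (α : C →+* B) :
    actPt π P χ α ≫ π = Spec.map (CommRingCat.ofHom α) ≫ π :=
  Over.w (P.smul (gof π α χ) (xof π α))

/-- the identity of `Spec B`, from the structure `χ • α` to the structure `α`. -/
noncomputable def idof {B : Type u} [CommRing B] (χ : Multiplicative M →* B) (α : C →+* B) :
    Yof π (ringOf (actPt π P χ α)) ⟶ Yof π α :=
  Over.homMk (𝟙 _) (by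
    simp only [Over.mk_left, Over.mk_hom, Category.id_comp]
    rw [specMap_ringOf, actPt_w])

lemma idof_left {B : Type u} [CommRing B] (χ : Multiplicative M →* B) (α : C →+* B) :
    (idof π P χ α).left = 𝟙 _ := rfl

lemma idof_smul {B : Type u} [CommRing B] (χ : Multiplicative M →* B) (α : C →+* B) :
    idof π P χ α ≫ P.smul (gof π α χ) (xof π α) = xof π (ringOf (actPt π P χ α)) := by
  apply Over.OverMorphism.ext
  rw [Over.comp_left, idof_left, Category.id_comp, xof_left, specMap_ringOf]
  rfl

lemma idof_gof {B : Type u} [CommRing B] (χ : Multiplicative M →* B) (α : C →+* B)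
    (χ₁ : Multiplicative M →* B) :
    idof π P χ α ≫ gof π α χ₁ = gof π (ringOf (actPt π P χ α)) χ₁ := by
  apply dsFn_ext
  intro m
  rw [dsFn_comp, dsFn_gof, dsFn_gof, idof_left]
  simp

/-- the functorial action attached to an action of `D_W(M)` on `Spec C`. -/
noncomputable def toFunAct : FunAct C (Multiplicative M) where
  act B _ χ α := ringOf (actPt π P χ α)
  nat B B' _ _ β χ α := by
    have h := P.comp_smul (kof π α β) (gof π α χ) (xof π α)
    rw [kof_gof, kof_xof] at h
    have h2 := congrArg (fun k => k.left) h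
    simp only [Over.comp_left, kof_left] at h2
    rw [← ringOf_specMap_comp]
    exact congrArg ringOf h2.symm
  one B _ α := by
    unfold actPt
    rw [gof_one, P.one_smul, xof_left, ringOf_specMap]
  mul B _ χ₁ χ₂ α := by
    have h := P.comp_smul (idof π P χ₂ α) (gof π α χ₁) (P.smul (gof π α χ₂) (xof π α))
    rw [idof_gof, idof_smul, ← P.mul_smul, ← gof_mul] at h
    have h2 := congrArg (fun k => k.left) h
    simp only [Over.comp_left, idof_left, Category.id_comp] at h2
    exact congrArg ringOf h2

lemma toSpecΓ_appTop_inv {Y : Scheme.{u}} (b : Γ(Y, ⊤)) :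
    Y.toSpecΓ.appTop ((Scheme.ΓSpecIso Γ(Y, ⊤)).inv b) = b := by
  rw [Scheme.toSpecΓ_appTop]
  exact congrArg (fun k => k.hom b) (Scheme.ΓSpecIso Γ(Y, ⊤)).inv_hom_id

/-- **Rigidity, affine case**: an action of `D_W(M)` on an affine `W`-scheme `Spec C` which is
linear over `φ : R → C` and trivial on the points killing the nilpotent ideal `J` is trivial. -/
theorem PtAction.trivial_of_affine {R : Type u} [CommRing R] (φ : R →+* C) (J : Ideal R)
    (hJ : IsNilpotent J)
    (hlin : ∀ (Y : Over W) (x x' : Y ⟶ Over.mk π) (r : R),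
      fn (A := C) x.left (φ r) = fn (A := C) x'.left (φ r))
    (htriv : ∀ (Y : Over W) (g : Y ⟶ Red.DS W M) (x : Y ⟶ Over.mk π),
      (∀ r ∈ J, fn (A := C) x.left (φ r) = 0) → P.smul g x = x)
    (Y : Over W) (g : Y ⟶ Red.DS W M) (x : Y ⟶ Over.mk π) : P.smul g x = x := by
  -- affine points
  have haff : ∀ (B : Type u) [CommRing B] (χ : Multiplicative M →* B) (α : C →+* B),
      P.smul (gof π α χ) (xof π α) = xof π α := by
    intro B _ χ α
    have h := FunAct.trivial (toFunAct π P) φ J hJ ?_ ?_ B χ α
    · apply Over.OverMorphism.ext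
      rw [xof_left]
      apply ringOf_injective
      rw [ringOf_specMap]
      exact h
    · intro B _ χ α r
      have h1 := hlin (Yof π α) (P.smul (gof π α χ) (xof π α)) (xof π α) r
      rw [xof_left] at h1
      erw [fn_eq_ringOf, fn_eq_ringOf, ringOf_specMap] at h1
      exact ΓSpecIso_inv_injective h1
    · intro B _ χ α hα
      have h1 := htriv (Yof π α) (gof π α χ) (xof π α) (by
        intro r hr
        rw [xof_left]
        erw [fn_eq_ringOf, ringOf_specMap, hα r hr]
        exact map_zero (Scheme.ΓSpecIso (CommRingCat.of B)).inv.hom)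
      change ringOf (actPt π P χ α) = α
      unfold actPt
      rw [h1, xof_left, ringOf_specMap]
  -- the general case
  obtain ⟨χ, hχ⟩ : ∃ χ : Multiplicative M →* Γ(Y.left, ⊤),
      ∀ m, χ (Multiplicative.ofAdd m) = dsFn g m :=
    ⟨{ toFun := fun m => dsFn g (Multiplicative.toAdd m)
       map_one' := dsFn_zero g
       map_mul' := fun a b => dsFn_add g _ _ }, fun m => rfl⟩
  obtain ⟨α, hα⟩ : ∃ α : C →+* Γ(Y.left, ⊤), α = fnHom (A := C) x.left := ⟨_, rfl⟩
  have hk : Y.left.toSpecΓ ≫ Spec.map (CommRingCat.ofHom α) = x.left := by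
    apply fn_ext (A := C)
    intro c
    rw [fn_specMap]
    unfold fn
    rw [toSpecΓ_appTop_inv, hα]
    rfl
  let k : Y ⟶ Yof π α := Over.homMk (Y.left.toSpecΓ) (by
    simp only [Over.mk_left, Over.mk_hom]
    rw [← Category.assoc, hk]
    exact Over.w x)
  have hkx : k ≫ xof π α = x := by
    apply Over.OverMorphism.ext
    rw [Over.comp_left, xof_left]
    exact hk
  have hkg : k ≫ gof π α χ = g := by
    apply dsFn_ext
    intro m
    rw [dsFn_comp, dsFn_gof, hχ]
    exact toSpecΓ_appTop_inv _
  rw [← hkx, ← hkg, ← P.comp_smul, haff]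

end Affine

end Groth.Agent.Lib.R2H3.MultAct
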