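import Groth.Agent.Lib.R2H3MultAutAlg
import Groth.Agent.Lib.R2H3MultActGeo

/-!
# Actions by group automorphisms on a diagonalisable group (helper3, round 2)

Let `K'` be a `W`-group with geometrically connected fibres acting (on points) on `D_W(M)` by group
automorphisms.  Then the action is trivial: the action on characters is given by a matrix of
idempotents, whose diagonal is locally constant on `K'`, and equal to `1` along the unit section.
-/

set_option autoImplicit false
set_option linter.style.haveILetI false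
set_option linter.unusedVariables false
set_option linter.unusedSectionVars false

universe u

open CategoryTheory MonoidalCategory CartesianMonoidalCategory MonObj GrpObj AlgebraicGeometry
  CategoryTheory.Limits
open Groth.Agent.Lib.Helper27.GaGm Groth.Agent.Lib.H6xDSPts

namespace Groth.Agent.Lib.R2H3.MultAct

section Chars

variable {W : Scheme.{u}} {M : Type} [AddCommGroup M]

/-- a character with values in `B`, as a character with values in `Γ(Spec B)`. -/
noncomputable def chiq {B : Type u} [CommRing B] (q : Spec (CommRingCat.of B) ⟶ W)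
    (χ : Multiplicative M →* B) : Multiplicative M →* Γ((Over.mk q).left, ⊤) where
  toFun m := (Scheme.ΓSpecIso (CommRingCat.of B)).inv (χ m)
  map_one' := by
    rw [map_one]
    exact map_one (Scheme.ΓSpecIso (CommRingCat.of B)).inv.hom
  map_mul' a b := by
    rw [map_mul]
    exact map_mul (Scheme.ΓSpecIso (CommRingCat.of B)).inv.hom _ _

/-- the point of `D_W(M)` over `q : Spec B ⟶ W` attached to a character with values in `B`. -/
noncomputable def hq {B : Type u} [CommRing B] (q : Spec (CommRingCat.of B) ⟶ W)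
    (χ : Multiplicative M →* B) : Over.mk q ⟶ Red.DS W M :=
  (dsFn_surj (S := W) (X := Over.mk q) (chiq q χ)).choose

lemma dsFn_hq {B : Type u} [CommRing B] (q : Spec (CommRingCat.of B) ⟶ W)
    (χ : Multiplicative M →* B) (m : M) :
    dsFn (hq q χ) m = (Scheme.ΓSpecIso (CommRingCat.of B)).inv (χ (Multiplicative.ofAdd m)) :=
  (dsFn_surj (S := W) (X := Over.mk q) (chiq q χ)).choose_spec m

/-- the character of a point of `D_W(M)` over `q : Spec B ⟶ W`. -/
noncomputable def charOf {B : Type u} [CommRing B] {q : Spec (CommRingCat.of B) ⟶ W}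
    (h : Over.mk q ⟶ Red.DS W M) : Multiplicative M →* B where
  toFun m := (Scheme.ΓSpecIso (CommRingCat.of B)).hom (dsFn h (Multiplicative.toAdd m))
  map_one' := by
    rw [toAdd_one, dsFn_zero]
    exact map_one (Scheme.ΓSpecIso (CommRingCat.of B)).hom.hom
  map_mul' a b := by
    rw [toAdd_mul, dsFn_add]
    exact map_mul (Scheme.ΓSpecIso (CommRingCat.of B)).hom.hom _ _

lemma charOf_apply {B : Type u} [CommRing B] {q : Spec (CommRingCat.of B) ⟶ W}
    (h : Over.mk q ⟶ Red.DS W M) (m : Multiplicative M) :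
    charOf h m = (Scheme.ΓSpecIso (CommRingCat.of B)).hom (dsFn h (Multiplicative.toAdd m)) := rfl

lemma charOf_hq {B : Type u} [CommRing B] (q : Spec (CommRingCat.of B) ⟶ W)
    (χ : Multiplicative M →* B) : charOf (hq q χ) = χ := by
  apply MonoidHom.ext
  intro m
  rw [charOf_apply, dsFn_hq, ofAdd_toAdd]
  exact congrArg (fun k => k.hom (χ m)) (Scheme.ΓSpecIso (CommRingCat.of B)).inv_hom_id

lemma hq_charOf {B : Type u} [CommRing B] {q : Spec (CommRingCat.of B) ⟶ W}
    (h : Over.mk q ⟶ Red.DS W M) : hq q (charOf h) = h := by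
  apply dsFn_ext
  intro m
  rw [dsFn_hq, charOf_apply, toAdd_ofAdd]
  exact congrArg (fun k => k.hom (dsFn h m)) (Scheme.ΓSpecIso (CommRingCat.of B)).hom_inv_id

lemma charOf_mul {B : Type u} [CommRing B] {q : Spec (CommRingCat.of B) ⟶ W}
    (h₁ h₂ : Over.mk q ⟶ Red.DS W M) : charOf (h₁ * h₂) = charOf h₁ * charOf h₂ := by
  apply MonoidHom.ext
  intro m
  rw [MonoidHom.mul_apply, charOf_apply, charOf_apply, charOf_apply, dsFn_mul]
  exact map_mul (Scheme.ΓSpecIso (CommRingCat.of B)).hom.hom _ _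

lemma hq_mul {B : Type u} [CommRing B] (q : Spec (CommRingCat.of B) ⟶ W)
    (χ₁ χ₂ : Multiplicative M →* B) : hq q (χ₁ * χ₂) = hq q χ₁ * hq q χ₂ := by
  apply dsFn_ext
  intro m
  rw [dsFn_mul, dsFn_hq, dsFn_hq, dsFn_hq, MonoidHom.mul_apply]
  exact map_mul (Scheme.ΓSpecIso (CommRingCat.of B)).inv.hom _ _

lemma charOf_comp {B B' : Type u} [CommRing B] [CommRing B'] (ψ : B →+* B')
    {q : Spec (CommRingCat.of B) ⟶ W} {q' : Spec (CommRingCat.of B') ⟶ W}
    (k : Over.mk q' ⟶ Over.mk q) (hk : k.left = Spec.map (CommRingCat.ofHom ψ))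
    (h : Over.mk q ⟶ Red.DS W M) : charOf (k ≫ h) = (ψ : B →* B').comp (charOf h) := by
  apply MonoidHom.ext
  intro m
  rw [MonoidHom.comp_apply, charOf_apply, charOf_apply, dsFn_comp, hk, coe_monoidHom_apply]
  exact congrArg (fun k => k.hom (dsFn h (Multiplicative.toAdd m)))
    (Scheme.ΓSpecIso_naturality (CommRingCat.ofHom ψ))

lemma hq_comp {B B' : Type u} [CommRing B] [CommRing B'] (ψ : B →+* B')
    {q : Spec (CommRingCat.of B) ⟶ W} {q' : Spec (CommRingCat.of B') ⟶ W}
    (k : Over.mk q' ⟶ Over.mk q) (hk : k.left = Spec.map (CommRingCat.ofHom ψ))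
    (χ : Multiplicative M →* B) : k ≫ hq q χ = hq q' ((ψ : B →* B').comp χ) := by
  apply dsFn_ext
  intro m
  rw [dsFn_comp, dsFn_hq, dsFn_hq, hk]
  have := Scheme.ΓSpecIso_inv_naturality (CommRingCat.ofHom ψ)
  exact (congrArg (fun k => k.hom (χ (Multiplicative.ofAdd m))) this).symm

end Chars

section Aut

variable {W : Scheme.{u}} {M : Type} [AddCommGroup M] {K' : Over W} [GrpObj K']
  (P : PtAction K' (Red.DS W M))

/-- the `K'`-point attached to `y : Spec B ⟶ K'.left`. -/
noncomputable def kp {B : Type u} [CommRing B] (y : Spec (CommRingCat.of B) ⟶ K'.left) :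
    Over.mk (y ≫ K'.hom) ⟶ K' := Over.homMk y rfl

@[simp] lemma kp_left {B : Type u} [CommRing B] (y : Spec (CommRingCat.of B) ⟶ K'.left) :
    (kp y).left = y := rfl

/-- the unit section of `K'`. -/
noncomputable def unitSec (K' : Over W) [GrpObj K'] : W ⟶ K'.left := (η[K'] : 𝟙_ (Over W) ⟶ K').left

lemma unitSec_hom : unitSec K' ≫ K'.hom = 𝟙 W := Over.w (η[K'] : 𝟙_ (Over W) ⟶ K')

lemma kp_eq_one {B : Type u} [CommRing B] (q : Spec (CommRingCat.of B) ⟶ W) :
    kp (q ≫ unitSec K') = 1 := by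
  apply Over.OverMorphism.ext
  rw [kp_left, Hom.one_def, Over.comp_left, Over.toUnit_left]
  simp only [Over.mk_hom, Category.assoc]
  rw [← Category.assoc (unitSec K'), unitSec_hom, Category.id_comp]
  rfl

/-- the action of a point of `K'` on characters. -/
noncomputable def actChar {B : Type u} [CommRing B] (y : Spec (CommRingCat.of B) ⟶ K'.left)
    (χ : Multiplicative M →* B) : Multiplicative M →* B :=
  charOf (P.smul (kp y) (hq (y ≫ K'.hom) χ))

lemma actChar_nat {B B' : Type u} [CommRing B] [CommRing B'] (ψ : B →+* B')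
    (y : Spec (CommRingCat.of B) ⟶ K'.left) (y' : Spec (CommRingCat.of B') ⟶ K'.left)
    (hy : y' = Spec.map (CommRingCat.ofHom ψ) ≫ y) (χ : Multiplicative M →* B) :
    actChar P y' ((ψ : B →* B').comp χ) = (ψ : B →* B').comp (actChar P y χ) := by
  subst hy
  obtain ⟨k, hk⟩ : ∃ k : Over.mk ((Spec.map (CommRingCat.ofHom ψ) ≫ y) ≫ K'.hom) ⟶
      Over.mk (y ≫ K'.hom), k.left = Spec.map (CommRingCat.ofHom ψ) :=
    ⟨Over.homMk (Spec.map (CommRingCat.ofHom ψ)) (by simp), rfl⟩
  have h1 : k ≫ kp y = kp (Spec.map (CommRingCat.ofHom ψ) ≫ y) := by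
    apply Over.OverMorphism.ext
    rw [Over.comp_left, hk]
    rfl
  have h2 := P.comp_smul k (kp y) (hq (y ≫ K'.hom) χ)
  rw [h1, hq_comp ψ k hk] at h2
  unfold actChar
  rw [← h2, charOf_comp ψ k hk]

lemma actChar_of_eq_one {B : Type u} [CommRing B] (y : Spec (CommRingCat.of B) ⟶ K'.left)
    (hy : kp y = 1) (χ : Multiplicative M →* B) : actChar P y χ = χ := by
  unfold actChar
  rw [hy, P.one_smul, charOf_hq]

variable (hmul : ∀ {Y : Over W} (k : Y ⟶ K') (h₁ h₂ : Y ⟶ Red.DS W M),
  P.smul k (h₁ * h₂) = P.smul k h₁ * P.smul k h₂)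

include hmul in
lemma actChar_mul {B : Type u} [CommRing B] (y : Spec (CommRingCat.of B) ⟶ K'.left)
    (χ₁ χ₂ : Multiplicative M →* B) :
    actChar P y (χ₁ * χ₂) = actChar P y χ₁ * actChar P y χ₂ := by
  unfold actChar
  rw [hq_mul, hmul, charOf_mul]

/-- the natural transformation of the functor of characters attached to an affine point of
`K'`. -/
noncomputable def toGrpFunAct {A : Type u} [CommRing A] (t : Spec (CommRingCat.of A) ⟶ K'.left) :
    GrpFunAct A (Multiplicative M) where
  act B _ β χ := actChar P (Spec.map (CommRingCat.ofHom β) ≫ t) χ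
  nat B B' _ _ ψ β χ := actChar_nat P ψ _ _ (by rw [specMap_comp_eq, Category.assoc]) χ
  mul B _ β χ₁ χ₂ := actChar_mul P hmul _ χ₁ χ₂

lemma toGrpFunAct_comp {A A' : Type u} [CommRing A] [CommRing A'] (α : A →+* A')
    (t : Spec (CommRingCat.of A) ⟶ K'.left) :
    toGrpFunAct P hmul (Spec.map (CommRingCat.ofHom α) ≫ t) = (toGrpFunAct P hmul t).comap α := by
  apply GrpFunAct.ext'
  intro B _ β χ
  change actChar P (Spec.map (CommRingCat.ofHom β) ≫ Spec.map (CommRingCat.ofHom α) ≫ t) χ =
    actChar P (Spec.map (CommRingCat.ofHom (β.comp α)) ≫ t) χ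
  rw [specMap_comp_eq, Category.assoc]

lemma e_comp {A A' : Type u} [CommRing A] [CommRing A'] (α : A →+* A')
    (t : Spec (CommRingCat.of A) ⟶ K'.left) (m n : Multiplicative M) :
    (toGrpFunAct P hmul (Spec.map (CommRingCat.ofHom α) ≫ t)).e m n =
      α ((toGrpFunAct P hmul t).e m n) := by
  rw [toGrpFunAct_comp, GrpFunAct.comap_e]

lemma toGrpFunAct_act_id {A : Type u} [CommRing A] (t : Spec (CommRingCat.of A) ⟶ K'.left)
    (χ : Multiplicative M →* A) :
    (toGrpFunAct P hmul t).act A (RingHom.id A) χ = actChar P t χ := by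
  change actChar P (Spec.map (𝟙 (CommRingCat.of A)) ≫ t) χ = _
  rw [Spec.map_id, Category.id_comp]

lemma e_of_unit {A : Type u} [CommRing A] (t : Spec (CommRingCat.of A) ⟶ K'.left)
    (ht : ∀ (B : Type u) [CommRing B] (β : A →+* B),
      kp (Spec.map (CommRingCat.ofHom β) ≫ t) = 1) (m : Multiplicative M) :
    (toGrpFunAct P hmul t).e m m = 1 := by
  classical
  unfold GrpFunAct.e GrpFunAct.univ
  change MonoidAlgebra.coeff ((actChar P (Spec.map (CommRingCat.ofHom
    (algebraMap A (MonoidAlgebra A (Multiplicative M)))) ≫ t)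
    (MonoidAlgebra.of A (Multiplicative M))) m) m = 1
  rw [actChar_of_eq_one P _ (ht _ _), MonoidAlgebra.of_apply, coeff_single_apply', if_pos rfl]

/-- the matrix of idempotents at a point of `K'`. -/
noncomputable def eAt (x : K'.left) (m n : Multiplicative M) : K'.left.residueField x :=
  (toGrpFunAct P hmul (A := K'.left.residueField x) (K'.left.fromSpecResidueField x)).e m n

lemma e_fieldPt {L : Type u} [Field L] (s : Spec (CommRingCat.of L) ⟶ K'.left) (x : K'.left)
    (hx : s (IsLocalRing.closedPoint L) = x) (m n : Multiplicative M) :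
    (toGrpFunAct P hmul s).e m n = 0 ↔ eAt P hmul x m n = 0 := by
  subst hx
  have h := Scheme.descResidueField_stalkClosedPointTo_fromSpecResidueField L K'.left s
  obtain ⟨ρ, hρ⟩ : ∃ ρ : K'.left.residueField (s (IsLocalRing.closedPoint L)) →+* L,
      Spec.map (CommRingCat.ofHom ρ) ≫ K'.left.fromSpecResidueField _ = s :=
    ⟨(Scheme.descResidueField (Scheme.stalkClosedPointTo s)).hom, h⟩
  conv_lhs => rw [← hρ]
  rw [e_comp]
  unfold eAt
  exact map_eq_zero_iff ρ ρ.injective

lemma specMap_residueField_apply {A : Type u} [CommRing A] (p : Spec (CommRingCat.of A))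
    (z : Spec (CommRingCat.of p.asIdeal.ResidueField)) :
    Spec.map (CommRingCat.ofHom (algebraMap A p.asIdeal.ResidueField)) z = p := by
  have h : Spec.map (CommRingCat.ofHom (algebraMap A p.asIdeal.ResidueField)) z ∈
      Set.range (PrimeSpectrum.comap (algebraMap A p.asIdeal.ResidueField)) := ⟨z, rfl⟩
  rw [PrimeSpectrum.residueField_comap] at h
  exact h

lemma e_mem_iff {A : Type u} [CommRing A] (t : Spec (CommRingCat.of A) ⟶ K'.left)
    (p : Spec (CommRingCat.of A)) (m n : Multiplicative M) :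
    (toGrpFunAct P hmul t).e m n ∈ p.asIdeal ↔ eAt P hmul (t p) m n = 0 := by
  rw [← Ideal.algebraMap_residueField_eq_zero (I := p.asIdeal), ← e_comp]
  apply e_fieldPt
  rw [Scheme.Hom.comp_apply, specMap_residueField_apply]

/-- the locus where the `m`-th diagonal idempotent does not vanish. -/
def Zset (m : Multiplicative M) : Set K'.left := {x | eAt P hmul x m m ≠ 0}

lemma exists_affine_chart (x : K'.left) :
    ∃ (A : Type u) (_ : CommRing A) (t : Spec (CommRingCat.of A) ⟶ K'.left)
      (p : Spec (CommRingCat.of A)), IsOpenImmersion t ∧ t p = x := by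
  obtain ⟨U, hU, h1, -⟩ := TopologicalSpace.Opens.isBasis_iff_nbhd.mp
    (K'.left.isBasis_affineOpens) (U := ⊤) (x := x) trivial
  have hx : x ∈ Set.range hU.fromSpec := by
    rw [hU.range_fromSpec]
    exact h1
  obtain ⟨p, hp⟩ := hx
  exact ⟨Γ(K'.left, U), inferInstance, hU.fromSpec, p, inferInstance, hp⟩

lemma isOpen_Zset (m : Multiplicative M) : IsOpen (Zset P hmul m) := by
  rw [isOpen_iff_forall_mem_open]
  intro x hx
  obtain ⟨A, _, t, p, ht, rfl⟩ := exists_affine_chart (K' := K') x
  obtain ⟨e, he⟩ : ∃ e : A, e = (toGrpFunAct P hmul t).e m m := ⟨_, rfl⟩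
  refine ⟨t '' (PrimeSpectrum.basicOpen e : Set (PrimeSpectrum A)), ?_, ?_, ?_⟩
  · rintro _ ⟨p', hp', rfl⟩
    change eAt P hmul (t p') m m ≠ 0
    rw [Ne, ← e_mem_iff, ← he]
    exact hp'
  · exact t.isOpenEmbedding.isOpenMap _ (PrimeSpectrum.basicOpen e).isOpen
  · refine ⟨p, ?_, rfl⟩
    change e ∉ p.asIdeal
    rw [he, e_mem_iff]
    exact hx

lemma isOpen_compl_Zset (m : Multiplicative M) : IsOpen (Zset P hmul m)ᶜ := by
  rw [isOpen_iff_forall_mem_open]
  intro x hx
  obtain ⟨A, _, t, p, ht, rfl⟩ := exists_affine_chart (K' := K') x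
  obtain ⟨e, he⟩ : ∃ e : A, e = (toGrpFunAct P hmul t).e m m := ⟨_, rfl⟩
  have hidem : e * e = e := by rw [he]; exact GrpFunAct.e_idem _ m m
  have hmem : ∀ p' : Spec (CommRingCat.of A), (1 - e) ∉ p'.asIdeal → e ∈ p'.asIdeal := by
    intro p' hp'
    have h0 : e * (1 - e) ∈ p'.asIdeal := by
      rw [mul_sub, _root_.mul_one, hidem, sub_self]
      exact Ideal.zero_mem _
    exact (p'.isPrime.mem_or_mem h0).resolve_right hp'
  refine ⟨t '' (PrimeSpectrum.basicOpen (1 - e) : Set (PrimeSpectrum A)), ?_, ?_, ?_⟩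
  · rintro _ ⟨p', hp', rfl⟩
    change ¬ (eAt P hmul (t p') m m ≠ 0)
    rw [not_not, ← e_mem_iff, ← he]
    exact hmem p' hp'
  · exact t.isOpenEmbedding.isOpenMap _ (PrimeSpectrum.basicOpen (1 - e)).isOpen
  · refine ⟨p, ?_, rfl⟩
    change (1 - e) ∉ p.asIdeal
    intro h1
    have h2 : e ∈ p.asIdeal := by
      rw [he, e_mem_iff]
      exact not_not.mp hx
    have h3 : (1 : A) ∈ p.asIdeal := by
      have := p.asIdeal.add_mem h1 h2
      rwa [sub_add_cancel] at this
    exact p.isPrime.ne_top ((Ideal.eq_top_iff_one _).mpr h3)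

lemma unit_mem_Zset (w : W) (m : Multiplicative M) : unitSec K' w ∈ Zset P hmul m := by
  intro h0
  have h := Scheme.Hom.SpecMap_residueFieldMap_fromSpecResidueField (unitSec K') w
  obtain ⟨ρ, hρ⟩ : ∃ ρ : K'.left.residueField (unitSec K' w) →+* W.residueField w,
      Spec.map (CommRingCat.ofHom ρ) ≫ K'.left.fromSpecResidueField (unitSec K' w) =
        (W.fromSpecResidueField w ≫ unitSec K' :
          Spec (CommRingCat.of (W.residueField w)) ⟶ K'.left) :=
    ⟨((unitSec K').residueFieldMap w).hom, h⟩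
  have h1 := e_comp P hmul ρ (K'.left.fromSpecResidueField (unitSec K' w)) m m
  rw [hρ] at h1
  rw [e_of_unit P hmul] at h1
  · change (1 : W.residueField w) = ρ (eAt P hmul (unitSec K' w) m m) at h1
    rw [h0, map_zero] at h1
    exact one_ne_zero h1
  · intro B _ β
    rw [← Category.assoc]
    exact kp_eq_one _

theorem Zset_eq_univ [GeometricallyConnected K'.hom] (m : Multiplicative M) :
    Zset P hmul m = Set.univ := by
  ext x
  simp only [Set.mem_univ, iff_true]
  have hconn := (Scheme.Hom.isConnected_preimage_singleton K'.hom (K'.hom x)).isPreconnected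
  have hclopen : IsClopen (Zset P hmul m) :=
    ⟨isOpen_compl_iff.mp (isOpen_compl_Zset P hmul m), isOpen_Zset P hmul m⟩
  have hsub := hconn.subset_isClopen hclopen ⟨unitSec K' (K'.hom x), ?_, unit_mem_Zset P hmul _ m⟩
  · exact hsub rfl
  · change K'.hom (unitSec K' (K'.hom x)) = K'.hom x
    rw [← Scheme.Hom.comp_apply, unitSec_hom]
    rfl

theorem e_diag_eq_one [GeometricallyConnected K'.hom] {A : Type u} [CommRing A]
    (t : Spec (CommRingCat.of A) ⟶ K'.left) (m : Multiplicative M) :
    (toGrpFunAct P hmul t).e m m = 1 := by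
  obtain ⟨e, he⟩ : ∃ e : A, e = (toGrpFunAct P hmul t).e m m := ⟨_, rfl⟩
  have hidem : e * e = e := by rw [he]; exact GrpFunAct.e_idem _ m m
  have hunit : IsUnit e := by
    by_contra hnu
    obtain ⟨I, hI, heI⟩ := exists_max_ideal_of_mem_nonunits hnu
    obtain ⟨p, hp⟩ : ∃ p : Spec (CommRingCat.of A), p.asIdeal = I := ⟨⟨I, hI.isPrime⟩, rfl⟩
    rw [← hp, he, e_mem_iff] at heI
    have hx : t p ∈ Zset P hmul m := by rw [Zset_eq_univ]; trivial
    exact hx heI
  rw [← he]
  exact hunit.mul_left_cancel (hidem.trans (_root_.mul_one e).symm)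

include hmul in
/-- **Rigidity of the automorphisms of a diagonalisable group**: an action by group automorphisms
of a group with geometrically connected fibres on `D_W(M)` is trivial. -/
theorem PtAction.trivial_of_geomConn [GeometricallyConnected K'.hom] {Y : Over W} (k : Y ⟶ K')
    (h : Y ⟶ Red.DS W M) : P.smul k h = h := by
  -- affine points
  have haff : ∀ (A : Type u) [CommRing A] (t : Spec (CommRingCat.of A) ⟶ K'.left)
      (h' : Over.mk (t ≫ K'.hom) ⟶ Red.DS W M), P.smul (kp t) h' = h' := by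
    intro A _ t h'
    have h1 := (toGrpFunAct P hmul t).act_eq_self (e_diag_eq_one P hmul t) A (RingHom.id A)
      (charOf h')
    rw [toGrpFunAct_act_id] at h1
    unfold actChar at h1
    rw [hq_charOf] at h1
    have h2 := congrArg (hq (t ≫ K'.hom)) h1
    rw [hq_charOf, hq_charOf] at h2
    exact h2
  apply Over.OverMorphism.ext
  apply Scheme.hom_ext_of_forall
  intro y
  obtain ⟨V, hV, hyV, -⟩ := TopologicalSpace.Opens.isBasis_iff_nbhd.mp
    (Y.left.isBasis_affineOpens) (U := ⊤) (x := y) trivial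
  refine ⟨V, hyV, ?_⟩
  obtain ⟨t, ht⟩ : ∃ t : Spec (CommRingCat.of Γ(Y.left, V)) ⟶ K'.left,
      t = hV.fromSpec ≫ k.left := ⟨_, rfl⟩
  obtain ⟨kV, hkV⟩ : ∃ kV : Over.mk (t ≫ K'.hom) ⟶ Y, kV.left = hV.fromSpec := by
    refine ⟨Over.homMk hV.fromSpec ?_, rfl⟩
    simp only [Over.mk_left, Over.mk_hom]
    rw [ht, Category.assoc, Over.w k]
  have h1 : kV ≫ k = kp t := by
    apply Over.OverMorphism.ext
    rw [Over.comp_left, hkV, kp_left, ht]
  have h2 := P.comp_smul kV k h
  rw [h1, haff] at h2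
  have h3 := congrArg (fun t => t.left) h2
  simp only [Over.comp_left] at h3
  rw [hkV] at h3
  rw [← hV.isoSpec_inv_ι] at h3
  simp only [Category.assoc] at h3
  exact (cancel_epi hV.isoSpec.inv).mp h3

end Aut

end Groth.Agent.Lib.R2H3.MultAct
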