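import Groth.Agent.Lib.R2H3MultHomAlg
import Groth.Agent.Lib.R2H3MultAutGeo

/-!
# Homomorphisms between diagonalisable groups (helper3, round 2)

Let `v : D_W(M) ⟶ D_W(N)` be a homomorphism of `W`-groups.  At every point `w` of `W` it is given
by a group homomorphism `phiAt v w : N → M`; the loci where `phiAt v w n = m` are open and closed,
and over the locus where `phiAt v w = φ` the homomorphism `v` coincides with `D_W(φ)`.
-/

set_option autoImplicit false
set_option linter.style.haveILetI false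
set_option linter.unusedVariables false
set_option linter.unusedSectionVars false

universe u

open CategoryTheory MonoidalCategory CartesianMonoidalCategory MonObj GrpObj AlgebraicGeometry
  CategoryTheory.Limits
open Groth.Agent.Lib.Helper27.GaGm Groth.Agent.Lib.H6xDSPts Groth.Agent.Lib.R2H3.MultAct

namespace Groth.Agent.Lib.R2H3.MultHom

variable {W : Scheme.{u}} {M N : Type} [AddCommGroup M] [AddCommGroup N]
  (v : Red.DS W M ⟶ Red.DS W N)

/-- the map on characters with values in `B` induced by `v`. -/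
noncomputable def mapChar {B : Type u} [CommRing B] (q : Spec (CommRingCat.of B) ⟶ W)
    (χ : Multiplicative M →* B) : Multiplicative N →* B :=
  charOf (hq q χ ≫ v)

lemma mapChar_nat {B B' : Type u} [CommRing B] [CommRing B'] (ψ : B →+* B')
    (q : Spec (CommRingCat.of B) ⟶ W) (q' : Spec (CommRingCat.of B') ⟶ W)
    (hq' : q' = Spec.map (CommRingCat.ofHom ψ) ≫ q) (χ : Multiplicative M →* B) :
    mapChar v q' ((ψ : B →* B').comp χ) = (ψ : B →* B').comp (mapChar v q χ) := by
  subst hq'
  obtain ⟨k, hk⟩ : ∃ k : Over.mk (Spec.map (CommRingCat.ofHom ψ) ≫ q) ⟶ Over.mk q,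
      k.left = Spec.map (CommRingCat.ofHom ψ) := ⟨Over.homMk _ rfl, rfl⟩
  unfold mapChar
  rw [← hq_comp ψ k hk, Category.assoc, charOf_comp ψ k hk]

lemma mapChar_mul [IsMonHom v] {B : Type u} [CommRing B] (q : Spec (CommRingCat.of B) ⟶ W)
    (χ₁ χ₂ : Multiplicative M →* B) :
    mapChar v q (χ₁ * χ₂) = mapChar v q χ₁ * mapChar v q χ₂ := by
  unfold mapChar
  rw [hq_mul, MonObj.mul_comp _ _ v, charOf_mul]

lemma hq_mapChar {B : Type u} [CommRing B] (q : Spec (CommRingCat.of B) ⟶ W)
    (χ : Multiplicative M →* B) : hq q (mapChar v q χ) = hq q χ ≫ v := by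
  unfold mapChar
  rw [hq_charOf]

variable [IsMonHom v]

/-- the natural transformation of functors of characters attached to `v` over an affine
`W`-scheme. -/
noncomputable def toHomFun {A : Type u} [CommRing A] (t : Spec (CommRingCat.of A) ⟶ W) :
    HomFun A (Multiplicative M) (Multiplicative N) where
  map B _ β χ := mapChar v (Spec.map (CommRingCat.ofHom β) ≫ t) χ
  nat B B' _ _ ψ β χ := mapChar_nat v ψ _ _ (by rw [specMap_comp_eq, Category.assoc]) χ
  mul B _ β χ₁ χ₂ := mapChar_mul v _ χ₁ χ₂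

lemma toHomFun_comp {A A' : Type u} [CommRing A] [CommRing A'] (α : A →+* A')
    (t : Spec (CommRingCat.of A) ⟶ W) :
    toHomFun v (Spec.map (CommRingCat.ofHom α) ≫ t) = (toHomFun v t).comap α := by
  apply HomFun.ext'
  intro B _ β χ
  change mapChar v (Spec.map (CommRingCat.ofHom β) ≫ Spec.map (CommRingCat.ofHom α) ≫ t) χ =
    mapChar v (Spec.map (CommRingCat.ofHom (β.comp α)) ≫ t) χ
  rw [specMap_comp_eq, Category.assoc]

lemma e_comp {A A' : Type u} [CommRing A] [CommRing A'] (α : A →+* A')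
    (t : Spec (CommRingCat.of A) ⟶ W) (n : Multiplicative N) (m : Multiplicative M) :
    (toHomFun v (Spec.map (CommRingCat.ofHom α) ≫ t)).e n m = α ((toHomFun v t).e n m) := by
  rw [toHomFun_comp, HomFun.comap_e]

lemma toHomFun_map_id {A : Type u} [CommRing A] (t : Spec (CommRingCat.of A) ⟶ W)
    (χ : Multiplicative M →* A) :
    (toHomFun v t).map A (RingHom.id A) χ = mapChar v t χ := by
  change mapChar v (Spec.map (𝟙 (CommRingCat.of A)) ≫ t) χ = _
  rw [Spec.map_id, Category.id_comp]

/-- the transformation at a point of `W`. -/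
noncomputable def FAt (w : W) :
    HomFun (W.residueField w) (Multiplicative M) (Multiplicative N) :=
  toHomFun v (W.fromSpecResidueField w)

/-- the homomorphism of character groups at a point of `W`. -/
noncomputable def phiAt (w : W) : Multiplicative N →* Multiplicative M := (FAt v w).phi

lemma e_fieldPt {L : Type u} [Field L] (s : Spec (CommRingCat.of L) ⟶ W) (w : W)
    (hw : s (IsLocalRing.closedPoint L) = w) (n : Multiplicative N) (m : Multiplicative M) :
    (toHomFun v s).e n m = 1 ↔ phiAt v w n = m := by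
  subst hw
  have h := Scheme.descResidueField_stalkClosedPointTo_fromSpecResidueField L W s
  obtain ⟨ρ, hρ⟩ : ∃ ρ : W.residueField (s (IsLocalRing.closedPoint L)) →+* L,
      Spec.map (CommRingCat.ofHom ρ) ≫ W.fromSpecResidueField _ = s :=
    ⟨(Scheme.descResidueField (Scheme.stalkClosedPointTo s)).hom, h⟩
  conv_lhs => rw [← hρ]
  rw [e_comp]
  constructor
  · intro h1
    apply HomFun.phi_eq
    rcases (FAt v (s (IsLocalRing.closedPoint L))).e_eq_zero_or_one n m with h0 | h0
    · exfalso
      change (toHomFun v (W.fromSpecResidueField _)).e n m = 0 at h0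
      have h3 := (congrArg ρ h0).trans (map_zero ρ)
      exact zero_ne_one (h3.symm.trans h1)
    · exact h0
  · intro h1
    have h2 := (FAt v (s (IsLocalRing.closedPoint L))).e_phi n
    change (toHomFun v (W.fromSpecResidueField _)).e n (phiAt v _ n) = 1 at h2
    rw [h1] at h2
    exact (congrArg ρ h2).trans (map_one ρ)

lemma e_notMem_iff {A : Type u} [CommRing A] (t : Spec (CommRingCat.of A) ⟶ W)
    (p : Spec (CommRingCat.of A)) (n : Multiplicative N) (m : Multiplicative M) :
    (toHomFun v t).e n m ∉ p.asIdeal ↔ phiAt v (t p) n = m := by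
  have hpt : (Spec.map (CommRingCat.ofHom (algebraMap A p.asIdeal.ResidueField)) ≫ t)
      (IsLocalRing.closedPoint p.asIdeal.ResidueField) = t p := by
    rw [Scheme.Hom.comp_apply, specMap_residueField_apply]
  rw [← e_fieldPt v _ (t p) hpt, e_comp, ← Ideal.algebraMap_residueField_eq_zero (I := p.asIdeal)]
  have hidem := (toHomFun v t).e_idem n m
  obtain ⟨x, hx⟩ : ∃ x : p.asIdeal.ResidueField,
    x = algebraMap A p.asIdeal.ResidueField ((toHomFun v t).e n m) := ⟨_, rfl⟩
  have hx2 : x * x = x := by rw [hx, ← map_mul, hidem]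
  rw [← hx]
  constructor
  · intro h0
    have h2 : x * (x - 1) = 0 := by rw [mul_sub, hx2, _root_.mul_one, sub_self]
    rcases mul_eq_zero.mp h2 with h3 | h3
    · exact absurd h3 h0
    · exact sub_eq_zero.mp h3
  · intro h1 h0
    rw [h0] at h1
    exact zero_ne_one h1

/-- the locus where the homomorphism of character groups sends `n` to `m`. -/
def Zset (n : Multiplicative N) (m : Multiplicative M) : Set W := {w | phiAt v w n = m}

lemma exists_affine_chart (x : W) :
    ∃ (A : Type u) (_ : CommRing A) (t : Spec (CommRingCat.of A) ⟶ W)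
      (p : Spec (CommRingCat.of A)), IsOpenImmersion t ∧ t p = x := by
  obtain ⟨U, hU, h1, -⟩ := TopologicalSpace.Opens.isBasis_iff_nbhd.mp
    (W.isBasis_affineOpens) (U := ⊤) (x := x) trivial
  have hx : x ∈ Set.range hU.fromSpec := by
    rw [hU.range_fromSpec]
    exact h1
  obtain ⟨p, hp⟩ := hx
  exact ⟨Γ(W, U), inferInstance, hU.fromSpec, p, inferInstance, hp⟩

lemma isOpen_Zset (n : Multiplicative N) (m : Multiplicative M) : IsOpen (Zset v n m) := by
  rw [isOpen_iff_forall_mem_open]
  intro x hx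
  obtain ⟨A, _, t, p, ht, rfl⟩ := exists_affine_chart x
  obtain ⟨e, he⟩ : ∃ e : A, e = (toHomFun v t).e n m := ⟨_, rfl⟩
  refine ⟨t '' (PrimeSpectrum.basicOpen e : Set (PrimeSpectrum A)), ?_, ?_, ?_⟩
  · rintro _ ⟨p', hp', rfl⟩
    change phiAt v (t p') n = m
    rw [← e_notMem_iff, ← he]
    exact hp'
  · exact t.isOpenEmbedding.isOpenMap _ (PrimeSpectrum.basicOpen e).isOpen
  · refine ⟨p, ?_, rfl⟩
    change e ∉ p.asIdeal
    rw [he, e_notMem_iff]
    exact hx

lemma isClosed_Zset (n : Multiplicative N) (m : Multiplicative M) : IsClosed (Zset v n m) := by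
  rw [← isOpen_compl_iff]
  have h : (Zset v n m)ᶜ = ⋃ m' ∈ {m' : Multiplicative M | m' ≠ m}, Zset v n m' := by
    ext w
    simp only [Set.mem_compl_iff, Zset, Set.mem_ofPred_eq, Set.mem_iUnion, exists_prop]
    constructor
    · intro h
      exact ⟨_, h, rfl⟩
    · rintro ⟨m', hm', h⟩
      rw [h]
      exact hm'
  rw [h]
  exact isOpen_biUnion fun m' _ => isOpen_Zset v n m'

/-- the locus where the homomorphism of character groups is `φ`. -/
def Wphi (φ : N →+ M) : Set W := {w | phiAt v w = AddMonoidHom.toMultiplicative φ}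

lemma Wphi_eq_iInter (φ : N →+ M) (s : Set (Multiplicative N))
    (hs : Subgroup.closure s = ⊤) :
    Wphi v φ = ⋂ n ∈ s, Zset v n (AddMonoidHom.toMultiplicative φ n) := by
  ext w
  simp only [Wphi, Zset, Set.mem_ofPred_eq, Set.mem_iInter]
  constructor
  · intro h n _
    rw [h]
  · intro h
    exact MonoidHom.eq_of_eqOn_dense hs (fun n hn => h n hn)

lemma isClopen_Wphi [AddGroup.FG N] (φ : N →+ M) : IsClopen (Wphi v φ) := by
  obtain ⟨s, hs, hfin⟩ := (Group.fg_iff (G := Multiplicative N)).mp inferInstance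
  rw [Wphi_eq_iInter v φ s hs]
  exact hfin.isClopen_biInter fun n _ => ⟨isClosed_Zset v n _, isOpen_Zset v n _⟩

lemma mem_Wphi_phiAt (w : W) : w ∈ Wphi v (AddMonoidHom.toMultiplicative.symm (phiAt v w)) := by
  change phiAt v w = _
  simp

/-- composition with `D_W(φ)` on affine points. -/
lemma hq_comp_DSmap {B : Type u} [CommRing B] (q : Spec (CommRingCat.of B) ⟶ W) (φ : N →+ M)
    (χ : Multiplicative M →* B) :
    hq q χ ≫ Red.DSmap W φ = hq q (χ.comp (AddMonoidHom.toMultiplicative φ)) := by
  apply dsFn_ext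
  intro n
  rw [dsFn_DSmap, dsFn_hq, dsFn_hq]
  rfl

/-- over an affine scheme all of whose points lie in `Wphi v φ`, the homomorphism `v` is
`D_W(φ)`. -/
lemma comp_eq_of_affine {A : Type u} [CommRing A] (t : Spec (CommRingCat.of A) ⟶ W) (φ : N →+ M)
    (ht : ∀ p : Spec (CommRingCat.of A), t p ∈ Wphi v φ) (h' : Over.mk t ⟶ Red.DS W M) :
    h' ≫ v = h' ≫ Red.DSmap W φ := by
  have he : ∀ n, (toHomFun v t).e n (AddMonoidHom.toMultiplicative φ n) = 1 := by
    intro n
    obtain ⟨e, he⟩ : ∃ e : A, e = (toHomFun v t).e n (AddMonoidHom.toMultiplicative φ n) :=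
      ⟨_, rfl⟩
    have hidem : e * e = e := by rw [he]; exact HomFun.e_idem _ _ _
    have hunit : IsUnit e := by
      by_contra hnu
      obtain ⟨I, hI, heI⟩ := exists_max_ideal_of_mem_nonunits hnu
      obtain ⟨p, hp⟩ : ∃ p : Spec (CommRingCat.of A), p.asIdeal = I := ⟨⟨I, hI.isPrime⟩, rfl⟩
      rw [← hp, he] at heI
      refine absurd heI ?_
      rw [e_notMem_iff]
      have := ht p
      change phiAt v (t p) = _ at this
      rw [this]
    rw [← he]
    exact hunit.mul_left_cancel (hidem.trans (_root_.mul_one e).symm)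
  have h1 := (toHomFun v t).map_eq_comp _ he A (RingHom.id A) (charOf h')
  rw [toHomFun_map_id] at h1
  have h2 := congrArg (hq t) h1
  rw [hq_mapChar, hq_charOf, ← hq_comp_DSmap, hq_charOf] at h2
  exact h2

/-- **Local structure of homomorphisms of diagonalisable groups**: over a `W`-scheme all of whose
points lie in `Wphi v φ`, the homomorphism `v` is `D_W(φ)`. -/
theorem comp_eq_of_mem_Wphi (φ : N →+ M) (Y : Over W) (hY : ∀ y : Y.left, Y.hom y ∈ Wphi v φ)
    (g : Y ⟶ Red.DS W M) : g ≫ v = g ≫ Red.DSmap W φ := by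
  apply Over.OverMorphism.ext
  apply Scheme.hom_ext_of_forall
  intro y
  obtain ⟨V, hV, hyV, -⟩ := TopologicalSpace.Opens.isBasis_iff_nbhd.mp
    (Y.left.isBasis_affineOpens) (U := ⊤) (x := y) trivial
  refine ⟨V, hyV, ?_⟩
  obtain ⟨t, ht⟩ : ∃ t : Spec (CommRingCat.of Γ(Y.left, V)) ⟶ W,
      t = hV.fromSpec ≫ Y.hom := ⟨_, rfl⟩
  obtain ⟨kV, hkV⟩ : ∃ kV : Over.mk t ⟶ Y, kV.left = hV.fromSpec := by
    refine ⟨Over.homMk hV.fromSpec ?_, rfl⟩
    simp only [Over.mk_left, Over.mk_hom]
    rw [ht]
  have h2 := comp_eq_of_affine v t φ (fun p => by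
    rw [ht, Scheme.Hom.comp_apply]
    exact hY _) (kV ≫ g)
  have h3 := congrArg (fun t => t.left) h2
  simp only [Over.comp_left] at h3
  rw [hkV] at h3
  rw [← hV.isoSpec_inv_ι] at h3
  simp only [Category.assoc] at h3
  exact (cancel_epi hV.isoSpec.inv).mp h3

end Groth.Agent.Lib.R2H3.MultHom
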