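import Groth.Prelude.Def_AutFam
import Groth.Agent.Lib.R2H3MultHomGeo
import Groth.Agent.Lib.R2H3FpqcLocal
import Groth.Agent.Lib.R2H3HomRepBC

/-!
# The scheme of homomorphisms between diagonalisable groups is étale, and finite when affine of
finite type over a quasi-compact base (helper3, round 2)

Setting: `(A, υ)` represents `Hom_{S-gr}(G, H)` and `G ≅ D_S(M)`, `H ≅ D_S(N)` with `N` finitely
generated.

* `bcDSIso_DSmap`: naturality of `bcDSIso` with respect to `DSmap`.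
* `univHom υ : bc A.hom G ⟶ bc A.hom H`, the universal homomorphism over `A`; `vU` its
  diagonalised form over `A.left`.
* `lift_comp_of_mem_Wphi`: the family at a point of `A` lying in `Wphi vU φ` is the constant
  homomorphism `psi φ`.
* `exists_section`: the section of `A` classifying a homomorphism `G ⟶ H`.
* `etale_of_triv`, `isFinite_of_triv`.
-/

set_option autoImplicit false
set_option linter.style.haveILetI false
set_option linter.unusedVariables false
set_option linter.unusedSectionVars false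

universe u

open CategoryTheory MonoidalCategory CartesianMonoidalCategory MonObj GrpObj AlgebraicGeometry
  CategoryTheory.Limits
open Groth.Agent.Lib.Helper27.GaGm Groth.Agent.Lib.H6xDSPts Groth.Agent.Lib.R2H3.MultAct
  Groth.Agent.Lib.R2H3.MultHom Groth.Agent.Lib.R2H3.FpqcLocal Groth.Agent.Lib.R2H3.HomRepBC

namespace Groth.Agent.Lib.R2H3.HomFinEt

/-- multiplicativity on points implies being a homomorphism (for groups). -/
theorem isMonHom_of_forall_mul {C : Type*} [Category C] [CartesianMonoidalCategory C] {X Y : C}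
    [GrpObj X] [GrpObj Y] (f : X ⟶ Y)
    (hmul : ∀ (T : C) (x y : T ⟶ X), (x * y) ≫ f = (x ≫ f) * (y ≫ f)) : IsMonHom f := by
  apply Groth.Agent.Lib.H6xDSPts.isMonHom_of_pts f _ hmul
  have h := hmul (𝟙_ C) 1 1
  rw [_root_.mul_one] at h
  exact (mul_eq_left (a := (1 : 𝟙_ C ⟶ X) ≫ f) (b := (1 : 𝟙_ C ⟶ X) ≫ f)).mp h.symm

section Natural

open scoped Obj in
lemma bcCompIso_hom {S W W' : Scheme.{u}} (b : W' ⟶ W) (w : W ⟶ S) (G : Over S) [GrpObj G] :
    (bcCompIso b w G).hom.hom.hom = (Over.pullbackComp b w).hom.app G := by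
  simp only [bcCompIso, Iso.trans_hom, Iso.app_hom, NatTrans.comp_app, Grp.comp_hom_hom,
    Functor.mapGrpNatIso, Functor.mapGrpCompIso]
  exact Category.comp_id _

open scoped Obj in
lemma bcCompIso_natural {S W W' : Scheme.{u}} (b : W' ⟶ W) (w : W ⟶ S) {G H : Over S}
    [GrpObj G] [GrpObj H] (f : G ⟶ H) :
    (Over.pullback (b ≫ w)).map f ≫ (bcCompIso b w H).hom.hom.hom =
      (bcCompIso b w G).hom.hom.hom ≫ (Over.pullback b).map ((Over.pullback w).map f) := by
  rw [bcCompIso_hom, bcCompIso_hom]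
  exact (Over.pullbackComp b w).hom.naturality f

lemma bcCongrIso_natural {S W : Scheme.{u}} {w w' : W ⟶ S} (hw : w = w') {G H : Over S}
    [GrpObj G] [GrpObj H] (f : G ⟶ H) :
    (Over.pullback w).map f ≫ (bcCongrIso hw H).hom.hom.hom =
      (bcCongrIso hw G).hom.hom.hom ≫ (Over.pullback w').map f := by
  subst hw
  simp [bcCongrIso]

lemma conj_of_comm {C : Type*} [Category C] {A B A' B' : C} (f : A ⟶ B) (g : A' ⟶ B')
    (eA : A ⟶ A') (iA : A' ⟶ A) (eB : B ⟶ B') (iB : B' ⟶ B) (hA : iA ≫ eA = 𝟙 _)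
    (hB : eB ≫ iB = 𝟙 _) (h : f ≫ eB = eA ≫ g) : iA ≫ f = g ≫ iB := by
  calc iA ≫ f = iA ≫ f ≫ eB ≫ iB := by rw [hB, Category.comp_id]
   _ = iA ≫ (f ≫ eB) ≫ iB := by simp only [Category.assoc]
   _ = iA ≫ (eA ≫ g) ≫ iB := by rw [h]
   _ = (iA ≫ eA) ≫ g ≫ iB := by simp only [Category.assoc]
   _ = g ≫ iB := by rw [hA, Category.id_comp]

variable {W W' : Scheme.{u}} (b : W' ⟶ W) {M N : Type} [AddCommGroup M] [AddCommGroup N]

/-- `bcDSIso` is natural with respect to `DSmap`. -/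
lemma bcDSIso_DSmap (φ : N →+ M) :
    (Over.pullback b).map (Red.DSmap W φ) ≫ (bcDSIso b N).hom.hom.hom =
      (bcDSIso b M).hom.hom.hom ≫ Red.DSmap W' φ := by
  have hinv : ∀ (K : Type) [AddCommGroup K], (bcDSIso b K).hom.hom.hom =
      (bcCompIso b (Limits.IsTerminal.from specULiftZIsTerminal W)
        (Red.diag (ULift.{u} ℤ) K)).inv.hom.hom ≫
        (bcCongrIso (Limits.IsTerminal.hom_ext specULiftZIsTerminal _ _) _).hom.hom.hom := by
    intro K _
    rfl
  rw [hinv, hinv]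
  have h1 := bcCompIso_natural b (Limits.IsTerminal.from specULiftZIsTerminal W)
    (Red.diagMap (ULift.{u} ℤ) φ)
  have h2 := bcCongrIso_natural (Limits.IsTerminal.hom_ext specULiftZIsTerminal
    (b ≫ Limits.IsTerminal.from specULiftZIsTerminal W)
    (Limits.IsTerminal.from specULiftZIsTerminal W')) (Red.diagMap (ULift.{u} ℤ) φ)
  have e1 : (bcCompIso b (Limits.IsTerminal.from specULiftZIsTerminal W)
      (Red.diag (ULift.{u} ℤ) M)).inv.hom.hom ≫
      (bcCompIso b (Limits.IsTerminal.from specULiftZIsTerminal W)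
      (Red.diag (ULift.{u} ℤ) M)).hom.hom.hom = 𝟙 _ := by
    rw [← Grp.comp_hom_hom, Iso.inv_hom_id, Grp.id_hom_hom]
  have e2 : (bcCompIso b (Limits.IsTerminal.from specULiftZIsTerminal W)
      (Red.diag (ULift.{u} ℤ) N)).hom.hom.hom ≫
      (bcCompIso b (Limits.IsTerminal.from specULiftZIsTerminal W)
      (Red.diag (ULift.{u} ℤ) N)).inv.hom.hom = 𝟙 _ := by
    rw [← Grp.comp_hom_hom, Iso.hom_inv_id, Grp.id_hom_hom]
  have hcomp := conj_of_comm _ _ _ _ _ _ e1 e2 h1
  change (Over.pullback b).map ((Over.pullback _).map (Red.diagMap (ULift.{u} ℤ) φ)) ≫ _ ≫ _ =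
    (_ ≫ _) ≫ (Over.pullback _).map (Red.diagMap (ULift.{u} ℤ) φ)
  rw [← Category.assoc, ← hcomp, Category.assoc, h2, Category.assoc]

end Natural

section Univ

variable {S : Scheme.{u}} {G H A : Over S} [GrpObj G] [GrpObj H] (υ : G ⊗ A ⟶ H)

/-- the universal homomorphism over `A`. -/
noncomputable def univHom : Red.bc A.hom G ⟶ Red.bc A.hom H :=
  Over.homMk (pullback.lift υ.left (pullback.snd G.hom A.hom) (by
    have h1 : υ.left ≫ H.hom = (G ⊗ A).hom := Over.w υ
    rw [h1, Over.tensorObj_hom]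
    exact pullback.condition)) (by
    change pullback.lift _ _ _ ≫ pullback.snd H.hom A.hom = pullback.snd G.hom A.hom
    rw [pullback.lift_snd])

lemma univHom_left_fst : (univHom υ).left ≫ pullback.fst H.hom A.hom = υ.left := by
  unfold univHom
  exact pullback.lift_fst _ _ _

/-- the structure morphism of a scheme over `A.left`, as a point of `A`. -/
def str (Y : Over A.left) : (Over.map A.hom).obj Y ⟶ A := Over.homMk Y.hom rfl

/-- the action of the universal homomorphism on points. -/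
lemma adjE_comp_univHom (Y : Over A.left) (g₁ : Y ⟶ Red.bc A.hom G) :
    adjE A.hom H Y (g₁ ≫ univHom υ) = lift (adjE A.hom G Y g₁) (str Y) ≫ υ := by
  apply Over.OverMorphism.ext
  change (g₁.left ≫ (univHom υ).left) ≫ pullback.fst H.hom A.hom =
    (lift (adjE A.hom G Y g₁) (str Y)).left ≫ υ.left
  rw [Category.assoc, univHom_left_fst]
  congr 1
  rw [Over.lift_left]
  apply pullback.hom_ext
  · rw [pullback.lift_fst]
    rfl
  · rw [pullback.lift_snd]
    exact Over.w g₁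

theorem isMonHom_univHom (hυ : AutFam.IsHomFamily G H υ) : IsMonHom (univHom υ) := by
  apply isMonHom_of_forall_mul
  intro T x y
  apply (adjE A.hom H T).injective
  rw [adjE_comp_univHom, adjE_mul, hυ, adjE_mul, adjE_comp_univHom, adjE_comp_univHom]

/-- points of `A` are determined by the families they classify, tested on points. -/
theorem hom_ext_of_points (hA : AutFam.RepresentsHom G H A υ) {T : Over S} (c₁ c₂ : T ⟶ A)
    (h : ∀ (Y : Over S) (g : Y ⟶ G) (t : Y ⟶ T), lift g (t ≫ c₁) ≫ υ = lift g (t ≫ c₂) ≫ υ) :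
    c₁ = c₂ := by
  obtain ⟨hυ, huniv⟩ := hA
  have hfam : AutFam.IsHomFamily G H ((G ◁ c₂) ≫ υ) := by
    intro Y g₁ g₂ t
    have h1 : ∀ g : Y ⟶ G, lift g t ≫ (G ◁ c₂) ≫ υ = lift g (t ≫ c₂) ≫ υ := by
      intro g
      rw [← Category.assoc, lift_whiskerLeft]
    rw [h1, h1, h1]
    exact hυ _ _ _ _
  have heq : (G ◁ c₁) ≫ υ = (G ◁ c₂) ≫ υ := by
    have h1 := h (G ⊗ T) (fst G T) (snd G T)
    rw [← lift_whiskerLeft, ← lift_whiskerLeft, lift_fst_snd, Category.id_comp,
      Category.id_comp] at h1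
    exact h1
  exact (huniv T _ hfam).unique heq rfl

/-- the section of `A` classifying a homomorphism. -/
theorem exists_section (hA : AutFam.RepresentsHom G H A υ) (ψ : G ⟶ H) [IsMonHom ψ] :
    ∃ σ : 𝟙_ (Over S) ⟶ A, ∀ (Y : Over S) (g : Y ⟶ G),
      lift g (toUnit Y ≫ σ) ≫ υ = g ≫ ψ := by
  obtain ⟨hυ, huniv⟩ := hA
  have hfam : AutFam.IsHomFamily G H (fst G (𝟙_ (Over S)) ≫ ψ) := by
    intro Y g₁ g₂ t
    rw [← Category.assoc, lift_fst, ← Category.assoc, lift_fst, ← Category.assoc, lift_fst,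
      MonObj.mul_comp]
  obtain ⟨σ, hσ, -⟩ := huniv _ _ hfam
  have hσ : (G ◁ σ) ≫ υ = fst G (𝟙_ (Over S)) ≫ ψ := hσ
  refine ⟨σ, fun Y g => ?_⟩
  rw [← lift_whiskerLeft, Category.assoc, hσ, ← Category.assoc, lift_fst]

end Univ

section Triv

variable {S : Scheme.{u}} {G H A : Over S} [GrpObj G] [GrpObj H] (υ : G ⊗ A ⟶ H)
  {M N : Type} [AddCommGroup M] [AddCommGroup N]
  (eG : Grp.mk G ≅ Grp.mk (Red.DS S M)) (eH : Grp.mk H ≅ Grp.mk (Red.DS S N))

/-- the trivialisation of `bc A.hom G`. -/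
noncomputable def eX {G : Over S} [GrpObj G] {M : Type} [AddCommGroup M]
    (A : Over S) (eG : Grp.mk G ≅ Grp.mk (Red.DS S M)) :
    Grp.mk (Red.bc A.hom G) ≅ Grp.mk (Red.DS A.left M) :=
  bcMapIso A.hom eG ≪≫ bcDSIso A.hom M

/-- the universal homomorphism in diagonalised form. -/
noncomputable def vU : Red.DS A.left M ⟶ Red.DS A.left N :=
  (eX A eG).inv.hom.hom ≫ univHom υ ≫ (eX A eH).hom.hom.hom

theorem isMonHom_vU (hυ : AutFam.IsHomFamily G H υ) : IsMonHom (vU υ eG eH) := by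
  haveI := isMonHom_univHom υ hυ
  unfold vU
  infer_instance

/-- the homomorphism `G ⟶ H` corresponding to `φ : N →+ M`. -/
noncomputable def psi (φ : N →+ M) : G ⟶ H :=
  eG.hom.hom.hom ≫ Red.DSmap S φ ≫ eH.inv.hom.hom

instance (φ : N →+ M) : IsMonHom (psi eG eH φ) := by
  unfold psi
  infer_instance

lemma eX_hom_inv {G : Over S} [GrpObj G] {M : Type} [AddCommGroup M]
    (A : Over S) (eG : Grp.mk G ≅ Grp.mk (Red.DS S M)) :
    (eX A eG).hom.hom.hom ≫ (eX A eG).inv.hom.hom = 𝟙 _ := by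
  rw [← Grp.comp_hom_hom, Iso.hom_inv_id, Grp.id_hom_hom]

lemma eX_inv_hom {G : Over S} [GrpObj G] {M : Type} [AddCommGroup M]
    (A : Over S) (eG : Grp.mk G ≅ Grp.mk (Red.DS S M)) :
    (eX A eG).inv.hom.hom ≫ (eX A eG).hom.hom.hom = 𝟙 _ := by
  rw [← Grp.comp_hom_hom, Iso.inv_hom_id, Grp.id_hom_hom]

lemma univHom_eq : univHom υ =
    (eX A eG).hom.hom.hom ≫ vU υ eG eH ≫ (eX A eH).inv.hom.hom := by
  unfold vU
  simp only [Category.assoc]
  rw [eX_hom_inv, Category.comp_id, ← Category.assoc, eX_hom_inv, Category.id_comp]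

open scoped Obj in
/-- the diagonalised form of the base change of `psi φ`. -/
lemma map_psi (φ : N →+ M) :
    (Over.pullback A.hom).map (psi eG eH φ) =
      (eX A eG).hom.hom.hom ≫ Red.DSmap A.left φ ≫ (eX A eH).inv.hom.hom := by
  have h1 : (eX A eG).hom.hom.hom =
      (Over.pullback A.hom).map eG.hom.hom.hom ≫ (bcDSIso A.hom M).hom.hom.hom := rfl
  have h2 : (eX A eH).inv.hom.hom =
      (bcDSIso A.hom N).inv.hom.hom ≫ (Over.pullback A.hom).map eH.inv.hom.hom := rfl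
  have e2 : (bcDSIso A.hom N).hom.hom.hom ≫ (bcDSIso A.hom N).inv.hom.hom = 𝟙 _ := by
    rw [← Grp.comp_hom_hom, Iso.hom_inv_id, Grp.id_hom_hom]
  have h3 : (bcDSIso A.hom M).hom.hom.hom ≫ Red.DSmap A.left φ ≫ (bcDSIso A.hom N).inv.hom.hom =
      (Over.pullback A.hom).map (Red.DSmap S φ) := by
    rw [← Category.assoc, ← bcDSIso_DSmap, Category.assoc, e2, Category.comp_id]
  rw [h1, h2, psi, Functor.map_comp, Functor.map_comp]
  simp only [Category.assoc]
  rw [← h3]
  simp only [Category.assoc]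

variable [AddGroup.FG N]

/-- **the family at a point of `A` lying in `Wphi φ` is constant.** -/
theorem lift_comp_of_mem_Wphi (hυ : AutFam.IsHomFamily G H υ) (φ : N →+ M) {Y : Over S}
    (c : Y ⟶ A)
    (hc : ∀ y : Y.left, c.left y ∈ @Wphi _ _ _ _ _ (vU υ eG eH) (isMonHom_vU υ eG eH hυ) φ)
    (g : Y ⟶ G) : lift g c ≫ υ = g ≫ psi eG eH φ := by
  haveI := isMonHom_vU υ eG eH hυ
  -- reduce to `Y = (Over.map A.hom).obj Y'`
  let Y' : Over A.left := Over.mk c.left
  let k : Y ≅ (Over.map A.hom).obj Y' := Over.isoMk (Iso.refl Y.left) (by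
    change 𝟙 _ ≫ c.left ≫ A.hom = Y.hom
    rw [Category.id_comp]
    exact Over.w c)
  have hstr : k.hom ≫ str Y' = c := by
    apply Over.OverMorphism.ext
    change 𝟙 _ ≫ c.left = c.left
    rw [Category.id_comp]
  have hlift : lift g c = k.hom ≫ lift (k.inv ≫ g) (str Y') := by
    rw [comp_lift, Iso.hom_inv_id_assoc, hstr]
  have hYW : ∀ y : Y'.left, Y'.hom y ∈ Wphi (vU υ eG eH) φ := hc
  obtain ⟨g₁, hg₁⟩ : ∃ g₁ : Y' ⟶ Red.bc A.hom G, adjE A.hom G Y' g₁ = k.inv ≫ g :=
    ⟨(adjE A.hom G Y').symm (k.inv ≫ g), Equiv.apply_symm_apply _ _⟩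
  have h1 : (g₁ ≫ (eX A eG).hom.hom.hom) ≫ vU υ eG eH =
      (g₁ ≫ (eX A eG).hom.hom.hom) ≫ Red.DSmap A.left φ :=
    comp_eq_of_mem_Wphi (vU υ eG eH) φ Y' hYW _
  have h2 : g₁ ≫ univHom υ = g₁ ≫ (Over.pullback A.hom).map (psi eG eH φ) := by
    rw [univHom_eq υ eG eH, map_psi, ← Category.assoc, ← Category.assoc, h1]
    simp only [Category.assoc]
  rw [hlift, Category.assoc, ← hg₁, ← adjE_comp_univHom, h2, adjE_map, hg₁, Category.assoc,
    Iso.hom_inv_id_assoc]

end Triv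

end Groth.Agent.Lib.R2H3.HomFinEt
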