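import Mathlib
import Groth.Agent.Lib.R2H3HomFinEt

/-!
# The scheme of homomorphisms between diagonalisable groups: étale and finite (helper3, round 2)

Setting of `R2H3HomFinEt`: `(A, υ)` represents `Hom_{S-gr}(G, H)`, `G ≅ D_S(M)`, `H ≅ D_S(N)`,
`N` finitely generated.

* `sec φ`: the section of `A` classifying `psi φ`; `ι_comp_sec`, `sec_mem`.
* `etale_of_triv`: `A ⟶ S` is étale.
* `isFinite_of_triv`: `A ⟶ S` is finite if `S` is affine and `A` is affine and locally of finite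
  type over `S`.
-/

set_option autoImplicit false
set_option linter.style.haveILetI false
set_option linter.unusedVariables false
set_option linter.unusedSectionVars false

universe u

open CategoryTheory MonoidalCategory CartesianMonoidalCategory MonObj GrpObj AlgebraicGeometry
  CategoryTheory.Limits TopologicalSpace
open Groth.Agent.Lib.Helper27.GaGm Groth.Agent.Lib.H6xDSPts Groth.Agent.Lib.R2H3.MultAct
  Groth.Agent.Lib.R2H3.MultHom Groth.Agent.Lib.R2H3.FpqcLocal Groth.Agent.Lib.R2H3.HomRepBC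
  Groth.Agent.Lib.R2H3.HomFinEt

namespace Groth.Agent.Lib.R2H3.HomFinEtGeo

/-- a global section vanishing on the members of an open cover vanishes. -/
lemma eq_zero_of_cover {X : Scheme.{u}} {J : Type*} (U : J → X.Opens)
    (hU : ∀ x : X, ∃ i, x ∈ U i) (f : Γ(X, ⊤)) (h : ∀ i, (U i).ι.appTop f = 0) : f = 0 := by
  refine TopCat.Sheaf.eq_of_locally_eq' X.sheaf (fun i => (U i).ι ''ᵁ ⊤) ⊤
    (fun i => homOfLE le_top) ?_ f 0 ?_
  · intro x _
    obtain ⟨i, hi⟩ := hU x
    rw [Opens.mem_iSup]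
    refine ⟨i, ?_⟩
    rw [Scheme.Opens.ι_image_top]
    exact hi
  · intro i
    have h1 := h i
    rw [Scheme.Opens.ι_appTop] at h1
    rw [map_zero]
    exact h1

variable {S : Scheme.{u}} {G H A : Over S} [GrpObj G] [GrpObj H] (υ : G ⊗ A ⟶ H)
  {M N : Type} [AddCommGroup M] [AddCommGroup N]
  (eG : Grp.mk G ≅ Grp.mk (Red.DS S M)) (eH : Grp.mk H ≅ Grp.mk (Red.DS S N))
  (hA : AutFam.RepresentsHom G H A υ) [AddGroup.FG N] [IsMonHom (vU υ eG eH)]

/-- the open and closed locus of `A` where the universal homomorphism is `φ`. -/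
noncomputable def Wop (φ : N →+ M) : A.left.Opens :=
  ⟨Wphi (vU υ eG eH) φ, (isClopen_Wphi (vU υ eG eH) φ).isOpen⟩

lemma mem_Wop (φ : N →+ M) (x : A.left) : x ∈ Wop υ eG eH φ ↔ x ∈ Wphi (vU υ eG eH) φ := Iff.rfl

lemma exists_mem_Wop (x : A.left) : ∃ φ : N →+ M, x ∈ Wop υ eG eH φ :=
  ⟨_, mem_Wphi_phiAt (vU υ eG eH) x⟩

/-- the section of `A` classifying `psi φ`. -/
noncomputable def sec (φ : N →+ M) : 𝟙_ (Over S) ⟶ A :=
  (exists_section υ hA (psi eG eH φ)).choose

lemma sec_spec (φ : N →+ M) (Y : Over S) (g : Y ⟶ G) :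
    lift g (toUnit Y ≫ sec υ eG eH hA φ) ≫ υ = g ≫ psi eG eH φ :=
  (exists_section υ hA (psi eG eH φ)).choose_spec Y g

lemma sec_left_comp (φ : N →+ M) : (sec υ eG eH hA φ).left ≫ A.hom = 𝟙 S :=
  Over.w (sec υ eG eH hA φ)

/-- on `W_φ` the structure map followed by the section is the identity. -/
theorem ι_comp_sec (φ : N →+ M) :
    (Wop υ eG eH φ).ι ≫ A.hom ≫ (sec υ eG eH hA φ).left = (Wop υ eG eH φ).ι := by
  obtain ⟨T, hT⟩ : ∃ T : Over S, T = Over.mk ((Wop υ eG eH φ).ι ≫ A.hom) := ⟨_, rfl⟩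
  let c₁ : Over.mk ((Wop υ eG eH φ).ι ≫ A.hom) ⟶ A := Over.homMk (Wop υ eG eH φ).ι rfl
  let c₂ : Over.mk ((Wop υ eG eH φ).ι ≫ A.hom) ⟶ A := toUnit _ ≫ sec υ eG eH hA φ
  have h12 : c₁ = c₂ := by
    apply hom_ext_of_points υ hA
    intro Y g t
    have h1 : lift g (t ≫ c₁) ≫ υ = g ≫ psi eG eH φ := by
      apply lift_comp_of_mem_Wphi υ eG eH hA.1 φ (t ≫ c₁) _ g
      intro y
      change (Wop υ eG eH φ).ι (t.left y) ∈ Wphi (vU υ eG eH) φ
      exact (t.left y).2
    have h2 : t ≫ c₂ = toUnit Y ≫ sec υ eG eH hA φ := by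
      change t ≫ toUnit _ ≫ sec υ eG eH hA φ = _
      rw [← Category.assoc, comp_toUnit]
    rw [h1, h2, sec_spec]
  have h3 := congrArg (fun k => k.left) h12
  change (Wop υ eG eH φ).ι = ((Wop υ eG eH φ).ι ≫ A.hom) ≫ (sec υ eG eH hA φ).left at h3
  rw [← Category.assoc]
  exact h3.symm

/-- the section classifying `psi φ` lands in `W_φ`. -/
theorem sec_mem (φ : N →+ M) (s : S) :
    (sec υ eG eH hA φ).left s ∈ Wphi (vU υ eG eH) φ := by
  obtain ⟨φ', hφ'⟩ : ∃ φ' : N →+ M, (sec υ eG eH hA φ).left s ∈ Wphi (vU υ eG eH) φ' :=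
    ⟨_, mem_Wphi_phiAt (vU υ eG eH) _⟩
  suffices h : φ' = φ by rw [h] at hφ'; exact hφ'
  symm
  -- points over the preimage of `W_φ'`
  have fact : ∀ (Y : Over S), (∀ y : Y.left,
      (sec υ eG eH hA φ).left (Y.hom y) ∈ Wphi (vU υ eG eH) φ') →
      ∀ g : Y ⟶ G, g ≫ psi eG eH φ = g ≫ psi eG eH φ' := by
    intro Y hY g
    have h1 := lift_comp_of_mem_Wphi υ eG eH hA.1 φ' (toUnit Y ≫ sec υ eG eH hA φ) hY g
    rw [sec_spec] at h1
    exact h1
  -- the universal character over the residue field at `s`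
  obtain ⟨β, hβ⟩ : ∃ β : S.residueField s →+*
      MonoidAlgebra (S.residueField s) (Multiplicative M), β = algebraMap _ _ := ⟨_, rfl⟩
  obtain ⟨q, hq'⟩ : ∃ q : Spec (CommRingCat.of (MonoidAlgebra (S.residueField s)
      (Multiplicative M))) ⟶ S,
      q = Spec.map (CommRingCat.ofHom β) ≫ S.fromSpecResidueField s := ⟨_, rfl⟩
  have hqs : ∀ y, q y = s := by
    intro y
    rw [hq', Scheme.Hom.comp_apply, Scheme.fromSpecResidueField_apply]
  have h1 := fact (Over.mk q) (fun y => by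
    change (sec υ eG eH hA φ).left (q y) ∈ _
    rw [hqs]
    exact hφ')
    (hq q (MonoidAlgebra.of (S.residueField s) (Multiplicative M)) ≫ eG.inv.hom.hom)
  have e1 : eG.inv.hom.hom ≫ eG.hom.hom.hom = 𝟙 _ := by
    rw [← Grp.comp_hom_hom, Iso.inv_hom_id, Grp.id_hom_hom]
  have e2 : eH.inv.hom.hom ≫ eH.hom.hom.hom = 𝟙 _ := by
    rw [← Grp.comp_hom_hom, Iso.inv_hom_id, Grp.id_hom_hom]
  have h2 := congrArg (fun k => k ≫ eH.hom.hom.hom) h1
  simp only [psi, Category.assoc, e2, Category.comp_id] at h2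
  rw [← Category.assoc eG.inv.hom.hom, e1, Category.id_comp,
    ← Category.assoc eG.inv.hom.hom, e1, Category.id_comp, hq_comp_DSmap, hq_comp_DSmap] at h2
  have h3 := congrArg charOf h2
  rw [charOf_hq, charOf_hq] at h3
  ext n
  have h4 := DFunLike.congr_fun h3 (Multiplicative.ofAdd n)
  rw [MonoidHom.comp_apply, MonoidHom.comp_apply] at h4
  have h5 := MonoidAlgebra.of_injective h4
  exact Multiplicative.ofAdd.injective h5

include υ eG eH hA in
/-- **The scheme of homomorphisms between diagonalisable groups is étale over the base.** -/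
theorem etale_of_triv : Etale A.hom := by
  rw [IsZariskiLocalAtSource.iff_of_iSup_eq_top (P := @Etale) (fun φ : N →+ M => Wop υ eG eH φ)
    (by
      rw [eq_top_iff]
      intro x _
      obtain ⟨φ, hφ⟩ := exists_mem_Wop υ eG eH x
      exact Opens.mem_iSup.mpr ⟨φ, hφ⟩)]
  intro φ
  have hrange : Set.range (sec υ eG eH hA φ).left ⊆ Set.range (Wop υ eG eH φ).ι := by
    rintro _ ⟨s, rfl⟩
    rw [Scheme.Opens.range_ι]
    exact sec_mem υ eG eH hA φ s
  let σ' : S ⟶ (Wop υ eG eH φ : Scheme.{u}) :=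
    IsOpenImmersion.lift (Wop υ eG eH φ).ι (sec υ eG eH hA φ).left hrange
  have hσ' : σ' ≫ (Wop υ eG eH φ).ι = (sec υ eG eH hA φ).left := IsOpenImmersion.lift_fac _ _ _
  haveI : IsIso ((Wop υ eG eH φ).ι ≫ A.hom) := by
    refine ⟨σ', ?_, ?_⟩
    · rw [← cancel_mono (Wop υ eG eH φ).ι, Category.assoc, Category.assoc, hσ', Category.id_comp]
      exact ι_comp_sec υ eG eH hA φ
    · rw [← Category.assoc, hσ']
      exact sec_left_comp υ eG eH hA φ
  infer_instance

include υ eG eH hA in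
/-- **The scheme of homomorphisms between diagonalisable groups is finite over an affine base, if
it is affine and locally of finite type over it.** -/
theorem isFinite_of_triv [IsAffine S] [IsAffineHom A.hom] [LocallyOfFiniteType A.hom] :
    IsFinite A.hom := by
  haveI : IsAffine A.left := isAffine_of_isAffineHom A.hom
  rw [IsFinite.iff_isIntegralHom_and_locallyOfFiniteType]
  refine ⟨?_, inferInstance⟩
  -- finitely many sheets
  obtain ⟨Φ, hΦ⟩ := isCompact_univ.elim_finite_subcover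
    (fun φ : N →+ M => ((Wop υ eG eH φ : A.left.Opens) : Set A.left))
    (fun φ => (Wop υ eG eH φ).isOpen) (by
      intro x _
      obtain ⟨φ, hφ⟩ := exists_mem_Wop υ eG eH x
      exact Set.mem_iUnion.mpr ⟨φ, hφ⟩)
  rw [HasAffineProperty.iff_of_isAffine (P := @IsIntegralHom)]
  refine ⟨inferInstance, ?_⟩
  change (A.hom.appTop).hom.IsIntegral
  intro b
  classical
  let σ : (N →+ M) → (S ⟶ A.left) := fun φ => (sec υ eG eH hA φ).left
  have hσ : ∀ φ, (Wop υ eG eH φ).ι ≫ A.hom ≫ σ φ = (Wop υ eG eH φ).ι :=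
    fun φ => ι_comp_sec υ eG eH hA φ
  refine ⟨∏ φ ∈ Φ, (Polynomial.X - Polynomial.C ((σ φ).appTop b)),
    Polynomial.monic_prod_of_monic _ _ (fun φ _ => Polynomial.monic_X_sub_C _), ?_⟩
  rw [Polynomial.eval₂_finsetProd]
  simp only [Polynomial.eval₂_sub, Polynomial.eval₂_X, Polynomial.eval₂_C]
  apply eq_zero_of_cover (fun φ : Φ => Wop υ eG eH φ.1)
  · intro x
    obtain ⟨φ, hφ⟩ := Set.mem_iUnion.mp (hΦ (Set.mem_univ x))
    obtain ⟨hφΦ, hx⟩ := Set.mem_iUnion.mp hφ
    exact ⟨⟨φ, hφΦ⟩, hx⟩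
  · rintro ⟨φ₀, hφ₀⟩
    rw [map_prod]
    apply Finset.prod_eq_zero hφ₀
    rw [map_sub, sub_eq_zero]
    have h1 := congrArg (fun k => k.appTop b) (hσ φ₀)
    simp only [Scheme.Hom.comp_appTop] at h1
    exact h1.symm

end Groth.Agent.Lib.R2H3.HomFinEtGeo
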