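import Mathlib
import Groth.Prelude.Def_AutFam
import Groth.Prelude.Def_Flatn
import Groth.Agent.Lib.R2H3WeilBase
import Groth.Agent.Lib.R2H3WeilFP
import Groth.Agent.Lib.Helper8FixedPt

/-!
# Representability of the functor of group homomorphisms `Hom_{S-gr}(H, G)`, `H` finite locally free

* `RepMor H G W ω`: `W` with `ω : H ⊗ W ⟶ G` represents `T ↦ (H ⊗ T ⟶ G)` (no group structures).
* `repMor_of_representableBy`: a representing object of `Flatn.morS H.hom G.hom` gives a `RepMor`.
* `representsHom_equalizer`: from `RepMor` data for `H` and for `H ⊗ H`, the functor of group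
  homomorphisms is represented by an equalizer.
* `exists_representsHom`: `H` finite locally free, `G` affine over `S`: `Hom_{S-gr}(H, G)` is
  representable by a scheme affine over `S`, locally of finite type / presentation if `G` is.
-/

universe u

set_option linter.style.haveILetI false
set_option linter.unusedSectionVars false

open CategoryTheory CategoryTheory.Limits AlgebraicGeometry Opposite MonoidalCategory
  CartesianMonoidalCategory MonObj GrpObj

namespace Groth.Agent.Lib.R2H3.HomGrpRep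

variable {S : Scheme.{u}}

/-- `W` with `ω` represents the functor `T ↦ (H ⊗ T ⟶ G)`. -/
def RepMor (H G W : Over S) (ω : H ⊗ W ⟶ G) : Prop :=
  ∀ (T : Over S) (φ : H ⊗ T ⟶ G), ∃! a : T ⟶ W, (H ◁ a) ≫ ω = φ

section FromMorS

variable (H G : Over S)

/-- `H ⊗ T` is `T ×_S H` regarded over `S` through `H`. -/
noncomputable def cT (T : Over S) : H ⊗ T ≅ (Over.map H.hom).obj ((Over.pullback H.hom).obj T) :=
  Over.isoMk (pullbackSymmetry H.hom T.hom) (by
    change (pullbackSymmetry H.hom T.hom).hom ≫ pullback.snd T.hom H.hom ≫ H.hom =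
      pullback.fst H.hom T.hom ≫ H.hom
    rw [← Category.assoc, pullbackSymmetry_hom_comp_snd])

lemma cT_natural {T' T : Over S} (a : T' ⟶ T) :
    (H ◁ a) ≫ (cT H T).hom =
      (cT H T').hom ≫ (Over.map H.hom).map ((Over.pullback H.hom).map a) := by
  apply Over.OverMorphism.ext
  apply pullback.hom_ext
  · change ((H ◁ a).left ≫ (pullbackSymmetry H.hom T.hom).hom) ≫ pullback.fst T.hom H.hom =
      ((pullbackSymmetry H.hom T'.hom).hom ≫ ((Over.pullback H.hom).map a).left) ≫
        pullback.fst T.hom H.hom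
    rw [Category.assoc, pullbackSymmetry_hom_comp_fst, Over.whiskerLeft_left_snd, Category.assoc]
    have : ((Over.pullback H.hom).map a).left ≫ pullback.fst T.hom H.hom =
        pullback.fst T'.hom H.hom ≫ a.left := by
      simp only [Over.pullback_map_left]
      exact pullback.lift_fst _ _ _
    rw [this, ← Category.assoc, pullbackSymmetry_hom_comp_fst]
  · change ((H ◁ a).left ≫ (pullbackSymmetry H.hom T.hom).hom) ≫ pullback.snd T.hom H.hom =
      ((pullbackSymmetry H.hom T'.hom).hom ≫ ((Over.pullback H.hom).map a).left) ≫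
        pullback.snd T.hom H.hom
    rw [Category.assoc, pullbackSymmetry_hom_comp_snd, Over.whiskerLeft_left_fst, Category.assoc]
    have : ((Over.pullback H.hom).map a).left ≫ pullback.snd T.hom H.hom =
        pullback.snd T'.hom H.hom := by
      simp only [Over.pullback_map_left]
      exact pullback.lift_snd _ _ _
    rw [this, pullbackSymmetry_hom_comp_snd]

/-- a representing object of `Flatn.morS H.hom G.hom` represents `T ↦ (H ⊗ T ⟶ G)`. -/
theorem repMor_of_representableBy (W : Over S) (r : (Flatn.morS H.hom G.hom).RepresentableBy W) :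
    ∃ ω : H ⊗ W ⟶ G, RepMor H G W ω := by
  let ω' : (Over.map H.hom).obj ((Over.pullback H.hom).obj W) ⟶ G := r.homEquiv (𝟙 W)
  have hr : ∀ {T : Over S} (a : T ⟶ W),
      (r.homEquiv a : (Over.map H.hom).obj ((Over.pullback H.hom).obj T) ⟶ G) =
        (Over.map H.hom).map ((Over.pullback H.hom).map a) ≫ ω' := by
    intro T a
    have h1 := r.homEquiv_comp a (𝟙 W)
    rw [Category.comp_id] at h1
    exact h1
  refine ⟨(cT H W).hom ≫ ω', fun T φ => ?_⟩
  have key : ∀ a : T ⟶ W, (H ◁ a) ≫ (cT H W).hom ≫ ω' = (cT H T).hom ≫ r.homEquiv a := by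
    intro a
    rw [← Category.assoc, cT_natural, Category.assoc, hr]
  let b : (Over.map H.hom).obj ((Over.pullback H.hom).obj T) ⟶ G := (cT H T).inv ≫ φ
  refine ⟨r.homEquiv.symm b, ?_, ?_⟩
  · change (H ◁ r.homEquiv.symm b) ≫ (cT H W).hom ≫ ω' = φ
    rw [key, Equiv.apply_symm_apply, Iso.hom_inv_id_assoc]
  · intro a' ha'
    change (H ◁ a') ≫ (cT H W).hom ≫ ω' = φ at ha'
    rw [key] at ha'
    apply r.homEquiv.injective
    rw [Equiv.apply_symm_apply]
    change r.homEquiv a' = (cT H T).inv ≫ φ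
    rw [← ha', Iso.inv_hom_id_assoc]

end FromMorS

section Equalizer

variable (H G : Over S) [GrpObj H] [GrpObj G] {W W₂ : Over S} (ω : H ⊗ W ⟶ G)
  (ω₂ : (H ⊗ H) ⊗ W₂ ⟶ G)

/-- `(h₁, h₂, w) ↦ ω(h₁ h₂, w)`. -/
noncomputable def alpha : (H ⊗ H) ⊗ W ⟶ G := (μ[H] ▷ W) ≫ ω

/-- `(h₁, h₂, w) ↦ ω(h₁, w) ω(h₂, w)`. -/
noncomputable def beta : (H ⊗ H) ⊗ W ⟶ G :=
  (lift (fst (H ⊗ H) W ≫ fst H H) (snd (H ⊗ H) W) ≫ ω) *
    (lift (fst (H ⊗ H) W ≫ snd H H) (snd (H ⊗ H) W) ≫ ω)

lemma lift_alpha {X : Over S} (g₁ g₂ : X ⟶ H) (w : X ⟶ W) :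
    lift (lift g₁ g₂) w ≫ alpha H G ω = lift (g₁ * g₂) w ≫ ω := by
  rw [alpha, ← Category.assoc, lift_whiskerRight, Hom.mul_def]

lemma lift_beta {X : Over S} (g₁ g₂ : X ⟶ H) (w : X ⟶ W) :
    lift (lift g₁ g₂) w ≫ beta H G ω = (lift g₁ w ≫ ω) * (lift g₂ w ≫ ω) := by
  rw [beta, MonObj.comp_mul, ← Category.assoc, ← Category.assoc, comp_lift, comp_lift,
    lift_snd, ← Category.assoc, ← Category.assoc, lift_fst, lift_fst, lift_snd]

variable {H G ω ω₂}

/-- **The functor of group homomorphisms as an equalizer.** -/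
theorem representsHom_equalizer (hW : RepMor H G W ω) (hW₂ : RepMor (H ⊗ H) G W₂ ω₂) :
    ∃ a b : W ⟶ W₂, AutFam.RepresentsHom H G (equalizer a b) ((H ◁ equalizer.ι a b) ≫ ω) := by
  obtain ⟨a, ha, -⟩ := hW₂ W (alpha H G ω)
  obtain ⟨b, hb, -⟩ := hW₂ W (beta H G ω)
  have ha : ((H ⊗ H) ◁ a) ≫ ω₂ = alpha H G ω := ha
  have hb : ((H ⊗ H) ◁ b) ≫ ω₂ = beta H G ω := hb
  -- a point `w` of `W` equalizes `a` and `b` iff the family `ω(-, w)` is multiplicative
  have hab : ∀ {T : Over S} (w : T ⟶ W), w ≫ a = w ≫ b ↔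
      ((H ⊗ H) ◁ w) ≫ alpha H G ω = ((H ⊗ H) ◁ w) ≫ beta H G ω := by
    intro T w
    rw [← ha, ← hb, ← Category.assoc, ← Category.assoc, ← MonoidalCategory.whiskerLeft_comp,
      ← MonoidalCategory.whiskerLeft_comp]
    constructor
    · intro h
      rw [h]
    · intro h
      exact (hW₂ T _).unique rfl h.symm
  refine ⟨a, b, ?_, ?_⟩
  · -- the universal family is a family of homomorphisms
    intro X g₁ g₂ t
    have h1 : ∀ g : X ⟶ H, lift g t ≫ (H ◁ equalizer.ι a b) ≫ ω =
        lift g (t ≫ equalizer.ι a b) ≫ ω := by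
      intro g
      rw [← Category.assoc, lift_whiskerLeft]
    rw [h1, h1, h1, ← lift_alpha, ← lift_beta]
    have h2 := (hab (equalizer.ι a b)).mp (equalizer.condition a b)
    have h3 : lift (lift g₁ g₂) (t ≫ equalizer.ι a b) =
        lift (lift g₁ g₂) t ≫ ((H ⊗ H) ◁ equalizer.ι a b) := by
      rw [lift_whiskerLeft]
    rw [h3, Category.assoc, Category.assoc, h2]
  · intro T φ hφ
    obtain ⟨w, hw, hwu⟩ := hW T φ
    have hw : (H ◁ w) ≫ ω = φ := hw
    have hwab : w ≫ a = w ≫ b := by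
      rw [hab]
      -- test on the universal point of `(H ⊗ H) ⊗ T`
      have hid : ∀ ψ : (H ⊗ H) ⊗ W ⟶ G, ((H ⊗ H) ◁ w) ≫ ψ =
          lift (lift (fst (H ⊗ H) T ≫ fst H H) (fst (H ⊗ H) T ≫ snd H H))
            (snd (H ⊗ H) T ≫ w) ≫ ψ := by
        intro ψ
        congr 1
        apply CartesianMonoidalCategory.hom_ext
        · rw [whiskerLeft_fst, lift_fst]
          apply CartesianMonoidalCategory.hom_ext
          · rw [lift_fst]
          · rw [lift_snd]
        · rw [whiskerLeft_snd, lift_snd]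
      rw [hid, hid, lift_alpha, lift_beta]
      have h4 : ∀ g : (H ⊗ H) ⊗ T ⟶ H, lift g (snd (H ⊗ H) T ≫ w) ≫ ω =
          lift g (snd (H ⊗ H) T) ≫ φ := by
        intro g
        rw [← hw, ← Category.assoc, lift_whiskerLeft]
      rw [h4, h4, h4]
      exact hφ _ _ _ _
    refine ⟨equalizer.lift w hwab, ?_, ?_⟩
    · change (H ◁ equalizer.lift w hwab) ≫ (H ◁ equalizer.ι a b) ≫ ω = φ
      rw [← Category.assoc, ← MonoidalCategory.whiskerLeft_comp, equalizer.lift_ι, hw]
    · intro a' ha'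
      change (H ◁ a') ≫ (H ◁ equalizer.ι a b) ≫ ω = φ at ha'
      rw [← Category.assoc, ← MonoidalCategory.whiskerLeft_comp] at ha'
      have h5 : a' ≫ equalizer.ι a b = w := hwu _ ha'
      apply equalizer.hom_ext
      rw [h5, equalizer.lift_ι]

end Equalizer

section Main

variable (H G : Over S) [GrpObj H] [GrpObj G]

/-- **Representability of `Hom_{S-gr}(H, G)`** for `H` finite locally free and `G` affine over
`S`. -/
theorem exists_representsHom [IsFinite H.hom] [Flat H.hom] [LocallyOfFinitePresentation H.hom]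
    [IsAffineHom G.hom] :
    ∃ (A : Over S) (υ : H ⊗ A ⟶ G), AutFam.RepresentsHom H G A υ ∧ IsAffineHom A.hom ∧
      (LocallyOfFiniteType G.hom → LocallyOfFiniteType A.hom) ∧
      (LocallyOfFinitePresentation G.hom → LocallyOfFinitePresentation A.hom) := by
  -- the scheme of morphisms `H → G`
  obtain ⟨W, ⟨r⟩⟩ := (Groth.Agent.Lib.R2H3.WeilBase.weil_general H.hom G.hom
    (Groth.Agent.Lib.R2H3.WeilFP.af_of_isAffineHom G.hom)).has_representation
  obtain ⟨hWaff, hWft, hWfp⟩ := Groth.Agent.Lib.R2H3.WeilFP.weil_props H.hom G.hom W r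
  obtain ⟨ω, hω⟩ := repMor_of_representableBy H G W r
  -- the scheme of morphisms `H × H → G`
  haveI : IsFinite (H ⊗ H).hom := by
    change IsFinite (pullback.fst H.hom H.hom ≫ H.hom)
    infer_instance
  haveI : Flat (H ⊗ H).hom := by
    change Flat (pullback.fst H.hom H.hom ≫ H.hom)
    infer_instance
  haveI : LocallyOfFinitePresentation (H ⊗ H).hom := by
    change LocallyOfFinitePresentation (pullback.fst H.hom H.hom ≫ H.hom)
    infer_instance
  obtain ⟨W₂, ⟨r₂⟩⟩ := (Groth.Agent.Lib.R2H3.WeilBase.weil_general (H ⊗ H).hom G.hom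
    (Groth.Agent.Lib.R2H3.WeilFP.af_of_isAffineHom G.hom)).has_representation
  obtain ⟨hW₂aff, hW₂ft, hW₂fp⟩ := Groth.Agent.Lib.R2H3.WeilFP.weil_props (H ⊗ H).hom G.hom W₂ r₂
  obtain ⟨ω₂, hω₂⟩ := repMor_of_representableBy (H ⊗ H) G W₂ r₂
  obtain ⟨a, b, hab⟩ := representsHom_equalizer hω hω₂
  haveI := hWaff
  haveI := hW₂aff
  have hA : (equalizer a b).hom = (equalizer.ι a b).left ≫ W.hom := (Over.w (equalizer.ι a b)).symm
  refine ⟨equalizer a b, (H ◁ equalizer.ι a b) ≫ ω, hab, ?_, ?_, ?_⟩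
  · rw [hA]
    infer_instance
  · intro hG
    haveI := hWft hG
    rw [hA]
    infer_instance
  · intro hG
    haveI := hWfp hG
    haveI : LocallyOfFiniteType W₂.hom := by
      haveI := hW₂fp hG
      infer_instance
    haveI := Groth.Agent.Lib.Helper8FixedPt.lfp_equalizer_ι_left a b
    rw [hA]
    infer_instance

end Main

end Groth.Agent.Lib.R2H3.HomGrpRep
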