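import Groth.Agent.Lib.R2H3MultTypeProps
import Groth.Agent.Lib.Helper12Torsor

/-!
# Groups of multiplicative type and of finite type are flat over the base (helper3, round 2)

* `flat_DS`: `D_U(M)` is flat over `U`.
* `flat_of_isMultTypeFT`.
-/

set_option autoImplicit false
set_option linter.style.haveILetI false
set_option linter.unusedVariables false

universe u

open CategoryTheory CategoryTheory.Limits AlgebraicGeometry MorphismProperty

namespace Groth.Agent.Lib.R2H3.MultTypeFlat

theorem flat_diag (R : Type u) [CommRing R] (M : Type) [AddCommGroup M] :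
    Flat (Red.diag R M).hom := by
  change Flat (Spec.map (CommRingCat.ofHom (algebraMap R (MonoidAlgebra R (Multiplicative M)))))
  rw [HasRingHomProperty.Spec_iff (P := @Flat)]
  change (algebraMap R (MonoidAlgebra R (Multiplicative M))).Flat
  rw [RingHom.flat_algebraMap_iff]
  infer_instance

theorem flat_DS (U : Scheme.{u}) (M : Type) [AddCommGroup M] : Flat (Red.DS U M).hom := by
  haveI := flat_diag (ULift.{u} ℤ) M
  change Flat (pullback.snd (Red.diag (ULift.{u} ℤ) M).hom _)
  infer_instance

theorem flat_of_isMultTypeFT {S : Scheme.{u}} (H : Over S) [GrpObj H]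
    (hH : SGA3x.IsMultTypeFT H) : Flat H.hom := by
  haveI := Groth.Agent.Lib.Helper12.descendsAlong_flat.{u}
  exact Groth.Agent.Lib.R2H3.MultTypeProps.prop_of_isMultTypeFT @Flat
    (fun U M _ hM => flat_DS U M) H hH

end Groth.Agent.Lib.R2H3.MultTypeFlat
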