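import Mathlib
import Groth.Agent.Lib.R2H3HomFinEtGeo
import Groth.Agent.Lib.R2H3HomGrpRep
import Groth.Agent.Lib.R2H3BCDescent
import Groth.Agent.Lib.R2H3ActPt
import Groth.Agent.Lib.R2H3MultTypeProps
import Groth.Agent.Lib.R2H3MultTypeFlat

/-!
# `Hom_{S-gr}(G, H)` for finite groups of multiplicative type is finite étale (helper3, round 2)

* `prop_of_representsHom`: a property of morphisms which is fpqc-local on the base holds for the
  structure morphism of the scheme `A` representing `Hom_{S-gr}(G, H)` (`G` of multiplicative type,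
  `H` of multiplicative type and of finite type, `A` affine and locally of finite type over `S`),
  as soon as it holds in the diagonalisable case over an affine base.
* `hom_finite_etale`: SGA 3 X 5.11-type statement.
-/

set_option autoImplicit false
set_option linter.style.haveILetI false
set_option linter.unusedVariables false
set_option linter.unusedSectionVars false

universe u

open CategoryTheory MonoidalCategory CartesianMonoidalCategory MonObj GrpObj AlgebraicGeometry
  CategoryTheory.Limits TopologicalSpace MorphismProperty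
open Groth.Agent.Lib.Helper27.GaGm Groth.Agent.Lib.H6xDSPts Groth.Agent.Lib.R2H3.MultAct
  Groth.Agent.Lib.R2H3.MultHom Groth.Agent.Lib.R2H3.FpqcLocal Groth.Agent.Lib.R2H3.HomRepBC
  Groth.Agent.Lib.R2H3.HomFinEt Groth.Agent.Lib.R2H3.HomFinEtGeo

namespace Groth.Agent.Lib.R2H3.HomFinEtMain

variable {S : Scheme.{u}} {G H A : Over S} [GrpObj G] [GrpObj H]

/-- the base change of `toUnit A` has `P` iff the base change of `A` has. -/
lemma prop_bc_toUnit_iff (P : MorphismProperty Scheme.{u}) [P.RespectsIso] {W : Scheme.{u}}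
    (w : W ⟶ S) :
    P ((Over.pullback w).map (toUnit A)).left ↔ P (Red.bc w A).hom := by
  have h1 : ((Over.pullback w).map (toUnit A)).left ≫ pullback.snd (𝟙_ (Over S)).hom w =
      pullback.snd A.hom w := BCDescent.pullback_map_left_snd (toUnit A) w
  haveI : IsIso (pullback.snd (𝟙_ (Over S)).hom w) := by
    change IsIso (pullback.snd (𝟙 S) w)
    infer_instance
  change _ ↔ P (pullback.snd A.hom w)
  rw [← h1, P.cancel_right_of_respectsIso]

/-- **Reduction to the diagonalisable case** for properties of the scheme of homomorphisms. -/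
theorem prop_of_representsHom (P : MorphismProperty Scheme.{u}) [IsZariskiLocalAtTarget P]
    [P.IsStableUnderBaseChange] [P.DescendsAlong Qfpqc]
    (hP : ∀ (W : Scheme.{u}) (_ : IsAffine W) (G' H' A' : Over W) (_ : GrpObj G') (_ : GrpObj H')
      (υ' : G' ⊗ A' ⟶ H') (M N : Type) (_ : AddCommGroup M) (_ : AddCommGroup N)
      (_ : Grp.mk G' ≅ Grp.mk (Red.DS W M)) (_ : Grp.mk H' ≅ Grp.mk (Red.DS W N)),
      AutFam.RepresentsHom G' H' A' υ' → AddGroup.FG N → IsAffineHom A'.hom →
      LocallyOfFiniteType A'.hom → P A'.hom)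
    (υ : G ⊗ A ⟶ H) (hA : AutFam.RepresentsHom G H A υ) [IsAffineHom A.hom]
    [LocallyOfFiniteType A.hom]
    (hG : TwC.Locally S TwC.Topology.fpqc (fun S' g => ∃ (M : Type) (_ : AddCommGroup M),
      Nonempty (Grp.mk (Red.bc g G) ≅ Grp.mk (Red.DS S' M))))
    (hH : SGA3x.IsMultTypeFT H) : P A.hom := by
  have h0 : P (toUnit A).left := by
    refine BCDescent.descend_over (toUnit A) P fun V hV => ?_
    obtain ⟨T, c, hc, hx⟩ := exists_common_cover G H hG hH V hV
    refine ⟨T, c, hc, fun x => ?_⟩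
    obtain ⟨O, hxO, M, N, instM, instN, hFG, ⟨eG⟩, ⟨eH⟩⟩ := hx x
    obtain ⟨O', hO', hxO', hO'O⟩ : ∃ O' : T.Opens, IsAffineOpen O' ∧ x ∈ O' ∧ O' ≤ O := by
      obtain ⟨O', hO', h1, h2⟩ := TopologicalSpace.Opens.isBasis_iff_nbhd.mp
        (T.isBasis_affineOpens) (U := O) (x := x) hxO
      exact ⟨O', hO', h1, h2⟩
    refine ⟨O', O'.ι, inferInstance, ?_, ?_⟩
    · rw [Scheme.Opens.range_ι]
      exact hxO'
    · rw [prop_bc_toUnit_iff (A := A) P (O'.ι ≫ c ≫ V.ι)]
      have hw : O'.ι ≫ c ≫ V.ι = T.homOfLE hO'O ≫ O.ι ≫ c ≫ V.ι := by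
        rw [← Category.assoc (T.homOfLE hO'O), Scheme.homOfLE_ι]
      exact hP O' hO' _ _ _ inferInstance inferInstance (bcFam (O'.ι ≫ c ≫ V.ι) G H A υ) M N
        instM instN (bcTriv (T.homOfLE hO'O) _ _ hw G M eG) (bcTriv (T.homOfLE hO'O) _ _ hw H N eH)
        (representsHom_bc (O'.ι ≫ c ≫ V.ι) υ hA) hFG
        (by
          change IsAffineHom (pullback.snd A.hom (O'.ι ≫ c ≫ V.ι))
          exact MorphismProperty.pullback_snd (P := @IsAffineHom) _ _ inferInstance)
        (by
          change LocallyOfFiniteType (pullback.snd A.hom (O'.ι ≫ c ≫ V.ι))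
          infer_instance)
  exact h0

/-- **`Hom_{S-gr}(G, H)` is finite étale** for `G`, `H` finite of multiplicative type. -/
theorem hom_finite_etale (G H : Over S) [GrpObj G] [GrpObj H]
    (hG : SGA3x.IsMultTypeFT G) [IsFinite G.hom] (hH : SGA3x.IsMultTypeFT H) [IsFinite H.hom] :
    ∃ (A : Over S) (υ : G ⊗ A ⟶ H), AutFam.RepresentsHom G H A υ ∧ IsFinite A.hom ∧
      Etale A.hom := by
  haveI : Flat G.hom := Groth.Agent.Lib.R2H3.MultTypeFlat.flat_of_isMultTypeFT G hG
  haveI : LocallyOfFinitePresentation G.hom :=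
    Groth.Agent.Lib.R2H3.MultTypeProps.lfp_of_isMultTypeFT G hG
  haveI : LocallyOfFinitePresentation H.hom :=
    Groth.Agent.Lib.R2H3.MultTypeProps.lfp_of_isMultTypeFT H hH
  haveI : IsAffineHom H.hom := inferInstance
  obtain ⟨A, υ, hA, hAaff, hAft, hAfp⟩ := Groth.Agent.Lib.R2H3.HomGrpRep.exists_representsHom G H
  haveI := hAaff
  haveI : LocallyOfFiniteType A.hom := hAft inferInstance
  have hGloc := Groth.Agent.Lib.R2H3.MultAct.locally_of_isMultTypeFT hG
  refine ⟨A, υ, hA, ?_, ?_⟩
  · haveI := Groth.Agent.Lib.Helper12.descendsAlong_isFinite.{u}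
    refine prop_of_representsHom @IsFinite ?_ υ hA hGloc hH
    intro W hW G' H' A' _ _ υ' M N _ _ eG eH hA' hFG hAaff' hAft'
    haveI := hFG
    haveI := isMonHom_vU υ' eG eH hA'.1
    exact isFinite_of_triv υ' eG eH hA'
  · refine prop_of_representsHom @Etale ?_ υ hA hGloc hH
    intro W hW G' H' A' _ _ υ' M N _ _ eG eH hA' hFG hAaff' hAft'
    haveI := hFG
    haveI := isMonHom_vU υ' eG eH hA'.1
    exact etale_of_triv υ' eG eH hA'

end Groth.Agent.Lib.R2H3.HomFinEtMain
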