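import Mathlib
import Groth.Prelude.Def_AutFam
import Groth.Agent.Lib.R2H3FpqcRepMain
import Groth.Agent.Lib.R2H3HomGrpRep

/-!
# The functor of families of group homomorphisms is an fpqc sheaf (helper3, round 2)

* `morF G H`: the presheaf `T ↦ (G ⊗ T ⟶ H)` on schemes over `S`; `homF G H`: the subpresheaf of
  families of homomorphisms.
* `isZarSheaf_morF`, `isFpqcSheaf_morF`, `isZarSheaf_homF`, `isFpqcSheaf_homF`.
* `representsHom_of_bijective`: a universal element of `homF G H` gives `AutFam.RepresentsHom`.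
-/

set_option autoImplicit false
set_option linter.style.haveILetI false
set_option linter.unusedVariables false
set_option linter.unusedSectionVars false

universe u

open CategoryTheory CategoryTheory.Limits AlgebraicGeometry Opposite MorphismProperty
  MonoidalCategory CartesianMonoidalCategory MonObj GrpObj
open Groth.Agent.Lib.R2H3.ZarGlueOver Groth.Agent.Lib.R2H3.FpqcLocal
  Groth.Agent.Lib.R2H3.MorSLocal Groth.Agent.Lib.R2H3.FpqcRep

namespace Groth.Agent.Lib.R2H3.HomFun

variable {S : Scheme.{u}} (G H : Over S)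

/-- the presheaf of families of morphisms `G ⊗ T ⟶ H`. -/
noncomputable def morF : (Over S)ᵒᵖ ⥤ Type u where
  obj T := G ⊗ T.unop ⟶ H
  map a := ↾fun φ => (G ◁ a.unop) ≫ φ
  map_id T := by
    refine ConcreteCategory.hom_ext _ _ (fun φ => ?_)
    change (G ◁ 𝟙 T.unop) ≫ φ = φ
    rw [MonoidalCategory.whiskerLeft_id, Category.id_comp]
  map_comp a a' := by
    refine ConcreteCategory.hom_ext _ _ (fun φ => ?_)
    change (G ◁ (a'.unop ≫ a.unop)) ≫ φ = (G ◁ a'.unop) ≫ (G ◁ a.unop) ≫ φ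
    rw [MonoidalCategory.whiskerLeft_comp, Category.assoc]

variable {G H}

lemma morF_map {T T' : Over S} (a : T' ⟶ T) (φ : G ⊗ T ⟶ H) :
    (morF G H).map a.op φ = (G ◁ a) ≫ φ := rfl

lemma rs_morF {T' T : Scheme.{u}} (q : T' ⟶ T) {t : T ⟶ S} {t' : T' ⟶ S} (h : q ≫ t = t')
    (φ : G ⊗ Over.mk t ⟶ H) :
    rs (morF G H) q h φ = (G ◁ (Over.homMk q h : Over.mk t' ⟶ Over.mk t)) ≫ φ := rfl

section Transfer

variable {G₁ G₂ : (Over S)ᵒᵖ ⥤ Type u}

/-- the Zariski sheaf property transfers along natural bijections. -/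
theorem isZarSheaf_of_equiv (e : ∀ T : Over S, G₁.obj (op T) ≃ G₂.obj (op T))
    (hnat : ∀ {T' T : Over S} (a : T' ⟶ T) (b : G₁.obj (op T)),
      e T' (G₁.map a.op b) = G₂.map a.op (e T b)) (h : IsZarSheaf G₁) : IsZarSheaf G₂ := by
  have hnat' : ∀ {T' T : Over S} (a : T' ⟶ T) (b : G₂.obj (op T)),
      (e T').symm (G₂.map a.op b) = G₁.map a.op ((e T).symm b) := by
    intro T' T a b
    apply (e T').injective
    rw [hnat, Equiv.apply_symm_apply, Equiv.apply_symm_apply]
  refine ⟨fun T 𝒰 b b' hb => ?_, fun T 𝒰 x hx => ?_⟩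
  · apply (e T).symm.injective
    apply h.sep T 𝒰
    intro i
    rw [← hnat', ← hnat', hb i]
  · obtain ⟨b, hb⟩ := h.glue T 𝒰 (fun i => (e _).symm (x i)) (fun i j => by
      rw [← hnat', ← hnat', hx i j])
    refine ⟨e T b, fun i => ?_⟩
    rw [← hnat, hb i, Equiv.apply_symm_apply]

end Transfer

theorem isZarSheaf_morF : IsZarSheaf (morF G H) := by
  refine isZarSheaf_of_equiv (G₁ := Flatn.morS G.hom H.hom)
    (fun T => (Iso.homCongr (Groth.Agent.Lib.R2H3.HomGrpRep.cT G T) (Iso.refl _)).symm) ?_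
    (isZarSheaf_morS G.hom H.hom)
  intro T' T a b
  change (Groth.Agent.Lib.R2H3.HomGrpRep.cT G T').hom ≫
    ((Over.map G.hom).map ((Over.pullback G.hom).map a) ≫ b) ≫ 𝟙 _ =
    (G ◁ a) ≫ (Groth.Agent.Lib.R2H3.HomGrpRep.cT G T).hom ≫ b ≫ 𝟙 _
  rw [← Category.assoc (G ◁ a), Groth.Agent.Lib.R2H3.HomGrpRep.cT_natural]
  simp only [Category.assoc]

section Fpqc

variable (G) in
/-- the base change `G ×_S T' ⟶ G ×_S T` of `q`. -/
noncomputable abbrev Qm {T' T : Scheme.{u}} (q : T' ⟶ T) {t : T ⟶ S} {t' : T' ⟶ S}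
    (h : q ≫ t = t') : (G ⊗ Over.mk t').left ⟶ (G ⊗ Over.mk t).left :=
  (G ◁ (Over.homMk q h : Over.mk t' ⟶ Over.mk t)).left

lemma Qm_fst {T' T : Scheme.{u}} (q : T' ⟶ T) {t : T ⟶ S} {t' : T' ⟶ S} (h : q ≫ t = t') :
    Qm G q h ≫ pullback.fst G.hom t = pullback.fst G.hom t' :=
  Over.whiskerLeft_left_fst _

lemma Qm_snd {T' T : Scheme.{u}} (q : T' ⟶ T) {t : T ⟶ S} {t' : T' ⟶ S} (h : q ≫ t = t') :
    Qm G q h ≫ pullback.snd G.hom t = pullback.snd G.hom t' ≫ q :=
  Over.whiskerLeft_left_snd _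

lemma Qm_fst' {T' T : Scheme.{u}} (q : T' ⟶ T) {t : T ⟶ S} {t' : T' ⟶ S} (h : q ≫ t = t') :
    Qm G q h ≫ pullback.fst G.hom (Over.mk t).hom = pullback.fst G.hom (Over.mk t').hom :=
  Over.whiskerLeft_left_fst _

lemma Qm_snd' {T' T : Scheme.{u}} (q : T' ⟶ T) {t : T ⟶ S} {t' : T' ⟶ S} (h : q ≫ t = t') :
    Qm G q h ≫ pullback.snd G.hom (Over.mk t).hom = pullback.snd G.hom (Over.mk t').hom ≫ q :=
  Over.whiskerLeft_left_snd _

theorem isPullback_Qm {T' T : Scheme.{u}} (q : T' ⟶ T) {t : T ⟶ S} {t' : T' ⟶ S}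
    (h : q ≫ t = t') :
    IsPullback (Qm G q h) (pullback.snd G.hom t') (pullback.snd G.hom t) q := by
  subst h
  refine IsPullback.of_right ?_ (Qm_snd q rfl) (IsPullback.of_hasPullback G.hom t)
  rw [Qm_fst]
  exact IsPullback.of_hasPullback G.hom (q ≫ t)

theorem isFpqcSheaf_morF : IsFpqcSheaf (morF G H) := by
  refine ⟨?_, ?_⟩
  · intro T' T q _ _ _ t t' h φ φ' hφ
    rw [rs_morF, rs_morF] at hφ
    haveI : Flat (Qm G q h) := MorphismProperty.of_isPullback (P := @Flat) (isPullback_Qm q h).flip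
      inferInstance
    haveI : Surjective (Qm G q h) :=
      MorphismProperty.of_isPullback (P := @Surjective) (isPullback_Qm q h).flip inferInstance
    haveI : QuasiCompact (Qm G q h) :=
      MorphismProperty.of_isPullback (P := @QuasiCompact) (isPullback_Qm q h).flip inferInstance
    apply Over.OverMorphism.ext
    have h1 := congrArg (fun k => k.left) hφ
    exact (cancel_epi (Qm G q h)).1 h1
  · intro T' T q _ _ _ t t' h φ' hφ'
    haveI : Flat (Qm G q h) := MorphismProperty.of_isPullback (P := @Flat) (isPullback_Qm q h).flip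
      inferInstance
    haveI : Surjective (Qm G q h) :=
      MorphismProperty.of_isPullback (P := @Surjective) (isPullback_Qm q h).flip inferInstance
    haveI : QuasiCompact (Qm G q h) :=
      MorphismProperty.of_isPullback (P := @QuasiCompact) (isPullback_Qm q h).flip inferInstance
    have h2 : pullback.snd q q ≫ t' = pullback.fst q q ≫ t' := by
      rw [← h, ← Category.assoc, ← Category.assoc, pullback.condition]
    have hφ'' := hφ' h2
    rw [rs_morF, rs_morF] at hφ''
    have hφl := congrArg (fun k => k.left) hφ''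
    replace hφl : Qm G (pullback.fst q q) rfl ≫ φ'.left = Qm G (pullback.snd q q) h2 ≫ φ'.left :=
      hφl
    have hdesc : ∀ {Z : Scheme.{u}} (g₁ g₂ : Z ⟶ (G ⊗ Over.mk t').left),
        g₁ ≫ Qm G q h = g₂ ≫ Qm G q h → g₁ ≫ φ'.left = g₂ ≫ φ'.left := by
      intro Z g₁ g₂ hg
      have hg1 : g₁ ≫ pullback.fst G.hom t' = g₂ ≫ pullback.fst G.hom t' := by
        have := congrArg (fun k => k ≫ pullback.fst G.hom t) hg
        simp only [Category.assoc, Qm_fst] at this
        exact this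
      have hg2 : (g₁ ≫ pullback.snd G.hom t') ≫ q = (g₂ ≫ pullback.snd G.hom t') ≫ q := by
        have := congrArg (fun k => k ≫ pullback.snd G.hom t) hg
        simp only [Category.assoc, Qm_snd] at this
        simpa only [Category.assoc] using this
      let c : Z ⟶ (G ⊗ Over.mk (pullback.fst q q ≫ t')).left :=
        pullback.lift (g₁ ≫ pullback.fst G.hom t')
          (pullback.lift (g₁ ≫ pullback.snd G.hom t') (g₂ ≫ pullback.snd G.hom t') hg2) (by
            change _ = _ ≫ pullback.fst q q ≫ t'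
            rw [pullback.lift_fst_assoc, Category.assoc, Category.assoc, pullback.condition])
      have hcf : c ≫ pullback.fst G.hom (pullback.fst q q ≫ t') =
          g₁ ≫ pullback.fst G.hom t' := pullback.lift_fst _ _ _
      have hcs : c ≫ pullback.snd G.hom (pullback.fst q q ≫ t') =
          pullback.lift (g₁ ≫ pullback.snd G.hom t') (g₂ ≫ pullback.snd G.hom t') hg2 :=
        pullback.lift_snd _ _ _
      have hc1 : c ≫ Qm G (pullback.fst q q) rfl = g₁ := by
        apply pullback.hom_ext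
        · rw [Category.assoc, Qm_fst']
          exact hcf
        · rw [Category.assoc, Qm_snd', ← Category.assoc]
          change (c ≫ pullback.snd G.hom (pullback.fst q q ≫ t')) ≫ _ = _
          rw [hcs, pullback.lift_fst]
          rfl
      have hc2 : c ≫ Qm G (pullback.snd q q) h2 = g₂ := by
        apply pullback.hom_ext
        · rw [Category.assoc, Qm_fst']
          exact hcf.trans hg1
        · rw [Category.assoc, Qm_snd', ← Category.assoc]
          change (c ≫ pullback.snd G.hom (pullback.fst q q ≫ t')) ≫ _ = _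
          rw [hcs, pullback.lift_snd]
          rfl
      rw [← hc1, ← hc2, Category.assoc, Category.assoc, hφl]
    let φl : (G ⊗ Over.mk t).left ⟶ H.left :=
      EffectiveEpi.desc (Qm G q h) φ'.left (fun g₁ g₂ hg => hdesc g₁ g₂ hg)
    have hφl' : Qm G q h ≫ φl = φ'.left := EffectiveEpi.fac _ _ _
    have hw : φl ≫ H.hom = (G ⊗ Over.mk t).hom := by
      rw [← cancel_epi (Qm G q h), ← Category.assoc, hφl']
      exact (Over.w φ').trans (Over.w (G ◁ (Over.homMk q h : Over.mk t' ⟶ Over.mk t))).symm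
    refine ⟨Over.homMk φl hw, ?_⟩
    rw [rs_morF]
    apply Over.OverMorphism.ext
    exact hφl'

end Fpqc

section HomF

variable (G H) [GrpObj G] [GrpObj H]

lemma isHomFamily_whiskerLeft {T T' : Over S} (a : T' ⟶ T) (φ : G ⊗ T ⟶ H)
    (hφ : AutFam.IsHomFamily G H φ) : AutFam.IsHomFamily G H ((G ◁ a) ≫ φ) := by
  intro X g₁ g₂ t'
  rw [← Category.assoc, ← Category.assoc, ← Category.assoc, lift_whiskerLeft, lift_whiskerLeft,
    lift_whiskerLeft]
  exact hφ X g₁ g₂ (t' ≫ a)

/-- the presheaf of families of group homomorphisms `G ⟶ H`. -/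
noncomputable def homF : (Over S)ᵒᵖ ⥤ Type u where
  obj T := {φ : G ⊗ T.unop ⟶ H // AutFam.IsHomFamily G H φ}
  map a := ↾fun φ => ⟨(G ◁ a.unop) ≫ φ.1, isHomFamily_whiskerLeft G H a.unop φ.1 φ.2⟩
  map_id T := by
    refine ConcreteCategory.hom_ext _ _ (fun φ => Subtype.ext ?_)
    change (G ◁ 𝟙 T.unop) ≫ φ.1 = φ.1
    rw [MonoidalCategory.whiskerLeft_id, Category.id_comp]
  map_comp a a' := by
    refine ConcreteCategory.hom_ext _ _ (fun φ => Subtype.ext ?_)
    change (G ◁ (a'.unop ≫ a.unop)) ≫ φ.1 = (G ◁ a'.unop) ≫ (G ◁ a.unop) ≫ φ.1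
    rw [MonoidalCategory.whiskerLeft_comp, Category.assoc]

variable {G H}

lemma homF_map_val {T T' : Over S} (a : T' ⟶ T) (φ : (homF G H).obj (op T)) :
    ((homF G H).map a.op φ).1 = (G ◁ a) ≫ φ.1 := rfl

lemma rs_homF_val {T' T : Scheme.{u}} (q : T' ⟶ T) {t : T ⟶ S} {t' : T' ⟶ S} (h : q ≫ t = t')
    (φ : (homF G H).obj (op (Over.mk t))) :
    (rs (homF G H) q h φ).1 = rs (morF G H) q h φ.1 := rfl

/-- the homomorphism property may be tested after a base change. -/
lemma hom_eq_of_cover {T : Over S} (φ : G ⊗ T ⟶ H) {T' : Over S} (q : T' ⟶ T)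
    (hq : AutFam.IsHomFamily G H ((G ◁ q) ≫ φ)) {X X' : Over S} (r : X' ⟶ X) (t : X ⟶ T)
    (t' : X' ⟶ T') (h : r ≫ t = t' ≫ q) (g₁ g₂ : X ⟶ G) :
    r ≫ lift (g₁ * g₂) t ≫ φ = r ≫ ((lift g₁ t ≫ φ) * (lift g₂ t ≫ φ)) := by
  have h1 : ∀ g : X ⟶ G, r ≫ lift g t ≫ φ = lift (r ≫ g) t' ≫ (G ◁ q) ≫ φ := by
    intro g
    rw [← Category.assoc, comp_lift, h, ← Category.assoc (lift (r ≫ g) t'), lift_whiskerLeft]
  rw [MonObj.comp_mul, h1, h1, h1, MonObj.comp_mul]
  exact hq X' (r ≫ g₁) (r ≫ g₂) t'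

theorem isZarSheaf_homF : IsZarSheaf (homF G H) := by
  refine ⟨fun T 𝒰 b b' hb => ?_, fun T 𝒰 x hx => ?_⟩
  · apply Subtype.ext
    apply (isZarSheaf_morF (G := G) (H := H)).sep T 𝒰
    intro i
    exact congrArg Subtype.val (hb i)
  · obtain ⟨φ, hφ⟩ := (isZarSheaf_morF (G := G) (H := H)).glue T 𝒰 (fun i => (x i).1)
      (fun i j => congrArg Subtype.val (hx i j))
    have hhom : AutFam.IsHomFamily G H φ := by
      intro X g₁ g₂ t
      apply Over.OverMorphism.ext
      refine Scheme.Cover.hom_ext (𝒰.pullback₁ t.left) _ _ (fun i => ?_)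
      let X' : Over S := Over.mk (pullback.fst t.left (𝒰.f i) ≫ X.hom)
      let r : X' ⟶ X := Over.homMk (pullback.fst t.left (𝒰.f i)) rfl
      let t' : X' ⟶ Ti T 𝒰 i := Over.homMk (pullback.snd t.left (𝒰.f i)) (by
        change pullback.snd t.left (𝒰.f i) ≫ 𝒰.f i ≫ T.hom = pullback.fst t.left (𝒰.f i) ≫ X.hom
        rw [← Category.assoc, ← pullback.condition, Category.assoc, Over.w t])
      have h : r ≫ t = t' ≫ ji T 𝒰 i := Over.OverMorphism.ext pullback.condition
      have hq : AutFam.IsHomFamily G H ((G ◁ ji T 𝒰 i) ≫ φ) := by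
        have := hφ i
        rw [morF_map] at this
        rw [this]
        exact (x i).2
      exact congrArg (fun k => k.left) (hom_eq_of_cover φ (ji T 𝒰 i) hq r t t' h g₁ g₂)
    refine ⟨⟨φ, hhom⟩, fun i => Subtype.ext ?_⟩
    exact hφ i

theorem isFpqcSheaf_homF : IsFpqcSheaf (homF G H) := by
  refine ⟨?_, ?_⟩
  · intro T' T q _ _ _ t t' h b b' hb
    apply Subtype.ext
    exact (isFpqcSheaf_morF (G := G) (H := H)).sep q h b.1 b'.1 (congrArg Subtype.val hb)
  · intro T' T q _ _ _ t t' h b' hb'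
    obtain ⟨φ, hφ⟩ := (isFpqcSheaf_morF (G := G) (H := H)).glue q h b'.1
      (fun h2 => congrArg Subtype.val (hb' h2))
    have hhom : AutFam.IsHomFamily G H φ := by
      intro X g₁ g₂ tt
      let X' : Over S := Over.mk (pullback.fst tt.left q ≫ X.hom)
      let r : X' ⟶ X := Over.homMk (pullback.fst tt.left q) rfl
      let t'' : X' ⟶ Over.mk t' := Over.homMk (pullback.snd tt.left q) (by
        change pullback.snd tt.left q ≫ t' = pullback.fst tt.left q ≫ X.hom
        rw [← h, ← Category.assoc, ← pullback.condition, Category.assoc]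
        congr 1
        exact Over.w tt)
      have hh : r ≫ tt = t'' ≫ (Over.homMk q h : Over.mk t' ⟶ Over.mk t) :=
        Over.OverMorphism.ext pullback.condition
      have hq : AutFam.IsHomFamily G H
          ((G ◁ (Over.homMk q h : Over.mk t' ⟶ Over.mk t)) ≫ φ) := by
        rw [rs_morF] at hφ
        rw [hφ]
        exact b'.2
      have h3 := congrArg (fun k => k.left)
        (hom_eq_of_cover φ (Over.homMk q h : Over.mk t' ⟶ Over.mk t) hq r tt t'' hh g₁ g₂)
      apply Over.OverMorphism.ext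
      exact (cancel_epi (pullback.fst tt.left q)).1 h3
    exact ⟨⟨φ, hhom⟩, Subtype.ext hφ⟩

/-- a universal element of `homF G H` gives a representing pair in the sense of
`AutFam.RepresentsHom`. -/
theorem representsHom_of_bijective (A : Over S) (e : (homF G H).obj (op A))
    (h : ∀ T : Over S, Function.Bijective (fun a : T ⟶ A => (homF G H).map a.op e)) :
    AutFam.RepresentsHom G H A e.1 := by
  refine ⟨e.2, fun T φ hφ => ?_⟩
  obtain ⟨a, ha⟩ := (h T).2 ⟨φ, hφ⟩
  replace ha : (homF G H).map a.op e = ⟨φ, hφ⟩ := ha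
  refine ⟨a, congrArg Subtype.val ha, fun a' ha' => ?_⟩
  apply (h T).1
  change (homF G H).map a'.op e = (homF G H).map a.op e
  rw [ha]
  exact Subtype.ext ha'

end HomF

end Groth.Agent.Lib.R2H3.HomFun
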