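import Mathlib
import Groth.Agent.Lib.R2H3HomFun
import Groth.Agent.Lib.R2H3HomRepBC

/-!
# Representing objects of `Hom_{O-gr}(bc w G, bc w H)` and the restriction of `homF G H` to `O`
(helper3, round 2)

* `fam_ext`, `famDown_injective`, `famDown_surjective`, `isHomFamily_of_famDown`,
  `famDown_natural`: the dictionary between families over `O` and over `S`.
* `isUnivAt_of_representsHom`: a representing pair of `Hom_{O-gr}(bc w G, bc w H)` represents the
  restriction of `homF G H` to schemes over `O`.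
-/

set_option autoImplicit false
set_option linter.style.haveILetI false
set_option linter.unusedVariables false
set_option linter.unusedSectionVars false

universe u

open CategoryTheory CategoryTheory.Limits AlgebraicGeometry Opposite MorphismProperty
  MonoidalCategory CartesianMonoidalCategory MonObj GrpObj
open Groth.Agent.Lib.R2H3.ZarGlueOver Groth.Agent.Lib.R2H3.FpqcRep
  Groth.Agent.Lib.R2H3.MultAct Groth.Agent.Lib.R2H3.HomRepBC Groth.Agent.Lib.R2H3.HomFun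

namespace Groth.Agent.Lib.R2H3.HomFunBC

variable {S O : Scheme.{u}} (w : O ⟶ S) {G H : Over S}

/-- families over `S` on `T₀` (regarded over `S`) are determined by their values on the points
coming from `O`. -/
lemma fam_ext (T₀ : Over O) (φ φ' : G ⊗ (Over.map w).obj T₀ ⟶ H)
    (h : ∀ (Y₀ : Over O) (g₀ : Y₀ ⟶ Red.bc w G) (t₀ : Y₀ ⟶ T₀),
      lift (adjE w G Y₀ g₀) ((Over.map w).map t₀) ≫ φ =
        lift (adjE w G Y₀ g₀) ((Over.map w).map t₀) ≫ φ') : φ = φ' := by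
  obtain ⟨Y₀, k, t₀, ht₀⟩ := exists_pt w T₀ (snd G ((Over.map w).obj T₀))
  obtain ⟨g₀, hg₀⟩ : ∃ g₀ : Y₀ ⟶ Red.bc w G,
      fst G ((Over.map w).obj T₀) = k.hom ≫ adjE w G Y₀ g₀ :=
    ⟨(adjE w G Y₀).symm (k.inv ≫ fst G ((Over.map w).obj T₀)),
      by rw [Equiv.apply_symm_apply, Iso.hom_inv_id_assoc]⟩
  have hid : 𝟙 (G ⊗ (Over.map w).obj T₀) =
      k.hom ≫ lift (adjE w G Y₀ g₀) ((Over.map w).map t₀) := by
    rw [comp_lift, ← hg₀, ← ht₀, lift_fst_snd]
  calc φ = 𝟙 _ ≫ φ := (Category.id_comp _).symm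
    _ = 𝟙 _ ≫ φ' := by rw [hid, Category.assoc, h, Category.assoc]
    _ = φ' := Category.id_comp _

lemma famDown_injective (T₀ : Over O) (φ₀ φ₀' : Red.bc w G ⊗ T₀ ⟶ Red.bc w H)
    (h : famDown w T₀ φ₀ = famDown w T₀ φ₀') : φ₀ = φ₀' := by
  have h1 : lift (fst (Red.bc w G) T₀) (snd (Red.bc w G) T₀) ≫ φ₀ =
      lift (fst (Red.bc w G) T₀) (snd (Red.bc w G) T₀) ≫ φ₀' := by
    apply (adjE w H _).injective
    rw [adjE_lift_comp, adjE_lift_comp, h]
  rw [lift_fst_snd, Category.id_comp, Category.id_comp] at h1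
  exact h1

lemma famDown_surjective (T₀ : Over O) (φ : G ⊗ (Over.map w).obj T₀ ⟶ H) :
    ∃ φ₀ : Red.bc w G ⊗ T₀ ⟶ Red.bc w H, famDown w T₀ φ₀ = φ := by
  refine ⟨(adjE w H (Red.bc w G ⊗ T₀)).symm
    (lift (adjE w G _ (fst (Red.bc w G) T₀)) ((Over.map w).map (snd (Red.bc w G) T₀)) ≫ φ), ?_⟩
  apply fam_ext w T₀
  intro Y₀ g₀ t₀
  rw [← adjE_lift_comp, adjE_comp, Equiv.apply_symm_apply, ← Category.assoc, comp_lift,
    ← adjE_comp, lift_fst, ← Functor.map_comp, lift_snd]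

variable [GrpObj G] [GrpObj H]

lemma isHomFamily_of_famDown (T₀ : Over O) (φ₀ : Red.bc w G ⊗ T₀ ⟶ Red.bc w H)
    (h : AutFam.IsHomFamily G H (famDown w T₀ φ₀)) :
    AutFam.IsHomFamily (Red.bc w G) (Red.bc w H) φ₀ := by
  intro X₀ g₁ g₂ t₀
  apply (adjE w H X₀).injective
  rw [adjE_lift_comp, adjE_mul, adjE_mul, adjE_lift_comp, adjE_lift_comp]
  exact h _ _ _ _

omit [GrpObj G] [GrpObj H] in
lemma famDown_natural {T₀ T₀' : Over O} (a₀ : T₀' ⟶ T₀) (φ₀ : Red.bc w G ⊗ T₀ ⟶ Red.bc w H) :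
    famDown w T₀' ((Red.bc w G ◁ a₀) ≫ φ₀) =
      (G ◁ (Over.map w).map a₀) ≫ famDown w T₀ φ₀ := by
  apply fam_ext w T₀'
  intro Y₀ g₀ t₀
  rw [← adjE_lift_comp, ← Category.assoc, lift_whiskerLeft, adjE_lift_comp,
    ← Category.assoc (lift _ _), lift_whiskerLeft, Functor.map_comp]

/-- **A representing pair over `O` represents the restriction of `homF G H` to `O`.** -/
theorem isUnivAt_of_representsHom (A' : Over O) (υ' : Red.bc w G ⊗ A' ⟶ Red.bc w H)
    (hA' : AutFam.RepresentsHom (Red.bc w G) (Red.bc w H) A' υ') :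
    IsUnivAt (homF G H) w A'
      (⟨famDown w A' υ', isHomFamily_famDown w A' υ' hA'.1⟩ :
        (homF G H).obj (op ((Over.map w).obj A'))) := by
  intro T x t ht b
  subst ht
  obtain ⟨ψ, hψ⟩ := famDown_surjective w (Over.mk x) b.1
  have hψhom : AutFam.IsHomFamily (Red.bc w G) (Red.bc w H) ψ := by
    apply isHomFamily_of_famDown w (Over.mk x) ψ
    rw [hψ]
    exact b.2
  obtain ⟨a₀, ha₀, ha₀u⟩ := hA'.2 (Over.mk x) ψ hψhom
  replace ha₀ : (Red.bc w G ◁ a₀) ≫ υ' = ψ := ha₀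
  have key : ∀ (a₂ : Over.mk x ⟶ A') (h : a₂.left ≫ A'.hom ≫ w = x ≫ w),
      (rs (homF G H) a₂.left h
        (⟨famDown w A' υ', isHomFamily_famDown w A' υ' hA'.1⟩ :
          (homF G H).obj (op ((Over.map w).obj A')))).1 =
        famDown w (Over.mk x) ((Red.bc w G ◁ a₂) ≫ υ') := by
    intro a₂ h
    rw [famDown_natural]
    rfl
  refine ⟨a₀.left, ⟨Over.w a₀, ?_⟩, ?_⟩
  · apply Subtype.ext
    rw [key a₀, ha₀, hψ]
  · rintro a₂ ⟨hx₂, hb₂⟩
    let a₂' : Over.mk x ⟶ A' := Over.homMk a₂ hx₂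
    have h1 : famDown w (Over.mk x) ((Red.bc w G ◁ a₂') ≫ υ') = famDown w (Over.mk x) ψ := by
      rw [← key a₂' (univ_h hx₂ rfl), hψ]
      exact congrArg Subtype.val hb₂
    have h2 := ha₀u a₂' (famDown_injective w _ _ _ h1)
    exact congrArg (fun k => k.left) h2

end Groth.Agent.Lib.R2H3.HomFunBC
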