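import Mathlib
import Groth.Prelude.Def_AutFam
import Groth.Agent.Lib.R2H3HomFun
import Groth.Agent.Lib.H6xDSPts

/-!
# The group structure on the representing object of `Hom_{S-gr}(G, H)`, `H` commutative
(helper3, round 2)

When `H` is commutative, the families of homomorphisms `G_T → H_T` form a subgroup of
`Hom(G ×_S T, H)` (`homSub`), functorially in `T` (`homGrpF`).  A representing pair `(A, υ)` of the
functor of homomorphisms therefore carries a unique structure of `S`-group for which the universal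
family is multiplicative in the `A`-variable as well (`exists_grpObj`).

* `representsHom_comp_iso`: change of the target along an isomorphism of groups.
* `exists_grpIso_of_representsHom`: two representing pairs with bi-multiplicative universal
  families are isomorphic as groups.
-/

set_option autoImplicit false
set_option linter.style.haveILetI false
set_option linter.unusedVariables false
set_option linter.unusedSectionVars false

universe u

open CategoryTheory CategoryTheory.Limits AlgebraicGeometry Opposite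
  MonoidalCategory CartesianMonoidalCategory MonObj GrpObj
open Groth.Agent.Lib.R2H3.HomFun

namespace Groth.Agent.Lib.R2H3.HomGrpStr

variable {S : Scheme.{u}} {G H : Over S} [GrpObj G] [GrpObj H]

section Sub

variable (hcomm : ∀ (X : Over S) (a b : X ⟶ H), a * b = b * a)

include hcomm in
lemma mul4 {X : Over S} (a b c d : X ⟶ H) : (a * b) * (c * d) = (a * c) * (b * d) := by
  rw [mul_assoc a b (c * d), ← mul_assoc b c d, hcomm X b c, mul_assoc c b d,
    ← mul_assoc a c (b * d)]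

variable (G) in
/-- the subgroup of families of homomorphisms. -/
def homSub (T : Over S) : Subgroup (G ⊗ T ⟶ H) where
  carrier := {φ | AutFam.IsHomFamily G H φ}
  mul_mem' := by
    intro φ ψ hφ hψ X g₁ g₂ t
    rw [MonObj.comp_mul, MonObj.comp_mul, MonObj.comp_mul, hφ X g₁ g₂ t, hψ X g₁ g₂ t]
    exact mul4 hcomm _ _ _ _
  one_mem' := by
    intro X g₁ g₂ t
    rw [MonObj.comp_one, MonObj.comp_one, MonObj.comp_one, _root_.mul_one]
  inv_mem' := by
    intro φ hφ X g₁ g₂ t
    rw [GrpObj.comp_inv, GrpObj.comp_inv, GrpObj.comp_inv, hφ X g₁ g₂ t, _root_.mul_inv_rev]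
    exact hcomm X _ _

lemma mem_homSub {T : Over S} (φ : G ⊗ T ⟶ H) :
    φ ∈ homSub G hcomm T ↔ AutFam.IsHomFamily G H φ := Iff.rfl

variable (G) in
/-- restriction of families, as a homomorphism of groups. -/
noncomputable def homSubMap {T T' : Over S} (a : T' ⟶ T) : homSub G hcomm T →* homSub G hcomm T' where
  toFun φ := ⟨(G ◁ a) ≫ φ.1, isHomFamily_whiskerLeft G H a φ.1 φ.2⟩
  map_one' := Subtype.ext (MonObj.comp_one _)
  map_mul' φ ψ := Subtype.ext (MonObj.comp_mul _ _ _)

variable (G) in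
/-- the presheaf of groups of families of homomorphisms. -/
noncomputable def homGrpF : (Over S)ᵒᵖ ⥤ GrpCat.{u} where
  obj T := GrpCat.of (homSub G hcomm T.unop)
  map a := GrpCat.ofHom (homSubMap G hcomm a.unop)
  map_id T := by
    refine GrpCat.hom_ext (MonoidHom.ext fun φ => Subtype.ext ?_)
    change (G ◁ 𝟙 T.unop) ≫ φ.1 = φ.1
    rw [MonoidalCategory.whiskerLeft_id, Category.id_comp]
  map_comp a a' := by
    refine GrpCat.hom_ext (MonoidHom.ext fun φ => Subtype.ext ?_)
    change (G ◁ (a'.unop ≫ a.unop)) ≫ φ.1 = (G ◁ a'.unop) ≫ (G ◁ a.unop) ≫ φ.1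
    rw [MonoidalCategory.whiskerLeft_comp, Category.assoc]

variable {A : Over S} (υ : G ⊗ A ⟶ H) (hA : AutFam.RepresentsHom G H A υ)

/-- a representing pair represents the presheaf of groups `homGrpF`. -/
noncomputable def repBy : (homGrpF G hcomm ⋙ forget _).RepresentableBy A where
  homEquiv {T} := Equiv.ofBijective
    (fun a : T ⟶ A => (⟨(G ◁ a) ≫ υ, isHomFamily_whiskerLeft G H a υ hA.1⟩ : homSub G hcomm T))
    ⟨by
      intro a a' h
      have h1 : (G ◁ a) ≫ υ = (G ◁ a') ≫ υ := congrArg Subtype.val h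
      obtain ⟨a₀, -, hu⟩ := hA.2 T ((G ◁ a') ≫ υ) (isHomFamily_whiskerLeft G H a' υ hA.1)
      rw [hu a h1, hu a' rfl],
    by
      intro φ
      obtain ⟨a₀, ha₀, -⟩ := hA.2 T φ.1 φ.2
      exact ⟨a₀, Subtype.ext ha₀⟩⟩
  homEquiv_comp {T T'} f g := by
    apply Subtype.ext
    change (G ◁ (f ≫ g)) ≫ υ = (G ◁ f) ≫ (G ◁ g) ≫ υ
    rw [MonoidalCategory.whiskerLeft_comp, Category.assoc]

lemma repBy_homEquiv_val {T : Over S} (a : T ⟶ A) :
    ((repBy hcomm υ hA).homEquiv a : homSub G hcomm T).1 = (G ◁ a) ≫ υ := rfl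

include hcomm hA in
/-- **The group structure on the representing object**, for which the universal family is
multiplicative in the second variable. -/
theorem exists_grpObj :
    ∃ _ : GrpObj A, ∀ (X : Over S) (r : X ⟶ G) (a b : X ⟶ A),
      lift r (a * b) ≫ υ = (lift r a ≫ υ) * (lift r b ≫ υ) := by
  letI inst : GrpObj A := GrpObj.ofRepresentableBy A (homGrpF G hcomm) (repBy hcomm υ hA)
  refine ⟨inst, ?_⟩
  intro X r a b
  have hmul : (repBy hcomm υ hA).homEquiv (a * b) =
      ((repBy hcomm υ hA).homEquiv a : homSub G hcomm X) * (repBy hcomm υ hA).homEquiv b :=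
    ((yonedaGrpObjIsoOfRepresentableBy A (homGrpF G hcomm) (repBy hcomm υ hA)).hom.app
      (op X)).hom.map_mul a b
  have hval := congrArg Subtype.val hmul
  rw [repBy_homEquiv_val] at hval
  have key : ∀ c : X ⟶ A, lift r c ≫ υ = lift r (𝟙 X) ≫ (G ◁ c) ≫ υ := by
    intro c
    rw [← Category.assoc, lift_whiskerLeft, Category.id_comp]
  rw [key (a * b), hval, key a, key b]
  exact MonObj.comp_mul _ _ _

end Sub

section Transfer

variable {H' A : Over S} [GrpObj H']

/-- change of the target along an isomorphism of groups. -/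
theorem representsHom_comp_iso (υ : G ⊗ A ⟶ H) (a : H ⟶ H') (b : H' ⟶ H) [IsMonHom a] [IsMonHom b]
    (hab : a ≫ b = 𝟙 H) (hba : b ≫ a = 𝟙 H') (hA : AutFam.RepresentsHom G H A υ) :
    AutFam.RepresentsHom G H' A (υ ≫ a) := by
  refine ⟨?_, ?_⟩
  · intro X g₁ g₂ t
    rw [← Category.assoc, hA.1 X g₁ g₂ t, MonObj.mul_comp, Category.assoc, Category.assoc]
  · intro T φ hφ
    have hφb : AutFam.IsHomFamily G H (φ ≫ b) := by
      intro X g₁ g₂ t
      rw [← Category.assoc, hφ X g₁ g₂ t, MonObj.mul_comp, Category.assoc, Category.assoc]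
    obtain ⟨a₀, ha₀, hu⟩ := hA.2 T (φ ≫ b) hφb
    replace ha₀ : (G ◁ a₀) ≫ υ = φ ≫ b := ha₀
    refine ⟨a₀, ?_, ?_⟩
    · change (G ◁ a₀) ≫ υ ≫ a = φ
      rw [← Category.assoc, ha₀, Category.assoc, hba, Category.comp_id]
    · intro a₁ ha₁
      replace ha₁ : (G ◁ a₁) ≫ υ ≫ a = φ := ha₁
      apply hu
      change (G ◁ a₁) ≫ υ = φ ≫ b
      rw [← ha₁, Category.assoc, Category.assoc, hab, Category.comp_id]

/-- multiplicativity in the second variable is preserved by a homomorphism of the target. -/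
theorem bilin_comp [GrpObj A] (υ : G ⊗ A ⟶ H) (a : H ⟶ H') [IsMonHom a]
    (hb : ∀ (X : Over S) (r : X ⟶ G) (x y : X ⟶ A),
      lift r (x * y) ≫ υ = (lift r x ≫ υ) * (lift r y ≫ υ)) :
    ∀ (X : Over S) (r : X ⟶ G) (x y : X ⟶ A),
      lift r (x * y) ≫ υ ≫ a = (lift r x ≫ υ ≫ a) * (lift r y ≫ υ ≫ a) := by
  intro X r x y
  rw [← Category.assoc, hb X r x y, MonObj.mul_comp, Category.assoc, Category.assoc]

/-- multiplicativity in the second variable, in whiskered form. -/
theorem bilin_whisker [GrpObj A] (υ : G ⊗ A ⟶ H)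
    (hb : ∀ (X : Over S) (r : X ⟶ G) (x y : X ⟶ A),
      lift r (x * y) ≫ υ = (lift r x ≫ υ) * (lift r y ≫ υ))
    {T : Over S} (x y : T ⟶ A) :
    (G ◁ (x * y)) ≫ υ = ((G ◁ x) ≫ υ) * ((G ◁ y) ≫ υ) := by
  have key : ∀ c : T ⟶ A, (G ◁ c) ≫ υ = lift (fst G T) (snd G T ≫ c) ≫ υ := by
    intro c
    have h0 : G ◁ c = lift (fst G T) (snd G T ≫ c) := by
      apply CartesianMonoidalCategory.hom_ext
      · rw [whiskerLeft_fst, lift_fst]
      · rw [whiskerLeft_snd, lift_snd]
    rw [h0]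
  rw [key, key, key, MonObj.comp_mul]
  exact hb _ _ _ _

/-- **Uniqueness of the representing group**: two representing pairs of the functor of
homomorphisms, with universal families multiplicative in the second variable, are isomorphic as
groups. -/
theorem exists_grpIso_of_representsHom {A B : Over S} [GrpObj A] [GrpObj B]
    (υA : G ⊗ A ⟶ H) (υB : G ⊗ B ⟶ H)
    (hA : AutFam.RepresentsHom G H A υA) (hB : AutFam.RepresentsHom G H B υB)
    (bA : ∀ (X : Over S) (r : X ⟶ G) (x y : X ⟶ A),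
      lift r (x * y) ≫ υA = (lift r x ≫ υA) * (lift r y ≫ υA))
    (bB : ∀ (X : Over S) (r : X ⟶ G) (x y : X ⟶ B),
      lift r (x * y) ≫ υB = (lift r x ≫ υB) * (lift r y ≫ υB)) :
    Nonempty (Grp.mk A ≅ Grp.mk B) := by
  obtain ⟨i, hi, -⟩ := hB.2 A υA hA.1
  obtain ⟨j, hj, -⟩ := hA.2 B υB hB.1
  replace hi : (G ◁ i) ≫ υB = υA := hi
  replace hj : (G ◁ j) ≫ υA = υB := hj
  have uniqA : ∀ {T : Over S} (x y : T ⟶ A), (G ◁ x) ≫ υA = (G ◁ y) ≫ υA → x = y := by
    intro T x y h
    obtain ⟨a₀, -, hu⟩ := hA.2 T ((G ◁ y) ≫ υA) (isHomFamily_whiskerLeft G H y υA hA.1)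
    rw [hu x h, hu y rfl]
  have uniqB : ∀ {T : Over S} (x y : T ⟶ B), (G ◁ x) ≫ υB = (G ◁ y) ≫ υB → x = y := by
    intro T x y h
    obtain ⟨a₀, -, hu⟩ := hB.2 T ((G ◁ y) ≫ υB) (isHomFamily_whiskerLeft G H y υB hB.1)
    rw [hu x h, hu y rfl]
  have hij : i ≫ j = 𝟙 A := by
    apply uniqA
    rw [MonoidalCategory.whiskerLeft_comp, Category.assoc, hj, hi,
      MonoidalCategory.whiskerLeft_id, Category.id_comp]
  have hji : j ≫ i = 𝟙 B := by
    apply uniqB
    rw [MonoidalCategory.whiskerLeft_comp, Category.assoc, hi, hj,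
      MonoidalCategory.whiskerLeft_id, Category.id_comp]
  have hmul : ∀ (T : Over S) (x y : T ⟶ A), (x * y) ≫ i = (x ≫ i) * (y ≫ i) := by
    intro T x y
    apply uniqB
    have h1 : ∀ c : T ⟶ A, (G ◁ (c ≫ i)) ≫ υB = (G ◁ c) ≫ υA := by
      intro c
      rw [MonoidalCategory.whiskerLeft_comp, Category.assoc, hi]
    rw [h1, bilin_whisker υB bB, h1, h1, bilin_whisker υA bA]
  have hone : (1 : 𝟙_ (Over S) ⟶ A) ≫ i = 1 := by
    have h := hmul _ (1 : 𝟙_ (Over S) ⟶ A) 1
    rw [_root_.mul_one] at h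
    exact (mul_eq_left (a := (1 : 𝟙_ (Over S) ⟶ A) ≫ i) (b := (1 : 𝟙_ (Over S) ⟶ A) ≫ i)).mp
      h.symm
  haveI : IsMonHom i := Groth.Agent.Lib.H6xDSPts.isMonHom_of_pts i hone hmul
  let e : A ≅ B := ⟨i, j, hij, hji⟩
  haveI : IsMonHom e.hom := by
    change IsMonHom i
    infer_instance
  exact ⟨Grp.mkIso' e⟩

end Transfer

end Groth.Agent.Lib.R2H3.HomGrpStr
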