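import Groth.Agent.Lib.R2H3MultHomAlg
import Groth.Agent.Lib.R2H3FreeActAlg

/-!
# Lifting homomorphisms of diagonalisable groups modulo a nil ideal: algebra (helper3, round 2)

* `IsGL θ`: the element `θ` of `A[G]` is "group-like" (evaluation at `θ` is multiplicative in the
  character); equivalently its coefficients are orthogonal idempotents (`IsGL.coeff_mul`,
  `isGL_of_coeff_mul`);
* `HomFun.ofUniv`: the transformation attached to a monoid homomorphism `H → A[G]` with group-like
  values;
* `HomFun.lift`: for `π : A → A₀` surjective with nil kernel, a transformation over `A₀` lifts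
  (uniquely) to `A` (`HomFun.lift_comap`).
-/

set_option autoImplicit false
set_option linter.style.haveILetI false
set_option linter.unusedVariables false
set_option linter.unusedSectionVars false

universe u

namespace Groth.Agent.Lib.R2H3.HomLift

open Groth.Agent.Lib.R2H3.MultAct Groth.Agent.Lib.R2H3.MultHom

section GLSec

variable {A : Type u} [CommRing A] {G : Type} [CommGroup G]

/-- evaluation at `θ` is multiplicative in the character. -/
def IsGL (θ : MonoidAlgebra A G) : Prop :=
  ∀ (B : Type u) [CommRing B] (β : A →+* B) (χ₁ χ₂ : G →* B),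
    liftHom β (χ₁ * χ₂) θ = liftHom β χ₁ θ * liftHom β χ₂ θ

lemma isGL_one : IsGL (1 : MonoidAlgebra A G) := by
  intro B _ β χ₁ χ₂
  rw [map_one, map_one, map_one, _root_.mul_one]

lemma IsGL.mul {θ θ' : MonoidAlgebra A G} (h : IsGL θ) (h' : IsGL θ') : IsGL (θ * θ') := by
  intro B _ β χ₁ χ₂
  rw [map_mul, map_mul, map_mul, h B β χ₁ χ₂, h' B β χ₁ χ₂]
  ring

/-- the coefficients of a group-like element are orthogonal idempotents. -/
lemma IsGL.coeff_mul {θ₀ : MonoidAlgebra A G} (hθ : IsGL θ₀) (n l : G) [Decidable (n = l)] :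
    θ₀.coeff n * θ₀.coeff l = if n = l then θ₀.coeff n else 0 := by
  classical
  obtain ⟨ι', hι'⟩ : ∃ k : MonoidAlgebra A G →+* MonoidAlgebra (MonoidAlgebra A G) G,
    k = algebraMap _ _ := ⟨_, rfl⟩
  obtain ⟨χ₁, hχ₁⟩ : ∃ k : G →* MonoidAlgebra (MonoidAlgebra A G) G,
    k = MonoidAlgebra.of (MonoidAlgebra A G) G := ⟨_, rfl⟩
  obtain ⟨χ₂, hχ₂⟩ : ∃ k : G →* MonoidAlgebra (MonoidAlgebra A G) G,
    k = (ι' : MonoidAlgebra A G →* _).comp (MonoidAlgebra.of A G) := ⟨_, rfl⟩
  obtain ⟨α₂, hα₂⟩ : ∃ k : A →+* MonoidAlgebra (MonoidAlgebra A G) G,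
    k = ι'.comp (algebraMap A (MonoidAlgebra A G)) := ⟨_, rfl⟩
  have h2 := congrArg (fun k : MonoidAlgebra (MonoidAlgebra A G) G => (k.coeff n).coeff l)
    (hθ _ α₂ χ₁ χ₂)
  beta_reduce at h2
  -- the three values
  have hL : ∀ θ : MonoidAlgebra A G,
      (liftHom α₂ (χ₁ * χ₂) θ).coeff n = MonoidAlgebra.single n (θ.coeff n) := by
    intro θ
    induction θ using MonoidAlgebra.induction_linear with
    | zero => simp
    | add x y hx hy =>
      rw [map_add, MonoidAlgebra.coeff_add, Finsupp.add_apply, hx, hy, MonoidAlgebra.coeff_add,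
        Finsupp.add_apply, MonoidAlgebra.single_add]
    | single k a =>
      rw [liftHom_single, hα₂, hχ₁, hχ₂, hι']
      simp only [RingHom.comp_apply, MonoidHom.mul_apply, MonoidHom.comp_apply,
        MonoidAlgebra.of_apply, coe_monoidHom_apply, algebraMap_eq_single,
        MonoidAlgebra.single_mul_single, mul_one, one_mul]
      rw [coeff_single_apply', coeff_single_apply']
      split_ifs with hk
      · rw [hk]
      · simp
  have h1 : ∀ θ : MonoidAlgebra A G,
      liftHom α₂ χ₁ θ = MonoidAlgebra.ofCoeff (θ.coeff.mapRange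
        (fun a => (MonoidAlgebra.single 1 a : MonoidAlgebra A G)) (by simp)) := by
    intro θ
    induction θ using MonoidAlgebra.induction_linear with
    | zero =>
      rw [map_zero]
      apply MonoidAlgebra.coeff_injective
      simp
    | add x y hx hy =>
      rw [map_add, hx, hy]
      apply MonoidAlgebra.coeff_injective
      ext k : 1
      simp [MonoidAlgebra.coeff_add, MonoidAlgebra.single_add]
    | single k a =>
      rw [liftHom_single, hα₂, hχ₁, hι']
      simp only [RingHom.comp_apply, MonoidAlgebra.of_apply, algebraMap_eq_single,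
        MonoidAlgebra.single_mul_single, mul_one, one_mul]
      apply MonoidAlgebra.coeff_injective
      ext j : 1
      simp only [MonoidAlgebra.coeff_ofCoeff, MonoidAlgebra.coeff_single, Finsupp.mapRange_apply,
        Finsupp.single_apply]
      split_ifs <;> simp
  have h2' : ∀ θ : MonoidAlgebra A G, liftHom α₂ χ₂ θ = ι' θ := by
    intro θ
    induction θ using MonoidAlgebra.induction_linear with
    | zero => simp
    | add x y hx hy => rw [map_add, map_add, hx, hy]
    | single k a =>
      rw [liftHom_single, hα₂, hχ₂]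
      simp only [RingHom.comp_apply, MonoidHom.comp_apply, coe_monoidHom_apply, ← map_mul,
        MonoidAlgebra.of_apply, algebraMap_eq_single, MonoidAlgebra.single_mul_single, mul_one,
        one_mul]
  rw [hL, h1, h2', hι', algebraMap_eq_single, coeff_single_apply'] at h2
  -- coefficient of the product
  have h3 : ∀ (θ : MonoidAlgebra A G) (x : MonoidAlgebra A G),
      ((MonoidAlgebra.ofCoeff (θ.coeff.mapRange
        (fun a => (MonoidAlgebra.single 1 a : MonoidAlgebra A G)) (by simp)) *
        MonoidAlgebra.single (1 : G) x : MonoidAlgebra (MonoidAlgebra A G) G).coeff n) =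
      MonoidAlgebra.single 1 (θ.coeff n) * x := by
    intro θ x
    rw [MonoidAlgebra.coeff_mul_single_one]
    simp
  rw [h3, MonoidAlgebra.coeff_single_one_mul] at h2
  rw [← h2]
  split_ifs with hnl
  · rfl
  · rfl

/-- an element whose coefficients are orthogonal idempotents is group-like. -/
lemma isGL_of_coeff_mul (θ : MonoidAlgebra A G)
    (h : ∀ n l : G, n ≠ l → θ.coeff n * θ.coeff l = 0)
    (h' : ∀ n : G, θ.coeff n * θ.coeff n = θ.coeff n) : IsGL θ := by
  classical
  intro B _ β χ₁ χ₂
  rw [liftHom_eq_sum, liftHom_eq_sum, liftHom_eq_sum]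
  unfold Finsupp.sum
  rw [Finset.sum_mul_sum]
  refine Finset.sum_congr rfl (fun n hn => ?_)
  rw [Finset.sum_eq_single n]
  · beta_reduce
    rw [MonoidHom.mul_apply]
    have : β (θ.coeff n) * β (θ.coeff n) = β (θ.coeff n) := by rw [← map_mul, h']
    calc β (θ.coeff n) * (χ₁ n * χ₂ n) = (β (θ.coeff n) * β (θ.coeff n)) * (χ₁ n * χ₂ n) := by
          rw [this]
      _ = _ := by ring
  · intro l _ hl
    beta_reduce
    have : β (θ.coeff n) * β (θ.coeff l) = 0 := by rw [← map_mul, h n l (Ne.symm hl), map_zero]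
    calc β (θ.coeff n) * χ₁ n * (β (θ.coeff l) * χ₂ l)
        = (β (θ.coeff n) * β (θ.coeff l)) * (χ₁ n * χ₂ l) := by ring
      _ = 0 := by rw [this, zero_mul]
  · intro hn'
    exact absurd hn hn'

end GLSec

section OfUniv

variable {A : Type u} [CommRing A] {G H : Type} [CommGroup G] [CommGroup H]

lemma liftHom_nat {B B' : Type u} [CommRing B] [CommRing B'] (γ : B →+* B') (β : A →+* B)
    (χ : G →* B) (θ : MonoidAlgebra A G) :
    liftHom (γ.comp β) ((γ : B →* B').comp χ) θ = γ (liftHom β χ θ) := by
  induction θ using MonoidAlgebra.induction_linear with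
  | zero => simp
  | add x y hx hy => rw [map_add, map_add, map_add, hx, hy]
  | single k a =>
    rw [liftHom_single, liftHom_single, map_mul]
    rfl

lemma liftHom_algebraMap_of (θ : MonoidAlgebra A G) :
    liftHom (algebraMap A (MonoidAlgebra A G)) (MonoidAlgebra.of A G) θ = θ := by
  induction θ using MonoidAlgebra.induction_linear with
  | zero => simp
  | add x y hx hy => rw [map_add, hx, hy]
  | single k a =>
    rw [liftHom_single, algebraMap_eq_single, MonoidAlgebra.of_apply,
      MonoidAlgebra.single_mul_single, _root_.one_mul, _root_.mul_one]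

lemma liftHom_comp_map {A₀ : Type u} [CommRing A₀] (π : A →+* A₀) {B : Type u} [CommRing B]
    (β : A₀ →+* B) (χ : G →* B) (θ : MonoidAlgebra A G) :
    liftHom (β.comp π) χ θ = liftHom β χ (MonoidAlgebra.mapRingHom G π θ) := by
  induction θ using MonoidAlgebra.induction_linear with
  | zero => simp
  | add x y hx hy => rw [map_add, map_add, map_add, hx, hy]
  | single k a =>
    rw [liftHom_single]
    simp [MonoidAlgebra.mapRingHom]

/-- the transformation attached to a monoid homomorphism `H → A[G]` with group-like values. -/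
noncomputable def ofUniv (U : H →* MonoidAlgebra A G) (hU : ∀ h, IsGL (U h)) : HomFun A G H where
  map B _ β χ := ((liftHom β χ : MonoidAlgebra A G →+* B) : MonoidAlgebra A G →* B).comp U
  nat B B' _ _ γ β χ := by
    apply MonoidHom.ext
    intro h
    simp only [MonoidHom.comp_apply, coe_monoidHom_apply]
    exact liftHom_nat γ β χ (U h)
  mul B _ β χ₁ χ₂ := by
    apply MonoidHom.ext
    intro h
    simp only [MonoidHom.comp_apply, MonoidHom.mul_apply, coe_monoidHom_apply]
    exact hU h B β χ₁ χ₂

lemma ofUniv_map (U : H →* MonoidAlgebra A G) (hU : ∀ h, IsGL (U h)) (B : Type u) [CommRing B]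
    (β : A →+* B) (χ : G →* B) (h : H) :
    (ofUniv U hU).map B β χ h = liftHom β χ (U h) := rfl

lemma ofUniv_univ (U : H →* MonoidAlgebra A G) (hU : ∀ h, IsGL (U h)) (h : H) :
    (ofUniv U hU).univ h = U h := by
  unfold HomFun.univ
  rw [ofUniv_map, liftHom_algebraMap_of]

lemma isGL_univ (F : HomFun A G H) (h : H) : IsGL (F.univ h) := by
  intro B _ β χ₁ χ₂
  rw [← F.map_eq, ← F.map_eq, ← F.map_eq, F.mul]
  rfl

end OfUniv

section Lift

variable {A A₀ : Type u} [CommRing A] [CommRing A₀] (π : A →+* A₀)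
  (hπ : Function.Surjective π) (hnil : ∀ x ∈ RingHom.ker π, IsNilpotent x)
  {G H : Type} [CommGroup G] [CommGroup H]

include hnil in
/-- idempotents with the same image are equal. -/
lemma idem_eq {e e' : A} (he : IsIdempotentElem e) (he' : IsIdempotentElem e')
    (h : π e = π e') : e = e' := by
  apply eq_of_isNilpotent_sub_of_isIdempotentElem he he'
  apply hnil
  rw [RingHom.mem_ker, map_sub, h, sub_self]

open Classical in
/-- the idempotent lifting an idempotent (zero on the other elements). -/
noncomputable def lf (a₀ : A₀) : A :=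
  if h : IsIdempotentElem a₀ then
    (exists_isIdempotentElem_eq_of_ker_isNilpotent π hnil a₀ (RingHom.mem_range.mpr (hπ a₀))
      h).choose
  else 0

lemma lf_spec {a₀ : A₀} (h : IsIdempotentElem a₀) :
    IsIdempotentElem (lf π hπ hnil a₀) ∧ π (lf π hπ hnil a₀) = a₀ := by
  unfold lf
  rw [dif_pos h]
  exact (exists_isIdempotentElem_eq_of_ker_isNilpotent π hnil a₀ (RingHom.mem_range.mpr (hπ a₀))
      h).choose_spec

lemma lf_unique {e : A} (he : IsIdempotentElem e) : lf π hπ hnil (π e) = e :=
  idem_eq π hnil (lf_spec π hπ hnil (he.map π)).1 he (lf_spec π hπ hnil (he.map π)).2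

lemma lf_zero : lf π hπ hnil 0 = 0 := by
  have h := lf_unique π hπ hnil (IsIdempotentElem.zero (M₀ := A))
  rwa [map_zero] at h

/-- the lift of an element, coefficientwise. -/
noncomputable def liftElt (θ₀ : MonoidAlgebra A₀ G) : MonoidAlgebra A G :=
  MonoidAlgebra.ofCoeff (θ₀.coeff.mapRange (lf π hπ hnil) (lf_zero π hπ hnil))

lemma coeff_liftElt (θ₀ : MonoidAlgebra A₀ G) (g : G) :
    (liftElt π hπ hnil θ₀).coeff g = lf π hπ hnil (θ₀.coeff g) := by
  unfold liftElt
  simp

lemma coeff_mapRingHom (θ : MonoidAlgebra A G) (g : G) :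
    (MonoidAlgebra.mapRingHom G π θ).coeff g = π (θ.coeff g) := by
  simp [MonoidAlgebra.mapRingHom]

lemma IsGL.coeff_idem {θ : MonoidAlgebra A G} (h : IsGL θ) (g : G) :
    IsIdempotentElem (θ.coeff g) := by
  classical
  have := h.coeff_mul g g
  rwa [if_pos rfl] at this

lemma IsGL.coeff_orth {θ : MonoidAlgebra A G} (h : IsGL θ) (g g' : G) (hne : g ≠ g') :
    θ.coeff g * θ.coeff g' = 0 := by
  classical
  have := h.coeff_mul g g'
  rwa [if_neg hne] at this

lemma map_liftElt {θ₀ : MonoidAlgebra A₀ G} (h : IsGL θ₀) :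
    MonoidAlgebra.mapRingHom G π (liftElt π hπ hnil θ₀) = θ₀ := by
  apply MonoidAlgebra.coeff_injective
  ext g : 1
  rw [coeff_mapRingHom, coeff_liftElt]
  exact (lf_spec π hπ hnil (h.coeff_idem g)).2

lemma isGL_liftElt {θ₀ : MonoidAlgebra A₀ G} (h : IsGL θ₀) : IsGL (liftElt π hπ hnil θ₀) := by
  apply isGL_of_coeff_mul
  · intro n l hnl
    rw [coeff_liftElt, coeff_liftElt]
    have h1 := lf_spec π hπ hnil (h.coeff_idem n)
    have h2 := lf_spec π hπ hnil (h.coeff_idem l)
    apply idem_eq π hnil (h1.1.mul h2.1) IsIdempotentElem.zero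
    rw [map_mul, h1.2, h2.2, map_zero]
    exact h.coeff_orth n l hnl
  · intro n
    rw [coeff_liftElt]
    exact (lf_spec π hπ hnil (h.coeff_idem n)).1

include hnil in
lemma isGL_ext {θ θ' : MonoidAlgebra A G} (h : IsGL θ) (h' : IsGL θ')
    (heq : MonoidAlgebra.mapRingHom G π θ = MonoidAlgebra.mapRingHom G π θ') : θ = θ' := by
  apply MonoidAlgebra.coeff_injective
  ext g : 1
  apply idem_eq π hnil (h.coeff_idem g) (h'.coeff_idem g)
  rw [← coeff_mapRingHom, ← coeff_mapRingHom, heq]

/-- the lift of a transformation along a surjection with nil kernel. -/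
noncomputable def liftUniv (F₀ : HomFun A₀ G H) : H →* MonoidAlgebra A G where
  toFun h := liftElt π hπ hnil (F₀.univ h)
  map_one' := by
    apply isGL_ext π hnil (isGL_liftElt π hπ hnil (isGL_univ F₀ 1)) isGL_one
    rw [map_liftElt π hπ hnil (isGL_univ F₀ 1), map_one, F₀.univ_one]
  map_mul' h h' := by
    apply isGL_ext π hnil (isGL_liftElt π hπ hnil (isGL_univ F₀ _))
      ((isGL_liftElt π hπ hnil (isGL_univ F₀ _)).mul (isGL_liftElt π hπ hnil (isGL_univ F₀ _)))
    rw [map_liftElt π hπ hnil (isGL_univ F₀ _), map_mul, map_liftElt π hπ hnil (isGL_univ F₀ _),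
      map_liftElt π hπ hnil (isGL_univ F₀ _), F₀.univ_mul]

/-- the lift of a transformation along a surjection with nil kernel. -/
noncomputable def lift (F₀ : HomFun A₀ G H) : HomFun A G H :=
  ofUniv (liftUniv π hπ hnil F₀) (fun h => isGL_liftElt π hπ hnil (isGL_univ F₀ h))

theorem lift_comap (F₀ : HomFun A₀ G H) : (lift π hπ hnil F₀).comap π = F₀ := by
  apply HomFun.ext'
  intro B _ β χ
  apply MonoidHom.ext
  intro h
  change (lift π hπ hnil F₀).map B (β.comp π) χ h = _
  unfold lift
  rw [ofUniv_map, liftHom_comp_map, F₀.map_eq]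
  congr 1
  exact map_liftElt π hπ hnil (isGL_univ F₀ h)

end Lift

end Groth.Agent.Lib.R2H3.HomLift
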