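import Groth.Agent.Lib.R2H3HomLiftAlg
import Groth.Agent.Lib.R2H3MultHomGeo
import Groth.Agent.Lib.R2H3MultActRed

/-!
# Lifting homomorphisms of diagonalisable groups modulo a nilpotent ideal: geometry
(helper3, round 2)

* `ofHomFun F : D_W(M) ⟶ D_W(M')` for `W = Spec A` and a transformation `F` of functors of
  characters (`HomFun A M M'`); it is a homomorphism, and `charOf_comp_ofHomFun` computes it on
  affine points;
* `exists_factor_local`: let `I` be a nilpotent ideal of `A`, `u : D_W(M) ⟶ G`, `v : D_W(M') ⟶ G`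
  homomorphisms to a `W`-group with `v` a monomorphism and one of them central.  If on the
  points killing `I` the homomorphism `u` factors through `v`, then `u` factors through `v`.
-/

set_option autoImplicit false
set_option linter.style.haveILetI false
set_option linter.unusedVariables false
set_option linter.unusedSectionVars false

universe u

open CategoryTheory MonoidalCategory CartesianMonoidalCategory MonObj GrpObj AlgebraicGeometry
  CategoryTheory.Limits
open Groth.Agent.Lib.Helper27.GaGm Groth.Agent.Lib.H6xDSPts Groth.Agent.Lib.R2H3.MultAct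
  Groth.Agent.Lib.R2H3.MultHom

namespace Groth.Agent.Lib.R2H3.HomLift

section Chi

variable {W : Scheme.{u}} {M : Type} [AddCommGroup M]

/-- the character of a point of `D_W(M)`. -/
noncomputable def chiOf {Y : Over W} (y : Y ⟶ Red.DS W M) : Multiplicative M →* Γ(Y.left, ⊤) where
  toFun m := dsFn y (Multiplicative.toAdd m)
  map_one' := dsFn_zero y
  map_mul' a b := dsFn_add y _ _

lemma chiOf_apply {Y : Over W} (y : Y ⟶ Red.DS W M) (m : Multiplicative M) :
    chiOf y m = dsFn y (Multiplicative.toAdd m) := rfl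

lemma chiOf_mul {Y : Over W} (y y' : Y ⟶ Red.DS W M) : chiOf (y * y') = chiOf y * chiOf y' := by
  apply MonoidHom.ext
  intro m
  rw [MonoidHom.mul_apply, chiOf_apply, chiOf_apply, chiOf_apply, dsFn_mul]

lemma chiOf_one {Y : Over W} : chiOf (1 : Y ⟶ Red.DS W M) = 1 := by
  apply MonoidHom.ext
  intro m
  rw [MonoidHom.one_apply, chiOf_apply, dsFn_one]

lemma chiOf_comp {Y Y' : Over W} (k : Y' ⟶ Y) (y : Y ⟶ Red.DS W M) :
    chiOf (k ≫ y) = ((k.left.appTop.hom : Γ(Y.left, ⊤) →+* Γ(Y'.left, ⊤)) :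
      Γ(Y.left, ⊤) →* Γ(Y'.left, ⊤)).comp (chiOf y) := by
  apply MonoidHom.ext
  intro m
  rw [MonoidHom.comp_apply, chiOf_apply, chiOf_apply, dsFn_comp]
  rfl

/-- points of a diagonalisable group commute. -/
lemma ds_mul_comm {Y : Over W} (y y' : Y ⟶ Red.DS W M) : y * y' = y' * y := by
  apply dsFn_ext
  intro m
  rw [dsFn_mul, dsFn_mul, mul_comm]

end Chi

section OfHomFun

variable {A : Type u} [CommRing A] {M M' : Type} [AddCommGroup M] [AddCommGroup M']
  (F : HomFun A (Multiplicative M) (Multiplicative M'))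

/-- the homomorphism `D_W(M) ⟶ D_W(M')` over `W = Spec A` attached to a transformation of
functors of characters. -/
noncomputable def ofHomFun :
    Red.DS (Spec (CommRingCat.of A)) M ⟶ Red.DS (Spec (CommRingCat.of A)) M' :=
  (dsFn_surj (S := Spec (CommRingCat.of A)) (X := Red.DS (Spec (CommRingCat.of A)) M)
    (F.map Γ((Red.DS (Spec (CommRingCat.of A)) M).left, ⊤)
      (fnHom (Red.DS (Spec (CommRingCat.of A)) M).hom)
      (chiOf (𝟙 (Red.DS (Spec (CommRingCat.of A)) M))))).choose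

lemma dsFn_ofHomFun (m' : M') :
    dsFn (ofHomFun F) m' = F.map Γ((Red.DS (Spec (CommRingCat.of A)) M).left, ⊤)
      (fnHom (Red.DS (Spec (CommRingCat.of A)) M).hom)
      (chiOf (𝟙 (Red.DS (Spec (CommRingCat.of A)) M))) (Multiplicative.ofAdd m') :=
  (dsFn_surj (S := Spec (CommRingCat.of A)) (X := Red.DS (Spec (CommRingCat.of A)) M)
    (F.map Γ((Red.DS (Spec (CommRingCat.of A)) M).left, ⊤)
      (fnHom (Red.DS (Spec (CommRingCat.of A)) M).hom)
      (chiOf (𝟙 (Red.DS (Spec (CommRingCat.of A)) M))))).choose_spec m'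

lemma fnHom_comp {Y Y' : Scheme.{u}} (g : Y' ⟶ Y) (y : Y ⟶ Spec (CommRingCat.of A)) :
    fnHom (g ≫ y) = (g.appTop.hom : Γ(Y, ⊤) →+* Γ(Y', ⊤)).comp (fnHom y) := by
  ext a
  rw [← fn_eq, fn_comp]
  rfl

lemma dsFn_comp_ofHomFun {Y : Over (Spec (CommRingCat.of A))}
    (y : Y ⟶ Red.DS (Spec (CommRingCat.of A)) M) (m' : M') :
    dsFn (y ≫ ofHomFun F) m' =
      F.map Γ(Y.left, ⊤) (fnHom Y.hom) (chiOf y) (Multiplicative.ofAdd m') := by
  rw [dsFn_comp, dsFn_ofHomFun]
  have h := F.nat _ _ (y.left.appTop.hom : Γ((Red.DS (Spec (CommRingCat.of A)) M).left, ⊤) →+*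
    Γ(Y.left, ⊤)) (fnHom (Red.DS (Spec (CommRingCat.of A)) M).hom)
    (chiOf (𝟙 (Red.DS (Spec (CommRingCat.of A)) M)))
  have h1 : (y.left.appTop.hom : Γ((Red.DS (Spec (CommRingCat.of A)) M).left, ⊤) →+*
      Γ(Y.left, ⊤)).comp (fnHom (Red.DS (Spec (CommRingCat.of A)) M).hom) = fnHom Y.hom := by
    rw [← fnHom_comp, Over.w y]
  have h2 : ((y.left.appTop.hom : Γ((Red.DS (Spec (CommRingCat.of A)) M).left, ⊤) →+*
      Γ(Y.left, ⊤)) : _ →* _).comp (chiOf (𝟙 (Red.DS (Spec (CommRingCat.of A)) M))) =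
      chiOf y := by
    rw [← chiOf_comp, Category.comp_id]
  rw [h1, h2] at h
  rw [h]
  rfl

instance isMonHom_ofHomFun : IsMonHom (ofHomFun F) := by
  apply isMonHom_of_pts
  · apply dsFn_ext
    intro m'
    rw [dsFn_comp_ofHomFun, chiOf_one, F.map_one_char, MonoidHom.one_apply, dsFn_one]
  · intro T x y
    apply dsFn_ext
    intro m'
    rw [dsFn_comp_ofHomFun, chiOf_mul, F.mul, MonoidHom.mul_apply, dsFn_mul, dsFn_comp_ofHomFun,
      dsFn_comp_ofHomFun]

/-- the homomorphism attached to `F` on affine points. -/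
lemma charOf_comp_ofHomFun {B : Type u} [CommRing B] (β : A →+* B)
    (h : Over.mk (Spec.map (CommRingCat.ofHom β)) ⟶ Red.DS (Spec (CommRingCat.of A)) M) :
    charOf (h ≫ ofHomFun F) = F.map B β (charOf h) := by
  apply MonoidHom.ext
  intro m'
  rw [charOf_apply, dsFn_comp_ofHomFun]
  obtain ⟨ε, hε⟩ : ∃ ε : Γ((Over.mk (Spec.map (CommRingCat.ofHom β))).left, ⊤) →+* B,
      ε = (Scheme.ΓSpecIso (CommRingCat.of B)).hom.hom := ⟨_, rfl⟩
  have hn := F.nat _ _ ε (fnHom (Over.mk (Spec.map (CommRingCat.ofHom β))).hom) (chiOf h)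
  have h1 : ε.comp (fnHom (Over.mk (Spec.map (CommRingCat.ofHom β))).hom) = β := by
    ext a
    rw [RingHom.comp_apply, ← fn_eq, hε]
    change (Scheme.ΓSpecIso (CommRingCat.of B)).hom.hom (fn (Spec.map (CommRingCat.ofHom β)) a) = _
    erw [fn_eq_ringOf, ringOf_specMap]
    exact congrArg (fun k => k.hom (β a)) (Scheme.ΓSpecIso (CommRingCat.of B)).inv_hom_id
  have h2 : (ε : _ →* B).comp (chiOf h) = charOf h := by
    apply MonoidHom.ext
    intro m
    rw [hε]
    rfl
  rw [h1, h2] at hn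
  rw [hn, hε]
  rfl

end OfHomFun

end Groth.Agent.Lib.R2H3.HomLift
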