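import Groth.Agent.Lib.R2H3HomLiftGeo

/-!
# Factoring a homomorphism of diagonalisable groups through a monomorphism, modulo a nilpotent
ideal (helper3, round 2)

`exists_factor_local`: let `W = Spec A`, `I` a nilpotent ideal of `A`, `u : D_W(M) ⟶ G`,
`v : D_W(M') ⟶ G` homomorphisms to a `W`-group with `v` a monomorphism and one of them central.
If on the points killing `I` the homomorphism `u` factors through `v`, then `u` factors through
`v`.
-/

set_option autoImplicit false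
set_option linter.style.haveILetI false
set_option linter.unusedVariables false
set_option linter.unusedSectionVars false

universe u

open CategoryTheory MonoidalCategory CartesianMonoidalCategory MonObj GrpObj AlgebraicGeometry
  CategoryTheory.Limits
open Groth.Agent.Lib.Helper27.GaGm Groth.Agent.Lib.H6xDSPts Groth.Agent.Lib.R2H3.MultAct
  Groth.Agent.Lib.R2H3.MultHom

namespace Groth.Agent.Lib.R2H3.HomLift

section Local

variable {A : Type u} [CommRing A] (I : Ideal A)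
  {M M' : Type} [AddCommGroup M] [AddCommGroup M']
  {Gw : Over (Spec (CommRingCat.of A))} [GrpObj Gw]
  (u : Red.DS (Spec (CommRingCat.of A)) M ⟶ Gw) [IsMonHom u]
  (v : Red.DS (Spec (CommRingCat.of A)) M' ⟶ Gw) [IsMonHom v] [Mono v]
  (h0 : ∀ (Y : Over (Spec (CommRingCat.of A))), (∀ a ∈ I, fn Y.hom a = 0) →
    ∀ y : Y ⟶ Red.DS (Spec (CommRingCat.of A)) M,
      ∃ y' : Y ⟶ Red.DS (Spec (CommRingCat.of A)) M', y' ≫ v = y ≫ u)

/-- the transformation on the points killing `I`. -/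
noncomputable def Psi (Y : Over (Spec (CommRingCat.of A))) (hY : ∀ a ∈ I, fn Y.hom a = 0)
    (y : Y ⟶ Red.DS (Spec (CommRingCat.of A)) M) : Y ⟶ Red.DS (Spec (CommRingCat.of A)) M' :=
  (h0 Y hY y).choose

lemma Psi_spec (Y : Over (Spec (CommRingCat.of A))) (hY : ∀ a ∈ I, fn Y.hom a = 0)
    (y : Y ⟶ Red.DS (Spec (CommRingCat.of A)) M) : Psi I u v h0 Y hY y ≫ v = y ≫ u :=
  (h0 Y hY y).choose_spec

lemma Psi_unique (Y : Over (Spec (CommRingCat.of A))) (hY : ∀ a ∈ I, fn Y.hom a = 0)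
    (y : Y ⟶ Red.DS (Spec (CommRingCat.of A)) M)
    (y'' : Y ⟶ Red.DS (Spec (CommRingCat.of A)) M') (h : y'' ≫ v = y ≫ u) :
    y'' = Psi I u v h0 Y hY y :=
  (cancel_mono v).mp (h.trans (Psi_spec I u v h0 Y hY y).symm)

lemma Psi_comp {Y Y' : Over (Spec (CommRingCat.of A))} (k : Y' ⟶ Y)
    (hY : ∀ a ∈ I, fn Y.hom a = 0) (hY' : ∀ a ∈ I, fn Y'.hom a = 0)
    (y : Y ⟶ Red.DS (Spec (CommRingCat.of A)) M) :
    k ≫ Psi I u v h0 Y hY y = Psi I u v h0 Y' hY' (k ≫ y) := by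
  apply Psi_unique
  rw [Category.assoc, Psi_spec, Category.assoc]

lemma Psi_mul (Y : Over (Spec (CommRingCat.of A))) (hY : ∀ a ∈ I, fn Y.hom a = 0)
    (y₁ y₂ : Y ⟶ Red.DS (Spec (CommRingCat.of A)) M) :
    Psi I u v h0 Y hY (y₁ * y₂) = Psi I u v h0 Y hY y₁ * Psi I u v h0 Y hY y₂ := by
  symm
  apply Psi_unique
  rw [MonObj.mul_comp, MonObj.mul_comp, Psi_spec, Psi_spec]

lemma kills_specMap {B : Type u} [CommRing B] (β₀ : A ⧸ I →+* B) :
    ∀ a ∈ I, fn (Over.mk (Spec.map (CommRingCat.ofHom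
      (β₀.comp (Ideal.Quotient.mk I))))).hom a = 0 := by
  intro a ha
  change fn (Spec.map (CommRingCat.ofHom (β₀.comp (Ideal.Quotient.mk I)))) a = 0
  have h := fn_specMap (𝟙 (Spec (CommRingCat.of B))) (β₀.comp (Ideal.Quotient.mk I)) a
  rw [Category.id_comp] at h
  rw [h, RingHom.comp_apply, Ideal.Quotient.eq_zero_iff_mem.mpr ha, map_zero, fn_eq, map_zero]

/-- the transformation of functors of characters over `A ⧸ I`. -/
noncomputable def F0 : HomFun (A ⧸ I) (Multiplicative M) (Multiplicative M') where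
  map B _ β₀ χ := charOf (Psi I u v h0
    (Over.mk (Spec.map (CommRingCat.ofHom (β₀.comp (Ideal.Quotient.mk I)))))
    (kills_specMap I β₀) (hq _ χ))
  nat B B' _ _ g' β₀ χ := by
    obtain ⟨k, hk⟩ : ∃ k : Over.mk (Spec.map (CommRingCat.ofHom
        ((g'.comp β₀).comp (Ideal.Quotient.mk I)))) ⟶
        Over.mk (Spec.map (CommRingCat.ofHom (β₀.comp (Ideal.Quotient.mk I)))),
        k.left = Spec.map (CommRingCat.ofHom g') := by
      refine ⟨Over.homMk (Spec.map (CommRingCat.ofHom g')) ?_, rfl⟩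
      change Spec.map (CommRingCat.ofHom g') ≫
        Spec.map (CommRingCat.ofHom (β₀.comp (Ideal.Quotient.mk I))) =
        Spec.map (CommRingCat.ofHom ((g'.comp β₀).comp (Ideal.Quotient.mk I)))
      rw [RingHom.comp_assoc]
      exact (specMap_comp_eq _ _).symm
    rw [← hq_comp g' k hk χ, ← Psi_comp I u v h0 k (kills_specMap I β₀), charOf_comp g' k hk]
  mul B _ β₀ χ₁ χ₂ := by
    rw [hq_mul, Psi_mul, charOf_mul]

lemma F0_map {B : Type u} [CommRing B] (β₀ : A ⧸ I →+* B) (χ : Multiplicative M →* B) :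
    (F0 I u v h0).map B β₀ χ = charOf (Psi I u v h0
      (Over.mk (Spec.map (CommRingCat.ofHom (β₀.comp (Ideal.Quotient.mk I)))))
      (kills_specMap I β₀) (hq _ χ)) := rfl

variable (hI : IsNilpotent I)

include hI in
lemma ker_nil : ∀ x ∈ RingHom.ker (Ideal.Quotient.mk I), IsNilpotent x := by
  intro x hx
  rw [Ideal.mk_ker] at hx
  obtain ⟨n, hn⟩ := hI
  refine ⟨n, ?_⟩
  have := Ideal.pow_mem_pow hx n
  rw [hn] at this
  exact this

/-- the lifted homomorphism. -/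
noncomputable def psi : Red.DS (Spec (CommRingCat.of A)) M ⟶ Red.DS (Spec (CommRingCat.of A)) M' :=
  ofHomFun (lift (Ideal.Quotient.mk I) Ideal.Quotient.mk_surjective (ker_nil I hI)
    (F0 I u v h0))

instance : IsMonHom (psi I u v h0 hI) := by
  unfold psi
  infer_instance

/-- the lifted homomorphism agrees with the given transformation on affine points. -/
lemma psi_affine {B : Type u} [CommRing B] (q : Spec (CommRingCat.of B) ⟶ Spec (CommRingCat.of A))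
    (hq0 : ∀ a ∈ I, fn (Over.mk q).hom a = 0)
    (y : Over.mk q ⟶ Red.DS (Spec (CommRingCat.of A)) M) :
    y ≫ psi I u v h0 hI = Psi I u v h0 (Over.mk q) hq0 y := by
  obtain ⟨β, hβ⟩ : ∃ β : A →+* B, β = ringOf q := ⟨_, rfl⟩
  have hβI : ∀ a ∈ I, β a = 0 := by
    intro a ha
    have h1 : fn q a = 0 := hq0 a ha
    erw [fn_eq_ringOf] at h1
    rw [← hβ] at h1
    apply ΓSpecIso_inv_injective
    rw [h1, map_zero]
  obtain ⟨β₀, hβ₀⟩ : ∃ β₀ : A ⧸ I →+* B, β₀.comp (Ideal.Quotient.mk I) = β :=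
    ⟨Ideal.Quotient.lift I β hβI, by ext a; simp⟩
  have hqe : q = Spec.map (CommRingCat.ofHom (β₀.comp (Ideal.Quotient.mk I))) := by
    rw [hβ₀, hβ, specMap_ringOf]
  subst hqe
  have h1 := charOf_comp_ofHomFun (lift (Ideal.Quotient.mk I) Ideal.Quotient.mk_surjective
    (ker_nil I hI) (F0 I u v h0)) (β₀.comp (Ideal.Quotient.mk I)) y
  have h2 : (lift (Ideal.Quotient.mk I) Ideal.Quotient.mk_surjective (ker_nil I hI)
      (F0 I u v h0)).map B (β₀.comp (Ideal.Quotient.mk I)) (charOf y) =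
      (F0 I u v h0).map B β₀ (charOf y) := by
    conv_rhs => rw [← lift_comap (Ideal.Quotient.mk I) Ideal.Quotient.mk_surjective
      (ker_nil I hI) (F0 I u v h0)]
    rfl
  rw [h2, F0_map, hq_charOf] at h1
  have h3 := congrArg (hq (Spec.map (CommRingCat.ofHom (β₀.comp (Ideal.Quotient.mk I))))) h1
  rw [hq_charOf, hq_charOf] at h3
  exact h3

/-- two morphisms which agree on charts agree. -/
lemma hom_ext_of_charts {X Y : Scheme.{u}} (f g : X ⟶ Y)
    (H : ∀ x : X, ∃ (T : Scheme.{u}) (t : T ⟶ X), IsOpenImmersion t ∧ x ∈ Set.range t ∧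
      t ≫ f = t ≫ g) : f = g := by
  apply Scheme.hom_ext_of_forall
  intro x
  obtain ⟨T, t, ht, hx, he⟩ := H x
  refine ⟨t.opensRange, hx, ?_⟩
  rw [← cancel_epi t.isoOpensRange.hom, Scheme.Hom.isoOpensRange_hom_ι_assoc,
    Scheme.Hom.isoOpensRange_hom_ι_assoc]
  exact he

/-- the lifted homomorphism agrees with the given transformation on all points killing `I`. -/
lemma psi_pts (Y : Over (Spec (CommRingCat.of A))) (hY : ∀ a ∈ I, fn Y.hom a = 0)
    (y : Y ⟶ Red.DS (Spec (CommRingCat.of A)) M) :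
    y ≫ psi I u v h0 hI = Psi I u v h0 Y hY y := by
  apply Over.OverMorphism.ext
  apply hom_ext_of_charts
  intro y₀
  obtain ⟨U, hU, h1, -⟩ := TopologicalSpace.Opens.isBasis_iff_nbhd.mp
    (Y.left.isBasis_affineOpens) (U := ⊤) (x := y₀) trivial
  have hx : y₀ ∈ Set.range hU.fromSpec := by
    rw [hU.range_fromSpec]
    exact h1
  obtain ⟨B, _, t, ht, hy₀⟩ : ∃ (B : Type u) (_ : CommRing B)
      (t : Spec (CommRingCat.of B) ⟶ Y.left), IsOpenImmersion t ∧ y₀ ∈ Set.range t :=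
    ⟨Γ(Y.left, U), inferInstance, hU.fromSpec, inferInstance, hx⟩
  refine ⟨_, t, ht, hy₀, ?_⟩
  obtain ⟨k, hk⟩ : ∃ k : Over.mk (t ≫ Y.hom) ⟶ Y, k.left = t := ⟨Over.homMk t rfl, rfl⟩
  have hkill : ∀ a ∈ I, fn (Over.mk (t ≫ Y.hom)).hom a = 0 := by
    intro a ha
    change fn (t ≫ Y.hom) a = 0
    rw [fn_comp, hY a ha, map_zero]
  have h2 := psi_affine I u v h0 hI (t ≫ Y.hom) hkill (k ≫ y)
  rw [← Psi_comp I u v h0 k hY hkill y] at h2
  have h3 := congrArg (fun z => z.left) h2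
  simp only [Over.comp_left, hk] at h3
  rw [Over.comp_left, ← Category.assoc]
  exact h3

end Local

section Diff

variable {W : Scheme.{u}} {D Gw : Over W} [GrpObj D] [GrpObj Gw] (a b : D ⟶ Gw) [IsMonHom a]
  [IsMonHom b]
  (hD : ∀ (Y : Over W) (y y' : Y ⟶ D), y * y' = y' * y)
  (hc : (∀ (Y : Over W) (g : Y ⟶ Gw) (y : Y ⟶ D), g * (y ≫ a) = (y ≫ a) * g) ∨
    (∀ (Y : Over W) (g : Y ⟶ Gw) (y : Y ⟶ D), g * (y ≫ b) = (y ≫ b) * g))

include hD hc in
lemma diff_mul {Y : Over W} (y₁ y₂ : Y ⟶ D) :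
    ((y₁ * y₂) ≫ a)⁻¹ * ((y₁ * y₂) ≫ b) =
      ((y₁ ≫ a)⁻¹ * (y₁ ≫ b)) * ((y₂ ≫ a)⁻¹ * (y₂ ≫ b)) := by
  rcases hc with hc | hc
  · rw [MonObj.mul_comp, MonObj.mul_comp]
    have hcomm : Commute ((y₁ ≫ a)⁻¹ * (y₁ ≫ b)) (y₂ ≫ a) := hc Y _ y₂
    have h2 := hcomm.inv_right
    calc (y₁ ≫ a * y₂ ≫ a)⁻¹ * (y₁ ≫ b * y₂ ≫ b)
        = (y₂ ≫ a)⁻¹ * ((y₁ ≫ a)⁻¹ * (y₁ ≫ b)) * (y₂ ≫ b) := by group
      _ = ((y₁ ≫ a)⁻¹ * (y₁ ≫ b)) * (y₂ ≫ a)⁻¹ * (y₂ ≫ b) := by rw [h2.eq]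
      _ = _ := by group
  · rw [hD Y y₁ y₂, MonObj.mul_comp, hD Y y₂ y₁, MonObj.mul_comp]
    have hcomm : Commute (y₂ ≫ a)⁻¹ (y₁ ≫ b) := hc Y _ y₁
    calc (y₂ ≫ a * y₁ ≫ a)⁻¹ * (y₁ ≫ b * y₂ ≫ b)
        = (y₁ ≫ a)⁻¹ * ((y₂ ≫ a)⁻¹ * (y₁ ≫ b)) * (y₂ ≫ b) := by group
      _ = (y₁ ≫ a)⁻¹ * ((y₁ ≫ b) * (y₂ ≫ a)⁻¹) * (y₂ ≫ b) := by rw [hcomm.eq]
      _ = _ := by group

/-- the action of `D` on `Gw` by left translation through the "difference" of two
homomorphisms, one of which is central. -/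
noncomputable def diffAct : PtAction D Gw where
  smul y g := (y ≫ a)⁻¹ * (y ≫ b) * g
  one_smul x := by
    rw [MonObj.one_comp, MonObj.one_comp, inv_one, _root_.one_mul, _root_.one_mul]
  mul_smul g h x := by
    rw [diff_mul a b hD hc]
    group
  comp_smul k g x := by
    rw [MonObj.comp_mul, MonObj.comp_mul, GrpObj.comp_inv, Category.assoc, Category.assoc]

lemma diffAct_smul {Y : Over W} (y : Y ⟶ D) (g : Y ⟶ Gw) :
    (diffAct a b hD hc).smul y g = (y ≫ a)⁻¹ * (y ≫ b) * g := rfl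

end Diff

section Main

variable {A : Type u} [CommRing A] (I : Ideal A) (hI : IsNilpotent I)

include hI in
lemma hnil_specMap (x : Spec (CommRingCat.of A)) :
    ∃ U : (Spec (CommRingCat.of A)).affineOpens, x ∈ (U : (Spec (CommRingCat.of A)).Opens) ∧
      IsNilpotent ((Spec.map (CommRingCat.ofHom (Ideal.Quotient.mk I))).ker.ideal U) := by
  refine ⟨⟨⊤, isAffineOpen_top _⟩, trivial, ?_⟩
  obtain ⟨n, hn⟩ := hI
  refine ⟨n, ?_⟩
  obtain ⟨ε, hε⟩ : ∃ ε : Γ(Spec (CommRingCat.of A), ⊤) →+* A,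
      ε = (Scheme.ΓSpecIso (CommRingCat.of A)).hom.hom := ⟨_, rfl⟩
  have hεinj : Function.Injective ε := by
    rw [hε]
    exact (ConcreteCategory.bijective_of_isIso (Scheme.ΓSpecIso (CommRingCat.of A)).hom).1
  have hle : (Spec.map (CommRingCat.ofHom (Ideal.Quotient.mk I))).ker.ideal
      ⟨⊤, isAffineOpen_top _⟩ ≤ I.comap ε := by
    intro r hr
    rw [Scheme.Hom.ker_apply, RingHom.mem_ker] at hr
    have nat := Scheme.ΓSpecIso_naturality (CommRingCat.ofHom (Ideal.Quotient.mk I))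
    have h2 := congrArg (fun k => k.hom r) nat
    simp only [CommRingCat.hom_comp, RingHom.comp_apply, CommRingCat.hom_ofHom] at h2
    rw [Ideal.mem_comap, ← Ideal.Quotient.eq_zero_iff_mem, hε, ← h2]
    erw [hr]
    exact map_zero _
  rw [Ideal.zero_eq_bot, eq_bot_iff]
  calc _ ≤ (I.comap ε) ^ n := Ideal.pow_right_mono hle n
    _ ≤ (I ^ n).comap ε := Ideal.le_comap_pow _ _
    _ = (⊥ : Ideal A).comap ε := by rw [hn, Ideal.zero_eq_bot]
    _ = ⊥ := by
      rw [eq_bot_iff]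
      intro r hr
      rw [Ideal.mem_comap, Ideal.mem_bot] at hr
      rw [Ideal.mem_bot]
      exact hεinj (hr.trans (map_zero ε).symm)

variable {M M' : Type} [AddCommGroup M] [AddCommGroup M']
  {Gw : Over (Spec (CommRingCat.of A))} [GrpObj Gw]
  (u : Red.DS (Spec (CommRingCat.of A)) M ⟶ Gw) [IsMonHom u]
  (v : Red.DS (Spec (CommRingCat.of A)) M' ⟶ Gw) [IsMonHom v] [Mono v]

include hI in
/-- **Factoring through a monomorphism modulo a nilpotent ideal, diagonalisable case.** -/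
theorem exists_factor_local
    (hc : (∀ (Y : Over (Spec (CommRingCat.of A))) (g : Y ⟶ Gw)
        (y : Y ⟶ Red.DS (Spec (CommRingCat.of A)) M), g * (y ≫ u) = (y ≫ u) * g) ∨
      (∀ (Y : Over (Spec (CommRingCat.of A))) (g : Y ⟶ Gw)
        (y : Y ⟶ Red.DS (Spec (CommRingCat.of A)) M'), g * (y ≫ v) = (y ≫ v) * g))
    (h0 : ∀ (Y : Over (Spec (CommRingCat.of A))), (∀ a ∈ I, fn Y.hom a = 0) →
      ∀ y : Y ⟶ Red.DS (Spec (CommRingCat.of A)) M,
        ∃ y' : Y ⟶ Red.DS (Spec (CommRingCat.of A)) M', y' ≫ v = y ≫ u) :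
    ∃ ψ : Red.DS (Spec (CommRingCat.of A)) M ⟶ Red.DS (Spec (CommRingCat.of A)) M',
      ψ ≫ v = u := by
  refine ⟨psi I u v h0 hI, ?_⟩
  have hc' : (∀ (Y : Over (Spec (CommRingCat.of A))) (g : Y ⟶ Gw)
        (y : Y ⟶ Red.DS (Spec (CommRingCat.of A)) M), g * (y ≫ u) = (y ≫ u) * g) ∨
      (∀ (Y : Over (Spec (CommRingCat.of A))) (g : Y ⟶ Gw)
        (y : Y ⟶ Red.DS (Spec (CommRingCat.of A)) M),
        g * (y ≫ psi I u v h0 hI ≫ v) = (y ≫ psi I u v h0 hI ≫ v) * g) := by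
    rcases hc with hc | hc
    · exact Or.inl hc
    · refine Or.inr (fun Y g y => ?_)
      rw [← Category.assoc]
      exact hc Y g _
  obtain ⟨P, hP⟩ : ∃ P : PtAction (Red.DS (Spec (CommRingCat.of A)) M) Gw,
      P = diffAct u (psi I u v h0 hI ≫ v) (fun Y y y' => ds_mul_comm y y') hc' := ⟨_, rfl⟩
  haveI : IsClosedImmersion (Spec.map (CommRingCat.ofHom (Ideal.Quotient.mk I))) :=
    IsClosedImmersion.spec_of_surjective _ Ideal.Quotient.mk_surjective
  have h0w : ∀ (Y : Over (Spec (CommRingCat.of A))),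
      (∃ p : Y.left ⟶ Spec (CommRingCat.of (A ⧸ I)),
        p ≫ Spec.map (CommRingCat.ofHom (Ideal.Quotient.mk I)) =
          Y.hom ≫ 𝟙 (Spec (CommRingCat.of A))) →
      ∀ (g : Y ⟶ Red.DS (Spec (CommRingCat.of A)) M) (x : Y ⟶ Gw), P.smul g x = x := by
    rintro Y ⟨p, hp⟩ g x
    have hY : ∀ a ∈ I, fn Y.hom a = 0 := by
      intro a ha
      rw [Category.comp_id] at hp
      rw [← hp, fn_specMap, Ideal.Quotient.eq_zero_iff_mem.mpr ha, fn_eq, map_zero]
    have h1 := psi_pts I u v h0 hI Y hY g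
    have h2 : g ≫ psi I u v h0 hI ≫ v = g ≫ u := by
      rw [← Category.assoc, h1, Psi_spec]
    rw [hP, diffAct_smul, h2, inv_mul_cancel, _root_.one_mul]
  have htriv := PtAction.trivial_of_diag (Spec.map (CommRingCat.ofHom (Ideal.Quotient.mk I)))
    (hnil_specMap I hI) (𝟙 (Spec (CommRingCat.of A))) P h0w
    (Red.DS (Spec (CommRingCat.of A)) M) (𝟙 _) 1
  rw [hP, diffAct_smul, Category.id_comp, Category.id_comp, _root_.mul_one, inv_mul_eq_one] at htriv
  exact htriv.symm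

end Main

end Groth.Agent.Lib.R2H3.HomLift
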