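import Mathlib
import Groth.Agent.Lib.R2H3WeilAff

/-!
# The scheme classifying idempotent global sections (helper3, round 2)

* `exists_univ_idem_ring`: a commutative ring `R₀` with a universal idempotent.
* `exists_idemScheme`: an affine scheme `P` with an idempotent `ε ∈ Γ(P, ⊤)` such that for every
  scheme `Y` and every idempotent `e ∈ Γ(Y, ⊤)` there is exactly one `p : Y ⟶ P` with `p^* ε = e`.
-/

universe u

open CategoryTheory CategoryTheory.Limits AlgebraicGeometry Opposite Polynomial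

namespace Groth.Agent.Lib.R2H3.IdemSch

/-- a commutative ring with a universal idempotent element. -/
theorem exists_univ_idem_ring : ∃ (R₀ : CommRingCat.{u}) (ε : R₀), IsIdempotentElem ε ∧
    ∀ (D : CommRingCat.{u}) (e : D), IsIdempotentElem e → ∃! ψ : R₀ ⟶ D, ψ.hom ε = e := by
  let f : ℤ[X] := X ^ 2 - X
  let Q := AdjoinRoot f
  let eqv : ULift.{u} Q ≃+* Q := ULift.ringEquiv
  have hroot : IsIdempotentElem (AdjoinRoot.root f) := by
    have h := AdjoinRoot.eval₂_root f
    simp only [f, eval₂_sub, eval₂_pow, eval₂_X] at h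
    rw [IsIdempotentElem, ← sub_eq_zero, ← pow_two]
    exact h
  refine ⟨CommRingCat.of (ULift.{u} Q), eqv.symm (AdjoinRoot.root f), ?_, ?_⟩
  · change eqv.symm (AdjoinRoot.root f) * eqv.symm (AdjoinRoot.root f) = _
    rw [← map_mul, hroot.eq]
  · intro D e he
    have h0 : f.eval₂ (Int.castRingHom D) e = 0 := by
      simp only [f, eval₂_sub, eval₂_pow, eval₂_X]
      rw [pow_two, he.eq, sub_self]
    let ψ₀ : Q →+* D := AdjoinRoot.lift (Int.castRingHom D) e h0
    refine ⟨CommRingCat.ofHom (ψ₀.comp eqv.toRingHom), ?_, ?_⟩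
    · change ψ₀ (eqv (eqv.symm (AdjoinRoot.root f))) = e
      rw [RingEquiv.apply_symm_apply]
      exact AdjoinRoot.lift_root h0
    · intro ψ' hψ'
      have h1 : ψ'.hom.comp eqv.symm.toRingHom = ψ₀ := by
        apply AdjoinRoot.ringHom_ext
        · exact RingHom.ext_int _ _
        · change ψ'.hom (eqv.symm (AdjoinRoot.root f)) = ψ₀ (AdjoinRoot.root f)
          rw [hψ']
          exact (AdjoinRoot.lift_root h0).symm
      refine CommRingCat.hom_ext (RingHom.ext fun x => ?_)
      change ψ'.hom x = ψ₀ (eqv x)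
      rw [← h1]
      change ψ'.hom x = ψ'.hom (eqv.symm (eqv x))
      rw [RingEquiv.symm_apply_apply]

/-- the scheme classifying idempotent global sections. -/
theorem exists_idemScheme : ∃ (P : Scheme.{u}) (_ : IsAffine P) (ε : Γ(P, ⊤)), IsIdempotentElem ε ∧
    ∀ (Y : Scheme.{u}) (e : Γ(Y, ⊤)), IsIdempotentElem e → ∃! p : Y ⟶ P, p.appTop.hom ε = e := by
  obtain ⟨R₀, ε, hε, hU⟩ := exists_univ_idem_ring.{u}
  let ι := Scheme.ΓSpecIso R₀
  refine ⟨Spec R₀, inferInstance, ι.inv.hom ε, ?_, ?_⟩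
  · change ι.inv.hom ε * ι.inv.hom ε = _
    rw [← map_mul, hε.eq]
  · intro Y e he
    obtain ⟨ψ, hψ, hψu⟩ := hU Γ(Y, ⊤) e he
    obtain ⟨p, hp⟩ := Groth.Agent.Lib.R2H3.WeilAff.exists_hom_appTop (Y := Y) (T₀ := Spec R₀)
      (ι.hom ≫ ψ)
    refine ⟨p, ?_, ?_⟩
    · change p.appTop.hom (ι.inv.hom ε) = e
      rw [hp]
      change ψ.hom (ι.hom.hom (ι.inv.hom ε)) = e
      have : ι.hom.hom (ι.inv.hom ε) = ε := by
        change (ι.inv ≫ ι.hom).hom ε = ε
        rw [Iso.inv_hom_id]
        rfl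
      rw [this, hψ]
    · intro p' hp'
      have h1 : ι.inv ≫ p'.appTop = ψ := by
        apply hψu
        exact hp'
      apply ext_of_isAffine
      rw [hp, ← h1, Iso.hom_inv_id_assoc]

end Groth.Agent.Lib.R2H3.IdemSch
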