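import Mathlib
import Groth.Agent.Lib.R2H3IdemSch

/-!
# Schemes over `S` classifying idempotent global sections (helper3, round 2)

`IsIdemClassifier f εX`: the `S`-scheme `f : X ⟶ S` with `εX ∈ Γ(X, ⊤)` idempotent is such that for
every `S`-scheme `t : Y ⟶ S`, the `S`-morphisms `Y ⟶ X` correspond bijectively to the idempotents of
`Γ(Y, ⊤)` (by pulling back `εX`).

* `exists_classifier`: existence, with `f` affine.
* `IsIdemClassifier.baseChange`: stability under base change.
* `IsIdemClassifier.ringUP`: the universal property of `Γ(X, ⊤)` when `X` and `S` are affine.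
-/

universe u

open CategoryTheory CategoryTheory.Limits AlgebraicGeometry Opposite

namespace Groth.Agent.Lib.R2H3.IdemClass

/-- `f : X ⟶ S` with `εX` classifies idempotent global sections of `S`-schemes. -/
structure IsIdemClassifier {X S : Scheme.{u}} (f : X ⟶ S) (εX : Γ(X, ⊤)) : Prop where
  idem : IsIdempotentElem εX
  existsUnique : ∀ (Y : Scheme.{u}) (t : Y ⟶ S) (e : Γ(Y, ⊤)), IsIdempotentElem e →
    ∃! m : Y ⟶ X, m ≫ f = t ∧ m.appTop.hom εX = e

theorem exists_classifier (S : Scheme.{u}) :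
    ∃ (X : Scheme.{u}) (f : X ⟶ S) (εX : Γ(X, ⊤)), IsAffineHom f ∧ IsIdemClassifier f εX := by
  obtain ⟨P, hP, ε, hε, hU⟩ := Groth.Agent.Lib.R2H3.IdemSch.exists_idemScheme.{u}
  have := hP
  have haff : IsAffineHom (pullback.snd (terminal.from P) (terminal.from S)) :=
    MorphismProperty.pullback_snd (P := @IsAffineHom) _ _ inferInstance
  refine ⟨pullback (terminal.from P) (terminal.from S), pullback.snd _ _,
    (pullback.fst (terminal.from P) (terminal.from S)).appTop.hom ε, haff, ?_, ?_⟩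
  · change (pullback.fst (terminal.from P) (terminal.from S)).appTop.hom ε *
      (pullback.fst (terminal.from P) (terminal.from S)).appTop.hom ε = _
    rw [← map_mul, hε.eq]
  · intro Y t e he
    obtain ⟨p, hp, hpu⟩ := hU Y e he
    refine ⟨pullback.lift p t (terminal.hom_ext _ _), ⟨pullback.lift_snd _ _ _, ?_⟩, ?_⟩
    · change ((pullback.fst (terminal.from P) (terminal.from S)).appTop ≫
        (pullback.lift p t (terminal.hom_ext _ _)).appTop).hom ε = e
      rw [← Scheme.Hom.comp_appTop, pullback.lift_fst]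
      exact hp
    · rintro m ⟨hm1, hm2⟩
      apply pullback.hom_ext
      · rw [pullback.lift_fst]
        apply hpu
        rw [Scheme.Hom.comp_appTop]
        exact hm2
      · rw [pullback.lift_snd, hm1]

theorem IsIdemClassifier.baseChange {X S V : Scheme.{u}} {f : X ⟶ S} {εX : Γ(X, ⊤)}
    (hX : IsIdemClassifier f εX) (h : V ⟶ S) :
    IsIdemClassifier (pullback.snd f h) ((pullback.fst f h).appTop.hom εX) := by
  constructor
  · change (pullback.fst f h).appTop.hom εX * (pullback.fst f h).appTop.hom εX = _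
    rw [← map_mul, hX.idem.eq]
  · intro Y t e he
    obtain ⟨m', ⟨hm1, hm2⟩, hmu⟩ := hX.existsUnique Y (t ≫ h) e he
    refine ⟨pullback.lift m' t hm1, ⟨pullback.lift_snd _ _ _, ?_⟩, ?_⟩
    · change ((pullback.fst f h).appTop ≫ (pullback.lift m' t hm1).appTop).hom εX = e
      rw [← Scheme.Hom.comp_appTop, pullback.lift_fst]
      exact hm2
    · rintro m ⟨h1, h2⟩
      apply pullback.hom_ext
      · rw [pullback.lift_fst]
        apply hmu
        refine ⟨?_, ?_⟩
        · rw [Category.assoc, pullback.condition, ← Category.assoc, h1]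
        · rw [Scheme.Hom.comp_appTop]
          exact h2
      · rw [pullback.lift_snd, h1]

/-- the universal property of the ring of global sections of an affine classifier. -/
theorem IsIdemClassifier.ringUP {X S : Scheme.{u}} [IsAffine X] [IsAffine S] {f : X ⟶ S}
    {εX : Γ(X, ⊤)} (hX : IsIdemClassifier f εX) (D : CommRingCat.{u}) (ψ₀ : Γ(S, ⊤) ⟶ D) (e : D)
    (he : IsIdempotentElem e) :
    ∃! ψ : Γ(X, ⊤) ⟶ D, f.appTop ≫ ψ = ψ₀ ∧ ψ.hom εX = e := by
  let ι := Scheme.ΓSpecIso D
  obtain ⟨t, ht⟩ := Groth.Agent.Lib.R2H3.WeilAff.exists_hom_appTop (Y := Spec D) (T₀ := S)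
    (ψ₀ ≫ ι.inv)
  have he' : IsIdempotentElem (ι.inv.hom e) := by
    change ι.inv.hom e * ι.inv.hom e = _
    rw [← map_mul, he.eq]
  have hι : ∀ x, ι.hom.hom (ι.inv.hom x) = x := fun x => by
    change (ι.inv ≫ ι.hom).hom x = x
    rw [Iso.inv_hom_id]
    rfl
  obtain ⟨m, ⟨hm1, hm2⟩, hmu⟩ := hX.existsUnique (Spec D) t (ι.inv.hom e) he'
  refine ⟨m.appTop ≫ ι.hom, ⟨?_, ?_⟩, ?_⟩
  · rw [← Category.assoc, ← Scheme.Hom.comp_appTop, hm1, ht, Category.assoc, Iso.inv_hom_id,
      Category.comp_id]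
  · change ι.hom.hom (m.appTop.hom εX) = e
    rw [hm2, hι]
  · rintro ψ ⟨h1, h2⟩
    obtain ⟨m', hm'⟩ := Groth.Agent.Lib.R2H3.WeilAff.exists_hom_appTop (Y := Spec D) (T₀ := X)
      (ψ ≫ ι.inv)
    have : m' = m := by
      apply hmu
      refine ⟨?_, ?_⟩
      · apply ext_of_isAffine
        rw [Scheme.Hom.comp_appTop, hm', ← Category.assoc, h1, ht]
      · rw [hm']
        change ι.inv.hom (ψ.hom εX) = _
        rw [h2]
    rw [← this, hm', Category.assoc, Iso.inv_hom_id, Category.comp_id]

end Groth.Agent.Lib.R2H3.IdemClass
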