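import Mathlib

/-!
# Idempotent global sections and open-closed subsets of a scheme (helper3, round 2)

For a scheme `X`, the map `e ↦ D(e)` is a bijection from the idempotents of `Γ(X, ⊤)` onto the
open-closed subsets of `X`.

* `isClopen_basicOpen`: `D(e)` is open and closed for idempotent `e`.
* `eq_of_basicOpen_eq`: an idempotent is determined by `D(e)`.
* `exists_idem_of_isClopen`: every open-closed subset is `D(e)` for an idempotent `e`.
-/

universe u

open CategoryTheory AlgebraicGeometry Opposite TopologicalSpace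

namespace Groth.Agent.Lib.R2H3.IdemClopen

variable {X : Scheme.{u}}

theorem mem_basicOpen_or (e : Γ(X, ⊤)) (x : X) :
    x ∈ X.basicOpen e ∨ x ∈ X.basicOpen (1 - e) := by
  have hx : x ∈ (⊤ : X.Opens) := trivial
  rw [Scheme.mem_basicOpen X e x hx, Scheme.mem_basicOpen X (1 - e) x hx]
  have h1 : X.presheaf.germ ⊤ x hx e + X.presheaf.germ ⊤ x hx (1 - e) = 1 := by
    rw [← map_add, add_sub_cancel, map_one]
  exact IsLocalRing.isUnit_or_isUnit_of_add_one h1

theorem not_mem_basicOpen_one_sub (e : Γ(X, ⊤)) (he : IsIdempotentElem e) (x : X)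
    (h1 : x ∈ X.basicOpen e) : x ∉ X.basicOpen (1 - e) := by
  intro h2
  have h3 : x ∈ X.basicOpen (e * (1 - e)) := by
    rw [Scheme.basicOpen_mul]
    exact ⟨h1, h2⟩
  have h4 : e * (1 - e) = 0 := by
    rw [mul_sub, mul_one, he.eq, sub_self]
  rw [h4, Scheme.basicOpen_zero] at h3
  exact h3

theorem basicOpen_one_sub (e : Γ(X, ⊤)) (he : IsIdempotentElem e) :
    ((X.basicOpen (1 - e) : X.Opens) : Set X) = ((X.basicOpen e : X.Opens) : Set X)ᶜ := by
  ext x
  constructor
  · intro h h'
    exact not_mem_basicOpen_one_sub e he x h' h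
  · intro h
    rcases mem_basicOpen_or e x with h1 | h1
    · exact absurd h1 h
    · exact h1

theorem isClopen_basicOpen (e : Γ(X, ⊤)) (he : IsIdempotentElem e) :
    IsClopen ((X.basicOpen e : X.Opens) : Set X) := by
  refine ⟨?_, (X.basicOpen e).2⟩
  have hc : ((X.basicOpen e : X.Opens) : Set X) = ((X.basicOpen (1 - e) : X.Opens) : Set X)ᶜ := by
    rw [basicOpen_one_sub e he, compl_compl]
  rw [hc]
  exact (X.basicOpen (1 - e)).2.isClosed_compl

theorem eq_one_of_basicOpen_eq_univ (g : Γ(X, ⊤)) (hg : IsIdempotentElem g)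
    (h : ((X.basicOpen g : X.Opens) : Set X) = Set.univ) : g = 1 := by
  have hu : IsUnit g := by
    apply X.toRingedSpace.isUnit_of_isUnit_germ ⊤ g
    intro x hx
    have hx' : x ∈ X.basicOpen g := by
      change x ∈ ((X.basicOpen g : X.Opens) : Set X)
      rw [h]
      trivial
    exact (Scheme.mem_basicOpen X g x hx).1 hx'
  obtain ⟨u, rfl⟩ := hu
  have h2 : (u : Γ(X, ⊤)) * u = u := hg.eq
  calc (u : Γ(X, ⊤)) = ((u⁻¹ : (Γ(X, ⊤))ˣ) : Γ(X, ⊤)) * (u * u) := by
        rw [← mul_assoc, Units.inv_mul, one_mul]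
    _ = 1 := by rw [h2, Units.inv_mul]

theorem eq_zero_of_basicOpen_eq_empty (g : Γ(X, ⊤)) (hg : IsIdempotentElem g)
    (h : ((X.basicOpen g : X.Opens) : Set X) = ∅) : g = 0 := by
  have h1 : (1 - g) = 1 := by
    apply eq_one_of_basicOpen_eq_univ (1 - g) hg.one_sub
    rw [basicOpen_one_sub g hg, h, Set.compl_empty]
  have : g = 1 - (1 - g) := by ring
  rw [this, h1, sub_self]

theorem mul_one_sub_eq_zero (e e' : Γ(X, ⊤)) (he : IsIdempotentElem e) (he' : IsIdempotentElem e')
    (h : ((X.basicOpen e : X.Opens) : Set X) ⊆ ((X.basicOpen e' : X.Opens) : Set X)) :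
    e * (1 - e') = 0 := by
  apply eq_zero_of_basicOpen_eq_empty
  · exact he.mul he'.one_sub
  · rw [Scheme.basicOpen_mul]
    change ((X.basicOpen e : X.Opens) : Set X) ∩ ((X.basicOpen (1 - e') : X.Opens) : Set X) = ∅
    rw [basicOpen_one_sub e' he']
    ext x
    simp only [Set.mem_inter_iff, Set.mem_compl_iff, Set.mem_empty_iff_false, iff_false, not_and,
      not_not]
    exact fun hx => h hx

/-- an idempotent global section is determined by its non-vanishing locus. -/
theorem eq_of_basicOpen_eq (e e' : Γ(X, ⊤)) (he : IsIdempotentElem e) (he' : IsIdempotentElem e')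
    (h : ((X.basicOpen e : X.Opens) : Set X) = ((X.basicOpen e' : X.Opens) : Set X)) : e = e' := by
  have h1 := mul_one_sub_eq_zero e e' he he' h.le
  have h2 := mul_one_sub_eq_zero e' e he' he h.ge
  have h3 : e = e * e' := by
    have : e * (1 - e') = e - e * e' := by ring
    rw [this, sub_eq_zero] at h1
    exact h1
  have h4 : e' = e' * e := by
    have : e' * (1 - e) = e' - e' * e := by ring
    rw [this, sub_eq_zero] at h2
    exact h2
  rw [h3, mul_comm, ← h4]

lemma subsingleton_of_eq_bot (V : X.Opens) (h : V = ⊥) : Subsingleton Γ(X, V) := by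
  subst h
  infer_instance

/-- every open-closed subset is the non-vanishing locus of an idempotent global section. -/
theorem exists_idem_of_isClopen (U : Set X) (hU : IsClopen U) :
    ∃ e : Γ(X, ⊤), IsIdempotentElem e ∧ ((X.basicOpen e : X.Opens) : Set X) = U := by
  let U₁ : X.Opens := ⟨U, hU.isOpen⟩
  let U₂ : X.Opens := ⟨Uᶜ, hU.compl.isOpen⟩
  let Uc : ULift.{u} Bool → X.Opens := fun i => if i.down then U₁ else U₂
  let sf : ∀ i : ULift.{u} Bool, Γ(X, Uc i) := fun i => if i.down then 1 else 0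
  have h12 : U₁ ⊓ U₂ = ⊥ := by
    ext x
    simp [U₁, U₂]
  have h21 : U₂ ⊓ U₁ = ⊥ := by rw [inf_comm, h12]
  have hle : ∀ i, Uc i ≤ (⊤ : X.Opens) := fun i => le_top
  have hcov : (⊤ : X.Opens) ≤ iSup Uc := by
    intro x _
    rw [Opens.mem_iSup]
    by_cases hx : x ∈ U
    · exact ⟨⟨true⟩, hx⟩
    · exact ⟨⟨false⟩, hx⟩
  have hcompat : TopCat.Presheaf.IsCompatible X.presheaf Uc sf := by
    rintro ⟨_ | _⟩ ⟨_ | _⟩
    · rfl
    · have : Subsingleton Γ(X, Uc ⟨false⟩ ⊓ Uc ⟨true⟩) := subsingleton_of_eq_bot _ h21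
      exact Subsingleton.elim _ _
    · have : Subsingleton Γ(X, Uc ⟨true⟩ ⊓ Uc ⟨false⟩) := subsingleton_of_eq_bot _ h12
      exact Subsingleton.elim _ _
    · rfl
  obtain ⟨e, he, heu⟩ : ∃! e : Γ(X, ⊤), ∀ i, X.presheaf.map (homOfLE (hle i)).op e = sf i :=
    X.sheaf.existsUnique_gluing' (U := Uc) ⊤ (fun i => homOfLE (hle i)) hcov sf hcompat
  have he1 : X.presheaf.map (homOfLE (hle ⟨true⟩)).op e = 1 := he ⟨true⟩
  have he0 : X.presheaf.map (homOfLE (hle ⟨false⟩)).op e = 0 := he ⟨false⟩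
  refine ⟨e, ?_, ?_⟩
  · apply heu
    rintro ⟨_ | _⟩
    · change X.presheaf.map (homOfLE (hle ⟨false⟩)).op (e * e) = 0
      rw [map_mul, he0, mul_zero]
    · change X.presheaf.map (homOfLE (hle ⟨true⟩)).op (e * e) = 1
      rw [map_mul, he1, mul_one]
  · have h1 : U₁ ≤ X.basicOpen e := by
      have := Scheme.basicOpen_res X e (homOfLE (hle ⟨true⟩)).op
      rw [he1, Scheme.basicOpen_one] at this
      change U₁ = U₁ ⊓ X.basicOpen e at this
      rw [this]
      exact inf_le_right
    have h2 : U₂ ⊓ X.basicOpen e = ⊥ := by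
      have := Scheme.basicOpen_res X e (homOfLE (hle ⟨false⟩)).op
      rw [he0, Scheme.basicOpen_zero] at this
      exact this.symm
    apply Set.Subset.antisymm
    · intro x hx
      by_contra hxU
      have : x ∈ U₂ ⊓ X.basicOpen e := ⟨hxU, hx⟩
      rw [h2] at this
      exact this
    · exact h1

end Groth.Agent.Lib.R2H3.IdemClopen
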