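import Mathlib
import Groth.Agent.Lib.R2H3WeilCat
import Groth.Agent.Lib.R2H2IdemRep

/-!
# The Weil restriction of the idempotent classifier along a finite projective algebra is étale
(helper3, round 2)

If `C₀` (over `A`) classifies idempotents and `R` is the Weil restriction of `C₀` along a finite
projective `A`-algebra `B` (property `IsWeil`), then `R` represents the functor of idempotents of
`C ⊗_A B`, hence is isomorphic to helper2's étale algebra; so `A ⟶ R` is étale.
-/

universe u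

set_option linter.style.haveILetI false

open CategoryTheory CategoryTheory.Limits TensorProduct

namespace Groth.Agent.Lib.R2H3.IdemEtAlg

open Groth.Agent.Lib.R2H3.WeilCat

theorem etale_of_isWeil {A B C₀ R D : CommRingCat.{u}} (γ : A ⟶ B) (φ : A ⟶ C₀) (εX : C₀)
    (hproj : letI := γ.hom.toAlgebra
      Module.Finite A B ∧ Module.Projective A B)
    (UP : ∀ (D' : CommRingCat.{u}) (ψ₀ : A ⟶ D') (e : D'), IsIdempotentElem e →
      ∃! ψ : C₀ ⟶ D', φ ≫ ψ = ψ₀ ∧ ψ.hom εX = e)
    (hεX : IsIdempotentElem εX)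
    (ρ : A ⟶ R) (u : R ⟶ D) (v : B ⟶ D) (Φ : C₀ ⟶ D) (po : IsPushout ρ γ u v)
    (hΦ : φ ≫ Φ = γ ≫ v) (hW : IsWeil γ φ ρ u v Φ) :
    ρ.hom.Etale := by
  letI algB : Algebra A B := γ.hom.toAlgebra
  obtain ⟨hfin, hpr⟩ := hproj
  obtain ⟨E, instE, algE, e₀, hEt, he₀, hE⟩ :=
    Groth.Agent.Lib.R2H2.IdemRep.exists_representing A B
  -- the pushout for `E`
  let RE : CommRingCat.{u} := CommRingCat.of E
  let DE : CommRingCat.{u} := CommRingCat.of (E ⊗[A] B)
  let ρE : A ⟶ RE := CommRingCat.ofHom (algebraMap A E)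
  let uE : RE ⟶ DE := CommRingCat.ofHom (S := E ⊗[A] B) Algebra.TensorProduct.includeLeftRingHom
  let vE : B ⟶ DE := CommRingCat.ofHom (S := E ⊗[A] B)
    (Algebra.TensorProduct.includeRight (R := A) (A := E) (B := B)).toRingHom
  have poE : IsPushout ρE γ uE vE := CommRingCat.isPushout_tensorProduct A E B
  -- the pushout for `R`
  letI algR : Algebra A R := ρ.hom.toAlgebra
  let DR : CommRingCat.{u} := CommRingCat.of (R ⊗[A] B)
  let uR : R ⟶ DR := CommRingCat.ofHom (S := R ⊗[A] B) Algebra.TensorProduct.includeLeftRingHom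
  let vR : B ⟶ DR := CommRingCat.ofHom (S := R ⊗[A] B)
    (Algebra.TensorProduct.includeRight (R := A) (A := R) (B := B)).toRingHom
  have poR : IsPushout ρ γ uR vR := CommRingCat.isPushout_tensorProduct A R B
  let j := poR.isoIsPushout _ _ po
  have hj1 : uR ≫ j.hom = u := poR.inl_isoIsPushout_hom _ _ po
  have hj2 : vR ≫ j.hom = v := poR.inr_isoIsPushout_hom _ _ po
  have hjj : ∀ x, j.hom.hom (j.inv.hom x) = x := fun x => by
    change (j.inv ≫ j.hom).hom x = x
    rw [Iso.inv_hom_id]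
    rfl
  -- step 1: the map `R ⟶ E`
  obtain ⟨ψE, ⟨hψE1, hψE2⟩, -⟩ := UP DE (γ ≫ vE) e₀ he₀
  obtain ⟨α, ⟨hα1, m, hm1, hm2, hm3⟩, -⟩ := hW ρE uE vE poE ψE hψE1
  -- step 2: the map `E ⟶ R`
  let eR : R ⊗[A] B := j.inv.hom (Φ.hom εX)
  have heR : IsIdempotentElem eR := by
    change j.inv.hom (Φ.hom εX) * j.inv.hom (Φ.hom εX) = _
    rw [← map_mul, ← map_mul, hεX.eq]
  obtain ⟨β, hβ, -⟩ := hE R eR heR
  let βc : RE ⟶ R := CommRingCat.ofHom β.toRingHom
  have hβc : ρE ≫ βc = ρ := by
    refine CommRingCat.hom_ext (RingHom.ext fun a => ?_)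
    change β (algebraMap A E a) = ρ.hom a
    rw [AlgHom.commutes]
    rfl
  let mβ : DE ⟶ DR :=
    CommRingCat.ofHom (Algebra.TensorProduct.map β (AlgHom.id A B)).toRingHom
  have hmβ1 : uE ≫ mβ = βc ≫ uR := by
    refine CommRingCat.hom_ext (RingHom.ext fun r => ?_)
    change Algebra.TensorProduct.map β (AlgHom.id A B) (r ⊗ₜ 1) = (β r) ⊗ₜ[A] (1 : B)
    rw [Algebra.TensorProduct.map_tmul, map_one]
  have hmβ2 : vE ≫ mβ = vR := by
    refine CommRingCat.hom_ext (RingHom.ext fun b => ?_)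
    change Algebra.TensorProduct.map β (AlgHom.id A B) (1 ⊗ₜ b) = (1 : R) ⊗ₜ[A] b
    rw [Algebra.TensorProduct.map_tmul, map_one]
    rfl
  have hmβ3 : mβ.hom e₀ = eR := hβ
  -- the algebra homomorphism underlying `α`
  let αa : R →ₐ[A] E :=
    { α.hom with
      commutes' := fun a => by
        change (ρ ≫ α).hom a = _
        rw [hα1]
        rfl }
  have hαa : ∀ r, αa r = α.hom r := fun r => rfl
  let mα : DR ⟶ DE :=
    CommRingCat.ofHom (Algebra.TensorProduct.map αa (AlgHom.id A B)).toRingHom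
  have hmα : mα = j.hom ≫ m := by
    apply poR.hom_ext
    · rw [← Category.assoc, hj1, hm1]
      refine CommRingCat.hom_ext (RingHom.ext fun r => ?_)
      change Algebra.TensorProduct.map αa (AlgHom.id A B) (r ⊗ₜ 1) = (α.hom r) ⊗ₜ[A] (1 : B)
      rw [Algebra.TensorProduct.map_tmul, map_one, hαa]
    · rw [← Category.assoc, hj2, hm2]
      refine CommRingCat.hom_ext (RingHom.ext fun b => ?_)
      change Algebra.TensorProduct.map αa (AlgHom.id A B) (1 ⊗ₜ b) = (1 : E) ⊗ₜ[A] b
      rw [Algebra.TensorProduct.map_tmul, map_one]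
      rfl
  -- step 3: `βc ≫ α = 𝟙`
  have h3 : αa.comp β = AlgHom.id A E := by
    obtain ⟨χ, -, hχu⟩ := hE E e₀ he₀
    have h31 : αa.comp β = χ := by
      apply hχu
      have : Algebra.TensorProduct.map (αa.comp β) (AlgHom.id A B) e₀ =
          Algebra.TensorProduct.map αa (AlgHom.id A B)
            (Algebra.TensorProduct.map β (AlgHom.id A B) e₀) := by
        rw [← AlgHom.comp_apply, ← Algebra.TensorProduct.map_comp]
        rfl
      rw [this, hβ]
      change mα.hom eR = e₀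
      rw [hmα]
      change m.hom (j.hom.hom (j.inv.hom (Φ.hom εX))) = e₀
      rw [hjj]
      change (Φ ≫ m).hom εX = e₀
      rw [hm3, hψE2]
    have h32 : AlgHom.id A E = χ := by
      apply hχu
      rw [Algebra.TensorProduct.map_id]
      rfl
    rw [h31, h32]
  -- step 4: `α ≫ βc = 𝟙`
  have h4 : α ≫ βc = 𝟙 R := by
    obtain ⟨χ, -, hχu⟩ := hW ρ u v po Φ hΦ
    have h41 : α ≫ βc = χ := by
      apply hχu
      refine ⟨?_, m ≫ mβ ≫ j.hom, ?_, ?_, ?_⟩
      · rw [← Category.assoc, hα1, hβc]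
      · rw [← Category.assoc, hm1, Category.assoc, ← Category.assoc uE, hmβ1, Category.assoc,
          Category.assoc, hj1]
      · rw [← Category.assoc, hm2, ← Category.assoc, hmβ2, hj2]
      · rw [← Category.assoc, hm3]
        obtain ⟨χ', -, hχ'u⟩ := UP D (γ ≫ v) (Φ.hom εX) (by
          change Φ.hom εX * Φ.hom εX = _
          rw [← map_mul, hεX.eq])
        have h411 : ψE ≫ mβ ≫ j.hom = χ' := by
          apply hχ'u
          refine ⟨?_, ?_⟩
          · rw [← Category.assoc, hψE1, Category.assoc, ← Category.assoc vE, hmβ2, hj2]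
          · change j.hom.hom (mβ.hom (ψE.hom εX)) = _
            rw [hψE2, hmβ3]
            exact hjj _
        have h412 : Φ = χ' := hχ'u Φ ⟨hΦ, rfl⟩
        rw [h411, h412]
    have h42 : 𝟙 R = χ := by
      apply hχu
      refine ⟨Category.comp_id _, 𝟙 D, ?_, Category.comp_id _, Category.comp_id _⟩
      rw [Category.comp_id, Category.id_comp]
    rw [h41, h42]
  -- conclusion
  let eqv : E ≃+* R := RingEquiv.ofRingHom (β : E →+* R) (α.hom : R →+* E)
    (by
      ext x
      change (α ≫ βc).hom x = x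
      rw [h4]
      rfl)
    (by
      ext x
      change αa (β x) = x
      rw [← AlgHom.comp_apply, h3]
      rfl)
  have hρ : ρ.hom = eqv.toRingHom.comp (algebraMap A E) := by
    ext a
    change ρ.hom a = β (algebraMap A E a)
    rw [AlgHom.commutes]
    rfl
  rw [hρ]
  exact RingHom.Etale.respectsIso.1 _ _ (RingHom.etale_algebraMap.2 hEt)

end Groth.Agent.Lib.R2H3.IdemEtAlg
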