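import Mathlib
import Groth.Prelude.Def_Flatn
import Groth.Agent.Lib.R2H3WeilAffP
import Groth.Agent.Lib.R2H3IdemEtAlg
import Groth.Agent.Lib.R2H3IdemClass
import Groth.Agent.S7194
import Groth.Agent.S17079

/-!
# The functor of open-closed subsets of a finite locally free scheme is representable by an étale
affine scheme (helper3, round 2)

For `g : Z ⟶ S` finite locally free and `f : X ⟶ S` a classifier of idempotents
(`IsIdemClassifier`), the functor `Flatn.morS g f` (i.e. `T ↦` idempotents of `Γ(T ×_S Z)`) is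
represented by an `S`-scheme which is étale and affine over `S`.
-/

universe u

set_option linter.style.haveILetI false
set_option linter.unusedSectionVars false

open CategoryTheory CategoryTheory.Limits AlgebraicGeometry Opposite

namespace Groth.Agent.Lib.R2H3.IdemRepGeo

open Groth.Agent.Lib.Helper8MorS Groth.Agent.Lib.R2H3.MorSLocal Groth.Agent.Lib.R2H3.WeilCat
  Groth.Agent.Lib.R2H3.WeilCatP Groth.Agent.Lib.R2H3.WeilAff Groth.Agent.Lib.R2H3.IdemClass

theorem etale_rep_affine {Z X S : Scheme.{u}} [IsAffine Z] [IsAffine X] [IsAffine S]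
    (g : Z ⟶ S) (f : X ⟶ S)
    (hproj : letI := (g.appTop).hom.toAlgebra
      Module.Finite Γ(S, ⊤) Γ(Z, ⊤) ∧ Module.Projective Γ(S, ⊤) Γ(Z, ⊤))
    (εX : Γ(X, ⊤)) (hX : IsIdemClassifier f εX) :
    ∃ W : Over S, Etale W.hom ∧ Nonempty ((Flatn.morS g f).RepresentableBy W) := by
  obtain ⟨R, D, ρ, u, v, Φ, po, hΦ, hW⟩ := exists_isWeil_proj g.appTop f.appTop hproj
  have hρet : ρ.hom.Etale :=
    Groth.Agent.Lib.R2H3.IdemEtAlg.etale_of_isWeil g.appTop f.appTop εX hproj
      (fun D' ψ₀ e he => hX.ringUP D' ψ₀ e he) hX.idem ρ u v Φ po hΦ hW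
  let W : Over S := Over.mk (Spec.map ρ ≫ S.isoSpec.inv)
  haveI : IsAffine W.left := inferInstanceAs (IsAffine (Spec R))
  let i : R ≅ Γ(Spec R, ⊤) := (Scheme.ΓSpecIso R).symm
  have hρ : ρ ≫ i.hom = W.hom.appTop := by
    change ρ ≫ (Scheme.ΓSpecIso R).inv = (Spec.map ρ ≫ S.isoSpec.inv).appTop
    rw [Iso.comp_inv_eq, Scheme.Hom.comp_appTop, Category.assoc, Scheme.ΓSpecIso_naturality,
      ← Category.assoc, isoSpec_inv_appTop, Category.id_comp]
  obtain ⟨Φ', hΦ', hW'⟩ := hW.transport po hΦ i (po_T g W) hρ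
  refine ⟨W, ?_, representable_of_isWeil g f W Φ' hΦ' hW'⟩
  haveI : Etale (Spec.map ρ) := (HasRingHomProperty.Spec_iff (P := @Etale)).2 hρet
  change Etale (Spec.map ρ ≫ S.isoSpec.inv)
  infer_instance

theorem exists_etale_rep {Z X S : Scheme.{u}} (g : Z ⟶ S) [IsFinite g] [Flat g]
    [LocallyOfFinitePresentation g] (f : X ⟶ S) [IsAffineHom f] (εX : Γ(X, ⊤))
    (hX : IsIdemClassifier f εX) :
    ∃ W : Over S, Etale W.hom ∧ IsAffineHom W.hom ∧
      Nonempty ((Flatn.morS g f).RepresentableBy W) := by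
  obtain ⟨W, hWaff, ⟨r⟩⟩ := Groth.Agent.S7194.result g f ⟨inferInstance, inferInstance, inferInstance⟩
  refine ⟨W, ?_, hWaff, ⟨r⟩⟩
  refine IsZariskiLocalAtTarget.of_openCover (P := @Etale) S.affineCover (fun k => ?_)
  let h := S.affineCover.f k
  change Etale (pullback.snd W.hom h)
  have : IsAffine (S.affineCover.X k) := inferInstanceAs (IsAffine (Spec _))
  have : IsAffine (pullback g h) := isAffine_of_isAffineHom (pullback.snd g h)
  have : IsAffine (pullback f h) := isAffine_of_isAffineHom (pullback.snd f h)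
  obtain ⟨r₁⟩ := Groth.Agent.S17079.result g f h W r
  obtain ⟨W₂, hW₂, ⟨r₂⟩⟩ := etale_rep_affine (pullback.snd g h) (pullback.snd f h)
    (Groth.Agent.Lib.R2H3.WeilAffP.finite_projective_appTop (pullback.snd g h))
    ((pullback.fst f h).appTop.hom εX) (hX.baseChange h)
  let e : Over.mk (pullback.snd W.hom h) ≅ W₂ := r₁.uniqueUpToIso r₂
  have he : pullback.snd W.hom h = e.hom.left ≫ W₂.hom := (Over.w e.hom).symm
  have : IsIso e.hom.left := (Over.forget _).map_isIso e.hom
  rw [he]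
  infer_instance

end Groth.Agent.Lib.R2H3.IdemRepGeo
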