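import Mathlib
import Groth.Prelude.Def_Flatn
import Groth.Agent.Lib.Helper8MorS
import Groth.Agent.Lib.R2H3IdemClass
import Groth.Agent.Lib.R2H3IdemClopen

/-!
# Sections of `morS g f` for an idempotent classifier `f` are open-closed subsets (helper3, round 2)

For `f : X ⟶ S` classifying idempotents (`IsIdemClassifier f εX`), the sections of `Flatn.morS g f`
over `T` correspond bijectively and naturally to the open-closed subsets of `T ×_S Z`.
-/

universe u

open CategoryTheory CategoryTheory.Limits AlgebraicGeometry Opposite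

namespace Groth.Agent.Lib.R2H3.IdemTheta

open Groth.Agent.Lib.Helper8MorS Groth.Agent.Lib.R2H3.IdemClass Groth.Agent.Lib.R2H3.IdemClopen

lemma preimage_preimage_eq {A B : Scheme.{u}} (p : A ⟶ B) (q : B ⟶ A) (h : p ≫ q = 𝟙 A)
    (s : Set ↥A) : p.base ⁻¹' (q.base ⁻¹' s) = s := by
  ext x
  have h1 : q.base (p.base x) = x := by
    have := congrArg (fun k : A ⟶ A => k.base x) h
    simpa using this
  simp only [Set.mem_preimage, h1]

variable {Z X S : Scheme.{u}} (g : Z ⟶ S) (f : X ⟶ S) (εX : Γ(X, ⊤))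

/-- the idempotent of `Γ(T ×_S Z)` given by a section of `morS g f` over `T`. -/
noncomputable def idemOf {T : Over S} (b : (Flatn.morS g f).obj (op T)) :
    Γ(pullback T.hom g, ⊤) :=
  (b : PT g T ⟶ Over.mk f).left.appTop.hom εX

/-- the open-closed subset of `T ×_S Z` given by a section of `morS g f` over `T`. -/
noncomputable def theta {T : Over S} (b : (Flatn.morS g f).obj (op T)) :
    Set ↥(pullback T.hom g) :=
  ((pullback T.hom g).basicOpen (idemOf g f εX b) : Set ↥(pullback T.hom g))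

variable {g f εX}

lemma idemOf_isIdem (hX : IsIdemClassifier f εX) {T : Over S} (b : (Flatn.morS g f).obj (op T)) :
    IsIdempotentElem (idemOf g f εX b) := by
  change (b : PT g T ⟶ Over.mk f).left.appTop.hom εX * (b : PT g T ⟶ Over.mk f).left.appTop.hom εX = _
  rw [← map_mul, hX.idem.eq]
  rfl

lemma isClopen_theta (hX : IsIdemClassifier f εX) {T : Over S} (b : (Flatn.morS g f).obj (op T)) :
    IsClopen (theta g f εX b) :=
  isClopen_basicOpen _ (idemOf_isIdem hX b)

lemma theta_injective (hX : IsIdemClassifier f εX) {T : Over S} (b b' : (Flatn.morS g f).obj (op T))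
    (h : theta g f εX b = theta g f εX b') : b = b' := by
  have h1 : idemOf g f εX b = idemOf g f εX b' :=
    eq_of_basicOpen_eq _ _ (idemOf_isIdem hX b) (idemOf_isIdem hX b') h
  obtain ⟨m, -, hmu⟩ := hX.existsUnique _ (pullback.snd T.hom g ≫ g) (idemOf g f εX b)
    (idemOf_isIdem hX b)
  have h2 : (b : PT g T ⟶ Over.mk f).left = m := hmu _ ⟨Over.w (b : PT g T ⟶ Over.mk f), rfl⟩
  have h3 : (b' : PT g T ⟶ Over.mk f).left = m :=
    hmu _ ⟨Over.w (b' : PT g T ⟶ Over.mk f), h1.symm⟩
  exact Over.OverMorphism.ext (h2.trans h3.symm)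

lemma exists_theta_eq (hX : IsIdemClassifier f εX) {T : Over S} (U : Set ↥(pullback T.hom g))
    (hU : IsClopen U) : ∃ b : (Flatn.morS g f).obj (op T), theta g f εX b = U := by
  obtain ⟨e, he, heU⟩ := exists_idem_of_isClopen U hU
  obtain ⟨m, ⟨hm1, hm2⟩, -⟩ := hX.existsUnique _ (pullback.snd T.hom g ≫ g) e he
  let b : PT g T ⟶ Over.mk f := Over.homMk m hm1
  refine ⟨b, ?_⟩
  change ((pullback T.hom g).basicOpen (m.appTop.hom εX) : Set ↥(pullback T.hom g)) = U
  rw [hm2, heU]

lemma idemOf_map {T' T : Over S} (φ : T' ⟶ T) (b : (Flatn.morS g f).obj (op T)) :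
    idemOf g f εX ((Flatn.morS g f).map φ.op b) = (PTl g φ).appTop.hom (idemOf g f εX b) := by
  change (PTl g φ ≫ (b : PT g T ⟶ Over.mk f).left).appTop.hom εX = _
  rw [Scheme.Hom.comp_appTop]
  rfl

lemma theta_map {T' T : Over S} (φ : T' ⟶ T) (b : (Flatn.morS g f).obj (op T)) :
    theta g f εX ((Flatn.morS g f).map φ.op b) = (PTl g φ).base ⁻¹' (theta g f εX b) := by
  unfold theta
  rw [idemOf_map, ← Scheme.preimage_basicOpen_top]
  rfl

end Groth.Agent.Lib.R2H3.IdemTheta
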