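import Mathlib
import Groth.Agent.Lib.Helper18OmLS8

/-!
# Kähler differentials of a tensor product over the base (helper3, round 2)

For `R = B ⊗[A] C` (`Algebra.IsPushout A B C R`) the canonical map
`(R ⊗[B] Ω[B⁄A]) × (R ⊗[C] Ω[C⁄A]) → Ω[R⁄A]` is bijective.
-/

set_option autoImplicit false
universe u
open TensorProduct KaehlerDifferential

namespace Groth.Agent.Lib.R2H3.KaehlerPushout

variable (A B C R : Type u) [CommRing A] [CommRing B] [CommRing C] [CommRing R]
  [Algebra A B] [Algebra A C] [Algebra B R] [Algebra C R] [Algebra A R]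
  [IsScalarTower A B R] [IsScalarTower A C R]

theorem map_comp_mapBaseChange_eq_zero :
    (KaehlerDifferential.map A B R R).comp
      ((KaehlerDifferential.mapBaseChange A B R).restrictScalars R) = 0 := by
  refine Groth.Agent.Helper18OmLS.tensor_kaehler_ext _ _ fun b => ?_
  simp

theorem map_comp_mapBaseChange_eq_equiv [Algebra.IsPushout A B C R] :
    (KaehlerDifferential.map A B R R).comp
      ((KaehlerDifferential.mapBaseChange A C R).restrictScalars R) =
      (KaehlerDifferential.tensorKaehlerEquiv A B C R).toLinearMap := by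
  refine Groth.Agent.Helper18OmLS.tensor_kaehler_ext _ _ fun c => ?_
  simp [KaehlerDifferential.tensorKaehlerEquiv_tmul_D]

theorem bijective_coprod_mapBaseChange [h : Algebra.IsPushout A B C R] :
    Function.Bijective (fun x : (R ⊗[B] Ω[B⁄A]) × (R ⊗[C] Ω[C⁄A]) =>
      KaehlerDifferential.mapBaseChange A B R x.1 + KaehlerDifferential.mapBaseChange A C R x.2) := by
  haveI : Algebra.IsPushout A C B R := h.symm
  have hB0 : ∀ u, KaehlerDifferential.map A B R R (KaehlerDifferential.mapBaseChange A B R u) = 0 :=
    fun u => LinearMap.congr_fun (map_comp_mapBaseChange_eq_zero A B R) u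
  have hC0 : ∀ t, KaehlerDifferential.map A C R R (KaehlerDifferential.mapBaseChange A C R t) = 0 :=
    fun t => LinearMap.congr_fun (map_comp_mapBaseChange_eq_zero A C R) t
  have hBe : ∀ t, KaehlerDifferential.map A B R R (KaehlerDifferential.mapBaseChange A C R t) =
      KaehlerDifferential.tensorKaehlerEquiv A B C R t :=
    fun t => LinearMap.congr_fun (map_comp_mapBaseChange_eq_equiv A B C R) t
  have hCe : ∀ u, KaehlerDifferential.map A C R R (KaehlerDifferential.mapBaseChange A B R u) =
      KaehlerDifferential.tensorKaehlerEquiv A C B R u :=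
    fun u => LinearMap.congr_fun (map_comp_mapBaseChange_eq_equiv A C B R) u
  constructor
  · rintro ⟨u, t⟩ ⟨u', t'⟩ hxy
    simp only at hxy
    have h1 := congrArg (KaehlerDifferential.map A B R R) hxy
    rw [map_add, map_add, hB0, hB0, zero_add, zero_add, hBe, hBe] at h1
    have h2 := congrArg (KaehlerDifferential.map A C R R) hxy
    rw [map_add, map_add, hC0, hC0, add_zero, add_zero, hCe, hCe] at h2
    rw [(KaehlerDifferential.tensorKaehlerEquiv A B C R).injective h1,
      (KaehlerDifferential.tensorKaehlerEquiv A C B R).injective h2]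
  · intro ω
    let t := (KaehlerDifferential.tensorKaehlerEquiv A B C R).symm (KaehlerDifferential.map A B R R ω)
    have h1 : KaehlerDifferential.map A B R R (ω - KaehlerDifferential.mapBaseChange A C R t) = 0 := by
      rw [map_sub, hBe, LinearEquiv.apply_symm_apply, sub_self]
    obtain ⟨u, hu⟩ := (KaehlerDifferential.exact_mapBaseChange_map A B R _).mp h1
    refine ⟨(u, t), ?_⟩
    simp only
    rw [hu, sub_add_cancel]

end Groth.Agent.Lib.R2H3.KaehlerPushout
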