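import Groth.Agent.Lib.R2H3TorusQuot
import Groth.Agent.Lib.Helper11SubGrp

/-!
# The kernel of a homomorphism from a diagonalisable group to a group of multiplicative type

* `kerObj f`, `kerι f`: the kernel of a homomorphism of group objects, with its group structure.
* `isMultTypeFT_ker`: the kernel of a homomorphism `D_S(M) ⟶ G`, with `M` finitely generated and
  `G` of multiplicative type and of finite type, is of multiplicative type and of finite type.
-/

set_option autoImplicit false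
universe v u₁ u

open CategoryTheory MonoidalCategory CartesianMonoidalCategory MonObj GrpObj AlgebraicGeometry
  CategoryTheory.Limits

namespace Groth.Agent.Lib.R2H3.KerDiag

section Ker

variable {C : Type u₁} [Category.{v} C] [CartesianMonoidalCategory C] [HasPullbacks C]
  {D G : C} [GrpObj D] [GrpObj G] (f : D ⟶ G) [IsMonHom f]

/-- the kernel of a homomorphism of group objects. -/
noncomputable def kerObj : C := pullback f η[G]

/-- the inclusion of the kernel. -/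
noncomputable def kerι : kerObj f ⟶ D := pullback.fst f η[G]

omit [IsMonHom f] [GrpObj D] in
lemma mono_unit : Mono η[G] := by
  haveI : IsSplitMono η[G] := ⟨⟨⟨toUnit G, toUnit_unique _ _⟩⟩⟩
  infer_instance

omit [IsMonHom f] [GrpObj D] in
instance mono_kerι : Mono (kerι f) := by
  haveI := mono_unit (G := G)
  exact inferInstanceAs (Mono (pullback.fst f η[G]))

omit [IsMonHom f] [GrpObj D] in
lemma kerι_comp : kerι f ≫ f = 1 := by
  change pullback.fst f η[G] ≫ f = 1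
  rw [pullback.condition, Hom.one_def]
  congr 1
  exact toUnit_unique _ _

omit [IsMonHom f] [GrpObj D] in
lemma exists_lift_iff (T : C) (g : T ⟶ D) : (∃ z : T ⟶ kerObj f, z ≫ kerι f = g) ↔ g ≫ f = 1 := by
  constructor
  · rintro ⟨z, rfl⟩
    rw [Category.assoc, kerι_comp, MonObj.comp_one]
  · intro h
    have h2 : g ≫ f = toUnit T ≫ η[G] := by rw [h, Hom.one_def]
    exact ⟨pullback.lift g (toUnit T) h2, pullback.lift_fst _ _ _⟩

theorem exists_grpObj_ker : ∃ _ : GrpObj (kerObj f), IsMonHom (kerι f) := by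
  refine Groth.Agent.Lib.Helper11SubGrp.exists_grpObj_of_pred (kerι f)
    (fun T g => g ≫ f = 1) (exists_lift_iff f) ?_ ?_ ?_
  · exact MonObj.one_comp f
  · intro T a b ha hb
    rw [MonObj.mul_comp, ha, hb, _root_.mul_one]
  · intro T a ha
    rw [GrpObj.inv_comp, ha, inv_one]

noncomputable instance grpObj_ker : GrpObj (kerObj f) := (exists_grpObj_ker f).choose

instance isMonHom_kerι : IsMonHom (kerι f) := (exists_grpObj_ker f).choose_spec

end Ker

open Groth.Agent.Lib.H6xDSPts Groth.Agent.Lib.R2H3.MultAct Groth.Agent.Lib.R2H3.MultHom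
  Groth.Agent.Lib.R2H3.FpqcLocal Groth.Agent.Lib.R2H3.EqLocus Groth.Agent.Lib.R2H3.FactorMono
  Groth.Agent.Lib.R2H3.SubDesc Groth.Agent.Lib.R2H3.HomFinEt Groth.Agent.Lib.R2H3.OverBc
  Groth.Agent.Lib.R2H3.QuotBC Groth.Agent.Lib.R2H3.DSQuot Groth.Agent.Lib.R2H3.SubDiag
  Groth.Agent.Lib.R2H3.TorusQuot

section Local

variable {S : Scheme.{u}} {M : Type} [AddCommGroup M] {G : Over S} [GrpObj G]
  (f : Red.DS S M ⟶ G) [IsMonHom f]
  {U : Scheme.{u}} (t : U ⟶ S) {M' : Type} [AddCommGroup M']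
  (eG : Grp.mk (Red.bc t G) ≅ Grp.mk (Red.DS U M'))

/-- the points of the kernel are killed by the homomorphism of diagonalisable groups. -/
lemma ker_comp_vOf (Y : Over U) (h₁ : Y ⟶ Red.bc t (kerObj f)) :
    (h₁ ≫ (Over.pullback t).map (kerι f) ≫ (bcDSIso t M).hom.hom.hom) ≫
      vOf f t (bcDSIso t M) eG = 1 := by
  have e1 : (bcDSIso t M).hom.hom.hom ≫ (bcDSIso t M).inv.hom.hom = 𝟙 _ := by
    rw [← Grp.comp_hom_hom, Iso.hom_inv_id, Grp.id_hom_hom]
  have h1 : h₁ ≫ (Over.pullback t).map (kerι f) ≫ (Over.pullback t).map f = 1 := by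
    apply (adjE t G Y).injective
    rw [← Category.assoc, adjE_comp_map₀, adjE_comp_map₀, Category.assoc, kerι_comp,
      MonObj.comp_one, adjE_one]
  unfold vOf
  simp only [Category.assoc]
  rw [reassoc_of% e1, reassoc_of% h1, MonObj.one_comp]

/-- the points killed by the homomorphism of diagonalisable groups come from the kernel. -/
lemma exists_ker_of_comp_vOf (Y : Over U) (z : Y ⟶ Red.bc t (Red.DS S M))
    (hz : (z ≫ (bcDSIso t M).hom.hom.hom) ≫ vOf f t (bcDSIso t M) eG = 1) :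
    ∃ h₁ : Y ⟶ Red.bc t (kerObj f), h₁ ≫ (Over.pullback t).map (kerι f) = z := by
  have e1 : (bcDSIso t M).hom.hom.hom ≫ (bcDSIso t M).inv.hom.hom = 𝟙 _ := by
    rw [← Grp.comp_hom_hom, Iso.hom_inv_id, Grp.id_hom_hom]
  have e2 : eG.hom.hom.hom ≫ eG.inv.hom.hom = 𝟙 _ := by
    rw [← Grp.comp_hom_hom, Iso.hom_inv_id, Grp.id_hom_hom]
  have h1 : z ≫ (Over.pullback t).map f = 1 := by
    unfold vOf at hz
    simp only [Category.assoc] at hz
    rw [reassoc_of% e1] at hz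
    have h2 := congrArg (fun k => k ≫ eG.inv.hom.hom) hz
    simp only [Category.assoc, e2, Category.comp_id, MonObj.one_comp] at h2
    exact h2
  have h3 : adjE t (Red.DS S M) Y z ≫ f = 1 := by
    rw [← adjE_comp_map₀, h1, adjE_one]
  obtain ⟨w', hw'⟩ := (exists_lift_iff f _ _).mpr h3
  refine ⟨(adjE t (kerObj f) Y).symm w', ?_⟩
  apply (adjE t (Red.DS S M) Y).injective
  rw [adjE_comp_map₀, Equiv.apply_symm_apply, hw']

/-- **Local structure of the kernel**: over the open and closed subset where the homomorphism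
is `D(φ)`, the kernel is `D(M/φ(M'))`. -/
theorem sameSub_ker (φ : M' →+ M) {T' : Scheme.{u}} (a : T' ⟶ U)
    (ha : ∀ y : T', a y ∈ Wphi (vOf f t (bcDSIso t M) eG) φ) :
    SameSub (kerι f) (Red.DSmap S (QuotientAddGroup.mk' φ.range)) T' (a ≫ t) := by
  have e1 : (bcDSIso t M).hom.hom.hom ≫ (bcDSIso t M).inv.hom.hom = 𝟙 _ := by
    rw [← Grp.comp_hom_hom, Iso.hom_inv_id, Grp.id_hom_hom]
  have e2 : (bcDSIso t (M ⧸ φ.range)).inv.hom.hom ≫ (bcDSIso t (M ⧸ φ.range)).hom.hom.hom =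
      𝟙 _ := by
    rw [← Grp.comp_hom_hom, Iso.inv_hom_id, Grp.id_hom_hom]
  have e3 : (bcDSIso t (M ⧸ φ.range)).hom.hom.hom ≫ (bcDSIso t (M ⧸ φ.range)).inv.hom.hom =
      𝟙 _ := by
    rw [← Grp.comp_hom_hom, Iso.hom_inv_id, Grp.id_hom_hom]
  have hnat' : (bcDSIso t (M ⧸ φ.range)).inv.hom.hom ≫ (Over.pullback t).map
      (Red.DSmap S (QuotientAddGroup.mk' φ.range)) =
      Red.DSmap U (QuotientAddGroup.mk' φ.range) ≫ (bcDSIso t M).inv.hom.hom :=
    conj_of_comm _ _ _ _ _ _ e2 e1 (bcDSIso_DSmap t (QuotientAddGroup.mk' φ.range))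
  have hY : ∀ (Y : Over U) (b : Y.left ⟶ T'), b ≫ a = Y.hom →
      ∀ p : Y.left, Y.hom p ∈ Wphi (vOf f t (bcDSIso t M) eG) φ := by
    intro Y b hb p
    rw [← hb, Scheme.Hom.comp_apply]
    exact ha _
  constructor
  · rw [fac_iff_facPt]
    refine facPt_of_ptLoc (kerι f) (Red.DSmap S (QuotientAddGroup.mk' φ.range)) t (𝟙 _) (𝟙 _)
      (bcDSIso t (M ⧸ φ.range)).inv.hom.hom (Category.id_comp _) a ?_
    intro Y b hb h₁
    obtain ⟨y, hy⟩ : ∃ y : Y ⟶ Red.DS U M,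
        y = h₁ ≫ (Over.pullback t).map (kerι f) ≫ (bcDSIso t M).hom.hom.hom := ⟨_, rfl⟩
    have h1 : y ≫ vOf f t (bcDSIso t M) eG = 1 := by
      rw [hy]
      exact ker_comp_vOf f t eG Y h₁
    rw [comp_eq_of_mem_Wphi _ φ Y (hY Y b hb) y] at h1
    have h2 : y ≫ Red.DSmap U φ.range.subtype = 1 := by
      apply dsFn_ext
      rintro ⟨n, m', rfl⟩
      rw [dsFn_DSmap, dsFn_one]
      change dsFn y (φ m') = 1
      rw [← dsFn_DSmap, h1, dsFn_one]
    obtain ⟨h₂, hh₂⟩ := exists_lift_of_comp_eq_one φ.range y h2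
    refine ⟨h₂, ?_⟩
    rw [hnat', reassoc_of% hh₂, hy]
    simp only [Category.assoc, Category.id_comp]
    rw [e1, Category.comp_id]
  · rw [fac_iff_facPt]
    refine facPt_of_ptLoc (Red.DSmap S (QuotientAddGroup.mk' φ.range)) (kerι f) t
      (bcDSIso t (M ⧸ φ.range)).inv.hom.hom (bcDSIso t (M ⧸ φ.range)).hom.hom.hom (𝟙 _) e3 a ?_
    intro Y b hb h₁
    have h1 : ((h₁ ≫ (bcDSIso t (M ⧸ φ.range)).inv.hom.hom ≫ (Over.pullback t).map
        (Red.DSmap S (QuotientAddGroup.mk' φ.range))) ≫ (bcDSIso t M).hom.hom.hom) ≫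
        vOf f t (bcDSIso t M) eG = 1 := by
      have e4 : (bcDSIso t M).inv.hom.hom ≫ (bcDSIso t M).hom.hom.hom = 𝟙 _ := by
        rw [← Grp.comp_hom_hom, Iso.inv_hom_id, Grp.id_hom_hom]
      rw [hnat']
      simp only [Category.assoc]
      rw [reassoc_of% e4, ← Category.assoc,
        comp_eq_of_mem_Wphi _ φ Y (hY Y b hb) (h₁ ≫ Red.DSmap U (QuotientAddGroup.mk' φ.range)),
        Category.assoc, DSmap_comp]
      have h0 : (QuotientAddGroup.mk' φ.range).comp φ = 0 := by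
        ext m'
        simp
      rw [h0]
      exact Groth.Agent.Lib.R2H3.TrivFibre.comp_DSmap_zero _
    obtain ⟨h₂, hh₂⟩ := exists_ker_of_comp_vOf f t eG Y _ h1
    exact ⟨h₂, by rw [Category.id_comp, hh₂]⟩

end Local

section Main

variable {S : Scheme.{u}} {M : Type} [AddCommGroup M] {G : Over S} [GrpObj G]
  (f : Red.DS S M ⟶ G) [IsMonHom f]

/-- **The kernel of a homomorphism from a diagonalisable group to a group of multiplicative type
and of finite type is of multiplicative type and of finite type.** -/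
theorem isMultTypeFT_ker (hM : AddGroup.FG M) (hG : SGA3x.IsMultTypeFT G) :
    SGA3x.IsMultTypeFT (kerObj f) := by
  classical
  obtain ⟨S', π, hfl, hsurj, hcov, hloc⟩ := hG
  refine ⟨S', π, hfl, hsurj, hcov, fun s' => ?_⟩
  obtain ⟨U, hU, M', _, hfg, ⟨eG⟩⟩ := hloc s'
  haveI : AddGroup.FG M' := hfg
  -- the homomorphism of character groups at the point
  obtain ⟨φ, hφ⟩ : ∃ φ : M' →+ M, φ = AddMonoidHom.toMultiplicative.symm
      (phiAt (vOf f (U.ι ≫ π) (bcDSIso (U.ι ≫ π) M) eG) ⟨s', hU⟩) := ⟨_, rfl⟩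
  have hclopen := isClopen_Wphi (vOf f (U.ι ≫ π) (bcDSIso (U.ι ≫ π) M) eG) φ
  obtain ⟨W₀, hW₀⟩ : ∃ W₀ : (U : Scheme.{u}).Opens,
      (W₀ : Set U) = Wphi (vOf f (U.ι ≫ π) (bcDSIso (U.ι ≫ π) M) eG) φ :=
    ⟨⟨_, hclopen.2⟩, rfl⟩
  have hxW₀ : (⟨s', hU⟩ : U) ∈ W₀ := by
    change (⟨s', hU⟩ : U) ∈ (W₀ : Set U)
    rw [hW₀, hφ]
    exact mem_Wphi_phiAt _ _
  -- the open neighbourhood
  refine ⟨U.ι ''ᵁ W₀, ⟨⟨s', hU⟩, hxW₀, rfl⟩, M ⧸ φ.range, inferInstance,
    fg_quotient hM φ.range, ?_⟩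
  have hrange : Set.range (U.ι ''ᵁ W₀).ι ⊆ Set.range U.ι := by
    rw [Scheme.Opens.range_ι, Scheme.Opens.range_ι]
    rintro _ ⟨x, -, rfl⟩
    exact x.2
  obtain ⟨a, ha⟩ : ∃ a : ((U.ι ''ᵁ W₀ : S'.Opens) : Scheme.{u}) ⟶ (U : Scheme.{u}),
      a ≫ U.ι = (U.ι ''ᵁ W₀).ι := ⟨IsOpenImmersion.lift U.ι _ hrange, IsOpenImmersion.lift_fac _ _ _⟩
  have har : ∀ v, a v ∈ Wphi (vOf f (U.ι ≫ π) (bcDSIso (U.ι ≫ π) M) eG) φ := by
    intro v
    obtain ⟨x, hx, hxv⟩ := v.2
    have h1 : U.ι (a v) = U.ι x := by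
      rw [← Scheme.Hom.comp_apply, ha]
      exact hxv.symm
    have h2 : a v = x := U.ι.isOpenEmbedding.injective h1
    rw [h2, ← hW₀]
    exact hx
  have hs := sameSub_ker f (U.ι ≫ π) eG φ a har
  haveI := mono_DSmap_mk (S := S) φ.range
  obtain ⟨ψ, hψ⟩ := exists_iso_of_fac (kerι f) (Red.DSmap S (QuotientAddGroup.mk' φ.range))
    (a ≫ U.ι ≫ π) hs.1 hs.2
  haveI : IsMonHom ((Over.pullback (a ≫ U.ι ≫ π)).map (kerι f)) :=
    Functor.map.instIsMonHom (F := Over.pullback (a ≫ U.ι ≫ π)) (f := kerι f)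
  haveI : IsMonHom ((Over.pullback (a ≫ U.ι ≫ π)).map
      (Red.DSmap S (QuotientAddGroup.mk' φ.range))) :=
    Functor.map.instIsMonHom (F := Over.pullback (a ≫ U.ι ≫ π))
      (f := Red.DSmap S (QuotientAddGroup.mk' φ.range))
  haveI : Mono ((Over.pullback (a ≫ U.ι ≫ π)).map
      (Red.DSmap S (QuotientAddGroup.mk' φ.range))) := inferInstance
  have hmon := Groth.Agent.Lib.R2H3.CentralDescent.isMonHom_of_forall_mul
    (X := Red.bc (a ≫ U.ι ≫ π) (kerObj f))
    (Y := Red.bc (a ≫ U.ι ≫ π) (Red.DS S (M ⧸ φ.range))) ψ.hom (by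
    intro T x y
    rw [← cancel_mono ((Over.pullback (a ≫ U.ι ≫ π)).map
      (Red.DSmap S (QuotientAddGroup.mk' φ.range))), Category.assoc, hψ, MonObj.mul_comp,
      MonObj.mul_comp, Category.assoc, Category.assoc, hψ])
  haveI := hmon
  exact ⟨bcCongrIso (by rw [← Category.assoc, ha]) (kerObj f) ≪≫ Grp.mkIso' ψ ≪≫
    bcDSIso (a ≫ U.ι ≫ π) (M ⧸ φ.range)⟩

end Main

end Groth.Agent.Lib.R2H3.KerDiag
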