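import Mathlib
import Groth.Prelude.Def_LCI2
import Groth.Agent.Lib.H9KoszulH1
import Groth.Agent.S2103

/-!
# The conormal module of a Koszul-regular ideal is finite projective

* `mem_of_sum_mem_sq`: degree one quasi-regularity, for an `H_1`-regular family.
* `free_localizedModule`: a criterion for `M_g` to be finite free over `S_g`.
* `exists_local_data`: local generators of a Koszul-regular ideal, in elementary form.
* `cotangent_finite_projective`: for an extension `P` of `S` whose kernel is a Koszul-regular ideal,
  `P.Cotangent` is a finite projective `S`-module.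
-/

set_option autoImplicit false
set_option linter.style.haveILetI false
set_option linter.unusedVariables false
set_option linter.unusedSectionVars false
universe u

namespace Groth.Agent.Lib.R2H3.KzCotProj

open Algebra

section QR

variable {R : Type u} [CommRing R] {c : ℕ} (f : Fin c → R)

/-- degree one part of quasi-regularity -/
theorem mem_of_sum_mem_sq (hf : CAlgX.IsH1Regular f) (r : Fin c → R)
    (h : ∑ j, r j * f j ∈ Ideal.span (Set.range f) ^ 2) (j : Fin c) :
    r j ∈ Ideal.span (Set.range f) := by
  classical
  have hq := Groth.Agent.S2103.result f hf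
  set Q : MvPolynomial (Fin c) R := ∑ i, MvPolynomial.C (r i) * MvPolynomial.X i with hQ
  have hhom : Q.IsHomogeneous 1 := by
    rw [hQ]
    apply MvPolynomial.IsHomogeneous.sum
    intro i _
    have := (MvPolynomial.isHomogeneous_C (Fin c) (r i)).mul (MvPolynomial.isHomogeneous_X R i)
    simpa using this
  have hev : MvPolynomial.eval f Q = ∑ i, r i * f i := by
    rw [hQ, map_sum]
    refine Finset.sum_congr rfl fun i _ => ?_
    rw [map_mul, MvPolynomial.eval_C, MvPolynomial.eval_X]
  have := hq 1 Q hhom (by rw [hev]; exact h) (Finsupp.single j 1)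
  have hc : Q.coeff (Finsupp.single j 1) = r j := by
    rw [hQ, MvPolynomial.coeff_sum]
    rw [Finset.sum_eq_single j]
    · rw [MvPolynomial.coeff_C_mul, MvPolynomial.coeff_X, if_pos rfl, mul_one]
    · intro i _ hij
      rw [MvPolynomial.coeff_C_mul, MvPolynomial.coeff_X, if_neg, mul_zero]
      intro h'
      exact hij (Finsupp.single_left_injective one_ne_zero h')
    · intro h'
      exact absurd (Finset.mem_univ j) h'
  rwa [hc] at this

end QR

section Free

variable {S : Type u} [CommRing S] {M : Type*} [AddCommGroup M] [Module S M] (g : S)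
  {c : ℕ} (e : Fin c → M)

/-- A criterion for the localization `M_g` to be free of finite rank over `S_g`. -/
theorem free_localizedModule
    (hspan : ∀ m : M, ∃ N : ℕ, g ^ N • m ∈ Submodule.span S (Set.range e))
    (hind : ∀ s : Fin c → S, (∃ N : ℕ, g ^ N • ∑ j, s j • e j = 0) → ∀ j, ∃ N : ℕ, g ^ N * s j = 0) :
    Module.Free (Localization.Away g) (LocalizedModule (Submonoid.powers g) M) ∧
      Module.Finite (Localization.Away g) (LocalizedModule (Submonoid.powers g) M) := by
  classical
  set v : Fin c → LocalizedModule (Submonoid.powers g) M :=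
    fun j => LocalizedModule.mkLinearMap (Submonoid.powers g) M (e j) with hv
  have hli : LinearIndependent (Localization.Away g) v := by
    rw [Fintype.linearIndependent_iff]
    intro c' hc' j
    obtain ⟨b, hb⟩ := IsLocalization.exist_integer_multiples (Submonoid.powers g)
      (Finset.univ : Finset (Fin c)) c'
    choose s hs using fun j => hb j (Finset.mem_univ j)
    -- `hs j : algebraMap s j = b • c' j`
    have h1 : LocalizedModule.mkLinearMap (Submonoid.powers g) M (∑ j, s j • e j) = 0 := by
      rw [map_sum]
      have : ∀ j, LocalizedModule.mkLinearMap (Submonoid.powers g) M (s j • e j) =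
          (b : S) • (c' j • v j) := by
        intro j
        rw [map_smul, ← algebraMap_smul (Localization.Away g) (s j), hs j, hv]
        simp only [Algebra.smul_def, mul_smul, algebraMap_smul]
      simp_rw [this]
      rw [← Finset.smul_sum, hc', smul_zero]
    obtain ⟨u, hu⟩ := (IsLocalizedModule.eq_zero_iff (Submonoid.powers g)
      (LocalizedModule.mkLinearMap (Submonoid.powers g) M)).mp h1
    obtain ⟨N, hN⟩ := u.2
    have hN2 : g ^ N = (u : S) := hN
    obtain ⟨N', hN'⟩ := hind s ⟨N, by rw [hN2]; exact hu⟩ j
    have h2 : algebraMap S (Localization.Away g) (s j) = 0 := by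
      rw [IsLocalization.map_eq_zero_iff (Submonoid.powers g)]
      exact ⟨⟨g ^ N', N', rfl⟩, hN'⟩
    have h3 := hs j
    rw [h2] at h3
    have hbu : IsUnit (algebraMap S (Localization.Away g) (b : S)) :=
      IsLocalization.map_units _ b
    rw [Algebra.smul_def] at h3
    exact (hbu.mul_right_eq_zero).mp h3.symm
  have hsp : ⊤ ≤ Submodule.span (Localization.Away g) (Set.range v) := by
    intro x _
    induction x using LocalizedModule.induction_on with
    | h m t =>
      obtain ⟨N, hN⟩ := hspan m
      have h1 : LocalizedModule.mkLinearMap (Submonoid.powers g) M (g ^ N • m) ∈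
          Submodule.span (Localization.Away g) (Set.range v) := by
        have : (g ^ N • m) ∈ ((Submodule.span (Localization.Away g)
            (Set.range v)).restrictScalars S).comap
              (LocalizedModule.mkLinearMap (Submonoid.powers g) M) := by
          refine Submodule.span_le.mpr ?_ hN
          rintro _ ⟨j, rfl⟩
          exact Submodule.subset_span ⟨j, rfl⟩
        exact this
      have h2 : LocalizedModule.mk m t =
          (IsLocalization.mk' (Localization.Away g) (1 : S)
            (⟨g ^ N, N, rfl⟩ * t : Submonoid.powers g)) •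
          LocalizedModule.mkLinearMap (Submonoid.powers g) M (g ^ N • m) := by
        rw [LocalizedModule.mkLinearMap_apply, ← Localization.mk_eq_mk', LocalizedModule.mk_smul_mk,
          one_smul, mul_one]
        rw [LocalizedModule.mk_eq]
        refine ⟨1, ?_⟩
        simp only [one_smul, Submonoid.smul_def, mul_smul]
        rw [smul_comm]
      rw [h2]
      exact Submodule.smul_mem _ _ h1
  let B := Module.Basis.mk hli hsp
  exact ⟨Module.Free.of_basis B, Module.Finite.of_basis B⟩

end Free

section Local

variable {R : Type u} [CommRing R] (I : Ideal R) (t : R) (l : List (Localization.Away t))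

lemma setOf_mem_eq_range_get {A : Type u} (l : List A) : {x | x ∈ l} = Set.range l.get := by
  ext x
  simp only [Set.mem_ofPred_eq, Set.mem_range]
  exact List.mem_iff_get

/-- Elementary form of "`I` is generated, on `D(t)`, by a Koszul-regular sequence". -/
theorem exists_local_data (hl : LCI.IsKoszulRegularSeq (Localization.Away t) l)
    (hI : I.map (algebraMap R (Localization.Away t)) = Ideal.span {x | x ∈ l}) :
    ∃ a : Fin l.length → R, (∀ j, a j ∈ I) ∧
      (∀ x ∈ I, ∃ (N : ℕ) (p : Fin l.length → R), t ^ N * x = ∑ j, p j * a j) ∧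
      (∀ (r : Fin l.length → R) (N : ℕ), t ^ N * ∑ j, r j * a j ∈ I ^ 2 →
        ∀ j, ∃ N' : ℕ, t ^ N' * r j ∈ I) := by
  classical
  set φ := algebraMap R (Localization.Away t) with hφ
  rw [setOf_mem_eq_range_get] at hI
  have hH1 : CAlgX.IsH1Regular l.get :=
    Groth.Agent.Lib.H9KoszulH1.isH1Regular_of_isKoszulRegularSeq l hl
  have hmem : ∀ j : Fin l.length, l.get j ∈ I.map φ := fun j => by
    rw [hI]; exact Ideal.subset_span ⟨j, rfl⟩
  choose y hy using fun j =>
    (IsLocalization.mem_map_algebraMap_iff (Submonoid.powers t) (Localization.Away t)).mp (hmem j)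
  -- `hy j : l.get j * φ (y j).2 = φ (y j).1`
  have hu : ∀ j, IsUnit (φ ((y j).2 : R)) := fun j => IsLocalization.map_units (Localization.Away t) (y j).2
  have hlj : ∀ j, l.get j = φ ((y j).1 : R) * ↑(hu j).unit⁻¹ := fun j => by
    rw [← hy j, mul_assoc, IsUnit.mul_val_inv, mul_one]
  refine ⟨fun j => ((y j).1 : R), fun j => (y j).1.2, ?_, ?_⟩
  · intro x hx
    have h1 : φ x ∈ Ideal.span (Set.range l.get) := by
      rw [← hI]; exact Ideal.mem_map_of_mem _ hx
    obtain ⟨q, hq⟩ := Ideal.mem_span_range_iff_exists_fun.mp h1
    obtain ⟨b, hb⟩ := IsLocalization.exist_integer_multiples (Submonoid.powers t)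
      (Finset.univ : Finset (Fin l.length)) (fun j => q j * ↑(hu j).unit⁻¹)
    choose p hp using fun j => hb j (Finset.mem_univ j)
    -- `hp j : φ (p j) = b • (q j * u⁻¹)`
    have h2 : φ ((b : R) * x) = φ (∑ j, p j * ((y j).1 : R)) := by
      rw [map_mul, ← hq, Finset.mul_sum, map_sum]
      refine Finset.sum_congr rfl fun j _ => ?_
      rw [map_mul, hp j, hlj j, Algebra.smul_def]
      ring
    obtain ⟨c, hc⟩ := (IsLocalization.eq_iff_exists (Submonoid.powers t) (Localization.Away t)).mp h2
    obtain ⟨n1, hn1⟩ := b.2
    obtain ⟨n2, hn2⟩ := c.2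
    have hn1' : t ^ n1 = (b : R) := hn1
    have hn2' : t ^ n2 = (c : R) := hn2
    refine ⟨n2 + n1, fun j => (c : R) * p j, ?_⟩
    rw [pow_add, hn1', hn2', mul_assoc, hc, Finset.mul_sum]
    refine Finset.sum_congr rfl fun j _ => ?_
    ring
  · intro r N hr j
    have hJ2 : (I ^ 2).map φ = Ideal.span (Set.range l.get) ^ 2 := by
      rw [Ideal.map_pow, hI]
    have h1 : φ (t ^ N * ∑ j, r j * ((y j).1 : R)) ∈ Ideal.span (Set.range l.get) ^ 2 := by
      rw [← hJ2]; exact Ideal.mem_map_of_mem _ hr
    have htu : IsUnit (φ (t ^ N)) :=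
      IsLocalization.map_units (Localization.Away t) (⟨t ^ N, N, rfl⟩ : Submonoid.powers t)
    have h2 : ∑ j, (φ (r j) * φ ((y j).2 : R)) * l.get j ∈ Ideal.span (Set.range l.get) ^ 2 := by
      have h3 : ∑ j, (φ (r j) * φ ((y j).2 : R)) * l.get j =
          ↑htu.unit⁻¹ * φ (t ^ N * ∑ j, r j * ((y j).1 : R)) := by
        rw [map_mul, ← mul_assoc, IsUnit.val_inv_mul, one_mul, map_sum]
        refine Finset.sum_congr rfl fun j _ => ?_
        rw [map_mul, ← hy j]
        ring
      rw [h3]
      exact Ideal.mul_mem_left _ _ h1
    have h4 := mem_of_sum_mem_sq l.get hH1 (fun j => φ (r j) * φ ((y j).2 : R)) h2 j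
    have h5 : φ (r j) ∈ I.map φ := by
      rw [hI]
      have : φ (r j) = ↑(hu j).unit⁻¹ * (φ (r j) * φ ((y j).2 : R)) := by
        rw [mul_comm (φ (r j)), ← mul_assoc, IsUnit.val_inv_mul, one_mul]
      rw [this]
      exact Ideal.mul_mem_left _ _ h4
    obtain ⟨m, ⟨N', hN'⟩, hm⟩ :=
      (IsLocalization.algebraMap_mem_map_algebraMap_iff (Submonoid.powers t) (Localization.Away t) I (r j)).mp h5
    have hN'' : t ^ N' = m := hN'
    exact ⟨N', by rw [hN'']; exact hm⟩

end Local

section Main

open Algebra.Extension

variable {R S : Type u} [CommRing R] [CommRing S] [Algebra R S]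

/-- a module which is finite free on the members of a Zariski cover is finite projective -/
theorem finite_projective_of_span {S : Type u} [CommRing S] {M : Type*} [AddCommGroup M]
    [Module S M] (s : Set S) (hs : Ideal.span s = ⊤)
    (h : ∀ g ∈ s, Module.Free (Localization.Away g) (LocalizedModule (Submonoid.powers g) M) ∧
      Module.Finite (Localization.Away g) (LocalizedModule (Submonoid.powers g) M)) :
    Module.Finite S M ∧ Module.Projective S M := by
  haveI hfp : Module.FinitePresentation S M := by
    refine Module.FinitePresentation.of_localizationSpan s hs fun g => ?_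
    obtain ⟨h1, h2⟩ := h g.1 g.2
    exact Module.finitePresentation_of_projective _ _
  haveI hflat : Module.Flat S M := by
    refine Module.flat_of_localized_span S M s hs fun g => ?_
    obtain ⟨h1, h2⟩ := h g.1 g.2
    haveI : Module.Flat (Localization.Away g.1) (LocalizedModule (Submonoid.powers g.1) M) :=
      inferInstance
    haveI : Module.Flat S (Localization.Away g.1) :=
      IsLocalization.flat (Localization.Away g.1) (Submonoid.powers g.1)
    exact Module.Flat.trans S (Localization.Away g.1) _
  exact ⟨inferInstance, Module.Flat.projective_of_finitePresentation⟩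

/-- **The conormal module of a Koszul-regular ideal is finite projective.** -/
theorem cotangent_finite_projective (P : Extension.{u} R S)
    (hK : LCI.IsKoszulRegularIdeal P.ker) :
    Module.Finite S P.Cotangent ∧ Module.Projective S P.Cotangent := by
  classical
  set s : Set S := {g | Module.Free (Localization.Away g)
      (LocalizedModule (Submonoid.powers g) P.Cotangent) ∧
    Module.Finite (Localization.Away g) (LocalizedModule (Submonoid.powers g) P.Cotangent)} with hs
  refine finite_projective_of_span s ?_ (fun g hg => hg)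
  by_contra hne
  obtain ⟨m, hm, hle⟩ := Ideal.exists_le_maximal _ hne
  haveI := hm.isPrime
  have hker : P.ker ≤ m.comap (algebraMap P.Ring S) := by
    intro x hx
    rw [Ideal.mem_comap, (RingHom.mem_ker).mp hx]
    exact m.zero_mem
  obtain ⟨t, ht, l, hl, hI⟩ := hK ⟨m.comap (algebraMap P.Ring S), inferInstance⟩ hker
  obtain ⟨a, ha, h1, h2⟩ := exists_local_data P.ker t l hl hI
  have hgs : algebraMap P.Ring S t ∈ s := by
    refine free_localizedModule (algebraMap P.Ring S t)
      (fun j => Cotangent.mk ⟨a j, ha j⟩) ?_ ?_
    · intro x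
      obtain ⟨⟨x, hx⟩, rfl⟩ := Cotangent.mk_surjective x
      obtain ⟨N, p, hNp⟩ := h1 x hx
      refine ⟨N, ?_⟩
      have e1 : algebraMap P.Ring S t ^ N • Cotangent.mk (P := P) ⟨x, hx⟩ =
          ∑ j, algebraMap P.Ring S (p j) • Cotangent.mk (P := P) ⟨a j, ha j⟩ := by
        rw [← map_pow, algebraMap_smul, ← map_smul]
        simp_rw [algebraMap_smul, ← map_smul]
        rw [← map_sum]
        congr 1
        apply Subtype.ext
        simp only [SetLike.val_smul, smul_eq_mul, AddSubmonoidClass.coe_finsetSum]
        exact hNp
      rw [e1]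
      exact Submodule.sum_mem _ fun j _ =>
        Submodule.smul_mem _ _ (Submodule.subset_span ⟨j, rfl⟩)
    · rintro c ⟨N, hN⟩ j
      have e1 : algebraMap P.Ring S t ^ N • ∑ j, c j • Cotangent.mk (P := P) ⟨a j, ha j⟩ =
          Cotangent.mk (P := P) ⟨t ^ N * ∑ j, P.σ (c j) * a j,
            P.ker.mul_mem_left _ (P.ker.sum_mem fun j _ => P.ker.mul_mem_left _ (ha j))⟩ := by
        rw [← map_pow, algebraMap_smul]
        have : ∀ j, c j • Cotangent.mk (P := P) ⟨a j, ha j⟩ =
            P.σ (c j) • Cotangent.mk (P := P) ⟨a j, ha j⟩ := fun j => by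
          rw [← algebraMap_smul S (P.σ (c j)), P.algebraMap_σ]
        simp_rw [this, ← map_smul]
        rw [← map_sum, ← map_smul]
        congr 1
        apply Subtype.ext
        simp only [SetLike.val_smul, smul_eq_mul, AddSubmonoidClass.coe_finsetSum]
      rw [e1, Cotangent.mk_eq_zero_iff] at hN
      obtain ⟨N', hN'⟩ := h2 (fun j => P.σ (c j)) N hN j
      refine ⟨N', ?_⟩
      have := (RingHom.mem_ker).mp hN'
      rwa [map_mul, map_pow, P.algebraMap_σ] at this
  have : algebraMap P.Ring S t ∈ m := hle (Ideal.subset_span hgs)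
  exact ht this

end Main

end Groth.Agent.Lib.R2H3.KzCotProj
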