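import Mathlib

/-!
# Pointwise descent of finite type along a field extension (helper3, run 2)

`exists_away_finiteType_of_baseChange`: `k ⊆ K` fields, `B` a `k`-algebra, `g ∈ K ⊗ B` and a prime
`q ∌ g` of `K ⊗ B` with `(K ⊗ B)_g` of finite type over `K`.  Then there is `f ∈ B` with
`1 ⊗ f ∉ q` and `B_f` of finite type over `k`.
-/

set_option autoImplicit false
set_option linter.style.haveILetI false
set_option linter.unusedVariables false
set_option linter.unusedSectionVars false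

universe u

open TensorProduct

namespace Groth.Agent.Lib.R2H3.LftDescAlg

variable {k K B : Type u} [Field k] [Field K] [Algebra k K] [CommRing B] [Algebra k B]

/-- the conductor of `b` into the subalgebra `B₀`. -/
def cond (B₀ : Subalgebra k B) (b : B) : Ideal B₀ where
  carrier := {h | (h : B) * b ∈ B₀}
  add_mem' := by
    intro x y hx hy
    simp only [Set.mem_ofPred_eq, Subalgebra.coe_add, add_mul] at hx hy ⊢
    exact B₀.add_mem hx hy
  zero_mem' := by
    simp only [Set.mem_ofPred_eq, ZeroMemClass.coe_zero, zero_mul]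
    exact B₀.zero_mem
  smul_mem' := by
    intro c x hx
    simp only [Set.mem_ofPred_eq, smul_eq_mul, Subalgebra.coe_mul, mul_assoc] at hx ⊢
    exact B₀.mul_mem c.2 hx

theorem mem_cond (B₀ : Subalgebra k B) (b : B) (h : B₀) : h ∈ cond B₀ b ↔ (h : B) * b ∈ B₀ :=
  Iff.rfl

/-- the base change map `K ⊗ B₀ → K ⊗ B`. -/
noncomputable abbrev bcι (B₀ : Subalgebra k B) : K ⊗[k] B₀ →ₐ[K] K ⊗[k] B :=
  Algebra.TensorProduct.map (AlgHom.id K K) B₀.val

theorem bcι_eq_lTensor (B₀ : Subalgebra k B) (y : K ⊗[k] B₀) :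
    bcι (K := K) B₀ y = LinearMap.lTensor K B₀.val.toLinearMap y := by
  induction y using TensorProduct.induction_on with
  | zero => simp
  | tmul c h => simp [bcι]
  | add x y hx hy => rw [map_add, map_add, hx, hy]

/-- if `γ · (1 ⊗ b)` lies in `K ⊗ B₀` then `γ` lies in the extension of the conductor of `b`. -/
theorem mem_map_cond (B₀ : Subalgebra k B) (b : B) (γ : K ⊗[k] B₀)
    (hγ : bcι (K := K) B₀ γ * ((1 : K) ⊗ₜ[k] b) ∈ (bcι (K := K) B₀).range) :
    γ ∈ (cond B₀ b).map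
      (Algebra.TensorProduct.includeRight : B₀ →ₐ[k] K ⊗[k] B₀).toRingHom := by
  classical
  let Q := B ⧸ Subalgebra.toSubmodule B₀
  let mkQ : B →ₗ[k] Q := Submodule.mkQ (Subalgebra.toSubmodule B₀)
  let ν : B₀ →ₗ[k] Q := mkQ.comp ((LinearMap.mulRight k b).comp B₀.val.toLinearMap)
  have hνker : ∀ h : B₀, ν h = 0 ↔ h ∈ cond B₀ b := by
    intro h
    show Submodule.mkQ (Subalgebra.toSubmodule B₀) ((h : B) * b) = 0 ↔ _
    rw [Submodule.mkQ_apply, Submodule.Quotient.mk_eq_zero]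
    rfl
  -- `lTensor ν γ = 0`
  have h1 : ∀ γ : K ⊗[k] B₀, LinearMap.lTensor K ν γ = LinearMap.lTensor K mkQ
      (bcι (K := K) B₀ γ * ((1 : K) ⊗ₜ[k] b)) := by
    intro γ
    induction γ using TensorProduct.induction_on with
    | zero => simp
    | tmul c h =>
      simp only [bcι, Algebra.TensorProduct.map_tmul, AlgHom.coe_id, id_eq, Subalgebra.coe_val,
        Algebra.TensorProduct.tmul_mul_tmul, mul_one, LinearMap.lTensor_tmul]
      rfl
    | add x y hx hy => rw [map_add, map_add, add_mul, map_add, hx, hy]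
  have h2 : LinearMap.lTensor K ν γ = 0 := by
    rw [h1 γ]
    obtain ⟨γ', hγ'⟩ := hγ
    have h3 : bcι (K := K) B₀ γ * ((1 : K) ⊗ₜ[k] b) = bcι (K := K) B₀ γ' := hγ'.symm
    rw [h3, bcι_eq_lTensor, ← LinearMap.comp_apply, ← LinearMap.lTensor_comp]
    have h4 : mkQ.comp B₀.val.toLinearMap = 0 := by
      ext h
      show Submodule.mkQ (Subalgebra.toSubmodule B₀) (h : B) = 0
      rw [Submodule.mkQ_apply, Submodule.Quotient.mk_eq_zero]
      exact h.2
    rw [h4, LinearMap.lTensor_zero, LinearMap.zero_apply]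
  -- exactness
  have hex : Function.Exact (LinearMap.lTensor K (LinearMap.ker ν).subtype)
      (LinearMap.lTensor K ν) :=
    Module.Flat.lTensor_exact K (LinearMap.exact_subtype_ker_map ν)
  obtain ⟨δ, hδ⟩ := (hex γ).mp h2
  rw [← hδ]
  clear hδ h2 hγ
  induction δ using TensorProduct.induction_on with
  | zero => simp
  | tmul c h =>
    rw [LinearMap.lTensor_tmul]
    have hh : (h : B₀) ∈ cond B₀ b := (hνker _).mp h.2
    have e : (c ⊗ₜ[k] ((LinearMap.ker ν).subtype h) : K ⊗[k] B₀) =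
        (c ⊗ₜ[k] (1 : B₀)) *
          (Algebra.TensorProduct.includeRight : B₀ →ₐ[k] K ⊗[k] B₀).toRingHom (h : B₀) := by
      simp [Algebra.TensorProduct.tmul_mul_tmul]
    rw [e]
    exact Ideal.mul_mem_left _ _ (Ideal.mem_map_of_mem _ hh)
  | add x y hx hy =>
    rw [map_add]
    exact Ideal.add_mem _ hx hy

theorem baseChange_mono {C C' : Subalgebra k B} (h : C ≤ C') (x : K ⊗[k] B)
    (hx : x ∈ C.baseChange K) : x ∈ C'.baseChange K := by
  obtain ⟨y, rfl⟩ := hx
  refine ⟨Algebra.TensorProduct.map (AlgHom.id K K) (Subalgebra.inclusion h) y, ?_⟩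
  induction y using TensorProduct.induction_on with
  | zero => simp
  | tmul c b => simp
  | add x y hx hy => simp only [map_add, hx, hy]

theorem exists_fg_forall_mem_baseChange (F : Finset (K ⊗[k] B)) :
    ∃ C : Subalgebra k B, C.FG ∧ ∀ t ∈ F, t ∈ C.baseChange K := by
  classical
  induction F using Finset.induction_on with
  | empty => exact ⟨⊥, Subalgebra.fg_bot, by simp⟩
  | insert a F ha ih =>
    obtain ⟨C₁, h₁, h₁'⟩ := ih
    obtain ⟨C₂, h₂, h₂'⟩ := exists_fg_and_mem_baseChange (R := k) (A := K) (B := B) a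
    refine ⟨C₁ ⊔ C₂, h₁.sup h₂, ?_⟩
    intro t ht
    rcases Finset.mem_insert.mp ht with rfl | ht
    · exact baseChange_mono le_sup_right _ h₂'
    · exact baseChange_mono le_sup_left _ (h₁' t ht)

theorem isOpenMap_comap_includeRight (B₀ : Type u) [CommRing B₀] [Algebra k B₀] :
    IsOpenMap (PrimeSpectrum.comap
      (Algebra.TensorProduct.includeRight : B₀ →ₐ[k] K ⊗[k] B₀).toRingHom) := by
  have h1 : IsOpenMap (PrimeSpectrum.comap (algebraMap B₀ (B₀ ⊗[k] K))) :=
    PrimeSpectrum.isOpenMap_comap_algebraMap_tensorProduct_of_field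
  let e : B₀ ⊗[k] K ≃+* K ⊗[k] B₀ := (Algebra.TensorProduct.comm k B₀ K).toRingEquiv
  have h2 : IsOpenMap (PrimeSpectrum.comap (e : B₀ ⊗[k] K →+* K ⊗[k] B₀)) :=
    (PrimeSpectrum.homeomorphOfRingEquiv e).symm.isOpenMap
  have h3 : (Algebra.TensorProduct.includeRight : B₀ →ₐ[k] K ⊗[k] B₀).toRingHom =
      (e : B₀ ⊗[k] K →+* K ⊗[k] B₀).comp (algebraMap B₀ (B₀ ⊗[k] K)) := by
    ext b
    simp [e, Algebra.TensorProduct.algebraMap_apply]
  rw [h3]
  have h4 : (PrimeSpectrum.comap ((e : B₀ ⊗[k] K →+* K ⊗[k] B₀).comp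
      (algebraMap B₀ (B₀ ⊗[k] K)))) =
      (PrimeSpectrum.comap (algebraMap B₀ (B₀ ⊗[k] K))) ∘
        (PrimeSpectrum.comap (e : B₀ ⊗[k] K →+* K ⊗[k] B₀)) := by
    funext x
    rfl
  rw [h4]
  exact h1.comp h2

/-- **pointwise descent of finite type along a field extension.** -/
theorem exists_away_finiteType_of_baseChange (g : K ⊗[k] B) (q : Ideal (K ⊗[k] B)) [q.IsPrime]
    (hg : g ∉ q) (hft : Algebra.FiniteType K (Localization.Away g)) :
    ∃ f : B, (1 : K) ⊗ₜ[k] f ∉ q ∧ Algebra.FiniteType k (Localization.Away f) := by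
  classical
  obtain ⟨s, hs⟩ := hft.out
  have hnum : ∀ y : Localization.Away g, ∃ (t : K ⊗[k] B) (n : ℕ),
      y * algebraMap (K ⊗[k] B) (Localization.Away g) g ^ n =
        algebraMap (K ⊗[k] B) (Localization.Away g) t := by
    intro y
    obtain ⟨⟨t, ⟨_, n, rfl⟩⟩, rfl⟩ := IsLocalization.mk'_surjective (Submonoid.powers g) y
    refine ⟨t, n, ?_⟩
    rw [← map_pow]
    exact IsLocalization.mk'_spec _ _ _
  choose num pw hnp using hnum
  obtain ⟨B₀, hB₀fg, hB₀⟩ := exists_fg_forall_mem_baseChange (k := k) (K := K) (B := B)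
    (insert g (s.image num))
  have hg₀' : g ∈ B₀.baseChange K := hB₀ g (Finset.mem_insert_self _ _)
  obtain ⟨g₀, hg₀⟩ : ∃ g₀, bcι (K := K) B₀ g₀ = g := hg₀'
  -- every element of the localization has numerator in `K ⊗ B₀`
  have hL : ∀ y : Localization.Away g, ∃ (n : ℕ) (t₀ : K ⊗[k] B₀),
      y * algebraMap (K ⊗[k] B) (Localization.Away g) g ^ n =
        algebraMap (K ⊗[k] B) (Localization.Away g) (bcι (K := K) B₀ t₀) := by
    intro y
    have hy : y ∈ Algebra.adjoin K (s : Set (Localization.Away g)) := by rw [hs]; trivial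
    induction hy using Algebra.adjoin_induction with
    | mem y hy =>
      obtain ⟨t₀, ht₀⟩ : ∃ t₀, bcι (K := K) B₀ t₀ = num y :=
        hB₀ (num y) (Finset.mem_insert_of_mem (Finset.mem_image_of_mem _ hy))
      exact ⟨pw y, t₀, by rw [ht₀]; exact hnp y⟩
    | algebraMap r =>
      refine ⟨0, algebraMap K _ r, ?_⟩
      rw [pow_zero, mul_one, AlgHom.commutes, ← IsScalarTower.algebraMap_apply]
    | add x y _ _ hx hy =>
      obtain ⟨n, a, ha⟩ := hx
      obtain ⟨m, c, hc⟩ := hy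
      refine ⟨n + m, a * g₀ ^ m + c * g₀ ^ n, ?_⟩
      simp only [map_add, map_mul, map_pow, hg₀]
      rw [← ha, ← hc]
      ring
    | mul x y _ _ hx hy =>
      obtain ⟨n, a, ha⟩ := hx
      obtain ⟨m, c, hc⟩ := hy
      refine ⟨n + m, a * c, ?_⟩
      simp only [map_mul]
      rw [← ha, ← hc]
      ring
  have h3 : ∀ t : K ⊗[k] B, ∃ n : ℕ, g ^ n * t ∈ (bcι (K := K) B₀).range := by
    intro t
    obtain ⟨n, t₀, h⟩ := hL (algebraMap _ _ t)
    rw [← map_pow, ← map_mul] at h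
    obtain ⟨⟨_, m, rfl⟩, hm⟩ := (IsLocalization.eq_iff_exists (Submonoid.powers g) _).mp h
    refine ⟨m + n, g₀ ^ m * t₀, ?_⟩
    show bcι (K := K) B₀ (g₀ ^ m * t₀) = g ^ (m + n) * t
    rw [map_mul, map_pow, hg₀, ← hm]
    ring
  -- the open image
  let incl₀ : B₀ →+* K ⊗[k] B₀ :=
    (Algebra.TensorProduct.includeRight : B₀ →ₐ[k] K ⊗[k] B₀).toRingHom
  have hopen : IsOpenMap (PrimeSpectrum.comap incl₀) := isOpenMap_comap_includeRight B₀
  let P₀' : PrimeSpectrum (K ⊗[k] B₀) :=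
    ⟨q.comap (bcι (K := K) B₀).toRingHom, Ideal.comap_isPrime _ _⟩
  have hP₀' : P₀' ∈ (PrimeSpectrum.basicOpen g₀ : Set (PrimeSpectrum (K ⊗[k] B₀))) := by
    show g₀ ∉ q.comap (bcι (K := K) B₀).toRingHom
    rw [Ideal.mem_comap]
    show ¬ (bcι (K := K) B₀ g₀ ∈ q)
    rw [hg₀]
    exact hg
  have hO : IsOpen (PrimeSpectrum.comap incl₀ ''
      (PrimeSpectrum.basicOpen g₀ : Set (PrimeSpectrum (K ⊗[k] B₀)))) :=
    hopen _ (PrimeSpectrum.basicOpen g₀).isOpen
  obtain ⟨_, ⟨_, ⟨f₀, rfl⟩, rfl⟩, hq₀f, hfO⟩ :=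
    PrimeSpectrum.isBasis_basic_opens.exists_subset_of_mem_open
    (Set.mem_image_of_mem _ hP₀') hO
  have h4 : ∀ b : B, ∃ n : ℕ, (f₀ : B) ^ n * b ∈ B₀ := by
    intro b
    have hrad : f₀ ∈ (cond B₀ b).radical := by
      rw [Ideal.radical_eq_sInf, Ideal.mem_sInf]
      rintro P ⟨hPa, hPprime⟩
      by_contra hfP
      have hPmem : (⟨P, hPprime⟩ : PrimeSpectrum B₀) ∈
          (PrimeSpectrum.basicOpen f₀ : Set (PrimeSpectrum B₀)) := hfP
      obtain ⟨P', hP'g, hP'P⟩ := hfO hPmem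
      obtain ⟨n, hn⟩ := h3 ((1 : K) ⊗ₜ[k] b)
      have hmem : g₀ ^ n ∈ (cond B₀ b).map incl₀ := by
        apply mem_map_cond B₀ b (g₀ ^ n)
        rw [map_pow, hg₀]
        exact hn
      have hle : (cond B₀ b).map incl₀ ≤ P'.asIdeal := by
        rw [Ideal.map_le_iff_le_comap]
        intro h hh
        have h5 : h ∈ P := hPa hh
        have h6 := congrArg PrimeSpectrum.asIdeal hP'P
        simp only [PrimeSpectrum.comap_asIdeal] at h6
        rw [← h6] at h5
        exact h5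
      exact hP'g (P'.isPrime.mem_of_pow_mem n (hle hmem))
    obtain ⟨n, hn⟩ := hrad
    refine ⟨n, ?_⟩
    have := (mem_cond B₀ b (f₀ ^ n)).mp hn
    simpa using this
  refine ⟨(f₀ : B), ?_, ?_⟩
  · intro hmem
    apply hq₀f
    show f₀ ∈ (PrimeSpectrum.comap incl₀ P₀').asIdeal
    rw [PrimeSpectrum.comap_asIdeal, Ideal.mem_comap]
    show incl₀ f₀ ∈ q.comap (bcι (K := K) B₀).toRingHom
    rw [Ideal.mem_comap]
    show bcι (K := K) B₀ ((1 : K) ⊗ₜ[k] f₀) ∈ q
    simpa [bcι] using hmem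
  · haveI : Algebra.FiniteType k B₀ := ⟨(Subalgebra.fg_top B₀).mpr hB₀fg⟩
    haveI : Algebra.FiniteType k (Localization.Away f₀) :=
      Algebra.FiniteType.trans (inferInstance : Algebra.FiniteType k B₀) inferInstance
    haveI : IsLocalization.Away ((B₀.val : B₀ →+* B) f₀) (Localization.Away (f₀ : B)) :=
      inferInstanceAs (IsLocalization.Away (f₀ : B) (Localization.Away (f₀ : B)))
    let φ : Localization.Away f₀ →+* Localization.Away (f₀ : B) :=
      IsLocalization.Away.map (Localization.Away f₀) (Localization.Away (f₀ : B))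
        (B₀.val : B₀ →+* B) f₀
    have hφ : φ.comp (algebraMap k (Localization.Away f₀)) =
        algebraMap k (Localization.Away (f₀ : B)) := by
      ext r
      simp only [RingHom.comp_apply]
      rw [IsScalarTower.algebraMap_apply k B₀ (Localization.Away f₀),
        IsScalarTower.algebraMap_apply k B (Localization.Away (f₀ : B))]
      simp only [φ, IsLocalization.Away.map, IsLocalization.map_eq]
      rfl
    have hsurj : Function.Surjective φ := by
      intro z
      obtain ⟨⟨b, ⟨_, m, rfl⟩⟩, rfl⟩ :=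
        IsLocalization.mk'_surjective (Submonoid.powers (f₀ : B)) z
      obtain ⟨n, hn⟩ := h4 b
      refine ⟨IsLocalization.mk' (Localization.Away f₀) (⟨(f₀ : B) ^ n * b, hn⟩ : B₀)
        (⟨f₀ ^ (n + m), n + m, rfl⟩ : Submonoid.powers f₀), ?_⟩
      simp only [φ, IsLocalization.Away.map, IsLocalization.map_mk']
      apply IsLocalization.mk'_eq_of_eq
      simp only [RingHom.coe_coe, Subalgebra.coe_val, SubmonoidClass.coe_pow]
      ring
    have hfin : (algebraMap k (Localization.Away (f₀ : B))).FiniteType := by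
      rw [← hφ]
      exact (RingHom.FiniteType.of_surjective φ hsurj).comp
        (RingHom.finiteType_algebraMap.mpr inferInstance)
    exact RingHom.finiteType_algebraMap.mp hfin

end Groth.Agent.Lib.R2H3.LftDescAlg
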