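import Mathlib
import Groth.Agent.S5338
import Groth.Agent.Lib.Helper2Thick
import Groth.Agent.Lib.Helper3ThickSmooth

/-!
# Lifting properties from the base change to a nilpotent thickening of the base (helper3, run 2)

Setting: `t : S₀ ⟶ S` a surjective closed immersion with `S` affine and locally Noetherian,
`f : X ⟶ Y` a morphism over `S` with `X` flat over `S`, and `f₀ : X₀ ⟶ Y₀` its base change to `S₀`
(`Y` arbitrary over `S`).

* `lfp_of_isPullback_thickening`: if `f₀` is locally of finite presentation, so is `f`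
  (SGA3 VI_B 1.3.1, through `Groth.Agent.S5338.finitePresentation_of_quotient_nilpotent`).
* `smooth_of_isPullback_thickening`: for any thickening `iY : Y₀ ⟶ Y`, if `f` is flat and locally of
  finite presentation and its base change `f₀` is smooth, then `f` is smooth.
-/

set_option autoImplicit false
set_option linter.style.haveILetI false
set_option linter.unusedVariables false
set_option linter.unusedSectionVars false

universe u

open CategoryTheory CategoryTheory.Limits AlgebraicGeometry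

namespace Groth.Agent.Lib.R2H3.NilFibre

/-- the quotient `C'/JC'` is the pushout of `B'/J ← B' → C'`. -/
theorem isPushout_quotient {B' C' : CommRingCat.{u}} (γ' : B' ⟶ C') (J : Ideal B') :
    IsPushout (CommRingCat.ofHom (Ideal.Quotient.mk J)) γ'
      (CommRingCat.ofHom (Ideal.quotientMap (J.map γ'.hom) γ'.hom Ideal.le_comap_map))
      (CommRingCat.ofHom (Ideal.Quotient.mk (J.map γ'.hom))) := by
  have hw : CommRingCat.ofHom (Ideal.Quotient.mk J) ≫
      CommRingCat.ofHom (Ideal.quotientMap (J.map γ'.hom) γ'.hom Ideal.le_comap_map) =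
      γ' ≫ CommRingCat.ofHom (Ideal.Quotient.mk (J.map γ'.hom)) := by
    ext x
    simp
  have hkill : ∀ s : PushoutCocone (CommRingCat.ofHom (Ideal.Quotient.mk J)) γ',
      ∀ a ∈ J.map γ'.hom, s.inr.hom a = 0 := by
    intro s
    have hle : J.map γ'.hom ≤ RingHom.ker s.inr.hom := by
      rw [Ideal.map_le_iff_le_comap]
      intro j hj
      rw [Ideal.mem_comap, RingHom.mem_ker]
      have h1 := congr($(s.condition).hom j)
      simp only [CommRingCat.hom_comp, RingHom.comp_apply, CommRingCat.hom_ofHom] at h1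
      rw [← h1, Ideal.Quotient.eq_zero_iff_mem.mpr hj, map_zero]
    intro a ha
    exact RingHom.mem_ker.mp (hle ha)
  refine ⟨⟨hw⟩, ⟨PushoutCocone.IsColimit.mk hw
    (fun s => CommRingCat.ofHom (Ideal.Quotient.lift (J.map γ'.hom) s.inr.hom (hkill s)))
    (fun s => ?_) (fun s => ?_) (fun s m h1 h2 => ?_)⟩⟩
  · apply CommRingCat.hom_ext
    apply Ideal.Quotient.ringHom_ext
    ext x
    have h1 := congr($(s.condition).hom x)
    simp only [CommRingCat.hom_comp, RingHom.comp_apply, CommRingCat.hom_ofHom] at h1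
    simp only [CommRingCat.hom_comp, RingHom.comp_apply, CommRingCat.hom_ofHom,
      Ideal.quotientMap_mk, Ideal.Quotient.lift_mk]
    exact h1.symm
  · apply CommRingCat.hom_ext
    ext x
    simp only [CommRingCat.hom_comp, RingHom.comp_apply, CommRingCat.hom_ofHom,
      Ideal.Quotient.lift_mk]
  · apply CommRingCat.hom_ext
    apply Ideal.Quotient.ringHom_ext
    ext x
    have h3 := congr($(h2).hom x)
    simp only [CommRingCat.hom_comp, RingHom.comp_apply, CommRingCat.hom_ofHom] at h3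
    simp only [CommRingCat.hom_ofHom, RingHom.comp_apply, Ideal.Quotient.lift_mk]
    exact h3

/-- in a pushout square `B = B' ⊗_R R₀` with `R → R₀` surjective, the kernel of `B' → B` is
contained in the extension of the kernel of `R → R₀`. -/
theorem ker_le_of_isPushout {R R₀ B' B : CommRingCat.{u}} {β' : R ⟶ B'} {τ : R ⟶ R₀}
    {π : B' ⟶ B} {β : R₀ ⟶ B} (hpo : IsPushout β' τ π β) (hτ : Function.Surjective τ.hom) :
    RingHom.ker π.hom ≤ (RingHom.ker τ.hom).map β'.hom := by
  set J := (RingHom.ker τ.hom).map β'.hom with hJ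
  have hle : RingHom.ker τ.hom ≤ RingHom.ker ((Ideal.Quotient.mk J).comp β'.hom) := by
    intro x hx
    rw [RingHom.mem_ker, RingHom.comp_apply, Ideal.Quotient.eq_zero_iff_mem]
    exact Ideal.mem_map_of_mem _ hx
  let b : R₀ ⟶ CommRingCat.of (B' ⧸ J) := CommRingCat.ofHom
    (RingHom.liftOfSurjective τ.hom hτ ⟨(Ideal.Quotient.mk J).comp β'.hom, hle⟩)
  let a : B' ⟶ CommRingCat.of (B' ⧸ J) := CommRingCat.ofHom (Ideal.Quotient.mk J)
  have hb : (RingHom.liftOfSurjective τ.hom hτ ⟨(Ideal.Quotient.mk J).comp β'.hom, hle⟩).comp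
      τ.hom = (Ideal.Quotient.mk J).comp β'.hom :=
    RingHom.liftOfRightInverse_comp _ _ _ ⟨(Ideal.Quotient.mk J).comp β'.hom, hle⟩
  have hcomm : β' ≫ a = τ ≫ b := by
    apply CommRingCat.hom_ext
    simp only [a, b, CommRingCat.hom_comp, CommRingCat.hom_ofHom]
    exact hb.symm
  intro x hx
  have h1 : π ≫ hpo.desc a b hcomm = a := hpo.inl_desc a b hcomm
  have h2 := congr($(h1).hom x)
  simp only [CommRingCat.hom_comp, RingHom.comp_apply] at h2
  rw [RingHom.mem_ker.mp hx, map_zero] at h2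
  exact Ideal.Quotient.eq_zero_iff_mem.mp h2.symm

/-- **SGA3 VI_B 1.3.1 on charts.** -/
theorem fp_of_isPushout_nil {R B' C' B C : CommRingCat.{u}} (β' : R ⟶ B') {γ' : B' ⟶ C'}
    {π : B' ⟶ B} {πC : C' ⟶ C} {γ : B ⟶ C} (hpo : IsPushout γ' π πC γ)
    (hπ : Function.Surjective π.hom) (n : Ideal R) (hn : IsNilpotent n)
    (hker : RingHom.ker π.hom ≤ n.map β'.hom) (hfl : (β' ≫ γ').hom.Flat)
    (hγ : γ.hom.FinitePresentation) : γ'.hom.FinitePresentation := by
  set J : Ideal B' := n.map β'.hom with hJ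
  set K : Ideal C' := J.map γ'.hom with hK
  have hle : RingHom.ker π.hom ≤ RingHom.ker (Ideal.Quotient.mk J) := by
    intro x hx
    rw [RingHom.mem_ker, Ideal.Quotient.eq_zero_iff_mem]
    exact hker hx
  let ρ : B ⟶ CommRingCat.of (B' ⧸ J) := CommRingCat.ofHom
    (RingHom.liftOfSurjective π.hom hπ ⟨Ideal.Quotient.mk J, hle⟩)
  have hρ : π ≫ ρ = CommRingCat.ofHom (Ideal.Quotient.mk J) := by
    apply CommRingCat.hom_ext
    exact RingHom.liftOfRightInverse_comp _ _ _ ⟨Ideal.Quotient.mk J, hle⟩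
  let q : CommRingCat.of (B' ⧸ J) ⟶ CommRingCat.of (C' ⧸ K) :=
    CommRingCat.ofHom (Ideal.quotientMap K γ'.hom Ideal.le_comap_map)
  let mK : C' ⟶ CommRingCat.of (C' ⧸ K) := CommRingCat.ofHom (Ideal.Quotient.mk K)
  have hbig : IsPushout (CommRingCat.ofHom (Ideal.Quotient.mk J)) γ' q mK :=
    isPushout_quotient γ' J
  have hc : γ' ≫ mK = π ≫ (ρ ≫ q) := by
    rw [← Category.assoc, hρ]
    exact hbig.w.symm
  let σ : C ⟶ CommRingCat.of (C' ⧸ K) := hpo.desc mK (ρ ≫ q) hc
  have hσ1 : πC ≫ σ = mK := hpo.inl_desc _ _ _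
  have hσ2 : γ ≫ σ = ρ ≫ q := hpo.inr_desc _ _ _
  have hright : IsPushout ρ γ q σ := by
    refine IsPushout.of_left ?_ hσ2.symm hpo.flip
    rw [hρ, hσ1]
    exact hbig
  have hq : q.hom.FinitePresentation := by
    have hst : (RingHom.toMorphismProperty RingHom.FinitePresentation).IsStableUnderCobaseChange :=
      RingHom.isStableUnderCobaseChange_toMorphismProperty_iff.mpr
        RingHom.finitePresentation_isStableUnderBaseChange
    exact hst.of_isPushout hright hγ
  letI : Algebra R B' := β'.hom.toAlgebra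
  letI : Algebra B' C' := γ'.hom.toAlgebra
  letI : Algebra R C' := (β' ≫ γ').hom.toAlgebra
  haveI : IsScalarTower R B' C' := IsScalarTower.of_algebraMap_eq' rfl
  have hflat : Module.Flat R C' := hfl
  have hfp : Algebra.FinitePresentation (B' ⧸ n.map (algebraMap R B'))
      (C' ⧸ (n.map (algebraMap R B')).map (algebraMap B' C')) := by
    rw [← RingHom.finitePresentation_algebraMap]
    exact hq
  exact Groth.Agent.S5338.finitePresentation_of_quotient_nilpotent R B' C' n hn hflat hfp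

section scheme

variable {X Y S X₀ Y₀ S₀ : Scheme.{u}} {iX : X₀ ⟶ X} {iY : Y₀ ⟶ Y} {t : S₀ ⟶ S}
    {f₀ : X₀ ⟶ Y₀} {f : X ⟶ Y} {g₀ : Y₀ ⟶ S₀} {g : Y ⟶ S}

/-- **SGA3 VI_B 1.3.1 for schemes**: `S₀ ⟶ S` a thickening of an affine locally Noetherian
scheme, `X` flat over `S`, `f : X ⟶ Y` over `S`.  If the base change `f₀` is locally of finite
presentation then so is `f`. -/
theorem lfp_of_isPullback_thickening (hX : IsPullback iX f₀ f iY) (hY : IsPullback iY g₀ g t)
    [IsClosedImmersion t] [Surjective t] [IsAffine S] [IsLocallyNoetherian S] [Flat (f ≫ g)]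
    (h₀ : LocallyOfFinitePresentation f₀) : LocallyOfFinitePresentation f := by
  haveI : IsClosedImmersion iY :=
    MorphismProperty.of_isPullback (P := @IsClosedImmersion) hY.flip inferInstance
  haveI : Surjective iY := MorphismProperty.of_isPullback (P := @Surjective) hY.flip inferInstance
  haveI : IsClosedImmersion iX :=
    MorphismProperty.of_isPullback (P := @IsClosedImmersion) hX.flip inferInstance
  rw [HasRingHomProperty.iff_appLE (P := @LocallyOfFinitePresentation)]
  rintro ⟨V, hV⟩ ⟨U, hU⟩ e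
  replace hV : IsAffineOpen V := hV
  replace hU : IsAffineOpen U := hU
  replace e : U ≤ f ⁻¹ᵁ V := e
  let V₀ : Y₀.Opens := iY ⁻¹ᵁ V
  have hV₀ : IsAffineOpen V₀ := hV.preimage iY
  let U₀ : X₀.Opens := iX ⁻¹ᵁ U
  have hU₀ : IsAffineOpen U₀ := hU.preimage iX
  have hUY : U₀ = iX ⁻¹ᵁ U ⊓ f₀ ⁻¹ᵁ V₀ := by
    refine (inf_eq_left.mpr ?_).symm
    intro z hz
    show iY (f₀ z) ∈ V
    have h1 : iY (f₀ z) = f (iX z) := by
      rw [← Scheme.Hom.comp_apply, ← Scheme.Hom.comp_apply, hX.w]
    rw [h1]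
    exact e hz
  have hpoC := (isIso_pushoutSection_iff hX (le_refl V₀) e hUY).mp
    (isIso_pushoutSection_of_isAffineOpen hX (le_refl V₀) e hUY hV hV₀ hU)
  let T₀ : S₀.Opens := t ⁻¹ᵁ ⊤
  have hT₀ : IsAffineOpen T₀ := (isAffineOpen_top S).preimage t
  have hVY : V₀ = iY ⁻¹ᵁ V ⊓ g₀ ⁻¹ᵁ T₀ := by
    refine (inf_eq_left.mpr ?_).symm
    intro z _
    trivial
  have hVtop : V ≤ g ⁻¹ᵁ ⊤ := le_top
  have hpoB := (isIso_pushoutSection_iff hY (le_refl T₀) hVtop hVY).mp
    (isIso_pushoutSection_of_isAffineOpen hY (le_refl T₀) hVtop hVY (isAffineOpen_top S) hT₀ hV)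
  have hτ : Function.Surjective (t.appLE ⊤ T₀ (le_refl T₀)).hom := by
    have := t.app_surjective ⊤ (isAffineOpen_top S)
    rwa [Scheme.Hom.app_eq_appLE] at this
  have hπ : Function.Surjective (iY.appLE V V₀ (le_refl V₀)).hom := by
    have := iY.app_surjective V hV
    rwa [Scheme.Hom.app_eq_appLE] at this
  have hker := ker_le_of_isPushout hpoB hτ
  have hn : IsNilpotent (RingHom.ker (t.appLE ⊤ T₀ (le_refl T₀)).hom) := by
    haveI : IsNoetherianRing Γ(S, ⊤) :=
      IsLocallyNoetherian.component_noetherian ⟨⊤, isAffineOpen_top S⟩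
    rw [Ideal.FG.isNilpotent_iff_le_nilradical (IsNoetherian.noetherian _)]
    intro x hx
    rw [mem_nilradical]
    refine Groth.Agent.Lib.Helper2.Thick.nil_ker t ⊤ (isAffineOpen_top S) x ?_
    rw [Scheme.Hom.app_eq_appLE]
    exact hx
  have hfl : (g.appLE ⊤ V hVtop ≫ f.appLE V U e).hom.Flat := by
    rw [Scheme.Hom.appLE_comp_appLE]
    exact Flat.flat_appLE (f ≫ g) (isAffineOpen_top S) hU _
  have hγ := Scheme.Hom.finitePresentation_appLE f₀ hV₀ hU₀
    (by rw [hUY]; exact inf_le_right)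
  exact fp_of_isPushout_nil (g.appLE ⊤ V hVtop) hpoC hπ _ hn hker hfl hγ

/-- smoothness lifts along a thickening of the target for flat morphisms locally of finite
presentation. -/
theorem smooth_of_isPullback_thickening (hX : IsPullback iX f₀ f iY)
    [IsClosedImmersion iY] [Surjective iY] [Flat f] [LocallyOfFinitePresentation f]
    (h₀ : Smooth f₀) : Smooth f := by
  haveI : IsClosedImmersion iX :=
    MorphismProperty.of_isPullback (P := @IsClosedImmersion) hX.flip inferInstance
  rw [HasRingHomProperty.iff_appLE (P := @Smooth)]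
  rintro ⟨V, hV⟩ ⟨U, hU⟩ e
  replace hV : IsAffineOpen V := hV
  replace hU : IsAffineOpen U := hU
  replace e : U ≤ f ⁻¹ᵁ V := e
  let V₀ : Y₀.Opens := iY ⁻¹ᵁ V
  have hV₀ : IsAffineOpen V₀ := hV.preimage iY
  let U₀ : X₀.Opens := iX ⁻¹ᵁ U
  have hU₀ : IsAffineOpen U₀ := hU.preimage iX
  have hUY : U₀ = iX ⁻¹ᵁ U ⊓ f₀ ⁻¹ᵁ V₀ := by
    refine (inf_eq_left.mpr ?_).symm
    intro z hz
    show iY (f₀ z) ∈ V
    have h1 : iY (f₀ z) = f (iX z) := by
      rw [← Scheme.Hom.comp_apply, ← Scheme.Hom.comp_apply, hX.w]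
    rw [h1]
    exact e hz
  have hpoC := (isIso_pushoutSection_iff hX (le_refl V₀) e hUY).mp
    (isIso_pushoutSection_of_isAffineOpen hX (le_refl V₀) e hUY hV hV₀ hU)
  have hπ : Function.Surjective (iY.appLE V V₀ (le_refl V₀)).hom := by
    have := iY.app_surjective V hV
    rwa [Scheme.Hom.app_eq_appLE] at this
  have hnil : ∀ x ∈ RingHom.ker (iY.appLE V V₀ (le_refl V₀)).hom, IsNilpotent x := by
    intro x hx
    refine Groth.Agent.Lib.Helper2.Thick.nil_ker iY V hV x ?_
    rw [Scheme.Hom.app_eq_appLE]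
    exact hx
  have hγ := Scheme.Hom.smooth_appLE f₀ hV₀ hU₀
    (by rw [hUY]; exact inf_le_right)
  exact Groth.Agent.Lib.Helper3.ThickSmooth.smooth_of_isPushout_nil hpoC hπ hnil
    (Flat.flat_appLE f hV hU e)
    (Scheme.Hom.finitePresentation_appLE f hV hU e)
    hγ

end scheme

end Groth.Agent.Lib.R2H3.NilFibre
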