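import Mathlib
import Groth.Agent.Lib.R2H3LftDescAlg
import Groth.Agent.Lib.R2H3GrpHomLocus
import Groth.Agent.Lib.R2H3NilFibre
import Groth.Agent.Lib.Helper3NilFT

/-!
# A group scheme with a non-empty open of finite type is locally of finite type (helper3, run 2)

* `mem_locus_lft_of_baseChange`: the locus where a `k`-scheme is locally of finite type descends
  pointwise along a field extension.
* `lft_of_open_field`: a group scheme over a field with a non-empty open subscheme locally of
  finite type is locally of finite type.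
* `lft_of_isPullback_thickening`: local finite type lifts along a nilpotent thickening of an affine
  locally Noetherian base.
-/

set_option autoImplicit false
set_option linter.style.haveILetI false
set_option linter.unusedVariables false
set_option linter.unusedSectionVars false

universe u

open CategoryTheory CategoryTheory.Limits MonoidalCategory CartesianMonoidalCategory MonObj GrpObj
  AlgebraicGeometry TopologicalSpace Topology TensorProduct

namespace Groth.Agent.Lib.R2H3.LftDesc

open Groth.Agent.Lib.R2H3.GrpHomLocus Groth.Agent.Lib.R2H3.LftDescAlg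

section locus

variable {P : MorphismProperty Scheme.{u}}

theorem locus_of_openImmersion [P.RespectsIso] {Z X Y : Scheme.{u}} (j : Z ⟶ X)
    [IsOpenImmersion j] (f : X ⟶ Y) (z : Z) (h : P (j ≫ f)) : j z ∈ locus P f := by
  refine ⟨j.opensRange, ⟨z, rfl⟩, ?_⟩
  let e : (j.opensRange : Scheme.{u}) ≅ Z :=
    IsOpenImmersion.isoOfRangeEq j.opensRange.ι j (by simp)
  have he : e.hom ≫ j = j.opensRange.ι := IsOpenImmersion.isoOfRangeEq_hom_fac _ _ _
  rw [← he, Category.assoc]
  exact (P.cancel_left_of_respectsIso e.hom (j ≫ f)).mpr h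

theorem mem_locus_restrict [IsZariskiLocalAtSource P] {X Y : Scheme.{u}} (f : X ⟶ Y)
    (U : X.Opens) (z : (U : Scheme.{u})) (h : U.ι z ∈ locus P f) : z ∈ locus P (U.ι ≫ f) := by
  obtain ⟨W, hzW, hW⟩ := h
  refine ⟨U.ι ⁻¹ᵁ W, hzW, ?_⟩
  have h1 : (U.ι ⁻¹ᵁ W).ι ≫ U.ι = (U.ι ∣_ W) ≫ W.ι := (morphismRestrict_ι U.ι W).symm
  rw [← Category.assoc, h1, Category.assoc]
  exact IsZariskiLocalAtSource.comp hW _

theorem mem_locus_of_restrict [P.RespectsIso] {X Y : Scheme.{u}} (f : X ⟶ Y)
    (U : X.Opens) (z : (U : Scheme.{u})) (h : z ∈ locus P (U.ι ≫ f)) : U.ι z ∈ locus P f := by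
  obtain ⟨W₁, hzW, hW⟩ := h
  let z₁ : (W₁ : Scheme.{u}) := ⟨z, hzW⟩
  have h1 := locus_of_openImmersion (P := P) (W₁.ι ≫ U.ι) f z₁ (by rwa [Category.assoc])
  exact h1

end locus

section descent

variable {k K : Type u} [Field k] [Field K] [Algebra k K]

/-- pointwise descent of the locally-finite-type locus, affine case. -/
theorem mem_locus_lft_Spec {B : Type u} [CommRing B] [Algebra k B]
    (q : Spec (CommRingCat.of (K ⊗[k] B)))
    (hq : q ∈ locus @LocallyOfFiniteType
      (Spec.map (CommRingCat.ofHom (algebraMap K (K ⊗[k] B))))) :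
    Spec.map (CommRingCat.ofHom
      (Algebra.TensorProduct.includeRight : B →ₐ[k] K ⊗[k] B).toRingHom) q ∈
      locus @LocallyOfFiniteType (Spec.map (CommRingCat.ofHom (algebraMap k B))) := by
  obtain ⟨N', hqN, hN⟩ := hq
  obtain ⟨_, ⟨_, ⟨g, rfl⟩, rfl⟩, hqg, hgN⟩ :=
    PrimeSpectrum.isBasis_basic_opens.exists_subset_of_mem_open hqN N'.2
  let j : Spec (CommRingCat.of (Localization.Away g)) ⟶ Spec (CommRingCat.of (K ⊗[k] B)) :=
    Spec.map (CommRingCat.ofHom (algebraMap (K ⊗[k] B) (Localization.Away g)))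
  haveI : IsOpenImmersion j := inferInstance
  have hrj : Set.range j = (PrimeSpectrum.basicOpen g : Set (PrimeSpectrum (K ⊗[k] B))) :=
    PrimeSpectrum.localization_away_comap_range (Localization.Away g) g
  have hrange : Set.range j ⊆ Set.range N'.ι := by
    rw [Scheme.Opens.range_ι, hrj]
    exact hgN
  let l := IsOpenImmersion.lift N'.ι j hrange
  have hl : l ≫ N'.ι = j := IsOpenImmersion.lift_fac _ _ _
  haveI : IsOpenImmersion l := by
    haveI : IsOpenImmersion (l ≫ N'.ι) := by rw [hl]; infer_instance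
    exact IsOpenImmersion.of_comp l N'.ι
  have h1 : LocallyOfFiniteType
      (j ≫ Spec.map (CommRingCat.ofHom (algebraMap K (K ⊗[k] B)))) := by
    rw [← hl, Category.assoc]
    exact IsZariskiLocalAtSource.comp hN l
  rw [← Spec.map_comp, HasRingHomProperty.Spec_iff (P := @LocallyOfFiniteType)] at h1
  have hft : Algebra.FiniteType K (Localization.Away g) := by
    rw [← RingHom.finiteType_algebraMap,
      IsScalarTower.algebraMap_eq K (K ⊗[k] B) (Localization.Away g)]
    exact h1
  haveI : q.asIdeal.IsPrime := q.isPrime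
  obtain ⟨f, hfq, hf⟩ := exists_away_finiteType_of_baseChange g q.asIdeal hqg hft
  let jf : Spec (CommRingCat.of (Localization.Away f)) ⟶ Spec (CommRingCat.of B) :=
    Spec.map (CommRingCat.ofHom (algebraMap B (Localization.Away f)))
  haveI : IsOpenImmersion jf := inferInstance
  have hrjf : Set.range jf = (PrimeSpectrum.basicOpen f : Set (PrimeSpectrum B)) :=
    PrimeSpectrum.localization_away_comap_range (Localization.Away f) f
  have hx : Spec.map (CommRingCat.ofHom
      (Algebra.TensorProduct.includeRight : B →ₐ[k] K ⊗[k] B).toRingHom) q ∈ Set.range jf := by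
    rw [hrjf]
    exact hfq
  obtain ⟨z, hz⟩ := hx
  rw [← hz]
  apply locus_of_openImmersion jf
  rw [← Spec.map_comp, HasRingHomProperty.Spec_iff (P := @LocallyOfFiniteType)]
  have h2 := RingHom.finiteType_algebraMap.mpr hf
  rw [IsScalarTower.algebraMap_eq k B (Localization.Away f)] at h2
  exact h2

/-- **pointwise descent of the locally-finite-type locus along a field extension.** -/
theorem mem_locus_lft_of_baseChange {Y Y' : Scheme.{u}} {h : Y ⟶ Spec (CommRingCat.of k)}
    {h' : Y' ⟶ Spec (CommRingCat.of K)} {p : Y' ⟶ Y}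
    (hpb : IsPullback p h' h (Spec.map (CommRingCat.ofHom (algebraMap k K)))) (x' : Y')
    (hx' : x' ∈ locus @LocallyOfFiniteType h') : p x' ∈ locus @LocallyOfFiniteType h := by
  obtain ⟨U, hU, hxU, -⟩ := exists_isAffineOpen_mem_and_subset (x := p x') (U := ⊤) trivial
  haveI : IsAffine (U : Scheme.{u}) := hU
  let hU_h : (U : Scheme.{u}) ⟶ Spec (CommRingCat.of k) := U.ι ≫ h
  let ψ : CommRingCat.of k ⟶ Γ((U : Scheme.{u}), ⊤) :=
    (Scheme.ΓSpecIso (CommRingCat.of k)).inv ≫ hU_h.appTop
  have hh : hU_h = (U : Scheme.{u}).isoSpec.hom ≫ Spec.map ψ := by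
    have := Scheme.isoSpec_hom_naturality hU_h
    rw [Spec.map_comp, ← Scheme.isoSpec_Spec_inv, ← Category.assoc, this, Category.assoc,
      Iso.hom_inv_id, Category.comp_id]
  letI : Algebra k Γ((U : Scheme.{u}), ⊤) := ψ.hom.toAlgebra
  have hspec0 : Spec.map ψ = (U : Scheme.{u}).isoSpec.inv ≫ (U.ι ≫ h) := by
    change _ = _ ≫ hU_h
    rw [hh, Iso.inv_hom_id_assoc]
  have hspec : Spec.map (CommRingCat.ofHom (algebraMap k Γ((U : Scheme.{u}), ⊤))) =
      (U : Scheme.{u}).isoSpec.inv ≫ (U.ι ≫ h) := hspec0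
  -- the tensor square
  have sqT := isPullback_SpecMap_of_isPushout _ _ _ _
    (CommRingCat.isPushout_tensorProduct k K Γ((U : Scheme.{u}), ⊤))
  -- the square over `U`
  let U' : Y'.Opens := p ⁻¹ᵁ U
  have hbig : IsPullback (p ∣_ U) (U'.ι ≫ h') (U.ι ≫ h)
      (Spec.map (CommRingCat.ofHom (algebraMap k K))) :=
    (isPullback_morphismRestrict p U).paste_vert hpb
  have hisoSq : IsPullback (U : Scheme.{u}).isoSpec.inv
      (Spec.map (CommRingCat.ofHom (algebraMap k Γ((U : Scheme.{u}), ⊤)))) (U.ι ≫ h)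
      (𝟙 (Spec (CommRingCat.of k))) := by
    refine IsPullback.of_horiz_isIso ⟨?_⟩
    rw [Category.comp_id]
    exact hspec.symm
  have sqT' := sqT.flip.paste_horiz hisoSq
  rw [Category.comp_id] at sqT'
  let e := hbig.isoIsPullback _ _ sqT'
  have he1 : e.hom ≫ (Spec.map (CommRingCat.ofHom
      (Algebra.TensorProduct.includeRight : Γ((U : Scheme.{u}), ⊤) →ₐ[k] _).toRingHom) ≫
      (U : Scheme.{u}).isoSpec.inv) = p ∣_ U := hbig.isoIsPullback_hom_fst _ _ sqT'
  have he2 : e.hom ≫ Spec.map (CommRingCat.ofHom (Algebra.TensorProduct.includeLeftRingHom)) =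
      U'.ι ≫ h' := hbig.isoIsPullback_hom_snd _ _ sqT'
  -- the point
  let z : (U' : Scheme.{u}) := ⟨x', hxU⟩
  have hz0 : z ∈ locus @LocallyOfFiniteType (U'.ι ≫ h') := mem_locus_restrict h' U' z hx'
  rw [← he2] at hz0
  have hz1 := (mem_locus_iso_comp_iff e.hom _ z).mp hz0
  have hz2 := mem_locus_lft_Spec (k := k) (K := K) (e.hom z) hz1
  rw [hspec] at hz2
  have hz2' := (mem_locus_iso_comp_iff (U : Scheme.{u}).isoSpec.inv (U.ι ≫ h) _).mp hz2
  have hz3 := mem_locus_of_restrict h U _ hz2'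
  convert hz3 using 1
  show (U'.ι ≫ p) z = ((e.hom ≫ Spec.map (CommRingCat.ofHom
      (Algebra.TensorProduct.includeRight : Γ((U : Scheme.{u}), ⊤) →ₐ[k] _).toRingHom) ≫
      (U : Scheme.{u}).isoSpec.inv) ≫ U.ι) z
  rw [he1, morphismRestrict_ι]

end descent

section translation

variable {C : Type*} [Category C] [CartesianMonoidalCategory C]

theorem exists_translation {G : C} [GrpObj G] (a b : 𝟙_ C ⟶ G) :
    ∃ α : G ≅ G, a ≫ α.hom = b := by
  refine ⟨(GrpObj.mulRight a).symm ≪≫ (GrpObj.mulRight b), ?_⟩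
  dsimp only [Iso.trans_hom, Iso.symm_hom]
  rw [← Category.assoc, ← Iso.eq_comp_inv]
  simp [comp_lift_assoc]

end translation

section field

open scoped Obj

variable {k : Type u} [Field k] (G : Over (Spec (CommRingCat.of k))) [GrpObj G]

/-- **a group scheme over a field with a non-empty open subscheme locally of finite type is
locally of finite type.** -/
theorem lft_of_open_field (W : G.left.Opens) (hW : (W : Set G.left).Nonempty)
    [LocallyOfFiniteType (W.ι ≫ G.hom)] : LocallyOfFiniteType G.hom := by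
  apply of_locus_eq_univ (P := @LocallyOfFiniteType)
  rw [Set.eq_univ_iff_forall]
  intro x
  -- the field `K`
  let κ := G.left.residueField x
  let φ : CommRingCat.of k ⟶ κ := Spec.preimage (G.left.fromSpecResidueField x ≫ G.hom)
  have hφ : Spec.map φ = G.left.fromSpecResidueField x ≫ G.hom := Spec.map_preimage _
  letI : Algebra k κ := φ.hom.toAlgebra
  let K := AlgebraicClosure κ
  let gK : Spec (CommRingCat.of K) ⟶ Spec (CommRingCat.of k) :=
    Spec.map (CommRingCat.ofHom (algebraMap k K))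
  let xK : Spec (CommRingCat.of K) ⟶ G.left :=
    Spec.map (CommRingCat.ofHom (algebraMap κ K)) ≫ G.left.fromSpecResidueField x
  have hxK : xK ≫ G.hom = gK := by
    dsimp only [xK, gK]
    rw [Category.assoc, ← hφ, ← Spec.map_comp]
    congr 1
  let G' : Over (Spec (CommRingCat.of K)) := (Over.pullback gK).obj G
  let p : G'.left ⟶ G.left := pullback.fst G.hom gK
  have hpb : IsPullback p G'.hom G.hom gK := IsPullback.of_hasPullback G.hom gK
  haveI : Surjective gK := by
    constructor
    intro y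
    exact ⟨IsLocalRing.closedPoint K, Subsingleton.elim _ _⟩
  haveI : Surjective p := MorphismProperty.of_isPullback (P := @Surjective) hpb.flip inferInstance
  -- the rational point over `x`
  let xsec : Spec (CommRingCat.of K) ⟶ G'.left :=
    pullback.lift xK (𝟙 _) (by rw [hxK, Category.id_comp])
  have hxsec1 : xsec ≫ p = xK := pullback.lift_fst _ _ _
  have hxsec2 : xsec ≫ G'.hom = 𝟙 _ := pullback.lift_snd _ _ _
  let x'' : 𝟙_ (Over (Spec (CommRingCat.of K))) ⟶ G' := Over.homMk xsec hxsec2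
  -- a rational point of `W'`
  let W' : G'.left.Opens := p ⁻¹ᵁ W
  have hbigW : IsPullback (p ∣_ W) (W'.ι ≫ G'.hom) (W.ι ≫ G.hom) gK :=
    (isPullback_morphismRestrict p W).paste_vert hpb
  haveI : LocallyOfFiniteType (W'.ι ≫ G'.hom) :=
    MorphismProperty.of_isPullback (P := @LocallyOfFiniteType) hbigW inferInstance
  obtain ⟨w, hw⟩ := hW
  obtain ⟨w₁, hw₁⟩ := p.surjective w
  haveI : Nonempty (W' : Scheme.{u}) := ⟨⟨w₁, by show p w₁ ∈ W; rw [hw₁]; exact hw⟩⟩
  haveI := LocallyOfFiniteType.jacobsonSpace (W'.ι ≫ G'.hom)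
  obtain ⟨w₀, -, hw₀⟩ := nonempty_inter_closedPoints (X := (W' : Scheme.{u}))
    (Z := Set.univ) Set.univ_nonempty isClosed_univ.isLocallyClosed
  let wsec : Spec (CommRingCat.of K) ⟶ G'.left :=
    pointOfClosedPoint (W'.ι ≫ G'.hom) w₀ hw₀ ≫ W'.ι
  have hwsec : wsec ≫ G'.hom = 𝟙 _ := by
    dsimp only [wsec]
    rw [Category.assoc]
    exact pointOfClosedPoint_comp (W'.ι ≫ G'.hom) w₀ hw₀
  let w'' : 𝟙_ (Over (Spec (CommRingCat.of K))) ⟶ G' := Over.homMk wsec hwsec
  -- the translation
  obtain ⟨α, hα⟩ := exists_translation w'' x''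
  let pt : Spec (CommRingCat.of K) := IsLocalRing.closedPoint K
  have hα' : α.hom.left (wsec pt) = xsec pt := by
    have := congr(($hα).left pt)
    simpa [x'', w''] using this
  haveI : IsIso α.hom.left := inferInstance
  -- the point `wsec pt` lies in the locus
  have h1 : wsec pt ∈ locus @LocallyOfFiniteType G'.hom := by
    refine ⟨W', ?_, inferInstance⟩
    show (pointOfClosedPoint (W'.ι ≫ G'.hom) w₀ hw₀ ≫ W'.ι) pt ∈ W'
    rw [Scheme.Hom.comp_apply]
    exact (pointOfClosedPoint (W'.ι ≫ G'.hom) w₀ hw₀ pt).2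
  have h2 : xsec pt ∈ locus @LocallyOfFiniteType G'.hom := by
    have hw : α.inv.left ≫ G'.hom = G'.hom := Over.w α.inv
    have h3 : xsec pt ∈ locus @LocallyOfFiniteType (α.inv.left ≫ G'.hom) := by
      rw [mem_locus_iso_comp_iff]
      have h4 : α.inv.left (xsec pt) = wsec pt := by
        rw [← hα', ← Scheme.Hom.comp_apply, ← Over.comp_left, Iso.hom_inv_id]
        rfl
      rw [h4]
      exact h1
    rwa [hw] at h3
  have h3 := mem_locus_lft_of_baseChange hpb (xsec pt) h2
  have h4 : p (xsec pt) = x := by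
    rw [← Scheme.Hom.comp_apply, hxsec1]
    dsimp only [xK]
    rw [Scheme.Hom.comp_apply]
    exact Scheme.fromSpecResidueField_apply _ _
  rwa [h4] at h3

end field

section thick

variable {Y S Y₀ S₀ : Scheme.{u}} {iY : Y₀ ⟶ Y} {t : S₀ ⟶ S} {g₀ : Y₀ ⟶ S₀} {g : Y ⟶ S}

/-- local finite type lifts along a nilpotent thickening of an affine locally Noetherian base. -/
theorem lft_of_isPullback_thickening (hY : IsPullback iY g₀ g t)
    [IsClosedImmersion t] [Surjective t] [IsAffine S] [IsLocallyNoetherian S]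
    (h₀ : LocallyOfFiniteType g₀) : LocallyOfFiniteType g := by
  haveI : IsClosedImmersion iY :=
    MorphismProperty.of_isPullback (P := @IsClosedImmersion) hY.flip inferInstance
  rw [HasRingHomProperty.iff_appLE (P := @LocallyOfFiniteType)]
  rintro ⟨US, hUS⟩ ⟨V, hV⟩ e
  replace hUS : IsAffineOpen US := hUS
  replace hV : IsAffineOpen V := hV
  replace e : V ≤ g ⁻¹ᵁ US := e
  let V₀ : Y₀.Opens := iY ⁻¹ᵁ V
  have hV₀ : IsAffineOpen V₀ := hV.preimage iY
  let T₀ : S₀.Opens := t ⁻¹ᵁ US
  have hT₀ : IsAffineOpen T₀ := hUS.preimage t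
  have hVY : V₀ = iY ⁻¹ᵁ V ⊓ g₀ ⁻¹ᵁ T₀ := by
    refine (inf_eq_left.mpr ?_).symm
    intro z hz
    show t (g₀ z) ∈ US
    have h1 : t (g₀ z) = g (iY z) := by
      rw [← Scheme.Hom.comp_apply, ← Scheme.Hom.comp_apply, hY.w]
    rw [h1]
    exact e hz
  have hpoB := (isIso_pushoutSection_iff hY (le_refl T₀) e hVY).mp
    (isIso_pushoutSection_of_isAffineOpen hY (le_refl T₀) e hVY hUS hT₀ hV)
  have hτ : Function.Surjective (t.appLE US T₀ (le_refl T₀)).hom := by
    have := t.app_surjective US hUS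
    rwa [Scheme.Hom.app_eq_appLE] at this
  have hπ : Function.Surjective (iY.appLE V V₀ (le_refl V₀)).hom := by
    have := iY.app_surjective V hV
    rwa [Scheme.Hom.app_eq_appLE] at this
  have hker := Groth.Agent.Lib.R2H3.NilFibre.ker_le_of_isPushout hpoB hτ
  haveI : IsNoetherianRing Γ(S, US) := IsLocallyNoetherian.component_noetherian ⟨US, hUS⟩
  have hnfg : (RingHom.ker (t.appLE US T₀ (le_refl T₀)).hom).FG := IsNoetherian.noetherian _
  have hn : IsNilpotent (RingHom.ker (t.appLE US T₀ (le_refl T₀)).hom) := by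
    rw [Ideal.FG.isNilpotent_iff_le_nilradical hnfg]
    intro x hx
    rw [mem_nilradical]
    refine Groth.Agent.Lib.Helper2.Thick.nil_ker t US hUS x ?_
    rw [Scheme.Hom.app_eq_appLE]
    exact hx
  have hkereq : RingHom.ker (iY.appLE V V₀ (le_refl V₀)).hom =
      (RingHom.ker (t.appLE US T₀ (le_refl T₀)).hom).map (g.appLE US V e).hom := by
    refine le_antisymm hker ?_
    rw [Ideal.map_le_iff_le_comap]
    intro r hr
    rw [Ideal.mem_comap, RingHom.mem_ker]
    have h1 := congr($(hpoB.w).hom r)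
    simp only [CommRingCat.hom_comp, RingHom.comp_apply] at h1
    rw [h1, RingHom.mem_ker.mp hr, map_zero]
  have hfg : (RingHom.ker (iY.appLE V V₀ (le_refl V₀)).hom).FG := by
    rw [hkereq]
    exact hnfg.map _
  have hnil : IsNilpotent (RingHom.ker (iY.appLE V V₀ (le_refl V₀)).hom) := by
    rw [hkereq]
    obtain ⟨m, hm⟩ := hn
    refine ⟨m, ?_⟩
    rw [← Ideal.map_pow, hm]
    exact Ideal.map_bot
  refine Groth.Agent.Lib.Helper3.NilFT.finiteType_of_comp_surjective (g.appLE US V e).hom
    (iY.appLE V V₀ (le_refl V₀)).hom hπ hfg hnil ?_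
  have h2 : (iY.appLE V V₀ (le_refl V₀)).hom.comp (g.appLE US V e).hom =
      (g₀.appLE T₀ V₀ (by rw [hVY]; exact inf_le_right)).hom.comp
        (t.appLE US T₀ (le_refl T₀)).hom := by
    rw [← CommRingCat.hom_comp, ← CommRingCat.hom_comp]
    exact congrArg _ hpoB.w
  rw [h2]
  exact (Scheme.Hom.finiteType_appLE g₀ hT₀ hV₀ _).comp (RingHom.FiniteType.of_surjective _ hτ)

end thick

end Groth.Agent.Lib.R2H3.LftDesc
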