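import Mathlib
import Groth.Agent.Lib.R2H3ZMTFin
import Groth.Agent.Lib.R2H3ProperLim
import Groth.Agent.Lib.R2H3ProperDesc
import Groth.Agent.Lib.Helper22LimBC
import Groth.Agent.S0591

/-!
# Closed immersions / proper morphisms into a cofiltered limit are so at a finite stage

For a cofiltered limit `X = lim X_i` of `S`-schemes with affine transition maps and a morphism
`h : Y ⟶ X` with `Y ⟶ S` locally of finite type:

* `exists_closedImmersion_stage`: if `h` is a closed immersion and some `X_{i₀}` is quasi-compact,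
  then `Y ⟶ X_i` is a closed immersion for all `i` beyond some index;
* `exists_proper_stage_of_lft`: if `h` is proper and all `X_i` are qcqs, then `Y ⟶ X_i` is proper
  for all `i` beyond some index (`S9202`).
-/

set_option autoImplicit false
set_option linter.unusedSectionVars false
universe u
open CategoryTheory CategoryTheory.Limits AlgebraicGeometry TopologicalSpace Opposite

namespace Groth.Agent.Lib.R2H3.LimProper

open Groth.Agent.Lib.R2H3.ZMTFin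

theorem surjective_app_of_appLE {X Y : Scheme.{u}} (f : X ⟶ Y) (O : Y.Opens) (O' : X.Opens)
    (h1 : O' ≤ f ⁻¹ᵁ O) (h2 : f ⁻¹ᵁ O ≤ O') (hs : Function.Surjective (f.appLE O O' h1)) :
    Function.Surjective (f.app O) := by
  have e : f.appLE O O' h1 ≫ X.presheaf.map (homOfLE h2).op = f.app O := by
    rw [Scheme.Hom.app_eq_appLE]
    exact Scheme.Hom.appLE_map _ _ _
  rw [← e]
  intro y
  obtain ⟨z, hz⟩ := res_surjective h2 h1 y
  obtain ⟨x, hx⟩ := hs z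
  refine ⟨x, ?_⟩
  rw [ConcreteCategory.comp_apply, hx]
  exact hz

/-- an affine morphism which is surjective on sections over an affine open cover is a closed
immersion. -/
theorem isClosedImmersion_of_cover {X Y : Scheme.{u}} (f : X ⟶ Y) [IsAffineHom f] {ι : Type*}
    (U : ι → Y.Opens) (hU : ∀ i, IsAffineOpen (U i)) (hcov : ⨆ i, U i = ⊤)
    (hs : ∀ i, Function.Surjective (f.app (U i))) : IsClosedImmersion f := by
  rw [@HasAffineProperty.iff_of_iSup_eq_top @IsClosedImmersion _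
    IsClosedImmersion.hasAffineProperty _ _ f _ (fun i => ⟨U i, hU i⟩) hcov]
  intro i
  show IsAffine _ ∧ Function.Surjective ((f ∣_ U i).appTop)
  refine ⟨(hU i).preimage f, ?_⟩
  rw [morphismRestrict_appTop]
  have key : ∀ U' : Y.Opens, U' = U i → Function.Surjective (f.app U') := by
    rintro _ rfl; exact hs i
  have := key ((U i).ι ''ᵁ ⊤) (by simp)
  exact (surjective_map_eqToHom (image_morphismRestrict_preimage f (U i) ⊤)).comp this

section closed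

variable {I : Type u} [SmallCategory I] [IsCofiltered I] (D : I ⥤ Scheme.{u}) (c : Cone D)
  (hc : IsLimit c)

omit [IsCofiltered I] in
theorem exists_equalize [IsCofiltered I] {i₀ : I} {A : Type*} (F : Finset A) (j : A → I)
    (a : ∀ x, j x ⟶ i₀) :
    ∃ (k : I) (e : k ⟶ i₀), ∀ x ∈ F, ∃ b : k ⟶ j x, b ≫ a x = e := by
  classical
  induction F using Finset.induction_on with
  | empty => exact ⟨i₀, 𝟙 _, by simp⟩
  | insert y F _ ih =>
    obtain ⟨k, e, hk⟩ := ih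
    obtain ⟨k', c₁, c₂, hc⟩ := IsCofiltered.cospan e (a y)
    refine ⟨k', c₁ ≫ e, fun x hx => ?_⟩
    rw [Finset.mem_insert] at hx
    rcases hx with rfl | hx
    · exact ⟨c₂, hc.symm⟩
    · obtain ⟨b, hb⟩ := hk x hx
      exact ⟨c₁ ≫ b, by rw [Category.assoc, hb]⟩

variable [∀ {i j} (f : i ⟶ j), IsAffineHom (D.map f)]

include hc in
theorem exists_surj_stage_closed {S : Scheme.{u}} (t : ∀ i, D.obj i ⟶ S) (q : c.pt ⟶ S)
    (hq : ∀ i, c.π.app i ≫ t i = q) (ht : ∀ {i j : I} (f : i ⟶ j), D.map f ≫ t j = t i)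
    {Y : Scheme.{u}} (h : Y ⟶ c.pt) [IsClosedImmersion h] [LocallyOfFiniteType (h ≫ q)]
    {i : I} (W : (D.obj i).Opens) (hW : IsAffineOpen W) (V : S.Opens) (hV : IsAffineOpen V)
    (hWV : W ≤ t i ⁻¹ᵁ V) :
    ∃ (j : I) (a : j ⟶ i), ∀ (k : I) (b : k ⟶ j),
      Function.Surjective ((h ≫ c.π.app k).app (D.map (b ≫ a) ⁻¹ᵁ W)) := by
  classical
  have := isAffineHom_π_app D c hc i
  have hU : IsAffineOpen (c.π.app i ⁻¹ᵁ W) := hW.preimage (c.π.app i)
  have hU' : IsAffineOpen (h ⁻¹ᵁ (c.π.app i ⁻¹ᵁ W)) := hU.preimage h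
  have hUV : c.π.app i ⁻¹ᵁ W ≤ q ⁻¹ᵁ V := by
    rw [← hq i, Scheme.Hom.comp_preimage]; exact Scheme.Hom.preimage_mono _ hWV
  have e : h ⁻¹ᵁ (c.π.app i ⁻¹ᵁ W) ≤ (h ≫ q) ⁻¹ᵁ V := by
    rw [Scheme.Hom.comp_preimage]; exact Scheme.Hom.preimage_mono _ hUV
  have hft : ((h ≫ q).appLE V (h ⁻¹ᵁ (c.π.app i ⁻¹ᵁ W)) e).hom.FiniteType :=
    HasRingHomProperty.appLE @LocallyOfFiniteType (h ≫ q) inferInstance ⟨V, hV⟩ ⟨_, hU'⟩ e
  have hsurj : Function.Surjective (h.app (c.π.app i ⁻¹ᵁ W)) := h.app_surjective _ hU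
  have hfac : (h ≫ q).appLE V (h ⁻¹ᵁ (c.π.app i ⁻¹ᵁ W)) e =
      q.appLE V (c.π.app i ⁻¹ᵁ W) hUV ≫ h.app (c.π.app i ⁻¹ᵁ W) := by
    rw [Scheme.Hom.app_eq_appLE, Scheme.Hom.appLE_comp_appLE]
  let _ := ((h ≫ q).appLE V (h ⁻¹ᵁ (c.π.app i ⁻¹ᵁ W)) e).hom.toAlgebra
  have hft' : Algebra.FiniteType Γ(S, V) Γ(Y, h ⁻¹ᵁ (c.π.app i ⁻¹ᵁ W)) := hft
  obtain ⟨G, hG⟩ := hft'.out
  choose lift hlift using hsurj
  obtain ⟨j, a, hGa⟩ := exists_finset_subset D c hc W hW (G.image lift)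
  have hall : ∀ x : Γ(Y, h ⁻¹ᵁ (c.π.app i ⁻¹ᵁ W)),
      ∃ s, h.app (c.π.app i ⁻¹ᵁ W) (rho D c W a s) = x := by
    intro x
    have hx : x ∈ Algebra.adjoin Γ(S, V) (G : Set Γ(Y, h ⁻¹ᵁ (c.π.app i ⁻¹ᵁ W))) := by
      rw [hG]; exact Algebra.mem_top
    induction hx using Algebra.adjoin_induction with
    | mem x hx =>
      obtain ⟨s, hs⟩ := hGa (Finset.mem_coe.mpr (Finset.mem_image_of_mem lift hx))
      exact ⟨s, by rw [hs, hlift]⟩
    | algebraMap r =>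
      obtain ⟨s, hs⟩ := range_appLE_subset D c t q hq ht W V hWV hUV a ⟨r, rfl⟩
      refine ⟨s, ?_⟩
      rw [hs]
      show _ = ((h ≫ q).appLE V (h ⁻¹ᵁ (c.π.app i ⁻¹ᵁ W)) e).hom r
      rw [hfac]
      rfl
    | add x y _ _ hx hy =>
      obtain ⟨x', rfl⟩ := hx
      obtain ⟨y', rfl⟩ := hy
      exact ⟨x' + y', by rw [map_add, map_add]⟩
    | mul x y _ _ hx hy =>
      obtain ⟨x', rfl⟩ := hx
      obtain ⟨y', rfl⟩ := hy
      exact ⟨x' * y', by rw [map_mul, map_mul]⟩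
  refine ⟨j, a, fun k b => ?_⟩
  have hpre : (h ≫ c.π.app k) ⁻¹ᵁ (D.map (b ≫ a) ⁻¹ᵁ W) = h ⁻¹ᵁ (c.π.app i ⁻¹ᵁ W) := by
    rw [Scheme.Hom.comp_preimage, preimage_eq]
  apply surjective_app_of_appLE (h ≫ c.π.app k) (D.map (b ≫ a) ⁻¹ᵁ W)
    (h ⁻¹ᵁ (c.π.app i ⁻¹ᵁ W)) hpre.ge hpre.le
  have hfac2 : (h ≫ c.π.app k).appLE (D.map (b ≫ a) ⁻¹ᵁ W) (h ⁻¹ᵁ (c.π.app i ⁻¹ᵁ W)) hpre.ge =
      rho D c W (b ≫ a) ≫ h.app (c.π.app i ⁻¹ᵁ W) := by
    rw [Scheme.Hom.app_eq_appLE, Scheme.Hom.appLE_comp_appLE]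
  rw [hfac2]
  intro x
  obtain ⟨s, hs⟩ := hall x
  obtain ⟨s', hs'⟩ := rho_mono D c W a (b ≫ a) b rfl ⟨s, rfl⟩
  refine ⟨s', ?_⟩
  rw [ConcreteCategory.comp_apply, hs', hs]

include hc in
/-- a closed immersion into a cofiltered limit, locally of finite type over the base, is a closed
immersion into all late stages. -/
theorem exists_closedImmersion_stage {S : Scheme.{u}} (t : ∀ i, D.obj i ⟶ S) (q : c.pt ⟶ S)
    (hq : ∀ i, c.π.app i ≫ t i = q) (ht : ∀ {i j : I} (f : i ⟶ j), D.map f ≫ t j = t i)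
    {Y : Scheme.{u}} (h : Y ⟶ c.pt) [IsClosedImmersion h] [LocallyOfFiniteType (h ≫ q)]
    (i₀ : I) [CompactSpace (D.obj i₀)] :
    ∃ i₁ : I, ∀ (i : I) (_ : i ⟶ i₁), IsClosedImmersion (h ≫ c.π.app i) := by
  classical
  -- affine opens of `D.obj i₀` mapping into affine opens of `S`
  have hex : ∀ x : D.obj i₀, ∃ (W : (D.obj i₀).Opens) (V : S.Opens), IsAffineOpen W ∧
      IsAffineOpen V ∧ W ≤ t i₀ ⁻¹ᵁ V ∧ x ∈ W := by
    intro x
    obtain ⟨_, ⟨V, hV, rfl⟩, hxV, -⟩ := S.isBasis_affineOpens.exists_subset_of_mem_open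
      (Set.mem_univ (t i₀ x)) isOpen_univ
    obtain ⟨_, ⟨W, hW, rfl⟩, hxW, hWV⟩ := (D.obj i₀).isBasis_affineOpens.exists_subset_of_mem_open
      (show x ∈ ((t i₀ ⁻¹ᵁ V : (D.obj i₀).Opens) : Set (D.obj i₀)) from hxV) (t i₀ ⁻¹ᵁ V).2
    exact ⟨W, V, hW, hV, hWV, hxW⟩
  choose W V hW hV hWV hxW using hex
  obtain ⟨F, hF⟩ := isCompact_univ.elim_nhds_subcover (fun x => (W x : Set (D.obj i₀)))
    (fun x _ => (W x).2.mem_nhds (hxW x))
  choose j a hsurj using fun x =>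
    exists_surj_stage_closed D c hc t q hq ht h (W x) (hW x) (V x) (hV x) (hWV x)
  obtain ⟨k₁, e, hk₁⟩ := exists_equalize F j a
  refine ⟨k₁, fun i g => ?_⟩
  have : IsAffineHom (c.π.app i) := isAffineHom_π_app D c hc i
  have : IsAffineHom (h ≫ c.π.app i) := inferInstance
  apply isClosedImmersion_of_cover (h ≫ c.π.app i) (fun x : F => D.map (g ≫ e) ⁻¹ᵁ W x.1)
    (fun x => (hW x.1).preimage _)
  · rw [eq_top_iff]
    intro y _
    have hy : D.map (g ≫ e) y ∈ ⋃ x ∈ F, (W x : Set (D.obj i₀)) := hF.2 (Set.mem_univ _)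
    simp only [Set.mem_iUnion] at hy
    obtain ⟨x, hxF, hyx⟩ := hy
    exact Opens.mem_iSup.mpr ⟨⟨x, hxF⟩, hyx⟩
  · intro x
    obtain ⟨b, hb⟩ := hk₁ x.1 x.2
    have := hsurj x.1 i (g ≫ b)
    rwa [Category.assoc, hb] at this

end closed

section proper

open Groth.Agent.Lib.R2H3.ProperDesc Groth.Agent.Lib.R2H3.ProperLim Groth.Agent.Lib.Helper22.LimBC

variable {I : Type u} [SmallCategory I] [IsCofiltered I]

/-- descent of a proper morphism of finite presentation to a stage of a cofiltered limit of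
qcqs schemes with affine transition maps. -/
theorem exists_proper_stage' (D : I ⥤ Scheme.{u}) (c : Cone D) (hc : IsLimit c)
    [∀ (i j : I) (a : i ⟶ j), IsAffineHom (D.map a)] [∀ i, CompactSpace (D.obj i)]
    [∀ i, QuasiSeparatedSpace (D.obj i)] {Y : Scheme.{u}} (f : Y ⟶ c.pt)
    [IsProper f] [LocallyOfFinitePresentation f] :
    ∃ (k : I) (Y₀ : Scheme.{u}) (F : Y₀ ⟶ D.obj k) (ψ : Y ⟶ Y₀), IsProper F ∧
      LocallyOfFinitePresentation F ∧ IsPullback ψ f F (c.π.app k) := by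
  obtain ⟨i, Yi, fi, g, hfi1, hfi2, hfi3, hpb⟩ := Groth.Agent.S0591.result D c hc Y f
  have : CompactSpace Yi := QuasiCompact.compactSpace_of_compactSpace fi
  have : QuasiSeparatedSpace Yi := quasiSeparatedSpace_of_quasiSeparated fi
  obtain ⟨k, φ, Xk, Yk, fk, gk, pY, pX, hP1, hP2, hprop⟩ :=
    proper_descend D c hc i fi (𝟙 _) f (𝟙 c.pt) (c.π.app i) g
      (IsPullback.id_vert (c.π.app i)) hpb
  have : IsIso gk := hP1.isIso_snd_of_isIso
  have hR : IsPullback pX (fk ≫ gk) fi (D.map φ) := by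
    have := hP2.paste_vert hP1
    rwa [Category.comp_id] at this
  have hcomm : g ≫ fi = (f ≫ c.π.app k) ≫ D.map φ := by
    rw [hpb.w, Category.assoc, c.w φ]
  have hψ1 : hR.lift g (f ≫ c.π.app k) hcomm ≫ pX = g := hR.lift_fst _ _ _
  have hψ2 : hR.lift g (f ≫ c.π.app k) hcomm ≫ fk ≫ gk = f ≫ c.π.app k := hR.lift_snd _ _ _
  have hL : IsPullback (hR.lift g (f ≫ c.π.app k) hcomm) f (fk ≫ gk) (c.π.app k) := by
    refine IsPullback.of_right ?_ hψ2 hR
    rw [hψ1, c.w φ]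
    exact hpb
  have : LocallyOfFinitePresentation fk :=
    MorphismProperty.of_isPullback (P := @LocallyOfFinitePresentation) hP2 hfi1
  exact ⟨k, Xk, fk ≫ gk, _, inferInstance, inferInstance, hL⟩

/-- `S9202`: a proper morphism into a cofiltered limit of qcqs `S`-schemes, locally of finite type
over `S`, is proper over all late stages. -/
theorem exists_proper_stage_of_lft (S : Scheme.{u}) (D : I ⥤ Scheme.{u})
    (t : D ⟶ (Functor.const I).obj S) (c : Cone D) (hc : IsLimit c)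
    [∀ (i j : I) (a : i ⟶ j), IsAffineHom (D.map a)] [∀ i, CompactSpace (D.obj i)]
    [∀ i, QuasiSeparatedSpace (D.obj i)] (i₀ : I) {Y : Scheme.{u}} (h : Y ⟶ c.pt) [IsProper h]
    [LocallyOfFiniteType (h ≫ c.π.app i₀ ≫ t.app i₀)] :
    ∃ i₁ : I, ∀ (i : I) (_ : i ⟶ i₁), IsProper (h ≫ c.π.app i) := by
  have haff : ∀ {i j : I} (a : i ⟶ j), IsAffineHom (D.map a) := fun a => inferInstance
  have htnat : ∀ {i j : I} (a : i ⟶ j), D.map a ≫ t.app j = t.app i := fun a => by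
    have := t.naturality a
    exact this.trans (Category.comp_id _)
  have hqi : ∀ i, c.π.app i ≫ t.app i = c.π.app i₀ ≫ t.app i₀ := by
    intro i
    obtain ⟨m, a, b, -⟩ := IsCofilteredOrEmpty.cone_objs i i₀
    rw [← c.w a, Category.assoc, htnat a, ← c.w b, Category.assoc, htnat b]
  have : IsAffineHom (c.π.app i₀) := isAffineHom_π_app D c hc i₀
  have : CompactSpace c.pt := QuasiCompact.compactSpace_of_compactSpace (c.π.app i₀)
  have : QuasiSeparatedSpace c.pt := quasiSeparatedSpace_of_quasiSeparated (c.π.app i₀)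
  obtain ⟨Y', f', ι, hfp, hprop, hcl, hfac⟩ := exists_closedImmersion_proper_fp h
  obtain ⟨k, Y₀, F, ψ, hF1, hF2, hL⟩ := exists_proper_stage' D c hc f'
  -- the base-changed system over `Over k`
  have hdSnd : ∀ j : Over k, IsProper (dSnd D k F j) := fun j =>
    MorphismProperty.of_isPullback (P := @IsProper) (isPullback_d D k F j) hF1
  have hcpt : CompactSpace ((bcDiagram D k F).obj (Over.mk (𝟙 k))) :=
    QuasiCompact.compactSpace_of_compactSpace (dSnd D k F (Over.mk (𝟙 k)))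
  have hq : ∀ j : Over k, (bcCone k hL).π.app j ≫ (dSnd D k F j ≫ t.app j.left) =
      f' ≫ c.π.app i₀ ≫ t.app i₀ := by
    intro j
    show bcπ k hL j ≫ dSnd D k F j ≫ t.app j.left = _
    rw [bcπ_snd_assoc, hqi]
  have ht : ∀ {j j' : Over k} (a : j ⟶ j'), (bcDiagram D k F).map a ≫
      (dSnd D k F j' ≫ t.app j'.left) = dSnd D k F j ≫ t.app j.left := by
    intro j j' a
    rw [map_dSnd_assoc, htnat]
  have hlft : LocallyOfFiniteType (ι ≫ f' ≫ c.π.app i₀ ≫ t.app i₀) := by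
    rw [← Category.assoc, hfac]; infer_instance
  obtain ⟨ι', hι', hcl', hlft'⟩ : ∃ ι' : Y ⟶ (bcCone k hL).pt, ι' = ι ∧ IsClosedImmersion ι' ∧
      LocallyOfFiniteType (ι' ≫ f' ≫ c.π.app i₀ ≫ t.app i₀) := ⟨ι, rfl, hcl, hlft⟩
  obtain ⟨j₁, hj₁⟩ := exists_closedImmersion_stage (bcDiagram D k F) (bcCone k hL)
    (isLimitBcCone k hL hc) (fun j => dSnd D k F j ≫ t.app j.left) (f' ≫ c.π.app i₀ ≫ t.app i₀)
    hq ht ι' (Over.mk (𝟙 k))
  subst hι'
  refine ⟨j₁.left, fun i g => ?_⟩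
  have hci := hj₁ (Over.mk (g ≫ j₁.hom)) (Over.homMk g rfl)
  have key : (bcCone k hL).π.app (Over.mk (g ≫ j₁.hom)) ≫ dSnd D k F (Over.mk (g ≫ j₁.hom)) =
      f' ≫ c.π.app i := bcπ_snd k hL (Over.mk (g ≫ j₁.hom))
  have e : h ≫ c.π.app i = (ι' ≫ (bcCone k hL).π.app (Over.mk (g ≫ j₁.hom))) ≫
      dSnd D k F (Over.mk (g ≫ j₁.hom)) := by
    rw [Category.assoc, key, ← hfac]
    exact Category.assoc _ _ _
  rw [e]
  have := hdSnd (Over.mk (g ≫ j₁.hom))
  infer_instance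

end proper

end Groth.Agent.Lib.R2H3.LimProper
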