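import Groth.Agent.Lib.R2H3LocCohLC
import Groth.Agent.Lib.Helper23SectCmpLib
import Groth.Agent.Lib.Helper16Restr
import Groth.Prelude.Def_SuppFam

/-!
# Local cohomology sheaves with locally closed supports: modules versus abelian sheaves (helper3, round 2)

* `isZero_HZshLC_of_isFlasque`: flasque abelian sheaves are acyclic for `SuppFam.sectSuppLC h`.
* `hfIso`: `toAb ∘ (j^* ⋙ Γ_Z ⋙ j_*) ≅ sectSuppLC h ∘ toAb` for `j = V₁.ι`, `Z = V₁ ∖ V₂`.
* `nonempty_toAb_rightDerived_Hf_iso`: `toAb (R^n (j^* ⋙ Γ_Z ⋙ j_*) M) ≅ ℋ^n_Z (toAb M)`.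
-/

set_option autoImplicit false
set_option linter.style.haveILetI false
set_option linter.unusedSectionVars false
set_option linter.unusedVariables false
universe u
open CategoryTheory CategoryTheory.Limits TopologicalSpace AlgebraicGeometry Opposite

namespace Groth.Agent.Lib.R2H3.LocCohLCBridge

open Groth.Agent.Lib.R2H3.LocCohLC Groth.Agent.Lib.Helper16.SectSupp Groth.Agent.Lib.Helper16.Restr
  SuppFam

section Top

variable {X : TopCat.{u}} {W V : Opens X} (h : W ≤ V)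

lemma sectSuppLC_preservesFiniteLimits : PreservesFiniteLimits (sectSuppLC h) := by
  haveI := restr_preservesFiniteLimits V
  haveI := sectSuppF_preservesFiniteLimits (inOpen V W)
  haveI : PreservesFiniteLimits (CohTop.push (CohCx.incl V)) := by
    haveI : PreservesLimitsOfSize.{0, 0} (CohTop.push (CohCx.incl V)) :=
      (TopCat.Sheaf.pullbackPushforwardAdjunction AddCommGrpCat.{u} (CohCx.incl V)).rightAdjoint_preservesLimits
    exact PreservesLimitsOfSize.preservesFiniteLimits _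
  unfold sectSuppLC
  infer_instance

lemma sectSuppLC_map_epi (S : ShortComplex (CohTop.Ab X)) (hS : S.ShortExact)
    [TopCat.Sheaf.IsFlasque S.X₁] : Epi ((sectSuppLC h).map S.g) := by
  haveI := restr_preservesFiniteLimits V
  haveI := restr_preservesFiniteColimits V
  haveI := sectSuppF_preservesFiniteLimits (inOpen V W)
  let S' : ShortComplex (CohTop.Ab (TopCat.of V)) := S.map (CohTop.restrFunctor V)
  have hS' : S'.ShortExact := hS.map_of_exact (CohTop.restrFunctor V)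
  haveI : TopCat.Sheaf.IsFlasque S'.X₁ := restr_flasque (U := V) S.X₁
  let S'' : ShortComplex (CohTop.Ab (TopCat.of V)) := S'.map (LocCohZ.sectSuppF (inOpen V W))
  haveI hm' : Mono S'.f := hS'.mono_f
  have hex'' : S''.Exact :=
    hS'.exact.map_of_mono_of_preservesKernel (LocCohZ.sectSuppF (inOpen V W)) hm' inferInstance
  haveI : Mono S''.f := by
    change Mono ((LocCohZ.sectSuppF (inOpen V W)).map S'.f)
    infer_instance
  haveI : Epi S''.g := sectSuppF_map_epi (inOpen V W) S' hS'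
  have hS'' : S''.ShortExact := ShortComplex.ShortExact.mk hex''
  haveI : TopCat.Sheaf.IsFlasque S''.X₁ := sectSupp_flasque (inOpen V W) S'.X₁
  haveI : ∀ V', Epi (((sectSuppLC h).map S.g).hom.app V') := by
    intro V'
    exact TopCat.Sheaf.IsFlasque.epi_of_shortExact hS''
      (U := (Opens.map (CohCx.incl V)).obj V'.unop)
  haveI : Epi ((sectSuppLC h).map S.g).hom := NatTrans.epi_of_epi_app _
  exact Sheaf.Hom.epi_of_presheaf_epi _ _ ((sectSuppLC h).map S.g)

/-- flasque sheaves have no higher local cohomology sheaves (locally closed supports). -/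
theorem isZero_HZshLC_of_isFlasque (F : CohTop.Ab X) [TopCat.Sheaf.IsFlasque F] (n : ℕ) :
    IsZero ((HZshLC h (n + 1)).obj F) := by
  haveI := sectSuppLC_preservesFiniteLimits h
  refine Groth.Agent.Lib.Helper16.Flasque.rightDerived_vanish (sectSuppLC h)
    (fun G : CohTop.Ab X => TopCat.Sheaf.IsFlasque G)
    (fun I hI => Groth.Agent.Lib.Helper16.Flasque.injective_isFlasque I)
    (fun S hS h1 h2 => TopCat.Sheaf.IsFlasque.of_shortExact_of_isFlasque₁₂ hS)
    (fun S hS h1 => ?_) F inferInstance n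
  haveI : TopCat.Sheaf.IsFlasque S.X₁ := h1
  exact sectSuppLC_map_epi h S hS

end Top

section Sch

variable (Y : Scheme.{u}) {V₂ V₁ : Y.Opens} (h : V₂ ≤ V₁)

/-- `toAb ∘ (j^* ⋙ Γ_Z ⋙ j_*) ≅ (restr ⋙ Γ_Z ⋙ push) ∘ toAb`, with the open of `V₁` a variable. -/
noncomputable def hfIsoAux (W : Opens (TopCat.of V₁)) (hW : W = (Y.homOfLE h).opensRange) :
    Hf V₁.ι (Y.homOfLE h) ⋙ SheafOfModules.toSheaf.{u} Y.ringCatSheaf ≅
      SheafOfModules.toSheaf.{u} Y.ringCatSheaf ⋙
        (CohTop.restrFunctor (X := Y.carrier) V₁ ⋙ LocCohZ.sectSuppF (X := TopCat.of V₁) W ⋙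
          CohTop.push (CohCx.incl (X := Y.carrier) V₁)) := by
  subst hW
  let Ef : SheafOfModules.{u} Y.ringCatSheaf ⥤ Sheaf (Opens.grothendieckTopology Y) AddCommGrpCat.{u} :=
    SheafOfModules.toSheaf Y.ringCatSheaf
  let Ef₁ : SheafOfModules.{u} V₁.toScheme.ringCatSheaf ⥤
      Sheaf (Opens.grothendieckTopology V₁.toScheme) AddCommGrpCat.{u} :=
    SheafOfModules.toSheaf V₁.toScheme.ringCatSheaf
  let R : SheafOfModules.{u} Y.ringCatSheaf ⥤ SheafOfModules.{u} V₁.toScheme.ringCatSheaf :=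
    Scheme.Modules.restrictFunctor V₁.ι
  let P : SheafOfModules.{u} V₁.toScheme.ringCatSheaf ⥤ SheafOfModules.{u} Y.ringCatSheaf :=
    Scheme.Modules.pushforward V₁.ι
  let Γm : SheafOfModules.{u} V₁.toScheme.ringCatSheaf ⥤ SheafOfModules.{u} V₁.toScheme.ringCatSheaf :=
    DCoh.gammaZ (Y.homOfLE h)
  let Γa : Sheaf (Opens.grothendieckTopology V₁.toScheme) AddCommGrpCat.{u} ⥤
      Sheaf (Opens.grothendieckTopology V₁.toScheme) AddCommGrpCat.{u} :=
    LocCohZ.sectSuppF (X := V₁.toScheme.carrier) (Y.homOfLE h).opensRange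
  let Pa : Sheaf (Opens.grothendieckTopology V₁.toScheme) AddCommGrpCat.{u} ⥤
      Sheaf (Opens.grothendieckTopology Y) AddCommGrpCat.{u} :=
    CohTop.push (CohCx.incl (X := Y.carrier) V₁)
  let Ra : Sheaf (Opens.grothendieckTopology Y) AddCommGrpCat.{u} ⥤
      Sheaf (Opens.grothendieckTopology V₁.toScheme) AddCommGrpCat.{u} :=
    CohTop.restrFunctor (X := Y.carrier) V₁
  let i1 : P ⋙ Ef ≅ Ef₁ ⋙ Pa := Iso.refl _
  let i2 : Γm ⋙ Ef₁ ≅ Ef₁ ⋙ Γa := Groth.Agent.Lib.R2H3.ModLocBridge.gammaZIso (Y.homOfLE h)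
  let i3 : R ⋙ Ef₁ ≅ Ef ⋙ Ra := Groth.Agent.Lib.Helper23.SectCmpLib.toAbOnIso V₁
  exact (Functor.isoWhiskerLeft R (Functor.isoWhiskerLeft Γm i1)) ≪≫
    (Functor.isoWhiskerLeft R (Functor.isoWhiskerRight i2 Pa)) ≪≫
    (Functor.isoWhiskerRight i3 (Γa ⋙ Pa))

/-- `toAb ∘ (j^* ⋙ Γ_Z ⋙ j_*) ≅ sectSuppLC h ∘ toAb`. -/
noncomputable def hfIso :
    Hf V₁.ι (Y.homOfLE h) ⋙ SheafOfModules.toSheaf.{u} Y.ringCatSheaf ≅
      SheafOfModules.toSheaf.{u} Y.ringCatSheaf ⋙ sectSuppLC (X := Y.carrier) h :=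
  hfIsoAux Y h (inOpen (X := Y.carrier) V₁ V₂) (Scheme.opensRange_homOfLE h).symm

/-- the underlying abelian sheaf of `R^n (j^* ⋙ Γ_Z ⋙ j_*) (M)` is `ℋ^n_Z` of the underlying abelian
sheaf of `M` (`Z = V₁ ∖ V₂` locally closed). -/
theorem nonempty_toAb_rightDerived_Hf_iso [HasInjectiveResolutions Y.Modules] (M : Y.Modules) (n : ℕ) :
    Nonempty (Coh.toAb (((Hf V₁.ι (Y.homOfLE h)).rightDerived n).obj M) ≅
      (HZshLC (X := Y.carrier) h n).obj (Coh.toAb M)) := by
  have := Groth.Agent.S0484.result (Opens.grothendieckTopology Y) Y.ringCatSheaf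
  have : EnoughInjectives Y.Modules :=
    inferInstanceAs (EnoughInjectives (SheafOfModules.{u} Y.ringCatSheaf))
  have : HasInjectiveResolutions (SheafOfModules.{u} Y.ringCatSheaf) :=
    ‹HasInjectiveResolutions Y.Modules›
  let Ef : SheafOfModules.{u} Y.ringCatSheaf ⥤ Sheaf (Opens.grothendieckTopology Y) AddCommGrpCat.{u} :=
    SheafOfModules.toSheaf Y.ringCatSheaf
  let P : SheafOfModules.{u} Y.ringCatSheaf ⥤ SheafOfModules.{u} Y.ringCatSheaf :=
    Hf V₁.ι (Y.homOfLE h)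
  have : P.Additive := inferInstanceAs (Hf V₁.ι (Y.homOfLE h)).Additive
  let G : Sheaf (Opens.grothendieckTopology Y) AddCommGrpCat.{u} ⥤
      Sheaf (Opens.grothendieckTopology Y) AddCommGrpCat.{u} :=
    sectSuppLC (X := Y.carrier) h
  have : G.Additive := inferInstanceAs (sectSuppLC (X := Y.carrier) h).Additive
  have : PreservesFiniteLimits G := sectSuppLC_preservesFiniteLimits (X := Y.carrier) h
  have hE : ∀ I : SheafOfModules.{u} Y.ringCatSheaf, Injective I → ∀ q : ℕ, 0 < q →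
      IsZero ((G.rightDerived q).obj (Ef.obj I)) := by
    intro I hI q hq
    obtain ⟨q, rfl⟩ : ∃ k, q = k + 1 := ⟨q - 1, by omega⟩
    haveI : TopCat.Sheaf.IsFlasque (Coh.toAb (X := Y) I) :=
      @Groth.Agent.Lib.R2H3.ModLocBridge.isFlasque_toAb_of_injective Y I hI
    exact isZero_HZshLC_of_isFlasque (X := Y.carrier) h (Coh.toAb (X := Y) I) q
  let e0 : P ⋙ Ef ≅ Ef ⋙ G := hfIso Y h
  obtain ⟨e3⟩ := Groth.Agent.Lib.Helper21.DerAcyc.nonempty_rightDerived_comp_iso Ef G hE M n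
  let e1 := (Groth.Agent.Lib.Helper21.DerPost.postIso P Ef n).app M
  let e2 := (Groth.Agent.Lib.Helper21.DerPost.natIsoRightDerived e0 n).app M
  exact ⟨e1.symm ≪≫ e2 ≪≫ e3⟩

end Sch

end Groth.Agent.Lib.R2H3.LocCohLCBridge
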