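import Groth.Agent.Lib.R2H2LocKoszul
import Groth.Agent.Lib.Helper16LocCohShift
import Groth.Agent.S6026

/-!
# Local cohomology sheaves: vanishing tested on a basis, and Koszul computation on affine schemes (helper3, round 2)

* `HZsh_isZero_of_basis`: `ℋ^i_Z(F) = 0` for `i < n` as soon as `H^i_{Z ∩ V}(V, F) = 0` for `i < n` and
  all `V` in a basis of the topology.
* `affine_main`: for an affine scheme `X`, global functions `fs`, `U = ⋃ X_{f_i}` and `F`
  quasi-coherent, `H^i_{X ∖ U}(X, F) ≃+ koszulHLim fs Γ(X, F) i`.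
-/

set_option autoImplicit false
set_option linter.style.haveILetI false
set_option linter.unusedSectionVars false
set_option linter.unusedVariables false
universe u

namespace Groth.Agent.Lib.R2H3.LocDepthA

open CategoryTheory CategoryTheory.Limits Opposite TopologicalSpace Abelian AlgebraicGeometry
open LocCohZ
open Groth.Agent.Lib.Helper16.LocCohShift Groth.Agent.Lib.Helper16.SectSupp

section Basis

variable {X : TopCat.{u}} (F : CohTop.Ab X) (U : Opens X)

/-- sections vanishing on `V ⊓ U` are zero if this holds on a basis -/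
lemma subsingleton_HZ_zero_of_basis (B : Set (Opens X)) (hB : Opens.IsBasis B)
    (h : ∀ V ∈ B, Subsingleton (LocCohZ.HZ F 0 (inf_le_left : V ⊓ U ≤ V))) (V : Opens X) :
    Subsingleton (LocCohZ.HZ F 0 (inf_le_left : V ⊓ U ≤ V)) := by
  rw [(LocCohZ.sect0Equiv F (inf_le_left : V ⊓ U ≤ V)).toEquiv.subsingleton_congr]
  have h0 : ∀ c : LocCohZ.sectZ F (inf_le_left : V ⊓ U ≤ V), c = 0 := by
    rintro ⟨s, hs⟩
    apply Subtype.ext
    change s = 0
    rw [AddMonoidHom.mem_ker] at hs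
    -- the cover of `V` by basis elements
    let ι := {W : Opens X // W ∈ B ∧ W ≤ V}
    let Wf : ι → Opens X := fun W => W.1
    have hcover : V ≤ iSup Wf := by
      intro x hx
      obtain ⟨W, hWB, hxW, hWV⟩ := (Opens.isBasis_iff_nbhd.mp hB) hx
      exact Opens.mem_iSup.2 ⟨⟨W, hWB, hWV⟩, hxW⟩
    refine TopCat.Sheaf.eq_of_locally_eq' F Wf V (fun W => homOfLE W.2.2) hcover s 0 ?_
    intro W
    rw [map_zero]
    haveI := h W.1 W.2.1
    have hsub : Subsingleton (LocCohZ.sectZ F (inf_le_left : W.1 ⊓ U ≤ W.1)) :=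
      (LocCohZ.sect0Equiv F (inf_le_left : W.1 ⊓ U ≤ W.1)).toEquiv.subsingleton_congr.mp
        inferInstance
    have hmem : F.obj.map (homOfLE W.2.2).op s ∈
        LocCohZ.sectZ F (inf_le_left : W.1 ⊓ U ≤ W.1) := by
      rw [AddMonoidHom.mem_ker]
      have e1 : (F.obj.map (homOfLE (inf_le_left : W.1 ⊓ U ≤ W.1)).op).hom
          (F.obj.map (homOfLE W.2.2).op s) =
          (F.obj.map (homOfLE (inf_le_inf_right U W.2.2 : W.1 ⊓ U ≤ V ⊓ U)).op).hom
            ((F.obj.map (homOfLE (inf_le_left : V ⊓ U ≤ V)).op).hom s) := by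
        change (F.obj.map _ ≫ F.obj.map _).hom s = (F.obj.map _ ≫ F.obj.map _).hom s
        rw [← F.obj.map_comp, ← F.obj.map_comp]
        rfl
      rw [e1, hs, map_zero]
    have := congrArg Subtype.val
      (Subsingleton.elim (⟨_, hmem⟩ : LocCohZ.sectZ F (inf_le_left : W.1 ⊓ U ≤ W.1)) 0)
    exact this
  exact ⟨fun a b => by rw [h0 a, h0 b]⟩

/-- `ℋ^i_Z(F) = 0` for `i < n` if `H^i_{Z ∩ V}(V, F) = 0` for `i < n` and all `V` in a basis. -/
theorem HZsh_isZero_of_basis (n : ℕ) (B : Set (Opens X)) (hB : Opens.IsBasis B)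
    (h : ∀ V ∈ B, ∀ i : ℕ, i < n → Subsingleton (LocCohZ.HZ F i (inf_le_left : V ⊓ U ≤ V))) :
    ∀ i : ℕ, i < n → IsZero ((LocCohZ.HZsh U i).obj F) := by
  intro i hi
  cases i with
  | zero =>
    exact (HZsh_zero_iff U F).2
      (subsingleton_HZ_zero_of_basis F U B hB (fun V hV => h V hV 0 hi))
  | succ k =>
    rw [HZsh_succ_iff]
    refine (TopCat.Sheaf.isLocallySurjective_iff_epi (C := AddCommGrpCat.{u})
      ((LocCohZ.sectSuppF U).map ((DD F).g k))).1 ?_
    rw [TopCat.Presheaf.isLocallySurjective_iff]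
    intro V t x hx
    obtain ⟨W, hWB, hxW, hWV⟩ := (Opens.isBasis_iff_nbhd.mp hB) hx
    have hsurj : Function.Surjective
        (((LocCohZ.sectSuppF U).map ((DD F).g k)).hom.app (op W)) :=
      (secSurj_iff U _ W).2 ((homSurj_iff U _ W).1 ((HZ_succ_iff U F k W).1 (h W hWB (k + 1) hi)))
    obtain ⟨s, hs⟩ := hsurj (((LocCohZ.sectSuppF U).obj ((DD F).Z (k + 1))).obj.map (homOfLE hWV).op t)
    exact ⟨W, hWV, ⟨s, hs⟩, hxW⟩

end Basis

section Affine

open Groth.Agent.Lib.Helper23.AffVanish Groth.Agent.Lib.R2H2.LocKoszul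

/-- Local cohomology of a quasi-coherent module on an affine scheme, with supports in the complement
of a finite union of basic opens, is direct-limit Koszul cohomology of the global sections. -/
theorem affine_main (X : Scheme.{u}) [IsAffine X] (fs : List Γ(X, ⊤)) (F : X.Modules)
    [F.IsQuasicoherent] (i : ℕ) :
    Nonempty (CohIII.koszulHLim fs (ModuleCat.of Γ(X, ⊤) (F.val.obj (op ⊤))) i ≃+
      LocCohZ.HZc (X := X.carrier) (Coh.toAb F) i
        (⨆ j : Fin fs.length, X.basicOpen (fs.get j))) := by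
  haveI hF : Coh.IsQCoh F := ‹F.IsQuasicoherent›
  let U : X.Opens := ⨆ j : Fin fs.length, X.basicOpen (fs.get j)
  have hvan : ∀ q : ℕ, Subsingleton (CohTop.HU (X := X.carrier) (Coh.toAb F) (q + 1) ⊤) :=
    fun q => subsingleton_HE_of_isAffineOpen (isAffineOpen_top X) F q
  match i with
  | 0 =>
    obtain ⟨e1⟩ := (Groth.Agent.S2442.result X fs F).1
    exact ⟨e1.symm.trans
      (LocCohZ.sect0Equiv (X := X.carrier) (Coh.toAb F) (le_top : U ≤ ⊤)).symm⟩
  | 1 =>
    obtain ⟨e1⟩ := (Groth.Agent.S2442.result X fs F).2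
    obtain ⟨e2⟩ := nonempty_coker_equiv (X := X.carrier) (Coh.toAb F) U (hvan 0)
    exact ⟨e1.symm.trans e2⟩
  | q + 2 =>
    obtain ⟨e1⟩ := Groth.Agent.S2439.result X fs
      (fun j => (isAffineOpen_top X).basicOpen (fs.get j)) F (q + 1) (by omega)
    obtain ⟨e2⟩ := Groth.Agent.Lib.Helper16.Restr.nonempty_HU_equiv (X := X.carrier) U (Coh.toAb F) (q + 1)
    let e2' : CohTop.HU (X := X.carrier) (Coh.toAb F) (q + 1) U ≃+ Coh.HHon X F U (q + 1) := e2
    let e3 := AddEquiv.ofBijective _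
      (delta_bijective (X := X.carrier) (Coh.toAb F) U (q + 1) (hvan q) (hvan (q + 1)))
    exact ⟨e1.symm.trans (e2'.symm.trans e3)⟩

end Affine

end Groth.Agent.Lib.R2H3.LocDepthA
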