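import Groth.Agent.Lib.R2H2KoszulDelta
import Groth.Agent.Lib.H9QGor726
import Groth.Agent.Lib.Helper28DepthLoc

/-!
# Vanishing of direct-limit Koszul cohomology below the depth (helper3, round 2)

`koszul_vanish_iff`: for a Noetherian ring `A`, a list `fs`, a finite `A`-module `N` and `n : ℕ`:
`koszulHLim fs N i = 0` for all `i < n` iff `depth N_p ≥ n` for all primes `p ⊇ (fs)`.
-/

set_option autoImplicit false
set_option linter.style.haveILetI false
set_option linter.unusedSectionVars false
set_option linter.unusedVariables false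
universe u

namespace Groth.Agent.Lib.R2H3.LocDepthB

open CategoryTheory

variable {A : Type u} [CommRing A] [IsNoetherianRing A] (I : Ideal A)
  (N : Type u) [AddCommGroup N] [Module A N] [Module.Finite A N]

/-- depth and vanishing of local cohomology -/
theorem natCast_le_idealDepth_iff_H (n : ℕ) :
    (n : ℕ∞) ≤ LocCoh.idealDepth I N ↔ ∀ i : ℕ, i < n → Subsingleton (LocCoh.H I i N) := by
  constructor
  · intro h i hi
    exact ⟨fun a b => by
      rw [Groth.Agent.Lib.H9QGor726.H_eq_zero_of_lt_depth' I n N h i hi a,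
        Groth.Agent.Lib.H9QGor726.H_eq_zero_of_lt_depth' I n N h i hi b]⟩
  · intro h
    by_contra hlt
    rw [not_le] at hlt
    by_cases hIM : I • (⊤ : Submodule A N) = ⊤
    · rw [Groth.Agent.Lib.Helper28.idealDepth_eq_top_of_smul_top_eq_top _ _ hIM] at hlt
      exact absurd hlt (by simp)
    · obtain ⟨m, hm⟩ : ∃ m : ℕ, LocCoh.idealDepth I N = m := by
        have hne : LocCoh.idealDepth I N ≠ ⊤ := ne_top_of_lt hlt
        exact ⟨(LocCoh.idealDepth I N).toNat, (ENat.natCast_toNat hne).symm⟩
      have hmn : m < n := by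
        rw [hm] at hlt
        exact_mod_cast hlt
      obtain ⟨y, hy⟩ := Groth.Agent.Lib.Helper8.LC.H_ne_zero_of_depth_eq I m N hIM hm
      haveI := h m hmn
      exact hy (Subsingleton.elim (α := LocCoh.H I m N) y 0)

theorem koszul_vanish_iff (fs : List A) (n : ℕ) :
    (∀ i : ℕ, i < n → Subsingleton (CohIII.koszulHLim fs (ModuleCat.of A N) i)) ↔
      ∀ p : PrimeSpectrum A, Ideal.span {a | a ∈ fs} ≤ p.asIdeal →
        (n : ℕ∞) ≤ LocCoh.depth (Localization.AtPrime p.asIdeal)
          (LocalizedModule p.asIdeal.primeCompl N) := by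
  have h1 : (∀ i : ℕ, i < n → Subsingleton (CohIII.koszulHLim fs (ModuleCat.of A N) i)) ↔
      ∀ i : ℕ, i < n → Subsingleton (LocCoh.H (Ideal.span {a | a ∈ fs}) i N) := by
    refine forall_congr' fun i => forall_congr' fun _ => ?_
    obtain ⟨e⟩ := Groth.Agent.Lib.R2H2.KoszulDelta.nonempty_linearEquiv fs N i
    exact e.symm.toEquiv.subsingleton_congr
  rw [h1, ← natCast_le_idealDepth_iff_H,
    Groth.Agent.Lib.Helper28.idealDepth_eq_iInf_depth_localization]
  simp only [le_iInf_iff]

end Groth.Agent.Lib.R2H3.LocDepthB
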