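import Groth.Agent.Lib.R2H3LocDepthA
import Groth.Agent.Lib.R2H3LocDepthB
import Groth.Agent.Lib.Helper4DimFormulaAW
import Groth.Agent.Lib.Helper23FinTypeLocal
import Groth.Agent.Lib.Helper2QCoh

/-!
# Cohomology with supports on an affine open of a locally Noetherian scheme and depth (helper3, round 2)
-/

set_option autoImplicit false
set_option linter.style.haveILetI false
set_option linter.unusedSectionVars false
set_option linter.unusedVariables false
universe u

namespace Groth.Agent.Lib.R2H3.LocDepthC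

open CategoryTheory CategoryTheory.Limits Opposite TopologicalSpace Abelian AlgebraicGeometry
open LocCohZ

variable {X : Scheme.{u}} (U : X.Opens) (M : X.Modules)

/-- excision to the open subscheme -/
theorem nonempty_HZ_equiv_restrict (V : X.Opens) (i : ℕ) (W1 : (V : Scheme.{u}).Opens)
    (hW1 : ∀ y : (V : Scheme.{u}), y ∈ W1 ↔ (V.ι y) ∈ U) :
    Nonempty (LocCohZ.HZ (X := X.carrier) (Coh.toAb M) i (inf_le_left : V ⊓ U ≤ V) ≃+
      LocCohZ.HZc (X := (V : Scheme.{u}).carrier) (Coh.toAb (M.restrict V.ι)) i W1) := by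
  obtain ⟨e, -⟩ := Groth.Agent.S6026.result (X := X.carrier) (inf_le_left : V ⊓ U ≤ V) i
  have hW : (Opens.map (CohCx.incl V)).obj (V ⊓ U) = W1 := by
    apply Opens.ext
    apply Set.ext
    intro y
    exact ⟨fun h => (hW1 y).2 h.2, fun h => ⟨y.2, (hW1 y).1 h⟩⟩
  subst hW
  exact ⟨e (Coh.toAb M)⟩

/-- a finite list of global functions on a Noetherian affine scheme cutting out a given open -/
theorem exists_list_basicOpen (Y : Scheme.{u}) [IsAffine Y] [IsNoetherianRing Γ(Y, ⊤)]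
    (W : Y.Opens) :
    ∃ fs : List Γ(Y, ⊤), (⨆ j : Fin fs.length, Y.basicOpen (fs.get j)) = W := by
  haveI : NoetherianSpace Y := noetherianSpace_of_isAffine
  have hc : IsCompact (W : Set Y) := NoetherianSpace.isCompact _
  obtain ⟨s, hs, hsW⟩ :=
    isCompact_and_isOpen_iff_finite_and_eq_biUnion_basicOpen.mp ⟨hc, W.isOpen⟩
  refine ⟨hs.toFinset.toList, ?_⟩
  apply Opens.ext
  rw [hsW]
  ext y
  simp only [Opens.coe_iSup, Set.mem_iUnion, SetLike.mem_coe]
  constructor
  · rintro ⟨j, hj⟩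
    refine ⟨hs.toFinset.toList.get j, ?_, hj⟩
    have := List.get_mem hs.toFinset.toList j
    rwa [Finset.mem_toList, Set.Finite.mem_toFinset] at this
  · rintro ⟨f, hf, hy⟩
    have hmem : f ∈ hs.toFinset.toList := by
      rwa [Finset.mem_toList, Set.Finite.mem_toFinset]
    obtain ⟨j, hj⟩ := List.mem_iff_get.1 hmem
    exact ⟨j, by rw [hj]; exact hy⟩

section Key

open Groth.Agent.Lib.Helper23.FinType Groth.Agent.Lib.Helper2.QCoh

variable [IsLocallyNoetherian X] [M.IsQuasicoherent]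
  [SheafOfModules.IsFiniteType (R := X.ringCatSheaf) M]

/-- On an affine open `V` of a locally Noetherian scheme, cohomology with supports in `V ∖ U` of a
coherent module vanishes in degrees `< n` iff the depth of the stalks at the points of `V ∖ U` is
at least `n`. -/
theorem subsingleton_HZ_iff_depth {V : X.Opens} (hV : IsAffineOpen V) (n : ℕ) :
    (∀ i : ℕ, i < n →
      Subsingleton (LocCohZ.HZ (X := X.carrier) (Coh.toAb M) i (inf_le_left : V ⊓ U ≤ V))) ↔
      ∀ x : X, x ∈ V → x ∉ U →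
        (n : ℕ∞) ≤ LocCoh.depth (X.presheaf.stalk x) (M.presheaf.stalk x) := by
  let Y : Scheme.{u} := V
  haveI : IsAffine Y := hV
  let F' : Y.Modules := M.restrict V.ι
  haveI : F'.IsQuasicoherent := Scheme.Modules.isQuasicoherent_restrictFunctor V.ι M
  let V' : X.Opens := V.ι ''ᵁ ⊤
  have hVV' : V' = V := V.ι_image_top
  have hV' : IsAffineOpen V' := by rw [hVV']; exact hV
  haveI hnoeth : IsNoetherianRing Γ(X, V') := IsLocallyNoetherian.component_noetherian ⟨V', hV'⟩
  haveI : IsNoetherianRing Γ(Y, ⊤) := hnoeth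
  haveI : Module.Finite Γ(X, V') Γ(M, V') := finite_of_isFiniteType M hV'
  obtain ⟨fs, hfs⟩ := exists_list_basicOpen Y (V.ι ⁻¹ᵁ U)
  -- step 1 + 2 : reduce to Koszul cohomology on `Y`
  have h12 : ∀ i : ℕ, Subsingleton (LocCohZ.HZ (X := X.carrier) (Coh.toAb M) i
      (inf_le_left : V ⊓ U ≤ V)) ↔
      Subsingleton (CohIII.koszulHLim fs (ModuleCat.of Γ(Y, ⊤) (F'.val.obj (op ⊤))) i) := by
    intro i
    obtain ⟨e1⟩ := nonempty_HZ_equiv_restrict U M V i (V.ι ⁻¹ᵁ U) (fun y => Iff.rfl)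
    obtain ⟨e2⟩ := Groth.Agent.Lib.R2H3.LocDepthA.affine_main Y fs F' i
    rw [hfs] at e2
    exact (e1.trans e2.symm).toEquiv.subsingleton_congr
  -- step 3 : the same Koszul cohomology, over `Γ(X, V')`
  let φ : Γ(Y, ⊤) →+* Γ(X, V') := RingHom.id _
  let fsX : List Γ(X, V') := fs.map φ
  have h3 : ∀ i : ℕ,
      Subsingleton (CohIII.koszulHLim fs (ModuleCat.of Γ(Y, ⊤) (F'.val.obj (op ⊤))) i) ↔
      Subsingleton (CohIII.koszulHLim fsX (ModuleCat.of Γ(X, V') Γ(M, V')) i) := by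
    intro i
    let e : (F'.val.obj (op ⊤)) ≃+ Γ(M, V') := AddEquiv.refl _
    have he : ∀ (a : Γ(Y, ⊤)) (x : F'.val.obj (op ⊤)), e (a • x) = φ a • e x := by
      intro a x
      have h1 : (a • x : F'.val.obj (op ⊤)) =
          (((V.ι.appIso ⊤).inv.hom a : Γ(X, V')) • (show Γ(M, V') from x) : Γ(M, V')) := rfl
      show (a • x : F'.val.obj (op ⊤)) = φ a • (show Γ(M, V') from x)
      rw [h1]
      congr 1
      rw [Scheme.Opens.ι_appIso]
      rfl
    obtain ⟨e3⟩ := Groth.Agent.Lib.R2H2.KoszulRing.nonempty_koszulHLim_addEquiv φ e he fs i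
    exact e3.toEquiv.subsingleton_congr
  -- step 4 : ring side
  have h4 := Groth.Agent.Lib.R2H3.LocDepthB.koszul_vanish_iff (A := Γ(X, V')) Γ(M, V') fsX n
  rw [show (∀ i : ℕ, i < n → Subsingleton (LocCohZ.HZ (X := X.carrier) (Coh.toAb M) i
      (inf_le_left : V ⊓ U ≤ V))) ↔ (∀ i : ℕ, i < n →
      Subsingleton (CohIII.koszulHLim fsX (ModuleCat.of Γ(X, V') Γ(M, V')) i)) from
    forall_congr' fun i => forall_congr' fun _ => (h12 i).trans (h3 i), h4]
  -- step 5 : dictionary between primes of `Γ(X, V')` and points of `V`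
  have hmemU : ∀ (x : X) (hxV : x ∈ V), x ∈ U ↔ ∃ f ∈ fsX, x ∈ X.basicOpen f := by
    intro x hxV
    obtain ⟨y, hy⟩ : ∃ y : Y, V.ι y = x := ⟨⟨x, hxV⟩, rfl⟩
    subst hy
    have h1 : V.ι y ∈ U ↔ y ∈ V.ι ⁻¹ᵁ U := Iff.rfl
    rw [h1, ← hfs, Opens.mem_iSup]
    constructor
    · rintro ⟨j, hj⟩
      refine ⟨φ (fs.get j), List.mem_map_of_mem (List.get_mem fs j), ?_⟩
      exact (Scheme.Opens.mem_basicOpen_toScheme (U := V) (V := ⊤) (r := fs.get j)
        (x := y)).1 hj
    · rintro ⟨f, hf, hxf⟩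
      obtain ⟨g, hg, rfl⟩ := List.mem_map.1 hf
      obtain ⟨j, hj⟩ := List.mem_iff_get.1 hg
      refine ⟨j, ?_⟩
      rw [hj]
      exact (Scheme.Opens.mem_basicOpen_toScheme (U := V) (V := ⊤) (r := g)
        (x := y)).2 hxf
  constructor
  · intro h x hxV hxU
    have hx' : x ∈ V' := by rw [hVV']; exact hxV
    obtain ⟨-, hd, -⟩ := Groth.Agent.Lib.Helper4.DimFormula.stalk_vs_localization hV' M x hx'
    rw [hd]
    apply h (hV'.primeIdealOf ⟨x, hx'⟩)
    rw [Ideal.span_le]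
    intro f hf
    by_contra hnot
    have hxf : x ∈ X.basicOpen f :=
      (Groth.Agent.Lib.Helper2.mem_basicOpen_iff_notMem_primeIdealOf hV' x hx' f).2 hnot
    exact hxU ((hmemU x hxV).2 ⟨f, hf, hxf⟩)
  · intro h p hp
    have hx' : hV'.fromSpec p ∈ V' := fromSpec_mem hV' p
    have hxV : hV'.fromSpec p ∈ V := by rw [← hVV']; exact hx'
    have hpx : hV'.primeIdealOf ⟨hV'.fromSpec p, hx'⟩ = p := primeIdealOf_fromSpec hV' p
    obtain ⟨-, hd, -⟩ := Groth.Agent.Lib.Helper4.DimFormula.stalk_vs_localization hV' M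
      (hV'.fromSpec p) hx'
    have hxU : hV'.fromSpec p ∉ U := by
      intro hU
      obtain ⟨f, hf, hxf⟩ := (hmemU _ hxV).1 hU
      have hnot := (Groth.Agent.Lib.Helper2.mem_basicOpen_iff_notMem_primeIdealOf hV' _ hx' f).1 hxf
      rw [hpx] at hnot
      exact hnot (hp (Ideal.subset_span hf))
    have key := h _ hxV hxU
    rw [hd] at key
    revert key
    rw [hpx]
    exact id

end Key

end Groth.Agent.Lib.R2H3.LocDepthC
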