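import Groth.Agent.Lib.R2H3LocDepthC
import Groth.Agent.S0380
import Groth.Agent.S0325
import Groth.Agent.Lib.R2H2KoszulUnit

/-!
# Local cohomology sheaves in a single degree; cohomological dimension from local dimensions (helper3, round 2)

* `HZsh_isZero_of_basis_single`: `ℋ^i_Z(F) = 0` if `H^i_{Z ∩ V}(V, F) = 0` for all `V` in a basis.
* `exists_koszul_description`: on an affine open `V` of a locally Noetherian scheme, cohomology with
  supports in `V ∖ U` of a quasi-coherent module is direct-limit Koszul cohomology of `Γ(M, V)`.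
* `cdLE_of_dim`: `cd(A, I) ≤ d` if `dim A_p ≤ d` for all primes `p ⊇ I`.
-/

set_option autoImplicit false
set_option linter.style.haveILetI false
set_option linter.unusedSectionVars false
set_option linter.unusedVariables false
universe u

namespace Groth.Agent.Lib.R2H3.LocDepthD

open CategoryTheory CategoryTheory.Limits Opposite TopologicalSpace Abelian AlgebraicGeometry
open LocCohZ

section Basis

open Groth.Agent.Lib.Helper16.LocCohShift Groth.Agent.Lib.Helper16.SectSupp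

variable {X : TopCat.{u}} (F : CohTop.Ab X) (U : Opens X)

/-- `ℋ^i_Z(F) = 0` if `H^i_{Z ∩ V}(V, F) = 0` for all `V` in a basis. -/
theorem HZsh_isZero_of_basis_single (i : ℕ) (B : Set (Opens X)) (hB : Opens.IsBasis B)
    (h : ∀ V ∈ B, Subsingleton (LocCohZ.HZ F i (inf_le_left : V ⊓ U ≤ V))) :
    IsZero ((LocCohZ.HZsh U i).obj F) := by
  cases i with
  | zero =>
    exact (HZsh_zero_iff U F).2
      (Groth.Agent.Lib.R2H3.LocDepthA.subsingleton_HZ_zero_of_basis F U B hB h)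
  | succ k =>
    rw [HZsh_succ_iff]
    refine (TopCat.Sheaf.isLocallySurjective_iff_epi (C := AddCommGrpCat.{u})
      ((LocCohZ.sectSuppF U).map ((DD F).g k))).1 ?_
    rw [TopCat.Presheaf.isLocallySurjective_iff]
    intro V t x hx
    obtain ⟨W, hWB, hxW, hWV⟩ := (Opens.isBasis_iff_nbhd.mp hB) hx
    have hsurj : Function.Surjective
        (((LocCohZ.sectSuppF U).map ((DD F).g k)).hom.app (op W)) :=
      (secSurj_iff U _ W).2 ((homSurj_iff U _ W).1 ((HZ_succ_iff U F k W).1 (h W hWB)))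
    obtain ⟨s, hs⟩ := hsurj (((LocCohZ.sectSuppF U).obj ((DD F).Z (k + 1))).obj.map (homOfLE hWV).op t)
    exact ⟨W, hWV, ⟨s, hs⟩, hxW⟩

end Basis

section Koszul

open Groth.Agent.Lib.Helper23.FinType Groth.Agent.Lib.Helper2.QCoh
open Groth.Agent.Lib.R2H3.LocDepthC

variable {X : Scheme.{u}} (U : X.Opens) (M : X.Modules) [IsLocallyNoetherian X] [M.IsQuasicoherent]

/-- Koszul description of cohomology with supports on an affine open. -/
theorem exists_koszul_description {V : X.Opens} (hV : IsAffineOpen V) :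
    ∃ fsX : List Γ(X, V.ι ''ᵁ ⊤),
      (∀ x : X, x ∈ V → (x ∈ U ↔ ∃ f ∈ fsX, x ∈ X.basicOpen f)) ∧
      ∀ i : ℕ, Subsingleton (LocCohZ.HZ (X := X.carrier) (Coh.toAb M) i
          (inf_le_left : V ⊓ U ≤ V)) ↔
        Subsingleton (CohIII.koszulHLim fsX
          (ModuleCat.of Γ(X, V.ι ''ᵁ ⊤) Γ(M, V.ι ''ᵁ ⊤)) i) := by
  let Y : Scheme.{u} := V
  haveI : IsAffine Y := hV
  let F' : Y.Modules := M.restrict V.ι
  haveI : F'.IsQuasicoherent := Scheme.Modules.isQuasicoherent_restrictFunctor V.ι M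
  let V' : X.Opens := V.ι ''ᵁ ⊤
  have hVV' : V' = V := V.ι_image_top
  have hV' : IsAffineOpen V' := by rw [hVV']; exact hV
  haveI hnoeth : IsNoetherianRing Γ(X, V') := IsLocallyNoetherian.component_noetherian ⟨V', hV'⟩
  haveI : IsNoetherianRing Γ(Y, ⊤) := hnoeth
  obtain ⟨fs, hfs⟩ := exists_list_basicOpen Y (V.ι ⁻¹ᵁ U)
  have h12 : ∀ i : ℕ, Subsingleton (LocCohZ.HZ (X := X.carrier) (Coh.toAb M) i
      (inf_le_left : V ⊓ U ≤ V)) ↔
      Subsingleton (CohIII.koszulHLim fs (ModuleCat.of Γ(Y, ⊤) (F'.val.obj (op ⊤))) i) := by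
    intro i
    obtain ⟨e1⟩ := nonempty_HZ_equiv_restrict U M V i (V.ι ⁻¹ᵁ U) (fun y => Iff.rfl)
    obtain ⟨e2⟩ := Groth.Agent.Lib.R2H3.LocDepthA.affine_main Y fs F' i
    rw [hfs] at e2
    exact (e1.trans e2.symm).toEquiv.subsingleton_congr
  let φ : Γ(Y, ⊤) →+* Γ(X, V') := RingHom.id _
  let fsX : List Γ(X, V') := fs.map φ
  have h3 : ∀ i : ℕ,
      Subsingleton (CohIII.koszulHLim fs (ModuleCat.of Γ(Y, ⊤) (F'.val.obj (op ⊤))) i) ↔
      Subsingleton (CohIII.koszulHLim fsX (ModuleCat.of Γ(X, V') Γ(M, V')) i) := by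
    intro i
    let e : (F'.val.obj (op ⊤)) ≃+ Γ(M, V') := AddEquiv.refl _
    have he : ∀ (a : Γ(Y, ⊤)) (x : F'.val.obj (op ⊤)), e (a • x) = φ a • e x := by
      intro a x
      have h1 : (a • x : F'.val.obj (op ⊤)) =
          (((V.ι.appIso ⊤).inv.hom a : Γ(X, V')) • (show Γ(M, V') from x) : Γ(M, V')) := rfl
      show (a • x : F'.val.obj (op ⊤)) = φ a • (show Γ(M, V') from x)
      rw [h1]
      congr 1
      rw [Scheme.Opens.ι_appIso]
      rfl
    obtain ⟨e3⟩ := Groth.Agent.Lib.R2H2.KoszulRing.nonempty_koszulHLim_addEquiv φ e he fs i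
    exact e3.toEquiv.subsingleton_congr
  refine ⟨fsX, ?_, fun i => (h12 i).trans (h3 i)⟩
  intro x hxV
  obtain ⟨y, hy⟩ : ∃ y : Y, V.ι y = x := ⟨⟨x, hxV⟩, rfl⟩
  subst hy
  have h1 : V.ι y ∈ U ↔ y ∈ V.ι ⁻¹ᵁ U := Iff.rfl
  rw [h1, ← hfs, Opens.mem_iSup]
  constructor
  · rintro ⟨j, hj⟩
    refine ⟨φ (fs.get j), List.mem_map_of_mem (List.get_mem fs j), ?_⟩
    exact (Scheme.Opens.mem_basicOpen_toScheme (U := V) (V := ⊤) (r := fs.get j)
      (x := y)).1 hj
  · rintro ⟨f, hf, hxf⟩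
    obtain ⟨g, hg, rfl⟩ := List.mem_map.1 hf
    obtain ⟨j, hj⟩ := List.mem_iff_get.1 hg
    refine ⟨j, ?_⟩
    rw [hj]
    exact (Scheme.Opens.mem_basicOpen_toScheme (U := V) (V := ⊤) (r := g)
      (x := y)).2 hxf

end Koszul

section Cd

variable (A : Type u) [CommRing A] [IsNoetherianRing A]

/-- local cohomology with support in the unit ideal vanishes -/
theorem cdLE_top (d : ℕ) : LocCoh.CdLE A (⊤ : Ideal A) d := by
  intro M _ _ j hj
  have htop : Ideal.span {a : A | a ∈ [(1 : A)]} = ⊤ := by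
    rw [Ideal.eq_top_iff_one]
    exact Ideal.subset_span (by simp)
  obtain ⟨e⟩ := Groth.Agent.Lib.R2H2.KoszulDelta.nonempty_linearEquiv [(1 : A)] M j
  rw [htop] at e
  haveI := Groth.Agent.Lib.R2H2.KoszulUnit.subsingleton_koszulHLim_of_span_eq_top [(1 : A)] htop M j
  exact e.toEquiv.subsingleton

/-- `cd(A, I) ≤ d` if `dim A_p ≤ d` for all primes `p ⊇ I`. -/
theorem cdLE_of_dim (I : Ideal A) (d : ℕ)
    (h : ∀ (p : Ideal A) [p.IsPrime], I ≤ p → ringKrullDim (Localization.AtPrime p) ≤ d) :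
    LocCoh.CdLE A I d := by
  rw [Groth.Agent.S0380.result]
  intro p hp
  by_cases hIp : I ≤ p
  · exact Groth.Agent.S0325.result _ _ d (h p hIp)
  · obtain ⟨a, haI, hap⟩ := SetLike.not_le_iff_exists.mp hIp
    have hu : IsUnit (algebraMap A (Localization.AtPrime p) a) :=
      IsLocalization.map_units (Localization.AtPrime p) (⟨a, hap⟩ : p.primeCompl)
    have htop : I.map (algebraMap A (Localization.AtPrime p)) = ⊤ :=
      Ideal.eq_top_of_isUnit_mem _ (Ideal.mem_map_of_mem _ haI) hu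
    rw [htop]
    exact cdLE_top _ d

end Cd

end Groth.Agent.Lib.R2H3.LocDepthD
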