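import Mathlib
import Groth.Agent.Lib.Helper20LocFree

/-!
# Local freeness with rank control (helper3, round 2)

A quasi-coherent module whose sections over an affine open are stably free (`M' × R^a ≃ R^b`) is free of rank
`b - a` on a neighbourhood of every point of that affine open.
-/

set_option autoImplicit false
set_option linter.style.haveILetI false
universe u
open CategoryTheory AlgebraicGeometry Limits TensorProduct Opposite TopologicalSpace
open Groth.Agent.Lib.Helper20.Thickening Groth.Agent.Lib.Helper20.PullbackAff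
  Groth.Agent.Lib.Helper20.OmegaAff Groth.Agent.Lib.Helper20.LocFree

namespace Groth.Agent.Lib.R2H3.LocFreeRank

section alg

variable {R : Type u} [CommRing R] (P : Type u) [AddCommGroup P] [Module R P] {a b : ℕ}
  (e : (P × (Fin a → R)) ≃ₗ[R] (Fin b → R))

include e in
theorem finite_of_stablyFree : Module.Finite R P :=
  Module.Finite.of_surjective ((LinearMap.fst R P (Fin a → R)).comp e.symm.toLinearMap)
    (fun p => ⟨e (p, 0), by simp⟩)

include e in
theorem projective_of_stablyFree : Module.Projective R P :=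
  Module.Projective.of_split (e.toLinearMap.comp (LinearMap.inl R P (Fin a → R)))
    ((LinearMap.fst R P (Fin a → R)).comp e.symm.toLinearMap) (by ext p; simp)

include e in
/-- rank of a free base change of a stably free module. -/
theorem finrank_tensor_of_stablyFree (S : Type u) [CommRing S] [Algebra R S] [Nontrivial S]
    [Module.Free S (S ⊗[R] P)] : Module.finrank S (S ⊗[R] P) + a = b := by
  haveI := finite_of_stablyFree P e
  have e1 : (S ⊗[R] (P × (Fin a → R))) ≃ₗ[S] (S ⊗[R] (Fin b → R)) :=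
    TensorProduct.AlgebraTensorModule.congr (LinearEquiv.refl S S) e
  have e2 : (S ⊗[R] (P × (Fin a → R))) ≃ₗ[S] ((S ⊗[R] P) × (S ⊗[R] (Fin a → R))) :=
    TensorProduct.prodRight R S S P (Fin a → R)
  have ha : Module.finrank S (S ⊗[R] (Fin a → R)) = a := by
    rw [(TensorProduct.piScalarRight R S S (Fin a)).finrank_eq, Module.finrank_fin_fun]
  have hb : Module.finrank S (S ⊗[R] (Fin b → R)) = b := by
    rw [(TensorProduct.piScalarRight R S S (Fin b)).finrank_eq, Module.finrank_fin_fun]
  haveI : Module.Free S (S ⊗[R] (Fin a → R)) :=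
    Module.Free.of_equiv (TensorProduct.piScalarRight R S S (Fin a)).symm
  haveI : Module.Finite S (S ⊗[R] (Fin a → R)) :=
    Module.Finite.equiv (TensorProduct.piScalarRight R S S (Fin a)).symm
  have h1 := (e2.symm.trans e1).finrank_eq
  rw [Module.finrank_prod, ha, hb] at h1
  exact h1

end alg

variable {X : Scheme.{u}} (M : X.Modules) [M.IsQuasicoherent] {U : X.Opens} (hU : IsAffineOpen U)

/-- a quasi-coherent module whose sections over an affine open `U` are stably free, `M' × R^a ≃ R^b`, is free of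
rank `m` with `m + a = b` on a neighbourhood of every point of `U`. -/
theorem exists_restrict_iso_freeMod_of_stablyFree {a b : ℕ}
    (e : (((ΓUF hU).obj M) × (Fin a → Γ(X, U))) ≃ₗ[Γ(X, U)] (Fin b → Γ(X, U))) (x : X) (hxU : x ∈ U) :
    ∃ (D : X.Opens) (m : ℕ), x ∈ D ∧ D ≤ U ∧
      Nonempty (M.restrict D.ι ≅ FlatMod.freeMod (D : Scheme.{u}) m) ∧ m + a = b := by
  haveI := finite_of_stablyFree _ e
  haveI := projective_of_stablyFree _ e
  haveI : Module.FinitePresentation Γ(X, U) ((ΓUF hU).obj M) :=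
    Module.finitePresentation_of_projective _ _
  obtain ⟨f, hf, hfree⟩ := exists_free_tensor_away ((ΓUF hU).obj M) (hU.primeIdealOf ⟨x, hxU⟩)
  have hD : IsAffineOpen (X.basicOpen f) := hU.basicOpen f
  have hxD : x ∈ X.basicOpen f :=
    (Groth.Agent.Lib.Helper2.mem_basicOpen_iff_notMem_primeIdealOf hU x hxU f).2 hf
  have hle : X.basicOpen f ≤ (𝟙 X) ⁻¹ᵁ U := X.basicOpen_le f
  letI : Algebra Γ(X, U) Γ(X, X.basicOpen f) :=
    (Scheme.Hom.appLE (𝟙 X) U (X.basicOpen f) hle).hom.toAlgebra
  haveI : Nonempty (X.basicOpen f) := ⟨⟨x, hxD⟩⟩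
  haveI : Nontrivial Γ(X, X.basicOpen f) := inferInstance
  haveI : IsLocalization.Away f Γ(X, X.basicOpen f) := by
    convert hU.isLocalization_basicOpen f using 1
    change RingHom.toAlgebra _ = RingHom.toAlgebra _
    congr 1
  haveI : Module.Free Γ(X, X.basicOpen f) (Γ(X, X.basicOpen f) ⊗[Γ(X, U)] ((ΓUF hU).obj M)) :=
    free_tensor_of_away f _ hfree
  let e₁ : (ΓUF hD).obj ((Scheme.Modules.pullback (𝟙 X)).obj M) ≃ₗ[Γ(X, X.basicOpen f)]
      (Γ(X, X.basicOpen f) ⊗[Γ(X, U)] ((ΓUF hU).obj M)) :=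
    (ΓUFPullbackIso (𝟙 X) hU hD hle M).toLinearEquiv
  let e' : (ΓUF hD).obj ((Scheme.Modules.pullback (𝟙 X)).obj M) ≃ₗ[Γ(X, X.basicOpen f)] (ΓUF hD).obj M :=
    ((ΓUF hD).mapIso ((Scheme.Modules.pullbackId X).app M)).toLinearEquiv
  haveI : Module.Free Γ(X, X.basicOpen f) ((ΓUF hD).obj M) := Module.Free.of_equiv (e₁.symm.trans e')
  haveI : Module.Finite Γ(X, X.basicOpen f) ((ΓUF hD).obj M) := Module.Finite.equiv (e₁.symm.trans e')
  refine ⟨X.basicOpen f, _, hxD, X.basicOpen_le f,
    ⟨restrictIsoFreeMod' M hD (Module.finBasis Γ(X, X.basicOpen f) ((ΓUF hD).obj M))⟩, ?_⟩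
  rw [← (e₁.symm.trans e').finrank_eq]
  exact finrank_tensor_of_stablyFree _ e Γ(X, X.basicOpen f)

end Groth.Agent.Lib.R2H3.LocFreeRank
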