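import Groth.Agent.Lib.R2H3LocDepthD
import Groth.Agent.Lib.Helper21KoszulDepth

/-!
# Koszul description of cohomology with supports on affine opens, general schemes (helper3, round 2)

* `subsingleton_koszulHLim_of_length_lt`: direct-limit Koszul cohomology vanishes above the number of
  elements.
* `nonempty_HZ_equiv_koszulHLim`: on an affine open `V`, cohomology with supports in `V ∖ U` of a
  quasi-coherent module is direct-limit Koszul cohomology with respect to any finite list of functions
  on `V` whose basic opens cover `V ∩ U`.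
* `subsingleton_HZ_of_finset`: vanishing above the number of equations.
-/

set_option autoImplicit false
set_option linter.style.haveILetI false
set_option linter.unusedSectionVars false
set_option linter.unusedVariables false
universe u

namespace Groth.Agent.Lib.R2H3.LocKoszulGen

open CategoryTheory CategoryTheory.Limits Opposite TopologicalSpace Abelian AlgebraicGeometry
open LocCohZ

section Alg

variable {A : Type u} [CommRing A]

theorem subsingleton_koszulHLim_of_length_lt (fs : List A) (M : ModuleCat.{u} A) (p : ℕ)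
    (h : fs.length < p) : Subsingleton (CohIII.koszulHLim fs M p) := by
  have hz : ∀ n : ℕ, Subsingleton (CohIII.koszulHPow fs M p n : Type u) := by
    intro n
    have h1 : IsZero ((CohIII.koszulCx M (fs.map (· ^ n))).X ((p : ℤ) - fs.length)) :=
      Groth.Agent.Lib.Helper21.isZero_koszulCx_X_pos M _ _ (by omega)
    have h2 : IsZero ((CohIII.koszulCx M (fs.map (· ^ n))).homology ((p : ℤ) - fs.length)) :=
      ShortComplex.isZero_homology_of_isZero_X₂
        (S := (CohIII.koszulCx M (fs.map (· ^ n))).sc ((p : ℤ) - fs.length)) h1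
    exact ModuleCat.subsingleton_of_isZero h2
  refine ⟨fun a b => ?_⟩
  have h0 : ∀ z : CohIII.koszulHLim fs M p, z = 0 := by
    intro z
    obtain ⟨n, x, rfl⟩ := Module.DirectLimit.exists_of z
    haveI := hz n
    exact (congrArg _ (Subsingleton.elim x 0)).trans (map_zero _)
  rw [h0 a, h0 b]

end Alg

section Sch

open Groth.Agent.Lib.R2H3.LocDepthC

variable {X : Scheme.{u}} (U : X.Opens) (M : X.Modules) [M.IsQuasicoherent]

/-- Koszul description of cohomology with supports on an affine open, for a given list of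
functions. -/
theorem nonempty_HZ_equiv_koszulHLim {V : X.Opens} (hV : IsAffineOpen V)
    (fs : List Γ((V : Scheme.{u}), ⊤))
    (hfs : (⨆ j : Fin fs.length, (V : Scheme.{u}).basicOpen (fs.get j)) = V.ι ⁻¹ᵁ U) (i : ℕ) :
    Nonempty (LocCohZ.HZ (X := X.carrier) (Coh.toAb M) i (inf_le_left : V ⊓ U ≤ V) ≃+
      CohIII.koszulHLim fs (ModuleCat.of Γ((V : Scheme.{u}), ⊤)
        ((M.restrict V.ι).val.obj (op ⊤))) i) := by
  let Y : Scheme.{u} := V
  haveI : IsAffine Y := hV
  let F' : Y.Modules := M.restrict V.ι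
  haveI : F'.IsQuasicoherent := Scheme.Modules.isQuasicoherent_restrictFunctor V.ι M
  obtain ⟨e1⟩ := nonempty_HZ_equiv_restrict U M V i (V.ι ⁻¹ᵁ U) (fun y => Iff.rfl)
  obtain ⟨e2⟩ := Groth.Agent.Lib.R2H3.LocDepthA.affine_main Y fs F' i
  rw [hfs] at e2
  exact ⟨e1.trans e2.symm⟩

/-- vanishing of cohomology with supports above the number of equations. -/
theorem subsingleton_HZ_of_finset {V W : X.Opens} (hW : IsAffineOpen W) (hWV : W ≤ V)
    (fs : Finset Γ(X, V))
    (hz : X.zeroLocus (U := V) (↑fs : Set Γ(X, V)) ∩ (V : Set ↥X) = (U : Set ↥X)ᶜ ∩ (V : Set ↥X))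
    (i : ℕ) (hi : fs.card < i) :
    Subsingleton (LocCohZ.HZ (X := X.carrier) (Coh.toAb M) i (inf_le_left : W ⊓ U ≤ W)) := by
  let Y : Scheme.{u} := W
  let W' : X.Opens := W.ι ''ᵁ ⊤
  have hWW' : W' = W := W.ι_image_top
  have hW'V : W' ≤ V := hWW'.le.trans hWV
  let ρ : Γ(X, V) →+* Γ(Y, ⊤) := (X.presheaf.map (homOfLE hW'V).op).hom
  let l : List Γ(Y, ⊤) := fs.toList.map ρ
  have hl : (⨆ j : Fin l.length, Y.basicOpen (l.get j)) = W.ι ⁻¹ᵁ U := by
    apply Opens.ext
    ext y
    simp only [Opens.coe_iSup, Set.mem_iUnion, SetLike.mem_coe]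
    have hyV : W.ι y ∈ V := hWV y.2
    have hyW' : W.ι y ∈ W' := by rw [hWW']; exact y.2
    have hU : W.ι y ∈ U ↔ ∃ f ∈ fs, W.ι y ∈ X.basicOpen f := by
      have h1 : W.ι y ∈ X.zeroLocus (U := V) (↑fs : Set Γ(X, V)) ∩ (V : Set ↥X) ↔
          W.ι y ∈ (U : Set ↥X)ᶜ ∩ (V : Set ↥X) := by rw [hz]
      simp only [Set.mem_inter_iff, Scheme.mem_zeroLocus_iff, Set.mem_compl_iff, SetLike.mem_coe,
        hyV, and_true] at h1
      constructor
      · intro hyU
        by_contra hne
        push Not at hne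
        exact (h1.1 hne) hyU
      · rintro ⟨f, hf, hyf⟩
        by_contra hyU
        exact (h1.2 hyU) f hf hyf
    have hb : ∀ f : Γ(X, V), y ∈ Y.basicOpen (ρ f) ↔ W.ι y ∈ X.basicOpen f := by
      intro f
      refine (Scheme.Opens.mem_basicOpen_toScheme (U := W) (V := ⊤) (r := ρ f) (x := y)).trans ?_
      change W.ι y ∈ X.basicOpen (X.presheaf.map (homOfLE hW'V).op f) ↔ _
      rw [Scheme.basicOpen_res]
      exact ⟨fun h => h.2, fun h => ⟨hyW', h⟩⟩
    constructor
    · rintro ⟨j, hj⟩
      have hmem : l.get j ∈ l := List.get_mem l j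
      obtain ⟨f, hf, hfe⟩ := List.mem_map.1 hmem
      rw [← hfe] at hj
      exact hU.2 ⟨f, Finset.mem_toList.1 hf, (hb f).1 hj⟩
    · intro hyU
      obtain ⟨f, hf, hyf⟩ := hU.1 hyU
      have hmem : ρ f ∈ l := List.mem_map.2 ⟨f, Finset.mem_toList.2 hf, rfl⟩
      obtain ⟨j, hj⟩ := List.mem_iff_get.1 hmem
      exact ⟨j, by rw [hj]; exact (hb f).2 hyf⟩
  obtain ⟨e⟩ := nonempty_HZ_equiv_koszulHLim U M hW l hl i
  have hlen : l.length < i := by
    change (fs.toList.map ρ).length < i
    rw [List.length_map, Finset.length_toList]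
    exact hi
  haveI := subsingleton_koszulHLim_of_length_lt l
    (ModuleCat.of Γ(Y, ⊤) ((M.restrict W.ι).val.obj (op ⊤))) i hlen
  exact e.toEquiv.subsingleton

end Sch

end Groth.Agent.Lib.R2H3.LocKoszulGen
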