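import Groth.Agent.Lib.R2H3LocKoszulGen
import Groth.Agent.Lib.R2H3KzPow
import Groth.Agent.Lib.Helper2LocFree

/-!
# Cohomology with supports cut out by a Koszul-regular sequence, flat coefficients (helper3, round 2)

* `isKoszulRegularSeq_map_of_flat`: flat ring maps preserve Koszul-regular sequences.
* `flat_presheaf_map`: restriction maps between affine opens are flat.
* `iSup_basicOpen_eq_of_list`: translation of the zero-locus condition to the open subscheme.
* `subsingleton_HZ_of_list`: vanishing above the number of equations (list form).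
* `subsingleton_HZ_of_koszulRegular`: vanishing outside degree `c` for a Koszul-regular sequence of
  length `c` and a flat quasi-coherent module.
-/

set_option autoImplicit false
set_option linter.style.haveILetI false
set_option linter.unusedSectionVars false
set_option linter.unusedVariables false
universe u

namespace Groth.Agent.Lib.R2H3.LocKoszulReg

open CategoryTheory CategoryTheory.Limits Opposite TopologicalSpace Abelian AlgebraicGeometry
open LocCohZ

section Alg

open TensorProduct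

variable {S T : Type u} [CommRing S] [CommRing T]

theorem isKoszulRegularSeq_map_of_flat (φ : S →+* T) (hφ : φ.Flat) (l : List S)
    (h : LCI.IsKoszulRegularSeq S l) : LCI.IsKoszulRegularSeq T (l.map φ) := by
  rw [Groth.Agent.Lib.R2H3.KzFBC.isKoszulRegularSeq_map_iff φ hφ l]
  intro i hi
  letI := φ.toAlgebra
  haveI : Subsingleton ((CohIII.koszulCx (ModuleCat.of S S) l).homology i) :=
    ModuleCat.subsingleton_of_isZero ((Groth.Agent.Lib.R2H3.KzPow.isKoszulRegularSeq_iff l).1 h i hi)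
  infer_instance

end Alg

section Sch

open Groth.Agent.Lib.R2H3.LocDepthC Groth.Agent.Lib.R2H3.LocKoszulGen

variable {X : Scheme.{u}}

/-- restriction maps between affine opens are flat (for the image of the top open of the open
subscheme). -/
theorem flat_presheaf_map {V W : X.Opens} (hV : IsAffineOpen V) (hW : IsAffineOpen W)
    (h : W.ι ''ᵁ ⊤ ≤ V) : (X.presheaf.map (homOfLE h).op).hom.Flat := by
  haveI : IsAffine (W : Scheme.{u}) := hW
  have e : (⊤ : (W : Scheme.{u}).Opens) ≤ W.ι ⁻¹ᵁ V := by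
    intro y _
    exact h ⟨y, trivial, rfl⟩
  have h1 := Scheme.Hom.flat_appLE W.ι hV (isAffineOpen_top (W : Scheme.{u})) e
  rw [Scheme.Opens.ι_appLE] at h1
  exact h1

variable (U : X.Opens)

/-- translation of the zero-locus condition to an affine open contained in `V`. -/
theorem iSup_basicOpen_eq_of_list {V W : X.Opens} (hWV : W ≤ V) (fs : List Γ(X, V))
    (hz : X.zeroLocus (U := V) {a | a ∈ fs} ∩ (V : Set ↥X) = (U : Set ↥X)ᶜ ∩ (V : Set ↥X))
    (hW'V : W.ι ''ᵁ ⊤ ≤ V) (l : List Γ((W : Scheme.{u}), ⊤))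
    (hl : l = fs.map (X.presheaf.map (homOfLE hW'V).op).hom) :
    (⨆ j : Fin l.length, (W : Scheme.{u}).basicOpen (l.get j)) = W.ι ⁻¹ᵁ U := by
  subst hl
  let Y : Scheme.{u} := W
  let W' : X.Opens := W.ι ''ᵁ ⊤
  have hWW' : W' = W := W.ι_image_top
  let ρ : Γ(X, V) →+* Γ(Y, ⊤) := (X.presheaf.map (homOfLE hW'V).op).hom
  apply Opens.ext
  ext y
  simp only [Opens.coe_iSup, Set.mem_iUnion, SetLike.mem_coe]
  have hyV : W.ι y ∈ V := hWV y.2
  have hyW' : W.ι y ∈ W' := by rw [hWW']; exact y.2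
  have hU : W.ι y ∈ U ↔ ∃ f ∈ fs, W.ι y ∈ X.basicOpen f := by
    have h1 : W.ι y ∈ X.zeroLocus (U := V) {a | a ∈ fs} ∩ (V : Set ↥X) ↔
        W.ι y ∈ (U : Set ↥X)ᶜ ∩ (V : Set ↥X) := by rw [hz]
    simp only [Set.mem_inter_iff, Scheme.mem_zeroLocus_iff, Set.mem_compl_iff, SetLike.mem_coe,
      hyV, and_true, Set.mem_ofPred_eq] at h1
    constructor
    · intro hyU
      by_contra hne
      push Not at hne
      exact (h1.1 hne) hyU
    · rintro ⟨f, hf, hyf⟩
      by_contra hyU
      exact (h1.2 hyU) f hf hyf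
  have hb : ∀ f : Γ(X, V), y ∈ Y.basicOpen (ρ f) ↔ W.ι y ∈ X.basicOpen f := by
    intro f
    refine (Scheme.Opens.mem_basicOpen_toScheme (U := W) (V := ⊤) (r := ρ f) (x := y)).trans ?_
    change W.ι y ∈ X.basicOpen (X.presheaf.map (homOfLE hW'V).op f) ↔ _
    rw [Scheme.basicOpen_res]
    exact ⟨fun h => h.2, fun h => ⟨hyW', h⟩⟩
  constructor
  · rintro ⟨j, hj⟩
    have hmem : (fs.map ρ).get j ∈ fs.map ρ := List.get_mem _ j
    obtain ⟨f, hf, hfe⟩ := List.mem_map.1 hmem
    have hj' : y ∈ Y.basicOpen ((fs.map ρ).get j) := hj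
    rw [← hfe] at hj'
    exact hU.2 ⟨f, hf, (hb f).1 hj'⟩
  · intro hyU
    obtain ⟨f, hf, hyf⟩ := hU.1 hyU
    have hmem : ρ f ∈ fs.map ρ := List.mem_map.2 ⟨f, hf, rfl⟩
    obtain ⟨j, hj⟩ := List.mem_iff_get.1 hmem
    refine ⟨j, ?_⟩
    change y ∈ Y.basicOpen ((fs.map ρ).get j)
    rw [hj]
    exact (hb f).2 hyf

variable (M : X.Modules) [M.IsQuasicoherent]

/-- vanishing of cohomology with supports above the number of equations, list form. -/
theorem subsingleton_HZ_of_list {V W : X.Opens} (hW : IsAffineOpen W) (hWV : W ≤ V)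
    (fs : List Γ(X, V))
    (hz : X.zeroLocus (U := V) {a | a ∈ fs} ∩ (V : Set ↥X) = (U : Set ↥X)ᶜ ∩ (V : Set ↥X))
    (i : ℕ) (hi : fs.length < i) :
    Subsingleton (LocCohZ.HZ (X := X.carrier) (Coh.toAb M) i (inf_le_left : W ⊓ U ≤ W)) := by
  let Y : Scheme.{u} := W
  have hW'V : W.ι ''ᵁ ⊤ ≤ V := (W.ι_image_top).le.trans hWV
  let l : List Γ(Y, ⊤) := fs.map (X.presheaf.map (homOfLE hW'V).op).hom
  have hl := iSup_basicOpen_eq_of_list U hWV fs hz hW'V l rfl
  obtain ⟨e⟩ := nonempty_HZ_equiv_koszulHLim U M hW l hl i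
  have hlen : l.length < i := by
    change (fs.map _).length < i
    rw [List.length_map]
    exact hi
  haveI := subsingleton_koszulHLim_of_length_lt l
    (ModuleCat.of Γ(Y, ⊤) ((M.restrict W.ι).val.obj (op ⊤))) i hlen
  exact e.toEquiv.subsingleton

/-- vanishing of cohomology with supports below the length of a Koszul-regular sequence, for flat
quasi-coherent modules. -/
theorem subsingleton_HZ_of_koszulRegular {V W : X.Opens} (hV : IsAffineOpen V)
    (hW : IsAffineOpen W) (hWV : W ≤ V) (fs : List Γ(X, V))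
    (hreg : LCI.IsKoszulRegularSeq Γ(X, V) fs)
    (hz : X.zeroLocus (U := V) {a | a ∈ fs} ∩ (V : Set ↥X) = (U : Set ↥X)ᶜ ∩ (V : Set ↥X))
    (hFl : FlatMod.IsFlat M) (i : ℕ) (hi : i < fs.length) :
    Subsingleton (LocCohZ.HZ (X := X.carrier) (Coh.toAb M) i (inf_le_left : W ⊓ U ≤ W)) := by
  let Y : Scheme.{u} := W
  let W' : X.Opens := W.ι ''ᵁ ⊤
  have hWW' : W' = W := W.ι_image_top
  have hW' : IsAffineOpen W' := by rw [hWW']; exact hW
  have hW'V : W' ≤ V := hWW'.le.trans hWV
  let ρ : Γ(X, V) →+* Γ(X, W') := (X.presheaf.map (homOfLE hW'V).op).hom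
  have hρ : ρ.Flat := flat_presheaf_map hV hW hW'V
  let l : List Γ(Y, ⊤) := fs.map (X.presheaf.map (homOfLE hW'V).op).hom
  have hl := iSup_basicOpen_eq_of_list U hWV fs hz hW'V l rfl
  obtain ⟨e⟩ := nonempty_HZ_equiv_koszulHLim U M hW l hl i
  -- the same Koszul cohomology over `Γ(X, W')`
  let F' : Y.Modules := M.restrict W.ι
  let φ : Γ(Y, ⊤) →+* Γ(X, W') := RingHom.id _
  let lX : List Γ(X, W') := l.map φ
  let e0 : (F'.val.obj (op ⊤)) ≃+ Γ(M, W') := AddEquiv.refl _
  have he : ∀ (a : Γ(Y, ⊤)) (x : F'.val.obj (op ⊤)), e0 (a • x) = φ a • e0 x := by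
    intro a x
    have h1 : (a • x : F'.val.obj (op ⊤)) =
        (((W.ι.appIso ⊤).inv.hom a : Γ(X, W')) • (show Γ(M, W') from x) : Γ(M, W')) := rfl
    show (a • x : F'.val.obj (op ⊤)) = φ a • (show Γ(M, W') from x)
    rw [h1]
    congr 1
    rw [Scheme.Opens.ι_appIso]
    rfl
  obtain ⟨e3⟩ := Groth.Agent.Lib.R2H2.KoszulRing.nonempty_koszulHLim_addEquiv φ e0 he l i
  have hlX : lX = fs.map ρ := by
    change (fs.map _).map φ = fs.map ρ
    rw [List.map_map]
    rfl
  have hregX : LCI.IsKoszulRegularSeq Γ(X, W') lX := by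
    rw [hlX]
    exact isKoszulRegularSeq_map_of_flat ρ hρ fs hreg
  haveI : Module.Flat Γ(X, W') Γ(M, W') :=
    Groth.Agent.Lib.Helper2.LocFree.flat_sections_of_isFlatAt M hW' (fun x _ => hFl x)
  have hlen : i < lX.length := by
    rw [hlX, List.length_map]
    exact hi
  haveI := Groth.Agent.Lib.R2H3.KzPow.subsingleton_koszulHLim_of_lt_length lX hregX
    (ModuleCat.of Γ(X, W') Γ(M, W')) i hlen
  exact (e.trans e3).toEquiv.subsingleton

end Sch

end Groth.Agent.Lib.R2H3.LocKoszulReg
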