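import Groth.Agent.Lib.Helper3LocusBC
import Groth.Agent.Lib.Helper3LocusFam
import Groth.Agent.Lib.Helper3LocusPair
import Groth.Agent.Lib.Helper26FGZ
import Groth.Agent.Lib.Helper22LimBC
import Groth.Agent.Lib.R2H3LimFPDesc
import Groth.Agent.S0591
import Groth.Agent.S4788

/-!
# Constructibility of loci of fibrewise properties of a scheme with a finitely presented module
(EGA IV 9.2.3 for relations `P(X, F, k)`; helper3, round 2)
-/

set_option autoImplicit false
set_option linter.style.haveILetI false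
universe u
open CategoryTheory CategoryTheory.Limits AlgebraicGeometry Topology

namespace Groth.Agent.Lib.R2H3.LocusMod

open Groth.Agent.Lib.Helper3.LocusBC Groth.Agent.Lib.Helper3.LocusFam Groth.Agent.Lib.Helper26.FGZ
  Groth.Agent.Lib.Helper22.LimBC Groth.Agent.Lib.Helper3.LocusPair

/-- the locus of a field-stable relation `P(X, F, k)` commutes with base change -/
theorem locusMod_eq_preimage {P : ∀ ⦃Y T : Scheme.{u}⦄, (Y ⟶ T) → Y.Modules → Prop}
    (hP : ConsProp.IsFieldStableMod P) {X S X' S' : Scheme.{u}} {u : X ⟶ S}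
    {u' : X' ⟶ S'} {a : S' ⟶ S} {pX : X' ⟶ X}
    [LocallyOfFiniteType u] [QuasiCompact u]
    (hX : IsPullback pX u' u a) (F : X.Modules) [F.IsQuasicoherent] (hF : CohB1.IsFP F)
    (F' : X'.Modules) (e : F' ≅ (Scheme.Modules.pullback pX).obj F) :
    ConsProp.locusMod P u' F' = a ⁻¹' ConsProp.locusMod P u F := by
  ext s'
  obtain ⟨eX, hX1, hX2, h1⟩ := exists_fiber_lift hX s'
  have hcoh : Coh.IsCoh ((Scheme.Modules.pullback (u.fiberι (a s'))).obj F) :=
    ⟨Groth.Agent.Lib.Helper2.PullbackSec.isQuasicoherent_pullback _ F,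
      Groth.Agent.Helper18Strict.isFT_of_isFP _ (Groth.Agent.Helper18Strict.isFP_pullback _ F hF)⟩
  let iso : (Scheme.Modules.pullback (u'.fiberι s')).obj F' ≅
      (Scheme.Modules.pullback eX).obj ((Scheme.Modules.pullback (u.fiberι (a s'))).obj F) :=
    (Scheme.Modules.pullback (u'.fiberι s')).mapIso e ≪≫
      (Scheme.Modules.pullbackComp (u'.fiberι s') pX).app F ≪≫
      (Scheme.Modules.pullbackCongr hX1.symm).app F ≪≫
      ((Scheme.Modules.pullbackComp eX (u.fiberι (a s'))).app F).symm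
  exact (hP (u.fiberToSpecResidueField (a s')) (u'.fiberToSpecResidueField s') eX _ h1 _ _ hcoh iso).symm

/-- Descending a finitely presented family with a finitely presented module over a limit to a stage, in
pullback-square form. -/
theorem exists_model_mod {I : Type u} [SmallCategory I] [IsCofiltered I]
    (D : I ⥤ Scheme.{u}) (c : Cone D) (hc : IsLimit c)
    [∀ (i j : I) (f : i ⟶ j), IsAffineHom (D.map f)] [∀ i, CompactSpace (D.obj i)]
    [∀ i, QuasiSeparatedSpace (D.obj i)] {X : Scheme.{u}} (u : X ⟶ c.pt)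
    [LocallyOfFinitePresentation u] [QuasiCompact u] [QuasiSeparated u]
    (F : X.Modules) [F.IsQuasicoherent] (hF : CohB1.IsFP F) :
    ∃ (j : I) (Xj : Scheme.{u}) (uj : Xj ⟶ D.obj j) (sX : X ⟶ Xj) (Fj : Xj.Modules),
      LocallyOfFinitePresentation uj ∧ QuasiCompact uj ∧ QuasiSeparated uj ∧
      IsPullback sX u uj (c.π.app j) ∧ Fj.IsQuasicoherent ∧ CohB1.IsFP Fj ∧
      Nonempty (F ≅ (Scheme.Modules.pullback sX).obj Fj) := by
  obtain ⟨i, Xi, ui, qX, a1, a2, a3, hX⟩ := Groth.Agent.S0591.result D c hc X u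
  have hD : ∀ {i j : I} (f : i ⟶ j), IsAffineHom (D.map f) := fun f => inferInstance
  haveI : CompactSpace Xi := QuasiCompact.compactSpace_of_compactSpace ui
  haveI : QuasiSeparatedSpace Xi := quasiSeparatedSpace_of_quasiSeparated ui
  have hc' : IsLimit (bcCone i hX) := isLimitBcCone i hX hc
  let k₀ : Over i := Over.mk (𝟙 i)
  have hFq : Coh.IsQCoh (show (bcCone i hX).pt.Modules from F) := ‹F.IsQuasicoherent›
  obtain ⟨j, _, Fj, hFjq, hFjfp, ⟨e⟩⟩ :=
    @Groth.Agent.S4788.result (Over i) _ _ (bcDiagram D i ui) (bcCone i hX) hc'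
      (fun _ _ f => inferInstance) k₀ inferInstance inferInstance F hFq hF
  refine ⟨j.left, (bcDiagram D i ui).obj j, dSnd D i ui j, bcπ i hX j, Fj, ?_, ?_, ?_,
    isPullback_bcπ i hX j, hFjq, hFjfp, ⟨e.symm⟩⟩
  · exact MorphismProperty.of_isPullback (P := @LocallyOfFinitePresentation) (isPullback_d D i ui j) a1
  · exact MorphismProperty.of_isPullback (P := @QuasiCompact) (isPullback_d D i ui j) a2
  · exact MorphismProperty.of_isPullback (P := @QuasiSeparated) (isPullback_d D i ui j) a3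

/-- the predicate "`E` is the locus of `P` for a finitely presented family with a finitely presented module". -/
def FamMod (P : ∀ ⦃Y T : Scheme.{u}⦄, (Y ⟶ T) → Y.Modules → Prop) (S : Scheme.{u}) (E : Set S) : Prop :=
  ∃ (X : Scheme.{u}) (u : X ⟶ S) (F : X.Modules), LocallyOfFinitePresentation u ∧ QuasiCompact u ∧
    QuasiSeparated u ∧ F.IsQuasicoherent ∧ CohB1.IsFP F ∧ E = ConsProp.locusMod P u F

theorem isLocusFam_famMod {P : ∀ ⦃Y T : Scheme.{u}⦄, (Y ⟶ T) → Y.Modules → Prop}
    (hP : ConsProp.IsFieldStableMod P) : IsLocusFam (FamMod P) where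
  bc := by
    rintro S S' a E ⟨X, u, F, h1, h2, h3, h4, h5, rfl⟩
    refine ⟨pullback u a, pullback.snd u a, (Scheme.Modules.pullback (pullback.fst u a)).obj F,
      inferInstance, inferInstance, inferInstance,
      Groth.Agent.Lib.Helper2.PullbackSec.isQuasicoherent_pullback _ F,
      Groth.Agent.Helper18Strict.isFP_pullback _ F h5, ?_⟩
    exact (locusMod_eq_preimage hP (IsPullback.of_hasPullback u a) F h5 _ (Iso.refl _)).symm
  approx := by
    rintro A E ⟨X, u, F, h1, h2, h3, h4, h5, rfl⟩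
    obtain ⟨j, Xj, uj, sX, Fj, c1, c2, c3, hX, c4, c5, ⟨e⟩⟩ :=
      @exists_model_mod _ _ _ (specDiagram A) (specCone A) (specIsLimit A) _ _ _ X u h1 h2 h3 F h4 h5
    have hfam : FamMod P ((specDiagram A).obj j) (ConsProp.locusMod P uj Fj) :=
      ⟨_, _, _, c1, c2, c3, c4, c5, rfl⟩
    have hloc : ConsProp.locusMod P u F = (specCone A).π.app j ⁻¹' ConsProp.locusMod P uj Fj := by
      haveI : LocallyOfFiniteType uj := inferInstance
      haveI := c4
      exact locusMod_eq_preimage hP hX Fj c5 F e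
    exact ⟨CommRingCat.of j.unop.1, CommRingCat.ofHom (algebraMap j.unop.1 A), _,
      noeth_fgSub A j.unop, hfam, hloc⟩

theorem isIndConstructible_locusMod {P : ∀ ⦃Y T : Scheme.{u}⦄, (Y ⟶ T) → Y.Modules → Prop}
    (hP : ConsProp.IsIndConsMod P) {X S : Scheme.{u}} (u : X ⟶ S)
    [LocallyOfFinitePresentation u] [QuasiCompact u] [QuasiSeparated u]
    (F : X.Modules) [F.IsQuasicoherent] (hF : CohB1.IsFP F) :
    ProCons.IsIndConstructible (ConsProp.locusMod P u F) := by
  refine isIndConstructible (isLocusFam_famMod hP.1) ?_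
    ⟨X, u, F, inferInstance, inferInstance, inferInstance, inferInstance, hF, rfl⟩
  rintro S _ _ E ⟨X, u, F, h1, h2, h3, h4, h5, rfl⟩ hη
  exact hP.2 u F ⟨h4, Groth.Agent.Helper18Strict.isFT_of_isFP F h5⟩ hη

theorem isLocallyConstructible_locusMod {P : ∀ ⦃Y T : Scheme.{u}⦄, (Y ⟶ T) → Y.Modules → Prop}
    (hP : ConsProp.IsConsMod P) {X S : Scheme.{u}} (u : X ⟶ S)
    [LocallyOfFinitePresentation u] [QuasiCompact u] [QuasiSeparated u]
    (F : X.Modules) [F.IsQuasicoherent] (hF : CohB1.IsFP F) :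
    IsLocallyConstructible (ConsProp.locusMod P u F) := by
  refine isLocallyConstructible (isLocusFam_famMod hP.1) ?_
    ⟨X, u, F, inferInstance, inferInstance, inferInstance, inferInstance, hF, rfl⟩
  rintro S _ _ E ⟨X, u, F, h1, h2, h3, h4, h5, rfl⟩
  exact hP.2 u F ⟨h4, Groth.Agent.Helper18Strict.isFT_of_isFP F h5⟩

end Groth.Agent.Lib.R2H3.LocusMod
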