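import Mathlib
import Groth.Agent.Lib.Helper22MilnorGlue
import Groth.Agent.Lib.Helper22MilnorFlat

/-!
# Relative Milnor squares: finiteness of kernels over the non-flat ring `D'` (helper3, round 2)

`B' = B ×_A A'` a fibre square, `B' → D'` any ring map, `D = D' ⊗ B`, `C' = D' ⊗ A'`.
* `cancel_symm_natural`, `lTensor_injective_of_cancel`: naturality of `IsPushout.cancelBaseChange`.
* `rel_eq_zero`, `rel_fs_finite`: a `D'`-module `X` with `D ⊗ X` and `C' ⊗ X` finite is finite.
* `finite_baseChange_ker_of_inj`: finiteness of `S ⊗ ker f` from injectivity.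
-/

set_option autoImplicit false
set_option linter.style.haveILetI false

namespace Groth.Agent.Lib.R2H3.MilnorRel

open TensorProduct

section nat

variable (R S A B : Type*) [CommRing R] [CommRing S] [CommRing A] [CommRing B]
  [Algebra R S] [Algebra R A] [Algebra R B] [Algebra A B] [Algebra S B]
  [IsScalarTower R A B] [IsScalarTower R S B] [Algebra.IsPushout R S A B]
variable {M M₂ : Type*} [AddCommGroup M] [Module R M] [Module A M] [IsScalarTower R A M]
  [AddCommGroup M₂] [Module R M₂] [Module A M₂] [IsScalarTower R A M₂]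

theorem cancel_symm_natural (g : M →ₗ[A] M₂) (t : S ⊗[R] M) :
    (g.lTensor B) ((Algebra.IsPushout.cancelBaseChange R S A B M).symm t) =
      (Algebra.IsPushout.cancelBaseChange R S A B M₂).symm
        (((g.restrictScalars R).lTensor S) t) := by
  induction t using TensorProduct.induction_on with
  | zero => simp only [map_zero]
  | tmul s m =>
    rw [Algebra.IsPushout.cancelBaseChange_symm_tmul, LinearMap.lTensor_tmul,
      LinearMap.lTensor_tmul, Algebra.IsPushout.cancelBaseChange_symm_tmul]
    rfl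
  | add x y hx hy => simp only [map_add, hx, hy]

theorem lTensor_injective_of_cancel (g : M →ₗ[A] M₂)
    (h : Function.Injective ((g.restrictScalars R).lTensor S)) :
    Function.Injective (g.lTensor B) := by
  intro x y hxy
  have hx := cancel_symm_natural R S A B g (Algebra.IsPushout.cancelBaseChange R S A B M x)
  have hy := cancel_symm_natural R S A B g (Algebra.IsPushout.cancelBaseChange R S A B M y)
  rw [LinearEquiv.symm_apply_apply] at hx hy
  rw [hx, hy] at hxy
  have h2 := h ((Algebra.IsPushout.cancelBaseChange R S A B M₂).symm.injective hxy)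
  exact (Algebra.IsPushout.cancelBaseChange R S A B M).injective h2

theorem one_tmul_eq_zero_of_cancel (m : M) (h : ((1 : B) ⊗ₜ[A] m : B ⊗[A] M) = 0) :
    ((1 : S) ⊗ₜ[R] m : S ⊗[R] M) = 0 := by
  have h1 := congrArg (Algebra.IsPushout.cancelBaseChange R S A B M) h
  rwa [Algebra.IsPushout.cancelBaseChange_tmul, map_zero] at h1

end nat

section ker

/-- If `f : F → L` is surjective with `F` finite, `S ⊗ ker f → S ⊗ F` injective and `S ⊗ L`
finitely presented over `S`, then `S ⊗ ker f` is a finite `S`-module. -/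
theorem finite_baseChange_ker_of_inj {R S : Type*} [CommRing R] [CommRing S] [Algebra R S]
    {F L : Type*} [AddCommGroup F] [Module R F] [Module.Finite R F] [AddCommGroup L] [Module R L]
    [Module.FinitePresentation S (S ⊗[R] L)] (f : F →ₗ[R] L)
    (hf : Function.Surjective f)
    (hinj : Function.Injective ((LinearMap.ker f).subtype.lTensor S)) :
    Module.Finite S (S ⊗[R] (LinearMap.ker f)) := by
  have hex : Function.Exact ((LinearMap.ker f).subtype.lTensor S) (f.lTensor S) :=
    lTensor_exact S (LinearMap.exact_subtype_ker_map f) hf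
  have hsurj : Function.Surjective (f.baseChange S) := by
    rw [LinearMap.baseChange_eq_ltensor]
    exact LinearMap.lTensor_surjective S hf
  have hfg : (LinearMap.ker (f.baseChange S)).FG :=
    Module.FinitePresentation.fg_ker (f.baseChange S) hsurj
  have hinj' : Function.Injective ((LinearMap.ker f).subtype.baseChange S) := by
    rw [LinearMap.baseChange_eq_ltensor]
    exact hinj
  have hrange : LinearMap.range ((LinearMap.ker f).subtype.baseChange S) =
      LinearMap.ker (f.baseChange S) := by
    ext x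
    rw [LinearMap.mem_range, LinearMap.mem_ker, LinearMap.baseChange_eq_ltensor,
      LinearMap.baseChange_eq_ltensor]
    exact ((hex x).symm)
  rw [← hrange] at hfg
  have : Module.Finite S (LinearMap.range ((LinearMap.ker f).subtype.baseChange S)) :=
    Module.Finite.iff_fg.mpr hfg
  exact Module.Finite.equiv
    (LinearEquiv.ofInjective ((LinearMap.ker f).subtype.baseChange S) hinj').symm

end ker

section rel

universe u

variable {B' B A' A : Type u} [CommRing B'] [CommRing B] [CommRing A'] [CommRing A]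
  [Algebra B' B] [Algebra B' A'] [Algebra B A] [Algebra A' A] [Algebra B' A]
  [IsScalarTower B' B A] [IsScalarTower B' A' A]
  {D' D C' : Type u} [CommRing D'] [CommRing D] [CommRing C']
  [Algebra B' D'] [Algebra B D] [Algebra A' C']
  [Algebra D' D] [Algebra B' D] [IsScalarTower B' B D] [IsScalarTower B' D' D]
  [Algebra.IsPushout B' B D' D]
  [Algebra D' C'] [Algebra B' C'] [IsScalarTower B' A' C'] [IsScalarTower B' D' C']
  [Algebra.IsPushout B' A' D' C']
  {X : Type*} [AddCommGroup X] [Module D' X] [Module B' X] [IsScalarTower B' D' X]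

/-- a `D'`-module element dying in `D ⊗ X`, where all elements die in `C' ⊗ X`, is zero -/
theorem rel_eq_zero (hsq : EtMil.IsFibreSquare B' B A' A)
    (hA : ∀ x : X, ((1 : C') ⊗ₜ[D'] x : C' ⊗[D'] X) = 0)
    (x : X) (h1 : ((1 : D) ⊗ₜ[D'] x : D ⊗[D'] X) = 0) : x = 0 :=
  Groth.Agent.Lib.Helper22.fs_eq_zero_of_forall hsq
    (fun y => one_tmul_eq_zero_of_cancel B' A' D' C' y (hA y)) x
    (one_tmul_eq_zero_of_cancel B' B D' D x h1)

/-- relative version of `fs_finite`: finiteness over `D'` from finiteness after base change to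
`D = D' ⊗ B` and `C' = D' ⊗ A'` -/
theorem rel_fs_finite (hsq : EtMil.IsFibreSquare B' B A' A)
    [Module.Finite D (D ⊗[D'] X)] [Module.Finite C' (C' ⊗[D'] X)] : Module.Finite D' X := by
  obtain ⟨N1, hN1, h1⟩ := Groth.Agent.Lib.Helper22.exists_fg_forall_one_tmul_mkQ_eq_zero D' D X
  obtain ⟨N2, hN2, h2⟩ := Groth.Agent.Lib.Helper22.exists_fg_forall_one_tmul_mkQ_eq_zero D' C' X
  have hfg : (N1 ⊔ N2).FG := hN1.sup hN2
  have htop : N1 ⊔ N2 = ⊤ := by
    rw [eq_top_iff]
    intro l _
    have hq : (N1 ⊔ N2).mkQ l = 0 :=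
      rel_eq_zero (D := D) (C' := C') hsq (X := X ⧸ (N1 ⊔ N2)) (fun q => by
          obtain ⟨m, rfl⟩ := (N1 ⊔ N2).mkQ_surjective q
          exact h2 _ le_sup_right m) _ (h1 _ le_sup_left l)
    rwa [Submodule.mkQ_apply, Submodule.Quotient.mk_eq_zero] at hq
  rw [htop] at hfg
  exact ⟨hfg⟩

end rel

section main

universe u

variable {B' B A' A : Type u} [CommRing B'] [CommRing B] [CommRing A'] [CommRing A]
  [Algebra B' B] [Algebra B' A'] [Algebra B A] [Algebra A' A] [Algebra B' A]
  [IsScalarTower B' B A] [IsScalarTower B' A' A]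
  {D' D C' C : Type u} [CommRing D'] [CommRing D] [CommRing C'] [CommRing C]
  [Algebra B' D'] [Algebra B D] [Algebra A' C'] [Algebra A C]
  [Algebra D' D] [Algebra B' D] [IsScalarTower B' B D] [IsScalarTower B' D' D]
  [Algebra.IsPushout B' B D' D]
  [Algebra D' C'] [Algebra B' C'] [IsScalarTower B' A' C'] [IsScalarTower B' D' C']
  [Algebra.IsPushout B' A' D' C']
  [Algebra D' C] [Algebra B' C] [IsScalarTower B' A C] [IsScalarTower B' D' C]
  [Algebra.IsPushout B' A D' C]
  [Algebra D C] [IsScalarTower D' D C] [Algebra B C] [IsScalarTower B A C] [IsScalarTower B D C]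
  [Algebra C' C] [IsScalarTower D' C' C] [Algebra A' C] [IsScalarTower A' A C]
  [IsScalarTower A' C' C]
  {N M' : Type u} [AddCommGroup N] [Module D N] [Module D' N] [IsScalarTower D' D N]
  [AddCommGroup M'] [Module C' M'] [Module D' M'] [IsScalarTower D' C' M']
  [Module B N] [IsScalarTower B D N] [Module A' M'] [IsScalarTower A' C' M']
  [Module B' N] [IsScalarTower B' B N] [IsScalarTower B' D' N]
  [Module B' M'] [IsScalarTower B' A' M'] [IsScalarTower B' D' M']

/-- the relative glued module is finitely presented (no hypothesis on `B' → D'` is needed) -/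
theorem rel_glue_finitePresentation (hsq : EtMil.IsFibreSquare B' B A' A)
    (φ : C ⊗[D] N ≃ₗ[C] C ⊗[C'] M')
    [Module.FinitePresentation D N] [Module.Flat B N] [Module.FinitePresentation C' M']
    [Module.Flat A' M'] (hfin : Module.Finite D' ↥(EtMil.glue D' φ)) :
    Module.FinitePresentation D' ↥(EtMil.glue D' φ) := by
  haveI t1 : IsScalarTower B' D C := IsScalarTower.of_algebraMap_eq fun x => by
    rw [IsScalarTower.algebraMap_apply B' D' C, IsScalarTower.algebraMap_apply D' D C,
      ← IsScalarTower.algebraMap_apply B' D' D]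
  haveI t2 : IsScalarTower B' C' C := IsScalarTower.of_algebraMap_eq fun x => by
    rw [IsScalarTower.algebraMap_apply B' D' C, IsScalarTower.algebraMap_apply D' C' C,
      ← IsScalarTower.algebraMap_apply B' D' C']
  haveI hP1 : Algebra.IsPushout B A D C :=
    (Algebra.IsPushout.comp_iff B' B D' (S' := D) (T := A) (T' := C)).1 inferInstance
  haveI hP2 : Algebra.IsPushout A' A C' C :=
    (Algebra.IsPushout.comp_iff B' A' D' (S' := C') (T := A) (T' := C)).1 inferInstance
  let eN : C ⊗[D] N ≃ₗ[A] A ⊗[B] N := Algebra.IsPushout.cancelBaseChange B A D C N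
  let eM : C ⊗[C'] M' ≃ₗ[A] A ⊗[A'] M' := Algebra.IsPushout.cancelBaseChange A' A C' C M'
  let φ₀ : A ⊗[B] N ≃ₗ[A] A ⊗[A'] M' := eN.symm ≪≫ₗ (φ.restrictScalars A) ≪≫ₗ eM
  have hφ₀ : ∀ n : N, φ₀ ((1 : A) ⊗ₜ[B] n) = eM (φ ((1 : C) ⊗ₜ[D] n)) := by
    intro n
    change eM (φ (eN.symm ((1 : A) ⊗ₜ[B] n))) = _
    rw [Algebra.IsPushout.cancelBaseChange_symm_tmul, map_one]
  have hcar : ∀ x : N × M', x ∈ EtMil.glue B' φ₀ ↔ x ∈ EtMil.glue D' φ := by
    intro x
    change φ₀ ((1 : A) ⊗ₜ[B] x.1) = (1 : A) ⊗ₜ[A'] x.2 ↔ φ ((1 : C) ⊗ₜ[D] x.1) = (1 : C) ⊗ₜ[C'] x.2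
    rw [hφ₀, ← Algebra.IsPushout.cancelBaseChange_tmul A' A C' C M' x.2]
    exact eM.injective.eq_iff
  -- the `B'`-linear identification of the two glued modules
  let ε : ↥(EtMil.glue B' φ₀) ≃ₗ[B'] ↥(EtMil.glue D' φ) :=
    { toFun := fun x => ⟨x.1, (hcar x.1).1 x.2⟩
      invFun := fun x => ⟨x.1, (hcar x.1).2 x.2⟩
      map_add' := fun _ _ => rfl
      map_smul' := fun _ _ => rfl
      left_inv := fun _ => rfl
      right_inv := fun _ => rfl }
  -- flatness over `B'`
  haveI : Module.Flat B (B ⊗[B'] ↥(EtMil.glue B' φ₀)) :=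
    Module.Flat.of_linearEquiv
      (LinearEquiv.ofBijective _ (Groth.Agent.Lib.Helper22.glue_fst_bijective φ₀ hsq))
  haveI : Module.Flat A' (A' ⊗[B'] ↥(EtMil.glue B' φ₀)) :=
    Module.Flat.of_linearEquiv
      (LinearEquiv.ofBijective _ (Groth.Agent.Lib.Helper22.glue_snd_bijective φ₀ hsq))
  haveI hfl0 : Module.Flat B' ↥(EtMil.glue B' φ₀) := Groth.Agent.Lib.Helper22.fs_flat hsq
  haveI hfl : Module.Flat B' ↥(EtMil.glue D' φ) := Module.Flat.of_linearEquiv ε.symm
  -- `D ⊗ L' ≅ N`
  have hbijD : Function.Bijective (LinearMap.liftBaseChange D (EtMil.glueFst D' φ)) := by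
    let cD := Algebra.IsPushout.cancelBaseChange B' B D' D ↥(EtMil.glue D' φ)
    let εB : B ⊗[B'] ↥(EtMil.glue D' φ) ≃ₗ[B'] B ⊗[B'] ↥(EtMil.glue B' φ₀) :=
      LinearEquiv.lTensor B ε.symm
    have key : ∀ t : B ⊗[B'] ↥(EtMil.glue D' φ),
        LinearMap.liftBaseChange D (EtMil.glueFst D' φ) (cD.symm t) =
          LinearMap.liftBaseChange B (EtMil.glueFst B' φ₀) (εB t) := by
      intro t
      induction t using TensorProduct.induction_on with
      | zero => simp only [map_zero]
      | tmul b x =>
        rw [Algebra.IsPushout.cancelBaseChange_symm_tmul, LinearMap.liftBaseChange_tmul,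
          LinearEquiv.lTensor_tmul, LinearMap.liftBaseChange_tmul]
        exact algebraMap_smul D b _
      | add x y hx hy => simp only [map_add, hx, hy]
    have h1 : Function.Bijective
        (fun t => LinearMap.liftBaseChange B (EtMil.glueFst B' φ₀) (εB t)) :=
      (Groth.Agent.Lib.Helper22.glue_fst_bijective φ₀ hsq).comp εB.bijective
    have h2 : ⇑(LinearMap.liftBaseChange D (EtMil.glueFst D' φ)) =
        (fun t => LinearMap.liftBaseChange B (EtMil.glueFst B' φ₀) (εB t)) ∘ cD := by
      funext t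
      rw [Function.comp_apply, ← key, LinearEquiv.symm_apply_apply]
    rw [h2]
    exact h1.comp cD.bijective
  -- `C' ⊗ L' ≅ M'`
  have hbijC : Function.Bijective (LinearMap.liftBaseChange C' (EtMil.glueSnd D' φ)) := by
    let cC := Algebra.IsPushout.cancelBaseChange B' A' D' C' ↥(EtMil.glue D' φ)
    let εA : A' ⊗[B'] ↥(EtMil.glue D' φ) ≃ₗ[B'] A' ⊗[B'] ↥(EtMil.glue B' φ₀) :=
      LinearEquiv.lTensor A' ε.symm
    have key : ∀ t : A' ⊗[B'] ↥(EtMil.glue D' φ),
        LinearMap.liftBaseChange C' (EtMil.glueSnd D' φ) (cC.symm t) =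
          LinearMap.liftBaseChange A' (EtMil.glueSnd B' φ₀) (εA t) := by
      intro t
      induction t using TensorProduct.induction_on with
      | zero => simp only [map_zero]
      | tmul b x =>
        rw [Algebra.IsPushout.cancelBaseChange_symm_tmul, LinearMap.liftBaseChange_tmul,
          LinearEquiv.lTensor_tmul, LinearMap.liftBaseChange_tmul]
        exact algebraMap_smul C' b _
      | add x y hx hy => simp only [map_add, hx, hy]
    have h1 : Function.Bijective
        (fun t => LinearMap.liftBaseChange A' (EtMil.glueSnd B' φ₀) (εA t)) :=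
      (Groth.Agent.Lib.Helper22.glue_snd_bijective φ₀ hsq).comp εA.bijective
    have h2 : ⇑(LinearMap.liftBaseChange C' (EtMil.glueSnd D' φ)) =
        (fun t => LinearMap.liftBaseChange A' (EtMil.glueSnd B' φ₀) (εA t)) ∘ cC := by
      funext t
      rw [Function.comp_apply, ← key, LinearEquiv.symm_apply_apply]
    rw [h2]
    exact h1.comp cC.bijective
  haveI : Module.FinitePresentation D (D ⊗[D'] ↥(EtMil.glue D' φ)) :=
    Module.FinitePresentation.of_equiv (LinearEquiv.ofBijective _ hbijD).symm
  haveI : Module.FinitePresentation C' (C' ⊗[D'] ↥(EtMil.glue D' φ)) :=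
    Module.FinitePresentation.of_equiv (LinearEquiv.ofBijective _ hbijC).symm
  obtain ⟨n, f, hf⟩ := Module.Finite.exists_fin' D' ↥(EtMil.glue D' φ)
  have hinj0 : ∀ (S : Type u) [CommRing S] [Algebra B' S], Function.Injective
      (((LinearMap.ker f).subtype.restrictScalars B').lTensor S) := by
    intro S _ _
    exact LinearMap.lTensor_injective_of_exact_of_flat (f.restrictScalars B') hf
      ((LinearMap.ker f).subtype.restrictScalars B') (LinearMap.ker f).subtype_injective
      (LinearMap.exact_subtype_ker_map f) S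
  have hinjD : Function.Injective ((LinearMap.ker f).subtype.lTensor D) :=
    lTensor_injective_of_cancel B' B D' D _ (hinj0 B)
  have hinjC : Function.Injective ((LinearMap.ker f).subtype.lTensor C') :=
    lTensor_injective_of_cancel B' A' D' C' _ (hinj0 A')
  haveI : Module.Finite D (D ⊗[D'] (LinearMap.ker f)) := finite_baseChange_ker_of_inj f hf hinjD
  haveI : Module.Finite C' (C' ⊗[D'] (LinearMap.ker f)) := finite_baseChange_ker_of_inj f hf hinjC
  have hK : Module.Finite D' (LinearMap.ker f) := rel_fs_finite (D := D) (C' := C') hsq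
  exact Module.finitePresentation_of_surjective f hf (Module.Finite.iff_fg.mp hK)

end main

end Groth.Agent.Lib.R2H3.MilnorRel
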