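import Mathlib
import Groth.Prelude.Def_SGA3x
import Groth.Agent.Lib.R2H3LocDesc
import Groth.Agent.Lib.Helper10SecFib

/-!
# Monomorphisms out of groups of multiplicative type are detected on fibres (helper3, round 2)

* `lft_DS`: `D_U(M)` is locally of finite type over `U` when `M` is finitely generated.
* `lft_of_isMultTypeFT`: a group of multiplicative type and of finite type (`SGA3x.IsMultTypeFT`)
  is locally of finite type over the base (fpqc descent).
* `mono_of_fibres`: a morphism `u : H ⟶ G` of `S`-schemes with `H` locally of finite type over `S`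
  whose fibres over all points of `S` are monomorphisms is a monomorphism.
-/

set_option autoImplicit false
set_option linter.style.haveILetI false
set_option linter.unusedVariables false

universe u

open CategoryTheory CategoryTheory.Limits AlgebraicGeometry MorphismProperty

namespace Groth.Agent.Lib.R2H3.MonoFib

/-- `Spec R[M] ⟶ Spec R` is locally of finite type for `M` finitely generated. -/
theorem lft_diag (R : Type u) [CommRing R] (M : Type) [AddCommGroup M] (hM : AddGroup.FG M) :
    LocallyOfFiniteType (Red.diag R M).hom := by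
  haveI : AddMonoid.FG M := AddGroup.fg_iff_addMonoid_fg.mp hM
  haveI : Monoid.FG (Multiplicative M) := inferInstance
  have hft : Algebra.FiniteType R (MonoidAlgebra R (Multiplicative M)) :=
    MonoidAlgebra.finiteType_of_fg
  change LocallyOfFiniteType
    (Spec.map (CommRingCat.ofHom (algebraMap R (MonoidAlgebra R (Multiplicative M)))))
  rw [HasRingHomProperty.Spec_iff (P := @LocallyOfFiniteType)]
  exact (RingHom.finiteType_algebraMap (A := R) (B := MonoidAlgebra R (Multiplicative M))).mpr hft

/-- `D_U(M) ⟶ U` is locally of finite type for `M` finitely generated. -/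
theorem lft_DS (U : Scheme.{u}) (M : Type) [AddCommGroup M] (hM : AddGroup.FG M) :
    LocallyOfFiniteType (Red.DS U M).hom := by
  haveI := lft_diag (ULift.{u} ℤ) M hM
  change LocallyOfFiniteType (pullback.snd (Red.diag (ULift.{u} ℤ) M).hom _)
  infer_instance

/-- A group of multiplicative type and of finite type is locally of finite type over the base. -/
theorem lft_of_isMultTypeFT {S : Scheme.{u}} (H : Over S) [GrpObj H]
    (hH : SGA3x.IsMultTypeFT H) : LocallyOfFiniteType H.hom := by
  obtain ⟨S', f, hfl, hsurj, hqc, hloc⟩ := hH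
  haveI := hfl
  refine LocDesc.of_locally_fpqc (P := @LocallyOfFiniteType) H.hom f hqc fun s' => ?_
  obtain ⟨U, hU, M, inst, hM, ⟨e⟩⟩ := hloc s'
  refine ⟨U, hU, ?_⟩
  -- the underlying isomorphism of `U`-schemes
  let e' : Red.bc (U.ι ≫ f) H ≅ Red.DS (U : Scheme.{u}) M := (Grp.forget _).mapIso e
  have hw : e'.hom.left ≫ (Red.DS (U : Scheme.{u}) M).hom = (Red.bc (U.ι ≫ f) H).hom :=
    Over.w e'.hom
  change LocallyOfFiniteType (Red.bc (U.ι ≫ f) H).hom
  rw [← hw]
  haveI := lft_DS (U : Scheme.{u}) M hM
  haveI : IsIso e'.hom.left := inferInstance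
  infer_instance

/-- **Fibrewise criterion for monomorphisms** over a base `S`: if `H` is locally of finite type
over `S` and `u : H ⟶ G` induces monomorphisms on all fibres over points of `S`, then `u` is a
monomorphism. -/
theorem mono_of_fibres {S : Scheme.{u}} (H G : Over S) [LocallyOfFiniteType H.hom] (u : H ⟶ G)
    (hfib : ∀ s : S, Mono ((Over.pullback (S.fromSpecResidueField s)).map u).left) :
    Mono u.left := by
  haveI : LocallyOfFiniteType (u.left ≫ G.hom) := by rw [Over.w u]; infer_instance
  haveI : LocallyOfFiniteType u.left := locallyOfFiniteType_of_comp u.left G.hom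
  rw [Groth.Agent.Lib.Helper10.SecFib.mono_iff_forall_fiber u.left]
  intro y
  haveI := hfib (G.hom y)
  set g := S.fromSpecResidueField (G.hom y) with hg
  have hus : ((Over.pullback g).map u).left
      = pullback.lift (pullback.fst H.hom g ≫ u.left) (pullback.snd H.hom g)
          (by rw [Category.assoc, Over.w u, pullback.condition]) := rfl
  have hres : G.left.fromSpecResidueField y ≫ G.hom
      = Spec.map (G.hom.residueFieldMap y) ≫ g := by
    rw [hg, Scheme.Hom.SpecMap_residueFieldMap_fromSpecResidueField]
  constructor
  intro T a b hab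
  -- the common composite to `Spec κ(y)`
  have hcond : u.left.fiberι y ≫ u.left
      = u.left.fiberToSpecResidueField y ≫ G.left.fromSpecResidueField y := pullback.condition
  obtain ⟨c, hca, hcb⟩ : ∃ c : T ⟶ Spec (G.left.residueField y),
      a ≫ u.left.fiberToSpecResidueField y = c ∧ b ≫ u.left.fiberToSpecResidueField y = c :=
    ⟨_, rfl, hab.symm⟩
  have hfa : (a ≫ u.left.fiberι y) ≫ u.left = c ≫ G.left.fromSpecResidueField y := by
    rw [Category.assoc, hcond, ← Category.assoc, hca]
  have hfb : (b ≫ u.left.fiberι y) ≫ u.left = c ≫ G.left.fromSpecResidueField y := by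
    rw [Category.assoc, hcond, ← Category.assoc, hcb]
  -- lifts to the fibre `H_s`
  have hH : ∀ k : T ⟶ H.left, k ≫ u.left = c ≫ G.left.fromSpecResidueField y →
      k ≫ H.hom = (c ≫ Spec.map (G.hom.residueFieldMap y)) ≫ g := by
    intro k hk
    calc k ≫ H.hom = (k ≫ u.left) ≫ G.hom := by rw [Category.assoc, Over.w u]
      _ = (c ≫ G.left.fromSpecResidueField y) ≫ G.hom := by rw [hk]
      _ = c ≫ Spec.map (G.hom.residueFieldMap y) ≫ g := by rw [Category.assoc, hres]
      _ = _ := (Category.assoc _ _ _).symm
  let a' : T ⟶ pullback H.hom g := pullback.lift _ _ (hH _ hfa)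
  let b' : T ⟶ pullback H.hom g := pullback.lift _ _ (hH _ hfb)
  have hab' : a' ≫ ((Over.pullback g).map u).left = b' ≫ ((Over.pullback g).map u).left := by
    rw [hus]
    apply pullback.hom_ext
    · have e1 : ∀ k : T ⟶ pullback H.hom g,
          (k ≫ pullback.lift (pullback.fst H.hom g ≫ u.left) (pullback.snd H.hom g)
            (by rw [Category.assoc, Over.w u, pullback.condition])) ≫ pullback.fst G.hom g
          = (k ≫ pullback.fst H.hom g) ≫ u.left := by
        intro k
        simp only [Category.assoc, pullback.lift_fst]
      rw [e1, e1, pullback.lift_fst, pullback.lift_fst, hfa, hfb]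
    · have e2 : ∀ k : T ⟶ pullback H.hom g,
          (k ≫ pullback.lift (pullback.fst H.hom g ≫ u.left) (pullback.snd H.hom g)
            (by rw [Category.assoc, Over.w u, pullback.condition])) ≫ pullback.snd G.hom g
          = k ≫ pullback.snd H.hom g := by
        intro k
        simp only [Category.assoc, pullback.lift_snd]
      rw [e2, e2, pullback.lift_snd, pullback.lift_snd]
  have h1 : a' = b' := (cancel_mono _).mp hab'
  have h2 : a ≫ u.left.fiberι y = b ≫ u.left.fiberι y := by
    have h3 : a' ≫ pullback.fst H.hom g = b' ≫ pullback.fst H.hom g := by rw [h1]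
    rwa [pullback.lift_fst, pullback.lift_fst] at h3
  exact pullback.hom_ext h2 hab

end Groth.Agent.Lib.R2H3.MonoFib
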