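import Groth.Agent.Lib.R2H3MultActAlg

/-!
# Natural multiplicative endomorphisms of the functor of characters (helper3, round 2)

A `GrpFunAct A G` is a natural transformation of the functor `B ↦ Hom(G, B)` on `A`-algebras which
is multiplicative.  It is given by a matrix `e m n` of elements of `A`, whose rows are families of
orthogonal idempotents: `act χ m = ∑ₙ e m n · χ n`.
-/

set_option autoImplicit false
set_option linter.style.haveILetI false
set_option linter.unusedVariables false
set_option linter.unusedSectionVars false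

universe u

namespace Groth.Agent.Lib.R2H3.MultAct

/-- a natural multiplicative endomorphism of `B ↦ Hom(G, B)` on `A`-algebras. -/
structure GrpFunAct (A : Type u) [CommRing A] (G : Type) [CommGroup G] where
  /-- the action on characters with values in an `A`-algebra `B` -/
  act : ∀ (B : Type u) [CommRing B], (A →+* B) → (G →* B) → (G →* B)
  nat : ∀ (B B' : Type u) [CommRing B] [CommRing B'] (γ : B →+* B') (β : A →+* B) (χ : G →* B),
    act B' (γ.comp β) ((γ : B →* B').comp χ) = (γ : B →* B').comp (act B β χ)
  mul : ∀ (B : Type u) [CommRing B] (β : A →+* B) (χ₁ χ₂ : G →* B),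
    act B β (χ₁ * χ₂) = act B β χ₁ * act B β χ₂

namespace GrpFunAct

variable {A : Type u} [CommRing A] {G : Type} [CommGroup G] (F : GrpFunAct A G)

lemma ext' {F F' : GrpFunAct A G}
    (h : ∀ (B : Type u) [CommRing B] (β : A →+* B) (χ : G →* B), F.act B β χ = F'.act B β χ) :
    F = F' := by
  cases F with
  | mk a _ _ =>
    cases F' with
    | mk a' _ _ =>
      have : a = a' := by
        funext B _ β χ
        exact h B β χ
      subst this
      rfl

/-- the image of the universal character. -/
noncomputable def univ (m : G) : MonoidAlgebra A G :=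
  F.act (MonoidAlgebra A G) (algebraMap A (MonoidAlgebra A G)) (MonoidAlgebra.of A G) m

/-- the matrix of the transformation. -/
noncomputable def e (m n : G) : A := (F.univ m).coeff n

lemma act_eq (B : Type u) [CommRing B] (β : A →+* B) (χ : G →* B) (m : G) :
    F.act B β χ m = liftHom β χ (F.univ m) := by
  have h := F.nat _ _ (liftHom β χ) (algebraMap A (MonoidAlgebra A G)) (MonoidAlgebra.of A G)
  rw [liftHom_comp_algebraMap, liftHom_comp_of] at h
  rw [h]
  rfl

/-- the rows of the matrix are families of orthogonal idempotents. -/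
lemma e_mul (m n l : G) [Decidable (n = l)] :
    F.e m n * F.e m l = if n = l then F.e m n else 0 := by
  classical
  obtain ⟨ι', hι'⟩ : ∃ k : MonoidAlgebra A G →+* MonoidAlgebra (MonoidAlgebra A G) G,
    k = algebraMap _ _ := ⟨_, rfl⟩
  obtain ⟨χ₁, hχ₁⟩ : ∃ k : G →* MonoidAlgebra (MonoidAlgebra A G) G,
    k = MonoidAlgebra.of (MonoidAlgebra A G) G := ⟨_, rfl⟩
  obtain ⟨χ₂, hχ₂⟩ : ∃ k : G →* MonoidAlgebra (MonoidAlgebra A G) G,
    k = (ι' : MonoidAlgebra A G →* _).comp (MonoidAlgebra.of A G) := ⟨_, rfl⟩
  obtain ⟨α₂, hα₂⟩ : ∃ k : A →+* MonoidAlgebra (MonoidAlgebra A G) G,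
    k = ι'.comp (algebraMap A (MonoidAlgebra A G)) := ⟨_, rfl⟩
  have h2 := congrArg (fun k : G →* _ => ((k m).coeff n).coeff l) (F.mul _ α₂ χ₁ χ₂)
  simp only [MonoidHom.mul_apply] at h2
  rw [F.act_eq _ α₂ (χ₁ * χ₂), F.act_eq _ α₂ χ₁, F.act_eq _ α₂ χ₂] at h2
  -- the three values
  have hL : ∀ θ : MonoidAlgebra A G,
      (liftHom α₂ (χ₁ * χ₂) θ).coeff n = MonoidAlgebra.single n (θ.coeff n) := by
    intro θ
    induction θ using MonoidAlgebra.induction_linear with
    | zero => simp
    | add x y hx hy =>
      rw [map_add, MonoidAlgebra.coeff_add, Finsupp.add_apply, hx, hy, MonoidAlgebra.coeff_add,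
        Finsupp.add_apply, MonoidAlgebra.single_add]
    | single k a =>
      rw [liftHom_single, hα₂, hχ₁, hχ₂, hι']
      simp only [RingHom.comp_apply, MonoidHom.mul_apply, MonoidHom.comp_apply,
        MonoidAlgebra.of_apply, coe_monoidHom_apply, algebraMap_eq_single,
        MonoidAlgebra.single_mul_single, mul_one, one_mul]
      rw [coeff_single_apply', coeff_single_apply']
      split_ifs with hk
      · rw [hk]
      · simp
  have h1 : ∀ θ : MonoidAlgebra A G,
      liftHom α₂ χ₁ θ = MonoidAlgebra.ofCoeff (θ.coeff.mapRange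
        (fun a => (MonoidAlgebra.single 1 a : MonoidAlgebra A G)) (by simp)) := by
    intro θ
    induction θ using MonoidAlgebra.induction_linear with
    | zero =>
      rw [map_zero]
      apply MonoidAlgebra.coeff_injective
      simp
    | add x y hx hy =>
      rw [map_add, hx, hy]
      apply MonoidAlgebra.coeff_injective
      ext k : 1
      simp [MonoidAlgebra.coeff_add, MonoidAlgebra.single_add]
    | single k a =>
      rw [liftHom_single, hα₂, hχ₁, hι']
      simp only [RingHom.comp_apply, MonoidAlgebra.of_apply, algebraMap_eq_single,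
        MonoidAlgebra.single_mul_single, mul_one, one_mul]
      apply MonoidAlgebra.coeff_injective
      ext j : 1
      simp only [MonoidAlgebra.coeff_ofCoeff, MonoidAlgebra.coeff_single, Finsupp.mapRange_apply,
        Finsupp.single_apply]
      split_ifs <;> simp
  have h2' : ∀ θ : MonoidAlgebra A G, liftHom α₂ χ₂ θ = ι' θ := by
    intro θ
    induction θ using MonoidAlgebra.induction_linear with
    | zero => simp
    | add x y hx hy => rw [map_add, map_add, hx, hy]
    | single k a =>
      rw [liftHom_single, hα₂, hχ₂]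
      simp only [RingHom.comp_apply, MonoidHom.comp_apply, coe_monoidHom_apply, ← map_mul,
        MonoidAlgebra.of_apply, algebraMap_eq_single, MonoidAlgebra.single_mul_single, mul_one,
        one_mul]
  rw [hL, h1, h2', hι', algebraMap_eq_single, coeff_single_apply'] at h2
  -- coefficient of the product
  have h3 : ∀ (θ : MonoidAlgebra A G) (x : MonoidAlgebra A G),
      ((MonoidAlgebra.ofCoeff (θ.coeff.mapRange
        (fun a => (MonoidAlgebra.single 1 a : MonoidAlgebra A G)) (by simp)) *
        MonoidAlgebra.single (1 : G) x : MonoidAlgebra (MonoidAlgebra A G) G).coeff n) =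
      MonoidAlgebra.single 1 (θ.coeff n) * x := by
    intro θ x
    rw [MonoidAlgebra.coeff_mul_single_one]
    simp
  rw [h3, MonoidAlgebra.coeff_single_one_mul] at h2
  unfold e
  rw [← h2]
  split_ifs with hnl
  · rfl
  · rfl

lemma e_idem (m n : G) : F.e m n * F.e m n = F.e m n := by
  classical
  rw [F.e_mul, if_pos rfl]

lemma e_orth (m n l : G) (h : n ≠ l) : F.e m n * F.e m l = 0 := by
  classical
  rw [F.e_mul, if_neg h]

/-- if the diagonal of the matrix is `1`, the transformation is the identity. -/
theorem act_eq_self (h : ∀ m, F.e m m = 1) (B : Type u) [CommRing B] (β : A →+* B)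
    (χ : G →* B) : F.act B β χ = χ := by
  classical
  ext m
  rw [F.act_eq]
  have h1 : F.univ m = MonoidAlgebra.single m 1 := by
    apply MonoidAlgebra.coeff_injective
    ext n
    rw [coeff_single_apply']
    split_ifs with hn
    · rw [← hn]
      exact h m
    · have := F.e_orth m n m (Ne.symm hn)
      rw [h m, mul_one] at this
      exact this
  rw [h1, liftHom_single, map_one, one_mul]

/-- restriction of the transformation to `A'`-algebras. -/
def comap {A' : Type u} [CommRing A'] (α : A →+* A') : GrpFunAct A' G where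
  act B _ β χ := F.act B (β.comp α) χ
  nat B B' _ _ γ β χ := by
    rw [RingHom.comp_assoc]
    exact F.nat B B' γ (β.comp α) χ
  mul B _ β χ₁ χ₂ := F.mul B (β.comp α) χ₁ χ₂

lemma comap_e {A' : Type u} [CommRing A'] (α : A →+* A') (m n : G) :
    (F.comap α).e m n = α (F.e m n) := by
  classical
  have h := F.nat _ _ (MonoidAlgebra.mapRingHom G α) (algebraMap A (MonoidAlgebra A G))
    (MonoidAlgebra.of A G)
  have h1 : (MonoidAlgebra.mapRingHom G α).comp (algebraMap A (MonoidAlgebra A G)) =
      (algebraMap A' (MonoidAlgebra A' G)).comp α := by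
    ext a
    simp [algebraMap_eq_single]
  have h2 : ((MonoidAlgebra.mapRingHom G α : MonoidAlgebra A G →+* MonoidAlgebra A' G) :
      MonoidAlgebra A G →* MonoidAlgebra A' G).comp (MonoidAlgebra.of A G) =
      MonoidAlgebra.of A' G := by
    ext g
    simp [MonoidAlgebra.of_apply, coe_monoidHom_apply]
  rw [h1, h2] at h
  have h3 := congrArg (fun k : G →* _ => (k m).coeff n) h
  simp only [MonoidHom.comp_apply, coe_monoidHom_apply] at h3
  unfold e univ comap
  simp only
  rw [h3]
  simp [MonoidAlgebra.mapRingHom]

end GrpFunAct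

end Groth.Agent.Lib.R2H3.MultAct
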