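import Groth.Agent.Lib.R2H3MultAutRed
import Groth.Agent.Lib.R2H3OverBc

/-!
# Rigidity of automorphisms of groups of multiplicative type: the quotient variant
(helper3, round 2)

Let `K` act (on points) by group automorphisms on an `S`-group `H` of multiplicative type, let
`p : K ⟶ U` be a surjective flat quasi-compact homomorphism onto a group with geometrically
connected fibres, and suppose that the points of `K` killed by `p` act trivially.  Then the action
is trivial.
-/

set_option autoImplicit false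
set_option linter.style.haveILetI false
set_option linter.unusedVariables false
set_option linter.unusedSectionVars false

universe u

open CategoryTheory MonoidalCategory CartesianMonoidalCategory MonObj GrpObj AlgebraicGeometry
  CategoryTheory.Limits
open Groth.Agent.Lib.Helper27.GaGm Groth.Agent.Lib.H6xDSPts

namespace Groth.Agent.Lib.R2H3.MultAct

section Quot

variable {W : Scheme.{u}} {M : Type} [AddCommGroup M] {K' : Over W} [GrpObj K']
  (P : PtAction K' (Red.DS W M))
  (hmul : ∀ {Y : Over W} (k : Y ⟶ K') (h₁ h₂ : Y ⟶ Red.DS W M),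
    P.smul k (h₁ * h₂) = P.smul k h₁ * P.smul k h₂)

theorem e_diag_eq_one_of_Zset (hZ : ∀ m, Zset P hmul m = Set.univ) {A : Type u} [CommRing A]
    (t : Spec (CommRingCat.of A) ⟶ K'.left) (m : Multiplicative M) :
    (toGrpFunAct P hmul t).e m m = 1 := by
  obtain ⟨e, he⟩ : ∃ e : A, e = (toGrpFunAct P hmul t).e m m := ⟨_, rfl⟩
  have hidem : e * e = e := by rw [he]; exact GrpFunAct.e_idem _ m m
  have hunit : IsUnit e := by
    by_contra hnu
    obtain ⟨I, hI, heI⟩ := exists_max_ideal_of_mem_nonunits hnu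
    obtain ⟨p, hp⟩ : ∃ p : Spec (CommRingCat.of A), p.asIdeal = I := ⟨⟨I, hI.isPrime⟩, rfl⟩
    rw [← hp, he, e_mem_iff] at heI
    have hx : t p ∈ Zset P hmul m := by rw [hZ]; trivial
    exact hx heI
  rw [← he]
  exact hunit.mul_left_cancel (hidem.trans (_root_.mul_one e).symm)

include hmul in
theorem PtAction.trivial_of_Zset (hZ : ∀ m, Zset P hmul m = Set.univ) {Y : Over W} (k : Y ⟶ K')
    (h : Y ⟶ Red.DS W M) : P.smul k h = h := by
  have haff : ∀ (A : Type u) [CommRing A] (t : Spec (CommRingCat.of A) ⟶ K'.left)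
      (h' : Over.mk (t ≫ K'.hom) ⟶ Red.DS W M), P.smul (kp t) h' = h' := by
    intro A _ t h'
    have h1 := (toGrpFunAct P hmul t).act_eq_self (e_diag_eq_one_of_Zset P hmul hZ t) A
      (RingHom.id A) (charOf h')
    rw [toGrpFunAct_act_id] at h1
    unfold actChar at h1
    rw [hq_charOf] at h1
    have h2 := congrArg (hq (t ≫ K'.hom)) h1
    rw [hq_charOf, hq_charOf] at h2
    exact h2
  apply Over.OverMorphism.ext
  apply Scheme.hom_ext_of_forall
  intro y
  obtain ⟨V, hV, hyV, -⟩ := TopologicalSpace.Opens.isBasis_iff_nbhd.mp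
    (Y.left.isBasis_affineOpens) (U := ⊤) (x := y) trivial
  refine ⟨V, hyV, ?_⟩
  obtain ⟨t, ht⟩ : ∃ t : Spec (CommRingCat.of Γ(Y.left, V)) ⟶ K'.left,
      t = hV.fromSpec ≫ k.left := ⟨_, rfl⟩
  obtain ⟨kV, hkV⟩ : ∃ kV : Over.mk (t ≫ K'.hom) ⟶ Y, kV.left = hV.fromSpec := by
    refine ⟨Over.homMk hV.fromSpec ?_, rfl⟩
    simp only [Over.mk_left, Over.mk_hom]
    rw [ht, Category.assoc, Over.w k]
  have h1 : kV ≫ k = kp t := by
    apply Over.OverMorphism.ext
    rw [Over.comp_left, hkV, kp_left, ht]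
  have h2 := P.comp_smul kV k h
  rw [h1, haff] at h2
  have h3 := congrArg (fun t => t.left) h2
  simp only [Over.comp_left] at h3
  rw [hkV] at h3
  rw [← hV.isoSpec_inv_ι] at h3
  simp only [Category.assoc] at h3
  exact (cancel_epi hV.isoSpec.inv).mp h3

variable {U' : Over W} [GrpObj U'] (p' : K' ⟶ U') [IsMonHom p']
  (hker : ∀ {Y : Over W} (n : Y ⟶ K'), n ≫ p' = 1 → ∀ x : Y ⟶ Red.DS W M, P.smul n x = x)

include hker in
/-- two points of `K'` with the same image in `U'` act in the same way. -/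
lemma smul_eq_of_comp_eq {Y : Over W} (k k' : Y ⟶ K') (hk : k ≫ p' = k' ≫ p')
    (x : Y ⟶ Red.DS W M) : P.smul k x = P.smul k' x := by
  have hn : (k⁻¹ * k') ≫ p' = 1 := by
    rw [MonObj.mul_comp _ _ p', ← hk]
    have : (k⁻¹ : Y ⟶ K') ≫ p' = (k ≫ p')⁻¹ := by
      rw [eq_inv_iff_mul_eq_one, ← MonObj.mul_comp _ _ p', inv_mul_cancel, MonObj.one_comp]
    rw [this, inv_mul_cancel]
  have h1 : k' = k * (k⁻¹ * k') := by group
  rw [h1, P.mul_smul, hker _ hn]

include hker in
lemma charOf_smul_eq {B : Type u} [CommRing B] (q q' : Spec (CommRingCat.of B) ⟶ W)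
    (hqq : q = q') (k : Over.mk q ⟶ K') (k' : Over.mk q' ⟶ K')
    (hk : k.left ≫ p'.left = k'.left ≫ p'.left) (χ : Multiplicative M →* B) :
    charOf (P.smul k (hq q χ)) = charOf (P.smul k' (hq q' χ)) := by
  subst hqq
  rw [smul_eq_of_comp_eq P p' hker k k' (Over.OverMorphism.ext hk)]

include hker in
lemma actChar_eq_of_comp_eq {B : Type u} [CommRing B] (z z' : Spec (CommRingCat.of B) ⟶ K'.left)
    (hz : z ≫ p'.left = z' ≫ p'.left) (χ : Multiplicative M →* B) :
    actChar P z χ = actChar P z' χ := by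
  unfold actChar
  apply charOf_smul_eq P p' hker
  · rw [← Over.w p', ← Category.assoc, hz, Category.assoc]
  · exact hz

include hker in
lemma e_eq_of_comp_eq {A : Type u} [CommRing A] (y y' : Spec (CommRingCat.of A) ⟶ K'.left)
    (hy : y ≫ p'.left = y' ≫ p'.left) (m n : Multiplicative M) :
    (toGrpFunAct P hmul y).e m n = (toGrpFunAct P hmul y').e m n := by
  have h : toGrpFunAct P hmul y = toGrpFunAct P hmul y' := by
    apply GrpFunAct.ext'
    intro B _ β χ
    change actChar P (Spec.map (CommRingCat.ofHom β) ≫ y) χ =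
      actChar P (Spec.map (CommRingCat.ofHom β) ≫ y') χ
    apply actChar_eq_of_comp_eq P p' hker
    rw [Category.assoc, hy, Category.assoc]
  rw [h]

include hker in
lemma Zset_saturated (x x' : K'.left) (hxx : p'.left x = p'.left x') (m : Multiplicative M) :
    x ∈ Zset P hmul m ↔ x' ∈ Zset P hmul m := by
  obtain ⟨z, hz1, hz2⟩ := Scheme.Pullback.exists_preimage_pullback x x' hxx
  obtain ⟨y, hy⟩ : ∃ y : Spec (CommRingCat.of ((pullback p'.left p'.left).residueField z)) ⟶
      K'.left, y = (pullback p'.left p'.left).fromSpecResidueField z ≫ pullback.fst _ _ :=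
    ⟨_, rfl⟩
  obtain ⟨y', hy'⟩ : ∃ y' : Spec (CommRingCat.of ((pullback p'.left p'.left).residueField z)) ⟶
      K'.left, y' = (pullback p'.left p'.left).fromSpecResidueField z ≫ pullback.snd _ _ :=
    ⟨_, rfl⟩
  have hyy : y ≫ p'.left = y' ≫ p'.left := by
    rw [hy, hy', Category.assoc, Category.assoc, pullback.condition]
  have hx : y (IsLocalRing.closedPoint _) = x := by
    rw [hy, Scheme.Hom.comp_apply, Scheme.fromSpecResidueField_apply, hz1]
  have hx' : y' (IsLocalRing.closedPoint _) = x' := by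
    rw [hy', Scheme.Hom.comp_apply, Scheme.fromSpecResidueField_apply, hz2]
  change eAt P hmul x m m ≠ 0 ↔ eAt P hmul x' m m ≠ 0
  rw [Ne, Ne, ← e_fieldPt P hmul y x hx, ← e_fieldPt P hmul y' x' hx',
    e_eq_of_comp_eq P hmul p' hker y y' hyy]

include hker in
theorem Zset_eq_univ_of_quot [Surjective p'.left] [Flat p'.left] [QuasiCompact p'.left]
    [GeometricallyConnected U'.hom] (m : Multiplicative M) : Zset P hmul m = Set.univ := by
  have hq : Topology.IsQuotientMap p'.left := Flat.isQuotientMap_of_surjective p'.left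
  obtain ⟨Z', hZ'⟩ : ∃ Z' : Set U'.left, Z' = p'.left '' Zset P hmul m := ⟨_, rfl⟩
  have hpre : p'.left ⁻¹' Z' = Zset P hmul m := by
    ext x
    rw [hZ']
    constructor
    · rintro ⟨x', hx', hxx⟩
      exact (Zset_saturated P hmul p' hker x' x hxx m).mp hx'
    · intro hx
      exact ⟨x, hx, rfl⟩
  have hclopen : IsClopen Z' := by
    constructor
    · rw [← hq.isClosed_preimage, hpre]
      exact isOpen_compl_iff.mp (isOpen_compl_Zset P hmul m)
    · rw [← hq.isOpen_preimage, hpre]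
      exact isOpen_Zset P hmul m
  have hunit : ∀ w : W, unitSec U' w ∈ Z' := by
    intro w
    rw [hZ']
    refine ⟨unitSec K' w, unit_mem_Zset P hmul w m, ?_⟩
    have h1 : unitSec K' ≫ p'.left = unitSec U' := by
      unfold unitSec
      rw [← Over.comp_left, IsMonHom.one_hom]
    rw [← h1, Scheme.Hom.comp_apply]
  have hall : Z' = Set.univ := by
    ext x
    simp only [Set.mem_univ, iff_true]
    have hconn := (Scheme.Hom.isConnected_preimage_singleton U'.hom (U'.hom x)).isPreconnected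
    have hsub := hconn.subset_isClopen hclopen ⟨unitSec U' (U'.hom x), ?_, hunit _⟩
    · exact hsub rfl
    · change U'.hom (unitSec U' (U'.hom x)) = U'.hom x
      rw [← Scheme.Hom.comp_apply, unitSec_hom]
      rfl
  rw [← hpre, hall, Set.preimage_univ]

include hmul hker in
/-- **Rigidity, quotient variant** over a base over which the target is diagonalisable. -/
theorem PtAction.trivial_of_quot [Surjective p'.left] [Flat p'.left] [QuasiCompact p'.left]
    [GeometricallyConnected U'.hom] {Y : Over W} (k : Y ⟶ K') (h : Y ⟶ Red.DS W M) :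
    P.smul k h = h :=
  PtAction.trivial_of_Zset P hmul (Zset_eq_univ_of_quot P hmul p' hker) k h

end Quot

section SplitQuot

variable {S W : Scheme.{u}} (w : W ⟶ S) {K H U : Over S} [GrpObj K] [GrpObj H] [GrpObj U]
  (P : PtAction K H)
  (hmul : ∀ {Y : Over S} (k : Y ⟶ K) (h₁ h₂ : Y ⟶ H),
    P.smul k (h₁ * h₂) = P.smul k h₁ * P.smul k h₂)
  (p : K ⟶ U) [IsMonHom p]
  (hker : ∀ {Y : Over S} (n : Y ⟶ K), n ≫ p = 1 → ∀ x : Y ⟶ H, P.smul n x = x)

lemma adjE_comp_map (Y : Over W) (n : Y ⟶ Red.bc w K) :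
    adjE w U Y (n ≫ (Over.pullback w).map p) = adjE w K Y n ≫ p :=
  (Over.mapPullbackAdj w).homEquiv_naturality_right_symm n p

include hker in
lemma PtAction.bc_hker {Y : Over W} (n : Y ⟶ Red.bc w K) (hn : n ≫ (Over.pullback w).map p = 1)
    (x : Y ⟶ Red.bc w H) : (P.bc w).smul n x = x := by
  apply (adjE w H Y).injective
  rw [PtAction.bc_smul]
  apply hker
  rw [← adjE_comp_map, hn, adjE_one]

open scoped Obj in
include hmul hker in
/-- the case of points defined over a scheme over which `H` is diagonalisable. -/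
theorem PtAction.trivial_of_split_target_quot [Surjective p.left] [Flat p.left]
    [QuasiCompact p.left] [GeometricallyConnected U.hom] {M : Type}
    [AddCommGroup M] (e : Grp.mk (Red.bc w H) ≅ Grp.mk (Red.DS W M)) (Y' : Over W)
    (k : (Over.map w).obj Y' ⟶ K) (h : (Over.map w).obj Y' ⟶ H) : P.smul k h = h := by
  obtain ⟨a, ha⟩ : ∃ a : Red.bc w H ⟶ Red.DS W M, a = e.hom.hom.hom := ⟨_, rfl⟩
  obtain ⟨b, hb⟩ : ∃ b : Red.DS W M ⟶ Red.bc w H, b = e.inv.hom.hom := ⟨_, rfl⟩
  haveI : IsMonHom a := by rw [ha]; infer_instance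
  haveI : IsMonHom b := by rw [hb]; infer_instance
  have hab : a ≫ b = 𝟙 _ := by
    rw [ha, hb, ← Grp.comp_hom_hom, e.hom_inv_id, Grp.id_hom_hom]
  have hba : b ≫ a = 𝟙 _ := by
    rw [ha, hb, ← Grp.comp_hom_hom, e.inv_hom_id, Grp.id_hom_hom]
  haveI : GeometricallyConnected (Red.bc w U).hom := by
    change GeometricallyConnected (pullback.snd U.hom w)
    infer_instance
  obtain ⟨p', hp'⟩ : ∃ p' : Red.bc w K ⟶ Red.bc w U, p' = (Over.pullback w).map p := ⟨_, rfl⟩
  haveI : IsMonHom p' := by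
    rw [hp']
    exact Functor.map.instIsMonHom (F := Over.pullback w) (f := p)
  haveI : Surjective p'.left := by
    rw [hp']
    exact Groth.Agent.Lib.R2H3.OverBc.bcHom_of_left (P := @Surjective) w p inferInstance
  haveI : Flat p'.left := by
    rw [hp']
    exact Groth.Agent.Lib.R2H3.OverBc.bcHom_of_left (P := @Flat) w p inferInstance
  haveI : QuasiCompact p'.left := by
    rw [hp']
    exact Groth.Agent.Lib.R2H3.OverBc.bcHom_of_left (P := @QuasiCompact) w p inferInstance
  have triv := PtAction.trivial_of_quot ((P.bc w).mapTarget a b hab hba) (by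
      intro Y k h₁ h₂
      rw [PtAction.mapTarget_smul, PtAction.mapTarget_smul, PtAction.mapTarget_smul,
        MonObj.mul_comp _ _ b, PtAction.bc_hmul w P hmul, MonObj.mul_comp _ _ a]) p' (by
      intro Y n hn x
      rw [hp'] at hn
      rw [PtAction.mapTarget_smul, PtAction.bc_hker w P p hker n hn, Category.assoc, hba,
        Category.comp_id])
    ((adjE w K Y').symm k) ((adjE w H Y').symm h ≫ a)
  rw [PtAction.mapTarget_smul, Category.assoc, hab, Category.comp_id] at triv
  have h1 := congrArg (fun t => t ≫ b) triv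
  simp only [Category.assoc] at h1
  rw [hab, Category.comp_id, Category.comp_id] at h1
  have h2 := congrArg (adjE w H Y') h1
  rw [PtAction.bc_smul, Equiv.apply_symm_apply, Equiv.apply_symm_apply] at h2
  exact h2

include hmul hker in
/-- **Rigidity, quotient variant**: let `K` act (on points) by group automorphisms on an `S`-group
`H` of multiplicative type, `p : K ⟶ U` a surjective flat quasi-compact homomorphism onto a group
with geometrically connected fibres such that the points of `K` killed by `p` act trivially; then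
the action is trivial. -/
theorem PtAction.trivial_of_multType_target_quot [Surjective p.left] [Flat p.left]
    [QuasiCompact p.left] [GeometricallyConnected U.hom]
    (hH : TwC.Locally S TwC.Topology.fpqc (fun S' f => ∃ (M : Type) (_ : AddCommGroup M),
      Nonempty (Grp.mk (Red.bc f H) ≅ Grp.mk (Red.DS S' M))))
    (Y : Over S) (k : Y ⟶ K) (h : Y ⟶ H) : P.smul k h = h := by
  obtain ⟨S', f, hflat, hsurj, -, hloc⟩ := hH
  haveI : Epi (pullback.fst Y.hom f) := Flat.epi_of_flat_of_surjective _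
  apply Over.OverMorphism.ext
  rw [← cancel_epi (pullback.fst Y.hom f)]
  apply Scheme.hom_ext_of_forall
  intro z
  obtain ⟨V, hs'V, M, instM, ⟨e⟩⟩ := hloc ((pullback.snd Y.hom f) z)
  refine ⟨(pullback.snd Y.hom f) ⁻¹ᵁ V, hs'V, ?_⟩
  obtain ⟨t, ht⟩ : ∃ t : ((pullback.snd Y.hom f) ⁻¹ᵁ V).toScheme ⟶ V.toScheme,
      t ≫ V.ι = ((pullback.snd Y.hom f) ⁻¹ᵁ V).ι ≫ pullback.snd Y.hom f :=
    ⟨(pullback.snd Y.hom f).resLE V _ le_rfl, Scheme.Hom.resLE_comp_ι _ _⟩
  obtain ⟨j, hj⟩ : ∃ j : (Over.map (V.ι ≫ f)).obj (Over.mk t) ⟶ Y,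
      j.left = ((pullback.snd Y.hom f) ⁻¹ᵁ V).ι ≫ pullback.fst Y.hom f := by
    refine ⟨Over.homMk (((pullback.snd Y.hom f) ⁻¹ᵁ V).ι ≫ pullback.fst Y.hom f) ?_, rfl⟩
    simp only [Over.map_obj_left, Over.mk_left, Over.map_obj_hom, Over.mk_hom, Category.assoc]
    rw [pullback.condition, ← Category.assoc, ← ht, Category.assoc]
  have h1 := P.comp_smul j k h
  rw [PtAction.trivial_of_split_target_quot (V.ι ≫ f) P hmul p hker e (Over.mk t) (j ≫ k)
    (j ≫ h)] at h1
  have h2 := congrArg (fun t => t.left) h1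
  simp only [Over.comp_left] at h2
  rw [hj, Category.assoc, Category.assoc] at h2
  exact h2

end SplitQuot

section Comm

/-- a group of multiplicative type is commutative. -/
theorem comm_of_multType {S : Scheme.{u}} {H : Over S} [GrpObj H]
    (hH : TwC.Locally S TwC.Topology.fpqc (fun S' f => ∃ (M : Type) (_ : AddCommGroup M),
      Nonempty (Grp.mk (Red.bc f H) ≅ Grp.mk (Red.DS S' M))))
    (Y : Over S) (x y : Y ⟶ H) : x * y = y * x := by
  obtain ⟨S', f, hflat, hsurj, -, hloc⟩ := hH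
  haveI : Epi (pullback.fst Y.hom f) := Flat.epi_of_flat_of_surjective _
  apply Over.OverMorphism.ext
  rw [← cancel_epi (pullback.fst Y.hom f)]
  apply Scheme.hom_ext_of_forall
  intro z
  obtain ⟨V, hs'V, M, instM, ⟨e⟩⟩ := hloc ((pullback.snd Y.hom f) z)
  refine ⟨(pullback.snd Y.hom f) ⁻¹ᵁ V, hs'V, ?_⟩
  obtain ⟨t, ht⟩ : ∃ t : ((pullback.snd Y.hom f) ⁻¹ᵁ V).toScheme ⟶ V.toScheme,
      t ≫ V.ι = ((pullback.snd Y.hom f) ⁻¹ᵁ V).ι ≫ pullback.snd Y.hom f :=
    ⟨(pullback.snd Y.hom f).resLE V _ le_rfl, Scheme.Hom.resLE_comp_ι _ _⟩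
  obtain ⟨j, hj⟩ : ∃ j : (Over.map (V.ι ≫ f)).obj (Over.mk t) ⟶ Y,
      j.left = ((pullback.snd Y.hom f) ⁻¹ᵁ V).ι ≫ pullback.fst Y.hom f := by
    refine ⟨Over.homMk (((pullback.snd Y.hom f) ⁻¹ᵁ V).ι ≫ pullback.fst Y.hom f) ?_, rfl⟩
    simp only [Over.map_obj_left, Over.mk_left, Over.map_obj_hom, Over.mk_hom, Category.assoc]
    rw [pullback.condition, ← Category.assoc, ← ht, Category.assoc]
  -- commutativity of the points over `Over.mk t`
  have key : (j ≫ x) * (j ≫ y) = (j ≫ y) * (j ≫ x) := by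
    obtain ⟨a, ha⟩ : ∃ a : Red.bc (V.ι ≫ f) H ⟶ Red.DS (V : Scheme.{u}) M, a = e.hom.hom.hom :=
      ⟨_, rfl⟩
    obtain ⟨b, hb⟩ : ∃ b : Red.DS (V : Scheme.{u}) M ⟶ Red.bc (V.ι ≫ f) H, b = e.inv.hom.hom :=
      ⟨_, rfl⟩
    haveI : IsMonHom a := by rw [ha]; infer_instance
    haveI : IsMonHom b := by rw [hb]; infer_instance
    have hab : a ≫ b = 𝟙 _ := by
      rw [ha, hb, ← Grp.comp_hom_hom, e.hom_inv_id, Grp.id_hom_hom]
    obtain ⟨x', hx'⟩ : ∃ x' : Over.mk t ⟶ Red.bc (V.ι ≫ f) H,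
        adjE (V.ι ≫ f) H (Over.mk t) x' = j ≫ x := ⟨_, Equiv.apply_symm_apply _ _⟩
    obtain ⟨y', hy'⟩ : ∃ y' : Over.mk t ⟶ Red.bc (V.ι ≫ f) H,
        adjE (V.ι ≫ f) H (Over.mk t) y' = j ≫ y := ⟨_, Equiv.apply_symm_apply _ _⟩
    have hc : (x' ≫ a) * (y' ≫ a) = (y' ≫ a) * (x' ≫ a) := by
      apply dsFn_ext
      intro m
      rw [dsFn_mul, dsFn_mul, mul_comm]
    have hc2 : x' * y' = y' * x' := by
      have h3 := congrArg (fun t => t ≫ b) hc
      simp only [MonObj.mul_comp _ _ b, Category.assoc, hab, Category.comp_id] at h3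
      exact h3
    rw [← hx', ← hy', ← adjE_mul, ← adjE_mul, hc2]
  rw [← MonObj.comp_mul, ← MonObj.comp_mul] at key
  have h2 := congrArg (fun t => t.left) key
  simp only [Over.comp_left] at h2
  rw [hj, Category.assoc, Category.assoc] at h2
  exact h2

end Comm

end Groth.Agent.Lib.R2H3.MultAct
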