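import Groth.Agent.Lib.R2H3MultActAlg

/-!
# Additive functions on the points of a diagonalisable group vanish (helper3, round 2)

Pure algebra: an `AddFun R G` is a natural additive function `Hom(G, B) → B` on the points of the
diagonalisable group `D(G)` over `R` (i.e. a homomorphism `D(G) → 𝔾_a`); it is zero.
-/

set_option autoImplicit false
set_option linter.style.haveILetI false
set_option linter.unusedVariables false
set_option linter.unusedSectionVars false

universe u

namespace Groth.Agent.Lib.R2H3.MultGa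

open Groth.Agent.Lib.R2H3.MultAct

/-- a natural additive function on `B ↦ Hom(G, B)` (for `R`-algebras `B`). -/
structure AddFun (R : Type u) [CommRing R] (G : Type) [CommGroup G] where
  /-- the value on `B`-points -/
  val : ∀ (B : Type u) [CommRing B], (R →+* B) → (G →* B) → B
  nat : ∀ (B B' : Type u) [CommRing B] [CommRing B'] (β : B →+* B') (α : R →+* B) (χ : G →* B),
    val B' (β.comp α) ((β : B →* B').comp χ) = β (val B α χ)
  mul : ∀ (B : Type u) [CommRing B] (α : R →+* B) (χ₁ χ₂ : G →* B),
    val B α (χ₁ * χ₂) = val B α χ₁ + val B α χ₂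

variable {R : Type u} [CommRing R] {G : Type} [CommGroup G]

/-- `liftHom` to a monoid algebra along a monoid hom is `mapDomain`. -/
lemma liftHom_eq_mapDomain {H : Type} [CommGroup H] (f : G →* H) (b : MonoidAlgebra R G) :
    liftHom (algebraMap R (MonoidAlgebra R H)) ((MonoidAlgebra.of R H).comp f) b =
      MonoidAlgebra.mapDomain f b := by
  have h : liftHom (algebraMap R (MonoidAlgebra R H)) ((MonoidAlgebra.of R H).comp f) =
      MonoidAlgebra.mapDomainRingHom R f := by
    apply MonoidAlgebra.ringHom_ext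
    · intro r
      simp [algebraMap_eq_single, MonoidAlgebra.of_apply, MonoidAlgebra.single_mul_single]
    · intro m
      simp [algebraMap_eq_single, MonoidAlgebra.of_apply, MonoidAlgebra.single_mul_single]
  rw [h]
  rfl

/-- the key computation in `R[G × G]`. -/
theorem eq_zero_of_mapDomain (b : MonoidAlgebra R G)
    (h : MonoidAlgebra.mapDomain (fun g : G => ((g, g) : G × G)) b =
      MonoidAlgebra.mapDomain (fun g : G => ((g, 1) : G × G)) b +
      MonoidAlgebra.mapDomain (fun g : G => ((1, g) : G × G)) b) : b = 0 := by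
  classical
  have hc := congrArg MonoidAlgebra.coeff h
  rw [MonoidAlgebra.coeff_add] at hc
  simp only [MonoidAlgebra.coeff_mapDomain] at hc
  have hdiag : Function.Injective (fun g : G => ((g, g) : G × G)) := fun a b hab =>
    (Prod.ext_iff.mp hab).1
  have hinl : Function.Injective (fun g : G => ((g, 1) : G × G)) := fun a b hab =>
    (Prod.ext_iff.mp hab).1
  have hinr : Function.Injective (fun g : G => ((1, g) : G × G)) := fun a b hab =>
    (Prod.ext_iff.mp hab).2
  apply MonoidAlgebra.coeff_injective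
  ext g
  have hg := DFunLike.congr_fun hc (g, g)
  rw [Finsupp.add_apply] at hg
  have h1 : Finsupp.mapDomain (fun g : G => ((g, g) : G × G)) b.coeff (g, g) = b.coeff g :=
    Finsupp.mapDomain_apply hdiag b.coeff g
  rw [h1] at hg
  by_cases hg1 : g = 1
  · subst hg1
    have h2 : Finsupp.mapDomain (fun g : G => ((g, 1) : G × G)) b.coeff (1, 1) = b.coeff 1 :=
      Finsupp.mapDomain_apply hinl b.coeff 1
    have h3 : Finsupp.mapDomain (fun g : G => ((1, g) : G × G)) b.coeff (1, 1) = b.coeff 1 :=
      Finsupp.mapDomain_apply hinr b.coeff 1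
    rw [h2, h3] at hg
    simpa using hg
  · have h2 : Finsupp.mapDomain (fun g : G => ((g, 1) : G × G)) b.coeff (g, g) = 0 := by
      apply Finsupp.mapDomain_of_notMem_range
      rintro ⟨a, ha⟩
      exact hg1 (Prod.ext_iff.mp ha).2.symm
    have h3 : Finsupp.mapDomain (fun g : G => ((1, g) : G × G)) b.coeff (g, g) = 0 := by
      apply Finsupp.mapDomain_of_notMem_range
      rintro ⟨a, ha⟩
      exact hg1 (Prod.ext_iff.mp ha).1.symm
    rw [h2, h3, add_zero] at hg
    simpa using hg

namespace AddFun

variable (F : AddFun R G)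

/-- the universal value. -/
noncomputable def univ : MonoidAlgebra R G :=
  F.val (MonoidAlgebra R G) (algebraMap R (MonoidAlgebra R G)) (MonoidAlgebra.of R G)

lemma val_eq (B : Type u) [CommRing B] (α : R →+* B) (χ : G →* B) :
    F.val B α χ = liftHom α χ F.univ := by
  have := F.nat _ _ (liftHom α χ) (algebraMap R (MonoidAlgebra R G)) (MonoidAlgebra.of R G)
  rw [liftHom_comp_algebraMap, liftHom_comp_of] at this
  exact this

theorem univ_eq_zero : F.univ = 0 := by
  apply eq_zero_of_mapDomain
  obtain ⟨α, hα⟩ : ∃ α : R →+* MonoidAlgebra R (G × G),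
    α = algebraMap R (MonoidAlgebra R (G × G)) := ⟨_, rfl⟩
  obtain ⟨χ₁, hχ₁⟩ : ∃ χ₁ : G →* MonoidAlgebra R (G × G),
    χ₁ = (MonoidAlgebra.of R (G × G)).comp (MonoidHom.inl G G) := ⟨_, rfl⟩
  obtain ⟨χ₂, hχ₂⟩ : ∃ χ₂ : G →* MonoidAlgebra R (G × G),
    χ₂ = (MonoidAlgebra.of R (G × G)).comp (MonoidHom.inr G G) := ⟨_, rfl⟩
  have h12 : χ₁ * χ₂ = (MonoidAlgebra.of R (G × G)).comp
      ((MonoidHom.inl G G) * (MonoidHom.inr G G)) := by
    apply MonoidHom.ext
    intro g
    rw [hχ₁, hχ₂]
    simp [MonoidAlgebra.of_apply, MonoidAlgebra.single_mul_single]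
  have h := F.mul (MonoidAlgebra R (G × G)) α χ₁ χ₂
  rw [F.val_eq, F.val_eq, F.val_eq, h12, hα, hχ₁, hχ₂, liftHom_eq_mapDomain, liftHom_eq_mapDomain,
    liftHom_eq_mapDomain] at h
  have e1 : (fun g : G => ((g, g) : G × G)) = ⇑(MonoidHom.inl G G * MonoidHom.inr G G) := by
    funext g
    simp
  have e2 : (fun g : G => ((g, 1) : G × G)) = ⇑(MonoidHom.inl G G) := by
    funext g
    simp
  have e3 : (fun g : G => ((1, g) : G × G)) = ⇑(MonoidHom.inr G G) := by
    funext g
    simp
  rw [e1, e2, e3]
  exact h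

theorem val_eq_zero (B : Type u) [CommRing B] (α : R →+* B) (χ : G →* B) : F.val B α χ = 0 := by
  rw [F.val_eq, F.univ_eq_zero, map_zero]

end AddFun

end Groth.Agent.Lib.R2H3.MultGa
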