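import Groth.Agent.Lib.R2H3MultGaAlg
import Groth.Agent.Lib.R2H3MultActRed
import Groth.Prelude.Def_SGA3x

/-!
# Homomorphisms from a group of multiplicative type to `𝔾_a` are trivial (helper3, round 2)

`PtAddFun Gw`: an additive function on the points of the group object `Gw` of `Over W`
(i.e. a homomorphism `Gw ⟶ 𝔾_a`, on points).  For `Gw = D_W(M)` it vanishes
(`PtAddFun.eq_zero_diag`); hence every homomorphism from a group of multiplicative type to `𝔾_a`
is trivial (`eq_one_of_multType`).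
-/

set_option autoImplicit false
set_option linter.style.haveILetI false
set_option linter.unusedVariables false
set_option linter.unusedSectionVars false

universe u

open CategoryTheory MonoidalCategory CartesianMonoidalCategory MonObj GrpObj AlgebraicGeometry
  CategoryTheory.Limits
open Groth.Agent.Lib.Helper27.GaGm Groth.Agent.Lib.H6xDSPts Groth.Agent.Lib.R2H3.MultAct

namespace Groth.Agent.Lib.R2H3.MultGa

/-- an additive function on the points of a group object of `Over W`. -/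
structure PtAddFun {W : Scheme.{u}} (Gw : Over W) [GrpObj Gw] where
  /-- the value on `Y`-points -/
  val : ∀ {Y : Over W}, (Y ⟶ Gw) → Γ(Y.left, ⊤)
  comp : ∀ {Y Y' : Over W} (k : Y' ⟶ Y) (g : Y ⟶ Gw), val (k ≫ g) = k.left.appTop (val g)
  mul : ∀ {Y : Over W} (g h : Y ⟶ Gw), val (g * h) = val g + val h

/-- restriction along a homomorphism of groups. -/
def PtAddFun.comap {W : Scheme.{u}} {Gw Gw' : Over W} [GrpObj Gw] [GrpObj Gw']
    (P : PtAddFun Gw) (v : Gw' ⟶ Gw) [IsMonHom v] : PtAddFun Gw' where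
  val g := P.val (g ≫ v)
  comp k g := by rw [Category.assoc, P.comp]
  mul g h := by rw [MonObj.mul_comp, P.mul]

section Affine

variable {W : Scheme.{u}} {M : Type} [AddCommGroup M] {C : Type u} [CommRing C]
  (π : Spec (CommRingCat.of C) ⟶ W) (P : PtAddFun (Red.DS W M))

lemma ΓSpecIso_hom_injective {B : Type u} [CommRing B] :
    Function.Injective ((Scheme.ΓSpecIso (CommRingCat.of B)).hom :
      _ ⟶ CommRingCat.of B) :=
  (ConcreteCategory.bijective_of_isIso (Scheme.ΓSpecIso (CommRingCat.of B)).hom).1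

/-- the functorial additive function attached to an additive function on the points of
`D_W(M)`, over the affine `W`-scheme `Spec C`. -/
noncomputable def toAddFun : AddFun C (Multiplicative M) where
  val B _ α χ := (Scheme.ΓSpecIso (CommRingCat.of B)).hom (P.val (gof π α χ))
  nat B B' _ _ β α χ := by
    have h := P.comp (kof π α β) (gof π α χ)
    rw [kof_gof, kof_left] at h
    rw [h]
    have h2 := Scheme.ΓSpecIso_naturality (CommRingCat.ofHom β)
    exact congrArg (fun k => k.hom (P.val (gof π α χ))) h2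
  mul B _ α χ₁ χ₂ := by
    rw [gof_mul, P.mul]
    exact map_add (Scheme.ΓSpecIso (CommRingCat.of B)).hom.hom _ _

lemma val_gof {B : Type u} [CommRing B] (α : C →+* B) (χ : Multiplicative M →* B) :
    P.val (gof π α χ) = 0 := by
  have h := (toAddFun π P).val_eq_zero B α χ
  apply ΓSpecIso_hom_injective
  rw [map_zero]
  exact h

/-- an additive function on the points of `D_W(M)` vanishes on the points defined over a
`W`-scheme mapping to an affine `W`-scheme. -/
theorem PtAddFun.eq_zero_of_affine (Y : Over W) (x : Y ⟶ Over.mk π) (g : Y ⟶ Red.DS W M) :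
    P.val g = 0 := by
  obtain ⟨χ, hχ⟩ : ∃ χ : Multiplicative M →* Γ(Y.left, ⊤),
      ∀ m, χ (Multiplicative.ofAdd m) = dsFn g m :=
    ⟨{ toFun := fun m => dsFn g (Multiplicative.toAdd m)
       map_one' := dsFn_zero g
       map_mul' := fun a b => dsFn_add g _ _ }, fun m => rfl⟩
  obtain ⟨α, hα⟩ : ∃ α : C →+* Γ(Y.left, ⊤), α = fnHom (A := C) x.left := ⟨_, rfl⟩
  have hk : Y.left.toSpecΓ ≫ Spec.map (CommRingCat.ofHom α) = x.left := by
    apply fn_ext (A := C)
    intro c
    rw [fn_specMap]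
    unfold fn
    rw [toSpecΓ_appTop_inv, hα]
    rfl
  let k : Y ⟶ Yof π α := Over.homMk (Y.left.toSpecΓ) (by
    simp only [Over.mk_left, Over.mk_hom]
    rw [← Category.assoc, hk]
    exact Over.w x)
  have hkg : k ≫ gof π α χ = g := by
    apply dsFn_ext
    intro m
    rw [dsFn_comp, dsFn_gof, hχ]
    exact toSpecΓ_appTop_inv _
  rw [← hkg, P.comp, val_gof, map_zero]

end Affine

section Diag

variable {W : Scheme.{u}} {M : Type} [AddCommGroup M] (P : PtAddFun (Red.DS W M))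

/-- an additive function on the points of `D_W(M)` vanishes. -/
theorem PtAddFun.eq_zero_diag (Y : Over W) (g : Y ⟶ Red.DS W M) : P.val g = 0 := by
  obtain ⟨x, hx⟩ : ∃ x : Y ⟶ Red.Ga W, Red.gaFn x = P.val g := gaFn_surjective _
  rw [← hx]
  suffices h : x = 1 by rw [h, gaFn_one]
  apply Over.OverMorphism.ext
  apply Scheme.hom_ext_of_forall
  intro y
  obtain ⟨V, hV, hyV, -⟩ := TopologicalSpace.Opens.isBasis_iff_nbhd.mp
    (W.isBasis_affineOpens) (U := ⊤) (x := Y.hom y) trivial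
  refine ⟨Y.hom ⁻¹ᵁ V, hyV, ?_⟩
  obtain ⟨k, hk⟩ : ∃ k : Over.mk ((Y.hom ⁻¹ᵁ V).ι ≫ Y.hom) ⟶ Y, k.left = (Y.hom ⁻¹ᵁ V).ι :=
    ⟨Over.homMk (Y.hom ⁻¹ᵁ V).ι rfl, rfl⟩
  have hrange : Set.range ((Y.hom ⁻¹ᵁ V).ι ≫ Y.hom) ⊆ Set.range hV.fromSpec := by
    rw [hV.range_fromSpec]
    rintro _ ⟨t, rfl⟩
    rw [Scheme.Hom.comp_apply]
    exact t.2
  obtain ⟨x', -⟩ : ∃ x' : Over.mk ((Y.hom ⁻¹ᵁ V).ι ≫ Y.hom) ⟶ Over.mk hV.fromSpec, True :=
    ⟨Over.homMk (IsOpenImmersion.lift hV.fromSpec ((Y.hom ⁻¹ᵁ V).ι ≫ Y.hom) hrange)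
      (IsOpenImmersion.lift_fac _ _ _), trivial⟩
  have h1 : k ≫ x = k ≫ 1 := by
    apply gaFn_injective
    rw [gaFn_comp, hx, ← P.comp, P.eq_zero_of_affine hV.fromSpec _ x', MonObj.comp_one, gaFn_one]
  have h2 := congrArg (fun t => t.left) h1
  simp only [Over.comp_left] at h2
  rw [hk] at h2
  exact h2

end Diag

section BaseChange

variable {S : Scheme.{u}} {H : Over S} [GrpObj H] (u : H ⟶ Red.Ga S) [IsMonHom u]
  {W : Scheme.{u}} (w : W ⟶ S)

/-- the additive function on the points of the base change of `H` attached to a homomorphism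
`H ⟶ 𝔾_a`. -/
noncomputable def ofHomVal {Y : Over W} (g : Y ⟶ Red.bc w H) : Γ(Y.left, ⊤) :=
  Red.gaFn (S := S) (X := (Over.map w).obj Y) (adjE w H Y g ≫ u)

/-- the additive function on the points of the base change of `H` attached to a homomorphism
`H ⟶ 𝔾_a`. -/
noncomputable def PtAddFun.ofHom (u : H ⟶ Red.Ga S) [IsMonHom u] {W : Scheme.{u}} (w : W ⟶ S) :
    PtAddFun (Red.bc w H) where
  val {Y} g := ofHomVal u w g
  comp {Y Y'} k g := by
    unfold ofHomVal
    rw [adjE_comp, Category.assoc, gaFn_comp]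
    rfl
  mul {Y} g h := by
    unfold ofHomVal
    rw [adjE_mul, MonObj.mul_comp _ _ u, gaFn_mul]

/-- the case of points defined over a scheme over which `H` is diagonalisable. -/
theorem comp_eq_one_of_split {M : Type} [AddCommGroup M]
    (e : Grp.mk (Red.bc w H) ≅ Grp.mk (Red.DS W M)) (Y' : Over W)
    (g : (Over.map w).obj Y' ⟶ H) : g ≫ u = 1 := by
  obtain ⟨v', hv'⟩ : ∃ v' : Red.DS W M ⟶ Red.bc w H, v' = e.inv.hom.hom := ⟨_, rfl⟩
  obtain ⟨v, hv⟩ : ∃ v : Red.bc w H ⟶ Red.DS W M, v = e.hom.hom.hom := ⟨_, rfl⟩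
  haveI : IsMonHom v' := by rw [hv']; infer_instance
  have hvv : v ≫ v' = 𝟙 _ := by
    rw [hv', hv, ← Grp.comp_hom_hom, e.hom_inv_id, Grp.id_hom_hom]
  have h := ((PtAddFun.ofHom u w).comap v').eq_zero_diag Y' ((adjE w H Y').symm g ≫ v)
  change Red.gaFn (S := S) (X := (Over.map w).obj Y')
    (adjE w H Y' (((adjE w H Y').symm g ≫ v) ≫ v') ≫ u) = 0 at h
  rw [Category.assoc, hvv, Category.comp_id, Equiv.apply_symm_apply] at h
  apply gaFn_injective
  rw [h, gaFn_one]

end BaseChange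

/-- **SGA3**: every homomorphism from an `S`-group of multiplicative type (and of finite type) to
`𝔾_a` is trivial. -/
theorem eq_one_of_multType (S : Scheme.{u}) (H : Over S) [GrpObj H] (hH : SGA3x.IsMultTypeFT H)
    (u : H ⟶ Red.Ga S) [IsMonHom u] : u = 1 := by
  obtain ⟨S', f, hflat, hsurj, -, hloc⟩ := hH
  haveI : Epi (pullback.fst H.hom f) := Flat.epi_of_flat_of_surjective _
  apply Over.OverMorphism.ext
  rw [← cancel_epi (pullback.fst H.hom f)]
  apply Scheme.hom_ext_of_forall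
  intro z
  obtain ⟨U, hs'U, M, instM, -, ⟨e⟩⟩ := hloc ((pullback.snd H.hom f) z)
  refine ⟨(pullback.snd H.hom f) ⁻¹ᵁ U, hs'U, ?_⟩
  obtain ⟨t, ht⟩ : ∃ t : ((pullback.snd H.hom f) ⁻¹ᵁ U).toScheme ⟶ U.toScheme,
      t ≫ U.ι = ((pullback.snd H.hom f) ⁻¹ᵁ U).ι ≫ pullback.snd H.hom f :=
    ⟨(pullback.snd H.hom f).resLE U _ le_rfl, Scheme.Hom.resLE_comp_ι _ _⟩
  obtain ⟨k, hk⟩ : ∃ k : (Over.map (U.ι ≫ f)).obj (Over.mk t) ⟶ H,
      k.left = ((pullback.snd H.hom f) ⁻¹ᵁ U).ι ≫ pullback.fst H.hom f := by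
    refine ⟨Over.homMk (((pullback.snd H.hom f) ⁻¹ᵁ U).ι ≫ pullback.fst H.hom f) ?_, rfl⟩
    simp only [Over.map_obj_left, Over.mk_left, Over.map_obj_hom, Over.mk_hom, Category.assoc]
    rw [pullback.condition, ← Category.assoc, ← ht, Category.assoc]
  have h1 : k ≫ u = k ≫ 1 := by
    rw [comp_eq_one_of_split u (U.ι ≫ f) e (Over.mk t) k, MonObj.comp_one]
  have h2 := congrArg (fun t => t.left) h1
  simp only [Over.comp_left] at h2
  rw [hk, Category.assoc, Category.assoc] at h2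
  exact h2

end Groth.Agent.Lib.R2H3.MultGa
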