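import Groth.Agent.Lib.R2H3MultActAlg

/-!
# Natural multiplicative maps between functors of characters (helper3, round 2)

A `HomFun A G H` is a natural multiplicative transformation `Hom(G, B) → Hom(H, B)` of functors
on `A`-algebras `B` (i.e. a homomorphism of diagonalisable groups `D(G) → D(H)` over `A`).  It is
given by a matrix `e h g` of elements of `A` whose rows are families of orthogonal idempotents
with sum `1`: `map χ h = ∑_g e h g · χ g`.  Over a field it is composition with a group
homomorphism `H → G`.
-/

set_option autoImplicit false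
set_option linter.style.haveILetI false
set_option linter.unusedVariables false
set_option linter.unusedSectionVars false

universe u

namespace Groth.Agent.Lib.R2H3.MultHom

open Groth.Agent.Lib.R2H3.MultAct

/-- a natural multiplicative transformation `Hom(G, B) → Hom(H, B)` on `A`-algebras `B`. -/
structure HomFun (A : Type u) [CommRing A] (G H : Type) [CommGroup G] [CommGroup H] where
  /-- the map on characters with values in an `A`-algebra `B` -/
  map : ∀ (B : Type u) [CommRing B], (A →+* B) → (G →* B) → (H →* B)
  nat : ∀ (B B' : Type u) [CommRing B] [CommRing B'] (γ : B →+* B') (β : A →+* B) (χ : G →* B),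
    map B' (γ.comp β) ((γ : B →* B').comp χ) = (γ : B →* B').comp (map B β χ)
  mul : ∀ (B : Type u) [CommRing B] (β : A →+* B) (χ₁ χ₂ : G →* B),
    map B β (χ₁ * χ₂) = map B β χ₁ * map B β χ₂

namespace HomFun

variable {A : Type u} [CommRing A] {G H : Type} [CommGroup G] [CommGroup H] (F : HomFun A G H)

lemma ext' {F F' : HomFun A G H}
    (h : ∀ (B : Type u) [CommRing B] (β : A →+* B) (χ : G →* B), F.map B β χ = F'.map B β χ) :
    F = F' := by
  cases F with
  | mk a _ _ =>
    cases F' with
    | mk a' _ _ =>
      have : a = a' := by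
        funext B _ β χ
        exact h B β χ
      subst this
      rfl

/-- the image of the universal character. -/
noncomputable def univ (h : H) : MonoidAlgebra A G :=
  F.map (MonoidAlgebra A G) (algebraMap A (MonoidAlgebra A G)) (MonoidAlgebra.of A G) h

/-- the matrix of the transformation. -/
noncomputable def e (h : H) (g : G) : A := (F.univ h).coeff g

lemma map_eq (B : Type u) [CommRing B] (β : A →+* B) (χ : G →* B) (h : H) :
    F.map B β χ h = liftHom β χ (F.univ h) := by
  have h1 := F.nat _ _ (liftHom β χ) (algebraMap A (MonoidAlgebra A G)) (MonoidAlgebra.of A G)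
  rw [liftHom_comp_algebraMap, liftHom_comp_of] at h1
  rw [h1]
  rfl

lemma univ_one : F.univ 1 = 1 := map_one _

lemma univ_mul (h h' : H) : F.univ (h * h') = F.univ h * F.univ h' := map_mul _ _ _

lemma map_one_char (B : Type u) [CommRing B] (β : A →+* B) : F.map B β 1 = 1 := by
  have h := F.mul B β 1 1
  rw [_root_.mul_one] at h
  apply MonoidHom.ext
  intro x
  have h2 := congrArg (fun k : H →* B => k x) h
  simp only [MonoidHom.mul_apply, MonoidHom.one_apply] at h2 ⊢
  have hu : IsUnit (F.map B β 1 x) := by
    refine IsUnit.of_mul_eq_one (F.map B β 1 x⁻¹) ?_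
    rw [← map_mul, mul_inv_cancel, map_one]
  exact (hu.mul_left_cancel (by rw [← h2, _root_.mul_one]))

/-- the rows of the matrix are families of orthogonal idempotents. -/
lemma e_mul (m : H) (n l : G) [Decidable (n = l)] :
    F.e m n * F.e m l = if n = l then F.e m n else 0 := by
  classical
  obtain ⟨ι', hι'⟩ : ∃ k : MonoidAlgebra A G →+* MonoidAlgebra (MonoidAlgebra A G) G,
    k = algebraMap _ _ := ⟨_, rfl⟩
  obtain ⟨χ₁, hχ₁⟩ : ∃ k : G →* MonoidAlgebra (MonoidAlgebra A G) G,
    k = MonoidAlgebra.of (MonoidAlgebra A G) G := ⟨_, rfl⟩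
  obtain ⟨χ₂, hχ₂⟩ : ∃ k : G →* MonoidAlgebra (MonoidAlgebra A G) G,
    k = (ι' : MonoidAlgebra A G →* _).comp (MonoidAlgebra.of A G) := ⟨_, rfl⟩
  obtain ⟨α₂, hα₂⟩ : ∃ k : A →+* MonoidAlgebra (MonoidAlgebra A G) G,
    k = ι'.comp (algebraMap A (MonoidAlgebra A G)) := ⟨_, rfl⟩
  have h2 := congrArg (fun k : H →* _ => ((k m).coeff n).coeff l) (F.mul _ α₂ χ₁ χ₂)
  simp only [MonoidHom.mul_apply] at h2
  rw [F.map_eq _ α₂ (χ₁ * χ₂), F.map_eq _ α₂ χ₁, F.map_eq _ α₂ χ₂] at h2
  -- the three values
  have hL : ∀ θ : MonoidAlgebra A G,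
      (liftHom α₂ (χ₁ * χ₂) θ).coeff n = MonoidAlgebra.single n (θ.coeff n) := by
    intro θ
    induction θ using MonoidAlgebra.induction_linear with
    | zero => simp
    | add x y hx hy =>
      rw [map_add, MonoidAlgebra.coeff_add, Finsupp.add_apply, hx, hy, MonoidAlgebra.coeff_add,
        Finsupp.add_apply, MonoidAlgebra.single_add]
    | single k a =>
      rw [liftHom_single, hα₂, hχ₁, hχ₂, hι']
      simp only [RingHom.comp_apply, MonoidHom.mul_apply, MonoidHom.comp_apply,
        MonoidAlgebra.of_apply, coe_monoidHom_apply, algebraMap_eq_single,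
        MonoidAlgebra.single_mul_single, mul_one, one_mul]
      rw [coeff_single_apply', coeff_single_apply']
      split_ifs with hk
      · rw [hk]
      · simp
  have h1 : ∀ θ : MonoidAlgebra A G,
      liftHom α₂ χ₁ θ = MonoidAlgebra.ofCoeff (θ.coeff.mapRange
        (fun a => (MonoidAlgebra.single 1 a : MonoidAlgebra A G)) (by simp)) := by
    intro θ
    induction θ using MonoidAlgebra.induction_linear with
    | zero =>
      rw [map_zero]
      apply MonoidAlgebra.coeff_injective
      simp
    | add x y hx hy =>
      rw [map_add, hx, hy]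
      apply MonoidAlgebra.coeff_injective
      ext k : 1
      simp [MonoidAlgebra.coeff_add, MonoidAlgebra.single_add]
    | single k a =>
      rw [liftHom_single, hα₂, hχ₁, hι']
      simp only [RingHom.comp_apply, MonoidAlgebra.of_apply, algebraMap_eq_single,
        MonoidAlgebra.single_mul_single, mul_one, one_mul]
      apply MonoidAlgebra.coeff_injective
      ext j : 1
      simp only [MonoidAlgebra.coeff_ofCoeff, MonoidAlgebra.coeff_single, Finsupp.mapRange_apply,
        Finsupp.single_apply]
      split_ifs <;> simp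
  have h2' : ∀ θ : MonoidAlgebra A G, liftHom α₂ χ₂ θ = ι' θ := by
    intro θ
    induction θ using MonoidAlgebra.induction_linear with
    | zero => simp
    | add x y hx hy => rw [map_add, map_add, hx, hy]
    | single k a =>
      rw [liftHom_single, hα₂, hχ₂]
      simp only [RingHom.comp_apply, MonoidHom.comp_apply, coe_monoidHom_apply, ← map_mul,
        MonoidAlgebra.of_apply, algebraMap_eq_single, MonoidAlgebra.single_mul_single, mul_one,
        one_mul]
  rw [hL, h1, h2', hι', algebraMap_eq_single, coeff_single_apply'] at h2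
  -- coefficient of the product
  have h3 : ∀ (θ : MonoidAlgebra A G) (x : MonoidAlgebra A G),
      ((MonoidAlgebra.ofCoeff (θ.coeff.mapRange
        (fun a => (MonoidAlgebra.single 1 a : MonoidAlgebra A G)) (by simp)) *
        MonoidAlgebra.single (1 : G) x : MonoidAlgebra (MonoidAlgebra A G) G).coeff n) =
      MonoidAlgebra.single 1 (θ.coeff n) * x := by
    intro θ x
    rw [MonoidAlgebra.coeff_mul_single_one]
    simp
  rw [h3, MonoidAlgebra.coeff_single_one_mul] at h2
  unfold e
  rw [← h2]
  split_ifs with hnl
  · rfl
  · rfl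

lemma e_idem (m : H) (n : G) : F.e m n * F.e m n = F.e m n := by
  classical
  rw [F.e_mul, if_pos rfl]

lemma e_orth (m : H) (n l : G) (h : n ≠ l) : F.e m n * F.e m l = 0 := by
  classical
  rw [F.e_mul, if_neg h]

/-- the sum of the coefficients of `liftHom β 1 θ`. -/
lemma liftHom_one_eq_sum {B : Type u} [CommRing B] (β : A →+* B) (θ : MonoidAlgebra A G) :
    liftHom β (1 : G →* B) θ = θ.coeff.sum (fun _ a => β a) := by
  induction θ using MonoidAlgebra.induction_linear with
  | zero => simp
  | add x y hx hy =>
    rw [map_add, hx, hy, MonoidAlgebra.coeff_add, Finsupp.sum_add_index' (by simp) (by simp)]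
  | single k a =>
    rw [liftHom_single, MonoidHom.one_apply, _root_.mul_one, MonoidAlgebra.coeff_single,
      Finsupp.sum_single_index (by simp)]

/-- each row of the matrix has sum `1`. -/
lemma sum_e (m : H) : (F.univ m).coeff.sum (fun _ a => a) = 1 := by
  have h := F.map_eq A (RingHom.id A) 1 m
  rw [F.map_one_char, MonoidHom.one_apply, liftHom_one_eq_sum] at h
  exact h.symm

/-- restriction of the transformation to `A'`-algebras. -/
def comap {A' : Type u} [CommRing A'] (α : A →+* A') : HomFun A' G H where
  map B _ β χ := F.map B (β.comp α) χ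
  nat B B' _ _ γ β χ := by
    rw [RingHom.comp_assoc]
    exact F.nat B B' γ (β.comp α) χ
  mul B _ β χ₁ χ₂ := F.mul B (β.comp α) χ₁ χ₂

lemma comap_univ {A' : Type u} [CommRing A'] (α : A →+* A') (m : H) :
    (F.comap α).univ m = MonoidAlgebra.mapRingHom G α (F.univ m) := by
  have h := F.nat _ _ (MonoidAlgebra.mapRingHom G α) (algebraMap A (MonoidAlgebra A G))
    (MonoidAlgebra.of A G)
  have h1 : (MonoidAlgebra.mapRingHom G α).comp (algebraMap A (MonoidAlgebra A G)) =
      (algebraMap A' (MonoidAlgebra A' G)).comp α := by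
    ext a
    simp [algebraMap_eq_single]
  have h2 : ((MonoidAlgebra.mapRingHom G α : MonoidAlgebra A G →+* MonoidAlgebra A' G) :
      MonoidAlgebra A G →* MonoidAlgebra A' G).comp (MonoidAlgebra.of A G) =
      MonoidAlgebra.of A' G := by
    ext g
    simp [MonoidAlgebra.of_apply, coe_monoidHom_apply]
  rw [h1, h2] at h
  have h3 := congrArg (fun k : H →* _ => k m) h
  simp only [MonoidHom.comp_apply, coe_monoidHom_apply] at h3
  exact h3

lemma comap_e {A' : Type u} [CommRing A'] (α : A →+* A') (m : H) (n : G) :
    (F.comap α).e m n = α (F.e m n) := by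
  unfold e
  rw [comap_univ]
  simp [MonoidAlgebra.mapRingHom]

/-- if `e h (φ h) = 1` for all `h`, the transformation is composition with `φ`. -/
theorem map_eq_comp (φ : H →* G) (h : ∀ m, F.e m (φ m) = 1) (B : Type u) [CommRing B]
    (β : A →+* B) (χ : G →* B) : F.map B β χ = χ.comp φ := by
  classical
  apply MonoidHom.ext
  intro m
  rw [F.map_eq]
  have h1 : F.univ m = MonoidAlgebra.single (φ m) 1 := by
    apply MonoidAlgebra.coeff_injective
    ext n
    rw [coeff_single_apply']
    split_ifs with hn
    · rw [← hn]
      exact h m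
    · have := F.e_orth m n (φ m) (Ne.symm hn)
      rw [h m, _root_.mul_one] at this
      exact this
  rw [h1, liftHom_single, map_one, _root_.one_mul]
  rfl

end HomFun

section Field

variable {K : Type u} [Field K] {G H : Type} [CommGroup G] [CommGroup H] (F : HomFun K G H)

namespace HomFun

lemma e_eq_zero_or_one (m : H) (n : G) : F.e m n = 0 ∨ F.e m n = 1 := by
  have h := F.e_idem m n
  have h2 : F.e m n * (F.e m n - 1) = 0 := by rw [mul_sub, h, _root_.mul_one, sub_self]
  rcases mul_eq_zero.mp h2 with h3 | h3
  · exact Or.inl h3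
  · exact Or.inr (sub_eq_zero.mp h3)

lemma exists_e_eq_one (m : H) : ∃ n : G, F.e m n = 1 := by
  by_contra hcon
  push Not at hcon
  have h0 : ∀ n, F.e m n = 0 := fun n => (F.e_eq_zero_or_one m n).resolve_right (hcon n)
  have h1 := F.sum_e m
  have h2 : (F.univ m).coeff.sum (fun _ a => a) = 0 := by
    apply Finset.sum_eq_zero
    intro n _
    exact h0 n
  rw [h2] at h1
  exact zero_ne_one h1

lemma e_eq_one_unique (m : H) (n n' : G) (h : F.e m n = 1) (h' : F.e m n' = 1) : n = n' := by
  by_contra hne
  have := F.e_orth m n n' hne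
  rw [h, h', _root_.mul_one] at this
  exact one_ne_zero this

/-- over a field, the map `H → G` underlying the transformation. -/
noncomputable def phiFun (m : H) : G := (F.exists_e_eq_one m).choose

lemma e_phiFun (m : H) : F.e m (F.phiFun m) = 1 := (F.exists_e_eq_one m).choose_spec

lemma phiFun_eq (m : H) (n : G) (h : F.e m n = 1) : F.phiFun m = n :=
  F.e_eq_one_unique m _ _ (F.e_phiFun m) h

lemma univ_eq_single (m : H) : F.univ m = MonoidAlgebra.single (F.phiFun m) 1 := by
  classical
  apply MonoidAlgebra.coeff_injective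
  ext n
  rw [coeff_single_apply']
  split_ifs with hn
  · rw [← hn]
    exact F.e_phiFun m
  · have := F.e_orth m n (F.phiFun m) (Ne.symm hn)
    rw [F.e_phiFun m, _root_.mul_one] at this
    exact this

/-- over a field, the group homomorphism `H → G` underlying the transformation. -/
noncomputable def phi : H →* G where
  toFun := F.phiFun
  map_one' := by
    have h := F.univ_one
    rw [univ_eq_single, MonoidAlgebra.one_def] at h
    exact (MonoidAlgebra.single_left_injective (one_ne_zero (α := K))) h
  map_mul' a b := by
    have h := F.univ_mul a b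
    rw [univ_eq_single, univ_eq_single, univ_eq_single, MonoidAlgebra.single_mul_single,
      _root_.mul_one] at h
    exact (MonoidAlgebra.single_left_injective (one_ne_zero (α := K))) h

lemma e_phi (m : H) : F.e m (F.phi m) = 1 := F.e_phiFun m

lemma phi_eq (m : H) (n : G) (h : F.e m n = 1) : F.phi m = n := F.phiFun_eq m n h

theorem map_eq_comp_phi (B : Type u) [CommRing B] (β : K →+* B) (χ : G →* B) :
    F.map B β χ = χ.comp F.phi :=
  F.map_eq_comp F.phi F.e_phi B β χ

end HomFun

end Field

end Groth.Agent.Lib.R2H3.MultHom
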