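import Mathlib
import Groth.Prelude.Def_SheafNL

/-!
# Base change of the naive cotangent complex of a presentation: elementary facts

For a commutative square `R → S`, `R' → S'` and presentations `G`, `G'` on the same variables.
-/

universe u

namespace Groth.Agent.Lib.R2H3.NLBase

open Algebra Algebra.Extension TensorProduct

section Basis

variable {R S R' S' : Type u} [CommRing R] [CommRing S] [CommRing R'] [CommRing S']
  [Algebra R S] [Algebra R' S'] [Algebra R R'] [Algebra S S'] [Algebra R S']
  [IsScalarTower R R' S'] [IsScalarTower R S S']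
  {ι : Type u} (G : Algebra.Generators R S ι) (G' : Algebra.Generators R' S' ι)
  (h : ∀ i, G'.val i = algebraMap S S' (G.val i))

/-- `CotangentSpace.map` of the same-variables morphism sends the canonical basis to the canonical
basis. -/
lemma cotangentSpace_map_basis (i : ι) :
    Algebra.Extension.CotangentSpace.map (NLCx.sameVarsHom G G' h).toExtensionHom
      (G.cotangentSpaceBasis i) = G'.cotangentSpaceBasis i := by
  classical
  apply G'.cotangentSpaceBasis.repr.injective
  ext j
  rw [Algebra.Generators.repr_CotangentSpaceMap]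
  simp only [NLCx.sameVarsHom, MvPolynomial.pderiv_X, Module.Basis.repr_self]
  rw [Finsupp.single_apply, Pi.single_apply]
  by_cases hij : i = j
  · subst hij
    simp
  · simp [hij]

lemma liftBaseChange_cotangentSpace_map_eq :
    LinearMap.liftBaseChange S'
      (Algebra.Extension.CotangentSpace.map (NLCx.sameVarsHom G G' h).toExtensionHom) =
      ((G.cotangentSpaceBasis.baseChange S').equiv G'.cotangentSpaceBasis
        (Equiv.refl ι)).toLinearMap := by
  apply (G.cotangentSpaceBasis.baseChange S').ext
  intro i
  rw [LinearEquiv.coe_coe, Module.Basis.equiv_apply, Module.Basis.baseChange_apply,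
    LinearMap.liftBaseChange_tmul, one_smul, cotangentSpace_map_basis]
  simp

lemma liftBaseChange_cotangentSpace_map_bijective :
    Function.Bijective (LinearMap.liftBaseChange S'
      (Algebra.Extension.CotangentSpace.map (NLCx.sameVarsHom G G' h).toExtensionHom)) := by
  rw [liftBaseChange_cotangentSpace_map_eq]
  exact LinearEquiv.bijective _

end Basis

section Chase

variable {R S R' S' : Type u} [CommRing R] [CommRing S] [CommRing R'] [CommRing S']
  [Algebra R S] [Algebra R' S'] [Algebra R R'] [Algebra S S'] [Algebra R S']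
  [IsScalarTower R R' S'] [IsScalarTower R S S']
  {P : Algebra.Extension.{u} R S} {P' : Algebra.Extension.{u} R' S'}

lemma cotangentComplex_liftBaseChange (f : P.Hom P') (x : S' ⊗[S] P.Cotangent) :
    P'.cotangentComplex (LinearMap.liftBaseChange S' (Algebra.Extension.Cotangent.map f) x) =
      LinearMap.liftBaseChange S' (Algebra.Extension.CotangentSpace.map f)
        (P.cotangentComplex.baseChange S' x) := by
  have key : P'.cotangentComplex ∘ₗ LinearMap.liftBaseChange S' (Algebra.Extension.Cotangent.map f) =
      LinearMap.liftBaseChange S' (Algebra.Extension.CotangentSpace.map f) ∘ₗ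
        P.cotangentComplex.baseChange S' := by
    ext y
    simpa using (Algebra.Extension.CotangentSpace.map_cotangentComplex f y).symm
  exact congr($key x)

lemma bcH1Map_val (f : P.Hom P') (x : NLCx.bcH1 P S') :
    (NLCx.bcH1Map f x).1 = LinearMap.liftBaseChange S' (Algebra.Extension.Cotangent.map f) x.1 :=
  rfl

/-- If the degree `-1` map is surjective and the degree `0` map injective, then `bcH1Map` is
surjective. -/
lemma bcH1Map_surjective_of (f : P.Hom P')
    (h1 : Function.Surjective (LinearMap.liftBaseChange S' (Algebra.Extension.Cotangent.map f)))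
    (h0 : Function.Injective (LinearMap.liftBaseChange S' (Algebra.Extension.CotangentSpace.map f))) :
    Function.Surjective (NLCx.bcH1Map f) := by
  intro y
  obtain ⟨x, hx⟩ := h1 y.1
  have hxk : x ∈ NLCx.bcH1 P S' := by
    rw [NLCx.bcH1, LinearMap.mem_ker]
    apply h0
    rw [map_zero, ← cotangentComplex_liftBaseChange, hx]
    exact y.2
  exact ⟨⟨x, hxk⟩, Subtype.ext hx⟩

/-- If both the degree `-1` and degree `0` maps are injective, then `bcH1Map` is
injective. -/
lemma bcH1Map_injective_of (f : P.Hom P')
    (h1 : Function.Injective (LinearMap.liftBaseChange S' (Algebra.Extension.Cotangent.map f))) :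
    Function.Injective (NLCx.bcH1Map f) := by
  intro x y hxy
  apply Subtype.ext
  apply h1
  exact congrArg Subtype.val hxy

end Chase

section Pushout

variable {R S R' S' : Type u} [CommRing R] [CommRing S] [CommRing R'] [CommRing S']
  [Algebra R S] [Algebra R' S'] [Algebra R R'] [Algebra S S'] [Algebra R S']
  [IsScalarTower R R' S'] [IsScalarTower R S S'] [Algebra.IsPushout R R' S S']
  {ι : Type u}

/-- For a cocartesian square, the kernel of the base-changed presentation is generated by the
kernel of the presentation. -/
lemma ker_aeval_le_map (v : ι → S)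
    (hv : Function.Surjective (MvPolynomial.aeval v : MvPolynomial ι R →ₐ[R] S)) :
    RingHom.ker (MvPolynomial.aeval (fun i => algebraMap S S' (v i)) : MvPolynomial ι R' →ₐ[R'] S') ≤
      (RingHom.ker (MvPolynomial.aeval v : MvPolynomial ι R →ₐ[R] S)).map
        (MvPolynomial.map (algebraMap R R')) := by
  set π : MvPolynomial ι R →ₐ[R] S := MvPolynomial.aeval v with hπ
  set π' : MvPolynomial ι R' →ₐ[R'] S' := MvPolynomial.aeval (fun i => algebraMap S S' (v i)) with hπ'
  let e1 : R' ⊗[R] MvPolynomial ι R ≃ₐ[R'] MvPolynomial ι R' := MvPolynomial.algebraTensorAlgEquiv R R'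
  let e2 : R' ⊗[R] S ≃ₐ[R'] S' := Algebra.IsPushout.equiv R R' S S'
  have sq : π'.comp e1.toAlgHom = e2.toAlgHom.comp (Algebra.TensorProduct.map (AlgHom.id R' R') π) := by
    apply Algebra.TensorProduct.ext
    · ext
    · apply MvPolynomial.algHom_ext
      intro i
      simp [e1, e2, π, π', Algebra.IsPushout.equiv_tmul]
  intro y hy
  have hz : e1.symm y ∈ RingHom.ker (Algebra.TensorProduct.map (AlgHom.id R R') π) := by
    rw [RingHom.mem_ker]
    have hm : ∀ z, (Algebra.TensorProduct.map (AlgHom.id R R') π) z =
        (Algebra.TensorProduct.map (AlgHom.id R' R') π) z := by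
      intro z
      induction z using TensorProduct.induction_on with
      | zero => simp
      | tmul a b => simp
      | add a b ha hb => simp only [map_add, ha, hb]
    rw [hm]
    apply e2.injective
    have := congr($sq (e1.symm y))
    have h3 : π' y = e2 ((Algebra.TensorProduct.map (AlgHom.id R' R') π) (e1.symm y)) := by
      simpa using this
    rw [← h3, map_zero]
    exact hy
  rw [Algebra.TensorProduct.lTensor_ker _ hv] at hz
  have hle : Ideal.map (Algebra.TensorProduct.includeRight : MvPolynomial ι R →ₐ[R] R' ⊗[R] MvPolynomial ι R)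
      (RingHom.ker π) ≤ Ideal.comap (e1 : R' ⊗[R] MvPolynomial ι R →+* MvPolynomial ι R')
        ((RingHom.ker π).map (MvPolynomial.map (algebraMap R R'))) := by
    rw [Ideal.map_le_iff_le_comap]
    intro p hp
    rw [Ideal.mem_comap, Ideal.mem_comap]
    have h4 : (e1 : R' ⊗[R] MvPolynomial ι R →+* MvPolynomial ι R')
        ((Algebra.TensorProduct.includeRight : MvPolynomial ι R →ₐ[R] R' ⊗[R] MvPolynomial ι R) p) =
        MvPolynomial.map (algebraMap R R') p := by
      simp [e1]
    rw [h4]
    exact Ideal.mem_map_of_mem _ hp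
  have h5 := hle hz
  rw [Ideal.mem_comap] at h5
  simpa using h5

end Pushout

section Surj

variable {R S R' S' : Type u} [CommRing R] [CommRing S] [CommRing R'] [CommRing S']
  [Algebra R S] [Algebra R' S'] [Algebra R R'] [Algebra S S'] [Algebra R S']
  [IsScalarTower R R' S'] [IsScalarTower R S S']
  {P : Algebra.Extension.{u} R S} {P' : Algebra.Extension.{u} R' S'}

/-- If the kernel of `P'` is generated by the image of the kernel of `P`, the `S'`-linear extension
of `Cotangent.map f` is surjective. -/
lemma liftBaseChange_cotangent_map_surjective_of_ker_le (f : P.Hom P')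
    (hk : P'.ker ≤ Ideal.map f.toRingHom P.ker) :
    Function.Surjective (LinearMap.liftBaseChange S' (Algebra.Extension.Cotangent.map f)) := by
  set L := LinearMap.liftBaseChange S' (Algebra.Extension.Cotangent.map f) with hL
  intro y
  obtain ⟨⟨b, hb⟩, rfl⟩ := Cotangent.mk_surjective y
  have hle : Ideal.map f.toRingHom P.ker ≤ P'.ker := by
    rw [Ideal.map_le_iff_le_comap]
    intro a ha
    rw [Ideal.mem_comap, Extension.ker, RingHom.mem_ker, f.algebraMap_toRingHom]
    rw [Extension.ker, RingHom.mem_ker] at ha
    simp [ha]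
  have key : ∀ (b : P'.Ring) (hb' : b ∈ Ideal.map f.toRingHom P.ker) (hb : b ∈ P'.ker),
      Cotangent.mk (P := P') ⟨b, hb⟩ ∈ LinearMap.range L := by
    intro b hb'
    refine Submodule.span_induction (p := fun b _ => ∀ (hb : b ∈ P'.ker),
      Cotangent.mk (P := P') ⟨b, hb⟩ ∈ LinearMap.range L) ?_ ?_ ?_ ?_ hb'
    · rintro _ ⟨a, ha, rfl⟩ hb
      refine ⟨(1 : S') ⊗ₜ[S] Cotangent.mk ⟨a, ha⟩, ?_⟩
      rw [hL, LinearMap.liftBaseChange_tmul, one_smul, Cotangent.map_mk]
      rfl
    · intro hb
      have : Cotangent.mk (P := P') ⟨0, hb⟩ = 0 := by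
        rw [Cotangent.mk_eq_zero_iff]
        exact Ideal.zero_mem _
      rw [this]
      exact Submodule.zero_mem _
    · intro x y hx hy ihx ihy hb
      have hx' : x ∈ P'.ker := hle (by exact hx)
      have hy' : y ∈ P'.ker := hle (by exact hy)
      have : Cotangent.mk (P := P') ⟨x + y, hb⟩ =
          Cotangent.mk (P := P') ⟨x, hx'⟩ + Cotangent.mk (P := P') ⟨y, hy'⟩ := by
        rw [← map_add]
        rfl
      rw [this]
      exact Submodule.add_mem _ (ihx hx') (ihy hy')
    · intro c x hx ihx hb
      have hx' : x ∈ P'.ker := hle (by exact hx)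
      have : Cotangent.mk (P := P') ⟨c • x, hb⟩ =
          (algebraMap P'.Ring S' c) • Cotangent.mk (P := P') ⟨x, hx'⟩ := by
        rw [algebraMap_smul, ← map_smul]
        rfl
      rw [this]
      exact Submodule.smul_mem _ _ (ihx hx')
  exact key b (hk hb) hb

/-- Compatibility of `bcH1Map` with post-composition by a morphism of extensions of `S'` over `R'`. -/
lemma bcH1Map_comp {P'' : Algebra.Extension.{u} R' S'} (f : P.Hom P') (g : P'.Hom P'')
    (x : NLCx.bcH1 P S') :
    NLCx.bcH1Map (g.comp f) x = Algebra.Extension.H1Cotangent.map g (NLCx.bcH1Map f x) := by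
  apply Subtype.ext
  change LinearMap.liftBaseChange S' (Algebra.Extension.Cotangent.map (g.comp f)) x.1 =
    Algebra.Extension.Cotangent.map g
      (LinearMap.liftBaseChange S' (Algebra.Extension.Cotangent.map f) x.1)
  generalize x.1 = z
  induction z using TensorProduct.induction_on with
  | zero => simp
  | tmul a b =>
    rw [LinearMap.liftBaseChange_tmul, LinearMap.liftBaseChange_tmul, map_smul,
      Algebra.Extension.Cotangent.map_comp]
    rfl
  | add a b ha hb => simp only [map_add, ha, hb]

end Surj

section Pushout2

variable {R S R' S' : Type u} [CommRing R] [CommRing S] [CommRing R'] [CommRing S']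
  [Algebra R S] [Algebra R' S'] [Algebra R R'] [Algebra S S'] [Algebra R S']
  [IsScalarTower R R' S'] [IsScalarTower R S S'] [Algebra.IsPushout R R' S S']
  {ι : Type u} (G : Algebra.Generators R S ι) (G' : Algebra.Generators R' S' ι)
  (h : ∀ i, G'.val i = algebraMap S S' (G.val i))

lemma sameVarsHom_toRingHom_eq :
    (NLCx.sameVarsHom G G' h).toExtensionHom.toRingHom =
      (MvPolynomial.map (algebraMap R R') : MvPolynomial ι R →+* MvPolynomial ι R') := by
  apply MvPolynomial.ringHom_ext
  · intro r
    change ((MvPolynomial.aeval fun i => (MvPolynomial.X i : MvPolynomial ι R')) :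
      MvPolynomial ι R →ₐ[R] MvPolynomial ι R') (MvPolynomial.C r) = _
    rw [MvPolynomial.aeval_C, MvPolynomial.algebraMap_apply]
    exact (MvPolynomial.map_C _ _).symm
  · intro i
    change ((MvPolynomial.aeval fun i => (MvPolynomial.X i : MvPolynomial ι R')) :
      MvPolynomial ι R →ₐ[R] MvPolynomial ι R') (MvPolynomial.X i) = _
    rw [MvPolynomial.aeval_X]
    exact (MvPolynomial.map_X _ _).symm

lemma ker_le_map_sameVars :
    G'.toExtension.ker ≤
      Ideal.map (NLCx.sameVarsHom G G' h).toExtensionHom.toRingHom G.toExtension.ker := by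
  have hG' : G'.val = fun i => algebraMap S S' (G.val i) := funext h
  have h1 := ker_aeval_le_map (R := R) (S := S) (R' := R') (S' := S') G.val
    (fun s => ⟨G.σ s, G.aeval_val_σ s⟩)
  rw [sameVarsHom_toRingHom_eq]
  intro y hy
  have hy' : (MvPolynomial.aeval G'.val) (y : MvPolynomial ι R') = 0 :=
    Algebra.Generators.aeval_val_eq_zero hy
  rw [hG'] at hy'
  have h2 := h1 ((RingHom.mem_ker).mpr hy')
  rw [← Algebra.Generators.ker_eq_ker_aeval_val] at h2
  exact h2

lemma liftBaseChange_cotangent_map_surjective_sameVars :
    Function.Surjective (LinearMap.liftBaseChange S'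
      (Algebra.Extension.Cotangent.map (NLCx.sameVarsHom G G' h).toExtensionHom)) :=
  liftBaseChange_cotangent_map_surjective_of_ker_le _ (ker_le_map_sameVars G G' h)

theorem bcH1Map_surjective_sameVars :
    Function.Surjective (NLCx.bcH1Map (NLCx.sameVarsHom G G' h).toExtensionHom) :=
  bcH1Map_surjective_of _ (liftBaseChange_cotangent_map_surjective_sameVars G G' h)
    (liftBaseChange_cotangentSpace_map_bijective G G' h).1

end Pushout2

end Groth.Agent.Lib.R2H3.NLBase
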