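import Mathlib
import Groth.Prelude.Def_SheafNL
import Groth.Agent.Lib.R2H3NLBase

/-!
# Independence of the presentation for the kernel of `NLCx.bcH1Map`

For a commutative square `R → R'`, `S → S'`, extensions `P`, `Q` of `S/R` and `P'`, `Q'` of `S'/R'` with
morphisms in all directions, the kernels of `NLCx.bcH1Map` for `P → P'` and for `Q → Q'` are isomorphic
`S'`-modules.
-/

set_option autoImplicit false
set_option linter.style.haveILetI false
set_option linter.unusedVariables false
set_option linter.unusedSectionVars false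
universe u

namespace Groth.Agent.Lib.R2H3.NLBcH1

open Algebra Algebra.Extension TensorProduct

variable {R S R' S' : Type u} [CommRing R] [CommRing S] [CommRing R'] [CommRing S']
  [Algebra R S] [Algebra R' S'] [Algebra R R'] [Algebra S S'] [Algebra R S']
  [IsScalarTower R R' S'] [IsScalarTower R S S']

section One

variable {P : Algebra.Extension.{u} R S} {P' : Algebra.Extension.{u} R' S'}

/-- the degree `-1` map of `NLCx.bcMap` -/
noncomputable abbrev L (f : P.Hom P') : S' ⊗[S] P.Cotangent →ₗ[S'] P'.Cotangent :=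
  LinearMap.liftBaseChange S' (Cotangent.map f)

/-- the kernel of `bcH1Map`, as a submodule of `S' ⊗ I/I²` -/
noncomputable def bcN (f : P.Hom P') : Submodule S' (S' ⊗[S] P.Cotangent) :=
  NLCx.bcH1 P S' ⊓ LinearMap.ker (L f)

lemma mem_bcN (f : P.Hom P') (x : S' ⊗[S] P.Cotangent) :
    x ∈ bcN f ↔ P.cotangentComplex.baseChange S' x = 0 ∧ L f x = 0 := by
  rw [bcN, Submodule.mem_inf, NLCx.bcH1, LinearMap.mem_ker, LinearMap.mem_ker]

/-- the kernel of `bcH1Map` is `bcN` -/
noncomputable def kerEquiv (f : P.Hom P') : LinearMap.ker (NLCx.bcH1Map f) ≃ₗ[S'] bcN f := by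
  have h : LinearMap.ker (NLCx.bcH1Map f) = (bcN f).comap (NLCx.bcH1 P S').subtype := by
    ext x
    rw [LinearMap.mem_ker, Submodule.mem_comap, mem_bcN]
    constructor
    · intro hx
      refine ⟨?_, ?_⟩
      · exact LinearMap.mem_ker.mp x.2
      · have := congrArg Subtype.val hx
        rwa [NLBase.bcH1Map_val] at this
    · rintro ⟨-, hx⟩
      apply Subtype.ext
      rw [NLBase.bcH1Map_val]
      exact hx
  exact (LinearEquiv.ofEq _ _ h).trans
    (Submodule.comapSubtypeEquivOfLe (p := bcN f) (q := NLCx.bcH1 P S') inf_le_left)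

lemma L_sub (f f' : P.Hom P') (x : S' ⊗[S] P.Cotangent) :
    L f x - L f' x =
      LinearMap.liftBaseChange S' (f.sub f') (P.cotangentComplex.baseChange S' x) := by
  induction x using TensorProduct.induction_on with
  | zero => simp
  | tmul s y =>
    simp only [L, LinearMap.liftBaseChange_tmul, LinearMap.baseChange_tmul]
    rw [← smul_sub]
    congr 1
    exact congrArg (fun l => l y) (Cotangent.map_sub_map f f')
  | add a b ha hb =>
    simp only [map_add]
    rw [← ha, ← hb]
    abel

/-- on `H^{-1}` the base-changed map does not depend on the morphism of extensions -/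
lemma L_eq_of_mem (f f' : P.Hom P') (x : S' ⊗[S] P.Cotangent)
    (hx : P.cotangentComplex.baseChange S' x = 0) : L f x = L f' x := by
  have := L_sub f f' x
  rw [hx, map_zero] at this
  exact sub_eq_zero.mp this

end One

section Two

variable {P Q : Algebra.Extension.{u} R S} {P' Q' : Algebra.Extension.{u} R' S'}

/-- base change of `Cotangent.map` for extensions of the same ring -/
noncomputable abbrev bcα (u : Q.Hom P) : S' ⊗[S] Q.Cotangent →ₗ[S'] S' ⊗[S] P.Cotangent :=
  (Cotangent.map u).baseChange S'

lemma d_bcα (u : Q.Hom P) (x : S' ⊗[S] Q.Cotangent) :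
    P.cotangentComplex.baseChange S' (bcα u x) =
      (CotangentSpace.map u).baseChange S' (Q.cotangentComplex.baseChange S' x) := by
  induction x using TensorProduct.induction_on with
  | zero => simp
  | tmul s y =>
    simp only [bcα, LinearMap.baseChange_tmul]
    rw [CotangentSpace.map_cotangentComplex]
  | add a b ha hb => simp only [map_add, ha, hb]

lemma bcα_bcα_sub (u : Q.Hom P) (v : P.Hom Q) (x : S' ⊗[S] Q.Cotangent) :
    bcα v (bcα u x) - x =
      ((v.comp u).sub (Extension.Hom.id Q)).baseChange S' (Q.cotangentComplex.baseChange S' x) := by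
  induction x using TensorProduct.induction_on with
  | zero => simp
  | tmul s y =>
    simp only [bcα, LinearMap.baseChange_tmul]
    rw [← TensorProduct.tmul_sub]
    congr 1
    have h := congrArg (fun l => l y) (Cotangent.map_sub_map (v.comp u) (Extension.Hom.id Q))
    simp only [LinearMap.sub_apply, Cotangent.map_id, LinearMap.id_coe, id_eq, LinearMap.coe_comp,
      Function.comp_apply] at h
    rw [← h, Cotangent.map_comp]
    rfl
  | add a b ha hb =>
    simp only [map_add]
    rw [← ha, ← hb]
    abel

lemma bcα_bcα (u : Q.Hom P) (v : P.Hom Q) (x : S' ⊗[S] Q.Cotangent)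
    (hx : Q.cotangentComplex.baseChange S' x = 0) : bcα v (bcα u x) = x := by
  have := bcα_bcα_sub (S' := S') u v x
  rw [hx, map_zero] at this
  exact sub_eq_zero.mp this

lemma L_bcα (f : P.Hom P') (u : Q.Hom P) (x : S' ⊗[S] Q.Cotangent) :
    L f (bcα u x) = L (f.comp u) x := by
  induction x using TensorProduct.induction_on with
  | zero => simp
  | tmul s y =>
    simp only [L, bcα, LinearMap.baseChange_tmul, LinearMap.liftBaseChange_tmul]
    rw [Cotangent.map_comp]
    rfl
  | add a b ha hb => simp only [map_add, ha, hb]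

lemma L_comp (g : Q.Hom Q') (u' : Q'.Hom P') (x : S' ⊗[S] Q.Cotangent) :
    L (u'.comp g) x = Cotangent.map u' (L g x) := by
  induction x using TensorProduct.induction_on with
  | zero => simp
  | tmul s y =>
    simp only [L, LinearMap.liftBaseChange_tmul]
    rw [Cotangent.map_comp, map_smul]
    rfl
  | add a b ha hb => simp only [map_add, ha, hb]

lemma bcα_mem_bcN (f : P.Hom P') (g : Q.Hom Q') (u : Q.Hom P) (u' : Q'.Hom P')
    (x : S' ⊗[S] Q.Cotangent) (hx : x ∈ bcN g) : bcα u x ∈ bcN f := by
  rw [mem_bcN] at hx ⊢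
  obtain ⟨h1, h2⟩ := hx
  refine ⟨?_, ?_⟩
  · rw [d_bcα, h1, map_zero]
  · rw [L_bcα, L_eq_of_mem (f.comp u) (u'.comp g) x h1, L_comp, h2, map_zero]

/-- **Independence of the presentations** for the kernel of `bcH1Map`. -/
noncomputable def bcNEquiv (f : P.Hom P') (g : Q.Hom Q') (u : Q.Hom P) (v : P.Hom Q)
    (u' : Q'.Hom P') (v' : P'.Hom Q') : bcN g ≃ₗ[S'] bcN f :=
  LinearEquiv.ofLinearMap
    ((bcα (S' := S') u).restrict (fun x hx => bcα_mem_bcN f g u u' x hx))
    ((bcα (S' := S') v).restrict (fun x hx => bcα_mem_bcN g f v v' x hx))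
    (by
      ext x
      simp only [LinearMap.coe_comp, Function.comp_apply, LinearMap.coe_restrict_apply,
        LinearMap.id_coe, id_eq]
      exact bcα_bcα v u x.1 ((mem_bcN f x.1).mp x.2).1)
    (by
      ext x
      simp only [LinearMap.coe_comp, Function.comp_apply, LinearMap.coe_restrict_apply,
        LinearMap.id_coe, id_eq]
      exact bcα_bcα u v x.1 ((mem_bcN g x.1).mp x.2).1)

/-- the kernels of `bcH1Map` for two pairs of presentations are isomorphic -/
noncomputable def kerBcH1MapEquiv (f : P.Hom P') (g : Q.Hom Q') (u : Q.Hom P) (v : P.Hom Q)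
    (u' : Q'.Hom P') (v' : P'.Hom Q') :
    LinearMap.ker (NLCx.bcH1Map g) ≃ₗ[S'] LinearMap.ker (NLCx.bcH1Map f) :=
  (kerEquiv g).trans ((bcNEquiv f g u v u' v').trans (kerEquiv f).symm)

end Two

end Groth.Agent.Lib.R2H3.NLBcH1
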