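import Mathlib
import Groth.Prelude.Def_SheafNL

/-!
# Homotopy invariance of the naive cotangent complex of a presentation

Two morphisms of extensions `P ⟶ P'` (same base, same top) induce homotopic chain maps
`NLCx.cx P ⟶ NLCx.cx P'`; hence extensions with morphisms both ways have homotopy equivalent
naive cotangent complexes, isomorphic in the derived category.
-/

set_option autoImplicit false
set_option linter.style.haveILetI false
set_option linter.unusedVariables false
set_option linter.unusedSectionVars false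
universe u

namespace Groth.Agent.Lib.R2H3.NLHtpy

open CategoryTheory CategoryTheory.Limits HomologicalComplex Algebra Algebra.Extension

section General

variable {C : Type*} [Category C] [Preadditive C] [HasZeroObject C]
variable {X₀ X₁ : C} {d : X₀ ⟶ X₁}

/-- the only nonzero component of the homotopy -/
noncomputable def hmap {K : CochainComplex C ℤ} (hrel : (ComplexShape.up ℤ).Rel (-1) 0)
    (h : X₁ ⟶ K.X (-1)) (i j : ℤ) : (double d hrel).X i ⟶ K.X j :=
  if hij : i = 0 ∧ j = -1 then
    eqToHom (by rw [hij.1]) ≫ (doubleXIso₁ d hrel (by decide)).hom ≫ h ≫ eqToHom (by rw [hij.2])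
  else 0

lemma hmap_zero_neg_one {K : CochainComplex C ℤ} (hrel : (ComplexShape.up ℤ).Rel (-1) 0)
    (h : X₁ ⟶ K.X (-1)) :
    hmap (d := d) hrel h 0 (-1) = (doubleXIso₁ d hrel (by decide)).hom ≫ h := by
  rw [hmap, dif_pos ⟨rfl, rfl⟩]
  simp

lemma hmap_eq_zero {K : CochainComplex C ℤ} (hrel : (ComplexShape.up ℤ).Rel (-1) 0)
    (h : X₁ ⟶ K.X (-1)) (i j : ℤ) (hij : ¬ (i = 0 ∧ j = -1)) :
    hmap (d := d) hrel h i j = 0 := by
  rw [hmap, dif_neg hij]

/-- A homotopy between two maps out of a two-term complex in degrees `-1, 0`. -/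
noncomputable def homotopyOfDouble {K : CochainComplex C ℤ}
    (hrel : (ComplexShape.up ℤ).Rel (-1) 0)
    {φ ψ : double d hrel ⟶ K} (h : X₁ ⟶ K.X (-1))
    (h₀ : φ.f (-1) = (doubleXIso₀ d hrel).hom ≫ d ≫ h + ψ.f (-1))
    (h₁ : φ.f 0 = (doubleXIso₁ d hrel (by decide)).hom ≫ h ≫ K.d (-1) 0 + ψ.f 0) :
    Homotopy φ ψ where
  hom i j := hmap hrel h i j
  zero i j hij := hmap_eq_zero hrel h i j (by
    rintro ⟨rfl, rfl⟩
    exact hij (by simp))
  comm i := by
    by_cases hi0 : i = -1
    · subst hi0
      rw [dNext_eq _ (show (ComplexShape.up ℤ).Rel (-1) 0 by simp),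
        prevD_eq _ (show (ComplexShape.up ℤ).Rel (-2) (-1) by simp)]
      rw [hmap_zero_neg_one, hmap_eq_zero hrel h (-1) (-2) (by decide), zero_comp, add_zero, h₀,
        double_d d hrel (by decide)]
      simp
    · by_cases hi1 : i = 0
      · subst hi1
        rw [dNext_eq _ (show (ComplexShape.up ℤ).Rel 0 1 by simp),
          prevD_eq _ (show (ComplexShape.up ℤ).Rel (-1) 0 by simp)]
        rw [hmap_zero_neg_one, hmap_eq_zero hrel h 1 0 (by decide), comp_zero, zero_add, h₁]
        simp
      · exact (isZero_double_X d hrel i hi0 hi1).eq_of_src _ _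

end General

section NL

variable {R S : Type u} [CommRing R] [CommRing S] [Algebra R S]
variable {P P' P'' : Extension.{u} R S}

lemma map_f_neg_one (f : P.Hom P') :
    (NLCx.map f).f (-1) = (doubleXIso₀ (ModuleCat.ofHom P.cotangentComplex) _).hom ≫
      ModuleCat.ofHom (Cotangent.map f) ≫
        (doubleXIso₀ (ModuleCat.ofHom P'.cotangentComplex) _).inv := by
  dsimp only [NLCx.map]
  rw [mkHomFromDouble_f₀]
  rfl

lemma map_f_zero (f : P.Hom P') :
    (NLCx.map f).f 0 = (doubleXIso₁ (ModuleCat.ofHom P.cotangentComplex) _ (by decide)).hom ≫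
      ModuleCat.ofHom (CotangentSpace.map f) ≫
        (doubleXIso₁ (ModuleCat.ofHom P'.cotangentComplex) _ (by decide)).inv := by
  dsimp only [NLCx.map]
  rw [mkHomFromDouble_f₁]
  rfl

/-- Two morphisms of extensions induce homotopic maps of naive cotangent complexes. -/
noncomputable def homotopy (f g : P.Hom P') : Homotopy (NLCx.map f) (NLCx.map g) := by
  refine homotopyOfDouble (d := ModuleCat.ofHom P.cotangentComplex) _
    (ModuleCat.ofHom (f.sub g) ≫ (doubleXIso₀ (ModuleCat.ofHom P'.cotangentComplex) _).inv) ?_ ?_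
  · rw [map_f_neg_one, map_f_neg_one]
    have h : Cotangent.map f = (f.sub g) ∘ₗ P.cotangentComplex + Cotangent.map g := by
      rw [← Cotangent.map_sub_map]
      exact (sub_add_cancel _ _).symm
    have h' : ModuleCat.ofHom (Cotangent.map f) =
        ModuleCat.ofHom P.cotangentComplex ≫ ModuleCat.ofHom (f.sub g) +
          ModuleCat.ofHom (Cotangent.map g) := by
      rw [h]; rfl
    rw [h', Preadditive.add_comp, Preadditive.comp_add]
    simp only [Category.assoc]
    rfl
  · rw [map_f_zero, map_f_zero]
    have h : CotangentSpace.map f =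
        P'.cotangentComplex.restrictScalars S ∘ₗ (f.sub g) + CotangentSpace.map g := by
      rw [← CotangentSpace.map_sub_map]
      refine LinearMap.ext fun x => ?_
      simp only [LinearMap.add_apply, LinearMap.sub_apply, sub_add_cancel]
    have h' : ModuleCat.ofHom (CotangentSpace.map f) =
        ModuleCat.ofHom (f.sub g) ≫ ModuleCat.ofHom P'.cotangentComplex +
          ModuleCat.ofHom (CotangentSpace.map g) := by
      rw [h]; rfl
    rw [h', Preadditive.add_comp, Preadditive.comp_add]
    dsimp only [NLCx.cx]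
    rw [double_d _ _ (by decide)]
    simp only [Category.assoc, Iso.inv_hom_id_assoc]
    rfl

/-- the degree `-1` term of the naive cotangent complex -/
noncomputable def iso₀ (P : Extension.{u} R S) :
    (NLCx.cx P).X (-1) ≅ ModuleCat.of S P.Cotangent :=
  doubleXIso₀ (ModuleCat.ofHom P.cotangentComplex) _

/-- the degree `0` term of the naive cotangent complex -/
noncomputable def iso₁ (P : Extension.{u} R S) :
    (NLCx.cx P).X 0 ≅ ModuleCat.of S P.CotangentSpace :=
  doubleXIso₁ (ModuleCat.ofHom P.cotangentComplex) _ (by decide)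

lemma map_f_neg_one' (f : P.Hom P') :
    (NLCx.map f).f (-1) = (iso₀ P).hom ≫ ModuleCat.ofHom (Cotangent.map f) ≫ (iso₀ P').inv :=
  map_f_neg_one f

lemma map_f_zero' (f : P.Hom P') :
    (NLCx.map f).f 0 = (iso₁ P).hom ≫ ModuleCat.ofHom (CotangentSpace.map f) ≫ (iso₁ P').inv :=
  map_f_zero f

lemma cx_d (P : Extension.{u} R S) :
    (NLCx.cx P).d (-1) 0 = (iso₀ P).hom ≫ ModuleCat.ofHom P.cotangentComplex ≫ (iso₁ P).inv :=
  double_d _ _ (by decide)

lemma isZero_cx_X (P : Extension.{u} R S) (i : ℤ) (h₀ : i ≠ -1) (h₁ : i ≠ 0) :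
    IsZero ((NLCx.cx P).X i) :=
  isZero_double_X _ _ i h₀ h₁

lemma cx_hom_ext {K : CochainComplex (ModuleCat.{u} S) ℤ} {φ ψ : NLCx.cx P ⟶ K}
    (h₀ : φ.f (-1) = ψ.f (-1)) (h₁ : φ.f 0 = ψ.f 0) : φ = ψ :=
  from_double_hom_ext h₀ h₁

lemma map_id (P : Extension.{u} R S) : NLCx.map (Extension.Hom.id P) = 𝟙 (NLCx.cx P) := by
  apply cx_hom_ext
  · rw [map_f_neg_one', Cotangent.map_id]
    have : ModuleCat.ofHom (LinearMap.id : P.Cotangent →ₗ[S] P.Cotangent) = 𝟙 _ := rfl
    rw [this, Category.id_comp, Iso.hom_inv_id]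
    rfl
  · rw [map_f_zero', CotangentSpace.map_id]
    have : ModuleCat.ofHom (LinearMap.id : P.CotangentSpace →ₗ[S] P.CotangentSpace) = 𝟙 _ := rfl
    rw [this, Category.id_comp, Iso.hom_inv_id]
    rfl

lemma map_comp (f : P.Hom P') (g : P'.Hom P'') :
    NLCx.map (g.comp f) = NLCx.map f ≫ NLCx.map g := by
  apply cx_hom_ext
  · rw [HomologicalComplex.comp_f, map_f_neg_one', map_f_neg_one', map_f_neg_one',
      Cotangent.map_comp]
    have : ModuleCat.ofHom ((Cotangent.map g).restrictScalars S ∘ₗ Cotangent.map f) =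
        ModuleCat.ofHom (Cotangent.map f) ≫ ModuleCat.ofHom (Cotangent.map g) := rfl
    rw [this]
    simp only [Category.assoc, Iso.inv_hom_id_assoc]
  · rw [HomologicalComplex.comp_f, map_f_zero', map_f_zero', map_f_zero', CotangentSpace.map_comp]
    have : ModuleCat.ofHom ((CotangentSpace.map g).restrictScalars S ∘ₗ CotangentSpace.map f) =
        ModuleCat.ofHom (CotangentSpace.map f) ≫ ModuleCat.ofHom (CotangentSpace.map g) := rfl
    rw [this]
    simp only [Category.assoc, Iso.inv_hom_id_assoc]

/-- Extensions with morphisms in both directions have homotopy equivalent naive cotangent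
complexes. -/
noncomputable def homotopyEquiv (f : P.Hom P') (g : P'.Hom P) :
    HomotopyEquiv (NLCx.cx P) (NLCx.cx P') where
  hom := NLCx.map f
  inv := NLCx.map g
  homotopyHomInvId := by
    rw [← map_comp, ← map_id]
    exact homotopy _ _
  homotopyInvHomId := by
    rw [← map_comp, ← map_id]
    exact homotopy _ _

attribute [local instance] HasDerivedCategory.standard

/-- Extensions with morphisms in both directions have naive cotangent complexes isomorphic in the
derived category. -/
noncomputable def isoD (f : P.Hom P') (g : P'.Hom P) :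
    DRing.toD (NLCx.cx P) ≅ DRing.toD (NLCx.cx P') := by
  haveI : QuasiIso (NLCx.map f) := (homotopyEquiv f g).quasiIso_hom
  exact asIso (DerivedCategory.Q.map (NLCx.map f))

/-- The naive cotangent complex of any polynomial presentation computes `LCI.NL`. -/
noncomputable def isoNL {A B : Type u} [CommRing A] [CommRing B] [Algebra A B] {ι : Type u}
    (G : Algebra.Generators A B ι) :
    DRing.toD (NLCx.cx G.toExtension) ≅ LCI.NL A B :=
  isoD (G.defaultHom (Algebra.Generators.self A B)).toExtensionHom
    ((Algebra.Generators.self A B).defaultHom G).toExtensionHom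

/-- The naive cotangent complex of any polynomial presentation on a small index type computes
`LCI.NL`. -/
noncomputable def isoNL₀ {A B : Type u} [CommRing A] [CommRing B] [Algebra A B] {ι : Type}
    (G : Algebra.Generators A B ι) :
    DRing.toD (NLCx.cx G.toExtension) ≅ LCI.NL A B :=
  isoD (G.defaultHom (Algebra.Generators.self A B)).toExtensionHom
    ((Algebra.Generators.self A B).defaultHom G).toExtensionHom

end NL

end Groth.Agent.Lib.R2H3.NLHtpy
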