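import Mathlib
import Groth.Prelude.Def_SheafNL
import Groth.Agent.Lib.R2H3NLBase
import Groth.Agent.Lib.R2H3NLHtpy

/-!
# Flat base change of the naive cotangent complex of a presentation

For a cocartesian square `R → S`, `R → R'`, `S' = S ⊗_R R'` and presentations `G`, `G'` on the same
variables: if `R' ⊗_R I → R' ⊗_R P` is injective (`I` the kernel of `P = R[x_i] → S`; this holds
when `R → R'` is flat, and also when `R → S` is flat), then `S' ⊗_S I/I² → I'/I'²` is bijective and
`NL(G) ⊗_S S' → NL(G')` is an isomorphism of complexes.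
-/

universe u

set_option linter.unusedSectionVars false

namespace Groth.Agent.Lib.R2H3.NLFlatBC

open Algebra Algebra.Extension TensorProduct

section Inj

variable {R S R' S' : Type u} [CommRing R] [CommRing S] [CommRing R'] [CommRing S']
  [Algebra R S] [Algebra R' S'] [Algebra R R'] [Algebra S S'] [Algebra R S']
  [IsScalarTower R R' S'] [IsScalarTower R S S']
  {P : Algebra.Extension.{u} R S} {P' : Algebra.Extension.{u} R' S'} (f : P.Hom P')
  [Algebra P.Ring P'.Ring]

variable (P P') in
/-- the multiplication map `P' ⊗_P I → P'` -/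
noncomputable def mu : P'.Ring ⊗[P.Ring] P.ker →ₗ[P'.Ring] P'.Ring :=
  LinearMap.liftBaseChange P'.Ring
    ((Algebra.linearMap P.Ring P'.Ring) ∘ₗ (Submodule.subtype P.ker))

lemma mu_tmul (p' : P'.Ring) (i : P.ker) :
    mu P P' (p' ⊗ₜ i) = p' * algebraMap P.Ring P'.Ring i.1 := by
  simp [mu]

variable (hφ : ∀ x, algebraMap P.Ring P'.Ring x = f.toRingHom x)

/-- the map `P' ⊗_P I → S' ⊗_S I/I²` -/
noncomputable def theta : P'.Ring ⊗[P.Ring] P.ker →+ S' ⊗[S] P.Cotangent :=
  TensorProduct.liftAddHom
    { toFun := fun p' =>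
        { toFun := fun i => (algebraMap P'.Ring S' p') ⊗ₜ[S] Cotangent.mk i
          map_zero' := by simp
          map_add' := fun i j => by simp [tmul_add] }
      map_zero' := by ext i; simp
      map_add' := fun p q => by ext i; simp [add_tmul] }
    (fun r p' i => by
      simp only [AddMonoidHom.coe_mk, ZeroHom.coe_mk]
      rw [Algebra.smul_def, hφ, map_mul, f.algebraMap_toRingHom, map_smul,
        ← algebraMap_smul S r (Cotangent.mk i), tmul_smul, smul_tmul', Algebra.smul_def])

lemma theta_tmul (p' : P'.Ring) (i : P.ker) :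
    theta f hφ (p' ⊗ₜ i) = (algebraMap P'.Ring S' p') ⊗ₜ[S] Cotangent.mk i := rfl

lemma theta_smul (c : P'.Ring) (y : P'.Ring ⊗[P.Ring] P.ker) :
    theta f hφ (c • y) = algebraMap P'.Ring S' c • theta f hφ y := by
  induction y using TensorProduct.induction_on with
  | zero => simp
  | tmul p' i =>
    rw [smul_tmul', theta_tmul, theta_tmul, smul_eq_mul, map_mul, smul_tmul', smul_eq_mul]
  | add a b ha hb => simp only [smul_add, map_add, ha, hb]

lemma theta_surjective : Function.Surjective (theta f hφ) := by
  intro x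
  induction x using TensorProduct.induction_on with
  | zero => exact ⟨0, map_zero _⟩
  | tmul s' c =>
    obtain ⟨p', rfl⟩ := P'.algebraMap_surjective s'
    obtain ⟨i, rfl⟩ := Cotangent.mk_surjective c
    exact ⟨p' ⊗ₜ i, rfl⟩
  | add a b ha hb =>
    obtain ⟨a', rfl⟩ := ha
    obtain ⟨b', rfl⟩ := hb
    exact ⟨a' + b', map_add _ _ _⟩

include hφ in
lemma algebraMap_mem_ker (i : P.ker) : algebraMap P.Ring P'.Ring i.1 ∈ P'.ker := by
  change algebraMap P'.Ring S' _ = 0
  rw [hφ, f.algebraMap_toRingHom]
  have : algebraMap P.Ring S i.1 = 0 := i.2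
  rw [this, map_zero]

include hφ in
lemma mu_mem_ker (y : P'.Ring ⊗[P.Ring] P.ker) : mu P P' y ∈ P'.ker := by
  induction y using TensorProduct.induction_on with
  | zero => simp
  | tmul p' i =>
    rw [mu_tmul]
    exact Ideal.mul_mem_left _ _ (algebraMap_mem_ker f hφ i)
  | add a b ha hb =>
    rw [map_add]
    exact Ideal.add_mem _ ha hb

lemma L_theta (y : P'.Ring ⊗[P.Ring] P.ker) :
    LinearMap.liftBaseChange S' (Algebra.Extension.Cotangent.map f) (theta f hφ y) =
      Cotangent.mk ⟨mu P P' y, mu_mem_ker f hφ y⟩ := by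
  induction y using TensorProduct.induction_on with
  | zero =>
    rw [map_zero, map_zero]
    symm
    rw [Cotangent.mk_eq_zero_iff]
    simp
  | tmul p' i =>
    rw [theta_tmul, LinearMap.liftBaseChange_tmul, Cotangent.map_mk, algebraMap_smul, ← map_smul]
    congr 1
    apply Subtype.ext
    change p' • f.toAlgHom i.1 = mu P P' (p' ⊗ₜ[P.Ring] i)
    rw [mu_tmul, hφ]
    rfl
  | add a b ha hb =>
    rw [map_add, map_add, ha, hb, ← map_add]
    congr 1
    apply Subtype.ext
    simp

lemma exists_of_mem_map_sq (b : P'.Ring)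
    (hb : b ∈ Ideal.map (algebraMap P.Ring P'.Ring) (P.ker ^ 2)) :
    ∃ y : P'.Ring ⊗[P.Ring] P.ker, mu P P' y = b ∧ theta f hφ y = 0 := by
  refine Submodule.span_induction (p := fun b _ =>
    ∃ y : P'.Ring ⊗[P.Ring] P.ker, mu P P' y = b ∧ theta f hφ y = 0) ?_ ?_ ?_ ?_ hb
  · rintro _ ⟨j, hj, rfl⟩
    have hj' : j ∈ P.ker := Ideal.pow_le_self two_ne_zero hj
    refine ⟨(1 : P'.Ring) ⊗ₜ ⟨j, hj'⟩, ?_, ?_⟩
    · rw [mu_tmul, one_mul]
    · rw [theta_tmul]
      have : Cotangent.mk (P := P) ⟨j, hj'⟩ = 0 := by
        rw [Cotangent.mk_eq_zero_iff]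
        exact hj
      rw [this, tmul_zero]
  · exact ⟨0, map_zero _, map_zero _⟩
  · rintro x y _ _ ⟨a, ha1, ha2⟩ ⟨b, hb1, hb2⟩
    exact ⟨a + b, by rw [map_add, ha1, hb1], by rw [map_add, ha2, hb2, add_zero]⟩
  · rintro c x _ ⟨a, ha1, ha2⟩
    exact ⟨c • a, by rw [map_smul, ha1], by rw [theta_smul, ha2, smul_zero]⟩

include hφ in
/-- If `P' ⊗_P I → P'` is injective and the kernel of `P'` is generated by the image of the kernel
of `P`, then `S' ⊗_S I/I² → I'/I'²` is injective. -/
theorem liftBaseChange_cotangent_map_injective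
    (hinj : Function.Injective (mu P P'))
    (hk : P'.ker ≤ Ideal.map (algebraMap P.Ring P'.Ring) P.ker) :
    Function.Injective (LinearMap.liftBaseChange S' (Algebra.Extension.Cotangent.map f)) := by
  rw [injective_iff_map_eq_zero]
  intro x hx
  obtain ⟨y, rfl⟩ := theta_surjective f hφ x
  rw [L_theta, Cotangent.mk_eq_zero_iff] at hx
  have h2 : P'.ker ^ 2 ≤ Ideal.map (algebraMap P.Ring P'.Ring) (P.ker ^ 2) := by
    rw [Ideal.map_pow]
    exact Ideal.pow_right_mono hk 2
  obtain ⟨y', hy1, hy2⟩ := exists_of_mem_map_sq f hφ _ (h2 hx)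
  have : y' = y := hinj hy1
  rw [← this, hy2]

end Inj

section MvPoly

variable {R R' : Type u} [CommRing R] [CommRing R'] [Algebra R R'] {ι : Type u}

attribute [local instance] MvPolynomial.algebraMvPolynomial

variable (I : Ideal (MvPolynomial ι R))

variable (R') in
/-- the multiplication map `R'[x] ⊗_{R[x]} I → R'[x]` -/
noncomputable def muI :
    MvPolynomial ι R' ⊗[MvPolynomial ι R] I →ₗ[MvPolynomial ι R'] MvPolynomial ι R' :=
  LinearMap.liftBaseChange (MvPolynomial ι R')
    ((Algebra.linearMap (MvPolynomial ι R) (MvPolynomial ι R')) ∘ₗ (Submodule.subtype I))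

lemma muI_tmul (p' : MvPolynomial ι R') (i : I) :
    muI R' I (p' ⊗ₜ i) = p' * MvPolynomial.map (algebraMap R R') i.1 := by
  simp [muI]

variable (R') in
/-- the map `R' ⊗_R I → R'[x] ⊗_{R[x]} I` -/
noncomputable def nu : R' ⊗[R] I →+ MvPolynomial ι R' ⊗[MvPolynomial ι R] I :=
  TensorProduct.liftAddHom
    { toFun := fun a' =>
        { toFun := fun i => (MvPolynomial.C a' : MvPolynomial ι R') ⊗ₜ[MvPolynomial ι R] i
          map_zero' := by simp
          map_add' := fun i j => by simp [tmul_add] }
      map_zero' := by ext i; simp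
      map_add' := fun a b => by ext i; simp [add_tmul] }
    (fun r a' i => by
      simp only [AddMonoidHom.coe_mk, ZeroHom.coe_mk]
      have h1 : (r • i : I) = (MvPolynomial.C r : MvPolynomial ι R) • i := by
        apply Subtype.ext
        simp [MvPolynomial.smul_eq_C_mul]
      rw [h1, ← smul_tmul]
      congr 1
      rw [Algebra.smul_def, Algebra.smul_def, map_mul]
      congr 1
      change _ = MvPolynomial.map (algebraMap R R') (MvPolynomial.C r)
      rw [MvPolynomial.map_C])

lemma nu_tmul (a' : R') (i : I) :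
    nu R' I (a' ⊗ₜ i) = (MvPolynomial.C a' : MvPolynomial ι R') ⊗ₜ[MvPolynomial ι R] i := rfl

lemma nu_surjective : Function.Surjective (nu R' I) := by
  intro y
  induction y using TensorProduct.induction_on with
  | zero => exact ⟨0, map_zero _⟩
  | tmul p' i =>
    obtain ⟨w, rfl⟩ := (MvPolynomial.algebraTensorAlgEquiv (σ := ι) R R').surjective p'
    induction w using TensorProduct.induction_on with
    | zero => exact ⟨0, by simp⟩
    | tmul a' p =>
      refine ⟨a' ⊗ₜ (p • i), ?_⟩
      rw [nu_tmul, MvPolynomial.algebraTensorAlgEquiv_tmul, ← smul_tmul]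
      congr 1
      rw [Algebra.smul_def, MvPolynomial.smul_eq_C_mul, mul_comm]
      rfl
    | add a b ha hb =>
      obtain ⟨a', ha'⟩ := ha
      obtain ⟨b', hb'⟩ := hb
      exact ⟨a' + b', by rw [map_add, ha', hb', map_add, add_tmul]⟩
  | add a b ha hb =>
    obtain ⟨a', rfl⟩ := ha
    obtain ⟨b', rfl⟩ := hb
    exact ⟨a' + b', map_add _ _ _⟩

lemma muI_nu (z : R' ⊗[R] I) :
    muI R' I (nu R' I z) = MvPolynomial.algebraTensorAlgEquiv (σ := ι) R R'
      (LinearMap.lTensor R' ((Submodule.subtype I).restrictScalars R) z) := by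
  induction z using TensorProduct.induction_on with
  | zero => simp
  | tmul a' i =>
    rw [nu_tmul, muI_tmul, LinearMap.lTensor_tmul, MvPolynomial.algebraTensorAlgEquiv_tmul,
      MvPolynomial.smul_eq_C_mul]
    rfl
  | add a b ha hb => simp only [map_add, ha, hb]

theorem muI_injective
    (hT : Function.Injective (LinearMap.lTensor R' ((Submodule.subtype I).restrictScalars R))) :
    Function.Injective (muI R' I) := by
  rw [injective_iff_map_eq_zero]
  intro y hy
  obtain ⟨z, rfl⟩ := nu_surjective I y
  rw [muI_nu] at hy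
  have h1 : LinearMap.lTensor R' ((Submodule.subtype I).restrictScalars R) z = 0 := by
    apply (MvPolynomial.algebraTensorAlgEquiv (σ := ι) R R').injective
    rw [hy, map_zero]
  have h2 : z = 0 := hT (by rw [h1, map_zero])
  rw [h2, map_zero]

end MvPoly

section SameVars

variable {R S R' S' : Type u} [CommRing R] [CommRing S] [CommRing R'] [CommRing S']
  [Algebra R S] [Algebra R' S'] [Algebra R R'] [Algebra S S'] [Algebra R S']
  [IsScalarTower R R' S'] [IsScalarTower R S S'] [Algebra.IsPushout R R' S S']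
  {ι : Type u} (G : Algebra.Generators R S ι) (G' : Algebra.Generators R' S' ι)
  (h : ∀ i, G'.val i = algebraMap S S' (G.val i))

/-- The hypothesis `R' ⊗_R I → R' ⊗_R R[x]` injective, for `I` the kernel of the presentation `G`. -/
def TorCond : Prop :=
  Function.Injective (LinearMap.lTensor R'
    ((Submodule.subtype (G.toExtension.ker : Ideal (MvPolynomial ι R))).restrictScalars R))

variable (R') in
lemma torCond_of_flat_base [Module.Flat R R'] : TorCond (R' := R') G :=
  Module.Flat.lTensor_preserves_injective_linearMap (M := R') _ Subtype.val_injective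

variable (R') in
lemma torCond_of_flat [Module.Flat R S] : TorCond (R' := R') G := by
  refine LinearMap.lTensor_injective_of_exact_of_flat
    ((Algebra.linearMap G.toExtension.Ring S).restrictScalars R)
    (fun s => ⟨G.toExtension.σ s, G.toExtension.algebraMap_σ s⟩) _ Subtype.val_injective ?_ R'
  intro y
  constructor
  · intro hy
    exact ⟨⟨y, hy⟩, rfl⟩
  · rintro ⟨z, rfl⟩
    exact z.2

include h in
theorem liftBaseChange_cotangent_map_injective_sameVars (hT : TorCond (R' := R') G) :
    Function.Injective (LinearMap.liftBaseChange S'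
      (Algebra.Extension.Cotangent.map (NLCx.sameVarsHom G G' h).toExtensionHom)) := by
  let alg : Algebra (MvPolynomial ι R) (MvPolynomial ι R') := MvPolynomial.algebraMvPolynomial
  let alg' : Algebra G.toExtension.Ring G'.toExtension.Ring := alg
  have hφ : ∀ x, algebraMap G.toExtension.Ring G'.toExtension.Ring x =
      (NLCx.sameVarsHom G G' h).toExtensionHom.toRingHom x := by
    intro x
    rw [NLBase.sameVarsHom_toRingHom_eq]
    rfl
  refine liftBaseChange_cotangent_map_injective _ hφ ?_ ?_
  · exact muI_injective (R' := R') (G.toExtension.ker : Ideal (MvPolynomial ι R)) hT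
  · have := NLBase.ker_le_map_sameVars G G' h
    rw [NLBase.sameVarsHom_toRingHom_eq] at this
    exact this

include h in
theorem liftBaseChange_cotangent_map_bijective_sameVars (hT : TorCond (R' := R') G) :
    Function.Bijective (LinearMap.liftBaseChange S'
      (Algebra.Extension.Cotangent.map (NLCx.sameVarsHom G G' h).toExtensionHom)) :=
  ⟨liftBaseChange_cotangent_map_injective_sameVars G G' h hT,
    NLBase.liftBaseChange_cotangent_map_surjective_sameVars G G' h⟩

end SameVars

section Cx

open CategoryTheory HomologicalComplex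

variable {R S R' S' : Type u} [CommRing R] [CommRing S] [CommRing R'] [CommRing S']
  [Algebra R S] [Algebra R' S'] [Algebra R R'] [Algebra S S'] [Algebra R S']
  [IsScalarTower R R' S'] [IsScalarTower R S S']
  {P : Algebra.Extension.{u} R S} {P' P'' : Algebra.Extension.{u} R' S'}

variable (P S') in
/-- the degree `-1` term of the base-changed naive cotangent complex -/
noncomputable def bcIso₀ : (NLCx.bcCx P S').X (-1) ≅ ModuleCat.of S' (S' ⊗[S] P.Cotangent) :=
  doubleXIso₀ (ModuleCat.ofHom (P.cotangentComplex.baseChange S')) _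

variable (P S') in
/-- the degree `0` term of the base-changed naive cotangent complex -/
noncomputable def bcIso₁ : (NLCx.bcCx P S').X 0 ≅ ModuleCat.of S' (S' ⊗[S] P.CotangentSpace) :=
  doubleXIso₁ (ModuleCat.ofHom (P.cotangentComplex.baseChange S')) _ (by decide)

lemma bcMap_f_neg_one (f : P.Hom P') :
    (NLCx.bcMap f).f (-1) = (bcIso₀ S' P).hom ≫
      ModuleCat.ofHom (LinearMap.liftBaseChange S' (Cotangent.map f)) ≫ (NLHtpy.iso₀ P').inv := by
  dsimp only [NLCx.bcMap]
  rw [mkHomFromDouble_f₀]
  rfl

lemma bcMap_f_zero (f : P.Hom P') :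
    (NLCx.bcMap f).f 0 = (bcIso₁ S' P).hom ≫
      ModuleCat.ofHom (LinearMap.liftBaseChange S' (CotangentSpace.map f)) ≫
        (NLHtpy.iso₁ P').inv := by
  dsimp only [NLCx.bcMap]
  rw [mkHomFromDouble_f₁]
  rfl

lemma isZero_bcCx_X (i : ℤ) (h₀ : i ≠ -1) (h₁ : i ≠ 0) : Limits.IsZero ((NLCx.bcCx P S').X i) :=
  isZero_double_X _ _ i h₀ h₁

lemma bcCx_hom_ext {K : CochainComplex (ModuleCat.{u} S') ℤ} {φ ψ : NLCx.bcCx P S' ⟶ K}
    (h₀ : φ.f (-1) = ψ.f (-1)) (h₁ : φ.f 0 = ψ.f 0) : φ = ψ :=
  from_double_hom_ext h₀ h₁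

lemma liftBaseChange_cotangent_comp (f : P.Hom P') (g : P'.Hom P'') (z : S' ⊗[S] P.Cotangent) :
    LinearMap.liftBaseChange S' (Cotangent.map (g.comp f)) z =
      Cotangent.map g (LinearMap.liftBaseChange S' (Cotangent.map f) z) := by
  induction z using TensorProduct.induction_on with
  | zero => simp
  | tmul a b =>
    rw [LinearMap.liftBaseChange_tmul, LinearMap.liftBaseChange_tmul, map_smul,
      Cotangent.map_comp]
    rfl
  | add a b ha hb => simp only [map_add, ha, hb]

lemma liftBaseChange_cotangentSpace_comp (f : P.Hom P') (g : P'.Hom P'')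
    (z : S' ⊗[S] P.CotangentSpace) :
    LinearMap.liftBaseChange S' (CotangentSpace.map (g.comp f)) z =
      CotangentSpace.map g (LinearMap.liftBaseChange S' (CotangentSpace.map f) z) := by
  induction z using TensorProduct.induction_on with
  | zero => simp
  | tmul a b =>
    rw [LinearMap.liftBaseChange_tmul, LinearMap.liftBaseChange_tmul, map_smul,
      CotangentSpace.map_comp]
    rfl
  | add a b ha hb => simp only [map_add, ha, hb]

lemma bcMap_comp (f : P.Hom P') (g : P'.Hom P'') :
    NLCx.bcMap (g.comp f) = NLCx.bcMap f ≫ NLCx.map g := by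
  apply bcCx_hom_ext
  · rw [HomologicalComplex.comp_f, bcMap_f_neg_one, bcMap_f_neg_one, NLHtpy.map_f_neg_one']
    have : ModuleCat.ofHom (LinearMap.liftBaseChange S' (Cotangent.map (g.comp f))) =
        ModuleCat.ofHom (LinearMap.liftBaseChange S' (Cotangent.map f)) ≫
          ModuleCat.ofHom (Cotangent.map g) := by
      exact ModuleCat.hom_ext (LinearMap.ext fun z => liftBaseChange_cotangent_comp f g z)
    rw [this]
    simp only [Category.assoc, Iso.inv_hom_id_assoc]
  · rw [HomologicalComplex.comp_f, bcMap_f_zero, bcMap_f_zero, NLHtpy.map_f_zero']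
    have : ModuleCat.ofHom (LinearMap.liftBaseChange S' (CotangentSpace.map (g.comp f))) =
        ModuleCat.ofHom (LinearMap.liftBaseChange S' (CotangentSpace.map f)) ≫
          ModuleCat.ofHom (CotangentSpace.map g) := by
      exact ModuleCat.hom_ext (LinearMap.ext fun z => liftBaseChange_cotangentSpace_comp f g z)
    rw [this]
    simp only [Category.assoc, Iso.inv_hom_id_assoc]

lemma isIso_of_isZero' {C : Type*} [Category C] [Limits.HasZeroMorphisms C] {X Y : C} (f : X ⟶ Y)
    (hX : Limits.IsZero X) (hY : Limits.IsZero Y) : IsIso f :=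
  ⟨⟨0, hX.eq_of_src _ _, hY.eq_of_src _ _⟩⟩

theorem isIso_bcMap_of_bijective (f : P.Hom P')
    (h1 : Function.Bijective (LinearMap.liftBaseChange S' (Cotangent.map f)))
    (h2 : Function.Bijective (LinearMap.liftBaseChange S' (CotangentSpace.map f))) :
    IsIso (NLCx.bcMap f) := by
  have i1 : IsIso (ModuleCat.ofHom (LinearMap.liftBaseChange S' (Cotangent.map f))) :=
    (ConcreteCategory.isIso_iff_bijective _).mpr h1
  have i2 : IsIso (ModuleCat.ofHom (LinearMap.liftBaseChange S' (CotangentSpace.map f))) :=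
    (ConcreteCategory.isIso_iff_bijective _).mpr h2
  have : ∀ n : ℤ, IsIso ((NLCx.bcMap f).f n) := by
    intro n
    by_cases hn0 : n = -1
    · subst hn0
      rw [bcMap_f_neg_one]
      infer_instance
    · by_cases hn1 : n = 0
      · subst hn1
        rw [bcMap_f_zero]
        infer_instance
      · exact isIso_of_isZero' _ (isZero_bcCx_X n hn0 hn1) (NLHtpy.isZero_cx_X P' n hn0 hn1)
  exact HomologicalComplex.Hom.isIso_of_components _

end Cx

section Main

open CategoryTheory

variable {R S R' S' : Type u} [CommRing R] [CommRing S] [CommRing R'] [CommRing S']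
  [Algebra R S] [Algebra R' S'] [Algebra R R'] [Algebra S S'] [Algebra R S']
  [IsScalarTower R R' S'] [IsScalarTower R S S'] [Algebra.IsPushout R R' S S']

theorem isIso_bcMap_sameVars {ι : Type u} (G : Algebra.Generators R S ι)
    (G' : Algebra.Generators R' S' ι) (h : ∀ i, G'.val i = algebraMap S S' (G.val i))
    (hT : TorCond (R' := R') G) :
    IsIso (NLCx.bcMap (S' := S') (NLCx.sameVarsHom G G' h).toExtensionHom) :=
  isIso_bcMap_of_bijective _ (liftBaseChange_cotangent_map_bijective_sameVars G G' h hT)
    (NLBase.liftBaseChange_cotangentSpace_map_bijective G G' h)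

variable (R S R' S') in
theorem exists_homotopyEquiv_bcMapSelf (hT : TorCond (R' := R') (Algebra.Generators.self R S)) :
    ∃ e : HomotopyEquiv (NLCx.bcCx (Algebra.Generators.self R S).toExtension S')
        (NLCx.cx (Algebra.Generators.self R' S').toExtension),
      e.hom = NLCx.bcMapSelf R S R' S' := by
  let e2 : R' ⊗[R] S ≃ₐ[R'] S' := Algebra.IsPushout.equiv R R' S S'
  let G'' : Algebra.Generators R' S' S :=
    ((Algebra.Generators.self R S).baseChange R').ofAlgEquiv e2
  have hG'' : ∀ s : S, G''.val s = algebraMap S S' ((Algebra.Generators.self R S).val s) := by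
    intro s
    simp [G'', e2, Algebra.Generators.ofAlgEquiv_val, Algebra.Generators.baseChange,
      Algebra.Generators.ofSurjective, Algebra.IsPushout.equiv_tmul, Algebra.Generators.self]
  let g : G''.Hom (Algebra.Generators.self R' S') :=
    { val := fun s => MvPolynomial.X (algebraMap S S' s)
      aeval_val := fun s => by
        rw [hG'']
        simp [Algebra.Generators.self] }
  let g' : (Algebra.Generators.self R' S').Hom G'' := Algebra.Generators.defaultHom _ _
  have hcomp0 : (Algebra.Generators.self R S).defaultHom (Algebra.Generators.self R' S') =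
      g.comp (NLCx.sameVarsHom (Algebra.Generators.self R S) G'' hG'') := by
    ext s : 2
    simp [NLCx.sameVarsHom, g, Algebra.Generators.self]
    rfl
  have hcomp : ((Algebra.Generators.self R S).defaultHom
      (Algebra.Generators.self R' S')).toExtensionHom =
      g.toExtensionHom.comp
        (NLCx.sameVarsHom (Algebra.Generators.self R S) G'' hG'').toExtensionHom := by
    rw [hcomp0, Algebra.Generators.Hom.toExtensionHom_comp]
  have := isIso_bcMap_sameVars (Algebra.Generators.self R S) G'' hG'' hT
  refine ⟨(HomotopyEquiv.ofIso (asIso (NLCx.bcMap (S' := S')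
    (NLCx.sameVarsHom (Algebra.Generators.self R S) G'' hG'').toExtensionHom))).trans
    (NLHtpy.homotopyEquiv g.toExtensionHom g'.toExtensionHom), ?_⟩
  change NLCx.bcMap _ ≫ NLCx.map _ = _
  rw [← bcMap_comp, ← hcomp]
  rfl

end Main

end Groth.Agent.Lib.R2H3.NLFlatBC
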