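import Mathlib
import Groth.Prelude.Def_LCI2
import Groth.Prelude.Def_SheafNL
import Groth.Agent.Lib.Helper21KoszulFun
import Groth.Agent.Lib.H9KoszulCotangent
import Groth.Agent.Lib.Helper21FilD5
import Groth.Agent.Lib.Helper5FlatKer
import Groth.Agent.Lib.H6xQRegBC
import Groth.Agent.Lib.R2H3NLHtpy

/-!
# Tor amplitude `[-1,0]` of a two-term complex with flat degree-0 term forces a flat degree `-1` term
-/

set_option autoImplicit false
set_option linter.style.haveILetI false
set_option linter.unusedSectionVars false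
set_option linter.unusedVariables false
universe u

attribute [local instance] HasDerivedCategory.standard

namespace Groth.Agent.Lib.R2LeadNLFlat1

open CategoryTheory CategoryTheory.Limits CochainComplex HomComplex
open Groth.Agent.Lib.Helper21 Groth.Agent.Lib.H9KoszulCotangent

section Cone

variable {B : Type u} [CommRing B]
variable {K L : CochainComplex (ModuleCat.{u} B) ℤ} (φ : K ⟶ L)

/-- exactness of the cone of a quasi-isomorphism, elementwise -/
theorem cone_exact [QuasiIso φ] (n : ℤ) (x : (mappingCone φ).X (n + 1))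
    (hx : ((mappingCone φ).d (n + 1) (n + 1 + 1)).hom x = 0) :
    ∃ y : (mappingCone φ).X n, ((mappingCone φ).d n (n + 1)).hom y = x := by
  have h := Groth.Agent.Lib.Helper21.FilD.exactAt_mappingCone_of_quasiIso φ (n + 1)
  rw [HomologicalComplex.exactAt_iff' _ n (n + 1) (n + 1 + 1) (by simp) (by simp)] at h
  rw [ShortComplex.moduleCat_exact_iff] at h
  exact h x hx

/-- (a): injectivity -/
theorem cone_a [QuasiIso φ] (n : ℤ) [Subsingleton (K.X (n + 1))] [Subsingleton (L.X n)]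
    (q : K.X (n + 1 + 1)) (h1 : (K.d (n + 1 + 1) (n + 1 + 1 + 1)).hom q = 0)
    (h2 : (φ.f (n + 1 + 1)).hom q = 0) : q = 0 := by
  have hx : ((mappingCone φ).d (n + 1) (n + 1 + 1)).hom (cinl φ (n + 1) q) = 0 := by
    apply cone_ext φ (n + 1 + 1)
    · rw [cfst_d, cfst_cinl, h1, map_zero, neg_zero]
    · rw [csnd_d, cfst_cinl, csnd_cinl, h2, map_zero, map_zero, add_zero]
  obtain ⟨y, hy⟩ := cone_exact φ n _ hx
  have hy0 : y = 0 := by
    apply cone_ext φ n
    · exact Subsingleton.elim _ _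
    · exact Subsingleton.elim _ _
  rw [hy0, map_zero] at hy
  have := congrArg (cfst φ (n + 1)) hy
  rw [cfst_cinl, map_zero] at this
  exact this.symm

/-- (b): surjectivity -/
theorem cone_b [QuasiIso φ] (n : ℤ) [Subsingleton (K.X (n + 1 + 1 + 1))]
    [Subsingleton (L.X (n + 1 + 1))] (m₀ : L.X (n + 1)) :
    ∃ (z : K.X (n + 1)) (m : L.X n), m₀ = (φ.f (n + 1)).hom z + (L.d n (n + 1)).hom m := by
  have hx : ((mappingCone φ).d (n + 1) (n + 1 + 1)).hom (cinr φ (n + 1) m₀) = 0 := by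
    apply cone_ext φ (n + 1 + 1)
    · exact Subsingleton.elim _ _
    · exact Subsingleton.elim _ _
  obtain ⟨y, hy⟩ := cone_exact φ n _ hx
  refine ⟨cfst φ n y, csnd φ n y, ?_⟩
  have := congrArg (csnd φ (n + 1)) hy
  rw [csnd_cinr, csnd_d] at this
  exact this.symm

/-- (c): exactness in the middle -/
theorem cone_c [QuasiIso φ] (n : ℤ) [Subsingleton (K.X (n + 1 + 1 + 1))]
    [Subsingleton (L.X n)] (z : K.X (n + 1 + 1)) (m : L.X (n + 1))
    (h : (φ.f (n + 1 + 1)).hom z + (L.d (n + 1) (n + 1 + 1)).hom m = 0) :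
    ∃ q : K.X (n + 1), z = - (K.d (n + 1) (n + 1 + 1)).hom q ∧ m = (φ.f (n + 1)).hom q := by
  have hx : ((mappingCone φ).d (n + 1) (n + 1 + 1)).hom
      (cinl φ (n + 1) z + cinr φ (n + 1) m) = 0 := by
    apply cone_ext φ (n + 1 + 1)
    · exact Subsingleton.elim _ _
    · rw [csnd_d]
      simp only [map_add, cfst_cinl, cfst_cinr, csnd_cinl, csnd_cinr, add_zero, zero_add, map_zero]
      exact h
  obtain ⟨y, hy⟩ := cone_exact φ n _ hx
  refine ⟨cfst φ n y, ?_, ?_⟩
  · have := congrArg (cfst φ (n + 1)) hy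
    rw [cfst_d, map_add, cfst_cinl, cfst_cinr, add_zero] at this
    exact this.symm
  · have := congrArg (csnd φ (n + 1)) hy
    rw [csnd_d, map_add, csnd_cinl, csnd_cinr, zero_add] at this
    have h0 : csnd φ n y = 0 := Subsingleton.elim _ _
    rw [h0, map_zero, add_zero] at this
    exact this.symm

end Cone

section Span

variable {B : Type u} [CommRing B]
variable {Q Z E1 E0 N F : Type u} [AddCommGroup Q] [AddCommGroup Z] [AddCommGroup E1]
  [AddCommGroup E0] [AddCommGroup N] [AddCommGroup F] [Module B Q] [Module B Z] [Module B E1]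
  [Module B E0] [Module B N] [Module B F]

theorem flat_prod (M₁ M₂ : Type u) [AddCommGroup M₁] [AddCommGroup M₂] [Module B M₁] [Module B M₂]
    [Module.Flat B M₁] [Module.Flat B M₂] : Module.Flat B (M₁ × M₂) := by
  refine Groth.Agent.Lib.H6xQRegBC.flat_of_exact (M' := M₁) (M := M₁ × M₂) (M'' := M₂)
    (LinearMap.inl B M₁ M₂) (LinearMap.snd B M₁ M₂) LinearMap.inl_injective
    LinearMap.snd_surjective ?_
  intro y
  constructor
  · intro hy
    exact ⟨y.1, Prod.ext rfl (by simpa using hy.symm)⟩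
  · rintro ⟨x, rfl⟩
    rfl

/-- the kernel object of a "quasi-isomorphism" to a two-term complex with flat terms is flat, after
replacing the degree zero term by a free cover -/
theorem flat_pullback (d : Q →ₗ[B] Z) (s1 : Q →ₗ[B] E1) (s0 : Z →ₗ[B] E0) (dE : E1 →ₗ[B] E0)
    (hs : ∀ q, s0 (d q) = dE (s1 q))
    (sa : ∀ q, d q = 0 → s1 q = 0 → q = 0)
    (sb : ∀ e0, ∃ z e, e0 = s0 z + dE e)
    (sc : ∀ z e, s0 z + dE e = 0 → ∃ q, z = - d q ∧ e = s1 q)
    {Z' : Type u} [AddCommGroup Z'] [Module B Z'] [Module.Flat B Z'] (π : Z' →ₗ[B] Z)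
    (hπ : Function.Surjective π)
    [Module.Flat B E1] [Module.Flat B E0] :
    Module.Flat B (LinearMap.eqLocus (d ∘ₗ LinearMap.fst B Q Z') (π ∘ₗ LinearMap.snd B Q Z')) := by
  set Q' := LinearMap.eqLocus (d ∘ₗ LinearMap.fst B Q Z') (π ∘ₗ LinearMap.snd B Q Z') with hQ'
  let α : Q' →ₗ[B] Z' × E1 :=
    ((LinearMap.snd B Q Z').prod (-(s1 ∘ₗ LinearMap.fst B Q Z'))) ∘ₗ Q'.subtype
  let β : Z' × E1 →ₗ[B] E0 := (s0 ∘ₗ π).coprod dE
  have hmem : ∀ x : Q', d x.1.1 = π x.1.2 := fun x => x.2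
  haveI : Module.Flat B (Z' × E1) := flat_prod _ _
  refine Groth.Agent.Lib.Helper5.flat_of_exact_of_flat_of_flat (M := Q') α β ?_ ?_ ?_
  · rw [injective_iff_map_eq_zero]
    intro x hx
    have h1 : x.1.2 = 0 := congrArg Prod.fst hx
    have h2 : - s1 x.1.1 = 0 := congrArg Prod.snd hx
    have h3 : d x.1.1 = 0 := by rw [hmem x, h1, map_zero]
    have h4 : x.1.1 = 0 := sa _ h3 (neg_eq_zero.1 h2)
    apply Subtype.ext
    exact Prod.ext h4 h1
  · intro e0
    obtain ⟨z, e, rfl⟩ := sb e0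
    obtain ⟨z', rfl⟩ := hπ z
    exact ⟨(z', e), by simp [β]⟩
  · intro y
    constructor
    · intro hy
      have hy' : s0 (π y.1) + dE y.2 = 0 := by simpa [β] using hy
      obtain ⟨q, hq1, hq2⟩ := sc _ _ hy'
      refine ⟨⟨(-q, y.1), ?_⟩, ?_⟩
      · show d (-q) = π y.1
        rw [map_neg, ← hq1]
      · apply Prod.ext
        · rfl
        · show -(s1 (-q)) = y.2
          rw [map_neg, neg_neg, hq2]
    · rintro ⟨x, rfl⟩
      show s0 (π x.1.2) + dE (- s1 x.1.1) = 0
      rw [← hmem x, hs, map_neg, add_neg_cancel]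

/-- **the span lemma**: two "quasi-isomorphisms" out of the same two-term complex -/
theorem flat_of_span (d : Q →ₗ[B] Z) (s1 : Q →ₗ[B] E1) (s0 : Z →ₗ[B] E0) (dE : E1 →ₗ[B] E0)
    (g1 : Q →ₗ[B] N) (g0 : Z →ₗ[B] F) (dN : N →ₗ[B] F)
    (hs : ∀ q, s0 (d q) = dE (s1 q)) (hg : ∀ q, g0 (d q) = dN (g1 q))
    (sa : ∀ q, d q = 0 → s1 q = 0 → q = 0)
    (sb : ∀ e0, ∃ z e, e0 = s0 z + dE e)
    (sc : ∀ z e, s0 z + dE e = 0 → ∃ q, z = - d q ∧ e = s1 q)
    (ga : ∀ q, d q = 0 → g1 q = 0 → q = 0)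
    (gb : ∀ f, ∃ z n, f = g0 z + dN n)
    (gc : ∀ z n, g0 z + dN n = 0 → ∃ q, z = - d q ∧ n = g1 q)
    [Module.Flat B E1] [Module.Flat B E0] [Module.Flat B F] : Module.Flat B N := by
  let Z' := Z →₀ B
  let π : Z' →ₗ[B] Z := Finsupp.linearCombination B id
  have hπ : Function.Surjective π := Finsupp.linearCombination_surjective _ Function.surjective_id
  haveI hQ' := flat_pullback d s1 s0 dE hs sa sb sc π hπ
  set Q' := LinearMap.eqLocus (d ∘ₗ LinearMap.fst B Q Z') (π ∘ₗ LinearMap.snd B Q Z') with hQ'def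
  let α : Q' →ₗ[B] Z' × N :=
    ((LinearMap.snd B Q Z').prod (-(g1 ∘ₗ LinearMap.fst B Q Z'))) ∘ₗ Q'.subtype
  let β : Z' × N →ₗ[B] F := (g0 ∘ₗ π).coprod dN
  have hmem : ∀ x : Q', d x.1.1 = π x.1.2 := fun x => x.2
  haveI : Module.Flat B (Z' × N) := by
    refine Groth.Agent.Lib.H6xQRegBC.flat_of_exact (M' := Q') (M := Z' × N) (M'' := F) α β ?_ ?_ ?_
    · rw [injective_iff_map_eq_zero]
      intro x hx
      have h1 : x.1.2 = 0 := congrArg Prod.fst hx
      have h2 : - g1 x.1.1 = 0 := congrArg Prod.snd hx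
      have h3 : d x.1.1 = 0 := by rw [hmem x, h1, map_zero]
      have h4 : x.1.1 = 0 := ga _ h3 (neg_eq_zero.1 h2)
      apply Subtype.ext
      exact Prod.ext h4 h1
    · intro f
      obtain ⟨z, n, rfl⟩ := gb f
      obtain ⟨z', rfl⟩ := hπ z
      exact ⟨(z', n), by simp [β]⟩
    · intro y
      constructor
      · intro hy
        have hy' : g0 (π y.1) + dN y.2 = 0 := by simpa [β] using hy
        obtain ⟨q, hq1, hq2⟩ := gc _ _ hy'
        refine ⟨⟨(-q, y.1), ?_⟩, ?_⟩
        · show d (-q) = π y.1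
          rw [map_neg, ← hq1]
        · apply Prod.ext
          · rfl
          · show -(g1 (-q)) = y.2
            rw [map_neg, neg_neg, hq2]
      · rintro ⟨x, rfl⟩
        show g0 (π x.1.2) + dN (- g1 x.1.1) = 0
        rw [← hmem x, hg, map_neg, add_neg_cancel]
  exact Module.Flat.of_retract (LinearMap.inr B Z' N) (LinearMap.snd B Z' N) (by ext; simp)

end Span

section Main

variable {B : Type u} [CommRing B]

/-- if a complex `N` in degrees `[-1,0]` with flat degree-zero term is isomorphic in the derived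
category to a complex of flat modules in degrees `[-1,0]`, its degree `-1` term is flat -/
theorem flat_X_neg_one {E N : DRing.Cx B} (hE : DRing.VanishesOutside E (-1) 0)
    (hEf : DRing.TermwiseFlat E) (hN : DRing.VanishesOutside N (-1) 0)
    (hN0 : Module.Flat B (N.X 0)) (e : DRing.toD E ≅ DRing.toD N) :
    Module.Flat B (N.X (-1)) := by
  haveI : E.IsStrictlyGE (-1) := (E.isStrictlyGE_iff (-1)).2 (fun i hi => hE i (Or.inl hi))
  haveI : E.IsStrictlyLE 0 := (E.isStrictlyLE_iff 0).2 (fun i hi => hE i (Or.inr hi))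
  haveI : N.IsStrictlyGE (-1) := (N.isStrictlyGE_iff (-1)).2 (fun i hi => hN i (Or.inl hi))
  obtain ⟨X', hX'1, hX'2, s, hs, g, fac⟩ :=
    DerivedCategory.right_fac_of_isStrictlyLE_of_isStrictlyGE (-1) 0 e.hom
  haveI hqs : QuasiIso s := (DerivedCategory.isIso_Q_map_iff_quasiIso (φ := s)).1 hs
  have hg : IsIso (DerivedCategory.Q.map g) := by
    have h : DerivedCategory.Q.map g = DerivedCategory.Q.map s ≫ e.hom := by
      rw [fac, IsIso.hom_inv_id_assoc]
    rw [h]
    infer_instance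
  haveI hqg : QuasiIso g := (DerivedCategory.isIso_Q_map_iff_quasiIso (φ := g)).1 hg
  have hXs : ∀ i : ℤ, i < -1 ∨ 0 < i → Subsingleton (X'.X i) := by
    intro i hi
    apply ModuleCat.subsingleton_of_isZero
    rcases hi with hi | hi
    · exact X'.isZero_of_isStrictlyGE (-1) i hi
    · exact X'.isZero_of_isStrictlyLE 0 i hi
  have hEs : ∀ i : ℤ, i < -1 ∨ 0 < i → Subsingleton (E.X i) := fun i hi =>
    ModuleCat.subsingleton_of_isZero (hE i hi)
  have hNs : ∀ i : ℤ, i < -1 ∨ 0 < i → Subsingleton (N.X i) := fun i hi =>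
    ModuleCat.subsingleton_of_isZero (hN i hi)
  haveI := hEf (-1)
  haveI := hEf 0
  haveI := hXs (-3 + 1) (by decide)
  haveI := hXs (-1 + 1 + 1 + 1) (by decide)
  haveI := hXs (-2 + 1 + 1 + 1) (by decide)
  haveI := hEs (-3) (by decide)
  haveI := hEs (-2) (by decide)
  haveI := hEs (-1 + 1 + 1) (by decide)
  haveI := hNs (-3) (by decide)
  haveI := hNs (-2) (by decide)
  haveI := hNs (-1 + 1 + 1) (by decide)
  refine flat_of_span (X'.d (-1) 0).hom (s.f (-1)).hom (s.f 0).hom (E.d (-1) 0).hom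
    (g.f (-1)).hom (g.f 0).hom (N.d (-1) 0).hom ?_ ?_ (cone_a s (-3)) (cone_b s (-1))
    (cone_c s (-2)) (cone_a g (-3)) (cone_b g (-1)) (cone_c g (-2))
  · intro q
    have := s.comm (-1) 0
    exact congr($(this).hom q).symm
  · intro q
    have := g.comm (-1) 0
    exact congr($(this).hom q).symm

open Groth.Agent.Lib.R2H3 in
/-- tor amplitude `[-1,0]` of the naive cotangent complex forces the conormal module of any
presentation to be flat -/
theorem cotangent_flat {A : Type u} [CommRing A] [Algebra A B] {ι : Type}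
    (G : Algebra.Generators A B ι)
    (h : DRing.HasTorAmplitudeIn B (-1) 0 (LCI.NL A B)) :
    Module.Flat B G.toExtension.Cotangent := by
  obtain ⟨E, hE, hEf, ⟨e⟩⟩ := h
  have hN : DRing.VanishesOutside (NLCx.cx G.toExtension) (-1) 0 := by
    intro i hi
    exact NLHtpy.isZero_cx_X G.toExtension i (by omega) (by omega)
  have hN0 : Module.Flat B ((NLCx.cx G.toExtension).X 0) := by
    haveI : Module.Free B G.toExtension.CotangentSpace :=
      Module.Free.of_basis G.cotangentSpaceBasis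
    exact Module.Flat.of_linearEquiv (NLHtpy.iso₁ G.toExtension).toLinearEquiv
  have := flat_X_neg_one hE hEf hN hN0 (e ≪≫ (NLHtpy.isoNL₀ G).symm)
  exact Module.Flat.of_linearEquiv (NLHtpy.iso₀ G.toExtension).toLinearEquiv.symm

end Main

end Groth.Agent.Lib.R2LeadNLFlat1
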