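import Mathlib
import Groth.Prelude.Def_SheafNL
import Groth.Agent.Lib.R2H3NLFlatBC
import Groth.Agent.Lib.R2LeadNLFlat1
import Groth.Agent.Lib.Helper1DT5
import Groth.Agent.Lib.Helper1LBC
import Groth.Agent.Lib.Helper1KF12
import Groth.Agent.Lib.Helper1Extend

/-!
# Derived base change of the naive cotangent complex with tor-amplitude in `[-1, 0]`
-/

set_option autoImplicit false
universe u

set_option linter.unusedSectionVars false
set_option linter.style.haveILetI false

open CategoryTheory CategoryTheory.Limits TensorProduct HomologicalComplex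
attribute [local instance] HasDerivedCategory.standard

namespace Groth.Agent.Lib.R2H3.NLFlatBC2

open Algebra Algebra.Extension Groth.Agent.Lib.R2H3 Groth.Agent.Lib.Helper1.KF
  Groth.Agent.Lib.Helper1.LDer Groth.Agent.Lib.Helper1.Extend DerivedCategory

section KFlat

variable {A B : Type u} [CommRing A] [CommRing B] (φ : A →+* B) [DRing.HasLBaseChange φ]

/-- derived base change of a K-flat complex is computed termwise -/
theorem nonempty_lbc_iso_of_kflat (K : DRing.Cx A) (hK : KFlat K) :
    Nonempty ((DRing.LBaseChange φ).obj (Q.obj K) ≅ Q.obj ((bcCx φ).obj K)) := by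
  obtain ⟨P, π, hP, -, hπ, -⟩ := exists_kprojective_resolution K
  haveI := hP
  haveI := hπ
  haveI hpi : IsIso (Q.map π) := (DerivedCategory.isIso_Q_map_iff_quasiIso (φ := π)).2 hπ
  have hq : QuasiIso ((bcCx φ).map π) :=
    Groth.Agent.Lib.Helper1.DT.quasiIso_extCx_map_of_kflat φ π (kflat_of_isKProjective P) hK
  haveI : IsIso (Q.map ((bcCx φ).map π)) :=
    (DerivedCategory.isIso_Q_map_iff_quasiIso (φ := (bcCx φ).map π)).2 hq
  exact ⟨(DRing.LBaseChange φ).mapIso (asIso (Q.map π)).symm ≪≫ lbcIso φ P ≪≫
    asIso (Q.map ((bcCx φ).map π))⟩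

end KFlat

section CxIso

variable {A B B' : Type u} [CommRing A] [CommRing B] [CommRing B'] [Algebra A B] [Algebra B B']

/-- naturality of the identification of `extendScalars` with the tensor product -/
lemma ext_map_extIso {M N : Type u} [AddCommGroup M] [Module B M] [AddCommGroup N] [Module B N]
    (d : M →ₗ[B] N) :
    (ext B B').map (ModuleCat.ofHom d) ≫ (extIso (A := B) (B := B') N).hom =
      (extIso (A := B) (B := B') M).hom ≫ ModuleCat.ofHom (d.baseChange B') := by
  refine ModuleCat.hom_ext (LinearMap.ext fun x => ?_)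
  have key : ∀ (f1 f2 : ↑((ext B B').obj (ModuleCat.of B M)) →ₗ[B'] B' ⊗[B] N),
      (∀ (b : B') (m : M), f1 (TensorProduct.tmul B (show ((ModuleCat.restrictScalars.{u}
        (algebraMap B B')).obj (ModuleCat.of B' B')) from b) m) =
        f2 (TensorProduct.tmul B (show ((ModuleCat.restrictScalars.{u}
        (algebraMap B B')).obj (ModuleCat.of B' B')) from b) m)) → ∀ x, f1 x = f2 x := by
    intro f1 f2 h12 x
    induction x using TensorProduct.induction_on with
    | zero => exact (map_zero f1).trans (map_zero f2).symm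
    | tmul b m => exact h12 b m
    | add x y hx hy =>
      exact (map_add f1 x y).trans ((congrArg₂ (· + ·) hx hy).trans (map_add f2 x y).symm)
  exact key ((ext B B').map (ModuleCat.ofHom d) ≫ (extIso (A := B) (B := B') N).hom).hom
    ((extIso (A := B) (B := B') M).hom ≫ ModuleCat.ofHom (d.baseChange B')).hom
    (fun b m => rfl) x

lemma extIso_inv_ext_map {M N : Type u} [AddCommGroup M] [Module B M] [AddCommGroup N] [Module B N]
    (d : M →ₗ[B] N) :
    (extIso (A := B) (B := B') M).inv ≫ (ext B B').map (ModuleCat.ofHom d) =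
      ModuleCat.ofHom (d.baseChange B') ≫ (extIso (A := B) (B := B') N).inv := by
  rw [Iso.inv_comp_eq, ← Category.assoc, Iso.eq_comp_inv, ext_map_extIso]

variable (P : Algebra.Extension.{u} A B)

variable (B') in
/-- degree `-1` component -/
noncomputable def toExt₀ : ModuleCat.of B' (B' ⊗[B] P.Cotangent) ⟶
    ((bcCx (algebraMap B B')).obj (NLCx.cx P)).X (-1) :=
  (extIso (A := B) (B := B') P.Cotangent).inv ≫ (ext B B').map (NLHtpy.iso₀ P).inv

variable (B') in
/-- degree `0` component -/
noncomputable def toExt₁ : ModuleCat.of B' (B' ⊗[B] P.CotangentSpace) ⟶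
    ((bcCx (algebraMap B B')).obj (NLCx.cx P)).X 0 :=
  (extIso (A := B) (B := B') P.CotangentSpace).inv ≫ (ext B B').map (NLHtpy.iso₁ P).inv

instance : IsIso (toExt₀ B' P) := by
  unfold toExt₀
  exact IsIso.comp_isIso' (Iso.isIso_inv _) (Functor.map_isIso _ _)

instance : IsIso (toExt₁ B' P) := by
  unfold toExt₁
  exact IsIso.comp_isIso' (Iso.isIso_inv _) (Functor.map_isIso _ _)

lemma toExt_comm : toExt₀ B' P ≫ ((bcCx (algebraMap B B')).obj (NLCx.cx P)).d (-1) 0 =
    ModuleCat.ofHom (P.cotangentComplex.baseChange B') ≫ toExt₁ B' P := by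
  change ((extIso (A := B) (B := B') P.Cotangent).inv ≫ (ext B B').map (NLHtpy.iso₀ P).inv) ≫
    (ext B B').map ((NLCx.cx P).d (-1) 0) =
    ModuleCat.ofHom (P.cotangentComplex.baseChange B') ≫
      ((extIso (A := B) (B := B') P.CotangentSpace).inv ≫ (ext B B').map (NLHtpy.iso₁ P).inv)
  rw [NLHtpy.cx_d, Category.assoc, ← Functor.map_comp, Iso.inv_hom_id_assoc,
    Functor.map_comp, ← Category.assoc, extIso_inv_ext_map, Category.assoc]

variable (B') in
/-- the comparison map from `NL(P) ⊗_B B'` (written out) to the termwise extension of scalars of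
`NL(P)` -/
noncomputable def toExt : NLCx.bcCx P B' ⟶ (bcCx (algebraMap B B')).obj (NLCx.cx P) :=
  HomologicalComplex.mkHomFromDouble _ (by decide) (toExt₀ B' P) (toExt₁ B' P) (toExt_comm P)
    (fun k hk => by
      have hk' : k = 1 := by simp at hk; omega
      subst hk'
      have hz : IsZero ((NLCx.cx P).X 1) := NLHtpy.isZero_cx_X P 1 (by decide) (by decide)
      have : (NLCx.cx P).d 0 1 = 0 := hz.eq_of_tgt _ _
      change _ ≫ (ext B B').map ((NLCx.cx P).d 0 1) = 0
      rw [this, Functor.map_zero, comp_zero])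

instance isIso_toExt : IsIso (toExt B' P) := by
  have : ∀ n : ℤ, IsIso ((toExt B' P).f n) := by
    intro n
    by_cases hn0 : n = -1
    · subst hn0
      dsimp only [toExt]
      rw [mkHomFromDouble_f₀]
      exact IsIso.comp_isIso' (Iso.isIso_hom _) inferInstance
    · by_cases hn1 : n = 0
      · subst hn1
        dsimp only [toExt]
        rw [mkHomFromDouble_f₁]
        exact IsIso.comp_isIso' (Iso.isIso_hom _) inferInstance
      · exact NLFlatBC.isIso_of_isZero' _ (isZero_double_X _ _ n hn0 hn1)
          ((ext B B').map_isZero (NLHtpy.isZero_cx_X P n hn0 hn1))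
  exact HomologicalComplex.Hom.isIso_of_components _

end CxIso

section Main

variable (A B A' B' : Type u) [CommRing A] [CommRing B] [CommRing A'] [CommRing B']
  [Algebra A B] [Algebra A' B'] [Algebra A A'] [Algebra B B'] [Algebra A B']
  [IsScalarTower A A' B'] [IsScalarTower A B B'] [Algebra.IsPushout A A' B B']

/-- tor amplitude `[-1,0]` of the naive cotangent complex forces the conormal module of the
presentation on all elements to be flat -/
theorem cotangent_flat_self (h : DRing.HasTorAmplitudeIn B (-1) 0 (LCI.NL A B)) :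
    Module.Flat B (Algebra.Generators.self A B).toExtension.Cotangent := by
  obtain ⟨E, hE, hEf, ⟨e⟩⟩ := h
  set G := Algebra.Generators.self A B with hG
  have hN : DRing.VanishesOutside (NLCx.cx G.toExtension) (-1) 0 := by
    intro i hi
    exact NLHtpy.isZero_cx_X G.toExtension i (by omega) (by omega)
  have hN0 : Module.Flat B ((NLCx.cx G.toExtension).X 0) := by
    haveI : Module.Free B G.toExtension.CotangentSpace :=
      Module.Free.of_basis G.cotangentSpaceBasis
    exact Module.Flat.of_linearEquiv (NLHtpy.iso₁ G.toExtension).toLinearEquiv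
  have := Groth.Agent.Lib.R2LeadNLFlat1.flat_X_neg_one hE hEf hN hN0
    (e ≪≫ (NLHtpy.isoNL G).symm)
  exact Module.Flat.of_linearEquiv (NLHtpy.iso₀ G.toExtension).toLinearEquiv.symm

theorem kflat_cx_self (h : DRing.HasTorAmplitudeIn B (-1) 0 (LCI.NL A B)) :
    KFlat (NLCx.cx (Algebra.Generators.self A B).toExtension) := by
  have hflat := cotangent_flat_self A B h
  set G := Algebra.Generators.self A B with hG
  refine kflat_of_boundedAbove_flat _ 0
    (fun q hq => NLHtpy.isZero_cx_X _ q (by omega) (by omega)) (fun q => ?_)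
  by_cases hq0 : q = -1
  · subst hq0
    exact Module.Flat.of_linearEquiv (NLHtpy.iso₀ G.toExtension).toLinearEquiv
  · by_cases hq1 : q = 0
    · subst hq1
      haveI : Module.Free B G.toExtension.CotangentSpace :=
        Module.Free.of_basis G.cotangentSpaceBasis
      exact Module.Flat.of_linearEquiv (NLHtpy.iso₁ G.toExtension).toLinearEquiv
    · haveI : Subsingleton ((NLCx.cx G.toExtension).X q) :=
        ModuleCat.subsingleton_of_isZero (NLHtpy.isZero_cx_X _ q hq0 hq1)
      infer_instance

theorem main [Module.Flat A B] (h : DRing.HasTorAmplitudeIn B (-1) 0 (LCI.NL A B))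
    [DRing.HasLBaseChange (algebraMap B B')] :
    Nonempty ((DRing.LBaseChange (algebraMap B B')).obj (LCI.NL A B) ≅ LCI.NL A' B') := by
  have hK := kflat_cx_self A B h
  obtain ⟨e1⟩ := nonempty_lbc_iso_of_kflat (algebraMap B B') _ hK
  obtain ⟨e, he⟩ := NLFlatBC.exists_homotopyEquiv_bcMapSelf A B A' B'
    (NLFlatBC.torCond_of_flat A' _)
  haveI : QuasiIso (NLCx.bcMapSelf A B A' B') := he ▸ e.quasiIso_hom
  have e3 : (Q.obj (NLCx.bcCx (Algebra.Generators.self A B).toExtension B') : Dual.D B') ≅
      Q.obj (NLCx.cx (Algebra.Generators.self A' B').toExtension) := by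
    haveI : IsIso (Q.map (NLCx.bcMapSelf A B A' B')) :=
      (DerivedCategory.isIso_Q_map_iff_quasiIso (φ := NLCx.bcMapSelf A B A' B')).2 inferInstance
    exact asIso (Q.map (NLCx.bcMapSelf A B A' B'))
  have e2 : (Q.obj ((bcCx (algebraMap B B')).obj
      (NLCx.cx (Algebra.Generators.self A B).toExtension)) : Dual.D B') ≅
      Q.obj (NLCx.bcCx (Algebra.Generators.self A B).toExtension B') :=
    (asIso (Q.map (toExt B' (Algebra.Generators.self A B).toExtension))).symm
  exact ⟨e1 ≪≫ e2 ≪≫ e3⟩

end Main

end Groth.Agent.Lib.R2H3.NLFlatBC2
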