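import Mathlib
import Groth.Prelude.Def_SheafNL
import Groth.Agent.Lib.R2H3NLBase
import Groth.Agent.Lib.R2H3NLBcH1
import Groth.Agent.Lib.R2H3KzCotProj
import Groth.Agent.Lib.R2H3KzLCIComp

/-!
# Base change of the naive cotangent complex for local complete intersections: auxiliary lemmas
-/

set_option autoImplicit false
set_option linter.style.haveILetI false
set_option linter.unusedVariables false
set_option linter.unusedSectionVars false
universe u

namespace Groth.Agent.Lib.R2H3.NLLciBC

open Algebra Algebra.Extension TensorProduct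

section Pushout

variable {R S R' S' : Type u} [CommRing R] [CommRing S] [CommRing R'] [CommRing S']
  [Algebra R S] [Algebra R' S'] [Algebra R R'] [Algebra S S'] [Algebra R S']
  [IsScalarTower R R' S'] [IsScalarTower R S S'] [Algebra.IsPushout R R' S S']
  {ι : Type u}

/-- For a cocartesian square, the images of generators of `S` over `R` generate `S'` over `R'`. -/
lemma aeval_surjective_of_isPushout (v : ι → S)
    (hv : Function.Surjective (MvPolynomial.aeval v : MvPolynomial ι R →ₐ[R] S)) :
    Function.Surjective
      (MvPolynomial.aeval (fun i => algebraMap S S' (v i)) : MvPolynomial ι R' →ₐ[R'] S') := by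
  set π : MvPolynomial ι R →ₐ[R] S := MvPolynomial.aeval v with hπ
  set π' : MvPolynomial ι R' →ₐ[R'] S' := MvPolynomial.aeval (fun i => algebraMap S S' (v i)) with hπ'
  let e1 : R' ⊗[R] MvPolynomial ι R ≃ₐ[R'] MvPolynomial ι R' := MvPolynomial.algebraTensorAlgEquiv R R'
  let e2 : R' ⊗[R] S ≃ₐ[R'] S' := Algebra.IsPushout.equiv R R' S S'
  have sq : π'.comp e1.toAlgHom = e2.toAlgHom.comp (Algebra.TensorProduct.map (AlgHom.id R' R') π) := by
    apply Algebra.TensorProduct.ext
    · ext
    · apply MvPolynomial.algHom_ext
      intro i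
      simp [e1, e2, π, π', Algebra.IsPushout.equiv_tmul]
  intro y
  obtain ⟨z, hz⟩ := e2.surjective y
  have hsurj : Function.Surjective (Algebra.TensorProduct.map (AlgHom.id R' R') π) := by
    intro w
    induction w using TensorProduct.induction_on with
    | zero => exact ⟨0, map_zero _⟩
    | tmul a b =>
      obtain ⟨p, rfl⟩ := hv b
      exact ⟨a ⊗ₜ p, by simp⟩
    | add a b ha hb =>
      obtain ⟨a', rfl⟩ := ha
      obtain ⟨b', rfl⟩ := hb
      exact ⟨a' + b', map_add _ _ _⟩
  obtain ⟨w, hw⟩ := hsurj z
  refine ⟨e1 w, ?_⟩
  have := congr($sq w)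
  simp only [AlgHom.coe_comp, Function.comp_apply] at this
  rw [← hz, ← hw]
  exact this

end Pushout

section Split

variable {S : Type u} [CommRing S] {M N : Type u} [AddCommGroup M] [AddCommGroup N] [Module S M]
  [Module S N]

/-- the kernel of a surjection of a finite projective module onto a projective module is finite
projective -/
theorem ker_finite_projective (φ : M →ₗ[S] N) (hφ : Function.Surjective φ) [Module.Finite S M]
    [Module.Projective S M] [Module.Projective S N] :
    Module.Finite S (LinearMap.ker φ) ∧ Module.Projective S (LinearMap.ker φ) := by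
  obtain ⟨s, hs⟩ := Module.projective_lifting_property φ LinearMap.id hφ
  have hs' : ∀ y, φ (s y) = y := fun y => congrArg (fun l => l y) hs
  let r : M →ₗ[S] LinearMap.ker φ :=
    (LinearMap.id - s ∘ₗ φ).codRestrict (LinearMap.ker φ) (fun x => by
      rw [LinearMap.mem_ker, LinearMap.sub_apply, map_sub, LinearMap.id_apply, LinearMap.comp_apply,
        hs', sub_self])
  have hr : r ∘ₗ (LinearMap.ker φ).subtype = LinearMap.id := by
    ext x
    simp only [r, LinearMap.coe_comp, Function.comp_apply, Submodule.subtype_apply,
      LinearMap.codRestrict_apply, LinearMap.sub_apply, LinearMap.id_apply]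
    rw [(LinearMap.mem_ker).mp x.2, map_zero, sub_zero]
  have hrs : Function.Surjective r := fun x => ⟨x.1, congrArg (fun l => l x) hr⟩
  exact ⟨Module.Finite.of_surjective r hrs,
    Module.Projective.of_split (LinearMap.ker φ).subtype r hr⟩

end Split

section Transport

/-- Koszul-regularity of a kernel is invariant under precomposition with a ring isomorphism. -/
theorem koszul_ker_comp_equiv {P₁ P₂ B : Type u} [CommRing P₁] [CommRing P₂] [CommRing B]
    (ρ : P₁ ≃+* P₂) (g : P₂ →+* B) (h : LCI.IsKoszulRegularIdeal (RingHom.ker g)) :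
    LCI.IsKoszulRegularIdeal (RingHom.ker (g.comp ρ.toRingHom)) := by
  have h1 : RingHom.ker (g.comp ρ.toRingHom) = (RingHom.ker g).map ρ.symm.toRingHom := by
    ext x
    rw [RingHom.mem_ker, RingHom.comp_apply]
    constructor
    · intro hx
      have : x = ρ.symm.toRingHom (ρ x) := by simp
      rw [this]
      exact Ideal.mem_map_of_mem _ ((RingHom.mem_ker).mpr hx)
    · intro hx
      have hle : (RingHom.ker g).map ρ.symm.toRingHom ≤ (RingHom.ker g).comap ρ.toRingHom := by
        rw [Ideal.map_le_iff_le_comap]
        intro y hy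
        rw [Ideal.mem_comap, Ideal.mem_comap]
        simpa using hy
      exact (RingHom.mem_ker).mp (hle hx)
  rw [h1]
  refine Groth.Agent.Lib.R2H3.KzLCIComp.isKoszulRegularIdeal_map_of_flat _ ?_ _ h
  exact RingHom.Flat.of_bijective ρ.symm.bijective

end Transport

end Groth.Agent.Lib.R2H3.NLLciBC
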