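import Groth.Agent.Lib.R2H3NegTwistData

/-!
# Vanishing of `Hⁱ(X, F ⊗ L^{-m})` for `m ≫ 0` and `i < depth` (helper3, round 2)

Namespace `Groth.Agent.Lib.R2H3.NegTwistAll`.

`X` proper over a field, `L` ample with inverse `M`, `F` coherent with `depth F_x ≥ i + 1` at all closed points:
`Hⁱ(X, F ⊗ M^{⊗ m}) = 0` for `m ≫ 0` (`main_all`); generalizes `NegTwist.main` (`i = 0`) and
`NegTwistData.main` (`i = 1`).
-/

set_option autoImplicit false
set_option linter.style.haveILetI false
set_option linter.unusedSectionVars false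
universe u

open CategoryTheory CategoryTheory.Limits AlgebraicGeometry TopologicalSpace Opposite MonoidalCategory TensorProduct

namespace Groth.Agent.Lib.R2H3.NegTwistAll

open Groth.Agent.Lib.Helper23.SecTw Groth.Agent.Lib.Helper23.GenLocus Groth.Agent.Lib.Helper6
  Groth.Agent.Lib.Helper23.AmpleIso Groth.Agent.Lib.Helper23.Extend
  Groth.Agent.Lib.R2H3.NegTwist Groth.Agent.Lib.R2H2.PnSerre Groth.Agent.Lib.R2H2.PnBeilinson
  Groth.Agent.Lib.R2H3.NegTwistLin Groth.Agent.Lib.R2H3.NegTwistCalc Groth.Agent.Lib.R2H3.NegTwistH1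
  Groth.Agent.Lib.R2H3.NegTwistData

variable {X : Scheme.{u}}

section Depth

open Groth.Agent.Lib.Helper2.FlatOver Groth.Agent.Lib.Helper4.NormDelta Groth.Agent.Lib.Helper23.StalkLin

lemma le_sub_one_of_succ_le {a : ℕ∞} {j : ℕ} (h : ((j + 1 : ℕ) : ℕ∞) ≤ a) : (j : ℕ∞) ≤ a - 1 := by
  induction a using ENat.recTopCoe with
  | top => simp
  | coe m =>
    have h' : j + 1 ≤ m := by exact_mod_cast h
    have h2 : j ≤ m - 1 := by omega
    exact_mod_cast h2

/-- depth of the cokernel of a monomorphism `A ⟶ B` of coherent modules -/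
theorem depth_cokernel_ge [IsLocallyNoetherian X] {A B : X.Modules} (hA : Coh.IsCoh A)
    (hB : Coh.IsCoh B) (Ψ : A ⟶ B) [Mono Ψ] (x : X) (j : ℕ)
    (hdA : ((j + 1 : ℕ) : ℕ∞) ≤ LocCoh.depth (X.presheaf.stalk x) (A.presheaf.stalk x))
    (hdB : (j : ℕ∞) ≤ LocCoh.depth (X.presheaf.stalk x) (B.presheaf.stalk x)) :
    (j : ℕ∞) ≤ LocCoh.depth (X.presheaf.stalk x) ((cokernel Ψ).presheaf.stalk x) := by
  have hC := Groth.Agent.Lib.R2H2.NilFilt.isCoh_cokernel hA hB Ψ
  haveI : A.IsQuasicoherent := hA.1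
  haveI : SheafOfModules.IsFiniteType (R := X.ringCatSheaf) A := hA.2
  haveI : B.IsQuasicoherent := hB.1
  haveI : SheafOfModules.IsFiniteType (R := X.ringCatSheaf) B := hB.2
  haveI : (cokernel Ψ).IsQuasicoherent := hC.1
  haveI : SheafOfModules.IsFiniteType (R := X.ringCatSheaf) (cokernel Ψ) := hC.2
  haveI := Groth.Agent.Lib.Helper2.FibreCrit.finite_stalk A x
  haveI := Groth.Agent.Lib.Helper2.FibreCrit.finite_stalk B x
  haveI := @Groth.Agent.Lib.Helper2.FibreCrit.finite_stalk X (cokernel Ψ) hC.1 hC.2 x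
  let S : ShortComplex X.Modules := ShortComplex.mk Ψ (cokernel.π Ψ) (cokernel.condition Ψ)
  have hS : S.ShortExact :=
    { exact := ShortComplex.exact_cokernel Ψ
      mono_f := inferInstanceAs (Mono Ψ)
      epi_g := inferInstanceAs (Epi (cokernel.π Ψ)) }
  have h1 := Groth.Agent.Lib.Helper28.min_idealDepth_le_right
    (IsLocalRing.maximalIdeal (X.presheaf.stalk x)) (stalkLin Ψ x) (stalkLin (cokernel.π Ψ) x)
    (stalkLin_injective Ψ x) (stalkLin_surjective (cokernel.π Ψ) x) (stalkLin_exact S hS x)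
  exact (le_min hdB (le_sub_one_of_succ_le hdA)).trans h1

end Depth

section Core

open Groth.Agent.Lib.R2H2.HHLin

/-- inductive step of the vanishing theorem -/
theorem core_succ (k : Type u) [Field k] (X : Scheme.{u}) [X.Over (Spec (CommRingCat.of k))]
    [IsProper (X ↘ Spec (CommRingCat.of k))]
    (L : X.Modules) (hL : CohB1.IsAmple L) (M : X.Modules) (hM : ClSub.IsInverseOf L M) (i : ℕ)
    (IH : ∀ G : X.Modules, Coh.IsCoh G →
      (∀ x : X, IsClosed ({x} : Set X) →
        ((i + 1 : ℕ) : ℕ∞) ≤ LocCoh.depth (X.presheaf.stalk x) (G.presheaf.stalk x)) →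
      ∃ m₀ : ℕ, ∀ m : ℕ, m₀ ≤ m → Subsingleton (Coh.HH X (CohB1.tensorMod G (CohB1.tensorPow M m)) i))
    (E : ℕ) (hE : 0 < E)
    (χσ χw : CohB1.tensorPow M E ⟶ Coh.structureModule X)
    (F : X.Modules) (hF : Coh.IsCoh F)
    (hdepth : ∀ x : X, IsClosed ({x} : Set X) →
      ((i + 2 : ℕ) : ℕ∞) ≤ LocCoh.depth (X.presheaf.stalk x) (F.presheaf.stalk x))
    (U : X.Opens) (a : Γ(X, U))
    (hσ : ∀ (W : X.Opens), W ≤ U → ∀ e : Γ(CohB1.tensorPow M E, W),
      IsGen (CohB1.tensorPow M E) W e → IsUnit (ofS W (χσ.app W e)))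
    (hw : ∀ (W : X.Opens) (h : W ≤ U) (m : Γ(CohB1.tensorPow M E, W)),
      ofS W (χw.app W m) = resf h a * ofS W (χσ.app W m))
    (hp : ∀ (c : ℕ → k) (d : ℕ), (∃ i ≤ d, c i ≠ 0) → ∀ x, Curv2.IsAssPoint F x →
      x ∈ X.basicOpen (∑ i ∈ Finset.range (d + 1), kMap k U (c i) * a ^ i)) :
    ∃ n₀ : ℕ, ∀ n, n₀ ≤ n → Subsingleton (Coh.HH X (itw (CohB1.tensorPow M E) n F) (i + 1)) := by
  have hLi := hL.1
  haveI : CompactSpace X := hL.2.1
  haveI : IsLocallyNoetherian X :=
    LocallyOfFiniteType.isLocallyNoetherian (X ↘ Spec (CommRingCat.of k))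
  have hMi := isInvertible_of_isInverseOf L M hM
  have hN : PicF.IsInvertible (CohB1.tensorPow M E) := isInvertible_tensorPow hMi E
  refine NegTwistLin.main (k := k) (twR (CohB1.tensorPow M E)).obj (fun b => Coh.HH X b (i + 1))
    (fun b => HmapA k (eta (CohB1.tensorPow M E) χσ b) (i + 1))
    (fun b => HmapA k (eta (CohB1.tensorPow M E) χw b) (i + 1)) F ?_ ?_ ?_
  · intro b
    change (HmapA k (eta (CohB1.tensorPow M E) χσ b) (i + 1)).comp
        (HmapA k (eta (CohB1.tensorPow M E) χw ((twR (CohB1.tensorPow M E)).obj b)) (i + 1)) =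
      (HmapA k (eta (CohB1.tensorPow M E) χw b) (i + 1)).comp
        (HmapA k (eta (CohB1.tensorPow M E) χσ ((twR (CohB1.tensorPow M E)).obj b)) (i + 1))
    rw [← HmapA_comp, ← HmapA_comp, eta_comm (CohB1.tensorPow M E) hN χw χσ b]
  · intro n
    exact Groth.Agent.S0002.result k X _ (isCoh_itw (CohB1.tensorPow M E) hN n F hF) (i + 1)
  · intro c d hc
    have hinj : ∀ V, Function.Injective ((Pm k (CohB1.tensorPow M E) χσ χw c d F).app V) :=
      Pm_app_injective k (CohB1.tensorPow M E) hN χσ χw F hF U a hσ hw c d (hp c d hc)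
    haveI : Mono (Pm k (CohB1.tensorPow M E) χσ χw c d F) := mono_of_app_injective _ hinj
    have hA := isCoh_itw (CohB1.tensorPow M E) hN d F hF
    have hC := Groth.Agent.Lib.R2H2.NilFilt.isCoh_cokernel hA hF (Pm k (CohB1.tensorPow M E) χσ χw c d F)
    have hdC : ∀ x : X, IsClosed ({x} : Set X) → ((i + 1 : ℕ) : ℕ∞) ≤
        LocCoh.depth (X.presheaf.stalk x)
          ((cokernel (Pm k (CohB1.tensorPow M E) χσ χw c d F)).presheaf.stalk x) := fun x hx =>
      depth_cokernel_ge hA hF _ x (i + 1)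
        (by rw [depth_itw (CohB1.tensorPow M E) hN F hF d x]; exact hdepth x hx)
        (le_trans (by exact_mod_cast Nat.le_succ (i + 1)) (hdepth x hx))
    obtain ⟨n₁, hn₁⟩ := IH _ hC hdC
    refine ⟨n₁, fun n hn => ?_⟩
    have h0 : Subsingleton (Coh.HH X (itw (CohB1.tensorPow M E) n
        (cokernel (Pm k (CohB1.tensorPow M E) χσ χw c d F))) i) := by
      obtain ⟨e1⟩ := nonempty_itw_iso (CohB1.tensorPow M E) n
        (cokernel (Pm k (CohB1.tensorPow M E) χσ χw c d F))
      obtain ⟨e2⟩ := nonempty_tensorPow_tensorPow_iso M hMi E n (E * n) rfl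
      have h3 := hn₁ (E * n) (le_trans hn (Nat.le_mul_of_pos_left n hE))
      exact subsingleton_HH_of_iso (e1 ≪≫ tensorModIso (Iso.refl _) e2).symm i h3
    let S : ShortComplex X.Modules := ShortComplex.mk (Pm k (CohB1.tensorPow M E) χσ χw c d F)
      (cokernel.π _) (cokernel.condition _)
    have hS : S.ShortExact :=
      { exact := ShortComplex.exact_cokernel _
        mono_f := inferInstanceAs (Mono (Pm k (CohB1.tensorPow M E) χσ χw c d F))
        epi_g := inferInstanceAs (Epi (cokernel.π (Pm k (CohB1.tensorPow M E) χσ χw c d F))) }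
    obtain ⟨w, hSn⟩ := shortExact_itMap (CohB1.tensorPow M E) hN S hS n
    have hinj1 := Groth.Agent.Lib.R2H2.PnMumford.injective_f_of_subsingleton _ hSn i h0
    have hPm := HmapA_Pm k (CohB1.tensorPow M E) χσ χw c (i + 1) d (itw (CohB1.tensorPow M E) n F)
    change Function.Injective ⇑(pmap (twR (CohB1.tensorPow M E)).obj (fun b => Coh.HH X b (i + 1))
      (fun b => HmapA k (eta (CohB1.tensorPow M E) χσ b) (i + 1))
      (fun b => HmapA k (eta (CohB1.tensorPow M E) χw b) (i + 1)) c d (itw (CohB1.tensorPow M E) n F))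
    rw [← hPm, Pm_itw k (CohB1.tensorPow M E) hN χσ χw c d n F, HmapA_comp, LinearMap.coe_comp]
    refine Function.Injective.comp ?_
      (HmapA_bijective_of_iso k (kappaIso (CohB1.tensorPow M E) d n F) (i + 1)).1
    exact hinj1

end Core

section Main

/-- **`Hⁱ(X, F ⊗ M^{⊗ m}) = 0` for `m ≫ 0`** (`M` an inverse of an ample `L`, `X` proper over a field,
`F` coherent with `depth F_x ≥ i + 1` at all closed points). -/
theorem main_all (k : Type u) [Field k] (X : Scheme.{u}) [X.Over (Spec (CommRingCat.of k))]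
    [IsProper (X ↘ (Spec (CommRingCat.of k)))]
    (L : X.Modules) (hL : CohB1.IsAmple L) (M : X.Modules) (hM : ClSub.IsInverseOf L M) :
    ∀ (i : ℕ) (F : X.Modules), Coh.IsCoh F →
      (∀ x : X, IsClosed ({x} : Set X) →
        ((i + 1 : ℕ) : ℕ∞) ≤ LocCoh.depth (X.presheaf.stalk x) (F.presheaf.stalk x)) →
      ∃ m₀ : ℕ, ∀ m : ℕ, m₀ ≤ m →
        Subsingleton (Coh.HH X (CohB1.tensorMod F (CohB1.tensorPow M m)) i) := by
  have hLi := hL.1
  haveI : CompactSpace X := hL.2.1
  haveI : IsLocallyNoetherian X :=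
    LocallyOfFiniteType.isLocallyNoetherian (X ↘ Spec (CommRingCat.of k))
  haveI : IsNoetherian X := {}
  have hMi := isInvertible_of_isInverseOf L M hM
  have hnotcl : ∀ (F : X.Modules), Coh.IsCoh F →
      (∀ x : X, IsClosed ({x} : Set X) →
        (1 : ℕ∞) ≤ LocCoh.depth (X.presheaf.stalk x) (F.presheaf.stalk x)) →
      ∀ x, Curv2.IsAssPoint F x → ¬ IsClosed ({x} : Set X) := by
    intro F hF hdepth x hx hcl
    haveI : F.IsQuasicoherent := hF.1
    haveI : SheafOfModules.IsFiniteType (R := X.ringCatSheaf) F := hF.2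
    haveI := Groth.Agent.Lib.Helper2.FibreCrit.finite_stalk F x
    have h2 := hdepth x hcl
    have h0 : LocCoh.depth (X.presheaf.stalk x) (F.presheaf.stalk x) = 0 :=
      Groth.Agent.Lib.Helper28.depth_eq_zero_iff.2 hx
    rw [h0] at h2
    exact absurd h2 (by simp)
  intro i
  induction i with
  | zero =>
    intro F hF hdepth
    exact NegTwist.main k X L hL M hM F hF
      (fun x hcl hx => hnotcl F hF (fun y hy => by simpa using hdepth y hy) x hx hcl)
  | succ i ih =>
    intro F hF hdepth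
    haveI : F.IsQuasicoherent := hF.1
    haveI : SheafOfModules.IsFiniteType (R := X.ringCatSheaf) F := hF.2
    have hnc := hnotcl F hF (fun y hy => le_trans (by simp) (hdepth y hy))
    obtain ⟨E, hE, χσ, χw, U, a, hAU, hσ, hw, hp⟩ := exists_data k X L hL M hM
      {x | Curv2.IsAssPoint F x} (finite_assPoints F hF) (fun x hx => hnc x hx)
    have hr : ∀ r : ℕ, ∃ n₀ : ℕ, ∀ n, n₀ ≤ n → Subsingleton (Coh.HH X
        (itw (CohB1.tensorPow M E) n (CohB1.tensorMod F (CohB1.tensorPow M r))) (i + 1)) := by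
      intro r
      have hinv := isInvertible_tensorPow hMi r
      have hFr : Coh.IsCoh (CohB1.tensorMod F (CohB1.tensorPow M r)) :=
        Groth.Agent.Lib.R2H3.AmpleSV.isCoh_tensorMod_invertible F _ hF hinv
      haveI : (CohB1.tensorMod F (CohB1.tensorPow M r)).IsQuasicoherent := hFr.1
      have hassr : ∀ x, Curv2.IsAssPoint (CohB1.tensorMod F (CohB1.tensorPow M r)) x ↔
          Curv2.IsAssPoint F x := fun x => isAssPoint_tensor_iff F _ hinv x
      refine core_succ k X L hL M hM i ih E hE χσ χw _ hFr ?_ U a hσ hw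
        (fun c d hc x hx => hp c d hc x ((hassr x).1 hx))
      intro x hcl
      obtain ⟨e⟩ := nonempty_stalk_tensor_equiv F (CohB1.tensorPow M r) hinv x
      have h1 : LocCoh.depth (X.presheaf.stalk x)
          ((CohB1.tensorMod F (CohB1.tensorPow M r)).presheaf.stalk x) =
          LocCoh.depth (X.presheaf.stalk x) (F.presheaf.stalk x) :=
        (Groth.Agent.Lib.Helper28.idealDepth_congr e _).symm
      rw [h1]
      exact hdepth x hcl
    choose n₀ hn₀ using hr
    refine ⟨E * (Finset.range E).sup n₀, fun m hm => ?_⟩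
    have hn : (Finset.range E).sup n₀ ≤ m / E :=
      (Nat.le_div_iff_mul_le hE).2 (by rw [mul_comm]; exact hm)
    have hlt : m % E < E := Nat.mod_lt m hE
    have h1 := hn₀ (m % E) (m / E) (le_trans (Finset.le_sup (Finset.mem_range.2 hlt)) hn)
    obtain ⟨e1⟩ := nonempty_itw_iso (CohB1.tensorPow M E) (m / E)
      (CohB1.tensorMod F (CohB1.tensorPow M (m % E)))
    obtain ⟨e2⟩ := nonempty_tensorPow_tensorPow_iso M hMi E (m / E) (E * (m / E)) rfl
    obtain ⟨e3⟩ := Groth.Agent.Lib.R2H3.AmpleSV.nonempty_tensor_tensorPow_add_iso F M (m % E)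
      (E * (m / E)) m (Nat.mod_add_div m E)
    exact subsingleton_HH_of_iso (e1 ≪≫ tensorModIso (Iso.refl _) e2 ≪≫ e3) (i + 1) h1

end Main

end Groth.Agent.Lib.R2H3.NegTwistAll
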