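import Mathlib

/-!
# A linear algebra lemma on towers of finite dimensional spaces (helper3, round 2)

`V b` a vector space for every object `b`, `τ` a shift on objects, and two commuting families
`S b, T b : V (τ b) → V b`.  If for every nonzero homogeneous polynomial `P(S, T)` the composite map is
injective far enough along the orbit of `b`, then `V` vanishes far enough along the orbit
(Cayley–Hamilton for `T S⁻¹` on the stable part).
-/

set_option autoImplicit false
set_option linter.style.haveILetI false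
universe u v w

namespace Groth.Agent.Lib.R2H3.NegTwistLin

open Polynomial

section Defs

variable {k : Type u} [Field k] {B : Type v} (τ : B → B) (V : B → Type w)
  [∀ b, AddCommGroup (V b)] [∀ b, Module k (V b)]
  (S T : ∀ b, V (τ b) →ₗ[k] V b)

/-- iterate of `τ`, applied on the outside -/
abbrev it (n : ℕ) (b : B) : B := Nat.rec b (fun _ x => τ x) n

@[simp] lemma it_zero (b : B) : it τ 0 b = b := rfl
lemma it_succ (n : ℕ) (b : B) : it τ (n + 1) b = τ (it τ n b) := rfl

lemma it_add (n d : ℕ) (b : B) : it τ d (it τ n b) = it τ (n + d) b := by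
  induction d with
  | zero => rfl
  | succ d ih =>
    change τ (it τ d (it τ n b)) = τ (it τ (n + d) b)
    rw [ih]

/-- the composite of the `S` along `d` steps -/
def spow : (d : ℕ) → (b : B) → V (it τ d b) →ₗ[k] V b
  | 0, _ => LinearMap.id
  | d + 1, b => (spow d b).comp (S (it τ d b))

/-- the composite of the `T` along `d` steps -/
def tpow : (d : ℕ) → (b : B) → V (it τ d b) →ₗ[k] V b
  | 0, _ => LinearMap.id
  | d + 1, b => (tpow d b).comp (T (it τ d b))

/-- the homogeneous polynomial map `Σ_{i ≤ d} c i • T^i S^(d-i)` -/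
def pmap (c : ℕ → k) : (d : ℕ) → (b : B) → V (it τ d b) →ₗ[k] V b
  | 0, _ => c 0 • LinearMap.id
  | d + 1, b => (pmap c d b).comp (S (it τ d b)) + c (d + 1) • tpow τ V T (d + 1) b

lemma pmap_one (c : ℕ → k) (b : B) :
    pmap τ V S T c 1 b = c 0 • S b + c 1 • T b := by
  change ((c 0 • LinearMap.id).comp (S b) + c 1 • (LinearMap.id.comp (T b))) = _
  rw [LinearMap.smul_comp, LinearMap.id_comp, LinearMap.id_comp]

open Classical in
/-- the inverse of `S b` when it is bijective (junk otherwise) -/
noncomputable def Sinv (b : B) : V b →ₗ[k] V (τ b) :=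
  if h : Function.Bijective (S b) then ((LinearEquiv.ofBijective (S b) h).symm : V b →ₗ[k] V (τ b))
  else 0

/-- the endomorphism `T S⁻¹` -/
noncomputable def E (b : B) : V b →ₗ[k] V b := (T b).comp (Sinv τ V S b)

variable {τ V S T}

lemma S_comp_Sinv {b : B} (h : Function.Bijective (S b)) :
    (S b).comp (Sinv τ V S b) = LinearMap.id := by
  ext x
  simp only [Sinv, dif_pos h, LinearMap.comp_apply, LinearMap.id_apply]
  exact (LinearEquiv.ofBijective (S b) h).apply_symm_apply x

lemma Sinv_comp_S {b : B} (h : Function.Bijective (S b)) :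
    (Sinv τ V S b).comp (S b) = LinearMap.id := by
  ext x
  simp only [Sinv, dif_pos h, LinearMap.comp_apply, LinearMap.id_apply]
  exact (LinearEquiv.ofBijective (S b) h).symm_apply_apply x

lemma E_comp_S {b : B} (h : Function.Bijective (S b)) : (E τ V S T b).comp (S b) = T b := by
  rw [E, LinearMap.comp_assoc, Sinv_comp_S h, LinearMap.comp_id]

lemma S_comp_E (hcomm : ∀ b', (S b').comp (T (τ b')) = (T b').comp (S (τ b'))) {b : B}
    (h : Function.Bijective (S b)) (h' : Function.Bijective (S (τ b))) :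
    (S b).comp (E τ V S T (τ b)) = (E τ V S T b).comp (S b) := by
  rw [E_comp_S h, E, ← LinearMap.comp_assoc, hcomm, LinearMap.comp_assoc, S_comp_Sinv h',
    LinearMap.comp_id]

end Defs

section Conj

variable {k : Type u} [Field k] {V₁ V₀ : Type w} [AddCommGroup V₁] [AddCommGroup V₀] [Module k V₁]
  [Module k V₀]

lemma comp_pow_conj (f : V₁ →ₗ[k] V₀) (A : V₁ →ₗ[k] V₁) (A' : V₀ →ₗ[k] V₀)
    (h : f.comp A = A'.comp f) (i : ℕ) : f.comp (A ^ i) = (A' ^ i).comp f := by
  induction i with
  | zero => simp [Module.End.one_eq_id]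
  | succ i ih =>
    rw [pow_succ, pow_succ, Module.End.mul_eq_comp, Module.End.mul_eq_comp, ← LinearMap.comp_assoc, ih,
      LinearMap.comp_assoc, h, LinearMap.comp_assoc]

lemma comp_aeval_conj (f : V₁ →ₗ[k] V₀) (A : V₁ →ₗ[k] V₁) (A' : V₀ →ₗ[k] V₀)
    (h : f.comp A = A'.comp f) (q : k[X]) : f.comp (aeval A q) = (aeval A' q).comp f := by
  rw [aeval_eq_sum_range, aeval_eq_sum_range]
  ext x
  simp only [LinearMap.comp_apply, LinearMap.sum_apply, map_sum, LinearMap.smul_apply, map_smul]
  refine Finset.sum_congr rfl (fun i _ => ?_)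
  have := LinearMap.congr_fun (comp_pow_conj f A A' h i) x
  simp only [LinearMap.comp_apply] at this
  rw [this]

end Conj

section Main

variable {k : Type u} [Field k] {B : Type v} {τ : B → B} {V : B → Type w}
  [∀ b, AddCommGroup (V b)] [∀ b, Module k (V b)]
  {S T : ∀ b, V (τ b) →ₗ[k] V b}

/-- all `S` along the orbit of `b` are bijective -/
def Good (τ : B → B) (V : B → Type w) [∀ b, AddCommGroup (V b)] [∀ b, Module k (V b)]
    (S : ∀ b, V (τ b) →ₗ[k] V b) (b : B) : Prop :=
  ∀ i, Function.Bijective (S (it τ i b))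

variable (hcomm : ∀ b', (S b').comp (T (τ b')) = (T b').comp (S (τ b')))

include hcomm

lemma spow_conj {b : B} (hg : Good τ V S b) (d : ℕ) :
    (spow τ V S d b).comp (E τ V S T (it τ d b)) = (E τ V S T b).comp (spow τ V S d b) := by
  induction d with
  | zero => rfl
  | succ d ih =>
    change ((spow τ V S d b).comp (S (it τ d b))).comp (E τ V S T (τ (it τ d b))) =
      (E τ V S T b).comp ((spow τ V S d b).comp (S (it τ d b)))
    rw [LinearMap.comp_assoc, S_comp_E hcomm (hg d) (hg (d + 1)), ← LinearMap.comp_assoc, ih,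
      LinearMap.comp_assoc]

lemma tpow_eq {b : B} (hg : Good τ V S b) (d : ℕ) :
    tpow τ V T d b = ((E τ V S T b) ^ d).comp (spow τ V S d b) := by
  induction d with
  | zero => exact (LinearMap.id_comp _).symm
  | succ d ih =>
    change (tpow τ V T d b).comp (T (it τ d b)) =
      ((E τ V S T b) ^ (d + 1)).comp ((spow τ V S d b).comp (S (it τ d b)))
    rw [ih, ← E_comp_S (T := T) (hg d), LinearMap.comp_assoc,
      ← LinearMap.comp_assoc (S (it τ d b)) (E τ V S T (it τ d b)) (spow τ V S d b),
      spow_conj hcomm hg d, pow_succ, Module.End.mul_eq_comp]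
    simp only [LinearMap.comp_assoc]

lemma pmap_eq {b : B} (hg : Good τ V S b) (c : ℕ → k) (d : ℕ) :
    pmap τ V S T c d b =
      (∑ i ∈ Finset.range (d + 1), c i • (E τ V S T b) ^ i).comp (spow τ V S d b) := by
  induction d with
  | zero =>
    change c 0 • LinearMap.id = (∑ i ∈ Finset.range 1, c i • (E τ V S T b) ^ i).comp LinearMap.id
    rw [Finset.sum_range_one, pow_zero, LinearMap.comp_id]
    rfl
  | succ d ih =>
    change (pmap τ V S T c d b).comp (S (it τ d b)) + c (d + 1) • tpow τ V T (d + 1) b =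
      (∑ i ∈ Finset.range (d + 1 + 1), c i • (E τ V S T b) ^ i).comp
        ((spow τ V S d b).comp (S (it τ d b)))
    rw [ih, tpow_eq hcomm hg (d + 1), Finset.sum_range_succ _ (d + 1), LinearMap.add_comp,
      LinearMap.smul_comp, LinearMap.comp_assoc]
    rfl

end Main

section Stable

lemma exists_stable (a : ℕ → ℕ) (n₁ : ℕ) (h : ∀ n, n₁ ≤ n → a (n + 1) ≤ a n) :
    ∃ n₂, n₁ ≤ n₂ ∧ ∀ n, n₂ ≤ n → a (n + 1) = a n := by
  induction hm : a n₁ using Nat.strong_induction_on generalizing n₁ with
  | _ m ih =>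
    by_cases hc : ∀ n, n₁ ≤ n → a (n + 1) = a n
    · exact ⟨n₁, le_rfl, hc⟩
    · push Not at hc
      obtain ⟨n, hn, hne⟩ := hc
      have hanti : ∀ j, a (n₁ + j) ≤ a n₁ := by
        intro j
        induction j with
        | zero => exact le_rfl
        | succ j ihj => exact (h (n₁ + j) (Nat.le_add_right _ _)).trans ihj
      have hle : a n ≤ a n₁ := by
        obtain ⟨j, rfl⟩ := Nat.exists_eq_add_of_le hn
        exact hanti j
      have hlt : a (n + 1) < m := by
        have := h n hn
        omega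
      obtain ⟨n₂, hn₂, hst⟩ := ih (a (n + 1)) hlt (n + 1)
        (fun j hj => h j (by omega)) rfl
      exact ⟨n₂, by omega, hst⟩

end Stable

section Thm

variable {k : Type u} [Field k] {B : Type v} (τ : B → B) (V : B → Type w)
  [∀ b, AddCommGroup (V b)] [∀ b, Module k (V b)]
  (S T : ∀ b, V (τ b) →ₗ[k] V b)

/-- **Main lemma.** -/
theorem main (b : B)
    (hcomm : ∀ b', (S b').comp (T (τ b')) = (T b').comp (S (τ b')))
    (hfin : ∀ n, Module.Finite k (V (it τ n b)))
    (hinj : ∀ (c : ℕ → k) (d : ℕ), (∃ i, i ≤ d ∧ c i ≠ 0) →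
      ∃ n₁, ∀ n, n₁ ≤ n → Function.Injective (pmap τ V S T c d (it τ n b))) :
    ∃ n₀, ∀ n, n₀ ≤ n → Subsingleton (V (it τ n b)) := by
  classical
  -- step 1 : `S` is eventually injective
  obtain ⟨n₁, hn₁⟩ := hinj (fun i => if i = 0 then 1 else 0) 1 ⟨0, by omega, by simp⟩
  have hSinj : ∀ n, n₁ ≤ n → Function.Injective (S (it τ n b)) := by
    intro n hn
    have h1 := hn₁ n hn
    have e : pmap τ V S T (fun i => if i = 0 then (1 : k) else 0) 1 (it τ n b) = S (it τ n b) := by
      rw [pmap_one]
      simp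
    rw [e] at h1
    exact h1
  -- step 2 : the dimensions stabilize
  obtain ⟨n₂, hn₁₂, hst⟩ := exists_stable (fun n => Module.finrank k (V (it τ n b))) n₁
    (fun n hn => by
      haveI := hfin n
      haveI := hfin (n + 1)
      exact LinearMap.finrank_le_finrank_of_injective (hSinj n hn))
  have hSbij : ∀ n, n₂ ≤ n → Function.Bijective (S (it τ n b)) := by
    intro n hn
    haveI := hfin n
    haveI := hfin (n + 1)
    have hi := hSinj n (hn₁₂.trans hn)
    exact ⟨hi, (LinearMap.injective_iff_surjective_of_finrank_eq_finrank (hst n hn)).1 hi⟩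
  have hgood : ∀ n, n₂ ≤ n → Good τ V S (it τ n b) := by
    intro n hn i
    rw [it_add]
    exact hSbij (n + i) (by omega)
  -- step 3 : the characteristic polynomial
  haveI := hfin n₂
  let χ : k[X] := (E τ V S T (it τ n₂ b)).charpoly
  have hχ : ∀ j, aeval (E τ V S T (it τ (n₂ + j) b)) χ = 0 := by
    intro j
    induction j with
    | zero => exact LinearMap.aeval_self_charpoly _
    | succ j ih =>
      have hb := hSbij (n₂ + j) (by omega)
      have hb' := hSbij (n₂ + j + 1) (by omega)
      have h1 := comp_aeval_conj (S (it τ (n₂ + j) b)) (E τ V S T (τ (it τ (n₂ + j) b)))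
        (E τ V S T (it τ (n₂ + j) b)) (S_comp_E hcomm hb hb') χ
      rw [ih, LinearMap.zero_comp] at h1
      ext x
      apply hb.1
      have := LinearMap.congr_fun h1 x
      rw [LinearMap.comp_apply, LinearMap.zero_apply] at this
      rw [LinearMap.zero_apply, map_zero]
      exact this
  -- step 4 : the polynomial map vanishes
  let c : ℕ → k := fun i => χ.coeff i
  let d : ℕ := χ.natDegree
  have hmonic : χ.Monic := LinearMap.charpoly_monic _
  have hcd : c d ≠ 0 := by
    change χ.coeff χ.natDegree ≠ 0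
    rw [Polynomial.coeff_natDegree, hmonic.leadingCoeff]
    exact one_ne_zero
  have hzero : ∀ j, pmap τ V S T c d (it τ (n₂ + j) b) = 0 := by
    intro j
    rw [pmap_eq hcomm (hgood (n₂ + j) (by omega)) c d]
    have h2 : (∑ i ∈ Finset.range (d + 1), c i • (E τ V S T (it τ (n₂ + j) b)) ^ i) =
        aeval (E τ V S T (it τ (n₂ + j) b)) χ := by
      rw [aeval_eq_sum_range]
    rw [h2, hχ j, LinearMap.zero_comp]
  obtain ⟨n₃, hn₃⟩ := hinj c d ⟨d, le_rfl, hcd⟩
  refine ⟨n₂ + n₃ + d, fun n hn => ?_⟩
  obtain ⟨j, rfl⟩ : ∃ j, n = n₂ + (n₃ + j) + d := ⟨n - (n₂ + n₃ + d), by omega⟩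
  have hi := hn₃ (n₂ + (n₃ + j)) (by omega)
  rw [hzero (n₃ + j)] at hi
  have hsub : Subsingleton (V (it τ d (it τ (n₂ + (n₃ + j)) b))) :=
    ⟨fun x y => hi (by simp)⟩
  rw [it_add] at hsub
  exact hsub

end Thm

end Groth.Agent.Lib.R2H3.NegTwistLin
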