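import Groth.Agent.Lib.R2H3NegTwist
import Groth.Agent.Lib.R2H3NegTwistLin
import Groth.Agent.Lib.R2H2PnBeilinson
import Groth.Agent.Lib.Helper13ModBasis

/-!
# Contraction maps `G ⊗ N ⟶ G` for an invertible module `N` and their calculus (helper3, round 2)

For `χ : N ⟶ O_X` the natural map `eta N χ G : G ⊗ N ⟶ G`, its values on pure tensors, naturality,
`eta N χ (G ⊗ N) = (eta N χ G) ⊗ N` for invertible `N`, iterated twists `it (- ⊗ N) d G`, the polynomial
maps `Pm` and their compatibility with twisting.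
-/

set_option autoImplicit false
set_option linter.style.haveILetI false
set_option linter.unusedSectionVars false
universe u

open CategoryTheory CategoryTheory.Limits AlgebraicGeometry TopologicalSpace Opposite MonoidalCategory TensorProduct

namespace Groth.Agent.Lib.R2H3.NegTwistCalc

open Groth.Agent.Lib.Helper23.SecTw Groth.Agent.Lib.Helper23.GenLocus Groth.Agent.Lib.Helper6
  Groth.Agent.Lib.Helper23.AmpleIso Groth.Agent.Lib.Helper23.Extend
  Groth.Agent.Lib.R2H3.NegTwist Groth.Agent.Lib.R2H2.PnSerre Groth.Agent.Lib.R2H2.PnBeilinson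
  Groth.Agent.Lib.R2H3.NegTwistLin

variable {X : Scheme.{u}}

section Basic

/-- `f ⊗ N` on pure tensors -/
theorem twR_map_tm (N : X.Modules) {G G' : X.Modules} (f : G ⟶ G') (U : X.Opens)
    (g : Γ(G, U)) (m : Γ(N, U)) :
    ((twR N).map f).app U (tm G N U g m) = tm G' N U (f.app U g) m := by
  have h1 := (PresheafOfModules.sheafificationAdjunction (𝟙 X.ringCatSheaf.obj)).unit.naturality
    ((show CohB1.toPMod G ⟶ CohB1.toPMod G' from f.val) ▷ CohB1.toPMod N)
  have h2 := congrArg (fun φ => (φ.app (op U)).hom (g ⊗ₜ m)) h1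
  exact h2.symm

/-- the contraction `G ⊗ N ⟶ G` attached to `χ : N ⟶ O_X` -/
noncomputable def eta (N : X.Modules) (χ : N ⟶ Coh.structureModule X) (G : X.Modules) :
    (twR N).obj G ⟶ G :=
  tmapR G χ ≫ (SecTwist.unitorR G).hom

theorem eta_tm (N : X.Modules) (χ : N ⟶ Coh.structureModule X) (G : X.Modules) (U : X.Opens)
    (g : Γ(G, U)) (m : Γ(N, U)) :
    (eta N χ G).app U (tm G N U g m) = ofS U (χ.app U m) • g := by
  have h : (eta N χ G).app U (tm G N U g m) =
      (SecTwist.unitorR G).hom.app U ((tmapR G χ).app U (tm G N U g m)) := rfl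
  rw [h, tmapR_tm]
  exact SecTwist.unitorR_tmul G U g (ofS U (χ.app U m))

end Basic

section Frames

/-- morphisms out of `G ⊗ N` (`N` invertible) are determined by their values on the pure tensors
`g ⊗ e` with `e` a local generator of `N` -/
theorem hom_ext_frames (N : X.Modules) (hN : PicF.IsInvertible N) {G H : X.Modules}
    (φ φ' : CohB1.tensorMod G N ⟶ H)
    (h : ∀ (W : X.Opens) (e : Γ(N, W)), IsGen N W e → ∀ g : Γ(G, W),
      φ.app W (tm G N W g e) = φ'.app W (tm G N W g e)) : φ = φ' := by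
  let ι := {p : Σ W : X.Opens, Γ(N, W) // IsGen N p.1 p.2}
  let B : ι → X.Opens := fun p => p.1.1
  have hB : Opens.IsBasis (Set.range B) := by
    rw [Opens.isBasis_iff_nbhd]
    intro U x hxU
    obtain ⟨W, e, hxW, he⟩ := exists_gen N hN x
    exact ⟨W ⊓ U, ⟨⟨⟨W ⊓ U, res N inf_le_left e⟩, he.mono inf_le_left⟩, rfl⟩, ⟨hxW, hxU⟩,
      inf_le_right⟩
  apply Groth.Agent.Helper13ModBasis.hom_ext_basis B hB
  rintro ⟨⟨W, e⟩, he⟩
  refine ConcreteCategory.hom_ext _ _ (fun x => ?_)
  obtain ⟨g, hg⟩ := (bijective_tm_of_isGen G N W e he W le_rfl).2 x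
  have hg' : tm G N W g e = x := by
    rw [← hg]
    change _ = tm G N W g (res N (le_refl W) e)
    rw [res_self]
  rw [← hg']
  exact h W e he g

theorem eta_natural (N : X.Modules) (hN : PicF.IsInvertible N) (χ : N ⟶ Coh.structureModule X)
    {G G' : X.Modules} (f : G ⟶ G') : (twR N).map f ≫ eta N χ G' = eta N χ G ≫ f := by
  refine hom_ext_frames N hN (G := G) (H := G') _ _ ?_
  intro W e _ g
  change (eta N χ G').app W (((twR N).map f).app W (tm G N W g e)) =
    f.app W ((eta N χ G).app W (tm G N W g e))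
  rw [twR_map_tm, eta_tm, eta_tm, Scheme.Modules.Hom.app_smul]

theorem eta_twR (N : X.Modules) (hN : PicF.IsInvertible N) (χ : N ⟶ Coh.structureModule X)
    (G : X.Modules) : eta N χ ((twR N).obj G) = (twR N).map (eta N χ G) := by
  refine hom_ext_frames N hN (G := (twR N).obj G) (H := (twR N).obj G) _ _ ?_
  intro W e he x
  obtain ⟨g, hg⟩ := (bijective_tm_of_isGen G N W e he W le_rfl).2 x
  have hg' : tm G N W g e = x := by
    rw [← hg]
    change _ = tm G N W g (res N (le_refl W) e)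
    rw [res_self]
  rw [← hg']
  refine (eta_tm N χ (CohB1.tensorMod G N) W (tm G N W g e) e).trans ?_
  refine Eq.symm ((twR_map_tm N (eta N χ G) W (tm G N W g e) e).trans ?_)
  rw [eta_tm, tm_smul_left]

theorem eta_comm (N : X.Modules) (hN : PicF.IsInvertible N) (χ χ' : N ⟶ Coh.structureModule X)
    (G : X.Modules) :
    eta N χ ((twR N).obj G) ≫ eta N χ' G = eta N χ' ((twR N).obj G) ≫ eta N χ G := by
  rw [eta_twR N hN χ G, eta_natural N hN χ' (eta N χ G)]

end Frames

section Iterate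

/-- the iterated twist `G ⊗ N ⊗ ⋯ ⊗ N` -/
noncomputable abbrev itw (N : X.Modules) (n : ℕ) (G : X.Modules) : X.Modules := it (twR N).obj n G

/-- the iterated twist of a morphism -/
noncomputable def itMap (N : X.Modules) (n : ℕ) {A B : X.Modules} (f : A ⟶ B) :
    itw N n A ⟶ itw N n B :=
  Nat.rec (motive := fun n => itw N n A ⟶ itw N n B) f (fun _ g => (twR N).map g) n

lemma itMap_zero (N : X.Modules) {A B : X.Modules} (f : A ⟶ B) : itMap N 0 f = f := rfl

lemma itMap_succ (N : X.Modules) (n : ℕ) {A B : X.Modules} (f : A ⟶ B) :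
    itMap N (n + 1) f = (twR N).map (itMap N n f) := rfl

theorem shortExact_itMap (N : X.Modules) (hN : PicF.IsInvertible N)
    (S : ShortComplex X.Modules) (hS : S.ShortExact) (n : ℕ) :
    ∃ w : itMap N n S.f ≫ itMap N n S.g = 0,
      (ShortComplex.mk (itMap N n S.f) (itMap N n S.g) w).ShortExact := by
  induction n with
  | zero => exact ⟨S.zero, hS⟩
  | succ n ih =>
    obtain ⟨w, h⟩ := ih
    have w' : (twR N).map (itMap N n S.f) ≫ (twR N).map (itMap N n S.g) = 0 := by
      rw [← CategoryTheory.Functor.map_comp, w, CategoryTheory.Functor.map_zero]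
    have h2 := shortExact_map_twR N hN _ h
    refine ⟨w', ?_⟩
    exact h2

/-- `it d (G ⊗ N) ≅ (it d G) ⊗ N` -/
noncomputable def iotaIso (N : X.Modules) : (d : ℕ) → (G : X.Modules) →
    (itw N d ((twR N).obj G) ≅ (twR N).obj (itw N d G))
  | 0, _ => Iso.refl _
  | d + 1, G => (twR N).mapIso (iotaIso N d G)

/-- `it d (it n G) ≅ it n (it d G)` -/
noncomputable def kappaIso (N : X.Modules) (d : ℕ) : (n : ℕ) → (G : X.Modules) →
    (itw N d (itw N n G) ≅ itw N n (itw N d G))
  | 0, _ => Iso.refl _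
  | n + 1, G => iotaIso N d (itw N n G) ≪≫ (twR N).mapIso (kappaIso N d n G)

theorem nonempty_itw_iso (N : X.Modules) : ∀ (n : ℕ) (G : X.Modules),
    Nonempty (itw N n G ≅ CohB1.tensorMod G (CohB1.tensorPow N n))
  | 0, G => ⟨(SecTwist.unitorR G).symm⟩
  | n + 1, G => by
    obtain ⟨e⟩ := nonempty_itw_iso N n G
    exact ⟨(twR N).mapIso e ≪≫ Groth.Agent.Lib.Helper23.LocGen.tensorAssoc _ _ _⟩

theorem isCoh_itw (N : X.Modules) (hN : PicF.IsInvertible N) : ∀ (n : ℕ) (G : X.Modules),
    Coh.IsCoh G → Coh.IsCoh (itw N n G)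
  | 0, _, hG => hG
  | n + 1, G, hG =>
    Groth.Agent.Lib.R2H3.AmpleSV.isCoh_tensorMod_invertible _ _ (isCoh_itw N hN n G hG) hN

/-- the iterated contraction `it d G ⟶ G` -/
noncomputable def epow (N : X.Modules) (χ : N ⟶ Coh.structureModule X) : (d : ℕ) → (G : X.Modules) →
    (itw N d G ⟶ G)
  | 0, G => 𝟙 G
  | d + 1, G => eta N χ (itw N d G) ≫ epow N χ d G

theorem epow_twR (N : X.Modules) (hN : PicF.IsInvertible N) (χ : N ⟶ Coh.structureModule X) :
    ∀ (d : ℕ) (G : X.Modules), epow N χ d ((twR N).obj G) =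
      (iotaIso N d G).hom ≫ (twR N).map (epow N χ d G)
  | 0, G => by
    change 𝟙 _ = 𝟙 _ ≫ (twR N).map (𝟙 G)
    rw [CategoryTheory.Functor.map_id, Category.comp_id]
  | d + 1, G => by
    change eta N χ (itw N d ((twR N).obj G)) ≫ epow N χ d ((twR N).obj G) =
      (twR N).map (iotaIso N d G).hom ≫ (twR N).map (eta N χ (itw N d G) ≫ epow N χ d G)
    rw [epow_twR N hN χ d G, CategoryTheory.Functor.map_comp, ← eta_twR N hN χ (itw N d G), ← Category.assoc,
      ← Category.assoc, eta_natural N hN χ (iotaIso N d G).hom]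

end Iterate

section Poly

variable (k : Type u) [Field k] [X.Over (Spec (CommRingCat.of k))]

/-- the homogeneous polynomial map `Σ_{i ≤ d} c i • (eta χw)^i (eta χσ)^(d-i) : it d G ⟶ G` -/
noncomputable def Pm (N : X.Modules) (χσ χw : N ⟶ Coh.structureModule X) (c : ℕ → k) :
    (d : ℕ) → (G : X.Modules) → (itw N d G ⟶ G)
  | 0, G => c 0 • 𝟙 G
  | d + 1, G => eta N χσ (itw N d G) ≫ Pm N χσ χw c d G + c (d + 1) • epow N χw (d + 1) G

theorem Pm_twR (N : X.Modules) (hN : PicF.IsInvertible N) (χσ χw : N ⟶ Coh.structureModule X)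
    (c : ℕ → k) : ∀ (d : ℕ) (G : X.Modules), Pm k N χσ χw c d ((twR N).obj G) =
      (iotaIso N d G).hom ≫ (twR N).map (Pm k N χσ χw c d G)
  | 0, G => by
    change c 0 • 𝟙 _ = 𝟙 _ ≫ (twR N).map (c 0 • 𝟙 G)
    rw [twR_map_smul, CategoryTheory.Functor.map_id, Category.id_comp]
  | d + 1, G => by
    change eta N χσ (itw N d ((twR N).obj G)) ≫ Pm k N χσ χw c d ((twR N).obj G) +
        c (d + 1) • epow N χw (d + 1) ((twR N).obj G) =
      (twR N).map (iotaIso N d G).hom ≫ (twR N).map (eta N χσ (itw N d G) ≫ Pm k N χσ χw c d G +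
        c (d + 1) • epow N χw (d + 1) G)
    have h1 : (twR N).map (eta N χσ (itw N d G) ≫ Pm k N χσ χw c d G +
        c (d + 1) • epow N χw (d + 1) G) =
        (twR N).map (eta N χσ (itw N d G)) ≫ (twR N).map (Pm k N χσ χw c d G) +
          c (d + 1) • (twR N).map (epow N χw (d + 1) G) := by
      haveI : (twR N).Additive := by unfold twR; infer_instance
      rw [CategoryTheory.Functor.map_add, CategoryTheory.Functor.map_comp, twR_map_smul]
    rw [h1, Preadditive.comp_add, Linear.comp_smul, Pm_twR N hN χσ χw c d G,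
      epow_twR N hN χw (d + 1) G, ← eta_twR N hN χσ (itw N d G), ← Category.assoc,
      ← Category.assoc, eta_natural N hN χσ (iotaIso N d G).hom]
    rfl

theorem Pm_itw (N : X.Modules) (hN : PicF.IsInvertible N) (χσ χw : N ⟶ Coh.structureModule X)
    (c : ℕ → k) (d : ℕ) : ∀ (n : ℕ) (G : X.Modules), Pm k N χσ χw c d (itw N n G) =
      (kappaIso N d n G).hom ≫ itMap N n (Pm k N χσ χw c d G)
  | 0, G => by
    change _ = 𝟙 _ ≫ Pm k N χσ χw c d G
    rw [Category.id_comp]
    rfl
  | n + 1, G => by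
    change Pm k N χσ χw c d ((twR N).obj (itw N n G)) =
      ((iotaIso N d (itw N n G)).hom ≫ (twR N).map (kappaIso N d n G).hom) ≫
        (twR N).map (itMap N n (Pm k N χσ χw c d G))
    rw [Pm_twR k N hN χσ χw c d (itw N n G), Pm_itw N hN χσ χw c d n G,
      CategoryTheory.Functor.map_comp, Category.assoc]

end Poly

section Coh

open Groth.Agent.Lib.R2H2.HHLin

variable (k : Type u) [Field k] [X.Over (Spec (CommRingCat.of k))]

lemma HmapA_comp {A B C : X.Modules} (φ : A ⟶ B) (ψ : B ⟶ C) (i : ℕ) :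
    HmapA k (φ ≫ ψ) i = (HmapA k ψ i).comp (HmapA k φ i) := by
  ext x
  exact HmapL_comp φ ψ i x

lemma HmapA_id (A : X.Modules) (i : ℕ) : HmapA k (𝟙 A) i = LinearMap.id := by
  ext x
  exact HmapL_id A i x

lemma HmapA_add {A B : X.Modules} (φ ψ : A ⟶ B) (i : ℕ) :
    HmapA k (φ + ψ) i = HmapA k φ i + HmapA k ψ i := by
  ext x
  exact HmapL_add φ ψ i x

lemma HmapA_smul {A B : X.Modules} (a : k) (φ : A ⟶ B) (i : ℕ) :
    HmapA k (a • φ) i = a • HmapA k φ i := by
  ext x
  change HmapL (a • φ) i x = a • HmapL φ i x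
  rw [KLin.smul_def, HmapL_comp, Groth.Agent.Lib.R2H2.DualExtGen.HmapL_smulMod,
    ← HmapA_apply k φ i (a • x), map_smul]
  rfl

lemma HmapA_bijective_of_iso {A B : X.Modules} (e : A ≅ B) (i : ℕ) :
    Function.Bijective (HmapA k e.hom i) := by
  refine Function.bijective_iff_has_inverse.2 ⟨HmapA k e.inv i, fun x => ?_, fun x => ?_⟩
  · have := LinearMap.congr_fun (HmapA_comp k e.hom e.inv i) x
    rw [e.hom_inv_id, HmapA_id] at this
    exact this.symm
  · have := LinearMap.congr_fun (HmapA_comp k e.inv e.hom i) x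
    rw [e.inv_hom_id, HmapA_id] at this
    exact this.symm

theorem HmapA_epow (N : X.Modules) (χ : N ⟶ Coh.structureModule X) (i : ℕ) :
    ∀ (d : ℕ) (G : X.Modules), HmapA k (epow N χ d G) i =
      tpow (twR N).obj (fun b => Coh.HH X b i) (fun b => HmapA k (eta N χ b) i) d G
  | 0, G => HmapA_id k G i
  | d + 1, G => by
    change HmapA k (eta N χ (itw N d G) ≫ epow N χ d G) i =
      (tpow (twR N).obj (fun b => Coh.HH X b i) (fun b => HmapA k (eta N χ b) i) d G).comp
        (HmapA k (eta N χ (itw N d G)) i)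
    rw [HmapA_comp, HmapA_epow N χ i d G]

theorem HmapA_Pm (N : X.Modules) (χσ χw : N ⟶ Coh.structureModule X) (c : ℕ → k) (i : ℕ) :
    ∀ (d : ℕ) (G : X.Modules), HmapA k (Pm k N χσ χw c d G) i =
      pmap (twR N).obj (fun b => Coh.HH X b i) (fun b => HmapA k (eta N χσ b) i)
        (fun b => HmapA k (eta N χw b) i) c d G
  | 0, G => by
    change HmapA k (c 0 • 𝟙 G) i = c 0 • LinearMap.id
    rw [HmapA_smul, HmapA_id]
  | d + 1, G => by
    change HmapA k (eta N χσ (itw N d G) ≫ Pm k N χσ χw c d G +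
        c (d + 1) • epow N χw (d + 1) G) i =
      (pmap (twR N).obj (fun b => Coh.HH X b i) (fun b => HmapA k (eta N χσ b) i)
        (fun b => HmapA k (eta N χw b) i) c d G).comp (HmapA k (eta N χσ (itw N d G)) i) +
        c (d + 1) • tpow (twR N).obj (fun b => Coh.HH X b i)
          (fun b => HmapA k (eta N χw b) i) (d + 1) G
    rw [HmapA_add, HmapA_comp, HmapA_smul, HmapA_Pm N χσ χw c i d G, HmapA_epow]

end Coh

end Groth.Agent.Lib.R2H3.NegTwistCalc
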