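import Groth.Agent.Lib.R2H3NegTwistH1
import Groth.Agent.Lib.Helper23PB
import Groth.Agent.Lib.Helper23Serre
import Groth.Agent.Lib.Helper2Div
import Groth.Agent.S15744

/-!
# Data for the `H¹` vanishing of negative twists (helper3, round 2)

Namespace `Groth.Agent.Lib.R2H3.NegTwistData`.

* `not_isMaximal_primeIdealOf`: a non-closed point of a scheme locally of finite type over a field
  has a non-maximal prime in every affine open containing it;
* `exists_a`: a function on an affine open whose nonzero polynomial expressions are invertible at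
  finitely many given non-closed points;
* `chi_props`: contractions built from sections;
* `exists_data`: existence of all the data needed by `NegTwistH1.core`;
* `main`: `H¹(X, F ⊗ M^{⊗ m}) = 0` for `m ≫ 0`.
-/

set_option autoImplicit false
set_option linter.style.haveILetI false
set_option linter.unusedSectionVars false
universe u

open CategoryTheory CategoryTheory.Limits AlgebraicGeometry TopologicalSpace Opposite MonoidalCategory TensorProduct

namespace Groth.Agent.Lib.R2H3.NegTwistData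

open Groth.Agent.Lib.Helper23.SecTw Groth.Agent.Lib.Helper23.GenLocus Groth.Agent.Lib.Helper6
  Groth.Agent.Lib.Helper23.AmpleIso Groth.Agent.Lib.Helper23.Extend
  Groth.Agent.Lib.R2H3.NegTwist Groth.Agent.Lib.R2H2.PnSerre Groth.Agent.Lib.R2H2.PnBeilinson
  Groth.Agent.Lib.R2H3.NegTwistLin Groth.Agent.Lib.R2H3.NegTwistCalc Groth.Agent.Lib.R2H3.NegTwistH1

variable {X : Scheme.{u}}

section Points

variable (k : Type u) [Field k] [X.Over (Spec (CommRingCat.of k))]

theorem not_isMaximal_primeIdealOf [LocallyOfFiniteType (X ↘ Spec (CommRingCat.of k))]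
    {U : X.Opens} (hU : IsAffineOpen U) (x : X) (hx : x ∈ U)
    (hncl : ¬ IsClosed ({x} : Set X)) : ¬ (hU.primeIdealOf ⟨x, hx⟩).asIdeal.IsMaximal := by
  haveI : JacobsonSpace X := LocallyOfFiniteType.jacobsonSpace (X ↘ Spec (CommRingCat.of k))
  intro hmax
  apply hncl
  have h1 : IsClosed ({hU.primeIdealOf ⟨x, hx⟩} : Set (PrimeSpectrum Γ(X, U))) :=
    (PrimeSpectrum.isClosed_singleton_iff_isMaximal _).2 hmax
  have h2 := hU.fromSpec.isOpenEmbedding.preimage_closedPoints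
  have h3 : hU.primeIdealOf ⟨x, hx⟩ ∈ hU.fromSpec ⁻¹' closedPoints X := by
    rw [h2]
    exact h1
  have h4 : hU.fromSpec (hU.primeIdealOf ⟨x, hx⟩) = x := hU.fromSpec_primeIdealOf ⟨x, hx⟩
  have h5 : hU.fromSpec (hU.primeIdealOf ⟨x, hx⟩) ∈ closedPoints X := h3
  rw [h4] at h5
  exact h5

theorem exists_a [LocallyOfFiniteType (X ↘ Spec (CommRingCat.of k))]
    {U : X.Opens} (hU : IsAffineOpen U) (A : Set X) (hA : A.Finite) (hAU : A ⊆ U)
    (hncl : ∀ x ∈ A, ¬ IsClosed ({x} : Set X)) :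
    ∃ a : Γ(X, U), ∀ (c : ℕ → k) (d : ℕ), (∃ i ≤ d, c i ≠ 0) → ∀ x ∈ A,
      x ∈ X.basicOpen (∑ i ∈ Finset.range (d + 1), kMap k U (c i) * a ^ i) := by
  classical
  letI : Algebra k Γ(X, U) := (kMap k U).toAlgebra
  let f : X → Ideal Γ(X, U) := fun x =>
    if hx : x ∈ U then (hU.primeIdealOf ⟨x, hx⟩).asIdeal else ⊥
  have hf : ∀ x (hx : x ∈ U), f x = (hU.primeIdealOf ⟨x, hx⟩).asIdeal := fun x hx => dif_pos hx
  obtain ⟨a, ha⟩ := Groth.Agent.Lib.R2H3.NegTwistTr.exists_forall_transcendental (k := k)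
    (hA.toFinset.image f) (by
      intro p hp
      obtain ⟨x, hxA, rfl⟩ := Finset.mem_image.1 hp
      have hxA' : x ∈ A := hA.mem_toFinset.1 hxA
      rw [hf x (hAU hxA')]
      refine ⟨(hU.primeIdealOf ⟨x, hAU hxA'⟩).isPrime, ?_⟩
      haveI := (hU.primeIdealOf ⟨x, hAU hxA'⟩).isPrime
      exact Groth.Agent.Lib.R2H3.NegTwistTr.exists_transcendental_of_not_isMaximal _
        (not_isMaximal_primeIdealOf k hU x (hAU hxA') (hncl x hxA')))
  refine ⟨a, fun c d hc x hxA => ?_⟩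
  rw [Groth.Agent.Lib.Helper2.mem_basicOpen_iff_notMem_primeIdealOf hU x (hAU hxA), ← hf x (hAU hxA)]
  exact Groth.Agent.Lib.R2H3.NegTwistTr.sum_notMem_of_transcendental (f x) a
    (ha (f x) (Finset.mem_image.2 ⟨x, hA.mem_toFinset.2 hxA, rfl⟩)) c d hc

end Points

section Chi

theorem isUnit_of_isGen_structure (W : X.Opens) (u : Γ(Coh.structureModule X, W))
    (h : IsGen (Coh.structureModule X) W u) : IsUnit (ofS W u) := by
  obtain ⟨r, hr⟩ := (h W le_rfl).2 (toS W 1)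
  have hr' : r • u = toS W 1 := by
    have h2 : r • res (Coh.structureModule X) (le_refl W) u = toS W 1 := hr
    rwa [res_self] at h2
  have h3 : ofS W u * r = 1 := by
    rw [mul_comm]
    exact congrArg (ofS W) hr'
  exact IsUnit.of_mul_eq_one _ h3

theorem chi_props (N P : X.Modules) (ε : CohB1.tensorMod N P ≅ Coh.structureModule X)
    (σ w : Coh.structureModule X ⟶ P) (U : X.Opens) (a : Γ(X, U))
    (hUσ : U ≤ CohB1.genLocus P σ) (hwa : sv w U = a • sv σ U) :
    (∀ (W : X.Opens), W ≤ U → ∀ e : Γ(N, W), IsGen N W e →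
      IsUnit (ofS W ((mulSec N σ ≫ ε.hom).app W e))) ∧
    (∀ (W : X.Opens) (h : W ≤ U) (m : Γ(N, W)),
      ofS W ((mulSec N w ≫ ε.hom).app W m) =
        resf h a * ofS W ((mulSec N σ ≫ ε.hom).app W m)) := by
  have h1 : ∀ (s : Coh.structureModule X ⟶ P) (W : X.Opens) (m : Γ(N, W)),
      (mulSec N s ≫ ε.hom).app W m = ε.hom.app W (tm N P W m (sv s W)) := by
    intro s W m
    change ε.hom.app W ((mulSec N s).app W m) = _
    rw [mulSec_app]
  refine ⟨fun W hW e he => ?_, fun W h m => ?_⟩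
  · rw [h1]
    apply isUnit_of_isGen_structure
    apply Groth.Agent.Lib.Helper23.PB.isGen_of_iso ε
    refine isGen_tm N P W e (sv σ W) he ?_
    have h2 := (isGen_sv_genLocus P σ).mono (hW.trans hUσ)
    rwa [res_sv] at h2
  · have h2 : sv w W = resf h a • sv σ W := by
      rw [← res_sv w h, hwa, res_smul, res_sv]
    rw [h1, h1, h2, tm_smul_right, Scheme.Modules.Hom.app_smul]
    rfl

end Chi

section Data

variable (k : Type u) [Field k]

theorem exists_data (X : Scheme.{u}) [X.Over (Spec (CommRingCat.of k))]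
    [IsProper (X ↘ Spec (CommRingCat.of k))]
    (L : X.Modules) (hL : CohB1.IsAmple L) (M : X.Modules) (hM : ClSub.IsInverseOf L M)
    (A : Set X) (hA : A.Finite) (hncl : ∀ x ∈ A, ¬ IsClosed ({x} : Set X)) :
    ∃ (E : ℕ) (_ : 0 < E) (χσ χw : CohB1.tensorPow M E ⟶ Coh.structureModule X) (U : X.Opens)
      (a : Γ(X, U)),
      (∀ x ∈ A, x ∈ U) ∧
      (∀ (W : X.Opens), W ≤ U → ∀ e : Γ(CohB1.tensorPow M E, W),
        IsGen (CohB1.tensorPow M E) W e → IsUnit (ofS W (χσ.app W e))) ∧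
      (∀ (W : X.Opens) (h : W ≤ U) (m : Γ(CohB1.tensorPow M E, W)),
        ofS W (χw.app W m) = resf h a * ofS W (χσ.app W m)) ∧
      (∀ (c : ℕ → k) (d : ℕ), (∃ i ≤ d, c i ≠ 0) → ∀ x ∈ A,
        x ∈ X.basicOpen (∑ i ∈ Finset.range (d + 1), kMap k U (c i) * a ^ i)) := by
  have hLi := hL.1
  haveI : CompactSpace X := hL.2.1
  haveI := quasiSeparatedSpace_of_isAmple L hL
  have hMi := isInvertible_of_isInverseOf L M hM
  obtain ⟨n₀, σ₀, hAσ, -, haff⟩ := exists_affine_genLocus_of_finite L hL A hA ⊤ (fun _ _ => trivial)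
  have hL' : PicF.IsInvertible (CohB1.tensorPow L (n₀ + 1)) := isInvertible_tensorPow hLi (n₀ + 1)
  obtain ⟨a, ha⟩ := exists_a k haff A hA hAσ hncl
  haveI : Coh.IsQCoh (Coh.structureModule X) :=
    Groth.Agent.Lib.Helper23.Serre.isQuasicoherent_structureModule' X
  obtain ⟨n, hn, t', ht'⟩ := Groth.Agent.S15744.main X (CohB1.tensorPow L (n₀ + 1)) hL' σ₀
    (Coh.structureModule X) (toS _ a)
  let σ : Coh.structureModule X ⟶
      CohB1.tensorMod (Coh.structureModule X) (CohB1.tensorPow (CohB1.tensorPow L (n₀ + 1)) n) :=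
    SecTwist.tmulHom (𝟙 _) (SecTwist.powHom σ₀ n)
  let w : Coh.structureModule X ⟶
      CohB1.tensorMod (Coh.structureModule X) (CohB1.tensorPow (CohB1.tensorPow L (n₀ + 1)) n) :=
    secHom _ t'
  have hsvσ : ∀ W : X.Opens, sv σ W = tm (Coh.structureModule X) _ W (toS W 1)
      (pw (CohB1.tensorPow L (n₀ + 1)) W (sv σ₀ W) n) := by
    intro W
    rw [sv_tmulHom, sv_powHom]
    rfl
  have hUσ : CohB1.genLocus (CohB1.tensorPow L (n₀ + 1)) σ₀ ≤ CohB1.genLocus _ σ := by
    apply le_genLocus_of_isGen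
    rw [hsvσ]
    exact isGen_tm _ _ _ _ _ (isGen_one _)
      (isGen_pw _ _ _ (isGen_sv_genLocus (CohB1.tensorPow L (n₀ + 1)) σ₀) n)
  have hwa : sv w (CohB1.genLocus (CohB1.tensorPow L (n₀ + 1)) σ₀) =
      a • sv σ (CohB1.genLocus (CohB1.tensorPow L (n₀ + 1)) σ₀) := by
    rw [sv_secHom, ht', hsvσ, ← tm_smul_left, smul_toS, mul_one]
    rfl
  obtain ⟨e₀⟩ := hM
  obtain ⟨i2⟩ := nonempty_tensorPow_tensorPow_iso L hLi (n₀ + 1) n ((n₀ + 1) * n) rfl
  obtain ⟨b⟩ := nonempty_tensorPow_tensorMod_iso M L hMi hLi ((n₀ + 1) * n)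
  let c : CohB1.tensorPow (CohB1.tensorMod M L) ((n₀ + 1) * n) ≅ Coh.structureModule X :=
    tensorPowIso (braidMod M L ≪≫ e₀) ((n₀ + 1) * n) ≪≫
      Groth.Agent.Lib.Helper23.TensorUnit.tensorPowUnitIso ((n₀ + 1) * n)
  let ε : CohB1.tensorMod (CohB1.tensorPow M ((n₀ + 1) * n))
      (CohB1.tensorMod (Coh.structureModule X) (CohB1.tensorPow (CohB1.tensorPow L (n₀ + 1)) n)) ≅
      Coh.structureModule X :=
    tensorModIso (Iso.refl _) ((braidMod _ _ ≪≫ SecTwist.unitorR _) ≪≫ i2) ≪≫ b ≪≫ c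
  obtain ⟨h1, h2⟩ := chi_props (CohB1.tensorPow M ((n₀ + 1) * n)) _ ε σ w _ a hUσ hwa
  exact ⟨(n₀ + 1) * n, Nat.mul_pos (Nat.succ_pos n₀) hn, mulSec _ σ ≫ ε.hom, mulSec _ w ≫ ε.hom,
    CohB1.genLocus (CohB1.tensorPow L (n₀ + 1)) σ₀, a, fun x hx => hAσ hx, h1, h2, ha⟩

end Data

section Main

/-- **`H¹(X, F ⊗ M^{⊗ m}) = 0` for `m ≫ 0`** (`M` an inverse of an ample `L`, `X` proper over a field,
`F` coherent with `depth F_x ≥ 2` at all closed points). -/
theorem main (k : Type u) [Field k] (X : Scheme.{u}) [X.Over (Spec (CommRingCat.of k))]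
    [IsProper (X ↘ (Spec (CommRingCat.of k)))]
    (L : X.Modules) (hL : CohB1.IsAmple L) (M : X.Modules) (hM : ClSub.IsInverseOf L M)
    (F : X.Modules) (hF : Coh.IsCoh F)
    (hdepth : ∀ x : X, IsClosed ({x} : Set X) →
      2 ≤ LocCoh.depth (X.presheaf.stalk x) (F.presheaf.stalk x)) :
    ∃ m₀ : ℕ, ∀ m : ℕ, m₀ ≤ m →
      Subsingleton (Coh.HH X (CohB1.tensorMod F (CohB1.tensorPow M m)) 1) := by
  have hLi := hL.1
  haveI : CompactSpace X := hL.2.1
  haveI : IsLocallyNoetherian X :=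
    LocallyOfFiniteType.isLocallyNoetherian (X ↘ Spec (CommRingCat.of k))
  haveI : IsNoetherian X := {}
  have hMi := isInvertible_of_isInverseOf L M hM
  haveI : F.IsQuasicoherent := hF.1
  haveI : SheafOfModules.IsFiniteType (R := X.ringCatSheaf) F := hF.2
  have hnotcl : ∀ x, Curv2.IsAssPoint F x → ¬ IsClosed ({x} : Set X) := by
    intro x hx hcl
    haveI := Groth.Agent.Lib.Helper2.FibreCrit.finite_stalk F x
    have h2 := hdepth x hcl
    have h0 : LocCoh.depth (X.presheaf.stalk x) (F.presheaf.stalk x) = 0 :=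
      Groth.Agent.Lib.Helper28.depth_eq_zero_iff.2 hx
    rw [h0] at h2
    exact absurd h2 (by simp)
  obtain ⟨E, hE, χσ, χw, U, a, hAU, hσ, hw, hp⟩ := exists_data k X L hL M hM
    {x | Curv2.IsAssPoint F x} (finite_assPoints F hF) (fun x hx => hnotcl x hx)
  have hr : ∀ r : ℕ, ∃ n₀ : ℕ, ∀ n, n₀ ≤ n → Subsingleton (Coh.HH X
      (itw (CohB1.tensorPow M E) n (CohB1.tensorMod F (CohB1.tensorPow M r))) 1) := by
    intro r
    have hinv := isInvertible_tensorPow hMi r
    have hFr : Coh.IsCoh (CohB1.tensorMod F (CohB1.tensorPow M r)) :=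
      Groth.Agent.Lib.R2H3.AmpleSV.isCoh_tensorMod_invertible F _ hF hinv
    haveI : (CohB1.tensorMod F (CohB1.tensorPow M r)).IsQuasicoherent := hFr.1
    have hassr : ∀ x, Curv2.IsAssPoint (CohB1.tensorMod F (CohB1.tensorPow M r)) x ↔
        Curv2.IsAssPoint F x := fun x => isAssPoint_tensor_iff F _ hinv x
    refine core k X L hL M hM E hE χσ χw _ hFr ?_ U a hσ hw
      (fun c d hc x hx => hp c d hc x ((hassr x).1 hx))
    intro x hcl
    obtain ⟨e⟩ := nonempty_stalk_tensor_equiv F (CohB1.tensorPow M r) hinv x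
    have h1 : LocCoh.depth (X.presheaf.stalk x)
        ((CohB1.tensorMod F (CohB1.tensorPow M r)).presheaf.stalk x) =
        LocCoh.depth (X.presheaf.stalk x) (F.presheaf.stalk x) :=
      (Groth.Agent.Lib.Helper28.idealDepth_congr e _).symm
    rw [h1]
    exact hdepth x hcl
  choose n₀ hn₀ using hr
  refine ⟨E * (Finset.range E).sup n₀, fun m hm => ?_⟩
  have hn : (Finset.range E).sup n₀ ≤ m / E :=
    (Nat.le_div_iff_mul_le hE).2 (by rw [mul_comm]; exact hm)
  have hlt : m % E < E := Nat.mod_lt m hE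
  have h1 := hn₀ (m % E) (m / E) (le_trans (Finset.le_sup (Finset.mem_range.2 hlt)) hn)
  obtain ⟨e1⟩ := nonempty_itw_iso (CohB1.tensorPow M E) (m / E)
    (CohB1.tensorMod F (CohB1.tensorPow M (m % E)))
  obtain ⟨e2⟩ := nonempty_tensorPow_tensorPow_iso M hMi E (m / E) (E * (m / E)) rfl
  obtain ⟨e3⟩ := Groth.Agent.Lib.R2H3.AmpleSV.nonempty_tensor_tensorPow_add_iso F M (m % E)
    (E * (m / E)) m (Nat.mod_add_div m E)
  exact subsingleton_HH_of_iso (e1 ≪≫ tensorModIso (Iso.refl _) e2 ≪≫ e3) 1 h1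

end Main

end Groth.Agent.Lib.R2H3.NegTwistData
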