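import Groth.Agent.Lib.R2H3ExtDepthVan
import Groth.Agent.Lib.R2H3ExtAffSec
import Groth.Agent.Lib.Helper28RegLoc
import Groth.Agent.Lib.Helper28FGDim
import Groth.Agent.Lib.Helper28Unmixed
import Groth.Agent.Lib.Helper29GorHull
import Groth.Agent.S0342

/-!
# Torsion-freeness and rank of `Ext^c_A(B, A)` (helper3, round 2)

Namespace `Groth.Agent.Lib.R2H3.OmegaTors`.

Algebra behind "the dualizing sheaf `ℰxt^c(O_X, ω_P)` of a closed subscheme of pure codimension `c`
of a regular scheme is torsion free of rank one".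

* `ext_eq_zero_of_smul_eq_zero` : `a` is `F`-regular and the primes of `Supp(F/aF)` are regular of
  height `≥ c + 1`: `a` acts injectively on `Ext^c(F, N)` (`N` finite projective).
* `succ_le_height` : `A` regular local, `A ↠ B` with `dim A = dim B + c`, `p ⊇ ker` a prime
  containing an element mapping to a non-zero-divisor of `B`: `c + 1 ≤ ht p`.
* `torsion_eq_bot` : in this situation a `B`-module `W` with `W ≃ₗ[A] Ext^c_A(B, A)` is torsion free.
* `finrank_eq_one` : `A` regular local of dimension `c`, `A ↠ B` with `B` a field: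
  a `B`-module `W` with `W ≃ₗ[A] Ext^c_A(B, A)` has `B`-dimension one.
-/

set_option autoImplicit false
set_option linter.style.haveILetI false
universe u

open CategoryTheory Abelian

namespace Groth.Agent.Lib.R2H3.OmegaTors

open Groth.Agent.Lib.Helper28

section A

variable {A : Type u} [CommRing A] [IsNoetherianRing A]
  (F N : Type u) [AddCommGroup F] [Module A F] [Module.Finite A F]
  [AddCommGroup N] [Module A N] [Module.Finite A N] [Module.Projective A N]

theorem ext_eq_zero_of_smul_eq_zero (a : A) (ha : IsSMulRegular F a) (c : ℕ)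
    (hreg : ∀ p : PrimeSpectrum A, p ∈ Module.support A (QuotSMulTop a F) →
      IsRegularLocalRing (Localization.AtPrime p.asIdeal))
    (hht : ∀ p : PrimeSpectrum A, p ∈ Module.support A (QuotSMulTop a F) →
      ((c + 1 : ℕ) : ℕ∞) ≤ p.asIdeal.height)
    (z : Ext.{u} (ModuleCat.of A F) (ModuleCat.of A N) c) (hz : a • z = 0) : z = 0 := by
  have hS : (ModuleCat.smulShortComplex (ModuleCat.of A F) a).ShortExact :=
    IsSMulRegular.smulShortComplex_shortExact (M := ModuleCat.of A F) ha
  have h1 : a • z = (Ext.mk₀ (a • 𝟙 (ModuleCat.of A F))).comp z (zero_add c) := by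
    simp [Ext.mk₀_smul]
  obtain ⟨x₁, hx₁⟩ := Ext.contravariant_sequence_exact₂ hS (ModuleCat.of A N) z
    (h1.symm.trans hz)
  haveI : Subsingleton (Ext.{u} (ModuleCat.of A (QuotSMulTop a F)) (ModuleCat.of A N) c) :=
    Groth.Agent.Lib.R2H3.ExtDepthVan.ext_subsingleton_of_height N (QuotSMulTop a F) (c + 1)
      hreg hht c (Nat.lt_succ_self c)
  have hx0 : x₁ = 0 := Subsingleton.elim (α := Ext.{u} (ModuleCat.of A (QuotSMulTop a F))
    (ModuleCat.of A N) c) x₁ 0
  rw [← hx₁, hx0, Ext.comp_zero]
  rfl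

end A

section H

variable {A B : Type u} [CommRing A] [IsRegularLocalRing A] [CommRing B]

theorem succ_le_height (φ : A →+* B) (hφ : Function.Surjective φ) (c d : ℕ)
    (hB : ringKrullDim B = d) (hA : ringKrullDim A = ((d + c : ℕ) : WithBot ℕ∞))
    (p : Ideal A) [hp : p.IsPrime] (hker : RingHom.ker φ ≤ p) (a : A) (hap : a ∈ p)
    (ha : φ a ∈ nonZeroDivisors B) : ((c + 1 : ℕ) : ℕ∞) ≤ p.height := by
  haveI : LocCoh.IsCohenMacaulayLocalRing A :=
    Groth.Agent.Lib.Helper5.isCohenMacaulayLocalRing_of_isRegularLocalRing A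
  have h1 := height_add_ringKrullDim_quotient_eq_of_isCohenMacaulayLocalRing p hp.ne_top
  rw [hA] at h1
  -- the quotient `B/q`
  set q : Ideal B := p.map φ with hq
  have hcm : q.comap φ = p := by
    rw [hq, Ideal.comap_map_of_surjective φ hφ]
    exact sup_eq_left.mpr hker
  have hle : p ≤ q.comap φ := hcm.ge
  have hbij : Function.Bijective (Ideal.quotientMap q φ hle) :=
    ⟨Ideal.quotientMap_injective' hcm.le, Ideal.quotientMap_surjective hφ⟩
  have e1 : ringKrullDim (A ⧸ p) = ringKrullDim (B ⧸ q) :=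
    ringKrullDim_eq_of_ringEquiv (RingEquiv.ofBijective _ hbij)
  have hsp : Ideal.span {φ a} ≤ q := by
    rw [Ideal.span_singleton_le_iff_mem]
    exact Ideal.mem_map_of_mem φ hap
  have e2 : ringKrullDim (B ⧸ q) ≤ ringKrullDim (B ⧸ Ideal.span {φ a}) :=
    ringKrullDim_le_of_surjective (Ideal.Quotient.factor hsp) (Ideal.Quotient.factor_surjective hsp)
  have e3 : ringKrullDim (B ⧸ Ideal.span {φ a}) + 1 ≤ ringKrullDim B :=
    ringKrullDim_quotient_succ_le_of_nonZeroDivisor ha
  have h2 : ringKrullDim (A ⧸ p) + 1 ≤ (d : WithBot ℕ∞) := by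
    rw [← hB, e1]
    exact (add_le_add_left e2 1).trans e3
  haveI : Nontrivial (A ⧸ p) := Ideal.Quotient.nontrivial_iff.mpr hp.ne_top
  have hne : ringKrullDim (A ⧸ p) ≠ ⊥ := ringKrullDim_ne_bot
  obtain ⟨e, he⟩ := WithBot.ne_bot_iff_exists.mp hne
  rw [← he] at h1 h2
  have h1' : p.height + e = ((d + c : ℕ) : ℕ∞) := by exact_mod_cast h1
  have h2' : e + 1 ≤ (d : ℕ∞) := by exact_mod_cast h2
  have hetop : e ≠ ⊤ := ne_top_of_le_ne_top (ENat.natCast_ne_top d) (le_self_add.trans h2')
  lift e to ℕ using hetop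
  rcases eq_or_ne p.height ⊤ with ht | ht
  · rw [ht]; exact le_top
  · obtain ⟨h, hh⟩ := ENat.ne_top_iff_exists.mp ht
    rw [← hh] at h1' ⊢
    have h1'' : h + e = d + c := by exact_mod_cast h1'
    have h2'' : e + 1 ≤ d := by exact_mod_cast h2'
    exact_mod_cast (by omega : c + 1 ≤ h)

end H

section T

variable {A B : Type u} [CommRing A] [IsRegularLocalRing A] [CommRing B]
  (φ : A →+* B) (hφ : Function.Surjective φ) (c : ℕ)
  (W : Type u) [AddCommGroup W] [Module B W]

/-- `B` as an `A`-module -/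
noncomputable abbrev BA : ModuleCat.{u} A := (ModuleCat.restrictScalars φ).obj (ModuleCat.of B B)

omit [IsRegularLocalRing A] in
include hφ in
theorem finite_BA : Module.Finite A (BA φ) := by
  refine Module.Finite.of_surjective
    (LinearMap.toSpanSingleton A (BA φ) (show BA φ from (1 : B))) (fun b => ?_)
  obtain ⟨a, ha⟩ := hφ (show B from b)
  refine ⟨a, ?_⟩
  change φ a • (1 : B) = b
  rw [smul_eq_mul, mul_one, ha]

include hφ in
theorem torsion_eq_bot (d : ℕ) (hB : ringKrullDim B = d)
    (hA : ringKrullDim A = ((d + c : ℕ) : WithBot ℕ∞))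
    (e : ((ModuleCat.restrictScalars φ).obj (ModuleCat.of B W)) ≃ₗ[A]
      Ext.{u} (BA φ) (ModuleCat.of A A) c) :
    Submodule.torsion B W = ⊥ := by
  rw [eq_bot_iff]
  intro w hw
  rw [Submodule.mem_torsion_iff] at hw
  obtain ⟨⟨b, hb⟩, hbw⟩ := hw
  obtain ⟨a, rfl⟩ := hφ b
  haveI := finite_BA φ hφ
  have hreg_a : IsSMulRegular (BA φ) a := by
    intro x y hxy
    have h1 : φ a * ((show B from x) - (show B from y)) = 0 := by
      rw [mul_sub, sub_eq_zero]
      exact hxy
    have h2 := (mul_left_mem_nonZeroDivisors_eq_zero_iff hb).1 h1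
    exact sub_eq_zero.1 h2
  have hsupp : ∀ p : PrimeSpectrum A, p ∈ Module.support A (QuotSMulTop a (BA φ)) →
      RingHom.ker φ ≤ p.asIdeal ∧ a ∈ p.asIdeal := by
    intro p hp
    rw [Module.support_quotSMulTop, Set.mem_inter_iff, Module.support_eq_zeroLocus,
      PrimeSpectrum.mem_zeroLocus, PrimeSpectrum.mem_zeroLocus, Set.singleton_subset_iff] at hp
    refine ⟨fun t ht => hp.1 ?_, hp.2⟩
    rw [SetLike.mem_coe, Module.mem_annihilator]
    intro m
    change φ t • (show B from m) = 0
    rw [RingHom.mem_ker.1 ht, zero_smul]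
  have hreg : ∀ p : PrimeSpectrum A, p ∈ Module.support A (QuotSMulTop a (BA φ)) →
      IsRegularLocalRing (Localization.AtPrime p.asIdeal) := fun p _ =>
    isRegularLocalRing_localization_of_isRegularLocalRing A p.asIdeal
  have hht : ∀ p : PrimeSpectrum A, p ∈ Module.support A (QuotSMulTop a (BA φ)) →
      ((c + 1 : ℕ) : ℕ∞) ≤ p.asIdeal.height := fun p hp =>
    succ_le_height φ hφ c d hB hA p.asIdeal (hsupp p hp).1 a (hsupp p hp).2 hb
  have hz : a • e (show (ModuleCat.restrictScalars φ).obj (ModuleCat.of B W) from w) = 0 := by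
    rw [← map_smul]
    have : a • (show (ModuleCat.restrictScalars φ).obj (ModuleCat.of B W) from w) = 0 := hbw
    rw [this, map_zero]
  have key := ext_eq_zero_of_smul_eq_zero (BA φ) A a hreg_a c hreg hht _ hz
  have := e.injective (key.trans (map_zero e).symm)
  exact this

include hφ in
theorem nonempty_linearEquiv_self (hB : IsField B) (hA : ringKrullDim A = (c : WithBot ℕ∞))
    (e : ((ModuleCat.restrictScalars φ).obj (ModuleCat.of B W)) ≃ₗ[A]
      Ext.{u} (BA φ) (ModuleCat.of A A) c) :
    Nonempty (B ≃ₗ[B] W) := by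
  -- the kernel of `φ` is the maximal ideal
  have hker : RingHom.ker φ = IsLocalRing.maximalIdeal A := by
    haveI : (RingHom.ker φ).IsMaximal := by
      apply Ideal.Quotient.maximal_of_isField
      exact (RingHom.quotientKerEquivOfSurjective hφ).toMulEquiv.isField hB
    exact IsLocalRing.eq_maximalIdeal inferInstance
  -- `A/m ≃ B` as `A`-modules
  let g : A →ₗ[A] (BA φ) := LinearMap.toSpanSingleton A (BA φ) (show BA φ from (1 : B))
  have hg : ∀ a : A, g a = (show BA φ from φ a) := by
    intro a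
    change φ a • (1 : B) = φ a
    rw [smul_eq_mul, mul_one]
  have hgs : Function.Surjective g := by
    intro b
    obtain ⟨a, ha⟩ := hφ (show B from b)
    exact ⟨a, (hg a).trans ha⟩
  have hgk : LinearMap.ker g = IsLocalRing.maximalIdeal A := by
    rw [← hker]
    ext a
    rw [LinearMap.mem_ker, hg]
    rfl
  let e0 : (Groth.Agent.Lib.Helper29.GorHull.kq A) ≃ₗ[A] (BA φ) :=
    (Submodule.quotEquivOfEq _ _ hgk.symm).trans (g.quotKerEquivOfSurjective hgs)
  haveI : LocCoh.IsGorensteinLocalRing A := Groth.Agent.S0342.result A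
  have htyp := Groth.Agent.Lib.Helper29.GorHull.typ_eq_one_of_gorenstein A c hA
  unfold Groth.Agent.Lib.Helper29.GorHull.typ at htyp
  let e1 := Groth.Agent.Lib.R2H3.ExtAffSec.extCongrLeft A e0.toModuleIso (ModuleCat.of A A) c
  have hlen : Module.length A ((ModuleCat.restrictScalars φ).obj (ModuleCat.of B W)) = 1 := by
    rw [(e.trans e1.symm).length_eq]
    exact htyp
  rw [Module.length_eq_one_iff] at hlen
  -- a nonzero vector
  haveI : Nontrivial ((ModuleCat.restrictScalars φ).obj (ModuleCat.of B W)) :=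
    IsSimpleModule.nontrivial A _
  obtain ⟨w, hw⟩ := exists_ne (0 : (ModuleCat.restrictScalars φ).obj (ModuleCat.of B W))
  have hsurj : Function.Surjective (LinearMap.toSpanSingleton B W (show W from w)) := by
    intro w'
    have htop : Submodule.span A {w} = ⊤ := by
      rcases eq_bot_or_eq_top (Submodule.span A {w}) with h | h
      · exact absurd ((Submodule.span_singleton_eq_bot).1 h) hw
      · exact h
    have hmem : (show (ModuleCat.restrictScalars φ).obj (ModuleCat.of B W) from w') ∈
        Submodule.span A {w} := by rw [htop]; trivial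
    obtain ⟨a, ha⟩ := Submodule.mem_span_singleton.1 hmem
    exact ⟨φ a, ha⟩
  have hinj : Function.Injective (LinearMap.toSpanSingleton B W (show W from w)) := by
    rw [injective_iff_map_eq_zero]
    intro b hb
    by_contra hb0
    obtain ⟨b', hb'⟩ := hB.mul_inv_cancel hb0
    apply hw
    have h1 : b • (show W from w) = 0 := hb
    calc w = (b' * b) • (show W from w) := by rw [mul_comm, hb', one_smul]
      _ = 0 := by rw [mul_smul, h1, smul_zero]
  exact ⟨LinearEquiv.ofBijective _ ⟨hinj, hsurj⟩⟩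

include hφ in
theorem finrank_eq_one (hB : IsField B) (hA : ringKrullDim A = (c : WithBot ℕ∞))
    (e : ((ModuleCat.restrictScalars φ).obj (ModuleCat.of B W)) ≃ₗ[A]
      Ext.{u} (BA φ) (ModuleCat.of A A) c) :
    Module.finrank B W = 1 := by
  obtain ⟨e'⟩ := nonempty_linearEquiv_self φ hφ c W hB hA e
  haveI : Nontrivial B := hB.nontrivial
  rw [← e'.finrank_eq, Module.finrank_self]

end T

end Groth.Agent.Lib.R2H3.OmegaTors
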