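import Groth.Agent.Lib.R2H3OmegaStalk
import Groth.Agent.Lib.R2H3OmegaTors
import Groth.Agent.Lib.Helper14IrrComp
set_option backward.isDefEq.respectTransparency.types false

/-!
# The dualizing sheaf of a closed subscheme of a regular scheme is torsion free of rank one
(helper3, round 2)

Namespace `Groth.Agent.Lib.R2H3.OmegaGeo`.

`ι : X ⟶ P` a closed immersion into a locally Noetherian scheme, `L` locally free of rank one on
`P`, `ω` an `O_X`-module with `ι_* ω ≅ ℰxt^c(ι_* O_X, L)`.

* `isField_stalk_of_generic` : the local ring at a generic point of an irreducible component is a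
  field if it is reduced.
* `torsion_stalk_eq_bot` : if `O_{P, ι x}` is regular of dimension `dim O_{X,x} + c` then `ω_x` is
  torsion free.
* `nonempty_linearEquiv_stalk_of_isField` : if `O_{X,x}` is a field and `O_{P, ι x}` is regular of
  dimension `c`, then `ω_x ≃ O_{X,x}`.
-/

set_option autoImplicit false
set_option linter.style.haveILetI false
universe u

open CategoryTheory AlgebraicGeometry TopologicalSpace Opposite Limits

namespace Groth.Agent.Lib.R2H3.OmegaGeo

theorem isField_stalk_of_generic {X : Scheme.{u}} (x : X)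
    (hx : closure ({x} : Set X) ∈ irreducibleComponents X)
    (hred : _root_.IsReduced (X.presheaf.stalk x)) : IsField (X.presheaf.stalk x) := by
  rw [Groth.Agent.Lib.Helper14.closure_mem_irreducibleComponents_iff] at hx
  rw [IsLocalRing.isField_iff_maximalIdeal_eq, eq_bot_iff]
  intro a ha
  have hnil : IsNilpotent a := by
    rw [nilpotent_iff_mem_prime]
    intro J hJ
    have hinj : Function.Injective (X.fromSpecStalk x) :=
      (X.fromSpecStalk x).isEmbedding.injective
    have h1 : (⟨J, hJ⟩ : PrimeSpectrum (X.presheaf.stalk x)) = IsLocalRing.closedPoint _ := by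
      apply hinj
      rw [Scheme.fromSpecStalk_closedPoint]
      exact hx _ (Groth.Agent.Lib.Helper14.fromSpecStalk_specializes X x ⟨J, hJ⟩)
    have h2 : J = IsLocalRing.maximalIdeal _ := congrArg PrimeSpectrum.asIdeal h1
    rw [h2]
    exact ha
  exact hnil.eq_zero

variable {P X : Scheme.{u}} [IsLocallyNoetherian P] [HasInjectiveResolutions (ModSite.Mod P.sheaf)]
  (ι : X ⟶ P) [IsClosedImmersion ι] (L : P.Modules) (hL : FlatMod.IsFinLocFreeOfRank 1 L)
  [ModSite.HasSheafHom (O := P.sheaf)
    ((Scheme.Modules.pushforward ι).obj (Coh.structureModule X))]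
  (c : ℕ) (ω : X.Modules)
  (hω : Nonempty ((Scheme.Modules.pushforward ι).obj ω ≅
    (ModSite.extSh (O := P.sheaf)
      ((Scheme.Modules.pushforward ι).obj (Coh.structureModule X)) c).obj L))

include hL hω in
theorem torsion_stalk_eq_bot (x : X) [IsRegularLocalRing (P.presheaf.stalk (ι.base x))] (d : ℕ)
    (hB : ringKrullDim (X.presheaf.stalk x) = d)
    (hA : ringKrullDim (P.presheaf.stalk (ι.base x)) = ((d + c : ℕ) : WithBot ℕ∞)) :
    Submodule.torsion (X.presheaf.stalk x) (ω.presheaf.stalk x) = ⊥ := by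
  obtain ⟨e⟩ := Groth.Agent.Lib.R2H3.OmegaStalk.nonempty_stalk_linearEquiv ι L hL c ω hω x
  exact Groth.Agent.Lib.R2H3.OmegaTors.torsion_eq_bot (ι.stalkMap x).hom
    (ι.stalkMap_surjective x) c (ω.presheaf.stalk x) d hB hA e

include hL hω in
theorem nonempty_linearEquiv_stalk_of_isField (x : X)
    [IsRegularLocalRing (P.presheaf.stalk (ι.base x))]
    (hB : IsField (X.presheaf.stalk x))
    (hA : ringKrullDim (P.presheaf.stalk (ι.base x)) = (c : WithBot ℕ∞)) :
    Nonempty (X.presheaf.stalk x ≃ₗ[X.presheaf.stalk x] ω.presheaf.stalk x) := by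
  obtain ⟨e⟩ := Groth.Agent.Lib.R2H3.OmegaStalk.nonempty_stalk_linearEquiv ι L hL c ω hω x
  exact Groth.Agent.Lib.R2H3.OmegaTors.nonempty_linearEquiv_self (ι.stalkMap x).hom
    (ι.stalkMap_surjective x) c (ω.presheaf.stalk x) hB hA e

end Groth.Agent.Lib.R2H3.OmegaGeo
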