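import Groth.Agent.Lib.R2H3ExtStalk
import Groth.Agent.Lib.R2H4DegAdd
import Groth.Agent.Lib.H6xPushStalk
import Groth.Agent.Lib.Helper23UnitStalk
import Groth.Agent.Lib.R2H2DevE
import Groth.Agent.Lib.Helper2FibreCrit2
set_option backward.isDefEq.respectTransparency.types false

/-!
# Stalks of the dualizing sheaf of a closed subscheme (helper3, round 2)

Namespace `Groth.Agent.Lib.R2H3.OmegaStalk`.

`ι : X ⟶ P` a closed immersion into a locally Noetherian scheme, `L` locally free of rank one on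
`P`, and `ω` an `O_X`-module with `ι_* ω ≅ ℰxt^c(ι_* O_X, L)`.  Then for every `x : X`
`ω_x ≃ Ext^c_A(B, A)` as `A`-modules, where `A = O_{P, ι x}` and `B = O_{X,x}`
(`nonempty_stalk_linearEquiv`).
-/

set_option autoImplicit false
set_option linter.style.haveILetI false
universe u

open CategoryTheory AlgebraicGeometry TopologicalSpace Opposite Limits

namespace Groth.Agent.Lib.R2H3.OmegaStalk

open Groth.Agent.Lib.Helper1.StalkTensor Groth.Agent.Lib.Helper1.Sky
open Groth.Agent.Lib.R2H3.ExtAffSec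

variable {P X : Scheme.{u}} [IsLocallyNoetherian P] [HasInjectiveResolutions (ModSite.Mod P.sheaf)]
  (ι : X ⟶ P) [IsClosedImmersion ι] (L : P.Modules) (hL : FlatMod.IsFinLocFreeOfRank 1 L)
  [ModSite.HasSheafHom (O := P.sheaf)
    ((Scheme.Modules.pushforward ι).obj (Coh.structureModule X))]
  (c : ℕ) (ω : X.Modules)
  (hω : Nonempty ((Scheme.Modules.pushforward ι).obj ω ≅
    (ModSite.extSh (O := P.sheaf)
      ((Scheme.Modules.pushforward ι).obj (Coh.structureModule X)) c).obj L))

include hL hω in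
/-- the stalk of `ω` at `x` is `Ext^c_A(B, A)`, `A = O_{P, ι x}`, `B = O_{X, x}` -/
theorem nonempty_stalk_linearEquiv (x : X) :
    Nonempty (((ModuleCat.restrictScalars (ι.stalkMap x).hom).obj
        (ModuleCat.of (X.presheaf.stalk x) (ω.presheaf.stalk x))) ≃ₗ[P.presheaf.stalk (ι.base x)]
      Abelian.Ext.{u} ((ModuleCat.restrictScalars (ι.stalkMap x).hom).obj
          (ModuleCat.of (X.presheaf.stalk x) (X.presheaf.stalk x)))
        (ModuleCat.of (P.presheaf.stalk (ι.base x)) (P.presheaf.stalk (ι.base x))) c) := by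
  have hi : Topology.IsInducing ι.base := (Scheme.Hom.isEmbedding ι).isInducing
  obtain ⟨h⟩ := hω
  let F : P.Modules := (Scheme.Modules.pushforward ι).obj (Coh.structureModule X)
  have hF : Coh.IsCoh F := Groth.Agent.Lib.R2H2.DevE.isCoh_pushO ι
  haveI : SheafOfModules.IsFinitePresentation (R := P.ringCatSheaf) L :=
    Groth.Agent.Lib.Helper2.LocFree.isFP_of_isFinLocFree L
      (Groth.Agent.Lib.R2H4DegAdd.isFinLocFree_of_rank hL)
  haveI : L.IsQuasicoherent := inferInstance
  -- step 1: pushforward stalk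
  let e1 := Groth.Agent.Lib.H6xPushStalk.θLin ι x hi ω
  -- step 2: the given isomorphism on stalks
  let e2 := ((stalkFun (ι.base x)).mapIso h).toLinearEquiv
  -- step 3: stalks of ext sheaves
  obtain ⟨e3⟩ := Groth.Agent.Lib.R2H3.ExtStalk.nonempty_stalk_extSh_linearEquiv F L hF (ι.base x) c
  -- step 4: the stalk of `ι_* O_X`
  let e4 := Groth.Agent.Lib.H6xPushStalk.θLin ι x hi (Coh.structureModule X)
  let e4' : (ModuleCat.of (X.presheaf.stalk x) (X.presheaf.stalk x)) ≅
      (stalkFun x).obj (Coh.structureModule X) :=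
    (Groth.Agent.Lib.Helper23.UnitStalk.unitStalkEquiv x).toModuleIso
  let e4'' := (ModuleCat.restrictScalars (ι.stalkMap x).hom).mapIso e4'
  -- step 5: the stalk of `L`
  obtain ⟨hfree, hfin, hrk⟩ := Groth.Agent.Lib.R2H4DegAdd.stalk_facts hL (ι.base x)
  haveI := hfree
  haveI := hfin
  have eL : L.presheaf.stalk (ι.base x) ≃ₗ[P.presheaf.stalk (ι.base x)] P.presheaf.stalk (ι.base x) :=
    LinearEquiv.ofFinrankEq _ _ (by rw [hrk, Module.finrank_self])
  let e5 := extCongrRight (P.presheaf.stalk (ι.base x))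
    (ModuleCat.of (P.presheaf.stalk (ι.base x)) (F.presheaf.stalk (ι.base x))) eL.toModuleIso c
  let e6 := extCongrLeft (P.presheaf.stalk (ι.base x))
    (e4.toModuleIso ≪≫ e4''.symm)
    (ModuleCat.of (P.presheaf.stalk (ι.base x)) (P.presheaf.stalk (ι.base x))) c
  exact ⟨e1.symm.trans (e2.trans (e3.trans (e5.trans e6)))⟩

end Groth.Agent.Lib.R2H3.OmegaStalk
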