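import Mathlib
import Groth.Agent.Lib.R2H3PCBC

/-!
# Faithfully flat descent of pseudo-coherent and perfect ring maps and morphisms (helper3)
-/

set_option autoImplicit false
set_option linter.style.haveILetI false
set_option linter.unusedVariables false
set_option linter.unusedSectionVars false
universe u

open CategoryTheory CategoryTheory.Limits AlgebraicGeometry TensorProduct
attribute [local instance] HasDerivedCategory.standard

namespace Groth.Agent.Lib.R2H3.PCDesc

open Groth.Agent.Lib.R2H3.PCHom Groth.Agent.Lib.R2H3.PerfHom Groth.Agent.Lib.R2H3.PerfMor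
  Groth.Agent.Lib.R2H3.PCMor Groth.Agent.Lib.R2H3.PCBC
open Groth.Agent.Lib.Helper1.PC Groth.Agent.Lib.Helper1.PCTower Groth.Agent.Lib.Helper1.Restrict
  Groth.Agent.Lib.Helper1.RelPC Groth.Agent.Lib.Helper1.Extend Groth.Agent.S7017 DerivedCategory
open Groth.Agent.Lib.R2H3.TorLoc Groth.Agent.Lib.Helper1.TorDim Groth.Agent.Lib.Helper1.Tor
  Groth.Agent.Lib.Helper14.TorSyz

section Module

variable (A A' : Type u) [CommRing A] [CommRing A'] [Algebra A A'] [Module.FaithfullyFlat A A']

/-- tor dimension descends along faithfully flat base change -/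
theorem hasTorDimLE_of_tensor_faithfullyFlat (k : ℕ) :
    ∀ (M : Type u) [AddCommGroup M] [Module A M],
      DRing.HasTorDimLE A' k (A' ⊗[A] M) → DRing.HasTorDimLE A k M := by
  induction k with
  | zero =>
    intro M _ _ h
    rw [hasTorDimLE_zero_iff_flat] at h ⊢
    haveI := h
    exact Module.Flat.of_flat_tensorProduct A M A'
  | succ k ih =>
    intro M _ _ h
    obtain ⟨g, hg⟩ : ∃ g : (M →₀ A) →ₗ[A] M, Function.Surjective g :=
      ⟨_, Finsupp.linearCombination_id_surjective A M⟩
    have hex : Function.Exact (LinearMap.ker g).subtype g := LinearMap.exact_subtype_ker_map g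
    let f' : A' ⊗[A] (LinearMap.ker g) →ₗ[A'] A' ⊗[A] (M →₀ A) :=
      LinearMap.baseChange A' (LinearMap.ker g).subtype
    let g' : A' ⊗[A] (M →₀ A) →ₗ[A'] A' ⊗[A] M := LinearMap.baseChange A' g
    have hf' : Function.Injective f' := by
      show Function.Injective (LinearMap.baseChange A' (LinearMap.ker g).subtype : _ → _)
      rw [LinearMap.baseChange_eq_ltensor]
      exact Module.Flat.lTensor_preserves_injective_linearMap (M := A') _
        (LinearMap.ker g).injective_subtype
    have hg' : Function.Surjective g' := by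
      show Function.Surjective (LinearMap.baseChange A' g : _ → _)
      rw [LinearMap.baseChange_eq_ltensor]
      exact LinearMap.lTensor_surjective A' hg
    have h0 := @lTensor_exact A (LinearMap.ker g) (M →₀ A) M _ _ _ _ _ _ _
      (LinearMap.ker g).subtype g A' _ _ hex hg
    have hex' : Function.Exact f' g' := by
      show Function.Exact (LinearMap.baseChange A' (LinearMap.ker g).subtype : _ → _)
        (LinearMap.baseChange A' g : _ → _)
      rw [LinearMap.baseChange_eq_ltensor, LinearMap.baseChange_eq_ltensor]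
      exact h0
    have hK' : DRing.HasTorDimLE A' k (A' ⊗[A] (LinearMap.ker g)) :=
      hasTorDimLE_ker f' g' hf' hg' hex' k h
    have hK := ih (LinearMap.ker g) hK'
    exact hasTorDimLE_coker (LinearMap.ker g).subtype g (LinearMap.ker g).injective_subtype hg
      hex k hK

variable {A A'}

theorem hasTorDimLE_of_isBaseChange_faithfullyFlat {M N : Type u} [AddCommGroup M] [Module A M]
    [AddCommGroup N] [Module A N] [Module A' N] [IsScalarTower A A' N] (f : M →ₗ[A] N)
    (hf : IsBaseChange A' f) (d : ℕ) (h : DRing.HasTorDimLE A' d N) :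
    DRing.HasTorDimLE A d M :=
  hasTorDimLE_of_tensor_faithfullyFlat A A' d M (hasTorDimLE_of_linearEquiv hf.equiv.symm d h)

theorem isPseudoCoherentModule'_of_isBaseChange_faithfullyFlat {M N : Type u} [AddCommGroup M]
    [Module A M] [AddCommGroup N] [Module A N] [Module A' N] [IsScalarTower A A' N]
    (f : M →ₗ[A] N) (hf : IsBaseChange A' f) (h : DRing.IsPseudoCoherentModule' A' N) :
    DRing.IsPseudoCoherentModule' A M := by
  apply isPC'_of_extD (A := A) (B := A') (Dual.inD A M)
  exact pc'_of_iso ((DerivedCategory.singleFunctor (ModuleCat.{u} A') 0).mapIso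
    hf.equiv.symm.toModuleIso ≪≫ (extDInDIso (A := A) (B := A') M).symm) h

end Module

section Ring

variable (A A' B B' : Type u) [CommRing A] [CommRing A'] [CommRing B] [CommRing B']
  [Algebra A A'] [Algebra A B] [Algebra A' B'] [Algebra B B'] [Algebra A B']
  [IsScalarTower A A' B'] [IsScalarTower A B B']

/-- a pseudo-coherent ring map makes the target pseudo-coherent over every polynomial
presentation -/
theorem pcModule'_of_pcHom_via (h : MoreMor.IsPseudoCoherentHom A B) {n : ℕ}
    (φ : MvPolynomial (Fin n) A →ₐ[A] B) (hφ : Function.Surjective φ) :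
    letI := φ.toRingHom.toAlgebra
    DRing.IsPseudoCoherentModule' (MvPolynomial (Fin n) A) B := by
  letI algPB : Algebra (MvPolynomial (Fin n) A) B := φ.toRingHom.toAlgebra
  have h' := (pcHom_iff_relAll A B).1 h
  exact (Groth.Agent.S1507.pc'_algebra_iff (MvPolynomial (Fin n) A) B B).2
    (fun m => (rel_iff_via φ hφ _ m).1 (h' m))

attribute [local instance] MvPolynomial.algebraMvPolynomial in
/-- faithfully flat descent of a pseudo-coherent ring map -/
theorem isPseudoCoherentHom_descent [Algebra.IsPushout A B A' B'] [Module.FaithfullyFlat A A']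
    (h : MoreMor.IsPseudoCoherentHom A' B') : MoreMor.IsPseudoCoherentHom A B := by
  haveI : Algebra.FiniteType A' B' := finiteType_of_pcHom _ _ h
  haveI : Algebra.FiniteType A B := by
    have h1 : (algebraMap A A').FaithfullyFlat :=
      (RingHom.faithfullyFlat_algebraMap_iff).2 inferInstance
    have h2 : (algebraMap A' B').FiniteType := (RingHom.finiteType_algebraMap).2 inferInstance
    exact (RingHom.finiteType_algebraMap).1
      (RingHom.FiniteType.codescendsAlong_faithfullyFlat h1 h2)
  obtain ⟨n, φ, hφ⟩ := exists_presentation A B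
  letI algPB : Algebra (MvPolynomial (Fin n) A) B := φ.toRingHom.toAlgebra
  let φ' : MvPolynomial (Fin n) A' →ₐ[A'] B' :=
    MvPolynomial.aeval (fun i => algebraMap B B' (φ (MvPolynomial.X i)))
  letI algP'B' : Algebra (MvPolynomial (Fin n) A') B' := φ'.toRingHom.toAlgebra
  letI algPB' : Algebra (MvPolynomial (Fin n) A) B' :=
    ((algebraMap B B').comp φ.toRingHom).toAlgebra
  haveI t1 : IsScalarTower A (MvPolynomial (Fin n) A) B :=
    IsScalarTower.of_algebraMap_eq (fun r => (φ.commutes r).symm)
  haveI t2 : IsScalarTower (MvPolynomial (Fin n) A) B B' :=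
    IsScalarTower.of_algebraMap_eq (fun r => rfl)
  haveI t3 : IsScalarTower A' (MvPolynomial (Fin n) A') B' :=
    IsScalarTower.of_algebraMap_eq (fun r => (φ'.commutes r).symm)
  have hcomp : (φ'.toRingHom).comp (MvPolynomial.map (algebraMap A A')) =
      (algebraMap B B').comp φ.toRingHom := by
    apply MvPolynomial.ringHom_ext
    · intro r
      simp only [RingHom.comp_apply, MvPolynomial.map_C, AlgHom.toRingHom_eq_coe,
        RingHom.coe_coe]
      rw [show (MvPolynomial.C (algebraMap A A' r) : MvPolynomial (Fin n) A') =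
        algebraMap A' _ (algebraMap A A' r) from rfl, φ'.commutes,
        show (MvPolynomial.C r : MvPolynomial (Fin n) A) = algebraMap A _ r from rfl, φ.commutes,
        ← IsScalarTower.algebraMap_apply, ← IsScalarTower.algebraMap_apply]
    · intro i
      simp only [RingHom.comp_apply, MvPolynomial.map_X, AlgHom.toRingHom_eq_coe,
        RingHom.coe_coe]
      exact MvPolynomial.aeval_X _ i
  haveI t4 : IsScalarTower (MvPolynomial (Fin n) A) (MvPolynomial (Fin n) A') B' :=
    IsScalarTower.of_algebraMap_eq (fun p => (RingHom.congr_fun hcomp p).symm)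
  haveI t5 : IsScalarTower A (MvPolynomial (Fin n) A) B' :=
    IsScalarTower.of_algebraMap_eq (fun r => by
      rw [IsScalarTower.algebraMap_apply A B B', IsScalarTower.algebraMap_apply A
        (MvPolynomial (Fin n) A) B]
      rfl)
  haveI t6 : IsScalarTower A (MvPolynomial (Fin n) A') B' :=
    IsScalarTower.of_algebraMap_eq (fun r => by
      rw [IsScalarTower.algebraMap_apply A A' B', IsScalarTower.algebraMap_apply A'
        (MvPolynomial (Fin n) A') B', ← IsScalarTower.algebraMap_apply A A'
        (MvPolynomial (Fin n) A')])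
  have hpo : Algebra.IsPushout (MvPolynomial (Fin n) A) B (MvPolynomial (Fin n) A') B' :=
    (Algebra.IsPushout.comp_iff A (MvPolynomial (Fin n) A) A' (MvPolynomial (Fin n) A')
      (T := B) (T' := B')).1 inferInstance
  have hbc : IsBaseChange (MvPolynomial (Fin n) A')
      (IsScalarTower.toAlgHom (MvPolynomial (Fin n) A) B B').toLinearMap := hpo.symm.out
  have hbcP : IsBaseChange (MvPolynomial (Fin n) A)
      (IsScalarTower.toAlgHom A A' (MvPolynomial (Fin n) A')).toLinearMap :=
    Algebra.IsPushout.out (R := A) (S := MvPolynomial (Fin n) A) (R' := A')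
        (S' := MvPolynomial (Fin n) A')
  haveI : Module.FaithfullyFlat (MvPolynomial (Fin n) A) (MvPolynomial (Fin n) A') :=
    Module.FaithfullyFlat.of_linearEquiv _ _ hbcP.equiv.symm
  have hbc' : IsBaseChange A' (IsScalarTower.toAlgHom A B B').toLinearMap :=
    (Algebra.IsPushout.symm inferInstance : Algebra.IsPushout A A' B B').out
  have hφ' : Function.Surjective φ' := by
    intro y
    refine hbc'.inductionOn y (fun y => ∃ x, φ' x = y) ⟨0, map_zero _⟩ ?_ ?_ ?_
    · intro b
      obtain ⟨p, rfl⟩ := hφ b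
      exact ⟨MvPolynomial.map (algebraMap A A') p, RingHom.congr_fun hcomp p⟩
    · rintro a y ⟨x, rfl⟩
      exact ⟨a • x, map_smul _ _ _⟩
    · rintro y z ⟨x, rfl⟩ ⟨x', rfl⟩
      exact ⟨x + x', map_add _ _ _⟩
  have hpc' : DRing.IsPseudoCoherentModule' (MvPolynomial (Fin n) A') B' :=
    pcModule'_of_pcHom_via A' B' h φ' hφ'
  exact ⟨n, φ, hφ, isPseudoCoherentModule'_of_isBaseChange_faithfullyFlat _ hbc hpc'⟩

/-- faithfully flat descent of finite tor dimension -/
theorem hasFiniteTorDim_descent [Algebra.IsPushout A B A' B'] [Module.FaithfullyFlat A A']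
    (h : DRing.HasFiniteTorDim A' B') : DRing.HasFiniteTorDim A B := by
  obtain ⟨d, hd⟩ := h
  have hbc' : IsBaseChange A' (IsScalarTower.toAlgHom A B B').toLinearMap :=
    (Algebra.IsPushout.symm inferInstance : Algebra.IsPushout A A' B B').out
  exact ⟨d, hasTorDimLE_of_isBaseChange_faithfullyFlat _ hbc' d hd⟩

theorem isPerfectHom_descent [Algebra.IsPushout A B A' B'] [Module.FaithfullyFlat A A']
    (h : MoreMor.IsPerfectHom A' B') : MoreMor.IsPerfectHom A B :=
  ⟨isPseudoCoherentHom_descent A A' B B' h.1, hasFiniteTorDim_descent A A' B B' h.2⟩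

end Ring

theorem pc_codescendsAlong : RingHom.CodescendsAlong @PC RingHom.FaithfullyFlat := by
  intro R S R' S' _ _ _ _ _ _ _ _ _ _ _ _ hQ hP
  haveI : Module.FaithfullyFlat R R' := (RingHom.faithfullyFlat_algebraMap_iff).1 hQ
  exact pc_algebraMap_iff.2 (isPseudoCoherentHom_descent R R' S S' (pc_algebraMap_iff.1 hP))

theorem perf_codescendsAlong : RingHom.CodescendsAlong @Perf RingHom.FaithfullyFlat := by
  intro R S R' S' _ _ _ _ _ _ _ _ _ _ _ _ hQ hP
  haveI : Module.FaithfullyFlat R R' := (RingHom.faithfullyFlat_algebraMap_iff).1 hQ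
  exact (perf_iff_of_algebra _ rfl).2
    (isPerfectHom_descent R R' S S' ((perf_iff_of_algebra _ rfl).1 hP))

section Sch

variable (P : MorphismProperty Scheme.{u})
  (Q : ∀ {R S : Type u} [CommRing R] [CommRing S], (R →+* S) → Prop)

/-- fpqc descent for a property induced by a local ring hom property that is stable under flat
base change and codescends along faithfully flat ring maps -/
theorem descendsAlong_of_flatBaseChange [HasRingHomProperty P Q]
    (hbc : ∀ {X S X' S' : Scheme.{u}} (f : X ⟶ S) (f' : X' ⟶ S') (g' : X' ⟶ X) (g : S' ⟶ S)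
      [Flat g], IsPullback g' f' f g → P f → P f')
    (hQ : RingHom.CodescendsAlong Q RingHom.FaithfullyFlat) :
    P.DescendsAlong (@Surjective ⊓ @Flat ⊓ @QuasiCompact) := by
  apply IsZariskiLocalAtTarget.descendsAlong
  intro R X Y f g hf h
  wlog hX : ∃ T, X = Spec T generalizing X with H
  · have _ : CompactSpace X := by simpa [← quasiCompact_iff_compactSpace f] using hf.2
    obtain ⟨Y', p, hsurj, hP', hY'⟩ := X.exists_hom_isAffine_of_isZariskiLocalAtSource @IsLocalIso
    haveI : Surjective f := hf.1.1
    haveI : Flat f := hf.1.2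
    haveI : QuasiCompact f := hf.2
    haveI : Flat p := (IsLocalIso.le_of_isZariskiLocalAtSource @Flat : @IsLocalIso ≤ @Flat) _ _ p hP'
    refine H (f := (Y'.isoSpec.inv ≫ p) ≫ f) ⟨⟨inferInstance, inferInstance⟩, inferInstance⟩
      ?_ ⟨_, rfl⟩
    rw [← pullbackRightPullbackFstIso_inv_fst f g _, P.cancel_left_of_respectsIso]
    exact hbc (pullback.fst f g) _ _ (Y'.isoSpec.inv ≫ p) (IsPullback.of_hasPullback _ _).flip h
  obtain ⟨T, rfl⟩ := hX
  obtain ⟨φ, rfl⟩ := Spec.map_surjective f
  wlog hY : ∃ S, Y = Spec S generalizing Y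
  · rw [IsZariskiLocalAtSource.iff_of_openCover (P := P) Y.affineCover]
    intro i
    have heq : pullback.fst (Spec.map φ) (Y.affineCover.f i ≫ g) =
        pullback.map _ _ _ _ (𝟙 _) (Y.affineCover.f i) (𝟙 _) (by simp) (by simp) ≫
          pullback.fst (Spec.map φ) g := (pullback.lift_fst _ _ _).symm
    exact this _ (heq ▸ AlgebraicGeometry.IsZariskiLocalAtSource.comp h _) ⟨_, rfl⟩
  obtain ⟨S, rfl⟩ := hY
  refine of_pullback_fst_Spec_of_codescendsAlong (P := P)
    (P' := @Surjective ⊓ @Flat ⊓ @QuasiCompact) hQ ?_ ?_ hf h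
  · intro R S f hf
    rw [RingHom.FaithfullyFlat.iff_flat_and_comap_surjective]
    haveI := hf.1.1
    refine ⟨?_, (Spec.map f).surjective⟩
    have := hf.1.2
    rwa [HasRingHomProperty.Spec_iff (P := @Flat)] at this
  · intro R S f
    exact HasRingHomProperty.Spec_iff (P := P)

theorem pcMor_descendsAlong :
    pcMor.{u}.DescendsAlong (@Surjective ⊓ @Flat ⊓ @QuasiCompact) :=
  descendsAlong_of_flatBaseChange pcMor @PC
    (fun f f' g' g _ hc hf => (isPseudoCoherentMor_iff f').1
      (isPseudoCoherentMor_baseChange f f' g' g hc ((isPseudoCoherentMor_iff f).2 hf)))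
    pc_codescendsAlong

theorem perfMor_descendsAlong :
    perfMor.{u}.DescendsAlong (@Surjective ⊓ @Flat ⊓ @QuasiCompact) :=
  descendsAlong_of_flatBaseChange perfMor @Perf
    (fun f f' g' g _ hc hf => (isPerfectMor_iff f').1
      (isPerfectMor_baseChange f f' g' g hc ((isPerfectMor_iff f).2 hf)))
    perf_codescendsAlong

variable {X S X' S' : Scheme.{u}} (f : X ⟶ S) (f' : X' ⟶ S') (g' : X' ⟶ X) (g : S' ⟶ S)

/-- fpqc descent of pseudo-coherent morphisms -/
theorem isPseudoCoherentMor_descent [Flat g] [Surjective g] [QuasiCompact g]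
    (hc : IsPullback g' f' f g) (hf' : MoreMor.IsPseudoCoherentMor f') :
    MoreMor.IsPseudoCoherentMor f := by
  rw [isPseudoCoherentMor_iff] at hf' ⊢
  haveI := pcMor_descendsAlong.{u}
  exact MorphismProperty.of_isPullback_of_descendsAlong (P := pcMor)
    (Q := @Surjective ⊓ @Flat ⊓ @QuasiCompact) hc.flip
    ⟨⟨inferInstance, inferInstance⟩, inferInstance⟩ hf'

/-- fpqc descent of perfect morphisms -/
theorem isPerfectMor_descent [Flat g] [Surjective g] [QuasiCompact g]
    (hc : IsPullback g' f' f g) (hf' : MoreMor.IsPerfectMor f') :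
    MoreMor.IsPerfectMor f := by
  rw [isPerfectMor_iff] at hf' ⊢
  haveI := perfMor_descendsAlong.{u}
  exact MorphismProperty.of_isPullback_of_descendsAlong (P := perfMor)
    (Q := @Surjective ⊓ @Flat ⊓ @QuasiCompact) hc.flip
    ⟨⟨inferInstance, inferInstance⟩, inferInstance⟩ hf'

end Sch

end Groth.Agent.Lib.R2H3.PCDesc
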