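import Mathlib
import Groth.Agent.Lib.R2H3PerfMor
import Groth.Agent.Lib.R2H3PolyTorDim

/-!
# Cancelling a smooth morphism from a perfect composite (helper3)
-/

set_option autoImplicit false
set_option linter.style.haveILetI false
set_option linter.unusedVariables false
set_option linter.unusedSectionVars false
universe u

open CategoryTheory CategoryTheory.Limits AlgebraicGeometry
attribute [local instance] HasDerivedCategory.standard

namespace Groth.Agent.Lib.R2H3.PerfSmooth

open Groth.Agent.Lib.R2H3.PCHom Groth.Agent.Lib.R2H3.PerfHom Groth.Agent.Lib.R2H3.PerfMor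
  Groth.Agent.Lib.R2H3.PCMor Groth.Agent.Lib.R2H3.PolyTorDim Groth.Agent.Lib.Helper14.TorSyz

section Ring

variable {A B C : Type u} [CommRing A] [CommRing B] [CommRing C]

/-- finite tor dimension can be cancelled along a standard smooth ring map -/
theorem td_of_comp_isStandardSmooth (g : A →+* B) (f : B →+* C) (hg : g.IsStandardSmooth)
    (h : TD (f.comp g)) : TD f := by
  obtain ⟨n, φ, hφ, het⟩ := hg.exists_etale_mvPolynomial
  letI := φ.toAlgebra
  letI := f.toAlgebra
  letI := (f.comp g).toAlgebra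
  letI : Algebra (MvPolynomial (Fin n) A) C := (f.comp φ).toAlgebra
  haveI : IsScalarTower (MvPolynomial (Fin n) A) B C := IsScalarTower.of_algebraMap_eq' rfl
  haveI : IsScalarTower A (MvPolynomial (Fin n) A) C := IsScalarTower.of_algebraMap_eq (fun a => by
    show f (g a) = f (φ (MvPolynomial.C a))
    rw [← hφ]
    rfl)
  haveI : Algebra.Etale (MvPolynomial (Fin n) A) B := het
  obtain ⟨d, hd⟩ := h
  exact ⟨d + n, hasTorDimLE_of_weaklyEtale (MvPolynomial (Fin n) A) B (d + n) C
    (hasTorDimLE_mvPolynomial A n d C hd)⟩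

/-- perfectness can be cancelled along a standard smooth ring map -/
theorem perf_of_comp_isStandardSmooth (g : A →+* B) (f : B →+* C) (hg : g.IsStandardSmooth)
    (h : Perf (f.comp g)) : Perf f := by
  have hsm : g.Smooth := hg.smooth
  refine ⟨PC.of_comp (PC.of_flat_of_finitePresentation hsm.flat hsm.finitePresentation) h.1,
    td_of_comp_isStandardSmooth g f hg h.2⟩

end Ring

section Sch

/-- if `f ≫ g` is perfect and `g` is smooth then `f` is perfect -/
theorem isPerfectMor_of_comp_smooth {X Y S : Scheme.{u}} (f : X ⟶ Y) (g : Y ⟶ S) [Smooth g]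
    (h : MoreMor.IsPerfectMor (f ≫ g)) : MoreMor.IsPerfectMor f := by
  rw [isPerfectMor_iff_exists]
  intro x
  obtain ⟨W, hW, V, hV, hxV, eV, hst⟩ := Smooth.exists_isStandardSmooth g (f x)
  obtain ⟨U, hU, hxU, eU⟩ := TopologicalSpace.Opens.isBasis_iff_nbhd.mp X.isBasis_affineOpens
    (show x ∈ f ⁻¹ᵁ V from hxV)
  refine ⟨U, V, eU, hU, hV, hxU, ?_⟩
  have eUW : U ≤ (f ≫ g) ⁻¹ᵁ W := fun y hy => eV (eU hy)
  have h1 := h U W hU hW eUW
  have hcomp : (f ≫ g).appLE W U eUW = g.appLE W V eV ≫ f.appLE V U eU :=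
    (Scheme.Hom.appLE_comp_appLE f g W V U eV eU).symm
  have h1' : Perf ((f.appLE V U eU).hom.comp (g.appLE W V eV).hom) := by
    have : Perf ((f ≫ g).appLE W U eUW).hom := h1
    rw [hcomp] at this
    exact this
  exact perf_of_comp_isStandardSmooth _ _ hst h1'

end Sch

end Groth.Agent.Lib.R2H3.PerfSmooth
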