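import Groth.Agent.Lib.R2H3PnKer

/-!
# Identities in `P^1_{X/S}` (helper3, round 2)

* `infNbhdι_app_mul_eq_zero`: product of two functions vanishing on `Y` vanishes on the first infinitesimal nbhd.
* `dn_mul`: `d¹(ab) = a d¹b + b d¹a - ab d¹1` in `Γ(U, P^1)` for every open `U`.
* `dn_app`: `d^n(f♯ s) = f♯ s • d^n 1`.
-/

set_option autoImplicit false
universe u
open CategoryTheory CategoryTheory.Limits AlgebraicGeometry TopologicalSpace Opposite

namespace Groth.Agent.Lib.R2H3.PnOne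

open Groth.Agent.Lib.R2H3.PnChart Groth.Agent.Lib.R2H3.PnKer

theorem eq_zero_of_cover {N : Scheme.{u}} {W : N.Opens} {ι : Type*} (Wi : ι → N.Opens)
    (hle : ∀ i, Wi i ≤ W) (hcov : W ≤ ⨆ i, Wi i) (s : Γ(N, W))
    (h : ∀ i, N.presheaf.map (homOfLE (hle i)).op s = 0) : s = 0 := by
  refine TopCat.Sheaf.eq_of_locally_eq' N.sheaf Wi W (fun i => homOfLE (hle i)) hcov s 0 (fun i => ?_)
  have h0 : N.presheaf.map (homOfLE (hle i)).op (0 : Γ(N, W)) = 0 := map_zero _
  exact (h i).trans h0.symm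

/-- two functions vanishing on a closed subscheme have product vanishing on its first infinitesimal neighbourhood -/
theorem infNbhdι_app_mul_eq_zero {Y C : Scheme.{u}} (δ : Y ⟶ C) [QuasiCompact δ] (V : C.Opens)
    (x y : Γ(C, V)) (hx : δ.app V x = 0) (hy : δ.app V y = 0) :
    (PrinPart.infNbhdι δ 1).app V (x * y) = 0 := by
  let ι := { V' : C.affineOpens // V'.1 ≤ V }
  refine eq_zero_of_cover (fun V' : ι => PrinPart.infNbhdι δ 1 ⁻¹ᵁ V'.1.1)
    (fun V' => (PrinPart.infNbhdι δ 1).preimage_mono V'.2) ?_ _ ?_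
  · intro z hz
    have hz' : PrinPart.infNbhdι δ 1 z ∈ V := hz
    obtain ⟨_, ⟨V', hV', rfl⟩, hzV', hV'V⟩ :=
      C.isBasis_affineOpens.exists_subset_of_mem_open hz' V.isOpen
    exact Opens.mem_iSup.mpr ⟨⟨⟨V', hV'⟩, hV'V⟩, hzV'⟩
  · rintro ⟨⟨V', hV'⟩, hV'V⟩
    have hnat := congr($((PrinPart.infNbhdι δ 1).naturality (homOfLE hV'V).op) (x * y))
    rw [CommRingCat.comp_apply, CommRingCat.comp_apply] at hnat
    refine hnat.symm.trans ?_
    rw [map_mul]
    have hx' : C.presheaf.map (homOfLE hV'V).op x ∈ δ.ker.ideal ⟨V', hV'⟩ := by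
      rw [Scheme.Hom.ker_apply, RingHom.mem_ker]
      have := congr($(δ.naturality (homOfLE hV'V).op) x)
      rw [CommRingCat.comp_apply, CommRingCat.comp_apply] at this
      rw [this, hx, map_zero]
    have hy' : C.presheaf.map (homOfLE hV'V).op y ∈ δ.ker.ideal ⟨V', hV'⟩ := by
      rw [Scheme.Hom.ker_apply, RingHom.mem_ker]
      have := congr($(δ.naturality (homOfLE hV'V).op) y)
      rw [CommRingCat.comp_apply, CommRingCat.comp_apply] at this
      rw [this, hy, map_zero]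
    have hxy : C.presheaf.map (homOfLE hV'V).op x * C.presheaf.map (homOfLE hV'V).op y ∈
        (δ.ker ^ (1 + 1)).ideal ⟨V', hV'⟩ := by
      rw [Scheme.IdealSheafData.ideal_pow, Pi.pow_apply, pow_two]
      exact Ideal.mul_mem_mul hx' hy'
    rw [← Scheme.IdealSheafData.ker_subschemeι_app, RingHom.mem_ker] at hxy
    exact hxy

section

variable {X S : Scheme.{u}} (f : X ⟶ S)

theorem nbhdι_appLE_mul_eq_zero (U : X.Opens) (x y : Γ(pullback f f, W0 f U))
    (hx : (pullback.diagonal f).app (W0 f U) x = 0)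
    (hy : (pullback.diagonal f).app (W0 f U) y = 0) :
    (PrinPart.nbhdι f 1).appLE (W0 f U) (PrinPart.pr1 f 1 ⁻¹ᵁ U) (pr1_preimage_eq f 1 U).le
      (x * y) = 0 := by
  have key : (PrinPart.nbhdι f 1).appLE (W0 f U) (PrinPart.pr1 f 1 ⁻¹ᵁ U)
      (pr1_preimage_eq f 1 U).le =
      ((pullback.diagonal f).coborderRange.ι.app (W0 f U) ≫
        (PrinPart.infNbhdι (PrinPart.diagCl f) 1).app _) ≫
        (PrinPart.nbhd f 1).presheaf.map (homOfLE (pr1_preimage_eq f 1 U).le).op := by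
    change (PrinPart.infNbhdι (PrinPart.diagCl f) 1 ≫
      (pullback.diagonal f).coborderRange.ι).app _ ≫ _ = _
    rw [Scheme.Hom.comp_app]
    rfl
  have h2 : (pullback.diagonal f).coborderRange.ι.app (W0 f U) ≫
      (PrinPart.diagCl f).app ((pullback.diagonal f).coborderRange.ι ⁻¹ᵁ W0 f U) =
      (pullback.diagonal f).app (W0 f U) ≫ X.presheaf.map (eqToHom (by
        rw [← Scheme.Hom.comp_preimage, Scheme.Hom.liftCoborder_ι])).op := by
    rw [← Scheme.Hom.comp_app]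
    exact Scheme.Hom.congr_app (pullback.diagonal f).liftCoborder_ι (W0 f U)
  have hx' : (PrinPart.diagCl f).app ((pullback.diagonal f).coborderRange.ι ⁻¹ᵁ W0 f U)
      ((pullback.diagonal f).coborderRange.ι.app (W0 f U) x) = 0 := by
    have := congr($h2 x)
    rw [CommRingCat.comp_apply, CommRingCat.comp_apply] at this
    rw [this, hx, map_zero]
  have hy' : (PrinPart.diagCl f).app ((pullback.diagonal f).coborderRange.ι ⁻¹ᵁ W0 f U)
      ((pullback.diagonal f).coborderRange.ι.app (W0 f U) y) = 0 := by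
    have := congr($h2 y)
    rw [CommRingCat.comp_apply, CommRingCat.comp_apply] at this
    rw [this, hy, map_zero]
  have hz := infNbhdι_app_mul_eq_zero (PrinPart.diagCl f) _ _ _ hx' hy'
  have hk := congr($key (x * y))
  rw [CommRingCat.comp_apply, CommRingCat.comp_apply] at hk
  rw [hk, map_mul, hz, map_zero]

/-- Leibniz identity in `P^1`: `d¹(ab) - a d¹b - b d¹a + ab d¹1 = 0` -/
theorem dn_mul (U : X.Opens) (a b : Γ(X, U)) :
    PrinPart.dn f 1 U (a * b) =
      a • PrinPart.dn f 1 U b + b • PrinPart.dn f 1 U a - (a * b) • PrinPart.dn f 1 U 1 := by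
  apply thetaU_injective f 1 U
  rw [map_sub, map_add, thetaU_smul, thetaU_smul, thetaU_smul, thetaU_dn, thetaU_dn, thetaU_dn,
    thetaU_dn]
  have e1 := fun c => congr($(fst_comp_nbhdι f 1 U) c)
  have e2 := fun c => congr($(snd_comp_nbhdι f 1 U) c)
  simp only [CommRingCat.comp_apply] at e1 e2
  have hzero := nbhdι_appLE_mul_eq_zero f U
    ((pullback.snd f f).appLE U (W0 f U) inf_le_right a -
      (pullback.fst f f).appLE U (W0 f U) inf_le_left a)
    ((pullback.snd f f).appLE U (W0 f U) inf_le_right b -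
      (pullback.fst f f).appLE U (W0 f U) inf_le_left b) ?_ ?_
  · rw [map_mul, map_sub, map_sub, e1, e1, e2, e2] at hzero
    rw [map_mul, map_mul, map_one, mul_one]
    linear_combination hzero
  · have h1 := congr($(fst_comp_diagonal f U) a)
    have h2 := congr($(snd_comp_diagonal f U) a)
    rw [CommRingCat.comp_apply] at h1 h2
    rw [map_sub, h1, h2, sub_self]
  · have h1 := congr($(fst_comp_diagonal f U) b)
    have h2 := congr($(snd_comp_diagonal f U) b)
    rw [CommRingCat.comp_apply] at h1 h2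
    rw [map_sub, h1, h2, sub_self]

/-- `d^n` is linear over functions pulled back from the base -/
theorem dn_app (n : ℕ) (V : S.Opens) (s : Γ(S, V)) :
    PrinPart.dn f n (f ⁻¹ᵁ V) (f.app V s) = (f.app V s) • PrinPart.dn f n (f ⁻¹ᵁ V) 1 := by
  apply thetaU_injective f n (f ⁻¹ᵁ V)
  rw [thetaU_smul, thetaU_dn, thetaU_dn, map_one, mul_one]
  have h1 : f.appLE V (f ⁻¹ᵁ V) le_rfl ≫ (PrinPart.pr2 f n).appLE (f ⁻¹ᵁ V)
      (PrinPart.pr1 f n ⁻¹ᵁ (f ⁻¹ᵁ V)) (PrinPart.preimage_pr1 f n (f ⁻¹ᵁ V)).le =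
      (PrinPart.pr2 f n ≫ f).appLE V (PrinPart.pr1 f n ⁻¹ᵁ (f ⁻¹ᵁ V))
        (fun z hz => (PrinPart.preimage_pr1 f n (f ⁻¹ᵁ V)).le hz) :=
    Scheme.Hom.appLE_comp_appLE _ _ _ _ _ _ _
  have h2 : f.appLE V (f ⁻¹ᵁ V) le_rfl ≫ (PrinPart.pr1 f n).appLE (f ⁻¹ᵁ V)
      (PrinPart.pr1 f n ⁻¹ᵁ (f ⁻¹ᵁ V)) le_rfl =
      (PrinPart.pr1 f n ≫ f).appLE V (PrinPart.pr1 f n ⁻¹ᵁ (f ⁻¹ᵁ V)) le_rfl :=
    Scheme.Hom.appLE_comp_appLE _ _ _ _ _ _ _
  have key : ∀ (g : PrinPart.nbhd f n ⟶ S) (_ : g = PrinPart.pr1 f n ≫ f)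
      (e : PrinPart.pr1 f n ⁻¹ᵁ (f ⁻¹ᵁ V) ≤ g ⁻¹ᵁ V),
      g.appLE V _ e = (PrinPart.pr1 f n ≫ f).appLE V (PrinPart.pr1 f n ⁻¹ᵁ (f ⁻¹ᵁ V)) le_rfl := by
    rintro g rfl e
    rfl
  have h12 := h1.trans ((key _ (PrinPart.pr1_comp f n).symm _).trans h2.symm)
  have h3 := congr($h12 s)
  rw [CommRingCat.comp_apply, CommRingCat.comp_apply, Scheme.Hom.appLE_eq_app,
    Scheme.Hom.appLE_eq_app] at h3
  exact h3

end

end Groth.Agent.Lib.R2H3.PnOne
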