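import Mathlib

/-!
# Products of surjective `S`-schemes are surjective over `S`

`exists_common_extension`: a family of field extensions of `k` has a common extension.
`surjective_of_isLimit_fan`: `S7394`.
-/

set_option autoImplicit false
universe u
open CategoryTheory CategoryTheory.Limits AlgebraicGeometry

namespace Groth.Agent.Lib.R2H3.ProdSurj

/-- any family of field extensions of `k` has a common extension (in the same universe). -/
theorem exists_common_extension (k : Type u) [Field k] {I : Type u} (K : I → Type u)
    [∀ i, Field (K i)] [∀ i, Algebra k (K i)] :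
    ∃ (M : Type u) (_ : Field M) (_ : Algebra k M), ∀ i, Nonempty (K i →ₐ[k] M) := by
  classical
  choose ι x hx using fun i => exists_isTranscendenceBasis' k (K i)
  refine ⟨AlgebraicClosure (FractionRing (MvPolynomial (Σ i, ι i) k)), inferInstance,
    inferInstance, fun i => ?_⟩
  let e : MvPolynomial (ι i) k ≃ₐ[k] Algebra.adjoin k (Set.range (x i)) := (hx i).1.aevalEquiv
  let φ : Algebra.adjoin k (Set.range (x i)) →ₐ[k]
      AlgebraicClosure (FractionRing (MvPolynomial (Σ i, ι i) k)) :=
    (IsScalarTower.toAlgHom k (MvPolynomial (Σ i, ι i) k)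
      (AlgebraicClosure (FractionRing (MvPolynomial (Σ i, ι i) k)))).comp
      ((MvPolynomial.rename (Sigma.mk i)).comp e.symm.toAlgHom)
  have hφ : Function.Injective φ := by
    have h1 : Function.Injective (algebraMap (MvPolynomial (Σ i, ι i) k)
        (AlgebraicClosure (FractionRing (MvPolynomial (Σ i, ι i) k)))) := by
      rw [IsScalarTower.algebraMap_eq _ (FractionRing (MvPolynomial (Σ i, ι i) k)) _]
      exact (algebraMap (FractionRing (MvPolynomial (Σ i, ι i) k)) _).injective.comp
        (IsFractionRing.injective _ _)
    have h2 : Function.Injective (MvPolynomial.rename (R := k) (Sigma.mk i : ι i → Σ i, ι i)) :=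
      MvPolynomial.rename_injective _ sigma_mk_injective
    exact h1.comp (h2.comp e.symm.injective)
  let _ : Algebra (Algebra.adjoin k (Set.range (x i)))
      (AlgebraicClosure (FractionRing (MvPolynomial (Σ i, ι i) k))) := φ.toRingHom.toAlgebra
  have : IsScalarTower k (Algebra.adjoin k (Set.range (x i)))
      (AlgebraicClosure (FractionRing (MvPolynomial (Σ i, ι i) k))) :=
    IsScalarTower.of_algebraMap_eq (fun c => (φ.commutes c).symm)
  have : Algebra.IsAlgebraic (Algebra.adjoin k (Set.range (x i))) (K i) := (hx i).isAlgebraic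
  have : Module.IsTorsionFree (Algebra.adjoin k (Set.range (x i)))
      (AlgebraicClosure (FractionRing (MvPolynomial (Σ i, ι i) k))) := by
    rw [Module.isTorsionFree_iff_algebraMap_injective]
    exact hφ
  let σ : K i →ₐ[Algebra.adjoin k (Set.range (x i))]
      AlgebraicClosure (FractionRing (MvPolynomial (Σ i, ι i) k)) := IsAlgClosed.lift
  exact ⟨σ.restrictScalars k⟩

/-- a product (in `Over S`) of schemes surjective over `S` is surjective over `S`
(no affineness needed): pick points in all the fibres and a common extension of their residue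
fields, then use the universal property. -/
theorem surjective_of_isLimit_fan {S : Scheme.{u}} {I : Type u} (T : I → Over S)
    (hT : ∀ i, Surjective (T i).hom) (c : Fan T) (hc : IsLimit c) : Surjective c.pt.hom := by
  constructor
  intro s
  choose t ht using fun i => (hT i).surj s
  let _ : ∀ i, Algebra (S.residueField s) ((T i).left.residueField (t i)) := fun i =>
    ((S.residueFieldCongr (ht i)).inv ≫ (T i).hom.residueFieldMap (t i)).hom.toAlgebra
  obtain ⟨M, _, _, hM⟩ := exists_common_extension (S.residueField s)
    (fun i => (T i).left.residueField (t i))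
  choose σ _ using fun i => (⟨(hM i).some, trivial⟩ : ∃ _ : _ →ₐ[S.residueField s] M, True)
  let b : S.residueField s ⟶ CommRingCat.of M :=
    CommRingCat.ofHom (algebraMap (S.residueField s) M)
  let a : ∀ i, (T i).left.residueField (t i) ⟶ CommRingCat.of M := fun i =>
    CommRingCat.ofHom (σ i).toRingHom
  have h1 : ∀ i, b = ((S.residueFieldCongr (ht i)).inv ≫ (T i).hom.residueFieldMap (t i)) ≫ a i := by
    intro i
    ext x
    exact ((σ i).commutes x).symm
  let ψ : Spec (.of M) ⟶ S := Spec.map b ≫ S.fromSpecResidueField s
  let φ : ∀ i, Spec (.of M) ⟶ (T i).left := fun i =>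
    Spec.map (a i) ≫ (T i).left.fromSpecResidueField (t i)
  have hφ : ∀ i, φ i ≫ (T i).hom = ψ := by
    intro i
    simp only [φ, ψ]
    rw [Category.assoc, ← Scheme.Hom.SpecMap_residueFieldMap_fromSpecResidueField, h1 i,
      Spec.map_comp, Spec.map_comp, Category.assoc, Category.assoc,
      Scheme.residueFieldCongr_inv, Scheme.residueFieldCongr_fromSpecResidueField]
  let l : Over.mk ψ ⟶ c.pt := hc.lift (Fan.mk (Over.mk ψ) (fun i => Over.homMk (φ i) (hφ i)))
  have hl : l.left ≫ c.pt.hom = ψ := Over.w l
  obtain ⟨pt⟩ : Nonempty (Spec (.of M)) := inferInstance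
  refine ⟨l.left pt, ?_⟩
  rw [← Scheme.Hom.comp_apply, hl]
  simp only [ψ]
  rw [Scheme.Hom.comp_apply, Scheme.fromSpecResidueField_apply]

end Groth.Agent.Lib.R2H3.ProdSurj
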