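import Mathlib
import Groth.Prelude.Def_Red
import Groth.Prelude.Def_RedSub
import Groth.Agent.Lib.Helper12QuotGrp
import Groth.Agent.Lib.R2H3OverBc

/-!
# Generalities on fppf quotients `RedSub.IsQuotient`

* `isPullback_map_act`: a monoidal functor preserving pullbacks preserves the cartesian square
  `G × H ⇉ G ⟶ Q` of a quotient.
* `isQuotient_bc`: base change of a quotient.
* `isQuotient_of_iso`: transport of a quotient along isomorphisms of the subgroup.
* `exists_iso_of_isQuotient`: two quotients of a group by the same normal subgroup are isomorphic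
  as groups.
-/

set_option autoImplicit false
universe v u₁ u₂ u

open CategoryTheory Limits MonoidalCategory CartesianMonoidalCategory MonObj GrpObj
  AlgebraicGeometry

namespace Groth.Agent.Lib.R2H3.QuotBC

section Cat

variable {C : Type u₁} [Category.{v} C] [CartesianMonoidalCategory C]
  {D : Type u₂} [Category.{v} D] [CartesianMonoidalCategory D] (F : C ⥤ D) [F.Monoidal]

open scoped Obj

lemma map_act {G H : C} [GrpObj G] [GrpObj H] (i : H ⟶ G) :
    (F.obj G ◁ F.map i) ≫ μ[F.obj G] =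
      Functor.LaxMonoidal.μ F G H ≫ F.map ((G ◁ i) ≫ μ[G]) := by
  rw [Functor.obj.μ_def, Functor.map_comp, Functor.LaxMonoidal.μ_natural_right_assoc]

theorem isPullback_map_act [PreservesLimitsOfShape WalkingCospan F] {G H Q : C} [GrpObj G]
    [GrpObj H] (i : H ⟶ G) (q : G ⟶ Q)
    (h : IsPullback (fst G H) ((G ◁ i) ≫ μ[G]) q q) :
    IsPullback (fst (F.obj G) (F.obj H)) ((F.obj G ◁ F.map i) ≫ μ[F.obj G])
      (F.map q) (F.map q) := by
  have h1 := h.map F
  refine IsPullback.of_iso h1 (Functor.Monoidal.μIso F G H).symm (Iso.refl _) (Iso.refl _)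
    (Iso.refl _) ?_ ?_ ?_ ?_
  · simp
  · rw [map_act]
    simp
  · simp
  · simp

end Cat

section Sch

open Groth.Agent.Lib.R2H3.OverBc Groth.Agent.Lib.Helper12.QuotGrp

variable {S S' : Scheme.{u}} (f : S' ⟶ S) {G H Q : Over S} [GrpObj G] [GrpObj H]

/-- base change of an fppf quotient. -/
theorem isQuotient_bc (i : H ⟶ G) (q : G ⟶ Q) (hq : RedSub.IsQuotient i q) :
    RedSub.IsQuotient ((Over.pullback f).map i) ((Over.pullback f).map q) := by
  obtain ⟨h1, h2, h3, h4⟩ := hq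
  refine ⟨?_, ?_, ?_, ?_⟩
  · exact bcHom_of_left (P := @Surjective) f q h1
  · exact bcHom_of_left (P := @Flat) f q h2
  · exact bcHom_of_left (P := @LocallyOfFinitePresentation) f q h3
  · exact isPullback_map_act (Over.pullback f) i q h4

/-- transport of an fppf quotient along isomorphisms. -/
theorem isQuotient_of_iso {G' H' Q' : Over S} [GrpObj G'] [GrpObj H'] (i : H ⟶ G) (q : G ⟶ Q)
    (i' : H' ⟶ G') (q' : G' ⟶ Q') (eG : G ≅ G') [IsMonHom eG.hom] (eH : H ≅ H') (eQ : Q ≅ Q')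
    (hi : i ≫ eG.hom = eH.hom ≫ i') (hqq : q ≫ eQ.hom = eG.hom ≫ q')
    (hq : RedSub.IsQuotient i q) : RedSub.IsQuotient i' q' := by
  obtain ⟨h1, h2, h3, h4⟩ := hq
  have hq' : q' = eG.inv ≫ q ≫ eQ.hom := by rw [hqq, Iso.inv_hom_id_assoc]
  have hl : q'.left = eG.inv.left ≫ q.left ≫ eQ.hom.left := by
    rw [hq']; rfl
  have : IsIso eG.inv.left := (Over.forget S).map_isIso eG.inv
  have : IsIso eQ.hom.left := (Over.forget S).map_isIso eQ.hom
  refine ⟨?_, ?_, ?_, ?_⟩
  · rw [hl]; infer_instance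
  · rw [hl]; infer_instance
  · rw [hl]; infer_instance
  · refine IsPullback.of_iso h4 (eG ⊗ᵢ eH) eG eG eQ ?_ ?_ hqq hqq
    · simp
    · have hm := IsMonHom.mul_hom (f := eG.hom)
      rw [Category.assoc, hm]
      rw [← Category.assoc, ← Category.assoc]
      congr 1
      rw [tensorIso_hom, ← id_tensorHom, ← id_tensorHom, tensorHom_comp_tensorHom,
        tensorHom_comp_tensorHom, Category.id_comp, Category.comp_id, hi]

variable {Q' : Over S} [GrpObj Q] [GrpObj Q']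

/-- two quotients of a group by the same normal subgroup are isomorphic. -/
theorem exists_iso_of_isQuotient (i : H ⟶ G) [IsMonHom i] (hn : AlgGrp.IsNormalHom i)
    (q : G ⟶ Q) [IsMonHom q] (q' : G ⟶ Q') [IsMonHom q']
    (hq : RedSub.IsQuotient i q) (hq' : RedSub.IsQuotient i q') :
    ∃ e : Grp.mk Q ≅ Grp.mk Q', q ≫ e.hom.hom.hom = q' := by
  have key : ∀ {Q₁ Q₂ : Over S} [GrpObj Q₁] [GrpObj Q₂] (q₁ : G ⟶ Q₁) [IsMonHom q₁]
      (q₂ : G ⟶ Q₂) [IsMonHom q₂], RedSub.IsQuotient i q₁ → RedSub.IsQuotient i q₂ →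
      ∃ g : Q₁ ⟶ Q₂, q₁ ≫ g = q₂ ∧ IsMonHom g := by
    intro Q₁ Q₂ _ _ q₁ _ q₂ _ hq₁ hq₂
    obtain ⟨a1, a2, a3, a4⟩ := hq₁
    have := a1; have := a2; have := a3
    have hc := IsCov.of_fppf q₁
    have hyp := hyp_of_isCov i q₁ a4.flip hn hc
    have hk : i ≫ q₂ = 1 := by
      have hw := hq₂.2.2.2.w
      have h5 : lift (1 : H ⟶ G) (𝟙 H) ≫ fst G H ≫ q₂ =
          lift (1 : H ⟶ G) (𝟙 H) ≫ ((G ◁ i) ≫ μ[G]) ≫ q₂ := by rw [hw]
      rw [lift_fst_assoc, MonObj.one_comp, ← Category.assoc, lift_act, Category.id_comp,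
        _root_.one_mul] at h5
      exact h5.symm
    obtain ⟨g, ⟨hg1, hg2⟩, -⟩ := hyp.existsUnique_desc q₂ hk
    exact ⟨g, hg1, hg2⟩
  obtain ⟨g, hg1, hg2⟩ := key q q' hq hq'
  obtain ⟨g', hg1', hg2'⟩ := key q' q hq' hq
  have := hq.1; have := hq.2.1; have := hq.2.2.1
  have := hq'.1; have := hq'.2.1; have := hq'.2.2.1
  have : Epi q := (IsCov.of_fppf q).epi
  have : Epi q' := (IsCov.of_fppf q').epi
  have h1 : g ≫ g' = 𝟙 Q := by
    rw [← cancel_epi q, ← Category.assoc, hg1, hg1', Category.comp_id]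
  have h2 : g' ≫ g = 𝟙 Q' := by
    rw [← cancel_epi q', ← Category.assoc, hg1', hg1, Category.comp_id]
  haveI : IsMonHom (Iso.mk g g' h1 h2).hom := hg2
  exact ⟨Grp.mkIso' ⟨g, g', h1, h2⟩, hg1⟩

end Sch

end Groth.Agent.Lib.R2H3.QuotBC
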