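import Groth.Agent.Lib.R2H2DevE
set_option backward.isDefEq.respectTransparency.types false

/-!
# Coherent quotients of `O_X` with prescribed sections over an affine open (helper3, round 2)

Namespace `Groth.Agent.Lib.R2H3.QuotExtend`.

`X` locally Noetherian, `U` an affine open, `I` an ideal of `Γ(X, U)`: the schematic closure in `X`
of the closed subscheme `V(I)` of `U` gives a coherent `O_X`-module `G hU I` with
`Γ(G, U) ≃ₗ[Γ(X, U)] Γ(X, U) ⧸ I`.

* `hMap`, `ker_app`, `K`, `K_ideal`, `G`, `isCoh_G`, `nonempty_sections_linearEquiv`.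
-/

set_option autoImplicit false
set_option linter.style.haveILetI false
universe u

open CategoryTheory AlgebraicGeometry TopologicalSpace Opposite Limits

namespace Groth.Agent.Lib.R2H3.QuotExtend

variable {X : Scheme.{u}} {U : X.Opens} (hU : IsAffineOpen U) (I : Ideal Γ(X, U))

/-- the locally closed subscheme `V(I) ⊆ U ⊆ X` -/
noncomputable def hMap : Spec (CommRingCat.of (Γ(X, U) ⧸ I)) ⟶ X :=
  Spec.map (CommRingCat.ofHom (Ideal.Quotient.mk I)) ≫ hU.fromSpec

theorem ker_aux {A B : CommRingCat.{u}} (φ : A ⟶ B) (V : (Spec A).Opens) (hV : V = ⊤) :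
    RingHom.ker ((Scheme.ΓSpecIso A).inv ≫ (Spec A).presheaf.map (eqToHom hV).op ≫
      (Spec.map φ).app V).hom = RingHom.ker φ.hom := by
  subst hV
  rw [eqToHom_refl, op_id, CategoryTheory.Functor.map_id, Category.id_comp]
  have h := Scheme.ΓSpecIso_inv_naturality φ
  change RingHom.ker ((Scheme.ΓSpecIso A).inv ≫ (Spec.map φ).appTop).hom = _
  rw [← h, CommRingCat.hom_comp]
  ext a
  rw [RingHom.mem_ker, RingHom.mem_ker, RingHom.comp_apply]
  constructor
  · intro h0
    have hinj : Function.Injective (Scheme.ΓSpecIso B).inv.hom :=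
      ((Scheme.ΓSpecIso B).symm.commRingCatIsoToRingEquiv).injective
    exact hinj (by rw [h0, map_zero])
  · intro h0
    rw [h0, map_zero]

theorem ker_app : RingHom.ker ((hMap hU I).app U).hom = I := by
  let φ : Γ(X, U) ⟶ CommRingCat.of (Γ(X, U) ⧸ I) := CommRingCat.ofHom (Ideal.Quotient.mk I)
  have h1 : RingHom.ker ((hMap hU I).app U).hom =
      RingHom.ker (hU.fromSpec.app U ≫ (Spec.map φ).app (hU.fromSpec ⁻¹ᵁ U)).hom := rfl
  rw [h1, hU.fromSpec_app_self, Category.assoc, ker_aux φ _ hU.fromSpec_preimage_self]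
  exact Ideal.mk_ker

/-- the ideal sheaf of the schematic closure of `V(I)` -/
noncomputable def K : X.IdealSheafData := (hMap hU I).ker

variable [IsLocallyNoetherian X]

theorem K_ideal : (K hU I).ideal ⟨U, hU⟩ = I := by
  haveI : IsNoetherianRing Γ(X, U) := IsLocallyNoetherian.component_noetherian ⟨U, hU⟩
  haveI : IsNoetherianRing (CommRingCat.of (Γ(X, U) ⧸ I)) :=
    inferInstanceAs (IsNoetherianRing (Γ(X, U) ⧸ I))
  haveI : QuasiCompact (hMap hU I) := quasiCompact_of_noetherianSpace_source _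
  rw [K, Scheme.Hom.ker_apply]
  exact ker_app hU I

/-- the coherent module `O_X / K` -/
noncomputable def G : X.Modules :=
  (Scheme.Modules.pushforward (K hU I).subschemeι).obj (Coh.structureModule (K hU I).subscheme)

omit [IsLocallyNoetherian X] in
theorem isCoh_G : Coh.IsCoh (G hU I) := Groth.Agent.Lib.R2H2.DevE.isCoh_pushO _

theorem nonempty_sections_linearEquiv :
    Nonempty (Γ(G hU I, U) ≃ₗ[Γ(X, U)] (Γ(X, U) ⧸ I)) := by
  let ι := (K hU I).subschemeι
  let one : Γ(G hU I, U) := (show Γ((K hU I).subscheme, ι ⁻¹ᵁ U) from 1)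
  let f : Γ(X, U) →ₗ[Γ(X, U)] Γ(G hU I, U) := LinearMap.toSpanSingleton _ _ one
  have hf : ∀ a : Γ(X, U), f a = (show Γ(G hU I, U) from (ι.app U).hom a) := by
    intro a
    change ((ι.app U).hom a * (1 : Γ((K hU I).subscheme, ι ⁻¹ᵁ U)) :
      Γ((K hU I).subscheme, ι ⁻¹ᵁ U)) = _
    rw [mul_one]
  have hsurj : Function.Surjective f := by
    intro t
    obtain ⟨a, ha⟩ := (K hU I).subschemeι_app_surjective ⟨U, hU⟩
      (show Γ((K hU I).subscheme, ι ⁻¹ᵁ U) from t)
    exact ⟨a, (hf a).trans ha⟩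
  have hker : LinearMap.ker f = I := by
    ext a
    rw [LinearMap.mem_ker, hf]
    have h1 := (K hU I).ker_subschemeι_app ⟨U, hU⟩
    rw [K_ideal] at h1
    have h2 : a ∈ RingHom.ker ((K hU I).subschemeι.app U).hom ↔ a ∈ I := by rw [h1]
    rw [RingHom.mem_ker] at h2
    exact h2
  exact ⟨(f.quotKerEquivOfSurjective hsurj).symm ≪≫ₗ Submodule.quotEquivOfEq _ _ hker⟩

end Groth.Agent.Lib.R2H3.QuotExtend
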