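import Mathlib
import Groth.Agent.Lib.Helper3IrrTopE
import Groth.Agent.Lib.Helper3EtGUSchD
import Groth.Agent.Lib.Helper3EtGUSchC
import Groth.Agent.Lib.R2H3GUBirSch
import Groth.Agent.Lib.Helper12Reduced
import Groth.Agent.S5067
import Groth.Agent.S5049

/-!
# Rational sections of unramified morphisms at geometrically unibranch points

* `exists_irreducible_open_nhd`: a point whose local ring has prime nilradical, on a scheme with
  locally finite irreducible components, has an irreducible open neighbourhood.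
* `residueFieldMap_bijective_of_section`
* `exists_section_of_openImmersion`: gluing step.
* `exists_openImmersion_nhd`: local structure over an integral base.
* `exists_section_nhd`: the main theorem (S5994).
-/

set_option autoImplicit false
set_option linter.style.haveILetI false
set_option linter.unusedVariables false
set_option linter.unusedSectionVars false
universe u
open CategoryTheory Limits AlgebraicGeometry TopologicalSpace Opposite

namespace Groth.Agent.Lib.R2H3.RatSection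

/-- all irreducible components through a point whose local ring has prime nilradical coincide. -/
theorem eq_closure_of_mem_irreducibleComponents {X : Scheme.{u}} (x : X)
    (hnil : (nilradical (X.presheaf.stalk x)).IsPrime) :
    ∃ ν : X, ν ⤳ x ∧ ∀ Z ∈ irreducibleComponents X, x ∈ Z → Z = closure {ν} := by
  let n : PrimeSpectrum (X.presheaf.stalk x) := ⟨nilradical _, hnil⟩
  let ν : X := X.fromSpecStalk x n
  have hν : ν ⤳ x := by
    have : ν ∈ Set.range (X.fromSpecStalk x) := ⟨n, rfl⟩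
    rw [Scheme.range_fromSpecStalk] at this
    exact this
  refine ⟨ν, hν, fun Z hZ hxZ => ?_⟩
  have hcl : IsClosed Z := isClosed_of_mem_irreducibleComponents Z hZ
  let ξ := hZ.1.genericPoint
  have hξ : closure {ξ} = Z := (hZ.1.isGenericPoint_genericPoint hcl).def
  have hξx : ξ ⤳ x := specializes_iff_mem_closure.2 (hξ ▸ hxZ)
  obtain ⟨p, hp⟩ : ξ ∈ Set.range (X.fromSpecStalk x) := by
    rw [Scheme.range_fromSpecStalk]
    exact hξx
  have hnp : n ⤳ p := (PrimeSpectrum.le_iff_specializes n p).1 (nilradical_le_prime p.asIdeal)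
  have hνξ : ν ⤳ ξ := hp ▸ hnp.map (X.fromSpecStalk x).continuous
  have hle : Z ≤ closure {ν} := by
    rw [← hξ]
    exact closure_minimal (Set.singleton_subset_iff.2 (specializes_iff_mem_closure.1 hνξ))
      isClosed_closure
  exact le_antisymm hle (hZ.2 isIrreducible_singleton.closure hle)

theorem exists_irreducible_open_nhd {X : Scheme.{u}} (x : X)
    (hnil : (nilradical (X.presheaf.stalk x)).IsPrime)
    (hfin : LocallyFinite (fun Z : irreducibleComponents X => (Z : Set X))) :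
    ∃ N : X.Opens, x ∈ N ∧ IsIrreducible (N : Set X) := by
  obtain ⟨ν, hν, huniq⟩ := eq_closure_of_mem_irreducibleComponents x hnil
  let Z₀ : Set X := irreducibleComponent x
  have hZ₀ : Z₀ ∈ irreducibleComponents X := irreducibleComponent_mem_irreducibleComponents x
  have hxZ₀ : x ∈ Z₀ := mem_irreducibleComponent
  let C : Set X := ⋃ Z : {Z : irreducibleComponents X // (Z : Set X) ≠ Z₀}, (Z.1 : Set X)
  have hC : IsClosed C :=
    LocallyFinite.isClosed_iUnion (hfin.comp_injective Subtype.val_injective)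
      (fun Z => isClosed_of_mem_irreducibleComponents _ Z.1.2)
  have hxC : x ∉ C := by
    intro hx
    obtain ⟨Z, hxZ⟩ := Set.mem_iUnion.1 hx
    exact Z.2 ((huniq _ Z.1.2 hxZ).trans (huniq _ hZ₀ hxZ₀).symm)
  refine ⟨⟨Cᶜ, hC.isOpen_compl⟩, hxC, ?_⟩
  have hsub : Cᶜ ⊆ Z₀ := by
    intro w hw
    by_contra hwZ
    apply hw
    have hw' := irreducibleComponent_mem_irreducibleComponents w
    refine Set.mem_iUnion.2 ⟨⟨⟨irreducibleComponent w, hw'⟩, ?_⟩, mem_irreducibleComponent⟩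
    intro h
    exact hwZ (h ▸ mem_irreducibleComponent)
  exact ⟨⟨x, hxC⟩, hZ₀.1.2.open_subset hC.isOpen_compl hsub⟩

/-- a section over an open immersion induces isomorphisms on residue fields. -/
theorem residueFieldMap_bijective_of_section {X Y U : Scheme.{u}} (f : X ⟶ Y) (i : U ⟶ Y)
    [IsOpenImmersion i] (u : U ⟶ X) (hu : u ≫ f = i) (w : U) :
    Function.Bijective (f.residueFieldMap (u w)).hom := by
  subst hu
  have h1 := Scheme.residueFieldMap_comp u f w
  have hχ : Function.Bijective ((u ≫ f).residueFieldMap w).hom :=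
    ConcreteCategory.bijective_of_isIso _
  have hcomp : (u.residueFieldMap w).hom ∘ (f.residueFieldMap (u w)).hom =
      ((u ≫ f).residueFieldMap w).hom := by
    funext a
    rw [h1]
    rfl
  have h3 : Function.Injective (u.residueFieldMap w).hom := RingHom.injective _
  have h4 : Function.Surjective (u.residueFieldMap w).hom := by
    have := hχ.2
    rw [← hcomp] at this
    exact this.of_comp
  have h5 : Function.Bijective (u.residueFieldMap w).hom := ⟨h3, h4⟩
  rw [← hcomp] at hχ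
  exact (Function.Bijective.of_comp_iff' h5 _).1 hχ

/-- gluing step: an open immersion `j : N ⟶ X` from an irreducible scheme such that `j ≫ f` is an
open immersion and which contains a point of the image of the section `u`, yields a section over
the image of `j ≫ f` agreeing with `u`. -/
theorem exists_section_of_openImmersion {X Y : Scheme.{u}} [IsReduced Y] (f : X ⟶ Y)
    [IsSeparated f] (U : Y.Opens) (u : (U : Scheme.{u}) ⟶ X) (hu : u ≫ f = U.ι)
    {N : Scheme.{u}} (j : N ⟶ X) [IsOpenImmersion j] [IsOpenImmersion (j ≫ f)]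
    [IrreducibleSpace N] (w : (U : Scheme.{u})) (hw : u w ∈ Set.range j) :
    ∃ v : ((j ≫ f).opensRange : Scheme.{u}) ⟶ X, v ≫ f = (j ≫ f).opensRange.ι ∧
      Y.homOfLE (inf_le_left : U ⊓ (j ≫ f).opensRange ≤ U) ≫ u =
        Y.homOfLE (inf_le_right : U ⊓ (j ≫ f).opensRange ≤ (j ≫ f).opensRange) ≫ v := by
  set g := j ≫ f with hg
  set V := g.opensRange with hV
  let e : N ≅ (V : Scheme.{u}) := g.isoOpensRange
  let v : (V : Scheme.{u}) ⟶ X := e.inv ≫ j
  have hv : v ≫ f = V.ι := by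
    change (e.inv ≫ j) ≫ f = V.ι
    rw [Category.assoc, ← hg]
    exact g.isoOpensRange_inv_comp
  refine ⟨v, hv, ?_⟩
  set a := Y.homOfLE (inf_le_left : U ⊓ V ≤ U) ≫ u with ha
  set b := Y.homOfLE (inf_le_right : U ⊓ V ≤ V) ≫ v with hb
  have haf : a ≫ f = (U ⊓ V).ι := by rw [ha, Category.assoc, hu, Scheme.homOfLE_ι]
  have hbf : b ≫ f = (U ⊓ V).ι := by rw [hb, Category.assoc, hv, Scheme.homOfLE_ι]
  let φ : ((U ⊓ V : Y.Opens) : Scheme.{u}) ⟶ N := Y.homOfLE (inf_le_right : U ⊓ V ≤ V) ≫ e.inv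
  haveI : PreirreducibleSpace ((U ⊓ V : Y.Opens) : Scheme.{u}) :=
    φ.isOpenEmbedding.preirreducibleSpace
  let W : ((U ⊓ V : Y.Opens) : Scheme.{u}).Opens := a ⁻¹ᵁ j.opensRange
  have hwV : w.1 ∈ V := by
    obtain ⟨n, hn⟩ := hw
    have h1 : U.ι w = g n := by
      rw [← hu, Scheme.Hom.comp_apply, ← hn, hg, Scheme.Hom.comp_apply]
    have h2 : U.ι w = w.1 := rfl
    rw [← h2, h1]
    exact ⟨n, rfl⟩
  let w' : ((U ⊓ V : Y.Opens) : Scheme.{u}) := ⟨w.1, ⟨w.2, hwV⟩⟩
  have hw' : (Y.homOfLE (inf_le_left : U ⊓ V ≤ U)) w' = w := Subtype.ext (by simp [w'])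
  have hWne : (W : Set ((U ⊓ V : Y.Opens) : Scheme.{u})).Nonempty := by
    refine ⟨w', ?_⟩
    change a w' ∈ Set.range j
    rw [ha, Scheme.Hom.comp_apply, hw']
    exact hw
  haveI : IsDominant W.ι := ⟨by
    rw [DenseRange, Scheme.Opens.range_ι]
    exact W.isOpen.dense hWne⟩
  refine ext_of_isDominant_of_isSeparated f (haf.trans hbf.symm) W.ι ?_
  have hrange : Set.range (W.ι ≫ a) ⊆ Set.range j := by
    rintro _ ⟨t, rfl⟩
    rw [Scheme.Hom.comp_apply]
    exact t.2
  let a' : (W : Scheme.{u}) ⟶ N := IsOpenImmersion.lift j (W.ι ≫ a) hrange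
  have ha' : a' ≫ j = W.ι ≫ a := IsOpenImmersion.lift_fac _ _ _
  let b' : (W : Scheme.{u}) ⟶ N := W.ι ≫ Y.homOfLE (inf_le_right : U ⊓ V ≤ V) ≫ e.inv
  have hb' : b' ≫ j = W.ι ≫ b := by
    simp only [b', hb, v, Category.assoc]
  have hab : a' = b' := by
    rw [← cancel_mono g]
    rw [hg, ← Category.assoc, ha', Category.assoc, haf, ← Category.assoc, hb', Category.assoc, hbf]
  rw [← ha', ← hb', hab]

open Groth.Agent.Lib.Helper3.EtGUSch Groth.Agent.Lib.Helper3.IrrTop in
/-- local structure over an integral base. -/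
theorem exists_openImmersion_nhd {X Y : Scheme.{u}} [IsIntegral Y] (f : X ⟶ Y) [IsSeparated f]
    [LocallyOfFiniteType f] [FormallyUnramified f] (x x' : X) (hsp : x' ⤳ x)
    (hx' : f x' = genericPoint Y) (hbij : Function.Bijective (f.residueFieldMap x').hom)
    (hy : CAlg2.IsGeomUnibranch (Y.presheaf.stalk (f x))) :
    ∃ (N : Scheme.{u}) (j : N ⟶ X), IsOpenImmersion j ∧ IsOpenImmersion (j ≫ f) ∧
      IrreducibleSpace N ∧ x ∈ Set.range j ∧ x' ∈ Set.range j := by
  have hinj := stalkMap_injective_of_specializes f x x' hsp hx'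
  obtain ⟨N₀, hxN₀, hét⟩ := exists_etale_nhd_of_integral f x hy hinj
    ⟨⊤, trivial, HasRingHomProperty.comp_of_isOpenImmersion (P := @FormallyUnramified) _ _
      inferInstance⟩
  haveI := hét
  have hdom := (isDomain_and_isGeomUnibranch_stalk_of_etale_nhd f x inferInstance hy
    ⟨N₀, hxN₀, hét⟩).1
  let g₀ : (N₀ : Scheme.{u}) ⟶ Y := N₀.ι ≫ f
  let x₀ : (N₀ : Scheme.{u}) := ⟨x, hxN₀⟩
  haveI : LocallyQuasiFinite g₀ := locallyQuasiFinite_of_unramified g₀
  have hfinY : LocallyFinite (fun Z : irreducibleComponents Y => (Z : Set Y)) := by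
    haveI : Finite (irreducibleComponents Y) := by
      rw [irreducibleComponents_eq_singleton]
      infer_instance
    exact locallyFinite_of_finite _
  have hfinN₀ := Groth.Agent.S5049.result g₀ hfinY
  have hnil : (nilradical ((N₀ : Scheme.{u}).presheaf.stalk x₀)).IsPrime := by
    let e : X.presheaf.stalk x ≃+* (N₀ : Scheme.{u}).presheaf.stalk x₀ :=
      (asIso (N₀.ι.stalkMap x₀)).commRingCatIsoToRingEquiv
    haveI : IsDomain ((N₀ : Scheme.{u}).presheaf.stalk x₀) := e.symm.toMulEquiv.isDomain _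
    rw [nilradical_eq_zero]
    exact Ideal.isPrime_bot
  obtain ⟨N₁, hx₀N₁, hirr⟩ := exists_irreducible_open_nhd x₀ hnil hfinN₀
  let j : (N₁ : Scheme.{u}) ⟶ X := N₁.ι ≫ N₀.ι
  let g₁ : (N₁ : Scheme.{u}) ⟶ Y := j ≫ f
  haveI : Etale g₁ := by
    change Etale ((N₁.ι ≫ N₀.ι) ≫ f)
    rw [Category.assoc]
    infer_instance
  haveI : IrreducibleSpace (N₁ : Scheme.{u}) := Subtype.irreducibleSpace hirr
  haveI : IsReduced (N₁ : Scheme.{u}) := Groth.Agent.Lib.Helper12.Reduced.isReduced_of_smooth g₁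
  haveI : IsIntegral (N₁ : Scheme.{u}) := isIntegral_of_irreducibleSpace_of_isReduced _
  haveI : LocallyQuasiFinite g₁ := locallyQuasiFinite_of_unramified g₁
  let x₁ : (N₁ : Scheme.{u}) := ⟨x₀, hx₀N₁⟩
  have hx₁ : j x₁ = x := rfl
  have hxj : x ∈ Set.range j := ⟨x₁, hx₁⟩
  have hx'j : x' ∈ Set.range j := hsp.mem_open j.isOpenEmbedding.isOpen_range hxj
  obtain ⟨x'', hx''⟩ := hx'j
  let ξ := genericPoint (N₁ : Scheme.{u})
  have hξx'' : ξ ⤳ x'' := (genericPoint_spec (N₁ : Scheme.{u})).specializes (Set.mem_univ _)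
  have h2 : g₁ x'' = genericPoint Y := by
    change (j ≫ f) x'' = _
    rw [Scheme.Hom.comp_apply, hx'', hx']
  have hgξ : g₁ ξ = genericPoint Y := by
    have h1 : g₁ ξ ⤳ g₁ x'' := hξx''.map g₁.continuous
    rw [h2] at h1
    have h3 : genericPoint Y ⤳ g₁ ξ := (genericPoint_spec Y).specializes (Set.mem_univ _)
    exact (h1.antisymm h3).eq
  have hξeq : ξ = x'' := eq_of_specializes_of_fiber g₁ hξx'' (hgξ.trans h2.symm)
  have hbir : Function.Bijective (g₁.residueFieldMap ξ).hom := by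
    rw [hξeq]
    have h1 := Scheme.residueFieldMap_comp j f x''
    have h4 : Function.Bijective (f.residueFieldMap (j x'')).hom := by
      rw [hx'']
      exact hbij
    have h5 : Function.Bijective (j.residueFieldMap x'').hom :=
      ConcreteCategory.bijective_of_isIso _
    have hcomp : (j.residueFieldMap x'').hom ∘ (f.residueFieldMap (j x'')).hom =
        (g₁.residueFieldMap x'').hom := by
      funext a
      change _ = ((j ≫ f).residueFieldMap x'').hom a
      rw [h1]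
      rfl
    rw [← hcomp]
    exact h5.comp h4
  haveI : IsSeparated g₁ := by
    change IsSeparated (j ≫ f)
    infer_instance
  haveI : IsOpenImmersion g₁ := Groth.Agent.S5067.result g₁ hgξ hbir
  exact ⟨(N₁ : Scheme.{u}), j, inferInstance, ‹IsOpenImmersion g₁›, inferInstance, hxj, ⟨x'', hx''⟩⟩

/-- residue field maps in a commutative square with open immersions. -/
theorem residueFieldMap_bijective_of_square {X Y X₁ Y₁ : Scheme.{u}} (f : X ⟶ Y) (f₁ : X₁ ⟶ Y₁)
    (i₁ : Y₁ ⟶ Y) (i₂ : X₁ ⟶ X) [IsOpenImmersion i₁] [IsOpenImmersion i₂]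
    (h : f₁ ≫ i₁ = i₂ ≫ f) (p : X₁)
    (hb : Function.Bijective (f.residueFieldMap (i₂ p)).hom) :
    Function.Bijective (f₁.residueFieldMap p).hom := by
  have h2 := Scheme.residueFieldMap_comp f₁ i₁ p
  have h3 := Scheme.residueFieldMap_comp i₂ f p
  have h4 := Scheme.Hom.residueFieldMap_congr h p
  have hA : Function.Bijective (i₁.residueFieldMap (f₁ p)).hom :=
    ConcreteCategory.bijective_of_isIso _
  have hD : Function.Bijective (i₂.residueFieldMap p).hom :=
    ConcreteCategory.bijective_of_isIso _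
  have hE : Function.Bijective
      (Y.residueFieldCongr (show (f₁ ≫ i₁) p = (i₂ ≫ f) p by rw [h])).hom.hom :=
    ConcreteCategory.bijective_of_isIso _
  have hcomp : (f₁.residueFieldMap p).hom ∘ (i₁.residueFieldMap (f₁ p)).hom =
      ((i₂.residueFieldMap p).hom ∘ (f.residueFieldMap (i₂ p)).hom) ∘
        (Y.residueFieldCongr (show (f₁ ≫ i₁) p = (i₂ ≫ f) p by rw [h])).hom.hom := by
    funext a
    have e1 : ((f₁ ≫ i₁).residueFieldMap p).hom a =
        (f₁.residueFieldMap p).hom ((i₁.residueFieldMap (f₁ p)).hom a) := by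
      rw [h2]
      rfl
    have e2 : ∀ b, ((i₂ ≫ f).residueFieldMap p).hom b =
        (i₂.residueFieldMap p).hom ((f.residueFieldMap (i₂ p)).hom b) := by
      intro b
      rw [h3]
      rfl
    change (f₁.residueFieldMap p).hom ((i₁.residueFieldMap (f₁ p)).hom a) = _
    rw [← e1, h4]
    exact e2 _
  have hB : Function.Bijective ((f₁.residueFieldMap p).hom ∘ (i₁.residueFieldMap (f₁ p)).hom) := by
    rw [hcomp]
    exact (hD.comp hb).comp hE
  exact (Function.Bijective.of_comp_iff _ hA).1 hB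

open Groth.Agent.Lib.R2H3.GUBirSch in
/-- **Main theorem** (EGA IV 18.10-type statement): a rational section of a separated unramified
morphism extends over a geometrically unibranch point as soon as the closure of its image meets the
fibre. -/
theorem exists_section_nhd {X Y : Scheme.{u}} [IsReduced Y]
    (hcomp : LocallyFinite (fun Z : irreducibleComponents Y => (Z : Set Y)))
    (f : X ⟶ Y) [IsSeparated f] [LocallyOfFiniteType f] [FormallyUnramified f]
    (U : Y.Opens) (hU : Dense (U : Set Y)) (u : (U : Scheme.{u}) ⟶ X) (hu : u ≫ f = U.ι)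
    (y : Y) (hy : CAlg2.IsGeomUnibranch (Y.presheaf.stalk y))
    (hZ : (closure (Set.range u) ∩ f ⁻¹' {y}).Nonempty) :
    ∃ (V : Y.Opens) (v : (V : Scheme.{u}) ⟶ X), y ∈ V ∧ v ≫ f = V.ι ∧
      Y.homOfLE (inf_le_left : U ⊓ V ≤ U) ≫ u = Y.homOfLE (inf_le_right : U ⊓ V ≤ V) ≫ v := by
  obtain ⟨x, hxcl, hxy⟩ := hZ
  have hxy' : f x = y := hxy
  subst hxy'
  have hnilY : (nilradical (Y.presheaf.stalk (f x))).IsPrime :=
    (Ideal.Quotient.isDomain_iff_prime _).1 hy.1.1
  obtain ⟨V₁, hyV₁, hirrV₁⟩ := exists_irreducible_open_nhd (f x) hnilY hcomp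
  haveI : IrreducibleSpace (V₁ : Scheme.{u}) := Subtype.irreducibleSpace hirrV₁
  haveI : IsIntegral (V₁ : Scheme.{u}) := isIntegral_of_irreducibleSpace_of_isReduced _
  let f₁ : ((f ⁻¹ᵁ V₁ : X.Opens) : Scheme.{u}) ⟶ (V₁ : Scheme.{u}) := f ∣_ V₁
  haveI : FormallyUnramified f₁ := IsZariskiLocalAtTarget.restrict ‹_› V₁
  have hf₁ : f₁ ≫ V₁.ι = (f ⁻¹ᵁ V₁).ι ≫ f := morphismRestrict_ι f V₁
  let x₁ : ((f ⁻¹ᵁ V₁ : X.Opens) : Scheme.{u}) := ⟨x, hyV₁⟩
  let η₁ := genericPoint (V₁ : Scheme.{u})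
  let η : Y := V₁.ι η₁
  have hηV₁ : η ∈ V₁ := η₁.2
  have hηU : η ∈ U := by
    obtain ⟨z, hzV₁, hzU⟩ := hU.inter_open_nonempty V₁ V₁.isOpen ⟨f x, hyV₁⟩
    let z₁ : (V₁ : Scheme.{u}) := ⟨z, hzV₁⟩
    have h1 : η₁ ⤳ z₁ := (genericPoint_spec _).specializes (Set.mem_univ _)
    have h2 : η ⤳ z := h1.map V₁.ι.continuous
    exact h2.mem_open U.isOpen hzU
  let η' : (U : Scheme.{u}) := ⟨η, hηU⟩
  let x' : X := u η'
  have hfx' : f x' = η := by
    change f (u η') = η
    rw [← Scheme.Hom.comp_apply, hu]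
    rfl
  have hx'V₁ : x' ∈ f ⁻¹ᵁ V₁ := by
    change f x' ∈ V₁
    rw [hfx']
    exact hηV₁
  let x'₁ : ((f ⁻¹ᵁ V₁ : X.Opens) : Scheme.{u}) := ⟨x', hx'V₁⟩
  have hsp : x' ⤳ x := by
    rw [specializes_iff_mem_closure]
    have h1 : x ∈ (f ⁻¹ᵁ V₁ : Set X) ∩ closure (Set.range u) := ⟨hyV₁, hxcl⟩
    have h2 := (f ⁻¹ᵁ V₁).isOpen.inter_closure h1
    refine closure_minimal ?_ isClosed_closure h2
    rintro _ ⟨hzV, w, rfl⟩
    have hw : U.ι w ∈ V₁ := by
      rw [← hu]
      exact hzV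
    let z₁ : (V₁ : Scheme.{u}) := ⟨U.ι w, hw⟩
    have h3 : η₁ ⤳ z₁ := (genericPoint_spec _).specializes (Set.mem_univ _)
    have h4 : η ⤳ U.ι w := h3.map V₁.ι.continuous
    have h5 : η' ⤳ w := U.ι.isOpenEmbedding.isInducing.specializes_iff.1 h4
    exact specializes_iff_mem_closure.1 (h5.map u.continuous)
  have hsp₁ : x'₁ ⤳ x₁ := (f ⁻¹ᵁ V₁).ι.isOpenEmbedding.isInducing.specializes_iff.1 hsp
  have hfx'₁ : f₁ x'₁ = genericPoint (V₁ : Scheme.{u}) := by
    apply V₁.ι.isOpenEmbedding.injective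
    change V₁.ι (f₁ x'₁) = η
    rw [← Scheme.Hom.comp_apply, hf₁]
    exact hfx'
  have hbij : Function.Bijective (f₁.residueFieldMap x'₁).hom :=
    residueFieldMap_bijective_of_square f f₁ V₁.ι (f ⁻¹ᵁ V₁).ι hf₁ x'₁
      (residueFieldMap_bijective_of_section f U.ι u hu η')
  have aux : ∀ z : Y, z = f x → CAlg2.IsGeomUnibranch (Y.presheaf.stalk z) := by
    rintro z rfl
    exact hy
  have hfx₁ : V₁.ι (f₁ x₁) = f x := by
    rw [← Scheme.Hom.comp_apply, hf₁]
    rfl
  have hy₁ : CAlg2.IsGeomUnibranch ((V₁ : Scheme.{u}).presheaf.stalk (f₁ x₁)) :=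
    (gu_of_isIso_stalkMap V₁.ι (f₁ x₁)).2 (aux _ hfx₁)
  obtain ⟨N, j₁, hj₁, hj₁f, hN, hx₁j, hx'₁j⟩ :=
    exists_openImmersion_nhd f₁ x₁ x'₁ hsp₁ hfx'₁ hbij hy₁
  let j : N ⟶ X := j₁ ≫ (f ⁻¹ᵁ V₁).ι
  haveI : IsOpenImmersion j := inferInstance
  have hjf : j ≫ f = (j₁ ≫ f₁) ≫ V₁.ι := by
    change (j₁ ≫ (f ⁻¹ᵁ V₁).ι) ≫ f = _
    rw [Category.assoc, Category.assoc, hf₁]
  haveI : IsOpenImmersion (j ≫ f) := by
    rw [hjf]
    infer_instance
  have hw : u η' ∈ Set.range j := by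
    obtain ⟨n, hn⟩ := hx'₁j
    refine ⟨n, ?_⟩
    change (f ⁻¹ᵁ V₁).ι (j₁ n) = x'
    rw [hn]
    rfl
  obtain ⟨v, hv, hagree⟩ := exists_section_of_openImmersion f U u hu j η' hw
  refine ⟨(j ≫ f).opensRange, v, ?_, hv, hagree⟩
  obtain ⟨n, hn⟩ := hx₁j
  refine ⟨n, ?_⟩
  change f ((f ⁻¹ᵁ V₁).ι (j₁ n)) = f x
  rw [hn]
  rfl

end Groth.Agent.Lib.R2H3.RatSection
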