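import Mathlib
import Groth.Agent.Lib.R2H3RatSection

/-!
# Rational sections of unramified morphisms, II

* `isOpenImmersion_of_comp_of_unramified`
* `exists_section_nhd_of_closed` (S5996)
* `isClopen_range_section` (S5995)
-/

set_option autoImplicit false
set_option linter.style.haveILetI false
set_option linter.unusedVariables false
set_option linter.unusedSectionVars false
universe u
open CategoryTheory Limits AlgebraicGeometry TopologicalSpace Opposite

namespace Groth.Agent.Lib.R2H3.RatSection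

theorem isOpenImmersion_of_comp_of_unramified {X Y Z : Scheme.{u}} (f : X ⟶ Y) (g : Y ⟶ Z)
    [IsOpenImmersion (f ≫ g)] [LocallyOfFiniteType g] [FormallyUnramified g] :
    IsOpenImmersion f := by
  haveI : MorphismProperty.HasOfPostcompProperty @IsOpenImmersion
      (@LocallyOfFiniteType ⊓ @FormallyUnramified) := by
    rw [MorphismProperty.hasOfPostcompProperty_iff_le_diagonal]
    intro X Y f ⟨hft, hfu⟩
    exact inferInstanceAs <| IsOpenImmersion (pullback.diagonal f)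
  exact MorphismProperty.of_postcomp _ (W' := @LocallyOfFiniteType ⊓ @FormallyUnramified) f g
    ⟨‹_›, ‹_›⟩ ‹_›

theorem exists_section_nhd_of_closed {X Y : Scheme.{u}} [IsReduced Y]
    (hcomp : LocallyFinite (fun Z : irreducibleComponents Y => (Z : Set Y)))
    (f : X ⟶ Y) [IsSeparated f] [LocallyOfFiniteType f] [FormallyUnramified f]
    (U : Y.Opens) (hU : Dense (U : Set Y)) (u : (U : Scheme.{u}) ⟶ X) (hu : u ≫ f = U.ι)
    (hcl : ∀ T : Set X, IsClosed T → IsIrreducible T → IsClosed (f '' T))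
    (y : Y) (hy : CAlg2.IsGeomUnibranch (Y.presheaf.stalk y)) :
    ∃ (V : Y.Opens) (v : (V : Scheme.{u}) ⟶ X), y ∈ V ∧ v ≫ f = V.ι ∧
      Y.homOfLE (inf_le_left : U ⊓ V ≤ U) ≫ u = Y.homOfLE (inf_le_right : U ⊓ V ≤ V) ≫ v := by
  refine exists_section_nhd hcomp f U hU u hu y hy ?_
  have hnilY : (nilradical (Y.presheaf.stalk y)).IsPrime :=
    (Ideal.Quotient.isDomain_iff_prime _).1 hy.1.1
  obtain ⟨V₁, hyV₁, hirrV₁⟩ := exists_irreducible_open_nhd y hnilY hcomp
  haveI : IrreducibleSpace (V₁ : Scheme.{u}) := Subtype.irreducibleSpace hirrV₁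
  let η₁ := genericPoint (V₁ : Scheme.{u})
  let η : Y := V₁.ι η₁
  have hηU : η ∈ U := by
    obtain ⟨z, hzV₁, hzU⟩ := hU.inter_open_nonempty V₁ V₁.isOpen ⟨y, hyV₁⟩
    let z₁ : (V₁ : Scheme.{u}) := ⟨z, hzV₁⟩
    have h1 : η₁ ⤳ z₁ := (genericPoint_spec _).specializes (Set.mem_univ _)
    have h2 : η ⤳ z := h1.map V₁.ι.continuous
    exact h2.mem_open U.isOpen hzU
  let η' : (U : Scheme.{u}) := ⟨η, hηU⟩
  let T : Set X := closure {u η'}
  have hT := hcl T isClosed_closure isIrreducible_singleton.closure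
  have hfη : f (u η') = η := by
    rw [← Scheme.Hom.comp_apply, hu]
    rfl
  have hηT : η ∈ f '' T := ⟨u η', subset_closure rfl, hfη⟩
  have hηy : η ⤳ y := by
    let y₁ : (V₁ : Scheme.{u}) := ⟨y, hyV₁⟩
    have h1 : η₁ ⤳ y₁ := (genericPoint_spec _).specializes (Set.mem_univ _)
    exact h1.map V₁.ι.continuous
  obtain ⟨x, hxT, hxy⟩ := hηy.mem_closed hT hηT
  have hsub : ({u η'} : Set X) ⊆ Set.range u := Set.singleton_subset_iff.2 ⟨η', rfl⟩
  exact ⟨x, closure_mono hsub hxT, hxy⟩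

theorem isClopen_range_section {X Y : Scheme.{u}} [IsReduced Y]
    (hcomp : LocallyFinite (fun Z : irreducibleComponents Y => (Z : Set Y)))
    (f : X ⟶ Y) [IsSeparated f] [LocallyOfFiniteType f] [FormallyUnramified f]
    (U : Y.Opens) (hU : Dense (U : Set Y)) (u : (U : Scheme.{u}) ⟶ X) (hu : u ≫ f = U.ι)
    (hY : ∀ y : Y, CAlg2.IsGeomUnibranch (Y.presheaf.stalk y))
    (hmax : ∀ (V : Y.Opens) (v : (V : Scheme.{u}) ⟶ X), v ≫ f = V.ι →
      Y.homOfLE (inf_le_left : U ⊓ V ≤ U) ≫ u = Y.homOfLE (inf_le_right : U ⊓ V ≤ V) ≫ v → V ≤ U) :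
    IsOpen (Set.range u) ∧ IsClosed (Set.range u) := by
  haveI : IsOpenImmersion (u ≫ f) := by
    rw [hu]
    infer_instance
  haveI : IsOpenImmersion u := isOpenImmersion_of_comp_of_unramified u f
  refine ⟨u.isOpenEmbedding.isOpen_range, ?_⟩
  rw [← closure_subset_iff_isClosed]
  intro x hx
  obtain ⟨V, v, hyV, hv, hagree⟩ :=
    exists_section_nhd hcomp f U hU u hu (f x) (hY _) ⟨x, hx, rfl⟩
  have hVU := hmax V v hv hagree
  have hfxU : f x ∈ U := hVU hyV
  have hrange : Set.range u ⊆ Set.range (f ⁻¹ᵁ U).ι := by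
    rintro _ ⟨w, rfl⟩
    rw [Scheme.Opens.range_ι]
    change f (u w) ∈ U
    rw [← Scheme.Hom.comp_apply, hu]
    exact w.2
  let u₁ : (U : Scheme.{u}) ⟶ ((f ⁻¹ᵁ U : X.Opens) : Scheme.{u}) :=
    IsOpenImmersion.lift (f ⁻¹ᵁ U).ι u hrange
  have hu₁ : u₁ ≫ (f ⁻¹ᵁ U).ι = u := IsOpenImmersion.lift_fac _ _ _
  have hid : u₁ ≫ (f ∣_ U) = 𝟙 _ := by
    rw [← cancel_mono U.ι, Category.assoc, morphismRestrict_ι, ← Category.assoc, hu₁, hu,
      Category.id_comp]
  haveI : IsClosedImmersion (u₁ ≫ (f ∣_ U)) := by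
    rw [hid]
    infer_instance
  haveI : IsClosedImmersion u₁ := IsClosedImmersion.of_comp u₁ (f ∣_ U)
  have hcl : IsClosed (Set.range u₁) := u₁.isClosedEmbedding.isClosed_range
  let x₁ : ((f ⁻¹ᵁ U : X.Opens) : Scheme.{u}) := ⟨x, hfxU⟩
  have h1 : x₁ ∈ closure (Set.range u₁) := by
    rw [(f ⁻¹ᵁ U).ι.isOpenEmbedding.isInducing.closure_eq_preimage_closure_image]
    change x ∈ closure ((f ⁻¹ᵁ U).ι '' Set.range u₁)
    rw [← Set.range_comp]
    have : (⇑(f ⁻¹ᵁ U).ι ∘ ⇑u₁) = ⇑u := by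
      funext w
      rw [← hu₁]
      rfl
    rw [this]
    exact hx
  rw [hcl.closure_eq] at h1
  obtain ⟨w, hw⟩ := h1
  refine ⟨w, ?_⟩
  rw [← hu₁, Scheme.Hom.comp_apply, hw]
  rfl

end Groth.Agent.Lib.R2H3.RatSection
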