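import Groth.Agent.Lib.R2H3LocCohLC
import Groth.Agent.Lib.Helper9TopMV
import Groth.Prelude.Def_CechOX

/-!
# Relative Mayer–Vietoris for higher direct images of `O`-modules (helper3, round 2)

For `f : X ⟶ S` and opens `U`, `V` of `X` with `U ⊔ V = ⊤`: the functors
`TW f W = (-)|_W ⋙ (j_W)_* ⋙ f_*` and the sequence `f_* ⟶ TW U ⊞ TW V ⟶ TW (U ⊓ V)`, short exact on
injectives (`hexMV`), giving the Mayer–Vietoris long exact sequence (`mvRpush`).
-/

set_option autoImplicit false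
set_option linter.style.haveILetI false
set_option linter.unusedSectionVars false
set_option linter.unusedVariables false
universe u
open CategoryTheory CategoryTheory.Limits TopologicalSpace AlgebraicGeometry Opposite

namespace Groth.Agent.Lib.R2H3.RpushMV

open Groth.Agent.Lib.R2H3.RpushRestrict Groth.Agent.Lib.Helper23.QCohLocal

section Abstract

variable {C D : Type*} [Category C] [Category D] [Abelian C] [Abelian D]

/-- short exactness of `A ⟶ B₁ ⊞ B₂ ⟶ E` can be checked after a faithful exact functor. -/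
lemma shortExact_of_map_lift_desc (F : C ⥤ D) [F.Additive] [PreservesFiniteLimits F]
    [PreservesFiniteColimits F] [F.Faithful] {A B₁ B₂ E : C} (a₁ : A ⟶ B₁) (a₂ : A ⟶ B₂)
    (b₁ : B₁ ⟶ E) (b₂ : B₂ ⟶ E) (zero : biprod.lift a₁ a₂ ≫ biprod.desc b₁ (-b₂) = 0)
    (zero' : biprod.lift (F.map a₁) (F.map a₂) ≫ biprod.desc (F.map b₁) (-(F.map b₂)) = 0)
    (h : (ShortComplex.mk _ _ zero').ShortExact) : (ShortComplex.mk _ _ zero).ShortExact := by
  haveI : PreservesBinaryBiproducts F := preservesBinaryBiproducts_of_preservesBiproducts _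
  let e : ShortComplex.mk _ _ zero' ≅ (ShortComplex.mk _ _ zero).map F :=
    ShortComplex.isoMk (Iso.refl _) (F.mapBiprod B₁ B₂).symm (Iso.refl _) (by
      change 𝟙 _ ≫ F.map (biprod.lift a₁ a₂) = biprod.lift (F.map a₁) (F.map a₂) ≫ (F.mapBiprod B₁ B₂).inv
      rw [Category.id_comp, ← biprod.map_lift_mapBiprod, Category.assoc, Iso.hom_inv_id,
        Category.comp_id]) (by
      change (F.mapBiprod B₁ B₂).inv ≫ F.map (biprod.desc b₁ (-b₂)) =
        biprod.desc (F.map b₁) (-F.map b₂) ≫ 𝟙 _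
      rw [Category.comp_id, ← Functor.map_neg, biprod.mapBiprod_inv_map_desc])
  have h' : ((ShortComplex.mk _ _ zero).map F).ShortExact := ShortComplex.shortExact_of_iso e h
  have hex : (ShortComplex.mk _ _ zero).Exact :=
    ((ShortComplex.mk _ _ zero).exact_map_iff_of_faithful F).1 h'.exact
  haveI : Mono (F.map (biprod.lift a₁ a₂)) := h'.mono_f
  haveI : Epi (F.map (biprod.desc b₁ (-b₂))) := h'.epi_g
  haveI : Mono (biprod.lift a₁ a₂) := F.mono_of_mono_map inferInstance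
  haveI : Epi (biprod.desc b₁ (-b₂)) := F.epi_of_epi_map inferInstance
  exact ShortComplex.ShortExact.mk' hex inferInstance inferInstance

end Abstract

variable {X S : Scheme.{u}} (f : X ⟶ S)

/-- `(-)|_W ⋙ (j_W)_* ⋙ f_*`. -/
noncomputable abbrev TW (W : X.Opens) : X.Modules ⥤ S.Modules :=
  CechOX.pushRestr W ⋙ Scheme.Modules.pushforward f

/-- `f_* ⟶ TW W`. -/
noncomputable def aW (W : X.Opens) : Scheme.Modules.pushforward f ⟶ TW f W where
  app M := (Scheme.Modules.pushforward f).map ((Scheme.Modules.restrictAdjunction W.ι).unit.app M)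
  naturality M N φ := by
    dsimp only [Functor.comp_map]
    rw [← Functor.map_comp, ← Functor.map_comp]
    congr 1
    exact (Scheme.Modules.restrictAdjunction W.ι).unit.naturality φ

/-- `TW W ⟶ TW W'` for `W' ≤ W`. -/
noncomputable def bW {W W' : X.Opens} (h : W' ≤ W) : TW f W ⟶ TW f W' :=
  Functor.whiskerRight (CechOX.pushRestrMap h) (Scheme.Modules.pushforward f)

lemma aW_app_app (W : X.Opens) (M : X.Modules) (O : S.Opens) :
    ((aW f W).app M).app O = M.presheaf.map (homOfLE (W.ι.image_preimage_le (f ⁻¹ᵁ O))).op := by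
  change ((Scheme.Modules.restrictAdjunction W.ι).unit.app M).app (f ⁻¹ᵁ O) = _
  rw [Scheme.Modules.restrictAdjunction_unit_app_app]

lemma aW_apply (W : X.Opens) (M : X.Modules) (O : S.Opens)
    (x : ((Scheme.Modules.pushforward f).obj M).presheaf.obj (op O)) :
    ((aW f W).app M).app O x =
      M.presheaf.map (homOfLE (W.ι.image_preimage_le (f ⁻¹ᵁ O))).op x := by
  rw [aW_app_app]
  rfl

lemma bW_app_app {W W' : X.Opens} (h : W' ≤ W) (M : X.Modules) (O : S.Opens) :
    ((bW f h).app M).app O =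
      M.presheaf.map (homOfLE (CechOX.image_preimage_mono h (f ⁻¹ᵁ O))).op := rfl

lemma hcommMV (U V : X.Opens) :
    aW f U ≫ bW f (inf_le_left : U ⊓ V ≤ U) = aW f V ≫ bW f (inf_le_right : U ⊓ V ≤ V) := by
  ext M : 2
  apply Scheme.Modules.hom_ext
  intro O
  rw [NatTrans.comp_app, NatTrans.comp_app, Scheme.Modules.Hom.comp_app, Scheme.Modules.Hom.comp_app,
    aW_app_app, aW_app_app, bW_app_app, bW_app_app]
  exact (M.presheaf.map_comp _ _).symm.trans
    ((congrArg M.presheaf.map (Subsingleton.elim _ _)).trans (M.presheaf.map_comp _ _))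

lemma le_sup_image_preimage (U V : X.Opens) (hUV : U ⊔ V = ⊤) (O : X.Opens) :
    O ≤ U.ι ''ᵁ (U.ι ⁻¹ᵁ O) ⊔ V.ι ''ᵁ (V.ι ⁻¹ᵁ O) := by
  rw [Scheme.Hom.image_preimage_eq_opensRange_inf, Scheme.Hom.image_preimage_eq_opensRange_inf,
    Scheme.Opens.opensRange_ι, Scheme.Opens.opensRange_ι, ← inf_sup_right, hUV, top_inf_eq]

lemma inf_image_preimage_le (U V : X.Opens) (O : X.Opens) :
    U.ι ''ᵁ (U.ι ⁻¹ᵁ O) ⊓ V.ι ''ᵁ (V.ι ⁻¹ᵁ O) ≤ (U ⊓ V).ι ''ᵁ ((U ⊓ V).ι ⁻¹ᵁ O) := by
  rw [Scheme.Hom.image_preimage_eq_opensRange_inf, Scheme.Hom.image_preimage_eq_opensRange_inf,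
    Scheme.Hom.image_preimage_eq_opensRange_inf,
    Scheme.Opens.opensRange_ι, Scheme.Opens.opensRange_ι, Scheme.Opens.opensRange_ι]
  exact le_inf (inf_le_inf inf_le_left inf_le_left) (inf_le_left.trans inf_le_right)

open Groth.Agent.Lib.Helper9.TopMV in
theorem hexMV (U V : X.Opens) (hUV : U ⊔ V = ⊤) (Q : X.Modules) (hQ : Injective Q) :
    (ShortComplex.mk
      (biprod.lift ((aW f U).app Q) ((aW f V).app Q))
      (biprod.desc ((bW f (inf_le_left : U ⊓ V ≤ U)).app Q)
        (-((bW f (inf_le_right : U ⊓ V ≤ V)).app Q)))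
      (by
        have h : (aW f U).app Q ≫ (bW f (inf_le_left : U ⊓ V ≤ U)).app Q =
            (aW f V).app Q ≫ (bW f (inf_le_right : U ⊓ V ≤ V)).app Q := by
          rw [← NatTrans.comp_app, hcommMV, NatTrans.comp_app]
        rw [biprod.lift_desc, Preadditive.comp_neg, h, add_neg_cancel])).ShortExact := by
  haveI hfl : TopCat.Sheaf.IsFlasque (Coh.toAb Q) :=
    Groth.Agent.Lib.R2H3.ModLocBridge.isFlasque_toAb_of_injective Q
  let Ef : SheafOfModules.{u} S.ringCatSheaf ⥤ Sheaf (Opens.grothendieckTopology S) AddCommGrpCat.{u} :=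
    SheafOfModules.toSheaf S.ringCatSheaf
  have h : (aW f U).app Q ≫ (bW f (inf_le_left : U ⊓ V ≤ U)).app Q =
      (aW f V).app Q ≫ (bW f (inf_le_right : U ⊓ V ≤ V)).app Q := by
    rw [← NatTrans.comp_app, hcommMV, NatTrans.comp_app]
  have zero' : biprod.lift (Ef.map ((aW f U).app Q)) (Ef.map ((aW f V).app Q)) ≫
      biprod.desc (Ef.map ((bW f (inf_le_left : U ⊓ V ≤ U)).app Q))
        (-(Ef.map ((bW f (inf_le_right : U ⊓ V ≤ V)).app Q))) = 0 := by
    have h' := (Ef.map_comp _ _).symm.trans ((congrArg Ef.map h).trans (Ef.map_comp _ _))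
    rw [biprod.lift_desc, Preadditive.comp_neg, h', add_neg_cancel]
  refine shortExact_of_map_lift_desc Ef _ _ _ _ _ zero' ?_
  apply shortExact_lift_desc
  · intro W x e₁ e₂
    have e₁' : (Coh.toAb Q).obj.map (homOfLE (U.ι.image_preimage_le (f ⁻¹ᵁ W.unop))).op x = 0 :=
      (aW_apply f U Q W.unop x).symm.trans e₁
    have e₂' : (Coh.toAb Q).obj.map (homOfLE (V.ι.image_preimage_le (f ⁻¹ᵁ W.unop))).op x = 0 :=
      (aW_apply f V Q W.unop x).symm.trans e₂
    exact sec_inj (X := X.carrier) (Coh.toAb Q) _ _ (le_sup_image_preimage U V hUV _) x e₁' e₂'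
  · intro W y₁ y₂ hy
    obtain ⟨x, hx1, hx2⟩ := sec_glue (X := X.carrier) (Coh.toAb Q)
      (U.ι.image_preimage_le (f ⁻¹ᵁ W.unop)) (V.ι.image_preimage_le (f ⁻¹ᵁ W.unop))
      (le_sup_image_preimage U V hUV _)
      (CechOX.image_preimage_mono (inf_le_left : U ⊓ V ≤ U) (f ⁻¹ᵁ W.unop))
      (CechOX.image_preimage_mono (inf_le_right : U ⊓ V ≤ V) (f ⁻¹ᵁ W.unop))
      (inf_image_preimage_le U V _) y₁ y₂ hy
    refine ⟨x, ?_, ?_⟩
    · exact (aW_apply f U Q W.unop x).trans hx1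
    · exact (aW_apply f V Q W.unop x).trans hx2
  · intro W
    exact sec_surj (X := X.carrier) (Coh.toAb Q)
      (CechOX.image_preimage_mono (inf_le_left : U ⊓ V ≤ U) (f ⁻¹ᵁ W.unop))

section Derived

attribute [local instance] hasInjectiveResolutions_modules

lemma exact_of_mk₂ {𝒞 : Type*} [Category 𝒞] [Abelian 𝒞] {A B C : 𝒞} (f : A ⟶ B) (g : B ⟶ C)
    (h : (ComposableArrows.mk₂ f g).Exact) : ∃ w : f ≫ g = 0, (ShortComplex.mk f g w).Exact :=
  ⟨h.toIsComplex.zero 0, h.exact 0⟩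

/-- `R^p (TW f W) (M) ≅ R^p (j_W ≫ f)_* (M|_W)`. -/
theorem nonempty_rightDerived_TW_iso (W : X.Opens) (M : X.Modules) (p : ℕ) :
    Nonempty (((TW f W).rightDerived p).obj M ≅ (Coh.Rpush (W.ι ≫ f) p).obj (M.restrict W.ι)) := by
  have := Groth.Agent.S0484.result (Opens.grothendieckTopology X) X.ringCatSheaf
  have := Groth.Agent.S0484.result (Opens.grothendieckTopology W.toScheme) W.toScheme.ringCatSheaf
  have : EnoughInjectives X.Modules :=
    inferInstanceAs (EnoughInjectives (SheafOfModules.{u} X.ringCatSheaf))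
  have : EnoughInjectives W.toScheme.Modules :=
    inferInstanceAs (EnoughInjectives (SheafOfModules.{u} W.toScheme.ringCatSheaf))
  haveI := restrictFunctor_isRightAdjoint W.ι
  let E : X.Modules ⥤ W.toScheme.Modules := Scheme.Modules.restrictFunctor W.ι
  haveI : PreservesFiniteLimits E := by infer_instance
  haveI : PreservesFiniteColimits E := by infer_instance
  haveI : E.PreservesHomology := by infer_instance
  let G : W.toScheme.Modules ⥤ S.Modules :=
    Scheme.Modules.pushforward W.ι ⋙ Scheme.Modules.pushforward f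
  let G' : W.toScheme.Modules ⥤ S.Modules := Scheme.Modules.pushforward (W.ι ≫ f)
  let eG : G ≅ G' := Scheme.Modules.pushforwardComp W.ι f
  haveI : PreservesFiniteLimits G := comp_preservesFiniteLimits _ _
  haveI : G.Additive := by infer_instance
  have hE : ∀ I : X.Modules, Injective I → ∀ q : ℕ, 0 < q →
      IsZero ((G.rightDerived q).obj (E.obj I)) := by
    intro I hI q hq
    obtain ⟨q, rfl⟩ : ∃ k, q = k + 1 := ⟨q - 1, by omega⟩
    refine IsZero.of_iso ?_
      ((Groth.Agent.Lib.Helper21.DerPost.natIsoRightDerived eG (q + 1)).app (E.obj I))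
    exact Groth.Agent.Lib.Helper21.RelExtSS.isZero_Rpush_of_isFlasque (W.ι ≫ f) _
      (isFlasque_toAb_restrict W.ι I
        (Groth.Agent.Lib.R2H3.ModLocBridge.isFlasque_toAb_of_injective I)) q
  obtain ⟨e3⟩ := Groth.Agent.Lib.Helper21.DerAcyc.nonempty_rightDerived_comp_iso E G hE M p
  let e4 := (Groth.Agent.Lib.Helper21.DerPost.natIsoRightDerived eG p).app (E.obj M)
  exact ⟨e3 ≪≫ e4⟩

open Groth.Agent.Lib.R2H3.LocCohLC in
/-- Mayer–Vietoris step for quasi-coherence of higher direct images. -/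
theorem isQuasicoherent_Rpush_of_cover (U V : X.Opens) (hUV : U ⊔ V = ⊤) (M : X.Modules)
    (hU : ∀ p, ((Coh.Rpush (U.ι ≫ f) p).obj (M.restrict U.ι)).IsQuasicoherent)
    (hV : ∀ p, ((Coh.Rpush (V.ι ≫ f) p).obj (M.restrict V.ι)).IsQuasicoherent)
    (hW : ∀ p, ((Coh.Rpush ((U ⊓ V).ι ≫ f) p).obj (M.restrict (U ⊓ V).ι)).IsQuasicoherent)
    (p : ℕ) : ((Coh.Rpush f p).obj M).IsQuasicoherent := by
  have hU' : ∀ p, (((TW f U).rightDerived p).obj M).IsQuasicoherent := fun p => by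
    obtain ⟨e⟩ := nonempty_rightDerived_TW_iso f U M p
    exact (SheafOfModules.isQuasicoherent S.ringCatSheaf).prop_of_iso e.symm (hU p)
  have hV' : ∀ p, (((TW f V).rightDerived p).obj M).IsQuasicoherent := fun p => by
    obtain ⟨e⟩ := nonempty_rightDerived_TW_iso f V M p
    exact (SheafOfModules.isQuasicoherent S.ringCatSheaf).prop_of_iso e.symm (hV p)
  have hW' : ∀ p, (((TW f (U ⊓ V)).rightDerived p).obj M).IsQuasicoherent := fun p => by
    obtain ⟨e⟩ := nonempty_rightDerived_TW_iso f (U ⊓ V) M p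
    exact (SheafOfModules.isQuasicoherent S.ringCatSheaf).prop_of_iso e.symm (hW p)
  haveI hB : ∀ p, ((((TW f U).rightDerived p).obj M) ⊞ (((TW f V).rightDerived p).obj M)).IsQuasicoherent :=
    fun p => by
      haveI := hU' p
      haveI := hV' p
      exact isQuasicoherent_biprod _ _
  haveI := hW'
  obtain ⟨δ, hm, hex⟩ := Groth.Agent.Lib.Helper9.DerMV.mv (aW f U) (aW f V)
    (bW f (inf_le_left : U ⊓ V ≤ U)) (bW f (inf_le_right : U ⊓ V ≤ V)) (hcommMV f U V)
    (hexMV f U V hUV) M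
  rcases p with _ | n
  · obtain ⟨h2, -, -⟩ := hex 0
    obtain ⟨w2, h2'⟩ := exact_of_mk₂ _ _ h2
    exact isQuasicoherent_of_left _ _ w2 hm h2'
  · obtain ⟨-, h3, h1⟩ := hex n
    obtain ⟨h2, -, -⟩ := hex (n + 1)
    obtain ⟨w3, h3'⟩ := exact_of_mk₂ _ _ h3
    obtain ⟨w1, h1'⟩ := exact_of_mk₂ _ _ h1
    obtain ⟨w2, h2'⟩ := exact_of_mk₂ _ _ h2
    exact isQuasicoherent_of_five _ _ _ _ w3 w1 w2 h3' h1' h2'

end Derived

end Groth.Agent.Lib.R2H3.RpushMV
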