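import Groth.Agent.Lib.R2H3RpushRestrict
import Groth.Agent.Lib.R2H3RpushQCohSS
import Groth.Agent.Lib.Helper23FinTypeLocal

/-!
# Higher direct images of quasi-coherent modules along quasi-compact morphisms with affine
diagonal are quasi-coherent (helper3, round 2)

* `isQuasicoherent_Rpush_of_affineDiagonal`: for `f` quasi-compact with affine diagonal (e.g. `f`
  quasi-compact and separated, in particular a quasi-compact open immersion) and `M`
  quasi-coherent, `R^p f_* M` is quasi-coherent.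
-/

set_option autoImplicit false
set_option linter.style.haveILetI false
set_option linter.unusedSectionVars false
set_option linter.unusedVariables false
universe u
open CategoryTheory CategoryTheory.Limits TopologicalSpace AlgebraicGeometry Opposite

namespace Groth.Agent.Lib.R2H3.RpushQCohSep

open Groth.Agent.Lib.R2H3.RpushRestrict Groth.Agent.Lib.R2H3.RpushQCohSS

variable {X S : Scheme.{u}} (f : X ⟶ S) [QuasiCompact f] [IsAffineHom (pullback.diagonal f)]
  [HasInjectiveResolutions X.Modules]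

theorem isQuasicoherent_Rpush_of_affineDiagonal (M : X.Modules) [M.IsQuasicoherent] (p : ℕ) :
    ((Coh.Rpush f p).obj M).IsQuasicoherent := by
  refine Groth.Agent.Lib.Helper23.FinType.isQuasicoherent_of_open_cover _
    (fun V : S.affineOpens => V.1) (iSup_affineOpens_eq_top S) (fun V => ?_)
  haveI := hasInjectiveResolutions_modules (f ⁻¹ᵁ V.1).toScheme
  obtain ⟨e⟩ := nonempty_Rpush_restrict_iso f V.1 M p
  haveI : IsAffine (V.1 : Scheme.{u}) := V.2
  haveI : CompactSpace ((f ⁻¹ᵁ V.1 : X.Opens) : Scheme.{u}) :=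
    isCompact_iff_compactSpace.1 (f.isCompact_preimage V.2.isCompact)
  have hd : ∀ A B : ((f ⁻¹ᵁ V.1 : X.Opens) : Scheme.{u}).Opens, IsAffineOpen A → IsAffineOpen B →
      IsAffineOpen (A ⊓ B) := by
    intro A B hA hB
    have himg : (f ⁻¹ᵁ V.1).ι ''ᵁ (A ⊓ B) = (f ⁻¹ᵁ V.1).ι ''ᵁ A ⊓ (f ⁻¹ᵁ V.1).ι ''ᵁ B :=
      Opens.ext (Set.image_inter (f ⁻¹ᵁ V.1).ι.isOpenEmbedding.injective)
    rw [← Scheme.Hom.isAffineOpen_iff_of_isOpenImmersion (f ⁻¹ᵁ V.1).ι, himg]
    refine isAffineHom_diagonal_iff.mp ‹_› V.1 V.2 _ ?_ _ ?_ ?_ ?_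
    · exact (Scheme.Hom.image_le_opensRange _ A).trans (Scheme.Opens.opensRange_ι _).le
    · exact (Scheme.Hom.image_le_opensRange _ B).trans (Scheme.Opens.opensRange_ι _).le
    · exact (Scheme.Hom.isAffineOpen_iff_of_isOpenImmersion (f ⁻¹ᵁ V.1).ι).2 hA
    · exact (Scheme.Hom.isAffineOpen_iff_of_isOpenImmersion (f ⁻¹ᵁ V.1).ι).2 hB
  haveI : (M.restrict (f ⁻¹ᵁ V.1).ι).IsQuasicoherent :=
    Scheme.Modules.isQuasicoherent_restrictFunctor (f ⁻¹ᵁ V.1).ι M
  have h := isQuasicoherent_Rpush_of_affine (f ∣_ V.1) hd p (M.restrict (f ⁻¹ᵁ V.1).ι)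
  exact (SheafOfModules.isQuasicoherent (V.1 : Scheme.{u}).ringCatSheaf).prop_of_iso e.symm h

end Groth.Agent.Lib.R2H3.RpushQCohSep
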