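import Mathlib
import Groth.Prelude.Def_CInt

/-!
# Schematically dense open subschemes (helper3, round 2)

Basic facts about `CInt.IsSchematicallyDense`: it implies topological density, it restricts to open
subschemes, and morphisms to an affine scheme (or, with topological agreement, to any scheme) are
determined by their restriction to a schematically dense open.
-/

set_option autoImplicit false
set_option linter.style.haveILetI false
set_option linter.unusedVariables false
set_option linter.unusedSectionVars false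

universe u

open CategoryTheory AlgebraicGeometry CategoryTheory.Limits

namespace Groth.Agent.Lib.R2H3.SchDense

variable {X : Scheme.{u}} {U : X.Opens}

lemma inj_of_dense (hU : CInt.IsSchematicallyDense U) (V V' : X.Opens) (hle : V' ≤ V)
    (heq : V' = V ⊓ U) : Function.Injective (X.presheaf.map (homOfLE hle).op) := by
  subst heq
  exact hU V

/-- a schematically dense open is dense. -/
theorem dense_of_isSchematicallyDense (hU : CInt.IsSchematicallyDense U) :
    Dense (U : Set X) := by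
  rw [dense_iff_inter_open]
  intro V hV hne
  by_contra hemp
  rw [Set.not_nonempty_iff_eq_empty] at hemp
  obtain ⟨V', hV'⟩ : ∃ V' : X.Opens, (V' : Set X) = V := ⟨⟨V, hV⟩, rfl⟩
  have hbot : V' ⊓ U = ⊥ := by
    ext x
    simp only [TopologicalSpace.Opens.coe_inf, TopologicalSpace.Opens.coe_bot, hV', hemp]
  have hinj := inj_of_dense hU V' ⊥ bot_le hbot.symm
  have h01 : (0 : Γ(X, V')) = 1 := hinj (Subsingleton.elim _ _)
  have h1 : X.basicOpen (1 : Γ(X, V')) = V' := X.basicOpen_of_isUnit isUnit_one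
  rw [← h01, Scheme.basicOpen_zero] at h1
  rw [← hV', ← h1] at hne
  simp at hne

/-- restriction of a schematically dense open to an open subscheme. -/
theorem restrict (hU : CInt.IsSchematicallyDense U) (V : X.Opens) :
    CInt.IsSchematicallyDense (V.ι ⁻¹ᵁ U) := by
  intro V'
  rw [Scheme.Opens.toScheme_presheaf_map]
  apply inj_of_dense hU
  ext x
  constructor
  · rintro ⟨y, hy, rfl⟩
    exact ⟨⟨y, hy.1, rfl⟩, hy.2⟩
  · rintro ⟨⟨y, hy, rfl⟩, hx⟩
    exact ⟨y, ⟨hy, hx⟩, rfl⟩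

/-- transport along an isomorphism. -/
theorem of_iso {X' : Scheme.{u}} (φ : X' ⟶ X) [IsIso φ]
    (hU : CInt.IsSchematicallyDense (φ ⁻¹ᵁ U)) : CInt.IsSchematicallyDense U := by
  intro V a b hab
  have hinj : Function.Injective (φ.app V) :=
    (ConcreteCategory.bijective_of_isIso (φ.app V)).1
  apply hinj
  apply hU (φ ⁻¹ᵁ V)
  have h1 := φ.naturality (homOfLE (inf_le_left : V ⊓ U ≤ V)).op
  have h2 : ∀ c : Γ(X, V), (X'.presheaf.map (homOfLE (inf_le_left : φ ⁻¹ᵁ V ⊓ φ ⁻¹ᵁ U ≤ φ ⁻¹ᵁ V)).op)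
      (φ.app V c) = φ.app (V ⊓ U) (X.presheaf.map (homOfLE (inf_le_left : V ⊓ U ≤ V)).op c) := by
    intro c
    exact (congrArg (fun k => k.hom c) h1).symm
  rw [h2, h2, hab]

/-- morphisms to an affine scheme are determined by their restriction to a schematically dense
open. -/
theorem hom_ext_affine (hU : CInt.IsSchematicallyDense U) {W : Scheme.{u}} [IsAffine W]
    (f g : X ⟶ W) (h : U.ι ≫ f = U.ι ≫ g) : f = g := by
  apply ext_of_isAffine
  have h1 : f.appTop ≫ U.ι.appTop = g.appTop ≫ U.ι.appTop := by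
    rw [← Scheme.Hom.comp_appTop, ← Scheme.Hom.comp_appTop, h]
  have hinj : Function.Injective U.ι.appTop := by
    rw [Scheme.Opens.ι_appTop]
    apply inj_of_dense hU
    rw [Scheme.Opens.ι_image_top, top_inf_eq]
  ext a
  apply hinj
  exact congrArg (fun k => k.hom a) h1

/-- morphisms which agree on points are determined by their restriction to a schematically dense
open. -/
theorem hom_ext_of_apply_eq (hU : CInt.IsSchematicallyDense U) {Y : Scheme.{u}}
    (f g : X ⟶ Y) (hpt : ∀ x : X, f x = g x) (h : U.ι ≫ f = U.ι ≫ g) : f = g := by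
  apply Scheme.hom_ext_of_forall
  intro x
  obtain ⟨W, hW, hxW⟩ : ∃ W : Y.Opens, IsAffineOpen W ∧ f x ∈ W := by
    obtain ⟨W, hW, hxW, -⟩ := TopologicalSpace.Opens.isBasis_iff_nbhd.mp
      (Y.isBasis_affineOpens) (U := ⊤) (x := f x) trivial
    exact ⟨W, hW, hxW⟩
  obtain ⟨X₁, hX₁⟩ : ∃ X₁ : X.Opens, X₁ = f ⁻¹ᵁ W ⊓ g ⁻¹ᵁ W := ⟨_, rfl⟩
  have hx₁ : x ∈ X₁ := by
    rw [hX₁]
    refine ⟨hxW, ?_⟩
    change g x ∈ W
    rw [← hpt]
    exact hxW
  have hle1 : X₁ ≤ f ⁻¹ᵁ W := by rw [hX₁]; exact inf_le_left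
  have hle2 : X₁ ≤ g ⁻¹ᵁ W := by rw [hX₁]; exact inf_le_right
  refine ⟨X₁, hx₁, ?_⟩
  haveI : IsAffine W.toScheme := hW
  have hrf : Set.range (X₁.ι ≫ f) ⊆ Set.range W.ι := by
    rintro _ ⟨t, rfl⟩
    rw [Scheme.Opens.range_ι, Scheme.Hom.comp_apply]
    have : (X₁.ι t) ∈ X₁ := t.2
    exact hle1 this
  have hrg : Set.range (X₁.ι ≫ g) ⊆ Set.range W.ι := by
    rintro _ ⟨t, rfl⟩
    rw [Scheme.Opens.range_ι, Scheme.Hom.comp_apply]
    have : (X₁.ι t) ∈ X₁ := t.2
    exact hle2 this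
  obtain ⟨f₁, hf₁⟩ : ∃ f₁ : X₁.toScheme ⟶ W.toScheme, f₁ ≫ W.ι = X₁.ι ≫ f :=
    ⟨IsOpenImmersion.lift W.ι (X₁.ι ≫ f) hrf, IsOpenImmersion.lift_fac _ _ _⟩
  obtain ⟨g₁, hg₁⟩ : ∃ g₁ : X₁.toScheme ⟶ W.toScheme, g₁ ≫ W.ι = X₁.ι ≫ g :=
    ⟨IsOpenImmersion.lift W.ι (X₁.ι ≫ g) hrg, IsOpenImmersion.lift_fac _ _ _⟩
  have key : f₁ = g₁ := by
    apply hom_ext_affine (restrict hU X₁)
    rw [← cancel_mono W.ι, Category.assoc, Category.assoc, hf₁, hg₁, ← Category.assoc,
      ← Category.assoc, ← morphismRestrict_ι, Category.assoc, Category.assoc, h]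
  rw [← hf₁, ← hg₁, key]

/-- two `S`-morphisms to an `S`-scheme with separated fibres which agree on a universally
schematically dense open agree on points. -/
theorem apply_eq_of_separated_fibres {S : Scheme.{u}} (X Y : Over S) (U : X.left.Opens)
    (hU : ∀ (S' : Scheme.{u}) (g : S' ⟶ S),
      CInt.IsSchematicallyDense ((pullback.fst X.hom g) ⁻¹ᵁ U))
    (hY : ∀ s : S, IsSeparated (pullback.snd Y.hom (S.fromSpecResidueField s)))
    (f g : X ⟶ Y) (h : U.ι ≫ f.left = U.ι ≫ g.left) (x : X.left) : f.left x = g.left x := by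
  obtain ⟨s, hs⟩ : ∃ s : S, s = X.hom x := ⟨_, rfl⟩
  obtain ⟨σ, hσ⟩ : ∃ σ : Spec (S.residueField s) ⟶ S, σ = S.fromSpecResidueField s := ⟨_, rfl⟩
  -- the fibres
  obtain ⟨X', hX'⟩ : ∃ X' : Over (Spec (S.residueField s)), X' = Over.mk (pullback.snd X.hom σ) :=
    ⟨_, rfl⟩
  obtain ⟨Y', hY'⟩ : ∃ Y' : Over (Spec (S.residueField s)), Y' = Over.mk (pullback.snd Y.hom σ) :=
    ⟨_, rfl⟩
  subst hX' hY'
  obtain ⟨f', hf'⟩ : ∃ f' : Over.mk (pullback.snd X.hom σ) ⟶ Over.mk (pullback.snd Y.hom σ),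
      f'.left ≫ pullback.fst Y.hom σ = pullback.fst X.hom σ ≫ f.left := by
    refine ⟨Over.homMk (pullback.map X.hom σ Y.hom σ f.left (𝟙 _) (𝟙 _) (by simp) (by simp))
      ((pullback.lift_snd _ _ _).trans (Category.comp_id _)), ?_⟩
    exact pullback.lift_fst _ _ _
  obtain ⟨g', hg'⟩ : ∃ g' : Over.mk (pullback.snd X.hom σ) ⟶ Over.mk (pullback.snd Y.hom σ),
      g'.left ≫ pullback.fst Y.hom σ = pullback.fst X.hom σ ≫ g.left := by
    refine ⟨Over.homMk (pullback.map X.hom σ Y.hom σ g.left (𝟙 _) (𝟙 _) (by simp) (by simp))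
      ((pullback.lift_snd _ _ _).trans (Category.comp_id _)), ?_⟩
    exact pullback.lift_fst _ _ _
  haveI : IsSeparated (Over.mk (pullback.snd Y.hom σ)).hom := by
    rw [hσ]
    exact hY s
  obtain ⟨Us, hUs⟩ : ∃ Us : (pullback X.hom σ).Opens, Us = (pullback.fst X.hom σ) ⁻¹ᵁ U :=
    ⟨_, rfl⟩
  have hdense : Dense (Us : Set ↥(pullback X.hom σ)) := by
    rw [hUs]
    exact dense_of_isSchematicallyDense (hU _ σ)
  -- the equalizer contains `Us`
  obtain ⟨u', hu'⟩ : ∃ u' : Over.mk (Us.ι ≫ pullback.snd X.hom σ) ⟶ Over.mk (pullback.snd X.hom σ),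
      u'.left = Us.ι := ⟨Over.homMk Us.ι rfl, rfl⟩
  have hu'fg : u' ≫ f' = u' ≫ g' := by
    apply Over.OverMorphism.ext
    rw [Over.comp_left, Over.comp_left, hu']
    apply pullback.hom_ext
    · rw [Category.assoc, Category.assoc, hf', hg']
      subst hUs
      rw [← Category.assoc, ← Category.assoc, ← morphismRestrict_ι, Category.assoc, Category.assoc, h]
    · rw [Category.assoc, Category.assoc]
      have h1 := Over.w f'
      have h2 := Over.w g'
      simp only [Over.mk_hom] at h1 h2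
      rw [h1, h2]
  have hrange : (Us : Set ↥(pullback X.hom σ)) ⊆ Set.range (equalizer.ι f' g').left := by
    intro z hz
    have h1 := equalizer.lift_ι u' hu'fg
    have h2 := congrArg (fun k => k.left) h1
    simp only [Over.comp_left] at h2
    rw [hu'] at h2
    obtain ⟨z', hz'⟩ : z ∈ Set.range Us.ι := by
      rw [Scheme.Opens.range_ι]
      exact hz
    refine ⟨(equalizer.lift u' hu'fg).left z', ?_⟩
    rw [← Scheme.Hom.comp_apply, h2, hz']
  have hclosed : IsClosed (Set.range (equalizer.ι f' g').left) :=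
    (equalizer.ι f' g').left.isClosedEmbedding.isClosed_range
  have huniv : Set.range (equalizer.ι f' g').left = Set.univ := by
    apply Set.eq_univ_of_univ_subset
    rw [← hdense.closure_eq]
    exact hclosed.closure_subset_iff.mpr hrange
  -- a point of the fibre over `x`
  obtain ⟨x', hx'⟩ : ∃ x' : ↥(pullback X.hom σ), pullback.fst X.hom σ x' = x := by
    have h1 := Scheme.Hom.range_fiberι X.hom s
    have h2 : x ∈ X.hom ⁻¹' {s} := hs.symm
    rw [← h1] at h2
    obtain ⟨x', hx'⟩ := h2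
    subst hσ
    exact ⟨x', hx'⟩
  obtain ⟨e, he⟩ : x' ∈ Set.range (equalizer.ι f' g').left := by
    rw [huniv]
    trivial
  have hfg : f'.left x' = g'.left x' := by
    rw [← he, ← Scheme.Hom.comp_apply, ← Scheme.Hom.comp_apply, ← Over.comp_left, ← Over.comp_left,
      equalizer.condition]
  rw [← hx', ← Scheme.Hom.comp_apply, ← Scheme.Hom.comp_apply, ← hf', ← hg', Scheme.Hom.comp_apply,
    Scheme.Hom.comp_apply, hfg]

end Groth.Agent.Lib.R2H3.SchDense
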