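import Groth.Agent.Lib.R2H3ExtStalk
import Groth.Agent.Lib.R2H2SheafHomExt
import Groth.Agent.Lib.R2H3RpushRestrict
import Groth.Agent.Lib.R2H3DualEnd
import Groth.Agent.Lib.Helper28DepthSk
set_option backward.isDefEq.respectTransparency.types false

/-!
# Stalks of the sheaf Hom of a coherent module (helper3, round 2)

Namespace `Groth.Agent.Lib.R2H3.SheafHomStalk`.

* `sheafHomIsoExtZero` : `ℋom(F, G) ≅ ℰxt^0(F, G)` for the prelude's `DCoh.sheafHom`.
* `nonempty_stalk_sheafHom_linearEquiv` : `X` locally Noetherian, `F` coherent, `G` quasi-coherent: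
  `ℋom(F, G)_x ≃ₗ[O_x] Hom_{O_x}(F_x, G_x)`.
-/

set_option autoImplicit false
set_option linter.style.haveILetI false
universe u

open CategoryTheory AlgebraicGeometry TopologicalSpace Opposite Limits

namespace Groth.Agent.Lib.R2H3.SheafHomStalk

variable {X : Scheme.{u}}

/-- `ℋom(F, G) ≅ ℰxt^0(F, G)` -/
noncomputable def sheafHomIsoExtZero [HasInjectiveResolutions (ModSite.Mod X.sheaf)]
    (F G : X.Modules) [DCoh.HasSheafHom F] [ModSite.HasSheafHom (O := X.sheaf) F] :
    (DCoh.sheafHom F).obj G ≅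
      (show X.Modules from (ModSite.extSh (O := X.sheaf) F 0).obj G) :=
  haveI : PreservesFiniteLimits (ModSite.sheafHom (O := X.sheaf) F) := by
    have : PreservesLimitsOfSize.{0, 0} (ModSite.sheafHom (O := X.sheaf) F) :=
      (ModSite.sheafHomAdj (O := X.sheaf) F).rightAdjoint_preservesLimits
    infer_instance
  (show (DCoh.sheafHom F).obj G ≅
      (show X.Modules from (ModSite.sheafHom (O := X.sheaf) F).obj G) from
    (Groth.Agent.Lib.R2H2.SheafHomExt.sheafHomIso F).app G) ≪≫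
  (show (show X.Modules from (ModSite.sheafHom (O := X.sheaf) F).obj G) ≅
      (show X.Modules from (ModSite.extSh (O := X.sheaf) F 0).obj G) from
    ((Functor.rightDerivedZeroIsoSelf (ModSite.sheafHom (O := X.sheaf) F)).app G).symm)

variable [IsLocallyNoetherian X]

theorem nonempty_stalk_sheafHom_linearEquiv (F G : X.Modules) (hF : Coh.IsCoh F)
    [G.IsQuasicoherent] [DCoh.HasSheafHom F] (x : X) :
    Nonempty (((DCoh.sheafHom F).obj G).presheaf.stalk x ≃ₗ[X.presheaf.stalk x]
      (F.presheaf.stalk x →ₗ[X.presheaf.stalk x] G.presheaf.stalk x)) := by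
  letI : HasInjectiveResolutions (ModSite.Mod X.sheaf) :=
    Groth.Agent.Lib.R2H3.RpushRestrict.hasInjectiveResolutions_modules X
  haveI : ModSite.HasSheafHom (O := X.sheaf) F :=
    Groth.Agent.Lib.Helper21.ExtShDelta.hasSheafHom _ _
  obtain ⟨e⟩ := Groth.Agent.Lib.R2H3.ExtStalk.nonempty_stalk_extSh_linearEquiv F G hF x 0
  let e0 := Groth.Agent.Lib.R2H3.DualEnd.stalkEquiv (sheafHomIsoExtZero F G) x
  let e1 : Abelian.Ext.{u} (ModuleCat.of (X.presheaf.stalk x) (F.presheaf.stalk x))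
      (ModuleCat.of (X.presheaf.stalk x) (G.presheaf.stalk x)) 0 ≃ₗ[X.presheaf.stalk x]
      (ModuleCat.of (X.presheaf.stalk x) (F.presheaf.stalk x) ⟶
        ModuleCat.of (X.presheaf.stalk x) (G.presheaf.stalk x)) :=
    Abelian.Ext.linearEquiv₀
  let e2 : (ModuleCat.of (X.presheaf.stalk x) (F.presheaf.stalk x) ⟶
        ModuleCat.of (X.presheaf.stalk x) (G.presheaf.stalk x)) ≃ₗ[X.presheaf.stalk x]
      (F.presheaf.stalk x →ₗ[X.presheaf.stalk x] G.presheaf.stalk x) :=
    ModuleCat.homLinearEquiv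
  exact ⟨e0.trans (e.trans (e1.trans e2))⟩

end Groth.Agent.Lib.R2H3.SheafHomStalk
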