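import Mathlib
import Groth.Prelude.Def_SpSeq
import Groth.Agent.Lib.Helper10SpSeq

/-!
# Convergence of the spectral sequence of a filtered complex under cohomological finiteness
(helper3, round 2)

If `H^n(F^p K) = 0` for `p ≫ 0` and `H^n(F^p K) ≅ H^n(K)` for `p ≪ 0` (bounds depending on `n`),
then the spectral sequence of `K` is bounded from page 1, the filtrations on cohomology are finite,
and the spectral sequence converges.  All diagram chases are done with refinements.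
-/

set_option autoImplicit false
set_option linter.style.haveILetI false
set_option linter.unusedSectionVars false
universe v u
open CategoryTheory CategoryTheory.Limits SpSeq

namespace Groth.Agent.Lib.R2H3.SpSeqConv

variable {A : Type u} [Category.{v} A] [Abelian A]

lemma factors_of_epi_comp {X T T' : A} (S : Subobject X) (x : T ⟶ X) (π : T' ⟶ T) [Epi π]
    (h : S.Factors (π ≫ x)) : S.Factors x := by
  haveI : StrongEpi π := strongEpi_of_epi π
  have sq : CommSq (S.factorThru (π ≫ x) h) π S.arrow x := ⟨by simp⟩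
  have := sq.fac_right
  rw [← this]
  exact Subobject.factors_comp_arrow _

/-- criterion for `S ≤ U` by a refinement of the generic element -/
lemma le_of_refinement {X : A} (S U : Subobject X)
    (h : ∃ (T' : A) (π : T' ⟶ (S : A)) (_ : Epi π), U.Factors (π ≫ S.arrow)) : S ≤ U := by
  obtain ⟨T', π, _, hf⟩ := h
  exact Subobject.le_of_factors (factors_of_epi_comp U S.arrow π hf)

lemma image_factors_iff {X Y T : A} (g : X ⟶ Y) (x : T ⟶ Y) :
    (imageSubobject g).Factors x ↔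
      ∃ (T' : A) (π : T' ⟶ T) (_ : Epi π) (y : T' ⟶ X), π ≫ x = y ≫ g := by
  constructor
  · intro h
    obtain ⟨T', π, hπ, y, hy⟩ := surjective_up_to_refinements_of_epi (factorThruImageSubobject g)
      ((imageSubobject g).factorThru x h)
    refine ⟨T', π, hπ, y, ?_⟩
    have := congrArg (fun t => t ≫ (imageSubobject g).arrow) hy
    simpa using this
  · rintro ⟨T', π, hπ, y, hy⟩
    apply factors_of_epi_comp _ x π
    rw [hy]
    exact imageSubobject_factors_comp_self g y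

variable (K : SpSeq.FilCx A)

/-- the subcomplex `F^p K` -/
noncomputable abbrev L (p : ℤ) : CochainComplex A ℤ := ((K.fil p : Subobject K.obj) : CochainComplex A ℤ)

/-- the inclusion `F^p K^n ⟶ K^n` -/
noncomputable abbrev ι (p n : ℤ) : (L K p).X n ⟶ K.obj.X n := (K.fil p).arrow.f n

instance (p n : ℤ) : Mono (ι K p n) := inferInstance

lemma ι_d (p n m : ℤ) : ι K p n ≫ K.obj.d n m = (L K p).d n m ≫ ι K p m :=
  (K.fil p).arrow.comm n m

lemma filX_factors_iff (p n : ℤ) {T : A} (x : T ⟶ K.obj.X n) :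
    (K.filX p n).Factors x ↔ ∃ a : T ⟶ (L K p).X n, a ≫ ι K p n = x := by
  unfold FilCx.filX
  rw [Subobject.mk_factors_iff]
  rfl

lemma filX_factors (p n : ℤ) {T : A} (a : T ⟶ (L K p).X n) : (K.filX p n).Factors (a ≫ ι K p n) :=
  (filX_factors_iff K p n _).2 ⟨a, rfl⟩

lemma filX_factors_of_le {p q : ℤ} (h : p ≤ q) (n : ℤ) {T : A} (a : T ⟶ (L K q).X n) :
    (K.filX p n).Factors (a ≫ ι K q n) :=
  Subobject.factors_of_le _ (K.filX_anti n h) (filX_factors K q n a)

/-- a cycle of `K` lying in `F^p` is a cycle of `F^p K` -/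
lemma cycle_of_cycle (p n m : ℤ) {T : A} (a : T ⟶ (L K p).X n)
    (h : (a ≫ ι K p n) ≫ K.obj.d n m = 0) : a ≫ (L K p).d n m = 0 := by
  rw [← cancel_mono (ι K p m), Category.assoc, ← ι_d, ← Category.assoc, h, zero_comp]

/-- Lemma A: exactness of `F^q K` at `m` -/
lemma lemA (q m : ℤ) (hz : IsZero ((L K q).homology m)) {T : A} (z : T ⟶ (L K q).X m)
    (hzc : z ≫ (L K q).d m (m + 1) = 0) :
    ∃ (T' : A) (π : T' ⟶ T) (_ : Epi π) (w : T' ⟶ (L K q).X (m - 1)),
      π ≫ z = w ≫ (L K q).d (m - 1) m := by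
  have hex : (L K q).ExactAt m := (HomologicalComplex.exactAt_iff_isZero_homology _ _).2 hz
  rw [HomologicalComplex.exactAt_iff_exact_up_to_refinements (L K q) (m - 1) m (m + 1)
    (by simp) (by simp)] at hex
  exact hex z hzc

/-- Lemma B: injectivity of `H^m(F^q K) ⟶ H^m(K)` -/
lemma lemB (q m : ℤ) (hm : Mono (HomologicalComplex.homologyMap (K.fil q).arrow m)) {T : A}
    (z : T ⟶ (L K q).X m) (hzc : z ≫ (L K q).d m (m + 1) = 0) (y : T ⟶ K.obj.X (m - 1))
    (hy : z ≫ ι K q m = y ≫ K.obj.d (m - 1) m) :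
    ∃ (T' : A) (π : T' ⟶ T) (_ : Epi π) (w : T' ⟶ (L K q).X (m - 1)),
      π ≫ z = w ≫ (L K q).d (m - 1) m := by
  rw [HomologicalComplex.mono_homologyMap_iff_up_to_refinements (K.fil q).arrow (m - 1) m (m + 1)
    (by simp) (by simp)] at hm
  exact hm z hzc y hy

/-- Lemma C: surjectivity of `H^m(F^q K) ⟶ H^m(K)` -/
lemma lemC (q m : ℤ) (hm : Epi (HomologicalComplex.homologyMap (K.fil q).arrow m)) {T : A}
    (y : T ⟶ K.obj.X m) (hyc : y ≫ K.obj.d m (m + 1) = 0) :
    ∃ (T' : A) (π : T' ⟶ T) (_ : Epi π) (z : T' ⟶ (L K q).X m)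
      (_ : z ≫ (L K q).d m (m + 1) = 0) (w : T' ⟶ K.obj.X (m - 1)),
      π ≫ y = z ≫ ι K q m + w ≫ K.obj.d (m - 1) m := by
  rw [HomologicalComplex.epi_homologyMap_iff_up_to_refinements (K.fil q).arrow (m - 1) m (m + 1)
    (by simp) (by simp)] at hm
  exact hm y hyc

/-- (C1) -/
lemma c1 (p q n : ℤ) (hpq : p + 1 ≤ q) (hz : IsZero ((L K q).homology (n + 1))) :
    K.filX p n ⊓ (Subobject.pullback (K.obj.d n (n + 1))).obj (K.filX q (n + 1)) ≤
      (K.filX p n ⊓ kernelSubobject (K.obj.d n (n + 1))) ⊔ K.filX (p + 1) n := by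
  set S := K.filX p n ⊓ (Subobject.pullback (K.obj.d n (n + 1))).obj (K.filX q (n + 1)) with hS
  have h1 : (K.filX p n).Factors S.arrow := Subobject.inf_arrow_factors_left _ _
  have h2 : ((Subobject.pullback (K.obj.d n (n + 1))).obj (K.filX q (n + 1))).Factors S.arrow :=
    Subobject.inf_arrow_factors_right _ _
  rw [Limits.pullback_factors_iff] at h2
  obtain ⟨b, hb⟩ := (filX_factors_iff K q (n + 1) _).1 h2
  have hbc : b ≫ (L K q).d (n + 1) (n + 1 + 1) = 0 := by
    apply cycle_of_cycle K q (n + 1) (n + 1 + 1) b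
    rw [hb, Category.assoc, K.obj.d_comp_d, comp_zero]
  obtain ⟨T', π, hπ, w, hw⟩ := lemA K q (n + 1) hz b hbc
  have hn : n + 1 - 1 = n := by ring
  -- transport `w` to degree `n`
  obtain ⟨w', hw'⟩ : ∃ w' : T' ⟶ (L K q).X n, π ≫ b = w' ≫ (L K q).d n (n + 1) := by
    clear_value S
    revert w
    rw [hn]
    intro w hw
    exact ⟨w, hw⟩
  apply le_of_refinement
  refine ⟨T', π, hπ, ?_⟩
  have hdecomp : π ≫ S.arrow = (π ≫ S.arrow - w' ≫ ι K q n) + w' ≫ ι K q n := by abel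
  rw [hdecomp]
  apply Subobject.factors_add
  · apply Subobject.sup_factors_of_factors_left
    rw [Subobject.inf_factors]
    constructor
    · have : π ≫ S.arrow - w' ≫ ι K q n = π ≫ S.arrow + (-w') ≫ ι K q n := by
        rw [Preadditive.neg_comp]; abel
      rw [this]
      apply Subobject.factors_add
      · exact Subobject.factors_of_factors_right _ h1
      · exact filX_factors_of_le K (by omega) n _
    · rw [Limits.kernelSubobject_factors_iff, Preadditive.sub_comp, Category.assoc, Category.assoc,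
        ← hb, ← Category.assoc, hw', Category.assoc, ι_d, sub_self]
  · apply Subobject.sup_factors_of_factors_right
    exact filX_factors_of_le K hpq n _

/-- (C3') -/
lemma c3 (p q n : ℤ) (hq : q = p) (hz : IsZero ((L K p).homology n)) :
    K.filX p n ⊓ kernelSubobject (K.obj.d n (n + 1)) ≤
      imageSubobject ((K.filX q (n - 1)).arrow ≫ K.obj.d (n - 1) n) := by
  subst hq
  set S := K.filX q n ⊓ kernelSubobject (K.obj.d n (n + 1)) with hS
  have h1 : (K.filX q n).Factors S.arrow := Subobject.inf_arrow_factors_left _ _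
  have h2 : (kernelSubobject (K.obj.d n (n + 1))).Factors S.arrow :=
    Subobject.inf_arrow_factors_right _ _
  rw [Limits.kernelSubobject_factors_iff] at h2
  obtain ⟨a, ha⟩ := (filX_factors_iff K q n _).1 h1
  have hac : a ≫ (L K q).d n (n + 1) = 0 := by
    apply cycle_of_cycle K q n (n + 1) a
    rw [ha, h2]
  obtain ⟨T', π, hπ, w, hw⟩ := lemA K q n hz a hac
  apply le_of_refinement
  refine ⟨T', π, hπ, ?_⟩
  rw [image_factors_iff]
  obtain ⟨c, hc⟩ := (filX_factors_iff K q (n - 1) _).1 (K.filX q (n - 1)).factors_self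
  refine ⟨T', 𝟙 _, inferInstance, (K.filX q (n - 1)).factorThru (w ≫ ι K q (n - 1))
    (filX_factors K q (n - 1) w), ?_⟩
  rw [Category.id_comp, ← Category.assoc (Subobject.factorThru _ _ _), Subobject.factorThru_arrow,
    Category.assoc, ι_d, ← Category.assoc, ← hw, Category.assoc, ha]

/-- an element of `F^q K^{n-1}` followed by `d` lies in the image subobject -/
lemma image_fil_factors (q n : ℤ) {T : A} (w : T ⟶ (L K q).X (n - 1)) :
    (imageSubobject ((K.filX q (n - 1)).arrow ≫ K.obj.d (n - 1) n)).Factors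
      (w ≫ (L K q).d (n - 1) n ≫ ι K q n) := by
  rw [image_factors_iff]
  refine ⟨T, 𝟙 _, inferInstance, (K.filX q (n - 1)).factorThru (w ≫ ι K q (n - 1))
    (filX_factors K q (n - 1) w), ?_⟩
  rw [Category.id_comp, ← Category.assoc (Subobject.factorThru _ _ _), Subobject.factorThru_arrow,
    Category.assoc, ι_d]

/-- (C2) -/
lemma c2 (p q n : ℤ) (hqp : q ≤ p)
    (hm : Mono (HomologicalComplex.homologyMap (K.fil q).arrow n)) :
    K.filX p n ⊓ imageSubobject (K.obj.d (n - 1) n) ≤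
      K.filX p n ⊓ imageSubobject ((K.filX q (n - 1)).arrow ≫ K.obj.d (n - 1) n) := by
  refine le_inf inf_le_left ?_
  set S := K.filX p n ⊓ imageSubobject (K.obj.d (n - 1) n) with hS
  have h1 : (K.filX q n).Factors S.arrow :=
    Subobject.factors_of_le _ (K.filX_anti n hqp) (Subobject.inf_arrow_factors_left _ _)
  have h2 : (imageSubobject (K.obj.d (n - 1) n)).Factors S.arrow :=
    Subobject.inf_arrow_factors_right _ _
  rw [image_factors_iff] at h2
  obtain ⟨T₁, π₁, hπ₁, y, hy⟩ := h2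
  obtain ⟨a, ha⟩ := (filX_factors_iff K q n _).1 h1
  have hac : (π₁ ≫ a) ≫ (L K q).d n (n + 1) = 0 := by
    apply cycle_of_cycle K q n (n + 1) (π₁ ≫ a)
    have : (π₁ ≫ a) ≫ ι K q n = y ≫ K.obj.d (n - 1) n := by rw [Category.assoc, ha, hy]
    rw [this, Category.assoc, K.obj.d_comp_d, comp_zero]
  obtain ⟨T₂, π₂, hπ₂, w, hw⟩ := lemB K q n hm (π₁ ≫ a) hac y (by rw [Category.assoc, ha, hy])
  apply le_of_refinement
  refine ⟨T₂, π₂ ≫ π₁, epi_comp _ _, ?_⟩
  have : (π₂ ≫ π₁) ≫ S.arrow = w ≫ (L K q).d (n - 1) n ≫ ι K q n := by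
    rw [← Category.assoc w, ← hw, Category.assoc, Category.assoc, Category.assoc, ha]
  rw [this]
  exact image_fil_factors K q n w

/-- (C4) -/
lemma c4 (p n : ℤ)
    (hm1 : Mono (HomologicalComplex.homologyMap (K.fil (p + 1)).arrow (n + 1)))
    (he : Epi (HomologicalComplex.homologyMap (K.fil (p + 1)).arrow n))
    (hm0 : Mono (HomologicalComplex.homologyMap (K.fil p).arrow n)) :
    K.filX p n ⊓ (Subobject.pullback (K.obj.d n (n + 1))).obj (K.filX (p + 1) (n + 1)) ≤
      (K.filX p n ⊓ imageSubobject ((K.filX p (n - 1)).arrow ≫ K.obj.d (n - 1) n)) ⊔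
        K.filX (p + 1) n := by
  set S := K.filX p n ⊓ (Subobject.pullback (K.obj.d n (n + 1))).obj (K.filX (p + 1) (n + 1))
    with hS
  have h1 : (K.filX p n).Factors S.arrow := Subobject.inf_arrow_factors_left _ _
  have h2 : ((Subobject.pullback (K.obj.d n (n + 1))).obj (K.filX (p + 1) (n + 1))).Factors
      S.arrow := Subobject.inf_arrow_factors_right _ _
  rw [Limits.pullback_factors_iff] at h2
  obtain ⟨b, hb⟩ := (filX_factors_iff K (p + 1) (n + 1) _).1 h2
  have hbc : b ≫ (L K (p + 1)).d (n + 1) (n + 1 + 1) = 0 := by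
    apply cycle_of_cycle K (p + 1) (n + 1) (n + 1 + 1) b
    rw [hb, Category.assoc, K.obj.d_comp_d, comp_zero]
  have hn : n + 1 - 1 = n := by ring
  -- step 1: `dx = dy₁` with `y₁ ∈ F^{p+1}`
  obtain ⟨T₁, π₁, hπ₁, w₁, hw₁⟩ : ∃ (T₁ : A) (π₁ : T₁ ⟶ (S : A)) (_ : Epi π₁)
      (w₁ : T₁ ⟶ (L K (p + 1)).X n), π₁ ≫ b = w₁ ≫ (L K (p + 1)).d n (n + 1) := by
    have key : ∀ (m : ℤ) (hm : m = n) (y : (S : A) ⟶ K.obj.X m)
        (hy : b ≫ ι K (p + 1) (n + 1) = y ≫ K.obj.d m (n + 1)),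
        ∃ (T₁ : A) (π₁ : T₁ ⟶ (S : A)) (_ : Epi π₁) (w₁ : T₁ ⟶ (L K (p + 1)).X m),
          π₁ ≫ b = w₁ ≫ (L K (p + 1)).d m (n + 1) := by
      intro m hm
      have hm' : m = n + 1 - 1 := by omega
      subst hm'
      intro y hy
      exact lemB K (p + 1) (n + 1) hm1 b hbc y hy
    exact key n rfl S.arrow hb
  -- the cycle `x₁ = π₁ x - y₁`
  set x₁ : T₁ ⟶ K.obj.X n := π₁ ≫ S.arrow - w₁ ≫ ι K (p + 1) n with hx₁
  have hx₁c : x₁ ≫ K.obj.d n (n + 1) = 0 := by
    rw [hx₁, Preadditive.sub_comp, Category.assoc, Category.assoc, ← hb, ← Category.assoc, hw₁,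
      Category.assoc, ι_d, sub_self]
  have hx₁p : (K.filX p n).Factors x₁ := by
    have : x₁ = π₁ ≫ S.arrow + (-w₁) ≫ ι K (p + 1) n := by
      rw [hx₁, Preadditive.neg_comp]; abel
    rw [this]
    exact Subobject.factors_add _ _ (Subobject.factors_of_factors_right _ h1)
      (filX_factors_of_le K (by omega) n _)
  -- step 2: `x₁ = z + d w₂`
  obtain ⟨T₂, π₂, hπ₂, z, hzc, w₂, hw₂⟩ := lemC K (p + 1) n he x₁ hx₁c
  -- step 3: `u = d w₂ ∈ F^p` is a boundary of `F^p K`
  set u : T₂ ⟶ K.obj.X n := w₂ ≫ K.obj.d (n - 1) n with hu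
  have hup : (K.filX p n).Factors u := by
    have : u = π₂ ≫ x₁ + (-z) ≫ ι K (p + 1) n := by
      rw [hw₂, Preadditive.neg_comp]; abel
    rw [this]
    exact Subobject.factors_add _ _ (Subobject.factors_of_factors_right _ hx₁p)
      (filX_factors_of_le K (by omega) n _)
  obtain ⟨c, hc⟩ := (filX_factors_iff K p n _).1 hup
  have hcc : c ≫ (L K p).d n (n + 1) = 0 := by
    apply cycle_of_cycle K p n (n + 1) c
    rw [hc, hu, Category.assoc, K.obj.d_comp_d, comp_zero]
  obtain ⟨T₃, π₃, hπ₃, w₃, hw₃⟩ := lemB K p n hm0 c hcc w₂ (by rw [hc])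
  apply le_of_refinement
  refine ⟨T₃, π₃ ≫ π₂ ≫ π₁, epi_comp _ _, ?_⟩
  have hdecomp : (π₃ ≫ π₂ ≫ π₁) ≫ S.arrow =
      w₃ ≫ (L K p).d (n - 1) n ≫ ι K p n +
        ((π₃ ≫ z) ≫ ι K (p + 1) n + (π₃ ≫ π₂ ≫ w₁) ≫ ι K (p + 1) n) := by
    have e1 : π₃ ≫ u = w₃ ≫ (L K p).d (n - 1) n ≫ ι K p n := by
      rw [← hc, ← Category.assoc, hw₃, Category.assoc]
    have e2 : π₂ ≫ x₁ = z ≫ ι K (p + 1) n + u := hw₂
    have e3 : π₁ ≫ S.arrow = x₁ + w₁ ≫ ι K (p + 1) n := by rw [hx₁]; abel
    have e0 : (π₃ ≫ π₂ ≫ π₁) ≫ S.arrow = π₃ ≫ (π₂ ≫ (π₁ ≫ S.arrow)) := by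
      simp only [Category.assoc]
    rw [e0, e3, Preadditive.comp_add, e2, Preadditive.comp_add, Preadditive.comp_add, e1]
    simp only [Category.assoc]
    abel
  rw [hdecomp]
  apply Subobject.factors_add
  · apply Subobject.sup_factors_of_factors_left
    rw [Subobject.inf_factors]
    refine ⟨?_, image_fil_factors K p n w₃⟩
    rw [← Category.assoc]
    exact filX_factors K p n _
  · apply Subobject.sup_factors_of_factors_right
    exact Subobject.factors_add _ _ (filX_factors K (p + 1) n _) (filX_factors K (p + 1) n _)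

section Assembly

lemma imageSubobject_eq_top_of_epi {X Y : A} (f : X ⟶ Y) [Epi f] : imageSubobject f = ⊤ := by
  rw [eq_top_iff]
  apply le_of_refinement
  refine ⟨(⊤ : Subobject Y), 𝟙 _, inferInstance, ?_⟩
  rw [image_factors_iff]
  obtain ⟨T', π, hπ, y, hy⟩ := surjective_up_to_refinements_of_epi f (𝟙 _ ≫ (⊤ : Subobject Y).arrow)
  exact ⟨T', π, hπ, y, hy⟩

lemma imageSubobject_eq_bot_of_isZero {X Y : A} (f : X ⟶ Y) (h : IsZero X) :
    imageSubobject f = ⊥ := by
  obtain rfl : f = 0 := h.eq_of_src _ _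
  exact imageSubobject_zero

lemma ZTop_le_ZSub (r : ℕ) (p n : ℤ) : K.ZTop p n ≤ K.ZSub r p n :=
  sup_le_sup_right (inf_le_inf_left _ (FilCx.kernelSubobject_le_pullback _ _)) _

lemma ZSub_eq_ZTop (r : ℕ) (p n : ℤ) (hr : 1 ≤ r)
    (hz : IsZero ((L K (p + (r : ℤ))).homology (n + 1))) : K.ZSub r p n = K.ZTop p n := by
  apply le_antisymm
  · unfold FilCx.ZSub FilCx.ZTop
    exact sup_le (c1 K p (p + (r : ℤ)) n (by omega) hz) le_sup_right
  · exact ZTop_le_ZSub K r p n

lemma BSub_le_BBot (r : ℕ) (p n : ℤ) : K.BSub r p n ≤ K.BBot p n :=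
  sup_le_sup_right (inf_le_inf_left _ (imageSubobject_comp_le _ _)) _

lemma BSub_eq_BBot (r : ℕ) (p n : ℤ) (hr : 1 ≤ r)
    (hm : Mono (HomologicalComplex.homologyMap (K.fil (p - (r : ℤ) + 1)).arrow n)) :
    K.BSub r p n = K.BBot p n := by
  apply le_antisymm (BSub_le_BBot K r p n)
  unfold FilCx.BSub FilCx.BBot
  exact sup_le_sup_right (c2 K p (p - (r : ℤ) + 1) n (by omega) hm) _

lemma isZero_E_one_of_large (p n : ℤ) (hz : IsZero ((L K p).homology n))
    (hz1 : IsZero ((L K (p + 1)).homology (n + 1))) : IsZero (K.E 1 p n) := by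
  unfold FilCx.E
  apply Helper10.SpSeqLib.isZero_subquot_of_eq
  apply le_antisymm (K.BSub_le_ZSub 1 p n)
  have hz1' : IsZero ((L K (p + ((1 : ℕ) : ℤ))).homology (n + 1)) := by
    rw [Nat.cast_one]; exact hz1
  rw [ZSub_eq_ZTop K 1 p n le_rfl hz1']
  unfold FilCx.ZTop FilCx.BSub
  refine sup_le (le_sup_of_le_left (le_inf inf_le_left ?_)) le_sup_right
  exact c3 K p (p - ((1 : ℕ) : ℤ) + 1) n (by rw [Nat.cast_one]; ring) hz

lemma isZero_E_one_of_small (p n : ℤ)
    (hm1 : Mono (HomologicalComplex.homologyMap (K.fil (p + 1)).arrow (n + 1)))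
    (he : Epi (HomologicalComplex.homologyMap (K.fil (p + 1)).arrow n))
    (hm0 : Mono (HomologicalComplex.homologyMap (K.fil p).arrow n)) : IsZero (K.E 1 p n) := by
  unfold FilCx.E
  apply Helper10.SpSeqLib.isZero_subquot_of_eq
  apply le_antisymm (K.BSub_le_ZSub 1 p n)
  unfold FilCx.ZSub FilCx.BSub
  have key : ∀ (q q' : ℤ), q = p + 1 → q' = p →
      K.filX p n ⊓ (Subobject.pullback (K.obj.d n (n + 1))).obj (K.filX q (n + 1)) ⊔
          K.filX (p + 1) n ≤
        K.filX p n ⊓ imageSubobject ((K.filX q' (n - 1)).arrow ≫ K.obj.d (n - 1) n) ⊔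
          K.filX (p + 1) n := by
    rintro q q' rfl rfl
    exact sup_le (c4 K q' n hm1 he hm0) le_sup_right
  exact key _ _ (by rw [Nat.cast_one]) (by rw [Nat.cast_one]; ring)

variable (h0 : ∀ n : ℤ, ∃ p₀ : ℤ, ∀ p : ℤ, p₀ ≤ p →
    IsZero ((K.fil p : CochainComplex A ℤ).homology n))
  (h1 : ∀ n : ℤ, ∃ p₁ : ℤ, ∀ p : ℤ, p ≤ p₁ →
    IsIso (HomologicalComplex.homologyMap (K.fil p).arrow n))

include h0 h1 in
lemma isBounded_one : K.IsBounded 1 := by
  intro n
  obtain ⟨a, ha⟩ := h0 n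
  obtain ⟨b, hb⟩ := h0 (n + 1)
  obtain ⟨c, hc⟩ := h1 n
  obtain ⟨d, hd⟩ := h1 (n + 1)
  refine (Set.finite_Ioo (min c d - 1) (max a (b - 1))).subset ?_
  intro p hp
  change ¬ IsZero (K.E 1 p n) at hp
  rw [Set.mem_Ioo]
  by_contra hcon
  rw [not_and_or, not_lt, not_lt] at hcon
  apply hp
  rcases hcon with hcon | hcon
  · -- small
    have h1' : p + 1 ≤ c := by have := min_le_left c d; omega
    have h2' : p + 1 ≤ d := by have := min_le_right c d; omega
    haveI := hd (p + 1) h2'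
    haveI := hc (p + 1) h1'
    haveI := hc p (by omega)
    exact isZero_E_one_of_small K p n inferInstance inferInstance inferInstance
  · -- large
    have h1' : a ≤ p := (le_max_left _ _).trans hcon
    have h2' : b ≤ p + 1 := by have := (le_max_right a (b - 1)).trans hcon; omega
    exact isZero_E_one_of_large K p n (ha p h1') (hb (p + 1) h2')

include h0 h1 in
lemma hFil_isFinite (n : ℤ) : (K.HFil n).IsFinite := by
  obtain ⟨a, ha⟩ := h0 n
  obtain ⟨c, hc⟩ := h1 n
  refine ⟨⟨c, ?_⟩, ⟨a, ?_⟩⟩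
  · change K.filH c n = ⊤
    unfold FilCx.filH
    haveI := hc c le_rfl
    exact imageSubobject_eq_top_of_epi _
  · change K.filH a n = ⊥
    unfold FilCx.filH
    exact imageSubobject_eq_bot_of_isZero _ (ha a le_rfl)

include h0 in
lemma isRegular : K.IsRegular := by
  intro p n
  obtain ⟨b, hb⟩ := h0 (n + 1)
  refine ⟨max 1 (b - p).toNat, fun r hr => ?_⟩
  have hr1 : 1 ≤ r := (le_max_left _ _).trans hr
  have hr2 : (b - p).toNat ≤ r := (le_max_right _ _).trans hr
  rw [ZSub_eq_ZTop K r p n hr1 (hb _ (by omega)),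
    ZSub_eq_ZTop K (max 1 (b - p).toNat) p n (le_max_left _ _)
      (hb _ (by have := le_max_right 1 (b - p).toNat; omega))]

include h0 h1 in
lemma weaklyConverges : K.WeaklyConverges := by
  intro p n
  constructor
  · obtain ⟨b, hb⟩ := h0 (n + 1)
    constructor
    · rintro _ ⟨r, rfl⟩
      exact ZTop_le_ZSub K r p n
    · intro S hS
      have h1' : S ≤ K.ZSub (max 1 (b - p).toNat) p n := hS ⟨_, rfl⟩
      rwa [ZSub_eq_ZTop K (max 1 (b - p).toNat) p n (le_max_left _ _)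
        (hb _ (by have := le_max_right 1 (b - p).toNat; omega))] at h1'
  · obtain ⟨c, hc⟩ := h1 n
    constructor
    · rintro _ ⟨r, rfl⟩
      exact BSub_le_BBot K r p n
    · intro S hS
      have h1' : K.BSub (max 1 (p + 1 - c).toNat) p n ≤ S := hS ⟨_, rfl⟩
      haveI := hc (p - ((max 1 (p + 1 - c).toNat : ℕ) : ℤ) + 1)
        (by have := le_max_right 1 (p + 1 - c).toNat; omega)
      rwa [BSub_eq_BBot K (max 1 (p + 1 - c).toNat) p n (le_max_left _ _) inferInstance] at h1'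

include h0 h1 in
theorem converges :
    K.IsBounded 1 ∧ (∀ n : ℤ, (K.HFil n).IsFinite) ∧ K.Converges := by
  refine ⟨isBounded_one K h0 h1, hFil_isFinite K h0 h1, isRegular K h0,
    ⟨weaklyConverges K h0 h1, fun n =>
      ⟨Helper10.SpSeqLib.isSeparated_of_isFinite _ (hFil_isFinite K h0 h1 n),
        Helper10.SpSeqLib.isExhaustive_of_isFinite _ (hFil_isFinite K h0 h1 n)⟩⟩,
    fun n => Helper10.SpSeqLib.isComplete_of_isDiscrete _ (hFil_isFinite K h0 h1 n).2⟩

end Assembly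

end Groth.Agent.Lib.R2H3.SpSeqConv
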