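import Groth.Agent.Lib.R2H3SplitSub

/-!
# Exact sequences of split tori over a field

* `ovIso`: the underlying isomorphism of an isomorphism of group objects.
* `eq_DSmap_of_field`: homomorphisms of diagonalisable groups over a field.
* `exists_retraction`: an injection of abelian groups with free cokernel has a retraction.
* `exists_section_of_split`: a flat surjective homomorphism of split tori over a field whose kernel
  is a split torus has a section.
-/

set_option autoImplicit false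
universe v u₁ u

open CategoryTheory MonoidalCategory CartesianMonoidalCategory MonObj GrpObj AlgebraicGeometry
  CategoryTheory.Limits
open Groth.Agent.Lib.H6xDSPts Groth.Agent.Lib.R2H3.MultAct Groth.Agent.Lib.R2H3.MultHom
  Groth.Agent.Lib.R2H3.FpqcLocal Groth.Agent.Lib.R2H3.OverBc Groth.Agent.Lib.R2H3.SubDiag
  Groth.Agent.Lib.R2H3.TorusQuot Groth.Agent.Lib.R2H3.SplitSub Groth.Agent.Lib.R2H3.DSQuot

namespace Groth.Agent.Lib.R2H3.SplitExact

section OvIso

variable {C : Type u₁} [Category.{v} C] [CartesianMonoidalCategory C] {A B : C} [GrpObj A]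
  [GrpObj B]

/-- the underlying isomorphism of an isomorphism of group objects. -/
def ovIso (e : Grp.mk A ≅ Grp.mk B) : A ≅ B where
  hom := e.hom.hom.hom
  inv := e.inv.hom.hom
  hom_inv_id := by rw [← Grp.comp_hom_hom, e.hom_inv_id, Grp.id_hom_hom]
  inv_hom_id := by rw [← Grp.comp_hom_hom, e.inv_hom_id, Grp.id_hom_hom]

instance (e : Grp.mk A ≅ Grp.mk B) : IsMonHom (ovIso e).hom :=
  inferInstanceAs (IsMonHom e.hom.hom.hom)

instance (e : Grp.mk A ≅ Grp.mk B) : IsMonHom (ovIso e).inv :=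
  inferInstanceAs (IsMonHom e.inv.hom.hom)

end OvIso

section Field

variable {L : Type u} [Field L] {M N : Type} [AddCommGroup M] [AddCommGroup N]

/-- a homomorphism of diagonalisable groups over a field comes from a homomorphism of character
groups. -/
theorem eq_DSmap_of_field
    (v : Red.DS (Spec (CommRingCat.of L)) M ⟶ Red.DS (Spec (CommRingCat.of L)) N) [IsMonHom v] :
    ∃ φ : N →+ M, v = Red.DSmap _ φ := by
  classical
  obtain ⟨φ, hφ⟩ : ∃ φ : N →+ M, φ = AddMonoidHom.toMultiplicative.symm (phiAt v default) :=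
    ⟨_, rfl⟩
  have hW : ∀ w : Spec (CommRingCat.of L), w ∈ Wphi v φ := by
    intro w
    rw [Subsingleton.elim w default, hφ]
    exact mem_Wphi_phiAt _ _
  refine ⟨φ, ?_⟩
  have h1 := comp_eq_of_mem_Wphi v φ (Red.DS (Spec (CommRingCat.of L)) M) (fun _ => hW _) (𝟙 _)
  rwa [Category.id_comp, Category.id_comp] at h1

theorem injective_of_flat_surjective_left (φ : N →+ M)
    (h1 : Flat (Red.DSmap (Spec (CommRingCat.of L)) φ).left)
    (h2 : Surjective (Red.DSmap (Spec (CommRingCat.of L)) φ).left) : Function.Injective φ :=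
  injective_of_flat_surjective (𝟙 (Spec (CommRingCat.of L))) φ
    (bcHom_of_left (P := @Flat) _ _ h1) (bcHom_of_left (P := @Surjective) _ _ h2)

theorem bijective_of_isIso_left (φ : N →+ M)
    (h : IsIso (Red.DSmap (Spec (CommRingCat.of L)) φ).left) : Function.Bijective φ :=
  bijective_of_isIso (𝟙 (Spec (CommRingCat.of L))) φ
    (bcHom_of_left (P := MorphismProperty.isomorphisms Scheme.{u}) _ _ h)

end Field

section Algebra

/-- an injection of abelian groups whose cokernel is free has a retraction. -/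
theorem exists_retraction {A C : Type} [AddCommGroup A] [AddCommGroup C] (φ : C →+ A)
    (hφ : Function.Injective φ) (n : ℕ) (e : (A ⧸ φ.range) ≃+ (Fin n → ℤ)) :
    ∃ ψ : A →+ C, ψ.comp φ = AddMonoidHom.id C := by
  obtain ⟨q, hq⟩ : ∃ q : A →+ (Fin n → ℤ),
      q = (e : (A ⧸ φ.range) →+ (Fin n → ℤ)).comp (QuotientAddGroup.mk' φ.range) := ⟨_, rfl⟩
  have hqs : Function.Surjective q := by
    rw [hq]
    exact e.surjective.comp (QuotientAddGroup.mk'_surjective _)
  have hqk : ∀ a, q a = 0 ↔ a ∈ φ.range := by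
    intro a
    rw [hq]
    simp only [AddMonoidHom.coe_comp, AddMonoidHom.coe_coe, Function.comp_apply,
      QuotientAddGroup.mk'_apply, EmbeddingLike.map_eq_zero_iff, QuotientAddGroup.eq_zero_iff]
  obtain ⟨σ, hσ⟩ := Module.projective_lifting_property q.toIntLinearMap
    (LinearMap.id : (Fin n → ℤ) →ₗ[ℤ] (Fin n → ℤ)) hqs
  have hσ' : ∀ x, q (σ x) = x := fun x => LinearMap.congr_fun hσ x
  obtain ⟨r, hr⟩ : ∃ r : A →+ φ.range, ∀ a, (r a : A) = a - σ (q a) := by
    refine ⟨AddMonoidHom.codRestrict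
      (AddMonoidHom.id A - σ.toAddMonoidHom.comp q) φ.range (fun a => ?_), fun a => rfl⟩
    rw [← hqk]
    simp [hσ']
  refine ⟨((AddMonoidHom.ofInjective hφ).symm : φ.range →+ C).comp r, ?_⟩
  ext c
  simp only [AddMonoidHom.coe_comp, AddMonoidHom.coe_coe, Function.comp_apply,
    AddMonoidHom.id_apply]
  apply hφ
  have h1 : (r (φ c) : A) = φ c := by
    rw [hr, (hqk (φ c)).mpr ⟨c, rfl⟩, map_zero, sub_zero]
  have h2 : φ ((AddMonoidHom.ofInjective hφ).symm (r (φ c))) = (r (φ c) : A) := by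
    have := (AddMonoidHom.ofInjective hφ).apply_symm_apply (r (φ c))
    exact congrArg Subtype.val this
  rw [h2, h1]

end Algebra

section Main

variable {L : Type u} [Field L] {K G Q : Over (Spec (CommRingCat.of L))} [GrpObj K] [GrpObj G]
  [GrpObj Q]

/-- a flat surjective homomorphism of split tori over a field whose kernel is a split torus has a
section which is a homomorphism. -/
theorem exists_section_of_split (nK nG nQ : ℕ)
    (hK : Red.IsSplitTorusWith (Fin nK → ℤ) K) (hG : Red.IsSplitTorusWith (Fin nG → ℤ) G)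
    (hQ : Red.IsSplitTorusWith (Fin nQ → ℤ) Q)
    (i : K ⟶ G) [IsMonHom i] [Mono i]
    (π : G ⟶ Q) [IsMonHom π] [Flat π.left] [Surjective π.left] (hker : AlgGrp.IsKernel i π) :
    ∃ s : Q ⟶ G, IsMonHom s ∧ s ≫ π = 𝟙 Q := by
  obtain ⟨eK⟩ := hK
  obtain ⟨eG⟩ := hG
  obtain ⟨eQ⟩ := hQ
  obtain ⟨aG, haG⟩ : ∃ aG : G ≅ Red.DS _ (Fin nG → ℤ), aG = ovIso eG := ⟨_, rfl⟩
  obtain ⟨aQ, haQ⟩ : ∃ aQ : Q ≅ Red.DS _ (Fin nQ → ℤ), aQ = ovIso eQ := ⟨_, rfl⟩
  obtain ⟨aK, haK⟩ : ∃ aK : K ≅ Red.DS _ (Fin nK → ℤ), aK = ovIso eK := ⟨_, rfl⟩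
  haveI : IsMonHom aG.hom := by rw [haG]; infer_instance
  haveI : IsMonHom aG.inv := by rw [haG]; infer_instance
  haveI : IsMonHom aQ.hom := by rw [haQ]; infer_instance
  haveI : IsMonHom aQ.inv := by rw [haQ]; infer_instance
  haveI : IsMonHom aK.hom := by rw [haK]; infer_instance
  haveI : IsMonHom aK.inv := by rw [haK]; infer_instance
  -- the homomorphism of character groups
  obtain ⟨π', hπ'⟩ : ∃ π' : Red.DS _ (Fin nG → ℤ) ⟶ Red.DS _ (Fin nQ → ℤ),
      π' = aG.inv ≫ π ≫ aQ.hom := ⟨_, rfl⟩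
  haveI : IsMonHom π' := by rw [hπ']; infer_instance
  have hππ' : π = aG.hom ≫ π' ≫ aQ.inv := by
    rw [hπ']
    simp
  obtain ⟨φ, hφ⟩ := eq_DSmap_of_field π'
  have hl : π'.left = aG.inv.left ≫ π.left ≫ aQ.hom.left := by rw [hπ']; rfl
  haveI : IsIso aG.inv.left := (Over.forget _).map_isIso aG.inv
  haveI : IsIso aQ.hom.left := (Over.forget _).map_isIso aQ.hom
  have hfl : Flat π'.left := by rw [hl]; infer_instance
  have hsu : Surjective π'.left := by rw [hl]; infer_instance
  have hinj : Function.Injective φ :=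
    injective_of_flat_surjective_left φ (hφ ▸ hfl) (hφ ▸ hsu)
  -- the kernel of `D(φ)`
  haveI := mono_DSmap_mk (S := Spec (CommRingCat.of L)) φ.range
  have hcomp : Red.DSmap (Spec (CommRingCat.of L)) φ.range.subtype ≫
      Red.DSmap (Spec (CommRingCat.of L)) φ.rangeRestrict =
      Red.DSmap (Spec (CommRingCat.of L)) φ := by
    rw [DSmap_comp]
    rfl
  haveI : Mono (Red.DSmap (Spec (CommRingCat.of L)) φ.rangeRestrict) := by
    haveI : IsIso (Red.DSmap (Spec (CommRingCat.of L)) φ.rangeRestrict).left :=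
      isIso_DSmap_left _ ⟨fun a b hab => hinj (congrArg Subtype.val hab),
        φ.rangeRestrict_surjective⟩
    haveI : Mono ((Over.forget _).map (Red.DSmap (Spec (CommRingCat.of L)) φ.rangeRestrict)) :=
      inferInstanceAs (Mono (Red.DSmap (Spec (CommRingCat.of L)) φ.rangeRestrict).left)
    exact (Over.forget _).mono_of_mono_map inferInstance
  have key1 : ∀ (X : Over (Spec (CommRingCat.of L))) (x : X ⟶ Red.DS _ (Fin nG → ℤ)),
      x ≫ Red.DSmap _ φ = 1 ↔ x ≫ Red.DSmap _ φ.range.subtype = 1 := by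
    intro X x
    rw [← hcomp]
    constructor
    · intro h
      rw [← cancel_mono (Red.DSmap (Spec (CommRingCat.of L)) φ.rangeRestrict), Category.assoc, h,
        MonObj.one_comp]
    · intro h
      rw [← Category.assoc, h, MonObj.one_comp]
  have hiπ : i ≫ π = 1 := by
    rw [hker.w, Hom.one_def]
  have hκ : Red.DSmap (Spec (CommRingCat.of L)) (QuotientAddGroup.mk' φ.range) ≫
      Red.DSmap (Spec (CommRingCat.of L)) φ = 1 := by
    rw [key1, DSmap_comp]
    have h0 : (QuotientAddGroup.mk' φ.range).comp φ.range.subtype = 0 := by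
      ext n
      simp
    rw [h0, ← Category.id_comp (Red.DSmap _ (0 : φ.range →+ (Fin nG → ℤ) ⧸ φ.range))]
    exact Groth.Agent.Lib.R2H3.TrivFibre.comp_DSmap_zero _
  -- the comparison of the kernels
  obtain ⟨θ, hθ⟩ := exists_lift_of_comp_eq_one φ.range (i ≫ aG.hom) (by
    rw [← key1, ← hφ, hπ']
    simp only [Category.assoc, Iso.hom_inv_id_assoc]
    rw [reassoc_of% hiπ, MonObj.one_comp])
  obtain ⟨θ', hθ'⟩ : ∃ θ' : Red.DS _ ((Fin nG → ℤ) ⧸ φ.range) ⟶ K,
      θ' ≫ i = Red.DSmap _ (QuotientAddGroup.mk' φ.range) ≫ aG.inv := by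
    refine ⟨hker.lift (Red.DSmap _ (QuotientAddGroup.mk' φ.range) ≫ aG.inv) (toUnit _) ?_,
      hker.lift_fst _ _ _⟩
    rw [hππ']
    simp only [Category.assoc, Iso.inv_hom_id_assoc]
    rw [hφ, reassoc_of% hκ, MonObj.one_comp, Hom.one_def]
  have h1 : θ ≫ θ' = 𝟙 K := by
    rw [← cancel_mono i, Category.assoc, hθ', reassoc_of% hθ, Iso.hom_inv_id,
      Category.comp_id, Category.id_comp]
  have h2 : θ' ≫ θ = 𝟙 _ := by
    rw [← cancel_mono (Red.DSmap (Spec (CommRingCat.of L)) (QuotientAddGroup.mk' φ.range)),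
      Category.assoc, hθ, reassoc_of% hθ', Iso.inv_hom_id, Category.comp_id, Category.id_comp]
  haveI : IsMonHom θ := isMonHom_of_comp_mono θ
    (Red.DSmap (Spec (CommRingCat.of L)) (QuotientAddGroup.mk' φ.range)) (i ≫ aG.hom) hθ
  -- the cokernel of `φ` is free
  obtain ⟨χ, hχ⟩ := eq_DSmap_of_field (aK.inv ≫ θ)
  haveI : IsIso (aK.inv ≫ θ) := ⟨θ' ≫ aK.hom, by
    rw [Category.assoc, reassoc_of% h1, Iso.inv_hom_id], by
    rw [Category.assoc, Iso.hom_inv_id_assoc, h2]⟩
  have hχb : Function.Bijective χ := by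
    apply bijective_of_isIso_left (L := L) χ
    rw [← hχ]
    exact (Over.forget _).map_isIso (aK.inv ≫ θ)
  obtain ⟨ψ, hψ⟩ := exists_retraction φ hinj nK (AddEquiv.ofBijective χ hχb)
  -- the section
  refine ⟨aQ.hom ≫ Red.DSmap _ ψ ≫ aG.inv, inferInstance, ?_⟩
  rw [hππ']
  simp only [Category.assoc, Iso.inv_hom_id_assoc]
  rw [hφ, ← Category.assoc (Red.DSmap _ ψ), DSmap_comp, hψ, DSmap_id, Category.id_comp,
    Iso.hom_inv_id]

end Main

end Groth.Agent.Lib.R2H3.SplitExact
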