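import Groth.Agent.Lib.R2H3TorusQuot

/-!
# Split subtori of a group of multiplicative type

* `exists_surjective_of_mono_field`: a monomorphism of groups which are diagonalisable over a
  field valued point induces a surjection of character groups.
* `IsSplitSub G r`: `G` has a split subtorus of rank `r`.
* `isSplitSub_zero`, `isSplitSub_le_bound`, `exists_max_isSplitSub`.
* `isTorus_of_isSplit`, `geomFibre_isSplit`.
-/

set_option autoImplicit false
universe u

open CategoryTheory MonoidalCategory CartesianMonoidalCategory MonObj GrpObj AlgebraicGeometry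
  CategoryTheory.Limits
open Groth.Agent.Lib.H6xDSPts Groth.Agent.Lib.R2H3.MultAct Groth.Agent.Lib.R2H3.MultHom
  Groth.Agent.Lib.R2H3.FpqcLocal Groth.Agent.Lib.R2H3.OverBc Groth.Agent.Lib.R2H3.SubDiag
  Groth.Agent.Lib.R2H3.TorusQuot

namespace Groth.Agent.Lib.R2H3.SplitSub

section Field

variable {S : Scheme.{u}} {A B : Over S} [GrpObj A] [GrpObj B] (g : A ⟶ B) [IsMonHom g]

/-- a homomorphism of groups which are diagonalisable over a field valued point is given there by
a homomorphism of character groups. -/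
theorem exists_vOf_eq_DSmap {L : Type u} [Field L]
    (y : Spec (CommRingCat.of L) ⟶ S) {M M' : Type} [AddCommGroup M] [AddCommGroup M']
    (eA : Grp.mk (Red.bc y A) ≅ Grp.mk (Red.DS (Spec (CommRingCat.of L)) M))
    (eB : Grp.mk (Red.bc y B) ≅ Grp.mk (Red.DS (Spec (CommRingCat.of L)) M')) :
    ∃ φ : M' →+ M, vOf g y eA eB = Red.DSmap _ φ := by
  classical
  obtain ⟨φ, hφ⟩ : ∃ φ : M' →+ M, φ = AddMonoidHom.toMultiplicative.symm
      (phiAt (vOf g y eA eB) default) := ⟨_, rfl⟩
  have hW : ∀ w : Spec (CommRingCat.of L), w ∈ Wphi (vOf g y eA eB) φ := by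
    intro w
    rw [Subsingleton.elim w default, hφ]
    exact mem_Wphi_phiAt _ _
  refine ⟨φ, ?_⟩
  have h1 := comp_eq_of_mem_Wphi (vOf g y eA eB) φ (Red.DS (Spec (CommRingCat.of L)) M)
    (fun _ => hW _) (𝟙 _)
  rwa [Category.id_comp, Category.id_comp] at h1

variable [Mono g]

/-- a monomorphism of groups which are diagonalisable over a field valued point induces a
surjection of character groups. -/
theorem exists_surjective_of_mono_field {L : Type u} [Field L]
    (y : Spec (CommRingCat.of L) ⟶ S) {M M' : Type} [AddCommGroup M] [AddCommGroup M']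
    (eA : Grp.mk (Red.bc y A) ≅ Grp.mk (Red.DS (Spec (CommRingCat.of L)) M))
    (eB : Grp.mk (Red.bc y B) ≅ Grp.mk (Red.DS (Spec (CommRingCat.of L)) M')) :
    ∃ φ : M' →+ M, Function.Surjective φ ∧ vOf g y eA eB = Red.DSmap _ φ := by
  obtain ⟨φ, hv⟩ := exists_vOf_eq_DSmap g y eA eB
  refine ⟨φ, ?_, hv⟩
  apply surjective_of_mono (𝟙 (Spec (CommRingCat.of L))) φ
  rw [← hv]
  have hm : Mono (vOf g y eA eB) := by
    unfold vOf
    haveI : IsIso eB.hom.hom.hom :=
      ⟨eB.inv.hom.hom, by rw [← Grp.comp_hom_hom, eB.hom_inv_id, Grp.id_hom_hom],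
        by rw [← Grp.comp_hom_hom, eB.inv_hom_id, Grp.id_hom_hom]⟩
    haveI : IsIso eA.inv.hom.hom :=
      ⟨eA.hom.hom.hom, by rw [← Grp.comp_hom_hom, eA.inv_hom_id, Grp.id_hom_hom],
        by rw [← Grp.comp_hom_hom, eA.hom_inv_id, Grp.id_hom_hom]⟩
    haveI : Mono ((Over.pullback y).map g) := inferInstance
    infer_instance
  haveI : Mono ((Over.pullback (𝟙 (Spec (CommRingCat.of L)))).map (vOf g y eA eB)) :=
    inferInstance
  exact (Over.forget (Spec (CommRingCat.of L))).map_mono
    ((Over.pullback (𝟙 (Spec (CommRingCat.of L)))).map (vOf g y eA eB))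

include g in
/-- the rank of a split subtorus is bounded by the rank of the character group. -/
theorem rank_le_of_mono_field {L : Type u} [Field L]
    (y : Spec (CommRingCat.of L) ⟶ S) (r : ℕ) {M' : Type} [AddCommGroup M'] (hM' : AddGroup.FG M')
    (eA : Grp.mk (Red.bc y A) ≅ Grp.mk (Red.DS (Spec (CommRingCat.of L)) (Fin r → ℤ)))
    (eB : Grp.mk (Red.bc y B) ≅ Grp.mk (Red.DS (Spec (CommRingCat.of L)) M')) :
    r ≤ Module.finrank ℤ M' := by
  obtain ⟨φ, hφ, -⟩ := exists_surjective_of_mono_field g y eA eB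
  haveI : Module.Finite ℤ M' := Module.Finite.iff_addGroup_fg.mpr hM'
  have h := LinearMap.finrank_le_finrank_of_surjective (f := φ.toIntLinearMap) hφ
  rwa [Module.finrank_pi, Fintype.card_fin] at h

end Field

section SplitSub

variable {S : Scheme.{u}} (G : Over S) [GrpObj G]

/-- `G` has a split subtorus of rank `r`. -/
def IsSplitSub (r : ℕ) : Prop :=
  ∃ (T : Over S) (_ : GrpObj T) (j : T ⟶ G), IsMonHom j ∧ Mono j ∧
    Red.IsSplitTorusWith (Fin r → ℤ) T

/-- the trivial subgroup is a split subtorus of rank zero. -/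
theorem isSplitSub_zero : IsSplitSub G 0 := by
  refine ⟨Red.DS S (Fin 0 → ℤ), inferInstance, 1, ?_, ?_, ⟨Iso.refl _⟩⟩
  · apply Groth.Agent.Lib.R2H3.HomFinEt.isMonHom_of_forall_mul
    intro T x y
    rw [MonObj.comp_one, MonObj.comp_one, MonObj.comp_one, _root_.mul_one]
  · constructor
    intro Z a b _
    apply dsFn_ext
    intro m
    rw [Subsingleton.elim m 0, dsFn_zero, dsFn_zero]

variable {G}

/-- over a non empty base the ranks of the split subtori of a group of multiplicative type and of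
finite type are bounded. -/
theorem exists_bound (hG : SGA3x.IsMultTypeFT G) (s₀ : S) :
    ∃ b : ℕ, ∀ r : ℕ, IsSplitSub G r → r ≤ b := by
  obtain ⟨L, _, y, M', _, -, hM', ⟨eG⟩⟩ := exists_field_triv hG s₀
  refine ⟨Module.finrank ℤ M', fun r hr => ?_⟩
  obtain ⟨T, _, j, hj1, hj2, ⟨eT⟩⟩ := hr
  exact rank_le_of_mono_field j y r hM' (bcMapIso y eT ≪≫ bcDSIso y (Fin r → ℤ)) eG

/-- a split subtorus of maximal rank. -/
theorem exists_max_isSplitSub (hG : SGA3x.IsMultTypeFT G) :
    ∃ r : ℕ, IsSplitSub G r ∧ (Nonempty S → ∀ r' : ℕ, IsSplitSub G r' → r' ≤ r) := by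
  classical
  by_cases hS : Nonempty S
  · obtain ⟨s₀⟩ := hS
    obtain ⟨b, hb⟩ := exists_bound hG s₀
    refine ⟨Nat.findGreatest (IsSplitSub G) b, ?_, fun _ r' hr' => ?_⟩
    · exact Nat.findGreatest_spec (P := IsSplitSub G) (Nat.zero_le b) (isSplitSub_zero G)
    · exact Nat.le_findGreatest (hb r' hr') hr'
  · exact ⟨0, isSplitSub_zero G, fun h => absurd h hS⟩

end SplitSub

section Hom

/-- a morphism whose composite with a monomorphic homomorphism is a homomorphism is a
homomorphism. -/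
theorem isMonHom_of_comp_mono {C : Type*} [Category C] [CartesianMonoidalCategory C]
    {X Y Z : C} [GrpObj X] [GrpObj Y] [GrpObj Z] (g : X ⟶ Y) (j' : Y ⟶ Z) [IsMonHom j'] [Mono j']
    (j : X ⟶ Z) [IsMonHom j] (hg : g ≫ j' = j) : IsMonHom g := by
  apply Groth.Agent.Lib.R2H3.HomFinEt.isMonHom_of_forall_mul
  intro T x y
  rw [← cancel_mono j', Category.assoc, hg, MonObj.mul_comp, MonObj.mul_comp, Category.assoc,
    Category.assoc, hg]

end Hom

section Torus

variable {S : Scheme.{u}} {T : Over S} [GrpObj T]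

/-- a split torus is a torus. -/
theorem isTorus_of_isSplit (r : ℕ) (hT : Red.IsSplitTorusWith (Fin r → ℤ) T) : Red.IsTorus T := by
  obtain ⟨e⟩ := hT
  refine ⟨S, 𝟙 S, inferInstance, inferInstance, fun V hV => ⟨V, hV.isCompact, ?_⟩, fun s => ?_⟩
  · simp
  · exact ⟨⊤, trivial, r, ⟨bcMapIso _ e ≪≫ bcDSIso _ (Fin r → ℤ)⟩⟩

/-- the geometric fibres of a split torus are split. -/
theorem geomFibre_isSplit (r : ℕ) (hT : Red.IsSplitTorusWith (Fin r → ℤ) T) (s : S) :
    Red.IsSplitTorusWith (Fin r → ℤ) (Red.geomFibre s T) := by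
  obtain ⟨e⟩ := hT
  exact ⟨bcMapIso _ e ≪≫ bcDSIso _ (Fin r → ℤ)⟩

/-- a monomorphism of split tori, the rank of the target being at most the rank of the source,
is an isomorphism when the ranks are equal; here: the inequality of the ranks. -/
theorem rank_le_of_mono {T' : Over S} [GrpObj T'] (g : T ⟶ T') [IsMonHom g] [Mono g] (r r' : ℕ)
    (hT : Red.IsSplitTorusWith (Fin r → ℤ) T) (hT' : Red.IsSplitTorusWith (Fin r' → ℤ) T')
    (s₀ : S) : r ≤ r' := by
  obtain ⟨e⟩ := hT
  obtain ⟨e'⟩ := hT'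
  have h := rank_le_of_mono_field g (L := S.residueField s₀) (S.fromSpecResidueField s₀) r
    (fg_pi r') (bcMapIso _ e ≪≫ bcDSIso _ (Fin r → ℤ)) (bcMapIso _ e' ≪≫ bcDSIso _ (Fin r' → ℤ))
  rwa [Module.finrank_pi, Fintype.card_fin] at h

end Torus

end Groth.Agent.Lib.R2H3.SplitSub
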