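import Groth.Agent.Lib.R2H3TorusImage
import Groth.Agent.Lib.R2H3SplitSub
import Groth.Agent.Lib.R2H3CentNorm

/-!
# The split subtorus generated by two split subtori (connected base)

* `isMonHom_mul`: the product of two homomorphisms to a commutative group is a homomorphism.
* `exists_equiv_of_subgroup_free`: a subgroup of a finitely generated free abelian group is
  isomorphic to some `ℤ^r`.
* `exists_join_of_connected`: over a connected base, two homomorphisms from split tori to a group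
  of multiplicative type and of finite type factor through a common split subtorus.
-/

set_option autoImplicit false
universe u

open CategoryTheory MonoidalCategory CartesianMonoidalCategory MonObj GrpObj AlgebraicGeometry
  CategoryTheory.Limits
open Groth.Agent.Lib.H6xDSPts Groth.Agent.Lib.R2H3.MultAct Groth.Agent.Lib.R2H3.MultHom
  Groth.Agent.Lib.R2H3.FpqcLocal Groth.Agent.Lib.R2H3.OverBc Groth.Agent.Lib.R2H3.SubDiag
  Groth.Agent.Lib.R2H3.TorusQuot Groth.Agent.Lib.R2H3.TorusImage Groth.Agent.Lib.R2H3.SplitSub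

namespace Groth.Agent.Lib.R2H3.SplitJoin

/-- the product of two homomorphisms to a commutative group is a homomorphism. -/
theorem isMonHom_mul {C : Type*} [Category C] [CartesianMonoidalCategory C] {X G : C}
    [GrpObj X] [GrpObj G] (hc : ∀ (T : C) (a b : T ⟶ G), a * b = b * a) (u u' : X ⟶ G)
    [IsMonHom u] [IsMonHom u'] : IsMonHom (u * u') := by
  apply Groth.Agent.Lib.R2H3.HomFinEt.isMonHom_of_forall_mul
  intro T x y
  rw [MonObj.comp_mul, MonObj.comp_mul, MonObj.comp_mul, MonObj.mul_comp, MonObj.mul_comp,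
    _root_.mul_assoc, _root_.mul_assoc, ← _root_.mul_assoc (y ≫ u), hc T (y ≫ u) (x ≫ u'),
    _root_.mul_assoc]

/-- a subgroup of a finitely generated free abelian group is isomorphic to some `ℤ^r`. -/
theorem exists_equiv_of_subgroup_free {M : Type} [AddCommGroup M] [Module.Free ℤ M]
    [Module.Finite ℤ M] (N : AddSubgroup M) : ∃ r' : ℕ, Nonempty (N ≃+ (Fin r' → ℤ)) := by
  obtain ⟨N', hN'⟩ : ∃ N' : Submodule ℤ M, N' = AddSubgroup.toIntSubmodule N := ⟨_, rfl⟩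
  refine ⟨Module.finrank ℤ N', ?_⟩
  have e := (Module.finBasis ℤ N').equivFun.toAddEquiv
  subst hN'
  exact ⟨e⟩

section Join

variable {S : Scheme.{u}} {G : Over S} [GrpObj G]

/-- over a connected base, two homomorphisms from split tori to a group of multiplicative type
and of finite type factor through a common split subtorus. -/
theorem exists_join_of_connected [ConnectedSpace S] (hG : SGA3x.IsMultTypeFT G)
    {T₁ T₂ : Over S} [GrpObj T₁] [GrpObj T₂] (j₁ : T₁ ⟶ G) [IsMonHom j₁] (j₂ : T₂ ⟶ G)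
    [IsMonHom j₂] (r₁ r₂ : ℕ) (h₁ : Red.IsSplitTorusWith (Fin r₁ → ℤ) T₁)
    (h₂ : Red.IsSplitTorusWith (Fin r₂ → ℤ) T₂) :
    ∃ (r₃ : ℕ) (T₃ : Over S) (_ : GrpObj T₃) (j₃ : T₃ ⟶ G) (g₁ : T₁ ⟶ T₃) (g₂ : T₂ ⟶ T₃),
      IsMonHom j₃ ∧ Mono j₃ ∧ Red.IsSplitTorusWith (Fin r₃ → ℤ) T₃ ∧
      g₁ ≫ j₃ = j₁ ∧ g₂ ≫ j₃ = j₂ := by
  obtain ⟨e₁⟩ := h₁
  obtain ⟨e₂⟩ := h₂
  have hc : ∀ (T : Over S) (a b : T ⟶ G), a * b = b * a :=
    Groth.Agent.Lib.R2H3.CentNorm.comm_of_multType' (locally_of_isMultTypeFT hG)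
  have e1 : e₁.hom.hom.hom ≫ e₁.inv.hom.hom = 𝟙 _ := by
    rw [← Grp.comp_hom_hom, Iso.hom_inv_id, Grp.id_hom_hom]
  have e2 : e₂.hom.hom.hom ≫ e₂.inv.hom.hom = 𝟙 _ := by
    rw [← Grp.comp_hom_hom, Iso.hom_inv_id, Grp.id_hom_hom]
  -- the homomorphism from the product
  obtain ⟨u₁, hu₁⟩ : ∃ u₁ : Red.DS S ((Fin r₁ → ℤ) × (Fin r₂ → ℤ)) ⟶ G,
      u₁ = Red.DSmap S (AddMonoidHom.inl (Fin r₁ → ℤ) (Fin r₂ → ℤ)) ≫ e₁.inv.hom.hom ≫ j₁ :=
    ⟨_, rfl⟩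
  obtain ⟨u₂, hu₂⟩ : ∃ u₂ : Red.DS S ((Fin r₁ → ℤ) × (Fin r₂ → ℤ)) ⟶ G,
      u₂ = Red.DSmap S (AddMonoidHom.inr (Fin r₁ → ℤ) (Fin r₂ → ℤ)) ≫ e₂.inv.hom.hom ≫ j₂ :=
    ⟨_, rfl⟩
  haveI : IsMonHom u₁ := by rw [hu₁]; infer_instance
  haveI : IsMonHom u₂ := by rw [hu₂]; infer_instance
  haveI : IsMonHom (u₁ * u₂) := isMonHom_mul hc u₁ u₂
  have hfg : AddGroup.FG ((Fin r₁ → ℤ) × (Fin r₂ → ℤ)) :=
    Module.Finite.iff_addGroup_fg.mp inferInstance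
  obtain ⟨N, g, hg1, hg2, hg3⟩ := exists_image_of_connected (u₁ * u₂) hfg hG
  obtain ⟨r₃, ⟨eN⟩⟩ := exists_equiv_of_subgroup_free N
  -- the two inclusions
  have hι₁ : Red.DSmap S (AddMonoidHom.fst (Fin r₁ → ℤ) (Fin r₂ → ℤ)) ≫ (u₁ * u₂) =
      e₁.inv.hom.hom ≫ j₁ := by
    rw [MonObj.comp_mul, hu₁, hu₂, ← Category.assoc, ← Category.assoc
      (Red.DSmap S (AddMonoidHom.fst (Fin r₁ → ℤ) (Fin r₂ → ℤ))), DSmap_comp, DSmap_comp,
      AddMonoidHom.fst_comp_inl, AddMonoidHom.fst_comp_inr, DSmap_id, Category.id_comp,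
      ← Category.id_comp (Red.DSmap S (0 : (Fin r₂ → ℤ) →+ (Fin r₁ → ℤ))),
      Groth.Agent.Lib.R2H3.TrivFibre.comp_DSmap_zero, MonObj.one_comp, _root_.mul_one]
  have hι₂ : Red.DSmap S (AddMonoidHom.snd (Fin r₁ → ℤ) (Fin r₂ → ℤ)) ≫ (u₁ * u₂) =
      e₂.inv.hom.hom ≫ j₂ := by
    rw [MonObj.comp_mul, hu₁, hu₂, ← Category.assoc, ← Category.assoc
      (Red.DSmap S (AddMonoidHom.snd (Fin r₁ → ℤ) (Fin r₂ → ℤ))), DSmap_comp, DSmap_comp,
      AddMonoidHom.snd_comp_inl, AddMonoidHom.snd_comp_inr, DSmap_id, Category.id_comp,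
      ← Category.id_comp (Red.DSmap S (0 : (Fin r₁ → ℤ) →+ (Fin r₂ → ℤ))),
      Groth.Agent.Lib.R2H3.TrivFibre.comp_DSmap_zero, MonObj.one_comp, _root_.one_mul]
  refine ⟨r₃, Red.DS S N, inferInstance, g,
    e₁.hom.hom.hom ≫ Red.DSmap S (AddMonoidHom.fst (Fin r₁ → ℤ) (Fin r₂ → ℤ)) ≫
      Red.DSmap S N.subtype,
    e₂.hom.hom.hom ≫ Red.DSmap S (AddMonoidHom.snd (Fin r₁ → ℤ) (Fin r₂ → ℤ)) ≫
      Red.DSmap S N.subtype, hg1, hg2, ⟨Grp.mkIso' (dsIso (W := S) eN.symm)⟩, ?_, ?_⟩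
  · simp only [Category.assoc]
    rw [hg3, hι₁, reassoc_of% e1]
  · simp only [Category.assoc]
    rw [hg3, hι₂, reassoc_of% e2]

end Join

end Groth.Agent.Lib.R2H3.SplitJoin
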