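import Mathlib
import Groth.Agent.S7174
import Groth.Agent.Lib.R2H3PerfSmooth
import Groth.Agent.Lib.Helper23UnitStalk
import Groth.Agent.Lib.Helper1TorE

/-!
# Stalkwise tor dimension of a morphism (`DerSch.HasTorDimLE`) from affine charts (helper3)
-/

set_option autoImplicit false
set_option linter.style.haveILetI false
set_option linter.unusedVariables false
set_option linter.unusedSectionVars false
universe u

open CategoryTheory CategoryTheory.Limits AlgebraicGeometry
attribute [local instance] HasDerivedCategory.standard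

namespace Groth.Agent.Lib.R2H3.StalkTor

open Groth.Agent.Lib.R2H3.PCHom Groth.Agent.Lib.R2H3.PerfHom Groth.Agent.Lib.R2H3.PolyTorDim
  Groth.Agent.Lib.Helper14.TorSyz Groth.Agent.Lib.Helper1.TorDim Groth.Agent.Lib.Helper1.Tor

section Ring

variable {A B C : Type u} [CommRing A] [CommRing B] [CommRing C]

/-- tor dimension can be cancelled along a standard smooth ring map of relative dimension `n`, at
the cost of `n` -/
theorem hasTorDimLE_of_comp_isStandardSmoothOfRelativeDimension (g : A →+* B) (f : B →+* C) (n : ℕ)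
    (hg : g.IsStandardSmoothOfRelativeDimension n) (d : ℕ)
    (h : letI := (f.comp g).toAlgebra
      DRing.HasTorDimLE A d C) :
    letI := f.toAlgebra
    DRing.HasTorDimLE B (d + n) C := by
  obtain ⟨φ, hφ, het⟩ := hg.exists_etale_mvPolynomial
  letI := φ.toAlgebra
  letI := f.toAlgebra
  letI := (f.comp g).toAlgebra
  letI : Algebra (MvPolynomial (Fin n) A) C := (f.comp φ).toAlgebra
  haveI : IsScalarTower (MvPolynomial (Fin n) A) B C := IsScalarTower.of_algebraMap_eq' rfl
  haveI : IsScalarTower A (MvPolynomial (Fin n) A) C := IsScalarTower.of_algebraMap_eq (fun a => by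
    show f (g a) = f (φ (MvPolynomial.C a))
    rw [← hφ]
    rfl)
  haveI : Algebra.Etale (MvPolynomial (Fin n) A) B := het
  exact hasTorDimLE_of_weaklyEtale (MvPolynomial (Fin n) A) B (d + n) C
    (hasTorDimLE_mvPolynomial A n d C h)

end Ring

section Sch

variable {X Y : Scheme.{u}} (f : X ⟶ Y)

/-- tor dimension of the stalk map from tor dimension on an affine chart -/
theorem hasTorDimLE_stalk_of_appLE (x : X) (V : Y.Opens) (hV : IsAffineOpen V) (U : X.Opens)
    (hU : IsAffineOpen U) (hUV : U ≤ f ⁻¹ᵁ V) (hxU : x ∈ U) (d : ℕ)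
    (h : letI := (f.appLE V U hUV).hom.toAlgebra
      DRing.HasTorDimLE Γ(Y, V) d Γ(X, U)) :
    letI := (f.stalkMap x).hom.toAlgebra
    DRing.HasTorDimLE ↑(Y.presheaf.stalk (f x)) d ↑(X.presheaf.stalk x) := by
  have hpq : (hV.primeIdealOf ⟨f x, hUV hxU⟩).asIdeal =
      (hU.primeIdealOf ⟨x, hxU⟩).asIdeal.comap (f.appLE V U hUV).hom :=
    congr($(IsAffineOpen.comap_primeIdealOf_appLE V hV U hU hUV hxU).1).symm
  refine (Groth.Agent.S7174.stalk_iff_localization f x V hV U hU hUV hxU hpq d).2 ?_
  letI := (f.appLE V U hUV).hom.toAlgebra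
  exact Groth.Agent.Lib.R2H3.TorLoc.hasTorDimLE_localization d h _ _ hpq

/-- the stalk complex of the structure sheaf is the local ring in degree `0` -/
noncomputable def unitStalkIso (x : X) :
    letI := (f.stalkMap x).hom.toAlgebra
    DRing.toD ((DerSch.stalkCxOver f x).obj (DerSch.unitCx X)) ≅
      Dual.inD (Y.presheaf.stalk (f x)) (X.presheaf.stalk x) := by
  letI algCB : Algebra (Y.presheaf.stalk (f x)) (X.presheaf.stalk x) :=
    (f.stalkMap x).hom.toAlgebra
  let eL : (X.presheaf.stalk x) ≃ₗ[Y.presheaf.stalk (f x)]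
      ((DerSch.stalkOver f x).obj (Coh.structureModule X)) :=
    { toFun := fun b => Groth.Agent.Lib.Helper23.UnitStalk.unitStalkEquiv x b
      invFun := fun s => (Groth.Agent.Lib.Helper23.UnitStalk.unitStalkEquiv x).symm s
      left_inv := fun b => (Groth.Agent.Lib.Helper23.UnitStalk.unitStalkEquiv x).symm_apply_apply b
      right_inv := fun s => (Groth.Agent.Lib.Helper23.UnitStalk.unitStalkEquiv x).apply_symm_apply s
      map_add' := fun b b' => map_add _ b b'
      map_smul' := fun c b => by
        show Groth.Agent.Lib.Helper23.UnitStalk.unitStalkEquiv x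
            ((f.stalkMap x).hom c * b) =
          (f.stalkMap x).hom c • Groth.Agent.Lib.Helper23.UnitStalk.unitStalkEquiv x b
        rw [← smul_eq_mul, map_smul] }
  exact DerivedCategory.Q.mapIso ((HomologicalComplex.singleMapHomologicalComplex
      (DerSch.stalkOver f x) (ComplexShape.up ℤ) 0).app (Coh.structureModule X)) ≪≫
    ((DerivedCategory.singleFunctorIsoCompQ (ModuleCat.{u} (Y.presheaf.stalk (f x))) 0).app
      _).symm ≪≫
    (DerivedCategory.singleFunctor (ModuleCat.{u} (Y.presheaf.stalk (f x))) 0).mapIso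
      eL.symm.toModuleIso

/-- the stalkwise tor dimension of a morphism is the tor dimension of its stalk maps -/
theorem hasTorDimLE_iff_stalk (n : ℕ) :
    DerSch.HasTorDimLE f n ↔ ∀ x : X,
      (letI := (f.stalkMap x).hom.toAlgebra
       DRing.HasTorDimLE ↑(Y.presheaf.stalk (f x)) n ↑(X.presheaf.stalk x)) := by
  constructor
  · intro h x
    letI := (f.stalkMap x).hom.toAlgebra
    exact (hasTorDimLE_iff_hasTorAmp _ n).2 (hasTorAmp_of_iso (unitStalkIso f x) (h x))
  · intro h x
    letI := (f.stalkMap x).hom.toAlgebra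
    exact hasTorAmp_of_iso (unitStalkIso f x).symm ((hasTorDimLE_iff_hasTorAmp _ n).1 (h x))

/-- a morphism over `S` from a flat `S`-scheme to a smooth `S`-scheme of relative dimension `n`
has tor dimension at most `n` -/
theorem hasTorDimLE_of_flat_over_smooth {S : Scheme.{u}} (q : Y ⟶ S) (n : ℕ)
    [SmoothOfRelativeDimension n q] [Flat (f ≫ q)] : DerSch.HasTorDimLE f n := by
  rw [hasTorDimLE_iff_stalk]
  intro x
  obtain ⟨W, hW, V, hV, hyV, eV, hst⟩ :=
    SmoothOfRelativeDimension.exists_isStandardSmoothOfRelativeDimension (n := n) (f := q) (f x)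
  obtain ⟨U, hU, hxU, eU⟩ := TopologicalSpace.Opens.isBasis_iff_nbhd.mp X.isBasis_affineOpens
    (show x ∈ f ⁻¹ᵁ V from hyV)
  refine hasTorDimLE_stalk_of_appLE f x V hV U hU eU hxU n ?_
  have eUW : U ≤ (f ≫ q) ⁻¹ᵁ W := fun y hy => eV (eU hy)
  have hflat : ((f ≫ q).appLE W U eUW).hom.Flat := (f ≫ q).flat_appLE hW hU eUW
  have hcomp : (f ≫ q).appLE W U eUW = q.appLE W V eV ≫ f.appLE V U eU :=
    (Scheme.Hom.appLE_comp_appLE f q W V U eV eU).symm
  have hflat' : ((f.appLE V U eU).hom.comp (q.appLE W V eV).hom).Flat := by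
    rw [hcomp] at hflat
    exact hflat
  have h0 : (letI := ((f.appLE V U eU).hom.comp (q.appLE W V eV).hom).toAlgebra
      DRing.HasTorDimLE Γ(S, W) 0 Γ(X, U)) := by
    letI := ((f.appLE V U eU).hom.comp (q.appLE W V eV).hom).toAlgebra
    haveI : Module.Flat Γ(S, W) Γ(X, U) := hflat'
    exact (hasTorDimLE_zero_iff_flat _).2 inferInstance
  have h1 := hasTorDimLE_of_comp_isStandardSmoothOfRelativeDimension (q.appLE W V eV).hom
    (f.appLE V U eU).hom n hst 0 h0
  rw [zero_add] at h1
  exact h1

end Sch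

end Groth.Agent.Lib.R2H3.StalkTor
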