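import Groth.Agent.Lib.R2H3CentralDescent
import Groth.Agent.Lib.R2H3EqLocus
import Groth.Agent.Lib.R2H3MonoFib
import Groth.Agent.Lib.Helper8FixedPt

/-!
# Descent of central subgroups of multiplicative type along fpqc coverings with geometrically
connected fibres, part A: independence of the lifting (helper3, round 2)

Let `π : S' ⟶ S` be a morphism, `G` an `S`-group and `j' : H' ⟶ G ×_S S'` a homomorphism of
`S'`-groups.  For an `S`-scheme `Y` whose structure morphism is lifted to `a : Y ⟶ S'`, a point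
`g : Y ⟶ G` *lies in `H'` with respect to `a`* (`InH`) if the induced point of `G ×_S S'` with
values in `(Y, a)` factors through `j'`.

* `isub`: the pull-back of `j'` along `a`, as a subgroup of `G ×_S Y`.
* `inH_iff`: if `j'` is a central monomorphism, `H'` is of multiplicative type and of finite type,
  `G` is separated of finite presentation and the geometric fibres of `π` are connected, then
  `InH` does not depend on the lifting.
-/

set_option autoImplicit false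
set_option linter.style.haveILetI false
set_option linter.unusedVariables false
set_option linter.unusedSectionVars false

universe u

open CategoryTheory MonoidalCategory CartesianMonoidalCategory MonObj GrpObj AlgebraicGeometry
  CategoryTheory.Limits
open Groth.Agent.Lib.R2H3.MultAct Groth.Agent.Lib.R2H3.FpqcLocal
  Groth.Agent.Lib.R2H3.UnitLocus Groth.Agent.Lib.R2H3.FpqcCover
  Groth.Agent.Lib.R2H3.CentralDescent Groth.Agent.Lib.R2H3.FactorMono
  Groth.Agent.Lib.R2H3.EqLocus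

namespace Groth.Agent.Lib.R2H3.SubDesc

section InH

variable {S S' : Scheme.{u}} (π : S' ⟶ S) {G : Over S} [GrpObj G] {H' : Over S'} [GrpObj H']
  (j' : H' ⟶ Red.bc π G)

/-- the point of `G ×_S S'` with values in `(Y, a)` attached to a point of `G` with values in
`Y`. -/
noncomputable def lpt (Y : Over S) (a : Y.left ⟶ S') (ha : a ≫ π = Y.hom) (g : Y ⟶ G) :
    Over.mk a ⟶ Red.bc π G :=
  (adjE π G (Over.mk a)).symm ((kap π Y a ha).hom ≫ g)

/-- `g` lies in `H'` with respect to the lifting `a`. -/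
def InH (Y : Over S) (a : Y.left ⟶ S') (ha : a ≫ π = Y.hom) (g : Y ⟶ G) : Prop :=
  ∃ h : Over.mk a ⟶ H', h ≫ j' = lpt π Y a ha g

lemma inH_congr (Y : Over S) {a a' : Y.left ⟶ S'} (haa : a = a') (ha : a ≫ π = Y.hom)
    (ha' : a' ≫ π = Y.hom) (g : Y ⟶ G) : InH π j' Y a ha g ↔ InH π j' Y a' ha' g := by
  subst haa
  rfl

lemma lpt_comp {Y Y' : Over S} (k : Y' ⟶ Y) (a : Y.left ⟶ S') (ha : a ≫ π = Y.hom)
    (ha' : (k.left ≫ a) ≫ π = Y'.hom) (g : Y ⟶ G) :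
    lpt π Y' (k.left ≫ a) ha' (k ≫ g) =
      (Over.homMk k.left rfl : Over.mk (k.left ≫ a) ⟶ Over.mk a) ≫ lpt π Y a ha g := by
  obtain ⟨kt, hkt⟩ : ∃ kt : Over.mk (k.left ≫ a) ⟶ Over.mk a, kt.left = k.left :=
    ⟨Over.homMk k.left rfl, rfl⟩
  have hsq : (Over.map π).map kt ≫ (kap π Y a ha).hom =
      (kap π Y' (k.left ≫ a) ha').hom ≫ k := by
    apply Over.OverMorphism.ext
    simp [hkt]
  unfold lpt
  apply (adjE π G _).injective
  rw [Equiv.apply_symm_apply, adjE_comp, Equiv.apply_symm_apply]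
  have : (Over.homMk k.left rfl : Over.mk (k.left ≫ a) ⟶ Over.mk a) = kt :=
    Over.OverMorphism.ext hkt.symm
  rw [this]
  exact (Category.assoc _ _ _).symm.trans
    ((congrArg (· ≫ g) hsq.symm).trans (Category.assoc _ _ _))

lemma inH_comp {Y Y' : Over S} (k : Y' ⟶ Y) (a : Y.left ⟶ S') (ha : a ≫ π = Y.hom)
    (ha' : (k.left ≫ a) ≫ π = Y'.hom) (g : Y ⟶ G) (h : InH π j' Y a ha g) :
    InH π j' Y' (k.left ≫ a) ha' (k ≫ g) := by
  obtain ⟨h₀, hh₀⟩ := h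
  refine ⟨(Over.homMk k.left rfl : Over.mk (k.left ≫ a) ⟶ Over.mk a) ≫ h₀, ?_⟩
  rw [Category.assoc, hh₀, lpt_comp π k a ha ha' g]

lemma lpt_mul (Y : Over S) (a : Y.left ⟶ S') (ha : a ≫ π = Y.hom) (g₁ g₂ : Y ⟶ G) :
    lpt π Y a ha (g₁ * g₂) = lpt π Y a ha g₁ * lpt π Y a ha g₂ := by
  unfold lpt
  rw [MonObj.comp_mul, adjE_symm_mul]

lemma lpt_one (Y : Over S) (a : Y.left ⟶ S') (ha : a ≫ π = Y.hom) :
    lpt π Y a ha (1 : Y ⟶ G) = 1 := by
  have h := lpt_mul π Y a ha (1 : Y ⟶ G) 1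
  rw [_root_.mul_one] at h
  exact (mul_eq_left (a := lpt π Y a ha (1 : Y ⟶ G)) (b := lpt π Y a ha 1)).mp h.symm

lemma lpt_inv (Y : Over S) (a : Y.left ⟶ S') (ha : a ≫ π = Y.hom) (g : Y ⟶ G) :
    lpt π Y a ha g⁻¹ = (lpt π Y a ha g)⁻¹ := by
  apply eq_inv_of_mul_eq_one_left
  rw [← lpt_mul, inv_mul_cancel, lpt_one]

lemma lpt_injective (Y : Over S) (a : Y.left ⟶ S') (ha : a ≫ π = Y.hom) :
    Function.Injective (lpt π Y a ha (G := G)) := by
  intro g₁ g₂ h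
  unfold lpt at h
  have h1 := (adjE π G (Over.mk a)).symm.injective h
  exact (cancel_epi (kap π Y a ha).hom).mp h1

variable [IsMonHom j']

lemma inH_mul (Y : Over S) (a : Y.left ⟶ S') (ha : a ≫ π = Y.hom) (g₁ g₂ : Y ⟶ G)
    (h₁ : InH π j' Y a ha g₁) (h₂ : InH π j' Y a ha g₂) : InH π j' Y a ha (g₁ * g₂) := by
  obtain ⟨x₁, hx₁⟩ := h₁
  obtain ⟨x₂, hx₂⟩ := h₂
  exact ⟨x₁ * x₂, by rw [MonObj.mul_comp, hx₁, hx₂, lpt_mul]⟩

lemma inH_one (Y : Over S) (a : Y.left ⟶ S') (ha : a ≫ π = Y.hom) :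
    InH π j' Y a ha (1 : Y ⟶ G) :=
  ⟨1, by rw [MonObj.one_comp, lpt_one]⟩

lemma inH_inv (Y : Over S) (a : Y.left ⟶ S') (ha : a ≫ π = Y.hom) (g : Y ⟶ G)
    (h : InH π j' Y a ha g) : InH π j' Y a ha g⁻¹ := by
  obtain ⟨x, hx⟩ := h
  exact ⟨x⁻¹, by rw [GrpObj.inv_comp, hx, lpt_inv]⟩

end InH

section ISub

variable {S S' : Scheme.{u}} (π : S' ⟶ S) {G : Over S} [GrpObj G] {H' : Over S'} [GrpObj H']
  (j' : H' ⟶ Red.bc π G) (Y : Over S) (a : Y.left ⟶ S') (ha : a ≫ π = Y.hom)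

/-- a point of `a^* H'` with values in `Z`, as a point of `H'` with values in `(Z, Z ⟶ Y ⟶ S')`. -/
noncomputable def ptH (Z : Over Y.left) (h : Z ⟶ Red.bc a H') : Over.mk (Z.hom ≫ a) ⟶ H' :=
  adjE a H' Z h

lemma ptH_comp {Z Z' : Over Y.left} (k : Z' ⟶ Z) (h : Z ⟶ Red.bc a H') :
    ptH Y a Z' (k ≫ h) =
      (Over.homMk k.left (by
          change k.left ≫ Z.hom ≫ a = Z'.hom ≫ a
          rw [← Category.assoc, Over.w k]) :
        Over.mk (Z'.hom ≫ a) ⟶ Over.mk (Z.hom ≫ a)) ≫ ptH Y a Z h := by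
  unfold ptH
  rw [adjE_comp]
  rfl

lemma ptH_mul (Z : Over Y.left) (h₁ h₂ : Z ⟶ Red.bc a H') :
    ptH Y a Z (h₁ * h₂) = ptH Y a Z h₁ * ptH Y a Z h₂ :=
  adjE_mul a H' Z h₁ h₂

lemma ptH_bijective (Z : Over Y.left) : Function.Bijective (ptH (H' := H') Y a Z) :=
  (adjE a H' Z).bijective

/-- the point of `G` attached to a point of `a^* H'`. -/
noncomputable def gpt (Z : Over Y.left) (h : Z ⟶ Red.bc a H') : (Over.map Y.hom).obj Z ⟶ G :=
  (kap π ((Over.map Y.hom).obj Z) (Z.hom ≫ a) (lift_w π Y Z a ha)).inv ≫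
    adjE π G (Over.mk (Z.hom ≫ a)) (ptH Y a Z h ≫ j')

lemma gpt_comp {Z Z' : Over Y.left} (k : Z' ⟶ Z) (h : Z ⟶ Red.bc a H') :
    gpt π j' Y a ha Z' (k ≫ h) = (Over.map Y.hom).map k ≫ gpt π j' Y a ha Z h := by
  unfold gpt
  rw [ptH_comp, Category.assoc, adjE_comp]
  have hsq : (kap π ((Over.map Y.hom).obj Z') (Z'.hom ≫ a) (lift_w π Y Z' a ha)).inv ≫
      (Over.map π).map (Over.homMk k.left (by
          change k.left ≫ Z.hom ≫ a = Z'.hom ≫ a
          rw [← Category.assoc, Over.w k]) :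
        Over.mk (Z'.hom ≫ a) ⟶ Over.mk (Z.hom ≫ a)) =
      (Over.map Y.hom).map k ≫
        (kap π ((Over.map Y.hom).obj Z) (Z.hom ≫ a) (lift_w π Y Z a ha)).inv := by
    apply Over.OverMorphism.ext
    simp
  exact ((Category.assoc _ _ _).symm.trans (congrArg (· ≫ _) hsq)).trans (Category.assoc _ _ _)

/-- **the pull-back of `j'` along `a`**, as a morphism into `G ×_S Y`. -/
noncomputable def isub : Red.bc a H' ⟶ Red.bc Y.hom G :=
  (adjE Y.hom G (Red.bc a H')).symm (gpt π j' Y a ha (Red.bc a H') (𝟙 _))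

lemma adjE_comp_isub (Z : Over Y.left) (h : Z ⟶ Red.bc a H') :
    adjE Y.hom G Z (h ≫ isub π j' Y a ha) = gpt π j' Y a ha Z h := by
  rw [adjE_comp]
  unfold isub
  rw [Equiv.apply_symm_apply, ← gpt_comp, Category.comp_id]

/-- the points of `a^* H'` in `G ×_S Y` are the points lying in `H'` with respect to `a`. -/
theorem exists_comp_isub_iff (Z : Over Y.left) (z : Z ⟶ Red.bc Y.hom G) :
    (∃ h : Z ⟶ Red.bc a H', h ≫ isub π j' Y a ha = z) ↔
      InH π j' ((Over.map Y.hom).obj Z) (Z.hom ≫ a) (lift_w π Y Z a ha) (adjE Y.hom G Z z) := by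
  unfold InH lpt
  constructor
  · rintro ⟨h, rfl⟩
    refine ⟨ptH Y a Z h, ?_⟩
    rw [adjE_comp_isub]
    unfold gpt
    rw [Iso.hom_inv_id_assoc, Equiv.symm_apply_apply]
  · rintro ⟨h₂, hh₂⟩
    obtain ⟨h, rfl⟩ := (ptH_bijective Y a Z).2 h₂
    refine ⟨h, ?_⟩
    apply (adjE Y.hom G Z).injective
    rw [adjE_comp_isub]
    unfold gpt
    rw [hh₂, Equiv.apply_symm_apply, Iso.inv_hom_id_assoc]

lemma gpt_mul [IsMonHom j'] (Z : Over Y.left) (h₁ h₂ : Z ⟶ Red.bc a H') :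
    gpt π j' Y a ha Z (h₁ * h₂) = gpt π j' Y a ha Z h₁ * gpt π j' Y a ha Z h₂ := by
  unfold gpt
  rw [ptH_mul, MonObj.mul_comp, adjE_mul, MonObj.comp_mul]

instance isMonHom_isub [IsMonHom j'] : IsMonHom (isub π j' Y a ha) := by
  apply CentralDescent.isMonHom_of_forall_mul
  intro T x y
  apply (adjE Y.hom G T).injective
  rw [adjE_comp_isub, adjE_mul Y.hom G T (x ≫ isub π j' Y a ha) (y ≫ isub π j' Y a ha),
    adjE_comp_isub, adjE_comp_isub, gpt_mul]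

theorem mono_isub [Mono j'] : Mono (isub π j' Y a ha) := by
  refine ⟨fun {Z} h₁ h₂ h => ?_⟩
  have h1 := congrArg (adjE Y.hom G Z) h
  rw [adjE_comp_isub, adjE_comp_isub] at h1
  unfold gpt at h1
  have h2 := (cancel_epi _).mp h1
  have h3 := (adjE π G _).injective h2
  have h4 := (cancel_mono j').mp h3
  exact (ptH_bijective Y a Z).1 h4

/-- centrality of `isub`. -/
theorem isub_central
    (hc : ∀ (X : Over S') (g : X ⟶ Red.bc π G) (h : X ⟶ H'), g * (h ≫ j') = (h ≫ j') * g)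
    (Z : Over Y.left) (g : Z ⟶ Red.bc Y.hom G) (h : Z ⟶ Red.bc a H') :
    g * (h ≫ isub π j' Y a ha) = (h ≫ isub π j' Y a ha) * g := by
  apply (adjE Y.hom G Z).injective
  rw [adjE_mul, adjE_mul, adjE_comp_isub]
  unfold gpt
  have h1 := hc (Over.mk (Z.hom ≫ a))
    ((adjE π G (Over.mk (Z.hom ≫ a))).symm
      ((kap π ((Over.map Y.hom).obj Z) (Z.hom ≫ a) (lift_w π Y Z a ha)).hom ≫ adjE Y.hom G Z g))
    (ptH Y a Z h)
  have h2 := congrArg (fun z => (kap π ((Over.map Y.hom).obj Z) (Z.hom ≫ a)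
    (lift_w π Y Z a ha)).inv ≫ adjE π G (Over.mk (Z.hom ≫ a)) z) h1
  simp only [adjE_mul, Equiv.apply_symm_apply, MonObj.comp_mul, Iso.inv_hom_id_assoc] at h2
  exact h2

end ISub

section Clopen

variable {S : Scheme.{u}} {G H₁ H₂ : Over S} [GrpObj G] [GrpObj H₁] [GrpObj H₂]
  [IsSeparated G.hom]
  (hG : IsLocallyNoetherian S ∨
    (LocallyOfFinitePresentation G.hom ∧ QuasiCompact G.hom ∧ QuasiSeparated G.hom))
  (h₁ : SGA3x.IsMultTypeFT H₁) (h₂ : SGA3x.IsMultTypeFT H₂)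
  (i₁ : H₁ ⟶ G) [IsMonHom i₁] [Mono i₁] (i₂ : H₂ ⟶ G) [IsMonHom i₂] [Mono i₂]
  (hc : ∀ (X : Over S) (g : X ⟶ G) (h : X ⟶ H₁), g * (h ≫ i₁) = (h ≫ i₁) * g)

include hG h₁ h₂ hc in
/-- the locus where two subgroups of multiplicative type (the first one central) coincide is
open and closed (`SameSub` form of `S5304`). -/
theorem exists_clopen_sameSub :
    ∃ U : S.Opens, IsClosed (U : Set S) ∧
      (∀ s : S, s ∈ U ↔
        SameSub i₁ i₂ (Spec (S.residueField s)) (S.fromSpecResidueField s)) ∧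
      SameSub i₁ i₂ U U.ι := by
  haveI hlft₁ : LocallyOfFiniteType H₁.hom :=
    Groth.Agent.Lib.R2H3.MonoFib.lft_of_isMultTypeFT H₁ h₁
  haveI hlft₂ : LocallyOfFiniteType H₂.hom :=
    Groth.Agent.Lib.R2H3.MonoFib.lft_of_isMultTypeFT H₂ h₂
  haveI hkfp : LocallyOfFinitePresentation (eqK i₁ i₂) := by
    rcases hG with hN | ⟨hfp, -, -⟩
    · haveI := hN
      haveI : LocallyOfFiniteType (pullback.fst H₁.hom H₂.hom ≫ H₁.hom) := inferInstance
      haveI : IsLocallyNoetherian (pullback H₁.hom H₂.hom) :=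
        LocallyOfFiniteType.isLocallyNoetherian (pullback.fst H₁.hom H₂.hom ≫ H₁.hom)
      haveI : LocallyOfFiniteType (eqK i₁ i₂) := inferInstance
      infer_instance
    · haveI := hfp
      exact eqK_prop i₁ i₂ @LocallyOfFinitePresentation
        (Groth.Agent.Lib.Helper8FixedPt.lfp_diagonal G.hom)
  have hloc₁ : TwC.Locally S TwC.Topology.fpqc (fun S' f => ∃ (M : Type) (_ : AddCommGroup M),
      Nonempty (Grp.mk (Red.bc f H₁) ≅ Grp.mk (Red.DS S' M))) := by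
    obtain ⟨S', f, a1, a2, a3, a4⟩ := h₁
    refine ⟨S', f, a1, a2, a3, fun s' => ?_⟩
    obtain ⟨U, hU, M, inst, -, he⟩ := a4 s'
    exact ⟨U, hU, M, inst, he⟩
  have hloc₂ : TwC.Locally S TwC.Topology.fpqc (fun S' f => ∃ (M : Type) (_ : AddCommGroup M),
      Nonempty (Grp.mk (Red.bc f H₂) ≅ Grp.mk (Red.DS S' M))) := by
    obtain ⟨S', f, a1, a2, a3, a4⟩ := h₂
    refine ⟨S', f, a1, a2, a3, fun s' => ?_⟩
    obtain ⟨U, hU, M, inst, -, he⟩ := a4 s'
    exact ⟨U, hU, M, inst, he⟩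
  exact exists_clopen_eq_locus i₁ i₂ hc (eqK i₁ i₂) (eqK_spec i₁ i₂) hloc₁ hloc₂

omit [IsSeparated G.hom] [Mono i₁] [Mono i₂] in
lemma sameSub_precomp {T T' : Scheme.{u}} (c : T' ⟶ T) (t : T ⟶ S) (h : SameSub i₁ i₂ T t) :
    SameSub i₁ i₂ T' (c ≫ t) :=
  ⟨fac_precomp i₁ i₂ c t h.1, fac_precomp i₂ i₁ c t h.2⟩

omit [IsSeparated G.hom] in
lemma sameSub_descend {T T' : Scheme.{u}} (c : T' ⟶ T) (t : T ⟶ S) (hq : Qfpqc c)
    (h : SameSub i₁ i₂ T' (c ≫ t)) : SameSub i₁ i₂ T t := by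
  haveI : Mono i₁.left := (Over.forget S).map_mono i₁
  haveI : Mono i₂.left := (Over.forget S).map_mono i₂
  exact ⟨fac_descend i₁ i₂ c t hq h.1, fac_descend i₂ i₁ c t hq h.2⟩

include hG h₁ h₂ hc in
/-- two subgroups which coincide at all points coincide. -/
theorem sameSub_id_of_forall
    (h : ∀ s : S, SameSub i₁ i₂ (Spec (S.residueField s)) (S.fromSpecResidueField s)) :
    SameSub i₁ i₂ S (𝟙 S) := by
  obtain ⟨U, hU, b1, b2⟩ := exists_clopen_sameSub hG h₁ h₂ i₁ i₂ hc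
  have htop : U = ⊤ := by
    ext s
    simp only [TopologicalSpace.Opens.coe_top, Set.mem_univ, iff_true]
    exact (b1 s).mpr (h s)
  have hrange : Set.range (𝟙 S : S ⟶ S) ⊆ Set.range U.ι := by
    rw [Scheme.Opens.range_ι, htop]
    exact fun _ _ => trivial
  have h3 := sameSub_precomp i₁ i₂ (IsOpenImmersion.lift U.ι (𝟙 S) hrange) U.ι b2
  rwa [IsOpenImmersion.lift_fac] at h3

include hG h₁ h₂ hc in
/-- over a connected base, two subgroups which coincide at one field valued point coincide. -/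
theorem sameSub_id_of_connected [ConnectedSpace S] {L : Type u} [Field L]
    (y : Spec (CommRingCat.of L) ⟶ S) (hy : SameSub i₁ i₂ (Spec (CommRingCat.of L)) y) :
    SameSub i₁ i₂ S (𝟙 S) := by
  obtain ⟨U, hU, b1, b2⟩ := exists_clopen_sameSub hG h₁ h₂ i₁ i₂ hc
  obtain ⟨s, hs⟩ : ∃ s : S, s = y (IsLocalRing.closedPoint L) := ⟨_, rfl⟩
  obtain ⟨φ₀, hφ₀⟩ : ∃ φ₀ : S.residueField s →+* L,
      Spec.map (CommRingCat.ofHom φ₀) ≫ S.fromSpecResidueField s = y := by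
    subst hs
    exact ⟨(S.descResidueField (Scheme.stalkClosedPointTo y)).hom,
      Scheme.descResidueField_stalkClosedPointTo_fromSpecResidueField L S y⟩
  have hmem : s ∈ U := by
    rw [b1 s]
    apply sameSub_descend i₁ i₂ (Spec.map (CommRingCat.ofHom φ₀)) _
      (Groth.Agent.Lib.R2H3.MultHom.qfpqc_specMap_field _)
    rw [hφ₀]
    exact hy
  have htop : (U : Set S) = Set.univ := IsClopen.eq_univ ⟨hU, U.2⟩ ⟨_, hmem⟩
  have hrange : Set.range (𝟙 S : S ⟶ S) ⊆ Set.range U.ι := by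
    rw [Scheme.Opens.range_ι, htop]
    exact fun _ _ => trivial
  have h3 := sameSub_precomp i₁ i₂ (IsOpenImmersion.lift U.ι (𝟙 S) hrange) U.ι b2
  rwa [IsOpenImmersion.lift_fac] at h3

end Clopen

section Key

variable {S S' : Scheme.{u}} (π : S' ⟶ S) {G : Over S} [GrpObj G] {H' : Over S'} [GrpObj H']
  (j' : H' ⟶ Red.bc π G)
  (Y : Over S) (a b : Y.left ⟶ S') (ha : a ≫ π = Y.hom) (hb : b ≫ π = Y.hom)

/-- factorisation of `a^* H'` through `b^* H'` above `r : T ⟶ Y`, in terms of `InH`. -/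
theorem fac_isub_iff (T : Scheme.{u}) (r : T ⟶ Y.left) :
    Fac (isub π j' Y a ha) (isub π j' Y b hb) T r ↔
      ∀ (Z : Over S) (c : Z.left ⟶ T) (hca : (c ≫ r ≫ a) ≫ π = Z.hom)
        (hcb : (c ≫ r ≫ b) ≫ π = Z.hom) (g : Z ⟶ G),
        InH π j' Z (c ≫ r ≫ a) hca g → InH π j' Z (c ≫ r ≫ b) hcb g := by
  rw [fac_iff_facPt]
  constructor
  · intro hf Z c hca hcb g hin
    have hZw : (c ≫ r) ≫ Y.hom = Z.hom := by
      rw [← hca, ← ha]
      simp only [Category.assoc]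
    obtain ⟨k, hk, hk'⟩ : ∃ k : (Over.map Y.hom).obj (Over.mk (c ≫ r)) ≅ Z,
        k.hom.left = 𝟙 _ ∧ k.inv.left = 𝟙 _ :=
      ⟨Over.isoMk (Iso.refl _) (by simp [hZw]), rfl, rfl⟩
    -- transport `hin` to `Z' = (Z, c ≫ r)`
    have e1 : ∀ (a : Y.left ⟶ S'), k.hom.left ≫ c ≫ r ≫ a = (Over.mk (c ≫ r)).hom ≫ a := by
      intro a
      rw [hk, Category.id_comp]
      exact (Category.assoc _ _ _).symm
    have h4 : ∀ (a : Y.left ⟶ S') (ha : a ≫ π = Y.hom),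
        (k.hom.left ≫ c ≫ r ≫ a) ≫ π = ((Over.map Y.hom).obj (Over.mk (c ≫ r))).hom := by
      intro a ha
      rw [e1]
      exact lift_w π Y _ a ha
    have h1 := inH_comp π j' k.hom (c ≫ r ≫ a) hca (h4 a ha) g hin
    rw [inH_congr π j' _ (e1 a) (h4 a ha) (lift_w π Y _ a ha)] at h1
    obtain ⟨z, hz⟩ : ∃ z : Over.mk (c ≫ r) ⟶ Red.bc Y.hom G,
        adjE Y.hom G (Over.mk (c ≫ r)) z = k.hom ≫ g :=
      ⟨(adjE Y.hom G _).symm (k.hom ≫ g), Equiv.apply_symm_apply _ _⟩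
    rw [← hz, ← exists_comp_isub_iff π j' Y a ha] at h1
    obtain ⟨h, hh⟩ := h1
    obtain ⟨h', hh'⟩ := hf (Over.mk (c ≫ r)) c rfl h
    have h2 := (exists_comp_isub_iff π j' Y b hb (Over.mk (c ≫ r)) z).mp ⟨h', hh'.trans hh⟩
    rw [hz] at h2
    -- transport back
    have e2 : k.inv.left ≫ (Over.mk (c ≫ r)).hom ≫ b = c ≫ r ≫ b := by
      rw [hk', Category.id_comp]
      exact Category.assoc _ _ _
    have h5 : (k.inv.left ≫ (Over.mk (c ≫ r)).hom ≫ b) ≫ π = Z.hom := by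
      rw [e2]
      exact hcb
    have h3 := inH_comp π j' k.inv ((Over.mk (c ≫ r)).hom ≫ b) (lift_w π Y _ b hb) h5 _ h2
    rw [Iso.inv_hom_id_assoc, inH_congr π j' _ e2 h5 hcb] at h3
    exact h3
  · intro hp Z c hc h
    have hca : (c ≫ r ≫ a) ≫ π = ((Over.map Y.hom).obj Z).hom := by
      rw [← lift_w π Y Z a ha, ← hc]
      simp only [Category.assoc]
    have hcb : (c ≫ r ≫ b) ≫ π = ((Over.map Y.hom).obj Z).hom := by
      rw [← lift_w π Y Z b hb, ← hc]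
      simp only [Category.assoc]
    have e1 : Z.hom ≫ a = c ≫ r ≫ a := by rw [← hc, Category.assoc]
    have e2 : Z.hom ≫ b = c ≫ r ≫ b := by rw [← hc, Category.assoc]
    have h1 := (exists_comp_isub_iff π j' Y a ha Z (h ≫ isub π j' Y a ha)).mp ⟨h, rfl⟩
    rw [inH_congr π j' _ e1 (lift_w π Y Z a ha) hca] at h1
    have h2 := hp ((Over.map Y.hom).obj Z) c hca hcb _ h1
    rw [← inH_congr π j' _ e2 (lift_w π Y Z b hb) hcb] at h2
    exact (exists_comp_isub_iff π j' Y b hb Z _).mpr h2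

variable [IsMonHom j'] [Mono j']

/-- `a^* H'` and `b^* H'` coincide above `r : T ⟶ Y`, in terms of `InH`. -/
theorem sameSub_isub_iff (T : Scheme.{u}) (r : T ⟶ Y.left) :
    SameSub (isub π j' Y a ha) (isub π j' Y b hb) T r ↔
      ∀ (Z : Over S) (c : Z.left ⟶ T) (hca : (c ≫ r ≫ a) ≫ π = Z.hom)
        (hcb : (c ≫ r ≫ b) ≫ π = Z.hom) (g : Z ⟶ G),
        InH π j' Z (c ≫ r ≫ a) hca g ↔ InH π j' Z (c ≫ r ≫ b) hcb g := by
  unfold SameSub
  rw [fac_isub_iff, fac_isub_iff]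
  constructor
  · rintro ⟨h1, h2⟩ Z c hca hcb g
    exact ⟨h1 Z c hca hcb g, h2 Z c hcb hca g⟩
  · intro h
    exact ⟨fun Z c hca hcb g => (h Z c hca hcb g).mp, fun Z c hcb hca g => (h Z c hca hcb g).mpr⟩

end Key

section Indep

variable {S S' : Scheme.{u}} (π : S' ⟶ S) {G : Over S} [GrpObj G] {H' : Over S'} [GrpObj H']
  (j' : H' ⟶ Red.bc π G) [IsMonHom j'] [Mono j']
  [IsSeparated G.hom] [LocallyOfFinitePresentation G.hom] [QuasiCompact G.hom]
  [QuasiSeparated G.hom]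

/-- the geometric case: two liftings through a field `L` such that the fibre of `π` over `L` is
connected define the same subgroup. -/
theorem inH_iff_geom (hH' : SGA3x.IsMultTypeFT H')
    (hc : ∀ (X : Over S') (g : X ⟶ Red.bc π G) (h : X ⟶ H'), g * (h ≫ j') = (h ≫ j') * g)
    {L : Type u} [Field L] (a₀ b₀ : Spec (CommRingCat.of L) ⟶ S') (h₀ : a₀ ≫ π = b₀ ≫ π)
    [ConnectedSpace ↥(pullback π (a₀ ≫ π))]
    (Z : Over S) (c : Z.left ⟶ Spec (CommRingCat.of L)) (hca : (c ≫ a₀) ≫ π = Z.hom)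
    (hcb : (c ≫ b₀) ≫ π = Z.hom) (g : Z ⟶ G) :
    InH π j' Z (c ≫ a₀) hca g ↔ InH π j' Z (c ≫ b₀) hcb g := by
  have haX : pullback.fst π (a₀ ≫ π) ≫ π = (Over.mk (pullback.fst π (a₀ ≫ π) ≫ π)).hom := rfl
  have hbX : (pullback.snd π (a₀ ≫ π) ≫ a₀) ≫ π =
      (Over.mk (pullback.fst π (a₀ ≫ π) ≫ π)).hom := by
    rw [Category.assoc, ← pullback.condition]
    rfl
  obtain ⟨i₁, hi₁⟩ : ∃ i₁, i₁ = isub π j' (Over.mk (pullback.fst π (a₀ ≫ π) ≫ π))
      (pullback.fst π (a₀ ≫ π)) haX := ⟨_, rfl⟩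
  obtain ⟨i₂, hi₂⟩ : ∃ i₂, i₂ = isub π j' (Over.mk (pullback.fst π (a₀ ≫ π) ≫ π))
      (pullback.snd π (a₀ ≫ π) ≫ a₀) hbX := ⟨_, rfl⟩
  haveI : IsMonHom i₁ := by rw [hi₁]; infer_instance
  haveI : IsMonHom i₂ := by rw [hi₂]; infer_instance
  haveI : Mono i₁ := by rw [hi₁]; exact mono_isub π j' _ _ _
  haveI : Mono i₂ := by rw [hi₂]; exact mono_isub π j' _ _ _
  obtain ⟨σa, hσa1, hσa2⟩ : ∃ σa : Spec (CommRingCat.of L) ⟶ pullback π (a₀ ≫ π),
      σa ≫ pullback.fst π (a₀ ≫ π) = a₀ ∧ σa ≫ pullback.snd π (a₀ ≫ π) = 𝟙 _ :=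
    ⟨pullback.lift a₀ (𝟙 _) (by rw [Category.id_comp]), pullback.lift_fst _ _ _,
      pullback.lift_snd _ _ _⟩
  obtain ⟨σb, hσb1, hσb2⟩ : ∃ σb : Spec (CommRingCat.of L) ⟶ pullback π (a₀ ≫ π),
      σb ≫ pullback.fst π (a₀ ≫ π) = b₀ ∧ σb ≫ pullback.snd π (a₀ ≫ π) = 𝟙 _ :=
    ⟨pullback.lift b₀ (𝟙 _) (by rw [Category.id_comp, h₀]), pullback.lift_fst _ _ _,
      pullback.lift_snd _ _ _⟩
  have hsame_a : SameSub i₁ i₂ (Spec (CommRingCat.of L)) σa := by
    rw [hi₁, hi₂, sameSub_isub_iff]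
    intro Z' c' hca' hcb' g'
    apply inH_congr
    rw [hσa1, ← Category.assoc σa, hσa2, Category.id_comp]
  haveI : ConnectedSpace ↥(Over.mk (pullback.fst π (a₀ ≫ π) ≫ π)).left :=
    ‹ConnectedSpace ↥(pullback π (a₀ ≫ π))›
  have hall : SameSub i₁ i₂ (pullback π (a₀ ≫ π)) (𝟙 _) := by
    refine sameSub_id_of_connected (hG_bc _)
      (Groth.Agent.Lib.R2H3.MultTypeBC.isMultTypeFT_bc H' hH' _)
      (Groth.Agent.Lib.R2H3.MultTypeBC.isMultTypeFT_bc H' hH' _) i₁ i₂ ?_ σa hsame_a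
    intro X g₁ h₁
    rw [hi₁]
    exact isub_central π j' _ _ _ hc X g₁ h₁
  have hsame_b := sameSub_precomp i₁ i₂ σb (𝟙 _) hall
  rw [hi₁, hi₂, sameSub_isub_iff] at hsame_b
  have e1 : c ≫ (σb ≫ 𝟙 _) ≫ pullback.fst π (a₀ ≫ π) = c ≫ b₀ := by
    rw [Category.comp_id, hσb1]
  have e2 : c ≫ (σb ≫ 𝟙 _) ≫ pullback.snd π (a₀ ≫ π) ≫ a₀ = c ≫ a₀ := by
    rw [Category.comp_id, ← Category.assoc σb, hσb2, Category.id_comp]
  have h1 := hsame_b Z c (by rw [e1]; exact hcb) (by rw [e2]; exact hca) g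
  rw [inH_congr π j' Z e1 _ hcb g, inH_congr π j' Z e2 _ hca g] at h1
  exact h1.symm

/-- **Independence of the lifting.**  If the fibres of `π` above algebraically closed points are
connected, the condition that a point of `G` lies in the central subgroup `H'` of multiplicative
type does not depend on the lifting `Y ⟶ S'` of the structure morphism. -/
theorem inH_iff (hH' : SGA3x.IsMultTypeFT H')
    (hc : ∀ (X : Over S') (g : X ⟶ Red.bc π G) (h : X ⟶ H'), g * (h ≫ j') = (h ≫ j') * g)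
    (hconn : ∀ (L : Type u) [Field L] [IsAlgClosed L] (w : Spec (CommRingCat.of L) ⟶ S),
      ConnectedSpace ↥(pullback π w))
    (Y : Over S) (a b : Y.left ⟶ S') (ha : a ≫ π = Y.hom) (hb : b ≫ π = Y.hom) (g : Y ⟶ G) :
    InH π j' Y a ha g ↔ InH π j' Y b hb g := by
  obtain ⟨i₁, hi₁⟩ : ∃ i₁, i₁ = isub π j' Y a ha := ⟨_, rfl⟩
  obtain ⟨i₂, hi₂⟩ : ∃ i₂, i₂ = isub π j' Y b hb := ⟨_, rfl⟩
  haveI : IsMonHom i₁ := by rw [hi₁]; infer_instance
  haveI : IsMonHom i₂ := by rw [hi₂]; infer_instance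
  haveI : Mono i₁ := by rw [hi₁]; exact mono_isub π j' _ _ _
  haveI : Mono i₂ := by rw [hi₂]; exact mono_isub π j' _ _ _
  have hall : SameSub i₁ i₂ Y.left (𝟙 _) := by
    refine sameSub_id_of_forall (hG_bc _)
      (Groth.Agent.Lib.R2H3.MultTypeBC.isMultTypeFT_bc H' hH' _)
      (Groth.Agent.Lib.R2H3.MultTypeBC.isMultTypeFT_bc H' hH' _) i₁ i₂ ?_ ?_
    · intro X g₁ h₁
      rw [hi₁]
      exact isub_central π j' _ _ _ hc X g₁ h₁
    · intro s
      apply sameSub_descend i₁ i₂ (Spec.map (CommRingCat.ofHom (algebraMap (Y.left.residueField s)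
        (AlgebraicClosure (Y.left.residueField s))))) _
        (Groth.Agent.Lib.R2H3.MultHom.qfpqc_specMap_field _)
      rw [hi₁, hi₂, sameSub_isub_iff]
      intro Z c hca hcb g'
      haveI := hconn (AlgebraicClosure (Y.left.residueField s))
        (((Spec.map (CommRingCat.ofHom (algebraMap (Y.left.residueField s)
          (AlgebraicClosure (Y.left.residueField s)))) ≫ Y.left.fromSpecResidueField s) ≫ a) ≫ π)
      exact inH_iff_geom π j' hH' hc _ _ (by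
        simp only [Category.assoc, ha, hb]) Z c hca hcb g'
  rw [hi₁, hi₂, sameSub_isub_iff] at hall
  have e1 : 𝟙 Y.left ≫ 𝟙 Y.left ≫ a = a := by rw [Category.id_comp, Category.id_comp]
  have e2 : 𝟙 Y.left ≫ 𝟙 Y.left ≫ b = b := by rw [Category.id_comp, Category.id_comp]
  have h1 := hall Y (𝟙 _) (by rw [e1]; exact ha) (by rw [e2]; exact hb) g
  rw [inH_congr π j' Y e1 _ ha g, inH_congr π j' Y e2 _ hb g] at h1
  exact h1

end Indep

end Groth.Agent.Lib.R2H3.SubDesc
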