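import Groth.Agent.Lib.R2H3SubDescA
import Groth.Agent.Lib.R2H3HomFun

/-!
# Descent of central subgroups of multiplicative type, part B: the descended subfunctor
(helper3, round 2)

With the notation of part A, assume that `InH` does not depend on the lifting (`hindep`).
* `Mem π j' Y g`: the point `g` of `G` lies in `H'` for every lifting, after every base change.
* `subF π j'`: the subfunctor of `G` of these points; it is a Zariski and an fpqc sheaf
  (`isZarSheaf_subF`, `isFpqcSheaf_subF`) and its restriction to schemes over `S'` is represented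
  by `H'` (`isUnivAt_subF`).
-/

set_option autoImplicit false
set_option linter.style.haveILetI false
set_option linter.unusedVariables false
set_option linter.unusedSectionVars false

universe u

open CategoryTheory MonoidalCategory CartesianMonoidalCategory MonObj GrpObj AlgebraicGeometry
  CategoryTheory.Limits Opposite
open Groth.Agent.Lib.R2H3.MultAct Groth.Agent.Lib.R2H3.FpqcLocal
  Groth.Agent.Lib.R2H3.FpqcCover
  Groth.Agent.Lib.R2H3.CentralDescent Groth.Agent.Lib.R2H3.FactorMono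
  Groth.Agent.Lib.R2H3.ZarGlueOver Groth.Agent.Lib.R2H3.MorSLocal Groth.Agent.Lib.R2H3.FpqcRep

namespace Groth.Agent.Lib.R2H3.SubDesc

section Left

variable {S S' : Scheme.{u}} (π : S' ⟶ S) {G : Over S} [GrpObj G] {H' : Over S'} [GrpObj H']
  (j' : H' ⟶ Red.bc π G)

/-- `InH` in terms of morphisms of schemes. -/
lemma inH_iff_left (Y : Over S) (a : Y.left ⟶ S') (ha : a ≫ π = Y.hom) (g : Y ⟶ G) :
    InH π j' Y a ha g ↔ ∃ hl : Y.left ⟶ H'.left, hl ≫ j'.left = (lpt π Y a ha g).left := by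
  constructor
  · rintro ⟨h, hh⟩
    exact ⟨h.left, congrArg (fun z => z.left) hh⟩
  · rintro ⟨hl, hhl⟩
    refine ⟨Over.homMk hl ?_, ?_⟩
    · change hl ≫ H'.hom = a
      rw [← Over.w j', ← Category.assoc, hhl]
      exact Over.w (lpt π Y a ha g)
    · apply Over.OverMorphism.ext
      exact hhl

lemma lpt_comp_left {Y Y' : Over S} (k : Y' ⟶ Y) (a : Y.left ⟶ S') (ha : a ≫ π = Y.hom)
    (ha' : (k.left ≫ a) ≫ π = Y'.hom) (g : Y ⟶ G) :
    (lpt π Y' (k.left ≫ a) ha' (k ≫ g)).left = k.left ≫ (lpt π Y a ha g).left := by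
  rw [lpt_comp π k a ha ha' g]
  rfl

variable [Mono j'.left]

/-- `InH` descends along fpqc morphisms. -/
theorem inH_descend {Y Y' : Over S} (k : Y' ⟶ Y) [Flat k.left] [Surjective k.left]
    [QuasiCompact k.left] (a : Y.left ⟶ S') (ha : a ≫ π = Y.hom)
    (ha' : (k.left ≫ a) ≫ π = Y'.hom) (g : Y ⟶ G)
    (h : InH π j' Y' (k.left ≫ a) ha' (k ≫ g)) : InH π j' Y a ha g := by
  rw [inH_iff_left] at h ⊢
  obtain ⟨hl, hhl⟩ := h
  rw [lpt_comp_left π k a ha ha' g] at hhl
  exact exists_factor_of_effectiveEpi k.left j'.left _ hl hhl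

/-- `InH` is Zariski-local. -/
theorem inH_of_openCover (Y : Over S) (a : Y.left ⟶ S') (ha : a ≫ π = Y.hom) (g : Y ⟶ G)
    (𝒱 : Scheme.OpenCover.{u} Y.left)
    (h : ∀ i, InH π j' (Ti Y 𝒱 i) (𝒱.f i ≫ a)
      (by rw [Category.assoc, ha]; rfl) (ji Y 𝒱 i ≫ g)) : InH π j' Y a ha g := by
  rw [inH_iff_left]
  have h' : ∀ i, ∃ hl : 𝒱.X i ⟶ H'.left, hl ≫ j'.left = 𝒱.f i ≫ (lpt π Y a ha g).left := by
    intro i
    obtain ⟨hl, hhl⟩ := (inH_iff_left π j' _ _ _ _).mp (h i)
    refine ⟨hl, hhl.trans ?_⟩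
    exact lpt_comp_left π (ji Y 𝒱 i) a ha (by
      change (𝒱.f i ≫ a) ≫ π = 𝒱.f i ≫ Y.hom
      rw [Category.assoc, ha]) g
  choose hl hhl using h'
  have hcompat : ∀ i k, pullback.fst (𝒱.f i) (𝒱.f k) ≫ hl i =
      pullback.snd (𝒱.f i) (𝒱.f k) ≫ hl k := by
    intro i k
    rw [← cancel_mono j'.left, Category.assoc, Category.assoc, hhl, hhl,
      pullback.condition_assoc]
  refine ⟨𝒱.glueMorphisms hl hcompat, ?_⟩
  apply 𝒱.hom_ext
  intro i
  rw [Scheme.Cover.ι_glueMorphisms_assoc, hhl]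

end Left

section Mem

variable {S S' : Scheme.{u}} (π : S' ⟶ S) {G : Over S} [GrpObj G] {H' : Over S'} [GrpObj H']
  (j' : H' ⟶ Red.bc π G)

/-- the point `g` of `G` lies in `H'` for every lifting of the structure morphism, after every
base change. -/
def Mem (Y : Over S) (g : Y ⟶ G) : Prop :=
  ∀ (Z : Over S) (z : Z ⟶ Y) (a : Z.left ⟶ S') (ha : a ≫ π = Z.hom), InH π j' Z a ha (z ≫ g)

lemma mem_comp {Y Y' : Over S} (k : Y' ⟶ Y) (g : Y ⟶ G) (h : Mem π j' Y g) :
    Mem π j' Y' (k ≫ g) := by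
  intro Z z a ha
  rw [← Category.assoc]
  exact h Z (z ≫ k) a ha

lemma inH_of_mem (Y : Over S) (a : Y.left ⟶ S') (ha : a ≫ π = Y.hom) (g : Y ⟶ G)
    (h : Mem π j' Y g) : InH π j' Y a ha g := by
  have := h Y (𝟙 Y) a ha
  rwa [Category.id_comp] at this

section Grp

variable [IsMonHom j']

lemma mem_mul (Y : Over S) (g₁ g₂ : Y ⟶ G) (h₁ : Mem π j' Y g₁) (h₂ : Mem π j' Y g₂) :
    Mem π j' Y (g₁ * g₂) := by
  intro Z z a ha
  rw [MonObj.comp_mul]
  exact inH_mul π j' Z a ha _ _ (h₁ Z z a ha) (h₂ Z z a ha)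

lemma mem_one (Y : Over S) : Mem π j' Y (1 : Y ⟶ G) := by
  intro Z z a ha
  rw [MonObj.comp_one]
  exact inH_one π j' Z a ha

lemma mem_inv (Y : Over S) (g : Y ⟶ G) (h : Mem π j' Y g) : Mem π j' Y g⁻¹ := by
  intro Z z a ha
  rw [GrpObj.comp_inv]
  exact inH_inv π j' Z a ha _ (h Z z a ha)

end Grp

variable (hindep : ∀ (Y : Over S) (a b : Y.left ⟶ S') (ha : a ≫ π = Y.hom) (hb : b ≫ π = Y.hom)
  (g : Y ⟶ G), InH π j' Y a ha g ↔ InH π j' Y b hb g)

include hindep in
lemma mem_of_inH (Y : Over S) (a : Y.left ⟶ S') (ha : a ≫ π = Y.hom) (g : Y ⟶ G)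
    (h : InH π j' Y a ha g) : Mem π j' Y g := by
  intro Z z b hb
  have ha' : (z.left ≫ a) ≫ π = Z.hom := by rw [Category.assoc, ha, Over.w z]
  exact (hindep Z (z.left ≫ a) b ha' hb (z ≫ g)).mp (inH_comp π j' z a ha ha' g h)

/-- the subfunctor of `G` of the points lying in `H'`. -/
def subF : (Over S)ᵒᵖ ⥤ Type u where
  obj T := {g : T.unop ⟶ G // Mem π j' T.unop g}
  map k := ↾fun g => ⟨k.unop ≫ g.1, mem_comp π j' k.unop g.1 g.2⟩
  map_id T := by
    refine ConcreteCategory.hom_ext _ _ (fun g => Subtype.ext ?_)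
    exact Category.id_comp _
  map_comp k k' := by
    refine ConcreteCategory.hom_ext _ _ (fun g => Subtype.ext ?_)
    exact Category.assoc _ _ _

lemma subF_map_val {T T' : Over S} (k : T' ⟶ T) (g : (subF π j').obj (op T)) :
    ((subF π j').map k.op g).1 = k ≫ g.1 := rfl

lemma rs_subF_val {T' T : Scheme.{u}} (q : T' ⟶ T) {t : T ⟶ S} {t' : T' ⟶ S} (h : q ≫ t = t')
    (g : (subF π j').obj (op (Over.mk t))) :
    (rs (subF π j') q h g).1 = (Over.homMk q h : Over.mk t' ⟶ Over.mk t) ≫ g.1 := rfl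

end Mem

section Sheaf

variable {S S' : Scheme.{u}} (π : S' ⟶ S) {G : Over S} [GrpObj G] {H' : Over S'} [GrpObj H']
  (j' : H' ⟶ Red.bc π G) [Mono j'.left]

theorem isZarSheaf_subF : IsZarSheaf (subF π j') := by
  refine ⟨fun T 𝒰 b b' hb => ?_, fun T 𝒰 x hx => ?_⟩
  · apply Subtype.ext
    apply Over.OverMorphism.ext
    refine Scheme.Cover.hom_ext 𝒰 _ _ (fun i => ?_)
    exact congrArg (fun k => k.1.left) (hb i)
  · have hcompat : ∀ i k, pullback.fst (𝒰.f i) (𝒰.f k) ≫ (x i).1.left =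
        pullback.snd (𝒰.f i) (𝒰.f k) ≫ (x k).1.left :=
      fun i k => congrArg (fun m => m.1.left) (hx i k)
    obtain ⟨gl, hgl⟩ : ∃ gl : T.left ⟶ G.left, ∀ i, 𝒰.f i ≫ gl = (x i).1.left :=
      ⟨𝒰.glueMorphisms (fun i => (x i).1.left) hcompat, fun i => 𝒰.ι_glueMorphisms _ _ i⟩
    have hw : gl ≫ G.hom = T.hom := by
      apply 𝒰.hom_ext
      intro i
      rw [← Category.assoc, hgl]
      exact Over.w (x i).1
    have hg : ∀ i, ji T 𝒰 i ≫ (Over.homMk gl hw : T ⟶ G) = (x i).1 :=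
      fun i => Over.OverMorphism.ext (hgl i)
    refine ⟨⟨Over.homMk gl hw, ?_⟩, fun i => Subtype.ext (hg i)⟩
    intro Z z a ha
    apply inH_of_openCover π j' Z a ha _ (𝒰.pullback₁ z.left)
    intro i
    obtain ⟨zi, hzi⟩ : ∃ zi : Ti Z (𝒰.pullback₁ z.left) i ⟶ Ti T 𝒰 i,
        zi.left = pullback.snd z.left (𝒰.f i) :=
      ⟨Over.homMk (pullback.snd z.left (𝒰.f i)) (by
        change pullback.snd z.left (𝒰.f i) ≫ 𝒰.f i ≫ T.hom =
          pullback.fst z.left (𝒰.f i) ≫ Z.hom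
        rw [← Category.assoc, ← pullback.condition, Category.assoc, Over.w z]), rfl⟩
    have h1 : ji Z (𝒰.pullback₁ z.left) i ≫ z = zi ≫ ji T 𝒰 i := by
      apply Over.OverMorphism.ext
      change pullback.fst z.left (𝒰.f i) ≫ z.left = zi.left ≫ 𝒰.f i
      rw [hzi]
      exact pullback.condition
    have h2 : ji Z (𝒰.pullback₁ z.left) i ≫ z ≫ (Over.homMk gl hw : T ⟶ G) = zi ≫ (x i).1 := by
      rw [← Category.assoc, h1, Category.assoc, hg]
    rw [h2]
    exact (x i).2 _ zi _ _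

theorem isFpqcSheaf_subF : IsFpqcSheaf (subF π j') := by
  refine ⟨?_, ?_⟩
  · intro T' T q _ _ _ t t' h b b' hb
    apply Subtype.ext
    apply Over.OverMorphism.ext
    have h1 : q ≫ b.1.left = q ≫ b'.1.left := congrArg (fun k => k.1.left) hb
    exact (cancel_epi q).1 h1
  · intro T' T q _ _ _ t t' h b' hb'
    have h2 : pullback.snd q q ≫ t' = pullback.fst q q ≫ t' := by
      rw [← h, ← Category.assoc, ← Category.assoc, pullback.condition]
    have hφl : pullback.fst q q ≫ b'.1.left = pullback.snd q q ≫ b'.1.left :=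
      congrArg (fun k => k.1.left) (hb' h2)
    have hdesc : ∀ {Z : Scheme.{u}} (g₁ g₂ : Z ⟶ T'), g₁ ≫ q = g₂ ≫ q →
        g₁ ≫ b'.1.left = g₂ ≫ b'.1.left := by
      intro Z g₁ g₂ hg
      have := congrArg (fun m => pullback.lift g₁ g₂ hg ≫ m) hφl
      simpa only [pullback.lift_fst_assoc, pullback.lift_snd_assoc] using this
    obtain ⟨gl, hgl⟩ : ∃ gl : T ⟶ G.left, q ≫ gl = b'.1.left :=
      ⟨EffectiveEpi.desc q b'.1.left (fun g₁ g₂ hg => hdesc g₁ g₂ hg), EffectiveEpi.fac _ _ _⟩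
    have hw : gl ≫ G.hom = t := by
      rw [← cancel_epi q, ← Category.assoc, hgl, h]
      exact Over.w b'.1
    have hg : (Over.homMk q h : Over.mk t' ⟶ Over.mk t) ≫ (Over.homMk gl hw : Over.mk t ⟶ G) =
        b'.1 := Over.OverMorphism.ext hgl
    refine ⟨⟨Over.homMk gl hw, ?_⟩, Subtype.ext hg⟩
    intro Z z a ha
    obtain ⟨k, hk⟩ : ∃ k : Over.mk (pullback.fst z.left q ≫ Z.hom) ⟶ Z,
        k.left = pullback.fst z.left q := ⟨Over.homMk (pullback.fst z.left q) rfl, rfl⟩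
    haveI : Flat k.left := by rw [hk]; infer_instance
    haveI : Surjective k.left := by rw [hk]; infer_instance
    haveI : QuasiCompact k.left := by rw [hk]; infer_instance
    have ha' : (k.left ≫ a) ≫ π = (Over.mk (pullback.fst z.left q ≫ Z.hom)).hom := by
      rw [Category.assoc, ha, hk]
      rfl
    apply inH_descend π j' k a ha ha'
    obtain ⟨z', hz'⟩ : ∃ z' : Over.mk (pullback.fst z.left q ≫ Z.hom) ⟶ Over.mk t',
        z'.left = pullback.snd z.left q :=
      ⟨Over.homMk (pullback.snd z.left q) (by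
        change pullback.snd z.left q ≫ t' = pullback.fst z.left q ≫ Z.hom
        rw [← h, ← Category.assoc, ← pullback.condition, Category.assoc]
        congr 1
        exact Over.w z), rfl⟩
    have h1 : k ≫ z = z' ≫ (Over.homMk q h : Over.mk t' ⟶ Over.mk t) := by
      apply Over.OverMorphism.ext
      change k.left ≫ z.left = z'.left ≫ q
      rw [hk, hz']
      exact pullback.condition
    have h3 : k ≫ z ≫ (Over.homMk gl hw : Over.mk t ⟶ G) = z' ≫ b'.1 := by
      rw [← Category.assoc, h1, Category.assoc, hg]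
    rw [h3]
    exact b'.2 _ z' _ _

end Sheaf

section Univ

variable {S S' : Scheme.{u}} (π : S' ⟶ S) {G : Over S} [GrpObj G] {H' : Over S'} [GrpObj H']
  (j' : H' ⟶ Red.bc π G)

lemma lpt_map (X' : Over S') (g : (Over.map π).obj X' ⟶ G) :
    lpt π ((Over.map π).obj X') X'.hom rfl g = (adjE π G X').symm g := by
  unfold lpt
  congr 1

lemma inH_map_iff (X' : Over S') (g : (Over.map π).obj X' ⟶ G) :
    InH π j' ((Over.map π).obj X') X'.hom rfl g ↔
      ∃ h : X' ⟶ H', h ≫ j' = (adjE π G X').symm g := by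
  constructor
  · rintro ⟨h, hh⟩
    exact ⟨h, hh.trans (lpt_map π X' g)⟩
  · rintro ⟨h, hh⟩
    exact ⟨h, hh.trans (lpt_map π X' g).symm⟩

variable (hindep : ∀ (Y : Over S) (a b : Y.left ⟶ S') (ha : a ≫ π = Y.hom) (hb : b ≫ π = Y.hom)
  (g : Y ⟶ G), InH π j' Y a ha g ↔ InH π j' Y b hb g)

include hindep in
/-- the universal point `H' ⟶ G ×_S S' ⟶ G` lies in `H'`. -/
lemma mem_univ : Mem π j' ((Over.map π).obj H') (adjE π G H' j') := by
  apply mem_of_inH π j' hindep _ H'.hom rfl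
  rw [inH_map_iff]
  exact ⟨𝟙 _, by rw [Category.id_comp, Equiv.symm_apply_apply]⟩

/-- the universal element of `subF` over `H'`. -/
noncomputable def univE : (subF π j').obj (op (Over.mk (H'.hom ≫ π))) :=
  ⟨adjE π G H' j', mem_univ π j' hindep⟩

variable [Mono j']

/-- **Over `S'`, the subfunctor `subF` is represented by `H'`.** -/
theorem isUnivAt_subF : IsUnivAt (subF π j') π H' (univE π j' hindep) := by
  intro T x t ht b
  subst ht
  obtain ⟨h, hh⟩ := (inH_map_iff π j' (Over.mk x) b.1).mp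
    (inH_of_mem π j' (Over.mk (x ≫ π)) x rfl b.1 b.2)
  have key : ∀ (h' : Over.mk x ⟶ H'),
      (rs (subF π j') h'.left (univ_h (Over.w h') rfl) (univE π j' hindep)).1 =
        adjE π G (Over.mk x) (h' ≫ j') := by
    intro h'
    rw [rs_subF_val, adjE_comp]
    rfl
  refine ⟨h.left, ⟨Over.w h, Subtype.ext ?_⟩, ?_⟩
  · rw [key h, hh, Equiv.apply_symm_apply]
  · rintro a' ⟨hx', he'⟩
    have h1 := congrArg Subtype.val he'
    have h2 := key (Over.homMk a' hx')
    have h3 : (Over.homMk a' hx' : Over.mk x ⟶ H') ≫ j' = h ≫ j' := by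
      apply (adjE π G (Over.mk x)).injective
      rw [← h2, hh, Equiv.apply_symm_apply]
      exact h1
    have h4 := (cancel_mono j').mp h3
    exact congrArg (fun k => k.left) h4

end Univ

end Groth.Agent.Lib.R2H3.SubDesc
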