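import Groth.Agent.Lib.R2H3SubDescB
import Groth.Agent.Lib.R2H3MultTypeProps
import Groth.Agent.Lib.Helper12ImmersionDescent

/-!
# Descent of central subgroups of multiplicative type, part C: the descended subgroup
(helper3, round 2)

`exists_descent`: SGA3 X 5.? (case of an fpqc covering): let `G` be an `S`-group separated and
of finite presentation, `π : S' ⟶ S` an fpqc covering with geometrically connected fibres and
`H' ⊆ G ×_S S'` a central subgroup of multiplicative type and of finite type; then `H'` descends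
to a subgroup `H ⊆ G` of multiplicative type and of finite type.  `unique_descent`: uniqueness.
-/

set_option autoImplicit false
set_option linter.style.haveILetI false
set_option linter.unusedVariables false
set_option linter.unusedSectionVars false

universe u

open CategoryTheory MonoidalCategory CartesianMonoidalCategory MonObj GrpObj AlgebraicGeometry
  CategoryTheory.Limits Opposite
open Groth.Agent.Lib.R2H3.MultAct Groth.Agent.Lib.R2H3.FpqcLocal
  Groth.Agent.Lib.R2H3.FpqcCover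
  Groth.Agent.Lib.R2H3.CentralDescent Groth.Agent.Lib.R2H3.FactorMono
  Groth.Agent.Lib.R2H3.ZarGlueOver Groth.Agent.Lib.R2H3.MorSLocal Groth.Agent.Lib.R2H3.FpqcRep

namespace Groth.Agent.Lib.R2H3.SubDesc

section Cover

/-- composition of fpqc coverings. -/
theorem cov_comp {X Y Z : Scheme.{u}} (f : X ⟶ Y) (g : Y ⟶ Z) (hf : Cov f) (hg : Cov g) :
    Cov (f ≫ g) := by
  intro V hV
  obtain ⟨W', hW'c, hW'V⟩ := hg V hV
  obtain ⟨s, hs, hsW⟩ := (isCompact_and_isOpen_iff_finite_and_eq_biUnion_affineOpens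
    (U := (W' : Set Y))).mp ⟨hW'c, W'.2⟩
  choose Wk hWkc hWk using fun k : Y.affineOpens => hf k.1 k.2
  have hcoe : ((⨆ k ∈ s, Wk k : X.Opens) : Set X) = ⋃ k ∈ s, (Wk k : Set X) := by
    simp only [TopologicalSpace.Opens.coe_iSup]
  refine ⟨⨆ k ∈ s, Wk k, ?_, ?_⟩
  · rw [hcoe]
    exact hs.isCompact_biUnion (fun k _ => hWkc k)
  · rw [hcoe, ← hW'V, hsW]
    ext z
    simp only [Set.mem_image, Set.mem_iUnion, exists_prop, SetLike.mem_coe]
    constructor
    · rintro ⟨x, ⟨k, hk, hxk⟩, rfl⟩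
      refine ⟨f x, ⟨k, hk, ?_⟩, rfl⟩
      have : f x ∈ f.base '' (Wk k : Set X) := ⟨x, hxk, rfl⟩
      rw [hWk k] at this
      exact this
    · rintro ⟨y, ⟨k, hk, hyk⟩, rfl⟩
      have : y ∈ f.base '' (Wk k : Set X) := by rw [hWk k]; exact hyk
      obtain ⟨x, hxk, rfl⟩ := this
      exact ⟨x, ⟨k, hk, hxk⟩, rfl⟩

/-- a group which becomes of multiplicative type and of finite type after an fpqc base change is
of multiplicative type and of finite type. -/
theorem isMultTypeFT_of_bc_iso {S S' : Scheme.{u}} (π : S' ⟶ S) [Flat π] [Surjective π]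
    (hcov : Cov π) (A : Over S) [GrpObj A] (H' : Over S') [GrpObj H']
    (hH' : SGA3x.IsMultTypeFT H') (e : Grp.mk (Red.bc π A) ≅ Grp.mk H') :
    SGA3x.IsMultTypeFT A := by
  obtain ⟨S₁, f, hfl, hsurj, hcov₁, hloc⟩ := hH'
  haveI := hfl
  haveI := hsurj
  refine ⟨S₁, f ≫ π, inferInstance, inferInstance, cov_comp f π hcov₁ hcov, fun x => ?_⟩
  obtain ⟨U, hxU, M, inst, hM, ⟨t⟩⟩ := hloc x
  refine ⟨U, hxU, M, inst, hM, ?_⟩
  have h1 : Nonempty (Grp.mk (Red.bc ((U.ι ≫ f) ≫ π) A) ≅ Grp.mk (Red.DS (U : Scheme.{u}) M)) :=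
    ⟨bcCompIso (U.ι ≫ f) π A ≪≫ bcMapIso (U.ι ≫ f) e ≪≫ t⟩
  rwa [Category.assoc] at h1

end Cover

section GrpStr

variable {S S' : Scheme.{u}} (π : S' ⟶ S) {G : Over S} [GrpObj G] {H' : Over S'} [GrpObj H']
  (j' : H' ⟶ Red.bc π G) [IsMonHom j']

/-- the subgroup of the points of `G` lying in `H'`. -/
def memSub (T : Over S) : Subgroup (T ⟶ G) where
  carrier := {g | Mem π j' T g}
  mul_mem' := fun h₁ h₂ => mem_mul π j' T _ _ h₁ h₂
  one_mem' := mem_one π j' T
  inv_mem' := fun h => mem_inv π j' T _ h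

/-- restriction, as a homomorphism of groups. -/
noncomputable def memSubMap {T T' : Over S} (k : T' ⟶ T) : memSub π j' T →* memSub π j' T' where
  toFun g := ⟨k ≫ g.1, mem_comp π j' k g.1 g.2⟩
  map_one' := Subtype.ext (MonObj.comp_one _)
  map_mul' _ _ := Subtype.ext (MonObj.comp_mul _ _ _)

/-- the presheaf of groups of points of `G` lying in `H'`. -/
noncomputable def subGrpF : (Over S)ᵒᵖ ⥤ GrpCat.{u} where
  obj T := GrpCat.of (memSub π j' T.unop)
  map k := GrpCat.ofHom (memSubMap π j' k.unop)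
  map_id T := by
    refine GrpCat.hom_ext (MonoidHom.ext fun g => Subtype.ext ?_)
    exact Category.id_comp _
  map_comp k k' := by
    refine GrpCat.hom_ext (MonoidHom.ext fun g => Subtype.ext ?_)
    exact Category.assoc _ _ _

variable {A : Over S} (e : (subF π j').obj (op A))
  (hbij : ∀ T : Over S, Function.Bijective (fun a : T ⟶ A => (subF π j').map a.op e))

/-- a universal element of `subF` represents the presheaf of groups `subGrpF`. -/
noncomputable def repBy : (subGrpF π j' ⋙ forget _).RepresentableBy A where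
  homEquiv {T} := Equiv.ofBijective
    (fun a : T ⟶ A => (⟨a ≫ e.1, mem_comp π j' a e.1 e.2⟩ : memSub π j' T))
    ⟨fun a a' h => (hbij T).1 (Subtype.ext (congrArg Subtype.val h)), fun g => by
      obtain ⟨a, ha⟩ := (hbij T).2 ⟨g.1, g.2⟩
      exact ⟨a, Subtype.ext (congrArg Subtype.val ha)⟩⟩
  homEquiv_comp f g := Subtype.ext (Category.assoc _ _ _)

include hbij in
/-- **The group structure on the representing object**, for which the universal element is a
homomorphism. -/
theorem exists_grpObj : ∃ _ : GrpObj A, IsMonHom e.1 := by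
  letI inst : GrpObj A := GrpObj.ofRepresentableBy A (subGrpF π j') (repBy π j' e hbij)
  refine ⟨inst, ?_⟩
  apply CentralDescent.isMonHom_of_forall_mul
  intro T x y
  have hmul : (repBy π j' e hbij).homEquiv (x * y) =
      ((repBy π j' e hbij).homEquiv x : memSub π j' T) * (repBy π j' e hbij).homEquiv y :=
    ((yonedaGrpObjIsoOfRepresentableBy A (subGrpF π j') (repBy π j' e hbij)).hom.app
      (op T)).hom.map_mul x y
  exact congrArg Subtype.val hmul

end GrpStr

section Iso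

variable {S S' : Scheme.{u}} (π : S' ⟶ S) {G : Over S} [GrpObj G] {H' : Over S'} [GrpObj H']
  (j' : H' ⟶ Red.bc π G) [Mono j']
  (hindep : ∀ (Y : Over S) (a b : Y.left ⟶ S') (ha : a ≫ π = Y.hom) (hb : b ≫ π = Y.hom)
    (g : Y ⟶ G), InH π j' Y a ha g ↔ InH π j' Y b hb g)
  {A : Over S} (e : (subF π j').obj (op A))
  (hbij : ∀ T : Over S, Function.Bijective (fun a : T ⟶ A => (subF π j').map a.op e))

include hbij in
lemma mono_univ : Mono e.1 := by
  refine ⟨fun {T} a a' h => ?_⟩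
  exact (hbij T).1 (Subtype.ext h)

include hbij in
lemma mono_map_univ : Mono ((Over.pullback π).map e.1) := by
  haveI := mono_univ π j' e hbij
  refine ⟨fun {T} x y h => ?_⟩
  have h1 := congrArg (adjE π G T) h
  rw [Groth.Agent.Lib.R2H3.EqLocus.adjE_comp_map₀, Groth.Agent.Lib.R2H3.EqLocus.adjE_comp_map₀] at h1
  exact (adjE π A T).injective ((cancel_mono e.1).mp h1)

include hindep hbij in
/-- **The base change of the representing object is `H'`**, compatibly with the inclusions. -/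
theorem exists_iso : ∃ φ : Red.bc π A ≅ H', φ.hom ≫ j' = (Over.pullback π).map e.1 := by
  haveI := mono_map_univ π j' e hbij
  -- the morphism `A ×_S S' ⟶ H'`
  have hmem : Mem π j' ((Over.map π).obj (Red.bc π A)) (adjE π A (Red.bc π A) (𝟙 _) ≫ e.1) :=
    mem_comp π j' _ e.1 e.2
  obtain ⟨h, hh⟩ := (inH_map_iff π j' (Red.bc π A) _).mp
    (inH_of_mem π j' _ (Red.bc π A).hom rfl _ hmem)
  have hh' : h ≫ j' = (Over.pullback π).map e.1 := by
    rw [hh]
    apply (adjE π G _).injective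
    rw [Equiv.apply_symm_apply]
    have := Groth.Agent.Lib.R2H3.EqLocus.adjE_comp_map₀ π e.1 (Red.bc π A) (𝟙 _)
    rw [Category.id_comp] at this
    exact this.symm
  -- the morphism `H' ⟶ A ×_S S'`
  obtain ⟨a, ha⟩ := (hbij ((Over.map π).obj H')).2 (univE π j' hindep)
  have ha' : a ≫ e.1 = adjE π G H' j' := congrArg Subtype.val ha
  obtain ⟨ψ, hψ⟩ : ∃ ψ : H' ⟶ Red.bc π A, adjE π A H' ψ = a :=
    ⟨(adjE π A H').symm a, Equiv.apply_symm_apply _ _⟩
  have hψ' : ψ ≫ (Over.pullback π).map e.1 = j' := by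
    apply (adjE π G H').injective
    rw [Groth.Agent.Lib.R2H3.EqLocus.adjE_comp_map₀, hψ, ha']
  refine ⟨⟨h, ψ, ?_, ?_⟩, hh'⟩
  · rw [← cancel_mono ((Over.pullback π).map e.1), Category.assoc, hψ', hh', Category.id_comp]
  · rw [← cancel_mono j', Category.assoc, hh', hψ', Category.id_comp]

end Iso

section Main

variable {S S' : Scheme.{u}} (G : Over S) [GrpObj G]
  [IsSeparated G.hom] [LocallyOfFinitePresentation G.hom] [QuasiCompact G.hom]
  [QuasiSeparated G.hom]
  (π : S' ⟶ S) [Flat π] [Surjective π] (hcov : Cov π)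
  (hconn : ∀ s : S, ConnectedSpace ↥(pullback π (Red.geomPt s)))
  (H' : Over S') [GrpObj H'] (hH' : SGA3x.IsMultTypeFT H')
  (j' : H' ⟶ Red.bc π G) [IsMonHom j'] [IsImmersion j'.left]
  (hc : ∀ (X : Over S') (g : X ⟶ Red.bc π G) (h : X ⟶ H'), g * (h ≫ j') = (h ≫ j') * g)

include hcov hconn hH' hc in
open scoped Obj in
/-- **Descent of a central subgroup of multiplicative type along an fpqc covering with
geometrically connected fibres.** -/
theorem exists_descent :
    ∃ (H : Over S) (_ : GrpObj H) (j : H ⟶ G), IsMonHom j ∧ IsImmersion j.left ∧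
      SGA3x.IsMultTypeFT H ∧ ∃ φ : Red.bc π H ≅ H', φ.hom ≫ j' = (Over.pullback π).map j := by
  haveI : Mono j'.left := inferInstance
  haveI : Mono j' := Over.mono_of_mono_left j'
  have hindep : ∀ (Y : Over S) (a b : Y.left ⟶ S') (ha : a ≫ π = Y.hom) (hb : b ≫ π = Y.hom)
      (g : Y ⟶ G), InH π j' Y a ha g ↔ InH π j' Y b hb g :=
    fun Y a b ha hb g => inH_iff π j' hH' hc
      (fun L _ _ w => connectedSpace_of_geomPt π hconn L w) Y a b ha hb g
  haveI haff : IsAffineHom H'.hom :=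
    Groth.Agent.Lib.R2H3.MultTypeProps.isAffineHom_of_isMultTypeFT H' hH'
  have hrep : HasAffRep (subF π j') π :=
    ⟨H', univE π j' hindep, haff, isUnivAt_subF π j' hindep⟩
  have hloc : TwC.Locally S TwC.Topology.fpqc (fun S₁ f => HasAffRep (subF π j') f) :=
    ⟨S', π, inferInstance, inferInstance, hcov, fun s' => ⟨⊤, trivial, hrep.baseChange _⟩⟩
  obtain ⟨A, e, hAaff, hbij⟩ := (hasAffRep_of_locally_fpqc (isZarSheaf_subF π j')
    (isFpqcSheaf_subF π j') hloc).exists_bijective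
  obtain ⟨instA, hjhom⟩ := exists_grpObj π j' e hbij
  obtain ⟨φ, hφ⟩ := exists_iso π j' hindep e hbij
  -- `φ` is an isomorphism of groups
  haveI : IsMonHom φ.hom := by
    apply CentralDescent.isMonHom_of_forall_mul
    intro T x y
    rw [← cancel_mono j', Category.assoc, hφ, MonObj.mul_comp, MonObj.mul_comp, Category.assoc,
      Category.assoc, hφ]
  refine ⟨A, instA, e.1, hjhom, ?_, ?_, φ, hφ⟩
  · -- immersion, by descent
    haveI := Groth.Agent.Lib.Helper12.descendsAlong_isImmersion_inf_quasiCompact.{u}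
    have hP : (@IsImmersion ⊓ @QuasiCompact : MorphismProperty Scheme.{u})
        ((Over.pullback π).map e.1).left := by
      rw [← hφ]
      haveI : QuasiCompact (j'.left ≫ (Red.bc π G).hom) := by
        rw [Over.w j']
        infer_instance
      haveI : QuasiSeparated (Red.bc π G).hom :=
        inferInstanceAs (QuasiSeparated (pullback.snd G.hom π))
      haveI : QuasiCompact j'.left := QuasiCompact.of_comp j'.left (Red.bc π G).hom
      haveI : IsIso φ.hom.left := (Over.forget S').map_isIso φ.hom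
      exact ⟨inferInstanceAs (IsImmersion (φ.hom.left ≫ j'.left)),
        inferInstanceAs (QuasiCompact (φ.hom.left ≫ j'.left))⟩
    have h1 := Groth.Agent.Lib.R2H3.BCDescent.descend_over e.1
      (@IsImmersion ⊓ @QuasiCompact : MorphismProperty Scheme.{u}) (fun V hV => by
        obtain ⟨W, q, hq, hQ⟩ := exists_fpqc_over_affine π hcov V hV
        refine ⟨W, q, hQ, fun x => ⟨W, 𝟙 _, inferInstance, ⟨x, rfl⟩, ?_⟩⟩
        rw [Category.id_comp, hq]
        exact Groth.Agent.Lib.R2H3.BCDescent.good_precomp e.1 _ W.ι π hP)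
    exact h1.1
  · exact isMultTypeFT_of_bc_iso π hcov A H' hH' (Grp.mkIso' φ)

end Main

section Unique

variable {S S' : Scheme.{u}} {G : Over S} (π : S' ⟶ S) [Flat π] [Surjective π] (hcov : Cov π)
  {H' : Over S'} (j' : H' ⟶ Red.bc π G)

include hcov in
/-- a subscheme of `G` whose base change is contained in the base change of a second one is
contained in it. -/
theorem exists_factor_of_bc {H₁ H₂ : Over S} (j₁ : H₁ ⟶ G) (j₂ : H₂ ⟶ G) [Mono j₂.left]
    (φ₁ : Red.bc π H₁ ≅ H') (hφ₁ : φ₁.hom ≫ j' = (Over.pullback π).map j₁)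
    (φ₂ : Red.bc π H₂ ≅ H') (hφ₂ : φ₂.hom ≫ j' = (Over.pullback π).map j₂) :
    ∃ ψ : H₁ ⟶ H₂, ψ ≫ j₂ = j₁ := by
  have hfac : Fac j₁ j₂ S' π := by
    refine ⟨(φ₁.hom ≫ φ₂.inv).left ≫ pullback.fst H₂.hom π, ?_⟩
    have h1 : (φ₁.hom ≫ φ₂.inv) ≫ (Over.pullback π).map j₂ = (Over.pullback π).map j₁ := by
      rw [Category.assoc, ← hφ₂, Iso.inv_hom_id_assoc, hφ₁]
    have h2 := congrArg (fun k => k.left ≫ pullback.fst G.hom π) h1
    simp only [Over.comp_left, Category.assoc] at h2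
    rw [Groth.Agent.Lib.R2H3.BCDescent.pullback_map_left_fst,
      Groth.Agent.Lib.R2H3.BCDescent.pullback_map_left_fst] at h2
    simpa only [Category.assoc, Over.comp_left] using h2
  apply exists_factor_of_fpqc_local j₁ j₂
  intro V hV
  obtain ⟨W, q, hq, hQ⟩ := exists_fpqc_over_affine π hcov V hV
  refine ⟨W, q, hQ, fun x => ⟨W, 𝟙 _, inferInstance, ⟨x, rfl⟩, ?_⟩⟩
  rw [Category.id_comp, hq]
  exact fac_precomp j₁ j₂ W.ι π hfac

include hcov in
/-- **Uniqueness of the descended subgroup.** -/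
theorem unique_descent {H₁ H₂ : Over S} (j₁ : H₁ ⟶ G) (j₂ : H₂ ⟶ G) [Mono j₁.left]
    [Mono j₂.left]
    (h₁ : ∃ φ₁ : Red.bc π H₁ ≅ H', φ₁.hom ≫ j' = (Over.pullback π).map j₁)
    (h₂ : ∃ φ₂ : Red.bc π H₂ ≅ H', φ₂.hom ≫ j' = (Over.pullback π).map j₂) :
    ∃ ψ : H₁ ≅ H₂, ψ.hom ≫ j₂ = j₁ := by
  obtain ⟨φ₁, hφ₁⟩ := h₁
  obtain ⟨φ₂, hφ₂⟩ := h₂
  haveI : Mono j₁ := Over.mono_of_mono_left j₁
  haveI : Mono j₂ := Over.mono_of_mono_left j₂
  obtain ⟨ψ, hψ⟩ := exists_factor_of_bc π hcov j' j₁ j₂ φ₁ hφ₁ φ₂ hφ₂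
  obtain ⟨ψ', hψ'⟩ := exists_factor_of_bc π hcov j' j₂ j₁ φ₂ hφ₂ φ₁ hφ₁
  refine ⟨⟨ψ, ψ', ?_, ?_⟩, hψ⟩
  · rw [← cancel_mono j₁, Category.assoc, hψ', hψ, Category.id_comp]
  · rw [← cancel_mono j₂, Category.assoc, hψ, hψ', Category.id_comp]

end Unique

end Groth.Agent.Lib.R2H3.SubDesc
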