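import Groth.Agent.Lib.R2H3SubDescA
import Groth.Agent.Lib.R2H3MultHomMain
import Groth.Agent.Lib.R2H3HomFinEt
import Groth.Agent.Lib.R2H3MultTypeProps
import Groth.Agent.Lib.R2H3TrivFibre
import Groth.Agent.Lib.R2H3DSQuot

/-!
# Subgroups of multiplicative type of a diagonalisable group

Let `i : H ⟶ D_W(M)` be a monomorphism of `W`-groups with `H` of multiplicative type and of finite
type and `M` finitely generated.  Locally on `W` for the topology of open and closed subsets, `H`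
is the subgroup `D_W(M/N)` for a subgroup `N` of `M`.

* `exists_field_triv`: a field valued point through a given point, trivialising `H`.
* `exists_subgroup_sameSub_field`: the subgroup `N` at a field valued point.
* `exists_clopen_subgroup`: the open and closed neighbourhood.
-/

set_option autoImplicit false
universe u

open CategoryTheory MonoidalCategory CartesianMonoidalCategory MonObj GrpObj AlgebraicGeometry
  CategoryTheory.Limits
open Groth.Agent.Lib.H6xDSPts Groth.Agent.Lib.R2H3.MultAct Groth.Agent.Lib.R2H3.MultHom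
  Groth.Agent.Lib.R2H3.FpqcLocal Groth.Agent.Lib.R2H3.EqLocus Groth.Agent.Lib.R2H3.FactorMono
  Groth.Agent.Lib.R2H3.SubDesc Groth.Agent.Lib.R2H3.HomFinEt Groth.Agent.Lib.R2H3.OverBc

namespace Groth.Agent.Lib.R2H3.SubDiag

section DSIso

variable {W : Scheme.{u}} {M M' : Type} [AddCommGroup M] [AddCommGroup M']

/-- the isomorphism of diagonalisable groups attached to an isomorphism of groups. -/
noncomputable def dsIso (e : M ≃+ M') : Red.DS W M' ≅ Red.DS W M where
  hom := Red.DSmap W (e : M →+ M')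
  inv := Red.DSmap W (e.symm : M' →+ M)
  hom_inv_id := by
    rw [DSmap_comp, ← DSmap_id]
    congr 1
    ext m
    simp
  inv_hom_id := by
    rw [DSmap_comp, ← DSmap_id]
    congr 1
    ext m
    simp

instance (e : M ≃+ M') : IsMonHom (dsIso (W := W) e).hom := by
  change IsMonHom (Red.DSmap W (e : M →+ M'))
  infer_instance

end DSIso

section Field

variable {W : Scheme.{u}} {H : Over W} [GrpObj H]

/-- a field valued point through a given point of the base, over which a group of multiplicative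
type and of finite type is diagonalisable. -/
theorem exists_field_triv (hH : SGA3x.IsMultTypeFT H) (w₀ : W) :
    ∃ (L : Type u) (_ : Field L) (y : Spec (CommRingCat.of L) ⟶ W) (M' : Type)
      (_ : AddCommGroup M'), y (IsLocalRing.closedPoint L) = w₀ ∧ AddGroup.FG M' ∧
      Nonempty (Grp.mk (Red.bc y H) ≅ Grp.mk (Red.DS (Spec (CommRingCat.of L)) M')) := by
  obtain ⟨S', f, -, hsurj, -, h4⟩ := hH
  obtain ⟨s', hs'⟩ := hsurj.surj w₀
  obtain ⟨U, hU, M', _, hfg, ⟨e⟩⟩ := h4 s'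
  refine ⟨((U : Scheme.{u}).residueField ⟨s', hU⟩ : CommRingCat.{u}), inferInstance,
    (U : Scheme.{u}).fromSpecResidueField ⟨s', hU⟩ ≫ U.ι ≫ f, M', inferInstance, ?_, hfg,
    ⟨bcTriv ((U : Scheme.{u}).fromSpecResidueField ⟨s', hU⟩) (U.ι ≫ f) _ rfl H M' e⟩⟩
  rw [Scheme.Hom.comp_apply, Scheme.Hom.comp_apply]
  have h1 : ((U : Scheme.{u}).fromSpecResidueField ⟨s', hU⟩)
      (IsLocalRing.closedPoint ((U : Scheme.{u}).residueField ⟨s', hU⟩)) = ⟨s', hU⟩ :=
    Scheme.fromSpecResidueField_apply _ _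
  rw [h1]
  exact hs'

end Field

section Pointwise

variable {W : Scheme.{u}} {M : Type} [AddCommGroup M] {H : Over W} [GrpObj H]
  (i : H ⟶ Red.DS W M) [IsMonHom i] [Mono i]

/-- at a field valued point over which `H` is diagonalisable, `H` is the subgroup `D(M/N)` of
`D(M)` for a subgroup `N` of `M`. -/
theorem exists_subgroup_sameSub_field {L : Type u} [Field L] (y : Spec (CommRingCat.of L) ⟶ W)
    {M' : Type} [AddCommGroup M']
    (eH : Grp.mk (Red.bc y H) ≅ Grp.mk (Red.DS (Spec (CommRingCat.of L)) M')) :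
    ∃ N : AddSubgroup M,
      SameSub i (Red.DSmap W (QuotientAddGroup.mk' N)) (Spec (CommRingCat.of L)) y := by
  classical
  -- the homomorphism of diagonalisable groups over the point
  obtain ⟨eG, heG⟩ : ∃ eG : Grp.mk (Red.bc y (Red.DS W M)) ≅
      Grp.mk (Red.DS (Spec (CommRingCat.of L)) M), eG = bcDSIso y M := ⟨_, rfl⟩
  obtain ⟨φ, hφ⟩ : ∃ φ : M →+ M', φ = AddMonoidHom.toMultiplicative.symm
      (phiAt (vOf i y eH eG) default) := ⟨_, rfl⟩
  have hW : ∀ w : Spec (CommRingCat.of L), w ∈ Wphi (vOf i y eH eG) φ := by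
    intro w
    rw [Subsingleton.elim w default, hφ]
    exact mem_Wphi_phiAt _ _
  have hv : vOf i y eH eG = Red.DSmap _ φ := by
    have h1 := comp_eq_of_mem_Wphi (vOf i y eH eG) φ (Red.DS (Spec (CommRingCat.of L)) M')
      (fun _ => hW _) (𝟙 _)
    rwa [Category.id_comp, Category.id_comp] at h1
  -- it is a monomorphism, so that `φ` is surjective
  have hsurj : Function.Surjective φ := by
    apply surjective_of_mono (𝟙 (Spec (CommRingCat.of L))) φ
    rw [← hv]
    have hm : Mono (vOf i y eH eG) := by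
      unfold vOf
      haveI : IsIso eG.hom.hom.hom :=
        ⟨eG.inv.hom.hom, by rw [← Grp.comp_hom_hom, eG.hom_inv_id, Grp.id_hom_hom],
          by rw [← Grp.comp_hom_hom, eG.inv_hom_id, Grp.id_hom_hom]⟩
      haveI : IsIso eH.inv.hom.hom :=
        ⟨eH.hom.hom.hom, by rw [← Grp.comp_hom_hom, eH.inv_hom_id, Grp.id_hom_hom],
          by rw [← Grp.comp_hom_hom, eH.hom_inv_id, Grp.id_hom_hom]⟩
      haveI : Mono ((Over.pullback y).map i) := inferInstance
      infer_instance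
    haveI : Mono ((Over.pullback (𝟙 (Spec (CommRingCat.of L)))).map (vOf i y eH eG)) :=
      inferInstance
    exact (Over.forget (Spec (CommRingCat.of L))).map_mono
      ((Over.pullback (𝟙 (Spec (CommRingCat.of L)))).map (vOf i y eH eG))
  -- the subgroup
  refine ⟨φ.ker, ?_⟩
  obtain ⟨e, he⟩ : ∃ e : M ⧸ φ.ker ≃+ M',
      (e : M ⧸ φ.ker →+ M').comp (QuotientAddGroup.mk' φ.ker) = φ :=
    ⟨QuotientAddGroup.quotientKerEquivOfSurjective φ hsurj, by ext m; rfl⟩
  have hcomp : Red.DSmap (Spec (CommRingCat.of L)) (e : M ⧸ φ.ker →+ M') ≫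
      Red.DSmap (Spec (CommRingCat.of L)) (QuotientAddGroup.mk' φ.ker) =
      Red.DSmap (Spec (CommRingCat.of L)) φ := by
    rw [DSmap_comp, he]
  -- the isomorphism
  obtain ⟨eQ, heQ⟩ : ∃ eQ : Grp.mk (Red.bc y (Red.DS W (M ⧸ φ.ker))) ≅
      Grp.mk (Red.DS (Spec (CommRingCat.of L)) (M ⧸ φ.ker)), eQ = bcDSIso y (M ⧸ φ.ker) :=
    ⟨_, rfl⟩
  have hnat : (Over.pullback y).map (Red.DSmap W (QuotientAddGroup.mk' φ.ker)) ≫
      eG.hom.hom.hom = eQ.hom.hom.hom ≫
        Red.DSmap (Spec (CommRingCat.of L)) (QuotientAddGroup.mk' φ.ker) := by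
    rw [heG, heQ]
    exact bcDSIso_DSmap y (QuotientAddGroup.mk' φ.ker)
  have e1 : eG.hom.hom.hom ≫ eG.inv.hom.hom = 𝟙 _ := by
    rw [← Grp.comp_hom_hom, eG.hom_inv_id, Grp.id_hom_hom]
  have e2 : eQ.inv.hom.hom ≫ eQ.hom.hom.hom = 𝟙 _ := by
    rw [← Grp.comp_hom_hom, eQ.inv_hom_id, Grp.id_hom_hom]
  have e3 : eH.hom.hom.hom ≫ eH.inv.hom.hom = 𝟙 _ := by
    rw [← Grp.comp_hom_hom, eH.hom_inv_id, Grp.id_hom_hom]
  have e4 : eH.inv.hom.hom ≫ eH.hom.hom.hom = 𝟙 _ := by
    rw [← Grp.comp_hom_hom, eH.inv_hom_id, Grp.id_hom_hom]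
  have e5 : eQ.hom.hom.hom ≫ eQ.inv.hom.hom = 𝟙 _ := by
    rw [← Grp.comp_hom_hom, eQ.hom_inv_id, Grp.id_hom_hom]
  have hnat' : eQ.inv.hom.hom ≫ (Over.pullback y).map
      (Red.DSmap W (QuotientAddGroup.mk' φ.ker)) =
      Red.DSmap (Spec (CommRingCat.of L)) (QuotientAddGroup.mk' φ.ker) ≫ eG.inv.hom.hom :=
    conj_of_comm _ _ _ _ _ _ e2 e1 hnat
  haveI := Groth.Agent.Lib.R2H3.DSQuot.mono_DSmap_mk (S := W) φ.ker
  rw [SameSub, fac_and_fac_iff]
  refine ⟨⟨eH.hom.hom.hom ≫ (dsIso e).hom ≫ eQ.inv.hom.hom,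
    eQ.hom.hom.hom ≫ (dsIso e).inv ≫ eH.inv.hom.hom, ?_, ?_⟩, ?_⟩
  · simp only [Category.assoc]
    rw [reassoc_of% e2, Iso.hom_inv_id_assoc, e3]
  · simp only [Category.assoc]
    rw [reassoc_of% e4, Iso.inv_hom_id_assoc, e5]
  · change (eH.hom.hom.hom ≫ Red.DSmap _ (e : M ⧸ φ.ker →+ M') ≫ eQ.inv.hom.hom) ≫ _ = _
    simp only [Category.assoc]
    rw [hnat', reassoc_of% hcomp, ← hv]
    unfold vOf
    simp only [Category.assoc]
    rw [e1, Category.comp_id, reassoc_of% e3]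

end Pointwise

section Clopen

variable {W : Scheme.{u}} {M : Type} [AddCommGroup M] {H : Over W} [GrpObj H]
  (i : H ⟶ Red.DS W M) [IsMonHom i] [Mono i]

lemma fg_quotient (hM : AddGroup.FG M) (N : AddSubgroup M) : AddGroup.FG (M ⧸ N) := by
  haveI := hM
  exact AddGroup.fg_of_surjective (QuotientAddGroup.mk'_surjective N)

/-- **Structure of subgroups of multiplicative type of a diagonalisable group**: on an open and
closed neighbourhood of a given point, `H` is the subgroup `D(M/N)` of `D(M)`. -/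
theorem exists_clopen_subgroup (hM : AddGroup.FG M) (hH : SGA3x.IsMultTypeFT H) (w₀ : W) :
    ∃ (N : AddSubgroup M) (U : W.Opens), w₀ ∈ U ∧ IsClosed (U : Set W) ∧
      SameSub i (Red.DSmap W (QuotientAddGroup.mk' N)) U U.ι := by
  obtain ⟨L, _, y, M', _, hy, -, ⟨eH⟩⟩ := exists_field_triv hH w₀
  obtain ⟨N, hN⟩ := exists_subgroup_sameSub_field i y eH
  haveI := Groth.Agent.Lib.R2H3.DSQuot.mono_DSmap_mk (S := W) N
  haveI : IsAffineHom (Red.DS W M).hom :=
    Groth.Agent.Lib.R2H3.MultTypeProps.isAffineHom_DS W M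
  haveI : IsSeparated (Red.DS W M).hom := inferInstance
  obtain ⟨U, hU, b1, b2⟩ := exists_clopen_sameSub (G := Red.DS W M)
    (Or.inr ⟨Groth.Agent.Lib.R2H3.MultTypeProps.lfp_DS W M hM, inferInstance, inferInstance⟩)
    hH (Groth.Agent.Lib.R2H3.TrivFibre.isMultTypeFT_DS W (M ⧸ N) (fg_quotient hM N))
    i (Red.DSmap W (QuotientAddGroup.mk' N))
    (fun X g h => Groth.Agent.Lib.R2H3.HomLift.ds_mul_comm _ _)
  refine ⟨N, U, ?_, hU, b2⟩
  obtain ⟨φ₀, hφ₀⟩ : ∃ φ₀ : W.residueField w₀ →+* L,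
      Spec.map (CommRingCat.ofHom φ₀) ≫ W.fromSpecResidueField w₀ = y := by
    subst hy
    exact ⟨(W.descResidueField (Scheme.stalkClosedPointTo y)).hom,
      Scheme.descResidueField_stalkClosedPointTo_fromSpecResidueField L W y⟩
  rw [b1 w₀]
  apply sameSub_descend i _ (Spec.map (CommRingCat.ofHom φ₀)) _
    (Groth.Agent.Lib.R2H3.MultHom.qfpqc_specMap_field _)
  rw [hφ₀]
  exact hN

end Clopen

end Groth.Agent.Lib.R2H3.SubDiag
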