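import Mathlib

/-!
# Syzygies in an exact sequence with projective middle terms (helper3, round 2)

In an abelian category, if `0 → G → P_m → ⋯ → P_1 → F → 0` is exact with the `P_i` projective and
`F` of projective dimension `< m + 1`, then `G` is projective.  The sequence is given as a
`ComposableArrows C (m + 1)`.
-/

set_option autoImplicit false
universe v v' u u'

open CategoryTheory CategoryTheory.Limits

namespace Groth.Agent.Lib.R2H3.Syzygy

variable {C : Type u} [Category.{v} C] [Abelian C]

/-- exact functors preserve exactness of composable arrows -/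
theorem exact_mapComposableArrows {D : Type u'} [Category.{v'} D] [Abelian D] (Φ : C ⥤ D)
    [Φ.Additive] [PreservesFiniteLimits Φ] [PreservesFiniteColimits Φ] {n : ℕ}
    (S : ComposableArrows C n) (hS : S.Exact) : ((Φ.mapComposableArrows n).obj S).Exact := by
  refine ⟨⟨fun i hi => ?_⟩, fun i hi => ?_⟩
  · have h := hS.toIsComplex.zero i hi
    change Φ.map (S.map' i (i + 1)) ≫ Φ.map (S.map' (i + 1) (i + 2)) = 0
    rw [← Φ.map_comp, h, Φ.map_zero]
  · exact (hS.exact i hi).map Φ

/-- the short exact sequence `0 → ker g → X → Y → 0` of an epimorphism -/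
theorem shortExact_kernel {X Y : C} (g : X ⟶ Y) [Epi g] :
    (ShortComplex.mk (kernel.ι g) g (kernel.condition g)).ShortExact := by
  refine ShortComplex.ShortExact.mk' ?_ inferInstance inferInstance
  exact ShortComplex.exact_of_f_is_kernel _ (kernelIsKernel g)

/-- `0 → ker f → X → ker g → 0` is short exact when `X → Y → Z` is exact -/
theorem shortExact_kernel_lift {X Y Z : C} (f : X ⟶ Y) (g : Y ⟶ Z) (w : f ≫ g = 0)
    (h : (ShortComplex.mk f g w).Exact) :
    (ShortComplex.mk (kernel.ι f) (kernel.lift g f w)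
      (by rw [← cancel_mono (kernel.ι g), Category.assoc, kernel.lift_ι, kernel.condition,
        zero_comp])).ShortExact := by
  have hepi : Epi (kernel.lift g f w) :=
    (ShortComplex.exact_iff_epi_kernel_lift (ShortComplex.mk f g w)).1 h
  refine ShortComplex.ShortExact.mk' ?_ inferInstance hepi
  refine ShortComplex.exact_of_f_is_kernel _ ?_
  exact isKernelOfComp (f := kernel.lift g f w) (kernel.ι g) f (kernelIsKernel f) _
    (kernel.lift_ι g f w)

/-- **Syzygy lemma.** -/
theorem projective_of_exact (m : ℕ) (S : ComposableArrows C (m + 1)) (hS : S.Exact)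
    (hmono : Mono (S.map' 0 1 (Nat.zero_le 1) (Nat.le_add_left 1 m)))
    (hepi : Epi (S.map' m (m + 1) (Nat.le_succ m) (le_refl (m + 1))))
    (hP : ∀ i : Fin m,
      Projective (S.obj ⟨i.1 + 1, Nat.succ_lt_succ (Nat.lt_succ_of_lt i.2)⟩))
    (hpd : HasProjectiveDimensionLT (S.obj (Fin.last (m + 1))) (m + 1)) :
    Projective (S.obj 0) := by
  have hPk : ∀ (k : ℕ) (hk1 : 1 ≤ k) (hkm : k ≤ m),
      Projective (S.obj ⟨k, Nat.lt_succ_of_le (Nat.le_succ_of_le hkm)⟩) := by
    intro k hk1 hkm
    obtain ⟨k', rfl⟩ : ∃ k', k = k' + 1 := ⟨k - 1, by omega⟩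
    exact hP ⟨k', by omega⟩
  have key : ∀ (j : ℕ) (hj : j ≤ m), 1 ≤ j →
      HasProjectiveDimensionLT
        (kernel (S.map' j (j + 1) (Nat.le_succ j) (Nat.succ_le_succ hj))) j := by
    intro j hj
    refine Nat.decreasingInduction (n := m)
      (motive := fun j hj => 1 ≤ j → HasProjectiveDimensionLT
        (kernel (S.map' j (j + 1) (Nat.le_succ j) (Nat.succ_le_succ hj))) j) ?_ ?_ hj
    · intro k hk ih hk1
      have ih' := ih (by omega)
      have hex := hS.exact k (by omega)
      have hses := shortExact_kernel_lift (S.map' k (k + 1)) (S.map' (k + 1) (k + 2))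
        (hS.toIsComplex.zero k (by omega)) hex
      have hproj : Projective (S.obj ⟨k, by omega⟩) := hPk k hk1 (by omega)
      have h2 : HasProjectiveDimensionLT (S.obj ⟨k, by omega⟩) k :=
        hasProjectiveDimensionLT_of_ge _ 1 k hk1
      exact hses.hasProjectiveDimensionLT_X₁ k h2 ih'
    · intro hm1
      have hses := shortExact_kernel (S.map' m (m + 1) (Nat.le_succ m) (le_refl (m + 1)))
      have hproj : Projective (S.obj ⟨m, by omega⟩) := hPk m hm1 le_rfl
      have h2 : HasProjectiveDimensionLT (S.obj ⟨m, by omega⟩) m :=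
        hasProjectiveDimensionLT_of_ge _ 1 m hm1
      exact hses.hasProjectiveDimensionLT_X₁ m h2 hpd
  rw [projective_iff_hasProjectiveDimensionLT_one]
  rcases Nat.eq_zero_or_pos m with rfl | hm
  · have hiso : IsIso (S.map' 0 1 (Nat.zero_le 1) (Nat.le_add_left 1 0)) :=
      isIso_of_mono_of_epi _
    have : HasProjectiveDimensionLT (S.obj ⟨1, by omega⟩) 1 := hpd
    exact hasProjectiveDimensionLT_of_iso (asIso (S.map' 0 1 (Nat.zero_le 1)
      (Nat.le_add_left 1 0))).symm 1
  · have h1 := key 1 hm le_rfl
    have hex := hS.exact 0 (by omega)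
    have hw := hS.toIsComplex.zero 0 (by omega)
    have hepi' : Epi (kernel.lift _ _ hw) :=
      (ShortComplex.exact_iff_epi_kernel_lift (ShortComplex.mk _ _ hw)).1 hex
    have hmono' : Mono (kernel.lift _ _ hw) := by
      have : Mono (kernel.lift _ _ hw ≫ kernel.ι _) := by
        rw [kernel.lift_ι]
        exact hmono
      exact mono_of_mono _ (kernel.ι _)
    have hiso : IsIso (kernel.lift _ _ hw) := isIso_of_mono_of_epi _
    exact hasProjectiveDimensionLT_of_iso (asIso (kernel.lift _ _ hw)).symm 1

end Groth.Agent.Lib.R2H3.Syzygy
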