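import Mathlib

/-!
# Tensor products of field extensions of an algebraically closed field are connected
(helper3, round 2)

* `exists_algHom_ne_zero`: Nullstellensatz in the form: a nonzero element of a reduced algebra of
  finite type over an algebraically closed field `k` is nonzero at some `k`-point.
* `eq_zero_or_eq_one_of_isIdempotentElem`: for field extensions `K`, `L` of an algebraically
  closed field `k`, the only idempotents of `K ⊗[k] L` are `0` and `1`.
* `connectedSpace_primeSpectrum_tensor`: hence `Spec (K ⊗[k] L)` is connected.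
-/

set_option autoImplicit false
set_option linter.style.haveILetI false

open TensorProduct

namespace Groth.Agent.Lib.R2H3.TensorConn

/-- Nullstellensatz: a nonzero element of a reduced algebra of finite type over an algebraically
closed field does not vanish at some rational point. -/
theorem exists_algHom_ne_zero {k A : Type*} [Field k] [IsAlgClosed k] [CommRing A] [Algebra k A]
    [Algebra.FiniteType k A] [IsReduced A] {y : A} (hy : y ≠ 0) :
    ∃ χ : A →ₐ[k] k, χ y ≠ 0 := by
  haveI : IsJacobsonRing A := isJacobsonRing_of_finiteType (A := k) (B := A)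
  have hrad : (⊥ : Ideal A).IsRadical := by
    rw [← Ideal.radical_eq_iff]
    exact (nilradical_eq_zero A)
  have hjac : (⊥ : Ideal A).jacobson = ⊥ := IsJacobsonRing.out ‹_› hrad
  have hy' : y ∉ (⊥ : Ideal A).jacobson := by
    rw [hjac]
    exact hy
  rw [Ideal.jacobson, Ideal.mem_sInf] at hy'
  push Not at hy'
  obtain ⟨m, ⟨-, hm⟩, hym⟩ := hy'
  haveI := hm
  letI : Field (A ⧸ m) := Ideal.Quotient.field m
  haveI : Algebra.FiniteType k (A ⧸ m) := inferInstance
  haveI : Module.Finite k (A ⧸ m) := finite_of_finite_type_of_isJacobsonRing k (A ⧸ m)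
  haveI : Algebra.IsIntegral k (A ⧸ m) := Algebra.IsIntegral.of_finite k (A ⧸ m)
  have hbij : Function.Bijective (algebraMap k (A ⧸ m)) :=
    IsAlgClosed.algebraMap_bijective_of_isIntegral
  let E : k ≃ₐ[k] (A ⧸ m) := AlgEquiv.ofBijective (Algebra.ofId k (A ⧸ m)) hbij
  refine ⟨(E.symm : (A ⧸ m) →ₐ[k] k).comp (Ideal.Quotient.mkₐ k m), ?_⟩
  intro h0
  apply hym
  rw [← Ideal.Quotient.eq_zero_iff_mem]
  have h1 : E.symm (Ideal.Quotient.mk m y) = 0 := h0
  exact (map_eq_zero_iff E.symm E.symm.injective).mp h1

/-- For field extensions `K`, `L` of an algebraically closed field `k`, the ring `K ⊗[k] L` has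
only the trivial idempotents. -/
theorem eq_zero_or_eq_one_of_isIdempotentElem {k K L : Type*} [Field k] [IsAlgClosed k]
    [Field K] [Field L] [Algebra k K] [Algebra k L] (e : K ⊗[k] L) (he : IsIdempotentElem e) :
    e = 0 ∨ e = 1 := by
  classical
  obtain ⟨κ, ⟨𝒞⟩⟩ : ∃ κ : Type _, Nonempty (Module.Basis κ k L) :=
    ⟨_, ⟨Module.Free.chooseBasis k L⟩⟩
  obtain ⟨Φ, hΦ⟩ : ∃ Φ : K ⊗[k] L ≃ₗ[k] κ →₀ K, Φ = TensorProduct.equivFinsuppOfBasisRight 𝒞 :=
    ⟨_, rfl⟩
  obtain ⟨x, hx⟩ : ∃ x : κ →₀ K, x = Φ e := ⟨_, rfl⟩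
  obtain ⟨c, hc⟩ : ∃ c : κ →₀ k, c = 𝒞.repr 1 := ⟨_, rfl⟩
  have hΦ1 : ∀ i, Φ 1 i = c i • (1 : K) := by
    intro i
    rw [hΦ, Algebra.TensorProduct.one_def,
      TensorProduct.equivFinsuppOfBasisRight_apply_tmul_apply, hc]
  have hex : e = x.sum fun i m => m ⊗ₜ[k] 𝒞 i := by
    rw [← TensorProduct.equivFinsuppOfBasisRight_symm_apply, hx, hΦ, LinearEquiv.symm_apply_apply]
  by_contra hcon
  push Not at hcon
  obtain ⟨hne0, hne1⟩ := hcon
  have h0 : ∃ j, x j ≠ 0 := by
    by_contra h
    push Not at h
    apply hne0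
    apply Φ.injective
    rw [← hx, map_zero]
    ext i
    exact h i
  have h1 : ∃ m, x m ≠ c m • (1 : K) := by
    by_contra h
    push Not at h
    apply hne1
    apply Φ.injective
    rw [← hx]
    ext i
    rw [h i, hΦ1]
  obtain ⟨j, hj⟩ := h0
  obtain ⟨m, hm⟩ := h1
  -- the subalgebra generated by the coefficients
  obtain ⟨A, hA⟩ : ∃ A : Subalgebra k K, A = Algebra.adjoin k ((x.support.image x : Finset K) : Set K) :=
    ⟨_, rfl⟩
  haveI : Algebra.FiniteType k A := by
    rw [hA]
    exact (Subalgebra.fg_iff_finiteType _).mp (Subalgebra.fg_adjoin_finset _)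
  have hxA : ∀ i, x i ∈ A := by
    intro i
    by_cases hi : i ∈ x.support
    · rw [hA]
      apply Algebra.subset_adjoin
      exact Finset.mem_coe.mpr (Finset.mem_image_of_mem x hi)
    · rw [Finsupp.notMem_support_iff.mp hi]
      exact zero_mem A
  obtain ⟨x', hx'⟩ : ∃ x' : κ →₀ A, ∀ i, (x' i : K) = x i := by
    refine ⟨Finsupp.onFinset x.support (fun i => ⟨x i, hxA i⟩) ?_, fun i => rfl⟩
    intro i hi
    rw [Finsupp.mem_support_iff]
    intro h
    apply hi
    exact Subtype.ext h
  obtain ⟨e', he'⟩ : ∃ e' : A ⊗[k] L, e' = x'.sum fun i m => m ⊗ₜ[k] 𝒞 i := ⟨_, rfl⟩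
  obtain ⟨jm, hjm⟩ : ∃ jm : A ⊗[k] L →ₐ[k] K ⊗[k] L,
      jm = Algebra.TensorProduct.map A.val (AlgHom.id k L) := ⟨_, rfl⟩
  have hjinj : Function.Injective jm := by
    have h1 : Function.Injective (LinearMap.rTensor L A.val.toLinearMap) :=
      Module.Flat.rTensor_preserves_injective_linearMap (M := L) A.val.toLinearMap
        Subtype.val_injective
    have h2 : ∀ z, jm z = LinearMap.rTensor L A.val.toLinearMap z := by
      intro z
      induction z using TensorProduct.induction_on with
      | zero => simp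
      | tmul a l => rw [hjm]; simp
      | add a b ha hb => rw [map_add, map_add, ha, hb]
    intro a b hab
    apply h1
    rw [← h2, ← h2, hab]
  have hje : jm e' = e := by
    rw [he', hex, Finsupp.sum, Finsupp.sum, map_sum]
    have hsupp : x'.support = x.support := by
      ext i
      rw [Finsupp.mem_support_iff, Finsupp.mem_support_iff, ← hx' i]
      constructor
      · intro h h'
        apply h
        exact Subtype.ext h'
      · intro h h'
        apply h
        rw [h']
        rfl
    rw [hsupp]
    apply Finset.sum_congr rfl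
    intro i _
    rw [hjm, Algebra.TensorProduct.map_tmul, ← hx' i]
    rfl
  have hide : IsIdempotentElem e' := by
    apply hjinj
    rw [map_mul, hje]
    exact he
  -- evaluation at a rational point of `A`
  have hev : ∀ χ : A →ₐ[k] k, (∀ i, χ (x' i) = 0) ∨ (∀ i, χ (x' i) = c i) := by
    intro χ
    obtain ⟨ev, hev⟩ : ∃ ev : A ⊗[k] L →ₐ[k] L,
        ev = Algebra.TensorProduct.lift ((Algebra.ofId k L).comp χ) (AlgHom.id k L)
          (fun _ _ => Commute.all _ _) := ⟨_, rfl⟩
    have h1 : ev e' = Finsupp.linearCombination k 𝒞 (x'.mapRange χ (map_zero χ)) := by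
      rw [he', Finsupp.sum, map_sum, Finsupp.linearCombination_apply,
        Finsupp.sum_mapRange_index (by intro i; exact zero_smul _ _), Finsupp.sum]
      apply Finset.sum_congr rfl
      intro i _
      rw [hev, Algebra.TensorProduct.lift_tmul]
      simp [Algebra.ofId_apply, Algebra.smul_def]
    have h2 : IsIdempotentElem (ev e') := by
      unfold IsIdempotentElem
      rw [← map_mul, hide.eq]
    rcases IsIdempotentElem.iff_eq_zero_or_one.mp h2 with h3 | h3
    · left
      intro i
      have h4 := congrArg (fun z => 𝒞.repr z i) (h1.symm.trans h3)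
      simpa [Module.Basis.repr_linearCombination] using h4
    · right
      intro i
      have h4 := congrArg (fun z => 𝒞.repr z i) (h1.symm.trans h3)
      simpa [Module.Basis.repr_linearCombination, hc] using h4
  -- the contradiction
  obtain ⟨y, hy⟩ : ∃ y : A, y = x' j * (x' m - algebraMap k A (c m)) := ⟨_, rfl⟩
  have hyne : y ≠ 0 := by
    rw [hy]
    apply mul_ne_zero
    · intro h
      apply hj
      rw [← hx' j, h]
      rfl
    · intro h
      apply hm
      rw [← hx' m, sub_eq_zero.mp h, Algebra.smul_def, mul_one]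
      rfl
  obtain ⟨χ, hχ⟩ := exists_algHom_ne_zero (k := k) hyne
  apply hχ
  rw [hy, map_mul, map_sub, AlgHom.commutes]
  rcases hev χ with h | h
  · rw [h j, zero_mul]
  · rw [h m]
    simp

/-- For field extensions `K`, `L` of an algebraically closed field `k`, the spectrum of
`K ⊗[k] L` is connected. -/
theorem connectedSpace_primeSpectrum_tensor {k K L : Type*} [Field k] [IsAlgClosed k]
    [Field K] [Field L] [Algebra k K] [Algebra k L] :
    ConnectedSpace (PrimeSpectrum (K ⊗[k] L)) := by
  haveI : Nontrivial (K ⊗[k] L) := inferInstance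
  haveI : Nonempty (PrimeSpectrum (K ⊗[k] L)) := inferInstance
  haveI : PreconnectedSpace (PrimeSpectrum (K ⊗[k] L)) := by
    rw [preconnectedSpace_iff_clopen]
    intro s hs
    obtain ⟨e, he, rfl⟩ := PrimeSpectrum.isClopen_iff.mp hs
    rcases eq_zero_or_eq_one_of_isIdempotentElem e he with rfl | rfl
    · left
      simp
    · right
      simp
  exact { toNonempty := inferInstance }

end Groth.Agent.Lib.R2H3.TensorConn
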