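import Mathlib
import Groth.Agent.Lib.R2H3TopBCE
import Groth.Agent.Lib.Helper23QCohExt
import Groth.Agent.Lib.Helper23AffVanish7
import Groth.Agent.Lib.Helper23FinTypeLocal
import Groth.Agent.Lib.Helper18OmLS10

/-!
# Surjectivity of `O_Y → f_* O_X` is stable under base change (helper3, round 2)

`f : X ⟶ Y` proper, fibres of dimension `≤ 1`, `H^1(X_y, O) = 0` for all `y`, and
`O_Y(U) → O_X(f⁻¹U)` surjective for affine `U`: the same holds after any base change.
-/

set_option autoImplicit false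
set_option linter.unusedSectionVars false
set_option linter.style.haveILetI false
universe u
open CategoryTheory CategoryTheory.Limits AlgebraicGeometry TopologicalSpace Topology Opposite
open TensorProduct

namespace Groth.Agent.Lib.R2H3.TopBCF

open Groth.Agent.Lib.Helper4.FibDim Groth.Agent.Lib.Helper3.LocDimBC
  Groth.Agent.Lib.R2H3.FibDimLimB Groth.Agent.Lib.R2H3.FibDimLimD
  Groth.Agent.Lib.R2H3.FibDimLimF Groth.Agent.Lib.R2H2.HHLin Groth.Agent.Lib.R2H3.TopBCA
  Groth.Agent.Lib.R2H3.TopBCB Groth.Agent.Lib.R2H3.TopBCC Groth.Agent.Lib.R2H3.TopBCD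
  Groth.Agent.Lib.R2H3.TopBCE

attribute [local instance] Groth.Agent.Lib.R2H3.RpushRestrict.hasInjectiveResolutions_modules

section Ring

/-- in a pushout square of commutative rings, the pushout of a surjection is a surjection -/
theorem surjective_of_isPushout {A R P T : CommRingCat.{u}} {φ : A ⟶ R} {χ : A ⟶ P} {a : R ⟶ T}
    {b : P ⟶ T} (H : IsPushout φ χ a b) (hφ : Function.Surjective φ.hom) :
    Function.Surjective b.hom := by
  have h1 := CommRingCat.closure_range_union_range_eq_top_of_isPushout H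
  have h2 : Set.range a.hom ∪ Set.range b.hom ⊆ (b.hom.range : Set T) := by
    rintro _ (⟨r, rfl⟩ | ⟨p, rfl⟩)
    · obtain ⟨x, rfl⟩ := hφ r
      have h3 : a.hom (φ.hom x) = b.hom (χ.hom x) := by
        have := congrArg (fun m : A ⟶ T => m.hom x) H.w
        exact this
      rw [h3]
      exact ⟨_, rfl⟩
    · exact ⟨p, rfl⟩
  have h4 : Subring.closure (Set.range a.hom ∪ Set.range b.hom) ≤ b.hom.range :=
    Subring.closure_le.mpr h2
  intro y
  have h5 : y ∈ Subring.closure (Set.range a.hom ∪ Set.range b.hom) := by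
    rw [h1]; trivial
  exact h4 h5

end Ring

section Closed

variable (P B : Type u) [CommRing P] [CommRing B] (π : P →+* B) (hπ : Function.Surjective π)
  {XP X' : Scheme.{u}} (fP : XP ⟶ Spec (CommRingCat.of P)) [IsProper fP]
  (f' : X' ⟶ Spec (CommRingCat.of B)) (κ : X' ⟶ XP)
  (sq : IsPullback κ f' fP (Spec.map (CommRingCat.ofHom π)))

include hπ sq in
/-- **closed step**: global functions lift along the closed immersion if the fibres of `fP` have
dimension `≤ 1` and no `H^1(O)`. -/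
theorem surjective_appTop_of_closed
    (hdim : ∀ q : Spec (CommRingCat.of P), topologicalKrullDim ↥(fP.fiber q) ≤ ((1 : ℕ) : WithBot ℕ∞))
    (hH1 : ∀ q : Spec (CommRingCat.of P),
      Subsingleton (Coh.HH (fP.fiber q) (Coh.structureModule (fP.fiber q)) 1)) :
    Function.Surjective (κ.appTop).hom := by
  haveI := isClosedImmersion_of_sq P B π hπ fP f' κ sq
  haveI := isQCoh_structureModule XP
  haveI := isQCoh_structureModule X'
  haveI : Epi (ClSub.unitToPush κ) := Groth.Agent.Lib.R2H3.ClosedTensor.epi_unitToPush κ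
  haveI : ((Scheme.Modules.pushforward κ).obj (Coh.structureModule X')).IsQuasicoherent :=
    Groth.Agent.Lib.Helper23.QCohLocal.isQuasicoherent_pushforward κ _
  haveI hKq : (kernel (ClSub.unitToPush κ)).IsQuasicoherent :=
    Groth.Agent.Lib.Helper23.QCohLocal.isQuasicoherent_kernel _
  haveI := epi_epsMap P B π hπ fP f' κ sq
  haveI : IsAffine (Spec (CommRingCat.of P)) := inferInstance
  have hK : Subsingleton (Coh.HH XP (kernel (ClSub.unitToPush κ)) 1) :=
    subsingleton_HH_of_epi_sigma fP 1 hdim hH1 _ hKq _ (epsMap P B π hπ fP f' κ sq)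
  let S1 : ShortComplex XP.Modules := ShortComplex.mk (kernel.ι (ClSub.unitToPush κ))
    (ClSub.unitToPush κ) (kernel.condition _)
  have hS1 : S1.ShortExact :=
    { exact := ShortComplex.exact_kernel _
      mono_f := by dsimp [S1]; infer_instance
      epi_g := by dsimp [S1]; infer_instance }
  have hK' : Subsingleton (Groth.Agent.Lib.Helper23.AffVanish.HE
      (Groth.Agent.Lib.Helper23.AffVanish.ab' S1.X₁) 1 (⊤ : XP.Opens)) :=
    (Groth.Agent.Lib.Helper23.AffVanish.HETopEquivH XP.carrier _ 1).toEquiv.subsingleton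
  have h1 := Groth.Agent.Lib.Helper23.QCohLocal.surjective_app_of_subsingleton_HE S1 hS1 ⊤ hK'
  intro x
  obtain ⟨a, ha⟩ := h1 x
  exact ⟨a, ha⟩

end Closed

section FibBC

variable {X Y : Scheme.{u}} (f : X ⟶ Y) [IsProper f] (d : ℕ) {V : Y.Opens} (hV : IsAffineOpen V)

include hV in
/-- fibres of a base change: vanishing of the top cohomology of `O` is inherited -/
theorem subsingleton_HH_fiber_of_isPullback (hVg : V ≤ goodLocus f d)
    (hH : ∀ y ∈ V, Subsingleton (Coh.HH (f.fiber y) (Coh.structureModule (f.fiber y)) d))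
    {X'' Y'' : Scheme.{u}} (g : Y'' ⟶ Y) (hg : Set.range g ⊆ (V : Set Y)) (g'' : X'' ⟶ X)
    (f'' : X'' ⟶ Y'') (sq : IsPullback g'' f'' f g) (q : Y'') :
    Subsingleton (Coh.HH (f''.fiber q) (Coh.structureModule (f''.fiber q)) d) := by
  have hy : g q ∈ V := hg ⟨q, rfl⟩
  have h1 := (fiber_iff f d hV hVg (g q) hy).mp (hH _ hy)
  let ρ := (g.residueFieldMap q).hom
  have hρ : Spec.map (CommRingCat.ofHom ρ) ≫ Y.fromSpecResidueField (g q) =
      Y''.fromSpecResidueField q ≫ g :=
    Scheme.Hom.SpecMap_residueFieldMap_fromSpecResidueField g q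
  have hr : Set.range (Spec.map (CommRingCat.ofHom ρ) ≫ Y.fromSpecResidueField (g q)) ⊆
      (V : Set Y) := by
    rintro _ ⟨z, rfl⟩
    exact range_fromSpecResidueField_subset (g q) hy ⟨_, rfl⟩
  have hr' : Set.range (Y''.fromSpecResidueField q ≫ g) ⊆ (V : Set Y) := by
    rw [← hρ]; exact hr
  have e2 := psi_comp hV (Y.fromSpecResidueField (g q))
    (range_fromSpecResidueField_subset (g q) hy) ρ hr
  have e3 := psi_congr hV hρ hr hr'
  have h2 := TV.comp _ ρ h1
  have h3 := (congrArg (fun ψ => TV ψ (MA f d hV)) (e2.symm.trans e3)).mp h2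
  have sq' : IsPullback (f''.fiberι q ≫ g'') (f''.fiberToSpecResidueField q) f
      (Y''.fromSpecResidueField q ≫ g) :=
    (IsPullback.of_hasPullback f'' (Y''.fromSpecResidueField q)).paste_horiz sq
  exact (subsingleton_HH_iff_TV f d hV (Y''.fromSpecResidueField q ≫ g) hr' hVg
    (f''.fiberι q ≫ g'') (f''.fiberToSpecResidueField q) sq').mpr h3

theorem fiber_dim_le_of_isPullback (hVg : V ≤ goodLocus f d)
    {X'' Y'' : Scheme.{u}} (g : Y'' ⟶ Y) (hg : Set.range g ⊆ (V : Set Y)) (g'' : X'' ⟶ X)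
    (f'' : X'' ⟶ Y'') (sq : IsPullback g'' f'' f g) (q : Y'') :
    topologicalKrullDim ↥(f''.fiber q) ≤ (d : WithBot ℕ∞) := by
  haveI : LocallyOfFiniteType f := inferInstance
  refine (topologicalKrullDim_fiber_le_iff f'' q d).mpr (fun x hx => ?_)
  rw [fibreDimAt_eq_of_isPullback f g g'' f'' sq x]
  have h1 : f (g'' x) = g (f'' x) := by
    rw [← Scheme.Hom.comp_apply, sq.w, Scheme.Hom.comp_apply]
  have h2 : f (g'' x) ∈ goodLocus f d := hVg (by rw [h1]; exact hg ⟨_, rfl⟩)
  exact (topologicalKrullDim_fiber_le_iff f _ d).mp h2 _ rfl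

end FibBC

section Flat

variable {X Y : Scheme.{u}} (f : X ⟶ Y) [IsProper f] {V : Y.Opens} (hV : IsAffineOpen V)

include hV in
/-- **flat step**: surjectivity of `O_Y(V) → O_X(f⁻¹V)` passes to flat affine base changes -/
theorem surjective_appTop_of_flat (hsurj : Function.Surjective (f.app V).hom)
    {T XT : Scheme.{u}} [IsAffine T] (t : T ⟶ Y) [Flat t] (ht : Set.range t ⊆ (V : Set Y))
    (uT : XT ⟶ X) (fT : XT ⟶ T) (H : IsPullback uT fT f t) :
    Function.Surjective (fT.appTop).hom := by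
  have hUST : (⊤ : T.Opens) ≤ t ⁻¹ᵁ V := fun z _ => ht ⟨z, rfl⟩
  have hUSX : f ⁻¹ᵁ V ≤ f ⁻¹ᵁ V := le_rfl
  have hUY : (⊤ : XT.Opens) = uT ⁻¹ᵁ (f ⁻¹ᵁ V) ⊓ fT ⁻¹ᵁ ⊤ := by
    apply le_antisymm
    · intro z _
      refine ⟨?_, trivial⟩
      change f (uT z) ∈ V
      have h1 : f (uT z) = t (fT z) := by
        rw [← Scheme.Hom.comp_apply, H.w, Scheme.Hom.comp_apply]
      rw [h1]
      exact ht ⟨_, rfl⟩
    · exact le_top
  have hc : IsCompact ((f ⁻¹ᵁ V : X.Opens) : Set X) := f.isCompact_preimage hV.isCompact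
  have hqs : IsQuasiSeparated ((f ⁻¹ᵁ V : X.Opens) : Set X) := by
    rw [isQuasiSeparated_iff_quasiSeparatedSpace _ (f ⁻¹ᵁ V).isOpen]
    haveI : IsAffine V.toScheme := hV
    exact quasiSeparatedSpace_of_quasiSeparated (f ∣_ V)
  have hiso := isIso_pushoutSection_of_isQuasiSeparated_of_flat_right H hUST hUSX hUY hV
    (isAffineOpen_top T) hc hqs
  have hpo := (isIso_pushoutSection_iff H hUST hUSX hUY).mp hiso
  have h1 : Function.Surjective (f.appLE V (f ⁻¹ᵁ V) hUSX).hom := by
    rw [Scheme.Hom.appLE_eq_app]; exact hsurj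
  have h2 := surjective_of_isPushout hpo h1
  have h3 : ∀ e, fT.appLE ⊤ ⊤ e = fT.appTop := fun e => by
    simp [Scheme.Hom.appLE, Scheme.Hom.appTop]
  rw [h3] at h2
  exact h2

end Flat

section Local

variable {X Y : Scheme.{u}} (f : X ⟶ Y) [IsProper f] {V : Y.Opens} (hV : IsAffineOpen V)

include hV in
/-- **local form**: base change to `Spec B` landing in an affine open `V` of `Y` -/
theorem surjective_appTop_of_spec (hVg : V ≤ goodLocus f 1)
    (hH : ∀ y ∈ V, Subsingleton (Coh.HH (f.fiber y) (Coh.structureModule (f.fiber y)) 1))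
    (hsurj : Function.Surjective (f.app V).hom)
    {B : Type u} [CommRing B] (t : Spec (CommRingCat.of B) ⟶ Y) (ht : Set.range t ⊆ (V : Set Y))
    {XT : Scheme.{u}} (g' : XT ⟶ X) (fT : XT ⟶ Spec (CommRingCat.of B))
    (sq : IsPullback g' fT f t) :
    Function.Surjective (fT.appTop).hom := by
  classical
  let ψ := psi hV t ht
  let P := MvPolynomial B Γ(Y, V)
  let π : P →+* B := MvPolynomial.eval₂Hom ψ id
  have hπ : Function.Surjective π := fun b => ⟨MvPolynomial.X b, by
    change MvPolynomial.eval₂ ψ id (MvPolynomial.X b) = b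
    rw [MvPolynomial.eval₂_X]; rfl⟩
  have hπC : π.comp (algebraMap Γ(Y, V) P) = ψ := by
    ext a
    change MvPolynomial.eval₂ ψ id (MvPolynomial.C a) = ψ a
    rw [MvPolynomial.eval₂_C]
  let cP : Spec (CommRingCat.of P) ⟶ Spec (CommRingCat.of Γ(Y, V)) :=
    Spec.map (CommRingCat.ofHom (algebraMap Γ(Y, V) P))
  haveI : Flat cP := by
    rw [Flat.SpecMap_iff]
    exact RingHom.flat_algebraMap_iff.mpr inferInstance
  let tP : Spec (CommRingCat.of P) ⟶ Y := cP ≫ hV.fromSpec
  haveI : Flat tP := inferInstanceAs (Flat (cP ≫ hV.fromSpec))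
  have htP : Set.range tP ⊆ (V : Set Y) := by
    rintro _ ⟨z, rfl⟩
    have h1 : hV.fromSpec (cP z) ∈ Set.range hV.fromSpec := ⟨_, rfl⟩
    rw [hV.range_fromSpec] at h1
    exact h1
  let XP := pullback f tP
  let uP : XP ⟶ X := pullback.fst f tP
  let fP : XP ⟶ Spec (CommRingCat.of P) := pullback.snd f tP
  have hR : IsPullback uP fP f tP := IsPullback.of_hasPullback f tP
  haveI : IsProper fP := inferInstanceAs (IsProper (pullback.snd f tP))
  let sπ : Spec (CommRingCat.of B) ⟶ Spec (CommRingCat.of P) := Spec.map (CommRingCat.ofHom π)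
  have hsπ : sπ ≫ tP = t := by
    change Spec.map (CommRingCat.ofHom π) ≫ Spec.map (CommRingCat.ofHom (algebraMap Γ(Y, V) P)) ≫
      hV.fromSpec = t
    rw [← Category.assoc, ← Spec.map_comp, ← CommRingCat.ofHom_comp, hπC]
    exact specMap_psi_fromSpec hV t ht
  let κ : XT ⟶ XP := hR.lift g' (fT ≫ sπ) (by rw [Category.assoc, hsπ]; exact sq.w)
  have hκ1 : κ ≫ uP = g' := hR.lift_fst _ _ _
  have hκ2 : κ ≫ fP = fT ≫ sπ := hR.lift_snd _ _ _
  have sqκ : IsPullback κ fT fP sπ :=
    IsPullback.of_right (by rw [hκ1, hsπ]; exact sq) hκ2 hR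
  -- flat step
  have h1 : Function.Surjective (fP.appTop).hom :=
    surjective_appTop_of_flat f hV hsurj tP htP uP fP hR
  -- closed step
  have h2 : Function.Surjective (κ.appTop).hom :=
    surjective_appTop_of_closed P B π hπ fP fT κ sqκ
      (fun q => fiber_dim_le_of_isPullback f 1 hVg tP htP uP fP hR q)
      (fun q => subsingleton_HH_fiber_of_isPullback f 1 hV hVg hH tP htP uP fP hR q)
  -- conclusion
  have h3 : fP.appTop ≫ κ.appTop = sπ.appTop ≫ fT.appTop := by
    rw [← Scheme.Hom.comp_appTop, ← Scheme.Hom.comp_appTop, hκ2]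
  have h4 : Function.Surjective ((sπ.appTop ≫ fT.appTop).hom) := by
    rw [← h3]
    exact h2.comp h1
  exact Function.Surjective.of_comp h4

end Local

section Global

variable {X Y : Scheme.{u}} (f : X ⟶ Y) [IsProper f]

theorem surjective_app_of_eq {X' Y' : Scheme.{u}} (f' : X' ⟶ Y') {A B : Y'.Opens} (h : A = B)
    (hb : Function.Surjective (f'.app A).hom) : Function.Surjective (f'.app B).hom := by
  subst h; exact hb

/-- affine opens of the base change mapping into an affine open of `Y` -/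
theorem surjective_app_of_le
    (hdim : ∀ y : Y, topologicalKrullDim ↥(f.fiber y) ≤ ((1 : ℕ) : WithBot ℕ∞))
    (hH1 : ∀ y : Y, Subsingleton (Coh.HH (f.fiber y) (Coh.structureModule (f.fiber y)) 1))
    (hsurj : ∀ U : Y.Opens, IsAffineOpen U → Function.Surjective (f.app U).hom)
    {X' Y' : Scheme.{u}} (f' : X' ⟶ Y') (g' : X' ⟶ X) (g : Y' ⟶ Y) (hc : IsPullback g' f' f g)
    (U' : Y'.Opens) (hU' : IsAffineOpen U') (V : Y.Opens) (hV : IsAffineOpen V)
    (hle : U' ≤ g ⁻¹ᵁ V) : Function.Surjective (f'.app U').hom := by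
  let W := f' ⁻¹ᵁ U'
  have hVg : V ≤ goodLocus f 1 := fun y _ => hdim y
  have h1 : IsPullback W.ι (f' ∣_ U') f' U'.ι := (isPullback_morphismRestrict f' U').flip
  have h2 : IsPullback (W.ι ≫ g') (f' ∣_ U') f (U'.ι ≫ g) := h1.paste_horiz hc
  have h3 : IsPullback (W.ι ≫ g') (f' ∣_ U' ≫ hU'.isoSpec.hom) f (hU'.fromSpec ≫ g) := by
    refine h2.of_iso (Iso.refl _) (Iso.refl _) hU'.isoSpec (Iso.refl _) ?_ ?_ ?_ ?_
    · simp
    · simp
    · simp
    · simp
  have key := surjective_appTop_of_spec f hV hVg (fun y _ => hH1 y) (hsurj V hV)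
    (hU'.fromSpec ≫ g) (range_fromSpec_comp_subset g hU' hle) (W.ι ≫ g')
    (f' ∣_ U' ≫ hU'.isoSpec.hom) h3
  have e1 : (f' ∣_ U' ≫ hU'.isoSpec.hom).appTop = hU'.isoSpec.hom.appTop ≫ (f' ∣_ U').appTop :=
    Scheme.Hom.comp_appTop _ _
  rw [e1] at key
  have k2 : Function.Surjective ((f' ∣_ U').appTop).hom := Function.Surjective.of_comp key
  rw [morphismRestrict_appTop] at k2
  have k3 : Function.Surjective (f'.app (U'.ι ''ᵁ ⊤)).hom := by
    intro y
    obtain ⟨x, hx⟩ := k2 ((X'.presheaf.map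
      (eqToHom (image_morphismRestrict_preimage f' U' ⊤)).op).hom y)
    refine ⟨x, ?_⟩
    have hinj : Function.Injective ((X'.presheaf.map
        (eqToHom (image_morphismRestrict_preimage f' U' ⊤)).op).hom) :=
      (ConcreteCategory.bijective_of_isIso _).1
    exact hinj hx
  exact surjective_app_of_eq f' (Scheme.Opens.ι_image_top U') k3

/-- **= S1410.** -/
theorem surjective_app_baseChange
    (hdim : ∀ y : Y, topologicalKrullDim ↥(f.fiber y) ≤ ((1 : ℕ) : WithBot ℕ∞))
    (hH1 : ∀ y : Y, Subsingleton (Coh.HH (f.fiber y) (Coh.structureModule (f.fiber y)) 1))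
    (hsurj : ∀ U : Y.Opens, IsAffineOpen U → Function.Surjective (f.app U).hom)
    {X' Y' : Scheme.{u}} (f' : X' ⟶ Y') (g' : X' ⟶ X) (g : Y' ⟶ Y) (hc : IsPullback g' f' f g)
    (U' : Y'.Opens) (hU' : IsAffineOpen U') : Function.Surjective (f'.app U').hom := by
  haveI : IsProper f' := MorphismProperty.of_isPullback (P := @IsProper) hc inferInstance
  haveI := isQCoh_structureModule Y'
  haveI := isQCoh_structureModule X'
  haveI : ((Scheme.Modules.pushforward f').obj (Coh.structureModule X')).IsQuasicoherent :=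
    Groth.Agent.Lib.Helper23.QCohLocal.isQuasicoherent_pushforward f' _
  let I := {U'' : Y'.affineOpens // ∃ V : Y.affineOpens, U''.1 ≤ g ⁻¹ᵁ V.1}
  have hcov : IsOpenCover (fun i : I => (i.1.1 : Y'.Opens)) := by
    apply IsOpenCover.mk
    rw [eq_top_iff]
    intro y' _
    obtain ⟨(V : Y.Opens), hV, hyV, -⟩ :=
      (Opens.isBasis_iff_nbhd.mp Y.isBasis_affineOpens) (show g y' ∈ (⊤ : Y.Opens) from trivial)
    have hy' : y' ∈ g ⁻¹ᵁ V := hyV
    obtain ⟨(U'' : Y'.Opens), hU'', hy'U, hUV⟩ :=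
      (Opens.isBasis_iff_nbhd.mp Y'.isBasis_affineOpens) hy'
    exact Opens.mem_iSup.mpr ⟨⟨⟨U'', hU''⟩, ⟨V, hV⟩, hUV⟩, hy'U⟩
  haveI : Epi (ClSub.unitToPush f') := by
    refine Groth.Agent.Helper18OmLS.epi_of_surjective_app_cover (ClSub.unitToPush f')
      (fun i : I => (i.1.1 : Y'.Opens)) hcov (fun i => i.1.2) (fun i => ?_)
    obtain ⟨V, hV⟩ := i.2
    have h1 := surjective_app_of_le f hdim hH1 hsurj f' g' g hc i.1.1 i.1.2 V.1 V.2 hV
    intro x
    obtain ⟨a, ha⟩ := h1 x
    exact ⟨a, ha⟩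
  have h2 := Groth.Agent.Lib.Helper23.FinType.surjective_app_of_epi (ClSub.unitToPush f') hU'
  intro x
  obtain ⟨a, ha⟩ := h2 x
  exact ⟨a, ha⟩

end Global

end Groth.Agent.Lib.R2H3.TopBCF
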