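import Mathlib
import Groth.Agent.Lib.Helper13ABLocal
import Groth.Agent.Lib.Helper13TorMore

/-!
# Tor dimension over `A` of a module of finite projective dimension over a flat `A`-algebra
(helper3, round 2)

`isZero_tor_of_pdLT_flat`: `A → P` flat, `M` a `P`-module with `pd_P M ≤ d`. Then
`Tor_p^A(M, N) = 0` for all `p > d` and all `A`-modules `N`.
-/

set_option autoImplicit false
set_option linter.style.haveILetI false
set_option linter.unusedVariables false
set_option linter.unusedSectionVars false

universe u
open CategoryTheory CategoryTheory.Limits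

namespace Groth.Agent.Lib.R2H3.TorRestrict

variable (A P : Type u) [CommRing A] [CommRing P] [Algebra A P] [Module.Flat A P]

/-- restriction of scalars of a short exact sequence `0 → ker π → L → M → 0` of `P`-modules. -/
noncomputable def sesKerRes {L M : Type u} [AddCommGroup L] [Module P L] [Module A L]
    [IsScalarTower A P L] [AddCommGroup M] [Module P M] [Module A M] [IsScalarTower A P M]
    (π : L →ₗ[P] M) : ShortComplex (ModuleCat.{u} A) :=
  ShortComplex.mk
    (ModuleCat.ofHom ((LinearMap.ker π).subtype.restrictScalars A) :
      ModuleCat.of A (LinearMap.ker π) ⟶ ModuleCat.of A L)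
    (ModuleCat.ofHom (π.restrictScalars A) : ModuleCat.of A L ⟶ ModuleCat.of A M) (by
    apply ModuleCat.hom_ext
    apply LinearMap.ext
    intro y
    exact y.2)

theorem sesKerRes_shortExact {L M : Type u} [AddCommGroup L] [Module P L] [Module A L]
    [IsScalarTower A P L] [AddCommGroup M] [Module P M] [Module A M] [IsScalarTower A P M]
    (π : L →ₗ[P] M) (hπ : Function.Surjective π) : (sesKerRes A P π).ShortExact where
  exact := by
    rw [ShortComplex.ShortExact.moduleCat_exact_iff_function_exact]
    intro y
    show π y = 0 ↔ y ∈ Set.range (LinearMap.ker π).subtype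
    constructor
    · intro hy
      exact ⟨⟨y, hy⟩, rfl⟩
    · rintro ⟨z, rfl⟩
      exact z.2
  mono_f := by
    rw [ModuleCat.mono_iff_injective]
    exact Submodule.injective_subtype _
  epi_g := by
    rw [ModuleCat.epi_iff_surjective]
    exact hπ

/-- **Tor dimension over the base is bounded by projective dimension over a flat algebra.** -/
theorem isZero_tor_of_pdLT_flat (N : ModuleCat.{u} A) (d : ℕ) :
    ∀ (M : Type u) [AddCommGroup M] [Module P M] [Module A M] [IsScalarTower A P M],
      HasProjectiveDimensionLT (ModuleCat.of P M) (d + 1) → ∀ p : ℕ, d < p →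
        IsZero (((Tor (ModuleCat.{u} A) p).obj (ModuleCat.of A M)).obj N) := by
  induction d with
  | zero =>
    intro M _ _ _ _ h p hp
    haveI : Module.Projective P M :=
      (IsProjective.iff_projective M).2 (projective_iff_hasProjectiveDimensionLT_one.2 h)
    haveI : Module.Flat A M := Module.Flat.trans A P M
    exact Groth.Agent.Helper13Tor.isZero_tor_of_flat N (ModuleCat.of A M) p hp
  | succ d ih =>
    intro M _ _ _ _ h p hp
    obtain ⟨j, rfl⟩ : ∃ j, p = j + 1 := ⟨p - 1, by omega⟩
    let π : (M →₀ P) →ₗ[P] M := Finsupp.linearCombination P (id : M → M)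
    have hπ : Function.Surjective π :=
      Finsupp.linearCombination_surjective P Function.surjective_id
    haveI : Module.Flat A (M →₀ P) := Module.Flat.trans A P _
    have hK : HasProjectiveDimensionLT (ModuleCat.of P (LinearMap.ker π)) (d + 1) :=
      Groth.Agent.Helper13Ses.pdLT_ker π hπ d h
    have hS := sesKerRes_shortExact A P π hπ
    refine Groth.Agent.Helper13Tor.isZero_tor_X₃ (sesKerRes A P π) hS N j ?_ ?_
    · exact Groth.Agent.Helper13Tor.isZero_tor_of_flat N (ModuleCat.of A (M →₀ P)) (j + 1)
        (by omega)
    · exact ih (LinearMap.ker π) hK j (by omega)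

end Groth.Agent.Lib.R2H3.TorRestrict
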