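import Mathlib
import Groth.Agent.Lib.R2H3DenseWeil
import Groth.Agent.S4876

/-!
# Weil restriction of a closed subscheme of a group whose torsion subgroups are finite flat and
fibrewise schematically dense (helper3, round 2)

`main`: SGA3 IX 4.x / XI 6.x style statement: let `S` be locally Noetherian, `H` an `S`-group
locally of finite type whose kernels `ₙH` (`n ∈ E`, `E` stable under multiplication) are finite
flat over `S` and fibrewise schematically dense in `H`.  For a closed subscheme `Y` of `H`, the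
condition "`H ×_S S' ⟶ H` factors through `Y`" is represented by a closed subscheme of `S`, and
over a Noetherian base it may be tested on a single `ₙH`.
-/

set_option autoImplicit false
set_option linter.style.haveILetI false
set_option linter.unusedVariables false
set_option linter.unusedSectionVars false

universe u

open CategoryTheory CategoryTheory.Limits AlgebraicGeometry MonoidalCategory
  CartesianMonoidalCategory MonObj GrpObj
open Groth.Agent.Lib.R2H3.ClosedWeil Groth.Agent.Lib.R2H3.DenseWeil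

namespace Groth.Agent.Lib.R2H3.TorsDense

variable {S : Scheme.{u}} (H : Over S) [GrpObj H]

/-- the kernel of the `n`-th power map, mapping to `H`. -/
noncomputable abbrev kn (n : ℕ) : pullback η[H].left (𝟙 H ^ n : H ⟶ H).left ⟶ H.left :=
  pullback.snd η[H].left (𝟙 H ^ n : H ⟶ H).left

lemma eta_eq_one : η[H] = (1 : 𝟙_ (Over S) ⟶ H) := by
  rw [Hom.one_def, toUnit_unique (toUnit (𝟙_ (Over S))) (𝟙 _), Category.id_comp]

lemma eta_comp_pow (m : ℕ) : η[H] ≫ (𝟙 H ^ m : H ⟶ H) = η[H] := by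
  rw [MonObj.comp_pow, Category.comp_id, eta_eq_one, one_pow]

lemma pow_mul_eq (n m : ℕ) : (𝟙 H ^ (n * m) : H ⟶ H) = (𝟙 H ^ n) ≫ (𝟙 H ^ m) := by
  rw [MonObj.comp_pow, Category.comp_id, pow_mul]

/-- `ₙH ⊆ ₖH` for `n ∣ k`. -/
lemma exists_incl (n k : ℕ) (hnk : n ∣ k) :
    ∃ c : pullback η[H].left (𝟙 H ^ n : H ⟶ H).left ⟶
        pullback η[H].left (𝟙 H ^ k : H ⟶ H).left,
      c ≫ kn H k = kn H n := by
  obtain ⟨m, rfl⟩ := hnk
  refine ⟨pullback.lift (pullback.fst _ _) (pullback.snd _ _) ?_, pullback.lift_snd _ _ _⟩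
  have h1 : (𝟙 H ^ (n * m) : H ⟶ H).left = (𝟙 H ^ n : H ⟶ H).left ≫ (𝟙 H ^ m : H ⟶ H).left := by
    rw [pow_mul_eq]
    rfl
  have h2 : η[H].left ≫ (𝟙 H ^ m : H ⟶ H).left = η[H].left := by
    have := congrArg (fun k => k.left) (eta_comp_pow H m)
    exact this
  rw [h1, ← Category.assoc, ← pullback.condition, Category.assoc, h2]

section Main

variable [IsLocallyNoetherian S] [LocallyOfFiniteType H.hom]
  (E : Set ℕ) (hE : E.Nonempty) (hEmul : ∀ m ∈ E, ∀ n ∈ E, m * n ∈ E)
  (ha : ∀ n ∈ E, IsFinite (kn H n ≫ H.hom) ∧ Flat (kn H n ≫ H.hom))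
  (hb : ∀ (s : S) (V : (H.hom.fiber s).Opens) (t : Γ(H.hom.fiber s, V)),
    (∀ n ∈ E, (MoreMor.fiberMap (kn H n) H.hom s).app V t = 0) → t = 0)
  {Y : Scheme.{u}} (y : Y ⟶ H.left) [IsClosedImmersion y]

include hE hEmul ha hb in
/-- **Weil restriction of a closed subscheme of `H`, `H` with schematically dense torsion.** -/
theorem main :
    (∃ (T : Scheme.{u}) (t : T ⟶ S), IsClosedImmersion t ∧
      ∀ (S' : Scheme.{u}) (g : S' ⟶ S), (∃ g' : S' ⟶ T, g' ≫ t = g) ↔
        ∃ l : pullback H.hom g ⟶ Y, l ≫ y = pullback.fst H.hom g) ∧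
    (AlgebraicGeometry.IsNoetherian S → ∃ n ∈ E, ∀ (S' : Scheme.{u}) (g : S' ⟶ S),
      (∃ l : pullback H.hom g ⟶ Y, l ≫ y = pullback.fst H.hom g) ↔
        ∃ l : pullback (kn H n ≫ H.hom) g ⟶ Y,
          l ≫ y = pullback.fst (kn H n ≫ H.hom) g ≫ kn H n) := by
  -- the family
  let Idx : Type u := ULift.{u} {n : ℕ // n ∈ E}
  let Z : Idx → Scheme.{u} := fun i => pullback η[H].left (𝟙 H ^ i.down.1 : H ⟶ H).left
  let f : ∀ i, Z i ⟶ H.left := fun i => kn H i.down.1
  haveI : Nonempty Idx := ⟨⟨⟨hE.some, hE.some_mem⟩⟩⟩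
  haveI hfin : ∀ i, IsFinite (f i ≫ H.hom) := fun i => (ha i.down.1 i.down.2).1
  haveI hflat : ∀ i, Flat (f i ≫ H.hom) := fun i => (ha i.down.1 i.down.2).2
  haveI hlfp : ∀ i, LocallyOfFinitePresentation (f i ≫ H.hom) := fun i => by
    haveI : LocallyOfFiniteType (f i ≫ H.hom) := inferInstance
    infer_instance
  haveI : IsLocallyNoetherian H.left := LocallyOfFiniteType.isLocallyNoetherian H.hom
  have hd : UnivDominant H.hom Z f := by
    have h1 := (Groth.Agent.S4876.result H.hom Z f).mpr (fun s V t ht =>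
      hb s V t (fun n hn => ht ⟨⟨n, hn⟩⟩))
    exact h1
  obtain ⟨I, hI⟩ : ∃ I : S.IdealSheafData, I = ⨆ i, idealI H.hom Z f y i := ⟨_, rfl⟩
  have hIX : ∀ {T : Scheme.{u}} (a : T ⟶ S), I ≤ a.ker ↔ FacX H.hom y a := fun a => by
    rw [hI]
    exact iSup_idealI_le_ker_iff H.hom Z f y hd a
  refine ⟨⟨I.subscheme, I.subschemeι, inferInstance, fun S' g => ?_⟩, ?_⟩
  · rw [exists_lift_iff, Scheme.IdealSheafData.ker_subschemeι]
    exact hIX g
  · intro hN
    haveI := hN
    -- the family of ideals is directed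
    have hmono : ∀ i j : Idx, j.down.1 ∣ i.down.1 →
        idealI H.hom Z f y j ≤ idealI H.hom Z f y i := by
      intro i j hji
      have h1 : idealI H.hom Z f y i ≤ (idealI H.hom Z f y i).subschemeι.ker := by
        rw [Scheme.IdealSheafData.ker_subschemeι]
      obtain ⟨l, hl⟩ := (idealI_le_ker_iff H.hom Z f y _ i).mp h1
      have h2 : idealI H.hom Z f y j ≤ (idealI H.hom Z f y i).subschemeι.ker := by
        rw [idealI_le_ker_iff]
        obtain ⟨c, hc⟩ := exists_incl H j.down.1 i.down.1 hji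
        refine ⟨pullback.map (f j ≫ H.hom) _ (f i ≫ H.hom) _ c (𝟙 _) (𝟙 _) ?_ ?_ ≫ l, ?_⟩
        · rw [Category.comp_id, ← Category.assoc]
          congr 1
          exact hc.symm
        · rw [Category.comp_id, Category.id_comp]
        · rw [Category.assoc, hl, pullback.lift_fst_assoc, Category.assoc]
          congr 1
      rw [Scheme.IdealSheafData.ker_subschemeι] at h2
      exact h2
    have hdir : Directed (· ≤ ·) (fun i => idealI H.hom Z f y i) := by
      intro i j
      refine ⟨⟨⟨i.down.1 * j.down.1, hEmul _ i.down.2 _ j.down.2⟩⟩, ?_, ?_⟩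
      · exact hmono _ i ⟨j.down.1, rfl⟩
      · exact hmono _ j ⟨i.down.1, mul_comm _ _⟩
    obtain ⟨i₀, hi₀⟩ := exists_eq_iSup_of_directed (fun i => idealI H.hom Z f y i) hdir
    refine ⟨i₀.down.1, i₀.down.2, fun S' g => ?_⟩
    change FacX H.hom y g ↔ FacI H.hom Z f y g i₀
    rw [← hIX g, hI, hi₀, idealI_le_ker_iff]

end Main

end Groth.Agent.Lib.R2H3.TorsDense
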