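import Groth.Agent.Lib.R2H3TrivFibre
import Groth.Agent.Lib.R2H3ActPt

/-!
# Characters of tori: non-trivial on the fibres iff faithfully flat (helper3, round 2)

Let `T` be an `S`-torus and `α : T ⟶ 𝔾_{m,S}` a character.  At each point `s` of `S`, either the
character `α_s` is trivial or it is faithfully flat (`dichotomy`).  Hence `α` is faithfully flat iff
it is non trivial on all geometric fibres (`torus_char`).
-/

set_option autoImplicit false
set_option linter.style.haveILetI false
set_option linter.unusedVariables false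
set_option linter.unusedSectionVars false

universe u

open CategoryTheory MonoidalCategory CartesianMonoidalCategory MonObj GrpObj AlgebraicGeometry
  CategoryTheory.Limits
open Groth.Agent.Lib.Helper27.GaGm Groth.Agent.Lib.H6xDSPts Groth.Agent.Lib.R2H3.MultAct
  Groth.Agent.Lib.R2H3.MultHom Groth.Agent.Lib.R2H3.FpqcLocal Groth.Agent.Lib.R2H3.UnitLocus
  Groth.Agent.Lib.R2H3.TrivFibre Groth.Agent.Lib.R2H3.OverBc

namespace Groth.Agent.Lib.R2H3.TorusChar

variable {S : Scheme.{u}} {T : Over S} [GrpObj T] (α : T ⟶ Red.Gm S) [IsMonHom α]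

/-- a torus is of multiplicative type and of finite type. -/
theorem isMultTypeFT_of_isTorus (hT : Red.IsTorus T) : SGA3x.IsMultTypeFT T := by
  obtain ⟨S', f, h1, h2, h3, h4⟩ := hT
  refine ⟨S', f, h1, h2, h3, fun s' => ?_⟩
  obtain ⟨U, hU, r, he⟩ := h4 s'
  refine ⟨U, hU, Fin r → ℤ, inferInstance, ?_, he⟩
  exact AddGroup.fg_iff_addMonoid_fg.mpr (Module.Finite.iff_addMonoid_fg.mp inferInstance)

/-- triviality at a geometric point and at the residue field. -/
theorem trivS_geomPt_iff (s : S) :
    TrivS α (Spec (CommRingCat.of (AlgebraicClosure (S.residueField s)))) (Red.geomPt s) ↔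
      TrivS α (Spec (S.residueField s)) (S.fromSpecResidueField s) := by
  constructor
  · intro h
    exact trivS_descend α _ _ (qfpqc_specMap_field
      (algebraMap (S.residueField s) (AlgebraicClosure (S.residueField s)))) h
  · intro h
    exact trivS_precomp α _ _ h

/-- a non zero homomorphism `ℤ → ℤ^r` is injective. -/
lemma injective_of_ne_zero {r : ℕ} (φ : ℤ →+ (Fin r → ℤ)) (h : φ ≠ 0) : Function.Injective φ := by
  rw [injective_iff_map_eq_zero]
  intro n hn
  by_contra hne
  apply h
  apply AddMonoidHom.ext_int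
  have h1 : φ n = n • φ 1 := by
    rw [← map_zsmul, smul_eq_mul, _root_.mul_one]
  rw [h1] at hn
  rcases smul_eq_zero.mp hn with h2 | h2
  · exact absurd h2 hne
  · rw [h2]
    rfl

/-- **Dichotomy**: at each point of the base, a character of a torus is either trivial or
faithfully flat. -/
theorem dichotomy (hT : Red.IsTorus T) (s : S) :
    ¬ TrivS α (Spec (S.residueField s)) (S.fromSpecResidueField s) ↔
      (Flat (bcHom (S.fromSpecResidueField s) α) ∧
        Surjective (bcHom (S.fromSpecResidueField s) α)) := by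
  obtain ⟨S', f, hfl, hsurj, hcov, hloc⟩ := hT
  obtain ⟨s', rfl⟩ := f.surjective s
  obtain ⟨U, hs'U, r, ⟨eG⟩⟩ := hloc s'
  obtain ⟨t, ht⟩ : ∃ t : (U : Scheme.{u}) ⟶ S, t = U.ι ≫ f := ⟨_, rfl⟩
  obtain ⟨x, hx⟩ : ∃ x : (U : Scheme.{u}), t x = f s' := ⟨⟨s', hs'U⟩, by
    rw [ht, Scheme.Hom.comp_apply]
    rfl⟩
  rw [← ht] at eG
  rw [← hx]
  obtain ⟨eH, -⟩ : ∃ eH : Grp.mk (Red.bc t (Red.Gm S)) ≅ Grp.mk (Red.DS (U : Scheme.{u}) ℤ),
      True := ⟨bcDSIso t ℤ, trivial⟩
  haveI : MorphismProperty.DescendsAlong (@Flat : MorphismProperty Scheme.{u}) Qfpqc :=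
    Groth.Agent.Lib.Helper12.descendsAlong_flat
  have hfib := fibre_iff (P := (@Flat ⊓ @Surjective : MorphismProperty Scheme.{u})) α t eG eH
    (fun M N _ _ φ => Function.Injective φ)
    (fun W M N _ _ φ hφ => flat_surjective_DSmap_left φ hφ)
    (fun W K _ a M N _ _ φ h => injective_of_flat_surjective a φ h.1 h.2) x
  -- triviality at `t x` in terms of `phiAt`
  have htriv : TrivS α (Spec (S.residueField (t x))) (S.fromSpecResidueField (t x)) ↔
      phiAt (vOf α t eG eH) x = 1 := by
    rw [← trivS_field_iff_phiAt, ← trivS_comp_iff_vOf α t eG eH]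
    have heq := t.SpecMap_residueFieldMap_fromSpecResidueField x
    rw [← heq]
    constructor
    · intro h
      exact trivS_precomp α _ _ h
    · intro h
      exact trivS_descend α _ _ (qfpqc_specMap_field (t.residueFieldMap x).hom) h
  rw [htriv]
  refine Iff.trans ?_ hfib.symm
  constructor
  · intro h
    apply injective_of_ne_zero
    intro h0
    apply h
    have := congrArg AddMonoidHom.toMultiplicative h0
    rw [Equiv.apply_symm_apply] at this
    rw [this]
    rfl
  · intro h h1
    rw [h1] at h
    have h2 := h (a₁ := (1 : ℤ)) (a₂ := 0) rfl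
    exact one_ne_zero h2

/-- **Characters of tori**: non triviality on the geometric fibres, non triviality after every
non empty base change, and faithful flatness are equivalent. -/
theorem torus_char (hT : Red.IsTorus T) :
    ((∀ s : S, (Over.pullback (Red.geomPt s)).map α ≠ 1) ↔
      (∀ (S' : Scheme.{u}) (g : S' ⟶ S), Nonempty ↥S' → (Over.pullback g).map α ≠ 1)) ∧
    ((∀ s : S, (Over.pullback (Red.geomPt s)).map α ≠ 1) ↔
      (Flat α.left ∧ Surjective α.left)) := by
  have hgeom : ∀ s : S, (Over.pullback (Red.geomPt s)).map α ≠ 1 ↔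
      ¬ TrivS α (Spec (S.residueField s)) (S.fromSpecResidueField s) := by
    intro s
    rw [← trivS_geomPt_iff, trivS_iff]
  constructor
  · constructor
    · intro h S' g ⟨x⟩ h1
      apply (hgeom (g x)).mp (h (g x))
      rw [← trivS_iff] at h1
      have h2 := trivS_precomp α (S'.fromSpecResidueField x) g h1
      have h3 := trivS_residue_of_field α _ h2
      have h4 : (S'.fromSpecResidueField x ≫ g) (IsLocalRing.closedPoint (S'.residueField x)) =
          g x := by
        rw [Scheme.Hom.comp_apply, Scheme.fromSpecResidueField_apply]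
      exact h4 ▸ h3
    · intro h s
      exact h _ (Red.geomPt s) inferInstance
  · haveI : MorphismProperty.DescendsAlong (@Flat : MorphismProperty Scheme.{u}) Qfpqc :=
      Groth.Agent.Lib.Helper12.descendsAlong_flat
    constructor
    · intro h
      obtain ⟨U, -, h1, h2⟩ := exists_clopen_locus T (Red.Gm S)
        (locally_of_isMultTypeFT (isMultTypeFT_of_isTorus hT))
        (isMultTypeFT_DS S ℤ (AddGroup.fg_iff_addMonoid_fg.mpr
          (Module.Finite.iff_addMonoid_fg.mp inferInstance))) α
        (@Flat ⊓ @Surjective : MorphismProperty Scheme.{u})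
        (fun M N _ _ φ => Function.Injective φ)
        (fun W M N _ _ φ hφ => flat_surjective_DSmap_left φ hφ)
        (fun W K _ a M N _ _ φ h => injective_of_flat_surjective a φ h.1 h.2)
      have htop : U = ⊤ := by
        ext s
        simp only [TopologicalSpace.Opens.coe_top, Set.mem_univ, iff_true]
        exact (h1 s).mpr ((dichotomy α hT s).mp ((hgeom s).mp (h s)))
      subst htop
      have hsq := isPullback_bcHom (⊤ : S.Opens).ι α
      haveI : IsIso (⊤ : S.Opens).ι := by
        have h0 : (⊤ : S.Opens).ι = S.topIso.hom := rfl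
        rw [h0]
        infer_instance
      haveI : IsIso (pullback.fst T.hom (⊤ : S.Opens).ι) := inferInstance
      haveI : IsIso (pullback.fst (Red.Gm S).hom (⊤ : S.Opens).ι) := inferInstance
      have hα : α.left = inv (pullback.fst T.hom (⊤ : S.Opens).ι) ≫
          bcHom (⊤ : S.Opens).ι α ≫ pullback.fst (Red.Gm S).hom (⊤ : S.Opens).ι := by
        rw [IsIso.eq_inv_comp, hsq.w]
      haveI : Flat (bcHom (⊤ : S.Opens).ι α) := h2.1
      haveI : Surjective (bcHom (⊤ : S.Opens).ι α) := h2.2
      rw [hα]
      exact ⟨inferInstance, inferInstance⟩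
    · rintro ⟨hfl, hsj⟩ s
      rw [hgeom, dichotomy α hT s]
      exact bcHom_of_left (P := (@Flat ⊓ @Surjective : MorphismProperty Scheme.{u})) _ α
        ⟨hfl, hsj⟩

end Groth.Agent.Lib.R2H3.TorusChar
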