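import Groth.Agent.Lib.R2H3KerDiag

/-!
# The image of a homomorphism from a diagonalisable group to a group of multiplicative type

* `comp_eq_one_of_isQuotient`, `exists_desc_of_isQuotient`: the universal property of a quotient.
* `mono_of_ker_le`: a homomorphism from a quotient whose kernel is trivial is a monomorphism.
* `exists_clopen_image` (Lemma E): locally for the topology of open and closed subsets, a
  homomorphism `D_S(M) ⟶ G` to a group of multiplicative type and of finite type factors as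
  `D(M) ⟶ D(N) ⟶ G` with `N` a subgroup of `M` and `D(N) ⟶ G` a monomorphism.
-/

set_option autoImplicit false
universe u

open CategoryTheory MonoidalCategory CartesianMonoidalCategory MonObj GrpObj AlgebraicGeometry
  CategoryTheory.Limits
open Groth.Agent.Lib.H6xDSPts Groth.Agent.Lib.R2H3.MultAct Groth.Agent.Lib.R2H3.MultHom
  Groth.Agent.Lib.R2H3.FpqcLocal Groth.Agent.Lib.R2H3.EqLocus Groth.Agent.Lib.R2H3.FactorMono
  Groth.Agent.Lib.R2H3.SubDesc Groth.Agent.Lib.R2H3.HomFinEt Groth.Agent.Lib.R2H3.OverBc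
  Groth.Agent.Lib.R2H3.QuotBC Groth.Agent.Lib.R2H3.DSQuot Groth.Agent.Lib.R2H3.SubDiag
  Groth.Agent.Lib.R2H3.TorusQuot Groth.Agent.Lib.R2H3.KerDiag Groth.Agent.Lib.Helper12.QuotGrp

namespace Groth.Agent.Lib.R2H3.TorusImage

section Quot

variable {S : Scheme.{u}} {G H Q : Over S} [GrpObj G] [GrpObj H] [GrpObj Q]
  (i : H ⟶ G) (q : G ⟶ Q) [IsMonHom q]

include q in
/-- the subgroup is killed by the quotient morphism. -/
theorem comp_eq_one_of_isQuotient (hq : RedSub.IsQuotient i q) : i ≫ q = 1 := by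
  have hw := hq.2.2.2.w
  have h5 : lift (1 : H ⟶ G) (𝟙 H) ≫ fst G H ≫ q =
      lift (1 : H ⟶ G) (𝟙 H) ≫ ((G ◁ i) ≫ μ[G]) ≫ q := by rw [hw]
  rw [lift_fst_assoc, MonObj.one_comp, ← Category.assoc, lift_act, Category.id_comp,
    _root_.one_mul] at h5
  exact h5.symm

/-- the universal property of the quotient by a normal subgroup. -/
theorem exists_desc_of_isQuotient [IsMonHom i] (hn : AlgGrp.IsNormalHom i)
    (hq : RedSub.IsQuotient i q) {K : Over S} [GrpObj K] (f : G ⟶ K) [IsMonHom f]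
    (hf : i ≫ f = 1) : ∃ g : Q ⟶ K, q ≫ g = f ∧ IsMonHom g := by
  obtain ⟨a1, a2, a3, a4⟩ := hq
  have := a1; have := a2; have := a3
  have hc := IsCov.of_fppf q
  have hyp := hyp_of_isCov i q a4.flip hn hc
  obtain ⟨g, ⟨hg1, hg2⟩, -⟩ := hyp.existsUnique_desc f hf
  exact ⟨g, hg1, hg2⟩

/-- a homomorphism from a quotient whose kernel is trivial is a monomorphism. -/
theorem mono_of_ker_le (hq : RedSub.IsQuotient i q) {K : Over S} [GrpObj K] (g : Q ⟶ K)
    [IsMonHom g]
    (hker : ∀ (X : Over S) (m : X ⟶ G), m ≫ q ≫ g = 1 → m ≫ q = 1) : Mono g := by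
  obtain ⟨a1, a2, a3, -⟩ := hq
  have := a1; have := a2; have := a3
  -- triviality of the kernel
  have htriv : ∀ (X : Over S) (n : X ⟶ Q), n ≫ g = 1 → n = 1 := by
    intro X n hn
    obtain ⟨P₁, hP₁⟩ : ∃ P₁ : Over.mk (pullback.fst n.left q.left ≫ X.hom) ⟶ X,
        P₁.left = pullback.fst n.left q.left := ⟨Over.homMk (pullback.fst n.left q.left) rfl, rfl⟩
    obtain ⟨P₂, hP₂⟩ : ∃ P₂ : Over.mk (pullback.fst n.left q.left ≫ X.hom) ⟶ G,
        P₂.left = pullback.snd n.left q.left := by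
      refine ⟨Over.homMk (pullback.snd n.left q.left) ?_, rfl⟩
      change pullback.snd n.left q.left ≫ G.hom = pullback.fst n.left q.left ≫ X.hom
      rw [← Over.w q, ← Category.assoc, ← pullback.condition, Category.assoc, Over.w n]
    have hsq : P₁ ≫ n = P₂ ≫ q := by
      apply Over.OverMorphism.ext
      rw [Over.comp_left, Over.comp_left, hP₁, hP₂]
      exact pullback.condition
    haveI : Flat P₁.left := by rw [hP₁]; infer_instance
    haveI : Surjective P₁.left := by rw [hP₁]; infer_instance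
    haveI : LocallyOfFinitePresentation P₁.left := by rw [hP₁]; infer_instance
    haveI : Epi P₁ := (IsCov.of_fppf P₁).epi
    have h1 : P₂ ≫ q = 1 := by
      apply hker
      rw [← Category.assoc, ← hsq, Category.assoc, hn, MonObj.comp_one]
    rw [← cancel_epi P₁, hsq, h1, MonObj.comp_one]
  constructor
  intro X a b hab
  have h2 : (a⁻¹ * b) ≫ g = 1 := by
    rw [MonObj.mul_comp, GrpObj.inv_comp, hab, inv_mul_cancel]
  have h3 := htriv X _ h2
  exact inv_mul_eq_one.mp h3

end Quot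

section Image

variable {S : Scheme.{u}} {M : Type} [AddCommGroup M] {G : Over S} [GrpObj G]
  (f : Red.DS S M ⟶ G) [IsMonHom f]

omit [IsMonHom f] in
/-- the base change of the trivial homomorphism is trivial. -/
lemma map_one_eq {W' : Scheme.{u}} (t : W' ⟶ S) (A : Over S) :
    (Over.pullback t).map (1 : A ⟶ G) = 1 := by
  apply (adjE t G _).injective
  rw [← Category.id_comp ((Over.pullback t).map (1 : A ⟶ G)), adjE_comp_map₀, MonObj.comp_one,
    adjE_one]

omit [IsMonHom f] in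
/-- the points of the base change of `D(M)` killed by `f` come from the kernel. -/
lemma exists_lift_bc_ker {W' : Scheme.{u}} (t : W' ⟶ S) (Y : Over W')
    (z : Y ⟶ Red.bc t (Red.DS S M)) (hz : z ≫ (Over.pullback t).map f = 1) :
    ∃ h₁ : Y ⟶ Red.bc t (kerObj f), h₁ ≫ (Over.pullback t).map (kerι f) = z := by
  have h3 : adjE t (Red.DS S M) Y z ≫ f = 1 := by
    rw [← adjE_comp_map₀, hz, adjE_one]
  obtain ⟨w', hw'⟩ := (exists_lift_iff f _ _).mpr h3
  refine ⟨(adjE t (kerObj f) Y).symm w', ?_⟩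
  apply (adjE t (Red.DS S M) Y).injective
  rw [adjE_comp_map₀, Equiv.apply_symm_apply, hw']

/-- **Lemma E**: the image of a homomorphism from a diagonalisable group to a group of
multiplicative type and of finite type, locally for the topology of open and closed subsets. -/
theorem exists_clopen_image (hM : AddGroup.FG M) (hG : SGA3x.IsMultTypeFT G) (s₀ : S) :
    ∃ (N : AddSubgroup M) (U : S.Opens), s₀ ∈ U ∧ IsClosed (U : Set S) ∧
      ∀ {W' : Scheme.{u}} (t : W' ⟶ S), Set.range t ⊆ (U : Set S) →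
        ∃ g : Red.bc t (Red.DS S N) ⟶ Red.bc t G, IsMonHom g ∧ Mono g ∧
          (Over.pullback t).map (Red.DSmap S N.subtype) ≫ g = (Over.pullback t).map f := by
  obtain ⟨N, U, hU1, hU2, hU3⟩ := exists_clopen_subgroup (kerι f) hM
    (isMultTypeFT_ker f hM hG) s₀
  refine ⟨N, U, hU1, hU2, fun {W'} t ht => ?_⟩
  haveI := mono_DSmap_mk (S := S) N
  have hrange : Set.range t ⊆ Set.range U.ι := by
    rw [Scheme.Opens.range_ι]
    exact ht
  have hs := sameSub_precomp (kerι f) (Red.DSmap S (QuotientAddGroup.mk' N))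
    (IsOpenImmersion.lift U.ι t hrange) U.ι hU3
  rw [IsOpenImmersion.lift_fac] at hs
  obtain ⟨ψ, hψ⟩ := exists_iso_of_fac (kerι f) (Red.DSmap S (QuotientAddGroup.mk' N)) t hs.1 hs.2
  -- the quotient
  have hq3 := isQuotient_bc t _ _ (isQuotient_DS (S := S) N hM)
  haveI : IsMonHom ((Over.pullback t).map f) :=
    Functor.map.instIsMonHom (F := Over.pullback t) (f := f)
  haveI : IsMonHom ((Over.pullback t).map (Red.DSmap S N.subtype)) :=
    Functor.map.instIsMonHom (F := Over.pullback t) (f := Red.DSmap S N.subtype)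
  haveI : IsMonHom ((Over.pullback t).map (Red.DSmap S (QuotientAddGroup.mk' N))) :=
    Functor.map.instIsMonHom (F := Over.pullback t) (f := Red.DSmap S (QuotientAddGroup.mk' N))
  have hkill : (Over.pullback t).map (Red.DSmap S (QuotientAddGroup.mk' N)) ≫
      (Over.pullback t).map f = 1 := by
    have h1 : (Over.pullback t).map (Red.DSmap S (QuotientAddGroup.mk' N)) =
        ψ.inv ≫ (Over.pullback t).map (kerι f) := by rw [← hψ, Iso.inv_hom_id_assoc]
    rw [h1, Category.assoc, ← Functor.map_comp, kerι_comp, map_one_eq, MonObj.comp_one]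
  obtain ⟨g, hg1, hg2⟩ := exists_desc_of_isQuotient
    ((Over.pullback t).map (Red.DSmap S (QuotientAddGroup.mk' N)))
    ((Over.pullback t).map (Red.DSmap S N.subtype))
    (isNormalHom_of_comm _ (comm_of_iso_DS (bcDSIso t M))) hq3 ((Over.pullback t).map f) hkill
  refine ⟨g, hg2, ?_, hg1⟩
  haveI := hg2
  apply mono_of_ker_le _ _ hq3 g
  intro X m hm
  rw [hg1] at hm
  obtain ⟨h₁, hh₁⟩ := exists_lift_bc_ker f t X m hm
  rw [← hh₁, ← hψ]
  simp only [Category.assoc]
  rw [comp_eq_one_of_isQuotient _ _ hq3, MonObj.comp_one, MonObj.comp_one]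

end Image

section Connected

open scoped Obj in
lemma bcIdIso_hom {S : Scheme.{u}} (G : Over S) [GrpObj G] :
    (bcIdIso G).hom.hom.hom = (Over.pullbackId (X := S)).hom.app G := by
  simp only [bcIdIso, Iso.trans_hom, Iso.app_hom, NatTrans.comp_app, Grp.comp_hom_hom,
    Functor.mapGrpNatIso, Functor.mapGrpIdIso]
  exact Category.comp_id _

lemma bcIdIso_natural {S : Scheme.{u}} {A B : Over S} [GrpObj A] [GrpObj B] (u : A ⟶ B) :
    (Over.pullback (𝟙 S)).map u ≫ (bcIdIso B).hom.hom.hom = (bcIdIso A).hom.hom.hom ≫ u := by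
  rw [bcIdIso_hom, bcIdIso_hom]
  exact (Over.pullbackId (X := S)).hom.naturality u

variable {S : Scheme.{u}} {M : Type} [AddCommGroup M] {G : Over S} [GrpObj G]
  (f : Red.DS S M ⟶ G) [IsMonHom f]

/-- **Lemma E over a connected base**. -/
theorem exists_image_of_connected [ConnectedSpace S] (hM : AddGroup.FG M)
    (hG : SGA3x.IsMultTypeFT G) :
    ∃ (N : AddSubgroup M) (g : Red.DS S N ⟶ G), IsMonHom g ∧ Mono g ∧
      Red.DSmap S N.subtype ≫ g = f := by
  obtain ⟨s₀⟩ : Nonempty S := inferInstance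
  obtain ⟨N, U, hU1, hU2, hU3⟩ := exists_clopen_image f hM hG s₀
  have htop : (U : Set S) = Set.univ := IsClopen.eq_univ ⟨hU2, U.2⟩ ⟨s₀, hU1⟩
  obtain ⟨g₀, hg1, hg2, hg3⟩ := hU3 (𝟙 S) (by rw [htop]; exact Set.subset_univ _)
  have e1 : (bcIdIso (Red.DS S N)).inv.hom.hom ≫ (bcIdIso (Red.DS S N)).hom.hom.hom = 𝟙 _ := by
    rw [← Grp.comp_hom_hom, Iso.inv_hom_id, Grp.id_hom_hom]
  have e2 : (bcIdIso (Red.DS S M)).hom.hom.hom ≫ (bcIdIso (Red.DS S M)).inv.hom.hom = 𝟙 _ := by
    rw [← Grp.comp_hom_hom, Iso.hom_inv_id, Grp.id_hom_hom]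
  have e3 : (bcIdIso (Red.DS S M)).inv.hom.hom ≫ (bcIdIso (Red.DS S M)).hom.hom.hom = 𝟙 _ := by
    rw [← Grp.comp_hom_hom, Iso.inv_hom_id, Grp.id_hom_hom]
  have e4 : (bcIdIso (Red.DS S N)).hom.hom.hom ≫ (bcIdIso (Red.DS S N)).inv.hom.hom = 𝟙 _ := by
    rw [← Grp.comp_hom_hom, Iso.hom_inv_id, Grp.id_hom_hom]
  have hnat : Red.DSmap S N.subtype ≫ (bcIdIso (Red.DS S N)).inv.hom.hom =
      (bcIdIso (Red.DS S M)).inv.hom.hom ≫ (Over.pullback (𝟙 S)).map (Red.DSmap S N.subtype) :=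
    (conj_of_comm _ _ _ _ _ _ e3 e4 (bcIdIso_natural (Red.DSmap S N.subtype))).symm
  haveI : IsIso (bcIdIso (Red.DS S N)).inv.hom.hom := ⟨_, e1, e4⟩
  haveI : IsIso (bcIdIso G).hom.hom.hom :=
    ⟨(bcIdIso G).inv.hom.hom, by rw [← Grp.comp_hom_hom, Iso.hom_inv_id, Grp.id_hom_hom],
      by rw [← Grp.comp_hom_hom, Iso.inv_hom_id, Grp.id_hom_hom]⟩
  haveI := hg1
  haveI := hg2
  refine ⟨N, (bcIdIso (Red.DS S N)).inv.hom.hom ≫ g₀ ≫ (bcIdIso G).hom.hom.hom,
    inferInstance, inferInstance, ?_⟩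
  rw [reassoc_of% hnat, reassoc_of% hg3, bcIdIso_natural, reassoc_of% e3]

end Connected

end Groth.Agent.Lib.R2H3.TorusImage
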