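import Groth.Agent.Lib.R2H3SubDiag
import Groth.Agent.Lib.R2H3MultTypeBC

/-!
# Quotients of split tori by subgroups of multiplicative type

* `exists_iso_DS_of_sameSub` (Lemma D): if `H ⟶ D_W(M)` coincides, after the base change
  `t : W' ⟶ W`, with `D(M/N)`, then the base change of the quotient `D_W(M)/H` is `D_{W'}(N)`.
* `exists_equiv_of_subgroup`: a subgroup of `ℤ^r` is isomorphic to `ℤ^{r'}` with `r' ≤ r`.
* `exists_clopen_split_quot` (Lemma C): local splitting of the quotient of a torus, split after the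
  base change `w : W ⟶ S`, by a subgroup of multiplicative type.
* `bcIdIso`: the base change along the identity.
-/

set_option autoImplicit false
universe u

open CategoryTheory MonoidalCategory CartesianMonoidalCategory MonObj GrpObj AlgebraicGeometry
  CategoryTheory.Limits
open Groth.Agent.Lib.H6xDSPts Groth.Agent.Lib.R2H3.MultAct Groth.Agent.Lib.R2H3.MultHom
  Groth.Agent.Lib.R2H3.FpqcLocal Groth.Agent.Lib.R2H3.EqLocus Groth.Agent.Lib.R2H3.FactorMono
  Groth.Agent.Lib.R2H3.SubDesc Groth.Agent.Lib.R2H3.HomFinEt Groth.Agent.Lib.R2H3.OverBc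
  Groth.Agent.Lib.R2H3.QuotBC Groth.Agent.Lib.R2H3.DSQuot Groth.Agent.Lib.R2H3.SubDiag

namespace Groth.Agent.Lib.R2H3.TorusQuot

open scoped Obj in
/-- base change along the identity, as an isomorphism of groups. -/
noncomputable def bcIdIso {S : Scheme.{u}} (G : Over S) [GrpObj G] :
    Grp.mk (Red.bc (𝟙 S) G) ≅ Grp.mk G :=
  (Functor.mapGrpNatIso (Over.pullbackId (X := S)) ≪≫ Functor.mapGrpIdIso).app (Grp.mk G)

/-- a commutative group: every subgroup is normal. -/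
lemma isNormalHom_of_comm {S : Scheme.{u}} {G H : Over S} [GrpObj G] [GrpObj H] (i : H ⟶ G)
    (hc : ∀ (X : Over S) (a b : X ⟶ G), a * b = b * a) : AlgGrp.IsNormalHom i := by
  intro X g n
  refine ⟨n, ?_⟩
  rw [hc X g (n ≫ i), mul_inv_cancel_right]

/-- the points of a group isomorphic to a diagonalisable group commute. -/
lemma comm_of_iso_DS {W : Scheme.{u}} {G : Over W} [GrpObj G] {M : Type} [AddCommGroup M]
    (e : Grp.mk G ≅ Grp.mk (Red.DS W M)) (X : Over W) (a b : X ⟶ G) : a * b = b * a := by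
  haveI : IsIso e.hom.hom.hom :=
    ⟨e.inv.hom.hom, by rw [← Grp.comp_hom_hom, e.hom_inv_id, Grp.id_hom_hom],
      by rw [← Grp.comp_hom_hom, e.inv_hom_id, Grp.id_hom_hom]⟩
  rw [← cancel_mono e.hom.hom.hom, MonObj.mul_comp, MonObj.mul_comp]
  exact Groth.Agent.Lib.R2H3.HomLift.ds_mul_comm _ _

section LemmaD

variable {W W' : Scheme.{u}} {M : Type} [AddCommGroup M] {H Q : Over W} [GrpObj H] [GrpObj Q]
  (i : H ⟶ Red.DS W M) [IsMonHom i] [Mono i] (q : Red.DS W M ⟶ Q) [IsMonHom q]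

open scoped Obj in
/-- **Lemma D**. -/
theorem exists_iso_DS_of_sameSub (hM : AddGroup.FG M) (hq : RedSub.IsQuotient i q)
    (N : AddSubgroup M) (t : W' ⟶ W)
    (hs : SameSub i (Red.DSmap W (QuotientAddGroup.mk' N)) W' t) :
    Nonempty (Grp.mk (Red.bc t Q) ≅ Grp.mk (Red.DS W' N)) := by
  haveI := mono_DSmap_mk (S := W) N
  obtain ⟨ψ, hψ⟩ := exists_iso_of_fac i (Red.DSmap W (QuotientAddGroup.mk' N)) t hs.1 hs.2
  have hq1 := isQuotient_bc t i q hq
  haveI : IsMonHom (Iso.refl (Red.bc t (Red.DS W M))).hom :=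
    inferInstanceAs (IsMonHom (𝟙 (Red.bc t (Red.DS W M))))
  have hq2 : RedSub.IsQuotient ((Over.pullback t).map (Red.DSmap W (QuotientAddGroup.mk' N)))
      ((Over.pullback t).map q) :=
    isQuotient_of_iso ((Over.pullback t).map i) ((Over.pullback t).map q) _ _ (Iso.refl _) ψ
      (Iso.refl _) (by rw [Iso.refl_hom, Category.comp_id, hψ])
      (by rw [Iso.refl_hom, Iso.refl_hom, Category.comp_id, Category.id_comp]) hq1
  have hq3 := isQuotient_bc t _ _ (isQuotient_DS (S := W) N hM)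
  haveI : IsMonHom ((Over.pullback t).map q) :=
    Functor.map.instIsMonHom (F := Over.pullback t) (f := q)
  haveI : IsMonHom ((Over.pullback t).map (Red.DSmap W N.subtype)) :=
    Functor.map.instIsMonHom (F := Over.pullback t) (f := Red.DSmap W N.subtype)
  haveI : IsMonHom ((Over.pullback t).map (Red.DSmap W (QuotientAddGroup.mk' N))) :=
    Functor.map.instIsMonHom (F := Over.pullback t) (f := Red.DSmap W (QuotientAddGroup.mk' N))
  obtain ⟨e, -⟩ := exists_iso_of_isQuotient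
    ((Over.pullback t).map (Red.DSmap W (QuotientAddGroup.mk' N)))
    (isNormalHom_of_comm _ (comm_of_iso_DS (bcDSIso t M)))
    ((Over.pullback t).map q) ((Over.pullback t).map (Red.DSmap W N.subtype)) hq2 hq3
  exact ⟨e ≪≫ bcDSIso t N⟩

end LemmaD

section Free

/-- a subgroup of `ℤ^r` is isomorphic to `ℤ^{r'}` with `r' ≤ r`. -/
theorem exists_equiv_of_subgroup (r : ℕ) (N : AddSubgroup (Fin r → ℤ)) :
    ∃ r' : ℕ, r' ≤ r ∧ Nonempty (N ≃+ (Fin r' → ℤ)) := by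
  obtain ⟨N', hN'⟩ : ∃ N' : Submodule ℤ (Fin r → ℤ), N' = AddSubgroup.toIntSubmodule N :=
    ⟨_, rfl⟩
  refine ⟨Module.finrank ℤ N', ?_, ?_⟩
  · have h := Submodule.finrank_le N'
    rwa [Module.finrank_pi, Fintype.card_fin] at h
  · have e := (Module.finBasis ℤ N').equivFun.toAddEquiv
    subst hN'
    exact ⟨e⟩

end Free

section LemmaC

variable {S W : Scheme.{u}} {T H Q : Over S} [GrpObj T] [GrpObj H] [GrpObj Q]
  (i : H ⟶ T) [IsMonHom i] [Mono i] (q : T ⟶ Q) [IsMonHom q]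

open scoped Obj in
/-- **Lemma C**, first form: the quotient of a group, diagonalisable after the base change
`w : W ⟶ S`, by a subgroup of multiplicative type is diagonalisable locally on `W` for the
topology of open and closed subsets. -/
theorem exists_clopen_subgroup_bc (hH : SGA3x.IsMultTypeFT H) (hq : RedSub.IsQuotient i q)
    (w : W ⟶ S) {M : Type} [AddCommGroup M] (hM : AddGroup.FG M)
    (e : Grp.mk (Red.bc w T) ≅ Grp.mk (Red.DS W M)) (w₀ : W) :
    ∃ (N : AddSubgroup M) (U : W.Opens), w₀ ∈ U ∧ IsClosed (U : Set W) ∧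
      ∀ {W' : Scheme.{u}} (t : W' ⟶ W), Set.range t ⊆ (U : Set W) →
        Nonempty (Grp.mk (Red.bc t (Red.bc w Q)) ≅ Grp.mk (Red.DS W' N)) := by
  haveI : IsMonHom ((Over.pullback w).map i) :=
    Functor.map.instIsMonHom (F := Over.pullback w) (f := i)
  haveI : IsMonHom ((Over.pullback w).map q) :=
    Functor.map.instIsMonHom (F := Over.pullback w) (f := q)
  haveI : Mono ((Over.pullback w).map i) := inferInstance
  have e1 : e.hom.hom.hom ≫ e.inv.hom.hom = 𝟙 _ := by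
    rw [← Grp.comp_hom_hom, e.hom_inv_id, Grp.id_hom_hom]
  have e2 : e.inv.hom.hom ≫ e.hom.hom.hom = 𝟙 _ := by
    rw [← Grp.comp_hom_hom, e.inv_hom_id, Grp.id_hom_hom]
  obtain ⟨eG, heG⟩ : ∃ eG : Red.bc w T ≅ Red.DS W M, eG.hom = e.hom.hom.hom ∧
      eG.inv = e.inv.hom.hom := ⟨⟨e.hom.hom.hom, e.inv.hom.hom, e1, e2⟩, rfl, rfl⟩
  haveI : IsMonHom eG.hom := by rw [heG.1]; infer_instance
  obtain ⟨iW, hiW⟩ : ∃ iW : Red.bc w H ⟶ Red.DS W M,
      iW = (Over.pullback w).map i ≫ eG.hom := ⟨_, rfl⟩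
  obtain ⟨qW, hqW⟩ : ∃ qW : Red.DS W M ⟶ Red.bc w Q,
      qW = eG.inv ≫ (Over.pullback w).map q := ⟨_, rfl⟩
  haveI : IsMonHom iW := by rw [hiW]; infer_instance
  haveI : IsMonHom eG.inv := by rw [heG.2]; infer_instance
  haveI : IsMonHom qW := by rw [hqW]; infer_instance
  haveI : Mono iW := by rw [hiW]; infer_instance
  haveI : IsMonHom (Iso.refl (Red.bc w T)).hom :=
    inferInstanceAs (IsMonHom (𝟙 (Red.bc w T)))
  have hquot : RedSub.IsQuotient iW qW :=
    isQuotient_of_iso ((Over.pullback w).map i) ((Over.pullback w).map q) iW qW eG (Iso.refl _)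
      (Iso.refl _) (by rw [Iso.refl_hom, Category.id_comp, hiW])
      (by rw [Iso.refl_hom, Category.comp_id, hqW, Iso.hom_inv_id_assoc])
      (isQuotient_bc w i q hq)
  obtain ⟨N, U, hU1, hU2, hU3⟩ := exists_clopen_subgroup iW hM
    (Groth.Agent.Lib.R2H3.MultTypeBC.isMultTypeFT_bc H hH w) w₀
  refine ⟨N, U, hU1, hU2, fun {W'} t ht => ?_⟩
  have hrange : Set.range t ⊆ Set.range U.ι := by
    rw [Scheme.Opens.range_ι]
    exact ht
  have h3 := sameSub_precomp iW (Red.DSmap W (QuotientAddGroup.mk' N))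
    (IsOpenImmersion.lift U.ι t hrange) U.ι hU3
  rw [IsOpenImmersion.lift_fac] at h3
  exact exists_iso_DS_of_sameSub iW qW hM hquot N t h3

/-- `ℤ^r` is finitely generated. -/
lemma fg_pi (r : ℕ) : AddGroup.FG (Fin r → ℤ) :=
  Module.Finite.iff_addGroup_fg.mp inferInstance

/-- **Lemma C**, second form. -/
theorem exists_clopen_split_quot (hH : SGA3x.IsMultTypeFT H) (hq : RedSub.IsQuotient i q)
    (w : W ⟶ S) (r : ℕ) (e : Red.IsSplitTorusWith (Fin r → ℤ) (Red.bc w T)) (w₀ : W) :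
    ∃ (U : W.Opens), w₀ ∈ U ∧ IsClosed (U : Set W) ∧ ∃ r' : ℕ, r' ≤ r ∧
      ∀ {W' : Scheme.{u}} (t : W' ⟶ W), Set.range t ⊆ (U : Set W) →
        Red.IsSplitTorusWith (Fin r' → ℤ) (Red.bc (t ≫ w) Q) := by
  obtain ⟨e⟩ := e
  obtain ⟨N, U, hU1, hU2, hU3⟩ := exists_clopen_subgroup_bc i q hH hq w (fg_pi r) e w₀
  obtain ⟨r', hr', ⟨eN⟩⟩ := exists_equiv_of_subgroup r N
  refine ⟨U, hU1, hU2, r', hr', fun {W'} t ht => ?_⟩
  obtain ⟨e3⟩ := hU3 t ht
  exact ⟨bcCompIso t w Q ≪≫ e3 ≪≫ Grp.mkIso' (dsIso (W := W') eN.symm)⟩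

/-- **Lemma C**, third form: open subschemes. -/
theorem exists_open_split_quot (hH : SGA3x.IsMultTypeFT H) (hq : RedSub.IsQuotient i q)
    {S' : Scheme.{u}} (f : S' ⟶ S) (U : S'.Opens) (r : ℕ)
    (e : Red.IsSplitTorusWith (Fin r → ℤ) (Red.bc (U.ι ≫ f) T)) (s' : S') (hs' : s' ∈ U) :
    ∃ V : S'.Opens, s' ∈ V ∧ ∃ r' : ℕ, r' ≤ r ∧
      Red.IsSplitTorusWith (Fin r' → ℤ) (Red.bc (V.ι ≫ f) Q) := by
  obtain ⟨U', hU1, -, r', hr', hU3⟩ :=
    exists_clopen_split_quot i q hH hq (U.ι ≫ f) r e ⟨s', hs'⟩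
  refine ⟨U.ι ''ᵁ U', ⟨⟨s', hs'⟩, hU1, rfl⟩, r', hr', ?_⟩
  have hrange : Set.range (U.ι ''ᵁ U').ι ⊆ Set.range U.ι := by
    rw [Scheme.Opens.range_ι, Scheme.Opens.range_ι]
    rintro _ ⟨x, -, rfl⟩
    exact x.2
  obtain ⟨t, ht⟩ : ∃ t : ((U.ι ''ᵁ U' : S'.Opens) : Scheme.{u}) ⟶ (U : Scheme.{u}),
      t ≫ U.ι = (U.ι ''ᵁ U').ι := ⟨IsOpenImmersion.lift U.ι _ hrange, IsOpenImmersion.lift_fac _ _ _⟩
  have htr : Set.range t ⊆ (U' : Set U) := by
    rintro _ ⟨v, rfl⟩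
    obtain ⟨x, hx, hxv⟩ := v.2
    have h1 : U.ι (t v) = U.ι x := by
      rw [← Scheme.Hom.comp_apply, ht]
      exact hxv.symm
    have h2 : t v = x := U.ι.isOpenEmbedding.injective h1
    rw [h2]
    exact hx
  obtain ⟨e4⟩ := hU3 t htr
  exact ⟨bcCongrIso (by rw [← Category.assoc, ht]) Q ≪≫ e4⟩

end LemmaC

end Groth.Agent.Lib.R2H3.TorusQuot
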