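import Mathlib
import Groth.Agent.Lib.R2H3Transp
import Groth.Agent.Lib.R2H3TorsDense

/-!
# The transporter of a homomorphism from a group with schematically dense finite flat torsion
into a closed subscheme is closed (helper3, round 2)

SGA3 VIII 6.5 e) style statement, deduced from `R2H3Transp.exists_ideals` and
`Groth.Agent.S4876.result`.
-/

set_option autoImplicit false
set_option linter.style.haveILetI false
set_option linter.unusedVariables false
set_option linter.unusedSectionVars false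

universe u

open CategoryTheory CategoryTheory.Limits AlgebraicGeometry MonoidalCategory
  CartesianMonoidalCategory MonObj GrpObj
open Groth.Agent.Lib.R2H3.ClosedWeil Groth.Agent.Lib.R2H3.DenseWeil
  Groth.Agent.Lib.R2H3.TorsDense Groth.Agent.Lib.R2H3.Transp

namespace Groth.Agent.Lib.R2H3.TranspTors

variable {S : Scheme.{u}} (H : Over S) [GrpObj H]

/-- the kernel of the `n`-th power map as an object over `S`. -/
noncomputable abbrev knObj (n : ℕ) : Over S := Over.mk (kn H n ≫ H.hom)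

/-- the inclusion of the kernel of the `n`-th power map. -/
noncomputable abbrev knHom (n : ℕ) : knObj H n ⟶ H := Over.homMk (kn H n) rfl

lemma fst_eq (n : ℕ) :
    pullback.fst η[H].left (𝟙 H ^ n : H ⟶ H).left = kn H n ≫ H.hom := by
  have h1 : η[H].left ≫ H.hom = 𝟙 S := CategoryTheory.Over.w η[H]
  have h2 : (𝟙 H ^ n : H ⟶ H).left ≫ H.hom = H.hom := CategoryTheory.Over.w (𝟙 H ^ n : H ⟶ H)
  calc pullback.fst η[H].left (𝟙 H ^ n : H ⟶ H).left
      = pullback.fst η[H].left (𝟙 H ^ n : H ⟶ H).left ≫ η[H].left ≫ H.hom := by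
        rw [h1]; exact (Category.comp_id _).symm
    _ = kn H n ≫ H.hom := by
        rw [← Category.assoc, pullback.condition, Category.assoc, h2]

/-- **Points killed by `n` are the points of the kernel of the `n`-th power map.** -/
lemma pow_eq_one_iff (n : ℕ) {X' : Over S} (h : X' ⟶ H) :
    h ^ n = 1 ↔ ∃ z : X' ⟶ knObj H n, z ≫ knHom H n = h := by
  have hpow : h ^ n = h ≫ (𝟙 H ^ n : H ⟶ H) := by
    rw [MonObj.comp_pow, Category.comp_id]
  have hone : (1 : X' ⟶ H).left = X'.hom ≫ η[H].left := by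
    rw [Hom.one_def, Over.comp_left, Over.toUnit_left]
  constructor
  · intro hn
    have hcond : X'.hom ≫ η[H].left = h.left ≫ (𝟙 H ^ n : H ⟶ H).left := by
      rw [← hone, ← hn, hpow, Over.comp_left]
    refine ⟨Over.homMk (pullback.lift X'.hom h.left hcond) ?_, ?_⟩
    · change pullback.lift X'.hom h.left hcond ≫ kn H n ≫ H.hom = X'.hom
      rw [pullback.lift_snd_assoc, CategoryTheory.Over.w h]
    · ext
      simp only [Over.comp_left, Over.homMk_left]
      exact pullback.lift_snd _ _ _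
  · rintro ⟨z, rfl⟩
    rw [hpow]
    ext
    rw [hone, Over.comp_left, Over.comp_left]
    simp only [Over.homMk_left]
    rw [Category.assoc, ← pullback.condition, fst_eq, ← Category.assoc, ← Category.assoc]
    congr 1
    exact CategoryTheory.Over.w z

section Main

variable [IsLocallyNoetherian S] [LocallyOfFiniteType H.hom]
  (E : Set ℕ) (hE : E.Nonempty) (hEmul : ∀ m ∈ E, ∀ n ∈ E, m * n ∈ E)
  (ha : ∀ n ∈ E, IsFinite (kn H n ≫ H.hom) ∧ Flat (kn H n ≫ H.hom))
  (hb : ∀ (s : S) (V : (H.hom.fiber s).Opens) (t : Γ(H.hom.fiber s, V)),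
    (∀ n ∈ E, (MoreMor.fiberMap (kn H n) H.hom s).app V t = 0) → t = 0)
  {G W K : Over S} (c : H ⊗ G ⟶ W) (k : K ⟶ W) [IsClosedImmersion k.left]

include hE hEmul ha hb in
/-- **General transporter-type closed subscheme**: the points `g` of `G` with `c (h, g) ∈ K` for
all points `h` of `H` form a closed subscheme, and over a Noetherian `G` the condition may be
tested on the points of a single `ₙH`. -/
theorem main :
    (∃ (T : Over S) (j : T ⟶ G), IsClosedImmersion j.left ∧
      ∀ (X : Over S) (g : X ⟶ G), (∃ t : X ⟶ T, t ≫ j = g) ↔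
        ∀ (X' : Over S) (x : X' ⟶ X) (h : X' ⟶ H),
          ∃ κ : X' ⟶ K, lift h (x ≫ g) ≫ c = κ ≫ k) ∧
    (AlgebraicGeometry.IsNoetherian G.left → ∃ n ∈ E, ∀ (X : Over S) (g : X ⟶ G),
      (∀ (X' : Over S) (x : X' ⟶ X) (h : X' ⟶ H),
          ∃ κ : X' ⟶ K, lift h (x ≫ g) ≫ c = κ ≫ k) ↔
        ∀ (X' : Over S) (x : X' ⟶ X) (h : X' ⟶ H), h ^ n = 1 →
          ∃ κ : X' ⟶ K, lift h (x ≫ g) ≫ c = κ ≫ k) := by
  let Idx : Type u := ULift.{u} {n : ℕ // n ∈ E}
  let Z : Idx → Scheme.{u} := fun i => pullback η[H].left (𝟙 H ^ i.down.1 : H ⟶ H).left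
  let f : ∀ i, Z i ⟶ H.left := fun i => kn H i.down.1
  haveI : Nonempty Idx := ⟨⟨⟨hE.some, hE.some_mem⟩⟩⟩
  haveI hfin : ∀ i, IsFinite (f i ≫ H.hom) := fun i => (ha i.down.1 i.down.2).1
  haveI hflat : ∀ i, Flat (f i ≫ H.hom) := fun i => (ha i.down.1 i.down.2).2
  haveI hlfp : ∀ i, LocallyOfFinitePresentation (f i ≫ H.hom) := fun i => by
    haveI : LocallyOfFiniteType (f i ≫ H.hom) := inferInstance
    infer_instance
  haveI : IsLocallyNoetherian H.left := LocallyOfFiniteType.isLocallyNoetherian H.hom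
  have hd : UnivDominant H.hom Z f := by
    have h1 := (Groth.Agent.S4876.result H.hom Z f).mpr (fun s V t ht =>
      hb s V t (fun n hn => ht ⟨⟨n, hn⟩⟩))
    exact h1
  obtain ⟨J, hmono, hsup, hJ⟩ := exists_ideals c k Z f hd
  refine ⟨⟨Over.mk ((⨆ i, J i).subschemeι ≫ G.hom), Over.homMk (⨆ i, J i).subschemeι rfl,
    ?_, fun X g => ?_⟩, ?_⟩
  · change IsClosedImmersion (⨆ i, J i).subschemeι
    infer_instance
  · rw [exists_over_lift_iff]
    exact hsup g
  · intro hN
    haveI := hN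
    have hdir : Directed (· ≤ ·) J := by
      intro i j
      refine ⟨⟨⟨i.down.1 * j.down.1, hEmul _ i.down.2 _ j.down.2⟩⟩, ?_, ?_⟩
      · obtain ⟨d, hd'⟩ := exists_incl H i.down.1 (i.down.1 * j.down.1) ⟨j.down.1, rfl⟩
        exact hmono _ i d hd'
      · obtain ⟨d, hd'⟩ := exists_incl H j.down.1 (i.down.1 * j.down.1) ⟨i.down.1, mul_comm _ _⟩
        exact hmono _ j d hd'
    obtain ⟨i₀, hi₀⟩ := exists_eq_iSup_of_directed J hdir
    refine ⟨i₀.down.1, i₀.down.2, fun X g => ?_⟩
    rw [← hsup g, hi₀, hJ i₀ g]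
    constructor
    · intro h0 X' x h hn
      obtain ⟨z, hz⟩ := (pow_eq_one_iff H i₀.down.1 h).mp hn
      obtain ⟨κ, hκ⟩ := h0 X' x z
      refine ⟨κ, ?_⟩
      rw [← hz]
      exact hκ
    · intro h0 X' x z
      exact h0 X' x (z ≫ knHom H i₀.down.1) ((pow_eq_one_iff H i₀.down.1 _).mpr ⟨z, rfl⟩)

end Main

end Groth.Agent.Lib.R2H3.TranspTors
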