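import Mathlib

/-!
# Constant schemes `∐_I T`: closed quasi-compact subschemes are finite (helper3, round 2)
-/

set_option autoImplicit false
set_option linter.style.haveILetI false
set_option linter.unusedVariables false

universe u

open CategoryTheory CategoryTheory.Limits AlgebraicGeometry

namespace Groth.Agent.Lib.R2H3.TwConst

/-- The fold map `∐_J Spec A ⟶ Spec A` for a finite index set is finite. -/
theorem isFinite_fold_spec (A : CommRingCat.{u}) (J : Type u) [Finite J] :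
    IsFinite (Sigma.desc (fun _ : J => 𝟙 (Spec A))) := by
  have h1 : Sigma.desc (fun _ : J => 𝟙 (Spec A)) =
      sigmaSpec (fun _ : J => A) ≫
        Spec.map (CommRingCat.ofHom (RingHom.pi (fun _ : J => RingHom.id A))) := by
    refine Sigma.hom_ext _ _ fun i => ?_
    rw [colimit.ι_desc, ι_sigmaSpec_assoc]
    simp only [Cofan.mk_pt, Cofan.mk_ι_app]
    rw [← Spec.map_comp]
    have : CommRingCat.ofHom (RingHom.pi (fun _ : J => RingHom.id A)) ≫
        CommRingCat.ofHom (Pi.evalRingHom (fun _ : J => (A : Type u)) i) = 𝟙 A := by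
      ext x
      rfl
    rw [this]
    exact (Spec.map_id A).symm
  rw [h1]
  have h2 : IsFinite (Spec.map (CommRingCat.ofHom (RingHom.pi (fun _ : J => RingHom.id A)))) := by
    rw [IsFinite.SpecMap_iff]
    have : (CommRingCat.ofHom (RingHom.pi (fun _ : J => RingHom.id A))).hom =
        algebraMap A (J → A) := by
      ext x
      rfl
    rw [this]
    exact RingHom.finite_algebraMap.mpr inferInstance
  infer_instance


/-- The fold map `∐_J V ⟶ V` for a finite index set and affine `V` is finite. -/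
theorem isFinite_fold (V : Scheme.{u}) [IsAffine V] (J : Type u) [Finite J] :
    IsFinite (Sigma.desc (fun _ : J => 𝟙 V)) := by
  have h1 : Sigma.desc (fun _ : J => 𝟙 V) =
      Limits.Sigma.map (fun _ : J => V.isoSpec.hom) ≫
        Sigma.desc (fun _ : J => 𝟙 (Spec Γ(V, ⊤))) ≫ V.isoSpec.inv := by
    refine Sigma.hom_ext _ _ fun i => ?_
    simp
  rw [h1]
  haveI := isFinite_fold_spec Γ(V, ⊤) J
  infer_instance

/-- **Closed subschemes of a constant scheme that are quasi-compact over the base are finite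
over the base.** -/
theorem isFinite_of_isClosedImmersion_const {T Y : Scheme.{u}} (I : Type u)
    (j : Y ⟶ ∐ (fun _ : I => T)) [IsClosedImmersion j]
    [QuasiCompact (j ≫ Sigma.desc (fun _ : I => 𝟙 T))] :
    IsFinite (j ≫ Sigma.desc (fun _ : I => 𝟙 T)) := by
  classical
  obtain ⟨π, hπ⟩ : ∃ π : (∐ (fun _ : I => T)) ⟶ T, π = Sigma.desc (fun _ : I => 𝟙 T) := ⟨_, rfl⟩
  obtain ⟨g, hg⟩ : ∃ g : Y ⟶ T, g = j ≫ π := ⟨_, rfl⟩
  haveI hqc : QuasiCompact g := by rw [hg, hπ]; infer_instance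
  rw [← hπ, ← hg]
  rw [IsZariskiLocalAtTarget.iff_of_iSup_eq_top (P := @IsFinite) _ (iSup_affineOpens_eq_top T)]
  rintro ⟨V, hV⟩
  change IsFinite (g ∣_ V)
  let P : Scheme.{u} := ∐ (fun _ : I => T)
  haveI : IsAffine (V : Scheme.{u}) := hV
  -- the open immersions `θ i : V ⟶ P`
  let θ : I → ((V : Scheme.{u}) ⟶ P) := fun i => V.ι ≫ Sigma.ι (fun _ : I => T) i
  have hθπ : ∀ i, θ i ≫ π = V.ι := fun i => by
    simp only [θ, Category.assoc, hπ, colimit.ι_desc, Cofan.mk_pt, Cofan.mk_ι_app,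
      Category.comp_id]
  have hdisj : Pairwise (Function.onFun Disjoint (fun i => Set.range (θ i))) := by
    intro i i' hii'
    have := disjoint_opensRange_sigmaι (fun _ : I => T) i i' hii'
    rw [Function.onFun]
    refine Set.disjoint_of_subset ?_ ?_
      (show Disjoint (Set.range (Sigma.ι (fun _ : I => T) i))
        (Set.range (Sigma.ι (fun _ : I => T) i')) from ?_)
    · rintro _ ⟨v, rfl⟩
      exact ⟨V.ι v, by simp [θ]⟩
    · rintro _ ⟨v, rfl⟩
      exact ⟨V.ι v, by simp [θ]⟩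
    · have h2 := this
      rw [disjoint_iff, TopologicalSpace.Opens.ext_iff] at h2
      rw [Set.disjoint_iff_inter_eq_empty]
      exact h2
  -- compactness
  have hcomp : IsCompact ((g ⁻¹ᵁ V : Y.Opens) : Set Y) :=
    g.isCompact_preimage hV.isCompact
  have hcov : ((g ⁻¹ᵁ V : Y.Opens) : Set Y) ⊆ ⋃ i : I, (j ⁻¹ᵁ (θ i).opensRange : Y.Opens) := by
    intro y hy
    obtain ⟨⟨i, t⟩, hit⟩ := (sigmaMk (fun _ : I => T)).surjective (j y)
    rw [sigmaMk_mk] at hit
    have hyV : g y ∈ V := hy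
    have hgt : g y = t := by
      rw [hg, Scheme.Hom.comp_apply, ← hit, ← Scheme.Hom.comp_apply, hπ, colimit.ι_desc]
      rfl
    rw [hgt] at hyV
    refine Set.mem_iUnion.mpr ⟨i, ?_⟩
    change j y ∈ Set.range (θ i)
    refine ⟨⟨t, hyV⟩, ?_⟩
    rw [← hit]
    simp [θ]
  obtain ⟨J, hJ⟩ := hcomp.elim_finite_subcover
    (fun i : I => ((j ⁻¹ᵁ (θ i).opensRange : Y.Opens) : Set Y))
    (fun i => (j ⁻¹ᵁ (θ i).opensRange : Y.Opens).isOpen) hcov
  -- the finite constant subscheme
  let θJ : (∐ (fun _ : (J : Set I) => (V : Scheme.{u}))) ⟶ P := Sigma.desc (fun i => θ i.1)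
  haveI : IsOpenImmersion θJ := by
    refine isOpenImmersion_sigmaDesc _ _ ?_
    intro a b hab
    exact hdisj (fun h => hab (Subtype.ext h))
  have hrange : Set.range θJ = ⋃ i : (J : Set I), Set.range (θ i.1) := by
    ext p
    constructor
    · rintro ⟨q, rfl⟩
      obtain ⟨⟨i, v⟩, rfl⟩ := (sigmaMk (fun _ : (J : Set I) => (V : Scheme.{u}))).surjective q
      rw [sigmaMk_mk]
      refine Set.mem_iUnion.mpr ⟨i, v, ?_⟩
      rw [← Scheme.Hom.comp_apply, colimit.ι_desc]
      rfl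
    · intro hp
      obtain ⟨i, v, rfl⟩ := Set.mem_iUnion.mp hp
      refine ⟨Sigma.ι (fun _ : (J : Set I) => (V : Scheme.{u})) i v, ?_⟩
      rw [← Scheme.Hom.comp_apply, colimit.ι_desc]
      rfl
  let YV : Y.Opens := g ⁻¹ᵁ V
  let k : (YV : Scheme.{u}) ⟶ P := YV.ι ≫ j
  have hk : Set.range k ⊆ Set.range θJ := by
    rintro _ ⟨y, rfl⟩
    have hy : (YV.ι y) ∈ ((g ⁻¹ᵁ V : Y.Opens) : Set Y) := y.2
    obtain ⟨i, hi, hyi⟩ := Set.mem_iUnion₂.mp (hJ hy)
    rw [hrange]
    refine Set.mem_iUnion.mpr ⟨⟨i, hi⟩, ?_⟩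
    exact hyi
  let k' : (YV : Scheme.{u}) ⟶ ∐ (fun _ : (J : Set I) => (V : Scheme.{u})) :=
    IsOpenImmersion.lift θJ k hk
  have hk' : k' ≫ θJ = k := IsOpenImmersion.lift_fac _ _ _
  have hθJπ : θJ ≫ π = Sigma.desc (fun _ : (J : Set I) => 𝟙 (V : Scheme.{u})) ≫ V.ι := by
    refine Sigma.hom_ext _ _ fun i => ?_
    simp only [θJ, colimit.ι_desc_assoc, Cofan.mk_pt, Cofan.mk_ι_app, hθπ]
    exact (Category.id_comp _).symm
  have hpb : IsPullback k' YV.ι θJ j := by
    refine IsOpenImmersion.isPullback k' YV.ι θJ j hk'.symm ?_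
    rw [Scheme.Opens.opensRange_ι]
    ext y
    constructor
    · intro hy
      have h1 : j y ∈ Set.range θJ := hy
      obtain ⟨q, hq⟩ := h1
      change g y ∈ V
      rw [hg, Scheme.Hom.comp_apply, ← hq, ← Scheme.Hom.comp_apply, hθJπ,
        Scheme.Hom.comp_apply]
      exact (Sigma.desc (fun _ : (J : Set I) => 𝟙 (V : Scheme.{u})) q).2
    · intro hy
      have hy' : y ∈ ((g ⁻¹ᵁ V : Y.Opens) : Set Y) := hy
      obtain ⟨i, hi, hyi⟩ := Set.mem_iUnion₂.mp (hJ hy')
      change j y ∈ Set.range θJ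
      rw [hrange]
      exact Set.mem_iUnion.mpr ⟨⟨i, hi⟩, hyi⟩
  haveI : IsClosedImmersion k' :=
    MorphismProperty.of_isPullback (P := @IsClosedImmersion) hpb.flip inferInstance
  have hfin : IsFinite (Sigma.desc (fun _ : (J : Set I) => 𝟙 (V : Scheme.{u}))) :=
    isFinite_fold (V : Scheme.{u}) (J : Set I)
  have hfac : g ∣_ V = k' ≫ Sigma.desc (fun _ : (J : Set I) => 𝟙 (V : Scheme.{u})) := by
    rw [← cancel_mono V.ι, Category.assoc, ← hθJπ, ← Category.assoc, hk', morphismRestrict_ι]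
    simp only [k, Category.assoc, hg]
    rfl
  rw [hfac]
  infer_instance


/-- If the base change of `R` along `c : U ⟶ S` is a constant `U`-scheme, then for a closed
subscheme `Z` of `R` quasi-compact over `S`, the base change of `Z ⟶ S` to `U` is finite. -/
theorem isFinite_pullback_snd_of_iso_const {S U : Scheme.{u}} (R : Over S) (c : U ⟶ S)
    (I : Type u) (e : (Over.pullback c).obj R ≅ Over.mk (Sigma.desc fun _ : I => 𝟙 U))
    {Z : Scheme.{u}} (z : Z ⟶ R.left) [IsClosedImmersion z] [QuasiCompact (z ≫ R.hom)] :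
    IsFinite (pullback.snd (z ≫ R.hom) c) := by
  -- the base change of `z`
  let zU : pullback (z ≫ R.hom) c ⟶ pullback R.hom c :=
    pullback.lift (pullback.fst (z ≫ R.hom) c ≫ z) (pullback.snd (z ≫ R.hom) c)
      (by rw [Category.assoc, pullback.condition])
  have hpb : IsPullback zU (pullback.fst (z ≫ R.hom) c) (pullback.fst R.hom c) z := by
    refine IsPullback.of_right ?_ (pullback.lift_fst _ _ _)
      (IsPullback.of_hasPullback R.hom c).flip
    rw [pullback.lift_snd]
    exact (IsPullback.of_hasPullback (z ≫ R.hom) c).flip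
  haveI : IsClosedImmersion zU :=
    MorphismProperty.of_isPullback (P := @IsClosedImmersion) hpb.flip inferInstance
  let j : pullback (z ≫ R.hom) c ⟶ ∐ (fun _ : I => U) := zU ≫ e.hom.left
  have hj : j ≫ Sigma.desc (fun _ : I => 𝟙 U) = pullback.snd (z ≫ R.hom) c := by
    have h1 : e.hom.left ≫ Sigma.desc (fun _ : I => 𝟙 U) = pullback.snd R.hom c := Over.w e.hom
    rw [Category.assoc, h1]
    exact pullback.lift_snd _ _ _
  haveI : IsClosedImmersion j := inferInstance
  haveI : QuasiCompact (j ≫ Sigma.desc (fun _ : I => 𝟙 U)) := by rw [hj]; infer_instance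
  rw [← hj]
  exact isFinite_of_isClosedImmersion_const I j

end Groth.Agent.Lib.R2H3.TwConst
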