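import Mathlib
import Groth.Agent.Lib.R2H3TwConst
import Groth.Agent.Lib.R2H3LocDesc
import Groth.Agent.Lib.Helper12Descent

/-!
# Twisted constant schemes: closed quasi-compact subschemes are finite (helper3, round 2)
-/

set_option autoImplicit false
set_option linter.style.haveILetI false
set_option linter.unusedVariables false

universe u

open CategoryTheory CategoryTheory.Limits AlgebraicGeometry

namespace Groth.Agent.Lib.R2H3.TwConst

/-- The range of a coproduct inclusion of schemes is closed. -/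
theorem isClosed_range_sigmaι {σ : Type u} (g : σ → Scheme.{u}) (i : σ) :
    IsClosed (Set.range (Sigma.ι g i)) := by
  have h : Set.range (Sigma.ι g i) = sigmaMk g '' Set.range (Sigma.mk i) := by
    ext p
    constructor
    · rintro ⟨x, rfl⟩
      exact ⟨⟨i, x⟩, ⟨x, rfl⟩, sigmaMk_mk g i x⟩
    · rintro ⟨_, ⟨x, rfl⟩, rfl⟩
      exact ⟨x, (sigmaMk_mk g i x).symm⟩
  rw [h]
  exact (sigmaMk g).isClosedMap _ Topology.IsClosedEmbedding.sigmaMk.isClosed_range

/-- An open subscheme with closed underlying set is a closed subscheme. -/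
theorem isClosedImmersion_ι_of_isClosed {X : Scheme.{u}} (U : X.Opens)
    (hU : IsClosed (U : Set X)) : IsClosedImmersion U.ι :=
  .of_isPreimmersion _ (by rw [Scheme.Opens.range_ι]; exact hU)

/-- fpqc-locally constant schemes: closed subschemes that are quasi-compact over the base are
finite over the base. -/
theorem isFinite_of_locally_const_fpqc {S S' : Scheme.{u}} (R : Over S) (f : S' ⟶ S) [Flat f]
    (hqc : ∀ V : S.Opens, IsAffineOpen V →
      ∃ W : S'.Opens, IsCompact (W : Set S') ∧ f.base '' (W : Set S') = (V : Set S))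
    (hloc : ∀ s' : S', ∃ U : S'.Opens, s' ∈ U ∧ ∃ I : Type u,
      Nonempty ((Over.pullback (U.ι ≫ f)).obj R ≅ Over.mk (Sigma.desc fun _ : I => 𝟙 (U : Scheme.{u}))))
    {Z : Scheme.{u}} (z : Z ⟶ R.left) [IsClosedImmersion z] [QuasiCompact (z ≫ R.hom)] :
    IsFinite (z ≫ R.hom) := by
  haveI := Groth.Agent.Lib.Helper12.descendsAlong_isFinite.{u}
  refine Groth.Agent.Lib.R2H3.LocDesc.of_locally_fpqc (P := @IsFinite) (z ≫ R.hom) f hqc
    fun s' => ?_
  obtain ⟨U, hsU, I, ⟨e⟩⟩ := hloc s'
  exact ⟨U, hsU, isFinite_pullback_snd_of_iso_const R (U.ι ≫ f) I e z⟩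

/-- the quasi-compactness condition of an fpqc covering holds for surjective quasi-compact maps -/
theorem exists_compact_image_eq {S S' : Scheme.{u}} (f : S' ⟶ S) [QuasiCompact f] [Surjective f]
    (V : S.Opens) (hV : IsAffineOpen V) :
    ∃ W : S'.Opens, IsCompact (W : Set S') ∧ f.base '' (W : Set S') = (V : Set S) := by
  refine ⟨f ⁻¹ᵁ V, f.isCompact_preimage hV.isCompact, ?_⟩
  exact Set.image_preimage_eq _ f.surjective

end Groth.Agent.Lib.R2H3.TwConst
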