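import Mathlib
import Groth.Agent.Lib.R2H3TwConstB

/-!
# Clopen subschemes of constant schemes: fibres and quasi-compactness (helper3, round 2)
-/

set_option autoImplicit false
set_option linter.style.haveILetI false
set_option linter.unusedVariables false

universe u

open CategoryTheory CategoryTheory.Limits AlgebraicGeometry

namespace Groth.Agent.Lib.R2H3.TwConst

section Fibre

variable {Z S S' : Scheme.{u}} (g : Z ⟶ S) (f : S' ⟶ S)

/-- fibres of a base change surject onto the fibres -/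
theorem finite_fibre_of_finite_fibre_pullback (t : S')
    (h : ((pullback.snd g f) ⁻¹' {t}).Finite) : (g ⁻¹' {f t}).Finite := by
  refine (h.image (pullback.fst g f)).subset ?_
  intro z hz
  obtain ⟨w, hw1, hw2⟩ := Scheme.Pullback.exists_preimage_pullback (f := g) (g := f) z t hz
  exact ⟨w, hw2, hw1⟩

/-- the fibre of a base change over a point is compact when the fibre below is finite -/
theorem isCompact_fibre_pullback (t : S') (h : (g ⁻¹' {f t}).Finite) :
    IsCompact ((pullback.snd g f) ⁻¹' {t}) := by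
  let 𝒯 : Set (Scheme.Pullback.Triplet g f) := {T | T.y = t}
  have h𝒯 : 𝒯.Finite := by
    refine Set.Finite.of_injOn (f := fun T => T.x) (t := g ⁻¹' {f t}) ?_ ?_ h
    · intro T hT
      have hT' : T.y = t := hT
      change g T.x = f t
      rw [T.hx, ← T.hy, hT']
    · intro T₁ h₁ T₂ h₂ hx
      exact Scheme.Pullback.Triplet.ext hx (h₁.trans h₂.symm)
  have heq : (pullback.snd g f) ⁻¹' {t} = ⋃ T ∈ 𝒯, Set.range T.SpecTensorTo := by
    ext w
    constructor
    · intro hw
      exact Set.mem_iUnion₂.mpr ⟨Scheme.Pullback.Triplet.ofPoint w, hw,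
        Scheme.Pullback.SpecOfPoint w, Scheme.Pullback.SpecTensorTo_SpecOfPoint w⟩
    · intro hw
      obtain ⟨T, hT, p, rfl⟩ := Set.mem_iUnion₂.mp hw
      change pullback.snd g f (T.SpecTensorTo p) = t
      rw [Scheme.Pullback.Triplet.snd_SpecTensorTo_apply]
      exact hT
  rw [heq]
  exact h𝒯.isCompact_biUnion fun T _ => isCompact_range T.SpecTensorTo.continuous

end Fibre

/-- restriction of a morphism over an open is quasi-compact if preimages of affine opens inside
are compact -/
theorem quasiCompact_morphismRestrict_of {X Y : Scheme.{u}} (f : X ⟶ Y) (U : Y.Opens)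
    (h : ∀ V : Y.Opens, V ≤ U → IsAffineOpen V → IsCompact ((f ⁻¹ᵁ V : X.Opens) : Set X)) :
    QuasiCompact (f ∣_ U) := by
  rw [quasiCompact_iff_forall_isAffineOpen]
  intro W hW
  have hV : IsAffineOpen (U.ι ''ᵁ W) := hW.image_of_isOpenImmersion U.ι
  have hle : U.ι ''ᵁ W ≤ U := by
    rintro _ ⟨w, -, rfl⟩
    exact w.2
  have h1 := h _ hle hV
  rw [← image_morphismRestrict_preimage f U W] at h1
  exact ((f ⁻¹ᵁ U).ι.isEmbedding.isInducing.isCompact_iff).mpr h1

section Const

variable {T Y : Scheme.{u}} {I : Type u} (j : Y ⟶ ∐ fun _ : I => T)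

/-- the fold map of the constant scheme -/
noncomputable abbrev fold (T : Scheme.{u}) (I : Type u) : (∐ fun _ : I => T) ⟶ T :=
  Sigma.desc fun _ : I => 𝟙 T

theorem fold_ι (i : I) (t : T) : fold T I (Sigma.ι (fun _ : I => T) i t) = t := by
  rw [← Scheme.Hom.comp_apply, colimit.ι_desc]
  rfl

/-- the index of the copy containing a point -/
noncomputable def idx (p : ↥(∐ fun _ : I => T)) : I := ((sigmaMk (fun _ : I => T)).symm p).1

theorem ι_idx_fold (p : ↥(∐ fun _ : I => T)) :
    Sigma.ι (fun _ : I => T) (idx p) (fold T I p) = p := by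
  have h1 : Sigma.ι (fun _ : I => T) (idx p) ((sigmaMk (fun _ : I => T)).symm p).2 = p := by
    rw [← sigmaMk_mk]
    exact (sigmaMk (fun _ : I => T)).apply_symm_apply p
  have h2 : fold T I p = ((sigmaMk (fun _ : I => T)).symm p).2 := by
    conv_lhs => rw [← h1]
    exact fold_ι _ _
  rw [h2]
  exact h1

theorem idx_ι (i : I) (t : T) : idx (Sigma.ι (fun _ : I => T) i t) = i := by
  have h := ι_idx_fold (Sigma.ι (fun _ : I => T) i t)
  rw [sigmaι_eq_iff] at h
  exact (Sigma.mk.inj h).1

/-- the set of copies meeting the range of `j` above a point -/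
def N (t : T) : Set I := {i | Sigma.ι (fun _ : I => T) i t ∈ Set.range j}

theorem N_eq_of_isPreconnected (hj : IsClopen (Set.range j)) {T' : Set T}
    (hT' : _root_.IsPreconnected T') {t₁ t₂ : T} (h₁ : t₁ ∈ T') (h₂ : t₂ ∈ T') : N j t₁ = N j t₂ := by
  have key : ∀ {a b : T}, a ∈ T' → b ∈ T' → N j a ⊆ N j b := by
    intro a b ha hb i hi
    have hcl : IsClopen ((Sigma.ι (fun _ : I => T) i) ⁻¹' Set.range j) :=
      hj.preimage (Sigma.ι (fun _ : I => T) i).continuous
    exact hT'.subset_isClopen hcl ⟨a, ha, hi⟩ hb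
  exact Set.Subset.antisymm (key h₁ h₂) (key h₂ h₁)

theorem finite_N_of_isCompact (t : T) (hK : IsCompact ((j ≫ fold T I) ⁻¹' {t})) :
    (N j t).Finite := by
  obtain ⟨J, hJ⟩ := hK.elim_finite_subcover
    (fun i : I => ((j ⁻¹ᵁ (Sigma.ι (fun _ : I => T) i).opensRange : Y.Opens) : Set Y))
    (fun i => (j ⁻¹ᵁ (Sigma.ι (fun _ : I => T) i).opensRange : Y.Opens).isOpen) (by
      intro w _
      refine Set.mem_iUnion.mpr ⟨idx (j w), ?_⟩
      exact ⟨fold T I (j w), ι_idx_fold (j w)⟩)
  refine J.finite_toSet.subset ?_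
  intro i hi
  obtain ⟨w, hw⟩ := hi
  have hwK : w ∈ (j ≫ fold T I) ⁻¹' {t} := by
    change fold T I (j w) = t
    rw [hw, fold_ι]
  obtain ⟨i', hi'J, hwi'⟩ := Set.mem_iUnion₂.mp (hJ hwK)
  obtain ⟨t', ht'⟩ := hwi'
  have h3 : idx (j w) = i' := by rw [← ht', idx_ι]
  have h4 : idx (j w) = i := by rw [hw, idx_ι]
  rw [← h4, h3]
  exact hi'J

theorem finite_fibre_of_finite_N (hinj : Function.Injective j) (t : T) (h : (N j t).Finite) :
    ((j ≫ fold T I) ⁻¹' {t}).Finite := by
  refine Set.Finite.of_injOn (f := fun w => idx (j w)) (t := N j t) ?_ ?_ h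
  · intro w hw
    have hw' : fold T I (j w) = t := hw
    refine ⟨w, ?_⟩
    have := ι_idx_fold (j w)
    rw [hw'] at this
    exact this.symm
  · intro w hw w' hw' hidx
    have hw1 : fold T I (j w) = t := hw
    have hw2 : fold T I (j w') = t := hw'
    apply hinj
    rw [← ι_idx_fold (j w), ← ι_idx_fold (j w'), hw1, hw2]
    exact congrArg (fun i => Sigma.ι (fun _ : I => T) i t) hidx

theorem quasiCompact_restrict (hj : Topology.IsEmbedding j) (T' : T.Opens) (N₀ : Set I)
    (hfin : N₀.Finite) (hN : ∀ t ∈ T', N j t = N₀) :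
    QuasiCompact ((j ≫ fold T I) ∣_ T') := by
  refine quasiCompact_morphismRestrict_of _ T' fun V hVT hV => ?_
  have heq : (((j ≫ fold T I) ⁻¹ᵁ V : Y.Opens) : Set Y) =
      ⋃ i ∈ N₀, j ⁻¹' ((Sigma.ι (fun _ : I => T) i) '' (V : Set T)) := by
    ext w
    constructor
    · intro hw
      have hw' : fold T I (j w) ∈ V := hw
      refine Set.mem_iUnion₂.mpr ⟨idx (j w), ?_, ⟨fold T I (j w), hw', ι_idx_fold (j w)⟩⟩
      rw [← hN _ (hVT hw')]
      exact ⟨w, (ι_idx_fold (j w)).symm⟩
    · intro hw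
      obtain ⟨i, -, v, hv, hvw⟩ := Set.mem_iUnion₂.mp hw
      change fold T I (j w) ∈ V
      rw [← hvw, fold_ι]
      exact hv
  rw [heq]
  refine hfin.isCompact_biUnion fun i hi => ?_
  refine hj.isInducing.isCompact_preimage' (hV.isCompact.image
    (Sigma.ι (fun _ : I => T) i).continuous) ?_
  rintro _ ⟨v, hv, rfl⟩
  have : i ∈ N j v := by rw [hN v (hVT hv)]; exact hi
  exact this

end Const

end Groth.Agent.Lib.R2H3.TwConst
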