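import Mathlib
import Groth.Prelude.Def_TwC
import Groth.Agent.Lib.R2H3FpqcRepMain
import Groth.Agent.Lib.R2H3HomFunBC
import Groth.Agent.Lib.R2H3ConstDual
import Groth.Agent.Lib.R2H3HomGrpStr
import Groth.Agent.Lib.R2H3MultTypeProps
import Groth.Agent.Lib.R2H3FpqcLocal

/-!
# The dual of a twisted constant group is representable, of multiplicative type
(helper3, round 2)

* `exists_representsHom_of_locally`: the functor `Hom_{S-gr}(G, H)` is representable by a scheme
  affine over `S` as soon as it is so locally on `S` for the fpqc topology.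
* `local_dual`: the dual of the constant group `M_U`, with values in `𝔾_{m,S} ×_S U`.
* `bilin_bcFam`: base change of a bi-multiplicative pairing.
* `dual_twConst`: for a twisted constant `S`-group `R`, the functor `Hom_{S-gr}(R, 𝔾_m)` is
  representable by an `S`-group of multiplicative type, with a bi-multiplicative universal pairing.
-/

set_option autoImplicit false
set_option linter.style.haveILetI false
set_option linter.unusedVariables false
set_option linter.unusedSectionVars false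

universe u

open CategoryTheory CategoryTheory.Limits AlgebraicGeometry Opposite
  MonoidalCategory CartesianMonoidalCategory MonObj GrpObj
open Groth.Agent.Lib.R2H3.FpqcRep Groth.Agent.Lib.R2H3.HomFun Groth.Agent.Lib.R2H3.HomFunBC
  Groth.Agent.Lib.R2H3.HomRepBC Groth.Agent.Lib.R2H3.MultAct Groth.Agent.Lib.R2H3.ConstDual
  Groth.Agent.Lib.R2H3.HomGrpStr Groth.Agent.Lib.R2H3.FpqcLocal
  Groth.Agent.Lib.Helper27.GaGm

namespace Groth.Agent.Lib.R2H3.TwConstDual

/-- **Representability of `Hom_{S-gr}(G, H)` by affine schemes is local for the fpqc topology.** -/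
theorem exists_representsHom_of_locally {S : Scheme.{u}} (G H : Over S) [GrpObj G] [GrpObj H]
    (h : TwC.Locally S TwC.Topology.fpqc (fun S' f =>
      ∃ (A' : Over S') (υ' : Red.bc f G ⊗ A' ⟶ Red.bc f H),
        IsAffineHom A'.hom ∧ AutFam.RepresentsHom (Red.bc f G) (Red.bc f H) A' υ')) :
    ∃ (A : Over S) (υ : G ⊗ A ⟶ H), IsAffineHom A.hom ∧ AutFam.RepresentsHom G H A υ := by
  have h' : TwC.Locally S TwC.Topology.fpqc (fun S' f => HasAffRep (homF G H) f) := by
    obtain ⟨S', f, hflat, hsurj, hqc, hloc⟩ := h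
    refine ⟨S', f, hflat, hsurj, hqc, fun s' => ?_⟩
    obtain ⟨U, hU, A', υ', haff, hrep⟩ := hloc s'
    exact ⟨U, hU, A', _, haff, isUnivAt_of_representsHom _ A' υ' hrep⟩
  obtain ⟨A, e, haff, hbij⟩ :=
    (hasAffRep_of_locally_fpqc isZarSheaf_homF isFpqcSheaf_homF h').exists_bijective
  exact ⟨A, e.1, haff, representsHom_of_bijective A e hbij⟩

/-- `𝔾_m` is commutative. -/
lemma gm_comm (S : Scheme.{u}) (X : Over S) (a b : X ⟶ Red.Gm S) : a * b = b * a := by
  apply gmFn_injective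
  rw [gmFn_mul, gmFn_mul, mul_comm]

/-- the dual of the constant group `M_U`, with values in `𝔾_{m,S} ×_S U`. -/
theorem local_dual {S U : Scheme.{u}} (f : U ⟶ S) (R : Over S) [GrpObj R] {M : Type} [Group M]
    (e : Red.bc f R ≅ TwC.const U M) (he : TwC.IsConstGrp M (Red.bc f R) e) :
    ∃ υ' : Red.bc f R ⊗ Red.DS U (Additive (Abelianization M)) ⟶ Red.bc f (Red.Gm S),
      AutFam.RepresentsHom (Red.bc f R) (Red.bc f (Red.Gm S))
        (Red.DS U (Additive (Abelianization M))) υ' ∧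
      ∀ (X : Over U) (r : X ⟶ Red.bc f R) (x y : X ⟶ Red.DS U (Additive (Abelianization M))),
        lift r (x * y) ≫ υ' = (lift r x ≫ υ') * (lift r y ≫ υ') := by
  obtain ⟨υ, hυ, hb⟩ := exists_representsHom_const he
  obtain ⟨a, ha⟩ : ∃ a : Red.Gm U ⟶ Red.bc f (Red.Gm S), a = (bcDSIso f ℤ).inv.hom.hom :=
    ⟨_, rfl⟩
  obtain ⟨b, hb'⟩ : ∃ b : Red.bc f (Red.Gm S) ⟶ Red.Gm U, b = (bcDSIso f ℤ).hom.hom.hom :=
    ⟨_, rfl⟩
  haveI : IsMonHom a := by rw [ha]; infer_instance
  haveI : IsMonHom b := by rw [hb']; infer_instance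
  have hab : a ≫ b = 𝟙 _ := by
    rw [ha, hb', ← Grp.comp_hom_hom, (bcDSIso f ℤ).inv_hom_id, Grp.id_hom_hom]
  have hba : b ≫ a = 𝟙 _ := by
    rw [ha, hb', ← Grp.comp_hom_hom, (bcDSIso f ℤ).hom_inv_id, Grp.id_hom_hom]
  exact ⟨υ ≫ a, representsHom_comp_iso υ a b hab hba hυ, bilin_comp υ a hb⟩

/-- base change of a pairing which is multiplicative in the second variable. -/
theorem bilin_bcFam {S O : Scheme.{u}} (w : O ⟶ S) {G H A : Over S} [GrpObj G] [GrpObj H]
    [GrpObj A] (υ : G ⊗ A ⟶ H)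
    (hb : ∀ (X : Over S) (r : X ⟶ G) (x y : X ⟶ A),
      lift r (x * y) ≫ υ = (lift r x ≫ υ) * (lift r y ≫ υ)) :
    ∀ (X : Over O) (r : X ⟶ Red.bc w G) (x y : X ⟶ Red.bc w A),
      lift r (x * y) ≫ bcFam w G H A υ =
        (lift r x ≫ bcFam w G H A υ) * (lift r y ≫ bcFam w G H A υ) := by
  intro X r x y
  apply (adjE w H X).injective
  rw [adjE_bcFam, adjE_mul, adjE_mul, adjE_bcFam, adjE_bcFam]
  exact hb _ _ _ _

/-- **The dual of a twisted constant group is representable, by a group of multiplicative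
type.** -/
theorem dual_twConst {S : Scheme.{u}} (R : Over S) [GrpObj R]
    (hR : TwC.Locally S TwC.Topology.fpqc (fun S' f =>
      ∃ (M : Type) (_ : Group M) (e : Red.bc f R ≅ TwC.const S' M),
        TwC.IsConstGrp M (Red.bc f R) e)) :
    ∃ (D : Over S) (_ : GrpObj D) (υ : R ⊗ D ⟶ Red.Gm S),
      AutFam.RepresentsHom R (Red.Gm S) D υ ∧
      (∀ (X : Over S) (r : X ⟶ R) (a b : X ⟶ D),
        lift r (a * b) ≫ υ = (lift r a ≫ υ) * (lift r b ≫ υ)) ∧
      TwC.Locally S TwC.Topology.fpqc (fun S' f => ∃ (M : Type) (_ : AddCommGroup M),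
        Nonempty (Grp.mk (Red.bc f D) ≅ Grp.mk (Red.DS S' M))) := by
  have hloc : TwC.Locally S TwC.Topology.fpqc (fun S' f =>
      ∃ (A' : Over S') (υ' : Red.bc f R ⊗ A' ⟶ Red.bc f (Red.Gm S)),
        IsAffineHom A'.hom ∧ AutFam.RepresentsHom (Red.bc f R) (Red.bc f (Red.Gm S)) A' υ') := by
    obtain ⟨S', f, hflat, hsurj, hqc, hloc⟩ := hR
    refine ⟨S', f, hflat, hsurj, hqc, fun s' => ?_⟩
    obtain ⟨U, hU, M, instM, e, he⟩ := hloc s'
    obtain ⟨υ', hυ', -⟩ := local_dual (U.ι ≫ f) R e he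
    exact ⟨U, hU, _, υ', Groth.Agent.Lib.R2H3.MultTypeProps.isAffineHom_DS _ _, hυ'⟩
  obtain ⟨D, υ, haff, hrep⟩ := exists_representsHom_of_locally R (Red.Gm S) hloc
  obtain ⟨instD, hbil⟩ := exists_grpObj (gm_comm S) υ hrep
  refine ⟨D, instD, υ, hrep, hbil, ?_⟩
  obtain ⟨S', f, hflat, hsurj, hqc, hloc⟩ := hR
  refine ⟨S', f, hflat, hsurj, hqc, fun s' => ?_⟩
  obtain ⟨U, hU, M, instM, e, he⟩ := hloc s'
  refine ⟨U, hU, Additive (Abelianization M), inferInstance, ?_⟩
  obtain ⟨υ', hυ', hb'⟩ := local_dual (U.ι ≫ f) R e he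
  exact exists_grpIso_of_representsHom (bcFam (U.ι ≫ f) R (Red.Gm S) D υ) υ'
    (representsHom_bc (U.ι ≫ f) υ hrep) hυ' (bilin_bcFam (U.ι ≫ f) υ hbil) hb'

end Groth.Agent.Lib.R2H3.TwConstDual
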