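import Mathlib
import Groth.Agent.Lib.R2H3TwConstC
import Groth.Agent.Lib.R2H3LocDesc
import Groth.Agent.Lib.Helper12Descent

/-!
# Constant schemes are separated, etale and satisfy the valuative criterion; descent of these
properties to quasi-isotrivial twisted constant schemes (helper3, round 2)
-/

set_option autoImplicit false
set_option linter.style.haveILetI false
set_option linter.unusedVariables false

universe u

open CategoryTheory CategoryTheory.Limits AlgebraicGeometry MorphismProperty

namespace Groth.Agent.Lib.R2H3.TwConst

section Fold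

variable {T : Scheme.{u}} {I : Type u}

theorem ι_fold (i : I) : Sigma.ι (fun _ : I => T) i ≫ fold T I = 𝟙 T := by
  simp [fold]

/-- the index function is locally constant -/
theorem isLocallyConstant_idx : IsLocallyConstant (idx : ↥(∐ fun _ : I => T) → I) := by
  rw [IsLocallyConstant.iff_isOpen_fiber]
  intro i
  have : idx ⁻¹' {i} = Set.range (Sigma.ι (fun _ : I => T) i) := by
    ext p
    constructor
    · intro hp
      have hp' : idx p = i := hp
      exact ⟨fold T I p, by rw [← hp', ι_idx_fold]⟩
    · rintro ⟨t, rfl⟩
      exact idx_ι i t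
  rw [this]
  exact (Sigma.ι (fun _ : I => T) i).isOpenEmbedding.isOpen_range

/-- a morphism into the constant scheme landing in one copy factors through that copy -/
theorem exists_factor_of_idx_const {W : Scheme.{u}} (a : W ⟶ ∐ fun _ : I => T) (i : I)
    (h : ∀ w : W, idx (a w) = i) : a = (a ≫ fold T I) ≫ Sigma.ι (fun _ : I => T) i := by
  have hr : Set.range a ⊆ Set.range (Sigma.ι (fun _ : I => T) i) := by
    rintro _ ⟨w, rfl⟩
    exact ⟨fold T I (a w), by rw [← h w, ι_idx_fold]⟩
  have h1 : a = IsOpenImmersion.lift (Sigma.ι (fun _ : I => T) i) a hr ≫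
      Sigma.ι (fun _ : I => T) i := (IsOpenImmersion.lift_fac _ _ _).symm
  have h2 : a ≫ fold T I = IsOpenImmersion.lift (Sigma.ι (fun _ : I => T) i) a hr := by
    conv_lhs => rw [h1]
    rw [Category.assoc, ι_fold, Category.comp_id]
  rw [h2]
  exact h1

/-- the constant scheme is etale over the base -/
theorem etale_fold : Etale (fold T I) :=
  IsZariskiLocalAtSource.sigmaDesc (fun _ => inferInstance)

/-- the constant scheme is separated over the base -/
theorem isSeparated_fold : IsSeparated (fold T I) := by
  constructor
  refine IsClosedImmersion.of_isPreimmersion _ ?_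
  have hrange : Set.range (pullback.diagonal (fold T I)) =
      {z | idx (pullback.fst (fold T I) (fold T I) z) =
        idx (pullback.snd (fold T I) (fold T I) z)} := by
    ext z
    constructor
    · rintro ⟨x, rfl⟩
      change idx _ = idx _
      rw [← Scheme.Hom.comp_apply, ← Scheme.Hom.comp_apply, pullback.diagonal_fst,
        pullback.diagonal_snd]
    · intro hz
      have hz' : idx (pullback.fst (fold T I) (fold T I) z) =
        idx (pullback.snd (fold T I) (fold T I) z) := hz
      -- the open neighbourhood on which both projections land in the copy `i`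
      obtain ⟨i, hi⟩ : ∃ i, i = idx (pullback.fst (fold T I) (fold T I) z) := ⟨_, rfl⟩
      let V : (pullback (fold T I) (fold T I)).Opens :=
        ⟨{y | idx (pullback.fst (fold T I) (fold T I) y) = i} ∩
          {y | idx (pullback.snd (fold T I) (fold T I) y) = i},
          ((isLocallyConstant_idx.comp_continuous
            (pullback.fst (fold T I) (fold T I)).continuous).isOpen_fiber i).inter
          ((isLocallyConstant_idx.comp_continuous
            (pullback.snd (fold T I) (fold T I)).continuous).isOpen_fiber i)⟩
      have hzV : z ∈ V := ⟨hi.symm, by rw [hi, hz']; rfl⟩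
      have h1 : V.ι ≫ pullback.fst (fold T I) (fold T I) =
          ((V.ι ≫ pullback.fst (fold T I) (fold T I)) ≫ fold T I) ≫
            Sigma.ι (fun _ : I => T) i :=
        exists_factor_of_idx_const _ i (fun w => w.2.1)
      have h2 : V.ι ≫ pullback.snd (fold T I) (fold T I) =
          ((V.ι ≫ pullback.snd (fold T I) (fold T I)) ≫ fold T I) ≫
            Sigma.ι (fun _ : I => T) i :=
        exists_factor_of_idx_const _ i (fun w => w.2.2)
      have h3 : V.ι ≫ pullback.fst (fold T I) (fold T I) =
          V.ι ≫ pullback.snd (fold T I) (fold T I) := by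
        rw [h1, h2]
        simp only [Category.assoc, pullback.condition]
      have h4 : V.ι = (V.ι ≫ pullback.fst (fold T I) (fold T I)) ≫
          pullback.diagonal (fold T I) := by
        apply pullback.hom_ext
        · rw [Category.assoc, pullback.diagonal_fst, Category.comp_id]
        · rw [Category.assoc, pullback.diagonal_snd, Category.comp_id, h3]
      refine ⟨(V.ι ≫ pullback.fst (fold T I) (fold T I)) ⟨z, hzV⟩, ?_⟩
      rw [← Scheme.Hom.comp_apply, ← h4]
      rfl
  rw [hrange]
  letI : TopologicalSpace I := ⊥
  haveI : DiscreteTopology I := ⟨rfl⟩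
  exact isClosed_eq
    ((isLocallyConstant_idx.comp_continuous
      (pullback.fst (fold T I) (fold T I)).continuous).continuous)
    ((isLocallyConstant_idx.comp_continuous
      (pullback.snd (fold T I) (fold T I)).continuous).continuous)

/-- the constant scheme satisfies the existence part of the valuative criterion -/
theorem existence_fold : ValuativeCriterion.Existence (fold T I) := by
  intro S
  obtain ⟨i, hi⟩ : ∃ i, i = idx (S.i₁ (default : ↥(Spec (.of S.K)))) := ⟨_, rfl⟩
  have h1 : S.i₁ = (S.i₁ ≫ fold T I) ≫ Sigma.ι (fun _ : I => T) i := by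
    refine exists_factor_of_idx_const _ i (fun w => ?_)
    rw [hi]
    congr 2
    exact Subsingleton.elim _ _
  refine ⟨⟨⟨S.i₂ ≫ Sigma.ι (fun _ : I => T) i, ?_, ?_⟩⟩⟩
  · conv_rhs => rw [h1, S.commSq.w]
    rw [Category.assoc]
  · rw [Category.assoc, ι_fold, Category.comp_id]

end Fold

section Descent

instance isZariskiLocalAtTarget_existence :
    IsZariskiLocalAtTarget ValuativeCriterion.Existence.{u} := by
  rw [ValuativeCriterion.Existence.eq]
  apply universally_isZariskiLocalAtTarget
  intro X Y f ι U hU H
  exact IsZariskiLocalAtTarget.of_iSup_eq_top (P := topologically @SpecializingMap) U hU H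

instance respectsIso_existence : ValuativeCriterion.Existence.{u}.RespectsIso := by
  rw [ValuativeCriterion.Existence.eq]
  infer_instance

/-- the existence part of the valuative criterion satisfies fpqc descent -/
instance descendsAlong_existence :
    DescendsAlong ValuativeCriterion.Existence.{u} (@Surjective ⊓ @Flat ⊓ @QuasiCompact) := by
  refine IsZariskiLocalAtTarget.descendsAlong_inf_quasiCompact _ _ ?_ ?_
  · rw [inf_comm]
    exact inf_le_inf le_rfl (IsLocalIso.le_of_isZariskiLocalAtSource _)
  intro R S Y φ g ⟨_, _⟩ hfst
  rw [ValuativeCriterion.Existence.eq] at hfst ⊢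
  refine universally_mk' _ _ fun {T} f _ => ?_
  have hpb := isPullback_map_snd_snd (Spec.map φ) f g
  obtain ⟨r, hr⟩ : ∃ r, r = pullback.map _ _ _ _ (pullback.snd (Spec.map φ) f)
      (pullback.snd (Spec.map φ) g) (Spec.map φ) pullback.condition pullback.condition :=
    ⟨_, rfl⟩
  rw [← hr] at hpb
  have hp : SpecializingMap
      (pullback.fst (pullback.fst (Spec.map φ) f) (pullback.fst (Spec.map φ) g)) :=
    hfst _ _ _ (IsPullback.of_hasPullback _ _)
  have hq : GeneralizingMap (pullback.snd (Spec.map φ) f) := Flat.generalizingMap _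
  intro z t hzt
  change (pullback.fst f g) z ⤳ t at hzt
  obtain ⟨t', ht'⟩ := (pullback.snd (Spec.map φ) f).surjective t
  obtain ⟨t'', ht''1, ht''2⟩ := hq (a := t') (b := pullback.fst f g z) (by rw [ht']; exact hzt)
  obtain ⟨z', hz'1, hz'2⟩ := Scheme.exists_preimage_of_isPullback hpb z t'' ht''2.symm
  obtain ⟨z'₁, hz'₁1, hz'₁2⟩ := hp (a := z') (b := t') (by
    change (pullback.fst (pullback.fst (Spec.map φ) f) (pullback.fst (Spec.map φ) g)) z' ⤳ t'
    rw [hz'2]
    exact ht''1)
  refine ⟨r z'₁, ?_, ?_⟩
  · change z ⤳ r z'₁
    rw [← hz'1]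
    exact Specializes.map hz'₁1 r.continuous
  · rw [← ht', ← hz'₁2, ← Scheme.Hom.comp_apply, ← Scheme.Hom.comp_apply, hpb.w]

end Descent

section Main

variable {S : Scheme.{u}} (X : Over S)
  (hX : ∀ s : S, ∃ (S' : Scheme.{u}) (f : S' ⟶ S), Etale f ∧ s ∈ Set.range f.base ∧
    ∃ I : Type u, Nonempty ((Over.pullback f).obj X ≅ Over.mk (fold S' I)))

include hX in
/-- a property satisfying fpqc descent which holds for constant schemes holds for
quasi-isotrivial twisted constant schemes -/
theorem of_forall_fold {P : MorphismProperty Scheme.{u}}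
    [IsZariskiLocalAtTarget P] [P.DescendsAlong (@Surjective ⊓ @Flat ⊓ @QuasiCompact)]
    (h : ∀ (T : Scheme.{u}) (I : Type u), P (fold T I)) : P X.hom := by
  refine Groth.Agent.Lib.R2H3.LocDesc.of_locally_etale X.hom fun s => ?_
  obtain ⟨S', f, hf, hs, I, ⟨e⟩⟩ := hX s
  refine ⟨S', f, hf, hs, ?_⟩
  have h1 : e.hom.left ≫ fold S' I = pullback.snd X.hom f := Over.w e.hom
  rw [← h1, P.cancel_left_of_respectsIso]
  exact h S' I

include hX in
theorem isSeparated_of_locally_const : IsSeparated X.hom := by
  haveI := Groth.Agent.Lib.Helper12.descendsAlong_isSeparated.{u}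
  exact of_forall_fold X hX (P := @IsSeparated) fun T I => isSeparated_fold

include hX in
theorem etale_of_locally_const : Etale X.hom :=
  of_forall_fold X hX (P := @Etale) fun T I => etale_fold

include hX in
theorem valuativeCriterion_of_locally_const : ValuativeCriterion X.hom := by
  rw [ValuativeCriterion.iff]
  refine ⟨of_forall_fold X hX (P := ValuativeCriterion.Existence) fun T I => existence_fold, ?_⟩
  haveI := isSeparated_of_locally_const X hX
  exact IsSeparated.valuativeCriterion _

end Main

end Groth.Agent.Lib.R2H3.TwConst
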