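import Mathlib
import Groth.Agent.Lib.R2H3TwConstD

/-!
# Clopen subschemes of quasi-isotrivial twisted constant schemes, locally connected covers
(helper3, round 2)

Same as `R2H3TwConstD`, with the locally Noetherian hypothesis on the base replaced by local
connectedness of the trivialising étale covers.
-/

set_option autoImplicit false
set_option linter.style.haveILetI false
set_option linter.unusedVariables false

universe u

open CategoryTheory CategoryTheory.Limits AlgebraicGeometry

namespace Groth.Agent.Lib.R2H3.TwConst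

section

variable {S : Scheme.{u}} (P : Over S) {Z : Scheme.{u}} (z : Z ⟶ P.left)
  (hP : ∀ s : S, ∃ (S' : Scheme.{u}) (f : S' ⟶ S), Etale f ∧ s ∈ Set.range f.base ∧
    LocallyConnectedSpace S' ∧
    ∃ I : Type u, Nonempty ((Over.pullback f).obj P ≅ Over.mk (fold S' I)))
  [IsOpenImmersion z] [IsClosedImmersion z]

include hP in
/-- local constancy of finiteness of the fibres -/
theorem exists_nhd_finite_fibre_iff_of_lc (s : S) :
    ∃ V : Set S, IsOpen V ∧ s ∈ V ∧ ∀ s₁ ∈ V,
      (((z ≫ P.hom) ⁻¹' {s₁}).Finite ↔ ((z ≫ P.hom) ⁻¹' {s}).Finite) := by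
  obtain ⟨S', f, het, ⟨t, rfl⟩, hlc, I, ⟨e⟩⟩ := hP s
  obtain ⟨j, hj, hjc, hjo⟩ := exists_emb P z f I e
  haveI := hjc inferInstance
  haveI := hjo inferInstance
  haveI := hlc
  have hclopen : IsClopen (Set.range j) :=
    ⟨j.isClosedEmbedding.isClosed_range, j.isOpenEmbedding.isOpen_range⟩
  have key : ∀ t₁ : S', ((z ≫ P.hom) ⁻¹' {f t₁}).Finite ↔ (N j t₁).Finite := by
    intro t₁
    constructor
    · intro h
      have := isCompact_fibre_pullback (z ≫ P.hom) f t₁ h
      rw [← hj] at this
      exact finite_N_of_isCompact j t₁ this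
    · intro h
      have := finite_fibre_of_finite_N j j.isOpenEmbedding.injective t₁ h
      rw [hj] at this
      exact finite_fibre_of_finite_fibre_pullback (z ≫ P.hom) f t₁ this
  refine ⟨f '' connectedComponent t, f.isOpenMap _ isOpen_connectedComponent,
    ⟨t, mem_connectedComponent, rfl⟩, ?_⟩
  rintro _ ⟨t₁, ht₁, rfl⟩
  rw [key t₁, key t, N_eq_of_isPreconnected j hclopen isPreconnected_connectedComponent ht₁
    mem_connectedComponent]

include hP in
/-- the set of points with finite fibre is open and closed -/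
theorem isClopen_setOf_finite_fibre_of_lc :
    IsClopen {s : S | ((z ≫ P.hom) ⁻¹' {s}).Finite} := by
  constructor
  · rw [← isOpen_compl_iff, isOpen_iff_forall_mem_open]
    intro s hs
    obtain ⟨V, hV, hsV, h⟩ := exists_nhd_finite_fibre_iff_of_lc P z hP s
    exact ⟨V, fun s₁ hs₁ h₁ => hs ((h s₁ hs₁).mp h₁), hV, hsV⟩
  · rw [isOpen_iff_forall_mem_open]
    intro s hs
    obtain ⟨V, hV, hsV, h⟩ := exists_nhd_finite_fibre_iff_of_lc P z hP s
    exact ⟨V, fun s₁ hs₁ => (h s₁ hs₁).mpr hs, hV, hsV⟩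

include hP in
/-- if all fibres are finite, the morphism is quasi-compact -/
theorem quasiCompact_of_forall_finite_fibre_of_lc
    (hfib : ∀ s : S, ((z ≫ P.hom) ⁻¹' {s}).Finite) : QuasiCompact (z ≫ P.hom) := by
  haveI := Groth.Agent.Lib.Helper12.descendsAlong_quasiCompact.{u}
  refine Groth.Agent.Lib.R2H3.LocDesc.of_locally_etale (P := @QuasiCompact) (z ≫ P.hom)
    fun s => ?_
  obtain ⟨S', f, het, ⟨t, rfl⟩, hlc, I, ⟨e⟩⟩ := hP s
  obtain ⟨j, hj, hjc, hjo⟩ := exists_emb P z f I e
  haveI := hjc inferInstance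
  haveI := hjo inferInstance
  haveI := hlc
  have hclopen : IsClopen (Set.range j) :=
    ⟨j.isClosedEmbedding.isClosed_range, j.isOpenEmbedding.isOpen_range⟩
  let T' : S'.Opens := ⟨connectedComponent t, isOpen_connectedComponent⟩
  have hNfin : (N j t).Finite := by
    have := isCompact_fibre_pullback (z ≫ P.hom) f t (hfib (f t))
    rw [← hj] at this
    exact finite_N_of_isCompact j t this
  have hqc : QuasiCompact ((j ≫ fold S' I) ∣_ T') :=
    quasiCompact_restrict j j.isOpenEmbedding.isEmbedding T' (N j t) hNfin fun t₁ ht₁ =>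
      N_eq_of_isPreconnected j hclopen isPreconnected_connectedComponent ht₁
        mem_connectedComponent
  rw [hj] at hqc
  have hpb : IsPullback (((pullback.snd (z ≫ P.hom) f) ⁻¹ᵁ T').ι ≫ pullback.fst (z ≫ P.hom) f)
      ((pullback.snd (z ≫ P.hom) f) ∣_ T') (z ≫ P.hom) (T'.ι ≫ f) :=
    (isPullback_morphismRestrict (pullback.snd (z ≫ P.hom) f) T').flip.paste_horiz
      (IsPullback.of_hasPullback (z ≫ P.hom) f)
  refine ⟨T', T'.ι ≫ f, inferInstance, ⟨⟨t, mem_connectedComponent⟩, rfl⟩, ?_⟩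
  exact (Groth.Agent.Lib.R2H3.LocDesc.iff_of_isPullback_of_isPullback hpb
    (IsPullback.of_hasPullback (z ≫ P.hom) (T'.ι ≫ f))).mp hqc

include hP in
/-- if all fibres are finite, the morphism is finite -/
theorem isFinite_of_forall_finite_fibre_of_lc
    (hfib : ∀ s : S, ((z ≫ P.hom) ⁻¹' {s}).Finite) : IsFinite (z ≫ P.hom) := by
  haveI := quasiCompact_of_forall_finite_fibre_of_lc P z hP hfib
  haveI := Groth.Agent.Lib.Helper12.descendsAlong_isFinite.{u}
  refine Groth.Agent.Lib.R2H3.LocDesc.of_locally_etale (P := @IsFinite) (z ≫ P.hom) fun s => ?_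
  obtain ⟨S', f, het, hs, hlc, I, ⟨e⟩⟩ := hP s
  exact ⟨S', f, het, hs, isFinite_pullback_snd_of_iso_const P f I e z⟩

end

end Groth.Agent.Lib.R2H3.TwConst
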