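import Mathlib
import Groth.Agent.Lib.R2H3TwConstE
import Groth.Agent.Lib.R2H3TwConstG
import Groth.Agent.Lib.Helper3EtGUSchF
import Groth.Agent.Lib.Helper3IrrTopC

/-!
# Twisted constant schemes over an irreducible geometrically unibranch base (helper3, round 2)
-/

set_option autoImplicit false
set_option linter.style.haveILetI false
set_option linter.unusedVariables false

universe u

open CategoryTheory CategoryTheory.Limits AlgebraicGeometry

namespace Groth.Agent.Lib.R2H3.TwConst

section Base

variable {S : Scheme.{u}} [IrreducibleSpace S]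
  (hS : ∀ s : S, CAlg2.IsGeomUnibranch (S.presheaf.stalk s))

include hS in
/-- the generic fibre of an étale scheme over an irreducible geometrically unibranch base
satisfies the hypotheses of `Helper3.IrrTop.Hyp` -/
theorem hyp_of_etale {Y : Scheme.{u}} (f : Y ⟶ S) [Etale f] :
    Groth.Agent.Lib.Helper3.IrrTop.Hyp (f ⁻¹' {genericPoint S}) := by
  haveI := Groth.Agent.Lib.Helper3.IrrTop.locallyQuasiFinite_of_unramified f
  exact Groth.Agent.Lib.Helper3.IrrTop.hyp_genericFiber f (fun y =>
    Groth.Agent.Lib.Helper3.EtGUSch.nilradical_isPrime_stalk_of_etale_nhd f y (hS _)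
      ⟨⊤, trivial, inferInstance⟩)

include hS in
/-- étale schemes over an irreducible geometrically unibranch base are locally connected -/
theorem locallyConnectedSpace_of_etale {Y : Scheme.{u}} (f : Y ⟶ S) [Etale f] :
    LocallyConnectedSpace Y := by
  have h := hyp_of_etale hS f
  rw [locallyConnectedSpace_iff_connected_subsets]
  intro x U hU
  obtain ⟨ξ, hξ, hs⟩ := h.ex x
  have hcomp := h.closure_mem hξ
  have hopen := h.isOpen_component hcomp
  refine ⟨interior U ∩ closure {ξ}, ?_, ?_, ?_⟩
  · exact Filter.inter_mem (interior_mem_nhds.mpr hU)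
      (hopen.mem_nhds (specializes_iff_mem_closure.mp hs))
  · exact (isIrreducible_singleton.closure.isPreirreducible.open_subset
      (isOpen_interior.inter hopen) Set.inter_subset_right).isPreconnected
  · exact Set.inter_subset_left.trans interior_subset

variable (X : Over S)
  (hX : ∀ s : S, ∃ (S' : Scheme.{u}) (f : S' ⟶ S), Etale f ∧ s ∈ Set.range f.base ∧
    ∃ I : Type u, Nonempty ((Over.pullback f).obj X ≅ Over.mk (fold S' I)))

include hS hX in
theorem hX_lc : ∀ s : S, ∃ (S' : Scheme.{u}) (f : S' ⟶ S), Etale f ∧ s ∈ Set.range f.base ∧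
    LocallyConnectedSpace S' ∧
    ∃ I : Type u, Nonempty ((Over.pullback f).obj X ≅ Over.mk (fold S' I)) := by
  intro s
  obtain ⟨S', f, hf, hs, I, e⟩ := hX s
  haveI := hf
  exact ⟨S', f, hf, hs, locallyConnectedSpace_of_etale hS f, I, e⟩

include hS hX in
/-- part 1: each point is in the closure of exactly one point of the generic fibre -/
theorem existsUnique_generic (x : X.left) :
    ∃! l : X.left, X.hom l = genericPoint S ∧ x ∈ closure ({l} : Set X.left) := by
  haveI : Etale X.hom := etale_of_locally_const X hX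
  have h := hyp_of_etale hS X.hom
  obtain ⟨l, hl, hs⟩ := h.ex x
  refine ⟨l, ⟨hl, specializes_iff_mem_closure.mp hs⟩, ?_⟩
  rintro l' ⟨hl', hs'⟩
  exact h.uniq x l' hl' l hl (specializes_iff_mem_closure.mpr hs') hs

include hS hX in
/-- part 2: the closure of a point of the generic fibre is a clopen finite étale cover -/
theorem closure_generic (l : X.left) (hl : X.hom l = genericPoint S) :
    ∃ U : X.left.Opens, (U : Set X.left) = closure ({l} : Set X.left) ∧
      IsClosed (U : Set X.left) ∧ IsFinite (U.ι ≫ X.hom) ∧ Etale (U.ι ≫ X.hom) ∧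
      Surjective (U.ι ≫ X.hom) := by
  haveI : Etale X.hom := etale_of_locally_const X hX
  have h := hyp_of_etale hS X.hom
  have hlG : l ∈ X.hom ⁻¹' {genericPoint S} := hl
  let U : X.left.Opens := ⟨closure {l}, h.isOpen_component (h.closure_mem hlG)⟩
  have hUcl : IsClosed (U : Set X.left) := isClosed_closure
  haveI : IsClosedImmersion U.ι := isClosedImmersion_ι_of_isClosed U hUcl
  have hP' := hX_lc hS X hX
  have hcl := isClopen_setOf_finite_fibre_of_lc X U.ι hP'
  have hfibη : ((U.ι ≫ X.hom) ⁻¹' {genericPoint S}).Finite := by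
    refine Set.Finite.subset (Set.finite_singleton (⟨l, subset_closure rfl⟩ : U)) ?_
    intro u hu
    have hu' : U.ι u ∈ X.hom ⁻¹' {genericPoint S} := hu
    have hsp : l ⤳ U.ι u := specializes_iff_mem_closure.mpr u.2
    exact Subtype.ext (h.eq_of_specializes hlG hu' hsp).symm
  have huniv : {s : S | ((U.ι ≫ X.hom) ⁻¹' {s}).Finite} = Set.univ :=
    hcl.eq_univ ⟨genericPoint S, hfibη⟩
  haveI hfin : IsFinite (U.ι ≫ X.hom) := by
    refine isFinite_of_forall_finite_fibre_of_lc X U.ι hP' fun s => ?_
    have : s ∈ {s : S | ((U.ι ≫ X.hom) ⁻¹' {s}).Finite} := by rw [huniv]; trivial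
    exact this
  refine ⟨U, rfl, hUcl, hfin, inferInstance, ?_⟩
  have hrc : IsClosed (Set.range (U.ι ≫ X.hom)) := (U.ι ≫ X.hom).isClosedMap.isClosed_range
  have hmem : genericPoint S ∈ Set.range (U.ι ≫ X.hom) := ⟨⟨l, subset_closure rfl⟩, hl⟩
  have hsub : closure {genericPoint S} ⊆ Set.range (U.ι ≫ X.hom) :=
    hrc.closure_subset_iff.mpr (Set.singleton_subset_iff.mpr hmem)
  rw [(genericPoint_spec S).def] at hsub
  exact ⟨fun s => hsub (Set.mem_univ s)⟩

omit [IrreducibleSpace S] in
/-- sections of a separated unramified morphism that agree on a morphism `t` with dense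
image... here: agreeing at a generic point of an irreducible base are equal -/
theorem section_ext_of_generic [IrreducibleSpace S] {Y : Scheme.{u}} (f : Y ⟶ S) [IsSeparated f]
    [FormallyUnramified f] [LocallyOfFiniteType f] (σ₁ σ₂ : S ⟶ Y) (h₁ : σ₁ ≫ f = 𝟙 S)
    (h₂ : σ₂ ≫ f = 𝟙 S)
    (h : S.fromSpecResidueField (genericPoint S) ≫ σ₁ =
      S.fromSpecResidueField (genericPoint S) ≫ σ₂) : σ₁ = σ₂ := by
  let D := pullback.diagonal f
  let p : S ⟶ pullback f f := pullback.lift σ₁ σ₂ (h₁.trans h₂.symm)
  let e : pullback p D ⟶ S := pullback.fst p D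
  have hp₁ : p ≫ pullback.fst f f = σ₁ := pullback.lift_fst _ _ _
  have hp₂ : p ≫ pullback.snd f f = σ₂ := pullback.lift_snd _ _ _
  have hD₁ : D ≫ pullback.fst f f = 𝟙 Y := pullback.diagonal_fst f
  have hD₂ : D ≫ pullback.snd f f = 𝟙 Y := pullback.diagonal_snd f
  have he₁ : e ≫ σ₁ = pullback.snd p D := by
    have := congrArg (fun k => k ≫ pullback.fst f f) (pullback.condition (f := p) (g := D))
    simp only [Category.assoc] at this
    rw [hp₁, hD₁, Category.comp_id] at this
    exact this
  have he₂ : e ≫ σ₂ = pullback.snd p D := by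
    have := congrArg (fun k => k ≫ pullback.snd f f) (pullback.condition (f := p) (g := D))
    simp only [Category.assoc] at this
    rw [hp₂, hD₂, Category.comp_id] at this
    exact this
  let t := S.fromSpecResidueField (genericPoint S)
  let k : Spec (S.residueField (genericPoint S)) ⟶ pullback p D :=
    pullback.lift t (t ≫ σ₁) (by
      apply pullback.hom_ext
      · rw [Category.assoc, Category.assoc, Category.assoc, hp₁, hD₁, Category.comp_id]
      · rw [Category.assoc, Category.assoc, Category.assoc, hp₂, hD₂, Category.comp_id]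
        exact h.symm)
  have hk : k ≫ e = t := pullback.lift_fst _ _ _
  haveI : IsClosedImmersion e := inferInstance
  haveI : IsOpenImmersion e := inferInstance
  have hmem : genericPoint S ∈ Set.range e := by
    obtain ⟨z⟩ : Nonempty (Spec (S.residueField (genericPoint S))) := inferInstance
    refine ⟨k z, ?_⟩
    rw [← Scheme.Hom.comp_apply, hk]
    exact S.fromSpecResidueField_apply _ _
  have hrc : IsClosed (Set.range e) := e.isClosedEmbedding.isClosed_range
  have hsub : closure {genericPoint S} ⊆ Set.range e :=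
    hrc.closure_subset_iff.mpr (Set.singleton_subset_iff.mpr hmem)
  rw [(genericPoint_spec S).def] at hsub
  haveI : Surjective e := ⟨fun s => hsub (Set.mem_univ s)⟩
  haveI : IsIso e := (isIso_iff_isOpenImmersion_and_surjective e).mpr ⟨inferInstance, inferInstance⟩
  rw [← cancel_epi e, he₁, he₂]

omit [IrreducibleSpace S] in
/-- a finite étale morphism to an irreducible scheme whose generic fibre is a single rational
point is an isomorphism -/
theorem isIso_of_generic_section [IrreducibleSpace S] {U : Scheme.{u}} (g : U ⟶ S) [IsFinite g]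
    [Etale g]
    (τ' : Spec (S.residueField (genericPoint S)) ⟶ U)
    (hτ' : τ' ≫ g = S.fromSpecResidueField (genericPoint S))
    (huniq : ∀ u u' : U, g u = genericPoint S → g u' = genericPoint S → u = u') : IsIso g := by
  let t := S.fromSpecResidueField (genericPoint S)
  let s : Spec (S.residueField (genericPoint S)) ⟶ pullback g t :=
    pullback.lift τ' (𝟙 _) (by rw [hτ', Category.id_comp])
  have hs : s ≫ pullback.snd g t = 𝟙 _ := pullback.lift_snd _ _ _
  have hs₁ : s ≫ pullback.fst g t = τ' := pullback.lift_fst _ _ _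
  haveI : Mono s := mono_of_mono_fac hs
  haveI : Etale s := by
    refine MorphismProperty.of_postcomp (W := @Etale) (W' := @Etale) s (pullback.snd g t)
      inferInstance ?_
    rw [hs]; infer_instance
  haveI : IsOpenImmersion s := IsOpenImmersion.of_flat_of_mono s
  obtain ⟨z₀⟩ : Nonempty (Spec (S.residueField (genericPoint S))) := inferInstance
  have hinj : Function.Injective (pullback.fst g t) := (pullback.fst g t).injective
  haveI : Surjective s := by
    constructor
    intro w
    refine ⟨z₀, hinj ?_⟩
    apply huniq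
    · rw [← Scheme.Hom.comp_apply, ← Scheme.Hom.comp_apply, ← Category.assoc, hs₁, hτ']
      exact S.fromSpecResidueField_apply _ _
    · rw [← Scheme.Hom.comp_apply, pullback.condition, Scheme.Hom.comp_apply]
      exact S.fromSpecResidueField_apply _ _
  haveI : IsIso s := (isIso_iff_isOpenImmersion_and_surjective s).mpr ⟨inferInstance, inferInstance⟩
  haveI : IsIso (pullback.snd g t) := by
    have : IsIso (s ≫ pullback.snd g t) := by rw [hs]; infer_instance
    exact IsIso.of_isIso_comp_left s (pullback.snd g t)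
  have h1 : Scheme.Hom.finrank g (genericPoint S) = 1 := by
    have h2 := Scheme.Hom.finrank_pullback_snd g t z₀
    have h3 : t z₀ = genericPoint S := S.fromSpecResidueField_apply _ _
    rw [h3] at h2
    rw [← h2, Scheme.Hom.finrank_eq_one_of_isIso]
    rfl
  rw [Scheme.Hom.isIso_iff_finrank_eq]
  ext y
  have := (Scheme.Hom.isLocallyConstant_finrank g).apply_eq_of_preconnectedSpace y (genericPoint S)
  rw [this, h1]
  rfl

include hS hX in
/-- part 4: rational points of the generic fibre extend to sections -/
theorem exists_section_of_generic (τ : Spec (S.residueField (genericPoint S)) ⟶ X.left)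
    (hτ : τ ≫ X.hom = S.fromSpecResidueField (genericPoint S)) :
    ∃ σ : S ⟶ X.left, σ ≫ X.hom = 𝟙 S ∧ S.fromSpecResidueField (genericPoint S) ≫ σ = τ := by
  haveI : Etale X.hom := etale_of_locally_const X hX
  have h := hyp_of_etale hS X.hom
  obtain ⟨z₀⟩ : Nonempty (Spec (S.residueField (genericPoint S))) := inferInstance
  have hl : X.hom (τ z₀) = genericPoint S := by
    rw [← Scheme.Hom.comp_apply, hτ]
    exact S.fromSpecResidueField_apply _ _
  obtain ⟨U, hU, hUcl, hfin, het, hsurj⟩ := closure_generic hS X hX (τ z₀) hl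
  have hrange : Set.range τ ⊆ Set.range U.ι := by
    rintro _ ⟨z, rfl⟩
    rw [Scheme.Opens.range_ι, hU]
    have : z = z₀ := Subsingleton.elim _ _
    rw [this]; exact subset_closure rfl
  let τ' := IsOpenImmersion.lift U.ι τ hrange
  have hτ' : τ' ≫ U.ι = τ := IsOpenImmersion.lift_fac _ _ _
  haveI := hfin
  haveI := het
  have hlG : τ z₀ ∈ X.hom ⁻¹' {genericPoint S} := hl
  haveI : IsIso (U.ι ≫ X.hom) := by
    refine isIso_of_generic_section (U.ι ≫ X.hom) τ' (by rw [← Category.assoc, hτ', hτ]) ?_
    intro u u' hu hu'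
    have hu₁ : U.ι u ∈ X.hom ⁻¹' {genericPoint S} := hu
    have hu₂ : U.ι u' ∈ X.hom ⁻¹' {genericPoint S} := hu'
    have m1 : U.ι u ∈ closure ({τ z₀} : Set X.left) := by rw [← hU]; exact u.2
    have m2 : U.ι u' ∈ closure ({τ z₀} : Set X.left) := by rw [← hU]; exact u'.2
    have e1 := h.eq_of_specializes hlG hu₁ (specializes_iff_mem_closure.mpr m1)
    have e2 := h.eq_of_specializes hlG hu₂ (specializes_iff_mem_closure.mpr m2)
    exact Subtype.ext (e1.symm.trans e2)
  refine ⟨inv (U.ι ≫ X.hom) ≫ U.ι, ?_, ?_⟩
  · rw [Category.assoc, IsIso.inv_hom_id]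
  · rw [← Category.assoc, ← hτ']
    congr 1
    rw [IsIso.comp_inv_eq, ← Category.assoc, hτ', hτ]

end Base

end Groth.Agent.Lib.R2H3.TwConst
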