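import Mathlib

/-!
# Universal finite opens, ring level II (helper3)

Weak representability of the functor `A' ↦ {idempotents of C ⊗[A] A' lying in the ideal generated
by finitely many elements of C}` for a finite, finitely presented `A`-module (algebra) `C`.
-/

set_option autoImplicit false
set_option linter.style.haveILetI false
universe u

open TensorProduct

namespace Groth.Agent.Lib.R2H3.UFOpenB

variable {A : Type u} [CommRing A] (C : Type u) [CommRing C] [Algebra A C]

/-- The base change map `C ⊗ A₁ → C ⊗ A₂`. -/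
noncomputable abbrev T {A₁ A₂ : Type u} [CommRing A₁] [CommRing A₂] [Algebra A A₁] [Algebra A A₂]
    (χ : A₁ →ₐ[A] A₂) : C ⊗[A] A₁ →ₐ[A] C ⊗[A] A₂ :=
  Algebra.TensorProduct.map (AlgHom.id A C) χ

theorem T_tmul {A₁ A₂ : Type u} [CommRing A₁] [CommRing A₂] [Algebra A A₁] [Algebra A A₂]
    (χ : A₁ →ₐ[A] A₂) (c : C) (a : A₁) : T C χ (c ⊗ₜ a) = c ⊗ₜ χ a := by
  simp [T]

theorem T_comp {A₁ A₂ A₃ : Type u} [CommRing A₁] [CommRing A₂] [CommRing A₃] [Algebra A A₁]
    [Algebra A A₂] [Algebra A A₃] (χ : A₁ →ₐ[A] A₂) (χ' : A₂ →ₐ[A] A₃) (z : C ⊗[A] A₁) :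
    T C (χ'.comp χ) z = T C χ' (T C χ z) := by
  induction z using TensorProduct.induction_on with
  | zero => simp
  | tmul c a => simp
  | add x y hx hy => rw [map_add, map_add, map_add, hx, hy]

variable {C}

/-- Every element of `C ⊗ A'` is a combination of the `c k ⊗ a k` for spanning `c`. -/
theorem exists_repr {n : ℕ} (c : Fin n → C) (hc : Submodule.span A (Set.range c) = ⊤)
    {A' : Type u} [CommRing A'] [Algebra A A'] (z : C ⊗[A] A') :
    ∃ a : Fin n → A', z = ∑ k, c k ⊗ₜ[A] a k := by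
  induction z using TensorProduct.induction_on with
  | zero => exact ⟨0, by simp⟩
  | tmul x a' =>
    have hx : x ∈ Submodule.span A (Set.range c) := by rw [hc]; trivial
    obtain ⟨v, rfl⟩ := (Submodule.mem_span_range_iff_exists_fun A).mp hx
    refine ⟨fun k => v k • a', ?_⟩
    rw [TensorProduct.sum_tmul]
    refine Finset.sum_congr rfl fun k _ => ?_
    rw [TensorProduct.smul_tmul]
  | add x y hx hy =>
    obtain ⟨a, rfl⟩ := hx
    obtain ⟨b, rfl⟩ := hy
    refine ⟨a + b, ?_⟩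
    rw [← Finset.sum_add_distrib]
    refine Finset.sum_congr rfl fun k _ => ?_
    rw [Pi.add_apply, TensorProduct.tmul_add]

/-- Universal family of elements of `C ⊗ -`. -/
theorem exists_universal_elements [Module.Finite A C] (ι : Type u) [Fintype ι] :
    ∃ (A₁ : Type u) (_ : CommRing A₁) (_ : Algebra A A₁), Algebra.FinitePresentation A A₁ ∧
      ∃ u : ι → C ⊗[A] A₁, ∀ (A' : Type u) [CommRing A'] [Algebra A A'] (z : ι → C ⊗[A] A'),
        ∃ χ : A₁ →ₐ[A] A', ∀ i, T C χ (u i) = z i := by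
  classical
  obtain ⟨n, c, hc⟩ := Module.Finite.exists_fin (R := A) (M := C)
  refine ⟨MvPolynomial (ι × Fin n) A, inferInstance, inferInstance, inferInstance,
    fun i => ∑ k, c k ⊗ₜ[A] (MvPolynomial.X (i, k) : MvPolynomial (ι × Fin n) A), ?_⟩
  intro A' _ _ z
  have h : ∀ i, ∃ a : Fin n → A', z i = ∑ k, c k ⊗ₜ[A] a k := fun i => exists_repr c hc (z i)
  choose a ha using h
  refine ⟨MvPolynomial.aeval (fun ik : ι × Fin n => a ik.1 ik.2), fun i => ?_⟩
  rw [ha i, map_sum]
  refine Finset.sum_congr rfl fun k _ => ?_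
  rw [T_tmul, MvPolynomial.aeval_X]

/-- Coordinates on `(Fin n → A) ⊗ A'`. -/
noncomputable def coord (n : ℕ) (A' : Type u) [CommRing A'] [Algebra A A'] (k : Fin n) :
    (Fin n → A) ⊗[A] A' →ₗ[A] A' :=
  (TensorProduct.lid A A').toLinearMap ∘ₗ LinearMap.rTensor A' (LinearMap.proj k)

theorem coord_tmul (n : ℕ) (A' : Type u) [CommRing A'] [Algebra A A'] (k : Fin n)
    (x : Fin n → A) (a : A') : coord n A' k (x ⊗ₜ a) = x k • a := by
  simp [coord]

theorem exists_repr_pi (n : ℕ) {A' : Type u} [CommRing A'] [Algebra A A']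
    (v : (Fin n → A) ⊗[A] A') :
    ∃ a : Fin n → A', v = ∑ k, (Pi.single k (1 : A) : Fin n → A) ⊗ₜ[A] a k := by
  classical
  induction v using TensorProduct.induction_on with
  | zero => exact ⟨0, by simp⟩
  | tmul x a' =>
    refine ⟨fun k => x k • a', ?_⟩
    have hx : x = ∑ k, x k • (Pi.single k (1 : A) : Fin n → A) := by
      ext j
      simp [Finset.sum_apply, Pi.single_apply]
    conv_lhs => rw [hx]
    rw [TensorProduct.sum_tmul]
    refine Finset.sum_congr rfl fun k _ => ?_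
    rw [TensorProduct.smul_tmul]
  | add x y hx hy =>
    obtain ⟨a, rfl⟩ := hx
    obtain ⟨b, rfl⟩ := hy
    refine ⟨a + b, ?_⟩
    rw [← Finset.sum_add_distrib]
    refine Finset.sum_congr rfl fun k _ => ?_
    rw [Pi.add_apply, TensorProduct.tmul_add]

/-- Vanishing of an element of `C ⊗ A₁` is weakly representable. -/
theorem exists_kill [Module.FinitePresentation A C] {A₁ : Type u} [CommRing A₁] [Algebra A A₁]
    [Algebra.FinitePresentation A A₁] (z : C ⊗[A] A₁) :
    ∃ (A₂ : Type u) (_ : CommRing A₂) (_ : Algebra A A₂), Algebra.FinitePresentation A A₂ ∧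
      ∃ ι : A₁ →ₐ[A] A₂, T C ι z = 0 ∧
        ∀ (A' : Type u) [CommRing A'] [Algebra A A'] (χ : A₁ →ₐ[A] A'), T C χ z = 0 →
          ∃ χ' : A₂ →ₐ[A] A', χ'.comp ι = χ := by
  classical
  obtain ⟨n, q, f, g, hf, hfg⟩ := Module.FinitePresentation.exists_fin' A C
  let c : Fin n → C := fun k => f (Pi.single k 1)
  let κ : Fin q → Fin n → A := fun l => g (Pi.single l 1)
  have hc : Submodule.span A (Set.range c) = ⊤ := by
    rw [eq_top_iff]
    intro x _
    obtain ⟨v, rfl⟩ := hf x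
    have hv : v = ∑ k, v k • (Pi.single k (1 : A) : Fin n → A) := by
      ext j
      simp [Finset.sum_apply, Pi.single_apply]
    rw [hv, map_sum]
    refine Submodule.sum_mem _ fun k _ => ?_
    rw [map_smul]
    exact Submodule.smul_mem _ _ (Submodule.subset_span ⟨k, rfl⟩)
  have hκ : ∀ l, ∑ k, κ l k • c k = 0 := by
    intro l
    have h1 : f (g (Pi.single l 1)) = 0 := (hfg _).mpr ⟨_, rfl⟩
    have h2 : g (Pi.single l 1) = ∑ k, κ l k • (Pi.single k (1 : A) : Fin n → A) := by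
      ext j
      simp [κ, Finset.sum_apply, Pi.single_apply]
    rw [h2, map_sum] at h1
    simpa [c, map_smul] using h1
  -- the easy direction
  have easy : ∀ {A' : Type u} [CommRing A'] [Algebra A A'] (a : Fin n → A') (lam : Fin q → A'),
      (∀ k, a k = ∑ l, algebraMap A A' (κ l k) * lam l) → ∑ k, c k ⊗ₜ[A] a k = 0 := by
    intro A' _ _ a lam h
    have h1 : ∑ k, c k ⊗ₜ[A] a k = ∑ l, ∑ k, (κ l k • c k) ⊗ₜ[A] lam l := by
      rw [Finset.sum_comm]
      refine Finset.sum_congr rfl fun k _ => ?_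
      rw [h k, TensorProduct.tmul_sum]
      refine Finset.sum_congr rfl fun l _ => ?_
      rw [TensorProduct.smul_tmul, Algebra.smul_def]
    rw [h1]
    refine Finset.sum_eq_zero fun l _ => ?_
    rw [← TensorProduct.sum_tmul, hκ l, TensorProduct.zero_tmul]
  -- the hard direction, by right exactness
  have hard : ∀ {A' : Type u} [CommRing A'] [Algebra A A'] (a : Fin n → A'),
      ∑ k, c k ⊗ₜ[A] a k = 0 → ∃ lam : Fin q → A', ∀ k, a k = ∑ l, algebraMap A A' (κ l k) * lam l := by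
    intro A' _ _ a h
    let v : (Fin n → A) ⊗[A] A' := ∑ k, (Pi.single k (1 : A) : Fin n → A) ⊗ₜ[A] a k
    have hv : LinearMap.rTensor A' f v = 0 := by
      rw [map_sum, ← h]
      refine Finset.sum_congr rfl fun k _ => ?_
      rw [LinearMap.rTensor_tmul]
    obtain ⟨w, hw⟩ := (rTensor_exact A' hfg hf v).mp hv
    obtain ⟨lam, rfl⟩ := exists_repr_pi q w
    refine ⟨lam, fun k => ?_⟩
    have h2 := congrArg (coord n A' k) hw
    rw [map_sum, map_sum] at h2
    have h3 : coord n A' k v = a k := by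
      show coord n A' k (∑ j, (Pi.single j (1 : A) : Fin n → A) ⊗ₜ[A] a j) = a k
      rw [map_sum]
      simp [coord_tmul, Pi.single_apply]
    rw [h3] at h2
    rw [← h2]
    refine Finset.sum_congr rfl fun l _ => ?_
    rw [LinearMap.rTensor_tmul, coord_tmul, Algebra.smul_def]
  -- construction
  obtain ⟨a, ha⟩ := exists_repr c hc z
  let E : Fin n → MvPolynomial (Fin q) A₁ := fun k =>
    MvPolynomial.C (a k) - ∑ l, MvPolynomial.C (algebraMap A A₁ (κ l k)) * MvPolynomial.X l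
  let I : Ideal (MvPolynomial (Fin q) A₁) := Ideal.span (Set.range E)
  let A₂ := MvPolynomial (Fin q) A₁ ⧸ I
  let ι : A₁ →ₐ[A] A₂ := (Ideal.Quotient.mkₐ A I).comp
    (IsScalarTower.toAlgHom A A₁ (MvPolynomial (Fin q) A₁))
  have hι : ∀ x : A₁, ι x = Ideal.Quotient.mk I (MvPolynomial.C x) := fun x => rfl
  haveI : Algebra.FinitePresentation A (MvPolynomial (Fin q) A₁) :=
    Algebra.FinitePresentation.mvPolynomial_of_finitePresentation _
  refine ⟨A₂, inferInstance, inferInstance,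
    Algebra.FinitePresentation.quotient ⟨Finset.univ.image E, by simp [I]⟩, ι, ?_, ?_⟩
  · rw [ha, map_sum]
    simp only [T_tmul]
    refine easy (fun k => ι (a k)) (fun l => Ideal.Quotient.mk I (MvPolynomial.X l)) fun k => ?_
    have hE : Ideal.Quotient.mk I (E k) = 0 :=
      Ideal.Quotient.eq_zero_iff_mem.mpr (Ideal.subset_span ⟨k, rfl⟩)
    simp only [E, map_sub, map_sum, map_mul, sub_eq_zero] at hE
    rw [hι, hE]
    refine Finset.sum_congr rfl fun l _ => ?_
    congr 1
  · intro A' _ _ χ hχ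
    rw [ha, map_sum] at hχ
    simp only [T_tmul] at hχ
    obtain ⟨lam, hlam⟩ := hard (fun k => χ (a k)) hχ
    letI : Algebra A₁ A' := χ.toRingHom.toAlgebra
    haveI : IsScalarTower A A₁ A' := IsScalarTower.of_algebraMap_eq fun x => (χ.commutes x).symm
    let Ψ : MvPolynomial (Fin q) A₁ →ₐ[A] A' :=
      (MvPolynomial.aeval lam : MvPolynomial (Fin q) A₁ →ₐ[A₁] A').restrictScalars A
    have hΨC : ∀ x : A₁, Ψ (MvPolynomial.C x) = χ x := by
      intro x
      show MvPolynomial.aeval lam (MvPolynomial.C x) = χ x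
      rw [MvPolynomial.aeval_C]; rfl
    have hΨX : ∀ l, Ψ (MvPolynomial.X l) = lam l := fun l => MvPolynomial.aeval_X _ l
    have hΨI : ∀ p ∈ I, Ψ p = 0 := by
      intro p hp
      have : I ≤ RingHom.ker (Ψ : MvPolynomial (Fin q) A₁ →+* A') := by
        rw [Ideal.span_le]
        rintro _ ⟨k, rfl⟩
        show Ψ (E k) = 0
        simp only [E, map_sub, map_sum, map_mul, hΨC, hΨX]
        rw [hlam k, sub_eq_zero]
        refine Finset.sum_congr rfl fun l _ => ?_
        rw [AlgHom.commutes]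
      exact this hp
    refine ⟨Ideal.Quotient.liftₐ I Ψ hΨI, ?_⟩
    ext x
    show Ideal.Quotient.liftₐ I Ψ hΨI (ι x) = χ x
    rw [hι]
    show Ideal.Quotient.liftₐ I Ψ hΨI (Ideal.Quotient.mk I (MvPolynomial.C x)) = χ x
    rw [Ideal.Quotient.liftₐ_apply, Ideal.Quotient.lift_mk]
    exact hΨC x

/-- **Weak representability of idempotents in a given ideal.** -/
theorem exists_universal_idem [Module.Finite A C] [Module.FinitePresentation A C] (gs : Finset C) :
    ∃ (Au : Type u) (_ : CommRing Au) (_ : Algebra A Au), Algebra.FinitePresentation A Au ∧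
      ∃ eu : C ⊗[A] Au, eu * eu = eu ∧
        eu ∈ Ideal.span ((fun g : C => (g ⊗ₜ[A] (1 : Au) : C ⊗[A] Au)) '' (gs : Set C)) ∧
        ∀ (A' : Type u) [CommRing A'] [Algebra A A'] (e' : C ⊗[A] A'), e' * e' = e' →
          e' ∈ Ideal.span ((fun g : C => (g ⊗ₜ[A] (1 : A') : C ⊗[A] A')) '' (gs : Set C)) →
          ∃ χ : Au →ₐ[A] A', T C χ eu = e' := by
  classical
  obtain ⟨A₁, _, _, hfp₁, u, hu⟩ :=
    exists_universal_elements (A := A) (C := C) (Option {g // g ∈ gs})
  haveI := hfp₁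
  obtain ⟨A₂, _, _, hfp₂, ι₁, hι₁, huniv₁⟩ := exists_kill (C := C) (u none * u none - u none)
  haveI := hfp₂
  obtain ⟨A₃, _, _, hfp₃, ι₂, hι₂, huniv₂⟩ := exists_kill (C := C)
    (T C ι₁ (u none - ∑ g : {g // g ∈ gs}, (g.1 ⊗ₜ[A] (1 : A₁)) * u (some g)))
  refine ⟨A₃, inferInstance, inferInstance, hfp₃, T C ι₂ (T C ι₁ (u none)), ?_, ?_, ?_⟩
  · have : T C ι₂ (T C ι₁ (u none * u none - u none)) = 0 := by rw [hι₁, map_zero]
    rw [map_sub, map_sub, map_mul, map_mul, sub_eq_zero] at this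
    exact this
  · rw [map_sub, map_sub, sub_eq_zero] at hι₂
    rw [hι₂, map_sum, map_sum]
    refine Ideal.sum_mem _ fun g _ => ?_
    rw [map_mul, map_mul, T_tmul, T_tmul, map_one, map_one]
    exact Ideal.mul_mem_right _ _ (Ideal.subset_span ⟨g.1, g.2, rfl⟩)
  · intro A' _ _ e' he' hmem
    obtain ⟨cf, hcf⟩ := (Submodule.mem_span_image_finset_iff_exists_fun' _).mp hmem
    let z : Option {g // g ∈ gs} → C ⊗[A] A' := fun i =>
      match i with
      | none => e'
      | some g => cf g.1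
    obtain ⟨χ₁, hχ₁⟩ := hu A' z
    have hz0 : T C χ₁ (u none) = e' := hχ₁ none
    have hzs : ∀ g : {g // g ∈ gs}, T C χ₁ (u (some g)) = cf g.1 := fun g => hχ₁ (some g)
    have h1 : T C χ₁ (u none * u none - u none) = 0 := by
      rw [map_sub, map_mul, hz0, he', sub_self]
    obtain ⟨χ₂, hχ₂⟩ := huniv₁ A' χ₁ h1
    have h2 : T C χ₂ (T C ι₁ (u none - ∑ g : {g // g ∈ gs}, (g.1 ⊗ₜ[A] (1 : A₁)) * u (some g))) =
        0 := by
      rw [← T_comp, hχ₂, map_sub, map_sum, hz0, sub_eq_zero, ← hcf, ← Finset.sum_coe_sort gs]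
      refine Finset.sum_congr rfl fun g _ => ?_
      rw [map_mul, T_tmul, map_one, hzs, smul_eq_mul, mul_comm]
    obtain ⟨χ₃, hχ₃⟩ := huniv₂ A' χ₂ h2
    refine ⟨χ₃, ?_⟩
    rw [← T_comp, hχ₃, ← T_comp, hχ₂]
    exact hz0

end Groth.Agent.Lib.R2H3.UFOpenB
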