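import Mathlib
import Groth.Agent.Lib.R2H3UFOpenB
import Groth.Agent.Lib.R2H3UFOpenC

/-!
# Universal finite opens, scheme level II (helper3)

Weak representability, at the level of affine schemes, of idempotents of `T ×_Y Y'` lying in the
ideal generated by finitely many global sections of `T`, for `T → Y` finite and finitely presented.
-/

set_option autoImplicit false
set_option linter.style.haveILetI false
universe u

open CategoryTheory CategoryTheory.Limits AlgebraicGeometry TopologicalSpace TensorProduct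

namespace Groth.Agent.Lib.R2H3.UFOpenD

/-- Global sections of a fibre product of affine schemes. -/
theorem exists_tensorEquiv {T Y Y' : Scheme.{u}} [IsAffine T] [IsAffine Y] [IsAffine Y']
    (π : T ⟶ Y) (b : Y' ⟶ Y) :
    letI := π.appTop.hom.toAlgebra
    letI := b.appTop.hom.toAlgebra
    ∃ Φ : Γ(T, ⊤) ⊗[Γ(Y, ⊤)] Γ(Y', ⊤) ≃+* Γ(pullback π b, ⊤),
      ∀ (c : Γ(T, ⊤)) (a' : Γ(Y', ⊤)),
        Φ (c ⊗ₜ a') = (pullback.fst π b).appTop.hom c * (pullback.snd π b).appTop.hom a' := by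
  letI := π.appTop.hom.toAlgebra
  letI := b.appTop.hom.toAlgebra
  have H1 : IsPushout π.appTop b.appTop (pullback.fst π b).appTop (pullback.snd π b).appTop :=
    isPushout_appTop_of_isPullback (IsPullback.of_hasPullback π b)
  have H2 : IsPushout π.appTop b.appTop
      (CommRingCat.ofHom (S := Γ(T, ⊤) ⊗[Γ(Y, ⊤)] Γ(Y', ⊤))
        Algebra.TensorProduct.includeLeftRingHom)
      (CommRingCat.ofHom (S := Γ(T, ⊤) ⊗[Γ(Y, ⊤)] Γ(Y', ⊤))
        Algebra.TensorProduct.includeRight.toRingHom) :=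
    CommRingCat.isPushout_tensorProduct Γ(Y, ⊤) Γ(T, ⊤) Γ(Y', ⊤)
  let e := H2.isoIsPushout _ _ H1
  have he1 : ∀ c : Γ(T, ⊤), e.hom.hom (c ⊗ₜ 1) = (pullback.fst π b).appTop.hom c := by
    intro c
    have := H2.inl_isoIsPushout_hom _ _ H1
    exact congr($(this).hom c)
  have he2 : ∀ a' : Γ(Y', ⊤), e.hom.hom (1 ⊗ₜ a') = (pullback.snd π b).appTop.hom a' := by
    intro a'
    have := H2.inr_isoIsPushout_hom _ _ H1
    exact congr($(this).hom a')
  refine ⟨e.commRingCatIsoToRingEquiv, ?_⟩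
  intro c a'
  show e.hom.hom (c ⊗ₜ a') = _
  have : (c ⊗ₜ[Γ(Y, ⊤)] a' : Γ(T, ⊤) ⊗[Γ(Y, ⊤)] Γ(Y', ⊤)) = (c ⊗ₜ 1) * (1 ⊗ₜ a') := by
    rw [Algebra.TensorProduct.tmul_mul_tmul, mul_one, one_mul]
  rw [this, map_mul, he1, he2]

theorem isoSpec_inv_appTop (Y : Scheme.{u}) [IsAffine Y] :
    (Y.isoSpec.inv).appTop = (Scheme.ΓSpecIso Γ(Y, ⊤)).inv := by
  have h1 : Y.isoSpec.hom.appTop = (Scheme.ΓSpecIso Γ(Y, ⊤)).hom := Scheme.toSpecΓ_appTop Y
  have h2 : Y.isoSpec.hom.appTop ≫ Y.isoSpec.inv.appTop = 𝟙 _ := by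
    rw [← Scheme.Hom.comp_appTop, Iso.inv_hom_id]
    rfl
  rw [h1] at h2
  exact (Iso.inv_ext h2).symm

set_option maxHeartbeats 1600000 in
/-- **Weak representability of idempotents, scheme form.** -/
theorem exists_universal_idem_scheme {T Y : Scheme.{u}} [IsAffine T] [IsAffine Y] (π : T ⟶ Y)
    (hfin : π.appTop.hom.Finite) (hfp : π.appTop.hom.FinitePresentation) (gs : Finset Γ(T, ⊤)) :
    ∃ (Yu : Scheme.{u}) (a : Yu ⟶ Y), IsAffine Yu ∧ LocallyOfFinitePresentation a ∧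
      ∃ eu : Γ(pullback π a, ⊤), eu * eu = eu ∧
        eu ∈ Ideal.span ((pullback.fst π a).appTop.hom '' (gs : Set Γ(T, ⊤))) ∧
        ∀ (Y' : Scheme.{u}) (b : Y' ⟶ Y), IsAffine Y' → ∀ e' : Γ(pullback π b, ⊤), e' * e' = e' →
          e' ∈ Ideal.span ((pullback.fst π b).appTop.hom '' (gs : Set Γ(T, ⊤))) →
          ∃ (c : Y' ⟶ Yu) (hc : c ≫ a = b),
            (pullback.map π b π a (𝟙 T) c (𝟙 Y)
              ((Category.comp_id π).trans (Category.id_comp π).symm)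
              ((Category.comp_id b).trans hc.symm)).appTop.hom eu = e' := by
  classical
  letI algC : Algebra Γ(Y, ⊤) Γ(T, ⊤) := π.appTop.hom.toAlgebra
  haveI : Module.Finite Γ(Y, ⊤) Γ(T, ⊤) := hfin
  haveI : Algebra.FinitePresentation Γ(Y, ⊤) Γ(T, ⊤) := hfp
  haveI : Module.FinitePresentation Γ(Y, ⊤) Γ(T, ⊤) :=
    Module.FinitePresentation.of_finite_of_finitePresentation _ _
  obtain ⟨Au, _, _, hfpu, eu0, heu_idem, heu_mem, huniv⟩ :=
    UFOpenB.exists_universal_idem (A := Γ(Y, ⊤)) (C := Γ(T, ⊤)) gs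
  let α : Γ(Y, ⊤) ⟶ CommRingCat.of Au := CommRingCat.ofHom (algebraMap Γ(Y, ⊤) Au)
  let Yu : Scheme.{u} := Spec (CommRingCat.of Au)
  let a : Yu ⟶ Y := Spec.map α ≫ Y.isoSpec.inv
  have ha : a.appTop = α ≫ (Scheme.ΓSpecIso (CommRingCat.of Au)).inv := by
    show (Spec.map α ≫ Y.isoSpec.inv).appTop = _
    rw [Scheme.Hom.comp_appTop, isoSpec_inv_appTop, Scheme.ΓSpecIso_inv_naturality]
  letI algYu : Algebra Γ(Y, ⊤) Γ(Yu, ⊤) := a.appTop.hom.toAlgebra
  let σ : Au →ₐ[Γ(Y, ⊤)] Γ(Yu, ⊤) :=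
    { toRingHom := (Scheme.ΓSpecIso (CommRingCat.of Au)).inv.hom
      commutes' := fun r => by
        show (Scheme.ΓSpecIso (CommRingCat.of Au)).inv.hom (algebraMap Γ(Y, ⊤) Au r) =
          a.appTop.hom r
        rw [ha]; rfl }
  have hσ : ∀ x : Au, σ x = (Scheme.ΓSpecIso (CommRingCat.of Au)).inv.hom x := fun x => rfl
  obtain ⟨Φa, hΦa⟩ := exists_tensorEquiv π a
  refine ⟨Yu, a, inferInstance, ?_, Φa (UFOpenB.T Γ(T, ⊤) σ eu0), ?_, ?_, ?_⟩
  · -- finite presentation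
    have h1 : LocallyOfFinitePresentation (Spec.map α) := by
      rw [HasRingHomProperty.Spec_iff (P := @LocallyOfFinitePresentation)]
      exact (RingHom.finitePresentation_algebraMap (A := Γ(Y, ⊤)) (B := Au)).mpr hfpu
    infer_instance
  · rw [← map_mul, ← map_mul, heu_idem]
  · -- membership
    let Θ : Γ(T, ⊤) ⊗[Γ(Y, ⊤)] Au →+* Γ(pullback π a, ⊤) :=
      Φa.toRingHom.comp (UFOpenB.T Γ(T, ⊤) σ).toRingHom
    have hΘ : ∀ z, Θ z = Φa (UFOpenB.T Γ(T, ⊤) σ z) := fun z => rfl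
    have h1 := Ideal.mem_map_of_mem Θ heu_mem
    rw [Ideal.map_span, hΘ] at h1
    refine Ideal.span_mono ?_ h1
    rintro _ ⟨_, ⟨g, hg, rfl⟩, rfl⟩
    refine ⟨g, hg, ?_⟩
    rw [hΘ, UFOpenB.T_tmul, map_one, hΦa, map_one, mul_one]
  · intro Y' b _ e' he' hmem
    letI algY' : Algebra Γ(Y, ⊤) Γ(Y', ⊤) := b.appTop.hom.toAlgebra
    obtain ⟨Φb, hΦb⟩ := exists_tensorEquiv π b
    have hidem0 : Φb.symm e' * Φb.symm e' = Φb.symm e' := by rw [← map_mul, he']
    have hmem0 : Φb.symm e' ∈ Ideal.span ((fun g : Γ(T, ⊤) =>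
        (g ⊗ₜ[Γ(Y, ⊤)] (1 : Γ(Y', ⊤)) : Γ(T, ⊤) ⊗[Γ(Y, ⊤)] Γ(Y', ⊤))) '' (gs : Set Γ(T, ⊤))) := by
      have h1 := Ideal.mem_map_of_mem Φb.symm.toRingHom hmem
      rw [Ideal.map_span] at h1
      refine Ideal.span_mono ?_ h1
      rintro _ ⟨_, ⟨g, hg, rfl⟩, rfl⟩
      refine ⟨g, hg, ?_⟩
      show _ = Φb.symm ((pullback.fst π b).appTop.hom g)
      rw [RingEquiv.eq_symm_apply, hΦb, map_one, mul_one]
    obtain ⟨χ₀, hχ₀⟩ := huniv Γ(Y', ⊤) (Φb.symm e') hidem0 hmem0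
    let c : Y' ⟶ Yu := Y'.toSpecΓ ≫ Spec.map (CommRingCat.ofHom χ₀.toRingHom)
    have hαχ : α ≫ CommRingCat.ofHom χ₀.toRingHom = b.appTop := by
      ext r
      show χ₀ (algebraMap Γ(Y, ⊤) Au r) = b.appTop.hom r
      rw [χ₀.commutes]; rfl
    have hc : c ≫ a = b := by
      show (Y'.toSpecΓ ≫ Spec.map (CommRingCat.ofHom χ₀.toRingHom)) ≫ Spec.map α ≫ Y.isoSpec.inv = b
      rw [Category.assoc, ← Spec.map_comp_assoc, hαχ, ← Scheme.toSpecΓ_naturality_assoc,
        Scheme.toSpecΓ_isoSpec_inv, Category.comp_id]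
    have hcapp : ∀ x : Au, c.appTop.hom (σ x) = χ₀ x := by
      intro x
      have h1 : (Scheme.ΓSpecIso (CommRingCat.of Au)).inv ≫ c.appTop =
          CommRingCat.ofHom χ₀.toRingHom := by
        show _ ≫ (Y'.toSpecΓ ≫ Spec.map (CommRingCat.ofHom χ₀.toRingHom)).appTop = _
        rw [Scheme.Hom.comp_appTop, ← Category.assoc, ← Scheme.ΓSpecIso_inv_naturality,
          Category.assoc, Scheme.toSpecΓ_appTop, Iso.inv_hom_id, Category.comp_id]
      exact congr($(h1).hom x)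
    refine ⟨c, hc, ?_⟩
    set Mt := pullback.map π b π a (𝟙 T) c (𝟙 Y)
      ((Category.comp_id π).trans (Category.id_comp π).symm)
      ((Category.comp_id b).trans hc.symm) with hMt
    have hM1 : Mt ≫ pullback.fst π a = pullback.fst π b := by
      rw [hMt]; exact (pullback.lift_fst _ _ _).trans (Category.comp_id _)
    have hM2 : Mt ≫ pullback.snd π a = pullback.snd π b ≫ c := by
      rw [hMt]; exact pullback.lift_snd _ _ _
    have hM1' : ∀ y, Mt.appTop.hom ((pullback.fst π a).appTop.hom y) =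
        (pullback.fst π b).appTop.hom y := by
      intro y
      have : (pullback.fst π a).appTop ≫ Mt.appTop = (pullback.fst π b).appTop := by
        rw [← Scheme.Hom.comp_appTop, hM1]
      exact congr($(this).hom y)
    have hM2' : ∀ y, Mt.appTop.hom ((pullback.snd π a).appTop.hom y) =
        (pullback.snd π b).appTop.hom (c.appTop.hom y) := by
      intro y
      have : (pullback.snd π a).appTop ≫ Mt.appTop = c.appTop ≫ (pullback.snd π b).appTop := by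
        rw [← Scheme.Hom.comp_appTop, hM2, Scheme.Hom.comp_appTop]
      exact congr($(this).hom y)
    have key : ∀ z : Γ(T, ⊤) ⊗[Γ(Y, ⊤)] Au,
        Mt.appTop.hom (Φa (UFOpenB.T Γ(T, ⊤) σ z)) = Φb (UFOpenB.T Γ(T, ⊤) χ₀ z) := by
      intro z
      induction z using TensorProduct.induction_on with
      | zero => simp
      | tmul c' x =>
        rw [UFOpenB.T_tmul, UFOpenB.T_tmul, hΦa, hΦb, map_mul, hM1', hM2', hcapp]
      | add z₁ z₂ h₁ h₂ => rw [map_add, map_add, map_add, map_add, map_add, h₁, h₂]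
    rw [key, hχ₀, RingEquiv.apply_symm_apply]

end Groth.Agent.Lib.R2H3.UFOpenD
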