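import Mathlib
import Groth.Agent.Lib.R2H3UFOpenC
import Groth.Agent.Lib.R2H3UFOpenD

/-!
# Universal finite opens, scheme level III (helper3)

`core`: if `f : X ⟶ Y` (with `Y` affine) factors as an open immersion `j : X ⟶ T` followed by a
finite, finitely presented `π : T ⟶ Y` (with `T` affine) and the range of `j` is a finite union of
basic opens, then `f` has a universal finite open.
-/

set_option autoImplicit false
set_option linter.style.haveILetI false
universe u

open CategoryTheory CategoryTheory.Limits AlgebraicGeometry TopologicalSpace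

namespace Groth.Agent.Lib.R2H3.UFOpenE

variable {X Y T : Scheme.{u}}

/-- The base change of `j : X ⟶ T` along `b : Y' ⟶ Y`. -/
noncomputable def jb (f : X ⟶ Y) (j : X ⟶ T) (π : T ⟶ Y) (hjπ : j ≫ π = f) {Y' : Scheme.{u}}
    (b : Y' ⟶ Y) : pullback f b ⟶ pullback π b :=
  pullback.map f b π b j (𝟙 Y') (𝟙 Y) (by rw [Category.comp_id, hjπ])
    (by rw [Category.comp_id, Category.id_comp])

variable (f : X ⟶ Y) (j : X ⟶ T) (π : T ⟶ Y) (hjπ : j ≫ π = f) {Y' : Scheme.{u}} (b : Y' ⟶ Y)

instance [IsOpenImmersion j] : IsOpenImmersion (jb f j π hjπ b) := by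
  unfold jb; infer_instance

theorem jb_fst : jb f j π hjπ b ≫ pullback.fst π b = pullback.fst f b ≫ j :=
  pullback.lift_fst _ _ _

theorem jb_snd : jb f j π hjπ b ≫ pullback.snd π b = pullback.snd f b :=
  (pullback.lift_snd _ _ _).trans (Category.comp_id _)

theorem mem_range_jb_iff (z : ↥(pullback π b)) :
    z ∈ Set.range (jb f j π hjπ b) ↔ (pullback.fst π b) z ∈ Set.range j := by
  unfold jb
  rw [Scheme.Pullback.range_map]
  simp

theorem opensRange_jb [IsOpenImmersion j] (gs : Finset Γ(T, ⊤))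
    (hgs : j.opensRange = ⨆ g ∈ gs, T.basicOpen g) :
    (jb f j π hjπ b).opensRange =
      ⨆ g ∈ gs, (pullback π b).basicOpen ((pullback.fst π b).appTop.hom g) := by
  ext z
  have h1 : z ∈ (jb f j π hjπ b).opensRange ↔ (pullback.fst π b) z ∈ j.opensRange :=
    mem_range_jb_iff f j π hjπ b z
  rw [SetLike.mem_coe, SetLike.mem_coe, h1, hgs]
  simp only [Opens.mem_iSup]
  refine exists_congr fun g => exists_congr fun _ => ?_
  have := Scheme.preimage_basicOpen_top (pullback.fst π b) g
  rw [← SetLike.mem_coe, ← SetLike.mem_coe]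
  show z ∈ (pullback.fst π b ⁻¹ᵁ T.basicOpen g : Set _) ↔ _
  rw [this]

theorem map_comp_jb {Yu : Scheme.{u}} (a : Yu ⟶ Y) (c : Y' ⟶ Yu) (hc : c ≫ a = b) :
    pullback.map f b f a (𝟙 X) c (𝟙 Y) ((Category.comp_id f).trans (Category.id_comp f).symm)
        ((Category.comp_id b).trans hc.symm) ≫ jb f j π hjπ a =
      jb f j π hjπ b ≫ pullback.map π b π a (𝟙 T) c (𝟙 Y)
        ((Category.comp_id π).trans (Category.id_comp π).symm)
        ((Category.comp_id b).trans hc.symm) := by
  apply pullback.hom_ext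
  · rw [Category.assoc, jb_fst, Category.assoc, pullback.lift_fst, ← Category.assoc,
      pullback.lift_fst, ← Category.assoc, jb_fst]
    simp
  · rw [Category.assoc, jb_snd, pullback.lift_snd, Category.assoc, pullback.lift_snd,
      ← Category.assoc, jb_snd]

include hjπ in
set_option maxHeartbeats 1600000 in
/-- **Universal finite open from a finite, finitely presented compactification.** -/
theorem core [IsAffine Y] [IsAffine T] [IsOpenImmersion j] [IsFinite π] (gs : Finset Γ(T, ⊤))
    (hgs : j.opensRange = ⨆ g ∈ gs, T.basicOpen g)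
    (hfp : π.appTop.hom.FinitePresentation) :
    ∃ (Yu : Scheme.{u}) (a : Yu ⟶ Y) (Uu : (pullback f a).Opens),
      LocallyOfFinitePresentation a ∧ QuasiCompact a ∧ QuasiSeparated a ∧
      IsFinite (Uu.ι ≫ pullback.snd f a) ∧
      ∀ (Y' : Scheme.{u}) (b : Y' ⟶ Y) (U' : (pullback f b).Opens), IsAffine Y' →
        IsFinite (U'.ι ≫ pullback.snd f b) →
        ∃ (c : Y' ⟶ Yu) (hc : c ≫ a = b),
          (pullback.map f b f a (𝟙 X) c (𝟙 Y)
            ((Category.comp_id f).trans (Category.id_comp f).symm)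
            ((Category.comp_id b).trans hc.symm)) ⁻¹ᵁ Uu = U' := by
  classical
  have hfin : π.appTop.hom.Finite := π.finite_app ⊤ (isAffineOpen_top Y)
  obtain ⟨Yu, a, hYu, hfpa, eu, heu, heumem, huniv⟩ :=
    UFOpenD.exists_universal_idem_scheme π hfin hfp gs
  haveI := hYu
  haveI := hfpa
  have hrange_u := opensRange_jb f j π hjπ a gs hgs
  have hle : (pullback π a).basicOpen eu ≤ (jb f j π hjπ a).opensRange := by
    rw [hrange_u]
    have := UFOpenC.basicOpen_le_of_mem_span eu (gs.image (pullback.fst π a).appTop.hom)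
      (by rwa [Finset.coe_image])
    rwa [Finset.iSup_finset_image] at this
  have hfinU : IsFinite (((jb f j π hjπ a) ⁻¹ᵁ (pullback π a).basicOpen eu).ι ≫
      pullback.snd f a) := by
    have e1 : ((jb f j π hjπ a) ⁻¹ᵁ (pullback π a).basicOpen eu).ι ≫ pullback.snd f a =
        (((jb f j π hjπ a) ⁻¹ᵁ (pullback π a).basicOpen eu).ι ≫ jb f j π hjπ a) ≫
          pullback.snd π a := by
      rw [Category.assoc, jb_snd]
    rw [e1]
    have hrange : Set.range (((jb f j π hjπ a) ⁻¹ᵁ (pullback π a).basicOpen eu).ι ≫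
        jb f j π hjπ a) = ((pullback π a).basicOpen eu : Set _) := by
      rw [Scheme.Hom.comp_base, TopCat.coe_comp, Set.range_comp, Scheme.Opens.range_ι]
      show (jb f j π hjπ a) '' ((jb f j π hjπ a) ⁻¹' ((pullback π a).basicOpen eu : Set _)) = _
      rw [Set.image_preimage_eq_inter_range]
      exact Set.inter_eq_left.mpr hle
    haveI : IsClosedImmersion (((jb f j π hjπ a) ⁻¹ᵁ (pullback π a).basicOpen eu).ι ≫
        jb f j π hjπ a) :=
      IsClosedImmersion.of_isPreimmersion _
        (by rw [hrange]; exact UFOpenC.isClosed_basicOpen_of_idem eu heu)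
    infer_instance
  refine ⟨Yu, a, (jb f j π hjπ a) ⁻¹ᵁ (pullback π a).basicOpen eu, hfpa, inferInstance,
    inferInstance, hfinU, ?_⟩
  intro Y' b U' hY' hfinU'
  haveI := hY'
  have e2 : (U'.ι ≫ jb f j π hjπ b) ≫ pullback.snd π b = U'.ι ≫ pullback.snd f b := by
    rw [Category.assoc, jb_snd]
  haveI : IsFinite ((U'.ι ≫ jb f j π hjπ b) ≫ pullback.snd π b) := by rw [e2]; exact hfinU'
  haveI : IsFinite (U'.ι ≫ jb f j π hjπ b) := IsFinite.of_comp _ (pullback.snd π b)
  have hclosed : IsClosed (Set.range (U'.ι ≫ jb f j π hjπ b)) :=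
    (U'.ι ≫ jb f j π hjπ b).isClosedMap.isClosed_range
  obtain ⟨e', he', hDe'⟩ := UFOpenC.exists_idem_of_isClopen (S := pullback π b)
    (U'.ι ≫ jb f j π hjπ b).opensRange hclosed
  have hle' : (pullback π b).basicOpen e' ≤ (jb f j π hjπ b).opensRange := by
    rw [hDe']
    rintro _ ⟨x, rfl⟩
    exact ⟨U'.ι x, by rw [Scheme.Hom.comp_apply]⟩
  have hmem' : e' ∈ Ideal.span ((pullback.fst π b).appTop.hom '' (gs : Set Γ(T, ⊤))) := by
    have := UFOpenC.mem_span_of_basicOpen_le e' he' (gs.image (pullback.fst π b).appTop.hom)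
      (by rw [Finset.iSup_finset_image, ← opensRange_jb f j π hjπ b gs hgs]; exact hle')
    rwa [Finset.coe_image] at this
  obtain ⟨c, hc, hce⟩ := huniv Y' b hY' e' he' hmem'
  refine ⟨c, hc, ?_⟩
  rw [← Scheme.Hom.comp_preimage, map_comp_jb f j π hjπ b a c hc, Scheme.Hom.comp_preimage,
    Scheme.preimage_basicOpen_top]
  have hce' : (pullback.map π b π a (𝟙 T) c (𝟙 Y)
      ((Category.comp_id π).trans (Category.id_comp π).symm)
      ((Category.comp_id b).trans hc.symm)).appTop eu = e' := hce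
  rw [hce', hDe']
  ext x
  constructor
  · rintro ⟨y, hy⟩
    rw [Scheme.Hom.comp_apply] at hy
    have := (jb f j π hjπ b).isOpenEmbedding.injective hy
    rw [← this]
    have h1 : U'.ι y ∈ Set.range U'.ι := ⟨y, rfl⟩
    rw [Scheme.Opens.range_ι] at h1
    exact h1
  · intro hx
    have h1 : x ∈ Set.range U'.ι := by rw [Scheme.Opens.range_ι]; exact hx
    obtain ⟨y, rfl⟩ := h1
    exact ⟨y, by rw [Scheme.Hom.comp_apply]⟩

end Groth.Agent.Lib.R2H3.UFOpenE
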