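import Mathlib
import Groth.Agent.Lib.R2H3UFOpenA
import Groth.Agent.Lib.R2H3UFOpenE

/-!
# Universal finite opens with affine base (helper3)

`core'` and `exists_universal_finite_open_affine`: the universal finite open `(Yu, a, Uu)` of a
quasi-finite finitely presented morphism of affine schemes (`S1445`) can be taken with `Yu` affine.
(Same proofs as `UFOpenE.core` and `S1445.result`, recording the affineness of `Yu`.)
-/

set_option autoImplicit false
set_option linter.style.haveILetI false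
universe u

open CategoryTheory CategoryTheory.Limits AlgebraicGeometry TopologicalSpace

namespace Groth.Agent.Lib.R2H3.UFOpenF

open Groth.Agent.Lib.R2H3 Groth.Agent.Lib.R2H3.UFOpenE

variable {X Y T : Scheme.{u}}

variable (f : X ⟶ Y) (j : X ⟶ T) (π : T ⟶ Y) (hjπ : j ≫ π = f) {Y' : Scheme.{u}} (b : Y' ⟶ Y)

include hjπ in
theorem core' [IsAffine Y] [IsAffine T] [IsOpenImmersion j] [IsFinite π] (gs : Finset Γ(T, ⊤))
    (hgs : j.opensRange = ⨆ g ∈ gs, T.basicOpen g)
    (hfp : π.appTop.hom.FinitePresentation) :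
    ∃ (Yu : Scheme.{u}) (a : Yu ⟶ Y) (Uu : (pullback f a).Opens),
      IsAffine Yu ∧ LocallyOfFinitePresentation a ∧ QuasiCompact a ∧ QuasiSeparated a ∧
      IsFinite (Uu.ι ≫ pullback.snd f a) ∧
      ∀ (Y' : Scheme.{u}) (b : Y' ⟶ Y) (U' : (pullback f b).Opens), IsAffine Y' →
        IsFinite (U'.ι ≫ pullback.snd f b) →
        ∃ (c : Y' ⟶ Yu) (hc : c ≫ a = b),
          (pullback.map f b f a (𝟙 X) c (𝟙 Y)
            ((Category.comp_id f).trans (Category.id_comp f).symm)
            ((Category.comp_id b).trans hc.symm)) ⁻¹ᵁ Uu = U' := by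
  classical
  have hfin : π.appTop.hom.Finite := π.finite_app ⊤ (isAffineOpen_top Y)
  obtain ⟨Yu, a, hYu, hfpa, eu, heu, heumem, huniv⟩ :=
    UFOpenD.exists_universal_idem_scheme π hfin hfp gs
  haveI := hYu
  haveI := hfpa
  have hrange_u := opensRange_jb f j π hjπ a gs hgs
  have hle : (pullback π a).basicOpen eu ≤ (jb f j π hjπ a).opensRange := by
    rw [hrange_u]
    have := UFOpenC.basicOpen_le_of_mem_span eu (gs.image (pullback.fst π a).appTop.hom)
      (by rwa [Finset.coe_image])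
    rwa [Finset.iSup_finset_image] at this
  have hfinU : IsFinite (((jb f j π hjπ a) ⁻¹ᵁ (pullback π a).basicOpen eu).ι ≫
      pullback.snd f a) := by
    have e1 : ((jb f j π hjπ a) ⁻¹ᵁ (pullback π a).basicOpen eu).ι ≫ pullback.snd f a =
        (((jb f j π hjπ a) ⁻¹ᵁ (pullback π a).basicOpen eu).ι ≫ jb f j π hjπ a) ≫
          pullback.snd π a := by
      rw [Category.assoc, jb_snd]
    rw [e1]
    have hrange : Set.range (((jb f j π hjπ a) ⁻¹ᵁ (pullback π a).basicOpen eu).ι ≫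
        jb f j π hjπ a) = ((pullback π a).basicOpen eu : Set _) := by
      rw [Scheme.Hom.comp_base, TopCat.coe_comp, Set.range_comp, Scheme.Opens.range_ι]
      show (jb f j π hjπ a) '' ((jb f j π hjπ a) ⁻¹' ((pullback π a).basicOpen eu : Set _)) = _
      rw [Set.image_preimage_eq_inter_range]
      exact Set.inter_eq_left.mpr hle
    haveI : IsClosedImmersion (((jb f j π hjπ a) ⁻¹ᵁ (pullback π a).basicOpen eu).ι ≫
        jb f j π hjπ a) :=
      IsClosedImmersion.of_isPreimmersion _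
        (by rw [hrange]; exact UFOpenC.isClosed_basicOpen_of_idem eu heu)
    infer_instance
  refine ⟨Yu, a, (jb f j π hjπ a) ⁻¹ᵁ (pullback π a).basicOpen eu, hYu, hfpa, inferInstance,
    inferInstance, hfinU, ?_⟩
  intro Y' b U' hY' hfinU'
  haveI := hY'
  have e2 : (U'.ι ≫ jb f j π hjπ b) ≫ pullback.snd π b = U'.ι ≫ pullback.snd f b := by
    rw [Category.assoc, jb_snd]
  haveI : IsFinite ((U'.ι ≫ jb f j π hjπ b) ≫ pullback.snd π b) := by rw [e2]; exact hfinU'
  haveI : IsFinite (U'.ι ≫ jb f j π hjπ b) := IsFinite.of_comp _ (pullback.snd π b)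
  have hclosed : IsClosed (Set.range (U'.ι ≫ jb f j π hjπ b)) :=
    (U'.ι ≫ jb f j π hjπ b).isClosedMap.isClosed_range
  obtain ⟨e', he', hDe'⟩ := UFOpenC.exists_idem_of_isClopen (S := pullback π b)
    (U'.ι ≫ jb f j π hjπ b).opensRange hclosed
  have hle' : (pullback π b).basicOpen e' ≤ (jb f j π hjπ b).opensRange := by
    rw [hDe']
    rintro _ ⟨x, rfl⟩
    exact ⟨U'.ι x, by rw [Scheme.Hom.comp_apply]⟩
  have hmem' : e' ∈ Ideal.span ((pullback.fst π b).appTop.hom '' (gs : Set Γ(T, ⊤))) := by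
    have := UFOpenC.mem_span_of_basicOpen_le e' he' (gs.image (pullback.fst π b).appTop.hom)
      (by rw [Finset.iSup_finset_image, ← opensRange_jb f j π hjπ b gs hgs]; exact hle')
    rwa [Finset.coe_image] at this
  obtain ⟨c, hc, hce⟩ := huniv Y' b hY' e' he' hmem'
  refine ⟨c, hc, ?_⟩
  rw [← Scheme.Hom.comp_preimage, map_comp_jb f j π hjπ b a c hc, Scheme.Hom.comp_preimage,
    Scheme.preimage_basicOpen_top]
  have hce' : (pullback.map π b π a (𝟙 T) c (𝟙 Y)
      ((Category.comp_id π).trans (Category.id_comp π).symm)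
      ((Category.comp_id b).trans hc.symm)).appTop eu = e' := hce
  rw [hce', hDe']
  ext x
  constructor
  · rintro ⟨y, hy⟩
    rw [Scheme.Hom.comp_apply] at hy
    have := (jb f j π hjπ b).isOpenEmbedding.injective hy
    rw [← this]
    have h1 : U'.ι y ∈ Set.range U'.ι := ⟨y, rfl⟩
    rw [Scheme.Opens.range_ι] at h1
    exact h1
  · intro hx
    have h1 : x ∈ Set.range U'.ι := by rw [Scheme.Opens.range_ι]; exact hx
    obtain ⟨y, rfl⟩ := h1
    exact ⟨y, by rw [Scheme.Hom.comp_apply]⟩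

end Groth.Agent.Lib.R2H3.UFOpenF

namespace Groth.Agent.Lib.R2H3.UFOpenF

open CategoryTheory.Limits Groth.Agent.Lib.R2H3.UFOpenE

theorem exists_universal_finite_open_affine {X Y : Scheme.{u}} (f : X ⟶ Y) [IsAffine X]
    [IsAffine Y] [LocallyQuasiFinite f] [LocallyOfFinitePresentation f] :
    ∃ (Yu : Scheme.{u}) (a : Yu ⟶ Y) (Uu : (pullback f a).Opens), IsAffine Yu ∧
      LocallyOfFinitePresentation a ∧ QuasiCompact a ∧ QuasiSeparated a ∧
      IsFinite (Uu.ι ≫ pullback.snd f a) ∧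
      ∀ (Y' : Scheme.{u}) (b : Y' ⟶ Y) (U' : (pullback f b).Opens), IsAffine Y' → IsFinite (U'.ι ≫ pullback.snd f b) →
        ∃ (c : Y' ⟶ Yu) (hc : c ≫ a = b),
          (pullback.map f b f a (𝟙 X) c (𝟙 Y) ((Category.comp_id f).trans (Category.id_comp f).symm) ((Category.comp_id b).trans hc.symm)) ⁻¹ᵁ Uu = U' := by
  classical
  letI algB : Algebra Γ(Y, ⊤) Γ(X, ⊤) := f.appTop.hom.toAlgebra
  haveI : Algebra.FinitePresentation Γ(Y, ⊤) Γ(X, ⊤) :=
    (HasRingHomProperty.iff_of_isAffine (P := @LocallyOfFinitePresentation)).mp ‹_›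
  haveI : Algebra.QuasiFinite Γ(Y, ⊤) Γ(X, ⊤) :=
    (HasRingHomProperty.iff_of_isAffine (P := @LocallyQuasiFinite)).mp ‹_›
  obtain ⟨C, _, _, hfinC, hfpC, φ, s, hspan, hgood⟩ :=
    Groth.Agent.Lib.R2H3.UFOpenA.exists_finite_model (A := Γ(Y, ⊤)) (B := Γ(X, ⊤))
  let αC : Γ(Y, ⊤) ⟶ CommRingCat.of C := CommRingCat.ofHom (algebraMap Γ(Y, ⊤) C)
  let φC : CommRingCat.of C ⟶ Γ(X, ⊤) := CommRingCat.ofHom (φ : C →+* Γ(X, ⊤))
  let T : Scheme.{u} := Spec (CommRingCat.of C)
  let π : T ⟶ Y := Spec.map αC ≫ Y.isoSpec.inv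
  let j : X ⟶ T := X.isoSpec.hom ≫ Spec.map φC
  have hαφ : αC ≫ φC = f.appTop := by
    ext r
    show φ (algebraMap Γ(Y, ⊤) C r) = f.appTop.hom r
    rw [φ.commutes]; rfl
  have hjπ : j ≫ π = f := by
    show (X.isoSpec.hom ≫ Spec.map φC) ≫ Spec.map αC ≫ Y.isoSpec.inv = f
    rw [Category.assoc, ← Spec.map_comp_assoc, hαφ, ← Category.assoc,
      Scheme.isoSpec_hom_naturality, Category.assoc, Iso.hom_inv_id, Category.comp_id]
  haveI : IsOpenImmersion (Spec.map φC) :=
    Groth.Agent.Lib.R2H3.UFOpenC.isOpenImmersion_SpecMap_of_awayMap (φ : C →+* Γ(X, ⊤)) s hspan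
      hgood
  haveI : IsOpenImmersion j := inferInstance
  haveI : IsFinite (Spec.map αC) :=
    (IsFinite.SpecMap_iff (f := αC)).mpr (RingHom.finite_algebraMap.mpr hfinC)
  haveI : IsFinite π := inferInstance
  let gs : Finset Γ(T, ⊤) := s.image (Scheme.ΓSpecIso (CommRingCat.of C)).inv.hom
  have hgs : j.opensRange = ⨆ g ∈ gs, T.basicOpen g := by
    ext y
    have hsurj : Function.Surjective X.isoSpec.hom := X.isoSpec.hom.homeomorph.surjective
    have h1 : y ∈ j.opensRange ↔ y ∈ Set.range (Spec.map φC) := by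
      show y ∈ Set.range (X.isoSpec.hom ≫ Spec.map φC) ↔ _
      rw [Scheme.Hom.comp_base, TopCat.coe_comp, Set.range_comp]
      have : Set.range (X.isoSpec.hom) = Set.univ := Set.range_eq_univ.mpr hsurj
      erw [this, Set.image_univ]
    have h2 : Set.range (Spec.map φC) = ⋃ g ∈ s,
        (PrimeSpectrum.basicOpen g : Set (PrimeSpectrum C)) :=
      Groth.Agent.Lib.R2H3.UFOpenC.range_SpecMap_of_awayMap (φ : C →+* Γ(X, ⊤)) s hspan hgood
    have h3 : y ∈ Set.range (Spec.map φC) ↔ ∃ g ∈ s, y ∈ (PrimeSpectrum.basicOpen g :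
        Set (PrimeSpectrum C)) := by
      rw [h2]
      exact Set.mem_iUnion₂.trans (by simp only [exists_prop]; rfl)
    rw [SetLike.mem_coe, SetLike.mem_coe, h1, h3]
    simp only [TopologicalSpace.Opens.mem_iSup, gs, Finset.mem_image, exists_prop]
    constructor
    · rintro ⟨g, hg, hy⟩
      refine ⟨_, ⟨g, hg, rfl⟩, ?_⟩
      have := basicOpen_eq_of_affine (R := CommRingCat.of C) g
      rw [this]
      exact hy
    · rintro ⟨_, ⟨g, hg, rfl⟩, hy⟩
      refine ⟨g, hg, ?_⟩
      have := basicOpen_eq_of_affine (R := CommRingCat.of C) g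
      rw [this] at hy
      exact hy
  have hfp : π.appTop.hom.FinitePresentation := by
    have h1 : π.appTop = αC ≫ (Scheme.ΓSpecIso (CommRingCat.of C)).inv := by
      show (Spec.map αC ≫ Y.isoSpec.inv).appTop = _
      rw [Scheme.Hom.comp_appTop, Groth.Agent.Lib.R2H3.UFOpenD.isoSpec_inv_appTop,
        Scheme.ΓSpecIso_inv_naturality]
    rw [h1]
    have h2 : (algebraMap Γ(Y, ⊤) C).FinitePresentation :=
      RingHom.finitePresentation_algebraMap.mpr hfpC
    exact RingHom.finitePresentation_respectsIso.1 _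
      (Scheme.ΓSpecIso (CommRingCat.of C)).symm.commRingCatIsoToRingEquiv h2
  exact core' f j π hjπ gs hgs hfp

end Groth.Agent.Lib.R2H3.UFOpenF
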