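import Groth.Agent.Lib.R2H3HomLiftLocal
import Groth.Agent.Lib.R2H3FpqcLocal

/-!
# The unit locus of a homomorphism from a diagonalisable group: local model (helper3, round 2)

Let `W = Spec R`, `u : D_W(M) ⟶ G` a homomorphism of `W`-groups, and suppose that the condition
`u(y) = 1` on points `y` of `D_W(M)` is given by a finitely generated ideal `I` of `R[M]`.  Then
there is an idempotent `e` of `R` such that `u` is trivial over `T ⟶ W` if and only if `e`
vanishes on `T` (`exists_idem`): the "coefficient ideal" of `I` is finitely generated, and equal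
to its square by the rigidity of homomorphisms of groups of multiplicative type.
-/

set_option autoImplicit false
set_option linter.style.haveILetI false
set_option linter.unusedVariables false
set_option linter.unusedSectionVars false

universe u

open CategoryTheory MonoidalCategory CartesianMonoidalCategory MonObj GrpObj AlgebraicGeometry
  CategoryTheory.Limits
open Groth.Agent.Lib.Helper27.GaGm Groth.Agent.Lib.H6xDSPts Groth.Agent.Lib.R2H3.MultAct
  Groth.Agent.Lib.R2H3.MultHom Groth.Agent.Lib.R2H3.HomLift Groth.Agent.Lib.R2H3.FpqcLocal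

namespace Groth.Agent.Lib.R2H3.UnitLocus

section Alg

variable {R : Type u} [CommRing R] {G : Type} [CommGroup G] (I : Ideal (MonoidAlgebra R G))

/-- the ideal generated by the coefficients of the elements of `I`. -/
def coeffIdeal : Ideal R := Ideal.span {c | ∃ i ∈ I, ∃ g : G, c = i.coeff g}

lemma coeff_mem {i : MonoidAlgebra R G} (hi : i ∈ I) (g : G) : i.coeff g ∈ coeffIdeal I :=
  Ideal.subset_span ⟨i, hi, g, rfl⟩

lemma single_mem_map (J : Ideal R) (g : G) {c : R} (hc : c ∈ J) :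
    (MonoidAlgebra.single g c : MonoidAlgebra R G) ∈
      J.map (algebraMap R (MonoidAlgebra R G)) := by
  have h : (MonoidAlgebra.single g c : MonoidAlgebra R G) =
      algebraMap R (MonoidAlgebra R G) c * MonoidAlgebra.single g 1 := by
    rw [algebraMap_eq_single, MonoidAlgebra.single_mul_single, _root_.one_mul, _root_.mul_one]
  rw [h]
  exact Ideal.mul_mem_right _ _ (Ideal.mem_map_of_mem _ hc)

lemma coeffIdeal_fg (hI : I.FG) : (coeffIdeal I).FG := by
  classical
  obtain ⟨s, hs⟩ := hI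
  obtain ⟨C, hC⟩ : ∃ C : Finset R,
      C = s.biUnion (fun θ => θ.coeff.support.image (fun g => θ.coeff g)) := ⟨_, rfl⟩
  refine ⟨C, le_antisymm ?_ ?_⟩
  · apply Ideal.span_le.mpr
    intro c hc
    rw [hC] at hc
    simp only [Finset.coe_biUnion, Finset.coe_image, Set.mem_iUnion, Set.mem_image,
      Finset.mem_coe] at hc
    obtain ⟨θ, hθ, g, -, rfl⟩ := hc
    exact coeff_mem I (hs ▸ Ideal.subset_span hθ) g
  · apply Ideal.span_le.mpr
    rintro c ⟨i, hi, g, rfl⟩
    apply coeff_mem_of_mem_map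
    have hle : I ≤ (Ideal.span (C : Set R)).map (algebraMap R (MonoidAlgebra R G)) := by
      rw [← hs]
      apply Ideal.span_le.mpr
      intro θ hθ
      rw [← MonoidAlgebra.sum_coeff_single θ]
      apply Ideal.sum_mem
      intro g hg
      apply single_mem_map
      apply Ideal.subset_span
      rw [hC]
      simp only [Finset.coe_biUnion, Finset.coe_image, Set.mem_iUnion, Set.mem_image,
        Finset.mem_coe]
      exact ⟨θ, hθ, g, hg, rfl⟩
    exact hle hi

lemma liftHom_eq_zero_of_kills {B : Type u} [CommRing B] (β : R →+* B) (χ : G →* B)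
    (h : ∀ c ∈ coeffIdeal I, β c = 0) {i : MonoidAlgebra R G} (hi : i ∈ I) :
    liftHom β χ i = 0 := by
  rw [liftHom_eq_sum]
  apply Finset.sum_eq_zero
  intro g _
  beta_reduce
  rw [h _ (coeff_mem I hi g), zero_mul]

lemma kills_of_map_eq_zero {B : Type u} [CommRing B] (β : R →+* B)
    (h : ∀ i ∈ I, MonoidAlgebra.mapRingHom G β i = 0) : ∀ c ∈ coeffIdeal I, β c = 0 := by
  intro c hc
  refine Submodule.span_induction (p := fun c _ => β c = 0) ?_ ?_ ?_ ?_ hc
  · rintro _ ⟨i, hi, g, rfl⟩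
    rw [← coeff_mapRingHom, h i hi]
    rfl
  · exact map_zero β
  · intro x y _ _ hx hy
    rw [map_add, hx, hy, add_zero]
  · intro a x _ hx
    rw [smul_eq_mul, map_mul, hx, mul_zero]

end Alg

section Geo

variable {R : Type u} [CommRing R] {M : Type} [AddCommGroup M]
  {Gw : Over (Spec (CommRingCat.of R))} [GrpObj Gw]
  (u : Red.DS (Spec (CommRingCat.of R)) M ⟶ Gw) [IsMonHom u]
  (I : Ideal (MonoidAlgebra R (Multiplicative M)))
  (hI : ∀ (Y : Over (Spec (CommRingCat.of R))) (y : Y ⟶ Red.DS (Spec (CommRingCat.of R)) M),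
    y ≫ u = 1 ↔ ∀ i ∈ I, liftHom (fnHom Y.hom) (chiOf y) i = 0)

/-- `u` is trivial on the points lying over `a : T ⟶ W`. -/
def Triv (T : Scheme.{u}) (a : T ⟶ Spec (CommRingCat.of R)) : Prop :=
  ∀ (Y : Over (Spec (CommRingCat.of R))) (b : Y.left ⟶ T), b ≫ a = Y.hom →
    ∀ y : Y ⟶ Red.DS (Spec (CommRingCat.of R)) M, y ≫ u = 1

include hI in
lemma triv_of_kills (T : Scheme.{u}) (a : T ⟶ Spec (CommRingCat.of R))
    (h : ∀ c ∈ coeffIdeal I, fn a c = 0) : Triv u T a := by
  intro Y b hb y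
  rw [hI]
  intro i hi
  apply liftHom_eq_zero_of_kills I (fnHom Y.hom) _ ?_ hi
  intro c hc
  rw [← fn_eq, ← hb, fn_comp, h c hc, map_zero]

include hI in
lemma kills_of_triv {B : Type u} [CommRing B] (β : R →+* B)
    (h : Triv u (Spec (CommRingCat.of B)) (Spec.map (CommRingCat.ofHom β))) :
    ∀ c ∈ coeffIdeal I, β c = 0 := by
  apply kills_of_map_eq_zero
  intro i hi
  obtain ⟨gam, hgam⟩ : ∃ gam : R →+* MonoidAlgebra B (Multiplicative M),
      gam = (algebraMap B (MonoidAlgebra B (Multiplicative M))).comp β := ⟨_, rfl⟩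
  have hb : Spec.map (CommRingCat.ofHom (algebraMap B (MonoidAlgebra B (Multiplicative M)))) ≫
      Spec.map (CommRingCat.ofHom β) = (Over.mk (Spec.map (CommRingCat.ofHom gam))).hom := by
    rw [hgam]
    exact (specMap_comp_eq _ _).symm
  have h1 := h (Over.mk (Spec.map (CommRingCat.ofHom gam))) _ hb
    (hq (Spec.map (CommRingCat.ofHom gam)) (MonoidAlgebra.of B (Multiplicative M)))
  rw [hI] at h1
  have h2 := h1 i hi
  -- transport to `B[M]`
  obtain ⟨ε, hε⟩ : ∃ ε : Γ((Over.mk (Spec.map (CommRingCat.ofHom gam))).left, ⊤) →+*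
      MonoidAlgebra B (Multiplicative M),
      ε = (Scheme.ΓSpecIso (CommRingCat.of (MonoidAlgebra B (Multiplicative M)))).hom.hom :=
    ⟨_, rfl⟩
  have h3 := congrArg ε h2
  rw [map_zero, ← liftHom_nat] at h3
  have e1 : ε.comp (fnHom (Over.mk (Spec.map (CommRingCat.ofHom gam))).hom) = gam := by
    apply RingHom.ext
    intro a
    rw [RingHom.comp_apply, ← fn_eq, hε]
    change (Scheme.ΓSpecIso (CommRingCat.of _)).hom.hom (fn (Spec.map (CommRingCat.ofHom gam)) a) = _
    erw [fn_eq_ringOf, ringOf_specMap]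
    exact congrArg (fun k => k.hom (gam a)) (Scheme.ΓSpecIso (CommRingCat.of _)).inv_hom_id
  have e2 : (ε : _ →* MonoidAlgebra B (Multiplicative M)).comp
      (chiOf (hq (Spec.map (CommRingCat.ofHom gam)) (MonoidAlgebra.of B (Multiplicative M)))) =
      charOf (hq (Spec.map (CommRingCat.ofHom gam)) (MonoidAlgebra.of B (Multiplicative M))) := by
    apply MonoidHom.ext
    intro m
    rw [hε]
    rfl
  rw [charOf_hq] at e2
  rw [e1, e2, hgam, liftHom_comp_map, liftHom_algebraMap_of] at h3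
  exact h3

/-- left translation through a homomorphism. -/
noncomputable def transVia {W : Scheme.{u}} {D Gw : Over W} [GrpObj D] [GrpObj Gw] (u : D ⟶ Gw)
    [IsMonHom u] : PtAction D Gw where
  smul y g := (y ≫ u) * g
  one_smul x := by rw [MonObj.one_comp, _root_.one_mul]
  mul_smul g h x := by rw [MonObj.mul_comp, _root_.mul_assoc]
  comp_smul k g x := by rw [MonObj.comp_mul, Category.assoc]

lemma transVia_smul {W : Scheme.{u}} {D Gw : Over W} [GrpObj D] [GrpObj Gw] (u : D ⟶ Gw)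
    [IsMonHom u] {Y : Over W} (y : Y ⟶ D) (g : Y ⟶ Gw) :
    (transVia u).smul y g = (y ≫ u) * g := rfl

open scoped Obj in
/-- **Rigidity** for the triviality of `u`. -/
theorem triv_of_nilpotent {B : Type u} [CommRing B] (β : R →+* B) (J : Ideal B)
    (hJ : IsNilpotent J)
    (h : Triv u (Spec (CommRingCat.of (B ⧸ J)))
      (Spec.map (CommRingCat.ofHom (Ideal.Quotient.mk J)) ≫ Spec.map (CommRingCat.ofHom β))) :
    Triv u (Spec (CommRingCat.of B)) (Spec.map (CommRingCat.ofHom β)) := by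
  obtain ⟨a, ha⟩ : ∃ a : Spec (CommRingCat.of B) ⟶ Spec (CommRingCat.of R),
      a = Spec.map (CommRingCat.ofHom β) := ⟨_, rfl⟩
  rw [← ha] at h ⊢
  obtain ⟨ι', hι'⟩ : ∃ ι' : Red.DS (Spec (CommRingCat.of B)) M ⟶
      Red.bc a (Red.DS (Spec (CommRingCat.of R)) M), ι' = (bcDSIso a M).inv.hom.hom := ⟨_, rfl⟩
  obtain ⟨κ', hκ'⟩ : ∃ κ' : Red.bc a (Red.DS (Spec (CommRingCat.of R)) M) ⟶
      Red.DS (Spec (CommRingCat.of B)) M, κ' = (bcDSIso a M).hom.hom.hom := ⟨_, rfl⟩
  haveI : IsMonHom ι' := by rw [hι']; infer_instance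
  have hκι : κ' ≫ ι' = 𝟙 _ := by
    rw [hι', hκ', ← Grp.comp_hom_hom, (bcDSIso a M).hom_inv_id, Grp.id_hom_hom]
  haveI : IsClosedImmersion (Spec.map (CommRingCat.ofHom (Ideal.Quotient.mk J))) :=
    IsClosedImmersion.spec_of_surjective _ Ideal.Quotient.mk_surjective
  obtain ⟨P, hP⟩ : ∃ P : PtAction (Red.DS (Spec (CommRingCat.of B)) M) (Red.bc a Gw),
      P = ((transVia u).bc a).comap ι' := ⟨_, rfl⟩
  have h0w : ∀ (Y : Over (Spec (CommRingCat.of B))),
      (∃ p : Y.left ⟶ Spec (CommRingCat.of (B ⧸ J)),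
        p ≫ Spec.map (CommRingCat.ofHom (Ideal.Quotient.mk J)) =
          Y.hom ≫ 𝟙 (Spec (CommRingCat.of B))) →
      ∀ (g : Y ⟶ Red.DS (Spec (CommRingCat.of B)) M) (x : Y ⟶ Red.bc a Gw),
        P.smul g x = x := by
    rintro Y ⟨p, hp⟩ g x
    rw [Category.comp_id] at hp
    apply (adjE a Gw Y).injective
    rw [hP]
    change adjE a Gw Y (((transVia u).bc a).smul (g ≫ ι') x) = _
    rw [PtAction.bc_smul, transVia_smul]
    have h1 := h ((Over.map a).obj Y) p (by
      change p ≫ _ ≫ a = Y.hom ≫ a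
      rw [← Category.assoc, hp]) (adjE a _ Y (g ≫ ι'))
    rw [h1, _root_.one_mul]
  have htriv := PtAction.trivial_of_diag (Spec.map (CommRingCat.ofHom (Ideal.Quotient.mk J)))
    (hnil_specMap J hJ) (𝟙 (Spec (CommRingCat.of B))) P h0w
  intro Y b hb y
  obtain ⟨k, hk⟩ : ∃ k : (Over.map a).obj (Over.mk b) ⟶ Y, k.left = 𝟙 _ :=
    ⟨Over.homMk (𝟙 _) (by simp [hb]), rfl⟩
  haveI : IsIso k.left := by rw [hk]; infer_instance
  haveI : IsIso k := by
    haveI : IsIso ((Over.forget _).map k) := ‹IsIso k.left›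
    exact isIso_of_reflects_iso k (Over.forget _)
  have h2 := htriv (Over.mk b) ((adjE a _ (Over.mk b)).symm (k ≫ y) ≫ κ')
    ((adjE a Gw (Over.mk b)).symm 1)
  rw [hP] at h2
  change ((transVia u).bc a).smul (((adjE a _ (Over.mk b)).symm (k ≫ y) ≫ κ') ≫ ι') _ = _ at h2
  rw [Category.assoc, hκι, Category.comp_id] at h2
  have h3 := congrArg (adjE a Gw (Over.mk b)) h2
  rw [PtAction.bc_smul, Equiv.apply_symm_apply, Equiv.apply_symm_apply, transVia_smul,
    _root_.mul_one, Category.assoc] at h3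
  rw [← cancel_epi k, h3, MonObj.comp_one]

lemma fn_specMap_eq_zero {A B : Type u} [CommRing A] [CommRing B] (φ : A →+* B) (a : A)
    (h : φ a = 0) : fn (Spec.map (CommRingCat.ofHom φ)) a = 0 := by
  have h1 := fn_specMap (𝟙 (Spec (CommRingCat.of B))) φ a
  rw [Category.id_comp] at h1
  rw [h1, h, fn_eq, map_zero]

include hI in
/-- **The unit locus is cut out by an idempotent.** -/
theorem exists_idem (hfg : I.FG) :
    ∃ e : R, IsIdempotentElem e ∧
      (∀ (T : Scheme.{u}) (a : T ⟶ Spec (CommRingCat.of R)), fn a e = 0 → Triv u T a) ∧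
      (∀ (B : Type u) [CommRing B] (β : R →+* B),
        Triv u (Spec (CommRingCat.of B)) (Spec.map (CommRingCat.ofHom β)) → β e = 0) := by
  obtain ⟨𝔠, h𝔠⟩ : ∃ 𝔠 : Ideal R, 𝔠 = coeffIdeal I := ⟨_, rfl⟩
  have hsq : 𝔠 ≤ 𝔠 ^ 2 := by
    intro c hc
    obtain ⟨π, hπ⟩ : ∃ π : R →+* R ⧸ 𝔠 ^ 2, π = Ideal.Quotient.mk (𝔠 ^ 2) := ⟨_, rfl⟩
    have hJ : IsNilpotent (𝔠.map π) := by
      refine ⟨2, ?_⟩
      rw [← Ideal.map_pow, hπ, Ideal.map_quotient_self]
      rfl
    have h1 : Triv u (Spec (CommRingCat.of ((R ⧸ 𝔠 ^ 2) ⧸ 𝔠.map π)))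
        (Spec.map (CommRingCat.ofHom (Ideal.Quotient.mk (𝔠.map π))) ≫
          Spec.map (CommRingCat.ofHom π)) := by
      apply triv_of_kills u I hI
      intro c' hc'
      rw [← specMap_comp_eq]
      apply fn_specMap_eq_zero
      rw [RingHom.comp_apply, Ideal.Quotient.eq_zero_iff_mem]
      exact Ideal.mem_map_of_mem π (h𝔠 ▸ hc')
    have h2 := triv_of_nilpotent u π (𝔠.map π) hJ h1
    have h3 := kills_of_triv u I hI π h2 c (h𝔠 ▸ hc)
    rw [hπ, Ideal.Quotient.eq_zero_iff_mem] at h3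
    exact h3
  have hidem : IsIdempotentElem 𝔠 := by
    apply le_antisymm Ideal.mul_le_right
    rw [← pow_two]
    exact hsq
  obtain ⟨e, he, hce⟩ := (Ideal.isIdempotentElem_iff_of_fg 𝔠
    (h𝔠 ▸ coeffIdeal_fg I hfg)).mp hidem
  have hmem : ∀ c ∈ coeffIdeal I, ∃ r : R, c = r * e := by
    intro c hc
    rw [← h𝔠, hce] at hc
    obtain ⟨r, hr⟩ := Submodule.mem_span_singleton.mp hc
    exact ⟨r, by rw [← hr, smul_eq_mul]⟩
  have he𝔠 : e ∈ coeffIdeal I := by
    rw [← h𝔠, hce]
    exact Submodule.mem_span_singleton_self e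
  refine ⟨e, he, fun T a hae => ?_, fun B _ β h => kills_of_triv u I hI β h e he𝔠⟩
  apply triv_of_kills u I hI
  intro c hc
  obtain ⟨r, rfl⟩ := hmem c hc
  rw [fn_eq, map_mul, ← fn_eq, ← fn_eq, hae, mul_zero]

include hI in
/-- **The unit locus is represented by an open and closed subset.** -/
theorem exists_clopen (hfg : I.FG) :
    ∃ Z : Set (Spec (CommRingCat.of R)), IsClopen Z ∧
      (∀ (Y : Scheme.{u}) (y : Y ⟶ Spec (CommRingCat.of R)), Set.range y ⊆ Z → Triv u Y y) ∧
      (∀ (K : Type u) [Field K] (y : Spec (CommRingCat.of K) ⟶ Spec (CommRingCat.of R)),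
        Triv u (Spec (CommRingCat.of K)) y → Set.range y ⊆ Z) := by
  obtain ⟨e, he, h1, h2⟩ := exists_idem u I hI hfg
  refine ⟨(PrimeSpectrum.basicOpen (1 - e) : Set (PrimeSpectrum R)),
    PrimeSpectrum.isClopen_iff.mpr ⟨1 - e, he.one_sub, rfl⟩, fun Y y hy => ?_, fun K _ y hy => ?_⟩
  · apply h1
    -- `fn y (1 - e)` is a unit
    have hb : Y.basicOpen (fn y (1 - e)) = ⊤ := by
      unfold fn
      rw [← Scheme.preimage_basicOpen_top, basicOpen_eq_of_affine]
      ext p
      simp only [TopologicalSpace.Opens.coe_top, Set.mem_univ, iff_true]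
      exact hy ⟨p, rfl⟩
    have hunit : IsUnit (fn y (1 - e)) := by
      apply RingedSpace.isUnit_of_isUnit_germ Y.toRingedSpace ⊤
      intro p hp
      have hp' : p ∈ Y.basicOpen (fn y (1 - e)) := by rw [hb]; trivial
      exact (Scheme.mem_basicOpen_top _ _ p).mp hp'
    have h0 : fn y (1 - e) * fn y e = 0 := by
      rw [fn_eq, fn_eq, ← map_mul, sub_mul, _root_.one_mul, he.eq, sub_self, map_zero]
    exact (hunit.mul_right_eq_zero).mp h0
  · obtain ⟨β, hβ⟩ : ∃ β : R →+* K, β = ringOf y := ⟨_, rfl⟩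
    have hy' : y = Spec.map (CommRingCat.ofHom β) := by rw [hβ, specMap_ringOf]
    rw [hy'] at hy ⊢
    have h3 := h2 K β hy
    rintro _ ⟨p, rfl⟩
    rw [Spec.map_apply]
    change (1 - e) ∉ (PrimeSpectrum.comap β p).asIdeal
    rw [PrimeSpectrum.comap_asIdeal, Ideal.mem_comap, map_sub, map_one, h3, sub_zero]
    exact p.asIdeal.ne_top_iff_one.mp p.2.ne_top

end Geo

end Groth.Agent.Lib.R2H3.UnitLocus
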