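import Groth.Agent.Lib.R2H3UnitLocus
import Groth.Agent.Lib.Helper8FixedPt
import Groth.Agent.Lib.R2H3MonoFib
import Groth.Agent.Lib.R2H3MultHomMain

/-!
# The unit locus of a homomorphism from a group of multiplicative type into a separated group
(helper3, round 2)

* `exists_clopen_trivS`: for `u : H ⟶ G` with `H` of multiplicative type and of finite type, `G`
  separated, and `S` locally Noetherian or `G` of finite presentation, the locus of `S` above
  which `u` is trivial is open and closed (in terms of the predicate `TrivS`).
* `trivS_id_of_forall`, `trivS_residue_of_field`, `trivS_id_of_connected`: consequences (if the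
  base is connected and `u` is trivial at one field valued point then `u` is trivial).
-/

set_option autoImplicit false
set_option linter.style.haveILetI false
set_option linter.unusedVariables false
set_option linter.unusedSectionVars false

universe u

open CategoryTheory MonoidalCategory CartesianMonoidalCategory MonObj GrpObj AlgebraicGeometry
  CategoryTheory.Limits
open Groth.Agent.Lib.R2H3.MultAct Groth.Agent.Lib.R2H3.FpqcLocal

namespace Groth.Agent.Lib.R2H3.UnitLocus

variable {S : Scheme.{u}} (H G : Over S) [GrpObj H] [GrpObj G]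

theorem exists_clopen_trivS (hH : SGA3x.IsMultTypeFT H) [IsSeparated G.hom]
    (hG : IsLocallyNoetherian S ∨
      (LocallyOfFinitePresentation G.hom ∧ QuasiCompact G.hom ∧ QuasiSeparated G.hom))
    (u : H ⟶ G) [IsMonHom u] :
    ∃ U : S.Opens, IsClosed (U : Set S) ∧
      (∀ s : S, s ∈ U ↔ TrivS u (Spec (S.residueField s)) (S.fromSpecResidueField s)) ∧
      TrivS u U U.ι := by
  have hsec : unitSec G ≫ G.hom = 𝟙 S := unitSec_hom
  haveI : IsClosedImmersion (unitSec G) := by
    haveI : IsClosedImmersion (unitSec G ≫ G.hom) := by
      rw [hsec]; infer_instance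
    exact IsClosedImmersion.of_comp (unitSec G) G.hom
  haveI hlft : LocallyOfFiniteType H.hom := Groth.Agent.Lib.R2H3.MonoFib.lft_of_isMultTypeFT H hH
  haveI hkfp : LocallyOfFinitePresentation (pullback.fst u.left (unitSec G)) := by
    rcases hG with hN | ⟨h1, h2, h3⟩
    · haveI := hN
      haveI : IsLocallyNoetherian H.left := LocallyOfFiniteType.isLocallyNoetherian H.hom
      haveI : LocallyOfFiniteType (pullback.fst u.left (unitSec G)) := inferInstance
      infer_instance
    · haveI : LocallyOfFinitePresentation (unitSec G) := by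
        apply Groth.Agent.Lib.Helper8FixedPt.lfp_of_comp_of_lft _ G.hom
        · rw [hsec]; infer_instance
        · infer_instance
      infer_instance
  have hK : ∀ (Y : Over S) (y : Y ⟶ H), y ≫ u = 1 ↔
      ∃ z : Y.left ⟶ pullback u.left (unitSec G),
        z ≫ pullback.fst u.left (unitSec G) = y.left := by
    intro Y y
    have hone : (1 : Y ⟶ G).left = Y.hom ≫ unitSec G := by
      rw [Hom.one_def, Over.comp_left, Over.toUnit_left]
      rfl
    constructor
    · intro h
      refine ⟨pullback.lift y.left Y.hom ?_, pullback.lift_fst _ _ _⟩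
      rw [← Over.comp_left, h, hone]
    · rintro ⟨z, hz⟩
      apply Over.OverMorphism.ext
      rw [Over.comp_left, hone, ← hz, Category.assoc, pullback.condition]
      have h1 : z ≫ pullback.snd u.left (unitSec G) = Y.hom := by
        have h2 : z ≫ pullback.snd u.left (unitSec G) =
            (z ≫ pullback.snd u.left (unitSec G) ≫ unitSec G) ≫ G.hom := by
          rw [Category.assoc, Category.assoc, hsec, Category.comp_id]
        rw [h2, ← pullback.condition, ← Category.assoc, hz, Category.assoc, Over.w u, Over.w y]
      rw [← Category.assoc, h1]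
  have hloc : TwC.Locally S TwC.Topology.fpqc (fun S' f => ∃ (M : Type) (_ : AddCommGroup M),
      Nonempty (Grp.mk (Red.bc f H) ≅ Grp.mk (Red.DS S' M))) := by
    obtain ⟨S', f, h1, h2, h3, h4⟩ := hH
    refine ⟨S', f, h1, h2, h3, fun s' => ?_⟩
    obtain ⟨U, hU, M, inst, -, he⟩ := h4 s'
    exact ⟨U, hU, M, inst, he⟩
  exact exists_clopen_unit_locus u (pullback.fst u.left (unitSec G)) hK hloc

variable {H G}

/-- triviality at a field valued point implies triviality at the residue field of its image. -/
theorem trivS_residue_of_field (u : H ⟶ G) [IsMonHom u] {L : Type u} [Field L]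
    (y : Spec (CommRingCat.of L) ⟶ S) (hy : TrivS u (Spec (CommRingCat.of L)) y) :
    TrivS u (Spec (S.residueField (y (IsLocalRing.closedPoint L))))
      (S.fromSpecResidueField (y (IsLocalRing.closedPoint L))) := by
  have h1 := Scheme.descResidueField_stalkClosedPointTo_fromSpecResidueField L S y
  apply trivS_descend u (Spec.map (S.descResidueField (Scheme.stalkClosedPointTo y))) _
  · have := Groth.Agent.Lib.R2H3.MultHom.qfpqc_specMap_field
      (S.descResidueField (Scheme.stalkClosedPointTo y)).hom
    exact this
  · rw [h1]
    exact hy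

/-- a homomorphism which is trivial at all points is trivial. -/
theorem trivS_id_of_forall (hH : SGA3x.IsMultTypeFT H) [IsSeparated G.hom]
    (hG : IsLocallyNoetherian S ∨
      (LocallyOfFinitePresentation G.hom ∧ QuasiCompact G.hom ∧ QuasiSeparated G.hom))
    (u : H ⟶ G) [IsMonHom u]
    (h : ∀ s : S, TrivS u (Spec (S.residueField s)) (S.fromSpecResidueField s)) :
    TrivS u S (𝟙 S) := by
  obtain ⟨U, hU, h1, h2⟩ := exists_clopen_trivS H G hH hG u
  have htop : U = ⊤ := by
    ext s
    simp only [TopologicalSpace.Opens.coe_top, Set.mem_univ, iff_true]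
    exact (h1 s).mpr (h s)
  intro Y a ha y
  have hrange : Set.range a ⊆ Set.range U.ι := by
    rw [Scheme.Opens.range_ι, htop]
    exact fun _ _ => trivial
  exact h2 Y (IsOpenImmersion.lift U.ι a hrange) (by
    rw [IsOpenImmersion.lift_fac, ← ha, Category.comp_id]) y

/-- over a connected base, a homomorphism which is trivial at one field valued point is
trivial. -/
theorem trivS_id_of_connected [ConnectedSpace S] (hH : SGA3x.IsMultTypeFT H) [IsSeparated G.hom]
    (hG : IsLocallyNoetherian S ∨
      (LocallyOfFinitePresentation G.hom ∧ QuasiCompact G.hom ∧ QuasiSeparated G.hom))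
    (u : H ⟶ G) [IsMonHom u] {L : Type u} [Field L]
    (y : Spec (CommRingCat.of L) ⟶ S) (hy : TrivS u (Spec (CommRingCat.of L)) y) :
    TrivS u S (𝟙 S) := by
  obtain ⟨U, hU, h1, h2⟩ := exists_clopen_trivS H G hH hG u
  have hmem : y (IsLocalRing.closedPoint L) ∈ U := (h1 _).mpr (trivS_residue_of_field u y hy)
  have htop : (U : Set S) = Set.univ :=
    IsClopen.eq_univ ⟨hU, U.2⟩ ⟨_, hmem⟩
  intro Y a ha y'
  have hrange : Set.range a ⊆ Set.range U.ι := by
    rw [Scheme.Opens.range_ι, htop]
    exact fun _ _ => trivial
  exact h2 Y (IsOpenImmersion.lift U.ι a hrange) (by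
    rw [IsOpenImmersion.lift_fac, ← ha, Category.comp_id]) y'

end Groth.Agent.Lib.R2H3.UnitLocus
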