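import Mathlib
import Groth.Prelude.Def_RelProj3
import Groth.Prelude.Def_RelProj2
import Groth.Agent.Lib.Helper2RelTwistAmpleB
import Groth.Agent.Lib.Helper13SymAlgLocal
import Groth.Agent.Lib.Helper23PB3
import Groth.Agent.S8286

/-!
# Consequences of relative very ampleness (helper3, round 2)

* `isGenDegOne_of_isGrSymAlg` : a graded symmetric algebra is generated in degree one.
* `exists_section_genLocus_eq_basicOpen` : the section `g / 1` of `O_P(d)` on the chart `Proj 𝒮(V)`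
  has generating locus `D₊(g)`.
-/

set_option autoImplicit false
set_option linter.unusedSectionVars false
universe u
open CategoryTheory Limits AlgebraicGeometry TopologicalSpace Opposite
open scoped HomogeneousIdeal

namespace Groth.Agent.Lib.R2H3.VeryAmpleData

open Groth.Agent.Lib.Helper2.RelTildeQCoh Groth.Agent.Lib.Helper23.SecTw Groth.Agent.Lib.Helper6
  Groth.Agent.Lib.Helper2.Push Groth.Agent.Lib.Helper2.RelTwistGen Groth.Agent.Lib.Helper2.IsGenCover
  Groth.Agent.Lib.Helper2.RelTwistTriv Groth.Agent.Lib.Helper2.RelTwistTensor RelProj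
  Groth.Agent.Lib.Helper23.GenLocus Groth.Agent.Lib.Helper2.RelTwistInv Groth.Agent.Lib.Helper23.RestrJ
  Groth.Agent.Lib.Helper2GrModSect Groth.Agent.Lib.Helper2.RelTwistAmple

section sym
open Groth.Agent.Helper13SymAlg Groth.Agent.Helper13SymLoc

variable {S : Scheme.{u}} (E : S.Modules) [E.IsQuasicoherent] (𝒮 : RelProj.QCGrAlg S)
  (j : E ⟶ 𝒮.toModule)

theorem isGenDegOne_of_isGrSymAlg (hj : RelProj.IsGrSymAlg E 𝒮 j) : 𝒮.IsGenDegOne := by
  intro U hU
  rw [eq_top_iff]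
  intro x _
  obtain ⟨y, rfl⟩ := (bijective_σ E U hU hj.1).2 x
  clear * - hj
  induction y using SymmetricAlgebra.induction with
  | algebraMap r =>
    refine Subring.subset_closure (Or.inl ?_)
    unfold σ
    rw [symLift_algebraMap]
    exact 𝒮.str_mem U hU r
  | ι m =>
    refine Subring.subset_closure (Or.inr ?_)
    unfold σ
    rw [symLift_ι]
    exact hj.2 U hU m
  | mul a b ha hb =>
    rw [map_mul]
    exact Subring.mul_mem _ ha hb
  | add a b ha hb =>
    rw [map_add]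
    exact Subring.add_mem _ ha hb

end sym


section chartSections

variable {P S : Scheme.{u}} {𝒮 : RelProj.QCGrAlg S} (p : P ⟶ S)
  (chart : ∀ (U : S.Opens) (hU : IsAffineOpen U), (((p ⁻¹ᵁ U : P.Opens) : Scheme.{u}) ≅ Proj (𝒮.deg U hU)))
  (d : ℕ) (L : P.Modules)
  (lam : ∀ (U : S.Opens) (hU : IsAffineOpen U),
    L ⟶ (Scheme.Modules.pushforward (RelProj.emb p chart U hU)).obj (GrTwist.twist (𝒮.deg U hU) (d : ℤ)))
  (hL : RelProj.IsRelTwist 𝒮 p chart (d : ℤ) L lam)

include hL in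
/-- the section `g / 1` of `O_P(d)` restricted to the chart `Proj 𝒮(V)` has generating locus `D₊(g)`
(copied from the proof of `Helper2.RelTwistAmple.isAmple_restrict_emb`, without compactness) -/
theorem exists_section_genLocus_eq_basicOpen' (V : S.Opens) (hV : IsAffineOpen V)
    (hcov : ∀ y : ProjectiveSpectrum (𝒮.deg V hV), ∃ g ∈ 𝒮.deg V hV d, g ∉ y.asHomogeneousIdeal)
    (g : 𝒮.presheaf.obj (op V)) (hg : g ∈ 𝒮.deg V hV d) :
    ∃ ℓ : Γ(L, p ⁻¹ᵁ V),
      CohB1.genLocus (L.restrict (RelProj.emb p chart V hV))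
        (secHom (L.restrict (RelProj.emb p chart V hV))
          (show Γ(L.restrict (RelProj.emb p chart V hV), ⊤) from
            res L (image_emb_le p chart V hV ⊤) ℓ)) = Proj.basicOpen (𝒮.deg V hV) g := by
  have h1mem : (1 : 𝒮.presheaf.obj (op V)) ∈ 𝒮.deg V hV 0 := SetLike.GradedOne.one_mem
  have hij : ((d : ℕ) : ℤ) = ((0 : ℕ) : ℤ) + (d : ℤ) := by simp
  -- frames
  have hfr : ∀ (g' : 𝒮.presheaf.obj (op V)) (hg' : g' ∈ 𝒮.deg V hV d),
      ∃ e : Γ(L, (RelProj.emb p chart V hV) ''ᵁ (Proj.basicOpen (𝒮.deg V hV) g')),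
        IsGen L ((RelProj.emb p chart V hV) ''ᵁ (Proj.basicOpen (𝒮.deg V hV) g')) e ∧
        ∀ y : ((RelProj.emb p chart V hV) ⁻¹ᵁ ((RelProj.emb p chart V hV) ''ᵁ
            (Proj.basicOpen (𝒮.deg V hV) g')) : (Proj (𝒮.deg V hV)).Opens),
          GrTwist.val (V := RelProj.emb p chart V hV ⁻¹ᵁ ((RelProj.emb p chart V hV) ''ᵁ
            (Proj.basicOpen (𝒮.deg V hV) g')))
            ((lam V hV).app _ e) y = Localization.mk g' ⟨1, GrMod.one_nin y.1⟩ := by
    intro g' hg'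
    refine exists_frame p chart (d : ℤ) L lam hL V hV _ (image_emb_le p chart V hV _) hg' h1mem hij ?_
      (fun y => GrMod.one_nin y.1)
    rintro ⟨y, h1⟩
    rw [(RelProj.emb p chart V hV).preimage_image_eq] at h1
    exact (ProjectiveSpectrum.mem_basicOpen _ _ y).mp h1
  -- the generating locus of the section `g / 1`
  have hloc : ∀ (g : 𝒮.presheaf.obj (op V)) (hg : g ∈ 𝒮.deg V hV d),
      ∃ ℓ : Γ(L, p ⁻¹ᵁ V),
        CohB1.genLocus (L.restrict (RelProj.emb p chart V hV))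
          (secHom (L.restrict (RelProj.emb p chart V hV))
            (show Γ(L.restrict (RelProj.emb p chart V hV), ⊤) from
              res L (image_emb_le p chart V hV ⊤) ℓ)) = Proj.basicOpen (𝒮.deg V hV) g := by
    intro g hg
    obtain ⟨ℓ, hℓ⟩ := exists_sec p chart d L lam hL V hV hg
    have hle : (RelProj.emb p chart V hV) ''ᵁ ⊤ ≤ p ⁻¹ᵁ V := image_emb_le p chart V hV ⊤
    refine ⟨ℓ, ?_⟩
    refine opens_eq_of_cover _ _ (fun y' => ?_)
    obtain ⟨g', hg', hg'y⟩ := hcov y'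
    obtain ⟨E, hE, vE⟩ := hfr g' hg'
    have hA : IsGen (L.restrict (RelProj.emb p chart V hV)) (Proj.basicOpen (𝒮.deg V hV) g')
        (show Γ(L.restrict (RelProj.emb p chart V hV), Proj.basicOpen (𝒮.deg V hV) g') from E) :=
      isGen_restrict_of_isGen (RelProj.emb p chart V hV) L _ E hE
    refine ⟨Proj.basicOpen (𝒮.deg V hV) g', (ProjectiveSpectrum.mem_basicOpen _ g' y').mpr hg'y, ?_⟩
    rw [genLocus_inf_eq_coef _ hA]
    have hc := (sv_eq_coef_smul (secHom (L.restrict (RelProj.emb p chart V hV))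
      (show Γ(L.restrict (RelProj.emb p chart V hV), ⊤) from res L hle ℓ)) hA).symm
    generalize coef hA le_rfl (sv (secHom (L.restrict (RelProj.emb p chart V hV))
      (show Γ(L.restrict (RelProj.emb p chart V hV), ⊤) from res L hle ℓ))
      (Proj.basicOpen (𝒮.deg V hV) g')) = c at hc ⊢
    rw [sv_secHom] at hc
    have hcL : (upf (RelProj.emb p chart V hV) (Proj.basicOpen (𝒮.deg V hV) g') c • E :
        Γ(L, (RelProj.emb p chart V hV) ''ᵁ (Proj.basicOpen (𝒮.deg V hV) g'))) =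
        res L (image_emb_le p chart V hV _) ℓ := by
      have h2 : res L ((RelProj.emb p chart V hV).image_mono
          (le_top : Proj.basicOpen (𝒮.deg V hV) g' ≤ ⊤)) (res L hle ℓ) =
          res L (image_emb_le p chart V hV _) ℓ := res_res _ _ _ _
      rw [← h2]
      exact hc
    have hval : ∀ (y : ProjectiveSpectrum (𝒮.deg V hV)) (hy : y ∈ Proj.basicOpen (𝒮.deg V hV) g'),
        (funVal (𝒮.deg V hV) (Proj.basicOpen (𝒮.deg V hV) g') c y hy).val =
          Localization.mk g ⟨g', (ProjectiveSpectrum.mem_basicOpen _ g' y).mp hy⟩ := by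
      intro y hy
      have hy2 : y ∈ (RelProj.emb p chart V hV) ⁻¹ᵁ ((RelProj.emb p chart V hV) ''ᵁ
          (Proj.basicOpen (𝒮.deg V hV) g')) := by
        rw [(RelProj.emb p chart V hV).preimage_image_eq]; exact hy
      have H := congrArg (fun τ => GrTwist.val
        (V := RelProj.emb p chart V hV ⁻¹ᵁ ((RelProj.emb p chart V hV) ''ᵁ
          (Proj.basicOpen (𝒮.deg V hV) g')))
        ((lam V hV).app _ τ) ⟨y, hy2⟩) hcL
      simp only at H
      have hsm : GrTwist.val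
          (V := RelProj.emb p chart V hV ⁻¹ᵁ ((RelProj.emb p chart V hV) ''ᵁ
            (Proj.basicOpen (𝒮.deg V hV) g')))
          ((lam V hV).app _ (upf (RelProj.emb p chart V hV) (Proj.basicOpen (𝒮.deg V hV) g') c • E))
            ⟨y, hy2⟩ =
          (funVal (𝒮.deg V hV) _ ((RelProj.emb p chart V hV).app _
            (upf (RelProj.emb p chart V hV) (Proj.basicOpen (𝒮.deg V hV) g') c)) y hy2).val *
          GrTwist.val
            (V := RelProj.emb p chart V hV ⁻¹ᵁ ((RelProj.emb p chart V hV) ''ᵁ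
              (Proj.basicOpen (𝒮.deg V hV) g')))
            ((lam V hV).app _ E) ⟨y, hy2⟩ := by
        rw [Scheme.Modules.Hom.app_smul, Groth.Agent.Lib.Helper2.Push.pushforward_smul]
        rfl
      have hnat : GrTwist.val
          (V := RelProj.emb p chart V hV ⁻¹ᵁ ((RelProj.emb p chart V hV) ''ᵁ
            (Proj.basicOpen (𝒮.deg V hV) g')))
          ((lam V hV).app _ (res L (image_emb_le p chart V hV _) ℓ)) ⟨y, hy2⟩ =
          Localization.mk g ⟨1, GrMod.one_nin y⟩ := by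
        have hn := app_map' (lam V hV) (homOfLE (image_emb_le p chart V hV
          (Proj.basicOpen (𝒮.deg V hV) g'))) ℓ
        rw [← hℓ ⟨y, image_emb_le p chart V hV _ hy2⟩]
        change GrTwist.val (V := RelProj.emb p chart V hV ⁻¹ᵁ ((RelProj.emb p chart V hV) ''ᵁ
            (Proj.basicOpen (𝒮.deg V hV) g')))
          ((lam V hV).app _ (L.presheaf.map (homOfLE (image_emb_le p chart V hV
            (Proj.basicOpen (𝒮.deg V hV) g'))).op ℓ)) ⟨y, hy2⟩ = _
        rw [hn]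
        rfl
      rw [hsm, hnat, vE ⟨y, hy2⟩, funVal_app_upf (RelProj.emb p chart V hV) _ c y hy2 hy] at H
      have hu := mk_mul_mk_swap y.asHomogeneousIdeal.toIdeal.primeCompl g' 1
        ((ProjectiveSpectrum.mem_basicOpen _ g' y).mp hy) (GrMod.one_nin y)
      calc (funVal (𝒮.deg V hV) (Proj.basicOpen (𝒮.deg V hV) g') c y hy).val
          = (funVal (𝒮.deg V hV) (Proj.basicOpen (𝒮.deg V hV) g') c y hy).val *
              (Localization.mk g' ⟨1, GrMod.one_nin y⟩ *
                Localization.mk 1 ⟨g', (ProjectiveSpectrum.mem_basicOpen _ g' y).mp hy⟩) := by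
            rw [hu, mul_one]
        _ = Localization.mk g ⟨1, GrMod.one_nin y⟩ *
              Localization.mk 1 ⟨g', (ProjectiveSpectrum.mem_basicOpen _ g' y).mp hy⟩ := by
            rw [← mul_assoc, H]
        _ = Localization.mk g ⟨g', (ProjectiveSpectrum.mem_basicOpen _ g' y).mp hy⟩ := by
            rw [Localization.mk_mul, Localization.mk_eq_mk_iff, Localization.r_iff_exists]
            refine ⟨1, ?_⟩
            simp
    have hunit : ∀ (y : ProjectiveSpectrum (𝒮.deg V hV)) (hy : y ∈ Proj.basicOpen (𝒮.deg V hV) g'),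
        IsUnit (funVal (𝒮.deg V hV) (Proj.basicOpen (𝒮.deg V hV) g') c y hy) ↔
          g ∉ y.asHomogeneousIdeal := fun y hy =>
      isUnit_of_val_eq_mk _ ((ProjectiveSpectrum.mem_basicOpen _ g' y).mp hy) (hval y hy)
    ext y
    constructor
    · intro hy
      have hyW : y ∈ Proj.basicOpen (𝒮.deg V hV) g' := (Proj (𝒮.deg V hV)).basicOpen_le c hy
      exact ⟨(ProjectiveSpectrum.mem_basicOpen _ g y).mpr ((hunit y hyW).mp
        ((mem_basicOpen_iff_isUnit_funVal (𝒮.deg V hV) _ c y hyW).mp hy)), hyW⟩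
    · rintro ⟨hyg, hyW⟩
      exact (mem_basicOpen_iff_isUnit_funVal (𝒮.deg V hV) _ c y hyW).mpr
        ((hunit y hyW).mpr ((ProjectiveSpectrum.mem_basicOpen _ g y).mp hyg))
  exact hloc g hg

include hL in
/-- the section `g / 1` of `O_P(d)` restricted to the chart `Proj 𝒮(V)` has generating locus `D₊(g)`
(copied from the proof of `Helper2.RelTwistAmple.isAmple_restrict_emb`, without compactness) -/
theorem exists_section_genLocus_eq_basicOpen (V : S.Opens) (hV : IsAffineOpen V)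
    (hcov : ∀ y : ProjectiveSpectrum (𝒮.deg V hV), ∃ g ∈ 𝒮.deg V hV d, g ∉ y.asHomogeneousIdeal)
    (g : 𝒮.presheaf.obj (op V)) (hg : g ∈ 𝒮.deg V hV d) :
    ∃ σ : Γ(L.restrict (RelProj.emb p chart V hV), ⊤),
      CohB1.genLocus (L.restrict (RelProj.emb p chart V hV))
        (secHom (L.restrict (RelProj.emb p chart V hV)) σ) = Proj.basicOpen (𝒮.deg V hV) g := by
  obtain ⟨ℓ, hℓ⟩ := exists_section_genLocus_eq_basicOpen' p chart d L lam hL V hV hcov g hg
  exact ⟨_, hℓ⟩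

end chartSections

section locallyAmple
open Groth.Agent.Lib.Helper23.PB Groth.Agent.Lib.Helper23.AmpleIso

/-- a module which is "ample without quasi-compactness" pulls back to an ample module along a
topological embedding with quasi-compact source -/
theorem isAmple_pullback_of_locallyAmple {Z Q : Scheme.{u}} [CompactSpace Z] (j : Z ⟶ Q)
    (hj : Topology.IsEmbedding j.base) (N : Q.Modules) (hN : PicF.IsInvertible N)
    (h : ∀ y : Q, ∃ σ : Coh.structureModule Q ⟶ N, y ∈ CohB1.genLocus N σ ∧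
      IsAffineOpen (CohB1.genLocus N σ)) :
    CohB1.IsAmple ((Scheme.Modules.pullback j).obj N) := by
  choose σ hσ haff using h
  -- finite subcover
  obtain ⟨t, ht⟩ := isCompact_univ.elim_finite_subcover
    (fun z : Z => ((j ⁻¹ᵁ CohB1.genLocus N (σ (j z)) : Z.Opens) : Set Z))
    (fun z => (j ⁻¹ᵁ CohB1.genLocus N (σ (j z))).isOpen)
    (fun z _ => Set.mem_iUnion.2 ⟨z, hσ (j z)⟩)
  let Q' : Q.Opens := ⨆ z ∈ t, CohB1.genLocus N (σ (j z))
  have hQ'c : IsCompact (Q' : Set Q) := by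
    have : (Q' : Set Q) = ⋃ z ∈ t, (CohB1.genLocus N (σ (j z)) : Set Q) := by
      simp [Q']
    rw [this]
    exact t.finite_toSet.isCompact_biUnion (fun z _ => (haff (j z)).isCompact)
  have : CompactSpace (Q' : Scheme.{u}) := isCompact_iff_compactSpace.1 hQ'c
  have hrange : Set.range j ⊆ Set.range Q'.ι := by
    rintro _ ⟨z, rfl⟩
    rw [Scheme.Opens.range_ι]
    obtain ⟨z', hz', hzz'⟩ := Set.mem_iUnion₂.1 (ht (Set.mem_univ z))
    exact Opens.mem_iSup.2 ⟨z', Opens.mem_iSup.2 ⟨hz', hzz'⟩⟩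
  let j' : Z ⟶ (Q' : Scheme.{u}) := IsOpenImmersion.lift Q'.ι j hrange
  have hj' : j' ≫ Q'.ι = j := IsOpenImmersion.lift_fac _ _ _
  have hemb : Topology.IsEmbedding j'.base := by
    have h1 : Topology.IsEmbedding (Q'.ι.base ∘ j'.base) := by
      have : (Q'.ι.base ∘ j'.base : Z → Q) = j.base := by
        rw [← hj']; rfl
      rw [this]; exact hj
    exact Topology.IsEmbedding.of_comp j'.continuous Q'.ι.continuous h1
  have hN' : PicF.IsInvertible (N.restrict Q'.ι) := isInvertible_restrict N hN Q'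
  have hample : CohB1.IsAmple (N.restrict Q'.ι) := by
    refine ⟨hN', inferInstance, fun y' => ?_⟩
    obtain ⟨z, hz⟩ := Opens.mem_iSup.1 y'.2
    obtain ⟨hzt, hyz⟩ := Opens.mem_iSup.1 hz
    have hle : CohB1.genLocus N (σ (j z)) ≤ Q' := fun w hw =>
      Opens.mem_iSup.2 ⟨z, Opens.mem_iSup.2 ⟨hzt, hw⟩⟩
    refine ⟨0, SecTwist.powHom (Groth.Agent.Lib.Helper23.SecTw.restrSec (σ (j z)) Q') 1, ?_, ?_⟩
    · rw [genLocus_powHom hN' _ 1 one_pos, Groth.Agent.Lib.Helper23.SecTw.genLocus_restrSec]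
      exact hyz
    · rw [genLocus_powHom hN' _ 1 one_pos, Groth.Agent.Lib.Helper23.SecTw.genLocus_restrSec]
      exact (haff (j z)).preimage_of_isOpenImmersion Q'.ι (by
        rw [Scheme.Opens.opensRange_ι]; exact hle)
  have e : (Scheme.Modules.pullback j').obj (N.restrict Q'.ι) ≅ (Scheme.Modules.pullback j).obj N :=
    (Scheme.Modules.pullback j').mapIso ((Scheme.Modules.restrictFunctorIsoPullback Q'.ι).app N) ≪≫
      (Scheme.Modules.pullbackComp j' Q'.ι).app N ≪≫ (Scheme.Modules.pullbackCongr hj').app N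
  exact isAmple_of_iso e (isAmple_pullback_of_isEmbedding j' hemb _ hample)

end locallyAmple

section chartData
open Groth.Agent.Lib.Helper23.PB Groth.Agent.Lib.Helper23.AmpleIso

/-- the local data of a relatively very ample module over an affine open `V` of the base: an immersion
of `f⁻¹ V` into a scheme `Q` (a chart `Proj 𝒮(V)` of `P(E)`) carrying an invertible module `N` (`O(1)`)
which is "ample without quasi-compactness" by sections of `N`, with `L|_{f⁻¹ V} ≅ j^* N`. -/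
theorem exists_chart_data {X Y : Scheme.{u}} (f : X ⟶ Y) (L : X.Modules)
    (h : RelProj.IsRelVeryAmple f L) (V : Y.Opens) (hV : IsAffineOpen V) :
    ∃ (Q : Scheme.{u}) (N : Q.Modules) (j : ((f ⁻¹ᵁ V : X.Opens) : Scheme.{u}) ⟶ Q),
      IsImmersion j ∧ PicF.IsInvertible N ∧
      Nonempty (L.restrict (f ⁻¹ᵁ V).ι ≅ (Scheme.Modules.pullback j).obj N) ∧
      ∀ y : Q, ∃ σ : Coh.structureModule Q ⟶ N, y ∈ CohB1.genLocus N σ ∧
        IsAffineOpen (CohB1.genLocus N σ) := by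
  obtain ⟨E, hE, 𝒮, jE, hjE, P, p, chart, hP, O1, lam, hO1, i, hi, rfl, ⟨φ⟩⟩ := h
  have : E.IsQuasicoherent := hE
  have hgen := isGenDegOne_of_isGrSymAlg E 𝒮 jE hjE
  have hO1inv : PicF.IsInvertible O1 := Groth.Agent.S8286.result 𝒮 hgen p chart hP 1 O1 lam hO1
  have hcov : ∀ y : ProjectiveSpectrum (𝒮.deg V hV), ∃ g ∈ 𝒮.deg V hV 1, g ∉ y.asHomogeneousIdeal :=
    fun y => exists_degOne_not_mem_of_gen (𝒮.deg V hV) (hgen V hV) y
  let jj : ((i ⁻¹ᵁ (p ⁻¹ᵁ V) : X.Opens) : Scheme.{u}) ⟶ Proj (𝒮.deg V hV) :=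
    (i ∣_ (p ⁻¹ᵁ V)) ≫ (chart V hV).hom
  have hw : jj ≫ RelProj.emb p chart V hV = (i ⁻¹ᵁ (p ⁻¹ᵁ V)).ι ≫ i := by
    unfold RelProj.emb
    rw [Category.assoc, Iso.hom_inv_id_assoc, morphismRestrict_ι]
  have hN : PicF.IsInvertible (O1.restrict (RelProj.emb p chart V hV)) :=
    Groth.Agent.Lib.Helper23.RestrJ.isInvertible_restrict (RelProj.emb p chart V hV) O1 hO1inv
  refine ⟨Proj (𝒮.deg V hV), O1.restrict (RelProj.emb p chart V hV), jj, ?_, hN, ?_, ?_⟩
  · have := hi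
    have : IsImmersion (i ∣_ (p ⁻¹ᵁ V)) := inferInstance
    change IsImmersion ((i ∣_ (p ⁻¹ᵁ V)) ≫ (chart V hV).hom)
    infer_instance
  · exact ⟨(Scheme.Modules.restrictFunctor (i ⁻¹ᵁ (p ⁻¹ᵁ V)).ι).mapIso φ ≪≫
      pullbackRestrictIso' i O1 (i ⁻¹ᵁ (p ⁻¹ᵁ V)).ι (RelProj.emb p chart V hV) jj hw⟩
  · intro y
    obtain ⟨g, hg, hgy⟩ := hcov y
    obtain ⟨σ, hσ⟩ := exists_section_genLocus_eq_basicOpen p chart 1 O1 lam hO1 V hV hcov g hg
    refine ⟨secHom _ σ, ?_, ?_⟩
    · rw [hσ]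
      exact (ProjectiveSpectrum.mem_basicOpen _ g y).mpr hgy
    · rw [hσ]
      exact Proj.isAffineOpen_basicOpen (𝒮.deg V hV) g hg one_pos

end chartData

section chartDataExplicit
open Groth.Agent.Lib.Helper23.PB Groth.Agent.Lib.Helper23.AmpleIso

/-- explicit-data version of `exists_chart_data`, for an arbitrary morphism `g : X ⟶ P(E)` -/
theorem exists_chart_data' {X Y : Scheme.{u}} (E : Y.Modules) (hE : Coh.IsQCoh E) (𝒮 : RelProj.QCGrAlg Y)
    (jE : E ⟶ 𝒮.toModule) (hjE : RelProj.IsGrSymAlg E 𝒮 jE) (P : Scheme.{u}) (p : P ⟶ Y)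
    (chart : ∀ (U : Y.Opens) (hU : IsAffineOpen U), ((p ⁻¹ᵁ U : P.Opens) : Scheme.{u}) ≅ Proj (𝒮.deg U hU))
    (hP : RelProj.IsRelProj 𝒮 p chart) (O1 : P.Modules)
    (lam : ∀ (U : Y.Opens) (hU : IsAffineOpen U),
      O1 ⟶ (Scheme.Modules.pushforward (RelProj.emb p chart U hU)).obj (GrTwist.twist (𝒮.deg U hU) 1))
    (hO1 : RelProj.IsRelTwist 𝒮 p chart 1 O1 lam) (g : X ⟶ P) (V : Y.Opens) (hV : IsAffineOpen V) :
    ∃ (Q : Scheme.{u}) (N : Q.Modules) (j : ((g ⁻¹ᵁ (p ⁻¹ᵁ V) : X.Opens) : Scheme.{u}) ⟶ Q),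
      (Topology.IsEmbedding g.base → Topology.IsEmbedding j.base) ∧ PicF.IsInvertible N ∧
      Nonempty (((Scheme.Modules.pullback g).obj O1).restrict (g ⁻¹ᵁ (p ⁻¹ᵁ V)).ι ≅
        (Scheme.Modules.pullback j).obj N) ∧
      ∀ y : Q, ∃ σ : Coh.structureModule Q ⟶ N, y ∈ CohB1.genLocus N σ ∧
        IsAffineOpen (CohB1.genLocus N σ) := by
  have : E.IsQuasicoherent := hE
  have hgen := isGenDegOne_of_isGrSymAlg E 𝒮 jE hjE
  have hO1inv : PicF.IsInvertible O1 := Groth.Agent.S8286.result 𝒮 hgen p chart hP 1 O1 lam hO1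
  have hcov : ∀ y : ProjectiveSpectrum (𝒮.deg V hV), ∃ t ∈ 𝒮.deg V hV 1, t ∉ y.asHomogeneousIdeal :=
    fun y => exists_degOne_not_mem_of_gen (𝒮.deg V hV) (hgen V hV) y
  let jj : ((g ⁻¹ᵁ (p ⁻¹ᵁ V) : X.Opens) : Scheme.{u}) ⟶ Proj (𝒮.deg V hV) :=
    (g ∣_ (p ⁻¹ᵁ V)) ≫ (chart V hV).hom
  have hw : jj ≫ RelProj.emb p chart V hV = (g ⁻¹ᵁ (p ⁻¹ᵁ V)).ι ≫ g := by
    unfold RelProj.emb
    rw [Category.assoc, Iso.hom_inv_id_assoc, morphismRestrict_ι]
  have hN : PicF.IsInvertible (O1.restrict (RelProj.emb p chart V hV)) :=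
    Groth.Agent.Lib.Helper23.RestrJ.isInvertible_restrict (RelProj.emb p chart V hV) O1 hO1inv
  refine ⟨Proj (𝒮.deg V hV), O1.restrict (RelProj.emb p chart V hV), jj, ?_, hN, ?_, ?_⟩
  · intro hemb
    have h1 : Topology.IsEmbedding (g ∣_ (p ⁻¹ᵁ V)).base := by
      rw [morphismRestrict_base]
      exact hemb.restrictPreimage _
    have h2 : Topology.IsEmbedding (chart V hV).hom.base :=
      (chart V hV).hom.homeomorph.isEmbedding
    exact h2.comp h1
  · exact ⟨pullbackRestrictIso' g O1 (g ⁻¹ᵁ (p ⁻¹ᵁ V)).ι (RelProj.emb p chart V hV) jj hw⟩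
  · intro y
    obtain ⟨t, ht, hty⟩ := hcov y
    obtain ⟨σ, hσ⟩ := exists_section_genLocus_eq_basicOpen p chart 1 O1 lam hO1 V hV hcov t ht
    refine ⟨secHom _ σ, ?_, ?_⟩
    · rw [hσ]
      exact (ProjectiveSpectrum.mem_basicOpen _ t y).mpr hty
    · rw [hσ]
      exact Proj.isAffineOpen_basicOpen (𝒮.deg V hV) t ht one_pos

end chartDataExplicit

end Groth.Agent.Lib.R2H3.VeryAmpleData
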