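import Mathlib

/-!
# Products of valuation rings have weak dimension at most one (helper3, round 2)

* `flat_ideal_of_fg_flat`: if every finitely generated ideal is flat then every ideal is flat.
* `flat_span_singleton_pi`: principal ideals of a product of domains are flat.
* `flat_ideal_pi_valuationRing`: every ideal of a product of valuation rings is flat.
-/

set_option autoImplicit false
set_option linter.style.haveILetI false
universe u v

namespace Groth.Agent.Lib.R2H3.WeakDimOne

open TensorProduct

theorem flat_ideal_of_fg_flat {R : Type u} [CommRing R]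
    (h : ∀ I : Ideal R, I.FG → Module.Flat R I) (J : Ideal R) : Module.Flat R J := by
  rw [Module.Flat.iff_rTensor_injective]
  intro I hI
  haveI := h I hI
  have h1 : Function.Injective (J.subtype.lTensor I) :=
    Module.Flat.lTensor_preserves_injective_linearMap _ J.subtype_injective
  have h2 : Function.Injective (I.subtype.rTensor R) :=
    Module.Flat.rTensor_preserves_injective_linearMap _ I.subtype_injective
  have h3 : (J.subtype.lTensor R) ∘ₗ (I.subtype.rTensor J) =
      (I.subtype.rTensor R) ∘ₗ (J.subtype.lTensor I) := by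
    rw [LinearMap.lTensor_comp_rTensor, LinearMap.rTensor_comp_lTensor]
  have h4 : Function.Injective ((J.subtype.lTensor R) ∘ₗ (I.subtype.rTensor J)) := by
    rw [h3]
    exact h2.comp h1
  exact Function.Injective.of_comp h4

section pi

variable {ι : Type v} (R : ι → Type u) [∀ i, CommRing (R i)] [∀ i, IsDomain (R i)]

/-- principal ideals of a product of domains are flat (they are direct summands) -/
theorem flat_span_singleton_pi (v : ∀ i, R i) :
    Module.Flat (∀ i, R i) (Ideal.span {v} : Ideal (∀ i, R i)) := by
  classical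
  let e : (∀ i, R i) := fun i => if v i = 0 then 0 else 1
  have hev : e * v = v := by
    funext i
    by_cases h : v i = 0
    · simp [e, h]
    · simp [e, h]
  let r : (∀ i, R i) →ₗ[∀ i, R i] (Ideal.span {v} : Ideal (∀ i, R i)) :=
    (LinearMap.toSpanSingleton (∀ i, R i) (∀ i, R i) v).codRestrict (Ideal.span {v})
      (fun w => Ideal.mem_span_singleton'.2 ⟨w, rfl⟩)
  have hr_apply : ∀ w, (r w : ∀ i, R i) = w * v := fun w => rfl
  have hr : Function.Surjective r := by
    rintro ⟨y, hy⟩
    obtain ⟨w, rfl⟩ := Ideal.mem_span_singleton'.1 hy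
    exact ⟨w, rfl⟩
  let m : (∀ i, R i) →ₗ[∀ i, R i] (∀ i, R i) := LinearMap.mulLeft (∀ i, R i) e
  have hle : LinearMap.ker r ≤ LinearMap.ker m := by
    intro w hw
    rw [LinearMap.mem_ker] at hw ⊢
    have hw' : w * v = 0 := by
      have := congrArg Subtype.val hw
      exact this
    funext i
    change e i * w i = 0
    by_cases h : v i = 0
    · simp [e, h]
    · have h2 : w i * v i = 0 := congrFun hw' i
      rcases mul_eq_zero.1 h2 with h3 | h3
      · rw [h3, mul_zero]
      · exact absurd h3 h
  let s : (Ideal.span {v} : Ideal (∀ i, R i)) →ₗ[∀ i, R i] (∀ i, R i) :=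
    (Submodule.liftQ (LinearMap.ker r) m hle) ∘ₗ
      (r.quotKerEquivOfSurjective hr).symm.toLinearMap
  have hs : ∀ w, s (r w) = e * w := by
    intro w
    have h1 : (r.quotKerEquivOfSurjective hr).symm (r w) = Submodule.Quotient.mk w := by
      rw [LinearEquiv.symm_apply_eq, LinearMap.quotKerEquivOfSurjective_apply_mk]
    change (Submodule.liftQ (LinearMap.ker r) m hle) ((r.quotKerEquivOfSurjective hr).symm (r w)) = _
    rw [h1, Submodule.liftQ_apply]
    rfl
  have hrs : r.comp s = LinearMap.id := by
    refine LinearMap.ext fun y => Subtype.ext ?_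
    obtain ⟨w, rfl⟩ := hr y
    change ((r (s (r w)) : ∀ i, R i)) = (r w : ∀ i, R i)
    rw [hs, hr_apply, hr_apply, mul_comm e w, mul_assoc, hev]
  exact Module.Flat.of_retract s r hrs

end pi

section bezout

variable {ι : Type v} (R : ι → Type u) [∀ i, CommRing (R i)] [∀ i, IsDomain (R i)]
  [∀ i, ValuationRing (R i)]

theorem isBezout_pi_valuationRing : IsBezout (∀ i, R i) := by
  classical
  rw [IsBezout.iff_span_pair_isPrincipal]
  intro a b
  have hdiv : ∀ i, a i ∣ b i ∨ b i ∣ a i := fun i => ValuationRing.dvd_total (a i) (b i)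
  let c : ∀ i, R i := fun i => if a i ∣ b i then a i else b i
  have hac : ∀ i, c i ∣ a i := by
    intro i
    by_cases h : a i ∣ b i
    · simp only [c, h, if_true]
      exact dvd_rfl
    · simp only [c, h, if_false]
      exact (hdiv i).resolve_left h
  have hbc : ∀ i, c i ∣ b i := by
    intro i
    by_cases h : a i ∣ b i
    · simp only [c, h, if_true]
    · simp only [c, h, if_false]
      exact dvd_rfl
  choose x hx using hac
  choose y hy using hbc
  let e : ∀ i, R i := fun i => if a i ∣ b i then 1 else 0
  have hc : c = e * a + (1 - e) * b := by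
    funext i
    by_cases h : a i ∣ b i
    · simp [c, e, h]
    · simp [c, e, h]
  refine ⟨⟨c, ?_⟩⟩
  apply le_antisymm
  · change Ideal.span {a, b} ≤ Ideal.span {c}
    rw [Ideal.span_le]
    intro z hz
    rcases hz with rfl | hz
    · exact Ideal.mem_span_singleton'.2 ⟨x, by funext i; rw [Pi.mul_apply, mul_comm, ← hx i]⟩
    · rw [Set.mem_singleton_iff] at hz
      subst hz
      exact Ideal.mem_span_singleton'.2 ⟨y, by funext i; rw [Pi.mul_apply, mul_comm, ← hy i]⟩
  · change Ideal.span {c} ≤ Ideal.span {a, b}
    rw [Ideal.span_singleton_le_iff_mem, hc]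
    exact Ideal.add_mem _ (Ideal.mul_mem_left _ _ (Ideal.subset_span (Set.mem_insert _ _)))
      (Ideal.mul_mem_left _ _ (Ideal.subset_span (Set.mem_insert_of_mem _ rfl)))

/-- every ideal of a product of valuation rings is flat -/
theorem flat_ideal_pi_valuationRing (J : Ideal (∀ i, R i)) : Module.Flat (∀ i, R i) J := by
  haveI := isBezout_pi_valuationRing R
  refine flat_ideal_of_fg_flat (fun I hI => ?_) J
  obtain ⟨⟨v, hv⟩⟩ := IsBezout.isPrincipal_of_FG I hI
  rw [hv]
  exact flat_span_singleton_pi R v

end bezout

end Groth.Agent.Lib.R2H3.WeakDimOne
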