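import Mathlib
import Groth.Agent.Lib.R2H3WeilBase

/-!
# Finite sets of points in fibres of separated locally quasi-finite morphisms

For `f : X ⟶ S` separated, locally quasi-finite and locally of finite type, finitely many points of
`X` over a common point of `S` lie in an affine open of `X` (via Zariski's main theorem: a
quasi-compact open of `X` over an affine open of `S` is quasi-affine).
-/

universe u

set_option linter.style.haveILetI false

open CategoryTheory CategoryTheory.Limits AlgebraicGeometry Opposite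

namespace Groth.Agent.Lib.R2H3.WeilQF

open Groth.Agent.Lib.R2H3.WeilBase

/-- finitely many points of a quasi-affine scheme lie in an affine open. -/
lemma exists_affine_of_quasiAffine {U : Scheme.{u}} [U.IsQuasiAffine] (F : Set U) (hF : F.Finite) :
    ∃ U₂ : U.Opens, IsAffineOpen U₂ ∧ F ⊆ U₂ := by
  let j := U.toSpecΓ
  obtain ⟨U₁, hU₁, hU₁O, hFU₁⟩ := exists_affine_le (X := Spec Γ(U, ⊤)) ⊤ (isAffineOpen_top _)
    j.opensRange (j '' F) (hF.image _) (fun _ _ => trivial)
    (by rintro _ ⟨y, -, rfl⟩; exact ⟨y, rfl⟩)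
  exact ⟨j ⁻¹ᵁ U₁, hU₁.preimage_of_isOpenImmersion j hU₁O, fun y hy => hFU₁ ⟨y, hy, rfl⟩⟩

theorem af_of_separated_lqf {X S : Scheme.{u}} (f : X ⟶ S) [IsSeparated f] [LocallyQuasiFinite f]
    [LocallyOfFiniteType f] :
    ∀ (s : S) (d : ℕ) (x : Fin d → X), (∀ k, f (x k) = s) →
      ∃ U : X.Opens, IsAffineOpen U ∧ ∀ k, x k ∈ U := by
  intro s d x hx
  obtain ⟨_, ⟨V₀, hV, rfl⟩, hsV, -⟩ := S.isBasis_affineOpens.exists_subset_of_mem_open
    (Set.mem_univ s) isOpen_univ
  let V : S.Opens := V₀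
  replace hV : IsAffineOpen V := hV
  replace hsV : s ∈ V := hsV
  have key : ∀ k, ∃ Uk : X.Opens, IsAffineOpen Uk ∧ x k ∈ Uk ∧ Uk ≤ f ⁻¹ᵁ V := by
    intro k
    have hk : x k ∈ f ⁻¹ᵁ V := by
      change f (x k) ∈ V
      rw [hx k]
      exact hsV
    obtain ⟨_, ⟨Uk, hUk, rfl⟩, hxUk, hle⟩ :=
      X.isBasis_affineOpens.exists_subset_of_mem_open hk (f ⁻¹ᵁ V).2
    exact ⟨Uk, hUk, hxUk, hle⟩
  choose Uk hUk hxUk hle using key
  let U : X.Opens := ⨆ k, Uk k
  have hUle : U ≤ f ⁻¹ᵁ V := iSup_le hle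
  have hUc : IsCompact (U : Set X) := by
    rw [TopologicalSpace.Opens.coe_iSup]
    exact isCompact_iUnion (fun k => (hUk k).isCompact)
  let u : U.toScheme ⟶ V.toScheme := f.resLE V U hUle
  haveI : IsAffine V.toScheme := hV
  haveI : CompactSpace U.toScheme := isCompact_iff_compactSpace.1 hUc
  haveI : QuasiCompact u := by
    rw [HasAffineProperty.iff_of_isAffine (P := @QuasiCompact)]
    infer_instance
  haveI : IsOpenImmersion u.toNormalization := inferInstance
  haveI : IsAffine u.normalization := isAffine_of_isAffineHom u.fromNormalization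
  haveI : U.toScheme.IsQuasiAffine := Scheme.IsQuasiAffine.of_isImmersion u.toNormalization
  have hxU : ∀ k, x k ∈ U := fun k => TopologicalSpace.Opens.mem_iSup.2 ⟨k, hxUk k⟩
  obtain ⟨U₂, hU₂, hFU₂⟩ := exists_affine_of_quasiAffine (U := U.toScheme)
    (Set.range (fun k => (⟨x k, hxU k⟩ : U.toScheme))) (Set.finite_range _)
  refine ⟨U.ι ''ᵁ U₂, hU₂.image_of_isOpenImmersion U.ι, fun k => ?_⟩
  exact ⟨⟨x k, hxU k⟩, hFU₂ ⟨k, rfl⟩, rfl⟩

end Groth.Agent.Lib.R2H3.WeilQF
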