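import Mathlib

/-!
# Constructible partitions on spectral spaces

If every point `x` of a spectral space has a constructible set `C x ∋ x` on which a function `φ` is
constant, then the level sets of `φ` are constructible and `φ` takes finitely many values.
(Compactness of the constructible topology.)
-/

set_option autoImplicit false

namespace Groth.Agent.Lib.R2H3.WtConsA

open Topology TopologicalSpace Set

variable {X : Type*} [TopologicalSpace X]

/-- constructible sets are open (and closed) in the constructible topology. -/
theorem isOpen_constructibleTopology_of_isConstructible [CompactSpace X] {s : Set X}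
    (hs : IsConstructible s) :
    IsOpen[constructibleTopology X] s ∧ IsOpen[constructibleTopology X] sᶜ := by
  induction hs using IsConstructible.empty_union_induction with
  | open_retrocompact U hUo hUc =>
    refine ⟨hUc.isCompact.isOpen_constructibleTopology_of_isOpen hUo, ?_⟩
    refine IsCompact.isOpen_constructibleTopology_of_isClosed ?_ hUo.isClosed_compl
    rw [compl_compl]
    exact hUc.isCompact
  | union s hs t ht ihs iht =>
    refine ⟨@IsOpen.union X s t (constructibleTopology X) ihs.1 iht.1, ?_⟩
    rw [compl_union]
    exact @IsOpen.inter X (constructibleTopology X) sᶜ tᶜ ihs.2 iht.2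
  | compl s hs ihs =>
    refine ⟨ihs.2, ?_⟩
    rw [compl_compl]
    exact ihs.1

theorem compactSpace_constructibleTopology [CompactSpace X] [QuasiSober X] [PrespectralSpace X]
    [QuasiSeparatedSpace X] : @CompactSpace X (constructibleTopology X) :=
  @Function.Surjective.compactSpace (WithConstructibleTopology X) X _ (constructibleTopology X)
    WithTopology.ofTopology (WithTopology.continuous_ofTopology _) inferInstance
    (WithTopology.ofTopology_surjective _)

/-- a cover of a spectral space by constructible sets has a finite subcover. -/
theorem exists_finset_cover [CompactSpace X] [QuasiSober X] [PrespectralSpace X]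
    [QuasiSeparatedSpace X] {ι : Type*} (C : ι → Set X) (hC : ∀ i, IsConstructible (C i))
    (hcov : ∀ x, ∃ i, x ∈ C i) : ∃ t : Finset ι, ∀ x, ∃ i ∈ t, x ∈ C i := by
  have := compactSpace_constructibleTopology (X := X)
  have h := @IsCompact.elim_finite_subcover X (constructibleTopology X) univ ι
    (@isCompact_univ X (constructibleTopology X) _) C
    (fun i => (isOpen_constructibleTopology_of_isConstructible (hC i)).1)
    (fun x _ => by obtain ⟨i, hi⟩ := hcov x; exact mem_iUnion.mpr ⟨i, hi⟩)
  obtain ⟨t, ht⟩ := h
  refine ⟨t, fun x => ?_⟩
  have := ht (mem_univ x)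
  simp only [mem_iUnion, exists_prop] at this
  exact this

/-- if a function on a spectral space is constant on a constructible set around every point, then its
level sets are constructible and it takes finitely many values. -/
theorem isConstructible_level [CompactSpace X] [QuasiSober X] [PrespectralSpace X]
    [QuasiSeparatedSpace X] {α : Type*} (φ : X → α)
    (H : ∀ x, ∃ C : Set X, IsConstructible C ∧ x ∈ C ∧ ∀ y ∈ C, φ y = φ x) :
    (∀ a : α, IsConstructible (φ ⁻¹' {a})) ∧ (range φ).Finite := by
  classical
  choose C hC hx hφ using H
  obtain ⟨t, ht⟩ := exists_finset_cover C hC (fun x => ⟨x, hx x⟩)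
  constructor
  · intro a
    have : φ ⁻¹' {a} = ⋃ x ∈ (↑(t.filter (fun x => φ x = a)) : Set X), C x := by
      ext y
      simp only [mem_preimage, mem_singleton_iff, Finset.coe_filter, mem_ofPred_eq, mem_iUnion,
        exists_prop]
      constructor
      · intro hy
        obtain ⟨x, hxt, hyx⟩ := ht y
        exact ⟨x, ⟨hxt, by rw [← hφ x y hyx, hy]⟩, hyx⟩
      · rintro ⟨x, ⟨-, hxa⟩, hyx⟩
        rw [hφ x y hyx, hxa]
    rw [this]
    exact IsConstructible.biUnion (Finset.finite_toSet _) (fun x _ => hC x)
  · refine (t.finite_toSet.image φ).subset ?_
    rintro _ ⟨y, rfl⟩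
    obtain ⟨x, hxt, hyx⟩ := ht y
    exact ⟨x, hxt, (hφ x y hyx).symm⟩

end Groth.Agent.Lib.R2H3.WtConsA
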