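import Mathlib

/-!
# Algebraic core: spreading out radicial fibres along a constructible set

`A → B` of finite type, `q` the unique prime of `B` over the prime `p` of `A` with purely
inseparable residue field extension.  Then there are `s ∉ p` and finitely many `c ∈ p` such that
for every domain-valued point of `A` which is nonzero on `s` and kills the `c`, there is at most
one extension to `B`.
-/

set_option autoImplicit false
set_option linter.style.haveILetI false

universe u

namespace Groth.Agent.Lib.R2H3.WtConsB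

/-- an element of the unique prime over `p` is nilpotent modulo `pB` after inverting something
outside `p`. -/
theorem exists_pow_mem_map {A B : Type*} [CommRing A] [CommRing B] [Algebra A B]
    (p : Ideal A) [p.IsPrime] (q : Ideal B)
    (hq : ∀ q' : Ideal B, q'.IsPrime → q'.comap (algebraMap A B) = p → q' = q)
    (x : B) (hx : x ∈ q) :
    ∃ (M : ℕ) (t : A), t ∉ p ∧ algebraMap A B t * x ^ M ∈ Ideal.map (algebraMap A B) p := by
  by_contra hcon
  push Not at hcon
  let S : Submonoid B := Submonoid.map (algebraMap A B) p.primeCompl ⊔ Submonoid.powers x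
  have hdisj : Disjoint (Ideal.map (algebraMap A B) p : Set B) (S : Set B) := by
    rw [Set.disjoint_left]
    intro y hy hyS
    obtain ⟨y₁, hy₁, y₂, hy₂, rfl⟩ := Submonoid.mem_sup.mp hyS
    obtain ⟨t, ht, rfl⟩ := Submonoid.mem_map.mp hy₁
    obtain ⟨M, rfl⟩ := (Submonoid.mem_powers_iff _ _).mp hy₂
    exact hcon M t ht hy
  obtain ⟨q', hq'prime, hq'le, hq'disj⟩ := Ideal.exists_le_prime_disjoint _ S hdisj
  have hcomap : q'.comap (algebraMap A B) = p := by
    apply le_antisymm
    · intro t ht
      by_contra htp
      have h1 : algebraMap A B t ∈ S :=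
        Submonoid.mem_sup_left (Submonoid.mem_map.mpr ⟨t, htp, rfl⟩)
      exact Set.disjoint_left.mp hq'disj ht h1
    · intro t ht
      exact hq'le (Ideal.mem_map_of_mem _ ht)
  have := hq q' hq'prime hcomap
  subst this
  have h1 : x ∈ S := Submonoid.mem_sup_right (Submonoid.mem_powers x)
  exact Set.disjoint_left.mp hq'disj hx h1

/-- elements of `pB` lie in `JB` for a finitely generated `J ≤ p`. -/
theorem exists_finset_of_mem_map {A B : Type*} [CommRing A] [CommRing B] [Algebra A B]
    (p : Ideal A) (y : B) (hy : y ∈ Ideal.map (algebraMap A B) p) :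
    ∃ c : Finset A, (∀ x ∈ c, x ∈ p) ∧ y ∈ Ideal.span ((algebraMap A B) '' (c : Set A)) := by
  classical
  rw [Ideal.map] at hy
  obtain ⟨T, hT, hyT⟩ := Submodule.mem_span_finite_of_mem_span hy
  obtain ⟨c, hc, rfl⟩ := Finset.subset_set_image_iff.mp hT
  refine ⟨c, fun x hx => hc hx, ?_⟩
  rw [Finset.coe_image] at hyT
  exact hyT

theorem main {A B : Type u} [CommRing A] [CommRing B] [Algebra A B] [Algebra.FiniteType A B]
    (p : Ideal A) [p.IsPrime] (q : Ideal B)
    (hq : ∀ q' : Ideal B, q'.IsPrime → q'.comap (algebraMap A B) = p → q' = q)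
    (e : ℕ) (he : e = 1 ∨ (e.Prime ∧ (e : A) ∈ p))
    (hPI : ∀ b : B, ∃ (n : ℕ) (a s : A), s ∉ p ∧
      algebraMap A B s * b ^ (e ^ n) - algebraMap A B a ∈ q) :
    ∃ (s : A) (c : Finset A), s ∉ p ∧ (∀ x ∈ c, x ∈ p) ∧
      ∀ (Ω : Type u) [CommRing Ω] [IsDomain Ω] (φ ψ : B →+* Ω),
        φ.comp (algebraMap A B) = ψ.comp (algebraMap A B) →
        φ (algebraMap A B s) ≠ 0 → (∀ x ∈ c, φ (algebraMap A B x) = 0) → φ = ψ := by
  classical
  obtain ⟨T, hT⟩ := (Algebra.FiniteType.out : (⊤ : Subalgebra A B).FG)
  choose n a s hs hx using hPI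
  choose M t ht htx using fun b : B => exists_pow_mem_map p q hq _ (hx b)
  choose c hcp hc using fun b : B => exists_finset_of_mem_map p _ (htx b)
  let s₀ : A := ∏ b ∈ T, (s b * t b)
  let c₀ : Finset A := (T.biUnion c) ∪ (if e = 1 then ∅ else {(e : A)})
  refine ⟨s₀, c₀, ?_, ?_, ?_⟩
  · intro h
    obtain ⟨b, -, hb⟩ := (Ideal.IsPrime.prod_mem_iff.mp h)
    rcases Ideal.IsPrime.mem_or_mem inferInstance hb with h1 | h1
    · exact hs b h1
    · exact ht b h1
  · intro x hx
    rcases Finset.mem_union.mp hx with h1 | h1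
    · obtain ⟨b, -, hb⟩ := Finset.mem_biUnion.mp h1
      exact hcp b x hb
    · rcases he with he | ⟨-, he⟩
      · simp [he] at h1
      · split_ifs at h1 with h2
        · simp at h1
        · rw [Finset.mem_singleton.mp h1]
          exact he
  · intro Ω _ _ φ ψ hφψ hφs hφc
    have hA : ∀ r : A, φ (algebraMap A B r) = ψ (algebraMap A B r) := fun r =>
      congrArg (fun f => f r) hφψ
    -- the key relation on generators
    have hkey : ∀ θ : B →+* Ω, (∀ r : A, θ (algebraMap A B r) = φ (algebraMap A B r)) →
        ∀ b ∈ T, θ (algebraMap A B (s b)) * θ b ^ (e ^ n b) = θ (algebraMap A B (a b)) := by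
      intro θ hθ b hb
      have hker : Ideal.span ((algebraMap A B) '' (c b : Set A)) ≤ RingHom.ker θ := by
        rw [Ideal.span_le]
        rintro _ ⟨r, hr, rfl⟩
        rw [SetLike.mem_coe, RingHom.mem_ker, hθ]
        exact hφc r (Finset.mem_union_left _ (Finset.mem_biUnion.mpr ⟨b, hb, hr⟩))
      have h0 := hker (hc b)
      rw [RingHom.mem_ker, map_mul, map_pow, map_sub, map_mul, map_pow] at h0
      have htne : θ (algebraMap A B (t b)) ≠ 0 := by
        rw [hθ]
        intro h
        apply hφs
        rw [map_prod, map_prod]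
        apply Finset.prod_eq_zero hb
        rw [map_mul, map_mul, h, mul_zero]
      rcases mul_eq_zero.mp h0 with h1 | h1
      · exact absurd h1 htne
      · have hM : M b ≠ 0 := fun hM => by
          rw [hM, pow_zero] at h1; exact one_ne_zero h1
        exact sub_eq_zero.mp ((pow_eq_zero_iff hM).mp h1)
    have h1 := hkey φ (fun _ => rfl)
    have h2 := hkey ψ (fun r => (hA r).symm)
    have hgen : ∀ b ∈ T, φ b = ψ b := by
      intro b hb
      have hsne : φ (algebraMap A B (s b)) ≠ 0 := by
        intro h
        apply hφs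
        rw [map_prod, map_prod]
        apply Finset.prod_eq_zero hb
        rw [map_mul, map_mul, h, zero_mul]
      have e1 : φ b ^ (e ^ n b) = ψ b ^ (e ^ n b) := by
        have := (h1 b hb).trans ((hA _).trans (h2 b hb).symm)
        rw [← hA] at this
        exact mul_left_cancel₀ hsne this
      rcases he with he | ⟨hep, hemem⟩
      · rw [he, one_pow, pow_one, pow_one] at e1
        exact e1
      · have hne1 : e ≠ 1 := hep.ne_one
        have he0 : ((e : ℕ) : Ω) = 0 := by
          have := hφc (e : A) (Finset.mem_union_right _ (by simp [hne1]))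
          rwa [map_natCast, map_natCast] at this
        haveI : Fact e.Prime := ⟨hep⟩
        haveI : CharP Ω e := by
          have := CharP.ringChar_of_prime_eq_zero hep he0
          rw [← this]
          exact ringChar.charP Ω
        have := sub_pow_char_pow (R := Ω) (p := e) (n := n b) (x := φ b) (y := ψ b)
        rw [e1, sub_self] at this
        exact sub_eq_zero.mp (pow_eq_zero_iff (pow_ne_zero _ hep.ne_zero) |>.mp this)
    -- conclude by generation
    letI : Algebra A Ω := (φ.comp (algebraMap A B)).toAlgebra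
    let φ' : B →ₐ[A] Ω := { φ with commutes' := fun r => rfl }
    let ψ' : B →ₐ[A] Ω := { ψ with commutes' := fun r => (hA r).symm }
    have : φ' = ψ' := AlgHom.ext_of_adjoin_eq_top hT (fun b hb => hgen b hb)
    ext b
    exact congrArg (fun f => f b) this

end Groth.Agent.Lib.R2H3.WtConsB
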