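import Mathlib
import Groth.Prelude.Def_MoreMor
import Groth.Agent.Lib.Helper2Weight
import Groth.Agent.Lib.R2H3WtConsB

/-!
# Spreading out radicial fibres: affine scheme version
-/

set_option autoImplicit false
set_option linter.style.haveILetI false

universe u

namespace Groth.Agent.Lib.R2H3.WtConsC

open AlgebraicGeometry CategoryTheory Limits IsLocalRing
open Groth.Agent.Lib.Helper2.Weight

/-- every prime of the coordinate ring of an affine scheme is the prime of a point. -/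
theorem exists_point_of_prime {X : Scheme.{u}} [IsAffine X] (q : Ideal Γ(X, ⊤)) [q.IsPrime] :
    ∃ x : X, ∀ a : Γ(X, ⊤), a ∈ q ↔ x ∉ X.basicOpen a := by
  refine ⟨X.isoSpec.inv ⟨q, inferInstance⟩, fun a => ?_⟩
  rw [← Scheme.toSpecΓ_preimage_basicOpen, ← Scheme.isoSpec_hom]
  change a ∈ q ↔ ¬ (X.isoSpec.hom (X.isoSpec.inv ⟨q, inferInstance⟩) ∈ PrimeSpectrum.basicOpen a)
  rw [← Scheme.Hom.comp_apply, Iso.inv_hom_id]
  change a ∈ q ↔ ¬ (a ∉ q)
  rw [not_not]

/-- points of an affine scheme are separated by basic opens. -/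
theorem eq_of_basicOpen {X : Scheme.{u}} [IsAffine X] (x x' : X)
    (h : ∀ a : Γ(X, ⊤), x ∈ X.basicOpen a ↔ x' ∈ X.basicOpen a) : x = x' := by
  apply Inseparable.eq
  rw [(isBasis_basicOpen X).inseparable_iff]
  rintro _ ⟨_, ⟨a, rfl⟩, rfl⟩
  exact h a

/-- every element of the residue field of a point of an affine scheme is a fraction of global
functions. -/
theorem exists_frac {V : Scheme.{u}} [IsAffine V] (v : V) (y : V.residueField v) :
    ∃ a s : Γ(V, ⊤), v ∈ V.basicOpen s ∧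
      y * (V.Γevaluation v).hom s = (V.Γevaluation v).hom a := by
  obtain ⟨g, rfl⟩ := IsLocalRing.residue_surjective (R := V.presheaf.stalk v) y
  let v' : (⊤ : V.Opens) := ⟨v, trivial⟩
  letI : Algebra Γ(V, ⊤) (V.presheaf.stalk v) :=
    TopCat.Presheaf.algebra_section_stalk V.presheaf (⟨v, trivial⟩ : (⊤ : V.Opens))
  haveI : IsLocalization.AtPrime (V.presheaf.stalk v)
      ((isAffineOpen_top V).primeIdealOf v').asIdeal :=
    IsAffineOpen.isLocalization_stalk (isAffineOpen_top V) v'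
  obtain ⟨⟨a, s⟩, hs⟩ := IsLocalization.surj
    ((isAffineOpen_top V).primeIdealOf v').asIdeal.primeCompl g
  have hunit : IsUnit (algebraMap Γ(V, ⊤) (V.presheaf.stalk v) s.1) :=
    IsLocalization.map_units (M := ((isAffineOpen_top V).primeIdealOf v').asIdeal.primeCompl)
      (V.presheaf.stalk v) s
  refine ⟨a, s.1, ?_, ?_⟩
  · rw [← Scheme.evaluation_ne_zero_iff_mem_basicOpen V v (U := ⊤) trivial]
    exact (hunit.map (IsLocalRing.residue _)).ne_zero
  · have := congrArg (IsLocalRing.residue (V.presheaf.stalk v)) hs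
    rw [map_mul] at this
    exact this

/-- nonvanishing of a function at the image of a field-valued point. -/
theorem appTop_ne_zero_of_mem {V : Scheme.{u}} {Ω : Type u} [Field Ω] (a : Spec (.of Ω) ⟶ V)
    (s : Γ(V, ⊤)) (h : a (closedPoint Ω) ∈ V.basicOpen s) :
    (Scheme.ΓSpecIso (.of Ω)).hom.hom (a.appTop.hom s) ≠ 0 := by
  intro h0
  have h1 : a.appTop.hom s = 0 := by
    have := congrArg (Scheme.ΓSpecIso (.of Ω)).inv.hom h0
    rw [map_zero] at this
    rw [← this]
    exact (congrArg (fun f => f.hom (a.appTop.hom s)) (Scheme.ΓSpecIso (.of Ω)).hom_inv_id).symm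
  have h2 : closedPoint Ω ∈ a ⁻¹ᵁ V.basicOpen s := h
  rw [Scheme.preimage_basicOpen_top] at h2
  have h3 : (Spec (.of Ω)).basicOpen (a.appTop.hom s) = ⊥ := by
    rw [h1]; exact Scheme.basicOpen_zero _ _
  change closedPoint Ω ∈ (Spec (.of Ω)).basicOpen (a.appTop.hom s) at h2
  rw [h3] at h2
  exact h2

/-- vanishing of a function at the image of a field-valued point. -/
theorem appTop_eq_zero_of_notMem {V : Scheme.{u}} {Ω : Type u} [Field Ω] (a : Spec (.of Ω) ⟶ V)
    (s : Γ(V, ⊤)) (h : a (closedPoint Ω) ∉ V.basicOpen s) :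
    (Scheme.ΓSpecIso (.of Ω)).hom.hom (a.appTop.hom s) = 0 := by
  by_contra h0
  apply h
  have hu : IsUnit ((Scheme.ΓSpecIso (.of Ω)).hom.hom (a.appTop.hom s)) := Ne.isUnit h0
  have hu' : IsUnit (a.appTop.hom s) := by
    have := hu.map (Scheme.ΓSpecIso (.of Ω)).inv.hom
    have e : (Scheme.ΓSpecIso (.of Ω)).inv.hom ((Scheme.ΓSpecIso (.of Ω)).hom.hom
        (a.appTop.hom s)) = a.appTop.hom s :=
      congrArg (fun f => f.hom (a.appTop.hom s)) (Scheme.ΓSpecIso (.of Ω)).hom_inv_id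
    rwa [e] at this
  change closedPoint Ω ∈ a ⁻¹ᵁ V.basicOpen s
  rw [Scheme.preimage_basicOpen_top]
  change closedPoint Ω ∈ (Spec (.of Ω)).basicOpen (a.appTop.hom s)
  rw [Scheme.basicOpen_of_isUnit _ hu']
  trivial

theorem exists_radicial_data {U V : Scheme.{u}} [IsAffine U] [IsAffine V] (π : U ⟶ V)
    [LocallyOfFiniteType π] [LocallyQuasiFinite π] (z : U)
    (huniq : ∀ z' : U, π z' = π z → z' = z) (hsd : sd π z = 1) :
    ∃ (s : Γ(V, ⊤)) (c : Finset Γ(V, ⊤)), π z ∈ V.basicOpen s ∧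
      (∀ x ∈ c, π z ∉ V.basicOpen x) ∧
      ∀ (Ω : Type u) [Field Ω] (t₁ t₂ : Spec (.of Ω) ⟶ U), t₁ ≫ π = t₂ ≫ π →
        (t₁ ≫ π) (closedPoint Ω) ∈ V.basicOpen s →
        (∀ x ∈ c, (t₁ ≫ π) (closedPoint Ω) ∉ V.basicOpen x) → t₁ = t₂ := by
  set A := Γ(V, ⊤) with hA
  set B := Γ(U, ⊤) with hB
  set φ : A →+* B := π.appTop.hom with hφ
  letI : Algebra A B := φ.toAlgebra
  haveI : Algebra.FiniteType A B :=
    (HasRingHomProperty.iff_of_isAffine (P := @LocallyOfFiniteType)).mp ‹_›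
  set v := π z with hv
  let p : Ideal A := RingHom.ker (V.Γevaluation v).hom
  let q : Ideal B := RingHom.ker (U.Γevaluation z).hom
  haveI : p.IsPrime := RingHom.ker_isPrime _
  have hp : ∀ a : A, a ∈ p ↔ v ∉ V.basicOpen a := fun a => by
    rw [RingHom.mem_ker]
    exact Scheme.evaluation_eq_zero_iff_notMem_basicOpen V v (U := ⊤) trivial a
  have hqm : ∀ b : B, b ∈ q ↔ z ∉ U.basicOpen b := fun b => by
    rw [RingHom.mem_ker]
    exact Scheme.evaluation_eq_zero_iff_notMem_basicOpen U z (U := ⊤) trivial b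
  have hpre : ∀ (z' : U) (a : A), π z' ∈ V.basicOpen a ↔ z' ∈ U.basicOpen (φ a) := by
    intro z' a
    change z' ∈ π ⁻¹ᵁ V.basicOpen a ↔ _
    rw [Scheme.preimage_basicOpen_top]
  -- uniqueness of the prime over `p`
  have hq : ∀ q' : Ideal B, q'.IsPrime → q'.comap (algebraMap A B) = p → q' = q := by
    intro q' hq' hcomap
    obtain ⟨z', hz'⟩ := exists_point_of_prime q'
    have hz'v : π z' = v := by
      apply eq_of_basicOpen
      intro a
      rw [hpre z' a, ← not_iff_not, ← hz' (φ a), ← hp a, ← hcomap]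
      rfl
    have := huniq z' hz'v
    subst this
    ext b
    rw [hz' b, hqm b]
  -- the exponential characteristic
  letI alg : Algebra (V.residueField v) (U.residueField z) := (π.residueFieldMap z).hom.toAlgebra
  haveI : Module.Finite (V.residueField v) (U.residueField z) := finite_residue π z
  have hPIns : IsPurelyInseparable (V.residueField v) (U.residueField z) :=
    isPurelyInseparable_of_finSepDegree_eq_one hsd
  obtain ⟨e, he⟩ : ∃ e, e = ringExpChar (V.residueField v) := ⟨_, rfl⟩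
  haveI hexp : ExpChar (V.residueField v) e := he ▸ ringExpChar.expChar _
  have he' : e = 1 ∨ (e.Prime ∧ ((e : ℕ) : A) ∈ p) := by
    rcases hexp with _ | ⟨hprime⟩
    · exact Or.inl rfl
    · refine Or.inr ⟨hprime, ?_⟩
      rw [RingHom.mem_ker, map_natCast]
      exact CharP.cast_eq_zero _ _
  have hPI : ∀ b : B, ∃ (n : ℕ) (a s : A), s ∉ p ∧
      algebraMap A B s * b ^ (e ^ n) - algebraMap A B a ∈ q := by
    intro b
    obtain ⟨n, y, hy⟩ := IsPurelyInseparable.pow_mem (V.residueField v) e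
      ((U.Γevaluation z).hom b)
    obtain ⟨a, s, hs, hys⟩ := exists_frac v y
    refine ⟨n, a, s, fun h => (hp s).mp h hs, ?_⟩
    rw [RingHom.mem_ker, map_sub, map_mul, map_pow, ← hy]
    have h1 : ∀ r : A, (U.Γevaluation z).hom (algebraMap A B r) =
        algebraMap (V.residueField v) (U.residueField z) ((V.Γevaluation v).hom r) := fun r =>
      (Scheme.Γevaluation_naturality_apply π z r).symm
    rw [h1, h1, ← map_mul, ← hys, mul_comm, sub_self]
  obtain ⟨s, c, hs, hc, H⟩ := Groth.Agent.Lib.R2H3.WtConsB.main p q hq e he' hPI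
  refine ⟨s, c, ?_, ?_, ?_⟩
  · by_contra h
    exact hs ((hp s).mpr h)
  · intro x hx
    exact (hp x).mp (hc x hx)
  · intro Ω _ t₁ t₂ ht h1 h2
    apply ext_of_isAffine
    let ψ₁ : B →+* Ω := (Scheme.ΓSpecIso (.of Ω)).hom.hom.comp t₁.appTop.hom
    let ψ₂ : B →+* Ω := (Scheme.ΓSpecIso (.of Ω)).hom.hom.comp t₂.appTop.hom
    have hcomp : ∀ (t : Spec (.of Ω) ⟶ U) (r : A), t.appTop.hom (φ r) = (t ≫ π).appTop.hom r := by
      intro t r
      rw [Scheme.Hom.comp_appTop]
      rfl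
    have e1 : ψ₁.comp (algebraMap A B) = ψ₂.comp (algebraMap A B) := by
      ext r
      change (Scheme.ΓSpecIso (.of Ω)).hom.hom (t₁.appTop.hom (φ r)) =
        (Scheme.ΓSpecIso (.of Ω)).hom.hom (t₂.appTop.hom (φ r))
      rw [hcomp, hcomp, ht]
    have e2 : ψ₁ (algebraMap A B s) ≠ 0 := by
      change (Scheme.ΓSpecIso (.of Ω)).hom.hom (t₁.appTop.hom (φ s)) ≠ 0
      rw [hcomp]
      exact appTop_ne_zero_of_mem _ s h1
    have e3 : ∀ x ∈ c, ψ₁ (algebraMap A B x) = 0 := by
      intro x hx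
      change (Scheme.ΓSpecIso (.of Ω)).hom.hom (t₁.appTop.hom (φ x)) = 0
      rw [hcomp]
      exact appTop_eq_zero_of_notMem _ x (h2 x hx)
    have := H Ω ψ₁ ψ₂ e1 e2 e3
    ext b
    have hb := congrArg (fun f => (Scheme.ΓSpecIso (.of Ω)).inv.hom (f b)) this
    have e : ∀ r : Γ(Spec (.of Ω), ⊤), (Scheme.ΓSpecIso (.of Ω)).inv.hom
        ((Scheme.ΓSpecIso (.of Ω)).hom.hom r) = r := fun r =>
      congrArg (fun f => f.hom r) (Scheme.ΓSpecIso (.of Ω)).hom_inv_id
    simp only [ψ₁, ψ₂, RingHom.comp_apply, e] at hb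
    exact hb

end Groth.Agent.Lib.R2H3.WtConsC
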