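import Mathlib
import Groth.Prelude.Def_MoreMor
import Groth.Agent.Lib.Helper2Weight
import Groth.Agent.Lib.Helper2Weight2
import Groth.Agent.Lib.Helper2Weight3
import Groth.Agent.Lib.R2H3WtConsA
import Groth.Agent.Lib.R2H3WtConsC

/-!
# Level sets of a weighting are locally constructible
-/

set_option autoImplicit false
set_option linter.style.haveILetI false

universe u

namespace Groth.Agent.Lib.R2H3.WtConsD

open AlgebraicGeometry CategoryTheory Limits IsLocalRing Topology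
open Groth.Agent.Lib.Helper2.Weight

section Restrict
variable {X Y V : Scheme.{u}} (f : X ⟶ Y) (gV : V ⟶ Y) (V₁ : V.Opens)

/-- the canonical open immersion `X ×_Y V₁ ⟶ X ×_Y V`. -/
noncomputable def jmap : pullback f (V₁.ι ≫ gV) ⟶ pullback f gV :=
  pullback.map f (V₁.ι ≫ gV) f gV (𝟙 X) V₁.ι (𝟙 Y) (by simp) (by simp)

theorem jmap_fst : jmap f gV V₁ ≫ pullback.fst f gV = pullback.fst f (V₁.ι ≫ gV) := by
  rw [jmap, pullback.lift_fst, Category.comp_id]

theorem jmap_snd : jmap f gV V₁ ≫ pullback.snd f gV = pullback.snd f (V₁.ι ≫ gV) ≫ V₁.ι := by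
  rw [jmap, pullback.lift_snd]

theorem isPullback_jmap :
    IsPullback (jmap f gV V₁) (pullback.snd f (V₁.ι ≫ gV)) (pullback.snd f gV) V₁.ι := by
  refine IsPullback.of_right ?_ (jmap_snd f gV V₁) (IsPullback.of_hasPullback f gV)
  rw [jmap_fst]
  exact IsPullback.of_hasPullback f (V₁.ι ≫ gV)

instance : IsOpenImmersion (jmap f gV V₁) :=
  MorphismProperty.of_isPullback (P := @IsOpenImmersion) (isPullback_jmap f gV V₁).flip
    inferInstance

end Restrict

/-- the étale local structure of a locally quasi-finite morphism at a point, with affine étale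
neighbourhood. -/
theorem exists_local_structure_affine {X Y : Scheme.{u}} (f : X ⟶ Y) [LocallyQuasiFinite f]
    [LocallyOfFiniteType f] (x : X) :
    ∃ (V : Scheme.{u}) (gV : V ⟶ Y) (v : V) (z : ↥(pullback f gV))
      (Uz : (pullback f gV).Opens), IsAffine V ∧ Etale gV ∧ gV v = f x ∧
      pullback.fst f gV z = x ∧
      pullback.snd f gV z = v ∧ z ∈ Uz ∧ IsFinite (Uz.ι ≫ pullback.snd f gV) ∧
      (∀ w' ∈ Uz, pullback.snd f gV w' = v → w' = z) ∧ sd (pullback.snd f gV) z = 1 ∧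
      ∀ w : X → ℤ, fI (pullback.snd f gV) (w ∘ pullback.fst f gV) Uz v = w x := by
  obtain ⟨V, gV, v, z, Uz, hgV, hv, hz1, hz2, hzU, hfin, huniq, hsd, hGv⟩ :=
    exists_local_structure f x
  haveI := hgV
  haveI := hfin
  obtain ⟨_, ⟨(V₁ : V.Opens), hV₁, rfl⟩, hvV₁, -⟩ := V.isBasis_affineOpens.exists_subset_of_mem_open
    (Set.mem_univ v) isOpen_univ
  haveI : IsAffine V₁.toScheme := hV₁
  obtain ⟨v₁, hv₁⟩ : v ∈ Set.range V₁.ι := by rw [Scheme.Opens.range_ι]; exact hvV₁
  set j := jmap f gV V₁ with hj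
  have hc := isPullback_jmap f gV V₁
  haveI : LocallyQuasiFinite (pullback.snd f gV) :=
    MorphismProperty.of_isPullback (P := @LocallyQuasiFinite) (IsPullback.of_hasPullback f gV) ‹_›
  haveI : LocallyQuasiFinite (pullback.snd f (V₁.ι ≫ gV)) :=
    MorphismProperty.of_isPullback (P := @LocallyQuasiFinite)
      (IsPullback.of_hasPullback f (V₁.ι ≫ gV)) ‹_›
  obtain ⟨z₁, hz₁j, hz₁s⟩ := Scheme.exists_preimage_of_isPullback hc z v₁
    (by rw [hz2]; exact hv₁.symm)
  have hjfst : ∀ t, pullback.fst f gV (j t) = pullback.fst f (V₁.ι ≫ gV) t := fun t => by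
    rw [← Scheme.Hom.comp_apply, jmap_fst]
  have hjsnd : ∀ t, pullback.snd f gV (j t) = V₁.ι (pullback.snd f (V₁.ι ≫ gV) t) := fun t => by
    rw [← Scheme.Hom.comp_apply, jmap_snd, Scheme.Hom.comp_apply]
  have hfin' : IsFinite ((j ⁻¹ᵁ Uz).ι ≫ pullback.snd f (V₁.ι ≫ gV)) := by
    have hsq : IsPullback (j ∣_ Uz) ((j ⁻¹ᵁ Uz).ι ≫ pullback.snd f (V₁.ι ≫ gV))
        (Uz.ι ≫ pullback.snd f gV) V₁.ι :=
      (isPullback_morphismRestrict j Uz).paste_vert hc
    exact MorphismProperty.of_isPullback (P := @IsFinite) hsq ‹_›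
  refine ⟨V₁.toScheme, V₁.ι ≫ gV, v₁, z₁, j ⁻¹ᵁ Uz, inferInstance, inferInstance, ?_, ?_, hz₁s, ?_,
    hfin', ?_, ?_, ?_⟩
  · rw [Scheme.Hom.comp_apply, hv₁, hv]
  · rw [← hjfst, hz₁j, hz1]
  · change j z₁ ∈ Uz
    rw [hz₁j]; exact hzU
  · intro w' hw' hw'v
    have h1 : j w' ∈ Uz := hw'
    have h2 : pullback.snd f gV (j w') = v := by rw [hjsnd, hw'v, hv₁]
    have h3 := huniq (j w') h1 h2
    exact j.isOpenEmbedding.injective (h3.trans hz₁j.symm)
  · have e1 : sd (j ≫ pullback.snd f gV) z₁ = 1 := by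
      rw [sd_comp_openImmersion, hz₁j, hsd]
    rw [jmap_snd, sd_comp] at e1
    exact Nat.eq_one_of_mul_eq_one_left e1
  · intro w
    have h := fI_baseChange (pullback.snd f gV) (pullback.snd f (V₁.ι ≫ gV)) j V₁.ι hc Uz
      (w ∘ pullback.fst f gV) v₁
    rw [hv₁, hGv w] at h
    rw [← h]
    congr 1
    funext t
    simp only [Function.comp_apply]
    rw [hjfst]

/-- a fibre integral over a geometric fibre consisting of a single point. -/
theorem fibreIntegral_of_radicial {U V : Scheme.{u}} (π : U ⟶ V) [LocallyQuasiFinite π]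
    (hfin : ∀ v, (π ⁻¹' {v}).Finite) (w' : U → ℤ) (u : U)
    (H : ∀ t₁ t₂ : Spec (.of (AlgebraicClosure (V.residueField (π u)))) ⟶ U,
      t₁ ≫ π = geomPt (π u) → t₂ ≫ π = geomPt (π u) → t₁ = t₂) :
    MoreMor.fibreIntegral π w' (π u) = w' u := by
  set Ω := AlgebraicClosure (V.residueField (π u)) with hΩ
  set a : Spec (.of Ω) ⟶ V := geomPt (π u) with ha
  have hpt : a (closedPoint Ω) = π u := geomPt_apply _ _
  have hsub : Subsingleton ↥(pullback π a) := by
    refine ⟨fun z₁ z₂ => ?_⟩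
    obtain ⟨s₁, hs₁, hz₁⟩ := exists_section (pullback.snd π a) z₁
    obtain ⟨s₂, hs₂, hz₂⟩ := exists_section (pullback.snd π a) z₂
    have e : s₁ ≫ pullback.fst π a = s₂ ≫ pullback.fst π a := by
      apply H
      · rw [Category.assoc, pullback.condition, ← Category.assoc, hs₁, Category.id_comp]
      · rw [Category.assoc, pullback.condition, ← Category.assoc, hs₂, Category.id_comp]
    have : s₁ = s₂ := by
      apply pullback.hom_ext e
      rw [hs₁, hs₂]
    rw [← hz₁, ← hz₂, this]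
  obtain ⟨zu, hzu, -⟩ := Scheme.Pullback.exists_preimage_pullback (f := π) (g := a) u
    (closedPoint Ω) hpt.symm
  have h1 := fibreIntegral_eq_geom π a w' (by rw [hpt]; exact hfin _)
  rw [hpt] at h1
  rw [h1]
  haveI : Unique ↥(pullback π a) := uniqueOfSubsingleton zu
  rw [finsum_unique, Subsingleton.elim (default : ↥(pullback π a)) zu, hzu]

theorem exists_constructible_nhd {X Y : Scheme.{u}} [IsAffine X] (f : X ⟶ Y)
    [LocallyQuasiFinite f] [LocallyOfFiniteType f] (w : X → ℤ) (hw : MoreMor.IsWeighting f w)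
    (x : X) : ∃ C : Set X, IsConstructible C ∧ x ∈ C ∧ ∀ y ∈ C, w y = w x := by
  obtain ⟨V, gV, v, z, Uz, hVaff, hgV, hv, hz1, hz2, hzU, hfin, huniq, hsd, hGv⟩ :=
    exists_local_structure_affine f x
  haveI := hVaff
  haveI := hgV
  haveI := hfin
  have hG := isLocallyConstant_fI_etale f w hw gV Uz
  let N : Set V := {v' | fI (pullback.snd f gV) (w ∘ pullback.fst f gV) Uz v' = w x}
  have hN : IsOpen N := hG.isOpen_fiber _
  have hvN : v ∈ N := hGv w
  obtain ⟨_, ⟨_, ⟨h, rfl⟩, rfl⟩, hvh, hhN⟩ :=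
    (isBasis_basicOpen V).exists_subset_of_mem_open hvN hN
  set π : Uz.toScheme ⟶ V := Uz.ι ≫ pullback.snd f gV with hπ
  set ρ : Uz.toScheme ⟶ X := Uz.ι ≫ pullback.fst f gV with hρ
  haveI : IsAffine Uz.toScheme := isAffine_of_isAffineHom π
  let z₀ : Uz.toScheme := ⟨z, hzU⟩
  have hz₀ : Uz.ι z₀ = z := rfl
  have hπz : π z₀ = v := by rw [hπ, Scheme.Hom.comp_apply, hz₀, hz2]
  have huniq' : ∀ z' : Uz.toScheme, π z' = π z₀ → z' = z₀ := by
    intro z' hz'
    have h1 : Uz.ι z' ∈ Uz := by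
      have : Uz.ι z' ∈ Set.range Uz.ι := ⟨_, rfl⟩
      rwa [Scheme.Opens.range_ι] at this
    have h2 : pullback.snd f gV (Uz.ι z') = v := by
      rw [← hπz, ← hz', hπ, Scheme.Hom.comp_apply]
    exact Uz.ι.isOpenEmbedding.injective ((huniq _ h1 h2).trans hz₀.symm)
  have hsd' : sd π z₀ = 1 := by
    rw [hπ, sd_comp_openImmersion, hz₀, hsd]
  obtain ⟨s, c, hs, hc, H⟩ := Groth.Agent.Lib.R2H3.WtConsC.exists_radicial_data π z₀ huniq' hsd'
  let G : Set V := ((V.basicOpen s : Set V) ∩ V.basicOpen h) \ ⋃ x ∈ (c : Set Γ(V, ⊤)),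
    (V.basicOpen x : Set V)
  have hbo : ∀ r : Γ(V, ⊤), IsConstructible (V.basicOpen r : Set V) := fun r =>
    ((isAffineOpen_top V).basicOpen r).isCompact.isConstructible (V.basicOpen r).isOpen
  have hGc : IsConstructible G :=
    ((hbo s).inter (hbo h)).sdiff (.biUnion c.finite_toSet (fun x _ => hbo x))
  have hT : IsConstructible (π ⁻¹' G) := Scheme.Hom.isConstructible_preimage π hGc
  have hC : IsConstructible (ρ '' (π ⁻¹' G)) := Scheme.Hom.isConstructible_image ρ hT
  refine ⟨ρ '' (π ⁻¹' G), hC, ⟨z₀, ?_, ?_⟩, ?_⟩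
  · change π z₀ ∈ G
    refine ⟨⟨hs, ?_⟩, ?_⟩
    · rw [hπz]; exact hvh
    · simp only [Set.mem_iUnion, not_exists]
      intro x hx
      exact hc x hx
  · rw [hρ, Scheme.Hom.comp_apply, hz₀, hz1]
  · rintro _ ⟨u, hu, rfl⟩
    have huG : π u ∈ G := hu
    have huN : π u ∈ N := hhN huG.1.2
    have e1 : fI (pullback.snd f gV) (w ∘ pullback.fst f gV) Uz (π u) = w x := huN
    rw [← fibreIntegral_opens] at e1
    rw [← e1]
    symm
    have := fibreIntegral_of_radicial π (fun v => Scheme.Hom.finite_preimage_singleton π v)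
      (fun u => (w ∘ pullback.fst f gV) (Uz.ι u)) u ?_
    · exact this
    · intro t₁ t₂ ht₁ ht₂
      refine H _ t₁ t₂ (ht₁.trans ht₂.symm) ?_ ?_
      · rw [ht₁, geomPt_apply]
        exact huG.1.1
      · intro x hx
        rw [ht₁, geomPt_apply]
        intro hmem
        exact huG.2 (Set.mem_iUnion₂.mpr ⟨x, hx, hmem⟩)

/-- on an affine scheme, a weighting has constructible level sets and finitely many values. -/
theorem isConstructible_level {X Y : Scheme.{u}} [IsAffine X] (f : X ⟶ Y)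
    [LocallyQuasiFinite f] [LocallyOfFiniteType f] (w : X → ℤ) (hw : MoreMor.IsWeighting f w) :
    (∀ n : ℤ, IsConstructible {x : X | w x = n}) ∧ (Set.range w).Finite :=
  Groth.Agent.Lib.R2H3.WtConsA.isConstructible_level w
    (fun x => exists_constructible_nhd f w hw x)

/-- level sets of a weighting are locally constructible. -/
theorem isLocallyConstructible_level {X Y : Scheme.{u}} (f : X ⟶ Y)
    [LocallyQuasiFinite f] [LocallyOfFiniteType f] (w : X → ℤ) (hw : MoreMor.IsWeighting f w)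
    (n : ℤ) : IsLocallyConstructible {x : X | w x = n} := by
  intro x
  obtain ⟨_, ⟨(X₀ : X.Opens), hX₀, rfl⟩, hxX₀, -⟩ :=
    X.isBasis_affineOpens.exists_subset_of_mem_open (Set.mem_univ x) isOpen_univ
  haveI : IsAffine X₀.toScheme := hX₀
  refine ⟨X₀, X₀.isOpen.mem_nhds hxX₀, X₀.isOpen, ?_⟩
  have h := (isConstructible_level (X₀.ι ≫ f) (w ∘ X₀.ι) (isWeighting_opens f w hw X₀)).1 n
  exact h

end Groth.Agent.Lib.R2H3.WtConsD
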