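import Mathlib
import Groth.Prelude.Def_MoreMor
import Groth.Agent.Lib.Helper2Weight
import Groth.Agent.Lib.Helper2Weight2
import Groth.Agent.Lib.Helper2Weight3
import Groth.Agent.Lib.R2H3WtConsD

/-!
# Étale local splitting of a separated quasi-finite morphism with a weighting
-/

set_option autoImplicit false
set_option linter.style.haveILetI false

universe u

namespace Groth.Agent.Lib.R2H3.WtAffA

open AlgebraicGeometry CategoryTheory Limits IsLocalRing Topology
open Groth.Agent.Lib.Helper2.Weight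
open Groth.Agent.Lib.R2H3.WtConsD (jmap jmap_fst jmap_snd isPullback_jmap)
open Groth.Agent.Lib.Helper20.EtSections

/-- étale locally around `y`, the source splits off a clopen part finite over the base which
contains the whole fibre. -/
theorem exists_split {X Y : Scheme.{u}} (f : X ⟶ Y) [LocallyQuasiFinite f]
    [LocallyOfFiniteType f] [IsSeparated f] (hfin : ∀ y : Y, (f ⁻¹' {y}).Finite) (y : Y) :
    ∃ (V : Scheme.{u}) (gV : V ⟶ Y) (v : V) (Aop : (pullback f gV).Opens), Etale gV ∧ gV v = y ∧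
      IsClosed (Aop : Set ↥(pullback f gV)) ∧ IsFinite (Aop.ι ≫ pullback.snd f gV) ∧
      ∀ x', pullback.snd f gV x' = v → x' ∈ Aop := by
  classical
  obtain ⟨V, gV, v, hgV, hv, hW₀fin, Vz, hdisj, H⟩ := exists_etale_split_clopen f y (f ⁻¹' {y})
    (hfin y) (fun t ht => ⟨ht, f.quasiFiniteAt _⟩)
  haveI := hgV
  set fstV := pullback.fst f gV with hfstV
  set sndV := pullback.snd f gV with hsndV
  let ι : Type u := {z : ↥(pullback f gV) // sndV z = v ∧ fstV z ∈ f ⁻¹' {y}}
  haveI : Finite ι := hW₀fin.to_subtype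
  haveI hVfin : ∀ i : ι, IsFinite ((Vz i.1).ι ≫ sndV) := fun i => (H i.1 i.2.1 i.2.2).2.2.1
  let Aop : (pullback f gV).Opens := ⨆ i : ι, Vz i.1
  have hA := Groth.Agent.Lib.Helper20.FinUnion.isFinite_iSup_of_isClosed sndV
    (fun i : ι => Vz i.1) (fun i => (H i.1 i.2.1 i.2.2).2.1.isClosed) hVfin
  refine ⟨V, gV, v, Aop, hgV, hv, hA.2, hA.1, ?_⟩
  intro x hx
  have hxT : fstV x ∈ f ⁻¹' {y} := by
    change f (fstV x) = y
    rw [← Scheme.Hom.comp_apply, pullback.condition, Scheme.Hom.comp_apply, hx, hv]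
  exact TopologicalSpace.Opens.mem_iSup.mpr ⟨⟨x, hx, hxT⟩, (H x hx hxT).1⟩

/-- The étale local decomposition of the fibre integral of a weighting: over an affine étale
neighbourhood `V₁` of `y`, the base change of `X` is the disjoint union of two clopen parts `U'` and
`W'`, the fibre integral over `U'` being constant equal to the fibre integral at `y`. -/
theorem exists_split_affine {X Y : Scheme.{u}} (f : X ⟶ Y) [LocallyQuasiFinite f]
    [LocallyOfFiniteType f] [IsSeparated f] (hfin : ∀ y : Y, (f ⁻¹' {y}).Finite)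
    (w : X → ℤ) (hw : MoreMor.IsWeighting f w) (y : Y) :
    ∃ (V₁ : Scheme.{u}) (g₁ : V₁ ⟶ Y) (v₁ : V₁) (W' : (pullback f g₁).Opens), IsAffine V₁ ∧
      Etale g₁ ∧ g₁ v₁ = y ∧ IsClosed (W' : Set ↥(pullback f g₁)) ∧
      ∀ v' : V₁, MoreMor.fibreIntegral f w (g₁ v') = MoreMor.fibreIntegral f w y +
        fI (pullback.snd f g₁) (w ∘ pullback.fst f g₁) W' v' := by
  obtain ⟨V, gV, v, Aop, hgV, hv, hAcl, hAfin, hAv⟩ := exists_split f hfin y
  haveI := hgV
  haveI := hAfin
  have hG := isLocallyConstant_fI_etale f w hw gV Aop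
  have hbc : ∀ {V' : Scheme.{u}} (g' : V' ⟶ Y) (v' : V'),
      MoreMor.fibreIntegral f w (g' v') =
        fI (pullback.snd f g') (w ∘ pullback.fst f g') Set.univ v' ∧
      ({x | pullback.snd f g' x = v'} ∩ Set.univ).Finite := by
    intro V' g' v'
    have h := fibreIntegral_baseChange f hfin (pullback.snd f g') (pullback.fst f g') g'
      (IsPullback.of_hasPullback f g') w v'
    refine ⟨?_, ?_⟩
    · rw [← h.1, fibreIntegral_eq_fI_univ]
    · rw [Set.inter_univ]
      exact h.2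
  have hval : fI (pullback.snd f gV) (w ∘ pullback.fst f gV) Aop v =
      MoreMor.fibreIntegral f w y := by
    rw [← hv, (hbc gV v).1]
    apply fI_congr_set
    ext x
    simp only [Set.mem_inter_iff, Set.mem_ofPred_eq, Set.mem_univ, and_true]
    exact ⟨fun h => h.1, fun h => ⟨h, hAv x h⟩⟩
  let N : Set V := {v' | fI (pullback.snd f gV) (w ∘ pullback.fst f gV) Aop v' =
    MoreMor.fibreIntegral f w y}
  have hN : IsOpen N := hG.isOpen_fiber _
  have hvN : v ∈ N := hval
  obtain ⟨_, ⟨(V₁ : V.Opens), hV₁, rfl⟩, hvV₁, hV₁N⟩ :=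
    V.isBasis_affineOpens.exists_subset_of_mem_open hvN hN
  haveI : IsAffine V₁.toScheme := hV₁
  set j := jmap f gV V₁ with hj
  have hc := isPullback_jmap f gV V₁
  let U' : (pullback f (V₁.ι ≫ gV)).Opens := j ⁻¹ᵁ Aop
  have hU'cl : IsClosed (U' : Set ↥(pullback f (V₁.ι ≫ gV))) := hAcl.preimage j.continuous
  let W' : (pullback f (V₁.ι ≫ gV)).Opens := ⟨(U' : Set ↥(pullback f (V₁.ι ≫ gV)))ᶜ, hU'cl.isOpen_compl⟩
  have hW'cl : IsClosed (W' : Set ↥(pullback f (V₁.ι ≫ gV))) := by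
    change IsClosed ((U' : Set ↥(pullback f (V₁.ι ≫ gV)))ᶜ)
    exact U'.isOpen.isClosed_compl
  refine ⟨V₁.toScheme, V₁.ι ≫ gV, ⟨v, hvV₁⟩, W', inferInstance, inferInstance, ?_, hW'cl, ?_⟩
  · rw [Scheme.Hom.comp_apply]
    exact hv
  · intro v'
    obtain ⟨e1, hfinU⟩ := hbc (V₁.ι ≫ gV) v'
    rw [e1]
    have hsplit : fI (pullback.snd f (V₁.ι ≫ gV)) (w ∘ pullback.fst f (V₁.ι ≫ gV))
        ((U' : Set ↥(pullback f (V₁.ι ≫ gV))) ∪ (U' : Set ↥(pullback f (V₁.ι ≫ gV)))ᶜ) v' =
        fI (pullback.snd f (V₁.ι ≫ gV)) (w ∘ pullback.fst f (V₁.ι ≫ gV)) U' v' +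
          fI (pullback.snd f (V₁.ι ≫ gV)) (w ∘ pullback.fst f (V₁.ι ≫ gV)) (U' : Set ↥(pullback f (V₁.ι ≫ gV)))ᶜ v' := by
      apply fI_union
      · exact hfinU.subset (Set.inter_subset_inter_right _ (Set.subset_univ _))
      · exact hfinU.subset (Set.inter_subset_inter_right _ (Set.subset_univ _))
      · rw [Set.disjoint_left]
        rintro t ⟨-, ht1⟩ ⟨-, ht2⟩
        exact ht2 ht1
    rw [Set.union_compl_self] at hsplit
    rw [hsplit]
    congr 1
    have h := fI_baseChange (pullback.snd f gV) (pullback.snd f (V₁.ι ≫ gV)) j V₁.ι hc Aop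
      (w ∘ pullback.fst f gV) v'
    have hmem : V₁.ι v' ∈ N := by
      apply hV₁N
      have : V₁.ι v' ∈ Set.range V₁.ι := ⟨_, rfl⟩
      rwa [Scheme.Opens.range_ι] at this
    rw [show fI (pullback.snd f gV) (w ∘ pullback.fst f gV) Aop (V₁.ι v') =
      MoreMor.fibreIntegral f w y from hmem] at h
    rw [← h]
    congr 1
    funext t
    simp only [Function.comp_apply]
    rw [← Scheme.Hom.comp_apply, hj, jmap_fst]

end Groth.Agent.Lib.R2H3.WtAffA
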