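import Mathlib
import Groth.Prelude.Def_MoreMor
import Groth.Agent.Lib.Helper2Weight
import Groth.Agent.Lib.Helper2Weight2
import Groth.Agent.Lib.Helper2Weight3
import Groth.Agent.Lib.R2H3WtAffA
import Groth.Agent.Lib.R2H3AffineDesc
import Groth.Agent.Lib.H5bArtAff
import Groth.Agent.S1419
import Groth.Agent.S1428

/-!
# The locus where the fibre integral of a positive weighting is maximal is affine
-/

set_option autoImplicit false
set_option linter.style.haveILetI false

universe u

namespace Groth.Agent.Lib.R2H3.WtAffB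

open AlgebraicGeometry CategoryTheory Limits IsLocalRing Topology
open Groth.Agent.Lib.Helper2.Weight

/-- a clopen subset of an affine scheme is an affine open. -/
theorem isAffineOpen_of_isClosed {P : Scheme.{u}} [IsAffine P] (W : P.Opens)
    (hW : IsClosed (W : Set P)) : IsAffineOpen W := by
  haveI : IsClosedImmersion W.ι :=
    IsClosedImmersion.of_isPreimmersion W.ι (by rw [Scheme.Opens.range_ι]; exact hW)
  exact isAffine_of_isAffineHom W.ι

/-- the induction predicate: for quasi-finite morphisms of affine schemes with a positive weighting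
whose fibre integral is bounded by `d`, the locus where it equals `d` is an affine open. -/
def P (d : ℤ) : Prop :=
  ∀ {X Y : Scheme.{u}} [IsAffine X] [IsAffine Y] (f : X ⟶ Y) [LocallyQuasiFinite f]
    [LocallyOfFiniteType f] (w : X → ℤ), MoreMor.IsWeighting f w → (∀ x, 0 < w x) →
    (∀ y, MoreMor.fibreIntegral f w y ≤ d) →
    ∃ hYd : IsOpen {y : Y | MoreMor.fibreIntegral f w y = d}, IsAffineOpen (⟨_, hYd⟩ : Y.Opens)

theorem isSeparated_of_isAffine {X Y : Scheme.{u}} [IsAffine X] [Y.IsSeparated] (f : X ⟶ Y) :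
    IsSeparated f := by
  haveI : IsSeparated (f ≫ terminal.from Y) := by rw [terminal.comp_from]; infer_instance
  exact IsSeparated.of_comp f (terminal.from Y)

theorem isAffineHom_of_isAffine {X Y : Scheme.{u}} [IsAffine X] [Y.IsSeparated] (f : X ⟶ Y) :
    IsAffineHom f := by
  haveI : IsAffineHom (f ≫ terminal.from Y) := by rw [terminal.comp_from]; infer_instance
  exact IsAffineHom.of_comp f (terminal.from Y)

/-- nonnegativity of the fibre integral of a positive function. -/
theorem fibreIntegral_nonneg {X Y : Scheme.{u}} (f : X ⟶ Y) (w : X → ℤ) (hpos : ∀ x, 0 < w x)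
    (y : Y) : 0 ≤ MoreMor.fibreIntegral f w y := by
  rw [fibreIntegral_eq]
  exact finsum_nonneg (fun x => mul_nonneg (hpos _).le (Int.natCast_nonneg _))

/-- the étale-local input of the induction step. -/
theorem exists_chart (d : ℤ) (IH : ∀ d' < d, P.{u} d') {X Y : Scheme.{u}} [IsAffine X]
    [Y.IsSeparated] (f : X ⟶ Y) [LocallyQuasiFinite f] [LocallyOfFiniteType f] (w : X → ℤ)
    (hw : MoreMor.IsWeighting f w) (hpos : ∀ x, 0 < w x)
    (hmax : ∀ y, MoreMor.fibreIntegral f w y ≤ d)
    (Yd : Y.Opens) (hYd : ∀ y, y ∈ Yd ↔ MoreMor.fibreIntegral f w y = d) (x : X) :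
    ∃ (V₁ : Scheme.{u}) (g₁ : V₁ ⟶ Y), IsAffine V₁ ∧ Etale g₁ ∧
      x ∈ Set.range (pullback.fst f g₁) ∧ IsAffineOpen (g₁ ⁻¹ᵁ Yd) := by
  haveI : IsSeparated f := isSeparated_of_isAffine f
  have hfin : ∀ y : Y, (f ⁻¹' {y}).Finite := fun y => Scheme.Hom.finite_preimage_singleton f y
  obtain ⟨V₁, g₁, v₁, W', hV₁, hg₁, hg₁v, hW'cl, hform⟩ :=
    Groth.Agent.Lib.R2H3.WtAffA.exists_split_affine f hfin w hw (f x)
  haveI := hV₁
  haveI := hg₁
  haveI : IsAffineHom g₁ := isAffineHom_of_isAffine g₁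
  haveI : IsAffineHom (pullback.fst f g₁) :=
    MorphismProperty.pullback_fst (P := @IsAffineHom) f g₁ inferInstance
  haveI : IsAffine (pullback f g₁) := isAffine_of_isAffineHom (pullback.fst f g₁)
  haveI : IsAffine W'.toScheme := isAffineOpen_of_isClosed W' hW'cl
  set c := MoreMor.fibreIntegral f w (f x) with hc
  have hcpos : 0 < c := by
    have h1 := le_fI f w hpos Set.univ (f x) (by rw [Set.inter_univ]; exact hfin _) x trivial rfl
    rw [← fibreIntegral_eq_fI_univ] at h1
    exact lt_of_lt_of_le (hpos x) h1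
  have hw1 : MoreMor.IsWeighting (pullback.snd f g₁) (w ∘ pullback.fst f g₁) :=
    Groth.Agent.S1419.result f w hw (pullback.snd f g₁) (pullback.fst f g₁) g₁
      (IsPullback.of_hasPullback f g₁)
  have hw2 := isWeighting_opens (pullback.snd f g₁) (w ∘ pullback.fst f g₁) hw1 W'
  have hint : ∀ v' : V₁, MoreMor.fibreIntegral (W'.ι ≫ pullback.snd f g₁)
      ((w ∘ pullback.fst f g₁) ∘ W'.ι) v' = MoreMor.fibreIntegral f w (g₁ v') - c := by
    intro v'
    rw [hform v']
    have := fibreIntegral_opens W' (pullback.snd f g₁) (w ∘ pullback.fst f g₁) v'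
    rw [← this]
    simp only [Function.comp_def]
    ring
  obtain ⟨hopen, haff⟩ := IH (d - c) (by omega) (W'.ι ≫ pullback.snd f g₁)
    ((w ∘ pullback.fst f g₁) ∘ W'.ι) hw2 (fun u => hpos _)
    (fun v' => by rw [hint v']; have := hmax (g₁ v'); omega)
  refine ⟨V₁, g₁, hV₁, hg₁, ?_, ?_⟩
  · obtain ⟨z, hz, -⟩ := Scheme.Pullback.exists_preimage_pullback (f := f) (g := g₁) x v₁
      hg₁v.symm
    exact ⟨z, hz⟩
  · convert haff using 1
    ext v'
    change g₁ v' ∈ Yd ↔ MoreMor.fibreIntegral (W'.ι ≫ pullback.snd f g₁)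
      ((w ∘ pullback.fst f g₁) ∘ W'.ι) v' = d - c
    rw [hYd, hint v']
    constructor <;> intro h <;> omega

/-- the induction step, for a separated target. -/
theorem step (d : ℤ) (hd : 0 < d) (IH : ∀ d' < d, P.{u} d') {X Y : Scheme.{u}} [IsAffine X]
    [Y.IsSeparated] (f : X ⟶ Y) [LocallyQuasiFinite f] [LocallyOfFiniteType f] (w : X → ℤ)
    (hw : MoreMor.IsWeighting f w) (hpos : ∀ x, 0 < w x)
    (hmax : ∀ y, MoreMor.fibreIntegral f w y ≤ d) :
    ∃ hYd : IsOpen {y : Y | MoreMor.fibreIntegral f w y = d},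
      IsAffineOpen (⟨_, hYd⟩ : Y.Opens) := by
  haveI : IsSeparated f := isSeparated_of_isAffine f
  have hfin : ∀ y : Y, (f ⁻¹' {y}).Finite := fun y => Scheme.Hom.finite_preimage_singleton f y
  by_cases hatt : ∃ y : Y, MoreMor.fibreIntegral f w y = d
  · obtain ⟨hYd, hfinYd⟩ := Groth.Agent.S1428.result f hfin w hw hpos d hmax hatt
    refine ⟨hYd, ?_⟩
    set Yd : Y.Opens := ⟨{y : Y | MoreMor.fibreIntegral f w y = d}, hYd⟩ with hYd_def
    have hYdm : ∀ y, y ∈ Yd ↔ MoreMor.fibreIntegral f w y = d := fun y => Iff.rfl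
    -- the preimage of `Yd` is affine
    haveI hXdι : IsAffineHom (f ⁻¹ᵁ Yd).ι := by
      apply Groth.Agent.Lib.H5bArtAff.isAffineHom_of_local
      intro x
      obtain ⟨V₁, g₁, hV₁, hg₁, hx, haff⟩ := exists_chart d IH f w hw hpos hmax Yd hYdm x
      haveI := hV₁
      haveI := hg₁
      haveI : IsAffineHom g₁ := isAffineHom_of_isAffine g₁
      haveI : IsAffineHom (pullback.fst f g₁) :=
        MorphismProperty.pullback_fst (P := @IsAffineHom) f g₁ inferInstance
      haveI : IsAffine (pullback f g₁) := isAffine_of_isAffineHom (pullback.fst f g₁)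
      have hopeneq : pullback.fst f g₁ ⁻¹ᵁ (f ⁻¹ᵁ Yd) = pullback.snd f g₁ ⁻¹ᵁ (g₁ ⁻¹ᵁ Yd) := by
        ext z
        change f (pullback.fst f g₁ z) ∈ Yd ↔ g₁ (pullback.snd f g₁ z) ∈ Yd
        rw [← Scheme.Hom.comp_apply, ← Scheme.Hom.comp_apply, pullback.condition]
      have haff2 : IsAffineOpen (pullback.fst f g₁ ⁻¹ᵁ (f ⁻¹ᵁ Yd)) := by
        rw [hopeneq]
        exact haff.preimage (pullback.snd f g₁)
      haveI : IsAffine (pullback.fst f g₁ ⁻¹ᵁ (f ⁻¹ᵁ Yd)).toScheme := haff2
      refine ⟨pullback f g₁, _, pullback.fst f g₁, pullback.fst f g₁ ∣_ (f ⁻¹ᵁ Yd),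
        (pullback.fst f g₁ ⁻¹ᵁ (f ⁻¹ᵁ Yd)).ι,
        isPullback_morphismRestrict (pullback.fst f g₁) (f ⁻¹ᵁ Yd), inferInstance,
        (pullback.fst f g₁).isOpenMap, hx, inferInstance, inferInstance⟩
    haveI : IsAffine (f ⁻¹ᵁ Yd).toScheme := isAffine_of_isAffineHom (f ⁻¹ᵁ Yd).ι
    haveI : IsFinite (f ∣_ Yd) := hfinYd
    haveI : Surjective (f ∣_ Yd) := by
      constructor
      intro y'
      have hy' : MoreMor.fibreIntegral f w (Yd.ι y') = d := by
        have : Yd.ι y' ∈ Set.range Yd.ι := ⟨_, rfl⟩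
        rw [Scheme.Opens.range_ι] at this
        exact this
      have hne : fI f w Set.univ (Yd.ι y') ≠ 0 := by
        rw [← fibreIntegral_eq_fI_univ, hy']
        exact hd.ne'
      obtain ⟨x, -, hx⟩ := exists_mem_of_fI_pos f w Set.univ _ hne
      have hxm : x ∈ f ⁻¹ᵁ Yd := by
        change f x ∈ Yd
        rw [hx]
        have : Yd.ι y' ∈ Set.range Yd.ι := ⟨_, rfl⟩
        rwa [Scheme.Opens.range_ι] at this
      refine ⟨⟨x, hxm⟩, ?_⟩
      apply Yd.ι.isOpenEmbedding.injective
      rw [← Scheme.Hom.comp_apply, morphismRestrict_ι, Scheme.Hom.comp_apply]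
      exact hx
    exact Groth.Agent.Lib.R2H3.AffineDesc.isAffine_of_surjective_universallyClosed _ _ (f ∣_ Yd)
  · have hempty : {y : Y | MoreMor.fibreIntegral f w y = d} = ∅ := by
      ext y
      simp only [Set.mem_setOf_eq, Set.mem_empty_iff_false, iff_false]
      exact fun h => hatt ⟨y, h⟩
    have hopen : IsOpen {y : Y | MoreMor.fibreIntegral f w y = d} := by
      rw [hempty]; exact isOpen_empty
    refine ⟨hopen, ?_⟩
    convert isAffineOpen_bot Y using 1
    ext y
    change MoreMor.fibreIntegral f w y = d ↔ y ∈ (⊥ : Y.Opens)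
    constructor
    · exact fun h => (hatt ⟨y, h⟩).elim
    · exact fun h => h.elim

/-- the induction. -/
theorem P_of_le (n : ℕ) : ∀ d : ℤ, d ≤ n → P.{u} d := by
  induction n with
  | zero =>
    intro d hd X Y _ _ f _ _ w hw hpos hmax
    by_cases hatt : ∃ y : Y, MoreMor.fibreIntegral f w y = d
    · obtain ⟨y₀, hy₀⟩ := hatt
      have hd0 : d = 0 := by
        have := fibreIntegral_nonneg f w hpos y₀
        omega
      have huniv : {y : Y | MoreMor.fibreIntegral f w y = d} = Set.univ := by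
        ext y
        simp only [Set.mem_setOf_eq, Set.mem_univ, iff_true]
        have h1 := fibreIntegral_nonneg f w hpos y
        have h2 := hmax y
        omega
      have hopen : IsOpen {y : Y | MoreMor.fibreIntegral f w y = d} := by
        rw [huniv]; exact isOpen_univ
      refine ⟨hopen, ?_⟩
      convert isAffineOpen_top Y using 1
      ext y
      change MoreMor.fibreIntegral f w y = d ↔ y ∈ (⊤ : Y.Opens)
      have : y ∈ {y : Y | MoreMor.fibreIntegral f w y = d} := by rw [huniv]; trivial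
      exact ⟨fun _ => trivial, fun _ => this⟩
    · have hempty : {y : Y | MoreMor.fibreIntegral f w y = d} = ∅ := by
        ext y
        simp only [Set.mem_setOf_eq, Set.mem_empty_iff_false, iff_false]
        exact fun h => hatt ⟨y, h⟩
      have hopen : IsOpen {y : Y | MoreMor.fibreIntegral f w y = d} := by
        rw [hempty]; exact isOpen_empty
      refine ⟨hopen, ?_⟩
      convert isAffineOpen_bot Y using 1
      ext y
      change MoreMor.fibreIntegral f w y = d ↔ y ∈ (⊥ : Y.Opens)
      constructor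
      · exact fun h => (hatt ⟨y, h⟩).elim
      · exact fun h => h.elim
  | succ n ih =>
    intro d hd X Y _ _ f _ _ w hw hpos hmax
    by_cases hdn : d ≤ n
    · exact ih d hdn f w hw hpos hmax
    · have hdpos : 0 < d := by push Not at hdn; omega
      exact step d hdpos (fun d' hd' => ih d' (by push_cast at hd; omega)) f w hw hpos hmax

theorem P_all (d : ℤ) : P.{u} d := P_of_le d.toNat d (Int.self_le_toNat d)

/-- `X` affine, `Y` separated, `f` locally quasi-finite with a positive weighting whose fibre integral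
is bounded by `d > 0`: the locus where the integral equals `d` is an affine open. -/
theorem isAffineOpen_max {X Y : Scheme.{u}} [IsAffine X] [Y.IsSeparated] (f : X ⟶ Y)
    [LocallyQuasiFinite f] [LocallyOfFiniteType f] (w : X → ℤ) (hw : MoreMor.IsWeighting f w)
    (hpos : ∀ x, 0 < w x) (d : ℤ) (hd : 0 < d) (hmax : ∀ y, MoreMor.fibreIntegral f w y ≤ d) :
    ∃ hYd : IsOpen {y : Y | MoreMor.fibreIntegral f w y = d},
      IsAffineOpen (⟨_, hYd⟩ : Y.Opens) :=
  step d hd (fun d' _ => P_all d') f w hw hpos hmax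

end Groth.Agent.Lib.R2H3.WtAffB
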