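import Mathlib
import Groth.Prelude.Def_MoreMor
import Groth.Agent.Lib.Helper2Weight
import Groth.Agent.Lib.Helper2Weight2
import Groth.Agent.Lib.R2H3WtAffB
import Groth.Agent.S1419
import Groth.Agent.S1426

/-!
# Affine stratification by the values of the fibre integral of a positive weighting
-/

set_option autoImplicit false
set_option linter.style.haveILetI false

universe u

namespace Groth.Agent.Lib.R2H3.WtAffC

open AlgebraicGeometry CategoryTheory Limits IsLocalRing Topology TopologicalSpace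
open Groth.Agent.Lib.Helper2.Weight
open Groth.Agent.Lib.R2H3.WtAffB

/-- each level set of the fibre integral is the image of an affine immersion from an affine scheme. -/
theorem exists_stratum {X Y : Scheme.{u}} [IsAffine X] [Y.IsSeparated] (f : X ⟶ Y)
    [LocallyQuasiFinite f] [LocallyOfFiniteType f] (w : X → ℤ) (hw : MoreMor.IsWeighting f w)
    (hpos : ∀ x, 0 < w x) (a : ℤ) (ha : 0 < a) :
    ∃ (Z : Scheme.{u}) (ι : Z ⟶ Y), IsImmersion ι ∧ IsAffine Z ∧ IsAffineHom ι ∧
      Set.range ι = {y : Y | MoreMor.fibreIntegral f w y = a} := by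
  haveI : IsSeparated f := isSeparated_of_isAffine f
  have hfin : ∀ y : Y, (f ⁻¹' {y}).Finite := fun y => Scheme.Hom.finite_preimage_singleton f y
  have hcl : IsClosed {y : Y | MoreMor.fibreIntegral f w y ≤ a} :=
    (Groth.Agent.S1426.result f hfin w hw hpos).isClosed_preimage a
  let T : Closeds Y := ⟨_, hcl⟩
  let J := Scheme.IdealSheafData.vanishingIdeal T
  let i : J.subscheme ⟶ Y := J.subschemeι
  have hrange : Set.range i = {y : Y | MoreMor.fibreIntegral f w y ≤ a} := by
    rw [J.range_subschemeι]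
    exact Scheme.IdealSheafData.coe_support_vanishingIdeal T
  haveI : J.subscheme.IsSeparated := ⟨by rw [← terminal.comp_from i]; infer_instance⟩
  haveI : IsClosedImmersion (pullback.fst f i) :=
    MorphismProperty.pullback_fst (P := @IsClosedImmersion) f i inferInstance
  haveI : IsAffine (pullback f i) := isAffine_of_isAffineHom (pullback.fst f i)
  have hw' : MoreMor.IsWeighting (pullback.snd f i) (w ∘ pullback.fst f i) :=
    Groth.Agent.S1419.result f w hw (pullback.snd f i) (pullback.fst f i) i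
      (IsPullback.of_hasPullback f i)
  have hbc : ∀ y' : J.subscheme, MoreMor.fibreIntegral (pullback.snd f i) (w ∘ pullback.fst f i) y'
      = MoreMor.fibreIntegral f w (i y') := fun y' =>
    (fibreIntegral_baseChange f hfin (pullback.snd f i) (pullback.fst f i) i
      (IsPullback.of_hasPullback f i) w y').1
  have hmax' : ∀ y' : J.subscheme,
      MoreMor.fibreIntegral (pullback.snd f i) (w ∘ pullback.fst f i) y' ≤ a := by
    intro y'
    rw [hbc]
    have : i y' ∈ Set.range i := ⟨y', rfl⟩
    rw [hrange] at this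
    exact this
  obtain ⟨hopen, haff⟩ := isAffineOpen_max (pullback.snd f i) (w ∘ pullback.fst f i) hw'
    (fun x => hpos _) a ha hmax'
  set D : J.subscheme.Opens := ⟨{y' | MoreMor.fibreIntegral (pullback.snd f i)
    (w ∘ pullback.fst f i) y' = a}, hopen⟩ with hD
  haveI : IsAffine D.toScheme := haff
  refine ⟨D.toScheme, D.ι ≫ i, inferInstance, inferInstance, isAffineHom_of_isAffine _, ?_⟩
  ext y
  constructor
  · rintro ⟨t, rfl⟩
    have ht : D.ι t ∈ D := by
      have : D.ι t ∈ Set.range D.ι := ⟨_, rfl⟩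
      rwa [Scheme.Opens.range_ι] at this
    change MoreMor.fibreIntegral f w ((D.ι ≫ i) t) = a
    rw [Scheme.Hom.comp_apply, ← hbc]
    exact ht
  · intro hy
    have hy' : MoreMor.fibreIntegral f w y = a := hy
    have hyC : y ∈ Set.range i := by rw [hrange]; exact hy'.le
    obtain ⟨y', rfl⟩ := hyC
    have hy'D : y' ∈ D := by
      change MoreMor.fibreIntegral (pullback.snd f i) (w ∘ pullback.fst f i) y' = a
      rw [hbc]; exact hy'
    obtain ⟨t, rfl⟩ : y' ∈ Set.range D.ι := by rw [Scheme.Opens.range_ι]; exact hy'D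
    exact ⟨t, rfl⟩

/-- `S1439`. -/
theorem main {X Y : Scheme.{u}} (f : X ⟶ Y) [Surjective f] [LocallyQuasiFinite f]
    [LocallyOfFiniteType f] [IsAffine X] [Y.IsSeparated] [Nonempty ↑Y] (w : ↑X → ℤ)
    (hw : MoreMor.IsWeighting f w) (hpos : ∀ x, 0 < w x) (k : ℕ)
    (hk : (Set.range (MoreMor.fibreIntegral f w)).ncard = k)
    (hkfin : (Set.range (MoreMor.fibreIntegral f w)).Finite) :
    MoreMor.HasAffineStratification Y (k - 1) := by
  haveI : IsSeparated f := isSeparated_of_isAffine f
  have hfin : ∀ y : Y, (f ⁻¹' {y}).Finite := fun y => Scheme.Hom.finite_preimage_singleton f y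
  set R : Finset ℤ := hkfin.toFinset with hR
  have hmemR : ∀ y : Y, MoreMor.fibreIntegral f w y ∈ R := fun y => by
    rw [hR, Set.Finite.mem_toFinset]; exact ⟨y, rfl⟩
  have hcard : R.card = k := by
    rw [← hk, Set.ncard_eq_toFinset_card _ hkfin]
  have hkpos : 0 < k := by
    rw [← hcard, Finset.card_pos]
    obtain ⟨y⟩ := ‹Nonempty ↑Y›
    exact ⟨_, hmemR y⟩
  have hcard' : R.card = k - 1 + 1 := by omega
  let e : Fin (k - 1 + 1) ≃o R := R.orderIsoOfFin hcard'
  let s : Y → Fin (k - 1 + 1) := fun y => e.symm ⟨MoreMor.fibreIntegral f w y, hmemR y⟩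
  have hsle : ∀ (y : Y) (i : Fin (k - 1 + 1)),
      s y ≤ i ↔ MoreMor.fibreIntegral f w y ≤ (e i : ℤ) := by
    intro y i
    change e.symm _ ≤ i ↔ _
    rw [e.symm_apply_le]
    exact Iff.rfl
  have hseq : ∀ (y : Y) (i : Fin (k - 1 + 1)),
      s y = i ↔ MoreMor.fibreIntegral f w y = (e i : ℤ) := by
    intro y i
    change e.symm _ = i ↔ _
    rw [e.symm_apply_eq, Subtype.ext_iff]
  have hapos : ∀ i : Fin (k - 1 + 1), 0 < (e i : ℤ) := by
    intro i
    have hm : (e i : ℤ) ∈ R := (e i).2
    have hm' : (e i : ℤ) ∈ Set.range (MoreMor.fibreIntegral f w) :=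
      (Set.Finite.mem_toFinset hkfin).mp hm
    obtain ⟨y, hy⟩ := hm'
    obtain ⟨x, rfl⟩ := f.surjective y
    rw [← hy]
    have h1 := le_fI f w hpos Set.univ (f x) (by rw [Set.inter_univ]; exact hfin _) x trivial rfl
    rw [← fibreIntegral_eq_fI_univ] at h1
    exact lt_of_lt_of_le (hpos x) h1
  refine ⟨s, fun i => ?_, fun i => ?_⟩
  · have : {y : Y | s y ≤ i} = {y : Y | MoreMor.fibreIntegral f w y ≤ (e i : ℤ)} := by
      ext y; exact hsle y i
    rw [this]
    exact (Groth.Agent.S1426.result f hfin w hw hpos).isClosed_preimage _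
  · obtain ⟨Z, ι, h1, h2, h3, h4⟩ := exists_stratum f w hw hpos (e i : ℤ) (hapos i)
    refine ⟨Z, ι, h1, h2, h3, ?_⟩
    rw [h4]
    ext y
    exact (hseq y i).symm

end Groth.Agent.Lib.R2H3.WtAffC
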