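import Mathlib

/-!
# Uniform bound on the number of geometric points in the fibres of a quasi-finite algebra
-/

set_option autoImplicit false
set_option linter.style.haveILetI false

universe u

namespace Groth.Agent.Lib.R2H3.WtConsE

open Algebra

/-- an algebra generated by `n` elements as a module has at most `n` homomorphisms into a domain. -/
theorem card_algHom_le_of_span {R A' Ω : Type*} [CommRing R] [CommRing A'] [Algebra R A']
    [Field Ω] [Algebra R Ω] {n : ℕ} (g : Fin n → A') (hg : Submodule.span R (Set.range g) = ⊤) :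
    Finite (A' →ₐ[R] Ω) ∧ Nat.card (A' →ₐ[R] Ω) ≤ n := by
  have hli := linearIndependent_toLinearMap R A' Ω
  let ev : (A' →ₗ[R] Ω) →ₗ[Ω] (Fin n → Ω) :=
    { toFun := fun ℓ i => ℓ (g i)
      map_add' := fun _ _ => rfl
      map_smul' := fun _ _ => rfl }
  have hev : LinearMap.ker ev = ⊥ := by
    rw [LinearMap.ker_eq_bot']
    intro ℓ hℓ
    apply LinearMap.ext_on_range hg
    intro i
    exact congrFun hℓ i
  have hli' := hli.map' ev hev
  haveI : Finite (A' →ₐ[R] Ω) := hli'.finite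
  letI := Fintype.ofFinite (A' →ₐ[R] Ω)
  refine ⟨inferInstance, ?_⟩
  rw [Nat.card_eq_fintype_card]
  have := hli'.fintype_card_le_finrank
  rwa [Module.finrank_fin_fun] at this

/-- a homomorphism to a field which is nonzero at `r` is determined by its restriction to a
subalgebra `S'` with `S'[1/r] = A[1/r]`. -/
theorem ext_of_awayMap_surjective {R A Ω : Type*} [CommRing R] [CommRing A] [Algebra R A]
    [Field Ω] [Algebra R Ω] (S' : Subalgebra R A) (r : S')
    (hsurj : Function.Surjective (Localization.awayMap S'.val.toRingHom r))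
    (ψ ψ' : A →ₐ[R] Ω) (h : ψ.comp S'.val = ψ'.comp S'.val) (hr : ψ r.1 ≠ 0) : ψ = ψ' := by
  have hS : ∀ x : S', ψ x.1 = ψ' x.1 := fun x => congrArg (fun f => f x) h
  ext a
  obtain ⟨x, hx⟩ := hsurj (algebraMap A _ a)
  obtain ⟨⟨a', ⟨_, k, rfl⟩⟩, rfl⟩ := IsLocalization.mk'_surjective (Submonoid.powers r) x
  rw [Localization.awayMap, IsLocalization.Away.map, IsLocalization.map_mk'] at hx
  rw [IsLocalization.mk'_eq_iff_eq_mul, ← map_mul,
    IsLocalization.eq_iff_exists (Submonoid.powers (S'.val.toRingHom r))] at hx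
  obtain ⟨⟨_, m, rfl⟩, hm⟩ := hx
  simp only [AlgHom.toRingHom_eq_coe, RingHom.coe_coe, Subalgebra.coe_val, map_pow] at hm
  have e1 := congrArg ψ hm
  have e2 := congrArg ψ' hm
  simp only [map_mul, map_pow] at e1 e2
  rw [hS a', hS r] at e1
  rw [hS r] at hr
  have hr' : ψ' r.1 ^ m ≠ 0 := pow_ne_zero _ hr
  have hrk : ψ' r.1 ^ k ≠ 0 := pow_ne_zero _ hr
  have e3 := e1.symm.trans e2
  have e4 := mul_left_cancel₀ hr' e3
  exact mul_right_cancel₀ hrk e4

theorem exists_bound {R A : Type u} [CommRing R] [CommRing A] [Algebra R A]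
    [Algebra.FiniteType R A] [Algebra.QuasiFinite R A] :
    ∃ n : ℕ, ∀ (Ω : Type u) [Field Ω] [Algebra R Ω],
      Finite (A →ₐ[R] Ω) ∧ Nat.card (A →ₐ[R] Ω) ≤ n := by
  classical
  have H : ∀ q : PrimeSpectrum A, ∃ S' : Subalgebra R A, S'.toSubmodule.FG ∧ ∃ r : S',
      r.1 ∉ q.asIdeal ∧ Function.Bijective (Localization.awayMap S'.val.toRingHom r) := fun q =>
    Algebra.QuasiFiniteAt.exists_fg_and_exists_notMem_and_awayMap_bijective q.asIdeal
  choose S' hfg r hr hbij using H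
  have htop : Ideal.span (Set.range (fun q => (r q).1)) = ⊤ := by
    by_contra hne
    obtain ⟨m, hm, hle⟩ := Ideal.exists_le_maximal _ hne
    exact hr ⟨m, hm.isPrime⟩ (hle (Ideal.subset_span ⟨⟨m, hm.isPrime⟩, rfl⟩))
  obtain ⟨s', hs', hs'top⟩ := (Ideal.span_eq_top_iff_finite _).mp htop
  rw [← Set.image_univ] at hs'
  obtain ⟨Q, -, rfl⟩ := Finset.subset_set_image_iff.mp hs'
  haveI : ∀ q, Module.Finite R (S' q) := fun q => Module.Finite.iff_fg.mpr (hfg q)
  choose n g hg using fun q => Module.Finite.exists_fin (R := R) (M := S' q)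
  refine ⟨∑ q ∈ Q, n q, fun Ω _ _ => ?_⟩
  have hex : ∀ ψ : A →ₐ[R] Ω, ∃ q ∈ Q, ψ (r q).1 ≠ 0 := by
    intro ψ
    by_contra hcon
    push Not at hcon
    have hle : Ideal.span ((fun q => (r q).1) '' (Q : Set (PrimeSpectrum A))) ≤
        RingHom.ker ψ.toRingHom := by
      rw [Ideal.span_le]
      rintro _ ⟨q, hq, rfl⟩
      exact hcon q hq
    rw [Finset.coe_image] at hs'top
    rw [hs'top] at hle
    have h1 : (1 : A) ∈ RingHom.ker ψ.toRingHom := hle trivial
    rw [RingHom.mem_ker, map_one] at h1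
    exact one_ne_zero h1
  choose qψ hqψ hrψ using hex
  let Ψ : (A →ₐ[R] Ω) → Σ q : Q, (S' q.1 →ₐ[R] Ω) := fun ψ =>
    ⟨⟨qψ ψ, hqψ ψ⟩, ψ.comp (S' (qψ ψ)).val⟩
  have hΨ : Function.Injective Ψ := by
    intro ψ ψ' hψ
    have h1 : qψ ψ = qψ ψ' := congrArg (fun x => x.1.1) hψ
    have h2 : ψ.comp (S' (qψ ψ)).val = ψ'.comp (S' (qψ ψ)).val := by
      have : HEq (ψ.comp (S' (qψ ψ)).val) (ψ'.comp (S' (qψ ψ')).val) :=
        (Sigma.mk.inj_iff.mp hψ).2
      rw [← h1] at this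
      exact eq_of_heq this
    exact ext_of_awayMap_surjective (S' (qψ ψ)) (r (qψ ψ)) (hbij _).2 ψ ψ' h2 (hrψ ψ)
  have hfin : ∀ q : Q, Finite (S' q.1 →ₐ[R] Ω) ∧ Nat.card (S' q.1 →ₐ[R] Ω) ≤ n q.1 := fun q =>
    card_algHom_le_of_span (g q.1) (hg q.1)
  haveI : ∀ q : Q, Finite (S' q.1 →ₐ[R] Ω) := fun q => (hfin q).1
  haveI : Finite (A →ₐ[R] Ω) := Finite.of_injective Ψ hΨ
  refine ⟨inferInstance, ?_⟩
  calc Nat.card (A →ₐ[R] Ω) ≤ Nat.card (Σ q : Q, (S' q.1 →ₐ[R] Ω)) :=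
        Nat.card_le_card_of_injective Ψ hΨ
    _ = ∑ q : Q, Nat.card (S' q.1 →ₐ[R] Ω) := Nat.card_sigma
    _ ≤ ∑ q : Q, n q.1 := Finset.sum_le_sum (fun q _ => (hfin q).2)
    _ = ∑ q ∈ Q, n q := Finset.sum_coe_sort Q n

end Groth.Agent.Lib.R2H3.WtConsE
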