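import Mathlib
import Groth.Prelude.Def_MoreMor
import Groth.Agent.Lib.Helper2Weight
import Groth.Agent.Lib.Helper2Weight2
import Groth.Agent.Lib.Helper2Weight3
import Groth.Agent.Lib.R2H3WtConsD
import Groth.Agent.Lib.R2H3WtConsE

/-!
# Fibre integrals of weightings on quasi-compact schemes are bounded above
-/

set_option autoImplicit false
set_option linter.style.haveILetI false

universe u

namespace Groth.Agent.Lib.R2H3.WtConsF

open AlgebraicGeometry CategoryTheory Limits IsLocalRing Topology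
open Groth.Agent.Lib.Helper2.Weight

/-- subadditivity of fibre integrals of nonnegative functions over a finite cover. -/
theorem fI_le_sum {P V : Scheme.{u}} (p : P ⟶ V) (w' : P → ℤ) (hw' : ∀ x, 0 ≤ w' x)
    {ι : Type*} (I : Finset ι) (Z : ι → Set P) (v : V)
    (hfinZ : ∀ i ∈ I, ({x | p x = v} ∩ Z i).Finite) :
    ∀ (A : Set P), (∀ x ∈ A, ∃ i ∈ I, x ∈ Z i) → fI p w' A v ≤ ∑ i ∈ I, fI p w' (Z i) v := by
  classical
  induction I using Finset.induction_on with
  | empty =>
    intro A hA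
    have : A = ∅ := by
      ext x
      simp only [Set.mem_empty_iff_false, iff_false]
      intro hx
      obtain ⟨i, hi, -⟩ := hA x hx
      simp at hi
    rw [this, fI_empty, Finset.sum_empty]
  | insert j I hj ih =>
    intro A hA
    have hfinj := hfinZ j (Finset.mem_insert_self _ _)
    have hfinI : ∀ i ∈ I, ({x | p x = v} ∩ Z i).Finite := fun i hi =>
      hfinZ i (Finset.mem_insert_of_mem hi)
    have hA2 : ∀ x ∈ A \ Z j, ∃ i ∈ I, x ∈ Z i := by
      rintro x ⟨hxA, hxj⟩
      obtain ⟨i, hi, hxi⟩ := hA x hxA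
      rcases Finset.mem_insert.mp hi with rfl | hi
      · exact absurd hxi hxj
      · exact ⟨i, hi, hxi⟩
    have hfinA2 : ({x | p x = v} ∩ (A \ Z j)).Finite := by
      refine (Set.Finite.biUnion I.finite_toSet (fun i hi => hfinI i hi)).subset ?_
      rintro x ⟨hx, hxA⟩
      obtain ⟨i, hi, hxi⟩ := hA2 x hxA
      exact Set.mem_biUnion hi ⟨hx, hxi⟩
    have hfinA1 : ({x | p x = v} ∩ (A ∩ Z j)).Finite :=
      hfinj.subset (Set.inter_subset_inter_right _ Set.inter_subset_right)
    have hsplit : A = (A ∩ Z j) ∪ (A \ Z j) := (Set.inter_union_diff A (Z j)).symm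
    have hd : Disjoint ({x | p x = v} ∩ (A ∩ Z j)) ({x | p x = v} ∩ (A \ Z j)) := by
      rw [Set.disjoint_left]
      rintro x ⟨-, -, h1⟩ ⟨-, -, h2⟩
      exact h2 h1
    rw [Finset.sum_insert hj]
    calc fI p w' A v = fI p w' ((A ∩ Z j) ∪ (A \ Z j)) v := by rw [← hsplit]
      _ = fI p w' (A ∩ Z j) v + fI p w' (A \ Z j) v := fI_union p w' _ _ v hfinA1 hfinA2 hd
      _ ≤ fI p w' (Z j) v + ∑ i ∈ I, fI p w' (Z i) v :=
        add_le_add (fI_mono_of_nonneg p w' hw' _ _ Set.inter_subset_right v hfinj)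
          (ih hfinI _ hA2)

/-- monotonicity of fibre integrals in the function. -/
theorem fI_mono_fun {P V : Scheme.{u}} (p : P ⟶ V) (a b : P → ℤ) (hab : ∀ x, a x ≤ b x)
    (A : Set P) (v : V) (hfin : ({x | p x = v} ∩ A).Finite) : fI p a A v ≤ fI p b A v := by
  unfold fI
  rw [finsum_mem_eq_finite_toFinset_sum _ hfin, finsum_mem_eq_finite_toFinset_sum _ hfin]
  exact Finset.sum_le_sum (fun x _ => mul_le_mul_of_nonneg_right (hab x) (Int.natCast_nonneg _))

/-- the number of geometric points in the fibres of a quasi-finite morphism of affine schemes is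
bounded. -/
theorem exists_bound_affine {T S : Scheme.{u}} [IsAffine T] [IsAffine S] (g : T ⟶ S)
    [LocallyQuasiFinite g] [LocallyOfFiniteType g] :
    ∃ n : ℕ, ∀ s : S, MoreMor.fibreIntegral g (fun _ => 1) s ≤ n := by
  set R := Γ(S, ⊤) with hR
  set A := Γ(T, ⊤) with hA
  set φ : R →+* A := g.appTop.hom with hφ
  letI : Algebra R A := φ.toAlgebra
  haveI : Algebra.FiniteType R A :=
    (HasRingHomProperty.iff_of_isAffine (P := @LocallyOfFiniteType)).mp ‹_›
  haveI : Algebra.QuasiFinite R A := by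
    have h := (HasRingHomProperty.iff_of_isAffine (P := @LocallyQuasiFinite)).mp
      ‹LocallyQuasiFinite g›
    rw [← RingHom.quasiFinite_algebraMap, RingHom.algebraMap_toAlgebra]
    exact h
  obtain ⟨n, hn⟩ := Groth.Agent.Lib.R2H3.WtConsE.exists_bound (R := R) (A := A)
  refine ⟨n, fun s => ?_⟩
  set Ω := AlgebraicClosure (S.residueField s) with hΩ
  set a : Spec (.of Ω) ⟶ S := geomPt s with ha
  have hpt : a (closedPoint Ω) = s := geomPt_apply s _
  have hfin : (g ⁻¹' {s}).Finite := Scheme.Hom.finite_preimage_singleton g s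
  have h1 := fibreIntegral_eq_geom g a (fun _ => 1) (by rw [hpt]; exact hfin)
  rw [hpt] at h1
  rw [h1]
  haveI := finite_geomFibre g a (by rw [hpt]; exact hfin)
  letI : Algebra R Ω := ((Scheme.ΓSpecIso (.of Ω)).hom.hom.comp a.appTop.hom).toAlgebra
  obtain ⟨hF, hcard⟩ := hn Ω
  have sec : ∀ z : ↥(pullback g a), ∃ σ : Spec (.of Ω) ⟶ pullback g a,
      σ ≫ pullback.snd g a = 𝟙 _ ∧ σ (closedPoint Ω) = z := fun z =>
    exists_section (pullback.snd g a) z
  choose σ hσ1 hσ2 using sec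
  have hcomm : ∀ z, (σ z ≫ pullback.fst g a) ≫ g = a := fun z => by
    rw [Category.assoc, pullback.condition, ← Category.assoc, hσ1, Category.id_comp]
  let Ψ : ↥(pullback g a) → (A →ₐ[R] Ω) := fun z =>
    { toRingHom := (Scheme.ΓSpecIso (.of Ω)).hom.hom.comp (σ z ≫ pullback.fst g a).appTop.hom
      commutes' := fun r => by
        change (Scheme.ΓSpecIso (.of Ω)).hom.hom ((σ z ≫ pullback.fst g a).appTop.hom (φ r)) =
          (Scheme.ΓSpecIso (.of Ω)).hom.hom (a.appTop.hom r)
        have h0 : a.appTop = ((σ z ≫ pullback.fst g a) ≫ g).appTop := by rw [hcomm z]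
        rw [h0, Scheme.Hom.comp_appTop (σ z ≫ pullback.fst g a) g]
        rfl }
  have hΨ : Function.Injective Ψ := by
    intro z z' hzz'
    have e : ∀ r : Γ(Spec (.of Ω), ⊤), (Scheme.ΓSpecIso (.of Ω)).inv.hom
        ((Scheme.ΓSpecIso (.of Ω)).hom.hom r) = r := fun r =>
      congrArg (fun f => f.hom r) (Scheme.ΓSpecIso (.of Ω)).hom_inv_id
    have h2 : σ z ≫ pullback.fst g a = σ z' ≫ pullback.fst g a := by
      apply ext_of_isAffine
      ext b
      have hb := congrArg (fun f : A →ₐ[R] Ω => (Scheme.ΓSpecIso (.of Ω)).inv.hom (f b)) hzz'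
      change (Scheme.ΓSpecIso (.of Ω)).inv.hom ((Scheme.ΓSpecIso (.of Ω)).hom.hom
          ((σ z ≫ pullback.fst g a).appTop.hom b)) =
        (Scheme.ΓSpecIso (.of Ω)).inv.hom ((Scheme.ΓSpecIso (.of Ω)).hom.hom
          ((σ z' ≫ pullback.fst g a).appTop.hom b)) at hb
      rw [e, e] at hb
      exact hb
    have h3 : σ z = σ z' := by
      apply pullback.hom_ext h2
      rw [hσ1, hσ1]
    rw [← hσ2 z, ← hσ2 z', h3]
  letI := Fintype.ofFinite ↥(pullback g a)
  rw [finsum_eq_sum_of_fintype, Finset.sum_const, Finset.card_univ, nsmul_eq_mul, mul_one,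
    ← Nat.card_eq_fintype_card]
  exact_mod_cast (Nat.card_le_card_of_injective Ψ hΨ).trans hcard

/-- the separable degree of an open immersion is one. -/
theorem sd_openImmersion {S' S : Scheme.{u}} (j : S' ⟶ S) [IsOpenImmersion j] (y : S') :
    sd j y = 1 := by
  unfold sd
  letI := (j.residueFieldMap y).hom.toAlgebra
  have hbij : Function.Bijective (algebraMap (S.residueField (j y)) (S'.residueField y)) :=
    ConcreteCategory.bijective_of_isIso (j.residueFieldMap y)
  let e : S.residueField (j y) ≃ₐ[S.residueField (j y)] S'.residueField y :=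
    AlgEquiv.ofBijective (Algebra.ofId _ _) hbij
  rw [← Field.finSepDegree_eq_of_equiv _ _ _ e, Field.finSepDegree_self]

/-- fibre integrals are insensitive to enlarging the target along an open immersion. -/
theorem fibreIntegral_comp_openImmersion {T S' S : Scheme.{u}} (g : T ⟶ S') (j : S' ⟶ S)
    [IsOpenImmersion j] [LocallyQuasiFinite g] (w' : T → ℤ) (s' : S') :
    MoreMor.fibreIntegral (g ≫ j) w' (j s') = MoreMor.fibreIntegral g w' s' := by
  rw [fibreIntegral_eq_fI_univ, fibreIntegral_eq_fI_univ, fI, fI]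
  have hset : {x | (g ≫ j) x = j s'} = {x | g x = s'} := by
    ext x
    simp only [Set.mem_setOf_eq, Scheme.Hom.comp_apply]
    exact j.isOpenEmbedding.injective.eq_iff
  rw [hset]
  refine finsum_mem_congr rfl (fun x _ => ?_)
  rw [sd_comp, sd_openImmersion, one_mul]

theorem fibreIntegral_comp_openImmersion_of_notMem {T S' S : Scheme.{u}} (g : T ⟶ S')
    (j : S' ⟶ S) (w' : T → ℤ) (s : S) (hs : s ∉ Set.range j) :
    MoreMor.fibreIntegral (g ≫ j) w' s = 0 := by
  rw [fibreIntegral_eq_fI_univ, fI]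
  have hset : {x | (g ≫ j) x = s} ∩ Set.univ = ∅ := by
    ext x
    simp only [Set.mem_inter_iff, Set.mem_setOf_eq, Set.mem_univ, and_true,
      Set.mem_empty_iff_false, iff_false, Scheme.Hom.comp_apply]
    intro h
    exact hs ⟨_, h⟩
  rw [hset, finsum_mem_empty]

/-- a finite cover of a quasi-compact scheme by affine opens mapping into affine opens. -/
theorem exists_cover {X Y : Scheme.{u}} (f : X ⟶ Y) [CompactSpace X] :
    ∃ (I : Finset X) (XX : X → X.Opens) (YY : X → Y.Opens), (∀ x, IsAffineOpen (XX x)) ∧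
      (∀ x, IsAffineOpen (YY x)) ∧ (∀ x, XX x ≤ f ⁻¹ᵁ YY x) ∧ ∀ x : X, ∃ i ∈ I, x ∈ XX i := by
  have h1 : ∀ x : X, ∃ W : Y.Opens, IsAffineOpen W ∧ f x ∈ W := fun x => by
    obtain ⟨_, ⟨(W : Y.Opens), hW, rfl⟩, hxW, -⟩ :=
      Y.isBasis_affineOpens.exists_subset_of_mem_open (Set.mem_univ (f x)) isOpen_univ
    exact ⟨W, hW, hxW⟩
  choose YY hYY hfY using h1
  have h2 : ∀ x : X, ∃ U : X.Opens, IsAffineOpen U ∧ x ∈ U ∧ U ≤ f ⁻¹ᵁ YY x := fun x => by
    obtain ⟨_, ⟨(U : X.Opens), hU, rfl⟩, hxU, hUle⟩ :=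
      X.isBasis_affineOpens.exists_subset_of_mem_open (show x ∈ (f ⁻¹ᵁ YY x : Set X) from hfY x)
        (f ⁻¹ᵁ YY x).isOpen
    exact ⟨U, hU, hxU, hUle⟩
  choose XX hXX hxX hXle using h2
  obtain ⟨I, hI⟩ := CompactSpace.elim_nhds_subcover (fun x => (XX x : Set X))
    (fun x => (XX x).isOpen.mem_nhds (hxX x))
  refine ⟨I, XX, YY, hXX, hYY, hXle, fun x => ?_⟩
  have : x ∈ ⋃ i ∈ I, (XX i : Set X) := by rw [hI]; trivial
  simp only [Set.mem_iUnion, exists_prop] at this
  exact this

/-- local bound for one chart of the cover. -/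
theorem exists_bound_chart {X Y : Scheme.{u}} (f : X ⟶ Y) [LocallyQuasiFinite f]
    [LocallyOfFiniteType f] (U : X.Opens) (W : Y.Opens) (hU : IsAffineOpen U)
    (hW : IsAffineOpen W) (hUW : U ≤ f ⁻¹ᵁ W) :
    (∀ y, ({x | f x = y} ∩ (U : Set X)).Finite) ∧
      ∃ n : ℕ, ∀ y, fI f (fun _ => 1) U y ≤ n := by
  haveI : IsAffine U.toScheme := hU
  haveI : IsAffine W.toScheme := hW
  have hrange : Set.range (U.ι ≫ f) ⊆ Set.range W.ι := by
    rintro _ ⟨t, rfl⟩
    rw [Scheme.Opens.range_ι, Scheme.Hom.comp_apply]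
    have : U.ι t ∈ U := by
      have : U.ι t ∈ Set.range U.ι := ⟨_, rfl⟩
      rwa [Scheme.Opens.range_ι] at this
    exact hUW this
  let g : U.toScheme ⟶ W.toScheme := IsOpenImmersion.lift W.ι (U.ι ≫ f) hrange
  have hg : g ≫ W.ι = U.ι ≫ f := IsOpenImmersion.lift_fac _ _ _
  haveI : LocallyQuasiFinite (g ≫ W.ι) := by rw [hg]; infer_instance
  haveI : LocallyOfFiniteType (g ≫ W.ι) := by rw [hg]; infer_instance
  haveI : LocallyQuasiFinite g := LocallyQuasiFinite.of_comp g W.ι
  haveI : LocallyOfFiniteType g := locallyOfFiniteType_of_comp g W.ι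
  constructor
  · intro y
    have h1 : (g ⁻¹' (W.ι ⁻¹' {y})).Finite :=
      Scheme.Hom.finite_preimage g ((Set.finite_singleton y).preimage
        W.ι.isOpenEmbedding.injective.injOn)
    refine (h1.image U.ι).subset ?_
    rintro x ⟨hx, hxU⟩
    obtain ⟨t, rfl⟩ : x ∈ Set.range U.ι := by rw [Scheme.Opens.range_ι]; exact hxU
    refine ⟨t, ?_, rfl⟩
    change W.ι (g t) = y
    rw [← Scheme.Hom.comp_apply, hg, Scheme.Hom.comp_apply]
    exact hx
  · obtain ⟨n, hn⟩ := exists_bound_affine g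
    refine ⟨n, fun y => ?_⟩
    rw [← fibreIntegral_opens, ← hg]
    by_cases hy : y ∈ Set.range W.ι
    · obtain ⟨y', rfl⟩ := hy
      rw [fibreIntegral_comp_openImmersion]
      exact hn y'
    · rw [fibreIntegral_comp_openImmersion_of_notMem _ _ _ _ hy]
      exact Int.natCast_nonneg n

/-- on a quasi-compact source, a locally quasi-finite morphism has finite fibres and a uniform
bound on the number of geometric points of the fibres. -/
theorem exists_bound {X Y : Scheme.{u}} (f : X ⟶ Y) [LocallyQuasiFinite f]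
    [LocallyOfFiniteType f] [CompactSpace X] :
    (∀ y, (f ⁻¹' {y}).Finite) ∧ ∃ n : ℕ, ∀ y, fI f (fun _ => 1) Set.univ y ≤ n := by
  classical
  obtain ⟨I, XX, YY, hXX, hYY, hle, hcov⟩ := exists_cover f
  have H := fun i => exists_bound_chart f (XX i) (YY i) (hXX i) (hYY i) (hle i)
  have hfin : ∀ y, (f ⁻¹' {y}).Finite := by
    intro y
    refine (Set.Finite.biUnion I.finite_toSet (fun i _ => (H i).1 y)).subset ?_
    intro x hx
    obtain ⟨i, hi, hxi⟩ := hcov x
    exact Set.mem_biUnion hi ⟨hx, hxi⟩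
  refine ⟨hfin, ?_⟩
  choose n hn using fun i => (H i).2
  refine ⟨∑ i ∈ I, n i, fun y => ?_⟩
  have h1 := fI_le_sum f (fun _ => 1) (fun _ => zero_le_one) I (fun i => (XX i : Set X)) y
    (fun i _ => (H i).1 y) Set.univ (fun x _ => hcov x)
  refine h1.trans ?_
  push_cast
  exact Finset.sum_le_sum (fun i _ => hn i y)

/-- a weighting on a quasi-compact scheme takes finitely many values. -/
theorem finite_range_weighting {X Y : Scheme.{u}} (f : X ⟶ Y) [LocallyQuasiFinite f]
    [LocallyOfFiniteType f] [CompactSpace X] (w : X → ℤ) (hw : MoreMor.IsWeighting f w) :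
    (Set.range w).Finite := by
  obtain ⟨I, XX, YY, hXX, hYY, hle, hcov⟩ := exists_cover f
  have h1 : ∀ i, (Set.range (w ∘ (XX i).ι)).Finite := fun i => by
    haveI : IsAffine (XX i).toScheme := hXX i
    exact (Groth.Agent.Lib.R2H3.WtConsD.isConstructible_level ((XX i).ι ≫ f) (w ∘ (XX i).ι)
      (isWeighting_opens f w hw (XX i))).2
  refine (Set.Finite.biUnion I.finite_toSet (fun i _ => h1 i)).subset ?_
  rintro _ ⟨x, rfl⟩
  obtain ⟨i, hi, hxi⟩ := hcov x
  obtain ⟨t, rfl⟩ : x ∈ Set.range (XX i).ι := by rw [Scheme.Opens.range_ι]; exact hxi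
  exact Set.mem_biUnion hi ⟨t, rfl⟩

/-- the fibre integral of a weighting on a quasi-compact scheme is bounded above. -/
theorem exists_upper_bound {X Y : Scheme.{u}} (f : X ⟶ Y) [LocallyQuasiFinite f]
    [LocallyOfFiniteType f] [CompactSpace X] (w : X → ℤ) (hw : MoreMor.IsWeighting f w) :
    ∃ B : ℤ, ∀ y, MoreMor.fibreIntegral f w y ≤ B := by
  obtain ⟨hfin, n, hn⟩ := exists_bound f
  obtain ⟨M, hM⟩ := (finite_range_weighting f w hw).bddAbove
  refine ⟨max M 0 * n, fun y => ?_⟩
  rw [fibreIntegral_eq_fI_univ]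
  have hfin' : ({x | f x = y} ∩ Set.univ).Finite := by
    rw [Set.inter_univ]; exact hfin y
  have h1 := fI_mono_fun f w (fun x => (1 : ℤ) * max M 0) (fun x => by
    rw [one_mul]
    exact le_max_of_le_left (hM ⟨x, rfl⟩)) Set.univ y hfin'
  rw [fI_mul_const] at h1
  refine h1.trans ?_
  exact mul_le_mul_of_nonneg_left (hn y) (le_max_right _ _)

end Groth.Agent.Lib.R2H3.WtConsF
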