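import Mathlib
import Groth.Prelude.Def_MoreMor
import Groth.Agent.Lib.Helper2Weight
import Groth.Agent.Lib.Helper2Weight2
import Groth.Agent.Lib.Helper2Weight3
import Groth.Agent.Lib.R2H3WtConsA
import Groth.Agent.Lib.R2H3WtConsD
import Groth.Agent.Lib.R2H3WtAffA
import Groth.Agent.S1419

/-!
# Level sets of the fibre integral of a weighting are locally constructible
-/

set_option autoImplicit false
set_option linter.style.haveILetI false

universe u

namespace Groth.Agent.Lib.R2H3.WtConsG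

open AlgebraicGeometry CategoryTheory Limits IsLocalRing Topology
open Groth.Agent.Lib.Helper2.Weight
open Groth.Agent.Lib.R2H3.WtConsD (jmap jmap_fst jmap_snd isPullback_jmap)

/-- The étale local decomposition of the fibre integral of a weighting: over an affine étale
neighbourhood `V₁` of `y`, the base change of `X` is the disjoint union of two clopen parts `U'` and
`W'`, the fibre integral over `U'` being constant equal to the fibre integral at `y`. -/
theorem exists_split_affine' {X Y : Scheme.{u}} (f : X ⟶ Y) [LocallyQuasiFinite f]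
    [LocallyOfFiniteType f] [IsSeparated f] (hfin : ∀ y : Y, (f ⁻¹' {y}).Finite)
    (w : X → ℤ) (hw : MoreMor.IsWeighting f w) (y : Y) :
    ∃ (V₁ : Scheme.{u}) (g₁ : V₁ ⟶ Y) (v₁ : V₁) (W' : (pullback f g₁).Opens), IsAffine V₁ ∧
      Etale g₁ ∧ g₁ v₁ = y ∧ IsClosed (W' : Set ↥(pullback f g₁)) ∧
      (∀ x' ∈ W', pullback.snd f g₁ x' ≠ v₁) ∧
      ∀ v' : V₁, MoreMor.fibreIntegral f w (g₁ v') = MoreMor.fibreIntegral f w y +
        fI (pullback.snd f g₁) (w ∘ pullback.fst f g₁) W' v' := by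
  obtain ⟨V, gV, v, Aop, hgV, hv, hAcl, hAfin, hAv⟩ :=
    Groth.Agent.Lib.R2H3.WtAffA.exists_split f hfin y
  haveI := hgV
  haveI := hAfin
  have hG := isLocallyConstant_fI_etale f w hw gV Aop
  have hbc : ∀ {V' : Scheme.{u}} (g' : V' ⟶ Y) (v' : V'),
      MoreMor.fibreIntegral f w (g' v') =
        fI (pullback.snd f g') (w ∘ pullback.fst f g') Set.univ v' ∧
      ({x | pullback.snd f g' x = v'} ∩ Set.univ).Finite := by
    intro V' g' v'
    have h := fibreIntegral_baseChange f hfin (pullback.snd f g') (pullback.fst f g') g'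
      (IsPullback.of_hasPullback f g') w v'
    refine ⟨?_, ?_⟩
    · rw [← h.1, fibreIntegral_eq_fI_univ]
    · rw [Set.inter_univ]
      exact h.2
  have hval : fI (pullback.snd f gV) (w ∘ pullback.fst f gV) Aop v =
      MoreMor.fibreIntegral f w y := by
    rw [← hv, (hbc gV v).1]
    apply fI_congr_set
    ext x
    simp only [Set.mem_inter_iff, Set.mem_ofPred_eq, Set.mem_univ, and_true]
    exact ⟨fun h => h.1, fun h => ⟨h, hAv x h⟩⟩
  let N : Set V := {v' | fI (pullback.snd f gV) (w ∘ pullback.fst f gV) Aop v' =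
    MoreMor.fibreIntegral f w y}
  have hN : IsOpen N := hG.isOpen_fiber _
  have hvN : v ∈ N := hval
  obtain ⟨_, ⟨(V₁ : V.Opens), hV₁, rfl⟩, hvV₁, hV₁N⟩ :=
    V.isBasis_affineOpens.exists_subset_of_mem_open hvN hN
  haveI : IsAffine V₁.toScheme := hV₁
  set j := jmap f gV V₁ with hj
  have hc := isPullback_jmap f gV V₁
  let U' : (pullback f (V₁.ι ≫ gV)).Opens := j ⁻¹ᵁ Aop
  have hU'cl : IsClosed (U' : Set ↥(pullback f (V₁.ι ≫ gV))) := hAcl.preimage j.continuous
  let W' : (pullback f (V₁.ι ≫ gV)).Opens := ⟨(U' : Set ↥(pullback f (V₁.ι ≫ gV)))ᶜ, hU'cl.isOpen_compl⟩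
  have hW'cl : IsClosed (W' : Set ↥(pullback f (V₁.ι ≫ gV))) := by
    change IsClosed ((U' : Set ↥(pullback f (V₁.ι ≫ gV)))ᶜ)
    exact U'.isOpen.isClosed_compl
  refine ⟨V₁.toScheme, V₁.ι ≫ gV, ⟨v, hvV₁⟩, W', inferInstance, inferInstance, ?_, hW'cl, ?_, ?_⟩
  · rw [Scheme.Hom.comp_apply]
    exact hv
  · intro x' hx' hx'v
    apply hx'
    change j x' ∈ Aop
    apply hAv
    rw [← Scheme.Hom.comp_apply, hj, jmap_snd, Scheme.Hom.comp_apply, hx'v]
    rfl
  · intro v'
    obtain ⟨e1, hfinU⟩ := hbc (V₁.ι ≫ gV) v'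
    rw [e1]
    have hsplit : fI (pullback.snd f (V₁.ι ≫ gV)) (w ∘ pullback.fst f (V₁.ι ≫ gV))
        ((U' : Set ↥(pullback f (V₁.ι ≫ gV))) ∪ (U' : Set ↥(pullback f (V₁.ι ≫ gV)))ᶜ) v' =
        fI (pullback.snd f (V₁.ι ≫ gV)) (w ∘ pullback.fst f (V₁.ι ≫ gV)) U' v' +
          fI (pullback.snd f (V₁.ι ≫ gV)) (w ∘ pullback.fst f (V₁.ι ≫ gV)) (U' : Set ↥(pullback f (V₁.ι ≫ gV)))ᶜ v' := by
      apply fI_union
      · exact hfinU.subset (Set.inter_subset_inter_right _ (Set.subset_univ _))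
      · exact hfinU.subset (Set.inter_subset_inter_right _ (Set.subset_univ _))
      · rw [Set.disjoint_left]
        rintro t ⟨-, ht1⟩ ⟨-, ht2⟩
        exact ht2 ht1
    rw [Set.union_compl_self] at hsplit
    rw [hsplit]
    congr 1
    have h := fI_baseChange (pullback.snd f gV) (pullback.snd f (V₁.ι ≫ gV)) j V₁.ι hc Aop
      (w ∘ pullback.fst f gV) v'
    have hmem : V₁.ι v' ∈ N := by
      apply hV₁N
      have : V₁.ι v' ∈ Set.range V₁.ι := ⟨_, rfl⟩
      rwa [Scheme.Opens.range_ι] at this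
    rw [show fI (pullback.snd f gV) (w ∘ pullback.fst f gV) Aop (V₁.ι v') =
      MoreMor.fibreIntegral f w y from hmem] at h
    rw [← h]
    congr 1
    funext t
    simp only [Function.comp_apply]
    rw [← Scheme.Hom.comp_apply, hj, jmap_fst]


/-- locally constant for the constructible topology. -/
def ConsConst {Y : Type*} [TopologicalSpace Y] (φ : Y → ℤ) : Prop :=
  ∀ y, ∃ C : Set Y, IsConstructible C ∧ y ∈ C ∧ ∀ y' ∈ C, φ y' = φ y

theorem ConsConst.add {Y : Type*} [TopologicalSpace Y] {φ ψ : Y → ℤ} (hφ : ConsConst φ)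
    (hψ : ConsConst ψ) : ConsConst (fun y => φ y + ψ y) := by
  intro y
  obtain ⟨C₁, h1, h2, h3⟩ := hφ y
  obtain ⟨C₂, k1, k2, k3⟩ := hψ y
  exact ⟨C₁ ∩ C₂, h1.inter k1, ⟨h2, k2⟩, fun y' hy' => by
    change φ y' + ψ y' = φ y + ψ y
    rw [h3 y' hy'.1, k3 y' hy'.2]⟩

theorem ConsConst.sub {Y : Type*} [TopologicalSpace Y] {φ ψ : Y → ℤ} (hφ : ConsConst φ)
    (hψ : ConsConst ψ) : ConsConst (fun y => φ y - ψ y) := by
  intro y
  obtain ⟨C₁, h1, h2, h3⟩ := hφ y
  obtain ⟨C₂, k1, k2, k3⟩ := hψ y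
  exact ⟨C₁ ∩ C₂, h1.inter k1, ⟨h2, k2⟩, fun y' hy' => by
    change φ y' - ψ y' = φ y - ψ y
    rw [h3 y' hy'.1, k3 y' hy'.2]⟩

/-- the separated case. -/
theorem consConst_sep {X Y : Scheme.{u}} [IsAffine Y] (f : X ⟶ Y) [LocallyQuasiFinite f]
    [LocallyOfFinitePresentation f] [QuasiCompact f] [IsSeparated f] (w : X → ℤ)
    (hw : MoreMor.IsWeighting f w) : ConsConst (MoreMor.fibreIntegral f w) := by
  intro y
  have hfin : ∀ y : Y, (f ⁻¹' {y}).Finite := fun y => Scheme.Hom.finite_preimage_singleton f y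
  obtain ⟨V₁, g₁, v₁, W', hV₁, hg₁, hg₁v, hW'cl, hW'v, hform⟩ :=
    exists_split_affine' f hfin w hw y
  haveI := hV₁
  haveI := hg₁
  set ψ : W'.toScheme ⟶ V₁ := W'.ι ≫ pullback.snd f g₁ with hψ
  haveI : IsClosedImmersion W'.ι :=
    IsClosedImmersion.of_isPreimmersion W'.ι (by rw [Scheme.Opens.range_ι]; exact hW'cl)
  have hE : IsConstructible (Set.range ψ) := by
    rw [← Set.image_univ]
    exact Scheme.Hom.isConstructible_image ψ IsConstructible.univ
  have hG : IsConstructible (Set.range ψ)ᶜ := hE.compl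
  have hC : IsConstructible (g₁ '' (Set.range ψ)ᶜ) := Scheme.Hom.isConstructible_image g₁ hG
  refine ⟨_, hC, ⟨v₁, ?_, hg₁v⟩, ?_⟩
  · rintro ⟨t, ht⟩
    have h1 : W'.ι t ∈ W' := by
      have : W'.ι t ∈ Set.range W'.ι := ⟨_, rfl⟩
      rwa [Scheme.Opens.range_ι] at this
    exact hW'v _ h1 ht
  · rintro _ ⟨v', hv', rfl⟩
    rw [hform v']
    have h0 : fI (pullback.snd f g₁) (w ∘ pullback.fst f g₁) W' v' = 0 := by
      have hempty : {x | pullback.snd f g₁ x = v'} ∩ (W' : Set ↥(pullback f g₁)) =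
          {x | pullback.snd f g₁ x = v'} ∩ ∅ := by
        rw [Set.inter_empty]
        ext x
        simp only [Set.mem_inter_iff, Set.mem_ofPred_eq, Set.mem_empty_iff_false, iff_false,
          not_and]
        intro hx hxW
        apply hv'
        obtain ⟨t, rfl⟩ : x ∈ Set.range W'.ι := by rw [Scheme.Opens.range_ι]; exact hxW
        exact ⟨t, hx⟩
      rw [fI_congr_set _ _ _ _ _ hempty, fI_empty]
    rw [h0, add_zero]

/-- an open contained in an affine open. -/
theorem consConst_of_le_affine {X Y : Scheme.{u}} [IsAffine Y] (f : X ⟶ Y) [LocallyQuasiFinite f]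
    [LocallyOfFinitePresentation f] (w : X → ℤ) (hw : MoreMor.IsWeighting f w)
    (T U : X.Opens) (hT : IsCompact (T : Set X)) (hU : IsAffineOpen U) (hTU : T ≤ U) :
    ConsConst (fI f w T) := by
  haveI : IsAffine U.toScheme := hU
  haveI : CompactSpace T.toScheme := isCompact_iff_compactSpace.mp hT
  haveI : IsSeparated (T.ι ≫ f) := by
    rw [← X.homOfLE_ι hTU, Category.assoc]
    infer_instance
  have h := consConst_sep (T.ι ≫ f) (w ∘ T.ι) (isWeighting_opens f w hw T)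
  have e : MoreMor.fibreIntegral (T.ι ≫ f) (w ∘ T.ι) = fI f w T :=
    funext fun v => fibreIntegral_opens T f w v
  rwa [e] at h

theorem consConst_fI {X Y : Scheme.{u}} [IsAffine Y] (f : X ⟶ Y) [LocallyQuasiFinite f]
    [LocallyOfFinitePresentation f] [QuasiCompact f] [QuasiSeparated f] (w : X → ℤ)
    (hw : MoreMor.IsWeighting f w) (S : X.Opens) (hS : IsCompact (S : Set X)) :
    ConsConst (fI f w S) := by
  haveI : QuasiSeparatedSpace X := HasAffineProperty.iff_of_isAffine.mp ‹QuasiSeparated f›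
  have hfin : ∀ (A : Set X) (v : Y), ({x | f x = v} ∩ A).Finite := fun A v =>
    (Scheme.Hom.finite_preimage_singleton f v).subset Set.inter_subset_left
  refine compact_open_induction_on (P := fun S => ConsConst (fI f w (S : Set X))) S hS ?_ ?_
  · intro y
    refine ⟨Set.univ, IsConstructible.univ, trivial, fun y' _ => ?_⟩
    change fI f w ∅ y' = fI f w ∅ y
    rw [fI_empty, fI_empty]
  · intro S hS U ih
    have hU := consConst_of_le_affine f w hw U.1 U.1 U.2.isCompact U.2 le_rfl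
    have hSU := consConst_of_le_affine f w hw (S ⊓ U.1) U.1
      (hS.inter_of_isOpen U.2.isCompact S.isOpen U.1.isOpen) U.2 inf_le_right
    have key : fI f w ((S ⊔ U.1 : X.Opens) : Set X) =
        fun v => fI f w S v + fI f w U.1 v - fI f w ((S ⊓ U.1 : X.Opens) : Set X) v := by
      funext v
      have e1 : ((S ⊔ U.1 : X.Opens) : Set X) = (S : Set X) ∪ ((U.1 : Set X) \ S) := by
        rw [TopologicalSpace.Opens.coe_sup, Set.union_diff_self]
      have e2 : (U.1 : Set X) = ((S ⊓ U.1 : X.Opens) : Set X) ∪ ((U.1 : Set X) \ S) := by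
        rw [TopologicalSpace.Opens.coe_inf, Set.inter_comm, Set.inter_union_diff]
      have d1 : Disjoint ({x | f x = v} ∩ (S : Set X)) ({x | f x = v} ∩ ((U.1 : Set X) \ S)) := by
        rw [Set.disjoint_left]
        rintro x ⟨-, h1⟩ ⟨-, -, h2⟩
        exact h2 h1
      have d2 : Disjoint ({x | f x = v} ∩ ((S ⊓ U.1 : X.Opens) : Set X))
          ({x | f x = v} ∩ ((U.1 : Set X) \ S)) := by
        rw [Set.disjoint_left]
        rintro x ⟨-, h1⟩ ⟨-, -, h2⟩
        exact h2 h1.1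
      have a1 := fI_union f w (S : Set X) ((U.1 : Set X) \ S) v (hfin _ _) (hfin _ _) d1
      have a2 := fI_union f w ((S ⊓ U.1 : X.Opens) : Set X) ((U.1 : Set X) \ S) v (hfin _ _)
        (hfin _ _) d2
      rw [← e1] at a1
      rw [← e2] at a2
      rw [a1, a2]
      ring
    rw [key]
    exact (ih.add hU).sub hSU

/-- for an affine base, the level sets of the fibre integral are constructible. -/
theorem isConstructible_level_fibreIntegral {X Y : Scheme.{u}} [IsAffine Y] (f : X ⟶ Y)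
    [LocallyQuasiFinite f] [LocallyOfFinitePresentation f] [QuasiCompact f] [QuasiSeparated f]
    (w : X → ℤ) (hw : MoreMor.IsWeighting f w) (n : ℤ) :
    IsConstructible {y : Y | MoreMor.fibreIntegral f w y = n} := by
  haveI : CompactSpace X := HasAffineProperty.iff_of_isAffine.mp ‹QuasiCompact f›
  have h := consConst_fI f w hw ⊤ (by rw [TopologicalSpace.Opens.coe_top]; exact isCompact_univ)
  have e : fI f w ((⊤ : X.Opens) : Set X) = MoreMor.fibreIntegral f w := by
    funext v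
    rw [TopologicalSpace.Opens.coe_top, ← fibreIntegral_eq_fI_univ]
  rw [e] at h
  exact (Groth.Agent.Lib.R2H3.WtConsA.isConstructible_level (MoreMor.fibreIntegral f w) h).1 n

/-- `S1424`. -/
theorem isLocallyConstructible_level_fibreIntegral {X Y : Scheme.{u}} (f : X ⟶ Y)
    [LocallyQuasiFinite f] [LocallyOfFinitePresentation f] [QuasiCompact f] [QuasiSeparated f]
    (w : X → ℤ) (hw : MoreMor.IsWeighting f w) (n : ℤ) :
    IsLocallyConstructible {y : Y | MoreMor.fibreIntegral f w y = n} := by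
  intro y
  obtain ⟨_, ⟨(Y₀ : Y.Opens), hY₀, rfl⟩, hyY₀, -⟩ :=
    Y.isBasis_affineOpens.exists_subset_of_mem_open (Set.mem_univ y) isOpen_univ
  haveI : IsAffine Y₀.toScheme := hY₀
  refine ⟨Y₀, Y₀.isOpen.mem_nhds hyY₀, Y₀.isOpen, ?_⟩
  have hfin : ∀ y : Y, (f ⁻¹' {y}).Finite := fun y => Scheme.Hom.finite_preimage_singleton f y
  have hpb : IsPullback (f ⁻¹ᵁ Y₀).ι (f ∣_ Y₀) f Y₀.ι := (isPullback_morphismRestrict f Y₀).flip
  have hw' : MoreMor.IsWeighting (f ∣_ Y₀) (w ∘ (f ⁻¹ᵁ Y₀).ι) :=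
    Groth.Agent.S1419.result f w hw (f ∣_ Y₀) (f ⁻¹ᵁ Y₀).ι Y₀.ι hpb
  have h := isConstructible_level_fibreIntegral (f ∣_ Y₀) (w ∘ (f ⁻¹ᵁ Y₀).ι) hw' n
  have e : {y' : Y₀.toScheme | MoreMor.fibreIntegral (f ∣_ Y₀) (w ∘ (f ⁻¹ᵁ Y₀).ι) y' = n} =
      {y' : Y₀.toScheme | MoreMor.fibreIntegral f w (Y₀.ι y') = n} := by
    ext y'
    change MoreMor.fibreIntegral (f ∣_ Y₀) (w ∘ (f ⁻¹ᵁ Y₀).ι) y' = n ↔
      MoreMor.fibreIntegral f w (Y₀.ι y') = n
    rw [(fibreIntegral_baseChange f hfin (f ∣_ Y₀) (f ⁻¹ᵁ Y₀).ι Y₀.ι hpb w y').1]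
  rw [e] at h
  exact h

end Groth.Agent.Lib.R2H3.WtConsG
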