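import Mathlib
import Groth.Agent.Lib.H9NcE
import Groth.Agent.Lib.Helper6LfpComp

/-! helper3: `quasiCompact_ι_of_compl_range` (complement of a finitely presented closed immersion
is retrocompact); `isLocallyConstructible_N_ge` (non-Noetherian form of `H9NcF`: for `g` separated,
quasi-finite, quasi-compact, locally of finite presentation, `{s | k ≤ N g s}` is locally
constructible); `isLocallyConstructible_N_eq`. -/

set_option autoImplicit false
set_option linter.style.haveILetI false
universe u

namespace Groth.Agent.Lib.R2H3.WtLimA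

open CategoryTheory CategoryTheory.Limits AlgebraicGeometry TopologicalSpace Topology Set
open Groth.Agent.Lib.Helper2.Weight Groth.Agent.Lib.H9NcE

/-- the open complement of a closed immersion locally of finite presentation is retrocompact. -/
theorem quasiCompact_ι_of_compl_range {Z X : Scheme.{u}} (i : Z ⟶ X) [IsClosedImmersion i]
    [LocallyOfFinitePresentation i] (U : X.Opens) (hU : (U : Set X) = (Set.range i)ᶜ) :
    QuasiCompact U.ι := by
  classical
  rw [quasiCompact_iff_forall_isAffineOpen]
  intro W hW
  have hsupp : (i.ker.support : Set X) = Set.range i := by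
    rw [Scheme.Hom.support_ker, i.isClosedEmbedding.isClosed_range.closure_eq]
  have hsurj : Function.Surjective (i.app W).hom := i.app_surjective W hW
  have hWpre : IsAffineOpen (i ⁻¹ᵁ W) := hW.preimage i
  have hfp : (i.app W).hom.FinitePresentation := by
    rw [Scheme.Hom.app_eq_appLE]
    exact HasRingHomProperty.appLE (P := @LocallyOfFinitePresentation) i inferInstance
      ⟨W, hW⟩ ⟨i ⁻¹ᵁ W, hWpre⟩ le_rfl
  have hfg : (RingHom.ker (i.app W).hom).FG := by
    letI := (i.app W).hom.toAlgebra
    have : Algebra.FinitePresentation Γ(X, W) Γ(Z, i ⁻¹ᵁ W) := hfp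
    have := Algebra.FinitePresentation.ker_fG_of_surjective
      (Algebra.ofId Γ(X, W) Γ(Z, i ⁻¹ᵁ W)) hsurj
    exact this
  obtain ⟨t, ht⟩ := hfg
  have hker : i.ker.ideal ⟨W, hW⟩ = RingHom.ker (i.app W).hom := Scheme.Hom.ker_apply i ⟨W, hW⟩
  have hinter := Scheme.IdealSheafData.coe_support_inter i.ker ⟨W, hW⟩
  rw [hsupp, hker, ← ht, Scheme.zeroLocus_span] at hinter
  -- `(U ∩ W) = ⋃ f ∈ t, D(f)`
  have hUW : (U : Set X) ∩ W = ⋃ f ∈ t, (X.basicOpen f : Set X) := by
    ext x
    simp only [Set.mem_inter_iff, Set.mem_iUnion, exists_prop, SetLike.mem_coe]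
    constructor
    · rintro ⟨hxU, hxW⟩
      have hx : x ∉ Set.range i := by
        have : x ∈ (U : Set X) := hxU
        rw [hU] at this
        exact this
      by_contra hcon
      push Not at hcon
      apply hx
      have : x ∈ X.zeroLocus (U := W) (t : Set Γ(X, W)) ∩ (W : Set X) := by
        refine ⟨?_, hxW⟩
        rw [Scheme.mem_zeroLocus_iff]
        intro f hf
        exact hcon f hf
      rw [← hinter] at this
      exact this.1
    · rintro ⟨f, hf, hxf⟩
      have hxW : x ∈ W := X.basicOpen_le f hxf
      refine ⟨?_, hxW⟩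
      change x ∈ (U : Set X)
      rw [hU]
      intro hx
      have : x ∈ X.zeroLocus (U := W) (t : Set Γ(X, W)) ∩ (W : Set X) := by
        rw [← hinter]
        exact ⟨hx, hxW⟩
      have h1 := this.1
      rw [Scheme.mem_zeroLocus_iff] at h1
      exact h1 f hf hxf
  have hcomp : IsCompact ((U : Set X) ∩ W) := by
    rw [hUW]
    exact t.finite_toSet.isCompact_biUnion fun f _ => (hW.basicOpen f).isCompact
  have hind : IsInducing U.ι := U.ι.isOpenEmbedding.isInducing
  have hpre : (U.ι ⁻¹ᵁ W : Set U) = U.ι ⁻¹' ((U : Set X) ∩ W) := by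
    ext x
    simp only [Set.mem_preimage, Set.mem_inter_iff, SetLike.mem_coe]
    constructor
    · intro h
      exact ⟨x.2, h⟩
    · intro h
      exact h.2
  rw [hpre]
  refine (hind.isCompact_preimage_iff ?_).mpr hcomp
  rw [Scheme.Opens.range_ι]
  exact Set.inter_subset_left

/-- `g₂` is quasi-compact for `g` separated, locally of finite type. -/
theorem quasiCompact_g₂ {S T : Scheme.{u}} (g : T ⟶ S) [IsSeparated g] [LocallyOfFiniteType g]
    [QuasiCompact g] : QuasiCompact (g₂ g) := by
  haveI : LocallyOfFinitePresentation (pullback.diagonal g) :=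
    Groth.Agent.Lib.Helper6.locallyOfFinitePresentation_diagonal g
  haveI : QuasiCompact (W₂ g).ι := quasiCompact_ι_of_compl_range (pullback.diagonal g) (W₂ g) rfl
  unfold g₂
  infer_instance

/-- non-Noetherian form of `H9NcF.isLocallyConstructible_N_ge`. -/
theorem isLocallyConstructible_N_ge (k : ℕ) : ∀ {S T : Scheme.{u}} (g : T ⟶ S)
    [LocallyQuasiFinite g] [QuasiCompact g] [IsSeparated g]
    [LocallyOfFinitePresentation g], IsLocallyConstructible {s : S | (k : ℤ) ≤ N g s} := by
  induction k with
  | zero =>
    intro S T g _ _ _ _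
    have : {s : S | ((0 : ℕ) : ℤ) ≤ N g s} = Set.univ := by
      ext s
      simp only [Nat.cast_zero, Set.mem_ofPred_eq, Set.mem_univ, iff_true]
      exact N_nonneg g s
    rw [this]
    exact IsLocallyConstructible.univ
  | succ k ih =>
    intro S T g _ _ _ _
    haveI : LocallyQuasiFinite (g₂ g) := by unfold g₂; infer_instance
    haveI : QuasiCompact (g₂ g) := quasiCompact_g₂ g
    haveI : IsSeparated (g₂ g) := by unfold g₂; infer_instance
    haveI : LocallyOfFinitePresentation (g₂ g) := by unfold g₂; infer_instance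
    have hih := ih (g₂ g)
    have himg := g.isLocallyConstructible_image hih
    have hset : {s : S | ((k + 1 : ℕ) : ℤ) ≤ N g s} = g.base '' {t : T | (k : ℤ) ≤ N (g₂ g) t} := by
      ext s
      simp only [Set.mem_ofPred_eq, Set.mem_image]
      constructor
      · intro hs
        have hpos : 0 < N g s := by push_cast at hs; omega
        obtain ⟨t, rfl⟩ := exists_of_N_pos g s hpos
        refine ⟨t, ?_, rfl⟩
        rw [N_g₂]
        push_cast at hs
        omega
      · rintro ⟨t, ht, rfl⟩
        rw [N_g₂] at ht
        push_cast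
        omega
    rw [hset]
    exact himg

theorem isLocallyConstructible_compl {X : Type*} [TopologicalSpace X] {s : Set X}
    (hs : IsLocallyConstructible s) : IsLocallyConstructible sᶜ := by
  intro x
  obtain ⟨U, hU, hUo, hc⟩ := hs x
  refine ⟨U, hU, hUo, ?_⟩
  have : (Subtype.val ⁻¹' sᶜ : Set U) = (Subtype.val ⁻¹' s : Set U)ᶜ := rfl
  rw [this]
  exact hc.compl

/-- level sets of `N g` are locally constructible. -/
theorem isLocallyConstructible_N_eq {S T : Scheme.{u}} (g : T ⟶ S)
    [LocallyQuasiFinite g] [QuasiCompact g] [IsSeparated g]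
    [LocallyOfFinitePresentation g] (n : ℤ) : IsLocallyConstructible {s : S | N g s = n} := by
  by_cases hn : 0 ≤ n
  · obtain ⟨k, rfl⟩ := Int.eq_ofNat_of_zero_le hn
    have h1 := isLocallyConstructible_N_ge k g
    have h2 := isLocallyConstructible_N_ge (k + 1) g
    have hset : {s : S | N g s = (k : ℤ)} =
        {s : S | (k : ℤ) ≤ N g s} ∩ {s : S | ((k + 1 : ℕ) : ℤ) ≤ N g s}ᶜ := by
      ext s
      simp only [Set.mem_ofPred_eq, Set.mem_inter_iff, Set.mem_compl_iff]
      push_cast
      omega
    rw [hset]
    exact IsLocallyConstructible.inter h1 (isLocallyConstructible_compl h2)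
  · have hset : {s : S | N g s = n} = ∅ := by
      ext s
      simp only [Set.mem_ofPred_eq, Set.mem_empty_iff_false, iff_false]
      intro h
      have := N_nonneg g s
      omega
    rw [hset]
    exact IsLocallyConstructible.empty

end Groth.Agent.Lib.R2H3.WtLimA
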