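import Mathlib
import Groth.Agent.Lib.R2H3WtLimA
import Groth.Agent.Lib.R2H3WtConsG
import Groth.Agent.Lib.R2H3UFOpenC

/-! helper3: `fibreIntegral_preimmersion` (fibre integrals along a preimmersion followed by `p` are
set-based fibre integrals over the range); `AtomConst H φ` (φ is constant on the atoms of the finite
family `H` of global functions); `Vh`/`ιV` (the closed subscheme `V(h)` of an affine scheme);
`consConst_fibreIntegral_of_atomConst`: for a quasi-finite finitely presented morphism of affine
schemes and a function which is constant on the atoms of a finite family of functions, the fibre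
integral is locally constant for the constructible topology (no weighting hypothesis);
`level_fibreIntegral_of_atomConst`. -/

set_option autoImplicit false
set_option linter.style.haveILetI false
universe u

namespace Groth.Agent.Lib.R2H3.WtLimB

open CategoryTheory CategoryTheory.Limits AlgebraicGeometry TopologicalSpace Topology Set
open Groth.Agent.Lib.Helper2.Weight Groth.Agent.Lib.H9NcE
open Groth.Agent.Lib.R2H3.WtConsG (ConsConst)

theorem residueFieldMap_bijective {X Y : Scheme.{u}} (g : X ⟶ Y) [IsPreimmersion g] (x : X) :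
    Function.Bijective (g.residueFieldMap x) := by
  refine ⟨(g.residueFieldMap x).hom.injective, ?_⟩
  have h1 : Function.Surjective ((Y.residue (g x) ≫ g.residueFieldMap x).hom) := by
    rw [Scheme.residue_residueFieldMap]
    exact (IsLocalRing.residue_surjective (R := X.presheaf.stalk x)).comp
      (g.stalkMap_surjective x)
  have h2 : Function.Surjective ((g.residueFieldMap x).hom ∘ (Y.residue (g x)).hom) := h1
  exact Function.Surjective.of_comp h2

theorem fibreIntegral_preimmersion {U₀ P V : Scheme.{u}} (j : U₀ ⟶ P) [IsPreimmersion j]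
    (p : P ⟶ V) (w' : P → ℤ) (v : V) :
    MoreMor.fibreIntegral (j ≫ p) (w' ∘ j) v = fI p w' (Set.range j) v := by
  rw [fibreIntegral_eq, fI]
  have h1 : ({x | p x = v} ∩ Set.range j) = j '' {x | (j ≫ p) x = v} := by
    ext y
    constructor
    · rintro ⟨hy, x, rfl⟩
      exact ⟨x, hy, rfl⟩
    · rintro ⟨x, hx, rfl⟩
      exact ⟨hx, x, rfl⟩
  rw [h1, finsum_mem_image (j.isEmbedding.injective.injOn),
    ← finsum_set_coe_eq_finsum_mem]
  refine finsum_congr (fun x => ?_)
  change w' (j x.1) * _ = _
  rw [sd_comp_of_bijective j p x.1 (residueFieldMap_bijective j x.1)]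

/-- `φ` is constant on the atoms of the finite family `H` of global functions. -/
def AtomConst {X : Scheme.{u}} {α : Type*} (H : Finset Γ(X, ⊤)) (φ : X → α) : Prop :=
  ∀ x x' : X, (∀ h ∈ H, x ∈ X.basicOpen h ↔ x' ∈ X.basicOpen h) → φ x = φ x'

theorem AtomConst.mono {X : Scheme.{u}} {α : Type*} {H H' : Finset Γ(X, ⊤)} {φ : X → α}
    (hφ : AtomConst H φ) (hHH' : H ⊆ H') : AtomConst H' φ :=
  fun x x' h => hφ x x' fun g hg => h g (hHH' hg)

theorem mem_basicOpen_appTop {X' X : Scheme.{u}} (g : X' ⟶ X) (h : Γ(X, ⊤)) (x : X') :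
    x ∈ X'.basicOpen (g.appTop.hom h) ↔ g x ∈ X.basicOpen h := by
  have : g ⁻¹ᵁ X.basicOpen h = X'.basicOpen (g.appTop.hom h) := Scheme.preimage_basicOpen_top g h
  rw [← this]
  rfl

theorem AtomConst.comp {X' X : Scheme.{u}} {α : Type*} [DecidableEq Γ(X', ⊤)] {H : Finset Γ(X, ⊤)}
    {φ : X → α} (hφ : AtomConst H φ) (g : X' ⟶ X) :
    AtomConst (H.image g.appTop.hom) (φ ∘ g) := by
  intro x x' h
  apply hφ
  intro r hr
  rw [← mem_basicOpen_appTop, ← mem_basicOpen_appTop]
  exact h _ (Finset.mem_image_of_mem _ hr)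

section Vh

variable (U : Scheme.{u}) [IsAffine U] (h : Γ(U, ⊤))

/-- the closed subscheme `V(h)`. -/
noncomputable def Vh : Scheme.{u} := Spec (CommRingCat.of (Γ(U, ⊤) ⧸ Ideal.span {h}))

instance : IsAffine (Vh U h) := by unfold Vh; infer_instance

/-- the inclusion of `V(h)`. -/
noncomputable def ιV : Vh U h ⟶ U :=
  Spec.map (CommRingCat.ofHom (Ideal.Quotient.mk (Ideal.span {h}))) ≫ U.isoSpec.inv

instance : IsClosedImmersion (ιV U h) := by
  have h1 : IsClosedImmersion
      (Spec.map (CommRingCat.ofHom (Ideal.Quotient.mk (Ideal.span {h})))) :=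
    IsClosedImmersion.spec_of_surjective _ Ideal.Quotient.mk_surjective
  exact (MorphismProperty.cancel_right_of_respectsIso (P := @IsClosedImmersion) _
    U.isoSpec.inv).mpr h1

instance : LocallyOfFinitePresentation (ιV U h) := by
  have h1 : LocallyOfFinitePresentation
      (Spec.map (CommRingCat.ofHom (Ideal.Quotient.mk (Ideal.span {h})))) := by
    rw [LocallyOfFinitePresentation.SpecMap_iff]
    have : Algebra.FinitePresentation Γ(U, ⊤) (Γ(U, ⊤) ⧸ Ideal.span {h}) :=
      Algebra.FinitePresentation.quotient ⟨{h}, by simp⟩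
    exact RingHom.finitePresentation_algebraMap.mpr this
  exact (MorphismProperty.cancel_right_of_respectsIso (P := @LocallyOfFinitePresentation) _
    U.isoSpec.inv).mpr h1

open PrimeSpectrum in
theorem range_ιV : Set.range (ιV U h) = ((U.basicOpen h : Set U))ᶜ := by
  ext x
  rw [Set.mem_compl_iff, SetLike.mem_coe, Groth.Agent.Lib.R2H3.UFOpenC.mem_basicOpen_iff, not_not]
  constructor
  · rintro ⟨z, rfl⟩
    unfold ιV
    rw [Scheme.Hom.comp_apply, ← Scheme.Hom.comp_apply U.isoSpec.inv, Iso.inv_hom_id]
    change h ∈ ((PrimeSpectrum.comap (Ideal.Quotient.mk (Ideal.span {h}))) z).asIdeal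
    rw [PrimeSpectrum.comap_asIdeal, Ideal.mem_comap, Ideal.Quotient.eq_zero_iff_mem.mpr
      (Ideal.mem_span_singleton_self h)]
    exact zero_mem _
  · intro hx
    set p : PrimeSpectrum Γ(U, ⊤) := U.isoSpec.hom x with hp
    have hker : RingHom.ker (Ideal.Quotient.mk (Ideal.span {h})) ≤ p.asIdeal := by
      rw [Ideal.mk_ker, Ideal.span_le]
      rintro _ rfl
      exact hx
    have : p ∈ Set.range (PrimeSpectrum.comap (Ideal.Quotient.mk (Ideal.span {h}))) := by
      rw [range_comap_of_surjective _ _ Ideal.Quotient.mk_surjective]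
      exact hker
    obtain ⟨z, hz⟩ := this
    refine ⟨z, ?_⟩
    have h2 : (Spec.map (CommRingCat.ofHom (Ideal.Quotient.mk (Ideal.span {h})))) z =
        U.isoSpec.hom x := hz
    change U.isoSpec.inv
      ((Spec.map (CommRingCat.ofHom (Ideal.Quotient.mk (Ideal.span {h})))) z) = x
    rw [h2, ← Scheme.Hom.comp_apply, Iso.hom_inv_id]
    rfl

end Vh

theorem consConst_const_mul {Y : Type*} [TopologicalSpace Y] {φ : Y → ℤ} (hφ : ConsConst φ)
    (c : ℤ) : ConsConst (fun y => c * φ y) := by
  intro y
  obtain ⟨C, h1, h2, h3⟩ := hφ y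
  exact ⟨C, h1, h2, fun y' hy' => by change c * φ y' = c * φ y; rw [h3 y' hy']⟩

/-- `N π` is locally constant for the constructible topology. -/
theorem consConst_N {U V : Scheme.{u}} [CompactSpace V] [QuasiSeparatedSpace V] (π : U ⟶ V)
    [LocallyQuasiFinite π] [QuasiCompact π] [IsSeparated π] [LocallyOfFinitePresentation π] :
    ConsConst (N π) := by
  intro y
  refine ⟨{s | N π s = N π y},
    (Groth.Agent.Lib.R2H3.WtLimA.isLocallyConstructible_N_eq π (N π y)).isConstructible, rfl,
    fun y' hy' => hy'⟩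

/-- the main induction. -/
theorem consConst_fibreIntegral_of_atomConst_aux (n : ℕ) : ∀ {U V : Scheme.{u}} [IsAffine U]
    [IsAffine V] (π : U ⟶ V) [LocallyQuasiFinite π] [LocallyOfFinitePresentation π] (φ : U → ℤ)
    (H : Finset Γ(U, ⊤)), H.card ≤ n → AtomConst H φ → ConsConst (MoreMor.fibreIntegral π φ) := by
  classical
  induction n with
  | zero =>
    intro U V _ _ π _ _ φ H hcard hφ
    have hH : H = ∅ := Finset.card_eq_zero.mp (Nat.le_zero.mp hcard)
    subst hH
    have hconst : ∀ x x' : U, φ x = φ x' := fun x x' => hφ x x' (by simp)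
    by_cases hne : Nonempty U
    · obtain ⟨x₀⟩ := hne
      have e : MoreMor.fibreIntegral π φ = fun v => φ x₀ * N π v := by
        funext v
        have h1 : φ = fun y => (fun _ : U => (1 : ℤ)) y * φ x₀ := by
          funext y
          rw [one_mul]
          exact hconst y x₀
        rw [fibreIntegral_eq_fI_univ]
        conv_lhs => rw [h1]
        rw [fI_mul_const, ← fibreIntegral_eq_fI_univ]
        rfl
      rw [e]
      exact consConst_const_mul (consConst_N π) _
    · intro y
      refine ⟨Set.univ, IsConstructible.univ, trivial, fun y' _ => ?_⟩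
      have hz : ∀ v, MoreMor.fibreIntegral π φ v = 0 := by
        intro v
        rw [fibreIntegral_eq]
        haveI : IsEmpty {x : U // π x = v} := ⟨fun x => hne ⟨x.1⟩⟩
        exact finsum_of_isEmpty _
      rw [hz, hz]
  | succ n ih =>
    intro U V _ _ π _ _ φ H hcard hφ
    by_cases hle : H.card ≤ n
    · exact ih π φ H hle hφ
    have hne : H.Nonempty := by
      rw [← Finset.card_pos]
      omega
    obtain ⟨h, hh⟩ := hne
    have hcard' : (H.erase h).card ≤ n := by
      rw [Finset.card_erase_of_mem hh]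
      omega
    -- the open piece
    haveI : IsAffine (U.basicOpen h).toScheme := (isAffineOpen_top U).basicOpen h
    set ι₁ := (U.basicOpen h).ι with hι₁
    have hφ₁ : AtomConst ((H.erase h).image ι₁.appTop.hom) (φ ∘ ι₁) := by
      intro x x' hxx'
      apply hφ
      intro r hr
      by_cases hrh : r = h
      · subst hrh
        have h1 : ι₁ x ∈ U.basicOpen r := by
          have : ι₁ x ∈ Set.range ι₁ := ⟨x, rfl⟩
          rwa [Scheme.Opens.range_ι] at this
        have h2 : ι₁ x' ∈ U.basicOpen r := by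
          have : ι₁ x' ∈ Set.range ι₁ := ⟨x', rfl⟩
          rwa [Scheme.Opens.range_ι] at this
        exact ⟨fun _ => h2, fun _ => h1⟩
      · rw [← mem_basicOpen_appTop, ← mem_basicOpen_appTop]
        exact hxx' _ (Finset.mem_image_of_mem _ (Finset.mem_erase.mpr ⟨hrh, hr⟩))
    have hc₁ : ((H.erase h).image ι₁.appTop.hom).card ≤ n :=
      Finset.card_image_le.trans hcard'
    have ih₁ := ih (ι₁ ≫ π) (φ ∘ ι₁) _ hc₁ hφ₁
    -- the closed piece
    set ι₀ := ιV U h with hι₀
    have hφ₀ : AtomConst ((H.erase h).image ι₀.appTop.hom) (φ ∘ ι₀) := by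
      intro x x' hxx'
      apply hφ
      intro r hr
      by_cases hrh : r = h
      · subst hrh
        have h1 : ι₀ x ∉ U.basicOpen r := by
          have : ι₀ x ∈ Set.range ι₀ := ⟨x, rfl⟩
          rw [range_ιV] at this
          exact this
        have h2 : ι₀ x' ∉ U.basicOpen r := by
          have : ι₀ x' ∈ Set.range ι₀ := ⟨x', rfl⟩
          rw [range_ιV] at this
          exact this
        exact ⟨fun h' => absurd h' h1, fun h' => absurd h' h2⟩
      · rw [← mem_basicOpen_appTop, ← mem_basicOpen_appTop]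
        exact hxx' _ (Finset.mem_image_of_mem _ (Finset.mem_erase.mpr ⟨hrh, hr⟩))
    have hc₀ : ((H.erase h).image ι₀.appTop.hom).card ≤ n :=
      Finset.card_image_le.trans hcard'
    have ih₀ := ih (ι₀ ≫ π) (φ ∘ ι₀) _ hc₀ hφ₀
    have key : MoreMor.fibreIntegral π φ = fun v =>
        MoreMor.fibreIntegral (ι₁ ≫ π) (φ ∘ ι₁) v + MoreMor.fibreIntegral (ι₀ ≫ π) (φ ∘ ι₀) v := by
      funext v
      have hfin : ∀ A : Set U, ({x | π x = v} ∩ A).Finite := fun A =>
        (Scheme.Hom.finite_preimage_singleton π v).subset Set.inter_subset_left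
      have e1 : MoreMor.fibreIntegral (ι₁ ≫ π) (φ ∘ ι₁) v = fI π φ (U.basicOpen h : Set U) v :=
        fibreIntegral_opens (U.basicOpen h) π φ v
      have e0 : MoreMor.fibreIntegral (ι₀ ≫ π) (φ ∘ ι₀) v = fI π φ ((U.basicOpen h : Set U))ᶜ v := by
        rw [fibreIntegral_preimmersion, range_ιV]
      rw [e1, e0, fibreIntegral_eq_fI_univ, ← fI_union π φ _ _ v (hfin _) (hfin _),
        Set.union_compl_self]
      rw [Set.disjoint_left]
      rintro x ⟨-, hx1⟩ ⟨-, hx2⟩
      exact hx2 hx1
    rw [key]
    exact ih₁.add ih₀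

theorem consConst_fibreIntegral_of_atomConst {U V : Scheme.{u}} [IsAffine U]
    [IsAffine V] (π : U ⟶ V) [LocallyQuasiFinite π] [LocallyOfFinitePresentation π] (φ : U → ℤ)
    (H : Finset Γ(U, ⊤)) (hφ : AtomConst H φ) : ConsConst (MoreMor.fibreIntegral π φ) :=
  consConst_fibreIntegral_of_atomConst_aux H.card π φ H le_rfl hφ

/-- level sets of the fibre integral are constructible, and there are finitely many values. -/
theorem level_fibreIntegral_of_atomConst {U V : Scheme.{u}} [IsAffine U]
    [IsAffine V] (π : U ⟶ V) [LocallyQuasiFinite π] [LocallyOfFinitePresentation π] (φ : U → ℤ)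
    (H : Finset Γ(U, ⊤)) (hφ : AtomConst H φ) :
    (∀ n : ℤ, IsConstructible (MoreMor.fibreIntegral π φ ⁻¹' {n})) ∧
      (Set.range (MoreMor.fibreIntegral π φ)).Finite :=
  Groth.Agent.Lib.R2H3.WtConsA.isConstructible_level _
    (consConst_fibreIntegral_of_atomConst π φ H hφ)

end Groth.Agent.Lib.R2H3.WtLimB
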