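import Mathlib
import Groth.Agent.Lib.R2H3WtLimB

/-! helper3: constructible functions on affine schemes and cofiltered limits.
`exists_atomConst_of_isConstructible`, `exists_atomConst_of_level` (a function with finitely many
values and constructible level sets on an affine scheme is `AtomConst` for a finite family of
functions); `exists_stage_atomConst` (an `AtomConst` function on a cofiltered limit of affine
schemes descends to a stage); `exists_preimage_eq_empty` (a constructible subset of a stage whose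
preimage in the limit is empty has empty preimage at a later stage); `exists_isOpen_preimage`;
`exists_isLocallyConstant_stage` (a constructible function on a stage which is locally constant on
the limit is locally constant at a later stage). -/

set_option autoImplicit false
set_option linter.style.haveILetI false
universe u

namespace Groth.Agent.Lib.R2H3.WtLimC

open CategoryTheory CategoryTheory.Limits AlgebraicGeometry TopologicalSpace Topology Set
open Groth.Agent.Lib.R2H3.WtLimB

section atoms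

variable {X : Scheme.{u}} [IsAffine X]

/-- a constructible subset of an affine scheme is a union of atoms of a finite family of
functions. -/
theorem exists_atomConst_of_isConstructible (s : Set X) (hs : IsConstructible s) :
    ∃ H : Finset Γ(X, ⊤), AtomConst H (fun x => x ∈ s) := by
  classical
  have basis : IsTopologicalBasis (Set.range (fun r : Γ(X, ⊤) => (X.basicOpen r : Set X))) := by
    have h := isBasis_basicOpen X
    unfold Opens.IsBasis at h
    convert h using 1
    ext t
    simp only [Set.mem_range, Set.mem_image]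
    constructor
    · rintro ⟨r, rfl⟩
      exact ⟨_, ⟨r, rfl⟩, rfl⟩
    · rintro ⟨_, ⟨r, rfl⟩, rfl⟩
      exact ⟨r, rfl⟩
  refine IsConstructible.induction_of_isTopologicalBasis
    (P := fun s _ => ∃ H : Finset Γ(X, ⊤), AtomConst H (fun x => x ∈ s))
    (fun r : Γ(X, ⊤) => (X.basicOpen r : Set X)) basis
    (fun r => ((isAffineOpen_top X).basicOpen r).isCompact) ?_ ?_ s hs
  · intro i t ht
    refine ⟨insert i ht.toFinset, ?_⟩
    intro x x' h
    have hi : x ∈ X.basicOpen i ↔ x' ∈ X.basicOpen i := h i (Finset.mem_insert_self _ _)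
    have ht' : ∀ j ∈ t, (x ∈ X.basicOpen j ↔ x' ∈ X.basicOpen j) := fun j hj =>
      h j (Finset.mem_insert_of_mem (ht.mem_toFinset.mpr hj))
    simp only [Set.mem_sdiff, Set.mem_iUnion, SetLike.mem_coe, exists_prop, eq_iff_iff]
    constructor
    · rintro ⟨h1, h2⟩
      refine ⟨hi.mp h1, ?_⟩
      rintro ⟨j, hj, hx'⟩
      exact h2 ⟨j, hj, (ht' j hj).mpr hx'⟩
    · rintro ⟨h1, h2⟩
      refine ⟨hi.mpr h1, ?_⟩
      rintro ⟨j, hj, hx'⟩
      exact h2 ⟨j, hj, (ht' j hj).mp hx'⟩
  · rintro s _ t _ ⟨H₁, h₁⟩ ⟨H₂, h₂⟩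
    refine ⟨H₁ ∪ H₂, ?_⟩
    intro x x' h
    have e1 : (x ∈ s) = (x' ∈ s) := h₁ x x' fun g hg => h g (Finset.mem_union_left _ hg)
    have e2 : (x ∈ t) = (x' ∈ t) := h₂ x x' fun g hg => h g (Finset.mem_union_right _ hg)
    simp only [Set.mem_union, eq_iff_iff]
    rw [e1, e2]

/-- a function with finitely many values and constructible level sets is `AtomConst`. -/
theorem exists_atomConst_of_level {α : Type*} (φ : X → α) (hfin : (Set.range φ).Finite)
    (hlev : ∀ a : α, IsConstructible (φ ⁻¹' {a})) :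
    ∃ H : Finset Γ(X, ⊤), AtomConst H φ := by
  classical
  choose Ha hHa using fun a : α => exists_atomConst_of_isConstructible (φ ⁻¹' {a}) (hlev a)
  refine ⟨hfin.toFinset.biUnion Ha, ?_⟩
  intro x x' h
  have hx : φ x ∈ hfin.toFinset := hfin.mem_toFinset.mpr ⟨x, rfl⟩
  have := hHa (φ x) x x' fun g hg => h g (Finset.mem_biUnion.mpr ⟨φ x, hx, hg⟩)
  have h3 : (x ∈ φ ⁻¹' {φ x}) = (x' ∈ φ ⁻¹' {φ x}) := this
  have h2 : x' ∈ φ ⁻¹' {φ x} := by
    rw [← h3]
    rfl
  exact h2.symm

end atoms

section limit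

variable {I : Type u} [Category.{u} I] [IsCofiltered I] (D : I ⥤ Scheme.{u}) (c : Cone D)
  (hc : IsLimit c)

include hc in
/-- finitely many global functions on the limit come from a common stage. -/
theorem exists_stage_functions [∀ i, IsAffine (D.obj i)] (H : Finset Γ(c.pt, ⊤)) :
    ∃ i : I, ∀ h ∈ H, ∃ t : Γ(D.obj i, ⊤), (c.π.app i).appTop.hom t = h := by
  classical
  induction H using Finset.induction_on with
  | empty =>
    obtain ⟨i⟩ := IsCofiltered.nonempty (C := I)
    exact ⟨i, by simp⟩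
  | insert a H _ ih =>
    obtain ⟨i, hi⟩ := ih
    obtain ⟨j, t, ht⟩ := exists_appTop_π_eq_of_isAffine_of_isLimit D c hc a
    refine ⟨IsCofiltered.min i j, ?_⟩
    intro h hh
    rw [Finset.mem_insert] at hh
    rcases hh with rfl | hh
    · refine ⟨(D.map (IsCofiltered.minToRight i j)).appTop.hom t, ?_⟩
      rw [← ht, ← CommRingCat.comp_apply, ← Scheme.Hom.comp_appTop, c.w]
    · obtain ⟨t', ht'⟩ := hi h hh
      refine ⟨(D.map (IsCofiltered.minToLeft i j)).appTop.hom t', ?_⟩
      rw [← ht', ← CommRingCat.comp_apply, ← Scheme.Hom.comp_appTop, c.w]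

include hc in
/-- an `AtomConst` function on a cofiltered limit of affine schemes descends to a stage. -/
theorem exists_stage_atomConst [∀ i, IsAffine (D.obj i)] (H : Finset Γ(c.pt, ⊤)) (φ : c.pt → ℤ)
    (hφ : AtomConst H φ) :
    ∃ (i : I) (Hi : Finset Γ(D.obj i, ⊤)) (φi : D.obj i → ℤ), AtomConst Hi φi ∧
      ∀ x : c.pt, φi (c.π.app i x) = φ x := by
  classical
  obtain ⟨i, hi⟩ := exists_stage_functions D c hc H
  choose! ℓ hℓ using hi
  let cond : D.obj i → c.pt → Prop := fun z x =>
    ∀ h ∈ H, (x ∈ c.pt.basicOpen h ↔ z ∈ (D.obj i).basicOpen (ℓ h))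
  let φi : D.obj i → ℤ := fun z => if hz : ∃ x, cond z x then φ hz.choose else 0
  have hcond_self : ∀ x : c.pt, cond (c.π.app i x) x := by
    intro x h hh
    rw [← mem_basicOpen_appTop, hℓ h hh]
    exact Iff.rfl
  refine ⟨i, H.image ℓ, φi, ?_, ?_⟩
  · intro z z' hzz'
    have hcc : ∀ x, cond z x ↔ cond z' x := by
      intro x
      constructor
      · intro hx h hh
        rw [hx h hh]
        exact hzz' _ (Finset.mem_image_of_mem _ hh)
      · intro hx h hh
        rw [hx h hh]
        exact (hzz' _ (Finset.mem_image_of_mem _ hh)).symm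
    by_cases hz : ∃ x, cond z x
    · have hz' : ∃ x, cond z' x := by
        obtain ⟨x, hx⟩ := hz
        exact ⟨x, (hcc x).mp hx⟩
      change (if hz : ∃ x, cond z x then φ hz.choose else 0) =
        (if hz : ∃ x, cond z' x then φ hz.choose else 0)
      rw [dif_pos hz, dif_pos hz']
      apply hφ
      intro h hh
      rw [hz.choose_spec h hh, hz'.choose_spec h hh]
      exact hzz' _ (Finset.mem_image_of_mem _ hh)
    · have hz' : ¬ ∃ x, cond z' x := by
        rintro ⟨x, hx⟩
        exact hz ⟨x, (hcc x).mpr hx⟩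
      change (if hz : ∃ x, cond z x then φ hz.choose else 0) =
        (if hz : ∃ x, cond z' x then φ hz.choose else 0)
      rw [dif_neg hz, dif_neg hz']
  · intro x
    have hz : ∃ x', cond (c.π.app i x) x' := ⟨x, hcond_self x⟩
    change (if hz : ∃ x', cond (c.π.app i x) x' then φ hz.choose else 0) = φ x
    rw [dif_pos hz]
    apply hφ
    intro h hh
    rw [hz.choose_spec h hh, hcond_self x h hh]

variable [∀ {i j} (f : i ⟶ j), IsAffineHom (D.map f)]

include hc in
/-- a constructible subset of a stage with empty preimage in the limit has empty preimage at a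
later stage. -/
theorem exists_preimage_eq_empty [∀ i, CompactSpace (D.obj i)]
    [∀ i, QuasiSeparatedSpace (D.obj i)] (k : I) (Δ : Set (D.obj k)) (hΔ : IsConstructible Δ)
    (hempty : (c.π.app k) ⁻¹' Δ = ∅) :
    ∃ (l : I) (f : l ⟶ k), (D.map f) ⁻¹' Δ = ∅ := by
  classical
  have basis : IsTopologicalBasis (Set.range (fun W : (D.obj k).affineOpens => (W.1 : Set (D.obj k)))) := by
    have h := (D.obj k).isBasis_affineOpens
    unfold Opens.IsBasis at h
    convert h using 1
    ext t
    simp only [Set.mem_range, Set.mem_image]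
    constructor
    · rintro ⟨r, rfl⟩
      exact ⟨r.1, r.2, rfl⟩
    · rintro ⟨r, hr, rfl⟩
      exact ⟨⟨r, hr⟩, rfl⟩
  haveI : Nonempty (D.obj k).affineOpens := ⟨⟨⊥, isAffineOpen_bot _⟩⟩
  revert hempty
  refine IsConstructible.induction_of_isTopologicalBasis
    (P := fun s _ => (c.π.app k) ⁻¹' s = ∅ → ∃ (l : I) (f : l ⟶ k), (D.map f) ⁻¹' s = ∅)
    (fun W : (D.obj k).affineOpens => (W.1 : Set (D.obj k))) basis
    (fun W => W.2.isCompact) ?_ ?_ Δ hΔ
  · intro W t ht hempty
    let V : (D.obj k).Opens := ⨆ j ∈ ht.toFinset, (j.1 : (D.obj k).Opens)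
    have hV : (V : Set (D.obj k)) = ⋃ j ∈ t, (j.1 : Set (D.obj k)) := by
      ext x
      simp only [V, Opens.coe_iSup, Set.mem_iUnion, Set.Finite.mem_toFinset, SetLike.mem_coe,
        exists_prop]
    have hle : c.π.app k ⁻¹ᵁ W.1 ≤ c.π.app k ⁻¹ᵁ V := by
      intro x hx
      by_contra hcon
      have : x ∈ (c.π.app k) ⁻¹' ((W.1 : Set (D.obj k)) \ ⋃ j ∈ t, (j.1 : Set (D.obj k))) := by
        refine ⟨hx, ?_⟩
        rw [← hV]
        exact hcon
      rw [hempty] at this
      exact this
    obtain ⟨l, f, hl⟩ := exists_map_preimage_le_map_preimage D c hc W.2.isCompact hle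
    refine ⟨l, f, ?_⟩
    rw [Set.eq_empty_iff_forall_notMem]
    rintro x ⟨hx1, hx2⟩
    apply hx2
    rw [← hV]
    exact hl hx1
  · intro s _ t _ ihs iht hempty
    rw [Set.preimage_union, Set.union_empty_iff] at hempty
    obtain ⟨l₁, f₁, h₁⟩ := ihs hempty.1
    obtain ⟨l₂, f₂, h₂⟩ := iht hempty.2
    obtain ⟨l, g₁, g₂, hg⟩ := IsCofiltered.cospan f₁ f₂
    refine ⟨l, g₁ ≫ f₁, ?_⟩
    rw [Set.preimage_union, Set.union_empty_iff]
    constructor
    · rw [D.map_comp, Scheme.Hom.comp_base, TopCat.coe_comp, Set.preimage_comp, h₁,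
        Set.preimage_empty]
    · rw [hg, D.map_comp, Scheme.Hom.comp_base, TopCat.coe_comp, Set.preimage_comp, h₂,
        Set.preimage_empty]

include hc in
/-- a constructible subset of a stage with open and compact preimage in the limit has open preimage
at a later stage. -/
theorem exists_isOpen_preimage [∀ i, CompactSpace (D.obj i)]
    [∀ i, QuasiSeparatedSpace (D.obj i)] (k : I) (E : Set (D.obj k)) (hE : IsConstructible E)
    (hopen : IsOpen ((c.π.app k) ⁻¹' E)) (hcomp : IsCompact ((c.π.app k) ⁻¹' E)) :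
    ∃ (l : I) (f : l ⟶ k), IsOpen ((D.map f) ⁻¹' E) := by
  obtain ⟨i, W, hW, hWS⟩ := exists_preimage_eq D c hc ⟨_, hopen⟩ hcomp
  set m := IsCofiltered.min k i with hm
  set fk : m ⟶ k := IsCofiltered.minToLeft k i with hfk
  set fi : m ⟶ i := IsCofiltered.minToRight k i with hfi
  have hEm : IsConstructible ((D.map fk) ⁻¹' E) := (D.map fk).isConstructible_preimage hE
  have hWm : IsConstructible ((D.map fi) ⁻¹' (W : Set (D.obj i))) :=
    (D.map fi).isConstructible_preimage (hW.isConstructible W.2)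
  have hΔ : IsConstructible (symmDiff ((D.map fk) ⁻¹' E) ((D.map fi) ⁻¹' (W : Set (D.obj i)))) :=
    (hEm.sdiff hWm).union (hWm.sdiff hEm)
  have e1 : (c.π.app m) ⁻¹' ((D.map fk) ⁻¹' E) = (c.π.app k) ⁻¹' E := by
    rw [← Set.preimage_comp, ← TopCat.coe_comp, ← Scheme.Hom.comp_base, c.w]
  have e2 : (c.π.app m) ⁻¹' ((D.map fi) ⁻¹' (W : Set (D.obj i))) = (c.π.app k) ⁻¹' E := by
    rw [← Set.preimage_comp, ← TopCat.coe_comp, ← Scheme.Hom.comp_base, c.w]
    exact congrArg (fun U : c.pt.Opens => (U : Set c.pt)) hWS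
  have hempty : (c.π.app m) ⁻¹'
      (symmDiff ((D.map fk) ⁻¹' E) ((D.map fi) ⁻¹' (W : Set (D.obj i)))) = ∅ := by
    change (c.π.app m) ⁻¹' ((((D.map fk) ⁻¹' E) \ ((D.map fi) ⁻¹' (W : Set (D.obj i)))) ∪
      (((D.map fi) ⁻¹' (W : Set (D.obj i))) \ ((D.map fk) ⁻¹' E))) = ∅
    rw [Set.preimage_union, Set.preimage_sdiff, Set.preimage_sdiff, e1, e2, Set.sdiff_self,
      Set.union_self]
  obtain ⟨l, f, hl⟩ := exists_preimage_eq_empty D c hc m _ hΔ hempty
  refine ⟨l, f ≫ fk, ?_⟩
  have hl' : (D.map f) ⁻¹' ((((D.map fk) ⁻¹' E) \ ((D.map fi) ⁻¹' (W : Set (D.obj i)))) ∪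
      (((D.map fi) ⁻¹' (W : Set (D.obj i))) \ ((D.map fk) ⁻¹' E))) = ∅ := hl
  rw [Set.preimage_union, Set.union_empty_iff, Set.preimage_sdiff, Set.preimage_sdiff,
    Set.sdiff_eq_empty, Set.sdiff_eq_empty] at hl'
  have heq : (D.map (f ≫ fk)) ⁻¹' E = (D.map f) ⁻¹' ((D.map fi) ⁻¹' (W : Set (D.obj i))) := by
    rw [D.map_comp, Scheme.Hom.comp_base, TopCat.coe_comp, Set.preimage_comp]
    exact le_antisymm hl'.1 hl'.2
  rw [heq]
  exact (W.2.preimage (D.map fi).continuous).preimage (D.map f).continuous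

include hc in
/-- a constructible function on a stage which becomes locally constant on the limit is locally
constant at a later stage. -/
theorem exists_isLocallyConstant_stage [∀ i, CompactSpace (D.obj i)]
    [∀ i, QuasiSeparatedSpace (D.obj i)] (k : I) {α : Type*} (G : D.obj k → α)
    (hfin : (Set.range G).Finite) (hlev : ∀ a : α, IsConstructible (G ⁻¹' {a}))
    (hloc : IsLocallyConstant (G ∘ c.π.app k)) :
    ∃ (l : I) (f : l ⟶ k), IsLocallyConstant (G ∘ D.map f) := by
  classical
  haveI : CompactSpace c.pt := Scheme.compactSpace_of_isLimit D c hc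
  have key : ∀ F : Finset α, ∃ (l : I) (f : l ⟶ k), ∀ a ∈ F, IsOpen ((D.map f) ⁻¹' (G ⁻¹' {a})) := by
    intro F
    induction F using Finset.induction_on with
    | empty => exact ⟨k, 𝟙 k, by simp⟩
    | insert a F _ ih =>
      obtain ⟨l₁, f₁, h₁⟩ := ih
      have hopen : IsOpen ((c.π.app k) ⁻¹' (G ⁻¹' {a})) := (hloc.isClopen_fiber a).isOpen
      have hclosed : IsClosed ((c.π.app k) ⁻¹' (G ⁻¹' {a})) := (hloc.isClopen_fiber a).isClosed
      have hcomp : IsCompact ((c.π.app k) ⁻¹' (G ⁻¹' {a})) :=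
        @IsClosed.isCompact c.pt _ _ _ hclosed
      obtain ⟨l₂, f₂, h₂⟩ := exists_isOpen_preimage D c hc k _ (hlev a) hopen hcomp
      obtain ⟨l, g₁, g₂, hg⟩ := IsCofiltered.cospan f₁ f₂
      refine ⟨l, g₁ ≫ f₁, ?_⟩
      intro b hb
      rw [Finset.mem_insert] at hb
      rcases hb with rfl | hb
      · rw [hg, D.map_comp, Scheme.Hom.comp_base, TopCat.coe_comp, Set.preimage_comp]
        exact h₂.preimage (D.map g₂).continuous
      · rw [D.map_comp, Scheme.Hom.comp_base, TopCat.coe_comp, Set.preimage_comp]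
        exact (h₁ b hb).preimage (D.map g₁).continuous
  obtain ⟨l, f, hl⟩ := key hfin.toFinset
  refine ⟨l, f, ?_⟩
  rw [IsLocallyConstant.iff_isOpen_fiber]
  intro a
  by_cases ha : a ∈ Set.range G
  · exact hl a (hfin.mem_toFinset.mpr ha)
  · have : (G ∘ D.map f) ⁻¹' {a} = ∅ := by
      rw [Set.eq_empty_iff_forall_notMem]
      intro x hx
      exact ha ⟨_, hx⟩
    rw [this]
    exact isOpen_empty

end limit

end Groth.Agent.Lib.R2H3.WtLimC
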