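import Mathlib
import Groth.Agent.Lib.Helper2Weight
import Groth.Agent.Lib.Helper2Weight2
import Groth.Agent.Lib.Helper2Weight3

/-! helper3: weightings and universal finite opens.
`isLocallyConstant_of_isWeighting`: for a weighting `w` of a base change `f` of `f1`, the fibre
integral over a finite open `Uu` of `X1 ×_{Y1} Yu`, pulled back to `Yu ×_{Y1} Y`, is locally constant.
`isWeighting_of_isLocallyConstant`: conversely, if `(Yu, a, Uu)` is a universal finite open of `f1`
and the pulled back fibre integral of `w1` is locally constant on `Yu ×_{Y1} Y'`, then `w1 ∘ h` is a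
weighting of the base change `f'` of `f1` to `Y'`. -/

set_option autoImplicit false
set_option linter.style.haveILetI false
universe u

namespace Groth.Agent.Lib.R2H3.WtLimD

open CategoryTheory CategoryTheory.Limits AlgebraicGeometry TopologicalSpace Topology Set
open Groth.Agent.Lib.Helper2.Weight

variable {X1 Y1 Yu : Scheme.{u}} (f1 : X1 ⟶ Y1) [LocallyQuasiFinite f1] [LocallyOfFiniteType f1]
  (a : Yu ⟶ Y1) (Uu : (pullback f1 a).Opens)

/-- the fibre integral of `w1` over the finite open `Uu`, as a function on `Yu`. -/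
noncomputable def F1 (w1 : X1 → ℤ) : Yu → ℤ :=
  fI (pullback.snd f1 a) (w1 ∘ pullback.fst f1 a) Uu

theorem isLocallyConstant_of_isWeighting [hUu : IsFinite (Uu.ι ≫ pullback.snd f1 a)]
    (w1 : X1 → ℤ) {X Y : Scheme.{u}} (f : X ⟶ Y)
    (gX : X ⟶ X1) (gY : Y ⟶ Y1) (hsq : IsPullback gX f f1 gY)
    (hw : MoreMor.IsWeighting f (w1 ∘ gX)) :
    IsLocallyConstant (fun z : ↥(pullback a gY) => F1 f1 a Uu w1 (pullback.fst a gY z)) := by
  haveI : LocallyQuasiFinite f := MorphismProperty.of_isPullback (P := @LocallyQuasiFinite) hsq ‹_›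
  haveI : LocallyOfFiniteType f := MorphismProperty.of_isPullback (P := @LocallyOfFiniteType) hsq ‹_›
  haveI : LocallyQuasiFinite (pullback.snd f1 a) := inferInstance
  set fstT := pullback.fst (pullback.snd f1 a) (pullback.fst a gY) with hfstT
  set p := pullback.snd (pullback.snd f1 a) (pullback.fst a gY) with hp
  set q := pullback.snd a gY with hq
  have hbig : IsPullback (fstT ≫ pullback.fst f1 a) p f1 (pullback.fst a gY ≫ a) :=
    (IsPullback.of_hasPullback (pullback.snd f1 a) (pullback.fst a gY)).paste_horiz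
      (IsPullback.of_hasPullback f1 a)
  have hcomm : (fstT ≫ pullback.fst f1 a) ≫ f1 = (p ≫ q) ≫ gY := by
    rw [hbig.w, Category.assoc, pullback.condition]
  let m := hsq.lift (fstT ≫ pullback.fst f1 a) (p ≫ q) hcomm
  have hm1 : m ≫ gX = fstT ≫ pullback.fst f1 a := hsq.lift_fst _ _ _
  have hm2 : m ≫ f = p ≫ q := hsq.lift_snd _ _ _
  have hc : IsPullback m p f q := by
    refine IsPullback.of_right ?_ hm2 hsq
    rw [hm1, ← pullback.condition]
    exact hbig
  let W : (pullback (pullback.snd f1 a) (pullback.fst a gY)).Opens := fstT ⁻¹ᵁ Uu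
  haveI : IsFinite (W.ι ≫ p) := by
    have hsq' : IsPullback (fstT ∣_ Uu) (W.ι ≫ p) (Uu.ι ≫ pullback.snd f1 a) (pullback.fst a gY) :=
      (isPullback_morphismRestrict fstT Uu).paste_vert
        (IsPullback.of_hasPullback (pullback.snd f1 a) (pullback.fst a gY))
    exact MorphismProperty.of_isPullback (P := @IsFinite) hsq' hUu
  have hL := isLocallyConstant_fI f (w1 ∘ gX) hw m p q hc W
  have e : (fun z : ↥(pullback a gY) => F1 f1 a Uu w1 (pullback.fst a gY z)) =
      fI p ((w1 ∘ gX) ∘ m) W := by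
    funext z
    have hfin : ({x | pullback.snd f1 a x = pullback.fst a gY z} ∩ (Uu : Set _)).Finite :=
      finite_fibre_inter_opens (pullback.snd f1 a) Uu _
    have hb := fI_baseChange' (pullback.snd f1 a) p fstT (pullback.fst a gY)
      (IsPullback.of_hasPullback (pullback.snd f1 a) (pullback.fst a gY)) Uu
      (w1 ∘ pullback.fst f1 a) z hfin
    unfold F1
    rw [← hb]
    congr 1
    funext t
    simp only [Function.comp_apply]
    rw [← Scheme.Hom.comp_apply, ← Scheme.Hom.comp_apply, hm1]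
  rw [e]
  exact hL

omit [LocallyOfFiniteType f1] in
theorem isWeighting_of_isLocallyConstant [hUu : IsFinite (Uu.ι ≫ pullback.snd f1 a)]
    (huniv : ∀ (Y' : Scheme.{u}) (b : Y' ⟶ Y1) (U' : (pullback f1 b).Opens), IsAffine Y' →
      IsFinite (U'.ι ≫ pullback.snd f1 b) →
      ∃ (c : Y' ⟶ Yu) (hc : c ≫ a = b),
        (pullback.map f1 b f1 a (𝟙 X1) c (𝟙 Y1)
          ((Category.comp_id f1).trans (Category.id_comp f1).symm)
          ((Category.comp_id b).trans hc.symm)) ⁻¹ᵁ Uu = U')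
    (w1 : X1 → ℤ) {X' Y' : Scheme.{u}} (f' : X' ⟶ Y') (h : X' ⟶ X1) (g : Y' ⟶ Y1)
    (hsq : IsPullback h f' f1 g)
    (hloc : IsLocallyConstant
      (fun z : ↥(pullback a g) => F1 f1 a Uu w1 (pullback.fst a g z))) :
    MoreMor.IsWeighting f' (w1 ∘ h) := by
  intro V gV _ U hfinU
  haveI : LocallyQuasiFinite f' := MorphismProperty.of_isPullback (P := @LocallyQuasiFinite) hsq ‹_›
  haveI : LocallyQuasiFinite (pullback.snd f1 a) := inferInstance
  have e0 : MoreMor.fibreIntegral (U.ι ≫ pullback.snd f' gV)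
      (fun u => (w1 ∘ h) (pullback.fst f' gV (U.ι u))) =
      fI (pullback.snd f' gV) ((w1 ∘ h) ∘ pullback.fst f' gV) U :=
    funext fun v' => fibreIntegral_opens U (pullback.snd f' gV) ((w1 ∘ h) ∘ pullback.fst f' gV) v'
  rw [e0, IsLocallyConstant.iff_exists_open]
  intro v
  obtain ⟨_, ⟨(V₀ : V.Opens), hV₀, rfl⟩, hvV₀, -⟩ :=
    V.isBasis_affineOpens.exists_subset_of_mem_open (Set.mem_univ v) isOpen_univ
  haveI : IsAffine V₀.toScheme := hV₀
  set b : V₀.toScheme ⟶ Y1 := V₀.ι ≫ gV ≫ g with hb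
  -- the map `θ : pullback f1 b ⟶ pullback f' gV`
  have hcomm0 : pullback.fst f1 b ≫ f1 = (pullback.snd f1 b ≫ V₀.ι ≫ gV) ≫ g := by
    rw [pullback.condition, hb]
    simp only [Category.assoc]
  let m₀ := hsq.lift (pullback.fst f1 b) (pullback.snd f1 b ≫ V₀.ι ≫ gV) hcomm0
  have hm₀1 : m₀ ≫ h = pullback.fst f1 b := hsq.lift_fst _ _ _
  have hm₀2 : m₀ ≫ f' = pullback.snd f1 b ≫ V₀.ι ≫ gV := hsq.lift_snd _ _ _
  let θ : pullback f1 b ⟶ pullback f' gV :=
    pullback.lift m₀ (pullback.snd f1 b ≫ V₀.ι) (by rw [hm₀2, Category.assoc])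
  have hθ1 : θ ≫ pullback.fst f' gV = m₀ := pullback.lift_fst _ _ _
  have hθ2 : θ ≫ pullback.snd f' gV = pullback.snd f1 b ≫ V₀.ι := pullback.lift_snd _ _ _
  have hright : IsPullback (pullback.fst f' gV ≫ h) (pullback.snd f' gV) f1 (gV ≫ g) :=
    (IsPullback.of_hasPullback f' gV).paste_horiz hsq
  have hθ : IsPullback θ (pullback.snd f1 b) (pullback.snd f' gV) V₀.ι := by
    refine IsPullback.of_right ?_ hθ2 hright
    rw [← Category.assoc, hθ1, hm₀1]
    exact IsPullback.of_hasPullback f1 b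
  -- the finite open at the affine level
  let U₀ : (pullback f1 b).Opens := θ ⁻¹ᵁ U
  have hfinU₀ : IsFinite (U₀.ι ≫ pullback.snd f1 b) := by
    have hsq' : IsPullback (θ ∣_ U) (U₀.ι ≫ pullback.snd f1 b) (U.ι ≫ pullback.snd f' gV) V₀.ι :=
      (isPullback_morphismRestrict θ U).paste_vert hθ
    exact MorphismProperty.of_isPullback (P := @IsFinite) hsq' hfinU
  obtain ⟨c, hc, hcU⟩ := huniv V₀.toScheme b U₀ hV₀ hfinU₀
  set μ := pullback.map f1 b f1 a (𝟙 X1) c (𝟙 Y1)
    ((Category.comp_id f1).trans (Category.id_comp f1).symm)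
    ((Category.comp_id b).trans hc.symm) with hμ
  have hμ1 : μ ≫ pullback.fst f1 a = pullback.fst f1 b := by
    rw [hμ, pullback.lift_fst, Category.comp_id]
  have hμ2 : μ ≫ pullback.snd f1 a = pullback.snd f1 b ≫ c := pullback.lift_snd _ _ _
  have hμpb : IsPullback μ (pullback.snd f1 b) (pullback.snd f1 a) c := by
    refine IsPullback.of_right ?_ hμ2 (IsPullback.of_hasPullback f1 a)
    rw [hμ1, hc]
    exact IsPullback.of_hasPullback f1 b
  -- the map to `pullback a g`
  let c' : V₀.toScheme ⟶ pullback a g := pullback.lift c (V₀.ι ≫ gV) (by rw [hc, hb, Category.assoc])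
  have hc'1 : c' ≫ pullback.fst a g = c := pullback.lift_fst _ _ _
  -- the formula on `V₀`
  have hform : ∀ v' : V₀.toScheme,
      fI (pullback.snd f' gV) ((w1 ∘ h) ∘ pullback.fst f' gV) U (V₀.ι v') =
        F1 f1 a Uu w1 (pullback.fst a g (c' v')) := by
    intro v'
    have hfin1 : ({x | pullback.snd f' gV x = V₀.ι v'} ∩ (U : Set _)).Finite :=
      finite_fibre_inter_opens (pullback.snd f' gV) U _
    haveI : LocallyQuasiFinite (pullback.snd f' gV) := inferInstance
    have hb1 := fI_baseChange' (pullback.snd f' gV) (pullback.snd f1 b) θ V₀.ι hθ U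
      ((w1 ∘ h) ∘ pullback.fst f' gV) v' hfin1
    have hfin2 : ({x | pullback.snd f1 a x = c v'} ∩ (Uu : Set _)).Finite :=
      finite_fibre_inter_opens (pullback.snd f1 a) Uu _
    have hb2 := fI_baseChange' (pullback.snd f1 a) (pullback.snd f1 b) μ c hμpb Uu
      (w1 ∘ pullback.fst f1 a) v' hfin2
    rw [← hb1]
    have e3 : pullback.fst a g (c' v') = c v' := by
      rw [← Scheme.Hom.comp_apply, hc'1]
    rw [e3]
    unfold F1
    rw [← hb2, hcU]
    congr 1
    funext t
    simp only [Function.comp_apply]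
    rw [← Scheme.Hom.comp_apply, ← Scheme.Hom.comp_apply, ← Scheme.Hom.comp_apply, hμ1,
      ← Category.assoc, hθ1, hm₀1]
  -- local constancy
  have hΦ : IsLocallyConstant
      (fun v' : V₀.toScheme => F1 f1 a Uu w1 (pullback.fst a g (c' v'))) :=
    hloc.comp_continuous c'.continuous
  rw [IsLocallyConstant.iff_exists_open] at hΦ
  obtain ⟨N', hN'o, hvN', hN'⟩ := hΦ ⟨v, hvV₀⟩
  refine ⟨V₀.ι '' N', V₀.ι.isOpenEmbedding.isOpenMap _ hN'o, ⟨⟨v, hvV₀⟩, hvN', rfl⟩, ?_⟩
  rintro _ ⟨v', hv', rfl⟩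
  have e4 : v = V₀.ι ⟨v, hvV₀⟩ := rfl
  rw [hform v', e4, hform ⟨v, hvV₀⟩]
  exact hN' v' hv'

end Groth.Agent.Lib.R2H3.WtLimD
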