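import Mathlib

namespace Groth.Agent.Lib.R2H4AdaptedClass

open CategoryTheory Limits

universe v u

variable {A : Type u} [Category.{v} A] [Abelian A]

lemma exact_sc'_iff (K : CochainComplex A ℕ) (i j k : ℕ) {f' : K.X i ⟶ K.X j} {g' : K.X j ⟶ K.X k}
    (hf : K.d i j = f') (hg : K.d j k = g') (w : f' ≫ g' = 0) :
    (K.sc' i j k).Exact ↔ (ShortComplex.mk f' g' w).Exact := by
  subst hf hg; rfl

section Kcx

variable (E : CochainComplex A ℕ) (P : ℕ → A) (u : ∀ j, E.X j ⟶ P j) (r : ∀ j, P j ⟶ E.X j)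

/-- twisted differential on `P` -/
def δ (j : ℕ) : P j ⟶ P (j + 1) := r j ≫ E.d j (j + 1) ≫ u (j + 1)

/-- idempotent -/
def e (j : ℕ) : P j ⟶ P j := r j ≫ u j

/-- objects of `K` -/
noncomputable def KX : ℕ → A
  | 0 => P 0
  | (n + 1) => P (n + 1) ⊞ P n

/-- first differential of `K` -/
noncomputable def d0 : P 0 ⟶ P 1 ⊞ P 0 := biprod.lift (δ E P u r 0) (𝟙 _ - e E P u r 0)

/-- higher differentials of `K` -/
noncomputable def dS (n : ℕ) : P (n + 1) ⊞ P n ⟶ P (n + 2) ⊞ P (n + 1) :=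
  biprod.desc (biprod.lift (δ E P u r (n + 1)) (𝟙 _ - e E P u r (n + 1)))
      (biprod.lift 0 (δ E P u r n))

/-- differentials of `K` -/
noncomputable def Kd : ∀ n, KX P n ⟶ KX P (n + 1)
  | 0 => d0 E P u r
  | (n + 1) => dS E P u r n

variable {E P u r}

section
variable (hur : ∀ j, u j ≫ r j = 𝟙 _)
include hur

@[reassoc]
lemma δ_δ (j : ℕ) : δ E P u r j ≫ δ E P u r (j + 1) = 0 := by
  simp only [δ, Category.assoc]
  rw [reassoc_of% (hur (j + 1))]
  simp

@[reassoc]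
lemma δ_e (j : ℕ) : δ E P u r j ≫ e E P u r (j + 1) = δ E P u r j := by
  simp only [δ, e, Category.assoc]
  rw [reassoc_of% (hur (j + 1))]

@[reassoc]
lemma e_δ (j : ℕ) : e E P u r j ≫ δ E P u r j = δ E P u r j := by
  simp only [δ, e, Category.assoc]
  rw [reassoc_of% (hur j)]

@[reassoc]
lemma e_e (j : ℕ) : e E P u r j ≫ e E P u r j = e E P u r j := by
  simp only [e, Category.assoc]
  rw [reassoc_of% (hur j)]

lemma d0_dS : d0 E P u r ≫ dS E P u r 0 = 0 := by
  simp only [d0, dS]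
  apply biprod.hom_ext
  · simp [biprod.lift_desc, δ_δ hur]
  · simp [biprod.lift_desc, δ_e hur, e_δ hur]

lemma dS_dS (n : ℕ) : dS E P u r n ≫ dS E P u r (n + 1) = 0 := by
  simp only [dS]
  apply biprod.hom_ext'
  · apply biprod.hom_ext
    · simp [biprod.lift_desc, δ_δ hur]
    · simp [biprod.lift_desc, δ_e hur, e_δ hur]
  · apply biprod.hom_ext
    · simp [biprod.lift_desc]
    · simp [biprod.lift_desc, δ_δ hur]

lemma Kd_sq (n : ℕ) : Kd E P u r n ≫ Kd E P u r (n + 1) = 0 := by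
  cases n with
  | zero => exact d0_dS hur
  | succ n => exact dS_dS hur n

/-- the complex `K` -/
noncomputable def K : CochainComplex A ℕ :=
  CochainComplex.of (KX P) (Kd E P u r) (Kd_sq hur)

lemma K_d_zero : (K hur).d 0 1 = d0 E P u r := by
  exact CochainComplex.of_d (KX P) (Kd E P u r) 0

lemma K_d_succ (n : ℕ) : (K hur).d (n + 1) (n + 2) = dS E P u r n := by
  exact CochainComplex.of_d (KX P) (Kd E P u r) (n + 1)

/-- components of the section `E ⟶ K` -/
noncomputable def sf : ∀ n, E.X n ⟶ KX P n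
  | 0 => u 0
  | (n + 1) => biprod.lift (u (n + 1)) 0

/-- components of the retraction `K ⟶ E` -/
noncomputable def tf : ∀ n, KX P n ⟶ E.X n
  | 0 => r 0
  | (n + 1) => biprod.fst ≫ r (n + 1)

lemma s_comm0 : u 0 ≫ d0 E P u r = E.d 0 1 ≫ biprod.lift (u 1) 0 := by
  simp only [d0]
  apply biprod.hom_ext
  · simp [δ, reassoc_of% (hur 0)]
  · simp [e, reassoc_of% (hur 0)]

lemma s_commS (n : ℕ) : biprod.lift (u (n + 1)) 0 ≫ dS E P u r n =
    E.d (n + 1) (n + 2) ≫ biprod.lift (u (n + 2)) 0 := by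
  simp only [dS]
  apply biprod.hom_ext
  · simp [biprod.lift_desc, δ, reassoc_of% (hur (n + 1))]
  · simp [biprod.lift_desc, e, reassoc_of% (hur (n + 1))]

lemma t_comm0 : d0 E P u r ≫ biprod.fst ≫ r 1 = r 0 ≫ E.d 0 1 := by
  simp [d0, δ, hur 1]

lemma t_commS (n : ℕ) : dS E P u r n ≫ biprod.fst ≫ r (n + 2) =
    (biprod.fst ≫ r (n + 1)) ≫ E.d (n + 1) (n + 2) := by
  simp only [dS]
  apply biprod.hom_ext'
  · simp [δ, hur (n + 2)]
  · simp

/-- the section -/
noncomputable def sK : E ⟶ K hur where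
  f n := sf n
  comm' i j hij := by
    obtain rfl : i + 1 = j := hij
    cases i with
    | zero => rw [K_d_zero]; exact s_comm0 hur
    | succ n => rw [K_d_succ]; exact s_commS hur n

/-- the retraction -/
noncomputable def tK : K hur ⟶ E where
  f n := tf n
  comm' i j hij := by
    obtain rfl : i + 1 = j := hij
    cases i with
    | zero => rw [K_d_zero]; exact (t_comm0 hur).symm
    | succ n => rw [K_d_succ]; exact (t_commS hur n).symm

lemma sK_tK : sK hur ≫ tK hur = 𝟙 E := by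
  ext n
  simp only [HomologicalComplex.comp_f, HomologicalComplex.id_f]
  cases n with
  | zero => exact hur 0
  | succ n =>
    show biprod.lift (u (n + 1)) 0 ≫ biprod.fst ≫ r (n + 1) = 𝟙 _
    simp [hur (n + 1)]

lemma eq_zero_of_comp_u {W : A} {j : ℕ} (x : W ⟶ E.X j) (h : x ≫ u j = 0) : x = 0 := by
  have := h =≫ r j
  simpa [hur j] using this

omit hur in
lemma dS_fst (n : ℕ) : dS E P u r n ≫ biprod.fst = biprod.fst ≫ δ E P u r (n + 1) := by
  simp only [dS]
  apply biprod.hom_ext' <;> simp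

omit hur in
lemma dS_snd (n : ℕ) : dS E P u r n ≫ biprod.snd =
    biprod.fst ≫ (𝟙 _ - e E P u r (n + 1)) + biprod.snd ≫ δ E P u r n := by
  simp only [dS]
  apply biprod.hom_ext' <;> simp

lemma mono_d0 [Mono (E.d 0 1)] : Mono (d0 E P u r) := by
  apply Preadditive.mono_of_cancel_zero
  intro W x hx
  have h1 : x ≫ δ E P u r 0 = 0 := by
    have := hx =≫ biprod.fst
    simpa [d0] using this
  have h2 : x ≫ (𝟙 _ - e E P u r 0) = 0 := by
    have := hx =≫ biprod.snd
    simpa [d0] using this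
  have h3 : x ≫ r 0 = 0 := by
    rw [← cancel_mono (E.d 0 1), zero_comp]
    apply eq_zero_of_comp_u hur
    simpa [δ] using h1
  have h4 : x = x ≫ e E P u r 0 := by
    rw [Preadditive.comp_sub, Category.comp_id, sub_eq_zero] at h2
    exact h2
  rw [h4, e, reassoc_of% h3, zero_comp]

@[reassoc]
lemma u_e (j : ℕ) : u j ≫ e E P u r j = u j := by
  simp only [e]; rw [reassoc_of% (hur j)]

@[reassoc]
lemma u_δ (j : ℕ) : u j ≫ δ E P u r j = E.d j (j + 1) ≫ u (j + 1) := by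
  simp only [δ]; rw [reassoc_of% (hur j)]

lemma exact1 [Mono (E.d 0 1)]
    (hE : (ShortComplex.mk (E.d 0 1) (E.d 1 2) (E.d_comp_d _ _ _)).Exact) :
    (ShortComplex.mk (d0 E P u r) (dS E P u r 0) (d0_dS hur)).Exact := by
  rw [ShortComplex.exact_iff_exact_up_to_refinements] at hE ⊢
  intro W x hx
  dsimp at x hx
  obtain ⟨x1, x2, rfl⟩ : ∃ x1 x2, x = biprod.lift x1 x2 :=
    ⟨x ≫ biprod.fst, x ≫ biprod.snd, by ext <;> simp⟩
  have hx1 : x1 ≫ δ E P u r 1 = 0 := by
    have := hx =≫ biprod.fst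
    simpa [dS_fst] using this
  have hx2 : x1 ≫ (𝟙 _ - e E P u r 1) + x2 ≫ δ E P u r 0 = 0 := by
    have := hx =≫ biprod.snd
    simpa [dS_snd] using this
  have hx3 : x2 ≫ δ E P u r 0 = 0 := by
    have := hx2 =≫ e E P u r 1
    simpa [Preadditive.add_comp, Preadditive.sub_comp, Preadditive.comp_sub, e_e hur,
      δ_e hur] using this
  have hx4 : x1 ≫ e E P u r 1 = x1 := by
    rw [hx3, add_zero, Preadditive.comp_sub, Category.comp_id, sub_eq_zero] at hx2
    exact hx2.symm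
  have hy : (x1 ≫ r 1) ≫ E.d 1 2 = 0 := by
    apply eq_zero_of_comp_u hur
    simpa [δ] using hx1
  obtain ⟨W', π, hπ, y1, hy1⟩ := hE (x1 ≫ r 1) hy
  dsimp at y1 hy1
  have hz : x2 ≫ r 0 = 0 := by
    rw [← cancel_mono (E.d 0 1), zero_comp]
    apply eq_zero_of_comp_u hur
    simpa [δ] using hx3
  refine ⟨W', π, hπ, y1 ≫ u 0 + π ≫ x2, ?_⟩
  dsimp
  apply biprod.hom_ext
  · simp only [d0, Category.assoc, biprod.lift_fst, Preadditive.add_comp, u_δ hur, hx3,
      comp_zero, add_zero]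
    rw [← reassoc_of% hy1]
    conv_lhs => rw [← hx4]
    simp [e]
  · simp only [d0, Category.assoc, biprod.lift_snd, Preadditive.add_comp, Preadditive.comp_sub,
      Category.comp_id, u_e hur, sub_self, comp_zero, zero_add]
    simp only [e, reassoc_of% hz, zero_comp, comp_zero, sub_zero]

lemma exactS (n : ℕ)
    (hE1 : (ShortComplex.mk (E.d n (n + 1)) (E.d (n + 1) (n + 2)) (E.d_comp_d _ _ _)).Exact)
    (hE2 : (ShortComplex.mk (E.d (n + 1) (n + 2)) (E.d (n + 2) (n + 3)) (E.d_comp_d _ _ _)).Exact) :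
    (ShortComplex.mk (dS E P u r n) (dS E P u r (n + 1)) (dS_dS hur n)).Exact := by
  rw [ShortComplex.exact_iff_exact_up_to_refinements] at hE1 hE2 ⊢
  intro W x hx
  dsimp at x hx
  obtain ⟨x1, x2, rfl⟩ : ∃ x1 x2, x = biprod.lift x1 x2 :=
    ⟨x ≫ biprod.fst, x ≫ biprod.snd, by ext <;> simp⟩
  have hx1 : x1 ≫ δ E P u r (n + 2) = 0 := by
    have := hx =≫ biprod.fst
    simpa [dS_fst] using this
  have hx2 : x1 ≫ (𝟙 _ - e E P u r (n + 2)) + x2 ≫ δ E P u r (n + 1) = 0 := by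
    have := hx =≫ biprod.snd
    simpa [dS_snd] using this
  have hx3 : x2 ≫ δ E P u r (n + 1) = 0 := by
    have := hx2 =≫ e E P u r (n + 2)
    simpa [Preadditive.add_comp, Preadditive.sub_comp, Preadditive.comp_sub, e_e hur,
      δ_e hur] using this
  have hx4 : x1 ≫ e E P u r (n + 2) = x1 := by
    rw [hx3, add_zero, Preadditive.comp_sub, Category.comp_id, sub_eq_zero] at hx2
    exact hx2.symm
  have hy : (x1 ≫ r (n + 2)) ≫ E.d (n + 2) (n + 3) = 0 := by
    apply eq_zero_of_comp_u hur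
    simpa [δ] using hx1
  obtain ⟨W1, π1, hπ1, y1, hy1⟩ := hE2 (x1 ≫ r (n + 2)) hy
  dsimp at y1 hy1
  have hz : (π1 ≫ x2 ≫ r (n + 1)) ≫ E.d (n + 1) (n + 2) = 0 := by
    apply eq_zero_of_comp_u hur
    have := hx3
    simp only [δ] at this
    simp only [Category.assoc]
    rw [this, comp_zero]
  obtain ⟨W2, π2, hπ2, y2, hy2⟩ := hE1 (π1 ≫ x2 ≫ r (n + 1)) hz
  dsimp at y2 hy2
  refine ⟨W2, π2 ≫ π1, epi_comp _ _,
    biprod.lift (π2 ≫ y1 ≫ u (n + 1) + π2 ≫ π1 ≫ x2 ≫ (𝟙 _ - e E P u r (n + 1))) (y2 ≫ u n), ?_⟩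
  dsimp
  apply biprod.hom_ext
  · simp only [Category.assoc, dS_fst, biprod.lift_fst, biprod.lift_fst_assoc,
      Preadditive.add_comp, Preadditive.sub_comp, Category.id_comp, e_δ hur, sub_self,
      comp_zero, add_zero, u_δ hur]
    rw [← reassoc_of% hy1]
    conv_lhs => rw [← hx4]
    simp [e]
  · simp only [Category.assoc, dS_snd, Preadditive.comp_add, biprod.lift_fst_assoc,
      biprod.lift_snd_assoc, biprod.lift_snd, Preadditive.add_comp, Preadditive.sub_comp,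
      Preadditive.comp_sub, Category.id_comp, Category.comp_id, u_e hur, sub_self, e_e hur,
      comp_zero, zero_add, u_δ hur]
    rw [← reassoc_of% hy2]
    simp [e]

lemma K_acyclic (hE : E.Acyclic) : (K hur).Acyclic := by
  intro i
  have hE0 : Mono (E.d 0 1) := by
    have := hE 0
    rw [HomologicalComplex.exactAt_iff' _ 0 0 1 (by simp) (by simp)] at this
    exact (ShortComplex.exact_iff_mono _ (E.shape 0 0 (by simp))).1 this
  have hES : ∀ n, (ShortComplex.mk (E.d n (n + 1)) (E.d (n + 1) (n + 2))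
      (E.d_comp_d _ _ _)).Exact := by
    intro n
    have := hE (n + 1)
    rwa [HomologicalComplex.exactAt_iff' _ n (n + 1) (n + 2) (by simp) (by simp)] at this
  match i with
  | 0 =>
    rw [HomologicalComplex.exactAt_iff' _ 0 0 1 (by simp) (by simp)]
    rw [ShortComplex.exact_iff_mono _ ((K hur).shape 0 0 (by simp))]
    show Mono ((K hur).d 0 1)
    rw [K_d_zero]
    exact mono_d0 hur
  | 1 =>
    rw [HomologicalComplex.exactAt_iff' _ 0 1 2 (by simp) (by simp)]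
    exact (exact_sc'_iff (K hur) 0 1 2 (K_d_zero hur) (K_d_succ hur 0) (d0_dS hur)).2
      (exact1 hur (hES 0))
  | (n + 2) =>
    rw [HomologicalComplex.exactAt_iff' _ (n + 1) (n + 2) (n + 3) (by simp) (by simp)]
    exact (exact_sc'_iff (K hur) (n + 1) (n + 2) (n + 3) (K_d_succ hur n) (K_d_succ hur (n + 1))
      (dS_dS hur n)).2 (exactS hur n (hES n) (hES (n + 1)))

end

end Kcx

theorem exists_retract (E : CochainComplex A ℕ) (hE : E.Acyclic) (𝒪 : ObjectProperty A)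
    (h0 : ∀ X Y : A, 𝒪 X → 𝒪 Y → 𝒪 (X ⊞ Y))
    (h : ∀ j, ∃ (Pj : A) (u : E.X j ⟶ Pj) (r : Pj ⟶ E.X j), 𝒪 Pj ∧ u ≫ r = 𝟙 _) :
    ∃ K : CochainComplex A ℕ, (∀ i, 𝒪 (K.X i)) ∧ K.Acyclic ∧
      ∃ (s : E ⟶ K) (t : K ⟶ E), s ≫ t = 𝟙 E := by
  choose P u r hP hur using h
  refine ⟨K hur, ?_, K_acyclic hur hE, sK hur, tK hur, sK_tK hur⟩
  intro i
  cases i with
  | zero => exact hP 0
  | succ n => exact h0 _ _ (hP (n + 1)) (hP n)

theorem rightDerived_isZero {B : Type*} [Category B] [Abelian B] [EnoughInjectives A]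
    (f : A ⥤ B) [f.Additive] (𝒪 : ObjectProperty A)
    (h0 : ∀ X Y : A, 𝒪 X → 𝒪 Y → 𝒪 (X ⊞ Y))
    (h1 : ∀ K : CochainComplex A ℕ, (∀ i, 𝒪 (K.X i)) → K.Acyclic →
      ((f.mapHomologicalComplex (ComplexShape.up ℕ)).obj K).Acyclic)
    (h2 : ∀ X : A, ∃ (Y : A) (i : X ⟶ Y), 𝒪 Y ∧ Mono i)
    (X : A) (hX : 𝒪 X) (n : ℕ) (hn : 0 < n) :
    IsZero ((f.rightDerived n).obj X) := by
  obtain ⟨m, rfl⟩ : ∃ m, n = m + 1 := ⟨n - 1, by omega⟩
  let I : InjectiveResolution X := InjectiveResolution.of X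
  have hmono : Mono (I.ι.f 0) := inferInstance
  let E : CochainComplex A ℕ := I.cocomplex.augment (X := X) (I.ι.f 0) I.ι_f_zero_comp_complex_d
  have hE : E.Acyclic := by
    intro i
    match i with
    | 0 =>
      rw [HomologicalComplex.exactAt_iff' _ 0 0 1 (by simp) (by simp)]
      rw [ShortComplex.exact_iff_mono _ (E.shape 0 0 (by simp))]
      show Mono (E.d 0 1)
      rw [show E.d 0 1 = I.ι.f 0 from CochainComplex.augment_d_zero_one _ _ _]
      exact hmono
    | 1 =>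
      rw [HomologicalComplex.exactAt_iff' _ 0 1 2 (by simp) (by simp)]
      exact (exact_sc'_iff E 0 1 2 (CochainComplex.augment_d_zero_one _ _ _)
        (CochainComplex.augment_d_succ_succ _ _ _ 0 1) I.ι_f_zero_comp_complex_d).2 I.exact₀
    | (k + 2) =>
      rw [HomologicalComplex.exactAt_iff' _ (k + 1) (k + 2) (k + 3) (by simp) (by simp)]
      exact (exact_sc'_iff E (k + 1) (k + 2) (k + 3)
        (CochainComplex.augment_d_succ_succ _ _ _ k (k + 1))
        (CochainComplex.augment_d_succ_succ _ _ _ (k + 1) (k + 2))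
        (I.cocomplex.d_comp_d _ _ _)).2 (I.exact_succ k)
  have h : ∀ j, ∃ (Pj : A) (u : E.X j ⟶ Pj) (r : Pj ⟶ E.X j), 𝒪 Pj ∧ u ≫ r = 𝟙 _ := by
    intro j
    cases j with
    | zero => exact ⟨X, 𝟙 X, 𝟙 X, hX, Category.comp_id _⟩
    | succ k =>
      obtain ⟨Y, i, hY, hi⟩ := h2 (I.cocomplex.X k)
      obtain ⟨r, hr⟩ : ∃ r : Y ⟶ I.cocomplex.X k, i ≫ r = 𝟙 (I.cocomplex.X k) :=
        ⟨Injective.factorThru (𝟙 _) i, Injective.comp_factorThru _ _⟩
      exact ⟨Y, i, r, hY, hr⟩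
  obtain ⟨K, hK𝒪, hKac, s, t, hst⟩ := exists_retract E hE 𝒪 h0 h
  have hfK := h1 K hK𝒪 hKac (m + 2)
  rw [HomologicalComplex.exactAt_iff_isZero_homology] at hfK
  let G : CochainComplex A ℕ ⥤ B := f.mapHomologicalComplex (ComplexShape.up ℕ) ⋙
    HomologicalComplex.homologyFunctor B (ComplexShape.up ℕ) (m + 2)
  have hGK : IsZero (G.obj K) := hfK
  have hGE : IsZero (G.obj E) := by
    rw [IsZero.iff_id_eq_zero]
    have : 𝟙 (G.obj E) = G.map s ≫ G.map t := by
      rw [← G.map_comp, hst, G.map_id]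
    rw [this, hGK.eq_of_tgt (G.map s) 0, zero_comp]
  have hfE : ((f.mapHomologicalComplex (ComplexShape.up ℕ)).obj E).ExactAt (m + 2) := by
    rw [HomologicalComplex.exactAt_iff_isZero_homology]
    exact hGE
  rw [HomologicalComplex.exactAt_iff' _ (m + 1) (m + 2) (m + 3) (by simp) (by simp)] at hfE
  have hfI : ((f.mapHomologicalComplex (ComplexShape.up ℕ)).obj I.cocomplex).ExactAt (m + 1) := by
    rw [HomologicalComplex.exactAt_iff' _ m (m + 1) (m + 2) (by simp) (by simp)]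
    have e1 : E.d (m + 1) (m + 2) = I.cocomplex.d m (m + 1) :=
      CochainComplex.augment_d_succ_succ _ _ _ m (m + 1)
    have e2 : E.d (m + 2) (m + 3) = I.cocomplex.d (m + 1) (m + 2) :=
      CochainComplex.augment_d_succ_succ _ _ _ (m + 1) (m + 2)
    refine (exact_sc'_iff ((f.mapHomologicalComplex (ComplexShape.up ℕ)).obj E) (m + 1) (m + 2)
      (m + 3) (f' := f.map (I.cocomplex.d m (m + 1))) (g' := f.map (I.cocomplex.d (m + 1) (m + 2)))
      ?_ ?_ ?_).1 hfE
    · rw [Functor.mapHomologicalComplex_obj_d, e1]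
    · rw [Functor.mapHomologicalComplex_obj_d, e2]
  rw [HomologicalComplex.exactAt_iff_isZero_homology] at hfI
  exact IsZero.of_iso hfI (I.isoRightDerivedObj f (m + 1))

end Groth.Agent.Lib.R2H4AdaptedClass
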