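import Mathlib
import Groth.Prelude.Def_Adeq
import Groth.Agent.Lib.Helper13AdeqA
import Groth.Agent.Lib.Helper13AdeqB
import Groth.Agent.Lib.Helper13AdeqD

/-!
# Cokernels and kernels of maps of adequate functors are adequate (helper4, round 2)

* `adequate_cokernel`: the cokernel of a map of adequate functors is adequate.
* `adequate_kernel`: the kernel of a map of adequate functors is adequate.
-/

set_option autoImplicit false
universe u
open CategoryTheory Limits TensorProduct Opposite
open Adeq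

namespace Groth.Agent.Lib.R2H4.AdeqCoker
open Groth.Agent.Helper13Adeq

section DirectSumDecomp
open DirectSum

variable {A : Type u} [CommRing A] {ι : Type (u+1)} [DecidableEq ι]
  (P : ι → Type (u+1)) [∀ i, AddCommGroup (P i)] [∀ i, Module A (P i)]
  (B : Type u) [CommRing B] [Algebra A B]

/-- every element of `B ⊗ ⨁ P_i` is the finite sum of its components. -/
theorem exists_finset_sum_eq (k : B ⊗[A] (⨁ i, P i)) :
    ∃ s : Finset ι, ∀ t : Finset ι, s ⊆ t →
      k = ∑ i ∈ t, ((DirectSum.lof A ι P i).baseChange B)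
        (((DirectSum.component A ι P i).baseChange B) k) := by
  classical
  induction k using TensorProduct.induction_on with
  | zero => exact ⟨∅, fun t _ => by simp⟩
  | tmul b x =>
    refine ⟨DFinsupp.support x, fun t ht => ?_⟩
    simp only [LinearMap.baseChange_tmul]
    rw [← TensorProduct.tmul_sum]
    congr 1
    have h1 : ∑ i ∈ t, (DirectSum.lof A ι P i) ((DirectSum.component A ι P i) x) =
        ∑ i ∈ DFinsupp.support x, (DirectSum.lof A ι P i) ((DirectSum.component A ι P i) x) := by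
      symm
      apply Finset.sum_subset ht
      intro i _ hi
      have : x i = 0 := by simpa using hi
      rw [DirectSum.apply_eq_component A] at this
      rw [this, map_zero]
    rw [h1]
    exact (DirectSum.sum_support_of x).symm
  | add k₁ k₂ h₁ h₂ =>
    obtain ⟨s₁, hs₁⟩ := h₁
    obtain ⟨s₂, hs₂⟩ := h₂
    refine ⟨s₁ ∪ s₂, fun t ht => ?_⟩
    simp only [map_add, Finset.sum_add_distrib]
    rw [← hs₁ t (Finset.union_subset_left ht), ← hs₂ t (Finset.union_subset_right ht)]

end DirectSumDecomp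

section LA
variable {A : Type u} [CommRing A] {M N K K' : Type (u+1)} [AddCommGroup M] [Module A M]
  [AddCommGroup N] [Module A N] [AddCommGroup K] [Module A K] [AddCommGroup K'] [Module A K']
  (ν : M →ₗ[A] N) (θK : K →ₗ[A] M) (dK : K →ₗ[A] K')

/-- `K → M × K'` -/
abbrev fQ : K →ₗ[A] M × K' := θK.prod dK
/-- `K → N × K'` -/
abbrev fP : K →ₗ[A] N × K' := (ν ∘ₗ θK).prod dK
/-- `M × K' → N × K'` -/
abbrev νK : M × K' →ₗ[A] N × K' := ν.prodMap LinearMap.id
/-- the module `Q` -/
abbrev Qm : Type (u+1) := (M × K') ⧸ LinearMap.range (fQ θK dK)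
/-- the module `P` -/
abbrev Pm : Type (u+1) := (N × K') ⧸ LinearMap.range (fP ν θK dK)
/-- `M × K' → Q` -/
abbrev mQ : M × K' →ₗ[A] Qm θK dK := (LinearMap.range (fQ θK dK)).mkQ
/-- `N × K' → P` -/
abbrev mP : N × K' →ₗ[A] Pm ν θK dK := (LinearMap.range (fP ν θK dK)).mkQ

theorem νK_comp_fQ : νK ν ∘ₗ fQ θK dK = fP ν θK dK := by
  ext k <;> rfl

/-- `Q → P` -/
noncomputable def qm : Qm θK dK →ₗ[A] Pm ν θK dK :=
  Submodule.mapQ _ _ (νK ν) (by
    rintro _ ⟨k, rfl⟩
    exact ⟨k, by rw [← νK_comp_fQ]; rfl⟩)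

theorem qm_comp_mQ : qm ν θK dK ∘ₗ mQ θK dK = mP ν θK dK ∘ₗ νK ν := rfl

variable (B : Type u) [CommRing B] [Algebra A B]

theorem bc_comp {X Y Z : Type (u+1)} [AddCommGroup X] [Module A X] [AddCommGroup Y]
    [Module A Y] [AddCommGroup Z] [Module A Z] (g : Y →ₗ[A] Z) (f : X →ₗ[A] Y) (x : B ⊗[A] X) :
    (g.baseChange B) ((f.baseChange B) x) = ((g ∘ₗ f).baseChange B) x := by
  rw [LinearMap.baseChange_comp]; rfl

theorem bc_inl_fst_add (x : B ⊗[A] (M × K')) :
    ((LinearMap.inl A M K').baseChange B) (((LinearMap.fst A M K').baseChange B) x) +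
      ((LinearMap.inr A M K').baseChange B) (((LinearMap.snd A M K').baseChange B) x) = x := by
  rw [bc_comp, bc_comp, ← LinearMap.add_apply, ← LinearMap.baseChange_add]
  have : LinearMap.inl A M K' ∘ₗ LinearMap.fst A M K' + LinearMap.inr A M K' ∘ₗ LinearMap.snd A M K' =
      LinearMap.id := by
    ext x <;> simp
  rw [this, LinearMap.baseChange_id]; rfl

theorem exact_mQ (x : B ⊗[A] (M × K')) :
    ((mQ θK dK).baseChange B) x = 0 ↔ ∃ k : B ⊗[A] K, ((fQ θK dK).baseChange B) k = x := by
  have hex : Function.Exact (fQ θK dK) (mQ θK dK) := LinearMap.exact_map_mkQ_range _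
  have h := lTensor_exact B hex (Submodule.mkQ_surjective _)
  exact h x

theorem la1 (m : B ⊗[A] M) :
    ((mQ θK dK ∘ₗ LinearMap.inl A M K').baseChange B) m = 0 ↔
      ∃ k : B ⊗[A] K, (θK.baseChange B) k = m ∧ (dK.baseChange B) k = 0 := by
  rw [← bc_comp, exact_mQ]
  constructor
  · rintro ⟨k, hk⟩
    refine ⟨k, ?_, ?_⟩
    · have := congrArg ((LinearMap.fst A M K').baseChange B) hk
      rw [bc_comp, bc_comp] at this
      simpa using this
    · have := congrArg ((LinearMap.snd A M K').baseChange B) hk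
      rw [bc_comp, bc_comp] at this
      simpa using this
  · rintro ⟨k, hk1, hk2⟩
    refine ⟨k, ?_⟩
    rw [← bc_inl_fst_add B ((fQ θK dK).baseChange B k), bc_comp B (LinearMap.fst A M K'),
      bc_comp B (LinearMap.snd A M K')]
    have e1 : LinearMap.fst A M K' ∘ₗ fQ θK dK = θK := by ext; rfl
    have e2 : LinearMap.snd A M K' ∘ₗ fQ θK dK = dK := by ext; rfl
    rw [e1, e2, hk1, hk2, map_zero, add_zero]

theorem exact_mP (x : B ⊗[A] (N × K')) :
    ((mP ν θK dK).baseChange B) x = 0 ↔ ∃ k : B ⊗[A] K, ((fP ν θK dK).baseChange B) k = x := by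
  have hex : Function.Exact (fP ν θK dK) (mP ν θK dK) := LinearMap.exact_map_mkQ_range _
  have h := lTensor_exact B hex (Submodule.mkQ_surjective _)
  exact h x

theorem mQ_bc_surjective : Function.Surjective ((mQ θK dK).baseChange B) := by
  rw [LinearMap.baseChange_eq_ltensor]
  exact LinearMap.lTensor_surjective B (Submodule.mkQ_surjective _)

theorem la2 (z : B ⊗[A] (Qm θK dK)) :
    ((qm ν θK dK).baseChange B) z = 0 ↔
      ∃ m : B ⊗[A] M, (ν.baseChange B) m = 0 ∧
        ((mQ θK dK ∘ₗ LinearMap.inl A M K').baseChange B) m = z := by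
  constructor
  · intro hz
    obtain ⟨x, rfl⟩ := mQ_bc_surjective θK dK B z
    rw [bc_comp, qm_comp_mQ, ← bc_comp, exact_mP] at hz
    obtain ⟨k, hk⟩ := hz
    set x' := x - ((fQ θK dK).baseChange B) k with hx'
    have h1 : ((mQ θK dK).baseChange B) x' = ((mQ θK dK).baseChange B) x := by
      rw [hx', map_sub, (exact_mQ θK dK B _).2 ⟨k, rfl⟩, sub_zero]
    have h2 : ((νK (K' := K') ν).baseChange B) x' = 0 := by
      rw [hx', map_sub, bc_comp B (νK ν) (fQ θK dK), νK_comp_fQ, hk, sub_self]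
    have h3 : ((LinearMap.snd A M K').baseChange B) x' = 0 := by
      have := congrArg ((LinearMap.snd A N K').baseChange B) h2
      rw [bc_comp, map_zero] at this
      exact this
    have h4 : (ν.baseChange B) (((LinearMap.fst A M K').baseChange B) x') = 0 := by
      have := congrArg ((LinearMap.fst A N K').baseChange B) h2
      rw [bc_comp, map_zero] at this
      rw [bc_comp]
      exact this
    refine ⟨((LinearMap.fst A M K').baseChange B) x', h4, ?_⟩
    rw [← h1, ← bc_comp B (mQ θK dK)]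
    congr 1
    have := bc_inl_fst_add B x'
    rw [h3, map_zero, add_zero] at this
    exact this
  · rintro ⟨m, hm, rfl⟩
    rw [bc_comp, ← LinearMap.comp_assoc, qm_comp_mQ]
    have : (mP ν θK dK ∘ₗ νK ν) ∘ₗ LinearMap.inl A M K' =
        (mP ν θK dK ∘ₗ LinearMap.inl A N K') ∘ₗ ν := by
      ext m; simp
    rw [this, ← bc_comp, hm, map_zero]

end LA

section Main
open DirectSum
variable {A : Type u} [CommRing A]

theorem baseChange_comp_apply {X Y Z : Type (u+1)} [AddCommGroup X] [Module A X] [AddCommGroup Y]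
    [Module A Y] [AddCommGroup Z] [Module A Z] (g : Y →ₗ[A] Z) (f : X →ₗ[A] Y)
    (B : Type u) [CommRing B] [Algebra A B] (x : B ⊗[A] X) :
    (g.baseChange B) ((f.baseChange B) x) = ((g ∘ₗ f).baseChange B) x := by
  rw [LinearMap.baseChange_comp]; rfl

theorem adequate_cokernel {F G : MVF A} (φ : F ⟶ G) (hF : adequate A F) (hG : adequate A G) :
    adequate A (cokernel φ) := by
  classical
  obtain ⟨M, N, ν, iG, hiG, hexG⟩ := (adequate_iff G).mp hG
  let ι : Type (u+1) := Σ B : Alg A, F.obj (pt B)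
  choose L ψ hL η hη using fun idx : ι => exists_linAdequate_hits F hF idx.1 idx.2
  choose P P' d hP1 hP2 hP3 hP4 he using hL
  let e : ∀ idx, L idx ≅ kernel ((underline A).map (d idx)) := fun idx => (he idx).some
  have hext : ∀ idx, ∃ θ : P idx ⟶ M,
      kernel.ι ((underline A).map (d idx)) ≫ (underline A).map θ =
        (e idx).inv ≫ ψ idx ≫ φ ≫ iG := fun idx => by
    have := hP1 idx; have := hP2 idx; have := hP3 idx; have := hP4 idx
    exact exists_extension (P idx) (P' idx) M (d idx) _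
  choose θ hθ using hext
  -- the embedding of `L idx` into `P idx`
  let eι : ∀ idx, L idx ⟶ (underline A).obj (P idx) := fun idx => (e idx).hom ≫ kernel.ι _
  have heι_θ : ∀ idx (B : Alg A) (y : (L idx).obj (pt B)),
      ((θ idx).hom.baseChange B) ((eι idx).app (pt B) y) =
        iG.app (pt B) (φ.app (pt B) ((ψ idx).app (pt B) y)) := by
    intro idx B y
    have h1 := congrArg (fun m => m.app (pt B) ((e idx).hom.app (pt B) y)) (hθ idx)
    change ((θ idx).hom.baseChange B) ((eι idx).app (pt B) y) =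
      iG.app (pt B) (φ.app (pt B) ((ψ idx).app (pt B)
        ((e idx).inv.app (pt B) ((e idx).hom.app (pt B) y)))) at h1
    rw [PshMod.hom_inv_app_apply] at h1
    exact h1
  have heι_d : ∀ idx (B : Alg A) (y : (L idx).obj (pt B)),
      ((d idx).hom.baseChange B) ((eι idx).app (pt B) y) = 0 := by
    intro idx B y
    exact (PshMod.kernel_ι_exact ((underline A).map (d idx)) (pt B) _).2 ⟨_, rfl⟩
  have heι_surj : ∀ idx (B : Alg A) (κ : B ⊗[A] (P idx)), ((d idx).hom.baseChange B) κ = 0 →
      ∃ y : (L idx).obj (pt B), (eι idx).app (pt B) y = κ := by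
    intro idx B κ hκ
    obtain ⟨z, hz⟩ := (PshMod.kernel_ι_exact ((underline A).map (d idx)) (pt B) κ).1 hκ
    refine ⟨(e idx).inv.app (pt B) z, ?_⟩
    change (kernel.ι ((underline A).map (d idx))).app (pt B)
      ((e idx).hom.app (pt B) ((e idx).inv.app (pt B) z)) = κ
    rw [PshMod.inv_hom_app_apply, hz]
  -- the big direct sums
  let K : Type (u+1) := ⨁ idx, P idx
  let K' : Type (u+1) := ⨁ idx, P' idx
  let dK : K →ₗ[A] K' := DirectSum.lmap (fun idx => (d idx).hom)
  let θK : K →ₗ[A] M := DirectSum.toModule A ι M (fun idx => (θ idx).hom)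
  have hθK_lof : ∀ idx, θK ∘ₗ DirectSum.lof A ι (fun idx => P idx) idx = (θ idx).hom := by
    intro idx; refine LinearMap.ext (fun x => ?_); exact DirectSum.toModule_lof (M := fun idx => (P idx : Type (u+1))) (N := M) (φ := fun idx => (θ idx).hom) A idx x
  have hdK_lof : ∀ idx, dK ∘ₗ DirectSum.lof A ι (fun idx => P idx) idx =
      DirectSum.lof A ι (fun idx => P' idx) idx ∘ₗ (d idx).hom := by
    intro idx; refine LinearMap.ext (fun x => ?_); exact DirectSum.lmap_lof (M := fun idx => (P idx : Type (u+1))) (N := fun idx => (P' idx : Type (u+1))) (fun idx => (d idx).hom) idx x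
  have hdK_comp : ∀ idx, DirectSum.component A ι (fun idx => P' idx) idx ∘ₗ dK =
      (d idx).hom ∘ₗ DirectSum.component A ι (fun idx => P idx) idx := by
    intro idx; ext x; rfl
  let Q : ModuleCat.{u+1} A := ModuleCat.of A (Qm θK dK)
  let Pm' : ModuleCat.{u+1} A := ModuleCat.of A (Pm ν.hom θK dK)
  let q : Q ⟶ Pm' := ModuleCat.ofHom (qm ν.hom θK dK)
  let r : M ⟶ Q := ModuleCat.ofHom (mQ θK dK ∘ₗ LinearMap.inl A M K')
  let j0 : G ⟶ (underline A).obj Q := iG ≫ (underline A).map r
  have hj0 : ∀ (B : Alg A) (g : G.obj (pt B)), j0.app (pt B) g =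
      ((mQ θK dK ∘ₗ LinearMap.inl A M K').baseChange B) (iG.app (pt B) g) := fun B g => rfl
  have hw : φ ≫ j0 = 0 := by
    ext X x
    change j0.app (pt X.unop.unop) (φ.app (pt X.unop.unop) x) = 0
    set B : Alg A := X.unop.unop
    let idx : ι := ⟨B, x⟩
    rw [hj0]
    refine (la1 θK dK B _).2 ⟨((DirectSum.lof A ι (fun idx => P idx) idx).baseChange B)
      ((eι idx).app (pt B) (η idx)), ?_, ?_⟩
    · rw [bc_comp, hθK_lof, heι_θ, hη]
    · rw [bc_comp, hdK_lof, ← bc_comp, heι_d, map_zero]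
  let j : cokernel φ ⟶ (underline A).obj Q := cokernel.desc φ j0 hw
  have hj : ∀ (B : Alg A) (g : G.obj (pt B)),
      j.app (pt B) ((cokernel.π φ).app (pt B) g) = j0.app (pt B) g := by
    intro B g
    rw [← PshMod.comp_app_apply, cokernel.π_desc]
  refine (adequate_iff (cokernel φ)).mpr ⟨Q, Pm', q, j, fun B => ?_, fun B => ?_⟩
  · -- injectivity
    have : Function.Injective (j.app (pt B)).hom := by
      refine (injective_iff_map_eq_zero _).mpr (fun c hc => ?_)
      obtain ⟨g, rfl⟩ := PshMod.cokernel_π_surjective φ (pt B) c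
      have hc' : j0.app (pt B) g = 0 := (hj B g).symm.trans hc
      rw [hj0] at hc'
      obtain ⟨k, hk1, hk2⟩ := (la1 θK dK B _).1 hc'
      obtain ⟨s, hs⟩ := exists_finset_sum_eq (fun idx => P idx) B k
      have hκ : ∀ idx, ∃ y : (L idx).obj (pt B), (eι idx).app (pt B) y =
          ((DirectSum.component A ι (fun idx => P idx) idx).baseChange B) k := by
        intro idx
        apply heι_surj
        rw [bc_comp, ← hdK_comp, ← bc_comp, hk2, map_zero]
      choose y hy using hκ
      have hsum : iG.app (pt B) g =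
          iG.app (pt B) (φ.app (pt B) (∑ idx ∈ s, (ψ idx).app (pt B) (y idx))) := by
        rw [← hk1]
        conv_lhs => rw [hs s (Finset.Subset.refl _)]
        rw [map_sum, map_sum, map_sum]
        refine Finset.sum_congr rfl (fun idx _ => ?_)
        rw [← hy, bc_comp, hθK_lof, heι_θ]
      have hg : g = φ.app (pt B) (∑ idx ∈ s, (ψ idx).app (pt B) (y idx)) := hiG B hsum
      rw [hg, ← PshMod.comp_app_apply, cokernel.condition]
      rfl
    exact this
  · -- exactness
    intro z
    change ((qm ν.hom θK dK).baseChange B) z = 0 ↔ _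
    refine (la2 ν.hom θK dK B z).trans ?_
    constructor
    · rintro ⟨m, hm, rfl⟩
      obtain ⟨g, rfl⟩ := (hexG B m).1 hm
      exact ⟨(cokernel.π φ).app (pt B) g, (hj B g).trans (hj0 B g)⟩
    · rintro ⟨c, rfl⟩
      obtain ⟨g, rfl⟩ := PshMod.cokernel_π_surjective φ (pt B) c
      refine ⟨iG.app (pt B) g, (hexG B _).2 ⟨g, rfl⟩, ?_⟩
      exact ((hj B g).trans (hj0 B g)).symm

end Main

section Ker
variable {A : Type u} [CommRing A]

theorem lin_eq_of_tmul {B : Type u} [CommRing B] [Algebra A B] {M N : Type (u+1)}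
    [AddCommGroup M] [Module A M] [AddCommGroup N] [Module A N]
    (g : M →ₗ[A] N) (τ : B ⊗[A] M →ₗ[B] B ⊗[A] N)
    (h : ∀ m, τ ((1 : B) ⊗ₜ[A] m) = (1 : B) ⊗ₜ[A] g m) (x : B ⊗[A] M) :
    g.baseChange B x = τ x := by
  induction x using TensorProduct.induction_on with
  | zero => rw [map_zero, map_zero]
  | add x y hx hy => rw [map_add, map_add, hx, hy]
  | tmul b m =>
    have h1 : (b ⊗ₜ[A] m : B ⊗[A] M) = b • ((1 : B) ⊗ₜ[A] m) := by
      rw [TensorProduct.smul_tmul', smul_eq_mul, mul_one]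
    rw [LinearMap.baseChange_tmul, h1, map_smul, h, TensorProduct.smul_tmul', smul_eq_mul, mul_one]

/-- the functor `underline` is full. -/
theorem underline_full (M N : ModuleCat.{u+1} A) (t : (underline A).obj M ⟶ (underline A).obj N) :
    ∃ g : M ⟶ N, (underline A).map g = t := by
  let A0 : Alg A := algOf A A
  let g0 : M →ₗ[A] N :=
    (TensorProduct.lid A N).toLinearMap ∘ₗ
      ((t.app (pt A0)).hom : A ⊗[A] M →ₗ[A] A ⊗[A] N) ∘ₗ (TensorProduct.mk A A M 1)
  refine ⟨ModuleCat.ofHom g0, ?_⟩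
  ext X x
  change (g0.baseChange X.unop.unop) x = t.app (pt X.unop.unop) x
  set B : Alg A := X.unop.unop
  let f : A0 ⟶ B := CommAlgCat.ofHom (Algebra.ofId A B)
  refine lin_eq_of_tmul g0 (t.app (pt B)).hom (fun m => ?_) x
  have e1 : ((1 : B) ⊗ₜ[A] m : B ⊗[A] M) = mapEl ((underline A).obj M) f ((1 : A) ⊗ₜ[A] m) := by
    rw [underline_mapEl, LinearMap.rTensor_tmul]
    congr 1
    exact (map_one (Algebra.ofId A B)).symm
  have e2 := app_mapEl t f ((1 : A) ⊗ₜ[A] m)
  have h2 : t.app (pt A0) ((1 : A) ⊗ₜ[A] m) = (1 : A) ⊗ₜ[A] g0 m := by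
    change _ = (1 : A) ⊗ₜ[A] (TensorProduct.lid A N) (t.app (pt A0) ((1 : A) ⊗ₜ[A] m))
    generalize t.app (pt A0) ((1 : A) ⊗ₜ[A] m) = w
    change w = (TensorProduct.lid A N).symm ((TensorProduct.lid A N) w)
    rw [LinearEquiv.symm_apply_apply]
  have e3 : mapEl ((underline A).obj N) f ((1 : A) ⊗ₜ[A] g0 m) = (1 : B) ⊗ₜ[A] g0 m := by
    rw [underline_mapEl, LinearMap.rTensor_tmul]
    congr 1
    exact map_one (Algebra.ofId A B)
  exact (congrArg (t.app (pt B)) e1).trans (e2.trans ((congrArg _ h2).trans e3))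

/-- `underline M` is adequate. -/
theorem adequate_underline (M : ModuleCat.{u+1} A) : adequate A ((underline A).obj M) := by
  refine (adequate_iff _).mpr ⟨M, M, 0, 𝟙 _, fun B => ?_, fun B => ?_⟩
  · intro x y h; exact h
  · intro x
    constructor
    · intro _; exact ⟨x, rfl⟩
    · intro _
      change ((0 : M ⟶ M).hom.baseChange B) x = 0
      rw [ModuleCat.hom_zero, LinearMap.baseChange_zero]; rfl

theorem bc_prod_ext {B : Type u} [CommRing B] [Algebra A B] {M N : Type (u+1)}
    [AddCommGroup M] [Module A M] [AddCommGroup N] [Module A N] (x : B ⊗[A] (M × N))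
    (h1 : ((LinearMap.fst A M N).baseChange B) x = 0)
    (h2 : ((LinearMap.snd A M N).baseChange B) x = 0) : x = 0 := by
  rw [← bc_inl_fst_add B x, h1, h2, map_zero, map_zero, add_zero]

theorem adequate_kernel {F G : MVF A} (φ : F ⟶ G) (hF : adequate A F) (hG : adequate A G) :
    adequate A (kernel φ) := by
  obtain ⟨MF, NF, μ, iF, hiF, hexF⟩ := (adequate_iff F).mp hF
  obtain ⟨MG, NG, ν, iG, hiG, hexG⟩ := (adequate_iff G).mp hG
  let MM : ModuleCat.{u+1} A := ModuleCat.of A (MF × MG)
  let Δ : F ⟶ (underline A).obj MM :=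
    iF ≫ (underline A).map (ModuleCat.ofHom (LinearMap.inl A MF MG)) +
      (φ ≫ iG) ≫ (underline A).map (ModuleCat.ofHom (LinearMap.inr A MF MG))
  have hΔ : ∀ (B : Alg A) (x : F.obj (pt B)), Δ.app (pt B) x =
      ((LinearMap.inl A MF MG).baseChange B) (iF.app (pt B) x) +
        ((LinearMap.inr A MF MG).baseChange B) (iG.app (pt B) (φ.app (pt B) x)) := fun B x => rfl
  have hΔ1 : ∀ (B : Alg A) (x : F.obj (pt B)),
      ((LinearMap.fst A MF MG).baseChange B) (Δ.app (pt B) x) = iF.app (pt B) x := by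
    intro B x
    rw [hΔ, map_add, bc_comp, bc_comp]
    simp
  have hΔ2 : ∀ (B : Alg A) (x : F.obj (pt B)),
      ((LinearMap.snd A MF MG).baseChange B) (Δ.app (pt B) x) =
        iG.app (pt B) (φ.app (pt B) x) := by
    intro B x
    rw [hΔ, map_add, bc_comp, bc_comp]
    simp
  have hH : adequate A (cokernel Δ) := adequate_cokernel Δ hF (adequate_underline MM)
  obtain ⟨MH, NH, νH, iH, hiH, hexH⟩ := (adequate_iff _).mp hH
  obtain ⟨ρ, hρ⟩ := underline_full MM MH (cokernel.π Δ ≫ iH)
  have hρ' : ∀ (B : Alg A) (w : B ⊗[A] (MF × MG)),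
      (ρ.hom.baseChange B) w = iH.app (pt B) ((cokernel.π Δ).app (pt B) w) := by
    intro B w
    have := congrArg (fun m => m.app (pt B) w) hρ
    exact this
  let Φ : (MF × MG) →ₗ[A] (MH × MG) := ρ.hom.prod (LinearMap.snd A MF MG)
  refine (adequate_iff (kernel φ)).mpr ⟨MM, ModuleCat.of A (MH × MG), ModuleCat.ofHom Φ,
    kernel.ι φ ≫ Δ, fun B => ?_, fun B => ?_⟩
  · intro c c' h
    apply PshMod.kernel_ι_injective φ (pt B)
    apply hiF B
    have h' : Δ.app (pt B) ((kernel.ι φ).app (pt B) c) =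
        Δ.app (pt B) ((kernel.ι φ).app (pt B) c') := h
    rw [← hΔ1, ← hΔ1, h']
  · intro w
    change (Φ.baseChange B) w = 0 ↔ _
    constructor
    · intro hw
      have h1 : (ρ.hom.baseChange B) w = 0 := by
        have := congrArg ((LinearMap.fst A MH MG).baseChange B) hw
        rw [bc_comp, map_zero] at this
        exact this
      have h2 : ((LinearMap.snd A MF MG).baseChange B) w = 0 := by
        have := congrArg ((LinearMap.snd A MH MG).baseChange B) hw
        rw [bc_comp, map_zero] at this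
        exact this
      rw [hρ'] at h1
      have h3 : (cokernel.π Δ).app (pt B) w = 0 := by
        apply hiH B
        rw [h1]; exact (map_zero _).symm
      obtain ⟨f, rfl⟩ := (PshMod.cokernel_π_exact Δ (pt B) w).1 h3
      rw [hΔ2] at h2
      have h4 : φ.app (pt B) f = 0 := by
        apply hiG B
        rw [h2]; exact (map_zero _).symm
      obtain ⟨c, rfl⟩ := (PshMod.kernel_ι_exact φ (pt B) f).1 h4
      exact ⟨c, rfl⟩
    · rintro ⟨c, rfl⟩
      change (Φ.baseChange B) (Δ.app (pt B) ((kernel.ι φ).app (pt B) c)) = 0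
      have hφc : φ.app (pt B) ((kernel.ι φ).app (pt B) c) = 0 :=
        (PshMod.kernel_ι_exact φ (pt B) _).2 ⟨c, rfl⟩
      apply bc_prod_ext
      · rw [bc_comp]
        change (ρ.hom.baseChange B) _ = 0
        rw [hρ']
        have : (cokernel.π Δ).app (pt B) (Δ.app (pt B) ((kernel.ι φ).app (pt B) c)) = 0 :=
          (PshMod.cokernel_π_exact Δ (pt B) _).2 ⟨_, rfl⟩
        rw [this]; exact map_zero _
      · rw [bc_comp]
        change ((LinearMap.snd A MF MG).baseChange B) _ = 0
        rw [hΔ2, hφc]; exact map_zero _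

end Ker

end Groth.Agent.Lib.R2H4.AdeqCoker
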