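import Mathlib
import Groth.Prelude.Def_Adeq
import Groth.Agent.Lib.Helper13AdeqA
import Groth.Agent.Lib.Helper13AdeqB
import Groth.Agent.Lib.Helper13AdeqD
import Groth.Agent.Lib.R2H4AdeqCoker

/-!
# Coproducts and colimits of adequate functors are adequate (helper4, round 2)

* `adequate_sigma`: a coproduct (indexed by a type in `Type (u+1)`) of adequate functors is adequate.
* `adequate_colimit`: a small colimit of adequate functors is adequate.
-/

set_option autoImplicit false
universe u
open CategoryTheory Limits TensorProduct Opposite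
open Adeq

namespace Groth.Agent.Lib.R2H4.AdeqColim
open Groth.Agent.Helper13Adeq Groth.Agent.Lib.R2H4.AdeqCoker

section DS
open DirectSum
variable {A : Type u} [CommRing A] (B : Type u) [CommRing B] [Algebra A B]
  {ι : Type (u+1)} [DecidableEq ι]
  (X : ι → Type (u+1)) [∀ i, AddCommGroup (X i)] [∀ i, Module B (X i)]
  (M N : ι → Type (u+1)) [∀ i, AddCommGroup (M i)] [∀ i, Module A (M i)]
  [∀ i, AddCommGroup (N i)] [∀ i, Module A (N i)]
  (μ : ∀ i, M i →ₗ[A] N i) (a : ∀ i, X i →ₗ[B] B ⊗[A] M i)

/-- the map `⨁ X_i → B ⊗ ⨁ M_i` assembled from the `a i`. -/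
noncomputable def T : (⨁ i, X i) →ₗ[B] B ⊗[A] (⨁ i, M i) :=
  DirectSum.toModule B ι _ (fun i => ((DirectSum.lof A ι M i).baseChange B) ∘ₗ a i)

theorem T_lof (i : ι) (z : X i) :
    T B X M a (DirectSum.lof B ι X i z) = ((DirectSum.lof A ι M i).baseChange B) (a i z) := by
  unfold T
  rw [DirectSum.toModule_lof]; rfl

theorem component_comp_lof_self (i : ι) :
    DirectSum.component A ι M i ∘ₗ DirectSum.lof A ι M i = LinearMap.id := by
  ext x; exact DirectSum.component.lof_self A i x

theorem component_comp_lof_ne (i j : ι) (h : i ≠ j) :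
    DirectSum.component A ι M j ∘ₗ DirectSum.lof A ι M i = 0 := by
  ext x
  change (DirectSum.lof A ι M i x) j = 0
  rw [DirectSum.lof_eq_of, DirectSum.of_eq_of_ne _ _ _ h.symm]

theorem comp_T (j : ι) (x : ⨁ i, X i) :
    ((DirectSum.component A ι M j).baseChange B) (T B X M a x) = a j (x j) := by
  induction x using DirectSum.induction_on with
  | zero => rw [map_zero, map_zero, DirectSum.zero_apply, map_zero]
  | add x y hx hy => rw [map_add, map_add, hx, hy, DirectSum.add_apply, map_add]
  | of i z =>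
    rw [← DirectSum.lof_eq_of B, T_lof, bc_comp]
    by_cases h : i = j
    · subst h
      rw [component_comp_lof_self, LinearMap.baseChange_id, LinearMap.id_apply,
        DirectSum.lof_eq_of, DirectSum.of_eq_same]
    · rw [component_comp_lof_ne M i j h, LinearMap.baseChange_zero, LinearMap.zero_apply,
        DirectSum.lof_eq_of, DirectSum.of_eq_of_ne _ _ _ (Ne.symm h), map_zero]

theorem T_injective (ha : ∀ i, Function.Injective (a i)) : Function.Injective (T B X M a) := by
  refine (injective_iff_map_eq_zero _).mpr (fun x hx => ?_)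
  refine DFinsupp.ext (fun j => ha j ?_)
  rw [← comp_T, hx, map_zero]
  exact (map_zero _).symm

theorem T_exact (hex : ∀ i, Function.Exact (a i) ((μ i).baseChange B)) :
    Function.Exact (T B X M a) ((DirectSum.lmap μ).baseChange B) := by
  intro w
  constructor
  · intro hw
    have h1 : ∀ i, ((μ i).baseChange B) (((DirectSum.component A ι M i).baseChange B) w) = 0 := by
      intro i
      have e1 : μ i ∘ₗ DirectSum.component A ι M i =
          DirectSum.component A ι N i ∘ₗ DirectSum.lmap μ := by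
        ext x; rfl
      rw [bc_comp, e1, ← bc_comp, hw, map_zero]
    have h2 : ∀ i, ∃ z : X i, a i z = ((DirectSum.component A ι M i).baseChange B) w :=
      fun i => (hex i _).1 (h1 i)
    choose z hz using h2
    obtain ⟨s, hs⟩ := exists_finset_sum_eq M B w
    refine ⟨∑ i ∈ s, DirectSum.lof B ι X i (z i), ?_⟩
    rw [map_sum]
    conv_rhs => rw [hs s (Finset.Subset.refl _)]
    refine Finset.sum_congr rfl (fun i _ => ?_)
    rw [T_lof, hz]
  · rintro ⟨x, rfl⟩
    induction x using DirectSum.induction_on with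
    | zero => rw [map_zero, map_zero]
    | add x y hx hy => rw [map_add, map_add, hx, hy, add_zero]
    | of i z =>
      rw [← DirectSum.lof_eq_of B, T_lof, bc_comp]
      have e1 : DirectSum.lmap μ ∘ₗ DirectSum.lof A ι M i = DirectSum.lof A ι N i ∘ₗ μ i := by
        refine LinearMap.ext (fun x => ?_)
        exact DirectSum.lmap_lof μ i x
      rw [e1, ← bc_comp, (hex i _).2 ⟨z, rfl⟩, map_zero]

end DS

section Sig
open DirectSum
variable {A : Type u} [CommRing A] {ι : Type (u+1)}

noncomputable instance evPres (B : Alg A) : PreservesColimitsOfShape (Discrete ι)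
    (PresheafOfModules.evaluation (ringOf A) (pt B) : MVF A ⥤ _) :=
  PresheafOfModules.evaluation_preservesColimitsOfShape.{u+1, u, u+1, u+1, u+1, u}
    (ringOf A) (Discrete ι) (pt B)

/-- a coproduct of adequate functors is adequate. -/
theorem adequate_sigma (F : ι → MVF A) (hF : ∀ i, adequate A (F i)) : adequate A (∐ F) := by
  classical
  choose M N μ iF hiF hexF using fun i => (adequate_iff (F i)).mp (hF i)
  let MM : ModuleCat.{u+1} A := ModuleCat.of A (⨁ i, M i)
  let NN : ModuleCat.{u+1} A := ModuleCat.of A (⨁ i, N i)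
  let μμ : MM ⟶ NN := ModuleCat.ofHom (DirectSum.lmap (fun i => (μ i).hom))
  let iS : ∐ F ⟶ (underline A).obj MM :=
    Sigma.desc (fun i => iF i ≫ (underline A).map (ModuleCat.ofHom (DirectSum.lof A ι (fun i => M i) i)))
  have hiS : ∀ (B : Alg A) (i : ι) (z : (F i).obj (pt B)),
      iS.app (pt B) ((Sigma.ι F i).app (pt B) z) =
        ((DirectSum.lof A ι (fun i => M i) i).baseChange B) ((iF i).app (pt B) z) := by
    intro B i z
    rw [← PshMod.comp_app_apply, Sigma.ι_desc]
    rfl
  refine (adequate_iff _).mpr ⟨MM, NN, μμ, iS, ?_⟩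
  suffices h : ∀ B : Alg A, Function.Injective (iS.app (pt B)) ∧
      Function.Exact (iS.app (pt B)) (((underline A).map μμ).app (pt B)) from
    ⟨fun B => (h B).1, fun B => (h B).2⟩
  intro B
  let ev := (PresheafOfModules.evaluation (ringOf A) (pt B) : MVF A ⥤ _)
  have hc : IsColimit (Cofan.mk (ev.obj (∐ F)) (fun i => ev.map (Sigma.ι F i))) :=
    isColimitCofanMkObjOfIsColimit ev F (Sigma.ι F) (coproductIsCoproduct F)
  have hd := ModuleCat.coproductCoconeIsColimit.{u, u+1, u+1} (fun i => (F i).obj (pt B))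
  let e := hc.coconePointUniqueUpToIso hd
  have he_inv : ∀ (i : ι) (z : (F i).obj (pt B)),
      e.inv (DirectSum.lof B ι (fun i => (F i).obj (pt B)) i z) = (Sigma.ι F i).app (pt B) z := by
    intro i z
    have := hc.comp_coconePointUniqueUpToIso_inv hd ⟨i⟩
    exact congrArg (fun f => f.hom z) this
  let a : ∀ i, (F i).obj (pt B) →ₗ[B] B ⊗[A] (M i) := fun i => ((iF i).app (pt B)).hom
  let Ei : (⨁ i, (F i).obj (pt B)) →ₗ[B] (∐ F).obj (pt B) := e.inv.hom
  let iSB : (∐ F).obj (pt B) →ₗ[B] B ⊗[A] (⨁ i, M i) := (iS.app (pt B)).hom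
  have key0 : iSB ∘ₗ Ei = T B (fun i => (F i).obj (pt B)) (fun i => M i) a := by
    refine DirectSum.linearMap_ext B (fun i => LinearMap.ext (fun z => ?_))
    exact (congrArg (iS.app (pt B)) (he_inv i z)).trans
      ((hiS B i z).trans (T_lof B (fun i => (F i).obj (pt B)) (fun i => M i) a i z).symm)
  have key : ∀ x : ⨁ i, (F i).obj (pt B),
      iS.app (pt B) (e.inv x) = T B (fun i => (F i).obj (pt B)) (fun i => M i) a x :=
    fun x => LinearMap.congr_fun key0 x
  have hTinj := T_injective B (fun i => (F i).obj (pt B)) (fun i => M i) a (fun i => hiF i B)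
  have hTex := T_exact B (fun i => (F i).obj (pt B)) (fun i => M i) (fun i => N i)
    (fun i => (μ i).hom) a (fun i => hexF i B)
  have hinv : ∀ c : (∐ F).obj (pt B), e.inv (e.hom c) = c := fun c =>
    congrArg (fun f => f.hom c) e.hom_inv_id
  constructor
  · intro c c' h
    rw [← hinv c, ← hinv c', key, key] at h
    rw [← hinv c, ← hinv c', hTinj h]
  · intro w
    refine (hTex w).trans ?_
    constructor
    · rintro ⟨x, rfl⟩
      exact ⟨e.inv x, key x⟩
    · rintro ⟨c, rfl⟩
      exact ⟨e.hom c, by rw [← key, hinv]⟩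

end Sig

section Colim
variable {A : Type u} [CommRing A]

/-- a (small) colimit of adequate functors is adequate. -/
theorem adequate_colimit {J : Type (u+1)} [SmallCategory J] (D : J ⥤ MVF A)
    (hD : ∀ j, adequate A (D.obj j)) : adequate A (colimit D) := by
  let P₁ : (Σ p : J × J, p.1 ⟶ p.2) → MVF A := fun f => D.obj f.1.1
  let c₁ : Cofan P₁ := Cofan.mk (∐ P₁) (Sigma.ι P₁)
  let c₂ : Cofan D.obj := Cofan.mk (∐ D.obj) (Sigma.ι D.obj)
  have t₁ : IsColimit c₁ := coproductIsCoproduct P₁
  have t₂ : IsColimit c₂ := coproductIsCoproduct D.obj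
  let s : c₁.pt ⟶ c₂.pt := Sigma.desc fun f => D.map f.2 ≫ Sigma.ι D.obj f.1.2
  let t : c₁.pt ⟶ c₂.pt := Sigma.desc fun f => Sigma.ι D.obj f.1.1
  have hs : ∀ f : Σ p : J × J, p.1 ⟶ p.2, c₁.ι.app ⟨f⟩ ≫ s = D.map f.2 ≫ c₂.ι.app ⟨f.1.2⟩ := by
    intro f
    exact Sigma.ι_desc _ f
  have ht : ∀ f : Σ p : J × J, p.1 ⟶ p.2, c₁.ι.app ⟨f⟩ ≫ t = c₂.ι.app ⟨f.1.1⟩ := by
    intro f
    exact Sigma.ι_desc _ f
  let i : Cofork s t := Preadditive.coforkOfCokernelCofork
    (CokernelCofork.ofπ (cokernel.π (s - t)) (cokernel.condition _))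
  have hi : IsColimit i := Preadditive.isColimitCoforkOfCokernelCofork (cokernelIsCokernel (s - t))
  have hcolim := HasColimitOfHasCoproductsOfHasCoequalizers.buildIsColimit s t hs ht t₁ t₂ hi
  let iso : colimit D ≅ cokernel (s - t) :=
    (colimit.isColimit D).coconePointUniqueUpToIso hcolim
  have h1 : adequate A (∐ P₁) := adequate_sigma P₁ (fun f => hD f.1.1)
  have h2 : adequate A (∐ D.obj) := adequate_sigma D.obj hD
  have h3 : adequate A (cokernel (s - t)) := adequate_cokernel (s - t) h1 h2
  exact (adequate A).prop_of_iso iso.symm h3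

end Colim

end Groth.Agent.Lib.R2H4.AdeqColim
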