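import Mathlib
import Groth.Prelude.Def_Adeq
import Groth.Agent.Lib.Helper13AdeqA
import Groth.Agent.Lib.Helper13AdeqB
import Groth.Agent.Lib.Helper13AdeqD
import Groth.Agent.Lib.R2H4AdeqCoker
import Groth.Agent.Lib.R2H4AdeqColim
import Groth.Agent.Lib.Helper23PshModGroth

/-!
# The category of adequate functors is abelian, cocomplete, and coreflective (helper4, round 2)

* instances: `adequate A` contains zero, is closed under kernels, cokernels, finite products, small colimits;
  hence `Adequate A` is abelian, cocomplete, well-powered (Mathlib's `ObjectProperty` API).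
* `stdProp_isSeparating`: the standard linearly adequate functors form a small separating family.
* `ι_isLeftAdjoint`: the inclusion has a right adjoint (special adjoint functor theorem).
* `enoughInjectives_adequate`.
-/

set_option autoImplicit false
universe u
open CategoryTheory Limits TensorProduct Opposite ZeroObject
open Adeq

namespace Groth.Agent.Lib.R2H4.AdeqAbelian
open Groth.Agent.Helper13Adeq Groth.Agent.Lib.R2H4.AdeqCoker Groth.Agent.Lib.R2H4.AdeqColim

variable {A : Type u} [CommRing A]

theorem adequate_of_isZero (Z : MVF A) (hZ : IsZero Z) : adequate A Z := by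
  have h0 : adequate A ((underline A).obj (ModuleCat.of A PUnit.{u+2})) := adequate_underline _
  refine (adequate A).prop_of_iso (IsZero.iso ?_ hZ) h0
  rw [IsZero.iff_id_eq_zero]
  ext X x
  have : Subsingleton (X.unop.unop ⊗[A] PUnit.{u+2}) := by
    refine ⟨fun a b => ?_⟩
    have h : ∀ c : X.unop.unop ⊗[A] PUnit.{u+2}, c = 0 := by
      intro c
      induction c using TensorProduct.induction_on with
      | zero => rfl
      | tmul b m => rw [Subsingleton.elim m 0, TensorProduct.tmul_zero]
      | add x y hx hy => rw [hx, hy, add_zero]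
    rw [h a, h b]
  exact Subsingleton.elim (α := X.unop.unop ⊗[A] PUnit.{u+2}) _ _

instance : (adequate A).ContainsZero where
  exists_zero := ⟨0, isZero_zero _, adequate_of_isZero _ (isZero_zero _)⟩

instance : (adequate A).IsClosedUnderKernels where
  kernels_le := by
    rintro _ ⟨f, k, hk, hf⟩
    exact (adequate A).prop_of_iso (IsLimit.conePointUniqueUpToIso (kernelIsKernel f) hk)
      (adequate_kernel f hf.1 hf.2)

instance : (adequate A).IsClosedUnderCokernels where
  cokernels_le := by
    rintro _ ⟨f, k, hk, hf⟩
    exact (adequate A).prop_of_iso (IsColimit.coconePointUniqueUpToIso (cokernelIsCokernel f) hk)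
      (adequate_cokernel f hf.1 hf.2)

instance closedColim (J : Type (u+1)) [SmallCategory J] :
    (adequate A).IsClosedUnderColimitsOfShape J :=
  ObjectProperty.IsClosedUnderColimitsOfShape.mk' (by
    rintro _ ⟨F, hF⟩
    exact adequate_colimit F hF)

instance : (adequate A).IsClosedUnderFiniteProducts :=
  ObjectProperty.IsClosedUnderFiniteProducts.of_isClosedUnderLimitsOfShape.{u+1}
    (fun J _ => ObjectProperty.IsClosedUnderLimitsOfShape.mk' (by
      rintro _ ⟨F, hF⟩
      have : HasFiniteBiproducts (MVF A) := Abelian.hasFiniteBiproducts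
      let g : J → MVF A := fun j => F.obj ⟨j⟩
      have e1 : limit F ≅ ∏ᶜ g := HasLimit.isoOfNatIso Discrete.natIsoFunctor
      have e2 : ∏ᶜ g ≅ ∐ g := (biproduct.isoProduct g).symm ≪≫ biproduct.isoCoproduct g
      exact (adequate A).prop_of_iso (e1 ≪≫ e2).symm (adequate_sigma g (fun j => hF ⟨j⟩))))

noncomputable example : Abelian (Adequate A) := inferInstance

section Std

/-- the standard free module of rank `n` (in the universe of the values) -/
abbrev stdMod (A : Type u) [CommRing A] (n : ℕ) : ModuleCat.{u+1} A :=
  ModuleCat.of A (ULift.{u+1} (Fin n → A))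

/-- indices of the standard linearly adequate functors -/
abbrev Idx (A : Type u) [CommRing A] : Type (u+1) := Σ (n m : ℕ), (stdMod A n ⟶ stdMod A m)

/-- the standard linearly adequate functors -/
noncomputable abbrev stdL (i : Idx A) : MVF A := kernel ((underline A).map i.2.2)

theorem stdL_linAdequate (i : Idx A) : linAdequate A (stdL i) :=
  ⟨stdMod A i.1, stdMod A i.2.1, i.2.2, inferInstance, inferInstance, inferInstance, inferInstance,
    ⟨Iso.refl _⟩⟩

theorem exists_iso_stdL [Nontrivial A] (L : MVF A) (hL : linAdequate A L) :
    ∃ i : Idx A, Nonempty (stdL i ≅ L) := by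
  obtain ⟨P, P', d, hP1, hP2, hP3, hP4, ⟨e⟩⟩ := hL
  let eP : P ≅ stdMod A (Module.finrank A P) :=
    ((Module.finBasis A P).equivFun ≪≫ₗ ULift.moduleEquiv.symm).toModuleIso
  let eP' : P' ≅ stdMod A (Module.finrank A P') :=
    ((Module.finBasis A P').equivFun ≪≫ₗ ULift.moduleEquiv.symm).toModuleIso
  refine ⟨⟨_, _, eP.inv ≫ d ≫ eP'.hom⟩, ⟨?_ ≪≫ e.symm⟩⟩
  refine kernel.mapIso _ _ ((underline A).mapIso eP.symm) ((underline A).mapIso eP'.symm) ?_
  change (underline A).map (eP.inv ≫ d ≫ eP'.hom) ≫ (underline A).map eP'.inv =
    (underline A).map eP.inv ≫ (underline A).map d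
  rw [← Functor.map_comp, ← Functor.map_comp, Category.assoc, Category.assoc, Iso.hom_inv_id,
    Category.comp_id]

/-- the object property of the standard linearly adequate functors, inside `Adequate A`. -/
noncomputable def stdProp (A : Type u) [CommRing A] : ObjectProperty (Adequate A) :=
  .ofObj (fun i : Idx A => (⟨stdL i, adequate_of_linAdequate (stdL_linAdequate i)⟩ : Adequate A))

instance : ObjectProperty.Small.{u+1} (stdProp A) := by
  dsimp [stdProp]
  infer_instance

theorem stdProp_isSeparating : (stdProp A).IsSeparating := by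
  intro X Y f g h
  rcases subsingleton_or_nontrivial A with hA | hA
  · apply ObjectProperty.hom_ext
    ext Z x
    have : Subsingleton (Y.obj.obj Z) := by
      have : Subsingleton Z.unop.unop := by
        refine ⟨fun a b => ?_⟩
        rw [← one_smul A a, ← one_smul A b, Subsingleton.elim (1 : A) 0, zero_smul, zero_smul]
      exact Module.subsingleton Z.unop.unop _
    exact Subsingleton.elim _ _
  · apply ObjectProperty.hom_ext
    ext Z x
    obtain ⟨L, ψ, hL, η, hη⟩ := exists_linAdequate_hits X.obj X.property Z.unop.unop x
    obtain ⟨i, ⟨e⟩⟩ := exists_iso_stdL L hL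
    have h1 := h _ (ObjectProperty.ofObj_apply _ i) (ObjectProperty.homMk (e.hom ≫ ψ))
    have h2 : (e.hom ≫ ψ) ≫ f.hom = (e.hom ≫ ψ) ≫ g.hom := congrArg (fun t => t.hom) h1
    have h3 : ψ ≫ f.hom = ψ ≫ g.hom := by
      rw [Category.assoc, Category.assoc] at h2
      exact (cancel_epi e.hom).1 h2
    have h4 := congrArg (fun t => t.app (pt Z.unop.unop) η) h3
    change f.hom.app (pt Z.unop.unop) (ψ.app (pt Z.unop.unop) η) =
      g.hom.app (pt Z.unop.unop) (ψ.app (pt Z.unop.unop) η) at h4
    rw [hη] at h4
    exact h4

end Std

section Adjoint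

instance : HasColimitsOfSize.{u+1, u+1} (Adequate A) where
  has_colimits_of_shape _ _ := inferInstance

noncomputable instance : PreservesColimitsOfSize.{u+1, u+1} (adequate A).ι where
  preservesColimitsOfShape {_} _ := inferInstance

instance : WellPowered.{u+1} (Adequate A) :=
  wellPowered_of_isDetecting (stdProp_isSeparating (A := A)).isDetecting

/-- the inclusion of adequate functors into all module-valued functors has a right adjoint. -/
theorem ι_isLeftAdjoint (A : Type u) [CommRing A] : (adequate A).ι.IsLeftAdjoint :=
  isLeftAdjoint_of_preservesColimits_of_isSeparating (stdProp_isSeparating (A := A)) _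

end Adjoint

section Inj

/-- the category of adequate functors has enough injectives. -/
theorem enoughInjectives_adequate (A : Type u) [CommRing A] : EnoughInjectives (Adequate A) := by
  have hadj : (adequate A).ι.IsLeftAdjoint := ι_isLeftAdjoint A
  have : EnoughInjectives (MVF A) :=
    Groth.Agent.Lib.Helper23PshModGroth.enoughInjectives (Adeq.ringOf A)
  have : (adequate A).ι.PreservesMonomorphisms :=
    (adequate A).preservesMonomorphisms_ι_of_isNormalEpiCategory
  exact EnoughInjectives.of_adjunction (Adjunction.ofIsLeftAdjoint (adequate A).ι)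

end Inj

end Groth.Agent.Lib.R2H4.AdeqAbelian
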