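import Mathlib
import Groth.Prelude.Def_Adeq
import Groth.Agent.Lib.Helper13AdeqA
import Groth.Agent.Lib.Helper13AdeqB
import Groth.Agent.Lib.Helper13AdeqC
import Groth.Agent.Lib.Helper13AdeqD

/-!
# Splitting of extensions of linearly adequate functors by `underline M`, part A (helper4, round 2)

* `mapA`: transport along unbundled algebra maps; polynomial-tensor lemmas (`cKt`, `Ct`, `exists_expansion`).
* `exists_homogeneous`: a lift of the universal element can be corrected to a homogeneous one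
  (cocycle computation for the scaling action, no flat base change needed).
* `exists_linear_of_homogeneous`: natural homogeneous maps on `ker(underline(P → P'))` are linear.
-/

set_option autoImplicit false
universe u
open CategoryTheory Limits TensorProduct Opposite
open Adeq

namespace Groth.Agent.Lib.R2H4.AdeqSplit
open Groth.Agent.Helper13Adeq Groth.Agent.Helper13Adeq.Univ

section MapA
variable {A : Type u} [CommRing A]

/-- transport along an unbundled algebra map -/
noncomputable def mapA (F : MVF A) {B B' : Type u} [CommRing B] [Algebra A B] [CommRing B']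
    [Algebra A B'] (f : B →ₐ[A] B') (x : F.obj (pt (algOf A B))) : F.obj (pt (algOf A B')) :=
  mapEl F (CommAlgCat.ofHom f) x

variable (F : MVF A) {B B' B'' : Type u} [CommRing B] [Algebra A B] [CommRing B']
    [Algebra A B'] [CommRing B''] [Algebra A B''] (f : B →ₐ[A] B') (g : B' →ₐ[A] B'')

theorem mapA_add (x y : F.obj (pt (algOf A B))) : mapA F f (x + y) = mapA F f x + mapA F f y :=
  mapEl_add F _ x y

theorem mapA_zero : mapA F f (0 : F.obj (pt (algOf A B))) = 0 := mapEl_zero F _

theorem mapA_neg (x : F.obj (pt (algOf A B))) : mapA F f (-x) = -mapA F f x :=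
  map_neg (F.map (ptHom (CommAlgCat.ofHom f))).hom x

theorem mapA_sub (x y : F.obj (pt (algOf A B))) : mapA F f (x - y) = mapA F f x - mapA F f y :=
  map_sub (F.map (ptHom (CommAlgCat.ofHom f))).hom x y

theorem mapA_smul (b : (algOf A B : Alg A)) (x : F.obj (pt (algOf A B))) :
    mapA F f (b • x) = ((CommAlgCat.ofHom f).hom b) • mapA F f x :=
  mapEl_smul F (CommAlgCat.ofHom f) b x

theorem mapA_comp (x : F.obj (pt (algOf A B))) :
    mapA F (g.comp f) x = mapA F g (mapA F f x) :=
  mapEl_comp F (CommAlgCat.ofHom f) (CommAlgCat.ofHom g) x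

theorem mapA_id (x : F.obj (pt (algOf A B))) : mapA F (AlgHom.id A B) x = x :=
  mapEl_id F x

theorem app_mapA {F G : MVF A} (φ : F ⟶ G) (x : F.obj (pt (algOf A B))) :
    φ.app (pt (algOf A B')) (mapA F f x) = mapA G f (φ.app (pt (algOf A B)) x) :=
  app_mapEl φ _ x

theorem app_add {F G : MVF A} (φ : F ⟶ G) (B : Alg A) (x y : F.obj (pt B)) :
    φ.app (pt B) (x + y) = φ.app (pt B) x + φ.app (pt B) y := map_add (φ.app (pt B)).hom x y

theorem app_sub {F G : MVF A} (φ : F ⟶ G) (B : Alg A) (x y : F.obj (pt B)) :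
    φ.app (pt B) (x - y) = φ.app (pt B) x - φ.app (pt B) y := map_sub (φ.app (pt B)).hom x y

theorem app_zero {F G : MVF A} (φ : F ⟶ G) (B : Alg A) :
    φ.app (pt B) (0 : F.obj (pt B)) = 0 := map_zero (φ.app (pt B)).hom

theorem app_neg {F G : MVF A} (φ : F ⟶ G) (B : Alg A) (x : F.obj (pt B)) :
    φ.app (pt B) (-x) = -φ.app (pt B) x := map_neg (φ.app (pt B)).hom x

theorem app_sum {F G : MVF A} (φ : F ⟶ G) (B : Alg A) {ι : Type*} (s : Finset ι)
    (x : ι → F.obj (pt B)) :
    φ.app (pt B) (∑ k ∈ s, x k) = ∑ k ∈ s, φ.app (pt B) (x k) := map_sum (φ.app (pt B)).hom x s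

theorem underline_mapA (M : ModuleCat.{u+1} A) (x : B ⊗[A] M) :
    mapA ((underline A).obj M) f x = (f.toLinearMap.rTensor M) x := rfl

end MapA

section PolyTensor
open Polynomial
variable {A : Type u} [CommRing A] (S : Type u) [CommRing S] [Algebra A S]
  (M : Type (u+1)) [AddCommGroup M] [Module A M]

/-- coefficient extraction on `S[X] ⊗ M` -/
noncomputable def cKt (k : ℕ) : S[X] ⊗[A] M →ₗ[A] S ⊗[A] M :=
  ((Polynomial.lcoeff S k).restrictScalars A).rTensor M

/-- constants `S ⊗ M → S[X] ⊗ M` -/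
noncomputable def Ct : S ⊗[A] M →ₗ[A] S[X] ⊗[A] M :=
  (Polynomial.CAlgHom (R := A) (A := S)).toLinearMap.rTensor M

theorem cKt_X_pow_smul_Ct (j k : ℕ) (v : S ⊗[A] M) :
    cKt S M k ((X : S[X]) ^ j • Ct S M v) = if j = k then v else 0 := by
  induction v using TensorProduct.induction_on with
  | zero => simp
  | tmul s m =>
    unfold cKt Ct
    rw [LinearMap.rTensor_tmul, TensorProduct.smul_tmul', LinearMap.rTensor_tmul]
    change ((X : S[X]) ^ j * C s).coeff k ⊗ₜ[A] m = _
    rw [Polynomial.coeff_X_pow_mul', Polynomial.coeff_C]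
    by_cases h : j = k
    · subst h
      simp
    · rw [if_neg h]
      by_cases h2 : j ≤ k
      · rw [if_pos h2, if_neg (by omega), TensorProduct.zero_tmul]
      · rw [if_neg h2, TensorProduct.zero_tmul]
  | add x y hx hy =>
    rw [map_add, smul_add, map_add, hx, hy]
    split_ifs <;> simp

theorem exists_expansion (w : S[X] ⊗[A] M) :
    ∃ N : ℕ, ∀ N', N ≤ N' →
      w = ∑ k ∈ Finset.range N', (X : S[X]) ^ k • Ct S M (cKt S M k w) := by
  induction w using TensorProduct.induction_on with
  | zero => exact ⟨0, fun N' _ => by simp⟩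
  | tmul p m =>
    refine ⟨p.natDegree + 1, fun N' hN' => ?_⟩
    have hp : p = ∑ k ∈ Finset.range N', (X : S[X]) ^ k * C (p.coeff k) := by
      conv_lhs => rw [Polynomial.as_sum_range' p N' (by omega)]
      refine Finset.sum_congr rfl (fun k _ => ?_)
      rw [← Polynomial.C_mul_X_pow_eq_monomial, mul_comm]
    conv_lhs => rw [hp, TensorProduct.sum_tmul]
    refine Finset.sum_congr rfl (fun k _ => ?_)
    unfold cKt Ct
    rw [LinearMap.rTensor_tmul, LinearMap.rTensor_tmul, TensorProduct.smul_tmul']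
    rfl
  | add x y hx hy =>
    obtain ⟨N₁, h₁⟩ := hx
    obtain ⟨N₂, h₂⟩ := hy
    refine ⟨max N₁ N₂, fun N' hN' => ?_⟩
    conv_lhs => rw [h₁ N' (le_trans (le_max_left _ _) hN'), h₂ N' (le_trans (le_max_right _ _) hN')]
    rw [← Finset.sum_add_distrib]
    refine Finset.sum_congr rfl (fun k _ => ?_)
    rw [map_add, map_add, smul_add]

variable {S M}

theorem rTensor_aevalTower_X_pow_smul_Ct {C' : Type u} [CommRing C'] [Algebra A C']
    (φ : S →ₐ[A] C') (l : C') (k : ℕ) (v : S ⊗[A] M) :
    ((Polynomial.aevalTower φ l).toLinearMap.rTensor M) ((X : S[X]) ^ k • Ct S M v) =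
      l ^ k • (φ.toLinearMap.rTensor M) v := by
  induction v using TensorProduct.induction_on with
  | zero => simp
  | tmul s m =>
    unfold Ct
    rw [LinearMap.rTensor_tmul, TensorProduct.smul_tmul', LinearMap.rTensor_tmul,
      LinearMap.rTensor_tmul, TensorProduct.smul_tmul']
    congr 1
    change Polynomial.aevalTower φ l ((X : S[X]) ^ k * C s) = l ^ k * φ s
    rw [map_mul, map_pow, Polynomial.aevalTower_X, Polynomial.aevalTower_C]
  | add x y hx hy =>
    rw [map_add, smul_add, map_add, hx, hy, map_add, smul_add]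

end PolyTensor

section Homog
open Polynomial
variable {A : Type u} [CommRing A] {n m : ℕ} (a : Fin m → Fin n → A)

theorem RU_algHom_ext {C' : Type u} [CommRing C'] [Algebra A C'] (f g : RU a →ₐ[A] C')
    (h : ∀ j, f (xb a j) = g (xb a j)) : f = g := by
  apply Ideal.Quotient.algHom_ext
  apply MvPolynomial.algHom_ext
  intro j
  exact h j

/-- the scaled map `x_j ↦ l φ(x_j)` -/
noncomputable def scaleHom {C' : Type u} [CommRing C'] [Algebra A C'] (φ : RU a →ₐ[A] C') (l : C') :
    RU a →ₐ[A] C' := (aevalTower φ l).comp (sigma a)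

theorem scaleHom_xb {C' : Type u} [CommRing C'] [Algebra A C'] (φ : RU a →ₐ[A] C') (l : C')
    (j : Fin n) : scaleHom a φ l (xb a j) = l * φ (xb a j) := by
  unfold scaleHom
  rw [AlgHom.comp_apply, sigma, classify_xb, map_mul, aevalTower_X, aevalTower_C]

theorem scaleHom_scaleHom {C' : Type u} [CommRing C'] [Algebra A C'] (φ : RU a →ₐ[A] C')
    (l l' : C') : scaleHom a (scaleHom a φ l') l = scaleHom a φ (l * l') := by
  apply RU_algHom_ext
  intro j
  rw [scaleHom_xb, scaleHom_xb, scaleHom_xb, mul_assoc]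

theorem scaleHom_one {C' : Type u} [CommRing C'] [Algebra A C'] (φ : RU a →ₐ[A] C') :
    scaleHom a φ 1 = φ := by
  apply RU_algHom_ext
  intro j
  rw [scaleHom_xb, one_mul]

theorem aevalTower_comp_CAlgHom {S C' : Type u} [CommRing S] [Algebra A S] [CommRing C']
    [Algebra A C'] (φ : S →ₐ[A] C') (l : C') :
    (aevalTower φ l).comp (CAlgHom (R := A) (A := S)) = φ := by
  ext s
  exact aevalTower_C φ l s

theorem Ct_smul {S : Type u} [CommRing S] [Algebra A S] {M : Type (u+1)} [AddCommGroup M]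
    [Module A M] (s : S) (v : S ⊗[A] M) : Ct S M (s • v) = (C s : S[X]) • Ct S M v := by
  induction v using TensorProduct.induction_on with
  | zero => simp
  | tmul t m =>
    unfold Ct
    rw [TensorProduct.smul_tmul', LinearMap.rTensor_tmul, LinearMap.rTensor_tmul,
      TensorProduct.smul_tmul']
    congr 1
    exact map_mul (CAlgHom (R := A) (A := S)) s t
  | add x y hx hy => rw [smul_add, map_add, hx, hy, map_add, smul_add]

end Homog

section HomogMain
open Polynomial
variable {A : Type u} [CommRing A] {n m : ℕ} (a : Fin m → Fin n → A)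
  (G : MVF A) (M : ModuleCat.{u+1} A) (i : (underline A).obj M ⟶ G)
  (hi : ∀ B : Alg A, Function.Injective (i.app (pt B)))
  (θ₀ : G.obj (pt (algOf A (RU a)))) (ρ₀ : (RU a)[X] ⊗[A] M)
  (hρ : i.app (pt (algOf A (RU a)[X])) ρ₀ =
    mapA G (sigma a) θ₀ - ((X : (RU a)[X]) : algOf A (RU a)[X]) • mapA G (CAlgHom (R := A)) θ₀)

include hρ in
/-- the basic identity `[**]` -/
theorem psi_eq {C' : Type u} [CommRing C'] [Algebra A C'] (φ : RU a →ₐ[A] C') (l : C') :
    i.app (pt (algOf A C')) (((aevalTower φ l).toLinearMap.rTensor M) ρ₀) =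
      mapA G (scaleHom a φ l) θ₀ - (l : algOf A C') • mapA G φ θ₀ := by
  have h1 := congrArg (mapA G (aevalTower φ l)) hρ
  rw [← app_mapA, mapA_sub, mapA_smul, ← mapA_comp, ← mapA_comp, aevalTower_comp_CAlgHom] at h1
  rw [underline_mapA] at h1
  refine h1.trans ?_
  congr 2
  exact aevalTower_X φ l

include hi hρ in
/-- the cocycle identity `[***]` -/
theorem psi_mul {C' : Type u} [CommRing C'] [Algebra A C'] (φ : RU a →ₐ[A] C') (l l' : C') :
    ((aevalTower φ (l * l')).toLinearMap.rTensor M) ρ₀ =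
      ((aevalTower (scaleHom a φ l') l).toLinearMap.rTensor M) ρ₀ +
        l • ((aevalTower φ l').toLinearMap.rTensor M) ρ₀ := by
  apply hi (algOf A C')
  have e1 := psi_eq a G M i θ₀ ρ₀ hρ φ (l * l')
  have e2 := psi_eq a G M i θ₀ ρ₀ hρ (scaleHom a φ l') l
  have e3 := psi_eq a G M i θ₀ ρ₀ hρ φ l'
  rw [scaleHom_scaleHom] at e2
  have e4 := (app_add i (algOf A C')
      (((aevalTower (scaleHom a φ l') l).toLinearMap.rTensor M) ρ₀)
      (l • ((aevalTower φ l').toLinearMap.rTensor M) ρ₀)).trans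
    (congrArg (_ + ·) (app_smul i (algOf A C') l (((aevalTower φ l').toLinearMap.rTensor M) ρ₀)))
  refine e1.trans (Eq.trans ?_ e4.symm)
  rw [e2, e3, smul_sub, mul_smul]
  abel

include hi hρ in
theorem exists_homogeneous :
    ∃ μ : RU a ⊗[A] M,
      mapA G (sigma a) (θ₀ - i.app (pt (algOf A (RU a))) μ) =
        ((X : (RU a)[X]) : algOf A (RU a)[X]) •
          mapA G (CAlgHom (R := A)) (θ₀ - i.app (pt (algOf A (RU a))) μ) := by
  classical
  obtain ⟨N0, hN0⟩ := exists_expansion (RU a) M ρ₀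
  set N := N0 + 2 with hN
  have hexp := hN0 N (by omega)
  set r : ℕ → RU a ⊗[A] M := fun k => cKt (RU a) M k ρ₀ with hr
  -- expansions of Ψ
  have hΨ : ∀ {C' : Type u} [CommRing C'] [Algebra A C'] (φ : RU a →ₐ[A] C') (l : C'),
      ((aevalTower φ l).toLinearMap.rTensor M) ρ₀ =
        ∑ k ∈ Finset.range N, l ^ k • (φ.toLinearMap.rTensor M) (r k) := by
    intro C' _ _ φ l
    conv_lhs => rw [hexp]
    rw [map_sum]
    refine Finset.sum_congr rfl (fun k _ => ?_)
    exact rTensor_aevalTower_X_pow_smul_Ct φ l k (r k)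
  -- (a) the sum of the components vanishes
  have hsum : ∑ k ∈ Finset.range N, r k = 0 := by
    have h1 := psi_eq a G M i θ₀ ρ₀ hρ (AlgHom.id A (RU a)) 1
    rw [scaleHom_one, mapA_id, one_smul, sub_self] at h1
    have h0 : ((aevalTower (AlgHom.id A (RU a)) 1).toLinearMap.rTensor M) ρ₀ = 0 :=
      hi (algOf A (RU a)) (h1.trans (app_zero i (algOf A (RU a))).symm)
    rw [hΨ] at h0
    rw [← h0]
    refine Finset.sum_congr rfl (fun k _ => ?_)
    rw [one_pow, one_smul, AlgHom.toLinearMap_id, LinearMap.rTensor_id, LinearMap.id_apply]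
  -- (b) homogeneity of the components
  have hhom : ∀ k ∈ Finset.range N, k ≠ 1 →
      ((sigma a).toLinearMap.rTensor M) (r k) = (X : (RU a)[X]) ^ k • Ct (RU a) M (r k) := by
    intro k hk hk1
    let S : Type u := (RU a)[X]
    let iS : CommRing S := (inferInstance : CommRing (RU a)[X])
    let aS : Algebra A S := (inferInstance : Algebra A (RU a)[X])
    let C₁ : RU a →ₐ[A] S := CAlgHom (R := A) (A := RU a)
    let φ : RU a →ₐ[A] S[X] := (CAlgHom (R := A) (A := S)).comp C₁
    let l : S[X] := X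
    let l' : S[X] := C (X : (RU a)[X])
    have key := psi_mul a G M i hi θ₀ ρ₀ hρ φ l l'
    have t1 : ((aevalTower φ (l * l')).toLinearMap.rTensor M) ρ₀ =
        ∑ k ∈ Finset.range N, (X : S[X]) ^ k •
          Ct S M ((X : (RU a)[X]) ^ k • Ct (RU a) M (r k)) := by
      rw [hΨ]
      refine Finset.sum_congr rfl (fun k _ => ?_)
      have hφ : (φ.toLinearMap.rTensor M) (r k) = Ct S M (Ct (RU a) M (r k)) := by
        change (((CAlgHom (R := A) (A := S)).toLinearMap ∘ₗ C₁.toLinearMap).rTensor M) (r k) = _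
        rw [LinearMap.rTensor_comp]; rfl
      rw [mul_pow, mul_smul, hφ, Ct_smul, map_pow]
    have hφl' : scaleHom a φ l' = (CAlgHom (R := A) (A := S)).comp (sigma a) := by
      apply RU_algHom_ext
      intro j
      rw [scaleHom_xb]
      have hs : sigma a (xb a j) = X * C (xb a j) := by rw [sigma, classify_xb]
      change l' * C (C₁ (xb a j)) = C (sigma a (xb a j))
      rw [hs]
      exact (map_mul (C : S →+* S[X]) (X : (RU a)[X]) (C (xb a j))).symm
    have t2 : ((aevalTower (scaleHom a φ l') l).toLinearMap.rTensor M) ρ₀ =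
        ∑ k ∈ Finset.range N, (X : S[X]) ^ k •
          Ct S M (((sigma a).toLinearMap.rTensor M) (r k)) := by
      rw [hΨ, hφl']
      refine Finset.sum_congr rfl (fun k _ => ?_)
      rw [AlgHom.comp_toLinearMap, LinearMap.rTensor_comp, LinearMap.comp_apply]
      rfl
    have hev : aevalTower φ l' = CAlgHom (R := A) (A := S) := by
      apply Polynomial.algHom_ext'
      · exact aevalTower_comp_CAlgHom φ l'
      · exact aevalTower_X φ l'
    have t3 : ((aevalTower φ l').toLinearMap.rTensor M) ρ₀ = Ct S M ρ₀ := by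
      rw [hev]; rfl
    rw [t1, t2, t3] at key
    have key2 := congrArg (cKt S M k) key
    rw [map_sum, map_add, map_sum] at key2
    simp only [cKt_X_pow_smul_Ct] at key2
    rw [Finset.sum_ite_eq' (Finset.range N) k, Finset.sum_ite_eq' (Finset.range N) k,
      if_pos hk, if_pos hk] at key2
    have h3 : cKt S M k (l • Ct S M ρ₀) = 0 := by
      have : l • Ct S M ρ₀ = (X : S[X]) ^ 1 • Ct S M ρ₀ := by
        rw [pow_one]
      rw [this, cKt_X_pow_smul_Ct, if_neg (Ne.symm hk1)]
    rw [h3, add_zero] at key2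
    exact key2.symm
  -- (c) assembly
  have h1N : 1 ∈ Finset.range N := by rw [Finset.mem_range]; omega
  let μ : RU a ⊗[A] M := ∑ k ∈ (Finset.range N).erase 1, r k
  have hμ1 : μ = - r 1 := by
    have := Finset.add_sum_erase (Finset.range N) r h1N
    rw [hsum] at this
    exact (neg_eq_of_add_eq_zero_right this).symm ▸ rfl
  have hρμ : ρ₀ = ((sigma a).toLinearMap.rTensor M) μ - (X : (RU a)[X]) • Ct (RU a) M μ := by
    have e1 : ((sigma a).toLinearMap.rTensor M) μ =
        ∑ k ∈ (Finset.range N).erase 1, (X : (RU a)[X]) ^ k • Ct (RU a) M (r k) := by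
      rw [map_sum]
      refine Finset.sum_congr rfl (fun k hk => ?_)
      exact hhom k (Finset.mem_of_mem_erase hk) (Finset.ne_of_mem_erase hk)
    rw [e1, hμ1, map_neg, smul_neg, sub_neg_eq_add]
    conv_lhs => rw [hexp]
    rw [← Finset.add_sum_erase (Finset.range N) _ h1N, pow_one, add_comm]
  refine ⟨μ, ?_⟩
  rw [mapA_sub, mapA_sub, smul_sub, ← app_mapA, ← app_mapA, underline_mapA, underline_mapA]
  have e2 : ((X : (RU a)[X]) : algOf A (RU a)[X]) •
      i.app (pt (algOf A (RU a)[X])) (((CAlgHom (R := A) (A := RU a)).toLinearMap.rTensor M) μ) =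
      i.app (pt (algOf A (RU a)[X])) ((X : (RU a)[X]) • Ct (RU a) M μ) :=
    (app_smul i (algOf A (RU a)[X]) (X : (RU a)[X]) (Ct (RU a) M μ)).symm
  rw [e2]
  have e3 : mapA G (sigma a) θ₀ -
      ((X : (RU a)[X]) : algOf A (RU a)[X]) • mapA G (CAlgHom (R := A)) θ₀ =
      i.app (pt (algOf A (RU a)[X])) (((sigma a).toLinearMap.rTensor M) μ) -
        i.app (pt (algOf A (RU a)[X])) ((X : (RU a)[X]) • Ct (RU a) M μ) :=
    hρ.symm.trans ((congrArg (i.app (pt (algOf A (RU a)[X]))) hρμ).trans
      (app_sub i (algOf A (RU a)[X]) (((sigma a).toLinearMap.rTensor M) μ)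
        ((X : (RU a)[X]) • Ct (RU a) M μ)))
  rw [sub_eq_sub_iff_add_eq_add] at e3 ⊢
  exact e3.trans (add_comm _ _)

end HomogMain

section LemmaH
open Module
variable {A : Type u} [CommRing A]

theorem baseChange_rTensor_comm {P P' : ModuleCat.{u+1} A} (φ₀ : P ⟶ P') {B B' : Alg A}
    (f : B ⟶ B') (y : B ⊗[A] P) :
    (φ₀.hom.baseChange B') ((f.hom.toLinearMap.rTensor P) y) =
      (f.hom.toLinearMap.rTensor P') ((φ₀.hom.baseChange B) y) :=
  app_mapEl ((underline A).map φ₀) f y

/-- natural homogeneous families of maps on the kernel of `underline(P → P')` are linear. -/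
theorem exists_linear_of_homogeneous (P P' M : ModuleCat.{u+1} A) [Module.Finite A P]
    [Module.Free A P] [Module.Finite A P'] [Module.Free A P'] (φ₀ : P ⟶ P')
    (t : ∀ B : Alg A, B ⊗[A] P → B ⊗[A] M)
    (hnat : ∀ {B B' : Alg A} (f : B ⟶ B') (y : B ⊗[A] P), (φ₀.hom.baseChange B) y = 0 →
      t B' ((f.hom.toLinearMap.rTensor P) y) = (f.hom.toLinearMap.rTensor M) (t B y))
    (hhom : ∀ (B : Alg A) (l : B) (y : B ⊗[A] P), (φ₀.hom.baseChange B) y = 0 →
      t B (l • y) = l • t B y) :
    ∃ g₀ : P →ₗ[A] M, ∀ (B : Alg A) (y : B ⊗[A] P), (φ₀.hom.baseChange B) y = 0 →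
      t B y = g₀.baseChange B y := by
  classical
  rcases subsingleton_or_nontrivial A with hA | hA
  · refine ⟨0, fun B y _ => ?_⟩
    have : Subsingleton (B ⊗[A] M) := by
      have : Subsingleton M := Module.subsingleton A M
      infer_instance
    exact Subsingleton.elim _ _
  let n := Module.finrank A P
  let m := Module.finrank A P'
  let eP : Basis (Fin n) A P := Module.finBasis A P
  let eP' : Basis (Fin m) A P' := Module.finBasis A P'
  let a : Fin m → Fin n → A := fun i j => eP'.repr (φ₀.hom (eP j)) i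
  let R : Alg A := algOf A (RU a)
  let T : Alg A := algOf A (Polynomial (RU a))
  let ξu : (RU a) ⊗[A] P := ∑ j, xb a j ⊗ₜ[A] eP j
  have hξu : (φ₀.hom.baseChange R) ξu = 0 := by
    change φ₀.hom.baseChange (RU a) ξu = 0
    rw [baseChange_sum_basis eP eP']
    refine Finset.sum_eq_zero (fun i _ => ?_)
    rw [rel a i, TensorProduct.zero_tmul]
  let w : (RU a) ⊗[A] M := t R ξu
  let fσ : R ⟶ T := CommAlgCat.ofHom (sigma a)
  let fC : R ⟶ T := CommAlgCat.ofHom (Polynomial.CAlgHom (R := A) (A := RU a))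
  have claim1 : (fσ.hom.toLinearMap.rTensor P) ξu =
      ((Polynomial.X : Polynomial (RU a)) : T) • (fC.hom.toLinearMap.rTensor P) ξu := by
    change (sigma a).toLinearMap.rTensor P ξu = (Polynomial.X : Polynomial (RU a)) •
      ((Polynomial.CAlgHom (R := A) (A := RU a)).toLinearMap.rTensor P ξu)
    simp only [ξu, map_sum, Finset.smul_sum, LinearMap.rTensor_tmul, TensorProduct.smul_tmul']
    refine Finset.sum_congr rfl (fun j _ => ?_)
    congr 1
    change sigma a (xb a j) = _
    rw [sigma, classify_xb]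
    rfl
  have hCξ : (φ₀.hom.baseChange T) ((fC.hom.toLinearMap.rTensor P) ξu) = 0 := by
    rw [baseChange_rTensor_comm, hξu, map_zero]
  have claim2 : (sigma a).toLinearMap.rTensor M w = (Polynomial.X : Polynomial (RU a)) •
      ((Polynomial.CAlgHom (R := A) (A := RU a)).toLinearMap.rTensor M w) := by
    have h1 := hnat fσ ξu hξu
    have h2 := hnat fC ξu hξu
    have h3 := hhom T (Polynomial.X : Polynomial (RU a)) _ hCξ
    rw [claim1, h3, h2] at h1
    exact h1.symm
  obtain ⟨v, hv⟩ := key a w claim2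
  let g₀ : P →ₗ[A] M := eP.constr A v
  have hg₀ : ∀ j, g₀ (eP j) = v j := fun j => eP.constr_basis A v j
  refine ⟨g₀, fun B y hy => ?_⟩
  obtain ⟨b, hb⟩ := exists_coords eP B y
  have hrel : ∀ i, ∑ j, a i j • b j = 0 := by
    apply coords_eq_zero eP' B
    rw [← baseChange_sum_basis eP eP' B φ₀.hom b, ← hb]
    exact hy
  let f : R ⟶ B := CommAlgCat.ofHom (classify a b hrel)
  have hξ : (f.hom.toLinearMap.rTensor P) ξu = y := by
    rw [hb]
    simp only [ξu, map_sum, LinearMap.rTensor_tmul]
    refine Finset.sum_congr rfl (fun j _ => ?_)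
    congr 1
    exact classify_xb a b hrel j
  have e1 : t B y = ∑ j, b j ⊗ₜ[A] v j := by
    rw [← hξ, hnat f ξu hξu]
    change (classify a b hrel).toLinearMap.rTensor M w = _
    rw [hv, map_sum]
    refine Finset.sum_congr rfl (fun j _ => ?_)
    rw [LinearMap.rTensor_tmul]
    congr 1
    exact classify_xb a b hrel j
  rw [e1, hb, map_sum]
  refine Finset.sum_congr rfl (fun j _ => ?_)
  rw [LinearMap.baseChange_tmul, hg₀]

end LemmaH

end Groth.Agent.Lib.R2H4.AdeqSplit
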