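import Mathlib
import Groth.Prelude.Def_Adeq
import Groth.Agent.Lib.Helper13AdeqA
import Groth.Agent.Lib.Helper13AdeqB
import Groth.Agent.Lib.Helper13AdeqC
import Groth.Agent.Lib.Helper13AdeqD
import Groth.Agent.Lib.R2H4AdeqCoker
import Groth.Agent.Lib.R2H4AdeqSplitA
import Groth.Agent.Lib.R2H4AdeqAbelian

/-!
# Splitting of extensions of linearly adequate functors by `underline M`, part B (helper4, round 2)

* `exists_section`: `0 → underline M → G → L → 0` with `L = ker(underline(P → P'))`, `P, P'` finite free, has a section.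
* `splitting_and_adequate`: the sequence splits and `G` is adequate.
-/

set_option autoImplicit false
universe u
open CategoryTheory Limits TensorProduct Opposite
open Adeq

namespace Groth.Agent.Lib.R2H4.AdeqSplit
open Groth.Agent.Helper13Adeq Groth.Agent.Helper13Adeq.Univ Groth.Agent.Lib.R2H4.AdeqCoker

section Section1
open Module Polynomial
variable {A : Type u} [CommRing A]

/-- data of a universal homogeneous lift gives a section (set-theoretic part). -/
theorem exists_section_aux [Nontrivial A] (G L : MVF A) (M P P' : ModuleCat.{u+1} A)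
    [Module.Finite A P] [Module.Free A P] [Module.Finite A P'] [Module.Free A P'] (φ₀ : P ⟶ P')
    (i : (underline A).obj M ⟶ G) (g : G ⟶ L) (j : L ⟶ (underline A).obj P)
    (hi : ∀ B : Alg A, Function.Injective (i.app (pt B)))
    (hig : ∀ B : Alg A, Function.Exact (i.app (pt B)) (g.app (pt B)))
    (hg : ∀ B : Alg A, Function.Surjective (g.app (pt B)))
    (hj : ∀ B : Alg A, Function.Injective (j.app (pt B)))
    (hjφ : ∀ B : Alg A, Function.Exact (j.app (pt B)) (((underline A).map φ₀).app (pt B))) :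
    ∃ s : ∀ B : Alg A, L.obj (pt B) → G.obj (pt B),
      (∀ (B : Alg A) (ξ : L.obj (pt B)), g.app (pt B) (s B ξ) = ξ) ∧
      (∀ {B B' : Alg A} (h : B ⟶ B') (ξ : L.obj (pt B)), s B' (mapEl L h ξ) = mapEl G h (s B ξ)) ∧
      (∀ (B : Alg A) (l : B) (ξ : L.obj (pt B)), s B (l • ξ) = l • s B ξ) := by
  classical
  let n := Module.finrank A P
  let m := Module.finrank A P'
  let eP : Basis (Fin n) A P := Module.finBasis A P
  let eP' : Basis (Fin m) A P' := Module.finBasis A P'
  let a : Fin m → Fin n → A := fun i j => eP'.repr (φ₀.hom (eP j)) i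
  let R : Alg A := algOf A (RU a)
  let T : Alg A := algOf A (Polynomial (RU a))
  let ξu : (RU a) ⊗[A] P := ∑ j, xb a j ⊗ₜ[A] eP j
  have hξu : ((underline A).map φ₀).app (pt R) ξu = 0 := by
    change φ₀.hom.baseChange (RU a) ξu = 0
    rw [baseChange_sum_basis eP eP']
    refine Finset.sum_eq_zero (fun i _ => ?_)
    rw [rel a i, TensorProduct.zero_tmul]
  obtain ⟨ηu, hηu⟩ := (hjφ R ξu).1 hξu
  have jnat : ∀ {B B' : Alg A} (f : B ⟶ B') (η : L.obj (pt B)),
      j.app (pt B') (mapEl L f η) = (f.hom.toLinearMap.rTensor P) (j.app (pt B) η) :=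
    fun f η => app_mapEl j f η
  let fσ : R ⟶ T := CommAlgCat.ofHom (sigma a)
  let fC : R ⟶ T := CommAlgCat.ofHom (Polynomial.CAlgHom (R := A) (A := RU a))
  have claimL : mapEl L fσ ηu = ((Polynomial.X : Polynomial (RU a)) : T) • mapEl L fC ηu := by
    apply hj T
    rw [app_smul, jnat, jnat, hηu]
    change (sigma a).toLinearMap.rTensor P ξu = (Polynomial.X : Polynomial (RU a)) •
      ((Polynomial.CAlgHom (R := A) (A := RU a)).toLinearMap.rTensor P ξu)
    simp only [ξu, map_sum, Finset.smul_sum, LinearMap.rTensor_tmul, TensorProduct.smul_tmul']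
    refine Finset.sum_congr rfl (fun j _ => ?_)
    congr 1
    change sigma a (xb a j) = _
    rw [sigma, classify_xb]
    rfl
  -- the lift and its homogenization
  obtain ⟨θ₀, hθ₀⟩ := hg R ηu
  have hker : g.app (pt T) (mapEl G fσ θ₀ -
      ((Polynomial.X : Polynomial (RU a)) : T) • mapEl G fC θ₀) = 0 := by
    rw [app_sub, app_smul, app_mapEl, app_mapEl, hθ₀, claimL, sub_self]
  obtain ⟨ρ₀, hρ₀⟩ := (hig T _).1 hker
  obtain ⟨μ, hμ⟩ := exists_homogeneous a G M i hi θ₀ ρ₀ hρ₀
  set θ₁ : G.obj (pt R) := θ₀ - i.app (pt R) μ with hθ₁def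
  have hθ₁ : g.app (pt R) θ₁ = ηu := by
    rw [hθ₁def, app_sub, hθ₀, (hig R _).2 ⟨μ, rfl⟩, sub_zero]
  have hθ₁h : mapEl G fσ θ₁ = ((Polynomial.X : Polynomial (RU a)) : T) • mapEl G fC θ₁ := hμ
  -- classification
  have hcl : ∀ (B : Alg A) (ξ : L.obj (pt B)), ∃ f : R ⟶ B, mapEl L f ηu = ξ := by
    intro B ξ
    obtain ⟨b, hb⟩ := exists_coords eP B (j.app (pt B) ξ)
    have h0 : ((underline A).map φ₀).app (pt B) (j.app (pt B) ξ) = 0 := (hjφ B _).2 ⟨ξ, rfl⟩
    have hrel : ∀ i, ∑ j, a i j • b j = 0 := by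
      apply coords_eq_zero eP' B
      rw [← baseChange_sum_basis eP eP' B φ₀.hom b, ← hb]
      exact h0
    refine ⟨CommAlgCat.ofHom (classify a b hrel), ?_⟩
    apply hj B
    rw [jnat, hηu, hb]
    simp only [ξu, map_sum, LinearMap.rTensor_tmul]
    refine Finset.sum_congr rfl (fun j _ => ?_)
    congr 1
    exact classify_xb a b hrel j
  have huniq : ∀ (B : Alg A) (f₁ f₂ : R ⟶ B), mapEl L f₁ ηu = mapEl L f₂ ηu → f₁ = f₂ := by
    intro B f₁ f₂ h
    have h1 := congrArg (j.app (pt B)) h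
    rw [jnat, jnat, hηu] at h1
    simp only [ξu, map_sum, LinearMap.rTensor_tmul] at h1
    have h2 : ∑ j, (f₁.hom (xb a j) - f₂.hom (xb a j)) ⊗ₜ[A] eP j = 0 := by
      simp only [TensorProduct.sub_tmul, Finset.sum_sub_distrib]
      exact sub_eq_zero.2 h1
    have h3 := coords_eq_zero eP B _ h2
    apply CommAlgCat.hom_ext
    apply RU_algHom_ext
    intro j
    exact sub_eq_zero.1 (h3 j)
  choose cl hclη using hcl
  refine ⟨fun B ξ => mapEl G (cl B ξ) θ₁, fun B ξ => ?_, fun {B B'} h ξ => ?_, fun B l ξ => ?_⟩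
  · rw [app_mapEl, hθ₁, hclη]
  · have e : cl B' (mapEl L h ξ) = cl B ξ ≫ h := by
      apply huniq
      rw [hclη, mapEl_comp, hclη]
    change mapEl G (cl B' (mapEl L h ξ)) θ₁ = mapEl G h (mapEl G (cl B ξ) θ₁)
    rw [e, mapEl_comp]
  · let E : T ⟶ B := CommAlgCat.ofHom (aevalTower (cl B ξ).hom l)
    have hEC : fC ≫ E = cl B ξ := by
      apply CommAlgCat.hom_ext
      exact aevalTower_comp_CAlgHom (cl B ξ).hom l
    have hEX : E.hom (Polynomial.X : Polynomial (RU a)) = l := aevalTower_X _ _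
    have e : cl B (l • ξ) = fσ ≫ E := by
      apply huniq
      rw [hclη, mapEl_comp, claimL, mapEl_smul, ← mapEl_comp, hEC, hclη, hEX]
    change mapEl G (cl B (l • ξ)) θ₁ = l • mapEl G (cl B ξ) θ₁
    rw [e, mapEl_comp, hθ₁h, mapEl_smul, ← mapEl_comp, hEC, hEX]

end Section1

section Section2
open Module
variable {A : Type u} [CommRing A]

theorem bc_fst_prodMap {P P' : Type (u+1)} [AddCommGroup P] [Module A P] [AddCommGroup P']
    [Module A P'] (φ : P →ₗ[A] P') (B : Type u) [CommRing B] [Algebra A B] (y : B ⊗[A] (P × P)) :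
    ((LinearMap.fst A P' P').baseChange B) (((φ.prodMap φ).baseChange B) y) =
      (φ.baseChange B) (((LinearMap.fst A P P).baseChange B) y) := by
  rw [bc_comp, bc_comp]
  rfl

theorem bc_snd_prodMap {P P' : Type (u+1)} [AddCommGroup P] [Module A P] [AddCommGroup P']
    [Module A P'] (φ : P →ₗ[A] P') (B : Type u) [CommRing B] [Algebra A B] (y : B ⊗[A] (P × P)) :
    ((LinearMap.snd A P' P').baseChange B) (((φ.prodMap φ).baseChange B) y) =
      (φ.baseChange B) (((LinearMap.snd A P P).baseChange B) y) := by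
  rw [bc_comp, bc_comp]
  rfl

theorem bc_prodMap_inl {P P' : Type (u+1)} [AddCommGroup P] [Module A P] [AddCommGroup P']
    [Module A P'] (φ : P →ₗ[A] P') (B : Type u) [CommRing B] [Algebra A B] (z : B ⊗[A] P) :
    ((φ.prodMap φ).baseChange B) (((LinearMap.inl A P P).baseChange B) z) =
      ((LinearMap.inl A P' P').baseChange B) ((φ.baseChange B) z) := by
  rw [bc_comp, bc_comp]
  congr 2
  ext x <;> simp

theorem bc_prodMap_inr {P P' : Type (u+1)} [AddCommGroup P] [Module A P] [AddCommGroup P']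
    [Module A P'] (φ : P →ₗ[A] P') (B : Type u) [CommRing B] [Algebra A B] (z : B ⊗[A] P) :
    ((φ.prodMap φ).baseChange B) (((LinearMap.inr A P P).baseChange B) z) =
      ((LinearMap.inr A P' P').baseChange B) ((φ.baseChange B) z) := by
  rw [bc_comp, bc_comp]
  congr 2
  ext x <;> simp

theorem bc_fst_inl {P : Type (u+1)} [AddCommGroup P] [Module A P]
    (B : Type u) [CommRing B] [Algebra A B] (z : B ⊗[A] P) :
    ((LinearMap.fst A P P).baseChange B) (((LinearMap.inl A P P).baseChange B) z) = z := by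
  rw [bc_comp, LinearMap.fst_comp_inl, LinearMap.baseChange_id]; rfl

theorem bc_snd_inl {P : Type (u+1)} [AddCommGroup P] [Module A P]
    (B : Type u) [CommRing B] [Algebra A B] (z : B ⊗[A] P) :
    ((LinearMap.snd A P P).baseChange B) (((LinearMap.inl A P P).baseChange B) z) = 0 := by
  rw [bc_comp, LinearMap.snd_comp_inl, LinearMap.baseChange_zero]; rfl

theorem bc_fst_inr {P : Type (u+1)} [AddCommGroup P] [Module A P]
    (B : Type u) [CommRing B] [Algebra A B] (z : B ⊗[A] P) :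
    ((LinearMap.fst A P P).baseChange B) (((LinearMap.inr A P P).baseChange B) z) = 0 := by
  rw [bc_comp, LinearMap.fst_comp_inr, LinearMap.baseChange_zero]; rfl

theorem bc_snd_inr {P : Type (u+1)} [AddCommGroup P] [Module A P]
    (B : Type u) [CommRing B] [Algebra A B] (z : B ⊗[A] P) :
    ((LinearMap.snd A P P).baseChange B) (((LinearMap.inr A P P).baseChange B) z) = z := by
  rw [bc_comp, LinearMap.snd_comp_inr, LinearMap.baseChange_id]; rfl

theorem rTensor_bc_comm {P Q : Type (u+1)} [AddCommGroup P] [Module A P] [AddCommGroup Q]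
    [Module A Q] (ψ : P →ₗ[A] Q) {B B' : Alg A} (f : B ⟶ B') (y : B ⊗[A] P) :
    (ψ.baseChange B') ((f.hom.toLinearMap.rTensor P) y) =
      (f.hom.toLinearMap.rTensor Q) ((ψ.baseChange B) y) := by
  induction y using TensorProduct.induction_on with
  | zero => simp
  | tmul b p => simp
  | add x y hx hy => simp only [map_add, hx, hy]

end Section2

section Section3
open Module
variable {A : Type u} [CommRing A]

theorem mapEl_sub' (F : MVF A) {B B' : Alg A} (f : B ⟶ B') (x y : F.obj (pt B)) :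
    mapEl F f (x - y) = mapEl F f x - mapEl F f y :=
  map_sub (F.map (ptHom f)).hom x y

/-- an extension of a linearly adequate functor by `underline M` has a section. -/
theorem exists_section (G L : MVF A) (M P P' : ModuleCat.{u+1} A)
    [Module.Finite A P] [Module.Free A P] [Module.Finite A P'] [Module.Free A P'] (φ₀ : P ⟶ P')
    (i : (underline A).obj M ⟶ G) (g : G ⟶ L) (j : L ⟶ (underline A).obj P)
    (hi : ∀ B : Alg A, Function.Injective (i.app (pt B)))
    (hig : ∀ B : Alg A, Function.Exact (i.app (pt B)) (g.app (pt B)))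
    (hg : ∀ B : Alg A, Function.Surjective (g.app (pt B)))
    (hj : ∀ B : Alg A, Function.Injective (j.app (pt B)))
    (hjφ : ∀ B : Alg A, Function.Exact (j.app (pt B)) (((underline A).map φ₀).app (pt B))) :
    ∃ s : L ⟶ G, s ≫ g = 𝟙 L := by
  classical
  rcases subsingleton_or_nontrivial A with hA | hA
  · refine ⟨0, ?_⟩
    ext X x
    have : Subsingleton (L.obj X) := by
      have : Subsingleton X.unop.unop := by
        refine ⟨fun a b => ?_⟩
        rw [← one_smul A a, ← one_smul A b, Subsingleton.elim (1 : A) 0, zero_smul, zero_smul]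
      exact Module.subsingleton X.unop.unop _
    exact Subsingleton.elim _ _
  obtain ⟨s, hs1, hs2, hs3⟩ := exists_section_aux G L M P P' φ₀ i g j hi hig hg hj hjφ
  have hs0 : ∀ B : Alg A, s B 0 = 0 := fun B => by
    have := hs3 B 0 0
    rw [zero_smul, zero_smul] at this
    exact this
  have jnat : ∀ {B B' : Alg A} (f : B ⟶ B') (η : L.obj (pt B)),
      j.app (pt B') (mapEl L f η) = (f.hom.toLinearMap.rTensor P) (j.app (pt B) η) :=
    fun f η => app_mapEl j f η
  have inat : ∀ {B B' : Alg A} (f : B ⟶ B') (c : B ⊗[A] M),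
      i.app (pt B') ((f.hom.toLinearMap.rTensor M) c) = mapEl G f (i.app (pt B) c) :=
    fun f c => app_mapEl i f c
  -- the defect
  let δ : ∀ B : Alg A, L.obj (pt B) → L.obj (pt B) → G.obj (pt B) :=
    fun B ξ' ξ'' => s B (ξ' + ξ'') - s B ξ' - s B ξ''
  have hδg : ∀ (B : Alg A) (ξ' ξ'' : L.obj (pt B)), g.app (pt B) (δ B ξ' ξ'') = 0 := by
    intro B ξ' ξ''
    change g.app (pt B) (s B (ξ' + ξ'') - s B ξ' - s B ξ'') = 0
    rw [app_sub, app_sub, hs1, hs1, hs1]
    abel
  have hδnat : ∀ {B B' : Alg A} (f : B ⟶ B') (ξ' ξ'' : L.obj (pt B)),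
      δ B' (mapEl L f ξ') (mapEl L f ξ'') = mapEl G f (δ B ξ' ξ'') := by
    intro B B' f ξ' ξ''
    change s B' (mapEl L f ξ' + mapEl L f ξ'') - s B' (mapEl L f ξ') - s B' (mapEl L f ξ'') =
      mapEl G f (s B (ξ' + ξ'') - s B ξ' - s B ξ'')
    rw [← mapEl_add, hs2, hs2, hs2, mapEl_sub', mapEl_sub']
  have hδhom : ∀ (B : Alg A) (l : B) (ξ' ξ'' : L.obj (pt B)),
      δ B (l • ξ') (l • ξ'') = l • δ B ξ' ξ'' := by
    intro B l ξ' ξ''
    change s B (l • ξ' + l • ξ'') - s B (l • ξ') - s B (l • ξ'') =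
      l • (s B (ξ' + ξ'') - s B ξ' - s B ξ'')
    rw [← smul_add, hs3, hs3, hs3, smul_sub, smul_sub]
  have hδ0l : ∀ (B : Alg A) (ξ' : L.obj (pt B)), δ B ξ' 0 = 0 := by
    intro B ξ'
    change s B (ξ' + 0) - s B ξ' - s B 0 = 0
    rw [add_zero, hs0, sub_self, sub_zero]
  have hδ0r : ∀ (B : Alg A) (ξ'' : L.obj (pt B)), δ B 0 ξ'' = 0 := by
    intro B ξ''
    change s B (0 + ξ'') - s B 0 - s B ξ'' = 0
    rw [zero_add, hs0, sub_zero, sub_self]
  -- the pair functor
  let P₂ : ModuleCat.{u+1} A := ModuleCat.of A (P × P)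
  let P₂' : ModuleCat.{u+1} A := ModuleCat.of A (P' × P')
  let φ₂ : P₂ ⟶ P₂' := ModuleCat.ofHom (φ₀.hom.prodMap φ₀.hom)
  let jinv : ∀ B : Alg A, B ⊗[A] P → L.obj (pt B) := fun B => Function.invFun (j.app (pt B))
  have hjinv : ∀ (B : Alg A) (ξ : L.obj (pt B)), jinv B (j.app (pt B) ξ) = ξ :=
    fun B ξ => Function.leftInverse_invFun (hj B) ξ
  let iinv : ∀ B : Alg A, G.obj (pt B) → B ⊗[A] M := fun B => Function.invFun (i.app (pt B))
  have hiinv : ∀ (B : Alg A) (c : B ⊗[A] M), iinv B (i.app (pt B) c) = c :=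
    fun B c => Function.leftInverse_invFun (hi B) c
  let t : ∀ B : Alg A, B ⊗[A] P₂ → B ⊗[A] M := fun B y =>
    iinv B (δ B (jinv B (((LinearMap.fst A P P).baseChange B) y))
      (jinv B (((LinearMap.snd A P P).baseChange B) y)))
  have hkerφ : ∀ (B : Alg A) (y : B ⊗[A] P₂), (φ₂.hom.baseChange B) y = 0 →
      ∃ ξ' ξ'' : L.obj (pt B), j.app (pt B) ξ' = ((LinearMap.fst A P P).baseChange B) y ∧
        j.app (pt B) ξ'' = ((LinearMap.snd A P P).baseChange B) y := by
    intro B y hy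
    have h1 : (φ₀.hom.baseChange B) (((LinearMap.fst A P P).baseChange B) y) = 0 := by
      rw [← bc_fst_prodMap]
      exact (congrArg _ hy).trans (map_zero _)
    have h2 : (φ₀.hom.baseChange B) (((LinearMap.snd A P P).baseChange B) y) = 0 := by
      rw [← bc_snd_prodMap]
      exact (congrArg _ hy).trans (map_zero _)
    obtain ⟨ξ', h'⟩ := (hjφ B _).1 h1
    obtain ⟨ξ'', h''⟩ := (hjφ B _).1 h2
    exact ⟨ξ', ξ'', h', h''⟩
  have ht : ∀ (B : Alg A) (ξ' ξ'' : L.obj (pt B)) (y : B ⊗[A] P₂),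
      j.app (pt B) ξ' = ((LinearMap.fst A P P).baseChange B) y →
      j.app (pt B) ξ'' = ((LinearMap.snd A P P).baseChange B) y →
      i.app (pt B) (t B y) = δ B ξ' ξ'' := by
    intro B ξ' ξ'' y h' h''
    change i.app (pt B) (iinv B (δ B (jinv B (((LinearMap.fst A P P).baseChange B) y))
      (jinv B (((LinearMap.snd A P P).baseChange B) y)))) = _
    rw [← h', ← h'', hjinv, hjinv]
    obtain ⟨c, hc⟩ := (hig B _).1 (hδg B ξ' ξ'')
    rw [← hc, hiinv]
  have hnat : ∀ {B B' : Alg A} (f : B ⟶ B') (y : B ⊗[A] P₂), (φ₂.hom.baseChange B) y = 0 →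
      t B' ((f.hom.toLinearMap.rTensor P₂) y) = (f.hom.toLinearMap.rTensor M) (t B y) := by
    intro B B' f y hy
    obtain ⟨ξ', ξ'', h', h''⟩ := hkerφ B y hy
    apply hi B'
    have e1 : j.app (pt B') (mapEl L f ξ') =
        ((LinearMap.fst A P P).baseChange B') ((f.hom.toLinearMap.rTensor P₂) y) := by
      rw [jnat, h']
      exact (rTensor_bc_comm (LinearMap.fst A P P) f y).symm
    have e2 : j.app (pt B') (mapEl L f ξ'') =
        ((LinearMap.snd A P P).baseChange B') ((f.hom.toLinearMap.rTensor P₂) y) := by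
      rw [jnat, h'']
      exact (rTensor_bc_comm (LinearMap.snd A P P) f y).symm
    rw [ht B' _ _ _ e1 e2, hδnat, inat, ht B ξ' ξ'' y h' h'']
  have hhom : ∀ (B : Alg A) (l : B) (y : B ⊗[A] P₂), (φ₂.hom.baseChange B) y = 0 →
      t B (l • y) = l • t B y := by
    intro B l y hy
    obtain ⟨ξ', ξ'', h', h''⟩ := hkerφ B y hy
    apply hi B
    have e1 : j.app (pt B) (l • ξ') = ((LinearMap.fst A P P).baseChange B) (l • y) := by
      rw [app_smul, h']
      exact (map_smul ((LinearMap.fst A P P).baseChange B) l y).symm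
    have e2 : j.app (pt B) (l • ξ'') = ((LinearMap.snd A P P).baseChange B) (l • y) := by
      rw [app_smul, h'']
      exact (map_smul ((LinearMap.snd A P P).baseChange B) l y).symm
    rw [ht B _ _ _ e1 e2, hδhom]
    exact ((app_smul i B l (t B y)).trans (congrArg (l • ·) (ht B ξ' ξ'' y h' h''))).symm
  obtain ⟨g₂, hg₂⟩ := exists_linear_of_homogeneous P₂ P₂' M φ₂ t hnat hhom
  have hadd : ∀ (B : Alg A) (ξ' ξ'' : L.obj (pt B)), s B (ξ' + ξ'') = s B ξ' + s B ξ'' := by
    intro B ξ' ξ''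
    let y₁ : B ⊗[A] P₂ := ((LinearMap.inl A P P).baseChange B) (j.app (pt B) ξ')
    let y₂ : B ⊗[A] P₂ := ((LinearMap.inr A P P).baseChange B) (j.app (pt B) ξ'')
    have hjξ' : (φ₀.hom.baseChange B) (j.app (pt B) ξ') = 0 := (hjφ B _).2 ⟨ξ', rfl⟩
    have hjξ'' : (φ₀.hom.baseChange B) (j.app (pt B) ξ'') = 0 := (hjφ B _).2 ⟨ξ'', rfl⟩
    have hy₁ : (φ₂.hom.baseChange B) y₁ = 0 := by
      change ((φ₀.hom.prodMap φ₀.hom).baseChange B) _ = 0
      rw [bc_prodMap_inl, hjξ', map_zero]
    have hy₂ : (φ₂.hom.baseChange B) y₂ = 0 := by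
      change ((φ₀.hom.prodMap φ₀.hom).baseChange B) _ = 0
      rw [bc_prodMap_inr, hjξ'', map_zero]
    have hy : (φ₂.hom.baseChange B) (y₁ + y₂) = 0 := by
      rw [map_add, hy₁, hy₂, add_zero]
    have j0 : j.app (pt B) 0 = 0 := app_zero j B
    have i0 : i.app (pt B) 0 = 0 := app_zero i B
    have ht₁ : t B y₁ = 0 := by
      apply hi B
      exact (ht B ξ' 0 y₁ (bc_fst_inl B _).symm (j0.trans (bc_snd_inl B _).symm)).trans
        ((hδ0l B ξ').trans i0.symm)
    have ht₂ : t B y₂ = 0 := by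
      apply hi B
      exact (ht B 0 ξ'' y₂ (j0.trans (bc_fst_inr B _).symm) (bc_snd_inr B _).symm).trans
        ((hδ0r B ξ'').trans i0.symm)
    have ht₁₂ : t B (y₁ + y₂) = 0 := by
      rw [hg₂ B _ hy, map_add, ← hg₂ B _ hy₁, ← hg₂ B _ hy₂, ht₁, ht₂, add_zero]
    have e1 : j.app (pt B) ξ' = ((LinearMap.fst A P P).baseChange B) (y₁ + y₂) := by
      rw [map_add, bc_fst_inl, bc_fst_inr, add_zero]
    have e2 : j.app (pt B) ξ'' = ((LinearMap.snd A P P).baseChange B) (y₁ + y₂) := by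
      rw [map_add, bc_snd_inl, bc_snd_inr, zero_add]
    have hδ := ht B ξ' ξ'' (y₁ + y₂) e1 e2
    have : s B (ξ' + ξ'') - s B ξ' - s B ξ'' = 0 :=
      hδ.symm.trans ((congrArg (i.app (pt B)) ht₁₂).trans i0)
    rw [sub_sub, sub_eq_zero] at this
    exact this
  let sm : L ⟶ G := PresheafOfModules.homMk
    { app := fun X => AddCommGrpCat.ofHom
        (AddMonoidHom.mk' (s X.unop.unop) (hadd X.unop.unop))
      naturality := by
        intro X Y f
        ext x
        exact hs2 f.unop.unop x }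
    (by
      intro X r m
      exact hs3 X.unop.unop r m)
  refine ⟨sm, ?_⟩
  ext X x
  exact hs1 X.unop.unop x

end Section3

section Final
variable {A : Type u} [CommRing A]
open Groth.Agent.Lib.R2H4.AdeqAbelian

/-- a short exact sequence `0 → underline M → G → L → 0` with `L` linearly adequate splits and `G` is
adequate. -/
theorem splitting_and_adequate (S : ShortComplex (MVF A)) (hS : S.ShortExact)
    (M : ModuleCat.{u + 1} A) (e : S.X₁ ≅ (underline A).obj M) (hL : linAdequate A S.X₃) :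
    Nonempty S.Splitting ∧ adequate A S.X₂ := by
  obtain ⟨P, P', φ₀, hP1, hP2, hP3, hP4, ⟨e₃⟩⟩ := hL
  have := hS.mono_f
  have := hS.epi_g
  let i : (underline A).obj M ⟶ S.X₂ := e.inv ≫ S.f
  let j : S.X₃ ⟶ (underline A).obj P := e₃.hom ≫ kernel.ι ((underline A).map φ₀)
  have hi : ∀ B : Alg A, Function.Injective (i.app (pt B)) := fun B =>
    PresheafOfModules.injective_of_mono i (pt B)
  have hg : ∀ B : Alg A, Function.Surjective (S.g.app (pt B)) := fun B =>
    PresheafOfModules.surjective_of_epi S.g (pt B)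
  have hj : ∀ B : Alg A, Function.Injective (j.app (pt B)) := fun B =>
    PresheafOfModules.injective_of_mono j (pt B)
  have hig : ∀ B : Alg A, Function.Exact (i.app (pt B)) (S.g.app (pt B)) := by
    intro B y
    rw [PshMod.exact_app S hS.exact (pt B) y]
    constructor
    · rintro ⟨x, rfl⟩
      refine ⟨e.hom.app (pt B) x, ?_⟩
      change S.f.app (pt B) (e.inv.app (pt B) (e.hom.app (pt B) x)) = _
      rw [PshMod.hom_inv_app_apply]
    · rintro ⟨x, rfl⟩
      exact ⟨e.inv.app (pt B) x, rfl⟩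
  have hjφ : ∀ B : Alg A,
      Function.Exact (j.app (pt B)) (((underline A).map φ₀).app (pt B)) := by
    intro B y
    rw [PshMod.kernel_ι_exact ((underline A).map φ₀) (pt B) y]
    constructor
    · rintro ⟨x, rfl⟩
      refine ⟨e₃.inv.app (pt B) x, ?_⟩
      change (kernel.ι ((underline A).map φ₀)).app (pt B) (e₃.hom.app (pt B) (e₃.inv.app (pt B) x)) = _
      rw [PshMod.inv_hom_app_apply]
    · rintro ⟨x, rfl⟩
      exact ⟨e₃.hom.app (pt B) x, rfl⟩
  obtain ⟨s, hs⟩ := exists_section S.X₂ S.X₃ M P P' φ₀ i S.g j hi hig hg hj hjφ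
  let spl : S.Splitting := ShortComplex.Splitting.ofExactOfSection S hS.exact s hs hS.mono_f
  refine ⟨⟨spl⟩, ?_⟩
  have h1 : adequate A S.X₁ := (adequate A).prop_of_iso e.symm (adequate_underline M)
  have h3 : adequate A S.X₃ :=
    adequate_of_linAdequate ⟨P, P', φ₀, hP1, hP2, hP3, hP4, ⟨e₃⟩⟩
  have hprod : adequate A (S.X₁ ⨯ S.X₃) := (adequate A).prop_prod _ _ h1 h3
  exact (adequate A).prop_of_iso ((biprod.isoProd S.X₁ S.X₃).symm ≪≫ spl.isoBinaryBiproduct.symm)
    hprod

end Final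

end Groth.Agent.Lib.R2H4.AdeqSplit
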