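import Mathlib
import Groth.Prelude.Def_Adeq
import Groth.Agent.Lib.Helper13AdeqA
import Groth.Agent.Lib.Helper13AdeqB
import Groth.Agent.Lib.Helper13AdeqC
import Groth.Agent.Lib.Helper13AdeqD
import Groth.Agent.Lib.R2H4AdeqCoker
import Groth.Agent.Lib.R2H4AdeqColim
import Groth.Agent.Lib.R2H4AdeqSplitA
import Groth.Agent.Lib.R2H4AdeqSplitB
import Groth.Agent.Lib.R2H4AdeqAbelian

/-!
# Extensions of adequate functors are adequate (helper4, round 2)

* `exists_lift`: a map `ψ : L ⟶ H` from a linearly adequate functor lifts along `g : G ⟶ H` when `g` is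
  (pointwise) surjective with kernel `underline M`.
* `adequate_ext_underline`: `0 → underline M → G → H → 0` with `H` adequate ⇒ `G` adequate.
* `adequate_ext`: extensions of adequate functors are adequate.
-/

set_option autoImplicit false
universe u
open CategoryTheory Limits TensorProduct Opposite
open Adeq

namespace Groth.Agent.Lib.R2H4.AdeqExt
open Groth.Agent.Helper13Adeq Groth.Agent.Helper13Adeq.Univ Groth.Agent.Lib.R2H4.AdeqCoker
open Groth.Agent.Lib.R2H4.AdeqSplit Groth.Agent.Lib.R2H4.AdeqColim Groth.Agent.Lib.R2H4.AdeqAbelian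

section Lift1
open Module Polynomial
variable {A : Type u} [CommRing A]

/-- lifting a map from a linearly adequate functor along `G → H` with kernel `underline M` (set-theoretic part). -/
theorem exists_lift_aux [Nontrivial A] (G H L : MVF A) (M P P' : ModuleCat.{u+1} A)
    [Module.Finite A P] [Module.Free A P] [Module.Finite A P'] [Module.Free A P'] (φ₀ : P ⟶ P')
    (i : (underline A).obj M ⟶ G) (g : G ⟶ H) (ψ : L ⟶ H) (j : L ⟶ (underline A).obj P)
    (hi : ∀ B : Alg A, Function.Injective (i.app (pt B)))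
    (hig : ∀ B : Alg A, Function.Exact (i.app (pt B)) (g.app (pt B)))
    (hg : ∀ B : Alg A, Function.Surjective (g.app (pt B)))
    (hj : ∀ B : Alg A, Function.Injective (j.app (pt B)))
    (hjφ : ∀ B : Alg A, Function.Exact (j.app (pt B)) (((underline A).map φ₀).app (pt B))) :
    ∃ s : ∀ B : Alg A, L.obj (pt B) → G.obj (pt B),
      (∀ (B : Alg A) (ξ : L.obj (pt B)), g.app (pt B) (s B ξ) = ψ.app (pt B) ξ) ∧
      (∀ {B B' : Alg A} (h : B ⟶ B') (ξ : L.obj (pt B)), s B' (mapEl L h ξ) = mapEl G h (s B ξ)) ∧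
      (∀ (B : Alg A) (l : B) (ξ : L.obj (pt B)), s B (l • ξ) = l • s B ξ) := by
  classical
  let n := Module.finrank A P
  let m := Module.finrank A P'
  let eP : Basis (Fin n) A P := Module.finBasis A P
  let eP' : Basis (Fin m) A P' := Module.finBasis A P'
  let a : Fin m → Fin n → A := fun i j => eP'.repr (φ₀.hom (eP j)) i
  let R : Alg A := algOf A (RU a)
  let T : Alg A := algOf A (Polynomial (RU a))
  let ξu : (RU a) ⊗[A] P := ∑ j, xb a j ⊗ₜ[A] eP j
  have hξu : ((underline A).map φ₀).app (pt R) ξu = 0 := by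
    change φ₀.hom.baseChange (RU a) ξu = 0
    rw [baseChange_sum_basis eP eP']
    refine Finset.sum_eq_zero (fun i _ => ?_)
    rw [rel a i, TensorProduct.zero_tmul]
  obtain ⟨ηu, hηu⟩ := (hjφ R ξu).1 hξu
  have jnat : ∀ {B B' : Alg A} (f : B ⟶ B') (η : L.obj (pt B)),
      j.app (pt B') (mapEl L f η) = (f.hom.toLinearMap.rTensor P) (j.app (pt B) η) :=
    fun f η => app_mapEl j f η
  let fσ : R ⟶ T := CommAlgCat.ofHom (sigma a)
  let fC : R ⟶ T := CommAlgCat.ofHom (Polynomial.CAlgHom (R := A) (A := RU a))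
  have claimL : mapEl L fσ ηu = ((Polynomial.X : Polynomial (RU a)) : T) • mapEl L fC ηu := by
    apply hj T
    rw [app_smul, jnat, jnat, hηu]
    change (sigma a).toLinearMap.rTensor P ξu = (Polynomial.X : Polynomial (RU a)) •
      ((Polynomial.CAlgHom (R := A) (A := RU a)).toLinearMap.rTensor P ξu)
    simp only [ξu, map_sum, Finset.smul_sum, LinearMap.rTensor_tmul, TensorProduct.smul_tmul']
    refine Finset.sum_congr rfl (fun j _ => ?_)
    congr 1
    change sigma a (xb a j) = _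
    rw [sigma, classify_xb]
    rfl
  -- the lift and its homogenization
  obtain ⟨θ₀, hθ₀⟩ := hg R (ψ.app (pt R) ηu)
  have hker : g.app (pt T) (mapEl G fσ θ₀ -
      ((Polynomial.X : Polynomial (RU a)) : T) • mapEl G fC θ₀) = 0 := by
    rw [app_sub, app_smul, app_mapEl, app_mapEl, hθ₀, ← app_mapEl ψ, ← app_mapEl ψ, claimL,
      app_smul ψ, sub_self]
  obtain ⟨ρ₀, hρ₀⟩ := (hig T _).1 hker
  obtain ⟨μ, hμ⟩ := exists_homogeneous a G M i hi θ₀ ρ₀ hρ₀
  set θ₁ : G.obj (pt R) := θ₀ - i.app (pt R) μ with hθ₁def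
  have hθ₁ : g.app (pt R) θ₁ = ψ.app (pt R) ηu := by
    rw [hθ₁def, app_sub, hθ₀, (hig R _).2 ⟨μ, rfl⟩, sub_zero]
  have hθ₁h : mapEl G fσ θ₁ = ((Polynomial.X : Polynomial (RU a)) : T) • mapEl G fC θ₁ := hμ
  -- classification
  have hcl : ∀ (B : Alg A) (ξ : L.obj (pt B)), ∃ f : R ⟶ B, mapEl L f ηu = ξ := by
    intro B ξ
    obtain ⟨b, hb⟩ := exists_coords eP B (j.app (pt B) ξ)
    have h0 : ((underline A).map φ₀).app (pt B) (j.app (pt B) ξ) = 0 := (hjφ B _).2 ⟨ξ, rfl⟩
    have hrel : ∀ i, ∑ j, a i j • b j = 0 := by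
      apply coords_eq_zero eP' B
      rw [← baseChange_sum_basis eP eP' B φ₀.hom b, ← hb]
      exact h0
    refine ⟨CommAlgCat.ofHom (classify a b hrel), ?_⟩
    apply hj B
    rw [jnat, hηu, hb]
    simp only [ξu, map_sum, LinearMap.rTensor_tmul]
    refine Finset.sum_congr rfl (fun j _ => ?_)
    congr 1
    exact classify_xb a b hrel j
  have huniq : ∀ (B : Alg A) (f₁ f₂ : R ⟶ B), mapEl L f₁ ηu = mapEl L f₂ ηu → f₁ = f₂ := by
    intro B f₁ f₂ h
    have h1 := congrArg (j.app (pt B)) h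
    rw [jnat, jnat, hηu] at h1
    simp only [ξu, map_sum, LinearMap.rTensor_tmul] at h1
    have h2 : ∑ j, (f₁.hom (xb a j) - f₂.hom (xb a j)) ⊗ₜ[A] eP j = 0 := by
      simp only [TensorProduct.sub_tmul, Finset.sum_sub_distrib]
      exact sub_eq_zero.2 h1
    have h3 := coords_eq_zero eP B _ h2
    apply CommAlgCat.hom_ext
    apply RU_algHom_ext
    intro j
    exact sub_eq_zero.1 (h3 j)
  choose cl hclη using hcl
  refine ⟨fun B ξ => mapEl G (cl B ξ) θ₁, fun B ξ => ?_, fun {B B'} h ξ => ?_, fun B l ξ => ?_⟩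
  · rw [app_mapEl, hθ₁, ← app_mapEl ψ, hclη]
  · have e : cl B' (mapEl L h ξ) = cl B ξ ≫ h := by
      apply huniq
      rw [hclη, mapEl_comp, hclη]
    change mapEl G (cl B' (mapEl L h ξ)) θ₁ = mapEl G h (mapEl G (cl B ξ) θ₁)
    rw [e, mapEl_comp]
  · let E : T ⟶ B := CommAlgCat.ofHom (aevalTower (cl B ξ).hom l)
    have hEC : fC ≫ E = cl B ξ := by
      apply CommAlgCat.hom_ext
      exact aevalTower_comp_CAlgHom (cl B ξ).hom l
    have hEX : E.hom (Polynomial.X : Polynomial (RU a)) = l := aevalTower_X _ _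
    have e : cl B (l • ξ) = fσ ≫ E := by
      apply huniq
      rw [hclη, mapEl_comp, claimL, mapEl_smul, ← mapEl_comp, hEC, hclη, hEX]
    change mapEl G (cl B (l • ξ)) θ₁ = l • mapEl G (cl B ξ) θ₁
    rw [e, mapEl_comp, hθ₁h, mapEl_smul, ← mapEl_comp, hEC, hEX]

end Lift1

section Lift2
open Module
variable {A : Type u} [CommRing A]

/-- a map from a linearly adequate functor lifts along an epimorphism with kernel `underline M`. -/
theorem exists_lift (G H L : MVF A) (M P P' : ModuleCat.{u+1} A)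
    [Module.Finite A P] [Module.Free A P] [Module.Finite A P'] [Module.Free A P'] (φ₀ : P ⟶ P')
    (i : (underline A).obj M ⟶ G) (g : G ⟶ H) (ψ : L ⟶ H) (j : L ⟶ (underline A).obj P)
    (hi : ∀ B : Alg A, Function.Injective (i.app (pt B)))
    (hig : ∀ B : Alg A, Function.Exact (i.app (pt B)) (g.app (pt B)))
    (hg : ∀ B : Alg A, Function.Surjective (g.app (pt B)))
    (hj : ∀ B : Alg A, Function.Injective (j.app (pt B)))
    (hjφ : ∀ B : Alg A, Function.Exact (j.app (pt B)) (((underline A).map φ₀).app (pt B))) :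
    ∃ s : L ⟶ G, s ≫ g = ψ := by
  classical
  rcases subsingleton_or_nontrivial A with hA | hA
  · refine ⟨0, ?_⟩
    ext X x
    have : Subsingleton (H.obj X) := by
      have : Subsingleton X.unop.unop := by
        refine ⟨fun a b => ?_⟩
        rw [← one_smul A a, ← one_smul A b, Subsingleton.elim (1 : A) 0, zero_smul, zero_smul]
      exact Module.subsingleton X.unop.unop _
    exact Subsingleton.elim _ _
  obtain ⟨s, hs1, hs2, hs3⟩ := exists_lift_aux G H L M P P' φ₀ i g ψ j hi hig hg hj hjφ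
  have hs0 : ∀ B : Alg A, s B 0 = 0 := fun B => by
    have := hs3 B 0 0
    rw [zero_smul, zero_smul] at this
    exact this
  have jnat : ∀ {B B' : Alg A} (f : B ⟶ B') (η : L.obj (pt B)),
      j.app (pt B') (mapEl L f η) = (f.hom.toLinearMap.rTensor P) (j.app (pt B) η) :=
    fun f η => app_mapEl j f η
  have inat : ∀ {B B' : Alg A} (f : B ⟶ B') (c : B ⊗[A] M),
      i.app (pt B') ((f.hom.toLinearMap.rTensor M) c) = mapEl G f (i.app (pt B) c) :=
    fun f c => app_mapEl i f c
  -- the defect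
  let δ : ∀ B : Alg A, L.obj (pt B) → L.obj (pt B) → G.obj (pt B) :=
    fun B ξ' ξ'' => s B (ξ' + ξ'') - s B ξ' - s B ξ''
  have hδg : ∀ (B : Alg A) (ξ' ξ'' : L.obj (pt B)), g.app (pt B) (δ B ξ' ξ'') = 0 := by
    intro B ξ' ξ''
    change g.app (pt B) (s B (ξ' + ξ'') - s B ξ' - s B ξ'') = 0
    rw [app_sub, app_sub, hs1, hs1, hs1, app_add]
    abel
  have hδnat : ∀ {B B' : Alg A} (f : B ⟶ B') (ξ' ξ'' : L.obj (pt B)),
      δ B' (mapEl L f ξ') (mapEl L f ξ'') = mapEl G f (δ B ξ' ξ'') := by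
    intro B B' f ξ' ξ''
    change s B' (mapEl L f ξ' + mapEl L f ξ'') - s B' (mapEl L f ξ') - s B' (mapEl L f ξ'') =
      mapEl G f (s B (ξ' + ξ'') - s B ξ' - s B ξ'')
    rw [← mapEl_add, hs2, hs2, hs2, mapEl_sub', mapEl_sub']
  have hδhom : ∀ (B : Alg A) (l : B) (ξ' ξ'' : L.obj (pt B)),
      δ B (l • ξ') (l • ξ'') = l • δ B ξ' ξ'' := by
    intro B l ξ' ξ''
    change s B (l • ξ' + l • ξ'') - s B (l • ξ') - s B (l • ξ'') =
      l • (s B (ξ' + ξ'') - s B ξ' - s B ξ'')
    rw [← smul_add, hs3, hs3, hs3, smul_sub, smul_sub]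
  have hδ0l : ∀ (B : Alg A) (ξ' : L.obj (pt B)), δ B ξ' 0 = 0 := by
    intro B ξ'
    change s B (ξ' + 0) - s B ξ' - s B 0 = 0
    rw [add_zero, hs0, sub_self, sub_zero]
  have hδ0r : ∀ (B : Alg A) (ξ'' : L.obj (pt B)), δ B 0 ξ'' = 0 := by
    intro B ξ''
    change s B (0 + ξ'') - s B 0 - s B ξ'' = 0
    rw [zero_add, hs0, sub_zero, sub_self]
  -- the pair functor
  let P₂ : ModuleCat.{u+1} A := ModuleCat.of A (P × P)
  let P₂' : ModuleCat.{u+1} A := ModuleCat.of A (P' × P')
  let φ₂ : P₂ ⟶ P₂' := ModuleCat.ofHom (φ₀.hom.prodMap φ₀.hom)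
  let jinv : ∀ B : Alg A, B ⊗[A] P → L.obj (pt B) := fun B => Function.invFun (j.app (pt B))
  have hjinv : ∀ (B : Alg A) (ξ : L.obj (pt B)), jinv B (j.app (pt B) ξ) = ξ :=
    fun B ξ => Function.leftInverse_invFun (hj B) ξ
  let iinv : ∀ B : Alg A, G.obj (pt B) → B ⊗[A] M := fun B => Function.invFun (i.app (pt B))
  have hiinv : ∀ (B : Alg A) (c : B ⊗[A] M), iinv B (i.app (pt B) c) = c :=
    fun B c => Function.leftInverse_invFun (hi B) c
  let t : ∀ B : Alg A, B ⊗[A] P₂ → B ⊗[A] M := fun B y =>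
    iinv B (δ B (jinv B (((LinearMap.fst A P P).baseChange B) y))
      (jinv B (((LinearMap.snd A P P).baseChange B) y)))
  have hkerφ : ∀ (B : Alg A) (y : B ⊗[A] P₂), (φ₂.hom.baseChange B) y = 0 →
      ∃ ξ' ξ'' : L.obj (pt B), j.app (pt B) ξ' = ((LinearMap.fst A P P).baseChange B) y ∧
        j.app (pt B) ξ'' = ((LinearMap.snd A P P).baseChange B) y := by
    intro B y hy
    have h1 : (φ₀.hom.baseChange B) (((LinearMap.fst A P P).baseChange B) y) = 0 := by
      rw [← bc_fst_prodMap]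
      exact (congrArg _ hy).trans (map_zero _)
    have h2 : (φ₀.hom.baseChange B) (((LinearMap.snd A P P).baseChange B) y) = 0 := by
      rw [← bc_snd_prodMap]
      exact (congrArg _ hy).trans (map_zero _)
    obtain ⟨ξ', h'⟩ := (hjφ B _).1 h1
    obtain ⟨ξ'', h''⟩ := (hjφ B _).1 h2
    exact ⟨ξ', ξ'', h', h''⟩
  have ht : ∀ (B : Alg A) (ξ' ξ'' : L.obj (pt B)) (y : B ⊗[A] P₂),
      j.app (pt B) ξ' = ((LinearMap.fst A P P).baseChange B) y →
      j.app (pt B) ξ'' = ((LinearMap.snd A P P).baseChange B) y →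
      i.app (pt B) (t B y) = δ B ξ' ξ'' := by
    intro B ξ' ξ'' y h' h''
    change i.app (pt B) (iinv B (δ B (jinv B (((LinearMap.fst A P P).baseChange B) y))
      (jinv B (((LinearMap.snd A P P).baseChange B) y)))) = _
    rw [← h', ← h'', hjinv, hjinv]
    obtain ⟨c, hc⟩ := (hig B _).1 (hδg B ξ' ξ'')
    rw [← hc, hiinv]
  have hnat : ∀ {B B' : Alg A} (f : B ⟶ B') (y : B ⊗[A] P₂), (φ₂.hom.baseChange B) y = 0 →
      t B' ((f.hom.toLinearMap.rTensor P₂) y) = (f.hom.toLinearMap.rTensor M) (t B y) := by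
    intro B B' f y hy
    obtain ⟨ξ', ξ'', h', h''⟩ := hkerφ B y hy
    apply hi B'
    have e1 : j.app (pt B') (mapEl L f ξ') =
        ((LinearMap.fst A P P).baseChange B') ((f.hom.toLinearMap.rTensor P₂) y) := by
      rw [jnat, h']
      exact (rTensor_bc_comm (LinearMap.fst A P P) f y).symm
    have e2 : j.app (pt B') (mapEl L f ξ'') =
        ((LinearMap.snd A P P).baseChange B') ((f.hom.toLinearMap.rTensor P₂) y) := by
      rw [jnat, h'']
      exact (rTensor_bc_comm (LinearMap.snd A P P) f y).symm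
    rw [ht B' _ _ _ e1 e2, hδnat, inat, ht B ξ' ξ'' y h' h'']
  have hhom : ∀ (B : Alg A) (l : B) (y : B ⊗[A] P₂), (φ₂.hom.baseChange B) y = 0 →
      t B (l • y) = l • t B y := by
    intro B l y hy
    obtain ⟨ξ', ξ'', h', h''⟩ := hkerφ B y hy
    apply hi B
    have e1 : j.app (pt B) (l • ξ') = ((LinearMap.fst A P P).baseChange B) (l • y) := by
      rw [app_smul, h']
      exact (map_smul ((LinearMap.fst A P P).baseChange B) l y).symm
    have e2 : j.app (pt B) (l • ξ'') = ((LinearMap.snd A P P).baseChange B) (l • y) := by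
      rw [app_smul, h'']
      exact (map_smul ((LinearMap.snd A P P).baseChange B) l y).symm
    rw [ht B _ _ _ e1 e2, hδhom]
    exact ((app_smul i B l (t B y)).trans (congrArg (l • ·) (ht B ξ' ξ'' y h' h''))).symm
  obtain ⟨g₂, hg₂⟩ := exists_linear_of_homogeneous P₂ P₂' M φ₂ t hnat hhom
  have hadd : ∀ (B : Alg A) (ξ' ξ'' : L.obj (pt B)), s B (ξ' + ξ'') = s B ξ' + s B ξ'' := by
    intro B ξ' ξ''
    let y₁ : B ⊗[A] P₂ := ((LinearMap.inl A P P).baseChange B) (j.app (pt B) ξ')
    let y₂ : B ⊗[A] P₂ := ((LinearMap.inr A P P).baseChange B) (j.app (pt B) ξ'')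
    have hjξ' : (φ₀.hom.baseChange B) (j.app (pt B) ξ') = 0 := (hjφ B _).2 ⟨ξ', rfl⟩
    have hjξ'' : (φ₀.hom.baseChange B) (j.app (pt B) ξ'') = 0 := (hjφ B _).2 ⟨ξ'', rfl⟩
    have hy₁ : (φ₂.hom.baseChange B) y₁ = 0 := by
      change ((φ₀.hom.prodMap φ₀.hom).baseChange B) _ = 0
      rw [bc_prodMap_inl, hjξ', map_zero]
    have hy₂ : (φ₂.hom.baseChange B) y₂ = 0 := by
      change ((φ₀.hom.prodMap φ₀.hom).baseChange B) _ = 0
      rw [bc_prodMap_inr, hjξ'', map_zero]
    have hy : (φ₂.hom.baseChange B) (y₁ + y₂) = 0 := by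
      rw [map_add, hy₁, hy₂, add_zero]
    have j0 : j.app (pt B) 0 = 0 := app_zero j B
    have i0 : i.app (pt B) 0 = 0 := app_zero i B
    have ht₁ : t B y₁ = 0 := by
      apply hi B
      exact (ht B ξ' 0 y₁ (bc_fst_inl B _).symm (j0.trans (bc_snd_inl B _).symm)).trans
        ((hδ0l B ξ').trans i0.symm)
    have ht₂ : t B y₂ = 0 := by
      apply hi B
      exact (ht B 0 ξ'' y₂ (j0.trans (bc_fst_inr B _).symm) (bc_snd_inr B _).symm).trans
        ((hδ0r B ξ'').trans i0.symm)
    have ht₁₂ : t B (y₁ + y₂) = 0 := by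
      rw [hg₂ B _ hy, map_add, ← hg₂ B _ hy₁, ← hg₂ B _ hy₂, ht₁, ht₂, add_zero]
    have e1 : j.app (pt B) ξ' = ((LinearMap.fst A P P).baseChange B) (y₁ + y₂) := by
      rw [map_add, bc_fst_inl, bc_fst_inr, add_zero]
    have e2 : j.app (pt B) ξ'' = ((LinearMap.snd A P P).baseChange B) (y₁ + y₂) := by
      rw [map_add, bc_snd_inl, bc_snd_inr, zero_add]
    have hδ := ht B ξ' ξ'' (y₁ + y₂) e1 e2
    have : s B (ξ' + ξ'') - s B ξ' - s B ξ'' = 0 :=
      hδ.symm.trans ((congrArg (i.app (pt B)) ht₁₂).trans i0)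
    rw [sub_sub, sub_eq_zero] at this
    exact this
  let sm : L ⟶ G := PresheafOfModules.homMk
    { app := fun X => AddCommGrpCat.ofHom
        (AddMonoidHom.mk' (s X.unop.unop) (hadd X.unop.unop))
      naturality := by
        intro X Y f
        ext x
        exact hs2 f.unop.unop x }
    (by
      intro X r m
      exact hs3 X.unop.unop r m)
  refine ⟨sm, ?_⟩
  ext X x
  exact hs1 X.unop.unop x

end Lift2

section Biprod
variable {A : Type u} [CommRing A] (X Y : MVF A) (B : Alg A)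

theorem bp_inl_fst (x : X.obj (pt B)) :
    (biprod.fst : X ⊞ Y ⟶ X).app (pt B) ((biprod.inl : X ⟶ X ⊞ Y).app (pt B) x) = x := by
  rw [← PshMod.comp_app_apply, biprod.inl_fst]; rfl

theorem bp_inl_snd (x : X.obj (pt B)) :
    (biprod.snd : X ⊞ Y ⟶ Y).app (pt B) ((biprod.inl : X ⟶ X ⊞ Y).app (pt B) x) = 0 := by
  rw [← PshMod.comp_app_apply, biprod.inl_snd]; rfl

theorem bp_inr_fst (y : Y.obj (pt B)) :
    (biprod.fst : X ⊞ Y ⟶ X).app (pt B) ((biprod.inr : Y ⟶ X ⊞ Y).app (pt B) y) = 0 := by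
  rw [← PshMod.comp_app_apply, biprod.inr_fst]; rfl

theorem bp_inr_snd (y : Y.obj (pt B)) :
    (biprod.snd : X ⊞ Y ⟶ Y).app (pt B) ((biprod.inr : Y ⟶ X ⊞ Y).app (pt B) y) = y := by
  rw [← PshMod.comp_app_apply, biprod.inr_snd]; rfl

theorem bp_decomp (z : (X ⊞ Y).obj (pt B)) :
    z = (biprod.inl : X ⟶ X ⊞ Y).app (pt B) ((biprod.fst : X ⊞ Y ⟶ X).app (pt B) z) +
      (biprod.inr : Y ⟶ X ⊞ Y).app (pt B) ((biprod.snd : X ⊞ Y ⟶ Y).app (pt B) z) := by
  have h := congrArg (fun t => t.app (pt B) z) (biprod.total (X := X) (Y := Y))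
  exact h.symm

variable {X Y}

theorem bp_lift_fst {W : MVF A} (f : W ⟶ X) (g : W ⟶ Y) (w : W.obj (pt B)) :
    (biprod.fst : X ⊞ Y ⟶ X).app (pt B) ((biprod.lift f g).app (pt B) w) = f.app (pt B) w := by
  rw [← PshMod.comp_app_apply, biprod.lift_fst]

theorem bp_lift_snd {W : MVF A} (f : W ⟶ X) (g : W ⟶ Y) (w : W.obj (pt B)) :
    (biprod.snd : X ⊞ Y ⟶ Y).app (pt B) ((biprod.lift f g).app (pt B) w) = g.app (pt B) w := by
  rw [← PshMod.comp_app_apply, biprod.lift_snd]

theorem bp_desc_inl {W : MVF A} (f : X ⟶ W) (g : Y ⟶ W) (x : X.obj (pt B)) :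
    (biprod.desc f g).app (pt B) ((biprod.inl : X ⟶ X ⊞ Y).app (pt B) x) = f.app (pt B) x := by
  rw [← PshMod.comp_app_apply, biprod.inl_desc]

theorem bp_desc_inr {W : MVF A} (f : X ⟶ W) (g : Y ⟶ W) (y : Y.obj (pt B)) :
    (biprod.desc f g).app (pt B) ((biprod.inr : Y ⟶ X ⊞ Y).app (pt B) y) = g.app (pt B) y := by
  rw [← PshMod.comp_app_apply, biprod.inr_desc]

theorem bp_ext (z z' : (X ⊞ Y).obj (pt B))
    (h1 : (biprod.fst : X ⊞ Y ⟶ X).app (pt B) z = (biprod.fst : X ⊞ Y ⟶ X).app (pt B) z')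
    (h2 : (biprod.snd : X ⊞ Y ⟶ Y).app (pt B) z = (biprod.snd : X ⊞ Y ⟶ Y).app (pt B) z') :
    z = z' := by
  rw [bp_decomp X Y B z, bp_decomp X Y B z', h1, h2]

end Biprod

section ExtUnderline
variable {A : Type u} [CommRing A]

theorem adequate_biprod {X Y : MVF A} (hX : adequate A X) (hY : adequate A Y) :
    adequate A (X ⊞ Y) :=
  (adequate A).prop_of_iso (biprod.isoProd X Y).symm ((adequate A).prop_prod _ _ hX hY)

/-- lifting from a linearly adequate functor, bundled form. -/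
theorem exists_lift' (G H L : MVF A) (M : ModuleCat.{u+1} A) (hL : linAdequate A L)
    (i : (underline A).obj M ⟶ G) (g : G ⟶ H) (ψ : L ⟶ H)
    (hi : ∀ B : Alg A, Function.Injective (i.app (pt B)))
    (hig : ∀ B : Alg A, Function.Exact (i.app (pt B)) (g.app (pt B)))
    (hg : ∀ B : Alg A, Function.Surjective (g.app (pt B))) :
    ∃ s : L ⟶ G, s ≫ g = ψ := by
  obtain ⟨P, P', φ₀, hP1, hP2, hP3, hP4, ⟨e₃⟩⟩ := hL
  let j : L ⟶ (underline A).obj P := e₃.hom ≫ kernel.ι ((underline A).map φ₀)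
  have hj : ∀ B : Alg A, Function.Injective (j.app (pt B)) := fun B =>
    PresheafOfModules.injective_of_mono j (pt B)
  have hjφ : ∀ B : Alg A,
      Function.Exact (j.app (pt B)) (((underline A).map φ₀).app (pt B)) := by
    intro B y
    rw [PshMod.kernel_ι_exact ((underline A).map φ₀) (pt B) y]
    constructor
    · rintro ⟨x, rfl⟩
      refine ⟨e₃.inv.app (pt B) x, ?_⟩
      change (kernel.ι ((underline A).map φ₀)).app (pt B)
        (e₃.hom.app (pt B) (e₃.inv.app (pt B) x)) = _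
      rw [PshMod.inv_hom_app_apply]
    · rintro ⟨x, rfl⟩
      exact ⟨e₃.hom.app (pt B) x, rfl⟩
  exact exists_lift G H L M P P' φ₀ i g ψ j hi hig hg hj hjφ

/-- `0 → underline M → G → H → 0` with `H` adequate implies `G` adequate. -/
theorem adequate_ext_underline (G H : MVF A) (M : ModuleCat.{u+1} A)
    (i : (underline A).obj M ⟶ G) (g : G ⟶ H)
    (hi : ∀ B : Alg A, Function.Injective (i.app (pt B)))
    (hig : ∀ B : Alg A, Function.Exact (i.app (pt B)) (g.app (pt B)))
    (hg : ∀ B : Alg A, Function.Surjective (g.app (pt B)))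
    (hH : adequate A H) : adequate A G := by
  obtain ⟨ι, L, hL, c, hc, π, hπ⟩ := exists_epi_cofan_linAdequate H hH
  have hπs : ∀ B : Alg A, Function.Surjective (π.app (pt B)) := fun B =>
    PresheafOfModules.surjective_of_epi π (pt B)
  have hex : ∀ idx : ι, ∃ s : L idx ⟶ G, s ≫ g = c.inj idx ≫ π := fun idx =>
    exists_lift' G H (L idx) M (hL idx) i g (c.inj idx ≫ π) hi hig hg
  choose sI hsI using hex
  let s : c.pt ⟶ G := Cofan.IsColimit.desc hc sI
  have hs : s ≫ g = π := by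
    apply Cofan.IsColimit.hom_ext hc
    intro idx
    rw [← Category.assoc, Cofan.IsColimit.fac, hsI]
  have hsa : ∀ (B : Alg A) (l : c.pt.obj (pt B)),
      g.app (pt B) (s.app (pt B) l) = π.app (pt B) l := by
    intro B l
    rw [← PshMod.comp_app_apply, hs]
  have hcpt : adequate A c.pt :=
    (adequate A).prop_of_iso (IsColimit.coconePointUniqueUpToIso (coproductIsCoproduct L) hc)
      (adequate_sigma L (fun idx => adequate_of_linAdequate (hL idx)))
  have hK : adequate A (kernel π) := adequate_kernel π hcpt hH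
  -- categorical exactness
  have wig : i ≫ g = 0 := by
    ext X x
    exact (hig X.unop.unop _).2 ⟨x, rfl⟩
  let S : ShortComplex (MVF A) := ShortComplex.mk i g wig
  have hSex : S.Exact := PshMod.exact_of_app S (fun X => hig X.unop.unop)
  have hmono : Mono S.f := PresheafOfModules.mono_of_injective (fun X => hi X.unop.unop)
  have wk : (kernel.ι π ≫ s) ≫ S.g = 0 := by
    change (kernel.ι π ≫ s) ≫ g = 0
    rw [Category.assoc, hs, kernel.condition]
  let uK : kernel π ⟶ (underline A).obj M := hSex.lift (kernel.ι π ≫ s) wk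
  have huK : uK ≫ i = kernel.ι π ≫ s := hSex.lift_f (kernel.ι π ≫ s) wk
  have huKa : ∀ (B : Alg A) (k : (kernel π).obj (pt B)),
      i.app (pt B) (uK.app (pt B) k) = s.app (pt B) ((kernel.ι π).app (pt B) k) := by
    intro B k
    rw [← PshMod.comp_app_apply, huK, PshMod.comp_app_apply]
  let Z : MVF A := (underline A).obj M ⊞ c.pt
  have hZ : adequate A Z := adequate_biprod (adequate_underline M) hcpt
  let κ : kernel π ⟶ Z := biprod.lift (-uK) (kernel.ι π)
  let Φ : Z ⟶ G := biprod.desc i s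
  have hκΦ : κ ≫ Φ = 0 := by
    change biprod.lift (-uK) (kernel.ι π) ≫ biprod.desc i s = 0
    rw [biprod.lift_desc, Preadditive.neg_comp, huK, neg_add_cancel]
  have hQ : adequate A (cokernel κ) := adequate_cokernel κ hK hZ
  let Φ' : cokernel κ ⟶ G := cokernel.desc κ Φ hκΦ
  have hΦ' : ∀ (B : Alg A) (z : Z.obj (pt B)),
      Φ'.app (pt B) ((cokernel.π κ).app (pt B) z) = Φ.app (pt B) z := by
    intro B z
    rw [← PshMod.comp_app_apply, cokernel.π_desc]
  have hΦz : ∀ (B : Alg A) (z : Z.obj (pt B)), Φ.app (pt B) z =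
      i.app (pt B) ((biprod.fst : Z ⟶ _).app (pt B) z) +
        s.app (pt B) ((biprod.snd : Z ⟶ _).app (pt B) z) := by
    intro B z
    conv_lhs => rw [bp_decomp _ _ B z]
    rw [app_add, bp_desc_inl, bp_desc_inr]
  have hbij : ∀ X, Function.Bijective (Φ'.app X) := by
    intro X
    set B : Alg A := X.unop.unop
    constructor
    · -- injective
      have : Function.Injective (Φ'.app (pt B)).hom := by
        refine (injective_iff_map_eq_zero _).mpr (fun q hq => ?_)
        obtain ⟨z, rfl⟩ := PshMod.cokernel_π_surjective κ (pt B) q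
        have hz : Φ.app (pt B) z = 0 := (hΦ' B z).symm.trans hq
        rw [hΦz] at hz
        set c₀ := (biprod.fst : Z ⟶ _).app (pt B) z with hc₀
        set l := (biprod.snd : Z ⟶ _).app (pt B) z with hl
        have hπl : π.app (pt B) l = 0 := by
          have h1 := congrArg (g.app (pt B)) hz
          rw [app_add, (hig B _).2 ⟨c₀, rfl⟩, zero_add, hsa, app_zero] at h1
          exact h1
        obtain ⟨k, hk⟩ := (PshMod.kernel_ι_exact π (pt B) l).1 hπl
        have hc₀k : c₀ = (-uK).app (pt B) k := by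
          apply hi B
          have h2 : i.app (pt B) c₀ = - s.app (pt B) l := eq_neg_of_add_eq_zero_left hz
          rw [h2, ← hk, ← huKa]
          exact (app_neg i B _).symm
        have hzκ : z = κ.app (pt B) k := by
          apply bp_ext B
          · rw [bp_lift_fst]; exact hc₀k
          · rw [bp_lift_snd]; exact hk.symm
        rw [hzκ, ← PshMod.comp_app_apply, cokernel.condition]
        rfl
      exact this
    · -- surjective
      intro γ
      obtain ⟨l, hl⟩ := hπs B (g.app (pt B) γ)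
      have h1 : g.app (pt B) (γ - s.app (pt B) l) = 0 := by
        rw [app_sub, hsa, hl, sub_self]
      obtain ⟨c₀, hc₀⟩ := (hig B _).1 h1
      refine ⟨(cokernel.π κ).app (pt B)
        ((biprod.inl : _ ⟶ Z).app (pt B) c₀ + (biprod.inr : _ ⟶ Z).app (pt B) l), ?_⟩
      rw [hΦ', app_add, bp_desc_inl, bp_desc_inr, hc₀]
      abel
  have hiso : IsIso Φ' := PshMod.isIso_of_bijective Φ' hbij
  exact (adequate A).prop_of_iso (asIso Φ') hQ

end ExtUnderline

section Ext
variable {A : Type u} [CommRing A]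

/-- extensions of adequate functors are adequate. -/
theorem adequate_ext (S : ShortComplex (MVF A)) (hS : S.ShortExact)
    (h₁ : adequate A S.X₁) (h₃ : adequate A S.X₃) : adequate A S.X₂ := by
  have := hS.mono_f
  have := hS.epi_g
  obtain ⟨M, N, ν, iF, hiF, -⟩ := (adequate_iff S.X₁).mp h₁
  have hf : ∀ B : Alg A, Function.Injective (S.f.app (pt B)) := fun B =>
    PresheafOfModules.injective_of_mono S.f (pt B)
  have hg : ∀ B : Alg A, Function.Surjective (S.g.app (pt B)) := fun B =>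
    PresheafOfModules.surjective_of_epi S.g (pt B)
  have hfg : ∀ B : Alg A, Function.Exact (S.f.app (pt B)) (S.g.app (pt B)) := fun B =>
    PshMod.exact_app S hS.exact (pt B)
  have hC : adequate A (cokernel iF) := adequate_cokernel iF h₁ (adequate_underline M)
  let Z : MVF A := S.X₂ ⊞ (underline A).obj M
  let a : S.X₁ ⟶ Z := biprod.lift S.f (-iF)
  let q : Z ⟶ cokernel a := cokernel.π a
  have hqs : ∀ B : Alg A, Function.Surjective (q.app (pt B)) := fun B =>
    PshMod.cokernel_π_surjective a (pt B)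
  have hqe : ∀ B : Alg A, Function.Exact (a.app (pt B)) (q.app (pt B)) := fun B =>
    PshMod.cokernel_π_exact a (pt B)
  have ha1 : ∀ (B : Alg A) (x : S.X₁.obj (pt B)),
      (biprod.fst : Z ⟶ _).app (pt B) (a.app (pt B) x) = S.f.app (pt B) x := fun B x =>
    bp_lift_fst B _ _ x
  have ha2 : ∀ (B : Alg A) (x : S.X₁.obj (pt B)),
      (biprod.snd : Z ⟶ _).app (pt B) (a.app (pt B) x) = -iF.app (pt B) x := fun B x =>
    (bp_lift_snd B _ _ x).trans rfl
  -- `q z = q z'` iff they differ by `a x`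
  have hqeq : ∀ (B : Alg A) (z z' : Z.obj (pt B)), q.app (pt B) z = q.app (pt B) z' →
      ∃ x : S.X₁.obj (pt B), z - z' = a.app (pt B) x := by
    intro B z z' h
    have h0 : q.app (pt B) (z - z') = 0 := by rw [app_sub, h, sub_self]
    obtain ⟨x, hx⟩ := (hqe B _).1 h0
    exact ⟨x, hx.symm⟩
  have hqa : ∀ (B : Alg A) (x : S.X₁.obj (pt B)), q.app (pt B) (a.app (pt B) x) = 0 :=
    fun B x => (hqe B _).2 ⟨x, rfl⟩
  -- the pushout extension
  let i' : (underline A).obj M ⟶ cokernel a := biprod.inr ≫ q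
  have wg : a ≫ (biprod.fst ≫ S.g) = 0 := by
    change biprod.lift S.f (-iF) ≫ (biprod.fst ≫ S.g) = 0
    rw [← Category.assoc, biprod.lift_fst, S.zero]
  let g' : cokernel a ⟶ S.X₃ := cokernel.desc a (biprod.fst ≫ S.g) wg
  have hg'q : ∀ (B : Alg A) (z : Z.obj (pt B)),
      g'.app (pt B) (q.app (pt B) z) = S.g.app (pt B) ((biprod.fst : Z ⟶ _).app (pt B) z) := by
    intro B z
    rw [← PshMod.comp_app_apply, cokernel.π_desc, PshMod.comp_app_apply]
  have hi' : ∀ B : Alg A, Function.Injective (i'.app (pt B)) := by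
    intro B
    have : Function.Injective (i'.app (pt B)).hom := by
      refine (injective_iff_map_eq_zero _).mpr (fun c hc => ?_)
      have hc' : q.app (pt B) ((biprod.inr : _ ⟶ Z).app (pt B) c) = q.app (pt B) 0 :=
        hc.trans (app_zero q B).symm
      obtain ⟨x, hx⟩ := hqeq B _ _ hc'
      rw [sub_zero] at hx
      have h1 := congrArg ((biprod.fst : Z ⟶ _).app (pt B)) hx
      rw [bp_inr_fst, ha1] at h1
      have hx0 : x = 0 := hf B (h1.symm.trans (app_zero S.f B).symm)
      have h2 := congrArg ((biprod.snd : Z ⟶ _).app (pt B)) hx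
      rw [bp_inr_snd, ha2, hx0, app_zero, neg_zero] at h2
      exact h2
    exact this
  have hi'g' : ∀ B : Alg A, Function.Exact (i'.app (pt B)) (g'.app (pt B)) := by
    intro B y
    constructor
    · intro hy
      obtain ⟨z, rfl⟩ := hqs B y
      rw [hg'q] at hy
      obtain ⟨x, hx⟩ := (hfg B _).1 hy
      refine ⟨(biprod.snd : Z ⟶ _).app (pt B) z + iF.app (pt B) x, ?_⟩
      change q.app (pt B) ((biprod.inr : _ ⟶ Z).app (pt B) _) = _
      have hz : z = a.app (pt B) x +
          (biprod.inr : _ ⟶ Z).app (pt B) ((biprod.snd : Z ⟶ _).app (pt B) z + iF.app (pt B) x) := by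
        apply bp_ext B
        · rw [app_add, ha1, bp_inr_fst, add_zero, hx]
        · rw [app_add, ha2, bp_inr_snd]; abel
      have h3 := (congrArg (q.app (pt B)) hz).trans (app_add q B _ _)
      rw [hqa, zero_add] at h3
      exact h3.symm
    · rintro ⟨c, rfl⟩
      change g'.app (pt B) (q.app (pt B) ((biprod.inr : _ ⟶ Z).app (pt B) c)) = 0
      rw [hg'q, bp_inr_fst, app_zero]
  have hg's : ∀ B : Alg A, Function.Surjective (g'.app (pt B)) := by
    intro B h
    obtain ⟨γ, rfl⟩ := hg B h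
    refine ⟨q.app (pt B) ((biprod.inl : _ ⟶ Z).app (pt B) γ), ?_⟩
    rw [hg'q, bp_inl_fst]
  have hG' : adequate A (cokernel a) :=
    adequate_ext_underline (cokernel a) S.X₃ M i' g' hi' hi'g' hg's h₃
  -- `S.X₂` as a kernel
  have wp : a ≫ (biprod.snd ≫ cokernel.π iF) = 0 := by
    change biprod.lift S.f (-iF) ≫ (biprod.snd ≫ cokernel.π iF) = 0
    rw [← Category.assoc, biprod.lift_snd, Preadditive.neg_comp, cokernel.condition, neg_zero]
  let p : cokernel a ⟶ cokernel iF := cokernel.desc a (biprod.snd ≫ cokernel.π iF) wp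
  have hpq : ∀ (B : Alg A) (z : Z.obj (pt B)), p.app (pt B) (q.app (pt B) z) =
      (cokernel.π iF).app (pt B) ((biprod.snd : Z ⟶ _).app (pt B) z) := by
    intro B z
    rw [← PshMod.comp_app_apply, cokernel.π_desc, PshMod.comp_app_apply]
  let k : S.X₂ ⟶ cokernel a := biprod.inl ≫ q
  have hk : ∀ X, Function.Injective (k.app X) := by
    intro X
    set B : Alg A := X.unop.unop
    have : Function.Injective (k.app (pt B)).hom := by
      refine (injective_iff_map_eq_zero _).mpr (fun γ hγ => ?_)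
      have hγ' : q.app (pt B) ((biprod.inl : _ ⟶ Z).app (pt B) γ) = q.app (pt B) 0 :=
        hγ.trans (app_zero q B).symm
      obtain ⟨x, hx⟩ := hqeq B _ _ hγ'
      rw [sub_zero] at hx
      have h2 := congrArg ((biprod.snd : Z ⟶ _).app (pt B)) hx
      rw [bp_inl_snd, ha2] at h2
      have hx0 : x = 0 := by
        apply hiF B
        rw [app_zero]
        exact (neg_eq_zero.1 h2.symm)
      have h1 := congrArg ((biprod.fst : Z ⟶ _).app (pt B)) hx
      rw [bp_inl_fst, ha1, hx0, app_zero] at h1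
      exact h1
    exact this
  have hkp : ∀ X, Function.Exact (k.app X) (p.app X) := by
    intro X
    set B : Alg A := X.unop.unop
    intro y
    constructor
    · intro hy
      obtain ⟨z, rfl⟩ := hqs B y
      rw [hpq] at hy
      obtain ⟨x, hx⟩ := (PshMod.cokernel_π_exact iF (pt B) _).1 hy
      refine ⟨(biprod.fst : Z ⟶ _).app (pt B) z + S.f.app (pt B) x, ?_⟩
      change q.app (pt B) ((biprod.inl : _ ⟶ Z).app (pt B) _) = _
      have hz : (biprod.inl : _ ⟶ Z).app (pt B)
          ((biprod.fst : Z ⟶ _).app (pt B) z + S.f.app (pt B) x) = z + a.app (pt B) x := by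
        apply bp_ext B
        · rw [bp_inl_fst, app_add, ha1]
        · rw [bp_inl_snd, app_add, ha2, hx, add_neg_cancel]
      rw [hz, app_add, hqa, add_zero]
    · rintro ⟨γ, rfl⟩
      change p.app (pt B) (q.app (pt B) ((biprod.inl : _ ⟶ Z).app (pt B) γ)) = 0
      rw [hpq, bp_inl_snd, app_zero]
  exact (adequate A).prop_of_iso (PshMod.isoKernel k p hk hkp).symm (adequate_kernel p hG' hC)

end Ext

end Groth.Agent.Lib.R2H4.AdeqExt
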