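/-
R2H4AdjVar: Borel-stable subspaces of the adjoint representation of a simple Lie algebra
(highest root `ρ` with a unique non-orthogonal simple root `α_j`, `ρ(h_j) = 1`).
Used for S17430, S17431, S17432.
-/
import Mathlib

set_option autoImplicit false
set_option linter.unusedSectionVars false
universe u v w
open LieAlgebra LieModule

namespace Groth.Agent.Lib.R2H4.AdjVar

variable {ι : Type u} {K : Type v} {L : Type w} [Fintype ι] [Field K] [CharZero K]
    [IsAlgClosed K] [LieRing L] [LieAlgebra K L] [FiniteDimensional K L] [LieAlgebra.IsSimple K L]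
    {H : LieSubalgebra K L} [H.IsCartanSubalgebra] (b : LieAlgebra.Basis ι H)

section Basic

lemma e_mem (i : ι) : b.e i ∈ rootSpace H (b.baseSupp i) :=
  (mem_genWeightSpace _ _ _).mpr fun x ↦ ⟨1, by simp⟩

lemma f_mem (i : ι) : b.f i ∈ rootSpace H (-b.baseSupp i) :=
  (mem_genWeightSpace _ _ _).mpr fun x ↦ ⟨1, by simp [← eq_neg_iff_add_eq_zero]⟩

/-- the simple root `α_i` as a weight. -/
noncomputable def αw (i : ι) : Weight K H L := (b.baseSupp' i).1

lemma coe_αw (i : ι) : ((αw b i : Weight K H L) : H → K) = b.baseSupp i := rfl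

lemma αw_isNonZero (i : ι) : (αw b i).IsNonZero :=
  LieSubalgebra.isNonZero_coe_root (b.baseSupp' i)

lemma coroot_αw (i : ι) : LieAlgebra.IsKilling.coroot (αw b i) = b.h' i :=
  b.coroot_eq_h' i

/-- If `β` is a weight and `α_i + β` is not a weight, then `β(h_i)` is a natural number `m`, and
`n • α_i + β` is a weight iff `-m ≤ n ≤ 0`. -/
lemma chain_key (β : H → K) (hβ : rootSpace H β ≠ ⊥) (i : ι)
    (htop : rootSpace H ((b.baseSupp i : H → K) + β) = ⊥) :
    ∃ m : ℕ, β (b.h' i) = m ∧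
      ∀ n : ℤ, rootSpace H (n • (b.baseSupp i : H → K) + β) ≠ ⊥ ↔ (-(m:ℤ) ≤ n ∧ n ≤ 0) := by
  set βw : Weight K H L := ⟨β, hβ⟩ with hβw
  have h0 : chainTopCoeff (αw b i) βw = 0 := by
    by_contra h
    have h1 : 1 ≤ chainTopCoeff (αw b i) βw := Nat.one_le_iff_ne_zero.mpr h
    have := genWeightSpace_nsmul_add_ne_bot_of_le (αw b i) βw h1
    rw [one_smul] at this
    exact this htop
  refine ⟨chainBotCoeff (αw b i) βw, ?_, fun n => ?_⟩
  · have := IsKilling.apply_coroot_eq_cast (αw b i) βw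
    rw [coroot_αw, h0] at this
    change β (b.h' i) = _ at this
    simpa using this
  · have := IsKilling.rootSpace_zsmul_add_ne_bot_iff (αw b i) βw (αw_isNonZero b i) n
    rw [h0] at this
    change rootSpace H (n • ⇑(αw b i) + ⇑βw) ≠ ⊥ ↔ _
    rw [this]
    constructor
    · rintro ⟨h1, h2⟩; exact ⟨by linarith, by simpa using h1⟩
    · rintro ⟨h1, h2⟩; exact ⟨by simpa using h2, by linarith⟩

end Basic

section HighestWeight

variable (v : L)

/-- closure of `v` under all `ad (f i)`. -/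
def fClosure : Submodule K L :=
  sInf {p | v ∈ p ∧ ∀ i, ∀ x ∈ p, ⁅b.f i, x⁆ ∈ p}

lemma self_mem_fClosure : v ∈ fClosure b v := by
  simp only [fClosure, Submodule.mem_sInf]; exact fun p hp => hp.1

lemma lie_f_mem_fClosure (i : ι) {x : L} (hx : x ∈ fClosure b v) :
    ⁅b.f i, x⁆ ∈ fClosure b v := by
  simp only [fClosure, Submodule.mem_sInf] at hx ⊢
  exact fun p hp => hp.2 i x (hx p hp)

lemma fClosure_le {p : Submodule K L} (hv : v ∈ p) (hp : ∀ i, ∀ x ∈ p, ⁅b.f i, x⁆ ∈ p) :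
    fClosure b v ≤ p := sInf_le ⟨hv, hp⟩

lemma lie_h_mem_fClosure (hvH : ∀ k, ⁅b.h k, v⁆ ∈ fClosure b v) (k : ι) {x : L}
    (hx : x ∈ fClosure b v) : ⁅b.h k, x⁆ ∈ fClosure b v := by
  have : fClosure b v ≤ fClosure b v ⊓ (fClosure b v).comap (toEnd K L L (b.h k)) := by
    apply fClosure_le
    · exact ⟨self_mem_fClosure b v, hvH k⟩
    · rintro i x ⟨hx1, hx2⟩
      refine ⟨lie_f_mem_fClosure b v i hx1, ?_⟩
      change ⁅b.h k, ⁅b.f i, x⁆⁆ ∈ fClosure b v
      change ⁅b.h k, x⁆ ∈ fClosure b v at hx2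
      rw [leibniz_lie, b.lie_h_f]
      refine add_mem ?_ (lie_f_mem_fClosure b v i hx2)
      rw [smul_lie]
      exact (fClosure b v).smul_of_tower_mem _ (lie_f_mem_fClosure b v i hx1)
  exact (this hx).2

lemma lie_e_mem_fClosure (hvH : ∀ k, ⁅b.h k, v⁆ ∈ fClosure b v) (hve : ∀ i, ⁅b.e i, v⁆ = 0)
    (i : ι) {x : L} (hx : x ∈ fClosure b v) : ⁅b.e i, x⁆ ∈ fClosure b v := by
  have : fClosure b v ≤ fClosure b v ⊓ (fClosure b v).comap (toEnd K L L (b.e i)) := by
    apply fClosure_le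
    · refine ⟨self_mem_fClosure b v, ?_⟩
      change ⁅b.e i, v⁆ ∈ fClosure b v
      rw [hve i]; exact zero_mem _
    · rintro k x ⟨hx1, hx2⟩
      refine ⟨lie_f_mem_fClosure b v k hx1, ?_⟩
      change ⁅b.e i, ⁅b.f k, x⁆⁆ ∈ fClosure b v
      change ⁅b.e i, x⁆ ∈ fClosure b v at hx2
      rw [leibniz_lie]
      refine add_mem ?_ (lie_f_mem_fClosure b v k hx2)
      rcases eq_or_ne i k with rfl | hik
      · rw [(b.sl2 i).lie_e_f]
        exact lie_h_mem_fClosure b v hvH i hx1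
      · rw [b.lie_e_f_ne i k hik, zero_lie]; exact zero_mem _
  exact (this hx).2

/-- the stabiliser of a subspace, as a Lie subalgebra. -/
def stabilizer (U : Submodule K L) : LieSubalgebra K L where
  carrier := {y | ∀ x ∈ U, ⁅y, x⁆ ∈ U}
  add_mem' := fun {a c} ha hc x hx => by rw [add_lie]; exact add_mem (ha x hx) (hc x hx)
  zero_mem' := fun x _ => by rw [zero_lie]; exact zero_mem _
  smul_mem' := fun c {a} ha x hx => by rw [smul_lie]; exact U.smul_mem c (ha x hx)
  lie_mem' := fun {a c} ha hc x hx => by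
    rw [lie_lie]
    exact sub_mem (ha _ (hc x hx)) (hc _ (ha x hx))

lemma mem_stabilizer {U : Submodule K L} {y : L} :
    y ∈ stabilizer (K := K) U ↔ ∀ x ∈ U, ⁅y, x⁆ ∈ U := Iff.rfl

lemma fClosure_eq_top (hv0 : v ≠ 0) (hvH : ∀ k, ⁅b.h k, v⁆ ∈ fClosure b v)
    (hve : ∀ i, ⁅b.e i, v⁆ = 0) : fClosure b v = ⊤ := by
  have hstab : stabilizer (K := K) (fClosure b v) = ⊤ := by
    rw [eq_top_iff, ← b.span_ef, LieSubalgebra.lieSpan_le]
    rintro y (⟨i, rfl⟩ | ⟨i, rfl⟩)
    · exact fun x hx => lie_e_mem_fClosure b v hvH hve i hx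
    · exact fun x hx => lie_f_mem_fClosure b v i hx
  let I : LieIdeal K L :=
    { fClosure b v with
      lie_mem := fun {x m} hm => by
        have : x ∈ stabilizer (K := K) (fClosure b v) := by rw [hstab]; trivial
        exact this m hm }
  rcases LieAlgebra.IsSimple.eq_bot_or_eq_top I with h | h
  · exfalso
    have : v ∈ I := self_mem_fClosure b v
    rw [h] at this
    exact hv0 (by simpa using this)
  · have : (I : Submodule K L) = ⊤ := by rw [h]; rfl
    exact this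

end HighestWeight

section Weights

/-- the weight `χ - ∑ n_i α_i`. -/
noncomputable def wt (χ : H → K) (n : ι → ℕ) : H → K := χ - ∑ i, n i • (b.baseSupp i : H → K)

lemma wt_zero (χ : H → K) : wt b χ 0 = χ := by simp [wt]

lemma neg_add_wt (χ : H → K) (n : ι → ℕ) (i : ι) :
    ∃ n' : ι → ℕ, -(b.baseSupp i : H → K) + wt b χ n = wt b χ n' := by
  classical
  refine ⟨n + Pi.single i 1, ?_⟩
  simp only [wt, Pi.add_apply, add_smul, Finset.sum_add_distrib]
  have : ∑ k, (Pi.single i 1 : ι → ℕ) k • (b.baseSupp k : H → K) = (b.baseSupp i : H → K) := by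
    rw [Finset.sum_eq_single i]
    · simp
    · intro k _ hk; simp [Pi.single_eq_of_ne hk]
    · simp
  rw [this]; abel

lemma wt_apply_sum (χ : H → K) (n : ι → ℕ) (x : H) :
    wt b χ n x = χ x - ∑ i, (n i : K) * b.baseSupp i x := by
  simp [wt, Finset.sum_apply]

lemma all_weights (χ : H → K) {v : L} (hv : v ∈ rootSpace H χ) (hv0 : v ≠ 0)
    (hve : ∀ i, ⁅b.e i, v⁆ = 0) (μ : H → K) (hμ : rootSpace H μ ≠ ⊥) :
    ∃ n : ι → ℕ, μ = wt b χ n := by
  have hvH : ∀ k, ⁅b.h k, v⁆ ∈ fClosure b v := by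
    intro k
    have := IsKilling.lie_eq_smul_of_mem_rootSpace hv (b.h' k)
    have e : ⁅b.h k, v⁆ = χ (b.h' k) • v := this
    rw [e]
    exact (fClosure b v).smul_mem _ (self_mem_fClosure b v)
  have htop := fClosure_eq_top b v hv0 hvH hve
  have hle : fClosure b v ≤ ⨆ n : ι → ℕ, (rootSpace H (wt b χ n)).toSubmodule := by
    apply fClosure_le
    · refine Submodule.mem_iSup_of_mem 0 ?_
      rw [wt_zero]; exact hv
    · intro i x hx
      induction hx using Submodule.iSup_induction' with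
      | mem n x hx =>
        obtain ⟨n', hn'⟩ := neg_add_wt b χ n i
        refine Submodule.mem_iSup_of_mem n' ?_
        rw [← hn']
        exact lie_mem_genWeightSpace_of_mem_genWeightSpace (f_mem b i) hx
      | zero => rw [lie_zero]; exact zero_mem _
      | add x y _ _ hx hy => rw [lie_add]; exact add_mem hx hy
  rw [htop, top_le_iff] at hle
  have hs : ⨆ ν ∈ Set.range (wt b χ), rootSpace H ν = ⊤ := by
    rw [iSup_range, ← LieSubmodule.toSubmodule_inj, LieSubmodule.iSup_toSubmodule, hle]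
    rfl
  obtain ⟨n, hn⟩ := (iSupIndep_genWeightSpace K H L).mem_of_biSup_eq_top hs hμ
  exact ⟨n, hn.symm⟩

end Weights

section Height

open Matrix in
lemma exists_height : ∃ x₀ : H, ∀ i, b.baseSupp i x₀ = 1 := by
  classical
  set A' : Matrix ι ι K := (Int.castRingHom K).mapMatrix b.A with hA'
  have hdet : IsUnit A'.det := by
    rw [isUnit_iff_ne_zero, hA', ← RingHom.map_det]
    simpa using b.nondegen.det_ne_zero
  set c : ι → K := A'⁻¹ *ᵥ 1
  refine ⟨∑ k, c k • b.h' k, fun i => ?_⟩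
  have h1 : A' *ᵥ c = 1 := by
    rw [Matrix.mulVec_mulVec, Matrix.mul_nonsing_inv _ hdet, Matrix.one_mulVec]
  have h2 := congr_fun h1 i
  simp only [map_sum, map_smul, b.baseSupp_apply_h', smul_eq_mul]
  simpa [Matrix.mulVec, dotProduct, mul_comm, hA'] using h2

lemma exists_ne_zero_forall_lie_e_eq_zero (W : Submodule K L) (hW : W ≠ ⊥)
    (hH : ∀ x : H, ∀ w ∈ W, ⁅x, w⁆ ∈ W) (hE : ∀ i, ∀ w ∈ W, ⁅b.e i, w⁆ ∈ W) :
    ∃ w ∈ W, w ≠ 0 ∧ ∀ i, ⁅b.e i, w⁆ = 0 := by
  obtain ⟨x₀, hx₀⟩ := exists_height b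
  let g : Module.End K W := (toEnd K H L x₀).restrict (fun w hw => hH x₀ w hw)
  have hnt : Nontrivial W := Submodule.nontrivial_iff_ne_bot.mpr hW
  obtain ⟨c₀, hc₀⟩ := Module.End.exists_eigenvalue g
  have hfin : Set.Finite {μ | g.HasEigenvalue μ} := Module.End.finite_hasEigenvalue g
  obtain ⟨c, hc, hc'⟩ : ∃ c, g.HasEigenvalue c ∧ ¬ g.HasEigenvalue (c + 1) := by
    by_contra hcon
    push Not at hcon
    have hall : ∀ n : ℕ, g.HasEigenvalue (c₀ + n) := by
      intro n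
      induction n with
      | zero => simpa using hc₀
      | succ n ih =>
        have := hcon _ ih
        rwa [add_assoc, ← Nat.cast_succ] at this
    have hinj : Function.Injective (fun n : ℕ => c₀ + (n : K)) := by
      intro m n hmn
      simpa using hmn
    exact (Set.infinite_of_injective_forall_mem hinj hall) hfin
  obtain ⟨w, hw⟩ := hc.exists_hasEigenvector
  have hw1 : g w = c • w := hw.apply_eq_smul
  have hw2 : ⁅x₀, (w : L)⁆ = c • (w : L) := by
    have := congrArg Subtype.val hw1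
    simpa [g] using this
  refine ⟨w, w.2, fun h => hw.2 (Subtype.ext h), fun i => ?_⟩
  by_contra hne
  apply hc'
  let u : W := ⟨⁅b.e i, (w : L)⁆, hE i w w.2⟩
  have hu : g u = (c + 1) • u := by
    apply Subtype.ext
    change ⁅x₀, ⁅b.e i, (w : L)⁆⁆ = (c + 1) • ⁅b.e i, (w : L)⁆
    rw [leibniz_lie, hw2, ← b.baseSupp_apply_smul_e, hx₀, one_smul, lie_smul, add_smul, one_smul,
      add_comm]
  refine Module.End.hasEigenvalue_of_hasEigenvector (x := u) ⟨?_, ?_⟩
  · exact Module.End.mem_eigenspace_iff.mpr hu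
  · intro h; exact hne (congrArg Subtype.val h)

end Height

section Highest

lemma exists_ne_zero_of_ne_bot (χ : H → K) (h : rootSpace H χ ≠ ⊥) :
    ∃ v ∈ rootSpace H χ, v ≠ 0 := by
  rw [Ne, LieSubmodule.eq_bot_iff] at h
  push Not at h
  exact h

lemma ne_bot_of_mem_ne_zero (χ : H → K) {v : L} (hv : v ∈ rootSpace H χ) (hv0 : v ≠ 0) :
    rootSpace H χ ≠ ⊥ := by
  rw [Ne, LieSubmodule.eq_bot_iff]
  push Not
  exact ⟨v, hv, hv0⟩

variable (ρ : H → K) (hρ : rootSpace H ρ ≠ ⊥)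
  (htop : ∀ i, rootSpace H (ρ + (b.baseSupp i : H → K)) = ⊥)

include htop in
lemma lie_e_eq_zero_of_mem_top {v : L} (hv : v ∈ rootSpace H ρ) (i : ι) : ⁅b.e i, v⁆ = 0 := by
  have : ⁅b.e i, v⁆ ∈ rootSpace H (ρ + (b.baseSupp i : H → K)) := by
    rw [add_comm]; exact lie_mem_genWeightSpace_of_mem_genWeightSpace (e_mem b i) hv
  rw [htop i] at this
  simpa using this

include hρ htop in
lemma highest_unique (χ : H → K) {v : L} (hv : v ∈ rootSpace H χ) (hv0 : v ≠ 0)
    (hve : ∀ i, ⁅b.e i, v⁆ = 0) : χ = ρ := by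
  obtain ⟨vρ, hvρ, hvρ0⟩ := exists_ne_zero_of_ne_bot ρ hρ
  have hχ : rootSpace H χ ≠ ⊥ := ne_bot_of_mem_ne_zero χ hv hv0
  obtain ⟨n, hn⟩ := all_weights b χ hv hv0 hve ρ hρ
  obtain ⟨m, hm⟩ := all_weights b ρ hvρ hvρ0 (lie_e_eq_zero_of_mem_top b ρ htop hvρ) χ hχ
  obtain ⟨x₀, hx₀⟩ := exists_height b
  have h1 := congr_fun hn x₀
  have h2 := congr_fun hm x₀
  rw [wt_apply_sum] at h1 h2
  simp only [hx₀, mul_one] at h1 h2
  have h3 : ((∑ i, n i + ∑ i, m i : ℕ) : K) = 0 := by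
    push_cast
    linear_combination h1 + h2
  have h4 : ∑ i, n i + ∑ i, m i = 0 := by exact_mod_cast h3
  have h5 : ∀ i, m i = 0 := by
    intro i
    have : ∑ i, m i = 0 := by omega
    exact Finset.sum_eq_zero_iff.mp this i (Finset.mem_univ i)
  rw [hm]
  have : m = 0 := funext h5
  rw [this, wt_zero]

/-- the common kernel of the `ad (e i)`, as an `H`-submodule. -/
def kerE : LieSubmodule K H L where
  carrier := {x | ∀ i, ⁅b.e i, x⁆ = 0}
  add_mem' := fun {a c} ha hc i => by rw [lie_add, ha i, hc i, add_zero]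
  zero_mem' := fun i => lie_zero _
  smul_mem' := fun c {a} ha i => by rw [lie_smul, ha i, smul_zero]
  lie_mem := fun {x m} hm i => by
    change ⁅b.e i, ⁅(x : L), m⁆⁆ = 0
    rw [leibniz_lie, hm i, lie_zero, add_zero, ← lie_skew (b.e i) (x : L)]
    have : ⁅(x : L), b.e i⁆ = b.baseSupp i x • b.e i := (b.baseSupp_apply_smul_e i x).symm
    rw [this, neg_lie, smul_lie, hm i, smul_zero, neg_zero]

lemma mem_kerE {x : L} : x ∈ kerE b ↔ ∀ i, ⁅b.e i, x⁆ = 0 := Iff.rfl

include hρ htop in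
lemma kerE_le : kerE b ≤ rootSpace H ρ := by
  rw [LieModule.eq_iSup_inf_genWeightSpace (K := K) (L := H) (M := L) (kerE b)]
  refine iSup_le fun χ => ?_
  intro y hy
  rcases eq_or_ne y 0 with rfl | hy0
  · exact zero_mem _
  · have h1 : y ∈ kerE b := hy.1
    have h2 : y ∈ rootSpace H χ := hy.2
    have := highest_unique b ρ hρ htop χ h2 hy0 ((mem_kerE b).mp h1)
    rw [← this]; exact h2

end Highest

section RootSpaces

lemma rootSpace_eq_span (χ : H → K) (hχ0 : χ ≠ 0) {v : L} (hv : v ∈ rootSpace H χ) (hv0 : v ≠ 0) :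
    (rootSpace H χ : Submodule K L) = K ∙ v := by
  set χw : Weight K H L := ⟨χ, ne_bot_of_mem_ne_zero χ hv hv0⟩ with hχw
  have hnz : χw.IsNonZero := fun h => hχ0 h
  have h1 := IsKilling.finrank_rootSpace_eq_one χw hnz
  have h2 := (finrank_eq_one_iff_of_nonzero' (⟨v, hv⟩ : rootSpace H χ)
    (fun h => hv0 (congrArg Subtype.val h))).mp h1
  apply le_antisymm
  · intro y hy
    obtain ⟨c, hc⟩ := h2 ⟨y, hy⟩
    rw [Submodule.mem_span_singleton]
    exact ⟨c, congrArg Subtype.val hc⟩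
  · rw [Submodule.span_singleton_le_iff_mem]; exact hv

lemma finrank_rootSpace (χ : H → K) (hχ0 : χ ≠ 0) (hχ : rootSpace H χ ≠ ⊥) :
    Module.finrank K (rootSpace H χ : Submodule K L) = 1 := by
  obtain ⟨v, hv, hv0⟩ := exists_ne_zero_of_ne_bot χ hχ
  rw [rootSpace_eq_span χ hχ0 hv hv0, finrank_span_singleton hv0]

lemma disjoint_rootSpace {χ₁ χ₂ : H → K} (h : χ₁ ≠ χ₂) :
    Disjoint (rootSpace H χ₁ : Submodule K L) (rootSpace H χ₂ : Submodule K L) := by
  have := LieModule.disjoint_genWeightSpace K H L h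
  rwa [← LieSubmodule.disjoint_toSubmodule] at this

lemma eq_zero_of_mem_of_mem {χ₁ χ₂ : H → K} (h : χ₁ ≠ χ₂) {x : L} (h1 : x ∈ rootSpace H χ₁)
    (h2 : x ∈ rootSpace H χ₂) : x = 0 := by
  have := (disjoint_rootSpace (L := L) h).le_bot ⟨h1, h2⟩
  simpa using this

/-- if a nonzero vector of weight `μ` lies in a sum of two weight spaces then `μ` is one of the two
weights. -/
lemma mem_pair_of_mem_sup {μ χ₁ χ₂ : H → K} {x : L} (hx : x ∈ rootSpace H μ) (hx0 : x ≠ 0)
    (hmem : x ∈ (rootSpace H χ₁ : Submodule K L) ⊔ (rootSpace H χ₂ : Submodule K L)) :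
    μ = χ₁ ∨ μ = χ₂ := by
  by_contra hcon
  push Not at hcon
  have hind := LieModule.iSupIndep_genWeightSpace K H L
  have hle : rootSpace H χ₁ ⊔ rootSpace H χ₂ ≤ ⨆ ν, ⨆ (_ : ν ≠ μ), rootSpace H ν := by
    apply sup_le
    · exact le_iSup₂_of_le χ₁ (Ne.symm hcon.1) le_rfl
    · exact le_iSup₂_of_le χ₂ (Ne.symm hcon.2) le_rfl
  have hd := (hind μ).mono_right hle
  have hmem' : x ∈ rootSpace H χ₁ ⊔ rootSpace H χ₂ := by
    rw [← LieSubmodule.mem_toSubmodule, LieSubmodule.sup_toSubmodule]; exact hmem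
  have := hd.le_bot ⟨hx, hmem'⟩
  exact hx0 (by simpa using this)

/-- three-weight version. -/
lemma mem_triple_of_mem_sup {μ χ₁ χ₂ χ₃ : H → K} {x : L} (hx : x ∈ rootSpace H μ) (hx0 : x ≠ 0)
    (hmem : x ∈ (rootSpace H χ₁ : Submodule K L) ⊔ (rootSpace H χ₂ : Submodule K L) ⊔
      (rootSpace H χ₃ : Submodule K L)) :
    μ = χ₁ ∨ μ = χ₂ ∨ μ = χ₃ := by
  by_contra hcon
  push Not at hcon
  have hind := LieModule.iSupIndep_genWeightSpace K H L
  have hle : rootSpace H χ₁ ⊔ rootSpace H χ₂ ⊔ rootSpace H χ₃ ≤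
      ⨆ ν, ⨆ (_ : ν ≠ μ), rootSpace H ν := by
    refine sup_le (sup_le ?_ ?_) ?_
    · exact le_iSup₂_of_le χ₁ (Ne.symm hcon.1) le_rfl
    · exact le_iSup₂_of_le χ₂ (Ne.symm hcon.2.1) le_rfl
    · exact le_iSup₂_of_le χ₃ (Ne.symm hcon.2.2) le_rfl
  have hd := (hind μ).mono_right hle
  have hmem' : x ∈ rootSpace H χ₁ ⊔ rootSpace H χ₂ ⊔ rootSpace H χ₃ := by
    rw [← LieSubmodule.mem_toSubmodule, LieSubmodule.sup_toSubmodule,
      LieSubmodule.sup_toSubmodule]; exact hmem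
  have := hd.le_bot ⟨hx, hmem'⟩
  exact hx0 (by simpa using this)

end RootSpaces

section Cartan

lemma A_nonpos {k j : ι} (hkj : k ≠ j) : b.A k j ≤ 0 := by
  have hp : (b.sl2 j).HasPrimitiveVectorWith (b.f k) (-(b.A k j : K)) := by
    refine ⟨(b.sl2 k).f_ne_zero, ?_, b.lie_e_f_ne j k (Ne.symm hkj)⟩
    rw [b.lie_h_f k j, neg_smul, neg_smul, Int.cast_smul_eq_zsmul]
  obtain ⟨n, hn⟩ := hp.exists_nat
  have : ((-(b.A k j) : ℤ) : K) = ((n : ℤ) : K) := by push_cast; exact hn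
  have := Int.cast_injective this
  omega

lemma A_diag (i : ι) : b.A i i = 2 := by
  have : IsAddTorsionFree L := .of_isTorsionFree K L
  exact b.A_diag_eq_two i

lemma baseSupp_h'_self (i : ι) : b.baseSupp i (b.h' i) = 2 := by
  rw [b.baseSupp_apply_h', A_diag]; norm_num

end Cartan

section Consequences

variable (ρ : H → K) (hρ : rootSpace H ρ ≠ ⊥)
  (htop : ∀ i, rootSpace H (ρ + (b.baseSupp i : H → K)) = ⊥)

include hρ htop in
/-- `ρ - α_i` is not a weight when `ρ(h_i) = 0`. -/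
lemma rootSpace_sub_eq_bot {i : ι} (hi : ρ (b.h' i) = 0) :
    rootSpace H (ρ - (b.baseSupp i : H → K)) = ⊥ := by
  obtain ⟨m, hm, hmn⟩ := chain_key b ρ hρ i (by rw [add_comm]; exact htop i)
  have hm0 : m = 0 := by
    rw [hi] at hm; exact_mod_cast hm.symm
  by_contra hcon
  have e : ρ - (b.baseSupp i : H → K) = (-1 : ℤ) • (b.baseSupp i : H → K) + ρ := by
    rw [neg_smul, one_smul]; abel
  rw [e] at hcon
  have := (hmn (-1)).mp hcon
  rw [hm0] at this
  omega

include hρ htop in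
/-- `ρ - α_j` is a weight and `ρ - 2α_j` is not, when `ρ(h_j) = 1`. -/
lemma rootSpace_sub_ne_bot {j : ι} (hj : ρ (b.h' j) = 1) :
    rootSpace H (ρ - (b.baseSupp j : H → K)) ≠ ⊥ ∧
      rootSpace H (ρ - (b.baseSupp j : H → K) - (b.baseSupp j : H → K)) = ⊥ := by
  obtain ⟨m, hm, hmn⟩ := chain_key b ρ hρ j (by rw [add_comm]; exact htop j)
  have hm1 : m = 1 := by
    rw [hj] at hm; exact_mod_cast hm.symm
  constructor
  · have e : ρ - (b.baseSupp j : H → K) = (-1 : ℤ) • (b.baseSupp j : H → K) + ρ := by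
      rw [neg_smul, one_smul]; abel
    rw [e]
    apply (hmn (-1)).mpr
    rw [hm1]; omega
  · by_contra hcon
    have e : ρ - (b.baseSupp j : H → K) - (b.baseSupp j : H → K) =
        (-2 : ℤ) • (b.baseSupp j : H → K) + ρ := by
      rw [neg_smul, two_smul]; abel
    rw [e] at hcon
    have := (hmn (-2)).mp hcon
    rw [hm1] at this
    omega

include hρ htop in
/-- `ρ - α_j + α_k` is not a weight for `k ≠ j`, when `ρ(h_j) = 1`. -/
lemma rootSpace_sub_add_eq_bot {j k : ι} (hj : ρ (b.h' j) = 1) (hkj : k ≠ j) :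
    rootSpace H (ρ - (b.baseSupp j : H → K) + (b.baseSupp k : H → K)) = ⊥ := by
  by_contra hcon
  obtain ⟨m, hm, -⟩ := chain_key b _ hcon j (by
    have : (b.baseSupp j : H → K) + (ρ - (b.baseSupp j : H → K) + (b.baseSupp k : H → K)) =
      ρ + (b.baseSupp k : H → K) := by abel
    rw [this]; exact htop k)
  simp only [Pi.add_apply, Pi.sub_apply, hj, b.baseSupp_apply_h', A_diag] at hm
  have h1 : ((b.A k j - 1 : ℤ) : K) = ((m : ℤ) : K) := by push_cast; linear_combination hm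
  have h2 := Int.cast_injective h1
  have h3 := A_nonpos b hkj
  omega

include hρ htop in
/-- if `ρ - α_j - α_k` is a weight, with `k ≠ j` and `ρ(h_k) = 0`, then `A k j ≠ 0`. -/
lemma A_ne_zero_of_rootSpace_ne_bot {j k : ι} (hj : ρ (b.h' j) = 1) (hk : ρ (b.h' k) = 0)
    (h : rootSpace H (ρ - (b.baseSupp j : H → K) - (b.baseSupp k : H → K)) ≠ ⊥) :
    b.A k j ≠ 0 := by
  obtain ⟨m, hm, -⟩ := chain_key b _ h j (by
    have : (b.baseSupp j : H → K) + (ρ - (b.baseSupp j : H → K) - (b.baseSupp k : H → K)) =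
      ρ - (b.baseSupp k : H → K) := by abel
    rw [this]; exact rootSpace_sub_eq_bot b ρ hρ htop hk)
  simp only [Pi.sub_apply, hj, b.baseSupp_apply_h', A_diag] at hm
  have h1 : ((- b.A k j - 1 : ℤ) : K) = ((m : ℤ) : K) := by push_cast; linear_combination hm
  have h2 := Int.cast_injective h1
  omega

end Consequences

section Stable

lemma stable_iff (W : Submodule K L) :
    (∀ x ∈ H.toSubmodule ⊔ (b.borelUpper : Submodule K L), ∀ w ∈ W, ⁅x, w⁆ ∈ W) ↔
      (∀ x : H, ∀ w ∈ W, ⁅x, w⁆ ∈ W) ∧ (∀ i, ∀ w ∈ W, ⁅b.e i, w⁆ ∈ W) := by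
  constructor
  · intro h
    refine ⟨fun x w hw => h x (Submodule.mem_sup_left x.2) w hw,
      fun i w hw => h _ (Submodule.mem_sup_right ?_) w hw⟩
    exact LieSubalgebra.subset_lieSpan (Set.mem_range_self i)
  · rintro ⟨hH, hE⟩ x hx w hw
    obtain ⟨a, ha, c, hc, rfl⟩ := Submodule.mem_sup.mp hx
    rw [add_lie]
    refine add_mem (hH ⟨a, ha⟩ w hw) ?_
    have hle : LieSubalgebra.lieSpan K L (Set.range b.e) ≤ stabilizer (K := K) W := by
      rw [LieSubalgebra.lieSpan_le]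
      rintro y ⟨i, rfl⟩
      exact fun x hx => hE i x hx
    exact hle hc w hw

variable (W : Submodule K L) (hH : ∀ x : H, ∀ w ∈ W, ⁅x, w⁆ ∈ W)
  (hE : ∀ i, ∀ w ∈ W, ⁅b.e i, w⁆ ∈ W)

include hH in
lemma le_of_forall_weight (P : Submodule K L)
    (h : ∀ χ : H → K, ∀ w ∈ W, w ∈ rootSpace H χ → w ∈ P) : W ≤ P := by
  let W' : LieSubmodule K H L := { W with lie_mem := fun {x m} hm => hH x m hm }
  have h1 := LieModule.eq_iSup_inf_genWeightSpace (K := K) (L := H) (M := L) W'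
  have h2 : W = (W' : Submodule K L) := rfl
  rw [h2, h1, LieSubmodule.iSup_toSubmodule]
  refine iSup_le fun χ => ?_
  intro w hw
  exact h χ w hw.1 hw.2

variable (ρ : H → K) (hρ : rootSpace H ρ ≠ ⊥)
  (htop : ∀ i, rootSpace H (ρ + (b.baseSupp i : H → K)) = ⊥) (hρ0 : ρ ≠ 0)

include hH hE hρ htop hρ0 in
lemma top_le_of_stable (hW : W ≠ ⊥) : (rootSpace H ρ : Submodule K L) ≤ W := by
  obtain ⟨w, hw, hw0, hwe⟩ := exists_ne_zero_forall_lie_e_eq_zero b W hW hH hE
  have h1 : w ∈ rootSpace H ρ := kerE_le b ρ hρ htop ((mem_kerE b).mpr hwe)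
  rw [rootSpace_eq_span ρ hρ0 h1 hw0, Submodule.span_singleton_le_iff_mem]
  exact hw

include hρ htop in
lemma exists_raise {χ : H → K} (hχ : χ ≠ ρ) {w : L} (hw : w ∈ rootSpace H χ) (hw0 : w ≠ 0) :
    ∃ i, ⁅b.e i, w⁆ ≠ 0 := by
  by_contra hcon
  push Not at hcon
  have h1 : w ∈ rootSpace H ρ := kerE_le b ρ hρ htop ((mem_kerE b).mpr hcon)
  exact hw0 (eq_zero_of_mem_of_mem hχ hw h1)

lemma baseSupp_ne_zero (i : ι) : (b.baseSupp i : H → K) ≠ 0 := by
  intro h
  have := congr_fun h (b.h' i)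
  rw [baseSupp_h'_self] at this
  simp at this

end Stable

section Main

variable (ρ : H → K) (hρ : rootSpace H ρ ≠ ⊥)
  (htop : ∀ i, rootSpace H (ρ + (b.baseSupp i : H → K)) = ⊥)
  (j : ι) (hN : ∀ i, ρ (b.h' i) ≠ 0 ↔ i = j) (hj : ρ (b.h' j) = 1)

include hj in
lemma rho_ne_zero : ρ ≠ 0 := by
  intro h
  rw [h] at hj
  simp at hj

include hj in
lemma rho_sub_ne_zero : ρ - (b.baseSupp j : H → K) ≠ 0 := by
  intro h
  have := congr_fun h (b.h' j)
  simp only [Pi.sub_apply, hj, baseSupp_h'_self, Pi.zero_apply] at this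
  norm_num at this

include hρ htop hN hj in
theorem twoDim_stable :
    Module.finrank K ((rootSpace H ρ : Submodule K L) ⊔
      (rootSpace H (ρ - (b.baseSupp j : H → K)) : Submodule K L) : Submodule K L) = 2 ∧
    ∀ x ∈ H.toSubmodule ⊔ (b.borelUpper : Submodule K L),
      ∀ w ∈ (rootSpace H ρ : Submodule K L) ⊔
        (rootSpace H (ρ - (b.baseSupp j : H → K)) : Submodule K L),
      ⁅x, w⁆ ∈ (rootSpace H ρ : Submodule K L) ⊔
        (rootSpace H (ρ - (b.baseSupp j : H → K)) : Submodule K L) := by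
  have hρ0 := rho_ne_zero b ρ j hj
  have hρ1 := rho_sub_ne_zero b ρ j hj
  have hne := (rootSpace_sub_ne_bot b ρ hρ htop hj).1
  constructor
  · have hd : Disjoint (rootSpace H ρ : Submodule K L)
        (rootSpace H (ρ - (b.baseSupp j : H → K)) : Submodule K L) := by
      apply disjoint_rootSpace
      intro h
      have : (b.baseSupp j : H → K) = 0 := by
        have h2 : ρ - (ρ - (b.baseSupp j : H → K)) = 0 := by rw [← h]; abel
        rw [← h2]; abel
      exact baseSupp_ne_zero b j this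
    have := Submodule.finrank_sup_add_finrank_inf_eq (rootSpace H ρ : Submodule K L)
      (rootSpace H (ρ - (b.baseSupp j : H → K)) : Submodule K L)
    rw [hd.eq_bot, finrank_bot, finrank_rootSpace ρ hρ0 hρ, finrank_rootSpace _ hρ1 hne] at this
    omega
  · rw [stable_iff]
    constructor
    · intro x w hw
      obtain ⟨w0, hw0, w1, hw1, rfl⟩ := Submodule.mem_sup.mp hw
      rw [lie_add]
      exact add_mem (Submodule.mem_sup_left ((rootSpace H ρ).lie_mem hw0))
        (Submodule.mem_sup_right ((rootSpace H _).lie_mem hw1))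
    · intro i w hw
      obtain ⟨w0, hw0, w1, hw1, rfl⟩ := Submodule.mem_sup.mp hw
      rw [lie_add, lie_e_eq_zero_of_mem_top b ρ htop hw0, zero_add]
      have h1 : ⁅b.e i, w1⁆ ∈ rootSpace H ((b.baseSupp i : H → K) + (ρ - (b.baseSupp j : H → K))) :=
        lie_mem_genWeightSpace_of_mem_genWeightSpace (e_mem b i) hw1
      rcases eq_or_ne i j with rfl | hij
      · have e : (b.baseSupp i : H → K) + (ρ - (b.baseSupp i : H → K)) = ρ := by abel
        rw [e] at h1
        exact Submodule.mem_sup_left h1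
      · have e : (b.baseSupp i : H → K) + (ρ - (b.baseSupp j : H → K)) =
            ρ - (b.baseSupp j : H → K) + (b.baseSupp i : H → K) := by abel
        rw [e, rootSpace_sub_add_eq_bot b ρ hρ htop hj hij] at h1
        have : ⁅b.e i, w1⁆ = 0 := by simpa using h1
        rw [this]; exact zero_mem _

include hρ htop hN hj in
theorem twoDim_eq (W : Submodule K L) (hW : Module.finrank K W = 2)
    (hst : ∀ x ∈ H.toSubmodule ⊔ (b.borelUpper : Submodule K L), ∀ w ∈ W, ⁅x, w⁆ ∈ W) :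
    W = (rootSpace H ρ : Submodule K L) ⊔
      (rootSpace H (ρ - (b.baseSupp j : H → K)) : Submodule K L) := by
  have hρ0 := rho_ne_zero b ρ j hj
  have hρ1 := rho_sub_ne_zero b ρ j hj
  obtain ⟨hH, hE⟩ := (stable_iff b W).mp hst
  have hWne : W ≠ ⊥ := by
    intro h; rw [h, finrank_bot] at hW; omega
  have htopW := top_le_of_stable b W hH hE ρ hρ htop hρ0 hWne
  -- a weight vector of `W` outside `L_ρ`
  obtain ⟨χ, w, hwW, hwχ, hwρ⟩ : ∃ χ : H → K, ∃ w ∈ W, w ∈ rootSpace H χ ∧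
      w ∉ (rootSpace H ρ : Submodule K L) := by
    by_contra hcon
    push Not at hcon
    have hle := le_of_forall_weight W hH (rootSpace H ρ : Submodule K L) hcon
    have := Submodule.finrank_mono hle
    rw [hW, finrank_rootSpace ρ hρ0 hρ] at this
    omega
  have hw0 : w ≠ 0 := by rintro rfl; exact hwρ (zero_mem _)
  have hχρ : χ ≠ ρ := by rintro rfl; exact hwρ hwχ
  have hWeq : W = (rootSpace H ρ : Submodule K L) ⊔ K ∙ w := by
    symm
    apply Submodule.eq_of_le_of_finrank_eq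
    · exact sup_le htopW (by rw [Submodule.span_singleton_le_iff_mem]; exact hwW)
    · rw [Submodule.finrank_sup_span_singleton hwρ, finrank_rootSpace ρ hρ0 hρ, hW]
  obtain ⟨i, hi⟩ := exists_raise b ρ hρ htop hχρ hwχ hw0
  have hu1 : ⁅b.e i, w⁆ ∈ rootSpace H ((b.baseSupp i : H → K) + χ) :=
    lie_mem_genWeightSpace_of_mem_genWeightSpace (e_mem b i) hwχ
  have hu2 : ⁅b.e i, w⁆ ∈ (rootSpace H ρ : Submodule K L) ⊔ (rootSpace H χ : Submodule K L) := by
    have h1 : ⁅b.e i, w⁆ ∈ W := hE i w hwW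
    rw [hWeq] at h1
    have h2 : (K ∙ w : Submodule K L) ≤ (rootSpace H χ : Submodule K L) := by
      rw [Submodule.span_singleton_le_iff_mem]; exact hwχ
    exact (sup_le_sup_left h2 (rootSpace H ρ : Submodule K L)) h1
  have hχ : χ = ρ - (b.baseSupp i : H → K) := by
    rcases mem_pair_of_mem_sup hu1 hi hu2 with h | h
    · rw [← h]; abel
    · exfalso
      apply baseSupp_ne_zero b i
      have h2 : (b.baseSupp i : H → K) + χ - χ = 0 := by rw [h]; abel
      rw [← h2]; abel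
  have hij : i = j := by
    apply (hN i).mp
    intro h0
    have := rootSpace_sub_eq_bot b ρ hρ htop h0
    rw [← hχ] at this
    exact ne_bot_of_mem_ne_zero χ hwχ hw0 this
  subst hij
  rw [hWeq, ← hχ, rootSpace_eq_span χ (hχ ▸ hρ1) hwχ hw0]

end Main

end Groth.Agent.Lib.R2H4.AdjVar
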