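/-
R2H4AdjVarThree: three-dimensional Borel-stable subspaces of the adjoint representation
(continuation of R2H4AdjVar). Used for S17431, S17432.
-/
import Mathlib
import Groth.Agent.Lib.R2H4AdjVar

set_option autoImplicit false
set_option linter.unusedSectionVars false
universe u v w
open LieAlgebra LieModule

namespace Groth.Agent.Lib.R2H4.AdjVar3

open Groth.Agent.Lib.R2H4.AdjVar

variable {ι : Type u} {K : Type v} {L : Type w} [Fintype ι] [Field K] [CharZero K]
    [IsAlgClosed K] [LieRing L] [LieAlgebra K L] [FiniteDimensional K L] [LieAlgebra.IsSimple K L]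
    {H : LieSubalgebra K L} [H.IsCartanSubalgebra] (b : LieAlgebra.Basis ι H)

variable (ρ : H → K) (hρ : rootSpace H ρ ≠ ⊥)
  (htop : ∀ i, rootSpace H (ρ + (b.baseSupp i : H → K)) = ⊥)
  (j : ι) (hN : ∀ i, ρ (b.h' i) ≠ 0 ↔ i = j) (hj : ρ (b.h' j) = 1)

include hρ htop in
lemma rho_sub_sub_ne_zero {i : ι} (hi : ρ (b.h' i) = 0) :
    ρ - (b.baseSupp j : H → K) - (b.baseSupp i : H → K) ≠ 0 := by
  intro h0
  have h3 : ρ - (b.baseSupp i : H → K) = (b.baseSupp j : H → K) := by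
    have e : ρ - (b.baseSupp i : H → K) =
        (ρ - (b.baseSupp j : H → K) - (b.baseSupp i : H → K)) + (b.baseSupp j : H → K) := by
      abel
    rw [e, h0, zero_add]
  have h4 := rootSpace_sub_eq_bot b ρ hρ htop hi
  rw [h3] at h4
  exact ne_bot_of_mem_ne_zero _ (e_mem b j) (b.sl2 j).e_ne_zero h4

include hρ htop hN hj in
lemma threeDim_core (W : Submodule K L) {w1 w2 : L} {χ1 χ2 : H → K}
    (hw1 : w1 ∈ rootSpace H χ1) (hw2 : w2 ∈ rootSpace H χ2) (hw10 : w1 ≠ 0) (hw20 : w2 ≠ 0)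
    (hWeq : W = (rootSpace H ρ : Submodule K L) ⊔ K ∙ w1 ⊔ K ∙ w2) {i1 i2 : ι}
    (h1 : (b.baseSupp i1 : H → K) + χ1 = ρ) (h2 : (b.baseSupp i2 : H → K) + χ2 = χ1) :
    (rootSpace H ρ : Submodule K L) ⊔ (rootSpace H (ρ - (b.baseSupp j : H → K)) : Submodule K L)
        ≤ W ∧
      ∃ i : ι, i ≠ j ∧ b.A i j ≠ 0 ∧
        W = (rootSpace H ρ : Submodule K L) ⊔
            (rootSpace H (ρ - (b.baseSupp j : H → K)) : Submodule K L) ⊔
          (rootSpace H (ρ - (b.baseSupp j : H → K) - (b.baseSupp i : H → K)) : Submodule K L) := by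
  have hρ1 := rho_sub_ne_zero b ρ j hj
  have hχ1 : χ1 = ρ - (b.baseSupp i1 : H → K) := by rw [← h1]; abel
  have hi1 : i1 = j := by
    apply (hN i1).mp
    intro h0
    have := rootSpace_sub_eq_bot b ρ hρ htop h0
    rw [← hχ1] at this
    exact ne_bot_of_mem_ne_zero χ1 hw1 hw10 this
  subst hi1
  have hχ2 : χ2 = ρ - (b.baseSupp i1 : H → K) - (b.baseSupp i2 : H → K) := by
    rw [← hχ1, ← h2]; abel
  have hi2 : i2 ≠ i1 := by
    rintro rfl
    have := (rootSpace_sub_ne_bot b ρ hρ htop hj).2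
    rw [← hχ2] at this
    exact ne_bot_of_mem_ne_zero χ2 hw2 hw20 this
  have hρi2 : ρ (b.h' i2) = 0 := by
    by_contra h
    exact hi2 ((hN i2).mp h)
  have hχ2ne : rootSpace H χ2 ≠ ⊥ := ne_bot_of_mem_ne_zero χ2 hw2 hw20
  have hA : b.A i2 i1 ≠ 0 :=
    A_ne_zero_of_rootSpace_ne_bot b ρ hρ htop hj hρi2 (hχ2 ▸ hχ2ne)
  have hχ20 : χ2 ≠ 0 := hχ2 ▸ rho_sub_sub_ne_zero b ρ hρ htop i1 hρi2
  have e1 : (K ∙ w1 : Submodule K L) = (rootSpace H (ρ - (b.baseSupp i1 : H → K)) : Submodule K L) := by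
    rw [← hχ1, rootSpace_eq_span χ1 (hχ1 ▸ hρ1) hw1 hw10]
  have e2 : (K ∙ w2 : Submodule K L) =
      (rootSpace H (ρ - (b.baseSupp i1 : H → K) - (b.baseSupp i2 : H → K)) : Submodule K L) := by
    rw [← hχ2, rootSpace_eq_span χ2 hχ20 hw2 hw20]
  rw [e1, e2] at hWeq
  exact ⟨hWeq ▸ le_sup_left, i2, hi2, hA, hWeq⟩

include hρ htop hN hj in
theorem threeDim (W : Submodule K L) (hW : Module.finrank K W = 3)
    (hst : ∀ x ∈ H.toSubmodule ⊔ (b.borelUpper : Submodule K L), ∀ w ∈ W, ⁅x, w⁆ ∈ W) :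
    (rootSpace H ρ : Submodule K L) ⊔ (rootSpace H (ρ - (b.baseSupp j : H → K)) : Submodule K L)
        ≤ W ∧
      ∃ i : ι, i ≠ j ∧ b.A i j ≠ 0 ∧
        W = (rootSpace H ρ : Submodule K L) ⊔
            (rootSpace H (ρ - (b.baseSupp j : H → K)) : Submodule K L) ⊔
          (rootSpace H (ρ - (b.baseSupp j : H → K) - (b.baseSupp i : H → K)) : Submodule K L) := by
  have hρ0 := rho_ne_zero b ρ j hj
  have hρ1 := rho_sub_ne_zero b ρ j hj
  obtain ⟨hH, hE⟩ := (stable_iff b W).mp hst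
  have hWne : W ≠ ⊥ := by
    intro h; rw [h, finrank_bot] at hW; omega
  have htopW := top_le_of_stable b W hH hE ρ hρ htop hρ0 hWne
  -- first weight vector of `W` outside `L_ρ`
  obtain ⟨χ1, w1, hw1W, hw1, hw1ρ⟩ : ∃ χ : H → K, ∃ w ∈ W, w ∈ rootSpace H χ ∧
      w ∉ (rootSpace H ρ : Submodule K L) := by
    by_contra hcon
    push Not at hcon
    have hle := le_of_forall_weight W hH (rootSpace H ρ : Submodule K L) hcon
    have := Submodule.finrank_mono hle
    rw [hW, finrank_rootSpace ρ hρ0 hρ] at this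
    omega
  have hw10 : w1 ≠ 0 := by rintro rfl; exact hw1ρ (zero_mem _)
  have hχ1ρ : χ1 ≠ ρ := by rintro rfl; exact hw1ρ hw1
  set P2 : Submodule K L := (rootSpace H ρ : Submodule K L) ⊔ K ∙ w1 with hP2
  have hP2W : P2 ≤ W := sup_le htopW (by rw [Submodule.span_singleton_le_iff_mem]; exact hw1W)
  have hP2fin : Module.finrank K P2 = 2 := by
    rw [hP2, Submodule.finrank_sup_span_singleton hw1ρ, finrank_rootSpace ρ hρ0 hρ]
  -- second weight vector of `W` outside `P2`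
  obtain ⟨χ2, w2, hw2W, hw2, hw2P⟩ : ∃ χ : H → K, ∃ w ∈ W, w ∈ rootSpace H χ ∧ w ∉ P2 := by
    by_contra hcon
    push Not at hcon
    have hle := le_of_forall_weight W hH P2 hcon
    have := Submodule.finrank_mono hle
    rw [hW, hP2fin] at this
    omega
  have hw20 : w2 ≠ 0 := by rintro rfl; exact hw2P (zero_mem _)
  have hχ2ρ : χ2 ≠ ρ := by
    rintro rfl; exact hw2P (Submodule.mem_sup_left hw2)
  have hWeq : W = (rootSpace H ρ : Submodule K L) ⊔ K ∙ w1 ⊔ K ∙ w2 := by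
    symm
    apply Submodule.eq_of_le_of_finrank_eq
    · exact sup_le hP2W (by rw [Submodule.span_singleton_le_iff_mem]; exact hw2W)
    · rw [← hP2, Submodule.finrank_sup_span_singleton hw2P, hP2fin, hW]
  have hWle : W ≤ (rootSpace H ρ : Submodule K L) ⊔ (rootSpace H χ1 : Submodule K L) ⊔
      (rootSpace H χ2 : Submodule K L) := by
    rw [hWeq]
    refine sup_le_sup (sup_le_sup_left ?_ _) ?_
    · rw [Submodule.span_singleton_le_iff_mem]; exact hw1
    · rw [Submodule.span_singleton_le_iff_mem]; exact hw2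
  obtain ⟨i1, hi1⟩ := exists_raise b ρ hρ htop hχ1ρ hw1 hw10
  obtain ⟨i2, hi2⟩ := exists_raise b ρ hρ htop hχ2ρ hw2 hw20
  have hu1 : ⁅b.e i1, w1⁆ ∈ rootSpace H ((b.baseSupp i1 : H → K) + χ1) :=
    lie_mem_genWeightSpace_of_mem_genWeightSpace (e_mem b i1) hw1
  have hu2 : ⁅b.e i2, w2⁆ ∈ rootSpace H ((b.baseSupp i2 : H → K) + χ2) :=
    lie_mem_genWeightSpace_of_mem_genWeightSpace (e_mem b i2) hw2
  have hne : ∀ (i : ι) (χ : H → K), (b.baseSupp i : H → K) + χ ≠ χ := by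
    intro i χ h
    apply baseSupp_ne_zero b i
    have h2 : (b.baseSupp i : H → K) + χ - χ = 0 := by rw [h]; abel
    rw [← h2]; abel
  have hc1 := mem_triple_of_mem_sup hu1 hi1 (hWle (hE i1 w1 hw1W))
  have hc2 := mem_triple_of_mem_sup hu2 hi2 (hWle (hE i2 w2 hw2W))
  rcases hc1 with h1 | h1 | h1
  · rcases hc2 with h2 | h2 | h2
    · -- both raise to `ρ`: then `χ1 = χ2 = ρ - α_j`, contradiction
      exfalso
      have hχ1 : χ1 = ρ - (b.baseSupp i1 : H → K) := by rw [← h1]; abel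
      have hχ2 : χ2 = ρ - (b.baseSupp i2 : H → K) := by rw [← h2]; abel
      have hi1j : i1 = j := by
        apply (hN i1).mp
        intro h0
        have := rootSpace_sub_eq_bot b ρ hρ htop h0
        rw [← hχ1] at this
        exact ne_bot_of_mem_ne_zero χ1 hw1 hw10 this
      have hi2j : i2 = j := by
        apply (hN i2).mp
        intro h0
        have := rootSpace_sub_eq_bot b ρ hρ htop h0
        rw [← hχ2] at this
        exact ne_bot_of_mem_ne_zero χ2 hw2 hw20 this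
      subst hi1j
      subst hi2j
      have h3 : w2 ∈ (rootSpace H χ1 : Submodule K L) := by rw [hχ1, ← hχ2]; exact hw2
      rw [rootSpace_eq_span χ1 (hχ1 ▸ hρ1) hw1 hw10] at h3
      exact hw2P (Submodule.mem_sup_right h3)
    · exact threeDim_core b ρ hρ htop j hN hj W hw1 hw2 hw10 hw20 hWeq h1 h2
    · exact absurd h2 (hne i2 χ2)
  · exact absurd h1 (hne i1 χ1)
  · rcases hc2 with h2 | h2 | h2
    · have hWeq' : W = (rootSpace H ρ : Submodule K L) ⊔ K ∙ w2 ⊔ K ∙ w1 := by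
        rw [hWeq, sup_right_comm]
      exact threeDim_core b ρ hρ htop j hN hj W hw2 hw1 hw20 hw10 hWeq' h2 h1
    · exfalso
      obtain ⟨x₀, hx₀⟩ := exists_height b
      have h3 := congr_fun h1 x₀
      have h4 := congr_fun h2 x₀
      simp only [Pi.add_apply, hx₀] at h3 h4
      have : (2 : K) = 0 := by linear_combination h3 + h4
      norm_num at this
    · exact absurd h2 (hne i2 χ2)

end Groth.Agent.Lib.R2H4.AdjVar3
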