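/-
R2H4AdjVarConic: Borel-semi-invariant quadratic forms on a three-dimensional Borel-stable subspace
of the adjoint representation have rank at most one. Used for S17432.
-/
import Mathlib
import Groth.Agent.Lib.R2H4AdjVarThree

set_option autoImplicit false
set_option linter.unusedSectionVars false
universe u v w
open LieAlgebra LieModule

namespace Groth.Agent.Lib.R2H4.AdjVar4

open Groth.Agent.Lib.R2H4.AdjVar Groth.Agent.Lib.R2H4.AdjVar3

variable {ι : Type u} {K : Type v} {L : Type w} [Fintype ι] [Field K] [CharZero K]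
    [IsAlgClosed K] [LieRing L] [LieAlgebra K L] [FiniteDimensional K L] [LieAlgebra.IsSimple K L]
    {H : LieSubalgebra K L} [H.IsCartanSubalgebra] (b : LieAlgebra.Basis ι H)

variable (ρ : H → K) (hρ : rootSpace H ρ ≠ ⊥)
  (htop : ∀ i, rootSpace H (ρ + (b.baseSupp i : H → K)) = ⊥)
  (j : ι) (hN : ∀ i, ρ (b.h' i) ≠ 0 ↔ i = j) (hj : ρ (b.h' j) = 1)

lemma baseSupp_add_ne_zero (i k : ι) : (b.baseSupp i : H → K) + (b.baseSupp k : H → K) ≠ 0 := by
  intro h
  obtain ⟨x₀, hx₀⟩ := exists_height b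
  have := congr_fun h x₀
  simp only [Pi.add_apply, hx₀, Pi.zero_apply] at this
  norm_num at this

lemma baseSupp_coe_injective {i k : ι} (h : (b.baseSupp i : H → K) = (b.baseSupp k : H → K)) :
    i = k :=
  b.linearIndependent_baseSupp.injective (DFunLike.coe_injective h)

include hρ htop hN hj in
lemma threeDim_structure (W : Submodule K L) (hW : Module.finrank K W = 3)
    (hst : ∀ x ∈ H.toSubmodule ⊔ (b.borelUpper : Submodule K L), ∀ w ∈ W, ⁅x, w⁆ ∈ W) :
    ∃ (i : ι) (v0 v1 v2 : L) (s t : K), i ≠ j ∧ s ≠ 0 ∧ t ≠ 0 ∧ v0 ∈ W ∧ v1 ∈ W ∧ v2 ∈ W ∧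
      v0 ∈ rootSpace H ρ ∧ v1 ∈ rootSpace H (ρ - (b.baseSupp j : H → K)) ∧
      v2 ∈ rootSpace H (ρ - (b.baseSupp j : H → K) - (b.baseSupp i : H → K)) ∧
      (∀ w ∈ W, ∃ a0 a1 a2 : K, w = a0 • v0 + a1 • v1 + a2 • v2) ∧
      ⁅b.e j, v0⁆ = 0 ∧ ⁅b.e j, v1⁆ = s • v0 ∧ ⁅b.e j, v2⁆ = 0 ∧
      ⁅b.e i, v0⁆ = 0 ∧ ⁅b.e i, v1⁆ = 0 ∧ ⁅b.e i, v2⁆ = t • v1 := by
  have hρ0 := rho_ne_zero b ρ j hj
  have hρ1 := rho_sub_ne_zero b ρ j hj
  obtain ⟨hH, hE⟩ := (stable_iff b W).mp hst
  obtain ⟨-, i, hij, hA, hWeq⟩ := threeDim b ρ hρ htop j hN hj W hW hst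
  have hρi : ρ (b.h' i) = 0 := by
    by_contra h
    exact hij ((hN i).mp h)
  have hχ20 := rho_sub_sub_ne_zero b ρ hρ htop j hρi
  set χ1 : H → K := ρ - (b.baseSupp j : H → K) with hχ1
  set χ2 : H → K := χ1 - (b.baseSupp i : H → K) with hχ2
  have hχ1ne := (rootSpace_sub_ne_bot b ρ hρ htop hj).1
  have hχ2ne : rootSpace H χ2 ≠ ⊥ := by
    intro h
    rw [h, LieSubmodule.bot_toSubmodule, sup_bot_eq] at hWeq
    have := (twoDim_stable b ρ hρ htop j hN hj).1
    rw [← hWeq, hW] at this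
    omega
  obtain ⟨v0, hv0, hv00⟩ := exists_ne_zero_of_ne_bot ρ hρ
  obtain ⟨v1, hv1, hv10⟩ := exists_ne_zero_of_ne_bot χ1 hχ1ne
  obtain ⟨v2, hv2, hv20⟩ := exists_ne_zero_of_ne_bot χ2 hχ2ne
  have hs0 := rootSpace_eq_span ρ hρ0 hv0 hv00
  have hs1 := rootSpace_eq_span χ1 hρ1 hv1 hv10
  have hs2 := rootSpace_eq_span χ2 hχ20 hv2 hv20
  have hWle : W ≤ (rootSpace H ρ : Submodule K L) ⊔ (rootSpace H χ1 : Submodule K L) ⊔
      (rootSpace H χ2 : Submodule K L) := hWeq.le
  have hv0W : v0 ∈ W := by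
    rw [hWeq]; exact Submodule.mem_sup_left (Submodule.mem_sup_left hv0)
  have hv1W : v1 ∈ W := by
    rw [hWeq]; exact Submodule.mem_sup_left (Submodule.mem_sup_right hv1)
  have hv2W : v2 ∈ W := by
    rw [hWeq]; exact Submodule.mem_sup_right hv2
  -- `e_j v1`
  have hχ1ρ : χ1 ≠ ρ := by
    intro h
    apply baseSupp_ne_zero b j
    have h2 : ρ - χ1 = 0 := by rw [h]; abel
    rw [← h2, hχ1]; abel
  have hχ2ρ : χ2 ≠ ρ := by
    intro h
    apply baseSupp_add_ne_zero b j i
    have h2 : ρ - χ2 = 0 := by rw [h]; abel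
    rw [← h2, hχ2, hχ1]; abel
  obtain ⟨s, hs, hs'⟩ : ∃ s : K, s ≠ 0 ∧ ⁅b.e j, v1⁆ = s • v0 := by
    obtain ⟨k, hk⟩ := exists_raise b ρ hρ htop hχ1ρ hv1 hv10
    have hkj : k = j := by
      by_contra hkj
      have h1 : ⁅b.e k, v1⁆ ∈ rootSpace H ((b.baseSupp k : H → K) + χ1) :=
        lie_mem_genWeightSpace_of_mem_genWeightSpace (e_mem b k) hv1
      have e : (b.baseSupp k : H → K) + χ1 =
          ρ - (b.baseSupp j : H → K) + (b.baseSupp k : H → K) := by rw [hχ1]; abel
      rw [e, rootSpace_sub_add_eq_bot b ρ hρ htop hj hkj] at h1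
      exact hk (by simpa using h1)
    subst hkj
    have h1 : ⁅b.e k, v1⁆ ∈ rootSpace H ((b.baseSupp k : H → K) + χ1) :=
      lie_mem_genWeightSpace_of_mem_genWeightSpace (e_mem b k) hv1
    have e : (b.baseSupp k : H → K) + χ1 = ρ := by rw [hχ1]; abel
    rw [e, ← LieSubmodule.mem_toSubmodule, hs0, Submodule.mem_span_singleton] at h1
    obtain ⟨s, hs⟩ := h1
    refine ⟨s, ?_, hs.symm⟩
    rintro rfl
    rw [zero_smul] at hs
    exact hk hs.symm
  obtain ⟨t, ht, ht'⟩ : ∃ t : K, t ≠ 0 ∧ ⁅b.e i, v2⁆ = t • v1 := by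
    obtain ⟨k, hk⟩ := exists_raise b ρ hρ htop hχ2ρ hv2 hv20
    have h1 : ⁅b.e k, v2⁆ ∈ rootSpace H ((b.baseSupp k : H → K) + χ2) :=
      lie_mem_genWeightSpace_of_mem_genWeightSpace (e_mem b k) hv2
    have hki : k = i := by
      rcases mem_triple_of_mem_sup h1 hk (hWle (hE k v2 hv2W)) with h | h | h
      · exfalso
        obtain ⟨x₀, hx₀⟩ := exists_height b
        have := congr_fun h x₀
        simp only [hχ2, hχ1, Pi.add_apply, Pi.sub_apply, hx₀] at this
        have h2 : (1 : K) = 0 := by linear_combination -this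
        exact one_ne_zero h2
      · apply baseSupp_coe_injective b
        have h2 : (b.baseSupp k : H → K) + χ2 - χ2 = χ1 - χ2 := by rw [h]
        have e1 : (b.baseSupp k : H → K) + χ2 - χ2 = (b.baseSupp k : H → K) := by abel
        have e2 : χ1 - χ2 = (b.baseSupp i : H → K) := by rw [hχ2]; abel
        rw [← e1, h2, e2]
      · exfalso
        apply baseSupp_ne_zero b k
        have h2 : (b.baseSupp k : H → K) + χ2 - χ2 = 0 := by rw [h]; abel
        rw [← h2]; abel
    subst hki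
    have e : (b.baseSupp k : H → K) + χ2 = χ1 := by rw [hχ2]; abel
    rw [e, ← LieSubmodule.mem_toSubmodule, hs1, Submodule.mem_span_singleton] at h1
    obtain ⟨t, ht⟩ := h1
    refine ⟨t, ?_, ht.symm⟩
    rintro rfl
    rw [zero_smul] at ht
    exact hk ht.symm
  refine ⟨i, v0, v1, v2, s, t, hij, hs, ht, hv0W, hv1W, hv2W, hv0, hv1, hv2, ?_,
    lie_e_eq_zero_of_mem_top b ρ htop hv0 j, hs', ?_,
    lie_e_eq_zero_of_mem_top b ρ htop hv0 i, ?_, ht'⟩
  · intro w hw
    rw [hWeq, hs0, hs1, hs2] at hw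
    obtain ⟨y, hy, z, hz, rfl⟩ := Submodule.mem_sup.mp hw
    obtain ⟨y0, hy0, y1, hy1, rfl⟩ := Submodule.mem_sup.mp hy
    obtain ⟨a0, rfl⟩ := Submodule.mem_span_singleton.mp hy0
    obtain ⟨a1, rfl⟩ := Submodule.mem_span_singleton.mp hy1
    obtain ⟨a2, rfl⟩ := Submodule.mem_span_singleton.mp hz
    exact ⟨a0, a1, a2, rfl⟩
  · have h1 : ⁅b.e j, v2⁆ ∈ rootSpace H ((b.baseSupp j : H → K) + χ2) :=
      lie_mem_genWeightSpace_of_mem_genWeightSpace (e_mem b j) hv2
    have e : (b.baseSupp j : H → K) + χ2 = ρ - (b.baseSupp i : H → K) := by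
      rw [hχ2, hχ1]; abel
    rw [e, rootSpace_sub_eq_bot b ρ hρ htop hρi] at h1
    simpa using h1
  · have h1 : ⁅b.e i, v1⁆ ∈ rootSpace H ((b.baseSupp i : H → K) + χ1) :=
      lie_mem_genWeightSpace_of_mem_genWeightSpace (e_mem b i) hv1
    have e : (b.baseSupp i : H → K) + χ1 =
        ρ - (b.baseSupp j : H → K) + (b.baseSupp i : H → K) := by rw [hχ1]; abel
    rw [e, rootSpace_sub_add_eq_bot b ρ hρ htop hj hij] at h1
    simpa using h1

section Quadratic

omit [CharZero K] [IsAlgClosed K] [FiniteDimensional K L] [LieAlgebra.IsSimple K L] in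
lemma polarize {W : Submodule K L} (q : QuadraticForm K W) (x : L) (hx : ∀ w ∈ W, ⁅x, w⁆ ∈ W)
    (c : K) (hc : ∀ w : W, QuadraticMap.polar q ⟨⁅x, (w : L)⁆, hx w w.2⟩ w = c * q w) (w w' : W) :
    QuadraticMap.polar q ⟨⁅x, (w : L)⁆, hx w w.2⟩ w' +
      QuadraticMap.polar q ⟨⁅x, (w' : L)⁆, hx w' w'.2⟩ w = c * QuadraticMap.polar q w w' := by
  have h := hc (w + w')
  have e : (⟨⁅x, ((w + w' : W) : L)⁆, hx _ (w + w').2⟩ : W) =
      ⟨⁅x, (w : L)⁆, hx w w.2⟩ + ⟨⁅x, (w' : L)⁆, hx w' w'.2⟩ := by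
    apply Subtype.ext
    simp [lie_add]
  rw [e, QuadraticMap.polar_add_left, QuadraticMap.polar_add_right, QuadraticMap.polar_add_right,
    hc w, hc w'] at h
  have e2 : q (w + w') = q w + q w' + QuadraticMap.polar q w w' := by
    simp only [QuadraticMap.polar]; ring
  rw [e2] at h
  linear_combination h

omit [IsAlgClosed K] [LieRing L] [LieAlgebra K L] [FiniteDimensional K L]
  [LieAlgebra.IsSimple K L] in
/-- a quadratic form whose polar form vanishes on all pairs of a spanning triple except one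
diagonal pair is a multiple of the square of a linear form. -/
lemma quadratic_of_single {W : Type*} [AddCommGroup W] [Module K W] (q : QuadraticForm K W)
    (V : Fin 3 → W) (hdec : ∀ w : W, ∃ a : Fin 3 → K, w = ∑ s, a s • V s) (s₀ : Fin 3)
    (hz : ∀ s t, (s ≠ s₀ ∨ t ≠ s₀) → QuadraticMap.polar q (V s) (V t) = 0) :
    ∃ (ℓ : Module.Dual K W) (c : K), ∀ w : W, q w = c * ℓ w ^ 2 := by
  set β := QuadraticMap.polar q (V s₀) (V s₀) with hβ
  refine ⟨QuadraticMap.polarBilin q (V s₀), (2 * β)⁻¹, fun w => ?_⟩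
  obtain ⟨a, rfl⟩ := hdec w
  have h1 : QuadraticMap.polarBilin q (V s₀) (∑ s, a s • V s) = a s₀ * β := by
    rw [map_sum, Finset.sum_eq_single s₀]
    · simp [hβ]
    · intro t _ ht
      rw [map_smul, QuadraticMap.polarBilin_apply_apply, hz s₀ t (Or.inr ht), smul_zero]
    · intro h; exact absurd (Finset.mem_univ _) h
  have h2 : QuadraticMap.polarBilin q (∑ s, a s • V s) (∑ s, a s • V s) = a s₀ * (a s₀ * β) := by
    rw [LinearMap.map_sum₂, Finset.sum_eq_single s₀]
    · rw [map_smul, LinearMap.smul_apply, h1, smul_eq_mul]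
    · intro t _ ht
      rw [map_smul, LinearMap.smul_apply, map_sum]
      rw [Finset.sum_eq_zero, smul_zero]
      intro u _
      rw [map_smul, QuadraticMap.polarBilin_apply_apply, hz t u (Or.inl ht), smul_zero]
    · intro h; exact absurd (Finset.mem_univ _) h
  have h3 : QuadraticMap.polarBilin q (∑ s, a s • V s) (∑ s, a s • V s) =
      2 * q (∑ s, a s • V s) := by
    rw [QuadraticMap.polarBilin_apply_apply, QuadraticMap.polar_self, two_nsmul, two_mul]
  rw [h1]
  have h4 : q (∑ s, a s • V s) = a s₀ * (a s₀ * β) / 2 := by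
    rw [← h2, h3]; ring
  rw [h4]
  by_cases hβ0 : β = 0
  · simp [hβ0]
  · field_simp

end Quadratic

include hρ htop hN hj in
theorem quadratic_rank_le_one (W : Submodule K L) (hW : Module.finrank K W = 3)
    (hst : ∀ x ∈ H.toSubmodule ⊔ (b.borelUpper : Submodule K L), ∀ w ∈ W, ⁅x, w⁆ ∈ W)
    (q : QuadraticForm K W)
    (hq : ∀ (x : L) (hx : x ∈ H.toSubmodule ⊔ (b.borelUpper : Submodule K L)), ∃ c : K, ∀ w : W,
      QuadraticMap.polar q ⟨⁅x, (w : L)⁆, hst x hx w w.property⟩ w = c * q w) :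
    ∃ (ℓ : Module.Dual K W) (c : K), ∀ w : W, q w = c * ℓ w ^ 2 := by
  obtain ⟨i, v0, v1, v2, s, t, hij, hs, ht, hv0W, hv1W, hv2W, hv0, hv1, hv2, hdec, he0, he1, he2,
    hi0, hi1, hi2⟩ := threeDim_structure b ρ hρ htop j hN hj W hW hst
  set V0 : W := ⟨v0, hv0W⟩ with hV0
  set V1 : W := ⟨v1, hv1W⟩ with hV1
  set V2 : W := ⟨v2, hv2W⟩ with hV2
  -- polarised semi-invariance
  have hpol : ∀ (x : L) (hx : x ∈ H.toSubmodule ⊔ (b.borelUpper : Submodule K L)), ∃ c : K,
      ∀ w w' : W, QuadraticMap.polar q ⟨⁅x, (w : L)⁆, hst x hx w w.2⟩ w' +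
        QuadraticMap.polar q ⟨⁅x, (w' : L)⁆, hst x hx w' w'.2⟩ w =
          c * QuadraticMap.polar q w w' := by
    intro x hx
    obtain ⟨c, hc⟩ := hq x hx
    exact ⟨c, polarize q x (hst x hx) c hc⟩
  -- the Cartan part: weights of nonzero coefficients agree
  have hsep : ∀ (u u' y y' : W) (μ μ' ν ν' : H → K), (u : L) ∈ rootSpace H μ →
      (u' : L) ∈ rootSpace H μ' → (y : L) ∈ rootSpace H ν → (y' : L) ∈ rootSpace H ν' →
      QuadraticMap.polar q u u' ≠ 0 → QuadraticMap.polar q y y' ≠ 0 →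
      ∀ h : H, μ h + μ' h = ν h + ν' h := by
    intro u u' y y' μ μ' ν ν' hu hu' hy hy' hb hb' h
    obtain ⟨c, hc⟩ := hpol (h : L) (Submodule.mem_sup_left h.2)
    have key : ∀ (u u' : W) (μ μ' : H → K), (u : L) ∈ rootSpace H μ →
        (u' : L) ∈ rootSpace H μ' → QuadraticMap.polar q u u' ≠ 0 → μ h + μ' h = c := by
      intro u u' μ μ' hu hu' hb
      have h1 := hc u u'
      have e1 : (⟨⁅(h : L), (u : L)⁆, hst _ (Submodule.mem_sup_left h.2) u u.2⟩ : W) = μ h • u :=
        Subtype.ext (IsKilling.lie_eq_smul_of_mem_rootSpace hu h)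
      have e2 : (⟨⁅(h : L), (u' : L)⁆, hst _ (Submodule.mem_sup_left h.2) u' u'.2⟩ : W) =
          μ' h • u' :=
        Subtype.ext (IsKilling.lie_eq_smul_of_mem_rootSpace hu' h)
      rw [e1, e2, QuadraticMap.polar_smul_left, QuadraticMap.polar_smul_left,
        QuadraticMap.polar_comm q u' u, smul_eq_mul, smul_eq_mul] at h1
      have h2 : (μ h + μ' h - c) * QuadraticMap.polar q u u' = 0 := by linear_combination h1
      rcases mul_eq_zero.mp h2 with h3 | h3
      · linear_combination h3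
      · exact absurd h3 hb
    rw [key u u' μ μ' hu hu' hb, key y y' ν ν' hy hy' hb']
  have hV0m : (V0 : L) ∈ rootSpace H ρ := hv0
  have hV1m : (V1 : L) ∈ rootSpace H (ρ - (b.baseSupp j : H → K)) := hv1
  have hV2m : (V2 : L) ∈
      rootSpace H (ρ - (b.baseSupp j : H → K) - (b.baseSupp i : H → K)) := hv2
  have hαj : (b.baseSupp j : H → K) (b.h' j) = 2 := baseSupp_h'_self b j
  have hαi : (b.baseSupp i : H → K) (b.h' i) = 2 := baseSupp_h'_self b i
  -- relations from `e_j` and `e_i`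
  obtain ⟨cj, hcj⟩ := hpol (b.e j)
    (Submodule.mem_sup_right (LieSubalgebra.subset_lieSpan (Set.mem_range_self j)))
  obtain ⟨ci, hci⟩ := hpol (b.e i)
    (Submodule.mem_sup_right (LieSubalgebra.subset_lieSpan (Set.mem_range_self i)))
  have ej1 : ∀ hh, (⟨⁅b.e j, (V1 : L)⁆, hh⟩ : W) = s • V0 := fun hh => Subtype.ext he1
  have ej2 : ∀ hh, (⟨⁅b.e j, (V2 : L)⁆, hh⟩ : W) = 0 := fun hh => Subtype.ext he2
  have ei2 : ∀ hh, (⟨⁅b.e i, (V2 : L)⁆, hh⟩ : W) = t • V1 := fun hh => Subtype.ext hi2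
  have R1 : 2 * s * QuadraticMap.polar q V0 V1 = cj * QuadraticMap.polar q V1 V1 := by
    have := hcj V1 V1
    rw [ej1, QuadraticMap.polar_smul_left, smul_eq_mul] at this
    linear_combination this
  have R2 : s * QuadraticMap.polar q V0 V2 = cj * QuadraticMap.polar q V1 V2 := by
    have := hcj V1 V2
    rw [ej1, ej2, QuadraticMap.polar_smul_left, smul_eq_mul, QuadraticMap.polar_zero_left] at this
    linear_combination this
  have R3 : 2 * t * QuadraticMap.polar q V1 V2 = ci * QuadraticMap.polar q V2 V2 := by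
    have := hci V2 V2
    rw [ei2, QuadraticMap.polar_smul_left, smul_eq_mul] at this
    linear_combination this
  -- off-diagonal coefficients vanish
  have b01 : QuadraticMap.polar q V0 V1 = 0 := by
    by_contra h01
    have b11 : QuadraticMap.polar q V1 V1 = 0 := by
      by_contra h11
      have := hsep V0 V1 V1 V1 _ _ _ _ hV0m hV1m hV1m hV1m h01 h11 (b.h' j)
      simp only [Pi.sub_apply, hαj, hj] at this
      norm_num at this
    rw [b11, mul_zero] at R1
    rcases mul_eq_zero.mp R1 with h | h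
    · rcases mul_eq_zero.mp h with h | h
      · norm_num at h
      · exact hs h
    · exact h01 h
  have b02 : QuadraticMap.polar q V0 V2 = 0 := by
    by_contra h02
    have b12 : QuadraticMap.polar q V1 V2 = 0 := by
      by_contra h12
      have := hsep V0 V2 V1 V2 _ _ _ _ hV0m hV2m hV1m hV2m h02 h12 (b.h' j)
      simp only [Pi.sub_apply, hαj, hj] at this
      have h2 : (2 : K) = 0 := by linear_combination this
      norm_num at h2
    rw [b12, mul_zero] at R2
    rcases mul_eq_zero.mp R2 with h | h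
    · exact hs h
    · exact h02 h
  have b12 : QuadraticMap.polar q V1 V2 = 0 := by
    by_contra h12
    have b22 : QuadraticMap.polar q V2 V2 = 0 := by
      by_contra h22
      have := hsep V1 V2 V2 V2 _ _ _ _ hV1m hV2m hV2m hV2m h12 h22 (b.h' i)
      simp only [Pi.sub_apply, hαi] at this
      have h2 : (2 : K) = 0 := by linear_combination this
      norm_num at h2
    rw [b22, mul_zero] at R3
    rcases mul_eq_zero.mp R3 with h | h
    · rcases mul_eq_zero.mp h with h | h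
      · norm_num at h
      · exact ht h
    · exact h12 h
  have b10 : QuadraticMap.polar q V1 V0 = 0 := by rw [QuadraticMap.polar_comm]; exact b01
  have b20 : QuadraticMap.polar q V2 V0 = 0 := by rw [QuadraticMap.polar_comm]; exact b02
  have b21 : QuadraticMap.polar q V2 V1 = 0 := by rw [QuadraticMap.polar_comm]; exact b12
  -- at most one diagonal coefficient is nonzero
  have d01 : QuadraticMap.polar q V0 V0 ≠ 0 → QuadraticMap.polar q V1 V1 = 0 := by
    intro h00
    by_contra h11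
    have := hsep V0 V0 V1 V1 _ _ _ _ hV0m hV0m hV1m hV1m h00 h11 (b.h' j)
    simp only [Pi.sub_apply, hαj, hj] at this
    norm_num at this
  have d02 : QuadraticMap.polar q V0 V0 ≠ 0 → QuadraticMap.polar q V2 V2 = 0 := by
    intro h00
    by_contra h22
    obtain ⟨x₀, hx₀⟩ := exists_height b
    have := hsep V0 V0 V2 V2 _ _ _ _ hV0m hV0m hV2m hV2m h00 h22 x₀
    simp only [Pi.sub_apply, hx₀] at this
    have h2 : (4 : K) = 0 := by linear_combination this
    norm_num at h2
  have d12 : QuadraticMap.polar q V1 V1 ≠ 0 → QuadraticMap.polar q V2 V2 = 0 := by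
    intro h11
    by_contra h22
    have := hsep V1 V1 V2 V2 _ _ _ _ hV1m hV1m hV2m hV2m h11 h22 (b.h' i)
    simp only [Pi.sub_apply, hαi] at this
    have h2 : (4 : K) = 0 := by linear_combination this
    norm_num at h2
  -- decomposition
  have hdec' : ∀ w : W, ∃ a : Fin 3 → K, w = ∑ s, a s • (![V0, V1, V2] : Fin 3 → W) s := by
    intro w
    obtain ⟨a0, a1, a2, hw⟩ := hdec w w.2
    refine ⟨![a0, a1, a2], Subtype.ext ?_⟩
    rw [Fin.sum_univ_three]
    simpa using hw
  have hself : ∀ u : W, QuadraticMap.polar q u u = 0 → q u = 0 := by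
    intro u hu
    rw [QuadraticMap.polar_self] at hu
    simpa using hu
  by_cases h00 : QuadraticMap.polar q V0 V0 = 0
  · by_cases h11 : QuadraticMap.polar q V1 V1 = 0
    · have h00' := hself V0 h00
      have h11' := hself V1 h11
      refine quadratic_of_single q ![V0, V1, V2] hdec' 2 ?_
      intro s t hst'
      fin_cases s <;> fin_cases t <;> simp at hst' ⊢ <;> assumption
    · have h22 := d12 h11
      have h00' := hself V0 h00
      have h22' := hself V2 h22
      refine quadratic_of_single q ![V0, V1, V2] hdec' 1 ?_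
      intro s t hst'
      fin_cases s <;> fin_cases t <;> simp at hst' ⊢ <;> assumption
  · have h11 := d01 h00
    have h22 := d02 h00
    have h11' := hself V1 h11
    have h22' := hself V2 h22
    refine quadratic_of_single q ![V0, V1, V2] hdec' 0 ?_
    intro s t hst'
    fin_cases s <;> fin_cases t <;> simp at hst' ⊢ <;> assumption

end Groth.Agent.Lib.R2H4.AdjVar4
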