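/-
R2H4AdjVarFive: the five-dimensional subalgebra generated by the root spaces of `ρ`, `-ρ`, `ρ - α_j`
and its radical. Used for S17433.
-/
import Mathlib
import Groth.Agent.Lib.R2H4AdjVarConic

set_option autoImplicit false
set_option linter.unusedSectionVars false
universe u v w
open LieAlgebra LieModule

namespace Groth.Agent.Lib.R2H4.AdjVar5

open Groth.Agent.Lib.R2H4.AdjVar Groth.Agent.Lib.R2H4.AdjVar3 Groth.Agent.Lib.R2H4.AdjVar4

variable {ι : Type u} {K : Type v} {L : Type w} [Fintype ι] [Field K] [CharZero K]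
    [IsAlgClosed K] [LieRing L] [LieAlgebra K L] [FiniteDimensional K L] [LieAlgebra.IsSimple K L]
    {H : LieSubalgebra K L} [H.IsCartanSubalgebra] (b : LieAlgebra.Basis ι H)

variable (ρ : H → K) (hρ : rootSpace H ρ ≠ ⊥)
  (htop : ∀ i, rootSpace H (ρ + (b.baseSupp i : H → K)) = ⊥)
  (j : ι) (hN : ∀ i, ρ (b.h' i) ≠ 0 ↔ i = j) (hj : ρ (b.h' j) = 1)

/-- if `-χ` is a weight then so is `χ`. -/
lemma rootSpace_neg_ne_bot {χ : H → K} (h : rootSpace H (-χ) ≠ ⊥) : rootSpace H χ ≠ ⊥ := by
  set w : Weight K H L := ⟨-χ, h⟩ with hw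
  have := (-w).genWeightSpace_ne_bot
  have e : ((-w : Weight K H L) : H → K) = χ := by
    rw [Weight.coe_neg, hw]; simp
  rwa [e] at this

include htop in
lemma rootSpace_neg_sub_eq_bot (i : ι) :
    rootSpace H (-ρ - (b.baseSupp i : H → K)) = ⊥ := by
  by_contra h
  have e : -ρ - (b.baseSupp i : H → K) = -(ρ + (b.baseSupp i : H → K)) := by abel
  rw [e] at h
  exact rootSpace_neg_ne_bot h (htop i)

include hρ htop hj in
lemma rootSpace_two_rho_sub_eq_bot :
    rootSpace H (ρ + (ρ - (b.baseSupp j : H → K))) = ⊥ := by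
  by_contra hcon
  obtain ⟨vρ, hvρ, hvρ0⟩ := exists_ne_zero_of_ne_bot ρ hρ
  have hve := lie_e_eq_zero_of_mem_top b ρ htop hvρ
  obtain ⟨n, hn⟩ := all_weights b ρ hvρ hvρ0 hve _ hcon
  obtain ⟨m, hm⟩ := all_weights b ρ hvρ hvρ0 hve (b.baseSupp j : H → K)
    (ne_bot_of_mem_ne_zero _ (e_mem b j) (b.sl2 j).e_ne_zero)
  obtain ⟨x₀, hx₀⟩ := exists_height b
  have h1 := congr_fun hn x₀
  have h2 := congr_fun hm x₀
  rw [wt_apply_sum] at h1 h2
  simp only [hx₀, mul_one, Pi.add_apply, Pi.sub_apply] at h1 h2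
  have h3 : ((∑ i, n i + ∑ i, m i : ℕ) : K) = 0 := by
    push_cast
    linear_combination h1 + h2
  have h4 : ∑ i, n i + ∑ i, m i = 0 := by exact_mod_cast h3
  have h5 : ∀ i, m i = 0 := by
    intro i
    have : ∑ i, m i = 0 := by omega
    exact Finset.sum_eq_zero_iff.mp this i (Finset.mem_univ i)
  have h6 : m = 0 := funext h5
  rw [h6, wt_zero] at hm
  have := congr_fun hm (b.h' j)
  rw [baseSupp_h'_self, hj] at this
  norm_num at this

/-- the five vectors spanning the subalgebra, with their structure constants. -/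
structure Frame (e f h u g : L) : Prop where
  he : e ∈ rootSpace H ρ
  hf : f ∈ rootSpace H (-ρ)
  hh : h ∈ H
  hu : u ∈ rootSpace H (ρ - (b.baseSupp j : H → K))
  hg : g ∈ rootSpace H (-(b.baseSupp j : H → K))
  e0 : e ≠ 0
  f0 : f ≠ 0
  h0 : h ≠ 0
  u0 : u ≠ 0
  g0 : g ≠ 0
  ef : ⁅e, f⁆ = h
  h_e : ⁅h, e⁆ = (2 : K) • e
  h_f : ⁅h, f⁆ = -((2 : K) • f)
  h_u : ⁅h, u⁆ = u
  h_g : ⁅h, g⁆ = -g
  e_u : ⁅e, u⁆ = 0
  e_g : ⁅e, g⁆ = -u
  f_u : ⁅f, u⁆ = -g
  f_g : ⁅f, g⁆ = 0
  u_g : ⁅u, g⁆ = 0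

include hρ htop hN hj in
lemma exists_frame : ∃ e f h u g : L, Frame b ρ j e f h u g := by
  have hρ0 := rho_ne_zero b ρ j hj
  set ρw : Weight K H L := ⟨ρ, hρ⟩ with hρw
  have hnz : ρw.IsNonZero := fun h => hρ0 h
  obtain ⟨h, e, f, t, he, hf⟩ := IsKilling.exists_isSl2Triple_of_weight_isNonZero hnz
  have hcor := t.h_eq_coroot hnz he hf
  have he' : e ∈ rootSpace H ρ := he
  have hf' : f ∈ rootSpace H (-ρ) := hf
  set g : L := b.f j with hg
  set u : L := ⁅g, e⁆ with hu
  have hgm : g ∈ rootSpace H (-(b.baseSupp j : H → K)) := f_mem b j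
  have hum : u ∈ rootSpace H (ρ - (b.baseSupp j : H → K)) := by
    have := lie_mem_genWeightSpace_of_mem_genWeightSpace hgm he'
    have e1 : -(b.baseSupp j : H → K) + ρ = ρ - (b.baseSupp j : H → K) := by abel
    rwa [e1] at this
  -- `u ≠ 0` by `sl₂`-theory for the simple root `α_j`
  have hu0 : u ≠ 0 := by
    have hp : (b.sl2 j).HasPrimitiveVectorWith e (1 : K) := by
      refine ⟨t.e_ne_zero, ?_, lie_e_eq_zero_of_mem_top b ρ htop he' j⟩
      have := IsKilling.lie_eq_smul_of_mem_rootSpace he' (b.h' j)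
      rw [hj] at this
      exact this
    have := hp.pow_toEnd_f_ne_zero_of_eq_nat (n := 1) (by norm_num) (le_refl 1)
    simpa using this
  -- the value of `α_j` on the coroot of `ρ`
  have ha : (b.baseSupp j : H → K) (IsKilling.coroot ρw) = 1 := by
    set β : Weight K H L := -(αw b j) with hβ
    have hβc : (β : H → K) = -(b.baseSupp j : H → K) := by
      rw [hβ, Weight.coe_neg, coe_αw]
    have key := fun n => IsKilling.rootSpace_zsmul_add_ne_bot_iff ρw β hnz n
    have k1 := (key 1).mp (by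
      have e1 : (1 : ℤ) • (ρw : H → K) + (β : H → K) = ρ - (b.baseSupp j : H → K) := by
        rw [hβc, one_smul]; change ρ + _ = _; abel
      rw [e1]; exact (rootSpace_sub_ne_bot b ρ hρ htop hj).1)
    have k2 : ¬ ((2 : ℤ) ≤ chainTopCoeff (ρw : H → K) β ∧
        -(2 : ℤ) ≤ chainBotCoeff (ρw : H → K) β) := by
      rw [← key 2]
      have e1 : (2 : ℤ) • (ρw : H → K) + (β : H → K) = ρ + (ρ - (b.baseSupp j : H → K)) := by
        rw [hβc, two_smul]; change ρ + ρ + _ = _; abel
      rw [e1, not_not]; exact rootSpace_two_rho_sub_eq_bot b ρ hρ htop j hj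
    have k3 : ¬ ((-1 : ℤ) ≤ chainTopCoeff (ρw : H → K) β ∧
        -(-1 : ℤ) ≤ chainBotCoeff (ρw : H → K) β) := by
      rw [← key (-1)]
      have e1 : (-1 : ℤ) • (ρw : H → K) + (β : H → K) = -ρ - (b.baseSupp j : H → K) := by
        rw [hβc, neg_smul, one_smul]; change -ρ + _ = _; abel
      rw [e1, not_not]; exact rootSpace_neg_sub_eq_bot b ρ htop j
    have hcast := IsKilling.apply_coroot_eq_cast ρw β
    have htop1 : chainTopCoeff (ρw : H → K) β = 1 := by omega
    have hbot0 : chainBotCoeff (ρw : H → K) β = 0 := by omega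
    rw [htop1, hbot0] at hcast
    have e2 : β (IsKilling.coroot ρw) = -((b.baseSupp j : H → K) (IsKilling.coroot ρw)) := by
      have := congr_fun hβc (IsKilling.coroot ρw)
      simpa using this
    rw [e2] at hcast
    have : (b.baseSupp j : H → K) (IsKilling.coroot ρw) = 1 := by
      have h3 : -((b.baseSupp j : H → K) (IsKilling.coroot ρw)) = -1 := by
        rw [hcast]; norm_num
      linear_combination -h3
    exact this
  have hρc : ρ (IsKilling.coroot ρw) = 2 := IsKilling.root_apply_coroot hnz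
  have hbr : ∀ (χ : H → K) (x : L), x ∈ rootSpace H χ → ⁅h, x⁆ = χ (IsKilling.coroot ρw) • x := by
    intro χ x hx
    rw [hcor]
    exact IsKilling.lie_eq_smul_of_mem_rootSpace hx (IsKilling.coroot ρw)
  have h_g : ⁅h, g⁆ = -g := by
    rw [hbr _ g hgm, Pi.neg_apply, ha, neg_smul, one_smul]
  have f_g : ⁅f, g⁆ = 0 := by
    have : ⁅f, g⁆ ∈ rootSpace H (-ρ + -(b.baseSupp j : H → K)) :=
      lie_mem_genWeightSpace_of_mem_genWeightSpace hf' hgm
    have e1 : -ρ + -(b.baseSupp j : H → K) = -ρ - (b.baseSupp j : H → K) := by abel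
    rw [e1, rootSpace_neg_sub_eq_bot b ρ htop j] at this
    simpa using this
  refine ⟨e, f, h, u, g, he', hf', ?_, hum, hgm, t.e_ne_zero, t.f_ne_zero, t.h_ne_zero, hu0,
    (b.sl2 j).f_ne_zero, t.lie_e_f, t.lie_h_e_smul K, t.lie_lie_smul_f K, ?_, h_g, ?_, ?_, ?_,
    f_g, ?_⟩
  · rw [hcor]; exact (IsKilling.coroot ρw).2
  · rw [hbr _ u hum, Pi.sub_apply, hρc, ha]; norm_num
  · have : ⁅e, u⁆ ∈ rootSpace H (ρ + (ρ - (b.baseSupp j : H → K))) :=
      lie_mem_genWeightSpace_of_mem_genWeightSpace he' hum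
    rw [rootSpace_two_rho_sub_eq_bot b ρ hρ htop j hj] at this
    simpa using this
  · rw [hu, ← lie_skew]
  · rw [hu, leibniz_lie, f_g, zero_lie, zero_add, ← lie_skew f e, t.lie_e_f, lie_neg, ← lie_skew,
      h_g, neg_neg]
  · have : ⁅u, g⁆ ∈ rootSpace H (ρ - (b.baseSupp j : H → K) + -(b.baseSupp j : H → K)) :=
      lie_mem_genWeightSpace_of_mem_genWeightSpace hum hgm
    have e1 : ρ - (b.baseSupp j : H → K) + -(b.baseSupp j : H → K) =
        ρ - (b.baseSupp j : H → K) - (b.baseSupp j : H → K) := by abel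
    rw [e1, (rootSpace_sub_ne_bot b ρ hρ htop hj).2] at this
    simpa using this

namespace Frame

variable {b ρ j}
variable {e f h u g : L} (F : Frame b ρ j e f h u g)

include F

lemma f_e : ⁅f, e⁆ = -h := by rw [← lie_skew, F.ef]
lemma e_h : ⁅e, h⁆ = -((2 : K) • e) := by rw [← lie_skew, F.h_e]
lemma f_h : ⁅f, h⁆ = (2 : K) • f := by rw [← lie_skew, F.h_f, neg_neg]
lemma u_h : ⁅u, h⁆ = -u := by rw [← lie_skew, F.h_u]
lemma g_h : ⁅g, h⁆ = g := by rw [← lie_skew, F.h_g, neg_neg]
lemma u_e : ⁅u, e⁆ = 0 := by rw [← lie_skew, F.e_u, neg_zero]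
lemma g_e : ⁅g, e⁆ = u := by rw [← lie_skew, F.e_g, neg_neg]
lemma u_f : ⁅u, f⁆ = g := by rw [← lie_skew, F.f_u, neg_neg]
lemma g_f : ⁅g, f⁆ = 0 := by rw [← lie_skew, F.f_g, neg_zero]
lemma g_u : ⁅g, u⁆ = 0 := by rw [← lie_skew, F.u_g, neg_zero]

/-- the span of the five vectors. -/
def span (_ : Frame b ρ j e f h u g) : Submodule K L := Submodule.span K ({e, f, h, u, g} : Set L)

lemma e_mem : e ∈ F.span := Submodule.subset_span (by simp)
lemma f_mem : f ∈ F.span := Submodule.subset_span (by simp)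
lemma h_mem : h ∈ F.span := Submodule.subset_span (by simp)
lemma u_mem : u ∈ F.span := Submodule.subset_span (by simp)
lemma g_mem : g ∈ F.span := Submodule.subset_span (by simp)

lemma lie_gen_mem {x y : L} (hx : x ∈ ({e, f, h, u, g} : Set L))
    (hy : y ∈ ({e, f, h, u, g} : Set L)) : ⁅x, y⁆ ∈ F.span := by
  have he := F.e_mem
  have hf := F.f_mem
  have hh := F.h_mem
  have hu := F.u_mem
  have hg := F.g_mem
  simp only [Set.mem_insert_iff, Set.mem_singleton_iff] at hx hy
  rcases hx with rfl | rfl | rfl | rfl | rfl <;> rcases hy with rfl | rfl | rfl | rfl | rfl <;>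
  first
  | (rw [lie_self]; exact zero_mem _)
  | (rw [F.ef]; exact hh)
  | (rw [F.e_h]; exact neg_mem (Submodule.smul_mem _ _ he))
  | (rw [F.e_u]; exact zero_mem _)
  | (rw [F.e_g]; exact neg_mem hu)
  | (rw [F.f_e]; exact neg_mem hh)
  | (rw [F.f_h]; exact Submodule.smul_mem _ _ hf)
  | (rw [F.f_u]; exact neg_mem hg)
  | (rw [F.f_g]; exact zero_mem _)
  | (rw [F.h_e]; exact Submodule.smul_mem _ _ he)
  | (rw [F.h_f]; exact neg_mem (Submodule.smul_mem _ _ hf))
  | (rw [F.h_u]; exact hu)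
  | (rw [F.h_g]; exact neg_mem hg)
  | (rw [F.u_e]; exact zero_mem _)
  | (rw [F.u_f]; exact hg)
  | (rw [F.u_h]; exact neg_mem hu)
  | (rw [F.u_g]; exact zero_mem _)
  | (rw [F.g_e]; exact hu)
  | (rw [F.g_f]; exact zero_mem _)
  | (rw [F.g_h]; exact hg)
  | (rw [F.g_u]; exact zero_mem _)

lemma lie_mem_span {x y : L} (hx : x ∈ F.span) (hy : y ∈ F.span) : ⁅x, y⁆ ∈ F.span := by
  induction hx using Submodule.span_induction with
  | mem x hx =>
    induction hy using Submodule.span_induction with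
    | mem y hy => exact F.lie_gen_mem hx hy
    | zero => rw [lie_zero]; exact zero_mem _
    | add y z _ _ hy hz => rw [lie_add]; exact add_mem hy hz
    | smul c y _ hy => rw [lie_smul]; exact Submodule.smul_mem _ c hy
  | zero => rw [zero_lie]; exact zero_mem _
  | add x z _ _ hx hz => rw [add_lie]; exact add_mem hx hz
  | smul c x _ hx => rw [smul_lie]; exact Submodule.smul_mem _ c hx

/-- the span as a Lie subalgebra. -/
def subalg : LieSubalgebra K L :=
  { F.span with lie_mem' := fun {x y} hx hy => F.lie_mem_span hx hy }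

lemma mem_subalg {x : L} : x ∈ F.subalg ↔ x ∈ F.span := Iff.rfl

lemma linearIndependent : LinearIndependent K ![e, f, h, u, g] := by
  have hinj : Function.Injective (fun i : Fin 5 => (((![2, -2, 0, 1, -1] : Fin 5 → ℤ) i : ℤ) : K)) :=
    Int.cast_injective.comp (by decide)
  refine Module.End.eigenvectors_linearIndependent' (toEnd K L L h) _ hinj _ ?_
  intro i
  fin_cases i
  · refine ⟨Module.End.mem_eigenspace_iff.mpr ?_, F.e0⟩
    simpa using F.h_e
  · refine ⟨Module.End.mem_eigenspace_iff.mpr ?_, F.f0⟩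
    simpa using F.h_f
  · refine ⟨Module.End.mem_eigenspace_iff.mpr ?_, F.h0⟩
    simp
  · refine ⟨Module.End.mem_eigenspace_iff.mpr ?_, F.u0⟩
    simpa using F.h_u
  · refine ⟨Module.End.mem_eigenspace_iff.mpr ?_, F.g0⟩
    simpa using F.h_g

lemma range_eq : Set.range ![e, f, h, u, g] = ({e, f, h, u, g} : Set L) := by
  ext x
  simp [Matrix.range_cons]
  tauto

lemma finrank_span : Module.finrank K F.span = 5 := by
  have := finrank_span_eq_card F.linearIndependent
  rw [F.range_eq, Fintype.card_fin] at this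
  exact this

/-- the span of `u`, `g`: the radical. -/
def rad (_ : Frame b ρ j e f h u g) : Submodule K L := Submodule.span K ({u, g} : Set L)

lemma rad_le_span : F.rad ≤ F.span :=
  Submodule.span_mono (by
    intro x hx
    simp only [Set.mem_insert_iff, Set.mem_singleton_iff] at hx ⊢
    tauto)

lemma lie_mem_rad {x y : L} (hx : x ∈ F.span) (hy : y ∈ F.rad) : ⁅x, y⁆ ∈ F.rad := by
  have hu : u ∈ F.rad := Submodule.subset_span (by simp)
  have hg : g ∈ F.rad := Submodule.subset_span (by simp)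
  induction hx using Submodule.span_induction with
  | mem x hx =>
    induction hy using Submodule.span_induction with
    | mem y hy =>
      simp only [Set.mem_insert_iff, Set.mem_singleton_iff] at hx hy
      rcases hx with rfl | rfl | rfl | rfl | rfl <;> rcases hy with rfl | rfl <;>
      first
      | (rw [lie_self]; exact zero_mem _)
      | (rw [F.e_u]; exact zero_mem _)
      | (rw [F.e_g]; exact neg_mem hu)
      | (rw [F.f_u]; exact neg_mem hg)
      | (rw [F.f_g]; exact zero_mem _)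
      | (rw [F.h_u]; exact hu)
      | (rw [F.h_g]; exact neg_mem hg)
      | (rw [F.u_g]; exact zero_mem _)
      | (rw [F.g_u]; exact zero_mem _)
    | zero => rw [lie_zero]; exact zero_mem _
    | add y z _ _ hy hz => rw [lie_add]; exact add_mem hy hz
    | smul c y _ hy => rw [lie_smul]; exact Submodule.smul_mem _ c hy
  | zero => rw [zero_lie]; exact zero_mem _
  | add x z _ _ hx hz => rw [add_lie]; exact add_mem hx hz
  | smul c x _ hx => rw [smul_lie]; exact Submodule.smul_mem _ c hx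

lemma lie_eq_zero_of_mem_rad {x y : L} (hx : x ∈ F.rad) (hy : y ∈ F.rad) : ⁅x, y⁆ = 0 := by
  induction hx using Submodule.span_induction with
  | mem x hx =>
    induction hy using Submodule.span_induction with
    | mem y hy =>
      simp only [Set.mem_insert_iff, Set.mem_singleton_iff] at hx hy
      rcases hx with rfl | rfl <;> rcases hy with rfl | rfl <;>
      first
      | exact lie_self _
      | exact F.u_g
      | exact F.g_u
    | zero => rw [lie_zero]
    | add y z _ _ hy hz => rw [lie_add, hy, hz, add_zero]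
    | smul c y _ hy => rw [lie_smul, hy, smul_zero]
  | zero => rw [zero_lie]
  | add x z _ _ hx hz => rw [add_lie, hx, hz, add_zero]
  | smul c x _ hx => rw [smul_lie, hx, smul_zero]

lemma exists_coeff {x : L} (hx : x ∈ F.span) :
    ∃ α β γ δ ε : K, x = α • e + β • f + γ • h + δ • u + ε • g := by
  rw [span, ← F.range_eq, Submodule.mem_span_range_iff_exists_fun] at hx
  obtain ⟨c, hc⟩ := hx
  rw [Fin.sum_univ_five] at hc
  exact ⟨c 0, c 1, c 2, c 3, c 4, hc.symm⟩

lemma comp_ee (α β γ δ ε : K) :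
    ⁅e, ⁅e, α • e + β • f + γ • h + δ • u + ε • g⁆⁆ = (-2 * β) • e := by
  simp only [lie_add, lie_smul, lie_self, F.ef, F.e_h, F.e_u, F.e_g, smul_zero, lie_neg, smul_neg,
    lie_zero, neg_zero, add_zero, zero_add]
  module

lemma comp_ff (α β γ δ ε : K) :
    ⁅f, ⁅f, α • e + β • f + γ • h + δ • u + ε • g⁆⁆ = (-2 * α) • f := by
  simp only [lie_add, lie_smul, lie_self, F.f_e, F.f_h, F.f_u, F.f_g, smul_zero, lie_neg, smul_neg,
    lie_zero, neg_zero, add_zero, zero_add]
  module

lemma comp_ffe (γ δ ε : K) :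
    ⁅f, ⁅f, ⁅e, γ • h + δ • u + ε • g⁆⁆⁆ = (4 * γ) • f := by
  simp only [lie_add, lie_smul, lie_self, F.f_e, F.f_h, F.f_u, F.f_g, F.e_h, F.e_u, F.e_g,
    smul_zero, lie_neg, smul_neg, lie_zero, neg_zero, add_zero, zero_add, neg_neg]
  module

end Frame

/-- a solvable ideal contains no member of an `sl₂`-triple. -/
lemma not_mem_solvable_ideal {A : Type*} [LieRing A] [LieAlgebra K A] (J : LieIdeal K A)
    [IsSolvable J] {hh ee ff : A} (t : IsSl2Triple hh ee ff) : ee ∉ J := by
  intro he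
  have hh' : hh ∈ J := by
    rw [← t.lie_e_f, ← lie_skew]; exact neg_mem (J.lie_mem he)
  have hf : ff ∈ J := by
    have h1 : ⁅ff, hh⁆ ∈ J := J.lie_mem hh'
    rw [← lie_skew, t.lie_lie_smul_f K, neg_neg] at h1
    have : ff = (2 : K)⁻¹ • ((2 : K) • ff) := by
      rw [smul_smul, inv_mul_cancel₀ two_ne_zero, one_smul]
    rw [this]; exact J.smul_mem _ h1
  have key : ∀ k, ee ∈ derivedSeriesOfIdeal K A k J ∧ ff ∈ derivedSeriesOfIdeal K A k J ∧
      hh ∈ derivedSeriesOfIdeal K A k J := by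
    intro k
    induction k with
    | zero => exact ⟨he, hf, hh'⟩
    | succ k ih =>
      obtain ⟨h1, h2, h3⟩ := ih
      rw [derivedSeriesOfIdeal_succ]
      refine ⟨?_, ?_, ?_⟩
      · have : ee = (2 : K)⁻¹ • ⁅hh, ee⁆ := by
          rw [t.lie_h_e_smul K, smul_smul, inv_mul_cancel₀ two_ne_zero, one_smul]
        rw [this]
        exact SMulMemClass.smul_mem _ (LieSubmodule.lie_mem_lie h3 h1)
      · have : ff = (-(2 : K)⁻¹) • ⁅hh, ff⁆ := by
          rw [t.lie_lie_smul_f K, smul_neg, neg_smul, neg_neg, smul_smul,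
            inv_mul_cancel₀ two_ne_zero, one_smul]
        rw [this]
        exact SMulMemClass.smul_mem _ (LieSubmodule.lie_mem_lie h3 h2)
      · rw [← t.lie_e_f]
        exact LieSubmodule.lie_mem_lie h1 h2
  obtain ⟨k, hk⟩ := IsSolvable.solvable K J
  rw [LieIdeal.derivedSeries_eq_bot_iff] at hk
  have := (key k).1
  rw [hk] at this
  exact t.e_ne_zero (by simpa using this)

section Main

variable {e f h u g : L}

include hρ htop hN hj in
lemma lieSpan_eq (F : Frame b ρ j e f h u g) :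
    LieSubalgebra.lieSpan K L ((rootSpace H ρ : Set L) ∪ (rootSpace H (-ρ) : Set L) ∪
      (rootSpace H (ρ - (b.baseSupp j : H → K)) : Set L)) = F.subalg := by
  have hρ0 := rho_ne_zero b ρ j hj
  have hρ1 := rho_sub_ne_zero b ρ j hj
  have hρ2 : -ρ ≠ 0 := by rwa [Ne, neg_eq_zero]
  apply le_antisymm
  · rw [LieSubalgebra.lieSpan_le]
    rintro x ((hx | hx) | hx)
    · have hx' : x ∈ (rootSpace H ρ : Submodule K L) := hx
      rw [rootSpace_eq_span ρ hρ0 F.he F.e0, Submodule.mem_span_singleton] at hx'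
      obtain ⟨c, rfl⟩ := hx'
      exact Submodule.smul_mem _ c F.e_mem
    · have hx' : x ∈ (rootSpace H (-ρ) : Submodule K L) := hx
      rw [rootSpace_eq_span (-ρ) hρ2 F.hf F.f0, Submodule.mem_span_singleton] at hx'
      obtain ⟨c, rfl⟩ := hx'
      exact Submodule.smul_mem _ c F.f_mem
    · have hx' : x ∈ (rootSpace H (ρ - (b.baseSupp j : H → K)) : Submodule K L) := hx
      rw [rootSpace_eq_span _ hρ1 F.hu F.u0, Submodule.mem_span_singleton] at hx'
      obtain ⟨c, rfl⟩ := hx'
      exact Submodule.smul_mem _ c F.u_mem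
  · set A := LieSubalgebra.lieSpan K L ((rootSpace H ρ : Set L) ∪ (rootSpace H (-ρ) : Set L) ∪
      (rootSpace H (ρ - (b.baseSupp j : H → K)) : Set L)) with hA
    have heA : e ∈ A := LieSubalgebra.subset_lieSpan (Or.inl (Or.inl F.he))
    have hfA : f ∈ A := LieSubalgebra.subset_lieSpan (Or.inl (Or.inr F.hf))
    have huA : u ∈ A := LieSubalgebra.subset_lieSpan (Or.inr F.hu)
    have hhA : h ∈ A := by rw [← F.ef]; exact A.lie_mem heA hfA
    have hgA : g ∈ A := by
      have : g = -⁅f, u⁆ := by rw [F.f_u, neg_neg]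
      rw [this]; exact neg_mem (A.lie_mem hfA huA)
    have : F.span ≤ A.toSubmodule := by
      refine Submodule.span_le.mpr ?_
      intro y hy
      simp only [Set.mem_insert_iff, Set.mem_singleton_iff] at hy
      rcases hy with rfl | rfl | rfl | rfl | rfl <;> assumption
    exact fun x hx => this hx

include hρ htop hN hj in
theorem main (A : LieSubalgebra K L)
    (hA : A = LieSubalgebra.lieSpan K L
      ((rootSpace H ρ : Set L) ∪ (rootSpace H (-ρ) : Set L) ∪
        (rootSpace H (ρ - (b.baseSupp j : H → K)) : Set L))) :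
    Module.finrank K A = 5 ∧ Module.finrank K (LieAlgebra.radical K A) = 2 ∧
      (LieAlgebra.radical K A).toSubmodule.map (A.incl : A →ₗ⁅K⁆ L).toLinearMap =
        (rootSpace H (ρ - (b.baseSupp j : H → K)) : Submodule K L) ⊔
          (rootSpace H (-(b.baseSupp j : H → K)) : Submodule K L) := by
  obtain ⟨e, f, h, u, g, F⟩ := exists_frame b ρ hρ htop j hN hj
  have hA' : A = F.subalg := hA.trans (lieSpan_eq b ρ hρ htop j hN hj F)
  subst hA'
  have hρ1 := rho_sub_ne_zero b ρ j hj
  have hαj : -(b.baseSupp j : H → K) ≠ 0 := by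
    rw [Ne, neg_eq_zero]; exact baseSupp_ne_zero b j
  -- the radical, as a subspace of `L`
  have hrad_eq : F.rad = (rootSpace H (ρ - (b.baseSupp j : H → K)) : Submodule K L) ⊔
      (rootSpace H (-(b.baseSupp j : H → K)) : Submodule K L) := by
    rw [rootSpace_eq_span _ hρ1 F.hu F.u0, rootSpace_eq_span _ hαj F.hg F.g0, Frame.rad,
      Submodule.span_insert]
  -- elements of `A`
  set eA : F.subalg := ⟨e, F.e_mem⟩ with heA
  set fA : F.subalg := ⟨f, F.f_mem⟩ with hfA
  set hA : F.subalg := ⟨h, F.h_mem⟩ with hhA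
  have tA : IsSl2Triple hA eA fA := by
    refine ⟨fun h0 => F.h0 (congrArg Subtype.val h0), Subtype.ext F.ef, Subtype.ext ?_,
      Subtype.ext ?_⟩
    · change ⁅h, e⁆ = 2 • e
      rw [F.h_e, two_smul, two_nsmul]
    · change ⁅h, f⁆ = -(2 • f)
      rw [F.h_f, two_smul, two_nsmul]
  -- the ideal `R`
  let IR : LieIdeal K F.subalg :=
    { carrier := {x | (x : L) ∈ F.rad}
      add_mem' := fun {a c} ha hc => F.rad.add_mem ha hc
      zero_mem' := F.rad.zero_mem
      smul_mem' := fun c {a} ha => F.rad.smul_mem c ha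
      lie_mem := fun {x m} hm => F.lie_mem_rad x.2 hm }
  have hIRab : IsLieAbelian IR :=
    ⟨fun x y => Subtype.ext (Subtype.ext (F.lie_eq_zero_of_mem_rad x.2 y.2))⟩
  have hIRle : IR ≤ LieAlgebra.radical K F.subalg :=
    (LieIdeal.solvable_iff_le_radical K F.subalg IR).mp inferInstance
  set J := LieAlgebra.radical K F.subalg with hJ
  have heJ : eA ∉ J := not_mem_solvable_ideal J tA
  have hfJ : fA ∉ J := not_mem_solvable_ideal J tA.symm
  have hmap : J.toSubmodule.map (F.subalg.incl : F.subalg →ₗ⁅K⁆ L).toLinearMap = F.rad := by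
    apply le_antisymm
    · rintro _ ⟨x, hx, rfl⟩
      change (x : L) ∈ F.rad
      have hx' : x ∈ J := hx
      obtain ⟨α, β, γ, δ, ε, hxe⟩ := F.exists_coeff x.2
      have hβ : β = 0 := by
        by_contra hβ
        apply heJ
        have h1 : ⁅eA, ⁅eA, x⁆⁆ ∈ J := J.lie_mem (J.lie_mem hx')
        have h2 : ⁅eA, ⁅eA, x⁆⁆ = (-2 * β) • eA := by
          apply Subtype.ext
          change ⁅e, ⁅e, (x : L)⁆⁆ = (-2 * β) • e
          rw [hxe, F.comp_ee]
        rw [h2] at h1
        have h3 : eA = (-2 * β)⁻¹ • ((-2 * β) • eA) := by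
          rw [smul_smul, inv_mul_cancel₀ (by simpa using hβ), one_smul]
        rw [h3]; exact J.smul_mem _ h1
      have hα : α = 0 := by
        by_contra hα
        apply hfJ
        have h1 : ⁅fA, ⁅fA, x⁆⁆ ∈ J := J.lie_mem (J.lie_mem hx')
        have h2 : ⁅fA, ⁅fA, x⁆⁆ = (-2 * α) • fA := by
          apply Subtype.ext
          change ⁅f, ⁅f, (x : L)⁆⁆ = (-2 * α) • f
          rw [hxe, F.comp_ff]
        rw [h2] at h1
        have h3 : fA = (-2 * α)⁻¹ • ((-2 * α) • fA) := by
          rw [smul_smul, inv_mul_cancel₀ (by simpa using hα), one_smul]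
        rw [h3]; exact J.smul_mem _ h1
      rw [hα, hβ, zero_smul, zero_smul, zero_add, zero_add] at hxe
      have hγ : γ = 0 := by
        by_contra hγ
        apply hfJ
        have h1 : ⁅fA, ⁅fA, ⁅eA, x⁆⁆⁆ ∈ J := J.lie_mem (J.lie_mem (J.lie_mem hx'))
        have h2 : ⁅fA, ⁅fA, ⁅eA, x⁆⁆⁆ = (4 * γ) • fA := by
          apply Subtype.ext
          change ⁅f, ⁅f, ⁅e, (x : L)⁆⁆⁆ = (4 * γ) • f
          rw [hxe, F.comp_ffe]
        rw [h2] at h1
        have h3 : fA = (4 * γ)⁻¹ • ((4 * γ) • fA) := by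
          rw [smul_smul, inv_mul_cancel₀ (by simpa using hγ), one_smul]
        rw [h3]; exact J.smul_mem _ h1
      rw [hγ, zero_smul, zero_add] at hxe
      rw [hxe]
      exact add_mem (Submodule.smul_mem _ _ (Submodule.subset_span (by simp)))
        (Submodule.smul_mem _ _ (Submodule.subset_span (by simp)))
    · intro y hy
      have hyA : y ∈ F.subalg := F.rad_le_span hy
      refine ⟨⟨y, hyA⟩, hIRle (show (⟨y, hyA⟩ : F.subalg) ∈ IR from hy), rfl⟩
  refine ⟨F.finrank_span, ?_, hmap.trans hrad_eq⟩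
  -- the dimension of the radical
  have h1 : Module.finrank K (J.toSubmodule.map (F.subalg.incl : F.subalg →ₗ⁅K⁆ L).toLinearMap) =
      Module.finrank K J.toSubmodule :=
    (Submodule.equivMapOfInjective _ (by exact Subtype.val_injective) J.toSubmodule).finrank_eq.symm
  have h2 : Module.finrank K F.rad = 2 := by
    rw [hrad_eq]
    have hd : Disjoint (rootSpace H (ρ - (b.baseSupp j : H → K)) : Submodule K L)
        (rootSpace H (-(b.baseSupp j : H → K)) : Submodule K L) := by
      apply disjoint_rootSpace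
      intro h
      have := congr_fun h (b.h' j)
      simp only [Pi.sub_apply, Pi.neg_apply, hj, baseSupp_h'_self] at this
      norm_num at this
    have := Submodule.finrank_sup_add_finrank_inf_eq
      (rootSpace H (ρ - (b.baseSupp j : H → K)) : Submodule K L)
      (rootSpace H (-(b.baseSupp j : H → K)) : Submodule K L)
    rw [hd.eq_bot, finrank_bot, finrank_rootSpace _ hρ1 (ne_bot_of_mem_ne_zero _ F.hu F.u0),
      finrank_rootSpace _ hαj (ne_bot_of_mem_ne_zero _ F.hg F.g0)] at this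
    omega
  rw [hmap, h2] at h1
  exact h1.symm

end Main

end Groth.Agent.Lib.R2H4.AdjVar5
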