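import Mathlib
import Groth.Agent.Lib.Helper23LocGen
import Groth.Agent.Lib.Helper23Serre
import Groth.Agent.Lib.R2H2AmpleRes
import Groth.Agent.Lib.R2H4InvExists
import Groth.Agent.Lib.Helper23PB2
import Groth.Agent.Lib.Helper1FLF1
import Groth.Agent.Lib.Helper21ModTensor5
import Groth.Prelude.Def_KSix

/-!
# Ample families of invertible modules: resolution property (helper4, round 2)

* `LocSurjAt g x` : the morphism of modules `g` is locally surjective at `x`; `epi_of_locSurjAt`, stability under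
  composition with isomorphisms, factorisation, and twisting by an invertible module (`LocSurjAt.twR`).
* `exists_locSurj_twist` : on a qcqs scheme, for `s` a section of an invertible `P` with `X_s` affine and `F`
  quasi-coherent of finite type, some twist `F ⊗ P^N` (`N > 0`) receives a map from a finite free module which is
  locally surjective over `X_s`.
* `exists_chart_map` : untwisted version, a map `O^k ⊗ Q ⟶ F` with `Q` an inverse of `P^N`.
* `quasiSeparatedSpace_of_hasAmpleFamily`, `hasResolutionProperty` (S4270), `exists_epi_inAddL` (S4269).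
-/

set_option autoImplicit false
universe u
open CategoryTheory CategoryTheory.Limits AlgebraicGeometry TopologicalSpace Opposite TensorProduct

namespace Groth.Agent.Lib.R2H4AmpleFam

open Groth.Agent.Lib.Helper23.SecTw Groth.Agent.Lib.Helper23.GenLocus Groth.Agent.Lib.Helper6
open Groth.Agent.Lib.Helper23.AmpleIso Groth.Agent.Lib.Helper23.Extend Groth.Agent.Lib.Helper23.QCohLocal
open Groth.Agent.Lib.Helper23.LocGen Groth.Agent.Lib.Helper23.FinType Groth.Agent.Lib.Helper2.Push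

variable {X : Scheme.{u}}

/-- the tensor bifunctor on a morphism in the first variable, on pure tensors (as in `R2H3AmpleOfVanish`) -/
theorem twR_map_tm {A B : X.Modules} (φ : A ⟶ B) (M : X.Modules) (U : X.Opens) (a : Γ(A, U)) (m : Γ(M, U)) :
    ((Groth.Agent.Lib.R2H2.PnSerre.twR M).map φ).app U (tm A M U a m) = tm B M U (φ.app U a) m := by
  let ψ : CohB1.tensorPre A M ⟶ CohB1.tensorPre B M :=
    MonoidalCategory.whiskerRight (DCoh.toP.map φ) (DCoh.toP.obj M)
  have hnat := (PresheafOfModules.sheafificationAdjunction (𝟙 X.ringCatSheaf.obj)).unit.naturality ψ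
  have h2 := congrArg (fun t => (t.app (op U)).hom (a ⊗ₜ m)) hnat
  exact h2.symm

/-- `g` is locally surjective at `x` -/
def LocSurjAt {A B : X.Modules} (g : A ⟶ B) (x : X) : Prop :=
  ∀ (V : X.Opens) (t : Γ(B, V)), x ∈ V → ∃ (W : X.Opens) (hW : W ≤ V), x ∈ W ∧
    ∃ a : Γ(A, W), g.app W a = res B hW t

theorem epi_of_locSurjAt {A B : X.Modules} (g : A ⟶ B) (h : ∀ x, LocSurjAt g x) : Epi g :=
  Groth.Agent.Lib.Helper23.Serre.epi_of_locally_surjective g (fun V t x hx => h x V t hx)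

theorem LocSurjAt.of_fac {A A' B : X.Modules} {g : A ⟶ B} {i : A ⟶ A'} {p : A' ⟶ B} (hfac : i ≫ p = g)
    {x : X} (h : LocSurjAt g x) : LocSurjAt p x := by
  intro V t hx
  obtain ⟨W, hW, hxW, a, ha⟩ := h V t hx
  refine ⟨W, hW, hxW, i.app W a, ?_⟩
  rw [← ha, ← hfac]
  rfl

theorem LocSurjAt.comp_iso {A B B' : X.Modules} {g : A ⟶ B} (e : B ≅ B') {x : X} (h : LocSurjAt g x) :
    LocSurjAt (g ≫ e.hom) x := by
  intro V t hx
  obtain ⟨W, hW, hxW, a, ha⟩ := h V (e.inv.app V t) hx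
  refine ⟨W, hW, hxW, a, ?_⟩
  change e.hom.app W (g.app W a) = _
  rw [ha]
  have h1 := app_map e.hom (homOfLE hW) (e.inv.app V t)
  refine h1.trans ?_
  congr 1
  exact congrArg (fun φ : B' ⟶ B' => φ.app V t) e.inv_hom_id

theorem LocSurjAt.twR {A B : X.Modules} {g : A ⟶ B} (Q : X.Modules) (hQ : PicF.IsInvertible Q) {x : X}
    (h : LocSurjAt g x) : LocSurjAt ((Groth.Agent.Lib.R2H2.PnSerre.twR Q).map g) x := by
  intro V t hx
  obtain ⟨W₀, e, hxW₀, he⟩ := exists_gen Q hQ x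
  obtain ⟨b, hb⟩ := (bijective_tm_of_isGen B Q W₀ e he (V ⊓ W₀) inf_le_right).2
    (res (CohB1.tensorMod B Q) (inf_le_left : V ⊓ W₀ ≤ V) t)
  obtain ⟨W, hW, hxW, a, ha⟩ := h (V ⊓ W₀) b ⟨hx, hxW₀⟩
  refine ⟨W, hW.trans inf_le_left, hxW, tm A Q W a (res Q (hW.trans inf_le_right) e), ?_⟩
  rw [twR_map_tm, ha]
  have h1 := congrArg (res (CohB1.tensorMod B Q) hW) hb
  change res (CohB1.tensorMod B Q) hW (tm B Q (V ⊓ W₀) b (res Q inf_le_right e)) = _ at h1
  rw [res_tm, res_res, res_res] at h1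
  exact h1

/-- **Lemma A**: on an affine `X_s`, a large twist `F ⊗ P^N` of a finite type quasi-coherent module is generated
over `X_s` by finitely many global sections. -/
theorem exists_locSurj_twist [CompactSpace X] [QuasiSeparatedSpace X] (P : X.Modules) (hP : PicF.IsInvertible P)
    (s : Coh.structureModule X ⟶ P) (haff : IsAffineOpen (CohB1.genLocus P s))
    (F : X.Modules) [F.IsQuasicoherent] [SheafOfModules.IsFiniteType (R := X.ringCatSheaf) F] :
    ∃ (N k : ℕ) (q : FlatMod.freeMod X k ⟶ CohB1.tensorMod F (CohB1.tensorPow P N)),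
      0 < N ∧ ∀ x ∈ CohB1.genLocus P s, LocSurjAt q x := by
  classical
  have hfin : Module.Finite Γ(X, CohB1.genLocus P s) Γ(F, CohB1.genLocus P s) := finite_of_isFiniteType F haff
  obtain ⟨T, hT⟩ := hfin.fg_top
  have hext := fun τ : Γ(F, CohB1.genLocus P s) => main_eventually X P hP s F τ
  choose n₀ hn₀ using hext
  obtain ⟨N, hN⟩ : ∃ N, N = max (T.sup n₀) 1 := ⟨_, rfl⟩
  have hex : ∀ τ : T, ∃ t' : Γ(CohB1.tensorMod F (CohB1.tensorPow P N), ⊤),
      res _ (le_top : CohB1.genLocus P s ≤ ⊤) t' = tw F P (CohB1.genLocus P s) τ.1 (sv s _) N :=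
    fun τ => hn₀ τ.1 N (hN ▸ (Finset.le_sup τ.2).trans (le_max_left _ _))
  choose t' ht' using hex
  let eT : T ≃ Fin T.card := T.equivFin
  let q : FlatMod.freeMod X T.card ⟶ CohB1.tensorMod F (CohB1.tensorPow P N) :=
    Sigma.desc (fun a => secHom _ (t' (eT.symm a)))
  have hq : ∀ a, Sigma.ι (fun _ : Fin T.card => Coh.structureModule X) a ≫ q = secHom _ (t' (eT.symm a)) :=
    fun a => Sigma.ι_desc _ a
  refine ⟨N, T.card, q, hN ▸ lt_of_lt_of_le Nat.one_pos (le_max_right _ _), ?_⟩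
  have hloc : IsLocOn F (CohB1.genLocus P s) := IsLocOn.of_isQuasicoherent haff F
  have hgen : IsGen (CohB1.tensorPow P N) (CohB1.genLocus P s) (pw P _ (sv s _) N) :=
    isGen_pw P _ _ (isGen_sv_genLocus P s) N
  -- Claim A: the twists of sections over `X_s` are in the image of `q`
  have hA : ∀ t₀ : Γ(F, CohB1.genLocus P s), ∃ a : Γ(FlatMod.freeMod X T.card, CohB1.genLocus P s),
      q.app _ a = tw F P _ t₀ (sv s _) N := by
    intro t₀
    have h0 : t₀ ∈ Submodule.span Γ(X, CohB1.genLocus P s) (T : Set Γ(F, CohB1.genLocus P s)) := by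
      rw [hT]; trivial
    induction h0 using Submodule.span_induction with
    | mem τ hτ =>
      refine ⟨(Sigma.ι (fun _ : Fin T.card => Coh.structureModule X) (eT ⟨τ, hτ⟩)).app _ (toS _ 1), ?_⟩
      have h1 : q.app (CohB1.genLocus P s) ((Sigma.ι (fun _ : Fin T.card => Coh.structureModule X)
          (eT ⟨τ, hτ⟩)).app _ (toS _ 1)) =
          (Sigma.ι (fun _ : Fin T.card => Coh.structureModule X) (eT ⟨τ, hτ⟩) ≫ q).app _ (toS _ 1) := rfl
      rw [h1, hq, Equiv.symm_apply_apply]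
      have h2 : (secHom _ (t' ⟨τ, hτ⟩)).app (CohB1.genLocus P s) (toS _ 1) =
          sv (secHom _ (t' ⟨τ, hτ⟩)) (CohB1.genLocus P s) := rfl
      rw [h2, sv_secHom, ht']
    | zero => exact ⟨0, by rw [map_zero, tw_zero]⟩
    | add x y _ _ hx hy =>
      obtain ⟨a, ha⟩ := hx
      obtain ⟨b, hb⟩ := hy
      exact ⟨a + b, by rw [map_add, ha, hb, tw_add_left]⟩
    | smul r x _ hx =>
      obtain ⟨a, ha⟩ := hx
      exact ⟨r • a, by rw [Scheme.Modules.Hom.app_smul, ha, tw_smul_left]⟩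
  intro y hyU A z hy
  obtain ⟨m, hm⟩ := (bijective_tm_of_isGen F (CohB1.tensorPow P N) _ _ hgen (A ⊓ CohB1.genLocus P s)
    inf_le_right).2 (res _ inf_le_left z)
  obtain ⟨f, hfA, hyf⟩ := haff.exists_basicOpen_le (V := A ⊓ CohB1.genLocus P s) ⟨y, ⟨hy, hyU⟩⟩ hyU
  obtain ⟨n, t₀, ht₀⟩ := hloc.exists_extension f (res F hfA m)
  obtain ⟨a, ha⟩ := hA t₀
  refine ⟨X.basicOpen f, hfA.trans inf_le_left, hyf, ?_⟩
  have hunit : IsUnit (resf (X.basicOpen_le f) f) := RingedSpace.isUnit_res_basicOpen _ f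
  obtain ⟨u, hu⟩ := hunit.pow n
  have h1 : res F hfA m = (↑u⁻¹ : Γ(X, X.basicOpen f)) • res F (X.basicOpen_le f) t₀ := by
    change res F (X.basicOpen_le f) t₀ = resf (X.basicOpen_le f) f ^ n • res F hfA m at ht₀
    rw [ht₀, ← hu, ← mul_smul, Units.inv_mul, one_smul]
  have h2 : res _ (hfA.trans inf_le_left) z = (↑u⁻¹ : Γ(X, X.basicOpen f)) •
      res _ (X.basicOpen_le f) (tw F P _ t₀ (sv s _) N) := by
    have h3 : res _ (hfA.trans inf_le_left) z = res _ hfA (res _ inf_le_left z) := (res_res _ _ _ _).symm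
    rw [h3, ← hm]
    change res _ hfA (tm F _ _ m (res _ inf_le_right (pw P _ (sv s _) N))) = _
    rw [res_tm, h1, tm_smul_left, res_res]
    congr 1
    unfold tw
    rw [res_tm]
  refine ⟨(↑u⁻¹ : Γ(X, X.basicOpen f)) • res _ (X.basicOpen_le f) a, ?_⟩
  rw [Scheme.Modules.Hom.app_smul, h2]
  congr 1
  rw [← ha]
  exact app_map q (homOfLE (X.basicOpen_le f)) a

open Groth.Agent.Lib.R2H2.PnSerre Groth.Agent.Lib.R2H2.AmpleRes in
/-- one chart: a finite locally free module mapping to `M`, locally surjectively over the chart -/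
theorem exists_chart_map [CompactSpace X] [QuasiSeparatedSpace X] (P : X.Modules) (hP : PicF.IsInvertible P)
    (s : Coh.structureModule X ⟶ P) (haff : IsAffineOpen (CohB1.genLocus P s))
    (M : X.Modules) [M.IsQuasicoherent] [SheafOfModules.IsFiniteType (R := X.ringCatSheaf) M] :
    ∃ (N k : ℕ) (Q : X.Modules) (_ : PicF.IsInvertible Q)
      (_ : Nonempty (CohB1.tensorMod (CohB1.tensorPow P N) Q ≅ Coh.structureModule X))
      (g : (twR Q).obj (FlatMod.freeMod X k) ⟶ M), 0 < N ∧ ∀ y ∈ CohB1.genLocus P s, LocSurjAt g y := by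
  obtain ⟨N, k, q, hN, hq⟩ := exists_locSurj_twist P hP s haff M
  obtain ⟨Q, hQ, ⟨e⟩⟩ := Groth.Agent.Lib.R2H4InvExists.exists_inverse _ (isInvertible_tensorPow hP N)
  exact ⟨N, k, Q, hQ, ⟨e⟩, (twR Q).map q ≫ (cancelIso M (CohB1.tensorPow P N) Q e).hom, hN,
    fun y hy => ((hq y hy).twR Q hQ).comp_iso _⟩

theorem quasiSeparatedSpace_of_hasAmpleFamily (hX : MoreMor.HasAmpleFamily X) : QuasiSeparatedSpace X := by
  obtain ⟨-, hpt⟩ := hX
  refine Groth.Agent.Lib.Helper23.PB.quasiSeparatedSpace_of_opens_cover X (fun x => ?_)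
  obtain ⟨L, n, s, hL, -, hx, haff⟩ := hpt x
  refine ⟨CohB1.genLocus _ s, hx, ?_, fun A => ?_⟩
  · have : IsAffine (↑(CohB1.genLocus _ s) : Scheme.{u}) := haff
    exact (inferInstance : QuasiSeparatedSpace (↑(CohB1.genLocus _ s) : Scheme.{u}))
  · exact (isAffineOpen_inf_genLocus _ (isInvertible_tensorPow hL n) s A.1 A.2).isCompact

open Groth.Agent.Lib.R2H2.PnSerre Groth.Agent.Lib.R2H2.AmpleRes in
/-- **Ample family ⇒ resolution property.** -/
theorem hasResolutionProperty (X : Scheme.{u}) (hX : MoreMor.HasAmpleFamily X) :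
    PerfAux.HasResolutionProperty X := by
  classical
  have hqs : QuasiSeparatedSpace X := quasiSeparatedSpace_of_hasAmpleFamily hX
  obtain ⟨hc, hpt⟩ := hX
  intro M hMq hMt
  have : M.IsQuasicoherent := hMq
  have : SheafOfModules.IsFiniteType (R := X.ringCatSheaf) M := hMt
  have key : ∀ x : X, ∃ (U : X.Opens) (E : X.Modules) (g : E ⟶ M), x ∈ U ∧ FlatMod.IsFinLocFree E ∧
      ∀ y ∈ U, LocSurjAt g y := by
    intro x
    obtain ⟨L, n, s, hL, -, hx, haff⟩ := hpt x
    obtain ⟨N, k, Q, hQ, -, g, -, hg⟩ := exists_chart_map _ (isInvertible_tensorPow hL n) s haff M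
    exact ⟨_, _, g, hx, isFinLocFree_twR_freeMod Q hQ k, hg⟩
  choose U E g hxU hE hg using key
  obtain ⟨T, hT⟩ : ∃ T : Finset X, ∀ y : X, ∃ x ∈ T, y ∈ U x := by
    obtain ⟨T, hT⟩ := isCompact_univ.elim_finite_subcover (fun x : X => ((U x : X.Opens) : Set X))
      (fun x => (U x).2) (fun x _ => Set.mem_iUnion.2 ⟨x, hxU x⟩)
    refine ⟨T, fun y => ?_⟩
    have := hT (Set.mem_univ y)
    simp only [Set.mem_iUnion] at this
    obtain ⟨x, hx, hy⟩ := this
    exact ⟨x, hx, hy⟩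
  let eT : T ≃ Fin T.card := T.equivFin
  let E' : Fin T.card → X.Modules := fun j => E (eT.symm j).1
  let π : (⨁ E') ⟶ M := biproduct.desc (fun j => g (eT.symm j).1)
  refine ⟨⨁ E', π, Groth.Agent.Lib.Helper1.FLF.isFinLocFree_biproduct E' (fun j => hE _), ?_⟩
  refine epi_of_locSurjAt π (fun y => ?_)
  obtain ⟨x, hx, hy⟩ := hT y
  have h1 : LocSurjAt (g (eT.symm (eT ⟨x, hx⟩)).1) y := by
    rw [Equiv.symm_apply_apply]
    exact hg x y hy
  exact h1.of_fac (biproduct.ι_desc (fun j => g (eT.symm j).1) (eT ⟨x, hx⟩))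

theorem LocSurjAt.iso_comp {A A' B : X.Modules} {g : A ⟶ B} (e : A' ≅ A) {x : X} (h : LocSurjAt g x) :
    LocSurjAt (e.hom ≫ g) x := by
  intro V t hx
  obtain ⟨W, hW, hxW, a, ha⟩ := h V t hx
  refine ⟨W, hW, hxW, e.inv.app W a, ?_⟩
  change g.app W (e.hom.app W (e.inv.app W a)) = _
  have h1 : e.hom.app W (e.inv.app W a) = a :=
    congrArg (fun φ : A ⟶ A => φ.app W a) e.inv_hom_id
  rw [h1, ha]

section additive

variable {C D : Type*} [Category C] [Category D] [Preadditive C] [Preadditive D] (G : C ⥤ D) [G.Additive]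
  {J : Type} [Finite J] (f : J → C) [HasBiproduct f] [HasCoproduct f] [HasBiproduct (fun j => G.obj (f j))]

/-- an additive functor turns a finite coproduct into the biproduct of the images, compatibly with injections -/
theorem exists_iso_biproduct_map_sigma :
    ∃ Φ : (⨁ fun j => G.obj (f j)) ≅ G.obj (∐ f), ∀ a, biproduct.ι (fun j => G.obj (f j)) a ≫ Φ.hom =
      G.map (Sigma.ι f a) := by
  have : PreservesBiproductsOfShape J G := PreservesFiniteBiproducts.preserves
  have : PreservesBiproduct f G := PreservesBiproductsOfShape.preserves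
  refine ⟨(G.mapBiproduct f).symm ≪≫ G.mapIso (biproduct.isoCoproduct f), fun a => ?_⟩
  change biproduct.ι _ a ≫ (G.mapBiproduct f).inv ≫ G.map (biproduct.isoCoproduct f).hom = _
  rw [Functor.mapBiproduct_inv, biproduct.ι_desc_assoc, ← G.map_comp]
  congr 1
  rw [biproduct.isoCoproduct_hom, biproduct.ι_desc]

end additive

open Groth.Agent.Lib.R2H2.PnSerre Groth.Agent.Lib.R2H2.AmpleRes Groth.Agent.Lib.Helper23.TensorUnit in
/-- **Ample family ⇒ every finite type quasi-coherent module is a quotient of a finite sum of negative powers.** -/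
theorem exists_epi_inAddL (X : Scheme.{u}) {ι : Type u} (L : ι → X.Modules)
    (hL : KSix.IsAmpleFamily L) (F : X.Modules) (hF : Coh.IsQCoh F) (hF' : CohB1.IsFT F) :
    ∃ (M : X.Modules) (π : M ⟶ F), KSix.InAddL L M ∧ Epi π := by
  classical
  obtain ⟨hc, hqs, hLinv, hpt⟩ := hL
  have : F.IsQuasicoherent := hF
  have : SheafOfModules.IsFiniteType (R := X.ringCatSheaf) F := hF'
  have key : ∀ x : X, ∃ (U : X.Opens) (k : ℕ) (Q : X.Modules)
      (g : (twR Q).obj (FlatMod.freeMod X k) ⟶ F), x ∈ U ∧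
      KSix.IsNegPower L ((twR Q).obj (Coh.structureModule X)) ∧ ∀ y ∈ U, LocSurjAt g y := by
    intro x
    obtain ⟨i, n, s, hx, haff⟩ := hpt x
    have hP := isInvertible_tensorPow (hLinv i) (n + 1)
    obtain ⟨N, k, Q, hQ, ⟨e⟩, g, hN, hg⟩ := exists_chart_map _ hP s haff F
    refine ⟨_, k, Q, g, hx, ⟨i, (n + 1) * N, Nat.mul_pos (Nat.succ_pos n) hN, ?_⟩, hg⟩
    obtain ⟨Ψ⟩ := nonempty_tensorPow_tensorPow_iso (L i) (hLinv i) (n + 1) N ((n + 1) * N) rfl
    exact ⟨tensorModIso (unitTensorIso Q) Ψ.symm ≪≫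
      Groth.Agent.Lib.Helper21.ModTensor5.brdApp X.sheaf _ _ ≪≫ e⟩
  choose U k Q g hxU hneg hg using key
  obtain ⟨T, hT⟩ : ∃ T : Finset X, ∀ y : X, ∃ x ∈ T, y ∈ U x := by
    obtain ⟨T, hT⟩ := isCompact_univ.elim_finite_subcover (fun x : X => ((U x : X.Opens) : Set X))
      (fun x => (U x).2) (fun x _ => Set.mem_iUnion.2 ⟨x, hxU x⟩)
    refine ⟨T, fun y => ?_⟩
    have := hT (Set.mem_univ y)
    simp only [Set.mem_iUnion] at this
    obtain ⟨x, hx, hy⟩ := this
    exact ⟨x, hx, hy⟩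
  let eT : T ≃ Fin T.card := T.equivFin
  let pt : Fin T.card → X := fun j => (eT.symm j).1
  let J : Type := Σ j : Fin T.card, Fin (k (pt j))
  let N : J → X.Modules := fun p => (twR (Q (pt p.1))).obj (Coh.structureModule X)
  let h : ∀ p : J, N p ⟶ F := fun p =>
    (twR (Q (pt p.1))).map (Sigma.ι (fun _ : Fin (k (pt p.1)) => Coh.structureModule X) p.2) ≫ g (pt p.1)
  let π : (⨁ N) ⟶ F := biproduct.desc h
  let ε : J ≃ Fin (Fintype.card J) := Fintype.equivFin J
  refine ⟨⨁ N, π, ⟨Fintype.card J, N ∘ ε.symm, fun c => hneg _, ⟨(biproduct.reindex ε.symm N).symm⟩⟩, ?_⟩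
  refine epi_of_locSurjAt π (fun y => ?_)
  obtain ⟨x, hx, hy⟩ := hT y
  obtain ⟨j, hj⟩ : ∃ j, pt j = x := ⟨eT ⟨x, hx⟩, by simp [pt]⟩
  have hy' : y ∈ U (pt j) := by rw [hj]; exact hy
  obtain ⟨Φ, hΦ⟩ := exists_iso_biproduct_map_sigma (twR (Q (pt j)))
    (fun _ : Fin (k (pt j)) => Coh.structureModule X)
  have h1 : LocSurjAt (Φ.hom ≫ g (pt j)) y := (hg (pt j) y hy').iso_comp Φ
  let i : (⨁ fun _ : Fin (k (pt j)) => (twR (Q (pt j))).obj (Coh.structureModule X)) ⟶ ⨁ N :=
    biproduct.desc (fun a => biproduct.ι N ⟨j, a⟩)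
  have hfac : i ≫ π = Φ.hom ≫ g (pt j) := by
    refine biproduct.hom_ext' _ _ (fun a => ?_)
    rw [biproduct.ι_desc_assoc, biproduct.ι_desc, ← Category.assoc, hΦ]
  exact h1.of_fac hfac

end Groth.Agent.Lib.R2H4AmpleFam
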