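import Mathlib
import Groth.Prelude.Def_Fitting
import Groth.Agent.Lib.R2H4NormQAff
import Groth.Agent.Lib.Helper27PullGen
import Groth.Agent.Lib.Helper23SecTw6
import Groth.Agent.Lib.R2H2KoszulGeom
import Groth.Agent.Lib.Helper23SecTw9
import Groth.Agent.Lib.Helper23PB

/-!
# The norm of a section of a pulled-back invertible module (helper4, round 2)

For a finite morphism `π : Z ⟶ X` carrying a norm of degree `d` (prelude `Nrm.NormOfDegree`):

* `mem_basicOpen_norm_iff`: `D(N(b))` is the set of points all of whose fibre lies in `D(b)`;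
* `exists_norm_section`: for `M` invertible on `X` and a section `t` of `π^* M` there is a section `s` of
  `M^{⊗ d}` (the norm of `t`, glued from local norms of coefficients in frames) with
  `X_s = {x | π⁻¹(x) ⊆ Z_t}`;
* `isAmple_of_normOfDegree`: if `π^* L` is ample then `L` is ample (`X` quasi-compact).
-/

set_option autoImplicit false
universe u
open CategoryTheory CategoryTheory.Limits AlgebraicGeometry TopologicalSpace Opposite
open Groth.Agent.Lib.Helper23.SecTw Groth.Agent.Lib.Helper23.GenLocus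
  Groth.Agent.Lib.Helper23.Extend Groth.Agent.Lib.Helper6 Groth.Agent.Helper13PullbackUnit
  Groth.Agent.Lib.Helper27PullGen Groth.Agent.Lib.Helper23.AmpleIso Groth.Agent.Lib.Helper23.PB

namespace Groth.Agent.Lib.R2H4SecNorm

variable {Z X : Scheme.{u}} (π : Z ⟶ X) {d : ℕ} (N : Nrm.NormOfDegree π d)

/-- the non-vanishing locus of the norm of a function: the points all of whose fibre lies in the
non-vanishing locus of the function -/
theorem mem_basicOpen_norm_iff [IsFinite π] (W : X.Opens) (b : Γ(Z, π ⁻¹ᵁ W)) (x : X) (hx : x ∈ W) :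
    x ∈ X.basicOpen (N.norm W b) ↔ ∀ z : Z, π z = x → z ∈ Z.basicOpen b := by
  constructor
  · intro h z hz
    subst hz
    by_contra hzb
    have h1 : Z.presheaf.germ (π ⁻¹ᵁ W) z hx b ∈ IsLocalRing.maximalIdeal (Z.presheaf.stalk z) := by
      rw [IsLocalRing.mem_maximalIdeal, mem_nonunits_iff]
      intro hu
      exact hzb ((Z.mem_basicOpen b z hx).2 hu)
    have h2 := N.norm_mem W b z hx h1
    rw [IsLocalRing.mem_maximalIdeal, mem_nonunits_iff] at h2
    exact h2 ((X.mem_basicOpen (N.norm W b) (π z) hx).1 h)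
  · intro h
    have hcl : IsClosed (π '' ((Z.basicOpen b : Set Z)ᶜ)) :=
      π.isClosedMap _ (Z.basicOpen b).2.isClosed_compl
    let U' : X.Opens := W ⊓ ⟨(π '' ((Z.basicOpen b : Set Z)ᶜ))ᶜ, hcl.isOpen_compl⟩
    have hxU' : x ∈ U' := by
      refine ⟨hx, ?_⟩
      rintro ⟨z, hz, hzx⟩
      exact hz (h z hzx)
    have hle : π ⁻¹ᵁ U' ≤ Z.basicOpen b := by
      intro z hz
      by_contra hzb
      exact hz.2 ⟨z, hzb, rfl⟩
    let i : U' ⟶ W := homOfLE inf_le_left
    have hres := N.norm_res i b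
    have hunit : IsUnit (Z.presheaf.map ((Opens.map π.base).map i).op b) := by
      apply Groth.Agent.Lib.R2H4.NormQAff.isUnit_of_forall_mem_basicOpen
      rw [Scheme.basicOpen_res]
      exact le_inf le_rfl hle
    have hunit2 : IsUnit (X.presheaf.map i.op (N.norm W b)) := by
      rw [hres]
      exact hunit.map (N.norm U')
    rw [X.mem_basicOpen (N.norm W b) x hx]
    have := hunit2.map (X.presheaf.germ U' x hxU').hom
    rwa [TopCat.Presheaf.germ_res_apply] at this


variable (M : X.Modules) [M.IsQuasicoherent]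

/-- the coefficient of a section `t` of `π^* M` with respect to the pull-back of a frame of `M` -/
noncomputable def fcoef (t : Coh.structureModule Z ⟶ (Scheme.Modules.pullback π).obj M)
    {W : X.Opens} {e : Γ(M, W)} (he : IsGen M W e) : Γ(Z, π ⁻¹ᵁ W) :=
  coef (isGen_pullback π M W e he) le_rfl (sv t (π ⁻¹ᵁ W))

theorem fcoef_spec (t : Coh.structureModule Z ⟶ (Scheme.Modules.pullback π).obj M)
    {W : X.Opens} {e : Γ(M, W)} (he : IsGen M W e) :
    sv t (π ⁻¹ᵁ W) = fcoef π M t he • unitSec π M (le_refl (π ⁻¹ᵁ W)) e :=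
  sv_eq_coef_smul t (isGen_pullback π M W e he)

/-- change of frame for the coefficient -/
theorem fcoef_res (t : Coh.structureModule Z ⟶ (Scheme.Modules.pullback π).obj M)
    {W W' : X.Opens} {e : Γ(M, W)} {e' : Γ(M, W')} (he : IsGen M W e) (he' : IsGen M W' e')
    {V : X.Opens} (hV : V ≤ W) (hV' : V ≤ W') (u : Γ(X, V)) (hu : res M hV e = u • res M hV' e') :
    resf (π.preimage_mono hV') (fcoef π M t he') =
      resf (π.preimage_mono hV) (fcoef π M t he) * (π.app V).hom u := by
  have hgen' := isGen_pullback π M W' e' he'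
  apply (hgen' (π ⁻¹ᵁ V) (π.preimage_mono hV')).1
  change resf (π.preimage_mono hV') (fcoef π M t he') • res _ (π.preimage_mono hV') (unitSec π M (le_refl (π ⁻¹ᵁ W')) e') =
    (resf (π.preimage_mono hV) (fcoef π M t he) * (π.app V).hom u) •
      res _ (π.preimage_mono hV') (unitSec π M (le_refl (π ⁻¹ᵁ W')) e')
  rw [← res_smul, ← fcoef_spec, res_sv, mul_smul]
  have h1 : res ((Scheme.Modules.pullback π).obj M) (π.preimage_mono hV)
      (unitSec π M (le_refl (π ⁻¹ᵁ W)) e) =
      (π.app V).hom u • res ((Scheme.Modules.pullback π).obj M) (π.preimage_mono hV')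
        (unitSec π M (le_refl (π ⁻¹ᵁ W')) e') := by
    have a1 := unitSec_res π M hV (le_refl (π ⁻¹ᵁ V)) e
    have a2 := unitSec_res π M hV' (le_refl (π ⁻¹ᵁ V)) e'
    rw [← a1, ← a2, hu, unitSec_smul, Scheme.Hom.appLE_eq_app]
  rw [← h1, ← res_smul, ← fcoef_spec, res_sv]


/-- the local norm of a section of `π^* M` in a frame of `M`: a section of `M^{⊗ d}` -/
noncomputable def locNorm (t : Coh.structureModule Z ⟶ (Scheme.Modules.pullback π).obj M)
    {W : X.Opens} {e : Γ(M, W)} (he : IsGen M W e) : Γ(CohB1.tensorPow M d, W) :=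
  N.norm W (fcoef π M t he) • pw M W e d

theorem resf_norm {W V : X.Opens} (hV : V ≤ W) (b : Γ(Z, π ⁻¹ᵁ W)) :
    resf hV (N.norm W b) = N.norm V (resf (π.preimage_mono hV) b) :=
  N.norm_res (homOfLE hV) b

/-- the local norms do not depend on the frame -/
theorem res_locNorm (t : Coh.structureModule Z ⟶ (Scheme.Modules.pullback π).obj M)
    {W W' : X.Opens} {e : Γ(M, W)} {e' : Γ(M, W')} (he : IsGen M W e) (he' : IsGen M W' e')
    {V : X.Opens} (hV : V ≤ W) (hV' : V ≤ W') :
    res (CohB1.tensorPow M d) hV (locNorm π N M t he) =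
      res (CohB1.tensorPow M d) hV' (locNorm π N M t he') := by
  have hu : res M hV e = coef he' hV' (res M hV e) • res M hV' e' := (coef_spec he' hV' (res M hV e)).symm
  have hb := fcoef_res π M t he he' hV hV' _ hu
  unfold locNorm
  rw [res_smul, res_smul, res_pw, res_pw, resf_norm, resf_norm, hb, map_mul, N.norm_app, mul_smul,
    ← pw_smul, ← hu]

include N in
/-- **The norm of a section.** For `π : Z ⟶ X` finite with a norm of degree `d`, an invertible module `M`
on `X` and a section `t` of `π^* M`, there is a section of `M^{⊗ d}` whose non-vanishing locus consists of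
the points all of whose fibre lies in the non-vanishing locus of `t`. -/
theorem exists_norm_section [IsFinite π] (hM : PicF.IsInvertible M)
    (t : Coh.structureModule Z ⟶ (Scheme.Modules.pullback π).obj M) :
    ∃ s : Coh.structureModule X ⟶ CohB1.tensorPow M d,
      ∀ x : X, x ∈ CohB1.genLocus _ s ↔ ∀ z : Z, π z = x → z ∈ CohB1.genLocus _ t := by
  let I := {p : (W : X.Opens) × Γ(M, W) // IsGen M p.1 p.2}
  have hcov : (⊤ : X.Opens) ≤ ⨆ i : I, i.1.1 := by
    intro x _
    obtain ⟨W, e, hxW, he⟩ := exists_gen M hM x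
    exact Opens.mem_iSup.2 ⟨⟨⟨W, e⟩, he⟩, hxW⟩
  obtain ⟨σ, hσ⟩ := Groth.Agent.Lib.R2H2.KoszulGeom.exists_glue (CohB1.tensorPow M d)
    (fun i : I => i.1.1) ⊤ (fun _ => le_top) hcov (fun i => locNorm π N M t i.2)
    (fun i j => res_locNorm π N M t i.2 j.2 inf_le_left inf_le_right)
  refine ⟨secHom _ σ, fun x => ?_⟩
  obtain ⟨W, e, hxW, he⟩ := exists_gen M hM x
  have hs : sv (secHom (CohB1.tensorPow M d) σ) W = N.norm W (fcoef π M t he) • pw M W e d := by
    rw [sv_secHom]
    exact hσ ⟨⟨W, e⟩, he⟩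
  have h1 := genLocus_inf_eq_of_isGen (CohB1.tensorPow M d) (secHom _ σ) W (pw M W e d) _
    (isGen_pw M W e he d) hs
  have h2 := genLocus_inf_eq_of_isGen ((Scheme.Modules.pullback π).obj M) t (π ⁻¹ᵁ W) _ _
    (isGen_pullback π M W e he) (fcoef_spec π M t he)
  have h3 := mem_basicOpen_norm_iff π N W (fcoef π M t he) x hxW
  rw [← h1, ← h2] at h3
  constructor
  · intro hx z hz
    exact (h3.1 ⟨hx, hxW⟩ z hz).1
  · intro h
    refine (h3.2 fun z hz => ⟨h z hz, ?_⟩).1
    change π z ∈ W
    rw [hz]; exact hxW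


omit [M.IsQuasicoherent] in
include N in
/-- **Ampleness descends along a finite morphism carrying a norm.** -/
theorem isAmple_of_normOfDegree [IsFinite π] [CompactSpace X] (L : X.Modules) (hL : PicF.IsInvertible L)
    (hamp : CohB1.IsAmple ((Scheme.Modules.pullback π).obj L)) : CohB1.IsAmple L := by
  have hsurj := Groth.Agent.Lib.R2H4.NormQAff.surjective_of_normOfDegree π N
  have : CompactSpace Z := QuasiCompact.compactSpace_of_compactSpace π
  refine ⟨hL, inferInstance, fun x => ?_⟩
  obtain ⟨_, ⟨U, hU, rfl⟩, hxU, -⟩ := X.isBasis_affineOpens.exists_subset_of_mem_open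
    (Set.mem_univ x) isOpen_univ
  have hfin : (π ⁻¹' {x}).Finite := Scheme.Hom.finite_preimage_singleton π x
  obtain ⟨n, t, hZt, htU, -⟩ := exists_affine_genLocus_of_finite _ hamp (π ⁻¹' {x}) hfin (π ⁻¹ᵁ U)
    (fun z hz => by
      change π z ∈ U
      rw [show π z = x from hz]; exact hxU)
  have hM := isInvertible_tensorPow hL (n + 1)
  have := isQuasicoherent_of_isInvertible _ hM
  obtain ⟨Φ⟩ := nonempty_pullback_tensorPow_iso π L hL (n + 1)
  obtain ⟨s, hs⟩ := exists_norm_section π N (CohB1.tensorPow L (n + 1)) hM (t ≫ Φ.inv)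
  have hgl : CohB1.genLocus _ (t ≫ Φ.inv) = CohB1.genLocus _ t := genLocus_comp_iso Φ.symm t
  rw [hgl] at hs
  obtain ⟨N', hN'⟩ : ∃ N', (n + 1) * d = N' + 1 := ⟨(n + 1) * d - 1, by
    have : 0 < (n + 1) * d := Nat.mul_pos (Nat.succ_pos n) N.one_le
    omega⟩
  obtain ⟨Ψ⟩ := nonempty_tensorPow_tensorPow_iso L hL (n + 1) d (N' + 1) hN'
  refine ⟨N', s ≫ Ψ.hom, ?_, ?_⟩
  · rw [genLocus_comp_iso]
    exact (hs x).2 (fun z hz => hZt hz)
  · rw [genLocus_comp_iso]
    have hle : CohB1.genLocus _ s ≤ U := by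
      intro x' hx'
      obtain ⟨z, rfl⟩ := hsurj x'
      exact htU ((hs (π z)).1 hx' z rfl)
    have := isAffineOpen_inf_genLocus _ (isInvertible_tensorPow hM d) s U hU
    rwa [inf_eq_right.2 hle] at this

end Groth.Agent.Lib.R2H4SecNorm
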