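import Mathlib
import Groth.Prelude.Def_Mor2
import Groth.Prelude.Def_LCI2
import Groth.Agent.Lib.R2H4SecNorm
import Groth.Agent.Lib.Helper18Norm2
import Groth.Agent.Lib.Helper18FinFlat1
import Groth.Agent.Lib.Helper23Restr
import Groth.Agent.Lib.R2H4RelAmpleDesc

/-!
# Ampleness and finite locally free surjective covers (helper4, round 2)

* `pullbackMorphismRestrictIso`: `(π ∣_ U)^* (L|_U) ≅ (π^* L)|_{π⁻¹ U}`;
* `isAmple_of_finLocFree`: for `π : Z ⟶ X` finite locally free and surjective, `X` quasi-compact and `L`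
  invertible on `X`, if `π^* L` is ample then `L` is ample (decompose `X` by the rank of `π`, use helper18's
  norm of degree `d` and `R2H4SecNorm.isAmple_of_normOfDegree`);
* `isRelAmple_iff`: relative version, in both directions.
-/

set_option autoImplicit false
universe u
open CategoryTheory CategoryTheory.Limits AlgebraicGeometry TopologicalSpace Opposite
open Groth.Agent.Lib.Helper23.SecTw Groth.Agent.Lib.Helper23.AmpleIso Groth.Agent.Lib.Helper23.PB

namespace Groth.Agent.Lib.R2H4AmpleFinFree

variable {Z X : Scheme.{u}} (π : Z ⟶ X)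

/-- pulling back a restriction along the restricted morphism is restricting the pull-back -/
noncomputable def pullbackMorphismRestrictIso (U : X.Opens) (L : X.Modules) :
    (Scheme.Modules.pullback (π ∣_ U)).obj (L.restrict U.ι) ≅
      ((Scheme.Modules.pullback π).obj L).restrict (π ⁻¹ᵁ U).ι :=
  Groth.Agent.Lib.R2H4RelAmpleDesc.pullbackRestrictIso (π ∣_ U) U.ι L ≪≫
    (Scheme.Modules.pullbackCongr (morphismRestrict_ι π U)).app L ≪≫
    (Groth.Agent.Lib.R2H4RelAmpleDesc.restrictPullbackIso π L (π ⁻¹ᵁ U).ι).symm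

theorem isFinLocFree_restrict (hπ : Mor2.IsFinLocFree π) (U : X.Opens) : Mor2.IsFinLocFree (π ∣_ U) :=
  ⟨IsZariskiLocalAtTarget.restrict hπ.1 U, IsZariskiLocalAtTarget.restrict hπ.2.1 U,
    IsZariskiLocalAtTarget.restrict hπ.2.2 U⟩

theorem finrank_restrict (hπ : Mor2.IsFinLocFree π) (U : X.Opens) (y : (U : Scheme.{u})) :
    (π ∣_ U).finrank y = π.finrank (U.ι y) := by
  have := hπ.1
  have := hπ.2.1
  exact Scheme.Hom.finrank_of_isPullback _ _ _ _ (isPullback_morphismRestrict π U).flip y

/-- ampleness on the empty scheme -/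
theorem isAmple_of_isEmpty [IsEmpty X] (L : X.Modules) (hL : PicF.IsInvertible L) : CohB1.IsAmple L :=
  ⟨hL, inferInstance, fun x => isEmptyElim x⟩

/-- **Ampleness descends along a finite locally free surjective morphism.** -/
theorem isAmple_of_finLocFree (hπ : Mor2.IsFinLocFree π) [Surjective π] [CompactSpace X]
    (L : X.Modules) (hL : PicF.IsInvertible L)
    (hamp : CohB1.IsAmple ((Scheme.Modules.pullback π).obj L)) : CohB1.IsAmple L := by
  have hfin := hπ.1
  have hflat := hπ.2.1
  have hfp := hπ.2.2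
  have hlc : IsLocallyConstant π.finrank := Scheme.Hom.isLocallyConstant_finrank π
  let U : ℕ → X.Opens := fun d => ⟨π.finrank ⁻¹' {d}, hlc.isOpen_fiber d⟩
  have hcompl : ∀ d, IsClosed (U d : Set X) := fun d => by
    have : (U d : Set X) = (π.finrank ⁻¹' {d}) := rfl
    rw [this]
    exact (hlc.isClopen_fiber d).1
  refine Groth.Agent.Lib.R2H4RelAmpleDesc.isAmple_of_disjoint_family L U
    (fun x => ⟨π.finrank x, rfl⟩) (fun j k hjk => ?_) (fun d => ?_)
  · ext x
    simp only [Opens.coe_inf, Set.mem_inter_iff, SetLike.mem_coe, Opens.coe_bot,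
      Set.mem_empty_iff_false, iff_false, not_and]
    intro (h1 : π.finrank x = j) (h2 : π.finrank x = k)
    exact hjk (h1.symm.trans h2)
  · have hUc : IsCompact (U d : Set X) := (hcompl d).isCompact
    have : CompactSpace ((U d : X.Opens) : Scheme.{u}) := isCompact_iff_compactSpace.1 hUc
    have hLr := isInvertible_restrict L hL (U d)
    have hdeg : Mor2.IsFinLocFreeOfDeg d (π ∣_ U d) :=
      ⟨isFinLocFree_restrict π hπ (U d), fun y => (finrank_restrict π hπ (U d) y).trans y.2⟩
    have hfinr : IsFinite (π ∣_ U d) := hdeg.1.1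
    by_cases hd : d = 0
    · have : IsEmpty ((U d : X.Opens) : Scheme.{u}) := by
        constructor
        intro y
        have h1 : π.finrank y.1 = d := y.2
        have h2 : 1 ≤ π.finrank y.1 := (Scheme.Hom.one_le_finrank_iff_surjective π).2 inferInstance y.1
        omega
      exact isAmple_of_isEmpty _ hLr
    · obtain ⟨N⟩ := Groth.Agent.Helper18Norm.main_S8878 (π ∣_ U d) d (by omega) hdeg
      refine Groth.Agent.Lib.R2H4SecNorm.isAmple_of_normOfDegree (π ∣_ U d) N _ hLr ?_
      rw [isAmple_iff_of_iso (pullbackMorphismRestrictIso π (U d) L)]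
      refine isAmple_restrict _ hamp _ ?_
      exact QuasiCompact.isCompact_preimage (f := π) _ (U d).2 hUc


/-- the local form: over a quasi-compact open `U` of the target -/
theorem isAmple_restrict_of_finLocFree (hπ : Mor2.IsFinLocFree π) [Surjective π]
    (L : X.Modules) (hL : PicF.IsInvertible L) (U : X.Opens) (hU : IsCompact (U : Set X))
    (hamp : CohB1.IsAmple (((Scheme.Modules.pullback π).obj L).restrict (π ⁻¹ᵁ U).ι)) :
    CohB1.IsAmple (L.restrict U.ι) := by
  have : CompactSpace ((U : X.Opens) : Scheme.{u}) := isCompact_iff_compactSpace.1 hU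
  have : Surjective (π ∣_ U) := IsZariskiLocalAtTarget.restrict (P := @Surjective) ‹Surjective π› U
  refine isAmple_of_finLocFree (π ∣_ U) (isFinLocFree_restrict π hπ U) _ (isInvertible_restrict L hL U) ?_
  rw [isAmple_iff_of_iso (pullbackMorphismRestrictIso π U L)]
  exact hamp

/-- the converse local form, for an affine morphism -/
theorem isAmple_restrict_pullback [IsAffineHom π] (L : X.Modules) (U : X.Opens)
    (hamp : CohB1.IsAmple (L.restrict U.ι)) :
    CohB1.IsAmple (((Scheme.Modules.pullback π).obj L).restrict (π ⁻¹ᵁ U).ι) := by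
  have : IsAffineHom (π ∣_ U) := IsZariskiLocalAtTarget.restrict (P := @IsAffineHom) ‹IsAffineHom π› U
  rw [← isAmple_iff_of_iso (pullbackMorphismRestrictIso π U L)]
  exact isAmple_pullback_of_isAffineHom (π ∣_ U) _ hamp

/-- **Relative ampleness and finite locally free surjective covers** (EGA II 6.6.2-type statement) -/
theorem isRelAmple_iff {S : Scheme.{u}} (f : X ⟶ S) [QuasiCompact f] (hπ : Mor2.IsFinLocFree π)
    [Surjective π] (L : X.Modules) (hL : PicF.IsInvertible L) :
    RelAmple.IsRelAmple f L ↔ RelAmple.IsRelAmple (π ≫ f) ((Scheme.Modules.pullback π).obj L) := by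
  have hfin := hπ.1
  constructor
  · intro h
    refine ⟨inferInstance, fun V => ?_⟩
    exact isAmple_restrict_pullback π L (f ⁻¹ᵁ V.1) (h.2 V)
  · intro h
    refine ⟨inferInstance, fun V => ?_⟩
    refine isAmple_restrict_of_finLocFree π hπ L hL (f ⁻¹ᵁ V.1) ?_ (h.2 V)
    exact QuasiCompact.isCompact_preimage (f := f) _ V.1.2 V.2.isCompact

end Groth.Agent.Lib.R2H4AmpleFinFree
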