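import Mathlib
import Groth.Prelude
import Groth.Agent.Lib.R2H4KleimanB
import Groth.Agent.Lib.R2H4NumEqDesc

/-!
# Consequences of Kleiman's theorem (helper4, round 2)

* `nef_of_forall_closedImmersion`, `nef_closedImmersion` : the two forms of nefness;
* `euler_mono2_sub` : the degree of `L^b ⊗ H^a` on a one-dimensional coherent module;
* `isAmple_nef_tensor_ample` : `L^ν ⊗ A` is ample for `L` nef and `A` ample (integral case);
* `nef_of_isAmple_tensor` : the converse.
-/

set_option autoImplicit false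
set_option linter.style.haveILetI false
set_option linter.unusedSectionVars false
universe u
open CategoryTheory CategoryTheory.Limits AlgebraicGeometry TopologicalSpace

noncomputable section

namespace Groth.Agent.Lib.R2H4KleimanC

open Groth.Agent.Lib.R2H4NumPoly Groth.Agent.Lib.R2H4TensorPows Groth.Agent.Lib.R2H4Snapper
  Groth.Agent.Lib.R2H4SnapperCor Groth.Agent.Lib.R2H4SnapperRef Groth.Agent.Lib.R2H4MultiAdd
  Groth.Agent.Lib.R2H4AmplePos Groth.Agent.Lib.R2H4KleimanA Groth.Agent.Lib.R2H4KleimanB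
  Groth.Agent.Lib.R2H1.NefPull

section Forms

variable (k : Type u) [Field k] (X : Scheme.{u}) [X.Over (Spec (CommRingCat.of k))]
  [IsProper (X ↘ Spec (CommRingCat.of k))]

omit [IsProper (X ↘ Spec (CommRingCat.of k))] in
/-- the closed immersion form of nefness implies the ideal sheaf form -/
theorem nef_of_forall_closedImmersion (L : X.Modules)
    (h : ∀ (Y : Scheme.{u}) (i : Y ⟶ X) [IsClosedImmersion i], IsIntegral Y →
      topologicalKrullDim Y = 1 →
      0 ≤ Pic13.curveDeg k (i ≫ (X ↘ Spec (CommRingCat.of k)))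
        ((Scheme.Modules.pullback i).obj L)) : Nef k X L := by
  intro C hC hdim
  exact h C.subscheme C.subschemeι hC (by rw [← dim_support_eq, hdim])

/-- the ideal sheaf form of nefness implies the closed immersion form -/
theorem nef_closedImmersion (L : X.Modules) (hL : PicF.IsInvertible L) (hnef : Nef k X L)
    (Y : Scheme.{u}) (i : Y ⟶ X) [IsClosedImmersion i] (hY : IsIntegral Y)
    (hdim : topologicalKrullDim Y = 1) :
    0 ≤ Pic13.curveDeg k (i ≫ (X ↘ Spec (CommRingCat.of k)))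
      ((Scheme.Modules.pullback i).obj L) := by
  haveI := hY
  have hinj : Function.Injective i.base := i.isClosedEmbedding.injective
  have hpt : ¬ ∃ x : X, Set.range i.base ⊆ {x} := by
    rintro ⟨x, hx⟩
    haveI : Subsingleton Y := ⟨fun a b => hinj ((hx ⟨a, rfl⟩).trans (hx ⟨b, rfl⟩).symm)⟩
    have h0 : topologicalKrullDim Y ≤ 0 := by
      unfold topologicalKrullDim
      haveI : Subsingleton (IrreducibleCloseds Y) := by
        refine ⟨fun A B => ?_⟩
        apply SetLike.ext
        intro y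
        obtain ⟨a, ha⟩ := A.isIrreducible'.nonempty
        obtain ⟨b, hb⟩ := B.isIrreducible'.nonempty
        constructor
        · intro _; rw [Subsingleton.elim y b]; exact hb
        · intro _; rw [Subsingleton.elim y a]; exact ha
      exact Order.krullDim_nonpos_of_subsingleton
    rw [hdim] at h0
    exact absurd h0 (by decide)
  obtain ⟨I₀, hint₀, hdim₀, hr₀⟩ := image_curve X hdim i hpt
  haveI := hint₀
  obtain ⟨c, hc, hform⟩ := Groth.Agent.Lib.R2H4NumEqDesc.exists_pos_curveDeg_pullback k X hdim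
    hdim₀ i I₀.subschemeι hr₀.symm
  rw [hform L hL]
  exact mul_nonneg hc.le (hnef I₀ hint₀ (by rw [dim_support_eq, hdim₀]))

end Forms

section Deg

variable (k : Type u) [Field k] {X : Scheme.{u}} [X.Over (Spec (CommRingCat.of k))]
  [IsProper (X ↘ Spec (CommRingCat.of k))]

/-- the degree of `L^b ⊗ H^a` against a coherent module with support of dimension `≤ 1` -/
theorem euler_mono2_sub (L H : X.Modules) (hL : PicF.IsInvertible L) (hH : PicF.IsInvertible H)
    (F : X.Modules) (hF : Coh.IsCoh F)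
    (hsupp : topologicalKrullDim (CohB1.support F) ≤ ((1 : ℕ) : WithBot ℕ∞)) (a b : ℕ) :
    (Curv2.euler k X (CohB1.tensorMod F (mono2 L H (b, a))) : ℚ) - (Curv2.euler k X F : ℚ) =
      (b : ℚ) * ((Curv2.euler k X (CohB1.tensorMod F L) : ℚ) - (Curv2.euler k X F : ℚ)) +
        (a : ℚ) * ((Curv2.euler k X (CohB1.tensorMod F H) : ℚ) - (Curv2.euler k X F : ℚ)) := by
  have hsplit := Φfun_split k hL hH hF 0 hsupp a b
  have hupd : ∀ y : ℕ × ℕ, Function.update (fun _ : Fin (0 + 1) => ((b, a) : ℕ × ℕ)) 0 y =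
      fun _ => y := by
    intro y
    funext i
    have : i = 0 := Fin.ext (by have := i.2; omega)
    rw [this, Function.update_self]
  rw [hupd, hupd] at hsplit
  have h1 : Φfun k L H F (0 + 1) (fun _ => (1, 0)) = iN k (fun _ : Fin 1 => L) F :=
    Φfun_bvec k L H _ 1 (fun _ => true)
  have h2 : Φfun k L H F (0 + 1) (fun _ => (0, 1)) = iN k (fun _ : Fin 1 => H) F :=
    Φfun_bvec k L H _ 1 (fun _ => false)
  have h3 : Φfun k L H F (0 + 1) (fun _ => (b, a)) =
      iN k (fun _ : Fin 1 => mono2 L H (b, a)) F := rfl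
  rw [h1, h2, h3, iN_const_one, iN_const_one, iN_const_one] at hsplit
  exact hsplit

end Deg

section Ample

variable (k : Type u) [Field k] (X : Scheme.{u}) [X.Over (Spec (CommRingCat.of k))]
  [IsProper (X ↘ Spec (CommRingCat.of k))]

/-- `L^ν ⊗ A ≅ L^ν ⊗ A^1` -/
def mono2One (L A : X.Modules) (ν : ℕ) :
    mono2 L A (ν, 1) ≅ CohB1.tensorMod (CohB1.tensorPow L ν) A :=
  tIso (Iso.refl _) (lUnit A)

/-- **nef ⊗ ample is ample** on an integral proper scheme -/
theorem isAmple_nef_tensor_ample [IsIntegral X] (L A : X.Modules) (hL : PicF.IsInvertible L)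
    (hnef : Nef k X L) (hA : CohB1.IsAmple A) (ν : ℕ) :
    CohB1.IsAmple (CohB1.tensorMod (CohB1.tensorPow L ν) A) := by
  obtain ⟨D, hD⟩ := Groth.Agent.Lib.R2H4NumEquivInt.exists_dim_le k (X := X)
  have hlt : topologicalKrullDim X < ((D + 1 : ℕ) : WithBot ℕ∞) :=
    lt_of_le_of_lt hD (natCast_lt_succ D)
  obtain ⟨e, -, he⟩ := exists_nat_dim_eq (D + 1) hlt
  have h := (kleiman_aux k e X he L A hL hnef hA).2 1 ν Nat.one_pos
  exact Groth.Agent.Lib.Helper23.AmpleIso.isAmple_of_iso (mono2One X L A ν) h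

/-- if all `L^ν ⊗ A`, `ν > 0`, are ample, then `L` is nef -/
theorem nef_of_isAmple_tensor (L A : X.Modules) (hL : PicF.IsInvertible L)
    (hA : CohB1.IsAmple A)
    (h : ∀ ν : ℕ, 0 < ν → CohB1.IsAmple (CohB1.tensorMod (CohB1.tensorPow L ν) A)) :
    Nef k X L := by
  intro C hC hdim
  haveI := Groth.Agent.Lib.R2H1.CurveEuler.isNoetherian_of_proper k X
  have cQ : Coh.IsCoh (ClSub.quotMod C) := isCoh_quotMod k C
  have hsupp : topologicalKrullDim (CohB1.support (ClSub.quotMod C)) ≤
      ((1 : ℕ) : WithBot ℕ∞) := by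
    refine (Groth.Agent.Lib.Helper8.Conn.dim_mono
      (Groth.Agent.Lib.R2H1.DegCartier.support_quotMod_subset (D := C))).trans ?_
    rw [hdim]; rfl
  rw [← euler_quotMod_tensor_sub k X C hdim.le L hL]
  set dL : ℤ := Curv2.euler k X (CohB1.tensorMod (ClSub.quotMod C) L) -
    Curv2.euler k X (ClSub.quotMod C) with hdL
  set dA : ℤ := Curv2.euler k X (CohB1.tensorMod (ClSub.quotMod C) A) -
    Curv2.euler k X (ClSub.quotMod C) with hdA
  by_contra hneg
  push Not at hneg
  -- choose `ν = dA + 1`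
  have hdApos : 0 < dA := Groth.Agent.Lib.R2H4GGAmple.deg_pos_of_isAmple k X A hA C hC hdim
  set ν : ℕ := dA.toNat + 1 with hν
  have hνpos : 0 < ν := Nat.succ_pos _
  have hamp := h ν hνpos
  have hpos := Groth.Agent.Lib.R2H4GGAmple.deg_pos_of_isAmple k X _ hamp C hC hdim
  rw [← Groth.Agent.Lib.R2H1.DegCartier.euler_congr k
    (tIso (Iso.refl (ClSub.quotMod C)) (mono2One X L A ν))] at hpos
  have hform := euler_mono2_sub k L A hL hA.1 _ cQ hsupp 1 ν
  have hposQ : (0 : ℚ) < (Curv2.euler k X (CohB1.tensorMod (ClSub.quotMod C) (mono2 L A (ν, 1))) : ℚ) -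
      (Curv2.euler k X (ClSub.quotMod C) : ℚ) := by exact_mod_cast hpos
  rw [hform] at hposQ
  have hdLQ : ((Curv2.euler k X (CohB1.tensorMod (ClSub.quotMod C) L) : ℚ) -
      (Curv2.euler k X (ClSub.quotMod C) : ℚ)) = (dL : ℚ) := by rw [hdL]; push_cast; rfl
  have hdAQ : ((Curv2.euler k X (CohB1.tensorMod (ClSub.quotMod C) A) : ℚ) -
      (Curv2.euler k X (ClSub.quotMod C) : ℚ)) = (dA : ℚ) := by rw [hdA]; push_cast; rfl
  rw [hdLQ, hdAQ] at hposQ
  have hposZ : (0 : ℤ) < (ν : ℤ) * dL + 1 * dA := by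
    have : (0 : ℚ) < (((ν : ℤ) * dL + 1 * dA : ℤ) : ℚ) := by push_cast; exact_mod_cast hposQ
    exact_mod_cast this
  have hνZ : (ν : ℤ) = dA + 1 := by
    rw [hν]; push_cast; rw [Int.toNat_of_nonneg hdApos.le]
  have hle : (ν : ℤ) * dL ≤ -(ν : ℤ) := by nlinarith
  rw [hνZ] at hposZ hle
  linarith

end Ample

end Groth.Agent.Lib.R2H4KleimanC
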