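import Mathlib
import Groth.Prelude
import Groth.Agent.Lib.H9N1RAmple
import Groth.Agent.Lib.H9N1RNondeg
import Groth.Agent.Lib.H9NegDefGeo
import Groth.Agent.Lib.R2H4KleimanC
import Groth.Agent.Lib.R2H4CurveOnSurf
import Groth.Agent.Lib.R2H1NefPull
set_option backward.isDefEq.respectTransparency.types false

/-!
# Nef and ample cones of a smooth projective surface (helper4, round 2)

* `B_curveCl_eq` : `B([M], [C]) = deg M|_C`;
* `exists_rat_mem` : rational classes are dense in `N¹(X)_ℝ`;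
* `nef_add_ample` : a nef REAL class plus a class of the ample cone lies in the ample cone
  (rational approximation + Kleiman's `nef ⊗ ample is ample`);
* `selfInt_nonneg`, `closure_ampleCone`.
-/

set_option autoImplicit false
set_option linter.style.haveILetI false
set_option linter.unusedSectionVars false
universe u
open CategoryTheory CategoryTheory.Limits AlgebraicGeometry TopologicalSpace Filter Topology

noncomputable section

namespace Groth.Agent.Lib.R2H4SurfCone

open Groth.Agent.Lib.H9N1RAmple Groth.Agent.Lib.H9N1RHodgeAlg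

section Dense

variable (k : Type u) [Field k] (X : Scheme.{u}) [X.Over (Spec (CommRingCat.of k))] [PicGrp.Law X]

/-- rational classes are dense in `N¹(X)_ℝ` (no finiteness needed) -/
theorem exists_rat_mem (U : Set (NumR.N1R k X)) (hU : IsOpen U) (hne : U.Nonempty) :
    ∃ z ∈ U, ∃ (N : ℕ) (M : X.Modules) (hM : PicF.IsInvertible M), 0 < N ∧
      (N : ℝ) • z = NumR.clR k X M hM := by
  classical
  obtain ⟨x, hx⟩ := hne
  have hx' : x ∈ Submodule.span ℝ {x : NumR.N1R k X | ∃ (L : X.Modules)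
      (hL : PicF.IsInvertible L), x = NumR.clR k X L hL} := by
    rw [NumR.span_clR]; trivial
  obtain ⟨n, f, g, rfl⟩ := Submodule.mem_span_set'.mp hx'
  choose L hL hgL using fun i => (g i).2
  let φ : (Fin n → ℝ) → NumR.N1R k X := fun c => ∑ i, c i • (g i : NumR.N1R k X)
  have hφ : Continuous φ :=
    continuous_finset_sum _ (fun i _ => (continuous_apply i).smul continuous_const)
  have hd : DenseRange (fun q : Fin n → ℚ => fun i => ((q i : ℚ) : ℝ)) :=
    DenseRange.piMap (fun _ => Rat.denseRange_cast)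
  obtain ⟨q, hq⟩ := hd.exists_mem_open (hU.preimage hφ) ⟨f, hx⟩
  refine ⟨φ (fun i => ((q i : ℚ) : ℝ)), hq, ?_⟩
  obtain ⟨b, hb⟩ := IsLocalization.exist_integer_multiples (nonZeroDivisors ℤ) Finset.univ q
  choose a ha using fun i => hb i (Finset.mem_univ i)
  have hb0 : (b : ℤ) ≠ 0 := nonZeroDivisors.ne_zero b.2
  have h1 : ∀ i, ((b : ℤ) : ℝ) * ((q i : ℚ) : ℝ) = ((a i : ℤ) : ℝ) := by
    intro i
    have := ha i
    rw [Algebra.smul_def] at this
    have h2 : ((algebraMap ℤ ℚ (a i) : ℚ) : ℝ) =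
        (((algebraMap ℤ ℚ (b : ℤ)) * q i : ℚ) : ℝ) := by rw [this]
    simpa using h2.symm
  let μ : NumR.N1 k X := ∑ i, ((b : ℤ) * a i) • NumR.cl k X (L i) (hL i)
  obtain ⟨M, hM, hμ⟩ := NumR.exists_eq_cl μ
  refine ⟨(b : ℤ).natAbs * (b : ℤ).natAbs, M, hM, Nat.mul_pos (Int.natAbs_pos.mpr hb0)
    (Int.natAbs_pos.mpr hb0), ?_⟩
  have hN : (((b : ℤ).natAbs * (b : ℤ).natAbs : ℕ) : ℝ) = ((b : ℤ) : ℝ) * ((b : ℤ) : ℝ) := by
    have := Int.natAbs_mul_self' (b : ℤ)
    have h3 : (((b : ℤ).natAbs * (b : ℤ).natAbs : ℕ) : ℤ) = (b : ℤ) * (b : ℤ) := by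
      rw [Nat.cast_mul]; exact this
    calc (((b : ℤ).natAbs * (b : ℤ).natAbs : ℕ) : ℝ)
        = ((((b : ℤ).natAbs * (b : ℤ).natAbs : ℕ) : ℤ) : ℝ) := (Int.cast_natCast _).symm
      _ = (((b : ℤ) * (b : ℤ) : ℤ) : ℝ) := by rw [h3]
      _ = ((b : ℤ) : ℝ) * ((b : ℤ) : ℝ) := Int.cast_mul _ _
  rw [NumR.clR_def, ← hμ, hN]
  change _ • (∑ i, _) = _
  rw [Finset.smul_sum, map_sum]
  refine Finset.sum_congr rfl fun i _ => ?_
  rw [map_zsmul, smul_smul, hgL i, NumR.clR_def, ← Int.cast_smul_eq_zsmul ℝ]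
  congr 1
  push_cast
  rw [mul_assoc, h1 i]

end Dense

section Surf

variable (k : Type u) [Field k] (X : Scheme.{u}) [X.Over (Spec (CommRingCat.of k))]
  [IsProper (X ↘ (Spec (CommRingCat.of k)))] [Smooth (X ↘ (Spec (CommRingCat.of k)))]
  [AlgebraicGeometry.IsIntegral X] [PicGrp.Law X]

include k in
/-- an integral curve on a smooth surface has invertible ideal -/
theorem isInvertible_curve (hdim : topologicalKrullDim X = 2) (C : X.IdealSheafData)
    [IsIntegral C.subscheme] (hCd : topologicalKrullDim (C.support : Set X) = 1) :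
    PicF.IsInvertible (ClSub.idealMod C) :=
  Groth.Agent.Helper18Cart.isInvertible_of_isEffCartier _
    (Groth.Agent.Lib.H9NegDefGeo.isEffCartier_curve k hdim C hCd)

/-- `(I_C · M') = deg M|_C` in `curveDeg` form -/
theorem curveDeg_eq (hdim : topologicalKrullDim X = 2) (C : X.IdealSheafData)
    [IsIntegral C.subscheme] (hCd : topologicalKrullDim (C.support : Set X) = 1)
    (M M' : X.Modules) (hM : PicF.IsInvertible M)
    (e : CohB1.tensorMod M M' ≅ Coh.structureModule X) :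
    Pic13.curveDeg k (C.subschemeι ≫ (X ↘ (Spec (CommRingCat.of k))))
      ((Scheme.Modules.pullback C.subschemeι).obj M) =
    FGA.intNum k X 2 ![ClSub.idealMod C, M'] (Coh.structureModule X) := by
  have hYdim : topologicalKrullDim C.subscheme = 1 := by
    rw [← Groth.Agent.Lib.R2H1.NefPull.dim_support_eq, hCd]
  have h1 := Groth.Agent.Lib.R2H4CurveOnSurf.main k X hdim C.subscheme C.subschemeι hYdim M M' hM ⟨e⟩
  rw [Scheme.IdealSheafData.ker_subschemeι] at h1
  rw [h1]
  unfold Pic13.curveDeg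
  letI : C.subscheme.Over (Spec (CommRingCat.of k)) :=
    ⟨C.subschemeι ≫ (X ↘ (Spec (CommRingCat.of k)))⟩
  haveI : IsProper (C.subscheme ↘ Spec (CommRingCat.of k)) :=
    inferInstanceAs (IsProper (C.subschemeι ≫ (X ↘ Spec (CommRingCat.of k))))
  have hd1 : topologicalKrullDim C.subscheme ≤ ((1 : ℕ) : WithBot ℕ∞) := hYdim.le
  have e1 := Groth.Agent.Lib.R2H4GVSch.eulerCharLE_eq_euler k C.subscheme 1 hd1
    ((Scheme.Modules.pullback C.subschemeι).obj M)
  have e2 := Groth.Agent.Lib.R2H4GVSch.eulerCharLE_eq_euler k C.subscheme 1 hd1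
    (Coh.structureModule C.subscheme)
  unfold Curv2.deg
  rw [e1, e2]
  simp

variable [Module.Finite ℝ (NumR.N1R k X)]

theorem B_curveCl_eq (hdim : topologicalKrullDim X = 2)
    (B : NumR.N1R k X →ₗ[ℝ] NumR.N1R k X →ₗ[ℝ] ℝ) (hB : NumR.IsIntForm₂ k X B)
    (C : X.IdealSheafData)
    [IsIntegral C.subscheme] (hCd : topologicalKrullDim (C.support : Set X) = 1)
    (hI : PicF.IsInvertible (ClSub.idealMod C))
    (M : X.Modules) (hM : PicF.IsInvertible M) :
    B (NumR.clR k X M hM) (NumR.curveCl k X C hI) =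
      (Pic13.curveDeg k (C.subschemeι ≫ (X ↘ (Spec (CommRingCat.of k))))
        ((Scheme.Modules.pullback C.subschemeι).obj M) : ℝ) := by
  obtain ⟨M', hM', ⟨e⟩⟩ := Groth.Agent.Lib.R2H1.InvExists.exists_inverse M hM
  rw [curveDeg_eq k X hdim C hCd M M' hM e]
  have hd : topologicalKrullDim X ≤ ((2 : ℕ) : WithBot ℕ∞) := hdim.le
  have h3 : B (NumR.clR k X M hM) (NumR.curveCl k X C hI) =
      B (NumR.clR k X M' hM') (NumR.clR k X (ClSub.idealMod C) hI) := by
    unfold NumR.curveCl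
    rw [clR_inverse k X hM hM' e, map_neg, map_neg, LinearMap.neg_apply]
  have h4 : FGA.intNum k X 2 ![M', ClSub.idealMod C] (Coh.structureModule X) =
      FGA.intNum k X 2 ![ClSub.idealMod C, M'] (Coh.structureModule X) :=
    Groth.Agent.Lib.R2H4SurfPos.intNum_swap k 2 hd M' (ClSub.idealMod C) (Coh.structureModule X)
  rw [h3, hB, h4]

/-- a rational nef class is the class of a nef module -/
theorem nef_of_mem_nefCone (hdim : topologicalKrullDim X = 2)
    (B : NumR.N1R k X →ₗ[ℝ] NumR.N1R k X →ₗ[ℝ] ℝ) (hB : NumR.IsIntForm₂ k X B)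
    (z : NumR.N1R k X) (hz : z ∈ NumR.nefCone₂ k X B) (N : ℕ) (hN : 0 < N)
    (M : X.Modules) (hM : PicF.IsInvertible M) (hNz : (N : ℝ) • z = NumR.clR k X M hM) :
    Groth.Agent.Lib.R2H4KleimanA.Nef k X M := by
  intro C hCi hCd
  haveI := hCi
  have hI := isInvertible_curve k X hdim C hCd
  have h1 := B_curveCl_eq k X hdim B hB C hCd hI M hM
  rw [← hNz, map_smul, LinearMap.smul_apply, smul_eq_mul] at h1
  have h2 : (0 : ℝ) ≤ (N : ℝ) * B z (NumR.curveCl k X C hI) :=
    mul_nonneg (Nat.cast_nonneg N) (hz C hCi hCd hI)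
  rw [h1] at h2
  exact_mod_cast h2

theorem ample_pos_curve (hdim : topologicalKrullDim X = 2)
    (B : NumR.N1R k X →ₗ[ℝ] NumR.N1R k X →ₗ[ℝ] ℝ) (hB : NumR.IsIntForm₂ k X B)
    (A : X.Modules) (hA : CohB1.IsAmple A) (C : X.IdealSheafData)
    (hCi : IsIntegral C.subscheme) (hCd : topologicalKrullDim (C.support : Set X) = 1)
    (hI : PicF.IsInvertible (ClSub.idealMod C)) :
    0 < B (NumR.clR k X A hA.1) (NumR.curveCl k X C hI) := by
  haveI := hCi
  obtain ⟨M', hM', ⟨e⟩⟩ := Groth.Agent.Lib.R2H1.InvExists.exists_inverse A hA.1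
  have hd : topologicalKrullDim X ≤ ((2 : ℕ) : WithBot ℕ∞) := hdim.le
  have hpos := Groth.Agent.Lib.H9NegDefGeo.intNum_pos_of_dim_one k hdim C
    (Groth.Agent.Lib.H9NegDefGeo.isEffCartier_curve k hdim C hCd) hCd A M' hA e
  have h3 : B (NumR.clR k X A hA.1) (NumR.curveCl k X C hI) =
      B (NumR.clR k X M' hM') (NumR.clR k X (ClSub.idealMod C) hI) := by
    unfold NumR.curveCl
    rw [clR_inverse k X hA.1 hM' e, map_neg, map_neg, LinearMap.neg_apply]
  have h4 : FGA.intNum k X 2 ![M', ClSub.idealMod C] (Coh.structureModule X) =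
      FGA.intNum k X 2 ![ClSub.idealMod C, M'] (Coh.structureModule X) :=
    Groth.Agent.Lib.R2H4SurfPos.intNum_swap k 2 hd M' (ClSub.idealMod C) (Coh.structureModule X)
  rw [h3, hB, h4]
  exact_mod_cast hpos

/-- classes of the ample cone are strictly positive on curves -/
theorem ampleCone_pos_curve (hdim : topologicalKrullDim X = 2)
    (B : NumR.N1R k X →ₗ[ℝ] NumR.N1R k X →ₗ[ℝ] ℝ) (hB : NumR.IsIntForm₂ k X B)
    (x : NumR.N1R k X) (hx : x ∈ NumR.ampleCone k X) (C : X.IdealSheafData)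
    (hCi : IsIntegral C.subscheme) (hCd : topologicalKrullDim (C.support : Set X) = 1)
    (hI : PicF.IsInvertible (ClSub.idealMod C)) :
    0 < B x (NumR.curveCl k X C hI) := by
  let T : ConvexCone ℝ (NumR.N1R k X) :=
    { carrier := {x | 0 < B x (NumR.curveCl k X C hI)}
      smul_mem' := by
        rintro c hc x hx
        simp only [Set.mem_setOf_eq, map_smul, LinearMap.smul_apply, smul_eq_mul]
        exact mul_pos hc hx
      add_mem' := by
        rintro x hx y hy
        simp only [Set.mem_setOf_eq, map_add, LinearMap.add_apply]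
        exact add_pos hx hy }
  have hT : NumR.ampleCone k X ≤ T := by
    refine ConvexCone.hull_min ?_
    rintro _ ⟨A, hA, hAamp, rfl⟩
    exact ample_pos_curve k X hdim B hB A hAamp C hCi hCd hI
  exact hT hx

theorem ampleCone_subset_nefCone (hdim : topologicalKrullDim X = 2)
    (B : NumR.N1R k X →ₗ[ℝ] NumR.N1R k X →ₗ[ℝ] ℝ) (hB : NumR.IsIntForm₂ k X B) :
    (NumR.ampleCone k X : Set (NumR.N1R k X)) ⊆ NumR.nefCone₂ k X B :=
  fun x hx C hCi hCd hI => (ampleCone_pos_curve k X hdim B hB x hx C hCi hCd hI).le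

/-- integral nef class plus ample cone -/
theorem smul_nef_add_mem (M : X.Modules) (hM : PicF.IsInvertible M)
    (hnef : Groth.Agent.Lib.R2H4KleimanA.Nef k X M) (a : NumR.N1R k X)
    (ha : a ∈ NumR.ampleCone k X) :
    ∀ t : ℝ, 0 ≤ t → t • NumR.clR k X M hM + a ∈ NumR.ampleCone k X := by
  let T : ConvexCone ℝ (NumR.N1R k X) :=
    { carrier := {a | a ∈ NumR.ampleCone k X ∧
        ∀ t : ℝ, 0 ≤ t → t • NumR.clR k X M hM + a ∈ NumR.ampleCone k X}
      smul_mem' := by
        rintro c hc a ⟨ha, hat⟩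
        refine ⟨(NumR.ampleCone k X).smul_mem hc ha, fun t ht => ?_⟩
        have h1 := (NumR.ampleCone k X).smul_mem hc (hat (t / c) (div_nonneg ht hc.le))
        rwa [smul_add, smul_smul, mul_div_cancel₀ _ hc.ne'] at h1
      add_mem' := by
        rintro a ⟨ha, hat⟩ b ⟨hb, -⟩
        refine ⟨(NumR.ampleCone k X).add_mem ha hb, fun t ht => ?_⟩
        have h1 := (NumR.ampleCone k X).add_mem (hat t ht) hb
        rwa [add_assoc] at h1 }
  have hT : NumR.ampleCone k X ≤ T := by
    refine ConvexCone.hull_min ?_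
    rintro _ ⟨A, hA, hAamp, rfl⟩
    have hA0 : NumR.clR k X A hA ∈ NumR.ampleCone k X :=
      ConvexCone.subset_hull ⟨A, hA, hAamp, rfl⟩
    refine ⟨hA0, fun t ht => ?_⟩
    obtain ⟨ν, hν⟩ := exists_nat_ge (max t 1)
    have hν1 : (1 : ℝ) ≤ ν := le_trans (le_max_right _ _) hν
    have hνt : t ≤ ν := le_trans (le_max_left _ _) hν
    have hν0 : (0 : ℝ) < ν := lt_of_lt_of_le one_pos hν1
    have hamp := Groth.Agent.Lib.R2H4KleimanC.isAmple_nef_tensor_ample k X M A hM hnef hAamp ν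
    have hMν : PicF.IsInvertible (CohB1.tensorPow M ν) :=
      Groth.Agent.Lib.Helper23.SecTw.isInvertible_tensorPow hM ν
    have h1 : NumR.clR k X _ hamp.1 ∈ NumR.ampleCone k X :=
      ConvexCone.subset_hull ⟨_, hamp.1, hamp, rfl⟩
    rw [clR_tensor k X hMν hA hamp.1, clR_tensorPow k X hM ν hMν] at h1
    have h2 := (NumR.ampleCone k X).convex h1 hA0 (div_nonneg ht hν0.le)
      (sub_nonneg.mpr ((div_le_one hν0).mpr hνt)) (by ring)
    have h3 : (t / (ν : ℝ)) • ((ν : ℝ) • NumR.clR k X M hM + NumR.clR k X A hA) +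
        (1 - t / (ν : ℝ)) • NumR.clR k X A hA = t • NumR.clR k X M hM + NumR.clR k X A hA := by
      rw [smul_add, smul_smul, div_mul_cancel₀ _ hν0.ne', add_assoc, ← add_smul]
      congr 2
      ring_nf
      simp
    rwa [h3] at h2
  exact (hT ha).2

/-- **nef + ample is ample** for real classes on a smooth projective surface -/
theorem nef_add_ample (hdim : topologicalKrullDim X = 2)
    (B : NumR.N1R k X →ₗ[ℝ] NumR.N1R k X →ₗ[ℝ] ℝ) (hB : NumR.IsIntForm₂ k X B)
    (x y : NumR.N1R k X) (hx : x ∈ NumR.nefCone₂ k X B) (hy : y ∈ NumR.ampleCone k X) :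
    x + y ∈ NumR.ampleCone k X := by
  haveI : IsTopologicalAddGroup (NumR.N1R k X) := IsModuleTopology.topologicalAddGroup ℝ _
  have hopen := isOpen_ampleCone k X
  let U : Set (NumR.N1R k X) := {z | z - x ∈ NumR.ampleCone k X ∧ x + y - z ∈ NumR.ampleCone k X}
  have hU : IsOpen U :=
    (hopen.preimage (continuous_id.sub continuous_const)).inter
      (hopen.preimage (continuous_const.sub continuous_id))
  have hhalf : (2⁻¹ : ℝ) • y ∈ NumR.ampleCone k X :=
    (NumR.ampleCone k X).smul_mem (by norm_num) hy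
  have hne : U.Nonempty := by
    refine ⟨x + (2⁻¹ : ℝ) • y, ?_, ?_⟩
    · change x + (2⁻¹ : ℝ) • y - x ∈ NumR.ampleCone k X
      rwa [add_sub_cancel_left]
    · change x + y - (x + (2⁻¹ : ℝ) • y) ∈ NumR.ampleCone k X
      have : x + y - (x + (2⁻¹ : ℝ) • y) = (2⁻¹ : ℝ) • y := by
        rw [add_sub_add_left_eq_sub]
        nth_rewrite 1 [← one_smul ℝ y]
        rw [← sub_smul]
        norm_num
      rwa [this]
  obtain ⟨z, ⟨hz1, hz2⟩, N, M, hM, hN, hNz⟩ := exists_rat_mem k X U hU hne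
  have hznef : z ∈ NumR.nefCone₂ k X B := by
    intro C hCi hCd hI
    have h1 := hx C hCi hCd hI
    have h2 := (ampleCone_pos_curve k X hdim B hB _ hz1 C hCi hCd hI).le
    have h3 : z = x + (z - x) := by abel
    rw [h3, map_add, LinearMap.add_apply]
    exact add_nonneg h1 h2
  have hnef := nef_of_mem_nefCone k X hdim B hB z hznef N hN M hM hNz
  have hN0 : (0 : ℝ) < N := by exact_mod_cast hN
  have h4 := smul_nef_add_mem k X M hM hnef _ hz2 ((N : ℝ)⁻¹) (inv_pos.mpr hN0).le
  rw [← hNz, smul_smul, inv_mul_cancel₀ hN0.ne', one_smul] at h4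
  have h5 : z + (x + y - z) = x + y := by abel
  rwa [h5] at h4

/-- a nef real class has nonnegative self-intersection -/
theorem selfInt_nonneg (hdim : topologicalKrullDim X = 2)
    (B : NumR.N1R k X →ₗ[ℝ] NumR.N1R k X →ₗ[ℝ] ℝ) (hB : NumR.IsIntForm₂ k X B)
    (H : X.Modules) (hH : CohB1.IsAmple H)
    (x : NumR.N1R k X) (hx : x ∈ NumR.nefCone₂ k X B) : 0 ≤ B x x := by
  set h := NumR.clR k X H hH.1 with hh
  have hsymm := Groth.Agent.Lib.H9N1RHodge.symm k X hdim B hB
  have hHamp : h ∈ NumR.ampleCone k X := ConvexCone.subset_hull ⟨H, hH.1, hH, rfl⟩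
  have key : ∀ ε : ℝ, 0 < ε → 0 < B x x + 2 * ε * B x h + ε * ε * B h h := by
    intro ε hε
    have h1 := nef_add_ample k X hdim B hB x (ε • h) hx ((NumR.ampleCone k X).smul_mem hε hHamp)
    have h2 := (ampleCone_subset_posCone k X hdim B hB H hH h1).1
    have h3 : B (x + ε • h) (x + ε • h) = B x x + 2 * ε * B x h + ε * ε * B h h := by
      simp only [map_add, LinearMap.add_apply, map_smul, LinearMap.smul_apply, smul_eq_mul]
      rw [hsymm h x]
      ring
    rwa [h3] at h2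
  by_contra hneg
  push Not at hneg
  set P := B x x with hP
  set Q := B x h with hQ
  set R := B h h with hR
  have hR0 : 0 < R := Groth.Agent.Lib.H9N1RHodge.self_pos k X hdim B hB H hH H hH
  have hden : 0 < 2 * |Q| + R + 1 := by positivity
  set ε := min 1 ((-P) / (2 * |Q| + R + 1)) with hε
  have hε0 : 0 < ε := lt_min one_pos (div_pos (neg_pos.mpr hneg) hden)
  have hε1 : ε ≤ 1 := min_le_left _ _
  have hε2 : ε * (2 * |Q| + R + 1) ≤ -P := by
    have := min_le_right (1 : ℝ) ((-P) / (2 * |Q| + R + 1))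
    calc ε * (2 * |Q| + R + 1) ≤ ((-P) / (2 * |Q| + R + 1)) * (2 * |Q| + R + 1) :=
          mul_le_mul_of_nonneg_right this hden.le
      _ = -P := div_mul_cancel₀ _ hden.ne'
  have hk := key ε hε0
  have hQ' : Q ≤ |Q| := le_abs_self Q
  have h6 : ε * ε * R ≤ ε * R := by
    have : ε * ε ≤ ε := by nlinarith
    exact mul_le_mul_of_nonneg_right this hR0.le
  nlinarith [mul_le_mul_of_nonneg_left hQ' hε0.le]

/-- the closure of the ample cone is the nef cone -/
theorem mem_closure_of_nef (hdim : topologicalKrullDim X = 2)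
    (B : NumR.N1R k X →ₗ[ℝ] NumR.N1R k X →ₗ[ℝ] ℝ) (hB : NumR.IsIntForm₂ k X B)
    (H : X.Modules) (hH : CohB1.IsAmple H)
    (x : NumR.N1R k X) (hx : x ∈ NumR.nefCone₂ k X B) :
    x ∈ closure (NumR.ampleCone k X : Set (NumR.N1R k X)) := by
  set h := NumR.clR k X H hH.1 with hh
  have hHamp : h ∈ NumR.ampleCone k X := ConvexCone.subset_hull ⟨H, hH.1, hH, rfl⟩
  have hmem : ∀ n : ℕ, x + (1 / ((n : ℝ) + 1)) • h ∈ (NumR.ampleCone k X : Set (NumR.N1R k X)) :=
    fun n => nef_add_ample k X hdim B hB x _ hx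
      ((NumR.ampleCone k X).smul_mem (by positivity) hHamp)
  have hlim : Tendsto (fun n : ℕ => x + (1 / ((n : ℝ) + 1)) • h) atTop (𝓝 x) := by
    have h1 : Tendsto (fun n : ℕ => (1 / ((n : ℝ) + 1)) • h) atTop (𝓝 ((0 : ℝ) • h)) :=
      (tendsto_one_div_add_atTop_nhds_zero_nat).smul_const h
    have h2 := (tendsto_const_nhds (x := x)).add h1
    rwa [zero_smul, add_zero] at h2
  exact mem_closure_of_tendsto hlim (Eventually.of_forall hmem)

theorem isClosed_nefCone (B : NumR.N1R k X →ₗ[ℝ] NumR.N1R k X →ₗ[ℝ] ℝ) :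
    IsClosed (NumR.nefCone₂ k X B) := by
  have : NumR.nefCone₂ k X B = ⋂ (I : X.IdealSheafData), ⋂ (_ : IsIntegral I.subscheme),
      ⋂ (_ : topologicalKrullDim (I.support : Set X) = 1),
      ⋂ (hI : PicF.IsInvertible (ClSub.idealMod I)), {x | 0 ≤ B x (NumR.curveCl k X I hI)} := by
    ext x
    simp only [NumR.nefCone₂, Set.mem_setOf_eq, Set.mem_iInter]
  rw [this]
  refine isClosed_iInter fun I => isClosed_iInter fun _ => isClosed_iInter fun _ =>
    isClosed_iInter fun hI => ?_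
  exact isClosed_le continuous_const
    (IsModuleTopology.continuous_of_linearMap (B.flip (NumR.curveCl k X I hI)))

theorem continuous_selfInt (B : NumR.N1R k X →ₗ[ℝ] NumR.N1R k X →ₗ[ℝ] ℝ) :
    Continuous (fun x : NumR.N1R k X => B x x) := by
  have := IsModuleTopology.continuous_bilinear_of_finite_left B
  exact this.comp (continuous_id.prodMk continuous_id)

theorem closure_ampleCone (hdim : topologicalKrullDim X = 2)
    (B : NumR.N1R k X →ₗ[ℝ] NumR.N1R k X →ₗ[ℝ] ℝ) (hB : NumR.IsIntForm₂ k X B)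
    (H : X.Modules) (hH : CohB1.IsAmple H) :
    closure (NumR.ampleCone k X : Set (NumR.N1R k X)) =
      {x | 0 ≤ B x x ∧ x ∈ NumR.nefCone₂ k X B} := by
  refine Set.Subset.antisymm ?_ (fun x hx => mem_closure_of_nef k X hdim B hB H hH x hx.2)
  refine closure_minimal ?_ ?_
  · intro x hx
    exact ⟨(ampleCone_subset_posCone k X hdim B hB H hH hx).1.le,
      ampleCone_subset_nefCone k X hdim B hB hx⟩
  · exact (isClosed_le continuous_const (continuous_selfInt k X B)).inter (isClosed_nefCone k X B)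

theorem closure_ampleCone_inter_posCone (hdim : topologicalKrullDim X = 2)
    (B : NumR.N1R k X →ₗ[ℝ] NumR.N1R k X →ₗ[ℝ] ℝ) (hB : NumR.IsIntForm₂ k X B)
    (H : X.Modules) (hH : CohB1.IsAmple H) :
    closure (NumR.ampleCone k X : Set (NumR.N1R k X)) ∩ NumR.posCone k X B H hH.1 =
      {x | 0 < B x x ∧ x ∈ NumR.nefCone₂ k X B} := by
  rw [closure_ampleCone k X hdim B hB H hH]
  ext x
  constructor
  · rintro ⟨⟨-, hnef⟩, hpos, -⟩
    exact ⟨hpos, hnef⟩
  · rintro ⟨hpos, hnef⟩
    refine ⟨⟨hpos.le, hnef⟩, hpos, ?_⟩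
    have hcl := mem_closure_of_nef k X hdim B hB H hH x hnef
    have hge : 0 ≤ B x (NumR.clR k X H hH.1) := by
      have hS : IsClosed {x : NumR.N1R k X | 0 ≤ B x (NumR.clR k X H hH.1)} :=
        isClosed_le continuous_const
          (IsModuleTopology.continuous_of_linearMap (B.flip (NumR.clR k X H hH.1)))
      have hsub : (NumR.ampleCone k X : Set (NumR.N1R k X)) ⊆
          {x : NumR.N1R k X | 0 ≤ B x (NumR.clR k X H hH.1)} :=
        fun y hy => (ampleCone_subset_posCone k X hdim B hB H hH hy).2.le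
      exact closure_minimal hsub hS hcl
    rcases hge.lt_or_eq with h | h
    · exact h
    · exfalso
      have := Groth.Agent.Lib.H9N1RHodge.hodge_real k X hdim B hB H hH x h.symm
      linarith

end Surf

end Groth.Agent.Lib.R2H4SurfCone
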