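import Mathlib
import Groth.Prelude
import Groth.Agent.Lib.R2H4SurfCone
set_option backward.isDefEq.respectTransparency.types false

/-!
# Ampleness of real divisors on a surface depends only on the numerical class (helper4, round 2)

* `rat_decomp` : a real vector orthogonal to integral test functionals is a real combination of
  integer vectors orthogonal to them (descent of the radical to `ℚ`);
* `ampInt_add_zsmul` : ample integral divisor + integer multiple of a numerically trivial integral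
  divisor is ample (Kleiman);
* `main` = S19733.
-/

set_option autoImplicit false
set_option linter.style.haveILetI false
set_option linter.unusedSectionVars false
universe u
open CategoryTheory CategoryTheory.Limits AlgebraicGeometry TopologicalSpace

noncomputable section

namespace Groth.Agent.Lib.R2H4AmpleRDiv

open Groth.Agent.Lib.H9N1RAmple Groth.Agent.Lib.R2H4SurfCone

section Alg

variable {V : Type*} [AddCommGroup V] [Module ℝ V]

theorem rat_decomp (B : V →ₗ[ℝ] V →ₗ[ℝ] ℝ) {m : ℕ} (w : Fin m → V) (T : Set V)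
    (hint : ∀ i, ∀ t ∈ T, ∃ z : ℤ, B (w i) t = (z : ℝ)) (y : Fin m → ℝ)
    (hy : ∀ t ∈ T, B (∑ i, y i • w i) t = 0) :
    ∃ (d : ℕ) (β : Fin d → ℝ) (c : Fin m → Fin d → ℤ),
      (∀ l, ∀ t ∈ T, B (∑ i, (c i l : ℝ) • w i) t = 0) ∧
      ∀ i, y i = ∑ l, β l * (c i l : ℝ) := by
  classical
  let S : Submodule ℚ ℝ := Submodule.span ℚ (Set.range y)
  haveI : FiniteDimensional ℚ S := FiniteDimensional.span_of_finite ℚ (Set.finite_range y)
  let bS := Module.finBasis ℚ S
  let s : Fin m → S := fun i => ⟨y i, Submodule.subset_span ⟨i, rfl⟩⟩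
  let q : Fin m → Fin (Module.finrank ℚ S) → ℚ := fun i j => bS.repr (s i) j
  have hf : ∀ i, y i = ∑ j, (q i j : ℝ) * ((bS j : S) : ℝ) := by
    intro i
    have h1 := bS.sum_repr (s i)
    have h2 := congrArg (Subtype.val) h1
    rw [Submodule.coe_sum] at h2
    change _ = y i at h2
    rw [← h2]
    refine Finset.sum_congr rfl fun j _ => ?_
    rw [Submodule.coe_smul, Rat.smul_def]
  obtain ⟨N, hN⟩ := IsLocalization.exist_integer_multiples (nonZeroDivisors ℤ)
    (Finset.univ : Finset (Fin m × Fin (Module.finrank ℚ S))) (fun p => q p.1 p.2)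
  choose c hc using fun p => hN p (Finset.mem_univ p)
  have hN0 : ((N : ℤ) : ℝ) ≠ 0 := by
    have := nonZeroDivisors.ne_zero N.2
    exact_mod_cast this
  have hN0' : ((N : ℤ) : ℚ) ≠ 0 := by
    have := nonZeroDivisors.ne_zero N.2
    exact_mod_cast this
  have hcq : ∀ i j, ((c (i, j) : ℤ) : ℚ) = ((N : ℤ) : ℚ) * q i j := by
    intro i j
    have := hc (i, j)
    rw [Algebra.smul_def] at this
    simpa using this
  have hc' : ∀ i j, ((c (i, j) : ℤ) : ℝ) = ((N : ℤ) : ℝ) * (q i j : ℝ) := by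
    intro i j
    have := congrArg (fun z : ℚ => (z : ℝ)) (hcq i j)
    push_cast at this
    exact this
  refine ⟨Module.finrank ℚ S, fun l => ((bS l : S) : ℝ) / ((N : ℤ) : ℝ), fun i l => c (i, l), ?_, ?_⟩
  · intro l₀ t ht
    choose z hz using fun i => hint i t ht
    have h1 : ∑ i, y i * (z i : ℝ) = 0 := by
      have := hy t ht
      rw [LinearMap.map_sum₂] at this
      rw [← this]
      refine Finset.sum_congr rfl fun i _ => ?_
      rw [LinearMap.map_smul₂, hz i, smul_eq_mul]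
    -- rational coefficients
    let ρ : Fin (Module.finrank ℚ S) → ℚ := fun l => ∑ i, q i l * (z i : ℚ)
    have h2 : ∑ l, ρ l • bS l = 0 := by
      apply Subtype.ext
      rw [Submodule.coe_sum]
      change _ = (0 : ℝ)
      rw [← h1]
      have h3 : ∀ l, ((ρ l • bS l : S) : ℝ) = ∑ i, (q i l : ℝ) * (z i : ℝ) * ((bS l : S) : ℝ) := by
        intro l
        rw [Submodule.coe_smul, Rat.smul_def]
        change ((∑ i, q i l * (z i : ℚ) : ℚ) : ℝ) * _ = _
        push_cast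
        rw [Finset.sum_mul]
      simp_rw [h3]
      rw [Finset.sum_comm]
      refine Finset.sum_congr rfl fun i _ => ?_
      rw [hf i, Finset.sum_mul]
      refine Finset.sum_congr rfl fun l _ => ?_
      ring
    have h4 : ρ l₀ = 0 := Fintype.linearIndependent_iff.mp bS.linearIndependent _ h2 l₀
    rw [LinearMap.map_sum₂]
    have h5 : ∑ i, B (((c (i, l₀) : ℤ) : ℝ) • w i) t = ((N : ℤ) : ℝ) * ((ρ l₀ : ℚ) : ℝ) := by
      change _ = ((N : ℤ) : ℝ) * ((∑ i, q i l₀ * (z i : ℚ) : ℚ) : ℝ)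
      push_cast
      rw [Finset.mul_sum]
      refine Finset.sum_congr rfl fun i _ => ?_
      rw [LinearMap.map_smul₂, hz i, smul_eq_mul, hc' i l₀]
      ring
    rw [h5, h4]
    simp
  · intro i
    rw [hf i]
    refine Finset.sum_congr rfl fun l _ => ?_
    rw [hc' i l]
    field_simp

end Alg

section Surf

variable (k : Type u) [Field k] (X : Scheme.{u}) [X.Over (Spec (CommRingCat.of k))]
  [IsProper (X ↘ (Spec (CommRingCat.of k)))] [Smooth (X ↘ (Spec (CommRingCat.of k)))]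
  [AlgebraicGeometry.IsIntegral X] [PicGrp.Law X]

/-- `B([M],[C]) = deg M|_C` (no finiteness of `N¹(X)_ℝ` needed) -/
theorem B_curveCl_eq' (hdim : topologicalKrullDim X = 2)
    (B : NumR.N1R k X →ₗ[ℝ] NumR.N1R k X →ₗ[ℝ] ℝ) (hB : NumR.IsIntForm₂ k X B)
    (C : X.IdealSheafData)
    [IsIntegral C.subscheme] (hCd : topologicalKrullDim (C.support : Set X) = 1)
    (hI : PicF.IsInvertible (ClSub.idealMod C))
    (M : X.Modules) (hM : PicF.IsInvertible M) :
    B (NumR.clR k X M hM) (NumR.curveCl k X C hI) =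
      (Pic13.curveDeg k (C.subschemeι ≫ (X ↘ (Spec (CommRingCat.of k))))
        ((Scheme.Modules.pullback C.subschemeι).obj M) : ℝ) := by
  obtain ⟨M', hM', ⟨e⟩⟩ := Groth.Agent.Lib.R2H1.InvExists.exists_inverse M hM
  rw [curveDeg_eq k X hdim C hCd M M' hM e]
  have hd : topologicalKrullDim X ≤ ((2 : ℕ) : WithBot ℕ∞) := hdim.le
  have h3 : B (NumR.clR k X M hM) (NumR.curveCl k X C hI) =
      B (NumR.clR k X M' hM') (NumR.clR k X (ClSub.idealMod C) hI) := by
    unfold NumR.curveCl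
    rw [clR_inverse k X hM hM' e, map_neg, map_neg, LinearMap.neg_apply]
  have h4 : FGA.intNum k X 2 ![M', ClSub.idealMod C] (Coh.structureModule X) =
      FGA.intNum k X 2 ![ClSub.idealMod C, M'] (Coh.structureModule X) :=
    Groth.Agent.Lib.R2H4SurfPos.intNum_swap k 2 hd M' (ClSub.idealMod C) (Coh.structureModule X)
  rw [h3, hB, h4]

/-- an integral divisor whose class is the class of an ample module -/
def AmpInt (E : NumR.CDiv X) : Prop :=
  ∃ (L : X.Modules) (hL : PicF.IsInvertible L), CohB1.IsAmple L ∧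
    Additive.ofMul (PicGrp.cls L hL) = NumR.divCl X E

/-- integral numerical triviality against all curves -/
def NumTrivInt (B : NumR.N1R k X →ₗ[ℝ] NumR.N1R k X →ₗ[ℝ] ℝ) (Nd : NumR.CDiv X) : Prop :=
  ∀ E : NumR.CDiv X, B (NumR.divClR k X (NumR.CDiv.toR X Nd)) (NumR.divClR k X (NumR.CDiv.toR X E)) = 0

theorem toR_single (C : NumR.Curve X) (n : ℤ) :
    NumR.CDiv.toR X (Finsupp.single C n) = Finsupp.single C (n : ℝ) := by
  simp [NumR.CDiv.toR]

theorem divClR_single (C : NumR.Curve X) :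
    NumR.divClR k X (NumR.CDiv.toR X (Finsupp.single C 1)) = NumR.curveCl k X C.1 C.2.2.2 := by
  rw [toR_single]
  simp [NumR.divClR]

theorem cls_tensor {L M : X.Modules} (hL : PicF.IsInvertible L) (hM : PicF.IsInvertible M)
    (hLM : PicF.IsInvertible (CohB1.tensorMod L M)) :
    PicGrp.cls (CohB1.tensorMod L M) hLM = PicGrp.cls L hL * PicGrp.cls M hM :=
  Subtype.ext (by rw [PicGrp.cls_mul_cls_val]; rfl)

theorem cls_tensorPow {L : X.Modules} (hL : PicF.IsInvertible L) (n : ℕ)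
    (hLn : PicF.IsInvertible (CohB1.tensorPow L n)) :
    PicGrp.cls (CohB1.tensorPow L n) hLn = PicGrp.cls L hL ^ n :=
  Subtype.ext (by rw [PicGrp.cls_pow_val]; rfl)

/-- ample integral + integer multiple of numerically trivial integral is ample -/
theorem ampInt_add_zsmul (hdim : topologicalKrullDim X = 2)
    (B : NumR.N1R k X →ₗ[ℝ] NumR.N1R k X →ₗ[ℝ] ℝ) (hB : NumR.IsIntForm₂ k X B)
    (E Nd : NumR.CDiv X) (hE : AmpInt X E) (hNd : NumTrivInt k X B Nd) (q : ℤ) :
    AmpInt X (E + q • Nd) := by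
  obtain ⟨L, hL, hLamp, hLE⟩ := hE
  obtain ⟨M, hM, hMc⟩ := PicGrp.exists_eq_cls (Additive.toMul (NumR.divCl X Nd))
  have hMc' : Additive.ofMul (PicGrp.cls M hM) = NumR.divCl X Nd := by
    rw [← hMc]; rfl
  obtain ⟨M', hM', ⟨e⟩⟩ := Groth.Agent.Lib.R2H1.InvExists.exists_inverse M hM
  have hclR : NumR.divClR k X (NumR.CDiv.toR X Nd) = NumR.clR k X M hM := by
    rw [NumR.divClR_toR, ← hMc', NumR.toN1_ofMul_cls, NumR.clR_def]
  -- `M` and `M'` have degree zero on every curve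
  have hdeg : ∀ (C : X.IdealSheafData) (hCi : IsIntegral C.subscheme)
      (hCd : topologicalKrullDim (C.support : Set X) = 1),
      Pic13.curveDeg k (C.subschemeι ≫ (X ↘ (Spec (CommRingCat.of k))))
        ((Scheme.Modules.pullback C.subschemeι).obj M) = 0 ∧
      Pic13.curveDeg k (C.subschemeι ≫ (X ↘ (Spec (CommRingCat.of k))))
        ((Scheme.Modules.pullback C.subschemeι).obj M') = 0 := by
    intro C hCi hCd
    haveI := hCi
    have hI := isInvertible_curve k X hdim C hCd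
    let Cc : NumR.Curve X := ⟨C, hCi, hCd, hI⟩
    have h0 := hNd (Finsupp.single Cc 1)
    rw [divClR_single, hclR] at h0
    have h1 := B_curveCl_eq' k X hdim B hB C hCd hI M hM
    have h2 := B_curveCl_eq' k X hdim B hB C hCd hI M' hM'
    rw [clR_inverse k X hM hM' e, map_neg, LinearMap.neg_apply] at h2
    change B (NumR.clR k X M hM) (NumR.curveCl k X C hI) = 0 at h0
    rw [h0] at h1 h2
    constructor
    · exact_mod_cast h1.symm
    · have : (0 : ℝ) = (Pic13.curveDeg k (C.subschemeι ≫ (X ↘ (Spec (CommRingCat.of k))))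
          ((Scheme.Modules.pullback C.subschemeι).obj M') : ℝ) := by rw [← h2]; simp
      exact_mod_cast this.symm
  have hnefM : Groth.Agent.Lib.R2H4KleimanA.Nef k X M := fun C hCi hCd => (hdeg C hCi hCd).1.ge
  have hnefM' : Groth.Agent.Lib.R2H4KleimanA.Nef k X M' := fun C hCi hCd => (hdeg C hCi hCd).2.ge
  have hinv : (PicGrp.cls M hM)⁻¹ = PicGrp.cls M' hM' := PicGrp.cls_inv_eq_cls hM hM' ⟨e⟩
  obtain ⟨ν, rfl | rfl⟩ := Int.eq_nat_or_neg q
  · have hamp := Groth.Agent.Lib.R2H4KleimanC.isAmple_nef_tensor_ample k X M L hM hnefM hLamp ν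
    have hMν : PicF.IsInvertible (CohB1.tensorPow M ν) :=
      Groth.Agent.Lib.Helper23.SecTw.isInvertible_tensorPow hM ν
    refine ⟨_, hamp.1, hamp, ?_⟩
    rw [cls_tensor X hMν hL hamp.1, cls_tensorPow X hM ν hMν, map_add, map_zsmul, ← hLE, ← hMc']
    rw [ofMul_mul, ofMul_pow, natCast_zsmul, add_comm]
  · have hamp := Groth.Agent.Lib.R2H4KleimanC.isAmple_nef_tensor_ample k X M' L hM' hnefM' hLamp ν
    have hMν : PicF.IsInvertible (CohB1.tensorPow M' ν) :=
      Groth.Agent.Lib.Helper23.SecTw.isInvertible_tensorPow hM' ν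
    refine ⟨_, hamp.1, hamp, ?_⟩
    rw [cls_tensor X hMν hL hamp.1, cls_tensorPow X hM' ν hMν, map_add, map_zsmul, ← hLE, ← hMc',
      ← hinv]
    rw [ofMul_mul, ofMul_pow, ofMul_inv, neg_smul, natCast_zsmul, smul_neg, add_comm]

theorem isAmpleRDiv_single (E : NumR.CDiv X) (hE : AmpInt X E) (t : ℝ) (ht : 0 < t) :
    NumR.IsAmpleRDiv X (t • NumR.CDiv.toR X E) := by
  refine ⟨1, fun _ => E, fun _ => t, one_pos, fun _ => ht, fun _ => hE, ?_⟩
  simp

theorem isAmpleRDiv_add (D₁ D₂ : NumR.CDivR X) (h₁ : NumR.IsAmpleRDiv X D₁)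
    (h₂ : NumR.IsAmpleRDiv X D₂) : NumR.IsAmpleRDiv X (D₁ + D₂) := by
  obtain ⟨n₁, E₁, t₁, hn₁, ht₁, hE₁, rfl⟩ := h₁
  obtain ⟨n₂, E₂, t₂, hn₂, ht₂, hE₂, rfl⟩ := h₂
  refine ⟨n₁ + n₂, Fin.append E₁ E₂, Fin.append t₁ t₂, by omega, ?_, ?_, ?_⟩
  · intro i
    induction i using Fin.addCases with
    | left i => rw [Fin.append_left]; exact ht₁ i
    | right i => rw [Fin.append_right]; exact ht₂ i
  · intro i
    induction i using Fin.addCases with
    | left i => rw [Fin.append_left]; exact hE₁ i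
    | right i => rw [Fin.append_right]; exact hE₂ i
  · rw [Fin.sum_univ_add]
    simp only [Fin.append_left, Fin.append_right]

theorem toR_add_zsmul (E Nd : NumR.CDiv X) (z : ℤ) :
    NumR.CDiv.toR X (E + z • Nd) = NumR.CDiv.toR X E + (z : ℝ) • NumR.CDiv.toR X Nd := by
  rw [map_add, map_zsmul, Int.cast_smul_eq_zsmul]

/-- `τ E + ρ N` is ample for `E` ample integral, `N` numerically trivial integral, `τ > 0` -/
theorem isAmpleRDiv_comb (hdim : topologicalKrullDim X = 2)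
    (B : NumR.N1R k X →ₗ[ℝ] NumR.N1R k X →ₗ[ℝ] ℝ) (hB : NumR.IsIntForm₂ k X B)
    (E Nd : NumR.CDiv X) (hE : AmpInt X E) (hNd : NumTrivInt k X B Nd) (τ ρ : ℝ) (hτ : 0 < τ) :
    NumR.IsAmpleRDiv X (τ • NumR.CDiv.toR X E + ρ • NumR.CDiv.toR X Nd) := by
  set q : ℤ := ⌊ρ / τ⌋ with hq
  set δ : ℝ := ρ - τ * q with hδ
  have hδ0 : 0 ≤ δ := by
    have := Int.floor_le (ρ / τ)
    rw [le_div_iff₀ hτ] at this
    rw [hδ, hq]
    linarith [mul_comm ((⌊ρ / τ⌋ : ℤ) : ℝ) τ]
  have hδ1 : δ < τ := by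
    have := Int.lt_floor_add_one (ρ / τ)
    rw [div_lt_iff₀ hτ] at this
    rw [hδ, hq]
    linarith [mul_comm (((⌊ρ / τ⌋ : ℤ) : ℝ) + 1) τ]
  have h1 := isAmpleRDiv_single X _ (ampInt_add_zsmul k X hdim B hB E Nd hE hNd (q - 1))
    ((τ - δ) / 2) (by linarith)
  have h2 := isAmpleRDiv_single X _ (ampInt_add_zsmul k X hdim B hB E Nd hE hNd (q + 1))
    ((τ + δ) / 2) (by linarith)
  have h3 := isAmpleRDiv_add X _ _ h1 h2
  have h4 : ((τ - δ) / 2) • NumR.CDiv.toR X (E + (q - 1) • Nd) +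
      ((τ + δ) / 2) • NumR.CDiv.toR X (E + (q + 1) • Nd) =
      τ • NumR.CDiv.toR X E + ρ • NumR.CDiv.toR X Nd := by
    rw [toR_add_zsmul, toR_add_zsmul, smul_add, smul_add, smul_smul, smul_smul]
    have e1 : ((τ - δ) / 2) • NumR.CDiv.toR X E + ((τ + δ) / 2) • NumR.CDiv.toR X E =
        τ • NumR.CDiv.toR X E := by
      rw [← add_smul]; congr 1; ring
    have e2 : ((τ - δ) / 2 * (((q - 1 : ℤ)) : ℝ)) • NumR.CDiv.toR X Nd +
        ((τ + δ) / 2 * (((q + 1 : ℤ)) : ℝ)) • NumR.CDiv.toR X Nd = ρ • NumR.CDiv.toR X Nd := by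
      rw [← add_smul]; congr 1
      push_cast
      rw [hδ]; ring
    rw [add_add_add_comm, e1, e2]
  rwa [h4] at h3

/-- adding a real multiple of a numerically trivial integral divisor -/
theorem isAmpleRDiv_add_numTriv (hdim : topologicalKrullDim X = 2)
    (B : NumR.N1R k X →ₗ[ℝ] NumR.N1R k X →ₗ[ℝ] ℝ) (hB : NumR.IsIntForm₂ k X B)
    (D : NumR.CDivR X) (hD : NumR.IsAmpleRDiv X D) (Nd : NumR.CDiv X) (hNd : NumTrivInt k X B Nd)
    (β : ℝ) : NumR.IsAmpleRDiv X (D + β • NumR.CDiv.toR X Nd) := by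
  obtain ⟨n, E, t, hn, ht, hE, rfl⟩ := hD
  obtain ⟨n', rfl⟩ : ∃ n', n = n' + 1 := ⟨n - 1, by omega⟩
  rw [Fin.sum_univ_succ]
  have h1 := isAmpleRDiv_comb k X hdim B hB (E 0) Nd (hE 0) hNd (t 0) β (ht 0)
  have h2 : t 0 • NumR.CDiv.toR X (E 0) + ∑ i : Fin n', t i.succ • NumR.CDiv.toR X (E i.succ) +
      β • NumR.CDiv.toR X Nd =
      (t 0 • NumR.CDiv.toR X (E 0) + β • NumR.CDiv.toR X Nd) +
        ∑ i : Fin n', t i.succ • NumR.CDiv.toR X (E i.succ) := by abel
  rw [h2]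
  by_cases hn' : n' = 0
  · subst hn'
    simpa using h1
  · refine isAmpleRDiv_add X _ _ h1 ?_
    exact ⟨n', fun i => E i.succ, fun i => t i.succ, Nat.pos_of_ne_zero hn', fun i => ht i.succ,
      fun i => hE i.succ, rfl⟩

theorem isAmpleRDiv_add_sum (hdim : topologicalKrullDim X = 2)
    (B : NumR.N1R k X →ₗ[ℝ] NumR.N1R k X →ₗ[ℝ] ℝ) (hB : NumR.IsIntForm₂ k X B)
    (D : NumR.CDivR X) (hD : NumR.IsAmpleRDiv X D) :
    ∀ (d : ℕ) (Nd : Fin d → NumR.CDiv X) (_ : ∀ l, NumTrivInt k X B (Nd l)) (β : Fin d → ℝ),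
      NumR.IsAmpleRDiv X (D + ∑ l, β l • NumR.CDiv.toR X (Nd l))
  | 0, _, _, _ => by simpa using hD
  | d + 1, Nd, hNd, β => by
    rw [Fin.sum_univ_castSucc, ← add_assoc]
    exact isAmpleRDiv_add_numTriv k X hdim B hB _
      (isAmpleRDiv_add_sum hdim B hB D hD d (fun l => Nd l.castSucc) (fun l => hNd l.castSucc)
        (fun l => β l.castSucc)) (Nd (Fin.last d)) (hNd (Fin.last d)) (β (Fin.last d))

/-- decomposition of a numerically trivial real divisor -/
theorem exists_numTriv_decomp (B : NumR.N1R k X →ₗ[ℝ] NumR.N1R k X →ₗ[ℝ] ℝ)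
    (hB : NumR.IsIntForm₂ k X B) (N : NumR.CDivR X) (hN : NumR.IsNumTrivialRDiv k X B N) :
    ∃ (d : ℕ) (β : Fin d → ℝ) (Nd : Fin d → NumR.CDiv X), (∀ l, NumTrivInt k X B (Nd l)) ∧
      N = ∑ l, β l • NumR.CDiv.toR X (Nd l) := by
  classical
  let m := N.support.card
  let en : Fin m ≃ N.support := N.support.equivFin.symm
  let Cs : Fin m → NumR.Curve X := fun i => (en i).1
  let y : Fin m → ℝ := fun i => N (Cs i)
  have hNsum : N = ∑ i, y i • NumR.CDiv.toR X (Finsupp.single (Cs i) 1) := by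
    conv_lhs => rw [← Finsupp.sum_single N]
    unfold Finsupp.sum
    rw [← Finset.sum_coe_sort N.support (fun C => Finsupp.single C (N C))]
    rw [← Equiv.sum_comp en]
    refine Finset.sum_congr rfl fun i _ => ?_
    rw [toR_single, Finsupp.smul_single, smul_eq_mul, Int.cast_one, mul_one]
  let w : Fin m → NumR.N1R k X := fun i => NumR.curveCl k X (Cs i).1 (Cs i).2.2.2
  let T : Set (NumR.N1R k X) := {t | ∃ E : NumR.CDiv X, t = NumR.divClR k X (NumR.CDiv.toR X E)}
  have hint : ∀ i, ∀ t ∈ T, ∃ z : ℤ, B (w i) t = (z : ℝ) := by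
    rintro i _ ⟨E, rfl⟩
    rw [NumR.divClR_toR]
    obtain ⟨M, hM, hMc⟩ := NumR.exists_eq_cl (NumR.toN1 k X (NumR.divCl X E))
    rw [hMc, ← NumR.clR_def]
    change ∃ z : ℤ, B (NumR.curveCl k X (Cs i).1 (Cs i).2.2.2) (NumR.clR k X M hM) = (z : ℝ)
    unfold NumR.curveCl
    rw [map_neg, LinearMap.neg_apply, hB]
    exact ⟨-_, by push_cast; rfl⟩
  have hwsum : ∀ a : Fin m → ℝ,
      NumR.divClR k X (∑ i, a i • NumR.CDiv.toR X (Finsupp.single (Cs i) 1)) = ∑ i, a i • w i := by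
    intro a
    rw [map_sum]
    refine Finset.sum_congr rfl fun i _ => ?_
    rw [map_smul, divClR_single]
  have hy : ∀ t ∈ T, B (∑ i, y i • w i) t = 0 := by
    rintro _ ⟨E, rfl⟩
    rw [← hwsum y, ← hNsum]
    exact hN E
  obtain ⟨d, β, c, hc1, hc2⟩ := rat_decomp B w T hint y hy
  refine ⟨d, β, fun l => ∑ i, c i l • Finsupp.single (Cs i) 1, ?_, ?_⟩
  · intro l E
    have h1 : NumR.CDiv.toR X (∑ i, c i l • Finsupp.single (Cs i) 1) =
        ∑ i, (c i l : ℝ) • NumR.CDiv.toR X (Finsupp.single (Cs i) 1) := by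
      rw [map_sum]
      refine Finset.sum_congr rfl fun i _ => ?_
      rw [map_zsmul, Int.cast_smul_eq_zsmul]
    rw [h1, hwsum]
    exact hc1 l _ ⟨E, rfl⟩
  · conv_lhs => rw [hNsum]
    have h1 : ∀ l, NumR.CDiv.toR X (∑ i, c i l • Finsupp.single (Cs i) 1) =
        ∑ i, (c i l : ℝ) • NumR.CDiv.toR X (Finsupp.single (Cs i) 1) := by
      intro l
      rw [map_sum]
      refine Finset.sum_congr rfl fun i _ => ?_
      rw [map_zsmul, Int.cast_smul_eq_zsmul]
    simp_rw [h1, Finset.smul_sum, smul_smul]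
    rw [Finset.sum_comm]
    refine Finset.sum_congr rfl fun i _ => ?_
    rw [← Finset.sum_smul, hc2 i]

theorem main (hdim : topologicalKrullDim X = 2)
    (B : NumR.N1R k X →ₗ[ℝ] NumR.N1R k X →ₗ[ℝ] ℝ) (hB : NumR.IsIntForm₂ k X B)
    (D D' : NumR.CDivR X) (hD : NumR.IsAmpleRDiv X D)
    (h : NumR.IsNumTrivialRDiv k X B (D' - D)) : NumR.IsAmpleRDiv X D' := by
  obtain ⟨d, β, Nd, hNd, hsum⟩ := exists_numTriv_decomp k X B hB (D' - D) h
  have := isAmpleRDiv_add_sum k X hdim B hB D hD d Nd hNd β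
  rw [← hsum] at this
  simpa using this

end Surf

end Groth.Agent.Lib.R2H4AmpleRDiv
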