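import Mathlib
import Groth.Prelude.Def_Smoothing
import Groth.Agent.Lib.H9FrobEt155
import Groth.Agent.Lib.Helper26SymSmooth

/-!
# "Lift once" (helper4, round 2)

For `I² = 0` in `R`, `Λ/IΛ` ind-smooth over `R/I` and `A → Λ` with `A` finitely presented: a
factorization `A → B/J → Λ` with `B` smooth over `R` and `J ⊆ IB` finitely generated.

* `exists_decomp`: elements of `IΛ` are finite sums `Σ ε_k ν_k` with `ε_k ∈ I`.
* `exists_algHom_of_surjective`: factor an algebra map through a surjection.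
* `exists_lift_stdSmooth`: a standard smooth `R/I`-algebra lifts to a smooth `R`-algebra with a lift of a
  given map to `Λ/IΛ` (uses `H9FrobEt155` lifting of submersive presentations).
* `main`: the statement.
-/

set_option autoImplicit false
set_option linter.style.haveILetI false
universe u

namespace Groth.Agent.Lib.R2H4.LiftOnce

open MvPolynomial TensorProduct



/-- Elements of an extended ideal are finite combinations `Σ ε_k ν_k` with `ε_k ∈ I`. -/
theorem exists_decomp {R Λ : Type*} [CommRing R] [CommRing Λ] [Algebra R Λ] (I : Ideal R) (d : Λ)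
    (hd : d ∈ I.map (algebraMap R Λ)) :
    ∃ (m : ℕ) (ε : Fin m → R) (ν : Fin m → Λ), (∀ k, ε k ∈ I) ∧
      d = ∑ k, algebraMap R Λ (ε k) * ν k := by
  unfold Ideal.map at hd
  induction hd using Submodule.span_induction with
  | mem x hx =>
    obtain ⟨e, he, rfl⟩ := hx
    exact ⟨1, fun _ => e, fun _ => 1, fun _ => he, by simp⟩
  | zero => exact ⟨0, Fin.elim0, Fin.elim0, fun k => k.elim0, by simp⟩
  | add x y _ _ hx hy =>
    obtain ⟨m₁, ε₁, ν₁, h₁, rfl⟩ := hx
    obtain ⟨m₂, ε₂, ν₂, h₂, rfl⟩ := hy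
    refine ⟨m₁ + m₂, Fin.append ε₁ ε₂, Fin.append ν₁ ν₂, ?_, ?_⟩
    · intro k
      refine Fin.addCases (fun i => ?_) (fun i => ?_) k
      · simpa using h₁ i
      · simpa using h₂ i
    · rw [Fin.sum_univ_add]
      simp
  | smul a x _ hx =>
    obtain ⟨m, ε, ν, h, rfl⟩ := hx
    refine ⟨m, ε, fun k => a * ν k, h, ?_⟩
    rw [smul_eq_mul, Finset.mul_sum]
    exact Finset.sum_congr rfl fun k _ => by ring

/-- Factor an algebra map through a surjection killing its kernel. -/
theorem exists_algHom_of_surjective {R A B C : Type*} [CommRing R] [CommRing A] [CommRing B]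
    [CommRing C] [Algebra R A] [Algebra R B] [Algebra R C] (f : A →ₐ[R] B)
    (hf : Function.Surjective f) (g : A →ₐ[R] C) (hg : ∀ x, f x = 0 → g x = 0) :
    ∃ k : B →ₐ[R] C, ∀ x, k (f x) = g x := by
  let e := Ideal.quotientKerAlgEquivOfSurjective hf
  let l : (A ⧸ RingHom.ker f.toRingHom) →ₐ[R] C :=
    Ideal.Quotient.liftₐ (RingHom.ker f.toRingHom) g (fun x hx => hg x hx)
  refine ⟨l.comp e.symm.toAlgHom, fun x => ?_⟩
  have h1 : e.symm (f x) = Ideal.Quotient.mk _ x := by
    rw [AlgEquiv.symm_apply_eq]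
    rfl
  change l (e.symm (f x)) = g x
  rw [h1]
  rfl

/-- A standard smooth algebra over `R/I` (`I² = 0`) lifts to a smooth `R`-algebra, together with a
lift of a given map to `Λ/IΛ`. -/
theorem exists_lift_stdSmooth {R Λ : Type u} [CommRing R] [CommRing Λ] [Algebra R Λ] (I : Ideal R)
    (hI : I ^ 2 = ⊥) (C : Type u) [CommRing C] [Algebra (R ⧸ I) C]
    [Algebra.IsStandardSmooth (R ⧸ I) C]
    (h' : C →ₐ[R ⧸ I] Λ ⧸ I.map (algebraMap R Λ)) :
    ∃ (B₀ : Type u) (_ : CommRing B₀) (_ : Algebra R B₀), Algebra.Smooth R B₀ ∧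
      ∃ (θ : B₀ →+* C) (ψ : B₀ →ₐ[R] Λ), Function.Surjective θ ∧
        RingHom.ker θ = I.map (algebraMap R B₀) ∧
        (∀ r, θ (algebraMap R B₀ r) = algebraMap (R ⧸ I) C (Ideal.Quotient.mk I r)) ∧
        ∀ x, Ideal.Quotient.mk (I.map (algebraMap R Λ)) (ψ x) = h' (θ x) := by
  obtain ⟨ι, σ, _, _, ⟨P⟩⟩ := Algebra.IsStandardSmooth.out (R := R ⧸ I) (S := C)
  let π : R →+* R ⧸ I := Ideal.Quotient.mk I
  have hπ : Function.Surjective π := Ideal.Quotient.mk_surjective
  have hk : RingHom.ker π ^ 2 = ⊥ := by rw [Ideal.mk_ker, hI]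
  choose F hF using fun j => MvPolynomial.map_surjective π hπ (P.relation j)
  let QS := H9FrobEt155.QS π hπ P F hF hk
  haveI : Algebra.IsStandardSmooth R (H9FrobEt155.D F) := QS.isStandardSmooth
  let θ := H9FrobEt155.θ π P F hF
  have hθalg : ∀ r, θ (algebraMap R (H9FrobEt155.D F) r) = algebraMap (R ⧸ I) C (π r) :=
    fun r => H9FrobEt155.θ_algebraMap π P F hF r
  let g₀ : H9FrobEt155.D F →ₐ[R] Λ ⧸ I.map (algebraMap R Λ) :=
    { toRingHom := h'.toRingHom.comp θ
      commutes' := fun r => by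
        change h' (θ (algebraMap R (H9FrobEt155.D F) r)) = _
        rw [hθalg, h'.commutes, IsScalarTower.algebraMap_apply R (R ⧸ I)]
        rfl }
  have hnil : IsNilpotent (I.map (algebraMap R Λ)) := ⟨2, by rw [← Ideal.map_pow, hI, Ideal.map_bot]; rfl⟩
  refine ⟨H9FrobEt155.D F, inferInstance, inferInstance, inferInstance, θ,
    Algebra.FormallySmooth.lift _ hnil g₀, H9FrobEt155.θ_surjective π hπ P F hF, ?_, hθalg, ?_⟩
  · rw [H9FrobEt155.ker_θ π hπ P F hF, Ideal.mk_ker]
  · intro x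
    rw [Algebra.FormallySmooth.mk_lift]
    rfl




theorem main {R Λ A : Type u} [CommRing R] [CommRing Λ] [Algebra R Λ] (I : Ideal R)
    (hI : I ^ 2 = ⊥) (h : Smoothing.IndSmooth (R ⧸ I) (Λ ⧸ I.map (algebraMap R Λ)))
    [CommRing A] [Algebra R A] [Algebra.FinitePresentation R A] (φ : A →ₐ[R] Λ) :
    ∃ (B : Type u) (_ : CommRing B) (_ : Algebra R B), Algebra.Smooth R B ∧
      ∃ J : Ideal B, J ≤ I.map (algebraMap R B) ∧ J.FG ∧
        ∃ (g : A →ₐ[R] B ⧸ J) (k : (B ⧸ J) →ₐ[R] Λ), k.comp g = φ := by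
  classical
  let R' := R ⧸ I
  let Λ' := Λ ⧸ I.map (algebraMap R Λ)
  let A' := R' ⊗[R] A
  let φ' : A' →ₐ[R'] Λ' := Algebra.TensorProduct.lift (Algebra.ofId R' Λ')
    ((Ideal.Quotient.mkₐ R _).comp φ) (fun _ _ => Commute.all _ _)
  obtain ⟨Bb, _, _, hsm, gb, hb, hcomp⟩ := h A' inferInstance φ'
  haveI := hsm
  obtain ⟨C', _, _, _, _, -, ⟨ρ⟩, hstd⟩ :=
    Helper26.SymSmooth.exists_smooth_retract_isStandardSmooth R' Bb
  haveI := hstd
  let g' : A' →ₐ[R'] C' := (IsScalarTower.toAlgHom R' Bb C').comp gb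
  let h' : C' →ₐ[R'] Λ' := hb.comp (ρ.restrictScalars R')
  have hg'h' : ∀ x, h' (g' x) = φ' x := by
    intro x
    change hb (ρ (algebraMap Bb C' (gb x))) = _
    rw [ρ.commutes]
    exact congr($hcomp x)
  obtain ⟨B₀, _, _, hsm₀, θ, ψ, hθsurj, hθker, hθalg, hψ⟩ := exists_lift_stdSmooth I hI C' h'
  haveI := hsm₀
  obtain ⟨n, f, hf, hfg⟩ := Algebra.FinitePresentation.out (R := R) (A := A)
  have hb_ex : ∀ i : Fin n, ∃ b : B₀, θ b = g' ((1 : R') ⊗ₜ[R] f (X i)) := fun i => hθsurj _
  choose b hb' using hb_ex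
  have hd : ∀ i, ψ (b i) - φ (f (X i)) ∈ I.map (algebraMap R Λ) := by
    intro i
    rw [← Ideal.Quotient.eq, hψ, hb', hg'h']
    change Algebra.TensorProduct.lift _ _ _ _ = _
    rw [Algebra.TensorProduct.lift_tmul, map_one, one_mul]
    rfl
  choose m ε ν hε hdec using fun i => exists_decomp I _ (hd i)
  let κ := Σ i : Fin n, Fin (m i)
  let B' := MvPolynomial κ B₀
  let b' : Fin n → B' := fun i =>
    C (b i) - ∑ k : Fin (m i), C (algebraMap R B₀ (ε i k)) * X (⟨i, k⟩ : κ)
  let ψ' : B' →ₐ[R] Λ :=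
    { toRingHom := MvPolynomial.eval₂Hom ψ.toRingHom (fun p : κ => ν p.1 p.2)
      commutes' := fun r => by
        change MvPolynomial.eval₂Hom ψ.toRingHom (fun p : κ => ν p.1 p.2)
          (algebraMap R (MvPolynomial κ B₀) r) = _
        rw [MvPolynomial.algebraMap_apply, MvPolynomial.eval₂Hom_C]
        exact ψ.commutes r }
  have hψ'C : ∀ x : B₀, ψ' (C x) = ψ x := fun x => MvPolynomial.eval₂Hom_C _ _ x
  have hψ'X : ∀ p : κ, ψ' (X p) = ν p.1 p.2 := fun p => MvPolynomial.eval₂Hom_X' _ _ p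
  have hψ'b' : ∀ i, ψ' (b' i) = φ (f (X i)) := by
    intro i
    simp only [b', map_sub, map_sum, map_mul, hψ'C, hψ'X, AlgHom.commutes]
    rw [← hdec i]
    ring
  let θ' : MvPolynomial (Fin n) R →ₐ[R] B' := aeval b'
  let J : Ideal B' := (RingHom.ker f.toRingHom).map θ'.toRingHom
  have hJfg : J.FG := hfg.map _
  have hθ'ψ' : ψ'.comp θ' = φ.comp f := by
    apply MvPolynomial.algHom_ext
    intro i
    simp [θ', hψ'b']
  have hJle : J ≤ I.map (algebraMap R B') := by
    rw [Ideal.map_le_iff_le_comap]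
    intro x hx
    have hker : RingHom.ker (MvPolynomial.map θ : B' →+* MvPolynomial κ C') =
        I.map (algebraMap R B') := by
      rw [MvPolynomial.ker_map, hθker, Ideal.map_map]
      rfl
    rw [Ideal.mem_comap, ← hker, RingHom.mem_ker]
    have hrh : ((MvPolynomial.map θ : B' →+* MvPolynomial κ C').comp θ'.toRingHom) =
        ((C : C' →+* MvPolynomial κ C').comp g'.toRingHom).comp
          ((Algebra.TensorProduct.includeRight : A →ₐ[R] A').toRingHom.comp f.toRingHom) := by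
      apply MvPolynomial.ringHom_ext
      · intro r
        change MvPolynomial.map θ (θ' (C r)) = C (g' ((1 : R') ⊗ₜ[R] f (C r)))
        have e1 : θ' (C r) = C (algebraMap R B₀ r) := by
          change aeval b' (C r) = _
          rw [MvPolynomial.aeval_C, MvPolynomial.algebraMap_apply]
        have e2 : f (C r) = algebraMap R A r := by
          rw [← MvPolynomial.algebraMap_eq, f.commutes]
        have e3 : ((1 : R') ⊗ₜ[R] algebraMap R A r : A') = algebraMap R' A' (Ideal.Quotient.mk I r) := by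
          rw [Algebra.TensorProduct.algebraMap_apply, Algebra.algebraMap_self, RingHom.id_apply,
            ← Ideal.Quotient.algebraMap_eq, Algebra.algebraMap_eq_smul_one (A := A) r,
            TensorProduct.tmul_smul, TensorProduct.smul_tmul', Algebra.smul_def, mul_one]
        rw [e1, MvPolynomial.map_C, hθalg, e2, e3, g'.commutes]
      · intro i
        change MvPolynomial.map θ (θ' (X i)) = C (g' ((1 : R') ⊗ₜ[R] f (X i)))
        have e1 : θ' (X i) = b' i := by
          change aeval b' (X i) = _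
          rw [MvPolynomial.aeval_X]
        rw [e1, ← hb']
        simp only [b', map_sub, map_sum, map_mul, MvPolynomial.map_C, MvPolynomial.map_X, hθalg]
        have e4 : ∀ k, Ideal.Quotient.mk I (ε i k) = 0 := fun k =>
          Ideal.Quotient.eq_zero_iff_mem.mpr (hε i k)
        simp [e4]
    have h5 := congr($hrh x)
    simp only [RingHom.comp_apply] at h5
    change MvPolynomial.map θ (θ' x) = 0
    have hfx : f x = 0 := hx
    have h6 : (MvPolynomial.map θ) (θ' x) = C (g' ((1 : R') ⊗ₜ[R] f x)) := h5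
    rw [h6, hfx, TensorProduct.tmul_zero, map_zero, map_zero]
  obtain ⟨g, hg⟩ := exists_algHom_of_surjective f hf ((Ideal.Quotient.mkₐ R J).comp θ')
    (fun x hx => by
      change Ideal.Quotient.mk J (θ' x) = 0
      rw [Ideal.Quotient.eq_zero_iff_mem]
      exact Ideal.mem_map_of_mem _ hx)
  have hJψ' : ∀ x ∈ J, ψ' x = 0 := by
    have h7 : J ≤ RingHom.ker ψ'.toRingHom := by
      rw [Ideal.map_le_iff_le_comap]
      intro x hx
      change ψ' (θ' x) = 0
      have h8 := congr($hθ'ψ' x)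
      change ψ' (θ' x) = φ (f x) at h8
      rw [h8, show f x = 0 from hx, map_zero]
    exact fun x hx => h7 hx
  let k : B' ⧸ J →ₐ[R] Λ := Ideal.Quotient.liftₐ J ψ' hJψ'
  haveI : Algebra.Smooth B₀ B' := ⟨inferInstance, inferInstance⟩
  refine ⟨B', inferInstance, inferInstance, Algebra.Smooth.comp R B₀ B', J, hJle, hJfg, g, k, ?_⟩
  apply AlgHom.ext
  intro a
  obtain ⟨p, rfl⟩ := hf a
  change k (g (f p)) = φ (f p)
  rw [hg]
  change ψ' (θ' p) = _
  exact congr($hθ'ψ' p)


end Groth.Agent.Lib.R2H4.LiftOnce
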