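import Mathlib
import Groth.Prelude.Def_Smoothing
import Groth.Agent.Lib.R2H4LiftOnce

/-!
# "Lift twice" (helper4, round 2)

`R → Λ` flat, `I² = 0`, `Λ/IΛ` ind-smooth over `R/I`; `B` smooth over `R`, `φ : B → Λ`, `J ⊆ IB` f.g. with
`φ(J) = 0`.  Then `φ` factors *exactly* as `B →α B' →β Λ` with `B'` smooth over `R` and `α(J) = 0`
(`main_strong`); the milestone form (`β ∘ α ≡ φ mod IΛ`) is `main`.

* `kill_one`: one generator (equational criterion of flatness + `LiftOnce.main` + formal smoothness).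
* `kill_fin`: induction on the number of generators.
-/

set_option autoImplicit false
set_option linter.style.haveILetI false
universe u

namespace Groth.Agent.Lib.R2H4.LiftTwice

open MvPolynomial TensorProduct

/-- `I · IB = 0` when `I² = 0`. -/
theorem algebraMap_mul_eq_zero {R B : Type*} [CommRing R] [CommRing B] [Algebra R B] (I : Ideal R)
    (hI : I ^ 2 = ⊥) (e : R) (he : e ∈ I) (z : B) (hz : z ∈ I.map (algebraMap R B)) :
    algebraMap R B e * z = 0 := by
  have h1 : algebraMap R B e * z ∈ I.map (algebraMap R B) * I.map (algebraMap R B) :=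
    Ideal.mul_mem_mul (Ideal.mem_map_of_mem _ he) hz
  rw [← Ideal.map_mul, ← pow_two, hI, Ideal.map_bot] at h1
  exact h1

/-- Kill one element of `IB` lying in the kernel of `φ : B → Λ`, keeping `φ` exactly. -/
theorem kill_one {R Λ B : Type u} [CommRing R] [CommRing Λ] [Algebra R Λ] [Module.Flat R Λ]
    (I : Ideal R) (hI : I ^ 2 = ⊥) (h : Smoothing.IndSmooth (R ⧸ I) (Λ ⧸ I.map (algebraMap R Λ)))
    [CommRing B] [Algebra R B] [Algebra.Smooth R B] (φ : B →ₐ[R] Λ) (x : B)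
    (hx : x ∈ I.map (algebraMap R B)) (hφx : φ x = 0) :
    ∃ (B' : Type u) (_ : CommRing B') (_ : Algebra R B'), Algebra.Smooth R B' ∧
      ∃ (α : B →ₐ[R] B') (β : B' →ₐ[R] Λ), α x = 0 ∧ β.comp α = φ := by
  classical
  obtain ⟨m, ε, bb, hε, hdec⟩ := LiftOnce.exists_decomp I x hx
  have h0 : ∑ k, ε k • φ (bb k) = 0 := by
    rw [← hφx, hdec, map_sum]
    refine Finset.sum_congr rfl fun k _ => ?_
    rw [map_mul, AlgHom.commutes, Algebra.smul_def]
  obtain ⟨l, a, y, hy, ha⟩ := Module.Flat.isTrivialRelation_of_sum_smul_eq_zero (R := R) (M := Λ)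
    (f := ε) (x := fun k => φ (bb k)) h0
  let C' := MvPolynomial (Fin l) B
  let ψ : C' →ₐ[R] Λ :=
    { toRingHom := MvPolynomial.eval₂Hom φ.toRingHom y
      commutes' := fun r => by
        change MvPolynomial.eval₂Hom φ.toRingHom y (algebraMap R (MvPolynomial (Fin l) B) r) = _
        rw [MvPolynomial.algebraMap_apply, MvPolynomial.eval₂Hom_C]
        exact φ.commutes r }
  have hψC : ∀ b : B, ψ (C b) = φ b := fun b => MvPolynomial.eval₂Hom_C _ _ b
  have hψX : ∀ j, ψ (X j) = y j := fun j => MvPolynomial.eval₂Hom_X' _ _ j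
  let c : Fin m → C' := fun k => C (bb k) - ∑ j, C (algebraMap R B (a k j)) * X j
  have hψc : ∀ k, ψ (c k) = 0 := by
    intro k
    simp only [c, map_sub, map_sum, map_mul, hψC, hψX, AlgHom.commutes]
    have hyk : φ (bb k) = ∑ j, a k j • y j := hy k
    rw [hyk, sub_eq_zero]
    exact Finset.sum_congr rfl fun j _ => by rw [Algebra.smul_def]
  let K : Ideal C' := Ideal.span (Set.range c)
  have hKψ : ∀ z ∈ K, ψ z = 0 := by
    have h1 : K ≤ RingHom.ker ψ.toRingHom := by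
      rw [Ideal.span_le]
      rintro _ ⟨k, rfl⟩
      exact hψc k
    exact fun z hz => h1 hz
  let D := C' ⧸ K
  haveI : Algebra.FinitePresentation R C' := Algebra.FinitePresentation.trans R B C'
  haveI : Algebra.FinitePresentation R D :=
    Algebra.FinitePresentation.quotient (Submodule.fg_span (Set.finite_range c))
  let δ : D →ₐ[R] Λ := Ideal.Quotient.liftₐ K ψ hKψ
  obtain ⟨B', _, _, hsm, J', hJ'le, hJ'fg, g, k, hkg⟩ := LiftOnce.main I hI h δ
  haveI := hsm
  have hnil : IsNilpotent J' := by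
    refine ⟨2, ?_⟩
    rw [Ideal.zero_eq_bot, eq_bot_iff]
    calc J' ^ 2 ≤ (I.map (algebraMap R B')) ^ 2 := Ideal.pow_right_mono hJ'le 2
      _ = ⊥ := by rw [← Ideal.map_pow, hI, Ideal.map_bot]
  let toD : B →ₐ[R] D := (Ideal.Quotient.mkₐ R K).comp (IsScalarTower.toAlgHom R B C')
  let g₀ : B →ₐ[R] B' ⧸ J' := g.comp toD
  let α : B →ₐ[R] B' := Algebra.FormallySmooth.lift J' hnil g₀
  have hα : ∀ b, Ideal.Quotient.mk J' (α b) = g₀ b := fun b =>
    Algebra.FormallySmooth.mk_lift J' hnil g₀ b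
  let β : B' →ₐ[R] Λ := k.comp (Ideal.Quotient.mkₐ R J')
  have hβα : β.comp α = φ := by
    apply AlgHom.ext
    intro b
    change k (Ideal.Quotient.mk J' (α b)) = φ b
    rw [hα]
    change k (g (toD b)) = φ b
    have h2 := congr($hkg (toD b))
    change k (g (toD b)) = δ (toD b) at h2
    rw [h2]
    change ψ (C b) = φ b
    exact hψC b
  refine ⟨B', inferInstance, inferInstance, hsm, α, β, ?_, hβα⟩
  -- `α x = 0`
  have hξ_ex : ∀ j : Fin l, ∃ ξ : B', Ideal.Quotient.mk J' ξ = g (Ideal.Quotient.mk K (X j)) :=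
    fun j => Ideal.Quotient.mk_surjective _
  choose ξ hξ using hξ_ex
  have he : ∀ k', α (bb k') - ∑ j, algebraMap R B' (a k' j) * ξ j ∈ I.map (algebraMap R B') := by
    intro k'
    apply hJ'le
    rw [← Ideal.Quotient.eq, hα]
    change g (Ideal.Quotient.mk K (C (bb k'))) = _
    have h3 : Ideal.Quotient.mk K (C (bb k')) =
        ∑ j, algebraMap R D (a k' j) * Ideal.Quotient.mk K (X j) := by
      have h4 : c k' ∈ K := Ideal.subset_span ⟨k', rfl⟩
      rw [← Ideal.Quotient.eq_zero_iff_mem] at h4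
      simp only [c, map_sub, map_sum, map_mul] at h4
      rw [sub_eq_zero] at h4
      rw [h4]
      rfl
    rw [h3, map_sum, map_sum]
    refine Finset.sum_congr rfl fun j _ => ?_
    rw [map_mul, map_mul, AlgHom.commutes, hξ]
    rfl
  rw [hdec, map_sum]
  have h5 : ∀ k' : Fin m, α (algebraMap R B (ε k') * bb k') =
      algebraMap R B' (ε k') * (α (bb k') - ∑ j, algebraMap R B' (a k' j) * ξ j) +
        ∑ j, algebraMap R B' (ε k' * a k' j) * ξ j := by
    intro k'
    rw [map_mul, AlgHom.commutes, mul_sub, Finset.mul_sum]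
    simp only [map_mul, mul_assoc]
    ring
  simp only [h5, algebraMap_mul_eq_zero I hI _ (hε _) _ (he _), zero_add]
  rw [Finset.sum_comm]
  refine Finset.sum_eq_zero fun j _ => ?_
  rw [← Finset.sum_mul, ← map_sum, ha j, map_zero, zero_mul]

/-- Kill finitely many elements of `IB ∩ ker φ`, keeping `φ` exactly. -/
theorem kill_fin {R Λ : Type u} [CommRing R] [CommRing Λ] [Algebra R Λ] [Module.Flat R Λ]
    (I : Ideal R) (hI : I ^ 2 = ⊥) (h : Smoothing.IndSmooth (R ⧸ I) (Λ ⧸ I.map (algebraMap R Λ)))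
    (n : ℕ) : ∀ (B : Type u) [CommRing B] [Algebra R B] [Algebra.Smooth R B] (φ : B →ₐ[R] Λ)
      (v : Fin n → B), (∀ i, v i ∈ I.map (algebraMap R B)) → (∀ i, φ (v i) = 0) →
      ∃ (B' : Type u) (_ : CommRing B') (_ : Algebra R B'), Algebra.Smooth R B' ∧
        ∃ (α : B →ₐ[R] B') (β : B' →ₐ[R] Λ), (∀ i, α (v i) = 0) ∧ β.comp α = φ := by
  induction n with
  | zero =>
    intro B _ _ _ φ v _ _
    exact ⟨B, inferInstance, inferInstance, inferInstance, AlgHom.id R B, φ, fun i => i.elim0,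
      AlgHom.comp_id φ⟩
  | succ n ih =>
    intro B _ _ _ φ v hv hφv
    obtain ⟨B₁, _, _, hsm₁, α₁, β₁, hα₁, hβ₁⟩ := ih B φ (fun i => v (Fin.castSucc i))
      (fun i => hv _) (fun i => hφv _)
    haveI := hsm₁
    have hx : α₁ (v (Fin.last n)) ∈ I.map (algebraMap R B₁) := by
      have h1 : (I.map (algebraMap R B)).map α₁.toRingHom = I.map (algebraMap R B₁) := by
        rw [Ideal.map_map]
        congr 1
        exact α₁.comp_algebraMap
      rw [← h1]
      exact Ideal.mem_map_of_mem _ (hv _)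
    have hφx : β₁ (α₁ (v (Fin.last n))) = 0 := by
      have := congr($hβ₁ (v (Fin.last n)))
      change β₁ (α₁ (v (Fin.last n))) = φ (v (Fin.last n)) at this
      rw [this, hφv]
    obtain ⟨B₂, _, _, hsm₂, α₂, β₂, hα₂, hβ₂⟩ := kill_one I hI h β₁ _ hx hφx
    refine ⟨B₂, inferInstance, inferInstance, hsm₂, α₂.comp α₁, β₂, ?_, ?_⟩
    · intro i
      refine Fin.lastCases ?_ (fun j => ?_) i
      · exact hα₂
      · change α₂ (α₁ (v (Fin.castSucc j))) = 0
        rw [hα₁, map_zero]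
    · rw [← AlgHom.comp_assoc, hβ₂, hβ₁]

/-- "Lift twice", strong form: `β ∘ α = φ` exactly. -/
theorem main_strong {R Λ B : Type u} [CommRing R] [CommRing Λ] [Algebra R Λ] [Module.Flat R Λ]
    (I : Ideal R) (hI : I ^ 2 = ⊥) (h : Smoothing.IndSmooth (R ⧸ I) (Λ ⧸ I.map (algebraMap R Λ)))
    [CommRing B] [Algebra R B] [Algebra.Smooth R B] (φ : B →ₐ[R] Λ) (J : Ideal B)
    (hJ : J ≤ I.map (algebraMap R B)) (hJfg : J.FG) (hφJ : ∀ x ∈ J, φ x = 0) :
    ∃ (B' : Type u) (_ : CommRing B') (_ : Algebra R B'), Algebra.Smooth R B' ∧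
      ∃ (α : B →ₐ[R] B') (β : B' →ₐ[R] Λ), (∀ x ∈ J, α x = 0) ∧ β.comp α = φ := by
  obtain ⟨n, v, hv⟩ := Submodule.fg_iff_exists_fin_generating_family.mp hJfg
  have hvJ : ∀ i, v i ∈ J := fun i => hv ▸ Submodule.subset_span ⟨i, rfl⟩
  obtain ⟨B', _, _, hsm, α, β, hα, hβ⟩ := kill_fin I hI h n B φ v (fun i => hJ (hvJ i))
    (fun i => hφJ _ (hvJ i))
  refine ⟨B', inferInstance, inferInstance, hsm, α, β, ?_, hβ⟩
  have h1 : J ≤ RingHom.ker α.toRingHom := by
    rw [← hv]
    change Ideal.span (Set.range v) ≤ _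
    rw [Ideal.span_le]
    rintro _ ⟨i, rfl⟩
    exact hα i
  exact fun x hx => h1 hx

/-- "Lift twice" as stated in the milestone. -/
theorem main {R Λ B : Type u} [CommRing R] [CommRing Λ] [Algebra R Λ] [Module.Flat R Λ]
    (I : Ideal R) (hI : I ^ 2 = ⊥) (h : Smoothing.IndSmooth (R ⧸ I) (Λ ⧸ I.map (algebraMap R Λ)))
    [CommRing B] [Algebra R B] [Algebra.Smooth R B] (φ : B →ₐ[R] Λ) (J : Ideal B)
    (hJ : J ≤ I.map (algebraMap R B)) (hJfg : J.FG) (hφJ : ∀ x ∈ J, φ x = 0) :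
    ∃ (B' : Type u) (_ : CommRing B') (_ : Algebra R B'), Algebra.Smooth R B' ∧
      ∃ (α : B →ₐ[R] B') (β : B' →ₐ[R] Λ), (∀ x ∈ J, α x = 0) ∧
        ∀ b : B, β (α b) - φ b ∈ I.map (algebraMap R Λ) := by
  obtain ⟨B', _, _, hsm, α, β, hα, hβ⟩ := main_strong I hI h φ J hJ hJfg hφJ
  refine ⟨B', inferInstance, inferInstance, hsm, α, β, hα, fun b => ?_⟩
  have := congr($hβ b)
  change β (α b) = φ b at this
  rw [this, sub_self]
  exact Ideal.zero_mem _

end Groth.Agent.Lib.R2H4.LiftTwice
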