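import Mathlib
import Groth.Prelude.Def_Smoothing
import Groth.Agent.Lib.R2H4LiftTwice

/-!
# Ind-smoothness lifts along nilpotent flat deformations (helper4, round 2)

* `indSmooth_of_sq_zero`: `I² = 0`, `Λ` flat over `R`, `Λ/IΛ` ind-smooth over `R/I` ⇒ `Λ` ind-smooth over `R`
  (lift once, then lift twice in its exact form).
* `indSmooth_of_ringEquiv`: transfer of `Smoothing.IndSmooth` along compatible ring isomorphisms.
* `indSmooth_quot_sq`: from `IndSmooth (R/I) (Λ/IΛ)` to `IndSmooth (R/I²) (Λ/I²Λ)`.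
* `main`: nilpotent `I` (strong induction on the nilpotency exponent, halving it each time).
-/

set_option autoImplicit false
set_option linter.style.haveILetI false
universe u

namespace Groth.Agent.Lib.R2H4.IndSmoothNil

open TensorProduct

/-- Square-zero case. -/
theorem indSmooth_of_sq_zero {R Λ : Type u} [CommRing R] [CommRing Λ] [Algebra R Λ]
    [Module.Flat R Λ] (I : Ideal R) (hI : I ^ 2 = ⊥)
    (h : Smoothing.IndSmooth (R ⧸ I) (Λ ⧸ I.map (algebraMap R Λ))) :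
    Smoothing.IndSmooth R Λ := by
  intro A _ _ hfp f
  haveI := hfp
  obtain ⟨B, _, _, hsm, J, hJle, hJfg, g, k, hkg⟩ := LiftOnce.main I hI h f
  haveI := hsm
  let φ : B →ₐ[R] Λ := k.comp (Ideal.Quotient.mkₐ R J)
  have hφJ : ∀ x ∈ J, φ x = 0 := by
    intro x hx
    change k (Ideal.Quotient.mk J x) = 0
    rw [Ideal.Quotient.eq_zero_iff_mem.mpr hx, map_zero]
  obtain ⟨B', _, _, hsm', α, β, hα, hβ⟩ := LiftTwice.main_strong I hI h φ J hJle hJfg hφJ
  let α' : B ⧸ J →ₐ[R] B' := Ideal.Quotient.liftₐ J α hα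
  refine ⟨B', inferInstance, inferInstance, hsm', α'.comp g, β, ?_⟩
  apply AlgHom.ext
  intro a
  change β (α' (g a)) = f a
  obtain ⟨b, hb⟩ := Ideal.Quotient.mk_surjective (g a)
  rw [← hb]
  change β (α b) = f a
  have h1 := congr($hβ b)
  change β (α b) = k (Ideal.Quotient.mk J b) at h1
  rw [h1, hb]
  exact congr($hkg a)

/-- Transfer of ind-smoothness along compatible ring isomorphisms. -/
theorem indSmooth_of_ringEquiv {R₁ R₂ Λ₁ Λ₂ : Type u} [CommRing R₁] [CommRing R₂] [CommRing Λ₁]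
    [CommRing Λ₂] [Algebra R₁ Λ₁] [Algebra R₂ Λ₂] (e : R₁ ≃+* R₂) (e' : Λ₁ ≃+* Λ₂)
    (he : ∀ r, e' (algebraMap R₁ Λ₁ r) = algebraMap R₂ Λ₂ (e r))
    (H : Smoothing.IndSmooth R₁ Λ₁) : Smoothing.IndSmooth R₂ Λ₂ := by
  intro A₂ _ _ hfp f₂
  haveI := hfp
  letI algR₁R₂ : Algebra R₁ R₂ := e.toRingHom.toAlgebra
  letI algR₁A₂ : Algebra R₁ A₂ := ((algebraMap R₂ A₂).comp e.toRingHom).toAlgebra
  haveI : IsScalarTower R₁ R₂ A₂ := IsScalarTower.of_algebraMap_eq (fun _ => rfl)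
  let eA : R₁ ≃ₐ[R₁] R₂ := AlgEquiv.ofRingEquiv (f := e) (fun _ => rfl)
  haveI : Algebra.FinitePresentation R₁ R₂ := Algebra.FinitePresentation.equiv eA
  haveI : Algebra.FinitePresentation R₁ A₂ := Algebra.FinitePresentation.trans R₁ R₂ A₂
  let f₁ : A₂ →ₐ[R₁] Λ₁ :=
    { toRingHom := e'.symm.toRingHom.comp f₂.toRingHom
      commutes' := fun r => by
        change e'.symm (f₂ (algebraMap R₂ A₂ (e r))) = algebraMap R₁ Λ₁ r
        rw [f₂.commutes, ← he, e'.symm_apply_apply] }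
  obtain ⟨B, _, _, hsm, g₁, h₁, hcomp⟩ := H A₂ inferInstance f₁
  haveI := hsm
  letI algR₂R₁ : Algebra R₂ R₁ := e.symm.toRingHom.toAlgebra
  letI algR₂B : Algebra R₂ B := ((algebraMap R₁ B).comp e.symm.toRingHom).toAlgebra
  haveI : IsScalarTower R₂ R₁ B := IsScalarTower.of_algebraMap_eq (fun _ => rfl)
  let eB : R₂ ≃ₐ[R₂] R₁ := AlgEquiv.ofRingEquiv (f := e.symm) (fun _ => rfl)
  haveI : Algebra.Smooth R₂ R₁ := Algebra.Smooth.of_equiv eB
  haveI : Algebra.Smooth R₂ B := Algebra.Smooth.comp R₂ R₁ B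
  let g₂ : A₂ →ₐ[R₂] B :=
    { toRingHom := g₁.toRingHom
      commutes' := fun r => by
        change g₁ (algebraMap R₂ A₂ r) = algebraMap R₁ B (e.symm r)
        rw [← g₁.commutes (e.symm r)]
        change _ = g₁ (algebraMap R₂ A₂ (e (e.symm r)))
        rw [e.apply_symm_apply] }
  let h₂ : B →ₐ[R₂] Λ₂ :=
    { toRingHom := e'.toRingHom.comp h₁.toRingHom
      commutes' := fun r => by
        change e' (h₁ (algebraMap R₁ B (e.symm r))) = algebraMap R₂ Λ₂ r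
        rw [h₁.commutes, he, e.apply_symm_apply] }
  refine ⟨B, inferInstance, algR₂B, inferInstance, g₂, h₂, ?_⟩
  apply AlgHom.ext
  intro a
  change e' (h₁ (g₁ a)) = f₂ a
  have h3 := congr($hcomp a)
  change h₁ (g₁ a) = e'.symm (f₂ a) at h3
  rw [h3, e'.apply_symm_apply]


/-- One step: from `I` to `I²`. -/
theorem indSmooth_quot_sq {R Λ : Type u} [CommRing R] [CommRing Λ] [Algebra R Λ]
    [Module.Flat R Λ] (I : Ideal R)
    (h : Smoothing.IndSmooth (R ⧸ I) (Λ ⧸ I.map (algebraMap R Λ))) :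
    Smoothing.IndSmooth (R ⧸ I ^ 2) (Λ ⧸ (I ^ 2).map (algebraMap R Λ)) := by
  let R₂ := R ⧸ I ^ 2
  let Λ₂ := Λ ⧸ (I ^ 2).map (algebraMap R Λ)
  let Ib : Ideal R₂ := I.map (Ideal.Quotient.mk (I ^ 2))
  have hIb : Ib ^ 2 = ⊥ := by
    rw [← Ideal.map_pow, Ideal.map_quotient_self]
  haveI : Module.Flat R₂ Λ₂ :=
    Module.Flat.of_linearEquiv
      (Algebra.TensorProduct.quotIdealMapEquivQuotTensor Λ (I ^ 2)).toLinearEquiv
  have hle : I ^ 2 ≤ I := Ideal.pow_le_self two_ne_zero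
  have hle' : (I ^ 2).map (algebraMap R Λ) ≤ I.map (algebraMap R Λ) := Ideal.map_mono hle
  have hid : (I.map (algebraMap R Λ)).map (Ideal.Quotient.mk ((I ^ 2).map (algebraMap R Λ))) =
      Ib.map (algebraMap R₂ Λ₂) := by
    rw [Ideal.map_map, Ideal.map_map]
    rfl
  let e : R ⧸ I ≃+* R₂ ⧸ Ib := (DoubleQuot.quotQuotEquivQuotOfLE hle).symm
  let e' : Λ ⧸ I.map (algebraMap R Λ) ≃+* Λ₂ ⧸ Ib.map (algebraMap R₂ Λ₂) :=
    (DoubleQuot.quotQuotEquivQuotOfLE hle').symm.trans (Ideal.quotEquivOfEq hid)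
  refine indSmooth_of_sq_zero Ib hIb (indSmooth_of_ringEquiv e e' ?_ h)
  intro r
  obtain ⟨r, rfl⟩ := Ideal.Quotient.mk_surjective r
  rfl

theorem main_aux (n : ℕ) : ∀ {R Λ : Type u} [CommRing R] [CommRing Λ] [Algebra R Λ]
    [Module.Flat R Λ] (I : Ideal R), I ^ n = ⊥ →
    Smoothing.IndSmooth (R ⧸ I) (Λ ⧸ I.map (algebraMap R Λ)) → Smoothing.IndSmooth R Λ := by
  induction n using Nat.strong_induction_on with
  | _ n ih =>
    intro R Λ _ _ _ _ I hIn h
    by_cases hn : n ≤ 2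
    · refine indSmooth_of_sq_zero I ?_ h
      rw [eq_bot_iff, ← hIn]
      exact Ideal.pow_le_pow_right hn
    · push Not at hn
      have h2 := indSmooth_quot_sq I h
      refine ih ((n + 1) / 2) (by omega) (I ^ 2) ?_ h2
      rw [← pow_mul, eq_bot_iff, ← hIn]
      exact Ideal.pow_le_pow_right (by omega)

theorem main {R Λ : Type u} [CommRing R] [CommRing Λ]
    [Algebra R Λ] (I : Ideal R) (hI : IsNilpotent I) [Module.Flat R Λ]
    (h : Smoothing.IndSmooth (R ⧸ I) (Λ ⧸ I.map (algebraMap R Λ))) :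
    Smoothing.IndSmooth R Λ := by
  obtain ⟨n, hn⟩ := hI
  exact main_aux n I hn h


end Groth.Agent.Lib.R2H4.IndSmoothNil
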