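import Mathlib
import Groth.Agent.Lib.Helper5LocalFlat
import Groth.Agent.Lib.Helper5Tor1
import Groth.Agent.Lib.Helper5RLR

/-!
# Polynomial rings over a field modulo powers of the variables (helper4, round 2)

* `mul_mem_of_lt`, `ann_cond`: `X i ^ c` is a nonzerodivisor modulo powers of the earlier variables.
* `mm`: the ideal of the origin; `sub_C_mem`, `mm_isMaximal`; for `K ≤ mm`: `bijective_residue`,
  `isMaximal_map`, `isNilpotent_map`.
* `flat_of_regular`: `k[x₁..x_d] → S` is flat when `S` is regular local of dimension `d` and the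
  variables map to generators of the maximal ideal (local criterion of flatness, Helper5 libs).
-/

set_option autoImplicit false
set_option linter.style.haveILetI false
set_option linter.unusedSimpArgs false
set_option linter.unusedSectionVars false
universe u

namespace Groth.Agent.Lib.R2H4.PolyArt
section Part1

open MvPolynomial

section Monomial

variable {k : Type u} [Field k] {d : ℕ}

/-- `X i ^ c` is a nonzerodivisor modulo powers of the earlier variables -/
theorem mul_mem_of_lt (c e : ℕ) (i : Fin d) (f : MvPolynomial (Fin d) k)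
    (hf : X i ^ c * f ∈ Ideal.span (Set.range fun j : {j : Fin d // (j : ℕ) < (i : ℕ)} =>
      (X (j : Fin d) : MvPolynomial (Fin d) k) ^ e)) :
    f ∈ Ideal.span (Set.range fun j : {j : Fin d // (j : ℕ) < (i : ℕ)} =>
      (X (j : Fin d) : MvPolynomial (Fin d) k) ^ e) := by
  classical
  let S : Set (Fin d →₀ ℕ) := Set.range fun j : {j : Fin d // (j : ℕ) < (i : ℕ)} =>
    Finsupp.single (j : Fin d) e
  have hS : (Set.range fun j : {j : Fin d // (j : ℕ) < (i : ℕ)} =>
      (X (j : Fin d) : MvPolynomial (Fin d) k) ^ e) = (fun s => monomial s (1 : k)) '' S := by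
    rw [← Set.range_comp]
    congr 1
    funext j
    simp only [Function.comp_apply, X_pow_eq_monomial]
  rw [hS] at hf ⊢
  rw [mem_ideal_span_monomial_image] at hf ⊢
  intro m hm
  have hm' : Finsupp.single i c + m ∈ (X i ^ c * f).support := by
    rw [mem_support_iff, X_pow_eq_monomial, coeff_monomial_mul, one_mul]
    exact mem_support_iff.mp hm
  obtain ⟨s, ⟨j, rfl⟩, hs⟩ := hf _ hm'
  refine ⟨_, ⟨j, rfl⟩, ?_⟩
  rw [Finsupp.single_le_iff] at hs ⊢
  have hne : (i : Fin d) ≠ (j : Fin d) := by
    intro h
    have := j.2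
    rw [← h] at this
    exact lt_irrefl _ this
  rw [Finsupp.add_apply, Finsupp.single_apply, if_neg hne, zero_add] at hs
  exact hs

/-- the annihilator condition in the polynomial ring -/
theorem ann_cond (c : ℕ) (i : Fin d)
    (y : MvPolynomial (Fin d) k ⧸ Ideal.span (Set.range fun j : {j : Fin d // (j : ℕ) < (i : ℕ)} =>
      ((X (j : Fin d) : MvPolynomial (Fin d) k) ^ c) ^ 8))
    (hy : Ideal.Quotient.mk _ (X i ^ c) ^ 2 * y = 0) : Ideal.Quotient.mk _ (X i ^ c) * y = 0 := by
  obtain ⟨f, rfl⟩ := Ideal.Quotient.mk_surjective y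
  have hrw : (fun j : {j : Fin d // (j : ℕ) < (i : ℕ)} =>
      ((X (j : Fin d) : MvPolynomial (Fin d) k) ^ c) ^ 8) =
      fun j : {j : Fin d // (j : ℕ) < (i : ℕ)} => (X (j : Fin d) : MvPolynomial (Fin d) k) ^ (c * 8) := by
    funext j
    rw [pow_mul]
  rw [← map_pow, ← map_mul, Ideal.Quotient.eq_zero_iff_mem] at hy
  rw [← map_mul, Ideal.Quotient.eq_zero_iff_mem]
  rw [hrw] at hy ⊢
  have h1 : X i ^ c * (X i ^ c * f) ∈ Ideal.span (Set.range fun j : {j : Fin d // (j : ℕ) < (i : ℕ)} =>
      (X (j : Fin d) : MvPolynomial (Fin d) k) ^ (c * 8)) := by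
    rw [← mul_assoc, ← pow_two]
    exact hy
  exact mul_mem_of_lt c (c * 8) i _ h1

end Monomial

section Quot

variable (k : Type u) [Field k] (d : ℕ)

/-- the maximal ideal at the origin -/
noncomputable def mm : Ideal (MvPolynomial (Fin d) k) := Ideal.span (Set.range X)

variable {k d}

theorem sub_C_mem (f : MvPolynomial (Fin d) k) : f - C (constantCoeff f) ∈ mm k d := by
  classical
  have h : mm k d = Ideal.span (X '' (Set.univ : Set (Fin d))) := by
    rw [mm, Set.image_univ]
  rw [h, mem_ideal_span_X_image]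
  intro m hm
  by_contra hcon
  push Not at hcon
  have hm0 : m = 0 := by
    ext i
    exact hcon i (Set.mem_univ i)
  rw [mem_support_iff, hm0, ← constantCoeff_eq, map_sub, constantCoeff_C, sub_self] at hm
  exact hm rfl


theorem constantCoeff_eq_zero_of_mem {f : MvPolynomial (Fin d) k} (hf : f ∈ mm k d) :
    constantCoeff f = 0 := by
  have h : mm k d ≤ RingHom.ker (constantCoeff : MvPolynomial (Fin d) k →+* k) := by
    rw [mm, Ideal.span_le]
    rintro _ ⟨i, rfl⟩
    exact constantCoeff_X k i
  exact h hf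

variable (K : Ideal (MvPolynomial (Fin d) k)) (hK : K ≤ mm k d)

include hK in
theorem one_notMem : (1 : MvPolynomial (Fin d) k ⧸ K) ∉ (mm k d).map (Ideal.Quotient.mk K) := by
  intro h
  rw [← map_one (Ideal.Quotient.mk K),
    Ideal.mem_map_iff_of_surjective _ Ideal.Quotient.mk_surjective] at h
  obtain ⟨x, hx, hx1⟩ := h
  have h1 : x - 1 ∈ K := by
    rw [← Ideal.Quotient.eq_zero_iff_mem, map_sub, hx1, sub_self]
  have h2 : (1 : MvPolynomial (Fin d) k) ∈ mm k d := by
    have : (1 : MvPolynomial (Fin d) k) = x - (x - 1) := by ring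
    rw [this]
    exact Ideal.sub_mem _ hx (hK h1)
  have := constantCoeff_eq_zero_of_mem h2
  rw [map_one] at this
  exact one_ne_zero this

include hK in
theorem bijective_residue :
    Function.Bijective ((Ideal.Quotient.mk ((mm k d).map (Ideal.Quotient.mk K))).comp
      (algebraMap k (MvPolynomial (Fin d) k ⧸ K))) := by
  haveI : Nontrivial ((MvPolynomial (Fin d) k ⧸ K) ⧸ (mm k d).map (Ideal.Quotient.mk K)) :=
    Ideal.Quotient.nontrivial_iff.mpr
      (fun h => one_notMem K hK ((Ideal.eq_top_iff_one _).mp h))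
  refine ⟨RingHom.injective _, ?_⟩
  intro y
  obtain ⟨y, rfl⟩ := Ideal.Quotient.mk_surjective y
  obtain ⟨f, rfl⟩ := Ideal.Quotient.mk_surjective y
  refine ⟨constantCoeff f, ?_⟩
  rw [RingHom.comp_apply, eq_comm, ← sub_eq_zero, ← map_sub, Ideal.Quotient.eq_zero_iff_mem]
  have : Ideal.Quotient.mk K f - algebraMap k (MvPolynomial (Fin d) k ⧸ K) (constantCoeff f) =
      Ideal.Quotient.mk K (f - C (constantCoeff f)) := by
    rw [map_sub]
    rfl
  rw [this]
  exact Ideal.mem_map_of_mem _ (sub_C_mem f)

include hK in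
theorem isMaximal_map : ((mm k d).map (Ideal.Quotient.mk K)).IsMaximal := by
  apply Ideal.Quotient.maximal_of_isField
  exact (RingEquiv.ofBijective _ (bijective_residue K hK)).symm.toMulEquiv.isField (Field.toIsField k)

theorem isNilpotent_map (hnil : ∀ i : Fin d, ∃ N : ℕ, (X i : MvPolynomial (Fin d) k) ^ N ∈ K) :
    IsNilpotent ((mm k d).map (Ideal.Quotient.mk K)) := by
  have hle : (mm k d).map (Ideal.Quotient.mk K) ≤ nilradical (MvPolynomial (Fin d) k ⧸ K) := by
    rw [mm, Ideal.map_span, Ideal.span_le]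
    rintro _ ⟨_, ⟨i, rfl⟩, rfl⟩
    obtain ⟨N, hN⟩ := hnil i
    refine ⟨N, ?_⟩
    rw [← map_pow]
    exact Ideal.Quotient.eq_zero_iff_mem.mpr hN
  obtain ⟨N, hN⟩ := IsNoetherianRing.isNilpotent_nilradical (MvPolynomial (Fin d) k ⧸ K)
  refine ⟨N, ?_⟩
  rw [Ideal.zero_eq_bot, eq_bot_iff, ← Ideal.zero_eq_bot, ← hN]
  exact Ideal.pow_right_mono hle N

end Quot

section Flat

open IsLocalRing RingTheory.Sequence

variable {k : Type u} [Field k] {d : ℕ}

theorem mm_isMaximal : (mm k d).IsMaximal := by
  rw [Ideal.isMaximal_iff]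
  refine ⟨fun h => ?_, fun J x hJ hx hxJ => ?_⟩
  · have := constantCoeff_eq_zero_of_mem h
    rw [map_one] at this
    exact one_ne_zero this
  · have hc : constantCoeff x ≠ 0 := by
      intro h0
      apply hx
      have := sub_C_mem x
      rwa [h0, map_zero, sub_zero] at this
    have h1 : C (constantCoeff x) ∈ J := by
      have : C (constantCoeff x) = x - (x - C (constantCoeff x)) := by ring
      rw [this]
      exact J.sub_mem hxJ (hJ (sub_C_mem x))
    have h2 : C (constantCoeff x)⁻¹ * C (constantCoeff x) = (1 : MvPolynomial (Fin d) k) := by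
      rw [← C_mul, inv_mul_cancel₀ hc, C_1]
    rw [← h2]
    exact J.mul_mem_left _ h1

theorem ofList_ofFn_eq {A : Type*} [CommRing A] {n : ℕ} (y : Fin n → A) :
    Ideal.ofList (List.ofFn y) = Ideal.span (Set.range y) := by
  rw [Ideal.ofList]
  congr 1
  ext a
  simp [List.mem_ofFn]

/-- a polynomial ring mapping its variables to a regular system of parameters is flat -/
theorem flat_of_regular {S : Type u} [CommRing S] [IsRegularLocalRing S]
    [Algebra (MvPolynomial (Fin d) k) S] (hd : ringKrullDim S = d)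
    (hx : Ideal.span (Set.range fun i => algebraMap (MvPolynomial (Fin d) k) S (X i)) =
      maximalIdeal S) :
    Module.Flat (MvPolynomial (Fin d) k) S := by
  have hNoeth : IsNoetherianRing S := inferInstance
  have hreg := Helper5.isRegular_ofFn_of_span_eq_maximalIdeal hd
    (fun i => algebraMap (MvPolynomial (Fin d) k) S (X i)) hx
  have hw : IsWeaklyRegular S (List.ofFn (fun i => (X i : MvPolynomial (Fin d) k))) := by
    have h1 := hreg.toIsWeaklyRegular
    have h2 : List.ofFn (fun i => algebraMap (MvPolynomial (Fin d) k) S (X i)) =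
        (List.ofFn (fun i => (X i : MvPolynomial (Fin d) k))).map
          (algebraMap (MvPolynomial (Fin d) k) S) := by
      rw [List.map_ofFn]
      rfl
    rw [h2] at h1
    exact (isWeaklyRegular_map_algebraMap_iff S S _).mp h1
  have hI : Ideal.ofList (List.ofFn (fun i => (X i : MvPolynomial (Fin d) k))) = mm k d :=
    ofList_ofFn_eq _
  apply Helper5.flat_of_lTensor_ideal_injective (B := S) S (mm k d)
  · rw [IsLocalRing.jacobson_eq_maximalIdeal ⊥ bot_ne_top, mm, Ideal.map_span, ← Set.range_comp]
    exact hx.le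
  · rw [← hI]
    exact Helper5.lTensor_ofList_subtype_injective_of_isWeaklyRegular _ hw
  · intro K
    apply Helper5.lTensor_restrictScalars_subtype_injective_of_flat_baseChange
    have hfield : IsField (MvPolynomial (Fin d) k ⧸ mm k d) :=
      (Ideal.Quotient.maximal_ideal_iff_isField_quotient _).mp mm_isMaximal
    letI := hfield.toField
    infer_instance

end Flat

end Part1

end Groth.Agent.Lib.R2H4.PolyArt
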