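import Mathlib
import Groth.Prelude.Def_RegImm
import Groth.Agent.Lib.R2H4RelGCIReg
import Groth.Agent.Lib.H9RegImmPres
import Groth.Agent.Lib.Helper6OmProjA

/-!
# The Jacobian criterion for relative global complete intersections (helper4, round 2)

For `S = R[x_1..x_n]/(F_1..F_c)` a relative global complete intersection and `q` a prime of `S`:
`S` is smooth over `R` at `q` iff some `c × c` minor of the Jacobian matrix is not in `q`.
-/

set_option autoImplicit false
set_option linter.style.haveILetI false
universe u

namespace Groth.Agent.Lib.R2H4.RelGCIJac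

section LinAlg

variable {K : Type u} [Field K] {n c : ℕ}

/-- a matrix with trivial kernel over a field has a nonvanishing maximal minor -/
theorem exists_minor_ne_zero (M : Matrix (Fin n) (Fin c) K)
    (hM : ∀ v : Fin c → K, M.mulVec v = 0 → v = 0) :
    ∃ I : Fin c ↪ Fin n, (M.submatrix I id).det ≠ 0 := by
  classical
  have hinj : Function.Injective M.mulVecLin := by
    rw [← LinearMap.ker_eq_bot, LinearMap.ker_eq_bot']
    intro v hv
    exact hM v (by simpa using hv)
  have hrank : M.rank = c := by
    rw [Matrix.rank, LinearMap.finrank_range_of_inj hinj]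
    simp
  have hspan : Submodule.span K (Set.range M.row) = ⊤ := by
    apply Submodule.eq_top_of_finrank_eq
    rw [← Matrix.rank_eq_finrank_span_row, hrank]
    simp
  obtain ⟨κ, a, ha, hsp, hli⟩ := exists_linearIndependent' K M.row
  haveI : Finite κ := Finite.of_injective a ha
  haveI : Fintype κ := Fintype.ofFinite κ
  let b : Module.Basis κ K (Fin c → K) := Module.Basis.mk hli (by rw [hsp, hspan])
  have hcard : Fintype.card κ = c := by
    have := Module.finrank_eq_card_basis b
    simpa using this.symm
  let e : Fin c ≃ κ := (Fintype.equivFinOfCardEq hcard).symm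
  refine ⟨⟨a ∘ e, ha.comp e.injective⟩, ?_⟩
  have hli' : LinearIndependent K (M.submatrix (a ∘ e) id).row := by
    have := hli.comp e e.injective
    exact this
  have hu := Matrix.linearIndependent_rows_iff_isUnit.mp hli'
  have := (Matrix.isUnit_iff_isUnit_det _).mp hu
  exact this.ne_zero

end LinAlg

section Split

open KaehlerDifferential TensorProduct Algebra.Extension

variable {R P' T : Type u} [CommRing R] [CommRing P'] [CommRing T] [Algebra R P'] [Algebra R T]
  [Algebra P' T] [IsScalarTower R P' T] [IsLocalRing T]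

theorem mem_maximalIdeal_of_jacobian [Algebra.FormallySmooth R P'] [Algebra.FormallySmooth R T]
    (hsurj : Function.Surjective (algebraMap P' T)) {c n : ℕ} (f : Fin c → P')
    (hker : RingHom.ker (algebraMap P' T) = Ideal.span (Set.range f))
    (hqr : ∀ b : Fin c → P', ∑ j, b j * f j ∈ Ideal.span (Set.range f) ^ 2 →
      ∀ j, b j ∈ Ideal.span (Set.range f))
    (y : Fin n → P') (g : Fin n → Fin c → P')
    (hD : ∀ j, D R P' (f j) = ∑ i, g i j • D R P' (y i))
    (a : Fin c → T)
    (ha : ∀ i, ∑ j, a j * algebraMap P' T (g i j) ∈ IsLocalRing.maximalIdeal T) (j : Fin c) :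
    a j ∈ IsLocalRing.maximalIdeal T := by
  let E : Algebra.Extension.{u} R T :=
    { Ring := P', σ := Function.surjInv hsurj, algebraMap_σ := Function.surjInv_eq hsurj }
  haveI : Algebra.FormallySmooth R E.Ring := ‹Algebra.FormallySmooth R P'›
  obtain ⟨l, hl⟩ := E.formallySmooth_iff_split_injection.mp inferInstance
  have hfk : ∀ j, f j ∈ E.ker := fun j => by
    change f j ∈ RingHom.ker (algebraMap P' T)
    rw [hker]; exact Ideal.subset_span ⟨j, rfl⟩
  let fk : Fin c → E.ker := fun j => ⟨f j, hfk j⟩
  have hspan : Submodule.span T (Set.range fun j => Cotangent.mk (fk j)) = ⊤ :=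
    Cotangent.span_eq_top_of_span_eq_ker (P := E) f hker.symm
  let m : Fin n → T := fun i => ∑ j, a j * algebraMap P' T (g i j)
  let z : E.Cotangent := ∑ j, a j • Cotangent.mk (fk j)
  have hdz : E.cotangentComplex z = ∑ i, m i • ((1 : T) ⊗ₜ[P'] D R P' (y i)) := by
    have h1 : ∀ j, E.cotangentComplex (Cotangent.mk (fk j)) =
        ∑ i, algebraMap P' T (g i j) • ((1 : T) ⊗ₜ[P'] D R P' (y i)) := by
      intro j
      rw [cotangentComplex_mk]
      change (1 : T) ⊗ₜ[P'] D R P' (f j) = _
      rw [hD j, TensorProduct.tmul_sum]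
      refine Finset.sum_congr rfl fun i _ => ?_
      rw [TensorProduct.tmul_smul, algebraMap_smul]
    change E.cotangentComplex (∑ j, a j • Cotangent.mk (fk j)) = _
    rw [map_sum]
    simp_rw [map_smul, h1, Finset.smul_sum, smul_smul]
    rw [Finset.sum_comm]
    simp_rw [← Finset.sum_smul]
    rfl
  have hz' : z = ∑ i, m i • l ((1 : T) ⊗ₜ[P'] D R P' (y i)) := by
    have h1 : l (E.cotangentComplex z) = z := by
      have := congrArg (fun φ => φ z) hl
      simpa using this
    rw [← h1, hdz, map_sum]
    simp_rw [map_smul]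
  have hrep : ∀ w : E.Cotangent, ∃ t : Fin c → T, w = ∑ j, t j • Cotangent.mk (fk j) := by
    intro w
    have hw : w ∈ Submodule.span T (Set.range fun j => Cotangent.mk (fk j)) := hspan ▸ trivial
    rw [Submodule.mem_span_range_iff_exists_fun] at hw
    obtain ⟨t, ht⟩ := hw
    exact ⟨t, ht.symm⟩
  choose t ht using fun i => hrep (l ((1 : T) ⊗ₜ[P'] D R P' (y i)))
  have hμ : z = ∑ j, (∑ i, m i * t i j) • Cotangent.mk (fk j) := by
    rw [hz']
    simp_rw [ht, Finset.smul_sum, smul_smul]
    rw [Finset.sum_comm]
    simp_rw [← Finset.sum_smul]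
  have hμmem : ∀ j, ∑ i, m i * t i j ∈ IsLocalRing.maximalIdeal T := fun j =>
    Ideal.sum_mem _ fun i _ => Ideal.mul_mem_right _ _ (ha i)
  have h0 : ∑ j, (a j - ∑ i, m i * t i j) • Cotangent.mk (fk j) = 0 := by
    simp_rw [sub_smul, Finset.sum_sub_distrib]
    rw [← hμ]
    exact sub_self _
  choose b hb using fun j => hsurj (a j - ∑ i, m i * t i j)
  have h1 : ∑ j, b j * f j ∈ Ideal.span (Set.range f) ^ 2 := by
    have h2 : Cotangent.mk (∑ j, b j • fk j) = 0 := by
      rw [map_sum, ← h0]
      refine Finset.sum_congr rfl fun j _ => ?_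
      rw [map_smul, ← hb j, algebraMap_smul]
    rw [Cotangent.mk_eq_zero_iff] at h2
    have h3 : (∑ j, b j • fk j : E.ker).val = ∑ j, b j * f j := by
      simp [fk]
    rw [h3] at h2
    rw [← hker]
    exact h2
  have h2 := hqr b h1 j
  have h3 : algebraMap P' T (b j) = 0 := by
    rw [← RingHom.mem_ker, hker]; exact h2
  rw [hb j] at h3
  have h4 : a j = ∑ i, m i * t i j := sub_eq_zero.mp h3
  rw [h4]; exact hμmem j

end Split

section QR

variable {A : Type u} [CommRing A] {c : ℕ} (f : Fin c → A)

/-- degree one quasi-regularity of a weakly regular sequence -/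
theorem mem_of_sum_mem_sq_of_isWeaklyRegular
    (hw : RingTheory.Sequence.IsWeaklyRegular A (List.ofFn f))
    (b : Fin c → A) (hb : ∑ j, b j * f j ∈ Ideal.span (Set.range f) ^ 2) (j : Fin c) :
    b j ∈ Ideal.span (Set.range f) := by
  classical
  have hqr := Groth.Agent.S5802.result A c f hw
  let Pol : MvPolynomial (Fin c) A := ∑ j, MvPolynomial.C (b j) * MvPolynomial.X j
  have hhom : Pol.IsHomogeneous 1 :=
    MvPolynomial.IsHomogeneous.sum _ _ _ fun j _ => MvPolynomial.isHomogeneous_C_mul_X _ _
  have heval : MvPolynomial.eval f Pol ∈ Ideal.span (Set.range f) ^ (1 + 1) := by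
    have h1 : MvPolynomial.eval f Pol = ∑ j, b j * f j := by
      simp [Pol, map_sum, map_mul]
    rw [h1]
    exact hb
  have hcoef := hqr 1 Pol hhom heval (Finsupp.single j 1)
  have h2 : Pol.coeff (Finsupp.single j 1) = b j := by
    simp [Pol, MvPolynomial.coeff_sum, MvPolynomial.coeff_C_mul, MvPolynomial.coeff_X',
      Finsupp.single_left_inj]
  rwa [h2] at hcoef

end QR

section DPoly

open KaehlerDifferential

variable (R : Type u) [CommRing R] {n : ℕ}

theorem D_eq_sum_pderiv (p : MvPolynomial (Fin n) R) :
    D R (MvPolynomial (Fin n) R) p =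
      ∑ i, MvPolynomial.pderiv i p • D R (MvPolynomial (Fin n) R) (MvPolynomial.X i) := by
  have h := (mvPolynomialBasis R (Fin n)).sum_repr (D R (MvPolynomial (Fin n) R) p)
  simp only [mvPolynomialBasis_repr_apply, mvPolynomialBasis_apply] at h
  exact h.symm

theorem D_algebraMap_eq_sum {P' : Type u} [CommRing P'] [Algebra R P']
    [Algebra (MvPolynomial (Fin n) R) P'] [IsScalarTower R (MvPolynomial (Fin n) R) P']
    (p : MvPolynomial (Fin n) R) :
    D R P' (algebraMap (MvPolynomial (Fin n) R) P' p) =
      ∑ i, algebraMap (MvPolynomial (Fin n) R) P' (MvPolynomial.pderiv i p) •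
        D R P' (algebraMap (MvPolynomial (Fin n) R) P' (MvPolynomial.X i)) := by
  have h1 := KaehlerDifferential.map_D R R (MvPolynomial (Fin n) R) P' p
  rw [← h1, D_eq_sum_pderiv, map_sum]
  refine Finset.sum_congr rfl fun i _ => ?_
  rw [map_smul, KaehlerDifferential.map_D, algebraMap_smul]

end DPoly

section Main

open KaehlerDifferential

variable (R : Type u) [CommRing R] (n c : ℕ) (F : Fin c → MvPolynomial (Fin n) R)

theorem exists_minor_notMem (h : Synt.IsRelGCI R n c F)
    (q : Ideal (Synt.RelGCIRing R n c F)) [q.IsPrime] (hsm : Algebra.IsSmoothAt R q) :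
    ∃ I : Fin c ↪ Fin n,
      Ideal.Quotient.mk (Ideal.span (Set.range F))
        (Matrix.det (Matrix.of fun j i => MvPolynomial.pderiv (I i) (F j))) ∉ q := by
  classical
  let mkI := Ideal.Quotient.mk (Ideal.span (Set.range F))
  let q' : Ideal (MvPolynomial (Fin n) R) := q.comap mkI
  haveI : q'.IsPrime := Ideal.comap_isPrime mkI q
  let φ : Localization.AtPrime q' →+* Localization.AtPrime q :=
    Localization.localRingHom q' q mkI rfl
  letI : Algebra (Localization.AtPrime q') (Localization.AtPrime q) := φ.toAlgebra
  haveI : IsScalarTower R (Localization.AtPrime q') (Localization.AtPrime q) :=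
    IsScalarTower.of_algebraMap_eq fun r => by
      change _ = φ _
      rw [IsScalarTower.algebraMap_apply R (MvPolynomial (Fin n) R) (Localization.AtPrime q'),
        Localization.localRingHom_to_map,
        IsScalarTower.algebraMap_apply R (Synt.RelGCIRing R n c F) (Localization.AtPrime q)]
      rfl
  haveI : Algebra.FormallySmooth (MvPolynomial (Fin n) R) (Localization.AtPrime q') :=
    Algebra.FormallySmooth.of_isLocalization q'.primeCompl
  haveI : Algebra.FormallySmooth R (Localization.AtPrime q') :=
    Algebra.FormallySmooth.comp R (MvPolynomial (Fin n) R) (Localization.AtPrime q')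
  haveI : Algebra.FormallySmooth R (Localization.AtPrime q) := hsm
  have hsurj : Function.Surjective
      (algebraMap (Localization.AtPrime q') (Localization.AtPrime q)) :=
    Groth.Agent.Lib.Helper6.OmProj.localRingHom_surjective mkI Ideal.Quotient.mk_surjective q q' rfl
  let f : Fin c → Localization.AtPrime q' := fun j =>
    algebraMap (MvPolynomial (Fin n) R) (Localization.AtPrime q') (F j)
  have hker : RingHom.ker (algebraMap (Localization.AtPrime q') (Localization.AtPrime q)) =
      Ideal.span (Set.range f) := by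
    have h1 := Groth.Agent.Lib.H9RegImmPres.ker_localRingHom mkI Ideal.Quotient.mk_surjective
      q q' rfl
    change RingHom.ker φ = _
    rw [h1, Ideal.mk_ker, Ideal.map_span, ← Set.range_comp]
    rfl
  have hq' : Ideal.span (Set.range F) ≤ q' := by
    intro x hx
    change mkI x ∈ q
    rw [Ideal.Quotient.eq_zero_iff_mem.mpr hx]
    exact q.zero_mem
  have hw : RingTheory.Sequence.IsWeaklyRegular (Localization.AtPrime q') (List.ofFn f) := by
    have h1 := (Groth.Agent.Lib.R2H4.RelGCIReg.isRegular_localization R n c F h q'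
      hq').toIsWeaklyRegular
    rwa [List.map_ofFn] at h1
  have hqr := fun b hb j => mem_of_sum_mem_sq_of_isWeaklyRegular f hw b hb j
  let y : Fin n → Localization.AtPrime q' := fun i =>
    algebraMap (MvPolynomial (Fin n) R) (Localization.AtPrime q') (MvPolynomial.X i)
  let g : Fin n → Fin c → Localization.AtPrime q' := fun i j =>
    algebraMap (MvPolynomial (Fin n) R) (Localization.AtPrime q') (MvPolynomial.pderiv i (F j))
  have hD : ∀ j, D R (Localization.AtPrime q') (f j) =
      ∑ i, g i j • D R (Localization.AtPrime q') (y i) := fun j =>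
    D_algebraMap_eq_sum R (F j)
  let ψ : Synt.RelGCIRing R n c F →+* IsLocalRing.ResidueField (Localization.AtPrime q) :=
    (IsLocalRing.residue (Localization.AtPrime q)).comp
      (algebraMap (Synt.RelGCIRing R n c F) (Localization.AtPrime q))
  let M : Matrix (Fin n) (Fin c) (IsLocalRing.ResidueField (Localization.AtPrime q)) :=
    fun i j => ψ (mkI (MvPolynomial.pderiv i (F j)))
  have hgφ : ∀ i j, algebraMap (Localization.AtPrime q') (Localization.AtPrime q) (g i j) =
      algebraMap (Synt.RelGCIRing R n c F) (Localization.AtPrime q)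
        (mkI (MvPolynomial.pderiv i (F j))) := fun i j =>
    Localization.localRingHom_to_map q' q mkI rfl _
  have hM : ∀ v : Fin c → IsLocalRing.ResidueField (Localization.AtPrime q),
      M.mulVec v = 0 → v = 0 := by
    intro v hv
    choose a ha using fun j => IsLocalRing.residue_surjective (v j)
    have key := mem_maximalIdeal_of_jacobian (R := R) hsurj f hker hqr y g hD a (by
      intro i
      refine (IsLocalRing.residue_eq_zero_iff _).mp ?_
      rw [map_sum]
      have h1 := congrFun hv i
      simp only [Matrix.mulVec, dotProduct, Pi.zero_apply] at h1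
      rw [← h1]
      refine Finset.sum_congr rfl fun j _ => ?_
      rw [map_mul, ha j, hgφ, mul_comm]
      rfl)
    ext j
    rw [← ha j]
    exact (IsLocalRing.residue_eq_zero_iff _).mpr (key j)
  obtain ⟨I, hI⟩ := exists_minor_ne_zero M hM
  refine ⟨I, fun hmem => hI ?_⟩
  have h1 : M.submatrix I id = ((ψ.comp mkI).mapMatrix
      (Matrix.of fun j i => MvPolynomial.pderiv (I i) (F j))).transpose := by
    ext i j
    rfl
  rw [h1, Matrix.det_transpose, ← RingHom.map_det]
  change IsLocalRing.residue _ (algebraMap _ _ (mkI _)) = 0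
  refine (IsLocalRing.residue_eq_zero_iff _).mpr ?_
  rw [IsLocalization.AtPrime.to_map_mem_maximal_iff (Localization.AtPrime q) q]
  exact hmem

end Main

section Conv

variable (R : Type u) [CommRing R] (n c : ℕ) (F : Fin c → MvPolynomial (Fin n) R)

theorem isSmoothAt_of_minor_notMem (q : Ideal (Synt.RelGCIRing R n c F)) [q.IsPrime]
    (I : Fin c ↪ Fin n)
    (hI : Ideal.Quotient.mk (Ideal.span (Set.range F))
        (Matrix.det (Matrix.of fun j i => MvPolynomial.pderiv (I i) (F j))) ∉ q) :
    Algebra.IsSmoothAt R q := by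
  classical
  let P₀ : Algebra.PreSubmersivePresentation R (Synt.RelGCIRing R n c F) (Fin n) (Fin c) :=
    Algebra.PreSubmersivePresentation.naive (v := F) I I.injective
  set gS : Synt.RelGCIRing R n c F := Ideal.Quotient.mk (Ideal.span (Set.range F))
    (Matrix.det (Matrix.of fun j i => MvPolynomial.pderiv (I i) (F j))) with hg
  have hjac : P₀.jacobian = gS := by
    rw [Algebra.PreSubmersivePresentation.jacobian_eq_jacobiMatrix_det]
    have h1 : P₀.jacobiMatrix =
        (Matrix.of fun j i => MvPolynomial.pderiv (I i) (F j)).transpose := by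
      refine Matrix.ext fun i j => ?_
      exact Algebra.PreSubmersivePresentation.jacobiMatrix_naive (R := R) (v := F) I I.injective
        _ _ i j
    rw [h1, Matrix.det_transpose]
    rfl
  let Q := Algebra.PreSubmersivePresentation.localizationAway (Localization.Away gS) gS
  have hunit : IsUnit (Q.comp P₀).jacobian := by
    rw [Algebra.PreSubmersivePresentation.comp_jacobian_eq_jacobian_smul_jacobian,
      Algebra.PreSubmersivePresentation.localizationAway_jacobian, hjac, Algebra.smul_def]
    exact (IsLocalization.Away.algebraMap_isUnit gS).mul (IsLocalization.Away.algebraMap_isUnit gS)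
  let SP : Algebra.SubmersivePresentation R (Localization.Away gS) _ _ := ⟨Q.comp P₀, hunit⟩
  haveI : Algebra.IsStandardSmooth R (Localization.Away gS) := SP.isStandardSmooth
  haveI : Algebra.Smooth R (Localization.Away gS) := inferInstance
  haveI : Algebra.FinitePresentation R (Synt.RelGCIRing R n c F) :=
    P₀.toPresentation.finitePresentation_of_isFinite
  have h2 := (Algebra.basicOpen_subset_smoothLocus_iff_smooth (R := R)
    (A := Synt.RelGCIRing R n c F) (f := gS)).mpr inferInstance
  exact h2 (show (⟨q, inferInstance⟩ : PrimeSpectrum _) ∈ PrimeSpectrum.basicOpen gS from hI)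

theorem main (hF : Synt.IsRelGCI R n c F)
    (q : Ideal (Synt.RelGCIRing R n c F)) [q.IsPrime] :
    Algebra.IsSmoothAt R q ↔ ∃ I : Fin c ↪ Fin n,
      Ideal.Quotient.mk (Ideal.span (Set.range F))
        (Matrix.det (Matrix.of fun j i => MvPolynomial.pderiv (I i) (F j))) ∉ q :=
  ⟨exists_minor_notMem R n c F hF q, fun ⟨I, hI⟩ => isSmoothAt_of_minor_notMem R n c F q I hI⟩

end Conv

end Groth.Agent.Lib.R2H4.RelGCIJac
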