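import Mathlib
import Groth.Prelude.Def_Smoothing
import Groth.Agent.Lib.R2H4RelGCIJac

/-!
# Standard elements at smooth points (helper4, round 2)

For `A = R[x]/(f_1..f_m)` smooth at `q`: there is `a ∉ q`, a multiple of a Jacobian minor of `c` of the
relations, such that `a f_ℓ ∈ (chosen relations) + I²`.
-/

set_option autoImplicit false
set_option linter.style.haveILetI false
universe u

namespace Groth.Agent.Lib.R2H4.StdElt

section Split

open KaehlerDifferential TensorProduct Algebra.Extension

variable {R P' T : Type u} [CommRing R] [CommRing P'] [CommRing T] [Algebra R P'] [Algebra R T]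
  [Algebra P' T] [IsScalarTower R P' T]

/-- the extension of `T` given by a surjection from `P'` -/
noncomputable abbrev ext (hsurj : Function.Surjective (algebraMap P' T)) : Algebra.Extension.{u} R T :=
  { Ring := P', σ := Function.surjInv hsurj, algebraMap_σ := Function.surjInv_eq hsurj }

variable [IsLocalRing T]

theorem one_tmul_sum_eq_zero [Algebra.FormallySmooth R P'] [Algebra.FormallySmooth R T]
    (hsurj : Function.Surjective (algebraMap P' T)) {c n : ℕ} (f : Fin c → P')
    (hf : ∀ j, f j ∈ RingHom.ker (algebraMap P' T))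
    (y : Fin n → P') (g : Fin n → Fin c → P')
    (hD : ∀ j, D R P' (f j) = ∑ i, g i j • D R P' (y i))
    (a : Fin c → T)
    (ha : ∀ i, ∑ j, a j * algebraMap P' T (g i j) ∈ IsLocalRing.maximalIdeal T) :
    (1 : IsLocalRing.ResidueField T) ⊗ₜ[T]
      (∑ j, a j • Cotangent.mk (⟨f j, hf j⟩ : (ext (R := R) hsurj).ker) :
        (ext (R := R) hsurj).Cotangent) = 0 := by
  let E : Algebra.Extension.{u} R T := ext hsurj
  haveI : Algebra.FormallySmooth R E.Ring := ‹Algebra.FormallySmooth R P'›
  obtain ⟨l, hl⟩ := E.formallySmooth_iff_split_injection.mp inferInstance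
  let fk : Fin c → E.ker := fun j => ⟨f j, hf j⟩
  let m : Fin n → T := fun i => ∑ j, a j * algebraMap P' T (g i j)
  let z : E.Cotangent := ∑ j, a j • Cotangent.mk (fk j)
  have hdz : E.cotangentComplex z = ∑ i, m i • ((1 : T) ⊗ₜ[P'] D R P' (y i)) := by
    have h1 : ∀ j, E.cotangentComplex (Cotangent.mk (fk j)) =
        ∑ i, algebraMap P' T (g i j) • ((1 : T) ⊗ₜ[P'] D R P' (y i)) := by
      intro j
      rw [cotangentComplex_mk]
      change (1 : T) ⊗ₜ[P'] D R P' (f j) = _
      rw [hD j, TensorProduct.tmul_sum]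
      refine Finset.sum_congr rfl fun i _ => ?_
      rw [TensorProduct.tmul_smul, algebraMap_smul]
    change E.cotangentComplex (∑ j, a j • Cotangent.mk (fk j)) = _
    rw [map_sum]
    simp_rw [map_smul, h1, Finset.smul_sum, smul_smul]
    rw [Finset.sum_comm]
    simp_rw [← Finset.sum_smul]
    rfl
  have hz' : z = ∑ i, m i • l ((1 : T) ⊗ₜ[P'] D R P' (y i)) := by
    have h1 : l (E.cotangentComplex z) = z := by
      have := congrArg (fun φ => φ z) hl
      simpa using this
    rw [← h1, hdz, map_sum]
    simp_rw [map_smul]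
  change (1 : IsLocalRing.ResidueField T) ⊗ₜ[T] z = 0
  rw [hz', TensorProduct.tmul_sum]
  refine Finset.sum_eq_zero fun i _ => ?_
  rw [TensorProduct.tmul_smul, TensorProduct.smul_tmul', Algebra.smul_def, mul_one]
  have h2 : algebraMap T (IsLocalRing.ResidueField T) (m i) = 0 :=
    (IsLocalRing.residue_eq_zero_iff _).mpr (ha i)
  rw [h2, TensorProduct.zero_tmul]

end Split

open KaehlerDifferential TensorProduct Algebra.Extension Groth.Agent.Lib.R2H4.RelGCIJac

theorem main {R A : Type u} [CommRing R] [CommRing A] [Algebra R A] {n m : ℕ}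
    (f : Fin m → MvPolynomial (Fin n) R) (φ : MvPolynomial (Fin n) R →ₐ[R] A)
    (hφ : Function.Surjective φ)
    (hker : RingHom.ker φ.toRingHom = Ideal.span (Set.range f)) (q : Ideal A) [q.IsPrime]
    [hsm : Algebra.IsSmoothAt R q] :
    ∃ a : A, a ∉ q ∧ ∃ (c : ℕ) (rows : Fin c ↪ Fin m) (cols : Fin c ↪ Fin n) (a' : A),
      a = a' * φ (Smoothing.jacobianMinor f rows cols) ∧
      ∀ a₁ : MvPolynomial (Fin n) R, φ a₁ = a → ∀ ℓ : Fin m,
        a₁ * f ℓ ∈ Ideal.span (Set.range (f ∘ rows)) ⊔ Ideal.span (Set.range f) ^ 2 := by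
  classical
  let φr : MvPolynomial (Fin n) R →+* A := φ.toRingHom
  let q' : Ideal (MvPolynomial (Fin n) R) := q.comap φr
  haveI : q'.IsPrime := Ideal.comap_isPrime φr q
  let Φ : Localization.AtPrime q' →+* Localization.AtPrime q :=
    Localization.localRingHom q' q φr rfl
  letI : Algebra (Localization.AtPrime q') (Localization.AtPrime q) := Φ.toAlgebra
  haveI : IsScalarTower R (Localization.AtPrime q') (Localization.AtPrime q) :=
    IsScalarTower.of_algebraMap_eq fun r => by
      change _ = Φ _
      rw [IsScalarTower.algebraMap_apply R (MvPolynomial (Fin n) R) (Localization.AtPrime q'),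
        Localization.localRingHom_to_map,
        IsScalarTower.algebraMap_apply R A (Localization.AtPrime q)]
      congr 1
      exact (φ.commutes r).symm
  haveI : Algebra.FormallySmooth (MvPolynomial (Fin n) R) (Localization.AtPrime q') :=
    Algebra.FormallySmooth.of_isLocalization q'.primeCompl
  haveI : Algebra.FormallySmooth R (Localization.AtPrime q') :=
    Algebra.FormallySmooth.comp R (MvPolynomial (Fin n) R) (Localization.AtPrime q')
  haveI : Algebra.FormallySmooth R (Localization.AtPrime q) := hsm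
  have hsurj : Function.Surjective
      (algebraMap (Localization.AtPrime q') (Localization.AtPrime q)) :=
    Groth.Agent.Lib.Helper6.OmProj.localRingHom_surjective φr hφ q q' rfl
  let fl : Fin m → Localization.AtPrime q' := fun j =>
    algebraMap (MvPolynomial (Fin n) R) (Localization.AtPrime q') (f j)
  have hkerΦ : RingHom.ker (algebraMap (Localization.AtPrime q') (Localization.AtPrime q)) =
      Ideal.span (Set.range fl) := by
    have h1 := Groth.Agent.Lib.H9RegImmPres.ker_localRingHom φr hφ q q' rfl
    change RingHom.ker Φ = _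
    rw [h1, hker, Ideal.map_span, ← Set.range_comp]
    rfl
  have hfl : ∀ j, fl j ∈ RingHom.ker
      (algebraMap (Localization.AtPrime q') (Localization.AtPrime q)) := fun j => by
    rw [hkerΦ]; exact Ideal.subset_span ⟨j, rfl⟩
  let E : Algebra.Extension.{u} R (Localization.AtPrime q) := ext (R := R) hsurj
  let mk' : Fin m → E.Cotangent := fun j => Cotangent.mk (⟨fl j, hfl j⟩ : E.ker)
  have hspanE : Submodule.span (Localization.AtPrime q) (Set.range mk') = ⊤ :=
    Cotangent.span_eq_top_of_span_eq_ker (P := E) fl hkerΦ.symm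
  haveI : Module.Finite (Localization.AtPrime q) E.Cotangent :=
    ⟨hspanE ▸ Submodule.fg_span (Set.finite_range mk')⟩
  let u : Fin m → IsLocalRing.ResidueField (Localization.AtPrime q) ⊗[Localization.AtPrime q]
      E.Cotangent := fun j => 1 ⊗ₜ mk' j
  have huspan : Submodule.span (IsLocalRing.ResidueField (Localization.AtPrime q))
      (Set.range u) = ⊤ := by
    rw [eq_top_iff]
    rintro z -
    induction z with
    | zero => exact Submodule.zero_mem _
    | add x y hx hy => exact Submodule.add_mem _ hx hy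
    | tmul x w =>
      have hw : w ∈ Submodule.span (Localization.AtPrime q) (Set.range mk') := hspanE ▸ trivial
      rw [Submodule.mem_span_range_iff_exists_fun] at hw
      obtain ⟨t, rfl⟩ := hw
      rw [TensorProduct.tmul_sum]
      refine Submodule.sum_mem _ fun j _ => ?_
      have h1 : x ⊗ₜ[Localization.AtPrime q] (t j • mk' j) =
          (x * algebraMap _ _ (t j)) • u j := by
        rw [TensorProduct.tmul_smul, TensorProduct.smul_tmul', TensorProduct.smul_tmul',
          smul_eq_mul, mul_one, Algebra.smul_def, mul_comm]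
      rw [h1]
      exact Submodule.smul_mem _ _ (Submodule.subset_span ⟨j, rfl⟩)
  obtain ⟨ι, r0, hr0, hsp, hli⟩ := exists_linearIndependent'
    (IsLocalRing.ResidueField (Localization.AtPrime q)) u
  haveI : Finite ι := Finite.of_injective r0 hr0
  haveI : Fintype ι := Fintype.ofFinite ι
  let e : Fin (Fintype.card ι) ≃ ι := (Fintype.equivFin ι).symm
  let rows : Fin (Fintype.card ι) ↪ Fin m := ⟨r0 ∘ e, hr0.comp e.injective⟩
  have hli' : LinearIndependent (IsLocalRing.ResidueField (Localization.AtPrime q))
      (u ∘ rows) := hli.comp e e.injective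
  have hsp' : Submodule.span (IsLocalRing.ResidueField (Localization.AtPrime q))
      (Set.range (u ∘ rows)) = ⊤ := by
    have h1 : Set.range (u ∘ rows) = Set.range (u ∘ r0) := by
      change Set.range ((u ∘ r0) ∘ e) = _
      exact e.surjective.range_comp _
    rw [h1, hsp, huspan]
  let b : Module.Basis (Fin (Fintype.card ι)) (IsLocalRing.ResidueField (Localization.AtPrime q))
      (IsLocalRing.ResidueField (Localization.AtPrime q) ⊗[Localization.AtPrime q] E.Cotangent) :=
    Module.Basis.mk hli' hsp'.ge
  have hspanRows : Submodule.span (Localization.AtPrime q) (Set.range (mk' ∘ rows)) = ⊤ :=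
    IsLocalRing.span_eq_top_of_tmul_eq_basis (mk' ∘ rows) b (fun i => by
      rw [Module.Basis.mk_apply]
      rfl)
  let J : Ideal (MvPolynomial (Fin n) R) :=
    Ideal.span (Set.range (f ∘ rows)) ⊔ Ideal.span (Set.range f) ^ 2
  have hJmap : J.map (algebraMap (MvPolynomial (Fin n) R) (Localization.AtPrime q')) =
      Ideal.span (Set.range (fl ∘ rows)) ⊔ Ideal.span (Set.range fl) ^ 2 := by
    rw [Ideal.map_sup, Ideal.map_pow, Ideal.map_span, Ideal.map_span, ← Set.range_comp,
      ← Set.range_comp]
    rfl
  have hJ : ∀ ℓ, ∃ s ∈ q'.primeCompl, s * f ℓ ∈ J := by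
    intro ℓ
    rw [← IsLocalization.algebraMap_mem_map_algebraMap_iff q'.primeCompl
      (Localization.AtPrime q'), hJmap]
    have h1 : mk' ℓ ∈ Submodule.span (Localization.AtPrime q) (Set.range (mk' ∘ rows)) :=
      hspanRows ▸ trivial
    rw [Submodule.mem_span_range_iff_exists_fun] at h1
    obtain ⟨t, ht⟩ := h1
    choose b' hb' using fun j => hsurj (t j)
    have h2 : Cotangent.mk ((⟨fl ℓ, hfl ℓ⟩ : E.ker) -
        ∑ j, b' j • (⟨fl (rows j), hfl _⟩ : E.ker)) = 0 := by
      rw [map_sub, map_sum, sub_eq_zero]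
      refine ht.symm.trans (Finset.sum_congr rfl fun j _ => ?_)
      rw [map_smul, ← hb' j, algebraMap_smul]
      rfl
    rw [Cotangent.mk_eq_zero_iff] at h2
    have h3 : fl ℓ - ∑ j, b' j * fl (rows j) ∈ Ideal.span (Set.range fl) ^ 2 := by
      rw [← hkerΦ]
      have h4 : (((⟨fl ℓ, hfl ℓ⟩ : E.ker) -
          ∑ j, b' j • (⟨fl (rows j), hfl _⟩ : E.ker) : E.ker) : E.Ring) =
          fl ℓ - ∑ j, b' j * fl (rows j) := by
        simp
      rw [← h4]
      exact h2
    have h5 : algebraMap (MvPolynomial (Fin n) R) (Localization.AtPrime q') (f ℓ) =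
        (fl ℓ - ∑ j, b' j * fl (rows j)) + ∑ j, b' j * fl (rows j) := by
      rw [sub_add_cancel]
    rw [h5]
    exact Ideal.add_mem _ (Ideal.mem_sup_right h3) (Ideal.mem_sup_left
      (Ideal.sum_mem _ fun j _ => Ideal.mul_mem_left _ _ (Ideal.subset_span ⟨j, rfl⟩)))
  choose s hs hsJ using hJ
  let a₀ : MvPolynomial (Fin n) R := ∏ ℓ, s ℓ
  have ha₀ : a₀ ∉ q' := by
    intro hmem
    obtain ⟨ℓ, -, hℓ⟩ := Ideal.IsPrime.prod_mem_iff.mp hmem
    exact hs ℓ hℓ
  have ha₀J : ∀ ℓ, a₀ * f ℓ ∈ J := by
    intro ℓ
    have h1 : a₀ = (∏ ℓ' ∈ Finset.univ.erase ℓ, s ℓ') * s ℓ := by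
      rw [mul_comm]
      exact (Finset.mul_prod_erase Finset.univ s (Finset.mem_univ ℓ)).symm
    rw [h1, mul_assoc]
    exact J.mul_mem_left _ (hsJ ℓ)
  -- the Jacobian minor
  let y : Fin n → Localization.AtPrime q' := fun i =>
    algebraMap (MvPolynomial (Fin n) R) (Localization.AtPrime q') (MvPolynomial.X i)
  let g : Fin n → Fin (Fintype.card ι) → Localization.AtPrime q' := fun i j =>
    algebraMap (MvPolynomial (Fin n) R) (Localization.AtPrime q')
      (MvPolynomial.pderiv i (f (rows j)))
  have hD : ∀ j, D R (Localization.AtPrime q') ((fl ∘ rows) j) =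
      ∑ i, g i j • D R (Localization.AtPrime q') (y i) := fun j =>
    D_algebraMap_eq_sum R (f (rows j))
  let ψ : MvPolynomial (Fin n) R →+* IsLocalRing.ResidueField (Localization.AtPrime q) :=
    ((IsLocalRing.residue (Localization.AtPrime q)).comp
      (algebraMap A (Localization.AtPrime q))).comp φr
  let M : Matrix (Fin n) (Fin (Fintype.card ι))
      (IsLocalRing.ResidueField (Localization.AtPrime q)) :=
    fun i j => ψ (MvPolynomial.pderiv i (f (rows j)))
  have hgφ : ∀ i j, algebraMap (Localization.AtPrime q') (Localization.AtPrime q) (g i j) =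
      algebraMap A (Localization.AtPrime q) (φr (MvPolynomial.pderiv i (f (rows j)))) :=
    fun i j => Localization.localRingHom_to_map q' q φr rfl _
  have hM : ∀ v : Fin (Fintype.card ι) → IsLocalRing.ResidueField (Localization.AtPrime q),
      M.mulVec v = 0 → v = 0 := by
    intro v hv
    choose a ha using fun j => IsLocalRing.residue_surjective (v j)
    have key := one_tmul_sum_eq_zero (R := R) hsurj (fl ∘ rows) (fun j => hfl (rows j)) y g hD a
      (by
        intro i
        refine (IsLocalRing.residue_eq_zero_iff _).mp ?_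
        rw [map_sum]
        have h1 := congrFun hv i
        simp only [Matrix.mulVec, dotProduct, Pi.zero_apply] at h1
        rw [← h1]
        refine Finset.sum_congr rfl fun j _ => ?_
        rw [map_mul, ha j, hgφ, mul_comm]
        rfl)
    rw [Fintype.linearIndependent_iff] at hli'
    refine funext fun j => hli' v ?_ j
    rw [← key, TensorProduct.tmul_sum]
    refine Finset.sum_congr rfl fun j _ => ?_
    rw [TensorProduct.tmul_smul, TensorProduct.smul_tmul', Algebra.smul_def, mul_one, ← ha j]
    change (IsLocalRing.residue _ (a j)) •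
      ((1 : IsLocalRing.ResidueField (Localization.AtPrime q)) ⊗ₜ[Localization.AtPrime q]
        mk' (rows j)) = _
    rw [TensorProduct.smul_tmul', smul_eq_mul, mul_one]
    rfl
  obtain ⟨cols, hcols⟩ := exists_minor_ne_zero M hM
  have hminor : φ (Smoothing.jacobianMinor f rows cols) ∉ q := by
    intro hmem
    apply hcols
    have h1 : M.submatrix cols id = (ψ.mapMatrix
        (Matrix.of fun j i => MvPolynomial.pderiv (cols i) (f (rows j)))).transpose := by
      ext i j
      rfl
    rw [h1, Matrix.det_transpose, ← RingHom.map_det]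
    change IsLocalRing.residue _ (algebraMap A _ (φ (Smoothing.jacobianMinor f rows cols))) = 0
    refine (IsLocalRing.residue_eq_zero_iff _).mpr ?_
    rw [IsLocalization.AtPrime.to_map_mem_maximal_iff (Localization.AtPrime q) q]
    exact hmem
  have ha₀q : φ a₀ ∉ q := ha₀
  refine ⟨φ a₀ * φ (Smoothing.jacobianMinor f rows cols),
    fun hmem => (Ideal.IsPrime.mem_or_mem inferInstance hmem).elim ha₀q hminor,
    Fintype.card ι, rows, cols, φ a₀, rfl, ?_⟩
  intro a₁ ha₁ ℓ
  have h1 : a₁ - a₀ * Smoothing.jacobianMinor f rows cols ∈ Ideal.span (Set.range f) := by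
    rw [← hker]
    change φ _ = 0
    rw [map_sub, map_mul, ha₁, sub_self]
  have h2 : a₁ * f ℓ = (a₁ - a₀ * Smoothing.jacobianMinor f rows cols) * f ℓ +
      Smoothing.jacobianMinor f rows cols * (a₀ * f ℓ) := by ring
  rw [h2]
  refine Ideal.add_mem _ (Ideal.mem_sup_right ?_) (Ideal.mul_mem_left _ _ (ha₀J ℓ))
  rw [pow_two]
  exact Ideal.mul_mem_mul h1 (Ideal.subset_span ⟨ℓ, rfl⟩)

end Groth.Agent.Lib.R2H4.StdElt
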