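import Mathlib
import Groth.Prelude.Def_Smoothing
import Groth.Agent.Lib.R2H4StdElt

/-!
# Singular ideal = radical of the ideal of standard elements (helper4, round 2)

* `formallySmooth_of_surjective_of_mul_le_sq`: transfer of smoothness at a prime along a surjection
  whose kernel `N` satisfies `b N ⊆ N²`.
* `isSmoothAt_of_isStrictlyStandard`: a strictly standard element not in `q` forces smoothness at `q`.
* `isElementaryStandard_of_rows_cols`: reindexing the output of `StdElt.main` to leading rows/cols.
* `exists_isElementaryStandard_notMem`: at a smooth prime there is an elementary standard element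
  outside it.
* `main`: `singularIdeal = radical (span strictly standard) = radical (span elementary standard)`.
-/

set_option autoImplicit false
set_option linter.style.haveILetI false
universe u

namespace Groth.Agent.Lib.R2H4.SingStd

open Groth.Agent.Lib.R2H4.RelGCIJac
open MvPolynomial



section Transfer

variable {R B A : Type u} [CommRing R] [CommRing B] [CommRing A] [Algebra R B] [Algebra R A]

/-- Formal smoothness at a prime passes along a surjection whose kernel `N` satisfies `b N ⊆ N²`
for some `b` not in the prime. -/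
theorem formallySmooth_of_surjective_of_mul_le_sq (π : B →ₐ[R] A) (hπ : Function.Surjective π)
    (q : Ideal A) [q.IsPrime] (hfg : (RingHom.ker π.toRingHom).FG) (b : B) (hb : π b ∉ q)
    (hbN : ∀ x ∈ RingHom.ker π.toRingHom, b * x ∈ (RingHom.ker π.toRingHom) ^ 2)
    (qB : Ideal B) [qB.IsPrime] (hqB : qB = q.comap π.toRingHom)
    (h : Algebra.FormallySmooth R (Localization.AtPrime qB)) :
    Algebra.FormallySmooth R (Localization.AtPrime q) := by
  let Φ : Localization.AtPrime qB →+* Localization.AtPrime q :=
    Localization.localRingHom qB q π.toRingHom hqB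
  have hsurj : Function.Surjective Φ :=
    Groth.Agent.Lib.Helper6.OmProj.localRingHom_surjective π.toRingHom hπ q qB hqB
  have hker : RingHom.ker Φ = (RingHom.ker π.toRingHom).map
      (algebraMap B (Localization.AtPrime qB)) :=
    Groth.Agent.Lib.H9RegImmPres.ker_localRingHom π.toRingHom hπ q qB hqB
  have hbq : b ∈ qB.primeCompl := by
    intro hmem
    rw [hqB] at hmem
    exact hb hmem
  have hunit : IsUnit (algebraMap B (Localization.AtPrime qB) b) :=
    IsLocalization.map_units (Localization.AtPrime qB) (⟨b, hbq⟩ : qB.primeCompl)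
  have hle : (RingHom.ker π.toRingHom).map (algebraMap B (Localization.AtPrime qB)) ≤
      (RingHom.ker π.toRingHom).map (algebraMap B (Localization.AtPrime qB)) •
        (RingHom.ker π.toRingHom).map (algebraMap B (Localization.AtPrime qB)) := by
    rw [Ideal.map_le_iff_le_comap]
    intro x hx
    rw [Ideal.mem_comap, smul_eq_mul, ← pow_two, ← Ideal.map_pow]
    have h1 := Ideal.mem_map_of_mem (algebraMap B (Localization.AtPrime qB)) (hbN x hx)
    rw [map_mul] at h1
    exact (Ideal.unit_mul_mem_iff_mem _ hunit).mp h1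
  have hjac : (RingHom.ker π.toRingHom).map (algebraMap B (Localization.AtPrime qB)) ≤
      Ideal.jacobson ⊥ := by
    rw [IsLocalRing.jacobson_eq_maximalIdeal ⊥ bot_ne_top, ← hker]
    apply IsLocalRing.le_maximalIdeal
    exact RingHom.ker_ne_top Φ
  have hbot : (RingHom.ker π.toRingHom).map (algebraMap B (Localization.AtPrime qB)) = ⊥ :=
    Submodule.eq_bot_of_le_smul_of_le_jacobson_bot _ _ (hfg.map _) hle hjac
  have hinj : Function.Injective Φ := by
    rw [RingHom.injective_iff_ker_eq_bot, hker, hbot]
  let Φa : Localization.AtPrime qB →ₐ[R] Localization.AtPrime q :=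
    { Φ with
      commutes' := fun r => by
        change Φ _ = _
        rw [IsScalarTower.algebraMap_apply R B (Localization.AtPrime qB),
          Localization.localRingHom_to_map,
          IsScalarTower.algebraMap_apply R A (Localization.AtPrime q)]
        congr 1
        exact π.commutes r }
  let e : Localization.AtPrime qB ≃ₐ[R] Localization.AtPrime q :=
    AlgEquiv.ofBijective Φa ⟨hinj, hsurj⟩
  exact Algebra.FormallySmooth.of_equiv e

end Transfer




theorem isSmoothAt_of_isStrictlyStandard {R A : Type u} [CommRing R] [CommRing A] [Algebra R A]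
    (a : A) (ha : Smoothing.IsStrictlyStandard R A a) (q : Ideal A) [q.IsPrime] (haq : a ∉ q) :
    Algebra.IsSmoothAt R q := by
  classical
  obtain ⟨P, hspan, hkt⟩ := ha
  obtain ⟨cols, hcols⟩ : ∃ cols : Fin P.c → Fin P.n,
      P.hom (Smoothing.jacobianMinor P.rel (Fin.castLE P.hcm) cols) ∉ q := by
    by_contra hcon
    push Not at hcon
    exact haq ((Ideal.span_le.mpr (by rintro _ ⟨cols, rfl⟩; exact hcon cols)) hspan)
  have hinj : Function.Injective cols := by
    by_contra hni
    rw [Function.Injective] at hni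
    push Not at hni
    obtain ⟨i, j, hij, hne⟩ := hni
    apply hcols
    have h0 : Smoothing.jacobianMinor P.rel (Fin.castLE P.hcm) cols = 0 := by
      unfold Smoothing.jacobianMinor
      exact Matrix.det_zero_of_column_eq hne (fun k => by simp [hij])
    rw [h0, map_zero]
    exact q.zero_mem
  let F : Fin P.c → MvPolynomial (Fin P.n) R := fun j => P.rel (Fin.castLE P.hcm j)
  have hFker : ∀ x ∈ Ideal.span (Set.range F), P.hom x = 0 := by
    intro x hx
    have h1 : Ideal.span (Set.range F) ≤ RingHom.ker P.hom.toRingHom := by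
      rw [Ideal.span_le, P.ker_eq]
      rintro _ ⟨j, rfl⟩
      exact Ideal.subset_span ⟨_, rfl⟩
    exact h1 hx
  let π : Synt.RelGCIRing R P.n P.c F →ₐ[R] A :=
    Ideal.Quotient.liftₐ (Ideal.span (Set.range F)) P.hom hFker
  have hπ : Function.Surjective π :=
    Ideal.Quotient.lift_surjective_of_surjective _ _ P.surj
  have hkerπ : RingHom.ker π.toRingHom =
      (Ideal.span (Set.range P.rel)).map (Ideal.Quotient.mk (Ideal.span (Set.range F))) := by
    ext x
    obtain ⟨y, rfl⟩ := Ideal.Quotient.mk_surjective x
    rw [Ideal.mem_map_iff_of_surjective _ Ideal.Quotient.mk_surjective]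
    constructor
    · intro hx
      refine ⟨y, ?_, rfl⟩
      rw [← P.ker_eq]
      exact hx
    · rintro ⟨z, hz, hzy⟩
      have h1 : P.hom z = 0 := by
        rw [← P.ker_eq] at hz
        exact hz
      change π (Ideal.Quotient.mk _ y) = 0
      rw [← hzy]
      exact h1
  obtain ⟨ã, hã⟩ := P.surj a
  have hmul : ∀ y ∈ Ideal.span (Set.range P.rel),
      ã * y ∈ Ideal.span (Set.range F) ⊔ Ideal.span (Set.range P.rel) ^ 2 := by
    intro y hy
    induction hy using Submodule.span_induction with
    | mem y hy =>
      obtain ⟨j, rfl⟩ := hy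
      by_cases hj : (j : ℕ) < P.c
      · refine Ideal.mul_mem_left _ _ (Ideal.mem_sup_left (Ideal.subset_span ⟨⟨j, hj⟩, ?_⟩))
        change P.rel _ = P.rel j
        congr 1
      · have h1 := hkt ã hã j (not_lt.mp hj)
        have h2 : Ideal.span (P.rel '' {j' : Fin P.m | (j' : ℕ) < P.c}) ≤
            Ideal.span (Set.range F) := by
          rw [Ideal.span_le]
          rintro _ ⟨j', hj', rfl⟩
          refine Ideal.subset_span ⟨⟨j', hj'⟩, ?_⟩
          change P.rel _ = P.rel j'
          congr 1
        exact (sup_le_sup_right h2 _) h1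
    | zero => rw [mul_zero]; exact Ideal.zero_mem _
    | add x y _ _ hx hy => rw [mul_add]; exact Ideal.add_mem _ hx hy
    | smul r x _ hx =>
      rw [smul_eq_mul, mul_left_comm]
      exact Ideal.mul_mem_left _ _ hx
  have hbN : ∀ x ∈ RingHom.ker π.toRingHom,
      Ideal.Quotient.mk (Ideal.span (Set.range F)) ã * x ∈ (RingHom.ker π.toRingHom) ^ 2 := by
    rw [hkerπ]
    intro x hx
    obtain ⟨y, hy, rfl⟩ := (Ideal.mem_map_iff_of_surjective _ Ideal.Quotient.mk_surjective).mp hx
    rw [← map_mul, ← Ideal.map_pow]
    have h1 := Ideal.mem_map_of_mem (Ideal.Quotient.mk (Ideal.span (Set.range F))) (hmul y hy)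
    rw [Ideal.map_sup] at h1
    have h2 : (Ideal.span (Set.range F)).map (Ideal.Quotient.mk (Ideal.span (Set.range F))) = ⊥ :=
      Ideal.map_quotient_self _
    rw [h2, bot_sup_eq] at h1
    exact h1
  have hfg : (RingHom.ker π.toRingHom).FG := by
    rw [hkerπ]
    have h1 : (Ideal.span (Set.range P.rel)).FG := ⟨(Set.finite_range P.rel).toFinset, by simp⟩
    exact h1.map _
  have hπã : π (Ideal.Quotient.mk (Ideal.span (Set.range F)) ã) ∉ q := by
    change P.hom ã ∉ q
    rw [hã]
    exact haq
  let qB : Ideal (Synt.RelGCIRing R P.n P.c F) := q.comap π.toRingHom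
  haveI : qB.IsPrime := Ideal.comap_isPrime π.toRingHom q
  have hsmB : Algebra.IsSmoothAt R qB := by
    refine isSmoothAt_of_minor_notMem R P.n P.c F qB ⟨cols, hinj⟩ ?_
    change π _ ∉ q
    exact hcols
  exact formallySmooth_of_surjective_of_mul_le_sq π hπ q hfg _ hπã hbN qB rfl hsmB




theorem exists_perm_castLE {c m : ℕ} (h : c ≤ m) (r : Fin c ↪ Fin m) :
    ∃ σ : Equiv.Perm (Fin m), ∀ j, σ (Fin.castLE h j) = r j := by
  classical
  let e : {x // x ∈ Set.range (Fin.castLE h)} ≃ {x // x ∈ Set.range r} :=
    (Equiv.ofInjective (Fin.castLE h) (Fin.castLE_injective h)).symm.trans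
      (Equiv.ofInjective r r.injective)
  refine ⟨e.extendSubtype, fun j => ?_⟩
  rw [Equiv.extendSubtype_apply_of_mem e _ (⟨j, rfl⟩ : Fin.castLE h j ∈ Set.range (Fin.castLE h))]
  have h1 : (Equiv.ofInjective (Fin.castLE h) (Fin.castLE_injective h)).symm
      ⟨Fin.castLE h j, ⟨j, rfl⟩⟩ = j := by
    rw [Equiv.symm_apply_eq]
    rfl
  simp only [e, Equiv.trans_apply, h1]
  rfl

/-- Reindexing: a "standard element" with respect to arbitrary rows and columns is elementary
standard. -/
theorem isElementaryStandard_of_rows_cols {R A : Type u} [CommRing R] [CommRing A] [Algebra R A]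
    {n m c : ℕ} (f : Fin m → MvPolynomial (Fin n) R) (φ : MvPolynomial (Fin n) R →ₐ[R] A)
    (hφ : Function.Surjective φ) (hker : RingHom.ker φ.toRingHom = Ideal.span (Set.range f))
    (rows : Fin c ↪ Fin m) (cols : Fin c ↪ Fin n) (a a' : A)
    (ha : a = a' * φ (Smoothing.jacobianMinor f rows cols))
    (hkill : ∀ a₁ : MvPolynomial (Fin n) R, φ a₁ = a → ∀ ℓ : Fin m,
      a₁ * f ℓ ∈ Ideal.span (Set.range (f ∘ rows)) ⊔ Ideal.span (Set.range f) ^ 2) :
    Smoothing.IsElementaryStandard R A a := by
  classical
  have hcm : c ≤ m := by simpa using Fintype.card_le_of_embedding rows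
  have hcn : c ≤ n := by simpa using Fintype.card_le_of_embedding cols
  obtain ⟨σ, hσ⟩ := exists_perm_castLE hcm rows
  obtain ⟨τ, hτ⟩ := exists_perm_castLE hcn cols
  let ρ : Equiv.Perm (Fin n) := τ.symm
  have hρτ : ∀ p : MvPolynomial (Fin n) R, rename τ (rename ρ p) = p := by
    intro p
    rw [rename_rename]
    have : (τ : Fin n → Fin n) ∘ (ρ : Fin n → Fin n) = id := by
      ext x; simp [ρ]
    rw [this, rename_id_apply]
  have hτρ : ∀ p : MvPolynomial (Fin n) R, rename ρ (rename τ p) = p := by
    intro p
    rw [rename_rename]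
    have : (ρ : Fin n → Fin n) ∘ (τ : Fin n → Fin n) = id := by
      ext x; simp [ρ]
    rw [this, rename_id_apply]
  let rel' : Fin m → MvPolynomial (Fin n) R := fun j => rename ρ (f (σ j))
  let hom' : MvPolynomial (Fin n) R →ₐ[R] A := φ.comp (rename τ)
  have hrange : Set.range rel' = (rename ρ : MvPolynomial (Fin n) R → _) '' Set.range f := by
    ext x
    constructor
    · rintro ⟨j, rfl⟩
      exact ⟨f (σ j), ⟨σ j, rfl⟩, rfl⟩
    · rintro ⟨_, ⟨j, rfl⟩, rfl⟩
      exact ⟨σ.symm j, by simp [rel']⟩
  have hspan' : Ideal.span (Set.range rel') =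
      (Ideal.span (Set.range f)).map (rename ρ : MvPolynomial (Fin n) R →ₐ[R] _).toRingHom := by
    rw [Ideal.map_span, hrange]
    rfl
  have hker' : RingHom.ker hom'.toRingHom = Ideal.span (Set.range rel') := by
    rw [hspan']
    ext x
    constructor
    · intro hx
      have h1 : rename τ x ∈ Ideal.span (Set.range f) := by
        rw [← hker]
        exact hx
      have h2 := Ideal.mem_map_of_mem (rename ρ : MvPolynomial (Fin n) R →ₐ[R] _).toRingHom h1
      change rename ρ (rename τ x) ∈ _ at h2
      rwa [hτρ] at h2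
    · intro hx
      have h1 : Ideal.map (rename ρ : MvPolynomial (Fin n) R →ₐ[R] _).toRingHom
          (Ideal.span (Set.range f)) ≤ RingHom.ker hom'.toRingHom := by
        rw [Ideal.map_le_iff_le_comap]
        intro y hy
        rw [← hker] at hy
        change φ (rename τ (rename ρ y)) = 0
        rw [hρτ]
        exact hy
      exact h1 hx
  let P : Smoothing.MarkedPresentation R A :=
    { n := n, m := m, c := c, hcn := hcn, hcm := hcm, rel := rel', hom := hom'
      surj := fun x => by
        obtain ⟨y, rfl⟩ := hφ x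
        exact ⟨rename ρ y, by change φ (rename τ (rename ρ y)) = _; rw [hρτ]⟩
      ker_eq := hker' }
  have hminor : Smoothing.jacobianMinor rel' (Fin.castLE hcm) (Fin.castLE hcn) =
      rename ρ (Smoothing.jacobianMinor f rows cols) := by
    unfold Smoothing.jacobianMinor
    rw [AlgHom.map_det]
    congr 1
    refine Matrix.ext fun j k => ?_
    change pderiv (Fin.castLE hcn k) (rename ρ (f (σ (Fin.castLE hcm j)))) =
      rename ρ (pderiv (cols k) (f (rows j)))
    rw [hσ, ← pderiv_rename ρ.injective]
    congr 2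
    rw [← hτ k]
    simp [ρ]
  refine ⟨P, ⟨a', ?_⟩, ?_⟩
  · change a = a' * hom' (Smoothing.jacobianMinor rel' (Fin.castLE hcm) (Fin.castLE hcn))
    rw [hminor]
    change a = a' * φ (rename τ (rename ρ _))
    rw [hρτ]
    exact ha
  · intro a'' ha'' j _
    change a'' * rel' j ∈ Ideal.span (rel' '' {j' : Fin m | (j' : ℕ) < c}) ⊔
      Ideal.span (Set.range rel') ^ 2
    have h1 := hkill (rename τ a'') ha'' (σ j)
    have h2 := Ideal.mem_map_of_mem (rename ρ : MvPolynomial (Fin n) R →ₐ[R] _).toRingHom h1
    rw [Ideal.map_sup, Ideal.map_pow, ← hspan'] at h2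
    have h3 : (rename ρ : MvPolynomial (Fin n) R →ₐ[R] _).toRingHom (rename τ a'' * f (σ j)) =
        a'' * rel' j := by
      change rename ρ (rename τ a'' * f (σ j)) = _
      rw [map_mul, hτρ]
    rw [h3] at h2
    have h4 : Ideal.map (rename ρ : MvPolynomial (Fin n) R →ₐ[R] _).toRingHom
        (Ideal.span (Set.range (f ∘ rows))) ≤
        Ideal.span (rel' '' {j' : Fin m | (j' : ℕ) < c}) := by
      rw [Ideal.map_span, Ideal.span_le]
      rintro _ ⟨_, ⟨i, rfl⟩, rfl⟩
      refine Ideal.subset_span ⟨Fin.castLE hcm i, ?_, ?_⟩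
      · change ((Fin.castLE hcm i : Fin m) : ℕ) < c
        simp
      · change rename ρ (f (σ (Fin.castLE hcm i))) = rename ρ (f (rows i))
        rw [hσ]
    exact (sup_le_sup_right h4 _) h2




theorem exists_isElementaryStandard_notMem {R A : Type u} [CommRing R] [CommRing A] [Algebra R A]
    [Algebra.FinitePresentation R A] (q : Ideal A) [q.IsPrime] [Algebra.IsSmoothAt R q] :
    ∃ a : A, a ∉ q ∧ Smoothing.IsElementaryStandard R A a := by
  obtain ⟨n, φ, hφ, hfg⟩ := Algebra.FinitePresentation.out (R := R) (A := A)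
  obtain ⟨m, f, hf⟩ := Submodule.fg_iff_exists_fin_generating_family.mp hfg
  have hker : RingHom.ker φ.toRingHom = Ideal.span (Set.range f) := hf.symm
  obtain ⟨a, haq, c, rows, cols, a', ha, hkill⟩ := StdElt.main f φ hφ hker q
  exact ⟨a, haq, isElementaryStandard_of_rows_cols f φ hφ hker rows cols a a' ha hkill⟩

theorem isStrictlyStandard_of_isElementaryStandard {R A : Type u} [CommRing R] [CommRing A]
    [Algebra R A] (a : A) (ha : Smoothing.IsElementaryStandard R A a) :
    Smoothing.IsStrictlyStandard R A a := by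
  obtain ⟨P, ⟨a', rfl⟩, hk⟩ := ha
  exact ⟨P, Ideal.mul_mem_left _ a' (Ideal.subset_span ⟨Fin.castLE P.hcn, rfl⟩), hk⟩

theorem zeroLocus_elementary {R A : Type u} [CommRing R] [CommRing A] [Algebra R A]
    [Algebra.FinitePresentation R A] :
    PrimeSpectrum.zeroLocus {a : A | Smoothing.IsElementaryStandard R A a} =
      (Algebra.smoothLocus R A)ᶜ := by
  apply Set.Subset.antisymm
  · intro q hq hsm
    have : Algebra.IsSmoothAt R q.asIdeal := hsm
    obtain ⟨a, haq, ha⟩ := exists_isElementaryStandard_notMem (R := R) q.asIdeal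
    exact haq (hq ha)
  · intro q hq a ha
    by_contra haq
    exact hq (isSmoothAt_of_isStrictlyStandard a
      (isStrictlyStandard_of_isElementaryStandard a ha) q.asIdeal haq)

theorem zeroLocus_strictly {R A : Type u} [CommRing R] [CommRing A] [Algebra R A]
    [Algebra.FinitePresentation R A] :
    PrimeSpectrum.zeroLocus {a : A | Smoothing.IsStrictlyStandard R A a} =
      (Algebra.smoothLocus R A)ᶜ := by
  apply Set.Subset.antisymm
  · rw [← zeroLocus_elementary]
    exact PrimeSpectrum.zeroLocus_anti_mono
      (fun a ha => isStrictlyStandard_of_isElementaryStandard a ha)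
  · intro q hq a ha
    by_contra haq
    exact hq (isSmoothAt_of_isStrictlyStandard a ha q.asIdeal haq)

theorem main {R A : Type u} [CommRing R] [CommRing A]
    [Algebra R A] [Algebra.FinitePresentation R A] :
    Smoothing.singularIdeal R A = (Ideal.span {a : A | Smoothing.IsStrictlyStandard R A a}).radical ∧
      Smoothing.singularIdeal R A =
        (Ideal.span {a : A | Smoothing.IsElementaryStandard R A a}).radical := by
  constructor
  · rw [← PrimeSpectrum.vanishingIdeal_zeroLocus_eq_radical, PrimeSpectrum.zeroLocus_span,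
      zeroLocus_strictly]
    rfl
  · rw [← PrimeSpectrum.vanishingIdeal_zeroLocus_eq_radical, PrimeSpectrum.zeroLocus_span,
      zeroLocus_elementary]
    rfl


end Groth.Agent.Lib.R2H4.SingStd
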