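import Mathlib
import Groth.Prelude.Def_Smoothing
import Groth.Agent.Lib.R2H4SingStd
import Groth.Agent.Lib.R2H4LiftOnce
import Groth.Agent.S6860
import Groth.Agent.Lib.Helper26SymSmooth

/-!
# Delocalizing the base (helper4, round 2)

`R → A → Λ` with `A` finitely presented, `S ⊆ R` multiplicative.  If `S⁻¹A → S⁻¹Λ` factors through a smooth
`S⁻¹R`-algebra, then `A → Λ` factors through an `R`-algebra `B` in which some `s ∈ S` is elementary standard.

* `isElementaryStandard_of_index`, `isElementaryStandard_core`: criteria for elementary standard elements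
  with arbitrary finite index types, resp. for `R[X]/(F, G)` with `a₀ det(∂F) - s₀ ∈ (F)`, `s₁ G ⊆ (F)`.
* `exists_clear`, `exists_mul_mem`, `exists_smul_eq_zero`, `exists_integral`: clearing denominators.
* `exists_of_data`: the construction over `R` from a presentation over `S⁻¹R`.
* `pderiv_scale`, `rescale_data`: rescaling generators of a presentation by units.
* `data_of_submersive`, `main`.
-/

set_option autoImplicit false
set_option linter.style.haveILetI false
set_option linter.unusedSectionVars false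
set_option linter.unusedSimpArgs false
set_option linter.unusedTactic false
universe u

namespace Groth.Agent.Lib.R2H4.DelocBase

open MvPolynomial TensorProduct

attribute [local instance] MvPolynomial.algebraMvPolynomial




/-- General finite index types version of `SingStd.isElementaryStandard_of_rows_cols`. -/
theorem isElementaryStandard_of_index {R A : Type u} [CommRing R] [CommRing A] [Algebra R A]
    {ι κ γ : Type} [Fintype ι] [Fintype κ] [Fintype γ] [DecidableEq γ]
    (F : κ → MvPolynomial ι R) (φ : MvPolynomial ι R →ₐ[R] A) (hφ : Function.Surjective φ)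
    (hker : RingHom.ker φ.toRingHom = Ideal.span (Set.range F))
    (rows : γ ↪ κ) (cols : γ ↪ ι) (a a' : A)
    (ha : a = a' * φ (Matrix.det (Matrix.of fun j k : γ => pderiv (cols k) (F (rows j)))))
    (hkill : ∀ a₁ : MvPolynomial ι R, φ a₁ = a → ∀ ℓ : κ,
      a₁ * F ℓ ∈ Ideal.span (Set.range (F ∘ rows)) ⊔ Ideal.span (Set.range F) ^ 2) :
    Smoothing.IsElementaryStandard R A a := by
  classical
  let eι := Fintype.equivFin ι
  let eκ := Fintype.equivFin κ
  let eγ := Fintype.equivFin γ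
  let τ : MvPolynomial (Fin (Fintype.card ι)) R →ₐ[R] MvPolynomial ι R := rename eι.symm
  let ρ : MvPolynomial ι R →ₐ[R] MvPolynomial (Fin (Fintype.card ι)) R := rename eι
  have hτρ : ∀ p, τ (ρ p) = p := by
    intro p
    change rename eι.symm (rename eι p) = p
    rw [rename_rename]
    have : (eι.symm : _ → ι) ∘ (eι : ι → _) = id := by ext x; simp
    rw [this, rename_id_apply]
  have hρτ : ∀ p, ρ (τ p) = p := by
    intro p
    change rename eι (rename eι.symm p) = p
    rw [rename_rename]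
    have : (eι : ι → _) ∘ (eι.symm : _ → ι) = id := by ext x; simp
    rw [this, rename_id_apply]
  let f' : Fin (Fintype.card κ) → MvPolynomial (Fin (Fintype.card ι)) R :=
    fun j => ρ (F (eκ.symm j))
  let φ' : MvPolynomial (Fin (Fintype.card ι)) R →ₐ[R] A := φ.comp τ
  have hφ' : Function.Surjective φ' := by
    intro x
    obtain ⟨p, rfl⟩ := hφ x
    exact ⟨ρ p, by change φ (τ (ρ p)) = _; rw [hτρ]⟩
  have hrange : Set.range f' = (ρ : MvPolynomial ι R → _) '' Set.range F := by
    ext x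
    constructor
    · rintro ⟨j, rfl⟩
      exact ⟨F (eκ.symm j), ⟨_, rfl⟩, rfl⟩
    · rintro ⟨_, ⟨j, rfl⟩, rfl⟩
      exact ⟨eκ j, by simp [f']⟩
  have hspan' : Ideal.span (Set.range f') = (Ideal.span (Set.range F)).map ρ.toRingHom := by
    rw [Ideal.map_span, hrange]
    rfl
  have hker' : RingHom.ker φ'.toRingHom = Ideal.span (Set.range f') := by
    rw [hspan']
    ext x
    constructor
    · intro hx
      have h1 : τ x ∈ Ideal.span (Set.range F) := by
        rw [← hker]
        exact hx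
      have h2 := Ideal.mem_map_of_mem ρ.toRingHom h1
      change ρ (τ x) ∈ _ at h2
      rwa [hρτ] at h2
    · intro hx
      have h1 : Ideal.map ρ.toRingHom (Ideal.span (Set.range F)) ≤ RingHom.ker φ'.toRingHom := by
        rw [Ideal.map_le_iff_le_comap]
        intro y hy
        rw [← hker] at hy
        change φ (τ (ρ y)) = 0
        rw [hτρ]
        exact hy
      exact h1 hx
  let rows' : Fin (Fintype.card γ) ↪ Fin (Fintype.card κ) :=
    eγ.symm.toEmbedding.trans (rows.trans eκ.toEmbedding)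
  let cols' : Fin (Fintype.card γ) ↪ Fin (Fintype.card ι) :=
    eγ.symm.toEmbedding.trans (cols.trans eι.toEmbedding)
  have hminor : Smoothing.jacobianMinor f' rows' cols' =
      ρ (Matrix.det (Matrix.of fun j k : γ => pderiv (cols k) (F (rows j)))) := by
    unfold Smoothing.jacobianMinor
    rw [AlgHom.map_det, ← Matrix.det_submatrix_equiv_self eγ.symm]
    congr 1
    refine Matrix.ext fun j k => ?_
    change pderiv (eι (cols (eγ.symm k))) (rename eι (F (eκ.symm (eκ (rows (eγ.symm j)))))) =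
      rename eι (pderiv (cols (eγ.symm k)) (F (rows (eγ.symm j))))
    rw [Equiv.symm_apply_apply, pderiv_rename eι.injective]
  refine SingStd.isElementaryStandard_of_rows_cols f' φ' hφ' hker' rows' cols' a a' ?_ ?_
  · rw [hminor]
    change a = a' * φ (τ (ρ _))
    rw [hτρ]
    exact ha
  · intro a₁ ha₁ ℓ
    have h1 := hkill (τ a₁) ha₁ (eκ.symm ℓ)
    have h2 := Ideal.mem_map_of_mem ρ.toRingHom h1
    rw [Ideal.map_sup, Ideal.map_pow, ← hspan'] at h2
    have h3 : ρ.toRingHom (τ a₁ * F (eκ.symm ℓ)) = a₁ * f' ℓ := by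
      change ρ (τ a₁ * F (eκ.symm ℓ)) = _
      rw [map_mul, hρτ]
    rw [h3] at h2
    have h4 : Ideal.map ρ.toRingHom (Ideal.span (Set.range (F ∘ rows))) ≤
        Ideal.span (Set.range (f' ∘ rows')) := by
      rw [Ideal.map_span, Ideal.span_le]
      rintro _ ⟨_, ⟨i, rfl⟩, rfl⟩
      refine Ideal.subset_span ⟨eγ i, ?_⟩
      change ρ (F (eκ.symm (eκ (rows (eγ.symm (eγ i)))))) = ρ (F (rows i))
      rw [Equiv.symm_apply_apply, Equiv.symm_apply_apply]
    exact (sup_le_sup_right h4 _) h2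

/-- Core criterion: in `B = R[X]/(F, G)`, if `a₀ det(∂F/∂X_m) - s₀ ∈ (F)` and `s₁ G_l ∈ (F)` for all `l`,
then `s₀ s₁` is elementary standard in `B` over `R`. -/
theorem isElementaryStandard_core {R : Type u} [CommRing R] {ι σ τ : Type} [Fintype ι] [Fintype σ]
    [Fintype τ] [DecidableEq σ] (F : σ → MvPolynomial ι R) (G : τ → MvPolynomial ι R) (m : σ ↪ ι)
    (a₀ : MvPolynomial ι R) (s₀ s₁ : R)
    (h1 : a₀ * Matrix.det (Matrix.of fun j k : σ => pderiv (m k) (F j)) - C s₀ ∈
      Ideal.span (Set.range F))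
    (h2 : ∀ l, C s₁ * G l ∈ Ideal.span (Set.range F)) :
    Smoothing.IsElementaryStandard R (MvPolynomial ι R ⧸ Ideal.span (Set.range (Sum.elim F G)))
      (algebraMap R (MvPolynomial ι R ⧸ Ideal.span (Set.range (Sum.elim F G))) (s₀ * s₁)) := by
  classical
  set I := Ideal.span (Set.range (Sum.elim F G)) with hI
  have hFI : Ideal.span (Set.range F) ≤ I := by
    apply Ideal.span_mono
    rintro _ ⟨j, rfl⟩
    exact ⟨Sum.inl j, rfl⟩
  have hcomp : (Sum.elim F G) ∘ (Function.Embedding.inl : σ ↪ σ ⊕ τ) = F := by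
    funext j
    rfl
  refine isElementaryStandard_of_index (Sum.elim F G) (Ideal.Quotient.mkₐ R I)
    (Ideal.Quotient.mkₐ_surjective R I) ?_ Function.Embedding.inl m _
    (Ideal.Quotient.mk I (C s₁ * a₀)) ?_ ?_
  · have h0 : (Ideal.Quotient.mkₐ R I).toRingHom = Ideal.Quotient.mk I := rfl
    rw [h0, Ideal.mk_ker]
  · change Ideal.Quotient.mk I (C (s₀ * s₁)) = Ideal.Quotient.mk I (C s₁ * a₀) *
      Ideal.Quotient.mk I (Matrix.det (Matrix.of fun j k : σ => pderiv (m k) (F j)))
    rw [← map_mul, Ideal.Quotient.eq]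
    have h3 : C (s₀ * s₁) - C s₁ * a₀ * Matrix.det (Matrix.of fun j k : σ => pderiv (m k) (F j)) =
        -(C s₁ * (a₀ * Matrix.det (Matrix.of fun j k : σ => pderiv (m k) (F j)) - C s₀)) := by
      rw [C_mul]
      ring
    rw [h3]
    exact neg_mem (Ideal.mul_mem_left _ _ (hFI h1))
  · intro a₁ ha₁ ℓ
    have h4 : a₁ - C (s₀ * s₁) ∈ I := by
      rw [← Ideal.Quotient.eq]
      exact ha₁
    have h5 : a₁ * Sum.elim F G ℓ = (a₁ - C (s₀ * s₁)) * Sum.elim F G ℓ +
        C (s₀ * s₁) * Sum.elim F G ℓ := by ring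
    rw [h5, hcomp]
    refine Ideal.add_mem _ (Ideal.mem_sup_right ?_) (Ideal.mem_sup_left ?_)
    · rw [pow_two]
      exact Ideal.mul_mem_mul h4 (Ideal.subset_span ⟨ℓ, rfl⟩)
    · rcases ℓ with j | l
      · exact Ideal.mul_mem_left _ _ (Ideal.subset_span ⟨j, rfl⟩)
      · change C (s₀ * s₁) * G l ∈ _
        rw [C_mul, mul_assoc]
        exact Ideal.mul_mem_left _ _ (h2 l)





section Spread

variable {R L : Type*} [CommRing R] [CommRing L] [Algebra R L] (S : Submonoid R)
  [IsLocalization S L] {ι : Type*}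

theorem exists_clear (p : MvPolynomial ι L) : ∃ s ∈ S, ∃ p' : MvPolynomial ι R,
    MvPolynomial.map (algebraMap R L) p' = C (algebraMap R L s) * p := by
  obtain ⟨⟨x, ⟨_, s, hs, rfl⟩⟩, hx⟩ := IsLocalization.surj (S.map (C (σ := ι))) p
  refine ⟨s, hs, x, ?_⟩
  have h1 : p * algebraMap (MvPolynomial ι R) (MvPolynomial ι L) (C s) =
      algebraMap (MvPolynomial ι R) (MvPolynomial ι L) x := hx
  rw [MvPolynomial.algebraMap_def, MvPolynomial.map_C] at h1
  rw [← h1, mul_comm]

theorem exists_mul_mem (𝔞 : Ideal (MvPolynomial ι R)) (p : MvPolynomial ι R)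
    (hp : MvPolynomial.map (algebraMap R L) p ∈ 𝔞.map (MvPolynomial.map (algebraMap R L))) :
    ∃ s ∈ S, C s * p ∈ 𝔞 := by
  obtain ⟨m, hm, hmp⟩ := (IsLocalization.algebraMap_mem_map_algebraMap_iff (S.map (C (σ := ι)))
    (MvPolynomial ι L) 𝔞 p).mp hp
  obtain ⟨s, hs, rfl⟩ := hm
  exact ⟨s, hs, hmp⟩

theorem exists_smul_eq_zero {Λ : Type*} [CommRing Λ] [Algebra R Λ] (x : Λ)
    (hx : (1 : L) ⊗ₜ[R] x = 0) : ∃ s ∈ S, s • x = 0 := by
  haveI : IsLocalizedModule S (TensorProduct.mk R L Λ 1) :=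
    (isLocalizedModule_iff_isBaseChange S L (TensorProduct.mk R L Λ 1)).mpr
      (TensorProduct.isBaseChange R Λ L)
  obtain ⟨c, hc⟩ := (IsLocalizedModule.eq_zero_iff S (TensorProduct.mk R L Λ 1)).mp hx
  exact ⟨c, c.2, hc⟩

theorem exists_integral {Λ : Type*} [CommRing Λ] [Algebra R Λ] (y : L ⊗[R] Λ) :
    ∃ s ∈ S, ∃ x : Λ, s • y = (1 : L) ⊗ₜ[R] x := by
  haveI : IsLocalizedModule S (TensorProduct.mk R L Λ 1) :=
    (isLocalizedModule_iff_isBaseChange S L (TensorProduct.mk R L Λ 1)).mpr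
      (TensorProduct.isBaseChange R Λ L)
  obtain ⟨⟨x, c⟩, hc⟩ := IsLocalizedModule.surj S (TensorProduct.mk R L Λ 1) y
  exact ⟨c, c.2, x, hc⟩

end Spread

/-- The construction over `R` from data over the localization `L = S⁻¹R`. -/
theorem exists_of_data {R A Λ L C' : Type u} [CommRing R] [CommRing A] [Algebra R A]
    [CommRing Λ] [Algebra R Λ] (φ : A →ₐ[R] Λ) (S : Submonoid R) [CommRing L] [Algebra R L]
    [IsLocalization S L] [CommRing C'] [Algebra L C']
    (g' : L ⊗[R] A →ₐ[L] C') (h' : C' →ₐ[L] L ⊗[R] Λ)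
    {ι σ : Type} [Fintype ι] [Fintype σ] [DecidableEq σ]
    (v : ι → C') (f : σ → MvPolynomial ι L) (m : σ ↪ ι)
    (hker : RingHom.ker (aeval v : MvPolynomial ι L →ₐ[L] C').toRingHom = Ideal.span (Set.range f))
    (hjac : IsUnit (aeval v (Matrix.det (Matrix.of fun j k : σ => pderiv (m k) (f j)))))
    (hsurj : Function.Surjective (aeval v : MvPolynomial ι L →ₐ[L] C'))
    (μ : ι → Λ) (hμ : ∀ i, h' (v i) = (1 : L) ⊗ₜ[R] μ i)
    {n t : ℕ} (πA : MvPolynomial (Fin n) R →ₐ[R] A) (hπA : Function.Surjective πA)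
    (q : Fin t → MvPolynomial (Fin n) R) (hq : RingHom.ker πA.toRingHom = Ideal.span (Set.range q))
    (d : Fin n → ι) (hd1 : ∀ k, v (d k) = g' ((1 : L) ⊗ₜ[R] πA (X k)))
    (hd2 : ∀ k, μ (d k) = φ (πA (X k))) :
    ∃ (B : Type u) (_ : CommRing B) (_ : Algebra R B) (α : A →ₐ[R] B) (β : B →ₐ[R] Λ),
      β.comp α = φ ∧ ∃ s ∈ S, Smoothing.IsElementaryStandard R B (algebraMap R B s) := by
  classical
  let ℓ : MvPolynomial ι R →+* MvPolynomial ι L := MvPolynomial.map (algebraMap R L)
  have hℓC : ∀ r : R, ℓ (C r) = C (algebraMap R L r) := fun r => MvPolynomial.map_C _ r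
  have hmemker : ∀ p : MvPolynomial ι L, p ∈ Ideal.span (Set.range f) ↔ aeval v p = 0 := by
    intro p
    rw [← hker]
    rfl
  have hcompat : ∀ p : MvPolynomial ι R, (1 : L) ⊗ₜ[R] (aeval μ p) = h' (aeval v (ℓ p)) := by
    intro p
    have h1 : ((Algebra.TensorProduct.includeRight : Λ →ₐ[R] L ⊗[R] Λ).toRingHom.comp
        (aeval μ : MvPolynomial ι R →ₐ[R] Λ).toRingHom) =
        (h'.toRingHom.comp (aeval v : MvPolynomial ι L →ₐ[L] C').toRingHom).comp ℓ := by
      apply MvPolynomial.ringHom_ext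
      · intro r
        change (1 : L) ⊗ₜ[R] (aeval μ (C r)) = h' (aeval v (ℓ (C r)))
        rw [hℓC, aeval_C, aeval_C, h'.commutes, Algebra.TensorProduct.algebraMap_apply,
          Algebra.algebraMap_self, RingHom.id_apply, Algebra.algebraMap_eq_smul_one (A := Λ) r,
          TensorProduct.tmul_smul, TensorProduct.smul_tmul', Algebra.smul_def, mul_one]
      · intro i
        change (1 : L) ⊗ₜ[R] (aeval μ (X i)) = h' (aeval v (ℓ (X i)))
        rw [aeval_X, show ℓ (X i) = X i from MvPolynomial.map_X _ i, aeval_X, hμ]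
    exact congr($h1 p)
  -- Step 1: the leading relations
  have hF_ex : ∀ j, ∃ s ∈ S, ∃ Fj : MvPolynomial ι R,
      ℓ Fj = C (algebraMap R L s) * f j ∧ aeval μ Fj = 0 := by
    intro j
    obtain ⟨s₁, hs₁, F₀, hF₀⟩ := exists_clear S (f j)
    have hfj : aeval v (f j) = 0 := (hmemker _).mp (Ideal.subset_span ⟨j, rfl⟩)
    have h0 : (1 : L) ⊗ₜ[R] (aeval μ F₀) = 0 := by
      rw [hcompat]
      change h' (aeval v (MvPolynomial.map (algebraMap R L) F₀)) = 0
      rw [hF₀, map_mul, hfj, mul_zero, map_zero]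
    obtain ⟨s₂, hs₂, h2⟩ := exists_smul_eq_zero S _ h0
    refine ⟨s₂ * s₁, S.mul_mem hs₂ hs₁, C s₂ * F₀, ?_, ?_⟩
    · rw [map_mul, hℓC]
      change _ * MvPolynomial.map (algebraMap R L) F₀ = _
      rw [hF₀, ← mul_assoc, ← C_mul, ← map_mul]
    · rw [map_mul, aeval_C, ← Algebra.smul_def, h2]
  choose sF hsF F hFℓ hFμ using hF_ex
  have hmap : (Ideal.span (Set.range F)).map ℓ = Ideal.span (Set.range f) := by
    rw [Ideal.map_span]
    apply le_antisymm
    · rw [Ideal.span_le]
      rintro _ ⟨_, ⟨j, rfl⟩, rfl⟩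
      rw [hFℓ]
      exact Ideal.mul_mem_left _ _ (Ideal.subset_span ⟨j, rfl⟩)
    · rw [Ideal.span_le]
      rintro _ ⟨j, rfl⟩
      obtain ⟨u, hu'⟩ := IsLocalization.map_units L (⟨sF j, hsF j⟩ : S)
      have h1 : f j = C (↑u⁻¹ : L) * ℓ (F j) := by
        rw [hFℓ, ← mul_assoc, ← C_mul]
        rw [← hu', Units.inv_mul, C_1, one_mul]
      rw [h1]
      exact Ideal.mul_mem_left _ _ (Ideal.subset_span ⟨_, ⟨j, rfl⟩, rfl⟩)
  -- Step 3: the Jacobian relation
  let JF : Matrix σ σ (MvPolynomial ι R) := Matrix.of fun j k : σ => pderiv (m k) (F j)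
  let Jf : Matrix σ σ (MvPolynomial ι L) := Matrix.of fun j k : σ => pderiv (m k) (f j)
  have hdet : ℓ JF.det = (∏ j, C (algebraMap R L (sF j))) * Jf.det := by
    rw [RingHom.map_det, ← Matrix.det_mul_column]
    congr 1
    refine Matrix.ext fun j k => ?_
    change ℓ (pderiv (m k) (F j)) = C (algebraMap R L (sF j)) * pderiv (m k) (f j)
    rw [← pderiv_C_mul, ← hFℓ]
    exact (pderiv_map (φ := algebraMap R L) (f := F j) (i := m k)).symm
  have hunit : IsUnit (aeval v (ℓ JF.det)) := by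
    rw [hdet, map_mul, map_prod]
    refine IsUnit.mul ?_ hjac
    rw [IsUnit.prod_iff]
    intro j _
    rw [aeval_C]
    exact (IsLocalization.map_units L (⟨sF j, hsF j⟩ : S)).map (algebraMap L C')
  obtain ⟨c', hc'⟩ := hunit.exists_left_inv
  obtain ⟨a', rfl⟩ := hsurj c'
  have h3 : a' * ℓ JF.det - 1 ∈ Ideal.span (Set.range f) := by
    rw [hmemker, map_sub, map_mul, hc', map_one, sub_self]
  obtain ⟨s₂, hs₂, a₂, ha₂⟩ := exists_clear S a'
  have h4 : ℓ (a₂ * JF.det - C s₂) ∈ (Ideal.span (Set.range F)).map ℓ := by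
    rw [hmap, map_sub, map_mul, hℓC]
    change MvPolynomial.map (algebraMap R L) a₂ * _ - _ ∈ _
    rw [ha₂]
    have : C (algebraMap R L s₂) * a' * ℓ JF.det - C (algebraMap R L s₂) =
        C (algebraMap R L s₂) * (a' * ℓ JF.det - 1) := by ring
    rw [this]
    exact Ideal.mul_mem_left _ _ h3
  obtain ⟨s₃, hs₃, h5⟩ := exists_mul_mem (L := L) S _ _ h4
  -- Step 4: the tail relations
  let G : Fin t → MvPolynomial ι R := fun l => rename d (q l)
  have hq' : ∀ p : MvPolynomial (Fin n) R,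
      aeval v (ℓ (rename d p)) = g' ((1 : L) ⊗ₜ[R] πA p) := by
    intro p
    have h1 : ((aeval v : MvPolynomial ι L →ₐ[L] C').toRingHom.comp ℓ).comp
        (rename d : MvPolynomial (Fin n) R →ₐ[R] MvPolynomial ι R).toRingHom =
        (g'.toRingHom.comp (Algebra.TensorProduct.includeRight : A →ₐ[R] L ⊗[R] A).toRingHom).comp
          πA.toRingHom := by
      apply MvPolynomial.ringHom_ext
      · intro r
        change aeval v (ℓ (rename d (C r))) = g' ((1 : L) ⊗ₜ[R] πA (C r))
        have e2 : πA (C r) = algebraMap R A r := by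
          rw [← MvPolynomial.algebraMap_eq, πA.commutes]
        have e3 : ((1 : L) ⊗ₜ[R] algebraMap R A r : L ⊗[R] A) =
            algebraMap L (L ⊗[R] A) (algebraMap R L r) := by
          rw [Algebra.TensorProduct.algebraMap_apply, Algebra.algebraMap_self, RingHom.id_apply,
            Algebra.algebraMap_eq_smul_one (A := A) r, TensorProduct.tmul_smul,
            TensorProduct.smul_tmul', Algebra.smul_def, mul_one]
        rw [rename_C, hℓC, aeval_C, e2, e3, g'.commutes]
      · intro k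
        change aeval v (ℓ (rename d (X k))) = g' ((1 : L) ⊗ₜ[R] πA (X k))
        rw [rename_X, show ℓ (X (d k)) = X (d k) from MvPolynomial.map_X _ _, aeval_X, hd1]
    exact congr($h1 p)
  have hG_ex : ∀ l, ∃ s ∈ S, C s * G l ∈ Ideal.span (Set.range F) := by
    intro l
    refine exists_mul_mem (L := L) S (Ideal.span (Set.range F)) (G l) ?_
    change ℓ (G l) ∈ (Ideal.span (Set.range F)).map ℓ
    rw [hmap, hmemker]
    change aeval v (ℓ (rename d (q l))) = 0
    rw [hq']
    have : πA (q l) = 0 := by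
      have : q l ∈ RingHom.ker πA.toRingHom := hq ▸ Ideal.subset_span ⟨l, rfl⟩
      exact this
    rw [this, TensorProduct.tmul_zero, map_zero]
  choose sG hsG hG using hG_ex
  let s₁ : R := ∏ l, sG l
  have hs₁ : s₁ ∈ S := Submonoid.prod_mem S fun l _ => hsG l
  have hG' : ∀ l, C s₁ * G l ∈ Ideal.span (Set.range F) := by
    intro l
    have : s₁ = (∏ x ∈ Finset.univ.erase l, sG x) * sG l := by
      rw [mul_comm]
      exact (Finset.mul_prod_erase Finset.univ sG (Finset.mem_univ l)).symm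
    rw [this, C_mul, mul_assoc]
    exact Ideal.mul_mem_left _ _ (hG l)
  -- Step 5: the algebra and the maps
  let I : Ideal (MvPolynomial ι R) := Ideal.span (Set.range (Sum.elim F G))
  have hμd : (aeval (μ ∘ d) : MvPolynomial (Fin n) R →ₐ[R] Λ) = φ.comp πA := by
    apply MvPolynomial.algHom_ext
    intro k
    simp [hd2]
  have hβ : ∀ x ∈ I, aeval μ x = 0 := by
    have h6 : I ≤ RingHom.ker (aeval μ : MvPolynomial ι R →ₐ[R] Λ).toRingHom := by
      rw [Ideal.span_le]
      rintro _ ⟨j | l, rfl⟩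
      · exact hFμ j
      · change aeval μ (rename d (q l)) = 0
        rw [aeval_rename, hμd]
        have : q l ∈ RingHom.ker πA.toRingHom := hq ▸ Ideal.subset_span ⟨l, rfl⟩
        change φ (πA (q l)) = 0
        rw [show πA (q l) = 0 from this, map_zero]
    exact fun x hx => h6 hx
  let β : MvPolynomial ι R ⧸ I →ₐ[R] Λ := Ideal.Quotient.liftₐ I (aeval μ) hβ
  have hrenI : (Ideal.span (Set.range q)).map
      (rename d : MvPolynomial (Fin n) R →ₐ[R] MvPolynomial ι R).toRingHom ≤ I := by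
    rw [Ideal.map_span, Ideal.span_le]
    rintro _ ⟨_, ⟨l, rfl⟩, rfl⟩
    exact Ideal.subset_span ⟨Sum.inr l, rfl⟩
  obtain ⟨α, hα⟩ := LiftOnce.exists_algHom_of_surjective πA hπA
    ((Ideal.Quotient.mkₐ R I).comp (rename d)) (fun x hx => by
      change Ideal.Quotient.mk I (rename d x) = 0
      rw [Ideal.Quotient.eq_zero_iff_mem]
      apply hrenI
      apply Ideal.mem_map_of_mem
      rw [← hq]
      exact hx)
  refine ⟨MvPolynomial ι R ⧸ I, inferInstance, inferInstance, α, β, ?_, s₃ * s₂ * s₁,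
    S.mul_mem (S.mul_mem hs₃ hs₂) hs₁, ?_⟩
  · apply AlgHom.ext
    intro a
    obtain ⟨p, rfl⟩ := hπA a
    change β (α (πA p)) = φ (πA p)
    rw [hα]
    change aeval μ (rename d p) = _
    rw [aeval_rename, hμd]
    rfl
  · refine isElementaryStandard_core F G m (C s₃ * a₂) (s₃ * s₂) s₁ ?_ hG'
    have : C s₃ * a₂ * Matrix.det (Matrix.of fun j k : σ => pderiv (m k) (F j)) - C (s₃ * s₂) =
        C s₃ * (a₂ * JF.det - C s₂) := by
      rw [C_mul]
      ring
    rw [this]
    exact h5




section Rescale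

variable {L C' : Type*} [CommRing L] [CommRing C'] [Algebra L C'] {ι σ : Type} [Fintype ι]
  [Fintype σ] [DecidableEq σ]

/-- chain rule for a diagonal linear substitution -/
theorem pderiv_scale (u : ι → L) (i : ι) (p : MvPolynomial ι L) :
    pderiv i (aeval (fun i => C (u i) * X i) p) =
      C (u i) * aeval (fun i => C (u i) * X i) (pderiv i p) := by
  classical
  induction p using MvPolynomial.induction_on with
  | C a => simp
  | add p q hp hq => simp only [map_add, hp, hq, mul_add]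
  | mul_X p j hp =>
    rw [map_mul, aeval_X, Derivation.leibniz, pderiv_C_mul, pderiv_X, hp,
      Derivation.leibniz (pderiv i) p (X j), pderiv_X, map_add, smul_eq_mul, smul_eq_mul,
      smul_eq_mul, smul_eq_mul, map_mul, map_mul, aeval_X]
    by_cases h : i = j
    · subst h
      simp only [Pi.single_eq_same, map_one]
      ring
    · simp only [Pi.single_eq_of_ne' h, map_zero, mul_zero, zero_add, add_zero]
      ring

/-- Rescaling the generators of a presentation by units. -/
theorem rescale_data (v : ι → C') (f : σ → MvPolynomial ι L) (m : σ ↪ ι)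
    (hker : RingHom.ker (aeval v : MvPolynomial ι L →ₐ[L] C').toRingHom = Ideal.span (Set.range f))
    (hjac : IsUnit (aeval v (Matrix.det (Matrix.of fun j k : σ => pderiv (m k) (f j)))))
    (hsurj : Function.Surjective (aeval v : MvPolynomial ι L →ₐ[L] C')) (u : ι → Lˣ) :
    ∃ f' : σ → MvPolynomial ι L,
      RingHom.ker (aeval (fun i => (u i : L) • v i) : MvPolynomial ι L →ₐ[L] C').toRingHom =
        Ideal.span (Set.range f') ∧
      IsUnit (aeval (fun i => (u i : L) • v i)
        (Matrix.det (Matrix.of fun j k : σ => pderiv (m k) (f' j)))) ∧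
      Function.Surjective (aeval (fun i => (u i : L) • v i) : MvPolynomial ι L →ₐ[L] C') := by
  classical
  let θ : MvPolynomial ι L →ₐ[L] MvPolynomial ι L := aeval (fun i => C (↑(u i)⁻¹ : L) * X i)
  let θi : MvPolynomial ι L →ₐ[L] MvPolynomial ι L := aeval (fun i => C (u i : L) * X i)
  let v' : ι → C' := fun i => (u i : L) • v i
  have hθθi : ∀ p, θ (θi p) = p := by
    intro p
    have : θ.comp θi = AlgHom.id L _ := by
      apply MvPolynomial.algHom_ext
      intro i
      simp only [θ, θi, AlgHom.comp_apply, aeval_X, map_mul, AlgHom.id_apply]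
      rw [aeval_C, MvPolynomial.algebraMap_eq, ← mul_assoc, ← C_mul, Units.mul_inv, C_1, one_mul]
    exact congr($this p)
  have hv'θ : ∀ p, aeval v' (θ p) = aeval v p := by
    intro p
    have : (aeval v' : MvPolynomial ι L →ₐ[L] C').comp θ = aeval v := by
      apply MvPolynomial.algHom_ext
      intro i
      simp only [θ, v', AlgHom.comp_apply, aeval_X, map_mul, aeval_C]
      rw [← Algebra.smul_def, smul_smul, Units.inv_mul, one_smul]
    exact congr($this p)
  have hv'eq : ∀ p, aeval v' p = aeval v (θi p) := by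
    intro p
    have : (aeval v : MvPolynomial ι L →ₐ[L] C').comp θi = aeval v' := by
      apply MvPolynomial.algHom_ext
      intro i
      simp only [θi, v', AlgHom.comp_apply, aeval_X, map_mul, aeval_C]
      rw [← Algebra.smul_def]
    exact (congr($this p)).symm
  refine ⟨fun j => θ (f j), ?_, ?_, ?_⟩
  · apply le_antisymm
    · intro x hx
      have h1 : θi x ∈ Ideal.span (Set.range f) := by
        rw [← hker]
        change aeval v (θi x) = 0
        rw [← hv'eq]
        exact hx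
      have h2 := Ideal.mem_map_of_mem θ.toRingHom h1
      rw [Ideal.map_span] at h2
      change θ (θi x) ∈ _ at h2
      rw [hθθi] at h2
      convert h2 using 2
      ext y
      constructor
      · rintro ⟨j, rfl⟩
        exact ⟨f j, ⟨j, rfl⟩, rfl⟩
      · rintro ⟨_, ⟨j, rfl⟩, rfl⟩
        exact ⟨j, rfl⟩
    · rw [Ideal.span_le]
      rintro _ ⟨j, rfl⟩
      change aeval v' (θ (f j)) = 0
      rw [hv'θ]
      have : f j ∈ RingHom.ker (aeval v : MvPolynomial ι L →ₐ[L] C').toRingHom :=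
        hker ▸ Ideal.subset_span ⟨j, rfl⟩
      exact this
  · have hmat : (Matrix.of fun j k : σ => pderiv (m k) (θ (f j))) =
        Matrix.of fun j k : σ => C (↑(u (m k))⁻¹ : L) *
          (θ.mapMatrix (Matrix.of fun j k : σ => pderiv (m k) (f j))) j k := by
      refine Matrix.ext fun j k => ?_
      exact pderiv_scale (fun i => (↑(u i)⁻¹ : L)) (m k) (f j)
    rw [hmat, Matrix.det_mul_row, ← AlgHom.map_det, map_mul, hv'θ, map_prod]
    refine IsUnit.mul ?_ hjac
    rw [IsUnit.prod_iff]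
    intro k _
    rw [aeval_C]
    exact ((u (m k))⁻¹.isUnit).map (algebraMap L C')
  · intro c
    obtain ⟨p, rfl⟩ := hsurj c
    exact ⟨θ p, hv'θ p⟩

end Rescale




/-- plain data of a submersive presentation -/
theorem data_of_submersive {L C' : Type u} [CommRing L] [CommRing C'] [Algebra L C'] {ι σ : Type}
    [Fintype ι] [Fintype σ] [DecidableEq σ] (P : Algebra.SubmersivePresentation L C' ι σ) :
    RingHom.ker (aeval P.val : MvPolynomial ι L →ₐ[L] C').toRingHom =
        Ideal.span (Set.range P.relation) ∧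
      IsUnit (aeval P.val (Matrix.det (Matrix.of fun j k : σ =>
        pderiv (P.map k) (P.relation j)))) ∧
      Function.Surjective (aeval P.val : MvPolynomial ι L →ₐ[L] C') := by
  refine ⟨?_, ?_, P.aeval_val_surjective⟩
  · rw [P.span_range_relation_eq_ker, Algebra.Generators.ker_eq_ker_aeval_val]
    rfl
  · have h1 := P.jacobian_isUnit
    rw [Algebra.PreSubmersivePresentation.jacobian_eq_jacobiMatrix_det,
      Algebra.Generators.algebraMap_apply] at h1
    have h2 : P.jacobiMatrix =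
        (Matrix.of fun j k : σ => pderiv (P.map k) (P.relation j)).transpose := by
      refine Matrix.ext fun i j => ?_
      rw [Algebra.PreSubmersivePresentation.jacobiMatrix_apply]
      rfl
    rw [h2, Matrix.det_transpose] at h1
    exact h1

theorem main {R A Λ Rₛ B' : Type u} [CommRing R] [CommRing A] [Algebra R A]
    [Algebra.FinitePresentation R A] [CommRing Λ] [Algebra R Λ] (φ : A →ₐ[R] Λ) (S : Submonoid R)
    [CommRing Rₛ] [Algebra R Rₛ] [IsLocalization S Rₛ] [CommRing B'] [Algebra Rₛ B']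
    [Algebra.Smooth Rₛ B'] (g : Rₛ ⊗[R] A →ₐ[Rₛ] B') (h : B' →ₐ[Rₛ] Rₛ ⊗[R] Λ)
    (hgh : h.comp g = Algebra.TensorProduct.map (AlgHom.id Rₛ Rₛ) φ) :
    ∃ (B : Type u) (_ : CommRing B) (_ : Algebra R B) (α : A →ₐ[R] B) (β : B →ₐ[R] Λ),
      β.comp α = φ ∧ ∃ s ∈ S, Smoothing.IsElementaryStandard R B (algebraMap R B s) := by
  classical
  obtain ⟨C', _, _, _, _, -, ⟨ρ⟩, hstd⟩ :=
    Helper26.SymSmooth.exists_smooth_retract_isStandardSmooth Rₛ B'
  haveI := hstd
  let g' : Rₛ ⊗[R] A →ₐ[Rₛ] C' := (IsScalarTower.toAlgHom Rₛ B' C').comp g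
  let h' : C' →ₐ[Rₛ] Rₛ ⊗[R] Λ := h.comp (ρ.restrictScalars Rₛ)
  have hg'h' : ∀ x, h' (g' x) = Algebra.TensorProduct.map (AlgHom.id Rₛ Rₛ) φ x := by
    intro x
    change h (ρ (algebraMap B' C' (g x))) = _
    rw [ρ.commutes]
    exact congr($hgh x)
  obtain ⟨ι₀, σ₀, _, _, ⟨P⟩⟩ := Algebra.IsStandardSmooth.out (R := Rₛ) (S := C')
  cases nonempty_fintype ι₀
  cases nonempty_fintype σ₀
  obtain ⟨n, πA, hπA, hfg⟩ := Algebra.FinitePresentation.out (R := R) (A := A)
  obtain ⟨t, q, hq⟩ := Submodule.fg_iff_exists_fin_generating_family.mp hfg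
  have hq' : RingHom.ker πA.toRingHom = Ideal.span (Set.range q) := hq.symm
  let e : Fin n → C' := fun k => g' ((1 : Rₛ) ⊗ₜ[R] πA (X k))
  let P₃ := (Groth.Agent.S6860.Qpres e).comp P
  obtain ⟨hker₃, hjac₃, hsurj₃⟩ := data_of_submersive P₃
  have hint : ∀ i : ι₀, ∃ s ∈ S, ∃ x : Λ, s • h' (P.val i) = (1 : Rₛ) ⊗ₜ[R] x :=
    fun i => exists_integral S _
  choose ts hts lam hlam using hint
  let tt : Fin n ⊕ ι₀ → S := Sum.elim (fun _ => 1) (fun i => ⟨ts i, hts i⟩)
  let u : Fin n ⊕ ι₀ → Rₛˣ := fun i => (IsLocalization.map_units Rₛ (tt i)).unit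
  have hu : ∀ i, (u i : Rₛ) = algebraMap R Rₛ (tt i) := fun i => IsUnit.unit_spec _
  let μ : Fin n ⊕ ι₀ → Λ := Sum.elim (fun k => φ (πA (X k))) lam
  have hval_inl : ∀ k, P₃.val (Sum.inl k) = e k := by
    intro k
    have h2 : P₃.val (Sum.inl k) = (Groth.Agent.S6860.Qpres e).val k := rfl
    rw [h2, Groth.Agent.S6860.Qpres_val]
  have hval_inr : ∀ i, P₃.val (Sum.inr i) = P.val i := fun i => rfl
  obtain ⟨f', hker', hjac', hsurj'⟩ := rescale_data P₃.val P₃.relation ⟨P₃.map, P₃.map_inj⟩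
    hker₃ hjac₃ hsurj₃ u
  refine exists_of_data φ S g' h' (fun i => (u i : Rₛ) • P₃.val i) f' ⟨P₃.map, P₃.map_inj⟩
    hker' hjac' hsurj' μ ?_ πA hπA q hq' Sum.inl ?_ ?_
  · rintro (k | i)
    · change h' ((u (Sum.inl k) : Rₛ) • P₃.val (Sum.inl k)) = (1 : Rₛ) ⊗ₜ[R] φ (πA (X k))
      rw [hu, hval_inl]
      change h' (algebraMap R Rₛ ((1 : S) : R) • e k) = _
      rw [Submonoid.coe_one, map_one, one_smul, hg'h', Algebra.TensorProduct.map_tmul]
      rfl
    · change h' ((u (Sum.inr i) : Rₛ) • P₃.val (Sum.inr i)) = (1 : Rₛ) ⊗ₜ[R] lam i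
      rw [hu, hval_inr, map_smul]
      change algebraMap R Rₛ (ts i) • h' (P.val i) = _
      rw [algebraMap_smul, hlam]
  · intro k
    change (u (Sum.inl k) : Rₛ) • P₃.val (Sum.inl k) = _
    rw [hu, hval_inl]
    change algebraMap R Rₛ ((1 : S) : R) • e k = _
    rw [Submonoid.coe_one, map_one, one_smul]
  · intro k
    rfl


end Groth.Agent.Lib.R2H4.DelocBase
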