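import Mathlib
import Groth.Agent.Lib.R2H4DelocBase
import Groth.Agent.Lib.R2H4LiftOnce
import Groth.Agent.Lib.R2H4SingStd

/-!
# S2033: delocalizing a local resolution (weak form) (R2 helper4)

* `main'`: S2029 (`DelocBase.main`) for an arbitrary model of the localized target.
* `trans`, `can`, `exists_away_factor`: a map from a finitely presented algebra into a localization
  `M⁻¹Λ` factors through a principal localization `Λ_l`, `l ∈ M` (compatibly with a map from a
  finite type algebra).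
* `exists_smooth_local`, `exists_smooth_global`: from a local resolution over `R_p` to a smooth
  `R`-algebra through which `A → Λ_q` factors (uses `main'` with `S = R ∖ p`).
* `exists_of_away`: delocalizing the target along `Λ → Λ_l` (uses `main'` over `R[X]`, `X ↦ l`).
* `main`: the statement of S2033.
-/

set_option autoImplicit false
set_option linter.style.haveILetI false
universe u
open TensorProduct Polynomial

namespace Groth.Agent.Lib.R2H4.DelocWeak

open Groth.Agent.Lib.R2H4



attribute [local instance] Algebra.TensorProduct.rightAlgebra in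
/-- `S2029` with an arbitrary model of the localized target. -/
theorem main' {R A Λ Rₛ B' Λ' : Type u} [CommRing R] [CommRing A] [Algebra R A]
    [Algebra.FinitePresentation R A] [CommRing Λ] [Algebra R Λ] (φ : A →ₐ[R] Λ) (S : Submonoid R)
    [CommRing Rₛ] [Algebra R Rₛ] [IsLocalization S Rₛ] [CommRing B'] [Algebra Rₛ B']
    [Algebra.Smooth Rₛ B'] [Algebra R B'] [IsScalarTower R Rₛ B']
    [CommRing Λ'] [Algebra Λ Λ'] [Algebra R Λ'] [IsScalarTower R Λ Λ'] [Algebra Rₛ Λ']
    [IsScalarTower R Rₛ Λ'] [IsLocalization (Algebra.algebraMapSubmonoid Λ S) Λ']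
    (g₀ : A →ₐ[R] B') (h₀ : B' →ₐ[Rₛ] Λ') (hgh : ∀ a, h₀ (g₀ a) = algebraMap Λ Λ' (φ a)) :
    ∃ (B : Type u) (_ : CommRing B) (_ : Algebra R B) (α : A →ₐ[R] B) (β : B →ₐ[R] Λ),
      β.comp α = φ ∧ ∃ s ∈ S, Smoothing.IsElementaryStandard R B (algebraMap R B s) := by
  let e : Λ' ≃ₐ[Λ] Rₛ ⊗[R] Λ :=
    IsLocalization.algEquiv (Algebra.algebraMapSubmonoid Λ S) Λ' (Rₛ ⊗[R] Λ)
  have heR : ∀ x : Rₛ, e (algebraMap Rₛ Λ' x) = algebraMap Rₛ (Rₛ ⊗[R] Λ) x := by
    have : (e.toAlgHom.toRingHom.comp (algebraMap Rₛ Λ')) = algebraMap Rₛ (Rₛ ⊗[R] Λ) := by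
      apply IsLocalization.ringHom_ext S
      ext r
      simp only [RingHom.coe_comp, Function.comp_apply]
      rw [← IsScalarTower.algebraMap_apply R Rₛ Λ', IsScalarTower.algebraMap_apply R Λ Λ']
      change e (algebraMap Λ Λ' (algebraMap R Λ r)) = _
      rw [e.commutes, ← IsScalarTower.algebraMap_apply R Rₛ (Rₛ ⊗[R] Λ)]
      change (1 : Rₛ) ⊗ₜ[R] (algebraMap R Λ r) = algebraMap R (Rₛ ⊗[R] Λ) r
      rw [Algebra.algebraMap_eq_smul_one r, Algebra.algebraMap_eq_smul_one (A := Rₛ ⊗[R] Λ) r,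
        TensorProduct.tmul_smul]
      rfl
    exact fun x => congr($this x)
  let h : B' →ₐ[Rₛ] Rₛ ⊗[R] Λ :=
    { toRingHom := e.toAlgHom.toRingHom.comp h₀.toRingHom
      commutes' := fun x => by
        change e (h₀ (algebraMap Rₛ B' x)) = _
        rw [h₀.commutes, heR] }
  let g : Rₛ ⊗[R] A →ₐ[Rₛ] B' :=
    Algebra.TensorProduct.lift (Algebra.ofId Rₛ B') g₀ (fun _ _ => Commute.all _ _)
  refine DelocBase.main φ S g h ?_
  apply Algebra.TensorProduct.ext
  · ext
  · ext a
    change e (h₀ (g ((1 : Rₛ) ⊗ₜ[R] a))) = (1 : Rₛ) ⊗ₜ[R] φ a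
    have : g ((1 : Rₛ) ⊗ₜ[R] a) = g₀ a := by simp [g]
    rw [this, hgh, e.commutes]
    rfl



section Away

variable {R Λ : Type u} [CommRing R] [CommRing Λ] [Algebra R Λ]

theorem isUnit_away_of_dvd {d l : Λ} (hd : d ∣ l) :
    IsUnit (algebraMap Λ (Localization.Away l) d) := by
  obtain ⟨c, rfl⟩ := hd
  have h := IsLocalization.Away.algebraMap_isUnit (S := Localization.Away (d * c)) (d * c)
  rw [map_mul] at h
  exact isUnit_of_mul_isUnit_left h

/-- transition map between principal localizations -/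
noncomputable def trans {l l' : Λ} (h : l ∣ l') :
    Localization.Away l →ₐ[R] Localization.Away l' :=
  { toRingHom := IsLocalization.Away.lift l (g := algebraMap Λ (Localization.Away l'))
      (isUnit_away_of_dvd h)
    commutes' := fun r => by
      change IsLocalization.Away.lift l (isUnit_away_of_dvd h)
        (algebraMap R (Localization.Away l) r) = _
      rw [IsScalarTower.algebraMap_apply R Λ (Localization.Away l), IsLocalization.Away.lift_eq,
        ← IsScalarTower.algebraMap_apply] }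

theorem trans_algebraMap {l l' : Λ} (h : l ∣ l') (x : Λ) :
    trans (R := R) h (algebraMap Λ (Localization.Away l) x) =
      algebraMap Λ (Localization.Away l') x :=
  IsLocalization.Away.lift_eq l (isUnit_away_of_dvd h) x

variable (M : Submonoid Λ) {Λ' : Type u} [CommRing Λ'] [Algebra Λ Λ'] [Algebra R Λ']
  [IsScalarTower R Λ Λ'] [IsLocalization M Λ']

/-- the canonical map to the full localization -/
noncomputable def can {l : Λ} (hl : l ∈ M) : Localization.Away l →ₐ[R] Λ' :=
  { toRingHom := IsLocalization.Away.lift l (g := algebraMap Λ Λ')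
      (IsLocalization.map_units Λ' (⟨l, hl⟩ : M))
    commutes' := fun r => by
      change IsLocalization.Away.lift l (IsLocalization.map_units Λ' (⟨l, hl⟩ : M))
        (algebraMap R (Localization.Away l) r) = _
      rw [IsScalarTower.algebraMap_apply R Λ (Localization.Away l), IsLocalization.Away.lift_eq,
        ← IsScalarTower.algebraMap_apply] }

theorem can_algebraMap {l : Λ} (hl : l ∈ M) (x : Λ) :
    can (R := R) (Λ' := Λ') M hl (algebraMap Λ (Localization.Away l) x) = algebraMap Λ Λ' x :=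
  IsLocalization.Away.lift_eq l (IsLocalization.map_units Λ' (⟨l, hl⟩ : M)) x

theorem can_trans {l l' : Λ} (hl : l ∈ M) (hl' : l' ∈ M) (h : l ∣ l')
    (x : Localization.Away l) :
    can (R := R) (Λ' := Λ') M hl' (trans (R := R) h x) = can (R := R) M hl x := by
  have : ((can (R := R) (Λ' := Λ') M hl').toRingHom.comp (trans (R := R) h).toRingHom) =
      (can (R := R) (Λ' := Λ') M hl).toRingHom := by
    apply IsLocalization.ringHom_ext (Submonoid.powers l)
    ext y
    change can (R := R) (Λ' := Λ') M hl' (trans (R := R) h (algebraMap Λ _ y)) =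
      can (R := R) (Λ' := Λ') M hl (algebraMap Λ _ y)
    rw [trans_algebraMap, can_algebraMap, can_algebraMap]
  exact congr($this x)

theorem exists_mul_eq_zero_of_can {l : Λ} (hl : l ∈ M) (τ : Localization.Away l)
    (hτ : can (R := R) (Λ' := Λ') M hl τ = 0) :
    ∃ μ ∈ M, algebraMap Λ (Localization.Away l) μ * τ = 0 := by
  obtain ⟨⟨z, ⟨_, k, rfl⟩⟩, hz⟩ := IsLocalization.surj (Submonoid.powers l) τ
  have hz' : τ * algebraMap Λ (Localization.Away l) (l ^ k) = algebraMap Λ _ z := hz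
  have h0 : algebraMap Λ Λ' z = 0 := by
    rw [← can_algebraMap (R := R) M hl z, ← hz', map_mul, hτ, zero_mul]
  obtain ⟨μ, hμ⟩ := (IsLocalization.map_eq_zero_iff M Λ' z).mp h0
  refine ⟨μ, μ.2, ?_⟩
  have hu : IsUnit (algebraMap Λ (Localization.Away l) (l ^ k)) := by
    rw [map_pow]
    exact (IsLocalization.Away.algebraMap_isUnit l).pow k
  have h1 : (algebraMap Λ (Localization.Away l) μ * τ) *
      algebraMap Λ (Localization.Away l) (l ^ k) = 0 := by
    rw [mul_assoc, hz', ← map_mul, hμ, map_zero]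
  exact (hu.mul_left_eq_zero).mp h1

theorem exists_mul_eq_zero_finset {l : Λ} (hl : l ∈ M)
    (T : Finset (Localization.Away l))
    (hT : ∀ τ ∈ T, can (R := R) (Λ' := Λ') M hl τ = 0) :
    ∃ μ ∈ M, ∀ τ ∈ T, algebraMap Λ (Localization.Away l) μ * τ = 0 := by
  classical
  induction T using Finset.induction_on with
  | empty => exact ⟨1, M.one_mem, fun τ hτ => absurd hτ (Finset.notMem_empty τ)⟩
  | insert τ₀ T _ ih =>
    obtain ⟨μ₁, hμ₁, h₁⟩ := ih (fun τ hτ => hT τ (Finset.mem_insert_of_mem hτ))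
    obtain ⟨μ₂, hμ₂, h₂⟩ := exists_mul_eq_zero_of_can (R := R) M hl τ₀
      (hT τ₀ (Finset.mem_insert_self τ₀ T))
    refine ⟨μ₁ * μ₂, M.mul_mem hμ₁ hμ₂, fun τ hτ => ?_⟩
    rcases Finset.mem_insert.mp hτ with rfl | hτ
    · rw [map_mul, mul_assoc, h₂, mul_zero]
    · rw [map_mul, mul_comm (algebraMap Λ _ μ₁), mul_assoc, h₁ τ hτ, mul_zero]

theorem trans_eq_zero {l l' μ : Λ} (h : l ∣ l') (hμ : μ ∣ l') (τ : Localization.Away l)
    (hτ : algebraMap Λ (Localization.Away l) μ * τ = 0) : trans (R := R) h τ = 0 := by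
  have h1 := congrArg (trans (R := R) h) hτ
  rw [map_mul, trans_algebraMap, map_zero] at h1
  exact ((isUnit_away_of_dvd hμ).mul_right_eq_zero).mp h1

end Away

section Factor

variable {R A C Λ Λ' : Type u} [CommRing R] [CommRing A] [Algebra R A] [Algebra.FiniteType R A]
  [CommRing C] [Algebra R C] [Algebra.FinitePresentation R C] [CommRing Λ] [Algebra R Λ]
  (M : Submonoid Λ) [CommRing Λ'] [Algebra Λ Λ'] [Algebra R Λ'] [IsScalarTower R Λ Λ']
  [IsLocalization M Λ']

theorem exists_away_factor (φ : A →ₐ[R] Λ) (g : A →ₐ[R] C) (h : C →ₐ[R] Λ')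
    (hgh : ∀ a, h (g a) = algebraMap Λ Λ' (φ a)) :
    ∃ l ∈ M, ∃ h₂ : C →ₐ[R] Localization.Away l,
      ∀ a, h₂ (g a) = algebraMap Λ (Localization.Away l) (φ a) := by
  classical
  obtain ⟨n, ψ, hψ, hfg⟩ := Algebra.FinitePresentation.out (R := R) (A := C)
  obtain ⟨G, hG⟩ := hfg
  -- denominators for the generators
  have hden : ∀ i : Fin n, ∃ (y : Λ) (m : M), h (ψ (MvPolynomial.X i)) * algebraMap Λ Λ' m =
      algebraMap Λ Λ' y := fun i => by
    obtain ⟨⟨y, m⟩, hym⟩ := IsLocalization.surj M (h (ψ (MvPolynomial.X i)))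
    exact ⟨y, m, hym⟩
  choose y m hym using hden
  let l₀ : Λ := ∏ i, (m i : Λ)
  have hl₀ : l₀ ∈ M := Submonoid.prod_mem M (fun i _ => (m i).2)
  have hmdvd : ∀ i, (m i : Λ) ∣ l₀ := fun i => Finset.dvd_prod_of_mem _ (Finset.mem_univ i)
  let t : Fin n → Localization.Away l₀ := fun i =>
    algebraMap Λ _ (y i) * ((isUnit_away_of_dvd (hmdvd i)).unit⁻¹ : (Localization.Away l₀)ˣ)
  have ht : ∀ i, t i * algebraMap Λ (Localization.Away l₀) (m i) = algebraMap Λ _ (y i) := by
    intro i
    simp only [t]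
    rw [mul_assoc, IsUnit.val_inv_mul, mul_one]
  have hcant : ∀ i, can (R := R) (Λ' := Λ') M hl₀ (t i) = h (ψ (MvPolynomial.X i)) := by
    intro i
    have h1 := congrArg (can (R := R) (Λ' := Λ') M hl₀) (ht i)
    rw [map_mul, can_algebraMap, can_algebraMap, ← hym i] at h1
    exact (IsLocalization.map_units Λ' (m i)).mul_left_injective h1
  let θ₀ : MvPolynomial (Fin n) R →ₐ[R] Localization.Away l₀ := MvPolynomial.aeval t
  have hθ₀ : ∀ p, can (R := R) (Λ' := Λ') M hl₀ (θ₀ p) = h (ψ p) := by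
    have : (can (R := R) (Λ' := Λ') M hl₀).comp θ₀ = h.comp ψ := by
      apply MvPolynomial.algHom_ext
      intro i
      simp only [AlgHom.comp_apply, θ₀, MvPolynomial.aeval_X]
      exact hcant i
    exact fun p => congr($this p)
  -- kill the relations
  obtain ⟨μ, hμ, hμG⟩ := exists_mul_eq_zero_finset (R := R) (Λ' := Λ') M hl₀ (G.image θ₀)
    (fun τ hτ => by
      obtain ⟨F, hF, rfl⟩ := Finset.mem_image.mp hτ
      rw [hθ₀]
      have : F ∈ RingHom.ker ψ.toRingHom := by
        rw [← hG]; exact Ideal.subset_span hF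
      rw [show ψ F = 0 from this, map_zero])
  let l₁ : Λ := l₀ * μ
  have hl₁ : l₁ ∈ M := M.mul_mem hl₀ hμ
  let ρ : Localization.Away l₀ →ₐ[R] Localization.Away l₁ := trans (Dvd.intro μ rfl)
  let θ₁ : MvPolynomial (Fin n) R →ₐ[R] Localization.Away l₁ := ρ.comp θ₀
  have hθ₁ : ∀ p, ψ p = 0 → θ₁ p = 0 := by
    intro p hp
    have hp' : p ∈ Ideal.span (G : Set (MvPolynomial (Fin n) R)) := by
      rw [hG]; exact hp
    have : Ideal.span (G : Set (MvPolynomial (Fin n) R)) ≤ RingHom.ker θ₁.toRingHom := by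
      rw [Ideal.span_le]
      intro F hF
      change ρ (θ₀ F) = 0
      exact trans_eq_zero _ (Dvd.intro_left l₀ rfl) _
        (hμG _ (Finset.mem_image_of_mem θ₀ hF))
    exact this hp'
  obtain ⟨k₁, hk₁⟩ := LiftOnce.exists_algHom_of_surjective ψ hψ θ₁ hθ₁
  have hcank₁ : ∀ c, can (R := R) (Λ' := Λ') M hl₁ (k₁ c) = h c := by
    intro c
    obtain ⟨p, rfl⟩ := hψ c
    rw [hk₁]
    change can (R := R) (Λ' := Λ') M hl₁ (ρ (θ₀ p)) = _
    rw [can_trans (R := R) M hl₀ hl₁, hθ₀]
  -- compatibility with `A`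
  obtain ⟨sA, hsA⟩ := (Algebra.FiniteType.out : (⊤ : Subalgebra R A).FG)
  obtain ⟨μ', hμ', hμA⟩ := exists_mul_eq_zero_finset (R := R) (Λ' := Λ') M hl₁
    (sA.image fun a => k₁ (g a) - algebraMap Λ (Localization.Away l₁) (φ a))
    (fun τ hτ => by
      obtain ⟨a, _, rfl⟩ := Finset.mem_image.mp hτ
      rw [map_sub, hcank₁, can_algebraMap, hgh, sub_self])
  let l₂ : Λ := l₁ * μ'
  have hl₂ : l₂ ∈ M := M.mul_mem hl₁ hμ'
  let ρ' : Localization.Away l₁ →ₐ[R] Localization.Away l₂ := trans (Dvd.intro μ' rfl)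
  refine ⟨l₂, hl₂, ρ'.comp k₁, ?_⟩
  let v : A →ₐ[R] Localization.Away l₂ :=
    (IsScalarTower.toAlgHom R Λ (Localization.Away l₂)).comp φ
  have huv : (ρ'.comp k₁).comp g = v := by
    apply AlgHom.ext_of_adjoin_eq_top hsA
    intro a ha
    change ρ' (k₁ (g a)) = algebraMap Λ (Localization.Away l₂) (φ a)
    have h1 : ρ' (k₁ (g a) - algebraMap Λ (Localization.Away l₁) (φ a)) = 0 :=
      trans_eq_zero _ (Dvd.intro_left l₁ rfl) _ (hμA _ (Finset.mem_image_of_mem _ ha))
    rw [map_sub, sub_eq_zero] at h1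
    rw [h1]
    exact trans_algebraMap _ _
  exact fun a => congr($huv a)

end Factor




theorem finitePresentation_of_marked {R B : Type u} [CommRing R] [CommRing B] [Algebra R B]
    (P : Smoothing.MarkedPresentation R B) : Algebra.FinitePresentation R B := by
  classical
  refine Algebra.FinitePresentation.of_surjective P.surj ?_
  rw [P.ker_eq]
  exact ⟨Finset.univ.image P.rel, by simp⟩

theorem smooth_away_of_isElementaryStandard {R B : Type u} [CommRing R] [CommRing B] [Algebra R B]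
    (b : B) (hb : Smoothing.IsElementaryStandard R B b) :
    Algebra.FinitePresentation R B ∧ Algebra.Smooth R (Localization.Away b) := by
  have hfp : Algebra.FinitePresentation R B := finitePresentation_of_marked hb.choose
  refine ⟨hfp, ?_⟩
  rw [← Algebra.basicOpen_subset_smoothLocus_iff_smooth]
  intro q hq
  exact SingStd.isSmoothAt_of_isStrictlyStandard b
    (SingStd.isStrictlyStandard_of_isElementaryStandard b hb) q.asIdeal hq

theorem mem_singularIdeal_of_forall {R B : Type u} [CommRing R] [CommRing B] [Algebra R B]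
    (b : B) (hb : ∀ (Q : Ideal B) [Q.IsPrime], b ∉ Q → Algebra.IsSmoothAt R Q) :
    b ∈ Smoothing.singularIdeal R B := by
  rw [Smoothing.singularIdeal, PrimeSpectrum.mem_vanishingIdeal]
  intro Q hQ
  by_contra hbQ
  exact hQ (hb Q.asIdeal hbQ)

theorem smooth_away_of_mem_singularIdeal {R B : Type u} [CommRing R] [CommRing B] [Algebra R B]
    [Algebra.FinitePresentation R B] (b : B) (hb : b ∈ Smoothing.singularIdeal R B) :
    Algebra.Smooth R (Localization.Away b) := by
  rw [← Algebra.basicOpen_subset_smoothLocus_iff_smooth]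
  intro q hq
  by_contra hns
  rw [Smoothing.singularIdeal, PrimeSpectrum.mem_vanishingIdeal] at hb
  exact hq (hb q hns)




section LemmaG

variable {R A Λ Rₚ Λq : Type u} [CommRing R] [CommRing A]
    [Algebra R A] [Algebra.FinitePresentation R A] [CommRing Λ] [Algebra R Λ] (φ : A →ₐ[R] Λ)
    (𝔮 : Ideal Λ) [𝔮.IsPrime]
    [CommRing Rₚ] [Algebra R Rₚ] [IsLocalization.AtPrime Rₚ (𝔮.comap (algebraMap R Λ))]
    [CommRing Λq] [Algebra Λ Λq] [IsLocalization.AtPrime Λq 𝔮] [Algebra R Λq] [IsScalarTower R Λ Λq]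
    [Algebra Rₚ Λq] [IsScalarTower R Rₚ Λq]

/-- Step 1a: a smooth `Rₚ`-algebra through which the localized map factors. -/
theorem exists_smooth_local
    (hres : Smoothing.Resolvable Rₚ
      (Algebra.TensorProduct.lift (Algebra.ofId Rₚ Λq) ((IsScalarTower.toAlgHom R Λ Λq).comp φ)
        (fun _ _ => Commute.all _ _) : Rₚ ⊗[R] A →ₐ[Rₚ] Λq) (𝔮.map (algebraMap Λ Λq))) :
    ∃ (B₁ : Type u) (_ : CommRing B₁) (_ : Algebra Rₚ B₁), Algebra.Smooth Rₚ B₁ ∧
      ∃ (g₁ : Rₚ ⊗[R] A →ₐ[Rₚ] B₁) (h₁ : B₁ →ₐ[Rₚ] Λq),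
        ∀ a : A, h₁ (g₁ ((1 : Rₚ) ⊗ₜ[R] a)) = algebraMap Λ Λq (φ a) := by
  obtain ⟨B₀, _, _, hfp, g₀, h₀, hcomp, -, hnot⟩ := hres
  haveI := hfp
  haveI : IsLocalRing Λq := IsLocalization.AtPrime.isLocalRing Λq 𝔮
  have hmax : 𝔮.map (algebraMap Λ Λq) = IsLocalRing.maximalIdeal Λq :=
    IsLocalization.AtPrime.map_eq_maximalIdeal 𝔮 Λq
  obtain ⟨c, hc, hcu⟩ : ∃ c ∈ Smoothing.singularIdeal Rₚ B₀, IsUnit (h₀ c) := by
    by_contra hcon
    push Not at hcon
    apply hnot
    rw [hmax, Smoothing.singRad]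
    rw [Ideal.IsPrime.radical_le_iff (IsLocalRing.maximalIdeal.isMaximal Λq).isPrime,
      Ideal.map_le_iff_le_comap]
    intro c hc
    exact hcon c hc
  haveI : Algebra.Smooth Rₚ (Localization.Away c) := smooth_away_of_mem_singularIdeal c hc
  let h₁ : Localization.Away c →ₐ[Rₚ] Λq :=
    { toRingHom := IsLocalization.Away.lift c (g := h₀.toRingHom) hcu
      commutes' := fun r => by
        change IsLocalization.Away.lift c hcu (algebraMap Rₚ (Localization.Away c) r) = _
        rw [IsScalarTower.algebraMap_apply Rₚ B₀ (Localization.Away c),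
          IsLocalization.Away.lift_eq]
        exact h₀.commutes r }
  refine ⟨Localization.Away c, inferInstance, inferInstance, inferInstance,
    (IsScalarTower.toAlgHom Rₚ B₀ (Localization.Away c)).comp g₀, h₁, fun a => ?_⟩
  change IsLocalization.Away.lift c hcu (algebraMap B₀ (Localization.Away c)
    (g₀ ((1 : Rₚ) ⊗ₜ[R] a))) = _
  rw [IsLocalization.Away.lift_eq]
  have := congr($hcomp ((1 : Rₚ) ⊗ₜ[R] a))
  simp only [AlgHom.comp_apply, Algebra.TensorProduct.lift_tmul, map_one, one_mul] at this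
  exact this

/-- Step 2: a smooth `R`-algebra through which `A → Λq` factors. -/
theorem exists_smooth_global
    (hres : Smoothing.Resolvable Rₚ
      (Algebra.TensorProduct.lift (Algebra.ofId Rₚ Λq) ((IsScalarTower.toAlgHom R Λ Λq).comp φ)
        (fun _ _ => Commute.all _ _) : Rₚ ⊗[R] A →ₐ[Rₚ] Λq) (𝔮.map (algebraMap Λ Λq))) :
    ∃ (C₀ : Type u) (_ : CommRing C₀) (_ : Algebra R C₀), Algebra.Smooth R C₀ ∧
      ∃ (g : A →ₐ[R] C₀) (h : C₀ →ₐ[R] Λq), ∀ a : A, h (g a) = algebraMap Λ Λq (φ a) := by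
  obtain ⟨B₁, _, _, hsm, g₁, h₁, hgh₁⟩ := exists_smooth_local φ 𝔮 hres
  haveI := hsm
  letI : Algebra R B₁ := Algebra.compHom B₁ (algebraMap R Rₚ)
  haveI : IsScalarTower R Rₚ B₁ := IsScalarTower.of_algebraMap_eq fun _ => rfl
  let S : Submonoid R := (𝔮.comap (algebraMap R Λ)).primeCompl
  have hunitS : ∀ s ∈ S, IsUnit (algebraMap R Λq s) := by
    intro s hs
    rw [IsScalarTower.algebraMap_apply R Rₚ Λq]
    exact (IsLocalization.map_units Rₚ (⟨s, hs⟩ : S)).map _
  haveI : IsLocalization (Algebra.algebraMapSubmonoid Λq S) Λq := by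
    apply IsLocalization.of_le_isUnit
    rintro _ ⟨s, hs, rfl⟩
    exact hunitS s hs
  let φ' : A →ₐ[R] Λq := (IsScalarTower.toAlgHom R Λ Λq).comp φ
  let g₀ : A →ₐ[R] B₁ :=
    (g₁.restrictScalars R).comp (Algebra.TensorProduct.includeRight : A →ₐ[R] Rₚ ⊗[R] A)
  obtain ⟨B, _, _, α, β, hβα, s, hs, hstd⟩ := main' (Λ' := Λq) φ' S g₀ h₁ (fun a => by
    change h₁ (g₁ ((1 : Rₚ) ⊗ₜ[R] a)) = _
    rw [hgh₁]
    rfl)
  obtain ⟨hfpB, hsmB⟩ := smooth_away_of_isElementaryStandard _ hstd
  have hu : IsUnit (β.toRingHom (algebraMap R B s)) := by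
    change IsUnit (β (algebraMap R B s))
    rw [β.commutes]
    exact hunitS s hs
  let h : Localization.Away (algebraMap R B s) →ₐ[R] Λq :=
    { toRingHom := IsLocalization.Away.lift (algebraMap R B s) (g := β.toRingHom) hu
      commutes' := fun r => by
        change IsLocalization.Away.lift (algebraMap R B s) hu
          (algebraMap R (Localization.Away (algebraMap R B s)) r) = _
        rw [IsScalarTower.algebraMap_apply R B (Localization.Away (algebraMap R B s)),
          IsLocalization.Away.lift_eq]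
        exact β.commutes r }
  refine ⟨Localization.Away (algebraMap R B s), inferInstance, inferInstance, hsmB,
    (IsScalarTower.toAlgHom R B (Localization.Away (algebraMap R B s))).comp α, h, fun a => ?_⟩
  change IsLocalization.Away.lift (algebraMap R B s) hu
    (algebraMap B (Localization.Away (algebraMap R B s)) (α a)) = _
  rw [IsLocalization.Away.lift_eq]
  exact congr($hβα a)

end LemmaG




/-- Delocalizing the target: from a smooth algebra mapping to a principal localization of `Λ`. -/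
theorem exists_of_away {R A C₀ Λ : Type u} [CommRing R] [CommRing A]
    [Algebra R A] [Algebra.FinitePresentation R A] [CommRing Λ] [Algebra R Λ] (φ : A →ₐ[R] Λ)
    [CommRing C₀] [Algebra R C₀] [Algebra.Smooth R C₀] (l : Λ)
    (g : A →ₐ[R] C₀) (h₂ : C₀ →ₐ[R] Localization.Away l)
    (hgh : ∀ a, h₂ (g a) = algebraMap Λ (Localization.Away l) (φ a)) :
    ∃ (C : Type u) (_ : CommRing C) (_ : Algebra R C), Algebra.FinitePresentation R C ∧
      ∃ (g' : A →ₐ[R] C) (h' : C →ₐ[R] Λ), h'.comp g' = φ ∧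
        ∃ (c : C) (k : ℕ), c ∈ Smoothing.singularIdeal R C ∧ h' c = l ^ k := by
  letI : Algebra R[X] Λ := (Polynomial.aeval l : R[X] →ₐ[R] Λ).toRingHom.toAlgebra
  haveI : IsScalarTower R R[X] Λ := IsScalarTower.of_algebraMap_eq fun r => by
    change algebraMap R Λ r = Polynomial.aeval l (C r)
    rw [Polynomial.aeval_C]
  have hXl : algebraMap R[X] Λ X = l := by
    change Polynomial.aeval l (X : R[X]) = l
    rw [Polynomial.aeval_X]
  let φ' : R[X] ⊗[R] A →ₐ[R[X]] Λ :=
    Algebra.TensorProduct.lift (Algebra.ofId R[X] Λ) φ (fun _ _ => Commute.all _ _)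
  have hunitX : IsUnit (algebraMap R[X] (Localization.Away l) X) := by
    rw [IsScalarTower.algebraMap_apply R[X] Λ (Localization.Away l), hXl]
    exact IsLocalization.Away.algebraMap_isUnit l
  letI : Algebra (Localization.Away (X : R[X])) (Localization.Away l) :=
    (IsLocalization.Away.lift (X : R[X]) hunitX).toAlgebra
  haveI : IsScalarTower R[X] (Localization.Away (X : R[X])) (Localization.Away l) :=
    IsScalarTower.of_algebraMap_eq fun p => (IsLocalization.Away.lift_eq (X : R[X]) hunitX p).symm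
  haveI : IsScalarTower R (Localization.Away (X : R[X])) (Localization.Away l) :=
    IsScalarTower.of_algebraMap_eq fun r => by
      rw [IsScalarTower.algebraMap_apply R R[X] (Localization.Away (X : R[X])),
        ← IsScalarTower.algebraMap_apply R[X] (Localization.Away (X : R[X])) (Localization.Away l),
        ← IsScalarTower.algebraMap_apply R R[X] (Localization.Away l)]
  haveI : IsLocalization (Algebra.algebraMapSubmonoid Λ (Submonoid.powers (X : R[X])))
      (Localization.Away l) := by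
    rw [Algebra.algebraMapSubmonoid_powers, hXl]
    infer_instance
  haveI : Algebra.Smooth (Localization.Away (X : R[X])) (Localization.Away (X : R[X]) ⊗[R] C₀) :=
    inferInstance
  let g₀ : R[X] ⊗[R] A →ₐ[R[X]] Localization.Away (X : R[X]) ⊗[R] C₀ :=
    Algebra.TensorProduct.lift (Algebra.ofId R[X] _)
      ((Algebra.TensorProduct.includeRight : C₀ →ₐ[R] Localization.Away (X : R[X]) ⊗[R] C₀).comp g)
      (fun _ _ => Commute.all _ _)
  let h₀ : Localization.Away (X : R[X]) ⊗[R] C₀ →ₐ[Localization.Away (X : R[X])]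
      Localization.Away l :=
    Algebra.TensorProduct.lift (Algebra.ofId _ _) h₂ (fun _ _ => Commute.all _ _)
  have hgh₀ : ∀ x, h₀ (g₀ x) = algebraMap Λ (Localization.Away l) (φ' x) := by
    have : (h₀.restrictScalars R[X]).comp g₀ =
        (IsScalarTower.toAlgHom R[X] Λ (Localization.Away l)).comp φ' := by
      apply Algebra.TensorProduct.ext
      · ext
      · ext a
        change h₀ (g₀ ((1 : R[X]) ⊗ₜ[R] a)) = algebraMap Λ (Localization.Away l)
          (φ' ((1 : R[X]) ⊗ₜ[R] a))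
        simp only [g₀, h₀, φ', Algebra.TensorProduct.lift_tmul, map_one, one_mul, AlgHom.comp_apply,
          Algebra.TensorProduct.includeRight_apply]
        exact hgh a
    exact fun x => congr($this x)
  obtain ⟨B, _, _, α, β, hβα, s, ⟨k, rfl⟩, hstd⟩ :=
    main' (Λ' := Localization.Away l) φ' (Submonoid.powers (X : R[X])) g₀ h₀ hgh₀
  letI : Algebra R B := Algebra.compHom B (algebraMap R R[X])
  haveI : IsScalarTower R R[X] B := IsScalarTower.of_algebraMap_eq fun _ => rfl
  obtain ⟨hfpB, -⟩ := smooth_away_of_isElementaryStandard _ hstd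
  haveI := hfpB
  have hfpR : Algebra.FinitePresentation R B := Algebra.FinitePresentation.trans R R[X] B
  refine ⟨B, inferInstance, inferInstance, hfpR,
    (α.restrictScalars R).comp (Algebra.TensorProduct.includeRight : A →ₐ[R] R[X] ⊗[R] A),
    β.restrictScalars R, ?_, algebraMap R[X] B (X ^ k), k, ?_, ?_⟩
  · ext a
    change β (α ((1 : R[X]) ⊗ₜ[R] a)) = φ a
    have := congr($hβα ((1 : R[X]) ⊗ₜ[R] a))
    simp only [AlgHom.comp_apply, φ', Algebra.TensorProduct.lift_tmul, map_one, one_mul] at this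
    exact this
  · apply mem_singularIdeal_of_forall
    intro Q _ hQ
    have h1 : Algebra.IsSmoothAt R[X] Q := SingStd.isSmoothAt_of_isStrictlyStandard _
      (SingStd.isStrictlyStandard_of_isElementaryStandard _ hstd) Q hQ
    have h2 : Algebra.FormallySmooth R[X] (Localization.AtPrime Q) := h1
    change Algebra.FormallySmooth R (Localization.AtPrime Q)
    exact Algebra.FormallySmooth.comp R R[X] (Localization.AtPrime Q)
  · change β (algebraMap R[X] B (X ^ k)) = l ^ k
    rw [β.commutes, map_pow, hXl]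

/-- `S2033` (without using the Noetherian or minimality hypotheses). -/
theorem main {R A Λ Rₚ Λq : Type u} [CommRing R] [CommRing A]
    [Algebra R A] [Algebra.FinitePresentation R A] [CommRing Λ] [Algebra R Λ] (φ : A →ₐ[R] Λ)
    (𝔮 : Ideal Λ) [𝔮.IsPrime]
    [CommRing Rₚ] [Algebra R Rₚ] [IsLocalization.AtPrime Rₚ (𝔮.comap (algebraMap R Λ))]
    [CommRing Λq] [Algebra Λ Λq] [IsLocalization.AtPrime Λq 𝔮] [Algebra R Λq] [IsScalarTower R Λ Λq]
    [Algebra Rₚ Λq] [IsScalarTower R Rₚ Λq]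
    (hres : Smoothing.Resolvable Rₚ
      (Algebra.TensorProduct.lift (Algebra.ofId Rₚ Λq) ((IsScalarTower.toAlgHom R Λ Λq).comp φ)
        (fun _ _ => Commute.all _ _) : Rₚ ⊗[R] A →ₐ[Rₚ] Λq) (𝔮.map (algebraMap Λ Λq))) :
    ∃ (C : Type u) (_ : CommRing C) (_ : Algebra R C), Algebra.FinitePresentation R C ∧
      ∃ (g : A →ₐ[R] C) (h : C →ₐ[R] Λ), h.comp g = φ ∧
        ¬ (Smoothing.singularIdeal R C).map h ≤ 𝔮 := by
  obtain ⟨C₀, _, _, hsm, g, h, hgh⟩ := exists_smooth_global φ 𝔮 hres
  haveI := hsm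
  obtain ⟨l, hl, h₂, hgh₂⟩ := exists_away_factor 𝔮.primeCompl φ g h hgh
  obtain ⟨C, _, _, hfp, g', h', hcomp, c, k, hc, hck⟩ := exists_of_away φ l g h₂ hgh₂
  refine ⟨C, inferInstance, inferInstance, hfp, g', h', hcomp, fun hle => ?_⟩
  have h1 : l ^ k ∈ 𝔮 := by
    rw [← hck]
    exact hle (Ideal.mem_map_of_mem _ hc)
  exact hl (Ideal.IsPrime.mem_of_pow_mem inferInstance k h1)


end Groth.Agent.Lib.R2H4.DelocWeak
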