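import Mathlib
import Groth.Agent.Lib.R2H4DelocWeak

/-!
# Resolving the zero-dimensional case of the smoothing problem (S2034)

Given `R → A → Λ ⊇ 𝔮` with `Λ_𝔮` of Krull dimension `0`, and a factorization `A → C → Λ` through a
finitely presented `R`-algebra `C` with an element `c` of the singular ideal of `C` whose image
is not in `𝔮` (from `DelocWeak.main`), we build
`B = A[x, y, z, t] / (f_j(x) - ∑ y_i t_{ij}, z y_i)` (where `C = A[x]/(f)`), and show that
`B_{z c}` and `B_{a_ℓ y_ℓ}` are formally smooth over `R`.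
-/

set_option autoImplicit false
set_option linter.style.haveILetI false
universe u
open TensorProduct MvPolynomial

namespace Groth.Agent.Lib.R2H4.ResDimZero

open Groth.Agent.Lib.R2H4

/-- Generic lifting lemma for a principal localization of a quotient of a polynomial ring. -/
theorem exists_lift_away {R A : Type u} [CommRing R] [CommRing A] [Algebra R A] {σ : Type}
    (G : Set (MvPolynomial σ A)) (b : MvPolynomial σ A ⧸ Ideal.span G)
    {T : Type u} [CommRing T] [Algebra R T] (N : Ideal T) (hN : N ^ 2 = ⊥)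
    (ubar : Localization.Away b →ₐ[R] T ⧸ N) (γ : A →ₐ[R] T) (v : σ → T)
    (h1 : ∀ p ∈ G, MvPolynomial.eval₂ (γ : A →+* T) v p = 0)
    (h2 : ∀ a : A, Ideal.Quotient.mk N (γ a) = ubar (algebraMap A (Localization.Away b) a))
    (h3 : ∀ s : σ, Ideal.Quotient.mk N (v s) =
      ubar (algebraMap _ (Localization.Away b) (Ideal.Quotient.mk (Ideal.span G) (X s)))) :
    ∃ u : Localization.Away b →ₐ[R] T, (Ideal.Quotient.mkₐ R N).comp u = ubar := by
  let u₀ : MvPolynomial σ A →+* T := MvPolynomial.eval₂Hom (γ : A →+* T) v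
  have hu₀ : ∀ p ∈ Ideal.span G, u₀ p = 0 := by
    intro p hp
    have : Ideal.span G ≤ RingHom.ker u₀ := Ideal.span_le.mpr (fun q hq => h1 q hq)
    exact this hp
  let u₁ : (MvPolynomial σ A ⧸ Ideal.span G) →+* T := Ideal.Quotient.lift _ u₀ hu₀
  have hu₁ : ∀ x, Ideal.Quotient.mk N (u₁ x) = ubar (algebraMap _ (Localization.Away b) x) := by
    have : ((Ideal.Quotient.mk N).comp u₁).comp (Ideal.Quotient.mk (Ideal.span G)) =
        ((ubar : Localization.Away b →+* T ⧸ N).comp
          (algebraMap _ (Localization.Away b))).comp (Ideal.Quotient.mk (Ideal.span G)) := by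
      apply MvPolynomial.ringHom_ext
      · intro a
        change Ideal.Quotient.mk N (u₀ (C a)) = ubar (algebraMap _ (Localization.Away b)
          (Ideal.Quotient.mk (Ideal.span G) (C a)))
        have e1 : u₀ (C a) = γ a := by simp [u₀]
        have e2 : (Ideal.Quotient.mk (Ideal.span G) (C a)) =
            algebraMap A (MvPolynomial σ A ⧸ Ideal.span G) a := rfl
        rw [e1, e2, ← IsScalarTower.algebraMap_apply, h2]
      · intro s
        change Ideal.Quotient.mk N (u₀ (X s)) = _
        have e1 : u₀ (X s) = v s := by simp [u₀]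
        rw [e1, h3]
        rfl
    intro x
    obtain ⟨p, rfl⟩ := Ideal.Quotient.mk_surjective x
    exact congr($this p)
  have hunit : IsUnit (u₁ b) := by
    apply (IsNilpotent.isUnit_quotient_mk_iff (I := N) ⟨2, hN⟩).mp
    rw [hu₁]
    exact (IsLocalization.Away.algebraMap_isUnit b).map ubar
  let u₂ : Localization.Away b →+* T := IsLocalization.Away.lift b (g := u₁) hunit
  have hu₂ : ∀ x, u₂ (algebraMap _ (Localization.Away b) x) = u₁ x := fun x =>
    IsLocalization.Away.lift_eq b hunit x
  let u : Localization.Away b →ₐ[R] T :=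
    { toRingHom := u₂
      commutes' := fun r => by
        change u₂ (algebraMap R (Localization.Away b) r) = _
        rw [IsScalarTower.algebraMap_apply R (MvPolynomial σ A ⧸ Ideal.span G)
          (Localization.Away b), hu₂,
          IsScalarTower.algebraMap_apply R A (MvPolynomial σ A ⧸ Ideal.span G)]
        change u₀ (C (algebraMap R A r)) = _
        simp [u₀] }
  refine ⟨u, ?_⟩
  apply AlgHom.coe_ringHom_injective
  apply IsLocalization.ringHom_ext (Submonoid.powers b)
  refine RingHom.ext fun x => ?_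
  change Ideal.Quotient.mk N (u₂ (algebraMap _ (Localization.Away b) x)) =
    ubar (algebraMap _ (Localization.Away b) x)
  rw [hu₂, hu₁]

section Construction

/-- index type of the variables `x_i, y_i, z, t_{ij}` -/
abbrev Idx (n r m : ℕ) : Type := Fin n ⊕ (Fin r ⊕ (Unit ⊕ Fin r × Fin m))

variable {n r m : ℕ}

/-- the variable `y_i` -/
def iy (i : Fin r) : Idx n r m := Sum.inr (Sum.inl i)
/-- the variable `z` -/
def iz : Idx n r m := Sum.inr (Sum.inr (Sum.inl ()))
/-- the variable `t_{ij}` -/
def it (i : Fin r) (j : Fin m) : Idx n r m := Sum.inr (Sum.inr (Sum.inr (i, j)))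

variable {A : Type u} [CommRing A] (f : Fin m → MvPolynomial (Fin n) A)

/-- the relation `f_j - ∑ y_i t_{ij}` -/
noncomputable def Frel (r : ℕ) (j : Fin m) : MvPolynomial (Idx n r m) A :=
  rename Sum.inl (f j) - ∑ i : Fin r, X (iy i) * X (it i j)

/-- the relation `z y_i` -/
noncomputable def Grel (A : Type u) [CommRing A] (n m : ℕ) {r : ℕ} (i : Fin r) :
    MvPolynomial (Idx n r m) A :=
  X iz * X (iy i)

/-- all relations -/
def rels (r : ℕ) : Set (MvPolynomial (Idx n r m) A) :=
  Set.range (Frel f r) ∪ Set.range (Grel A n m (r := r))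

theorem eval₂_Frel {T : Type u} [CommRing T] (γ : A →+* T) (v : Idx n r m → T) (j : Fin m) :
    eval₂ γ v (Frel f r j) =
      eval₂ γ (v ∘ Sum.inl) (f j) - ∑ i : Fin r, v (iy i) * v (it i j) := by
  simp only [Frel, eval₂_sub, eval₂_rename, eval₂_sum, eval₂_mul, eval₂_X]

theorem eval₂_Grel {T : Type u} [CommRing T] (γ : A →+* T) (v : Idx n r m → T) (i : Fin r) :
    eval₂ γ v (Grel A n m i) = v iz * v (iy i) := by
  simp only [Grel, eval₂_mul, eval₂_X]

/-- the algebra `B` -/
abbrev Bq (r : ℕ) : Type u := MvPolynomial (Idx n r m) A ⧸ Ideal.span (rels f r)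

theorem mk_Frel (j : Fin m) : (Ideal.Quotient.mk (Ideal.span (rels f r)) (Frel f r j)) = 0 :=
  Ideal.Quotient.eq_zero_iff_mem.mpr (Ideal.subset_span (Or.inl ⟨j, rfl⟩))

theorem mk_Grel (i : Fin r) :
    (Ideal.Quotient.mk (Ideal.span (rels f r)) (Grel A n m i)) = 0 :=
  Ideal.Quotient.eq_zero_iff_mem.mpr (Ideal.subset_span (Or.inr ⟨i, rfl⟩))

end Construction

section Claim1

variable {R A C : Type u} [CommRing R] [CommRing A] [CommRing C] [Algebra R A] [Algebra A C]
  [Algebra R C] [IsScalarTower R A C] {n m : ℕ} (r : ℕ) (f : Fin m → MvPolynomial (Fin n) A)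
  (ψ : MvPolynomial (Fin n) A →ₐ[A] C) (hψ : Function.Surjective ψ)
  (hker : RingHom.ker ψ.toRingHom = Ideal.span (Set.range f))

include hψ hker in
theorem formallySmooth_z_aux (c' : MvPolynomial (Fin n) A)
    [Algebra.FormallySmooth R (Localization.Away (ψ c'))] (b : Bq f r)
    (hb : b = Ideal.Quotient.mk (Ideal.span (rels f r)) (X iz * rename Sum.inl c')) :
    Algebra.FormallySmooth R (Localization.Away b) := by
  apply Algebra.FormallySmooth.of_comp_surjective
  intro T _ _ N hN ubar
  let am : Bq f r →+* Localization.Away b := algebraMap _ _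
  let mkB : MvPolynomial (Idx n r m) A →+* Bq f r := Ideal.Quotient.mk _
  have hzu : IsUnit (am (mkB (X iz))) :=
    DelocWeak.isUnit_away_of_dvd (Dvd.intro (mkB (rename Sum.inl c')) (by rw [hb, map_mul]))
  have hcu : IsUnit (am (mkB (rename Sum.inl c'))) :=
    DelocWeak.isUnit_away_of_dvd (Dvd.intro_left (mkB (X iz)) (by rw [hb, map_mul]))
  have hy0 : ∀ i : Fin r, am (mkB (X (iy i))) = 0 := by
    intro i
    have h1 : am (mkB (X iz)) * am (mkB (X (iy i))) = 0 := by
      rw [← map_mul, ← map_mul]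
      change am (mkB (Grel A n m i)) = 0
      rw [show mkB (Grel A n m i) = 0 from mk_Grel f i, map_zero]
    exact (hzu.mul_right_eq_zero).mp h1
  let θ : MvPolynomial (Fin n) A →ₐ[A] Localization.Away b :=
    (IsScalarTower.toAlgHom A (Bq f r) (Localization.Away b)).comp
      ((Ideal.Quotient.mkₐ A (Ideal.span (rels f r))).comp (rename Sum.inl))
  have hθ : ∀ p, θ p = am (mkB (rename Sum.inl p)) := fun p => rfl
  have hθf : ∀ j, θ (f j) = 0 := by
    intro j
    have h1 : mkB (rename Sum.inl (f j)) = mkB (∑ i : Fin r, X (iy i) * X (it i j)) := by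
      have := mk_Frel f (r := r) j
      rw [Frel, map_sub, sub_eq_zero] at this
      exact this
    rw [hθ, h1, map_sum, map_sum]
    apply Finset.sum_eq_zero
    intro i _
    rw [map_mul, map_mul, hy0, zero_mul]
  have hθker : ∀ p, ψ p = 0 → θ p = 0 := by
    intro p hp
    have hp' : p ∈ Ideal.span (Set.range f) := by rw [← hker]; exact hp
    have : Ideal.span (Set.range f) ≤ RingHom.ker θ.toRingHom := by
      rw [Ideal.span_le]
      rintro _ ⟨j, rfl⟩
      exact hθf j
    exact this hp'
  obtain ⟨ιC, hιC⟩ := LiftOnce.exists_algHom_of_surjective ψ hψ θ hθker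
  have hιCu : IsUnit ((ιC.restrictScalars R).toRingHom (ψ c')) := by
    change IsUnit (ιC (ψ c'))
    rw [hιC, hθ]
    exact hcu
  let κ : Localization.Away (ψ c') →ₐ[R] Localization.Away b :=
    { toRingHom := IsLocalization.Away.lift (ψ c') (g := (ιC.restrictScalars R).toRingHom) hιCu
      commutes' := fun x => by
        change IsLocalization.Away.lift (ψ c') hιCu
          (algebraMap R (Localization.Away (ψ c')) x) = _
        rw [IsScalarTower.algebraMap_apply R C (Localization.Away (ψ c')),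
          IsLocalization.Away.lift_eq]
        exact (ιC.restrictScalars R).commutes x }
  have hκ : ∀ x : C, κ (algebraMap C (Localization.Away (ψ c')) x) = ιC x := fun x =>
    IsLocalization.Away.lift_eq (ψ c') hιCu x
  obtain ⟨w, hw⟩ := Algebra.FormallySmooth.comp_surjective R (Localization.Away (ψ c')) N hN
    (ubar.comp κ)
  have hw' : ∀ x, Ideal.Quotient.mk N (w x) = ubar (κ x) := fun x => congr($hw x)
  let γ : A →ₐ[R] T := w.comp ((IsScalarTower.toAlgHom R C (Localization.Away (ψ c'))).comp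
    (IsScalarTower.toAlgHom R A C))
  have hγ : ∀ a, γ a = w (algebraMap C (Localization.Away (ψ c')) (algebraMap A C a)) :=
    fun a => rfl
  -- lifts of the remaining variables
  have hlift : ∀ s : Idx n r m, ∃ τ : T, Ideal.Quotient.mk N τ = ubar (am (mkB (X s))) :=
    fun s => Ideal.Quotient.mk_surjective _
  choose lf hlf using hlift
  let v : Idx n r m → T := Sum.elim
    (fun i => w (algebraMap C (Localization.Away (ψ c')) (ψ (X i))))
    (Sum.elim (fun _ => 0) (fun s => lf (Sum.inr (Sum.inr s))))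
  have hvx : ∀ i, v (Sum.inl i) = w (algebraMap C (Localization.Away (ψ c')) (ψ (X i))) :=
    fun i => rfl
  have hvy : ∀ i, v (iy i) = 0 := fun i => rfl
  have hev : ∀ p : MvPolynomial (Fin n) A, eval₂ (γ : A →+* T) (v ∘ Sum.inl) p =
      w (algebraMap C (Localization.Away (ψ c')) (ψ p)) := by
    have : (eval₂Hom (γ : A →+* T) (v ∘ Sum.inl)) =
        ((w : Localization.Away (ψ c') →+* T).comp
          (algebraMap C (Localization.Away (ψ c')))).comp (ψ : MvPolynomial (Fin n) A →+* C) := by
      apply MvPolynomial.ringHom_ext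
      · intro a
        simp only [coe_eval₂Hom, eval₂_C, RingHom.coe_comp, RingHom.coe_coe, Function.comp_apply]
        rw [hγ, ← MvPolynomial.algebraMap_eq, ψ.commutes]
      · intro i
        simp only [coe_eval₂Hom, eval₂_X, RingHom.coe_comp, RingHom.coe_coe, Function.comp_apply]
        rfl
    exact fun p => congr($this p)
  refine exists_lift_away (rels f r) b N hN ubar γ v ?_ ?_ ?_
  · rintro p (⟨j, rfl⟩ | ⟨i, rfl⟩)
    · rw [eval₂_Frel, hev]
      have : ψ (f j) = 0 := by
        have : f j ∈ RingHom.ker ψ.toRingHom := by rw [hker]; exact Ideal.subset_span ⟨j, rfl⟩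
        exact this
      rw [this, map_zero, map_zero, zero_sub, neg_eq_zero]
      apply Finset.sum_eq_zero
      intro i _
      rw [hvy, zero_mul]
    · rw [eval₂_Grel, hvy, mul_zero]
  · intro a
    rw [hγ, hw', hκ, ιC.commutes]
  · rintro (i | i | s)
    · rw [hvx, hw', hκ, hιC, hθ, rename_X]
    · change Ideal.Quotient.mk N 0 = ubar (am (mkB (X (iy i))))
      rw [hy0, map_zero, map_zero]
    · exact hlf _

include hψ hker in
theorem formallySmooth_z (c' : MvPolynomial (Fin n) A)
    [Algebra.FormallySmooth R (Localization.Away (ψ c'))] :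
    Algebra.FormallySmooth R (Localization.Away
      (Ideal.Quotient.mk (Ideal.span (rels f r)) (X iz * rename Sum.inl c'))) :=
  formallySmooth_z_aux r f ψ hψ hker c' _ rfl

end Claim1

section Claim2

variable {R A : Type u} [CommRing R] [CommRing A] [Algebra R A] {n m : ℕ} (r : ℕ)
  (f : Fin m → MvPolynomial (Fin n) A)

theorem formallySmooth_y_aux (a : A) [Algebra.FormallySmooth R (Localization.Away a)]
    (ℓ : Fin r) (b : Bq f r)
    (hb : b = Ideal.Quotient.mk (Ideal.span (rels f r)) (C a * X (iy ℓ))) :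
    Algebra.FormallySmooth R (Localization.Away b) := by
  classical
  apply Algebra.FormallySmooth.of_comp_surjective
  intro T _ _ N hN ubar
  let am : Bq f r →+* Localization.Away b := algebraMap _ _
  let mkB : MvPolynomial (Idx n r m) A →+* Bq f r := Ideal.Quotient.mk _
  have hau : IsUnit (am (mkB (C a))) :=
    DelocWeak.isUnit_away_of_dvd (Dvd.intro (mkB (X (iy ℓ))) (by rw [hb, map_mul]))
  have hyu : IsUnit (am (mkB (X (iy ℓ)))) :=
    DelocWeak.isUnit_away_of_dvd (Dvd.intro_left (mkB (C a)) (by rw [hb, map_mul]))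
  have hz0 : am (mkB (X iz)) = 0 := by
    have h1 : am (mkB (X iz)) * am (mkB (X (iy ℓ))) = 0 := by
      rw [← map_mul, ← map_mul]
      change am (mkB (Grel A n m ℓ)) = 0
      rw [show mkB (Grel A n m ℓ) = 0 from mk_Grel f ℓ, map_zero]
    exact (hyu.mul_left_eq_zero).mp h1
  have hAb : ∀ x : A, algebraMap A (Localization.Away b) x = am (mkB (C x)) := fun x =>
    IsScalarTower.algebraMap_apply A (Bq f r) (Localization.Away b) x
  have hau' : IsUnit ((algebraMap A (Localization.Away b)) a) := by rw [hAb]; exact hau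
  let κ : Localization.Away a →ₐ[R] Localization.Away b :=
    { toRingHom := IsLocalization.Away.lift a (g := algebraMap A (Localization.Away b)) hau'
      commutes' := fun x => by
        change IsLocalization.Away.lift a hau'
          (algebraMap R (Localization.Away a) x) = _
        rw [IsScalarTower.algebraMap_apply R A (Localization.Away a),
          IsLocalization.Away.lift_eq, hAb,
          IsScalarTower.algebraMap_apply R (Bq f r) (Localization.Away b),
          IsScalarTower.algebraMap_apply R A (Bq f r)]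
        rfl }
  have hκ : ∀ x : A, κ (algebraMap A (Localization.Away a) x) =
      algebraMap A (Localization.Away b) x := fun x =>
    IsLocalization.Away.lift_eq a hau' x
  obtain ⟨w, hw⟩ := Algebra.FormallySmooth.comp_surjective R (Localization.Away a) N hN
    (ubar.comp κ)
  have hw' : ∀ x, Ideal.Quotient.mk N (w x) = ubar (κ x) := fun x => congr($hw x)
  let γ : A →ₐ[R] T := w.comp (IsScalarTower.toAlgHom R A (Localization.Away a))
  have hγ : ∀ x, γ x = w (algebraMap A (Localization.Away a) x) := fun x => rfl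
  have hγ' : ∀ x, Ideal.Quotient.mk N (γ x) = ubar (algebraMap A (Localization.Away b) x) := by
    intro x
    rw [hγ, hw', hκ]
  have hlift : ∀ s : Idx n r m, ∃ τ : T, Ideal.Quotient.mk N τ = ubar (am (mkB (X s))) :=
    fun s => Ideal.Quotient.mk_surjective _
  choose lf hlf using hlift
  have hyT : IsUnit (lf (iy ℓ)) := by
    apply (IsNilpotent.isUnit_quotient_mk_iff (I := N) ⟨2, hN⟩).mp
    rw [hlf]
    exact hyu.map ubar
  obtain ⟨υ, hυ⟩ := hyT.exists_left_inv
  let E : Fin m → T := fun j => eval₂ (γ : A →+* T) (lf ∘ Sum.inl) (f j)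
  let S' : Fin m → T := fun j => ∑ i ∈ Finset.univ.erase ℓ, lf (iy i) * lf (it i j)
  let v : Idx n r m → T := Sum.elim (fun i => lf (Sum.inl i))
    (Sum.elim (fun i => lf (iy i)) (Sum.elim (fun _ => 0)
      (fun s => if s.1 = ℓ then υ * (E s.2 - S' s.2) else lf (it s.1 s.2))))
  have hvx : v ∘ Sum.inl = lf ∘ Sum.inl := rfl
  have hvy : ∀ i, v (iy i) = lf (iy i) := fun i => rfl
  have hvz : v iz = 0 := rfl
  have hvt : ∀ i j, v (it i j) = if i = ℓ then υ * (E j - S' j) else lf (it i j) := fun i j => rfl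
  have hE : ∀ p : MvPolynomial (Fin n) A,
      Ideal.Quotient.mk N (eval₂ (γ : A →+* T) (lf ∘ Sum.inl) p) =
        ubar (am (mkB (rename Sum.inl p))) := by
    have : (Ideal.Quotient.mk N).comp (eval₂Hom (γ : A →+* T) (lf ∘ Sum.inl)) =
        (((ubar : Localization.Away b →+* T ⧸ N).comp am).comp mkB).comp
          (rename Sum.inl : MvPolynomial (Fin n) A →ₐ[A] MvPolynomial (Idx n r m) A) := by
      apply MvPolynomial.ringHom_ext
      · intro x
        simp only [RingHom.coe_comp, RingHom.coe_coe, Function.comp_apply, coe_eval₂Hom, eval₂_C,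
          rename_C]
        rw [hγ', hAb]
      · intro i
        simp only [RingHom.coe_comp, RingHom.coe_coe, Function.comp_apply, coe_eval₂Hom, eval₂_X,
          rename_X]
        exact hlf _
    exact fun p => congr($this p)
  refine exists_lift_away (rels f r) b N hN ubar γ v ?_ hγ' ?_
  · rintro p (⟨j, rfl⟩ | ⟨i, rfl⟩)
    · rw [eval₂_Frel, hvx, ← Finset.add_sum_erase _ _ (Finset.mem_univ ℓ), hvy, hvt, if_pos rfl]
      have hS : ∑ i ∈ Finset.univ.erase ℓ, v (iy i) * v (it i j) = S' j := by
        apply Finset.sum_congr rfl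
        intro i hi
        rw [hvy, hvt, if_neg (Finset.ne_of_mem_erase hi)]
      rw [hS, ← mul_assoc, mul_comm (lf (iy ℓ)) υ, hυ, one_mul]
      change E j - (E j - S' j + S' j) = 0
      ring
    · rw [eval₂_Grel, hvz, zero_mul]
  · rintro (i | i | u | ⟨i, j⟩)
    · exact hlf _
    · exact hlf _
    · change Ideal.Quotient.mk N 0 = ubar (am (mkB (X iz)))
      rw [hz0, map_zero, map_zero]
    · change Ideal.Quotient.mk N (v (it i j)) = ubar (am (mkB (X (it i j))))
      rw [hvt]
      split_ifs with hi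
      · subst hi
        have hu : IsUnit (Ideal.Quotient.mk N (lf (iy i))) := by
          rw [hlf]; exact hyu.map ubar
        apply hu.mul_left_cancel
        rw [← map_mul, ← mul_assoc, mul_comm (lf (iy i)) υ, hυ, one_mul, map_sub, hE, map_sum,
          hlf, ← map_mul, ← map_mul, ← map_mul]
        have h1 : mkB (rename Sum.inl (f j)) = mkB (∑ i' : Fin r, X (iy i') * X (it i' j)) := by
          have := mk_Frel f (r := r) j
          rw [Frel, map_sub, sub_eq_zero] at this
          exact this
        rw [h1, ← Finset.add_sum_erase _ _ (Finset.mem_univ i), map_add, map_add, map_add,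
          add_sub_assoc, map_sum, map_sum, map_sum]
        rw [add_eq_left, sub_eq_zero]
        apply Finset.sum_congr rfl
        intro i' _
        rw [map_mul, map_mul, map_mul, map_mul, hlf, hlf]
      · exact hlf _

theorem formallySmooth_y (a : A) [Algebra.FormallySmooth R (Localization.Away a)]
    (ℓ : Fin r) :
    Algebra.FormallySmooth R (Localization.Away
      (Ideal.Quotient.mk (Ideal.span (rels f r)) (C a * X (iy ℓ)))) :=
  formallySmooth_y_aux r f a ℓ _ rfl

end Claim2

theorem mem_singularIdeal_of_formallySmooth_away {R B : Type u} [CommRing R] [CommRing B]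
    [Algebra R B] [Algebra.FinitePresentation R B] (b : B)
    [Algebra.FormallySmooth R (Localization.Away b)] :
    b ∈ Smoothing.singularIdeal R B := by
  have hfp : Algebra.FinitePresentation R (Localization.Away b) :=
    haveI : Algebra.FinitePresentation B (Localization.Away b) :=
      IsLocalization.Away.finitePresentation b
    Algebra.FinitePresentation.trans R B (Localization.Away b)
  have hsm : Algebra.Smooth R (Localization.Away b) := ⟨inferInstance, hfp⟩
  rw [← Algebra.basicOpen_subset_smoothLocus_iff_smooth] at hsm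
  apply DelocWeak.mem_singularIdeal_of_forall
  intro Q _ hbQ
  exact hsm (show (⟨Q, inferInstance⟩ : PrimeSpectrum B) ∈ PrimeSpectrum.basicOpen b from hbQ)

theorem core {R A D Λ : Type u} [CommRing R] [CommRing A] [Algebra R A]
    [Algebra.FinitePresentation R A]
    [CommRing Λ] [Algebra R Λ] (φ : A →ₐ[R] Λ) (𝔮 : Ideal Λ) [𝔮.IsPrime]
    [CommRing D] [Algebra R D] [Algebra.FinitePresentation R D] (g : A →ₐ[R] D) (h : D →ₐ[R] Λ)
    (hgh : h.comp g = φ) (c : D) (hc : c ∈ Smoothing.singularIdeal R D) (hcq : h c ∉ 𝔮)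
    {r : ℕ} (a : Fin r → A) (ha : Ideal.span (Set.range a) = Smoothing.singularIdeal R A)
    (lam : Λ) (hlam : lam ∉ 𝔮) (Npow : ℕ) (hkill : ∀ i, lam * φ (a i) ^ Npow = 0) :
    Smoothing.Resolvable R φ 𝔮 := by
  letI : Algebra A D := g.toRingHom.toAlgebra
  haveI : IsScalarTower R A D := .of_algebraMap_eq fun x => (g.commutes x).symm
  letI : Algebra A Λ := φ.toRingHom.toAlgebra
  haveI : IsScalarTower R A Λ := .of_algebraMap_eq fun x => (φ.commutes x).symm
  have hAC : ∀ x : A, algebraMap A D x = g x := fun x => rfl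
  have hAΛ : ∀ x : A, algebraMap A Λ x = φ x := fun x => rfl
  let hA : D →ₐ[A] Λ :=
    { h.toRingHom with
      commutes' := fun x => by
        change h (g x) = φ x
        rw [← hgh]; rfl }
  have hhA : ∀ x, hA x = h x := fun x => rfl
  haveI : Algebra.FinitePresentation A D :=
    Algebra.FinitePresentation.of_restrict_scalars_finitePresentation R A D
  obtain ⟨n, ψ, hψ, hfg⟩ := Algebra.FinitePresentation.out (R := A) (A := D)
  obtain ⟨m, f, hf⟩ := Submodule.fg_iff_exists_fin_generating_family.mp hfg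
  have hker : RingHom.ker ψ.toRingHom = Ideal.span (Set.range f) := hf.symm
  obtain ⟨c', hc'⟩ := hψ c
  have hψf : ∀ j, ψ (f j) = 0 := by
    intro j
    have : f j ∈ RingHom.ker ψ.toRingHom := by rw [hker]; exact Ideal.subset_span ⟨j, rfl⟩
    exact this
  -- the map `B → Λ`
  let vΛ : Idx n r m → Λ := Sum.elim (fun i => h (ψ (X i)))
    (Sum.elim (fun i => φ (a i) ^ Npow) (Sum.elim (fun _ => lam) (fun _ => 0)))
  let hB₀ : MvPolynomial (Idx n r m) A →ₐ[A] Λ := aeval vΛ
  have hB₀x : ∀ p : MvPolynomial (Fin n) A, hB₀ (rename Sum.inl p) = h (ψ p) := by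
    intro p
    have e : (aeval (vΛ ∘ Sum.inl) : MvPolynomial (Fin n) A →ₐ[A] Λ) = hA.comp ψ := by
      apply MvPolynomial.algHom_ext
      intro i
      rw [aeval_X]
      rfl
    change aeval vΛ (rename Sum.inl p) = _
    rw [aeval_rename, e]
    rfl
  have hB₀y : ∀ i, hB₀ (X (iy i)) = φ (a i) ^ Npow := fun i => aeval_X _ _
  have hB₀z : hB₀ (X iz) = lam := aeval_X _ _
  have hB₀t : ∀ i j, hB₀ (X (it i j)) = 0 := fun i j => aeval_X _ _
  have hB₀rel : ∀ p ∈ Ideal.span (rels f r), hB₀ p = 0 := by
    have : Ideal.span (rels f r) ≤ RingHom.ker hB₀.toRingHom := by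
      rw [Ideal.span_le]
      rintro p (⟨j, rfl⟩ | ⟨i, rfl⟩)
      · change hB₀ (Frel f r j) = 0
        rw [Frel, map_sub, hB₀x, hψf, map_zero, map_sum, zero_sub, neg_eq_zero]
        apply Finset.sum_eq_zero
        intro i _
        rw [map_mul, hB₀t, mul_zero]
      · change hB₀ (Grel A n m i) = 0
        rw [Grel, map_mul, hB₀z, hB₀y, hkill]
    exact fun p hp => this hp
  let hB : Bq f r →ₐ[A] Λ := Ideal.Quotient.liftₐ (Ideal.span (rels f r)) hB₀ hB₀rel
  have hBmk : ∀ p, hB (Ideal.Quotient.mk _ p) = hB₀ p := fun p => rfl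
  let gB : A →ₐ[R] Bq f r := IsScalarTower.toAlgHom R A (Bq f r)
  let hBR : Bq f r →ₐ[R] Λ := hB.restrictScalars R
  have hcomp : hBR.comp gB = φ := by
    apply AlgHom.ext
    intro x
    change hB (algebraMap A _ x) = φ x
    rw [hB.commutes]
    rfl
  have hfpB : Algebra.FinitePresentation R (Bq f r) := by
    haveI : Algebra.FinitePresentation A (Bq f r) :=
      Algebra.FinitePresentation.quotient
        (Submodule.fg_span ((Set.finite_range _).union (Set.finite_range _)))
    exact Algebra.FinitePresentation.trans R A (Bq f r)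
  -- the two families of elements of the singular ideal
  have hb₁ : Ideal.Quotient.mk (Ideal.span (rels f r)) (X iz * rename Sum.inl c') ∈
      Smoothing.singularIdeal R (Bq f r) := by
    haveI : Algebra.FormallySmooth R (Localization.Away (ψ c')) :=
      (DelocWeak.smooth_away_of_mem_singularIdeal (ψ c') (hc'.symm ▸ hc)).formallySmooth
    haveI := formallySmooth_z (R := R) r f ψ hψ hker c'
    exact mem_singularIdeal_of_formallySmooth_away _
  have hb₂ : ∀ ℓ : Fin r, Ideal.Quotient.mk (Ideal.span (rels f r)) (C (a ℓ) * X (iy ℓ)) ∈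
      Smoothing.singularIdeal R (Bq f r) := by
    intro ℓ
    haveI : Algebra.FormallySmooth R (Localization.Away (a ℓ)) :=
      (DelocWeak.smooth_away_of_mem_singularIdeal (a ℓ)
        (ha ▸ Ideal.subset_span ⟨ℓ, rfl⟩)).formallySmooth
    haveI := formallySmooth_y (R := R) r f (a ℓ) ℓ
    exact mem_singularIdeal_of_formallySmooth_away _
  refine ⟨Bq f r, inferInstance, inferInstance, hfpB, gB, hBR, hcomp, ?_, ?_⟩
  · unfold Smoothing.singRad
    rw [Ideal.radical_le_radical_iff, ← ha, Ideal.map_span, Ideal.span_le]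
    rintro _ ⟨_, ⟨ℓ, rfl⟩, rfl⟩
    refine ⟨Npow + 1, ?_⟩
    have e : hBR (Ideal.Quotient.mk (Ideal.span (rels f r)) (C (a ℓ) * X (iy ℓ))) =
        φ (a ℓ) ^ (Npow + 1) := by
      change hB (Ideal.Quotient.mk _ _) = _
      rw [hBmk, map_mul, hB₀y, pow_succ']
      congr 1
      change aeval vΛ (C (a ℓ)) = _
      rw [aeval_C]
      rfl
    change φ (a ℓ) ^ (Npow + 1) ∈ _
    rw [← e]
    exact Ideal.mem_map_of_mem _ (hb₂ ℓ)
  · intro hle
    have hmem : hBR (Ideal.Quotient.mk (Ideal.span (rels f r)) (X iz * rename Sum.inl c')) ∈ 𝔮 :=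
      hle (Ideal.le_radical (Ideal.mem_map_of_mem _ hb₁))
    have e : hBR (Ideal.Quotient.mk (Ideal.span (rels f r)) (X iz * rename Sum.inl c')) =
        lam * h c := by
      change hB (Ideal.Quotient.mk _ _) = _
      rw [hBmk, map_mul, hB₀z, hB₀x, hc']
    rw [e] at hmem
    exact (Ideal.IsPrime.mem_or_mem ‹_› hmem).elim hlam hcq

theorem main {R A Λ Rₚ Λq : Type u} [CommRing R] [IsNoetherianRing R] [CommRing A]
    [Algebra R A] [Algebra.FinitePresentation R A] [CommRing Λ] [Algebra R Λ] (φ : A →ₐ[R] Λ)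
    (𝔮 : Ideal Λ) [𝔮.IsPrime] (hmin : 𝔮 ∈ (Smoothing.singRad R φ).minimalPrimes)
    [CommRing Rₚ] [Algebra R Rₚ] [IsLocalization.AtPrime Rₚ (𝔮.comap (algebraMap R Λ))]
    [CommRing Λq] [Algebra Λ Λq] [IsLocalization.AtPrime Λq 𝔮] [Algebra R Λq] [IsScalarTower R Λ Λq]
    [Algebra Rₚ Λq] [IsScalarTower R Rₚ Λq] (hdim : ringKrullDim Λq = 0)
    (hres : Smoothing.Resolvable Rₚ
      (Algebra.TensorProduct.lift (Algebra.ofId Rₚ Λq) ((IsScalarTower.toAlgHom R Λ Λq).comp φ)
        (fun _ _ => Commute.all _ _) : Rₚ ⊗[R] A →ₐ[Rₚ] Λq) (𝔮.map (algebraMap Λ Λq))) :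
    Smoothing.Resolvable R φ 𝔮 := by
  classical
  obtain ⟨C, _, _, hfpC, g, h, hgh, hnot⟩ := DelocWeak.main φ 𝔮 hres
  rw [Ideal.map_le_iff_le_comap, SetLike.not_le_iff_exists] at hnot
  obtain ⟨c, hc, hcq⟩ := hnot
  haveI : IsNoetherianRing A := Algebra.FiniteType.isNoetherianRing R A
  obtain ⟨r, a, ha⟩ := Submodule.fg_iff_exists_fin_generating_family.mp
    ((isNoetherianRing_iff_ideal_fg A).mp inferInstance (Smoothing.singularIdeal R A))
  have haq : ∀ i, φ (a i) ∈ 𝔮 := fun i =>
    hmin.1.2 (Ideal.le_radical (Ideal.mem_map_of_mem _ (ha ▸ Ideal.subset_span ⟨i, rfl⟩)))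
  haveI : IsLocalRing Λq := IsLocalization.AtPrime.isLocalRing Λq 𝔮
  haveI : Ring.KrullDimLE 0 Λq := ringKrullDimZero_iff_ringKrullDim_eq_zero.mpr hdim
  have hnil := ((Ring.krullDimLE_zero_and_isLocalRing_tfae Λq).out 0 2 rfl rfl).mp ⟨‹_›, ‹_›⟩
  have hex : ∀ i, ∃ (k : ℕ) (s : Λ), s ∉ 𝔮 ∧ s * φ (a i) ^ k = 0 := by
    intro i
    have hnu : ¬ IsUnit (algebraMap Λ Λq (φ (a i))) := by
      rw [← mem_nonunits_iff, ← IsLocalRing.mem_maximalIdeal]
      exact (IsLocalization.AtPrime.to_map_mem_maximal_iff Λq 𝔮 _).mpr (haq i)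
    obtain ⟨k, hk⟩ := (hnil _).mpr hnu
    rw [← map_pow, IsLocalization.map_eq_zero_iff 𝔮.primeCompl] at hk
    obtain ⟨s, hs⟩ := hk
    exact ⟨k, s, s.2, hs⟩
  choose k s hs hks using hex
  refine core φ 𝔮 g h hgh c hc hcq a ha (∏ i, s i) ?_ (∑ i, k i) ?_
  · intro hmem
    rw [Ideal.IsPrime.prod_mem_iff] at hmem
    obtain ⟨i, -, hi⟩ := hmem
    exact hs i hi
  · intro i
    have h1 : s i * φ (a i) ^ k i ∣ (∏ i, s i) * φ (a i) ^ (∑ i, k i) :=
      mul_dvd_mul (Finset.dvd_prod_of_mem s (Finset.mem_univ i))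
        (pow_dvd_pow _ (Finset.single_le_sum (fun _ _ => Nat.zero_le _) (Finset.mem_univ i)))
    rw [hks] at h1
    exact zero_dvd_iff.mp h1

end Groth.Agent.Lib.R2H4.ResDimZero
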