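import Mathlib
import Groth.Prelude.Def_Smoothing

/-!
# Geometrically reduced field extensions are ind-smooth (helper4, round 2)

* `linearIndepOn_pow`: in characteristic `p`, a geometrically reduced field extension keeps
  linearly independent families independent after taking `p`-th powers.
* `formallySmooth_of_geomReduced`: finitely generated geometrically reduced field extensions are
  formally smooth (via Mathlib's separating transcendence bases).
* `indSmooth_of_geomReduced`, `indSmooth_of_isField`: any geometrically reduced field extension is
  ind-smooth in the factorization sense of `Smoothing.IndSmooth`.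
-/

set_option autoImplicit false
set_option linter.style.haveILetI false
set_option linter.unusedSimpArgs false
set_option linter.unusedSectionVars false
universe u

namespace Groth.Agent.Lib.R2H4.SepField
section Part1

open TensorProduct

section LinIndep

variable {k K : Type*} [Field k] [Field K] [Algebra k K]

/-- geometrically reduced ⇒ `p`-th powers of linearly independent elements stay independent -/
theorem linearIndepOn_pow (p : ℕ) (hp : p.Prime) [CharP k p]
    [Algebra.IsGeometricallyReduced k K]
    (s : Finset K) (hs : LinearIndepOn k _root_.id (s : Set K)) :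
    LinearIndepOn k (· ^ p) (s : Set K) := by
  classical
  haveI : Fact p.Prime := ⟨hp⟩
  let Ω := AlgebraicClosure k
  let T := Ω ⊗[k] K
  haveI hred : IsReduced T := (Algebra.isGeometricallyReduced_field_iff k K).mp inferInstance
  haveI : Nontrivial T :=
    (Algebra.TensorProduct.includeRight_injective (R := k) (A := Ω) (B := K)
      (RingHom.injective _)).nontrivial
  haveI : CharP Ω p := charP_of_injective_algebraMap (algebraMap k Ω).injective p
  haveI : CharP T p := charP_of_injective_algebraMap (algebraMap Ω T).injective p
  have hli : LinearIndependent Ω (fun i : (s : Set K) => (1 : Ω) ⊗ₜ[k] (i : K)) :=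
    Module.Flat.linearIndependent_one_tmul (S := Ω) hs
  change LinearIndependent k (fun i : (s : Set K) => (i : K) ^ p)
  rw [Fintype.linearIndependent_iff]
  intro g hg
  have hroot : ∀ i, ∃ z : Ω, z ^ p = algebraMap k Ω (g i) := fun i =>
    IsAlgClosed.exists_pow_nat_eq _ hp.pos
  choose r hr using hroot
  let t : T := ∑ i, r i ⊗ₜ[k] (i : K)
  have ht : t ^ p = 0 := by
    change (∑ i, r i ⊗ₜ[k] ((i : (s : Set K)) : K)) ^ p = 0
    rw [sum_pow_char]
    have e1 : ∀ i : (s : Set K), (r i ⊗ₜ[k] (i : K)) ^ p = (1 : Ω) ⊗ₜ[k] (g i • (i : K) ^ p) := by
      intro i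
      rw [Algebra.TensorProduct.tmul_pow, hr, Algebra.algebraMap_eq_smul_one, TensorProduct.smul_tmul]
    rw [Finset.sum_congr rfl (fun i _ => e1 i), ← TensorProduct.tmul_sum, hg,
      TensorProduct.tmul_zero]
  have ht0 : t = 0 := IsNilpotent.eq_zero ⟨p, ht⟩
  have ht' : ∑ i, r i • ((1 : Ω) ⊗ₜ[k] ((i : (s : Set K)) : K)) = 0 := by
    rw [← ht0]
    refine Finset.sum_congr rfl fun i _ => ?_
    rw [TensorProduct.smul_tmul', smul_eq_mul, mul_one]
  have hr0 := Fintype.linearIndependent_iff.mp hli r ht'
  intro i
  have h1 : algebraMap k Ω (g i) = 0 := by rw [← hr, hr0 i, zero_pow hp.ne_zero]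
  exact (map_eq_zero _).mp h1

end LinIndep

section FS

variable {k K : Type*} [Field k] [Field K] [Algebra k K]

/-- a finitely generated geometrically reduced field extension is formally smooth -/
theorem formallySmooth_of_geomReduced [Algebra.EssFiniteType k K]
    [Algebra.IsGeometricallyReduced k K] : Algebra.FormallySmooth k K := by
  obtain _ | ⟨p, hp, hpk⟩ := CharP.exists' k
  · infer_instance
  · have : ExpChar k p := .prime hp.out
    obtain ⟨s, hs, H⟩ :=
      exists_isTranscendenceBasis_and_isSeparable_of_linearIndepOn_pow_of_essFiniteType
        (k := k) (K := K) p hp.out (fun s hs => linearIndepOn_pow p hp.out s hs)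
    have : Algebra.IsSeparable (↥(IntermediateField.adjoin k (Set.range ((↑) : s → K)))) K := by
      convert! H <;> simp
    exact .of_algebraicIndependent_of_isSeparable hs.1

end FS

section Ind

open scoped IntermediateField.algebraAdjoinAdjoin in
/-- a geometrically reduced field extension is ind-smooth -/
theorem indSmooth_of_geomReduced {k K : Type u} [Field k] [Field K] [Algebra k K]
    [Algebra.IsGeometricallyReduced k K] : Smoothing.IndSmooth k K := by
  classical
  intro A _ _ hfp f
  haveI := hfp
  let s : Set K := Set.range f
  let A' : Subalgebra k K := Algebra.adjoin k s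
  let K' : IntermediateField k K := IntermediateField.adjoin k s
  have hA'eq : A' = f.range := by
    change Algebra.adjoin k (Set.range f) = f.range
    rw [← AlgHom.coe_range, Algebra.adjoin_eq]
  have hfA' : ∀ a, f a ∈ A' := fun a => Algebra.subset_adjoin ⟨a, rfl⟩
  let f' : A →ₐ[k] A' := f.codRestrict A' hfA'
  have hf'surj : Function.Surjective f' := by
    rintro ⟨x, hx⟩
    rw [hA'eq] at hx
    obtain ⟨a, rfl⟩ := hx
    exact ⟨a, Subtype.ext rfl⟩
  haveI : Algebra.FiniteType k A' := Algebra.FiniteType.of_surjective f' hf'surj
  haveI : Algebra.FinitePresentation k A' :=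
    Algebra.FinitePresentation.of_finiteType.mp inferInstance
  haveI : Algebra.EssFiniteType A' K' := Algebra.EssFiniteType.of_isLocalization K' (nonZeroDivisors A')
  haveI : Algebra.EssFiniteType k K' := Algebra.EssFiniteType.comp k A' K'
  haveI : Algebra.IsGeometricallyReduced k K' :=
    Algebra.IsGeometricallyReduced.of_injective K'.val K'.val.injective
  haveI : Algebra.FormallySmooth k K' := formallySmooth_of_geomReduced
  haveI hloc : IsLocalization (⊥ : Ideal A').primeCompl K' := by
    rw [Ideal.primeCompl_bot]
    infer_instance
  haveI hsm : Algebra.IsSmoothAt k (⊥ : Ideal A') := by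
    change Algebra.FormallySmooth k (Localization.AtPrime (⊥ : Ideal A'))
    exact Algebra.FormallySmooth.of_equiv
      ((IsLocalization.algEquiv (⊥ : Ideal A').primeCompl K'
        (Localization.AtPrime (⊥ : Ideal A'))).restrictScalars k)
  obtain ⟨g, hg, hgsm⟩ := Algebra.IsSmoothAt.exists_notMem_smooth k (⊥ : Ideal A')
  have hg0 : (g : K) ≠ 0 := fun h => hg (by
    rw [Ideal.mem_bot]
    exact Subtype.ext h)
  have hu : IsUnit (A'.val g) := by
    change IsUnit (g : K)
    exact isUnit_iff_ne_zero.mpr hg0
  let h₀ : Localization.Away g →ₐ[k] K :=
    { toRingHom := IsLocalization.Away.lift g (g := A'.val.toRingHom) hu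
      commutes' := fun r => by
        change IsLocalization.Away.lift g hu (algebraMap k (Localization.Away g) r) = _
        rw [IsScalarTower.algebraMap_apply k A' (Localization.Away g),
          IsLocalization.Away.lift_eq]
        rfl }
  refine ⟨Localization.Away g, inferInstance, inferInstance, hgsm,
    (IsScalarTower.toAlgHom k A' (Localization.Away g)).comp f', h₀, ?_⟩
  ext a
  change IsLocalization.Away.lift g hu (algebraMap A' (Localization.Away g) (f' a)) = f a
  rw [IsLocalization.Away.lift_eq]
  rfl

/-- variant for a commutative ring which happens to be a field -/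
theorem indSmooth_of_isField {k K : Type u} [Field k] [CommRing K] [Algebra k K] (hK : IsField K)
    [Algebra.IsGeometricallyReduced k K] : Smoothing.IndSmooth k K := by
  letI := hK.toField
  exact indSmooth_of_geomReduced

end Ind

end Part1

end Groth.Agent.Lib.R2H4.SepField
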