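import Mathlib
import Groth.Prelude.Def_Smoothing
import Groth.Agent.Lib.R2H4IndSmoothNil
import Groth.Agent.Lib.R2H4ResDimZero
import Groth.Agent.Lib.R2H4SepField
import Groth.Agent.Lib.R2H4PolyArt

/-!
# The Artinian case of the resolution problem (helper4, round 2)

* `resolvable_of_indSmooth`: an ind-smooth target can always be resolved.
* `artinRes`: `R₀` Noetherian with a nilpotent maximal ideal `𝔪₀`, `Λq` a model of `(Λ₀)_𝔮₀` flat over
  `R₀` with `𝔮₀ Λq ⊆ 𝔪₀ Λq` and ind-smooth residue extension ⇒ every `R₀ → C₀ → Λ₀ ⊇ 𝔮₀` resolves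
  (S2022 + S2034).
* `indSmooth_residue`: the residue extension hypothesis from geometric reducedness.
* `isLocalization_quotient`: a quotient of a localization at a prime is the localization of the
  quotient.
* `art`: the Artinian problem over `k[x]/K`; `dim_zero_case`: the case `dim Λ_𝔮 = 0`.
-/

set_option autoImplicit false
set_option linter.style.haveILetI false
set_option linter.unusedSimpArgs false
set_option linter.unusedSectionVars false
universe u

namespace Groth.Agent.Lib.R2H4.ArtinRes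
section Part1

open TensorProduct

theorem singularIdeal_eq_top_of_smooth {R B : Type u} [CommRing R] [CommRing B] [Algebra R B]
    [Algebra.Smooth R B] : Smoothing.singularIdeal R B = ⊤ := by
  rw [Smoothing.singularIdeal, Algebra.smoothLocus_eq_univ, Set.compl_univ,
    PrimeSpectrum.vanishingIdeal_empty]

/-- an ind-smooth target can always be resolved -/
theorem resolvable_of_indSmooth {R A Λ : Type u} [CommRing R] [CommRing A] [Algebra R A]
    [Algebra.FinitePresentation R A] [CommRing Λ] [Algebra R Λ] (h : Smoothing.IndSmooth R Λ)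
    (φ : A →ₐ[R] Λ) (𝔮 : Ideal Λ) (h𝔮 : 𝔮 ≠ ⊤) : Smoothing.Resolvable R φ 𝔮 := by
  obtain ⟨B, _, _, hsm, g, hh, hcomp⟩ := h A inferInstance φ
  haveI := hsm
  have htop : Smoothing.singRad R hh = ⊤ := by
    rw [Smoothing.singRad, singularIdeal_eq_top_of_smooth, Ideal.map_top, Ideal.radical_top]
  refine ⟨B, inferInstance, inferInstance, hsm.2, g, hh, hcomp, ?_, ?_⟩
  · rw [htop]
    exact le_top
  · rw [htop]
    exact fun hle => h𝔮 (top_le_iff.mp hle)

/-- the Artinian case of the resolution problem -/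
theorem artinRes {R₀ Λ₀ Λq : Type u} [CommRing R₀] [IsNoetherianRing R₀] [CommRing Λ₀]
    [Algebra R₀ Λ₀] (𝔪₀ : Ideal R₀) [h𝔪 : 𝔪₀.IsMaximal] (hnil : IsNilpotent 𝔪₀)
    (𝔮₀ : Ideal Λ₀) [𝔮₀.IsPrime]
    [CommRing Λq] [Algebra Λ₀ Λq] [IsLocalization.AtPrime Λq 𝔮₀] [Algebra R₀ Λq]
    [IsScalarTower R₀ Λ₀ Λq] [Module.Flat R₀ Λq]
    (hmax : ∀ x : Λ₀, x ∈ 𝔮₀ → algebraMap Λ₀ Λq x ∈ 𝔪₀.map (algebraMap R₀ Λq))
    (hind : Smoothing.IndSmooth (R₀ ⧸ 𝔪₀) (Λq ⧸ 𝔪₀.map (algebraMap R₀ Λq)))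
    {C₀ : Type u} [CommRing C₀] [Algebra R₀ C₀] [Algebra.FinitePresentation R₀ C₀]
    (ψ₀ : C₀ →ₐ[R₀] Λ₀) : Smoothing.Resolvable R₀ ψ₀ 𝔮₀ := by
  classical
  have hIS : Smoothing.IndSmooth R₀ Λq := IndSmoothNil.main 𝔪₀ hnil hind
  by_cases hle : Smoothing.singRad R₀ ψ₀ ≤ 𝔮₀
  swap
  · exact ⟨C₀, inferInstance, inferInstance, inferInstance, AlgHom.id R₀ C₀, ψ₀,
      AlgHom.comp_id ψ₀, le_rfl, hle⟩
  obtain ⟨N, hN⟩ := hnil
  haveI : IsLocalRing Λq := IsLocalization.AtPrime.isLocalRing Λq 𝔮₀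
  have hmaxeq : 𝔮₀.map (algebraMap Λ₀ Λq) = IsLocalRing.maximalIdeal Λq :=
    IsLocalization.AtPrime.map_eq_maximalIdeal 𝔮₀ Λq
  have hmle : IsLocalRing.maximalIdeal Λq ≤ 𝔪₀.map (algebraMap R₀ Λq) := by
    rw [← hmaxeq, Ideal.map_le_iff_le_comap]
    exact fun x hx => hmax x hx
  have hpow : IsLocalRing.maximalIdeal Λq ^ N = ⊥ := by
    rw [eq_bot_iff]
    calc IsLocalRing.maximalIdeal Λq ^ N ≤ (𝔪₀.map (algebraMap R₀ Λq)) ^ N :=
          Ideal.pow_right_mono hmle N
      _ = (𝔪₀ ^ N).map (algebraMap R₀ Λq) := (Ideal.map_pow _ _ _).symm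
      _ = ⊥ := by rw [hN, Ideal.zero_eq_bot, Ideal.map_bot]
  haveI : Ring.KrullDimLE 0 Λq := by
    refine Ring.KrullDimLE.mk₀ fun P hP => ?_
    have h1 : IsLocalRing.maximalIdeal Λq ≤ P :=
      hP.le_of_pow_le (n := N) (by rw [hpow]; exact bot_le)
    rw [← (IsLocalRing.maximalIdeal.isMaximal Λq).eq_of_le hP.ne_top h1]
    exact IsLocalRing.maximalIdeal.isMaximal Λq
  have hdim : ringKrullDim Λq = 0 := ringKrullDimZero_iff_ringKrullDim_eq_zero.mp inferInstance
  -- `𝔮₀` is a minimal prime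
  have hmin : 𝔮₀ ∈ (Smoothing.singRad R₀ ψ₀).minimalPrimes := by
    refine ⟨⟨inferInstance, hle⟩, ?_⟩
    rintro P ⟨hP, _⟩ hPq
    haveI := hP
    have hdisj : Disjoint (𝔮₀.primeCompl : Set Λ₀) (P : Set Λ₀) := by
      rw [Set.disjoint_left]
      intro x hx hxP
      exact hx (hPq hxP)
    haveI hPm : (P.map (algebraMap Λ₀ Λq)).IsPrime :=
      IsLocalization.isPrime_of_isPrime_disjoint 𝔮₀.primeCompl Λq P hP hdisj
    have h1 : P.map (algebraMap Λ₀ Λq) = IsLocalRing.maximalIdeal Λq :=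
      Ring.KrullDimLE.eq_maximalIdeal_of_isPrime _
    have h2 : (P.map (algebraMap Λ₀ Λq)).comap (algebraMap Λ₀ Λq) = P :=
      IsLocalization.under_map_of_isPrime_disjoint 𝔮₀.primeCompl Λq hP hdisj
    have h3 : (IsLocalRing.maximalIdeal Λq).comap (algebraMap Λ₀ Λq) = 𝔮₀ :=
      IsLocalization.AtPrime.under_maximalIdeal Λq 𝔮₀
    rw [← h2, h1, h3]
  -- `R₀` is local with maximal ideal `𝔪₀`
  have hprime : ∀ P : Ideal R₀, P.IsPrime → 𝔪₀ ≤ P := fun P hP =>
    hP.le_of_pow_le (n := N) (by rw [hN]; exact bot_le)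
  haveI : IsLocalization.AtPrime R₀ (𝔮₀.comap (algebraMap R₀ Λ₀)) := by
    have h𝔭 : 𝔮₀.comap (algebraMap R₀ Λ₀) = 𝔪₀ :=
      (h𝔪.eq_of_le (Ideal.IsPrime.ne_top inferInstance) (hprime _ inferInstance)).symm
    refine IsLocalization.of_le_isUnit ?_
    intro s hs
    change IsUnit s
    have hs' : s ∉ 𝔪₀ := fun h => hs (h𝔭 ▸ h)
    by_contra hns
    obtain ⟨M, hM, hsM⟩ := exists_max_ideal_of_mem_nonunits hns
    have : M = 𝔪₀ := (h𝔪.eq_of_le hM.ne_top (hprime M hM.isPrime)).symm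
    exact hs' (this ▸ hsM)
  refine ResDimZero.main (Rₚ := R₀) (Λq := Λq) ψ₀ 𝔮₀ hmin hdim ?_
  refine resolvable_of_indSmooth hIS _ _ ?_
  rw [hmaxeq]
  exact Ideal.IsPrime.ne_top inferInstance

end Part1

section Part2

open TensorProduct

/-- ind-smoothness of the residue extension, transported to the quotient rings -/
theorem indSmooth_residue {k R₀ Λq κ : Type u} [Field k] [CommRing R₀] [Algebra k R₀]
    (𝔪₀ : Ideal R₀)
    (hbij : Function.Bijective ((Ideal.Quotient.mk 𝔪₀).comp (algebraMap k R₀)))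
    [CommRing Λq] [Algebra R₀ Λq] [Algebra k Λq] [IsScalarTower k R₀ Λq]
    (hmaxl : (𝔪₀.map (algebraMap R₀ Λq)).IsMaximal)
    [Field κ] [Algebra k κ] [Algebra.IsGeometricallyReduced k κ]
    (ρ : Λq →ₐ[k] κ) (hρ : ∀ x ∈ 𝔪₀.map (algebraMap R₀ Λq), ρ x = 0) :
    Smoothing.IndSmooth (R₀ ⧸ 𝔪₀) (Λq ⧸ 𝔪₀.map (algebraMap R₀ Λq)) := by
  set J := 𝔪₀.map (algebraMap R₀ Λq) with hJ
  have hF : IsField (Λq ⧸ J) := (Ideal.Quotient.maximal_ideal_iff_isField_quotient J).mp hmaxl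
  let ρb : (Λq ⧸ J) →ₐ[k] κ := Ideal.Quotient.liftₐ J ρ hρ
  have hinj : Function.Injective ρb := by
    letI := hF.toField
    exact ρb.toRingHom.injective
  haveI : Algebra.IsGeometricallyReduced k (Λq ⧸ J) :=
    Algebra.IsGeometricallyReduced.of_injective ρb hinj
  have H : Smoothing.IndSmooth k (Λq ⧸ J) := SepField.indSmooth_of_isField hF
  let e : k ≃+* R₀ ⧸ 𝔪₀ := RingEquiv.ofBijective _ hbij
  refine IndSmoothNil.indSmooth_of_ringEquiv e (RingEquiv.refl (Λq ⧸ J)) ?_ H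
  intro r
  change algebraMap k (Λq ⧸ J) r = algebraMap (R₀ ⧸ 𝔪₀) (Λq ⧸ J) (Ideal.Quotient.mk 𝔪₀ (algebraMap k R₀ r))
  rw [IsScalarTower.algebraMap_apply k Λq (Λq ⧸ J), IsScalarTower.algebraMap_apply k R₀ Λq]
  rfl

end Part2

section Part3

open MvPolynomial IsLocalRing

section LocQuot

variable {Λ S : Type*} [CommRing Λ] [CommRing S] [Algebra Λ S]

/-- the quotient of a localization at a prime is the localization of the quotient -/
theorem isLocalization_quotient (𝔮 : Ideal Λ) [𝔮.IsPrime] [IsLocalization.AtPrime S 𝔮]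
    (J : Ideal Λ) (hJ : J ≤ 𝔮) (J' : Ideal S) (hJ' : J' = J.map (algebraMap Λ S))
    [Algebra (Λ ⧸ J) (S ⧸ J')]
    (halg : ∀ x, algebraMap (Λ ⧸ J) (S ⧸ J') (Ideal.Quotient.mk J x) =
      Ideal.Quotient.mk J' (algebraMap Λ S x))
    [h𝔮' : (𝔮.map (Ideal.Quotient.mk J)).IsPrime] :
    IsLocalization.AtPrime (S ⧸ J') (𝔮.map (Ideal.Quotient.mk J)) := by
  have h1 : IsLocalization (𝔮.primeCompl.map (Ideal.Quotient.mk J)) (S ⧸ J') := by
    refine IsLocalization.of_surjective 𝔮.primeCompl S (Ideal.Quotient.mk J)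
      Ideal.Quotient.mk_surjective (Ideal.Quotient.mk J') Ideal.Quotient.mk_surjective ?_ ?_
    · ext x
      exact (halg x).symm
    · rw [Ideal.mk_ker, Ideal.mk_ker, hJ']
  have h2 : 𝔮.primeCompl.map (Ideal.Quotient.mk J) = (𝔮.map (Ideal.Quotient.mk J)).primeCompl := by
    ext y
    constructor
    · rintro ⟨x, hx, rfl⟩
      intro hmem
      replace hmem : Ideal.Quotient.mk J x ∈ 𝔮.map (Ideal.Quotient.mk J) := hmem
      rw [Ideal.mem_map_iff_of_surjective _ Ideal.Quotient.mk_surjective] at hmem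
      obtain ⟨z, hz, hzx⟩ := hmem
      have h3 : x - z ∈ J := by
        rw [← Ideal.Quotient.eq_zero_iff_mem, map_sub]
        exact sub_eq_zero.mpr hzx.symm
      have : x ∈ 𝔮 := by
        have e : x = (x - z) + z := by ring
        rw [e]
        exact 𝔮.add_mem (hJ h3) hz
      exact hx this
    · intro hy
      obtain ⟨x, rfl⟩ := Ideal.Quotient.mk_surjective y
      exact ⟨x, fun hx => hy (Ideal.mem_map_of_mem _ hx), rfl⟩
  change IsLocalization (𝔮.map (Ideal.Quotient.mk J)).primeCompl (S ⧸ J')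
  rw [← h2]
  exact h1

end LocQuot

section Art

variable {k : Type u} [Field k] {d : ℕ}

local notation "Rk" => MvPolynomial (Fin d) k

/-- the Artinian problem `R/K → C₀ → Λ/KΛ ⊇ 𝔮/KΛ` over a polynomial ring can be resolved -/
theorem art (K : Ideal (MvPolynomial (Fin d) k)) (hK : K ≤ PolyArt.mm k d)
    (hnil : ∀ i : Fin d, ∃ N : ℕ, (X i : MvPolynomial (Fin d) k) ^ N ∈ K)
    {Λ : Type u} [CommRing Λ] [Algebra k Λ] [Algebra (MvPolynomial (Fin d) k) Λ]
    [IsScalarTower k (MvPolynomial (Fin d) k) Λ]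
    (𝔮 : Ideal Λ) [𝔮.IsPrime] [IsRegularLocalRing (Localization.AtPrime 𝔮)]
    (hd : ringKrullDim (Localization.AtPrime 𝔮) = d)
    (hx : Ideal.span (Set.range fun i => algebraMap Λ (Localization.AtPrime 𝔮)
        (algebraMap (MvPolynomial (Fin d) k) Λ (X i))) =
      𝔮.map (algebraMap Λ (Localization.AtPrime 𝔮)))
    [Algebra.IsGeometricallyReduced k 𝔮.ResidueField]
    {C₀ : Type u} [CommRing C₀] [Algebra (MvPolynomial (Fin d) k ⧸ K) C₀]
    [Algebra.FinitePresentation (MvPolynomial (Fin d) k ⧸ K) C₀]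
    (ψ₀ : C₀ →ₐ[MvPolynomial (Fin d) k ⧸ K]
      (Λ ⧸ K.map (algebraMap (MvPolynomial (Fin d) k) Λ))) :
    Smoothing.Resolvable (MvPolynomial (Fin d) k ⧸ K) ψ₀
      (𝔮.map (Ideal.Quotient.mk (K.map (algebraMap (MvPolynomial (Fin d) k) Λ)))) := by
  classical
  haveI : IsScalarTower k Rk (Localization.AtPrime 𝔮) := IsScalarTower.of_algebraMap_eq (fun c => by
    rw [IsScalarTower.algebraMap_apply k Λ (Localization.AtPrime 𝔮),
      IsScalarTower.algebraMap_apply k Rk Λ,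
      ← IsScalarTower.algebraMap_apply Rk Λ (Localization.AtPrime 𝔮)])
  have hmaxS : 𝔮.map (algebraMap Λ (Localization.AtPrime 𝔮)) =
      maximalIdeal (Localization.AtPrime 𝔮) := Localization.AtPrime.map_eq_maximalIdeal
  have hx' : Ideal.span (Set.range fun i => algebraMap Rk (Localization.AtPrime 𝔮) (X i)) =
      maximalIdeal (Localization.AtPrime 𝔮) := by
    rw [← hmaxS, ← hx]
    congr 2
  have hmmS : (PolyArt.mm k d).map (algebraMap Rk (Localization.AtPrime 𝔮)) =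
      maximalIdeal (Localization.AtPrime 𝔮) := by
    rw [PolyArt.mm, Ideal.map_span, ← Set.range_comp]
    exact hx'
  haveI : Module.Flat Rk (Localization.AtPrime 𝔮) := PolyArt.flat_of_regular hd hx'
  have hX𝔮 : ∀ i, algebraMap Rk Λ (X i) ∈ 𝔮 := fun i => by
    rw [← IsLocalization.AtPrime.to_map_mem_maximal_iff (Localization.AtPrime 𝔮) 𝔮, ← hmaxS, ← hx]
    exact Ideal.subset_span ⟨i, rfl⟩
  have hmmΛ : (PolyArt.mm k d).map (algebraMap Rk Λ) ≤ 𝔮 := by
    rw [PolyArt.mm, Ideal.map_span, Ideal.span_le]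
    rintro _ ⟨_, ⟨i, rfl⟩, rfl⟩
    exact hX𝔮 i
  have hJΛ𝔮 : K.map (algebraMap Rk Λ) ≤ 𝔮 := (Ideal.map_mono hK).trans hmmΛ
  have hJS : K.map (algebraMap Rk (Localization.AtPrime 𝔮)) =
      (K.map (algebraMap Rk Λ)).map (algebraMap Λ (Localization.AtPrime 𝔮)) := by
    rw [Ideal.map_map, ← IsScalarTower.algebraMap_eq]
  haveI h𝔮' : (𝔮.map (Ideal.Quotient.mk (K.map (algebraMap Rk Λ)))).IsPrime :=
    Ideal.map_isPrime_of_surjective Ideal.Quotient.mk_surjective (by
      rw [Ideal.mk_ker]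
      exact hJΛ𝔮)
  have hcomap : K.map (algebraMap Rk Λ) ≤
      (K.map (algebraMap Rk (Localization.AtPrime 𝔮))).comap (algebraMap Λ (Localization.AtPrime 𝔮)) := by
    rw [hJS]
    exact Ideal.le_comap_map
  letI algΛS : Algebra (Λ ⧸ K.map (algebraMap Rk Λ))
      (Localization.AtPrime 𝔮 ⧸ K.map (algebraMap Rk (Localization.AtPrime 𝔮))) :=
    (Ideal.quotientMap (K.map (algebraMap Rk (Localization.AtPrime 𝔮)))
      (algebraMap Λ (Localization.AtPrime 𝔮)) hcomap).toAlgebra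
  have halg : ∀ x, algebraMap (Λ ⧸ K.map (algebraMap Rk Λ))
      (Localization.AtPrime 𝔮 ⧸ K.map (algebraMap Rk (Localization.AtPrime 𝔮)))
      (Ideal.Quotient.mk _ x) = Ideal.Quotient.mk _ (algebraMap Λ (Localization.AtPrime 𝔮) x) :=
    fun x => Ideal.quotientMap_mk
  haveI : IsScalarTower (Rk ⧸ K) (Λ ⧸ K.map (algebraMap Rk Λ))
      (Localization.AtPrime 𝔮 ⧸ K.map (algebraMap Rk (Localization.AtPrime 𝔮))) :=
    IsScalarTower.of_algebraMap_eq (fun r => by
      obtain ⟨r, rfl⟩ := Ideal.Quotient.mk_surjective r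
      change Ideal.Quotient.mk _ (algebraMap Rk (Localization.AtPrime 𝔮) r) =
        algebraMap (Λ ⧸ K.map (algebraMap Rk Λ)) _ (Ideal.Quotient.mk _ (algebraMap Rk Λ r))
      rw [halg, ← IsScalarTower.algebraMap_apply])
  haveI : IsLocalization.AtPrime
      (Localization.AtPrime 𝔮 ⧸ K.map (algebraMap Rk (Localization.AtPrime 𝔮)))
      (𝔮.map (Ideal.Quotient.mk (K.map (algebraMap Rk Λ)))) :=
    isLocalization_quotient 𝔮 _ hJΛ𝔮 _ hJS halg
  haveI : Module.Flat (Rk ⧸ K)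
      (Localization.AtPrime 𝔮 ⧸ K.map (algebraMap Rk (Localization.AtPrime 𝔮))) :=
    Module.Flat.of_linearEquiv
      (Algebra.TensorProduct.quotIdealMapEquivQuotTensor (Localization.AtPrime 𝔮) K).toLinearEquiv
  haveI hmax' : ((PolyArt.mm k d).map (Ideal.Quotient.mk K)).IsMaximal :=
    PolyArt.isMaximal_map K hK
  -- the extended maximal ideal
  have hmS : ((PolyArt.mm k d).map (Ideal.Quotient.mk K)).map (algebraMap (Rk ⧸ K)
      (Localization.AtPrime 𝔮 ⧸ K.map (algebraMap Rk (Localization.AtPrime 𝔮)))) =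
      (maximalIdeal (Localization.AtPrime 𝔮)).map (Ideal.Quotient.mk _) := by
    rw [← hmmS, Ideal.map_map, Ideal.map_map]
    rfl
  refine artinRes (Λq := Localization.AtPrime 𝔮 ⧸ K.map (algebraMap Rk (Localization.AtPrime 𝔮)))
    ((PolyArt.mm k d).map (Ideal.Quotient.mk K)) (PolyArt.isNilpotent_map K hnil)
    (𝔮.map (Ideal.Quotient.mk (K.map (algebraMap Rk Λ)))) ?_ ?_ ψ₀
  · intro y hy
    rw [Ideal.mem_map_iff_of_surjective _ Ideal.Quotient.mk_surjective] at hy
    obtain ⟨x, hx𝔮, rfl⟩ := hy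
    rw [halg, hmS]
    refine Ideal.mem_map_of_mem _ ?_
    rw [← hmaxS]
    exact Ideal.mem_map_of_mem _ hx𝔮
  · have hJSle : K.map (algebraMap Rk (Localization.AtPrime 𝔮)) ≤
        maximalIdeal (Localization.AtPrime 𝔮) := by
      rw [← hmmS]
      exact Ideal.map_mono hK
    let ρ₀ : Localization.AtPrime 𝔮 →ₐ[k] 𝔮.ResidueField :=
      IsScalarTower.toAlgHom k (Localization.AtPrime 𝔮) 𝔮.ResidueField
    have hρ₀ : ∀ x, ρ₀ x = 0 ↔ x ∈ maximalIdeal (Localization.AtPrime 𝔮) := fun x =>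
      IsLocalRing.residue_eq_zero_iff x
    let ρ : (Localization.AtPrime 𝔮 ⧸ K.map (algebraMap Rk (Localization.AtPrime 𝔮))) →ₐ[k]
        𝔮.ResidueField :=
      Ideal.Quotient.liftₐ _ ρ₀ (fun x hx => (hρ₀ x).mpr (hJSle hx))
    haveI : IsScalarTower k (Rk ⧸ K)
        (Localization.AtPrime 𝔮 ⧸ K.map (algebraMap Rk (Localization.AtPrime 𝔮))) := by
      have h := IsScalarTower.of_algebraMap_eq (R := k) (S := Rk ⧸ K)
        (A := Localization.AtPrime 𝔮 ⧸ K.map (algebraMap Rk (Localization.AtPrime 𝔮)))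
        (fun c => by
          change Ideal.Quotient.mk (K.map (algebraMap Rk (Localization.AtPrime 𝔮)))
              (algebraMap k (Localization.AtPrime 𝔮) c) =
            Ideal.Quotient.mk (K.map (algebraMap Rk (Localization.AtPrime 𝔮)))
              (algebraMap Rk (Localization.AtPrime 𝔮) (algebraMap k Rk c))
          rw [← IsScalarTower.algebraMap_apply])
      exact h
    refine indSmooth_residue (k := k) (κ := 𝔮.ResidueField)
      ((PolyArt.mm k d).map (Ideal.Quotient.mk K)) (PolyArt.bijective_residue K hK) ?_ ρ ?_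
    · rw [hmS]
      refine (Ideal.map_eq_top_or_isMaximal_of_surjective
        (f := Ideal.Quotient.mk (K.map (algebraMap Rk (Localization.AtPrime 𝔮))))
        Ideal.Quotient.mk_surjective
        (IsLocalRing.maximalIdeal.isMaximal (Localization.AtPrime 𝔮))).resolve_left ?_
      intro htop
      have h1 : (1 : Localization.AtPrime 𝔮 ⧸ K.map (algebraMap Rk (Localization.AtPrime 𝔮))) ∈
          (maximalIdeal (Localization.AtPrime 𝔮)).map (Ideal.Quotient.mk _) := by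
        rw [htop]
        trivial
      rw [← map_one (Ideal.Quotient.mk _),
        Ideal.mem_map_iff_of_surjective _ Ideal.Quotient.mk_surjective] at h1
      obtain ⟨z, hz, hz1⟩ := h1
      have h2 : z - 1 ∈ K.map (algebraMap Rk (Localization.AtPrime 𝔮)) := by
        rw [← Ideal.Quotient.eq_zero_iff_mem, map_sub, hz1, sub_self]
      have h3 : (1 : Localization.AtPrime 𝔮) ∈ maximalIdeal (Localization.AtPrime 𝔮) := by
        have e : (1 : Localization.AtPrime 𝔮) = z - (z - 1) := by ring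
        rw [e]
        exact Ideal.sub_mem _ hz (hJSle h2)
      exact (Ideal.ne_top_iff_one _).mp (IsLocalRing.maximalIdeal.isMaximal _).ne_top h3
    · intro y hy
      rw [hmS, Ideal.mem_map_iff_of_surjective _ Ideal.Quotient.mk_surjective] at hy
      obtain ⟨z, hz, rfl⟩ := hy
      change ρ₀ z = 0
      exact (hρ₀ z).mpr hz

end Art

section DimZero

/-- the case of a zero-dimensional regular local ring `Λ_𝔮` (a field) -/
theorem dim_zero_case {k A Λ : Type u} [Field k] [CommRing A] [Algebra k A]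
    [Algebra.FinitePresentation k A] [CommRing Λ] [Algebra k Λ] (φ : A →ₐ[k] Λ) (𝔮 : Ideal Λ)
    [𝔮.IsPrime] [IsRegularLocalRing (Localization.AtPrime 𝔮)]
    (hd : ringKrullDim (Localization.AtPrime 𝔮) = 0)
    [Algebra.IsGeometricallyReduced k 𝔮.ResidueField] : Smoothing.Resolvable k φ 𝔮 := by
  classical
  have hNoeth : IsNoetherianRing (Localization.AtPrime 𝔮) := inferInstance
  have hreg : ((maximalIdeal (Localization.AtPrime 𝔮)).spanFinrank : WithBot ℕ∞) =
      ringKrullDim (Localization.AtPrime 𝔮) := IsRegularLocalRing.spanFinrank_maximalIdeal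
  rw [hd] at hreg
  have hreg' : (maximalIdeal (Localization.AtPrime 𝔮)).spanFinrank = 0 := by exact_mod_cast hreg
  have hbot : maximalIdeal (Localization.AtPrime 𝔮) = ⊥ :=
    (Submodule.spanFinrank_eq_zero_iff_eq_bot
      (IsNoetherian.noetherian (maximalIdeal (Localization.AtPrime 𝔮)))).mp hreg'
  have hmaxS : 𝔮.map (algebraMap Λ (Localization.AtPrime 𝔮)) =
      maximalIdeal (Localization.AtPrime 𝔮) := Localization.AtPrime.map_eq_maximalIdeal
  haveI : (⊥ : Ideal k).IsMaximal := Ideal.bot_isMaximal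
  have hmapbot : (⊥ : Ideal k).map (algebraMap k (Localization.AtPrime 𝔮)) = ⊥ := Ideal.map_bot
  have hnil : IsNilpotent (⊥ : Ideal k) := ⟨1, by rw [pow_one, Ideal.zero_eq_bot]⟩
  refine artinRes (Λq := Localization.AtPrime 𝔮) (⊥ : Ideal k) hnil 𝔮 ?_ ?_ φ
  · intro x hx
    rw [hmapbot, ← hbot, ← hmaxS]
    exact Ideal.mem_map_of_mem _ hx
  · let ρ₀ : Localization.AtPrime 𝔮 →ₐ[k] 𝔮.ResidueField :=
      IsScalarTower.toAlgHom k (Localization.AtPrime 𝔮) 𝔮.ResidueField
    refine indSmooth_residue (k := k) (κ := 𝔮.ResidueField) (⊥ : Ideal k) ?_ ?_ ρ₀ ?_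
    · constructor
      · intro a b hab
        have : Ideal.Quotient.mk (⊥ : Ideal k) a = Ideal.Quotient.mk ⊥ b := hab
        rw [Ideal.Quotient.eq, Ideal.mem_bot, sub_eq_zero] at this
        exact this
      · intro y
        obtain ⟨y, rfl⟩ := Ideal.Quotient.mk_surjective y
        exact ⟨y, rfl⟩
    · rw [hmapbot, ← hbot]
      exact IsLocalRing.maximalIdeal.isMaximal _
    · intro x hx
      rw [hmapbot, Ideal.mem_bot] at hx
      rw [hx, map_zero]

end DimZero

end Part3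

end Groth.Agent.Lib.R2H4.ArtinRes
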