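import Mathlib

set_option autoImplicit false
universe u
open Cardinal

namespace Groth.Agent.Lib.R2H4.BigAlgClosed

/-- Two algebraically closed extensions of `R` of the same cardinality, bigger than that of `R`
and uncountable, are isomorphic over `R`. -/
theorem nonempty_algEquiv_of_card {R K L : Type u} [Field R] [Field K] [Field L] [Algebra R K]
    [Algebra R L] [IsAlgClosed K] [IsAlgClosed L] (hR : #R < #K) (hK : ℵ₀ < #K) (hKL : #K = #L) :
    Nonempty (K ≃ₐ[R] L) := by
  obtain ⟨ι, v, hv⟩ := exists_isTranscendenceBasis' R K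
  obtain ⟨κ, w, hw⟩ := exists_isTranscendenceBasis' R L
  have h1 : #ι = #K := by
    apply le_antisymm
    · exact Cardinal.mk_le_of_injective hv.1.injective
    · have h := IsAlgClosed.cardinal_le_max_transcendence_basis' v hv
      by_contra hlt
      rw [not_le] at hlt
      exact absurd h (not_le.mpr (max_lt (max_lt hR hlt) hK))
  have h2 : #κ = #L := by
    apply le_antisymm
    · exact Cardinal.mk_le_of_injective hw.1.injective
    · have h := IsAlgClosed.cardinal_le_max_transcendence_basis' w hw
      by_contra hlt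
      rw [not_le] at hlt
      exact absurd h (not_le.mpr (max_lt (max_lt (hKL ▸ hR) hlt) (hKL ▸ hK)))
  obtain ⟨e⟩ : Nonempty (ι ≃ κ) := Cardinal.eq.mp (h1.trans (hKL.trans h2.symm))
  have := IsAlgClosed.isAlgClosure_of_transcendence_basis v hv
  have := IsAlgClosed.isAlgClosure_of_transcendence_basis w hw
  let e' : Algebra.adjoin R (Set.range v) ≃ₐ[R] Algebra.adjoin R (Set.range w) :=
    hv.1.aevalEquiv.symm.trans ((MvPolynomial.renameEquiv R e).trans hw.1.aevalEquiv)
  let E := IsAlgClosure.equivOfEquiv K L e'.toRingEquiv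
  refine ⟨AlgEquiv.ofRingEquiv (f := E) ?_⟩
  intro r
  rw [IsScalarTower.algebraMap_apply R (Algebra.adjoin R (Set.range v)) K,
    IsAlgClosure.equivOfEquiv_algebraMap]
  rw [IsScalarTower.algebraMap_apply R (Algebra.adjoin R (Set.range w)) L]
  congr 1
  exact e'.commutes r

/-- every field has an algebraically closed extension (in the same universe) of strictly bigger,
uncountable cardinality. -/
theorem exists_big_algClosed (K : Type u) [Field K] :
    ∃ (k' : Type u) (_ : Field k') (_ : IsAlgClosed k') (_ : Algebra K k'), #K < #k' ∧ ℵ₀ < #k' := by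
  let I : Type u := Set (K × ℕ)
  let F := FractionRing (MvPolynomial I K)
  let k' := AlgebraicClosure F
  have hinj : Function.Injective (fun i : I => algebraMap F k' (algebraMap (MvPolynomial I K) F
      (MvPolynomial.X i))) := by
    intro i j hij
    have h1 := (algebraMap F k').injective hij
    have h2 := IsFractionRing.injective (MvPolynomial I K) F h1
    exact MvPolynomial.X_injective h2
  have hI : #I ≤ #k' := Cardinal.mk_le_of_injective hinj
  have hI2 : #(K × ℕ) < #I := by
    change #(K × ℕ) < #(Set (K × ℕ))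
    rw [Cardinal.mk_set]
    exact Cardinal.cantor _
  have hK : #K ≤ #(K × ℕ) :=
    Cardinal.mk_le_of_injective (f := fun x : K => (x, 0)) (fun a b h => (Prod.mk.inj h).1)
  have hN : ℵ₀ ≤ #(K × ℕ) := Cardinal.aleph0_le_mk _
  exact ⟨k', inferInstance, inferInstance, inferInstance, (hK.trans_lt hI2).trans_le hI,
    (hN.trans_lt hI2).trans_le hI⟩

/-- the field-theoretic input for S7493. -/
theorem exists_field_data {k K : Type u} [Field k] [Field K] (s t : k →+* K) :
    ∃ (k' : Type u) (_ : Field k') (_ : IsAlgClosed k') (σ : K →+* k') (τ : k' ≃+* k'),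
      ∀ x, τ (σ (s x)) = σ (t x) := by
  obtain ⟨k', _, _, _, h1, h2⟩ := exists_big_algClosed K
  have hk : #k < #k' := (Cardinal.mk_le_of_injective s.injective).trans_lt h1
  obtain ⟨e⟩ := @nonempty_algEquiv_of_card k k' k' _ _ _
    ((algebraMap K k').comp s).toAlgebra ((algebraMap K k').comp t).toAlgebra _ _ hk h2 rfl
  refine ⟨k', inferInstance, inferInstance, algebraMap K k', ?_, ?_⟩
  · exact @AlgEquiv.toRingEquiv k k' k' _ _ _ ((algebraMap K k').comp s).toAlgebra
      ((algebraMap K k').comp t).toAlgebra e
  · intro x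
    exact @AlgEquiv.commutes k k' k' _ _ _ ((algebraMap K k').comp s).toAlgebra
      ((algebraMap K k').comp t).toAlgebra e x

end Groth.Agent.Lib.R2H4.BigAlgClosed
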