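import Mathlib
import Groth.Prelude
import Groth.Agent.Lib.R2H4H0GrowthProper
import Groth.Agent.Lib.Helper4NormDelta
import Groth.Agent.Lib.R2H4GenRank
import Groth.Agent.Lib.R2H4GenFinPull
import Groth.Agent.Lib.Helper23StalkLin

/-!
helper4 (run 2): bigness and birational morphisms of integral proper schemes (S17285), no ample module needed.
* `mem_genericPoints_iff`, `hdom_of_isBirational`, `residueDegree_of_isBirational` (unpacking `RadPt.IsBirational`);
* `isDominant_of_hdom`, `mono_unitToPush` (`O_X ⟶ f_* O_Y` mono for dominant quasi-compact `f`, integral schemes);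
* `surjective_stalkLin_unitToPush` (degree one ⟹ generically surjective);
* `small_bound` : `dim Supp F < d ⟹ h⁰(F ⊗ L^m) (m+1) ≤ C (m+1)^d` on any proper scheme;
* `h0_birational` : `h⁰(L^m) ≤ h⁰((f^*L)^m) ≤ h⁰(L^m) + O(m^(d-1))`.
-/

set_option autoImplicit false
set_option linter.style.haveILetI false
set_option linter.unusedSectionVars false
universe u
open CategoryTheory CategoryTheory.Limits AlgebraicGeometry TopologicalSpace

noncomputable section

namespace Groth.Agent.Lib.R2H4BigBir

open Groth.Agent.Lib.R2H4H0Growth Groth.Agent.Lib.Helper4.NormDelta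

section Gen

variable {X Y : Scheme.{u}} [IsIntegral X] [IsIntegral Y]

/-- the generic points of an irreducible sober space -/
theorem mem_genericPoints_iff (x : X) : x ∈ genericPoints X ↔ x = genericPoint X := by
  unfold genericPoints
  rw [Set.mem_setOf_eq, irreducibleComponents_eq_singleton, Set.mem_singleton_iff]
  constructor
  · intro h
    exact (isGenericPoint_def.mpr h : IsGenericPoint x Set.univ).eq (genericPoint_spec X)
  · rintro rfl
    exact (genericPoint_spec X).def

theorem hdom_of_isBirational (f : Y ⟶ X) (h : RadPt.IsBirational f) :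
    f.base (genericPoint Y) = genericPoint X := by
  have h1 := h.1.mapsTo ((mem_genericPoints_iff (genericPoint Y)).2 rfl)
  exact (mem_genericPoints_iff _).1 h1

theorem residueDegree_of_isBirational (f : Y ⟶ X) (h : RadPt.IsBirational f) :
    f.residueDegree (genericPoint Y) = 1 := by
  have hdom := hdom_of_isBirational f h
  have hb := (h.2 (genericPoint X) ((mem_genericPoints_iff _).2 rfl)).2 (genericPoint Y) hdom
  unfold Scheme.Hom.residueDegree
  letI := (f.residueFieldMap (genericPoint Y)).hom.toAlgebra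
  have e : X.residueField (f.base (genericPoint Y)) ≃ₗ[X.residueField (f.base (genericPoint Y))]
      Y.residueField (genericPoint Y) :=
    LinearEquiv.ofBijective (Algebra.linearMap _ _) hb
  rw [← e.finrank_eq, Module.finrank_self]

theorem isDominant_of_hdom (f : Y ⟶ X) (hdom : f.base (genericPoint Y) = genericPoint X) :
    IsDominant f := by
  refine ⟨?_⟩
  rw [DenseRange, dense_iff_closure_eq, ← Set.univ_subset_iff, ← (genericPoint_spec X).def]
  exact closure_mono (Set.singleton_subset_iff.2 ⟨genericPoint Y, hdom⟩)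

/-- `O_X ⟶ f_* O_Y` is a monomorphism for a dominant quasi-compact morphism of integral schemes -/
theorem mono_unitToPush (f : Y ⟶ X) [QuasiCompact f]
    (hdom : f.base (genericPoint Y) = genericPoint X) : Mono (ClSub.unitToPush f) := by
  haveI := isDominant_of_hdom f hdom
  haveI : IsSchemeTheoreticallyDominant f := IsSchemeTheoreticallyDominant.of_isDominant f
  refine Groth.Agent.Lib.R2H2.FinPush.mono_of_app_injective _ (fun U => ?_)
  intro s t hst
  rw [unitToPush_app, unitToPush_app] at hst
  exact f.app_injective U hst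

end Gen

section Bir

variable (k : Type u) [Field k] {X Y : Scheme.{u}} [X.Over (Spec (CommRingCat.of k))]
  [IsProper (X ↘ Spec (CommRingCat.of k))] [Y.Over (Spec (CommRingCat.of k))]
  [IsProper (Y ↘ Spec (CommRingCat.of k))] [IsIntegral X] [IsIntegral Y]

/-- for a proper morphism of degree one, `O_X ⟶ f_* O_Y` is surjective at the generic point -/
theorem surjective_stalkLin_unitToPush (f : Y ⟶ X) [IsProper f]
    (hdom : f.base (genericPoint Y) = genericPoint X)
    (hdeg : f.residueDegree (genericPoint Y) = 1) :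
    Function.Surjective (stalkLin (ClSub.unitToPush f) (genericPoint X)) := by
  haveI := mono_unitToPush f hdom
  have hinj := Groth.Agent.Lib.Helper23.StalkLin.stalkLin_injective (ClSub.unitToPush f)
    (genericPoint X)
  have hrk := Groth.Agent.Lib.R2H4GenFinPull.finrank_stalk_pushO_generic f hdom 1 hdeg
    Nat.one_pos
  letI : Field (X.presheaf.stalk (genericPoint X)) :=
    (Groth.Agent.Lib.R2H1.DegPullback.isField_stalk_of_eq_genericPoint (genericPoint X) rfl).toField
  haveI : Module.Finite (X.presheaf.stalk (genericPoint X))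
      ((Groth.Agent.Lib.Helper4.NormDelta.pushO f).presheaf.stalk (genericPoint X)) :=
    Module.finite_of_finrank_pos (by rw [hrk]; exact Nat.one_pos)
  have hrk0 : Module.finrank (X.presheaf.stalk (genericPoint X))
      ((Coh.structureModule X).presheaf.stalk (genericPoint X)) = 1 :=
    (Groth.Agent.Lib.Helper23.UnitStalk.unitStalkEquiv (genericPoint X)).finrank_eq.symm.trans
      (Module.finrank_self _)
  haveI : Module.Finite (X.presheaf.stalk (genericPoint X))
      ((Coh.structureModule X).presheaf.stalk (genericPoint X)) :=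
    Module.finite_of_finrank_pos (by rw [hrk0]; exact Nat.one_pos)
  exact (LinearMap.injective_iff_surjective_of_finrank_eq_finrank (hrk0.trans hrk.symm)).1 hinj

end Bir

section Small

variable (k : Type u) [Field k] {X : Scheme.{u}} [X.Over (Spec (CommRingCat.of k))]
  [IsProper (X ↘ Spec (CommRingCat.of k))]

/-- modules with support of dimension `< d` have `h⁰(F ⊗ L^m) = O(m^(d-1))`, in the division free
form `h⁰ · (m+1) ≤ C (m+1)^d` (valid also for `d = 0`) -/
theorem small_bound (L : X.Modules) (hL : PicF.IsInvertible L) (F : X.Modules) (hF : Coh.IsCoh F)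
    (d : ℕ) (hdim : topologicalKrullDim (CohB1.support F) < ((d : ℕ) : WithBot ℕ∞)) :
    ∃ C : ℕ, ∀ m : ℕ,
      h0 k (CohB1.tensorMod F (CohB1.tensorPow L m)) * (m + 1) ≤ C * (m + 1) ^ d := by
  rcases Nat.eq_zero_or_pos d with h0 | hpos
  · subst h0
    have hemp : CohB1.support F ⊆ ∅ := by
      intro x hx
      haveI hne : Nonempty (IrreducibleCloseds ↥(CohB1.support F)) :=
        ⟨⟨closure {⟨x, hx⟩}, isIrreducible_singleton.closure, isClosed_closure⟩⟩
      have h1 : (0 : WithBot ℕ∞) ≤ topologicalKrullDim ↥(CohB1.support F) := by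
        unfold topologicalKrullDim
        exact Order.krullDim_nonneg
      exact absurd (lt_of_le_of_lt h1 hdim) (lt_irrefl _)
    have hz := Groth.Agent.Lib.R2H2.DevA.isZero_of_support_subset_empty _ hemp
    refine ⟨0, fun m => ?_⟩
    haveI : Subsingleton (Coh.HH X (CohB1.tensorMod F (CohB1.tensorPow L m)) 0) :=
      Groth.Agent.Lib.R2H2.KoszulShift.subsingleton_HH_of_isZero
        ((Groth.Agent.Lib.R2H2.PnSerre.twR (CohB1.tensorPow L m)).map_isZero hz) 0
    unfold h0
    rw [Module.finrank_zero_of_subsingleton]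
    simp
  · obtain ⟨e, rfl⟩ : ∃ e, d = e + 1 := ⟨d - 1, by omega⟩
    have hle : topologicalKrullDim (CohB1.support F) ≤ ((e : ℕ) : WithBot ℕ∞) :=
      Groth.Agent.Lib.R2H4Snapper.le_of_lt_succ' _ e hdim
    obtain ⟨C, hC⟩ := Groth.Agent.Lib.R2H4H0GrowthProper.main_bound k L hL _ hF e hle
    refine ⟨C, fun m => ?_⟩
    calc _ ≤ C * (m + 1) ^ e * (m + 1) := Nat.mul_le_mul_right _ (hC m)
      _ = C * (m + 1) ^ (e + 1) := by rw [pow_succ, mul_assoc]

end Small

section Main

variable (k : Type u) [Field k] {X Y : Scheme.{u}} [X.Over (Spec (CommRingCat.of k))]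
  [IsProper (X ↘ Spec (CommRingCat.of k))] [Y.Over (Spec (CommRingCat.of k))]
  [IsProper (Y ↘ Spec (CommRingCat.of k))] [IsIntegral X] [IsIntegral Y]

/-- **`h⁰((f^*L)^m) = h⁰(L^m) + O(m^(d-1))`** for `f : Y ⟶ X` birational between integral proper
schemes (no ample module required) -/
theorem h0_birational (f : Y ⟶ X)
    (hf : f ≫ (X ↘ Spec (CommRingCat.of k)) = Y ↘ Spec (CommRingCat.of k))
    (hdom : f.base (genericPoint Y) = genericPoint X)
    (hdeg : f.residueDegree (genericPoint Y) = 1)
    (d : ℕ) (hd : topologicalKrullDim X = ((d : ℕ) : WithBot ℕ∞))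
    (L : X.Modules) (hL : PicF.IsInvertible L) :
    ∃ C : ℕ, ∀ m : ℕ,
      h0 k (CohB1.tensorPow L m) ≤
        h0 k (CohB1.tensorPow ((Scheme.Modules.pullback f).obj L) m) ∧
      h0 k (CohB1.tensorPow ((Scheme.Modules.pullback f).obj L) m) * (m + 1) ≤
        h0 k (CohB1.tensorPow L m) * (m + 1) + C * (m + 1) ^ d := by
  haveI := Groth.Agent.Lib.R2H1.CurveEuler.isNoetherian_of_proper k X
  haveI := Groth.Agent.Lib.R2H1.CurveEuler.isNoetherian_of_proper k Y
  haveI : IsProper (f ≫ (X ↘ Spec (CommRingCat.of k))) := by rw [hf]; infer_instance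
  haveI : IsProper f := IsProper.of_comp f (X ↘ Spec (CommRingCat.of k))
  haveI hmono := mono_unitToPush f hdom
  have cO : Coh.IsCoh (Coh.structureModule X) :=
    Groth.Agent.Lib.R2H1.GenusLe.isCoh_structureModule X
  have cE : Coh.IsCoh (pushO f) :=
    Groth.Agent.Lib.R2H4GenFinPull.isCoh_push_of_proper f _
      (Groth.Agent.Lib.R2H1.GenusLe.isCoh_structureModule Y)
  have cQ : Coh.IsCoh (cokernel (ClSub.unitToPush f)) :=
    Groth.Agent.Lib.R2H2.NilFilt.isCoh_cokernel cO cE _
  have hQ0 : Subsingleton ((cokernel (ClSub.unitToPush f)).presheaf.stalk (genericPoint X)) :=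
    Groth.Agent.Lib.R2H4GenRank.subsingleton_stalk_cokernel _ _
      (surjective_stalkLin_unitToPush f hdom hdeg)
  have hQdim : topologicalKrullDim (CohB1.support (cokernel (ClSub.unitToPush f))) <
      ((d : ℕ) : WithBot ℕ∞) := by
    rw [← hd]
    exact Groth.Agent.Lib.R2H4GenRank.dim_support_lt_of_generic k _ cQ hQ0
  obtain ⟨C, hC⟩ := small_bound k L hL _ cQ d hQdim
  let S : ShortComplex X.Modules :=
    ShortComplex.mk (ClSub.unitToPush f) (cokernel.π (ClSub.unitToPush f)) (cokernel.condition _)
  have hS : S.ShortExact :=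
    { exact := ShortComplex.exact_cokernel (ClSub.unitToPush f)
      mono_f := hmono
      epi_g := by dsimp [S]; infer_instance }
  refine ⟨C, fun m => ⟨?_, ?_⟩⟩
  · have hLm := Groth.Agent.Lib.Helper23.SecTw.isInvertible_tensorPow hL m
    obtain ⟨e⟩ := Groth.Agent.Lib.Helper23.PB.nonempty_pullback_tensorPow_iso f L hL m
    rw [← h0_congr k e]
    exact Groth.Agent.Lib.R2H4H0GrowthProper.h0_le_pullback k f hf ⟨genericPoint Y, hdom⟩ _ hLm
  · have hE := Groth.Agent.Lib.Helper23.SecTw.isInvertible_tensorPow hL m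
    have hS' := Groth.Agent.Lib.R2H2.PnSerre.shortExact_map_twR (CohB1.tensorPow L m) hE S hS
    have h1 := h0_le_add k (S.map (Groth.Agent.Lib.R2H2.PnSerre.twR (CohB1.tensorPow L m))) hS'
      (Groth.Agent.Lib.R2H3.AmpleSV.isCoh_tensorMod_invertible _ _ cO hE)
      (Groth.Agent.Lib.R2H3.AmpleSV.isCoh_tensorMod_invertible _ _ cE hE)
      (Groth.Agent.Lib.R2H3.AmpleSV.isCoh_tensorMod_invertible _ _ cQ hE)
    have h2 : h0 k (CohB1.tensorMod (Coh.structureModule X) (CohB1.tensorPow L m)) =
        h0 k (CohB1.tensorPow L m) := h0_congr k (Groth.Agent.Lib.R2H4TensorPows.lUnit _)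
    have h3 : h0 k (CohB1.tensorPow ((Scheme.Modules.pullback f).obj L) m) =
        h0 k (CohB1.tensorMod (pushO f) (CohB1.tensorPow L m)) :=
      Groth.Agent.Lib.R2H4GenFinPull.hi_zero_pullback_pow k f hf L hL m
    have h4 : h0 k (CohB1.tensorPow ((Scheme.Modules.pullback f).obj L) m) ≤
        h0 k (CohB1.tensorPow L m) +
          h0 k (CohB1.tensorMod (cokernel (ClSub.unitToPush f)) (CohB1.tensorPow L m)) := by
      rw [h3, ← h2]
      exact h1
    calc h0 k (CohB1.tensorPow ((Scheme.Modules.pullback f).obj L) m) * (m + 1)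
        ≤ (h0 k (CohB1.tensorPow L m) +
          h0 k (CohB1.tensorMod (cokernel (ClSub.unitToPush f)) (CohB1.tensorPow L m))) *
            (m + 1) := Nat.mul_le_mul_right _ h4
      _ = h0 k (CohB1.tensorPow L m) * (m + 1) +
          h0 k (CohB1.tensorMod (cokernel (ClSub.unitToPush f)) (CohB1.tensorPow L m)) *
            (m + 1) := add_mul _ _ _
      _ ≤ _ := Nat.add_le_add_left (hC m) _

end Main

end Groth.Agent.Lib.R2H4BigBir
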