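import Mathlib
import Groth.Prelude
import Groth.Agent.Lib.R2H4VolBig
import Groth.Agent.Lib.Helper2TensorInv

/-!
# Characterisation of big invertible modules by ample ones (helper4, round 2)

* `exists_eventually_lower_bound` : an ample `B` inside `L^m₀` together with sections of all large
  powers of `L` gives `h⁰(L^n) ≥ c n^d` for all large `n`;
* `big_iff` : statement S17278.
-/

set_option autoImplicit false
set_option linter.style.haveILetI false
set_option linter.unusedSectionVars false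
universe u
open CategoryTheory CategoryTheory.Limits AlgebraicGeometry TopologicalSpace

noncomputable section

namespace Groth.Agent.Lib.R2H4BigChar

open Groth.Agent.Lib.R2H4H0Growth Groth.Agent.Lib.R2H4TensorPows Groth.Agent.Lib.R2H4VolBasic
  Groth.Agent.Lib.R2H4VolBig Filter

variable (k : Type u) [Field k] {X : Scheme.{u}} [X.Over (Spec (CommRingCat.of k))]
  [IsProper (X ↘ (Spec (CommRingCat.of k)))]

/-- an ample `B` inside `L^m₀` and sections of all large powers give a uniform lower bound -/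
theorem exists_eventually_lower_bound [IsIntegral X] (d : ℕ)
    (hd : topologicalKrullDim X = ((d : ℕ) : WithBot ℕ∞)) (L : X.Modules)
    (hL : PicF.IsInvertible L) (B : X.Modules) (hB : CohB1.IsAmple B) (m₀ : ℕ) (hm₀ : 0 < m₀)
    (φ : B ⟶ CohB1.tensorPow L m₀) [Mono φ] (r₀ : ℕ)
    (hr₀ : ∀ r : ℕ, r₀ ≤ r → ∃ u : Coh.structureModule X ⟶ CohB1.tensorPow L r, u ≠ 0) :
    ∃ c : ℝ, 0 < c ∧ ∃ N : ℕ, ∀ n : ℕ, N ≤ n →
      c * (n : ℝ) ^ d ≤ (h0 k (CohB1.tensorPow L n) : ℝ) := by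
  obtain ⟨c', hc', q₀, hq₀⟩ := exists_lower_bound_ample k d hd B hB
  have hLm : PicF.IsInvertible (CohB1.tensorPow L m₀) :=
    Groth.Agent.Lib.Helper23.SecTw.isInvertible_tensorPow hL m₀
  have hm₀R : (0 : ℝ) < m₀ := by exact_mod_cast hm₀
  refine ⟨c' / (2 * (m₀ : ℝ)) ^ d, div_pos hc' (by positivity),
    2 * (r₀ + m₀) + 2 * m₀ * q₀, fun n hn => ?_⟩
  set q := (n - r₀) / m₀ with hq
  set r := n - m₀ * q with hr
  have hnr : r₀ ≤ n := by omega
  have h1 : m₀ * q ≤ n - r₀ := Nat.mul_div_le (n - r₀) m₀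
  have h2 : n - r₀ < m₀ * q + m₀ := by
    have := Nat.lt_mul_div_succ (n - r₀) hm₀
    rw [Nat.mul_succ] at this
    exact this
  have hrr : r₀ ≤ r := by omega
  have hnq : m₀ * q + r = n := by omega
  have hqn : (n : ℝ) ≤ 2 * m₀ * q := by
    have h3 : n ≤ 2 * (m₀ * q) := by
      have : 2 * (r₀ + m₀) ≤ n := by omega
      omega
    have : ((n : ℕ) : ℝ) ≤ ((2 * (m₀ * q) : ℕ) : ℝ) := by exact_mod_cast h3
    push_cast at this
    linarith
  have hq₀q : q₀ ≤ q := by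
    by_contra hcon
    push Not at hcon
    have h4 : m₀ * q + m₀ ≤ m₀ * q₀ := by
      have : q + 1 ≤ q₀ := hcon
      calc m₀ * q + m₀ = m₀ * (q + 1) := by ring
        _ ≤ m₀ * q₀ := Nat.mul_le_mul_left _ this
    have h5 : 2 * m₀ * q₀ ≤ n := by omega
    have h6 : n - r₀ < m₀ * q₀ := lt_of_lt_of_le h2 h4
    have h7 : m₀ * q₀ ≤ 2 * m₀ * q₀ := by nlinarith
    omega
  obtain ⟨u, hu⟩ := hr₀ r hrr
  have e1 : h0 k (CohB1.tensorPow L (m₀ * q)) ≤ h0 k (CohB1.tensorPow L n) := by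
    have := h0_le_of_section k L hL (m₀ * q) r u hu
    rwa [hnq] at this
  have e2 : h0 k (CohB1.tensorPow B q) ≤ h0 k (CohB1.tensorPow L (m₀ * q)) := by
    rw [← h0_pow_pow k L hL m₀ q]
    exact h0_pow_le_of_mono k hB.1 hLm φ q
  have e3 := hq₀ q hq₀q
  have e4 : (h0 k (CohB1.tensorPow B q) : ℝ) ≤ (h0 k (CohB1.tensorPow L n) : ℝ) := by
    exact_mod_cast e2.trans e1
  refine le_trans ?_ (e3.trans e4)
  rw [div_mul_eq_mul_div, div_le_iff₀ (by positivity), mul_assoc, ← mul_pow]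
  refine mul_le_mul_of_nonneg_left ?_ hc'.le
  refine pow_le_pow_left₀ (Nat.cast_nonneg n) ?_ d
  linarith

/-- **S17278**: bigness in terms of ample modules -/
theorem big_iff [IsIntegral X] (A₀ : X.Modules) (hA₀ : CohB1.IsAmple A₀) (d : ℕ)
    (hd : topologicalKrullDim X = ((d : ℕ) : WithBot ℕ∞)) (L : X.Modules)
    (hL : PicF.IsInvertible L) :
    (∃ c : ℝ, 0 < c ∧ ∀ᶠ n : ℕ in atTop,
        c * (n : ℝ) ^ d < (h0 k (CohB1.tensorPow L n) : ℝ)) ↔
      ∀ (A A' : X.Modules), CohB1.IsAmple A → ClSub.IsInverseOf A' A →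
        ∃ m : ℕ, 0 < m ∧ Nontrivial (Coh.HH X (CohB1.tensorMod A' (CohB1.tensorPow L m)) 0) := by
  haveI := Groth.Agent.Lib.R2H1.CurveEuler.isNoetherian_of_proper k X
  have hOi : PicF.IsInvertible (Coh.structureModule X) :=
    Groth.Agent.Lib.Helper23.TensorUnit.isInvertible_structureModule X
  constructor
  · rintro ⟨c, hc, hev⟩ A A' hA ⟨e⟩
    have hfreq : ∃ᶠ m : ℕ in atTop, c * (m : ℝ) ^ d ≤ (h0 k (CohB1.tensorPow L m) : ℝ) :=
      (hev.mono fun n hn => hn.le).frequently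
    have hA' : PicF.IsInvertible A' :=
      Groth.Agent.Lib.Helper2.TensorInv.isInvertible_of_tensor_iso A' A e
    obtain ⟨n₀, hn₀⟩ := exists_sections_twist A hA (Coh.structureModule X) hOi
    obtain ⟨σ₀, hσ₀⟩ := hn₀ (n₀ + 1) (Nat.le_succ n₀)
    obtain ⟨τ₀, hτ₀⟩ := hn₀ n₀ le_rfl
    set σ := σ₀ ≫ (lUnit (CohB1.tensorPow A (n₀ + 1))).hom with hσdef
    set τ := τ₀ ≫ (lUnit (CohB1.tensorPow A n₀)).hom with hτdef
    have hσ : σ ≠ 0 := fun h => hσ₀ (by
      rw [← cancel_mono (lUnit (CohB1.tensorPow A (n₀ + 1))).hom, zero_comp]; exact h)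
    have hτ : τ ≠ 0 := fun h => hτ₀ (by
      rw [← cancel_mono (lUnit (CohB1.tensorPow A n₀)).hom, zero_comp]; exact h)
    have hBi : PicF.IsInvertible (CohB1.tensorPow A (n₀ + 1)) :=
      Groth.Agent.Lib.Helper23.SecTw.isInvertible_tensorPow hA.1 _
    obtain ⟨m, φ, hm, hφ⟩ := exists_mono_of_growth k A₀ hA₀ d hd L hL c hc hfreq _ hBi σ hσ
    haveI : Mono φ := hφ
    obtain ⟨ψ, hψ⟩ := exists_mono_tensor_of_section A hA.1 (CohB1.tensorPow A n₀)
      (Groth.Agent.Lib.Helper23.SecTw.isInvertible_tensorPow hA.1 _) τ hτ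
    -- `A ↪ A ⊗ A^n₀ ≅ A^(n₀+1) ↪ L^m`
    let φ' : CohB1.tensorMod (CohB1.tensorPow A n₀) A ⟶ CohB1.tensorPow L m := φ
    haveI : Mono φ' := hφ
    let χ : A ⟶ CohB1.tensorPow L m := ψ ≫ (tComm A (CohB1.tensorPow A n₀)).hom ≫ φ'
    haveI : Mono ((tComm A (CohB1.tensorPow A n₀)).hom ≫ φ') := mono_comp _ _
    haveI : Mono χ := mono_comp _ _
    obtain ⟨g, hg⟩ := exists_mono_twR A' hA' χ
    let w : Coh.structureModule X ⟶ CohB1.tensorMod A' (CohB1.tensorPow L m) :=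
      e.inv ≫ (tComm A' A).hom ≫ g ≫ (tComm (CohB1.tensorPow L m) A').hom
    haveI : Mono (g ≫ (tComm (CohB1.tensorPow L m) A').hom) := mono_comp _ _
    haveI : Mono ((tComm A' A).hom ≫ g ≫ (tComm (CohB1.tensorPow L m) A').hom) := mono_comp _ _
    haveI : Mono w := mono_comp _ _
    have hw : w ≠ 0 := by
      intro h
      apply Groth.Agent.Lib.R2H4AmplePos.id_structureModule_ne_zero (X := X)
      rw [← cancel_mono w, h, comp_zero, zero_comp]
    have hpos := Groth.Agent.Lib.R2H4AmplePos.finrank_HH_zero_pos k _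
      (isCoh_of_isInvertible _ (Groth.Agent.Lib.Helper23.SecTw.isInvertible_tensorMod hA'
        (Groth.Agent.Lib.Helper23.SecTw.isInvertible_tensorPow hL m))) w hw
    exact ⟨m, hm, Module.nontrivial_of_finrank_pos hpos⟩
  · intro h
    obtain ⟨a, ha, ⟨s, hs⟩, ⟨t, ht⟩⟩ := exists_pow_sections A₀ hA₀ L hL
    have hB : CohB1.IsAmple (CohB1.tensorPow A₀ a) :=
      (Groth.Agent.Lib.Helper23.SecTw.isAmple_tensorPow_iff A₀ hA₀.1 a ha).1 hA₀
    obtain ⟨N, hN, ⟨e⟩⟩ := Groth.Agent.Lib.R2H1.InvExists.exists_inverse _ hB.1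
    obtain ⟨m, hm, hnt⟩ := h _ N hB ⟨tComm _ _ ≪≫ e⟩
    have hTi : PicF.IsInvertible (CohB1.tensorMod N (CohB1.tensorPow L m)) :=
      Groth.Agent.Lib.Helper23.SecTw.isInvertible_tensorMod hN
        (Groth.Agent.Lib.Helper23.SecTw.isInvertible_tensorPow hL m)
    have hpos : 0 < h0 k (CohB1.tensorMod N (CohB1.tensorPow L m)) := by
      haveI : Module.Finite k (Coh.HH X (CohB1.tensorMod N (CohB1.tensorPow L m)) 0) :=
        Groth.Agent.Lib.R2H1.EulerAdd.finite_HH k X _ (isCoh_of_isInvertible _ hTi) 0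
      exact Module.finrank_pos
    obtain ⟨v, hv⟩ := exists_section_of_h0_pos k _ hpos
    obtain ⟨ψ, hψ⟩ := exists_mono_tensor_of_section _ hB.1 _ hTi v hv
    let φ : CohB1.tensorPow A₀ a ⟶ CohB1.tensorPow L m :=
      ψ ≫ ((tAssoc _ N _).symm ≪≫ tIso e (Iso.refl _) ≪≫ lUnit _).hom
    haveI : Mono φ := mono_comp _ _
    obtain ⟨r₀, hr₀⟩ := exists_sections_eventually L hL _ s hs t ht m φ
    obtain ⟨c, hc, N', hN'⟩ := exists_eventually_lower_bound k d hd L hL _ hB m hm φ r₀ hr₀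
    refine ⟨c / 2, half_pos hc, (eventually_ge_atTop (max N' 1)).mono fun n hn => ?_⟩
    have h1 := hN' n ((le_max_left _ _).trans hn)
    have hn1 : (0 : ℝ) < n := by
      have : 1 ≤ n := (le_max_right _ _).trans hn
      exact_mod_cast this
    have hnd : (0 : ℝ) < (n : ℝ) ^ d := pow_pos hn1 d
    have : c / 2 * (n : ℝ) ^ d < c * (n : ℝ) ^ d := by nlinarith
    exact lt_of_lt_of_le this h1

end Groth.Agent.Lib.R2H4BigChar
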