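import Mathlib
import Groth.Prelude
import Groth.Agent.Lib.H9N1RAmple
import Groth.Agent.Lib.R2H4VolBig
import Groth.Agent.Lib.R2H4PicGen
set_option backward.isDefEq.respectTransparency.types false

/-!
# The big cone of a projective variety (helper4, round 2)

`Big L` : every ample `A` embeds in a positive power of `L`.

* `big_of_isAmple`, `big_tensor_pow` (ample ⊗ effective power is big);
* `mem_bigCone_iff` : `Big(X) = Amp(X) + Eff(X)`;
* `bigCone_eq_interior`, `psef_eq_closure` : `Big(X) = int Psef(X)`, `Psef(X) = closure Big(X)`.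
-/

set_option autoImplicit false
set_option linter.style.haveILetI false
set_option linter.unusedSectionVars false
universe u
open CategoryTheory CategoryTheory.Limits AlgebraicGeometry TopologicalSpace

noncomputable section

namespace Groth.Agent.Lib.R2H4BigCone

open Groth.Agent.Lib.H9N1RAmple Groth.Agent.Lib.R2H4TensorPows Groth.Agent.Lib.R2H2.PnSerre

section Mod

variable {X : Scheme.{u}} [IsIntegral X]

/-- the bigness predicate of the statements -/
def Big : X.Modules → Prop := fun L =>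
  ∀ A : X.Modules, CohB1.IsAmple A → ∃ (m : ℕ) (φ : A ⟶ CohB1.tensorPow L m), 0 < m ∧ Mono φ

theorem big_of_isAmple (A : X.Modules) (hA : CohB1.IsAmple A) : Big A := by
  intro A' hA'
  obtain ⟨N', hN', ⟨e⟩⟩ := Groth.Agent.Lib.R2H1.InvExists.exists_inverse A' hA'.1
  obtain ⟨n₀, hn⟩ := Groth.Agent.Lib.R2H4VolBig.exists_sections_twist A hA N' hN'
  set n := max n₀ 1 with hn'
  obtain ⟨t, ht⟩ := hn n (le_max_left _ _)
  have hAn : PicF.IsInvertible (CohB1.tensorPow A n) :=
    Groth.Agent.Lib.Helper23.SecTw.isInvertible_tensorPow hA.1 n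
  obtain ⟨ψ, hψ⟩ := Groth.Agent.Lib.R2H4VolBig.exists_mono_tensor_of_section A' hA'.1
    (CohB1.tensorMod N' (CohB1.tensorPow A n))
    (Groth.Agent.Lib.Helper23.SecTw.isInvertible_tensorMod hN' hAn) t ht
  refine ⟨n, ψ ≫ ((tAssoc A' N' (CohB1.tensorPow A n)).symm ≪≫
    tIso e (Iso.refl _) ≪≫ lUnit _).hom, lt_of_lt_of_le Nat.one_pos (le_max_right _ _), ?_⟩
  exact mono_comp _ _

theorem section_pow (E : X.Modules) (hE : PicF.IsInvertible E)
    (s : Coh.structureModule X ⟶ E) (hs : s ≠ 0) (q : ℕ) :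
    ∃ u : Coh.structureModule X ⟶ CohB1.tensorPow E q, u ≠ 0 := by
  have hs' : s ≫ (lUnit E).inv ≠ 0 := by
    intro h
    apply hs
    rw [← cancel_mono (lUnit E).inv, h, zero_comp]
  have := Groth.Agent.Lib.R2H4VolBig.exists_section_mul E hE 1 (s ≫ (lUnit E).inv) hs' q
  exact Groth.Agent.Lib.R2H4VolBig.exists_section_cast E (Nat.mul_one q) this

theorem big_tensor_pow (A : X.Modules) (hA : CohB1.IsAmple A) (E : X.Modules)
    (hE : PicF.IsInvertible E) (s : Coh.structureModule X ⟶ E) (hs : s ≠ 0) (q : ℕ) :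
    Big (CohB1.tensorMod A (CohB1.tensorPow E q)) := by
  intro A' hA'
  obtain ⟨m, φ, hm, hφ⟩ := big_of_isAmple A hA A' hA'
  have hEq : PicF.IsInvertible (CohB1.tensorPow E q) :=
    Groth.Agent.Lib.Helper23.SecTw.isInvertible_tensorPow hE q
  obtain ⟨uq, huq⟩ := section_pow E hE s hs q
  obtain ⟨um, hum⟩ := section_pow (CohB1.tensorPow E q) hEq uq huq m
  obtain ⟨ψ, hψ⟩ := Groth.Agent.Lib.R2H4VolBig.exists_mono_tensor_of_section (CohB1.tensorPow A m)
    (Groth.Agent.Lib.Helper23.SecTw.isInvertible_tensorPow hA.1 m)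
    (CohB1.tensorPow (CohB1.tensorPow E q) m)
    (Groth.Agent.Lib.Helper23.SecTw.isInvertible_tensorPow hEq m) um hum
  refine ⟨m, φ ≫ ψ ≫ (Groth.Agent.Lib.R2H4PicGen.powTensor A (CohB1.tensorPow E q) m).inv, hm, ?_⟩
  haveI : Mono (ψ ≫ (Groth.Agent.Lib.R2H4PicGen.powTensor A (CohB1.tensorPow E q) m).inv) :=
    mono_comp _ _
  exact mono_comp _ _

/-- a big invertible module: a power is ample ⊗ effective -/
theorem exists_decomp (H : X.Modules) (hH : CohB1.IsAmple H) (L : X.Modules) (hL : Big L) :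
    ∃ (m : ℕ) (H' : X.Modules) (_ : PicF.IsInvertible H')
      (_ : CohB1.tensorMod H H' ≅ Coh.structureModule X)
      (s : Coh.structureModule X ⟶ CohB1.tensorMod (CohB1.tensorPow L m) H'), 0 < m ∧ s ≠ 0 := by
  obtain ⟨m, φ, hm, hφ⟩ := hL H hH
  obtain ⟨H', hH', ⟨e⟩⟩ := Groth.Agent.Lib.R2H1.InvExists.exists_inverse H hH.1
  haveI : Mono ((twR H').map φ) := Groth.Agent.Lib.R2H4H0Growth.mono_twR_map H' hH' φ
  let ψ : CohB1.tensorMod H H' ⟶ CohB1.tensorMod (CohB1.tensorPow L m) H' := (twR H').map φ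
  haveI : Mono ψ := inferInstanceAs (Mono ((twR H').map φ))
  refine ⟨m, H', hH', e, e.inv ≫ ψ, hm, ?_⟩
  intro h
  haveI : Mono (e.inv ≫ ψ) := mono_comp _ _
  have h1 : 𝟙 (Coh.structureModule X) = 0 := by
    rw [← cancel_mono (e.inv ≫ ψ), Category.id_comp, zero_comp]
    exact h
  exact Groth.Agent.Lib.R2H4AmplePos.id_structureModule_ne_zero h1

end Mod

section Cone

variable (k : Type u) [Field k] (X : Scheme.{u}) [X.Over (Spec (CommRingCat.of k))]
  [IsIntegral X] [PicGrp.Law X]

/-- the big cone -/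
def bigCone : ConvexCone ℝ (NumR.N1R k X) := NumR.coneOf k X Big

theorem clR_mem_ampleCone (A : X.Modules) (hA : CohB1.IsAmple A) :
    NumR.clR k X A hA.1 ∈ NumR.ampleCone k X :=
  ConvexCone.subset_hull ⟨A, hA.1, hA, rfl⟩

theorem clR_mem_effCone (E : X.Modules) (hE : PicF.IsInvertible E)
    (s : Coh.structureModule X ⟶ E) (hs : s ≠ 0) :
    NumR.clR k X E hE ∈ NumR.effCone k X :=
  ConvexCone.subset_hull ⟨E, hE, ⟨s, hs⟩, rfl⟩

theorem clR_mem_bigCone (L : X.Modules) (hL : PicF.IsInvertible L) (hb : Big L) :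
    NumR.clR k X L hL ∈ bigCone k X :=
  ConvexCone.subset_hull ⟨L, hL, hb, rfl⟩

/-- the cone `Amp + Eff` -/
def sumCone : ConvexCone ℝ (NumR.N1R k X) where
  carrier := {x | ∃ a ∈ NumR.ampleCone k X, x - a ∈ NumR.effCone k X}
  smul_mem' := by
    rintro c hc x ⟨a, ha, hxa⟩
    refine ⟨c • a, (NumR.ampleCone k X).smul_mem hc ha, ?_⟩
    rw [← smul_sub]
    exact (NumR.effCone k X).smul_mem hc hxa
  add_mem' := by
    rintro x ⟨a, ha, hxa⟩ y ⟨b, hb, hyb⟩
    refine ⟨a + b, (NumR.ampleCone k X).add_mem ha hb, ?_⟩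
    have : x + y - (a + b) = (x - a) + (y - b) := by abel
    rw [this]
    exact (NumR.effCone k X).add_mem hxa hyb

theorem bigCone_le_sumCone (H : X.Modules) (hH : CohB1.IsAmple H) :
    bigCone k X ≤ sumCone k X := by
  refine ConvexCone.hull_min ?_
  rintro _ ⟨L, hL, hb, rfl⟩
  obtain ⟨m, H', hH', e, s, hm, hs⟩ := exists_decomp H hH L hb
  have hLm : PicF.IsInvertible (CohB1.tensorPow L m) :=
    Groth.Agent.Lib.Helper23.SecTw.isInvertible_tensorPow hL m
  have hE : PicF.IsInvertible (CohB1.tensorMod (CohB1.tensorPow L m) H') :=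
    Groth.Agent.Lib.Helper23.SecTw.isInvertible_tensorMod hLm hH'
  have h1 : NumR.clR k X _ hE = (m : ℝ) • NumR.clR k X L hL - NumR.clR k X H hH.1 := by
    rw [clR_tensor k X hLm hH' hE, clR_tensorPow k X hL m hLm, clR_inverse k X hH.1 hH' e,
      sub_eq_add_neg]
  have hm0 : (0 : ℝ) < (m : ℝ) := by exact_mod_cast hm
  have hpos : (0 : ℝ) < (m : ℝ)⁻¹ := inv_pos.mpr hm0
  refine ⟨(m : ℝ)⁻¹ • NumR.clR k X H hH.1,
    (NumR.ampleCone k X).smul_mem hpos (clR_mem_ampleCone k X H hH), ?_⟩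
  have h2 : NumR.clR k X L hL - (m : ℝ)⁻¹ • NumR.clR k X H hH.1 =
      (m : ℝ)⁻¹ • NumR.clR k X _ hE := by
    rw [h1, smul_sub, smul_smul, inv_mul_cancel₀ hm0.ne', one_smul]
  rw [h2]
  exact (NumR.effCone k X).smul_mem hpos (clR_mem_effCone k X _ hE s hs)

/-- `t [A] + e` is big for `A` ample, `e` effective, `t > 0` -/
theorem smul_ample_add_eff_mem (A : X.Modules) (hA : CohB1.IsAmple A)
    (e : NumR.N1R k X) (he : e ∈ NumR.effCone k X) :
    ∀ t : ℝ, 0 < t → t • NumR.clR k X A hA.1 + e ∈ bigCone k X := by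
  let T : ConvexCone ℝ (NumR.N1R k X) :=
    { carrier := {e | ∀ t : ℝ, 0 < t → t • NumR.clR k X A hA.1 + e ∈ bigCone k X}
      smul_mem' := by
        rintro c hc e he t ht
        have h1 := (bigCone k X).smul_mem hc (he (t / c) (div_pos ht hc))
        rwa [smul_add, smul_smul, mul_div_cancel₀ _ hc.ne'] at h1
      add_mem' := by
        rintro e he e' he' t ht
        have h1 := (bigCone k X).add_mem (he (t / 2) (half_pos ht)) (he' (t / 2) (half_pos ht))
        have h2 : (t / 2) • NumR.clR k X A hA.1 + e + ((t / 2) • NumR.clR k X A hA.1 + e') =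
            t • NumR.clR k X A hA.1 + (e + e') := by
          rw [add_add_add_comm, ← add_smul, add_halves]
        rwa [h2] at h1 }
  have hT : NumR.effCone k X ≤ T := by
    refine ConvexCone.hull_min ?_
    rintro _ ⟨E, hE, ⟨s, hs⟩, rfl⟩ t ht
    obtain ⟨q, hq⟩ := exists_nat_gt (1 / t)
    have hq0 : (0 : ℝ) < (q : ℝ) := lt_trans (one_div_pos.mpr ht) hq
    have hqt : (1 : ℝ) / q < t := by
      rw [div_lt_iff₀ hq0]
      rw [div_lt_iff₀ ht] at hq
      linarith [mul_comm (q : ℝ) t]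
    have hEq : PicF.IsInvertible (CohB1.tensorPow E q) :=
      Groth.Agent.Lib.Helper23.SecTw.isInvertible_tensorPow hE q
    have hAE : PicF.IsInvertible (CohB1.tensorMod A (CohB1.tensorPow E q)) :=
      Groth.Agent.Lib.Helper23.SecTw.isInvertible_tensorMod hA.1 hEq
    have hb1 := clR_mem_bigCone k X A hA.1 (big_of_isAmple A hA)
    have hb2 := clR_mem_bigCone k X _ hAE (big_tensor_pow A hA E hE s hs q)
    rw [clR_tensor k X hA.1 hEq hAE, clR_tensorPow k X hE q hEq] at hb2
    have h3 := (bigCone k X).add_mem ((bigCone k X).smul_mem (sub_pos.mpr hqt) hb1)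
      ((bigCone k X).smul_mem (one_div_pos.mpr hq0) hb2)
    have h4 : (t - 1 / (q : ℝ)) • NumR.clR k X A hA.1 +
        (1 / (q : ℝ)) • (NumR.clR k X A hA.1 + (q : ℝ) • NumR.clR k X E hE) =
        t • NumR.clR k X A hA.1 + NumR.clR k X E hE := by
      rw [smul_add, smul_smul, one_div, inv_mul_cancel₀ hq0.ne', one_smul, ← add_assoc, ← add_smul,
        sub_add_cancel]
    rwa [h4] at h3
  exact hT he

theorem sumCone_le_bigCone : sumCone k X ≤ bigCone k X := by
  rintro x ⟨a, ha, hxa⟩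
  let T : ConvexCone ℝ (NumR.N1R k X) :=
    { carrier := {a | a ∈ bigCone k X ∧ ∀ e ∈ NumR.effCone k X, a + e ∈ bigCone k X}
      smul_mem' := by
        rintro c hc a ⟨ha, hae⟩
        refine ⟨(bigCone k X).smul_mem hc ha, fun e he => ?_⟩
        have h1 := (bigCone k X).smul_mem hc
          (hae (c⁻¹ • e) ((NumR.effCone k X).smul_mem (inv_pos.mpr hc) he))
        rwa [smul_add, smul_smul, mul_inv_cancel₀ hc.ne', one_smul] at h1
      add_mem' := by
        rintro a ⟨ha, hae⟩ b ⟨hb, -⟩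
        refine ⟨(bigCone k X).add_mem ha hb, fun e he => ?_⟩
        have h1 := (bigCone k X).add_mem (hae e he) hb
        rwa [add_right_comm] at h1 }
  have hT : NumR.ampleCone k X ≤ T := by
    refine ConvexCone.hull_min ?_
    rintro _ ⟨A, hA, hAamp, rfl⟩
    refine ⟨clR_mem_bigCone k X A hA (big_of_isAmple A hAamp), fun e he => ?_⟩
    have := smul_ample_add_eff_mem k X A hAamp e he 1 one_pos
    rwa [one_smul] at this
  have := (hT ha).2 _ hxa
  rwa [add_sub_cancel] at this

theorem mem_bigCone_iff (H : X.Modules) (hH : CohB1.IsAmple H) (x : NumR.N1R k X) :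
    x ∈ bigCone k X ↔ ∃ a ∈ NumR.ampleCone k X, x - a ∈ NumR.effCone k X :=
  ⟨fun h => bigCone_le_sumCone k X H hH h, fun h => sumCone_le_bigCone k X h⟩

end Cone

section Top

variable (k : Type u) [Field k] (X : Scheme.{u}) [X.Over (Spec (CommRingCat.of k))]
  [IsIntegral X] [PicGrp.Law X]

theorem ampleCone_le_effCone : NumR.ampleCone k X ≤ NumR.effCone k X := by
  refine ConvexCone.hull_min ?_
  rintro _ ⟨A, hA, hAamp, rfl⟩
  have hO : PicF.IsInvertible (Coh.structureModule X) :=
    Groth.Agent.Lib.Helper23.TensorUnit.isInvertible_structureModule X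
  obtain ⟨n₀, hn⟩ := Groth.Agent.Lib.R2H4VolBig.exists_sections_twist A hAamp
    (Coh.structureModule X) hO
  obtain ⟨t, ht⟩ := hn (n₀ + 1) (Nat.le_succ _)
  have hAn : PicF.IsInvertible (CohB1.tensorPow A (n₀ + 1)) :=
    Groth.Agent.Lib.Helper23.SecTw.isInvertible_tensorPow hA (n₀ + 1)
  have hE : PicF.IsInvertible (CohB1.tensorMod (Coh.structureModule X)
      (CohB1.tensorPow A (n₀ + 1))) :=
    Groth.Agent.Lib.Helper23.SecTw.isInvertible_tensorMod hO hAn
  have h1 := clR_mem_effCone k X _ hE t ht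
  rw [clR_tensor k X hO hAn hE, clR_structure, zero_add, clR_tensorPow k X hA (n₀ + 1) hAn] at h1
  have hpos : (0 : ℝ) < ((n₀ + 1 : ℕ) : ℝ) := by positivity
  have h2 := (NumR.effCone k X).smul_mem (inv_pos.mpr hpos) h1
  rwa [smul_smul, inv_mul_cancel₀ hpos.ne', one_smul] at h2

theorem bigCone_le_effCone (H : X.Modules) (hH : CohB1.IsAmple H) :
    bigCone k X ≤ NumR.effCone k X := by
  intro x hx
  obtain ⟨a, ha, hxa⟩ := bigCone_le_sumCone k X H hH hx
  have := (NumR.effCone k X).add_mem (ampleCone_le_effCone k X ha) hxa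
  rwa [add_sub_cancel] at this

variable [Module.Finite ℝ (NumR.N1R k X)]

theorem isOpen_bigCone (H : X.Modules) (hH : CohB1.IsAmple H) :
    IsOpen (bigCone k X : Set (NumR.N1R k X)) := by
  haveI : IsTopologicalAddGroup (NumR.N1R k X) := IsModuleTopology.topologicalAddGroup ℝ _
  rw [isOpen_iff_forall_mem_open]
  intro x hx
  obtain ⟨a, ha, hxa⟩ := bigCone_le_sumCone k X H hH hx
  refine ⟨{y | y - (x - a) ∈ NumR.ampleCone k X}, ?_, ?_, ?_⟩
  · intro y hy
    refine sumCone_le_bigCone k X ⟨y - (x - a), hy, ?_⟩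
    rwa [sub_sub_cancel]
  · exact (isOpen_ampleCone k X).preimage (continuous_id.sub continuous_const)
  · change x - (x - a) ∈ NumR.ampleCone k X
    rwa [sub_sub_cancel]

theorem bigCone_eq_interior (H : X.Modules) (hH : CohB1.IsAmple H) :
    (bigCone k X : Set (NumR.N1R k X)) = interior (NumR.psefCone k X) := by
  haveI : IsTopologicalAddGroup (NumR.N1R k X) := IsModuleTopology.topologicalAddGroup ℝ _
  refine Set.Subset.antisymm ?_ ?_
  · refine interior_maximal ?_ (isOpen_bigCone k X H hH)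
    exact fun x hx => subset_closure (bigCone_le_effCone k X H hH hx)
  · intro y hy
    set h := NumR.clR k X H hH.1 with hh
    have hHamp : h ∈ NumR.ampleCone k X := clR_mem_ampleCone k X H hH
    -- `y - ε h` stays in the interior for small `ε`
    have hcont : Continuous (fun ε : ℝ => y - ε • h) :=
      continuous_const.sub ((continuous_id (X := ℝ)).smul (continuous_const (y := h)))
    have hopen : IsOpen ((fun ε : ℝ => y - ε • h) ⁻¹' interior (NumR.psefCone k X)) :=
      isOpen_interior.preimage hcont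
    have h0 : (0 : ℝ) ∈ (fun ε : ℝ => y - ε • h) ⁻¹' interior (NumR.psefCone k X) := by
      change y - (0 : ℝ) • h ∈ interior (NumR.psefCone k X)
      rwa [zero_smul, sub_zero]
    obtain ⟨δ, hδ, hball⟩ := Metric.isOpen_iff.mp hopen 0 h0
    have hε : y - (δ / 2) • h ∈ interior (NumR.psefCone k X) := by
      apply hball
      rw [Metric.mem_ball, dist_zero_right, Real.norm_eq_abs, abs_of_pos (half_pos hδ)]
      exact half_lt_self hδ
    have hcl : y - (δ / 2) • h ∈ closure (NumR.effCone k X : Set (NumR.N1R k X)) :=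
      interior_subset hε
    -- the open set `{e | y - e ∈ Amp}` contains `y - (δ/2) h`
    have hV : IsOpen {e : NumR.N1R k X | y - e ∈ NumR.ampleCone k X} :=
      (isOpen_ampleCone k X).preimage (continuous_const.sub continuous_id)
    have hmemV : y - (δ / 2) • h ∈ {e : NumR.N1R k X | y - e ∈ NumR.ampleCone k X} := by
      change y - (y - (δ / 2) • h) ∈ NumR.ampleCone k X
      rw [sub_sub_cancel]
      exact (NumR.ampleCone k X).smul_mem (half_pos hδ) hHamp
    obtain ⟨e, heV, heE⟩ := mem_closure_iff.mp hcl _ hV hmemV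
    have heV' : y - e ∈ NumR.ampleCone k X := heV
    have heE' : e ∈ NumR.effCone k X := heE
    refine sumCone_le_bigCone k X ⟨y - e, heV', ?_⟩
    rwa [sub_sub_cancel]

theorem psefCone_eq_closure (H : X.Modules) (hH : CohB1.IsAmple H) :
    NumR.psefCone k X = closure (bigCone k X : Set (NumR.N1R k X)) := by
  refine Set.Subset.antisymm ?_ ?_
  · refine closure_minimal ?_ isClosed_closure
    intro e he
    set h := NumR.clR k X H hH.1 with hh
    have hHamp : h ∈ NumR.ampleCone k X := clR_mem_ampleCone k X H hH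
    have hmem : ∀ n : ℕ, e + (1 / ((n : ℝ) + 1)) • h ∈ (bigCone k X : Set (NumR.N1R k X)) := by
      intro n
      refine sumCone_le_bigCone k X ⟨(1 / ((n : ℝ) + 1)) • h,
        (NumR.ampleCone k X).smul_mem (by positivity) hHamp, ?_⟩
      rwa [add_sub_cancel_right]
    have hlim : Filter.Tendsto (fun n : ℕ => e + (1 / ((n : ℝ) + 1)) • h) Filter.atTop
        (nhds e) := by
      have h1 : Filter.Tendsto (fun n : ℕ => (1 / ((n : ℝ) + 1)) • h) Filter.atTop
          (nhds ((0 : ℝ) • h)) :=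
        (tendsto_one_div_add_atTop_nhds_zero_nat).smul_const h
      have h2 := (tendsto_const_nhds (x := e)).add h1
      rwa [zero_smul, add_zero] at h2
    exact mem_closure_of_tendsto hlim (Filter.Eventually.of_forall hmem)
  · exact closure_mono (bigCone_le_effCone k X H hH)

end Top

end Groth.Agent.Lib.R2H4BigCone
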