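import Mathlib
open CategoryTheory AlgebraicGeometry Limits MorphismProperty

namespace Groth.Agent.Lib.R2H4.BigSiteSheafA
universe v u

section

variable {S : Scheme.{u}}

/-- big Zariski topology on `Over S`. -/
abbrev Jz (S : Scheme.{u}) : GrothendieckTopology (Over S) := Scheme.zariskiTopology.over S

lemma mem_Jz_iff (X : Over S) (R : Sieve X) :
    R ∈ Jz S X ↔ ∀ x : X.left, ∃ (Y : Over S) (f : Y ⟶ X) (y : Y.left),
      R f ∧ IsOpenImmersion f.left ∧ f.left y = x := by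
  change R ∈ Scheme.overGrothendieckTopology @IsOpenImmersion S X ↔ _
  rw [Scheme.mem_overGrothendieckTopology]
  refine ⟨?_, fun h ↦ ?_⟩
  · rintro ⟨𝒰, h, hle⟩ x
    obtain ⟨y, hy⟩ := 𝒰.covers x
    exact ⟨(𝒰.X (𝒰.idx x)).asOver S, (𝒰.f (𝒰.idx x)).asOver S, y, hle _ _ ⟨𝒰.idx x⟩,
      𝒰.map_prop _, hy⟩
  · choose Y f y hf hP hy using h
    let 𝒰 : X.left.Cover (Scheme.precoverage @IsOpenImmersion) :=
      { I₀ := X.left
        X := fun i ↦ (Y i).left
        f := fun i ↦ (f i).left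
        mem₀ := by
          rw [Scheme.presieve₀_mem_precoverage_iff]
          exact ⟨fun x ↦ ⟨x, y x, hy x⟩, hP⟩ }
    let : 𝒰.Over S := ⟨fun i ↦ inferInstance, fun i ↦ inferInstance⟩
    refine ⟨𝒰, inferInstance, ?_⟩
    rintro - - ⟨i⟩
    exact hf i

/-- object of `Over S` from a map to `U.left`. -/
abbrev ob (U : Over S) {W : Scheme.{u}} (g : W ⟶ U.left) : Over S := Over.mk (g ≫ U.hom)

/-- the structure morphism `ob U g ⟶ U`. -/
abbrev hm (U : Over S) {W : Scheme.{u}} (g : W ⟶ U.left) : ob U g ⟶ U := Over.homMk g rfl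

lemma exists_lift_of_left {T Y U : Over S} (h : T ⟶ U) (f : Y ⟶ U) (k : T.left ⟶ Y.left)
    (hk : k ≫ f.left = h.left) : ∃ φ : T ⟶ Y, φ ≫ f = h := by
  refine ⟨Over.homMk k (by rw [← Over.w f, ← Category.assoc, hk, Over.w h]), ?_⟩
  ext
  simpa using hk


end

section

variable {S : Scheme.{u}}

/-- the projection from the fibre product object to `V`. -/
noncomputable def pbSnd {U V Z : Over S} (f : V ⟶ U) (g : Z ⟶ U) :
    ob Z (pullback.fst g.left f.left) ⟶ V :=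
  Over.homMk (pullback.snd g.left f.left) (by
    change pullback.snd g.left f.left ≫ V.hom = pullback.fst g.left f.left ≫ Z.hom
    rw [← Over.w f, ← Over.w g]
    exact (pullback.condition_assoc _).symm)

lemma pbSnd_comp {U V Z : Over S} (f : V ⟶ U) (g : Z ⟶ U) :
    pbSnd f g ≫ f = hm Z (pullback.fst g.left f.left) ≫ g := by
  ext
  change pullback.snd g.left f.left ≫ f.left = pullback.fst g.left f.left ≫ g.left
  exact pullback.condition.symm

lemma pullback_generate_singleton {U V Z : Over S} (f : V ⟶ U) (g : Z ⟶ U) :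
    (Sieve.generate (Presieve.singleton f)).pullback g =
      Sieve.generate (Presieve.singleton (hm Z (pullback.fst g.left f.left))) := by
  ext T h
  constructor
  · rintro ⟨Y, k, _, ⟨⟩, hk⟩
    have hk' : k.left ≫ f.left = h.left ≫ g.left := by
      have := congrArg (fun φ => φ.left) hk
      exact this
    obtain ⟨φ, hφ⟩ := exists_lift_of_left h (hm Z (pullback.fst g.left f.left))
      (pullback.lift h.left k.left hk'.symm) (pullback.lift_fst _ _ _)
    exact ⟨_, φ, hm Z _, ⟨⟩, hφ⟩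
  · rintro ⟨Y, k, _, ⟨⟩, hk⟩
    refine ⟨V, k ≫ pbSnd f g, f, ⟨⟩, ?_⟩
    rw [Category.assoc, pbSnd_comp, ← Category.assoc, hk]

variable (F : (Over S)ᵒᵖ ⥤ Type v) (C : MorphismProperty Scheme.{u}) [C.IsStableUnderBaseChange]

lemma Jz_le_finest (hz : Presieve.IsSheaf (Jz S) F) : Jz S ≤ Sheaf.finestTopologySingle F := by
  intro U R hR Y f
  exact hz _ ((Jz S).pullback_stable f hR)

lemma mem_finest_singleton
    (hs : ∀ (X X' : Over S) (f : X' ⟶ X), C f.left → Presieve.IsSheafFor F (Presieve.singleton f))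
    {U V : Over S} (f : V ⟶ U) (hf : C f.left) :
    Sieve.generate (Presieve.singleton f) ∈ Sheaf.finestTopologySingle F U := by
  intro Z g
  rw [pullback_generate_singleton, ← Presieve.isSheafFor_iff_generate]
  exact hs _ _ _ (C.pullback_fst _ _ hf)

lemma mem_finest_of_data (hz : Presieve.IsSheaf (Jz S) F)
    (hs : ∀ (X X' : Over S) (f : X' ⟶ X), C f.left → Presieve.IsSheafFor F (Presieve.singleton f))
    (X : Over S) (R : Sieve X)
    (h : ∃ (ι : Type u) (U : ι → X.left.Opens), (∀ i, IsAffineOpen (U i)) ∧ ⨆ i, U i = ⊤ ∧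
        ∀ i, ∃ (κ : Type u) (_ : Finite κ) (V : κ → Over S) (φ : ∀ j, V j ⟶ X)
          (ψ : ∀ j, (V j).left ⟶ (U i : Scheme.{u})),
          (∀ j, IsAffine (V j).left) ∧ (∀ j, R.arrows (φ j)) ∧ (∀ j, ψ j ≫ (U i).ι = (φ j).left) ∧
            C (Limits.Sigma.desc ψ)) :
    R ∈ Sheaf.finestTopologySingle F X := by
  obtain ⟨ι, U, hU, hcov, hdata⟩ := h
  have hZ : Sieve.ofArrows (fun i => ob X (U i).ι) (fun i => hm X (U i).ι) ∈ Jz S X := by
    rw [mem_Jz_iff]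
    intro x
    obtain ⟨i, hi⟩ : ∃ i, x ∈ U i := by
      have : x ∈ ⨆ i, U i := by rw [hcov]; trivial
      exact TopologicalSpace.Opens.mem_iSup.1 this
    exact ⟨_, hm X (U i).ι, ⟨x, hi⟩, Sieve.ofArrows_mk _ _ i,
      inferInstanceAs (IsOpenImmersion (U i).ι), rfl⟩
  refine (Sheaf.finestTopologySingle F).transitive (Jz_le_finest F hz _ hZ) R ?_
  rintro Y h ⟨Y', k, _, ⟨i⟩, rfl⟩
  rw [Sieve.pullback_comp]
  apply (Sheaf.finestTopologySingle F).pullback_stable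
  obtain ⟨κ, _, V, φ, ψ, hVaff, hRφ, hψ, hC⟩ := hdata i
  have h1 : Sieve.generate (Presieve.singleton (hm (ob X (U i).ι) (Sigma.desc ψ))) ∈
      Sheaf.finestTopologySingle F _ := mem_finest_singleton F C hs _ hC
  refine (Sheaf.finestTopologySingle F).transitive h1 _ ?_
  rintro Y h ⟨Y', k, _, ⟨⟩, rfl⟩
  rw [Sieve.pullback_comp]
  apply (Sheaf.finestTopologySingle F).pullback_stable
  apply Jz_le_finest F hz
  rw [mem_Jz_iff]
  intro w
  obtain ⟨j, z, hzw⟩ : ∃ (j : κ) (z : (V j).left), Sigma.ι (fun j => (V j).left) j z = w :=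
    (sigmaOpenCover (fun j => (V j).left)).exists_eq w
  have hoi : IsOpenImmersion
      (hm (ob (ob X (U i).ι) (Sigma.desc ψ)) (Sigma.ι (fun j => (V j).left) j)).left :=
    inferInstanceAs (IsOpenImmersion (Sigma.ι (fun j => (V j).left) j))
  refine ⟨ob (ob (ob X (U i).ι) (Sigma.desc ψ)) (Sigma.ι (fun j => (V j).left) j),
    hm (ob (ob X (U i).ι) (Sigma.desc ψ)) (Sigma.ι (fun j => (V j).left) j), z, ?_, ?_, ?_⟩
  rotate_left
  · exact hoi
  · exact hzw
  change R.arrows ((hm _ _ ≫ hm _ _) ≫ hm _ _)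
  obtain ⟨φ', hφ'⟩ := exists_lift_of_left
    ((hm (ob (ob X (U i).ι) (Sigma.desc ψ)) (Sigma.ι (fun j => (V j).left) j) ≫ hm _ _) ≫ hm _ _)
    (φ j) (𝟙 _) (by
      rw [Category.id_comp, ← hψ j]
      simp)
  rw [← hφ']
  exact R.downward_closed (hRφ j) φ'


end

section

variable {S : Scheme.{u}}

lemma exists_affineOpen_mem_le (Y : Scheme.{u}) (V : Y.Opens) (x : Y) (hx : x ∈ V) :
    ∃ a : Y.affineOpens, x ∈ a.1 ∧ a.1 ≤ V := by
  obtain ⟨_, ⟨a, ha, rfl⟩, hxa, hle⟩ := Y.isBasis_affineOpens.exists_subset_of_mem_open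
    (show x ∈ (V : Set Y) from hx) V.2
  exact ⟨⟨a, ha⟩, hxa, hle⟩

lemma exists_finite_affine_cover (P : Scheme.{u}) [CompactSpace P] :
    ∃ (κ : Type u) (_ : Finite κ) (A : κ → P.Opens), (∀ l, IsAffineOpen (A l)) ∧ ⨆ l, A l = ⊤ := by
  have hex : ∀ x : P, ∃ a : P.affineOpens, x ∈ a.1 := fun x => by
    obtain ⟨a, ha, -⟩ := exists_affineOpen_mem_le P ⊤ x trivial
    exact ⟨a, ha⟩
  choose a ha using hex
  obtain ⟨t, ht⟩ := isCompact_univ.elim_finite_subcover (fun x => ((a x).1 : Set P))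
    (fun x => (a x).1.2) (fun x _ => Set.mem_iUnion.2 ⟨x, ha x⟩)
  refine ⟨{x // x ∈ t}, inferInstance, fun l => (a l.1).1, fun l => (a l.1).2, ?_⟩
  rw [eq_top_iff]
  intro x _
  have := ht (Set.mem_univ x)
  simp only [Set.mem_iUnion] at this
  obtain ⟨k, hk, hxk⟩ := this
  exact TopologicalSpace.Opens.mem_iSup.2 ⟨⟨k, hk⟩, hxk⟩

variable (C : MorphismProperty Scheme.{u})

lemma Jz_le_of_hJ
    (haff : ∀ (U : Scheme.{u}) [IsAffine U] (κ : Type u) [Finite κ] (V : κ → U.Opens),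
      (∀ j, IsAffineOpen (V j)) → ⨆ j, V j = ⊤ → C (Limits.Sigma.desc fun j => (V j).ι))
    (J : GrothendieckTopology (Over S))
    (hJ : ∀ (X : Over S) (R : Sieve X), R ∈ J X ↔
      ∃ (ι : Type u) (U : ι → X.left.Opens), (∀ i, IsAffineOpen (U i)) ∧ ⨆ i, U i = ⊤ ∧
        ∀ i, ∃ (κ : Type u) (_ : Finite κ) (V : κ → Over S) (φ : ∀ j, V j ⟶ X)
          (ψ : ∀ j, (V j).left ⟶ (U i : Scheme.{u})),
          (∀ j, IsAffine (V j).left) ∧ (∀ j, R.arrows (φ j)) ∧ (∀ j, ψ j ≫ (U i).ι = (φ j).left) ∧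
            C (Limits.Sigma.desc ψ)) :
    Jz S ≤ J := by
  intro X R hR
  rw [mem_Jz_iff] at hR
  rw [hJ]
  choose Y f y hRf hoi hfy using hR
  have hex : ∀ x : X.left, ∃ a : X.left.affineOpens, x ∈ a.1 ∧ a.1 ≤ (f x).left.opensRange :=
    fun x => exists_affineOpen_mem_le X.left _ x ⟨y x, hfy x⟩
  choose a hxa hale using hex
  refine ⟨X.left, fun x => (a x).1, fun x => (a x).2, ?_, fun x => ?_⟩
  · rw [eq_top_iff]
    intro x _
    exact TopologicalSpace.Opens.mem_iSup.2 ⟨x, hxa x⟩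
  · haveI : IsAffine ((a x).1 : Scheme.{u}) := (a x).2
    let T : ((a x).1 : Scheme.{u}).Opens := ⊤
    refine ⟨PUnit.{u+1}, inferInstance, fun _ => Over.mk (T.ι ≫ (a x).1.ι ≫ X.hom),
      fun _ => Over.homMk (T.ι ≫ (a x).1.ι) (by simp), fun _ => T.ι, ?_, ?_, ?_, ?_⟩
    · intro _
      exact isAffineOpen_top ((a x).1 : Scheme.{u})
    · intro _
      have hsub : Set.range (T.ι ≫ (a x).1.ι) ⊆ Set.range (f x).left := by
        rintro _ ⟨z, rfl⟩
        exact hale x ((T.ι z).2)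
      obtain ⟨φ', hφ'⟩ := exists_lift_of_left
        (Over.homMk (T.ι ≫ (a x).1.ι) (by simp) : Over.mk (T.ι ≫ (a x).1.ι ≫ X.hom) ⟶ X) (f x)
        (IsOpenImmersion.lift (f x).left (T.ι ≫ (a x).1.ι) hsub) (IsOpenImmersion.lift_fac _ _ _)
      change R.arrows (Over.homMk (T.ι ≫ (a x).1.ι) (by simp) :
        Over.mk (T.ι ≫ (a x).1.ι ≫ X.hom) ⟶ X)
      rw [← hφ']
      exact R.downward_closed (hRf x) φ'
    · intro _
      rfl
    · exact haff ((a x).1 : Scheme.{u}) PUnit.{u+1} (fun _ => ⊤)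
        (fun _ => isAffineOpen_top ((a x).1 : Scheme.{u})) (by simp)


end

section

variable {S : Scheme.{u}}

variable (C : MorphismProperty Scheme.{u}) [C.IsStableUnderBaseChange]

lemma generate_singleton_mem
    (hqc : ∀ {A B : Scheme.{u}} (f : A ⟶ B), C f → QuasiCompact f)
    (hres : ∀ (W X' : Scheme.{u}) [IsAffine W] (f : X' ⟶ W), C f →
      ∀ (κ : Type u) [Finite κ] (A : κ → X'.Opens), (∀ l, IsAffineOpen (A l)) → ⨆ l, A l = ⊤ →
        C (Limits.Sigma.desc fun l => (A l).ι ≫ f))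
    (J : GrothendieckTopology (Over S))
    (hJ : ∀ (X : Over S) (R : Sieve X), R ∈ J X ↔
      ∃ (ι : Type u) (U : ι → X.left.Opens), (∀ i, IsAffineOpen (U i)) ∧ ⨆ i, U i = ⊤ ∧
        ∀ i, ∃ (κ : Type u) (_ : Finite κ) (V : κ → Over S) (φ : ∀ j, V j ⟶ X)
          (ψ : ∀ j, (V j).left ⟶ (U i : Scheme.{u})),
          (∀ j, IsAffine (V j).left) ∧ (∀ j, R.arrows (φ j)) ∧ (∀ j, ψ j ≫ (U i).ι = (φ j).left) ∧
            C (Limits.Sigma.desc ψ))
    {X X' : Over S} (f : X' ⟶ X) (hf : C f.left) :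
    Sieve.generate (Presieve.singleton f) ∈ J X := by
  rw [hJ]
  refine ⟨X.left.affineOpens, fun a => a.1, fun a => a.2, iSup_affineOpens_eq_top _, fun a => ?_⟩
  have hr : C (f.left ∣_ a.1) := C.of_isPullback (isPullback_morphismRestrict f.left a.1).flip hf
  haveI : QuasiCompact (f.left ∣_ a.1) := hqc _ hr
  haveI : IsAffine (a.1 : Scheme.{u}) := a.2
  haveI : CompactSpace ((f.left ⁻¹ᵁ a.1 : X'.left.Opens) : Scheme.{u}) :=
    QuasiCompact.compactSpace_of_compactSpace (f.left ∣_ a.1)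
  obtain ⟨κ, hκ, A, hA, hcov⟩ :=
    exists_finite_affine_cover ((f.left ⁻¹ᵁ a.1 : X'.left.Opens) : Scheme.{u})
  have hC := hres (a.1 : Scheme.{u}) _ (f.left ∣_ a.1) hr κ A hA hcov
  refine ⟨κ, hκ, fun l => Over.mk ((A l).ι ≫ (f.left ⁻¹ᵁ a.1).ι ≫ X'.hom),
    fun l => Over.homMk ((A l).ι ≫ (f.left ⁻¹ᵁ a.1).ι ≫ f.left) (by simp),
    fun l => (A l).ι ≫ (f.left ∣_ a.1), ?_, ?_, ?_, hC⟩
  · intro l
    exact hA l
  · intro l
    refine ⟨X', Over.homMk ((A l).ι ≫ (f.left ⁻¹ᵁ a.1).ι) (by simp), f, ⟨⟩, ?_⟩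
    ext
    simp
  · intro l
    simp


end

section


theorem main14465 (S : Scheme.{u})
    (C : MorphismProperty Scheme.{u}) [C.IsStableUnderComposition] [C.IsStableUnderBaseChange]
    (hqc : ∀ {A B : Scheme.{u}} (f : A ⟶ B), C f → QuasiCompact f)
    (haff : ∀ (U : Scheme.{u}) [IsAffine U] (κ : Type u) [Finite κ] (V : κ → U.Opens),
      (∀ j, IsAffineOpen (V j)) → ⨆ j, V j = ⊤ → C (Limits.Sigma.desc fun j => (V j).ι))
    (hres : ∀ (W X' : Scheme.{u}) [IsAffine W] (f : X' ⟶ W), C f →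
      ∀ (κ : Type u) [Finite κ] (A : κ → X'.Opens), (∀ l, IsAffineOpen (A l)) → ⨆ l, A l = ⊤ →
        C (Limits.Sigma.desc fun l => (A l).ι ≫ f))
    (J : GrothendieckTopology (Over S))
    (hJ : ∀ (X : Over S) (R : Sieve X), R ∈ J X ↔
      ∃ (ι : Type u) (U : ι → X.left.Opens), (∀ i, IsAffineOpen (U i)) ∧ ⨆ i, U i = ⊤ ∧
        ∀ i, ∃ (κ : Type u) (_ : Finite κ) (V : κ → Over S) (φ : ∀ j, V j ⟶ X)
          (ψ : ∀ j, (V j).left ⟶ (U i : Scheme.{u})),
          (∀ j, IsAffine (V j).left) ∧ (∀ j, R.arrows (φ j)) ∧ (∀ j, ψ j ≫ (U i).ι = (φ j).left) ∧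
            C (Limits.Sigma.desc ψ))
    (F : (Over S)ᵒᵖ ⥤ Type v) :
    Presieve.IsSheaf J F ↔
      (Presieve.IsSheaf (Scheme.zariskiTopology.over S) F ∧
        ∀ (X X' : Over S) (f : X' ⟶ X), C f.left → Presieve.IsSheafFor F (Presieve.singleton f)) := by
  constructor
  · intro hF
    refine ⟨Presieve.isSheaf_of_le _ (Jz_le_of_hJ C haff J hJ) hF, ?_⟩
    intro X X' f hf
    rw [Presieve.isSheafFor_iff_generate]
    exact hF _ (generate_singleton_mem C hqc hres J hJ f hf)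
  · rintro ⟨hz, hs⟩ X R hR
    have := mem_finest_of_data F C hz hs X R ((hJ X R).1 hR) X (𝟙 X)
    rwa [Sieve.pullback_id] at this


end

end Groth.Agent.Lib.R2H4.BigSiteSheafA
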