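import Mathlib
import Groth.Agent.Lib.R2H4BigSiteSheafA
open CategoryTheory AlgebraicGeometry Limits MorphismProperty
open Groth.Agent.Lib.R2H4.BigSiteSheafA

namespace Groth.Agent.Lib.R2H4.BigSiteTopA
universe u

section

variable (C : MorphismProperty Scheme.{u}) [C.IsStableUnderComposition] [C.IsStableUnderBaseChange]

/-- two-level composition of finite coproduct coverings. -/
lemma sigma_comp
    (hcoprod : ∀ (κ : Type u) [Finite κ] (A B : κ → Scheme.{u}) (f : ∀ j, A j ⟶ B j),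
      (∀ j, C (f j)) → C (Limits.Sigma.map f))
    {U : Scheme.{u}} {κ : Type u} [Finite κ] {V : κ → Scheme.{u}} (ψ : ∀ j, V j ⟶ U)
    (hψ : C (Limits.Sigma.desc ψ))
    {l : κ → Type u} {W : ∀ j, l j → Scheme.{u}} (χ : ∀ j (k : l j), W j k ⟶ V j)
    (hχ : ∀ j, C (Limits.Sigma.desc (χ j))) :
    C (Limits.Sigma.desc (fun p : Σ j, l j => χ p.1 p.2 ≫ ψ p.1)) := by
  have h1 : C (Limits.Sigma.map (fun j => Limits.Sigma.desc (χ j))) :=
    hcoprod κ (fun j => ∐ (W j)) V (fun j => Limits.Sigma.desc (χ j)) hχ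
  have h2 : C ((sigmaSigmaIso l W).inv ≫ Limits.Sigma.map (fun j => Limits.Sigma.desc (χ j)) ≫ Limits.Sigma.desc ψ) :=
    (C.cancel_left_of_respectsIso _ _).2 (C.comp_mem _ _ h1 hψ)
  convert h2 using 1
  apply Limits.Sigma.hom_ext
  rintro ⟨j, k⟩
  simp


end

section
variable {S : Scheme.{u}}
variable (C : MorphismProperty Scheme.{u})

/-- local covering data at an open. -/
def Dat (X : Over S) (R : Sieve X) (U : X.left.Opens) : Prop :=
  ∃ (κ : Type u) (_ : Finite κ) (V : κ → Over S) (φ : ∀ j, V j ⟶ X)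
    (ψ : ∀ j, (V j).left ⟶ (U : Scheme.{u})),
    (∀ j, IsAffine (V j).left) ∧ (∀ j, R.arrows (φ j)) ∧ (∀ j, ψ j ≫ U.ι = (φ j).left) ∧
      C (Limits.Sigma.desc ψ)

/-- the covering condition. -/
def Cov (X : Over S) (R : Sieve X) : Prop :=
  ∃ (ι : Type u) (U : ι → X.left.Opens), (∀ i, IsAffineOpen (U i)) ∧ ⨆ i, U i = ⊤ ∧
    ∀ i, Dat C X R (U i)

lemma cov_iff (X : Over S) (R : Sieve X) :
    Cov C X R ↔ ∀ x : X.left, ∃ U : X.left.Opens, IsAffineOpen U ∧ x ∈ U ∧ Dat C X R U := by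
  constructor
  · rintro ⟨ι, U, hU, hcov, hd⟩ x
    obtain ⟨i, hi⟩ : ∃ i, x ∈ U i := by
      have : x ∈ ⨆ i, U i := by rw [hcov]; trivial
      exact TopologicalSpace.Opens.mem_iSup.1 this
    exact ⟨U i, hU i, hi, hd i⟩
  · intro h
    choose U hU hxU hd using h
    refine ⟨X.left, U, hU, ?_, hd⟩
    rw [eq_top_iff]
    intro x _
    exact TopologicalSpace.Opens.mem_iSup.2 ⟨x, hxU x⟩

variable {C}

lemma dat_mono {X : Over S} {R R' : Sieve X} (h : R ≤ R') {U : X.left.Opens} (hd : Dat C X R U) :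
    Dat C X R' U := by
  obtain ⟨κ, hκ, V, φ, ψ, h1, h2, h3, h4⟩ := hd
  exact ⟨κ, hκ, V, φ, ψ, h1, fun j => h _ (h2 j), h3, h4⟩

lemma dat_top
    (haff : ∀ (U : Scheme.{u}) [IsAffine U] (κ : Type u) [Finite κ] (V : κ → U.Opens),
      (∀ j, IsAffineOpen (V j)) → ⨆ j, V j = ⊤ → C (Limits.Sigma.desc fun j => (V j).ι))
    (X : Over S) (U : X.left.Opens) (hU : IsAffineOpen U) : Dat C X ⊤ U := by
  haveI : IsAffine (U : Scheme.{u}) := hU
  let T : (U : Scheme.{u}).Opens := ⊤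
  refine ⟨PUnit.{u+1}, inferInstance, fun _ => Over.mk (T.ι ≫ U.ι ≫ X.hom),
    fun _ => Over.homMk (T.ι ≫ U.ι) (by simp), fun _ => T.ι, ?_, ?_, ?_, ?_⟩
  · intro _
    exact isAffineOpen_top (U : Scheme.{u})
  · intro _
    trivial
  · intro _
    rfl
  · exact haff (U : Scheme.{u}) PUnit.{u+1} (fun _ => ⊤)
      (fun _ => isAffineOpen_top (U : Scheme.{u})) (by simp)


end

section
variable {S : Scheme.{u}}
variable {C : MorphismProperty Scheme.{u}} [C.IsStableUnderComposition] [C.IsStableUnderBaseChange]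

lemma dat_pullback
    (haff : ∀ (U : Scheme.{u}) [IsAffine U] (κ : Type u) [Finite κ] (V : κ → U.Opens),
      (∀ j, IsAffineOpen (V j)) → ⨆ j, V j = ⊤ → C (Limits.Sigma.desc fun j => (V j).ι))
    {X Y : Over S} (g : Y ⟶ X) (R : Sieve X) (U : X.left.Opens) (hU : IsAffineOpen U)
    (hd : Dat C X R U) (W : Y.left.Opens) (hW : IsAffineOpen W) (hle : W ≤ g.left ⁻¹ᵁ U) :
    Dat C Y (R.pullback g) W := by
  obtain ⟨κ, hκ, V, φ, ψ, hVaff, hRφ, hψ, hC⟩ := hd
  haveI : IsAffine (U : Scheme.{u}) := hU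
  haveI : IsAffine (W : Scheme.{u}) := hW
  haveI : ∀ j, IsAffine (V j).left := hVaff
  obtain ⟨gW, hgW⟩ : ∃ gW : (W : Scheme.{u}) ⟶ (U : Scheme.{u}), gW ≫ U.ι = W.ι ≫ g.left :=
    ⟨g.left.resLE U W hle, Scheme.Hom.resLE_comp_ι _ _⟩
  obtain ⟨q, hq⟩ : ∃ q : (∐ fun j => (V j).left) ⟶ (U : Scheme.{u}), q = Limits.Sigma.desc ψ :=
    ⟨_, rfl⟩
  rw [← hq] at hC
  have hιq : ∀ j, Sigma.ι (fun j => (V j).left) j ≫ q = ψ j := fun j => by
    rw [hq]; exact Sigma.ι_desc _ _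
  let P : Scheme.{u} := pullback gW q
  let Pj : κ → P.Opens := fun j => (pullback.snd gW q) ⁻¹ᵁ (Sigma.ι (fun j => (V j).left) j).opensRange
  have hPj : ∀ j, IsAffineOpen (Pj j) := fun j =>
    (isAffineOpen_opensRange (Sigma.ι (fun j => (V j).left) j)).preimage (pullback.snd gW q)
  have hcov : ⨆ j, Pj j = ⊤ := by
    rw [eq_top_iff]
    intro p _
    obtain ⟨j, z, hz⟩ : ∃ (j : κ) (z : (V j).left),
        Sigma.ι (fun j => (V j).left) j z = (pullback.snd gW q) p :=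
      (sigmaOpenCover (fun j => (V j).left)).exists_eq _
    exact TopologicalSpace.Opens.mem_iSup.2 ⟨j, ⟨z, hz⟩⟩
  have hC1 : C (Limits.Sigma.desc fun j => (Pj j).ι) := haff P κ Pj hPj hcov
  have hC2 : C (pullback.fst gW q) := C.pullback_fst _ _ hC
  have hC3 : C (Limits.Sigma.desc fun j => (Pj j).ι ≫ pullback.fst gW q) := by
    have : (Limits.Sigma.desc fun j => (Pj j).ι ≫ pullback.fst gW q) =
        (Limits.Sigma.desc fun j => (Pj j).ι) ≫ pullback.fst gW q := by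
      apply Limits.Sigma.hom_ext
      intro j
      simp
    rw [this]
    exact C.comp_mem _ _ hC1 hC2
  have hsub : ∀ j, Set.range ((Pj j).ι ≫ pullback.snd gW q) ⊆
      Set.range (Sigma.ι (fun j => (V j).left) j) := by
    rintro j _ ⟨z, rfl⟩
    exact z.2
  refine ⟨κ, hκ, fun j => Over.mk ((Pj j).ι ≫ pullback.fst gW q ≫ W.ι ≫ Y.hom),
    fun j => Over.homMk ((Pj j).ι ≫ pullback.fst gW q ≫ W.ι) (by simp),
    fun j => (Pj j).ι ≫ pullback.fst gW q, ?_, ?_, ?_, hC3⟩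
  · intro j
    exact hPj j
  · intro j
    change R.arrows (_ ≫ g)
    obtain ⟨φ', hφ'⟩ := exists_lift_of_left
      ((Over.homMk ((Pj j).ι ≫ pullback.fst gW q ≫ W.ι) (by simp) :
        Over.mk ((Pj j).ι ≫ pullback.fst gW q ≫ W.ι ≫ Y.hom) ⟶ Y) ≫ g) (φ j)
      (IsOpenImmersion.lift (Sigma.ι (fun j => (V j).left) j) ((Pj j).ι ≫ pullback.snd gW q)
        (hsub j)) (by
        rw [← hψ j, ← hιq j, Category.assoc, IsOpenImmersion.lift_fac_assoc, Category.assoc,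
          ← pullback.condition_assoc, hgW]
        simp)
    rw [← hφ']
    exact R.downward_closed (hRφ j) φ'
  · intro j
    simp


end

section
variable {S : Scheme.{u}}
variable {C : MorphismProperty Scheme.{u}} [C.IsStableUnderComposition] [C.IsStableUnderBaseChange]

lemma cov_affine
    (hcoprod : ∀ (κ : Type u) [Finite κ] (A B : κ → Scheme.{u}) (f : ∀ j, A j ⟶ B j),
      (∀ j, C (f j)) → C (Limits.Sigma.map f))
    (haff : ∀ (U : Scheme.{u}) [IsAffine U] (κ : Type u) [Finite κ] (V : κ → U.Opens),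
      (∀ j, IsAffineOpen (V j)) → ⨆ j, V j = ⊤ → C (Limits.Sigma.desc fun j => (V j).ι))
    (Y : Over S) [IsAffine Y.left] (R : Sieve Y) (h : Cov C Y R) :
    ∃ (l : Type u) (_ : Finite l) (W : l → Over S) (φ' : ∀ k, W k ⟶ Y),
      (∀ k, IsAffine (W k).left) ∧ (∀ k, R.arrows (φ' k)) ∧
        C (Limits.Sigma.desc fun k => (φ' k).left) := by
  rw [cov_iff] at h
  unfold Dat at h
  choose U hU hyU κ hκ V φ ψ h1 h2 h3 h4 using h
  obtain ⟨t, ht⟩ := isCompact_univ.elim_finite_subcover (fun y => ((U y : Y.left.Opens) : Set Y.left))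
    (fun y => (U y).2) (fun y _ => Set.mem_iUnion.2 ⟨y, hyU y⟩)
  have hcov : ⨆ v : {y // y ∈ t}, U v.1 = ⊤ := by
    rw [eq_top_iff]
    intro y _
    have := ht (Set.mem_univ y)
    simp only [Set.mem_iUnion] at this
    obtain ⟨k, hk, hyk⟩ := this
    exact TopologicalSpace.Opens.mem_iSup.2 ⟨⟨k, hk⟩, hyk⟩
  have hC0 : C (Limits.Sigma.desc fun v : {y // y ∈ t} => (U v.1).ι) :=
    haff Y.left {y // y ∈ t} (fun v => U v.1) (fun v => hU v.1) hcov
  haveI : ∀ v : {y // y ∈ t}, Finite (κ v.1) := fun v => hκ v.1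
  have hC1 := sigma_comp C hcoprod (fun v : {y // y ∈ t} => (U v.1).ι) hC0
    (l := fun v => κ v.1) (W := fun v k => (V v.1 k).left) (fun v k => ψ v.1 k) (fun v => h4 v.1)
  refine ⟨Σ v : {y // y ∈ t}, κ v.1, inferInstance, fun p => V p.1.1 p.2, fun p => φ p.1.1 p.2,
    fun p => h1 _ _, fun p => h2 _ _, ?_⟩
  have heq : (fun p : Σ v : {y // y ∈ t}, κ v.1 => ψ p.1.1 p.2 ≫ (U p.1.1).ι) =
      fun p : Σ v : {y // y ∈ t}, κ v.1 => (φ p.1.1 p.2).left := funext fun p => h3 p.1.1 p.2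
  rw [← heq]
  exact hC1

lemma dat_trans
    (hcoprod : ∀ (κ : Type u) [Finite κ] (A B : κ → Scheme.{u}) (f : ∀ j, A j ⟶ B j),
      (∀ j, C (f j)) → C (Limits.Sigma.map f))
    (haff : ∀ (U : Scheme.{u}) [IsAffine U] (κ : Type u) [Finite κ] (V : κ → U.Opens),
      (∀ j, IsAffineOpen (V j)) → ⨆ j, V j = ⊤ → C (Limits.Sigma.desc fun j => (V j).ι))
    {X : Over S} (R R' : Sieve X) (U : X.left.Opens) (hd : Dat C X R U)
    (h : ∀ ⦃Y : Over S⦄ (f : Y ⟶ X), R.arrows f → Cov C Y (R'.pullback f)) : Dat C X R' U := by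
  obtain ⟨κ, hκ, V, φ, ψ, hVaff, hRφ, hψ, hC⟩ := hd
  have hj : ∀ j, ∃ (l : Type u) (_ : Finite l) (W : l → Over S) (φ' : ∀ k, W k ⟶ V j),
      (∀ k, IsAffine (W k).left) ∧ (∀ k, (R'.pullback (φ j)).arrows (φ' k)) ∧
        C (Limits.Sigma.desc fun k => (φ' k).left) := fun j => by
    haveI := hVaff j
    exact cov_affine hcoprod haff (V j) _ (h (φ j) (hRφ j))
  choose l hl W φ' hW hR' hC' using hj
  have hC1 := sigma_comp C hcoprod ψ hC (l := l) (W := fun j k => (W j k).left)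
    (fun j k => (φ' j k).left) hC'
  refine ⟨Σ j, l j, inferInstance, fun p => W p.1 p.2, fun p => φ' p.1 p.2 ≫ φ p.1,
    fun p => (φ' p.1 p.2).left ≫ ψ p.1,
    fun p => hW _ _, fun p => hR' _ _, fun p => ?_, hC1⟩
  change ((φ' p.1 p.2).left ≫ ψ p.1) ≫ U.ι = _
  rw [Category.assoc, hψ]
  rfl


end

section

theorem main14463 (S : Scheme.{u})
    (C : MorphismProperty Scheme.{u}) [C.IsStableUnderComposition] [C.IsStableUnderBaseChange]
    (hcoprod : ∀ (κ : Type u) [Finite κ] (A B : κ → Scheme.{u}) (f : ∀ j, A j ⟶ B j),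
      (∀ j, C (f j)) → C (Limits.Sigma.map f))
    (haff : ∀ (U : Scheme.{u}) [IsAffine U] (κ : Type u) [Finite κ] (V : κ → U.Opens),
      (∀ j, IsAffineOpen (V j)) → ⨆ j, V j = ⊤ → C (Limits.Sigma.desc fun j => (V j).ι)) :
    ∃ J : GrothendieckTopology (Over S), ∀ (X : Over S) (R : Sieve X), R ∈ J X ↔
      ∃ (ι : Type u) (U : ι → X.left.Opens), (∀ i, IsAffineOpen (U i)) ∧ ⨆ i, U i = ⊤ ∧
        ∀ i, ∃ (κ : Type u) (_ : Finite κ) (V : κ → Over S) (φ : ∀ j, V j ⟶ X)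
          (ψ : ∀ j, (V j).left ⟶ (U i : Scheme.{u})),
          (∀ j, IsAffine (V j).left) ∧ (∀ j, R.arrows (φ j)) ∧ (∀ j, ψ j ≫ (U i).ι = (φ j).left) ∧
            C (Limits.Sigma.desc ψ) := by
  refine ⟨{ sieves := fun X => {R | Cov C X R}
            top_mem' := ?_
            pullback_stable' := ?_
            transitive' := ?_ }, fun X R => Iff.rfl⟩
  · intro X
    change Cov C X ⊤
    rw [cov_iff]
    intro x
    obtain ⟨a, hxa, -⟩ := exists_affineOpen_mem_le X.left ⊤ x trivial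
    exact ⟨a.1, a.2, hxa, dat_top haff X a.1 a.2⟩
  · intro X Y R g hR
    change Cov C Y (R.pullback g)
    change Cov C X R at hR
    rw [cov_iff] at hR ⊢
    intro y
    obtain ⟨U, hU, hxU, hd⟩ := hR (g.left y)
    obtain ⟨W, hyW, hWle⟩ := exists_affineOpen_mem_le Y.left (g.left ⁻¹ᵁ U) y hxU
    exact ⟨W.1, W.2, hyW, dat_pullback haff g R U hU hd W.1 W.2 hWle⟩
  · intro X R hR R' h
    change Cov C X R'
    change Cov C X R at hR
    rw [cov_iff] at hR ⊢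
    intro x
    obtain ⟨U, hU, hxU, hd⟩ := hR x
    exact ⟨U, hU, hxU, dat_trans hcoprod haff R R' U hd (fun Y f hf => h hf)⟩


end

end Groth.Agent.Lib.R2H4.BigSiteTopA
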