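import Mathlib
import Groth.Prelude.Def_Pi1
import Groth.Agent.Lib.H6xCIE
import Groth.Agent.Lib.H6xCIF
import Groth.Agent.Lib.H6xCIG
import Groth.Agent.Lib.H6xCIJ
import Groth.Agent.Lib.H9NzdFibre
import Groth.Agent.Lib.Helper28FlatNormal
import Groth.Agent.Lib.Helper5RLR
import Groth.Agent.Lib.Helper2PullbackSec3
import Groth.Agent.Lib.Helper4DimFormulaG

/-!
# Complete intersection local rings and flat base change of the regular ambient ring
(helper4, round 2)

* `exists_isRegular_iff_of_flat`: `R → R'` flat local homomorphism of regular local rings, `J` a proper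
  ideal: `J` is generated by a regular sequence iff `J R'` is (numerical criterion + flat dimension
  formula).
* `ci_atPrime_iff_of_flat_square`: surjections `B → C`, `B' → C'` from regular rings, `B → B'` flat,
  `ker' = ker · B'`: local rings of `C` and `C'` at corresponding primes are complete intersections
  simultaneously.
* `ci_atPrime_iff_of_tensor_equiv / _tensor / _of_isPushout`: base change `K ⊗[k] C` of a finite type
  `k`-algebra along a flat map of regular rings `k → K` (e.g. any field extension).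
* `ci_stalk_iff`, `ci_stalk_iff_of_isPullback`: scheme chart forms.
-/

set_option autoImplicit false
universe u
open scoped TensorProduct
open IsLocalRing RingTheory.Sequence
open CategoryTheory CategoryTheory.Limits AlgebraicGeometry

namespace Groth.Agent.Lib.R2H4.CIFlat


open Groth.Agent.Lib.H6xCI

section Core

variable {R R' : Type u} [CommRing R] [CommRing R'] [IsRegularLocalRing R]
  [IsRegularLocalRing R'] [Algebra R R'] [IsLocalHom (algebraMap R R')] [Module.Flat R R']

omit [Module.Flat R R'] in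
theorem map_ne_top (J : Ideal R) (hJ : J ≠ ⊤) : J.map (algebraMap R R') ≠ ⊤ := by
  intro h
  have hle : J.map (algebraMap R R') ≤ maximalIdeal R' := by
    rw [Ideal.map_le_iff_le_comap, IsLocalRing.maximalIdeal_comap]
    exact IsLocalRing.le_maximalIdeal hJ
  rw [h] at hle
  exact (IsLocalRing.maximalIdeal.isMaximal R').ne_top (top_le_iff.mp hle)

/-- dimension bookkeeping for `R/J → R'/JR'`. -/
theorem dims (J : Ideal R) (hJ : J ≠ ⊤) (e e' d d' : ℕ) (he : ringKrullDim R = e)
    (he' : ringKrullDim R' = e') (hd : ringKrullDim (R ⧸ J) = d)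
    (hd' : ringKrullDim (R' ⧸ J.map (algebraMap R R')) = d') : e' + d = d' + e := by
  have hJ' := map_ne_top (R' := R') J hJ
  haveI : IsLocalRing (R ⧸ J) := Groth.Agent.Lib.Helper5.isLocalRing_quotient hJ
  haveI : IsLocalRing (R' ⧸ J.map (algebraMap R R')) :=
    Groth.Agent.Lib.Helper5.isLocalRing_quotient hJ'
  haveI : Module.Flat (R ⧸ J) (R' ⧸ J.map (algebraMap R R')) :=
    Groth.Agent.Lib.H9NzdFibre.flat_quot_of_flat J
  have hloc : IsLocalHom (algebraMap (R ⧸ J) (R' ⧸ J.map (algebraMap R R'))) := by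
    constructor
    intro a ha
    obtain ⟨a, rfl⟩ := Ideal.Quotient.mk_surjective a
    by_contra hna
    have h1 : a ∈ maximalIdeal R := by
      by_contra h2
      apply hna
      have : IsUnit a := by simpa [IsLocalRing.mem_maximalIdeal] using h2
      exact this.map _
    have h3 : algebraMap R R' a ∈ maximalIdeal R' := by
      have : maximalIdeal R = (maximalIdeal R').comap (algebraMap R R') :=
        (IsLocalRing.maximalIdeal_comap _).symm
      rw [this] at h1
      exact h1
    have h4 : Ideal.Quotient.mk (J.map (algebraMap R R')) (algebraMap R R' a) ∈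
        maximalIdeal (R' ⧸ J.map (algebraMap R R')) := by
      rw [Groth.Agent.Lib.Helper5.maximalIdeal_quotient_eq_map]
      exact Ideal.mem_map_of_mem _ h3
    exact (IsLocalRing.mem_maximalIdeal _).mp h4 ha
  -- fibre of R → R'
  let K : Ideal R' := (maximalIdeal R).map (algebraMap R R')
  have h1 := Groth.Agent.Lib.Helper28.ringKrullDim_eq_add_of_flat (R := R) (S := R') K rfl
  let K2 : Ideal (R' ⧸ J.map (algebraMap R R')) :=
    (maximalIdeal (R ⧸ J)).map (algebraMap (R ⧸ J) (R' ⧸ J.map (algebraMap R R')))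
  have h2 := Groth.Agent.Lib.Helper28.ringKrullDim_eq_add_of_flat (R := R ⧸ J)
    (S := R' ⧸ J.map (algebraMap R R')) K2 rfl
  have hK2 : K2 = K.map (Ideal.Quotient.mk (J.map (algebraMap R R'))) := by
    change (maximalIdeal (R ⧸ J)).map _ = _
    rw [Groth.Agent.Lib.Helper5.maximalIdeal_quotient_eq_map, Ideal.map_map, Ideal.map_map]
    congr 1
  have hsup : J.map (algebraMap R R') ⊔ K = K := by
    rw [sup_eq_right]
    exact Ideal.map_mono (IsLocalRing.le_maximalIdeal hJ)
  have h3 : ringKrullDim ((R' ⧸ J.map (algebraMap R R')) ⧸ K2) = ringKrullDim (R' ⧸ K) := by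
    rw [hK2]
    exact ringKrullDim_eq_of_ringEquiv
      ((DoubleQuot.quotQuotEquivQuotSup (J.map (algebraMap R R')) K).trans
        (Ideal.quotEquivOfEq hsup))
  obtain ⟨f, hf⟩ := exists_natCast_ringKrullDim (R' ⧸ K)
  rw [h3, hf, hd', hd] at h2
  rw [hf, he', he] at h1
  have h1' : e' = f + e := by exact_mod_cast h1
  have h2' : d' = f + d := by exact_mod_cast h2
  omega

end Core



open Groth.Agent.Lib.H6xCI

section Core

variable {R R' : Type u} [CommRing R] [CommRing R'] [IsRegularLocalRing R]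
  [IsRegularLocalRing R'] [Algebra R R'] [IsLocalHom (algebraMap R R')] [Module.Flat R R']

/-- **Ideals generated by regular sequences along a flat local homomorphism of regular local
rings.** -/
theorem exists_isRegular_iff_of_flat (J : Ideal R) (hJ : J ≠ ⊤) :
    (∃ rs : List R, Ideal.ofList rs = J ∧ IsRegular R rs) ↔
      ∃ rs : List R', Ideal.ofList rs = J.map (algebraMap R R') ∧ IsRegular R' rs := by
  have hJ' := map_ne_top (R' := R') J hJ
  haveI : IsLocalRing (R ⧸ J) := Groth.Agent.Lib.Helper5.isLocalRing_quotient hJ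
  haveI : IsLocalRing (R' ⧸ J.map (algebraMap R R')) :=
    Groth.Agent.Lib.Helper5.isLocalRing_quotient hJ'
  obtain ⟨e, he⟩ := exists_natCast_ringKrullDim R
  obtain ⟨e', he'⟩ := exists_natCast_ringKrullDim R'
  obtain ⟨d, hd⟩ := exists_natCast_ringKrullDim (R ⧸ J)
  obtain ⟨d', hd'⟩ := exists_natCast_ringKrullDim (R' ⧸ J.map (algebraMap R R'))
  have hdims := dims (R' := R') J hJ e e' d d' he he' hd hd'
  haveI : Module.FaithfullyFlat R R' := Module.FaithfullyFlat.of_flat_of_isLocalHom
  have hμ1 : J.spanFinrank ≤ (J.map (algebraMap R R')).spanFinrank :=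
    spanFinrank_le_spanFinrank_map J (IsNoetherian.noetherian J)
  have hμ2 : (J.map (algebraMap R R')).spanFinrank ≤ J.spanFinrank :=
    Ideal.spanFinrank_map_le_of_fg (algebraMap R R') (IsNoetherian.noetherian J)
  have hk : RingHom.ker (Ideal.Quotient.mk J) = J := Ideal.mk_ker
  have hk' : RingHom.ker (Ideal.Quotient.mk (J.map (algebraMap R R'))) = J.map (algebraMap R R') :=
    Ideal.mk_ker
  have hle := dim_le (Ideal.Quotient.mk J) Ideal.Quotient.mk_surjective d e hd he
  have hle' := dim_le (Ideal.Quotient.mk (J.map (algebraMap R R'))) Ideal.Quotient.mk_surjective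
    d' e' hd' he'
  rw [hk] at hle
  rw [hk'] at hle'
  constructor
  · rintro ⟨rs, hrs, hreg⟩
    have h1 := dim_eq_of_isRegular (Ideal.Quotient.mk J) Ideal.Quotient.mk_surjective d e hd he rs
      (hrs.trans hk.symm) hreg
    rw [hk] at h1
    have := exists_isRegular_of_dim_eq (Ideal.Quotient.mk (J.map (algebraMap R R')))
      Ideal.Quotient.mk_surjective d' e' hd' he' (by rw [hk']; omega)
    rwa [hk'] at this
  · rintro ⟨rs, hrs, hreg⟩
    have h1 := dim_eq_of_isRegular (Ideal.Quotient.mk (J.map (algebraMap R R')))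
      Ideal.Quotient.mk_surjective d' e' hd' he' rs (hrs.trans hk'.symm) hreg
    rw [hk'] at h1
    have := exists_isRegular_of_dim_eq (Ideal.Quotient.mk J)
      Ideal.Quotient.mk_surjective d e hd he (by rw [hk]; omega)
    rwa [hk] at this

end Core



open Groth.Agent.Lib.H6xCI

section Square

/-- the local ring of a quotient of a regular ring is a complete intersection iff the kernel is
generated, locally, by a regular sequence (surjection form) -/
theorem ci_atPrime_iff_of_surjective {B C : Type u} [CommRing B] [CommRing C] [IsRegularRing B]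
    (φ : B →+* C) (hφ : Function.Surjective φ) (Q : Ideal C) [Q.IsPrime] :
    Pi1.IsCompleteIntersection (Localization.AtPrime Q) ↔
      ∃ rs : List (Localization.AtPrime (Q.comap φ)),
        Ideal.ofList rs = (RingHom.ker φ).map (algebraMap B (Localization.AtPrime (Q.comap φ))) ∧
          IsRegular (Localization.AtPrime (Q.comap φ)) rs := by
  have hsurj : Function.Surjective (Localization.localRingHom (Q.comap φ) Q φ rfl) :=
    (RingHom.surjectiveOnStalks_of_surjective hφ) Q inferInstance
  have hT : Submonoid.map φ (Q.comap φ).primeCompl = Q.primeCompl := by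
    ext y
    constructor
    · rintro ⟨x, hx, rfl⟩
      exact hx
    · intro hy
      obtain ⟨x, rfl⟩ := hφ y
      exact ⟨x, hy, rfl⟩
  have hker : RingHom.ker (Localization.localRingHom (Q.comap φ) Q φ rfl) =
      (RingHom.ker φ).map (algebraMap B (Localization.AtPrime (Q.comap φ))) :=
    IsLocalization.ker_map (S := Localization.AtPrime (Q.comap φ)) (Localization.AtPrime Q) φ hT
  rw [ci_iff_of_surjective _ hsurj, hker]

/-- **Complete intersection local rings along a flat base change of regular ambient rings.** -/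
theorem ci_atPrime_iff_of_flat_square {B B' C C' : Type u} [CommRing B] [CommRing B'] [CommRing C]
    [CommRing C'] [IsRegularRing B] [IsRegularRing B'] [Algebra B B'] [Module.Flat B B']
    (φ : B →+* C) (hφ : Function.Surjective φ) (φ' : B' →+* C') (hφ' : Function.Surjective φ')
    (ψ : C →+* C') (hcomm : φ'.comp (algebraMap B B') = ψ.comp φ)
    (hker : RingHom.ker φ' = (RingHom.ker φ).map (algebraMap B B'))
    (Q' : Ideal C') [Q'.IsPrime] (Q : Ideal C) [Q.IsPrime] (hQ : Q'.comap ψ = Q) :
    Pi1.IsCompleteIntersection (Localization.AtPrime Q) ↔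
      Pi1.IsCompleteIntersection (Localization.AtPrime Q') := by
  subst hQ
  rw [ci_atPrime_iff_of_surjective φ hφ, ci_atPrime_iff_of_surjective φ' hφ']
  have hP : (Q'.comap ψ).comap φ = (Q'.comap φ').comap (algebraMap B B') := by
    rw [Ideal.comap_comap, Ideal.comap_comap, hcomm]
  letI : Algebra (Localization.AtPrime ((Q'.comap ψ).comap φ))
      (Localization.AtPrime (Q'.comap φ')) :=
    (Localization.localRingHom _ (Q'.comap φ') (algebraMap B B') hP).toAlgebra
  haveI : IsLocalHom (algebraMap (Localization.AtPrime ((Q'.comap ψ).comap φ))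
      (Localization.AtPrime (Q'.comap φ'))) :=
    Localization.isLocalHom_localRingHom _ _ _ hP
  haveI : Module.Flat (Localization.AtPrime ((Q'.comap ψ).comap φ))
      (Localization.AtPrime (Q'.comap φ')) :=
    RingHom.Flat.localRingHom (RingHom.flat_algebraMap_iff.mpr inferInstance) _ _ hP
  have hJ : (RingHom.ker φ).map (algebraMap B (Localization.AtPrime ((Q'.comap ψ).comap φ))) ≠ ⊤ := by
    intro h
    have h1 : RingHom.ker φ ≤ (Q'.comap ψ).comap φ := by
      intro x hx
      rw [Ideal.mem_comap, RingHom.mem_ker.mp hx]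
      exact Ideal.zero_mem _
    have h2 := Ideal.map_mono (f := algebraMap B (Localization.AtPrime ((Q'.comap ψ).comap φ))) h1
    rw [h, Localization.AtPrime.map_eq_maximalIdeal] at h2
    exact (IsLocalRing.maximalIdeal.isMaximal _).ne_top (top_le_iff.mp h2)
  rw [exists_isRegular_iff_of_flat (R' := Localization.AtPrime (Q'.comap φ')) _ hJ]
  have hmap : ((RingHom.ker φ).map
      (algebraMap B (Localization.AtPrime ((Q'.comap ψ).comap φ)))).map
        (algebraMap (Localization.AtPrime ((Q'.comap ψ).comap φ))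
          (Localization.AtPrime (Q'.comap φ'))) =
      (RingHom.ker φ').map (algebraMap B' (Localization.AtPrime (Q'.comap φ'))) := by
    rw [hker, Ideal.map_map, Ideal.map_map]
    congr 1
    ext x
    exact Localization.localRingHom_to_map _ _ _ hP x
  rw [hmap]

end Square



open Groth.Agent.Lib.H6xCI

section Field

attribute [local instance] MvPolynomial.algebraMvPolynomial

theorem flat_mvPolynomial (k K : Type u) [CommRing k] [CommRing K] [Algebra k K] [Module.Flat k K]
    (n : ℕ) : Module.Flat (MvPolynomial (Fin n) k) (MvPolynomial (Fin n) K) := by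
  have h : Algebra.IsPushout k (MvPolynomial (Fin n) k) K (MvPolynomial (Fin n) K) := inferInstance
  exact Module.Flat.isBaseChange k (MvPolynomial (Fin n) k) K (MvPolynomial (Fin n) K) h.out

/-- **Base change of complete intersection local rings** along a flat map `k → K` of regular rings
(e.g. a field extension), for a finite type `k`-algebra `C` and any ring `C'` identified with
`K ⊗[k] C`. -/
theorem ci_atPrime_iff_of_tensor_equiv (k K C C' : Type u) [CommRing k] [CommRing K]
    [IsRegularRing k] [IsRegularRing K] [Algebra k K] [Module.Flat k K] [CommRing C] [CommRing C']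
    [Algebra k C] [Algebra.FiniteType k C] (ε : K ⊗[k] C ≃+* C') (ψ : C →+* C')
    (hψ : ∀ c : C, ε (1 ⊗ₜ c) = ψ c)
    (Q' : Ideal C') [Q'.IsPrime] (Q : Ideal C) [Q.IsPrime] (hQ : Q'.comap ψ = Q) :
    Pi1.IsCompleteIntersection (Localization.AtPrime Q) ↔
      Pi1.IsCompleteIntersection (Localization.AtPrime Q') := by
  obtain ⟨n, φ, hφ⟩ := Algebra.FiniteType.iff_quotient_mvPolynomial''.mp
    (inferInstance : Algebra.FiniteType k C)
  let e : K ⊗[k] MvPolynomial (Fin n) k ≃ₐ[K] MvPolynomial (Fin n) K :=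
    MvPolynomial.algebraTensorAlgEquiv k K
  let T : K ⊗[k] MvPolynomial (Fin n) k →ₐ[k] K ⊗[k] C :=
    Algebra.TensorProduct.map (AlgHom.id k K) φ
  let φ' : MvPolynomial (Fin n) K →+* C' :=
    ε.toRingHom.comp (T.toRingHom.comp e.symm.toRingEquiv.toRingHom)
  haveI : Module.Flat (MvPolynomial (Fin n) k) (MvPolynomial (Fin n) K) := flat_mvPolynomial k K n
  have hTs : Function.Surjective T :=
    Algebra.TensorProduct.map_surjective (AlgHom.id k K) φ Function.surjective_id hφ
  have hφ' : Function.Surjective φ' := ε.surjective.comp (hTs.comp e.symm.surjective)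
  have hsymm : ∀ p : MvPolynomial (Fin n) k,
      e.symm (algebraMap (MvPolynomial (Fin n) k) (MvPolynomial (Fin n) K) p) = 1 ⊗ₜ p := by
    intro p
    rw [AlgEquiv.symm_apply_eq, MvPolynomial.algebraMap_def]
    simp [e, MvPolynomial.algebraTensorAlgEquiv_tmul]
  have hcomm : φ'.comp (algebraMap (MvPolynomial (Fin n) k) (MvPolynomial (Fin n) K)) =
      ψ.comp φ.toRingHom := by
    refine RingHom.ext fun p => ?_
    change ε (T (e.symm (algebraMap _ _ p))) = ψ (φ p)
    rw [hsymm, ← hψ]
    simp [T]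
  have hker : RingHom.ker φ' = (RingHom.ker φ.toRingHom).map
      (algebraMap (MvPolynomial (Fin n) k) (MvPolynomial (Fin n) K)) := by
    have h1 : RingHom.ker φ' = (RingHom.ker T.toRingHom).map e.toRingEquiv.toRingHom := by
      ext x
      rw [RingHom.mem_ker]
      constructor
      · intro hx
        have hx' : T (e.symm x) = 0 := by
          apply ε.injective
          rw [map_zero]
          exact hx
        have : x = e.toRingEquiv.toRingHom (e.symm x) := by simp
        rw [this]
        exact Ideal.mem_map_of_mem _ (RingHom.mem_ker.mpr hx')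
      · intro hx
        have hle : (RingHom.ker T.toRingHom).map e.toRingEquiv.toRingHom ≤ RingHom.ker φ' := by
          rw [Ideal.map_le_iff_le_comap]
          intro y hy
          rw [Ideal.mem_comap, RingHom.mem_ker]
          change ε (T (e.symm (e y))) = 0
          rw [AlgEquiv.symm_apply_apply]
          have hy' : T y = 0 := RingHom.mem_ker.mp hy
          rw [hy', map_zero]
        exact RingHom.mem_ker.mp (hle hx)
    have h2 : RingHom.ker T.toRingHom = (RingHom.ker φ.toRingHom).map
        (Algebra.TensorProduct.includeRight : MvPolynomial (Fin n) k →ₐ[k]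
          K ⊗[k] MvPolynomial (Fin n) k).toRingHom :=
      Algebra.TensorProduct.lTensor_ker (A := K) φ hφ
    rw [h1, h2, Ideal.map_map]
    congr 1
    refine RingHom.ext fun p => ?_
    change e (1 ⊗ₜ p) = _
    rw [← hsymm, AlgEquiv.apply_symm_apply]
  exact ci_atPrime_iff_of_flat_square φ.toRingHom hφ φ' hφ' ψ hcomm hker Q' Q hQ

/-- tensor product form -/
theorem ci_atPrime_iff_tensor (k K C : Type u) [CommRing k] [CommRing K]
    [IsRegularRing k] [IsRegularRing K] [Algebra k K] [Module.Flat k K] [CommRing C]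
    [Algebra k C] [Algebra.FiniteType k C]
    (Q' : Ideal (K ⊗[k] C)) [Q'.IsPrime] (Q : Ideal C) [Q.IsPrime]
    (hQ : Q'.comap (Algebra.TensorProduct.includeRight : C →ₐ[k] K ⊗[k] C).toRingHom = Q) :
    Pi1.IsCompleteIntersection (Localization.AtPrime Q) ↔
      Pi1.IsCompleteIntersection (Localization.AtPrime Q') :=
  ci_atPrime_iff_of_tensor_equiv k K C (K ⊗[k] C) (RingEquiv.refl _) _ (fun _ => rfl) Q' Q hQ

/-- pushout form -/
theorem ci_atPrime_iff_of_isPushout (k K C C' : Type u) [CommRing k] [CommRing K]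
    [IsRegularRing k] [IsRegularRing K] [Algebra k K] [Module.Flat k K] [CommRing C] [CommRing C']
    [Algebra k C] [Algebra.FiniteType k C] [Algebra K C'] [Algebra C C'] [Algebra k C']
    [IsScalarTower k K C'] [IsScalarTower k C C'] [Algebra.IsPushout k K C C']
    (Q' : Ideal C') [Q'.IsPrime] (Q : Ideal C) [Q.IsPrime]
    (hQ : Q'.comap (algebraMap C C') = Q) :
    Pi1.IsCompleteIntersection (Localization.AtPrime Q) ↔
      Pi1.IsCompleteIntersection (Localization.AtPrime Q') :=
  ci_atPrime_iff_of_tensor_equiv k K C C' (Algebra.IsPushout.equiv k K C C').toRingEquiv _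
    (fun c => by
      change Algebra.IsPushout.equiv k K C C' (1 ⊗ₜ c) = _
      rw [Algebra.IsPushout.equiv_tmul, map_one, one_mul]) Q' Q hQ

end Field



open Groth.Agent.Lib.H6xCI

section Sch

theorem flat_of_isField (R M : Type u) [CommRing R] (h : IsField R) [AddCommGroup M]
    [Module R M] : Module.Flat R M := by
  letI := h.toField
  infer_instance

theorem isRegularRing_of_isField (R : Type u) [CommRing R] (h : IsField R) : IsRegularRing R := by
  letI := h.toField
  infer_instance

/-- the stalk at a point of an affine open is a complete intersection iff the localization of the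
section ring is -/
theorem ci_stalk_iff {X : Scheme.{u}} {U : X.Opens} (hU : IsAffineOpen U) (x : X) (hx : x ∈ U)
    [IsNoetherianRing Γ(X, U)] :
    Pi1.IsCompleteIntersection (X.presheaf.stalk x) ↔
      Pi1.IsCompleteIntersection (Localization.AtPrime (hU.primeIdealOf ⟨x, hx⟩).asIdeal) := by
  letI : Algebra Γ(X, U) (X.presheaf.stalk x) := X.presheaf.algebra_section_stalk ⟨x, hx⟩
  haveI : IsLocalization.AtPrime (X.presheaf.stalk x) (hU.primeIdealOf ⟨x, hx⟩).asIdeal :=
    hU.isLocalization_stalk ⟨x, hx⟩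
  let ε' : X.presheaf.stalk x ≃ₐ[Γ(X, U)]
      Localization.AtPrime (hU.primeIdealOf ⟨x, hx⟩).asIdeal :=
    IsLocalization.algEquiv (hU.primeIdealOf ⟨x, hx⟩).asIdeal.primeCompl _ _
  haveI : IsNoetherianRing (Localization.AtPrime (hU.primeIdealOf ⟨x, hx⟩).asIdeal) :=
    IsLocalization.isNoetherianRing (hU.primeIdealOf ⟨x, hx⟩).asIdeal.primeCompl _ inferInstance
  haveI : IsNoetherianRing (X.presheaf.stalk x) :=
    isNoetherianRing_of_ringEquiv _ ε'.symm.toRingEquiv
  exact ⟨ci_of_ringEquiv ε'.toRingEquiv, ci_of_ringEquiv ε'.symm.toRingEquiv⟩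

variable {X S X' S' : Scheme.{u}} {f : X ⟶ S} {f' : X' ⟶ S'} {g' : X' ⟶ X} {g : S' ⟶ S}

/-- **Complete intersection stalks and base change along a field extension** (chart form). -/
theorem ci_stalk_iff_of_isPullback (hc : IsPullback g' f' f g) {V : S.Opens} {V' : S'.Opens}
    {U : X.Opens} (eV' : V' ≤ g ⁻¹ᵁ V) (eU : U ≤ f ⁻¹ᵁ V) (hV : IsAffineOpen V)
    (hV' : IsAffineOpen V') (hU : IsAffineOpen U) (hk : IsField Γ(S, V)) (hK : IsField Γ(S', V'))
    (hft : (f.appLE V U eU).hom.FiniteType) (x' : X') (hx' : x' ∈ g' ⁻¹ᵁ U ⊓ f' ⁻¹ᵁ V') :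
    Pi1.IsCompleteIntersection (X.presheaf.stalk (g'.base x')) ↔
      Pi1.IsCompleteIntersection (X'.presheaf.stalk x') := by
  have e1 : g' ⁻¹ᵁ U ⊓ f' ⁻¹ᵁ V' ≤ g' ⁻¹ᵁ U := inf_le_left
  have e2 : g' ⁻¹ᵁ U ⊓ f' ⁻¹ᵁ V' ≤ f' ⁻¹ᵁ V' := inf_le_right
  have hU' : IsAffineOpen (g' ⁻¹ᵁ U ⊓ f' ⁻¹ᵁ V') :=
    Groth.Agent.Lib.Helper2.PullbackSec.isAffineOpen_inf_preimage hc eV' eU hV hV' hU
  letI a1 : Algebra Γ(S, V) Γ(X, U) := (f.appLE V U eU).hom.toAlgebra
  letI a2 : Algebra Γ(S, V) Γ(S', V') := (g.appLE V V' eV').hom.toAlgebra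
  letI a3 : Algebra Γ(X, U) Γ(X', g' ⁻¹ᵁ U ⊓ f' ⁻¹ᵁ V') := (g'.appLE U _ e1).hom.toAlgebra
  letI a4 : Algebra Γ(S', V') Γ(X', g' ⁻¹ᵁ U ⊓ f' ⁻¹ᵁ V') := (f'.appLE V' _ e2).hom.toAlgebra
  letI a5 : Algebra Γ(S, V) Γ(X', g' ⁻¹ᵁ U ⊓ f' ⁻¹ᵁ V') :=
    ((g'.appLE U _ e1).hom.comp (f.appLE V U eU).hom).toAlgebra
  haveI t1 : IsScalarTower Γ(S, V) Γ(X, U) Γ(X', g' ⁻¹ᵁ U ⊓ f' ⁻¹ᵁ V') :=
    IsScalarTower.of_algebraMap_eq' rfl
  haveI t2 : IsScalarTower Γ(S, V) Γ(S', V') Γ(X', g' ⁻¹ᵁ U ⊓ f' ⁻¹ᵁ V') := by
    refine IsScalarTower.of_algebraMap_eq' ?_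
    change (g'.appLE U _ e1).hom.comp (f.appLE V U eU).hom =
      (f'.appLE V' _ e2).hom.comp (g.appLE V V' eV').hom
    rw [← CommRingCat.hom_comp, ← CommRingCat.hom_comp, Scheme.Hom.appLE_comp_appLE,
      Scheme.Hom.appLE_comp_appLE]
    simp only [hc.w]
  haveI hpo := Groth.Agent.Lib.Helper2.PullbackSec.algebra_isPushout hc eV' eU hV hV' hU e1 e2
  haveI : IsRegularRing Γ(S, V) := isRegularRing_of_isField _ hk
  haveI : IsRegularRing Γ(S', V') := isRegularRing_of_isField _ hK
  haveI : Module.Flat Γ(S, V) Γ(S', V') := flat_of_isField _ _ hk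
  haveI : Algebra.FiniteType Γ(S, V) Γ(X, U) := hft
  haveI : Algebra.FiniteType Γ(S', V') Γ(X', g' ⁻¹ᵁ U ⊓ f' ⁻¹ᵁ V') := by
    haveI := hpo.symm
    have h := RingHom.finiteType_isStableUnderBaseChange Γ(S, V) Γ(X, U) Γ(S', V')
      Γ(X', g' ⁻¹ᵁ U ⊓ f' ⁻¹ᵁ V') (RingHom.finiteType_algebraMap.mpr hft)
    exact RingHom.finiteType_algebraMap.mp h
  haveI : IsNoetherianRing Γ(S, V) := inferInstance
  haveI : IsNoetherianRing Γ(S', V') := inferInstance
  haveI : IsNoetherianRing Γ(X, U) := Algebra.FiniteType.isNoetherianRing Γ(S, V) _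
  haveI : IsNoetherianRing Γ(X', g' ⁻¹ᵁ U ⊓ f' ⁻¹ᵁ V') :=
    Algebra.FiniteType.isNoetherianRing Γ(S', V') _
  rw [ci_stalk_iff hU (g'.base x') hx'.1, ci_stalk_iff hU' x' hx']
  exact ci_atPrime_iff_of_isPushout Γ(S, V) Γ(S', V') Γ(X, U) Γ(X', g' ⁻¹ᵁ U ⊓ f' ⁻¹ᵁ V') _ _
    (Groth.Agent.Lib.Helper4.DimFormula.primeIdealOf_comap_appLE g' hU' hU e1 x' hx')

end Sch


end Groth.Agent.Lib.R2H4.CIFlat
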