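import Mathlib
import Groth.Prelude.Def_RegImm
import Groth.Agent.Lib.R2H4SyntLocal

set_option autoImplicit false
universe u
open scoped TensorProduct
open AlgebraicGeometry CategoryTheory CategoryTheory.Limits

namespace Groth.Agent.Lib.R2H4.SyntFib

open Groth.Agent.Lib.R2H4.SyntLocal

/-- A syntomic algebra over a field is a local complete intersection over it. -/
theorem isLCIOver_of_isSyntomic_field (K : Type u) [Field K] (C : Type u) [CommRing C]
    [Algebra K C] (h : Synt.IsSyntomic K C) : Synt.IsLCIOver K C := by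
  have hp : (⊥ : Ideal K).IsPrime := Ideal.isPrime_bot
  have h1 := h.2.2 ⟨⊥, hp⟩
  let σ : (⊥ : Ideal K).ResidueField ≃+* K :=
    (Ideal.algEquivResidueFieldOfField (⊥ : Ideal K)).symm.toRingEquiv
  let e0 : (⊥ : Ideal K).ResidueField ⊗[K] C ≃ₐ[K] C :=
    (Algebra.TensorProduct.congr (Ideal.algEquivResidueFieldOfField (⊥ : Ideal K)).symm
      (AlgEquiv.refl : C ≃ₐ[K] C)).trans (Algebra.TensorProduct.lid K C)
  refine isLCIOver_of_ringEquiv _ _ σ _ _ e0.toRingEquiv (fun c => ?_) h1
  simp [e0, σ, Algebra.TensorProduct.algebraMap_apply, Algebra.smul_def]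

/-- The fibre of `Spec Γ(X,U) ⟶ Spec Γ(S,V)` at a point `p` is an open subscheme of the fibre of
`f` at the image of `p`. -/
theorem affineLocally_fiber_of_fiber {X S : Scheme.{u}} (f : X ⟶ S)
    (hfib : ∀ s : S, affineLocally @Q (f.fiberToSpecResidueField s))
    (U : X.affineOpens) (V : S.affineOpens) (e : U.1 ≤ f ⁻¹ᵁ V.1)
    (p : Spec Γ(S, V.1)) :
    affineLocally @Q ((Spec.map (f.appLE V.1 U.1 e)).fiberToSpecResidueField p) := by
  have hcomm : Spec.map (f.appLE V.1 U.1 e) ≫ V.2.fromSpec = U.2.fromSpec ≫ f :=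
    IsAffineOpen.SpecMap_appLE_fromSpec f V.2 U.2 e
  let j : (Spec.map (f.appLE V.1 U.1 e)).fiber p ⟶ f.fiber (V.2.fromSpec p) :=
    pullback.map _ _ _ _ U.2.fromSpec (Spec.map (V.2.fromSpec.residueFieldMap p)) V.2.fromSpec
      hcomm (by simp)
  have hj : j ≫ f.fiberToSpecResidueField (V.2.fromSpec p) =
      (Spec.map (f.appLE V.1 U.1 e)).fiberToSpecResidueField p ≫
        Spec.map (V.2.fromSpec.residueFieldMap p) :=
    pullback.lift_snd _ _ _
  have i1 : IsOpenImmersion U.2.fromSpec := inferInstance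
  have i0 : IsOpenImmersion V.2.fromSpec := inferInstance
  have i2 : IsIso (V.2.fromSpec.residueFieldMap p) := inferInstance
  have i3 : IsIso (Spec.map (V.2.fromSpec.residueFieldMap p)) := inferInstance
  have i4 : Mono V.2.fromSpec := inferInstance
  have i5 : IsOpenImmersion (Spec.map (V.2.fromSpec.residueFieldMap p)) := inferInstance
  have hopen : IsOpenImmersion j :=
    Scheme.pullback_map_isOpenImmersion _ _ _ _ _ _ _ _ _
  have h1 : affineLocally @Q (j ≫ f.fiberToSpecResidueField (V.2.fromSpec p)) :=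
    IsZariskiLocalAtSource.comp (hfib _) j
  rw [hj] at h1
  exact (MorphismProperty.cancel_right_of_respectsIso (affineLocally @Q) _
    (Spec.map (V.2.fromSpec.residueFieldMap p))).mp h1

theorem isSyntomicMor_of_fibres {X S : Scheme.{u}} (f : X ⟶ S) [Flat f]
    [LocallyOfFinitePresentation f]
    (hfib : ∀ s : S, Synt.IsSyntomicMor (f.fiberToSpecResidueField s)) :
    Synt.IsSyntomicMor f := by
  rw [isSyntomicMor_iff_affineLocally, HasRingHomProperty.iff_appLE (P := affineLocally @Q)]
  intro V U e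
  have hfib' : ∀ s : S, affineLocally @Q (f.fiberToSpecResidueField s) :=
    fun s => (isSyntomicMor_iff_affineLocally _).mp (hfib s)
  have hflat : (f.appLE V.1 U.1 e).hom.Flat :=
    HasRingHomProperty.appLE (P := @Flat) f inferInstance V U e
  have hfp : (f.appLE V.1 U.1 e).hom.FinitePresentation :=
    HasRingHomProperty.appLE (P := @LocallyOfFinitePresentation) f inferInstance V U e
  have key := affineLocally_fiber_of_fiber f hfib' U V e
  generalize f.appLE V.1 U.1 e = φ at hflat hfp key
  algebraize_only [φ.hom]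
  rw [← RingHom.algebraMap_toAlgebra φ.hom, Q_algebraMap]
  refine ⟨hflat, hfp, fun p => ?_⟩
  apply isLCIOver_of_isSyntomic_field
  rw [← Q_algebraMap]
  have h2 : affineLocally @Q ((Spec.map (CommRingCat.ofHom
      (algebraMap Γ(S, V.1) Γ(X, U.1)))).fiberToSpecResidueField p) := key p
  have h3 := (MorphismProperty.arrow_mk_iso_iff (affineLocally @Q)
    (Spec.fiberToSpecResidueFieldIso Γ(S, V.1) Γ(X, U.1) p)).mp h2
  exact (HasRingHomProperty.Spec_iff (P := affineLocally @Q)).mp h3

end Groth.Agent.Lib.R2H4.SyntFib
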