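import Mathlib
import Groth.Prelude.Def_RegImm
import Groth.Agent.Lib.R2H4CIFieldD
import Groth.Agent.Lib.R2H4SyntFib
import Groth.Agent.Lib.R2H4SyntStd

/-!
# Local complete intersections over a field: syntomic ⇔ locally global CI ⇔ stalks CI
(helper4, round 2)
-/

set_option autoImplicit false
universe u
open scoped TensorProduct

namespace Groth.Agent.Lib.R2H4.LciField

open Groth.Agent.Lib.R2H4.SyntLocal Groth.Agent.Lib.R2H4.SyntFib Groth.Agent.Lib.R2H4.CIField
open AlgebraicGeometry CategoryTheory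

section Field

variable (k : Type u) [Field k]

/-- A local complete intersection over a field is syntomic over it. -/
theorem isSyntomic_of_isLCIOver_field (C : Type u) [CommRing C] [Algebra k C]
    (h : Synt.IsLCIOver k C) : Synt.IsSyntomic k C := by
  haveI := h.1
  refine ⟨inferInstance, Algebra.FinitePresentation.of_finiteType.mp h.1, fun p => ?_⟩
  haveI := p.2
  let σ : k ≃+* p.asIdeal.ResidueField := (Ideal.algEquivResidueFieldOfField p.asIdeal).toRingEquiv
  let e0 : C ≃ₐ[k] p.asIdeal.ResidueField ⊗[k] C :=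
    (Algebra.TensorProduct.lid k C).symm.trans
      (Algebra.TensorProduct.congr (Ideal.algEquivResidueFieldOfField p.asIdeal)
        (AlgEquiv.refl : C ≃ₐ[k] C))
  refine isLCIOver_of_ringEquiv _ _ σ _ _ e0.toRingEquiv (fun c => ?_) h
  simp [e0, σ, Algebra.TensorProduct.algebraMap_apply]

end Field

section Sch

variable (k : Type u) [Field k] (X : Scheme.{u}) (p : X ⟶ Spec (CommRingCat.of k))

/-- the `k`-algebra structure on sections induced by the structure morphism -/
noncomputable abbrev algΓ (U : X.Opens) : Algebra k Γ(X, U) :=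
  ((Scheme.ΓSpecIso (CommRingCat.of k)).inv ≫ p.appLE ⊤ U le_top).hom.toAlgebra

/-- the `k`-algebra structure on stalks induced by the structure morphism -/
noncomputable abbrev algStalk (x : X) : Algebra k (X.presheaf.stalk x) :=
  ((Scheme.ΓSpecIso (CommRingCat.of k)).inv ≫ p.appLE ⊤ ⊤ le_top ≫
    X.presheaf.germ ⊤ x trivial).hom.toAlgebra

theorem isSyntomic_iff_Q (U : X.Opens) :
    @Synt.IsSyntomic k _ Γ(X, U) _ (algΓ k X p U) ↔ Q (p.appLE ⊤ U le_top).hom :=
  Q_propertyIsLocal.respectsIso.cancel_left_isIso (Scheme.ΓSpecIso (CommRingCat.of k)).inv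
    (p.appLE ⊤ U le_top)

theorem finiteType_sections [LocallyOfFiniteType p] (U : X.affineOpens) :
    @Algebra.FiniteType k Γ(X, U.1) _ _ (algΓ k X p U.1) := by
  have h1 : RingHom.FiniteType (p.appLE ⊤ U.1 le_top).hom :=
    HasRingHomProperty.appLE (P := @LocallyOfFiniteType) p inferInstance
      ⟨⊤, isAffineOpen_top _⟩ U le_top
  have h2 : RingHom.FiniteType (Scheme.ΓSpecIso (CommRingCat.of k)).inv.hom :=
    RingHom.FiniteType.of_surjective _
      (ConcreteCategory.bijective_of_isIso (Scheme.ΓSpecIso (CommRingCat.of k)).inv).2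
  exact h1.comp h2

theorem tower_res {U U' : X.Opens} (h : U' ≤ U) :
    letI := algΓ k X p U
    letI := algΓ k X p U'
    letI : Algebra Γ(X, U) Γ(X, U') := (X.presheaf.map (homOfLE h).op).hom.toAlgebra
    IsScalarTower k Γ(X, U) Γ(X, U') := by
  letI := algΓ k X p U
  letI := algΓ k X p U'
  letI : Algebra Γ(X, U) Γ(X, U') := (X.presheaf.map (homOfLE h).op).hom.toAlgebra
  refine IsScalarTower.of_algebraMap_eq fun a => ?_
  change ((Scheme.ΓSpecIso (CommRingCat.of k)).inv ≫ p.appLE ⊤ U' le_top).hom a =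
    (X.presheaf.map (homOfLE h).op).hom
      (((Scheme.ΓSpecIso (CommRingCat.of k)).inv ≫ p.appLE ⊤ U le_top).hom a)
  rw [← p.appLE_map le_top (homOfLE h).op]
  rfl

theorem tower_stalk {U : X.Opens} (x : X) (hx : x ∈ U) :
    letI := algΓ k X p U
    letI := algStalk k X p x
    letI : Algebra Γ(X, U) (X.presheaf.stalk x) := X.presheaf.algebra_section_stalk ⟨x, hx⟩
    IsScalarTower k Γ(X, U) (X.presheaf.stalk x) := by
  letI := algΓ k X p U
  letI := algStalk k X p x
  letI : Algebra Γ(X, U) (X.presheaf.stalk x) := X.presheaf.algebra_section_stalk ⟨x, hx⟩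
  refine IsScalarTower.of_algebraMap_eq fun a => ?_
  change ((Scheme.ΓSpecIso (CommRingCat.of k)).inv ≫ p.appLE ⊤ ⊤ le_top ≫
      X.presheaf.germ ⊤ x trivial).hom a =
    (X.presheaf.germ U x hx).hom
      (((Scheme.ΓSpecIso (CommRingCat.of k)).inv ≫ p.appLE ⊤ U le_top).hom a)
  rw [← p.appLE_map le_top (homOfLE (le_top : U ≤ ⊤)).op]
  have h1 : X.presheaf.map (homOfLE (le_top : U ≤ ⊤)).op ≫ X.presheaf.germ U x hx =
      X.presheaf.germ ⊤ x trivial := X.presheaf.germ_res (homOfLE le_top) x hx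
  rw [← h1]
  rfl

end Sch

open Groth.Agent.Lib.R2H4.SyntLocal Groth.Agent.Lib.R2H4.SyntFib Groth.Agent.Lib.R2H4.CIField
open Groth.Agent.Lib.R2H4.SyntStd
open AlgebraicGeometry CategoryTheory

section Main

variable (k : Type u) [Field k] (X : Scheme.{u}) (p : X ⟶ Spec (CommRingCat.of k))

/-- global complete intersections on a basic open from the localization -/
theorem isGlobalCI_basicOpen (U : X.affineOpens) (g : Γ(X, U.1))
    (h : letI := algΓ k X p U.1
      Synt.IsGlobalCI k (Localization.Away g)) :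
    @Synt.IsGlobalCI k _ Γ(X, X.basicOpen g) _ (algΓ k X p (X.basicOpen g)) := by
  letI := algΓ k X p U.1
  letI := algΓ k X p (X.basicOpen g)
  haveI : IsScalarTower k Γ(X, U.1) Γ(X, X.basicOpen g) := tower_res k X p (X.basicOpen_le g)
  haveI : IsLocalization.Away g Γ(X, X.basicOpen g) := U.2.isLocalization_basicOpen g
  let ε' : Γ(X, X.basicOpen g) ≃ₐ[Γ(X, U.1)] Localization.Away g :=
    IsLocalization.algEquiv (Submonoid.powers g) _ _
  exact Groth.Agent.Lib.R2H4.SyntLoc.isGlobalCI_of_algEquiv k _ _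
    (ε'.restrictScalars k).symm h

/-- the stalk is the localization at the prime of the point, over `k` -/
theorem isCIOver_stalk_iff (U : X.affineOpens) (x : X) (hx : x ∈ U.1) :
    letI := algΓ k X p U.1
    (@Synt.IsCIOver k _ (X.presheaf.stalk x) _ (algStalk k X p x) _ ↔
      Synt.IsCIOver k (Localization.AtPrime (U.2.primeIdealOf ⟨x, hx⟩).asIdeal)) := by
  letI := algΓ k X p U.1
  letI := algStalk k X p x
  letI : Algebra Γ(X, U.1) (X.presheaf.stalk x) := X.presheaf.algebra_section_stalk ⟨x, hx⟩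
  haveI : IsScalarTower k Γ(X, U.1) (X.presheaf.stalk x) := tower_stalk k X p x hx
  haveI : IsLocalization.AtPrime (X.presheaf.stalk x) (U.2.primeIdealOf ⟨x, hx⟩).asIdeal :=
    U.2.isLocalization_stalk ⟨x, hx⟩
  let ε' : X.presheaf.stalk x ≃ₐ[Γ(X, U.1)]
      Localization.AtPrime (U.2.primeIdealOf ⟨x, hx⟩).asIdeal :=
    IsLocalization.algEquiv (U.2.primeIdealOf ⟨x, hx⟩).asIdeal.primeCompl _ _
  exact ⟨isCIOver_of_algEquiv k _ _ (ε'.restrictScalars k),
    isCIOver_of_algEquiv k _ _ (ε'.restrictScalars k).symm⟩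

theorem main9368 [LocallyOfFiniteType p] :
    [Synt.IsSyntomicMor p,
      ∀ x : ↑X, ∃ U : X.affineOpens, x ∈ U.1 ∧
        letI := ((Scheme.ΓSpecIso (CommRingCat.of k)).inv ≫ p.appLE ⊤ U.1 le_top).hom.toAlgebra
        Synt.IsGlobalCI k Γ(X, U.1),
      ∀ x : ↑X,
        letI := ((Scheme.ΓSpecIso (CommRingCat.of k)).inv ≫ p.appLE ⊤ ⊤ le_top ≫
          X.presheaf.germ ⊤ x trivial).hom.toAlgebra
        Synt.IsCIOver k (X.presheaf.stalk x)].TFAE := by
  tfae_have 1 → 2 := by
    intro h x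
    obtain ⟨U, hU, hxU, -⟩ := TopologicalSpace.Opens.isBasis_iff_nbhd.mp X.isBasis_affineOpens
      (TopologicalSpace.Opens.mem_top x)
    let U' : X.affineOpens := ⟨U, hU⟩
    have h1 : Q (p.appLE ⊤ U'.1 le_top).hom :=
      (isSyntomicMor_iff p).mp h U' ⟨⊤, isAffineOpen_top _⟩ le_top
    letI := algΓ k X p U'.1
    have h2 : Synt.IsSyntomic k Γ(X, U'.1) := (isSyntomic_iff_Q k X p U'.1).mpr h1
    have h3 : Synt.IsLCIOver k Γ(X, U'.1) := isLCIOver_of_isSyntomic_field k _ h2
    obtain ⟨g, hg, hgci⟩ := h3.2 (U'.2.primeIdealOf ⟨x, hxU⟩)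
    refine ⟨⟨X.basicOpen g, U'.2.basicOpen g⟩,
      (mem_basicOpen_iff_not_mem_primeIdealOf U'.2 x hxU g).mpr hg, ?_⟩
    exact isGlobalCI_basicOpen k X p U' g hgci
  tfae_have 2 → 3 := by
    intro h x
    obtain ⟨U, hxU, hgci⟩ := h x
    letI := algΓ k X p U.1
    have h1 : Synt.IsCIOver k (Localization.AtPrime (U.2.primeIdealOf ⟨x, hxU⟩).asIdeal) :=
      isCIOver_atPrime_of_isGlobalCI k _ hgci _
    exact (isCIOver_stalk_iff k X p U x hxU).mpr h1
  tfae_have 3 → 1 := by
    intro h x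
    obtain ⟨U, hU, hxU, -⟩ := TopologicalSpace.Opens.isBasis_iff_nbhd.mp X.isBasis_affineOpens
      (TopologicalSpace.Opens.mem_top x)
    let U' : X.affineOpens := ⟨U, hU⟩
    letI := algΓ k X p U'.1
    haveI : Algebra.FiniteType k Γ(X, U'.1) := finiteType_sections k X p U'
    have h1 : Synt.IsCIOver k (Localization.AtPrime (U'.2.primeIdealOf ⟨x, hxU⟩).asIdeal) :=
      (isCIOver_stalk_iff k X p U' x hxU).mp (h x)
    obtain ⟨g, hg, hgci⟩ := exists_away_gci k Γ(X, U'.1) _ h1
    let W : X.affineOpens := ⟨X.basicOpen g, U'.2.basicOpen g⟩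
    have hxW : x ∈ W.1 := (mem_basicOpen_iff_not_mem_primeIdealOf U'.2 x hxU g).mpr hg
    letI := algΓ k X p W.1
    haveI : Algebra.FiniteType k Γ(X, W.1) := finiteType_sections k X p W
    have h2 : Synt.IsGlobalCI k Γ(X, W.1) := isGlobalCI_basicOpen k X p U' g hgci
    have h3 : Synt.IsSyntomic k Γ(X, W.1) :=
      isSyntomic_of_isLCIOver_field k _ (isLCIOver_of_isGlobalCI k _ h2)
    exact ⟨W, ⟨⊤, isAffineOpen_top _⟩, le_top, hxW, (isSyntomic_iff_Q k X p W.1).mp h3⟩
  tfae_finish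

end Main

end Groth.Agent.Lib.R2H4.LciField
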