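import Mathlib
import Groth.Prelude.Def_RegImm
import Groth.Prelude.Def_CInt
import Groth.Agent.Lib.R2H4CIFlat
import Groth.Agent.Lib.R2H4CIComp
import Groth.Agent.Lib.R2H4LciField
import Groth.Agent.Lib.Helper2FlatOver2

/-!
# The complete intersection property of fibre local rings and arbitrary base change
(helper4, round 2)

* `pCI_fibLoc_baseChange`: ring form, for a pushout square `A → A'`, `B → B'` with `B` of finite type
  over `A`: the fibre local rings `B_q/pB_q` and `B'_q'/p'B'_q'` at corresponding primes are complete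
  intersections simultaneously.
* `isCIOver_stalk_iff_pi1`, `isCIOver_fiberStalk_iff`: `Synt.IsCIOver κ(s) O_{X_s,x}` ⇔
  `Pi1.IsCompleteIntersection (CInt.fiberStalk f x)` for `f` locally of finite type.
* `pi1_fiberStalk_baseChange`: in a cartesian square, the fibre local ring at `x'` is a complete
  intersection iff the one at `g' x'` is.
-/

set_option autoImplicit false
universe u
open scoped TensorProduct
open IsLocalRing RingTheory.Sequence
open CategoryTheory CategoryTheory.Limits AlgebraicGeometry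

namespace Groth.Agent.Lib.R2H4.CIFib


open Groth.Agent.Lib.H6xCI Groth.Agent.Lib.R2H4.CIFlat Groth.Agent.Lib.R2H4.CIComp
  Groth.Agent.Lib.R2H4.SyntStd

section Ring

variable (A A' B B' : Type u) [CommRing A] [CommRing A'] [CommRing B] [CommRing B']
  [Algebra A A'] [Algebra A B] [Algebra A' B'] [Algebra B B'] [Algebra A B']
  [IsScalarTower A A' B'] [IsScalarTower A B B'] [Algebra.IsPushout A A' B B']

/-- **Base change of the complete intersection property of fibre local rings** (ring form). -/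
theorem pCI_fibLoc_baseChange [Algebra.FiniteType A B]
    (q' : Ideal B') [q'.IsPrime] (q : Ideal B) [q.IsPrime] (hq : q'.comap (algebraMap B B') = q) :
    (∃ _ : IsLocalRing (EGA4.FibLocRing A B q), Pi1.IsCompleteIntersection (EGA4.FibLocRing A B q)) ↔
      ∃ _ : IsLocalRing (EGA4.FibLocRing A' B' q'),
        Pi1.IsCompleteIntersection (EGA4.FibLocRing A' B' q') := by
  set p : Ideal A := q.comap (algebraMap A B) with hpdef
  set p' : Ideal A' := q'.comap (algebraMap A' B') with hp'def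
  have hp : p = p'.comap (algebraMap A A') := by
    rw [hpdef, hp'def, ← hq, Ideal.comap_comap, Ideal.comap_comap,
      ← IsScalarTower.algebraMap_eq, ← IsScalarTower.algebraMap_eq]
  let σ : p.ResidueField →ₐ[A] p'.ResidueField :=
    Ideal.ResidueField.mapₐ p p' (Algebra.ofId A A') hp
  letI : Algebra p.ResidueField p'.ResidueField := σ.toRingHom.toAlgebra
  haveI : IsScalarTower A p.ResidueField p'.ResidueField :=
    IsScalarTower.of_algebraMap_eq fun a => (σ.commutes a).symm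
  let e1 : p'.ResidueField ⊗[p.ResidueField] (p.ResidueField ⊗[A] B) ≃ₐ[p'.ResidueField]
      p'.ResidueField ⊗[A] B :=
    Algebra.TensorProduct.cancelBaseChange A p.ResidueField p'.ResidueField p'.ResidueField B
  let e2 : p'.ResidueField ⊗[A] B ≃ₐ[p'.ResidueField] p'.ResidueField ⊗[A'] (A' ⊗[A] B) :=
    (Algebra.TensorProduct.cancelBaseChange A A' p'.ResidueField p'.ResidueField B).symm
  let e3 : p'.ResidueField ⊗[A'] (A' ⊗[A] B) ≃ₐ[A'] p'.ResidueField ⊗[A'] B' :=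
    Algebra.TensorProduct.congr (AlgEquiv.refl : p'.ResidueField ≃ₐ[A'] p'.ResidueField)
      (Algebra.IsPushout.equiv A A' B B')
  let ε : p'.ResidueField ⊗[p.ResidueField] (p.Fiber B) ≃+* p'.Fiber B' :=
    e1.toRingEquiv.trans (e2.toRingEquiv.trans e3.toRingEquiv)
  let ψ : p.Fiber B →+* p'.Fiber B' :=
    ε.toRingHom.comp (Algebra.TensorProduct.includeRight :
      p.Fiber B →ₐ[p.ResidueField] p'.ResidueField ⊗[p.ResidueField] (p.Fiber B)).toRingHom
  have hψ : ∀ b : B, ψ (1 ⊗ₜ b) = 1 ⊗ₜ algebraMap B B' b := by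
    intro b
    change e3 (e2 (e1 (1 ⊗ₜ (1 ⊗ₜ b)))) = _
    simp [e1, e2, e3, Algebra.IsPushout.equiv_tmul]
  obtain ⟨Q', hQ', hQq'⟩ := exists_fibre_prime' A' B' q'
  haveI := hQ'
  haveI hQprime : (Q'.comap ψ).IsPrime := Ideal.IsPrime.comap _
  have hQq : (Q'.comap ψ).comap (Algebra.TensorProduct.includeRight : B →ₐ[A] p.Fiber B) = q := by
    ext b
    rw [Ideal.mem_comap, Ideal.mem_comap]
    change ψ (1 ⊗ₜ b) ∈ Q' ↔ _
    rw [hψ, ← hq, Ideal.mem_comap]
    exact Ideal.ext_iff.mp hQq' (algebraMap B B' b)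
  obtain ⟨εQ, -⟩ := Groth.Agent.Lib.R2H4.RegSeqOpen.exists_equiv p (Q'.comap ψ) q hQq
  obtain ⟨εQ', -⟩ := Groth.Agent.Lib.R2H4.RegSeqOpen.exists_equiv p' Q' q' hQq'
  haveI : Algebra.FiniteType A' B' := by
    haveI : Algebra.IsPushout A B A' B' := Algebra.IsPushout.symm inferInstance
    have h := RingHom.finiteType_isStableUnderBaseChange A B A' B'
      (RingHom.finiteType_algebraMap.mpr inferInstance)
    exact RingHom.finiteType_algebraMap.mp h
  have hci := ci_atPrime_iff_of_tensor_equiv p.ResidueField p'.ResidueField (p.Fiber B)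
    (p'.Fiber B') ε ψ (fun _ => rfl) Q' (Q'.comap ψ) rfl
  haveI : IsNoetherianRing (p.Fiber B) :=
    Algebra.FiniteType.isNoetherianRing p.ResidueField _
  haveI : IsNoetherianRing (p'.Fiber B') :=
    Algebra.FiniteType.isNoetherianRing p'.ResidueField _
  haveI : IsNoetherianRing (Localization.AtPrime (Q'.comap ψ)) :=
    IsLocalization.isNoetherianRing (Q'.comap ψ).primeCompl _ inferInstance
  haveI : IsNoetherianRing (Localization.AtPrime Q') :=
    IsLocalization.isNoetherianRing Q'.primeCompl _ inferInstance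
  haveI : IsNoetherianRing (EGA4.FibLocRing A B q) := isNoetherianRing_of_ringEquiv _ εQ
  haveI : IsNoetherianRing (EGA4.FibLocRing A' B' q') := isNoetherianRing_of_ringEquiv _ εQ'
  haveI l1 : IsLocalRing (EGA4.FibLocRing A B q) := εQ.isLocalRing
  haveI l2 : IsLocalRing (EGA4.FibLocRing A' B' q') := εQ'.isLocalRing
  constructor
  · rintro ⟨_, h⟩
    exact ⟨l2, ci_of_ringEquiv εQ' (hci.mp (ci_of_ringEquiv εQ.symm h))⟩
  · rintro ⟨_, h⟩
    exact ⟨l1, ci_of_ringEquiv εQ (hci.mpr (ci_of_ringEquiv εQ'.symm h))⟩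

end Ring



open Groth.Agent.Lib.H6xCI Groth.Agent.Lib.R2H4.CIFlat Groth.Agent.Lib.R2H4.CIComp
  Groth.Agent.Lib.R2H4.SyntStd Groth.Agent.Lib.R2H4.LciField

section FS

/-- over a field, for a scheme locally of finite type: the stalk is a complete intersection over
the field iff it is a complete intersection in the absolute sense -/
theorem isCIOver_stalk_iff_pi1 (k : Type u) [Field k] (Y : Scheme.{u})
    (p : Y ⟶ Spec (CommRingCat.of k)) [LocallyOfFiniteType p] (y : Y) :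
    @Synt.IsCIOver k _ (Y.presheaf.stalk y) _ (algStalk k Y p y) _ ↔
      Pi1.IsCompleteIntersection (Y.presheaf.stalk y) := by
  obtain ⟨_, ⟨U, hU : IsAffineOpen U, rfl⟩, hy, -⟩ :=
    Y.isBasis_affineOpens.exists_subset_of_mem_open (Set.mem_univ y) isOpen_univ
  letI := algΓ k Y p U
  rw [isCIOver_stalk_iff k Y p ⟨U, hU⟩ y hy]
  haveI : Algebra.FiniteType k Γ(Y, U) := finiteType_sections k Y p ⟨U, hU⟩
  haveI : Algebra.EssFiniteType k (Localization.AtPrime (hU.primeIdealOf ⟨y, hy⟩).asIdeal) :=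
    Algebra.EssFiniteType.comp k Γ(Y, U) _
  rw [isCIOver_iff_isCompleteIntersection]
  haveI : IsNoetherianRing Γ(Y, U) := Algebra.FiniteType.isNoetherianRing k _
  exact (ci_stalk_iff hU y hy).symm

theorem isCIOver_fiberStalk_iff {X S : Scheme.{u}} (f : X ⟶ S) [LocallyOfFiniteType f] (x : X) :
    (
      letI := ((Scheme.ΓSpecIso (S.residueField (f.base x))).inv ≫
            (f.fiberToSpecResidueField (f.base x)).appLE ⊤ ⊤ le_top ≫
              (f.fiber (f.base x)).presheaf.germ ⊤ (f.asFiber x) trivial).hom.toAlgebra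
      Synt.IsCIOver (S.residueField (f.base x))
        ((f.fiber (f.base x)).presheaf.stalk (f.asFiber x))) ↔
    Pi1.IsCompleteIntersection (CInt.fiberStalk f x) := by
  haveI : LocallyOfFiniteType (f.fiberToSpecResidueField (f.base x)) :=
    MorphismProperty.pullback_snd _ _ inferInstance
  exact isCIOver_stalk_iff_pi1 (S.residueField (f.base x)) (f.fiber (f.base x))
    (f.fiberToSpecResidueField (f.base x)) (f.asFiber x)

end FS



open Groth.Agent.Lib.H6xCI Groth.Agent.Lib.R2H4.CIFlat Groth.Agent.Lib.R2H4.CIComp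
  Groth.Agent.Lib.R2H4.SyntStd Groth.Agent.Lib.R2H4.LciField
  Groth.Agent.Lib.Helper2.FlatOver Groth.Agent.Lib.Helper2.PullbackSec

section BC

variable {X S X' S' : Scheme.{u}} (f : X ⟶ S) (g : S' ⟶ S) (g' : X' ⟶ X) (f' : X' ⟶ S')

/-- **The complete intersection property of fibre local rings is compatible with arbitrary base
change.** -/
theorem pi1_fiberStalk_baseChange [LocallyOfFiniteType f] (hc : IsPullback g' f' f g) (x' : X') :
    Pi1.IsCompleteIntersection (CInt.fiberStalk f' x') ↔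
      Pi1.IsCompleteIntersection (CInt.fiberStalk f (g'.base x')) := by
  haveI : LocallyOfFiniteType f' :=
    MorphismProperty.of_isPullback (P := @LocallyOfFiniteType) hc inferInstance
  have hw : g.base (f'.base x') = f.base (g'.base x') := by
    have := congrArg (fun φ => φ.base x') hc.w
    simpa using this.symm
  obtain ⟨U, V, hU, hV, hxU, eU⟩ := exists_affine_nhds f (g'.base x')
  obtain ⟨V', hV', hsV', eV'⟩ : ∃ V' : S'.Opens, IsAffineOpen V' ∧ f'.base x' ∈ V' ∧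
      V' ≤ g ⁻¹ᵁ V := by
    have hmem : f'.base x' ∈ g ⁻¹ᵁ V := by
      change g.base (f'.base x') ∈ V
      rw [hw]; exact eU hxU
    obtain ⟨W, hW⟩ := (S'.isBasis_affineOpens).exists_subset_of_mem_open hmem (g ⁻¹ᵁ V).isOpen
    obtain ⟨⟨V', hV', rfl⟩, hxV', hle⟩ := hW
    exact ⟨V', hV', hxV', hle⟩
  have hU' : IsAffineOpen (g' ⁻¹ᵁ U ⊓ f' ⁻¹ᵁ V') :=
    isAffineOpen_inf_preimage hc eV' eU hV hV' hU
  have e1 : g' ⁻¹ᵁ U ⊓ f' ⁻¹ᵁ V' ≤ g' ⁻¹ᵁ U := inf_le_left
  have e2 : g' ⁻¹ᵁ U ⊓ f' ⁻¹ᵁ V' ≤ f' ⁻¹ᵁ V' := inf_le_right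
  have hx' : x' ∈ g' ⁻¹ᵁ U ⊓ f' ⁻¹ᵁ V' := ⟨hxU, hsV'⟩
  have hft : (f.appLE V U eU).hom.FiniteType :=
    HasRingHomProperty.appLE (P := @LocallyOfFiniteType) f inferInstance ⟨V, hV⟩ ⟨U, hU⟩ eU
  have hft' : (f'.appLE V' _ e2).hom.FiniteType :=
    HasRingHomProperty.appLE (P := @LocallyOfFiniteType) f' inferInstance ⟨V', hV'⟩ ⟨_, hU'⟩ e2
  letI a1 : Algebra Γ(S, V) Γ(X, U) := (f.appLE V U eU).hom.toAlgebra
  letI a2 : Algebra Γ(S, V) Γ(S', V') := (g.appLE V V' eV').hom.toAlgebra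
  letI a3 : Algebra Γ(X, U) Γ(X', g' ⁻¹ᵁ U ⊓ f' ⁻¹ᵁ V') := (g'.appLE U _ e1).hom.toAlgebra
  letI a4 : Algebra Γ(S', V') Γ(X', g' ⁻¹ᵁ U ⊓ f' ⁻¹ᵁ V') := (f'.appLE V' _ e2).hom.toAlgebra
  letI a5 : Algebra Γ(S, V) Γ(X', g' ⁻¹ᵁ U ⊓ f' ⁻¹ᵁ V') :=
    ((g'.appLE U _ e1).hom.comp (f.appLE V U eU).hom).toAlgebra
  haveI t1 : IsScalarTower Γ(S, V) Γ(X, U) Γ(X', g' ⁻¹ᵁ U ⊓ f' ⁻¹ᵁ V') :=
    IsScalarTower.of_algebraMap_eq' rfl
  haveI t2 : IsScalarTower Γ(S, V) Γ(S', V') Γ(X', g' ⁻¹ᵁ U ⊓ f' ⁻¹ᵁ V') := by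
    refine IsScalarTower.of_algebraMap_eq' ?_
    change (g'.appLE U _ e1).hom.comp (f.appLE V U eU).hom =
      (f'.appLE V' _ e2).hom.comp (g.appLE V V' eV').hom
    rw [← CommRingCat.hom_comp, ← CommRingCat.hom_comp, Scheme.Hom.appLE_comp_appLE,
      Scheme.Hom.appLE_comp_appLE]
    simp only [hc.w]
  haveI hpo := algebra_isPushout hc eV' eU hV hV' hU e1 e2
  haveI : Algebra.FiniteType Γ(S, V) Γ(X, U) := hft
  have h1 := Groth.Agent.Lib.H9FibGeomRk.SemiInv.fiber_ring_dict f hU hV eU semiInv_PCI hft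
    (g'.base x') hxU
  have h2 := Groth.Agent.Lib.H9FibGeomRk.SemiInv.fiber_ring_dict f' hU' hV' e2 semiInv_PCI hft'
    x' hx'
  have h3 := pCI_fibLoc_baseChange Γ(S, V) Γ(S', V') Γ(X, U) Γ(X', g' ⁻¹ᵁ U ⊓ f' ⁻¹ᵁ V')
    (hU'.primeIdealOf ⟨x', hx'⟩).asIdeal (hU.primeIdealOf ⟨g'.base x', hxU⟩).asIdeal
    (Groth.Agent.Lib.Helper4.DimFormula.primeIdealOf_comap_appLE g' hU' hU e1 x' hx')
  rw [← pCI_iff (CInt.fiberStalk f' x') (CInt.fiberStalk f' x'),
    ← pCI_iff (CInt.fiberStalk f (g'.base x')) (CInt.fiberStalk f (g'.base x'))]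
  exact h2.trans (h3.symm.trans h1.symm)

end BC


end Groth.Agent.Lib.R2H4.CIFib
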