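import Mathlib
import Groth.Agent.Lib.R2H4CIFieldD

set_option autoImplicit false
universe u
open scoped TensorProduct

namespace Groth.Agent.Lib.R2H4.CIFieldE

open IsLocalRing RingTheory.Sequence Groth.Agent.Lib.R2H4.CIField

section Gens

variable (k : Type u) [Field k] (S : Type u) [CommRing S] [IsLocalRing S] [Algebra k S]

/-- For a surjection `π : R → S` from a regular local ring ess. of finite type over `k` with
`dim R = dim S + c`: `S` is CI over `k` iff `ker π` is generated by `c` elements iff it is generated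
by a regular sequence. -/
theorem gens_iff (R : Type u) [CommRing R] [IsRegularLocalRing R] [Algebra k R]
    [Algebra.EssFiniteType k R] (π : R →ₐ[k] S) (hπ : Function.Surjective π) (c : ℕ)
    (hc : ringKrullDim R = ringKrullDim S + (c : WithBot ℕ∞)) :
    (Synt.IsCIOver k S ↔
        ∃ s : Finset R, s.card = c ∧ Ideal.span (s : Set R) = RingHom.ker π.toRingHom) ∧
      (Synt.IsCIOver k S ↔
        ∃ rs : List R, IsRegular R rs ∧ Ideal.ofList rs = RingHom.ker π.toRingHom) := by
  classical
  haveI : IsNoetherianRing S := isNoetherianRing_of_surjective R S π.toRingHom hπ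
  obtain ⟨e₁, he₁⟩ := natdim R
  obtain ⟨d, hd⟩ := natdim S
  have h3 : e₁ = d + c := by
    rw [he₁, hd] at hc
    exact_mod_cast hc
  have hA : Synt.IsCIOver k S →
      ∃ rs : List R, IsRegular R rs ∧ Ideal.ofList rs = RingHom.ker π.toRingHom := by
    intro h
    obtain ⟨rs, h1, h2⟩ := ker_regular_of_isCIOver k S h R π.toRingHom hπ
    exact ⟨rs, h1, h2.symm⟩
  have hB : (∃ rs : List R, IsRegular R rs ∧ Ideal.ofList rs = RingHom.ker π.toRingHom) →
      ∃ s : Finset R, s.card = c ∧ Ideal.span (s : Set R) = RingHom.ker π.toRingHom := by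
    rintro ⟨rs, hreg, hrs⟩
    have heq := Groth.Agent.Lib.H6xCI.dim_eq_of_isRegular π.toRingHom hπ d e₁ hd he₁ rs hrs hreg
    have fg : (RingHom.ker π.toRingHom : Submodule R R).FG := IsNoetherian.noetherian _
    obtain ⟨s, hs1, hs2⟩ := Submodule.FG.exists_span_finset_card_eq_spanFinrank fg
    refine ⟨s, ?_, hs2⟩
    rw [hs1]
    omega
  have hC : (∃ s : Finset R, s.card = c ∧ Ideal.span (s : Set R) = RingHom.ker π.toRingHom) →
      Synt.IsCIOver k S := by
    rintro ⟨s, hs1, hs2⟩
    refine isCIOver_of_gens k S R π hπ s.toList ?_ ?_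
    · rw [← hs2]
      unfold Ideal.ofList
      congr 1
      ext a
      simp
    · rw [Finset.length_toList, hs1]
      exact hc
  exact ⟨⟨fun h => hB (hA h), hC⟩, ⟨hA, fun h => hC (hB h)⟩⟩

end Gens

section Main

variable (k : Type u) [Field k]

theorem main9171 (n : ℕ)
    (I : Ideal (MvPolynomial (Fin n) k)) (q : Ideal (MvPolynomial (Fin n) k ⧸ I)) [q.IsPrime] (c : ℕ)
    (hc : (c : ℕ∞) + q.height = (q.comap (Ideal.Quotient.mk I)).height) :
    ((∃ g : MvPolynomial (Fin n) k ⧸ I, g ∉ q ∧ Synt.IsGlobalCI k (Localization.Away g)) ↔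
        ∃ s : Finset (Localization.AtPrime (q.comap (Ideal.Quotient.mk I))), s.card = c ∧
          Ideal.span (s : Set _) =
            I.map (algebraMap _ (Localization.AtPrime (q.comap (Ideal.Quotient.mk I))))) ∧
      ((∃ g : MvPolynomial (Fin n) k ⧸ I, g ∉ q ∧ Synt.IsGlobalCI k (Localization.Away g)) ↔
        ∃ rs : List (Localization.AtPrime (q.comap (Ideal.Quotient.mk I))),
          RingTheory.Sequence.IsRegular (Localization.AtPrime (q.comap (Ideal.Quotient.mk I))) rs ∧
          Ideal.ofList rs =
            I.map (algebraMap _ (Localization.AtPrime (q.comap (Ideal.Quotient.mk I))))) := by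
  classical
  set P := MvPolynomial (Fin n) k
  set Q : Ideal P := q.comap (Ideal.Quotient.mk I) with hQdef
  have hφ : Function.Surjective (Ideal.Quotient.mk I) := Ideal.Quotient.mk_surjective
  let π₀ : Localization.AtPrime Q →+* Localization.AtPrime q :=
    Localization.localRingHom Q q (Ideal.Quotient.mk I) rfl
  let π : Localization.AtPrime Q →ₐ[k] Localization.AtPrime q :=
    { π₀ with
      commutes' := by
        intro x
        change π₀ (algebraMap k (Localization.AtPrime Q) x) = _
        rw [IsScalarTower.algebraMap_apply k P (Localization.AtPrime Q),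
          Localization.localRingHom_to_map,
          IsScalarTower.algebraMap_apply k (P ⧸ I) (Localization.AtPrime q)]
        rfl }
  have hπ : Function.Surjective π :=
    RingHom.surjective_localRingHom_of_surjective (Ideal.Quotient.mk I) hφ q
  have hkerπ : RingHom.ker π.toRingHom = I.map (algebraMap P (Localization.AtPrime Q)) := by
    change RingHom.ker π₀ = _
    rw [ker_localRingHom (Ideal.Quotient.mk I) hφ q, Ideal.mk_ker]
  have hdim : ringKrullDim (Localization.AtPrime Q) =
      ringKrullDim (Localization.AtPrime q) + (c : WithBot ℕ∞) := by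
    rw [IsLocalization.AtPrime.ringKrullDim_eq_height Q (Localization.AtPrime Q),
      IsLocalization.AtPrime.ringKrullDim_eq_height q (Localization.AtPrime q), ← hc, add_comm]
    rfl
  haveI : Algebra.FiniteType k (P ⧸ I) := Algebra.FiniteType.of_surjective (Ideal.Quotient.mkₐ k I) hφ
  have h44 := (main9144 k (P ⧸ I) q).2
  obtain ⟨h1, h2⟩ := gens_iff k (Localization.AtPrime q) (Localization.AtPrime Q) π hπ c hdim
  rw [hkerπ] at h1 h2
  exact ⟨h44.symm.trans h1, h44.symm.trans h2⟩

end Main

end Groth.Agent.Lib.R2H4.CIFieldE
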