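import Mathlib
import Groth.Prelude.Def_CAlg
import Groth.Agent.Lib.Helper28FGDim

/-!
# A Cohen–Macaulay finite type algebra over a field decomposes by the heights of maximal ideals
-/

set_option autoImplicit false
universe u

namespace Groth.Agent.Lib.R2H4.CMDecomp

open Groth.Agent.Lib.Helper28

section Heights

variable {B C : Type u} [CommRing B] [CommRing C]

theorem height_le_height_comap_of_surjective (f : B →+* C)
    (hf : Function.Surjective f) (Q : Ideal C) [hQ : Q.IsPrime] :
    Q.height ≤ (Q.comap f).height := by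
  have : (Q.comap f).IsPrime := Ideal.comap_isPrime f Q
  have h1 := PrimeSpectrum.height_eq_orderHeight (⟨Q, hQ⟩ : PrimeSpectrum C)
  have h2 := PrimeSpectrum.height_eq_orderHeight (PrimeSpectrum.comap f ⟨Q, hQ⟩)
  change Q.height = _ at h1
  change (Q.comap f).height = _ at h2
  rw [h1, h2]
  exact Order.height_le_height_apply_of_strictMono _
    (Groth.Agent.Lib.Helper28.comap_strictMono_of_surjective f hf) ⟨Q, hQ⟩

theorem height_comap_le_aux' {f : B →+* C} (hf : Function.Surjective f) (n : ℕ) :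
    ∀ (Q : Ideal C) [Q.IsPrime],
      (∀ q : Ideal B, q.IsPrime → q ≤ Q.comap f → RingHom.ker f ≤ q) →
      Q.height ≤ n → (Q.comap f).height ≤ n := by
  induction n with
  | zero =>
    intro Q hQ hall h
    have : (Q.comap f).IsPrime := Ideal.comap_isPrime f Q
    rw [Nat.cast_zero] at h ⊢
    rw [← Nat.cast_zero, Ideal.height_le_iff] at h ⊢
    intro q1 hq1 hlt
    have hker1 : RingHom.ker f ≤ q1 := hall q1 hq1 hlt.le
    have hq1' : (q1.map f).IsPrime := Ideal.map_isPrime_of_surjective hf hker1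
    have hcm1 : (q1.map f).comap f = q1 := by
      rw [Ideal.comap_map_of_surjective f hf, ← RingHom.ker_eq_comap_bot]
      exact sup_eq_left.mpr hker1
    have hlt' : q1.map f < Q := by
      refine lt_of_le_of_ne (Ideal.map_le_iff_le_comap.mpr hlt.le) ?_
      intro he
      rw [he] at hcm1
      exact hlt.ne hcm1.symm
    exact absurd (h _ hq1' hlt') (by simp)
  | succ n ih =>
    intro Q hQ hall h
    have : (Q.comap f).IsPrime := Ideal.comap_isPrime f Q
    rw [Ideal.height_le_iff] at h ⊢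
    intro q1 hq1 hlt
    have hker1 : RingHom.ker f ≤ q1 := hall q1 hq1 hlt.le
    have hq1' : (q1.map f).IsPrime := Ideal.map_isPrime_of_surjective hf hker1
    have hcm1 : (q1.map f).comap f = q1 := by
      rw [Ideal.comap_map_of_surjective f hf, ← RingHom.ker_eq_comap_bot]
      exact sup_eq_left.mpr hker1
    have hlt' : q1.map f < Q := by
      refine lt_of_le_of_ne (Ideal.map_le_iff_le_comap.mpr hlt.le) ?_
      intro he
      have hcm2 := hcm1
      rw [he] at hcm2
      exact hlt.ne hcm2.symm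
    have h1 := h _ hq1' hlt'
    have h2 : (q1.map f).height ≤ n := by
      rw [Nat.cast_succ] at h1
      exact (ENat.lt_add_one_iff (ENat.natCast_ne_top n)).mp h1
    have h3 := ih (q1.map f) (fun q hq hle => hall q hq ((hle.trans hcm1.le).trans hlt.le)) h2
    rw [hcm1] at h3
    rw [Nat.cast_succ]
    exact (ENat.lt_add_one_iff (ENat.natCast_ne_top n)).mpr h3

/-- If every prime below the preimage of `Q` contains the kernel, heights do not drop. -/
theorem height_comap_le_of_forall_ker_le {f : B →+* C} (hf : Function.Surjective f)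
    (Q : Ideal C) [Q.IsPrime]
    (hall : ∀ q : Ideal B, q.IsPrime → q ≤ Q.comap f → RingHom.ker f ≤ q) :
    (Q.comap f).height ≤ Q.height := by
  rcases eq_or_ne Q.height ⊤ with h | h
  · rw [h]; exact le_top
  · obtain ⟨n, hn⟩ := ENat.ne_top_iff_exists.mp h
    rw [← hn]
    exact height_comap_le_aux' hf n Q hall hn.symm.le

end Heights

variable (k : Type u) [Field k]

/-- In a CM finite type algebra over a field, a maximal ideal containing a minimal prime `p` has
height `dim S/p`. -/
theorem height_eq_dim_quotient_minimal (S : Type u) [CommRing S] [Algebra k S]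
    [Algebra.FiniteType k S] [hS : LocCoh.IsCohenMacaulayRing S] (p : Ideal S)
    (hpmin : p ∈ minimalPrimes S) (m : Ideal S) (hm : m.IsMaximal) (hpm : p ≤ m) :
    ((m.height : ℕ∞) : WithBot ℕ∞) = ringKrullDim (S ⧸ p) := by
  have hmp : m.IsPrime := hm.isPrime
  have hp : p.IsPrime := hpmin.1.1
  have hM : (m.map (Ideal.Quotient.mk p)).IsMaximal :=
    Ideal.IsMaximal.map_of_surjective_of_ker_le Ideal.Quotient.mk_surjective
      (by rwa [Ideal.mk_ker])
  have hMp : (m.map (Ideal.Quotient.mk p)).IsPrime := hM.isPrime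
  have hcm : (m.map (Ideal.Quotient.mk p)).comap (Ideal.Quotient.mk p) = m := by
    rw [Ideal.comap_map_of_surjective _ Ideal.Quotient.mk_surjective, ← RingHom.ker_eq_comap_bot,
      Ideal.mk_ker]
    exact sup_eq_left.mpr hpm
  have h1 := height_eq_ringKrullDim_quotient_of_isMaximal_of_finiteType k S p
    (m.map (Ideal.Quotient.mk p))
  have h2 := height_comap_eq_height_add_height_map p (m.map (Ideal.Quotient.mk p))
  have hcp : ((m.map (Ideal.Quotient.mk p)).comap (Ideal.Quotient.mk p)).IsPrime :=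
    Ideal.comap_isPrime _ _
  have hN : IsNoetherianRing S := inferInstance
  rw [IsLocalization.height_map_of_disjoint
    ((m.map (Ideal.Quotient.mk p)).comap (Ideal.Quotient.mk p)).primeCompl p
    (by
      rw [Set.disjoint_left]
      intro x hx hxp
      apply hx
      rw [hcm]
      exact hpm hxp), hcm, Ideal.height_eq_zero_iff.mpr hpmin, add_zero] at h2
  rw [h2]
  exact h1

open scoped Function in
/-- A Cohen–Macaulay finite type algebra over a field is a finite product of algebras in each of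
which all maximal ideals have the same prescribed height. -/
theorem main (S : Type u) [CommRing S] [Algebra k S] [Algebra.FiniteType k S]
    [hS : LocCoh.IsCohenMacaulayRing S] :
    ∃ (N : ℕ) (T : Fin (N + 1) → Type u) (_ : ∀ d, CommRing (T d)) (_ : ∀ d, Algebra k (T d)),
      Nonempty (S ≃ₐ[k] ((d : Fin (N + 1)) → T d)) ∧
        ∀ (d : Fin (N + 1)) (m : Ideal (T d)), m.IsMaximal → m.height = (d : ℕ) := by
  classical
  have hN : IsNoetherianRing S := inferInstance
  have hfin : (minimalPrimes S).Finite := minimalPrimes.finite_of_isNoetherianRing S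
  have hδ : ∀ p ∈ minimalPrimes S, ∃ d : ℕ, ringKrullDim (S ⧸ p) = d := by
    intro p hp
    have hpp : p.IsPrime := hp.1.1
    obtain ⟨m, hm, hpm⟩ := Ideal.exists_le_maximal p hpp.ne_top
    have h1 := height_eq_dim_quotient_minimal k S p hp m hm hpm
    have hne : m.height ≠ ⊤ := Ideal.height_ne_top hm.ne_top
    obtain ⟨n, hn⟩ := ENat.ne_top_iff_exists.mp hne
    refine ⟨n, ?_⟩
    rw [← h1, ← hn]
    rfl
  choose! δ hδ' using hδ
  obtain ⟨P, hP⟩ : ∃ P : Finset (Ideal S), ∀ p, p ∈ P ↔ p ∈ minimalPrimes S :=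
    ⟨hfin.toFinset, fun p => hfin.mem_toFinset⟩
  obtain ⟨N, hNdef⟩ : ∃ N : ℕ, N = P.sup δ := ⟨_, rfl⟩
  have hδN : ∀ p ∈ P, δ p ≤ N := fun p hp => hNdef ▸ Finset.le_sup hp
  have hkey : ∀ p ∈ P, ∀ m : Ideal S, m.IsMaximal → p ≤ m → m.height = δ p := by
    intro p hp m hm hpm
    have h1 := height_eq_dim_quotient_minimal k S p ((hP p).mp hp) m hm hpm
    rw [hδ' p ((hP p).mp hp)] at h1
    exact_mod_cast h1
  obtain ⟨J, hJdef⟩ : ∃ J : ℕ → Ideal S, J = fun d => (P.filter (fun p => δ p = d)).inf id :=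
    ⟨_, rfl⟩
  have hJle : ∀ p ∈ P, J (δ p) ≤ p := by
    intro p hp
    rw [hJdef]
    exact Finset.inf_le (f := id) (Finset.mem_filter.mpr ⟨hp, rfl⟩)
  have hJprime : ∀ (d : ℕ) (q : Ideal S), q.IsPrime → J d ≤ q → ∃ p ∈ P, δ p = d ∧ p ≤ q := by
    intro d q hq hle
    rw [hJdef] at hle
    obtain ⟨p, hp, hpq⟩ := (Ideal.IsPrime.inf_le' hq).mp hle
    obtain ⟨hpP, hpd⟩ := Finset.mem_filter.mp hp
    exact ⟨p, hpP, hpd, hpq⟩
  have hcop : ∀ d d' : ℕ, d ≠ d' → J d ⊔ J d' = ⊤ := by
    intro d d' hdd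
    by_contra hne
    obtain ⟨m, hm, hle⟩ := Ideal.exists_le_maximal _ hne
    obtain ⟨p, hp, hpd, hpm⟩ := hJprime d m hm.isPrime (le_sup_left.trans hle)
    obtain ⟨p', hp', hpd', hpm'⟩ := hJprime d' m hm.isPrime (le_sup_right.trans hle)
    have e1 := hkey p hp m hm hpm
    have e2 := hkey p' hp' m hm hpm'
    rw [e1] at e2
    have e3 : δ p = δ p' := by exact_mod_cast e2
    exact hdd (by rw [← hpd, ← hpd', e3])
  obtain ⟨M, hM⟩ := IsNoetherianRing.isNilpotent_nilradical S
  have hM' : nilradical S ^ (M + 1) = ⊥ := by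
    rw [pow_succ, hM, Ideal.zero_eq_bot, Ideal.bot_mul]
  obtain ⟨I, hIdef⟩ : ∃ I : Fin (N + 1) → Ideal S, I = fun d : Fin (N + 1) => J d.val ^ (M + 1) := ⟨_, rfl⟩
  have hIeq : ∀ d : Fin (N + 1), I d = J d.val ^ (M + 1) := fun d => by rw [hIdef]
  have hIcop : Pairwise (IsCoprime on I) := by
    intro i j hij
    have h1 : IsCoprime (J i) (J j) := by
      rw [Ideal.isCoprime_iff_sup_eq]
      exact hcop i j (fun h => hij (Fin.ext h))
    rw [hIdef]
    exact h1.pow
  have hJnil : ⨅ d : Fin (N + 1), J d ≤ nilradical S := by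
    have h0 : nilradical S = sInf (minimalPrimes S) := by
      change (⊥ : Ideal S).radical = sInf ((⊥ : Ideal S).minimalPrimes)
      rw [Ideal.sInf_minimalPrimes]
    rw [h0]
    refine le_sInf (fun p hp => ?_)
    have hpP : p ∈ P := (hP p).mpr hp
    exact (iInf_le _ (⟨δ p, Nat.lt_succ_of_le (hδN p hpP)⟩ : Fin (N + 1))).trans (hJle p hpP)
  have hInf : ⨅ d, I d = ⊥ := by
    have h1 : ∏ d ∈ (Finset.univ : Finset (Fin (N + 1))), I d = ⨅ d ∈ (Finset.univ : Finset (Fin (N + 1))), I d :=
      Ideal.prod_eq_iInf_of_pairwise_isCoprime (fun i _ j _ hij => hIcop hij)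
    have h2 : ⨅ d, I d = ∏ d ∈ (Finset.univ : Finset (Fin (N + 1))), I d := by
      rw [h1]
      simp
    rw [h2, hIdef, Finset.prod_pow, eq_bot_iff, ← hM']
    refine Ideal.pow_right_mono ?_ _
    refine le_trans ?_ hJnil
    refine le_trans Ideal.prod_le_inf ?_
    rw [Finset.inf_eq_iInf]
    simp
  -- the isomorphism
  let φ : S →ₐ[k] ((d : Fin (N + 1)) → S ⧸ I d) :=
    AlgHom.pi (fun d => Ideal.Quotient.mkₐ k (I d))
  have hφinj : Function.Injective φ := by
    rw [injective_iff_map_eq_zero]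
    intro x hx
    have hx' : ∀ d, x ∈ I d := by
      intro d
      have := congrFun hx d
      exact Ideal.Quotient.eq_zero_iff_mem.mp this
    have : x ∈ ⨅ d, I d := by
      rw [Ideal.mem_iInf]
      exact hx'
    rw [hInf] at this
    exact this
  have hφsurj : Function.Surjective φ := by
    intro y
    obtain ⟨r, hr⟩ := Ideal.pi_quotient_surjective hIcop y
    exact ⟨r, funext hr⟩
  refine ⟨N, fun d => S ⧸ I d, fun d => inferInstance, fun d => inferInstance,
    ⟨AlgEquiv.ofBijective φ ⟨hφinj, hφsurj⟩⟩, ?_⟩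
  intro d m' hm'
  have hm'p : m'.IsPrime := hm'.isPrime
  have hmax : (m'.comap (Ideal.Quotient.mk (I d))).IsMaximal :=
    Ideal.comap_isMaximal_of_surjective _ Ideal.Quotient.mk_surjective
  have hIm : I d ≤ m'.comap (Ideal.Quotient.mk (I d)) := by
    intro x hx
    rw [Ideal.mem_comap, Ideal.Quotient.eq_zero_iff_mem.mpr hx]
    exact m'.zero_mem
  have hJm : J d ≤ m'.comap (Ideal.Quotient.mk (I d)) := by
    exact hmax.isPrime.le_of_pow_le (le_trans (le_of_eq (hIeq d).symm) hIm)
  obtain ⟨p, hp, hpd, hpm⟩ := hJprime d _ hmax.isPrime hJm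
  have hht : (m'.comap (Ideal.Quotient.mk (I d))).height = (d : ℕ) := by
    rw [hkey p hp _ hmax hpm, hpd]
  have hker : RingHom.ker (Ideal.Quotient.mk (I d)) = I d := Ideal.mk_ker
  have hall : ∀ q : Ideal S, q.IsPrime → q ≤ m'.comap (Ideal.Quotient.mk (I d)) →
      RingHom.ker (Ideal.Quotient.mk (I d)) ≤ q := by
    intro q hq hqm
    rw [hker]
    obtain ⟨p'', hp''min, hp''q⟩ := Ideal.exists_minimalPrimes_le (I := (⊥ : Ideal S)) (J := q) bot_le
    have hp''P : p'' ∈ P := (hP p'').mpr hp''min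
    have e1 := hkey p'' hp''P _ hmax (hp''q.trans hqm)
    rw [hht] at e1
    have e2 : (d : ℕ) = δ p'' := by exact_mod_cast e1
    have h3 : J d ≤ p'' := by
      rw [e2]
      exact hJle p'' hp''P
    have h4 : I d ≤ J d := (hIeq d).le.trans (Ideal.pow_le_self (by omega))
    exact (h4.trans h3).trans hp''q
  refine le_antisymm ?_ ?_
  · rw [← hht]
    exact height_le_height_comap_of_surjective _ Ideal.Quotient.mk_surjective m'
  · rw [← hht]
    exact height_comap_le_of_forall_ker_le Ideal.Quotient.mk_surjective m' hall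

end Groth.Agent.Lib.R2H4.CMDecomp
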