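import Mathlib

namespace Groth.Agent.Lib.R2H4.CartanFibre

open scoped TensorProduct
open Module LieAlgebra LieSubalgebra Polynomial

attribute [local instance 100] LieRing.ofAssociativeRing

section General

variable {R : Type*} [CommRing R] {N L : Type*} [LieRing N] [LieAlgebra R N] [LieRing L]
  [LieAlgebra R L]

lemma map_ad_pow (f : N →ₗ⁅R⁆ L) (y z : N) (k : ℕ) :
    f (((ad R N y) ^ k) z) = ((ad R L (f y)) ^ k) (f z) := by
  induction k generalizing z with
  | zero => simp
  | succ k ih =>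
    rw [pow_succ, Module.End.mul_apply, ih, pow_succ, Module.End.mul_apply]
    simp

/-- The image of a nilpotent Lie algebra lies in the Engel subalgebra of the image of any of its
elements. -/
lemma range_le_engel_of_isNilpotent [LieRing.IsNilpotent N] (f : N →ₗ⁅R⁆ L) (y : N) :
    f.range ≤ engel R (f y) := by
  obtain ⟨k, hk⟩ := LieAlgebra.nilpotent_ad_of_nilpotent_algebra R N
  rintro _ ⟨z, rfl⟩
  rw [mem_engel_iff]
  refine ⟨k, ?_⟩
  change ((ad R L) (f y) ^ k) (f z) = 0
  rw [← map_ad_pow, hk y]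
  simp

end General

section Fibre

variable {A : Type*} [CommRing A] {L : Type*} [LieRing L] [LieAlgebra A L]
variable (K : Type*) [CommRing K] [Algebra A K]

lemma ad_one_tmul_pow (y : L) (k : ℕ) :
    ((ad K (K ⊗[A] L)) ((1 : K) ⊗ₜ[A] y)) ^ k = ((ad A L y) ^ k).baseChange K := by
  have : (ad K (K ⊗[A] L)) (1 ⊗ₜ[A] y) = ((ad A L) y).baseChange K :=
    LieModule.toEnd_baseChange A K L L y
  rw [this, LinearMap.baseChange_pow]

lemma tmul_mem_engel {x w : L} (hw : w ∈ engel A x) (c : K) :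
    c ⊗ₜ[A] w ∈ engel K ((1 : K) ⊗ₜ[A] x) := by
  rw [mem_engel_iff] at hw ⊢
  obtain ⟨n, hn⟩ := hw
  exact ⟨n, by rw [ad_one_tmul_pow, LinearMap.baseChange_tmul, hn, TensorProduct.tmul_zero]⟩

lemma baseChange_engel_le (x : L) :
    (engel A x).toSubmodule.baseChange K ≤ (engel K ((1 : K) ⊗ₜ[A] x)).toSubmodule := by
  rw [Submodule.baseChange_eq_span, Submodule.span_le]
  rintro _ ⟨w, hw, rfl⟩
  exact tmul_mem_engel K hw 1

/-- The fibre of a Lie subalgebra, as a Lie algebra homomorphism. -/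
def fibreHom (H : LieSubalgebra A L) : K ⊗[A] H →ₗ⁅K⁆ K ⊗[A] L :=
  { H.toSubmodule.subtype.baseChange K with
    map_lie' := by
      intro x y
      have := (LieAlgebra.ExtendScalars.map (AlgHom.id A K) H.incl).map_lie x y
      exact this }

end Fibre

end Groth.Agent.Lib.R2H4.CartanFibre
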