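import Mathlib

namespace Groth.Agent.Lib.R2H4.CartanField

open scoped TensorProduct
open Module LieAlgebra LieSubalgebra Polynomial

attribute [local instance 100] LieRing.ofAssociativeRing

section Field
variable {K L : Type*} [Field K] [LieRing L] [LieAlgebra K L] [Module.Finite K L]

/-- The Engel subalgebra of a regular element is nilpotent (when the field is large). -/
lemma engel_isNilpotent_of_isRegular_of_card (h : finrank K L ≤ Cardinal.mk K) {x : L}
    (hx : IsRegular K x) : LieRing.IsNilpotent (engel K x) := by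
  apply isNilpotent_of_forall_le_engel
  intro y hy
  set Ex : {engel K z | z ∈ engel K x} := ⟨engel K x, x, self_mem_engel _ _, rfl⟩
  suffices IsBot Ex from @this ⟨engel K y, y, hy, rfl⟩
  apply engel_isBot_of_isMin h (engel K x) Ex le_rfl
  rintro ⟨_, y, hy, rfl⟩ hyx
  suffices finrank K (engel K x) ≤ finrank K (engel K y) by
    suffices engel K y = engel K x from this.ge
    apply LieSubalgebra.toSubmodule_injective
    exact Submodule.eq_of_le_of_finrank_le hyx this
  rw [(isRegular_iff_finrank_engel_eq_rank K x).mp hx]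
  apply rank_le_finrank_engel

variable (K' : Type*) [Field K'] [Algebra K K']

omit [Module.Finite K L] in
lemma ad_baseChange_eq :
    (ad K' (K' ⊗[K] L)).toLinearMap =
      LinearMap.tensorProduct K K' L L ∘ₗ (ad K L).toLinearMap.baseChange K' := by
  apply TensorProduct.AlgebraTensorModule.curry_injective
  ext x : 2
  simp [LinearMap.tensorProduct]
  exact LieModule.toEnd_baseChange K K' L L x

omit [Module.Finite K L] in
lemma natTrailingDegree_map_of_injective {R S : Type*} [Semiring R] [Semiring S] (f : R →+* S)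
    (hf : Function.Injective f) (p : R[X]) :
    (p.map f).natTrailingDegree = p.natTrailingDegree := by
  unfold natTrailingDegree trailingDegree
  rw [Polynomial.support_map_of_injective _ hf]

lemma rank_baseChange : LieAlgebra.rank K' (K' ⊗[K] L) = LieAlgebra.rank K L := by
  classical
  let b := Module.Free.chooseBasis K L
  rw [LieAlgebra.rank_eq_natTrailingDegree K L b,
    LieAlgebra.rank_eq_natTrailingDegree K' (K' ⊗[K] L) (Algebra.TensorProduct.basis K' b),
    ad_baseChange_eq, LinearMap.polyCharpoly_baseChange]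
  exact natTrailingDegree_map_of_injective _
    (MvPolynomial.map_injective _ (algebraMap K K').injective) _

lemma isRegular_baseChange_iff (x : L) :
    IsRegular K' ((1 : K') ⊗ₜ[K] x) ↔ IsRegular K x := by
  rw [LieAlgebra.isRegular_def, LieAlgebra.isRegular_def, rank_baseChange]
  have : (ad K' (K' ⊗[K] L)) (1 ⊗ₜ[K] x) = ((ad K L) x).baseChange K' :=
    LieModule.toEnd_baseChange K K' L L x
  rw [this, LinearMap.charpoly_baseChange, Polynomial.coeff_map]
  simp

omit [Module.Finite K L] in
lemma ad_one_tmul_pow (y : L) (k : ℕ) :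
    ((ad K' (K' ⊗[K] L)) ((1 : K') ⊗ₜ[K] y)) ^ k = ((ad K L y) ^ k).baseChange K' := by
  have : (ad K' (K' ⊗[K] L)) (1 ⊗ₜ[K] y) = ((ad K L) y).baseChange K' :=
    LieModule.toEnd_baseChange K K' L L y
  rw [this, LinearMap.baseChange_pow]

omit [Module.Finite K L] in
lemma tmul_mem_engel {x w : L} (hw : w ∈ engel K x) (c : K') :
    c ⊗ₜ[K] w ∈ engel K' ((1 : K') ⊗ₜ[K] x) := by
  rw [mem_engel_iff] at hw ⊢
  obtain ⟨n, hn⟩ := hw
  exact ⟨n, by rw [ad_one_tmul_pow, LinearMap.baseChange_tmul, hn, TensorProduct.tmul_zero]⟩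

omit [Module.Finite K L] in
lemma mem_engel_of_tmul_mem {x w : L} (hw : (1 : K') ⊗ₜ[K] w ∈ engel K' ((1 : K') ⊗ₜ[K] x)) :
    w ∈ engel K x := by
  rw [mem_engel_iff] at hw ⊢
  obtain ⟨n, hn⟩ := hw
  refine ⟨n, ?_⟩
  rw [ad_one_tmul_pow, LinearMap.baseChange_tmul] at hn
  exact (Module.FaithfullyFlat.one_tmul_eq_zero_iff K L (A := K') _).mp hn

/-- The Engel subalgebra of a regular element is nilpotent (any field). -/
lemma engel_isNilpotent_of_isRegular {x : L} (hx : IsRegular K x) :
    LieRing.IsNilpotent (engel K x) := by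
  let K' := AlgebraicClosure K
  have hx' : IsRegular K' ((1 : K') ⊗ₜ[K] x) := (isRegular_baseChange_iff K' x).mpr hx
  have hcard : (finrank K' (K' ⊗[K] L) : Cardinal) ≤ Cardinal.mk K' :=
    (Cardinal.natCast_le_aleph0).trans (Cardinal.infinite_iff.mp inferInstance)
  have hnil := engel_isNilpotent_of_isRegular_of_card hcard hx'
  apply isNilpotent_of_forall_le_engel
  intro y hy z hz
  obtain ⟨k, hk⟩ := LieAlgebra.nilpotent_ad_of_nilpotent_algebra K'
    (engel K' ((1 : K') ⊗ₜ[K] x))
  have h1 := hk ⟨(1 : K') ⊗ₜ[K] y, tmul_mem_engel K' hy 1⟩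
  have h2 := congrArg (fun f => ((f ⟨(1 : K') ⊗ₜ[K] z, tmul_mem_engel K' hz 1⟩ :
    engel K' ((1 : K') ⊗ₜ[K] x)) : K' ⊗[K] L)) h1
  simp only [LieSubalgebra.coe_ad_pow] at h2
  apply mem_engel_of_tmul_mem K'
  rw [mem_engel_iff]
  exact ⟨k, by simpa using h2⟩

/-- A subspace of the Engel subalgebra of a regular element whose dimension is the rank is the
whole Engel subalgebra. -/
lemma eq_engel_of_le_of_finrank {x : L} (hx : IsRegular K x) (U : Submodule K L)
    (hU : U ≤ (engel K x).toSubmodule) (hr : finrank K U = rank K L) :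
    U = (engel K x).toSubmodule := by
  apply Submodule.eq_of_le_of_finrank_eq hU
  rw [hr]
  exact ((isRegular_iff_finrank_engel_eq_rank K x).mp hx).symm

omit [Module.Finite K L] in
lemma mem_engel_of_lie_mem_engel {R : Type*} [CommRing R] {L : Type*} [LieRing L]
    [LieAlgebra R L] {x z : L} (h : ⁅x, z⁆ ∈ engel R x) :
    z ∈ engel R x := by
  rw [mem_engel_iff] at h ⊢
  obtain ⟨n, hn⟩ := h
  exact ⟨n + 1, by rw [pow_succ, Module.End.mul_apply]; exact hn⟩

end Field

end Groth.Agent.Lib.R2H4.CartanField
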