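import Mathlib

namespace Groth.Agent.Lib.R2H4.CartanLin

open scoped TensorProduct
open Module Polynomial

universe u

section Conj

variable {A M N : Type*} [CommRing A] [AddCommGroup M] [Module A M] [AddCommGroup N] [Module A N]
  (i : M →ₗ[A] N) (s : N →ₗ[A] M)

/-- Transport of an endomorphism along a split injection. -/
def conjEnd (φ : Module.End A M) : Module.End A N := i ∘ₗ φ ∘ₗ s

variable {i s}

lemma conjEnd_pow_succ (hsi : s ∘ₗ i = LinearMap.id) (φ : Module.End A M) (k : ℕ) :
    (conjEnd i s φ) ^ (k + 1) = conjEnd i s (φ ^ (k + 1)) := by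
  induction k with
  | zero => simp
  | succ k ih =>
    rw [pow_succ, ih]
    ext x
    have h : s (i ((φ) (s x))) = φ (s x) := by
      have := LinearMap.congr_fun hsi (φ (s x))
      simpa using this
    simp only [conjEnd, Module.End.mul_apply, LinearMap.comp_apply, h]
    rw [pow_succ (n := k + 1), Module.End.mul_apply]

lemma pow_eq_comp_conjEnd_pow (hsi : s ∘ₗ i = LinearMap.id) (φ : Module.End A M) (k : ℕ) :
    φ ^ k = s ∘ₗ ((conjEnd i s φ) ^ k) ∘ₗ i := by
  have hs : ∀ x, s (i x) = x := fun x => by simpa using LinearMap.congr_fun hsi x
  cases k with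
  | zero => ext x; simp [hs]
  | succ k =>
    rw [conjEnd_pow_succ hsi]
    ext x
    simp [conjEnd, hs]

lemma isNilpotent_conjEnd_iff (hsi : s ∘ₗ i = LinearMap.id) (φ : Module.End A M) :
    IsNilpotent (conjEnd i s φ) ↔ IsNilpotent φ := by
  constructor
  · rintro ⟨k, hk⟩
    exact ⟨k, by rw [pow_eq_comp_conjEnd_pow hsi, hk]; simp⟩
  · rintro ⟨k, hk⟩
    refine ⟨k + 1, ?_⟩
    rw [conjEnd_pow_succ hsi, pow_succ, hk]
    simp [conjEnd]

lemma conjEnd_baseChange (K : Type*) [CommRing K] [Algebra A K] (φ : Module.End A M) :
    (conjEnd i s φ).baseChange K = conjEnd (i.baseChange K) (s.baseChange K) (φ.baseChange K) := by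
  simp [conjEnd, LinearMap.baseChange_comp]

lemma baseChange_comp_eq_id (K : Type*) [CommRing K] [Algebra A K] (hsi : s ∘ₗ i = LinearMap.id) :
    s.baseChange K ∘ₗ i.baseChange K = LinearMap.id := by
  rw [← LinearMap.baseChange_comp, hsi, LinearMap.baseChange_id]

end Conj

section Nilp

variable {A : Type*} [CommRing A] {M : Type*} [AddCommGroup M] [Module A M]

/-- An endomorphism of a finite free module which is nilpotent on every fibre is nilpotent. -/
theorem isNilpotent_of_forall_residueField_of_free [Module.Free A M] [Module.Finite A M]
    (φ : Module.End A M)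
    (h : ∀ p : PrimeSpectrum A, IsNilpotent (φ.baseChange p.asIdeal.ResidueField)) :
    IsNilpotent φ := by
  cases subsingleton_or_nontrivial A
  · have : Subsingleton M := Module.subsingleton A M
    exact ⟨1, Subsingleton.elim _ _⟩
  have hc : ∀ j < φ.charpoly.natDegree, IsNilpotent (φ.charpoly.coeff j) := by
    intro j hj
    rw [← mem_nilradical, nilradical_eq_sInf, Ideal.mem_sInf]
    intro p hp
    have hp' : p.IsPrime := hp
    have h1 := h ⟨p, hp'⟩
    rw [LinearMap.isNilpotent_iff_charpoly, LinearMap.charpoly_baseChange] at h1
    have h2 := congrArg (fun q => q.coeff j) h1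
    have hfr : Module.finrank p.ResidueField (p.ResidueField ⊗[A] M) = Module.finrank A M := by
      rw [Module.finrank_baseChange]
    simp only [Polynomial.coeff_map, Polynomial.coeff_X_pow, hfr] at h2
    rw [LinearMap.charpoly_natDegree] at hj
    rw [if_neg hj.ne] at h2
    rwa [← RingHom.mem_ker, Ideal.ker_algebraMap_residueField] at h2
  have hmonic := φ.charpoly_monic
  have hsum := hmonic.as_sum
  have h0 := φ.aeval_self_charpoly
  rw [hsum] at h0
  simp only [map_add, map_pow, aeval_X, map_sum, map_mul, aeval_C] at h0
  have hpow : φ ^ φ.charpoly.natDegree =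
      - ∑ x ∈ Finset.range φ.charpoly.natDegree,
        (algebraMap A (Module.End A M)) (φ.charpoly.coeff x) * φ ^ x :=
    eq_neg_of_add_eq_zero_left h0
  have hnil : IsNilpotent (φ ^ φ.charpoly.natDegree) := by
    rw [hpow]
    apply IsNilpotent.neg
    apply Commute.isNilpotent_sum
    · intro j hj
      have hcj := hc j (Finset.mem_range.mp hj)
      have : IsNilpotent ((algebraMap A (Module.End A M)) (φ.charpoly.coeff j)) := hcj.map _
      exact Commute.isNilpotent_mul_right (Algebra.commutes _ _) this
    · intro j k _ _
      have h1 : Commute ((algebraMap A (Module.End A M)) (φ.charpoly.coeff j)) (φ ^ k) :=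
        Algebra.commutes _ _
      have h2 : Commute ((algebraMap A (Module.End A M)) (φ.charpoly.coeff k)) (φ ^ j) :=
        Algebra.commutes _ _
      have h3 : Commute ((algebraMap A (Module.End A M)) (φ.charpoly.coeff j))
          ((algebraMap A (Module.End A M)) (φ.charpoly.coeff k)) := Algebra.commutes _ _
      have h4 : Commute (φ ^ j) (φ ^ k) := (Commute.refl φ).pow_pow j k
      exact Commute.mul_left (Commute.mul_right h3 h1) (Commute.mul_right h2.symm h4)
  by_cases hd : φ.charpoly.natDegree = 0
  · rw [hd, pow_zero] at hnil
    obtain ⟨k, hk⟩ := hnil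
    rw [one_pow] at hk
    exact ⟨1, by rw [pow_one, ← mul_one φ, hk, mul_zero]⟩
  · exact (IsNilpotent.pow_iff_pos hd).mp hnil

/-- An endomorphism of a finite projective module which is nilpotent on every fibre is
nilpotent. -/
theorem isNilpotent_of_forall_residueField [Module.Finite A M] [Module.Projective A M]
    (φ : Module.End A M)
    (h : ∀ p : PrimeSpectrum A, IsNilpotent (φ.baseChange p.asIdeal.ResidueField)) :
    IsNilpotent φ := by
  obtain ⟨n, s, i, -, -, hsi⟩ := Module.Finite.exists_comp_eq_id_of_projective A M
  rw [← isNilpotent_conjEnd_iff hsi]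
  apply isNilpotent_of_forall_residueField_of_free
  intro p
  rw [conjEnd_baseChange, isNilpotent_conjEnd_iff (baseChange_comp_eq_id _ hsi)]
  exact h p

/-- A finite module all of whose fibres vanish is zero. -/
theorem subsingleton_of_forall_residueField [Module.Finite A M]
    (h : ∀ p : PrimeSpectrum A, Subsingleton (p.asIdeal.ResidueField ⊗[A] M)) :
    Subsingleton M := by
  rw [← Module.support_eq_empty_iff (R := A), Set.eq_empty_iff_forall_notMem]
  intro p hp
  rw [Module.mem_support_iff_nontrivial_residueField_tensorProduct] at hp
  exact not_subsingleton _ (h p)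

/-- An endomorphism of a finite module which is surjective on every fibre is surjective. -/
theorem surjective_of_forall_residueField [Module.Finite A M] (φ : Module.End A M)
    (h : ∀ p : PrimeSpectrum A, Function.Surjective (φ.baseChange p.asIdeal.ResidueField)) :
    Function.Surjective φ := by
  have : Subsingleton (M ⧸ LinearMap.range φ) := by
    apply subsingleton_of_forall_residueField (A := A)
    intro p
    refine ⟨fun x y => ?_⟩
    have hs : Function.Surjective
        ((LinearMap.range φ).mkQ.baseChange p.asIdeal.ResidueField) := by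
      rw [LinearMap.baseChange_eq_ltensor]
      exact LinearMap.lTensor_surjective _ (Submodule.mkQ_surjective _)
    have hz : ∀ z, (LinearMap.range φ).mkQ.baseChange p.asIdeal.ResidueField z = 0 := by
      intro z
      obtain ⟨w, rfl⟩ := h p z
      rw [← LinearMap.comp_apply, ← LinearMap.baseChange_comp]
      have : (LinearMap.range φ).mkQ ∘ₗ φ = 0 := by
        ext m
        simp
      rw [this, LinearMap.baseChange_zero]
      rfl
    obtain ⟨x', rfl⟩ := hs x
    obtain ⟨y', rfl⟩ := hs y
    rw [hz, hz]
  rw [← LinearMap.range_eq_top, ← Submodule.Quotient.subsingleton_iff]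
  exact this

/-- An endomorphism of a finite module which is injective on every fibre at a field is
bijective on the module, provided the fibres are finite dimensional (automatic). -/
theorem bijective_of_forall_residueField_injective [Module.Finite A M] (φ : Module.End A M)
    (h : ∀ p : PrimeSpectrum A, Function.Injective (φ.baseChange p.asIdeal.ResidueField)) :
    Function.Bijective φ := by
  have hs : Function.Surjective φ := by
    apply surjective_of_forall_residueField
    intro p
    exact LinearMap.surjective_of_injective (h p)
  exact ⟨OrzechProperty.injective_of_surjective_endomorphism φ hs, hs⟩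

/-- Base change of a bijective endomorphism is bijective. -/
theorem baseChange_bijective (K : Type*) [CommRing K] [Algebra A K] (φ : Module.End A M)
    (h : Function.Bijective φ) : Function.Bijective (φ.baseChange K) := by
  have : φ.baseChange K = ((LinearEquiv.ofBijective φ h).baseChange A K M M).toLinearMap := by
    ext; simp
  rw [this]
  exact LinearEquiv.bijective _

end Nilp

section Split

variable {A : Type*} [CommRing A] {M : Type*} [AddCommGroup M] [Module A M]

/-- A submodule with projective quotient admits a retraction. -/
lemma exists_retraction_of_projective_quotient (H : Submodule A M)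
    [Module.Projective A (M ⧸ H)] : ∃ r : M →ₗ[A] H, r ∘ₗ H.subtype = LinearMap.id := by
  obtain ⟨σ, hσ⟩ := Module.projective_lifting_property H.mkQ LinearMap.id
    (Submodule.mkQ_surjective H)
  let ρ : M →ₗ[A] M := LinearMap.id - σ ∘ₗ H.mkQ
  have hmem : ∀ x : M, ρ x ∈ H := by
    intro x
    rw [← Submodule.Quotient.mk_eq_zero H]
    have := LinearMap.congr_fun hσ (H.mkQ x)
    simp only [LinearMap.comp_apply, LinearMap.id_apply, Submodule.mkQ_apply] at this
    simp only [ρ, LinearMap.sub_apply, LinearMap.id_apply, LinearMap.comp_apply,
      Submodule.mkQ_apply, Submodule.Quotient.mk_sub, this, sub_self]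
  refine ⟨ρ.codRestrict H hmem, ?_⟩
  ext x
  have hx : H.mkQ (x : M) = 0 := by simp
  simp [ρ, hx]

lemma baseChange_subtype_injective (K : Type*) [CommRing K] [Algebra A K] (H : Submodule A M)
    [Module.Projective A (M ⧸ H)] : Function.Injective (H.subtype.baseChange K) := by
  obtain ⟨r, hr⟩ := exists_retraction_of_projective_quotient H
  have : r.baseChange K ∘ₗ H.subtype.baseChange K = LinearMap.id := by
    rw [← LinearMap.baseChange_comp, hr, LinearMap.baseChange_id]
  exact LinearMap.injective_of_comp_eq_id _ _ this

lemma finite_of_projective_quotient [Module.Finite A M] (H : Submodule A M)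
    [Module.Projective A (M ⧸ H)] : Module.Finite A H := by
  obtain ⟨r, hr⟩ := exists_retraction_of_projective_quotient H
  exact Module.Finite.of_surjective r (LinearMap.surjective_of_comp_eq_id _ _ hr)

lemma projective_of_projective_quotient [Module.Projective A M] (H : Submodule A M)
    [Module.Projective A (M ⧸ H)] : Module.Projective A H := by
  obtain ⟨r, hr⟩ := exists_retraction_of_projective_quotient H
  exact Module.Projective.of_split H.subtype r hr

lemma ker_mkQ_baseChange (K : Type*) [CommRing K] [Algebra A K] (H : Submodule A M) :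
    LinearMap.ker (H.mkQ.baseChange K) = H.baseChange K := by
  have hex : Function.Exact (H.subtype.lTensor K) (H.mkQ.lTensor K) :=
    lTensor_exact K (LinearMap.exact_subtype_mkQ H) (Submodule.mkQ_surjective H)
  ext x
  rw [LinearMap.mem_ker, Submodule.baseChange, LinearMap.mem_range]
  have := hex x
  simp only [LinearMap.baseChange_eq_ltensor]
  rw [this]
  rfl

end Split

end Groth.Agent.Lib.R2H4.CartanLin
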