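import Mathlib
import Groth.Prelude.Def_W4sga3xiixivxvCartan
import Groth.Agent.Lib.R2H4CartanField
import Groth.Agent.Lib.R2H4CartanLin
import Groth.Agent.Lib.R2H4CartanFibre

namespace Groth.Agent.Lib.R2H4.CartanRel

open scoped TensorProduct
open Module LieAlgebra LieSubalgebra Polynomial
open Groth.Agent.Lib.R2H4

attribute [local instance 100] LieRing.ofAssociativeRing

universe u

section Quot

variable {A : Type*} [CommRing A] {L : Type*} [LieRing L] [LieAlgebra A L]

/-- The endomorphism of `L ⧸ H` induced by `ad a`, when `H` is `ad a`-stable. -/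
noncomputable def adQuot (H : LieSubalgebra A L) (a : L) (hst : ∀ h ∈ H, ⁅a, h⁆ ∈ H) :
    Module.End A (L ⧸ H.toSubmodule) :=
  H.toSubmodule.mapQ H.toSubmodule (ad A L a) (fun h hh => hst h hh)

lemma adQuot_mkQ (H : LieSubalgebra A L) (a : L) (hst : ∀ h ∈ H, ⁅a, h⁆ ∈ H) (z : L) :
    adQuot H a hst (H.toSubmodule.mkQ z) = H.toSubmodule.mkQ ⁅a, z⁆ := rfl

lemma adQuot_pow_mkQ (H : LieSubalgebra A L) (a : L) (hst : ∀ h ∈ H, ⁅a, h⁆ ∈ H) (k : ℕ)
    (z : L) :
    ((adQuot H a hst) ^ k) (H.toSubmodule.mkQ z) = H.toSubmodule.mkQ (((ad A L a) ^ k) z) := by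
  induction k generalizing z with
  | zero => simp
  | succ k ih =>
    rw [pow_succ, Module.End.mul_apply, adQuot_mkQ, ih, pow_succ, Module.End.mul_apply]
    rfl

variable (K : Type*) [CommRing K] [Algebra A K]

lemma adQuot_baseChange_mkQ (H : LieSubalgebra A L) (a : L) (hst : ∀ h ∈ H, ⁅a, h⁆ ∈ H)
    (z : K ⊗[A] L) :
    (adQuot H a hst).baseChange K (H.toSubmodule.mkQ.baseChange K z) =
      H.toSubmodule.mkQ.baseChange K ⁅(1 : K) ⊗ₜ[A] a, z⁆ := by
  have h1 : (adQuot H a hst) ∘ₗ H.toSubmodule.mkQ = H.toSubmodule.mkQ ∘ₗ (ad A L a) := by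
    ext z; rfl
  have h2 : (ad K (K ⊗[A] L)) (1 ⊗ₜ[A] a) = ((ad A L) a).baseChange K :=
    LieModule.toEnd_baseChange A K L L a
  have h3 : ⁅(1 : K) ⊗ₜ[A] a, z⁆ = ((ad A L) a).baseChange K z := by
    rw [← h2]; rfl
  rw [h3, ← LinearMap.comp_apply, ← LinearMap.baseChange_comp, h1, LinearMap.baseChange_comp]
  rfl

lemma adQuot_baseChange_pow_mkQ (H : LieSubalgebra A L) (a : L) (hst : ∀ h ∈ H, ⁅a, h⁆ ∈ H)
    (k : ℕ) (z : K ⊗[A] L) :
    (((adQuot H a hst).baseChange K) ^ k) (H.toSubmodule.mkQ.baseChange K z) =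
      H.toSubmodule.mkQ.baseChange K (((ad K (K ⊗[A] L) ((1 : K) ⊗ₜ[A] a)) ^ k) z) := by
  induction k generalizing z with
  | zero => simp
  | succ k ih =>
    rw [pow_succ, Module.End.mul_apply, adQuot_baseChange_mkQ, ih, pow_succ,
      Module.End.mul_apply]
    rfl

lemma mkQ_baseChange_surjective (H : LieSubalgebra A L) :
    Function.Surjective (H.toSubmodule.mkQ.baseChange K) := by
  rw [LinearMap.baseChange_eq_ltensor]
  exact LinearMap.lTensor_surjective _ (Submodule.mkQ_surjective _)

lemma mkQ_baseChange_eq_zero_iff (H : LieSubalgebra A L) (z : K ⊗[A] L) :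
    H.toSubmodule.mkQ.baseChange K z = 0 ↔ z ∈ H.toSubmodule.baseChange K := by
  rw [← CartanLin.ker_mkQ_baseChange, LinearMap.mem_ker]

/-- If the fibre of `H` is "ad-closed" for `1 ⊗ a` then the induced endomorphism of the fibre of
`L ⧸ H` is injective. -/
lemma adQuot_baseChange_injective (H : LieSubalgebra A L) (a : L) (hst : ∀ h ∈ H, ⁅a, h⁆ ∈ H)
    (hfib : ∀ z : K ⊗[A] L, ⁅(1 : K) ⊗ₜ[A] a, z⁆ ∈ H.toSubmodule.baseChange K →
      z ∈ H.toSubmodule.baseChange K) :
    Function.Injective ((adQuot H a hst).baseChange K) := by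
  rw [injective_iff_map_eq_zero]
  intro w hw
  obtain ⟨z, rfl⟩ := mkQ_baseChange_surjective K H w
  rw [adQuot_baseChange_mkQ, mkQ_baseChange_eq_zero_iff] at hw
  rw [mkQ_baseChange_eq_zero_iff]
  exact hfib z hw

end Quot

section Main

variable {A : Type u} [CommRing A] {L : Type u} [LieRing L] [LieAlgebra A L]
  [Module.Finite A L] [Module.Projective A L]

open SGA3t2b

/-- T1: the fibre of a relative Cartan subalgebra containing `a`, at a point where `a` is regular,
is the Engel subalgebra of `1 ⊗ a`. -/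
lemma fibre_eq_engel (H : LieSubalgebra A L) (hH : IsCartanRel H) (a : L) (haH : a ∈ H)
    (p : PrimeSpectrum A)
    (hreg : LieAlgebra.IsRegular p.asIdeal.ResidueField ((1 : p.asIdeal.ResidueField) ⊗ₜ[A] a)) :
    fibreSubmodule p H =
      (engel p.asIdeal.ResidueField ((1 : p.asIdeal.ResidueField) ⊗ₜ[A] a)).toSubmodule := by
  have hnil := (hH.2 p).1
  apply CartanField.eq_engel_of_le_of_finrank hreg _ _ (hH.2 p).2.2
  have := CartanFibre.range_le_engel_of_isNilpotent
    (CartanFibre.fibreHom p.asIdeal.ResidueField H) ((1 : p.asIdeal.ResidueField) ⊗ₜ[A] ⟨a, haH⟩)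
  intro z hz
  obtain ⟨w, rfl⟩ := hz
  exact this ⟨w, rfl⟩

/-- T2: for a relative Cartan subalgebra `H ∋ a` with `a` quasi-regular, `ad a` is bijective on
`L ⧸ H`. -/
lemma adQuot_bijective (H : LieSubalgebra A L) (hH : IsCartanRel H) (a : L) (haH : a ∈ H)
    (ha : IsQuasiRegular A L a) :
    Function.Bijective (adQuot H a (fun _ hh => H.lie_mem haH hh)) := by
  have : Module.Finite A (L ⧸ H.toSubmodule) := inferInstance
  apply CartanLin.bijective_of_forall_residueField_injective
  intro p
  apply adQuot_baseChange_injective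
  intro z hz
  have h1 := fibre_eq_engel H hH a haH p (ha p)
  unfold fibreSubmodule at h1
  rw [h1] at hz ⊢
  exact CartanField.mem_engel_of_lie_mem_engel hz

/-- T3: a relative Cartan subalgebra containing a quasi-regular element `a` is the Engel
subalgebra of `a`. -/
theorem eq_engel (H : LieSubalgebra A L) (hH : IsCartanRel H) (a : L) (haH : a ∈ H)
    (ha : IsQuasiRegular A L a) : H = engel A a := by
  have hproj : Module.Projective A (L ⧸ H.toSubmodule) := hH.1
  apply le_antisymm
  · -- `ad a` restricted to `H` is nilpotent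
    have hfin : Module.Finite A H := CartanLin.finite_of_projective_quotient H.toSubmodule
    have hpr : Module.Projective A H := CartanLin.projective_of_projective_quotient H.toSubmodule
    have hnil : IsNilpotent (ad A H ⟨a, haH⟩) := by
      apply CartanLin.isNilpotent_of_forall_residueField
      intro p
      have hn := (hH.2 p).1
      have h1 := LieModule.isNilpotent_toEnd_of_isNilpotent p.asIdeal.ResidueField
        (p.asIdeal.ResidueField ⊗[A] H) (p.asIdeal.ResidueField ⊗[A] H)
        ((1 : p.asIdeal.ResidueField) ⊗ₜ[A] (⟨a, haH⟩ : ↥H))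
      rwa [LieModule.toEnd_baseChange] at h1
    obtain ⟨k, hk⟩ := hnil
    intro h hh
    rw [mem_engel_iff]
    refine ⟨k, ?_⟩
    have := LieSubalgebra.coe_ad_pow A L H ⟨a, haH⟩ ⟨h, hh⟩ k
    rw [hk] at this
    simpa using this.symm
  · intro y hy
    rw [mem_engel_iff] at hy
    obtain ⟨n, hn⟩ := hy
    have hbij := adQuot_bijective H hH a haH ha
    have hinj : Function.Injective ((adQuot H a (fun h hh => H.lie_mem haH hh)) ^ n) := by
      rw [Module.End.coe_pow]
      exact hbij.1.iterate n
    have h0 := adQuot_pow_mkQ H a (fun h hh => H.lie_mem haH hh) n y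
    rw [hn, map_zero] at h0
    have h1 := hinj (h0.trans (map_zero _).symm)
    rw [Submodule.mkQ_apply, Submodule.Quotient.mk_eq_zero] at h1
    exact h1

omit [Module.Finite A L] [Module.Projective A L] in
lemma engel_stable (a : L) : ∀ h ∈ engel A a, ⁅a, h⁆ ∈ engel A a :=
  fun _ hh => (engel A a).lie_mem (self_mem_engel A a) hh

omit [Module.Finite A L] [Module.Projective A L] in
/-- Under the conditions (ii), (iii), `ad a` is bijective on `L ⧸ engel a`. -/
lemma adQuot_engel_bijective (a : L)
    (h2 : ∀ z : L, ⁅a, z⁆ ∈ engel A a → z ∈ engel A a)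
    (h3 : ∀ y : L, ∃ z : L, ⁅a, z⁆ - y ∈ engel A a) :
    Function.Bijective (adQuot (engel A a) a (engel_stable a)) := by
  constructor
  · rw [injective_iff_map_eq_zero]
    intro w hw
    obtain ⟨z, rfl⟩ := Submodule.mkQ_surjective _ w
    rw [adQuot_mkQ, Submodule.mkQ_apply, Submodule.Quotient.mk_eq_zero] at hw
    rw [Submodule.mkQ_apply, Submodule.Quotient.mk_eq_zero]
    exact h2 z hw
  · intro w
    obtain ⟨y, rfl⟩ := Submodule.mkQ_surjective _ w
    obtain ⟨z, hz⟩ := h3 y
    refine ⟨(engel A a).toSubmodule.mkQ z, ?_⟩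
    rw [adQuot_mkQ, ← sub_eq_zero, ← map_sub, Submodule.mkQ_apply,
      Submodule.Quotient.mk_eq_zero]
    exact hz

omit [Module.Finite A L] [Module.Projective A L] in
/-- The fibre of the Engel subalgebra, when `ad a` is bijective on the quotient. -/
lemma fibre_engel_eq (a : L)
    (hbij : Function.Bijective (adQuot (engel A a) a (engel_stable a)))
    (K : Type*) [Field K] [Algebra A K] :
    (engel A a).toSubmodule.baseChange K = (engel K ((1 : K) ⊗ₜ[A] a)).toSubmodule := by
  apply le_antisymm (CartanFibre.baseChange_engel_le K a)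
  intro z hz
  rw [LieSubalgebra.mem_toSubmodule, mem_engel_iff] at hz
  obtain ⟨n, hn⟩ := hz
  have hb := CartanLin.baseChange_bijective K _ hbij
  have hinj : Function.Injective
      (((adQuot (engel A a) a (engel_stable a)).baseChange K) ^ n) := by
    rw [Module.End.coe_pow]
    exact hb.1.iterate n
  have h0 := adQuot_baseChange_pow_mkQ K (engel A a) a (engel_stable a) n z
  rw [hn, map_zero] at h0
  have h1 := hinj (h0.trans (map_zero _).symm)
  exact (mkQ_baseChange_eq_zero_iff K _ z).mp h1

/-- T4: under the conditions of the criterion, the Engel subalgebra of a quasi-regular element is a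
relative Cartan subalgebra. -/
theorem isCartanRel_engel (a : L) (ha : IsQuasiRegular A L a)
    (h1 : Module.Projective A (L ⧸ (engel A a).toSubmodule))
    (h2 : ∀ z : L, ⁅a, z⁆ ∈ engel A a → z ∈ engel A a)
    (h3 : ∀ y : L, ∃ z : L, ⁅a, z⁆ - y ∈ engel A a) :
    IsCartanRel (engel A a) := by
  refine ⟨h1, fun p => ?_⟩
  have hbij := adQuot_engel_bijective a h2 h3
  have hfib := fibre_engel_eq a hbij p.asIdeal.ResidueField
  have hreg := ha p
  refine ⟨?_, ?_, ?_⟩
  · -- nilpotency
    have hinj : Function.Injective (CartanFibre.fibreHom p.asIdeal.ResidueField (engel A a)) :=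
      CartanLin.baseChange_subtype_injective p.asIdeal.ResidueField (engel A a).toSubmodule
    have hrange : (CartanFibre.fibreHom p.asIdeal.ResidueField (engel A a)).range =
        engel p.asIdeal.ResidueField ((1 : p.asIdeal.ResidueField) ⊗ₜ[A] a) := by
      apply LieSubalgebra.toSubmodule_injective
      rw [← hfib]
      rfl
    have hn : LieRing.IsNilpotent
        (engel p.asIdeal.ResidueField ((1 : p.asIdeal.ResidueField) ⊗ₜ[A] a)) :=
      CartanField.engel_isNilpotent_of_isRegular hreg
    rw [← hrange] at hn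
    exact ((CartanFibre.fibreHom p.asIdeal.ResidueField (engel A a)).equivRangeOfInjective
      hinj).nilpotent_iff_equiv_nilpotent.mpr hn
  · intro x hx
    unfold fibreSubmodule at hx ⊢
    rw [hfib] at hx ⊢
    have : x ∈ (engel p.asIdeal.ResidueField ((1 : p.asIdeal.ResidueField) ⊗ₜ[A] a)).normalizer := by
      rw [LieSubalgebra.mem_normalizer_iff]
      exact hx
    rwa [normalizer_engel] at this
  · unfold fibreSubmodule
    rw [hfib]
    exact (LieAlgebra.isRegular_iff_finrank_engel_eq_rank _ _).mp hreg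

/-- T5: the criterion. -/
theorem exists_isCartanRel_iff (a : L) (ha : IsQuasiRegular A L a) :
    (∃ H : LieSubalgebra A L, IsCartanRel H ∧ a ∈ H) ↔
      (Module.Projective A (L ⧸ (engel A a).toSubmodule) ∧
        (∀ z : L, ⁅a, z⁆ ∈ engel A a → z ∈ engel A a) ∧
        (∀ y : L, ∃ z : L, ⁅a, z⁆ - y ∈ engel A a)) := by
  constructor
  · rintro ⟨H, hH, haH⟩
    have hbij := adQuot_bijective H hH a haH ha
    have hE := eq_engel H hH a haH ha
    subst hE
    refine ⟨hH.1, ?_, ?_⟩
    · intro z hz
      have : adQuot (engel A a) a (fun h hh => (engel A a).lie_mem haH hh)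
          ((engel A a).toSubmodule.mkQ z) = 0 := by
        rw [adQuot_mkQ, Submodule.mkQ_apply, Submodule.Quotient.mk_eq_zero]
        exact hz
      have h0 := hbij.1 (this.trans (map_zero _).symm)
      rwa [Submodule.mkQ_apply, Submodule.Quotient.mk_eq_zero] at h0
    · intro y
      obtain ⟨w, hw⟩ := hbij.2 ((engel A a).toSubmodule.mkQ y)
      obtain ⟨z, rfl⟩ := Submodule.mkQ_surjective _ w
      refine ⟨z, ?_⟩
      rw [adQuot_mkQ, ← sub_eq_zero, ← map_sub, Submodule.mkQ_apply,
        Submodule.Quotient.mk_eq_zero] at hw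
      exact hw
  · rintro ⟨h1, h2, h3⟩
    exact ⟨engel A a, isCartanRel_engel a ha h1 h2 h3, self_mem_engel A a⟩

end Main

end Groth.Agent.Lib.R2H4.CartanRel
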