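import Mathlib
import Groth.Prelude.Def_W4sga3xiixivxvCartan
import Groth.Agent.Lib.R2H4CartanRel

namespace Groth.Agent.Lib.R2H4.CartanAut

open scoped TensorProduct
open Module LieAlgebra LieSubalgebra Polynomial
open Groth.Agent.Lib.R2H4

attribute [local instance 100] LieRing.ofAssociativeRing

universe u

section Aut

variable {A : Type*} [CommRing A] {L : Type*} [LieRing L] [LieAlgebra A L]

lemma ad_map (u : L ≃ₗ⁅A⁆ L) (a : L) :
    ad A L (u a) = u.toLinearEquiv.conj (ad A L a) := by
  ext y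
  simp only [LinearEquiv.conj_apply, LinearMap.comp_apply, ad_apply]
  change ⁅u a, y⁆ = u ⁅a, u.symm y⁆
  rw [LieEquiv.map_lie, LieEquiv.apply_symm_apply]

lemma engel_map (u : L ≃ₗ⁅A⁆ L) (a : L) :
    (engel A a).map u.toLieHom = engel A (u a) := by
  ext y
  rw [LieSubalgebra.mem_map, mem_engel_iff]
  constructor
  · rintro ⟨x, hx, rfl⟩
    rw [mem_engel_iff] at hx
    obtain ⟨n, hn⟩ := hx
    refine ⟨n, ?_⟩
    have := CartanFibre.map_ad_pow u.toLieHom a x n
    rw [hn, map_zero] at this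
    exact this.symm
  · rintro ⟨n, hn⟩
    refine ⟨u.symm y, ?_, by simp⟩
    rw [mem_engel_iff]
    refine ⟨n, ?_⟩
    have := CartanFibre.map_ad_pow u.toLieHom a (u.symm y) n
    have h2 : u.toLieHom (u.symm y) = y := by simp
    rw [h2] at this
    have h3 : (u.toLieHom a) = u a := rfl
    rw [h3, hn] at this
    exact u.injective (this.trans (map_zero _).symm)

variable [Module.Finite A L] [Module.Projective A L]

lemma isRegular_map (K : Type*) [Field K] [Algebra A K] (u : L ≃ₗ⁅A⁆ L) (a : L)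
    (h : LieAlgebra.IsRegular K ((1 : K) ⊗ₜ[A] a)) :
    LieAlgebra.IsRegular K ((1 : K) ⊗ₜ[A] (u a)) := by
  rw [LieAlgebra.isRegular_def] at h ⊢
  have h1 : (ad K (K ⊗[A] L)) (1 ⊗ₜ[A] a) = ((ad A L) a).baseChange K :=
    LieModule.toEnd_baseChange A K L L a
  have h2 : (ad K (K ⊗[A] L)) (1 ⊗ₜ[A] (u a)) = ((ad A L) (u a)).baseChange K :=
    LieModule.toEnd_baseChange A K L L (u a)
  have h3 : ((ad A L) (u a)).baseChange K =
      (u.toLinearEquiv.baseChange A K L L).conj (((ad A L) a).baseChange K) := by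
    rw [ad_map]
    ext x
    simp [LinearEquiv.conj_apply]
  rw [h2, h3, LinearEquiv.charpoly_conj, ← h1]
  exact h

end Aut

section Main

variable {A : Type u} [CommRing A] {L : Type u} [LieRing L] [LieAlgebra A L]
  [Module.Finite A L] [Module.Projective A L]

open SGA3t2b

theorem map_eq_iff (H : LieSubalgebra A L) (hH : IsCartanRel H) (a : L) (haH : a ∈ H)
    (ha : IsQuasiRegular A L a) (u : L ≃ₗ⁅A⁆ L) :
    H.map u.toLieHom = H ↔ u a ∈ H := by
  constructor
  · intro h
    rw [← h, LieSubalgebra.mem_map]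
    exact ⟨a, haH, rfl⟩
  · intro hua
    have hua' : IsQuasiRegular A L (u a) := fun p => isRegular_map _ u a (ha p)
    have h1 := CartanRel.eq_engel H hH a haH ha
    have h2 := CartanRel.eq_engel H hH (u a) hua hua'
    conv_lhs => rw [h1]
    rw [engel_map, ← h2]

end Main

end Groth.Agent.Lib.R2H4.CartanAut
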