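import Mathlib
import Groth.Agent.Lib.R2H4CartanField

namespace Groth.Agent.Lib.R2H4.CartanBC

open scoped TensorProduct
open Module LieAlgebra LieSubalgebra Polynomial

attribute [local instance 100] LieRing.ofAssociativeRing

universe u

section Equiv

variable {K : Type*} [CommRing K] [Nontrivial K] {L₁ L₂ : Type*} [LieRing L₁] [LieAlgebra K L₁]
  [LieRing L₂] [LieAlgebra K L₂] [Module.Finite K L₁] [Module.Free K L₁]
  [Module.Finite K L₂] [Module.Free K L₂]

omit [Nontrivial K] [Module.Finite K L₁] [Module.Free K L₁] [Module.Finite K L₂]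
  [Module.Free K L₂] in
lemma ad_equiv (e : L₁ ≃ₗ⁅K⁆ L₂) (x : L₁) :
    ad K L₂ (e x) = e.toLinearEquiv.conj (ad K L₁ x) := by
  ext y
  simp only [LinearEquiv.conj_apply, LinearMap.comp_apply, ad_apply]
  change ⁅e x, y⁆ = e ⁅x, e.symm y⁆
  rw [LieEquiv.map_lie, LieEquiv.apply_symm_apply]

/-- The nilpotent rank is invariant under Lie algebra equivalences. -/
lemma rank_eq_of_equiv (e : L₁ ≃ₗ⁅K⁆ L₂) : LieAlgebra.rank K L₁ = LieAlgebra.rank K L₂ := by
  classical
  let b₁ := Module.Free.chooseBasis K L₁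
  let b₂ := b₁.map e.toLinearEquiv
  have hmat : LinearMap.toMatrix b₂ b₂.end (ad K L₂).toLinearMap =
      LinearMap.toMatrix b₁ b₁.end (ad K L₁).toLinearMap := by
    ext ⟨j, k⟩ l
    rw [LinearMap.toMatrix_apply, LinearMap.toMatrix_apply]
    simp only [Module.Basis.end_repr_apply]
    have hb : b₂ l = e (b₁ l) := rfl
    have key : (LinearMap.toMatrix b₂ b₂) ((ad K L₂) (b₂ l)) =
        (LinearMap.toMatrix b₁ b₁) ((ad K L₁) (b₁ l)) := by
      rw [hb, ad_equiv]
      ext j' k'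
      simp only [LinearMap.toMatrix_apply, LinearEquiv.conj_apply, b₂, Module.Basis.map_apply,
        Module.Basis.map_repr, LinearEquiv.trans_apply, LinearMap.comp_apply,
        LinearEquiv.coe_coe, ad_apply]
      have h1 : ∀ z : L₁, e.toLinearEquiv.symm (e.toLinearEquiv z) = z :=
        fun z => e.toLinearEquiv.symm_apply_apply z
      rw [h1, h1]
    exact congrArg (fun m => ((Matrix.stdBasis K _ _).repr m) (j, k)) key
  have hmv : (ad K L₂).toLinearMap.toMvPolynomial b₂ b₂.end =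
      (ad K L₁).toLinearMap.toMvPolynomial b₁ b₁.end := by
    unfold LinearMap.toMvPolynomial
    rw [hmat]
  rw [LieAlgebra.rank_eq_natTrailingDegree K L₁ b₁, LieAlgebra.rank_eq_natTrailingDegree K L₂ b₂,
    LinearMap.polyCharpoly_eq_of_basis _ b₁ b₁, LinearMap.polyCharpoly_eq_of_basis _ b₂ b₂, hmv]

lemma isRegular_equiv_iff (e : L₁ ≃ₗ⁅K⁆ L₂) (x : L₁) :
    LieAlgebra.IsRegular K (e x) ↔ LieAlgebra.IsRegular K x := by
  rw [LieAlgebra.isRegular_def, LieAlgebra.isRegular_def, ad_equiv, LinearEquiv.charpoly_conj,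
    rank_eq_of_equiv e]

end Equiv

section Cancel

variable (R S T : Type*) [CommRing R] [CommRing S] [Algebra R S] [CommRing T] [Algebra R T]
  [Algebra S T] [IsScalarTower R S T] (L : Type*) [LieRing L] [LieAlgebra R L]

open TensorProduct.AlgebraTensorModule in
lemma cancelBaseChange_lie (x y : T ⊗[S] (S ⊗[R] L)) :
    cancelBaseChange R S T T L ⁅x, y⁆ =
      ⁅cancelBaseChange R S T T L x, cancelBaseChange R S T T L y⁆ := by
  have hadd_left : ∀ x₁ x₂ y : T ⊗[S] (S ⊗[R] L), ⁅x₁ + x₂, y⁆ = ⁅x₁, y⁆ + ⁅x₂, y⁆ :=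
    fun x₁ x₂ y => add_lie (L := T ⊗[S] (S ⊗[R] L)) (M := T ⊗[S] (S ⊗[R] L)) x₁ x₂ y
  have hadd_right : ∀ x y₁ y₂ : T ⊗[S] (S ⊗[R] L), ⁅x, y₁ + y₂⁆ = ⁅x, y₁⁆ + ⁅x, y₂⁆ :=
    fun x y₁ y₂ => lie_add (L := T ⊗[S] (S ⊗[R] L)) (M := T ⊗[S] (S ⊗[R] L)) x y₁ y₂
  have hadd_left' : ∀ x₁ x₂ y : T ⊗[R] L, ⁅x₁ + x₂, y⁆ = ⁅x₁, y⁆ + ⁅x₂, y⁆ :=
    fun x₁ x₂ y => add_lie (L := T ⊗[R] L) (M := T ⊗[R] L) x₁ x₂ y
  have hadd_right' : ∀ x y₁ y₂ : T ⊗[R] L, ⁅x, y₁ + y₂⁆ = ⁅x, y₁⁆ + ⁅x, y₂⁆ :=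
    fun x y₁ y₂ => lie_add (L := T ⊗[R] L) (M := T ⊗[R] L) x y₁ y₂
  have hzl : ∀ y : T ⊗[S] (S ⊗[R] L), ⁅(0 : T ⊗[S] (S ⊗[R] L)), y⁆ = 0 :=
    fun y => zero_lie (L := T ⊗[S] (S ⊗[R] L)) (M := T ⊗[S] (S ⊗[R] L)) y
  have hzr : ∀ x : T ⊗[S] (S ⊗[R] L), ⁅x, (0 : T ⊗[S] (S ⊗[R] L))⁆ = 0 :=
    fun x => lie_zero (L := T ⊗[S] (S ⊗[R] L)) (M := T ⊗[S] (S ⊗[R] L)) x
  have hzl' : ∀ y : T ⊗[R] L, ⁅(0 : T ⊗[R] L), y⁆ = 0 :=
    fun y => zero_lie (L := T ⊗[R] L) (M := T ⊗[R] L) y
  have hzr' : ∀ x : T ⊗[R] L, ⁅x, (0 : T ⊗[R] L)⁆ = 0 :=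
    fun x => lie_zero (L := T ⊗[R] L) (M := T ⊗[R] L) x
  induction x using TensorProduct.induction_on with
  | zero => rw [hzl, map_zero, hzl']
  | add x₁ x₂ h₁ h₂ => rw [hadd_left, map_add, h₁, h₂, map_add, hadd_left']
  | tmul t z =>
    induction y using TensorProduct.induction_on with
    | zero => rw [hzr, map_zero, hzr']
    | add y₁ y₂ h₁ h₂ => rw [hadd_right, map_add, h₁, h₂, map_add, hadd_right']
    | tmul t' z' =>
      induction z using TensorProduct.induction_on with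
      | zero => rw [TensorProduct.tmul_zero, hzl, map_zero, hzl']
      | add z₁ z₂ h₁ h₂ =>
        rw [TensorProduct.tmul_add, hadd_left, map_add, h₁, h₂, map_add, hadd_left']
      | tmul s l =>
        induction z' using TensorProduct.induction_on with
        | zero => rw [TensorProduct.tmul_zero, hzr, map_zero, hzr']
        | add z₁ z₂ h₁ h₂ =>
          rw [TensorProduct.tmul_add, hadd_right, map_add, h₁, h₂, map_add, hadd_right']
        | tmul s' l' =>
          simp only [LieAlgebra.ExtendScalars.bracket_tmul, cancelBaseChange_tmul]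
          rw [smul_mul_smul_comm]

/-- `T ⊗[S] (S ⊗[R] L) ≃ T ⊗[R] L` as Lie algebras over `T`. -/
noncomputable def cancelBaseChangeLie : T ⊗[S] (S ⊗[R] L) ≃ₗ⁅T⁆ T ⊗[R] L :=
  { TensorProduct.AlgebraTensorModule.cancelBaseChange R S T T L with
    map_lie' := fun {x y} => cancelBaseChange_lie R S T L x y }

@[simp]
lemma cancelBaseChangeLie_tmul (t : T) (s : S) (l : L) :
    cancelBaseChangeLie R S T L (t ⊗ₜ[S] (s ⊗ₜ[R] l)) = (s • t) ⊗ₜ[R] l :=
  TensorProduct.AlgebraTensorModule.cancelBaseChange_tmul ..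

end Cancel

section FieldAlg

variable {A : Type*} [CommRing A] {L : Type*} [LieRing L] [LieAlgebra A L] [Module.Finite A L]

/-- The algebra structure `κ(q) → K'` for a field `K'` over `A` with kernel `q`. -/
noncomputable def residueFieldLift (K' : Type*) [Field K'] [Algebra A K'] (q : PrimeSpectrum A)
    (hq : q.asIdeal = RingHom.ker (algebraMap A K')) : q.asIdeal.ResidueField →+* K' :=
  Ideal.ResidueField.lift q.asIdeal (algebraMap A K') hq.le (by
    intro x hx
    simp only [Submonoid.mem_comap, IsUnit.mem_submonoid_iff]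
    rw [isUnit_iff_ne_zero, Ne, ← RingHom.mem_ker, ← hq]
    exact hx)

lemma residueFieldLift_algebraMap (K' : Type*) [Field K'] [Algebra A K'] (q : PrimeSpectrum A)
    (hq : q.asIdeal = RingHom.ker (algebraMap A K')) (r : A) :
    residueFieldLift K' q hq (algebraMap A q.asIdeal.ResidueField r) = algebraMap A K' r := by
  unfold residueFieldLift
  exact Ideal.ResidueField.lift_algebraMap _ _ _ _ r

lemma rank_field_algebra (K' : Type*) [Field K'] [Algebra A K'] (q : PrimeSpectrum A)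
    (hq : q.asIdeal = RingHom.ker (algebraMap A K')) :
    LieAlgebra.rank K' (K' ⊗[A] L) =
      LieAlgebra.rank q.asIdeal.ResidueField (q.asIdeal.ResidueField ⊗[A] L) := by
  let _ : Algebra q.asIdeal.ResidueField K' := (residueFieldLift K' q hq).toAlgebra
  have : IsScalarTower A q.asIdeal.ResidueField K' :=
    IsScalarTower.of_algebraMap_eq (fun r => (residueFieldLift_algebraMap K' q hq r).symm)
  rw [← rank_eq_of_equiv (cancelBaseChangeLie A q.asIdeal.ResidueField K' L),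
    CartanField.rank_baseChange]

lemma isRegular_field_algebra_iff (K' : Type*) [Field K'] [Algebra A K'] (q : PrimeSpectrum A)
    (hq : q.asIdeal = RingHom.ker (algebraMap A K')) (a : L) :
    LieAlgebra.IsRegular K' ((1 : K') ⊗ₜ[A] a) ↔
      LieAlgebra.IsRegular q.asIdeal.ResidueField ((1 : q.asIdeal.ResidueField) ⊗ₜ[A] a) := by
  let _ : Algebra q.asIdeal.ResidueField K' := (residueFieldLift K' q hq).toAlgebra
  have : IsScalarTower A q.asIdeal.ResidueField K' :=
    IsScalarTower.of_algebraMap_eq (fun r => (residueFieldLift_algebraMap K' q hq r).symm)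
  have h1 := isRegular_equiv_iff (cancelBaseChangeLie A q.asIdeal.ResidueField K' L)
    ((1 : K') ⊗ₜ[q.asIdeal.ResidueField] ((1 : q.asIdeal.ResidueField) ⊗ₜ[A] a))
  rw [cancelBaseChangeLie_tmul, one_smul] at h1
  exact h1.trans (CartanField.isRegular_baseChange_iff K'
    ((1 : q.asIdeal.ResidueField) ⊗ₜ[A] a))

end FieldAlg

section Rel

variable {A : Type*} [CommRing A] {L : Type*} [LieRing L] [LieAlgebra A L] [Module.Finite A L]
variable (A' : Type*) [CommRing A'] [Algebra A A']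

lemma comap_asIdeal_eq_ker (q' : PrimeSpectrum A') :
    (q'.comap (algebraMap A A')).asIdeal =
      RingHom.ker (algebraMap A q'.asIdeal.ResidueField) := by
  ext x
  rw [RingHom.mem_ker, IsScalarTower.algebraMap_apply A A' q'.asIdeal.ResidueField,
    Ideal.algebraMap_residueField_eq_zero]
  rfl

lemma rank_fibre_baseChange (q' : PrimeSpectrum A') :
    LieAlgebra.rank q'.asIdeal.ResidueField (q'.asIdeal.ResidueField ⊗[A'] (A' ⊗[A] L)) =
      LieAlgebra.rank (q'.comap (algebraMap A A')).asIdeal.ResidueField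
        ((q'.comap (algebraMap A A')).asIdeal.ResidueField ⊗[A] L) := by
  rw [rank_eq_of_equiv (cancelBaseChangeLie A A' q'.asIdeal.ResidueField L),
    rank_field_algebra q'.asIdeal.ResidueField (q'.comap (algebraMap A A'))
      (comap_asIdeal_eq_ker A' q')]

lemma isRegular_fibre_baseChange_iff (q' : PrimeSpectrum A') (x : A' ⊗[A] L) :
    LieAlgebra.IsRegular q'.asIdeal.ResidueField ((1 : q'.asIdeal.ResidueField) ⊗ₜ[A'] x) ↔
      LieAlgebra.IsRegular q'.asIdeal.ResidueField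
        (cancelBaseChangeLie A A' q'.asIdeal.ResidueField L
          ((1 : q'.asIdeal.ResidueField) ⊗ₜ[A'] x)) :=
  (isRegular_equiv_iff _ _).symm

lemma isRegular_fibre_one_tmul_iff (q' : PrimeSpectrum A') (a : L) :
    LieAlgebra.IsRegular q'.asIdeal.ResidueField
        ((1 : q'.asIdeal.ResidueField) ⊗ₜ[A'] ((1 : A') ⊗ₜ[A] a)) ↔
      LieAlgebra.IsRegular (q'.comap (algebraMap A A')).asIdeal.ResidueField
        ((1 : (q'.comap (algebraMap A A')).asIdeal.ResidueField) ⊗ₜ[A] a) := by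
  rw [isRegular_fibre_baseChange_iff, cancelBaseChangeLie_tmul, one_smul]
  exact isRegular_field_algebra_iff q'.asIdeal.ResidueField (q'.comap (algebraMap A A'))
    (comap_asIdeal_eq_ker A' q') a

end Rel

end Groth.Agent.Lib.R2H4.CartanBC
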