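import Mathlib
import Groth.Agent.Lib.R2H4CartanField
import Groth.Agent.Lib.R2H4CartanFibre

namespace Groth.Agent.Lib.R2H4.CartanBarnes

open scoped TensorProduct
open Module LieAlgebra LieSubalgebra Polynomial

attribute [local instance 100] LieRing.ofAssociativeRing

universe u

section Engel

variable {K L : Type*} [Field K] [LieRing L] [LieAlgebra K L] [Module.Finite K L]

/-- Engel step: a self-normalizing subalgebra `U` equals any subalgebra `E ⊇ U` on which all
elements of `U` act nilpotently. -/
lemma eq_of_le_of_forall_le_engel (U E : LieSubalgebra K L) (hUE : U ≤ E)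
    (hnorm : U.normalizer = U) (h : ∀ y ∈ U, E ≤ engel K y) : E = U := by
  apply le_antisymm _ hUE
  -- `E` as a Lie submodule of the `U`-module `L`
  let E' : LieSubmodule K U L :=
    { E.toSubmodule with lie_mem := fun {y v} hv => E.lie_mem (hUE y.2) hv }
  have hnil : LieModule.IsNilpotent U E' := by
    rw [LieModule.isNilpotent_iff_forall' (R := K)]
    intro y
    rw [Module.End.isNilpotent_iff_of_finite]
    intro v
    have hv : (v : L) ∈ engel K (y : L) := h y y.2 v.2
    rw [mem_engel_iff] at hv
    obtain ⟨n, hn⟩ := hv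
    refine ⟨n, ?_⟩
    apply Subtype.ext
    rw [LieSubmodule.coe_toEnd_pow]
    exact hn
  rw [LieSubmodule.isNilpotent_iff_exists_self_le_ucs] at hnil
  obtain ⟨k, hk⟩ := hnil
  have hU' : U.toLieSubmodule.normalizer = U.toLieSubmodule := by
    apply LieSubmodule.toSubmodule_injective
    rw [LieSubalgebra.coe_normalizer_eq_normalizer, hnorm]
    rfl
  have h2 := LieSubmodule.ucs_le_of_normalizer_eq_self hU' k
  intro x hx
  exact h2 (hk hx)

/-- Barnes: over an infinite field, a nilpotent self-normalizing subalgebra whose dimension is the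
rank contains a regular element. -/
theorem exists_isRegular_mem [Infinite K] (U : LieSubalgebra K L)
    (hnil : ∀ y ∈ U, U ≤ engel K y) (hnorm : U.normalizer = U)
    (hrank : finrank K U = LieAlgebra.rank K L) : ∃ x ∈ U, LieAlgebra.IsRegular K x := by
  have hLK : (finrank K L : Cardinal) ≤ Cardinal.mk K :=
    (Cardinal.natCast_le_aleph0).trans (Cardinal.infinite_iff.mp inferInstance)
  let f : U → ℕ := fun x => finrank K (engel K (x : L))
  let x := Function.argmin f
  have hx : ∀ y : U, f x ≤ f y := fun y => Function.argmin_le f y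
  let E : {engel K z | z ∈ U} := ⟨engel K (x : L), x, x.2, rfl⟩
  have hUle : U ≤ E := hnil x x.2
  have hmin : IsMin E := by
    rintro ⟨_, y, hy, rfl⟩ hyx
    have hle : finrank K (engel K (x : L)) ≤ finrank K (engel K y) := hx ⟨y, hy⟩
    have : engel K y = engel K (x : L) := by
      apply LieSubalgebra.toSubmodule_injective
      exact Submodule.eq_of_le_of_finrank_le hyx hle
    exact this.ge
  have hbot := engel_isBot_of_isMin hLK U E hUle hmin
  have hall : ∀ y ∈ U, engel K (x : L) ≤ engel K y := fun y hy =>
    @hbot ⟨engel K y, y, hy, rfl⟩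
  have heq := eq_of_le_of_forall_le_engel U (engel K (x : L)) hUle hnorm hall
  refine ⟨x, x.2, ?_⟩
  rw [LieAlgebra.isRegular_iff_finrank_engel_eq_rank, heq]
  exact hrank

end Engel

end Groth.Agent.Lib.R2H4.CartanBarnes
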