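import Mathlib
import Groth.Prelude.Def_W4sga3xiixivxvCartan
import Groth.Agent.Lib.R2H4CartanLin
import Groth.Agent.Lib.R2H4CartanField

namespace Groth.Agent.Lib.R2H4.CartanCharpoly

open scoped TensorProduct
open Module LieAlgebra LieSubalgebra Polynomial
open Groth.Agent.Lib.R2H4 CartanLin

attribute [local instance 100] LieRing.ofAssociativeRing

universe u

section Charpoly

variable {K V W : Type*} [CommRing K] [Nontrivial K] [AddCommGroup V] [Module K V]
  [AddCommGroup W] [Module K W] [Module.Free K V] [Module.Finite K V] [Module.Free K W]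
  [Module.Finite K W]

/-- `charpoly (i φ s)` versus `charpoly φ` when `s i = id`. -/
lemma charpoly_conjEnd {i : V →ₗ[K] W} {s : W →ₗ[K] V} (hsi : s ∘ₗ i = LinearMap.id)
    (φ : Module.End K V) :
    X ^ finrank K V * (conjEnd i s φ).charpoly = X ^ finrank K W * φ.charpoly := by
  classical
  let bV := Module.finBasis K V
  let bW := Module.finBasis K W
  have h1 : LinearMap.toMatrix bW bW (conjEnd i s φ) =
      LinearMap.toMatrix bV bW i * LinearMap.toMatrix bW bV (φ ∘ₗ s) := by
    rw [← LinearMap.toMatrix_comp]; rfl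
  have h2 : LinearMap.toMatrix bV bV φ =
      LinearMap.toMatrix bW bV (φ ∘ₗ s) * LinearMap.toMatrix bV bW i := by
    rw [← LinearMap.toMatrix_comp, LinearMap.comp_assoc, hsi, LinearMap.comp_id]
  rw [← LinearMap.charpoly_toMatrix (conjEnd i s φ) bW, ← LinearMap.charpoly_toMatrix φ bV,
    h1, h2]
  have := Matrix.charpoly_mul_comm' (LinearMap.toMatrix bV bW i)
    (LinearMap.toMatrix bW bV (φ ∘ₗ s))
  simpa using this

end Charpoly

section Fibre

lemma finrank_baseChange_pi {A : Type*} [CommRing A] (K : Type*) [Field K] [Algebra A K] (n : ℕ) :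
    finrank K (K ⊗[A] (Fin n → A)) = n := by
  have : Nontrivial A := RingHom.domain_nontrivial (algebraMap A K)
  rw [Module.finrank_baseChange (R := K) (S := A) (M' := Fin n → A)]
  simp

variable {A : Type*} [CommRing A] {M : Type*} [AddCommGroup M] [Module A M] [Module.Finite A M]
  {n : ℕ} {s : (Fin n → A) →ₗ[A] M} {i : M →ₗ[A] (Fin n → A)}

/-- The fibre of the characteristic polynomial of the transported endomorphism. -/
lemma map_charpoly_conjEnd (hsi : s ∘ₗ i = LinearMap.id) (φ : Module.End A M)
    (K : Type*) [Field K] [Algebra A K] :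
    X ^ finrank K (K ⊗[A] M) * ((conjEnd i s φ).charpoly.map (algebraMap A K)) =
      X ^ n * (φ.baseChange K).charpoly := by
  rw [← LinearMap.charpoly_baseChange, conjEnd_baseChange,
    charpoly_conjEnd (baseChange_comp_eq_id K hsi), finrank_baseChange_pi]

omit [Module.Finite A M] in
lemma finrank_fibre_le (hsi : s ∘ₗ i = LinearMap.id) (K : Type*) [Field K] [Algebra A K] :
    finrank K (K ⊗[A] M) ≤ n := by
  have hinj : Function.Injective (i.baseChange K) :=
    LinearMap.injective_of_comp_eq_id _ _ (baseChange_comp_eq_id K hsi)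
  have := LinearMap.finrank_le_finrank_of_injective hinj
  rwa [finrank_baseChange_pi] at this

/-- Coefficients of the fibre of the characteristic polynomial. -/
lemma coeff_map_charpoly_conjEnd (hsi : s ∘ₗ i = LinearMap.id) (φ : Module.End A M)
    (K : Type*) [Field K] [Algebra A K] (j : ℕ) :
    (φ.baseChange K).charpoly.coeff j =
      algebraMap A K ((conjEnd i s φ).charpoly.coeff (j + n - finrank K (K ⊗[A] M))) := by
  have h := map_charpoly_conjEnd hsi φ K
  have hle := finrank_fibre_le hsi K
  have h2 := congrArg (fun q => q.coeff (j + n)) h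
  beta_reduce at h2
  rw [mul_comm, mul_comm (X ^ n), Polynomial.coeff_mul_X_pow] at h2
  rw [← h2]
  have : j + n = (j + n - finrank K (K ⊗[A] M)) + finrank K (K ⊗[A] M) := by omega
  conv_lhs => rw [this]
  rw [Polynomial.coeff_mul_X_pow, Polynomial.coeff_map]

end Fibre

section Lie

variable {A : Type u} [CommRing A] {L : Type u} [LieRing L] [LieAlgebra A L]
  [Module.Finite A L]
  {n : ℕ} {s : (Fin n → A) →ₗ[A] L} {i : L →ₗ[A] (Fin n → A)}

/-- Regularity on a fibre in terms of a coefficient of a global polynomial. -/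
lemma isRegular_iff_coeff_notMem (hsi : s ∘ₗ i = LinearMap.id) (a : L) (q : PrimeSpectrum A) :
    LieAlgebra.IsRegular q.asIdeal.ResidueField ((1 : q.asIdeal.ResidueField) ⊗ₜ[A] a) ↔
      (conjEnd i s (ad A L a)).charpoly.coeff
        (LieAlgebra.rank q.asIdeal.ResidueField (q.asIdeal.ResidueField ⊗[A] L) + n -
          finrank q.asIdeal.ResidueField (q.asIdeal.ResidueField ⊗[A] L)) ∉ q.asIdeal := by
  rw [LieAlgebra.isRegular_def]
  have h1 : (ad q.asIdeal.ResidueField (q.asIdeal.ResidueField ⊗[A] L)) (1 ⊗ₜ[A] a) =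
      ((ad A L) a).baseChange q.asIdeal.ResidueField :=
    LieModule.toEnd_baseChange A q.asIdeal.ResidueField L L a
  rw [h1, coeff_map_charpoly_conjEnd hsi, Ne, Ideal.algebraMap_residueField_eq_zero]

variable [Module.Projective A L]

lemma isLocallyConstant_finrank_fibre :
    IsLocallyConstant (fun q : PrimeSpectrum A =>
      finrank q.asIdeal.ResidueField (q.asIdeal.ResidueField ⊗[A] L)) := by
  have : Module.FinitePresentation A L := Module.finitePresentation_of_projective A L
  have := Module.isLocallyConstant_rankAtStalk (R := A) (M := L)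
  convert this using 1
  ext q
  exact (Module.rankAtStalk_eq q).symm

/-- S8375: if the nilpotent rank is locally constant, the regular locus of `a` is open. -/
theorem isOpen_regular
    (hC0 : ∀ p : PrimeSpectrum A, ∃ f : A, f ∉ p.asIdeal ∧ ∀ q : PrimeSpectrum A, f ∉ q.asIdeal →
        LieAlgebra.rank q.asIdeal.ResidueField (q.asIdeal.ResidueField ⊗[A] L) =
          LieAlgebra.rank p.asIdeal.ResidueField (p.asIdeal.ResidueField ⊗[A] L)) (a : L) :
    IsOpen {p : PrimeSpectrum A |
      LieAlgebra.IsRegular p.asIdeal.ResidueField ((1 : p.asIdeal.ResidueField) ⊗ₜ[A] a)} := by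
  obtain ⟨n, s, i, -, -, hsi⟩ := Module.Finite.exists_comp_eq_id_of_projective A L
  rw [isOpen_iff_forall_mem_open]
  intro p hp
  obtain ⟨f, hfp, hf⟩ := hC0 p
  have hd := isLocallyConstant_finrank_fibre (A := A) (L := L)
  have hdo := hd.isOpen_fiber (finrank p.asIdeal.ResidueField (p.asIdeal.ResidueField ⊗[A] L))
  set c := (conjEnd i s (ad A L a)).charpoly.coeff
        (LieAlgebra.rank p.asIdeal.ResidueField (p.asIdeal.ResidueField ⊗[A] L) + n -
          finrank p.asIdeal.ResidueField (p.asIdeal.ResidueField ⊗[A] L)) with hc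
  refine ⟨((PrimeSpectrum.basicOpen f : Set (PrimeSpectrum A)) ∩
    {q | finrank q.asIdeal.ResidueField (q.asIdeal.ResidueField ⊗[A] L) =
      finrank p.asIdeal.ResidueField (p.asIdeal.ResidueField ⊗[A] L)}) ∩
    (PrimeSpectrum.basicOpen c : Set (PrimeSpectrum A)), ?_, ?_, ?_⟩
  · rintro q ⟨⟨hq1, hq2⟩, hq3⟩
    rw [Set.mem_ofPred_eq, isRegular_iff_coeff_notMem hsi]
    have hr := hf q hq1
    rw [hr, (hq2 : _ = _)]
    exact hq3
  · exact ((PrimeSpectrum.basicOpen f).isOpen.inter hdo).inter (PrimeSpectrum.basicOpen c).isOpen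
  · refine ⟨⟨hfp, rfl⟩, ?_⟩
    exact (isRegular_iff_coeff_notMem hsi a p).mp hp

end Lie

end Groth.Agent.Lib.R2H4.CartanCharpoly
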