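import Mathlib

namespace Groth.Agent.Lib.R2H4.CartanFitting

open scoped TensorProduct
open Module Polynomial

universe u

section FD1

variable {B : Type*} [CommRing B] {M : Type*} [AddCommGroup M] [Module B M]

lemma isCoprime_X_of_isUnit_coeff_zero {Q : B[X]} (hQ : IsUnit (Q.coeff 0)) : IsCoprime X Q := by
  obtain ⟨u, hu⟩ := hQ
  refine ⟨- C (↑u⁻¹ : B) * divX Q, C (↑u⁻¹ : B), ?_⟩
  have h := X_mul_divX_add Q
  have h2 : C (↑u⁻¹ : B) * C (Q.coeff 0) = 1 := by
    rw [← C_mul, ← hu, Units.inv_mul, C_1]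
  calc - C (↑u⁻¹ : B) * divX Q * X + C (↑u⁻¹ : B) * Q
      = - C (↑u⁻¹ : B) * divX Q * X + C (↑u⁻¹ : B) * (X * divX Q + C (Q.coeff 0)) := by rw [h]
    _ = C (↑u⁻¹ : B) * C (Q.coeff 0) := by ring
    _ = 1 := h2

/-- Fitting decomposition from a factorisation. -/
theorem fitting_of_factor (ψ : Module.End B M) (T Q : B[X]) (m : ℕ) (hT : T ∣ X ^ m)
    (hQ : IsUnit (Q.coeff 0)) (hnil : IsNilpotent (aeval ψ (T * Q))) :
    ∃ F : Submodule B M, IsCompl (ψ.maxGenEigenspace 0) F ∧
      ∀ y : M, ∃ z : M, ψ z - y ∈ ψ.maxGenEigenspace 0 := by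
  obtain ⟨k, hk⟩ := hnil
  rw [← map_pow, mul_pow] at hk
  -- the new factors
  have hT' : T ^ k ∣ X ^ (m * k) := by
    rw [pow_mul]; exact pow_dvd_pow_of_dvd hT k
  have hQ' : IsUnit ((Q ^ k).coeff 0) := by
    rw [coeff_zero_eq_eval_zero, eval_pow, ← coeff_zero_eq_eval_zero]
    exact hQ.pow k
  have hcop : IsCoprime (T ^ k) (Q ^ k) :=
    IsCoprime.of_isCoprime_of_dvd_left ((isCoprime_X_of_isUnit_coeff_zero hQ').pow_left) hT'
  set T' := T ^ k with hTdef
  set Q' := Q ^ k with hQdef
  set E₁ := LinearMap.ker (aeval ψ T') with hE₁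
  set F := LinearMap.ker (aeval ψ Q') with hF
  have hsup : E₁ ⊔ F = ⊤ := by
    rw [hE₁, hF, sup_ker_aeval_eq_ker_aeval_mul_of_coprime ψ hcop, hk, LinearMap.ker_zero]
  have hdisj : Disjoint E₁ F := disjoint_ker_aeval_of_isCoprime ψ hcop
  -- `E₁ ≤ E`
  have hE₁le : E₁ ≤ ψ.maxGenEigenspace 0 := by
    intro y hy
    obtain ⟨W, hW⟩ := hT'
    rw [Module.End.mem_maxGenEigenspace]
    refine ⟨m * k, ?_⟩
    have : (ψ ^ (m * k)) y = aeval ψ (W * T') y := by
      rw [mul_comm W T', ← hW, map_pow, aeval_X]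
    simp only [zero_smul, sub_zero]
    rw [this, map_mul, Module.End.mul_apply, LinearMap.mem_ker.mp hy, map_zero]
  -- the partial inverse of `ψ` on `F`
  obtain ⟨u, hu⟩ := hQ'
  set θ : Module.End B M := - ((↑u⁻¹ : B) • aeval ψ (divX Q')) with hθ
  have hFfix : ∀ y ∈ F, (ψ * θ) y = y := by
    intro y hy
    have h0 : aeval ψ Q' y = 0 := LinearMap.mem_ker.mp hy
    rw [← X_mul_divX_add Q', map_add, map_mul, aeval_X, aeval_C, LinearMap.add_apply,
      Module.End.mul_apply, ← hu] at h0
    have h1 : ψ (aeval ψ (divX Q') y) = - ((u : B) • y) := by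
      rw [eq_neg_iff_add_eq_zero]
      convert h0 using 2
      rw [Module.algebraMap_end_apply]
    simp only [hθ, Module.End.mul_apply, LinearMap.neg_apply, LinearMap.smul_apply, map_neg,
      map_smul, h1, smul_neg, neg_neg]
    rw [smul_smul, Units.inv_mul, one_smul]
  have hcomm : Commute ψ θ := by
    have h1 : Commute ψ (aeval ψ (divX Q')) := by
      have : ψ = aeval ψ (X : B[X]) := (aeval_X ψ).symm
      conv_lhs => rw [this]
      exact (Commute.all X (divX Q')).map (aeval ψ)
    exact (h1.smul_right _).neg_right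
  have hEF : ψ.maxGenEigenspace 0 ⊓ F = ⊥ := by
    rw [eq_bot_iff]
    rintro y ⟨hy1, hy2⟩
    rw [SetLike.mem_coe, Module.End.mem_maxGenEigenspace] at hy1
    obtain ⟨n, hn⟩ := hy1
    simp only [zero_smul, sub_zero] at hn
    have hpow : ∀ j : ℕ, ((ψ * θ) ^ j) y = y := by
      intro j
      induction j with
      | zero => simp
      | succ j ih => rw [pow_succ, Module.End.mul_apply, hFfix y hy2, ih]
    have := hpow n
    rw [hcomm.mul_pow, (hcomm.pow_pow n n).eq, Module.End.mul_apply, hn, map_zero] at this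
    rw [Submodule.mem_bot]
    exact this.symm
  have hEeq : ψ.maxGenEigenspace 0 = E₁ := by
    apply le_antisymm _ hE₁le
    intro y hy
    have hy' : y ∈ E₁ ⊔ F := by rw [hsup]; trivial
    obtain ⟨y₁, hy₁, y₂, hy₂, rfl⟩ := Submodule.mem_sup.mp hy'
    have h2 : y₂ ∈ ψ.maxGenEigenspace 0 ⊓ F := by
      refine ⟨?_, hy₂⟩
      have : y₂ = (y₁ + y₂) - y₁ := by abel
      rw [this]
      exact Submodule.sub_mem _ hy (hE₁le hy₁)
    rw [hEF] at h2
    rw [(Submodule.mem_bot B).mp h2, add_zero]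
    exact hy₁
  refine ⟨F, ?_, ?_⟩
  · rw [hEeq]
    exact ⟨hdisj, codisjoint_iff.mpr hsup⟩
  · intro y
    have hy' : y ∈ E₁ ⊔ F := by rw [hsup]; trivial
    obtain ⟨y₁, hy₁, y₂, hy₂, rfl⟩ := Submodule.mem_sup.mp hy'
    refine ⟨θ y₂, ?_⟩
    have := hFfix y₂ hy₂
    rw [Module.End.mul_apply] at this
    rw [this, hEeq]
    have : y₂ - (y₁ + y₂) = - y₁ := by abel
    rw [this]
    exact Submodule.neg_mem _ hy₁

end FD1

section FD2

variable {B : Type*} [CommRing B]

lemma isNilpotent_of_forall_mem (x : B) (h : ∀ q : PrimeSpectrum B, x ∈ q.asIdeal) :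
    IsNilpotent x := by
  rw [← mem_nilradical, nilradical_eq_sInf, Ideal.mem_sInf]
  intro p hp
  exact h ⟨p, hp⟩

lemma eq_zero_of_idem_of_nilp {x : B} (h1 : IsIdempotentElem x) (h2 : IsNilpotent x) : x = 0 := by
  obtain ⟨n, hn⟩ := h2
  cases n with
  | zero =>
    rw [pow_zero] at hn
    rw [← mul_one x, hn, mul_zero]
  | succ n => rwa [h1.pow_succ_eq] at hn

lemma coeff_iterate_divX (P : B[X]) (j n : ℕ) : (divX^[j] P).coeff n = P.coeff (n + j) := by
  induction j generalizing n with
  | zero => simp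
  | succ j ih =>
    rw [Function.iterate_succ_apply', coeff_divX, ih]
    congr 1
    omega

lemma X_pow_mul_iterate_divX (P : B[X]) (j : ℕ) :
    X ^ j * divX^[j] P = P - ∑ i ∈ Finset.range j, C (P.coeff i) * X ^ i := by
  induction j with
  | zero => simp
  | succ j ih =>
    rw [Function.iterate_succ_apply', Finset.sum_range_succ, pow_succ, mul_assoc]
    have h := X_mul_divX_add (divX^[j] P)
    have h2 : X * divX (divX^[j] P) = divX^[j] P - C ((divX^[j] P).coeff 0) :=
      eq_sub_of_add_eq h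
    rw [h2, mul_sub, ih, coeff_iterate_divX, zero_add]
    ring

variable {M : Type*} [AddCommGroup M] [Module B M]

/-- Construct the factorisation from a locally constant trailing degree. -/
theorem exists_factor (ψ : Module.End B M) (P : B[X]) (hP : aeval ψ P = 0)
    (t : PrimeSpectrum B → ℕ) (ht : IsLocallyConstant t)
    (h : ∀ q : PrimeSpectrum B, (∀ j < t q, P.coeff j ∈ q.asIdeal) ∧
      P.coeff (t q) ∉ q.asIdeal) :
    ∃ (T Q : B[X]) (m : ℕ), T ∣ X ^ m ∧ IsUnit (Q.coeff 0) ∧ IsNilpotent (aeval ψ (T * Q)) := by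
  classical
  set D := P.natDegree with hD
  have htD : ∀ q, t q ≤ D := fun q =>
    le_natDegree_of_ne_zero (fun h0 => (h q).2 (h0 ▸ Ideal.zero_mem _))
  -- idempotents of the level sets
  have hex : ∀ j : ℕ, ∃ e : B, IsIdempotentElem e ∧
      ∀ q : PrimeSpectrum B, e ∉ q.asIdeal ↔ t q = j := by
    intro j
    obtain ⟨e, he, hs⟩ := PrimeSpectrum.isClopen_iff.mp (ht.isClopen_fiber j)
    refine ⟨e, he, fun q => ?_⟩
    have : q ∈ {x | t x = j} ↔ q ∈ (PrimeSpectrum.basicOpen e : Set (PrimeSpectrum B)) := by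
      rw [hs]
    exact this.symm
  choose e he_idem he_mem using hex
  have he_mem' : ∀ j q, t q ≠ j → e j ∈ q.asIdeal := fun j q hne => by
    by_contra hc
    exact hne ((he_mem j q).mp hc)
  have horth : ∀ j k, j ≠ k → e j * e k = 0 := by
    intro j k hjk
    apply eq_zero_of_idem_of_nilp ((he_idem j).mul (he_idem k))
    apply isNilpotent_of_forall_mem
    intro q
    by_cases hq : t q = j
    · exact Ideal.mul_mem_left _ _ (he_mem' k q (by rw [hq]; exact hjk))
    · exact Ideal.mul_mem_right _ _ (he_mem' j q hq)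
  set S := Finset.range (D + 1) with hS
  set σ := ∑ j ∈ S, e j with hσ
  have hσe : ∀ k ∈ S, σ * e k = e k := by
    intro k hk
    rw [hσ, Finset.sum_mul, Finset.sum_eq_single k]
    · exact he_idem k
    · intro j _ hjk
      exact horth j k hjk
    · intro hk'
      exact absurd hk hk'
  have hσ1 : σ = 1 := by
    have hidem : σ * σ = σ := by
      conv_lhs => rw [hσ, Finset.mul_sum]
      rw [hσ]
      exact Finset.sum_congr rfl (fun k hk => hσe k hk)
    have hnil : IsNilpotent (1 - σ) := by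
      apply isNilpotent_of_forall_mem
      intro q
      have hk : t q ∈ S := Finset.mem_range.mpr (Nat.lt_succ_of_le (htD q))
      have h0 : (1 - σ) * e (t q) = 0 := by rw [sub_mul, one_mul, hσe _ hk, sub_self]
      have h1 : (1 - σ) * e (t q) ∈ q.asIdeal := by rw [h0]; exact Ideal.zero_mem _
      exact (q.isPrime.mem_or_mem h1).resolve_right ((he_mem (t q) q).mpr rfl)
    have hunit : IsUnit σ := by
      have := hnil.isUnit_one_sub
      rwa [sub_sub_cancel] at this
    exact hunit.mul_left_cancel (hidem.trans (mul_one σ).symm)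
  -- the polynomials
  set T : B[X] := ∑ j ∈ S, C (e j) * X ^ j with hTdef
  set T₂ : B[X] := ∑ j ∈ S, C (e j) * X ^ (D - j) with hT₂def
  set Q : B[X] := ∑ j ∈ S, C (e j) * divX^[j] P with hQdef
  have hCorth : ∀ j k, j ≠ k → (C (e j) : B[X]) * C (e k) = 0 := fun j k hjk => by
    rw [← C_mul, horth j k hjk, C_0]
  have hCidem : ∀ j, (C (e j) : B[X]) * C (e j) = C (e j) := fun j => by
    rw [← C_mul, (he_idem j).eq]
  have hCsum : ∑ j ∈ S, (C (e j) : B[X]) = 1 := by
    rw [← map_sum, ← hσ, hσ1, C_1]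
  refine ⟨T, Q, D, ⟨T₂, ?_⟩, ?_, ?_⟩
  · -- `X ^ D = T * T₂`
    rw [hTdef, hT₂def, Finset.sum_mul_sum]
    have : ∀ j ∈ S, ∑ k ∈ S, C (e j) * X ^ j * (C (e k) * X ^ (D - k)) = C (e j) * X ^ D := by
      intro j hj
      rw [Finset.sum_eq_single j]
      · have hjD : j ≤ D := Nat.lt_succ_iff.mp (Finset.mem_range.mp hj)
        calc C (e j) * X ^ j * (C (e j) * X ^ (D - j))
            = (C (e j) * C (e j)) * (X ^ j * X ^ (D - j)) := by ring
          _ = C (e j) * X ^ D := by rw [hCidem, ← pow_add, Nat.add_sub_cancel' hjD]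
      · intro k _ hkj
        calc C (e j) * X ^ j * (C (e k) * X ^ (D - k))
            = (C (e j) * C (e k)) * (X ^ j * X ^ (D - k)) := by ring
          _ = 0 := by rw [hCorth j k (Ne.symm hkj), zero_mul]
      · intro hj'
        exact absurd hj hj'
    rw [Finset.sum_congr rfl this, ← Finset.sum_mul, hCsum, one_mul]
  · -- unit constant coefficient
    have hcoeff : Q.coeff 0 = ∑ j ∈ S, e j * P.coeff j := by
      rw [hQdef, finsetSum_coeff]
      refine Finset.sum_congr rfl (fun j _ => ?_)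
      rw [coeff_C_mul, coeff_iterate_divX, zero_add]
    rw [hcoeff]
    by_contra hnu
    obtain ⟨I, hI, hmem⟩ := exists_max_ideal_of_mem_nonunits hnu
    let q : PrimeSpectrum B := ⟨I, hI.isPrime⟩
    have hk : t q ∈ S := Finset.mem_range.mpr (Nat.lt_succ_of_le (htD q))
    rw [← Finset.add_sum_erase S _ hk] at hmem
    have hrest : ∑ j ∈ S.erase (t q), e j * P.coeff j ∈ I := by
      apply Ideal.sum_mem
      intro j hj
      exact Ideal.mul_mem_right _ _ (he_mem' j q (Finset.ne_of_mem_erase hj).symm)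
    have h1 : e (t q) * P.coeff (t q) ∈ I := by
      have := Ideal.sub_mem I hmem hrest
      rwa [add_sub_cancel_right] at this
    rcases hI.isPrime.mem_or_mem h1 with h2 | h2
    · exact ((he_mem (t q) q).mpr rfl) h2
    · exact (h q).2 h2
  · -- nilpotency
    have hTQ : T * Q = P - ∑ j ∈ S, C (e j) * ∑ i ∈ Finset.range j, C (P.coeff i) * X ^ i := by
      rw [hTdef, hQdef, Finset.sum_mul_sum]
      have : ∀ j ∈ S, ∑ k ∈ S, C (e j) * X ^ j * (C (e k) * divX^[k] P) =
          C (e j) * P - C (e j) * ∑ i ∈ Finset.range j, C (P.coeff i) * X ^ i := by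
        intro j hj
        rw [Finset.sum_eq_single j]
        · calc C (e j) * X ^ j * (C (e j) * divX^[j] P)
              = (C (e j) * C (e j)) * (X ^ j * divX^[j] P) := by ring
            _ = C (e j) * P - C (e j) * ∑ i ∈ Finset.range j, C (P.coeff i) * X ^ i := by
              rw [hCidem, X_pow_mul_iterate_divX, mul_sub]
        · intro k _ hkj
          calc C (e j) * X ^ j * (C (e k) * divX^[k] P)
              = (C (e j) * C (e k)) * (X ^ j * divX^[k] P) := by ring
            _ = 0 := by rw [hCorth j k (Ne.symm hkj), zero_mul]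
        · intro hj'
          exact absurd hj hj'
      rw [Finset.sum_congr rfl this, Finset.sum_sub_distrib, ← Finset.sum_mul, hCsum, one_mul]
    have hnilp : IsNilpotent (T * Q - P) := by
      rw [hTQ, sub_sub_cancel_left]
      apply IsNilpotent.neg
      apply isNilpotent_sum
      intro j _
      rw [Finset.mul_sum]
      apply isNilpotent_sum
      intro i hi
      have hi' : i < j := Finset.mem_range.mp hi
      have hn : IsNilpotent (e j * P.coeff i) := by
        apply isNilpotent_of_forall_mem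
        intro q
        by_cases hq : t q = j
        · exact Ideal.mul_mem_left _ _ ((h q).1 i (by rw [hq]; exact hi'))
        · exact Ideal.mul_mem_right _ _ (he_mem' j q hq)
      have : C (e j) * (C (P.coeff i) * X ^ i) = C (e j * P.coeff i) * X ^ i := by
        rw [C_mul]; ring
      rw [this]
      exact Commute.isNilpotent_mul_right (Commute.all _ _) (hn.map C)
    have := hnilp.map (aeval ψ)
    rwa [map_sub, hP, sub_zero] at this

end FD2

end Groth.Agent.Lib.R2H4.CartanFitting
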