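import Mathlib
import Groth.Prelude.Def_W4sga3xiixivxvCartan
import Groth.Agent.Lib.R2H4CartanRel
import Groth.Agent.Lib.R2H4CartanCharpoly
import Groth.Agent.Lib.R2H4CartanBC
import Groth.Agent.Lib.R2H4CartanFitting

namespace Groth.Agent.Lib.R2H4.CartanC0

open scoped TensorProduct
open Module LieAlgebra LieSubalgebra Polynomial
open Groth.Agent.Lib.R2H4 CartanLin

attribute [local instance 100] LieRing.ofAssociativeRing

universe u

section Aeval

variable {A M N : Type*} [CommRing A] [AddCommGroup M] [Module A M] [AddCommGroup N] [Module A N]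
  {i : M →ₗ[A] N} {s : N →ₗ[A] M}

lemma aeval_eq_comp_conjEnd (hsi : s ∘ₗ i = LinearMap.id) (φ : Module.End A M) (R : A[X]) :
    aeval φ R = s ∘ₗ (aeval (conjEnd i s φ) R) ∘ₗ i := by
  induction R using Polynomial.induction_on' with
  | add p q hp hq =>
    rw [map_add, map_add, hp, hq, LinearMap.add_comp, LinearMap.comp_add]
  | monomial k c =>
    rw [aeval_monomial, aeval_monomial, pow_eq_comp_conjEnd_pow hsi φ k]
    ext x
    simp [Module.algebraMap_end_apply]

end Aeval

section Coeff

variable {A : Type*} [CommRing A] {M : Type*} [AddCommGroup M] [Module A M] [Module.Finite A M]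
  {n : ℕ} {s : (Fin n → A) →ₗ[A] M} {i : M →ₗ[A] (Fin n → A)}

lemma algebraMap_coeff_conjEnd (hsi : s ∘ₗ i = LinearMap.id) (φ : Module.End A M)
    (K : Type*) [Field K] [Algebra A K] (k : ℕ) :
    algebraMap A K ((conjEnd i s φ).charpoly.coeff k) =
      if n ≤ k + finrank K (K ⊗[A] M) then
        (φ.baseChange K).charpoly.coeff (k + finrank K (K ⊗[A] M) - n) else 0 := by
  have h := CartanCharpoly.map_charpoly_conjEnd hsi φ K
  have h2 := congrArg (fun q => q.coeff (k + finrank K (K ⊗[A] M))) h
  beta_reduce at h2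
  rw [coeff_X_pow_mul, coeff_X_pow_mul', Polynomial.coeff_map] at h2
  exact h2

end Coeff

section Main

variable {A : Type u} [CommRing A] {L : Type u} [LieRing L] [LieAlgebra A L]
  [Module.Finite A L] [Module.Projective A L]

open SGA3t2b

/-- If the nilpotent rank is a locally constant function on `Spec A`, every quasi-regular element is
regular (lies in a relative Cartan subalgebra). -/
theorem isRegularRel_of_isLocallyConstant_rank (a : L) (ha : IsQuasiRegular A L a)
    (hr : IsLocallyConstant (fun q : PrimeSpectrum A =>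
      LieAlgebra.rank q.asIdeal.ResidueField (q.asIdeal.ResidueField ⊗[A] L))) :
    IsRegularRel A L a := by
  obtain ⟨n, s, i, -, -, hsi⟩ := Module.Finite.exists_comp_eq_id_of_projective A L
  set ψ : Module.End A L := ad A L a with hψ
  set P := (conjEnd i s ψ).charpoly with hPdef
  have hP : aeval ψ P = 0 := by
    rw [aeval_eq_comp_conjEnd hsi, hPdef, LinearMap.aeval_self_charpoly]
    simp
  have hd := CartanCharpoly.isLocallyConstant_finrank_fibre (A := A) (L := L)
  set t : PrimeSpectrum A → ℕ := fun q =>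
    LieAlgebra.rank q.asIdeal.ResidueField (q.asIdeal.ResidueField ⊗[A] L) + n -
      finrank q.asIdeal.ResidueField (q.asIdeal.ResidueField ⊗[A] L) with htdef
  have ht : IsLocallyConstant t := hr.comp₂ hd (fun x y => x + n - y)
  have h : ∀ q : PrimeSpectrum A, (∀ j < t q, P.coeff j ∈ q.asIdeal) ∧
      P.coeff (t q) ∉ q.asIdeal := by
    intro q
    have hreg := ha q
    have hdle := CartanCharpoly.finrank_fibre_le (M := L) hsi q.asIdeal.ResidueField
    have h1 : (ad q.asIdeal.ResidueField (q.asIdeal.ResidueField ⊗[A] L)) (1 ⊗ₜ[A] a) =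
        ψ.baseChange q.asIdeal.ResidueField :=
      LieModule.toEnd_baseChange A q.asIdeal.ResidueField L L a
    have htr := (LieAlgebra.isRegular_iff_natTrailingDegree_charpoly_eq_rank
      q.asIdeal.ResidueField _).mp hreg
    rw [h1] at htr
    rw [LieAlgebra.isRegular_def, h1] at hreg
    constructor
    · intro j hj
      rw [← Ideal.algebraMap_residueField_eq_zero, algebraMap_coeff_conjEnd hsi]
      split_ifs with hle
      · apply coeff_eq_zero_of_lt_natTrailingDegree
        rw [htr]
        simp only [htdef] at hj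
        omega
      · rfl
    · rw [← Ideal.algebraMap_residueField_eq_zero, algebraMap_coeff_conjEnd hsi]
      have hle : n ≤ t q + finrank q.asIdeal.ResidueField (q.asIdeal.ResidueField ⊗[A] L) := by
        simp only [htdef]; omega
      rw [if_pos hle]
      have : t q + finrank q.asIdeal.ResidueField (q.asIdeal.ResidueField ⊗[A] L) - n =
          LieAlgebra.rank q.asIdeal.ResidueField (q.asIdeal.ResidueField ⊗[A] L) := by
        simp only [htdef]; omega
      rw [this]
      exact hreg
  obtain ⟨T, Q, m, hT, hQ, hnil⟩ := CartanFitting.exists_factor ψ P hP t ht h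
  obtain ⟨F, hc, hsurj⟩ := CartanFitting.fitting_of_factor ψ T Q m hT hQ hnil
  have hE : (engel A a).toSubmodule = ψ.maxGenEigenspace 0 := rfl
  rw [← hE] at hc hsurj
  refine ⟨ha, engel A a, CartanRel.isCartanRel_engel a ha ?_ ?_ ?_, self_mem_engel A a⟩
  · have hF : Module.Projective A F :=
      Module.Projective.of_split F.subtype (Submodule.projectionOnto F _ hc.symm)
        (Submodule.projectionOnto_comp_subtype hc.symm)
    exact Module.Projective.of_equiv (Submodule.quotientEquivOfIsCompl _ F hc).symm
  · exact fun z hz => CartanField.mem_engel_of_lie_mem_engel hz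
  · exact fun y => hsurj y

/-- The hypothesis (C0) makes the rank locally constant. -/
lemma isLocallyConstant_rank_of_C0
    (hC0 : ∀ p : PrimeSpectrum A, ∃ f : A, f ∉ p.asIdeal ∧ ∀ q : PrimeSpectrum A, f ∉ q.asIdeal →
        LieAlgebra.rank q.asIdeal.ResidueField (q.asIdeal.ResidueField ⊗[A] L) =
          LieAlgebra.rank p.asIdeal.ResidueField (p.asIdeal.ResidueField ⊗[A] L)) :
    IsLocallyConstant (fun q : PrimeSpectrum A =>
      LieAlgebra.rank q.asIdeal.ResidueField (q.asIdeal.ResidueField ⊗[A] L)) := by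
  rw [IsLocallyConstant.iff_exists_open]
  intro p
  obtain ⟨f, hf, h⟩ := hC0 p
  exact ⟨PrimeSpectrum.basicOpen f, (PrimeSpectrum.basicOpen f).isOpen, hf, fun q hq => h q hq⟩

/-- S8379. -/
theorem isRegularRel_of_C0
    (hC0 : ∀ p : PrimeSpectrum A, ∃ f : A, f ∉ p.asIdeal ∧ ∀ q : PrimeSpectrum A, f ∉ q.asIdeal →
        LieAlgebra.rank q.asIdeal.ResidueField (q.asIdeal.ResidueField ⊗[A] L) =
          LieAlgebra.rank p.asIdeal.ResidueField (p.asIdeal.ResidueField ⊗[A] L))
    (A' : Type u) [CommRing A'] [Algebra A A'] (a' : A' ⊗[A] L)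
    (ha' : SGA3t2b.IsQuasiRegular A' (A' ⊗[A] L) a') :
    SGA3t2b.IsRegularRel A' (A' ⊗[A] L) a' := by
  apply isRegularRel_of_isLocallyConstant_rank a' ha'
  have h1 := (isLocallyConstant_rank_of_C0 hC0).comp_continuous
    (PrimeSpectrum.continuous_comap (algebraMap A A'))
  convert h1 using 1
  ext q'
  exact CartanBC.rank_fibre_baseChange A' q'

end Main

end Groth.Agent.Lib.R2H4.CartanC0
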