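import Mathlib
import Groth.Prelude.Def_W4sga3xiixivxvCartan
import Groth.Agent.Lib.R2H4CartanBC
import Groth.Agent.Lib.R2H4CartanLin

namespace Groth.Agent.Lib.R2H4.CartanDescent

open scoped TensorProduct
open Module LieAlgebra LieSubalgebra Polynomial
open Groth.Agent.Lib.R2H4

attribute [local instance 100] LieRing.ofAssociativeRing

universe u

section Main

variable {A : Type u} [CommRing A] {L : Type u} [LieRing L] [LieAlgebra A L]
  [Module.Finite A L] [Module.Projective A L]

open SGA3t2b

/-- If a relative Cartan subalgebra exists, the rank is locally constant. -/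
lemma isLocallyConstant_rank_of_isCartanRel (H : LieSubalgebra A L) (hH : IsCartanRel H) :
    IsLocallyConstant (fun q : PrimeSpectrum A =>
      LieAlgebra.rank q.asIdeal.ResidueField (q.asIdeal.ResidueField ⊗[A] L)) := by
  have hproj : Module.Projective A (L ⧸ H.toSubmodule) := hH.1
  have hfin : Module.Finite A H.toSubmodule := CartanLin.finite_of_projective_quotient H.toSubmodule
  have hpr : Module.Projective A H.toSubmodule :=
    CartanLin.projective_of_projective_quotient H.toSubmodule
  have : Module.FinitePresentation A H.toSubmodule := Module.finitePresentation_of_projective A _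
  have h1 := Module.isLocallyConstant_rankAtStalk (R := A) (M := H.toSubmodule)
  convert h1 using 1
  ext q
  rw [← (hH.2 q).2.2, Module.rankAtStalk_eq]
  unfold fibreSubmodule Submodule.baseChange
  exact LinearMap.finrank_range_of_inj
    (CartanLin.baseChange_subtype_injective q.asIdeal.ResidueField H.toSubmodule)

/-- S8378. -/
theorem C0_of_faithfullyFlat
    (hC1 : ∃ (A' : Type u) (_ : CommRing A') (_ : Algebra A A'), Module.FaithfullyFlat A A' ∧
        ∃ H : LieSubalgebra A' (A' ⊗[A] L), SGA3t2b.IsCartanRel H) :
    ∀ p : PrimeSpectrum A, ∃ f : A, f ∉ p.asIdeal ∧ ∀ q : PrimeSpectrum A, f ∉ q.asIdeal →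
        LieAlgebra.rank q.asIdeal.ResidueField (q.asIdeal.ResidueField ⊗[A] L) =
          LieAlgebra.rank p.asIdeal.ResidueField (p.asIdeal.ResidueField ⊗[A] L) := by
  obtain ⟨A', _, _, hff, H', hH'⟩ := hC1
  have hρ := isLocallyConstant_rank_of_isCartanRel H' hH'
  have hsurj : Function.Surjective (PrimeSpectrum.comap (algebraMap A A')) :=
    PrimeSpectrum.comap_surjective_of_faithfullyFlat
  have hflat : (algebraMap A A').Flat := by
    rw [RingHom.flat_algebraMap_iff]
    infer_instance
  have hq := PrimeSpectrum.isQuotientMap_of_generalizingMap hsurj hflat.generalizingMap_comap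
  set r : PrimeSpectrum A → ℕ := fun q =>
    LieAlgebra.rank q.asIdeal.ResidueField (q.asIdeal.ResidueField ⊗[A] L) with hr
  have hrl : IsLocallyConstant r := by
    intro s
    rw [← hq.isOpen_preimage, ← Set.preimage_comp]
    have : r ∘ (PrimeSpectrum.comap (algebraMap A A')) = fun q' : PrimeSpectrum A' =>
        LieAlgebra.rank q'.asIdeal.ResidueField
          (q'.asIdeal.ResidueField ⊗[A'] (A' ⊗[A] L)) := by
      ext q'
      exact (CartanBC.rank_fibre_baseChange A' q').symm
    rw [this]
    exact hρ s
  intro p
  have hopen := hrl.isOpen_fiber (r p)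
  obtain ⟨_, ⟨f, rfl⟩, hpf, hsub⟩ :=
    PrimeSpectrum.isTopologicalBasis_basic_opens.exists_subset_of_mem_open
      (show p ∈ {q | r q = r p} from rfl) hopen
  exact ⟨f, hpf, fun q hq => hsub hq⟩

end Main

end Groth.Agent.Lib.R2H4.CartanDescent
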