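import Mathlib
import Groth.Prelude.Def_W4sga3xiixivxvCartan
import Groth.Agent.Lib.R2H4CartanBC
import Groth.Agent.Lib.R2H4CartanCharpoly

namespace Groth.Agent.Lib.R2H4.CartanLoc

open scoped TensorProduct
open Module LieAlgebra LieSubalgebra Polynomial
open Groth.Agent.Lib.R2H4

attribute [local instance 100] LieRing.ofAssociativeRing

universe u

section Lift

variable {A : Type*} [CommRing A] (p : PrimeSpectrum A)

lemma exists_mul_algebraMap_eq (c : p.asIdeal.ResidueField) :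
    ∃ s : A, s ∉ p.asIdeal ∧ ∃ y : A,
      c * algebraMap A p.asIdeal.ResidueField s = algebraMap A p.asIdeal.ResidueField y := by
  obtain ⟨t, rfl⟩ := IsLocalRing.residue_surjective c
  obtain ⟨⟨y, s⟩, rfl⟩ := IsLocalization.mk'_surjective p.asIdeal.primeCompl t
  refine ⟨s, s.2, y, ?_⟩
  rw [IsScalarTower.algebraMap_apply A (Localization.AtPrime p.asIdeal) p.asIdeal.ResidueField,
    IsScalarTower.algebraMap_apply A (Localization.AtPrime p.asIdeal) p.asIdeal.ResidueField,
    IsLocalRing.ResidueField.algebraMap_eq, ← map_mul, IsLocalization.mk'_spec]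

variable {M : Type*} [AddCommGroup M] [Module A M]

lemma algebraMap_smul_one_tmul (s : A) (a : M) :
    (algebraMap A p.asIdeal.ResidueField s) • ((1 : p.asIdeal.ResidueField) ⊗ₜ[A] a) =
      (1 : p.asIdeal.ResidueField) ⊗ₜ[A] (s • a) := by
  rw [algebraMap_smul, TensorProduct.tmul_smul]

lemma exists_smul_eq_one_tmul (x : p.asIdeal.ResidueField ⊗[A] M) :
    ∃ s : A, s ∉ p.asIdeal ∧ ∃ a : M,
      (algebraMap A p.asIdeal.ResidueField s) • x = (1 : p.asIdeal.ResidueField) ⊗ₜ[A] a := by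
  induction x using TensorProduct.induction_on with
  | zero => exact ⟨1, p.asIdeal.primeCompl.one_mem, 0, by simp⟩
  | tmul c m =>
    obtain ⟨s, hs, y, hy⟩ := exists_mul_algebraMap_eq p c
    refine ⟨s, hs, y • m, ?_⟩
    rw [TensorProduct.smul_tmul', smul_eq_mul, mul_comm, hy, Algebra.algebraMap_eq_smul_one,
      ← TensorProduct.smul_tmul', TensorProduct.tmul_smul]
  | add x₁ x₂ h₁ h₂ =>
    obtain ⟨s₁, hs₁, a₁, e₁⟩ := h₁
    obtain ⟨s₂, hs₂, a₂, e₂⟩ := h₂
    refine ⟨s₁ * s₂, p.asIdeal.primeCompl.mul_mem hs₁ hs₂, s₂ • a₁ + s₁ • a₂, ?_⟩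
    have h1 : (algebraMap A p.asIdeal.ResidueField (s₁ * s₂)) • x₁ =
        (1 : p.asIdeal.ResidueField) ⊗ₜ[A] (s₂ • a₁) := by
      rw [mul_comm, map_mul, mul_smul, e₁, algebraMap_smul_one_tmul]
    have h2 : (algebraMap A p.asIdeal.ResidueField (s₁ * s₂)) • x₂ =
        (1 : p.asIdeal.ResidueField) ⊗ₜ[A] (s₁ • a₂) := by
      rw [map_mul, mul_smul, e₂, algebraMap_smul_one_tmul]
    rw [smul_add, h1, h2, TensorProduct.tmul_add]

end Lift

section Smul

variable {K : Type*} [Field K] {L : Type*} [LieRing L] [LieAlgebra K L]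

lemma engel_smul {u : K} (hu : u ≠ 0) (x : L) : engel K (u • x) = engel K x := by
  ext y
  rw [mem_engel_iff, mem_engel_iff]
  have h : ∀ n : ℕ, ((ad K L) (u • x) ^ n) y = u ^ n • ((ad K L) x ^ n) y := by
    intro n
    rw [map_smul, _root_.smul_pow, LinearMap.smul_apply]
  constructor
  · rintro ⟨n, hn⟩
    rw [h] at hn
    exact ⟨n, (smul_eq_zero.mp hn).resolve_left (pow_ne_zero n hu)⟩
  · rintro ⟨n, hn⟩
    exact ⟨n, by rw [h, hn, smul_zero]⟩

lemma isRegular_smul [Module.Finite K L] {u : K} (hu : u ≠ 0) {x : L}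
    (hx : LieAlgebra.IsRegular K x) : LieAlgebra.IsRegular K (u • x) := by
  rw [LieAlgebra.isRegular_iff_finrank_engel_eq_rank] at hx ⊢
  rw [engel_smul hu]
  exact hx

end Smul

section Main

variable {A : Type u} [CommRing A] {L : Type u} [LieRing L] [LieAlgebra A L]
  [Module.Finite A L] [Module.Projective A L]

/-- A regular element of a fibre lifts, up to a unit, to a global element. -/
lemma exists_lift_regular (p : PrimeSpectrum A)
    (hp : ∃ x : p.asIdeal.ResidueField ⊗[A] L, LieAlgebra.IsRegular p.asIdeal.ResidueField x) :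
    ∃ a : L, LieAlgebra.IsRegular p.asIdeal.ResidueField
      ((1 : p.asIdeal.ResidueField) ⊗ₜ[A] a) := by
  obtain ⟨x, hx⟩ := hp
  obtain ⟨s, hs, a, ha⟩ := exists_smul_eq_one_tmul p x
  refine ⟨a, ?_⟩
  rw [← ha]
  apply isRegular_smul _ hx
  rwa [Ne, Ideal.algebraMap_residueField_eq_zero]

/-- Under local constancy of the rank, a regular element of a fibre spreads out to a
quasi-regular element on a basic open neighbourhood. -/
lemma exists_quasiRegular_localization
    (hC0 : ∀ p : PrimeSpectrum A, ∃ f : A, f ∉ p.asIdeal ∧ ∀ q : PrimeSpectrum A, f ∉ q.asIdeal →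
        LieAlgebra.rank q.asIdeal.ResidueField (q.asIdeal.ResidueField ⊗[A] L) =
          LieAlgebra.rank p.asIdeal.ResidueField (p.asIdeal.ResidueField ⊗[A] L))
    (p : PrimeSpectrum A)
    (hp : ∃ x : p.asIdeal.ResidueField ⊗[A] L, LieAlgebra.IsRegular p.asIdeal.ResidueField x) :
    ∃ f : A, f ∉ p.asIdeal ∧ ∃ a : L, ∀ q : PrimeSpectrum A, f ∉ q.asIdeal →
      LieAlgebra.IsRegular q.asIdeal.ResidueField ((1 : q.asIdeal.ResidueField) ⊗ₜ[A] a) := by
  obtain ⟨a, ha⟩ := exists_lift_regular p hp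
  have hopen := CartanCharpoly.isOpen_regular hC0 a
  obtain ⟨_, ⟨f, rfl⟩, hpf, hsub⟩ := PrimeSpectrum.isTopologicalBasis_basic_opens.exists_subset_of_mem_open
    (show p ∈ {q : PrimeSpectrum A | LieAlgebra.IsRegular q.asIdeal.ResidueField
      ((1 : q.asIdeal.ResidueField) ⊗ₜ[A] a)} from ha) hopen
  exact ⟨f, hpf, a, fun q hq => hsub hq⟩

open SGA3t2b in
/-- S8376. -/
theorem exists_cartan_localization
    (hC2 : ((∀ p : PrimeSpectrum A, ∃ f : A, f ∉ p.asIdeal ∧ ∀ q : PrimeSpectrum A, f ∉ q.asIdeal →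
        LieAlgebra.rank q.asIdeal.ResidueField (q.asIdeal.ResidueField ⊗[A] L) =
          LieAlgebra.rank p.asIdeal.ResidueField (p.asIdeal.ResidueField ⊗[A] L)) ∧
      ∀ (A' : Type u) [CommRing A'] [Algebra A A'] (a' : A' ⊗[A] L),
        SGA3t2b.IsQuasiRegular A' (A' ⊗[A] L) a' → SGA3t2b.IsRegularRel A' (A' ⊗[A] L) a'))
    (p : PrimeSpectrum A)
    (hp : ∃ x : p.asIdeal.ResidueField ⊗[A] L, LieAlgebra.IsRegular p.asIdeal.ResidueField x) :
    ∃ f : A, f ∉ p.asIdeal ∧
      ∃ H : LieSubalgebra (Localization.Away f) (Localization.Away f ⊗[A] L),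
        SGA3t2b.IsCartanRel H := by
  obtain ⟨f, hf, a, ha⟩ := exists_quasiRegular_localization hC2.1 p hp
  refine ⟨f, hf, ?_⟩
  have hq : IsQuasiRegular (Localization.Away f) (Localization.Away f ⊗[A] L)
      ((1 : Localization.Away f) ⊗ₜ[A] a) := by
    intro q'
    rw [CartanBC.isRegular_fibre_one_tmul_iff]
    apply ha
    intro hfq
    have h1 : algebraMap A (Localization.Away f) f ∈ q'.asIdeal := hfq
    exact q'.isPrime.ne_top (Ideal.eq_top_of_isUnit_mem _ h1
      (IsLocalization.Away.algebraMap_isUnit f))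
  obtain ⟨-, H, hH, -⟩ := hC2.2 (Localization.Away f) ((1 : Localization.Away f) ⊗ₜ[A] a) hq
  exact ⟨H, hH⟩

end Main

end Groth.Agent.Lib.R2H4.CartanLoc
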