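import Mathlib
import Groth.Prelude.Def_W4sga3xiixivxvCartan
import Groth.Agent.Lib.R2H4CartanLoc

namespace Groth.Agent.Lib.R2H4.CartanEtale

open scoped TensorProduct
open Module LieAlgebra LieSubalgebra Polynomial
open Groth.Agent.Lib.R2H4

attribute [local instance 100] LieRing.ofAssociativeRing

universe u

section Cover

variable {A : Type u} [CommRing A] (t : Finset A)

/-- The Zariski cover `∏_{g ∈ t} A_g`. -/
abbrev Cover : Type u := Π g : t, Localization.Away (g : A)

variable {t}

lemma faithfullyFlat_cover (ht : Ideal.span (t : Set A) = ⊤) :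
    Module.FaithfullyFlat A (Cover t) := by
  apply Module.FaithfullyFlat.of_comap_surjective
  intro p
  have : ∃ g ∈ t, g ∉ p.asIdeal := by
    by_contra! h
    have : Ideal.span (t : Set A) ≤ p.asIdeal := Ideal.span_le.mpr (fun g hg => h g hg)
    rw [ht] at this
    exact p.isPrime.ne_top (top_le_iff.mp this)
  obtain ⟨g, hg, hgp⟩ := this
  have hr : p ∈ Set.range (PrimeSpectrum.comap (algebraMap A (Localization.Away g))) := by
    rw [PrimeSpectrum.localization_away_comap_range (Localization.Away g) g]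
    exact hgp
  obtain ⟨P, hP⟩ := hr
  refine ⟨PrimeSpectrum.comap (Pi.evalRingHom _ (⟨g, hg⟩ : t)) P, ?_⟩
  rw [← hP]
  rfl

variable [DecidableEq A]

/-- Exactly one of the standard idempotents survives in a prime of a finite product. -/
lemma exists_single_notMem (q' : PrimeSpectrum (Cover t)) :
    ∃ g₀ : t, (Pi.single g₀ 1 : Cover t) ∉ q'.asIdeal ∧
      ∀ g : t, g ≠ g₀ → (Pi.single g 1 : Cover t) ∈ q'.asIdeal := by
  classical
  have h1 : ∃ g₀ : t, (Pi.single g₀ 1 : Cover t) ∉ q'.asIdeal := by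
    by_contra! h
    have : (1 : Cover t) ∈ q'.asIdeal := by
      rw [← Finset.univ_sum_single (1 : Cover t)]
      simp only [Pi.one_apply]
      exact Ideal.sum_mem _ (fun g _ => h g)
    exact q'.isPrime.ne_top ((Ideal.eq_top_iff_one _).mpr this)
  obtain ⟨g₀, hg₀⟩ := h1
  refine ⟨g₀, hg₀, fun g hg => ?_⟩
  have : (Pi.single g 1 : Cover t) * Pi.single g₀ 1 ∈ q'.asIdeal := by
    have : (Pi.single g 1 : Cover t) * Pi.single g₀ 1 = 0 := by
      ext i
      by_cases h : i = g
      · subst h; simp [Pi.single_eq_of_ne hg]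
      · simp [Pi.single_eq_of_ne h]
    rw [this]
    exact Ideal.zero_mem _
  exact (q'.isPrime.mem_or_mem this).resolve_right hg₀

lemma algebraMap_single_eq (q' : PrimeSpectrum (Cover t)) (g₀ : t)
    (h0 : (Pi.single g₀ 1 : Cover t) ∉ q'.asIdeal)
    (h1 : ∀ g : t, g ≠ g₀ → (Pi.single g 1 : Cover t) ∈ q'.asIdeal) (g : t) :
    algebraMap (Cover t) q'.asIdeal.ResidueField (Pi.single g 1) = if g = g₀ then 1 else 0 := by
  classical
  have hz : ∀ g : t, g ≠ g₀ →
      algebraMap (Cover t) q'.asIdeal.ResidueField (Pi.single g 1) = 0 := fun g hg =>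
    Ideal.algebraMap_residueField_eq_zero.mpr (h1 g hg)
  split_ifs with h
  · subst h
    have hsum : algebraMap (Cover t) q'.asIdeal.ResidueField (1 : Cover t) = 1 := map_one _
    rw [← Finset.univ_sum_single (1 : Cover t), map_sum] at hsum
    simp only [Pi.one_apply] at hsum
    rw [Finset.sum_eq_single g (fun b _ hb => hz b hb) (fun h => absurd (Finset.mem_univ _) h)]
      at hsum
    exact hsum
  · exact hz g h

lemma algebraMap_notMem (q' : PrimeSpectrum (Cover t)) (g₀ : t)
    (h0 : (Pi.single g₀ 1 : Cover t) ∉ q'.asIdeal) :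
    (g₀ : A) ∉ (q'.comap (algebraMap A (Cover t))).asIdeal := by
  classical
  intro h
  have h' : algebraMap A (Cover t) (g₀ : A) ∈ q'.asIdeal := h
  apply h0
  have : (Pi.single g₀ 1 : Cover t) = algebraMap A (Cover t) (g₀ : A) *
      Pi.single g₀ (IsLocalization.Away.invSelf (g₀ : A)) := by
    ext i
    by_cases hi : i = g₀
    · subst hi
      simp only [Pi.single_eq_same, Pi.mul_apply, Pi.algebraMap_apply]
      exact (IsLocalization.Away.mul_invSelf _).symm
    · simp [Pi.single_eq_of_ne hi]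
  rw [this]
  exact Ideal.mul_mem_right _ _ h'

end Cover

section Main

variable {A : Type u} [CommRing A] {L : Type u} [LieRing L] [LieAlgebra A L]
  [Module.Finite A L] [Module.Projective A L]

open SGA3t2b in
/-- S8377. -/
theorem exists_etale_cartan
    (hC2 : ((∀ p : PrimeSpectrum A, ∃ f : A, f ∉ p.asIdeal ∧ ∀ q : PrimeSpectrum A, f ∉ q.asIdeal →
        LieAlgebra.rank q.asIdeal.ResidueField (q.asIdeal.ResidueField ⊗[A] L) =
          LieAlgebra.rank p.asIdeal.ResidueField (p.asIdeal.ResidueField ⊗[A] L)) ∧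
      ∀ (A' : Type u) [CommRing A'] [Algebra A A'] (a' : A' ⊗[A] L),
        SGA3t2b.IsQuasiRegular A' (A' ⊗[A] L) a' → SGA3t2b.IsRegularRel A' (A' ⊗[A] L) a'))
    (hreg : ∀ p : PrimeSpectrum A, ∃ x : p.asIdeal.ResidueField ⊗[A] L,
      LieAlgebra.IsRegular p.asIdeal.ResidueField x) :
    ∃ (A' : Type u) (_ : CommRing A') (_ : Algebra A A'), Algebra.Etale A A' ∧
      Module.FaithfullyFlat A A' ∧
        ∃ H : LieSubalgebra A' (A' ⊗[A] L), SGA3t2b.IsCartanRel H := by
  classical
  have hloc := fun p => CartanLoc.exists_quasiRegular_localization hC2.1 p (hreg p)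
  choose f hf a ha using hloc
  have hspan : Ideal.span (Set.range f) = ⊤ := by
    by_contra h
    obtain ⟨m, hm, hle⟩ := Ideal.exists_le_maximal _ h
    exact hf ⟨m, hm.isPrime⟩ (hle (Ideal.subset_span ⟨_, rfl⟩))
  obtain ⟨t, ht, hts⟩ := (Ideal.span_eq_top_iff_finite _).mp hspan
  have hg : ∀ g : t, ∃ p, f p = g := fun g => ht g.2
  choose P hP using hg
  let a' : Cover t ⊗[A] L := ∑ g : t, (Pi.single g 1 : Cover t) ⊗ₜ[A] a (P g)
  refine ⟨Cover t, inferInstance, inferInstance, inferInstance, faithfullyFlat_cover hts, ?_⟩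
  have hq : IsQuasiRegular (Cover t) (Cover t ⊗[A] L) a' := by
    intro q'
    rw [CartanBC.isRegular_fibre_baseChange_iff]
    obtain ⟨g₀, h0, h1⟩ := exists_single_notMem q'
    have himg : CartanBC.cancelBaseChangeLie A (Cover t) q'.asIdeal.ResidueField L
        ((1 : q'.asIdeal.ResidueField) ⊗ₜ[Cover t] a') =
        (1 : q'.asIdeal.ResidueField) ⊗ₜ[A] a (P g₀) := by
      simp only [a', TensorProduct.tmul_sum, map_sum, CartanBC.cancelBaseChangeLie_tmul,
        Algebra.smul_def, mul_one, algebraMap_single_eq q' g₀ h0 h1]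
      rw [Finset.sum_eq_single g₀]
      · simp
      · intro b _ hb
        simp [hb]
      · intro h
        exact absurd (Finset.mem_univ _) h
    rw [himg, CartanBC.isRegular_field_algebra_iff q'.asIdeal.ResidueField
      (q'.comap (algebraMap A (Cover t))) (CartanBC.comap_asIdeal_eq_ker _ q')]
    apply ha (P g₀)
    rw [hP g₀]
    exact algebraMap_notMem q' g₀ h0
  obtain ⟨-, H, hH, -⟩ := hC2.2 (Cover t) a' hq
  exact ⟨H, hH⟩

end Main

end Groth.Agent.Lib.R2H4.CartanEtale
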