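import Mathlib
import Groth.Agent.Lib.R2H4CartanLin

namespace Groth.Agent.Lib.R2H4.CartanQI

open scoped TensorProduct
open Module Polynomial
open Groth.Agent.Lib.R2H4 CartanLin

universe u

section Ext

variable {A M N : Type*} [CommRing A] [AddCommGroup M] [Module A M] [AddCommGroup N] [Module A N]
  (i : M →ₗ[A] N) (s : N →ₗ[A] M)

/-- `φ ⊕ id` along a splitting. -/
def extEnd (φ : Module.End A M) : Module.End A N := conjEnd i s φ + (LinearMap.id - i ∘ₗ s)

variable {i s}

lemma extEnd_apply (φ : Module.End A M) (v : N) :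
    extEnd i s φ v = i (φ (s v)) + (v - i (s v)) := rfl

lemma extEnd_comp (hsi : s ∘ₗ i = LinearMap.id) (φ : Module.End A M) (x : M) :
    extEnd i s φ (i x) = i (φ x) := by
  have hs : s (i x) = x := by simpa using LinearMap.congr_fun hsi x
  rw [extEnd_apply, hs, sub_self, add_zero]

lemma comp_extEnd (hsi : s ∘ₗ i = LinearMap.id) (φ : Module.End A M) (v : N) :
    s (extEnd i s φ v) = φ (s v) := by
  have hs : ∀ x, s (i x) = x := fun x => by simpa using LinearMap.congr_fun hsi x
  rw [extEnd_apply, map_add, map_sub, hs, hs, sub_self, add_zero]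

lemma extEnd_injective_iff (hsi : s ∘ₗ i = LinearMap.id) (φ : Module.End A M) :
    Function.Injective (extEnd i s φ) ↔ Function.Injective φ := by
  have hs : ∀ x, s (i x) = x := fun x => by simpa using LinearMap.congr_fun hsi x
  have hi : Function.Injective i := LinearMap.injective_of_comp_eq_id _ _ hsi
  constructor
  · intro h
    rw [injective_iff_map_eq_zero]
    intro x hx
    apply hi
    apply h
    rw [extEnd_comp hsi, hx, map_zero, map_zero]
  · intro h
    rw [injective_iff_map_eq_zero]
    intro v hv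
    have h1 : φ (s v) = 0 := by rw [← comp_extEnd hsi, hv, map_zero]
    have h2 : s v = 0 := h (h1.trans (map_zero φ).symm)
    rw [extEnd_apply, h2, map_zero, map_zero, sub_zero, zero_add] at hv
    exact hv

lemma extEnd_baseChange (K : Type*) [CommRing K] [Algebra A K] (φ : Module.End A M) :
    (extEnd i s φ).baseChange K =
      extEnd (i.baseChange K) (s.baseChange K) (φ.baseChange K) := by
  unfold extEnd
  rw [LinearMap.baseChange_add, conjEnd_baseChange, LinearMap.baseChange_sub,
    LinearMap.baseChange_id, LinearMap.baseChange_comp]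

end Ext

section QI

variable {A : Type*} [CommRing A] {M : Type*} [AddCommGroup M] [Module A M]
  {n : ℕ} {s : (Fin n → A) →ₗ[A] M} {i : M →ₗ[A] (Fin n → A)}

/-- The determinant of `φ ⊕ id`. -/
noncomputable def qdet (i : M →ₗ[A] (Fin n → A)) (s : (Fin n → A) →ₗ[A] M)
    (φ : Module.End A M) : A := LinearMap.det (extEnd i s φ)

/-- A quasi-inverse: `g ∘ φ = d • id`. -/
lemma exists_quasi_inverse (hsi : s ∘ₗ i = LinearMap.id) (φ : Module.End A M) :
    ∃ g : Module.End A M, g ∘ₗ φ = qdet i s φ • LinearMap.id := by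
  classical
  let Φ := extEnd i s φ
  let adj : Module.End A (Fin n → A) := Matrix.toLin' (Matrix.adjugate (LinearMap.toMatrix' Φ))
  have hadj : adj ∘ₗ Φ = qdet i s φ • LinearMap.id := by
    have h1 : Φ = Matrix.toLin' (LinearMap.toMatrix' Φ) := (Matrix.toLin'_toMatrix' Φ).symm
    conv_lhs => rw [h1]
    rw [← Matrix.toLin'_mul, Matrix.adjugate_mul, LinearMap.det_toMatrix']
    ext v j
    simp [qdet, Φ]
  refine ⟨s ∘ₗ adj ∘ₗ i, ?_⟩
  ext x
  have hs : ∀ x, s (i x) = x := fun x => by simpa using LinearMap.congr_fun hsi x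
  have h2 : adj (Φ (i x)) = qdet i s φ • i x := by
    have := LinearMap.congr_fun hadj (i x)
    simpa using this
  simp only [LinearMap.comp_apply, LinearMap.smul_apply, LinearMap.id_apply]
  rw [← extEnd_comp hsi φ x, h2, map_smul, hs]

lemma quasi_inverse_pow {g φ : Module.End A M} {d : A} (h : g ∘ₗ φ = d • LinearMap.id) (k : ℕ)
    (x : M) : (g ^ k) ((φ ^ k) x) = d ^ k • x := by
  induction k generalizing x with
  | zero => simp
  | succ k ih =>
    rw [pow_succ, Module.End.mul_apply, pow_succ', Module.End.mul_apply]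
    have h1 : g (φ ((φ ^ k) x)) = d • (φ ^ k) x := by
      have := LinearMap.congr_fun h ((φ ^ k) x)
      simpa using this
    rw [h1, map_smul, ih, smul_smul, pow_succ']

/-- `qdet` detects injectivity on fibres. -/
lemma algebraMap_qdet_ne_zero_iff (hsi : s ∘ₗ i = LinearMap.id) (φ : Module.End A M)
    (K : Type*) [Field K] [Algebra A K] [Module.Finite A M] :
    algebraMap A K (qdet i s φ) ≠ 0 ↔ Function.Injective (φ.baseChange K) := by
  unfold qdet
  rw [← LinearMap.det_baseChange, extEnd_baseChange, Ne, LinearMap.det_eq_zero_iff_ker_ne_bot,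
    not_not, LinearMap.ker_eq_bot, extEnd_injective_iff (baseChange_comp_eq_id K hsi)]

end QI

end Groth.Agent.Lib.R2H4.CartanQI
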