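import Mathlib
import Groth.Prelude.Def_W4sga3xiixivxvCartan
import Groth.Agent.Lib.R2H4CartanRel
import Groth.Agent.Lib.R2H4CartanLoc
import Groth.Agent.Lib.R2H4CartanQI
import Groth.Agent.Lib.R2H4CartanBarnes

namespace Groth.Agent.Lib.R2H4.CartanGen

open scoped TensorProduct
open Module LieAlgebra LieSubalgebra Polynomial
open Groth.Agent.Lib.R2H4 CartanLin CartanRel

attribute [local instance 100] LieRing.ofAssociativeRing

universe u

section Main

variable {A : Type u} [CommRing A] {L : Type u} [LieRing L] [LieAlgebra A L]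
  [Module.Finite A L] [Module.Projective A L]

open SGA3t2b

/-- A relative Cartan subalgebra lies in the Engel subalgebra of each of its elements. -/
lemma le_engel_of_mem (H : LieSubalgebra A L) (hH : IsCartanRel H) (a : L) (haH : a ∈ H) :
    H ≤ engel A a := by
  have hproj : Module.Projective A (L ⧸ H.toSubmodule) := hH.1
  have hfin : Module.Finite A H := CartanLin.finite_of_projective_quotient H.toSubmodule
  have hpr : Module.Projective A H := CartanLin.projective_of_projective_quotient H.toSubmodule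
  have hnil : IsNilpotent (ad A H ⟨a, haH⟩) := by
    apply CartanLin.isNilpotent_of_forall_residueField
    intro p
    have hn := (hH.2 p).1
    have h1 := LieModule.isNilpotent_toEnd_of_isNilpotent p.asIdeal.ResidueField
      (p.asIdeal.ResidueField ⊗[A] H) (p.asIdeal.ResidueField ⊗[A] H)
      ((1 : p.asIdeal.ResidueField) ⊗ₜ[A] (⟨a, haH⟩ : ↥H))
    rwa [LieModule.toEnd_baseChange] at h1
  obtain ⟨k, hk⟩ := hnil
  intro h hh
  rw [mem_engel_iff]
  refine ⟨k, ?_⟩
  have := LieSubalgebra.coe_ad_pow A L H ⟨a, haH⟩ ⟨h, hh⟩ k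
  rw [hk] at this
  simpa using this.symm

omit [Module.Projective A L] in
/-- The fibre of a relative Cartan subalgebra lies in the Engel subalgebra of `1 ⊗ a`, `a ∈ H`. -/
lemma fibre_le_engel (H : LieSubalgebra A L) (hH : IsCartanRel H) (a : L) (haH : a ∈ H)
    (q : PrimeSpectrum A) :
    fibreSubmodule q H ≤
      (engel q.asIdeal.ResidueField ((1 : q.asIdeal.ResidueField) ⊗ₜ[A] a)).toSubmodule := by
  have hnil := (hH.2 q).1
  have := CartanFibre.range_le_engel_of_isNilpotent
    (CartanFibre.fibreHom q.asIdeal.ResidueField H) ((1 : q.asIdeal.ResidueField) ⊗ₜ[A] ⟨a, haH⟩)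
  intro z hz
  obtain ⟨w, rfl⟩ := hz
  exact this ⟨w, rfl⟩

/-- If `ad a` is injective on the fibre of `L ⧸ H` at `q`, then `1 ⊗ a` is regular at `q`. -/
lemma isRegular_of_adQuot_injective (H : LieSubalgebra A L) (hH : IsCartanRel H) (a : L)
    (haH : a ∈ H) (q : PrimeSpectrum A)
    (hinj : Function.Injective
      ((adQuot H a (fun _ hh => H.lie_mem haH hh)).baseChange q.asIdeal.ResidueField)) :
    LieAlgebra.IsRegular q.asIdeal.ResidueField ((1 : q.asIdeal.ResidueField) ⊗ₜ[A] a) := by
  have hle := fibre_le_engel H hH a haH q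
  have hge : (engel q.asIdeal.ResidueField ((1 : q.asIdeal.ResidueField) ⊗ₜ[A] a)).toSubmodule ≤
      fibreSubmodule q H := by
    intro z hz
    rw [LieSubalgebra.mem_toSubmodule, mem_engel_iff] at hz
    obtain ⟨n, hn⟩ := hz
    have hinj' : Function.Injective
        (((adQuot H a (fun _ hh => H.lie_mem haH hh)).baseChange q.asIdeal.ResidueField) ^ n) := by
      rw [Module.End.coe_pow]
      exact hinj.iterate n
    have h0 := adQuot_baseChange_pow_mkQ q.asIdeal.ResidueField H a
      (fun _ hh => H.lie_mem haH hh) n z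
    rw [hn, map_zero] at h0
    have h1 := hinj' (h0.trans (map_zero _).symm)
    exact (mkQ_baseChange_eq_zero_iff q.asIdeal.ResidueField _ z).mp h1
  have heq := le_antisymm hle hge
  rw [LieAlgebra.isRegular_iff_finrank_engel_eq_rank]
  have h2 := (hH.2 q).2.2
  rw [heq] at h2
  exact h2

/-- Barnes on the fibre: an infinite residue field gives a section of `H` regular at `p`. -/
lemma exists_mem_regular_at (H : LieSubalgebra A L) (hH : IsCartanRel H) (p : PrimeSpectrum A)
    (hp : Infinite p.asIdeal.ResidueField) :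
    ∃ a : L, a ∈ H ∧
      LieAlgebra.IsRegular p.asIdeal.ResidueField ((1 : p.asIdeal.ResidueField) ⊗ₜ[A] a) := by
  have hnilI := (hH.2 p).1
  let ι := CartanFibre.fibreHom p.asIdeal.ResidueField H
  let U : LieSubalgebra p.asIdeal.ResidueField (p.asIdeal.ResidueField ⊗[A] L) := ι.range
  have hUsub : U.toSubmodule = fibreSubmodule p H := rfl
  have hnil : ∀ y ∈ U, U ≤ engel p.asIdeal.ResidueField y := by
    rintro _ ⟨w, rfl⟩
    exact CartanFibre.range_le_engel_of_isNilpotent ι w
  have hnorm : U.normalizer = U := by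
    apply le_antisymm _ U.le_normalizer
    intro x hx
    rw [LieSubalgebra.mem_normalizer_iff] at hx
    have := (hH.2 p).2.1 x (fun y hy => hx y hy)
    exact this
  have hrank : finrank p.asIdeal.ResidueField U =
      LieAlgebra.rank p.asIdeal.ResidueField (p.asIdeal.ResidueField ⊗[A] L) := (hH.2 p).2.2
  obtain ⟨x, ⟨w, rfl⟩, hx⟩ := CartanBarnes.exists_isRegular_mem U hnil hnorm hrank
  obtain ⟨s, hs, h, hh⟩ := CartanLoc.exists_smul_eq_one_tmul p w
  refine ⟨(h : L), h.2, ?_⟩
  have h1 : ι ((1 : p.asIdeal.ResidueField) ⊗ₜ[A] h) =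
      (1 : p.asIdeal.ResidueField) ⊗ₜ[A] (h : L) := rfl
  rw [← h1, ← hh, map_smul]
  apply CartanLoc.isRegular_smul _ hx
  rwa [Ne, Ideal.algebraMap_residueField_eq_zero]

/-- S8374. -/
theorem exists_generic_regular (H : LieSubalgebra A L) (hH : IsCartanRel H) (p : PrimeSpectrum A)
    (hp : Infinite p.asIdeal.ResidueField) :
    ∃ f : A, f ∉ p.asIdeal ∧ ∃ a : L, a ∈ H ∧
      (∀ q : PrimeSpectrum A, f ∉ q.asIdeal →
        LieAlgebra.IsRegular q.asIdeal.ResidueField ((1 : q.asIdeal.ResidueField) ⊗ₜ[A] a)) ∧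
      H ≤ engel A a ∧
      ∀ y : L, y ∈ engel A a → ∃ n : ℕ, f ^ n • y ∈ H := by
  obtain ⟨a, haH, hreg⟩ := exists_mem_regular_at H hH p hp
  have hproj : Module.Projective A (L ⧸ H.toSubmodule) := hH.1
  obtain ⟨n, s, i, -, -, hsi⟩ :=
    Module.Finite.exists_comp_eq_id_of_projective A (L ⧸ H.toSubmodule)
  set φ := adQuot H a (fun _ hh => H.lie_mem haH hh) with hφ
  refine ⟨CartanQI.qdet i s φ, ?_, a, haH, ?_, le_engel_of_mem H hH a haH, ?_⟩
  · rw [← Ideal.algebraMap_residueField_eq_zero, ← Ne,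
      CartanQI.algebraMap_qdet_ne_zero_iff hsi φ p.asIdeal.ResidueField]
    apply adQuot_baseChange_injective
    intro z hz
    have h1 := fibre_eq_engel H hH a haH p hreg
    unfold fibreSubmodule at h1
    rw [h1] at hz ⊢
    exact CartanField.mem_engel_of_lie_mem_engel hz
  · intro q hq
    apply isRegular_of_adQuot_injective H hH a haH q
    rw [← CartanQI.algebraMap_qdet_ne_zero_iff hsi φ q.asIdeal.ResidueField, Ne,
      Ideal.algebraMap_residueField_eq_zero]
    exact hq
  · intro y hy
    rw [mem_engel_iff] at hy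
    obtain ⟨k, hk⟩ := hy
    obtain ⟨g, hg⟩ := CartanQI.exists_quasi_inverse hsi φ
    refine ⟨k, ?_⟩
    have h1 := CartanQI.quasi_inverse_pow hg k (H.toSubmodule.mkQ y)
    rw [hφ, adQuot_pow_mkQ, hk, map_zero, map_zero] at h1
    rw [← LieSubalgebra.mem_toSubmodule, ← Submodule.Quotient.mk_eq_zero, Submodule.Quotient.mk_smul]
    exact h1.symm

end Main

end Groth.Agent.Lib.R2H4.CartanGen
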