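import Mathlib
import Groth.Prelude
import Groth.Agent.Lib.R2H1IdealProd
import Groth.Agent.Lib.Helper20IdealModSec
import Groth.Agent.Lib.Helper23IdealSec
import Groth.Agent.Lib.R2H1ZeroSchemeMul
import Groth.Agent.Lib.R2H3NegTwist
import Groth.Agent.Lib.H9NormFin
import Groth.Agent.S9705
set_option backward.isDefEq.respectTransparency.types false

/-!
# Effective Cartier divisors `D₁ ⊆ D₂` with isomorphic ideal modules (helper4, round 2)

* `res_mem_nonZeroDivisors` : nonzerodivisors restrict to nonzerodivisors between affine opens.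
* `eq_of_le_of_iso` : if `D₂ ≤ D₁` with `D₁` effective Cartier, `I_{D₁} ≅ I_{D₂}` and every
  nonzerodivisor of `Γ(X, O_X)` is a unit, then `D₁ = D₂`.
* `eq_of_le_of_iso_of_proper` : the case of a scheme proper over a field (S18380).
-/

set_option autoImplicit false
set_option linter.style.haveILetI false
set_option linter.unusedSectionVars false
universe u v

open CategoryTheory CategoryTheory.Limits AlgebraicGeometry TopologicalSpace Opposite

namespace Groth.Agent.Lib.R2H4CartierEq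

open Groth.Agent.Lib.Helper23.SecTw Groth.Agent.Lib.Helper23.GenLocus
open Groth.Agent.Lib.Helper23.IdealSec Groth.Agent.Lib.Helper6

variable {X : Scheme.{u}}

/-- flat ring maps preserve nonzerodivisors. -/
theorem map_mem_nonZeroDivisors_of_flat {R S : Type u} [CommRing R] [CommRing S] (φ : R →+* S)
    (hφ : φ.Flat) (a : R) (ha : a ∈ nonZeroDivisors R) : φ a ∈ nonZeroDivisors S := by
  algebraize [φ]
  have h1 : IsSMulRegular S a := Module.Flat.isSMulRegular_of_nonZeroDivisors ha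
  rw [mem_nonZeroDivisors_iff_right]
  intro s hs
  apply h1
  show a • s = a • 0
  rw [smul_zero, Algebra.smul_def, mul_comm]
  exact hs

theorem res_mem_nonZeroDivisors {U V : X.Opens} (hU : IsAffineOpen U) (hV : IsAffineOpen V)
    (h : V ≤ U) (a : Γ(X, U)) (ha : a ∈ nonZeroDivisors Γ(X, U)) :
    resf h a ∈ nonZeroDivisors Γ(X, V) := by
  have hfl := (𝟙 X : X ⟶ X).flat_appLE hU hV (show V ≤ (𝟙 X) ⁻¹ᵁ U from h)
  have := map_mem_nonZeroDivisors_of_flat _ hfl a ha
  simp only [Scheme.Hom.appLE] at this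
  exact this

theorem app_injective_of_iso {M N : X.Modules} (ψ : M ≅ N) (U : X.Opens) :
    Function.Injective (ψ.hom.app U) := by
  intro a b hab
  have h : ∀ x, ψ.inv.app U (ψ.hom.app U x) = x := fun x => by
    have h3 : (ψ.hom ≫ ψ.inv).app U x = x := by rw [Iso.hom_inv_id]; rfl
    exact h3
  rw [← h a, hab, h b]

open Groth.Agent.Lib.R2H3.NegTwist in
/-- if `D₂ ≤ D₁`, `D₁` is effective Cartier, `I_{D₁} ≅ I_{D₂}` and nonzerodivisors of `Γ(X, O_X)`
are units then `D₁ = D₂` -/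
theorem eq_of_le_of_iso (D₁ D₂ : X.IdealSheafData) (h₁ : BlowUp.IsEffCartierIdeal D₁)
    (hle : D₂ ≤ D₁) (ψ : ClSub.idealMod D₁ ≅ ClSub.idealMod D₂)
    (hunit : ∀ g : Γ(X, ⊤), g ∈ nonZeroDivisors Γ(X, ⊤) → IsUnit g) : D₁ = D₂ := by
  classical
  let 𝔘 := {U : X.affineOpens // ∃ a : Γ(X, U.1), a ∈ nonZeroDivisors Γ(X, U.1) ∧
    D₁.ideal U = Ideal.span {a}}
  have hcov : ⨆ i : 𝔘, (i.1).1 = ⊤ := by
    rw [eq_top_iff]
    intro x _
    obtain ⟨U, hxU, a, ha, hI⟩ := h₁ x
    exact Opens.mem_iSup.2 ⟨⟨U, a, ha, hI⟩, hxU⟩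
  choose a ha hI using fun i : 𝔘 => i.2
  have hj : ∀ i : 𝔘, ∃ j : Γ(ClSub.idealMod D₁, i.1.1),
      (ClSub.idealModι D₁).app i.1.1 j = toS i.1.1 (a i) := fun i =>
    exists_ι_eq D₁ i.1 (a i) (by rw [hI i]; exact Ideal.subset_span rfl)
  choose j hj using hj
  let b : ∀ i : 𝔘, Γ(X, i.1.1) := fun i =>
    ofS i.1.1 ((ClSub.idealModι D₂).app i.1.1 (ψ.hom.app i.1.1 (j i)))
  have hb : ∀ i, b i ∈ D₂.ideal i.1 := fun i =>
    Groth.Agent.Lib.R2H1.IdealProd.ι_mem_ideal (I := D₂) i.1 _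
  have hg : ∀ i : 𝔘, ∃ g : Γ(X, i.1.1), g * a i = b i := fun i => by
    have := hle i.1 (hb i)
    rw [hI i, Ideal.mem_span_singleton'] at this
    exact this
  choose g hg using hg
  -- the local description of `ψ`
  have L1 : ∀ (i : 𝔘) (W : X.Opens) (hW : IsAffineOpen W) (hWU : W ≤ i.1.1)
      (j' : Γ(ClSub.idealMod D₁, W)),
      ofS W ((ClSub.idealModι D₂).app W (ψ.hom.app W j')) =
        resf hWU (g i) * ofS W ((ClSub.idealModι D₁).app W j') := by
    intro i W hW hWU j'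
    have hIW : D₁.ideal ⟨W, hW⟩ = Ideal.span {resf hWU (a i)} :=
      Groth.Agent.Lib.R2H1.ZeroSchemeMul.ideal_res_span D₁ (U := ⟨W, hW⟩) (V := i.1) hWU (a i)
        (hI i)
    have hmem := Groth.Agent.Lib.R2H1.IdealProd.ι_mem_ideal (I := D₁) ⟨W, hW⟩ j'
    rw [hIW, Ideal.mem_span_singleton'] at hmem
    obtain ⟨c, hc⟩ := hmem
    have h1 : (ClSub.idealModι D₁).app W (c • res _ hWU (j i)) =
        (ClSub.idealModι D₁).app W j' := by
      rw [Scheme.Modules.Hom.app_smul, app_res, hj i]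
      have hr : res (Coh.structureModule X) hWU (toS i.1.1 (a i)) = toS W (resf hWU (a i)) := rfl
      rw [hr, smul_toS]
      have : toS W (c * resf hWU (a i)) = toS W (ofS W ((ClSub.idealModι D₁).app W j')) := by
        rw [← hc]
      rw [this]
      rfl
    have h2 : c • res _ hWU (j i) = j' :=
      Groth.Agent.Lib.Helper20.IdealModSec.ι_injective (I := D₁) W h1
    have h3 : (ClSub.idealModι D₂).app W (ψ.hom.app W j') =
        toS W (c * resf hWU (b i)) := by
      rw [← h2, Scheme.Modules.Hom.app_smul, Scheme.Modules.Hom.app_smul, app_res, app_res,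
        ← smul_toS]
      rfl
    rw [h3, ofS_toS, ← hc, ← hg i, resf_mul]
    ring
  -- compatibility
  have hcompat : TopCat.Presheaf.IsCompatible X.sheaf.1 (fun i : 𝔘 => i.1.1) g := by
    intro i i'
    refine X.sheaf.eq_of_locally_eq' (fun W : {W : X.affineOpens // W.1 ≤ i.1.1 ⊓ i'.1.1} => W.1.1)
      _ (fun W => homOfLE W.2) ?_ _ _ ?_
    · intro x hx
      obtain ⟨W, hW, hxW, hle'⟩ := Opens.isBasis_iff_nbhd.1 X.isBasis_affineOpens hx
      exact Opens.mem_iSup.2 ⟨⟨⟨W, hW⟩, hle'⟩, hxW⟩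
    · rintro ⟨⟨W, hW⟩, hWle⟩
      have hWi : W ≤ i.1.1 := hWle.trans inf_le_left
      have hWi' : W ≤ i'.1.1 := hWle.trans inf_le_right
      have e1 := L1 i W hW hWi (res _ hWi (j i))
      have e2 := L1 i' W hW hWi' (res _ hWi (j i))
      rw [e1] at e2
      have e3 : ofS W ((ClSub.idealModι D₁).app W (res _ hWi (j i))) = resf hWi (a i) := by
        rw [app_res, hj i]
        rfl
      rw [e3] at e2
      have hnz := res_mem_nonZeroDivisors i.1.2 hW hWi (a i) (ha i)
      have e4 : resf hWi (g i) = resf hWi' (g i') := mul_cancel_right_mem_nonZeroDivisors hnz |>.1 e2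
      change resf hWle (resf inf_le_left (g i)) = resf hWle (resf inf_le_right (g i'))
      rw [resf_resf, resf_resf]
      exact e4
  have hex : ∃ G : Γ(X, ⊤), ∀ i : 𝔘, resf le_top G = g i := by
    obtain ⟨G, hG, -⟩ := X.sheaf.existsUnique_gluing' (fun i : 𝔘 => i.1.1) ⊤
      (fun i => homOfLE le_top) (by rw [hcov]) g hcompat
    exact ⟨G, hG⟩
  obtain ⟨G, hG'⟩ := hex
  -- `G` is a nonzerodivisor
  have hGnz : G ∈ nonZeroDivisors Γ(X, ⊤) := by
    rw [mem_nonZeroDivisors_iff_right]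
    intro c hc
    refine X.sheaf.eq_of_locally_eq' (fun i : 𝔘 => i.1.1) _ (fun i => homOfLE le_top)
      (by rw [hcov]) _ _ ?_
    intro i
    change resf le_top c = resf le_top 0
    have hz : resf (le_top : i.1.1 ≤ ⊤) (0 : Γ(X, ⊤)) = 0 := map_zero _
    rw [hz]
    have e1 : resf (le_top : i.1.1 ≤ ⊤) c * b i = 0 := by
      rw [← hg i, ← mul_assoc, ← hG' i, ← resf_mul, hc, hz, zero_mul]
    have e2 : (ClSub.idealModι D₂).app i.1.1 (ψ.hom.app i.1.1 (resf (le_top : i.1.1 ≤ ⊤) c • j i)) = 0 := by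
      rw [Scheme.Modules.Hom.app_smul, Scheme.Modules.Hom.app_smul]
      have : (ClSub.idealModι D₂).app i.1.1 (ψ.hom.app i.1.1 (j i)) = toS i.1.1 (b i) := rfl
      rw [this, smul_toS, e1]
      rfl
    have e3 : resf (le_top : i.1.1 ≤ ⊤) c • j i = 0 := by
      apply app_injective_of_iso ψ
      apply Groth.Agent.Lib.Helper20.IdealModSec.ι_injective (I := D₂)
      rw [e2, map_zero, map_zero]
    have e4 := congrArg (fun z => ofS i.1.1 ((ClSub.idealModι D₁).app i.1.1 z)) e3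
    simp only [] at e4
    rw [Scheme.Modules.Hom.app_smul, hj i, smul_toS, ofS_toS, map_zero] at e4
    exact (mem_nonZeroDivisors_iff_right.1 (ha i)) _ e4
  have hGu := hunit G hGnz
  refine le_antisymm ?_ hle
  refine Scheme.IdealSheafData.le_of_iSup_eq_top (fun i : 𝔘 => i.1) hcov ?_
  intro i
  rw [hI i, Ideal.span_singleton_le_iff_mem]
  have hu : IsUnit (g i) := by
    rw [← hG' i]
    exact hGu.map _
  obtain ⟨v, hv⟩ := hu
  have : a i = (↑v⁻¹ : Γ(X, i.1.1)) * b i := by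
    rw [← hg i, ← hv, ← mul_assoc, Units.inv_mul, one_mul]
  rw [this]
  exact Ideal.mul_mem_left _ _ (hb i)

/-- on a scheme proper over a field, effective Cartier divisors `D₁ ⊆ D₂` with isomorphic ideal
modules are equal -/
theorem eq_of_le_of_iso_of_proper (k : Type u) [Field k] (f : X ⟶ Spec (CommRingCat.of k))
    [IsProper f] (D₁ D₂ : X.IdealSheafData) (h₁ : BlowUp.IsEffCartierIdeal D₁)
    (hle : D₂ ≤ D₁) (hiso : Nonempty (ClSub.idealMod D₁ ≅ ClSub.idealMod D₂)) : D₁ = D₂ := by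
  obtain ⟨ψ⟩ := hiso
  have hfin := Groth.Agent.Lib.H9NormFin.finite_toGlobal k f
  set φ : k →+* Γ(X, ⊤) := (f.appTop).hom.comp (Scheme.ΓSpecIso (CommRingCat.of k)).inv.hom
  algebraize [φ]
  haveI : IsArtinianRing Γ(X, ⊤) := IsArtinianRing.of_finite k Γ(X, ⊤)
  exact eq_of_le_of_iso D₁ D₂ h₁ hle ψ
    (fun g hg => IsArtinianRing.isUnit_of_mem_nonZeroDivisors hg)

/-- S18380 -/
theorem s18380 (k : Type u) [Field k]
    (M : Scheme.{u}) (f : M ⟶ Spec (CommRingCat.of k))
    (hproj : Neron.IsProjectiveOver k (Over.mk f))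
    (D₁ D₂ : M.IdealSheafData) (h₁ : BlowUp.IsEffCartierIdeal D₁)
    (hle : D₂ ≤ D₁) (hiso : Nonempty (ClSub.idealMod D₁ ≅ ClSub.idealMod D₂)) :
    D₁ = D₂ := by
  obtain ⟨n, i, hi, hif⟩ := hproj
  haveI := Groth.Agent.S9705.isProper_toBase n (Spec (CommRingCat.of k))
  haveI : IsProper f := by
    have : f = i ≫ CohB1.ProjSpaceOver.toBase n (Spec (CommRingCat.of k)) := hif.symm
    rw [this]
    infer_instance
  exact eq_of_le_of_iso_of_proper k f D₁ D₂ h₁ hle hiso

end Groth.Agent.Lib.R2H4CartierEq
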