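import Mathlib
import Groth.Prelude
import Groth.Agent.S1026
import Groth.Agent.Lib.R2H4Snapper
import Groth.Agent.Lib.R2H4TensorPows
import Groth.Agent.Lib.R2H3FPExtend
import Groth.Agent.Lib.Helper4FibDimG
import Groth.Agent.Lib.Helper3DimCons
import Groth.Agent.Lib.R2H4SSDescent
import Groth.Agent.Lib.R2H2FlatTwist
import Groth.Agent.Lib.Helper2FinPres
import Groth.Agent.Lib.Helper23FinPres
import Groth.Agent.Lib.Helper2FinPushFP
import Groth.Agent.Lib.Helper23PB
import Groth.Agent.Lib.Helper23SecTw6
import Groth.Agent.Lib.Helper23RestrTensor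
import Groth.Agent.Lib.Helper26FlatLimC

/-!
# Local constancy of the Snapper polynomials of the fibres of a flat family (helper4)

* `isFP_tensorMod_of_isInvertible`: twisting a finitely presented module by an invertible module keeps it finitely
  presented;
* `nonempty_pullback_pows`: pullback commutes with `Curv2.tensorPows`;
* `mvPoly_eq_of_eval_grid`: polynomials of total degree `≤ d` agreeing on `{0..d}^t` are equal;
* `main` (S7761): near each point of the base the Euler characteristics `χ(X_s, (F ⊗ L^n)|_{X_s})` agree for all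
  exponents simultaneously (Snapper polynomiality on fibres + semicontinuity of fibre dimension + local constancy of
  each single Euler characteristic).
-/

set_option autoImplicit false
set_option linter.style.haveILetI false
set_option linter.unusedSectionVars false
universe u
open CategoryTheory CategoryTheory.Limits AlgebraicGeometry TopologicalSpace Opposite
open AlgebraicGeometry.Scheme.Modules

noncomputable section

namespace Groth.Agent.Lib.R2H4SnapperFam

open Groth.Agent.Lib.Helper23.SecTw Groth.Agent.Lib.Helper23.PB Groth.Agent.Lib.R2H4TensorPows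
  Groth.Agent.Lib.Helper6

section FP

variable {X : Scheme.{u}}

open Groth.Agent.Lib.Helper23.FinType in
/-- finite presentation is invariant under isomorphisms (copy of helper6's `H6xPCoh.isFinitePresentation_of_iso`,
to avoid its import chain) -/
theorem isFinitePresentation_of_iso {M N : X.Modules} (e : M ≅ N)
    [hM : SheafOfModules.IsFinitePresentation (R := X.ringCatSheaf) M] :
    SheafOfModules.IsFinitePresentation (R := X.ringCatSheaf) N := by
  obtain ⟨ι, U, P, hP, hU, -⟩ :=
    Groth.Agent.Lib.Helper2.FinPres.exists_isOpenCover_presentation_isFinite M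
  refine isFinitePresentation_of_presentation N U hU (fun i => ?_)
  let P' : (N.restrict (U i).ι).Presentation :=
    SheafOfModules.Presentation.ofIsIso.{u, u, u}
      ((Scheme.Modules.restrictFunctor (U i).ι).map e.hom) (P i)
  exact ⟨P', ⟨⟨(hP i).isFiniteType_generators.finite⟩, ⟨(hP i).isFiniteType_relations.finite⟩⟩⟩

/-- twisting by an invertible module preserves finite presentation -/
theorem isFP_tensorMod_of_isInvertible (F N : X.Modules) [F.IsQuasicoherent]
    (hF : CohB1.IsFP F) (hN : PicF.IsInvertible N) : CohB1.IsFP (CohB1.tensorMod F N) := by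
  haveI : N.IsQuasicoherent := isQuasicoherent_of_isInvertible N hN
  haveI : (CohB1.tensorMod F N).IsQuasicoherent :=
    Groth.Agent.Lib.Helper23.TensorQCoh.isQuasicoherent_tensorMod F N
  have key : ∀ x : X, ∃ W : X.Opens, x ∈ W ∧ IsAffineOpen W ∧
      Module.FinitePresentation Γ(X, W) Γ(CohB1.tensorMod F N, W) := by
    intro x
    obtain ⟨W, e, hxW, hW, he⟩ := exists_affine_gen N hN x
    obtain ⟨eN⟩ := nonempty_restrict_iso_of_isGen N W e he
    have iso : (CohB1.tensorMod F N).restrict W.ι ≅ F.restrict W.ι :=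
      Groth.Agent.Lib.Helper23.RestrTensor.restrictTensorIso F N W.ι ≪≫
        tIso (Iso.refl _) eN ≪≫ rUnit _
    haveI : SheafOfModules.IsFinitePresentation (R := (W : Scheme.{u}).ringCatSheaf)
        (F.restrict W.ι) := Groth.Agent.Lib.R2H2.LocalCBC.isFP_restrict W.ι F hF
    haveI : SheafOfModules.IsFinitePresentation (R := (W : Scheme.{u}).ringCatSheaf)
        ((CohB1.tensorMod F N).restrict W.ι) :=
      isFinitePresentation_of_iso iso.symm
    have h := Groth.Agent.Lib.R2H3.FPExtend.fpOn_of_isFinitePresentation_restrict W.ι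
      (CohB1.tensorMod F N)
    exact ⟨W, hxW, hW, h W hW (by rw [Scheme.Opens.opensRange_ι])⟩
  choose W hxW hW hfp using key
  refine Groth.Agent.Lib.Helper2.FinPushFP.isFinitePresentation_of_finitePresentation_sections _ W
    ?_ hW hfp
  rw [IsOpenCover]
  exact eq_top_iff.mpr (fun x _ => Opens.mem_iSup.mpr ⟨x, hxW x⟩)

end FP

section Pows

/-- pullback commutes with the iterated twists -/
theorem nonempty_pullback_pows {X Y : Scheme.{u}} (g : Y ⟶ X) (F : X.Modules) :
    ∀ (r : ℕ) (L : Fin r → X.Modules) (_ : ∀ i, PicF.IsInvertible (L i)) (n : Fin r → ℕ),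
      Nonempty ((Scheme.Modules.pullback g).obj (Curv2.tensorPows F r L n) ≅
        Curv2.tensorPows ((Scheme.Modules.pullback g).obj F) r
          (fun i => (Scheme.Modules.pullback g).obj (L i)) n)
  | 0, _, _, _ => ⟨Iso.refl _⟩
  | r + 1, L, hL, n => by
    obtain ⟨e1⟩ := nonempty_pullback_pows g F r (fun i => L i.castSucc) (fun i => hL _)
      (fun i => n i.castSucc)
    obtain ⟨e2⟩ := nonempty_pullback_tensorPow_iso g (L (Fin.last r)) (hL _) (n (Fin.last r))
    exact ⟨Groth.Agent.Lib.Helper23.RestrTensor.pullbackTensorIso _ _ g ≪≫ tIso e1 e2⟩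

end Pows

section Grid

open MvPolynomial in
/-- polynomials of total degree `≤ d` agreeing on the grid `{0, …, d}^t` are equal -/
theorem mvPoly_eq_of_eval_grid {t d : ℕ} (P Q : MvPolynomial (Fin t) ℚ) (hP : P.totalDegree ≤ d)
    (hQ : Q.totalDegree ≤ d)
    (h : ∀ n : Fin t → ℕ, (∀ i, n i ≤ d) →
      eval (fun i => (n i : ℚ)) P = eval (fun i => (n i : ℚ)) Q) : P = Q := by
  have h0 : P - Q = 0 := by
    apply MvPolynomial.eq_zero_of_eval_zero_at_prod_finset (P - Q)
      (fun _ => (Finset.range (d + 1)).image (Nat.cast : ℕ → ℚ))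
    · intro i
      have h1 : (P - Q).degreeOf i ≤ (P - Q).totalDegree := degreeOf_le_totalDegree _ _
      have h2 : (P - Q).totalDegree ≤ max P.totalDegree Q.totalDegree := totalDegree_sub _ _
      have h3 : max P.totalDegree Q.totalDegree ≤ d := max_le hP hQ
      rw [Finset.card_image_of_injective _ Nat.cast_injective, Finset.card_range]
      omega
    · intro x hx
      choose n hn using fun i => Finset.mem_image.1 (hx i)
      have hx' : x = fun i => (n i : ℚ) := funext fun i => (hn i).2.symm
      rw [hx', map_sub, h n (fun i => Nat.lt_succ_iff.1 (Finset.mem_range.1 (hn i).1)), sub_self]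
  exact sub_eq_zero.1 h0

end Grid

section Main

variable {X S : Scheme.{u}} (f : X ⟶ S) [IsProper f] [LocallyOfFinitePresentation f]

/-- the Euler characteristic of the restriction to the fibre at `s` -/
def chi (G : X.Modules) (s : S) : ℤ :=
  @Curv2.euler (S.residueField s) _ (f.fiber s) ⟨f.fiberToSpecResidueField s⟩
    ((Scheme.Modules.pullback (f.fiberι s)).obj G)

/-- Snapper polynomial of a fibre -/
theorem exists_poly_fibre (F : X.Modules) (hF : CohB1.IsFP F) (t : ℕ) (L : Fin t → X.Modules)
    (hL : ∀ i, PicF.IsInvertible (L i)) (s : S) (d : ℕ)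
    (hd : topologicalKrullDim ↥(f.fiber s) ≤ d) :
    ∃ P : MvPolynomial (Fin t) ℚ, P.totalDegree ≤ d ∧
      ∀ n : Fin t → ℕ, (chi f (Curv2.tensorPows F t L n) s : ℚ) =
        MvPolynomial.eval (fun i => (n i : ℚ)) P := by
  haveI := hF
  haveI : F.IsQuasicoherent := inferInstance
  letI : (f.fiber s).Over (Spec (CommRingCat.of (S.residueField s))) :=
    ⟨f.fiberToSpecResidueField s⟩
  haveI : IsProper ((f.fiber s) ↘ Spec (CommRingCat.of (S.residueField s))) :=
    inferInstanceAs (IsProper (pullback.snd f (S.fromSpecResidueField s)))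
  let g := f.fiberι s
  have hFs : Coh.IsCoh ((Scheme.Modules.pullback g).obj F) :=
    ⟨Groth.Agent.Lib.Helper2.PullbackSec.isQuasicoherent_pullback g F,
      Groth.Agent.Helper18Strict.isFT_of_isFP _ (Groth.Agent.Helper18Strict.isFP_pullback g F hF)⟩
  have hsupp : topologicalKrullDim (CohB1.support ((Scheme.Modules.pullback g).obj F)) ≤ d :=
    (topologicalKrullDim_subspace_le _ _).trans hd
  obtain ⟨P, hP, hev⟩ := Groth.Agent.Lib.R2H4Snapper.s1528 (S.residueField s)
    ((Scheme.Modules.pullback g).obj F) hFs d hsupp t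
    (fun i => (Scheme.Modules.pullback g).obj (L i)) (fun i => isInvertible_pullback g _ (hL i))
  refine ⟨P, hP, fun n => ?_⟩
  rw [← hev n]
  obtain ⟨e⟩ := nonempty_pullback_pows g F t L hL n
  unfold chi
  rw [Groth.Agent.Lib.R2H4SSDescent.euler_eq_of_iso e]

/-- **S7761** -/
theorem main (F : X.Modules) (hF : CohB1.IsFP F) (hfl : FlatMod.IsFlatOver f F)
    (t : ℕ) (L : Fin t → X.Modules) (hL : ∀ i, PicF.IsInvertible (L i)) (s : S) :
    ∃ U : S.Opens, s ∈ U ∧ ∀ s' : S, s' ∈ U → ∀ n : Fin t → ℕ,
      chi f (Curv2.tensorPows F t L n) s' = chi f (Curv2.tensorPows F t L n) s := by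
  haveI := hF
  haveI : F.IsQuasicoherent := inferInstance
  have hO := Groth.Agent.Lib.Helper23.TensorUnit.isInvertible_structureModule X
  -- the twists are finitely presented and flat over the base
  have hN : ∀ n : Fin t → ℕ, PicF.IsInvertible (Curv2.tensorPows (Coh.structureModule X) t L n) :=
    fun n => isInvertible_pows _ hO t L hL n
  have eTw : ∀ n : Fin t → ℕ, CohB1.tensorMod F (Curv2.tensorPows (Coh.structureModule X) t L n) ≅
      Curv2.tensorPows F t L n := fun n => tComm _ _ ≪≫ (powsIsoTensor F t L n).symm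
  have hFPn : ∀ n : Fin t → ℕ, CohB1.IsFP (Curv2.tensorPows F t L n) := fun n => by
    haveI := isFP_tensorMod_of_isInvertible F _ hF (hN n)
    exact isFinitePresentation_of_iso (eTw n)
  have hfln : ∀ n : Fin t → ℕ, FlatMod.IsFlatOver f (Curv2.tensorPows F t L n) := fun n =>
    Groth.Agent.Lib.Helper26.FlatLim.isFlatOver_of_iso f (eTw n)
      (Groth.Agent.Lib.R2H2.FlatTwist.isFlatOver_tensorMod_of_isInvertible f F _ (hN n) hfl)
  have hlc : ∀ n : Fin t → ℕ, IsLocallyConstant (fun s' : S => chi f (Curv2.tensorPows F t L n) s') :=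
    fun n => Groth.Agent.S1026.result f _ (hFPn n) (hfln n)
  -- bound on the fibre dimension
  obtain ⟨d, hd⟩ : ∃ d : ℕ, topologicalKrullDim ↥(f.fiber s) ≤ d := by
    have h := Groth.Agent.Lib.Helper3.DimCons.fibre_dim_lt_top f s
    generalize topologicalKrullDim ↥(f.fiber s) = v at h
    induction v using WithBot.recBotCoe with
    | bot => exact ⟨0, bot_le⟩
    | coe a =>
      induction a using ENat.recTopCoe with
      | top => exact absurd h (lt_irrefl _)
      | coe m => exact ⟨m, le_rfl⟩
  have hV : IsOpen {s' : S | topologicalKrullDim ↥(f.fiber s') ≤ (d : WithBot ℕ∞)} :=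
    Groth.Agent.Lib.Helper4.FibDim.isOpen_setOf_dim_fiber_le f f.isClosedMap _
  let G : Finset (Fin t → ℕ) := Fintype.piFinset (fun _ : Fin t => Finset.range (d + 1))
  have hUn : ∀ n : Fin t → ℕ, IsOpen {s' : S | chi f (Curv2.tensorPows F t L n) s' =
      chi f (Curv2.tensorPows F t L n) s} := fun n => (hlc n).isOpen_fiber _
  have hU : IsOpen ({s' : S | topologicalKrullDim ↥(f.fiber s') ≤ (d : WithBot ℕ∞)} ∩
      ⋂ n ∈ G, {s' : S | chi f (Curv2.tensorPows F t L n) s' =
        chi f (Curv2.tensorPows F t L n) s}) :=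
    hV.inter (isOpen_biInter_finset (fun n _ => hUn n))
  refine ⟨⟨_, hU⟩, ⟨hd, Set.mem_iInter₂.2 (fun n _ => rfl)⟩, fun s' hs' n => ?_⟩
  obtain ⟨hs'd, hs'G⟩ := hs'
  obtain ⟨P, hP, hPev⟩ := exists_poly_fibre f F hF t L hL s d hd
  obtain ⟨P', hP', hP'ev⟩ := exists_poly_fibre f F hF t L hL s' d hs'd
  have hPP : P' = P := by
    refine mvPoly_eq_of_eval_grid P' P hP' hP (fun m hm => ?_)
    rw [← hP'ev m, ← hPev m]
    have hmG : m ∈ G := Fintype.mem_piFinset.2 (fun i => Finset.mem_range.2 (Nat.lt_succ_of_le (hm i)))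
    have := Set.mem_iInter₂.1 hs'G m hmG
    exact congrArg (Int.cast : ℤ → ℚ) this
  have h1 := hP'ev n
  rw [hPP, ← hPev n] at h1
  exact Int.cast_injective h1

end Main

end Groth.Agent.Lib.R2H4SnapperFam
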