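import Mathlib
import Groth.Prelude
import Groth.Agent.S1026
import Groth.Agent.Lib.R2H4GVSch
import Groth.Agent.Lib.R2H4SnapperFam
import Groth.Agent.Lib.R2H4TrivInt
import Groth.Agent.Lib.Helper2TensorInv
import Groth.Agent.Lib.Helper2LocFree
import Groth.Agent.Lib.Helper18PBUnit2
import Groth.Agent.Lib.Helper23TensorUnit
import Groth.Agent.Lib.Helper23RestrTensor
import Groth.Agent.Lib.Helper23PB
import Groth.Agent.Lib.R2H4SSDescent
import Groth.Agent.Lib.R2H4TensorPows

/-!
# Local constancy of the self-intersection number on the fibres of a flat family (helper4)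

* `intNum_two`: the intersection number `FGA.intNum k Y d ![A, A] O` is `χ(O) - 2χ(A) + χ(A ⊗ A)` (truncated Euler
  characteristics);
* `main` (S13629): for `f` proper flat of finite presentation with fibres of dimension `≤ 2` and `M` an inverse of
  an invertible module, `y ↦ χ(O_{X_y}) - 2χ(M_y) + χ(M_y ⊗ M_y)` is locally constant (Grothendieck vanishing on
  the fibres + local constancy of the Euler characteristic, `S1026`).
-/

set_option autoImplicit false
set_option linter.style.haveILetI false
set_option linter.unusedSectionVars false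
universe u
open CategoryTheory CategoryTheory.Limits AlgebraicGeometry TopologicalSpace Opposite
open AlgebraicGeometry.Scheme.Modules

noncomputable section

namespace Groth.Agent.Lib.R2H4SelfInt

open Groth.Agent.Lib.Helper23.SecTw Groth.Agent.Lib.Helper23.PB Groth.Agent.Lib.R2H4TensorPows

section IntNum

variable (k : Type u) [Field k] (Y : Scheme.{u}) [Y.Over (Spec (CommRingCat.of k))]

theorem eulerCharLE_congr {A B : Y.Modules} (e : A ≅ B) (d : ℕ) :
    FGA.eulerCharLE k Y A d = FGA.eulerCharLE k Y B d := by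
  unfold FGA.eulerCharLE
  refine Finset.sum_congr rfl fun i _ => ?_
  rw [(Groth.Agent.Lib.R2H4BCGlue.HHEquivOfIso (k' := k) e i).finrank_eq]

theorem univ_eq : (Finset.univ : Finset (Finset (Fin 2))) = {∅, {0}, {1}, {0, 1}} := by decide

/-- the intersection number of two copies of `A` against the structure sheaf -/
theorem intNum_two (A : Y.Modules) (d : ℕ) :
    FGA.intNum k Y d ![A, A] (Coh.structureModule Y) =
      FGA.eulerCharLE k Y (Coh.structureModule Y) d - 2 * FGA.eulerCharLE k Y A d +
        FGA.eulerCharLE k Y (CohB1.tensorMod A A) d := by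
  unfold FGA.intNum
  rw [univ_eq]
  have s0 : (∅ : Finset (Fin 2)).sort (· ≤ ·) = [] := Finset.sort_empty _
  have s1 : ({0} : Finset (Fin 2)).sort (· ≤ ·) = [0] := Finset.sort_singleton _ _
  have s2 : ({1} : Finset (Fin 2)).sort (· ≤ ·) = [1] := Finset.sort_singleton _ _
  have s3 : ({0, 1} : Finset (Fin 2)).sort (· ≤ ·) = [0, 1] := by
    rw [Finset.sort_insert (r := (· ≤ ·)) (by decide) (by decide), Finset.sort_singleton]
  rw [Finset.sum_insert (by decide), Finset.sum_insert (by decide), Finset.sum_insert (by decide),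
    Finset.sum_singleton, s0, s1, s2, s3]
  have e0 : CohB1.tensorMod (FGA.tensorList (([] : List (Fin 2)).map ![A, A]))
      (Coh.structureModule Y) ≅ Coh.structureModule Y := rUnit _
  have e1 : CohB1.tensorMod (FGA.tensorList (([0] : List (Fin 2)).map ![A, A]))
      (Coh.structureModule Y) ≅ A := rUnit _ ≪≫ rUnit _
  have e2 : CohB1.tensorMod (FGA.tensorList (([1] : List (Fin 2)).map ![A, A]))
      (Coh.structureModule Y) ≅ A := rUnit _ ≪≫ rUnit _
  have e3 : CohB1.tensorMod (FGA.tensorList (([0, 1] : List (Fin 2)).map ![A, A]))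
      (Coh.structureModule Y) ≅ CohB1.tensorMod A A :=
    rUnit _ ≪≫ tIso (Iso.refl _) (rUnit _)
  rw [eulerCharLE_congr k Y e0, eulerCharLE_congr k Y e1, eulerCharLE_congr k Y e2,
    eulerCharLE_congr k Y e3]
  have c0 : (∅ : Finset (Fin 2)).card = 0 := rfl
  have c1 : ({0} : Finset (Fin 2)).card = 1 := rfl
  have c2 : ({1} : Finset (Fin 2)).card = 1 := rfl
  have c3 : ({0, 1} : Finset (Fin 2)).card = 2 := rfl
  rw [c0, c1, c2, c3]
  ring

end IntNum

section Main

variable {X S : Scheme.{u}} (f : X ⟶ S) [IsProper f] [Flat f] [LocallyOfFinitePresentation f]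

open Groth.Agent.Lib.R2H4SnapperFam in
/-- fibrewise Euler characteristic of an invertible module is locally constant -/
theorem isLocallyConstant_chi_of_isInvertible (N : X.Modules) (hN : PicF.IsInvertible N) :
    IsLocallyConstant (fun s : S => chi f N s) := by
  have hfp : CohB1.IsFP N :=
    Groth.Agent.Lib.Helper2.LocFree.isFP_of_isFinLocFree _
      (Groth.Agent.Helper18PBUnit.isFinLocFree_of_isInvertible hN)
  exact Groth.Agent.S1026.result f N hfp
    (Groth.Agent.Lib.R2H4TrivInt.isFlatOver_of_isInvertible f N hN)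

open Groth.Agent.Lib.R2H4SnapperFam in
/-- the truncated Euler characteristic on a fibre of dimension `≤ d` -/
theorem eulerCharLE_fibre (d : ℕ) (s : S) (hd : topologicalKrullDim ↥(f.fiber s) ≤ d)
    (G : X.Modules) (A : (f.fiber s).Modules)
    (e : (Scheme.Modules.pullback (f.fiberι s)).obj G ≅ A) :
    @FGA.eulerCharLE (S.residueField s) _ (f.fiber s) ⟨f.fiberToSpecResidueField s⟩ A d =
      chi f G s := by
  letI : (f.fiber s).Over (Spec (CommRingCat.of (S.residueField s))) :=
    ⟨f.fiberToSpecResidueField s⟩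
  haveI : IsProper ((f.fiber s) ↘ Spec (CommRingCat.of (S.residueField s))) :=
    inferInstanceAs (IsProper (pullback.snd f (S.fromSpecResidueField s)))
  rw [← eulerCharLE_congr _ _ e, Groth.Agent.Lib.R2H4GVSch.eulerCharLE_eq_euler _ _ d hd]
  rfl

/-- **S13629** -/
theorem main (hdim : ∀ y : S, topologicalKrullDim ↥(f.fiber y) ≤ 2)
    (L M : X.Modules) (_hL : PicF.IsInvertible L) (hM : ClSub.IsInverseOf M L) (y₀ : S) :
    ∃ U : S.Opens, y₀ ∈ U ∧ ∀ y : S, y ∈ U →
      @FGA.intNum ↥(S.residueField y) _ (f.fiber y) ⟨f.fiberToSpecResidueField y⟩ 2 2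
            ![(Scheme.Modules.pullback (f.fiberι y)).obj M, (Scheme.Modules.pullback (f.fiberι y)).obj M]
            (Coh.structureModule (f.fiber y)) =
        @FGA.intNum ↥(S.residueField y₀) _ (f.fiber y₀) ⟨f.fiberToSpecResidueField y₀⟩ 2 2
            ![(Scheme.Modules.pullback (f.fiberι y₀)).obj M, (Scheme.Modules.pullback (f.fiberι y₀)).obj M]
            (Coh.structureModule (f.fiber y₀)) := by
  obtain ⟨e₀⟩ := hM
  have hMi : PicF.IsInvertible M :=
    Groth.Agent.Lib.Helper2.TensorInv.isInvertible_of_tensor_iso M L e₀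
  have hO : PicF.IsInvertible (Coh.structureModule X) :=
    Groth.Agent.Lib.Helper23.TensorUnit.isInvertible_structureModule X
  have hMM : PicF.IsInvertible (CohB1.tensorMod M M) := isInvertible_tensorMod hMi hMi
  have key : ∀ y : S,
      @FGA.intNum ↥(S.residueField y) _ (f.fiber y) ⟨f.fiberToSpecResidueField y⟩ 2 2
            ![(Scheme.Modules.pullback (f.fiberι y)).obj M, (Scheme.Modules.pullback (f.fiberι y)).obj M]
            (Coh.structureModule (f.fiber y)) =
        Groth.Agent.Lib.R2H4SnapperFam.chi f (Coh.structureModule X) y -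
          2 * Groth.Agent.Lib.R2H4SnapperFam.chi f M y +
          Groth.Agent.Lib.R2H4SnapperFam.chi f (CohB1.tensorMod M M) y := by
    intro y
    letI : (f.fiber y).Over (Spec (CommRingCat.of (S.residueField y))) :=
      ⟨f.fiberToSpecResidueField y⟩
    rw [intNum_two]
    rw [eulerCharLE_fibre f 2 y (hdim y) (Coh.structureModule X) _ (pullbackUnitIso (f.fiberι y)),
      eulerCharLE_fibre f 2 y (hdim y) M _ (Iso.refl _),
      eulerCharLE_fibre f 2 y (hdim y) (CohB1.tensorMod M M) _
        (Groth.Agent.Lib.Helper23.RestrTensor.pullbackTensorIso M M (f.fiberι y))]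
  have h1 := (isLocallyConstant_chi_of_isInvertible f _ hO).isOpen_fiber
    (Groth.Agent.Lib.R2H4SnapperFam.chi f (Coh.structureModule X) y₀)
  have h2 := (isLocallyConstant_chi_of_isInvertible f _ hMi).isOpen_fiber
    (Groth.Agent.Lib.R2H4SnapperFam.chi f M y₀)
  have h3 := (isLocallyConstant_chi_of_isInvertible f _ hMM).isOpen_fiber
    (Groth.Agent.Lib.R2H4SnapperFam.chi f (CohB1.tensorMod M M) y₀)
  refine ⟨⟨_, (h1.inter h2).inter h3⟩, ⟨⟨rfl, rfl⟩, rfl⟩, fun y hy => ?_⟩
  obtain ⟨⟨hy1, hy2⟩, hy3⟩ := hy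
  rw [key y, key y₀]
  have a1 : Groth.Agent.Lib.R2H4SnapperFam.chi f (Coh.structureModule X) y =
      Groth.Agent.Lib.R2H4SnapperFam.chi f (Coh.structureModule X) y₀ := hy1
  have a2 : Groth.Agent.Lib.R2H4SnapperFam.chi f M y =
      Groth.Agent.Lib.R2H4SnapperFam.chi f M y₀ := hy2
  have a3 : Groth.Agent.Lib.R2H4SnapperFam.chi f (CohB1.tensorMod M M) y =
      Groth.Agent.Lib.R2H4SnapperFam.chi f (CohB1.tensorMod M M) y₀ := hy3
  rw [a1, a2, a3]

end Main

end Groth.Agent.Lib.R2H4SelfInt
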