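import Mathlib
import Groth.Prelude
import Groth.Agent.S0034
import Groth.Agent.Lib.R2H4SelfInt
import Groth.Agent.Lib.Helper3LocusBC
import Groth.Agent.Lib.Helper3FlatFibDim2
import Groth.Agent.Lib.Helper2PullbackSec

/-!
# Base change invariance of the fibrewise Euler characteristic; algebraic equivalence preserves the degree (helper4)

* `chi_baseChange`: for a cartesian square `X' = X ×_S S'`, `χ(X'_{s'}, (p^*F)_{s'}) = χ(X_{a s'}, F_{a s'})`
  (flat base change `S0034` along the residue field extension);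
* `chi_congr`: isomorphic modules have the same fibrewise Euler characteristic;
* `main` (S12412): an invertible module on `C_T` which is algebraically equivalent to zero on the geometric fibre at
  `t` has degree zero on the fibre at `t`.
-/

set_option autoImplicit false
set_option linter.style.haveILetI false
set_option linter.unusedSectionVars false
universe u
open CategoryTheory CategoryTheory.Limits AlgebraicGeometry TopologicalSpace Opposite
open AlgebraicGeometry.Scheme.Modules

noncomputable section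

namespace Groth.Agent.Lib.R2H4ChiBC

open Groth.Agent.Lib.Helper23.SecTw Groth.Agent.Lib.Helper23.PB Groth.Agent.Lib.R2H4TensorPows
open Groth.Agent.Lib.R2H4SnapperFam (chi)

section ChiBC

variable {X S X' S' : Scheme.{u}} {u : X ⟶ S} {u' : X' ⟶ S'} {a : S' ⟶ S} {pX : X' ⟶ X}

theorem chi_congr {A B : X.Modules} (e : A ≅ B) (s : S) : chi u A s = chi u B s := by
  letI : (u.fiber s).Over (Spec (CommRingCat.of (S.residueField s))) :=
    ⟨u.fiberToSpecResidueField s⟩
  unfold Groth.Agent.Lib.R2H4SnapperFam.chi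
  exact Groth.Agent.Lib.R2H4SSDescent.euler_eq_of_iso
    ((Scheme.Modules.pullback (u.fiberι s)).mapIso e)

/-- base change invariance of the fibrewise Euler characteristic -/
theorem chi_baseChange (hX : IsPullback pX u' u a) [QuasiCompact u] [QuasiSeparated u]
    (F : X.Modules) [F.IsQuasicoherent] (s' : S') :
    chi u' ((Scheme.Modules.pullback pX).obj F) s' = chi u F (a s') := by
  obtain ⟨eX, h1, -, h3⟩ := Groth.Agent.Lib.Helper3.LocusBC.exists_fiber_lift hX s'
  letI : Algebra (S.residueField (a s')) (S'.residueField s') :=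
    (a.residueFieldMap s').hom.toAlgebra
  letI : (u.fiber (a s')).Over (Spec (CommRingCat.of (S.residueField (a s')))) :=
    ⟨u.fiberToSpecResidueField (a s')⟩
  letI : (u'.fiber s').Over (Spec (CommRingCat.of (S'.residueField s'))) :=
    ⟨u'.fiberToSpecResidueField s'⟩
  haveI : QuasiCompact (u.fiberToSpecResidueField (a s')) :=
    inferInstanceAs (QuasiCompact (pullback.snd u (S.fromSpecResidueField (a s'))))
  haveI : QuasiSeparated (u.fiberToSpecResidueField (a s')) :=
    inferInstanceAs (QuasiSeparated (pullback.snd u (S.fromSpecResidueField (a s'))))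
  haveI : CompactSpace (u.fiber (a s')) :=
    QuasiCompact.compactSpace_of_compactSpace (u.fiberToSpecResidueField (a s'))
  haveI : QuasiSeparatedSpace (u.fiber (a s')) :=
    quasiSeparatedSpace_of_quasiSeparated (u.fiberToSpecResidueField (a s'))
  haveI : Coh.IsQCoh ((Scheme.Modules.pullback (u.fiberι (a s'))).obj F) :=
    Groth.Agent.Lib.Helper2.PullbackSec.isQuasicoherent_pullback _ F
  have hpb : IsPullback eX ((u'.fiber s') ↘ Spec (CommRingCat.of (S'.residueField s')))
      ((u.fiber (a s')) ↘ Spec (CommRingCat.of (S.residueField (a s'))))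
      (Spec.map (CommRingCat.ofHom (algebraMap (S.residueField (a s')) (S'.residueField s')))) := h3
  have key := Groth.Agent.Lib.R2H4BCGlue.euler_eq (k := S.residueField (a s'))
    (k' := S'.residueField s') eX ((Scheme.Modules.pullback (u.fiberι (a s'))).obj F)
    (fun i => Groth.Agent.S0034.result (S.residueField (a s')) (S'.residueField s')
      (u.fiber (a s')) (u'.fiber s') eX hpb _ i)
  unfold Groth.Agent.Lib.R2H4SnapperFam.chi
  rw [← key]
  exact Groth.Agent.Lib.R2H4SSDescent.euler_eq_of_iso
    ((Scheme.Modules.pullbackComp (u'.fiberι s') pX).app F ≪≫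
      (Scheme.Modules.pullbackCongr h1.symm).app F ≪≫
      ((Scheme.Modules.pullbackComp eX (u.fiberι (a s'))).app F).symm)

end ChiBC

section Main

variable {C S : Scheme.{u}} (f : C ⟶ S) [IsProper f] [Smooth f]

/-- a geometric point over a given point -/
theorem exists_geometric_point {T : Scheme.{u}} (t : T) :
    ∃ (Ω : Type u) (_ : Field Ω) (_ : IsAlgClosed Ω) (σ : Spec (CommRingCat.of Ω) ⟶ T),
      Set.range σ.base = {t} := by
  refine ⟨AlgebraicClosure (T.residueField t), inferInstance, inferInstance,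
    Spec.map (CommRingCat.ofHom (algebraMap (T.residueField t)
      (AlgebraicClosure (T.residueField t)))) ≫ T.fromSpecResidueField t, ?_⟩
  ext x
  simp only [Set.mem_range, Set.mem_singleton_iff]
  constructor
  · rintro ⟨y, rfl⟩
    rw [Scheme.Hom.comp_apply]
    exact Scheme.fromSpecResidueField_apply t _
  · rintro rfl
    refine ⟨IsLocalRing.closedPoint _, ?_⟩
    rw [Scheme.Hom.comp_apply]
    exact Scheme.fromSpecResidueField_apply x _

/-- the slice square is cartesian -/
theorem isPullback_sliceAt (k : Type u) [Field k] (X : Scheme.{u}) [X.Over (Spec (CommRingCat.of k))]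
    {T : Scheme.{u}} (q : T ⟶ Spec (CommRingCat.of k)) (t : Spec (CommRingCat.of k) ⟶ T)
    (ht : t ≫ q = 𝟙 _) :
    IsPullback (Pic13.sliceAt k X q t ht) (X ↘ Spec (CommRingCat.of k))
      (pullback.snd (X ↘ Spec (CommRingCat.of k)) q) t := by
  refine IsPullback.of_right (h₁₂ := pullback.fst (X ↘ Spec (CommRingCat.of k)) q) (h₂₂ := q)
    (v₁₃ := X ↘ Spec (CommRingCat.of k)) ?_ ?_ (IsPullback.of_hasPullback _ _)
  · have e1 : Pic13.sliceAt k X q t ht ≫ pullback.fst (X ↘ Spec (CommRingCat.of k)) q = 𝟙 X :=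
      pullback.lift_fst _ _ _
    rw [e1, ht]
    exact IsPullback.id_horiz _
  · exact pullback.lift_snd _ _ _

/-- algebraic equivalence to zero over an algebraically closed field preserves the Euler characteristic -/
theorem chi_eq_of_isAlgEquivZero (Ω : Type u) [Field Ω] (X : Scheme.{u}) (gΩ : X ⟶ Spec (CommRingCat.of Ω))
    [IsProper gΩ] [LocallyOfFinitePresentation gΩ] (N : X.Modules)
    (h : @Pic13.IsAlgEquivZero Ω _ X ⟨gΩ⟩ N) (x₀ : Spec (CommRingCat.of Ω)) :
    chi gΩ N x₀ = chi gΩ (Coh.structureModule X) x₀ := by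
  letI : X.Over (Spec (CommRingCat.of Ω)) := ⟨gΩ⟩
  obtain ⟨T', q, hconn, hlft, hqc, M, hM, t₁, t₀, ht₁, ht₀, ⟨e₁⟩, ⟨e₀⟩⟩ := h
  haveI := hconn
  haveI : Flat gΩ := inferInstance
  let p₂ : Pic13.prodK Ω X q ⟶ T' := pullback.snd (X ↘ Spec (CommRingCat.of Ω)) q
  haveI : IsProper p₂ := inferInstanceAs (IsProper (pullback.snd gΩ q))
  haveI : Flat p₂ := inferInstanceAs (Flat (pullback.snd gΩ q))
  haveI : LocallyOfFinitePresentation p₂ :=
    inferInstanceAs (LocallyOfFinitePresentation (pullback.snd gΩ q))
  haveI : M.IsQuasicoherent := isQuasicoherent_of_isInvertible M hM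
  have hlc := Groth.Agent.Lib.R2H4SelfInt.isLocallyConstant_chi_of_isInvertible p₂ M hM
  have hx : ∀ (t : Spec (CommRingCat.of Ω) ⟶ T') (ht : t ≫ q = 𝟙 _),
      chi gΩ (Pic13.fibreMod Ω X q t ht M) x₀ = chi p₂ M (t x₀) := fun t ht =>
    chi_baseChange (isPullback_sliceAt Ω X q t ht) M x₀
  rw [← chi_congr e₁ x₀, ← chi_congr e₀ x₀, hx t₁ ht₁, hx t₀ ht₀]
  exact hlc.apply_eq_of_preconnectedSpace _ _

/-- **S12412** -/
theorem main (hdim : ∀ s : S, topologicalKrullDim ↥(f.fiber s) = 1)
    (T : Over S) (L : (PicF.XT f T).Modules) (hL : PicF.IsInvertible L) (t : T.left)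
    (h0 : AbDual.IsAlgTrivialAt (PicF.XTproj f T) L t) :
    FGA.eulerCharLE (T.left.residueField t) (FGA.fibreAt f T t).left (FGA.restrFibre f T t L) 1 =
      FGA.eulerCharLE (T.left.residueField t) (FGA.fibreAt f T t).left
        (Coh.structureModule (FGA.fibreAt f T t).left) 1 := by
  let g : PicF.XT f T ⟶ T.left := PicF.XTproj f T
  haveI : IsProper g := inferInstanceAs (IsProper (pullback.snd f T.hom))
  haveI : Smooth g := inferInstanceAs (Smooth (pullback.snd f T.hom))
  haveI : Flat g := inferInstance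
  haveI : LocallyOfFinitePresentation g := inferInstance
  haveI : L.IsQuasicoherent := isQuasicoherent_of_isInvertible L hL
  haveI : (Coh.structureModule (PicF.XT f T)).IsQuasicoherent :=
    Groth.Agent.Lib.Helper23.Serre.isQuasicoherent_structureModule' _
  -- the fibre has dimension one
  have hd : topologicalKrullDim ↥(g.fiber t) ≤ (1 : ℕ) := by
    have := Groth.Agent.Lib.Helper3.FlatFibDim2.dim_fiber_eq_of_isPullback f T.hom g
      (pullback.fst f T.hom) (IsPullback.of_hasPullback f T.hom) t
    rw [this, hdim]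
    rfl
  -- reduce to the fibrewise Euler characteristics
  have eL := Groth.Agent.Lib.R2H4SelfInt.eulerCharLE_fibre g 1 t hd L _ (Iso.refl _)
  have eO := Groth.Agent.Lib.R2H4SelfInt.eulerCharLE_fibre g 1 t hd
    (Coh.structureModule (PicF.XT f T)) _ (pullbackUnitIso (g.fiberι t))
  refine (eL.trans ?_).trans eO.symm
  -- pass to a geometric point
  obtain ⟨Ω, _, _, σ, hσ⟩ := exists_geometric_point t
  have h1 := h0 Ω σ hσ
  let x₀ : Spec (CommRingCat.of Ω) := IsLocalRing.closedPoint Ω
  have hx₀ : σ x₀ = t := by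
    have : σ x₀ ∈ Set.range σ.base := ⟨x₀, rfl⟩
    rw [hσ] at this
    exact this
  let gΩ : pullback g σ ⟶ Spec (CommRingCat.of Ω) := pullback.snd g σ
  haveI : IsProper gΩ := inferInstanceAs (IsProper (pullback.snd g σ))
  haveI : LocallyOfFinitePresentation gΩ :=
    inferInstanceAs (LocallyOfFinitePresentation (pullback.snd g σ))
  have h2 := chi_eq_of_isAlgEquivZero Ω (pullback g σ) gΩ _ h1 x₀
  have hsq : IsPullback (pullback.fst g σ) gΩ g σ := IsPullback.of_hasPullback g σ
  have h3 := chi_baseChange hsq L x₀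
  have h4 := chi_baseChange hsq (Coh.structureModule (PicF.XT f T)) x₀
  rw [hx₀] at h3 h4
  rw [← h3, ← h4, h2]
  exact chi_congr (pullbackUnitIso (pullback.fst g σ)).symm x₀

end Main

end Groth.Agent.Lib.R2H4ChiBC
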