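import Mathlib
import Groth.Agent.Lib.H9Slice
import Groth.Agent.Lib.R2H4QFCover

/-!
# Completely decomposed morphisms of finite presentation have a finite stratification with
sections (helper4, round 2)

* `exists_fg_le_map`, `ring_section`: a point of a finitely presented `A`-algebra with values in
  a field birational to `A/p` extends to a point with values in `(A_s)/(I A_s)`, `s ∉ p`, `I ≤ p`
  finitely generated.
* `exists_piece`: scheme form (affine finitely presented locally closed piece of the base through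
  `f x` over which `f` has a section).
* `main1440` (= S1440): Chevalley + compactness of the constructible topology
  (`R2H4QFCover.exists_finset_cover`).
-/

set_option autoImplicit false
set_option linter.style.haveILetI false
universe u
open CategoryTheory CategoryTheory.Limits AlgebraicGeometry TopologicalSpace

namespace Groth.Agent.Lib.R2H4.ComplDecomp


/-- a finitely generated ideal inside `p.map g` is inside `I.map g` for a finitely generated
`I ≤ p` -/
theorem exists_fg_le_map {A L : Type u} [CommRing A] [CommRing L] (g : A →+* L) (p : Ideal A)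
    (N : Ideal L) (hN : N.FG) (hle : N ≤ p.map g) :
    ∃ I : Ideal A, I ≤ p ∧ I.FG ∧ N ≤ I.map g := by
  classical
  obtain ⟨G, rfl⟩ := hN
  have key : ∀ x ∈ G, ∃ T : Finset A, (T : Set A) ⊆ p ∧ x ∈ (Ideal.span (T : Set A)).map g := by
    intro x hx
    have hx' : x ∈ p.map g := hle (Ideal.subset_span hx)
    rw [Ideal.map, Ideal.span] at hx'
    obtain ⟨T, hT, hxT⟩ := Submodule.mem_span_finite_of_mem_span hx'
    obtain ⟨T', hT', rfl⟩ := Finset.subset_set_image_iff.mp hT
    refine ⟨T', hT', ?_⟩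
    rw [Ideal.map_span]
    rw [Finset.coe_image] at hxT
    exact hxT
  choose! T hTp hTx using key
  refine ⟨Ideal.span (⋃ x ∈ G, (T x : Set A)), ?_, ?_, ?_⟩
  · rw [Ideal.span_le]
    intro a ha
    simp only [Set.mem_iUnion] at ha
    obtain ⟨x, hx, hax⟩ := ha
    exact hTp x hx hax
  · refine ⟨G.biUnion T, ?_⟩
    simp [Finset.coe_biUnion]
  · rw [Ideal.span_le]
    intro x hx
    have h1 : Ideal.span (T x : Set A) ≤ Ideal.span (⋃ x ∈ G, (T x : Set A)) :=
      Ideal.span_mono (Set.subset_biUnion_of_mem (u := fun x => (T x : Set A)) hx)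
    exact Ideal.map_mono h1 (hTx x hx)

/-- **Spreading out a rational point**: a point of a finitely presented `A`-algebra `B` with values
in a field `K` "birational" to `A/p` extends to a `B`-point of `(A_s)/(I A_s)` for some `s ∉ p`
and some finitely generated `I ≤ p`. -/
theorem ring_section (A B K : Type u) [CommRing A] [CommRing B] [Field K] [Algebra A B]
    [Algebra B K] [Algebra A K] [IsScalarTower A B K] [Algebra.FinitePresentation A B]
    (p : Ideal A) [p.IsPrime] (hker : ∀ a : A, algebraMap A K a = 0 ↔ a ∈ p)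
    (hK : ∀ b : B, ∃ a s : A, s ∉ p ∧ algebraMap B K b * algebraMap A K s = algebraMap A K a) :
    ∃ (s : A) (I : Ideal A), s ∉ p ∧ I ≤ p ∧ I.FG ∧
      Nonempty (B →ₐ[A] (Localization.Away s ⧸ I.map (algebraMap A (Localization.Away s)))) := by
  classical
  obtain ⟨n, φ, hφ, hfg⟩ := Algebra.FinitePresentation.out (R := A) (A := B)
  choose a s hs has using fun j : Fin n => hK (φ (MvPolynomial.X j))
  set s₀ : A := ∏ j, s j with hs₀
  have hs₀p : s₀ ∉ p := by
    rw [hs₀]
    intro h
    obtain ⟨j, -, hj⟩ := (Ideal.IsPrime.prod_mem_iff).mp h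
    exact hs j hj
  let L := Localization.Away s₀
  have hunit : ∀ j, IsUnit (algebraMap A L (s j)) := by
    intro j
    have h1 : IsUnit (algebraMap A L s₀) := IsLocalization.Away.algebraMap_isUnit s₀
    have h2 : s j ∣ s₀ := Finset.dvd_prod_of_mem s (Finset.mem_univ j)
    obtain ⟨c, hc⟩ := h2
    have h3 : algebraMap A L s₀ = algebraMap A L (s j) * algebraMap A L c := by
      rw [← map_mul, ← hc]
    rw [h3] at h1
    exact isUnit_of_mul_isUnit_left h1
  let t : Fin n → L := fun j => algebraMap A L (a j) * ↑((hunit j).unit⁻¹)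
  have ht : ∀ j, t j * algebraMap A L (s j) = algebraMap A L (a j) := by
    intro j
    change algebraMap A L (a j) * ↑((hunit j).unit⁻¹) * algebraMap A L (s j) = _
    rw [mul_assoc, IsUnit.val_inv_mul, mul_one]
  let τ : MvPolynomial (Fin n) A →ₐ[A] L := MvPolynomial.aeval t
  -- evaluation `L → K`
  have hsK : IsUnit (algebraMap A K s₀) := by
    rw [isUnit_iff_ne_zero]
    intro h
    exact hs₀p ((hker s₀).mp h)
  let ev : L →ₐ[A] K := IsLocalization.liftAlgHom (M := Submonoid.powers s₀)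
    (f := Algebra.ofId A K) (by
      rintro ⟨_, m, rfl⟩
      change IsUnit (algebraMap A K (s₀ ^ m))
      rw [map_pow]
      exact hsK.pow m)
  have hev : ∀ x : A, ev (algebraMap A L x) = algebraMap A K x := fun x => by
    simp [ev]
  have hcomp : ev.comp τ = (IsScalarTower.toAlgHom A B K).comp φ := by
    apply MvPolynomial.algHom_ext
    intro j
    change ev (MvPolynomial.aeval t (MvPolynomial.X j)) = algebraMap B K (φ (MvPolynomial.X j))
    rw [MvPolynomial.aeval_X]
    have h1 : ev (t j) * algebraMap A K (s j) = algebraMap A K (a j) := by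
      rw [← hev (s j), ← map_mul, ht j, hev]
    have h2 : algebraMap A K (s j) ≠ 0 := fun h => hs j ((hker (s j)).mp h)
    exact mul_right_cancel₀ h2 (h1.trans (has j).symm)
  have hkerev : ∀ x : L, ev x = 0 → x ∈ p.map (algebraMap A L) := by
    intro x hx
    obtain ⟨⟨c, ⟨_, m, rfl⟩⟩, hc⟩ := IsLocalization.surj (Submonoid.powers s₀) x
    have h1 : algebraMap A K c = 0 := by
      rw [← hev c, ← hc, map_mul, hx, zero_mul]
    have h2 : c ∈ p := (hker c).mp h1
    have h3 : IsUnit (algebraMap A L (s₀ ^ m)) := by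
      rw [map_pow]
      exact (IsLocalization.Away.algebraMap_isUnit s₀).pow m
    have h4 : x * algebraMap A L (s₀ ^ m) ∈ p.map (algebraMap A L) := by
      rw [hc]
      exact Ideal.mem_map_of_mem _ h2
    exact (Ideal.mul_unit_mem_iff_mem _ h3).mp h4
  have hle : (RingHom.ker φ.toRingHom).map τ.toRingHom ≤ p.map (algebraMap A L) := by
    rw [Ideal.map_le_iff_le_comap]
    intro f hf
    rw [Ideal.mem_comap]
    apply hkerev
    have h1 := congrArg (fun ψ => ψ f) hcomp
    change ev (τ f) = algebraMap B K (φ f) at h1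
    have hf' : φ f = 0 := hf
    change ev (τ f) = 0
    rw [h1, hf', map_zero]
  obtain ⟨I, hIp, hIfg, hNI⟩ := exists_fg_le_map (algebraMap A L) p
    ((RingHom.ker φ.toRingHom).map τ.toRingHom) (hfg.map _) hle
  refine ⟨s₀, I, hs₀p, hIp, hIfg, ⟨?_⟩⟩
  let e : (MvPolynomial (Fin n) A ⧸ RingHom.ker φ.toRingHom) ≃ₐ[A] B :=
    Ideal.quotientKerAlgEquivOfSurjective hφ
  let σ' : (MvPolynomial (Fin n) A ⧸ RingHom.ker φ.toRingHom) →ₐ[A]
      (L ⧸ I.map (algebraMap A L)) :=
    Ideal.Quotient.liftₐ (RingHom.ker φ.toRingHom)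
      ((Ideal.Quotient.mkₐ A (I.map (algebraMap A L))).comp τ) (by
        intro f hf
        change Ideal.Quotient.mk (I.map (algebraMap A L)) (τ f) = 0
        rw [Ideal.Quotient.eq_zero_iff_mem]
        exact hNI (Ideal.mem_map_of_mem τ.toRingHom hf))
  exact σ'.comp e.symm.toAlgHom





variable {X Y : Scheme.{u}}

set_option maxHeartbeats 1600000 in
/-- a point with trivial residue field extension lies on a finitely presented affine locally closed
subscheme of the base over which `f` has a section -/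
theorem exists_piece (f : X ⟶ Y) [LocallyOfFinitePresentation f] (x : X)
    (hx : Function.Bijective (f.residueFieldMap x)) :
    ∃ (R : CommRingCat.{u}) (z : Spec R ⟶ Y) (σ : Spec R ⟶ X), σ ≫ f = z ∧
      f x ∈ Set.range ⇑z ∧ IsImmersion z ∧ LocallyOfFinitePresentation z := by
  obtain ⟨_, ⟨V, hV, rfl⟩, hfxV, -⟩ :=
    Y.isBasis_affineOpens.exists_subset_of_mem_open (Set.mem_univ (f x)) isOpen_univ
  have hfxV' : f x ∈ V := hfxV
  obtain ⟨_, ⟨U, hU, rfl⟩, hxU, hUV⟩ :=
    X.isBasis_affineOpens.exists_subset_of_mem_open (show x ∈ f ⁻¹ᵁ V from hfxV) (f ⁻¹ᵁ V).2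
  have hxU' : x ∈ U := hxU
  have hUV' : U ≤ f ⁻¹ᵁ V := hUV
  set evB : Γ(X, U) →+* X.residueField x := (X.evaluation U x hxU').hom with hevB
  set evY : Γ(Y, V) →+* Y.residueField (f x) := (Y.evaluation V (f x) hfxV').hom with hevY
  set rfm : Y.residueField (f x) →+* X.residueField x := (f.residueFieldMap x).hom with hrfm
  letI algAB : Algebra Γ(Y, V) Γ(X, U) := (f.appLE V U hUV').hom.toAlgebra
  letI algBK : Algebra Γ(X, U) (X.residueField x) := evB.toAlgebra
  letI algAK : Algebra Γ(Y, V) (X.residueField x) := (evB.comp (f.appLE V U hUV').hom).toAlgebra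
  haveI : IsScalarTower Γ(Y, V) Γ(X, U) (X.residueField x) :=
    IsScalarTower.of_algebraMap_eq (fun _ => rfl)
  haveI : Algebra.FinitePresentation Γ(Y, V) Γ(X, U) :=
    HasRingHomProperty.appLE (P := @LocallyOfFinitePresentation) f inferInstance ⟨V, hV⟩
      ⟨U, hU⟩ hUV'
  set p : Ideal Γ(Y, V) := (hV.primeIdealOf ⟨f x, hfxV'⟩).asIdeal with hp
  haveI hpprime : p.IsPrime := (hV.primeIdealOf ⟨f x, hfxV'⟩).isPrime
  -- compatibility of the evaluations
  have hnat : ∀ a : Γ(Y, V), evB ((f.appLE V U hUV').hom a) = rfm (evY a) := by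
    intro a
    have h1 := Scheme.evaluation_naturality_apply f x hfxV' a
    refine Eq.trans ?_ h1.symm
    change (X.presheaf.germ U x hxU' ≫ X.residue x).hom ((f.appLE V U hUV').hom a) =
      (X.presheaf.germ (f ⁻¹ᵁ V) x hfxV' ≫ X.residue x).hom ((f.app V).hom a)
    simp only [Scheme.Hom.appLE, CommRingCat.hom_comp, RingHom.comp_apply]
    congr 1
    exact X.presheaf.germ_res_apply (homOfLE hUV') x hxU' _
  have hker : ∀ a : Γ(Y, V), algebraMap Γ(Y, V) (X.residueField x) a = 0 ↔ a ∈ p := by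
    intro a
    change evB ((f.appLE V U hUV').hom a) = 0 ↔ _
    rw [hnat a, map_eq_zero_iff rfm rfm.injective]
    change (Y.evaluation V (f x) hfxV') a = 0 ↔ _
    rw [Scheme.evaluation_eq_zero_iff_notMem_basicOpen]
    rw [← not_iff_not, not_not]
    exact (Groth.Agent.Lib.H9Slice.notMem_primeIdealOf_iff hV (f x) hfxV' a).symm
  have hK : ∀ b : Γ(X, U), ∃ a s : Γ(Y, V), s ∉ p ∧
      algebraMap Γ(X, U) (X.residueField x) b * algebraMap Γ(Y, V) (X.residueField x) s =
        algebraMap Γ(Y, V) (X.residueField x) a := by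
    intro b
    obtain ⟨k', hk'⟩ := hx.2 (evB b)
    obtain ⟨t, rfl⟩ := Y.residue_surjective (f x) k'
    letI : Algebra Γ(Y, V) (Y.presheaf.stalk (f x)) :=
      TopCat.Presheaf.algebra_section_stalk Y.presheaf ⟨f x, hfxV'⟩
    haveI : IsLocalization.AtPrime (Y.presheaf.stalk (f x)) p :=
      hV.isLocalization_stalk ⟨f x, hfxV'⟩
    obtain ⟨⟨a, s⟩, has⟩ := IsLocalization.surj p.primeCompl t
    refine ⟨a, s.1, s.2, ?_⟩
    change evB b * evB ((f.appLE V U hUV').hom s.1) = evB ((f.appLE V U hUV').hom a)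
    rw [hnat, hnat]
    have h2 : evB b = rfm ((Y.residue (f x)).hom t) := hk'.symm
    rw [h2, ← map_mul]
    congr 1
    have h3 : evY s.1 = (Y.residue (f x)).hom ((Y.presheaf.germ V (f x) hfxV').hom s.1) := rfl
    have h4 : evY a = (Y.residue (f x)).hom ((Y.presheaf.germ V (f x) hfxV').hom a) := rfl
    rw [h3, h4, ← map_mul]
    congr 1
  obtain ⟨s₀, I, hs₀, hIp, hIfg, ⟨σr⟩⟩ :=
    ring_section Γ(Y, V) Γ(X, U) (X.residueField x) p hker hK
  set L := Localization.Away s₀ with hL
  set IL : Ideal L := I.map (algebraMap Γ(Y, V) L) with hIL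
  set φ₁ : Γ(Y, V) ⟶ CommRingCat.of L := CommRingCat.ofHom (algebraMap Γ(Y, V) L) with hφ₁
  set φ₂ : CommRingCat.of L ⟶ CommRingCat.of (L ⧸ IL) :=
    CommRingCat.ofHom (Ideal.Quotient.mk IL) with hφ₂
  set σc : Γ(X, U) ⟶ CommRingCat.of (L ⧸ IL) := CommRingCat.ofHom σr.toRingHom with hσc
  have hcommr : f.appLE V U hUV' ≫ σc = φ₁ ≫ φ₂ := by
    ext a
    change σr (algebraMap Γ(Y, V) Γ(X, U) a) = Ideal.Quotient.mk IL (algebraMap Γ(Y, V) L a)
    rw [σr.commutes]
    rfl
  haveI : IsOpenImmersion hV.fromSpec := IsAffineOpen.isOpenImmersion_fromSpec hV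
  haveI : IsOpenImmersion (Spec.map φ₁) :=
    Scheme.isOpenImmersion_SpecMap_localizationAway (R := Γ(Y, V)) s₀
  haveI : IsClosedImmersion (Spec.map φ₂) :=
    IsClosedImmersion.spec_of_surjective φ₂ Ideal.Quotient.mk_surjective
  refine ⟨CommRingCat.of (L ⧸ IL), Spec.map φ₂ ≫ Spec.map φ₁ ≫ hV.fromSpec,
    Spec.map σc ≫ hU.fromSpec, ?_, ?_, inferInstance, ?_⟩
  · rw [Category.assoc, ← IsAffineOpen.SpecMap_appLE_fromSpec f hV hU hUV', ← Category.assoc,
      ← Spec.map_comp, hcommr, Spec.map_comp, Category.assoc]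
  · -- the point
    set ψ : Γ(Y, V) →+* (L ⧸ IL) := (φ₁ ≫ φ₂).hom with hψ
    have hdisj : Disjoint (Submonoid.powers s₀ : Set Γ(Y, V)) (p : Set Γ(Y, V)) := by
      rw [Set.disjoint_left]
      rintro _ ⟨m, rfl⟩ hm
      exact hs₀ (hpprime.mem_of_pow_mem m hm)
    have hmem : hV.primeIdealOf ⟨f x, hfxV'⟩ ∈ Set.range (PrimeSpectrum.comap ψ) := by
      rw [PrimeSpectrum.mem_range_comap_iff]
      apply le_antisymm _ Ideal.le_comap_map
      intro a ha
      rw [Ideal.mem_comap] at ha
      have h1 : Ideal.map ψ p = (p.map (algebraMap Γ(Y, V) L)).map (Ideal.Quotient.mk IL) := by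
        rw [Ideal.map_map]
        rfl
      have h2 : ψ a = Ideal.Quotient.mk IL (algebraMap Γ(Y, V) L a) := rfl
      rw [h1, h2, Ideal.mem_quotient_iff_mem_sup] at ha
      have h3 : p.map (algebraMap Γ(Y, V) L) ⊔ IL = p.map (algebraMap Γ(Y, V) L) :=
        sup_eq_left.mpr (Ideal.map_mono hIp)
      rw [h3] at ha
      have h4 := IsLocalization.under_map_of_isPrime_disjoint (Submonoid.powers s₀) L hpprime hdisj
      have h5 : a ∈ (Ideal.map (algebraMap Γ(Y, V) L) p).under Γ(Y, V) := ha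
      rw [h4] at h5
      exact h5
    obtain ⟨Q, hQ⟩ := hmem
    refine ⟨Q, ?_⟩
    rw [← Category.assoc, ← Spec.map_comp, Scheme.Hom.comp_apply]
    have h6 : Spec.map (φ₁ ≫ φ₂) Q = hV.primeIdealOf ⟨f x, hfxV'⟩ := hQ
    rw [h6]
    exact hV.fromSpec_primeIdealOf ⟨f x, hfxV'⟩
  · haveI : LocallyOfFinitePresentation (Spec.map φ₂) := by
      rw [HasRingHomProperty.Spec_iff (P := @LocallyOfFinitePresentation)]
      refine RingHom.FinitePresentation.of_surjective _ Ideal.Quotient.mk_surjective ?_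
      rw [hφ₂, CommRingCat.hom_ofHom, Ideal.mk_ker]
      exact hIfg.map _
    infer_instance





variable {X Y : Scheme.{u}}

set_option maxHeartbeats 1600000 in
theorem main1440 (f : X ⟶ Y) [LocallyOfFinitePresentation f] [CompactSpace ↑Y]
    [QuasiSeparatedSpace ↑Y]
    (hcd : ∀ y : Y, ∃ x : X, f x = y ∧ Function.Bijective (f.residueFieldMap x)) :
    ∃ (n : ℕ) (Z : Fin n → Scheme.{u}) (z : ∀ i, Z i ⟶ Y),
      (∀ y : Y, ∃ i, y ∈ Set.range ⇑(z i)) ∧
      ∀ i, IsImmersion (z i) ∧ LocallyOfFinitePresentation (z i) ∧ QuasiCompact (z i) ∧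
        QuasiSeparated (z i) ∧
        ∃ s : Z i ⟶ pullback f (z i), s ≫ pullback.snd f (z i) = 𝟙 (Z i) := by
  have key : ∀ y : Y, ∃ (R : CommRingCat.{u}) (z : Spec R ⟶ Y) (σ : Spec R ⟶ X), σ ≫ f = z ∧
      y ∈ Set.range ⇑z ∧ IsImmersion z ∧ LocallyOfFinitePresentation z := by
    intro y
    obtain ⟨x, hxy, hx⟩ := hcd y
    obtain ⟨R, z, σ, h1, h2, h3, h4⟩ := exists_piece f x hx
    exact ⟨R, z, σ, h1, hxy ▸ h2, h3, h4⟩
  choose R z σ hcomm hmem himm hlfp using key
  have hC : ∀ y, Topology.IsConstructible (Set.range ⇑(z y)) := by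
    intro y
    haveI := hlfp y
    have := (z y).isConstructible_image (s := Set.univ) Topology.IsConstructible.univ
    rwa [Set.image_univ] at this
  obtain ⟨t, ht⟩ := Groth.Agent.Lib.R2H4.QFCover.exists_finset_cover
    (fun y => Set.range ⇑(z y)) hC (fun y => ⟨y, hmem y⟩)
  let e : {y // y ∈ t} ≃ Fin t.card := t.equivFin
  refine ⟨t.card, fun i => Spec (R (e.symm i).1), fun i => z (e.symm i).1, fun y => ?_,
    fun i => ?_⟩
  · obtain ⟨y₀, hy₀, hy⟩ := ht y
    refine ⟨e ⟨y₀, hy₀⟩, ?_⟩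
    change y ∈ Set.range ⇑(z (e.symm (e ⟨y₀, hy₀⟩)).1)
    rw [Equiv.symm_apply_apply]
    exact hy
  · haveI := himm (e.symm i).1
    refine ⟨himm _, hlfp _, inferInstance, inferInstance, ?_⟩
    refine ⟨pullback.lift (σ (e.symm i).1) (𝟙 _) ?_, pullback.lift_snd _ _ _⟩
    rw [hcomm, Category.id_comp]


end Groth.Agent.Lib.R2H4.ComplDecomp
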