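import Mathlib

namespace Groth.Agent.Lib.R2H4ConstFlat

open CategoryTheory Opposite Limits

universe u

variable {C : Type u} [SmallCategory C] (J : GrothendieckTopology C)
variable (Λ : Type u) [CommRing Λ]

instance : PreservesFiniteLimits (constantSheaf J (ModuleCat.{u} Λ)) :=
  inferInstanceAs (PreservesFiniteLimits (Functor.const Cᵒᵖ ⋙ presheafToSheaf J (ModuleCat.{u} Λ)))

/-- sections of constant sheaf functor -/
noncomputable abbrev F (U : C) : ModuleCat.{u} Λ ⥤ ModuleCat.{u} Λ :=
  constantSheaf J (ModuleCat.{u} Λ) ⋙ (sheafSections J (ModuleCat.{u} Λ)).obj (op U)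

instance (U : C) : PreservesFiniteLimits (F J Λ U) := by
  haveI : PreservesFiniteLimits ((sheafSections J (ModuleCat.{u} Λ)).obj (op U)) :=
    inferInstanceAs (PreservesFiniteLimits (sheafToPresheaf J (ModuleCat.{u} Λ) ⋙
      (evaluation _ _).obj (op U)))
  exact comp_preservesFiniteLimits _ _

/-- the map of sheaves of sets induced by a map of sets -/
noncomputable def setMap {B' C' : ModuleCat.{u} Λ} (σ : C' → B') :
    (sheafCompose J (forget (ModuleCat.{u} Λ))).obj ((constantSheaf J (ModuleCat.{u} Λ)).obj C') ⟶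
      (sheafCompose J (forget (ModuleCat.{u} Λ))).obj ((constantSheaf J (ModuleCat.{u} Λ)).obj B') :=
  (constantCommuteCompose J (forget (ModuleCat.{u} Λ))).hom.app C' ≫
    (constantSheaf J (Type u)).map (TypeCat.ofHom σ) ≫
      (constantCommuteCompose J (forget (ModuleCat.{u} Λ))).inv.app B'

lemma setMap_comp {B' C' : ModuleCat.{u} Λ} (g : B' ⟶ C') (σ : C' → B') (hσ : ∀ c, g.hom (σ c) = c) :
    setMap J Λ σ ≫ (sheafCompose J (forget (ModuleCat.{u} Λ))).map
      ((constantSheaf J (ModuleCat.{u} Λ)).map g) = 𝟙 _ := by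
  have hnat := (constantCommuteCompose J (forget (ModuleCat.{u} Λ))).inv.naturality g
  change (constantSheaf J (Type u)).map ((forget (ModuleCat.{u} Λ)).map g) ≫ _ =
    _ ≫ (sheafCompose J (forget (ModuleCat.{u} Λ))).map
      ((constantSheaf J (ModuleCat.{u} Λ)).map g) at hnat
  rw [setMap, Category.assoc, Category.assoc, ← hnat,
    ← Category.assoc ((constantSheaf J (Type u)).map _), ← Functor.map_comp]
  have h1 : TypeCat.ofHom σ ≫ (forget (ModuleCat.{u} Λ)).map g = 𝟙 _ := by
    ext c
    exact hσ c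
  rw [h1]
  have h2 : (constantSheaf J (Type u)).map (𝟙 ((forget (ModuleCat.{u} Λ)).obj C')) = 𝟙 _ :=
    CategoryTheory.Functor.map_id _ _
  erw [h2, Category.id_comp]
  exact (constantCommuteCompose J (forget (ModuleCat.{u} Λ))).hom_inv_id_app C'

/-- sections of constant sheaves are surjective along surjections -/
lemma surjective_sections {B' C' : ModuleCat.{u} Λ} (g : B' ⟶ C')
    (hg : Function.Surjective g.hom) (U : C) :
    Function.Surjective ((F J Λ U).map g).hom := by
  intro t
  have hσ : ∀ c, g.hom (Function.surjInv hg c) = c := Function.surjInv_eq hg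
  refine ⟨(setMap J Λ (Function.surjInv hg)).hom.app (op U) t, ?_⟩
  have := congrArg (fun m => m.hom.app (op U) t) (setMap_comp J Λ g _ hσ)
  exact this

instance (U : C) : (F J Λ U).Additive := Functor.additive_of_preserves_binary_products _

lemma map_shortExact (U : C) (S : ShortComplex (ModuleCat.{u} Λ)) (hS : S.ShortExact) :
    (S.map (F J Λ U)).ShortExact := by
  haveI := hS.mono_f
  haveI := hS.epi_g
  refine ShortComplex.ShortExact.mk' ?_ ?_ ?_
  · exact hS.exact.map_of_mono_of_preservesKernel _ hS.mono_f inferInstance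
  · exact inferInstanceAs (Mono ((F J Λ U).map S.f))
  · rw [ModuleCat.epi_iff_surjective]
    exact surjective_sections J Λ S.g ((ModuleCat.epi_iff_surjective _).1 hS.epi_g) U

lemma map_exact (U : C) (S : ShortComplex (ModuleCat.{u} Λ)) (hS : S.Exact) :
    (S.map (F J Λ U)).Exact := by
  have h := (Functor.exact_tfae (F J Λ U)).out 0 1
  exact h.1 (map_shortExact J Λ U) S hS

/-- `F` is `Λ`-linear on scalar endomorphisms. -/
lemma map_smul_id (U : C) (N : ModuleCat.{u} Λ) (c : Λ) :
    (F J Λ U).map (c • 𝟙 N) = c • 𝟙 _ := by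
  have h1 : (Functor.const Cᵒᵖ).map (c • 𝟙 N) = c • 𝟙 ((Functor.const Cᵒᵖ).obj N) := by
    ext V
    simp
  have h2 : sheafifyMap J (c • 𝟙 ((Functor.const Cᵒᵖ).obj N)) =
      c • 𝟙 (sheafify J ((Functor.const Cᵒᵖ).obj N)) := by
    apply sheafify_hom_ext J _ _ ((presheafToSheaf J (ModuleCat.{u} Λ)).obj _).cond
    rw [← toSheafify_naturality]
    simp [Linear.smul_comp, Linear.comp_smul]
  show ((presheafToSheaf J (ModuleCat.{u} Λ)).map ((Functor.const Cᵒᵖ).map (c • 𝟙 N))).hom.app
    (op U) = _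
  rw [h1]
  show (sheafifyMap J (c • 𝟙 ((Functor.const Cᵒᵖ).obj N))).app (op U) = _
  rw [h2]
  simp
  rfl

lemma map_smul (U : C) {N N' : ModuleCat.{u} Λ} (g : N ⟶ N') (c : Λ) :
    (F J Λ U).map (c • g) = c • (F J Λ U).map g := by
  have : c • g = g ≫ (c • 𝟙 N') := by simp [Linear.comp_smul]
  rw [this, Functor.map_comp, map_smul_id]
  simp [Linear.comp_smul]

section Alg

variable {Λ}
variable (M : Type u) [AddCommGroup M] [Module Λ M]

/-- `(gM y) i = ∑ j, a j i • y j` -/
def gM {k l : ℕ} (a : Fin k → Fin l → Λ) : (Fin k → M) →ₗ[Λ] (Fin l → M) :=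
  LinearMap.pi fun i => ∑ j, a j i • LinearMap.proj j

/-- `hM x = ∑ i, f i • x i` -/
def hM {l : ℕ} (f : Fin l → Λ) : (Fin l → M) →ₗ[Λ] M := ∑ i, f i • LinearMap.proj i

lemma gM_apply {k l : ℕ} (a : Fin k → Fin l → Λ) (y : Fin k → M) (i : Fin l) :
    gM M a y i = ∑ j, a j i • y j := by
  simp [gM]

lemma hM_apply {l : ℕ} (f : Fin l → Λ) (x : Fin l → M) : hM M f x = ∑ i, f i • x i := by
  simp [hM]

lemma hM_gM {k l : ℕ} (f : Fin l → Λ) (a : Fin k → Fin l → Λ)
    (ha : ∀ j, ∑ i, a j i * f i = 0) : hM M f ∘ₗ gM M a = 0 := by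
  refine LinearMap.ext fun y => ?_
  simp only [LinearMap.comp_apply, hM_apply, gM_apply, LinearMap.zero_apply, Finset.smul_sum,
    smul_smul]
  rw [Finset.sum_comm]
  have : ∀ j, ∑ i, (f i * a j i) • y j = 0 := by
    intro j
    rw [← Finset.sum_smul]
    have := ha j
    simp only [mul_comm] at this ⊢
    rw [this, zero_smul]
  simp [this]

lemma exact_M [Module.Flat Λ M] {k l : ℕ} (f : Fin l → Λ) (a : Fin k → Fin l → Λ)
    (hspan : Submodule.span Λ (Set.range a) = LinearMap.ker (Fintype.linearCombination Λ f))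
    (x : Fin l → M) (hx : hM M f x = 0) : ∃ y, gM M a y = x := by
  rw [hM_apply] at hx
  obtain ⟨k', a', y', h1, h2⟩ := Module.Flat.isTrivialRelation_of_sum_smul_eq_zero hx
  have hmem : ∀ j, (fun i => a' i j) ∈ Submodule.span Λ (Set.range a) := by
    intro j
    rw [hspan, LinearMap.mem_ker, Fintype.linearCombination_apply]
    simpa [mul_comm] using h2 j
  choose c hc using fun j => (Submodule.mem_span_range_iff_exists_fun Λ).1 (hmem j)
  refine ⟨fun t => ∑ j, c j t • y' j, ?_⟩
  ext i
  rw [gM_apply, h1 i]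
  simp only [Finset.smul_sum, smul_smul]
  rw [Finset.sum_comm]
  refine Finset.sum_congr rfl fun j _ => ?_
  rw [← Finset.sum_smul]
  congr 1
  have := congrFun (hc j) i
  simp only [Finset.sum_apply, Pi.smul_apply, smul_eq_mul] at this
  rw [← this]
  refine Finset.sum_congr rfl fun t _ => mul_comm _ _

end Alg

theorem flat_sections (hΛ : ∀ I : Ideal Λ, I.FG → Module.FinitePresentation Λ I)
    (M : Type u) [AddCommGroup M] [Module Λ M] [Module.Flat Λ M] (U : C) :
    Module.Flat Λ ((F J Λ U).obj (ModuleCat.of Λ M)) := by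
  rw [Module.Flat.iff_forall_isTrivialRelation]
  intro l f s hs
  let φ : (Fin l → Λ) →ₗ[Λ] Λ := Fintype.linearCombination Λ f
  have hI : (LinearMap.range φ).FG := by
    rw [← Submodule.map_top]
    exact Submodule.FG.map _ Module.Finite.fg_top
  haveI : Module.FinitePresentation Λ (LinearMap.range φ) := hΛ (LinearMap.range φ) hI
  have hker : (LinearMap.ker φ).FG := by
    have := Module.FinitePresentation.fg_ker φ.rangeRestrict (LinearMap.surjective_rangeRestrict φ)
    rwa [LinearMap.ker_rangeRestrict] at this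
  obtain ⟨k, a, ha⟩ := Submodule.fg_iff_exists_fin_generating_family.1 hker
  have ha0 : ∀ j, ∑ i, a j i * f i = 0 := by
    intro j
    have : a j ∈ LinearMap.ker φ := by
      rw [← ha]
      exact Submodule.subset_span ⟨j, rfl⟩
    simpa [φ, Fintype.linearCombination_apply] using this
  let S : ShortComplex (ModuleCat.{u} Λ) :=
    ShortComplex.mk (ModuleCat.ofHom (gM M a)) (ModuleCat.ofHom (hM M f)) (by
      rw [← ModuleCat.ofHom_comp, hM_gM M f a ha0]; rfl)
  have hS : S.Exact := by
    rw [ShortComplex.moduleCat_exact_iff]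
    intro x hx
    exact exact_M M f a ha x hx
  have hFS := map_exact J Λ U S hS
  rw [ShortComplex.moduleCat_exact_iff] at hFS
  let ι : ∀ i : Fin l, ModuleCat.of Λ M ⟶ ModuleCat.of Λ (Fin l → M) :=
    fun i => ModuleCat.ofHom (LinearMap.single Λ (fun _ => M) i)
  let π : ∀ i : Fin l, ModuleCat.of Λ (Fin l → M) ⟶ ModuleCat.of Λ M :=
    fun i => ModuleCat.ofHom (LinearMap.proj i)
  let π' : ∀ j : Fin k, ModuleCat.of Λ (Fin k → M) ⟶ ModuleCat.of Λ M :=
    fun j => ModuleCat.ofHom (LinearMap.proj j)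
  let t : (F J Λ U).obj (ModuleCat.of Λ (Fin l → M)) := ∑ i, ((F J Λ U).map (ι i)).hom (s i)
  have hιg : ∀ i, ι i ≫ S.g = f i • 𝟙 _ := by
    intro i
    ext m
    simp [ι, S, hM_apply, Pi.single_apply]
  have hιπ : ∀ i i', ι i' ≫ π i = if i = i' then 𝟙 _ else 0 := by
    intro i i'
    ext m
    by_cases h : i = i'
    · subst h; simp [ι, π]
    · simp [ι, π, h, Pi.single_apply, Ne.symm h]
  have hgπ : ∀ i, S.f ≫ π i = ∑ j, a j i • π' j := by
    intro i
    ext y
    simp [S, π, π', gM_apply]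
  have ht : ((S.map (F J Λ U)).g).hom t = 0 := by
    show ((F J Λ U).map S.g).hom t = 0
    simp only [t, map_sum]
    rw [← hs]
    refine Finset.sum_congr rfl fun i _ => ?_
    rw [← LinearMap.comp_apply, ← ModuleCat.hom_comp, ← Functor.map_comp, hιg, map_smul J Λ U]
    simp
  obtain ⟨y, hy⟩ := hFS t ht
  refine ⟨k, fun i j => a j i, fun j => ((F J Λ U).map (π' j)).hom y, ?_, ?_⟩
  · intro i
    have h1 : ((F J Λ U).map (π i)).hom t = s i := by
      simp only [t, map_sum]
      have : ∀ i', ((F J Λ U).map (π i)).hom (((F J Λ U).map (ι i')).hom (s i')) =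
          if i = i' then s i' else 0 := by
        intro i'
        rw [← LinearMap.comp_apply, ← ModuleCat.hom_comp, ← Functor.map_comp, hιπ]
        split_ifs <;> simp
      rw [Finset.sum_congr rfl (fun i' _ => this i'), Finset.sum_ite_eq]
      simp
    rw [← h1, ← hy]
    show ((F J Λ U).map (π i)).hom (((F J Λ U).map S.f).hom y) = _
    rw [← LinearMap.comp_apply, ← ModuleCat.hom_comp, ← Functor.map_comp, hgπ, Functor.map_sum,
      ModuleCat.hom_sum, LinearMap.sum_apply]
    refine Finset.sum_congr rfl fun j _ => ?_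
    rw [map_smul J Λ U, ModuleCat.hom_smul, LinearMap.smul_apply]
  · intro j
    simpa [mul_comm] using ha0 j

end Groth.Agent.Lib.R2H4ConstFlat
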