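import Mathlib
import Groth.Agent.Lib.R2H4ConstFlat

namespace Groth.Agent.Lib.R2H4ConstTensor

open CategoryTheory Opposite Limits TensorProduct
open Groth.Agent.Lib.R2H4ConstFlat

universe u

variable {C : Type u} [SmallCategory C] (J : GrothendieckTopology C)
variable (Λ : Type u) [CommRing Λ] (U : C)

section Fmap

variable {N N' N'' : Type u} [AddCommGroup N] [Module Λ N] [AddCommGroup N'] [Module Λ N']
  [AddCommGroup N''] [Module Λ N'']

/-- `F` on linear maps -/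
noncomputable def Fmap (g : N →ₗ[Λ] N') :
    (F J Λ U).obj (ModuleCat.of Λ N) →ₗ[Λ] (F J Λ U).obj (ModuleCat.of Λ N') :=
  ((F J Λ U).map (ModuleCat.ofHom g)).hom

lemma Fmap_id : Fmap J Λ U (LinearMap.id : N →ₗ[Λ] N) = LinearMap.id := by
  simp only [Fmap]
  erw [ModuleCat.ofHom_id, (F J Λ U).map_id]
  rfl

lemma Fmap_comp (g : N →ₗ[Λ] N') (h : N' →ₗ[Λ] N'') :
    Fmap J Λ U (h ∘ₗ g) = Fmap J Λ U h ∘ₗ Fmap J Λ U g := by
  simp only [Fmap]
  rw [ModuleCat.ofHom_comp, (F J Λ U).map_comp]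
  rfl

lemma Fmap_comp_apply (g : N →ₗ[Λ] N') (h : N' →ₗ[Λ] N'') (x) :
    Fmap J Λ U h (Fmap J Λ U g x) = Fmap J Λ U (h ∘ₗ g) x := by
  rw [Fmap_comp]; rfl

lemma Fmap_add (g h : N →ₗ[Λ] N') : Fmap J Λ U (g + h) = Fmap J Λ U g + Fmap J Λ U h := by
  simp only [Fmap]
  have : ModuleCat.ofHom (g + h) = ModuleCat.ofHom g + ModuleCat.ofHom h := rfl
  rw [this, (F J Λ U).map_add]
  rfl

lemma Fmap_zero : Fmap J Λ U (0 : N →ₗ[Λ] N') = 0 := by
  simp only [Fmap]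
  have : ModuleCat.ofHom (0 : N →ₗ[Λ] N') = 0 := rfl
  rw [this, (F J Λ U).map_zero]
  rfl

lemma Fmap_smul (c : Λ) (g : N →ₗ[Λ] N') : Fmap J Λ U (c • g) = c • Fmap J Λ U g := by
  simp only [Fmap]
  have : ModuleCat.ofHom (c • g) = c • ModuleCat.ofHom g := rfl
  rw [this, map_smul J Λ U]
  rfl

/-- `Fmap` as a linear map -/
noncomputable def FmapL : (N →ₗ[Λ] N') →ₗ[Λ]
    ((F J Λ U).obj (ModuleCat.of Λ N) →ₗ[Λ] (F J Λ U).obj (ModuleCat.of Λ N')) where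
  toFun := Fmap J Λ U
  map_add' := Fmap_add J Λ U
  map_smul' := Fmap_smul J Λ U

lemma Fmap_sum {ι : Type*} (s : Finset ι) (g : ι → (N →ₗ[Λ] N')) :
    Fmap J Λ U (∑ i ∈ s, g i) = ∑ i ∈ s, Fmap J Λ U (g i) :=
  map_sum (FmapL J Λ U) g s

lemma Fmap_surjective (g : N →ₗ[Λ] N') (hg : Function.Surjective g) :
    Function.Surjective (Fmap J Λ U g) :=
  surjective_sections J Λ (ModuleCat.ofHom g) hg U

lemma Fmap_exact (g : N →ₗ[Λ] N') (h : N' →ₗ[Λ] N'') (hgh : Function.Exact g h) :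
    Function.Exact (Fmap J Λ U g) (Fmap J Λ U h) := by
  have hz : h ∘ₗ g = 0 := hgh.linearMap_comp_eq_zero
  let S : ShortComplex (ModuleCat.{u} Λ) :=
    ShortComplex.mk (ModuleCat.ofHom g) (ModuleCat.ofHom h) (by
      rw [← ModuleCat.ofHom_comp, hz]; rfl)
  have hS : S.Exact := by
    rw [ShortComplex.moduleCat_exact_iff]
    intro x hx
    exact (hgh x).1 hx
  have hFS := map_exact J Λ U S hS
  rw [ShortComplex.moduleCat_exact_iff] at hFS
  intro y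
  constructor
  · intro hy
    exact hFS y hy
  · rintro ⟨x, rfl⟩
    rw [Fmap_comp_apply, hz, Fmap_zero]
    rfl

end Fmap

section Theta

variable (M : Type u) [AddCommGroup M] [Module Λ M]
variable (Q Q' : Type u) [AddCommGroup Q] [Module Λ Q] [AddCommGroup Q'] [Module Λ Q']

/-- `q ↦ (m ↦ m ⊗ q)` -/
noncomputable abbrev ιq : Q →ₗ[Λ] (M →ₗ[Λ] M ⊗[Λ] Q) := (TensorProduct.mk Λ M Q).flip

/-- the comparison map `F(M) ⊗ Q → F(M ⊗ Q)` -/
noncomputable def θ : (F J Λ U).obj (ModuleCat.of Λ M) ⊗[Λ] Q →ₗ[Λ]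
    (F J Λ U).obj (ModuleCat.of Λ (M ⊗[Λ] Q)) :=
  TensorProduct.lift ((FmapL J Λ U ∘ₗ ιq Λ M Q).flip)

lemma θ_tmul (s : (F J Λ U).obj (ModuleCat.of Λ M)) (q : Q) :
    θ J Λ U M Q (s ⊗ₜ q) = Fmap J Λ U (ιq Λ M Q q) s := rfl

variable {Q Q'}

lemma θ_natural (g : Q →ₗ[Λ] Q') :
    Fmap J Λ U (LinearMap.lTensor M g) ∘ₗ θ J Λ U M Q =
      θ J Λ U M Q' ∘ₗ LinearMap.lTensor _ g := by
  apply TensorProduct.ext'
  intro s q
  simp only [LinearMap.comp_apply, θ_tmul, LinearMap.lTensor_tmul]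
  rw [Fmap_comp_apply]
  congr 1

lemma θ_natural_apply (g : Q →ₗ[Λ] Q') (x) :
    Fmap J Λ U (LinearMap.lTensor M g) (θ J Λ U M Q x) =
      θ J Λ U M Q' (LinearMap.lTensor _ g x) :=
  LinearMap.congr_fun (θ_natural J Λ U M g) x

section Free

variable (n : ℕ)

/-- `m ⊗ c ↦ c i • m` -/
noncomputable def pcoord (i : Fin n) : M ⊗[Λ] (Fin n → Λ) →ₗ[Λ] M :=
  (TensorProduct.rid Λ M).toLinearMap ∘ₗ LinearMap.lTensor M (LinearMap.proj i)

lemma pcoord_tmul (i : Fin n) (m : M) (c : Fin n → Λ) : pcoord Λ M n i (m ⊗ₜ c) = c i • m := by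
  simp [pcoord]

/-- the inverse of `θ` for finite free modules -/
noncomputable def ψ : (F J Λ U).obj (ModuleCat.of Λ (M ⊗[Λ] (Fin n → Λ))) →ₗ[Λ]
    (F J Λ U).obj (ModuleCat.of Λ M) ⊗[Λ] (Fin n → Λ) :=
  ∑ i, (TensorProduct.mk Λ _ _).flip (Pi.single i (1 : Λ)) ∘ₗ Fmap J Λ U (pcoord Λ M n i)

lemma ψ_apply (z) : ψ J Λ U M n z =
    ∑ i, (Fmap J Λ U (pcoord Λ M n i) z) ⊗ₜ[Λ] (Pi.single i (1 : Λ) : Fin n → Λ) := by
  simp [ψ]

lemma sum_ιq_pcoord :
    ∑ i, ιq Λ M (Fin n → Λ) (Pi.single i (1 : Λ)) ∘ₗ pcoord Λ M n i = LinearMap.id := by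
  apply TensorProduct.ext'
  intro m c
  simp only [LinearMap.sum_apply, LinearMap.comp_apply, pcoord_tmul, LinearMap.id_apply,
    LinearMap.flip_apply, TensorProduct.mk_apply]
  simp only [TensorProduct.smul_tmul, ← TensorProduct.tmul_sum]
  congr 1
  ext j
  simp [Finset.sum_apply, Pi.single_apply]

lemma pcoord_ιq (i : Fin n) (c : Fin n → Λ) :
    pcoord Λ M n i ∘ₗ ιq Λ M (Fin n → Λ) c = c i • LinearMap.id := by
  ext m
  simp [pcoord_tmul]

lemma θ_ψ (z) : θ J Λ U M (Fin n → Λ) (ψ J Λ U M n z) = z := by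
  rw [ψ_apply, map_sum]
  simp only [θ_tmul, Fmap_comp_apply]
  rw [← LinearMap.sum_apply, ← Fmap_sum, sum_ιq_pcoord, Fmap_id]
  rfl

lemma ψ_θ (x) : ψ J Λ U M n (θ J Λ U M (Fin n → Λ) x) = x := by
  induction x using TensorProduct.induction_on with
  | zero => simp
  | add x y hx hy => rw [map_add, map_add, hx, hy]
  | tmul s c =>
    rw [θ_tmul, ψ_apply]
    simp only [Fmap_comp_apply, pcoord_ιq, Fmap_smul, Fmap_id, LinearMap.smul_apply,
      LinearMap.id_apply]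
    simp only [TensorProduct.smul_tmul, ← TensorProduct.tmul_sum]
    congr 1
    ext j
    simp [Finset.sum_apply, Pi.single_apply]

lemma θ_free_bijective : Function.Bijective (θ J Λ U M (Fin n → Λ)) :=
  ⟨Function.LeftInverse.injective (ψ_θ J Λ U M n), Function.RightInverse.surjective (θ_ψ J Λ U M n)⟩

end Free

section FP

variable (Q : Type u) [AddCommGroup Q] [Module Λ Q] [Module.FinitePresentation Λ Q]

lemma θ_bijective : Function.Bijective (θ J Λ U M Q) := by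
  obtain ⟨n, m, f, g, hf, hgf⟩ := Module.FinitePresentation.exists_fin' Λ Q
  have hfg0 : f ∘ₗ g = 0 := hgf.linearMap_comp_eq_zero
  have hn := θ_free_bijective J Λ U M n
  have hm := θ_free_bijective J Λ U M m
  -- exactness of the bottom row
  have hbot : Function.Exact (Fmap J Λ U (LinearMap.lTensor M g))
      (Fmap J Λ U (LinearMap.lTensor M f)) :=
    Fmap_exact J Λ U _ _ (lTensor_exact M hgf hf)
  have hbots : Function.Surjective (Fmap J Λ U (LinearMap.lTensor M f)) :=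
    Fmap_surjective J Λ U _ (LinearMap.lTensor_surjective M hf)
  have htops : Function.Surjective
      (LinearMap.lTensor ((F J Λ U).obj (ModuleCat.of Λ M)) f) :=
    LinearMap.lTensor_surjective _ hf
  constructor
  · rw [injective_iff_map_eq_zero]
    intro x hx
    obtain ⟨x₂, rfl⟩ := htops x
    rw [← θ_natural_apply] at hx
    obtain ⟨z₁, hz₁⟩ := (hbot _).1 hx
    obtain ⟨x₁, rfl⟩ := hm.2 z₁
    rw [θ_natural_apply] at hz₁
    have := hn.1 hz₁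
    rw [← this, ← LinearMap.comp_apply, ← LinearMap.lTensor_comp, hfg0, LinearMap.lTensor_zero]
    rfl
  · intro z
    obtain ⟨z₂, rfl⟩ := hbots z
    obtain ⟨x₂, rfl⟩ := hn.2 z₂
    exact ⟨_, (θ_natural_apply J Λ U M f x₂).symm⟩

theorem main :
    ∃ e : ModuleCat.of Λ (((F J Λ U).obj (ModuleCat.of Λ M)) ⊗[Λ] Q) ≅
        (F J Λ U).obj (ModuleCat.of Λ (M ⊗[Λ] Q)),
      ∀ (s : (F J Λ U).obj (ModuleCat.of Λ M)) (q : Q),
        e.hom.hom (s ⊗ₜ[Λ] q) =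
          ((F J Λ U).map (ModuleCat.ofHom ((TensorProduct.mk Λ M Q).flip q))).hom s :=
  ⟨(LinearEquiv.ofBijective (θ J Λ U M Q) (θ_bijective J Λ U M Q)).toModuleIso, fun _ _ => rfl⟩

end FP

end Theta

end Groth.Agent.Lib.R2H4ConstTensor
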