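import Mathlib
import Groth.Prelude
import Groth.Agent.Lib.Helper13ProjQuotIdeal
import Groth.Agent.Lib.Helper27ProjClosed
import Groth.Agent.Lib.Helper27RelProj4
import Groth.Agent.Lib.Helper27PnChart
set_option backward.isDefEq.respectTransparency.types false

/-!
# A disjoint union of two projective `k`-schemes is projective (S14066)

* `coordHom σ` : the graded surjection `R[T_0..T_N] → R[S_0..S_a]`, `T_{σ i} ↦ S_i`, other `T_j ↦ 0`, for
  an injective `σ : Fin (a+1) → Fin (N+1)`; `coordEmb σ : P^a_R ⟶ P^N_R` the induced closed immersion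
  onto a coordinate subspace; `coordEmb_toSpec`; `range_coordEmb_disjoint`.
* `isClosedImmersion_coprodDesc` : the copairing of two closed immersions with disjoint ranges is a closed
  immersion.
* `main` : S14066.
-/

set_option autoImplicit false
set_option linter.style.haveILetI false
set_option linter.unusedSectionVars false
universe u

open CategoryTheory CategoryTheory.Limits AlgebraicGeometry TopologicalSpace Opposite

noncomputable section

namespace Groth.Agent.Lib.R2H4CoprodProj

section Coord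

open MvPolynomial

variable {R : Type u} [CommRing R] {a N : ℕ} (σ : Fin (a + 1) → Fin (N + 1))
  (hσ : Function.Injective σ)

/-- images of the variables -/
def coordFun : Fin (N + 1) → MvPolynomial (Fin (a + 1)) R :=
  Function.extend σ X 0

/-- the coordinate projection `R[T_0..T_N] → R[S_0..S_a]` -/
def coordAlg : MvPolynomial (Fin (N + 1)) R →ₐ[R] MvPolynomial (Fin (a + 1)) R :=
  aeval (coordFun (R := R) σ)

include hσ in
theorem coordAlg_X_apply (i : Fin (a + 1)) : coordAlg (R := R) σ (X (σ i)) = X i := by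
  unfold coordAlg coordFun
  rw [aeval_X, hσ.extend_apply]

theorem coordAlg_X_of_not_mem (j : Fin (N + 1)) (hj : j ∉ Set.range σ) :
    coordAlg (R := R) σ (X j) = 0 := by
  unfold coordAlg coordFun
  rw [aeval_X, Function.extend_apply' _ _ _ (by simpa using hj)]
  rfl

theorem coordFun_isHomogeneous (j : Fin (N + 1)) :
    (coordFun (R := R) σ j).IsHomogeneous 1 := by
  classical
  unfold coordFun
  by_cases h : ∃ i, σ i = j
  · obtain ⟨i, rfl⟩ := h
    -- we do not know injectivity here; use the definition of `extend`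
    rw [Function.extend_def, dif_pos ⟨i, rfl⟩]
    exact isHomogeneous_X _ _
  · rw [Function.extend_apply' _ _ _ h]
    exact isHomogeneous_zero _ _ _

theorem coordAlg_isHomogeneous {d : ℕ} {f : MvPolynomial (Fin (N + 1)) R}
    (hf : f.IsHomogeneous d) : (coordAlg (R := R) σ f).IsHomogeneous d := by
  have h := hf.aeval (coordFun (R := R) σ) (coordFun_isHomogeneous σ)
  rwa [one_mul] at h

/-- the graded ring homomorphism -/
def coordHom : CohB1.polyGrading N R →+*ᵍ CohB1.polyGrading a R where
  toRingHom := (coordAlg (R := R) σ).toRingHom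
  map_mem := fun {_ _} hx => (mem_homogeneousSubmodule _ _).mpr
    (coordAlg_isHomogeneous σ ((mem_homogeneousSubmodule _ _).mp hx))

theorem coordHom_apply (f : MvPolynomial (Fin (N + 1)) R) :
    coordHom (R := R) σ f = coordAlg (R := R) σ f := rfl

include hσ in
theorem coordAlg_rename (f : MvPolynomial (Fin (a + 1)) R) :
    coordAlg (R := R) σ (rename σ f) = f := by
  unfold coordAlg
  rw [aeval_rename]
  have : coordFun (R := R) σ ∘ σ = X := by
    funext i
    unfold coordFun
    rw [Function.comp_apply, hσ.extend_apply]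
  rw [this, aeval_X_left, AlgHom.id_apply]

include hσ in
theorem coordHom_surjective : Function.Surjective (coordHom (R := R) σ) := fun f =>
  ⟨rename σ f, coordAlg_rename σ hσ f⟩

include hσ in
theorem hφ : HomogeneousIdeal.irrelevant (CohB1.polyGrading a R) ≤
    (HomogeneousIdeal.irrelevant (CohB1.polyGrading N R)).map (coordHom (R := R) σ) :=
  Groth.Agent.Helper13ProjQuotIdeal.irrelevant_le_map (coordHom (R := R) σ)
    (coordHom_surjective σ hσ)

/-- the coordinate embedding `P^a_R ⟶ P^N_R` -/
def coordEmb : CohB1.ProjSpace a R ⟶ CohB1.ProjSpace N R :=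
  Proj.map (coordHom (R := R) σ) (hφ σ hσ)

instance : IsClosedImmersion (coordEmb (R := R) σ hσ) :=
  Groth.Agent.Lib.Helper27ProjClosed.isClosedImmersion_map (coordHom (R := R) σ)
    (coordHom_surjective σ hσ) (hφ σ hσ)

theorem coordEmb_toSpec :
    coordEmb (R := R) σ hσ ≫ CohB1.ProjSpace.toSpec N R = CohB1.ProjSpace.toSpec a R := by
  unfold coordEmb CohB1.ProjSpace.toSpec
  refine Groth.Agent.Lib.Helper27RelProj4.map_toSpecZero (coordHom (R := R) σ) (hφ σ hσ)
    (algebraMap R (CohB1.polyGrading N R 0)) (algebraMap R (CohB1.polyGrading a R 0)) ?_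
  intro r
  change coordAlg (R := R) σ (algebraMap R (MvPolynomial (Fin (N + 1)) R) r) =
    algebraMap R (MvPolynomial (Fin (a + 1)) R) r
  exact (coordAlg (R := R) σ).commutes r

/-- the image of a coordinate embedding misses the charts of the unused variables -/
theorem range_coordEmb_disjoint_basicOpen (j : Fin (N + 1)) (hj : j ∉ Set.range σ)
    (y : CohB1.ProjSpace a R) :
    coordEmb (R := R) σ hσ y ∉ Proj.basicOpen (CohB1.polyGrading N R) (X j) := by
  intro h
  have h1 : y ∈ Proj.basicOpen (CohB1.polyGrading a R) (coordHom (R := R) σ (X j)) := h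
  rw [coordHom_apply, coordAlg_X_of_not_mem σ j hj] at h1
  have h2 : Proj.basicOpen (CohB1.polyGrading a R) (0 : MvPolynomial (Fin (a + 1)) R) = ⊥ :=
    ProjectiveSpectrum.basicOpen_zero _
  rw [h2] at h1
  exact h1

end Coord

section Coprod

variable {X₁ X₂ P : Scheme.{u}} (f : X₁ ⟶ P) (g : X₂ ⟶ P)

theorem isClosedImmersion_coprodDesc [IsClosedImmersion f] [IsClosedImmersion g]
    (hdisj : Disjoint (Set.range f) (Set.range g)) :
    IsClosedImmersion (coprod.desc f g) := by
  have hsurj : SurjectiveOnStalks (coprod.desc f g) := by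
    rw [IsZariskiLocalAtSource.iff_of_openCover (P := @SurjectiveOnStalks)
      (coprodOpenCover.{_, 0} X₁ X₂)]
    rintro (_ | _)
    · change SurjectiveOnStalks (coprod.inl ≫ coprod.desc f g)
      rw [coprod.inl_desc]; infer_instance
    · change SurjectiveOnStalks (coprod.inr ≫ coprod.desc f g)
      rw [coprod.inr_desc]; infer_instance
  refine { toSurjectiveOnStalks := hsurj, isClosedEmbedding := ?_ }
  -- the topological part
  have hcomp : ⇑(coprod.desc f g) ∘ (coprodMk X₁ X₂) = Sum.elim f g := by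
    funext x
    rcases x with x | x
    · simp only [Function.comp_apply, coprodMk_inl, Sum.elim_inl]
      rw [← Scheme.Hom.comp_apply, coprod.inl_desc]
    · simp only [Function.comp_apply, coprodMk_inr, Sum.elim_inr]
      rw [← Scheme.Hom.comp_apply, coprod.inr_desc]
  have hf := f.isClosedEmbedding
  have hg := g.isClosedEmbedding
  have hemb : Topology.IsClosedEmbedding (Sum.elim (f : X₁ → P) (g : X₂ → P)) := by
    refine Topology.IsClosedEmbedding.of_continuous_injective_isClosedMap
      (hf.continuous.sumElim hg.continuous) ?_ ?_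
    · rintro (x | x) (y | y) hxy
      · simp only [Sum.elim_inl] at hxy; rw [hf.injective hxy]
      · simp only [Sum.elim_inl, Sum.elim_inr] at hxy
        exact (Set.disjoint_iff.mp hdisj ⟨⟨x, rfl⟩, ⟨y, hxy.symm⟩⟩).elim
      · simp only [Sum.elim_inl, Sum.elim_inr] at hxy
        exact (Set.disjoint_iff.mp hdisj ⟨⟨y, hxy.symm⟩, ⟨x, rfl⟩⟩).elim
      · simp only [Sum.elim_inr] at hxy; rw [hg.injective hxy]
    · intro C hC
      have : Sum.elim (f : X₁ → P) (g : X₂ → P) '' C =
          f '' (Sum.inl ⁻¹' C) ∪ g '' (Sum.inr ⁻¹' C) := by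
        ext z
        constructor
        · rintro ⟨(x | x), hx, rfl⟩
          · exact Or.inl ⟨x, hx, rfl⟩
          · exact Or.inr ⟨x, hx, rfl⟩
        · rintro (⟨x, hx, rfl⟩ | ⟨x, hx, rfl⟩)
          · exact ⟨Sum.inl x, hx, rfl⟩
          · exact ⟨Sum.inr x, hx, rfl⟩
      rw [this]
      exact (hf.isClosedMap _ (hC.preimage continuous_inl)).union
        (hg.isClosedMap _ (hC.preimage continuous_inr))
  have h2 : ⇑(coprod.desc f g) =
      Sum.elim (f : X₁ → P) (g : X₂ → P) ∘ (coprodMk X₁ X₂).symm := by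
    rw [← hcomp]
    funext x
    simp
  rw [h2]
  exact hemb.comp (coprodMk X₁ X₂).symm.isClosedEmbedding

end Coprod

section Main

variable (k : Type u) [Field k] (n m : ℕ)

/-- first block of coordinates -/
def σ₁ : Fin (n + 1) → Fin (n + m + 1 + 1) := fun i => ⟨i.val, by omega⟩

/-- second block of coordinates -/
def σ₂ : Fin (m + 1) → Fin (n + m + 1 + 1) := fun i => ⟨n + 1 + i.val, by omega⟩

theorem σ₁_injective : Function.Injective (σ₁ n m) := by
  intro i j h
  simp only [σ₁, Fin.mk.injEq] at h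
  exact Fin.ext h

theorem σ₂_injective : Function.Injective (σ₂ n m) := by
  intro i j h
  simp only [σ₂, Fin.mk.injEq] at h
  exact Fin.ext (by omega)

theorem not_mem_range (j : Fin (n + m + 1 + 1)) :
    j ∉ Set.range (σ₁ n m) ∨ j ∉ Set.range (σ₂ n m) := by
  by_cases h : j.val < n + 1
  · right
    rintro ⟨i, rfl⟩
    simp only [σ₂] at h
    omega
  · left
    rintro ⟨i, rfl⟩
    simp only [σ₁] at h
    omega

theorem main (X₁ X₂ : Scheme.{u}) [X₁.Over (Spec (CommRingCat.of k))]
    [X₂.Over (Spec (CommRingCat.of k))]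
    (i₁ : X₁ ⟶ CohB1.ProjSpace n k) [IsClosedImmersion i₁]
    (h₁ : i₁ ≫ CohB1.ProjSpace.toSpec n k = X₁ ↘ (Spec (CommRingCat.of k)))
    (i₂ : X₂ ⟶ CohB1.ProjSpace m k) [IsClosedImmersion i₂]
    (h₂ : i₂ ≫ CohB1.ProjSpace.toSpec m k = X₂ ↘ (Spec (CommRingCat.of k))) :
    ∃ j : X₁ ⨿ X₂ ⟶ CohB1.ProjSpace (n + m + 1) k, IsClosedImmersion j ∧
      j ≫ CohB1.ProjSpace.toSpec (n + m + 1) k =
        coprod.desc (X₁ ↘ (Spec (CommRingCat.of k))) (X₂ ↘ (Spec (CommRingCat.of k))) := by
  set e₁ := coordEmb (R := k) (σ₁ n m) (σ₁_injective n m) with he₁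
  set e₂ := coordEmb (R := k) (σ₂ n m) (σ₂_injective n m) with he₂
  refine ⟨coprod.desc (i₁ ≫ e₁) (i₂ ≫ e₂), ?_, ?_⟩
  · apply isClosedImmersion_coprodDesc
    rw [Set.disjoint_iff]
    rintro y ⟨⟨x₁, hx₁⟩, ⟨x₂, hx₂⟩⟩
    have htop := Groth.Agent.Lib.Helper27PnChart.iSup_basicOpen_X (n + m + 1) k
    have hy : y ∈ (⨆ i : Fin (n + m + 1 + 1),
        Proj.basicOpen (CohB1.polyGrading (n + m + 1) k) (MvPolynomial.X i)) := by
      rw [htop]; trivial
    obtain ⟨j, hj⟩ := Opens.mem_iSup.mp hy
    rcases not_mem_range n m j with h | h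
    · refine range_coordEmb_disjoint_basicOpen (R := k) (σ₁ n m) (σ₁_injective n m) j h
        (i₁ x₁) ?_
      have : (i₁ ≫ e₁) x₁ = e₁ (i₁ x₁) := Scheme.Hom.comp_apply _ _ _
      rw [← he₁, ← this, hx₁]
      exact hj
    · refine range_coordEmb_disjoint_basicOpen (R := k) (σ₂ n m) (σ₂_injective n m) j h
        (i₂ x₂) ?_
      have : (i₂ ≫ e₂) x₂ = e₂ (i₂ x₂) := Scheme.Hom.comp_apply _ _ _
      rw [← he₂, ← this, hx₂]
      exact hj
  · apply coprod.hom_ext
    · rw [coprod.inl_desc_assoc, coprod.inl_desc, Category.assoc, he₁, coordEmb_toSpec, h₁]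
    · rw [coprod.inr_desc_assoc, coprod.inr_desc, Category.assoc, he₂, coordEmb_toSpec, h₂]

end Main

end Groth.Agent.Lib.R2H4CoprodProj
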