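import Mathlib

set_option autoImplicit false
set_option linter.style.haveILetI false
universe u

namespace Groth.Agent.Lib.R2H4CosetAlg

open scoped Pointwise

variable {A A' : Type*} [CommRing A] [CommRing A'] {G : Type*} [Group G] [Finite G]
  [MulSemiringAction G A] (H : Subgroup G) (e : A)
  (r : A →+* A') (hker : ∀ a, r a = 0 ↔ e * a = 0)
  (τ' : H → A' →+* A') (hτ' : ∀ (h : H) (a : A), τ' h (r a) = r ((h : G) • a))

include hker in
theorem r_e (he : IsIdempotentElem e) : r e = 1 := by
  have h : r (e - 1) = 0 := by
    rw [hker, mul_sub, mul_one, he.eq, sub_self]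
  rwa [map_sub, map_one, sub_eq_zero] at h

include hker hτ' in
theorem smul_e (he : IsIdempotentElem e) (h : H) : (h : G) • e = e := by
  have key : ∀ h' : H, e * ((h' : G) • e) = e := by
    intro h'
    have h1 : r ((h' : G) • e - 1) = 0 := by
      rw [map_sub, map_one, ← hτ', r_e e r hker he, map_one, sub_self]
    rw [hker, mul_sub, mul_one, sub_eq_zero] at h1
    exact h1
  have h2 := key h⁻¹
  have h3 := congrArg (fun a => (h : G) • a) h2
  simp only [smul_mul', Subgroup.coe_inv, smul_inv_smul] at h3
  rw [← h3, mul_comm]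
  exact key h

include hker in
/-- injectivity on invariants -/
theorem eq_zero_of_invariant (h3 : Ideal.span (Set.range fun g : G => g • e) = ⊤)
    (a : A) (ha : ∀ g : G, g • a = a) (hra : r a = 0) : a = 0 := by
  rw [hker] at hra
  have h1 : ∀ g : G, (g • e) * a = 0 := by
    intro g
    have := congrArg (fun x => g • x) hra
    simpa [smul_mul', ha g] using this
  have h2 : ∀ x ∈ Ideal.span (Set.range fun g : G => g • e), x * a = 0 := by
    intro x hx
    induction hx using Submodule.span_induction with
    | mem x hx =>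
      obtain ⟨g, rfl⟩ := hx
      exact h1 g
    | zero => exact zero_mul a
    | add x y _ _ hx hy => rw [add_mul, hx, hy, add_zero]
    | smul c x _ hx => rw [smul_eq_mul, mul_assoc, hx, mul_zero]
  have := h2 1 (by rw [h3]; trivial)
  rwa [one_mul] at this

include hker hτ' in
/-- surjectivity onto `H`-invariants -/
theorem exists_invariant_lift (he : IsIdempotentElem e) (hr : Function.Surjective r)
    (h2 : ∀ g : G, g ∉ H → (g • e) * e = 0)
    (t : A') (ht : ∀ h : H, τ' h t = t) : ∃ a : A, (∀ g : G, g • a = a) ∧ r a = t := by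
  classical
  haveI : Fintype (G ⧸ H) := Fintype.ofFinite _
  obtain ⟨b, rfl⟩ := hr t
  set s : A := e * b with hs
  have hrs : r s = r b := by rw [hs, map_mul, r_e e r hker he, one_mul]
  have hsH : ∀ h : H, (h : G) • s = s := by
    intro h
    rw [hs, smul_mul', smul_e H e r hker τ' hτ' he h]
    have h1 : r ((h : G) • b - b) = 0 := by
      rw [map_sub, ← hτ', ht h, sub_self]
    rw [hker, mul_sub, sub_eq_zero] at h1
    exact h1
  have hout : ∀ (g : G), ((g : G ⧸ H).out) • s = g • s := by
    intro g
    obtain ⟨h, hh⟩ := QuotientGroup.mk_out_eq_mul H g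
    rw [hh, mul_smul, hsH h]
  refine ⟨∑ x : G ⧸ H, x.out • s, fun g => ?_, ?_⟩
  · rw [Finset.smul_sum]
    have h1 : ∀ x : G ⧸ H, g • x.out • s = (g • x).out • s := by
      intro x
      rw [← mul_smul, ← hout (g * x.out)]
      have h4 : ((g * x.out : G) : G ⧸ H) = g • x := MulAction.Quotient.mk_smul_out H g x
      rw [h4]
    rw [Finset.sum_congr rfl fun x _ => h1 x]
    exact Fintype.sum_equiv (MulAction.toPerm g) _ _ fun x => rfl
  · rw [map_sum]
    rw [Finset.sum_eq_single ((1 : G) : G ⧸ H)]
    · rw [hout 1, one_smul, hrs]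
    · intro x _ hx
      rw [hker]
      induction x using QuotientGroup.induction_on with
      | H g =>
        rw [hout g, hs, smul_mul', ← mul_assoc, mul_comm e, h2 g, zero_mul]
        intro hg
        apply hx
        exact QuotientGroup.eq.mpr (by simpa using H.inv_mem hg)
    · intro h
      exact absurd (Finset.mem_univ _) h

end Groth.Agent.Lib.R2H4CosetAlg
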