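import Mathlib
import Groth.Agent.Lib.R2H4CosetAlg
import Groth.Agent.Lib.R2H4QuotChart
import Groth.Agent.Lib.R2H4QuotExistA

set_option autoImplicit false
set_option linter.style.haveILetI false
universe u
open CategoryTheory CategoryTheory.Limits AlgebraicGeometry TopologicalSpace

namespace Groth.Agent.Lib.R2H4CosetSch

open SGA1 Groth.Agent.Lib.Helper20 Groth.Agent.Lib.H6xProjQuot Groth.Agent.Lib.R2H4QuotChart
  Groth.Agent.Lib.R2H4CosetAlg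

section general

variable {X : Scheme.{u}}

/-- restriction to the basic open of an idempotent: surjective with kernel the annihilator -/
theorem res_basicOpen_idem {U V : X.Opens} (hU : IsAffineOpen U) (e : Γ(X, U))
    (he : IsIdempotentElem e) (hV : V = X.basicOpen e) (hVU : V ≤ U) :
    Function.Surjective (X.presheaf.map (homOfLE hVU).op).hom ∧
      ∀ a, (X.presheaf.map (homOfLE hVU).op).hom a = 0 ↔ e * a = 0 := by
  subst hV
  haveI := hU.isLocalization_basicOpen e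
  have hmap : ∀ a, (X.presheaf.map (homOfLE hVU).op).hom a =
      algebraMap Γ(X, U) Γ(X, X.basicOpen e) a := fun a => rfl
  refine ⟨?_, fun a => ?_⟩
  · intro z
    obtain ⟨a, ha⟩ := IsLocalization.Away.algebraMap_surjective_of_isIdempotentElem
      (S := Γ(X, X.basicOpen e)) e he z
    exact ⟨a, (hmap a).trans ha⟩
  · rw [hmap, IsLocalization.map_eq_zero_iff (Submonoid.powers e)]
    constructor
    · rintro ⟨⟨_, n, rfl⟩, hn⟩
      change e ^ n * a = 0 at hn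
      rcases n with _ | n
      · rw [pow_zero, one_mul] at hn
        rw [hn, mul_zero]
      · rwa [he.pow_succ_eq] at hn
    · intro h
      exact ⟨⟨e, Submonoid.mem_powers e⟩, h⟩

/-- a clopen subset of an affine open is the basic open of an idempotent -/
theorem exists_idem_basicOpen {T : X.Opens} (hT : IsAffineOpen T) (Y : X.Opens)
    (hY : IsClosed (Y : Set X)) :
    ∃ e : Γ(X, T), IsIdempotentElem e ∧ X.basicOpen e = Y ⊓ T := by
  have hcl : IsClopen (hT.fromSpec.base ⁻¹' (Y : Set X)) :=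
    ⟨hY.preimage hT.fromSpec.continuous, Y.2.preimage hT.fromSpec.continuous⟩
  obtain ⟨e, he, hs⟩ := PrimeSpectrum.exists_idempotent_basicOpen_eq_of_isClopen
    (R := Γ(X, T)) hcl
  refine ⟨e, he, ?_⟩
  rw [← hT.fromSpec_image_basicOpen e]
  ext x
  constructor
  · rintro ⟨z, hz, rfl⟩
    have hz' : z ∈ hT.fromSpec.base ⁻¹' (Y : Set X) := by rw [hs]; exact hz
    refine ⟨hz', ?_⟩
    have : hT.fromSpec.base z ∈ Set.range hT.fromSpec.base := ⟨z, rfl⟩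
    rwa [hT.range_fromSpec] at this
  · rintro ⟨hxY, hxT⟩
    have : x ∈ Set.range hT.fromSpec.base := by rw [hT.range_fromSpec]; exact hxT
    obtain ⟨z, rfl⟩ := this
    refine ⟨z, ?_, rfl⟩
    have hz' : z ∈ hT.fromSpec.base ⁻¹' (Y : Set X) := hxY
    rw [hs] at hz'
    exact hz'

end general

section main

open Groth.Agent.Lib.R2H4QuotExistA

variable {G : Type u} [Group G] [Finite G] {X XG : Scheme.{u}} (ρ : G →* Aut X) (p : X ⟶ XG)
  (H : Subgroup G) (Y : X.Opens)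
  (ρY : H →* Aut (Y : Scheme.{u}))
  (hρY : ∀ h : H, (ρY h).hom ≫ Y.ι = Y.ι ≫ (ρ (h : G)).hom)
  (hcov : ∀ x : X, ∃ g : G, x ∈ (ρ g).hom.base '' (Y : Set X))
  (hdisj : ∀ g : G, g ∉ H → Disjoint ((ρ g).hom.base '' (Y : Set X)) (Y : Set X))

include hρY in
omit [Finite G] in
theorem apply_mem_of_mem (h : H) (y : X) (hy : y ∈ Y) : (ρ (h : G)).hom.base y ∈ Y := by
  have h1 := congrArg (fun f => f.base ⟨y, hy⟩) (hρY h)
  have h2 : (ρ (h : G)).hom.base y = ((ρY h).hom.base ⟨y, hy⟩).1 := by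
    simpa using h1.symm
  rw [h2]
  exact ((ρY h).hom.base ⟨y, hy⟩).2

include hρY hcov hdisj in
omit [Finite G] in
theorem isClosed_of_coset : IsClosed (Y : Set X) := by
  rw [← isOpen_compl_iff]
  have : (Y : Set X)ᶜ = ⋃ g ∈ {g : G | g ∉ H}, (ρ g).hom.base '' (Y : Set X) := by
    ext x
    simp only [Set.mem_compl_iff, Set.mem_iUnion, Set.mem_ofPred_eq, exists_prop]
    constructor
    · intro hx
      obtain ⟨g, y, hy, rfl⟩ := hcov x
      refine ⟨g, fun hg => hx ?_, y, hy, rfl⟩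
      exact apply_mem_of_mem ρ H Y ρY hρY ⟨g, hg⟩ y hy
    · rintro ⟨g, hg, hx⟩ hxY
      exact Set.disjoint_left.mp (hdisj g hg) hx hxY
  rw [this]
  refine isOpen_biUnion fun g _ => ?_
  exact (ρ g).hom.isOpenEmbedding.isOpenMap _ Y.2

include hρY hcov hdisj in
theorem quotAt_chart (hP : IsQuot ρ p) (W : XG.Opens) (hW : IsAffineOpen W) :
    QuotAt (fun h : H => (ρY h).hom) (Y.ι ≫ p) W ((Y.ι ≫ p) ⁻¹ᵁ W) := by
  haveI : IsAffineHom p := hP.affine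
  have hT : IsAffineOpen (p ⁻¹ᵁ W) := hW.preimage p
  have hYc := isClosed_of_coset ρ H Y ρY hρY hcov hdisj
  obtain ⟨e, he, hDe⟩ := exists_idem_basicOpen hT Y hYc
  letI := sectionAction ρ p hP.inv W
  have hq : ∀ h : H, (ρY h).hom ≫ Y.ι ≫ p = Y.ι ≫ p := fun h => by
    rw [← Category.assoc, hρY h, Category.assoc, hP.inv]
  have eσ : ∀ h : H, Y.ι ⁻¹ᵁ (p ⁻¹ᵁ W) ≤ (ρY h).hom ⁻¹ᵁ (Y.ι ⁻¹ᵁ (p ⁻¹ᵁ W)) := fun h => by
    change (Y.ι ≫ p) ⁻¹ᵁ W ≤ ((ρY h).hom ≫ Y.ι ≫ p) ⁻¹ᵁ W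
    rw [hq h]
  -- the restriction map
  have hVe : Y.ι ''ᵁ Y.ι ⁻¹ᵁ (p ⁻¹ᵁ W) = X.basicOpen e := by
    rw [Scheme.Hom.image_preimage_eq_opensRange_inf, Scheme.Opens.opensRange_ι, hDe]
  have hVT : Y.ι ''ᵁ Y.ι ⁻¹ᵁ (p ⁻¹ᵁ W) ≤ p ⁻¹ᵁ W :=
    Set.image_preimage_subset Y.ι.base (p ⁻¹ᵁ W : Set X)
  obtain ⟨hsurj, hker⟩ := res_basicOpen_idem hT e he hVe hVT
  let r : Γ(X, p ⁻¹ᵁ W) →+* Γ(Y, Y.ι ⁻¹ᵁ (p ⁻¹ᵁ W)) := (Y.ι.app (p ⁻¹ᵁ W)).hom
  have hsurj' : Function.Surjective r := hsurj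
  have hker' : ∀ a, r a = 0 ↔ e * a = 0 := hker
  let τ' : H → Γ(Y, Y.ι ⁻¹ᵁ (p ⁻¹ᵁ W)) →+* Γ(Y, Y.ι ⁻¹ᵁ (p ⁻¹ᵁ W)) := fun h =>
    ((ρY h⁻¹).hom.appLE (Y.ι ⁻¹ᵁ (p ⁻¹ᵁ W)) (Y.ι ⁻¹ᵁ (p ⁻¹ᵁ W)) (eσ h⁻¹)).hom
  have hτ' : ∀ (h : H) (a : Γ(X, p ⁻¹ᵁ W)), τ' h (r a) = r ((h : G) • a) := by
    intro h a
    have h1 : Y.ι.app (p ⁻¹ᵁ W) ≫
        (ρY h⁻¹).hom.appLE (Y.ι ⁻¹ᵁ (p ⁻¹ᵁ W)) (Y.ι ⁻¹ᵁ (p ⁻¹ᵁ W)) (eσ h⁻¹) =
        (ρ ((h : G)⁻¹)).hom.appLE (p ⁻¹ᵁ W) (p ⁻¹ᵁ W)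
          (preimage_le_of_inv ρ p hP.inv (h : G)⁻¹ W) ≫ Y.ι.app (p ⁻¹ᵁ W) := by
      rw [Scheme.Hom.app_eq_appLE, Scheme.Hom.appLE_comp_appLE, Scheme.Hom.appLE_comp_appLE]
      exact appLE_congr_hom (hρY h⁻¹) _ _ _
    exact congrArg (fun f => f.hom a) h1
  -- translates of `e`
  have hbo : ∀ g : G, X.basicOpen (g • e) =
      p ⁻¹ᵁ W ⊓ (ρ g⁻¹).hom ⁻¹ᵁ (Y ⊓ p ⁻¹ᵁ W) := by
    intro g
    rw [← hDe]
    exact Scheme.basicOpen_appLE (ρ g⁻¹).hom (p ⁻¹ᵁ W) (p ⁻¹ᵁ W)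
      (preimage_le_of_inv ρ p hP.inv g⁻¹ W) e
  have h2 : ∀ g : G, g ∉ H → (g • e) * e = 0 := by
    intro g hg
    have hidem : IsIdempotentElem ((g • e) * e) := by
      have h1 : IsIdempotentElem (g • e) := by
        unfold IsIdempotentElem
        rw [← smul_mul', he.eq]
      exact h1.mul he
    have hnil : IsNilpotent ((g • e) * e) := by
      rw [Scheme.isNilpotent_iff_basicOpen_eq_bot_of_isCompact hT.isCompact,
        Scheme.basicOpen_mul, hbo g, hDe]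
      ext x
      simp only [Opens.coe_inf, Opens.coe_bot, Set.mem_inter_iff, Set.mem_empty_iff_false,
        iff_false]
      rintro ⟨⟨-, hx1, -⟩, hxY, -⟩
      refine Set.disjoint_left.mp (hdisj g hg) ⟨(ρ g⁻¹).hom.base x, hx1, ?_⟩ hxY
      rw [rho_mul_apply, mul_inv_cancel, rho_one_apply]
    obtain ⟨n, hn⟩ := hnil
    rcases n with _ | n
    · rw [pow_zero] at hn
      rw [← mul_one ((g • e) * e), hn, mul_zero]
    · rwa [hidem.pow_succ_eq] at hn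
  have h3 : Ideal.span (Set.range fun g : G => g • e) = ⊤ := by
    rw [← hT.self_le_iSup_basicOpen_iff]
    intro x hx
    obtain ⟨g, y, hy, hxy⟩ := hcov x
    have hx' : x ∈ X.basicOpen (g • e) := by
      rw [hbo g]
      have h4 : (ρ g⁻¹).hom.base x = y := by
        rw [← hxy, rho_mul_apply, inv_mul_cancel, rho_one_apply]
      refine ⟨hx, ?_, ?_⟩
      · change (ρ g⁻¹).hom.base x ∈ Y
        rw [h4]; exact hy
      · exact preimage_le_of_inv ρ p hP.inv g⁻¹ W hx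
    exact Opens.mem_iSup.mpr ⟨⟨g • e, g, rfl⟩, hx'⟩
  -- invariance of pulled back sections
  have hφinv : ∀ (b : Γ(XG, W)) (g : G), g • (p.app W).hom b = (p.app W).hom b := by
    intro b g
    exact (hP.range_iff W _).mp ⟨b, rfl⟩ g⁻¹
  have hqapp : ∀ e', (Y.ι ≫ p).appLE W ((Y.ι ≫ p) ⁻¹ᵁ W) e' =
      p.app W ≫ Y.ι.app (p ⁻¹ᵁ W) := by
    intro e'
    rw [← Scheme.Hom.comp_app]
    exact Scheme.Hom.appLE_eq_app _
  refine ⟨le_rfl, eσ, ?_, ?_⟩
  · rw [hqapp]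
    intro b b' hbb'
    apply hP.injective W
    rw [← sub_eq_zero, ← map_sub]
    apply eq_zero_of_invariant e r hker' h3 _ (hφinv _)
    change r ((p.app W).hom (b - b')) = 0
    rw [map_sub, map_sub, sub_eq_zero]
    exact hbb'
  · intro s hs
    rw [hqapp]
    have ht : ∀ h : H, τ' h s = s := fun h => hs h⁻¹
    obtain ⟨a, ha, hra⟩ := exists_invariant_lift H e r hker' τ' hτ' he hsurj' h2 s ht
    have hamem : a ∈ Set.range (p.app W).hom := by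
      rw [hP.range_iff W a]
      intro g
      have := ha g⁻¹
      rwa [sectionAction_smul, inv_inv] at this
    obtain ⟨b, rfl⟩ := hamem
    exact ⟨b, hra⟩

include hρY hcov hdisj in
/-- **Coset decomposition**: if `X` is the disjoint union of the translates of an `H`-stable open
`Y` over `G / H`, then `Y → X/G` is a quotient of `Y` by `H`. -/
theorem isQuot_of_coset (hP : IsQuot ρ p) : IsQuot ρY (Y.ι ≫ p) := by
  haveI : IsAffineHom p := hP.affine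
  have hq : ∀ h : H, (ρY h).hom ≫ Y.ι ≫ p = Y.ι ≫ p := fun h => by
    rw [← Category.assoc, hρY h, Category.assoc, hP.inv]
  have hYc := isClosed_of_coset ρ H Y ρY hρY hcov hdisj
  haveI : IsClosedImmersion Y.ι :=
    IsClosedImmersion.of_isPreimmersion Y.ι (by rw [Scheme.Opens.range_ι]; exact hYc)
  refine isQuot_of_charts ρY (Y.ι ≫ p) hq fun y => ?_
  obtain ⟨W, hW, hyW, -⟩ := Opens.isBasis_iff_nbhd.mp XG.isBasis_affineOpens
    (Opens.mem_top y)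
  exact ⟨W, hyW, hW, (hW.preimage p).preimage Y.ι,
    quotAt_chart ρ p H Y ρY hρY hcov hdisj hP W hW⟩

end main

end Groth.Agent.Lib.R2H4CosetSch
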