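import Mathlib
import Groth.Prelude.Def_RegImm
import Groth.Prelude.Def_LCI2
import Groth.Agent.S9269
import Groth.Agent.Lib.R2H3KzCotProj
import Groth.Agent.Lib.R2H3KzLCIComp
import Groth.Agent.Lib.R2LeadSyntH

/-!
# The conormal module of a presentation localizes to a finite projective module on the syntomic
locus (helper4, round 2)
-/

set_option autoImplicit false
universe u
open scoped TensorProduct

namespace Groth.Agent.Lib.R2H4.CotLoc

open Algebra

section X

variable {R S T : Type u} [CommRing R] [CommRing S] [Algebra R S]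
  [CommRing T] [Algebra R T] [Algebra S T] [IsScalarTower R S T]

/-- the kernel of any presentation by finitely many variables of a syntomic algebra is
Koszul-regular -/
theorem isKoszulRegularIdeal_ker_of_isSyntomic {ι : Type} [Finite ι] (Q : Generators R T ι)
    (hT : Synt.IsSyntomic R T) : LCI.IsKoszulRegularIdeal Q.ker := by
  classical
  obtain ⟨-, m, α, hα, hK⟩ := Groth.Agent.Lib.R2LeadSyntH.isLCI_of_isSyntomic R T hT
  haveI := Fintype.ofFinite ι
  let e : ι ≃ Fin (Fintype.card ι) := Fintype.equivFin ι
  let ρ : MvPolynomial (Fin (Fintype.card ι)) R ≃ₐ[R] MvPolynomial ι R :=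
    MvPolynomial.renameEquiv R e.symm
  let β : MvPolynomial (Fin (Fintype.card ι)) R →ₐ[R] T :=
    (IsScalarTower.toAlgHom R Q.Ring T).comp ρ.toAlgHom
  have hβ : Function.Surjective β := Q.algebraMap_surjective.comp ρ.surjective
  have h1 := Groth.Agent.S9269.result R T m (Fintype.card ι) α hα β hβ hK
  have h2 := Groth.Agent.Lib.R2H3.KzLCIComp.isKoszulRegularIdeal_map_of_flat
    (ρ : MvPolynomial (Fin (Fintype.card ι)) R →+* MvPolynomial ι R)
    (RingHom.Flat.of_bijective ρ.bijective) _ h1
  convert h2 using 1
  ext x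
  constructor
  · intro hx
    have : ρ.symm x ∈ RingHom.ker β.toRingHom := by
      rw [RingHom.mem_ker]
      change algebraMap Q.Ring T (ρ (ρ.symm x)) = 0
      rw [ρ.apply_symm_apply]
      exact hx
    have h3 := Ideal.mem_map_of_mem (ρ : MvPolynomial (Fin (Fintype.card ι)) R →+* MvPolynomial ι R) this
    simpa using h3
  · intro hx
    obtain ⟨y, hy, rfl⟩ := (Ideal.mem_map_iff_of_surjective
      (ρ : MvPolynomial (Fin (Fintype.card ι)) R →+* MvPolynomial ι R) ρ.surjective).mp hx
    exact hy

/-- For a finite presentation `P₀` of `S` and a syntomic localization `T = S_g`, the base change of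
the conormal module of `P₀` to `T` is finite projective. -/
theorem tensor_cotangent_finite_projective (g : S) [IsLocalization.Away g T] {ι : Type}
    [Finite ι] (P₀ : Generators R S ι) (hT : Synt.IsSyntomic R T) :
    Module.Finite T (T ⊗[S] P₀.toExtension.Cotangent) ∧
      Module.Projective T (T ⊗[S] P₀.toExtension.Cotangent) := by
  classical
  let Q := (Generators.localizationAway T g).comp P₀
  have hK : LCI.IsKoszulRegularIdeal Q.ker := isKoszulRegularIdeal_ker_of_isSyntomic Q hT
  obtain ⟨hfin, hproj⟩ := Groth.Agent.Lib.R2H3.KzCotProj.cotangent_finite_projective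
    Q.toExtension hK
  obtain ⟨x, hx⟩ := Generators.Cotangent.surjective_map_ofComp (Generators.localizationAway T g) P₀
    (Generators.cMulXSubOneCotangent T g)
  let E := Generators.cotangentCompLocalizationAwayEquiv g P₀ hx
  let j : T ⊗[S] P₀.toExtension.Cotangent →ₗ[T] Q.toExtension.Cotangent :=
    E.symm.toLinearMap ∘ₗ LinearMap.inl T _ _
  let r : Q.toExtension.Cotangent →ₗ[T] T ⊗[S] P₀.toExtension.Cotangent :=
    LinearMap.fst T _ _ ∘ₗ E.toLinearMap
  have hrj : r ∘ₗ j = LinearMap.id := by
    ext a
    simp [r, j]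
  have hrsurj : Function.Surjective r := fun a => ⟨j a, LinearMap.congr_fun hrj a⟩
  refine ⟨Module.Finite.of_surjective r hrsurj, ?_⟩
  exact Module.Projective.of_split j r hrj

end X

open Algebra

section Concrete

theorem cotangent_congr {A : Type u} [CommRing A] (I J : Ideal A) (h : I = J) :
    Nonempty (I.Cotangent ≃ₗ[A] J.Cotangent) := by
  subst h
  exact ⟨LinearEquiv.refl _ _⟩

variable (R : Type u) [CommRing R] (n : ℕ) (I : Ideal (MvPolynomial (Fin n) R))

/-- the conormal module of the naive presentation of `R[x]/I` is `I/I²` -/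
theorem nonempty_cotangent_equiv :
    Nonempty (I.Cotangent ≃ₗ[MvPolynomial (Fin n) R ⧸ I]
      (Generators.naive (I := I)).toExtension.Cotangent) := by
  let E := (Generators.naive (I := I)).toExtension
  have hker : I = E.ker := by
    change I = RingHom.ker (algebraMap (MvPolynomial (Fin n) R) (MvPolynomial (Fin n) R ⧸ I))
    rw [Ideal.Quotient.algebraMap_eq, Ideal.mk_ker]
  obtain ⟨e₁⟩ := cotangent_congr I E.ker hker
  let e₂ : I.Cotangent ≃ₗ[MvPolynomial (Fin n) R] E.Cotangent :=
    e₁.trans E.cotangentEquivCotangentKer.symm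
  exact ⟨LinearEquiv.extendScalarsOfSurjective
    (Ideal.Quotient.mk_surjective : Function.Surjective
      (algebraMap (MvPolynomial (Fin n) R) (MvPolynomial (Fin n) R ⧸ I))) e₂⟩

theorem main9151 (g : MvPolynomial (Fin n) R ⧸ I)
    (hg : Synt.IsSyntomic R (Localization.Away g)) :
    Module.Finite (Localization.Away g) (LocalizedModule (Submonoid.powers g) I.Cotangent) ∧
      Module.Projective (Localization.Away g)
        (LocalizedModule (Submonoid.powers g) I.Cotangent) := by
  obtain ⟨e⟩ := nonempty_cotangent_equiv R n I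
  obtain ⟨hfin, hproj⟩ := tensor_cotangent_finite_projective (T := Localization.Away g) g
    (Generators.naive (I := I)) hg
  let e₁ : Localization.Away g ⊗[MvPolynomial (Fin n) R ⧸ I] I.Cotangent ≃ₗ[Localization.Away g]
      Localization.Away g ⊗[MvPolynomial (Fin n) R ⧸ I]
        (Generators.naive (I := I)).toExtension.Cotangent :=
    LinearEquiv.baseChange _ (Localization.Away g) _ _ e
  let e₂ : Localization.Away g ⊗[MvPolynomial (Fin n) R ⧸ I] I.Cotangent ≃ₗ[Localization.Away g]
      LocalizedModule (Submonoid.powers g) I.Cotangent :=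
    (IsLocalizedModule.isBaseChange (Submonoid.powers g) (Localization.Away g)
      (LocalizedModule.mkLinearMap (Submonoid.powers g) I.Cotangent)).equiv
  exact ⟨Module.Finite.equiv (e₁.symm.trans e₂), Module.Projective.of_equiv (e₁.symm.trans e₂)⟩

end Concrete

end Groth.Agent.Lib.R2H4.CotLoc
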