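import Mathlib

/-!
# The adic completion modulo powers of a finitely generated ideal, and transport along ring isomorphisms (helper4)
-/


set_option autoImplicit false
universe u
open IsLocalRing

namespace Groth.Agent.Lib.R2H4CplStalkAdic

variable {R : Type u} [CommRing R] (I : Ideal R)

theorem ker_evalₐ_eq_map (fg : I.FG) (n : ℕ) :
    RingHom.ker (AdicCompletion.evalₐ I n).toRingHom =
      (I ^ n).map (algebraMap R (AdicCompletion I R)) := by
  ext x
  trans x ∈ (AdicCompletion.eval I R n).ker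
  · have eq : I ^ n * ⊤ = I ^ n := by simp
    have hle : (I ^ n • ⊤ : Ideal R) ≤ I ^ n := le_of_eq eq
    have : Function.Injective (Ideal.Quotient.factor hle) := by
      simpa [RingHom.injective_iff_ker_eq_bot, Ideal.Quotient.factor_ker]
        using Ideal.map_mk_eq_bot_of_le (le_of_eq eq.symm)
    rw [RingHom.mem_ker, LinearMap.mem_ker]
    change AdicCompletion.evalₐ I n x = 0 ↔ _
    rw [← AdicCompletion.factor_eval_eq_evalₐ I x hle]
    exact map_eq_zero_iff _ this
  · simp [← AdicCompletion.pow_smul_top_eq_ker_eval fg]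

theorem adic_hs (fg : I.FG) (n : ℕ) (s : AdicCompletion I R) :
    ∃ r : R, s - algebraMap R (AdicCompletion I R) r ∈
      (I ^ n).map (algebraMap R (AdicCompletion I R)) := by
  obtain ⟨r, hr⟩ := Ideal.Quotient.mk_surjective (AdicCompletion.evalₐ I n s)
  refine ⟨r, ?_⟩
  rw [← ker_evalₐ_eq_map I fg n, RingHom.mem_ker]
  change AdicCompletion.evalₐ I n (s - algebraMap R (AdicCompletion I R) r) = 0
  rw [map_sub, AlgHom.commutes, ← hr]
  exact sub_self _

theorem adic_hi (fg : I.FG) (n : ℕ) (r : R)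
    (h : algebraMap R (AdicCompletion I R) r ∈ (I ^ n).map (algebraMap R (AdicCompletion I R))) :
    r ∈ I ^ n := by
  rw [← ker_evalₐ_eq_map I fg n, RingHom.mem_ker] at h
  change AdicCompletion.evalₐ I n (algebraMap R (AdicCompletion I R) r) = 0 at h
  rw [AlgHom.commutes] at h
  exact Ideal.Quotient.eq_zero_iff_mem.mp h

section Transport

variable {R₀ S₀ A A' : Type u} [CommRing R₀] [CommRing S₀] [CommRing A] [CommRing A']
  [Algebra R₀ S₀] [Algebra A A'] (eR : R₀ ≃+* A) (eS : S₀ ≃+* A')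
  (hc : ∀ x, eS (algebraMap R₀ S₀ x) = algebraMap A A' (eR x)) (m : Ideal A)

include hc in
theorem map_map_eq (n : ℕ) :
    (((m.comap (eR : R₀ →+* A)) ^ n).map (algebraMap R₀ S₀)).map (eS : S₀ →+* A') =
      (m ^ n).map (algebraMap A A') := by
  have h1 : ((eS : S₀ →+* A')).comp (algebraMap R₀ S₀) = (algebraMap A A').comp (eR : R₀ →+* A) := by
    ext x
    exact hc x
  have h2 : (m.comap (eR : R₀ →+* A)).map (eR : R₀ →+* A) = m :=
    Ideal.map_comap_of_surjective (eR : R₀ →+* A) eR.surjective m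
  rw [Ideal.map_map, h1, ← Ideal.map_map, Ideal.map_pow, h2]

include hc in
theorem mem_iff (n : ℕ) (x : S₀) :
    x ∈ ((m.comap (eR : R₀ →+* A)) ^ n).map (algebraMap R₀ S₀) ↔
      eS x ∈ (m ^ n).map (algebraMap A A') := by
  rw [← map_map_eq eR eS hc m n]
  constructor
  · intro h
    exact Ideal.mem_map_of_mem _ h
  · intro h
    have := Ideal.mem_map_of_mem (eS.symm : A' →+* S₀) h
    rw [Ideal.map_map] at this
    simpa using this

include hc in
theorem transport_hs
    (hs : ∀ (n : ℕ) (s : A'), ∃ r : A, s - algebraMap A A' r ∈ (m ^ n).map (algebraMap A A'))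
    (n : ℕ) (s : S₀) : ∃ r : R₀, s - algebraMap R₀ S₀ r ∈
      ((m.comap (eR : R₀ →+* A)) ^ n).map (algebraMap R₀ S₀) := by
  obtain ⟨r, hr⟩ := hs n (eS s)
  refine ⟨eR.symm r, ?_⟩
  rw [mem_iff eR eS hc m n, map_sub, hc, RingEquiv.apply_symm_apply]
  exact hr

include hc in
theorem transport_hi
    (hi : ∀ (n : ℕ) (r : A), algebraMap A A' r ∈ (m ^ n).map (algebraMap A A') → r ∈ m ^ n)
    (n : ℕ) (r : R₀) (h : algebraMap R₀ S₀ r ∈
      ((m.comap (eR : R₀ →+* A)) ^ n).map (algebraMap R₀ S₀)) :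
    r ∈ (m.comap (eR : R₀ →+* A)) ^ n := by
  rw [mem_iff eR eS hc m n, hc] at h
  have h1 := hi n (eR r) h
  have h2 : (m.comap (eR : R₀ →+* A)) ^ n = (m ^ n).comap (eR : R₀ →+* A) := by
    apply le_antisymm
    · exact Ideal.le_comap_pow _ n
    · intro x hx
      have h3 : (eR : R₀ →+* A) x ∈ m ^ n := hx
      have h4 := Ideal.mem_map_of_mem (eR.symm : A →+* R₀) h3
      rw [Ideal.map_pow] at h4
      have h5 : m.map (eR.symm : A →+* R₀) = m.comap (eR : R₀ →+* A) :=
        Ideal.map_symm eR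
      rw [h5] at h4
      simpa using h4
  rw [h2]
  exact h1

end Transport

end Groth.Agent.Lib.R2H4CplStalkAdic
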