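import Mathlib

/-!
# Base change along a map which is an isomorphism modulo powers of an ideal: local rings (helper4)

`R → S` with `R/m^n ≅ S/m^n S` for all `n` (e.g. `S` the `m`-adic completion, `m` finitely generated),
`B' = S ⊗_R B`, `Q ⊂ B'` a prime over a prime `P ⊂ B` containing `m B`.  Then
`B_P / P^n B_P → B'_Q / Q^n B'_Q` is bijective for all `n ≥ 1`.
-/

set_option autoImplicit false
set_option linter.style.haveILetI false
set_option linter.unusedSectionVars false
universe u

open TensorProduct IsLocalRing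

namespace Groth.Agent.Lib.R2H4CplStalkAlg

variable {R S B B' : Type u} [CommRing R] [CommRing S] [CommRing B] [CommRing B']
  [Algebra R S] [Algebra R B] [Algebra S B'] [Algebra B B'] [Algebra R B']
  [IsScalarTower R S B'] [IsScalarTower R B B'] [Algebra.IsPushout R S B B']
  (m : Ideal R)

/-- the image of `m^n S` in `B'` lies in `m^n B'` -/
theorem algebraMap_mem {n : ℕ} {e : S} (he : e ∈ (m ^ n).map (algebraMap R S)) :
    algebraMap S B' e ∈ (m ^ n).map (algebraMap R B') := by
  have h1 := Ideal.mem_map_of_mem (algebraMap S B') he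
  rwa [Ideal.map_map, ← IsScalarTower.algebraMap_eq] at h1

/-- the image of `m^n B` in `B'` lies in `m^n B'` -/
theorem algebraMap_mem' {n : ℕ} {e : B} (he : e ∈ (m ^ n).map (algebraMap R B)) :
    algebraMap B B' e ∈ (m ^ n).map (algebraMap R B') := by
  have h1 := Ideal.mem_map_of_mem (algebraMap B B') he
  rwa [Ideal.map_map, ← IsScalarTower.algebraMap_eq] at h1

theorem map_map_eq (n : ℕ) : ((m ^ n).map (algebraMap R B)).map (algebraMap B B') =
    (m ^ n).map (algebraMap R B') := by
  rw [Ideal.map_map, ← IsScalarTower.algebraMap_eq]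

variable (hs : ∀ (n : ℕ) (s : S), ∃ r : R, s - algebraMap R S r ∈ (m ^ n).map (algebraMap R S))
  (hi : ∀ (n : ℕ) (r : R), algebraMap R S r ∈ (m ^ n).map (algebraMap R S) → r ∈ m ^ n)

include hs in
/-- every element of `B'` is congruent to an element of `B` modulo `m^n B'` -/
theorem exists_sub_mem (n : ℕ) (x : B') :
    ∃ b : B, x - algebraMap B B' b ∈ (m ^ n).map (algebraMap R B') := by
  obtain ⟨t, rfl⟩ := (Algebra.IsPushout.equiv R S B B').surjective x
  induction t with
  | zero => exact ⟨0, by simp⟩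
  | tmul s b =>
    obtain ⟨r, hr⟩ := hs n s
    refine ⟨algebraMap R B r * b, ?_⟩
    rw [Algebra.IsPushout.equiv_tmul, map_mul, ← IsScalarTower.algebraMap_apply R B B',
      IsScalarTower.algebraMap_apply R S B', ← sub_mul, ← map_sub]
    exact Ideal.mul_mem_right _ _ (algebraMap_mem m hr)
  | add x y hx hy =>
    obtain ⟨b₁, h₁⟩ := hx
    obtain ⟨b₂, h₂⟩ := hy
    refine ⟨b₁ + b₂, ?_⟩
    rw [map_add, map_add]
    have := Ideal.add_mem _ h₁ h₂
    convert this using 1
    ring

/-- `R/m^n ≃ S/m^n S` -/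
noncomputable def quotEquiv (n : ℕ) :
    (R ⧸ m ^ n) ≃ₐ[R] (S ⧸ (m ^ n).map (algebraMap R S)) :=
  AlgEquiv.ofBijective
    (Ideal.quotientMapₐ ((m ^ n).map (algebraMap R S)) (Algebra.ofId R S) Ideal.le_comap_map)
    ⟨by
      change Function.Injective (Ideal.quotientMap ((m ^ n).map (algebraMap R S)) (algebraMap R S)
        Ideal.le_comap_map)
      refine Ideal.quotientMap_injective' (H := Ideal.le_comap_map) ?_
      intro r hr
      exact hi n r hr,
     by
      intro y
      obtain ⟨s, rfl⟩ := Ideal.Quotient.mk_surjective y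
      obtain ⟨r, hr⟩ := hs n s
      refine ⟨Ideal.Quotient.mk _ r, ?_⟩
      change Ideal.Quotient.mk _ (algebraMap R S r) = _
      rw [eq_comm, Ideal.Quotient.eq]
      exact hr⟩

/-- the retraction `B' → B/m^n B` -/
noncomputable def retr (n : ℕ) : B' →ₐ[R] B ⧸ (m ^ n).map (algebraMap R B) :=
  Algebra.pushoutDesc B'
    ((Ideal.quotientMapₐ ((m ^ n).map (algebraMap R B)) (Algebra.ofId R B) Ideal.le_comap_map).comp
      ((quotEquiv m hs hi n).symm.toAlgHom.comp
        (Ideal.Quotient.mkₐ R ((m ^ n).map (algebraMap R S)))))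
    (Ideal.Quotient.mkₐ R ((m ^ n).map (algebraMap R B)))
    (fun _ _ => mul_comm _ _)

theorem retr_algebraMap (n : ℕ) (b : B) :
    retr (B' := B') m hs hi n (algebraMap B B' b) = Ideal.Quotient.mk _ b := by
  unfold retr
  rw [Algebra.pushoutDesc_right]
  rfl

variable (P : Ideal B) [P.IsPrime] (hmP : m.map (algebraMap R B) ≤ P)

include hmP in
theorem map_pow_le (n : ℕ) : (m ^ n).map (algebraMap R B) ≤ P ^ n := by
  rw [Ideal.map_pow]
  exact Ideal.pow_right_mono hmP n

include hs hi hmP in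
/-- `B/P^n → B'/P^n B'` is injective -/
theorem mem_pow_of_algebraMap_mem (n : ℕ) (x : B)
    (hx : algebraMap B B' x ∈ (P ^ n).map (algebraMap B B')) : x ∈ P ^ n := by
  have h1 : (P ^ n).map (algebraMap B B') ≤
      ((P ^ n).map (Ideal.Quotient.mk ((m ^ n).map (algebraMap R B)))).comap
        (retr (B' := B') m hs hi n).toRingHom := by
    rw [Ideal.map_le_iff_le_comap]
    intro y hy
    rw [Ideal.mem_comap, Ideal.mem_comap]
    change retr (B' := B') m hs hi n (algebraMap B B' y) ∈ _
    rw [retr_algebraMap]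
    exact Ideal.mem_map_of_mem _ hy
  have h2 := h1 hx
  rw [Ideal.mem_comap] at h2
  change retr (B' := B') m hs hi n (algebraMap B B' x) ∈ _ at h2
  rw [retr_algebraMap, Ideal.mem_quotient_iff_mem_sup] at h2
  rwa [sup_eq_left.mpr (map_pow_le m P hmP n)] at h2

variable (Q : Ideal B') [Q.IsPrime] (hQ : Q.comap (algebraMap B B') = P)

include hs hmP hQ in
/-- the prime `Q` is `P B'` -/
theorem eq_map : Q = P.map (algebraMap B B') := by
  apply le_antisymm
  · intro x hx
    obtain ⟨b, hb⟩ := exists_sub_mem (B := B) m hs 1 x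
    have h1 : (m ^ 1).map (algebraMap R B') ≤ P.map (algebraMap B B') := by
      rw [← map_map_eq (B := B) m 1]
      exact Ideal.map_mono (by rw [pow_one]; exact hmP)
    have hPQ : P.map (algebraMap B B') ≤ Q := Ideal.map_le_iff_le_comap.mpr hQ.ge
    have h2 : algebraMap B B' b ∈ Q := by
      have := Q.sub_mem hx (hPQ (h1 hb))
      rwa [sub_sub_cancel] at this
    have h3 : b ∈ P := by rw [← hQ]; exact h2
    have := Ideal.add_mem _ (h1 hb) (Ideal.mem_map_of_mem (algebraMap B B') h3)
    rwa [sub_add_cancel] at this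
  · exact Ideal.map_le_iff_le_comap.mpr hQ.ge

include hs hmP hQ in
theorem map_pow_le' (n : ℕ) : (m ^ n).map (algebraMap R B') ≤ Q ^ n := by
  rw [eq_map m hs P hmP Q hQ, ← Ideal.map_pow, ← map_map_eq (B := B) m n]
  exact Ideal.map_mono (map_pow_le m P hmP n)

include hs hmP hQ in
/-- approximating an element outside `Q` by an element outside `P` -/
theorem exists_notMem (n : ℕ) (hn : 1 ≤ n) (u : B') (hu : u ∉ Q) :
    ∃ c : B, c ∉ P ∧ u - algebraMap B B' c ∈ (m ^ n).map (algebraMap R B') := by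
  obtain ⟨c, hc⟩ := exists_sub_mem (B := B) m hs n u
  refine ⟨c, fun hcP => hu ?_, hc⟩
  have h1 : algebraMap B B' c ∈ Q := by
    have : c ∈ Q.comap (algebraMap B B') := by rw [hQ]; exact hcP
    exact this
  have h2 : u - algebraMap B B' c ∈ Q :=
    Ideal.pow_le_self (by omega) (map_pow_le' m hs P hmP Q hQ n hc)
  have := Q.add_mem h2 h1
  rwa [sub_add_cancel] at this


section Loc

variable {O O' : Type u} [CommRing O] [CommRing O'] [Algebra B O] [Algebra B' O']
  [IsLocalRing O] [IsLocalRing O'] [IsLocalization.AtPrime O P] [IsLocalization.AtPrime O' Q]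
  (ψ : O →+* O') (hψ : ∀ b, ψ (algebraMap B O b) = algebraMap B' O' (algebraMap B B' b))

include hQ in
theorem algebraMap_notMem (c : B) (hc : c ∉ P) : algebraMap B B' c ∉ Q := by
  intro h
  apply hc
  rw [← hQ]
  exact h

include hψ hQ in
theorem map_mk' (b : B) (c : B) (hc : c ∈ P.primeCompl) :
    ψ (IsLocalization.mk' O b ⟨c, hc⟩) =
      IsLocalization.mk' O' (algebraMap B B' b)
        (⟨algebraMap B B' c, algebraMap_notMem P Q hQ c hc⟩ : Q.primeCompl) := by
  rw [IsLocalization.eq_mk'_iff_mul_eq]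
  change ψ _ * algebraMap B' O' (algebraMap B B' c) = _
  rw [← hψ, ← map_mul, ← hψ]
  congr 1
  exact IsLocalization.mk'_spec O b ⟨c, hc⟩

include hs hi hmP hQ hψ in
/-- **main algebraic statement** -/
theorem bijective (n : ℕ) (hn : 1 ≤ n) (h : maximalIdeal O ^ n ≤ (maximalIdeal O' ^ n).comap ψ) :
    Function.Bijective (Ideal.quotientMap (maximalIdeal O' ^ n) ψ h) := by
  have hO : maximalIdeal O ^ n = (P ^ n).map (algebraMap B O) := by
    rw [← IsLocalization.AtPrime.map_eq_maximalIdeal P O, Ideal.map_pow]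
  have hO' : maximalIdeal O' ^ n = (Q ^ n).map (algebraMap B' O') := by
    rw [← IsLocalization.AtPrime.map_eq_maximalIdeal Q O', Ideal.map_pow]
  have hJ' := map_pow_le' (B := B) m hs P hmP Q hQ n
  constructor
  · refine Ideal.quotientMap_injective' (H := h) ?_
    intro o ho
    rw [Ideal.mem_comap] at ho
    obtain ⟨b, ⟨c, hc⟩, rfl⟩ := IsLocalization.exists_mk'_eq P.primeCompl o
    rw [map_mk' P Q hQ ψ hψ, hO', IsLocalization.mk'_mem_map_algebraMap_iff] at ho
    obtain ⟨t, ht, htb⟩ := ho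
    obtain ⟨c', hc', hc't⟩ := exists_notMem (B := B) m hs P hmP Q hQ n hn t ht
    have h1 : algebraMap B B' (c' * b) ∈ (P ^ n).map (algebraMap B B') := by
      rw [Ideal.map_pow, ← eq_map m hs P hmP Q hQ]
      have h2 : algebraMap B B' (c' * b) =
          t * algebraMap B B' b - (t - algebraMap B B' c') * algebraMap B B' b := by
        rw [map_mul]; ring
      rw [h2]
      exact Ideal.sub_mem _ htb (Ideal.mul_mem_right _ _ (hJ' hc't))
    have h3 := mem_pow_of_algebraMap_mem (B' := B') m hs hi P hmP n (c' * b) h1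
    rw [hO, IsLocalization.mk'_mem_map_algebraMap_iff]
    exact ⟨c', hc', h3⟩
  · intro y
    obtain ⟨y₀, rfl⟩ := Ideal.Quotient.mk_surjective y
    obtain ⟨x, ⟨s, hsQ⟩, rfl⟩ := IsLocalization.exists_mk'_eq Q.primeCompl y₀
    obtain ⟨b, hb⟩ := exists_sub_mem (B := B) m hs n x
    obtain ⟨c, hc, hcs⟩ := exists_notMem (B := B) m hs P hmP Q hQ n hn s hsQ
    refine ⟨Ideal.Quotient.mk _ (IsLocalization.mk' O b (⟨c, hc⟩ : P.primeCompl)), ?_⟩
    rw [Ideal.quotientMap_mk, Ideal.Quotient.eq, map_mk' P Q hQ ψ hψ, ← IsLocalization.mk'_sub, hO',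
      IsLocalization.mk'_mem_map_algebraMap_iff]
    refine ⟨1, Submonoid.one_mem _, ?_⟩
    rw [one_mul]
    have h2 : algebraMap B B' b * s - x * algebraMap B B' c =
        algebraMap B B' b * (s - algebraMap B B' c) - (x - algebraMap B B' b) * algebraMap B B' c := by
      ring
    change algebraMap B B' b * s - x * algebraMap B B' c ∈ Q ^ n
    rw [h2]
    exact Ideal.sub_mem _ (Ideal.mul_mem_left _ _ (hJ' hcs)) (Ideal.mul_mem_right _ _ (hJ' hb))

end Loc

end Groth.Agent.Lib.R2H4CplStalkAlg
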