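import Mathlib
import Groth.Prelude
import Groth.Agent.Lib.R2H4CplStalkAlg
import Groth.Agent.Lib.R2H4CplStalkAdic

/-!
# Local rings of the base change to the completion (helper4, S7305)

`(A, m)` local with `m` finitely generated, `f : X ⟶ Spec A`, `Y = X ×_A Â`; for `q ∈ Y` over `p ∈ X` over the closed
point, `O_{X,p}/m_p^n → O_{Y,q}/m_q^n` is bijective.
-/

set_option autoImplicit false
set_option linter.style.haveILetI false
set_option linter.unusedSectionVars false
universe u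
open CategoryTheory CategoryTheory.Limits AlgebraicGeometry TopologicalSpace Opposite IsLocalRing

noncomputable section

namespace Groth.Agent.Lib.R2H4CplStalk

open Groth.Agent.Lib.R2H4CplStalkAlg Groth.Agent.Lib.R2H4CplStalkAdic

variable (A : Type u) [CommRing A] [IsLocalRing A]

/-- compatibility of `ΓSpecIso` with `Spec.map` of an algebra map -/
theorem ΓSpecIso_algebraMap (A' : Type u) [CommRing A'] [Algebra A A']
    (x : Γ(Spec (CommRingCat.of A), ⊤)) :
    (Scheme.ΓSpecIso (CommRingCat.of A')).hom.hom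
        ((Spec.map (CommRingCat.ofHom (algebraMap A A'))).appTop.hom x) =
      algebraMap A A' ((Scheme.ΓSpecIso (CommRingCat.of A)).hom.hom x) := by
  have := Scheme.ΓSpecIso_naturality (CommRingCat.ofHom (algebraMap A A'))
  exact congrArg (fun φ => φ.hom x) this

theorem mem_primeIdealOf_iff {X : Scheme.{u}} {U : X.Opens} (hU : IsAffineOpen U) (x : X)
    (hx : x ∈ U) (a : Γ(X, U)) :
    a ∈ (hU.primeIdealOf ⟨x, hx⟩).asIdeal ↔
      (X.presheaf.germ U x hx).hom a ∈ IsLocalRing.maximalIdeal (X.presheaf.stalk x) := by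
  rw [hU.primeIdealOf_eq_map_closedPoint ⟨x, hx⟩]
  rfl

theorem main (hm : (maximalIdeal A).FG) (X : Scheme.{u}) (f : X ⟶ Spec (CommRingCat.of A))
    (q : ↥(Curv2.bcCpl A f))
    (hq : f.base ((Curv2.bcCplFst A f).base q) = IsLocalRing.closedPoint A) (n : ℕ) (hn : 1 ≤ n)
    (h : maximalIdeal (X.presheaf.stalk ((Curv2.bcCplFst A f).base q)) ^ n ≤
      (maximalIdeal ((Curv2.bcCpl A f).presheaf.stalk q) ^ n).comap
        ((Curv2.bcCplFst A f).stalkMap q).hom) :
    Function.Bijective (Ideal.quotientMap (maximalIdeal ((Curv2.bcCpl A f).presheaf.stalk q) ^ n)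
      ((Curv2.bcCplFst A f).stalkMap q).hom h) := by
  set g : Spec (CommRingCat.of (Curv2.cpl A)) ⟶ Spec (CommRingCat.of A) :=
    Spec.map (CommRingCat.ofHom (algebraMap A (Curv2.cpl A))) with hg
  set p : X := (pullback.fst f g).base q with hp
  obtain ⟨_, ⟨V, hV : IsAffineOpen V, rfl⟩, hpV, -⟩ :=
    X.isBasis_affineOpens.exists_subset_of_mem_open (Set.mem_univ p) isOpen_univ
  have hS : IsAffineOpen (⊤ : (Spec (CommRingCat.of A)).Opens) := isAffineOpen_top _
  have hT : IsAffineOpen (⊤ : (Spec (CommRingCat.of (Curv2.cpl A))).Opens) := isAffineOpen_top _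
  have H : IsPullback (pullback.fst f g) (pullback.snd f g) f g := IsPullback.of_hasPullback f g
  have hUST : (⊤ : (Spec (CommRingCat.of (Curv2.cpl A))).Opens) ≤ g ⁻¹ᵁ ⊤ := le_top
  have hUSX : V ≤ f ⁻¹ᵁ ⊤ := le_top
  set UY : (pullback f g).Opens := (pullback.fst f g) ⁻¹ᵁ V with hUYdef
  have hUY : UY = (pullback.fst f g) ⁻¹ᵁ V ⊓ (pullback.snd f g) ⁻¹ᵁ ⊤ := by
    simp [hUYdef]
  haveI : IsAffineHom g := inferInstance
  haveI : IsAffineHom (pullback.fst f g) :=
    MorphismProperty.pullback_fst (P := @IsAffineHom) f g inferInstance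
  have hUYaff : IsAffineOpen UY := hV.preimage (pullback.fst f g)
  have hqUY : q ∈ UY := hpV
  have hiso := isIso_pushoutSection_of_isAffineOpen H hUST hUSX hUY hS hT hV
  have hpo := (isIso_pushoutSection_iff H hUST hUSX hUY).mp hiso
  have hle1 : UY ≤ (pullback.fst f g) ⁻¹ᵁ V := le_rfl
  have hle2 : UY ≤ (pullback.snd f g) ⁻¹ᵁ ⊤ := le_top
  letI : Algebra Γ(Spec (CommRingCat.of A), ⊤) Γ(Spec (CommRingCat.of (Curv2.cpl A)), ⊤) :=
    (g.appLE ⊤ ⊤ hUST).hom.toAlgebra
  letI : Algebra Γ(Spec (CommRingCat.of A), ⊤) Γ(X, V) := (f.appLE ⊤ V hUSX).hom.toAlgebra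
  letI : Algebra Γ(Spec (CommRingCat.of (Curv2.cpl A)), ⊤) Γ(pullback f g, UY) :=
    ((pullback.snd f g).appLE ⊤ UY hle2).hom.toAlgebra
  letI : Algebra Γ(X, V) Γ(pullback f g, UY) :=
    ((pullback.fst f g).appLE V UY hle1).hom.toAlgebra
  letI : Algebra Γ(Spec (CommRingCat.of A), ⊤) Γ(pullback f g, UY) :=
    (((pullback.snd f g).appLE ⊤ UY hle2).hom.comp (g.appLE ⊤ ⊤ hUST).hom).toAlgebra
  haveI : IsScalarTower Γ(Spec (CommRingCat.of A), ⊤) Γ(Spec (CommRingCat.of (Curv2.cpl A)), ⊤)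
      Γ(pullback f g, UY) := .of_algebraMap_eq' rfl
  haveI : IsScalarTower Γ(Spec (CommRingCat.of A), ⊤) Γ(X, V) Γ(pullback f g, UY) := by
    refine .of_algebraMap_eq' ?_
    have := congr($(hpo.w).hom)
    simpa [RingHom.algebraMap_toAlgebra] using this.symm
  haveI : Algebra.IsPushout Γ(Spec (CommRingCat.of A), ⊤) Γ(Spec (CommRingCat.of (Curv2.cpl A)), ⊤)
      Γ(X, V) Γ(pullback f g, UY) :=
    CommRingCat.isPushout_iff_isPushout.mp hpo.flip
  -- the ideal and the hypotheses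
  let eR : Γ(Spec (CommRingCat.of A), ⊤) ≃+* A :=
    (Scheme.ΓSpecIso (CommRingCat.of A)).commRingCatIsoToRingEquiv
  let eS : Γ(Spec (CommRingCat.of (Curv2.cpl A)), ⊤) ≃+* Curv2.cpl A :=
    (Scheme.ΓSpecIso (CommRingCat.of (Curv2.cpl A))).commRingCatIsoToRingEquiv
  have hc : ∀ x, eS (algebraMap Γ(Spec (CommRingCat.of A), ⊤)
      Γ(Spec (CommRingCat.of (Curv2.cpl A)), ⊤) x) = algebraMap A (Curv2.cpl A) (eR x) :=
    fun x => ΓSpecIso_algebraMap A (Curv2.cpl A) x
  set m₀ : Ideal Γ(Spec (CommRingCat.of A), ⊤) :=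
    (maximalIdeal A).comap (eR : Γ(Spec (CommRingCat.of A), ⊤) →+* A) with hm₀
  have hs₀ := transport_hs eR eS hc (maximalIdeal A) (adic_hs (maximalIdeal A) hm)
  have hi₀ := transport_hi eR eS hc (maximalIdeal A) (adic_hi (maximalIdeal A) hm)
  set P : Ideal Γ(X, V) := (hV.primeIdealOf ⟨p, hpV⟩).asIdeal with hP
  set Q : Ideal Γ(pullback f g, UY) := (hUYaff.primeIdealOf ⟨q, hqUY⟩).asIdeal with hQdef
  haveI : P.IsPrime := (hV.primeIdealOf ⟨p, hpV⟩).isPrime
  haveI : Q.IsPrime := (hUYaff.primeIdealOf ⟨q, hqUY⟩).isPrime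
  have hQ : Q.comap (algebraMap Γ(X, V) Γ(pullback f g, UY)) = P := by
    have := IsAffineOpen.comap_primeIdealOf_appLE V hV UY hUYaff hle1 hqUY
    exact congrArg PrimeSpectrum.asIdeal this
  have hmP : m₀.map (algebraMap Γ(Spec (CommRingCat.of A), ⊤) Γ(X, V)) ≤ P := by
    rw [Ideal.map_le_iff_le_comap]
    intro a ha
    rw [Ideal.mem_comap]
    by_contra hcon
    rw [mem_primeIdealOf_iff hV p hpV, mem_maximalIdeal,
      mem_nonunits_iff, not_not] at hcon
    have h1 : p ∈ X.basicOpen ((f.appLE ⊤ V hUSX).hom a) :=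
      (Scheme.mem_basicOpen _ _ p hpV).mpr hcon
    have h2 : (f.appLE ⊤ V hUSX).hom a =
        (X.presheaf.map (homOfLE hUSX).op).hom ((f.app ⊤).hom a) := rfl
    rw [h2, Scheme.basicOpen_res, ← Scheme.preimage_basicOpen] at h1
    have h3 : f.base p ∈ (Spec (CommRingCat.of A)).basicOpen a := h1.2
    rw [hq, basicOpen_eq_of_affine'] at h3
    exact h3 ha
  -- the localizations
  letI := X.presheaf.algebra_section_stalk ⟨p, hpV⟩
  haveI := hV.isLocalization_stalk ⟨p, hpV⟩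
  letI := (pullback f g).presheaf.algebra_section_stalk ⟨q, hqUY⟩
  haveI := hUYaff.isLocalization_stalk ⟨q, hqUY⟩
  refine bijective (R := Γ(Spec (CommRingCat.of A), ⊤))
    (S := Γ(Spec (CommRingCat.of (Curv2.cpl A)), ⊤)) (B := Γ(X, V)) (B' := Γ(pullback f g, UY))
    m₀ hs₀ hi₀ P hmP Q hQ (O := X.presheaf.stalk p) (O' := (pullback f g).presheaf.stalk q)
    ((pullback.fst f g).stalkMap q).hom ?_ n hn h
  intro b
  change ((pullback.fst f g).stalkMap q).hom ((X.presheaf.germ V p hpV).hom b) =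
    ((pullback f g).presheaf.germ UY q hqUY).hom (((pullback.fst f g).appLE V UY hle1).hom b)
  have := Scheme.Hom.germ_stalkMap_apply (pullback.fst f g) V q hpV b
  rw [Scheme.Hom.app_eq_appLE] at this
  exact this

end Groth.Agent.Lib.R2H4CplStalk
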