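import Mathlib
import Groth.Prelude
import Groth.Agent.Lib.R2H4CplStalk
import Groth.Agent.Lib.Helper19ComplDim2
import Groth.Agent.Lib.Helper6SepBC
import Groth.Agent.Lib.Helper19GRLoc
import Groth.Agent.Lib.Helper12NoethDescent

/-!
# Regularity and base change to the completion (helper4, S1598, S1597)
-/

set_option autoImplicit false
set_option linter.style.haveILetI false
set_option linter.unusedSectionVars false
universe u
open CategoryTheory CategoryTheory.Limits AlgebraicGeometry TopologicalSpace Opposite IsLocalRing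

noncomputable section

namespace Groth.Agent.Lib.R2H4CplReg

variable (A : Type u) [CommRing A] [IsLocalRing A] [IsNoetherianRing A]

/-- a point of the base change over the closed point of the completion lies over the closed point -/
theorem closedPoint_of_snd {X : Scheme.{u}} (f : X ⟶ Spec (CommRingCat.of A))
    (y : Curv2.bcCpl A f)
    (hy : (Curv2.bcCplSnd A f).base y = IsLocalRing.closedPoint (Curv2.cpl A)) :
    f.base ((Curv2.bcCplFst A f).base y) = IsLocalRing.closedPoint A := by
  have h1 : f.base ((Curv2.bcCplFst A f).base y) =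
      (Spec.map (CommRingCat.ofHom (algebraMap A (Curv2.cpl A)))).base
        ((Curv2.bcCplSnd A f).base y) := by
    have := congrArg (fun φ : Curv2.bcCpl A f ⟶ Spec (CommRingCat.of A) => φ.base y)
      (pullback.condition (f := f) (g := Spec.map (CommRingCat.ofHom (algebraMap A (Curv2.cpl A)))))
    exact this
  rw [h1, hy]
  exact IsLocalRing.comap_closedPoint (algebraMap A (Curv2.cpl A))

/-- **S1598** -/
theorem s1598 (X : Scheme.{u}) (f : X ⟶ Spec (CommRingCat.of A)) [LocallyOfFiniteType f]
    (y : Curv2.bcCpl A f)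
    (hy : (Curv2.bcCplSnd A f).base y = IsLocalRing.closedPoint (Curv2.cpl A)) :
    IsRegularLocalRing ((Curv2.bcCpl A f).presheaf.stalk y) ↔
      IsRegularLocalRing (X.presheaf.stalk ((Curv2.bcCplFst A f).base y)) := by
  set g : Spec (CommRingCat.of (Curv2.cpl A)) ⟶ Spec (CommRingCat.of A) :=
    Spec.map (CommRingCat.ofHom (algebraMap A (Curv2.cpl A))) with hg
  have hq := closedPoint_of_snd A f y hy
  have hm : (maximalIdeal A).FG := IsNoetherian.noetherian _
  haveI : IsLocallyNoetherian X := LocallyOfFiniteType.isLocallyNoetherian f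
  haveI : LocallyOfFiniteType (pullback.snd f g) :=
    MorphismProperty.pullback_snd (P := @LocallyOfFiniteType) f g inferInstance
  haveI : IsLocallyNoetherian (pullback f g) :=
    LocallyOfFiniteType.isLocallyNoetherian (pullback.snd f g)
  haveI : Flat g := by
    rw [hg, HasRingHomProperty.Spec_iff (P := @Flat)]
    exact RingHom.flat_algebraMap_iff.mpr inferInstance
  haveI : Flat (pullback.fst f g) := MorphismProperty.pullback_fst (P := @Flat) f g inferInstance
  set ψ := ((pullback.fst f g).stalkMap y).hom with hψ
  letI : Algebra (X.presheaf.stalk ((pullback.fst f g).base y)) ((pullback f g).presheaf.stalk y) :=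
    ψ.toAlgebra
  haveI : Module.Flat (X.presheaf.stalk ((pullback.fst f g).base y))
      ((pullback f g).presheaf.stalk y) := Flat.stalkMap (pullback.fst f g) y
  -- the comap inequality
  have hle : ∀ n : ℕ, maximalIdeal (X.presheaf.stalk ((pullback.fst f g).base y)) ^ n ≤
      (maximalIdeal ((pullback f g).presheaf.stalk y) ^ n).comap ψ := by
    intro n
    rw [← Ideal.map_le_iff_le_comap, Ideal.map_pow]
    refine Ideal.pow_right_mono ?_ n
    rw [Ideal.map_le_iff_le_comap]
    intro a ha
    rw [Ideal.mem_comap, mem_maximalIdeal, mem_nonunits_iff]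
    rw [mem_maximalIdeal, mem_nonunits_iff] at ha
    exact fun h => ha (isUnit_of_map_unit ψ a h)
  have hbij := fun n hn => Groth.Agent.Lib.R2H4CplStalk.main A hm X f y hq n hn (hle n)
  -- residue fields
  have hres : ∀ b : (pullback f g).presheaf.stalk y,
      ∃ a : X.presheaf.stalk ((pullback.fst f g).base y),
        b - algebraMap _ _ a ∈ maximalIdeal ((pullback f g).presheaf.stalk y) := by
    intro b
    obtain ⟨a', ha'⟩ := (hbij 1 le_rfl).2 (Ideal.Quotient.mk _ b)
    obtain ⟨a, rfl⟩ := Ideal.Quotient.mk_surjective a'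
    refine ⟨a, ?_⟩
    rw [Ideal.quotientMap_mk, eq_comm, Ideal.Quotient.eq, pow_one] at ha'
    exact ha'
  -- the maximal ideal
  have hmap : maximalIdeal ((pullback f g).presheaf.stalk y) =
      (maximalIdeal (X.presheaf.stalk ((pullback.fst f g).base y))).map (algebraMap _ _) := by
    apply le_antisymm
    · refine Submodule.le_of_le_smul_of_le_jacobson_bot (IsNoetherian.noetherian _)
        (IsLocalRing.maximalIdeal_le_jacobson ⊥) ?_
      intro b hb
      obtain ⟨a', ha'⟩ := (hbij 2 (by norm_num)).2 (Ideal.Quotient.mk _ b)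
      obtain ⟨a, rfl⟩ := Ideal.Quotient.mk_surjective a'
      rw [Ideal.quotientMap_mk, eq_comm, Ideal.Quotient.eq] at ha'
      -- `b - ψ a ∈ m'^2`
      have h1 : ψ a ∈ maximalIdeal ((pullback f g).presheaf.stalk y) := by
        have h2 : b - ψ a ∈ maximalIdeal ((pullback f g).presheaf.stalk y) :=
          Ideal.pow_le_self (by norm_num) ha'
        have := Ideal.sub_mem _ hb h2
        rwa [sub_sub_cancel] at this
      have h3 : a ∈ maximalIdeal (X.presheaf.stalk ((pullback.fst f g).base y)) := by
        rw [mem_maximalIdeal, mem_nonunits_iff]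
        rw [mem_maximalIdeal, mem_nonunits_iff] at h1
        exact fun h => h1 (h.map ψ)
      have h4 : b = ψ a + (b - ψ a) := by ring
      rw [h4]
      refine Submodule.add_mem_sup (Ideal.mem_map_of_mem _ h3) ?_
      rw [pow_two] at ha'
      exact ha'
    · rw [Ideal.map_le_iff_le_comap]
      have := hle 1
      rwa [pow_one, pow_one] at this
  exact (Groth.Agent.Lib.Helper19.isRegularLocalRing_iff_of_flat_of_map_eq hmap hres).symm


/-- regularity of local rings is stable under generization -/
theorem isRegularLocalRing_of_specializes {X : Scheme.{u}} {x x' : X} (h : x' ⤳ x)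
    (hx : IsRegularLocalRing (X.presheaf.stalk x)) : IsRegularLocalRing (X.presheaf.stalk x') := by
  obtain ⟨_, ⟨U, hU : IsAffineOpen U, rfl⟩, hxU, -⟩ :=
    X.isBasis_affineOpens.exists_subset_of_mem_open (Set.mem_univ x) isOpen_univ
  have hx'U : x' ∈ U := h.mem_open U.isOpen hxU
  set P := (hU.primeIdealOf ⟨x, hxU⟩).asIdeal with hP
  set P' := (hU.primeIdealOf ⟨x', hx'U⟩).asIdeal with hP'
  have hPP' : P' ≤ P := by
    have h1 : (⟨x', hx'U⟩ : U) ⤳ ⟨x, hxU⟩ := (subtype_specializes_iff _ _).mpr h
    have h2 : hU.primeIdealOf ⟨x', hx'U⟩ ⤳ hU.primeIdealOf ⟨x, hxU⟩ :=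
      h1.map hU.isoSpec.hom.continuous
    exact (PrimeSpectrum.le_iff_specializes _ _).mpr h2
  have hle : P.primeCompl ≤ P'.primeCompl := fun a ha ha' => ha (hPP' ha')
  letI := X.presheaf.algebra_section_stalk ⟨x, hxU⟩
  haveI := hU.isLocalization_stalk ⟨x, hxU⟩
  letI := X.presheaf.algebra_section_stalk ⟨x', hx'U⟩
  haveI := hU.isLocalization_stalk ⟨x', hx'U⟩
  letI : Algebra (X.presheaf.stalk x) (X.presheaf.stalk x') :=
    IsLocalization.localizationAlgebraOfSubmonoidLe (X.presheaf.stalk x) (X.presheaf.stalk x')
      P.primeCompl P'.primeCompl hle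
  haveI : IsScalarTower Γ(X, U) (X.presheaf.stalk x) (X.presheaf.stalk x') :=
    IsLocalization.localization_isScalarTower_of_submonoid_le (X.presheaf.stalk x)
      (X.presheaf.stalk x') P.primeCompl P'.primeCompl hle
  haveI := IsLocalization.isLocalization_of_submonoid_le (X.presheaf.stalk x)
    (X.presheaf.stalk x') P.primeCompl P'.primeCompl hle
  haveI : IsRegularRing (X.presheaf.stalk x) :=
    Groth.Agent.Lib.Helper6.SepBC.isRegularRing_of_isRegularLocalRing _
  haveI : IsRegularRing (X.presheaf.stalk x') :=
    Groth.Agent.Lib.Helper19.GR.isRegularRing_of_isLocalization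
      (P'.primeCompl.map (algebraMap Γ(X, U) (X.presheaf.stalk x)))
  exact IsRegularLocalRing.of_isRegularRing_of_isLocalRing _

/-- **S1597** -/
theorem s1597 (X : Scheme.{u}) (f : X ⟶ Spec (CommRingCat.of A)) [IsProper f] :
    (∀ x : X, IsRegularLocalRing (X.presheaf.stalk x)) ↔
      ∀ y : Curv2.bcCpl A f, IsRegularLocalRing ((Curv2.bcCpl A f).presheaf.stalk y) := by
  set g : Spec (CommRingCat.of (Curv2.cpl A)) ⟶ Spec (CommRingCat.of A) :=
    Spec.map (CommRingCat.ofHom (algebraMap A (Curv2.cpl A))) with hg
  haveI : IsLocallyNoetherian X := LocallyOfFiniteType.isLocallyNoetherian f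
  constructor
  · intro hX y
    haveI : IsProper (pullback.snd f g) :=
      MorphismProperty.pullback_snd (P := @IsProper) f g inferInstance
    have hcl : IsClosed ((pullback.snd f g).base '' closure {y}) :=
      (pullback.snd f g).isClosedMap _ isClosed_closure
    have hmem : (pullback.snd f g).base y ∈ (pullback.snd f g).base '' closure {y} :=
      ⟨y, subset_closure rfl, rfl⟩
    have hcp : closedPoint (Curv2.cpl A) ∈ (pullback.snd f g).base '' closure {y} :=
      hcl.stableUnderSpecialization (IsLocalRing.specializes_closedPoint _) hmem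
    obtain ⟨y₀, hy₀, hy₀c⟩ := hcp
    have hsp : y ⤳ y₀ := specializes_iff_mem_closure.mpr hy₀
    have hreg₀ : IsRegularLocalRing ((pullback f g).presheaf.stalk y₀) :=
      (s1598 A X f y₀ hy₀c).mpr (hX _)
    exact isRegularLocalRing_of_specializes hsp hreg₀
  · intro hY x
    haveI : Flat g := by
      rw [hg, HasRingHomProperty.Spec_iff (P := @Flat)]
      exact RingHom.flat_algebraMap_iff.mpr inferInstance
    haveI : Surjective g := by
      have hff : Module.FaithfullyFlat A (Curv2.cpl A) :=
        Module.FaithfullyFlat.of_flat_of_isLocalHom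
      have := (flat_and_surjective_SpecMap_iff
        (CommRingCat.ofHom (algebraMap A (Curv2.cpl A)))).mpr
        (RingHom.faithfullyFlat_algebraMap_iff.mpr hff)
      exact this.2
    haveI : Flat (pullback.fst f g) :=
      MorphismProperty.pullback_fst (P := @Flat) f g inferInstance
    haveI : Surjective (pullback.fst f g) :=
      MorphismProperty.pullback_fst (P := @Surjective) f g inferInstance
    exact Groth.Agent.Lib.Helper12.NoethDescent.isRegularLocalRing_stalk_of_flat_surjective
      (pullback.fst f g) hY x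

end Groth.Agent.Lib.R2H4CplReg
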