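import Mathlib
import Groth.Prelude
import Groth.Agent.Lib.R2H4NearFibre
import Groth.Agent.Lib.R2H2Bc0Bij
import Groth.Agent.Lib.R2H2BcNear2
import Groth.Agent.Lib.R2H1CurveVanish
import Groth.Agent.Lib.R2H2LocalCBC5
import Groth.Agent.Lib.R2H2PnSerre
import Groth.Agent.Lib.R2H3SchemDense
import Groth.Agent.Lib.Helper18PBUnit2
import Groth.Agent.Lib.Helper2LocFree
import Groth.Agent.Lib.H9CbJ
import Groth.Agent.Lib.H9FibOne

/-!
helper4 (round 2): families of curves with `h⁰(X_s, O) = 1` (S16751).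

* `epi_bc0_structure` : if `κ(s) → Γ(X_s, O)` is surjective, the degree zero base change map of `O_X` at `s` is an
  epimorphism;
* `exists_nhd_isFinLocFree_R1` : `H²(X_s, F_s) = 0` and surjectivity of the degree zero base change map at `s` make
  `R¹ f_* F` finite locally free near `s`;
* `main` : S16751.
-/

set_option backward.isDefEq.respectTransparency.types false
set_option autoImplicit false
set_option linter.style.haveILetI false
set_option linter.unusedSectionVars false
universe u
open CategoryTheory CategoryTheory.Limits AlgebraicGeometry TopologicalSpace Opposite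
open AlgebraicGeometry.Scheme.Modules

noncomputable section

namespace Groth.Agent.Lib.R2H4CurveR1

open Groth.Agent.Lib.Helper23.SecTw Groth.Agent.Lib.Helper23.GenLocus
  Groth.Agent.Lib.Helper23.Extend Groth.Agent.Lib.Helper6 Groth.Agent.Helper13PullbackUnit
  Groth.Agent.Lib.Helper27PullGen Groth.Agent.Lib.Helper23.PB Groth.Agent.Lib.Helper23.GenNear
  Groth.Agent.Lib.R2H2.BcSect Groth.Agent.Lib.R2H2.Bc0 Groth.Agent.Lib.R2H2.Bc0Bij
  Groth.Agent.Lib.R2H2.BcIso

section Epi

variable {X S : Scheme.{u}} (f : X ⟶ S) [QuasiCompact f] [QuasiSeparated f]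

/-- if `κ(s) → Γ(X_s, O)` is surjective, the degree zero base change map of `O_X` at `s` is an epimorphism -/
theorem epi_bc0_structure (s : S)
    (hq : Function.Surjective (f.fiberToSpecResidueField s).appTop.hom) :
    Epi (CohBC.bc0 f (S.fromSpecResidueField s) (f.fiberToSpecResidueField s) (f.fiberι s)
      (f.fiber_fac s) (Coh.structureModule X)) := by
  obtain ⟨_, ⟨U, hU : IsAffineOpen U, rfl⟩, hsU, -⟩ :=
    S.isBasis_affineOpens.exists_subset_of_mem_open (Set.mem_univ s) isOpen_univ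
  haveI : Subsingleton ↥(Spec (S.residueField s)) :=
    inferInstanceAs (Subsingleton (PrimeSpectrum (S.residueField s)))
  have z : ↥(Spec (S.residueField s)) := (⊥ : PrimeSpectrum (S.residueField s))
  rw [epi_iff_surjective_app _ ⊤ z trivial]
  have hz : ∀ z : Spec (S.residueField s), S.fromSpecResidueField s z ∈ U := fun z => by
    rw [Scheme.fromSpecResidueField_apply]; exact hsU
  have hle : (⊤ : (Spec (S.residueField s)).Opens) ≤ (S.fromSpecResidueField s) ⁻¹ᵁ U :=
    fun z _ => hz z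
  haveI : (Coh.structureModule X).IsQuasicoherent :=
    Groth.Agent.Lib.Helper23.Serre.isQuasicoherent_structureModule' X
  haveI : ((pushforward f).obj (Coh.structureModule X)).IsQuasicoherent :=
    Groth.Agent.Lib.Helper23.QCohLocal.isQuasicoherent_pushforward f _
  refine (surjective_tr_app_iff (S.fromSpecResidueField s)
    (CohBC.bc0Adj f (S.fromSpecResidueField s) (f.fiberToSpecResidueField s) (f.fiberι s)
      (f.fiber_fac s) (Coh.structureModule X)) hU (isAffineOpen_top _) hle).2 ?_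
  rw [eq_top_iff]
  intro m _
  have hle'' : (f.fiberToSpecResidueField s) ⁻¹ᵁ ⊤ ≤ (f.fiberι s) ⁻¹ᵁ (f ⁻¹ᵁ U) :=
    Groth.Agent.Lib.R2H2.BcGen.preimage_le' (w := f.fiber_fac s) hle
  -- the pulled back unit section generates
  have hgen : IsGen ((Scheme.Modules.pullback (f.fiberι s)).obj (Coh.structureModule X))
      ((f.fiberToSpecResidueField s) ⁻¹ᵁ ⊤)
      (unitSec (f.fiberι s) (Coh.structureModule X) hle'' (toS (f ⁻¹ᵁ U) 1)) := by
    have h3 := (isGen_pullback (f.fiberι s) (Coh.structureModule X) (f ⁻¹ᵁ U) (toS (f ⁻¹ᵁ U) 1)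
      (isGen_one (f ⁻¹ᵁ U))).mono hle''
    rwa [Groth.Agent.Helper13QcqsBC.unitSec_res (f.fiberι s) (Coh.structureModule X) (le_refl _)
      hle'' le_rfl hle'', res_self] at h3
  obtain ⟨a, ha⟩ := (hgen ((f.fiberToSpecResidueField s) ⁻¹ᵁ ⊤) le_rfl).2
    (show Γ((Scheme.Modules.pullback (f.fiberι s)).obj (Coh.structureModule X),
      (f.fiberToSpecResidueField s) ⁻¹ᵁ ⊤) from m)
  obtain ⟨c, hc⟩ := hq a
  have h4 := φres_bc0Adj f (S.fromSpecResidueField s) (f.fiberToSpecResidueField s) (f.fiberι s)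
    (f.fiber_fac s) (Coh.structureModule X) hle
    (show Γ((pushforward f).obj (Coh.structureModule X), U) from toS (f ⁻¹ᵁ U) 1)
  have h5 : m = c • (φres (S.fromSpecResidueField s)
      (CohBC.bc0Adj f (S.fromSpecResidueField s) (f.fiberToSpecResidueField s) (f.fiberι s)
        (f.fiber_fac s) (Coh.structureModule X)) hle
      (show Γ((pushforward f).obj (Coh.structureModule X), U) from toS (f ⁻¹ᵁ U) 1)) := by
    rw [pushforward_smul, h4]
    rw [res_self] at ha
    rw [← ha, ← hc]
    rfl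
  rw [h5]
  exact Submodule.smul_mem _ _ (Submodule.subset_span ⟨_, rfl⟩)

end Epi

section R1

open Groth.Agent.Lib.R2H2.FibreBC Groth.Agent.Lib.R2H2.FibreRank Groth.Agent.Lib.R2H2.BcNear2
  Groth.Agent.Lib.R2H2.BcNear Groth.Agent.Lib.R2H2.LocalModel Groth.Agent.Lib.R2H2.BcLocal

variable {X S : Scheme.{u}} (f : X ⟶ S) [IsProper f] [LocallyOfFinitePresentation f]
  [HasInjectiveResolutions X.Modules]
  (F : X.Modules) [F.IsQuasicoherent] (hfp : CohB1.IsFP F) (hfl : FlatMod.IsFlatOver f F)

include hfp hfl in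
/-- **vanishing of `H²` of the fibre at `s` and surjectivity of the degree zero base change map at `s` make
`R¹ f_* F` finite locally free near `s`** -/
theorem exists_nhd_isFinLocFree_R1 (s : S)
    (hup : Subsingleton (CohIII.fiberH f F s 2))
    (hepi : Epi (CohBC.bc0 f (S.fromSpecResidueField s) (f.fiberToSpecResidueField s) (f.fiberι s)
      (f.fiber_fac s) F)) :
    ∃ U : S.Opens, s ∈ U ∧ FlatMod.IsFinLocFree (((Coh.Rpush f 1).obj F).restrict U.ι) := by
  obtain ⟨V₁, hV₁, hsV₁, hex⟩ := exists_local_model' f F hfp hfl s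
  haveI : IsAffine (V₁ : Scheme.{u}) := hV₁
  obtain ⟨Q₁, b, hP, -, hQ, hfl0⟩ := hex
  haveI := Groth.Agent.Lib.R2H3.RpushRestrict.hasInjectiveResolutions_modules (f.fiber s)
  obtain ⟨-, hu₂⟩ := mem_freeLocus_of_fiberH f s F V₁ hsV₁ Q₁ hQ hP 2 hup
  have cast : ∀ k l : ℤ, k = l →
      (V₁ : Scheme.{u}).isoSpec.hom ⟨s, hsV₁⟩ ∈
        Module.freeLocus Γ((V₁ : Scheme.{u}), ⊤) (Q₁.opcycles k) →
      (V₁ : Scheme.{u}).isoSpec.hom ⟨s, hsV₁⟩ ∈
        Module.freeLocus Γ((V₁ : Scheme.{u}), ⊤) (Q₁.opcycles l) := by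
    intro k l hkl hk
    subst hkl
    exact hk
  have h₁ : (V₁ : Scheme.{u}).isoSpec.hom ⟨s, hsV₁⟩ ∈
      Module.freeLocus Γ((V₁ : Scheme.{u}), ⊤) (Q₁.opcycles (-((1 : ℕ) : ℤ) - 1)) :=
    cast (-((2 : ℕ) : ℤ)) _ (by norm_num) hu₂
  have h₂ : (V₁ : Scheme.{u}).isoSpec.hom ⟨s, hsV₁⟩ ∈
      Module.freeLocus Γ((V₁ : Scheme.{u}), ⊤) (Q₁.opcycles (-((1 : ℕ) : ℤ))) :=
    cast (-((0 : ℕ) : ℤ) - 1) _ (by norm_num)
      (mem_freeLocus_of_epi_bc0 f s F V₁ hsV₁ Q₁ hQ hP (-((0 : ℕ) : ℤ) - 1) rfl hepi)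
  obtain ⟨W', hsW', hflf, -⟩ := exists_isFinLocFree_rank_near f s F V₁ hsV₁ Q₁ hQ hP 1 h₁ h₂
  exact ⟨W', hsW', hflf⟩

end R1

section Main

/-- **S16751** -/
theorem main (X S : Scheme.{u}) (f : X ⟶ S)
    [Flat f] [IsProper f] [LocallyOfFinitePresentation f]
    (hdim : ∀ s : S, topologicalKrullDim ↥(f.fiber s) ≤ 1)
    (h0 : ∀ s : S, Models.hRank ↥(S.residueField s) (f.fiber s) (f.fiberToSpecResidueField s)
      (Coh.structureModule (f.fiber s)) 0 = 1)
    [HasInjectiveResolutions X.Modules] :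
    (∀ (S' : Scheme.{u}) (g : S' ⟶ S), IsIso (ClSub.unitToPush (Limits.pullback.snd f g))) ∧
      FlatMod.IsFinLocFree ((Coh.Rpush f 1).obj (Coh.structureModule X)) := by
  have hiso : ∀ s : S, IsIso (f.fiberToSpecResidueField s).appTop := fun s => by
    rw [Groth.Agent.Lib.H9FibOne.isIso_appTop_iff_finrank f s]
    letI := CohIII.fiberOver f s
    have l2 := Groth.Agent.Lib.H9CbF.hh0LinearEquiv (S.residueField s) (f.fiber s)
    exact l2.finrank_eq.symm.trans (h0 s)
  constructor
  · intro S' g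
    refine Groth.Agent.Lib.H9CbJ.isIso_unitToPush _ (fun U => ?_)
    refine Groth.Agent.Lib.H9CbH.main (Limits.pullback.snd f g) (fun t => ?_) U
    exact Groth.Agent.Lib.H9CbG.isIso_fiber_appTop_of_isPullback (IsPullback.of_hasPullback f g) t
      (hiso (g t))
  · haveI : (Coh.structureModule X).IsQuasicoherent :=
      Groth.Agent.Lib.Helper23.Serre.isQuasicoherent_structureModule' X
    have hO : PicF.IsInvertible (Coh.structureModule X) :=
      Groth.Agent.Lib.Helper23.TensorUnit.isInvertible_structureModule X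
    have hfp : CohB1.IsFP (Coh.structureModule X) :=
      Groth.Agent.Lib.Helper2.LocFree.isFP_of_isFinLocFree _
        (Groth.Agent.Helper18PBUnit.isFinLocFree_of_isInvertible hO)
    have hfl : FlatMod.IsFlatOver f (Coh.structureModule X) :=
      Groth.Agent.Lib.R2H3.SchemDense.isFlatOver_structureModule f
    refine Groth.Agent.Lib.R2H2.LocalCBC.isFinLocFree_of_restrict_cover _ (fun s => ?_)
    -- vanishing of `H²` of the fibre
    have hH2 : Subsingleton (CohIII.fiberH f (Coh.structureModule X) s 2) := by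
      haveI : IsProper (f.fiberToSpecResidueField s) :=
        MorphismProperty.of_isPullback (IsPullback.of_hasPullback f (S.fromSpecResidueField s))
          inferInstance
      haveI : IsLocallyNoetherian (f.fiber s) :=
        LocallyOfFiniteType.isLocallyNoetherian (f.fiberToSpecResidueField s)
      haveI : CompactSpace (f.fiber s) :=
        QuasiCompact.compactSpace_of_compactSpace (f.fiberToSpecResidueField s)
      haveI : IsNoetherian (f.fiber s) := { }
      have h2 := Groth.Agent.Lib.R2H1.CurveVanish.subsingleton_HH_of_dim_le_one (f.fiber s)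
        (f.fiberToSpecResidueField s) (hdim s) (Coh.structureModule (f.fiber s))
        (Groth.Agent.Lib.Helper23.Serre.isQuasicoherent_structureModule' _) 2 le_rfl
      exact Groth.Agent.Lib.R2H2.PnSerre.subsingleton_HH_of_iso
        (pullbackUnitIso (f.fiberι s)).symm 2 h2
    haveI := hiso s
    have hsurj : Function.Surjective (f.fiberToSpecResidueField s).appTop.hom :=
      (ConcreteCategory.bijective_of_isIso (f.fiberToSpecResidueField s).appTop).2
    exact exists_nhd_isFinLocFree_R1 f _ hfp hfl s hH2 (epi_bc0_structure f s hsurj)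

end Main

end Groth.Agent.Lib.R2H4CurveR1
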