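import Mathlib
import Groth.Prelude
import Groth.Agent.Lib.Helper6SmRegSch3
import Groth.Agent.Lib.Helper12NoethDescent
import Groth.Agent.Lib.Helper5FibSmConstr
import Groth.Agent.Lib.Helper10CurveFlat

/-!
# Smoothness descends along a surjection of curves onto a normal curve (helper4, S6557)
-/

set_option autoImplicit false
set_option linter.style.haveILetI false
set_option linter.unusedSectionVars false
universe u
open CategoryTheory CategoryTheory.Limits AlgebraicGeometry TopologicalSpace Opposite

noncomputable section

namespace Groth.Agent.Lib.R2H4CurveSmDesc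

variable (k : Type u) [Field k]

/-- **S6557** -/
theorem main (X Y : Scheme.{u}) [X.Over (Spec (CommRingCat.of k))] [Y.Over (Spec (CommRingCat.of k))]
    [IsIntegral X] [IsIntegral Y] [LocallyOfFiniteType (Y ↘ (Spec (CommRingCat.of k)))]
    (hdY : topologicalKrullDim Y = 1)
    (f : X ⟶ Y) (hf : f ≫ (Y ↘ (Spec (CommRingCat.of k))) = X ↘ (Spec (CommRingCat.of k)))
    [Surjective f] [Smooth (X ↘ (Spec (CommRingCat.of k)))] (hY : Pi1.IsNormalScheme Y) :
    Smooth (Y ↘ (Spec (CommRingCat.of k))) := by
  set qY := Y ↘ (Spec (CommRingCat.of k)) with hqY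
  set qX := X ↘ (Spec (CommRingCat.of k)) with hqX
  -- `f` is flat
  have hnt : (Set.range f.base).Nontrivial := by
    rw [Set.range_eq_univ.mpr f.surjective]
    by_contra hsub
    rw [Set.not_nontrivial_iff] at hsub
    haveI : Subsingleton Y := ⟨fun a b => hsub (Set.mem_univ a) (Set.mem_univ b)⟩
    haveI : Subsingleton (IrreducibleCloseds Y) := ⟨fun a b => by
      apply IrreducibleCloseds.ext
      exact (Set.Nonempty.eq_univ a.isIrreducible'.nonempty).trans
        (Set.Nonempty.eq_univ b.isIrreducible'.nonempty).symm⟩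
    have h0 : topologicalKrullDim Y ≤ 0 := by
      unfold topologicalKrullDim
      exact Order.krullDim_nonpos_of_subsingleton
    rw [hdY] at h0
    exact absurd h0 (by decide)
  haveI : Flat f := Groth.Agent.Lib.Helper10.CurveFlat.main k X Y qY hdY hY f hnt
  -- base change to the algebraic closure
  let K := AlgebraicClosure k
  let g0 : Spec (CommRingCat.of K) ⟶ Spec (CommRingCat.of k) :=
    Spec.map (CommRingCat.ofHom (algebraMap k K))
  haveI : Flat g0 := by
    rw [HasRingHomProperty.Spec_iff (P := @Flat)]
    exact RingHom.flat_algebraMap_iff.mpr inferInstance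
  haveI : Surjective g0 := by
    refine ⟨fun y => ?_⟩
    haveI : Subsingleton (PrimeSpectrum k) := inferInstance
    haveI : Nonempty (PrimeSpectrum K) := inferInstance
    exact ⟨(default : PrimeSpectrum K), Subsingleton.elim (α := PrimeSpectrum k) _ _⟩
  haveI : LocallyOfFiniteType qY := inferInstanceAs (LocallyOfFiniteType (Y ↘ (Spec (CommRingCat.of k))))
  haveI : LocallyOfFinitePresentation qY := inferInstance
  -- the base changes
  let Y' := pullback qY g0
  let pY : Y' ⟶ Y := pullback.fst qY g0
  let sY : Y' ⟶ Spec (CommRingCat.of K) := pullback.snd qY g0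
  have sqY : IsPullback pY sY qY g0 := IsPullback.of_hasPullback qY g0
  let X' := pullback f pY
  let pX : X' ⟶ X := pullback.fst f pY
  let f' : X' ⟶ Y' := pullback.snd f pY
  have sqf : IsPullback pX f' f pY := IsPullback.of_hasPullback f pY
  have sqX : IsPullback pX (f' ≫ sY) qX g0 := by
    have := sqf.paste_vert sqY
    rwa [hf] at this
  haveI : Smooth qX := inferInstanceAs (Smooth (X ↘ (Spec (CommRingCat.of k))))
  haveI : Smooth (f' ≫ sY) := MorphismProperty.of_isPullback (P := @Smooth) sqX inferInstance
  haveI : Flat f' := MorphismProperty.pullback_snd (P := @Flat) f pY inferInstance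
  haveI : Surjective f' := MorphismProperty.pullback_snd (P := @Surjective) f pY inferInstance
  haveI : LocallyOfFiniteType sY := MorphismProperty.pullback_snd (P := @LocallyOfFiniteType) qY g0 inferInstance
  haveI : IsLocallyNoetherian Y' := LocallyOfFiniteType.isLocallyNoetherian sY
  haveI : LocallyOfFinitePresentation sY := inferInstance
  -- stalks of `X'` are regular
  have hX' : ∀ a : X', IsRegularLocalRing (X'.presheaf.stalk a) := by
    intro a
    rw [← Groth.Agent.Lib.Helper6.SmRegSch3.mem_smoothLocus_iff_isRegularLocalRing K X' (f' ≫ sY) a,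
      Scheme.Hom.smoothLocus_eq_top]
    trivial
  have hY' : ∀ b : Y', IsRegularLocalRing (Y'.presheaf.stalk b) :=
    Groth.Agent.Lib.Helper12.NoethDescent.isRegularLocalRing_stalk_of_flat_surjective f' hX'
  -- `Y'` is smooth over `K`, hence `Y` is smooth over `k`
  rw [← Scheme.Hom.smoothLocus_eq_top_iff, eq_top_iff]
  intro y _
  obtain ⟨y', rfl⟩ : ∃ y' : Y', pY y' = y := by
    haveI : Surjective pY := MorphismProperty.pullback_fst (P := @Surjective) qY g0 inferInstance
    exact pY.surjective y
  change (qY.stalkMap (pY y')).hom.FormallySmooth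
  rw [← Groth.Agent.Lib.Helper5.FibSmConstr.formallySmooth_stalkMap_iff_of_isPullback sqY y',
    ← Scheme.Hom.mem_smoothLocus,
    Groth.Agent.Lib.Helper6.SmRegSch3.mem_smoothLocus_iff_isRegularLocalRing K Y' sY y']
  exact hY' y'

end Groth.Agent.Lib.R2H4CurveSmDesc
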