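import Mathlib
import Groth.Prelude.Def_Curv2
import Groth.Agent.Lib.Helper6BcRed
import Groth.Agent.Lib.Helper6GeomComp3
import Groth.Agent.Lib.Helper7Cartier2

set_option autoImplicit false
universe u
open CategoryTheory CategoryTheory.Limits AlgebraicGeometry

namespace Groth.Agent.Lib.R2H4.ProperVarSections

variable (k : Type u) [Field k] (X : Scheme.{u}) [X.Over (Spec (CommRingCat.of k))]

/-- The `k`-algebra structure on global sections. -/
noncomputable abbrev gAlg : Algebra k Γ(X, ⊤) :=
  ((X ↘ (Spec (CommRingCat.of k))).appTop.hom.comp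
    (Scheme.ΓSpecIso (CommRingCat.of k)).inv.hom : k →+* Γ(X, ⊤)).toAlgebra

attribute [local instance] Curv2.stalkAlgebra Curv2.resAlgebra gAlg

/-- The germ map as a `k`-algebra map. -/
noncomputable def germAlg (x : X) : Γ(X, ⊤) →ₐ[k] X.presheaf.stalk x :=
  { (X.presheaf.germ ⊤ x trivial).hom with commutes' := fun _ => rfl }

/-- The map to the residue field as a `k`-algebra map. -/
noncomputable def resAlg (x : X) : Γ(X, ⊤) →ₐ[k] X.residueField x :=
  { (X.residue x).hom.comp (X.presheaf.germ ⊤ x trivial).hom with commutes' := fun _ => rfl }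

theorem isGeometricallyReduced_sections [IsIntegral X]
    (h : GeometricallyReduced (X ↘ Spec (CommRingCat.of k))) :
    Algebra.IsGeometricallyReduced k Γ(X, ⊤) := by
  have hred : ∀ (K : Type u) [Field K] [Algebra k K],
      AlgebraicGeometry.IsReduced (Curv2.bc k X K) := by
    rw [geometricallyReduced_iff, geometrically_iff_of_commRing_of_isClosedUnderIsomorphisms] at h
    exact h
  have h1 : Curv2.IsGeomReducedAt k X (genericPoint X) := fun k' _ _ x' _ => by
    have := hred k'
    infer_instance
  have : Algebra.IsGeometricallyReduced k (X.presheaf.stalk (genericPoint X)) :=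
    (Groth.Agent.Lib.Helper6.BcRed.isGeomReducedAt_iff k X _).mp h1
  exact Algebra.IsGeometricallyReduced.of_injective (germAlg k X (genericPoint X))
    (germ_injective_of_isIntegral X (genericPoint X) (U := ⊤) trivial)

theorem main [IsIntegral X] [IsProper (X ↘ Spec (CommRingCat.of k))] :
    IsField ↑Γ(X, ⊤) ∧ Module.Finite k ↑Γ(X, ⊤) ∧
      (GeometricallyReduced (X ↘ (Spec (CommRingCat.of k))) → Algebra.IsSeparable k ↑Γ(X, ⊤)) ∧
      (GeometricallyIrreducible (X ↘ (Spec (CommRingCat.of k))) →
        IsPurelyInseparable k ↑Γ(X, ⊤)) := by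
  have hF : IsField Γ(X, ⊤) := isField_of_universallyClosed k (X ↘ Spec (CommRingCat.of k))
  have hfin : Module.Finite k Γ(X, ⊤) := by
    have h1 := finite_appTop_of_universallyClosed k (X ↘ Spec (CommRingCat.of k))
    have h2 : ((Scheme.ΓSpecIso (CommRingCat.of k)).inv.hom).Finite :=
      RingHom.Finite.of_surjective _
        (Scheme.ΓSpecIso (CommRingCat.of k)).symm.commRingCatIsoToRingEquiv.surjective
    exact (RingHom.finite_algebraMap).mp (h1.comp h2)
  refine ⟨hF, hfin, fun hred => ?_, fun hirr => ?_⟩
  · let : Field Γ(X, ⊤) := hF.toField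
    have := isGeometricallyReduced_sections k X hred
    exact Groth.Agent.Lib.Helper7.ExalLib.isSeparable_of_isGeometricallyReduced_of_isAlgebraic
  · have hint : Algebra.IsIntegral k Γ(X, ⊤) := inferInstance
    have hsep := (Groth.Agent.Lib.Helper6.GeomComp.geometricallyIrreducible_iff_sepClosed_generic
      k X).mp hirr
    refine ⟨hint, fun x hx => ?_⟩
    have hinj : Function.Injective (resAlg k X (genericPoint X)) := by
      let : Field Γ(X, ⊤) := hF.toField
      exact (resAlg k X (genericPoint X)).toRingHom.injective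
    have hx' : IsSeparable k (resAlg k X (genericPoint X) x) := by
      unfold IsSeparable
      rw [minpoly.algHom_eq _ hinj]
      exact hx
    obtain ⟨c, hc⟩ := hsep _ hx'
    refine ⟨c, hinj ?_⟩
    rw [AlgHom.commutes]
    exact hc

end Groth.Agent.Lib.R2H4.ProperVarSections
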