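import Mathlib
import Groth.Prelude.Def_Omega4
import Groth.Agent.Lib.R2H4ProperVarSections
import Groth.Agent.Lib.Helper11SmInt
import Groth.Agent.Lib.Helper14LocNoeth
import Groth.Agent.Lib.H9SteinSm
import Groth.Agent.Lib.Helper8ModCoprodSectR
set_option backward.isDefEq.respectTransparency.types false

/-!
helper4 (run 2): on a smooth proper scheme over a field `k` the derivation `d : O_X → Ω_{X/k}` vanishes
on global functions (`main`).  `additive_der_eq_zero`: an additive Leibniz map killing `k` on a formally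
unramified `k`-algebra is zero.  `exists_open_dOmega_eq_zero`: every point has a clopen neighbourhood
(its connected component, an integral smooth proper `k`-scheme whose ring of functions is a finite
separable field extension of `k`) on which `d` vanishes identically.
-/

set_option autoImplicit false
set_option linter.style.haveILetI false
set_option linter.unusedSectionVars false
universe u

open CategoryTheory CategoryTheory.Limits AlgebraicGeometry TopologicalSpace Opposite

namespace Groth.Agent.Lib.R2H4DOmegaGlob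

section alg

theorem additive_der_eq_zero {k R N : Type*} [Field k] [CommRing R] [Algebra k R]
    [Algebra.FormallyUnramified k R] [AddCommGroup N] [Module R N] (D : R →+ N)
    (hmul : ∀ a b, D (a * b) = a • D b + b • D a) (hk : ∀ c : k, D (algebraMap k R c) = 0)
    (r : R) : D r = 0 := by
  letI : Module k N := Module.compHom N (algebraMap k R)
  haveI : IsScalarTower k R N := IsScalarTower.of_algebraMap_smul (fun _ _ => rfl)
  let δ : Derivation k R N :=
    { toFun := D
      map_add' := D.map_add
      map_smul' := fun c a => by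
        simp only [RingHom.id_apply]
        rw [Algebra.smul_def, hmul, hk, smul_zero, add_zero]
        rfl
      map_one_eq_zero' := by
        have := hk 1
        rwa [map_one] at this
      leibniz' := hmul }
  have h1 : δ.liftKaehlerDifferential.compDer (KaehlerDifferential.D k R) = δ :=
    δ.liftKaehlerDifferential_comp
  have h2 : δ r = δ.liftKaehlerDifferential (KaehlerDifferential.D k R r) := by
    conv_lhs => rw [← h1]
    rfl
  have h3 : KaehlerDifferential.D k R r = 0 := Subsingleton.elim _ _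
  show δ r = 0
  rw [h2, h3, map_zero]

end alg

variable (k : Type u) [Field k] (X : Scheme.{u}) (f : X ⟶ Spec (CommRingCat.of k))
  [IsProper f] [Smooth f]

attribute [local instance] Groth.Agent.Lib.R2H4.ProperVarSections.gAlg

theorem exists_open_dOmega_eq_zero (x : X) :
    ∃ W : X.Opens, x ∈ W ∧ ∀ t : Γ(X, W), (OmegaSh.dOmega f).app W t = 0 := by
  haveI : IsLocallyNoetherian X := LocallyOfFiniteType.isLocallyNoetherian f
  haveI : CompactSpace X := QuasiCompact.compactSpace_of_compactSpace f
  haveI : IsNoetherian X := {}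
  let U : X.Opens := ⟨connectedComponent x,
    Groth.Agent.Lib.Helper14.isOpen_connectedComponent_of_noetherianSpace x⟩
  have hxU : x ∈ U := mem_connectedComponent
  haveI hconn : ConnectedSpace ↥U :=
    isConnected_iff_connectedSpace.mp isConnected_connectedComponent
  haveI : ConnectedSpace (↑U : Scheme.{u}) := hconn
  haveI : IsClosedImmersion U.ι := IsClosedImmersion.of_isPreimmersion U.ι (by
    rw [Scheme.Opens.range_ι]
    exact isClosed_connectedComponent)
  let g : (↑U : Scheme.{u}) ⟶ Spec (CommRingCat.of k) := U.ι ≫ f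
  haveI : IsProper g := inferInstance
  haveI : Smooth g := inferInstance
  haveI : IsLocallyNoetherian (↑U : Scheme.{u}) := LocallyOfFiniteType.isLocallyNoetherian g
  haveI : CompactSpace (↑U : Scheme.{u}) := QuasiCompact.compactSpace_of_compactSpace g
  haveI : IsNoetherian (↑U : Scheme.{u}) := {}
  haveI : IsIntegral (↑U : Scheme.{u}) :=
    Groth.Agent.Lib.Helper11SmInt.isIntegral_of_connected_of_isDomain_stalk
      (fun y => Groth.Agent.Lib.Helper11SmInt.isDomain_stalk_of_smooth k g y)
  letI : (↑U : Scheme.{u}).Over (Spec (CommRingCat.of k)) := ⟨g⟩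
  haveI : IsProper ((↑U : Scheme.{u}) ↘ Spec (CommRingCat.of k)) := ‹IsProper g›
  obtain ⟨hF, hfin, hsep, -⟩ := Groth.Agent.Lib.R2H4.ProperVarSections.main k (↑U : Scheme.{u})
  have hsep' : Algebra.IsSeparable k Γ((↑U : Scheme.{u}), ⊤) :=
    hsep (Groth.Agent.Lib.H9SteinSm.geometricallyReduced_of_smooth g)
  have hW : U.ι ''ᵁ ⊤ = U := U.ι_image_top
  refine ⟨U.ι ''ᵁ ⊤, by rw [hW]; exact hxU, ?_⟩
  haveI hunr : Algebra.FormallyUnramified k Γ((↑U : Scheme.{u}), ⊤) := by
    letI : Field Γ((↑U : Scheme.{u}), ⊤) := hF.toField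
    exact Algebra.FormallyUnramified.of_isSeparable k Γ((↑U : Scheme.{u}), ⊤)
  have hk : ∀ c : k, (OmegaSh.dOmega f).app (U.ι ''ᵁ ⊤)
      (algebraMap k Γ((↑U : Scheme.{u}), ⊤) c) = 0 := by
    intro c
    have e1 : algebraMap k Γ((↑U : Scheme.{u}), ⊤) c =
        X.presheaf.map (homOfLE (le_top : U.ι ''ᵁ ⊤ ≤ ⊤)).op
          (f.appTop.hom ((Scheme.ΓSpecIso (CommRingCat.of k)).inv.hom c)) := by
      show (g.appTop).hom _ = _
      rw [Scheme.Hom.comp_appTop]
      rfl
    rw [e1]
    have e2 := (OmegaSh.dOmega f).d_map (homOfLE (le_top : U.ι ''ᵁ ⊤ ≤ ⊤)).op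
      (f.appTop.hom ((Scheme.ΓSpecIso (CommRingCat.of k)).inv.hom c))
    have e3 := (OmegaSh.dOmega f).d_app (X := op ⊤) ((Scheme.ΓSpecIso (CommRingCat.of k)).inv.hom c)
    rw [OmegaSh.Der.app_apply]
    refine e2.trans ?_
    have e4 : (OmegaSh.dOmega f).d (X := op ⊤)
        (f.appTop.hom ((Scheme.ΓSpecIso (CommRingCat.of k)).inv.hom c)) = 0 := e3
    rw [e4]
    exact map_zero _
  intro t
  letI iM : Module Γ((↑U : Scheme.{u}), ⊤) Γ(Omega.sheaf f, U.ι ''ᵁ ⊤) :=
    (inferInstance : Module Γ(X, U.ι ''ᵁ ⊤) Γ(Omega.sheaf f, U.ι ''ᵁ ⊤))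
  exact additive_der_eq_zero (k := k) (R := Γ((↑U : Scheme.{u}), ⊤))
    (N := Γ(Omega.sheaf f, U.ι ''ᵁ ⊤))
    ((OmegaSh.dOmega f).app (U.ι ''ᵁ ⊤))
    (fun a b => (OmegaSh.dOmega f).d_mul (X := op (U.ι ''ᵁ ⊤)) a b) hk t

/-- on a smooth proper scheme over a field the derivation `d` vanishes on global functions -/
theorem main (s : Γ(X, ⊤)) : (OmegaSh.dOmega f).app ⊤ s = 0 := by
  apply Groth.Agent.Lib.Helper8ModCoprodSectR.section_eq_zero_of_locally X.ringCatSheaf
    (Omega.sheaf f) ⊤
  intro y _
  obtain ⟨W, hyW, hW⟩ := exists_open_dOmega_eq_zero k X f y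
  refine ⟨W, le_top, hyW, ?_⟩
  have e2 := (OmegaSh.dOmega f).d_map (homOfLE (le_top : W ≤ ⊤)).op s
  exact e2.symm.trans (hW _)

end Groth.Agent.Lib.R2H4DOmegaGlob
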