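import Mathlib

set_option autoImplicit false
universe u v
open TensorProduct

namespace Groth.Agent.Lib.R2H4DblCovRing

/-- polarized Cayley–Hamilton for `2 × 2` matrices -/
theorem polar_ch {A : Type*} [CommRing A] (X Y : Matrix (Fin 2) (Fin 2) A) :
    X * Y + Y * X - Matrix.trace X • Y - Matrix.trace Y • X +
      (Matrix.trace X * Matrix.trace Y - Matrix.trace (X * Y)) • (1 : Matrix (Fin 2) (Fin 2) A) = 0 := by
  ext i j
  fin_cases i <;> fin_cases j <;>
    simp [Matrix.mul_apply, Fin.sum_univ_two, Matrix.trace_fin_two, Matrix.one_apply] <;> ring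

theorem key {A : Type*} [CommRing A] (X Y : Matrix (Fin 2) (Fin 2) A) (hXY : X * Y = Y * X) :
    Matrix.trace (X * Y) • (1 : Matrix (Fin 2) (Fin 2) A) - X * Y =
      (Matrix.trace X • (1 : Matrix (Fin 2) (Fin 2) A) - X) * (Matrix.trace Y • 1 - Y) := by
  have h := polar_ch X Y
  rw [← hXY] at h
  have e : (Matrix.trace X • (1 : Matrix (Fin 2) (Fin 2) A) - X) * (Matrix.trace Y • 1 - Y) =
      (Matrix.trace X * Matrix.trace Y) • (1 : Matrix (Fin 2) (Fin 2) A) - Matrix.trace X • Y
        - Matrix.trace Y • X + X * Y := by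
    simp only [sub_mul, mul_sub, Matrix.smul_mul, Matrix.mul_smul, Matrix.one_mul, Matrix.mul_one,
      smul_smul]
    rw [mul_comm (Matrix.trace Y) (Matrix.trace X)]
    abel
  rw [e]
  rw [sub_smul] at h
  have : Matrix.trace (X * Y) • (1 : Matrix (Fin 2) (Fin 2) A) - X * Y -
      ((Matrix.trace X * Matrix.trace Y) • (1 : Matrix (Fin 2) (Fin 2) A) - Matrix.trace X • Y
        - Matrix.trace Y • X + X * Y) = 0 := by
    rw [← neg_eq_zero, ← h]
    abel
  exact sub_eq_zero.mp this

variable (B : Type u) {A : Type v} [CommRing B] [CommRing A] [Algebra B A]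

/-- the conjugation `a ↦ tr(a) - a` -/
noncomputable def conjFun (a : A) : A := algebraMap B A (Algebra.trace B A a) - a

variable {B}

theorem conjFun_add (x y : A) : conjFun B (x + y) = conjFun B x + conjFun B y := by
  unfold conjFun
  rw [map_add, map_add]
  ring

theorem trace_algebraMap_two (bs : Module.Basis (Fin 2) B A) (b : B) :
    Algebra.trace B A (algebraMap B A b) = 2 * b := by
  rw [Algebra.trace_algebraMap_of_basis bs]
  simp [two_mul]

theorem conjFun_algebraMap (bs : Module.Basis (Fin 2) B A) (b : B) :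
    conjFun B (algebraMap B A b) = algebraMap B A b := by
  unfold conjFun
  rw [trace_algebraMap_two bs, ← map_sub]
  congr 1
  ring

theorem conjFun_one (bs : Module.Basis (Fin 2) B A) : conjFun B (1 : A) = 1 := by
  rw [← map_one (algebraMap B A), conjFun_algebraMap bs]

theorem conjFun_mul (bs : Module.Basis (Fin 2) B A) (x y : A) :
    conjFun B (x * y) = conjFun B x * conjFun B y := by
  let L := Algebra.leftMulMatrix bs
  have hLinj : Function.Injective L := Algebra.leftMulMatrix_injective bs
  have htr : ∀ x : A, Algebra.trace B A x = Matrix.trace (L x) := fun x =>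
    Algebra.trace_eq_matrix_trace bs x
  have hLσ : ∀ b, L (conjFun B b) = Matrix.trace (L b) • (1 : Matrix (Fin 2) (Fin 2) B) - L b := by
    intro b
    unfold conjFun
    rw [map_sub, AlgHom.commutes, htr, Algebra.algebraMap_eq_smul_one]
  apply hLinj
  rw [hLσ (x * y), map_mul L (conjFun B x) (conjFun B y), hLσ x, hLσ y, map_mul L x y]
  exact key (L x) (L y) (by rw [← map_mul, ← map_mul, mul_comm])

theorem conjFun_conjFun (bs : Module.Basis (Fin 2) B A) (a : A) :
    conjFun B (conjFun B a) = a := by
  have h1 : conjFun B (conjFun B a) =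
      conjFun B (algebraMap B A (Algebra.trace B A a)) + conjFun B (-a) := by
    rw [← conjFun_add]
    congr 1
    unfold conjFun
    ring
  rw [h1, conjFun_algebraMap bs]
  unfold conjFun
  rw [map_neg, map_neg]
  ring

theorem mem_range_of_conjFun_eq (h2 : IsUnit (2 : B)) (a : A) (h : conjFun B a = a) :
    a ∈ Set.range (algebraMap B A) := by
  obtain ⟨u, hu⟩ := h2
  unfold conjFun at h
  refine ⟨(↑u⁻¹ : B) * Algebra.trace B A a, ?_⟩
  have h3 : algebraMap B A (Algebra.trace B A a) = algebraMap B A 2 * a := by
    rw [map_ofNat, two_mul]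
    linear_combination h
  rw [map_mul, h3, ← mul_assoc, ← map_mul, ← hu, Units.inv_mul, map_one, one_mul]

theorem algebraMap_injective_of_basis (bs : Module.Basis (Fin 2) B A) :
    Function.Injective (algebraMap B A) := by
  rcases subsingleton_or_nontrivial B with h | h
  · exact Function.injective_of_subsingleton _
  · haveI : Module.Free B A := Module.Free.of_basis bs
    haveI : Nontrivial A := by
      have : bs 0 ≠ 0 := bs.ne_zero 0
      exact ⟨⟨bs 0, 0, this⟩⟩
    exact FaithfulSMul.algebraMap_injective B A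

/-- compatibility of the conjugation with base change -/
theorem conjFun_baseChange {B' : Type*} {A' : Type*} [CommRing B'] [CommRing A'] [Algebra B B']
    [Algebra B' A'] [Algebra B A'] [IsScalarTower B B' A'] (ε : A →ₐ[B] A')
    (ibc : IsBaseChange B' ε.toLinearMap) (bs : Module.Basis (Fin 2) B A) (a : A) :
    ε (conjFun B a) = conjFun B' (ε a) := by
  classical
  let bs' : Module.Basis (Fin 2) B' A' := ibc.basis bs
  have hbs' : ∀ i, bs' i = ε (bs i) := fun i => ibc.basis_apply bs i
  have hM : ∀ i j, Algebra.leftMulMatrix bs' (ε a) i j =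
      algebraMap B B' (Algebra.leftMulMatrix bs a i j) := by
    intro i j
    rw [Algebra.leftMulMatrix_eq_repr_mul, Algebra.leftMulMatrix_eq_repr_mul, hbs', ← map_mul]
    exact ibc.basis_repr_comp_apply bs (a * bs j) i
  have htr : Algebra.trace B' A' (ε a) = algebraMap B B' (Algebra.trace B A a) := by
    rw [Algebra.trace_eq_matrix_trace bs', Algebra.trace_eq_matrix_trace bs, Matrix.trace,
      Matrix.trace, map_sum]
    refine Finset.sum_congr rfl fun i _ => ?_
    exact hM i i
  unfold conjFun
  rw [map_sub, htr, ← IsScalarTower.algebraMap_apply, AlgHom.commutes]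

/-- the conjugation as a ring homomorphism -/
noncomputable def conjRingHom (bs : Module.Basis (Fin 2) B A) : A →+* A where
  toFun := conjFun B
  map_one' := conjFun_one bs
  map_mul' := conjFun_mul bs
  map_zero' := by
    unfold conjFun
    simp
  map_add' := conjFun_add

section cat

open CategoryTheory

/-- `A` is free of rank two over `B` along `φ` -/
def Good {B A : CommRingCat.{u}} (φ : B ⟶ A) : Prop :=
  letI := φ.hom.toAlgebra
  Nonempty (Module.Basis (Fin 2) B A)

/-- the conjugation of a free rank two algebra, in `CommRingCat` -/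
noncomputable def conjHom {B A : CommRingCat.{u}} (φ : B ⟶ A) (h : Good φ) : A ⟶ A :=
  letI := φ.hom.toAlgebra
  CommRingCat.ofHom (conjRingHom h.some)

variable {B A : CommRingCat.{u}} (φ : B ⟶ A) (h : Good φ)

theorem conjHom_apply (a : A) :
    (conjHom φ h).hom a = @conjFun B A _ _ φ.hom.toAlgebra a := rfl

theorem comp_conjHom : φ ≫ conjHom φ h = φ := by
  letI := φ.hom.toAlgebra
  ext b
  exact conjFun_algebraMap h.some b

theorem conjHom_conjHom : conjHom φ h ≫ conjHom φ h = 𝟙 A := by
  letI := φ.hom.toAlgebra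
  ext a
  exact conjFun_conjFun h.some a

theorem mem_range_of_conjHom_eq (h2 : IsUnit (2 : B)) (a : A) (ha : (conjHom φ h).hom a = a) :
    a ∈ Set.range φ.hom := by
  letI := φ.hom.toAlgebra
  exact mem_range_of_conjFun_eq h2 a ha

include h in
theorem injective_of_good : Function.Injective φ.hom := by
  letI := φ.hom.toAlgebra
  exact algebraMap_injective_of_basis h.some

variable {φ}
variable {B' A' : CommRingCat.{u}} {β : B ⟶ B'} {α : A ⟶ A'} {φ' : B' ⟶ A'}

include h in
theorem good_of_isPushout (H : IsPushout φ β α φ') : Good φ' := by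
  algebraize [φ.hom, β.hom, α.hom, φ'.hom, α.hom.comp φ.hom]
  have : IsScalarTower B B' A' := .of_algebraMap_eq' <| congr($(H.w).hom)
  have hp : Algebra.IsPushout B B' A A' := CommRingCat.isPushout_iff_isPushout.mp H.flip
  have ibc : IsBaseChange B' (IsScalarTower.toAlgHom B A A').toLinearMap := hp.out
  exact ⟨ibc.basis h.some⟩

theorem conjHom_comp_of_isPushout (H : IsPushout φ β α φ') (h' : Good φ') :
    conjHom φ h ≫ α = α ≫ conjHom φ' h' := by
  algebraize [φ.hom, β.hom, α.hom, φ'.hom, α.hom.comp φ.hom]
  have : IsScalarTower B B' A' := .of_algebraMap_eq' <| congr($(H.w).hom)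
  have hp : Algebra.IsPushout B B' A A' := CommRingCat.isPushout_iff_isPushout.mp H.flip
  have ibc : IsBaseChange B' (IsScalarTower.toAlgHom B A A').toLinearMap := hp.out
  ext a
  exact conjFun_baseChange (IsScalarTower.toAlgHom B A A') ibc h.some a

end cat

end Groth.Agent.Lib.R2H4DblCovRing
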