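import Mathlib
import Groth.Agent.Lib.R2H4DblCovRing
import Groth.Agent.Lib.R2H4QuotChart
import Groth.Agent.Lib.Helper18FinFlat2

set_option autoImplicit false
set_option linter.style.haveILetI false
universe u
open CategoryTheory CategoryTheory.Limits AlgebraicGeometry TopologicalSpace

namespace Groth.Agent.Lib.R2H4DblCovSch

open SGA1 Groth.Agent.Lib.Helper20 Groth.Agent.Lib.H6xProjQuot Groth.Agent.Lib.R2H4DblCovRing
  Groth.Agent.Lib.R2H4QuotChart

variable {X Y : Scheme.{u}} (f : X ⟶ Y)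

/-- the section square of an affine morphism over a pair of affine opens is a pushout -/
theorem isPushout_app [IsAffineHom f] {U U' : Y.Opens} (hU : IsAffineOpen U)
    (hU' : IsAffineOpen U') (hle : U' ≤ U) :
    IsPushout (f.app U) (Y.presheaf.map (homOfLE hle).op)
      (X.presheaf.map (homOfLE (f.preimage_mono hle)).op) (f.app U') := by
  have H : IsPullback (𝟙 X) f f (𝟙 Y) := IsPullback.of_horiz_isIso ⟨by simp⟩
  have hUST : U' ≤ (𝟙 Y) ⁻¹ᵁ U := hle
  have hUSX : f ⁻¹ᵁ U ≤ f ⁻¹ᵁ U := le_rfl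
  have hUY : f ⁻¹ᵁ U' = (𝟙 X) ⁻¹ᵁ (f ⁻¹ᵁ U) ⊓ f ⁻¹ᵁ U' := by
    rw [Scheme.Hom.id_preimage]
    exact (inf_eq_right.mpr (f.preimage_mono hle)).symm
  have hiso := isIso_pushoutSection_of_isAffineOpen H hUST hUSX hUY hU hU' (hU.preimage f)
  have hpo := (isIso_pushoutSection_iff H hUST hUSX hUY).mp hiso
  have e1 : f.appLE U (f ⁻¹ᵁ U) hUSX = f.app U := f.appLE_eq_app
  have e2 : Scheme.Hom.appLE (𝟙 Y) U U' hUST = Y.presheaf.map (homOfLE hle).op := by
    rw [Scheme.Hom.appLE, Scheme.Hom.id_app]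
    exact Category.id_comp _
  have e3 : ∀ e, Scheme.Hom.appLE (𝟙 X) (f ⁻¹ᵁ U) (f ⁻¹ᵁ U') e =
      X.presheaf.map (homOfLE (f.preimage_mono hle)).op := by
    intro e
    rw [Scheme.Hom.appLE, Scheme.Hom.id_app]
    exact Category.id_comp _
  have e4 : ∀ e, f.appLE U' (f ⁻¹ᵁ U') e = f.app U' := fun e => f.appLE_eq_app
  rw [e1, e2, e3, e4] at hpo
  exact hpo

/-- good opens: affine, with sections of the source free of rank two -/
def GoodOpen (U : Y.Opens) : Prop := IsAffineOpen U ∧ Good (f.app U)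

variable {f}

theorem GoodOpen.of_le [IsAffineHom f] {U U' : Y.Opens} (h : GoodOpen f U) (hU' : IsAffineOpen U')
    (hle : U' ≤ U) : GoodOpen f U' :=
  ⟨hU', good_of_isPushout h.2 (isPushout_app f h.1 hU' hle)⟩

variable (f)

open Groth.Agent.Helper18FinFlat Groth.Agent.Helper18FittSh Groth.Agent.Lib.Helper23.QCohLocal in
theorem exists_goodOpen [IsFinite f] [Flat f] [LocallyOfFinitePresentation f]
    (hrk : ∀ y : Y, f.finrank y = 2) (y : Y) : ∃ W : Y.Opens, y ∈ W ∧ GoodOpen f W := by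
  have h := (main_S19692 f 2).mp ⟨⟨inferInstance, inferInstance, inferInstance⟩, hrk⟩
  obtain ⟨U, hyU, ⟨e⟩⟩ := h.2 y
  haveI : ((Scheme.Modules.pushforward f).obj (Coh.structureModule X)).IsQuasicoherent :=
    isQuasicoherent_pushforward f _
  obtain ⟨W, hW, hyW, ⟨b⟩⟩ := exists_affine_basis_of_restrict_iso_freeMod _ U.ι e ⟨y, hyU⟩
  refine ⟨W, hyW, hW, ?_⟩
  letI : Algebra Γ(Y, W) Γ(X, f ⁻¹ᵁ W) := (f.app W).hom.toAlgebra
  exact ⟨b.map (pushEquiv f W)⟩

section glue

/-- every point of the target has a good open neighbourhood -/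
class HasGoodCover (f : X ⟶ Y) : Prop where
  out : ∀ y : Y, ∃ W : Y.Opens, y ∈ W ∧ GoodOpen f W

variable [IsAffineHom f] [hc : HasGoodCover f]

/-- the good opens -/
def J : Type u := {U : Y.Opens // GoodOpen f U}

instance : Preorder (J f) := inferInstanceAs (Preorder {U : Y.Opens // GoodOpen f U})

variable {f}

theorem J.affine (U : J f) : IsAffineOpen (f ⁻¹ᵁ U.1) := U.2.1.preimage f

/-- the conjugation on sections over a good open -/
noncomputable def J.conj (U : J f) : Γ(X, f ⁻¹ᵁ U.1) ⟶ Γ(X, f ⁻¹ᵁ U.1) :=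
  conjHom (f.app U.1) U.2.2

theorem J.conj_res {U U' : J f} (h : U' ≤ U) :
    U.conj ≫ X.presheaf.map (homOfLE (f.preimage_mono h)).op =
      X.presheaf.map (homOfLE (f.preimage_mono h)).op ≫ U'.conj :=
  conjHom_comp_of_isPushout U.2.2 (isPushout_app f U.2.1 U'.2.1 h) U'.2.2

/-- the local conjugation morphisms -/
noncomputable def sig (U : J f) : (f ⁻¹ᵁ U.1).toScheme ⟶ X :=
  (f ⁻¹ᵁ U.1).toSpecΓ ≫ Spec.map U.conj ≫ U.affine.fromSpec

theorem sig_compat {U U' : J f} (h : U' ≤ U) :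
    X.homOfLE (f.preimage_mono h) ≫ sig U = sig U' := by
  unfold sig
  rw [← Scheme.Opens.toSpecΓ_SpecMap_presheaf_map_assoc, ← Spec.map_comp_assoc, J.conj_res h,
    Spec.map_comp_assoc, IsAffineOpen.map_fromSpec]

theorem sig_comp (U : J f) : sig U ≫ f = (f ⁻¹ᵁ U.1).ι ≫ f := by
  unfold sig
  have h1 : U.affine.fromSpec ≫ f = Spec.map (f.app U.1) ≫ U.2.1.fromSpec := by
    rw [← IsAffineOpen.SpecMap_appLE_fromSpec f U.2.1 U.affine le_rfl, Scheme.Hom.appLE_eq_app]
  rw [Category.assoc, Category.assoc, h1, ← Spec.map_comp_assoc]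
  have h2 : f.app U.1 ≫ U.conj = f.app U.1 := comp_conjHom _ _
  rw [h2, ← h1, IsAffineOpen.toSpecΓ_fromSpec_assoc]

variable (f)

/-- the cover of the source by preimages of good opens -/
noncomputable def cover : X.OpenCover where
  I₀ := J f
  X U := (f ⁻¹ᵁ U.1).toScheme
  f U := (f ⁻¹ᵁ U.1).ι
  mem₀ := by
    rw [Scheme.presieve₀_mem_precoverage_iff]
    refine ⟨fun x => ?_, inferInstance⟩
    obtain ⟨W, hW, hg⟩ := hc.out (f.base x)
    exact ⟨⟨W, hg⟩, ⟨x, hW⟩, rfl⟩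

instance : Preorder (cover f).I₀ := inferInstanceAs (Preorder (J f))

theorem exists_good_le (y : Y) (V : Y.Opens) (hy : y ∈ V) :
    ∃ W : J f, y ∈ W.1 ∧ W.1 ≤ V := by
  obtain ⟨W, hW, hg⟩ := hc.out y
  obtain ⟨W', hW', hyW', hle⟩ := Opens.isBasis_iff_nbhd.mp Y.isBasis_affineOpens
    (show y ∈ W ⊓ V from ⟨hW, hy⟩)
  exact ⟨⟨W', hg.of_le hW' (hle.trans inf_le_left)⟩, hyW', hle.trans inf_le_right⟩

noncomputable instance : (cover f).LocallyDirected where
  trans {i j} hij := X.homOfLE (f.preimage_mono (leOfHom hij))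
  trans_id i := X.homOfLE_rfl _
  trans_comp hij hjk := (X.homOfLE_homOfLE _ _).symm
  w hij := X.homOfLE_ι _
  directed {i j} x := by
    set y : X := (pullback.fst ((cover f).f i) ((cover f).f j) ≫ (cover f).f i).base x with hy
    have hyi : y ∈ f ⁻¹ᵁ i.1 := by
      rw [hy, Scheme.Hom.comp_base, TopCat.comp_app]
      exact ((pullback.fst ((cover f).f i) ((cover f).f j)).base x).2
    have hyj : y ∈ f ⁻¹ᵁ j.1 := by
      rw [hy, pullback.condition, Scheme.Hom.comp_base, TopCat.comp_app]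
      exact ((pullback.snd ((cover f).f i) ((cover f).f j)).base x).2
    obtain ⟨l, hyl, hle⟩ := exists_good_le f (f.base y) (i.1 ⊓ j.1) ⟨hyi, hyj⟩
    have hli : l ≤ i := hle.trans inf_le_left
    have hlj : l ≤ j := hle.trans inf_le_right
    refine ⟨l, homOfLE hli, homOfLE hlj, ⟨y, hyl⟩, ?_⟩
    apply (pullback.fst ((cover f).f i) ((cover f).f j) ≫ (cover f).f i).isOpenEmbedding.injective
    rw [← Scheme.Hom.comp_apply, pullback.lift_fst_assoc]
    change (X.homOfLE (f.preimage_mono hli) ≫ (f ⁻¹ᵁ i.1).ι).base ⟨y, hyl⟩ = y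
    rw [Scheme.homOfLE_ι]
    rfl
  property_trans {i j} hij :=
    inferInstanceAs (IsOpenImmersion (X.homOfLE (f.preimage_mono (leOfHom hij))))

/-- the glued conjugation -/
noncomputable def conjMor : X ⟶ X :=
  (cover f).glueMorphismsOfLocallyDirected (fun U => sig U)
    (fun {i j} hij => sig_compat (leOfHom hij))

theorem ι_conjMor (U : J f) : (f ⁻¹ᵁ U.1).ι ≫ conjMor f = sig U :=
  (cover f).map_glueMorphismsOfLocallyDirected (fun U => sig U)
    (fun {i j} hij => sig_compat (leOfHom hij)) U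

theorem conjMor_comp : conjMor f ≫ f = f := by
  apply (cover f).hom_ext
  intro U
  change (f ⁻¹ᵁ U.1).ι ≫ conjMor f ≫ f = (f ⁻¹ᵁ U.1).ι ≫ f
  rw [← Category.assoc, ι_conjMor, sig_comp]

theorem fromSpec_conjMor (U : J f) :
    U.affine.fromSpec ≫ conjMor f = Spec.map U.conj ≫ U.affine.fromSpec := by
  conv_lhs => rw [IsAffineOpen.fromSpec, Category.assoc, ι_conjMor, sig,
    IsAffineOpen.isoSpec_inv_toSpecΓ_assoc]

theorem conjMor_conjMor : conjMor f ≫ conjMor f = 𝟙 X := by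
  apply (cover f).hom_ext
  intro U
  change (f ⁻¹ᵁ U.1).ι ≫ conjMor f ≫ conjMor f = (f ⁻¹ᵁ U.1).ι ≫ 𝟙 X
  rw [← Category.assoc, ι_conjMor, sig, Category.assoc, Category.assoc, fromSpec_conjMor,
    ← Spec.map_comp_assoc]
  have h2 : U.conj ≫ U.conj = 𝟙 _ := conjHom_conjHom _ _
  rw [h2, Spec.map_id, Category.id_comp, IsAffineOpen.toSpecΓ_fromSpec, Category.comp_id]

theorem conjMor_appLE (U : J f) (e : f ⁻¹ᵁ U.1 ≤ conjMor f ⁻¹ᵁ (f ⁻¹ᵁ U.1)) :
    (conjMor f).appLE (f ⁻¹ᵁ U.1) (f ⁻¹ᵁ U.1) e = U.conj := by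
  apply Spec.map_injective
  rw [← cancel_mono U.affine.fromSpec,
    IsAffineOpen.SpecMap_appLE_fromSpec (conjMor f) U.affine U.affine e, fromSpec_conjMor]

/-- the conjugation as an automorphism -/
noncomputable def conjAut : Aut X where
  hom := conjMor f
  inv := conjMor f
  hom_inv_id := conjMor_conjMor f
  inv_hom_id := conjMor_conjMor f

theorem conjAut_mul : conjAut f * conjAut f = 1 := by
  apply Iso.ext
  exact conjMor_conjMor f

end glue

section group

variable {G : Type*} [Group G]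

theorem eq_one_or_eq_of_mem_zpowers {σ g : G} (hσ : σ * σ = 1) (hg : g ∈ Subgroup.zpowers σ) :
    g = 1 ∨ g = σ := by
  obtain ⟨k, rfl⟩ := Subgroup.mem_zpowers_iff.mp hg
  have h2 : σ ^ (2 : ℤ) = 1 := by
    rw [zpow_ofNat, pow_two, hσ]
  have hk : k = 2 * (k / 2) + k % 2 := (Int.mul_ediv_add_emod k 2).symm
  rw [hk, zpow_add, zpow_mul, h2, one_zpow, one_mul]
  rcases Int.emod_two_eq_zero_or_one k with h | h
  · left; rw [h, zpow_zero]
  · right; rw [h, zpow_one]

theorem finite_zpowers_of_sq {σ : G} (hσ : σ * σ = 1) : Finite ↥(Subgroup.zpowers σ) := by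
  have h : IsOfFinOrder σ := isOfFinOrder_iff_pow_eq_one.mpr ⟨2, by norm_num, by rw [pow_two, hσ]⟩
  exact Finite.of_equiv _ (finEquivZPowers h)

end group

section main

variable [IsAffineHom f] [hc : HasGoodCover f]

theorem isQuot_conjAut (h2 : IsUnit (2 : Γ(Y, ⊤))) :
    SGA1.IsQuot (Subgroup.zpowers (conjAut f)).subtype f := by
  haveI : Finite ↥(Subgroup.zpowers (conjAut f)) := finite_zpowers_of_sq (conjAut_mul f)
  have hinv : ∀ g : ↥(Subgroup.zpowers (conjAut f)),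
      ((Subgroup.zpowers (conjAut f)).subtype g).hom ≫ f = f := by
    rintro ⟨g, hg⟩
    rcases eq_one_or_eq_of_mem_zpowers (conjAut_mul f) hg with rfl | rfl
    · exact Category.id_comp f
    · exact conjMor_comp f
  refine isQuot_of_charts _ f hinv fun y => ?_
  obtain ⟨W, hyW, hg⟩ := hc.out y
  let U : J f := ⟨W, hg⟩
  refine ⟨W, hyW, hg.1, U.affine, le_rfl,
    fun g => preimage_le_of_inv _ f hinv g W, ?_, ?_⟩
  · rw [Scheme.Hom.appLE_eq_app]
    exact injective_of_good _ hg.2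
  · intro s hs
    rw [Scheme.Hom.appLE_eq_app]
    have h2W : IsUnit (2 : Γ(Y, W)) := by
      have := h2.map (Y.presheaf.map (homOfLE (le_top : W ≤ ⊤)).op).hom
      rwa [map_ofNat] at this
    refine mem_range_of_conjHom_eq (f.app W) hg.2 h2W s ?_
    have h3 := hs ⟨conjAut f, Subgroup.mem_zpowers _⟩
    change ((conjMor f).appLE (f ⁻¹ᵁ W) (f ⁻¹ᵁ W) _).hom s = s at h3
    rw [conjMor_appLE f U] at h3
    exact h3

end main

/-- **Double covers are quotients by an involution** when `2` is invertible. -/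
theorem main [IsFinite f] [Flat f] [LocallyOfFinitePresentation f]
    (hrk : ∀ y : Y, f.finrank y = 2) (h2 : IsUnit (2 : Γ(Y, ⊤))) :
    ∃ σ : Aut X, σ.hom ≫ f = f ∧ σ * σ = 1 ∧ SGA1.IsQuot (Subgroup.zpowers σ).subtype f := by
  haveI : HasGoodCover f := ⟨exists_goodOpen f hrk⟩
  exact ⟨conjAut f, conjMor_comp f, conjAut_mul f, isQuot_conjAut f h2⟩

end Groth.Agent.Lib.R2H4DblCovSch
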