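import Mathlib
import Groth.Prelude
import Groth.Agent.Lib.R2H4LerayProj
import Groth.Agent.Lib.R2H4KleimanA
import Groth.Agent.Lib.R2H4GenFinPull
import Groth.Agent.Lib.Helper4VarDim7
import Groth.Agent.Lib.R2H3FibDimLimD
import Groth.Agent.Lib.R2H1DegComponents

/-!
helper4 (run 2): the degree formula for intersection numbers under a dominant morphism of integral proper
schemes over a field: `χ(S, (g^*M)^n) = deg(g) · χ(T, M^n) + (degree < dim S)`.
-/

set_option autoImplicit false
set_option linter.style.haveILetI false
set_option linter.unusedSectionVars false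
universe u
open CategoryTheory CategoryTheory.Limits AlgebraicGeometry TopologicalSpace

noncomputable section

namespace Groth.Agent.Lib.R2H4DegFormula

open Groth.Agent.Lib.R2H4NumPoly Groth.Agent.Lib.R2H4TensorPows Groth.Agent.Lib.R2H4Snapper
  Groth.Agent.Lib.R2H4SnapperRef Groth.Agent.Lib.R2H4LerayProj Groth.Agent.Lib.Helper4.VarDim

section Poly

variable {σ : Type*} [DecidableEq σ]

theorem DegLT.C_mul {d : ℕ} (c : ℚ) {P : MvPolynomial σ ℚ} (hP : DegLT d P) :
    DegLT d (MvPolynomial.C c * P) := by
  intro m hm
  rw [MvPolynomial.mem_support_iff, MvPolynomial.coeff_C_mul] at hm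
  exact hP m (MvPolynomial.mem_support_iff.2 fun h => hm (by rw [h, mul_zero]))

theorem IsPolyLT.const_mul {d : ℕ} (c : ℚ) {g : (σ → ℕ) → ℚ} (hg : IsPolyLT d g) :
    IsPolyLT d (fun n => c * g n) := by
  obtain ⟨P, hP, hPg⟩ := hg
  exact ⟨MvPolynomial.C c * P, DegLT.C_mul c hP, fun n => by simp [ev, hPg n]⟩

theorem IsPolyLT.finset_sum {ι : Type*} (s : Finset ι) {d : ℕ} (g : ι → (σ → ℕ) → ℚ)
    (h : ∀ a ∈ s, IsPolyLT d (g a)) : IsPolyLT d (fun n => ∑ a ∈ s, g a n) := by
  classical
  induction s using Finset.induction_on with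
  | empty => simpa using isPolyLT_zero d
  | insert a s ha ih =>
    have h1 := (h a (Finset.mem_insert_self a s)).add
      (ih fun b hb => h b (Finset.mem_insert_of_mem hb))
    exact h1.congr fun n => by rw [Finset.sum_insert ha]

end Poly

section Generic

variable (k : Type u) [Field k] {T : Scheme.{u}} [T.Over (Spec (CommRingCat.of k))]
  [IsProper (T ↘ Spec (CommRingCat.of k))] [IsIntegral T]

/-- the dimension of an integral scheme of finite type over a field is the transcendence degree of its
function field -/
theorem dim_eq_trdegNat :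
    topologicalKrullDim T = ((trdegNat k T (genericPoint T) : ℕ) : WithBot ℕ∞) := by
  rw [← topologicalKrullDim_closure_singleton k T (genericPoint T), (genericPoint_spec T).def]
  exact (IsHomeomorph.topologicalKrullDim_eq _ (Homeomorph.Set.univ T).isHomeomorph).symm

include k in
/-- only the generic point contributes to the main term -/
theorem lam_eq_zero_of_ne (d : ℕ) (hdim : topologicalKrullDim T ≤ ((d : ℕ) : WithBot ℕ∞))
    (F : T.Modules) (ξ : T) (hξ : ξ ≠ genericPoint T) : lam d F ξ = 0 := by
  unfold lam
  rw [if_neg]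
  intro h
  rw [topologicalKrullDim_closure_singleton k T ξ] at h
  have h1 := trdegNat_lt_of_specializes k T (genericPoint T) ξ (genericPoint_specializes ξ) hξ.symm
  rw [dim_eq_trdegNat k] at hdim
  have h2 : trdegNat k T (genericPoint T) ≤ d := by exact_mod_cast hdim
  have h3 : trdegNat k T ξ = d := by exact_mod_cast h
  omega

theorem MT_eq (d r : ℕ) (hdim : topologicalKrullDim T ≤ ((d : ℕ) : WithBot ℕ∞))
    (M : Fin r → T.Modules) (F : T.Modules) (n : Fin r → ℕ) :
    MT k d r M F n = ((lam d F (genericPoint T)).toNat : ℚ) *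
      fE k T r M (ClSub.quotMod (zI (genericPoint T))) n := by
  unfold MT
  rw [finsum_eq_single _ (genericPoint T)]
  intro ξ hξ
  rw [lam_eq_zero_of_ne k d hdim F ξ hξ]
  simp

/-- refined Snapper on an integral scheme -/
theorem fE_generic (d r : ℕ) (hdim : topologicalKrullDim T ≤ ((d : ℕ) : WithBot ℕ∞))
    (M : Fin r → T.Modules) (hM : ∀ i, PicF.IsInvertible (M i)) (F : T.Modules)
    (hF : Coh.IsCoh F) :
    IsPolyLT d (fun n => fE k T r M F n - ((lam d F (genericPoint T)).toNat : ℚ) *
      fE k T r M (ClSub.quotMod (zI (genericPoint T))) n) := by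
  have h := (refined k d hM F hF
    ((Groth.Agent.Lib.R2H4KleimanA.dim_support_le_dim F).trans hdim)).2
  exact h.congr fun n => by rw [MT_eq k d r hdim M F n]

end Generic

section Fibre

variable (k : Type u) [Field k] {S T : Scheme.{u}}
  [S.Over (Spec (CommRingCat.of k))] [T.Over (Spec (CommRingCat.of k))]
  [IsProper (S ↘ Spec (CommRingCat.of k))] [IsProper (T ↘ Spec (CommRingCat.of k))]
  [IsIntegral S] [IsIntegral T]
  (g : S ⟶ T) (hg : g ≫ (T ↘ Spec (CommRingCat.of k)) = S ↘ Spec (CommRingCat.of k))

include hg in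
/-- equal dimensions: the generic fibre is the generic point -/
theorem fiber_generic (hdom : g (genericPoint S) = genericPoint T)
    (hdim : topologicalKrullDim T = topologicalKrullDim S) :
    g ⁻¹' {g (genericPoint S)} = {genericPoint S} := by
  rw [dim_eq_trdegNat k (T := T), dim_eq_trdegNat k (T := S)] at hdim
  have hd : trdegNat k T (genericPoint T) = trdegNat k S (genericPoint S) := by
    exact_mod_cast hdim
  ext x
  constructor
  · intro hx
    rw [Set.mem_preimage, Set.mem_singleton_iff, hdom] at hx
    rw [Set.mem_singleton_iff]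
    by_contra hne
    have h1 := trdegNat_lt_of_specializes k S (genericPoint S) x (genericPoint_specializes x)
      (fun h => hne h.symm)
    have h2 := trdegNat_le_of_hom k g hg x
    rw [hx] at h2
    omega
  · rintro rfl
    rfl

include hg in
/-- equal dimensions: the generic fibre has dimension zero -/
theorem dim_fiber_generic (hdom : g (genericPoint S) = genericPoint T)
    (hdim : topologicalKrullDim T = topologicalKrullDim S) :
    topologicalKrullDim ↥(g.fiber (genericPoint T)) ≤ 0 := by
  have hfib := fiber_generic k g hg hdom hdim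
  rw [hdom] at hfib
  haveI : Subsingleton ↥(g.fiber (genericPoint T)) := by
    refine ⟨fun a b => ?_⟩
    apply (g.fiberHomeo (genericPoint T)).injective
    apply Subtype.ext
    have ha : ((g.fiberHomeo (genericPoint T)) a : S) ∈ g ⁻¹' {genericPoint T} :=
      ((g.fiberHomeo (genericPoint T)) a).2
    have hb : ((g.fiberHomeo (genericPoint T)) b : S) ∈ g ⁻¹' {genericPoint T} :=
      ((g.fiberHomeo (genericPoint T)) b).2
    have ha' : ((g.fiberHomeo (genericPoint T)) a : S) ∈ ({genericPoint S} : Set S) := hfib ▸ ha
    have hb' : ((g.fiberHomeo (genericPoint T)) b : S) ∈ ({genericPoint S} : Set S) := hfib ▸ hb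
    rw [Set.mem_singleton_iff] at ha' hb'
    rw [ha', hb']
  exact topologicalKrullDim_zero_of_discreteTopology _

variable [HasInjectiveResolutions S.Modules]

include hg in
/-- equal dimensions: the higher direct images vanish at the generic point -/
theorem lenE_Rpush_eq_zero (hdom : g (genericPoint S) = genericPoint T)
    (hdim : topologicalKrullDim T = topologicalKrullDim S) (F : S.Modules) [F.IsQuasicoherent]
    (i : ℕ) (hi : 0 < i) : lenE ((Coh.Rpush g i).obj F) (genericPoint T) = 0 := by
  haveI : IsProper g := Groth.Agent.Lib.R2H4LerayEuler.isProper_of_over k g hg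
  apply lenE_eq_zero
  haveI : Coh.IsQCoh F := ‹F.IsQuasicoherent›
  have h0 := Groth.Agent.Lib.R2H3.FibDimLimD.isZero_stalk_RpushAb g (genericPoint T) 0
    (by simpa using dim_fiber_generic k g hg hdom hdim) F i hi
  obtain ⟨e⟩ := Groth.Agent.Lib.Helper23.ModAbBridge.nonempty_toAb_Rpush_iso g F i
  have h1 : IsZero (TopCat.Presheaf.stalk (Coh.toAb ((Coh.Rpush g i).obj F)).obj
      (genericPoint T)) :=
    IsZero.of_iso h0 ((TopCat.Presheaf.stalkFunctor AddCommGrpCat.{u} (genericPoint T)).mapIso
      ((sheafToPresheaf _ _).mapIso e))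
  have h2 : Subsingleton (((Coh.Rpush g i).obj F).presheaf.stalk (genericPoint T)) :=
    (AddCommGrpCat.isZero_iff_subsingleton (G := TopCat.Presheaf.stalk
      (Coh.toAb ((Coh.Rpush g i).obj F)).obj (genericPoint T))).1 h1
  exact fun h => h h2

omit [IsProper (T ↘ Spec (CommRingCat.of k))] [T.Over (Spec (CommRingCat.of k))] in
/-- the structure sheaf has length one at the generic point -/
theorem lenE_structure : lenE (Coh.structureModule T) (genericPoint T) = 1 := by
  have h := Groth.Agent.Lib.R2H1.DegComponents.length_pushO_generic (𝟙 T)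
  have e : (Scheme.Modules.pushforward (𝟙 T)).obj (Coh.structureModule T) ≅
      Coh.structureModule T := (Scheme.Modules.pushforwardId T).app _
  rw [← lenE_congr e]
  exact h

include hg in
/-- equal dimensions: the length of `g_* O_S` at the generic point is the degree -/
theorem lenE_push_structure (hdom : g (genericPoint S) = genericPoint T)
    (hdim : topologicalKrullDim T = topologicalKrullDim S) :
    lenE ((Scheme.Modules.pushforward g).obj (Coh.structureModule S)) (genericPoint T) =
      ((g.residueDegree (genericPoint S) : ℕ) : ℕ∞) := by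
  haveI : IsProper g := Groth.Agent.Lib.R2H4LerayEuler.isProper_of_over k g hg
  haveI : IsNoetherian T := Groth.Agent.Lib.R2H1.CurveEuler.isNoetherian_of_proper k T
  have hY : IsField (S.presheaf.stalk (genericPoint S)) :=
    Groth.Agent.Lib.R2H1.DegPullback.isField_stalk_of_eq_genericPoint _ rfl
  have hX : IsField (T.presheaf.stalk (g (genericPoint S))) :=
    Groth.Agent.Lib.R2H1.DegPullback.isField_stalk_of_eq_genericPoint _ hdom
  have hfib := fiber_generic k g hg hdom hdim
  have h1 := Groth.Agent.Lib.R2H1.DegPullback.finrank_stalk_pushO g g.isClosedMap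
    (genericPoint S) hfib
  have h2 := Groth.Agent.Lib.R2H1.DegPullback.finrank_stalk_eq_residueDegree g
    (genericPoint S) hY hX
  have cP : Coh.IsCoh ((Scheme.Modules.pushforward g).obj (Coh.structureModule S)) :=
    Groth.Agent.Lib.R2H4GenFinPull.isCoh_push_of_proper g _
      (Groth.Agent.Lib.R2H1.GenusLe.isCoh_structureModule S)
  unfold lenE
  rw [← Groth.Agent.Lib.R2H1.DegComponents.length_stalk_congr _ _ _ hdom]
  haveI := Groth.Agent.Lib.R2H2.DevA.finite_stalk _ cP (g (genericPoint S))
  letI := hX.toField
  rw [Module.length_eq_finrank]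
  congr 1
  exact h1.trans h2

include hg in
/-- the alternating sum of the generic lengths of the higher direct images of `O_S` -/
theorem lam_sum (hdom : g (genericPoint S) = genericPoint T) (d : ℕ)
    (hd : topologicalKrullDim S = ((d : ℕ) : WithBot ℕ∞)) (N : ℕ) :
    ∑ i ∈ Finset.range (N + 1), (-1 : ℚ) ^ i *
      ((lam d ((Coh.Rpush g i).obj (Coh.structureModule S)) (genericPoint T)).toNat : ℚ) =
    (g.residueDegree (genericPoint S) : ℚ) *
      ((lam d (Coh.structureModule T) (genericPoint T)).toNat : ℚ) := by
  by_cases hdT : topologicalKrullDim (closure ({genericPoint T} : Set T)) = ((d : ℕ) : WithBot ℕ∞)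
  · have hdim : topologicalKrullDim T = topologicalKrullDim S := by
      rw [hd, ← hdT, (genericPoint_spec T).def]
      exact (IsHomeomorph.topologicalKrullDim_eq _ (Homeomorph.Set.univ T).isHomeomorph).symm
    have hlam : ∀ F : T.Modules, lam d F (genericPoint T) = lenE F (genericPoint T) := fun F => by
      unfold lam
      rw [if_pos hdT]
    simp only [hlam]
    rw [Finset.sum_range_succ', lenE_structure]
    have hz : ∀ i ∈ Finset.range N, (-1 : ℚ) ^ (i + 1) *
        ((lenE ((Coh.Rpush g (i + 1)).obj (Coh.structureModule S)) (genericPoint T)).toNat : ℚ)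
        = 0 := by
      intro i _
      haveI : (Coh.structureModule S).IsQuasicoherent :=
        (Groth.Agent.Lib.R2H1.GenusLe.isCoh_structureModule S).1
      rw [lenE_Rpush_eq_zero k g hg hdom hdim _ (i + 1) (Nat.succ_pos i)]
      simp
    rw [Finset.sum_eq_zero hz, zero_add, pow_zero, one_mul]
    have e0 : (Coh.Rpush g 0).obj (Coh.structureModule S) ≅
        (Scheme.Modules.pushforward g).obj (Coh.structureModule S) :=
      (Functor.rightDerivedZeroIsoSelf (Coh.push g)).app _
    rw [lenE_congr e0, lenE_push_structure k g hg hdom hdim]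
    simp
  · have hlam : ∀ F : T.Modules, lam d F (genericPoint T) = 0 := fun F => by
      unfold lam
      rw [if_neg hdT]
    simp only [hlam]
    simp

include hg in
/-- **the degree formula**: `χ(S, (g^*M)^n) - deg(g) · χ(T, M^n)` is a polynomial of degree `< dim S` -/
theorem degree_formula (hdom : g (genericPoint S) = genericPoint T) (d : ℕ)
    (hd : topologicalKrullDim S = ((d : ℕ) : WithBot ℕ∞)) (r : ℕ) (M : Fin r → T.Modules)
    (hM : ∀ i, PicF.IsInvertible (M i)) :
    IsPolyLT d (fun n => fE k S r (fun i => (Scheme.Modules.pullback g).obj (M i))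
        (Coh.structureModule S) n -
      (g.residueDegree (genericPoint S) : ℚ) * fE k T r M (Coh.structureModule T) n) := by
  haveI : IsProper g := Groth.Agent.Lib.R2H4LerayEuler.isProper_of_over k g hg
  haveI : IsNoetherian T := Groth.Agent.Lib.R2H1.CurveEuler.isNoetherian_of_proper k T
  have hdimT : topologicalKrullDim T ≤ ((d : ℕ) : WithBot ℕ∞) := by
    rw [← hd, dim_eq_trdegNat k (T := T), dim_eq_trdegNat k (T := S), ← hdom]
    exact_mod_cast trdegNat_le_of_hom k g hg (genericPoint S)
  obtain ⟨N, hN⟩ := Groth.Agent.Lib.R2H4RpushVan.exists_bound g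
  have cO := Groth.Agent.Lib.R2H1.GenusLe.isCoh_structureModule S
  have cOT := Groth.Agent.Lib.R2H1.GenusLe.isCoh_structureModule T
  have hP : ∀ i ∈ Finset.range (N + 1), IsPolyLT d (fun n => (-1 : ℚ) ^ i *
      (fE k T r M ((Coh.Rpush g i).obj (Coh.structureModule S)) n -
        ((lam d ((Coh.Rpush g i).obj (Coh.structureModule S)) (genericPoint T)).toNat : ℚ) *
          fE k T r M (ClSub.quotMod (zI (genericPoint T))) n)) := fun i _ =>
    IsPolyLT.const_mul _ (fE_generic k d r hdimT M hM _
      (Groth.Agent.Lib.R2H2.ProperCoh2.isCoh_Rpush g _ cO i))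
  have hQ := IsPolyLT.const_mul (g.residueDegree (genericPoint S) : ℚ)
    (fE_generic k d r hdimT M hM _ cOT)
  refine ((IsPolyLT.finset_sum _ _ hP).sub hQ).congr fun n => ?_
  rw [fE_leray k g hg N hN r M hM _ cO n]
  have hs := lam_sum k g hg hdom d hd N
  simp only [mul_sub, Finset.sum_sub_distrib]
  have h3 : ∑ i ∈ Finset.range (N + 1), (-1 : ℚ) ^ i *
      (((lam d ((Coh.Rpush g i).obj (Coh.structureModule S)) (genericPoint T)).toNat : ℚ) *
        fE k T r M (ClSub.quotMod (zI (genericPoint T))) n) =
      ((g.residueDegree (genericPoint S) : ℚ) *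
        ((lam d (Coh.structureModule T) (genericPoint T)).toNat : ℚ)) *
        fE k T r M (ClSub.quotMod (zI (genericPoint T))) n := by
    rw [← hs, Finset.sum_mul]
    refine Finset.sum_congr rfl fun i _ => ?_
    ring
  rw [h3]
  ring

end Fibre

end Groth.Agent.Lib.R2H4DegFormula
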