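import Mathlib
import Groth.Prelude.Def_Smoothing
import Groth.Agent.Lib.R2H4SingStd

/-!
# Strictly standard ⇒ smooth localization with stably free differentials (helper4, round 2)

* `nonempty_equiv_of_leftInverse`, `nonempty_equiv_of_minors`: abstract splitting of a right exact
  sequence `M' → M → M'' → 0` with `M` free of rank `n`, `M'` spanned by `c` elements whose coordinate
  matrix has `c × c` minors generating the unit ideal: `M'' × B^c ≃ B^n`.
* `cotangent_smul_mk_eq_sum`: bookkeeping in `I/I²`.
* `main`: for `a` strictly standard in `A` over `R`, `A_a` is smooth over `R` and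
  `Ω[A_a/R] × A_a^c ≃ A_a^n`.
-/

set_option autoImplicit false
set_option linter.style.haveILetI false
universe u

namespace Groth.Agent.Lib.R2H4.StablyFree

section Abstract


open Matrix

variable {B : Type*} [CommRing B] {M' M M'' : Type*} [AddCommGroup M'] [AddCommGroup M]
  [AddCommGroup M''] [Module B M'] [Module B M] [Module B M'']

/-- Abstract splitting: if `M' → M → M'' → 0` is exact and `B^c → M'` is onto with the composite
`B^c → M' → M` having a left inverse, then `M'' × B^c ≃ M`. -/
theorem nonempty_equiv_of_leftInverse {c : ℕ} (f : M' →ₗ[B] M) (g : M →ₗ[B] M'')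
    (hfg : Function.Exact f g) (hg : Function.Surjective g)
    (u : (Fin c → B) →ₗ[B] M') (hu : Function.Surjective u)
    (L : M →ₗ[B] (Fin c → B)) (hL : ∀ v, L (f (u v)) = v) :
    Nonempty ((M'' × (Fin c → B)) ≃ₗ[B] M) := by
  let Φ : M →ₗ[B] (M'' × (Fin c → B)) := g.prod L
  have hgf : ∀ y, g (f y) = 0 := fun y => (hfg (f y)).mpr ⟨y, rfl⟩
  have hinj : Function.Injective Φ := by
    rw [injective_iff_map_eq_zero]
    intro x hx
    have h1 : g x = 0 := congrArg Prod.fst hx
    have h2 : L x = 0 := congrArg Prod.snd hx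
    obtain ⟨y, rfl⟩ := (hfg x).mp h1
    obtain ⟨z, rfl⟩ := hu y
    rw [hL] at h2
    rw [h2, map_zero, map_zero]
  have hsurj : Function.Surjective Φ := by
    rintro ⟨w, z⟩
    obtain ⟨x₀, rfl⟩ := hg w
    refine ⟨x₀ - f (u (L x₀)) + f (u z), ?_⟩
    refine Prod.ext ?_ ?_
    · simp [Φ, hgf]
    · simp [Φ, hL]
  exact ⟨(LinearEquiv.ofBijective Φ ⟨hinj, hsurj⟩).symm⟩

/-- Matrix form: `M` free with basis `b`, `M'` spanned by `c` elements whose images have coordinate
matrix `Jm`, and the `c × c` minors of `Jm` generate the unit ideal (with explicit coefficients). -/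
theorem nonempty_equiv_of_minors {n c : ℕ} (f : M' →ₗ[B] M) (g : M →ₗ[B] M'')
    (hfg : Function.Exact f g) (hg : Function.Surjective g)
    (m' : Fin c → M') (hm' : Submodule.span B (Set.range m') = ⊤)
    (b : Module.Basis (Fin n) B M) (Jm : Matrix (Fin c) (Fin n) B)
    (hJ : ∀ j i, b.repr (f (m' j)) i = Jm j i)
    (β : (Fin c → Fin n) → B) (hβ : ∑ cols, β cols * (Jm.submatrix id cols).det = 1) :
    Nonempty ((M'' × (Fin c → B)) ≃ₗ[B] (Fin n → B)) := by
  classical
  let u : (Fin c → B) →ₗ[B] M' := Fintype.linearCombination B m'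
  have hu : Function.Surjective u := by
    rw [← LinearMap.range_eq_top, Fintype.range_linearCombination, hm']
  let Lc : (Fin c → Fin n) → ((Fin n → B) →ₗ[B] (Fin c → B)) := fun cols =>
    (Matrix.toLin' (adjugate ((Jm.submatrix id cols)ᵀ))) ∘ₗ (LinearMap.funLeft B B cols)
  let L₀ : (Fin n → B) →ₗ[B] (Fin c → B) := ∑ cols, β cols • Lc cols
  let L : M →ₗ[B] (Fin c → B) := L₀ ∘ₗ b.equivFun.toLinearMap
  have hcoord : ∀ v : Fin c → B, b.equivFun (f (u v)) = Jmᵀ *ᵥ v := by
    intro v
    funext i
    simp only [u, Fintype.linearCombination_apply, map_sum, map_smul, Module.Basis.equivFun_apply,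
      Finset.sum_apply, Pi.smul_apply, hJ, smul_eq_mul,
      Matrix.mulVec, dotProduct, Matrix.transpose_apply]
    exact Finset.sum_congr rfl fun j _ => mul_comm _ _
  have hLc : ∀ cols (v : Fin c → B), Lc cols (Jmᵀ *ᵥ v) = (Jm.submatrix id cols).det • v := by
    intro cols v
    have h1 : LinearMap.funLeft B B cols (Jmᵀ *ᵥ v) = (Jm.submatrix id cols)ᵀ *ᵥ v := by
      funext k
      simp [LinearMap.funLeft_apply, Matrix.mulVec, dotProduct]
    simp only [Lc, LinearMap.comp_apply, h1, Matrix.toLin'_apply, Matrix.mulVec_mulVec,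
      Matrix.adjugate_mul, Matrix.det_transpose, Matrix.smul_mulVec, Matrix.one_mulVec]
  have hL : ∀ v, L (f (u v)) = v := by
    intro v
    change L₀ (b.equivFun (f (u v))) = v
    rw [hcoord]
    simp only [L₀, LinearMap.sum_apply, LinearMap.smul_apply, hLc, smul_smul]
    rw [← Finset.sum_smul, hβ, one_smul]
  obtain ⟨e⟩ := nonempty_equiv_of_leftInverse f g hfg hg u hu L hL
  exact ⟨e.trans b.equivFun⟩

theorem cotangent_smul_mk_eq_sum {R A : Type u} [CommRing R] [CommRing A] [Algebra R A]
    (Q : Algebra.Extension.{u} R A) {c : ℕ} (r x : Q.Ring) (hx : x ∈ Q.ker)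
    (cf z : Fin c → Q.Ring) (hz : ∀ j, z j ∈ Q.ker) (t : Q.Ring) (ht : t ∈ Q.ker ^ 2)
    (h : r * x = ∑ j, cf j * z j + t) :
    algebraMap Q.Ring A r • Algebra.Extension.Cotangent.mk (⟨x, hx⟩ : Q.ker) =
      ∑ j, algebraMap Q.Ring A (cf j) • Algebra.Extension.Cotangent.mk (⟨z j, hz j⟩ : Q.ker) := by
  have hsmul : ∀ (r : Q.Ring) (x : Q.ker), Algebra.Extension.Cotangent.mk (r • x) =
      (algebraMap Q.Ring A r) • Algebra.Extension.Cotangent.mk x := by
    intro r x
    rw [map_smul, ← algebraMap_smul A r (Algebra.Extension.Cotangent.mk x)]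
  have e2 : (r • (⟨x, hx⟩ : Q.ker)) =
      (∑ j, cf j • (⟨z j, hz j⟩ : Q.ker)) + ⟨t, Ideal.pow_le_self two_ne_zero ht⟩ := by
    apply Subtype.ext
    simp only [Submodule.coe_add, Submodule.coe_sum, Submodule.coe_smul, smul_eq_mul]
    exact h
  rw [← hsmul, e2, map_add, map_sum]
  have e3 : Algebra.Extension.Cotangent.mk
      (⟨t, Ideal.pow_le_self two_ne_zero ht⟩ : Q.ker) = 0 :=
    (Algebra.Extension.Cotangent.mk_eq_zero_iff _).mpr ht
  rw [e3, add_zero]
  exact Finset.sum_congr rfl fun j _ => hsmul _ _


end Abstract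

section Main


open TensorProduct KaehlerDifferential MvPolynomial

theorem main {R A : Type u} [CommRing R] [CommRing A] [Algebra R A] (a : A)
    (ha : Smoothing.IsStrictlyStandard R A a) :
    Algebra.Smooth R (Localization.Away a) ∧
      ∃ p q : ℕ, Nonempty ((Ω[Localization.Away a⁄R] × (Fin p → Localization.Away a))
        ≃ₗ[Localization.Away a] (Fin q → Localization.Away a)) := by
  classical
  have ha' := ha
  obtain ⟨P, hspan, hk⟩ := ha
  haveI : Algebra.FinitePresentation R A :=
    Algebra.FinitePresentation.of_surjective P.surj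
      (by rw [P.ker_eq]; exact Submodule.fg_span (Set.finite_range _))
  refine ⟨?_, P.c, P.n, ?_⟩
  · rw [← Algebra.basicOpen_subset_smoothLocus_iff_smooth]
    intro q hq
    exact SingStd.isSmoothAt_of_isStrictlyStandard a ha' q.asIdeal hq
  · let B := Localization.Away a
    let G : Algebra.Generators R A (Fin P.n) := Algebra.Generators.ofAlgHom P.hom P.surj
    have hGker : G.ker = Ideal.span (Set.range P.rel) := by
      rw [Algebra.Generators.ker_ofAlgHom, P.ker_eq]
    have haeval : ∀ x : MvPolynomial (Fin P.n) R, aeval G.val x = P.hom x := by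
      intro x
      have : (aeval G.val : MvPolynomial (Fin P.n) R →ₐ[R] A) = P.hom := by
        ext i
        simp [G, Algebra.Generators.ofAlgHom]
      rw [this]
    have hrelmem : ∀ ℓ : Fin P.m, P.rel ℓ ∈ G.toExtension.ker := by
      intro ℓ
      change P.rel ℓ ∈ G.ker
      rw [hGker]
      exact Ideal.subset_span ⟨ℓ, rfl⟩
    let Q := G.toExtension
    -- the spanning family
    let y : Fin P.m → Q.Cotangent := fun ℓ => Algebra.Extension.Cotangent.mk ⟨P.rel ℓ, hrelmem ℓ⟩
    have hyspan : Submodule.span A (Set.range y) = ⊤ :=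
      Algebra.Extension.Cotangent.span_eq_top_of_span_eq_ker (P := Q) P.rel hGker.symm
    let m' : Fin P.c → B ⊗[A] Q.Cotangent := fun j => (1 : B) ⊗ₜ[A] y (Fin.castLE P.hcm j)
    let f : B ⊗[A] Q.Cotangent →ₗ[B] B ⊗[A] Q.CotangentSpace :=
      LinearMap.baseChange B Q.cotangentComplex
    let g : B ⊗[A] Q.CotangentSpace →ₗ[B] B ⊗[A] Ω[A⁄R] :=
      LinearMap.baseChange B Q.toKaehler
    have hfg : Function.Exact f g := by
      change Function.Exact (LinearMap.baseChange B Q.cotangentComplex : _ → _)
        (LinearMap.baseChange B Q.toKaehler : _ → _)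
      rw [LinearMap.baseChange_eq_ltensor, LinearMap.baseChange_eq_ltensor]
      exact lTensor_exact B Q.exact_cotangentComplex_toKaehler Q.toKaehler_surjective
    have hg : Function.Surjective g := by
      change Function.Surjective (LinearMap.baseChange B Q.toKaehler : _ → _)
      rw [LinearMap.baseChange_eq_ltensor]
      exact LinearMap.lTensor_surjective B Q.toKaehler_surjective
    let inv : B := IsLocalization.Away.invSelf a
    have hinv : algebraMap A B a * inv = 1 := IsLocalization.Away.mul_invSelf a
    have hm' : Submodule.span B (Set.range m') = ⊤ := by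
      set N := Submodule.span B (Set.range m') with hN
      have h1 : ∀ ℓ : Fin P.m, (1 : B) ⊗ₜ[A] y ℓ ∈ N := by
        intro ℓ
        by_cases hℓ : (ℓ : ℕ) < P.c
        · have : ℓ = Fin.castLE P.hcm ⟨ℓ, hℓ⟩ := by ext; simp
          rw [this]
          exact Submodule.subset_span ⟨⟨ℓ, hℓ⟩, rfl⟩
        · push Not at hℓ
          obtain ⟨a₁, ha₁⟩ := P.surj a
          have h2 := hk a₁ ha₁ ℓ hℓ
          obtain ⟨s, hs, t, ht, hst⟩ := Submodule.mem_sup.mp h2
          have himg : P.rel '' {j' : Fin P.m | (j' : ℕ) < P.c} =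
              Set.range (fun j : Fin P.c => P.rel (Fin.castLE P.hcm j)) := by
            ext x
            constructor
            · rintro ⟨j', hj', rfl⟩
              exact ⟨⟨j', hj'⟩, by congr 1⟩
            · rintro ⟨j, rfl⟩
              exact ⟨Fin.castLE P.hcm j, by simp, rfl⟩
          rw [himg] at hs
          obtain ⟨cf, hcf⟩ := Ideal.mem_span_range_iff_exists_fun.mp hs
          have ht' : t ∈ Q.ker ^ 2 := by
            change t ∈ G.ker ^ 2
            rw [hGker]
            exact ht
          have hs' : s ∈ Q.ker := by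
            have : s ∈ Ideal.span (Set.range P.rel) := by
              rw [← hcf]
              refine Ideal.sum_mem _ fun j _ => Ideal.mul_mem_left _ _ (Ideal.subset_span ⟨_, rfl⟩)
            change s ∈ G.ker
            rwa [hGker]
          have hal : ∀ r : MvPolynomial (Fin P.n) R, algebraMap Q.Ring A r = P.hom r := by
            intro r
            change algebraMap G.Ring A r = _
            rw [Algebra.Generators.algebraMap_apply, haeval]
          have h3 : a • y ℓ = ∑ j, P.hom (cf j) • y (Fin.castLE P.hcm j) := by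
            have hEq : a₁ * P.rel ℓ = ∑ j, cf j * P.rel (Fin.castLE P.hcm j) + t := by
              rw [hcf]
              exact hst.symm
            have h5 := cotangent_smul_mk_eq_sum Q a₁ (P.rel ℓ) (hrelmem ℓ) cf
              (fun j => P.rel (Fin.castLE P.hcm j)) (fun j => hrelmem _) t ht' hEq
            simp only [hal, ha₁] at h5
            exact h5
          have h4 : algebraMap A B a • ((1 : B) ⊗ₜ[A] y ℓ) ∈ N := by
            have e4 : algebraMap A B a • ((1 : B) ⊗ₜ[A] y ℓ) = (1 : B) ⊗ₜ[A] (a • y ℓ) := by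
              rw [TensorProduct.tmul_smul, algebraMap_smul]
            rw [e4, h3, TensorProduct.tmul_sum]
            refine Submodule.sum_mem _ fun j _ => ?_
            rw [TensorProduct.tmul_smul, ← algebraMap_smul B (P.hom (cf j))]
            exact N.smul_mem _ (Submodule.subset_span ⟨j, rfl⟩)
          have e5 : (1 : B) ⊗ₜ[A] y ℓ = inv • (algebraMap A B a • ((1 : B) ⊗ₜ[A] y ℓ)) := by
            rw [smul_smul, mul_comm, hinv, one_smul]
          rw [e5]
          exact N.smul_mem _ h4
      rw [eq_top_iff]
      rintro z -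
      induction z using TensorProduct.induction_on with
      | zero => exact N.zero_mem
      | add z w hz hw => exact N.add_mem hz hw
      | tmul b' x =>
        have hx : x ∈ Submodule.span A (Set.range y) := hyspan ▸ Submodule.mem_top
        have e6 : b' ⊗ₜ[A] x = b' • ((1 : B) ⊗ₜ[A] x) := by
          rw [TensorProduct.smul_tmul', smul_eq_mul, mul_one]
        rw [e6]
        refine N.smul_mem _ ?_
        refine Submodule.span_induction (p := fun x _ => (1 : B) ⊗ₜ[A] x ∈ N) ?_ ?_ ?_ ?_ hx
        · rintro _ ⟨ℓ, rfl⟩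
          exact h1 ℓ
        · rw [TensorProduct.tmul_zero]
          exact N.zero_mem
        · intro x1 x2 _ _ h1' h2'
          rw [TensorProduct.tmul_add]
          exact N.add_mem h1' h2'
        · intro r x1 _ h1'
          rw [TensorProduct.tmul_smul, ← algebraMap_smul B r]
          exact N.smul_mem _ h1'
    let b : Module.Basis (Fin P.n) B (B ⊗[A] Q.CotangentSpace) :=
      G.cotangentSpaceBasis.baseChange B
    let Jm : Matrix (Fin P.c) (Fin P.n) B := fun j i =>
      algebraMap A B (P.hom (pderiv i (P.rel (Fin.castLE P.hcm j))))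
    have hJ : ∀ j i, b.repr (f (m' j)) i = Jm j i := by
      intro j i
      change (G.cotangentSpaceBasis.baseChange B).repr
        (LinearMap.baseChange B Q.cotangentComplex ((1 : B) ⊗ₜ[A] y _)) i = _
      rw [LinearMap.baseChange_tmul, Algebra.Extension.cotangentComplex_mk,
        Module.Basis.baseChange_repr_tmul, Algebra.Generators.cotangentSpaceBasis_repr_one_tmul,
        haeval, Algebra.smul_def, mul_one]
    obtain ⟨α, hα⟩ := Ideal.mem_span_range_iff_exists_fun.mp hspan
    let β : (Fin P.c → Fin P.n) → B := fun cols => inv * algebraMap A B (α cols)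
    have hdet : ∀ cols, (Jm.submatrix id cols).det =
        algebraMap A B (P.hom (Smoothing.jacobianMinor P.rel (Fin.castLE P.hcm) cols)) := by
      intro cols
      unfold Smoothing.jacobianMinor
      rw [AlgHom.map_det, RingHom.map_det]
      rfl
    have hβ : ∑ cols, β cols * (Jm.submatrix id cols).det = 1 := by
      simp only [β, hdet, mul_assoc, ← map_mul]
      rw [← Finset.mul_sum, ← map_sum, hα, mul_comm, hinv]
    obtain ⟨E⟩ := nonempty_equiv_of_minors f g hfg hg m' hm' b Jm hJ β hβ
    haveI : Algebra.FormallyEtale A B :=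
      Algebra.FormallyEtale.of_isLocalization (Submonoid.powers a)
    exact ⟨(LinearEquiv.prodCongr (tensorKaehlerEquivOfFormallyEtale R A B).symm
      (LinearEquiv.refl B _)).trans E⟩


end Main

end Groth.Agent.Lib.R2H4.StablyFree
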