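import Mathlib
import Groth.Agent.Lib.R2H4DelocWeak
import Groth.Agent.Lib.R2H4LiftOnce
import Groth.Agent.Lib.R2H4StablyFree

/-!
# The desingularization lemma with a section modulo `π⁴` (S2027)

`R → A → Λ`, `π` strictly standard in `A`, `Ann_Λ(π) = Ann_Λ(π²)`, and a section `ρ : A → R/π⁴` compatible
with `A → Λ/π⁴Λ`.  Write `A = R[x]/(f_1..f_m)`, `ρ(x_i) = r_i`, `φ(x_i) = r_i + π⁴ λ_i`.  With `S` an `n × c`
matrix such that `(∂f_j/∂x_i (r)) S = uπ`, `u ≡ 1 (π)`, substitute `x_i = r_i + π²(∑ s_{ik} v_k + π w_i)` in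
`R[v,w]`; then `f_j = π³ g_j` (`j < c`) with `g_j ≡ v_j + ∑ ∂_i f_j(r) w_i (mod π)`.  Put `B' = R[v,w]/(g)`
(smooth over `R` on `D(Δ) ⊇ V(π)`), `B = B'/(f_{c+1},…,f_m)`.  Then `B_π` is smooth (explicit lifting), and for
`r ∈ Ann(Ann π²/Ann π)` a Cayley–Hamilton/Nakayama argument, using flatness of `B'_Δ`, produces `E ∈ B'`
killing the ideal `J = (f_j) B'` and invertible at every prime containing `π` but not `r`.
-/

set_option autoImplicit false
set_option linter.style.haveILetI false
set_option linter.unusedSimpArgs false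
universe u
open MvPolynomial

namespace Groth.Agent.Lib.R2H4.Desing

open Groth.Agent.Lib.R2H4

/-- second order Taylor expansion of a multivariate polynomial -/
theorem taylor2 {R S σ : Type*} [CommRing R] [CommRing S] [Algebra R S] [Fintype σ]
    (K : Ideal S) (a b : σ → S) (hb : ∀ i, b i ∈ K) (p : MvPolynomial σ R) :
    aeval (a + b) p - aeval a p - ∑ i, aeval a (pderiv i p) * b i ∈ K ^ 2 := by
  classical
  induction p using MvPolynomial.induction_on with
  | C r => simp
  | add p q hp hq =>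
    have : aeval (a + b) (p + q) - aeval a (p + q) - ∑ i, aeval a (pderiv i (p + q)) * b i =
        (aeval (a + b) p - aeval a p - ∑ i, aeval a (pderiv i p) * b i) +
        (aeval (a + b) q - aeval a q - ∑ i, aeval a (pderiv i q) * b i) := by
      simp only [map_add, add_mul, Finset.sum_add_distrib]
      ring
    rw [this]
    exact add_mem hp hq
  | mul_X p k hp =>
    have key : aeval (a + b) (p * X k) - aeval a (p * X k) -
        ∑ i, aeval a (pderiv i (p * X k)) * b i =
        (∑ i, aeval a (pderiv i p) * b i) * b k +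
        (aeval (a + b) p - aeval a p - ∑ i, aeval a (pderiv i p) * b i) * (a k + b k) := by
      have h1 : ∑ i, aeval a (pderiv i (p * X k)) * b i =
          (∑ i, aeval a (pderiv i p) * b i) * a k + aeval a p * b k := by
        have : ∀ i, aeval a (pderiv i (p * X k)) * b i =
            aeval a (pderiv i p) * b i * a k + (if i = k then aeval a p * b k else 0) := by
          intro i
          rw [pderiv_mul, map_add, map_mul, map_mul, aeval_X, pderiv_X]
          by_cases hik : i = k
          · subst hik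
            simp only [Pi.single_eq_same, map_one, mul_one, if_true]
            ring
          · rw [if_neg hik, Pi.single_eq_of_ne (Ne.symm hik)]
            simp only [map_zero, mul_zero, add_zero]
            ring
        simp_rw [this]
        rw [Finset.sum_add_distrib, Finset.sum_ite_eq' Finset.univ k, if_pos (Finset.mem_univ k),
          Finset.sum_mul]
      rw [h1]
      simp only [map_mul, aeval_X, Pi.add_apply]
      ring
    rw [key]
    refine add_mem ?_ (Ideal.mul_mem_right _ _ hp)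
    rw [Finset.sum_mul]
    refine Ideal.sum_mem _ fun i _ => ?_
    rw [pow_two, mul_assoc]
    exact Ideal.mul_mem_left _ _ (Ideal.mul_mem_mul (hb i) (hb k))

/-- first order version -/
theorem taylor1 {R S σ : Type*} [CommRing R] [CommRing S] [Algebra R S] [Fintype σ]
    (K : Ideal S) (a b : σ → S) (hb : ∀ i, b i ∈ K) (p : MvPolynomial σ R) :
    aeval (a + b) p - aeval a p ∈ K := by
  have h := taylor2 K a b hb p
  have h2 : ∑ i, aeval a (pderiv i p) * b i ∈ K :=
    Ideal.sum_mem _ fun i _ => Ideal.mul_mem_left _ _ (hb i)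
  have h3 : aeval (a + b) p - aeval a p =
      (aeval (a + b) p - aeval a p - ∑ i, aeval a (pderiv i p) * b i) +
        ∑ i, aeval a (pderiv i p) * b i := by ring
  rw [h3]
  exact add_mem (Ideal.pow_le_self two_ne_zero h) h2

/-- a matrix whose maximal minors generate `δ` has a right inverse up to `δ` -/
theorem exists_mul_eq_smul_one {R : Type*} [CommRing R] {c n : ℕ} (M : Matrix (Fin c) (Fin n) R)
    (w : (Fin c → Fin n) → R) :
    ∃ S : Matrix (Fin n) (Fin c) R,
      M * S = (∑ cols, w cols * (M.submatrix id cols).det) • (1 : Matrix (Fin c) (Fin c) R) := by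
  classical
  let P : (Fin c → Fin n) → Matrix (Fin n) (Fin c) R := fun cols =>
    Matrix.of fun i k => if cols k = i then 1 else 0
  have hP : ∀ cols, M * P cols = M.submatrix id cols := by
    intro cols
    ext j k
    simp [Matrix.mul_apply, P]
  refine ⟨∑ cols, w cols • (P cols * (M.submatrix id cols).adjugate), ?_⟩
  rw [Matrix.mul_sum, Finset.sum_smul]
  apply Finset.sum_congr rfl
  intro cols _
  rw [Matrix.mul_smul, ← Matrix.mul_assoc, hP, Matrix.mul_adjugate, smul_smul]

/-- lifting through a principal localization, given a lift on the ring itself -/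
theorem exists_lift_of_algHom {R B T : Type u} [CommRing R] [CommRing B] [Algebra R B] (b : B)
    [CommRing T] [Algebra R T] (N : Ideal T) (hN : N ^ 2 = ⊥)
    (ubar : Localization.Away b →ₐ[R] T ⧸ N) (u₁ : B →ₐ[R] T)
    (h : ∀ x, Ideal.Quotient.mk N (u₁ x) = ubar (algebraMap B (Localization.Away b) x)) :
    ∃ u : Localization.Away b →ₐ[R] T, (Ideal.Quotient.mkₐ R N).comp u = ubar := by
  have hunit : IsUnit ((u₁ : B →+* T) b) := by
    apply (IsNilpotent.isUnit_quotient_mk_iff (I := N) ⟨2, hN⟩).mp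
    change IsUnit (Ideal.Quotient.mk N (u₁ b))
    rw [h]
    exact (IsLocalization.Away.algebraMap_isUnit b).map ubar
  let u₂ : Localization.Away b →+* T := IsLocalization.Away.lift b (g := (u₁ : B →+* T)) hunit
  have hu₂ : ∀ x, u₂ (algebraMap _ (Localization.Away b) x) = u₁ x := fun x =>
    IsLocalization.Away.lift_eq b hunit x
  let u : Localization.Away b →ₐ[R] T :=
    { toRingHom := u₂
      commutes' := fun r => by
        change u₂ (algebraMap R (Localization.Away b) r) = _
        rw [IsScalarTower.algebraMap_apply R B (Localization.Away b), hu₂, u₁.commutes] }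
  refine ⟨u, ?_⟩
  apply AlgHom.coe_ringHom_injective
  apply IsLocalization.ringHom_ext (Submonoid.powers b)
  refine RingHom.ext fun x => ?_
  change Ideal.Quotient.mk N (u₂ (algebraMap _ (Localization.Away b) x)) =
    ubar (algebraMap _ (Localization.Away b) x)
  rw [hu₂, h]

/-- annihilators in a flat module -/
theorem smul_eq_zero_of_flat {R M : Type*} [CommRing R] [AddCommGroup M] [Module R M]
    [Module.Flat R M] (π r : R) (hr : ∀ x : R, π ^ 2 * x = 0 → π * (r * x) = 0) (z : M)
    (hz : π ^ 3 • z = 0) : (π * r ^ 2) • z = 0 := by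
  have h := Module.Flat.isTrivialRelation_of_sum_smul_eq_zero (ι := Unit) (f := fun _ => π ^ 3)
    (x := fun _ => z) (by simpa using hz)
  obtain ⟨k, a, y, hx, ha⟩ := h
  have hz' : z = ∑ j, a () j • y j := hx ()
  rw [hz', Finset.smul_sum]
  apply Finset.sum_eq_zero
  intro j _
  rw [smul_smul]
  have h0 : π ^ 3 * a () j = 0 := by simpa using ha j
  have h1 : π * (r * (π * a () j)) = 0 := hr _ (by rw [← h0]; ring)
  have h2 : π * (r * (r * a () j)) = 0 := hr _ (by rw [← h1]; ring)
  have h3 : π * r ^ 2 * a () j = 0 := by rw [← h2]; ring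
  rw [h3, zero_smul]

/-- Nakayama via Cayley–Hamilton: an element killing a finitely generated ideal. -/
theorem exists_kill {B : Type*} [CommRing B] (J : Ideal B) (hJ : J.FG) (d p : B)
    (h : ∀ x ∈ J, d * x ∈ Ideal.span {p} * J) :
    ∃ (E : B) (k : ℕ), (∀ x ∈ J, E * x = 0) ∧ E - d ^ k ∈ Ideal.span {p} := by
  haveI : Module.Finite B J := Module.Finite.iff_fg.mpr hJ
  let f : Module.End B J := algebraMap B (Module.End B J) d
  have hf : LinearMap.range f ≤ (Ideal.span {p}) • (⊤ : Submodule B J) := by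
    rintro _ ⟨x, rfl⟩
    obtain ⟨z, hz, hpz⟩ := Ideal.mem_span_singleton_mul.mp (h x.1 x.2)
    have : f x = p • (⟨z, hz⟩ : J) := by
      apply Subtype.ext
      change d * x.1 = p * z
      exact hpz.symm
    rw [this]
    exact Submodule.smul_mem_smul (Ideal.mem_span_singleton_self p) Submodule.mem_top
  obtain ⟨q, hq, -, hqc, hq0⟩ :=
    LinearMap.exists_monic_and_natDegree_eq_and_coeff_mem_pow_and_aeval_eq_zero B f _ hf
  refine ⟨Polynomial.eval d q, q.natDegree, ?_, ?_⟩
  · intro x hx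
    have h1 : Polynomial.aeval f q = algebraMap B (Module.End B J) (Polynomial.aeval d q) :=
      Polynomial.aeval_algebraMap_apply (Module.End B J) d q
    have h2 : (Polynomial.aeval f q) ⟨x, hx⟩ = 0 := by rw [hq0]; rfl
    rw [h1] at h2
    have h3 := congrArg Subtype.val h2
    simpa [Polynomial.coe_aeval_eq_eval] using h3
  · rw [Polynomial.eval_eq_sum_range, Finset.sum_range_succ, hq.coeff_natDegree, one_mul,
      add_sub_cancel_right]
    refine Ideal.sum_mem _ fun k hk => ?_
    have hk' : k < q.natDegree := Finset.mem_range.mp hk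
    exact Ideal.mul_mem_right _ _ (Ideal.pow_le_self (by omega) (hqc k))

/-- the data of the construction -/
structure Data (R : Type u) [CommRing R] where
  /-- the element -/
  p : R
  /-- number of variables -/
  n : ℕ
  /-- number of relations -/
  m : ℕ
  /-- number of leading relations -/
  c : ℕ
  hcm : c ≤ m
  /-- relations -/
  f : Fin m → MvPolynomial (Fin n) R
  /-- the point -/
  rr : Fin n → R
  /-- values of the relations at the point, divided by `p^4` -/
  e : Fin m → R
  he : ∀ j, eval rr (f j) = p ^ 4 * e j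
  /-- right inverse of the Jacobian up to `u p` -/
  S : Matrix (Fin n) (Fin c) R
  /-- a unit mod `p` -/
  u : R
  /-- witness -/
  t : R
  hu : u = 1 + p * t
  hMS : (Matrix.of fun (j : Fin c) (i : Fin n) => eval rr (pderiv i (f (Fin.castLE hcm j)))) * S =
    (u * p) • (1 : Matrix (Fin c) (Fin c) R)
  kills : ∀ j : Fin m, c ≤ (j : ℕ) →
    C p * f j ∈ Ideal.span (f '' {j' : Fin m | (j' : ℕ) < c}) ⊔ Ideal.span (Set.range f) ^ 2

namespace Data

variable {R : Type u} [CommRing R] (D : Data R)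

/-- the polynomial ring in `v, w` -/
abbrev S₀ : Type u := MvPolynomial (Fin (D.c + D.n)) R

/-- the variables `v` -/
noncomputable def vv (k : Fin D.c) : D.S₀ := X (Fin.castAdd D.n k)
/-- the variables `w` -/
noncomputable def ww (i : Fin D.n) : D.S₀ := X (Fin.natAdd D.c i)
/-- `y_i = ∑ s_{ik} v_k + p w_i` -/
noncomputable def yy (i : Fin D.n) : D.S₀ := ∑ k, C (D.S i k) * D.vv k + C D.p * D.ww i
/-- the substitution `x_i = r_i + p^2 y_i` -/
noncomputable def Xsub (i : Fin D.n) : D.S₀ := C (D.rr i) + C D.p ^ 2 * D.yy i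
/-- the substituted relations -/
noncomputable def F (j : Fin D.m) : D.S₀ := aeval D.Xsub (D.f j)
/-- the Jacobian matrix at the point -/
noncomputable def Mx (j : Fin D.m) (i : Fin D.n) : R := eval D.rr (pderiv i (D.f j))

theorem aeval_C_rr (q : MvPolynomial (Fin D.n) R) :
    aeval (fun i => (C (D.rr i) : D.S₀)) q = C (eval D.rr q) := by
  have : (aeval (fun i => (C (D.rr i) : D.S₀)) : MvPolynomial (Fin D.n) R →ₐ[R] D.S₀) =
      (Algebra.ofId R D.S₀).comp (aeval D.rr) := by
    apply MvPolynomial.algHom_ext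
    intro i
    simp [Algebra.ofId_apply, MvPolynomial.algebraMap_eq]
  rw [this, AlgHom.comp_apply, Algebra.ofId_apply, MvPolynomial.algebraMap_eq]
  rfl

theorem exists_Q (j : Fin D.m) : ∃ Q : D.S₀, D.F j = C (D.p ^ 4 * D.e j) +
    ∑ i, C (D.Mx j i) * (C D.p ^ 2 * D.yy i) + C D.p ^ 4 * Q := by
  have h := taylor2 (Ideal.span {(C D.p ^ 2 : D.S₀)}) (fun i => (C (D.rr i) : D.S₀))
    (fun i => C D.p ^ 2 * D.yy i)
    (fun i => Ideal.mul_mem_right _ _ (Ideal.mem_span_singleton_self _)) (D.f j)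
  rw [Ideal.span_singleton_pow, Ideal.mem_span_singleton'] at h
  obtain ⟨Q, hQ⟩ := h
  refine ⟨Q, ?_⟩
  have h1 : D.F j = aeval ((fun i => (C (D.rr i) : D.S₀)) + fun i => C D.p ^ 2 * D.yy i) (D.f j) := rfl
  rw [h1]
  simp only [aeval_C_rr, D.he] at hQ
  have h2 : ∀ i, (C (eval D.rr (pderiv i (D.f j))) : D.S₀) = C (D.Mx j i) := fun i => rfl
  simp only [h2] at hQ
  simp only [map_mul, map_pow] at hQ ⊢
  linear_combination (-1 : D.S₀) * hQ

/-- the remainder -/
noncomputable def Q (j : Fin D.m) : D.S₀ := (D.exists_Q j).choose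

theorem F_eq (j : Fin D.m) : D.F j = C (D.p ^ 4 * D.e j) +
    ∑ i, C (D.Mx j i) * (C D.p ^ 2 * D.yy i) + C D.p ^ 4 * D.Q j :=
  (D.exists_Q j).choose_spec

/-- the relations `g_j` -/
noncomputable def g (j : Fin D.c) : D.S₀ :=
  C D.u * D.vv j + ∑ i, C (D.Mx (Fin.castLE D.hcm j) i) * D.ww i +
    C D.p * (C (D.e (Fin.castLE D.hcm j)) + D.Q (Fin.castLE D.hcm j))

theorem MS_apply (j k : Fin D.c) :
    ∑ i, D.Mx (Fin.castLE D.hcm j) i * D.S i k = if j = k then D.u * D.p else 0 := by
  have h := congrFun (congrFun D.hMS j) k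
  rw [Matrix.mul_apply, Matrix.smul_apply, Matrix.one_apply] at h
  simp only [Matrix.of_apply, smul_eq_mul, mul_ite, mul_one, mul_zero] at h
  exact h

theorem F_eq_g (j : Fin D.c) : D.F (Fin.castLE D.hcm j) = C D.p ^ 3 * D.g j := by
  classical
  rw [D.F_eq, g]
  have h1 : ∑ i, C (D.Mx (Fin.castLE D.hcm j) i) * (C D.p ^ 2 * D.yy i) =
      C D.p ^ 2 * (C (D.u * D.p) * D.vv j) +
        C D.p ^ 3 * ∑ i, C (D.Mx (Fin.castLE D.hcm j) i) * D.ww i := by
    have h2 : ∀ i, C (D.Mx (Fin.castLE D.hcm j) i) * (C D.p ^ 2 * D.yy i) =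
        C D.p ^ 2 * (∑ k, C (D.Mx (Fin.castLE D.hcm j) i * D.S i k) * D.vv k) +
          C D.p ^ 3 * (C (D.Mx (Fin.castLE D.hcm j) i) * D.ww i) := by
      intro i
      rw [yy, mul_add, mul_add, Finset.mul_sum, Finset.mul_sum, Finset.mul_sum]
      congr 1
      · apply Finset.sum_congr rfl
        intro k _
        rw [map_mul]
        ring
      · ring
    simp_rw [h2]
    rw [Finset.sum_add_distrib, ← Finset.mul_sum, ← Finset.mul_sum, Finset.sum_comm]
    congr 2
    have h3 : ∀ k, ∑ i, C (D.Mx (Fin.castLE D.hcm j) i * D.S i k) * D.vv k =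
        (if j = k then C (D.u * D.p) * D.vv k else 0) := by
      intro k
      rw [← Finset.sum_mul, ← map_sum, D.MS_apply j k]
      split_ifs <;> simp
    simp_rw [h3]
    rw [Finset.sum_ite_eq Finset.univ j, if_pos (Finset.mem_univ j)]
  rw [h1]
  simp only [map_mul, map_pow]
  ring

theorem exists_t (j : Fin D.m) : ∃ t : D.S₀, D.F j = C D.p ^ 2 * t := by
  have h := taylor1 (Ideal.span {(C D.p ^ 2 : D.S₀)}) (fun i => (C (D.rr i) : D.S₀))
    (fun i => C D.p ^ 2 * D.yy i)
    (fun i => Ideal.mul_mem_right _ _ (Ideal.mem_span_singleton_self _)) (D.f j)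
  rw [Ideal.mem_span_singleton'] at h
  obtain ⟨t, ht⟩ := h
  have h1 : D.F j = aeval ((fun i => (C (D.rr i) : D.S₀)) + fun i => C D.p ^ 2 * D.yy i) (D.f j) := rfl
  rw [aeval_C_rr, D.he, ← h1] at ht
  refine ⟨t + C D.p ^ 2 * C (D.e j), ?_⟩
  simp only [map_mul, map_pow] at ht ⊢
  linear_combination (-1 : D.S₀) * ht

end Data

namespace Data

variable {R : Type u} [CommRing R] (D : Data R)

/-- the ideal of `B'` -/
noncomputable abbrev I' : Ideal D.S₀ := Ideal.span (Set.range D.g)
/-- the smooth-near-`V(p)` algebra `B' = R[v,w]/(g)` -/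
abbrev B' : Type u := D.S₀ ⧸ D.I'
/-- the quotient map -/
noncomputable def mk' : D.S₀ →ₐ[R] D.B' := Ideal.Quotient.mkₐ R D.I'
/-- the map from the polynomial ring in `x` -/
noncomputable def Φ' : MvPolynomial (Fin D.n) R →ₐ[R] D.B' := D.mk'.comp (aeval D.Xsub)

theorem mk'_surjective : Function.Surjective D.mk' := Ideal.Quotient.mkₐ_surjective R _

theorem Φ'_f (j : Fin D.m) : D.Φ' (D.f j) = D.mk' (D.F j) := rfl

theorem mk'_g (j : Fin D.c) : D.mk' (D.g j) = 0 :=
  Ideal.Quotient.eq_zero_iff_mem.mpr (Ideal.subset_span ⟨j, rfl⟩)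

theorem mk'_F_head (j : Fin D.c) : D.mk' (D.F (Fin.castLE D.hcm j)) = 0 := by
  rw [F_eq_g, map_mul, mk'_g, mul_zero]

theorem mk'_F_of_lt (j : Fin D.m) (hj : (j : ℕ) < D.c) : D.mk' (D.F j) = 0 := by
  have : j = Fin.castLE D.hcm ⟨j, hj⟩ := by ext; rfl
  rw [this, mk'_F_head]

/-- the ideal of `B` in `B'` -/
noncomputable abbrev J : Ideal D.B' := Ideal.span (Set.range fun j => D.mk' (D.F j))

theorem J_eq_map : D.J = Ideal.map D.Φ' (Ideal.span (Set.range D.f)) := by
  rw [Ideal.map_span, ← Set.range_comp]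
  rfl

theorem J_fg : D.J.FG := Submodule.fg_span (Set.finite_range _)

theorem Φ'_C (a : R) : D.Φ' (C a) = D.mk' (C a) := by
  change D.mk' (aeval D.Xsub (C a)) = _
  rw [aeval_C, MvPolynomial.algebraMap_eq]

theorem p_mul_mem (j : Fin D.m) : D.mk' (C D.p) * D.mk' (D.F j) ∈ D.J ^ 2 := by
  by_cases hj : (j : ℕ) < D.c
  · rw [D.mk'_F_of_lt j hj, mul_zero]
    exact zero_mem _
  · have h := D.kills j (not_lt.mp hj)
    have h2 := Ideal.mem_map_of_mem D.Φ' h
    rw [Ideal.map_sup, Ideal.map_pow, ← J_eq_map] at h2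
    have h3 : Ideal.map D.Φ' (Ideal.span (D.f '' {j' | (j' : ℕ) < D.c})) = ⊥ := by
      rw [Ideal.map_span, Ideal.span_eq_bot]
      rintro _ ⟨_, ⟨j', hj', rfl⟩, rfl⟩
      exact D.mk'_F_of_lt j' hj'
    rw [h3, bot_sup_eq, map_mul, Φ'_C, Φ'_f] at h2
    exact h2

/-- the marked presentation of `B'` -/
noncomputable def marked : Smoothing.MarkedPresentation R D.B' where
  n := D.c + D.n
  m := D.c
  c := D.c
  hcn := Nat.le_add_right _ _
  hcm := le_rfl
  rel := D.g
  hom := D.mk'
  surj := D.mk'_surjective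
  ker_eq := Ideal.Quotient.mkₐ_ker R D.I'

/-- the Jacobian determinant -/
noncomputable def Δ : D.S₀ :=
  Smoothing.jacobianMinor D.g (Fin.castLE le_rfl) (Fin.castLE (Nat.le_add_right D.c D.n))

theorem isElementaryStandard : Smoothing.IsElementaryStandard R D.B' (D.mk' D.Δ) :=
  ⟨D.marked, ⟨1, by rw [one_mul]; rfl⟩, fun a' _ j hj => absurd j.2 (not_lt.mpr hj)⟩

theorem smooth_away_Δ : Algebra.FinitePresentation R D.B' ∧
    Algebra.Smooth R (Localization.Away (D.mk' D.Δ)) :=
  DelocWeak.smooth_away_of_isElementaryStandard _ D.isElementaryStandard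

theorem Δ_sub_one_mem : D.Δ - 1 ∈ Ideal.span {(C D.p : D.S₀)} := by
  classical
  rw [← Ideal.Quotient.eq_zero_iff_mem, map_sub, map_one, sub_eq_zero]
  set κ := Ideal.Quotient.mk (Ideal.span {(C D.p : D.S₀)}) with hκ
  have hκp : κ (C D.p) = 0 := Ideal.Quotient.eq_zero_iff_mem.mpr (Ideal.mem_span_singleton_self _)
  have hκu : κ (C D.u) = 1 := by
    rw [D.hu, map_add, map_mul, map_add, map_mul, hκp, zero_mul, add_zero, map_one, map_one]
  rw [Δ, Smoothing.jacobianMinor, RingHom.map_det]
  have : κ.mapMatrix (Matrix.of fun j k : Fin D.c =>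
      pderiv (Fin.castLE (Nat.le_add_right D.c D.n) k) (D.g (Fin.castLE le_rfl j))) = 1 := by
    ext j k
    simp only [RingHom.mapMatrix_apply, Matrix.map_apply, Matrix.of_apply, Fin.castLE_rfl, id_eq]
    rw [g]
    simp only [map_add, Derivation.leibniz, pderiv_C, smul_zero, add_zero, map_sum, pderiv_X,
      smul_eq_mul, map_mul, hκp, zero_mul, hκu, one_mul]
    have h1 : ∀ i : Fin D.n, (Pi.single (M := fun _ => D.S₀)
        (Fin.castLE (Nat.le_add_right D.c D.n) k) 1 (Fin.natAdd D.c i)) = 0 := by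
      intro i
      apply Pi.single_eq_of_ne
      intro h
      have := congrArg Fin.val h
      simp at this
      omega
    simp only [vv, ww, pderiv_X, h1, map_zero, mul_zero, Finset.sum_const_zero, add_zero]
    rw [Matrix.one_apply]
    by_cases hjk : j = k
    · subst hjk
      rw [if_pos rfl]
      have : (Fin.castLE (Nat.le_add_right D.c D.n) j) = Fin.castAdd D.n j := rfl
      rw [this, Pi.single_eq_same, map_one]
    · rw [if_neg hjk, Pi.single_eq_of_ne, map_zero]
      intro h
      apply hjk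
      have := congrArg Fin.val h
      simp at this
      exact Fin.ext this
  rw [this, Matrix.det_one]

end Data

theorem sq_span_mul {B : Type*} [CommRing B] (a : B) (T : Ideal B) :
    (Ideal.span {a ^ 2} * T) ^ 2 = Ideal.span {a ^ 4} * T ^ 2 := by
  rw [mul_pow, Ideal.span_singleton_pow, ← pow_mul]

namespace Data

variable {R : Type u} [CommRing R] (D : Data R)

/-- images of `t_j` -/
noncomputable def tt (j : Fin D.m) : D.S₀ := (D.exists_t j).choose

theorem F_eq_tt (j : Fin D.m) : D.F j = C D.p ^ 2 * D.tt j := (D.exists_t j).choose_spec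

/-- the image of `p` in `B'` -/
noncomputable def P : D.B' := algebraMap R D.B' D.p

theorem mk'_C (a : R) : D.mk' (C a) = algebraMap R D.B' a := rfl

/-- the ideal generated by the `t_j` -/
noncomputable abbrev TT : Ideal D.B' := Ideal.span (Set.range fun j => D.mk' (D.tt j))

theorem J_eq : D.J = Ideal.span {D.P ^ 2} * D.TT := by
  have hfun : (fun j => D.mk' (D.F j)) = (fun x => D.P ^ 2 * x) ∘ (fun j => D.mk' (D.tt j)) := by
    funext j
    rw [Function.comp_apply, F_eq_tt, map_mul, map_pow, mk'_C]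
    rfl
  rw [Ideal.span_mul_span', Set.singleton_mul, ← Set.range_comp, ← hfun]

theorem J_sq_eq : D.J ^ 2 = Ideal.span {D.P ^ 4} * D.TT ^ 2 := by
  rw [J_eq]
  exact sq_span_mul _ _

theorem P_cube_mul_mem (τ : D.B') (hτ : τ ∈ D.TT ^ 2) : D.P ^ 3 * τ ∈ Ideal.span {D.P} * D.J := by
  rw [pow_two] at hτ
  refine Submodule.mul_induction_on hτ ?_ ?_
  · intro a ha b hb
    have h1 : D.P ^ 2 * a ∈ D.J := by
      rw [J_eq]
      exact Ideal.mul_mem_mul (Ideal.mem_span_singleton_self _) ha
    have h2 : D.P ^ 3 * (a * b) = D.P * ((D.P ^ 2 * a) * b) := by ring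
    rw [h2]
    exact Ideal.mul_mem_mul (Ideal.mem_span_singleton_self _) (Ideal.mul_mem_right _ _ h1)
  · intro x y hx hy
    rw [mul_add]
    exact add_mem hx hy

theorem exists_pow_mul_mem [Module.Flat R (Localization.Away (D.mk' D.Δ))] (r : R)
    (hr : ∀ x : R, D.p ^ 2 * x = 0 → D.p * (r * x) = 0) (j : Fin D.m) :
    ∃ N : ℕ, (D.mk' D.Δ) ^ N * algebraMap R D.B' r ^ 2 * D.mk' (D.F j) ∈
      Ideal.span {D.P} * D.J := by
  -- `P * F̄_j = P^4 τ`
  have h1 := D.p_mul_mem j
  rw [mk'_C, J_sq_eq] at h1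
  obtain ⟨τ, hτ, hτe⟩ := Ideal.mem_span_singleton_mul.mp h1
  have hF : D.mk' (D.F j) = D.P ^ 2 * D.mk' (D.tt j) := by
    rw [F_eq_tt, map_mul, map_pow, mk'_C]; rfl
  have h2 : D.P ^ 3 * (D.mk' (D.tt j) - D.P * τ) = 0 := by
    have : algebraMap R D.B' D.p * D.mk' (D.F j) = D.P * D.mk' (D.F j) := rfl
    rw [this, hF] at hτe
    linear_combination (-1 : D.B') * hτe
  -- pass to the flat algebra
  set M := Localization.Away (D.mk' D.Δ) with hM
  have h3 : D.p ^ 3 • (algebraMap D.B' M (D.mk' (D.tt j) - D.P * τ)) = 0 := by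
    rw [Algebra.smul_def, IsScalarTower.algebraMap_apply R D.B' M, ← map_mul, map_pow]
    change algebraMap D.B' M (D.P ^ 3 * _) = 0
    rw [h2, map_zero]
  have h4 := smul_eq_zero_of_flat D.p r hr _ h3
  rw [Algebra.smul_def, IsScalarTower.algebraMap_apply R D.B' M, ← map_mul,
    IsLocalization.map_eq_zero_iff (Submonoid.powers (D.mk' D.Δ))] at h4
  obtain ⟨⟨_, N, rfl⟩, hN⟩ := h4
  refine ⟨N, ?_⟩
  have h5 : (D.mk' D.Δ) ^ N * algebraMap R D.B' r ^ 2 * D.mk' (D.F j) =
      ((D.mk' D.Δ) ^ N * algebraMap R D.B' r ^ 2) * (D.P ^ 3 * τ) := by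
    rw [hF]
    have h6 : algebraMap R D.B' (D.p * r ^ 2) = D.P * algebraMap R D.B' r ^ 2 := by
      rw [map_mul, map_pow]; rfl
    rw [h6] at hN
    linear_combination D.P * hN
  rw [h5]
  exact Ideal.mul_mem_left _ _ (D.P_cube_mul_mem τ hτ)

theorem exists_E [Module.Flat R (Localization.Away (D.mk' D.Δ))] (r : R)
    (hr : ∀ x : R, D.p ^ 2 * x = 0 → D.p * (r * x) = 0) :
    ∃ (E : D.B') (k N : ℕ), (∀ x ∈ D.J, E * x = 0) ∧
      E - ((D.mk' D.Δ) ^ N * algebraMap R D.B' r ^ 2) ^ k ∈ Ideal.span {D.P} := by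
  choose Nj hNj using D.exists_pow_mul_mem r hr
  set N := ∑ j, Nj j with hN
  set d := (D.mk' D.Δ) ^ N * algebraMap R D.B' r ^ 2 with hd
  have hgen : ∀ j, d * D.mk' (D.F j) ∈ Ideal.span {D.P} * D.J := by
    intro j
    have hle : Nj j ≤ N := Finset.single_le_sum (fun _ _ => Nat.zero_le _) (Finset.mem_univ j)
    have : d * D.mk' (D.F j) = (D.mk' D.Δ) ^ (N - Nj j) *
        ((D.mk' D.Δ) ^ (Nj j) * algebraMap R D.B' r ^ 2 * D.mk' (D.F j)) := by
      rw [hd, ← Nat.sub_add_cancel hle, pow_add, Nat.add_sub_cancel]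
      ring
    rw [this]
    exact Ideal.mul_mem_left _ _ (hNj j)
  have hall : ∀ x ∈ D.J, d * x ∈ Ideal.span {D.P} * D.J := by
    intro x hx
    induction hx using Submodule.span_induction with
    | mem x hx =>
      obtain ⟨j, rfl⟩ := hx
      exact hgen j
    | zero => rw [mul_zero]; exact zero_mem _
    | add x y _ _ hx hy => rw [mul_add]; exact add_mem hx hy
    | smul a x _ hx =>
      rw [smul_eq_mul, mul_left_comm]
      exact Ideal.mul_mem_left _ _ hx
  obtain ⟨E, k, hE, hEk⟩ := exists_kill D.J D.J_fg d D.P hall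
  exact ⟨E, k, N, hE, hEk⟩

end Data

/-- if `d` kills `J`, then `(B'/J)_d` is formally smooth when `B'_d` is -/
theorem formallySmooth_away_quotient {R B' : Type u} [CommRing R] [CommRing B'] [Algebra R B']
    (J : Ideal B') (d : B') (hd : ∀ x ∈ J, d * x = 0)
    [Algebra.FormallySmooth R (Localization.Away d)] (db : B' ⧸ J)
    (hdb : db = Ideal.Quotient.mk J d) :
    Algebra.FormallySmooth R (Localization.Away db) := by
  apply Algebra.FormallySmooth.of_comp_surjective
  intro T _ _ N hN ubar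
  have hdu : IsUnit (((algebraMap (B' ⧸ J) (Localization.Away db)).comp (Ideal.Quotient.mk J)) d) := by
    rw [RingHom.comp_apply, ← hdb]
    exact IsLocalization.Away.algebraMap_isUnit db
  let κ : Localization.Away d →ₐ[R] Localization.Away db :=
    { toRingHom := IsLocalization.Away.lift d hdu
      commutes' := fun x => by
        change IsLocalization.Away.lift d hdu (algebraMap R (Localization.Away d) x) = _
        rw [IsScalarTower.algebraMap_apply R B' (Localization.Away d),
          IsLocalization.Away.lift_eq,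
          IsScalarTower.algebraMap_apply R (B' ⧸ J) (Localization.Away db)]
        rfl }
  have hκ : ∀ x : B', κ (algebraMap B' (Localization.Away d) x) =
      algebraMap (B' ⧸ J) (Localization.Away db) (Ideal.Quotient.mk J x) := fun x =>
    IsLocalization.Away.lift_eq d hdu x
  obtain ⟨w, hw⟩ := Algebra.FormallySmooth.comp_surjective R (Localization.Away d) N hN
    (ubar.comp κ)
  have hw' : ∀ x, Ideal.Quotient.mk N (w x) = ubar (κ x) := fun x => congr($hw x)
  let u₀ : B' →ₐ[R] T := w.comp (IsScalarTower.toAlgHom R B' (Localization.Away d))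
  have hu₀ : ∀ x ∈ J, u₀ x = 0 := by
    intro x hx
    have h0 : algebraMap B' (Localization.Away d) x = 0 := by
      have h1 : algebraMap B' (Localization.Away d) d * algebraMap B' (Localization.Away d) x = 0 := by
        rw [← map_mul, hd x hx, map_zero]
      exact (IsLocalization.Away.algebraMap_isUnit d).mul_right_eq_zero.mp h1
    change w (algebraMap B' (Localization.Away d) x) = 0
    rw [h0, map_zero]
  let u₁ : B' ⧸ J →ₐ[R] T := Ideal.Quotient.liftₐ J u₀ hu₀
  refine exists_lift_of_algHom db N hN ubar u₁ ?_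
  intro x
  obtain ⟨x', rfl⟩ := Ideal.Quotient.mk_surjective x
  change Ideal.Quotient.mk N (w (algebraMap B' (Localization.Away d) x')) = _
  rw [hw', hκ]

theorem isSmoothAt_of_formallySmooth_away {R B : Type u} [CommRing R] [CommRing B]
    [Algebra R B] [Algebra.FinitePresentation R B] (b : B)
    [Algebra.FormallySmooth R (Localization.Away b)] (Q : Ideal B) [Q.IsPrime] (hbQ : b ∉ Q) :
    Algebra.IsSmoothAt R Q := by
  have hfp : Algebra.FinitePresentation R (Localization.Away b) :=
    haveI : Algebra.FinitePresentation B (Localization.Away b) :=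
      IsLocalization.Away.finitePresentation b
    Algebra.FinitePresentation.trans R B (Localization.Away b)
  have hsm : Algebra.Smooth R (Localization.Away b) := ⟨inferInstance, hfp⟩
  rw [← Algebra.basicOpen_subset_smoothLocus_iff_smooth] at hsm
  exact hsm (show (⟨Q, inferInstance⟩ : PrimeSpectrum B) ∈ PrimeSpectrum.basicOpen b from hbQ)

theorem smooth_away_mul {R B : Type u} [CommRing R] [CommRing B]
    [Algebra R B] [Algebra.FinitePresentation R B] (b e : B)
    [Algebra.Smooth R (Localization.Away b)] : Algebra.Smooth R (Localization.Away (e * b)) := by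
  have hsm : Algebra.Smooth R (Localization.Away b) := inferInstance
  rw [← Algebra.basicOpen_subset_smoothLocus_iff_smooth] at hsm ⊢
  refine le_trans ?_ hsm
  intro q hq
  have hq' : e * b ∉ q.asIdeal := hq
  exact fun hb => hq' (Ideal.mul_mem_left _ _ hb)

namespace Data

variable {R : Type u} [CommRing R] (D : Data R)

/-- the algebra `B` -/
def B : Type u := D.B' ⧸ D.J
noncomputable instance : CommRing D.B := inferInstanceAs (CommRing (D.B' ⧸ D.J))
noncomputable instance : Algebra R D.B := inferInstanceAs (Algebra R (D.B' ⧸ D.J))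
/-- the quotient map from `B'` -/
noncomputable def mkJ : D.B' →ₐ[R] D.B := Ideal.Quotient.mkₐ R D.J
/-- the quotient map from the polynomial ring -/
noncomputable def mkB : D.S₀ →ₐ[R] D.B := D.mkJ.comp D.mk'
/-- the map from the polynomial ring in `x` -/
noncomputable def ΦB : MvPolynomial (Fin D.n) R →ₐ[R] D.B := D.mkB.comp (aeval D.Xsub)

theorem mkB_surjective : Function.Surjective D.mkB :=
  (Ideal.Quotient.mkₐ_surjective R D.J).comp D.mk'_surjective

theorem mkB_F (j : Fin D.m) : D.mkB (D.F j) = 0 := by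
  change Ideal.Quotient.mk D.J (D.mk' (D.F j)) = 0
  exact Ideal.Quotient.eq_zero_iff_mem.mpr (Ideal.subset_span ⟨j, rfl⟩)

theorem ΦB_f (j : Fin D.m) : D.ΦB (D.f j) = 0 := D.mkB_F j

theorem mkB_g (j : Fin D.c) : D.mkB (D.g j) = 0 := by
  change Ideal.Quotient.mk D.J (D.mk' (D.g j)) = 0
  rw [mk'_g, map_zero]

theorem mkB_C (a : R) : D.mkB (C a) = algebraMap R D.B a := rfl

section Source

variable {A : Type u} [CommRing A] [Algebra R A] (hom : MvPolynomial (Fin D.n) R →ₐ[R] A)
  (hsurj : Function.Surjective hom) (hker : RingHom.ker hom.toRingHom = Ideal.span (Set.range D.f))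

include hsurj hker in
theorem exists_α : ∃ α : A →ₐ[R] D.B, ∀ q, α (hom q) = D.ΦB q := by
  refine LiftOnce.exists_algHom_of_surjective (C := D.B) hom hsurj D.ΦB ?_
  intro q hq
  have hq' : q ∈ Ideal.span (Set.range D.f) := by rw [← hker]; exact hq
  have : Ideal.span (Set.range D.f) ≤ RingHom.ker D.ΦB.toRingHom := by
    rw [Ideal.span_le]
    rintro _ ⟨j, rfl⟩
    exact D.ΦB_f j
  exact this hq'

include hker in
theorem hom_f (j : Fin D.m) : hom (D.f j) = 0 := by
  have : D.f j ∈ RingHom.ker hom.toRingHom := by rw [hker]; exact Ideal.subset_span ⟨j, rfl⟩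
  exact this

include hker in
theorem formallySmooth_away_p (α : A →ₐ[R] D.B) (hα : ∀ q, α (hom q) = D.ΦB q)
    [Algebra.FormallySmooth R (Localization.Away (algebraMap R A D.p))] (b : D.B)
    (hb : b = algebraMap R D.B D.p) :
    Algebra.FormallySmooth R (Localization.Away b) := by
  classical
  apply Algebra.FormallySmooth.of_comp_surjective
  intro T _ _ N hN ubar
  have hbu : IsUnit (((algebraMap D.B (Localization.Away b)).comp (α : A →+* D.B))
      (algebraMap R A D.p)) := by
    rw [RingHom.comp_apply]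
    change IsUnit (algebraMap _ _ (α (algebraMap R A D.p)))
    rw [α.commutes, ← hb]
    exact IsLocalization.Away.algebraMap_isUnit b
  let κ : Localization.Away (algebraMap R A D.p) →ₐ[R] Localization.Away b :=
    { toRingHom := IsLocalization.Away.lift (algebraMap R A D.p) hbu
      commutes' := fun x => by
        change IsLocalization.Away.lift (algebraMap R A D.p) hbu
          (algebraMap R (Localization.Away (algebraMap R A D.p)) x) = _
        rw [IsScalarTower.algebraMap_apply R A (Localization.Away (algebraMap R A D.p)),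
          IsLocalization.Away.lift_eq, RingHom.comp_apply]
        change algebraMap _ _ (α (algebraMap R A x)) = _
        rw [α.commutes, ← IsScalarTower.algebraMap_apply] }
  have hκ : ∀ a : A, κ (algebraMap A (Localization.Away (algebraMap R A D.p)) a) =
      algebraMap D.B (Localization.Away b) (α a) := fun a =>
    IsLocalization.Away.lift_eq (algebraMap R A D.p) hbu a
  obtain ⟨w, hw⟩ := Algebra.FormallySmooth.comp_surjective R
    (Localization.Away (algebraMap R A D.p)) N hN (ubar.comp κ)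
  have hw' : ∀ x, Ideal.Quotient.mk N (w x) = ubar (κ x) := fun x => congr($hw x)
  let ξ : Fin D.n → T := fun i =>
    w (algebraMap A (Localization.Away (algebraMap R A D.p)) (hom (X i)))
  have hξ : ∀ q : MvPolynomial (Fin D.n) R,
      aeval ξ q = w (algebraMap A (Localization.Away (algebraMap R A D.p)) (hom q)) := by
    have : (aeval ξ : MvPolynomial (Fin D.n) R →ₐ[R] T) =
        (w.comp (IsScalarTower.toAlgHom R A (Localization.Away (algebraMap R A D.p)))).comp hom := by
      apply MvPolynomial.algHom_ext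
      intro i
      rw [aeval_X]
      rfl
    exact fun q => congr($this q)
  let pT : T := algebraMap R T D.p
  have hpT : IsUnit pT := by
    apply (IsNilpotent.isUnit_quotient_mk_iff (I := N) ⟨2, hN⟩).mp
    have h1 : Ideal.Quotient.mk N pT = ubar (algebraMap R (Localization.Away b) D.p) :=
      (ubar.commutes D.p).symm
    have h2 : algebraMap R (Localization.Away b) D.p =
        algebraMap D.B (Localization.Away b) b := by
      rw [IsScalarTower.algebraMap_apply R D.B (Localization.Away b), ← hb]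
    rw [h1, h2]
    exact (IsLocalization.Away.algebraMap_isUnit b).map ubar
  obtain ⟨pinv, hpinv⟩ := hpT.exists_left_inv
  have hp3 : pT ^ 3 * pinv ^ 3 = 1 := by rw [← mul_pow, mul_comm, hpinv, one_pow]
  have hlift : ∀ k : Fin D.c, ∃ τ : T, Ideal.Quotient.mk N τ =
      ubar (algebraMap D.B (Localization.Away b) (D.mkB (D.vv k))) :=
    fun k => Ideal.Quotient.mk_surjective _
  choose vt hvt using hlift
  let wt : Fin D.n → T := fun i => pinv ^ 3 *
    (ξ i - algebraMap R T (D.rr i) - pT ^ 2 * ∑ k, algebraMap R T (D.S i k) * vt k)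
  let ev : Fin (D.c + D.n) → T := Fin.append vt wt
  let u₀ : D.S₀ →ₐ[R] T := aeval ev
  have hu₀v : ∀ k, u₀ (D.vv k) = vt k := fun k => by
    change aeval ev (X (Fin.castAdd D.n k)) = _
    rw [aeval_X]
    exact Fin.append_left _ _ _
  have hu₀w : ∀ i, u₀ (D.ww i) = wt i := fun i => by
    change aeval ev (X (Fin.natAdd D.c i)) = _
    rw [aeval_X]
    exact Fin.append_right _ _ _
  have hu₀C : ∀ a : R, u₀ (C a) = algebraMap R T a := fun a => aeval_C _ _
  have hu₀X : ∀ i, u₀ (D.Xsub i) = ξ i := by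
    intro i
    rw [Xsub, yy]
    simp only [map_add, map_mul, map_pow, map_sum, hu₀v, hu₀w, hu₀C]
    change algebraMap R T (D.rr i) + pT ^ 2 * (∑ k, algebraMap R T (D.S i k) * vt k + pT *
      (pinv ^ 3 * (ξ i - algebraMap R T (D.rr i) -
        pT ^ 2 * ∑ k, algebraMap R T (D.S i k) * vt k))) = ξ i
    linear_combination (ξ i - algebraMap R T (D.rr i) -
      pT ^ 2 * ∑ k, algebraMap R T (D.S i k) * vt k) * hp3
  have hu₀F : ∀ j, u₀ (D.F j) = 0 := by
    intro j
    have h1 : u₀ (D.F j) = aeval ξ (D.f j) := by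
      change (u₀.comp (aeval D.Xsub)) (D.f j) = _
      rw [comp_aeval]
      congr 2
      funext i
      exact hu₀X i
    rw [h1, hξ, D.hom_f hom hker, map_zero, map_zero]
  have hu₀g : ∀ j, u₀ (D.g j) = 0 := by
    intro j
    have h1 : pT ^ 3 * u₀ (D.g j) = 0 := by
      have h2 := hu₀F (Fin.castLE D.hcm j)
      rw [F_eq_g, map_mul, map_pow, hu₀C] at h2
      exact h2
    exact (hpT.pow 3).mul_right_eq_zero.mp h1
  have hu₀I : ∀ x ∈ D.I', u₀ x = 0 := by
    have : D.I' ≤ RingHom.ker u₀.toRingHom := by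
      rw [Ideal.span_le]
      rintro _ ⟨j, rfl⟩
      exact hu₀g j
    exact fun x hx => this hx
  let u₁' : D.B' →ₐ[R] T := Ideal.Quotient.liftₐ D.I' u₀ hu₀I
  have hu₁' : ∀ q, u₁' (D.mk' q) = u₀ q := fun q => rfl
  have hu₁J : ∀ x ∈ D.J, u₁' x = 0 := by
    have : D.J ≤ RingHom.ker u₁'.toRingHom := by
      rw [Ideal.span_le]
      rintro _ ⟨j, rfl⟩
      change u₁' (D.mk' (D.F j)) = 0
      rw [hu₁', hu₀F]
    exact fun x hx => this hx
  let u₁ : D.B →ₐ[R] T := (Ideal.Quotient.liftₐ D.J u₁' hu₁J : D.B' ⧸ D.J →ₐ[R] T)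
  have hu₁ : ∀ q, u₁ (D.mkB q) = u₀ q := fun q => rfl
  refine exists_lift_of_algHom b N hN ubar u₁ ?_
  let ψ : D.S₀ →ₐ[R] T ⧸ N :=
    (ubar.comp (IsScalarTower.toAlgHom R D.B (Localization.Away b))).comp D.mkB
  have hψ : ∀ q, ψ q = ubar (algebraMap D.B (Localization.Away b) (D.mkB q)) := fun q => rfl
  have hψC : ∀ a : R, ψ (C a) = Ideal.Quotient.mk N (algebraMap R T a) := by
    intro a
    have : (C a : D.S₀) = algebraMap R D.S₀ a := rfl
    rw [this, ψ.commutes]
    rfl
  have hψX : ∀ i, ψ (D.Xsub i) = Ideal.Quotient.mk N (ξ i) := by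
    intro i
    have h0 : D.ΦB (X i) = D.mkB (D.Xsub i) := by
      change D.mkB (aeval D.Xsub (X i)) = _
      rw [aeval_X]
    rw [hψ, hw', hκ, hα, h0]
  have hcompat : (Ideal.Quotient.mkₐ R N).comp u₀ = ψ := by
    apply MvPolynomial.algHom_ext
    intro s
    induction s using Fin.addCases with
    | left k =>
      change Ideal.Quotient.mk N (u₀ (D.vv k)) = ψ (D.vv k)
      rw [hu₀v, hvt, hψ]
    | right i =>
      change Ideal.Quotient.mk N (u₀ (D.ww i)) = ψ (D.ww i)
      rw [hu₀w]
      have hu : IsUnit (Ideal.Quotient.mk N (pT ^ 3)) := (hpT.pow 3).map _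
      apply hu.mul_left_cancel
      have e1 : Ideal.Quotient.mk N (pT ^ 3) * Ideal.Quotient.mk N (wt i) =
          Ideal.Quotient.mk N (ξ i - algebraMap R T (D.rr i) -
            pT ^ 2 * ∑ k, algebraMap R T (D.S i k) * vt k) := by
        rw [← map_mul]
        congr 1
        change pT ^ 3 * (pinv ^ 3 * (ξ i - algebraMap R T (D.rr i) -
          pT ^ 2 * ∑ k, algebraMap R T (D.S i k) * vt k)) = _
        linear_combination (ξ i - algebraMap R T (D.rr i) -
          pT ^ 2 * ∑ k, algebraMap R T (D.S i k) * vt k) * hp3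
      have e2 : Ideal.Quotient.mk N (pT ^ 3) * ψ (D.ww i) =
          ψ (D.Xsub i - C (D.rr i) - C D.p ^ 2 * ∑ k, C (D.S i k) * D.vv k) := by
        have : D.Xsub i - C (D.rr i) - C D.p ^ 2 * ∑ k, C (D.S i k) * D.vv k =
            C D.p ^ 3 * D.ww i := by
          rw [Xsub, yy]; ring
        rw [this, map_mul ψ, map_pow ψ, hψC, map_pow (Ideal.Quotient.mk N)]
      rw [e1, e2]
      simp only [map_sub, map_mul, map_pow, map_sum, hψX, hψC]
      congr 2
      apply Finset.sum_congr rfl
      intro k _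
      rw [hψ, ← hvt]
  intro x
  obtain ⟨q, rfl⟩ := D.mkB_surjective x
  rw [hu₁]
  exact congr($hcompat q)

end Source

end Data

namespace Data

variable {R : Type u} [CommRing R] (D : Data R)

theorem mkJ_mk' (q : D.S₀) : D.mkJ (D.mk' q) = D.mkB q := rfl

theorem mkJ_algebraMap (a : R) : D.mkJ (algebraMap R D.B' a) = algebraMap R D.B a := rfl

section Source

variable {A : Type u} [CommRing A] [Algebra R A] (hom : MvPolynomial (Fin D.n) R →ₐ[R] A)
  (hsurj : Function.Surjective hom) (hker : RingHom.ker hom.toRingHom = Ideal.span (Set.range D.f))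

theorem finitePresentation_B : Algebra.FinitePresentation R D.B := by
  haveI := D.smooth_away_Δ.1
  exact (Algebra.FinitePresentation.quotient D.J_fg : Algebra.FinitePresentation R (D.B' ⧸ D.J))

include hsurj hker in
theorem mem_singularIdeal [Algebra.FormallySmooth R (Localization.Away (algebraMap R A D.p))]
    (r : R) (hr : ∀ x : R, D.p ^ 2 * x = 0 → D.p * (r * x) = 0) :
    algebraMap R D.B r ∈ Smoothing.singularIdeal R D.B := by
  obtain ⟨α, hα⟩ := D.exists_α hom hsurj hker
  obtain ⟨hfpB', hsmΔ⟩ := D.smooth_away_Δ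
  haveI := hfpB'
  haveI := hsmΔ
  haveI hfpB : Algebra.FinitePresentation R D.B := D.finitePresentation_B
  apply DelocWeak.mem_singularIdeal_of_forall
  intro Q _ hrQ
  by_cases hpQ : algebraMap R D.B D.p ∈ Q
  · obtain ⟨E, k, N, hE, hEk⟩ := D.exists_E r hr
    have hd : ∀ x ∈ D.J, (E * D.mk' D.Δ) * x = 0 := fun x hx => by
      rw [mul_right_comm, hE x hx, zero_mul]
    haveI : Algebra.Smooth R (Localization.Away (E * D.mk' D.Δ)) := smooth_away_mul _ _
    haveI : Algebra.FormallySmooth R (Localization.Away (D.mkJ (E * D.mk' D.Δ))) :=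
      formallySmooth_away_quotient D.J _ hd _ rfl
    refine isSmoothAt_of_formallySmooth_away (D.mkJ (E * D.mk' D.Δ)) Q ?_
    rw [map_mul]
    intro hmem
    have hΔQ : D.mkJ (D.mk' D.Δ) ∉ Q := by
      intro h
      have h1 : D.mkB (D.Δ - 1) ∈ Q := by
        obtain ⟨z, hz⟩ := Ideal.mem_span_singleton'.mp D.Δ_sub_one_mem
        rw [← hz, map_mul, mkB_C]
        exact Ideal.mul_mem_left _ _ hpQ
      rw [map_sub, map_one] at h1
      have h2 : (1 : D.B) ∈ Q := by
        have := Q.sub_mem h h1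
        rw [mkJ_mk', sub_sub_cancel] at this
        exact this
      exact (Ideal.IsPrime.ne_top ‹_›) ((Ideal.eq_top_iff_one _).mpr h2)
    have hEQ : D.mkJ E ∉ Q := by
      intro h
      obtain ⟨z, hz⟩ := Ideal.mem_span_singleton'.mp hEk
      have h1 : D.mkJ (E - ((D.mk' D.Δ) ^ N * algebraMap R D.B' r ^ 2) ^ k) ∈ Q := by
        rw [← hz, map_mul]
        exact Ideal.mul_mem_left _ _ hpQ
      rw [map_sub] at h1
      have h2 : D.mkJ (((D.mk' D.Δ) ^ N * algebraMap R D.B' r ^ 2) ^ k) ∈ Q := by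
        have := Q.sub_mem h h1
        rw [sub_sub_cancel] at this
        exact this
      rw [map_pow] at h2
      have h3 := Ideal.IsPrime.mem_of_pow_mem ‹_› k h2
      rw [map_mul, map_pow, map_pow] at h3
      rcases Ideal.IsPrime.mem_or_mem ‹_› h3 with h4 | h4
      · exact hΔQ (Ideal.IsPrime.mem_of_pow_mem ‹_› N h4)
      · exact hrQ (Ideal.IsPrime.mem_of_pow_mem ‹_› 2 h4)
    rcases Ideal.IsPrime.mem_or_mem ‹_› hmem with h | h
    · exact hEQ h
    · exact hΔQ h
  · haveI := D.formallySmooth_away_p hom hker α hα (algebraMap R D.B D.p) rfl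
    exact isSmoothAt_of_formallySmooth_away (algebraMap R D.B D.p) Q hpQ

variable {Λ : Type u} [CommRing Λ] [Algebra R Λ] (φ : A →ₐ[R] Λ) (lam : Fin D.n → Λ)
  (hlam : ∀ i, φ (hom (X i)) = algebraMap R Λ (D.rr i) + algebraMap R Λ D.p ^ 4 * lam i)
  (hΛ : ∀ x : Λ, algebraMap R Λ D.p ^ 2 * x = 0 → algebraMap R Λ D.p * x = 0)

include hker hlam hΛ in
theorem exists_β : ∃ β : D.B →ₐ[R] Λ, ∀ q, β (D.ΦB q) = φ (hom q) := by
  set PΛ : Λ := algebraMap R Λ D.p with hPΛ
  let evΛ : Fin (D.c + D.n) → Λ := Fin.append (fun _ => 0) (fun i => PΛ * lam i)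
  let v₀ : D.S₀ →ₐ[R] Λ := aeval evΛ
  have hv₀v : ∀ k, v₀ (D.vv k) = 0 := fun k => by
    change aeval evΛ (X (Fin.castAdd D.n k)) = _
    rw [aeval_X]
    exact Fin.append_left _ _ _
  have hv₀w : ∀ i, v₀ (D.ww i) = PΛ * lam i := fun i => by
    change aeval evΛ (X (Fin.natAdd D.c i)) = _
    rw [aeval_X]
    exact Fin.append_right _ _ _
  have hv₀C : ∀ a : R, v₀ (C a) = algebraMap R Λ a := fun a => aeval_C _ _
  have hv₀Cp : v₀ (C D.p) = PΛ := hv₀C D.p
  have hv₀X : ∀ i, v₀ (D.Xsub i) = φ (hom (X i)) := by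
    intro i
    rw [Xsub, yy, hlam]
    simp only [map_add, map_mul, map_pow, map_sum, hv₀v, hv₀w, hv₀Cp, hv₀C, mul_zero,
      Finset.sum_const_zero, zero_add]
    ring
  have hv₀q : ∀ q, v₀ (aeval D.Xsub q) = φ (hom q) := by
    have : v₀.comp (aeval D.Xsub) = φ.comp hom := by
      apply MvPolynomial.algHom_ext
      intro i
      change v₀ (aeval D.Xsub (X i)) = φ (hom (X i))
      rw [aeval_X, hv₀X]
    exact fun q => congr($this q)
  have hv₀F : ∀ j, v₀ (D.F j) = 0 := by
    intro j
    rw [F, hv₀q, D.hom_f hom hker, map_zero]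
  have hv₀g : ∀ j, v₀ (D.g j) = 0 := by
    intro j
    set t' : Λ := ∑ i, algebraMap R Λ (D.Mx (Fin.castLE D.hcm j) i) * lam i +
      v₀ (C (D.e (Fin.castLE D.hcm j)) + D.Q (Fin.castLE D.hcm j)) with ht'
    have h1 : v₀ (D.g j) = PΛ * t' := by
      rw [g]
      simp only [map_add, map_mul, map_sum, hv₀v, hv₀w, hv₀Cp, hv₀C, mul_zero, zero_add]
      rw [ht']
      simp only [map_add, hv₀C]
      have : ∑ x, algebraMap R Λ (D.Mx (Fin.castLE D.hcm j) x) * (PΛ * lam x) =
          PΛ * ∑ x, algebraMap R Λ (D.Mx (Fin.castLE D.hcm j) x) * lam x := by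
        rw [Finset.mul_sum]
        apply Finset.sum_congr rfl
        intro i _
        ring
      rw [this]
      ring
    have h2 : PΛ ^ 3 * v₀ (D.g j) = 0 := by
      have := hv₀F (Fin.castLE D.hcm j)
      rw [F_eq_g, map_mul, map_pow, hv₀Cp] at this
      exact this
    rw [h1] at h2 ⊢
    have h3 : PΛ ^ 2 * (PΛ ^ 2 * t') = 0 := by rw [← h2]; ring
    have h4 : PΛ ^ 2 * (PΛ * t') = 0 := by
      have := hΛ _ h3
      rw [← this]; ring
    have h5 : PΛ ^ 2 * t' = 0 := by
      have := hΛ _ h4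
      rw [← this]; ring
    exact hΛ _ h5
  have hv₀I : ∀ x ∈ D.I', v₀ x = 0 := by
    have : D.I' ≤ RingHom.ker v₀.toRingHom := by
      rw [Ideal.span_le]
      rintro _ ⟨j, rfl⟩
      exact hv₀g j
    exact fun x hx => this hx
  let v₁' : D.B' →ₐ[R] Λ := Ideal.Quotient.liftₐ D.I' v₀ hv₀I
  have hv₁' : ∀ q, v₁' (D.mk' q) = v₀ q := fun q => rfl
  have hv₁J : ∀ x ∈ D.J, v₁' x = 0 := by
    have : D.J ≤ RingHom.ker v₁'.toRingHom := by
      rw [Ideal.span_le]
      rintro _ ⟨j, rfl⟩
      change v₁' (D.mk' (D.F j)) = 0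
      rw [hv₁', hv₀F]
    exact fun x hx => this hx
  let v₁ : D.B →ₐ[R] Λ := (Ideal.Quotient.liftₐ D.J v₁' hv₁J : D.B' ⧸ D.J →ₐ[R] Λ)
  have hv₁ : ∀ q, v₁ (D.mkB q) = v₀ q := fun q => rfl
  refine ⟨v₁, fun q => ?_⟩
  change v₁ (D.mkB (aeval D.Xsub q)) = _
  rw [hv₁, hv₀q]

end Source

end Data

theorem main {R Λ A : Type u} [CommRing R] [CommRing Λ] [Algebra R Λ] (π : R)
    (hΛ : ∀ x : Λ, π ^ 2 • x = 0 → π • x = 0) [CommRing A] [Algebra R A]
    (φ : A →ₐ[R] Λ) (hπ : Smoothing.IsStrictlyStandard R A (algebraMap R A π))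
    (ρ : A →ₐ[R] R ⧸ Ideal.span {π ^ 4})
    (hρ : ∀ (a : A) (r : R), Ideal.Quotient.mk (Ideal.span {π ^ 4}) r = ρ a →
      algebraMap R Λ r - φ a ∈ Ideal.span {algebraMap R Λ (π ^ 4)}) :
    ∃ (B : Type u) (_ : CommRing B) (_ : Algebra R B), Algebra.FinitePresentation R B ∧
      ∃ (α : A →ₐ[R] B) (β : B →ₐ[R] Λ), β.comp α = φ ∧
        ∀ r : R, (∀ x : R, π ^ 2 * x = 0 → π * (r * x) = 0) →
          algebraMap R B r ∈ Smoothing.singularIdeal R B := by
  classical
  haveI : Algebra.FormallySmooth R (Localization.Away (algebraMap R A π)) :=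
    (StablyFree.main _ hπ).1.formallySmooth
  obtain ⟨P, hspan, hkills⟩ := hπ
  set mk4 := Ideal.Quotient.mk (Ideal.span {π ^ 4}) with hmk4
  -- the point
  have hrr : ∀ i, ∃ r, mk4 r = ρ (P.hom (X i)) := fun i => Ideal.Quotient.mk_surjective _
  choose rr hrr using hrr
  have hρq : ∀ q, ρ (P.hom q) = mk4 (eval rr q) := by
    have : ρ.comp P.hom = (Ideal.Quotient.mkₐ R (Ideal.span {π ^ 4})).comp (aeval rr) := by
      apply MvPolynomial.algHom_ext
      intro i
      change ρ (P.hom (X i)) = mk4 (aeval rr (X i))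
      rw [aeval_X, hrr]
    intro q
    have h := congr($this q)
    rw [AlgHom.comp_apply, AlgHom.comp_apply] at h
    rw [h]
    rfl
  -- values of the relations
  have he : ∀ j, ∃ e, eval rr (P.rel j) = π ^ 4 * e := by
    intro j
    have h0 : P.hom (P.rel j) = 0 := by
      have : P.rel j ∈ RingHom.ker P.hom.toRingHom := by
        rw [P.ker_eq]; exact Ideal.subset_span ⟨j, rfl⟩
      exact this
    have h1 : mk4 (eval rr (P.rel j)) = 0 := by rw [← hρq, h0, map_zero]
    rw [Ideal.Quotient.eq_zero_iff_mem, Ideal.mem_span_singleton'] at h1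
    obtain ⟨a, ha⟩ := h1
    exact ⟨a, by rw [← ha, mul_comm]⟩
  choose e he using he
  -- the weights
  obtain ⟨wA, hwA⟩ := (Submodule.mem_span_range_iff_exists_fun A).mp hspan
  have hwR : ∀ cols, ∃ r, mk4 r = ρ (wA cols) := fun cols => Ideal.Quotient.mk_surjective _
  choose wR hwR using hwR
  let M : Matrix (Fin P.c) (Fin P.n) R :=
    Matrix.of fun (j : Fin P.c) (i : Fin P.n) => eval rr (pderiv i (P.rel (Fin.castLE P.hcm j)))
  have hminor : ∀ cols : Fin P.c → Fin P.n,
      eval rr (Smoothing.jacobianMinor P.rel (Fin.castLE P.hcm) cols) =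
        (M.submatrix id cols).det := by
    intro cols
    rw [Smoothing.jacobianMinor, RingHom.map_det]
    rfl
  have hsum : mk4 (∑ cols, wR cols * (M.submatrix id cols).det) = mk4 π := by
    have h1 := congrArg ρ hwA
    rw [map_sum, ρ.commutes] at h1
    rw [map_sum]
    rw [show (algebraMap R (R ⧸ Ideal.span {π ^ 4}) π) = mk4 π from rfl] at h1
    rw [← h1]
    apply Finset.sum_congr rfl
    intro cols _
    rw [smul_eq_mul, map_mul, map_mul, hρq, hminor, hwR]
  obtain ⟨t0, ht0⟩ : ∃ t0, t0 * π ^ 4 = ∑ cols, wR cols * (M.submatrix id cols).det - π := by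
    rw [← sub_eq_zero, ← map_sub, Ideal.Quotient.eq_zero_iff_mem, Ideal.mem_span_singleton'] at hsum
    exact hsum
  obtain ⟨S, hS⟩ := exists_mul_eq_smul_one M wR
  have hu : ∑ cols, wR cols * (M.submatrix id cols).det = (1 + π * (t0 * π ^ 2)) * π := by
    linear_combination (-1 : R) * ht0
  rw [hu] at hS
  let D : Data R :=
    { p := π
      n := P.n
      m := P.m
      c := P.c
      hcm := P.hcm
      f := P.rel
      rr := rr
      e := e
      he := he
      S := S
      u := 1 + π * (t0 * π ^ 2)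
      t := t0 * π ^ 2
      hu := rfl
      hMS := hS
      kills := fun j hj => hkills (C π) (by
        rw [← MvPolynomial.algebraMap_eq, P.hom.commutes]) j hj }
  -- the elements `λ_i`
  have hlam : ∀ i, ∃ l : Λ, φ (P.hom (X i)) = algebraMap R Λ (rr i) + algebraMap R Λ π ^ 4 * l := by
    intro i
    have h := hρ (P.hom (X i)) (rr i) (hrr i)
    rw [Ideal.mem_span_singleton'] at h
    obtain ⟨a, ha⟩ := h
    refine ⟨-a, ?_⟩
    rw [map_pow] at ha
    linear_combination ha
  choose lam hlam using hlam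
  have hΛ' : ∀ x : Λ, algebraMap R Λ π ^ 2 * x = 0 → algebraMap R Λ π * x = 0 := by
    intro x hx
    have := hΛ x (by rw [Algebra.smul_def, map_pow]; exact hx)
    rw [Algebra.smul_def] at this
    exact this
  obtain ⟨α, hα⟩ := D.exists_α P.hom P.surj P.ker_eq
  obtain ⟨β, hβ⟩ := D.exists_β P.hom P.ker_eq φ lam hlam hΛ'
  refine ⟨D.B, inferInstance, inferInstance, D.finitePresentation_B, α, β, ?_, ?_⟩
  · apply AlgHom.ext
    intro a
    obtain ⟨q, rfl⟩ := P.surj a
    rw [AlgHom.comp_apply, hα, hβ]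
  · intro r hr
    exact D.mem_singularIdeal P.hom P.surj P.ker_eq r hr

end Groth.Agent.Lib.R2H4.Desing
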