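import Mathlib
import Groth.Agent.Lib.R2H4Desing
import Groth.Agent.S6829

/-!
# The desingularization lemma relative to a finitely presented `D` (S2028)

Apply `Desing.main` over the base `D` to `D → D ⊗_R A → Λ` (strict standardness base-changes by S6829, the
section `D ⊗_R A → D/π⁴D` comes from `A → D/π⁴D`).  For `d ∈ H_{D/R}`, `D_d` is smooth hence flat over `R`, so
`Ann_{D_d}(π²) = Ann_{D_d}(π)` and (as `D` is Noetherian) some `d^N` lies in `Ann_D(Ann_D(π²)/Ann_D(π))`;
hence `d^N ∈ H_{B/D}` and `d ∈ H_{B/D}`; composing smoothness gives `d ∈ H_{B/R}`.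
-/

set_option autoImplicit false
set_option linter.style.haveILetI false
set_option linter.unusedSimpArgs false
universe u
open MvPolynomial TensorProduct

namespace Groth.Agent.Lib.R2H4.Desing2

open Groth.Agent.Lib.R2H4

/-- `Desing.main` with a flexible ideal. -/
theorem main' {R Λ A : Type u} [CommRing R] [CommRing Λ] [Algebra R Λ] (π : R)
    (hΛ : ∀ x : Λ, π ^ 2 • x = 0 → π • x = 0) [CommRing A] [Algebra R A]
    (φ : A →ₐ[R] Λ) (hπ : Smoothing.IsStrictlyStandard R A (algebraMap R A π))
    (I4 : Ideal R) (hI4 : I4 = Ideal.span {π ^ 4}) (I4Λ : Ideal Λ)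
    (hI4Λ : I4Λ = Ideal.span {algebraMap R Λ (π ^ 4)})
    (ρ : A →ₐ[R] R ⧸ I4)
    (hρ : ∀ (a : A) (r : R), Ideal.Quotient.mk I4 r = ρ a → algebraMap R Λ r - φ a ∈ I4Λ) :
    ∃ (B : Type u) (_ : CommRing B) (_ : Algebra R B), Algebra.FinitePresentation R B ∧
      ∃ (α : A →ₐ[R] B) (β : B →ₐ[R] Λ), β.comp α = φ ∧
        ∀ r : R, (∀ x : R, π ^ 2 * x = 0 → π * (r * x) = 0) →
          algebraMap R B r ∈ Smoothing.singularIdeal R B := by
  subst hI4 hI4Λ
  exact Desing.main π hΛ φ hπ ρ hρ

/-- annihilators in a flat module, first version -/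
theorem smul_eq_zero_of_flat' {R M : Type*} [CommRing R] [AddCommGroup M] [Module R M]
    [Module.Flat R M] (π : R) (hR : ∀ x : R, π ^ 2 * x = 0 → π * x = 0) (z : M)
    (hz : π ^ 2 • z = 0) : π • z = 0 := by
  have h := Module.Flat.isTrivialRelation_of_sum_smul_eq_zero (ι := Unit) (f := fun _ => π ^ 2)
    (x := fun _ => z) (by simpa using hz)
  obtain ⟨k, a, y, hx, ha⟩ := h
  have hz' : z = ∑ j, a () j • y j := hx ()
  rw [hz', Finset.smul_sum]
  apply Finset.sum_eq_zero
  intro j _
  rw [smul_smul]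
  have h0 : π ^ 2 * a () j = 0 := by simpa using ha j
  rw [hR _ h0, zero_smul]

/-- composition of smoothness through principal localizations -/
theorem formallySmooth_away_comp {R D B : Type u} [CommRing R] [CommRing D] [CommRing B]
    [Algebra R D] [Algebra D B] [Algebra R B] [IsScalarTower R D B] (d : D)
    [Algebra.FormallySmooth R (Localization.Away d)]
    [Algebra.FormallySmooth D (Localization.Away (algebraMap D B d))] :
    Algebra.FormallySmooth R (Localization.Away (algebraMap D B d)) := by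
  have hu : IsUnit (((algebraMap B (Localization.Away (algebraMap D B d))).comp
      (algebraMap D B)) d) := by
    rw [RingHom.comp_apply]
    exact IsLocalization.Away.algebraMap_isUnit _
  letI : Algebra (Localization.Away d) (Localization.Away (algebraMap D B d)) :=
    (IsLocalization.Away.lift d hu).toAlgebra
  have hmap : ∀ x : D, algebraMap (Localization.Away d) (Localization.Away (algebraMap D B d))
      (algebraMap D (Localization.Away d) x) =
        algebraMap B (Localization.Away (algebraMap D B d)) (algebraMap D B x) := fun x =>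
    IsLocalization.Away.lift_eq d hu x
  haveI : IsScalarTower D (Localization.Away d) (Localization.Away (algebraMap D B d)) :=
    .of_algebraMap_eq fun x => by
      rw [hmap, ← IsScalarTower.algebraMap_apply]
  haveI : IsScalarTower R (Localization.Away d) (Localization.Away (algebraMap D B d)) :=
    .of_algebraMap_eq fun x => by
      rw [IsScalarTower.algebraMap_apply R D (Localization.Away d), hmap,
        ← IsScalarTower.algebraMap_apply, ← IsScalarTower.algebraMap_apply]
  haveI : Algebra.FormallySmooth (Localization.Away d) (Localization.Away (algebraMap D B d)) :=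
    Algebra.FormallySmooth.localization_base (Submonoid.powers d)
  exact Algebra.FormallySmooth.comp R (Localization.Away d) (Localization.Away (algebraMap D B d))

/-- a power of `d` lies in the ideal `𝔞` when `D_d` is flat over `R` -/
theorem exists_pow_annihilator {R D : Type u} [CommRing R] [CommRing D] [Algebra R D]
    [IsNoetherianRing D] (π : R) (hR : ∀ r : R, π ^ 2 * r = 0 → π * r = 0) (d : D)
    [Module.Flat R (Localization.Away d)] :
    ∃ N : ℕ, ∀ x : D, algebraMap R D π ^ 2 * x = 0 → algebraMap R D π * (d ^ N * x) = 0 := by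
  classical
  set πD : D := algebraMap R D π with hπD
  let K : Ideal D := (Ideal.span {πD ^ 2}).annihilator
  have hK : ∀ x, x ∈ K ↔ πD ^ 2 * x = 0 := by
    intro x
    rw [Submodule.mem_annihilator_span_singleton, smul_eq_mul, mul_comm]
  obtain ⟨k, z, hz⟩ := Submodule.fg_iff_exists_fin_generating_family.mp
    ((isNoetherianRing_iff_ideal_fg D).mp inferInstance K)
  have hzK : ∀ l, z l ∈ K := fun l => hz ▸ Submodule.subset_span ⟨l, rfl⟩
  have hex : ∀ l, ∃ N : ℕ, d ^ N * (πD * z l) = 0 := by
    intro l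
    have h1 : π ^ 2 • algebraMap D (Localization.Away d) (z l) = 0 := by
      rw [Algebra.smul_def, IsScalarTower.algebraMap_apply R D (Localization.Away d), ← map_mul,
        map_pow, (hK _).mp (hzK l), map_zero]
    have h2 := smul_eq_zero_of_flat' π hR _ h1
    rw [Algebra.smul_def, IsScalarTower.algebraMap_apply R D (Localization.Away d), ← map_mul,
      IsLocalization.map_eq_zero_iff (Submonoid.powers d)] at h2
    obtain ⟨⟨_, N, rfl⟩, hN⟩ := h2
    exact ⟨N, hN⟩
  choose Nl hNl using hex
  refine ⟨∑ l, Nl l, ?_⟩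
  have hall : ∀ x ∈ Submodule.span D (Set.range z), πD * (d ^ (∑ l, Nl l) * x) = 0 := by
    intro x hxK
    induction hxK using Submodule.span_induction with
    | mem x hx =>
      obtain ⟨l, rfl⟩ := hx
      have hle : Nl l ≤ ∑ l, Nl l :=
        Finset.single_le_sum (fun _ _ => Nat.zero_le _) (Finset.mem_univ l)
      rw [← Nat.sub_add_cancel hle, pow_add]
      have := hNl l
      linear_combination (d ^ (∑ l, Nl l - Nl l)) * this
    | zero => simp
    | add x y _ _ hx hy =>
      rw [mul_add, mul_add, hx, hy, add_zero]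
    | smul a x _ hx =>
      rw [smul_eq_mul]
      linear_combination a * hx
  intro x hx
  exact hall x (hz ▸ (hK x).mpr hx)

theorem main_aux {R Λ A D : Type u} [CommRing R] [IsNoetherianRing R]
    [CommRing Λ] [Algebra R Λ] (π : R) (hR : ∀ r : R, π ^ 2 * r = 0 → π * r = 0)
    (hΛ : ∀ x : Λ, π ^ 2 • x = 0 → π • x = 0) [CommRing A] [Algebra R A]
    [CommRing D] [Algebra R D] [Algebra.FinitePresentation R D]
    (φ : A →ₐ[R] Λ) (δ : D →ₐ[R] Λ) (hπ : Smoothing.IsStrictlyStandard R A (algebraMap R A π))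
    (I4 : Ideal D) (hI4 : I4 = Ideal.span {algebraMap R D (π ^ 4)}) (I4Λ : Ideal Λ)
    (hI4Λ : I4Λ = Ideal.span {algebraMap R Λ (π ^ 4)})
    (ψ : A →ₐ[R] D ⧸ I4)
    (hψ : ∀ (a : A) (d : D), Ideal.Quotient.mk I4 d = ψ a → δ d - φ a ∈ I4Λ) :
    ∃ (B : Type u) (_ : CommRing B) (_ : Algebra R B) (_ : Algebra D B) (_ : IsScalarTower R D B),
      Algebra.FinitePresentation R B ∧
      ∃ (α : A →ₐ[R] B) (β : B →ₐ[R] Λ), β.comp α = φ ∧
        β.comp (IsScalarTower.toAlgHom R D B) = δ ∧
        (Smoothing.singularIdeal R D).map (algebraMap D B) ≤ Smoothing.singularIdeal D B ∧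
        (Smoothing.singularIdeal R D).map (algebraMap D B) ≤ Smoothing.singularIdeal R B := by
  classical
  haveI : Algebra.FinitePresentation R A := by
    obtain ⟨P, -, -⟩ := hπ
    exact DelocWeak.finitePresentation_of_marked P
  letI : Algebra D Λ := δ.toRingHom.toAlgebra
  haveI : IsScalarTower R D Λ := .of_algebraMap_eq fun x => (δ.commutes x).symm
  have hDΛ : ∀ d : D, algebraMap D Λ d = δ d := fun d => rfl
  set πD : D := algebraMap R D π with hπD
  have hπ' : Smoothing.IsStrictlyStandard D (D ⊗[R] A) (algebraMap D (D ⊗[R] A) πD) := by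
    have h := (Groth.Agent.S6829.result (R := R) (A := A) (R' := D) (algebraMap R A π)).2 hπ
    have e : (1 : D) ⊗ₜ[R] (algebraMap R A π) = algebraMap D (D ⊗[R] A) πD := by
      rw [Algebra.TensorProduct.algebraMap_apply, Algebra.algebraMap_self, RingHom.id_apply, hπD,
        Algebra.algebraMap_eq_smul_one (A := A), Algebra.algebraMap_eq_smul_one (A := D),
        TensorProduct.tmul_smul, TensorProduct.smul_tmul']
    rwa [e] at h
  let φ' : D ⊗[R] A →ₐ[D] Λ :=
    Algebra.TensorProduct.lift (Algebra.ofId D Λ) φ (fun _ _ => Commute.all _ _)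
  have hφ' : ∀ (d : D) (a : A), φ' (d ⊗ₜ a) = δ d * φ a := fun d a => by
    simp [φ', Algebra.ofId_apply, hDΛ]
  have hpow : ∀ (k : ℕ) (y : Λ), πD ^ k • y = π ^ k • y := by
    intro k y
    rw [Algebra.smul_def, Algebra.smul_def, hDΛ, hπD, ← map_pow, δ.commutes]
  have hΛ' : ∀ x : Λ, πD ^ 2 • x = 0 → πD • x = 0 := by
    intro x hx
    have := hΛ x (by rw [← hpow]; exact hx)
    rw [← pow_one πD, hpow, pow_one]
    exact this
  let ρ : D ⊗[R] A →ₐ[D] D ⧸ I4 :=
    Algebra.TensorProduct.lift (Algebra.ofId D (D ⧸ I4)) ψ (fun _ _ => Commute.all _ _)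
  have hρt : ∀ (d : D) (a : A), ρ (d ⊗ₜ a) = Ideal.Quotient.mk I4 d * ψ a := fun d a => by
    simp [ρ, Algebra.ofId_apply]
  have hρ : ∀ (a : D ⊗[R] A) (d : D), Ideal.Quotient.mk I4 d = ρ a →
      algebraMap D Λ d - φ' a ∈ I4Λ := by
    have hle : ∀ x ∈ I4, ((Ideal.Quotient.mkₐ D I4Λ).comp (Algebra.ofId D Λ)) x = 0 := by
      have : I4 ≤ RingHom.ker ((Ideal.Quotient.mkₐ D I4Λ).comp (Algebra.ofId D Λ)).toRingHom := by
        rw [hI4, Ideal.span_le, Set.singleton_subset_iff]
        change Ideal.Quotient.mk I4Λ (algebraMap D Λ (algebraMap R D (π ^ 4))) = 0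
        rw [← IsScalarTower.algebraMap_apply, Ideal.Quotient.eq_zero_iff_mem, hI4Λ]
        exact Ideal.mem_span_singleton_self _
      exact fun x hx => this hx
    let δb : D ⧸ I4 →ₐ[D] Λ ⧸ I4Λ :=
      Ideal.Quotient.liftₐ I4 ((Ideal.Quotient.mkₐ D I4Λ).comp (Algebra.ofId D Λ)) hle
    have hδb : ∀ d : D, δb (Ideal.Quotient.mk I4 d) = Ideal.Quotient.mk I4Λ (δ d) := fun d => rfl
    have key : (Ideal.Quotient.mkₐ D I4Λ).comp φ' = δb.comp ρ := by
      apply Algebra.TensorProduct.ext'
      intro d a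
      rw [AlgHom.comp_apply, AlgHom.comp_apply, hφ', hρt, map_mul δb, hδb]
      change Ideal.Quotient.mk I4Λ (δ d * φ a) = _
      rw [map_mul]
      congr 1
      obtain ⟨e, he⟩ := Ideal.Quotient.mk_surjective (ψ a)
      rw [← he, hδb]
      exact ((Ideal.Quotient.eq).mpr (hψ a e he)).symm
    intro a d hd
    rw [← Ideal.Quotient.eq, hDΛ, ← hδb, hd]
    exact (congr($key a)).symm
  obtain ⟨B, _, _, hfp, α', β', hcomp, hsing⟩ := main' (R := D) (Λ := Λ) (A := D ⊗[R] A) πD hΛ' φ' hπ'
    I4 (by rw [hI4, hπD, map_pow]) I4Λ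
    (by rw [hI4Λ, hπD, ← map_pow, ← IsScalarTower.algebraMap_apply]) ρ hρ
  letI : Algebra R B := ((algebraMap D B).comp (algebraMap R D)).toAlgebra
  haveI : IsScalarTower R D B := .of_algebraMap_eq fun _ => rfl
  haveI hfpD : Algebra.FinitePresentation D B := hfp
  haveI hfpR : Algebra.FinitePresentation R B := Algebra.FinitePresentation.trans R D B
  haveI hD : IsNoetherianRing D := Algebra.FiniteType.isNoetherianRing R D
  have claim1 : ∀ d ∈ Smoothing.singularIdeal R D, algebraMap D B d ∈ Smoothing.singularIdeal D B := by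
    intro d hd
    haveI : Algebra.Smooth R (Localization.Away d) := DelocWeak.smooth_away_of_mem_singularIdeal d hd
    obtain ⟨N, hN⟩ := exists_pow_annihilator (R := R) (D := D) π hR d
    have h1 := hsing (d ^ N) hN
    rw [map_pow] at h1
    exact (PrimeSpectrum.isRadical_vanishingIdeal _) ⟨N, h1⟩
  have claim2 : ∀ d ∈ Smoothing.singularIdeal R D, algebraMap D B d ∈ Smoothing.singularIdeal R B := by
    intro d hd
    haveI : Algebra.Smooth R (Localization.Away d) := DelocWeak.smooth_away_of_mem_singularIdeal d hd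
    haveI : Algebra.Smooth D (Localization.Away (algebraMap D B d)) :=
      DelocWeak.smooth_away_of_mem_singularIdeal _ (claim1 d hd)
    haveI := formallySmooth_away_comp (R := R) (D := D) (B := B) d
    apply DelocWeak.mem_singularIdeal_of_forall
    intro Q _ hQ
    exact Desing.isSmoothAt_of_formallySmooth_away _ Q hQ
  refine ⟨B, inferInstance, inferInstance, inferInstance, inferInstance, hfpR,
    (α'.restrictScalars R).comp Algebra.TensorProduct.includeRight, β'.restrictScalars R,
    ?_, ?_, ?_, ?_⟩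
  · apply AlgHom.ext
    intro a
    change β' (α' ((1 : D) ⊗ₜ[R] a)) = φ a
    have := congr($hcomp ((1 : D) ⊗ₜ[R] a))
    rw [AlgHom.comp_apply] at this
    rw [this, hφ', map_one, one_mul]
  · apply AlgHom.ext
    intro d
    change β' (algebraMap D B d) = δ d
    rw [β'.commutes]
    rfl
  · rw [Ideal.map_le_iff_le_comap]
    exact fun d hd => claim1 d hd
  · rw [Ideal.map_le_iff_le_comap]
    exact fun d hd => claim2 d hd

theorem main {R Λ A D : Type u} [CommRing R] [IsNoetherianRing R]
    [CommRing Λ] [Algebra R Λ] (π : R) (hR : ∀ r : R, π ^ 2 * r = 0 → π * r = 0)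
    (hΛ : ∀ x : Λ, π ^ 2 • x = 0 → π • x = 0) [CommRing A] [Algebra R A]
    [CommRing D] [Algebra R D] [Algebra.FinitePresentation R D]
    (φ : A →ₐ[R] Λ) (δ : D →ₐ[R] Λ) (hπ : Smoothing.IsStrictlyStandard R A (algebraMap R A π))
    (ψ : A →ₐ[R] D ⧸ Ideal.span {algebraMap R D (π ^ 4)})
    (hψ : ∀ (a : A) (d : D), Ideal.Quotient.mk (Ideal.span {algebraMap R D (π ^ 4)}) d = ψ a →
      δ d - φ a ∈ Ideal.span {algebraMap R Λ (π ^ 4)}) :
    ∃ (B : Type u) (_ : CommRing B) (_ : Algebra R B) (_ : Algebra D B) (_ : IsScalarTower R D B),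
      Algebra.FinitePresentation R B ∧
      ∃ (α : A →ₐ[R] B) (β : B →ₐ[R] Λ), β.comp α = φ ∧
        β.comp (IsScalarTower.toAlgHom R D B) = δ ∧
        (Smoothing.singularIdeal R D).map (algebraMap D B) ≤ Smoothing.singularIdeal D B ∧
        (Smoothing.singularIdeal R D).map (algebraMap D B) ≤ Smoothing.singularIdeal R B :=
  main_aux π hR hΛ φ δ hπ _ rfl _ rfl ψ hψ

end Groth.Agent.Lib.R2H4.Desing2
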