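import Mathlib
import Groth.Prelude.Def_Curv2
import Groth.Agent.Lib.Helper4VarDim5
import Groth.Agent.Lib.Helper3LocDimBC
import Groth.Agent.Lib.Helper28FlatNormal

set_option autoImplicit false
universe u
open CategoryTheory CategoryTheory.Limits AlgebraicGeometry

namespace Groth.Agent.Lib.R2H4.DimBC

attribute [local instance] Curv2.stalkAlgebra Curv2.resAlgebra

theorem main (k : Type u) [Field k] (X : Scheme.{u}) [X.Over (Spec (CommRingCat.of k))]
    [LocallyOfFiniteType (X ↘ (Spec (CommRingCat.of k)))]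
    (K : Type u) [Field K] [Algebra k K] (y : ↥(Curv2.bc k X K)) (a a' : ℕ)
    (ha : Algebra.trdeg k (X.residueField (Curv2.bcFst k X K y)) = a)
    (ha' : letI : (Curv2.bc k X K).Over (Spec (CommRingCat.of K)) := ⟨Curv2.bcSnd k X K⟩
      Algebra.trdeg K ((Curv2.bc k X K).residueField y) = a') :
    ringKrullDim ((Curv2.bc k X K).presheaf.stalk y) + (a' : WithBot ℕ∞) =
        ringKrullDim (X.presheaf.stalk (Curv2.bcFst k X K y)) + (a : WithBot ℕ∞) ∧
      ringKrullDim (↥((Curv2.bc k X K).presheaf.stalk y) ⧸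
        Ideal.map ((Curv2.bcFst k X K).stalkMap y).hom
          (IsLocalRing.maximalIdeal ↥(X.presheaf.stalk (Curv2.bcFst k X K y)))) +
          (a' : WithBot ℕ∞) = (a : WithBot ℕ∞) := by
  let : (Curv2.bc k X K).Over (Spec (CommRingCat.of K)) := ⟨Curv2.bcSnd k X K⟩
  have hlft : LocallyOfFiniteType ((Curv2.bc k X K) ↘ Spec (CommRingCat.of K)) :=
    inferInstanceAs (LocallyOfFiniteType (pullback.snd _ _))
  set x := Curv2.bcFst k X K y with hx
  obtain ⟨b, hb⟩ := Groth.Agent.Lib.Helper4.VarDim.exists_ringKrullDim_stalk_eq k X x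
  obtain ⟨b', hb'⟩ := Groth.Agent.Lib.Helper4.VarDim.exists_ringKrullDim_stalk_eq K (Curv2.bc k X K) y
  have h1 := Groth.Agent.Lib.Helper4.VarDim.localDim_eq_add k X x a b ha hb
  have h2 := Groth.Agent.Lib.Helper4.VarDim.localDim_eq_add K (Curv2.bc k X K) y a' b' ha' hb'
  have hsubk : Subsingleton (Spec (CommRingCat.of k)) :=
    inferInstanceAs (Subsingleton (PrimeSpectrum k))
  have hsubK : Subsingleton (Spec (CommRingCat.of K)) :=
    inferInstanceAs (Subsingleton (PrimeSpectrum K))
  have h3 := Groth.Agent.Lib.Helper3.LocDimBC.localDim_eq_of_isPullback_onePoint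
    (X ↘ Spec (CommRingCat.of k)) (Curv2.bcSnd k X K) (Curv2.bcFst k X K)
    (Spec.map (CommRingCat.ofHom (algebraMap k K))) (IsPullback.of_hasPullback _ _) y
  rw [h2, ← hx, h1] at h3
  have h4 : a' + b' = a + b := by exact_mod_cast h3
  -- flat local homomorphism
  have hN : IsLocallyNoetherian X :=
    LocallyOfFiniteType.isLocallyNoetherian (X ↘ Spec (CommRingCat.of k))
  have hN' : IsLocallyNoetherian (Curv2.bc k X K) :=
    LocallyOfFiniteType.isLocallyNoetherian ((Curv2.bc k X K) ↘ Spec (CommRingCat.of K))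
  have hflat : Flat (Curv2.bcFst k X K) := inferInstanceAs (Flat (pullback.fst _ _))
  have hfl : ((Curv2.bcFst k X K).stalkMap y).hom.Flat := Flat.stalkMap _ y
  algebraize [((Curv2.bcFst k X K).stalkMap y).hom]
  have hloc : IsLocalHom (algebraMap (X.presheaf.stalk x) ((Curv2.bc k X K).presheaf.stalk y)) :=
    inferInstanceAs (IsLocalHom ((Curv2.bcFst k X K).stalkMap y).hom)
  have h5 := Groth.Agent.Lib.Helper28.ringKrullDim_eq_add_of_flat
    (R := X.presheaf.stalk x) (S := (Curv2.bc k X K).presheaf.stalk y)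
    (Ideal.map ((Curv2.bcFst k X K).stalkMap y).hom (IsLocalRing.maximalIdeal _)) rfl
  rw [hb, hb'] at h5
  constructor
  · rw [hb, hb']
    exact_mod_cast (by omega : b' + a' = b + a)
  · generalize ringKrullDim (↥((Curv2.bc k X K).presheaf.stalk y) ⧸
      Ideal.map ((Curv2.bcFst k X K).stalkMap y).hom
        (IsLocalRing.maximalIdeal ↥(X.presheaf.stalk x))) = c at h5 ⊢
    induction c using WithBot.recBotCoe with
    | bot => simp at h5
    | coe c =>
      induction c using ENat.recTopCoe with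
      | top =>
        exfalso
        have : ((⊤ : ℕ∞) : WithBot ℕ∞) + (b : WithBot ℕ∞) = ((⊤ : ℕ∞) : WithBot ℕ∞) := by
          rfl
        rw [this] at h5
        exact absurd h5 (by exact_mod_cast ENat.natCast_ne_top b')
      | coe c =>
        have h6 : b' = c + b := by exact_mod_cast h5
        exact_mod_cast (by omega : c + a' = a)

end Groth.Agent.Lib.R2H4.DimBC
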