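import Mathlib
import Groth.Prelude
import Groth.Agent.Lib.Helper22DiscPurity

set_option autoImplicit false
set_option linter.style.haveILetI false
universe u

/-!
# Discriminant purity, dimension form (helper4, round 2)

A finite flat morphism to a locally noetherian scheme which is étale over an open whose complement
consists of points with local ring of dimension `≥ 2` is étale.  Same proof as
`Groth.Agent.Lib.Helper22.DiscPurity.etale_of_flat`, with the Hartogs step replaced by Krull's
principal ideal theorem: a minimal prime over the discriminant has height `≤ 1`, so the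
corresponding point lies in the open, where the discriminant is invertible.

Namespace `Groth.Agent.Lib.R2H4DiscPurityDim`.
-/

namespace Groth.Agent.Lib.R2H4DiscPurityDim
open AlgebraicGeometry CategoryTheory CategoryTheory.Limits
open Groth.Agent.Lib.Helper22.DiscPurity

set_option backward.isDefEq.respectTransparency.types false in
theorem etale_app_of_free {X Y : Scheme.{u}} [IsLocallyNoetherian X] (π : Y ⟶ X) [IsFinite π]
    (U : X.Opens)
    (hU : ∀ x : X, x ∉ U → (2 : WithBot ℕ∞) ≤ ringKrullDim (X.presheaf.stalk x))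
    [Etale (pullback.snd π U.ι)] (W : X.Opens) (hW : IsAffineOpen W)
    (hfree : @Module.Free Γ(X, W) Γ(Y, π ⁻¹ᵁ W) _ _ (π.app W).hom.toAlgebra.toModule) :
    (π.app W).hom.Etale := by
  letI : Algebra Γ(X, W) Γ(Y, π ⁻¹ᵁ W) := (π.app W).hom.toAlgebra
  have hfin : Module.Finite Γ(X, W) Γ(Y, π ⁻¹ᵁ W) := π.finite_app W hW
  haveI : IsNoetherianRing Γ(X, W) := IsLocallyNoetherian.component_noetherian ⟨W, hW⟩
  classical
  let bas := Module.Free.chooseBasis Γ(X, W) Γ(Y, π ⁻¹ᵁ W)
  have hunit : IsUnit (Algebra.discr Γ(X, W) bas) := by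
    by_contra hnu
    have hne : Ideal.span {Algebra.discr Γ(X, W) bas} ≠ ⊤ := by
      rwa [Ne, Ideal.span_singleton_eq_top]
    obtain ⟨⟨p, hp⟩⟩ := Ideal.nonempty_minimalPrimes hne
    haveI hpp : p.IsPrime := hp.1.1
    have hht : p.height ≤ 1 :=
      Ideal.height_le_one_of_isPrincipal_of_mem_minimalPrimes _ p hp
    have hdp : Algebra.discr Γ(X, W) bas ∈ p := hp.1.2 (Ideal.subset_span rfl)
    let P : PrimeSpectrum Γ(X, W) := ⟨p, hpp⟩
    have hxW : hW.fromSpec P ∈ W := by
      have : hW.fromSpec P ∈ Set.range hW.fromSpec := ⟨P, rfl⟩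
      rwa [hW.range_fromSpec] at this
    by_cases hxU : hW.fromSpec P ∈ U
    · obtain ⟨g, hgU, hxg⟩ := hW.exists_basicOpen_le ⟨hW.fromSpec P, hxU⟩ hxW
      have h1 : P ∈ hW.fromSpec ⁻¹ᵁ X.basicOpen g := hxg
      rw [hW.fromSpec_preimage_basicOpen] at h1
      have hgp : g ∉ p := h1
      obtain ⟨u, n, hu⟩ := exists_mul_eq_pow π U W hW bas g hgU
      have : g ^ n ∈ p := hu ▸ p.mul_mem_right u hdp
      exact hgp (hpp.mem_of_pow_mem n this)
    · have h2 := hU _ hxU
      letI := TopCat.Presheaf.algebra_section_stalk X.presheaf ⟨hW.fromSpec P, hxW⟩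
      haveI : IsLocalization.AtPrime (X.presheaf.stalk (hW.fromSpec P)) p :=
        hW.isLocalization_stalk' P hxW
      rw [IsLocalization.AtPrime.ringKrullDim_eq_height p] at h2
      have h3 : (2 : WithBot ℕ∞) ≤ ((1 : ℕ∞) : WithBot ℕ∞) := h2.trans (WithBot.coe_le_coe.mpr hht)
      have h4 : ((2 : ℕ∞) : WithBot ℕ∞) ≤ ((1 : ℕ∞) : WithBot ℕ∞) := h3
      have h5 : (2 : ℕ∞) ≤ 1 := WithBot.coe_le_coe.mp h4
      exact absurd h5 (by norm_num)
  have : Algebra.Etale Γ(X, W) Γ(Y, π ⁻¹ᵁ W) :=
    (Groth.Agent.Lib.Helper20.TraceEt.etale_iff_isUnit_discr bas).mpr hunit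
  exact this

set_option backward.isDefEq.respectTransparency.types false in
theorem etale_of_flat {X : Scheme.{u}} [IsLocallyNoetherian X] (U : X.Opens)
    (hU : ∀ x : X, x ∉ U → (2 : WithBot ℕ∞) ≤ ringKrullDim (X.presheaf.stalk x))
    {Y : Scheme.{u}} (π : Y ⟶ X) [IsFinite π] [Etale (pullback.snd π U.ι)] [Flat π] :
    Etale π := by
  apply IsZariskiLocalAtTarget.of_forall_exists_morphismRestrict (P := @Etale)
  intro x
  obtain ⟨W', hW', hxW', hfree⟩ := exists_affine_free π x
  exact ⟨W', hxW', etale_restrict_of_app π W' hW' (etale_app_of_free π U hU W' hW' hfree)⟩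

/-- Version with the hypothesis stated for the restriction `π ∣_ U`. -/
theorem main {X Y : Scheme.{u}} [IsLocallyNoetherian Y] (f : X ⟶ Y) [IsFinite f] [Flat f]
    (U : Y.Opens)
    (hU : ∀ y : Y, y ∉ U → (2 : WithBot ℕ∞) ≤ ringKrullDim (Y.presheaf.stalk y))
    [Etale (f ∣_ U)] : Etale f := by
  haveI : Etale (pullback.snd f U.ι) := by
    have h := (MorphismProperty.cancel_left_of_respectsIso (P := @Etale)
      (pullbackRestrictIsoRestrict f U).hom (f ∣_ U)).mpr ‹_›
    rwa [pullbackRestrictIsoRestrict_hom_morphismRestrict] at h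
  exact etale_of_flat U hU f

end Groth.Agent.Lib.R2H4DiscPurityDim
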