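import Mathlib
import Groth.Prelude
import Groth.Agent.Lib.Helper8RefHullFT
import Groth.Agent.Lib.Helper23UnitStalk

/-!
# The dual of a finite type module has no embedded closed points on a reduced curve (helper4, round 2)

* `exists_nonZeroDivisor_mem_maximalIdeal`: in a reduced Noetherian local ring whose maximal ideal is
  not a minimal prime, the maximal ideal contains a nonzerodivisor.
* `maximalIdeal_notMem_minimalPrimes`: on a Noetherian scheme, the local ring at a closed, non-open
  point has a non-minimal maximal ideal.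
* `not_isAssPoint_dual`: the associated-point statement for `𝓗om(F, O_X)`.
-/

set_option autoImplicit false
universe u
open CategoryTheory CategoryTheory.Limits AlgebraicGeometry TopologicalSpace

namespace Groth.Agent.Lib.R2H4DualTF

/-- prime avoidance in a reduced Noetherian local ring -/
theorem exists_nonZeroDivisor_mem_maximalIdeal (R : Type u) [CommRing R] [IsLocalRing R]
    [IsNoetherianRing R] [IsReduced R]
    (hmin : IsLocalRing.maximalIdeal R ∉ minimalPrimes R) :
    ∃ a ∈ IsLocalRing.maximalIdeal R, a ∈ nonZeroDivisors R := by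
  classical
  have hfin : (minimalPrimes R).Finite := minimalPrimes.finite_of_isNoetherianRing R
  have hprime : ∀ p ∈ hfin.toFinset, (p : Ideal R).IsPrime := by
    intro p hp
    rw [Set.Finite.mem_toFinset] at hp
    exact hp.1.1
  have hav : ¬ ((IsLocalRing.maximalIdeal R : Set R) ⊆ ⋃ p ∈ (hfin.toFinset : Set (Ideal R)), (p : Set R)) := by
    intro hsub
    rw [Ideal.subset_union_prime (R := R) (s := hfin.toFinset) (f := fun p => p) ⊥ ⊥
      (fun p hp _ _ => hprime p hp)] at hsub
    obtain ⟨p, hp, hle⟩ := hsub
    rw [Set.Finite.mem_toFinset] at hp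
    have hp' : p.IsPrime := hp.1.1
    have heq : IsLocalRing.maximalIdeal R = p :=
      le_antisymm hle (IsLocalRing.le_maximalIdeal hp'.ne_top)
    exact hmin (heq ▸ hp)
  rw [Set.not_subset] at hav
  obtain ⟨a, ham, hanot⟩ := hav
  refine ⟨a, ham, ?_⟩
  rw [mem_nonZeroDivisors_iff_right]
  intro b hb
  have hb' : b ∈ sInf (minimalPrimes R) := by
    rw [Ideal.mem_sInf]
    intro p hp
    have hp' : p.IsPrime := hp.1.1
    have hab : b * a ∈ p := by rw [hb]; exact p.zero_mem
    rcases hp'.mem_or_mem hab with h | h
    · exact h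
    · exfalso
      apply hanot
      simp only [Set.mem_iUnion]
      exact ⟨p, by simpa using hp, h⟩
  have h1 : sInf (minimalPrimes R) = nilradical R := by
    change sInf (⊥ : Ideal R).minimalPrimes = _
    rw [Ideal.sInf_minimalPrimes]
    rfl
  rw [h1, nilradical_eq_zero] at hb'
  exact hb'

variable {X : Scheme.{u}}

/-- a point without proper generizations whose local ring has minimal maximal ideal -/
theorem eq_of_specializes_of_minimal (x : X)
    (hmin : IsLocalRing.maximalIdeal (X.presheaf.stalk x) ∈ minimalPrimes (X.presheaf.stalk x))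
    (y : X) (hy : y ⤳ x) : y = x := by
  have hy' : y ∈ Set.range (X.fromSpecStalk x) := by
    rw [Scheme.range_fromSpecStalk]
    exact hy
  obtain ⟨q, rfl⟩ := hy'
  have hq : q.asIdeal ≤ IsLocalRing.maximalIdeal (X.presheaf.stalk x) :=
    IsLocalRing.le_maximalIdeal q.2.ne_top
  have hle : IsLocalRing.maximalIdeal (X.presheaf.stalk x) ≤ q.asIdeal :=
    hmin.2 ⟨q.2, bot_le⟩ hq
  have hqe : q = IsLocalRing.closedPoint (X.presheaf.stalk x) :=
    PrimeSpectrum.ext (le_antisymm hq hle)
  rw [hqe]
  exact Scheme.fromSpecStalk_closedPoint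

/-- on a Noetherian scheme the local ring at a closed non-open point is not zero dimensional -/
theorem maximalIdeal_notMem_minimalPrimes [IsNoetherian X] (x : X) (hx : IsClosed ({x} : Set X))
    (hno : ¬ IsOpen ({x} : Set X)) :
    IsLocalRing.maximalIdeal (X.presheaf.stalk x) ∉ minimalPrimes (X.presheaf.stalk x) := by
  intro hmin
  apply hno
  have hZ : irreducibleComponent x ∈ irreducibleComponents X :=
    irreducibleComponent_mem_irreducibleComponents x
  obtain ⟨η, hη⟩ := QuasiSober.sober (isIrreducible_irreducibleComponent (x := x))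
    (isClosed_irreducibleComponent (x := x))
  have hxη : η ⤳ x := by
    rw [specializes_iff_mem_closure, hη.def]
    exact mem_irreducibleComponent
  have hηx : η = x := eq_of_specializes_of_minimal x hmin η hxη
  have hZx : irreducibleComponent x = {x} := by
    rw [← hη.def, hηx, hx.closure_eq]
  obtain ⟨o, ho, hne, hsub⟩ :=
    NoetherianSpace.exists_isOpen_nonempty_subset_irreducibleComponent (irreducibleComponent x) hZ
  rw [hZx] at hsub
  have : o = {x} := by
    apply Set.Subset.antisymm hsub
    obtain ⟨z, hz⟩ := hne
    have hzx : z = x := hsub hz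
    rw [Set.singleton_subset_iff, ← hzx]
    exact hz
  rw [← this]
  exact ho

/-- the dual of a finite type module has no associated point with a nonzerodivisor in the maximal ideal -/
theorem not_isAssPoint_dual [IsLocallyNoetherian X] (F : X.Modules) (hF : CohB1.IsFT F) (x : X)
    (a : X.presheaf.stalk x) (ham : a ∈ IsLocalRing.maximalIdeal (X.presheaf.stalk x))
    (ha : a ∈ nonZeroDivisors (X.presheaf.stalk x)) :
    ¬ Curv2.IsAssPoint (RefHull.dual F) x := by
  intro hass
  have hinj := Groth.Agent.Lib.Helper8RefHullFT.evalStalk_injective_of_isFT F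
    (Coh.structureModule X) hF x
  obtain ⟨hprime, θ, hθ⟩ := hass
  have ham' := ham
  rw [hθ, Ideal.mem_radical_iff] at ham'
  obtain ⟨n, hn⟩ := ham'
  rw [Submodule.mem_colon_singleton, Submodule.mem_bot] at hn
  have han : a ^ n ∈ nonZeroDivisors (X.presheaf.stalk x) := pow_mem ha n
  have hev : RefHull.evalStalk F (Coh.structureModule X) x θ = 0 := by
    apply LinearMap.ext
    intro v
    have h1 : a ^ n • (RefHull.evalStalk F (Coh.structureModule X) x θ v) = 0 := by
      rw [← LinearMap.smul_apply, ← map_smul, hn, map_zero, LinearMap.zero_apply]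
    set e := Groth.Agent.Lib.Helper23.UnitStalk.unitStalkEquiv x with he
    have h2 : a ^ n * e.symm (RefHull.evalStalk F (Coh.structureModule X) x θ v) = 0 := by
      rw [← smul_eq_mul, ← map_smul, h1, map_zero]
    have h3 : e.symm (RefHull.evalStalk F (Coh.structureModule X) x θ v) = 0 :=
      (mul_left_mem_nonZeroDivisors_eq_zero_iff han).1 h2
    rw [LinearMap.zero_apply]
    exact (LinearEquiv.map_eq_zero_iff e.symm).1 h3
  have hθ0 : θ = 0 := hinj (by rw [hev, map_zero])
  apply hprime.ne_top
  rw [hθ, hθ0]
  rw [Ideal.radical_eq_top, Ideal.eq_top_iff_one, Submodule.mem_colon_singleton]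
  simp

end Groth.Agent.Lib.R2H4DualTF
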