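import Mathlib
import Groth.Agent.Lib.Helper6OmProjA
import Groth.Agent.Lib.Helper6Jac
import Groth.Agent.Lib.Helper6SmReg
import Groth.Agent.Lib.Helper5RLR
import Groth.Agent.Lib.H9ClChart

/-!
# Smoothness at the special point from freeness of `Λ ⊗ Ω`  (helper4, round 2)

`R` a discrete valuation ring, `A` an `R`-algebra of finite type with a map `A → Λ` to a local domain,
smooth over `R` at `𝔮 = ker (A → Λ)`, with `Λ ⊗[A] Ω[A⁄R]` free.  Then `A` is smooth over `R` at the
inverse image `𝔭` of the maximal ideal of `Λ` (`main`).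

Proof: write `A = P/I`, `P` a polynomial ring.  Since the cokernel `Λ ⊗[A] Ω[A⁄R]` of
`Λ ⊗ I → Λ ⊗[P] Ω[P⁄R]` is free, one can choose `g₁, …, g_c ∈ I` whose differentials span the image
and are linearly independent modulo the maximal ideal of `Λ` (`exists_equations`).  By the Jacobian
criterion (helper6), `B' = P/(g)` is smooth at the closed point of `Λ`, hence its local ring there is
a regular local ring, in particular a domain.  The differentials of all elements of `I/(g)` vanish in
`Λ ⊗ Ω[B'⁄R]`, so by the Jacobian criterion at the generic point `𝔮`, `I/(g)` vanishes in `B'_𝔮`;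
as the local ring of `B'` at `𝔭` is a domain mapping to `Λ`, `I/(g)` vanishes there as well, and
`A_𝔭 = B'_𝔭` is smooth.
-/

set_option autoImplicit false
set_option linter.style.haveILetI false
universe u
open TensorProduct IsLocalRing KaehlerDifferential

namespace Groth.Agent.Lib.R2H4.DvrFreeKaehler

/-- Local algebra selection lemma: if `Φ : V → W` is a surjection from a finite module onto a
projective module over a local ring and `w` is a family spanning `ker Φ`, then finitely many of
the `w i` span `ker Φ` and are linearly independent modulo the maximal ideal. -/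
theorem exists_fin_span_eq_ker {Λ : Type u} [CommRing Λ] [IsLocalRing Λ] {V W : Type u}
    [AddCommGroup V] [Module Λ V] [Module.Finite Λ V] [AddCommGroup W] [Module Λ W]
    [Module.Projective Λ W] (Φ : V →ₗ[Λ] W) (hΦ : Function.Surjective Φ) {ι : Type u}
    (w : ι → V) (hw : Submodule.span Λ (Set.range w) = LinearMap.ker Φ) :
    ∃ (c : ℕ) (g : Fin c → ι), Submodule.span Λ (Set.range (w ∘ g)) = LinearMap.ker Φ ∧
      LinearIndependent (ResidueField Λ)
        (fun a => (1 : ResidueField Λ) ⊗ₜ[Λ] w (g a)) := by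
  classical
  -- the projection onto `ker Φ`
  obtain ⟨σ, hσ⟩ := Module.projective_lifting_property Φ LinearMap.id hΦ
  let p : V →ₗ[Λ] V := LinearMap.id - σ ∘ₗ Φ
  have hp_mem : ∀ x, p x ∈ LinearMap.ker Φ := by
    intro x
    have := LinearMap.congr_fun hσ (Φ x)
    simp only [LinearMap.coe_comp, Function.comp_apply, LinearMap.id_coe, id_eq] at this
    simp [p, this]
  have hp_id : ∀ x ∈ LinearMap.ker Φ, p x = x := by
    intro x hx
    simp [p, LinearMap.mem_ker.1 hx]
  have hrange : LinearMap.range p = LinearMap.ker Φ := by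
    apply le_antisymm
    · rintro _ ⟨x, rfl⟩; exact hp_mem x
    · intro x hx; exact ⟨x, hp_id x hx⟩
  have hNfg : (LinearMap.ker Φ).FG := by
    rw [← hrange, LinearMap.range_eq_map]
    exact Module.Finite.fg_top.map p
  -- the family in `k ⊗ V`
  let k := ResidueField Λ
  let u : ι → k ⊗[Λ] V := fun i => (1 : k) ⊗ₜ[Λ] w i
  obtain ⟨f, hf_mem, hf_span, hf_li⟩ := Submodule.exists_fun_fin_finrank_span_eq k (Set.range u)
  choose g hg using hf_mem
  refine ⟨_, g, ?_, ?_⟩
  swap
  · have : (fun a => (1 : k) ⊗ₜ[Λ] w (g a)) = f := funext fun a => hg a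
    rw [this]; exact hf_li
  -- Nakayama
  have hle : Submodule.span Λ (Set.range (w ∘ g)) ≤ LinearMap.ker Φ := by
    rw [← hw]
    refine Submodule.span_mono ?_
    rintro _ ⟨a, rfl⟩
    exact ⟨g a, rfl⟩
  refine le_antisymm hle ?_
  refine Submodule.le_of_le_smul_of_le_jacobson_bot (I := maximalIdeal Λ) hNfg
    (IsLocalRing.maximalIdeal_le_jacobson _) ?_
  refine hw.symm.le.trans (Submodule.span_le.2 ?_)
  rintro _ ⟨i, rfl⟩
  -- `1 ⊗ w i` lies in the `k`-span of the `1 ⊗ w (g a)`
  have h1 : u i ∈ Submodule.span k (Set.range f) := by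
    rw [hf_span]; exact Submodule.subset_span ⟨i, rfl⟩
  obtain ⟨cbar, hcbar⟩ := (Submodule.mem_span_range_iff_exists_fun k).1 h1
  have hres : Function.Surjective (algebraMap Λ k) := IsLocalRing.residue_surjective
  choose cc hcc using fun a => hres (cbar a)
  let y : V := w i - ∑ a, cc a • w (g a)
  have hy0 : (1 : k) ⊗ₜ[Λ] y = 0 := by
    simp only [y, TensorProduct.tmul_sub, TensorProduct.tmul_sum]
    rw [sub_eq_zero]
    show u i = _
    rw [← hcbar]
    refine Finset.sum_congr rfl fun a _ => ?_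
    rw [← hg a, ← hcc a, TensorProduct.tmul_smul, TensorProduct.smul_tmul',
      TensorProduct.smul_tmul', Algebra.algebraMap_eq_smul_one, smul_assoc, one_smul]
  have hy1 : y ∈ (maximalIdeal Λ) • (⊤ : Submodule Λ V) := by
    have := Groth.Agent.Lib.Helper6.OmProj.ker_mk_eq_smul_top (P := Λ) (R := k) (M := V) hres
    have hk : RingHom.ker (algebraMap Λ k) = maximalIdeal Λ := IsLocalRing.ker_residue
    rw [hk] at this
    rw [← this, LinearMap.mem_ker]
    exact hy0
  have hwi : w i ∈ LinearMap.ker Φ := by rw [← hw]; exact Submodule.subset_span ⟨i, rfl⟩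
  have hyN : y ∈ LinearMap.ker Φ := by
    refine Submodule.sub_mem _ hwi (Submodule.sum_mem _ fun a _ => Submodule.smul_mem _ _ ?_)
    rw [← hw]; exact Submodule.subset_span ⟨g a, rfl⟩
  have hy2 : y ∈ (maximalIdeal Λ) • LinearMap.ker Φ := by
    have hpy : p y ∈ Submodule.map p ((maximalIdeal Λ) • (⊤ : Submodule Λ V)) := ⟨y, hy1, rfl⟩
    rw [Submodule.map_smul'', Submodule.map_top, hrange, hp_id y hyN] at hpy
    exact hpy
  have : w i = ∑ a, cc a • w (g a) + y := by simp [y]
  rw [this]
  refine Submodule.add_mem _ (Submodule.mem_sup_left ?_) (Submodule.mem_sup_right hy2)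
  exact Submodule.sum_mem _ fun a _ => Submodule.smul_mem _ _ (Submodule.subset_span ⟨a, rfl⟩)

section KF

variable {X K : Type u} [CommRing X] [Field K] [Algebra X K] (𝔯 : Ideal X) [𝔯.IsPrime]
  (h𝔯 : 𝔯 = RingHom.ker (algebraMap X K))

/-- the field homomorphism `κ(𝔯) → K` for `𝔯 = ker (X → K)` -/
noncomputable def resToField : 𝔯.ResidueField →+* K :=
  Ideal.ResidueField.lift 𝔯 (algebraMap X K) h𝔯.le (by
    intro x hx
    rw [Submonoid.mem_comap, IsUnit.mem_submonoid_iff, isUnit_iff_ne_zero]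
    intro h0
    have hmem : x ∈ 𝔯 := by rw [h𝔯]; exact RingHom.mem_ker.2 h0
    exact hx hmem)

@[simp] lemma resToField_algebraMap (x : X) :
    resToField 𝔯 h𝔯 (algebraMap X 𝔯.ResidueField x) = algebraMap X K x :=
  Ideal.ResidueField.lift_algebraMap _ _ _ _ _

variable {M : Type u} [AddCommGroup M] [Module X M]

/-- the `X`-linear form of `resToField` -/
noncomputable def resToFieldₗ : 𝔯.ResidueField →ₗ[X] K where
  toFun := resToField 𝔯 h𝔯
  map_add' := map_add _
  map_smul' x a := by
    simp only [Algebra.smul_def, map_mul, resToField_algebraMap, RingHom.id_apply]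

/-- the comparison map `κ(𝔯) ⊗ M → K ⊗ M` -/
noncomputable def resTensor : 𝔯.ResidueField ⊗[X] M →ₗ[X] K ⊗[X] M :=
  (resToFieldₗ 𝔯 h𝔯).rTensor M

@[simp] lemma resTensor_tmul (c : 𝔯.ResidueField) (m : M) :
    resTensor 𝔯 h𝔯 (c ⊗ₜ[X] m) = resToField 𝔯 h𝔯 c ⊗ₜ[X] m := rfl

lemma resTensor_smul (c : 𝔯.ResidueField) (t : 𝔯.ResidueField ⊗[X] M) :
    resTensor 𝔯 h𝔯 (c • t) = resToField 𝔯 h𝔯 c • resTensor 𝔯 h𝔯 t := by
  induction t using TensorProduct.induction_on with
  | zero => simp
  | tmul a m =>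
    rw [TensorProduct.smul_tmul', resTensor_tmul, resTensor_tmul, TensorProduct.smul_tmul',
      smul_eq_mul, smul_eq_mul, map_mul]
  | add x y hx hy => rw [smul_add, map_add, map_add, smul_add, hx, hy]

include h𝔯 in
/-- linear independence descends from `K` to `κ(𝔯)` -/
theorem li_residueField {ι : Type*} (m : ι → M)
    (h : LinearIndependent K (fun a => (1 : K) ⊗ₜ[X] m a)) :
    LinearIndependent 𝔯.ResidueField (fun a => (1 : 𝔯.ResidueField) ⊗ₜ[X] m a) := by
  rw [linearIndependent_iff'] at h ⊢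
  intro s c hc i hi
  have h1 := congrArg (resTensor 𝔯 h𝔯) hc
  rw [map_sum, map_zero] at h1
  have h2 : ∑ a ∈ s, resToField 𝔯 h𝔯 (c a) • ((1 : K) ⊗ₜ[X] m a) = 0 := by
    rw [← h1]
    refine Finset.sum_congr rfl fun a _ => ?_
    rw [resTensor_smul, resTensor_tmul, map_one]
  have h3 := h s (fun a => resToField 𝔯 h𝔯 (c a)) h2 i hi
  exact (map_eq_zero (resToField 𝔯 h𝔯)).1 h3

/-- `resTensor` is injective -/
theorem resTensor_injective : Function.Injective (resTensor (M := M) 𝔯 h𝔯) := by
  letI : Algebra 𝔯.ResidueField K := (resToField 𝔯 h𝔯).toAlgebra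
  haveI : IsScalarTower X 𝔯.ResidueField K := IsScalarTower.of_algebraMap_eq fun x => by
    rw [RingHom.algebraMap_toAlgebra, resToField_algebraMap]
  have h1 : Function.Injective (TensorProduct.mk 𝔯.ResidueField K (𝔯.ResidueField ⊗[X] M) 1) :=
    Module.FaithfullyFlat.tensorProduct_mk_injective _
  let e := TensorProduct.AlgebraTensorModule.cancelBaseChange X 𝔯.ResidueField K K M
  have h2 : ∀ t, resTensor 𝔯 h𝔯 t = e ((1 : K) ⊗ₜ[𝔯.ResidueField] t) := by
    intro t
    induction t using TensorProduct.induction_on with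
    | zero => simp
    | tmul a m =>
      rw [resTensor_tmul, TensorProduct.AlgebraTensorModule.cancelBaseChange_tmul,
        Algebra.smul_def, mul_one]
      rfl
    | add x y hx hy => rw [map_add, TensorProduct.tmul_add, map_add, hx, hy]
  intro t t' htt'
  rw [h2, h2] at htt'
  exact h1 (e.injective htt')

include h𝔯 in
theorem tmul_eq_zero_residueField (m : M) (h : (1 : K) ⊗ₜ[X] m = 0) :
    (1 : 𝔯.ResidueField) ⊗ₜ[X] m = 0 := by
  apply resTensor_injective 𝔯 h𝔯
  rw [resTensor_tmul, map_one, map_zero, h]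

end KF

section tower

variable {X Λ L : Type u} [CommRing X] [CommRing Λ] [CommRing L] [Algebra X Λ] [Algebra X L]
  [Algebra Λ L] [IsScalarTower X Λ L] {M : Type u} [AddCommGroup M] [Module X M]

theorem tmul_eq_zero_of_tower (m : M) (h : (1 : Λ) ⊗ₜ[X] m = 0) : (1 : L) ⊗ₜ[X] m = 0 := by
  have := congrArg ((IsScalarTower.toAlgHom X Λ L).toLinearMap.rTensor M) h
  simpa using this

end tower

section SEL

variable (R : Type u) {P A Λ : Type u} [CommRing R] [CommRing P] [CommRing A] [CommRing Λ]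
  [Algebra R P] [Algebra R A] [Algebra P A] [IsScalarTower R P A]
  [Algebra A Λ] [Algebra P Λ] [IsScalarTower P A Λ] [IsLocalRing Λ]

/-- Selection of equations: if `Λ ⊗[A] Ω[A⁄R]` is projective over the local ring `Λ` and `A = P/I`,
there are finitely many `g a ∈ I` whose differentials span (over `Λ`) all differentials of
elements of `I` in `Λ ⊗[P] Ω[P⁄R]`, and are linearly independent modulo the maximal ideal. -/
theorem exists_equations [Module.Finite P Ω[P⁄R]] [Module.Projective Λ (Λ ⊗[A] Ω[A⁄R])]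
    (hsurj : Function.Surjective (algebraMap P A)) :
    ∃ (c : ℕ) (g : Fin c → RingHom.ker (algebraMap P A)),
      (∀ x ∈ RingHom.ker (algebraMap P A), (1 : Λ) ⊗ₜ[P] D R P x ∈
        Submodule.span Λ (Set.range fun a => (1 : Λ) ⊗ₜ[P] D R P (g a : P))) ∧
      LinearIndependent (ResidueField Λ)
        (fun a => (1 : ResidueField Λ) ⊗ₜ[P] D R P (g a : P)) := by
  classical
  let k := ResidueField Λ
  let V₁ := Λ ⊗[A] (A ⊗[P] Ω[P⁄R])
  let Φ₁ : V₁ →ₗ[Λ] Λ ⊗[A] Ω[A⁄R] := (mapBaseChange R P A).baseChange Λ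
  have hΦ₁ : Function.Surjective Φ₁ := by
    have := LinearMap.lTensor_surjective Λ (mapBaseChange_surjective R P A hsurj)
    intro x; exact this x
  let w : RingHom.ker (algebraMap P A) → V₁ := fun x => (1 : Λ) ⊗ₜ[A] ((1 : A) ⊗ₜ[P] D R P x)
  have hw : Submodule.span Λ (Set.range w) = LinearMap.ker Φ₁ := by
    apply le_antisymm
    · rw [Submodule.span_le]
      rintro _ ⟨x, rfl⟩
      rw [SetLike.mem_coe, LinearMap.mem_ker]
      have hx0 : algebraMap P A (x : P) = 0 := RingHom.mem_ker.1 x.2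
      show (mapBaseChange R P A).baseChange Λ ((1 : Λ) ⊗ₜ[A] ((1 : A) ⊗ₜ[P] D R P (x : P))) = 0
      rw [LinearMap.baseChange_tmul, mapBaseChange_tmul, one_smul, map_D, hx0, map_zero,
        TensorProduct.tmul_zero]
    · intro z hz
      -- a free cover of the kernel of `mapBaseChange`
      let f : (RingHom.ker (algebraMap P A) →₀ A) →ₗ[A] A ⊗[P] Ω[P⁄R] :=
        Finsupp.linearCombination A (fun x : RingHom.ker (algebraMap P A) =>
          (1 : A) ⊗ₜ[P] D R P (x : P))
      have hfx : ∀ x : RingHom.ker (algebraMap P A),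
          mapBaseChange R P A ((1 : A) ⊗ₜ[P] D R P (x : P)) = 0 := by
        intro x
        have hx0 : algebraMap P A (x : P) = 0 := RingHom.mem_ker.1 x.2
        rw [mapBaseChange_tmul, one_smul, map_D, hx0, map_zero]
      have hex0 : Function.Exact f (mapBaseChange R P A) := by
        intro y
        constructor
        · intro hy
          have hy' : y ∈ (LinearMap.ker (mapBaseChange R P A)).restrictScalars P := hy
          rw [← range_kerCotangentToTensor R P A hsurj] at hy'
          obtain ⟨t, rfl⟩ := hy'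
          obtain ⟨x, rfl⟩ := Ideal.toCotangent_surjective _ t
          rw [kerCotangentToTensor_toCotangent]
          exact ⟨Finsupp.single x 1, by simp [f]⟩
        · rintro ⟨cf, rfl⟩
          simp only [f, Finsupp.linearCombination_apply, Finsupp.sum, map_sum, map_smul, hfx,
            smul_zero, Finset.sum_const_zero]
      have hex := lTensor_exact Λ hex0 (mapBaseChange_surjective R P A hsurj)
      have hall : ∀ y, LinearMap.lTensor Λ f y ∈ Submodule.span Λ (Set.range w) := by
        intro y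
        induction y using TensorProduct.induction_on with
        | zero => simp
        | tmul l cf =>
          rw [LinearMap.lTensor_tmul]
          simp only [f, Finsupp.linearCombination_apply, Finsupp.sum, TensorProduct.tmul_sum]
          refine Submodule.sum_mem _ fun x _ => ?_
          have : l ⊗ₜ[A] (cf x • ((1 : A) ⊗ₜ[P] D R P (x : P))) = (cf x • l) • w x := by
            rw [TensorProduct.tmul_smul, TensorProduct.smul_tmul', TensorProduct.smul_tmul',
              smul_eq_mul, mul_one]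
          rw [this]
          exact Submodule.smul_mem _ _ (Submodule.subset_span ⟨x, rfl⟩)
        | add y y' hy hy' =>
          rw [map_add]
          exact Submodule.add_mem _ hy hy'
      have hz' : LinearMap.lTensor Λ (mapBaseChange R P A) z = 0 := hz
      obtain ⟨y, rfl⟩ := (hex z).1 hz'
      exact hall y
  obtain ⟨c, g, hspan, hli⟩ := exists_fin_span_eq_ker Φ₁ hΦ₁ w hw
  refine ⟨c, g, ?_, ?_⟩
  · -- spanning
    intro x hx
    let e := TensorProduct.AlgebraTensorModule.cancelBaseChange P A Λ Λ Ω[P⁄R]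
    have he : ∀ y : RingHom.ker (algebraMap P A), e (w y) = (1 : Λ) ⊗ₜ[P] D R P (y : P) := by
      intro y
      simp [e, w]
    have h1 : w ⟨x, hx⟩ ∈ Submodule.span Λ (Set.range (w ∘ g)) := by
      rw [hspan, ← hw]; exact Submodule.subset_span ⟨_, rfl⟩
    have h2 := Submodule.mem_map_of_mem (f := e.toLinearMap) h1
    rw [Submodule.map_span, ← Set.range_comp] at h2
    have h3 : (⇑e.toLinearMap ∘ w ∘ g) = fun a => (1 : Λ) ⊗ₜ[P] D R P (g a : P) := by
      funext a; exact he (g a)
    rw [h3] at h2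
    have h4 : e.toLinearMap (w ⟨x, hx⟩) = (1 : Λ) ⊗ₜ[P] D R P x := he ⟨x, hx⟩
    rw [h4] at h2
    exact h2
  · -- independence
    let E₁ := TensorProduct.AlgebraTensorModule.cancelBaseChange A Λ k k (A ⊗[P] Ω[P⁄R])
    let E₂ := TensorProduct.AlgebraTensorModule.cancelBaseChange P A k k Ω[P⁄R]
    have hE : ∀ y : RingHom.ker (algebraMap P A),
        (E₁.trans E₂) ((1 : k) ⊗ₜ[Λ] w y) = (1 : k) ⊗ₜ[P] D R P (y : P) := by
      intro y
      simp [E₁, E₂, w]
    have := hli.map' (E₁.trans E₂).toLinearMap (LinearMap.ker_eq_bot.2 (E₁.trans E₂).injective)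
    have h5 : (fun a => (1 : k) ⊗ₜ[P] D R P (g a : P)) =
        (⇑(E₁.trans E₂).toLinearMap ∘ fun a => (1 : k) ⊗ₜ[Λ] w (g a)) :=
      funext fun a => (hE (g a)).symm
    rw [h5]
    exact this

end SEL

/-- reindexing a linearly independent family by the finset of its parameters -/
theorem li_finset_image {K V X : Type*} [Field K] [AddCommGroup V] [Module K V] {c : ℕ}
    [DecidableEq X] (v : X → V) (g : Fin c → X) (h : LinearIndependent K (fun a => v (g a))) :
    LinearIndependent K (fun x : ↥(Finset.univ.image g) => v x.1) := by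
  have hex : ∀ x : ↥(Finset.univ.image g), ∃ a, g a = x.1 := by
    intro x
    obtain ⟨a, -, ha⟩ := Finset.mem_image.1 x.2
    exact ⟨a, ha⟩
  choose e he using hex
  have hinj : Function.Injective e := by
    intro x y hxy
    apply Subtype.ext
    rw [← he x, ← he y, hxy]
  have := h.comp e hinj
  convert this using 1
  funext x
  simp only [Function.comp_apply, he]

/-- (Step 2) the Jacobian criterion at the closed point of `Λ`. -/
theorem isSmoothAt_quotient_of_li {R P Λ : Type u} [CommRing R] [IsNoetherianRing R] [CommRing P]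
    [Algebra R P] [Algebra.FiniteType R P] [Algebra.FormallySmooth R P] [CommRing Λ]
    [IsLocalRing Λ] [Algebra P Λ] {c : ℕ} (g : Fin c → P)
    (hli : LinearIndependent (ResidueField Λ)
      (fun a => (1 : ResidueField Λ) ⊗ₜ[P] D R P (g a)))
    [Algebra (P ⧸ Ideal.span (Set.range g)) Λ]
    [IsScalarTower P (P ⧸ Ideal.span (Set.range g)) Λ] :
    Algebra.IsSmoothAt R
      ((maximalIdeal Λ).comap (algebraMap (P ⧸ Ideal.span (Set.range g)) Λ)) := by
  classical
  -- the prime of `P`
  have hq : (maximalIdeal Λ).comap (algebraMap P Λ) =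
      ((maximalIdeal Λ).comap (algebraMap (P ⧸ Ideal.span (Set.range g)) Λ)).comap
        (Ideal.Quotient.mk (Ideal.span (Set.range g))) := by
    rw [Ideal.comap_comap]
    congr 1
    ext x
    exact IsScalarTower.algebraMap_apply P (P ⧸ Ideal.span (Set.range g)) Λ x
  have h𝔯 : (maximalIdeal Λ).comap (algebraMap P Λ) =
      RingHom.ker (algebraMap P (ResidueField Λ)) := by
    ext x
    rw [Ideal.mem_comap, RingHom.mem_ker, IsScalarTower.algebraMap_apply P Λ (ResidueField Λ)]
    exact (IsLocalRing.residue_eq_zero_iff _).symm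
  have hli' := li_residueField ((maximalIdeal Λ).comap (algebraMap P Λ)) h𝔯
    (fun a => D R P (g a)) hli
  refine (Groth.Agent.Lib.Helper6.Jac.isSmoothAt_quotient_iff R P (Ideal.span (Set.range g)) _
    ((maximalIdeal Λ).comap (algebraMap P Λ)) hq).2 ⟨Finset.univ.image g, ?_, ?_, ?_⟩
  · intro x hx
    obtain ⟨a, -, rfl⟩ := Finset.mem_image.1 (Finset.mem_coe.1 hx)
    exact Ideal.subset_span ⟨a, rfl⟩
  · rw [Ideal.map_span]
    congr 2
    ext x
    simp
  · exact li_finset_image
      (fun x : P => (1 : ((maximalIdeal Λ).comap (algebraMap P Λ)).ResidueField) ⊗ₜ[P] D R P x)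
      g hli'

/-- (Step 3) smoothness at a prime passes to generizations. -/
theorem isSmoothAt_of_le {R B : Type u} [CommRing R] [CommRing B] [Algebra R B]
    [Algebra.FinitePresentation R B] (𝔮 𝔭 : Ideal B) [𝔮.IsPrime] [𝔭.IsPrime] (h : 𝔮 ≤ 𝔭)
    [Algebra.IsSmoothAt R 𝔭] : Algebra.IsSmoothAt R 𝔮 := by
  obtain ⟨f, hf, hsm⟩ := Algebra.IsSmoothAt.exists_notMem_smooth R 𝔭
  have h1 : (PrimeSpectrum.basicOpen f : Set (PrimeSpectrum B)) ⊆ Algebra.smoothLocus R B := by
    rw [Algebra.basicOpen_subset_smoothLocus_iff_smooth]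
    exact hsm
  have h2 : (⟨𝔮, inferInstance⟩ : PrimeSpectrum B) ∈
      (PrimeSpectrum.basicOpen f : Set (PrimeSpectrum B)) := by
    show f ∉ 𝔮
    exact fun hfq => hf (h hfq)
  exact h1 h2

section step456

variable {R B Λ : Type u} [CommRing R] [IsRegularRing R] [CommRing B] [Algebra R B]
  [Algebra.FiniteType R B] [CommRing Λ] [IsDomain Λ] [IsLocalRing Λ] [Algebra B Λ]
  (I : Ideal B) [Algebra (B ⧸ I) Λ] [IsScalarTower B (B ⧸ I) Λ]

/-- (Steps 4-6) if `B` is smooth at the closed point of `Λ`, `B/I` is smooth at the generic point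
of `Λ` and all differentials of elements of `I` vanish in `Λ ⊗ Ω[B⁄R]`, then `I` vanishes at the
closed point, and `B/I` is smooth there. -/
theorem isSmoothAt_quotient_of_tmul_eq_zero
    [(RingHom.ker (algebraMap B Λ)).IsPrime] [(RingHom.ker (algebraMap (B ⧸ I) Λ)).IsPrime]
    [Algebra.IsSmoothAt R ((maximalIdeal Λ).comap (algebraMap B Λ))]
    [Algebra.IsSmoothAt R (RingHom.ker (algebraMap (B ⧸ I) Λ))]
    (hD : ∀ x ∈ I, (1 : Λ) ⊗ₜ[B] D R B x = 0) :
    Algebra.IsSmoothAt R ((maximalIdeal Λ).comap (algebraMap (B ⧸ I) Λ)) := by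
  classical
  haveI : IsNoetherianRing R := inferInstance
  haveI : Algebra.FinitePresentation R B :=
    (Algebra.FinitePresentation.of_finiteType (R := R) (A := B)).mp inferInstance
  have hcomp : ∀ x : B, algebraMap (B ⧸ I) Λ (Ideal.Quotient.mk I x) = algebraMap B Λ x :=
    fun x => (IsScalarTower.algebraMap_apply B (B ⧸ I) Λ x).symm
  -- the primes of `B`
  have hq𝔮 : RingHom.ker (algebraMap B Λ) =
      (RingHom.ker (algebraMap (B ⧸ I) Λ)).comap (Ideal.Quotient.mk I) := by
    ext x
    rw [Ideal.mem_comap, RingHom.mem_ker, RingHom.mem_ker, hcomp]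
  have hq𝔭 : (maximalIdeal Λ).comap (algebraMap B Λ) =
      ((maximalIdeal Λ).comap (algebraMap (B ⧸ I) Λ)).comap (Ideal.Quotient.mk I) := by
    ext x
    rw [Ideal.mem_comap, Ideal.mem_comap, Ideal.mem_comap, hcomp]
  have hle : RingHom.ker (algebraMap B Λ) ≤ (maximalIdeal Λ).comap (algebraMap B Λ) := by
    intro x hx
    rw [Ideal.mem_comap, RingHom.mem_ker.1 hx]
    exact Ideal.zero_mem _
  haveI : Algebra.IsSmoothAt R (RingHom.ker (algebraMap B Λ)) :=
    isSmoothAt_of_le _ _ hle
  -- Step 4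
  obtain ⟨s, hsI, hmap, hli⟩ := (Groth.Agent.Lib.Helper6.Jac.isSmoothAt_quotient_iff R B I
    (RingHom.ker (algebraMap (B ⧸ I) Λ)) (RingHom.ker (algebraMap B Λ)) hq𝔮).1 inferInstance
  let L := FractionRing Λ
  haveI : IsScalarTower B Λ L := inferInstance
  have h𝔯 : RingHom.ker (algebraMap B Λ) = RingHom.ker (algebraMap B L) := by
    ext x
    rw [RingHom.mem_ker, RingHom.mem_ker, IsScalarTower.algebraMap_apply B Λ L,
      map_eq_zero_iff _ (IsFractionRing.injective Λ L)]
  have hs : s = ∅ := by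
    apply Finset.eq_empty_of_forall_notMem
    intro x hx
    have h1 := hli.ne_zero ⟨x, hx⟩
    apply h1
    exact tmul_eq_zero_residueField (RingHom.ker (algebraMap B Λ)) h𝔯 (D R B x)
      (tmul_eq_zero_of_tower (D R B x) (hD x (hsI hx)))
  have hmap0 : Ideal.map (algebraMap B (Localization.AtPrime (RingHom.ker (algebraMap B Λ)))) I
      = ⊥ := by
    rw [hmap, hs]; simp
  -- Step 5
  haveI : IsRegularLocalRing
      (Localization.AtPrime ((maximalIdeal Λ).comap (algebraMap B Λ))) :=
    Groth.Agent.Lib.Helper6.SmReg.isRegularLocalRing_of_isSmoothAt (R := R) _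
  haveI : IsDomain (Localization.AtPrime ((maximalIdeal Λ).comap (algebraMap B Λ))) :=
    Groth.Agent.Lib.Helper5.isDomain_of_isRegularLocalRing _
  have hmapT : Ideal.map
      (algebraMap B (Localization.AtPrime ((maximalIdeal Λ).comap (algebraMap B Λ)))) I = ⊥ := by
    rw [eq_bot_iff, Ideal.map_le_iff_le_comap]
    intro x hx
    rw [Ideal.mem_comap, Ideal.mem_bot]
    have h0 : algebraMap B (Localization.AtPrime (RingHom.ker (algebraMap B Λ))) x = 0 := by
      have : algebraMap B (Localization.AtPrime (RingHom.ker (algebraMap B Λ))) x ∈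
          Ideal.map (algebraMap B (Localization.AtPrime (RingHom.ker (algebraMap B Λ)))) I :=
        Ideal.mem_map_of_mem _ hx
      rw [hmap0] at this
      exact this
    obtain ⟨u, hu⟩ := (IsLocalization.map_eq_zero_iff
      (RingHom.ker (algebraMap B Λ)).primeCompl _ x).1 h0
    have hu' : algebraMap B (Localization.AtPrime ((maximalIdeal Λ).comap (algebraMap B Λ)))
        (u : B) * algebraMap B _ x = 0 := by
      rw [← map_mul, hu, map_zero]
    rcases mul_eq_zero.1 hu' with h | h
    · exfalso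
      obtain ⟨v, hv⟩ := (IsLocalization.map_eq_zero_iff
        ((maximalIdeal Λ).comap (algebraMap B Λ)).primeCompl _ (u : B)).1 h
      have hv1 : algebraMap B Λ (v : B) * algebraMap B Λ (u : B) = 0 := by
        rw [← map_mul, hv, map_zero]
      have hv2 : algebraMap B Λ (v : B) ≠ 0 := by
        intro h0
        apply v.2
        show (v : B) ∈ (maximalIdeal Λ).comap (algebraMap B Λ)
        rw [Ideal.mem_comap, h0]
        exact Ideal.zero_mem _
      have hu0 : algebraMap B Λ (u : B) = 0 := (mul_eq_zero.1 hv1).resolve_left hv2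
      exact u.2 (RingHom.mem_ker.2 hu0)
    · exact h
  -- Step 6
  refine (Groth.Agent.Lib.Helper6.Jac.isSmoothAt_quotient_iff R B I
    ((maximalIdeal Λ).comap (algebraMap (B ⧸ I) Λ)) ((maximalIdeal Λ).comap (algebraMap B Λ))
    hq𝔭).2 ⟨∅, by simp, by simpa using hmapT, ?_⟩
  exact linearIndependent_empty_type

end step456

theorem isSmoothAt_congr {R B : Type u} [CommRing R] [CommRing B] [Algebra R B] {p q : Ideal B}
    [p.IsPrime] [q.IsPrime] (h : p = q) (hp : Algebra.IsSmoothAt R p) : Algebra.IsSmoothAt R q := by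
  subst h
  exact hp

/-- vanishing of the differentials of the elements of `ker (B' → A)` for `B' = P/(g)`, once the
`1 ⊗ d(g a)` span all `1 ⊗ dx`, `x ∈ ker (P → A)`. -/
theorem tmul_D_eq_zero {R P B' A Λ : Type u} [CommRing R] [CommRing P] [CommRing B'] [CommRing A]
    [CommRing Λ] [Algebra R P] [Algebra R B'] [Algebra P B'] [IsScalarTower R P B']
    [Algebra P A] [Algebra B' A] [IsScalarTower P B' A]
    [Algebra P Λ] [Algebra B' Λ] [IsScalarTower P B' Λ]
    (hsurj : Function.Surjective (algebraMap P B'))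
    {c : ℕ} (g : Fin c → P) (hg : ∀ a, algebraMap P B' (g a) = 0)
    (hspan : ∀ x ∈ RingHom.ker (algebraMap P A), (1 : Λ) ⊗ₜ[P] D R P x ∈
      Submodule.span Λ (Set.range fun a => (1 : Λ) ⊗ₜ[P] D R P (g a)))
    (x : B') (hx : x ∈ RingHom.ker (algebraMap B' A)) : (1 : Λ) ⊗ₜ[B'] D R B' x = 0 := by
  obtain ⟨p, rfl⟩ := hsurj x
  have hp : p ∈ RingHom.ker (algebraMap P A) := by
    rw [RingHom.mem_ker, IsScalarTower.algebraMap_apply P B' A]
    exact RingHom.mem_ker.1 hx
  let μ : Λ ⊗[P] Ω[P⁄R] →ₗ[Λ] Λ ⊗[B'] Ω[B'⁄R] :=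
    (mapBaseChange R P B').baseChange Λ ∘ₗ
      (TensorProduct.AlgebraTensorModule.cancelBaseChange P B' Λ Λ Ω[P⁄R]).symm.toLinearMap
  have hμ : ∀ y : P, μ ((1 : Λ) ⊗ₜ[P] D R P y) = (1 : Λ) ⊗ₜ[B'] D R B' (algebraMap P B' y) := by
    intro y
    simp [μ]
  have hle : Submodule.span Λ (Set.range fun a => (1 : Λ) ⊗ₜ[P] D R P (g a)) ≤
      LinearMap.ker μ := by
    rw [Submodule.span_le]
    rintro _ ⟨a, rfl⟩
    rw [SetLike.mem_coe, LinearMap.mem_ker, hμ, hg, map_zero, TensorProduct.tmul_zero]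
  have := hle (hspan p hp)
  rw [LinearMap.mem_ker, hμ] at this
  exact this

set_option maxHeartbeats 1000000 in
/-- the main argument, for an abstract smooth ambient algebra `P` -/
theorem main_aux {R P A Λ : Type u} [CommRing R] [IsDomain R] [IsDiscreteValuationRing R]
    [CommRing P] [Algebra R P] [Algebra.FiniteType R P] [Algebra.FormallySmooth R P]
    [CommRing Λ] [IsDomain Λ] [IsLocalRing Λ] [CommRing A] [Algebra R A]
    [Algebra P A] [IsScalarTower R P A] [Algebra A Λ] [Algebra P Λ] [IsScalarTower P A Λ]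
    [(RingHom.ker (algebraMap A Λ)).IsPrime]
    (hq : Algebra.IsSmoothAt R (RingHom.ker (algebraMap A Λ)))
    (hsurj : Function.Surjective (algebraMap P A))
    {c : ℕ} (g : Fin c → P) (hg : ∀ a, algebraMap P A (g a) = 0)
    (hspan : ∀ x ∈ RingHom.ker (algebraMap P A), (1 : Λ) ⊗ₜ[P] D R P x ∈
      Submodule.span Λ (Set.range fun a => (1 : Λ) ⊗ₜ[P] D R P (g a)))
    (hli : LinearIndependent (ResidueField Λ)
      (fun a => (1 : ResidueField Λ) ⊗ₜ[P] D R P (g a))) :
    Algebra.IsSmoothAt R ((maximalIdeal Λ).comap (algebraMap A Λ)) := by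
  classical
  have hJ₀ : ∀ x ∈ Ideal.span (Set.range g), (IsScalarTower.toAlgHom R P A) x = 0 := by
    intro x hx
    have hle : Ideal.span (Set.range g) ≤ RingHom.ker (algebraMap P A) := by
      rw [Ideal.span_le]
      rintro _ ⟨a, rfl⟩
      exact RingHom.mem_ker.2 (hg a)
    exact RingHom.mem_ker.1 (hle hx)
  let φb : (P ⧸ Ideal.span (Set.range g)) →ₐ[R] A :=
    Ideal.Quotient.liftₐ (Ideal.span (Set.range g)) (IsScalarTower.toAlgHom R P A) hJ₀
  have hφb : ∀ x : P, φb (Ideal.Quotient.mk _ x) = algebraMap P A x := fun x => rfl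
  letI : Algebra (P ⧸ Ideal.span (Set.range g)) A := φb.toRingHom.toAlgebra
  haveI : IsScalarTower P (P ⧸ Ideal.span (Set.range g)) A :=
    IsScalarTower.of_algebraMap_eq fun x => (hφb x).symm
  letI : Algebra (P ⧸ Ideal.span (Set.range g)) Λ :=
    ((algebraMap A Λ).comp φb.toRingHom).toAlgebra
  haveI : IsScalarTower (P ⧸ Ideal.span (Set.range g)) A Λ := IsScalarTower.of_algebraMap_eq' rfl
  haveI : IsScalarTower P (P ⧸ Ideal.span (Set.range g)) Λ :=
    IsScalarTower.of_algebraMap_eq fun x => by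
      rw [IsScalarTower.algebraMap_apply P A Λ]
      rfl
  -- Step 2
  haveI h2 : Algebra.IsSmoothAt R
      ((maximalIdeal Λ).comap (algebraMap (P ⧸ Ideal.span (Set.range g)) Λ)) :=
    isSmoothAt_quotient_of_li (R := R) g hli
  -- the quotient `B' / ker φb ≃ A`
  have hφbsurj : Function.Surjective φb := by
    intro a
    obtain ⟨p, rfl⟩ := hsurj a
    exact ⟨Ideal.Quotient.mk _ p, hφb p⟩
  let e : ((P ⧸ Ideal.span (Set.range g)) ⧸ RingHom.ker φb) ≃ₐ[R] A :=
    Ideal.quotientKerAlgEquivOfSurjective hφbsurj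
  have he : ∀ x, e (Ideal.Quotient.mk _ x) = φb x := fun x => rfl
  letI : Algebra ((P ⧸ Ideal.span (Set.range g)) ⧸ RingHom.ker φb) Λ :=
    ((algebraMap A Λ).comp e.toAlgHom.toRingHom).toAlgebra
  have halg : ∀ y, algebraMap ((P ⧸ Ideal.span (Set.range g)) ⧸ RingHom.ker φb) Λ y =
      algebraMap A Λ (e y) := fun y => rfl
  haveI : IsScalarTower (P ⧸ Ideal.span (Set.range g))
      ((P ⧸ Ideal.span (Set.range g)) ⧸ RingHom.ker φb) Λ :=
    by
      refine IsScalarTower.of_algebraMap_eq (R := P ⧸ Ideal.span (Set.range g))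
        (S := (P ⧸ Ideal.span (Set.range g)) ⧸ RingHom.ker φb) (A := Λ) (fun x => ?_)
      show algebraMap (P ⧸ Ideal.span (Set.range g)) Λ x =
        algebraMap ((P ⧸ Ideal.span (Set.range g)) ⧸ RingHom.ker φb) Λ (Ideal.Quotient.mk _ x)
      rw [halg, he]
      rfl
  haveI : (RingHom.ker (algebraMap (P ⧸ Ideal.span (Set.range g)) Λ)).IsPrime :=
    RingHom.ker_isPrime _
  haveI : (RingHom.ker
      (algebraMap ((P ⧸ Ideal.span (Set.range g)) ⧸ RingHom.ker φb) Λ)).IsPrime :=
    RingHom.ker_isPrime _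
  -- smoothness of `B' / ker φb` at the generic point
  haveI h1 : Algebra.IsSmoothAt R
      (RingHom.ker (algebraMap ((P ⧸ Ideal.span (Set.range g)) ⧸ RingHom.ker φb) Λ)) := by
    haveI := hq
    have := Groth.Agent.Lib.H9ClChart.isSmoothAt_comap_algEquiv R _ A e
      (RingHom.ker (algebraMap A Λ))
    refine isSmoothAt_congr ?_ this
    ext y
    rw [Ideal.mem_comap, RingHom.mem_ker, RingHom.mem_ker, halg]
    rfl
  -- vanishing of differentials
  have hD : ∀ x ∈ RingHom.ker φb,
      (1 : Λ) ⊗ₜ[P ⧸ Ideal.span (Set.range g)] D R (P ⧸ Ideal.span (Set.range g)) x = 0 := by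
    intro x hx
    have hg0 : ∀ a, algebraMap P (P ⧸ Ideal.span (Set.range g)) (g a) = 0 := fun a =>
      Ideal.Quotient.eq_zero_iff_mem.2 (Ideal.subset_span (Set.mem_range_self a))
    exact tmul_D_eq_zero (R := R) (P := P) (A := A) Ideal.Quotient.mk_surjective g hg0 hspan x hx
  have h456 := isSmoothAt_quotient_of_tmul_eq_zero (R := R) (B := P ⧸ Ideal.span (Set.range g))
    (Λ := Λ) (RingHom.ker φb) hD
  -- transport back to `A`
  haveI := h456
  have := Groth.Agent.Lib.H9ClChart.isSmoothAt_comap_algEquiv R A _ e.symm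
    ((maximalIdeal Λ).comap (algebraMap ((P ⧸ Ideal.span (Set.range g)) ⧸ RingHom.ker φb) Λ))
  refine isSmoothAt_congr ?_ this
  ext y
  rw [Ideal.mem_comap, Ideal.mem_comap, Ideal.mem_comap, halg]
  show algebraMap A Λ (e (e.symm y)) ∈ _ ↔ _
  rw [AlgEquiv.apply_symm_apply]

/-- **Main theorem**: smoothness at the closed point of `Λ` from smoothness at its generic point
and freeness of `Λ ⊗ Ω`. -/
theorem main {R Λ A : Type u} [CommRing R] [IsDomain R] [IsDiscreteValuationRing R] [CommRing Λ]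
    [IsDomain Λ] [IsLocalRing Λ] [CommRing A] [Algebra R A] [Algebra.FiniteType R A]
    [Algebra A Λ] [(RingHom.ker (algebraMap A Λ)).IsPrime]
    (hq : Algebra.IsSmoothAt R (RingHom.ker (algebraMap A Λ)))
    (hfree : Module.Free Λ (Λ ⊗[A] Ω[A⁄R])) :
    Algebra.IsSmoothAt R ((maximalIdeal Λ).comap (algebraMap A Λ)) := by
  classical
  obtain ⟨n, φ, hφ⟩ := Algebra.FiniteType.iff_quotient_mvPolynomial''.mp
    (inferInstance : Algebra.FiniteType R A)
  letI : Algebra (MvPolynomial (Fin n) R) A := φ.toRingHom.toAlgebra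
  haveI : IsScalarTower R (MvPolynomial (Fin n) R) A :=
    IsScalarTower.of_algebraMap_eq' φ.comp_algebraMap.symm
  letI : Algebra (MvPolynomial (Fin n) R) Λ :=
    ((algebraMap A Λ).comp φ.toRingHom).toAlgebra
  haveI : IsScalarTower (MvPolynomial (Fin n) R) A Λ := IsScalarTower.of_algebraMap_eq' rfl
  have hsurj : Function.Surjective (algebraMap (MvPolynomial (Fin n) R) A) := hφ
  obtain ⟨c, g, hspan, hli⟩ := exists_equations R (P := MvPolynomial (Fin n) R) (A := A)
    (Λ := Λ) hsurj
  exact main_aux (R := R) (A := A) (Λ := Λ) hq hsurj (fun a => (g a : MvPolynomial (Fin n) R))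
    (fun a => RingHom.mem_ker.1 (g a).2) hspan hli

end Groth.Agent.Lib.R2H4.DvrFreeKaehler
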