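import Mathlib
import Groth.Agent.Lib.Helper5RLR
import Groth.Agent.Lib.Helper6SmReg

/-!
# Unramified DVR quasi-sections through smooth rational points over a DVR (helper4, round 2)

* `uniformizer_notMem_sq`: for a formally smooth local algebra `L` over a DVR `B` with trivial residue
  field extension, a uniformizer of `B` is not in `𝔪_L²` (lift `L → κ` to `L → B/π²`).
* `exists_quotient_dvr`: in a regular local ring, `t ∈ 𝔪 ∖ 𝔪²` is the uniformizer of a quotient DVR
  (complete `t` to a regular system of parameters and kill the rest).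
* `main17023` (= S17023).
-/

set_option autoImplicit false
set_option linter.style.haveILetI false
universe u
open IsLocalRing Module

namespace Groth.Agent.Lib.R2H4.DvrSection

/-- A formally smooth local algebra `L` over a DVR `B` with the same residue field:
the uniformizer of `B` is not in the square of the maximal ideal of `L`. -/
theorem uniformizer_notMem_sq (B : Type u) [CommRing B] [IsDomain B] [IsDiscreteValuationRing B]
    (L : Type u) [CommRing L] [IsLocalRing L] [Algebra B L] [Algebra.FormallySmooth B L]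
    (hres : Function.Surjective ((IsLocalRing.residue L).comp (algebraMap B L)))
    (hloc : ∀ b ∈ maximalIdeal B, algebraMap B L b ∈ maximalIdeal L)
    (π : B) (hπ : Irreducible π) : algebraMap B L π ∉ maximalIdeal L ^ 2 := by
  intro hmem
  have hspan : maximalIdeal B = Ideal.span {π} :=
    (IsDiscreteValuationRing.irreducible_iff_uniformizer π).mp hπ
  set I : Ideal B := Ideal.span {π} ^ 2 with hI
  let C := B ⧸ I
  -- the residue map as a `B`-algebra hom
  let f : L →ₐ[B] ResidueField L := IsScalarTower.toAlgHom B L (ResidueField L)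
  have hI0 : ∀ a ∈ I, algebraMap B (ResidueField L) a = 0 := by
    intro a ha
    have h1 : a ∈ Ideal.span {π} := Ideal.pow_le_self two_ne_zero ha
    rw [← hspan] at h1
    rw [IsScalarTower.algebraMap_apply B L (ResidueField L)]
    exact (residue_eq_zero_iff _).mpr (hloc a h1)
  let g : C →ₐ[B] ResidueField L :=
    Ideal.Quotient.liftₐ I (Algebra.ofId B (ResidueField L)) hI0
  have hg_mk : ∀ b : B, g (Ideal.Quotient.mk I b) = algebraMap B (ResidueField L) b := fun b => rfl
  have hgs : Function.Surjective g := by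
    intro y
    obtain ⟨b, hb⟩ := hres y
    refine ⟨Ideal.Quotient.mk I b, ?_⟩
    rw [hg_mk, IsScalarTower.algebraMap_apply B L (ResidueField L)]
    exact hb
  have hker : ∀ c : C, g c = 0 → ∃ b ∈ Ideal.span {π}, c = Ideal.Quotient.mk I b := by
    intro c hc
    obtain ⟨b, rfl⟩ := Ideal.Quotient.mk_surjective c
    refine ⟨b, ?_, rfl⟩
    rw [hg_mk, IsScalarTower.algebraMap_apply B L (ResidueField L)] at hc
    have h2 : algebraMap B L b ∈ maximalIdeal L := (residue_eq_zero_iff _).mp hc
    rw [← hspan]
    by_contra hb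
    have hu : IsUnit b := by
      by_contra hnu
      exact hb ((mem_maximalIdeal b).mpr hnu)
    exact (mem_maximalIdeal _).mp h2 (hu.map (algebraMap B L))
  have hnil : IsNilpotent (RingHom.ker (g : C →+* ResidueField L)) := by
    refine ⟨2, ?_⟩
    rw [Ideal.zero_eq_bot, eq_bot_iff, pow_two, Ideal.mul_le]
    intro x hx y hy
    obtain ⟨a, ha, rfl⟩ := hker x hx
    obtain ⟨b, hb, rfl⟩ := hker y hy
    rw [← map_mul, Ideal.mem_bot, Ideal.Quotient.eq_zero_iff_mem, hI, pow_two]
    exact Ideal.mul_mem_mul ha hb
  let φ : L →ₐ[B] C := Algebra.FormallySmooth.liftOfSurjective f g hgs hnil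
  have hφ : g.comp φ = f := Algebra.FormallySmooth.comp_liftOfSurjective f g hgs hnil
  have hφm : ∀ x ∈ maximalIdeal L, φ x ∈ RingHom.ker (g : C →+* ResidueField L) := by
    intro x hx
    rw [RingHom.mem_ker]
    have := congr($hφ x)
    simp only [AlgHom.comp_apply] at this
    change g (φ x) = 0
    rw [this]
    exact (residue_eq_zero_iff _).mpr hx
  have hφ2 : ∀ x ∈ maximalIdeal L ^ 2, φ x = 0 := by
    intro x hx
    have h1 : (maximalIdeal L ^ 2).map (φ : L →+* C) ≤
        RingHom.ker (g : C →+* ResidueField L) ^ 2 := by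
      rw [Ideal.map_pow]
      exact Ideal.pow_right_mono (Ideal.map_le_iff_le_comap.mpr hφm) 2
    have h2 : φ x ∈ RingHom.ker (g : C →+* ResidueField L) ^ 2 :=
      h1 (Ideal.mem_map_of_mem _ hx)
    obtain ⟨n, hn⟩ := hnil
    have h3 : RingHom.ker (g : C →+* ResidueField L) ^ 2 = ⊥ := by
      rw [eq_bot_iff, pow_two, Ideal.mul_le]
      intro x hx y hy
      obtain ⟨a, ha, rfl⟩ := hker x hx
      obtain ⟨b, hb, rfl⟩ := hker y hy
      rw [← map_mul, Ideal.mem_bot, Ideal.Quotient.eq_zero_iff_mem, hI, pow_two]
      exact Ideal.mul_mem_mul ha hb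
    rw [h3] at h2
    exact h2
  have h0 : φ (algebraMap B L π) = 0 := hφ2 _ hmem
  rw [AlgHom.commutes] at h0
  have h1 : π ∈ I := Ideal.Quotient.eq_zero_iff_mem.mp h0
  rw [hI, Ideal.span_singleton_pow, Ideal.mem_span_singleton] at h1
  obtain ⟨c, hc⟩ := h1
  have h2 : π * (1 - π * c) = 0 := by
    rw [mul_sub, mul_one, ← mul_assoc, ← pow_two, ← hc, sub_self]
  rcases mul_eq_zero.mp h2 with h | h
  · exact hπ.ne_zero h
  · have : IsUnit (π * c) := by
      rw [sub_eq_zero] at h
      rw [← h]; exact isUnit_one
    exact hπ.not_isUnit (isUnit_of_mul_isUnit_left this)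

open Groth.Agent.Lib.Helper5 in
/-- In a regular local ring, an element `t ∈ 𝔪 ∖ 𝔪²` is a uniformizer of a quotient which is a
discrete valuation ring. -/
theorem exists_quotient_dvr (L : Type u) [CommRing L] [IsRegularLocalRing L] (t : L)
    (ht : t ∈ maximalIdeal L) (ht2 : t ∉ maximalIdeal L ^ 2) :
    ∃ J : Ideal L, J ≤ maximalIdeal L ∧ ∃ (_ : IsDomain (L ⧸ J))
      (_ : IsDiscreteValuationRing (L ⧸ J)),
      maximalIdeal (L ⧸ J) = Ideal.span {Ideal.Quotient.mk J t} := by
  classical
  set k := ResidueField L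
  set V := CotangentSpace L
  set tb : V := (maximalIdeal L).toCotangent ⟨t, ht⟩ with htb
  have htb0 : tb ≠ 0 := by
    rw [htb, Ne, Ideal.toCotangent_eq_zero]
    exact ht2
  obtain ⟨W, hW⟩ := Submodule.exists_isCompl (Submodule.span k {tb})
  let b := Module.finBasis k W
  set r := finrank k W with hr
  have hsurj := (maximalIdeal L).toCotangent_surjective
  choose x hx using fun i : Fin r => hsurj (b i : V)
  have hli : LinearIndependent k (fun i => (maximalIdeal L).toCotangent (x i)) := by
    simp_rw [hx]
    exact b.linearIndependent.map' W.subtype (Submodule.ker_subtype W)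
  set J : Ideal L := Ideal.span (Set.range fun i => (x i : L)) with hJ
  haveI hloc : IsLocalRing (L ⧸ J) := isLocalRing_quotient_span_range x
  obtain ⟨hreg, hdim⟩ := isRegularLocalRing_quotient_of_linearIndependent x hli
  have hJle : J ≤ maximalIdeal L := span_range_le_maximalIdeal x
  -- dimension count
  have hV : (finrank k V : WithBot ℕ∞) = ringKrullDim L :=
    (IsRegularLocalRing.iff_finrank_cotangentSpace L).mp inferInstance
  have h1 : finrank k (Submodule.span k {tb}) = 1 := finrank_span_singleton htb0
  have hsum : finrank k (Submodule.span k {tb}) + finrank k W = finrank k V :=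
    Submodule.finrank_add_eq_of_isCompl hW
  have hdim1 : ringKrullDim (L ⧸ J) = 1 := by
    rw [← hV, ← hsum, h1] at hdim
    obtain ⟨d', hd'⟩ := exists_nat_ringKrullDim_eq (L ⧸ J)
    rw [hd'] at hdim ⊢
    have : d' + r = 1 + r := by exact_mod_cast hdim
    have : d' = 1 := by omega
    rw [this]; rfl
  haveI hdom : IsDomain (L ⧸ J) := isDomain_of_isRegularLocalRing (L ⧸ J)
  -- the maximal ideal
  have hspanV : Submodule.span k ((maximalIdeal L).toCotangent ''
      ({⟨t, ht⟩} ∪ Set.range x : Set (maximalIdeal L))) = ⊤ := by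
    rw [Set.image_union, Set.image_singleton, Submodule.span_union, ← Set.range_comp]
    have : Set.range ((maximalIdeal L).toCotangent ∘ x) = Set.range (fun i => (b i : V)) := by
      congr 1
      funext i
      exact hx i
    rw [this]
    have hb : Submodule.span k (Set.range fun i => (b i : V)) = W := by
      have h2 : (fun i => (b i : V)) = W.subtype ∘ b := rfl
      rw [h2, Set.range_comp, ← Submodule.map_span, b.span_eq, Submodule.map_top,
        Submodule.range_subtype]
    rw [hb]
    exact hW.sup_eq_top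
  have hspanL := CotangentSpace.span_image_eq_top_iff.mp hspanV
  have hm : maximalIdeal L = Ideal.span ({t} ∪ Set.range fun i => (x i : L)) := by
    have h0 := congrArg (Submodule.map (maximalIdeal L).subtype) hspanL
    rw [Submodule.map_span, Submodule.map_top, Submodule.range_subtype, Set.image_union,
      Set.image_singleton, ← Set.range_comp] at h0
    exact h0.symm
  have hmQ : maximalIdeal (L ⧸ J) = Ideal.span {Ideal.Quotient.mk J t} := by
    rw [maximalIdeal_quotient_eq_map J, hm, Ideal.map_span, Set.image_union, Set.image_singleton,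
      Ideal.span_union]
    have : Ideal.span (Ideal.Quotient.mk J '' Set.range fun i => (x i : L)) = ⊥ := by
      rw [Ideal.span_eq_bot]
      rintro _ ⟨_, ⟨i, rfl⟩, rfl⟩
      exact Ideal.Quotient.eq_zero_iff_mem.mpr (Ideal.subset_span ⟨i, rfl⟩)
    rw [this, sup_bot_eq]
  have hnf : ¬ IsField (L ⧸ J) := by
    intro hf
    have := ringKrullDim_eq_zero_of_isField hf
    rw [hdim1] at this
    exact one_ne_zero this
  have hprin : (maximalIdeal (L ⧸ J)).IsPrincipal := ⟨⟨Ideal.Quotient.mk J t, hmQ⟩⟩
  have hdvr : IsDiscreteValuationRing (L ⧸ J) :=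
    ((IsDiscreteValuationRing.TFAE (L ⧸ J) hnf).out 0 4).mpr hprin
  exact ⟨J, hJle, hdom, hdvr, hmQ⟩

open Groth.Agent.Lib.Helper5 in
set_option maxHeartbeats 800000 in
theorem main17023 (B : Type u) [CommRing B] [IsDomain B] [IsDiscreteValuationRing B]
    (A : Type u) [CommRing A] [Algebra B A] [Algebra.FiniteType B A]
    (p : Ideal A) [p.IsPrime] (hp : p.comap (algebraMap B A) = IsLocalRing.maximalIdeal B)
    [Algebra.IsSmoothAt B p]
    (hres : Function.Surjective ((algebraMap A p.ResidueField).comp (algebraMap B A))) :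
    ∃ (B' : Type u) (_ : CommRing B') (_ : IsDomain B') (_ : IsDiscreteValuationRing B')
      (ψ : A →+* B'),
      Ideal.comap ψ (IsLocalRing.maximalIdeal B') = p ∧
      Function.Injective (ψ.comp (algebraMap B A)) ∧
      Ideal.map (ψ.comp (algebraMap B A)) (IsLocalRing.maximalIdeal B) =
        IsLocalRing.maximalIdeal B' ∧
      Function.Surjective ((IsLocalRing.residue B').comp (ψ.comp (algebraMap B A))) := by
  set L := Localization.AtPrime p with hL
  haveI : Algebra.FinitePresentation B A :=
    Algebra.FinitePresentation.of_finiteType.mp inferInstance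
  haveI : IsRegularLocalRing L := Groth.Agent.Lib.Helper6.SmReg.isRegularLocalRing_of_isSmoothAt (R := B) p
  obtain ⟨π, hπ⟩ := IsDiscreteValuationRing.exists_irreducible B
  have hspan : maximalIdeal B = Ideal.span {π} :=
    (IsDiscreteValuationRing.irreducible_iff_uniformizer π).mp hπ
  have hloc : ∀ b ∈ maximalIdeal B, algebraMap B L b ∈ maximalIdeal L := by
    intro b hb
    rw [IsScalarTower.algebraMap_apply B A L]
    rw [← hp] at hb
    exact (IsLocalization.AtPrime.to_map_mem_maximal_iff L p _).mpr hb
  have hresL : Function.Surjective ((residue L).comp (algebraMap B L)) := by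
    intro y
    obtain ⟨b, hb⟩ := hres y
    refine ⟨b, ?_⟩
    rw [← hb]
    simp only [RingHom.comp_apply]
    rw [IsScalarTower.algebraMap_apply B A L]
    rfl
  have hπm : π ∈ maximalIdeal B := by
    rw [hspan]; exact Ideal.mem_span_singleton_self π
  have ht : algebraMap B L π ∈ maximalIdeal L := hloc π hπm
  have ht2 := uniformizer_notMem_sq B L hresL hloc π hπ
  obtain ⟨J, hJ, hd, hv, hm⟩ := exists_quotient_dvr L _ ht ht2
  let ψ : A →+* L ⧸ J := (Ideal.Quotient.mk J).comp (algebraMap A L)
  have hψB : ∀ b : B, ψ (algebraMap B A b) = Ideal.Quotient.mk J (algebraMap B L b) := by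
    intro b
    simp only [ψ, RingHom.comp_apply]
    rw [← IsScalarTower.algebraMap_apply B A L]
  have hmem : ∀ l : L, Ideal.Quotient.mk J l ∈ maximalIdeal (L ⧸ J) ↔ l ∈ maximalIdeal L :=
    fun l => mk_mem_maximalIdeal_quotient_iff J l
  refine ⟨L ⧸ J, inferInstance, hd, hv, ψ, ?_, ?_, ?_, ?_⟩
  · ext a
    rw [Ideal.mem_comap]
    simp only [ψ, RingHom.comp_apply]
    rw [hmem]
    exact IsLocalization.AtPrime.to_map_mem_maximal_iff L p a
  · rw [injective_iff_map_eq_zero]
    intro b hb
    by_contra hb0
    obtain ⟨n, u, hu⟩ := IsDiscreteValuationRing.eq_unit_mul_pow_irreducible hb0 hπ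
    rw [RingHom.comp_apply, hψB, hu, map_mul, map_mul, map_pow] at hb
    have hunit : IsUnit (Ideal.Quotient.mk J (algebraMap B L (u : B))) :=
      (u.isUnit.map (algebraMap B L)).map (Ideal.Quotient.mk J)
    have h1 : (Ideal.Quotient.mk J (algebraMap B L π)) ^ n = 0 :=
      (hunit.mul_right_eq_zero).mp hb
    have h2 : Ideal.Quotient.mk J (algebraMap B L π) = 0 := pow_eq_zero_iff
      (fun h => by rw [h, pow_zero] at h1; exact one_ne_zero h1) |>.mp h1
    have h3 : maximalIdeal (L ⧸ J) = ⊥ := by
      rw [hm, h2, Ideal.span_singleton_eq_bot]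
    exact IsDiscreteValuationRing.not_isField (L ⧸ J)
      (IsLocalRing.isField_iff_maximalIdeal_eq.mpr h3)
  · rw [hspan, Ideal.map_span, Set.image_singleton, RingHom.comp_apply, hψB, hm]
  · intro y
    obtain ⟨q, rfl⟩ := residue_surjective y
    obtain ⟨l, rfl⟩ := Ideal.Quotient.mk_surjective q
    obtain ⟨b, hb⟩ := hresL (residue L l)
    refine ⟨b, ?_⟩
    simp only [RingHom.comp_apply] at hb ⊢
    rw [hψB]
    rw [← sub_eq_zero, ← map_sub, residue_eq_zero_iff] at hb ⊢
    rw [← map_sub, hmem]
    exact hb

end Groth.Agent.Lib.R2H4.DvrSection
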