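import Mathlib
import Groth.Agent.Lib.R2H4Desing2
import Groth.Agent.Lib.R2H4SingStd

set_option autoImplicit false
set_option linter.style.haveILetI false
set_option linter.unusedSimpArgs false
universe u
open MvPolynomial

namespace Groth.Agent.Lib.R2H4.LiftLemma

open Groth.Agent.Lib.R2H4

/-- Nakayama via Cayley–Hamilton, general ideal. -/
theorem exists_kill' {B : Type*} [CommRing B] (J : Ideal B) (hJ : J.FG) (d : B) (I : Ideal B)
    (h : ∀ x ∈ J, d * x ∈ I * J) :
    ∃ (E : B) (k : ℕ), (∀ x ∈ J, E * x = 0) ∧ E - d ^ k ∈ I := by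
  haveI : Module.Finite B J := Module.Finite.iff_fg.mpr hJ
  let f : Module.End B J := algebraMap B (Module.End B J) d
  have hIJ : I * J = Submodule.map (Submodule.subtype J) (I • (⊤ : Submodule B J)) := by
    rw [Submodule.map_smul'', Submodule.map_top, Submodule.range_subtype]
    rfl
  have hf : LinearMap.range f ≤ I • (⊤ : Submodule B J) := by
    rintro _ ⟨x, rfl⟩
    have hx := h x.1 x.2
    rw [hIJ] at hx
    obtain ⟨y, hy, hyx⟩ := hx
    have : f x = y := by
      apply Subtype.ext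
      exact hyx.symm
    rw [this]
    exact hy
  obtain ⟨q, hq, -, hqc, hq0⟩ :=
    LinearMap.exists_monic_and_natDegree_eq_and_coeff_mem_pow_and_aeval_eq_zero B f _ hf
  refine ⟨Polynomial.eval d q, q.natDegree, ?_, ?_⟩
  · intro x hx
    have h1 : Polynomial.aeval f q = algebraMap B (Module.End B J) (Polynomial.aeval d q) :=
      Polynomial.aeval_algebraMap_apply (Module.End B J) d q
    have h2 : (Polynomial.aeval f q) ⟨x, hx⟩ = 0 := by rw [hq0]; rfl
    rw [h1] at h2
    have h3 := congrArg Subtype.val h2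
    simpa [Polynomial.coe_aeval_eq_eval] using h3
  · rw [Polynomial.eval_eq_sum_range, Finset.sum_range_succ, hq.coeff_natDegree, one_mul,
      add_sub_cancel_right]
    refine Ideal.sum_mem _ fun k hk => ?_
    have hk' : k < q.natDegree := Finset.mem_range.mp hk
    exact Ideal.mul_mem_right _ _ (Ideal.pow_le_self (by omega) (hqc k))

/-- a chart of the smooth locus -/
structure Chart {R : Type u} [CommRing R] (π : R) {n m : ℕ}
    (f : Fin m → MvPolynomial (Fin n) R) where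
  /-- codimension -/
  c : ℕ
  /-- chosen relations -/
  rows : Fin c ↪ Fin m
  /-- chosen variables -/
  cols : Fin c ↪ Fin n
  /-- the chart element -/
  a : MvPolynomial (Fin n) R
  /-- cofactor -/
  a' : MvPolynomial (Fin n) R
  /-- coefficients -/
  h : Fin m → Fin c → MvPolynomial (Fin n) R
  /-- remainders -/
  gg : Fin m → MvPolynomial (Fin n) R
  hB : ∀ ℓ, a * f ℓ = ∑ t, h ℓ t * f (rows t) + C π ^ 2 * gg ℓ
  hmin : a * (a - a' * Smoothing.jacobianMinor f rows cols) ∈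
    Ideal.span (Set.range (f ∘ rows)) ⊔ Ideal.span {(C π ^ 2 : MvPolynomial (Fin n) R)}

namespace Chart

variable {R : Type u} [CommRing R] {π : R} {n m : ℕ} {f : Fin m → MvPolynomial (Fin n) R}
  (K : Chart π f)

/-- the ideal `(f_E, π²)` -/
noncomputable abbrev IE : Ideal (MvPolynomial (Fin n) R) :=
  Ideal.span (Set.range (f ∘ K.rows)) ⊔ Ideal.span {(C π ^ 2 : MvPolynomial (Fin n) R)}

/-- the minor -/
noncomputable abbrev minor : MvPolynomial (Fin n) R := Smoothing.jacobianMinor f K.rows K.cols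

theorem f_rows_mem (t : Fin K.c) : f (K.rows t) ∈ K.IE :=
  Ideal.mem_sup_left (Ideal.subset_span ⟨t, rfl⟩)

theorem pi_sq_mem : (C π ^ 2 : MvPolynomial (Fin n) R) ∈ K.IE :=
  Ideal.mem_sup_right (Ideal.mem_span_singleton_self _)

theorem a_mul_f_mem (ℓ : Fin m) : K.a * f ℓ ∈ K.IE := by
  rw [K.hB]
  refine add_mem (Ideal.sum_mem _ fun t _ => Ideal.mul_mem_left _ _ (K.f_rows_mem t)) ?_
  exact Ideal.mul_mem_right _ _ K.pi_sq_mem

/-- the coefficient lemma -/
theorem a_sq_mul_mem (γ : Fin K.c → MvPolynomial (Fin n) R) (G : MvPolynomial (Fin n) R)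
    (hγ : ∑ t, γ t * f (K.rows t) = C π ^ 2 * G) (t : Fin K.c) :
    K.a ^ 2 * γ t ∈ K.IE := by
  classical
  let M : Matrix (Fin K.c) (Fin K.c) (MvPolynomial (Fin n) R) :=
    Matrix.of fun j k => pderiv (K.cols k) (f (K.rows j))
  have hdet : M.det = K.minor := rfl
  -- derivative of the relation
  have hv : ∀ s, ∑ t, γ t * M t s ∈ K.IE := by
    intro s
    have h1 := congrArg (pderiv (K.cols s)) hγ
    rw [map_sum] at h1
    simp only [Derivation.leibniz, smul_eq_mul] at h1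
    rw [Finset.sum_add_distrib] at h1
    have h2 : ∑ t, γ t * M t s = C π ^ 2 * pderiv (K.cols s) G + G * pderiv (K.cols s) (C π ^ 2) -
        ∑ t, f (K.rows t) * pderiv (K.cols s) (γ t) := by
      rw [← h1]
      simp only [M, Matrix.of_apply]
      ring
    rw [h2]
    have h3 : pderiv (K.cols s) (C π ^ 2 : MvPolynomial (Fin n) R) = 0 := by
      rw [← map_pow, pderiv_C]
    rw [h3, mul_zero, add_zero]
    refine sub_mem (Ideal.mul_mem_right _ _ K.pi_sq_mem) ?_
    exact Ideal.sum_mem _ fun t _ => Ideal.mul_mem_right _ _ (K.f_rows_mem t)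
  -- multiply by the adjugate
  have hmin : K.minor * γ t ∈ K.IE := by
    have h1 : (Matrix.vecMul γ (M * M.adjugate)) t = K.minor * γ t := by
      rw [Matrix.mul_adjugate, hdet]
      simp [Matrix.vecMul_smul, Matrix.vecMul_one]
    rw [← h1, ← Matrix.vecMul_vecMul]
    simp only [Matrix.vecMul, dotProduct]
    refine Ideal.sum_mem _ fun s _ => Ideal.mul_mem_right _ _ ?_
    exact hv s
  have h4 : K.a ^ 2 * γ t = γ t * (K.a * (K.a - K.a' * K.minor)) + K.a * K.a' * (K.minor * γ t) := by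
    ring
  rw [h4]
  exact add_mem (Ideal.mul_mem_left _ _ K.hmin) (Ideal.mul_mem_left _ _ hmin)

end Chart

namespace Chart

variable {R : Type u} [CommRing R] {π : R} {n m : ℕ} {f : Fin m → MvPolynomial (Fin n) R}
  (K : Chart π f)

/-- relations of `D'_K` -/
noncomputable def rel' (t : Fin K.c) : MvPolynomial (Fin (n + K.c)) R :=
  rename (Fin.castAdd K.c) (f (K.rows t)) - C π * X (Fin.natAdd n t)

/-- the ideal of `D'_K` -/
noncomputable abbrev I' : Ideal (MvPolynomial (Fin (n + K.c)) R) := Ideal.span (Set.range K.rel')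

/-- the local model `D'_K = R[x, z_t]/(f_{E t} - π z_t)` -/
abbrev D' : Type u := MvPolynomial (Fin (n + K.c)) R ⧸ K.I'

/-- quotient map -/
noncomputable def mk' : MvPolynomial (Fin (n + K.c)) R →ₐ[R] K.D' := Ideal.Quotient.mkₐ R K.I'

/-- the map from `R[x]` -/
noncomputable def ιx : MvPolynomial (Fin n) R →ₐ[R] K.D' := K.mk'.comp (rename (Fin.castAdd K.c))

/-- the variables `z_t` -/
noncomputable def zz (t : Fin K.c) : K.D' := K.mk' (X (Fin.natAdd n t))

/-- the image of `π` -/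
noncomputable def P : K.D' := algebraMap R K.D' π

theorem mk'_surjective : Function.Surjective K.mk' := Ideal.Quotient.mkₐ_surjective R _

theorem ιx_C (r : R) : K.ιx (C r) = algebraMap R K.D' r := by
  rw [← MvPolynomial.algebraMap_eq, K.ιx.commutes]

theorem ιx_f_rows (t : Fin K.c) : K.ιx (f (K.rows t)) = K.P * K.zz t := by
  have h : K.mk' (K.rel' t) = 0 := Ideal.Quotient.eq_zero_iff_mem.mpr (Ideal.subset_span ⟨t, rfl⟩)
  rw [rel', map_sub, sub_eq_zero, map_mul] at h
  rw [ιx, AlgHom.comp_apply, h]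
  rfl

theorem ιx_mem_of_mem_IE (x : MvPolynomial (Fin n) R) (hx : x ∈ K.IE) :
    K.ιx x ∈ Ideal.span {K.P} := by
  have : K.IE ≤ Ideal.comap K.ιx (Ideal.span {K.P}) := by
    rw [sup_le_iff, Ideal.span_le, Ideal.span_le]
    constructor
    · rintro _ ⟨t, rfl⟩
      change K.ιx (f (K.rows t)) ∈ Ideal.span {K.P}
      rw [ιx_f_rows]
      exact Ideal.mul_mem_right _ _ (Ideal.mem_span_singleton_self _)
    · rintro _ rfl
      change K.ιx (C π ^ 2) ∈ Ideal.span {K.P}
      rw [map_pow, ιx_C, pow_two]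
      exact Ideal.mul_mem_left _ _ (Ideal.mem_span_singleton_self _)
  exact this hx

theorem smooth_away_minor : Algebra.FinitePresentation R K.D' ∧
    Algebra.Smooth R (Localization.Away (K.ιx K.minor)) := by
  classical
  apply DelocWeak.smooth_away_of_isElementaryStandard
  refine SingStd.isElementaryStandard_of_rows_cols K.rel' K.mk' K.mk'_surjective
    (Ideal.Quotient.mkₐ_ker R K.I') (Function.Embedding.refl _)
    (K.cols.trans (Fin.castAddEmb K.c)) _ 1 ?_ ?_
  · rw [one_mul, ιx, AlgHom.comp_apply]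
    congr 1
    unfold Chart.minor Smoothing.jacobianMinor
    rw [AlgHom.map_det]
    congr 1
    ext j k
    simp only [AlgHom.mapMatrix_apply, Matrix.map_apply, Matrix.of_apply,
      Function.Embedding.refl_apply, Function.Embedding.trans_apply]
    rw [rel', map_sub]
    have h1 : (Fin.castAddEmb K.c) (K.cols k) = Fin.castAdd K.c (K.cols k) := rfl
    rw [h1, pderiv_rename (Fin.castAdd_injective n K.c)]
    have h2 : pderiv (Fin.castAdd K.c (K.cols k)) (C π * X (Fin.natAdd n j) :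
        MvPolynomial (Fin (n + K.c)) R) = 0 := by
      rw [Derivation.leibniz, pderiv_C, pderiv_X, Pi.single_eq_of_ne]
      · simp
      · intro h
        have := congrArg Fin.val h
        simp at this
        omega
    rw [h2, sub_zero]
  · intro a₁ _ ℓ
    exact Ideal.mem_sup_left (Ideal.mul_mem_left _ _ (Ideal.subset_span ⟨ℓ, rfl⟩))

end Chart

namespace Chart

variable {R : Type u} [CommRing R] {π : R} {n m : ℕ} {f : Fin m → MvPolynomial (Fin n) R}
  (K K' : Chart π f)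

/-- `Z_ℓ = Σ_t h_{ℓ,t} z_t + π g_ℓ` (morally `a ẑ_ℓ`) -/
noncomputable def ZZ (ℓ : Fin m) : K.D' :=
  ∑ t, K.ιx (K.h ℓ t) * K.zz t + K.P * K.ιx (K.gg ℓ)

theorem P_mul_ZZ (ℓ : Fin m) : K.P * K.ZZ ℓ = K.ιx (K.a * f ℓ) := by
  rw [K.hB, map_add, map_sum, ZZ, mul_add, Finset.mul_sum]
  congr 1
  · apply Finset.sum_congr rfl
    intro t _
    rw [map_mul, ιx_f_rows]
    ring
  · rw [map_mul, map_pow, ιx_C]
    change _ = K.P ^ 2 * _
    ring

/-- `a` times the relation `p_{K',ℓ}` evaluated at `ẑ` -/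
noncomputable def PP (ℓ : Fin m) : K.D' :=
  K.ιx K'.a * K.ZZ ℓ - ∑ t', K.ιx (K'.h ℓ t') * K.ZZ (K'.rows t') - K.P * K.ιx (K.a * K'.gg ℓ)

theorem P_mul_PP (ℓ : Fin m) : K.P * K.PP K' ℓ = 0 := by
  have h1 : K.P * K.PP K' ℓ = K.ιx K'.a * (K.P * K.ZZ ℓ) -
      ∑ t', K.ιx (K'.h ℓ t') * (K.P * K.ZZ (K'.rows t')) - K.P ^ 2 * K.ιx (K.a * K'.gg ℓ) := by
    rw [PP, mul_sub, mul_sub, Finset.mul_sum]
    congr 1
    · congr 1
      · ring
      · apply Finset.sum_congr rfl
        intro t' _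
        ring
    · ring
  rw [h1]
  simp only [P_mul_ZZ]
  have h2 : K.P ^ 2 = K.ιx (C π ^ 2) := by rw [map_pow, ιx_C]; rfl
  rw [h2, ← map_mul, ← map_mul]
  simp only [← map_mul, ← map_sum, ← map_sub]
  have h3 : K'.a * (K.a * f ℓ) - ∑ t', K'.h ℓ t' * (K.a * f (K'.rows t')) -
      C π ^ 2 * (K.a * K'.gg ℓ) = 0 := by
    have := K'.hB ℓ
    have e : ∑ t', K'.h ℓ t' * (K.a * f (K'.rows t')) = K.a * ∑ t', K'.h ℓ t' * f (K'.rows t') := by
      rw [Finset.mul_sum]
      apply Finset.sum_congr rfl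
      intro t' _
      ring
    rw [e]
    linear_combination K.a * this
  rw [h3, map_zero]

/-- the coefficients `γ_t` -/
noncomputable def gam (ℓ : Fin m) (t : Fin K.c) : MvPolynomial (Fin n) R :=
  K'.a * K.h ℓ t - ∑ t', K'.h ℓ t' * K.h (K'.rows t') t

/-- the remainder `G'` -/
noncomputable def Gp (ℓ : Fin m) : MvPolynomial (Fin n) R :=
  K'.a * K.gg ℓ - ∑ t', K'.h ℓ t' * K.gg (K'.rows t') - K.a * K'.gg ℓ

theorem sum_gam (ℓ : Fin m) :
    ∑ t, K.gam K' ℓ t * f (K.rows t) = C π ^ 2 * (- K.Gp K' ℓ) := by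
  have h1 : ∑ t, K.gam K' ℓ t * f (K.rows t) =
      K'.a * ∑ t, K.h ℓ t * f (K.rows t) -
        ∑ t', K'.h ℓ t' * ∑ t, K.h (K'.rows t') t * f (K.rows t) := by
    simp only [gam, sub_mul, Finset.sum_sub_distrib, Finset.mul_sum, Finset.sum_mul]
    congr 1
    · apply Finset.sum_congr rfl
      intro t _
      ring
    · rw [Finset.sum_comm]
      apply Finset.sum_congr rfl
      intro t' _
      apply Finset.sum_congr rfl
      intro t _
      ring
  have h2 : ∀ j, ∑ t, K.h j t * f (K.rows t) = K.a * f j - C π ^ 2 * K.gg j := by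
    intro j
    rw [K.hB j]; ring
  rw [h1]
  simp only [h2]
  have h3 := K'.hB ℓ
  have e : ∑ t', K'.h ℓ t' * (K.a * f (K'.rows t') - C π ^ 2 * K.gg (K'.rows t')) =
      K.a * ∑ t', K'.h ℓ t' * f (K'.rows t') - C π ^ 2 * ∑ t', K'.h ℓ t' * K.gg (K'.rows t') := by
    rw [Finset.mul_sum, Finset.mul_sum, ← Finset.sum_sub_distrib]
    apply Finset.sum_congr rfl
    intro t' _
    ring
  rw [e, Gp]
  linear_combination K.a * h3

theorem PP_eq (ℓ : Fin m) : K.PP K' ℓ =
    ∑ t, K.ιx (K.gam K' ℓ t) * K.zz t + K.P * K.ιx (K.Gp K' ℓ) := by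
  simp only [PP, ZZ, gam, Gp, map_sub, map_mul, map_sum, Finset.mul_sum, Finset.sum_mul,
    mul_add, Finset.sum_add_distrib, sub_mul, Finset.sum_sub_distrib]
  have e : ∑ x, ∑ i, K.ιx (K'.h ℓ x) * (K.ιx (K.h (K'.rows x) i) * K.zz i) =
      ∑ x, ∑ i, K.ιx (K'.h ℓ i) * K.ιx (K.h (K'.rows i) x) * K.zz x := by
    rw [Finset.sum_comm]
    apply Finset.sum_congr rfl
    intro t _
    apply Finset.sum_congr rfl
    intro t' _
    ring
  rw [e]
  have e2 : ∑ x, K.ιx K'.a * (K.ιx (K.h ℓ x) * K.zz x) =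
      ∑ x, K.ιx K'.a * K.ιx (K.h ℓ x) * K.zz x := by
    apply Finset.sum_congr rfl
    intro t _
    ring
  have e3 : ∑ x, K.ιx (K'.h ℓ x) * (K.P * K.ιx (K.gg (K'.rows x))) =
      K.P * ∑ i, K.ιx (K'.h ℓ i) * K.ιx (K.gg (K'.rows i)) := by
    rw [Finset.mul_sum]
    apply Finset.sum_congr rfl
    intro t _
    ring
  rw [e2, e3]
  ring

theorem a_sq_mul_PP_mem (ℓ : Fin m) : K.ιx K.a ^ 2 * K.PP K' ℓ ∈ Ideal.span {K.P} := by
  rw [PP_eq, mul_add, Finset.mul_sum]
  refine add_mem (Ideal.sum_mem _ fun t _ => ?_) ?_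
  · have h := K.ιx_mem_of_mem_IE _ (K.a_sq_mul_mem (K.gam K' ℓ) (- K.Gp K' ℓ) (K.sum_gam K' ℓ) t)
    rw [map_mul, map_pow] at h
    rw [← mul_assoc]
    exact Ideal.mul_mem_right _ _ h
  · rw [mul_left_comm]
    exact Ideal.mul_mem_right _ _ (Ideal.mem_span_singleton_self _)

end Chart

namespace Chart

variable {R : Type u} [CommRing R] {π : R} {n m : ℕ} {f : Fin m → MvPolynomial (Fin n) R}
  (K K' : Chart π f)

/-- the element we localize at -/
noncomputable def dd : K.D' := K.ιx (K.a * K.minor)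

/-- the localized local model -/
abbrev L : Type u := Localization.Away K.dd

instance : Algebra.Smooth R K.L := by
  haveI := K.smooth_away_minor.1
  haveI := K.smooth_away_minor.2
  have : K.dd = K.ιx K.a * K.ιx K.minor := by rw [dd, map_mul]
  change Algebra.Smooth R (Localization.Away K.dd)
  rw [this]
  exact Desing.smooth_away_mul _ _

/-- the localization map -/
noncomputable def p1 : K.D' →ₐ[R] K.L := IsScalarTower.toAlgHom R K.D' K.L

theorem isUnit_p1_a : IsUnit (K.p1 (K.ιx K.a)) := by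
  have h : IsUnit (K.p1 K.dd) := IsLocalization.Away.algebraMap_isUnit K.dd
  have e : K.dd = K.ιx K.a * K.ιx K.minor := by rw [dd, map_mul]
  have h2 : IsUnit (K.p1 (K.ιx K.a) * K.p1 (K.ιx K.minor)) := by
    rw [← map_mul, ← e]
    exact h
  exact isUnit_of_mul_isUnit_left h2

theorem p1_PP_eq_zero (hR : ∀ r : R, π ^ 2 * r = 0 → π * r = 0) (ℓ : Fin m) :
    K.p1 (K.PP K' ℓ) = 0 := by
  obtain ⟨y, hy⟩ := Ideal.mem_span_singleton'.mp (K.a_sq_mul_PP_mem K' ℓ)
  -- `y * P = a² PP`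
  have h1 : π ^ 2 • K.p1 y = 0 := by
    rw [Algebra.smul_def, ← K.p1.commutes, ← map_mul, map_pow]
    have : algebraMap R K.D' π ^ 2 * y = K.P * (y * K.P) := by
      change K.P ^ 2 * y = _
      ring
    rw [this, hy]
    have : K.P * (K.ιx K.a ^ 2 * K.PP K' ℓ) = K.ιx K.a ^ 2 * (K.P * K.PP K' ℓ) := by ring
    rw [this, P_mul_PP, mul_zero, map_zero]
  have h2 := Desing2.smul_eq_zero_of_flat' π hR _ h1
  rw [Algebra.smul_def, ← K.p1.commutes, ← map_mul] at h2
  have h3 : K.p1 (K.ιx K.a) ^ 2 * K.p1 (K.PP K' ℓ) = 0 := by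
    rw [← map_pow, ← map_mul, ← hy, mul_comm y]
    exact h2
  exact ((K.isUnit_p1_a.pow 2).mul_right_eq_zero).mp h3

end Chart

end Groth.Agent.Lib.R2H4.LiftLemma
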