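import Mathlib
import Groth.Agent.Lib.R2H4LiftLemmaA

set_option autoImplicit false
set_option linter.style.haveILetI false
set_option linter.unusedSimpArgs false
universe u
open MvPolynomial

namespace Groth.Agent.Lib.R2H4.LiftLemma

open Groth.Agent.Lib.R2H4

/-- the data: relations and a finite family of charts -/
structure Sys {R : Type u} [CommRing R] (π : R) where
  /-- number of variables -/
  n : ℕ
  /-- number of relations -/
  m : ℕ
  /-- the relations -/
  f : Fin m → MvPolynomial (Fin n) R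
  /-- index of charts -/
  ι : Type u
  fin : Finite ι
  /-- the charts -/
  K : ι → Chart π f

namespace Sys

variable {R : Type u} [CommRing R] {π : R} (S : Sys π)

attribute [instance] Sys.fin

/-- the polynomial ring in `x, z` -/
abbrev P₀ : Type u := MvPolynomial (Fin (S.n + S.m)) R

/-- inclusion of `R[x]` -/
noncomputable def xx : MvPolynomial (Fin S.n) R →ₐ[R] S.P₀ := rename (Fin.castAdd S.m)

/-- the variables `z_j` -/
noncomputable def zv (j : Fin S.m) : S.P₀ := X (Fin.natAdd S.n j)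

/-- the relations `f_j - π z_j` -/
noncomputable def relF (j : Fin S.m) : S.P₀ := S.xx (S.f j) - C π * S.zv j

/-- the relations `p_{k,ℓ}` -/
noncomputable def relP (k : S.ι) (ℓ : Fin S.m) : S.P₀ :=
  S.xx (S.K k).a * S.zv ℓ - ∑ t, S.xx ((S.K k).h ℓ t) * S.zv ((S.K k).rows t) -
    C π * S.xx ((S.K k).gg ℓ)

/-- all relations -/
def G : Set S.P₀ := Set.range S.relF ∪ Set.range (fun kl : S.ι × Fin S.m => S.relP kl.1 kl.2)

/-- the algebra `D` -/
def D : Type u := S.P₀ ⧸ Ideal.span S.G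

noncomputable instance : CommRing S.D := inferInstanceAs (CommRing (S.P₀ ⧸ Ideal.span S.G))
noncomputable instance : Algebra R S.D := inferInstanceAs (Algebra R (S.P₀ ⧸ Ideal.span S.G))

/-- the quotient map -/
noncomputable def mkD : S.P₀ →ₐ[R] S.D := Ideal.Quotient.mkₐ R (Ideal.span S.G)

theorem mkD_surjective : Function.Surjective S.mkD := Ideal.Quotient.mkₐ_surjective R _

theorem mkD_relF (j : Fin S.m) : S.mkD (S.relF j) = 0 :=
  Ideal.Quotient.eq_zero_iff_mem.mpr (Ideal.subset_span (Or.inl ⟨j, rfl⟩))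

theorem mkD_relP (k : S.ι) (ℓ : Fin S.m) : S.mkD (S.relP k ℓ) = 0 :=
  Ideal.Quotient.eq_zero_iff_mem.mpr (Ideal.subset_span (Or.inr ⟨(k, ℓ), rfl⟩))

theorem mkD_C (r : R) : S.mkD (C r) = algebraMap R S.D r := rfl

theorem finitePresentation : Algebra.FinitePresentation R S.D :=
  (Algebra.FinitePresentation.quotient
    (Submodule.fg_span ((Set.finite_range _).union (Set.finite_range _))) :
    Algebra.FinitePresentation R (S.P₀ ⧸ Ideal.span S.G))

theorem mkD_xx_f (j : Fin S.m) : S.mkD (S.xx (S.f j)) = algebraMap R S.D π * S.mkD (S.zv j) := by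
  have h := S.mkD_relF j
  rw [relF, map_sub, sub_eq_zero, map_mul, mkD_C] at h
  exact h

theorem mkD_xx_a_mul (k : S.ι) (ℓ : Fin S.m) : S.mkD (S.xx (S.K k).a) * S.mkD (S.zv ℓ) =
    ∑ t, S.mkD (S.xx ((S.K k).h ℓ t)) * S.mkD (S.zv ((S.K k).rows t)) +
      algebraMap R S.D π * S.mkD (S.xx ((S.K k).gg ℓ)) := by
  have h := S.mkD_relP k ℓ
  rw [relP, map_sub, map_sub, map_mul, map_mul, mkD_C, map_sum] at h
  simp only [map_mul] at h
  linear_combination h

end Sys

namespace Chart

variable {R : Type u} [CommRing R] {π : R} {n m : ℕ} {f : Fin m → MvPolynomial (Fin n) R}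
  (K K' : Chart π f)

/-- an inverse of `a` in the localization -/
noncomputable def ainv : K.L := (K.isUnit_p1_a.exists_left_inv).choose

theorem ainv_mul : K.ainv * K.p1 (K.ιx K.a) = 1 := (K.isUnit_p1_a.exists_left_inv).choose_spec

/-- the elements `ẑ_ℓ` -/
noncomputable def zhat (ℓ : Fin m) : K.L := K.ainv * K.p1 (K.ZZ ℓ)

theorem P_smul_zhat (ℓ : Fin m) : algebraMap R K.L π * K.zhat ℓ = K.p1 (K.ιx (f ℓ)) := by
  have h1 : algebraMap R K.L π = K.p1 K.P := (K.p1.commutes π).symm
  rw [zhat, h1, mul_left_comm, ← map_mul, P_mul_ZZ, map_mul, map_mul, ← mul_assoc, ainv_mul, one_mul]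

theorem relP_zhat (hR : ∀ r : R, π ^ 2 * r = 0 → π * r = 0) (ℓ : Fin m) :
    K.p1 (K.ιx K'.a) * K.zhat ℓ - ∑ t', K.p1 (K.ιx (K'.h ℓ t')) * K.zhat (K'.rows t') -
      algebraMap R K.L π * K.p1 (K.ιx (K'.gg ℓ)) = 0 := by
  have h0 := K.p1_PP_eq_zero K' hR ℓ
  have h1 : algebraMap R K.L π = K.p1 K.P := (K.p1.commutes π).symm
  have h2 : K.p1 (K.ιx K'.a) * K.zhat ℓ - ∑ t', K.p1 (K.ιx (K'.h ℓ t')) * K.zhat (K'.rows t') -
      algebraMap R K.L π * K.p1 (K.ιx (K'.gg ℓ)) = K.ainv * K.p1 (K.PP K' ℓ) := by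
    rw [PP, map_sub, map_sub, map_mul, map_sum, map_mul, map_mul, map_mul, h1, mul_sub, mul_sub,
      Finset.mul_sum]
    simp only [zhat, map_mul]
    have e : ∑ x, K.p1 (K.ιx (K'.h ℓ x)) * (K.ainv * K.p1 (K.ZZ (K'.rows x))) =
        ∑ i, K.ainv * (K.p1 (K.ιx (K'.h ℓ i)) * K.p1 (K.ZZ (K'.rows i))) := by
      apply Finset.sum_congr rfl
      intro t' _
      ring
    rw [e]
    have := K.ainv_mul
    linear_combination (K.p1 K.P * K.p1 (K.ιx (K'.gg ℓ))) * this
  rw [h2, h0, mul_zero]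

end Chart

namespace Sys

variable {R : Type u} [CommRing R] {π : R} (S : Sys π) (k : S.ι)

/-- evaluation of `P₀` in the localized local model -/
noncomputable def θ₀ : S.P₀ →ₐ[R] (S.K k).L :=
  aeval (Fin.append (fun i => (S.K k).p1 ((S.K k).ιx (X i))) (S.K k).zhat)

theorem θ₀_xx (q : MvPolynomial (Fin S.n) R) : S.θ₀ k (S.xx q) = (S.K k).p1 ((S.K k).ιx q) := by
  have : (S.θ₀ k).comp S.xx = (S.K k).p1.comp (S.K k).ιx := by
    apply MvPolynomial.algHom_ext
    intro i
    change aeval _ (rename (Fin.castAdd S.m) (X i)) = _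
    rw [rename_X, aeval_X, Fin.append_left]
    rfl
  exact congr($this q)

theorem θ₀_zv (j : Fin S.m) : S.θ₀ k (S.zv j) = (S.K k).zhat j := by
  change aeval _ (X (Fin.natAdd S.n j)) = _
  rw [aeval_X, Fin.append_right]

theorem θ₀_C (r : R) : S.θ₀ k (C r) = algebraMap R (S.K k).L r := aeval_C _ _

theorem θ₀_G (hR : ∀ r : R, π ^ 2 * r = 0 → π * r = 0) (x : S.P₀)
    (hx : x ∈ Ideal.span S.G) : S.θ₀ k x = 0 := by
  have : Ideal.span S.G ≤ RingHom.ker (S.θ₀ k).toRingHom := by
    rw [Ideal.span_le]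
    rintro _ (⟨j, rfl⟩ | ⟨⟨k', ℓ⟩, rfl⟩)
    · change S.θ₀ k (S.relF j) = 0
      rw [relF, map_sub, map_mul, θ₀_xx, θ₀_zv, θ₀_C, Chart.P_smul_zhat, sub_self]
    · change S.θ₀ k (S.relP k' ℓ) = 0
      rw [relP, map_sub, map_sub, map_mul, map_mul, map_sum]
      simp only [map_mul, θ₀_xx, θ₀_zv, θ₀_C]
      exact (S.K k).relP_zhat (S.K k') hR ℓ
  exact this hx

/-- the map `D → L_k` -/
noncomputable def θ (hR : ∀ r : R, π ^ 2 * r = 0 → π * r = 0) : S.D →ₐ[R] (S.K k).L :=
  (Ideal.Quotient.liftₐ (Ideal.span S.G) (S.θ₀ k) (S.θ₀_G k hR) :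
    S.P₀ ⧸ Ideal.span S.G →ₐ[R] (S.K k).L)

theorem θ_mkD (hR : ∀ r : R, π ^ 2 * r = 0 → π * r = 0) (x : S.P₀) :
    S.θ k hR (S.mkD x) = S.θ₀ k x := rfl

/-- evaluation of the local model in `D` -/
noncomputable def ι₀ : MvPolynomial (Fin (S.n + (S.K k).c)) R →ₐ[R] S.D :=
  aeval (Fin.append (fun i => S.mkD (S.xx (X i))) (fun t => S.mkD (S.zv ((S.K k).rows t))))

theorem ι₀_rename (q : MvPolynomial (Fin S.n) R) :
    S.ι₀ k (rename (Fin.castAdd (S.K k).c) q) = S.mkD (S.xx q) := by
  have : (S.ι₀ k).comp (rename (Fin.castAdd (S.K k).c)) = S.mkD.comp S.xx := by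
    apply MvPolynomial.algHom_ext
    intro i
    change aeval _ (rename (Fin.castAdd (S.K k).c) (X i)) = _
    rw [rename_X, aeval_X, Fin.append_left]
    rfl
  exact congr($this q)

theorem ι₀_X (t : Fin (S.K k).c) :
    S.ι₀ k (X (Fin.natAdd S.n t)) = S.mkD (S.zv ((S.K k).rows t)) := by
  change aeval _ (X (Fin.natAdd S.n t)) = _
  rw [aeval_X, Fin.append_right]

theorem ι₀_I' (x : MvPolynomial (Fin (S.n + (S.K k).c)) R) (hx : x ∈ (S.K k).I') :
    S.ι₀ k x = 0 := by
  have : (S.K k).I' ≤ RingHom.ker (S.ι₀ k).toRingHom := by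
    rw [Ideal.span_le]
    rintro _ ⟨t, rfl⟩
    change S.ι₀ k ((S.K k).rel' t) = 0
    rw [Chart.rel', map_sub, map_mul, ι₀_rename, ι₀_X, mkD_xx_f]
    have : S.ι₀ k (C π) = algebraMap R S.D π := aeval_C _ _
    rw [this, sub_self]
  exact this hx

/-- the map `D'_k → D` -/
noncomputable def ιK : (S.K k).D' →ₐ[R] S.D := Ideal.Quotient.liftₐ (S.K k).I' (S.ι₀ k) (S.ι₀_I' k)

theorem ιK_ιx (q : MvPolynomial (Fin S.n) R) : S.ιK k ((S.K k).ιx q) = S.mkD (S.xx q) :=
  S.ι₀_rename k q

theorem ιK_zz (t : Fin (S.K k).c) : S.ιK k ((S.K k).zz t) = S.mkD (S.zv ((S.K k).rows t)) :=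
  S.ι₀_X k t

theorem ιK_P : S.ιK k (S.K k).P = algebraMap R S.D π := (S.ιK k).commutes π

theorem ιK_ZZ (ℓ : Fin S.m) :
    S.ιK k ((S.K k).ZZ ℓ) = S.mkD (S.xx (S.K k).a) * S.mkD (S.zv ℓ) := by
  rw [mkD_xx_a_mul, Chart.ZZ, map_add, map_sum, map_mul, ιK_P, ιK_ιx]
  congr 1
  apply Finset.sum_congr rfl
  intro t _
  rw [map_mul, ιK_ιx, ιK_zz]

/-- the element of `D` we localize at -/
noncomputable def dD : S.D := S.mkD (S.xx ((S.K k).a * (S.K k).minor))

theorem ιK_dd : S.ιK k (S.K k).dd = S.dD k := S.ιK_ιx k _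

end Sys

namespace Sys

variable {R : Type u} [CommRing R] {π : R} (S : Sys π) (k : S.ι)

theorem formallySmooth_away_dD (hR : ∀ r : R, π ^ 2 * r = 0 → π * r = 0) (b : S.D)
    (hb : b = S.dD k) : Algebra.FormallySmooth R (Localization.Away b) := by
  apply Algebra.FormallySmooth.of_comp_surjective
  intro T _ _ N hN ubar
  -- `ιloc : L_k → D_b`
  have hu : IsUnit (((algebraMap S.D (Localization.Away b)).comp (S.ιK k : (S.K k).D' →+* S.D))
      (S.K k).dd) := by
    rw [RingHom.comp_apply]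
    change IsUnit (algebraMap S.D (Localization.Away b) (S.ιK k (S.K k).dd))
    rw [ιK_dd, ← hb]
    exact IsLocalization.Away.algebraMap_isUnit b
  let ιloc : (S.K k).L →ₐ[R] Localization.Away b :=
    { toRingHom := IsLocalization.Away.lift (S.K k).dd hu
      commutes' := fun r => by
        change IsLocalization.Away.lift (S.K k).dd hu (algebraMap R (S.K k).L r) = _
        rw [IsScalarTower.algebraMap_apply R (S.K k).D' (S.K k).L, IsLocalization.Away.lift_eq,
          RingHom.comp_apply]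
        change algebraMap S.D (Localization.Away b) (S.ιK k (algebraMap R (S.K k).D' r)) = _
        rw [(S.ιK k).commutes, ← IsScalarTower.algebraMap_apply] }
  have hιloc : ∀ x : (S.K k).D', ιloc ((S.K k).p1 x) =
      algebraMap S.D (Localization.Away b) (S.ιK k x) := fun x =>
    IsLocalization.Away.lift_eq (S.K k).dd hu x
  -- the retraction identity
  have hret : ∀ x : S.D, ιloc (S.θ k hR x) = algebraMap S.D (Localization.Away b) x := by
    have : (ιloc.comp (S.θ k hR)).comp S.mkD =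
        (IsScalarTower.toAlgHom R S.D (Localization.Away b)).comp S.mkD := by
      apply MvPolynomial.algHom_ext
      intro s
      induction s using Fin.addCases with
      | left i =>
        have e : (X (Fin.castAdd S.m i) : S.P₀) = S.xx (X i) := (rename_X _ _).symm
        rw [e]
        change ιloc (S.θ k hR (S.mkD (S.xx (X i)))) =
          algebraMap S.D (Localization.Away b) (S.mkD (S.xx (X i)))
        rw [θ_mkD, θ₀_xx, hιloc, ιK_ιx]
      | right j =>
        change ιloc (S.θ k hR (S.mkD (S.zv j))) =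
          algebraMap S.D (Localization.Away b) (S.mkD (S.zv j))
        rw [θ_mkD, θ₀_zv, Chart.zhat, map_mul, hιloc, ιK_ZZ, map_mul, ← mul_assoc]
        have h1 : ιloc (S.K k).ainv * algebraMap S.D (Localization.Away b)
            (S.mkD (S.xx (S.K k).a)) = 1 := by
          rw [← ιK_ιx, ← hιloc, ← map_mul, Chart.ainv_mul, map_one]
        rw [h1, one_mul]
    intro x
    obtain ⟨q, rfl⟩ := S.mkD_surjective x
    exact congr($this q)
  obtain ⟨w, hw⟩ := Algebra.FormallySmooth.comp_surjective R (S.K k).L N hN (ubar.comp ιloc)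
  have hw' : ∀ x, Ideal.Quotient.mk N (w x) = ubar (ιloc x) := fun x => congr($hw x)
  refine Desing.exists_lift_of_algHom b N hN ubar (w.comp (S.θ k hR)) ?_
  intro x
  rw [AlgHom.comp_apply, hw', hret]

end Sys

namespace Sys

variable {R : Type u} [CommRing R] {π : R} (S : Sys π)

theorem formallySmooth_away_pi (b : S.D) (hb : b = algebraMap R S.D π) :
    Algebra.FormallySmooth R (Localization.Away b) := by
  classical
  apply Algebra.FormallySmooth.of_comp_surjective
  intro T _ _ N hN ubar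
  let pT : T := algebraMap R T π
  have hpT : IsUnit pT := by
    apply (IsNilpotent.isUnit_quotient_mk_iff (I := N) ⟨2, hN⟩).mp
    have h1 : Ideal.Quotient.mk N pT = ubar (algebraMap R (Localization.Away b) π) :=
      (ubar.commutes π).symm
    have h2 : algebraMap R (Localization.Away b) π =
        algebraMap S.D (Localization.Away b) b := by
      rw [IsScalarTower.algebraMap_apply R S.D (Localization.Away b), ← hb]
    rw [h1, h2]
    exact (IsLocalization.Away.algebraMap_isUnit b).map ubar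
  obtain ⟨pinv, hpinv⟩ := hpT.exists_left_inv
  let ψ' : S.P₀ →ₐ[R] T ⧸ N :=
    (ubar.comp (IsScalarTower.toAlgHom R S.D (Localization.Away b))).comp S.mkD
  have hψ' : ∀ q, ψ' q = ubar (algebraMap S.D (Localization.Away b) (S.mkD q)) := fun q => rfl
  have hlift : ∀ i : Fin S.n, ∃ τ : T, Ideal.Quotient.mk N τ = ψ' (S.xx (X i)) :=
    fun i => Ideal.Quotient.mk_surjective _
  choose ξ hξ using hlift
  have hξq : ∀ q : MvPolynomial (Fin S.n) R, Ideal.Quotient.mk N (aeval ξ q) = ψ' (S.xx q) := by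
    have : (Ideal.Quotient.mkₐ R N).comp (aeval ξ) = ψ'.comp S.xx := by
      apply MvPolynomial.algHom_ext
      intro i
      change Ideal.Quotient.mk N (aeval ξ (X i)) = ψ' (S.xx (X i))
      rw [aeval_X, hξ]
    exact fun q => congr($this q)
  let ζ : Fin S.m → T := fun j => pinv * aeval ξ (S.f j)
  let u₀ : S.P₀ →ₐ[R] T := aeval (Fin.append ξ ζ)
  have hu₀x : ∀ q : MvPolynomial (Fin S.n) R, u₀ (S.xx q) = aeval ξ q := by
    have : u₀.comp S.xx = aeval ξ := by
      apply MvPolynomial.algHom_ext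
      intro i
      change aeval _ (rename (Fin.castAdd S.m) (X i)) = aeval ξ (X i)
      rw [rename_X, aeval_X, aeval_X, Fin.append_left]
    exact fun q => congr($this q)
  have hu₀z : ∀ j, u₀ (S.zv j) = ζ j := fun j => by
    change aeval _ (X (Fin.natAdd S.n j)) = _
    rw [aeval_X, Fin.append_right]
  have hu₀C : ∀ r : R, u₀ (C r) = algebraMap R T r := fun r => aeval_C _ _
  have hu₀G : ∀ x ∈ Ideal.span S.G, u₀ x = 0 := by
    have : Ideal.span S.G ≤ RingHom.ker u₀.toRingHom := by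
      rw [Ideal.span_le]
      rintro _ (⟨j, rfl⟩ | ⟨⟨k, ℓ⟩, rfl⟩)
      · change u₀ (S.relF j) = 0
        rw [relF, map_sub, map_mul, hu₀x, hu₀z, hu₀C]
        change aeval ξ (S.f j) - pT * (pinv * aeval ξ (S.f j)) = 0
        linear_combination (- aeval ξ (S.f j)) * hpinv
      · change u₀ (S.relP k ℓ) = 0
        rw [relP, map_sub, map_sub, map_mul, map_mul, map_sum]
        simp only [map_mul, hu₀x, hu₀z, hu₀C]
        have hB := congrArg (aeval ξ) ((S.K k).hB ℓ)
        rw [map_mul, map_add, map_sum, map_mul, map_pow, aeval_C] at hB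
        simp only [map_mul] at hB
        change aeval ξ (S.K k).a * (pinv * aeval ξ (S.f ℓ)) -
          ∑ t, aeval ξ ((S.K k).h ℓ t) * (pinv * aeval ξ (S.f ((S.K k).rows t))) -
            pT * aeval ξ ((S.K k).gg ℓ) = 0
        have e : ∑ t, aeval ξ ((S.K k).h ℓ t) * (pinv * aeval ξ (S.f ((S.K k).rows t))) =
            pinv * ∑ t, aeval ξ ((S.K k).h ℓ t) * aeval ξ (S.f ((S.K k).rows t)) := by
          rw [Finset.mul_sum]
          apply Finset.sum_congr rfl
          intro t _
          ring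
        rw [e]
        change aeval ξ (S.K k).a * aeval ξ (S.f ℓ) = _ + pT ^ 2 * _ at hB
        linear_combination pinv * hB + (pT * aeval ξ ((S.K k).gg ℓ)) * hpinv
    exact fun x hx => this hx
  let u₁ : S.D →ₐ[R] T :=
    (Ideal.Quotient.liftₐ (Ideal.span S.G) u₀ hu₀G : S.P₀ ⧸ Ideal.span S.G →ₐ[R] T)
  have hu₁ : ∀ q, u₁ (S.mkD q) = u₀ q := fun q => rfl
  refine Desing.exists_lift_of_algHom b N hN ubar u₁ ?_
  have hcompat : (Ideal.Quotient.mkₐ R N).comp u₀ = ψ' := by
    apply MvPolynomial.algHom_ext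
    intro s
    induction s using Fin.addCases with
    | left i =>
      have e : (X (Fin.castAdd S.m i) : S.P₀) = S.xx (X i) := (rename_X _ _).symm
      rw [e]
      change Ideal.Quotient.mk N (u₀ (S.xx (X i))) = _
      rw [hu₀x, hξq]
    | right j =>
      change Ideal.Quotient.mk N (u₀ (S.zv j)) = ψ' (S.zv j)
      rw [hu₀z]
      have hu : IsUnit (Ideal.Quotient.mk N pT) := hpT.map _
      apply hu.mul_left_cancel
      have e1 : Ideal.Quotient.mk N pT * Ideal.Quotient.mk N (ζ j) =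
          Ideal.Quotient.mk N (aeval ξ (S.f j)) := by
        rw [← map_mul]
        congr 1
        change pT * (pinv * aeval ξ (S.f j)) = _
        linear_combination (aeval ξ (S.f j)) * hpinv
      have e2 : Ideal.Quotient.mk N pT * ψ' (S.zv j) = ψ' (S.xx (S.f j)) := by
        have h1 : Ideal.Quotient.mk N pT = ψ' (C π) := by
          have : (C π : S.P₀) = algebraMap R S.P₀ π := rfl
          rw [this, ψ'.commutes]
          rfl
        rw [h1, ← map_mul, hψ', hψ', map_mul, mkD_C, ← mkD_xx_f]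
      rw [e1, e2, hξq]
  intro x
  obtain ⟨q, rfl⟩ := S.mkD_surjective x
  rw [hu₁]
  exact congr($hcompat q)

end Sys

end Groth.Agent.Lib.R2H4.LiftLemma
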