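import Mathlib
import Groth.Agent.Lib.R2H4LiftLemmaB

set_option autoImplicit false
set_option linter.style.haveILetI false
set_option linter.unusedSimpArgs false
universe u
open MvPolynomial

namespace Groth.Agent.Lib.R2H4.LiftLemma

open Groth.Agent.Lib.R2H4

namespace Sys

variable {R : Type u} [CommRing R] {π : R} (S : Sys π)

section Delta

variable {Λ : Type u} [CommRing Λ] [Algebra R Λ] (lam : Fin S.n → Λ) (mu : Fin S.m → Λ)

/-- evaluation at `x ↦ λ`, `z ↦ π μ` -/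
noncomputable def δ₀ : S.P₀ →ₐ[R] Λ :=
  aeval (Fin.append lam (fun j => algebraMap R Λ π * mu j))

theorem δ₀_xx (q : MvPolynomial (Fin S.n) R) : S.δ₀ lam mu (S.xx q) = aeval lam q := by
  have : (S.δ₀ lam mu).comp S.xx = aeval lam := by
    apply MvPolynomial.algHom_ext
    intro i
    change aeval _ (rename (Fin.castAdd S.m) (X i)) = aeval lam (X i)
    rw [rename_X, aeval_X, aeval_X, Fin.append_left]
  exact congr($this q)

theorem δ₀_zv (j : Fin S.m) : S.δ₀ lam mu (S.zv j) = algebraMap R Λ π * mu j := by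
  change aeval _ (X (Fin.natAdd S.n j)) = _
  rw [aeval_X, Fin.append_right]

theorem δ₀_C (r : R) : S.δ₀ lam mu (C r) = algebraMap R Λ r := aeval_C _ _

theorem δ₀_G (hΛ : ∀ x : Λ, π ^ 2 • x = 0 → π • x = 0)
    (hmu : ∀ j, aeval lam (S.f j) = algebraMap R Λ π ^ 2 * mu j) (x : S.P₀)
    (hx : x ∈ Ideal.span S.G) : S.δ₀ lam mu x = 0 := by
  have : Ideal.span S.G ≤ RingHom.ker (S.δ₀ lam mu).toRingHom := by
    rw [Ideal.span_le]
    rintro _ (⟨j, rfl⟩ | ⟨⟨k, ℓ⟩, rfl⟩)
    · change S.δ₀ lam mu (S.relF j) = 0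
      rw [relF, map_sub, map_mul, δ₀_xx, δ₀_zv, δ₀_C, hmu]
      ring
    · change S.δ₀ lam mu (S.relP k ℓ) = 0
      rw [relP, map_sub, map_sub, map_mul, map_mul, map_sum]
      simp only [map_mul, δ₀_xx, δ₀_zv, δ₀_C]
      have hB := congrArg (aeval lam) ((S.K k).hB ℓ)
      rw [map_mul, map_add, map_sum, map_mul, map_pow, aeval_C] at hB
      simp only [map_mul, hmu] at hB
      let t : Λ := aeval lam (S.K k).a * mu ℓ -
        ∑ x, aeval lam ((S.K k).h ℓ x) * mu ((S.K k).rows x) - aeval lam ((S.K k).gg ℓ)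
      have h2 : π ^ 2 • t = 0 := by
        rw [Algebra.smul_def, map_pow]
        change algebraMap R Λ π ^ 2 * (aeval lam (S.K k).a * mu ℓ -
          ∑ x, aeval lam ((S.K k).h ℓ x) * mu ((S.K k).rows x) - aeval lam ((S.K k).gg ℓ)) = 0
        rw [mul_sub, mul_sub, Finset.mul_sum]
        have e : ∑ x, algebraMap R Λ π ^ 2 * (aeval lam ((S.K k).h ℓ x) * mu ((S.K k).rows x)) =
            ∑ x, aeval lam ((S.K k).h ℓ x) * (algebraMap R Λ π ^ 2 * mu ((S.K k).rows x)) :=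
          Finset.sum_congr rfl fun _ _ => by ring
        rw [e]
        linear_combination hB
      have h3 := hΛ t h2
      rw [Algebra.smul_def] at h3
      change algebraMap R Λ π * (aeval lam (S.K k).a * mu ℓ -
          ∑ x, aeval lam ((S.K k).h ℓ x) * mu ((S.K k).rows x) - aeval lam ((S.K k).gg ℓ)) = 0 at h3
      rw [mul_sub, mul_sub, Finset.mul_sum] at h3
      have e : ∑ x, algebraMap R Λ π * (aeval lam ((S.K k).h ℓ x) * mu ((S.K k).rows x)) =
          ∑ x, aeval lam ((S.K k).h ℓ x) * (algebraMap R Λ π * mu ((S.K k).rows x)) :=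
        Finset.sum_congr rfl fun _ _ => by ring
      rw [e] at h3
      linear_combination h3
  exact this hx

/-- the map `D → Λ` -/
noncomputable def δ (hΛ : ∀ x : Λ, π ^ 2 • x = 0 → π • x = 0)
    (hmu : ∀ j, aeval lam (S.f j) = algebraMap R Λ π ^ 2 * mu j) : S.D →ₐ[R] Λ :=
  (Ideal.Quotient.liftₐ (Ideal.span S.G) (S.δ₀ lam mu) (S.δ₀_G lam mu hΛ hmu) :
    S.P₀ ⧸ Ideal.span S.G →ₐ[R] Λ)

theorem δ_mkD_xx (hΛ : ∀ x : Λ, π ^ 2 • x = 0 → π • x = 0)
    (hmu : ∀ j, aeval lam (S.f j) = algebraMap R Λ π ^ 2 * mu j) (q : MvPolynomial (Fin S.n) R) :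
    S.δ lam mu hΛ hmu (S.mkD (S.xx q)) = aeval lam q :=
  S.δ₀_xx lam mu q

end Delta

section Psi

/-- `D/πD` -/
abbrev Dbar : Type u := S.D ⧸ Ideal.span {algebraMap R S.D π}

/-- the map `R[x] → D/πD` -/
noncomputable def ψ₀ : MvPolynomial (Fin S.n) R →ₐ[R] S.Dbar :=
  (Ideal.Quotient.mkₐ R (Ideal.span {algebraMap R S.D π})).comp (S.mkD.comp S.xx)

theorem ψ₀_apply (q : MvPolynomial (Fin S.n) R) :
    S.ψ₀ q = Ideal.Quotient.mk (Ideal.span {algebraMap R S.D π}) (S.mkD (S.xx q)) := rfl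

theorem algebraMap_Dbar_pi : algebraMap R S.Dbar π = 0 := by
  rw [IsScalarTower.algebraMap_apply R S.D S.Dbar]
  exact Ideal.Quotient.eq_zero_iff_mem.mpr (Ideal.mem_span_singleton_self _)

theorem ψ₀_ker_le :
    Ideal.span (Set.range S.f) ⊔ Ideal.span {(C π ^ 2 : MvPolynomial (Fin S.n) R)} ≤
      RingHom.ker S.ψ₀.toRingHom := by
  rw [sup_le_iff, Ideal.span_le, Ideal.span_le]
  constructor
  · rintro _ ⟨j, rfl⟩
    change S.ψ₀ (S.f j) = 0
    rw [ψ₀_apply, mkD_xx_f, Ideal.Quotient.eq_zero_iff_mem]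
    exact Ideal.mul_mem_right _ _ (Ideal.mem_span_singleton_self _)
  · intro x hx
    rw [Set.mem_singleton_iff] at hx
    subst hx
    change S.ψ₀ (C π ^ 2) = 0
    have : (C π : MvPolynomial (Fin S.n) R) = algebraMap R _ π := rfl
    rw [map_pow, this, AlgHom.commutes, algebraMap_Dbar_pi, zero_pow two_ne_zero]

theorem mkD_xx_mem_of_mem_IE (k : S.ι) (x : MvPolynomial (Fin S.n) R) (hx : x ∈ (S.K k).IE) :
    S.mkD (S.xx x) ∈ Ideal.span {algebraMap R S.D π} := by
  have h := S.ψ₀_ker_le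
  have h2 : (S.K k).IE ≤ RingHom.ker S.ψ₀.toRingHom := by
    refine le_trans (sup_le_sup_right (Ideal.span_mono ?_) _) h
    rintro _ ⟨t, rfl⟩
    exact ⟨_, rfl⟩
  have h3 : S.ψ₀ x = 0 := h2 hx
  rw [ψ₀_apply, Ideal.Quotient.eq_zero_iff_mem] at h3
  exact h3

end Psi

theorem main {Λ C' : Type u} [CommRing Λ] [Algebra R Λ] [CommRing C'] [Algebra R C']
    [Algebra (R ⧸ Ideal.span {π ^ 2}) C'] [IsScalarTower R (R ⧸ Ideal.span {π ^ 2}) C']
    (hR : ∀ r : R, π ^ 2 * r = 0 → π * r = 0)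
    (hΛ : ∀ x : Λ, π ^ 2 • x = 0 → π • x = 0)
    (g : C' →ₐ[R] Λ ⧸ Ideal.span {algebraMap R Λ (π ^ 2)})
    (κ : MvPolynomial (Fin S.n) R →ₐ[R] C') (hκ : Function.Surjective κ)
    (hker : RingHom.ker κ.toRingHom =
      Ideal.span (Set.range S.f) ⊔ Ideal.span {(C π ^ 2 : MvPolynomial (Fin S.n) R)})
    (hcov : ∀ (q : Ideal C') [q.IsPrime], Algebra.IsSmoothAt (R ⧸ Ideal.span {π ^ 2}) q →
      ∃ k, κ (S.K k).a ∉ q) :
    ∃ (δ : S.D →ₐ[R] Λ) (ψ : C' →ₐ[R] S.D ⧸ Ideal.span {algebraMap R S.D π}),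
        (∀ (c : C') (d : S.D) (l : Λ),
          Ideal.Quotient.mk (Ideal.span {algebraMap R S.D π}) d = ψ c →
          Ideal.Quotient.mk (Ideal.span {algebraMap R Λ (π ^ 2)}) l = g c →
            δ d - l ∈ Ideal.span {algebraMap R Λ π}) ∧
        (∀ (Q : Ideal S.D) [Q.IsPrime], algebraMap R S.D π ∉ Q → Algebra.IsSmoothAt R Q) ∧
        (∀ (Q : Ideal (S.D ⧸ Ideal.span {algebraMap R S.D π})) [Q.IsPrime],
          Algebra.IsSmoothAt (R ⧸ Ideal.span {π ^ 2}) (Q.comap ψ) →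
            Algebra.IsSmoothAt R
              (Q.comap (Ideal.Quotient.mk (Ideal.span {algebraMap R S.D π})))) := by
  classical
  -- lifts of the variables
  have hlam : ∀ i : Fin S.n, ∃ l : Λ,
      Ideal.Quotient.mk (Ideal.span {algebraMap R Λ (π ^ 2)}) l = g (κ (X i)) :=
    fun i => Ideal.Quotient.mk_surjective _
  choose lam hlam' using hlam
  have hgκ : ∀ q : MvPolynomial (Fin S.n) R,
      Ideal.Quotient.mk (Ideal.span {algebraMap R Λ (π ^ 2)}) (aeval lam q) = g (κ q) := by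
    have : (Ideal.Quotient.mkₐ R (Ideal.span {algebraMap R Λ (π ^ 2)})).comp (aeval lam) =
        g.comp κ := by
      apply MvPolynomial.algHom_ext
      intro i
      change Ideal.Quotient.mk _ (aeval lam (X i)) = g (κ (X i))
      rw [aeval_X, hlam']
    exact fun q => congr($this q)
  have hmu : ∀ j : Fin S.m, ∃ μ : Λ, aeval lam (S.f j) = algebraMap R Λ π ^ 2 * μ := by
    intro j
    have h1 : κ (S.f j) = 0 := by
      have : S.f j ∈ RingHom.ker κ.toRingHom := by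
        rw [hker]
        exact Ideal.mem_sup_left (Ideal.subset_span ⟨j, rfl⟩)
      exact this
    have h2 := hgκ (S.f j)
    rw [h1, map_zero, Ideal.Quotient.eq_zero_iff_mem, Ideal.mem_span_singleton'] at h2
    obtain ⟨μ, hμ⟩ := h2
    refine ⟨μ, ?_⟩
    rw [← hμ, map_pow, mul_comm]
  choose mu hmu' using hmu
  have hψker : RingHom.ker κ.toRingHom ≤ RingHom.ker S.ψ₀.toRingHom := by
    rw [hker]
    exact S.ψ₀_ker_le
  let ψ : C' →ₐ[R] S.Dbar := AlgHom.liftOfSurjective κ hκ S.ψ₀ hψker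
  have hψ : ∀ q, ψ (κ q) = S.ψ₀ q := fun q => AlgHom.liftOfSurjective_apply κ hκ S.ψ₀ hψker q
  refine ⟨S.δ lam mu hΛ hmu', ψ, ?_, ?_, ?_⟩
  · intro c d l h1 h2
    obtain ⟨q, rfl⟩ := hκ c
    rw [hψ, ψ₀_apply, Ideal.Quotient.eq, Ideal.mem_span_singleton'] at h1
    obtain ⟨e, he⟩ := h1
    rw [← hgκ, Ideal.Quotient.eq, Ideal.mem_span_singleton'] at h2
    obtain ⟨e', he'⟩ := h2
    have h3 := congrArg (S.δ lam mu hΛ hmu') he
    rw [map_mul, map_sub, δ_mkD_xx, AlgHom.commutes] at h3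
    rw [Ideal.mem_span_singleton']
    refine ⟨S.δ lam mu hΛ hmu' e - e' * algebraMap R Λ π, ?_⟩
    rw [map_pow] at he'
    linear_combination h3 - he'
  · intro Q _ hQ
    haveI := S.finitePresentation
    haveI := S.formallySmooth_away_pi _ rfl
    exact Desing.isSmoothAt_of_formallySmooth_away (algebraMap R S.D π) Q hQ
  · intro Q _ hsm
    obtain ⟨k, hk⟩ := hcov (Q.comap ψ) hsm
    have hk' : Ideal.Quotient.mk (Ideal.span {algebraMap R S.D π}) (S.mkD (S.xx (S.K k).a)) ∉ Q := by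
      intro h
      apply hk
      change ψ (κ (S.K k).a) ∈ Q
      rw [hψ, ψ₀_apply]
      exact h
    have hle : Ideal.span {algebraMap R S.D π} ≤
        Q.comap (Ideal.Quotient.mk (Ideal.span {algebraMap R S.D π})) := by
      intro x hx
      change Ideal.Quotient.mk _ x ∈ Q
      rw [Ideal.Quotient.eq_zero_iff_mem.mpr hx]
      exact Q.zero_mem
    have hnot : S.dD k ∉ Q.comap (Ideal.Quotient.mk (Ideal.span {algebraMap R S.D π})) := by
      intro h
      rw [dD, map_mul, map_mul] at h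
      rcases Ideal.IsPrime.mem_or_mem inferInstance h with h | h
      · exact hk' h
      · have h1 := hle (S.mkD_xx_mem_of_mem_IE k _ (S.K k).hmin)
        have h2 : S.mkD (S.xx (S.K k).a) ^ 2 ∈
            Q.comap (Ideal.Quotient.mk (Ideal.span {algebraMap R S.D π})) := by
          have e : S.mkD (S.xx (S.K k).a) ^ 2 =
              S.mkD (S.xx ((S.K k).a * ((S.K k).a - (S.K k).a' * (S.K k).minor))) +
                S.mkD (S.xx (S.K k).a) * S.mkD (S.xx (S.K k).a') *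
                  S.mkD (S.xx (S.K k).minor) := by
            simp only [map_mul, map_sub]
            ring
          rw [e]
          exact add_mem h1 (Ideal.mul_mem_left _ _ h)
        exact hk' (Ideal.IsPrime.mem_of_pow_mem inferInstance 2 h2)
    haveI := S.finitePresentation
    haveI := S.formallySmooth_away_dD k hR _ rfl
    exact Desing.isSmoothAt_of_formallySmooth_away (S.dD k) _ hnot

end Sys

end Groth.Agent.Lib.R2H4.LiftLemma
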