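import Mathlib
import Groth.Agent.Lib.R2H4LiftLemmaC
import Groth.Agent.Lib.R2H4StdElt

set_option autoImplicit false
set_option linter.style.haveILetI false
set_option linter.unusedSimpArgs false
universe u
open MvPolynomial

namespace Groth.Agent.Lib.R2H4.LiftLemma

open Groth.Agent.Lib.R2H4

/-- a local chart from a standard element, after the Nakayama upgrade -/
theorem exists_chart {R C' : Type u} [CommRing R] [CommRing C'] [Algebra R C'] (π : R) {n m : ℕ}
    (f : Fin m → MvPolynomial (Fin n) R) (κ : MvPolynomial (Fin n) R →ₐ[R] C')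
    (hκ : Function.Surjective κ)
    (hker : RingHom.ker κ.toRingHom =
      Ideal.span (Set.range f) ⊔ Ideal.span {(C π ^ 2 : MvPolynomial (Fin n) R)})
    (q : Ideal C') [q.IsPrime] (a : C') (haq : a ∉ q) {c : ℕ} (rows : Fin c ↪ Fin m)
    (cols : Fin c ↪ Fin n) (a' : C') (ha : a = a' * κ (Smoothing.jacobianMinor f rows cols))
    (a₁ : MvPolynomial (Fin n) R) (ha₁ : κ a₁ = a)
    (hkill : ∀ ℓ, a₁ * f ℓ ∈ Ideal.span (Set.range (f ∘ rows)) ⊔ Ideal.span (Set.range f) ^ 2 ⊔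
      Ideal.span {(C π ^ 2 : MvPolynomial (Fin n) R)}) :
    ∃ K : Chart π f, κ K.a ∉ q := by
  classical
  set I : Ideal (MvPolynomial (Fin n) R) := Ideal.span (Set.range f)
  set IE₀ : Ideal (MvPolynomial (Fin n) R) := Ideal.span (Set.range (f ∘ rows))
  set P2 : Ideal (MvPolynomial (Fin n) R) := Ideal.span {(C π ^ 2 : MvPolynomial (Fin n) R)}
  let IE : Ideal (MvPolynomial (Fin n) R) := IE₀ ⊔ P2
  have hIE₀I : IE₀ ≤ I := Ideal.span_mono (by rintro _ ⟨t, rfl⟩; exact ⟨_, rfl⟩)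
  have h1 : ∀ y ∈ I, a₁ * y ∈ IE ⊔ I ^ 2 := by
    intro y hy
    obtain ⟨cf, rfl⟩ := (Ideal.mem_span_range_iff_exists_fun).mp hy
    rw [Finset.mul_sum]
    refine Ideal.sum_mem _ fun ℓ _ => ?_
    have e1 : a₁ * (cf ℓ * f ℓ) = cf ℓ * (a₁ * f ℓ) := by ring
    rw [e1]
    refine Ideal.mul_mem_left _ _ ?_
    have e : IE₀ ⊔ I ^ 2 ⊔ P2 = IE ⊔ I ^ 2 := sup_right_comm _ _ _
    rw [← e]
    exact hkill ℓ
  let mkB : MvPolynomial (Fin n) R →+* MvPolynomial (Fin n) R ⧸ IE := Ideal.Quotient.mk IE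
  have hmkB : Function.Surjective mkB := Ideal.Quotient.mk_surjective
  let J : Ideal (MvPolynomial (Fin n) R ⧸ IE) := Ideal.map mkB I
  have hJfg : J.FG := Ideal.FG.map (Submodule.fg_span (Set.finite_range f)) mkB
  have hJ : ∀ x ∈ J, mkB a₁ * x ∈ J * J := by
    intro x hx
    obtain ⟨y, hy, rfl⟩ := (Ideal.mem_map_iff_of_surjective mkB hmkB).mp hx
    rw [← map_mul]
    have h2 := Ideal.mem_map_of_mem mkB (h1 y hy)
    rw [Ideal.map_sup, Ideal.map_pow, Ideal.map_quotient_self, bot_sup_eq, pow_two] at h2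
    exact h2
  obtain ⟨E, k, hE, hEd⟩ := exists_kill' J hJfg (mkB a₁) J hJ
  obtain ⟨a₂, rfl⟩ := hmkB E
  have h2a : ∀ y ∈ I, a₂ * y ∈ IE := by
    intro y hy
    have h3 := hE (mkB y) (Ideal.mem_map_of_mem mkB hy)
    rw [← map_mul] at h3
    exact Ideal.Quotient.eq_zero_iff_mem.mp h3
  have hIEker : IE ≤ RingHom.ker κ.toRingHom := by
    rw [hker]
    exact sup_le_sup_right hIE₀I _
  have hIker : I ≤ RingHom.ker κ.toRingHom := by
    rw [hker]
    exact le_sup_left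
  have h2b : κ a₂ = a ^ k := by
    rw [← map_pow, ← map_sub] at hEd
    obtain ⟨y, hy, hyE⟩ := (Ideal.mem_map_iff_of_surjective mkB hmkB).mp hEd
    have h3 : y - (a₂ - a₁ ^ k) ∈ IE := Ideal.Quotient.eq.mp hyE
    have h4 : κ (y - (a₂ - a₁ ^ k)) = 0 := hIEker h3
    have h5 : κ y = 0 := hIker hy
    rw [map_sub, map_sub, h5, map_pow, ha₁] at h4
    linear_combination (-1 : C') * h4
  obtain ⟨A', hA'⟩ := hκ a'
  have hB : ∀ ℓ, ∃ (h : Fin c → MvPolynomial (Fin n) R) (gg : MvPolynomial (Fin n) R),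
      (a₂ * a₁) * f ℓ = ∑ t, h t * f (rows t) + C π ^ 2 * gg := by
    intro ℓ
    have h3 : a₂ * f ℓ ∈ IE := h2a _ (Ideal.subset_span ⟨ℓ, rfl⟩)
    have h4 : (a₂ * a₁) * f ℓ ∈ IE := by
      have e1 : (a₂ * a₁) * f ℓ = a₁ * (a₂ * f ℓ) := by ring
      rw [e1]
      exact Ideal.mul_mem_left _ _ h3
    obtain ⟨y, hy, z, hz, hyz⟩ := Submodule.mem_sup.mp h4
    obtain ⟨h, rfl⟩ := (Ideal.mem_span_range_iff_exists_fun).mp hy
    obtain ⟨gg, rfl⟩ := Ideal.mem_span_singleton'.mp hz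
    refine ⟨h, gg, ?_⟩
    rw [← hyz]
    simp only [Function.comp_apply]
    ring
  choose h gg hB' using hB
  have hmin : (a₂ * a₁) * ((a₂ * a₁) - (a₂ * A') * Smoothing.jacobianMinor f rows cols) ∈ IE := by
    have h3 : (a₂ * a₁) - (a₂ * A') * Smoothing.jacobianMinor f rows cols ∈
        RingHom.ker κ.toRingHom := by
      change κ _ = 0
      rw [map_sub, map_mul, map_mul, map_mul, ha₁, hA', mul_assoc, ← ha, sub_self]
    rw [hker] at h3
    obtain ⟨y, hy, z, hz, hyz⟩ := Submodule.mem_sup.mp h3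
    rw [← hyz]
    have e1 : a₂ * a₁ * (y + z) = a₁ * (a₂ * y) + (a₂ * a₁) * z := by ring
    rw [e1]
    exact add_mem (Ideal.mul_mem_left _ _ (h2a y hy))
      (Ideal.mul_mem_left _ _ (Ideal.mem_sup_right hz))
  refine ⟨⟨c, rows, cols, a₂ * a₁, a₂ * A', h, gg, hB', hmin⟩, ?_⟩
  change κ (a₂ * a₁) ∉ q
  rw [map_mul, h2b, ha₁, ← pow_succ]
  exact fun h => haq (Ideal.IsPrime.mem_of_pow_mem inferInstance _ h)

/-- a presentation of `C` over `R` compatible with one over `R/π²`, with local charts -/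
theorem exists_presentation {R C' : Type u} [CommRing R] (π : R) [CommRing C'] [Algebra R C']
    [Algebra (R ⧸ Ideal.span {π ^ 2}) C'] [IsScalarTower R (R ⧸ Ideal.span {π ^ 2}) C']
    [Algebra.FinitePresentation (R ⧸ Ideal.span {π ^ 2}) C'] :
    ∃ (n m : ℕ) (f : Fin m → MvPolynomial (Fin n) R) (κ : MvPolynomial (Fin n) R →ₐ[R] C'),
      Function.Surjective κ ∧
      RingHom.ker κ.toRingHom =
        Ideal.span (Set.range f) ⊔ Ideal.span {(C π ^ 2 : MvPolynomial (Fin n) R)} ∧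
      ∀ (q : Ideal C') [q.IsPrime], Algebra.IsSmoothAt (R ⧸ Ideal.span {π ^ 2}) q →
        ∃ K : Chart π f, κ K.a ∉ q := by
  classical
  obtain ⟨n, φ, hφ, hfg⟩ :=
    Algebra.FinitePresentation.out (R := R ⧸ Ideal.span {π ^ 2}) (A := C')
  obtain ⟨m, fbar, hfbar⟩ := Submodule.fg_iff_exists_fin_generating_family.mp hfg
  let ρ : MvPolynomial (Fin n) R →+* MvPolynomial (Fin n) (R ⧸ Ideal.span {π ^ 2}) :=
    MvPolynomial.map (Ideal.Quotient.mk _)
  have hρ : Function.Surjective ρ := MvPolynomial.map_surjective _ Ideal.Quotient.mk_surjective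
  choose f hf using fun j => hρ (fbar j)
  let κ : MvPolynomial (Fin n) R →ₐ[R] C' :=
    (φ.restrictScalars R).comp
      (MvPolynomial.mapAlgHom (Algebra.ofId R (R ⧸ Ideal.span {π ^ 2})))
  have hκρ : ∀ x, κ x = φ (ρ x) := fun x => rfl
  have hκ : Function.Surjective κ := fun c => by
    obtain ⟨y, rfl⟩ := hφ c
    obtain ⟨x, rfl⟩ := hρ y
    exact ⟨x, rfl⟩
  have hkerρ : RingHom.ker ρ = Ideal.span {(C π ^ 2 : MvPolynomial (Fin n) R)} := by
    rw [MvPolynomial.ker_map, Ideal.mk_ker, Ideal.map_span, Set.image_singleton, map_pow]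
  have hmapI : Ideal.map ρ (Ideal.span (Set.range f)) = Ideal.span (Set.range fbar) := by
    rw [Ideal.map_span, ← Set.range_comp]
    congr 2
    ext j
    exact congrArg (coeff _) (hf j)
  have hkerφ : RingHom.ker φ.toRingHom = Ideal.span (Set.range fbar) := hfbar.symm
  have hker : RingHom.ker κ.toRingHom =
      Ideal.span (Set.range f) ⊔ Ideal.span {(C π ^ 2 : MvPolynomial (Fin n) R)} := by
    have h1 : RingHom.ker κ.toRingHom = Ideal.comap ρ (RingHom.ker φ.toRingHom) := by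
      ext x
      rfl
    rw [h1, hkerφ, ← hmapI, Ideal.comap_map_of_surjective ρ hρ, ← RingHom.ker_eq_comap_bot, hkerρ]
  refine ⟨n, m, f, κ, hκ, hker, ?_⟩
  intro q _ hsm
  obtain ⟨a, haq, c, rows, cols, a', ha, hkill⟩ := StdElt.main fbar φ hφ hkerφ q
  obtain ⟨a₁, ha₁⟩ := hκ a
  have hminor : ρ (Smoothing.jacobianMinor f rows cols) =
      Smoothing.jacobianMinor fbar rows cols := by
    unfold Smoothing.jacobianMinor
    rw [RingHom.map_det]
    congr 1
    ext1 j k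
    simp only [RingHom.mapMatrix_apply, Matrix.map_apply, Matrix.of_apply]
    rw [← hf]
    exact (pderiv_map).symm
  refine exists_chart π f κ hκ hker q a haq rows cols a' ?_ a₁ ha₁ ?_
  · rw [hκρ, hminor]
    exact ha
  · intro ℓ
    have h1 := hkill (ρ a₁) (by rw [← hκρ]; exact ha₁) ℓ
    have h2 : Ideal.span (Set.range (fbar ∘ rows)) ⊔ Ideal.span (Set.range fbar) ^ 2 =
        Ideal.map ρ (Ideal.span (Set.range (f ∘ rows)) ⊔ Ideal.span (Set.range f) ^ 2) := by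
      rw [Ideal.map_sup, Ideal.map_pow, hmapI, Ideal.map_span, ← Set.range_comp]
      congr 3
      ext t
      exact congrArg (coeff _) (hf (rows t)).symm
    rw [h2, ← hf ℓ, ← map_mul] at h1
    have h3 : a₁ * f ℓ ∈ Ideal.comap ρ (Ideal.map ρ
        (Ideal.span (Set.range (f ∘ rows)) ⊔ Ideal.span (Set.range f) ^ 2)) := h1
    rw [Ideal.comap_map_of_surjective ρ hρ, ← RingHom.ker_eq_comap_bot, hkerρ] at h3
    exact h3

/-- finitely many charts suffice -/
theorem exists_finite_cover {R C' : Type u} [CommRing R] [CommRing C'] [Algebra R C']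
    [IsNoetherianRing C'] (π : R) {n m : ℕ} (f : Fin m → MvPolynomial (Fin n) R)
    (κ : MvPolynomial (Fin n) R →ₐ[R] C') (P : Ideal C' → Prop)
    (hloc : ∀ q, P q → ∃ K : Chart π f, κ K.a ∉ q) :
    ∃ (ι : Type u) (_ : Finite ι) (K : ι → Chart π f), ∀ q, P q → ∃ k, κ (K k).a ∉ q := by
  classical
  let s : Set C' := Set.range fun K : Chart π f => κ K.a
  have hfg : (Ideal.span s).FG := IsNoetherian.noetherian _
  obtain ⟨s', hs's, hspan⟩ := (Submodule.fg_span_iff_fg_span_finset_subset s).mp hfg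
  have hch : ∀ x : s', ∃ K : Chart π f, κ K.a = x.1 := fun x => hs's x.2
  choose K hK using hch
  refine ⟨s', inferInstance, K, ?_⟩
  intro q hq
  obtain ⟨K₀, hK₀⟩ := hloc q hq
  by_contra hcon
  push Not at hcon
  apply hK₀
  have h1 : Ideal.span s ≤ q := by
    rw [show Ideal.span s = Ideal.span (s' : Set C') from hspan, Ideal.span_le]
    intro x hx
    have h2 := hcon ⟨x, hx⟩
    rw [hK] at h2
    exact h2
  exact h1 (Ideal.subset_span ⟨K₀, rfl⟩)

/-- the lifting lemma -/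
theorem main {R Λ C' : Type u} [CommRing R] [IsNoetherianRing R] [CommRing Λ]
    [Algebra R Λ] (π : R) (hR : ∀ r : R, π ^ 2 * r = 0 → π * r = 0)
    (hΛ : ∀ x : Λ, π ^ 2 • x = 0 → π • x = 0) [CommRing C'] [Algebra R C']
    [Algebra (R ⧸ Ideal.span {π ^ 2}) C'] [IsScalarTower R (R ⧸ Ideal.span {π ^ 2}) C']
    [Algebra.FinitePresentation (R ⧸ Ideal.span {π ^ 2}) C']
    (g : C' →ₐ[R] Λ ⧸ Ideal.span {algebraMap R Λ (π ^ 2)}) :
    ∃ (D : Type u) (_ : CommRing D) (_ : Algebra R D), Algebra.FinitePresentation R D ∧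
      ∃ (δ : D →ₐ[R] Λ) (ψ : C' →ₐ[R] D ⧸ Ideal.span {algebraMap R D π}),
        (∀ (c : C') (d : D) (l : Λ), Ideal.Quotient.mk (Ideal.span {algebraMap R D π}) d = ψ c →
          Ideal.Quotient.mk (Ideal.span {algebraMap R Λ (π ^ 2)}) l = g c →
            δ d - l ∈ Ideal.span {algebraMap R Λ π}) ∧
        (∀ (Q : Ideal D) [Q.IsPrime], algebraMap R D π ∉ Q → Algebra.IsSmoothAt R Q) ∧
        (∀ (Q : Ideal (D ⧸ Ideal.span {algebraMap R D π})) [Q.IsPrime],
          Algebra.IsSmoothAt (R ⧸ Ideal.span {π ^ 2}) (Q.comap ψ) →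
            Algebra.IsSmoothAt R (Q.comap (Ideal.Quotient.mk (Ideal.span {algebraMap R D π})))) := by
  classical
  obtain ⟨n, m, f, κ, hκ, hker, hloc⟩ := exists_presentation (R := R) (C' := C') π
  haveI : IsNoetherianRing C' :=
    Algebra.FiniteType.isNoetherianRing (R ⧸ Ideal.span {π ^ 2}) C'
  obtain ⟨ι, hfin, K, hcov⟩ := exists_finite_cover π f κ
    (fun q => ∃ (_ : q.IsPrime), Algebra.IsSmoothAt (R ⧸ Ideal.span {π ^ 2}) q)
    (fun q ⟨_, hq⟩ => hloc q hq)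
  let S : Sys π := ⟨n, m, f, ι, hfin, K⟩
  obtain ⟨δ, ψ, h1, h2, h3⟩ := S.main hR hΛ g κ hκ hker (fun q _ hq => hcov q ⟨inferInstance, hq⟩)
  exact ⟨S.D, inferInstance, inferInstance, S.finitePresentation, δ, ψ, h1, h2, h3⟩

end Groth.Agent.Lib.R2H4.LiftLemma
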