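import Mathlib
import Groth.Agent.Lib.R2H4LiftLemmaD

set_option autoImplicit false
set_option linter.style.haveILetI false
set_option linter.unusedSimpArgs false
universe u
open MvPolynomial

namespace Groth.Agent.Lib.R2H4.LiftApply

open Groth.Agent.Lib.R2H4

/-- the lifting lemma with the square named separately -/
theorem liftLemma' {R Λ C' : Type u} [CommRing R] [IsNoetherianRing R] [CommRing Λ]
    [Algebra R Λ] (π p2 : R) (hp : p2 = π ^ 2) (hR : ∀ r : R, p2 * r = 0 → π * r = 0)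
    (hΛ : ∀ x : Λ, p2 • x = 0 → π • x = 0) [CommRing C'] [Algebra R C']
    [Algebra (R ⧸ Ideal.span {p2}) C'] [IsScalarTower R (R ⧸ Ideal.span {p2}) C']
    [Algebra.FinitePresentation (R ⧸ Ideal.span {p2}) C']
    (g : C' →ₐ[R] Λ ⧸ Ideal.span {algebraMap R Λ p2}) :
    ∃ (D : Type u) (_ : CommRing D) (_ : Algebra R D), Algebra.FinitePresentation R D ∧
      ∃ (δ : D →ₐ[R] Λ) (ψ : C' →ₐ[R] D ⧸ Ideal.span {algebraMap R D π}),
        (∀ (c : C') (d : D) (l : Λ), Ideal.Quotient.mk (Ideal.span {algebraMap R D π}) d = ψ c →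
          Ideal.Quotient.mk (Ideal.span {algebraMap R Λ p2}) l = g c →
            δ d - l ∈ Ideal.span {algebraMap R Λ π}) ∧
        (∀ (Q : Ideal D) [Q.IsPrime], algebraMap R D π ∉ Q → Algebra.IsSmoothAt R Q) ∧
        (∀ (Q : Ideal (D ⧸ Ideal.span {algebraMap R D π})) [Q.IsPrime],
          Algebra.IsSmoothAt (R ⧸ Ideal.span {p2}) (Q.comap ψ) →
            Algebra.IsSmoothAt R (Q.comap (Ideal.Quotient.mk (Ideal.span {algebraMap R D π})))) := by
  subst hp
  exact LiftLemma.main π hR hΛ g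

theorem smul_eq_zero_of_pow_succ {R M : Type*} [CommRing R] [AddCommGroup M] [Module R M] (π : R)
    (h : ∀ x : M, π ^ 2 • x = 0 → π • x = 0) (k : ℕ) (x : M) (hx : π ^ (k + 1) • x = 0) :
    π • x = 0 := by
  induction k with
  | zero => simpa using hx
  | succ k ih =>
    apply ih
    have h1 : π ^ 2 • (π ^ k • x) = 0 := by
      rw [← mul_smul, ← pow_add]
      have : 2 + k = k + 1 + 1 := by ring
      rw [this]
      exact hx
    have h2 := h _ h1
    rw [← mul_smul, ← pow_succ'] at h2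
    exact h2

theorem isSmoothAt_congr {R A : Type u} [CommRing R] [CommRing A] [Algebra R A] (p p' : Ideal A)
    [p.IsPrime] [p'.IsPrime] (h : p' = p) (hs : Algebra.IsSmoothAt R p) : Algebra.IsSmoothAt R p' := by
  subst h
  exact hs

theorem exists_mem_singularIdeal_not_mem {R D : Type u} [CommRing R] [CommRing D] [Algebra R D]
    [Algebra.FinitePresentation R D] (Q : Ideal D) [Q.IsPrime] (hs : Algebra.IsSmoothAt R Q) :
    ∃ d ∈ Smoothing.singularIdeal R D, d ∉ Q := by
  have : ¬ Smoothing.singularIdeal R D ≤ Q := by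
    intro hle
    have h1 : (⟨Q, inferInstance⟩ : PrimeSpectrum D) ∈
        PrimeSpectrum.zeroLocus (Smoothing.singularIdeal R D : Set D) := hle
    rw [Smoothing.singularIdeal, PrimeSpectrum.zeroLocus_vanishingIdeal_eq_closure,
      IsClosed.closure_eq (Algebra.isOpen_smoothLocus).isClosed_compl] at h1
    exact h1 hs
  exact SetLike.not_le_iff_exists.mp this

theorem main {R Λ A C' : Type u} [CommRing R] [IsNoetherianRing R] [CommRing Λ]
    [Algebra R Λ] (π : R) (hR : ∀ r : R, π ^ 2 * r = 0 → π * r = 0)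
    (hΛ : ∀ x : Λ, π ^ 2 • x = 0 → π • x = 0) [CommRing A] [Algebra R A]
    [Algebra.FinitePresentation R A] (φ : A →ₐ[R] Λ)
    (hπ : Smoothing.IsStrictlyStandard R A (algebraMap R A π))
    [CommRing C'] [Algebra R C'] [Algebra (R ⧸ Ideal.span {π ^ 8}) C']
    [IsScalarTower R (R ⧸ Ideal.span {π ^ 8}) C']
    [Algebra.FinitePresentation (R ⧸ Ideal.span {π ^ 8}) C']
    (γ : A →ₐ[R] C') (g : C' →ₐ[R] Λ ⧸ Ideal.span {algebraMap R Λ (π ^ 8)})
    (hfac : ∀ a : A, g (γ a) = Ideal.Quotient.mk (Ideal.span {algebraMap R Λ (π ^ 8)}) (φ a)) :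
    ∃ (B : Type u) (_ : CommRing B) (_ : Algebra R B), Algebra.FinitePresentation R B ∧
      ∃ (α : A →ₐ[R] B) (β : B →ₐ[R] Λ), β.comp α = φ ∧
        (∀ (Q : Ideal B) [Q.IsPrime], algebraMap R B π ∉ Q → Algebra.IsSmoothAt R Q) ∧
        (Smoothing.singularIdeal (R ⧸ Ideal.span {π ^ 8}) C').map g ≤
          ((Smoothing.singularIdeal R B).map β).radical.map
            (Ideal.Quotient.mk (Ideal.span {algebraMap R Λ (π ^ 8)})) := by
  classical
  have hR1 : ∀ r : R, π ^ 8 * r = 0 → π * r = 0 := fun r hr => by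
    have h0 : ∀ x : R, π ^ 2 • x = 0 → π • x = 0 := fun x hx => by
      rw [smul_eq_mul] at hx ⊢
      exact hR x hx
    have := smul_eq_zero_of_pow_succ π h0 7 r (by rw [smul_eq_mul]; exact hr)
    rwa [smul_eq_mul] at this
  have hR4 : ∀ r : R, π ^ 8 * r = 0 → π ^ 4 * r = 0 := fun r hr => by
    rw [pow_succ, mul_assoc, hR1 r hr, mul_zero]
  have hΛ1 : ∀ x : Λ, π ^ 8 • x = 0 → π • x = 0 := fun x hx =>
    smul_eq_zero_of_pow_succ π hΛ 7 x hx
  have hΛ4 : ∀ x : Λ, π ^ 8 • x = 0 → π ^ 4 • x = 0 := fun x hx => by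
    rw [pow_succ, mul_smul, hΛ1 x hx, smul_zero]
  obtain ⟨D, _, _, hDfp, δ, ψ, hcompat, hDsm, hDsm'⟩ :=
    liftLemma' (π ^ 4) (π ^ 8) (by ring) hR4 hΛ4 g
  haveI := hDfp
  obtain ⟨B, _, _, _, _, hBfp, α, β, hβα, hβδ, -, hHB⟩ :=
    Desing2.main π hR hΛ φ δ hπ (ψ.comp γ) (by
      intro a d hd
      exact hcompat (γ a) d (φ a) hd (hfac a).symm)
  have hp4 : algebraMap R B (π ^ 4) ∈ Smoothing.singularIdeal R B := by
    have h1 : algebraMap R D (π ^ 4) ∈ Smoothing.singularIdeal R D :=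
      DelocWeak.mem_singularIdeal_of_forall _ (fun Q _ hQ => hDsm Q hQ)
    have h2 := hHB (Ideal.mem_map_of_mem _ h1)
    rwa [← IsScalarTower.algebraMap_apply] at h2
  refine ⟨B, inferInstance, inferInstance, hBfp, α, β, hβα, ?_, ?_⟩
  · intro Q _ hQ
    by_contra hns
    apply hQ
    rw [Smoothing.singularIdeal, PrimeSpectrum.mem_vanishingIdeal] at hp4
    have h1 := hp4 ⟨Q, inferInstance⟩ hns
    rw [map_pow] at h1
    exact Ideal.IsPrime.mem_of_pow_mem inferInstance 4 h1
  · rw [Ideal.map_le_iff_le_comap]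
    intro x hx
    rw [Ideal.mem_comap]
    obtain ⟨l, hl⟩ := Ideal.Quotient.mk_surjective (g x)
    rw [← hl]
    apply Ideal.mem_map_of_mem
    rw [Ideal.radical_eq_sInf, Ideal.mem_sInf]
    rintro q ⟨hJq, hqprime⟩
    haveI := hqprime
    by_contra hlq
    have hp4q : algebraMap R Λ (π ^ 4) ∈ q := by
      have h1 := hJq (Ideal.mem_map_of_mem β hp4)
      rwa [AlgHom.commutes] at h1
    have hpq : algebraMap R Λ π ∈ q := by
      rw [map_pow] at hp4q
      exact Ideal.IsPrime.mem_of_pow_mem inferInstance 4 hp4q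
    have hp8q : Ideal.span {algebraMap R Λ (π ^ 8)} ≤ q := by
      rw [Ideal.span_le, Set.singleton_subset_iff, map_pow]
      exact Ideal.pow_mem_of_mem _ hpq 8 (by norm_num)
    have hp4q' : Ideal.span {algebraMap R Λ (π ^ 4)} ≤ q := by
      rw [Ideal.span_le, Set.singleton_subset_iff]
      exact hp4q
    let qbar : Ideal (Λ ⧸ Ideal.span {algebraMap R Λ (π ^ 8)}) :=
      q.map (Ideal.Quotient.mk (Ideal.span {algebraMap R Λ (π ^ 8)}))
    haveI hqbar : qbar.IsPrime :=
      Ideal.map_isPrime_of_surjective Ideal.Quotient.mk_surjective (by rw [Ideal.mk_ker]; exact hp8q)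
    have hqbar_comap : qbar.comap (Ideal.Quotient.mk (Ideal.span {algebraMap R Λ (π ^ 8)})) = q := by
      rw [Ideal.comap_map_of_surjective _ Ideal.Quotient.mk_surjective,
        ← RingHom.ker_eq_comap_bot, Ideal.mk_ker, sup_eq_left]
      exact hp8q
    have hmem : ∀ y : Λ, Ideal.Quotient.mk (Ideal.span {algebraMap R Λ (π ^ 8)}) y ∈ qbar ↔ y ∈ q :=
      fun y => by
        rw [← Ideal.mem_comap, hqbar_comap]
    let 𝔠 : Ideal C' := qbar.comap g
    haveI : 𝔠.IsPrime := Ideal.comap_isPrime g qbar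
    have hx𝔠 : x ∉ 𝔠 := by
      intro h
      apply hlq
      rw [← hmem, hl]
      exact h
    have hsm𝔠 : Algebra.IsSmoothAt (R ⧸ Ideal.span {π ^ 8}) 𝔠 := by
      by_contra hns
      rw [Smoothing.singularIdeal, PrimeSpectrum.mem_vanishingIdeal] at hx
      exact hx𝔠 (hx ⟨𝔠, inferInstance⟩ hns)
    let QD : Ideal D := q.comap δ
    haveI : QD.IsPrime := Ideal.comap_isPrime δ q
    have hp4D : Ideal.span {algebraMap R D (π ^ 4)} ≤ QD := by
      rw [Ideal.span_le, Set.singleton_subset_iff]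
      change δ (algebraMap R D (π ^ 4)) ∈ q
      rw [AlgHom.commutes]
      exact hp4q
    let Q : Ideal (D ⧸ Ideal.span {algebraMap R D (π ^ 4)}) :=
      QD.map (Ideal.Quotient.mk (Ideal.span {algebraMap R D (π ^ 4)}))
    haveI hQ : Q.IsPrime :=
      Ideal.map_isPrime_of_surjective Ideal.Quotient.mk_surjective (by rw [Ideal.mk_ker]; exact hp4D)
    have hQ_comap : Q.comap (Ideal.Quotient.mk (Ideal.span {algebraMap R D (π ^ 4)})) = QD := by
      rw [Ideal.comap_map_of_surjective _ Ideal.Quotient.mk_surjective,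
        ← RingHom.ker_eq_comap_bot, Ideal.mk_ker, sup_eq_left]
      exact hp4D
    have hQψ : Q.comap ψ = 𝔠 := by
      ext c
      obtain ⟨d, hd⟩ := Ideal.Quotient.mk_surjective (ψ c)
      obtain ⟨l', hl'⟩ := Ideal.Quotient.mk_surjective (g c)
      have h1 := hcompat c d l' hd hl'
      have h2 : δ d - l' ∈ q := hp4q' h1
      have e1 : Ideal.Quotient.mk (Ideal.span {algebraMap R D (π ^ 4)}) d ∈ Q ↔ δ d ∈ q := by
        rw [← Ideal.mem_comap, hQ_comap]
        rfl
      rw [Ideal.mem_comap, Ideal.mem_comap, ← hd, ← hl', e1, hmem]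
      constructor
      · intro h
        have := sub_mem h h2
        simpa using this
      · intro h
        have := add_mem h2 h
        simpa using this
    have hsmQ : Algebra.IsSmoothAt (R ⧸ Ideal.span {π ^ 8}) (Q.comap ψ) :=
      isSmoothAt_congr 𝔠 _ hQψ hsm𝔠
    have hsmQD := hDsm' Q hsmQ
    have hsmQD' : Algebra.IsSmoothAt R QD := isSmoothAt_congr _ QD hQ_comap.symm hsmQD
    obtain ⟨d, hdH, hdQ⟩ := exists_mem_singularIdeal_not_mem QD hsmQD'
    apply hdQ
    change δ d ∈ q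
    rw [← hβδ]
    change β (algebraMap D B d) ∈ q
    exact hJq (Ideal.mem_map_of_mem β (hHB (Ideal.mem_map_of_mem _ hdH)))

end Groth.Agent.Lib.R2H4.LiftApply
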