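import Mathlib
import Groth.Prelude.Def_Smoothing
import Groth.Agent.Lib.R2H4SepField
import Groth.Agent.Lib.R2H4DelocWeak
import Groth.Agent.Lib.R2H4LiftApply
import Groth.Agent.Lib.R2H4IndSmoothNil
import Groth.Agent.Lib.R2H4ArtinRes

/-!
# Unramified extensions of discrete valuation rings with separable residue and fraction field
extensions are ind-smooth (helper4, round 2)

* `isStrictlyStandard_mul`: multiples of strictly standard elements are strictly standard.
* `indSmooth_quot_of_pow_le`: ind-smoothness of `R/I → Λ/IΛ` passes to `R/J → Λ/JΛ` for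
  `I ^ n ≤ J ≤ I` when `Λ` is flat over `R`.
* `isLocalization_fraction`: for an unramified extension of DVRs `R ⊆ Λ`, `Frac Λ` is the
  localization of `Λ` at the image of `R ∖ {0}`.
* `indSmooth_of_local_of_map_eq_top`: over a local target, `H_{B/R} Λ = Λ` gives a factorization
  through a smooth algebra.
* `main`: the statement of S6830.
-/

set_option autoImplicit false
set_option linter.style.haveILetI false
set_option linter.unusedSimpArgs false
set_option linter.unusedSectionVars false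
universe u

open IsLocalRing TensorProduct

namespace Groth.Agent.Lib.R2H4.DvrUnram

theorem isStrictlyStandard_mul {R A : Type u} [CommRing R] [CommRing A] [Algebra R A] (a b : A)
    (h : Smoothing.IsStrictlyStandard R A a) : Smoothing.IsStrictlyStandard R A (b * a) := by
  obtain ⟨P, hmem, hkt⟩ := h
  refine ⟨P, Ideal.mul_mem_left _ b hmem, ?_⟩
  intro x' hx' j hj
  obtain ⟨a', ha'⟩ := P.surj a
  obtain ⟨b', hb'⟩ := P.surj b
  have h1 := hkt a' ha' j hj
  have h2 : x' - b' * a' ∈ Ideal.span (Set.range P.rel) := by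
    rw [← P.ker_eq, RingHom.mem_ker]
    change P.hom (x' - b' * a') = 0
    rw [map_sub, map_mul, hx', ha', hb', sub_self]
  have h3 : x' * P.rel j = (x' - b' * a') * P.rel j + b' * (a' * P.rel j) := by ring
  rw [h3]
  refine Ideal.add_mem _ (Ideal.mem_sup_right ?_) (Ideal.mul_mem_left _ _ h1)
  rw [pow_two]
  exact Ideal.mul_mem_mul h2 (Ideal.subset_span ⟨j, rfl⟩)

theorem indSmooth_quot_of_pow_le {R Λ : Type u} [CommRing R] [CommRing Λ] [Algebra R Λ]
    [Module.Flat R Λ] (I J : Ideal R) (hJI : J ≤ I) (n : ℕ) (hn : I ^ n ≤ J)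
    (h : Smoothing.IndSmooth (R ⧸ I) (Λ ⧸ I.map (algebraMap R Λ))) :
    Smoothing.IndSmooth (R ⧸ J) (Λ ⧸ J.map (algebraMap R Λ)) := by
  let R₂ := R ⧸ J
  let Λ₂ := Λ ⧸ J.map (algebraMap R Λ)
  let Ib : Ideal R₂ := I.map (Ideal.Quotient.mk J)
  have hIb : IsNilpotent Ib := ⟨n, by
    rw [← Ideal.map_pow, Ideal.zero_eq_bot, eq_bot_iff]
    calc (I ^ n).map (Ideal.Quotient.mk J) ≤ J.map (Ideal.Quotient.mk J) := Ideal.map_mono hn
      _ = ⊥ := Ideal.map_quotient_self J⟩
  haveI : Module.Flat R₂ Λ₂ :=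
    Module.Flat.of_linearEquiv
      (Algebra.TensorProduct.quotIdealMapEquivQuotTensor Λ J).toLinearEquiv
  have hle' : J.map (algebraMap R Λ) ≤ I.map (algebraMap R Λ) := Ideal.map_mono hJI
  have hid : (I.map (algebraMap R Λ)).map (Ideal.Quotient.mk (J.map (algebraMap R Λ))) =
      Ib.map (algebraMap R₂ Λ₂) := by
    rw [Ideal.map_map, Ideal.map_map]
    rfl
  let e : R ⧸ I ≃+* R₂ ⧸ Ib := (DoubleQuot.quotQuotEquivQuotOfLE hJI).symm
  let e' : Λ ⧸ I.map (algebraMap R Λ) ≃+* Λ₂ ⧸ Ib.map (algebraMap R₂ Λ₂) :=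
    (DoubleQuot.quotQuotEquivQuotOfLE hle').symm.trans (Ideal.quotEquivOfEq hid)
  refine IndSmoothNil.main Ib hIb (IndSmoothNil.indSmooth_of_ringEquiv e e' ?_ h)
  intro r
  obtain ⟨r, rfl⟩ := Ideal.Quotient.mk_surjective r
  rfl

theorem isLocalization_fraction {R Λ L : Type u} [CommRing R] [IsDomain R]
    [IsDiscreteValuationRing R] [CommRing Λ] [IsDomain Λ] [IsDiscreteValuationRing Λ] [Algebra R Λ]
    [NoZeroSMulDivisors R Λ]
    (he : (maximalIdeal R).map (algebraMap R Λ) = maximalIdeal Λ)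
    [Field L] [Algebra Λ L] [IsFractionRing Λ L] :
    IsLocalization (Algebra.algebraMapSubmonoid Λ (nonZeroDivisors R)) L := by
  have hinj : Function.Injective (algebraMap R Λ) := FaithfulSMul.algebraMap_injective R Λ
  obtain ⟨π, hπ⟩ := IsDiscreteValuationRing.exists_irreducible R
  have hπΛ : Irreducible (algebraMap R Λ π) := by
    rw [IsDiscreteValuationRing.irreducible_iff_uniformizer, ← he, hπ.maximalIdeal_eq,
      Ideal.map_span, Set.image_singleton]
  have hle : Algebra.algebraMapSubmonoid Λ (nonZeroDivisors R) ≤ nonZeroDivisors Λ := by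
    rintro _ ⟨r, hr, rfl⟩
    exact mem_nonZeroDivisors_of_ne_zero
      (fun h0 => nonZeroDivisors.ne_zero hr (hinj (by rw [h0, map_zero])))
  have hdvd : ∀ n ∈ nonZeroDivisors Λ,
      ∃ m ∈ Algebra.algebraMapSubmonoid Λ (nonZeroDivisors R), n ∣ m := by
    intro n hn
    obtain ⟨k, u, hk⟩ :=
      IsDiscreteValuationRing.eq_unit_mul_pow_irreducible (nonZeroDivisors.ne_zero hn) hπΛ
    refine ⟨algebraMap R Λ (π ^ k),
      ⟨π ^ k, mem_nonZeroDivisors_of_ne_zero (pow_ne_zero _ hπ.ne_zero), rfl⟩, ?_⟩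
    rw [map_pow, hk]
    exact ⟨(↑u⁻¹ : Λ), by rw [mul_comm (u : Λ), mul_assoc, Units.mul_inv, mul_one]⟩
  haveI : IsLocalization (nonZeroDivisors Λ)
      (Localization (Algebra.algebraMapSubmonoid Λ (nonZeroDivisors R))) :=
    IsLocalization.of_le_of_exists_dvd _ _ hle hdvd
  exact IsLocalization.isLocalization_of_algEquiv _
    (IsLocalization.algEquiv (nonZeroDivisors Λ)
      (Localization (Algebra.algebraMapSubmonoid Λ (nonZeroDivisors R))) L)

/-- over a local target, `H_{B/R} Λ = Λ` gives a factorization through a smooth algebra -/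
theorem exists_smooth_of_map_eq_top {R B Λ : Type u} [CommRing R] [CommRing B] [Algebra R B]
    [Algebra.FinitePresentation R B] [CommRing Λ] [IsLocalRing Λ] [Algebra R Λ] (β : B →ₐ[R] Λ)
    (htop : (Smoothing.singularIdeal R B).map β = ⊤) :
    ∃ (B₂ : Type u) (_ : CommRing B₂) (_ : Algebra R B₂), Algebra.Smooth R B₂ ∧
      ∃ (g : B →ₐ[R] B₂) (h : B₂ →ₐ[R] Λ), h.comp g = β := by
  obtain ⟨b, hb, hbu⟩ : ∃ b ∈ Smoothing.singularIdeal R B, IsUnit (β b) := by
    by_contra hcon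
    push Not at hcon
    have : (Smoothing.singularIdeal R B).map β ≤ maximalIdeal Λ := by
      rw [Ideal.map_le_iff_le_comap]
      intro b hb
      exact hcon b hb
    rw [htop] at this
    exact (Ideal.IsPrime.ne_top inferInstance : maximalIdeal Λ ≠ ⊤) (top_le_iff.mp this)
  haveI : Algebra.Smooth R (Localization.Away b) := DelocWeak.smooth_away_of_mem_singularIdeal b hb
  have hunit : ∀ y : Submonoid.powers b, IsUnit (β y) := by
    rintro ⟨_, k, rfl⟩
    rw [map_pow]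
    exact hbu.pow k
  refine ⟨Localization.Away b, inferInstance, inferInstance, inferInstance,
    IsScalarTower.toAlgHom R B (Localization.Away b),
    IsLocalization.liftAlgHom (M := Submonoid.powers b) (f := β) hunit, ?_⟩
  ext x
  simp

attribute [local instance] Algebra.TensorProduct.rightAlgebra in
set_option maxHeartbeats 800000 in
theorem main {R Λ K L : Type u} [CommRing R] [IsDomain R]
    [IsDiscreteValuationRing R] [CommRing Λ] [IsDomain Λ] [IsDiscreteValuationRing Λ] [Algebra R Λ]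
    [NoZeroSMulDivisors R Λ] [IsLocalHom (algebraMap R Λ)]
    (he : (maximalIdeal R).map (algebraMap R Λ) = maximalIdeal Λ)
    [Algebra.IsGeometricallyReduced (ResidueField R) (ResidueField Λ)]
    [Field K] [Algebra R K] [IsFractionRing R K] [Field L] [Algebra Λ L] [IsFractionRing Λ L]
    [Algebra K L] [Algebra R L] [IsScalarTower R K L] [IsScalarTower R Λ L]
    [Algebra.IsGeometricallyReduced K L] :
    Smoothing.IndSmooth R Λ := by
  classical
  intro A _ _ hfp φ
  haveI := hfp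
  have hinj : Function.Injective (algebraMap R Λ) := FaithfulSMul.algebraMap_injective R Λ
  obtain ⟨π, hπ⟩ := IsDiscreteValuationRing.exists_irreducible R
  have hKL : Smoothing.IndSmooth K L := SepField.indSmooth_of_geomReduced
  have hκ : Smoothing.IndSmooth (ResidueField R) (ResidueField Λ) :=
    SepField.indSmooth_of_geomReduced
  -- Step 1: the generic fibre
  let ψ : K ⊗[R] A →ₐ[K] L := Algebra.TensorProduct.lift (Algebra.ofId K L)
      ((IsScalarTower.toAlgHom R Λ L).comp φ) (fun _ _ => Commute.all _ _)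
  obtain ⟨B', _, _, hsm, g', h', hcomp⟩ := hKL (K ⊗[R] A) inferInstance ψ
  haveI := hsm
  letI : Algebra R B' := ((algebraMap K B').comp (algebraMap R K)).toAlgebra
  haveI : IsScalarTower R K B' := IsScalarTower.of_algebraMap_eq (fun _ => rfl)
  haveI := isLocalization_fraction (R := R) (Λ := Λ) (L := L) he
  let g₀ : A →ₐ[R] B' := (g'.restrictScalars R).comp Algebra.TensorProduct.includeRight
  obtain ⟨B₁, _, _, α₁, β₁, hβα₁, s, hs, hstd⟩ :=
    DelocWeak.main' φ (nonZeroDivisors R) g₀ h' (by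
      intro a
      change h' (g' ((1 : K) ⊗ₜ[R] a)) = _
      have := congr($hcomp ((1 : K) ⊗ₜ[R] a))
      simpa [ψ] using this)
  haveI hfp₁ : Algebra.FinitePresentation R B₁ :=
    DelocWeak.finitePresentation_of_marked hstd.choose
  have hs0 : s ≠ 0 := nonZeroDivisors.ne_zero hs
  obtain ⟨m, u, hsu⟩ := IsDiscreteValuationRing.eq_unit_mul_pow_irreducible hs0 hπ
  obtain ⟨ϖ, hϖ⟩ : ∃ ϖ : R, ϖ = π ^ (m + 1) := ⟨_, rfl⟩
  have hϖs : ϖ = ((↑u⁻¹ : R) * π) * s := by
    rw [hsu, hϖ, pow_succ]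
    calc π ^ m * π = ((↑u⁻¹ : R) * (u : R)) * (π ^ m * π) := by rw [Units.inv_mul, one_mul]
      _ = _ := by ring
  have hϖ0 : ϖ ≠ 0 := by rw [hϖ]; exact pow_ne_zero _ hπ.ne_zero
  have hstdϖ : Smoothing.IsStrictlyStandard R B₁ (algebraMap R B₁ ϖ) := by
    rw [hϖs, map_mul]
    exact isStrictlyStandard_mul _ _ (SingStd.isStrictlyStandard_of_isElementaryStandard _ hstd)
  -- Step 2: the problem modulo `ϖ ^ 8`
  have hJpow : Ideal.span {ϖ ^ 8} = maximalIdeal R ^ ((m + 1) * 8) := by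
    rw [hπ.maximalIdeal_eq, Ideal.span_singleton_pow, hϖ, pow_mul]
  have hJI : Ideal.span {ϖ ^ 8} ≤ maximalIdeal R := by
    rw [hJpow]
    exact Ideal.pow_le_self (by omega)
  have hκ' : Smoothing.IndSmooth (R ⧸ maximalIdeal R)
      (Λ ⧸ (maximalIdeal R).map (algebraMap R Λ)) :=
    IndSmoothNil.indSmooth_of_ringEquiv (RingEquiv.refl _) (Ideal.quotEquivOfEq he.symm) (by
      intro r
      obtain ⟨r, rfl⟩ := Ideal.Quotient.mk_surjective r
      rfl) hκ
  have hbar : Smoothing.IndSmooth (R ⧸ Ideal.span {ϖ ^ 8})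
      (Λ ⧸ (Ideal.span {ϖ ^ 8}).map (algebraMap R Λ)) :=
    indSmooth_quot_of_pow_le (maximalIdeal R) _ hJI _ hJpow.ge hκ'
  have hJΛ : (Ideal.span {ϖ ^ 8}).map (algebraMap R Λ) =
      Ideal.span {algebraMap R Λ (ϖ ^ 8)} := by
    rw [Ideal.map_span, Set.image_singleton]
  let φbar : (R ⧸ Ideal.span {ϖ ^ 8}) ⊗[R] B₁ →ₐ[R ⧸ Ideal.span {ϖ ^ 8}]
      (Λ ⧸ (Ideal.span {ϖ ^ 8}).map (algebraMap R Λ)) :=
    Algebra.TensorProduct.lift (Algebra.ofId _ _)
      ((Ideal.Quotient.mkₐ R _).comp β₁) (fun _ _ => Commute.all _ _)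
  obtain ⟨C', _, _, hsmC, γbar, gbar, hcompC⟩ := hbar _ inferInstance φbar
  haveI := hsmC
  letI : Algebra R C' :=
    ((algebraMap (R ⧸ Ideal.span {ϖ ^ 8}) C').comp (algebraMap R (R ⧸ Ideal.span {ϖ ^ 8}))).toAlgebra
  haveI : IsScalarTower R (R ⧸ Ideal.span {ϖ ^ 8}) C' :=
    IsScalarTower.of_algebraMap_eq (fun _ => rfl)
  let γ : B₁ →ₐ[R] C' := (γbar.restrictScalars R).comp Algebra.TensorProduct.includeRight
  let g : C' →ₐ[R] Λ ⧸ Ideal.span {algebraMap R Λ (ϖ ^ 8)} :=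
    (Ideal.quotientEquivAlgOfEq R hJΛ).toAlgHom.comp (gbar.restrictScalars R)
  have hfac : ∀ b : B₁, g (γ b) =
      Ideal.Quotient.mk (Ideal.span {algebraMap R Λ (ϖ ^ 8)}) (β₁ b) := by
    intro b
    change (Ideal.quotientEquivAlgOfEq R hJΛ) (gbar (γbar ((1 : R ⧸ Ideal.span {ϖ ^ 8}) ⊗ₜ[R] b))) = _
    have h1 := congr($hcompC ((1 : R ⧸ Ideal.span {ϖ ^ 8}) ⊗ₜ[R] b))
    have h2 : gbar (γbar ((1 : R ⧸ Ideal.span {ϖ ^ 8}) ⊗ₜ[R] b)) =
        Ideal.Quotient.mk _ (β₁ b) := by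
      rw [AlgHom.comp_apply] at h1
      rw [h1]
      simp [φbar]
    rw [h2]
    rfl
  have hR : ∀ r : R, ϖ ^ 2 * r = 0 → ϖ * r = 0 := by
    intro r hr
    rcases mul_eq_zero.mp hr with h | h
    · exact absurd h (pow_ne_zero _ hϖ0)
    · rw [h, mul_zero]
  have hΛ : ∀ x : Λ, ϖ ^ 2 • x = 0 → ϖ • x = 0 := by
    intro x hx
    rcases smul_eq_zero.mp hx with h | h
    · exact absurd h (pow_ne_zero _ hϖ0)
    · rw [h, smul_zero]
  obtain ⟨B, _, _, hBfp, α, β, hβα, -, hH⟩ := LiftApply.main ϖ hR hΛ β₁ hstdϖ γ g hfac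
  haveI := hBfp
  -- Step 3: `H_{B/R} Λ = Λ`
  have hϖΛ : algebraMap R Λ (ϖ ^ 8) ∈ maximalIdeal Λ := by
    rw [← he]
    exact Ideal.mem_map_of_mem _ (hJI (Ideal.subset_span rfl))
  have htop : (Smoothing.singularIdeal R B).map β = ⊤ := by
    rw [← Ideal.radical_eq_top]
    by_contra hne
    have hle := IsLocalRing.le_maximalIdeal hne
    rw [ArtinRes.singularIdeal_eq_top_of_smooth, Ideal.map_top] at hH
    have h1 : (1 : Λ ⧸ Ideal.span {algebraMap R Λ (ϖ ^ 8)}) ∈
        ((Smoothing.singularIdeal R B).map β).radical.map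
          (Ideal.Quotient.mk (Ideal.span {algebraMap R Λ (ϖ ^ 8)})) := hH Submodule.mem_top
    rw [Ideal.mem_map_iff_of_surjective _ Ideal.Quotient.mk_surjective] at h1
    obtain ⟨x, hx, hx1⟩ := h1
    have h2 : x - 1 ∈ Ideal.span {algebraMap R Λ (ϖ ^ 8)} := by
      rw [← Ideal.Quotient.eq, hx1, map_one]
    have h3 : x - 1 ∈ maximalIdeal Λ :=
      (Ideal.span_singleton_le_iff_mem _).mpr hϖΛ h2
    have h4 : (1 : Λ) ∈ maximalIdeal Λ := by
      have := Ideal.sub_mem _ (hle hx) h3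
      rwa [sub_sub_cancel] at this
    exact (Ideal.ne_top_iff_one _).mp (Ideal.IsPrime.ne_top inferInstance) h4
  obtain ⟨B₂, _, _, hsm₂, g₂, h₂, hcomp₂⟩ := exists_smooth_of_map_eq_top β htop
  refine ⟨B₂, inferInstance, inferInstance, hsm₂, g₂.comp (α.comp α₁), h₂, ?_⟩
  rw [← AlgHom.comp_assoc, hcomp₂, ← AlgHom.comp_assoc, hβα, hβα₁]

end Groth.Agent.Lib.R2H4.DvrUnram
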