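import Mathlib
import Groth.Prelude
import Groth.Agent.Lib.R2H4KleimanC
import Groth.Agent.Lib.R2H4AsympRR
import Groth.Agent.Lib.R2H4VolBig

/-!
# Nef and big: general tools (helper4, round 2)

* `iN_insertNth_inv`, `iN_const_inv`, `intNum_const_inv_eq_iN` : inverse modules in the slots;
* `iN_mixed_nonneg` : the mixed intersection numbers of a nef and an ample module with a coherent
  module are nonnegative;
* `iN_tensor_eq` : the top intersection numbers do not change under twisting the module;
* `iN_cokernel_section` : `(N · coker(O → H)) = (H · N · O)`;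
* `asympRR_coh` : asymptotic Riemann–Roch for coherent modules.
-/

set_option autoImplicit false
set_option linter.style.haveILetI false
set_option linter.unusedSectionVars false
universe u
open CategoryTheory CategoryTheory.Limits AlgebraicGeometry TopologicalSpace

noncomputable section

namespace Groth.Agent.Lib.R2H4NefBigA

open Groth.Agent.Lib.R2H4NumPoly Groth.Agent.Lib.R2H4TensorPows Groth.Agent.Lib.R2H4Snapper
  Groth.Agent.Lib.R2H4SnapperCor Groth.Agent.Lib.R2H4SnapperRef Groth.Agent.Lib.R2H4MultiAdd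
  Groth.Agent.Lib.R2H4AmplePos Groth.Agent.Lib.R2H4KleimanA Groth.Agent.Lib.R2H4KleimanB
  Groth.Agent.Lib.R2H4KleimanC Groth.Agent.Lib.R2H4RRAlg Groth.Agent.Lib.R2H4AsympRR

section Inv

variable (k : Type u) [Field k] {X : Scheme.{u}} [X.Over (Spec (CommRingCat.of k))]
  [IsProper (X ↘ Spec (CommRingCat.of k))]

/-- an inverse module in a slot changes the sign -/
theorem iN_insertNth_inv {r : ℕ} (j : Fin (r + 1)) (N : Fin r → X.Modules)
    (hN : ∀ i, PicF.IsInvertible (N i)) (A A' : X.Modules) (hA : PicF.IsInvertible A)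
    (hA' : PicF.IsInvertible A') (e : CohB1.tensorMod A A' ≅ Coh.structureModule X)
    (F : X.Modules) (hF : Coh.IsCoh F)
    (hr : topologicalKrullDim (CohB1.support F) < ((r + 2 : ℕ) : WithBot ℕ∞)) :
    iN k (Fin.insertNth (α := fun _ => X.Modules) j A' N) F =
      - iN k (Fin.insertNth (α := fun _ => X.Modules) j A N) F := by
  have h1 := iN_insertNth_tensor k j N hN A A' hA hA' F hF hr
  have h2 := iN_insertNth_congr k j N e F
  have h3 := iN_insertNth_unit k j N F
  linarith

/-- all slots inverted -/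
theorem iN_const_inv (L Linv : X.Modules) (hL : PicF.IsInvertible L)
    (hLinv : PicF.IsInvertible Linv) (e : CohB1.tensorMod L Linv ≅ Coh.structureModule X)
    (F : X.Modules) (hF : Coh.IsCoh F) (n : ℕ)
    (hdim : topologicalKrullDim (CohB1.support F) ≤ ((n : ℕ) : WithBot ℕ∞)) :
    iN k (fun _ : Fin n => Linv) F = (-1 : ℚ) ^ n * iN k (fun _ : Fin n => L) F := by
  have key : ∀ j : ℕ, j ≤ n →
      iN k (fun i : Fin n => if (i : ℕ) < j then Linv else L) F =
        (-1 : ℚ) ^ j * iN k (fun _ : Fin n => L) F := by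
    intro j
    induction j with
    | zero =>
      intro _
      simp
    | succ j ih =>
      intro hj
      obtain ⟨r, rfl⟩ : ∃ r, n = r + 1 := ⟨n - 1, by omega⟩
      have hjr : j < r + 1 := hj
      set p : Fin (r + 1) := ⟨j, hjr⟩ with hp
      set N' : Fin r → X.Modules := fun i => if ((p.succAbove i : Fin (r + 1)) : ℕ) < j then Linv
        else L with hN'
      have hN'i : ∀ i, PicF.IsInvertible (N' i) := by
        intro i
        simp only [hN']
        split_ifs
        · exact hLinv
        · exact hL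
      have h1 : (fun i : Fin (r + 1) => if (i : ℕ) < j + 1 then Linv else L) =
          Fin.insertNth (α := fun _ => X.Modules) p Linv N' := by
        funext i
        rcases Fin.eq_self_or_eq_succAbove p i with h | ⟨i', h⟩
        · rw [h, Fin.insertNth_apply_same]
          simp [hp]
        · rw [h, Fin.insertNth_apply_succAbove]
          have hne : ((p.succAbove i' : Fin (r + 1)) : ℕ) ≠ j := by
            intro hcon
            exact Fin.succAbove_ne p i' (Fin.ext hcon)
          simp only [hN']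
          by_cases hlt : ((p.succAbove i' : Fin (r + 1)) : ℕ) < j
          · rw [if_pos hlt, if_pos (by omega)]
          · rw [if_neg hlt, if_neg (by omega)]
      have h2 : (fun i : Fin (r + 1) => if (i : ℕ) < j then Linv else L) =
          Fin.insertNth (α := fun _ => X.Modules) p L N' := by
        funext i
        rcases Fin.eq_self_or_eq_succAbove p i with h | ⟨i', h⟩
        · rw [h, Fin.insertNth_apply_same]
          simp [hp]
        · rw [h, Fin.insertNth_apply_succAbove]
      have hr : topologicalKrullDim (CohB1.support F) < ((r + 2 : ℕ) : WithBot ℕ∞) :=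
        lt_of_le_of_lt hdim (natCast_lt_succ (r + 1))
      rw [h1, iN_insertNth_inv k p N' hN'i L Linv hL hLinv e F hF hr, ← h2,
        ih (Nat.le_of_succ_le hj), pow_succ]
      ring
  have h := key n le_rfl
  have hfun : (fun i : Fin n => if (i : ℕ) < n then Linv else L) = fun _ => Linv := by
    funext i
    rw [if_pos i.2]
  rw [hfun] at h
  exact h

/-- the intersection number of the inverses, as an `iN` -/
theorem intNum_const_inv_eq_iN (L Linv : X.Modules) (hL : PicF.IsInvertible L)
    (hLinv : PicF.IsInvertible Linv) (e : CohB1.tensorMod L Linv ≅ Coh.structureModule X)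
    (F : X.Modules) (hF : Coh.IsCoh F) (n : ℕ) (hX : topologicalKrullDim X ≤ n) :
    (FGA.intNum k X n (fun _ : Fin n => Linv) F : ℚ) = iN k (fun _ : Fin n => L) F := by
  have hdim : topologicalKrullDim (CohB1.support F) ≤ ((n : ℕ) : WithBot ℕ∞) :=
    (dim_support_le_dim F).trans hX
  have h1 := iN_eq_intNum k n hX (fun _ : Fin n => Linv) F
  rw [iN_const_inv k L Linv hL hLinv e F hF n hdim] at h1
  have h2 : ((-1 : ℚ) ^ n) * ((-1 : ℚ) ^ n) = 1 := by
    rw [← mul_pow]; norm_num
  have h3 := congrArg (fun x => (-1 : ℚ) ^ n * x) h1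
  simp only [← mul_assoc, h2, one_mul] at h3
  exact h3.symm

end Inv

section Mixed

variable (k : Type u) [Field k] {X : Scheme.{u}} [X.Over (Spec (CommRingCat.of k))]
  [IsProper (X ↘ Spec (CommRingCat.of k))]

/-- **the mixed intersection numbers of a nef and an ample module with a coherent module are
nonnegative** -/
theorem iN_mixed_nonneg (L A : X.Modules) (hL : PicF.IsInvertible L) (hnef : Nef k X L)
    (hA : CohB1.IsAmple A) (d : ℕ) (r : Fin d → Bool) (F : X.Modules) (hF : Coh.IsCoh F)
    (hsupp : topologicalKrullDim (CohB1.support F) ≤ ((d : ℕ) : WithBot ℕ∞)) :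
    0 ≤ iN k (fun i => if r i then L else A) F := by
  have hvinv : ∀ i : Fin d, PicF.IsInvertible (if r i then L else A) := fun i => by
    split_ifs
    · exact hL
    · exact hA.1
  refine iN_nonneg_of_points k d _ hvinv (fun ξ hξ => ?_) F hF hsupp
  rw [iN_quotMod_eq k (zI ξ) _ hvinv]
  letI : (zI ξ).subscheme.Over (Spec (CommRingCat.of k)) :=
    ⟨(zI ξ).subschemeι ≫ (X ↘ Spec (CommRingCat.of k))⟩
  haveI : IsProper ((zI ξ).subscheme ↘ Spec (CommRingCat.of k)) :=
    inferInstanceAs (IsProper ((zI ξ).subschemeι ≫ (X ↘ Spec (CommRingCat.of k))))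
  haveI := isIntegral_zS ξ
  have hfun : (fun i => (Scheme.Modules.pullback (zI ξ).subschemeι).obj (if r i then L else A)) =
      fun i => if r i then (Scheme.Modules.pullback (zI ξ).subschemeι).obj L
        else (Scheme.Modules.pullback (zI ξ).subschemeι).obj A := by
    funext i
    split_ifs <;> rfl
  rw [hfun]
  exact (kleiman_aux k d (zI ξ).subscheme ((dim_zS ξ).trans hξ) _ _
    (Groth.Agent.Lib.Helper23.PB.isInvertible_pullback (zI ξ).subschemeι L hL)
    (nef_zS k L hL hnef (zI ξ))
    (Groth.Agent.Lib.Helper23.PB.isAmple_pullback_of_isAffineHom (zI ξ).subschemeι _ hA)).1 r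

/-- the top intersection numbers do not change under twisting the module -/
theorem iN_tensor_eq {r : ℕ} (N : Fin r → X.Modules) (hN : ∀ i, PicF.IsInvertible (N i))
    (A : X.Modules) (hA : PicF.IsInvertible A) (F : X.Modules) (hF : Coh.IsCoh F)
    (hdim : topologicalKrullDim (CohB1.support F) ≤ ((r : ℕ) : WithBot ℕ∞)) :
    iN k N (CohB1.tensorMod F A) = iN k N F := by
  have h1 := iN_insertNth k 0 N A F
  have h2 := iN_eq_zero k (Fin.insertNth (α := fun _ => X.Modules) 0 A N)
    (isInvertible_insertNth 0 A hA N hN) F hF (lt_of_le_of_lt hdim (natCast_lt_succ r))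
  linarith

/-- `(N · coker (O → H)) = (H · N · O)` -/
theorem iN_cokernel_section {r : ℕ} (j : Fin (r + 1)) (N : Fin r → X.Modules)
    (hN : ∀ i, PicF.IsInvertible (N i)) (H : X.Modules) (hH : PicF.IsInvertible H)
    (s : Coh.structureModule X ⟶ H) [Mono s] :
    iN k N (cokernel s) =
      iN k (Fin.insertNth (α := fun _ => X.Modules) j H N) (Coh.structureModule X) := by
  haveI := Groth.Agent.Lib.R2H1.CurveEuler.isNoetherian_of_proper k X
  have cO : Coh.IsCoh (Coh.structureModule X) :=
    Groth.Agent.Lib.R2H1.GenusLe.isCoh_structureModule X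
  have cH : Coh.IsCoh H := Groth.Agent.Lib.R2H4VolBasic.isCoh_of_isInvertible H hH
  have cQ : Coh.IsCoh (cokernel s) := Groth.Agent.Lib.R2H2.NilFilt.isCoh_cokernel cO cH s
  let S : ShortComplex X.Modules := ShortComplex.mk s (cokernel.π s) (cokernel.condition s)
  have hS : S.ShortExact :=
    { exact := ShortComplex.exact_cokernel s
      mono_f := by dsimp [S]; infer_instance
      epi_g := by dsimp [S]; infer_instance }
  have h1 := iN_add k N hN S hS cO cH cQ
  have h2 := iN_insertNth k j N H (Coh.structureModule X)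
  have h3 : iN k N (CohB1.tensorMod (Coh.structureModule X) H) = iN k N H :=
    iN_congr k N (lUnit H)
  dsimp [S] at h1
  linarith

end Mixed

section Asymp

open Groth.Agent.Lib.R2H1.DegCartier Groth.Agent.Lib.R2H4H0Growth

variable (k : Type u) [Field k] {X : Scheme.{u}} [X.Over (Spec (CommRingCat.of k))]
  [IsProper (X ↘ Spec (CommRingCat.of k))]

/-- **asymptotic Riemann–Roch for coherent modules**: for `m ≫ 0`,
`h⁰(F ⊗ A^m) = (A^d · F)/d! m^d + O(m^(d-1))` (`d ≥ dim Supp F`, `A` ample) -/
theorem asympRR_coh (F : X.Modules) (hF : Coh.IsCoh F) (d : ℕ)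
    (hsupp : topologicalKrullDim (CohB1.support F) ≤ ((d : ℕ) : WithBot ℕ∞))
    (A : X.Modules) (hA : CohB1.IsAmple A) :
    ∃ (B : ℚ) (m₀ : ℕ), 0 ≤ B ∧ ∀ m : ℕ, m₀ ≤ m →
      |(h0 k (CohB1.tensorMod F (CohB1.tensorPow A m)) : ℚ) -
        iN k (fun _ : Fin d => A) F / (d.factorial : ℚ) * (m : ℚ) ^ d| * (m : ℚ) ≤
          B * (m : ℚ) ^ d := by
  classical
  have := Groth.Agent.Lib.R2H1.CurveEuler.isNoetherian_of_proper k X
  -- the one variable polynomial
  obtain ⟨p, hpdeg, hp⟩ := s1528 k F hF d hsupp 1 (fun _ => A) (fun _ => hA.1)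
  obtain ⟨a, ha⟩ : ∃ a : ℕ → ℚ, ∀ i, a i = MvPolynomial.coeff (Finsupp.single 0 i) p :=
    ⟨_, fun _ => rfl⟩
  obtain ⟨G, hG⟩ : ∃ G : ℕ → ℚ, ∀ j, G j = ∑ i ∈ Finset.range (d + 1), a i * (j : ℚ) ^ i :=
    ⟨_, fun _ => rfl⟩
  have hχ : ∀ n : ℕ, (Curv2.euler k X (CohB1.tensorMod F (CohB1.tensorPow A n)) : ℚ) = G n := by
    intro n
    have h1 := hp (fun _ => n)
    rw [eval_fin_one p d hpdeg] at h1
    rw [hG]
    simp_rw [ha]
    exact h1
  -- the leading coefficient
  have hlead : iN k (fun _ : Fin d => A) F = (d.factorial : ℚ) * a d := by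
    unfold iN
    have h1 : ∀ t : Finset (Fin d), fE k X d (fun _ => A) F (ind t) = G t.card := by
      intro t
      obtain ⟨e⟩ := nonempty_powsConst F A d (ind t)
      unfold fE
      rw [euler_congr k e, hχ]
      congr 1
      simp [ind]
    simp_rw [h1]
    rw [alt_sum_card d G]
    simp_rw [hG]
    exact fwd_identity d a
  have hfac : (d.factorial : ℚ) ≠ 0 := by exact_mod_cast Nat.factorial_ne_zero d
  have hc : iN k (fun _ : Fin d => A) F / (d.factorial : ℚ) = a d := by
    rw [hlead]
    field_simp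
  rw [hc]
  -- Serre vanishing
  obtain ⟨n₀, hn₀⟩ := Groth.Agent.Lib.R2H3.AmpleSV.serre_vanishing_ample k
    (X ↘ Spec (CommRingCat.of k)) A hA F hF
  have hh0 : ∀ n : ℕ, n₀ ≤ n →
      (h0 k (CohB1.tensorMod F (CohB1.tensorPow A n)) : ℚ) = G n := by
    intro n hn
    rw [← hχ n, euler_eq_finrank_of_vanishing k _ (hn₀ n hn)]
    unfold h0
    norm_cast
  refine ⟨∑ i ∈ Finset.range d, |a i|, n₀, Finset.sum_nonneg fun i _ => abs_nonneg _,
    fun m hm => ?_⟩
  rw [hh0 m hm, hG, Finset.sum_range_succ, add_sub_cancel_right]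
  have hm0 : (0 : ℚ) ≤ (m : ℚ) := Nat.cast_nonneg m
  rw [Finset.sum_mul]
  calc |∑ i ∈ Finset.range d, a i * (m : ℚ) ^ i| * (m : ℚ)
      ≤ (∑ i ∈ Finset.range d, |a i * (m : ℚ) ^ i|) * (m : ℚ) :=
        mul_le_mul_of_nonneg_right (Finset.abs_sum_le_sum_abs _ _) hm0
    _ = ∑ i ∈ Finset.range d, |a i| * (m : ℚ) ^ (i + 1) := by
        rw [Finset.sum_mul]
        refine Finset.sum_congr rfl fun i _ => ?_
        rw [abs_mul, abs_of_nonneg (pow_nonneg hm0 i), pow_succ, mul_assoc]
    _ ≤ ∑ i ∈ Finset.range d, |a i| * (m : ℚ) ^ d := by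
        refine Finset.sum_le_sum fun i hi => ?_
        refine mul_le_mul_of_nonneg_left ?_ (abs_nonneg _)
        have hi' : i + 1 ≤ d := Finset.mem_range.1 hi
        rcases Nat.eq_zero_or_pos m with h0 | hpos
        · rw [h0]
          simp only [Nat.cast_zero]
          rw [zero_pow (Nat.succ_ne_zero i)]
          exact pow_nonneg le_rfl d
        · have h1 : (1 : ℚ) ≤ (m : ℚ) := by exact_mod_cast hpos
          exact pow_le_pow_right₀ h1 hi'

end Asymp

end Groth.Agent.Lib.R2H4NefBigA
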