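import Mathlib
import Groth.Prelude
import Groth.Agent.Lib.R2H4HodgeIneq
import Groth.Agent.Lib.R2H4KleimanB
import Groth.Agent.Lib.R2H4NefBigA
import Groth.Agent.Lib.R2H4InvExists
set_option backward.isDefEq.respectTransparency.types false

/-!
# The equality case of the Hodge index theorem (helper4, round 2)

On a proper integral surface `X` over a field carrying an ample module: if `(D·D) > 0`,
`(D·N) = 0` and `(N·N) = 0`, then `(N·E) = 0` for every invertible `E` (`orth_of_self_zero`).
Also `(N·N) ≥ 0` for nef `N` (`self_nonneg_of_nef`).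
-/

set_option autoImplicit false
set_option linter.style.haveILetI false
set_option linter.unusedSectionVars false
universe u

open CategoryTheory CategoryTheory.Limits AlgebraicGeometry TopologicalSpace Opposite

namespace Groth.Agent.Lib.R2H4HodgeEq

open Groth.Agent.Lib.R2H4TensorPows Groth.Agent.Lib.R2H4HodgeIdx Groth.Agent.Lib.R2H4HodgeIneq

variable (k : Type u) [Field k] {X : Scheme.{u}} [X.Over (Spec (CommRingCat.of k))]
  [IsProper (X ↘ Spec (CommRingCat.of k))] [IsIntegral X]

theorem eq_zero_of_linear_le (c g : ℤ) (h : ∀ t : ℤ, 2 * t * c + g ≤ 0) : c = 0 := by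
  by_contra hc
  rcases lt_or_gt_of_ne hc with hneg | hpos
  · have := h (-(|g| + 1))
    have h1 : g ≤ |g| := le_abs_self g
    have h2 : -|g| ≤ g := neg_abs_le g
    have h3 : 0 ≤ |g| := abs_nonneg g
    nlinarith
  · have := h (|g| + 1)
    have h1 : g ≤ |g| := le_abs_self g
    have h2 : -|g| ≤ g := neg_abs_le g
    have h3 : 0 ≤ |g| := abs_nonneg g
    nlinarith

/-- **Equality case of the Hodge index theorem** -/
theorem orth_of_self_zero (hdim : topologicalKrullDim X = 2) (H : X.Modules)
    (hH : CohB1.IsAmple H) (D N : X.Modules) (hD : PicF.IsInvertible D)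
    (hN : PicF.IsInvertible N) (hpos : 0 < P k D D) (horth : P k D N = 0)
    (hzero : P k N N = 0) (E : X.Modules) (hE : PicF.IsInvertible E) : P k N E = 0 := by
  obtain ⟨D', hD', ⟨eD⟩⟩ := Groth.Agent.Lib.R2H4InvExists.exists_inverse D hD
  obtain ⟨N', hN', ⟨eN⟩⟩ := Groth.Agent.Lib.R2H4InvExists.exists_inverse N hN
  obtain ⟨E', hE', ⟨eE⟩⟩ := Groth.Agent.Lib.R2H4InvExists.exists_inverse E hE
  set a := P k D D with ha
  set b := P k D E with hb
  set G := CohB1.tensorMod (zp E E' a) (zp D D' (-b)) with hGdef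
  have hG : PicF.IsInvertible G := isInvertible_comb E E' D D' hE hD eE eD a (-b)
  have hPG : ∀ C : X.Modules, PicF.IsInvertible C → P k G C = a * P k E C + (-b) * P k D C :=
    fun C hC => P_comb k hdim E E' D D' hE hD eE eD a (-b) C hC
  obtain ⟨G', hG', ⟨eG⟩⟩ := Groth.Agent.Lib.R2H4InvExists.exists_inverse G hG
  have hND : P k N D = 0 := by rw [P_symm k hdim]; exact horth
  have hGD : P k G D = 0 := by
    rw [hPG D hD, P_symm k hdim E D]
    ring
  have key : ∀ t : ℤ, 2 * t * P k N G + P k G G ≤ 0 := by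
    intro t
    set M := CohB1.tensorMod (zp N N' t) (zp G G' 1) with hMdef
    have hM : PicF.IsInvertible M := isInvertible_comb N N' G G' hN hG eN eG t 1
    have hPM : ∀ C : X.Modules, PicF.IsInvertible C → P k M C = t * P k N C + 1 * P k G C :=
      fun C hC => P_comb k hdim N N' G G' hN hG eN eG t 1 C hC
    have hMD : P k D M = 0 := by
      rw [P_symm k hdim, hPM D hD, hND, hGD]
      ring
    have h1 := hodge_index k hdim H hH D M hD hM hpos hMD
    change P k M M ≤ 0 at h1
    have h2 : P k M M = 2 * t * P k N G + P k G G := by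
      rw [hPM M hM, P_symm k hdim N M, P_symm k hdim G M, hPM N hN, hPM G hG, hzero,
        P_symm k hdim G N]
      ring
    rw [h2] at h1
    exact h1
  have hNG : P k N G = 0 := eq_zero_of_linear_le _ _ key
  rw [P_symm k hdim, hPG N hN, horth] at hNG
  have h3 : a * P k E N = 0 := by linarith
  rcases mul_eq_zero.1 h3 with h | h
  · exact absurd h (ne_of_gt hpos)
  · rw [P_symm k hdim]; exact h

/-- `(N·N) ≥ 0` for a nef module on a surface -/
theorem self_nonneg_of_nef (hdim : topologicalKrullDim X = 2) (H : X.Modules)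
    (hH : CohB1.IsAmple H) (N : X.Modules) (hN : PicF.IsInvertible N)
    (hnef : Groth.Agent.Lib.R2H4KleimanA.Nef k X N) : 0 ≤ P k N N := by
  haveI := Groth.Agent.Lib.R2H1.CurveEuler.isNoetherian_of_proper k X
  obtain ⟨N', hN', ⟨eN⟩⟩ := Groth.Agent.Lib.R2H4InvExists.exists_inverse N hN
  have hO : PicF.IsInvertible (Coh.structureModule X) :=
    Groth.Agent.Lib.Helper23.TensorUnit.isInvertible_structureModule X
  have cO : Coh.IsCoh (Coh.structureModule X) :=
    Groth.Agent.Lib.R2H4SSDescent.isCoh_of_isInvertible _ hO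
  have h1 := (Groth.Agent.Lib.R2H4KleimanB.kleiman_aux k 2 X hdim N H hN hnef hH).1
    (fun _ => true)
  have h2 := Groth.Agent.Lib.R2H4NefBigA.intNum_const_inv_eq_iN k N N' hN hN' eN
    (Coh.structureModule X) cO 2 hdim.le
  have h3 : (fun i : Fin 2 => if (fun _ : Fin 2 => true) i then N else H) =
      fun _ : Fin 2 => N := by
    funext i; simp
  rw [h3, ← h2] at h1
  have h4 : FGA.intNum k X 2 (fun _ : Fin 2 => N') (Coh.structureModule X) = P k N' N' := by
    unfold P
    congr 1
    funext i
    fin_cases i <;> rfl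
  have h5 := Groth.Agent.Lib.R2H4SurfDual.intNum_inv_inv k hdim N N' N N' hN hN eN eN
  rw [h4] at h1
  have h6 : P k N' N' = P k N N := h5
  rw [← h6]
  exact_mod_cast h1

end Groth.Agent.Lib.R2H4HodgeEq
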