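import Mathlib
import Groth.Prelude
import Groth.Agent.Lib.R2H4NefBigA

/-!
# Nef and big implies positive top self-intersection (helper4, round 2)

* `iN_ample_pos` : `(A^n) > 0` for an ample module on an integral proper scheme of dimension `n`;
* `pos_of_mono` : if an ample module embeds into a positive power of the nef module `L`, then
  `(L^n) > 0`.
-/

set_option autoImplicit false
set_option linter.style.haveILetI false
set_option linter.unusedSectionVars false
universe u
open CategoryTheory CategoryTheory.Limits AlgebraicGeometry TopologicalSpace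

noncomputable section

namespace Groth.Agent.Lib.R2H4NefBigB

open Groth.Agent.Lib.R2H4NumPoly Groth.Agent.Lib.R2H4TensorPows Groth.Agent.Lib.R2H4Snapper
  Groth.Agent.Lib.R2H4SnapperCor Groth.Agent.Lib.R2H4SnapperRef Groth.Agent.Lib.R2H4MultiAdd
  Groth.Agent.Lib.R2H4AmplePos Groth.Agent.Lib.R2H4KleimanA Groth.Agent.Lib.R2H4KleimanB
  Groth.Agent.Lib.R2H4KleimanC Groth.Agent.Lib.R2H4NefBigA

variable (k : Type u) [Field k] {X : Scheme.{u}} [X.Over (Spec (CommRingCat.of k))]
  [IsProper (X ↘ Spec (CommRingCat.of k))] [IsIntegral X]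

/-- `(A^n) > 0` for an ample module -/
theorem iN_ample_pos (n : ℕ) (hX : topologicalKrullDim X = ((n : ℕ) : WithBot ℕ∞))
    (A : X.Modules) (hA : CohB1.IsAmple A) :
    0 < iN k (fun _ : Fin n => A) (Coh.structureModule X) := by
  haveI := Groth.Agent.Lib.R2H1.CurveEuler.isNoetherian_of_proper k X
  have cO : Coh.IsCoh (Coh.structureModule X) :=
    Groth.Agent.Lib.R2H1.GenusLe.isCoh_structureModule X
  have hdimO : topologicalKrullDim (CohB1.support (Coh.structureModule X)) ≤
      ((n : ℕ) : WithBot ℕ∞) := (dim_support_le_dim _).trans hX.le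
  obtain ⟨P, hPdeg, hP⟩ := s1528 k _ cO n hdimO n (fun _ => A) (fun _ => hA.1)
  rw [← coeff_ones_eq_iN k (fun _ => A) _ P hPdeg (fun n => hP n)]
  exact Groth.Agent.Lib.R2H4AmplePosMixed.posMixed k n X hX (fun _ => A) (fun _ => hA) P
    (fun n => hP n)

/-- **big and nef implies `(L^n) > 0`** -/
theorem pos_of_mono (n : ℕ) (hX : topologicalKrullDim X = ((n : ℕ) : WithBot ℕ∞))
    (L : X.Modules) (hL : PicF.IsInvertible L) (hnef : Nef k X L)
    (A : X.Modules) (hA : CohB1.IsAmple A) (ν : ℕ) (φ : A ⟶ CohB1.tensorPow L ν) [Mono φ] :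
    0 < iN k (fun _ : Fin n => L) (Coh.structureModule X) := by
  classical
  haveI := Groth.Agent.Lib.R2H1.CurveEuler.isNoetherian_of_proper k X
  have hO : PicF.IsInvertible (Coh.structureModule X) :=
    Groth.Agent.Lib.Helper23.TensorUnit.isInvertible_structureModule X
  have cO : Coh.IsCoh (Coh.structureModule X) :=
    Groth.Agent.Lib.R2H1.GenusLe.isCoh_structureModule X
  have hdimO : topologicalKrullDim (CohB1.support (Coh.structureModule X)) ≤
      ((n : ℕ) : WithBot ℕ∞) := (dim_support_le_dim _).trans hX.le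
  have hM : PicF.IsInvertible (CohB1.tensorPow L ν) :=
    Groth.Agent.Lib.Helper23.SecTw.isInvertible_tensorPow hL ν
  -- the effective part
  obtain ⟨A', hA', ⟨e⟩⟩ := Groth.Agent.Lib.R2H1.InvExists.exists_inverse A hA.1
  obtain ⟨g, hg⟩ := Groth.Agent.Lib.R2H4VolBig.exists_mono_twR A' hA' φ
  obtain ⟨B, hBdef⟩ : ∃ B : X.Modules, B = CohB1.tensorMod (CohB1.tensorPow L ν) A' := ⟨_, rfl⟩
  have hB : PicF.IsInvertible B := by
    rw [hBdef]
    exact Groth.Agent.Lib.Helper23.SecTw.isInvertible_tensorMod hM hA'
  obtain ⟨s, hs⟩ : ∃ s : Coh.structureModule X ⟶ B, Mono s := by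
    rw [hBdef]
    exact ⟨e.inv ≫ g, mono_comp _ _⟩
  have hs0 : s ≠ 0 := by
    intro h0
    have h1 : (𝟙 (Coh.structureModule X)) ≫ s = 0 ≫ s := by rw [h0]; simp
    have h2 := (cancel_mono s).1 h1
    exact Groth.Agent.Lib.R2H4AmplePos.id_structureModule_ne_zero h2
  have ι : CohB1.tensorMod A B ≅ CohB1.tensorPow L ν := by
    rw [hBdef]
    exact tComm _ _ ≪≫ tAssoc _ _ _ ≪≫ tIso (Iso.refl _) (tComm _ _ ≪≫ e) ≪≫ rUnit _
  -- the chain
  have key : ∀ j : ℕ, j ≤ n →
      0 < iN k (fun i : Fin n => if decide ((i : ℕ) < j) then L else A)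
        (Coh.structureModule X) := by
    intro j
    induction j with
    | zero =>
      intro _
      have hfun : (fun i : Fin n => if decide ((i : ℕ) < 0) then L else A) = fun _ => A := by
        funext i
        simp
      rw [hfun]
      exact iN_ample_pos k n hX A hA
    | succ j ih =>
      intro hj
      obtain ⟨r, rfl⟩ : ∃ r, n = r + 1 := ⟨n - 1, by omega⟩
      have hjr : j < r + 1 := hj
      obtain ⟨p, hp⟩ : ∃ p : Fin (r + 1), (p : ℕ) = j := ⟨⟨j, hjr⟩, rfl⟩
      obtain ⟨rb, hrb⟩ : ∃ rb : Fin r → Bool,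
          ∀ i, rb i = decide (((p.succAbove i : Fin (r + 1)) : ℕ) < j) := ⟨_, fun _ => rfl⟩
      have hN'i : ∀ i, PicF.IsInvertible (if rb i then L else A) := by
        intro i
        split_ifs
        · exact hL
        · exact hA.1
      have h1 : (fun i : Fin (r + 1) => if decide ((i : ℕ) < j + 1) then L else A) =
          Fin.insertNth (α := fun _ => X.Modules) p L (fun i => if rb i then L else A) := by
        funext i
        rcases Fin.eq_self_or_eq_succAbove p i with h | ⟨i', h⟩
        · rw [h, Fin.insertNth_apply_same]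
          simp [hp]
        · rw [h, Fin.insertNth_apply_succAbove, hrb]
          have hne : ((p.succAbove i' : Fin (r + 1)) : ℕ) ≠ j := by
            intro hcon
            exact Fin.succAbove_ne p i' (Fin.ext (hcon.trans hp.symm))
          by_cases hlt : ((p.succAbove i' : Fin (r + 1)) : ℕ) < j
          · rw [decide_eq_true hlt, decide_eq_true (show ((p.succAbove i' : Fin (r + 1)) : ℕ) < j + 1 by omega)]
          · rw [decide_eq_false hlt, decide_eq_false (show ¬ ((p.succAbove i' : Fin (r + 1)) : ℕ) < j + 1 by omega)]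
      have h2 : (fun i : Fin (r + 1) => if decide ((i : ℕ) < j) then L else A) =
          Fin.insertNth (α := fun _ => X.Modules) p A (fun i => if rb i then L else A) := by
        funext i
        rcases Fin.eq_self_or_eq_succAbove p i with h | ⟨i', h⟩
        · rw [h, Fin.insertNth_apply_same]
          simp [hp]
        · rw [h, Fin.insertNth_apply_succAbove, hrb]
      have hr : topologicalKrullDim (CohB1.support (Coh.structureModule X)) <
          ((r + 2 : ℕ) : WithBot ℕ∞) := lt_of_le_of_lt hdimO (natCast_lt_succ (r + 1))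
      have ih' := ih (Nat.le_of_succ_le hj)
      rw [h2] at ih'
      rw [h1]
      -- homogeneity and additivity
      have e1 := iN_insertNth_pow k p _ hN'i L hL _ cO hr ν
      have e2 := iN_insertNth_congr k p (fun i => if rb i then L else A) ι (Coh.structureModule X)
      have e3 := iN_insertNth_tensor k p _ hN'i A B hA.1 hB _ cO hr
      have e4 := iN_cokernel_section k p _ hN'i B hB s
      have hdimQ : topologicalKrullDim (CohB1.support (cokernel s)) ≤ ((r : ℕ) : WithBot ℕ∞) := by
        refine le_of_lt_succ' _ _ ?_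
        rw [← hX]
        exact Groth.Agent.Lib.R2H4VolBig.dim_support_cokernel_lt k B hB s hs0
      have cQ : Coh.IsCoh (cokernel s) := Groth.Agent.Lib.R2H2.NilFilt.isCoh_cokernel cO
        (Groth.Agent.Lib.R2H4VolBasic.isCoh_of_isInvertible B hB) s
      have e5 := iN_mixed_nonneg k L A hL hnef hA r rb (cokernel s) cQ hdimQ
      have e6 : 0 < (ν : ℚ) * iN k (Fin.insertNth (α := fun _ => X.Modules) p L
          (fun i => if rb i then L else A)) (Coh.structureModule X) := by
        rw [← e1, ← e2, e3, ← e4]
        linarith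
      by_contra hcon
      push Not at hcon
      have : (ν : ℚ) * iN k (Fin.insertNth (α := fun _ => X.Modules) p L
          (fun i => if rb i then L else A)) (Coh.structureModule X) ≤ 0 :=
        mul_nonpos_of_nonneg_of_nonpos (Nat.cast_nonneg ν) hcon
      linarith
  have h := key n le_rfl
  have hfun : (fun i : Fin n => if decide ((i : ℕ) < n) then L else A) = fun _ => L := by
    funext i
    simp [i.2]
  rw [hfun] at h
  exact h

end Groth.Agent.Lib.R2H4NefBigB
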