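import Mathlib
import Groth.Prelude
import Groth.Agent.Lib.R2H4NefBigA
import Groth.Agent.Lib.R2H3NegTwist

/-!
# Positive top self-intersection of a nef module implies bigness: the cohomological part
(helper4, round 2)

* `mono2Pow` : `(L^b ⊗ H^a)^m ≅ L^(mb) ⊗ H^(ma)`;
* `h0_step`, `h0_chain` : `h⁰(L^b ⊗ H^m) ≤ h⁰(L^b) + ∑_{i<m} h⁰(Q ⊗ L^b ⊗ H^i)`, `Q = coker(O → H)`;
* `h0_twist_le`, `exists_residue` : multiplication by a section regular on `Q`.
-/

set_option autoImplicit false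
set_option linter.style.haveILetI false
set_option linter.unusedSectionVars false
universe u
open CategoryTheory CategoryTheory.Limits AlgebraicGeometry TopologicalSpace

noncomputable section

namespace Groth.Agent.Lib.R2H4NefBigC

open Groth.Agent.Lib.R2H4NumPoly Groth.Agent.Lib.R2H4TensorPows Groth.Agent.Lib.R2H4Snapper
  Groth.Agent.Lib.R2H4SnapperCor Groth.Agent.Lib.R2H4SnapperRef Groth.Agent.Lib.R2H4MultiAdd
  Groth.Agent.Lib.R2H4AmplePos Groth.Agent.Lib.R2H4KleimanA Groth.Agent.Lib.R2H4KleimanB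
  Groth.Agent.Lib.R2H4KleimanC Groth.Agent.Lib.R2H4NefBigA Groth.Agent.Lib.R2H4H0Growth
  Groth.Agent.Lib.R2H2.PnSerre

section Isos

variable {X : Scheme.{u}}

/-- `(L^b ⊗ H^a)^m ≅ L^(mb) ⊗ H^(ma)` -/
def mono2Pow (L H : X.Modules) (v : ℕ × ℕ) :
    ∀ m : ℕ, CohB1.tensorPow (mono2 L H v) m ≅ mono2 L H (m • v)
  | 0 => (mono2Zero L H).symm ≪≫ eqToIso (by rw [zero_smul])
  | m + 1 => tIso (mono2Pow L H v m) (Iso.refl _) ≪≫ (mono2Add L H (m • v) v).symm ≪≫
      eqToIso (by rw [succ_nsmul])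

/-- `L^b ⊗ H^0 ≅ L^b` -/
def mono2Left (L H : X.Modules) (b : ℕ) : mono2 L H (b, 0) ≅ CohB1.tensorPow L b :=
  rUnit _

/-- `L^0 ⊗ H^1 ≅ H` -/
def mono2Right (L H : X.Modules) : mono2 L H (0, 1) ≅ H :=
  lUnit _ ≪≫ lUnit _

end Isos

section Chain

variable (k : Type u) [Field k] {X : Scheme.{u}} [X.Over (Spec (CommRingCat.of k))]
  [IsProper (X ↘ Spec (CommRingCat.of k))]

/-- one step of the chain -/
theorem h0_step (L H : X.Modules) (hL : PicF.IsInvertible L) (hH : PicF.IsInvertible H)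
    (s : Coh.structureModule X ⟶ mono2 L H (0, 1)) [Mono s] (u : ℕ × ℕ) :
    h0 k (mono2 L H ((0, 1) + u)) ≤
      h0 k (mono2 L H u) + h0 k (CohB1.tensorMod (cokernel s) (mono2 L H u)) := by
  haveI := Groth.Agent.Lib.R2H1.CurveEuler.isNoetherian_of_proper k X
  have cO : Coh.IsCoh (Coh.structureModule X) :=
    Groth.Agent.Lib.R2H1.GenusLe.isCoh_structureModule X
  have hH1 : PicF.IsInvertible (mono2 L H (0, 1)) := isInvertible_mono2 hL hH _
  have cH : Coh.IsCoh (mono2 L H (0, 1)) :=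
    Groth.Agent.Lib.R2H4VolBasic.isCoh_of_isInvertible _ hH1
  have cQ : Coh.IsCoh (cokernel s) := Groth.Agent.Lib.R2H2.NilFilt.isCoh_cokernel cO cH s
  let S : ShortComplex X.Modules := ShortComplex.mk s (cokernel.π s) (cokernel.condition s)
  have hS : S.ShortExact :=
    { exact := ShortComplex.exact_cokernel s
      mono_f := by dsimp [S]; infer_instance
      epi_g := by dsimp [S]; infer_instance }
  have hTi : PicF.IsInvertible (mono2 L H u) := isInvertible_mono2 hL hH u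
  have hS' := shortExact_map_twR (mono2 L H u) hTi S hS
  have h1 := h0_le_add k (S.map (twR (mono2 L H u))) hS'
    (Groth.Agent.Lib.R2H3.AmpleSV.isCoh_tensorMod_invertible _ _ cO hTi)
    (Groth.Agent.Lib.R2H3.AmpleSV.isCoh_tensorMod_invertible _ _ cH hTi)
    (Groth.Agent.Lib.R2H3.AmpleSV.isCoh_tensorMod_invertible _ _ cQ hTi)
  have e1 : h0 k (S.map (twR (mono2 L H u))).X₂ = h0 k (mono2 L H ((0, 1) + u)) :=
    h0_congr k (mono2Add L H (0, 1) u).symm
  have e2 : h0 k (S.map (twR (mono2 L H u))).X₁ = h0 k (mono2 L H u) := h0_congr k (lUnit _)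
  have e3 : h0 k (S.map (twR (mono2 L H u))).X₃ =
      h0 k (CohB1.tensorMod (cokernel s) (mono2 L H u)) := rfl
  rw [e1, e2, e3] at h1
  exact h1

/-- the chain: `h⁰(L^b ⊗ H^m) ≤ h⁰(L^b) + ∑_{i<m} h⁰(Q ⊗ L^b ⊗ H^i)` -/
theorem h0_chain (L H : X.Modules) (hL : PicF.IsInvertible L) (hH : PicF.IsInvertible H)
    (s : Coh.structureModule X ⟶ mono2 L H (0, 1)) [Mono s] (b : ℕ) :
    ∀ m : ℕ, h0 k (mono2 L H (b, m)) ≤
      h0 k (mono2 L H (b, 0)) +
        ∑ i ∈ Finset.range m, h0 k (CohB1.tensorMod (cokernel s) (mono2 L H (b, i)))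
  | 0 => by simp
  | m + 1 => by
    have h1 := h0_step k L H hL hH s (b, m)
    have h2 : ((0, 1) + (b, m) : ℕ × ℕ) = (b, m + 1) := by
      ext
      · simp
      · simp [add_comm]
    rw [h2] at h1
    have h3 := h0_chain L H hL hH s b m
    rw [Finset.sum_range_succ]
    omega

end Chain

section Twist

variable (k : Type u) [Field k] {X : Scheme.{u}} [X.Over (Spec (CommRingCat.of k))]
  [IsProper (X ↘ Spec (CommRingCat.of k))]

/-- multiplication by a section of `H^c` which is regular on `Q` -/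
theorem h0_twist_le (L H : X.Modules) (hL : PicF.IsInvertible L) (hH : PicF.IsInvertible H)
    (Q : X.Modules) (cQ : Coh.IsCoh Q) (c : ℕ) (t : Coh.structureModule X ⟶ mono2 L H (0, c))
    (hass : ∀ x : X, Curv2.IsAssPoint Q x → x ∈ CohB1.genLocus _ t) (u : ℕ × ℕ) :
    h0 k (CohB1.tensorMod Q (mono2 L H u)) ≤ h0 k (CohB1.tensorMod Q (mono2 L H (u + (0, c)))) := by
  haveI := Groth.Agent.Lib.R2H1.CurveEuler.isNoetherian_of_proper k X
  have hTi : PicF.IsInvertible (mono2 L H u) := isInvertible_mono2 hL hH u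
  have hTc : PicF.IsInvertible (mono2 L H (0, c)) := isInvertible_mono2 hL hH _
  have cG : Coh.IsCoh (CohB1.tensorMod Q (mono2 L H u)) :=
    Groth.Agent.Lib.R2H3.AmpleSV.isCoh_tensorMod_invertible _ _ cQ hTi
  have cG' : Coh.IsCoh (CohB1.tensorMod (CohB1.tensorMod Q (mono2 L H u)) (mono2 L H (0, c))) :=
    Groth.Agent.Lib.R2H3.AmpleSV.isCoh_tensorMod_invertible _ _ cG hTc
  haveI : Q.IsQuasicoherent := cQ.1
  haveI : (CohB1.tensorMod Q (mono2 L H u)).IsQuasicoherent := cG.1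
  have hinj := Groth.Agent.Lib.R2H3.NegTwist.mulSec_app_injective
    (CohB1.tensorMod Q (mono2 L H u)) t
    (fun x hx => hass x ((Groth.Agent.Lib.R2H3.NegTwist.isAssPoint_tensor_iff Q _ hTi x).1 hx)) ⊤
  have h1 := Groth.Agent.Lib.R2H3.NegTwist.h0_le k cG'
    (Groth.Agent.Lib.R2H3.NegTwist.mulSec (CohB1.tensorMod Q (mono2 L H u)) t) hinj
  have e1 : h0 k (CohB1.tensorMod (CohB1.tensorMod Q (mono2 L H u)) (mono2 L H (0, c))) =
      h0 k (CohB1.tensorMod Q (mono2 L H (u + (0, c)))) :=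
    h0_congr k (tAssoc _ _ _ ≪≫ tIso (Iso.refl _) (mono2Add L H u (0, c)).symm)
  rw [← e1]
  exact h1

/-- moving the exponent of `H` into the window `[m, m + c)` -/
theorem exists_residue (L H : X.Modules) (hL : PicF.IsInvertible L) (hH : PicF.IsInvertible H)
    (Q : X.Modules) (cQ : Coh.IsCoh Q) (c : ℕ) (hc : 0 < c)
    (t : Coh.structureModule X ⟶ mono2 L H (0, c))
    (hass : ∀ x : X, Curv2.IsAssPoint Q x → x ∈ CohB1.genLocus _ t) (b m : ℕ) (i : ℕ)
    (hi : i < m + c) :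
    ∃ r : ℕ, r < c ∧ h0 k (CohB1.tensorMod Q (mono2 L H (b, i))) ≤
      h0 k (CohB1.tensorMod Q (mono2 L H (b, m + r))) := by
  have key : ∀ q i : ℕ, i < m + c → m ≤ i + c * q →
      ∃ r : ℕ, r < c ∧ h0 k (CohB1.tensorMod Q (mono2 L H (b, i))) ≤
        h0 k (CohB1.tensorMod Q (mono2 L H (b, m + r))) := by
    intro q
    induction q with
    | zero =>
      intro i hi hm
      refine ⟨i - m, by omega, ?_⟩
      have : m + (i - m) = i := by omega
      rw [this]
    | succ q ih =>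
      intro i hi hm
      by_cases hmi : m ≤ i
      · refine ⟨i - m, by omega, ?_⟩
        have : m + (i - m) = i := by omega
        rw [this]
      · push Not at hmi
        have h1 := h0_twist_le k L H hL hH Q cQ c t hass (b, i)
        have h2 : ((b, i) + (0, c) : ℕ × ℕ) = (b, i + c) := by
          ext <;> simp
        rw [h2] at h1
        obtain ⟨r, hr, h3⟩ := ih (i + c) (by omega) (by
          have : c * (q + 1) = c * q + c := by ring
          omega)
        exact ⟨r, hr, h1.trans h3⟩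
  refine key m i hi ?_
  have : m ≤ c * m := Nat.le_mul_of_pos_left m hc
  omega

end Twist

section Bound

variable (k : Type u) [Field k] {X : Scheme.{u}} [X.Over (Spec (CommRingCat.of k))]
  [IsProper (X ↘ Spec (CommRingCat.of k))]

/-- **the basic inequality**: with `A = L^N ⊗ H`, `Q = coker (O → H)` and a section of `H^c` regular
on `Q`: `h⁰(A^m) ≤ h⁰(L^(mN)) + m R` as soon as `h⁰((Q ⊗ H^r) ⊗ A^m) ≤ R` for all `r < c` -/
theorem h0_pow_le (L H : X.Modules) (hL : PicF.IsInvertible L) (hH : PicF.IsInvertible H)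
    (s : Coh.structureModule X ⟶ mono2 L H (0, 1)) [Mono s] (c : ℕ) (hc : 0 < c)
    (t : Coh.structureModule X ⟶ mono2 L H (0, c))
    (hass : ∀ x : X, Curv2.IsAssPoint (cokernel s) x → x ∈ CohB1.genLocus _ t) (N m : ℕ) (R : ℚ)
    (hR : ∀ r : ℕ, r < c →
      (h0 k (CohB1.tensorMod (CohB1.tensorMod (cokernel s) (mono2 L H (0, r)))
        (CohB1.tensorPow (mono2 L H (N, 1)) m)) : ℚ) ≤ R) :
    (h0 k (CohB1.tensorPow (mono2 L H (N, 1)) m) : ℚ) ≤
      (h0 k (CohB1.tensorPow L (m * N)) : ℚ) + (m : ℚ) * R := by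
  haveI := Groth.Agent.Lib.R2H1.CurveEuler.isNoetherian_of_proper k X
  have cO : Coh.IsCoh (Coh.structureModule X) :=
    Groth.Agent.Lib.R2H1.GenusLe.isCoh_structureModule X
  have hH1 : PicF.IsInvertible (mono2 L H (0, 1)) := isInvertible_mono2 hL hH _
  have cH : Coh.IsCoh (mono2 L H (0, 1)) :=
    Groth.Agent.Lib.R2H4VolBasic.isCoh_of_isInvertible _ hH1
  have cQ : Coh.IsCoh (cokernel s) := Groth.Agent.Lib.R2H2.NilFilt.isCoh_cokernel cO cH s
  have h1 := h0_chain k L H hL hH s (m * N) m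
  have hsm : (m • ((N, 1) : ℕ × ℕ)) = (m * N, m) := by
    ext <;> simp
  have e1 : h0 k (CohB1.tensorPow (mono2 L H (N, 1)) m) = h0 k (mono2 L H (m * N, m)) := by
    rw [← hsm]
    exact h0_congr k (mono2Pow L H (N, 1) m)
  have e2 : h0 k (mono2 L H (m * N, 0)) = h0 k (CohB1.tensorPow L (m * N)) :=
    h0_congr k (mono2Left L H (m * N))
  rw [e1, ← e2]
  have h2 : ∀ i ∈ Finset.range m,
      (h0 k (CohB1.tensorMod (cokernel s) (mono2 L H (m * N, i))) : ℚ) ≤ R := by
    intro i hi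
    obtain ⟨r, hr, h3⟩ := exists_residue k L H hL hH (cokernel s) cQ c hc t hass (m * N) m i
      (by have := Finset.mem_range.1 hi; omega)
    have hidx : ((0, r) + m • ((N, 1) : ℕ × ℕ) : ℕ × ℕ) = (m * N, m + r) := by
      rw [hsm]
      ext
      · simp
      · simp [add_comm]
    have e3 : h0 k (CohB1.tensorMod (CohB1.tensorMod (cokernel s) (mono2 L H (0, r)))
        (CohB1.tensorPow (mono2 L H (N, 1)) m)) =
        h0 k (CohB1.tensorMod (cokernel s) (mono2 L H (m * N, m + r))) := by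
      rw [← hidx]
      exact h0_congr k (tAssoc _ _ _ ≪≫ tIso (Iso.refl _)
        (tIso (Iso.refl _) (mono2Pow L H (N, 1) m) ≪≫ (mono2Add L H (0, r) (m • (N, 1))).symm))
    have h4 := hR r hr
    rw [e3] at h4
    have h5 : (h0 k (CohB1.tensorMod (cokernel s) (mono2 L H (m * N, i))) : ℚ) ≤
        (h0 k (CohB1.tensorMod (cokernel s) (mono2 L H (m * N, m + r))) : ℚ) := by
      exact_mod_cast h3
    exact h5.trans h4
  have h6 : ((∑ i ∈ Finset.range m,
      h0 k (CohB1.tensorMod (cokernel s) (mono2 L H (m * N, i))) : ℕ) : ℚ) ≤ (m : ℚ) * R := by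
    push_cast
    calc ∑ i ∈ Finset.range m, (h0 k (CohB1.tensorMod (cokernel s) (mono2 L H (m * N, i))) : ℚ)
        ≤ ∑ _i ∈ Finset.range m, R := Finset.sum_le_sum h2
      _ = (m : ℚ) * R := by
        rw [Finset.sum_const, Finset.card_range, nsmul_eq_mul]
  have h7 : (h0 k (mono2 L H (m * N, m)) : ℚ) ≤ ((h0 k (mono2 L H (m * N, 0)) +
      ∑ i ∈ Finset.range m, h0 k (CohB1.tensorMod (cokernel s) (mono2 L H (m * N, i))) : ℕ) : ℚ) := by
    exact_mod_cast h1
  rw [Nat.cast_add] at h7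
  linarith

end Bound

end Groth.Agent.Lib.R2H4NefBigC
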