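import Mathlib
import Groth.Prelude
import Groth.Agent.Lib.R2H4NefBigB
import Groth.Agent.Lib.R2H4NefBigC

/-!
# Positive top self-intersection of a nef module implies bigness (helper4, round 2)

* `alpha_lower`, `beta_upper` : the intersection numbers `((L^N ⊗ H)^n)` and
  `(H · (L^N ⊗ H)^(n-1))` as functions of `N`;
* `exists_growth_of_pos` : `h⁰(L^(mN)) ≥ c m^n` for `m ≫ 0`;
* `exists_freq_of_pos` : the growth of the sections of a nef module with `(L^n) > 0`.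
-/

set_option autoImplicit false
set_option linter.style.haveILetI false
set_option linter.unusedSectionVars false
universe u
open CategoryTheory CategoryTheory.Limits AlgebraicGeometry TopologicalSpace

noncomputable section

namespace Groth.Agent.Lib.R2H4NefBigD

open Groth.Agent.Lib.R2H4NumPoly Groth.Agent.Lib.R2H4TensorPows Groth.Agent.Lib.R2H4Snapper
  Groth.Agent.Lib.R2H4SnapperCor Groth.Agent.Lib.R2H4SnapperRef Groth.Agent.Lib.R2H4MultiAdd
  Groth.Agent.Lib.R2H4AmplePos Groth.Agent.Lib.R2H4KleimanA Groth.Agent.Lib.R2H4KleimanB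
  Groth.Agent.Lib.R2H4KleimanC Groth.Agent.Lib.R2H4NefBigA Groth.Agent.Lib.R2H4NefBigB
  Groth.Agent.Lib.R2H4NefBigC Groth.Agent.Lib.R2H4H0Growth

section Numbers

variable (k : Type u) [Field k] {X : Scheme.{u}} [X.Over (Spec (CommRingCat.of k))]
  [IsProper (X ↘ Spec (CommRingCat.of k))]

/-- `((L^N ⊗ H)^n · F) ≥ N^n (L^n · F)` when all mixed numbers are nonnegative -/
theorem alpha_lower {L H F : X.Modules} (hL : PicF.IsInvertible L) (hH : PicF.IsInvertible H)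
    (hF : Coh.IsCoh F) (n : ℕ)
    (hdim : topologicalKrullDim (CohB1.support F) ≤ ((n : ℕ) : WithBot ℕ∞))
    (hnn : ∀ r : Fin n → Bool, 0 ≤ iN k (fun i => if r i then L else H) F) (N : ℕ) :
    (N : ℚ) ^ n * iN k (fun _ : Fin n => L) F ≤ Φfun k L H F n (fun _ => (N, 1)) := by
  classical
  rw [Φfun_expand k hL hH hF n hdim]
  have hterm : ∀ r : Fin n → Bool, 0 ≤ (∏ i, ((if r i then ((fun _ => (N, 1) : Fin n → ℕ × ℕ) i).1
      else ((fun _ => (N, 1) : Fin n → ℕ × ℕ) i).2 : ℕ) : ℚ)) *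
        Φfun k L H F n (fun i => bvec (r i)) := by
    intro r
    rw [Φfun_bvec]
    exact mul_nonneg (Finset.prod_nonneg fun i _ => Nat.cast_nonneg _) (hnn r)
  refine le_trans ?_ (Finset.single_le_sum (fun r _ => hterm r) (Finset.mem_univ (fun _ => true)))
  rw [Φfun_bvec]
  simp
  
/-- `(H · (L^N ⊗ H)^e · F) ≤ N^e ∑ (mixed numbers)` for `N ≥ 1` -/
theorem beta_upper {L H F : X.Modules} (hL : PicF.IsInvertible L) (hH : PicF.IsInvertible H)
    (hF : Coh.IsCoh F) (e : ℕ)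
    (hdim : topologicalKrullDim (CohB1.support F) ≤ ((e + 1 : ℕ) : WithBot ℕ∞))
    (hnn : ∀ r : Fin (e + 1) → Bool, 0 ≤ iN k (fun i => if r i then L else H) F) (N : ℕ)
    (hN : 1 ≤ N) :
    Φfun k L H F (e + 1) (Function.update (fun _ => (N, 1)) 0 (0, 1)) ≤
      (N : ℚ) ^ e * ∑ r : Fin (e + 1) → Bool, iN k (fun i => if r i then L else H) F := by
  classical
  rw [Φfun_expand k hL hH hF (e + 1) hdim, Finset.mul_sum]
  refine Finset.sum_le_sum fun r _ => ?_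
  rw [Φfun_bvec]
  refine mul_le_mul_of_nonneg_right ?_ (hnn r)
  rw [Fin.prod_univ_succ]
  have hN1 : (1 : ℚ) ≤ (N : ℚ) := by exact_mod_cast hN
  have h0 : ((if r 0 then ((Function.update (fun _ => (N, 1)) 0 (0, 1) : Fin (e + 1) → ℕ × ℕ) 0).1
      else ((Function.update (fun _ => (N, 1)) 0 (0, 1) : Fin (e + 1) → ℕ × ℕ) 0).2 : ℕ) : ℚ) ≤ 1 := by
    rw [Function.update_self]
    split_ifs <;> simp
  have h0' : (0 : ℚ) ≤ ((if r 0 then
      ((Function.update (fun _ => (N, 1)) 0 (0, 1) : Fin (e + 1) → ℕ × ℕ) 0).1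
      else ((Function.update (fun _ => (N, 1)) 0 (0, 1) : Fin (e + 1) → ℕ × ℕ) 0).2 : ℕ) : ℚ) :=
    Nat.cast_nonneg _
  have h1 : ∏ i : Fin e, ((if r i.succ then
      ((Function.update (fun _ => (N, 1)) 0 (0, 1) : Fin (e + 1) → ℕ × ℕ) i.succ).1
      else ((Function.update (fun _ => (N, 1)) 0 (0, 1) : Fin (e + 1) → ℕ × ℕ) i.succ).2 : ℕ) : ℚ) ≤
      (N : ℚ) ^ e := by
    calc _ ≤ ∏ _i : Fin e, (N : ℚ) := by
          refine Finset.prod_le_prod (fun i _ => Nat.cast_nonneg _) (fun i _ => ?_)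
          rw [Function.update_of_ne (Fin.succ_ne_zero i)]
          split_ifs
          · exact le_rfl
          · simpa using hN1
      _ = (N : ℚ) ^ e := by simp
  have h1' : (0 : ℚ) ≤ ∏ i : Fin e, ((if r i.succ then
      ((Function.update (fun _ => (N, 1)) 0 (0, 1) : Fin (e + 1) → ℕ × ℕ) i.succ).1
      else ((Function.update (fun _ => (N, 1)) 0 (0, 1) : Fin (e + 1) → ℕ × ℕ) i.succ).2 : ℕ) : ℚ) :=
    Finset.prod_nonneg fun i _ => Nat.cast_nonneg _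
  calc _ ≤ 1 * (N : ℚ) ^ e := mul_le_mul h0 h1 h1' zero_le_one
    _ = (N : ℚ) ^ e := one_mul _

end Numbers

section Main

variable (k : Type u) [Field k] {X : Scheme.{u}} [X.Over (Spec (CommRingCat.of k))]
  [IsProper (X ↘ Spec (CommRingCat.of k))] [IsIntegral X]

/-- **growth of the sections of a nef module with `(L^n) > 0`**, along the multiples of a
suitable `N` -/
theorem exists_growth_of_pos (e : ℕ)
    (hX : topologicalKrullDim X = ((e + 1 : ℕ) : WithBot ℕ∞))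
    (L : X.Modules) (hL : PicF.IsInvertible L) (hnef : Nef k X L)
    (H : X.Modules) (hH : CohB1.IsAmple H) (s₀ : Coh.structureModule X ⟶ H) (hs₀ : s₀ ≠ 0)
    (hpos : 0 < iN k (fun _ : Fin (e + 1) => L) (Coh.structureModule X)) :
    ∃ (N : ℕ) (c : ℚ) (m₀ : ℕ), 0 < N ∧ 0 < c ∧ ∀ m : ℕ, m₀ ≤ m →
      c * (m : ℚ) ^ (e + 1) ≤ (h0 k (CohB1.tensorPow L (m * N)) : ℚ) := by
  classical
  haveI := Groth.Agent.Lib.R2H1.CurveEuler.isNoetherian_of_proper k X
  have hO : PicF.IsInvertible (Coh.structureModule X) :=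
    Groth.Agent.Lib.Helper23.TensorUnit.isInvertible_structureModule X
  have cO : Coh.IsCoh (Coh.structureModule X) :=
    Groth.Agent.Lib.R2H1.GenusLe.isCoh_structureModule X
  have hdimO : topologicalKrullDim (CohB1.support (Coh.structureModule X)) ≤
      ((e + 1 : ℕ) : WithBot ℕ∞) := (dim_support_le_dim _).trans hX.le
  -- the section
  have hH1 : PicF.IsInvertible (mono2 L H (0, 1)) := isInvertible_mono2 hL hH.1 _
  obtain ⟨s, hsdef⟩ : ∃ s : Coh.structureModule X ⟶ mono2 L H (0, 1),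
      s = s₀ ≫ (mono2Right L H).inv := ⟨_, rfl⟩
  have hs0 : s ≠ 0 := by
    intro h
    apply hs₀
    have h1 : s₀ = s ≫ (mono2Right L H).hom := by rw [hsdef]; simp
    rw [h1, h]
    simp
  haveI : Mono s := Groth.Agent.Lib.R2H1.InvHom.mono_of_ne_zero hO hH1 s hs0
  have cH1 : Coh.IsCoh (mono2 L H (0, 1)) :=
    Groth.Agent.Lib.R2H4VolBasic.isCoh_of_isInvertible _ hH1
  have cQ : Coh.IsCoh (cokernel s) := Groth.Agent.Lib.R2H2.NilFilt.isCoh_cokernel cO cH1 s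
  have hdimQ : topologicalKrullDim (CohB1.support (cokernel s)) ≤ ((e : ℕ) : WithBot ℕ∞) := by
    refine le_of_lt_succ' _ _ ?_
    rw [← hX]
    exact Groth.Agent.Lib.R2H4VolBig.dim_support_cokernel_lt k _ hH1 s hs0
  -- the regular section
  haveI : CompactSpace X := hH.2.1
  obtain ⟨d, σ, hσ, -, -⟩ := Groth.Agent.Lib.Helper23.SecTw.exists_affine_genLocus_of_finite H hH _
    (Groth.Agent.Lib.R2H3.NegTwist.finite_assPoints (cokernel s) cQ) ⊤ (fun _ _ => trivial)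
  obtain ⟨ι⟩ : Nonempty (CohB1.tensorPow H (d + 1) ≅ mono2 L H (0, d + 1)) :=
    ⟨(lUnit (CohB1.tensorPow H (d + 1))).symm⟩
  obtain ⟨t, htdef⟩ : ∃ t : Coh.structureModule X ⟶ mono2 L H (0, d + 1),
      t = σ ≫ ι.hom := ⟨_, rfl⟩
  have hass : ∀ x : X, Curv2.IsAssPoint (cokernel s) x → x ∈ CohB1.genLocus _ t := by
    intro x hx
    rw [htdef, Groth.Agent.Lib.Helper23.AmpleIso.genLocus_comp_iso]
    exact hσ hx
  -- the mixed numbers
  have hkl := kleiman_aux k (e + 1) X hX L H hL hnef hH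
  have hnn : ∀ r : Fin (e + 1) → Bool,
      0 ≤ iN k (fun i => if r i then L else H) (Coh.structureModule X) := hkl.1
  obtain ⟨K, hKdef⟩ : ∃ K : ℚ, K = ∑ r : Fin (e + 1) → Bool,
      iN k (fun i => if r i then L else H) (Coh.structureModule X) := ⟨_, rfl⟩
  have hK0 : 0 ≤ K := by
    rw [hKdef]
    exact Finset.sum_nonneg fun r _ => hnn r
  obtain ⟨lam, hlam⟩ : ∃ lam : ℚ, lam = iN k (fun _ : Fin (e + 1) => L)
      (Coh.structureModule X) := ⟨_, rfl⟩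
  rw [← hlam] at hpos
  -- the choice of `N`
  obtain ⟨N₀, hN₀⟩ := exists_nat_gt (((e + 1 : ℕ) : ℚ) * K / lam)
  obtain ⟨N, hNdef⟩ : ∃ N : ℕ, N = N₀ + 1 := ⟨_, rfl⟩
  have hN1 : 1 ≤ N := by omega
  have hNq : (1 : ℚ) ≤ (N : ℚ) := by exact_mod_cast hN1
  have hNlam : ((e + 1 : ℕ) : ℚ) * K < (N : ℚ) * lam := by
    have h1 : ((e + 1 : ℕ) : ℚ) * K / lam < (N : ℚ) := by
      refine hN₀.trans ?_
      rw [hNdef]
      push_cast
      linarith
    rwa [div_lt_iff₀ hpos] at h1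
  have hA : CohB1.IsAmple (mono2 L H (N, 1)) := hkl.2 1 N one_pos
  -- the two intersection numbers
  obtain ⟨α, hα⟩ : ∃ α : ℚ, α = iN k (fun _ : Fin (e + 1) => mono2 L H (N, 1))
      (Coh.structureModule X) := ⟨_, rfl⟩
  obtain ⟨β, hβ⟩ : ∃ β : ℚ, β = iN k (fun _ : Fin e => mono2 L H (N, 1)) (cokernel s) :=
    ⟨_, rfl⟩
  have hαl : (N : ℚ) ^ (e + 1) * lam ≤ α := by
    rw [hα, hlam]
    exact alpha_lower k hL hH.1 cO (e + 1) hdimO hnn N
  have hβu : β ≤ (N : ℚ) ^ e * K := by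
    rw [hβ, hKdef, iN_cokernel_section k 0 (fun _ : Fin e => mono2 L H (N, 1)) (fun _ => hA.1)
      (mono2 L H (0, 1)) hH1 s]
    have h1 := beta_upper k hL hH.1 cO e hdimO hnn N hN1
    have hfun := update_eq_insertNth L H (fun _ : Fin (e + 1) => ((N, 1) : ℕ × ℕ)) 0 (0, 1)
    unfold Φfun at h1
    rw [hfun] at h1
    exact h1
  have hgap : 0 < α - ((e + 1 : ℕ) : ℚ) * β := by
    have hNe : (0 : ℚ) < (N : ℚ) ^ e := by positivity
    have h1 : ((e + 1 : ℕ) : ℚ) * β ≤ ((e + 1 : ℕ) : ℚ) * ((N : ℚ) ^ e * K) :=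
      mul_le_mul_of_nonneg_left hβu (Nat.cast_nonneg _)
    have h2 : (N : ℚ) ^ e * (((e + 1 : ℕ) : ℚ) * K) < (N : ℚ) ^ e * ((N : ℚ) * lam) :=
      mul_lt_mul_of_pos_left hNlam hNe
    have h3 : (N : ℚ) ^ (e + 1) * lam = (N : ℚ) ^ e * ((N : ℚ) * lam) := by ring
    have h4 : ((e + 1 : ℕ) : ℚ) * ((N : ℚ) ^ e * K) = (N : ℚ) ^ e * (((e + 1 : ℕ) : ℚ) * K) := by
      ring
    linarith
  -- asymptotic Riemann–Roch
  obtain ⟨B₁, m₁, hB₁, h₁⟩ := asympRR_coh k _ cO (e + 1) hdimO (mono2 L H (N, 1)) hA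
  rw [← hα] at h₁
  have hFi : ∀ r : ℕ, PicF.IsInvertible (mono2 L H (0, r)) := fun r => isInvertible_mono2 hL hH.1 _
  have hF : ∀ r : ℕ, Coh.IsCoh (CohB1.tensorMod (cokernel s) (mono2 L H (0, r))) := fun r =>
    Groth.Agent.Lib.R2H3.AmpleSV.isCoh_tensorMod_invertible _ _ cQ (hFi r)
  have hFdim : ∀ r : ℕ, topologicalKrullDim
      (CohB1.support (CohB1.tensorMod (cokernel s) (mono2 L H (0, r)))) ≤
      ((e : ℕ) : WithBot ℕ∞) := fun r =>
    (dim_mono (support_tensor_subset _ _ (hFi r))).trans hdimQ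
  have hFβ : ∀ r : ℕ, iN k (fun _ : Fin e => mono2 L H (N, 1))
      (CohB1.tensorMod (cokernel s) (mono2 L H (0, r))) = β := fun r => by
    rw [hβ]
    exact iN_tensor_eq k _ (fun _ => hA.1) _ (hFi r) _ cQ hdimQ
  have h₂ := fun r : ℕ => asympRR_coh k _ (hF r) e (hFdim r) (mono2 L H (N, 1)) hA
  choose B₂ m₂ hB₂ h₂ using h₂
  simp_rw [hFβ] at h₂
  obtain ⟨Bs, hBs⟩ : ∃ Bs : ℚ, Bs = ∑ r ∈ Finset.range (d + 1), B₂ r := ⟨_, rfl⟩
  obtain ⟨ms, hms⟩ : ∃ ms : ℕ, ms = ∑ r ∈ Finset.range (d + 1), m₂ r := ⟨_, rfl⟩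
  have hBs0 : 0 ≤ Bs := by
    rw [hBs]
    exact Finset.sum_nonneg fun r _ => hB₂ r
  have hBr : ∀ r, r < d + 1 → B₂ r ≤ Bs := by
    intro r hr
    rw [hBs]
    exact Finset.single_le_sum (fun i _ => hB₂ i) (Finset.mem_range.2 hr)
  have hmr : ∀ r, r < d + 1 → m₂ r ≤ ms := by
    intro r hr
    rw [hms]
    exact Finset.single_le_sum (f := m₂) (fun i _ => Nat.zero_le _) (Finset.mem_range.2 hr)
  -- the constants
  have hfe : (0 : ℚ) < (e.factorial : ℚ) := by exact_mod_cast Nat.factorial_pos e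
  have hfe1 : ((e + 1).factorial : ℚ) = ((e + 1 : ℕ) : ℚ) * (e.factorial : ℚ) := by
    rw [Nat.factorial_succ]
    push_cast
    ring
  obtain ⟨γ, hγ⟩ : ∃ γ : ℚ, γ = α / ((e + 1).factorial : ℚ) - β / (e.factorial : ℚ) := ⟨_, rfl⟩
  have hγpos : 0 < γ := by
    have he1 : (0 : ℚ) < ((e + 1 : ℕ) : ℚ) := by positivity
    have : γ = (α - ((e + 1 : ℕ) : ℚ) * β) / (((e + 1 : ℕ) : ℚ) * (e.factorial : ℚ)) := by
      rw [hγ, hfe1]
      field_simp
    rw [this]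
    positivity
  obtain ⟨m₃, hm₃⟩ := exists_nat_ge (2 * (B₁ + Bs) / γ)
  refine ⟨N, γ / 2, max (max m₁ ms) (max 1 m₃), hN1, by positivity, fun m hm => ?_⟩
  have hm1 : m₁ ≤ m := ((le_max_left _ _).trans (le_max_left _ _)).trans hm
  have hms' : ms ≤ m := ((le_max_right _ _).trans (le_max_left _ _)).trans hm
  have hmpos : 1 ≤ m := ((le_max_left _ _).trans (le_max_right _ _)).trans hm
  have hm3 : m₃ ≤ m := ((le_max_right _ _).trans (le_max_right _ _)).trans hm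
  have hmq : (0 : ℚ) < (m : ℚ) := by exact_mod_cast hmpos
  have hme : (0 : ℚ) < (m : ℚ) ^ e := by positivity
  -- the bound for the twists of `Q`
  have hR : ∀ r : ℕ, r < d + 1 →
      (h0 k (CohB1.tensorMod (CohB1.tensorMod (cokernel s) (mono2 L H (0, r)))
        (CohB1.tensorPow (mono2 L H (N, 1)) m)) : ℚ) ≤
        β / (e.factorial : ℚ) * (m : ℚ) ^ e + Bs * (m : ℚ) ^ e / (m : ℚ) := by
    intro r hr
    have h3 := h₂ r m ((hmr r hr).trans hms')
    have h4 := (mul_le_mul_of_nonneg_right (le_abs_self _) hmq.le).trans h3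
    have h5 : B₂ r * (m : ℚ) ^ e ≤ Bs * (m : ℚ) ^ e :=
      mul_le_mul_of_nonneg_right (hBr r hr) hme.le
    rw [← sub_le_iff_le_add', le_div_iff₀ hmq]
    exact h4.trans h5
  have h6 := h0_pow_le k L H hL hH.1 s (d + 1) (Nat.succ_pos d) t hass N m _ hR
  -- the lower bound for `A^m`
  have h7 := h₁ m hm1
  have e1 : h0 k (CohB1.tensorMod (Coh.structureModule X) (CohB1.tensorPow (mono2 L H (N, 1)) m)) =
      h0 k (CohB1.tensorPow (mono2 L H (N, 1)) m) := h0_congr k (lUnit _)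
  rw [e1] at h7
  have h8 := (mul_le_mul_of_nonneg_right (neg_le_abs _) hmq.le).trans h7
  have h9 : α / ((e + 1).factorial : ℚ) * (m : ℚ) ^ (e + 1) -
      (h0 k (CohB1.tensorPow (mono2 L H (N, 1)) m) : ℚ) ≤ B₁ * (m : ℚ) ^ e := by
    refine le_of_mul_le_mul_right ?_ hmq
    calc _ = -((h0 k (CohB1.tensorPow (mono2 L H (N, 1)) m) : ℚ) -
          α / ((e + 1).factorial : ℚ) * (m : ℚ) ^ (e + 1)) * (m : ℚ) := by ring
      _ ≤ B₁ * (m : ℚ) ^ (e + 1) := h8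
      _ = B₁ * (m : ℚ) ^ e * (m : ℚ) := by ring
  -- conclusion
  have h10 : 2 * (B₁ + Bs) ≤ γ * (m : ℚ) := by
    have h11 : 2 * (B₁ + Bs) / γ ≤ (m : ℚ) := hm₃.trans (by exact_mod_cast hm3)
    rw [div_le_iff₀ hγpos] at h11
    linarith
  have h12 : (m : ℚ) * (β / (e.factorial : ℚ) * (m : ℚ) ^ e + Bs * (m : ℚ) ^ e / (m : ℚ)) =
      β / (e.factorial : ℚ) * (m : ℚ) ^ (e + 1) + Bs * (m : ℚ) ^ e := by
    field_simp
    ring
  rw [h12] at h6
  have h13 : γ * (m : ℚ) ^ (e + 1) =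
      α / ((e + 1).factorial : ℚ) * (m : ℚ) ^ (e + 1) -
        β / (e.factorial : ℚ) * (m : ℚ) ^ (e + 1) := by
    rw [hγ]; ring
  have h14 : (B₁ + Bs) * (m : ℚ) ^ e ≤ γ / 2 * (m : ℚ) ^ (e + 1) := by
    have : γ / 2 * (m : ℚ) ^ (e + 1) = (γ * (m : ℚ) / 2) * (m : ℚ) ^ e := by ring
    rw [this]
    refine mul_le_mul_of_nonneg_right ?_ hme.le
    linarith
  have h15 : γ / 2 * (m : ℚ) ^ (e + 1) = γ * (m : ℚ) ^ (e + 1) - γ / 2 * (m : ℚ) ^ (e + 1) := by
    ring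
  linarith

end Main

section Freq

variable (k : Type u) [Field k] {X : Scheme.{u}} [X.Over (Spec (CommRingCat.of k))]
  [IsProper (X ↘ Spec (CommRingCat.of k))] [IsIntegral X]

/-- **a nef invertible module with `(L^n) > 0` is big** (growth form) -/
theorem exists_freq_of_pos (n : ℕ) (hX : topologicalKrullDim X = ((n : ℕ) : WithBot ℕ∞))
    (L : X.Modules) (hL : PicF.IsInvertible L) (hnef : Nef k X L)
    (H : X.Modules) (hH : CohB1.IsAmple H)
    (hpos : 0 < iN k (fun _ : Fin n => L) (Coh.structureModule X)) :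
    ∃ c : ℝ, 0 < c ∧ ∃ᶠ m : ℕ in Filter.atTop,
      c * (m : ℝ) ^ n ≤ (h0 k (CohB1.tensorPow L m) : ℝ) := by
  rcases Nat.eq_zero_or_pos n with hn0 | hnpos
  · subst hn0
    have hLa : CohB1.IsAmple L := isAmple_of_dim_zero k (by rw [hX]; rfl) L hL
    obtain ⟨c, hc, q₀, hq₀⟩ := Groth.Agent.Lib.R2H4VolBig.exists_lower_bound_ample k 0 hX L hLa
    refine ⟨c, hc, Filter.Eventually.frequently ?_⟩
    filter_upwards [Filter.eventually_ge_atTop q₀] with q hq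
    exact hq₀ q hq
  · obtain ⟨e, rfl⟩ : ∃ e, n = e + 1 := ⟨n - 1, by omega⟩
    obtain ⟨a, ha, ⟨s₀, hs₀⟩, -⟩ := Groth.Agent.Lib.R2H4VolBig.exists_pow_sections H hH L hL
    have hH' : CohB1.IsAmple (CohB1.tensorPow H a) :=
      (Groth.Agent.Lib.Helper23.SecTw.isAmple_tensorPow_iff H hH.1 a ha).1 hH
    obtain ⟨N, c, m₀, hN, hc, hgrow⟩ := exists_growth_of_pos k e hX L hL hnef _ hH' s₀ hs₀ hpos
    have hNq : (0 : ℝ) < (N : ℝ) := by exact_mod_cast hN
    have hcR : (0 : ℝ) < ((c : ℚ) : ℝ) := by exact_mod_cast hc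
    refine ⟨(c : ℝ) / (N : ℝ) ^ (e + 1), by positivity, ?_⟩
    rw [Filter.frequently_atTop]
    intro a₀
    refine ⟨max m₀ a₀ * N, ?_, ?_⟩
    · calc a₀ ≤ max m₀ a₀ := le_max_right _ _
        _ = max m₀ a₀ * 1 := (mul_one _).symm
        _ ≤ max m₀ a₀ * N := Nat.mul_le_mul_left _ hN
    · have h1 := hgrow (max m₀ a₀) (le_max_left _ _)
      have h2 : ((c * ((max m₀ a₀ : ℕ) : ℚ) ^ (e + 1) : ℚ) : ℝ) ≤
          (((h0 k (CohB1.tensorPow L (max m₀ a₀ * N)) : ℕ) : ℚ) : ℝ) := by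
        exact_mod_cast h1
      push_cast at h2
      have h3 : (c : ℝ) / (N : ℝ) ^ (e + 1) * (((max m₀ a₀ * N : ℕ) : ℕ) : ℝ) ^ (e + 1) =
          (c : ℝ) * ((max (m₀ : ℝ) (a₀ : ℝ))) ^ (e + 1) := by
        push_cast
        rw [mul_pow]
        field_simp
      rw [h3]
      exact h2

end Freq

end Groth.Agent.Lib.R2H4NefBigD
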