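import Mathlib
import Groth.Prelude
import Groth.Agent.Lib.R2H4NefBigD
import Groth.Agent.Lib.R2H1DegTensor

/-!
# Numerical dimension bounds the Iitaka dimension: transport along closed immersions
(helper4, round 2)

* `iN_push` : the projection formula for intersection numbers along an affine morphism;
* `NumTrivial k Z L m` : `(L^m · V) = 0` for all integral closed subschemes `V` of dimension `m`;
* `numTrivial_pullback` : restriction of this property to a closed subscheme.
-/

set_option autoImplicit false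
set_option linter.style.haveILetI false
set_option linter.unusedSectionVars false
universe u
open CategoryTheory CategoryTheory.Limits AlgebraicGeometry TopologicalSpace

noncomputable section

namespace Groth.Agent.Lib.R2H4NumDimA

open Groth.Agent.Lib.R2H4NumPoly Groth.Agent.Lib.R2H4TensorPows Groth.Agent.Lib.R2H4Snapper
  Groth.Agent.Lib.R2H4SnapperCor Groth.Agent.Lib.R2H4SnapperRef Groth.Agent.Lib.R2H4MultiAdd
  Groth.Agent.Lib.R2H4AmplePos Groth.Agent.Lib.R2H4KleimanA Groth.Agent.Lib.R2H4KleimanB
  Groth.Agent.Lib.R2H4KleimanC Groth.Agent.Lib.R2H4NefBigA Groth.Agent.Lib.R2H4H0Growth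
  Groth.Agent.Lib.R2H1.DegCartier

section Push

variable (k : Type u) [Field k] {X W : Scheme.{u}} [X.Over (Spec (CommRingCat.of k))]
  [W.Over (Spec (CommRingCat.of k))]
  [IsProper (X ↘ (Spec (CommRingCat.of k)))] [IsProper (W ↘ (Spec (CommRingCat.of k)))]

/-- projection formula for the twisted Euler characteristics -/
theorem fE_push (i : W ⟶ X) [IsAffineHom i]
    (hi : i ≫ (X ↘ (Spec (CommRingCat.of k))) = W ↘ (Spec (CommRingCat.of k)))
    (r : ℕ) (N : Fin r → X.Modules) (hN : ∀ j, PicF.IsInvertible (N j)) (G : W.Modules)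
    (hG : Coh.IsCoh G) (n : Fin r → ℕ) :
    fE k X r N ((Scheme.Modules.pushforward i).obj G) n =
      fE k W r (fun j => (Scheme.Modules.pullback i).obj (N j)) G n := by
  unfold fE
  congr 1
  set E := Curv2.tensorPows (Coh.structureModule X) r N n with hE
  have hEi : PicF.IsInvertible E :=
    isInvertible_pows _ (Groth.Agent.Lib.Helper23.TensorUnit.isInvertible_structureModule X)
      r N hN n
  have h1 := Groth.Agent.Lib.Helper23.SecTw.isFinLocFreeOfRank_one_of_isInvertible _ hEi
  have e1 := euler_congr k (powsIsoTensor ((Scheme.Modules.pushforward i).obj G) r N n)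
  have e2 := Groth.Agent.Lib.R2H1.DegTensor.euler_tensor_push k i hi E h1 G hG
  obtain ⟨τ⟩ := nonempty_pullback_pows_iso i r N hN n
  have e3 := euler_congr k (tIso τ (Iso.refl G) ≪≫
    (powsIsoTensor G r (fun j => (Scheme.Modules.pullback i).obj (N j)) n).symm)
  rw [e1]
  exact e2.trans e3

/-- **projection formula for intersection numbers** -/
theorem iN_push (i : W ⟶ X) [IsAffineHom i]
    (hi : i ≫ (X ↘ (Spec (CommRingCat.of k))) = W ↘ (Spec (CommRingCat.of k)))
    {r : ℕ} (N : Fin r → X.Modules) (hN : ∀ j, PicF.IsInvertible (N j)) (G : W.Modules)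
    (hG : Coh.IsCoh G) :
    iN k N ((Scheme.Modules.pushforward i).obj G) =
      iN k (fun j => (Scheme.Modules.pullback i).obj (N j)) G := by
  unfold iN
  refine Finset.sum_congr rfl fun I _ => ?_
  rw [fE_push k i hi r N hN G hG (ind I)]

end Push

section NumTrivial

variable (k : Type u) [Field k]

/-- `(L^m · V) = 0` for every integral closed subscheme `V` of dimension `m` -/
def NumTrivial (Z : Scheme.{u}) [Z.Over (Spec (CommRingCat.of k))] (L : Z.Modules) (m : ℕ) :
    Prop :=
  ∀ (V : Scheme.{u}) (j : V ⟶ Z) [IsClosedImmersion j], IsIntegral V →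
    topologicalKrullDim V = ((m : ℕ) : WithBot ℕ∞) →
    iN k (fun _ : Fin m => L) ((Scheme.Modules.pushforward j).obj (Coh.structureModule V)) = 0

/-- restriction to a closed subscheme -/
theorem numTrivial_pullback {Z W : Scheme.{u}} [Z.Over (Spec (CommRingCat.of k))]
    [IsProper (Z ↘ Spec (CommRingCat.of k))] (i : W ⟶ Z) [IsClosedImmersion i]
    (L : Z.Modules) (hL : PicF.IsInvertible L) (m : ℕ) (h : NumTrivial k Z L m) :
    @NumTrivial k _ W ⟨i ≫ (Z ↘ Spec (CommRingCat.of k))⟩
      ((Scheme.Modules.pullback i).obj L) m := by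
  letI : W.Over (Spec (CommRingCat.of k)) := ⟨i ≫ (Z ↘ Spec (CommRingCat.of k))⟩
  haveI : IsProper (W ↘ Spec (CommRingCat.of k)) :=
    inferInstanceAs (IsProper (i ≫ (Z ↘ Spec (CommRingCat.of k))))
  intro V j _ hV hdim
  haveI := hV
  haveI : IsNoetherian W := Groth.Agent.Lib.R2H1.CurveEuler.isNoetherian_of_proper k W
  haveI : IsNoetherian V := by
    haveI : IsLocallyNoetherian V := by
      haveI : LocallyOfFiniteType j := inferInstance
      exact LocallyOfFiniteType.isLocallyNoetherian j
    haveI : CompactSpace V := QuasiCompact.compactSpace_of_compactSpace j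
    exact {}
  have hO : Coh.IsCoh (Coh.structureModule V) :=
    Groth.Agent.Lib.R2H1.GenusLe.isCoh_structureModule V
  have cG : Coh.IsCoh ((Scheme.Modules.pushforward j).obj (Coh.structureModule V)) :=
    Groth.Agent.Lib.R2H2.ClosedPn.isCoh_push j _ hO
  have h1 := iN_push k i rfl (fun _ : Fin m => L) (fun _ => hL) _ cG
  rw [← h1]
  have h2 := h V (j ≫ i) hV hdim
  rw [← h2]
  exact iN_congr k _ ((Scheme.Modules.pushforwardComp j i).app (Coh.structureModule V))

end NumTrivial

section Propagate

variable (k : Type u) [Field k]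

/-- vanishing passes from the integral closed subschemes to all coherent modules -/
theorem iN_eq_zero_of_points {X : Scheme.{u}} [X.Over (Spec (CommRingCat.of k))]
    [IsProper (X ↘ Spec (CommRingCat.of k))] (d : ℕ) (N : Fin d → X.Modules)
    (hN : ∀ i, PicF.IsInvertible (N i))
    (hpt : ∀ ξ : X, topologicalKrullDim (closure ({ξ} : Set X)) = ((d : ℕ) : WithBot ℕ∞) →
      iN k N (ClSub.quotMod (zI ξ)) = 0)
    (F : X.Modules) (hF : Coh.IsCoh F)
    (hsupp : topologicalKrullDim (CohB1.support F) ≤ ((d : ℕ) : WithBot ℕ∞)) :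
    iN k N F = 0 := by
  obtain ⟨T, hT1, -, hsum⟩ := iN_eq_sum k F hF d hsupp N hN
  rw [hsum]
  refine Finset.sum_eq_zero fun ξ hξ => ?_
  rw [hpt ξ (hT1 ξ hξ).1, mul_zero]

/-- **propagation**: if `(L^m · V) = 0` for all integral closed `V` of dimension `m`, then
`(L^d · Z) = 0` for integral `Z` of dimension `d ≥ m` (`L` nef, `Z` projective) -/
theorem iN_top_eq_zero (m : ℕ) (d : ℕ) : ∀ (Z : Scheme.{u}) [Z.Over (Spec (CommRingCat.of k))]
    [IsProper (Z ↘ Spec (CommRingCat.of k))] [IsIntegral Z],
    topologicalKrullDim Z = ((d : ℕ) : WithBot ℕ∞) → m ≤ d → ∀ (L H : Z.Modules),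
    PicF.IsInvertible L → CohB1.IsAmple H → NumTrivial k Z L m →
    iN k (fun _ : Fin d => L) (Coh.structureModule Z) = 0 := by
  induction d with
  | zero =>
    intro Z _ _ _ hZ hmd L H hL hH hnt
    obtain rfl : m = 0 := Nat.le_zero.1 hmd
    have h1 := hnt Z (𝟙 Z) inferInstance hZ
    rw [← h1]
    exact iN_congr k _ ((Scheme.Modules.pushforwardId Z).app (Coh.structureModule Z)).symm
  | succ d ih =>
    intro Z _ _ _ hZ hmd L H hL hH hnt
    rcases Nat.eq_or_lt_of_le hmd with hmeq | hmlt
    · subst hmeq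
      have h1 := hnt Z (𝟙 Z) inferInstance hZ
      rw [← h1]
      exact iN_congr k _ ((Scheme.Modules.pushforwardId Z).app (Coh.structureModule Z)).symm
    · have hmd' : m ≤ d := Nat.lt_succ_iff.1 hmlt
      haveI := Groth.Agent.Lib.R2H1.CurveEuler.isNoetherian_of_proper k Z
      have hO : PicF.IsInvertible (Coh.structureModule Z) :=
        Groth.Agent.Lib.Helper23.TensorUnit.isInvertible_structureModule Z
      have cO : Coh.IsCoh (Coh.structureModule Z) :=
        Groth.Agent.Lib.R2H1.GenusLe.isCoh_structureModule Z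
      have hdimO : topologicalKrullDim (CohB1.support (Coh.structureModule Z)) ≤
          ((d + 1 : ℕ) : WithBot ℕ∞) := (dim_support_le_dim _).trans hZ.le
      have hr : topologicalKrullDim (CohB1.support (Coh.structureModule Z)) <
          ((d + 2 : ℕ) : WithBot ℕ∞) := lt_of_le_of_lt hdimO (natCast_lt_succ (d + 1))
      obtain ⟨a, ha, ⟨s, hs⟩, ⟨t, ht⟩⟩ :=
        Groth.Agent.Lib.R2H4VolBig.exists_pow_sections H hH L hL
      have hHa : PicF.IsInvertible (CohB1.tensorPow H a) :=
        Groth.Agent.Lib.Helper23.SecTw.isInvertible_tensorPow hH.1 a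
      have hHaL : PicF.IsInvertible (CohB1.tensorMod (CohB1.tensorPow H a) L) :=
        Groth.Agent.Lib.Helper23.SecTw.isInvertible_tensorMod hHa hL
      haveI : Mono s := Groth.Agent.Lib.R2H1.InvHom.mono_of_ne_zero hO hHa s hs
      haveI : Mono t := Groth.Agent.Lib.R2H1.InvHom.mono_of_ne_zero hO hHaL t ht
      -- the vanishing on the points of dimension `d`
      have hpt : ∀ ξ : Z, topologicalKrullDim (closure ({ξ} : Set Z)) = ((d : ℕ) : WithBot ℕ∞) →
          iN k (fun _ : Fin d => L) (ClSub.quotMod (zI ξ)) = 0 := by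
        intro ξ hξ
        rw [iN_quotMod_eq k (zI ξ) _ (fun _ => hL)]
        letI : (zI ξ).subscheme.Over (Spec (CommRingCat.of k)) :=
          ⟨(zI ξ).subschemeι ≫ (Z ↘ Spec (CommRingCat.of k))⟩
        haveI : IsProper ((zI ξ).subscheme ↘ Spec (CommRingCat.of k)) :=
          inferInstanceAs (IsProper ((zI ξ).subschemeι ≫ (Z ↘ Spec (CommRingCat.of k))))
        haveI := isIntegral_zS ξ
        exact ih (zI ξ).subscheme ((dim_zS ξ).trans hξ) hmd' _ _
          (Groth.Agent.Lib.Helper23.PB.isInvertible_pullback (zI ξ).subschemeι L hL)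
          (Groth.Agent.Lib.Helper23.PB.isAmple_pullback_of_isAffineHom (zI ξ).subschemeι _ hH)
          (numTrivial_pullback k (zI ξ).subschemeι L hL m hnt)
      have hcok : ∀ (B : Z.Modules) (hB : PicF.IsInvertible B) (u : Coh.structureModule Z ⟶ B)
          (hu : u ≠ 0), iN k (fun _ : Fin d => L) (cokernel u) = 0 := by
        intro B hB u hu
        have cQ : Coh.IsCoh (cokernel u) := Groth.Agent.Lib.R2H2.NilFilt.isCoh_cokernel cO
          (Groth.Agent.Lib.R2H4VolBasic.isCoh_of_isInvertible B hB) u
        refine iN_eq_zero_of_points k d _ (fun _ => hL) hpt _ cQ ?_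
        refine le_of_lt_succ' _ _ ?_
        rw [← hZ]
        exact Groth.Agent.Lib.R2H4VolBig.dim_support_cokernel_lt k B hB u hu
      have e3 := iN_insertNth_tensor k (0 : Fin (d + 1)) (fun _ : Fin d => L) (fun _ => hL)
        (CohB1.tensorPow H a) L hHa hL _ cO hr
      have e4 := iN_cokernel_section k (0 : Fin (d + 1)) (fun _ : Fin d => L) (fun _ => hL)
        (CohB1.tensorPow H a) hHa s
      have e5 := iN_cokernel_section k (0 : Fin (d + 1)) (fun _ : Fin d => L) (fun _ => hL)
        (CohB1.tensorMod (CohB1.tensorPow H a) L) hHaL t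
      rw [hcok _ hHa s hs] at e4
      rw [hcok _ hHaL t ht] at e5
      have hfun : (fun _ : Fin (d + 1) => L) =
          Fin.insertNth (α := fun _ => Z.Modules) (0 : Fin (d + 1)) L (fun _ : Fin d => L) := by
        funext i
        rcases Fin.eq_self_or_eq_succAbove (0 : Fin (d + 1)) i with h | ⟨i', h⟩
        · rw [h, Fin.insertNth_apply_same]
        · rw [h, Fin.insertNth_apply_succAbove]
      rw [hfun]
      linarith

end Propagate

end Groth.Agent.Lib.R2H4NumDimA
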