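import Mathlib
import Groth.Prelude
import Groth.Agent.Lib.R2H4NumDimA

/-!
# Numerical dimension bounds the Iitaka dimension (helper4, round 2)

If `L` is nef on an integral projective scheme `Z` and `(L^m · V) = 0` for all integral closed
subschemes `V` of dimension `m ≥ 1`, then `h⁰(Z, L^μ) = O(μ^(m-1))`.
-/

set_option autoImplicit false
set_option linter.style.haveILetI false
set_option linter.unusedSectionVars false
universe u
open CategoryTheory CategoryTheory.Limits AlgebraicGeometry TopologicalSpace Asymptotics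

noncomputable section

namespace Groth.Agent.Lib.R2H4NumDimB

open Groth.Agent.Lib.R2H4NumPoly Groth.Agent.Lib.R2H4TensorPows Groth.Agent.Lib.R2H4Snapper
  Groth.Agent.Lib.R2H4SnapperCor Groth.Agent.Lib.R2H4SnapperRef Groth.Agent.Lib.R2H4MultiAdd
  Groth.Agent.Lib.R2H4AmplePos Groth.Agent.Lib.R2H4KleimanA Groth.Agent.Lib.R2H4KleimanB
  Groth.Agent.Lib.R2H4KleimanC Groth.Agent.Lib.R2H4NefBigA Groth.Agent.Lib.R2H4H0Growth
  Groth.Agent.Lib.R2H1.DegCartier Groth.Agent.Lib.R2H4NumDimA
  Groth.Agent.Lib.R2H2.FinPush Groth.Agent.Lib.R2H3.AmpleFinite Groth.Agent.Lib.R2H2.PnSerre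

section Dev

variable (k : Type u) [Field k]

/-- the statement of the induction -/
def Main (m d : ℕ) : Prop :=
  ∀ (Z : Scheme.{u}) [Z.Over (Spec (CommRingCat.of k))]
    [IsProper (Z ↘ Spec (CommRingCat.of k))] [IsIntegral Z],
    topologicalKrullDim Z = ((d : ℕ) : WithBot ℕ∞) → ∀ (L H : Z.Modules),
    PicF.IsInvertible L → Nef k Z L → CohB1.IsAmple H → NumTrivial k Z L m →
    P k (m - 1) L (Coh.structureModule Z)

/-- dévissage: the growth bound for the modules with small support -/
theorem P_of_small_support (m d : ℕ) (ih : ∀ d' : ℕ, d' < d → Main k m d')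
    {Z : Scheme.{u}} [Z.Over (Spec (CommRingCat.of k))]
    [IsProper (Z ↘ Spec (CommRingCat.of k))] (L H : Z.Modules)
    (hL : PicF.IsInvertible L) (hnef : Nef k Z L) (hH : CohB1.IsAmple H)
    (hnt : NumTrivial k Z L m) (F : Z.Modules) (hF : Coh.IsCoh F) :
    topologicalKrullDim (CohB1.support F) < ((d : ℕ) : WithBot ℕ∞) → P k (m - 1) L F := by
  classical
  have := Groth.Agent.Lib.R2H1.CurveEuler.isNoetherian_of_proper k Z
  refine Groth.Agent.Lib.R2H2.DevL.devissage_roots
    (P := fun G => topologicalKrullDim (CohB1.support G) < ((d : ℕ) : WithBot ℕ∞) →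
      P k (m - 1) L G)
    (fun M hM _ => P_zero k (m - 1) L M hM) ?_ ?_ ?_ F hF
  · intro S hS c₁ c₂ c₃ h₁ h₃ hd
    haveI := hS.mono_f
    haveI := hS.epi_g
    exact P_ext k (m - 1) L hL S hS c₁ c₂ c₃
      (h₁ (lt_of_le_of_lt (dim_mono
        (Groth.Agent.Lib.R2H2.DevA.support_subset_of_mono S.f)) hd))
      (h₃ (lt_of_le_of_lt (dim_mono
        (Groth.Agent.Lib.R2H2.DevA.support_subset_of_epi S.g)) hd))
  · intro F r hF h hd
    exact P_root k (m - 1) L hL F r hF
      (h (lt_of_le_of_lt (dim_mono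
        (Groth.Agent.Lib.R2H2.DevA.support_pow F (r + 1))) hd))
  intro y
  obtain ⟨W, i, hi, hW, hrange, hgen⟩ := Groth.Agent.Lib.R2H2.DevD.exists_integral_closed
    (closure {y}) isClosed_closure isIrreducible_singleton.closure y rfl
  subst hgen
  haveI := hi
  haveI := hW
  letI : W.Over (Spec (CommRingCat.of k)) := ⟨i ≫ (Z ↘ Spec (CommRingCat.of k))⟩
  have hg : i ≫ (Z ↘ Spec (CommRingCat.of k)) = W ↘ Spec (CommRingCat.of k) := rfl
  haveI : IsProper (W ↘ Spec (CommRingCat.of k)) := by
    rw [← hg]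
    infer_instance
  haveI : IsNoetherian W := Groth.Agent.Lib.R2H1.CurveEuler.isNoetherian_of_proper k W
  have hO : Coh.IsCoh (Coh.structureModule W) :=
    Groth.Agent.Lib.R2H1.GenusLe.isCoh_structureModule W
  have cG : Coh.IsCoh (pushO i) := Groth.Agent.Lib.R2H2.ClosedPn.isCoh_push i _ hO
  haveI : (pushO i).IsQuasicoherent := cG.1
  have hampW : CohB1.IsAmple ((Scheme.Modules.pullback i).obj H) :=
    Groth.Agent.Lib.Helper23.PB.isAmple_pullback_of_isAffineHom i _ hH
  have hLW : PicF.IsInvertible ((Scheme.Modules.pullback i).obj L) :=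
    Groth.Agent.Lib.Helper23.PB.isInvertible_pullback i L hL
  have hnefW : Nef k W ((Scheme.Modules.pullback i).obj L) := by
    intro C' hC' hdim'
    exact Groth.Agent.Lib.R2H1.NefPull.nef_pullback k Z W i rfl L hL hnef C' hC' hdim'
  have hntW : NumTrivial k W ((Scheme.Modules.pullback i).obj L) m :=
    numTrivial_pullback k i L hL m hnt
  have hnt' := nontrivial_stalk_pushO i (genericPoint W)
  refine ⟨pushO i, cG, hnt',
    stalk_pushO_smul_eq_zero i (Coh.structureModule W), fun J hJ => ?_⟩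
  have cN : Coh.IsCoh (idl i J) := Groth.Agent.Lib.R2H2.DevF.isCoh_idealMul _ _ hO
  haveI : (idl i J).IsQuasicoherent := cN.1
  have hbij := bijective_stalkLin_phi i J _ hJ
  refine ⟨(Scheme.Modules.pushforward i).obj (idl i J), phi i J, inferInstance,
    Groth.Agent.Lib.Helper23.QCohLocal.isQuasicoherent_pushforward i _,
    hbij, ?_, phi_comp_un i J⟩
  intro hd
  -- the dimension of `W` is less than `d`
  have cG' : Coh.IsCoh ((Scheme.Modules.pushforward i).obj (idl i J)) :=
    Groth.Agent.Lib.R2H2.ClosedPn.isCoh_push i _ cN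
  have hcl : IsClosed (CohB1.support ((Scheme.Modules.pushforward i).obj (idl i J))) :=
    Groth.Agent.S0020.result Z _ cG'.2
  have hy : i (genericPoint W) ∈ CohB1.support ((Scheme.Modules.pushforward i).obj (idl i J)) := by
    intro hsub
    haveI := hsub
    haveI := hnt'
    obtain ⟨a, b, hab⟩ := hbij.2.nontrivial
    exact hab (Subsingleton.elim a b)
  have hsub : ∀ w : W, i w ∈ CohB1.support ((Scheme.Modules.pushforward i).obj (idl i J)) := by
    intro w
    have h1 : i w ∈ closure ({i (genericPoint W)} : Set Z) := hrange ▸ Set.mem_range_self w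
    exact closure_minimal (Set.singleton_subset_iff.2 hy) hcl h1
  have hind : Topology.IsInducing (Set.codRestrict i
      (CohB1.support ((Scheme.Modules.pushforward i).obj (idl i J))) hsub) :=
    (Scheme.Hom.isClosedEmbedding i).isInducing.codRestrict hsub
  have hdW : topologicalKrullDim W < ((d : ℕ) : WithBot ℕ∞) :=
    lt_of_le_of_lt hind.topologicalKrullDim_le hd
  obtain ⟨d', hd'lt, hd'⟩ := exists_nat_dim_eq d hdW
  haveI : Mono (Dual3.idealMulι (J.comap i) (Coh.structureModule W)) :=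
    Groth.Agent.Lib.R2H2.DevF.mono_idealMulι _ _
  have hPW : P k (m - 1) ((Scheme.Modules.pullback i).obj L) (idl i J) :=
    P_mono k (m - 1) _ hLW (Dual3.idealMulι (J.comap i) (Coh.structureModule W)) hO
      (ih d' hd'lt W hd' _ _ hLW hnefW hampW hntW)
  unfold Groth.Agent.Lib.R2H4H0Growth.P at hPW ⊢
  have heq : (fun μ : ℕ => (h0 k (CohB1.tensorMod ((Scheme.Modules.pushforward i).obj (idl i J))
      (CohB1.tensorPow L μ)) : ℝ)) =
      fun μ : ℕ => (h0 k (CohB1.tensorMod (idl i J)
        (CohB1.tensorPow ((Scheme.Modules.pullback i).obj L) μ)) : ℝ) := by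
    funext μ
    rw [h0_push_twist k i hg L hL (idl i J) cN μ]
  rw [heq]
  exact hPW

end Dev

section Induction

variable (k : Type u) [Field k]

/-- **the induction**: `h⁰(Z, L^μ) = O(μ^(m-1))` -/
theorem main_all (m : ℕ) (hm : 1 ≤ m) : ∀ d : ℕ, Main k m d := by
  intro d
  induction d using Nat.strong_induction_on with
  | _ d ih =>
  intro Z _ _ _ hZ L H hL hnef hH hnt
  haveI := Groth.Agent.Lib.R2H1.CurveEuler.isNoetherian_of_proper k Z
  rcases Nat.lt_or_ge d m with hlt | hge
  · -- small dimension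
    refine P_structure_integral k H hH (m - 1) ?_ L hL
    rw [hZ]
    have : d ≤ m - 1 := by omega
    exact_mod_cast this
  · -- `d ≥ m`
    have hzero := iN_top_eq_zero k m d Z hZ hge L H hL hH hnt
    obtain ⟨B, hB, s, hs⟩ : ∃ B : Z.Modules, CohB1.IsAmple B ∧
        ∃ s : Coh.structureModule Z ⟶ B, s ≠ 0 := by
      obtain ⟨a, ha, ⟨s, hs⟩, -⟩ := Groth.Agent.Lib.R2H4VolBig.exists_pow_sections H hH L hL
      exact ⟨CohB1.tensorPow H a,
        (Groth.Agent.Lib.Helper23.SecTw.isAmple_tensorPow_iff H hH.1 a ha).1 hH, s, hs⟩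
    obtain ⟨N, hN, ⟨e⟩⟩ := Groth.Agent.Lib.R2H1.InvExists.exists_inverse B hB.1
    have hO : PicF.IsInvertible (Coh.structureModule Z) :=
      Groth.Agent.Lib.Helper23.TensorUnit.isInvertible_structureModule Z
    have cO : Coh.IsCoh (Coh.structureModule Z) :=
      Groth.Agent.Lib.R2H1.GenusLe.isCoh_structureModule Z
    have cB : Coh.IsCoh B := Groth.Agent.Lib.R2H4VolBasic.isCoh_of_isInvertible B hB.1
    have cQ : Coh.IsCoh (cokernel s) := Groth.Agent.Lib.R2H2.NilFilt.isCoh_cokernel cO cB s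
    haveI : Mono s := Groth.Agent.Lib.R2H1.InvHom.mono_of_ne_zero hO hB.1 s hs
    let S : ShortComplex Z.Modules := ShortComplex.mk s (cokernel.π s) (cokernel.condition s)
    have hS : S.ShortExact :=
      { exact := ShortComplex.exact_cokernel s
        mono_f := by dsimp [S]; infer_instance
        epi_g := by dsimp [S]; infer_instance }
    have hdimQ : topologicalKrullDim (CohB1.support (cokernel s)) < ((d : ℕ) : WithBot ℕ∞) := by
      rw [← hZ]
      exact Groth.Agent.Lib.R2H4VolBig.dim_support_cokernel_lt k B hB.1 s hs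
    have cF : Coh.IsCoh (CohB1.tensorMod (cokernel s) N) :=
      Groth.Agent.Lib.R2H3.AmpleSV.isCoh_tensorMod_invertible _ _ cQ hN
    have hdimF : topologicalKrullDim (CohB1.support (CohB1.tensorMod (cokernel s) N)) <
        ((d : ℕ) : WithBot ℕ∞) :=
      lt_of_le_of_lt (dim_mono (support_tensor_subset _ N hN)) hdimQ
    -- the basic inequality
    have hineq : ∀ μ : ℕ, h0 k (CohB1.tensorPow L μ) ≤
        h0 k (CohB1.tensorMod N (CohB1.tensorPow L μ)) +
          h0 k (CohB1.tensorMod (CohB1.tensorMod (cokernel s) N) (CohB1.tensorPow L μ)) := by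
      intro μ
      have hTi : PicF.IsInvertible (CohB1.tensorMod N (CohB1.tensorPow L μ)) :=
        Groth.Agent.Lib.Helper23.SecTw.isInvertible_tensorMod hN
          (Groth.Agent.Lib.Helper23.SecTw.isInvertible_tensorPow hL μ)
      have hS' := shortExact_map_twR (CohB1.tensorMod N (CohB1.tensorPow L μ)) hTi S hS
      have h1 := h0_le_add k (S.map (twR (CohB1.tensorMod N (CohB1.tensorPow L μ)))) hS'
        (Groth.Agent.Lib.R2H3.AmpleSV.isCoh_tensorMod_invertible _ _ cO hTi)
        (Groth.Agent.Lib.R2H3.AmpleSV.isCoh_tensorMod_invertible _ _ cB hTi)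
        (Groth.Agent.Lib.R2H3.AmpleSV.isCoh_tensorMod_invertible _ _ cQ hTi)
      have e1 : h0 k (S.map (twR (CohB1.tensorMod N (CohB1.tensorPow L μ)))).X₂ =
          h0 k (CohB1.tensorPow L μ) :=
        h0_congr k ((tAssoc B N _).symm ≪≫ tIso e (Iso.refl _) ≪≫ lUnit _)
      have e2 : h0 k (S.map (twR (CohB1.tensorMod N (CohB1.tensorPow L μ)))).X₁ =
          h0 k (CohB1.tensorMod N (CohB1.tensorPow L μ)) := h0_congr k (lUnit _)
      have e3 : h0 k (S.map (twR (CohB1.tensorMod N (CohB1.tensorPow L μ)))).X₃ =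
          h0 k (CohB1.tensorMod (CohB1.tensorMod (cokernel s) N) (CohB1.tensorPow L μ)) :=
        h0_congr k (tAssoc (cokernel s) N _).symm
      rw [e1, e2, e3] at h1
      exact h1
    -- `L` is not big
    have hvan : ∀ μ : ℕ, h0 k (CohB1.tensorMod N (CohB1.tensorPow L μ)) = 0 := by
      intro μ
      by_contra hne
      have hpos : 0 < h0 k (CohB1.tensorMod N (CohB1.tensorPow L μ)) := Nat.pos_of_ne_zero hne
      obtain ⟨v, hv⟩ := Groth.Agent.Lib.R2H4VolBig.exists_section_of_h0_pos k _ hpos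
      have hTi : PicF.IsInvertible (CohB1.tensorMod N (CohB1.tensorPow L μ)) :=
        Groth.Agent.Lib.Helper23.SecTw.isInvertible_tensorMod hN
          (Groth.Agent.Lib.Helper23.SecTw.isInvertible_tensorPow hL μ)
      obtain ⟨ψ, hψ⟩ := Groth.Agent.Lib.R2H4VolBig.exists_mono_tensor_of_section B hB.1 _ hTi v hv
      haveI : Mono (ψ ≫ ((tAssoc B N _).symm ≪≫ tIso e (Iso.refl _) ≪≫ lUnit _).hom) :=
        mono_comp _ _
      have h1 := Groth.Agent.Lib.R2H4NefBigB.pos_of_mono k d hZ L hL hnef B hB μ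
        (ψ ≫ ((tAssoc B N _).symm ≪≫ tIso e (Iso.refl _) ≪≫ lUnit _).hom)
      rw [hzero] at h1
      exact lt_irrefl _ h1
    -- conclusion
    refine P_of_le k (m - 1) L (fun μ => ?_)
      (P_of_small_support k m d ih L H hL hnef hH hnt _ cF hdimF)
    have h1 := hineq μ
    rw [hvan μ, zero_add] at h1
    rw [h0_congr k (lUnit (CohB1.tensorPow L μ))]
    exact h1

end Induction

end Groth.Agent.Lib.R2H4NumDimB
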