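import Mathlib
import Groth.Prelude
import Groth.Agent.Lib.R2H4NumDimB
import Groth.Agent.Lib.R2H2DevE

/-!
# Numerical dimension bounds the Iitaka dimension: the statement (helper4, round 2)

* `dim_support_push_le` : `dim Supp i_* M ≤ dim V` for a closed immersion `i : V → X`;
* `numTrivial_of_intNum` : the hypothesis in terms of `FGA.intNum` and an inverse module;
* `not_growth` : if `L` is nef and `(L^m · V) = 0` for all integral closed `V` of dimension `m`,
  then `h⁰(L^(νμ))` does not grow like `μ^m`.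
-/

set_option autoImplicit false
set_option linter.style.haveILetI false
set_option linter.unusedSectionVars false
universe u
open CategoryTheory CategoryTheory.Limits AlgebraicGeometry TopologicalSpace Asymptotics

noncomputable section

namespace Groth.Agent.Lib.R2H4NumDimC

open Groth.Agent.Lib.R2H4NumPoly Groth.Agent.Lib.R2H4TensorPows Groth.Agent.Lib.R2H4Snapper
  Groth.Agent.Lib.R2H4SnapperCor Groth.Agent.Lib.R2H4SnapperRef Groth.Agent.Lib.R2H4MultiAdd
  Groth.Agent.Lib.R2H4AmplePos Groth.Agent.Lib.R2H4KleimanA Groth.Agent.Lib.R2H4KleimanB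
  Groth.Agent.Lib.R2H4KleimanC Groth.Agent.Lib.R2H4NefBigA Groth.Agent.Lib.R2H4H0Growth
  Groth.Agent.Lib.R2H1.DegCartier Groth.Agent.Lib.R2H4NumDimA Groth.Agent.Lib.R2H4NumDimB

section Supp

/-- `dim Supp i_* M ≤ dim V` for a closed immersion `i : V → X` -/
theorem dim_support_push_le {V X : Scheme.{u}} (i : V ⟶ X) [IsClosedImmersion i]
    (M : V.Modules) :
    topologicalKrullDim (CohB1.support ((Scheme.Modules.pushforward i).obj M)) ≤
      topologicalKrullDim V := by
  have h1 := dim_mono (Groth.Agent.Lib.R2H2.DevE.support_push_subset i M)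
  have h2 : topologicalKrullDim (Set.range ⇑i) = topologicalKrullDim V :=
    (IsHomeomorph.topologicalKrullDim_eq _
      (i.isClosedEmbedding.isEmbedding.toHomeomorph).isHomeomorph).symm
  rw [h2] at h1
  exact h1

end Supp

section Statement

variable (k : Type u) [Field k] {X : Scheme.{u}} [X.Over (Spec (CommRingCat.of k))]
  [IsProper (X ↘ Spec (CommRingCat.of k))]

/-- the hypothesis in terms of `FGA.intNum` and an inverse module -/
theorem numTrivial_of_intNum (n : ℕ) (hX : topologicalKrullDim X ≤ n) (L Linv : X.Modules)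
    (hL : PicF.IsInvertible L) (hLinv : PicF.IsInvertible Linv)
    (e : CohB1.tensorMod L Linv ≅ Coh.structureModule X) (m : ℕ)
    (hm : ∀ (V : Scheme.{u}) (i : V ⟶ X) [IsClosedImmersion i], IsIntegral V →
      topologicalKrullDim V = (m : ℕ) →
      FGA.intNum k X n (fun _ : Fin m => Linv)
        ((Scheme.Modules.pushforward i).obj (Coh.structureModule V)) = 0) :
    NumTrivial k X L m := by
  intro V j _ hV hdim
  haveI := hV
  haveI : IsNoetherian V := by
    haveI : IsLocallyNoetherian X := (Groth.Agent.Lib.R2H1.CurveEuler.isNoetherian_of_proper k X).1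
    haveI : IsLocallyNoetherian V := LocallyOfFiniteType.isLocallyNoetherian j
    haveI : CompactSpace X :=
      QuasiCompact.compactSpace_of_compactSpace (X ↘ Spec (CommRingCat.of k))
    haveI : CompactSpace V := QuasiCompact.compactSpace_of_compactSpace j
    exact {}
  have hO : Coh.IsCoh (Coh.structureModule V) :=
    Groth.Agent.Lib.R2H1.GenusLe.isCoh_structureModule V
  have cG : Coh.IsCoh ((Scheme.Modules.pushforward j).obj (Coh.structureModule V)) :=
    Groth.Agent.Lib.R2H2.ClosedPn.isCoh_push j _ hO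
  have hsupp : topologicalKrullDim (CohB1.support
      ((Scheme.Modules.pushforward j).obj (Coh.structureModule V))) ≤ ((m : ℕ) : WithBot ℕ∞) :=
    (dim_support_push_le j _).trans hdim.le
  have h1 := iN_eq_intNum k n hX (fun _ : Fin m => Linv)
    ((Scheme.Modules.pushforward j).obj (Coh.structureModule V))
  rw [hm V j hV hdim, iN_const_inv k L Linv hL hLinv e _ cG m hsupp] at h1
  have h2 : ((-1 : ℚ) ^ m) ≠ 0 := pow_ne_zero _ (by norm_num)
  simp only [Int.cast_zero, mul_zero] at h1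
  rcases mul_eq_zero.1 h1 with h | h
  · exact absurd h h2
  · exact h

end Statement

section Final

variable (k : Type u) [Field k] {X : Scheme.{u}} [X.Over (Spec (CommRingCat.of k))]
  [IsProper (X ↘ Spec (CommRingCat.of k))] [IsIntegral X]

/-- the case `m = 0` is contradictory -/
theorem false_of_numTrivial_zero (n : ℕ)
    (hX : topologicalKrullDim X = ((n : ℕ) : WithBot ℕ∞)) (L : X.Modules)
    (hL : PicF.IsInvertible L) (hnt : NumTrivial k X L 0) : False := by
  obtain ⟨ξ, hξ⟩ := exists_dim_closure_eq (T := X) n 0 hX (Nat.zero_le n)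
  letI : (zI ξ).subscheme.Over (Spec (CommRingCat.of k)) :=
    ⟨(zI ξ).subschemeι ≫ (X ↘ Spec (CommRingCat.of k))⟩
  haveI : IsProper ((zI ξ).subscheme ↘ Spec (CommRingCat.of k)) :=
    inferInstanceAs (IsProper ((zI ξ).subschemeι ≫ (X ↘ Spec (CommRingCat.of k))))
  haveI := isIntegral_zS ξ
  haveI := Groth.Agent.Lib.R2H1.CurveEuler.isNoetherian_of_proper k (zI ξ).subscheme
  have hdim : topologicalKrullDim (zI ξ).subscheme = ((0 : ℕ) : WithBot ℕ∞) :=
    (dim_zS ξ).trans hξ
  have hO : Coh.IsCoh (Coh.structureModule (zI ξ).subscheme) :=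
    Groth.Agent.Lib.R2H1.GenusLe.isCoh_structureModule _
  have h1 := hnt (zI ξ).subscheme (zI ξ).subschemeι (isIntegral_zS ξ) hdim
  rw [iN_push k (zI ξ).subschemeι rfl (fun _ : Fin 0 => L) (fun _ => hL) _ hO,
    iN_zero_slots] at h1
  have h2 := euler_structure_pos_of_dim_zero k (X := (zI ξ).subscheme) (by rw [hdim]; rfl)
  have h3 : (0 : ℚ) < (Curv2.euler k (zI ξ).subscheme (Coh.structureModule (zI ξ).subscheme) : ℚ) := by
    exact_mod_cast h2
  rw [h1] at h3
  exact lt_irrefl _ h3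

/-- **the numerical dimension bounds the Iitaka dimension** -/
theorem not_growth (n : ℕ) (hX : topologicalKrullDim X = ((n : ℕ) : WithBot ℕ∞))
    (L H : X.Modules) (hL : PicF.IsInvertible L) (hnef : Nef k X L) (hH : CohB1.IsAmple H)
    (m : ℕ) (hnt : NumTrivial k X L m) :
    ¬ ∃ ν a : ℕ, 0 < ν ∧ 0 < a ∧ ∀ μ : ℕ, 1 ≤ μ →
      μ ^ m ≤ a * h0 k (CohB1.tensorPow L (ν * μ)) := by
  rintro ⟨ν, a, hν, ha, hgrow⟩
  rcases Nat.eq_zero_or_pos m with hm0 | hmpos
  · subst hm0
    exact false_of_numTrivial_zero k n hX L hL hnt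
  · have hP := main_all k m hmpos n X hX L H hL hnef hH hnt
    obtain ⟨C, hC⟩ := hP.bound
    have htend : Filter.Tendsto (fun μ : ℕ => ν * μ) Filter.atTop Filter.atTop := by
      refine Filter.tendsto_atTop_atTop.2 fun b => ⟨b, fun μ hμ => ?_⟩
      calc b ≤ μ := hμ
        _ = 1 * μ := (one_mul μ).symm
        _ ≤ ν * μ := Nat.mul_le_mul_right μ hν
    have h1 := htend.eventually hC
    obtain ⟨μ₀, hμ₀⟩ := exists_nat_gt ((a : ℝ) * C * (ν : ℝ) ^ (m - 1))
    have h2 : ∀ᶠ μ : ℕ in Filter.atTop, max μ₀ 1 ≤ μ := Filter.eventually_ge_atTop _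
    obtain ⟨μ, hμ1, hμ2⟩ := (h1.and h2).exists
    have hμpos : 1 ≤ μ := (le_max_right _ _).trans hμ2
    have hμR : (0 : ℝ) < (μ : ℝ) := by exact_mod_cast hμpos
    have hμ0 : (a : ℝ) * C * (ν : ℝ) ^ (m - 1) < (μ : ℝ) :=
      lt_of_lt_of_le hμ₀ (by exact_mod_cast (le_max_left _ _).trans hμ2)
    have h3 := hgrow μ hμpos
    have h4 : ((μ ^ m : ℕ) : ℝ) ≤ ((a * h0 k (CohB1.tensorPow L (ν * μ)) : ℕ) : ℝ) := by
      exact_mod_cast h3
    push_cast at h4
    rw [Real.norm_natCast, Real.norm_of_nonneg (by positivity),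
      h0_congr k (lUnit (CohB1.tensorPow L (ν * μ)))] at hμ1
    have haR : (0 : ℝ) ≤ (a : ℝ) := Nat.cast_nonneg a
    have h5 : (μ : ℝ) ^ m ≤ (a : ℝ) * (C * ((ν * μ : ℕ) : ℝ) ^ (m - 1)) :=
      h4.trans (mul_le_mul_of_nonneg_left hμ1 haR)
    have h6 : (μ : ℝ) ^ m = (μ : ℝ) ^ (m - 1) * (μ : ℝ) := by
      rw [← pow_succ]
      congr 1
      omega
    have h7 : (a : ℝ) * (C * ((ν * μ : ℕ) : ℝ) ^ (m - 1)) =
        (μ : ℝ) ^ (m - 1) * ((a : ℝ) * C * (ν : ℝ) ^ (m - 1)) := by
      push_cast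
      rw [mul_pow]
      ring
    rw [h6, h7] at h5
    have h8 : (μ : ℝ) ≤ (a : ℝ) * C * (ν : ℝ) ^ (m - 1) :=
      le_of_mul_le_mul_left h5 (pow_pos hμR _)
    exact lt_irrefl _ (lt_of_lt_of_le hμ0 h8)

end Final

end Groth.Agent.Lib.R2H4NumDimC
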