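import Mathlib
import Groth.Prelude
import Groth.Agent.Lib.R2H4HiGrowth
import Groth.Agent.Lib.R2H4HhatLim
import Groth.Agent.Lib.R2H4HhatSES
import Groth.Agent.Lib.Helper23GG
import Groth.Agent.Lib.Helper23PB
import Groth.Agent.Lib.Helper23AmpleIso
import Groth.Agent.Lib.Helper23SecTw9
import Groth.Agent.Lib.Helper8Conn

/-!
# Growth of `hⁱ(F ⊗ (g^*L)^m)` along a morphism (helper4, round 2)

For `g : Z ⟶ W` with `Z` proper over a field `k`, `W` carrying an ample invertible module, `L`
invertible on `W` and `F` coherent on `Z` such that the closure of `g(Supp F)` has dimension `< d`: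
`hⁱ(Z, F ⊗ (g^*L)^m) (m + 1) ≤ C (m + 1)^d` (`main`).  In particular for `Z` integral and
`dim closure g(Z) = d`: `hⁱ(Z, (g^*L)^m) ≤ C (m + 1)^d` (`main_structure`).
-/

set_option autoImplicit false
set_option linter.style.haveILetI false
set_option linter.unusedSectionVars false
universe u
open CategoryTheory CategoryTheory.Limits AlgebraicGeometry TopologicalSpace

noncomputable section

namespace Groth.Agent.Lib.R2H4RelGrowth

open Groth.Agent.Lib.R2H4HiGrowth Groth.Agent.Lib.R2H2.HHLin Groth.Agent.Lib.R2H2.PnSerre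
  Groth.Agent.Lib.R2H2.StalkPow Groth.Agent.Lib.R2H4TensorPows
  Groth.Agent.Lib.R2H4SnapperRef Groth.Agent.Lib.R2H4SnapperCor

section Congr

variable (k : Type u) [Field k] {X : Scheme.{u}} [X.Over (Spec (CommRingCat.of k))]
  [IsProper (X ↘ (Spec (CommRingCat.of k)))]

/-- `Bs` depends on `L` only up to isomorphism -/
theorem Bs_congr_L (d : ℕ) {L L' : X.Modules} (e : L ≅ L') {F : X.Modules}
    (h : Bs k d L' F) : Bs k d L F := by
  intro i
  obtain ⟨C, hC⟩ := h i
  refine ⟨C, fun m => ?_⟩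
  rw [hi_congr k (tIso (Iso.refl F) (Groth.Agent.Lib.Helper23.AmpleIso.tensorPowIso e m)) i]
  exact hC m

end Congr

section Supp

variable {X : Scheme.{u}}

/-- the cokernel of a section vanishes on the locus where the section generates -/
theorem support_cokernel_disjoint_genLocus (B : X.Modules) (s : Coh.structureModule X ⟶ B)
    (x : X) (hx : x ∈ CohB1.support (cokernel s)) : x ∉ CohB1.genLocus B s := by
  intro hmem
  unfold CohB1.genLocus at hmem
  rw [Opens.mem_sSup] at hmem
  obtain ⟨U, hU, hxU⟩ := hmem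
  exact (Groth.Agent.Lib.R2H4Snapper.support_cokernel_subset s U hU hx).2 hxU

end Supp

section Dev

variable (k : Type u) [Field k]

/-- the statement of the induction: on an integral `Z` with `dim closure g(Z) = d`,
`hⁱ(Z, (g^*L)^m) = O(m^d)` -/
def MainRel (d : ℕ) : Prop :=
  ∀ (Z W : Scheme.{u}) [Z.Over (Spec (CommRingCat.of k))]
    [IsProper (Z ↘ Spec (CommRingCat.of k))] [IsIntegral Z] (g : Z ⟶ W),
    topologicalKrullDim (closure (Set.range g.base)) = ((d : ℕ) : WithBot ℕ∞) →
    ∀ (L H : W.Modules), PicF.IsInvertible L → CohB1.IsAmple H →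
      Bd k d ((Scheme.Modules.pullback g).obj L) (Coh.structureModule Z)

/-- dévissage: modules whose support has image of dimension `< d` have growth of order `< d` -/
theorem Bs_of_small_image (d : ℕ) (ih : ∀ d' : ℕ, d' < d → MainRel k d')
    {Z W : Scheme.{u}} [Z.Over (Spec (CommRingCat.of k))]
    [IsProper (Z ↘ Spec (CommRingCat.of k))] (g : Z ⟶ W) (L H : W.Modules)
    (hL : PicF.IsInvertible L) (hH : CohB1.IsAmple H) (F : Z.Modules) (hF : Coh.IsCoh F)
    (hdim : topologicalKrullDim (closure (g.base '' CohB1.support F)) < ((d : ℕ) : WithBot ℕ∞)) :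
    Bs k d ((Scheme.Modules.pullback g).obj L) F := by
  classical
  have := Groth.Agent.Lib.R2H1.CurveEuler.isNoetherian_of_proper k Z
  have hcl : IsClosed (CohB1.support F) := Groth.Agent.S0020.result Z F hF.2
  have hM : PicF.IsInvertible ((Scheme.Modules.pullback g).obj L) :=
    Groth.Agent.Lib.Helper23.PB.isInvertible_pullback g L hL
  refine Groth.Agent.Lib.R2H2.DevC.devissage
    (fun G => Bs k d ((Scheme.Modules.pullback g).obj L) G)
    (fun M hM => Bs_zero k d _ M hM) (CohB1.support F) hcl (fun s => s = 1) ?_ ?_ ?_ F hF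
    subset_rfl
  · intro S hS c₁ c₂ c₃ _
    exact Bs_two_of_three k hM S hS c₁ c₂ c₃
  · intro G s _ hs hp
    subst hs
    exact Bs_of_iso k d _ (powOneIso G).symm hp
  · intro Z' hZ' hirr hZF y hy
    haveI := isIntegral_zS y
    refine ⟨ClSub.quotMod (zI y), isCoh_quotMod k (zI y), ?_, hy ▸ support_quotMod_zI y, ?_⟩
    · -- the bound on the integral closed subscheme
      let i := (zI y).subschemeι
      letI : (zI y).subscheme.Over (Spec (CommRingCat.of k)) :=
        ⟨i ≫ (Z ↘ Spec (CommRingCat.of k))⟩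
      have hg : i ≫ (Z ↘ Spec (CommRingCat.of k)) =
          (zI y).subscheme ↘ Spec (CommRingCat.of k) := rfl
      haveI : IsProper ((zI y).subscheme ↘ Spec (CommRingCat.of k)) := by
        rw [← hg]
        infer_instance
      haveI : IsNoetherian (zI y).subscheme :=
        Groth.Agent.Lib.R2H1.CurveEuler.isNoetherian_of_proper k _
      have hO : Coh.IsCoh (Coh.structureModule (zI y).subscheme) :=
        Groth.Agent.Lib.R2H1.GenusLe.isCoh_structureModule _
      -- the image of the subscheme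
      have hrange : Set.range (i ≫ g).base ⊆ g.base '' CohB1.support F := by
        rintro _ ⟨w, rfl⟩
        refine ⟨i.base w, hZF ?_, rfl⟩
        rw [← hy, ← range_zι y]
        exact Set.mem_range_self w
      have hdW : topologicalKrullDim (closure (Set.range (i ≫ g).base)) <
          ((d : ℕ) : WithBot ℕ∞) :=
        lt_of_le_of_lt (Groth.Agent.Lib.Helper8.Conn.dim_mono (closure_mono hrange)) hdim
      haveI : Nonempty (closure (Set.range (i ≫ g).base)) := by
        obtain ⟨w⟩ : Nonempty (zI y).subscheme := inferInstance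
        exact ⟨⟨(i ≫ g).base w, subset_closure (Set.mem_range_self w)⟩⟩
      obtain ⟨d', hd'lt, hd'⟩ := Groth.Agent.Lib.R2H4KleimanB.exists_nat_dim_eq d hdW
      have hB0 : Bs k d ((Scheme.Modules.pullback (i ≫ g)).obj L)
          (Coh.structureModule (zI y).subscheme) :=
        Bs_of_le k _ (Nat.succ_le_of_lt hd'lt)
          (Bs_succ_of_Bd k d' _ (ih d' hd'lt _ W (i ≫ g) hd' L H hL hH))
      have hB : Bs k d ((Scheme.Modules.pullback i).obj ((Scheme.Modules.pullback g).obj L))
          (Coh.structureModule (zI y).subscheme) :=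
        Bs_congr_L k d ((Scheme.Modules.pullbackComp i g).app L) hB0
      intro j
      obtain ⟨C, hC⟩ := hB j
      refine ⟨C, fun m => ?_⟩
      rw [hi_push_twist k i hg _ hM _ hO m j]
      exact hC m
    · intro N _ _ _ hk
      have hgp := zι_genericPoint y
      obtain ⟨eN⟩ := Groth.Agent.Lib.R2H2.DevI.nonempty_stalk_pushO_equiv' (zI y).subschemeι
      rw [hgp] at eN
      obtain ⟨r', ⟨e⟩⟩ := Groth.Agent.Lib.R2H2.ResField.exists_equiv_pow_one N _ hk eN
      exact ⟨r', 1, rfl, ⟨LinearEquiv.funUnique (Fin 1) _ N ≪≫ₗ e⟩⟩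

end Dev

section Induction

variable (k : Type u) [Field k]

/-- the closure of the image of an irreducible scheme is the closure of the image of the generic
point -/
theorem closure_range_eq {Z W : Scheme.{u}} [IrreducibleSpace Z] (g : Z ⟶ W) :
    closure (Set.range g.base) = closure ({g.base (genericPoint Z)} : Set W) := by
  apply subset_antisymm
  · apply closure_minimal _ isClosed_closure
    rintro _ ⟨z, rfl⟩
    have hz : z ∈ closure ({genericPoint Z} : Set Z) := by
      rw [genericPoint_spec Z]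
      exact Set.mem_univ z
    have h1 := image_closure_subset_closure_image g.base.hom.continuous
      (Set.mem_image_of_mem g.base hz)
    rwa [Set.image_singleton] at h1
  · exact closure_mono (Set.singleton_subset_iff.2 (Set.mem_range_self _))

/-- **the induction**: `hⁱ(Z, (g^*L)^m) = O(m^d)` for `d = dim closure g(Z)` -/
theorem mainRel_all : ∀ d : ℕ, MainRel k d := by
  intro d
  induction d using Nat.strong_induction_on with
  | _ d ih =>
  intro Z W _ _ _ g hZ L H hL hH
  haveI := Groth.Agent.Lib.R2H1.CurveEuler.isNoetherian_of_proper k Z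
  haveI := hH.2.1
  obtain ⟨w, hw⟩ : ∃ w : W, w = g.base (genericPoint Z) := ⟨_, rfl⟩
  have hcw : closure (Set.range g.base) = closure ({w} : Set W) := by
    rw [hw]; exact closure_range_eq g
  -- sections on `W` generating at `w`
  have hOW : PicF.IsInvertible (Coh.structureModule W) :=
    Groth.Agent.Lib.Helper23.TensorUnit.isInvertible_structureModule W
  haveI : (Coh.structureModule W).IsQuasicoherent :=
    Groth.Agent.Lib.Helper23.SecTw.isQuasicoherent_of_isInvertible _ hOW
  haveI : SheafOfModules.IsFiniteType (R := W.ringCatSheaf) (Coh.structureModule W) :=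
    Groth.Agent.Lib.R2H2.PnFinite.isFiniteType_of_isInvertible _ hOW
  haveI : L.IsQuasicoherent :=
    Groth.Agent.Lib.Helper23.SecTw.isQuasicoherent_of_isInvertible _ hL
  haveI : SheafOfModules.IsFiniteType (R := W.ringCatSheaf) L :=
    Groth.Agent.Lib.R2H2.PnFinite.isFiniteType_of_isInvertible _ hL
  obtain ⟨n₁, hn₁⟩ := Groth.Agent.Lib.Helper23.LocGen.isGloballyGenerated_twist_eventually H hH
    (Coh.structureModule W)
  obtain ⟨n₂, hn₂⟩ := Groth.Agent.Lib.Helper23.LocGen.isGloballyGenerated_twist_eventually H hH L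
  obtain ⟨a, ha⟩ : ∃ a, a = max n₁ n₂ := ⟨_, rfl⟩
  have hHa : PicF.IsInvertible (CohB1.tensorPow H a) :=
    Groth.Agent.Lib.Helper23.SecTw.isInvertible_tensorPow hH.1 a
  obtain ⟨B₁, hB₁def⟩ : ∃ B₁, B₁ = CohB1.tensorMod (Coh.structureModule W) (CohB1.tensorPow H a) :=
    ⟨_, rfl⟩
  obtain ⟨B₂, hB₂def⟩ : ∃ B₂, B₂ = CohB1.tensorMod L (CohB1.tensorPow H a) := ⟨_, rfl⟩
  have hB₁ : PicF.IsInvertible B₁ := by
    rw [hB₁def]; exact Groth.Agent.Lib.Helper23.SecTw.isInvertible_tensorMod hOW hHa
  have hB₂ : PicF.IsInvertible B₂ := by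
    rw [hB₂def]; exact Groth.Agent.Lib.Helper23.SecTw.isInvertible_tensorMod hL hHa
  have hgg₁ : Curv2.IsGloballyGenerated B₁ := by
    rw [hB₁def]; exact hn₁ a (ha ▸ le_max_left _ _)
  have hgg₂ : Curv2.IsGloballyGenerated B₂ := by
    rw [hB₂def]; exact hn₂ a (ha ▸ le_max_right _ _)
  have eB : B₂ ≅ CohB1.tensorMod B₁ L := by
    rw [hB₁def, hB₂def]
    exact tComm _ _ ≪≫ tIso (lUnit _).symm (Iso.refl L)
  obtain ⟨s₀, hs₀⟩ := Groth.Agent.Lib.Helper23.GG.exists_section_mem_genLocus B₁ hB₁ hgg₁ w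
  obtain ⟨t₀, ht₀⟩ := Groth.Agent.Lib.Helper23.GG.exists_section_mem_genLocus B₂ hB₂ hgg₂ w
  -- pull back to `Z`
  obtain ⟨M, hMdef⟩ : ∃ M, M = (Scheme.Modules.pullback g).obj L := ⟨_, rfl⟩
  rw [← hMdef]
  have hM : PicF.IsInvertible M := by
    rw [hMdef]; exact Groth.Agent.Lib.Helper23.PB.isInvertible_pullback g L hL
  obtain ⟨A₁, hA₁def⟩ : ∃ A₁, A₁ = (Scheme.Modules.pullback g).obj B₁ := ⟨_, rfl⟩
  obtain ⟨A₂, hA₂def⟩ : ∃ A₂, A₂ = (Scheme.Modules.pullback g).obj B₂ := ⟨_, rfl⟩
  have hA₁ : PicF.IsInvertible A₁ := by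
    rw [hA₁def]; exact Groth.Agent.Lib.Helper23.PB.isInvertible_pullback g _ hB₁
  have hA₂ : PicF.IsInvertible A₂ := by
    rw [hA₂def]; exact Groth.Agent.Lib.Helper23.PB.isInvertible_pullback g _ hB₂
  have eA : A₂ ≅ CohB1.tensorMod A₁ M := by
    rw [hA₁def, hA₂def, hMdef]
    exact (Scheme.Modules.pullback g).mapIso eB ≪≫
      Groth.Agent.Lib.Helper23.RestrTensor.pullbackTensorIso B₁ L g
  obtain ⟨s, hsdef⟩ : ∃ s : Coh.structureModule Z ⟶ A₁,
      CohB1.genLocus A₁ s = g ⁻¹ᵁ CohB1.genLocus B₁ s₀ := by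
    rw [hA₁def]
    exact ⟨_, Groth.Agent.Lib.Helper23.PB.genLocus_pullback g B₁ hB₁ s₀
      (Groth.Agent.Lib.Helper23.PB.pullbackUnitIso g).symm⟩
  obtain ⟨t, htdef⟩ : ∃ t : Coh.structureModule Z ⟶ A₂,
      CohB1.genLocus A₂ t = g ⁻¹ᵁ CohB1.genLocus B₂ t₀ := by
    rw [hA₂def]
    exact ⟨_, Groth.Agent.Lib.Helper23.PB.genLocus_pullback g B₂ hB₂ t₀
      (Groth.Agent.Lib.Helper23.PB.pullbackUnitIso g).symm⟩
  have hηs : genericPoint Z ∈ CohB1.genLocus A₁ s := by
    rw [hsdef]
    change g.base (genericPoint Z) ∈ CohB1.genLocus B₁ s₀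
    rw [← hw]; exact hs₀
  have hηt : genericPoint Z ∈ CohB1.genLocus A₂ t := by
    rw [htdef]
    change g.base (genericPoint Z) ∈ CohB1.genLocus B₂ t₀
    rw [← hw]; exact ht₀
  have hs : s ≠ 0 := by
    intro h0
    rw [h0, Groth.Agent.Lib.Helper23.SecTw.genLocus_zero A₁ hA₁] at hηs
    exact hηs
  have ht : t ≠ 0 := by
    intro h0
    rw [h0, Groth.Agent.Lib.Helper23.SecTw.genLocus_zero A₂ hA₂] at hηt
    exact hηt
  have hO : PicF.IsInvertible (Coh.structureModule Z) :=
    Groth.Agent.Lib.Helper23.TensorUnit.isInvertible_structureModule Z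
  have cO : Coh.IsCoh (Coh.structureModule Z) :=
    Groth.Agent.Lib.R2H1.GenusLe.isCoh_structureModule Z
  have cA₁ : Coh.IsCoh A₁ := Groth.Agent.Lib.R2H4VolBasic.isCoh_of_isInvertible A₁ hA₁
  have cA₂ : Coh.IsCoh A₂ := Groth.Agent.Lib.R2H4VolBasic.isCoh_of_isInvertible A₂ hA₂
  have cQs : Coh.IsCoh (cokernel s) := Groth.Agent.Lib.R2H2.NilFilt.isCoh_cokernel cO cA₁ s
  have cQt : Coh.IsCoh (cokernel t) := Groth.Agent.Lib.R2H2.NilFilt.isCoh_cokernel cO cA₂ t
  haveI : Mono s := Groth.Agent.Lib.R2H1.InvHom.mono_of_ne_zero hO hA₁ s hs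
  haveI : Mono t := Groth.Agent.Lib.R2H1.InvHom.mono_of_ne_zero hO hA₂ t ht
  let Ss : ShortComplex Z.Modules := ShortComplex.mk s (cokernel.π s) (cokernel.condition s)
  have hSs : Ss.ShortExact :=
    { exact := ShortComplex.exact_cokernel s
      mono_f := by dsimp [Ss]; infer_instance
      epi_g := by dsimp [Ss]; infer_instance }
  let St : ShortComplex Z.Modules := ShortComplex.mk t (cokernel.π t) (cokernel.condition t)
  have hSt : St.ShortExact :=
    { exact := ShortComplex.exact_cokernel t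
      mono_f := by dsimp [St]; infer_instance
      epi_g := by dsimp [St]; infer_instance }
  -- the images of the supports of the cokernels are small
  have hfin : topologicalKrullDim (closure ({w} : Set W)) < ⊤ := by
    rw [← hcw, hZ]
    exact WithBot.coe_lt_coe.2 (ENat.coe_lt_top d)
  have himg : ∀ (A : Z.Modules) (σ : Coh.structureModule Z ⟶ A) (B : W.Modules)
      (σ₀ : Coh.structureModule W ⟶ B), CohB1.genLocus A σ = g ⁻¹ᵁ CohB1.genLocus B σ₀ →
      w ∈ CohB1.genLocus B σ₀ →
      topologicalKrullDim (closure (g.base '' CohB1.support (cokernel σ))) <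
        ((d : ℕ) : WithBot ℕ∞) := by
    intro A σ B σ₀ hσ hwσ
    have hsub : closure (g.base '' CohB1.support (cokernel σ)) ⊆
        closure ({w} : Set W) \ (CohB1.genLocus B σ₀ : Set W) := by
      apply closure_minimal
      · rintro _ ⟨z, hz, rfl⟩
        refine ⟨?_, ?_⟩
        · rw [← hcw]
          exact subset_closure (Set.mem_range_self z)
        · intro hmem
          apply support_cokernel_disjoint_genLocus A σ z hz
          rw [hσ]
          exact hmem
      · exact isClosed_closure.sdiff (CohB1.genLocus B σ₀).2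
    have hne : closure ({w} : Set W) \ (CohB1.genLocus B σ₀ : Set W) ≠ closure ({w} : Set W) := by
      intro heq
      have h1 : w ∈ closure ({w} : Set W) \ (CohB1.genLocus B σ₀ : Set W) := by
        rw [heq]; exact subset_closure rfl
      exact h1.2 hwσ
    have h1 := Groth.Agent.Lib.Helper8.Conn.dim_lt_of_proper_closed
      (isIrreducible_singleton.closure) (isClosed_closure.sdiff (CohB1.genLocus B σ₀).2)
      Set.diff_subset hne hfin
    have h2 : topologicalKrullDim (closure ({w} : Set W)) = ((d : ℕ) : WithBot ℕ∞) := by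
      rw [← hcw]; exact hZ
    rw [h2] at h1
    exact lt_of_le_of_lt (Groth.Agent.Lib.Helper8.Conn.dim_mono hsub) h1
  have hQs : Bs k d M (cokernel s) := by
    rw [hMdef]
    exact Bs_of_small_image k d ih g L H hL hH _ cQs (himg A₁ s B₁ s₀ hsdef hs₀)
  have hQt : Bs k d M (cokernel t) := by
    rw [hMdef]
    exact Bs_of_small_image k d ih g L H hL hH _ cQt (himg A₂ t B₂ t₀ htdef ht₀)
  intro i
  obtain ⟨C₁, hC₁⟩ := hQt i
  obtain ⟨C₂, hC₂⟩ := hQs (i - 1)
  have hE := fun m => Groth.Agent.Lib.Helper23.SecTw.isInvertible_tensorPow hM m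
  -- the recursion
  have hrec : ∀ m : ℕ, hi k (CohB1.tensorMod (Coh.structureModule Z) (CohB1.tensorPow M (m + 1))) i ≤
      hi k (CohB1.tensorMod (Coh.structureModule Z) (CohB1.tensorPow M m)) i +
        (hi k (CohB1.tensorMod (cokernel t) (CohB1.tensorPow M m)) i +
          (if i = 0 then 0 else
            hi k (CohB1.tensorMod (cokernel s) (CohB1.tensorPow M (m + 1))) (i - 1))) := by
    intro m
    have h1 := hiT_left_le k _ (hE (m + 1)) Ss hSs cO cA₁ cQs i
    have h2 := hiT_mid_le k _ (hE m) St hSt cO cA₂ cQt i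
    have e : CohB1.tensorMod A₂ (CohB1.tensorPow M m) ≅
        CohB1.tensorMod A₁ (CohB1.tensorPow M (m + 1)) :=
      tIso eA (Iso.refl _) ≪≫ tAssoc A₁ M (CohB1.tensorPow M m) ≪≫
        tIso (Iso.refl A₁) (tComm M (CohB1.tensorPow M m))
    have h3 := hi_congr k e i
    change hi k (CohB1.tensorMod (Coh.structureModule Z) (CohB1.tensorPow M (m + 1))) i ≤
      (if i = 0 then 0 else
        hi k (CohB1.tensorMod (cokernel s) (CohB1.tensorPow M (m + 1))) (i - 1)) +
        hi k (CohB1.tensorMod A₁ (CohB1.tensorPow M (m + 1))) i at h1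
    change hi k (CohB1.tensorMod A₂ (CohB1.tensorPow M m)) i ≤
      hi k (CohB1.tensorMod (Coh.structureModule Z) (CohB1.tensorPow M m)) i +
        hi k (CohB1.tensorMod (cokernel t) (CohB1.tensorPow M m)) i at h2
    omega
  refine growth_of_rec d _ _ (C₁ + C₂ * 2 ^ d) hrec fun m => ?_
  rw [add_mul, add_mul]
  refine Nat.add_le_add (hC₁ m) ?_
  split_ifs with h0
  · simp
  · have h1 := hC₂ (m + 1)
    have h2 : (m + 1 + 1) ^ d ≤ 2 ^ d * (m + 1) ^ d := by
      rw [← mul_pow]
      exact Nat.pow_le_pow_left (by omega) d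
    calc hi k (CohB1.tensorMod (cokernel s) (CohB1.tensorPow M (m + 1))) (i - 1) * (m + 1)
        ≤ hi k (CohB1.tensorMod (cokernel s) (CohB1.tensorPow M (m + 1))) (i - 1) * (m + 1 + 1) :=
          Nat.mul_le_mul_left _ (Nat.le_succ _)
      _ ≤ C₂ * (m + 1 + 1) ^ d := h1
      _ ≤ C₂ * (2 ^ d * (m + 1) ^ d) := Nat.mul_le_mul_left _ h2
      _ = C₂ * 2 ^ d * (m + 1) ^ d := by ring

end Induction

section Final

open Groth.Agent.Lib.R2H4HhatLim Filter Topology

variable (k : Type u) [Field k] {Z W : Scheme.{u}} [Z.Over (Spec (CommRingCat.of k))]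
  [IsProper (Z ↘ Spec (CommRingCat.of k))]

/-- **Growth along a morphism, small image**: `hⁱ(Z, F ⊗ (g^*L)^m) (m + 1) ≤ C (m + 1)^d` when
the closure of `g(Supp F)` has dimension `< d`. -/
theorem main (g : Z ⟶ W) (L H : W.Modules) (hL : PicF.IsInvertible L) (hH : CohB1.IsAmple H)
    (F : Z.Modules) (hF : Coh.IsCoh F) (d : ℕ)
    (hdim : topologicalKrullDim (closure (g.base '' CohB1.support F)) < ((d : ℕ) : WithBot ℕ∞)) :
    Bs k d ((Scheme.Modules.pullback g).obj L) F :=
  Bs_of_small_image k d (fun d' _ => mainRel_all k d') g L H hL hH F hF hdim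

/-- **Growth along a morphism**: `hⁱ(Z, (g^*L)^m) ≤ C (m + 1)^d` for `Z` integral and
`d = dim closure g(Z)`. -/
theorem main_structure [IsIntegral Z] (g : Z ⟶ W) (d : ℕ)
    (hd : topologicalKrullDim (closure (Set.range g.base)) = ((d : ℕ) : WithBot ℕ∞))
    (L H : W.Modules) (hL : PicF.IsInvertible L) (hH : CohB1.IsAmple H) :
    Bd k d ((Scheme.Modules.pullback g).obj L) (Coh.structureModule Z) :=
  mainRel_all k d Z W g hd L H hL hH

/-- **the asymptotic cohomological functions of a pullback vanish when the image is smaller** -/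
theorem hhat_pullback_eq_zero [IsIntegral Z] (g : Z ⟶ W) (n e : ℕ)
    (hd : topologicalKrullDim (closure (Set.range g.base)) = ((n : ℕ) : WithBot ℕ∞))
    (hne : n < e) (L H : W.Modules) (hL : PicF.IsInvertible L) (hH : CohB1.IsAmple H) (i : ℕ) :
    W4c5asymptcohfn.hhat k Z e i ((Scheme.Modules.pullback g).obj L) = 0 := by
  obtain ⟨C, hC⟩ := main_structure k g n hd L H hL hH i
  change limsup (nseq e fun m =>
    hi k (CohB1.tensorPow ((Scheme.Modules.pullback g).obj L) m) i) atTop = 0
  refine Tendsto.limsup_eq (tendsto_nseq_zero e _ C fun m => ?_)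
  have h1 := hC m
  rw [hi_congr k (lUnit (CohB1.tensorPow ((Scheme.Modules.pullback g).obj L) m)) i] at h1
  calc hi k (CohB1.tensorPow ((Scheme.Modules.pullback g).obj L) m) i * (m + 1)
      ≤ C * (m + 1) ^ n * (m + 1) := Nat.mul_le_mul_right _ h1
    _ = C * (m + 1) ^ (n + 1) := by rw [_root_.pow_succ, mul_assoc]
    _ ≤ C * (m + 1) ^ e :=
        Nat.mul_le_mul_left _ (Nat.pow_le_pow_right (Nat.succ_pos m) hne)

end Final

end Groth.Agent.Lib.R2H4RelGrowth
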