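import Mathlib
import Groth.Prelude
import Groth.Agent.Lib.R2H4NumDimC
import Groth.Agent.Lib.Helper23SecTw6
import Groth.Agent.Lib.Helper23SecTw9
import Groth.Agent.Lib.Helper23Restr
import Groth.Agent.Lib.Helper23GG
import Groth.Agent.Lib.R2H2PnBeilinson
import Groth.Agent.Lib.R2H4RelGrowth
import Groth.Agent.Lib.R2H4VolBig
import Groth.Agent.Lib.R2H1NefPull
import Groth.Agent.Lib.R2H4NumEqPull
import Groth.Agent.Lib.R2H1CurveDegSec
import Groth.Agent.Lib.R2H1CurveAmple

/-!
# Semi-ample invertible modules: numerical dimension = Iitaka dimension (helper4)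

`X` proper over a field `k`.

* `Van k F hF ζ` : the `k`-subspace of sections of an invertible `F` vanishing at `ζ` (not generating
  at `ζ`); `rk k F hF ζ` its codimension = rank of the restriction of sections to `closure ζ`.
* `mulS`, `rk_add_le` : `r(F, ζ) + r(F ⊗ M, ζ') ≤ r(F ⊗ M, ζ)` for a section of `M` non-vanishing at
  `ζ` and vanishing at the specialization `ζ'`; `rk_pos`, `rk_le`.
* `subsingleton_stalk_push`, `support_push_subset_image` : `Supp i_* M ⊆ i(Supp M)`.
* `exists_point_of_iN_ne_zero` : descending one dimension with a nonzero intersection number.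
* `claim` : `(L^m · closure ζ) ≠ 0`, `L^μ₀` globally generated ⟹ `r((L^μ₀)^μ, ζ) ≥ μ^m / a`.
* `nef_of_semiAmple` : semi-ample ⟹ nef.
* `growth_of_intNum_ne_zero`.
-/

set_option autoImplicit false
set_option linter.style.haveILetI false
set_option linter.unusedSectionVars false
universe u
open CategoryTheory CategoryTheory.Limits AlgebraicGeometry TopologicalSpace

noncomputable section

namespace Groth.Agent.Lib.R2H4SemiAmpleKappa

open Groth.Agent.Lib.Helper23.SecTw Groth.Agent.Lib.Helper23.GenLocus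

section Van

variable (k : Type u) [Field k] {X : Scheme.{u}} [X.Over (Spec (CommRingCat.of k))]

/-- the image of a scalar in the functions over an open -/
def strV (V : X.Opens) (c : k) : Γ(X, V) :=
  X.presheaf.map (homOfLE (le_top : V ≤ ⊤)).op (Coh.toGlobal (X ↘ Spec (CommRingCat.of k)) c)

theorem sv_smul_k {M : X.Modules} (a : k) (σ : Coh.structureModule X ⟶ M) (V : X.Opens) :
    sv (a • σ) V = strV k V a • sv σ V := by
  rw [Groth.Agent.Lib.R2H2.PnBeilinson.smul_eq_comp_smulMod, Groth.Agent.Lib.Helper23.SecTw.sv_comp]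
  unfold Formal.smulMod
  rw [KLin.smulModΓ_app_apply]
  rfl

theorem genLocus_smul_le (L : X.Modules) (hL : PicF.IsInvertible L) (a : k)
    (σ : Coh.structureModule X ⟶ L) :
    CohB1.genLocus L (a • σ) ≤ CohB1.genLocus L σ := by
  intro x hx
  obtain ⟨W, e, hxW, he⟩ := exists_gen L hL x
  have h1 : sv (a • σ) W = (strV k W a * coef he le_rfl (sv σ W)) • e := by
    rw [sv_smul_k, mul_smul, ← sv_eq_coef_smul σ he]
  have h2 := genLocus_inf_eq_of_isGen L _ W e _ he h1
  have h3 : x ∈ CohB1.genLocus L (a • σ) ⊓ W := ⟨hx, hxW⟩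
  rw [h2, Scheme.basicOpen_mul] at h3
  have h4 : x ∈ X.basicOpen (coef he le_rfl (sv σ W)) := h3.2
  rw [← genLocus_inf_eq_coef σ he] at h4
  exact h4.1

/-- the sections of an invertible module vanishing at a point -/
def Van (F : X.Modules) (hF : PicF.IsInvertible F) (ζ : X) :
    Submodule k (Coh.structureModule X ⟶ F) where
  carrier := {σ | ζ ∉ CohB1.genLocus F σ}
  zero_mem' := by
    rw [Set.mem_setOf_eq, genLocus_zero F hF]
    exact fun h => h
  add_mem' := by
    intro a b ha hb h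
    rcases genLocus_add_le F hF a b h with h1 | h1
    · exact ha h1
    · exact hb h1
  smul_mem' := by
    intro c σ hσ h
    exact hσ (genLocus_smul_le k F hF c σ h)

theorem mem_Van (F : X.Modules) (hF : PicF.IsInvertible F) (ζ : X)
    (σ : Coh.structureModule X ⟶ F) : σ ∈ Van k F hF ζ ↔ ζ ∉ CohB1.genLocus F σ := Iff.rfl

/-- vanishing at a point implies vanishing at its specializations -/
theorem Van_mono (F : X.Modules) (hF : PicF.IsInvertible F) {ζ ζ' : X} (h : ζ ⤳ ζ') :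
    Van k F hF ζ ≤ Van k F hF ζ' := by
  intro σ hσ hmem
  exact hσ (h.mem_open (CohB1.genLocus F σ).2 hmem)

/-- the rank of the evaluation of sections at (the closure of) a point -/
def rk (F : X.Modules) (hF : PicF.IsInvertible F) (ζ : X) : ℕ :=
  Module.finrank k ((Coh.structureModule X ⟶ F) ⧸ Van k F hF ζ)

/-- multiplication by a section, as a linear map -/
def mulS (F : X.Modules) {M : X.Modules} (s₀ : Coh.structureModule X ⟶ M) :
    (Coh.structureModule X ⟶ F) →ₗ[k] (Coh.structureModule X ⟶ CohB1.tensorMod F M) where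
  toFun t := SecTwist.tmulHom t s₀
  map_add' a b := by
    apply Groth.Agent.Lib.Helper23.SecTw.hom_ext_of_sv
    rw [sv_add, sv_tmulHom, sv_tmulHom, sv_tmulHom, sv_add, tm_add_left]
  map_smul' c a := by
    apply Groth.Agent.Lib.Helper23.SecTw.hom_ext_of_sv
    rw [RingHom.id_apply, sv_smul_k, sv_tmulHom, sv_tmulHom, sv_smul_k, tm_smul_left]

theorem mulS_apply (F : X.Modules) {M : X.Modules} (s₀ : Coh.structureModule X ⟶ M)
    (t : Coh.structureModule X ⟶ F) : mulS k F s₀ t = SecTwist.tmulHom t s₀ := rfl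

end Van

section Rank

variable (k : Type u) [Field k] {X : Scheme.{u}} [X.Over (Spec (CommRingCat.of k))]

theorem mulS_mem_Van_iff (F M : X.Modules) (hF : PicF.IsInvertible F) (hM : PicF.IsInvertible M)
    (s₀ : Coh.structureModule X ⟶ M) (ζ : X) (hζ : ζ ∈ CohB1.genLocus M s₀)
    (t : Coh.structureModule X ⟶ F) :
    mulS k F s₀ t ∈ Van k (CohB1.tensorMod F M) (isInvertible_tensorMod hF hM) ζ ↔
      t ∈ Van k F hF ζ := by
  rw [mem_Van, mem_Van, mulS_apply, genLocus_tmulHom hF hM]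
  constructor
  · intro h ht
    exact h ⟨ht, hζ⟩
  · intro h ht
    exact h ht.1

theorem mulS_mem_Van (F M : X.Modules) (hF : PicF.IsInvertible F) (hM : PicF.IsInvertible M)
    (s₀ : Coh.structureModule X ⟶ M) (ζ' : X) (hζ' : ζ' ∉ CohB1.genLocus M s₀)
    (t : Coh.structureModule X ⟶ F) :
    mulS k F s₀ t ∈ Van k (CohB1.tensorMod F M) (isInvertible_tensorMod hF hM) ζ' := by
  rw [mem_Van, mulS_apply, genLocus_tmulHom hF hM]
  exact fun h => hζ' h.2

/-- **the basic inequality**: `r(F, ζ) + r(F ⊗ M, ζ') ≤ r(F ⊗ M, ζ)` when `s₀` is a section of `M`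
not vanishing at `ζ` and vanishing at the specialization `ζ'` -/
theorem rk_add_le (F M : X.Modules) (hF : PicF.IsInvertible F) (hM : PicF.IsInvertible M)
    [Module.Finite k (Coh.structureModule X ⟶ CohB1.tensorMod F M)]
    (s₀ : Coh.structureModule X ⟶ M) {ζ ζ' : X} (h : ζ ⤳ ζ') (hζ : ζ ∈ CohB1.genLocus M s₀)
    (hζ' : ζ' ∉ CohB1.genLocus M s₀) :
    rk k F hF ζ + rk k (CohB1.tensorMod F M) (isInvertible_tensorMod hF hM) ζ' ≤
      rk k (CohB1.tensorMod F M) (isInvertible_tensorMod hF hM) ζ := by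
  obtain ⟨V, hV⟩ : ∃ V, V = Van k F hF ζ := ⟨_, rfl⟩
  obtain ⟨W, hW⟩ : ∃ W, W = Van k (CohB1.tensorMod F M) (isInvertible_tensorMod hF hM) ζ :=
    ⟨_, rfl⟩
  obtain ⟨W', hW'⟩ : ∃ W', W' = Van k (CohB1.tensorMod F M) (isInvertible_tensorMod hF hM) ζ' :=
    ⟨_, rfl⟩
  have hWW' : W ≤ W' := by rw [hW, hW']; exact Van_mono k _ _ h
  have hcomap : V ≤ W.comap (mulS k F s₀) := by
    intro t ht
    rw [Submodule.mem_comap, hW]
    rw [hV] at ht
    exact (mulS_mem_Van_iff k F M hF hM s₀ ζ hζ t).2 ht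
  let q : ((Coh.structureModule X ⟶ F) ⧸ V) →ₗ[k]
      ((Coh.structureModule X ⟶ CohB1.tensorMod F M) ⧸ W) := V.mapQ W (mulS k F s₀) hcomap
  have hq : ∀ t, q (Submodule.Quotient.mk t) = Submodule.Quotient.mk (mulS k F s₀ t) :=
    fun t => rfl
  have hinj : Function.Injective q := by
    rw [injective_iff_map_eq_zero]
    intro x hx
    obtain ⟨t, rfl⟩ := Submodule.Quotient.mk_surjective _ x
    rw [hq, Submodule.Quotient.mk_eq_zero, hW] at hx
    rw [Submodule.Quotient.mk_eq_zero, hV]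
    exact (mulS_mem_Van_iff k F M hF hM s₀ ζ hζ t).1 hx
  have hrange : ∀ x, q x ∈ W'.map W.mkQ := by
    intro x
    obtain ⟨t, rfl⟩ := Submodule.Quotient.mk_surjective _ x
    rw [hq]
    refine Submodule.mem_map.2 ⟨mulS k F s₀ t, ?_, rfl⟩
    rw [hW']
    exact mulS_mem_Van k F M hF hM s₀ ζ' hζ' t
  have h1 : Module.finrank k ((Coh.structureModule X ⟶ F) ⧸ V) ≤
      Module.finrank k (W'.map W.mkQ) :=
    LinearMap.finrank_le_finrank_of_injective (f := q.codRestrict (W'.map W.mkQ) hrange)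
      (fun a b hab => hinj (by simpa using congrArg Subtype.val hab))
  have h2 := Submodule.finrank_quotient_add_finrank (W'.map W.mkQ)
  have h3 := (Submodule.quotientQuotientEquivQuotient W W' hWW').finrank_eq
  unfold rk
  rw [← hV, ← hW, ← hW']
  omega

/-- a section not vanishing at `ζ` gives positive rank -/
theorem rk_pos (F : X.Modules) (hF : PicF.IsInvertible F)
    [Module.Finite k (Coh.structureModule X ⟶ F)] (ζ : X)
    (σ : Coh.structureModule X ⟶ F) (hσ : ζ ∈ CohB1.genLocus F σ) : 0 < rk k F hF ζ := by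
  have hne : Van k F hF ζ ≠ ⊤ := by
    intro h
    have : σ ∈ Van k F hF ζ := by rw [h]; trivial
    exact this hσ
  haveI : Nontrivial ((Coh.structureModule X ⟶ F) ⧸ Van k F hF ζ) :=
    Submodule.Quotient.nontrivial_iff.2 hne
  exact Module.finrank_pos

/-- the rank is at most the dimension of the space of sections -/
theorem rk_le (F : X.Modules) (hF : PicF.IsInvertible F)
    [Module.Finite k (Coh.structureModule X ⟶ F)] (ζ : X) :
    rk k F hF ζ ≤ Module.finrank k (Coh.structureModule X ⟶ F) :=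
  Submodule.finrank_quotient_le _

end Rank

section Push

variable {Z X : Scheme.{u}} (i : Z ⟶ X)

/-- stalks of a direct image along an embedding vanish where the stalks of the module vanish -/
theorem subsingleton_stalk_push (hi : Topology.IsEmbedding i) (M : Z.Modules) (z : Z)
    (h : Subsingleton (M.presheaf.stalk z)) :
    Subsingleton (((Scheme.Modules.pushforward i).obj M).presheaf.stalk (i z)) := by
  have key : ∀ c : ((Scheme.Modules.pushforward i).obj M).presheaf.stalk (i z), c = 0 := by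
    intro c
    obtain ⟨U, hzU, s', rfl⟩ := ((Scheme.Modules.pushforward i).obj M).presheaf.exists_germ_eq c
    let s : Γ(M, i ⁻¹ᵁ U) := s'
    have hzU' : z ∈ i ⁻¹ᵁ U := hzU
    have h0 : M.presheaf.germ (i ⁻¹ᵁ U) z hzU' s = M.presheaf.germ (i ⁻¹ᵁ U) z hzU' 0 :=
      Subsingleton.elim _ _
    obtain ⟨V, hzV, iU, iV, hres⟩ := M.presheaf.germ_eq z hzU' hzU' s 0 h0
    rw [map_zero] at hres
    obtain ⟨U'', hU'', hUV⟩ := (hi.isOpen_iff).1 V.2
    let U' : X.Opens := ⟨U'', hU''⟩
    have hVU : V = i ⁻¹ᵁ U' := Opens.ext hUV.symm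
    subst hVU
    have hizW : i z ∈ U ⊓ U' := ⟨hzU, hzV⟩
    have hle : i ⁻¹ᵁ (U ⊓ U') ≤ i ⁻¹ᵁ U' := fun w hw => hw.2
    have hres' : ((Scheme.Modules.pushforward i).obj M).presheaf.map
        (homOfLE (inf_le_left : U ⊓ U' ≤ U)).op s' = 0 := by
      have h1 : M.presheaf.map (homOfLE hle).op (M.presheaf.map iU.op s) = 0 := by
        rw [hres, map_zero]
      rw [← ConcreteCategory.comp_apply, ← Functor.map_comp] at h1
      exact h1
    rw [← TopCat.Presheaf.germ_res_apply ((Scheme.Modules.pushforward i).obj M).presheaf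
      (homOfLE (inf_le_left : U ⊓ U' ≤ U)) (i z) hizW s', hres', map_zero]
  exact ⟨fun a b => (key a).trans (key b).symm⟩

/-- the support of a direct image along a closed immersion is the image of the support -/
theorem support_push_subset_image [IsClosedImmersion i] (M : Z.Modules) :
    CohB1.support ((Scheme.Modules.pushforward i).obj M) ⊆ i '' CohB1.support M := by
  intro x hx
  obtain ⟨z, rfl⟩ := Groth.Agent.Lib.R2H2.DevE.support_push_subset i M hx
  refine ⟨z, fun hsub => hx ?_, rfl⟩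
  exact subsingleton_stalk_push i i.isClosedEmbedding.isEmbedding M z hsub

end Push

section Descend

open Groth.Agent.Lib.R2H4SnapperRef Groth.Agent.Lib.R2H4MultiAdd Groth.Agent.Lib.R2H4NefBigA
  Groth.Agent.Lib.R2H4NumDimA Groth.Agent.Lib.R2H4AmplePos Groth.Agent.Lib.R2H4Snapper

variable (k : Type u) [Field k] {X : Scheme.{u}} [X.Over (Spec (CommRingCat.of k))]
  [IsProper (X ↘ Spec (CommRingCat.of k))]

/-- **descending one dimension**: if `(H · N₁ ⋯ N_m · closure ζ) ≠ 0` and `s₀` is a section of `H`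
not vanishing at `ζ`, some `m`-dimensional point `ζ'` of `closure ζ ∩ {s₀ = 0}` has
`(N₁ ⋯ N_m · closure ζ') ≠ 0` -/
theorem exists_point_of_iN_ne_zero {m : ℕ} (N : Fin m → X.Modules)
    (hN : ∀ i, PicF.IsInvertible (N i)) (H : X.Modules) (hH : PicF.IsInvertible H)
    (s₀ : Coh.structureModule X ⟶ H) (ζ : X) (hζ : ζ ∈ CohB1.genLocus H s₀)
    (hdim : topologicalKrullDim (closure ({ζ} : Set X)) = ((m + 1 : ℕ) : WithBot ℕ∞))
    (hne : iN k (Fin.insertNth (α := fun _ => X.Modules) 0 H N) (ClSub.quotMod (zI ζ)) ≠ 0) :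
    ∃ ζ' : X, ζ ⤳ ζ' ∧ ζ' ∉ CohB1.genLocus H s₀ ∧
      topologicalKrullDim (closure ({ζ'} : Set X)) = ((m : ℕ) : WithBot ℕ∞) ∧
      iN k N (ClSub.quotMod (zI ζ')) ≠ 0 := by
  classical
  letI : (zI ζ).subscheme.Over (Spec (CommRingCat.of k)) :=
    ⟨(zI ζ).subschemeι ≫ (X ↘ Spec (CommRingCat.of k))⟩
  haveI : IsProper ((zI ζ).subscheme ↘ Spec (CommRingCat.of k)) :=
    inferInstanceAs (IsProper ((zI ζ).subschemeι ≫ (X ↘ Spec (CommRingCat.of k))))
  haveI := isIntegral_zS ζ
  haveI := Groth.Agent.Lib.R2H1.CurveEuler.isNoetherian_of_proper k (zI ζ).subscheme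
  haveI := Groth.Agent.Lib.R2H1.CurveEuler.isNoetherian_of_proper k X
  have hover : (zI ζ).subschemeι ≫ (X ↘ Spec (CommRingCat.of k)) =
      (zI ζ).subscheme ↘ Spec (CommRingCat.of k) := rfl
  have hZdim : topologicalKrullDim (zI ζ).subscheme = ((m + 1 : ℕ) : WithBot ℕ∞) :=
    (dim_zS ζ).trans hdim
  rw [iN_quotMod_eq k (zI ζ) _ (isInvertible_insertNth 0 H hH N hN)] at hne
  have hfun : (fun i => (Scheme.Modules.pullback (zI ζ).subschemeι).obj
      (Fin.insertNth (α := fun _ => X.Modules) 0 H N i)) =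
      Fin.insertNth (α := fun _ => (zI ζ).subscheme.Modules) 0
        ((Scheme.Modules.pullback (zI ζ).subschemeι).obj H) (fun i => (Scheme.Modules.pullback (zI ζ).subschemeι).obj (N i)) := by
    funext i
    rcases Fin.eq_self_or_eq_succAbove (0 : Fin (m + 1)) i with h | ⟨i', h⟩
    · rw [h, Fin.insertNth_apply_same, Fin.insertNth_apply_same]
    · rw [h, Fin.insertNth_apply_succAbove, Fin.insertNth_apply_succAbove]
  rw [hfun] at hne
  have hO : PicF.IsInvertible (Coh.structureModule (zI ζ).subscheme) :=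
    Groth.Agent.Lib.Helper23.TensorUnit.isInvertible_structureModule _
  have cO : Coh.IsCoh (Coh.structureModule (zI ζ).subscheme) :=
    Groth.Agent.Lib.R2H1.GenusLe.isCoh_structureModule _
  have hH' : PicF.IsInvertible ((Scheme.Modules.pullback (zI ζ).subschemeι).obj H) :=
    Groth.Agent.Lib.Helper23.PB.isInvertible_pullback (zI ζ).subschemeι H hH
  have hN' : ∀ i, PicF.IsInvertible ((Scheme.Modules.pullback (zI ζ).subschemeι).obj (N i)) := fun i =>
    Groth.Agent.Lib.Helper23.PB.isInvertible_pullback (zI ζ).subschemeι (N i) (hN i)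
  -- the restricted section
  obtain ⟨s, hs⟩ : ∃ s : Coh.structureModule (zI ζ).subscheme ⟶ (Scheme.Modules.pullback (zI ζ).subschemeι).obj H,
      s = (Groth.Agent.Lib.Helper23.PB.pullbackUnitIso (zI ζ).subschemeι).symm.hom ≫
        (Scheme.Modules.pullback (zI ζ).subschemeι).map s₀ := ⟨_, rfl⟩
  have hgl : CohB1.genLocus ((Scheme.Modules.pullback (zI ζ).subschemeι).obj H) s = (zI ζ).subschemeι ⁻¹ᵁ CohB1.genLocus H s₀ := by
    rw [hs]
    exact Groth.Agent.Lib.Helper23.PB.genLocus_pullback (zI ζ).subschemeι H hH s₀ _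
  have hη : genericPoint (zI ζ).subscheme ∈
      CohB1.genLocus ((Scheme.Modules.pullback (zI ζ).subschemeι).obj H) s := by
    rw [hgl]
    change (zI ζ).subschemeι (genericPoint (zI ζ).subscheme) ∈ CohB1.genLocus H s₀
    rw [zι_genericPoint]
    exact hζ
  have hs0 : s ≠ 0 := by
    intro h0
    rw [h0, genLocus_zero _ hH'] at hη
    exact hη
  haveI : Mono s := Groth.Agent.Lib.R2H1.InvHom.mono_of_ne_zero hO hH' s hs0
  have e4 := iN_cokernel_section k (0 : Fin (m + 1))
    (fun i => (Scheme.Modules.pullback (zI ζ).subschemeι).obj (N i)) hN' _ hH' s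
  replace hne : iN k (fun i => (Scheme.Modules.pullback (zI ζ).subschemeι).obj (N i)) (cokernel s) ≠ 0 :=
    fun h0 => hne (e4.symm.trans h0)
  have cQ : Coh.IsCoh (cokernel s) := Groth.Agent.Lib.R2H2.NilFilt.isCoh_cokernel cO
    (Groth.Agent.Lib.R2H4VolBasic.isCoh_of_isInvertible _ hH') s
  rw [← iN_push k (zI ζ).subschemeι hover N hN (cokernel s) cQ] at hne
  obtain ⟨F, hF⟩ : ∃ F, F = (Scheme.Modules.pushforward (zI ζ).subschemeι).obj (cokernel s) := ⟨_, rfl⟩
  rw [← hF] at hne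
  have cF : Coh.IsCoh F := by rw [hF]; exact Groth.Agent.Lib.R2H2.ClosedPn.isCoh_push (zI ζ).subschemeι _ cQ
  have hsuppF : CohB1.support F ⊆ (zI ζ).subschemeι '' CohB1.support (cokernel s) := by
    rw [hF]; exact support_push_subset_image (zI ζ).subschemeι _
  have hrange : Set.range (zI ζ).subschemeι = closure ({ζ} : Set X) := range_zι ζ
  have hnotgl : ∀ z : (zI ζ).subscheme, z ∈ CohB1.support (cokernel s) →
      (zI ζ).subschemeι z ∉ CohB1.genLocus H s₀ := by
    intro z hz hmem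
    have h1 := Groth.Agent.Lib.R2H4RelGrowth.support_cokernel_disjoint_genLocus _ s z hz
    rw [hgl] at h1
    exact h1 hmem
  -- the support of `F` is a proper closed subset of `closure ζ`
  have hclF : IsClosed (CohB1.support F) := Groth.Agent.S0020.result X F cF.2
  have hsub : CohB1.support F ⊆ closure ({ζ} : Set X) := by
    intro x hx
    obtain ⟨z, -, rfl⟩ := hsuppF hx
    rw [← hrange]
    exact ⟨z, rfl⟩
  have hneq : CohB1.support F ≠ closure ({ζ} : Set X) := by
    intro heq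
    have hmem : ζ ∈ CohB1.support F := by rw [heq]; exact subset_closure rfl
    obtain ⟨z, hz, hzζ⟩ := hsuppF hmem
    exact hnotgl z hz (by rw [hzζ]; exact hζ)
  have hfin : topologicalKrullDim (closure ({ζ} : Set X)) < ⊤ := by
    rw [hdim]
    change ((((m + 1 : ℕ) : ℕ∞)) : WithBot ℕ∞) < ((⊤ : ℕ∞) : WithBot ℕ∞)
    exact WithBot.coe_lt_coe.2 (ENat.natCast_lt_top (m + 1))
  have hdimF : topologicalKrullDim (CohB1.support F) ≤ ((m : ℕ) : WithBot ℕ∞) := by
    refine le_of_lt_succ' _ _ ?_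
    rw [← hdim]
    exact Groth.Agent.Lib.Helper8.Conn.dim_lt_of_proper_closed
      isIrreducible_singleton.closure hclF hsub hneq hfin
  obtain ⟨T, hT1, -, hsum⟩ := iN_eq_sum k F cF m hdimF N hN
  rw [hsum] at hne
  obtain ⟨ξ, hξT, hξne⟩ := Finset.exists_ne_zero_of_sum_ne_zero hne
  obtain ⟨hξdim, hlen, -⟩ := hT1 ξ hξT
  have hξsupp : ξ ∈ CohB1.support F := by
    by_contra hcon
    exact hlen (lenE_eq_zero F ξ hcon)
  obtain ⟨z, hz, rfl⟩ := hsuppF hξsupp
  refine ⟨(zI ζ).subschemeι z, ?_, hnotgl z hz, hξdim, right_ne_zero_of_mul hξne⟩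
  rw [specializes_iff_mem_closure, ← hrange]
  exact ⟨z, rfl⟩

end Descend

section Growth

open Groth.Agent.Lib.R2H4SnapperRef Groth.Agent.Lib.R2H4MultiAdd Groth.Agent.Lib.R2H4NefBigA
  Groth.Agent.Lib.R2H4NumDimA Groth.Agent.Lib.R2H4AmplePos Groth.Agent.Lib.R2H4Snapper
  Groth.Agent.Lib.R2H4KleimanA

theorem pow_succ_le_add (μ m : ℕ) : (μ + 1) ^ (m + 1) ≤ μ ^ (m + 1) + (m + 1) * (μ + 1) ^ m := by
  induction m with
  | zero => simp
  | succ m ih =>
    have h1 : μ ^ (m + 1) ≤ (μ + 1) ^ (m + 1) := Nat.pow_le_pow_left (Nat.le_succ μ) _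
    calc (μ + 1) ^ (m + 1 + 1) = (μ + 1) ^ (m + 1) * (μ + 1) := _root_.pow_succ _ _
      _ ≤ (μ ^ (m + 1) + (m + 1) * (μ + 1) ^ m) * (μ + 1) := Nat.mul_le_mul_right _ ih
      _ = μ ^ (m + 1 + 1) + μ ^ (m + 1) + (m + 1) * (μ + 1) ^ (m + 1) := by ring
      _ ≤ μ ^ (m + 1 + 1) + (μ + 1) ^ (m + 1) + (m + 1) * (μ + 1) ^ (m + 1) := by omega
      _ = μ ^ (m + 1 + 1) + (m + 1 + 1) * (μ + 1) ^ (m + 1) := by ring

variable (k : Type u) [Field k] {X : Scheme.{u}} [X.Over (Spec (CommRingCat.of k))]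
  [IsProper (X ↘ Spec (CommRingCat.of k))]

/-- sections of a coherent module on a proper scheme form a finite-dimensional space -/
theorem finite_hom (F : X.Modules) (hF : Coh.IsCoh F) :
    Module.Finite k (Coh.structureModule X ⟶ F) := by
  haveI := Groth.Agent.Lib.R2H1.EulerAdd.finite_HH k X F hF 0
  exact Module.Finite.equiv (Groth.Agent.Lib.R2H2.PnBeilinson.clsEquiv (k := k) F).symm

/-- **growth from a nonzero intersection number**: `M = L^μ₀` globally generated, `ζ` a point of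
dimension `m` with `(L^m · closure ζ) ≠ 0`; then the rank of the restriction of the sections of
`M^μ` to `closure ζ` grows at least like `μ^m` -/
theorem claim (L : X.Modules) (hL : PicF.IsInvertible L) (μ₀ : ℕ) (hμ₀ : 0 < μ₀)
    (hgg : Curv2.IsGloballyGenerated (CohB1.tensorPow L μ₀)) :
    ∀ (m : ℕ) (ζ : X),
      topologicalKrullDim (closure ({ζ} : Set X)) = ((m : ℕ) : WithBot ℕ∞) →
      iN k (fun _ : Fin m => L) (ClSub.quotMod (zI ζ)) ≠ 0 →
      ∃ a : ℕ, 0 < a ∧ ∀ μ : ℕ, 1 ≤ μ →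
        μ ^ m ≤ a * rk k (CohB1.tensorPow (CohB1.tensorPow L μ₀) μ)
          (isInvertible_tensorPow (isInvertible_tensorPow hL μ₀) μ) ζ := by
  haveI := Groth.Agent.Lib.R2H1.CurveEuler.isNoetherian_of_proper k X
  obtain ⟨M, hMdef⟩ : ∃ M, M = CohB1.tensorPow L μ₀ := ⟨_, rfl⟩
  rw [← hMdef] at hgg
  have hM : PicF.IsInvertible M := hMdef ▸ isInvertible_tensorPow hL μ₀
  have hfin : ∀ μ, Module.Finite k (Coh.structureModule X ⟶ CohB1.tensorPow M μ) := fun μ =>
    finite_hom k _ (Groth.Agent.Lib.R2H4VolBasic.isCoh_of_isInvertible _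
      (isInvertible_tensorPow hM μ))
  suffices key : ∀ (m : ℕ) (ζ : X),
      topologicalKrullDim (closure ({ζ} : Set X)) = ((m : ℕ) : WithBot ℕ∞) →
      iN k (fun _ : Fin m => L) (ClSub.quotMod (zI ζ)) ≠ 0 →
      ∃ a : ℕ, 0 < a ∧ ∀ μ : ℕ, 1 ≤ μ →
        μ ^ m ≤ a * rk k (CohB1.tensorPow M μ) (isInvertible_tensorPow hM μ) ζ by
    subst hMdef
    exact key
  intro m
  induction m with
  | zero =>
    intro ζ _ _
    refine ⟨1, Nat.one_pos, fun μ hμ => ?_⟩
    obtain ⟨s, hs⟩ := Groth.Agent.Lib.Helper23.GG.exists_section_mem_genLocus M hM hgg ζ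
    haveI := hfin μ
    have h1 := rk_pos k (CohB1.tensorPow M μ) (isInvertible_tensorPow hM μ) ζ
      (SecTwist.powHom s μ) (by rw [genLocus_powHom hM s μ hμ]; exact hs)
    rw [pow_zero, one_mul]
    exact h1
  | succ m ih =>
    intro ζ hdim hne
    obtain ⟨s₀, hs₀⟩ := Groth.Agent.Lib.Helper23.GG.exists_section_mem_genLocus M hM hgg ζ
    have cZ : Coh.IsCoh (ClSub.quotMod (zI ζ)) := Groth.Agent.Lib.R2H4SnapperCor.isCoh_quotMod k _
    have hr : topologicalKrullDim (CohB1.support (ClSub.quotMod (zI ζ))) <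
        ((m + 2 : ℕ) : WithBot ℕ∞) := by
      refine lt_of_le_of_lt (Groth.Agent.Lib.Helper8.Conn.dim_mono (support_quotMod_zI ζ)) ?_
      rw [hdim]
      exact natCast_lt_succ (m + 1)
    have hfun : (fun _ : Fin (m + 1) => L) =
        Fin.insertNth (α := fun _ => X.Modules) (0 : Fin (m + 1)) L (fun _ : Fin m => L) := by
      funext i
      rcases Fin.eq_self_or_eq_succAbove (0 : Fin (m + 1)) i with h | ⟨i', h⟩
      · rw [h, Fin.insertNth_apply_same]
      · rw [h, Fin.insertNth_apply_succAbove]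
    have hne' : iN k (Fin.insertNth (α := fun _ => X.Modules) (0 : Fin (m + 1)) M
        (fun _ : Fin m => L)) (ClSub.quotMod (zI ζ)) ≠ 0 := by
      rw [hMdef, iN_insertNth_pow k (0 : Fin (m + 1)) (fun _ : Fin m => L) (fun _ => hL) L hL _
        cZ hr μ₀, ← hfun]
      exact mul_ne_zero (Nat.cast_ne_zero.2 hμ₀.ne') hne
    obtain ⟨ζ', hspec, hζ', hdim', hne''⟩ := exists_point_of_iN_ne_zero k (fun _ : Fin m => L)
      (fun _ => hL) M hM s₀ ζ hs₀ hdim hne'
    obtain ⟨a', ha', hgrow⟩ := ih ζ' hdim' hne''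
    refine ⟨a' * (m + 1), Nat.mul_pos ha' (Nat.succ_pos m), ?_⟩
    have hstep : ∀ μ : ℕ,
        rk k (CohB1.tensorPow M μ) (isInvertible_tensorPow hM μ) ζ +
          rk k (CohB1.tensorPow M (μ + 1)) (isInvertible_tensorPow hM (μ + 1)) ζ' ≤
        rk k (CohB1.tensorPow M (μ + 1)) (isInvertible_tensorPow hM (μ + 1)) ζ := by
      intro μ
      haveI : Module.Finite k (Coh.structureModule X ⟶
          CohB1.tensorMod (CohB1.tensorPow M μ) M) := hfin (μ + 1)
      exact rk_add_le k (CohB1.tensorPow M μ) M (isInvertible_tensorPow hM μ) hM s₀ hspec hs₀ hζ'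
    have hall : ∀ μ : ℕ, μ ^ (m + 1) ≤
        a' * (m + 1) * rk k (CohB1.tensorPow M μ) (isInvertible_tensorPow hM μ) ζ := by
      intro μ
      induction μ with
      | zero => simp
      | succ μ ihμ =>
        have h1 := hstep μ
        have h2 := hgrow (μ + 1) (Nat.succ_pos μ)
        have h3 := pow_succ_le_add μ m
        generalize rk k (CohB1.tensorPow M μ) (isInvertible_tensorPow hM μ) ζ = r₁ at *
        generalize rk k (CohB1.tensorPow M (μ + 1)) (isInvertible_tensorPow hM (μ + 1)) ζ' =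
          r₂ at *
        generalize rk k (CohB1.tensorPow M (μ + 1)) (isInvertible_tensorPow hM (μ + 1)) ζ =
          r₃ at *
        calc (μ + 1) ^ (m + 1) ≤ μ ^ (m + 1) + (m + 1) * (μ + 1) ^ m := h3
          _ ≤ a' * (m + 1) * r₁ + (m + 1) * (a' * r₂) :=
            Nat.add_le_add ihμ (Nat.mul_le_mul_left _ h2)
          _ = a' * (m + 1) * (r₁ + r₂) := by ring
          _ ≤ a' * (m + 1) * r₃ := Nat.mul_le_mul_left _ h1
    intro μ _
    exact hall μ

end Growth

section NefOfSemiAmple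

variable (k : Type u) [Field k] {X : Scheme.{u}} [X.Over (Spec (CommRingCat.of k))]
  [IsProper (X ↘ Spec (CommRingCat.of k))]

/-- **semi-ample invertible modules are nef** -/
theorem nef_of_semiAmple (L : X.Modules) (hL : PicF.IsInvertible L) (μ : ℕ) (hμ : 0 < μ)
    (hgg : Curv2.IsGloballyGenerated (CohB1.tensorPow L μ)) :
    Groth.Agent.Lib.R2H4KleimanA.Nef k X L := by
  intro C hC hdim
  haveI := hC
  letI : C.subscheme.Over (Spec (CommRingCat.of k)) :=
    ⟨C.subschemeι ≫ (X ↘ Spec (CommRingCat.of k))⟩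
  haveI : IsProper (C.subscheme ↘ Spec (CommRingCat.of k)) :=
    inferInstanceAs (IsProper (C.subschemeι ≫ (X ↘ Spec (CommRingCat.of k))))
  have hdimY : topologicalKrullDim C.subscheme = 1 := by
    rw [← Groth.Agent.Lib.R2H1.NefPull.dim_support_eq, hdim]
  rw [Groth.Agent.Lib.R2H4NumEqPull.curveDeg_eq_deg k
    (C.subschemeι ≫ (X ↘ Spec (CommRingCat.of k))) hdimY.le]
  change 0 ≤ Curv2.deg k C.subscheme ((Scheme.Modules.pullback C.subschemeι).obj L) 1
  have hN : PicF.IsInvertible ((Scheme.Modules.pullback C.subschemeι).obj L) :=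
    Groth.Agent.Lib.Helper23.PB.isInvertible_pullback C.subschemeι L hL
  have hLμ : PicF.IsInvertible (CohB1.tensorPow L μ) := isInvertible_tensorPow hL μ
  obtain ⟨t, ht⟩ := Groth.Agent.Lib.Helper23.GG.exists_section_mem_genLocus _ hLμ hgg
    (C.subschemeι (genericPoint C.subscheme))
  obtain ⟨Φ⟩ := Groth.Agent.Lib.Helper23.PB.nonempty_pullback_tensorPow_iso C.subschemeι L hL μ
  obtain ⟨s, hs⟩ : ∃ s : Coh.structureModule C.subscheme ⟶
      (Scheme.Modules.pullback C.subschemeι).obj (CohB1.tensorPow L μ),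
      s = (Groth.Agent.Lib.Helper23.PB.pullbackUnitIso C.subschemeι).symm.hom ≫
        (Scheme.Modules.pullback C.subschemeι).map t := ⟨_, rfl⟩
  have hgl : CohB1.genLocus _ s = C.subschemeι ⁻¹ᵁ CohB1.genLocus _ t := by
    rw [hs]
    exact Groth.Agent.Lib.Helper23.PB.genLocus_pullback C.subschemeι _ hLμ t _
  have hs0 : s ≠ 0 := by
    intro h0
    have hη : genericPoint C.subscheme ∈ CohB1.genLocus _ s := by rw [hgl]; exact ht
    rw [h0, genLocus_zero _
      (Groth.Agent.Lib.Helper23.PB.isInvertible_pullback C.subschemeι _ hLμ)] at hη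
    exact hη
  have hs0' : s ≫ Φ.hom ≠ 0 := by
    intro h0
    apply hs0
    have : s ≫ Φ.hom ≫ Φ.inv = 0 := by rw [← Category.assoc, h0, zero_comp]
    rwa [Iso.hom_inv_id, Category.comp_id] at this
  have h1 := Groth.Agent.Lib.R2H1.CurveDegSec.s1518 k C.subscheme hdimY _
    (isInvertible_tensorPow hN μ) (s ≫ Φ.hom) hs0'
  rw [Groth.Agent.Lib.R2H1.CurveAmple.deg_tensorPow k C.subscheme hdimY _ hN μ] at h1
  have hμ' : (0 : ℤ) < (μ : ℤ) := by exact_mod_cast hμ
  exact (mul_nonneg_iff_of_pos_left hμ').mp h1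

end NefOfSemiAmple

section Final

open Groth.Agent.Lib.R2H4SnapperRef Groth.Agent.Lib.R2H4MultiAdd Groth.Agent.Lib.R2H4NefBigA
  Groth.Agent.Lib.R2H4NumDimA Groth.Agent.Lib.R2H4NumDimC

variable (k : Type u) [Field k] {X : Scheme.{u}} [X.Over (Spec (CommRingCat.of k))]
  [IsProper (X ↘ Spec (CommRingCat.of k))]

/-- **growth of sections of a semi-ample module from one nonzero intersection number** -/
theorem growth_of_intNum_ne_zero (n : ℕ) (hX : topologicalKrullDim X ≤ n) (L Linv : X.Modules)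
    (hL : PicF.IsInvertible L) (hLinv : PicF.IsInvertible Linv)
    (e : CohB1.tensorMod L Linv ≅ Coh.structureModule X) (μ₀ : ℕ) (hμ₀ : 0 < μ₀)
    (hgg : Curv2.IsGloballyGenerated (CohB1.tensorPow L μ₀)) (m : ℕ)
    (V : Scheme.{u}) (i : V ⟶ X) [IsClosedImmersion i] (hV : IsIntegral V)
    (hdim : topologicalKrullDim V = (m : ℕ))
    (hne : FGA.intNum k X n (fun _ : Fin m => Linv)
      ((Scheme.Modules.pushforward i).obj (Coh.structureModule V)) ≠ 0) :
    ∃ ν a : ℕ, 0 < ν ∧ 0 < a ∧ ∀ μ : ℕ, 1 ≤ μ →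
      μ ^ m ≤ a * Module.finrank k (Coh.HH X (CohB1.tensorPow L (ν * μ)) 0) := by
  classical
  haveI := hV
  haveI := Groth.Agent.Lib.R2H1.CurveEuler.isNoetherian_of_proper k X
  haveI : IsNoetherian V := by
    haveI : IsLocallyNoetherian V := LocallyOfFiniteType.isLocallyNoetherian i
    haveI : CompactSpace X :=
      QuasiCompact.compactSpace_of_compactSpace (X ↘ Spec (CommRingCat.of k))
    haveI : CompactSpace V := QuasiCompact.compactSpace_of_compactSpace i
    exact {}
  have hO : Coh.IsCoh (Coh.structureModule V) :=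
    Groth.Agent.Lib.R2H1.GenusLe.isCoh_structureModule V
  obtain ⟨G, hG⟩ : ∃ G, G = (Scheme.Modules.pushforward i).obj (Coh.structureModule V) :=
    ⟨_, rfl⟩
  rw [← hG] at hne
  have cG : Coh.IsCoh G := by rw [hG]; exact Groth.Agent.Lib.R2H2.ClosedPn.isCoh_push i _ hO
  have hsupp : topologicalKrullDim (CohB1.support G) ≤ ((m : ℕ) : WithBot ℕ∞) := by
    rw [hG]; exact (dim_support_push_le i _).trans hdim.le
  have h1 := iN_eq_intNum k n hX (fun _ : Fin m => Linv) G
  rw [iN_const_inv k L Linv hL hLinv e _ cG m hsupp] at h1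
  have h2 : ((-1 : ℚ) ^ m) ≠ 0 := pow_ne_zero _ (by norm_num)
  have hneL : iN k (fun _ : Fin m => L) G ≠ 0 := by
    intro h0
    rw [h0, mul_zero] at h1
    rcases mul_eq_zero.1 h1.symm with h | h
    · exact h2 h
    · exact hne (by exact_mod_cast h)
  obtain ⟨T, hT1, -, hsum⟩ := iN_eq_sum k G cG m hsupp (fun _ : Fin m => L) (fun _ => hL)
  rw [hsum] at hneL
  obtain ⟨ξ, hξT, hξne⟩ := Finset.exists_ne_zero_of_sum_ne_zero hneL
  obtain ⟨hξdim, -, -⟩ := hT1 ξ hξT
  obtain ⟨a, ha, hgrow⟩ := claim k L hL μ₀ hμ₀ hgg m ξ hξdim (right_ne_zero_of_mul hξne)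
  refine ⟨μ₀, a, hμ₀, ha, fun μ hμ => ?_⟩
  have hMμ : PicF.IsInvertible (CohB1.tensorPow (CohB1.tensorPow L μ₀) μ) :=
    isInvertible_tensorPow (isInvertible_tensorPow hL μ₀) μ
  haveI := finite_hom k _ (Groth.Agent.Lib.R2H4VolBasic.isCoh_of_isInvertible _ hMμ)
  obtain ⟨Φ⟩ := nonempty_tensorPow_tensorPow_iso L hL μ₀ μ (μ₀ * μ) rfl
  calc μ ^ m ≤ a * rk k _ hMμ ξ := hgrow μ hμ
    _ ≤ a * Module.finrank k (Coh.structureModule X ⟶
        CohB1.tensorPow (CohB1.tensorPow L μ₀) μ) := Nat.mul_le_mul_left _ (rk_le k _ hMμ ξ)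
    _ = a * Module.finrank k (Coh.HH X (CohB1.tensorPow (CohB1.tensorPow L μ₀) μ) 0) := by
      rw [(Groth.Agent.Lib.R2H2.PnBeilinson.clsEquiv (k := k) _).finrank_eq]
    _ = a * Module.finrank k (Coh.HH X (CohB1.tensorPow L (μ₀ * μ)) 0) := by
      rw [Groth.Agent.Lib.R2H2.ClosedPnLin.finrank_HH_of_iso k Φ 0]

end Final

end Groth.Agent.Lib.R2H4SemiAmpleKappa
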