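import Mathlib
import Groth.Prelude
import Groth.Agent.Lib.R2H4HodgeEq
import Groth.Agent.Lib.H9NegDefGeo
import Groth.Agent.Lib.R2H4DiffCartier
import Groth.Agent.Lib.R2H4NakaiCore
import Groth.Agent.Lib.R2H4SemiAmpleKappa
import Groth.Agent.Lib.R2H4VolBig
import Groth.Agent.Lib.R2H4NumBound
import Groth.Agent.Lib.Helper23SecTw10
set_option backward.isDefEq.respectTransparency.types false

/-!
# Effective times nef is nonnegative on a surface (helper4, round 2)

`inter_nonneg_of_section`: on a proper integral surface, `(L·M) ≥ 0` for `L` invertible with a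
nonzero section and `M` nef.  `nef_of_secGen`: a module generated at every point by a global
section is nef.
-/

set_option autoImplicit false
set_option linter.style.haveILetI false
set_option linter.unusedSectionVars false
universe u

open CategoryTheory CategoryTheory.Limits AlgebraicGeometry TopologicalSpace Opposite

namespace Groth.Agent.Lib.R2H4EffNef

open Groth.Agent.Lib.R2H4TensorPows Groth.Agent.Lib.R2H4HodgeIneq Groth.Agent.Lib.R2H4MultiAdd

variable (k : Type u) [Field k] {X : Scheme.{u}} [X.Over (Spec (CommRingCat.of k))]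
  [IsProper (X ↘ Spec (CommRingCat.of k))]

/-- a module generated at every point by a global section is nef -/
theorem nef_of_secGen (M : X.Modules) (hM : PicF.IsInvertible M)
    (hgen : Groth.Agent.Lib.R2H4NumBound.SecGen M) : Groth.Agent.Lib.R2H4KleimanA.Nef k X M := by
  have hgg : Curv2.IsGloballyGenerated M :=
    Groth.Agent.Lib.Helper23.SecTw.isGloballyGenerated_of_forall_mem_genLocus M hgen
  refine Groth.Agent.Lib.R2H4SemiAmpleKappa.nef_of_semiAmple k M hM 1 Nat.one_pos ?_
  exact Groth.Agent.Lib.Helper23.RestrTensor.isGloballyGenerated_of_iso (lUnit M).symm hgg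

variable [IsIntegral X]

/-- **effective · nef ≥ 0** on a surface -/
theorem inter_nonneg_of_section (hdim : topologicalKrullDim X = 2) (L : X.Modules)
    (hL : PicF.IsInvertible L) (s : Coh.structureModule X ⟶ L) (hs : s ≠ 0) (M : X.Modules)
    (hM : PicF.IsInvertible M) (hnef : Groth.Agent.Lib.R2H4KleimanA.Nef k X M) :
    0 ≤ P k L M := by
  haveI := Groth.Agent.Lib.R2H1.CurveEuler.isNoetherian_of_proper k X
  have hreg : ∀ x : X, Curv2.IsAssPoint (Coh.structureModule X) x → x ∈ CohB1.genLocus L s :=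
    fun x hx => Groth.Agent.Lib.R2H4NakaiCore.mem_genLocus_of_isAssPoint L hL s hs x hx
  set J := PicF2.zeroScheme L s with hJdef
  have hJ : BlowUp.IsEffCartierIdeal J :=
    Groth.Agent.Lib.R2H4DiffCartier.isEffCartier_zeroScheme L hL s hreg
  obtain ⟨e0⟩ := Groth.Agent.Lib.R2H4DiffCartier.nonempty_iso_tensor_zeroScheme L hL s hreg
  have eL : CohB1.tensorMod L (ClSub.idealMod J) ≅ Coh.structureModule X := e0.symm
  obtain ⟨M', hM', ⟨eM⟩⟩ := Groth.Agent.Lib.R2H4InvExists.exists_inverse M hM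
  have h1 := Groth.Agent.Lib.R2H4SurfDual.intNum_inv_inv k hdim L (ClSub.idealMod J) M M' hL hM
    eL eM
  have h2 := Groth.Agent.Lib.H9NegDefGeo.intNum_cartier_eq_euler k hdim J hJ M' hM'
  have cQ : Coh.IsCoh (ClSub.quotMod J) := Groth.Agent.Lib.R2H4Quo.isCoh_quotMod J
  have hsupp : topologicalKrullDim (CohB1.support (ClSub.quotMod J)) ≤
      ((1 : ℕ) : WithBot ℕ∞) := by
    rw [Groth.Agent.Lib.Helper6.OpenDim.topologicalKrullDim_congr_set
      (Groth.Agent.Lib.H9NegDefGeo.support_quotMod J)]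
    exact Groth.Agent.Lib.H9NegDefGeo.dim_support_le_one k hdim J hJ
  have h3 := Groth.Agent.Lib.R2H4KleimanA.iN_nonneg_curve k M hM hnef (ClSub.quotMod J) cQ hsupp
  have h4 := Groth.Agent.Lib.R2H4NefBigA.iN_insertNth_inv k (0 : Fin 1)
    (Fin.elim0 : Fin 0 → X.Modules) (fun i => i.elim0) M M' hM hM' eM (ClSub.quotMod J) cQ
    (lt_of_le_of_lt hsupp (by exact_mod_cast (by norm_num : (1 : ℕ) < 2)))
  rw [Fin.insertNth_zero', Fin.insertNth_zero'] at h4
  rw [Groth.Agent.Lib.R2H4KleimanA.iN_one_slot] at h4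
  -- `χ(Q ⊗ M') - χ(Q) = - iN [M] Q ≤ 0`
  have h5 : (Curv2.euler k X (CohB1.tensorMod (ClSub.quotMod J) M') : ℚ) -
      (Curv2.euler k X (ClSub.quotMod J) : ℚ) ≤ 0 := by
    rw [h4]; linarith
  have h6 : Curv2.euler k X (CohB1.tensorMod (ClSub.quotMod J) M') -
      Curv2.euler k X (ClSub.quotMod J) ≤ 0 := by exact_mod_cast h5
  have h7 : P k L M = FGA.intNum k X 2 ![ClSub.idealMod J, M'] (Coh.structureModule X) := h1.symm
  rw [h7, h2]
  linarith

/-- `H⁰(L) = 0` if `(L·M) < 0` for a nef `M` -/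
theorem subsingleton_H0_of_inter_neg (hdim : topologicalKrullDim X = 2) (L : X.Modules)
    (hL : PicF.IsInvertible L) (M : X.Modules) (hM : PicF.IsInvertible M)
    (hnef : Groth.Agent.Lib.R2H4KleimanA.Nef k X M) (hneg : P k L M < 0) :
    Subsingleton (Coh.HH X L 0) := by
  by_contra hcon
  rw [not_subsingleton_iff_nontrivial] at hcon
  haveI := hcon
  haveI := Groth.Agent.Lib.R2H1.CurveEuler.isNoetherian_of_proper k X
  have cL : Coh.IsCoh L := Groth.Agent.Lib.R2H4VolBasic.isCoh_of_isInvertible L hL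
  haveI : Module.Finite k (Coh.HH X L 0) := Groth.Agent.Lib.R2H1.EulerAdd.finite_HH k X L cL 0
  have hpos : 0 < Groth.Agent.Lib.R2H4H0Growth.h0 k L := Module.finrank_pos
  obtain ⟨s, hs⟩ := Groth.Agent.Lib.R2H4VolBig.exists_section_of_h0_pos k L hpos
  exact absurd (inter_nonneg_of_section k hdim L hL s hs M hM hnef) (not_le.2 hneg)

end Groth.Agent.Lib.R2H4EffNef
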