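import Mathlib
import Groth.Prelude.Def_Grpd

set_option autoImplicit false
universe u
open CategoryTheory CategoryTheory.Limits AlgebraicGeometry

namespace Groth.Agent.Lib.R2H4.EquivRelUnram

/-- `Spec` of a field extension is an epimorphism of schemes. -/
theorem epi_SpecMap_field {K L : Type u} [Field K] [Field L] (φ : K →+* L) :
    Epi (Spec.map (CommRingCat.ofHom φ)) := by
  have h1 : Subsingleton (Spec (CommRingCat.of K)) :=
    inferInstanceAs (Subsingleton (PrimeSpectrum K))
  have h2 : Nonempty (Spec (CommRingCat.of L)) :=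
    inferInstanceAs (Nonempty (PrimeSpectrum L))
  have h3 : IsIntegral (Spec (CommRingCat.of K)) := inferInstance
  have : Surjective (Spec.map (CommRingCat.ofHom φ)) := by
    constructor
    intro x
    obtain ⟨y⟩ := h2
    exact ⟨y, Subsingleton.elim _ _⟩
  exact Flat.epi_of_flat_of_surjective _

/-- a morphism which is injective on points with values in algebraically closed fields is
universally injective. -/
theorem universallyInjective_of_algClosed_points {X Y : Scheme.{u}} (f : X ⟶ Y)
    (h : ∀ (k : Type u) [Field k] [IsAlgClosed k],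
      Function.Injective (fun r : Spec (CommRingCat.of k) ⟶ X => r ≫ f)) :
    UniversallyInjective f := by
  refine ((tfae_universallyInjective f).out 1 0).mp ?_
  intro K _ g₁ g₂ hg
  have := epi_SpecMap_field (algebraMap K (AlgebraicClosure K))
  have h1 := h (AlgebraicClosure K) (a₁ := Spec.map (CommRingCat.ofHom (algebraMap K
    (AlgebraicClosure K))) ≫ g₁) (a₂ := Spec.map (CommRingCat.ofHom (algebraMap K
    (AlgebraicClosure K))) ≫ g₂) (by
      change (_ ≫ g₁) ≫ f = (_ ≫ g₂) ≫ f
      rw [Category.assoc, Category.assoc]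
      exact congrArg (_ ≫ ·) hg)
  exact (cancel_epi _).mp h1

/-- an unramified universally injective morphism is a monomorphism. -/
theorem mono_of_unramified_of_universallyInjective {X Y : Scheme.{u}} (f : X ⟶ Y)
    [FormallyUnramified f] [LocallyOfFiniteType f] [UniversallyInjective f] : Mono f := by
  have h1 : Surjective (pullback.diagonal f) := (UniversallyInjective.iff_diagonal f).mp inferInstance
  have h2 : IsIso (pullback.diagonal f) :=
    (isIso_iff_isOpenImmersion_and_surjective _).mpr ⟨inferInstance, h1⟩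
  exact (pullback.isIso_diagonal_iff f).mp h2

/-- S7514. -/
theorem equivalence_relation_of_unramified {S U R : Scheme.{u}} (pU : U ⟶ S)
    (j : R ⟶ pullback pU pU) [FormallyUnramified (j ≫ pullback.fst pU pU)]
    [LocallyOfFiniteType (j ≫ pullback.fst pU pU)]
    (h₂ : ∀ (k : Type u) [Field k] [IsAlgClosed k],
      Function.Injective (fun r : Spec (CommRingCat.of k) ⟶ R => r ≫ j))
    (e : U ⟶ R) (he : e ≫ j = pullback.lift (𝟙 U) (𝟙 U) rfl) (i : R ⟶ R)
    (hi : i ≫ j = j ≫ (pullbackSymmetry pU pU).hom)
    (c : pullback (j ≫ pullback.snd pU pU) (j ≫ pullback.fst pU pU) ⟶ R)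
    (hc₁ : c ≫ j ≫ pullback.fst pU pU =
      pullback.fst (j ≫ pullback.snd pU pU) (j ≫ pullback.fst pU pU) ≫ j ≫ pullback.fst pU pU)
    (hc₂ : c ≫ j ≫ pullback.snd pU pU =
      pullback.snd (j ≫ pullback.snd pU pU) (j ≫ pullback.fst pU pU) ≫ j ≫ pullback.snd pU pU) :
    Mono j ∧ ∀ T : Scheme.{u}, Equivalence (fun a b : T ⟶ U =>
      ∃ r : T ⟶ R, r ≫ j ≫ pullback.fst pU pU = a ∧ r ≫ j ≫ pullback.snd pU pU = b) := by
  constructor
  · have : FormallyUnramified j := FormallyUnramified.of_comp j (pullback.fst pU pU)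
    have : LocallyOfFiniteType j := locallyOfFiniteType_of_comp j (pullback.fst pU pU)
    have : UniversallyInjective j := universallyInjective_of_algClosed_points j h₂
    exact mono_of_unramified_of_universallyInjective j
  · intro T
    refine ⟨fun a => ⟨a ≫ e, ?_, ?_⟩, ?_, ?_⟩
    · rw [Category.assoc, reassoc_of% he, pullback.lift_fst, Category.comp_id]
    · rw [Category.assoc, reassoc_of% he, pullback.lift_snd, Category.comp_id]
    · rintro a b ⟨r, rfl, rfl⟩
      refine ⟨r ≫ i, ?_, ?_⟩
      · rw [Category.assoc, reassoc_of% hi, pullbackSymmetry_hom_comp_fst]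
      · rw [Category.assoc, reassoc_of% hi, pullbackSymmetry_hom_comp_snd]
    · rintro a b d ⟨r₁, rfl, rfl⟩ ⟨r₂, h1, rfl⟩
      refine ⟨pullback.lift r₁ r₂ (by rw [h1]) ≫ c, ?_, ?_⟩
      · rw [Category.assoc, hc₁, pullback.lift_fst_assoc]
      · rw [Category.assoc, hc₂, pullback.lift_snd_assoc]

end Groth.Agent.Lib.R2H4.EquivRelUnram
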