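/-
Helper library (helper4): for a split epimorphism `g : X ⟶ S` in a category with the relevant wide
pullbacks and any functor `Φ : (Over S)ᵒᵖ ⥤ D` to an abelian category, the cochain complex
`p ↦ Φ(X_p → S)` attached to the Čech nerve of `g` (alternating sums of cofaces) has cohomology
`Φ(S → S)` in degree `0` and vanishing cohomology in the other degrees.  (The Čech nerve of a split
epimorphism has an extra degeneracy, also as a simplicial object over `S`.)
-/
import Mathlib

set_option autoImplicit false

open CategoryTheory CategoryTheory.Limits Opposite Simplicial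

namespace Groth.Agent.Lib.R2H4.SectionRows

universe v u v' u'

variable {𝒞 : Type u} [Category.{v} 𝒞] (g : Arrow 𝒞)
  [∀ n : ℕ, HasWidePullback g.right (fun _ : Fin (n + 1) => g.left) fun _ => g.hom]

/-- The Čech nerve of `g`, as a simplicial object over the target of `g`. -/
noncomputable def overNerve : SimplicialObject (Over g.right) where
  obj Δ := Over.mk (WidePullback.base (fun _ : Fin (Δ.unop.len + 1) => g.hom))
  map θ := Over.homMk (g.cechNerve.map θ) (by
    change g.cechNerve.map θ ≫ WidePullback.base _ = WidePullback.base _
    dsimp [Arrow.cechNerve]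
    exact WidePullback.lift_base _ _ _ _)
  map_id Δ := by
    apply Over.OverMorphism.ext
    exact g.cechNerve.map_id Δ
  map_comp θ θ' := by
    apply Over.OverMorphism.ext
    exact g.cechNerve.map_comp θ θ'

/-- The augmented Čech nerve of `g`, as an augmented simplicial object over the target of `g`. -/
noncomputable def augOverNerve : SimplicialObject.Augmented (Over g.right) where
  left := overNerve g
  right := Over.mk (𝟙 g.right)
  hom :=
    { app := fun Δ => Over.homMk (WidePullback.base (fun _ : Fin (Δ.unop.len + 1) => g.hom))
        (Category.comp_id _)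
      naturality := fun Δ Δ' θ => by
        apply Over.OverMorphism.ext
        change g.cechNerve.map θ ≫ WidePullback.base _ = WidePullback.base _ ≫ 𝟙 _
        dsimp [Arrow.cechNerve]
        rw [Category.comp_id]
        exact WidePullback.lift_base _ _ _ _ }

variable (sp : SplitEpi g.hom)

/-- The extra degeneracy of the augmented Čech nerve of a split epimorphism, over the base. -/
noncomputable def extraDegeneracy :
    SimplicialObject.Augmented.ExtraDegeneracy (augOverNerve g) where
  s' := Over.homMk ((Arrow.AugmentedCechNerve.extraDegeneracy g sp).s') (by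
    have := (Arrow.AugmentedCechNerve.extraDegeneracy g sp).s'_comp_ε
    exact this)
  s n := Over.homMk (Arrow.AugmentedCechNerve.ExtraDegeneracy.s g sp n)
    (Arrow.AugmentedCechNerve.ExtraDegeneracy.s_comp_base g sp n)
  s'_comp_ε := by
    apply Over.OverMorphism.ext
    exact (Arrow.AugmentedCechNerve.extraDegeneracy g sp).s'_comp_ε
  s₀_comp_δ₁ := by
    apply Over.OverMorphism.ext
    exact (Arrow.AugmentedCechNerve.extraDegeneracy g sp).s₀_comp_δ₁
  s_comp_δ₀ n := by
    apply Over.OverMorphism.ext
    exact (Arrow.AugmentedCechNerve.extraDegeneracy g sp).s_comp_δ₀ n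
  s_comp_δ n i := by
    apply Over.OverMorphism.ext
    exact (Arrow.AugmentedCechNerve.extraDegeneracy g sp).s_comp_δ n i
  s_comp_σ n i := by
    apply Over.OverMorphism.ext
    exact (Arrow.AugmentedCechNerve.extraDegeneracy g sp).s_comp_σ n i

section Complex

variable {D : Type u'} [Category.{v'} D] [Abelian D] (Φ : (Over g.right)ᵒᵖ ⥤ D)

/-- The alternating face map complex (in the opposite category) of the image of the Čech nerve
under `Φ`. -/
noncomputable def opComplex : ChainComplex Dᵒᵖ ℕ :=
  AlgebraicTopology.AlternatingFaceMapComplex.obj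
    (SimplicialObject.Augmented.drop.obj
      (((SimplicialObject.Augmented.whiskering _ _).obj Φ.rightOp).obj (augOverNerve g)))

/-- The complex `opComplex` is homotopy equivalent to `Φ(S → S)` in degree `0`. -/
noncomputable def opHomotopyEquiv :
    HomotopyEquiv (opComplex g Φ)
      ((ChainComplex.single₀ Dᵒᵖ).obj (op (Φ.obj (op (Over.mk (𝟙 g.right)))))) :=
  ((extraDegeneracy g sp).map Φ.rightOp).homotopyEquiv

/-- The embedding of the (reversed) shape of `ℕ`-indexed chain complexes into the shape of
`ℤ`-indexed cochain complexes. -/
def emb : (ComplexShape.down ℕ).symm.Embedding (ComplexShape.up ℤ) where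
  f n := (n : ℤ)
  injective_f := Nat.cast_injective
  rel := by
    intro i j h
    change i + 1 = j at h
    change (i : ℤ) + 1 = j
    omega

/-- The cochain complex `p ↦ Φ(X_p → S)` indexed by `ℤ` (zero in negative degrees). -/
noncomputable def row : CochainComplex D ℤ := (opComplex g Φ).unop.extend emb

theorem isZero_row_X (p : ℤ) (hp : p < 0) : IsZero ((row g Φ).X p) := by
  apply HomologicalComplex.isZero_extend_X
  intro i h
  change (i : ℤ) = p at h
  omega

/-- The terms of `row` in nonnegative degrees. -/
noncomputable def rowXIso (n : ℕ) : (row g Φ).X n ≅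
    Φ.obj (op (Over.mk (WidePullback.base (fun _ : Fin (n + 1) => g.hom)))) :=
  HomologicalComplex.extendXIso (opComplex g Φ).unop emb (i := n) rfl

include sp in
theorem nonempty_row_homology_zero_iso :
    Nonempty ((row g Φ).homology 0 ≅ Φ.obj (op (Over.mk (𝟙 g.right)))) := by
  refine ⟨HomologicalComplex.extendHomologyIso (opComplex g Φ).unop emb (j := 0) rfl ≪≫
    (opComplex g Φ).homologyUnop 0 ≪≫ ?_⟩
  exact (((opHomotopyEquiv g sp Φ).toHomologyIso 0 ≪≫
    HomologicalComplex.singleObjHomologySelfIso _ _ _).unop).symm

include sp in
theorem isZero_row_homology (p : ℤ) (hp : p ≠ 0) : IsZero ((row g Φ).homology p) := by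
  by_cases h : p < 0
  · rw [← HomologicalComplex.exactAt_iff_isZero_homology]
    exact ShortComplex.exact_of_isZero_X₂ _ (isZero_row_X g Φ p h)
  · obtain ⟨n, rfl⟩ : ∃ n : ℕ, p = n := ⟨p.toNat, by omega⟩
    have hn : n ≠ 0 := by rintro rfl; exact hp rfl
    refine IsZero.of_iso ?_ (HomologicalComplex.extendHomologyIso (opComplex g Φ).unop emb
      (j := n) rfl ≪≫ (opComplex g Φ).homologyUnop n)
    have h1 : IsZero ((opComplex g Φ).homology n) := by
      refine IsZero.of_iso ?_ ((opHomotopyEquiv g sp Φ).toHomologyIso n)
      rw [← HomologicalComplex.exactAt_iff_isZero_homology]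
      exact HomologicalComplex.exactAt_single_obj _ _ _ _ hn
    exact h1.unop

end Complex

end Groth.Agent.Lib.R2H4.SectionRows
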