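/-
Helper library (helper4): the strict functor `(Y, g) ↦ Ext^q(g^* A, g^* F)` on the opposite of an
over category, attached to a "pull-back system": a family of abelian categories `𝒜 Y` indexed by the
objects of a category, exact pull-back functors `L g : 𝒜 Y ⥤ 𝒜 Y'` for `g : Y' ⟶ Y`, and coherent
composition / unit isomorphisms (the axioms of a pseudofunctor).  The transition maps are induced by
`Abelian.Ext.mapExactFunctor`; strict functoriality follows from the coherence axioms and the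
functoriality properties of `mapExactFunctor` proved in `R2H4ExtFunct`.
-/
import Mathlib
import Groth.Agent.Lib.R2H4ExtFunct

set_option autoImplicit false

open CategoryTheory CategoryTheory.Limits CategoryTheory.Abelian

namespace Groth.Agent.Lib.R2H4.PullExt

open Groth.Agent.Lib.R2H4.ExtFunct

universe w w' w'' v v' v'' u u' u''

section Conj

variable {C : Type u} [Category.{v} C] [Abelian C] [HasExt.{w} C]
variable {D : Type u'} [Category.{v'} D] [Abelian D] [HasExt.{w'} D]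
variable {E : Type u''} [Category.{v''} E] [Abelian E] [HasExt.{w''} E]

/-- The map `Ext^n(A, F) → Ext^n(A', F')` induced by an exact functor `G` and morphisms
`A' ⟶ G A`, `G F ⟶ F'`. -/
noncomputable def conjMap (G : C ⥤ D) [G.Additive] [PreservesFiniteLimits G]
    [PreservesFiniteColimits G] {A F : C} {A' F' : D} (a : A' ⟶ G.obj A) (b : G.obj F ⟶ F')
    (n : ℕ) (e : Ext.{w} A F n) : Ext.{w'} A' F' n :=
  (Ext.mk₀ a).comp ((e.mapExactFunctor G).comp (Ext.mk₀ b) (add_zero n)) (zero_add n)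

theorem conjMap_add (G : C ⥤ D) [G.Additive] [PreservesFiniteLimits G]
    [PreservesFiniteColimits G] {A F : C} {A' F' : D} (a : A' ⟶ G.obj A) (b : G.obj F ⟶ F')
    (n : ℕ) (e e' : Ext.{w} A F n) :
    conjMap G a b n (e + e') = conjMap G a b n e + conjMap G a b n e' := by
  simp [conjMap]

variable [EnoughInjectives C]

theorem conjMap_id {A F : C} (n : ℕ) (e : Ext.{w} A F n) :
    conjMap (𝟭 C) (𝟙 A) (𝟙 F) n e = e := by
  unfold conjMap
  rw [mapExactFunctor_id]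
  simp

theorem conjMap_natIso {G G' : C ⥤ D} [G.Additive] [PreservesFiniteLimits G]
    [PreservesFiniteColimits G] [G'.Additive] [PreservesFiniteLimits G']
    [PreservesFiniteColimits G'] (α : G ≅ G') {A F : C} {A' F' : D} (a : A' ⟶ G'.obj A)
    (b : G'.obj F ⟶ F') (n : ℕ) (e : Ext.{w} A F n) :
    conjMap G' a b n e = conjMap G (a ≫ α.inv.app A) (α.hom.app F ≫ b) n e := by
  unfold conjMap
  rw [mapExactFunctor_natIso α e, ← Ext.mk₀_comp_mk₀, ← Ext.mk₀_comp_mk₀]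
  simp only [Ext.comp_assoc_of_second_deg_zero, Ext.comp_assoc_of_third_deg_zero]

theorem conjMap_conjMap (G : C ⥤ D) [G.Additive] [PreservesFiniteLimits G]
    [PreservesFiniteColimits G] (G₂ : D ⥤ E) [G₂.Additive] [PreservesFiniteLimits G₂]
    [PreservesFiniteColimits G₂] {A F : C} {A' F' : D} {A'' F'' : E}
    (a : A' ⟶ G.obj A) (b : G.obj F ⟶ F') (a₂ : A'' ⟶ G₂.obj A') (b₂ : G₂.obj F' ⟶ F'')
    (n : ℕ) (e : Ext.{w} A F n) :
    conjMap G₂ a₂ b₂ n (conjMap G a b n e) =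
      conjMap (G ⋙ G₂) (a₂ ≫ G₂.map a) (G₂.map b ≫ b₂) n e := by
  unfold conjMap
  rw [mapExactFunctor_comp_functor G G₂ e, Ext.mapExactFunctor_comp, Ext.mapExactFunctor_comp,
    Ext.mapExactFunctor_mk₀, Ext.mapExactFunctor_mk₀, ← Ext.mk₀_comp_mk₀, ← Ext.mk₀_comp_mk₀]
  simp only [Ext.comp_assoc_of_second_deg_zero, Ext.comp_assoc_of_third_deg_zero]

end Conj

section System

universe v₁ u₁ v₂ u₂

variable {𝒞 : Type u₁} [Category.{v₁} 𝒞] (𝒜 : 𝒞 → Type u₂) [∀ Y, Category.{v₂} (𝒜 Y)]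
  [∀ Y, Abelian (𝒜 Y)]

/-- A pull-back system: exact functors `L g : 𝒜 Y ⥤ 𝒜 Y'` for `g : Y' ⟶ Y`, with coherent
composition and unit isomorphisms. -/
structure PullData where
  /-- the pull-back functors -/
  L : ∀ {Y' Y : 𝒞} (_ : Y' ⟶ Y), 𝒜 Y ⥤ 𝒜 Y'
  additive : ∀ {Y' Y : 𝒞} (g : Y' ⟶ Y), (L g).Additive
  lim : ∀ {Y' Y : 𝒞} (g : Y' ⟶ Y), PreservesFiniteLimits (L g)
  colim : ∀ {Y' Y : 𝒞} (g : Y' ⟶ Y), PreservesFiniteColimits (L g)
  /-- the composition isomorphisms -/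
  comp : ∀ {Y'' Y' Y : 𝒞} (h : Y'' ⟶ Y') (g : Y' ⟶ Y) (k : Y'' ⟶ Y) (_ : h ≫ g = k),
    L g ⋙ L h ≅ L k
  /-- the unit isomorphisms -/
  unit : ∀ (Y : 𝒞), L (𝟙 Y) ≅ 𝟭 (𝒜 Y)
  comp_id : ∀ {Y' Y : 𝒞} (g : Y' ⟶ Y),
    comp (𝟙 Y') g g (Category.id_comp g) =
      Functor.isoWhiskerLeft (L g) (unit Y') ≪≫ Functor.rightUnitor (L g)
  assoc : ∀ {Y₃ Y₂ Y₁ Y₀ : 𝒞} (h₃ : Y₃ ⟶ Y₂) (h₂ : Y₂ ⟶ Y₁) (h₁ : Y₁ ⟶ Y₀) (k₂₀ : Y₂ ⟶ Y₀)
    (k₃₁ : Y₃ ⟶ Y₁) (k₃₀ : Y₃ ⟶ Y₀) (w₂₀ : h₂ ≫ h₁ = k₂₀) (w₃₁ : h₃ ≫ h₂ = k₃₁)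
    (w : h₃ ≫ k₂₀ = k₃₀) (w' : k₃₁ ≫ h₁ = k₃₀),
    Functor.isoWhiskerLeft (L h₁) (comp h₃ h₂ k₃₁ w₃₁) ≪≫ comp k₃₁ h₁ k₃₀ w' =
      (Functor.associator _ _ _).symm ≪≫
        Functor.isoWhiskerRight (comp h₂ h₁ k₂₀ w₂₀) (L h₃) ≪≫ comp h₃ k₂₀ k₃₀ w

attribute [instance] PullData.additive PullData.lim PullData.colim

variable {𝒜} [∀ Y, HasExt.{w} (𝒜 Y)] [∀ Y, EnoughInjectives (𝒜 Y)] (P : PullData 𝒜)
  {S : 𝒞} (A F : 𝒜 S) (q : ℕ)

/-- The transition map of `extFunctor`. -/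
noncomputable def extMap {Y' Y : 𝒞} (h : Y' ⟶ Y) (g : Y ⟶ S) (g' : Y' ⟶ S) (hw : h ≫ g = g') :
    Ext.{w} ((P.L g).obj A) ((P.L g).obj F) q →+ Ext.{w} ((P.L g').obj A) ((P.L g').obj F) q :=
  AddMonoidHom.mk' (conjMap (P.L h) ((P.comp h g g' hw).inv.app A) ((P.comp h g g' hw).hom.app F) q)
    (conjMap_add _ _ _ _)

theorem extMap_id {Y : 𝒞} (g : Y ⟶ S)
    (e : Ext.{w} ((P.L g).obj A) ((P.L g).obj F) q) :
    extMap P A F q (𝟙 Y) g g (Category.id_comp g) e = e := by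
  change conjMap _ _ _ q e = e
  refine Eq.trans ?_ (conjMap_id q e)
  refine Eq.trans ?_ (conjMap_natIso (P.unit Y) (𝟙 _) (𝟙 _) q e).symm
  rw [P.comp_id g]
  simp

theorem extMap_comp {Y'' Y' Y : 𝒞} (h' : Y'' ⟶ Y') (h : Y' ⟶ Y) (g : Y ⟶ S) (g' : Y' ⟶ S)
    (g'' : Y'' ⟶ S) (hw : h ≫ g = g') (hw' : h' ≫ g' = g'')
    (e : Ext.{w} ((P.L g).obj A) ((P.L g).obj F) q) :
    extMap P A F q (h' ≫ h) g g'' (by rw [Category.assoc, hw, hw']) e =
      extMap P A F q h' g' g'' hw' (extMap P A F q h g g' hw e) := by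
  change conjMap _ _ _ q e = conjMap _ _ _ q (conjMap _ _ _ q e)
  rw [conjMap_conjMap, conjMap_natIso (P.comp h' h (h' ≫ h) rfl)]
  have hass := P.assoc h' h g g' (h' ≫ h) g'' hw rfl hw' (by rw [Category.assoc, hw, hw'])
  have h1 := congrArg (fun i => i.hom.app F) hass
  have h2 := congrArg (fun i => i.inv.app A) hass
  simp only [Iso.trans_hom, Iso.trans_inv, NatTrans.comp_app, Functor.isoWhiskerLeft_hom,
    Functor.isoWhiskerLeft_inv, Functor.whiskerLeft_app, Iso.symm_hom, Iso.symm_inv,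
    Functor.associator_inv_app, Functor.associator_hom_app, Functor.isoWhiskerRight_hom,
    Functor.isoWhiskerRight_inv, Functor.whiskerRight_app, Category.id_comp,
    Category.comp_id, Category.assoc] at h1 h2
  congr 1

/-- The functor `(Y, g) ↦ Ext^q(g^* A, g^* F)` on the opposite of the over category of `S`. -/
noncomputable def extFunctor : (Over S)ᵒᵖ ⥤ AddCommGrpCat.{w} where
  obj Z := AddCommGrpCat.of (Ext.{w} ((P.L Z.unop.hom).obj A) ((P.L Z.unop.hom).obj F) q)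
  map {Z Z'} φ := AddCommGrpCat.ofHom
    (extMap P A F q φ.unop.left Z.unop.hom Z'.unop.hom (Over.w φ.unop))
  map_id Z := by
    ext e
    exact extMap_id P A F q Z.unop.hom e
  map_comp {Z Z' Z''} φ ψ := by
    ext e
    exact extMap_comp P A F q ψ.unop.left φ.unop.left Z.unop.hom Z'.unop.hom Z''.unop.hom
      (Over.w φ.unop) (Over.w ψ.unop) e

end System

end Groth.Agent.Lib.R2H4.PullExt
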