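/-
Helper library (helper4): a pull-back system (`PullData`, see `R2H4PullExt`) obtained from a
"push-forward system" (right adjoints with coherent composition isomorphisms) by passing to left
adjoints, through Mathlib's `Adjunction.leftAdjointCompIso`.
-/
import Mathlib
import Groth.Agent.Lib.R2H4PullExt

set_option autoImplicit false

open CategoryTheory CategoryTheory.Limits

namespace Groth.Agent.Lib.R2H4.PullAdj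

open Groth.Agent.Lib.R2H4.PullExt

universe v₁ u₁ v₂ u₂

variable {𝒞 : Type u₁} [Category.{v₁} 𝒞] (𝒜 : 𝒞 → Type u₂) [∀ Y, Category.{v₂} (𝒜 Y)]

/-- A push-forward system: functors `R g : 𝒜 Y' ⥤ 𝒜 Y` for `g : Y' ⟶ Y`, with coherent
composition and unit isomorphisms. -/
structure PushData where
  /-- the push-forward functors -/
  R : ∀ {Y' Y : 𝒞} (_ : Y' ⟶ Y), 𝒜 Y' ⥤ 𝒜 Y
  /-- the composition isomorphisms -/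
  comp : ∀ {Y'' Y' Y : 𝒞} (h : Y'' ⟶ Y') (g : Y' ⟶ Y) (k : Y'' ⟶ Y) (_ : h ≫ g = k),
    R h ⋙ R g ≅ R k
  /-- the unit isomorphisms -/
  unit : ∀ (Y : 𝒞), R (𝟙 Y) ≅ 𝟭 (𝒜 Y)
  comp_id : ∀ {Y' Y : 𝒞} (g : Y' ⟶ Y),
    comp (𝟙 Y') g g (Category.id_comp g) =
      Functor.isoWhiskerRight (unit Y') (R g) ≪≫ Functor.leftUnitor (R g)
  assoc : ∀ {Y₃ Y₂ Y₁ Y₀ : 𝒞} (h₃ : Y₃ ⟶ Y₂) (h₂ : Y₂ ⟶ Y₁) (h₁ : Y₁ ⟶ Y₀) (k₂₀ : Y₂ ⟶ Y₀)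
    (k₃₁ : Y₃ ⟶ Y₁) (k₃₀ : Y₃ ⟶ Y₀) (w₂₀ : h₂ ≫ h₁ = k₂₀) (w₃₁ : h₃ ≫ h₂ = k₃₁)
    (w : h₃ ≫ k₂₀ = k₃₀) (w' : k₃₁ ≫ h₁ = k₃₀),
    Functor.isoWhiskerLeft (R h₃) (comp h₂ h₁ k₂₀ w₂₀) ≪≫ comp h₃ k₂₀ k₃₀ w =
      (Functor.associator _ _ _).symm ≪≫
        Functor.isoWhiskerRight (comp h₃ h₂ k₃₁ w₃₁) (R h₁) ≪≫ comp k₃₁ h₁ k₃₀ w'

variable {𝒜} [∀ Y, Abelian (𝒜 Y)]

/-- The pull-back system of left adjoints of a push-forward system. -/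
noncomputable def PushData.toPullData (Rd : PushData 𝒜)
    (L : ∀ {Y' Y : 𝒞} (_ : Y' ⟶ Y), 𝒜 Y ⥤ 𝒜 Y')
    (adj : ∀ {Y' Y : 𝒞} (g : Y' ⟶ Y), L g ⊣ Rd.R g)
    (hadd : ∀ {Y' Y : 𝒞} (g : Y' ⟶ Y), (L g).Additive)
    (hlim : ∀ {Y' Y : 𝒞} (g : Y' ⟶ Y), PreservesFiniteLimits (L g))
    (hcolim : ∀ {Y' Y : 𝒞} (g : Y' ⟶ Y), PreservesFiniteColimits (L g)) : PullData 𝒜 where
  L := L
  additive := hadd
  lim := hlim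
  colim := hcolim
  comp h g k w := Adjunction.leftAdjointCompIso (adj g) (adj h) (adj k) (Rd.comp h g k w)
  unit Y := Adjunction.leftAdjointIdIso (adj (𝟙 Y)) (Rd.unit Y)
  comp_id g := Adjunction.leftAdjointCompIso_comp_id _ _ _ _ (Rd.comp_id g)
  assoc h₃ h₂ h₁ k₂₀ k₃₁ k₃₀ w₂₀ w₃₁ w w' :=
    Adjunction.leftAdjointCompIso_assoc _ _ _ _ _ _ _ _ _ _
      (Rd.assoc h₃ h₂ h₁ k₂₀ k₃₁ k₃₀ w₂₀ w₃₁ w w')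

end Groth.Agent.Lib.R2H4.PullAdj
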