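/-
Helper library (helper4): the pull-back system of abelian sheaves on topological spaces
(inverse images `CohTop.pull`), obtained from the strictly functorial direct images; the inverse
image of a constant sheaf is constant; isomorphic arguments give isomorphic Ext groups.
-/
import Mathlib
import Groth.Prelude.Def_CohPull
import Groth.Agent.Lib.R2H4PullAdj

set_option autoImplicit false

open CategoryTheory CategoryTheory.Limits Opposite TopologicalSpace

namespace Groth.Agent.Lib.R2H4.TopPull

open Groth.Agent.Lib.R2H4.PullExt Groth.Agent.Lib.R2H4.PullAdj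

universe w v u

section ExtIso

variable {C : Type u} [Category.{v} C] [Abelian C] [HasExt.{w} C]

/-- Isomorphic arguments give isomorphic Ext groups. -/
noncomputable def extAddEquivOfIso {A A' F F' : C} (a : A' ≅ A) (b : F ≅ F') (q : ℕ) :
    Abelian.Ext.{w} A F q ≃+ Abelian.Ext.{w} A' F' q where
  toFun e := (Abelian.Ext.mk₀ a.hom).comp (e.comp (Abelian.Ext.mk₀ b.hom) (add_zero q)) (zero_add q)
  invFun e := (Abelian.Ext.mk₀ a.inv).comp (e.comp (Abelian.Ext.mk₀ b.inv) (add_zero q)) (zero_add q)
  left_inv e := by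
    simp only [Abelian.Ext.comp_assoc_of_third_deg_zero, Abelian.Ext.mk₀_comp_mk₀,
      Iso.hom_inv_id, Abelian.Ext.comp_mk₀_id]
    rw [← Abelian.Ext.comp_assoc (Abelian.Ext.mk₀ a.inv) (Abelian.Ext.mk₀ a.hom) e (zero_add 0)
      (zero_add q) (by omega), Abelian.Ext.mk₀_comp_mk₀, Iso.inv_hom_id, Abelian.Ext.mk₀_id_comp]
  right_inv e := by
    simp only [Abelian.Ext.comp_assoc_of_third_deg_zero, Abelian.Ext.mk₀_comp_mk₀,
      Iso.inv_hom_id, Abelian.Ext.comp_mk₀_id]
    rw [← Abelian.Ext.comp_assoc (Abelian.Ext.mk₀ a.hom) (Abelian.Ext.mk₀ a.inv) e (zero_add 0)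
      (zero_add q) (by omega), Abelian.Ext.mk₀_comp_mk₀, Iso.hom_inv_id, Abelian.Ext.mk₀_id_comp]
  map_add' e e' := by simp

end ExtIso

section Top

universe u'

/-- Direct image along the identity. -/
noncomputable def pushId (Y : TopCat.{u'}) : CohTop.push (𝟙 Y) ≅ 𝟭 (CohTop.Ab Y) :=
  NatIso.ofComponents
    (fun F => eqToIso (show (CohTop.push (𝟙 Y)).obj F = (𝟭 (CohTop.Ab Y)).obj F from rfl))
    (fun {F G} φ => by simp; rfl)

/-- Direct image along a composition. -/
noncomputable def pushComp {Y'' Y' Y : TopCat.{u'}} (h : Y'' ⟶ Y') (g : Y' ⟶ Y) (k : Y'' ⟶ Y)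
    (w : h ≫ g = k) : CohTop.push h ⋙ CohTop.push g ≅ CohTop.push k :=
  NatIso.ofComponents (fun F => eqToIso (by subst w; rfl))
    (fun {F G} φ => by subst w; simp; rfl)

/-- Direct images of abelian sheaves on topological spaces compose strictly. -/
noncomputable def pushData :
    PushData.{u', u' + 1, u', u' + 1} (𝒞 := TopCat.{u'}) (fun Y => CohTop.Ab Y) where
  R g := CohTop.push g
  comp h g k w := pushComp h g k w
  unit Y := pushId Y
  comp_id g := by
    ext F : 3
    simp [pushComp, pushId, eqToHom_map]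
  assoc h₃ h₂ h₁ k₂₀ k₃₁ k₃₀ w₂₀ w₃₁ w w' := by
    subst w₂₀ w₃₁ w
    ext F : 3
    simp [pushComp, eqToHom_map]

/-- The pull-back system of abelian sheaves on topological spaces. -/
noncomputable def pullData :
    PullData.{u', u' + 1, u', u' + 1} (𝒞 := TopCat.{u'}) (fun Y => CohTop.Ab Y) :=
  PushData.toPullData pushData.{u'} (fun {Y' Y : TopCat.{u'}} (g : Y' ⟶ Y) => CohTop.pull g)
    (fun {Y' Y : TopCat.{u'}} (g : Y' ⟶ Y) =>
      (TopCat.Sheaf.pullbackPushforwardAdjunction AddCommGrpCat.{u'} g :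
        CohTop.pull g ⊣ CohTop.push g))
    (fun g => CohPull.additive_pull g) (fun g => CohPull.preservesFiniteLimits_pull g)
    (fun g => CohPull.preservesFiniteColimits_pull g)

/-- Global sections of abelian sheaves on a topological space. -/
noncomputable abbrev gsec (Y : TopCat.{u'}) : CohTop.Ab Y ⥤ AddCommGrpCat.{u'} :=
  (sheafSections (Opens.grothendieckTopology Y) AddCommGrpCat.{u'}).obj (op ⊤)

/-- Direct image followed by global sections is global sections. -/
noncomputable def pushGsecIso {Y S : TopCat.{u'}} (g : Y ⟶ S) :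
    CohTop.push g ⋙ gsec S ≅ gsec Y :=
  NatIso.ofComponents
    (fun F => (F.obj.mapIso (eqToIso (TopologicalSpace.Opens.map_top g)).op).symm)
    (fun {F G} φ => by
      simp only [Functor.comp_map, Iso.symm_hom, Functor.mapIso_inv, Iso.op_inv]
      exact (φ.hom.naturality _).symm)

/-- The inverse image of a constant sheaf is constant. -/
noncomputable def pullConstIso {Y S : TopCat.{u'}} (g : Y ⟶ S) :
    constantSheaf (Opens.grothendieckTopology S) AddCommGrpCat.{u'} ⋙ CohTop.pull g ≅
      constantSheaf (Opens.grothendieckTopology Y) AddCommGrpCat.{u'} :=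
  Adjunction.leftAdjointUniq
    (((CohPull.adjZ S).comp
      (TopCat.Sheaf.pullbackPushforwardAdjunction AddCommGrpCat.{u'} g)).ofNatIsoRight
        (pushGsecIso g)) (CohPull.adjZ Y)

end Top

end Groth.Agent.Lib.R2H4.TopPull
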