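import Mathlib
import Groth.Agent.Lib.H9Slice

/-!
# An étale neighbourhood is dominated, Zariski locally, by a finite locally free cover
(helper4, round 2)

* `exists_splitting_algebra`: a monic polynomial splits into linear factors over a finite free
  extension (iterated `AdjoinRoot`).
* `exists_common_field`, `exists_root_index`: over the splitting algebra `A'` of the polynomial of
  a standard étale chart `B`, each prime of `A'` over the image of a prime `Q` of `B` is hit by a
  chart map `B → A'[1/g(a i)]`, `x ↦ a i`, pulling it back to `Q`.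
* `exists_standard_chart` (Mathlib's `Algebra.IsEtaleAt.exists_isStandardEtale`), `main1390`
  (= S1390).
-/

set_option autoImplicit false
set_option linter.style.haveILetI false
universe u
open CategoryTheory CategoryTheory.Limits AlgebraicGeometry TopologicalSpace
open Polynomial TensorProduct

namespace Groth.Agent.Lib.R2H4.EtDomFin


/-- the coefficient ring embeds into `AdjoinRoot f` for `f` monic of positive degree -/
theorem adjoinRoot_of_injective {A : Type u} [CommRing A] (f : A[X]) (hf : f.Monic)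
    (hd : 0 < f.natDegree) : Function.Injective (AdjoinRoot.of f) := by
  rw [injective_iff_map_eq_zero]
  intro a ha
  by_contra hne
  rw [AdjoinRoot.of, RingHom.comp_apply, AdjoinRoot.mk_eq_zero] at ha
  have hC : (C a : A[X]) ≠ 0 := fun h => hne (C_eq_zero.mp h)
  haveI : Nontrivial A := ⟨⟨a, 0, hne⟩⟩
  refine hf.not_dvd_of_degree_lt hC ?_ ha
  rw [degree_C hne, degree_eq_natDegree hf.ne_zero]
  exact_mod_cast hd

/-- **Splitting algebra** of a monic polynomial: a finite free extension over which the polynomial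
is a product of linear factors. -/
theorem exists_splitting_algebra (d : ℕ) : ∀ (A : Type u) [CommRing A] (f : A[X]), f.Monic →
    f.natDegree = d →
    ∃ (A' : Type u) (_ : CommRing A') (_ : Algebra A A'), Module.Free A A' ∧ Module.Finite A A' ∧
      Function.Injective (algebraMap A A') ∧
      ∃ a : Fin d → A', f.map (algebraMap A A') = ∏ i, (X - C (a i)) := by
  induction d with
  | zero =>
    intro A _ f hf hd
    refine ⟨A, inferInstance, Algebra.id A, inferInstance, inferInstance, Function.injective_id,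
      fun i => i.elim0, ?_⟩
    rw [Algebra.algebraMap_self, Polynomial.map_id, Finset.univ_eq_empty, Finset.prod_empty]
    exact hf.natDegree_eq_zero.mp hd
  | succ d ih =>
    intro A _ f hf hd
    have hpos : 0 < f.natDegree := by omega
    let A₁ := AdjoinRoot f
    haveI : Module.Free A A₁ := hf.free_adjoinRoot
    haveI : Module.Finite A A₁ := hf.finite_adjoinRoot
    let α : A₁ := AdjoinRoot.root f
    let f' : A₁[X] := f.map (algebraMap A A₁)
    have hf' : f'.Monic := hf.map _
    have hroot : f'.IsRoot α := by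
      change eval α (f.map (AdjoinRoot.of f)) = 0
      rw [Polynomial.eval_map, AdjoinRoot.eval₂_root]
    haveI : Nontrivial A := by
      by_contra hnt
      rw [not_nontrivial_iff_subsingleton] at hnt
      have : f.natDegree = 0 := by
        rw [Subsingleton.elim f 0]; simp
      omega
    haveI : Nontrivial A₁ := (adjoinRoot_of_injective f hf hpos).nontrivial
    let f₁ : A₁[X] := f' /ₘ (X - C α)
    have hmul : (X - C α) * f₁ = f' := mul_divByMonic_eq_iff_isRoot.mpr hroot
    have hf₁ : f₁.Monic := (monic_X_sub_C α).of_mul_monic_left (hmul ▸ hf')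
    have hd₁ : f₁.natDegree = d := by
      have h1 : f'.natDegree = d + 1 := by
        have h2 : f'.natDegree = f.natDegree := hf.natDegree_map _
        omega
      have h3 := (monic_X_sub_C α).natDegree_mul hf₁
      rw [hmul, natDegree_X_sub_C, h1] at h3
      omega
    obtain ⟨A', _, algA', hfree, hfin, hinj, a, ha⟩ := ih A₁ f₁ hf₁ hd₁
    letI : Algebra A A' := ((algebraMap A₁ A').comp (algebraMap A A₁)).toAlgebra
    haveI : IsScalarTower A A₁ A' := IsScalarTower.of_algebraMap_eq (fun _ => rfl)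
    refine ⟨A', inferInstance, inferInstance, Module.Free.trans (R := A) (S := A₁) (M := A'),
      Module.Finite.trans A₁ A', hinj.comp (adjoinRoot_of_injective f hf hpos),
      Fin.cons (algebraMap A₁ A' α) a, ?_⟩
    have h4 : f.map (algebraMap A A') = (f'.map (algebraMap A₁ A')) := by
      rw [Polynomial.map_map]
      rfl
    rw [h4, ← hmul, Polynomial.map_mul, ha, Fin.prod_univ_succ]
    simp




/-- two primes over the same prime of the base are kernels of maps to a common field -/
theorem exists_common_field (A B A' : Type u) [CommRing A] [CommRing B] [CommRing A']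
    [Algebra A B] [Algebra A A'] (Q : Ideal B) [Q.IsPrime] (t : Ideal A') [t.IsPrime]
    (h : Q.comap (algebraMap A B) = t.comap (algebraMap A A')) :
    ∃ (K : Type u) (_ : Field K) (ιQ : B →+* K) (ιt : A' →+* K), RingHom.ker ιQ = Q ∧
      RingHom.ker ιt = t ∧ ιQ.comp (algebraMap A B) = ιt.comp (algebraMap A A') := by
  set p : Ideal A := Q.comap (algebraMap A B) with hp
  haveI : p.IsPrime := Ideal.comap_isPrime _ _
  let mQ : p.ResidueField →+* Q.ResidueField := Ideal.ResidueField.map p Q (algebraMap A B) rfl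
  let mt : p.ResidueField →+* t.ResidueField := Ideal.ResidueField.map p t (algebraMap A A') h
  letI algQ : Algebra p.ResidueField Q.ResidueField := mQ.toAlgebra
  letI algt : Algebra p.ResidueField t.ResidueField := mt.toAlgebra
  let T := Q.ResidueField ⊗[p.ResidueField] t.ResidueField
  haveI : Nontrivial T :=
    Algebra.TensorProduct.nontrivial_of_algebraMap_injective_of_flat_left _ _ _ mt.injective
  obtain ⟨m, hm⟩ := Ideal.exists_maximal T
  letI : Field (T ⧸ m) := Ideal.Quotient.field m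
  let jQ : Q.ResidueField →+* (T ⧸ m) :=
    (Ideal.Quotient.mk m).comp (Algebra.TensorProduct.includeLeft :
      Q.ResidueField →ₐ[p.ResidueField] T).toRingHom
  let jt : t.ResidueField →+* (T ⧸ m) :=
    (Ideal.Quotient.mk m).comp (Algebra.TensorProduct.includeRight :
      t.ResidueField →ₐ[p.ResidueField] T).toRingHom
  refine ⟨T ⧸ m, inferInstance, jQ.comp (algebraMap B Q.ResidueField),
    jt.comp (algebraMap A' t.ResidueField), ?_, ?_, ?_⟩
  · rw [← RingHom.comap_ker, (RingHom.injective_iff_ker_eq_bot jQ).mp jQ.injective]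
    exact Ideal.ker_algebraMap_residueField Q
  · rw [← RingHom.comap_ker, (RingHom.injective_iff_ker_eq_bot jt).mp jt.injective]
    exact Ideal.ker_algebraMap_residueField t
  · ext a
    simp only [RingHom.comp_apply]
    have h1 : algebraMap B Q.ResidueField (algebraMap A B a) =
        mQ (algebraMap A p.ResidueField a) :=
      (Ideal.ResidueField.map_algebraMap p Q (algebraMap A B) rfl a).symm
    have h2 : algebraMap A' t.ResidueField (algebraMap A A' a) =
        mt (algebraMap A p.ResidueField a) :=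
      (Ideal.ResidueField.map_algebraMap p t (algebraMap A A') h a).symm
    rw [h1, h2]
    change Ideal.Quotient.mk m ((Algebra.TensorProduct.includeLeft :
        Q.ResidueField →ₐ[p.ResidueField] T) (algebraMap p.ResidueField Q.ResidueField
          (algebraMap A p.ResidueField a))) =
      Ideal.Quotient.mk m ((Algebra.TensorProduct.includeRight :
        t.ResidueField →ₐ[p.ResidueField] T) (algebraMap p.ResidueField t.ResidueField
          (algebraMap A p.ResidueField a)))
    rw [AlgHom.commutes, AlgHom.commutes]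

/-- **Key step**: over a splitting algebra `A'` of the monic polynomial of a standard étale chart
`B`, every prime `t` of `A'` over the image of a prime `Q` of `B` admits a root `a i` such that the
chart map `B → A'[1/g(a i)]`, `x ↦ a i`, pulls (the prime corresponding to) `t` back to `Q`. -/
theorem exists_root_index (A B A' : Type u) [CommRing A] [CommRing B] [CommRing A'] [Algebra A B]
    [Algebra A A'] (PB : StandardEtalePresentation A B) (d : ℕ) (a : Fin d → A')
    (ha : PB.f.map (algebraMap A A') = ∏ i, (X - C (a i)))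
    (Q : Ideal B) [Q.IsPrime] (t : Ideal A') [t.IsPrime]
    (hQt : Q.comap (algebraMap A B) = t.comap (algebraMap A A')) :
    ∃ i : Fin d, aeval (a i) PB.g ∉ t ∧
      ∀ (L : Type u) [CommRing L] [Algebra A' L] [Algebra A L] [IsScalarTower A A' L]
        [IsLocalization.Away (aeval (a i) PB.g) L],
        ∃ (φ : B →ₐ[A] L) (t' : Ideal L), t'.IsPrime ∧ t'.comap (algebraMap A' L) = t ∧
          t'.comap φ.toRingHom = Q := by
  obtain ⟨K, _, ιQ, ιt, hkQ, hkt, hcompat⟩ := exists_common_field A B A' Q t hQt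
  set ξ : K := ιQ PB.x with hξ
  -- `ξ` is a root of `f`
  have hf0 : eval₂ (ιQ.comp (algebraMap A B)) ξ PB.f = 0 := by
    rw [← Polynomial.hom_eval₂]
    have h1 : eval₂ (algebraMap A B) PB.x PB.f = 0 := PB.hasMap.1
    rw [h1, map_zero]
  have hprod : ∏ i, (ξ - ιt (a i)) = 0 := by
    rw [hcompat, ← Polynomial.eval₂_map, ← Polynomial.eval_map, ha, Polynomial.map_prod,
      Polynomial.eval_prod] at hf0
    simpa using hf0
  obtain ⟨i, -, hi⟩ := Finset.prod_eq_zero_iff.mp hprod
  have hξi : ξ = ιt (a i) := sub_eq_zero.mp hi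
  -- `g(a i)` is not in `t`
  have hg : ιt (aeval (a i) PB.g) ≠ 0 := by
    have h1 : ιt (aeval (a i) PB.g) = eval₂ (ιt.comp (algebraMap A A')) (ιt (a i)) PB.g :=
      Polynomial.hom_eval₂ _ _ _ _
    have h2 : eval₂ (ιQ.comp (algebraMap A B)) ξ PB.g = ιQ (aeval PB.x PB.g) :=
      (Polynomial.hom_eval₂ _ _ _ _).symm
    rw [h1, ← hcompat, ← hξi, h2]
    exact (PB.hasMap.2.map ιQ).ne_zero
  refine ⟨i, fun hmem => hg ?_, ?_⟩
  · have : aeval (a i) PB.g ∈ RingHom.ker ιt := hkt ▸ hmem
    exact this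
  intro L _ _ _ _ _
  set r : A' := aeval (a i) PB.g with hr
  have hu : IsUnit (ιt r) := isUnit_iff_ne_zero.mpr hg
  let ιt' : L →+* K := IsLocalization.Away.lift r hu
  have hιt' : ιt'.comp (algebraMap A' L) = ιt := IsLocalization.Away.lift_comp r hu
  -- the chart map
  set y : L := algebraMap A' L (a i) with hy
  have hy1 : aeval y PB.f = 0 := by
    have h1 : aeval y PB.f = algebraMap A' L (aeval (a i) PB.f) :=
      Polynomial.aeval_algebraMap_apply L (a i) PB.f
    have h2 : aeval (a i) PB.f = 0 := by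
      rw [← Polynomial.eval_map_algebraMap, ha, Polynomial.eval_prod]
      exact Finset.prod_eq_zero (Finset.mem_univ i) (by simp)
    rw [h1, h2, map_zero]
  have hy2 : IsUnit (aeval y PB.g) := by
    have h1 : aeval y PB.g = algebraMap A' L r :=
      Polynomial.aeval_algebraMap_apply L (a i) PB.g
    rw [h1]
    exact IsLocalization.Away.algebraMap_isUnit r
  let φ : B →ₐ[A] L := (PB.P.lift y ⟨hy1, hy2⟩).comp PB.equivRing.toAlgHom
  have hφx : φ PB.x = y := by
    change PB.P.lift y ⟨hy1, hy2⟩ (PB.equivRing PB.x) = y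
    have h1 : PB.equivRing PB.x = PB.P.X := by
      rw [← PB.equivRing_symm_X, AlgEquiv.apply_symm_apply]
    rw [h1, StandardEtalePair.lift_X]
  refine ⟨φ, RingHom.ker ιt', RingHom.ker_isPrime ιt', ?_, ?_⟩
  · rw [RingHom.comap_ker, hιt', hkt]
  · rw [RingHom.comap_ker, ← hkQ]
    congr 1
    -- both maps are `A`-algebra maps `B → K` agreeing at `x`
    letI algK : Algebra A K := (ιQ.comp (algebraMap A B)).toAlgebra
    let ψ₁ : B →ₐ[A] K := { ιQ with commutes' := fun _ => rfl }
    let ψ₂ : B →ₐ[A] K :=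
      { ιt'.comp φ.toRingHom with
        commutes' := fun c => by
          change ιt' (φ (algebraMap A B c)) = ιQ (algebraMap A B c)
          rw [φ.commutes, IsScalarTower.algebraMap_apply A A' L]
          have h1 : ιt' (algebraMap A' L (algebraMap A A' c)) = ιt (algebraMap A A' c) :=
            congrArg (fun ψ => ψ (algebraMap A A' c)) hιt'
          rw [h1]
          exact (congrArg (fun ψ => ψ c) hcompat).symm }
    have hψ : ψ₂ = ψ₁ := by
      have h1 : ψ₂.comp PB.equivRing.symm.toAlgHom = ψ₁.comp PB.equivRing.symm.toAlgHom := by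
        apply StandardEtalePair.hom_ext
        change ιt' (φ (PB.equivRing.symm PB.P.X)) = ιQ (PB.equivRing.symm PB.P.X)
        rw [PB.equivRing_symm_X, hφx]
        have h2 : ιt' (algebraMap A' L (a i)) = ιt (a i) :=
          congrArg (fun ψ => ψ (a i)) hιt'
        rw [hy, h2, ← hξi]
      ext b
      have h3 := congrArg (fun ψ => ψ (PB.equivRing b)) h1
      simpa using h3
    exact congrArg (fun ψ : B →ₐ[A] K => ψ.toRingHom) hψ





variable {U S : Scheme.{u}}

set_option maxHeartbeats 1600000 in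
/-- a standard étale chart around a point of an étale morphism -/
theorem exists_standard_chart (e : U ⟶ S) [Etale e] (u : U) :
    ∃ (V₀ : S.Opens) (hV₀ : IsAffineOpen V₀) (U₁ : U.Opens) (hU₁ : IsAffineOpen U₁) (hu : u ∈ U₁)
      (hUV : U₁ ≤ e ⁻¹ᵁ V₀),
      letI := (e.appLE V₀ U₁ hUV).hom.toAlgebra
      Algebra.IsStandardEtale Γ(S, V₀) Γ(U, U₁) := by
  obtain ⟨_, ⟨V₀, hV₀, rfl⟩, hsV₀, -⟩ :=
    S.isBasis_affineOpens.exists_subset_of_mem_open (Set.mem_univ (e u)) isOpen_univ
  obtain ⟨_, ⟨U₀, hU₀, rfl⟩, huU₀, hUV⟩ :=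
    U.isBasis_affineOpens.exists_subset_of_mem_open (show u ∈ e ⁻¹ᵁ V₀ from hsV₀) (e ⁻¹ᵁ V₀).2
  have huU₀' : u ∈ U₀ := huU₀
  have hUV' : U₀ ≤ e ⁻¹ᵁ V₀ := hUV
  letI algAB : Algebra Γ(S, V₀) Γ(U, U₀) := (e.appLE V₀ U₀ hUV').hom.toAlgebra
  haveI hEt : Algebra.Etale Γ(S, V₀) Γ(U, U₀) :=
    HasRingHomProperty.appLE (P := @Etale) e inferInstance ⟨V₀, hV₀⟩ ⟨U₀, hU₀⟩ hUV'
  set Q₀ : Ideal Γ(U, U₀) := (hU₀.primeIdealOf ⟨u, huU₀'⟩).asIdeal with hQ₀
  haveI : Q₀.IsPrime := (hU₀.primeIdealOf ⟨u, huU₀'⟩).isPrime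
  haveI : Algebra.IsEtaleAt Γ(S, V₀) Q₀ := by
    have h1 : Algebra.etaleLocus Γ(S, V₀) Γ(U, U₀) = Set.univ :=
      Algebra.etaleLocus_eq_univ_iff_etale.mpr hEt
    have h2 : (⟨Q₀, inferInstance⟩ : PrimeSpectrum Γ(U, U₀)) ∈
        Algebra.etaleLocus Γ(S, V₀) Γ(U, U₀) := h1 ▸ Set.mem_univ _
    exact h2
  obtain ⟨b, hbQ, hstd⟩ := Algebra.IsEtaleAt.exists_isStandardEtale (R := Γ(S, V₀)) Q₀
  have hub : u ∈ U.basicOpen b :=
    (Groth.Agent.Lib.H9Slice.notMem_primeIdealOf_iff hU₀ u huU₀' b).mp hbQ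
  set U₁ : U.Opens := U.basicOpen b with hU₁def
  have hU₁ : IsAffineOpen U₁ := hU₀.basicOpen b
  have hU₁U₀ : U₁ ≤ U₀ := U.basicOpen_le b
  have hU₁V : U₁ ≤ e ⁻¹ᵁ V₀ := hU₁U₀.trans hUV'
  refine ⟨V₀, hV₀, U₁, hU₁, hub, hU₁V, ?_⟩
  letI algBL : Algebra Γ(U, U₀) Γ(U, U₁) := (U.presheaf.map (homOfLE hU₁U₀).op).hom.toAlgebra
  letI algAL : Algebra Γ(S, V₀) Γ(U, U₁) := (e.appLE V₀ U₁ hU₁V).hom.toAlgebra
  haveI : IsScalarTower Γ(S, V₀) Γ(U, U₀) Γ(U, U₁) := by
    refine IsScalarTower.of_algebraMap_eq (fun a => ?_)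
    have h3 : e.appLE V₀ U₁ hU₁V = e.appLE V₀ U₀ hUV' ≫ U.presheaf.map (homOfLE hU₁U₀).op :=
      (Scheme.Hom.appLE_map e hUV' (homOfLE hU₁U₀).op).symm
    change (e.appLE V₀ U₁ hU₁V).hom a = _
    rw [h3]
    rfl
  haveI : IsLocalization.Away b Γ(U, U₁) := hU₀.isLocalization_basicOpen b
  let ε : Localization.Away b ≃ₐ[Γ(U, U₀)] Γ(U, U₁) :=
    IsLocalization.algEquiv (Submonoid.powers b) _ _
  exact Algebra.IsStandardEtale.of_equiv (ε.restrictScalars Γ(S, V₀))

set_option maxHeartbeats 3200000 in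
theorem main1390 (e : U ⟶ S) [Etale e] (u : U) (s : S) (hu : e u = s) :
    ∃ (V : S.Opens) (T : Scheme.{u}) (π : T ⟶ (V : Scheme.{u})), s ∈ V ∧ IsAffineOpen V ∧
      Surjective π ∧ IsFinite π ∧ Flat π ∧ LocallyOfFinitePresentation π ∧
      ∀ t : T, V.ι (π t) = s → ∃ (W : T.Opens) (h : (W : Scheme.{u}) ⟶ U), t ∈ W ∧
        h ≫ e = W.ι ≫ π ≫ V.ι ∧ ∀ ht : t ∈ W, h ⟨t, ht⟩ = u := by
  subst hu
  obtain ⟨V₀, hV₀, U₁, hU₁, huU₁, hUV, hstd⟩ := exists_standard_chart e u
  letI algAB : Algebra Γ(S, V₀) Γ(U, U₁) := (e.appLE V₀ U₁ hUV).hom.toAlgebra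
  obtain ⟨PB⟩ := hstd.nonempty_standardEtalePresentation
  obtain ⟨A', _, algA', hfree, hfin, hinj, a, ha⟩ :=
    exists_splitting_algebra PB.f.natDegree Γ(S, V₀) PB.f PB.monic_f rfl
  have hsV₀ : e u ∈ V₀ := hUV huU₁
  set φA : Γ(S, V₀) ⟶ CommRingCat.of A' := CommRingCat.ofHom (algebraMap Γ(S, V₀) A') with hφA
  haveI : IsAffine (V₀ : Scheme.{u}) := hV₀
  refine ⟨V₀, Spec (CommRingCat.of A'), Spec.map φA ≫ hV₀.isoSpec.inv, hsV₀, hV₀, ?_, ?_, ?_, ?_,
    ?_⟩
  · -- surjective
    haveI : Surjective (Spec.map φA) := by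
      refine ⟨fun x => ?_⟩
      haveI : Algebra.IsIntegral Γ(S, V₀) A' := Algebra.IsIntegral.of_finite _ _
      obtain ⟨Q, -, hQ, hQx⟩ := Ideal.exists_ideal_over_prime_of_isIntegral x.asIdeal
        (⊥ : Ideal A') (by
          rw [← RingHom.ker_eq_comap_bot, (RingHom.injective_iff_ker_eq_bot _).mp hinj]
          exact bot_le)
      exact ⟨⟨Q, hQ⟩, PrimeSpectrum.ext hQx⟩
    infer_instance
  · haveI : IsFinite (Spec.map φA) := by
      rw [IsFinite.SpecMap_iff]
      exact RingHom.finite_algebraMap.mpr hfin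
    infer_instance
  · haveI : Flat (Spec.map φA) := by
      rw [HasRingHomProperty.Spec_iff (P := @Flat)]
      exact RingHom.flat_algebraMap_iff.mpr inferInstance
    infer_instance
  · haveI : LocallyOfFinitePresentation (Spec.map φA) := by
      rw [HasRingHomProperty.Spec_iff (P := @LocallyOfFinitePresentation)]
      haveI : Module.FinitePresentation Γ(S, V₀) A' := Module.finitePresentation_of_projective _ _
      have : Algebra.FinitePresentation Γ(S, V₀) A' := inferInstance
      exact RingHom.finitePresentation_algebraMap.mpr this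
    infer_instance
  · intro t hts
    set Q : Ideal Γ(U, U₁) := (hU₁.primeIdealOf ⟨u, huU₁⟩).asIdeal with hQ
    haveI hQprime : Q.IsPrime := (hU₁.primeIdealOf ⟨u, huU₁⟩).isPrime
    haveI : IsOpenImmersion hV₀.fromSpec := IsAffineOpen.isOpenImmersion_fromSpec hV₀
    -- `t` lies over the prime of `e u`
    have hpt : Spec.map φA t = hV₀.primeIdealOf ⟨e u, hsV₀⟩ := by
      apply hV₀.fromSpec.isOpenEmbedding.injective
      refine Eq.trans ?_ (hV₀.fromSpec_primeIdealOf ⟨e u, hsV₀⟩).symm
      refine Eq.trans ?_ hts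
      rw [← Scheme.Hom.comp_apply, ← Scheme.Hom.comp_apply, Category.assoc,
        IsAffineOpen.isoSpec_inv_ι]
    have hQt : Q.comap (algebraMap Γ(S, V₀) Γ(U, U₁)) =
        t.asIdeal.comap (algebraMap Γ(S, V₀) A') := by
      have h1 := IsAffineOpen.comap_primeIdealOf_appLE (f := e) (x := u) V₀ hV₀ U₁ hU₁ hUV huU₁
      have h2 := congrArg PrimeSpectrum.asIdeal h1
      have h3 := congrArg PrimeSpectrum.asIdeal hpt
      exact h2.trans h3.symm
    obtain ⟨i, hgi, hL⟩ := exists_root_index Γ(S, V₀) Γ(U, U₁) A' PB PB.f.natDegree a ha Q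
      t.asIdeal hQt
    set r : A' := Polynomial.aeval (a i) PB.g with hr
    let L := Localization.Away r
    obtain ⟨φ, t', ht'prime, ht', hφ⟩ := hL L
    set j : Spec (CommRingCat.of L) ⟶ Spec (CommRingCat.of A') :=
      Spec.map (CommRingCat.ofHom (algebraMap A' L)) with hj
    haveI : IsOpenImmersion j :=
      Scheme.isOpenImmersion_SpecMap_localizationAway (R := CommRingCat.of A') r
    set φc : Γ(U, U₁) ⟶ CommRingCat.of L := CommRingCat.ofHom φ.toRingHom with hφc
    have hjt : j ⟨t', ht'prime⟩ = t := PrimeSpectrum.ext ht'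
    have htW : t ∈ j.opensRange := ⟨⟨t', ht'prime⟩, hjt⟩
    have hcommr : e.appLE V₀ U₁ hUV ≫ φc = φA ≫ CommRingCat.ofHom (algebraMap A' L) := by
      ext c
      change φ (algebraMap Γ(S, V₀) Γ(U, U₁) c) = algebraMap A' L (algebraMap Γ(S, V₀) A' c)
      rw [φ.commutes]
      exact IsScalarTower.algebraMap_apply Γ(S, V₀) A' L c
    refine ⟨j.opensRange, j.isoOpensRange.inv ≫ Spec.map φc ≫ hU₁.fromSpec, htW, ?_, ?_⟩
    · rw [Category.assoc, Category.assoc, ← IsAffineOpen.SpecMap_appLE_fromSpec e hV₀ hU₁ hUV,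
        ← Category.assoc (Spec.map φc), ← Spec.map_comp, hcommr, Spec.map_comp, Category.assoc,
        ← Category.assoc j.isoOpensRange.inv, Scheme.Hom.isoOpensRange_inv_comp, Category.assoc,
        IsAffineOpen.isoSpec_inv_ι]
    · intro ht
      have h1 : j.isoOpensRange.inv ⟨t, ht⟩ = ⟨t', ht'prime⟩ := by
        apply j.isOpenEmbedding.injective
        rw [← Scheme.Hom.comp_apply, Scheme.Hom.isoOpensRange_inv_comp, hjt]
        rfl
      rw [Scheme.Hom.comp_apply, Scheme.Hom.comp_apply, h1]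
      have h2 : Spec.map φc ⟨t', ht'prime⟩ = hU₁.primeIdealOf ⟨u, huU₁⟩ := PrimeSpectrum.ext hφ
      rw [h2]
      exact hU₁.fromSpec_primeIdealOf ⟨u, huU₁⟩


end Groth.Agent.Lib.R2H4.EtDomFin
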