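/-
Helper library (helper4): a push-forward system (`PushData`, see `R2H4PullAdj`) on categories of
sheaves, obtained from a pseudofunctor-like system of continuous "base change" functors between
sites (`BaseChangeData`): functors `b g : 𝒮 Y ⥤ 𝒮 Y'` for `g : Y' ⟶ Y` with coherent composition
and unit isomorphisms.  The push-forward along `g` is precomposition with `b g`.
-/
import Mathlib
import Groth.Agent.Lib.R2H4PullAdj

set_option autoImplicit false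

open CategoryTheory CategoryTheory.Limits Opposite

namespace Groth.Agent.Lib.R2H4.SitePush

open Groth.Agent.Lib.R2H4.PullAdj

universe v₁ u₁ v₂ u₂ v₃ u₃

variable {𝒞 : Type u₁} [Category.{v₁} 𝒞] (𝒮 : 𝒞 → Type u₂) [∀ Y, Category.{v₂} (𝒮 Y)]

/-- A system of base change functors `b g : 𝒮 Y ⥤ 𝒮 Y'` for `g : Y' ⟶ Y`, with coherent
composition and unit isomorphisms. -/
structure BaseChangeData where
  /-- the base change functors -/
  b : ∀ {Y' Y : 𝒞} (_ : Y' ⟶ Y), 𝒮 Y ⥤ 𝒮 Y'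
  /-- the composition isomorphisms -/
  comp : ∀ {Y'' Y' Y : 𝒞} (h : Y'' ⟶ Y') (g : Y' ⟶ Y) (k : Y'' ⟶ Y) (_ : h ≫ g = k),
    b g ⋙ b h ≅ b k
  /-- the unit isomorphisms -/
  unit : ∀ (Y : 𝒞), b (𝟙 Y) ≅ 𝟭 (𝒮 Y)
  comp_id : ∀ {Y' Y : 𝒞} (g : Y' ⟶ Y),
    comp (𝟙 Y') g g (Category.id_comp g) =
      Functor.isoWhiskerLeft (b g) (unit Y') ≪≫ Functor.rightUnitor (b g)
  assoc : ∀ {Y₃ Y₂ Y₁ Y₀ : 𝒞} (h₃ : Y₃ ⟶ Y₂) (h₂ : Y₂ ⟶ Y₁) (h₁ : Y₁ ⟶ Y₀) (k₂₀ : Y₂ ⟶ Y₀)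
    (k₃₁ : Y₃ ⟶ Y₁) (k₃₀ : Y₃ ⟶ Y₀) (w₂₀ : h₂ ≫ h₁ = k₂₀) (w₃₁ : h₃ ≫ h₂ = k₃₁)
    (w : h₃ ≫ k₂₀ = k₃₀) (w' : k₃₁ ≫ h₁ = k₃₀),
    Functor.isoWhiskerLeft (b h₁) (comp h₃ h₂ k₃₁ w₃₁) ≪≫ comp k₃₁ h₁ k₃₀ w' =
      (Functor.associator _ _ _).symm ≪≫
        Functor.isoWhiskerRight (comp h₂ h₁ k₂₀ w₂₀) (b h₃) ≪≫ comp h₃ k₂₀ k₃₀ w

variable {𝒮} (B : BaseChangeData 𝒮) (J : ∀ Y, GrothendieckTopology (𝒮 Y))
  (hB : ∀ {Y' Y : 𝒞} (g : Y' ⟶ Y), (B.b g).IsContinuous (J Y) (J Y'))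
  (A : Type u₃) [Category.{v₃} A]

/-- The push-forward system on sheaves attached to a system of continuous base change functors. -/
noncomputable def pushData : PushData (fun Y => Sheaf (J Y) A) where
  R {Y' Y} g :=
    haveI := hB g
    (B.b g).sheafPushforwardContinuous A (J Y) (J Y')
  comp {Y'' Y' Y} h g k w :=
    haveI := hB g
    haveI := hB h
    haveI := hB k
    Functor.sheafPushforwardContinuousComp' (F := B.b g) (G := B.b h) (FG := B.b k)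
      (B.comp h g k w) A (J Y) (J Y') (J Y'')
  unit Y :=
    haveI := hB (𝟙 Y)
    Functor.sheafPushforwardContinuousId' (F'' := B.b (𝟙 Y)) (B.unit Y) A (J Y)
  comp_id {Y' Y} g := by
    have := hB g
    have := hB (𝟙 Y')
    ext M : 3
    ext U
    have h := congrArg (fun i => M.obj.map (i.inv.app U.unop).op) (B.comp_id g)
    simp only [Iso.trans_inv, Functor.isoWhiskerLeft_inv, NatTrans.comp_app,
      Functor.rightUnitor_inv_app, Functor.whiskerLeft_app, Category.id_comp] at h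
    simp
    exact h
  assoc {Y₃ Y₂ Y₁ Y₀} h₃ h₂ h₁ k₂₀ k₃₁ k₃₀ w₂₀ w₃₁ w w' := by
    ext M : 3
    ext U
    have h := congrArg (fun i => M.obj.map (i.inv.app U.unop).op)
      (B.assoc h₃ h₂ h₁ k₂₀ k₃₁ k₃₀ w₂₀ w₃₁ w w')
    simp only [Iso.trans_inv, Functor.isoWhiskerLeft_inv, NatTrans.comp_app,
      Functor.whiskerLeft_app, Iso.symm_inv, Functor.isoWhiskerRight_inv,
      Functor.whiskerRight_app, Functor.associator_hom_app, Category.comp_id,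
      Category.id_comp, Category.assoc] at h
    simp only [op_comp, Functor.map_comp] at h
    simp
    exact h.symm

end Groth.Agent.Lib.R2H4.SitePush
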