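/-
Helper library (helper4): coherence of the base change functors `MorphismProperty.Over.pullback`:
the composition isomorphisms `MorphismProperty.Over.pullbackComp` and the unit isomorphism
satisfy the associativity and unit axioms of a pseudofunctor (`BaseChangeData`, see `R2H4SitePush`).
-/
import Mathlib
import Groth.Agent.Lib.R2H4SitePush

set_option autoImplicit false
set_option backward.isDefEq.respectTransparency false
set_option backward.defeqAttrib.useBackward true

open CategoryTheory CategoryTheory.Limits Opposite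

namespace Groth.Agent.Lib.R2H4.OverPullback

open Groth.Agent.Lib.R2H4.SitePush

universe v u

variable {T : Type u} [Category.{v} T] [HasPullbacks T] (P Q : MorphismProperty T)
  [Q.IsMultiplicative] [P.IsStableUnderBaseChange] [Q.IsStableUnderBaseChange]

/-- Base change along the identity. -/
noncomputable def pbId (X : T) : MorphismProperty.Over.pullback P Q (𝟙 X) ≅ 𝟭 (P.Over Q X) :=
  NatIso.ofComponents
    (fun A => MorphismProperty.Over.isoMk
      { hom := pullback.fst A.hom (𝟙 X)
        inv := pullback.lift (𝟙 A.left) A.hom (by simp)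
        hom_inv_id := by
          apply pullback.hom_ext
          · simp
          · simpa using pullback.condition (f := A.hom) (g := 𝟙 X)
        inv_hom_id := by simp }
      (by simpa using pullback.condition (f := A.hom) (g := 𝟙 X)))
    (fun {A A'} φ => by
      apply MorphismProperty.Over.Hom.ext
      simp)

/-- Base change along a composition. -/
noncomputable def pbComp {X'' X' X : T} (h : X'' ⟶ X') (g : X' ⟶ X) (k : X'' ⟶ X)
    (w : h ≫ g = k) :
    MorphismProperty.Over.pullback P Q g ⋙ MorphismProperty.Over.pullback P Q h ≅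
      MorphismProperty.Over.pullback P Q k :=
  (MorphismProperty.Over.pullbackComp (P := P) (Q := Q) h g k w.symm).symm

theorem pbComp_id {X' X : T} (g : X' ⟶ X) :
    pbComp P Q (𝟙 X') g g (Category.id_comp g) =
      Functor.isoWhiskerLeft (MorphismProperty.Over.pullback P Q g) (pbId P Q X') ≪≫
        Functor.rightUnitor (MorphismProperty.Over.pullback P Q g) := by
  ext A : 3
  apply MorphismProperty.Over.Hom.ext
  simp [pbComp, pbId]
  apply pullback.hom_ext
  · simp
  · simp [pullback.condition]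

theorem pbComp_assoc {X₃ X₂ X₁ X₀ : T} (h₃ : X₃ ⟶ X₂) (h₂ : X₂ ⟶ X₁) (h₁ : X₁ ⟶ X₀)
    (k₂₀ : X₂ ⟶ X₀) (k₃₁ : X₃ ⟶ X₁) (k₃₀ : X₃ ⟶ X₀) (w₂₀ : h₂ ≫ h₁ = k₂₀)
    (w₃₁ : h₃ ≫ h₂ = k₃₁) (w : h₃ ≫ k₂₀ = k₃₀) (w' : k₃₁ ≫ h₁ = k₃₀) :
    Functor.isoWhiskerLeft (MorphismProperty.Over.pullback P Q h₁) (pbComp P Q h₃ h₂ k₃₁ w₃₁) ≪≫
        pbComp P Q k₃₁ h₁ k₃₀ w' =
      (Functor.associator _ _ _).symm ≪≫
        Functor.isoWhiskerRight (pbComp P Q h₂ h₁ k₂₀ w₂₀)
          (MorphismProperty.Over.pullback P Q h₃) ≪≫ pbComp P Q h₃ k₂₀ k₃₀ w := by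
  subst w₂₀ w₃₁ w
  ext A : 3
  apply MorphismProperty.Over.Hom.ext
  simp [pbComp]
  apply pullback.hom_ext
  · simp
  · simp

/-- The base change functors `MorphismProperty.Over.pullback` form a `BaseChangeData`. -/
noncomputable def baseChangeData : BaseChangeData (𝒞 := T) (fun X => P.Over Q X) where
  b g := MorphismProperty.Over.pullback P Q g
  comp h g k w := pbComp P Q h g k w
  unit X := pbId P Q X
  comp_id g := pbComp_id P Q g
  assoc h₃ h₂ h₁ k₂₀ k₃₁ k₃₀ w₂₀ w₃₁ w w' := pbComp_assoc P Q h₃ h₂ h₁ k₂₀ k₃₁ k₃₀ w₂₀ w₃₁ w w'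

end Groth.Agent.Lib.R2H4.OverPullback
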