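/-
Helper library (helper4): the pull-back system of abelian sheaves on small étale sites of schemes
(inverse images `EtCoh.pull`), from the coherence of the base change functors `EtCoh.bc`.
-/
import Mathlib
import Groth.Prelude.Def_EtCore
import Groth.Agent.S0101
import Groth.Agent.Lib.R2H4OverPullback

set_option autoImplicit false
set_option backward.isDefEq.respectTransparency.types false

open CategoryTheory CategoryTheory.Limits Opposite AlgebraicGeometry

namespace Groth.Agent.Lib.R2H4.EtPull

open Groth.Agent.Lib.R2H4.PullExt Groth.Agent.Lib.R2H4.PullAdj Groth.Agent.Lib.R2H4.SitePush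
  Groth.Agent.Lib.R2H4.OverPullback

universe u

/-- The base change functors of small étale sites. -/
noncomputable def bcData : BaseChangeData.{u, u + 1, u, u + 1} (𝒞 := Scheme.{u})
    (fun Y => Y.Etale) :=
  baseChangeData EtCoh.etaleMP.{u} ⊤

/-- Direct images of abelian étale sheaves. -/
noncomputable def pushData :
    PushData.{u, u + 1, u + 1, u + 2} (𝒞 := Scheme.{u}) (fun Y => EtCoh.Ab Y) :=
  SitePush.pushData bcData.{u} (fun Y => Y.smallEtaleTopology)
    (fun {Y' Y : Scheme.{u}} (g : Y' ⟶ Y) => EtCoh.bcCont g) AddCommGrpCat.{u + 1}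

/-- The pull-back system of abelian étale sheaves. -/
noncomputable def pullData :
    PullData.{u, u + 1, u + 1, u + 2} (𝒞 := Scheme.{u}) (fun Y => EtCoh.Ab Y) :=
  PushData.toPullData pushData.{u} (fun {Y' Y : Scheme.{u}} (g : Y' ⟶ Y) => EtCoh.pull g)
    (fun {Y' Y : Scheme.{u}} (g : Y' ⟶ Y) => (EtCoh.pullPushAdj g : EtCoh.pull g ⊣ EtCoh.push g))
    (fun g => EtCore.pull_additive g) (fun g => Groth.Agent.S0101.result g)
    (fun g => EtCore.pull_preservesFiniteColimits g)

end Groth.Agent.Lib.R2H4.EtPull
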