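import Mathlib
import Groth.Prelude.Def_EtShriek2
import Groth.Agent.Lib.Helper16SmallEtale

/-!
# Restriction along a surjective etale morphism is faithful (helper4, round 2)

`restrAlong_faithful`: for `u : X ⟶ Y` etale and surjective, `EtShriek.restrAlong u` is a faithful functor
(so the counit of `extZero u ⊣ restrAlong u` is an epimorphism).
-/

set_option autoImplicit false
universe u
open CategoryTheory CategoryTheory.Limits AlgebraicGeometry Opposite

namespace Groth.Agent.Lib.R2H4.ExtZeroEpi
open Groth.Agent.Lib.Helper16.SmallEtale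

variable {X Y : Scheme.{u}}

set_option backward.isDefEq.respectTransparency.types false in
theorem restrAlong_faithful (u : X ⟶ Y) [Etale u] [Surjective u] [EtShriek.JCont u] :
    (EtShriek.restrAlong u).Faithful := by
  constructor
  intro F G φ ψ h
  apply Sheaf.hom_ext
  apply NatTrans.ext
  funext W'
  obtain ⟨W⟩ := W'
  ext s
  let V : X.Etale := (EtCoh.bc u).obj W
  have hw : (pullback.fst W.hom u : V.left ⟶ W.left) ≫ W.hom = ((EtShriek.compEtale u).obj V).hom := by
    change _ = pullback.snd W.hom u ≫ u
    exact pullback.condition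
  let p : (EtShriek.compEtale u).obj V ⟶ W :=
    MorphismProperty.Over.homMk (pullback.fst W.hom u) hw
  have hcov : Sieve.generate (Presieve.singleton p) ∈ Y.smallEtaleTopology W := by
    rw [mem_smallEtale_iff]
    intro x
    obtain ⟨y, hy⟩ := (inferInstance : Surjective (pullback.fst W.hom u)).surj x
    exact ⟨_, p, y, Sieve.le_generate _ _ _ (Presieve.singleton.mk), hy⟩
  refine (Sheaf.isSeparated G) W _ hcov _ _ ?_
  intro Z f hf
  obtain ⟨Z', g, q, hq, rfl⟩ := hf
  cases hq
  have h1 : φ.hom.app (op ((EtShriek.compEtale u).obj V)) = ψ.hom.app (op ((EtShriek.compEtale u).obj V)) := by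
    have := congrArg (fun α => α.hom.app (op V)) h
    exact this
  have nφ : G.obj.map p.op (φ.hom.app (op W) s) = φ.hom.app _ (F.obj.map p.op s) :=
    (NatTrans.naturality_apply φ.hom p.op s).symm
  have nψ : G.obj.map p.op (ψ.hom.app (op W) s) = ψ.hom.app _ (F.obj.map p.op s) :=
    (NatTrans.naturality_apply ψ.hom p.op s).symm
  rw [op_comp, Functor.map_comp]
  change G.obj.map g.op (G.obj.map p.op (φ.hom.app (op W) s)) =
    G.obj.map g.op (G.obj.map p.op (ψ.hom.app (op W) s))
  rw [nφ, nψ, h1]

end Groth.Agent.Lib.R2H4.ExtZeroEpi
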