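import Mathlib
import Groth.Prelude.Def_FGA
import Groth.Agent.Lib.R2H4FGASnapper
import Groth.Agent.Lib.R2H4SnapperRef

/-! The intersection number of a coherent module as the sum over the top-dimensional components of
its support, in the `FGA` formalism (helper4, round 2). -/
set_option autoImplicit false
set_option linter.style.haveILetI false
universe u
open CategoryTheory CategoryTheory.Limits AlgebraicGeometry TopologicalSpace

namespace Groth.Agent.Lib.R2H4FGARef

open Groth.Agent.Lib.R2H4TensorPows Groth.Agent.Lib.R2H4NumPoly Groth.Agent.Lib.R2H4FGABridge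
  Groth.Agent.Lib.R2H1.DegCartier Groth.Agent.Lib.R2H4FGASnapper Groth.Agent.Lib.R2H4SnapperRef

variable (k : Type u) [Field k] {X : Scheme.{u}} [X.Over (Spec (CommRingCat.of k))]
  [IsProper (X ↘ Spec (CommRingCat.of k))]

/-- S14521 -/
theorem s14521 (d : ℕ) (hd : topologicalKrullDim X ≤ d)
    {r : ℕ} (M : Fin r → X.Modules) (hM : ∀ i, PicF.IsInvertible (M i))
    (F : X.Modules) (hF : Coh.IsCoh F) (hsupp : topologicalKrullDim ↥(CohB1.support F) ≤ r)
    (s : Finset X) (hs : ∀ ξ : X, ξ ∈ s ↔ ξ ∈ CohB1.support F ∧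
      topologicalKrullDim ↥(closure ({ξ} : Set X)) = r) :
    FGA.intNum k X d M F =
      ∑ ξ ∈ s, ((Module.length (X.presheaf.stalk ξ) (F.presheaf.stalk ξ)).toNat : ℤ) *
        FGA.intNum k X d M (ClSub.quotMod (Scheme.IdealSheafData.vanishingIdeal
          ⟨closure ({ξ} : Set X), isClosed_closure⟩)) := by
  obtain ⟨hC, hP⟩ := refined k r hM F hF hsupp
  have h0 := alt_sum_eq_zero _ hP
  have hMT : ∀ n, MT k r r M F n =
      ∑ ξ ∈ s, ((lenE F ξ).toNat : ℚ) * fE k X r M (ClSub.quotMod (zI ξ)) n := by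
    intro n
    unfold MT
    rw [finsum_eq_sum_of_support_subset]
    · refine Finset.sum_congr rfl fun ξ hξ => ?_
      have h2 := ((hs ξ).1 hξ).2
      unfold lam
      rw [if_pos h2]
    · intro ξ hξ
      have h1 : lam r F ξ ≠ 0 := by
        intro h0
        apply hξ
        simp [h0]
      unfold lam at h1
      split_ifs at h1 with hdim
      · refine Finset.mem_coe.2 ((hs ξ).2 ⟨?_, hdim⟩)
        by_contra hn
        exact h1 (lenE_eq_zero F ξ hn)
      · exact absurd rfl h1
  have h : (FGA.intNum k X d M F : ℚ) =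
      ∑ ξ ∈ s, ((lenE F ξ).toNat : ℚ) * (FGA.intNum k X d M (ClSub.quotMod (zI ξ)) : ℚ) := by
    rw [intNum_eq k d hd]
    simp_rw [intNum_eq k d hd, Finset.mul_sum]
    rw [Finset.sum_comm]
    simp only [mul_sub, Finset.sum_sub_distrib, sub_eq_zero] at h0
    rw [h0]
    refine Finset.sum_congr rfl fun I _ => ?_
    rw [hMT, Finset.mul_sum]
    refine Finset.sum_congr rfl fun ξ _ => ?_
    ring
  unfold lenE at h
  exact_mod_cast h

end Groth.Agent.Lib.R2H4FGARef
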