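import Mathlib

open CategoryTheory CategoryTheory.Limits AlgebraicGeometry

universe u

namespace Groth.Agent.Lib.R2H4.FibEtale

/-- For an étale morphism, the residue field extension at a point is étale. -/
theorem etale_SpecMap_residueFieldMap {V' V : Scheme.{u}} (b : V' ⟶ V) [Etale b] (v' : V') :
    Etale (Spec.map (b.residueFieldMap v')) := by
  rw [HasRingHomProperty.Spec_iff (P := @Etale)]
  have hess : (b.residueFieldMap v').hom.EssFiniteType :=
    RingHom.EssFiniteType.residueFieldMap (LocallyOfFiniteType.stalkMap b v')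
  algebraize [(b.residueFieldMap v').hom]
  have hsep : Algebra.IsSeparable (V.residueField (b.base v')) (V'.residueField v') :=
    inferInstance
  have h1 : Algebra.FormallyEtale (V.residueField (b.base v')) (V'.residueField v') :=
    Algebra.FormallyEtale.of_isSeparable _ _
  have h2 : Module.Finite (V.residueField (b.base v')) (V'.residueField v') :=
    Algebra.FormallyUnramified.finite_of_free _ _
  have h3 : Algebra.FinitePresentation (V.residueField (b.base v')) (V'.residueField v') :=
    Algebra.FinitePresentation.of_finiteType.mp inferInstance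
  exact ⟨h1, h3⟩

theorem etale_fiberMap {U U' V V' : Scheme.{u}} (h : U ⟶ V) (h' : U' ⟶ V') (a : U' ⟶ U)
    (b : V' ⟶ V) [Etale a] [Etale b] (comm : h' ≫ b = a ≫ h) (v' : V')
    (φ : h'.fiber v' ⟶ h.fiber (b v')) (hφ1 : φ ≫ h.fiberι (b v') = h'.fiberι v' ≫ a)
    (hφ2 : φ ≫ h.fiberToSpecResidueField (b v') =
      h'.fiberToSpecResidueField v' ≫ Spec.map (b.residueFieldMap v')) :
    Etale φ := by
  have := etale_SpecMap_residueFieldMap b v'
  -- T = U ×_V V'
  let p₁ : pullback h b ⟶ U := pullback.fst h b
  let p₂ : pullback h b ⟶ V' := pullback.snd h b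
  let c : U' ⟶ pullback h b := pullback.lift a h' comm.symm
  have hc1 : c ≫ p₁ = a := pullback.lift_fst _ _ _
  have hc2 : c ≫ p₂ = h' := pullback.lift_snd _ _ _
  have : Etale c := by
    have : Etale (c ≫ p₁) := by rw [hc1]; infer_instance
    exact MorphismProperty.of_postcomp (W := @Etale) (W' := @Etale) c p₁ inferInstance ‹_›
  -- the pullback square for `d`
  have hpb := isPullback_fiberToSpecResidueField_of_isPullback
    (IsPullback.of_hasPullback h b) v'
  obtain ⟨d, hd⟩ : ∃ d : p₂.fiber v' ⟶ h.fiber (b v'),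
      d = pullback.map _ _ _ _ (pullback.fst h b) (Spec.map (b.residueFieldMap v')) b
        (IsPullback.of_hasPullback h b).w.symm (by simp) := ⟨_, rfl⟩
  rw [← hd] at hpb
  have hdE : Etale d := MorphismProperty.of_isPullback hpb.flip inferInstance
  -- c_{v'} : U'_{v'} → T_{v'}
  let cv : h'.fiber v' ⟶ p₂.fiber v' :=
    pullback.lift (h'.fiberι v' ≫ c) (h'.fiberToSpecResidueField v') (by
      rw [Category.assoc, hc2]; exact pullback.condition)
  have hcv1 : cv ≫ p₂.fiberι v' = h'.fiberι v' ≫ c := pullback.lift_fst _ _ _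
  have hcv2 : cv ≫ p₂.fiberToSpecResidueField v' = h'.fiberToSpecResidueField v' :=
    pullback.lift_snd _ _ _
  have hcvpb : IsPullback cv (h'.fiberι v') (p₂.fiberι v') c := by
    refine IsPullback.of_right (h₁₂ := p₂.fiberToSpecResidueField v')
      (v₁₃ := V'.fromSpecResidueField v') (h₂₂ := p₂) ?_ hcv1 ?_
    · rw [hcv2, hc2]
      exact (IsPullback.of_hasPullback h' (V'.fromSpecResidueField v')).flip
    · exact (IsPullback.of_hasPullback p₂ (V'.fromSpecResidueField v')).flip
  have hcvE : Etale cv := MorphismProperty.of_isPullback hcvpb.flip inferInstance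
  have hφ : φ = cv ≫ d := by
    refine pullback.hom_ext ?_ ?_
    · show φ ≫ h.fiberι (b v') = (cv ≫ d) ≫ h.fiberι (b v')
      refine hφ1.trans ?_
      rw [Category.assoc]
      have : d ≫ h.fiberι (b v') = p₂.fiberι v' ≫ p₁ := by
        rw [hd]; exact pullback.lift_fst _ _ _
      rw [this, ← Category.assoc, hcv1, Category.assoc, hc1]
    · show φ ≫ h.fiberToSpecResidueField (b v') = (cv ≫ d) ≫ h.fiberToSpecResidueField (b v')
      refine hφ2.trans ?_
      rw [Category.assoc]
      have : d ≫ h.fiberToSpecResidueField (b v') =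
          p₂.fiberToSpecResidueField v' ≫ Spec.map (b.residueFieldMap v') := by
        rw [hd]; exact pullback.lift_snd _ _ _
      rw [this, ← Category.assoc, hcv2]
  rw [hφ]
  infer_instance

end Groth.Agent.Lib.R2H4.FibEtale
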