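/-
Global generation from fibrewise global generation (S16136).  (helper4)

* `exists_section_unitSec_eq_smul`: over a good open `U` (formation of `f_* N` commutes with base change), every
  section of the restriction of `N` to the fibre at `s ∈ U` is, up to a unit, the pull-back of a section of `N`
  over `f⁻¹ U`;
* `exists_isGen_nhd`: if `H¹(X_s, N_s) = 0` and `N_s` is globally generated, every point of the fibre `X_s` has a
  neighbourhood on which a section of `N` over the preimage of a neighbourhood of `s` generates `N`;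
* `epi_counit_of_fibrewise`: `f^* f_* N → N` is an epimorphism when this holds at all closed points of a
  quasi-compact base;
* `main`: S16136.
-/
import Mathlib
import Groth.Prelude
import Groth.Agent.Lib.R2H4NearFibreC
import Groth.Agent.Lib.R2H4GGDescent
import Groth.Agent.Lib.Helper23GG
import Groth.Agent.Lib.Helper23Serre
import Groth.Agent.Lib.R2H4TrivInt

set_option autoImplicit false
set_option linter.style.haveILetI false
set_option linter.unusedSectionVars false
universe u
open CategoryTheory CategoryTheory.Limits AlgebraicGeometry TopologicalSpace Opposite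
open AlgebraicGeometry.Scheme.Modules

noncomputable section

namespace Groth.Agent.Lib.R2H4FibGG

open Groth.Agent.Lib.Helper23.SecTw Groth.Agent.Lib.Helper23.GenLocus
  Groth.Agent.Lib.Helper23.Extend Groth.Agent.Lib.Helper6 Groth.Agent.Helper13PullbackUnit
  Groth.Agent.Lib.Helper27PullGen Groth.Agent.Lib.Helper23.PB Groth.Agent.Lib.Helper23.GenNear
  Groth.Agent.Lib.R2H2.BcSect Groth.Agent.Lib.R2H2.Bc0 Groth.Agent.Lib.R2H2.Bc0Bij
  Groth.Agent.Lib.R2H2.BcIso Groth.Agent.Lib.R2H4NearFibre

section Lift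

variable {X S : Scheme.{u}} (f : X ⟶ S) [IsProper f] [LocallyOfFinitePresentation f]
  (N : X.Modules) [N.IsQuasicoherent]

/-- **lifting a section of the restriction to a fibre over a point of a good open, up to a unit** -/
theorem exists_section_unitSec_eq_smul (s : S) (U : S.Opens) (hsU : s ∈ U)
    (hgood : Good f N 0 U)
    (ε : Γ(CohIII.fiberMod f N s, (f.fiberToSpecResidueField s) ⁻¹ᵁ ⊤)) :
    ∃ (hle : (f.fiberToSpecResidueField s) ⁻¹ᵁ ⊤ ≤ (f.fiberι s) ⁻¹ᵁ (f ⁻¹ᵁ U))
      (t : Γ(N, f ⁻¹ᵁ U)) (c : Γ(f.fiber s, (f.fiberToSpecResidueField s) ⁻¹ᵁ ⊤)),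
      IsUnit c ∧ unitSec (f.fiberι s) N hle t = c • ε := by
  have hU : IsAffineOpen U := hgood.1
  have hpb : IsPullback (f.fiberι s) (f.fiberToSpecResidueField s) f (S.fromSpecResidueField s) :=
    IsPullback.of_hasPullback f (S.fromSpecResidueField s)
  have hz : ∀ z : Spec (S.residueField s), S.fromSpecResidueField s z ∈ U := fun z => by
    rw [Scheme.fromSpecResidueField_apply]; exact hsU
  haveI hiso : IsIso (CohBC.bc0 f (S.fromSpecResidueField s) (f.fiberToSpecResidueField s)
      (f.fiberι s) hpb.w N) := isIso_bc0_of_good hpb N (fun z => ⟨U, hz z, hgood⟩)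
  have hle : (⊤ : (Spec (S.residueField s)).Opens) ≤ (S.fromSpecResidueField s) ⁻¹ᵁ U :=
    fun z _ => hz z
  have hsurj : Function.Surjective ((CohBC.bc0 f (S.fromSpecResidueField s)
      (f.fiberToSpecResidueField s) (f.fiberι s) hpb.w N).app ⊤) := by
    have h2 := Scheme.Modules.Hom.isIso_iff_isIso_app.1 hiso ⊤
    rw [ConcreteCategory.isIso_iff_bijective] at h2
    exact h2.2
  haveI : ((pushforward f).obj N).IsQuasicoherent :=
    Groth.Agent.Lib.Helper23.QCohLocal.isQuasicoherent_pushforward f N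
  have hspan := (surjective_tr_app_iff (S.fromSpecResidueField s)
    (CohBC.bc0Adj f (S.fromSpecResidueField s) (f.fiberToSpecResidueField s) (f.fiberι s) hpb.w N)
    hU (isAffineOpen_top _) hle).1 hsurj
  set φ := CohBC.bc0Adj f (S.fromSpecResidueField s) (f.fiberToSpecResidueField s) (f.fiberι s)
    hpb.w N with hφ
  set ev := ((S.fromSpecResidueField s).appLE U ⊤ hle).hom with hev
  -- the fraction property of the span
  have hP : ∀ x ∈ Submodule.span Γ(Spec (S.residueField s), ⊤)
      (Set.range (φres (S.fromSpecResidueField s) φ hle)),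
      ∃ (b : Γ(S, U)) (t : Γ((pushforward f).obj N, U)), IsUnit (ev b) ∧
        ev b • x = φres (S.fromSpecResidueField s) φ hle t := by
    intro x hx
    induction hx using Submodule.span_induction with
    | mem x hx =>
      obtain ⟨t, rfl⟩ := hx
      exact ⟨1, t, by rw [map_one]; exact isUnit_one, by rw [map_one, one_smul]⟩
    | zero => exact ⟨1, 0, by rw [map_one]; exact isUnit_one, by rw [smul_zero, map_zero]⟩
    | add x y _ _ hx hy =>
      obtain ⟨b₁, t₁, hb₁, ht₁⟩ := hx
      obtain ⟨b₂, t₂, hb₂, ht₂⟩ := hy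
      refine ⟨b₁ * b₂, b₂ • t₁ + b₁ • t₂, by rw [map_mul]; exact hb₁.mul hb₂, ?_⟩
      rw [map_add, φres_smul, φres_smul, ← ht₁, ← ht₂, map_mul, smul_add, smul_smul, smul_smul,
        mul_comm (ev b₂) (ev b₁)]
    | smul c x _ hx =>
      obtain ⟨b, t, hb, ht⟩ := hx
      obtain ⟨a, b', hb', hab⟩ := exists_frac s U hU hsU hle c
      refine ⟨b' * b, a • t, by rw [map_mul]; exact hb'.mul hb, ?_⟩
      rw [φres_smul, ← ht, map_mul, smul_smul, smul_smul, ← hab]
      congr 1
      ring
  obtain ⟨b, t, hb, hbt⟩ := hP (show Γ((pushforward (f.fiberToSpecResidueField s)).obj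
      (CohIII.fiberMod f N s), ⊤) from ε) (by rw [hspan]; exact Submodule.mem_top)
  have hle'' : (f.fiberToSpecResidueField s) ⁻¹ᵁ ⊤ ≤ (f.fiberι s) ⁻¹ᵁ (f ⁻¹ᵁ U) :=
    Groth.Agent.Lib.R2H2.BcGen.preimage_le' (w := hpb.w) hle
  refine ⟨hle'', t, (f.fiberToSpecResidueField s).app ⊤ (ev b), hb.map _, ?_⟩
  have h4 := φres_bc0Adj f (S.fromSpecResidueField s) (f.fiberToSpecResidueField s) (f.fiberι s)
    hpb.w N hle t
  rw [← h4]
  exact hbt.symm

end Lift

section Near

variable {X S : Scheme.{u}} (f : X ⟶ S) [IsProper f] [LocallyOfFinitePresentation f]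

/-- near `x`, the module `N` is generated by a section over the preimage of an open of the base -/
def GenAt (N : X.Modules) (x : X) : Prop :=
  ∃ (U : S.Opens) (t : Γ(N, f ⁻¹ᵁ U)) (W : X.Opens) (hW : W ≤ f ⁻¹ᵁ U),
    x ∈ W ∧ IsGen N W (res N hW t)

/-- **if `H¹(X_s, N_s) = 0` and `N_s` is globally generated, then near every point of the fibre `X_s` the module
`N` is generated by a section over the preimage of a neighbourhood of `s`** -/
theorem genAt_of_fibre (N : X.Modules) (hN : PicF.IsInvertible N)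
    (hfl : FlatMod.IsFlatOver f N) (s : S)
    (h1 : Subsingleton (CohIII.fiberH f N s 1))
    (hgg : Curv2.IsGloballyGenerated (CohIII.fiberMod f N s)) (x : X) (hx : f x = s) :
    GenAt f N x := by
  haveI : N.IsQuasicoherent := isQuasicoherent_of_isInvertible N hN
  have hfp : CohB1.IsFP N := Groth.Agent.Lib.Helper2.LocFree.isFP_of_isFinLocFree N
    (Groth.Agent.Helper18PBUnit.isFinLocFree_of_isInvertible hN)
  obtain ⟨U, hsU, -, hgood⟩ :=
    Groth.Agent.Lib.R2H2.Bc0Bij.exists_nhd_push_of_fiberH_one f N hfp hfl s h1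
  have hx' : x ∈ Set.range (f.fiberι s) := by
    rw [Scheme.Hom.range_fiberι]
    exact hx
  obtain ⟨y, rfl⟩ := hx'
  have hNs : PicF.IsInvertible (CohIII.fiberMod f N s) := isInvertible_pullback (f.fiberι s) N hN
  obtain ⟨ε', hy⟩ := Groth.Agent.Lib.Helper23.GG.exists_section_mem_genLocus _ hNs hgg y
  set T := CohB1.genLocus (CohIII.fiberMod f N s) ε' with hTdef
  have hTP : T ≤ (f.fiberToSpecResidueField s) ⁻¹ᵁ ⊤ := fun _ _ => trivial
  obtain ⟨hle, t, c, hc, hct⟩ := exists_section_unitSec_eq_smul f N s U hsU hgood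
    (sv ε' ((f.fiberToSpecResidueField s) ⁻¹ᵁ ⊤))
  have hT : T ≤ (f.fiberι s) ⁻¹ᵁ (f ⁻¹ᵁ U) := hTP.trans hle
  have hgen : IsGen (CohIII.fiberMod f N s) T (unitSec (f.fiberι s) N hT t) := by
    have e1 := Groth.Agent.Helper13QcqsBC.unitSec_res (f.fiberι s) N hle hT le_rfl hTP t
    rw [res_self] at e1
    rw [← e1, hct, res_smul, res_sv]
    exact (isGen_smul_iff (isGen_sv_genLocus _ ε') _).2 (hc.map _)
  obtain ⟨V, hV, hyV, hVgen⟩ :=
    exists_isGen_nhd_of_isGen_unitSec (f.fiberι s) N hN (f ⁻¹ᵁ U) t T hT hgen y hy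
  exact ⟨U, t, V, hV, hyV, hVgen⟩

/-- **the counit `f^* f_* N → N` is an epimorphism when `N` is generated near every point by sections over
preimages of opens of the base** -/
theorem epi_counit_of_genAt (N : X.Modules) (h : ∀ x : X, GenAt f N x) :
    Epi ((Scheme.Modules.pullbackPushforwardAdjunction f).counit.app N) := by
  apply Groth.Agent.Lib.Helper23.Serre.epi_of_locally_surjective
  intro V m x hxV
  obtain ⟨U, t, W, hW, hxW, hgen⟩ := h x
  refine ⟨W ⊓ V, inf_le_right, ⟨hxW, hxV⟩, ?_⟩
  obtain ⟨r, hr⟩ := (hgen (W ⊓ V) inf_le_left).2 (res N (inf_le_right : W ⊓ V ≤ V) m)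
  simp only [] at hr
  rw [res_res] at hr
  let a : Γ((Scheme.Modules.pullback f).obj ((Scheme.Modules.pushforward f).obj N), f ⁻¹ᵁ U) :=
    unitSec f ((Scheme.Modules.pushforward f).obj N) (le_refl _) t
  have ha : ((Scheme.Modules.pullbackPushforwardAdjunction f).counit.app N).app (f ⁻¹ᵁ U) a = t :=
    Groth.Agent.Lib.R2H4GGDescent.counit_unitSec f N U t
  have hle : W ⊓ V ≤ f ⁻¹ᵁ U := inf_le_left.trans hW
  refine ⟨r • res _ hle a, ?_⟩
  rw [Scheme.Modules.Hom.app_smul]
  have h2 : ((Scheme.Modules.pullbackPushforwardAdjunction f).counit.app N).app (W ⊓ V)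
      (res ((Scheme.Modules.pullback f).obj ((Scheme.Modules.pushforward f).obj N)) hle a) =
      res N hle t := by
    rw [← ha]
    exact app_map ((Scheme.Modules.pullbackPushforwardAdjunction f).counit.app N)
      (homOfLE hle) a
  exact (congrArg (fun z => r • z) h2).trans hr

end Near

section Main

/-- **S16136** (in the generality the argument gives) -/
theorem main {X Y : Scheme.{u}} [CompactSpace Y] [IsLocallyNoetherian Y]
    (f : X ⟶ Y) [IsProper f] [Flat f]
    (L : X.Modules) (hL : PicF.IsInvertible L)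
    (h2 : ∀ y : Y, IsClosed ({y} : Set Y) →
      Subsingleton (Coh.HH (f.fiber y) ((Scheme.Modules.pullback (f.fiberι y)).obj L) 1))
    (hfib : ∀ y : Y, IsClosed ({y} : Set Y) →
      Curv2.IsGloballyGenerated ((Scheme.Modules.pullback (f.fiberι y)).obj L))
    (hE : Curv2.IsGloballyGenerated ((Scheme.Modules.pushforward f).obj L)) :
    Curv2.IsGloballyGenerated L := by
  haveI : LocallyOfFinitePresentation f :=
    LocallyOfFinitePresentation.iff_locallyOfFiniteType.mpr inferInstance
  have hfl : FlatMod.IsFlatOver f L :=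
    Groth.Agent.Lib.R2H4TrivInt.isFlatOver_of_isInvertible f L hL
  -- the locus where `L` is generated by sections over preimages
  have hopen : IsOpen {x : X | GenAt f L x} := by
    rw [isOpen_iff_forall_mem_open]
    rintro x ⟨U, t, W, hW, hxW, hgen⟩
    exact ⟨W, fun z hz => ⟨U, t, W, hW, hz, hgen⟩, W.2, hxW⟩
  have hall : ∀ x : X, GenAt f L x := by
    by_contra hcon
    push Not at hcon
    obtain ⟨x₀, hx₀⟩ := hcon
    have hcl : IsClosed (f '' {x : X | GenAt f L x}ᶜ) := f.isClosedMap _ hopen.isClosed_compl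
    obtain ⟨y, hy, hyc⟩ := hcl.exists_closed_singleton ⟨f x₀, x₀, hx₀, rfl⟩
    obtain ⟨x, hx, rfl⟩ := hy
    exact hx (genAt_of_fibre f L hL hfl (f x) (h2 _ hyc) (hfib _ hyc) x rfl)
  have hc : Epi ((Scheme.Modules.pullbackPushforwardAdjunction f).counit.app L) :=
    epi_counit_of_genAt f L hall
  obtain ⟨ι, q, hq⟩ := Groth.Agent.Lib.R2H4GGDescent.isGloballyGenerated_pullback f _ hE
  have hepi : Epi (q ≫ (Scheme.Modules.pullbackPushforwardAdjunction f).counit.app L) :=
    @epi_comp _ _ _ _ _ q hq _ hc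
  exact ⟨ι, _, hepi⟩

end Main

end Groth.Agent.Lib.R2H4FibGG
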