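import Mathlib
import Groth.Agent.Lib.R2H4FinInjFlat

/-!
# Descent of projectivity along finite injective maps of Noetherian rings  (helper4, round 2)

`R ⊆ S` finite, `R` Noetherian, `P` an `R`-module with `S ⊗[R] P` projective over `S`; then `P` is
projective over `R` (`projective_of_projective_baseChange`).

Proof: Noetherian induction on `R`.  `P` is flat by Ferrand's theorem (`R2H4FinInjFlat`).  There is an
`R`-linear "trace" `τ : S → R` with `f = τ 1 ≠ 0` (`exists_trace`, via an associated prime of `R`).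
Multiplication by `f` on any `N` factors through the coinduced module `Hom_R(S, N)`, so `f` kills
`Ext^i_R(P, N)` for `i ≥ 1` (`exists_map_of_trace`).  With `I = fS ∩ R ≠ 0`, the induction hypothesis
gives that `P/IP` is projective over `R/I`, hence `Ext^i_R(P, K) = 0` for `K` killed by a power of
`I`, in particular by `f` (`extZero_of_killed_pow`).  The factorisation `N ↠ fN ↪ N` of `f` then
gives `Ext¹_R(P, N) = 0` (`extZero_all`).  `Ext` groups are handled concretely via presentations
(`ExtZero`).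
-/

set_option autoImplicit false
set_option linter.style.haveILetI false
set_option linter.unnecessarySimpa false
universe u
open TensorProduct

namespace Groth.Agent.Lib.R2H4.FinInjProj

/-- a finite module over a domain has a functional not vanishing at a given non-torsion element -/
theorem exists_functional_ne_zero {D : Type u} [CommRing D] [IsDomain D] {M : Type u}
    [AddCommGroup M] [Module D M] [Module.Finite D M] (m : M)
    (hm : ∀ d : D, d • m = 0 → d = 0) : ∃ l : M →ₗ[D] D, l m ≠ 0 := by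
  classical
  let K := FractionRing D
  let V := LocalizedModule (nonZeroDivisors D) M
  let mk : M →ₗ[D] V := LocalizedModule.mkLinearMap (nonZeroDivisors D) M
  have hv : mk m ≠ 0 := by
    intro h
    obtain ⟨s, hs⟩ := (IsLocalizedModule.eq_zero_iff (nonZeroDivisors D) mk).1 h
    have := hm (s : D) hs
    exact nonZeroDivisors.coe_ne_zero s this
  obtain ⟨φ, hφ⟩ := Module.Projective.exists_dual_ne_zero K hv
  obtain ⟨t, ht⟩ := (Module.Finite.fg_top : (⊤ : Submodule D M).FG)
  obtain ⟨b, hb⟩ := IsLocalization.exist_integer_multiples_of_finset (nonZeroDivisors D)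
    (t.image (fun x => φ (mk x)))
  -- the `D`-linear map `x ↦ b • φ (mk x)`
  let ψ : M →ₗ[D] K := (b : D) • ((φ.restrictScalars D) ∘ₗ mk)
  have hψ : ∀ x, ψ x ∈ LinearMap.range (Algebra.linearMap D K) := by
    intro x
    have hx : x ∈ Submodule.span D (t : Set M) := by rw [ht]; trivial
    have : Submodule.span D (t : Set M) ≤ (LinearMap.range (Algebra.linearMap D K)).comap ψ := by
      refine Submodule.span_le.2 (fun y hy => ?_)
      obtain ⟨d, hd⟩ := hb (φ (mk y)) (Finset.mem_image_of_mem _ hy)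
      exact ⟨d, hd⟩
    exact this hx
  have hinj : Function.Injective (Algebra.linearMap D K) := IsFractionRing.injective D K
  let e := LinearEquiv.ofInjective (Algebra.linearMap D K) hinj
  refine ⟨e.symm.toLinearMap ∘ₗ LinearMap.codRestrict _ ψ hψ, ?_⟩
  intro h0
  have h1 : (LinearMap.codRestrict _ ψ hψ) m = 0 := by
    have := congrArg e h0
    simpa using this
  have h2 : ψ m = 0 := congrArg Subtype.val h1
  have h3 : (b : D) • φ (mk m) = 0 := h2
  rw [Algebra.smul_def, mul_eq_zero] at h3
  rcases h3 with h3 | h3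
  · exact nonZeroDivisors.coe_ne_zero b (hinj (by simpa using h3))
  · exact hφ h3

/-- a finite injective extension of a nonzero Noetherian ring has a "trace" with nonzero value at 1 -/
theorem exists_trace (R S : Type u) [CommRing R] [IsNoetherianRing R] [Nontrivial R] [CommRing S]
    [Algebra R S] [Module.Finite R S] (hinj : Function.Injective (algebraMap R S)) :
    ∃ τ : S →ₗ[R] R, τ 1 ≠ 0 := by
  classical
  obtain ⟨𝔭, h𝔭⟩ := associatedPrimes.nonempty R R
  obtain ⟨hprime, z, hz⟩ := isAssociatedPrime_iff.1 h𝔭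
  haveI := hprime
  haveI : Algebra.IsIntegral R S := Algebra.IsIntegral.of_finite R S
  obtain ⟨𝔮, -, h𝔮prime, h𝔮⟩ := Ideal.exists_ideal_over_prime_of_isIntegral 𝔭 (⊥ : Ideal S)
    (by
      rw [← RingHom.ker_eq_comap_bot, (RingHom.injective_iff_ker_eq_bot _).1 hinj]
      exact bot_le)
  haveI := h𝔮prime
  -- the domain `D = R / (𝔮 ∩ R)` and the finite `D`-algebra `S / 𝔮`
  let 𝔭' := 𝔮.comap (algebraMap R S)
  haveI : 𝔭'.IsPrime := Ideal.comap_isPrime _ _
  haveI : Module.Finite (R ⧸ 𝔮.comap (algebraMap R S)) (S ⧸ 𝔮) :=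
    Module.Finite.of_restrictScalars_finite R _ _
  have hone : ∀ d : R ⧸ 𝔮.comap (algebraMap R S), d • (1 : S ⧸ 𝔮) = 0 → d = 0 := by
    intro d hd
    rw [Algebra.smul_def, mul_one] at hd
    exact (Ideal.algebraMap_quotient_injective (I := 𝔮) (R := R)) (by rw [hd, map_zero])
  obtain ⟨l, hl⟩ := exists_functional_ne_zero (D := R ⧸ 𝔮.comap (algebraMap R S))
    (M := S ⧸ 𝔮) 1 hone
  -- the embedding `D → R`, `d ↦ d z`
  have hker : 𝔮.comap (algebraMap R S) ≤ LinearMap.ker (LinearMap.toSpanSingleton R R z) := by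
    intro r hr
    rw [h𝔮, hz, Submodule.mem_colon_singleton] at hr
    simpa using hr
  let j : (R ⧸ 𝔮.comap (algebraMap R S)) →ₗ[R] R :=
    Submodule.liftQ _ (LinearMap.toSpanSingleton R R z) hker
  have hj : Function.Injective j := by
    rw [← LinearMap.ker_eq_bot, Submodule.ker_liftQ_eq_bot']
    · refine le_antisymm hker ?_
      intro r hr
      rw [h𝔮, hz, Submodule.mem_colon_singleton]
      simpa using hr
  refine ⟨j ∘ₗ (l.restrictScalars R) ∘ₗ (Ideal.Quotient.mkₐ R 𝔮).toLinearMap, ?_⟩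
  intro h0
  apply hl
  apply hj
  rw [map_zero]
  simpa using h0

section pres

variable {R : Type u} [CommRing R]
variable {Ω F P : Type u} [AddCommGroup Ω] [Module R Ω] [AddCommGroup F] [Module R F]
  [AddCommGroup P] [Module R P]

/-- `Ext¹(P, K) = 0` in concrete form, relative to a presentation `Ω → F → P` -/
def ExtZero (ι : Ω →ₗ[R] F) (K : Type u) [AddCommGroup K] [Module R K] : Prop :=
  ∀ g : Ω →ₗ[R] K, ∃ G : F →ₗ[R] K, G ∘ₗ ι = g

/-- closure under extensions -/
theorem ExtZero.of_sub_quot [Module.Projective R F] (ι : Ω →ₗ[R] F) {K : Type u} [AddCommGroup K]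
    [Module R K] (K' : Submodule R K) (h1 : ExtZero ι K') (h2 : ExtZero ι (K ⧸ K')) :
    ExtZero ι K := by
  intro g
  obtain ⟨G'', hG''⟩ := h2 (K'.mkQ ∘ₗ g)
  obtain ⟨Gt, hGt⟩ := Module.projective_lifting_property K'.mkQ G'' K'.mkQ_surjective
  have hmem : ∀ ω, (g - Gt ∘ₗ ι) ω ∈ K' := by
    intro ω
    rw [← Submodule.Quotient.mk_eq_zero, LinearMap.sub_apply, Submodule.Quotient.mk_sub]
    have e1 : Submodule.Quotient.mk (p := K') (g ω) = G'' (ι ω) :=
      (LinearMap.congr_fun hG'' ω).symm
    have e2 : Submodule.Quotient.mk (p := K') ((Gt ∘ₗ ι) ω) = G'' (ι ω) :=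
      LinearMap.congr_fun hGt (ι ω)
    rw [e1, e2, sub_self]
  obtain ⟨G', hG'⟩ := h1 (LinearMap.codRestrict K' (g - Gt ∘ₗ ι) hmem)
  refine ⟨K'.subtype ∘ₗ G' + Gt, ?_⟩
  ext ω
  have := congrArg Subtype.val (LinearMap.congr_fun hG' ω)
  simp only [LinearMap.coe_comp, Function.comp_apply, LinearMap.codRestrict_apply,
    LinearMap.sub_apply] at this
  simp only [LinearMap.add_comp, LinearMap.add_apply, LinearMap.coe_comp, Function.comp_apply,
    Submodule.subtype_apply, this]
  abel

/-- the kernel of a surjection of flat modules is flat -/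
theorem flat_of_exact [Module.Flat R F] [Module.Flat R P] (ι : Ω →ₗ[R] F) (π : F →ₗ[R] P)
    (hι : Function.Injective ι) (hπ : Function.Surjective π) (hex : Function.Exact ι π) :
    Module.Flat R Ω := by
  rw [Module.Flat.iff_rTensor_injective']
  intro I
  have h1 : Function.Injective (ι.lTensor I) :=
    LinearMap.lTensor_injective_of_exact_of_flat π hπ ι hι hex I
  have h2 : Function.Injective (I.subtype.rTensor F) :=
    Module.Flat.rTensor_preserves_injective_linearMap _ Subtype.val_injective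
  have h3 : (ι.lTensor R) ∘ₗ (I.subtype.rTensor Ω) = (I.subtype.rTensor F) ∘ₗ (ι.lTensor I) := by
    rw [LinearMap.lTensor_comp_rTensor, LinearMap.rTensor_comp_lTensor]
  have h4 : Function.Injective ((ι.lTensor R) ∘ₗ (I.subtype.rTensor Ω)) := by
    rw [h3]; exact h2.comp h1
  exact Function.Injective.of_comp h4

/-- retraction of the base change of a presentation of a flat module, whenever the base change of
the module is projective -/
theorem exists_retraction [Module.Flat R P] (ι : Ω →ₗ[R] F) (π : F →ₗ[R] P)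
    (hι : Function.Injective ι) (hπ : Function.Surjective π) (hex : Function.Exact ι π)
    (A : Type u) [CommRing A] [Algebra R A] [Module.Projective A (A ⊗[R] P)] :
    ∃ r : A ⊗[R] F →ₗ[A] A ⊗[R] Ω, r ∘ₗ ι.baseChange A = LinearMap.id := by
  have hinj : Function.Injective (ι.baseChange A) := by
    have := LinearMap.lTensor_injective_of_exact_of_flat π hπ ι hι hex A
    intro x y hxy
    exact this hxy
  have hsurj : Function.Surjective (π.baseChange A) := by
    have := LinearMap.lTensor_surjective A hπ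
    intro x
    exact this x
  have hexA : Function.Exact (ι.baseChange A) (π.baseChange A) := by
    have := lTensor_exact A hex hπ
    intro x
    exact this x
  obtain ⟨s, hs⟩ := Module.projective_lifting_property (π.baseChange A) LinearMap.id hsurj
  have htfae := Function.Exact.split_tfae hexA hinj hsurj
  have h01 := htfae.out 0 1
  exact h01.1 ⟨s, hs⟩

end pres

section pres

variable {R : Type u} [CommRing R]
variable {Ω F P : Type u} [AddCommGroup Ω] [Module R Ω] [AddCommGroup F] [Module R F]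
  [AddCommGroup P] [Module R P]

/-- (S2), base case: `Ext¹(P, K) = 0` if `K` is killed by `I`, `P` is flat and `P/IP` is projective
over `R/I`. -/
theorem extZero_of_killed [Module.Flat R P] (ι : Ω →ₗ[R] F) (π : F →ₗ[R] P)
    (hι : Function.Injective ι) (hπ : Function.Surjective π) (hex : Function.Exact ι π)
    (I : Ideal R) [Module.Projective (R ⧸ I) ((R ⧸ I) ⊗[R] P)]
    (K : Type u) [AddCommGroup K] [Module R K] (hK : ∀ x ∈ I, ∀ k : K, x • k = 0) :
    ExtZero ι K := by
  intro g
  obtain ⟨r, hr⟩ := exists_retraction ι π hι hπ hex (R ⧸ I)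
  have hI : (I : Submodule R R) ≤ LinearMap.ker ((LinearMap.lsmul R (Ω →ₗ[R] K)).flip g) := by
    intro x hx
    rw [LinearMap.mem_ker]
    ext ω
    simpa using hK x hx (g ω)
  let b : (R ⧸ I) →ₗ[R] (Ω →ₗ[R] K) :=
    Submodule.liftQ (I : Submodule R R) ((LinearMap.lsmul R (Ω →ₗ[R] K)).flip g) hI
  let θ : (R ⧸ I) ⊗[R] Ω →ₗ[R] K := TensorProduct.lift b
  have hθ : ∀ ω, θ ((1 : R ⧸ I) ⊗ₜ ω) = g ω := by
    intro ω
    show b (Submodule.Quotient.mk (1 : R)) ω = g ω
    simp only [b]
    rw [Submodule.liftQ_apply]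
    simp
  refine ⟨θ ∘ₗ (r.restrictScalars R) ∘ₗ (TensorProduct.mk R (R ⧸ I) F 1), ?_⟩
  ext ω
  have h1 : r ((1 : R ⧸ I) ⊗ₜ[R] ι ω) = (1 : R ⧸ I) ⊗ₜ[R] ω := by
    have := LinearMap.congr_fun hr ((1 : R ⧸ I) ⊗ₜ[R] ω)
    simpa using this
  simp only [LinearMap.coe_comp, Function.comp_apply, TensorProduct.mk_apply,
    LinearMap.coe_restrictScalars, h1, hθ]

/-- (S2), general case: `K` killed by a power of `I`. -/
theorem extZero_of_killed_pow [Module.Flat R P] [Module.Projective R F] (ι : Ω →ₗ[R] F)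
    (π : F →ₗ[R] P)
    (hι : Function.Injective ι) (hπ : Function.Surjective π) (hex : Function.Exact ι π)
    (I : Ideal R) [Module.Projective (R ⧸ I) ((R ⧸ I) ⊗[R] P)] (m : ℕ) :
    ∀ (K : Type u) [AddCommGroup K] [Module R K], (∀ x ∈ I ^ m, ∀ k : K, x • k = 0) →
      ExtZero ι K := by
  induction m with
  | zero =>
    intro K _ _ hK g
    have h0 : ∀ k : K, k = 0 := fun k => by
      have := hK 1 (by simp) k
      simpa using this
    exact ⟨0, by ext ω; simp [h0 (g ω)]⟩
  | succ m ih =>
    intro K _ _ hK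
    let K' : Submodule R K := I • ⊤
    refine ExtZero.of_sub_quot ι K' (ih K' ?_) (extZero_of_killed ι π hι hπ hex I (K ⧸ K') ?_)
    · intro x hx k
      apply Subtype.ext
      show x • (k : K) = 0
      have hk : (k : K) ∈ I • (⊤ : Submodule R K) := k.2
      refine Submodule.smul_induction_on hk (fun a ha n _ => ?_) (fun y z hy hz => ?_)
      · rw [← mul_smul]
        exact hK (x * a) (by rw [pow_succ]; exact Ideal.mul_mem_mul hx ha) n
      · rw [smul_add, hy, hz, add_zero]
    · intro x hx k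
      obtain ⟨k, rfl⟩ := K'.mkQ_surjective k
      rw [← map_smul, Submodule.mkQ_apply, Submodule.Quotient.mk_eq_zero]
      exact Submodule.smul_mem_smul hx trivial

/-- (S1): a "trace" `τ : S → R` kills the extension class, up to `τ 1`. -/
theorem exists_map_of_trace [Module.Flat R P] (ι : Ω →ₗ[R] F) (π : F →ₗ[R] P)
    (hι : Function.Injective ι) (hπ : Function.Surjective π) (hex : Function.Exact ι π)
    (S : Type u) [CommRing S] [Algebra R S] [Module.Projective S (S ⊗[R] P)] (τ : S →ₗ[R] R) :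
    ∃ G₀ : F →ₗ[R] Ω, ∀ ω, G₀ (ι ω) = τ 1 • ω := by
  obtain ⟨r, hr⟩ := exists_retraction ι π hι hπ hex S
  let h : S ⊗[R] Ω →ₗ[R] Ω := TensorProduct.lift ((LinearMap.lsmul R Ω) ∘ₗ τ)
  refine ⟨h ∘ₗ (r.restrictScalars R) ∘ₗ (TensorProduct.mk R S F 1), fun ω => ?_⟩
  have h1 : r ((1 : S) ⊗ₜ[R] ι ω) = (1 : S) ⊗ₜ[R] ω := by
    have := LinearMap.congr_fun hr ((1 : S) ⊗ₜ[R] ω)
    simpa using this
  simp only [LinearMap.coe_comp, Function.comp_apply, TensorProduct.mk_apply,
    LinearMap.coe_restrictScalars, h1]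
  simp [h]

end pres

section assemble

variable {R : Type u} [CommRing R]
variable {Ω F Ω₂ F₂ : Type u} [AddCommGroup Ω] [Module R Ω] [AddCommGroup F] [Module R F]
  [AddCommGroup Ω₂] [Module R Ω₂] [AddCommGroup F₂] [Module R F₂]

/-- final assembly: if `f` kills the extension class and `Ext¹(P, K) = Ext²(P, K) = 0` for all `K`
killed by `f`, then `Ext¹(P, N) = 0` for all `N`. -/
theorem extZero_all [Module.Projective R F] [Module.Projective R F₂]
    (ι : Ω →ₗ[R] F) (ι₂ : Ω₂ →ₗ[R] F₂) (π₂ : F₂ →ₗ[R] Ω)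
    (hπ₂ : Function.Surjective π₂) (hex₂ : Function.Exact ι₂ π₂) (f : R)
    (h1 : ∀ (K : Type u) [AddCommGroup K] [Module R K], (∀ k : K, f • k = 0) → ExtZero ι K)
    (h2 : ∀ (K : Type u) [AddCommGroup K] [Module R K], (∀ k : K, f • k = 0) → ExtZero ι₂ K)
    (G₀ : F →ₗ[R] Ω) (hG₀ : ∀ ω, G₀ (ι ω) = f • ω)
    (N : Type u) [AddCommGroup N] [Module R N] : ExtZero ι N := by
  intro g
  let μ₀ : N →ₗ[R] N := f • LinearMap.id
  have hμ₀ : ∀ n, μ₀ n = f • n := fun n => rfl
  let fN : Submodule R N := LinearMap.range μ₀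
  let Nf : Submodule R N := LinearMap.ker μ₀
  -- (b)
  have hkill1 : ∀ k : N ⧸ fN, f • k = 0 := by
    intro k
    obtain ⟨n, rfl⟩ := fN.mkQ_surjective k
    rw [← map_smul, Submodule.mkQ_apply, Submodule.Quotient.mk_eq_zero]
    exact ⟨n, rfl⟩
  obtain ⟨G'', hG''⟩ := h1 (N ⧸ fN) hkill1 (fN.mkQ ∘ₗ g)
  obtain ⟨Gt, hGt⟩ := Module.projective_lifting_property fN.mkQ G'' fN.mkQ_surjective
  have hmem : ∀ ω, (g - Gt ∘ₗ ι) ω ∈ fN := by
    intro ω
    rw [← Submodule.Quotient.mk_eq_zero, LinearMap.sub_apply, Submodule.Quotient.mk_sub]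
    have e1 : Submodule.Quotient.mk (p := fN) (g ω) = G'' (ι ω) :=
      (LinearMap.congr_fun hG'' ω).symm
    have e2 : Submodule.Quotient.mk (p := fN) ((Gt ∘ₗ ι) ω) = G'' (ι ω) :=
      LinearMap.congr_fun hGt (ι ω)
    rw [e1, e2, sub_self]
  let g'r : Ω →ₗ[R] fN := LinearMap.codRestrict fN (g - Gt ∘ₗ ι) hmem
  -- (c)
  let μ : N →ₗ[R] fN := μ₀.rangeRestrict
  have hμ : Function.Surjective μ := LinearMap.surjective_rangeRestrict μ₀
  obtain ⟨gh, hgh⟩ := Module.projective_lifting_property μ (g'r ∘ₗ π₂) hμ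
  have hgh' : ∀ x, f • gh x = g (π₂ x) - Gt (ι (π₂ x)) := by
    intro x
    have := congrArg Subtype.val (LinearMap.congr_fun hgh x)
    simpa [μ, g'r, hμ₀] using this
  have hmem2 : ∀ ω₂, (gh ∘ₗ ι₂) ω₂ ∈ Nf := by
    intro ω₂
    rw [LinearMap.mem_ker, hμ₀, LinearMap.comp_apply, hgh', hex₂.apply_apply_eq_zero]
    simp
  have hkill2 : ∀ k : Nf, f • k = 0 := by
    intro k
    apply Subtype.ext
    have := k.2
    rw [LinearMap.mem_ker, hμ₀] at this
    simpa using this
  obtain ⟨G₂, hG₂⟩ := h2 Nf hkill2 (LinearMap.codRestrict Nf (gh ∘ₗ ι₂) hmem2)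
  let d : F₂ →ₗ[R] N := gh - Nf.subtype ∘ₗ G₂
  have hd : LinearMap.ker π₂ ≤ LinearMap.ker d := by
    intro x hx
    obtain ⟨ω₂, rfl⟩ := (hex₂ x).1 hx
    have := congrArg Subtype.val (LinearMap.congr_fun hG₂ ω₂)
    simp only [LinearMap.coe_comp, Function.comp_apply, LinearMap.codRestrict_apply] at this
    rw [LinearMap.mem_ker]
    simp only [d, LinearMap.sub_apply, LinearMap.coe_comp, Function.comp_apply,
      Submodule.subtype_apply, this, sub_self]
  let e := LinearMap.quotKerEquivOfSurjective π₂ hπ₂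
  let g₂ : Ω →ₗ[R] N := (Submodule.liftQ _ d hd) ∘ₗ e.symm.toLinearMap
  have hg₂ : ∀ x, g₂ (π₂ x) = d x := by
    intro x
    have : e.symm (π₂ x) = Submodule.Quotient.mk x := by
      rw [LinearEquiv.symm_apply_eq]
      rfl
    simp only [g₂, LinearMap.coe_comp, Function.comp_apply, LinearEquiv.coe_coe, this,
      Submodule.liftQ_apply]
  have hfg₂ : ∀ ω, f • g₂ ω = g ω - Gt (ι ω) := by
    intro ω
    obtain ⟨x, rfl⟩ := hπ₂ ω
    rw [hg₂]
    simp only [d, LinearMap.sub_apply, LinearMap.coe_comp, Function.comp_apply,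
      Submodule.subtype_apply, smul_sub, hgh']
    have := congrArg Subtype.val (hkill2 (G₂ x))
    simp only [Submodule.coe_smul, ZeroMemClass.coe_zero] at this
    rw [this, sub_zero]
  -- (d)
  refine ⟨g₂ ∘ₗ G₀ + Gt, ?_⟩
  ext ω
  simp only [LinearMap.add_comp, LinearMap.add_apply, LinearMap.coe_comp, Function.comp_apply,
    hG₀, map_smul, hfg₂]
  abel

end assemble

/-- the statement for a given base ring -/
def Claim (A : Type u) [CommRing A] : Prop :=
  ∀ (S : Type u) [CommRing S] [Algebra A S] [Module.Finite A S],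
    Function.Injective (algebraMap A S) → ∀ (P : Type u) [AddCommGroup P] [Module A P],
      Module.Projective S (S ⊗[A] P) → Module.Projective A P

set_option maxHeartbeats 400000 in
theorem reduce {R S : Type u} [CommRing R] [CommRing S] [Algebra R S] [Module.Finite R S]
    (𝔞 : Ideal S) (hIH : Claim (R ⧸ 𝔞.comap (algebraMap R S)))
    (Q : Type u) [AddCommGroup Q] [Module R Q] [Module.Projective S (S ⊗[R] Q)] :
    Module.Projective (R ⧸ 𝔞.comap (algebraMap R S)) ((R ⧸ 𝔞.comap (algebraMap R S)) ⊗[R] Q) := by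
  haveI : Module.Finite (R ⧸ 𝔞.comap (algebraMap R S)) (S ⧸ 𝔞) :=
    Module.Finite.of_restrictScalars_finite R _ _
  refine hIH (S ⧸ 𝔞) Ideal.algebraMap_quotient_injective _ ?_
  let e1 := TensorProduct.AlgebraTensorModule.cancelBaseChange R
    (R ⧸ 𝔞.comap (algebraMap R S)) (S ⧸ 𝔞) (S ⧸ 𝔞) Q
  let e2 := TensorProduct.AlgebraTensorModule.cancelBaseChange R S (S ⧸ 𝔞) (S ⧸ 𝔞) Q
  exact Module.Projective.of_equiv (e2.trans e1.symm)

/-- for an integral injective extension, `fS ∩ R` is contained in the radical of `fR` -/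
theorem comap_span_le_radical {R S : Type u} [CommRing R] [CommRing S] [Algebra R S]
    [Algebra.IsIntegral R S] (hinj : Function.Injective (algebraMap R S)) (f : R) :
    (Ideal.span {algebraMap R S f}).comap (algebraMap R S) ≤ (Ideal.span {f}).radical := by
  rw [Ideal.radical_eq_sInf]
  refine le_sInf ?_
  rintro 𝔭 ⟨hf𝔭, h𝔭⟩
  haveI := h𝔭
  obtain ⟨𝔮, -, -, h𝔮⟩ := Ideal.exists_ideal_over_prime_of_isIntegral 𝔭 (⊥ : Ideal S)
    (by
      rw [← RingHom.ker_eq_comap_bot, (RingHom.injective_iff_ker_eq_bot _).1 hinj]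
      exact bot_le)
  rw [← h𝔮]
  refine Ideal.comap_mono ?_
  rw [Ideal.span_le, Set.singleton_subset_iff]
  have : f ∈ 𝔭 := hf𝔭 (Ideal.subset_span rfl)
  rw [← h𝔮] at this
  exact this

set_option maxHeartbeats 400000 in
/-- the core of the induction step, with abstract presentations -/
theorem step_core' {R : Type u} [CommRing R] (S : Type u) [CommRing S] [Algebra R S]
    {P Ω F Ω₂ F₂ : Type u} [AddCommGroup P] [Module R P] [Module.Flat R P]
    [Module.Projective S (S ⊗[R] P)]
    [AddCommGroup Ω] [Module R Ω] [AddCommGroup F] [Module R F]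
    [AddCommGroup Ω₂] [Module R Ω₂] [AddCommGroup F₂] [Module R F₂]
    [Module.Free R F] [Module.Free R F₂]
    (ι : Ω →ₗ[R] F) (π : F →ₗ[R] P)
    (hι : Function.Injective ι) (hπ : Function.Surjective π) (hex : Function.Exact ι π)
    (ι₂ : Ω₂ →ₗ[R] F₂) (π₂ : F₂ →ₗ[R] Ω)
    (hι₂ : Function.Injective ι₂) (hπ₂ : Function.Surjective π₂) (hex₂ : Function.Exact ι₂ π₂)
    (τ : S →ₗ[R] R) (I : Ideal R) (m : ℕ) (hpow : I ^ m ≤ Ideal.span {τ 1})
    (hred : ∀ (Q : Type u) [AddCommGroup Q] [Module R Q], Module.Projective S (S ⊗[R] Q) →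
      Module.Projective (R ⧸ I) ((R ⧸ I) ⊗[R] Q)) :
    Module.Projective R P := by
  haveI : Module.Flat R Ω := flat_of_exact ι π hι hπ hex
  -- `S ⊗ Ω` is projective
  haveI hΩS : Module.Projective S (S ⊗[R] Ω) := by
    obtain ⟨r, hr⟩ := exists_retraction ι π hι hπ hex S
    exact Module.Projective.of_split (ι.baseChange S) r hr
  haveI := hred P inferInstance
  haveI := hred Ω hΩS
  -- killed by `f` implies killed by `I ^ m`
  have hk : ∀ (K : Type u) [AddCommGroup K] [Module R K], (∀ k : K, τ 1 • k = 0) →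
      ∀ x ∈ I ^ m, ∀ k : K, x • k = 0 := by
    intro K _ _ hK x hx k
    obtain ⟨a, rfl⟩ := Ideal.mem_span_singleton'.1 (hpow hx)
    rw [mul_smul, hK, smul_zero]
  obtain ⟨G₀, hG₀⟩ := exists_map_of_trace ι π hι hπ hex S τ
  have key := extZero_all ι ι₂ π₂ hπ₂ hex₂ (τ 1)
    (fun K _ _ hK => extZero_of_killed_pow ι π hι hπ hex I m K (hk K hK))
    (fun K _ _ hK => extZero_of_killed_pow ι₂ π₂ hι₂ hπ₂ hex₂ I m K (hk K hK))
    G₀ hG₀ Ω
  obtain ⟨ρ, hρ⟩ := key LinearMap.id
  -- `P` is a direct summand of `F`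
  have htfae := Function.Exact.split_tfae hex hι hπ
  have h10 := htfae.out 1 0
  obtain ⟨s, hs⟩ := h10.1 ⟨ρ, hρ⟩
  exact Module.Projective.of_split s π hs

set_option maxHeartbeats 400000 in
/-- the core of the induction step, first presentation abstract -/
theorem step_core'' {R : Type u} [CommRing R] (S : Type u) [CommRing S] [Algebra R S]
    {P Ω F : Type u} [AddCommGroup P] [Module R P] [Module.Flat R P]
    [Module.Projective S (S ⊗[R] P)]
    [AddCommGroup Ω] [Module R Ω] [AddCommGroup F] [Module R F] [Module.Free R F]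
    (ι : Ω →ₗ[R] F) (π : F →ₗ[R] P)
    (hι : Function.Injective ι) (hπ : Function.Surjective π) (hex : Function.Exact ι π)
    (τ : S →ₗ[R] R) (I : Ideal R) (m : ℕ) (hpow : I ^ m ≤ Ideal.span {τ 1})
    (hred : ∀ (Q : Type u) [AddCommGroup Q] [Module R Q], Module.Projective S (S ⊗[R] Q) →
      Module.Projective (R ⧸ I) ((R ⧸ I) ⊗[R] Q)) :
    Module.Projective R P :=
  step_core' S (Ω₂ := LinearMap.ker (Finsupp.linearCombination R (id : Ω → Ω))) (F₂ := Ω →₀ R)
    ι π hι hπ hex
    (LinearMap.ker (Finsupp.linearCombination R (id : Ω → Ω))).subtype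
    (Finsupp.linearCombination R (id : Ω → Ω)) (Submodule.injective_subtype _)
    (Finsupp.linearCombination_id_surjective R Ω)
    (LinearMap.exact_subtype_ker_map (Finsupp.linearCombination R (id : Ω → Ω)))
    τ I m hpow hred

set_option maxHeartbeats 400000 in
/-- the core of the induction step -/
theorem step_core {R : Type u} [CommRing R] (S : Type u) [CommRing S] [Algebra R S]
    (P : Type u) [AddCommGroup P] [Module R P] [Module.Flat R P] [Module.Projective S (S ⊗[R] P)]
    (τ : S →ₗ[R] R) (I : Ideal R) (m : ℕ) (hpow : I ^ m ≤ Ideal.span {τ 1})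
    (hred : ∀ (Q : Type u) [AddCommGroup Q] [Module R Q], Module.Projective S (S ⊗[R] Q) →
      Module.Projective (R ⧸ I) ((R ⧸ I) ⊗[R] Q)) :
    Module.Projective R P :=
  step_core'' S (Ω := LinearMap.ker (Finsupp.linearCombination R (id : P → P))) (F := P →₀ R)
    (LinearMap.ker (Finsupp.linearCombination R (id : P → P))).subtype
    (Finsupp.linearCombination R (id : P → P)) (Submodule.injective_subtype _)
    (Finsupp.linearCombination_id_surjective R P)
    (LinearMap.exact_subtype_ker_map (Finsupp.linearCombination R (id : P → P)))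
    τ I m hpow hred

set_option maxHeartbeats 400000 in
theorem step (R : Type u) [CommRing R] [IsNoetherianRing R]
    (IH : ∀ J : Ideal R, J ≠ ⊥ → Claim (R ⧸ J)) : Claim R := by
  intro S _ _ _ hinj P _ _ hP
  rcases subsingleton_or_nontrivial R with hR | hR
  · haveI : Subsingleton P := Module.subsingleton R P
    infer_instance
  haveI : Module.Flat R P := FinInjFlat.flat_of_flat_baseChange R S hinj P
  haveI : Algebra.IsIntegral R S := Algebra.IsIntegral.of_finite R S
  obtain ⟨τ, hτ⟩ := exists_trace R S hinj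
  -- the ideal `I' = fS ∩ R`
  have hne : (Ideal.span {algebraMap R S (τ 1)}).comap (algebraMap R S) ≠ ⊥ := by
    intro h
    have : τ 1 ∈ (Ideal.span {algebraMap R S (τ 1)}).comap (algebraMap R S) :=
      Ideal.subset_span rfl
    rw [h] at this
    exact hτ this
  obtain ⟨m, hm⟩ := Ideal.exists_radical_pow_le_of_fg (Ideal.span {τ 1})
    (IsNoetherian.noetherian _)
  have hpow : ((Ideal.span {algebraMap R S (τ 1)}).comap (algebraMap R S)) ^ m ≤
      Ideal.span {τ 1} :=
    (Ideal.pow_right_mono (comap_span_le_radical hinj (τ 1)) m).trans hm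
  have hIH := IH _ hne
  exact step_core S P τ _ m hpow (fun Q _ _ hQ => reduce _ hIH Q)

/-- **Projectivity descends along finite injective maps of Noetherian rings.** -/
theorem projective_of_projective_baseChange (R S : Type u) [CommRing R] [IsNoetherianRing R]
    [CommRing S] [Algebra R S] [Module.Finite R S] (hinj : Function.Injective (algebraMap R S))
    (P : Type u) [AddCommGroup P] [Module R P] [Module.Projective S (S ⊗[R] P)] :
    Module.Projective R P := by
  -- Noetherian induction over the ideals of `R`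
  have main : ∀ I : Ideal R, ∀ (R' : Type u) [CommRing R'] (φ : R →+* R'),
      Function.Surjective φ → RingHom.ker φ = I → Claim R' := by
    intro I
    induction I using WellFoundedGT.induction with
    | ind I ih =>
      intro R' _ φ hφ hker
      haveI : IsNoetherianRing R' := isNoetherianRing_of_surjective R R' φ hφ
      refine step R' (fun J hJ => ?_)
      refine ih (RingHom.ker ((Ideal.Quotient.mk J).comp φ)) ?_ (R' ⧸ J)
        ((Ideal.Quotient.mk J).comp φ) (Ideal.Quotient.mk_surjective.comp hφ) rfl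
      -- strictness
      obtain ⟨x, hxJ, hx0⟩ := Submodule.exists_mem_ne_zero_of_ne_bot hJ
      obtain ⟨r, rfl⟩ := hφ x
      refine lt_of_le_of_ne ?_ ?_
      · rw [← hker]
        intro y hy
        rw [RingHom.mem_ker] at hy ⊢
        rw [RingHom.comp_apply, hy, map_zero]
      · intro h
        have hr : r ∈ RingHom.ker ((Ideal.Quotient.mk J).comp φ) := by
          rw [RingHom.mem_ker, RingHom.comp_apply, Ideal.Quotient.eq_zero_iff_mem]
          exact hxJ
        rw [← h, ← hker, RingHom.mem_ker] at hr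
        exact hx0 hr
  exact main ⊥ R (RingHom.id R) Function.surjective_id
    ((RingHom.injective_iff_ker_eq_bot _).1 Function.injective_id) S hinj P inferInstance

end Groth.Agent.Lib.R2H4.FinInjProj
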