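import Mathlib
import Groth.Prelude.Def_RegImm
import Groth.Agent.Lib.R2H4SyntNhdB
import Groth.Agent.Lib.R2H4SyntStd
import Groth.Agent.Lib.R2LeadSyntC

/-!
# Finite syntomic algebras over a local ring have a square presentation (helper4, round 2)

`exists_global_gens`: semilocal patching of generators of an ideal (Nakayama + CRT).
`local_data`, `local_gens`: local generators of the ideal of a presentation of a syntomic algebra.
`finite_maximalSpectrum_of_finite`: a finite algebra over a local ring is semilocal.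
`main8954`: `A` local, `B` finite: `A → B` syntomic iff `B ≅ A[x_1..x_n]/(f_1..f_n)`.
-/

set_option autoImplicit false
set_option linter.style.haveILetI false
universe u
open scoped TensorProduct Pointwise
open Function

namespace Groth.Agent.Lib.R2H4.FinSynt

open IsLocalRing RingTheory.Sequence
open Groth.Agent.Lib.R2H4.SyntNhd Groth.Agent.Lib.R2H4.RelGCIAway Groth.Agent.Lib.R2LeadSyntC

/-- **Semilocal patching of generators.** Let `I` be a finitely generated ideal of `P` such that
only finitely many maximal ideals `Q i` contain `I`, and suppose that at each of them `I` is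
generated by `n` elements modulo `Q i • I`. Then there are `n` elements `f k ∈ I` and `g ≡ 1`
modulo `I` with `g • I ⊆ (f)`. -/
theorem exists_global_gens {P : Type u} [CommRing P] (I : Ideal P) (hI : I.FG) (n : ℕ)
    {ι : Type*} [Finite ι] (Q : ι → Ideal P) (hQmax : ∀ i, (Q i).IsMaximal)
    (hinj : Function.Injective Q)
    (hcover : ∀ M : Ideal P, M.IsMaximal → I ≤ M → ∃ i, M = Q i)
    (F : ι → Fin n → P) (hF : ∀ i k, F i k ∈ I)
    (hgen : ∀ i, I ≤ Ideal.span (Set.range (F i)) ⊔ Q i • I) :
    ∃ (f : Fin n → P) (g : P), (∀ k, f k ∈ I) ∧ g - 1 ∈ I ∧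
      ∀ a ∈ I, g * a ∈ Ideal.span (Set.range f) := by
  classical
  haveI := Fintype.ofFinite ι
  have hcop : Pairwise (IsCoprime on Q) := by
    intro i j hij
    haveI := hQmax i
    haveI := hQmax j
    exact Ideal.isCoprime_of_isMaximal (hinj.ne hij)
  choose a ha using fun i : ι =>
    Ideal.exists_forall_sub_mem_ideal hcop (fun j => if j = i then (1 : P) else 0)
  let f : Fin n → P := fun k => ∑ i, a i * F i k
  have hfI : ∀ k, f k ∈ I := fun k =>
    Ideal.sum_mem _ fun i _ => Ideal.mul_mem_left _ _ (hF i k)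
  have hJI : Ideal.span (Set.range f) ≤ I := by
    rw [Ideal.span_le]
    rintro _ ⟨k, rfl⟩
    exact hfI k
  have h1 : ∀ j k, F j k ∈ Ideal.span (Set.range f) ⊔ Q j • I := by
    intro j k
    have hdecomp : F j k = f k + ((1 - a j) * F j k - ∑ i ∈ Finset.univ.erase j, a i * F i k) := by
      simp only [f]
      rw [← Finset.add_sum_erase _ _ (Finset.mem_univ j)]
      ring
    rw [hdecomp]
    refine Submodule.add_mem_sup (Ideal.subset_span ⟨k, rfl⟩)
      (Submodule.sub_mem _ ?_ (Submodule.sum_mem _ ?_))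
    · have h := ha j j
      rw [if_pos rfl] at h
      have h' : 1 - a j ∈ Q j := by
        rw [← neg_sub]
        exact (Q j).neg_mem h
      exact Submodule.smul_mem_smul h' (hF j k)
    · intro i hi
      have hne : j ≠ i := (Finset.ne_of_mem_erase hi).symm
      have h := ha i j
      rw [if_neg hne, sub_zero] at h
      exact Submodule.smul_mem_smul h (hF i k)
  have h2 : ∀ j, I ≤ Ideal.span (Set.range f) ⊔ Q j • I := fun j =>
    (hgen j).trans (sup_le (Ideal.span_le.mpr (by rintro _ ⟨k, rfl⟩; exact h1 j k)) le_sup_right)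
  have h3 : ∀ j, ∃ r : P, r - 1 ∈ Q j ∧ ∀ x ∈ I, r * x ∈ Ideal.span (Set.range f) := by
    intro j
    obtain ⟨r, hr1, hr2⟩ := Submodule.exists_sub_one_mem_and_smul_le_of_fg_of_le_sup
      (I := Q j) (N := Ideal.span (Set.range f)) (N' := I) (P := I) hI le_rfl (h2 j)
    exact ⟨r, hr1, fun x hx => hr2 (Submodule.smul_mem_pointwise_smul x r I hx)⟩
  have htop : (Ideal.span (Set.range f)).colon (I : Set P) ⊔ I = ⊤ := by
    by_contra hne
    obtain ⟨M, hM, hle⟩ := Ideal.exists_le_maximal _ hne
    obtain ⟨i, rfl⟩ := hcover M hM (le_sup_right.trans hle)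
    obtain ⟨r, hr1, hr2⟩ := h3 i
    have hr : r ∈ Q i := by
      apply hle
      apply Ideal.mem_sup_left
      rw [Submodule.mem_colon]
      intro x hx
      exact hr2 x hx
    apply (hQmax i).ne_top
    rw [Ideal.eq_top_iff_one]
    have : (1 : P) = r - (r - 1) := by ring
    rw [this]
    exact (Q i).sub_mem hr hr1
  have hone : (1 : P) ∈ (Ideal.span (Set.range f)).colon (I : Set P) ⊔ I := by
    rw [htop]
    exact Submodule.mem_top
  obtain ⟨g, hg, b, hb, hgb⟩ := Submodule.mem_sup.mp hone
  refine ⟨f, g, hfI, ?_, ?_⟩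
  · have : g - 1 = -b := by rw [← hgb]; ring
    rw [this]
    exact I.neg_mem hb
  · intro x hx
    exact (Submodule.mem_colon.mp hg) x hx

section LocalData

variable (R S : Type u) [CommRing R] [CommRing S] [Algebra R S]

/-- **Local generators of a presentation ideal.** For a presentation `φ : R[x_1..x_n] ↠ S` of an
`R`-algebra with finitely generated kernel `I`, flat at the prime `q` and with complete intersection
fibre local ring at `q`, the ideal `I` is generated near `φ⁻¹ q` by `c ≤ n` elements. -/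
theorem local_data (n : ℕ) (φ : MvPolynomial (Fin n) R →ₐ[R] S) (hφ : Function.Surjective φ)
    (hfg : (RingHom.ker φ.toRingHom).FG) (q : Ideal S) [q.IsPrime]
    (hflat : Module.Flat R (Localization.AtPrime q))
    (κ T : Type u) [Field κ] [CommRing T] [IsLocalRing T] [Algebra κ T] (hT : Synt.IsCIOver κ T)
    (ε : EGA4.FibLocRing R S q ≃+* T) :
    ∃ (c : ℕ) (F : Fin c → MvPolynomial (Fin n) R) (g : MvPolynomial (Fin n) R), c ≤ n ∧
      (∀ i, F i ∈ RingHom.ker φ.toRingHom) ∧ g ∉ q.comap φ.toRingHom ∧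
      (∀ a ∈ RingHom.ker φ.toRingHom, g * a ∈ Ideal.span (Set.range F)) := by
  classical
  let P := MvPolynomial (Fin n) R
  set I : Ideal P := RingHom.ker φ.toRingHom with hI
  set q' : Ideal P := q.comap φ.toRingHom with hq'def
  haveI hq' : q'.IsPrime := Ideal.comap_isPrime _ _
  have hIq : I ≤ q' := by
    intro x hx
    rw [hq'def, Ideal.mem_comap, (RingHom.mem_ker).mp hx]
    exact q.zero_mem
  let B := Localization.AtPrime q'
  let π₀ : B →+* Localization.AtPrime q := Localization.localRingHom q' q φ.toRingHom rfl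
  have hπ₀ : Function.Surjective π₀ :=
    RingHom.surjective_localRingHom_of_surjective φ.toRingHom hφ q
  have hkerI : RingHom.ker π₀ = I.map (algebraMap P B) := by
    rw [hI]
    exact Groth.Agent.Lib.R2H4.CIField.ker_localRingHom φ.toRingHom hφ q
  have hcomm : ∀ x : R, π₀ (algebraMap R B x) = algebraMap R (Localization.AtPrime q) x := by
    intro x
    rw [IsScalarTower.algebraMap_apply R P B, Localization.localRingHom_to_map,
      IsScalarTower.algebraMap_apply R S (Localization.AtPrime q)]
    congr 1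
    exact φ.commutes x
  let π : B →ₐ[R] Localization.AtPrime q := { π₀ with commutes' := hcomm }
  have hπ : Function.Surjective π := hπ₀
  -- flatness
  have hflat' : Module.Flat R (B ⧸ I.map (algebraMap P B)) := by
    have e1 : (B ⧸ RingHom.ker π.toRingHom) ≃ₐ[R] Localization.AtPrime q :=
      Ideal.quotientKerAlgEquivOfSurjective hπ
    have hk : RingHom.ker π.toRingHom = I.map (algebraMap P B) := hkerI
    have e2 : (B ⧸ RingHom.ker π.toRingHom) ≃ₐ[R] (B ⧸ I.map (algebraMap P B)) :=
      Ideal.quotientEquivAlgOfEq R hk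
    exact Module.Flat.of_linearEquiv (e2.symm.trans e1).toLinearEquiv
  -- the fibre local rings
  let C := EGA4.FibLocRing R P q'
  have hpp : q'.comap (algebraMap R P) = q.comap (algebraMap R S) := by
    rw [hq'def, Ideal.comap_comap]
    congr 1
    ext x
    exact φ.commutes x
  set 𝔭P : Ideal B := (q'.comap (algebraMap R P)).map (algebraMap R B) with h𝔭P
  set 𝔭S : Ideal (Localization.AtPrime q) :=
    (q.comap (algebraMap R S)).map (algebraMap R (Localization.AtPrime q)) with h𝔭S
  have h𝔭 : 𝔭S = 𝔭P.map π₀ := by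
    rw [h𝔭P, h𝔭S, Ideal.map_map, hpp]
    congr 1
    ext x
    exact (hcomm x).symm
  have hle : 𝔭P ≤ 𝔭S.comap π₀ := by
    rw [h𝔭]
    exact Ideal.le_comap_map
  let πb : C →+* T := (ε : _ →+* T).comp (Ideal.quotientMap 𝔭S π₀ hle)
  have hπb : Function.Surjective πb :=
    ε.surjective.comp (Ideal.quotientMap_surjective hπ₀)
  have hkerπb : RingHom.ker πb = I.map (algebraMap P C) := by
    have h1 : RingHom.ker πb = RingHom.ker (Ideal.quotientMap 𝔭S π₀ hle) := by
      ext x
      simp only [πb, RingHom.mem_ker, RingHom.comp_apply]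
      exact map_eq_zero_iff _ ε.injective
    rw [h1, ker_quotientMap π₀ hπ₀ 𝔭P 𝔭S h𝔭 hle, hkerI, Ideal.map_map]
    rfl
  haveI hC : IsRegularLocalRing C := isRegularLocalRing_fibLoc R n q'
  obtain ⟨rs, hreg, hrs⟩ := Groth.Agent.Lib.R2H4.CIField.ker_regular_of_isCIOver κ T hT C πb hπb
  obtain ⟨c, F, g, hFI, hgq, hgI, hregF⟩ := dataB (R := R) I hfg q' hflat' hC rs hreg
    (hrs.symm.trans hkerπb)
  refine ⟨c, F, g, ?_, hFI, hgq, hgI⟩
  -- `c ≤ n` from the dimension count
  have hFle : Ideal.span (Set.range F) ≤ I := by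
    rw [Ideal.span_le]
    rintro _ ⟨i, rfl⟩
    exact hFI i
  have hFq : Ideal.span (Set.range F) ≤ q' := hFle.trans hIq
  have hzprime : (q'.map (Ideal.Quotient.mk (Ideal.span (Set.range F)))).IsPrime :=
    Ideal.isPrime_map_quotientMk_of_isPrime hFq
  let z : PrimeSpectrum (Synt.RelGCIRing R n c F) := ⟨_, hzprime⟩
  have hzq : (PrimeSpectrum.comap (Ideal.Quotient.mk (Ideal.span (Set.range F))) z).asIdeal = q' := by
    change (q'.map (Ideal.Quotient.mk (Ideal.span (Set.range F)))).comap
      (Ideal.Quotient.mk (Ideal.span (Set.range F))) = q'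
    rw [Ideal.comap_map_of_surjective _ Ideal.Quotient.mk_surjective, ← RingHom.ker_eq_comap_bot,
      Ideal.mk_ker]
    exact sup_eq_left.mpr hFq
  obtain ⟨a, ha, hle', hiff⟩ := Groth.Agent.Lib.R2LeadSyntC.key'' R n (List.ofFn F)
    (Ideal.span (Set.range F)) (Groth.Agent.Lib.R2H4.RelGCIFlat.ofList_ofFn F).symm z
  rw [List.length_ofFn] at hle' hiff
  have hac : a + c = n := by
    rw [← hiff]
    exact (Groth.Agent.Lib.R2LeadSyntC.reg_congr _ q' hzq (List.ofFn F)).mpr hregF
  omega

end LocalData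

section LocalGens

variable (R S : Type u) [CommRing R] [CommRing S] [Algebra R S]

/-- generators of the presentation ideal modulo a maximal ideal -/
theorem local_gens (h : Synt.IsSyntomic R S) (n : ℕ) (φ : MvPolynomial (Fin n) R →ₐ[R] S)
    (hφ : Function.Surjective φ) (hfg : (RingHom.ker φ.toRingHom).FG) (q : Ideal S)
    [hq : q.IsMaximal] :
    ∃ F : Fin n → MvPolynomial (Fin n) R, (∀ k, F k ∈ RingHom.ker φ.toRingHom) ∧
      RingHom.ker φ.toRingHom ≤ Ideal.span (Set.range F) ⊔
        (q.comap φ.toRingHom) • RingHom.ker φ.toRingHom := by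
  classical
  haveI : q.IsPrime := hq.isPrime
  haveI : Module.Flat R S := h.1
  have hflat : Module.Flat R (Localization.AtPrime q) := Module.Flat.trans R S _
  obtain ⟨Q, hQ, hQq⟩ := Groth.Agent.Lib.R2H4.SyntStd.exists_fibre_prime' R S q
  have hCI : Synt.IsCIOver (q.comap (algebraMap R S)).ResidueField (Localization.AtPrime Q) :=
    Groth.Agent.Lib.R2H4.CIField.isCIOver_atPrime_of_isLCIOver _ _
      (h.2.2 ⟨q.comap (algebraMap R S), inferInstance⟩) Q
  obtain ⟨ε₁, -⟩ := Groth.Agent.Lib.R2H4.RegSeqOpen.exists_equiv (q.comap (algebraMap R S)) Q q hQq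
  obtain ⟨c, F, g, hcn, hFI, hgq, hgI⟩ := local_data R S n φ hφ hfg q hflat _ _ hCI ε₁.symm
  haveI hq'max : (q.comap φ.toRingHom).IsMaximal := Ideal.comap_isMaximal_of_surjective _ hφ
  refine ⟨fun i => if hi : i.1 < c then F ⟨i.1, hi⟩ else 0, ?_, ?_⟩
  · intro k
    by_cases hk : k.1 < c
    · simp only [hk, dite_true]
      exact hFI _
    · simp only [hk, dite_false]
      exact Ideal.zero_mem _
  · intro a ha
    obtain ⟨y, i, hi, hyi⟩ := hq'max.exists_inv hgq
    have ha' : a = y * (g * a) + i * a := by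
      calc a = (y * g + i) * a := by rw [hyi, one_mul]
        _ = y * (g * a) + i * a := by ring
    rw [ha']
    refine Submodule.add_mem_sup ?_ (Submodule.smul_mem_smul hi ha)
    apply Ideal.mul_mem_left
    have hle : Ideal.span (Set.range F) ≤
        Ideal.span (Set.range fun i : Fin n => if hi : i.1 < c then F ⟨i.1, hi⟩ else 0) := by
      rw [Ideal.span_le]
      rintro _ ⟨j, rfl⟩
      apply Ideal.subset_span
      refine ⟨⟨j.1, lt_of_lt_of_le j.2 hcn⟩, ?_⟩
      simp
    exact hle (hgI a ha)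

end LocalGens

section Semilocal

/-- a finite algebra over a local ring is semilocal -/
theorem finite_maximalSpectrum_of_finite (A B : Type u) [CommRing A] [IsLocalRing A] [CommRing B]
    [Algebra A B] [Module.Finite A B] : Finite (MaximalSpectrum B) := by
  let 𝔪 : PrimeSpectrum A := ⟨IsLocalRing.maximalIdeal A, inferInstance⟩
  haveI : IsArtinianRing (𝔪.asIdeal.Fiber B) :=
    IsArtinianRing.of_finite 𝔪.asIdeal.ResidueField _
  haveI : Finite (PrimeSpectrum (𝔪.asIdeal.Fiber B)) := inferInstance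
  have hover : ∀ m : MaximalSpectrum B,
      m.toPrimeSpectrum ∈ PrimeSpectrum.comap (algebraMap A B) ⁻¹' {𝔪} := by
    intro m
    apply PrimeSpectrum.ext
    haveI := m.isMaximal
    haveI : (m.asIdeal.comap (algebraMap A B)).IsMaximal :=
      Ideal.isMaximal_comap_of_isIntegral_of_isMaximal m.asIdeal
    exact IsLocalRing.eq_maximalIdeal this
  let g : MaximalSpectrum B → PrimeSpectrum (𝔪.asIdeal.Fiber B) := fun m =>
    PrimeSpectrum.preimageHomeomorphFiber A B 𝔪 ⟨m.toPrimeSpectrum, hover m⟩
  refine Finite.of_injective g ?_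
  intro m m' hmm
  have h1 := (PrimeSpectrum.preimageHomeomorphFiber A B 𝔪).injective hmm
  have h2 : m.toPrimeSpectrum = m'.toPrimeSpectrum := congrArg Subtype.val h1
  exact MaximalSpectrum.toPrimeSpectrum_injective h2

end Semilocal

/-- a finite syntomic algebra over a local ring has a square presentation -/
theorem forward (A B : Type u) [CommRing A] [IsLocalRing A] [CommRing B] [Algebra A B]
    [Module.Finite A B] (h : Synt.IsSyntomic A B) :
    ∃ (n : ℕ) (F : Fin n → MvPolynomial (Fin n) A), Nonempty (B ≃ₐ[A] Synt.RelGCIRing A n n F) := by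
  classical
  obtain ⟨n, φ, hφ, hfg⟩ := h.2.1.out
  haveI : Finite (MaximalSpectrum B) := finite_maximalSpectrum_of_finite A B
  have hloc : ∀ m : MaximalSpectrum B, ∃ F : Fin n → MvPolynomial (Fin n) A,
      (∀ k, F k ∈ RingHom.ker φ.toRingHom) ∧
      RingHom.ker φ.toRingHom ≤ Ideal.span (Set.range F) ⊔
        (m.asIdeal.comap φ.toRingHom) • RingHom.ker φ.toRingHom := by
    intro m
    haveI := m.isMaximal
    exact local_gens A B h n φ hφ hfg m.asIdeal
  choose Floc hFloc1 hFloc2 using hloc
  obtain ⟨f, g, hfI, hg1, hgI⟩ := exists_global_gens (RingHom.ker φ.toRingHom) hfg n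
    (fun m : MaximalSpectrum B => m.asIdeal.comap φ.toRingHom)
    (fun m => by
      haveI := m.isMaximal
      exact Ideal.comap_isMaximal_of_surjective _ hφ)
    (fun m m' hmm => MaximalSpectrum.ext (Ideal.comap_injective_of_surjective φ.toRingHom hφ hmm))
    (fun M hM hIM => by
      have hcm : (M.map φ.toRingHom).comap φ.toRingHom = M := by
        rw [Ideal.comap_map_of_surjective φ.toRingHom hφ M, ← RingHom.ker_eq_comap_bot]
        exact sup_eq_left.mpr hIM
      have hmax : (M.map φ.toRingHom).IsMaximal := by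
        rcases Ideal.map_eq_top_or_isMaximal_of_surjective φ.toRingHom hφ hM with h1 | h1
        · exfalso
          apply hM.ne_top
          rw [← hcm, h1, Ideal.comap_top]
        · exact h1
      exact ⟨⟨M.map φ.toRingHom, hmax⟩, hcm.symm⟩)
    Floc hFloc1 hFloc2
  refine ⟨n + 1, F' A n n f g, ⟨?_⟩⟩
  have hfle : Ideal.span (Set.range f) ≤ RingHom.ker φ.toRingHom := by
    rw [Ideal.span_le]
    rintro _ ⟨k, rfl⟩
    exact hfI k
  -- `B ≃ P/I`
  let e₀ : (MvPolynomial (Fin n) A ⧸ RingHom.ker φ.toRingHom) ≃ₐ[A] B :=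
    Ideal.quotientKerAlgEquivOfSurjective hφ
  -- `P/I ≃ (P/I)_g`, as `g = 1` in `P/I`
  have hg1' : Ideal.Quotient.mk (RingHom.ker φ.toRingHom) g = 1 := by
    rw [← sub_eq_zero, ← map_one (Ideal.Quotient.mk _), ← map_sub, Ideal.Quotient.eq_zero_iff_mem]
    exact hg1
  have hunits : Submonoid.powers (Ideal.Quotient.mk (RingHom.ker φ.toRingHom) g) ≤
      IsUnit.submonoid _ := by
    rintro _ ⟨k, rfl⟩
    change IsUnit ((Ideal.Quotient.mk (RingHom.ker φ.toRingHom) g) ^ k)
    rw [hg1', one_pow]
    exact isUnit_one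
  let e₁ : (MvPolynomial (Fin n) A ⧸ RingHom.ker φ.toRingHom) ≃ₐ[A]
      Localization.Away (Ideal.Quotient.mk (RingHom.ker φ.toRingHom) g) :=
    (IsLocalization.atUnits _ (Submonoid.powers (Ideal.Quotient.mk (RingHom.ker φ.toRingHom) g))
      hunits).restrictScalars A
  -- `(P/J)_g ≃ (P/I)_g`
  let e₂ : Localization.Away (Ideal.Quotient.mk (Ideal.span (Set.range f)) g) ≃ₐ[A]
      Localization.Away (Ideal.Quotient.mk (RingHom.ker φ.toRingHom) g) :=
    AlgEquiv.ofBijective (locMap (R := A) _ (RingHom.ker φ.toRingHom) g hfle)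
      (locMap_bijective _ (RingHom.ker φ.toRingHom) hfle g hgI)
  exact ((e₀.symm.trans e₁).trans e₂.symm).trans (equiv A n n f g)

theorem dim_zero_of_finite (K X : Type u) [Field K] [CommRing X] [Algebra K X] [Module.Finite K X]
    [Nontrivial X] : ringKrullDim X = 0 := by
  haveI : IsArtinianRing X := IsArtinianRing.of_finite K X
  exact ringKrullDimZero_iff_ringKrullDim_eq_zero.mp inferInstance

/-- the converse: a finite algebra with a square presentation is syntomic -/
theorem backward (A B : Type u) [CommRing A] [CommRing B] [Algebra A B]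
    [Module.Finite A B] (n : ℕ) (F : Fin n → MvPolynomial (Fin n) A)
    (e : B ≃ₐ[A] Synt.RelGCIRing A n n F) : Synt.IsSyntomic A B := by
  haveI : Module.Finite A (Synt.RelGCIRing A n n F) := Module.Finite.equiv e.toLinearEquiv
  have hrel : Synt.IsRelGCI A n n F := by
    intro p hp
    refine ⟨le_rfl, ?_⟩
    haveI := hp
    rw [Nat.sub_self]
    exact dim_zero_of_finite p.asIdeal.ResidueField (p.asIdeal.Fiber (Synt.RelGCIRing A n n F))
  exact Groth.Agent.Lib.R2LeadSyntE.isSyntomic_of_algEquiv A _ _ e.symm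
    (Groth.Agent.Lib.R2H4.RelGCIFlat.isSyntomic_relGCI A n n F hrel)

/-- **S8954.** -/
theorem main8954 (A B : Type u) [CommRing A] [IsLocalRing A] [CommRing B] [Algebra A B]
    [Module.Finite A B] : Synt.IsSyntomic A B ↔ ∃ (n : ℕ) (F : Fin n → MvPolynomial (Fin n) A),
      Nonempty (B ≃ₐ[A] Synt.RelGCIRing A n n F) :=
  ⟨forward A B, fun ⟨n, F, ⟨e⟩⟩ => backward A B n F e⟩

end Groth.Agent.Lib.R2H4.FinSynt
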