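import Mathlib
import Groth.Prelude
import Groth.Agent.Lib.R2H4AffPts
set_option backward.isDefEq.respectTransparency.types false

/-!
# Finding affine opens I: avoidance lemmas (helper4, round 2)

* `exists_add_notMem` : coset prime avoidance.
* `exists_basicOpen_avoid` : in an affine open `V`, a basic open containing finitely many points and
  missing a closed set.
* `exists_lift_avoid` : lifting a function from a reduced closed subscheme to an affine open, keeping
  it nonvanishing at finitely many points.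
-/

set_option autoImplicit false
set_option linter.style.haveILetI false
set_option linter.unusedSectionVars false
universe u
open CategoryTheory CategoryTheory.Limits AlgebraicGeometry TopologicalSpace

noncomputable section

namespace Groth.Agent.Lib.R2H4FindAffA

open Groth.Agent.Lib.R2H4AffPts

section Alg

variable {R : Type*} [CommRing R]

/-- coset prime avoidance -/
theorem exists_add_notMem (K : Ideal R) (x : R) (n : ℕ) :
    ∀ (Q : Finset (Ideal R)), Q.card = n → (∀ q ∈ Q, q.IsPrime) → (∀ q ∈ Q, ¬ K ≤ q) →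
      ∃ h ∈ K, ∀ q ∈ Q, x + h ∉ q := by
  classical
  induction n with
  | zero =>
    intro Q hn _ _
    rw [Finset.card_eq_zero] at hn
    subst hn
    exact ⟨0, K.zero_mem, by simp⟩
  | succ n ih =>
    intro Q hn hQ hK
    have hne : Q.Nonempty := by
      rw [← Finset.card_pos, hn]
      omega
    obtain ⟨q₀, hq₀Q, hmin⟩ := Q.exists_minimal hne
    have hq₀ : q₀.IsPrime := hQ q₀ hq₀Q
    obtain ⟨h₁, h₁K, hh₁⟩ := ih (Q.erase q₀)
      (by rw [Finset.card_erase_of_mem hq₀Q, hn]; rfl)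
      (fun q hq => hQ q (Finset.mem_of_mem_erase hq))
      (fun q hq => hK q (Finset.mem_of_mem_erase hq))
    by_cases hc : x + h₁ ∈ q₀
    · have hnle : ¬ K * (Q.erase q₀).prod (fun q => q) ≤ q₀ := by
        intro hle
        rcases hq₀.mul_le.mp hle with h | h
        · exact hK q₀ hq₀Q h
        · obtain ⟨q, hq, hle'⟩ := hq₀.prod_le.mp h
          have hqQ := Finset.mem_of_mem_erase hq
          have hne' := Finset.ne_of_mem_erase hq
          exact hne' (le_antisymm hle' (hmin hqQ hle'))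
      obtain ⟨y, hy, hyq₀⟩ := SetLike.not_le_iff_exists.mp hnle
      have hyK : y ∈ K := (Ideal.mul_le_inf hy).1
      have hyq : ∀ q ∈ Q.erase q₀, y ∈ q := by
        intro q hq
        have h1 : y ∈ (Q.erase q₀).prod (fun q => q) := (Ideal.mul_le_inf hy).2
        have h2 := Ideal.prod_le_inf h1
        exact (Finset.inf_le hq : (Q.erase q₀).inf (fun q => q) ≤ q) h2
      refine ⟨h₁ + y, K.add_mem h₁K hyK, fun q hq => ?_⟩
      by_cases hqe : q = q₀
      · subst hqe
        intro hmem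
        apply hyq₀
        have : y = (x + (h₁ + y)) - (x + h₁) := by ring
        rw [this]
        exact q.sub_mem hmem hc
      · have hq' : q ∈ Q.erase q₀ := Finset.mem_erase.mpr ⟨hqe, hq⟩
        intro hmem
        apply hh₁ q hq'
        have : x + h₁ = (x + (h₁ + y)) - y := by ring
        rw [this]
        exact q.sub_mem hmem (hyq q hq')
    · refine ⟨h₁, h₁K, fun q hq => ?_⟩
      by_cases hqe : q = q₀
      · subst hqe
        exact hc
      · exact hh₁ q (Finset.mem_erase.mpr ⟨hqe, hq⟩)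

end Alg

section Geo

variable {Y : Scheme.{u}} {V : Y.Opens} (hV : IsAffineOpen V)
include hV

/-- a basic open of an affine open containing finitely many points and missing a closed set -/
theorem exists_basicOpen_avoid (Z : Set Y) (hZ : IsClosed Z) (P : Finset Y)
    (hPV : ∀ p ∈ P, p ∈ V) (hPZ : ∀ p ∈ P, p ∉ Z) :
    ∃ f : Γ(Y, V), (∀ p ∈ P, p ∈ Y.basicOpen f) ∧ ∀ y ∈ Y.basicOpen f, y ∉ Z := by
  classical
  let I : Ideal Γ(Y, V) := ⨅ z : {z : Y // z ∈ Z ∧ z ∈ V}, pr hV z.1 z.2.2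
  have hI : ∀ f : Γ(Y, V), f ∈ I ↔ ∀ y ∈ Y.basicOpen f, y ∉ Z := by
    intro f
    simp only [I, Ideal.mem_iInf]
    constructor
    · intro h y hy hyZ
      have hyV : y ∈ V := Y.basicOpen_le f hy
      exact (mem_pr_iff hV y hyV f).mp (h ⟨y, hyZ, hyV⟩) hy
    · intro h z
      rw [mem_pr_iff]
      exact fun hz => h z.1 hz z.2.1
  let Q : Finset (Ideal Γ(Y, V)) := P.attach.image (fun p => pr hV p.1 (hPV p.1 p.2))
  have hQprime : ∀ q ∈ Q, q.IsPrime := by
    intro q hq
    obtain ⟨p, -, rfl⟩ := Finset.mem_image.mp hq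
    infer_instance
  have hnot : ¬ ((I : Set Γ(Y, V)) ⊆ ⋃ q ∈ (↑Q : Set (Ideal Γ(Y, V))), (id q : Ideal Γ(Y, V))) := by
    rw [Ideal.subset_union_prime (R := Γ(Y, V)) (s := Q) (f := id) ⊥ ⊥
      (fun q hq _ _ => hQprime q hq)]
    rintro ⟨q, hq, hle⟩
    obtain ⟨p, -, rfl⟩ := Finset.mem_image.mp hq
    let W : Y.Opens := V ⊓ ⟨Zᶜ, hZ.isOpen_compl⟩
    have hpW : p.1 ∈ W := ⟨hPV p.1 p.2, hPZ p.1 p.2⟩
    obtain ⟨a, haW, hpa⟩ := hV.exists_basicOpen_le (V := W) ⟨p.1, hpW⟩ (hPV p.1 p.2)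
    have haI : a ∈ I := (hI a).mpr fun y hy => (haW hy).2
    have := hle haI
    rw [id, mem_pr_iff] at this
    exact this hpa
  obtain ⟨f, hfI, hf⟩ := Set.not_subset.mp hnot
  refine ⟨f, fun p hp => ?_, (hI f).mp hfI⟩
  by_contra hpf
  apply hf
  simp only [Set.mem_iUnion]
  refine ⟨pr hV p (hPV p hp), Finset.mem_coe.mpr (Finset.mem_image.mpr ⟨⟨p, hp⟩,
    Finset.mem_attach _ _, rfl⟩), ?_⟩
  change f ∈ pr hV p (hPV p hp)
  rw [mem_pr_iff]
  exact hpf

/-- lifting a function from a reduced closed subscheme, nonvanishing at finitely many points -/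
theorem exists_lift_avoid {W : Scheme.{u}} (j : W ⟶ Y) [IsClosedImmersion j] [IsReduced W]
    (gbar : Γ(W, j ⁻¹ᵁ V)) (P : Finset Y) (hPV : ∀ p ∈ P, p ∈ V)
    (hP : ∀ p ∈ P, ∀ w : W, j w = p → w ∈ W.basicOpen gbar) :
    ∃ g : Γ(Y, V), j.app V g = gbar ∧ ∀ p ∈ P, p ∈ Y.basicOpen g := by
  classical
  obtain ⟨g₀, hg₀⟩ := j.app_surjective V hV gbar
  let K : Ideal Γ(Y, V) := RingHom.ker (j.app V).hom
  let P' : Finset Y := P.filter (fun p => p ∉ Set.range j)
  have hP'V : ∀ p ∈ P', p ∈ V := fun p hp => hPV p (Finset.mem_filter.mp hp).1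
  let Q : Finset (Ideal Γ(Y, V)) := P'.attach.image (fun p => pr hV p.1 (hP'V p.1 p.2))
  have hQprime : ∀ q ∈ Q, q.IsPrime := by
    intro q hq
    obtain ⟨p, -, rfl⟩ := Finset.mem_image.mp hq
    infer_instance
  have hQK : ∀ q ∈ Q, ¬ K ≤ q := by
    intro q hq hle
    obtain ⟨p, -, rfl⟩ := Finset.mem_image.mp hq
    have hpr : p.1 ∉ Set.range j := (Finset.mem_filter.mp p.2).2
    have hcl : IsClosed (Set.range j) := j.isClosedEmbedding.isClosed_range
    let W' : Y.Opens := V ⊓ ⟨(Set.range j)ᶜ, hcl.isOpen_compl⟩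
    have hpW : p.1 ∈ W' := ⟨hP'V p.1 p.2, hpr⟩
    obtain ⟨a, haW, hpa⟩ := hV.exists_basicOpen_le (V := W') ⟨p.1, hpW⟩ (hP'V p.1 p.2)
    have haK : a ∈ K := by
      change (j.app V).hom a = 0
      rw [← basicOpen_eq_bot_iff, ← Scheme.preimage_basicOpen]
      ext w
      simp only [Opens.coe_bot, Set.mem_empty_iff_false, iff_false]
      intro hw
      exact (haW hw).2 ⟨w, rfl⟩
    have := hle haK
    rw [mem_pr_iff] at this
    exact this hpa
  obtain ⟨h, hhK, hh⟩ := exists_add_notMem K g₀ Q.card Q rfl hQprime hQK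
  refine ⟨g₀ + h, ?_, fun p hp => ?_⟩
  · have : (j.app V).hom h = 0 := hhK
    rw [map_add]
    change (j.app V).hom g₀ + (j.app V).hom h = gbar
    rw [this, add_zero]
    exact hg₀
  · by_cases hpr : p ∈ Set.range j
    · obtain ⟨w, rfl⟩ := hpr
      have hw := hP _ hp w rfl
      have hj : (j.app V).hom (g₀ + h) = gbar := by
        have : (j.app V).hom h = 0 := hhK
        rw [map_add, this, add_zero]
        exact hg₀
      rw [← hj] at hw
      have h2 : w ∈ j ⁻¹ᵁ Y.basicOpen (g₀ + h) := by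
        rw [Scheme.preimage_basicOpen]
        exact hw
      exact h2
    · have hp' : p ∈ P' := Finset.mem_filter.mpr ⟨hp, hpr⟩
      have h1 := hh (pr hV p (hP'V p hp')) (Finset.mem_image.mpr ⟨⟨p, hp'⟩,
        Finset.mem_attach _ _, rfl⟩)
      rw [mem_pr_iff] at h1
      exact not_not.mp h1

end Geo

end Groth.Agent.Lib.R2H4FindAffA
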