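import Mathlib
import Groth.Prelude
import Groth.Agent.Lib.R2H4FindAffA
import Groth.Agent.Lib.Helper11RedCl
import Groth.Agent.Lib.R2H3AffineCover
import Groth.Agent.Lib.R2H3AffineDesc
set_option backward.isDefEq.respectTransparency.types false

/-!
# Finding affine opens II: gluing along closed covers (helper4, round 2)

`Good T A` : some affine open of the reduced induced subscheme on the closed set `A` contains the
points of the finite set `T` lying on `A`.

* `good_sup` : `Good T A → Good T B → Good T (A ⊔ B)`.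
* `main` (S7662) : if `X` has finitely many irreducible components and `Good T Z` for each of them,
  then some affine open of `X` contains `T`.
-/

set_option autoImplicit false
set_option linter.style.haveILetI false
set_option linter.unusedSectionVars false
universe u
open CategoryTheory CategoryTheory.Limits AlgebraicGeometry TopologicalSpace

noncomputable section

namespace Groth.Agent.Lib.R2H4FindAffB

open Groth.Agent.Lib.R2H4FindAffA

variable {X : Scheme.{u}}

/-- the reduced induced closed subscheme -/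
abbrev Rd (A : Closeds X) : Scheme.{u} := (Scheme.IdealSheafData.vanishingIdeal A).subscheme

/-- its inclusion -/
abbrev ri (A : Closeds X) : Rd A ⟶ X := (Scheme.IdealSheafData.vanishingIdeal A).subschemeι

theorem range_ri (A : Closeds X) : Set.range (ri A) = (A : Set X) :=
  Groth.Agent.Lib.Helper11RedCl.range_subschemeι_vanishingIdeal A

theorem ri_mem (A : Closeds X) (a : Rd A) : ri A a ∈ A := by
  have : ri A a ∈ Set.range (ri A) := ⟨a, rfl⟩
  rw [range_ri] at this
  exact this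

theorem ri_injective (A : Closeds X) : Function.Injective (ri A) :=
  (ri A).isClosedEmbedding.injective

theorem exists_ri (A : Closeds X) (x : X) (hx : x ∈ A) : ∃ a : Rd A, ri A a = x := by
  have : x ∈ Set.range (ri A) := by rw [range_ri]; exact hx
  exact this

/-- inclusion of reduced induced subschemes -/
def incl {A C : Closeds X} (h : A ≤ C) : Rd A ⟶ Rd C :=
  Scheme.IdealSheafData.inclusion (Scheme.IdealSheafData.vanishingIdeal_antimono h)

theorem incl_ri {A C : Closeds X} (h : A ≤ C) : incl h ≫ ri C = ri A :=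
  Scheme.IdealSheafData.inclusion_subschemeι _

instance {A C : Closeds X} (h : A ≤ C) : IsClosedImmersion (incl h) := by
  have : IsClosedImmersion (incl h ≫ ri C) := by rw [incl_ri]; infer_instance
  exact IsClosedImmersion.of_comp_isClosedImmersion (incl h) (ri C)

theorem incl_apply {A C : Closeds X} (h : A ≤ C) (a : Rd A) : ri C (incl h a) = ri A a := by
  rw [← Scheme.Hom.comp_apply, incl_ri]

theorem exists_opens (A : Closeds X) (V : (Rd A).Opens) :
    ∃ O : X.Opens, ∀ a : Rd A, a ∈ V ↔ ri A a ∈ O := by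
  obtain ⟨t, ht, hVt⟩ := (ri A).isClosedEmbedding.isInducing.isOpen_iff.mp V.isOpen
  refine ⟨⟨t, ht⟩, fun a => ?_⟩
  have : a ∈ (V : Set (Rd A)) ↔ a ∈ (ri A) ⁻¹' t := by rw [hVt]
  exact this

/-- two closed immersions from affine schemes which are jointly surjective: the target is affine -/
theorem isAffine_of_two_closed_cover {Y Z₁ Z₂ : Scheme.{u}} (f₁ : Z₁ ⟶ Y) (f₂ : Z₂ ⟶ Y)
    [IsClosedImmersion f₁] [IsClosedImmersion f₂] [IsAffine Z₁] [IsAffine Z₂]
    (hcov : ∀ y : Y, y ∈ Set.range f₁ ∨ y ∈ Set.range f₂) : IsAffine Y := by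
  let Z : Bool → Scheme.{u} := fun b => Bool.rec Z₂ Z₁ b
  let ι : ∀ b, Z b ⟶ Y := fun b => Bool.rec (motive := fun b => Z b ⟶ Y) f₂ f₁ b
  have h1 : ∀ b, IsClosedImmersion (ι b) := by
    intro b
    cases b
    · exact inferInstanceAs (IsClosedImmersion f₂)
    · exact inferInstanceAs (IsClosedImmersion f₁)
  have h2 : ∀ b, IsAffine (Z b) := by
    intro b
    cases b
    · exact inferInstanceAs (IsAffine Z₂)
    · exact inferInstanceAs (IsAffine Z₁)
  refine @Groth.Agent.Lib.R2H3.AffineCover.isAffine_of_finite_closed_cover Y Bool _ Z ι h1 h2 ?_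
  intro y
  rcases hcov y with h | h
  · exact ⟨true, h⟩
  · exact ⟨false, h⟩

/-- `T ∩ A` lies in an affine open of the reduced induced structure on `A` -/
def Good (T : Finset X) (A : Closeds X) : Prop :=
  ∃ V : (Rd A).Opens, IsAffineOpen V ∧ ∀ t ∈ T, t ∈ A → ∃ a ∈ V, ri A a = t

theorem good_bot (T : Finset X) : Good T ⊥ :=
  ⟨⊥, isAffineOpen_bot _, fun t _ ht => (ht : t ∈ (∅ : Set X)).elim⟩

theorem good_sup (T : Finset X) (A B : Closeds X) (hA : Good T A) (hB : Good T B) :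
    Good T (A ⊔ B) := by
  classical
  obtain ⟨VA, hVA, hTA⟩ := hA
  obtain ⟨VB, hVB, hTB⟩ := hB
  let PA : Finset (Rd A) := T.preimage (ri A) ((ri_injective A).injOn)
  let PB : Finset (Rd B) := T.preimage (ri B) ((ri_injective B).injOn)
  have hPA : ∀ p, p ∈ PA ↔ ri A p ∈ T := fun p => Finset.mem_preimage
  have hPB : ∀ p, p ∈ PB ↔ ri B p ∈ T := fun p => Finset.mem_preimage
  have hPAV : ∀ p ∈ PA, p ∈ VA := by
    intro p hp
    obtain ⟨v, hv, hvp⟩ := hTA _ ((hPA p).mp hp) (ri_mem A p)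
    rwa [← ri_injective A hvp]
  have hPBV : ∀ p ∈ PB, p ∈ VB := by
    intro p hp
    obtain ⟨v, hv, hvp⟩ := hTB _ ((hPB p).mp hp) (ri_mem B p)
    rwa [← ri_injective B hvp]
  -- Step 1
  obtain ⟨OB, hOB⟩ := exists_opens B VB
  let Z₁ : Set X := (B : Set X) ∩ (OB : Set X)ᶜ
  have hZ₁ : IsClosed Z₁ := B.isClosed.inter OB.isOpen.isClosed_compl
  obtain ⟨fA, hfAP, hfAZ⟩ := exists_basicOpen_avoid hVA ((ri A) ⁻¹' Z₁)
    (hZ₁.preimage (ri A).continuous) PA hPAV (by
      intro p hp hpZ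
      obtain ⟨b, hb, hbp⟩ := hTB _ ((hPA p).mp hp) hpZ.1
      exact hpZ.2 (by
        change ri A p ∈ OB
        rw [← hbp]
        exact (hOB b).mp hb))
  set VA' : (Rd A).Opens := (Rd A).basicOpen fA with hVA'def
  have hVA' : IsAffineOpen VA' := hVA.basicOpen fA
  have h1 : ∀ a ∈ VA', ri A a ∈ B → ri A a ∈ OB := by
    intro a ha haB
    by_contra hn
    exact hfAZ a ha ⟨haB, hn⟩
  -- Step 2
  obtain ⟨OA', hOA'⟩ := exists_opens A VA'
  let Z₂ : Set X := (A : Set X) ∩ (OA' : Set X)ᶜ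
  have hZ₂ : IsClosed Z₂ := A.isClosed.inter OA'.isOpen.isClosed_compl
  obtain ⟨g, hgP, hgZ⟩ := exists_basicOpen_avoid hVB ((ri B) ⁻¹' Z₂)
    (hZ₂.preimage (ri B).continuous) PB hPBV (by
      intro p hp hpZ
      obtain ⟨a, haT⟩ := exists_ri A _ hpZ.1
      have haPA : a ∈ PA := (hPA a).mpr (by rw [haT]; exact (hPB p).mp hp)
      exact hpZ.2 (by
        change ri B p ∈ OA'
        rw [← haT]
        exact (hOA' a).mp (hfAP a haPA)))
  set VB' : (Rd B).Opens := (Rd B).basicOpen g with hVB'def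
  have hVB' : IsAffineOpen VB' := hVB.basicOpen g
  have h2 : ∀ b ∈ VB', ri B b ∈ A → ri B b ∈ OA' := by
    intro b hb hbA
    by_contra hn
    exact hgZ b hb ⟨hbA, hn⟩
  -- Step 3
  let W : Closeds X := A ⊓ B
  let jA : Rd W ⟶ Rd A := incl (inf_le_left : W ≤ A)
  let jB : Rd W ⟶ Rd B := incl (inf_le_right : W ≤ B)
  have hjA : ∀ w, ri A (jA w) = ri W w := fun w => incl_apply _ w
  have hjB : ∀ w, ri B (jB w) = ri W w := fun w => incl_apply _ w
  have hle : jA ⁻¹ᵁ VA' ≤ jB ⁻¹ᵁ VB := by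
    intro w hw
    have hw' : jA w ∈ VA' := hw
    have hwB : ri A (jA w) ∈ B := by rw [hjA]; exact (ri_mem W w).2
    have h3 := h1 (jA w) hw' hwB
    rw [hjA, ← hjB] at h3
    exact (hOB (jB w)).mpr h3
  let gbar : Γ(Rd W, jA ⁻¹ᵁ VA') := (Rd W).presheaf.map (homOfLE hle).op (jB.app VB g)
  have hgbar : ∀ w : Rd W, w ∈ (Rd W).basicOpen gbar ↔ jA w ∈ VA' ∧ jB w ∈ VB' := by
    intro w
    change w ∈ (Rd W).basicOpen ((Rd W).presheaf.map (homOfLE hle).op (jB.app VB g)) ↔ _
    rw [Scheme.basicOpen_res, ← Scheme.preimage_basicOpen]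
    rfl
  obtain ⟨gt, hgt, hgtP⟩ := exists_lift_avoid hVA' jA gbar PA (fun p hp => hfAP p hp) (by
    intro p hp w hw
    rw [hgbar]
    refine ⟨by rw [hw]; exact hfAP p hp, ?_⟩
    apply hgP
    rw [hPB, hjB, ← hjA, hw]
    exact (hPA p).mp hp)
  set VA'' : (Rd A).Opens := (Rd A).basicOpen gt with hVA''def
  have hVA'' : IsAffineOpen VA'' := hVA'.basicOpen gt
  have hVA''le : VA'' ≤ VA' := (Rd A).basicOpen_le gt
  have hgt' : ∀ w : Rd W, jA w ∈ VA'' ↔ w ∈ (Rd W).basicOpen gbar := by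
    intro w
    rw [← hgt, ← Scheme.preimage_basicOpen]
    rfl
  have hmatch1 : ∀ a ∈ VA'', ri A a ∈ B → ∃ b ∈ VB', ri B b = ri A a := by
    intro a ha haB
    obtain ⟨w, hw⟩ := exists_ri W (ri A a) ⟨ri_mem A a, haB⟩
    have hjAw : jA w = a := ri_injective A (by rw [hjA, hw])
    refine ⟨jB w, ?_, by rw [hjB, hw]⟩
    have h3 : w ∈ (Rd W).basicOpen gbar := (hgt' w).mp (by rw [hjAw]; exact ha)
    exact ((hgbar w).mp h3).2
  have hmatch2 : ∀ b ∈ VB', ri B b ∈ A → ∃ a ∈ VA'', ri A a = ri B b := by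
    intro b hb hbA
    obtain ⟨w, hw⟩ := exists_ri W (ri B b) ⟨hbA, ri_mem B b⟩
    have hjBw : jB w = b := ri_injective B (by rw [hjB, hw])
    have hOA := h2 b hb hbA
    refine ⟨jA w, ?_, by rw [hjA, hw]⟩
    have hjAV : jA w ∈ VA' := (hOA' (jA w)).mpr (by rw [hjA, hw]; exact hOA)
    exact (hgt' w).mpr ((hgbar w).mpr ⟨hjAV, by rw [hjBw]; exact hb⟩)
  -- the open
  obtain ⟨OA'', hOA''⟩ := exists_opens A VA''
  obtain ⟨OB', hOB'⟩ := exists_opens B VB'
  let UX : X.Opens := ⟨((A : Set X)ᶜ ∪ OA'') ∩ ((B : Set X)ᶜ ∪ OB'),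
    (A.isClosed.isOpen_compl.union OA''.isOpen).inter (B.isClosed.isOpen_compl.union OB'.isOpen)⟩
  have hUX : ∀ x : X, x ∈ UX ↔ (x ∈ A → x ∈ OA'') ∧ (x ∈ B → x ∈ OB') := by
    intro x
    change (x ∈ (A : Set X)ᶜ ∪ OA'' ∧ x ∈ (B : Set X)ᶜ ∪ OB') ↔ _
    simp only [Set.mem_union, Set.mem_compl_iff, SetLike.mem_coe, imp_iff_not_or]
  let C : Closeds X := A ⊔ B
  let VC : (Rd C).Opens := (ri C) ⁻¹ᵁ UX
  let jAC : Rd A ⟶ Rd C := incl (le_sup_left : A ≤ C)
  let jBC : Rd B ⟶ Rd C := incl (le_sup_right : B ≤ C)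
  have hjAC : ∀ a, ri C (jAC a) = ri A a := fun a => incl_apply _ a
  have hjBC : ∀ b, ri C (jBC b) = ri B b := fun b => incl_apply _ b
  have hA_eq : jAC ⁻¹ᵁ VC = VA'' := by
    ext a
    change ri C (jAC a) ∈ UX ↔ a ∈ VA''
    rw [hjAC, hUX]
    constructor
    · rintro ⟨h3, -⟩
      exact (hOA'' a).mpr (h3 (ri_mem A a))
    · intro ha
      refine ⟨fun _ => (hOA'' a).mp ha, fun haB => ?_⟩
      obtain ⟨b, hb, hba⟩ := hmatch1 a ha haB
      rw [← hba]
      exact (hOB' b).mp hb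
  have hB_eq : jBC ⁻¹ᵁ VC = VB' := by
    ext b
    change ri C (jBC b) ∈ UX ↔ b ∈ VB'
    rw [hjBC, hUX]
    constructor
    · rintro ⟨-, h3⟩
      exact (hOB' b).mpr (h3 (ri_mem B b))
    · intro hb
      refine ⟨fun hbA => ?_, fun _ => (hOB' b).mp hb⟩
      obtain ⟨a, ha, hab⟩ := hmatch2 b hb hbA
      rw [← hab]
      exact (hOA'' a).mp ha
  have hVC : IsAffineOpen VC := by
    haveI h3 : IsAffine ((jAC ⁻¹ᵁ VC : (Rd A).Opens) : Scheme.{u}) := by
      rw [hA_eq]; exact hVA''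
    haveI h4 : IsAffine ((jBC ⁻¹ᵁ VC : (Rd B).Opens) : Scheme.{u}) := by
      rw [hB_eq]; exact hVB'
    haveI : IsClosedImmersion (jAC ∣_ VC) :=
      IsZariskiLocalAtTarget.restrict (P := @IsClosedImmersion) inferInstance VC
    haveI : IsClosedImmersion (jBC ∣_ VC) :=
      IsZariskiLocalAtTarget.restrict (P := @IsClosedImmersion) inferInstance VC
    refine isAffine_of_two_closed_cover (jAC ∣_ VC) (jBC ∣_ VC) ?_
    intro y
    have hyC : ri C y.1 ∈ C := ri_mem C y.1
    rcases hyC with hyA | hyB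
    · left
      obtain ⟨a, ha⟩ := exists_ri A _ hyA
      have hay : jAC a = y.1 := ri_injective C (by rw [hjAC, ha])
      refine ⟨⟨a, by change jAC a ∈ VC; rw [hay]; exact y.2⟩, ?_⟩
      apply Subtype.ext
      rw [morphismRestrict_base_coe]
      exact hay
    · right
      obtain ⟨b, hb⟩ := exists_ri B _ hyB
      have hby : jBC b = y.1 := ri_injective C (by rw [hjBC, hb])
      refine ⟨⟨b, by change jBC b ∈ VC; rw [hby]; exact y.2⟩, ?_⟩
      apply Subtype.ext
      rw [morphismRestrict_base_coe]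
      exact hby
  refine ⟨VC, hVC, fun t ht htC => ?_⟩
  obtain ⟨c, hc⟩ := exists_ri C t htC
  refine ⟨c, ?_, hc⟩
  change ri C c ∈ UX
  rw [hc, hUX]
  constructor
  · intro htA
    obtain ⟨a, haT⟩ := exists_ri A t htA
    have haPA : a ∈ PA := (hPA a).mpr (by rw [haT]; exact ht)
    rw [← haT]
    exact (hOA'' a).mp (hgtP a haPA)
  · intro htB
    obtain ⟨b, hbT⟩ := exists_ri B t htB
    have hbPB : b ∈ PB := (hPB b).mpr (by rw [hbT]; exact ht)
    rw [← hbT]
    exact (hOB' b).mp (hgP b hbPB)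

theorem good_finset_sup (T : Finset X) {ι : Type*} (s : Finset ι) (Z : ι → Closeds X)
    (h : ∀ i ∈ s, Good T (Z i)) : Good T (s.sup Z) := by
  classical
  induction s using Finset.induction_on with
  | empty => simpa using good_bot T
  | insert i s _ ih =>
    rw [Finset.sup_insert]
    exact good_sup T _ _ (h i (Finset.mem_insert_self i s))
      (ih fun j hj => h j (Finset.mem_insert_of_mem hj))

/-- from the whole space to an affine open of `X` -/
theorem exists_affine_of_good_univ (T : Finset X) (C : Closeds X) (hC : (C : Set X) = Set.univ)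
    (h : Good T C) : ∃ U : X.Opens, IsAffineOpen U ∧ ∀ t ∈ T, t ∈ U := by
  obtain ⟨V, hV, hTV⟩ := h
  obtain ⟨U, hU⟩ := exists_opens C V
  have hsurj : Function.Surjective (ri C) := by
    intro x
    exact exists_ri C x (by rw [← SetLike.mem_coe, hC]; trivial)
  have hVU : (ri C) ⁻¹ᵁ U = V := by
    ext c
    exact (hU c).symm
  refine ⟨U, ?_, fun t ht => ?_⟩
  · haveI : IsAffine (((ri C) ⁻¹ᵁ U : (Rd C).Opens) : Scheme.{u}) := by rw [hVU]; exact hV
    haveI : IsClosedImmersion (ri C ∣_ U) :=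
      IsZariskiLocalAtTarget.restrict (P := @IsClosedImmersion) inferInstance U
    haveI : Surjective (ri C ∣_ U) := by
      constructor
      intro y
      obtain ⟨c, hc⟩ := hsurj y.1
      refine ⟨⟨c, by change ri C c ∈ U; rw [hc]; exact y.2⟩, ?_⟩
      apply Subtype.ext
      rw [morphismRestrict_base_coe]
      exact hc
    exact Groth.Agent.Lib.R2H3.AffineDesc.isAffine_of_surjective_universallyClosed _ _ (ri C ∣_ U)
  · obtain ⟨a, ha, hat⟩ := hTV t ht (by rw [← SetLike.mem_coe, hC]; trivial)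
    rw [← hat]
    exact (hU a).mp ha

/-- **S7662** -/
theorem main (X : Scheme.{u}) (hX : (irreducibleComponents (X : Type u)).Finite) (T : Finset X)
    (h : ∀ (Z : Set X) (hZ : Z ∈ irreducibleComponents (X : Type u)),
      ∃ V : (Scheme.IdealSheafData.vanishingIdeal
          (⟨Z, isClosed_of_mem_irreducibleComponents Z hZ⟩ : TopologicalSpace.Closeds X)).subscheme.Opens,
        IsAffineOpen V ∧ ∀ t ∈ T, t ∈ Z → t ∈ (Scheme.IdealSheafData.vanishingIdeal
          (⟨Z, isClosed_of_mem_irreducibleComponents Z hZ⟩ :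
            TopologicalSpace.Closeds X)).subschemeι.base '' (V : Set _)) :
    ∃ U : X.Opens, IsAffineOpen U ∧ ∀ t ∈ T, t ∈ U := by
  classical
  let ι := {Z : Set X // Z ∈ irreducibleComponents (X : Type u)}
  haveI : Fintype ι := hX.fintype
  let Zc : ι → Closeds X := fun Z => ⟨Z.1, isClosed_of_mem_irreducibleComponents Z.1 Z.2⟩
  have hgood : ∀ i ∈ (Finset.univ : Finset ι), Good T (Zc i) := by
    intro i _
    obtain ⟨V, hV, hTV⟩ := h i.1 i.2
    refine ⟨V, hV, fun t ht htZ => ?_⟩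
    obtain ⟨a, ha, hat⟩ := hTV t ht htZ
    exact ⟨a, ha, hat⟩
  have hsup := good_finset_sup T Finset.univ Zc hgood
  refine exists_affine_of_good_univ T _ ?_ hsup
  rw [Set.eq_univ_iff_forall]
  intro x
  obtain ⟨Z, hZ, hxZ⟩ := exists_mem_irreducibleComponents_subset_of_isIrreducible ({x} : Set X)
    isIrreducible_singleton
  have hle : Zc ⟨Z, hZ⟩ ≤ Finset.univ.sup Zc := Finset.le_sup (Finset.mem_univ _)
  exact hle (hxZ rfl)

end Groth.Agent.Lib.R2H4FindAffB
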