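import Mathlib
import Groth.Prelude
import Groth.Agent.S7383
import Groth.Agent.S7658
import Groth.Agent.S7659
import Groth.Agent.Lib.R2H4FindAffA
set_option backward.isDefEq.respectTransparency.types false

/-!
# Finding affine opens III: the integral case of Stacks 09NN (helper4, round 2)

`f : T ⟶ X` with `T` affine integral, `X` integral quasi-separated, and finitely many points of `T`
at which the stalk maps are isomorphisms: their images lie in a common affine open of `X`.
Uses the finite presentation approximation `S7383`, Mathlib's `Scheme.exists_isAffine_of_isLimit`,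
and the two open-immersion criteria `S7658`, `S7659`.
-/

set_option autoImplicit false
set_option linter.style.haveILetI false
set_option linter.unusedSectionVars false
universe u
open CategoryTheory CategoryTheory.Limits AlgebraicGeometry TopologicalSpace

noncomputable section

namespace Groth.Agent.Lib.R2H4FindAffC

/-- a ring hom out of a field (in the `IsField` sense) into a nontrivial ring is injective -/
theorem injective_of_isField {A B : Type*} [CommRing A] [CommRing B] [Nontrivial B]
    (hA : IsField A) (φ : A →+* B) : Function.Injective φ := by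
  rw [injective_iff_map_eq_zero]
  intro a ha
  by_contra hne
  obtain ⟨b, hb⟩ := hA.mul_inv_cancel hne
  have := congrArg φ hb
  rw [map_mul, ha, zero_mul, map_one] at this
  exact zero_ne_one this

theorem coe_comp' {A B C : CommRingCat.{u}} (a : A ⟶ B) (b : B ⟶ C) :
    ⇑(ConcreteCategory.hom (a ≫ b)) = ⇑(ConcreteCategory.hom b) ∘ ⇑(ConcreteCategory.hom a) := by
  funext x
  exact ConcreteCategory.comp_apply a b x

/-- specialization maps out of the generic point of an integral scheme are injective on stalks -/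
theorem stalkSpecializes_injective {Y : Scheme.{u}} [IsIntegral Y] (x y : Y) (h : x ⤳ y)
    (hx : x = genericPoint Y) : Function.Injective (Y.presheaf.stalkSpecializes h) := by
  subst hx
  exact IsFractionRing.injective (Y.presheaf.stalk y) Y.functionField

/-- a dominant morphism of integral schemes maps the generic point to the generic point -/
theorem map_genericPoint {T Y : Scheme.{u}} [IsIntegral T] [IsIntegral Y] (p : T ⟶ Y)
    [IsDominant p] : p (genericPoint T) = genericPoint Y := by
  have h1 : IsGenericPoint (p (genericPoint T)) (closure (p '' Set.univ)) :=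
    (genericPoint_spec T).image p.continuous
  rw [Set.image_univ, p.denseRange.closure_range] at h1
  exact h1.eq (genericPoint_spec Y)

/-- stalk maps of a dominant morphism of integral schemes are injective -/
theorem stalkMap_injective_of_dominant {T Y : Scheme.{u}} [IsIntegral T] [IsIntegral Y]
    (p : T ⟶ Y) [IsDominant p] (t : T) : Function.Injective (p.stalkMap t) := by
  have hgen := map_genericPoint p
  have ht : genericPoint T ⤳ t := (genericPoint_spec T).specializes trivial
  have h := p.stalkSpecializes_stalkMap (genericPoint T) t ht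
  have h1 : Function.Injective (Y.presheaf.stalkSpecializes (p.base.hom.map_specializes ht)) :=
    stalkSpecializes_injective _ _ _ hgen
  have hfield : IsField (Y.presheaf.stalk (p (genericPoint T))) := by
    rw [hgen]
    exact Field.toIsField Y.functionField
  have h2 : Function.Injective (p.stalkMap (genericPoint T)) :=
    injective_of_isField hfield (p.stalkMap (genericPoint T)).hom
  have h3 : Function.Injective
      (Y.presheaf.stalkSpecializes (p.base.hom.map_specializes ht) ≫ p.stalkMap (genericPoint T)) := by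
    rw [coe_comp']
    exact h2.comp h1
  rw [h] at h3
  rw [coe_comp'] at h3
  exact Function.Injective.of_comp h3

/-- if `(π ≫ g).stalkMap t` is an isomorphism and `π.stalkMap t` is injective, then
`g.stalkMap (π t)` is an isomorphism -/
theorem isIso_stalkMap_of_comp {T Y X : Scheme.{u}} (π : T ⟶ Y) (g : Y ⟶ X) (t : T)
    (h : IsIso ((π ≫ g).stalkMap t)) (hinj : Function.Injective (π.stalkMap t)) :
    IsIso (g.stalkMap (π t)) := by
  rw [Scheme.Hom.stalkMap_comp] at h
  have hbij : Function.Bijective (g.stalkMap (π t) ≫ π.stalkMap t) :=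
    (ConcreteCategory.isIso_iff_bijective _).mp h
  rw [coe_comp'] at hbij
  have hsurj : Function.Surjective (π.stalkMap t) := Function.Surjective.of_comp hbij.2
  haveI : IsIso (π.stalkMap t) := (ConcreteCategory.isIso_iff_bijective _).mpr ⟨hinj, hsurj⟩
  exact @IsIso.of_isIso_comp_right _ _ _ _ _ (g.stalkMap (π t)) (π.stalkMap t) this h

/-- the scheme theoretic image of an integral scheme in an affine scheme is integral -/
theorem isIntegral_image {T P : Scheme.{u}} [IsIntegral T] [IsAffine P] (q : T ⟶ P)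
    [QuasiCompact q] : IsIntegral q.image := by
  haveI : IsAffine q.image := isAffine_of_isAffineHom q.imageι
  haveI : Nonempty q.image := ⟨q.toImage (Classical.arbitrary T)⟩
  let Ua : P.affineOpens := ⟨⊤, isAffineOpen_top P⟩
  have hinj := q.toImage_app_injective Ua
  haveI : Nonempty ↥(q.toImage ⁻¹ᵁ q.imageι ⁻¹ᵁ (Ua : P.Opens)).toScheme :=
    ⟨⟨Classical.arbitrary T, by simp [Ua]⟩⟩
  haveI : IsDomain Γ(T, q.toImage ⁻¹ᵁ q.imageι ⁻¹ᵁ (Ua : P.Opens)) :=
    IsIntegral.component_integral (X := T) (q.toImage ⁻¹ᵁ q.imageι ⁻¹ᵁ (Ua : P.Opens))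
  haveI : IsDomain Γ(q.image, q.imageι ⁻¹ᵁ (Ua : P.Opens)) :=
    Function.Injective.isDomain (q.toImage.app (q.imageι ⁻¹ᵁ (Ua : P.Opens))).hom hinj
  haveI : IsDomain Γ(q.image, ⊤) := this
  exact isIntegral_of_isAffine_of_isDomain _

theorem isIso_stalkMap_of_fac {T Y X : Scheme.{u}} (π : T ⟶ Y) (g : Y ⟶ X) (f : T ⟶ X)
    (hfac : π ≫ g = f) (t : T) (h : IsIso (f.stalkMap t))
    (hinj : Function.Injective (π.stalkMap t)) : IsIso (g.stalkMap (π t)) := by
  subst hfac
  exact isIso_stalkMap_of_comp π g t h hinj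

/-- an open subscheme which is a union of opens on which `g` is an open immersion, in an integral
scheme: `g` is an open immersion on the union when separated -/
theorem isOpenImmersion_of_cover {Y X : Scheme.{u}} [IsIntegral Y] (g : Y ⟶ X) [IsSeparated g]
    {ι : Type*} (U : ι → Y.Opens) (V : Y.Opens) (hVne : Nonempty V)
    (hle : ∀ i, U i ≤ V) (hcov : ∀ y ∈ V, ∃ i, y ∈ U i)
    (hU : ∀ i, IsOpenImmersion ((U i).ι ≫ g)) :
    IsOpenImmersion (V.ι ≫ g) := by
  haveI : IsIntegral V.toScheme := isIntegral_of_isOpenImmersion V.ι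
  refine Groth.Agent.S7658.result (V.ι ≫ g) ?_ ?_
  · intro x
    obtain ⟨i, hxi⟩ := hcov x.1 x.2
    let j : (U i).toScheme ⟶ V.toScheme := Y.homOfLE (hle i)
    refine ⟨j.opensRange, ⟨⟨x.1, hxi⟩, Subtype.ext ?_⟩, ?_⟩
    · exact Scheme.homOfLE_apply (hle i) ⟨x.1, hxi⟩
    · have h1 : j.opensRange.ι ≫ V.ι ≫ g = j.isoOpensRange.inv ≫ (U i).ι ≫ g := by
        rw [← cancel_epi j.isoOpensRange.hom, Scheme.Hom.isoOpensRange_hom_ι_assoc,
          Iso.hom_inv_id_assoc, Scheme.homOfLE_ι_assoc]
      rw [h1]
      haveI := hU i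
      infer_instance
  · intro ξ ξ' hξ hξ' _
    rw [irreducibleComponents_eq_singleton, Set.mem_singleton_iff] at hξ hξ'
    have h1 : IsGenericPoint ξ Set.univ := hξ
    have h2 : IsGenericPoint ξ' Set.univ := hξ'
    exact h1.eq h2

/-- **compact integral case**. -/
theorem exists_affine_of_compact {T X : Scheme.{u}} (f : T ⟶ X) [IsAffine T] [IsIntegral T]
    [IsIntegral X] [QuasiSeparatedSpace X] [CompactSpace X] (s : Finset T)
    (hs : ∀ t ∈ s, IsIso (f.stalkMap t)) :
    ∃ U : X.Opens, IsAffineOpen U ∧ ∀ t ∈ s, f t ∈ U := by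
  classical
  rcases s.eq_empty_or_nonempty with hemp | hne
  · exact ⟨⊥, isAffineOpen_bot X, fun t ht => by rw [hemp] at ht; simp at ht⟩
  obtain ⟨I, hI1, hI2, hI3, D, c, hc, hprops, haff, ⟨e⟩⟩ := Groth.Agent.S7383.result f
  haveI : IsCofiltered Iᵒᵖ := inferInstance
  haveI : IsConnected Iᵒᵖ := IsCofiltered.isConnected _
  let D' : Iᵒᵖ ⥤ Scheme.{u} := D ⋙ Over.forget X
  let c' : Cone D' := (Over.forget X).mapCone c
  have hc' : IsLimit c' := isLimitOfPreserves (Over.forget X) hc
  haveI : ∀ {i j : Iᵒᵖ} (a : i ⟶ j), IsAffineHom (D'.map a) := fun {i j} a => haff i j a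
  haveI : ∀ i, CompactSpace (D'.obj i) := fun i => by
    haveI := (hprops i).2.1
    show CompactSpace (D.obj i).left
    exact QuasiCompact.compactSpace_of_compactSpace (D.obj i).hom
  haveI : ∀ i, QuasiSeparatedSpace (D'.obj i) := fun i => by
    haveI := (hprops i).2.2
    show QuasiSeparatedSpace (D.obj i).left
    exact quasiSeparatedSpace_of_quasiSeparated (D.obj i).hom
  let eT : c'.pt ≅ T := (Over.forget X).mapIso e
  haveI : IsAffine c'.pt := IsAffine.of_isIso eT.hom
  obtain ⟨i, hi⟩ := Scheme.exists_isAffine_of_isLimit D' c' hc'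
  let P : Scheme.{u} := D'.obj i
  let p : P ⟶ X := (D.obj i).hom
  haveI : LocallyOfFinitePresentation p := (hprops i).1
  let q : T ⟶ P := eT.inv ≫ c'.π.app i
  have hq : q ≫ p = f := by
    have h1 : c'.π.app i ≫ p = c.pt.hom := Over.w (c.π.app i)
    have h2 : eT.inv ≫ c.pt.hom = f := Over.w e.inv
    change (eT.inv ≫ c'.π.app i) ≫ p = f
    rw [Category.assoc, h1, h2]
  haveI : IsAffine P := hi
  haveI : IsIntegral q.image := isIntegral_image q
  haveI : IsAffine q.image := isAffine_of_isAffineHom q.imageι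
  let g : q.image ⟶ X := q.imageι ≫ p
  have hfac : q.toImage ≫ g = f := by
    change q.toImage ≫ q.imageι ≫ p = f
    rw [q.toImage_imageι_assoc, hq]
  have hstalk : ∀ t ∈ s, IsIso (g.stalkMap (q.toImage t)) := fun t ht =>
    isIso_stalkMap_of_fac q.toImage g f hfac t (hs t ht)
      (stalkMap_injective_of_dominant q.toImage t)
  have hXfin : (irreducibleComponents (X : Type u)).Finite := by
    rw [irreducibleComponents_eq_singleton]
    exact Set.finite_singleton _
  have hU : ∀ t ∈ s, ∃ U : q.image.Opens, q.toImage t ∈ U ∧ IsOpenImmersion (U.ι ≫ g) :=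
    fun t ht => Groth.Agent.S7659.result g hXfin (q.toImage t) (hstalk t ht)
  choose! U hUmem hUopen using hU
  haveI : IsSeparated g := by
    haveI : IsSeparated (g ≫ terminal.from X) := by
      rw [terminalIsTerminal.hom_ext (g ≫ terminal.from X) (terminal.from q.image)]
      infer_instance
    exact IsSeparated.of_comp g (terminal.from X)
  obtain ⟨V, hVdef⟩ : ∃ V : q.image.Opens, V = ⨆ t : s, U t.1 := ⟨_, rfl⟩
  have hleV : ∀ t : s, U t.1 ≤ V := fun t => hVdef ▸ le_iSup (fun t : s => U t.1) t
  have hmemV : ∀ t ∈ s, q.toImage t ∈ V := fun t ht => hleV ⟨t, ht⟩ (hUmem t ht)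
  have hopen : IsOpenImmersion (V.ι ≫ g) := by
    obtain ⟨t₀, ht₀⟩ := hne
    refine isOpenImmersion_of_cover g (fun t : s => U t.1) V ⟨⟨_, hmemV t₀ ht₀⟩⟩ hleV ?_
      (fun t => hUopen t.1 t.2)
    intro y hy
    rw [hVdef] at hy
    exact Opens.mem_iSup.mp hy
  obtain ⟨b, hb1, hb2⟩ := Groth.Agent.Lib.R2H4FindAffA.exists_basicOpen_avoid
    (isAffineOpen_top q.image) ((V : Set q.image)ᶜ) V.isOpen.isClosed_compl
    (s.image q.toImage) (fun _ _ => trivial)
    (fun y hy => by
      obtain ⟨t, ht, rfl⟩ := Finset.mem_image.mp hy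
      exact fun h => h (hmemV t ht))
  let W : q.image.Opens := q.image.basicOpen b
  have hW : IsAffineOpen W := (isAffineOpen_top q.image).basicOpen b
  have hWV : W ≤ V := fun y hy => by
    by_contra h
    exact hb2 y hy h
  haveI : IsAffine W.toScheme := hW
  haveI : IsOpenImmersion (W.ι ≫ g) := by
    rw [← Scheme.homOfLE_ι_assoc q.image hWV]
    haveI := hopen
    infer_instance
  refine ⟨(W.ι ≫ g).opensRange, isAffineOpen_opensRange _, fun t ht => ?_⟩
  have htW : q.toImage t ∈ W := hb1 _ (Finset.mem_image_of_mem _ ht)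
  refine ⟨⟨q.toImage t, htW⟩, ?_⟩
  rw [← hfac]
  rfl

theorem isIso_stalkMap_of_fac_openImm {T U X : Scheme.{u}} (g : T ⟶ U) (j : U ⟶ X)
    [IsOpenImmersion j] (f : T ⟶ X) (hfac : g ≫ j = f) (t : T) (h : IsIso (f.stalkMap t)) :
    IsIso (g.stalkMap t) := by
  subst hfac
  rw [Scheme.Hom.stalkMap_comp] at h
  exact @IsIso.of_isIso_comp_left _ _ _ _ _ (j.stalkMap (g t)) (g.stalkMap t) inferInstance h

/-- **integral case** of Stacks 09NN. -/
theorem exists_affine_of_integral {T X : Scheme.{u}} (f : T ⟶ X) [IsAffine T] [IsIntegral T]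
    [IsIntegral X] [QuasiSeparatedSpace X] (s : Finset T)
    (hs : ∀ t ∈ s, IsIso (f.stalkMap t)) :
    ∃ U : X.Opens, IsAffineOpen U ∧ ∀ t ∈ s, f t ∈ U := by
  obtain ⟨U, hU, hfU⟩ := Groth.Agent.S7383.exists_compact_open_of_range f
  have hrange : Set.range f ⊆ Set.range U.ι := by
    rw [Scheme.Opens.range_ι]; exact hfU
  let g : T ⟶ U.toScheme := IsOpenImmersion.lift U.ι f hrange
  have hg : g ≫ U.ι = f := IsOpenImmersion.lift_fac _ _ _
  haveI : CompactSpace U.toScheme := isCompact_iff_compactSpace.mp hU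
  haveI : QuasiSeparatedSpace U.toScheme :=
    (isQuasiSeparated_iff_quasiSeparatedSpace _ U.2).mp (.of_quasiSeparatedSpace _)
  haveI : Nonempty U := ⟨g (Classical.arbitrary T)⟩
  haveI : IsIntegral U.toScheme := isIntegral_of_isOpenImmersion U.ι
  have hs' : ∀ t ∈ s, IsIso (g.stalkMap t) := fun t ht =>
    isIso_stalkMap_of_fac_openImm g U.ι f hg t (hs t ht)
  obtain ⟨W, hW, hWs⟩ := exists_affine_of_compact g s hs'
  refine ⟨U.ι ''ᵁ W, hW.image_of_isOpenImmersion U.ι, fun t ht => ?_⟩
  rw [← hg]
  exact ⟨g t, hWs t ht, rfl⟩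

end Groth.Agent.Lib.R2H4FindAffC
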