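import Mathlib
import Groth.Prelude
import Groth.Agent.Lib.R2H4FindAffB
import Groth.Agent.Lib.R2H4FindAffC
import Groth.Agent.Lib.Helper14IrrComp
set_option backward.isDefEq.respectTransparency.types false

/-!
# Finding affine opens IV: Stacks 09NN (helper4, round 2)

Reduction of Stacks 09NN to the integral case (`R2H4FindAffC.exists_affine_of_integral`) by means of
`R2H4FindAffB.main` (S7662): it suffices to treat each irreducible component with its reduced
structure.
-/

set_option autoImplicit false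
set_option linter.style.haveILetI false
set_option linter.unusedSectionVars false
universe u
open CategoryTheory CategoryTheory.Limits AlgebraicGeometry TopologicalSpace

noncomputable section

namespace Groth.Agent.Lib.R2H4FindAffD

open Groth.Agent.Lib.R2H4FindAffB Groth.Agent.Lib.R2H4FindAffC

variable {T X : Scheme.{u}} (f : T ⟶ X)

theorem apply_fromSpecStalk (t : T) (q : Spec (T.presheaf.stalk t)) :
    f (T.fromSpecStalk t q) = X.fromSpecStalk (f t) (Spec.map (f.stalkMap t) q) := by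
  rw [← Scheme.Hom.comp_apply, ← Scheme.Hom.comp_apply, Scheme.SpecMap_stalkMap_fromSpecStalk]

/-- generalizations lift along a morphism with bijective stalk map -/
theorem exists_generalization (t : T) (h : IsIso (f.stalkMap t)) (x' : X) (hx' : x' ⤳ f t) :
    ∃ t' : T, t' ⤳ t ∧ f t' = x' := by
  have hx'' : x' ∈ Set.range (X.fromSpecStalk (f t)) := by
    rw [Scheme.range_fromSpecStalk]; exact hx'
  obtain ⟨p, rfl⟩ := hx''
  haveI := h
  obtain ⟨q, rfl⟩ := (Spec.map (f.stalkMap t)).surjective p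
  refine ⟨T.fromSpecStalk t q, ?_, apply_fromSpecStalk f t q⟩
  have : T.fromSpecStalk t q ∈ Set.range (T.fromSpecStalk t) := ⟨q, rfl⟩
  rw [Scheme.range_fromSpecStalk] at this
  exact this

/-- a morphism with bijective stalk map at `t` is injective on generalizations of `t` -/
theorem eq_of_generalizations (t : T) (h : IsIso (f.stalkMap t)) (t₁ t₂ : T) (h₁ : t₁ ⤳ t)
    (h₂ : t₂ ⤳ t) (he : f t₁ = f t₂) : t₁ = t₂ := by
  have hr₁ : t₁ ∈ Set.range (T.fromSpecStalk t) := by
    rw [Scheme.range_fromSpecStalk]; exact h₁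
  have hr₂ : t₂ ∈ Set.range (T.fromSpecStalk t) := by
    rw [Scheme.range_fromSpecStalk]; exact h₂
  obtain ⟨q₁, rfl⟩ := hr₁
  obtain ⟨q₂, rfl⟩ := hr₂
  rw [apply_fromSpecStalk, apply_fromSpecStalk] at he
  haveI := h
  have h3 := (X.fromSpecStalk (f t)).isEmbedding.injective he
  have h4 := (Spec.map (f.stalkMap t)).isOpenEmbedding.injective h3
  rw [h4]

theorem stalkMap_surjective_of_sq {A B C D : Scheme.{u}} (a : A ⟶ B) (b : B ⟶ D) (c : A ⟶ C)
    (d : C ⟶ D) (h : a ≫ b = c ≫ d) (x : A) (h1 : Function.Surjective (b.stalkMap (a x)))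
    (h2 : Function.Surjective (a.stalkMap x)) : Function.Surjective (c.stalkMap x) := by
  have h3' : Function.Surjective (b.stalkMap (a x) ≫ a.stalkMap x) := by
    rw [coe_comp']
    exact h2.comp h1
  have h3 : Function.Surjective ((a ≫ b).stalkMap x) := by
    rw [Scheme.Hom.stalkMap_comp]
    exact h3'
  rw [h] at h3
  have h4 : Function.Surjective (d.stalkMap (c x) ≫ c.stalkMap x) := by
    rw [Scheme.Hom.stalkMap_comp] at h3
    exact h3
  rw [coe_comp'] at h4
  exact Function.Surjective.of_comp h4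

theorem irreducibleSpace_Rd (A : Closeds X) (hA : IsIrreducible (A : Set X)) :
    IrreducibleSpace (Rd A) := by
  have hirr : IsIrreducible (Set.range (ri A)) := by rw [range_ri]; exact hA
  haveI : IrreducibleSpace ↥(Set.range (ri A)) := Subtype.irreducibleSpace hirr
  exact ((ri A).isEmbedding.toHomeomorph).irreducibleSpace_iff.mpr inferInstance

theorem isIntegral_Rd (A : Closeds X) (hA : IsIrreducible (A : Set X)) : IsIntegral (Rd A) := by
  haveI := irreducibleSpace_Rd A hA
  exact isIntegral_of_irreducibleSpace_of_isReduced _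

open Groth.Agent.Lib.Helper14 in
/-- one irreducible component -/
theorem good_component [IsAffine T] [QuasiSeparatedSpace X]
    (hinj : ∀ η η' : T, closure ({η} : Set T) ∈ irreducibleComponents (T : Type u) →
      closure ({η'} : Set T) ∈ irreducibleComponents (T : Type u) → f.base η = f.base η' → η = η')
    (s : Finset T) (hs : ∀ t ∈ s, IsIso (f.stalkMap t))
    (Zc : Closeds X) (hZ : (Zc : Set X) ∈ irreducibleComponents (X : Type u)) :
    ∃ V : (Rd Zc).Opens, IsAffineOpen V ∧ ∀ t ∈ s, f t ∈ Zc → ∃ a ∈ V, ri Zc a = f t := by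
  classical
  by_cases hex : ∃ t ∈ s, f t ∈ Zc
  swap
  · exact ⟨⊥, isAffineOpen_bot _, fun t ht htZ => (hex ⟨t, ht, htZ⟩).elim⟩
  obtain ⟨t₀, ht₀, ht₀Z⟩ := hex
  obtain ⟨ξ, hξ⟩ := QuasiSober.sober hZ.1 Zc.2
  have hξmin : ∀ x' : X, x' ⤳ ξ → x' = ξ :=
    (closure_mem_irreducibleComponents_iff ξ).mp (by rw [hξ.def]; exact hZ)
  have key : ∀ t ∈ s, f t ∈ Zc →
      ∃ η : T, η ⤳ t ∧ f η = ξ ∧ closure ({η} : Set T) ∈ irreducibleComponents (T : Type u) := by
    intro t ht htZ
    have hsp : ξ ⤳ f t := by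
      rw [specializes_iff_mem_closure, hξ.def]; exact htZ
    obtain ⟨η, hη1, hη2⟩ := exists_generalization f t (hs t ht) ξ hsp
    refine ⟨η, hη1, hη2, (closure_mem_irreducibleComponents_iff η).mpr ?_⟩
    intro η' hη'
    have h1 : f η' = ξ := hξmin _ (hη2 ▸ hη'.map f.continuous)
    exact eq_of_generalizations f t (hs t ht) η' η (hη'.trans hη1) hη1 (h1.trans hη2.symm)
  obtain ⟨η, hη0, hηξ, hηcomp⟩ := key t₀ ht₀ ht₀Z
  have hall : ∀ t ∈ s, f t ∈ Zc → η ⤳ t := by
    intro t ht htZ
    obtain ⟨η', h1, h2, h3⟩ := key t ht htZ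
    have : η' = η := hinj η' η h3 hηcomp (h2.trans hηξ.symm)
    exact this ▸ h1
  let Tc : Closeds T := ⟨closure {η}, isClosed_closure⟩
  haveI : IsAffine (Rd Tc) := isAffine_of_isAffineHom (ri Tc)
  haveI : IsIntegral (Rd Tc) := isIntegral_Rd Tc isIrreducible_singleton.closure
  haveI : IsIntegral (Rd Zc) := isIntegral_Rd Zc hZ.1
  haveI : QuasiSeparatedSpace (Rd Zc) := quasiSeparatedSpace_of_quasiSeparated (ri Zc)
  have hrange : Set.range (ri Tc ≫ f) ⊆ (Zc : Set X) := by
    rintro _ ⟨a, rfl⟩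
    have ha : ri Tc a ∈ closure ({η} : Set T) := ri_mem Tc a
    have h1 : η ⤳ ri Tc a := specializes_iff_mem_closure.mpr ha
    have h2 : f η ⤳ f (ri Tc a) := h1.map f.continuous
    rw [hηξ, specializes_iff_mem_closure, hξ.def] at h2
    exact h2
  obtain ⟨fZ, hfZ⟩ := Groth.Agent.Lib.Helper11RedCl.exists_lift_of_range_subset (ri Tc ≫ f) Zc hrange
  -- dominance
  obtain ⟨η', hη'⟩ := exists_ri Tc η (subset_closure rfl)
  have hfZη : ri Zc (fZ η') = ξ := by
    rw [← Scheme.Hom.comp_apply, hfZ, Scheme.Hom.comp_apply, hη', hηξ]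
  haveI : IsDominant fZ := by
    refine ⟨?_⟩
    have h1 : closure ({fZ η'} : Set (Rd Zc)) = Set.univ := by
      rw [(ri Zc).isEmbedding.closure_eq_preimage_closure_image, Set.image_singleton, hfZη,
        hξ.def]
      ext a
      simp only [Set.mem_preimage, Set.mem_univ, iff_true]
      exact ri_mem Zc a
    rw [DenseRange, dense_iff_closure_eq, Set.eq_univ_iff_forall]
    intro a
    have : a ∈ closure ({fZ η'} : Set (Rd Zc)) := by rw [h1]; trivial
    have hsub : ({fZ η'} : Set (Rd Zc)) ⊆ Set.range fZ :=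
      Set.singleton_subset_iff.mpr (Set.mem_range_self η')
    exact closure_mono hsub this
  let s' : Finset (Rd Tc) := s.preimage (ri Tc) (ri_injective Tc).injOn
  have hs' : ∀ a ∈ s', IsIso (fZ.stalkMap a) := by
    intro a ha
    have hat : ri Tc a ∈ s := Finset.mem_preimage.mp ha
    haveI := hs _ hat
    have hsurj : Function.Surjective (fZ.stalkMap a) :=
      stalkMap_surjective_of_sq (ri Tc) f fZ (ri Zc) hfZ.symm a
        (ConcreteCategory.bijective_of_isIso (f.stalkMap (ri Tc a))).2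
        ((ri Tc).stalkMap_surjective a)
    exact (ConcreteCategory.isIso_iff_bijective _).mpr
      ⟨stalkMap_injective_of_dominant fZ a, hsurj⟩
  obtain ⟨V, hV, hVs⟩ := exists_affine_of_integral fZ s' hs'
  refine ⟨V, hV, fun t ht htZ => ?_⟩
  obtain ⟨a, ha⟩ := exists_ri Tc t (specializes_iff_mem_closure.mp (hall t ht htZ))
  have has' : a ∈ s' := by
    rw [Finset.mem_preimage, ha]; exact ht
  refine ⟨fZ a, hVs a has', ?_⟩
  rw [← Scheme.Hom.comp_apply, hfZ, Scheme.Hom.comp_apply, ha]

/-- **S7660** (Stacks 09NN). -/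
theorem main [IsAffine T] [QuasiSeparatedSpace X]
    (hX : (irreducibleComponents (X : Type u)).Finite)
    (hinj : ∀ η η' : T, closure ({η} : Set T) ∈ irreducibleComponents (T : Type u) →
      closure ({η'} : Set T) ∈ irreducibleComponents (T : Type u) → f.base η = f.base η' → η = η')
    (s : Finset T) (hs : ∀ t ∈ s, IsIso (f.stalkMap t)) :
    ∃ U : X.Opens, IsAffineOpen U ∧ ∀ t ∈ s, f.base t ∈ U := by
  classical
  obtain ⟨U, hU, hUs⟩ := Groth.Agent.Lib.R2H4FindAffB.main X hX (s.image f) (fun Z hZ => by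
    obtain ⟨V, hV, hVs⟩ := good_component f hinj s hs
      ⟨Z, isClosed_of_mem_irreducibleComponents Z hZ⟩ hZ
    refine ⟨V, hV, fun x hx hxZ => ?_⟩
    obtain ⟨t, ht, rfl⟩ := Finset.mem_image.mp hx
    obtain ⟨a, haV, ha⟩ := hVs t ht hxZ
    exact ⟨a, haV, ha⟩)
  exact ⟨U, hU, fun t ht => hUs _ (Finset.mem_image_of_mem _ ht)⟩

end Groth.Agent.Lib.R2H4FindAffD
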