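import Mathlib
import Groth.Prelude
import Groth.Agent.S7663
import Groth.Agent.S7665
import Groth.Agent.Lib.Helper6StalkIso
import Groth.Agent.Lib.R2H4FindAffB
import Groth.Agent.Lib.R2H4FindAffC
import Groth.Agent.Lib.R2H4FindAffD
set_option backward.isDefEq.respectTransparency.types false

/-!
# Finding affine opens V: points of codimension at most one on a separated scheme (helper4, round 2)

Stacks 09NZ-type statement (S0217): on a separated scheme with locally finitely many irreducible
components, finitely many points whose local rings are Noetherian of dimension `≤ 1` lie in a common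
affine open.
-/

set_option autoImplicit false
set_option linter.style.haveILetI false
set_option linter.unusedSectionVars false
universe u
open CategoryTheory CategoryTheory.Limits AlgebraicGeometry TopologicalSpace

noncomputable section

namespace Groth.Agent.Lib.R2H4FindAffE

open Groth.Agent.Lib.R2H4FindAffC

/-- `Spec` of an injective ring map is dominant -/
theorem isDominant_SpecMap {A B : CommRingCat.{u}} (φ : A ⟶ B) (h : Function.Injective φ.hom) :
    IsDominant (Spec.map φ) := by
  refine ⟨?_⟩
  change DenseRange (PrimeSpectrum.comap φ.hom)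
  rw [PrimeSpectrum.denseRange_comap_iff_ker_le_nilRadical,
    (RingHom.injective_iff_ker_eq_bot _).mp h]
  exact bot_le

/-- gluing morphisms from an open cover of an integral scheme into a separated scheme: agreement
at the generic point suffices -/
theorem exists_glue {T X W : Scheme.{u}} [IsIntegral T] [X.IsSeparated] (𝒰 : T.OpenCover)
    (g : ∀ i, 𝒰.X i ⟶ X) (a : W ⟶ T) [IsDominant a] (ai : ∀ i, W ⟶ 𝒰.X i)
    (hai : ∀ i, ai i ≫ 𝒰.f i = a) (b : W ⟶ X) (hb : ∀ i, ai i ≫ g i = b) :
    ∃ f : T ⟶ X, ∀ i, 𝒰.f i ≫ f = g i := by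
  have hcompat : ∀ i j, pullback.fst (𝒰.f i) (𝒰.f j) ≫ g i = pullback.snd _ _ ≫ g j := by
    intro i j
    let l : W ⟶ pullback (𝒰.f i) (𝒰.f j) := pullback.lift (ai i) (ai j) (by rw [hai, hai])
    haveI : IsOpenImmersion (pullback.fst (𝒰.f i) (𝒰.f j) ≫ 𝒰.f i) := inferInstance
    haveI : IsReduced (pullback (𝒰.f i) (𝒰.f j)) :=
      isReduced_of_isOpenImmersion (pullback.fst _ _ ≫ 𝒰.f i)
    haveI : IsDominant (l ≫ pullback.fst (𝒰.f i) (𝒰.f j) ≫ 𝒰.f i) := by
      rw [pullback.lift_fst_assoc, hai]; infer_instance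
    haveI : IsDominant l :=
      IsDominant.of_comp_of_isOpenImmersion l (pullback.fst (𝒰.f i) (𝒰.f j) ≫ 𝒰.f i)
    apply ext_of_isDominant l
    rw [pullback.lift_fst_assoc, pullback.lift_snd_assoc, hb, hb]
  exact ⟨𝒰.glueMorphisms g hcompat, fun i => 𝒰.ι_glueMorphisms g hcompat i⟩

section Integral

variable {X : Scheme.{u}} [IsIntegral X]

/-- the local ring at `x` as a subring of the function field -/
def Ax (x : X) : Subring X.functionField :=
  (algebraMap (X.presheaf.stalk x) X.functionField).range

/-- the local ring at `x` is isomorphic to `Ax x` -/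
def ex (x : X) : X.presheaf.stalk x ≃+* Ax x :=
  RingEquiv.ofBijective (algebraMap (X.presheaf.stalk x) X.functionField).rangeRestrict
    ⟨fun a b h => IsFractionRing.injective (X.presheaf.stalk x) X.functionField
        (congrArg Subtype.val h),
      (algebraMap (X.presheaf.stalk x) X.functionField).rangeRestrict_surjective⟩

theorem ex_coe (x : X) (a : X.presheaf.stalk x) :
    ((ex x a : Ax x) : X.functionField) = algebraMap (X.presheaf.stalk x) X.functionField a := rfl

instance (x : X) : IsLocalRing (Ax x) := (ex x).isLocalRing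

instance (x : X) : IsFractionRing (Ax x) X.functionField := by
  haveI : FaithfulSMul (Ax x) X.functionField :=
    (faithfulSMul_iff_algebraMap_injective _ _).mpr Subtype.val_injective
  refine IsFractionRing.of_field (Ax x) X.functionField (fun z => ?_)
  obtain ⟨a, b, -, hab⟩ := IsFractionRing.div_surjective (A := X.presheaf.stalk x) z
  exact ⟨ex x a, ex x b, hab.symm⟩

theorem finite_maximalSpectrum (R : Type*) [CommRing R] [IsLocalRing R] :
    Finite (MaximalSpectrum R) := by
  haveI : Subsingleton (MaximalSpectrum R) := by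
    constructor
    intro a b
    ext1
    rw [IsLocalRing.eq_maximalIdeal a.isMaximal, IsLocalRing.eq_maximalIdeal b.isMaximal]
  infer_instance

/-- a one-dimensional local ring of `X` dominated by a discrete valuation ring `O` of the function
field: the morphism `Spec O ⟶ X` -/
theorem exists_hom_of_le (z : X) (hdz : ringKrullDim (X.presheaf.stalk z) = 1)
    (O : ValuationSubring X.functionField) (hO : IsDiscreteValuationRing O)
    (hz : Ax z ≤ O.toSubring) :
    ∃ l : Spec (CommRingCat.of O) ⟶ X,
      Spec.map (CommRingCat.ofHom O.subtype) ≫ l = X.fromSpecStalk (genericPoint X) ∧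
        l (IsLocalRing.closedPoint O) = z := by
  let φ : X.presheaf.stalk z →+* O :=
    (algebraMap (X.presheaf.stalk z) X.functionField).codRestrict O
      (fun a => hz (Set.mem_range_self a))
  have hφ : ∀ a, ((φ a : O) : X.functionField) = algebraMap _ _ a := fun a => rfl
  have hφinj : Function.Injective φ := fun a b h =>
    IsFractionRing.injective (X.presheaf.stalk z) X.functionField (congrArg Subtype.val h)
  -- `φ` is local
  have hP : Ideal.comap φ (IsLocalRing.maximalIdeal O) = IsLocalRing.maximalIdeal _ := by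
    have hprime : (Ideal.comap φ (IsLocalRing.maximalIdeal O)).IsPrime := inferInstance
    have hne : Ideal.comap φ (IsLocalRing.maximalIdeal O) ≠ ⊥ := by
      intro hbot
      have hnf : IsLocalRing.maximalIdeal O ≠ ⊥ := IsDiscreteValuationRing.not_a_field O
      obtain ⟨ϖ, hϖm, hϖ0⟩ := Submodule.exists_mem_ne_zero_of_ne_bot hnf
      obtain ⟨a, b, hb, hab⟩ :=
        IsFractionRing.div_surjective (A := X.presheaf.stalk z) (ϖ : X.functionField)
      have hb0 : b ≠ 0 := nonZeroDivisors.ne_zero hb
      have hb0' : algebraMap (X.presheaf.stalk z) X.functionField b ≠ 0 := fun h =>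
        hb0 (IsFractionRing.injective (X.presheaf.stalk z) X.functionField (by rw [h, map_zero]))
      have ha0 : a ≠ 0 := by
        rintro rfl
        rw [map_zero, zero_div] at hab
        exact hϖ0 (Subtype.ext hab.symm)
      have hunit : ∀ c : X.presheaf.stalk z, c ≠ 0 → IsUnit (φ c) := by
        intro c hc
        rw [← IsLocalRing.notMem_maximalIdeal]
        intro hcm
        have : c ∈ Ideal.comap φ (IsLocalRing.maximalIdeal O) := hcm
        rw [hbot] at this
        exact hc this
      have hmul : ϖ * φ b = φ a := by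
        apply Subtype.ext
        change (ϖ : X.functionField) * (φ b : O) = (φ a : O)
        rw [hφ, hφ, ← hab, div_mul_cancel₀ _ hb0']
      have h1 : IsUnit (ϖ * φ b) := hmul ▸ hunit a ha0
      have h2 : IsUnit ϖ := isUnit_of_mul_isUnit_left h1
      exact (IsLocalRing.mem_maximalIdeal ϖ).mp hϖm h2
    have hle1 : Ring.KrullDimLE 1 (X.presheaf.stalk z) := Ring.krullDimLE_iff.mpr (by rw [hdz]; rfl)
    have hmax := Ring.krullDimLE_one_iff_of_noZeroDivisors.mp hle1 _ hne hprime
    exact IsLocalRing.eq_maximalIdeal hmax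
  haveI : IsLocalHom φ := by
    constructor
    intro a ha
    by_contra hna
    have ham : a ∈ IsLocalRing.maximalIdeal (X.presheaf.stalk z) :=
      (IsLocalRing.mem_maximalIdeal a).mpr hna
    rw [← hP] at ham
    exact (IsLocalRing.mem_maximalIdeal (φ a)).mp ham ha
  refine ⟨Spec.map (CommRingCat.ofHom φ) ≫ X.fromSpecStalk z, ?_, ?_⟩
  · rw [← Spec.map_comp_assoc]
    have : CommRingCat.ofHom φ ≫ CommRingCat.ofHom O.subtype =
        X.presheaf.stalkSpecializes ((genericPoint_spec X).specializes trivial) := rfl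
    rw [this, Scheme.SpecMap_stalkSpecializes_fromSpecStalk]
  · change X.fromSpecStalk z (PrimeSpectrum.comap φ (IsLocalRing.closedPoint O)) = z
    rw [IsLocalRing.comap_closedPoint, Scheme.fromSpecStalk_closedPoint]

/-- distinct points with one-dimensional Noetherian local rings on a separated integral scheme:
their local rings generate the function field -/
theorem sup_eq_top [X.IsSeparated] (x y : X) (hxy : x ≠ y)
    (hx : IsNoetherianRing (X.presheaf.stalk x))
    (hdx : ringKrullDim (X.presheaf.stalk x) = 1)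
    (hdy : ringKrullDim (X.presheaf.stalk y) = 1) : Ax x ⊔ Ax y = ⊤ := by
  by_contra hne
  haveI : IsNoetherianRing (Ax x) := isNoetherianRing_of_ringEquiv _ (ex x)
  have hdimA : ringKrullDim (Ax x) = 1 := by
    rw [← ringKrullDim_eq_of_ringEquiv (ex x)]; exact hdx
  obtain ⟨O, hO, hxO, hyO⟩ := (Groth.Agent.S7663.result _ (Ax x) (Ax y) hdimA).mp hne
  obtain ⟨lx, hlx1, hlx2⟩ := exists_hom_of_le x hdx O hO hxO
  obtain ⟨ly, hly1, hly2⟩ := exists_hom_of_le y hdy O hO hyO
  haveI : IsDominant (Spec.map (CommRingCat.ofHom O.subtype)) :=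
    isDominant_SpecMap _ Subtype.val_injective
  have : lx = ly :=
    ext_of_isDominant (Spec.map (CommRingCat.ofHom O.subtype)) (hlx1.trans hly1.symm)
  exact hxy (hlx2.symm.trans (this ▸ hly2))

/-- a non-generic point of an integral scheme has local ring of dimension `≥ 1` -/
theorem one_le_dim_of_ne_generic (x : X) (hx : x ≠ genericPoint X) :
    1 ≤ ringKrullDim (X.presheaf.stalk x) := by
  have hsp : genericPoint X ⤳ x := (genericPoint_spec X).specializes trivial
  have hmem : genericPoint X ∈ Set.range (X.fromSpecStalk x) := by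
    rw [Scheme.range_fromSpecStalk]; exact hsp
  obtain ⟨q, hq⟩ := hmem
  have hqne : q ≠ IsLocalRing.closedPoint _ := by
    rintro rfl
    rw [Scheme.fromSpecStalk_closedPoint] at hq
    exact hx hq
  rw [ringKrullDim, Order.one_le_krullDim_iff]
  refine ⟨q, IsLocalRing.closedPoint _, lt_of_le_of_ne ?_ hqne⟩
  rw [← PrimeSpectrum.asIdeal_le_asIdeal]
  exact IsLocalRing.le_maximalIdeal q.isPrime.ne_top

theorem isIso_stalkMap_of_openImm_comp {A T Y : Scheme.{u}} (j : A ⟶ T) [IsOpenImmersion j]
    (f : T ⟶ Y) (g : A ⟶ Y) (h : j ≫ f = g) (c : A) (hg : IsIso (g.stalkMap c)) :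
    IsIso (f.stalkMap (j c)) := by
  subst h
  rw [Scheme.Hom.stalkMap_comp] at hg
  exact @IsIso.of_isIso_comp_right _ _ _ _ _ (f.stalkMap (j c)) (j.stalkMap c) inferInstance hg

/-- **integral separated case** of S0217. -/
theorem exists_affine_of_integral_separated [X.IsSeparated] (s : Finset X)
    (hs : ∀ x ∈ s, IsNoetherianRing (X.presheaf.stalk x) ∧
      ringKrullDim (X.presheaf.stalk x) ≤ 1) :
    ∃ U : X.Opens, IsAffineOpen U ∧ ∀ x ∈ s, x ∈ U := by
  classical
  let s₁ := s.filter (fun x => x ≠ genericPoint X)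
  rcases s₁.eq_empty_or_nonempty with hemp | hne
  · obtain ⟨_, ⟨W, hW, rfl⟩, hξW, -⟩ := X.isBasis_affineOpens.exists_subset_of_mem_open
      (Set.mem_univ (genericPoint X)) isOpen_univ
    refine ⟨W, hW, fun x hx => ?_⟩
    by_cases hxg : x = genericPoint X
    · rw [hxg]; exact hξW
    · have : x ∈ s₁ := Finset.mem_filter.mpr ⟨hx, hxg⟩
      rw [hemp] at this
      simp at this
  let r := s₁.card
  have hr : 1 ≤ r := Finset.card_pos.mpr hne
  let p : Fin r ≃ s₁ := s₁.equivFin.symm
  let x : Fin r → X := fun i => (p i).1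
  have hxinj : Function.Injective x := fun i j h => p.injective (Subtype.ext h)
  have hxs : ∀ i, x i ∈ s ∧ x i ≠ genericPoint X := fun i => Finset.mem_filter.mp (p i).2
  have hxN : ∀ i, IsNoetherianRing (X.presheaf.stalk (x i)) := fun i => (hs _ (hxs i).1).1
  have hxd : ∀ i, ringKrullDim (X.presheaf.stalk (x i)) = 1 := fun i =>
    le_antisymm (hs _ (hxs i).1).2 (one_le_dim_of_ne_generic _ (hxs i).2)
  let A : Fin r → Subring X.functionField := fun i => Ax (x i)
  haveI : ∀ i, IsNoetherianRing (A i) := fun i => by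
    haveI := hxN i
    exact isNoetherianRing_of_ringEquiv _ (ex (x i))
  haveI : ∀ i, IsFractionRing (A i) X.functionField := fun i => inferInstance
  have hdim : ∀ i, ringKrullDim (A i) = 1 := fun i => by
    rw [← ringKrullDim_eq_of_ringEquiv (ex (x i))]; exact hxd i
  have hsl : ∀ i, Finite (MaximalSpectrum (A i)) := fun i => finite_maximalSpectrum _
  have hgenr : ∀ i j, i ≠ j → A i ⊔ A j = ⊤ := fun i j hij =>
    sup_eq_top (x i) (x j) (fun h => hij (hxinj h)) (hxN i) (hxd i) (hxd j)
  obtain ⟨-, -, -, -, hopen, hcov, -⟩ :=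
    Groth.Agent.S7665.result X.functionField r hr A hdim hsl hgenr
  let B : Subring X.functionField := ⨅ i, A i
  let T : Scheme.{u} := Spec (CommRingCat.of B)
  let j : ∀ i, Spec (CommRingCat.of (A i)) ⟶ T := fun i =>
    Spec.map (CommRingCat.ofHom (Subring.inclusion (iInf_le A i)))
  haveI : ∀ i, IsOpenImmersion (j i) := hopen
  let 𝒰 : T.OpenCover := Scheme.Cover.mkOfCovers (Fin r) (fun i => Spec (CommRingCat.of (A i))) j
    (fun t => by
      have : t ∈ ⋃ i, Set.range (j i).base := by rw [hcov]; trivial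
      obtain ⟨i, y, hy⟩ := Set.mem_iUnion.mp this
      exact ⟨i, y, hy⟩)
  let g : ∀ i, Spec (CommRingCat.of (A i)) ⟶ X := fun i =>
    Spec.map (CommRingCat.ofHom (ex (x i)).toRingHom) ≫ X.fromSpecStalk (x i)
  haveI : IsDominant (Spec.map (CommRingCat.ofHom B.subtype)) :=
    isDominant_SpecMap _ Subtype.val_injective
  obtain ⟨f, hf⟩ := exists_glue 𝒰 g (Spec.map (CommRingCat.ofHom B.subtype))
    (fun i => Spec.map (CommRingCat.ofHom (A i).subtype))
    (fun i => by
      change Spec.map (CommRingCat.ofHom (A i).subtype) ≫ j i = _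
      rw [← Spec.map_comp]
      rfl)
    (X.fromSpecStalk (genericPoint X))
    (fun i => by
      change Spec.map (CommRingCat.ofHom (A i).subtype) ≫
        Spec.map (CommRingCat.ofHom (ex (x i)).toRingHom) ≫ X.fromSpecStalk (x i) = _
      rw [← Spec.map_comp_assoc]
      have : CommRingCat.ofHom (ex (x i)).toRingHom ≫ CommRingCat.ofHom (A i).subtype =
          X.presheaf.stalkSpecializes ((genericPoint_spec X).specializes trivial) := rfl
      rw [this, Scheme.SpecMap_stalkSpecializes_fromSpecStalk])
  have hf' : ∀ i, j i ≫ f = g i := hf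
  let t : Fin r → T := fun i => j i (IsLocalRing.closedPoint (A i))
  have hft : ∀ i, f (t i) = x i := by
    intro i
    change (j i ≫ f) (IsLocalRing.closedPoint (A i)) = x i
    rw [hf' i]
    change X.fromSpecStalk (x i)
      (PrimeSpectrum.comap (ex (x i)).toRingHom (IsLocalRing.closedPoint (A i))) = x i
    haveI : IsLocalHom (ex (x i)).toRingHom := by
      constructor
      intro a ha
      have h2 := ha.map (ex (x i)).symm
      have h3 : (ex (x i)).symm ((ex (x i)).toRingHom a) = a := (ex (x i)).symm_apply_apply a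
      rwa [h3] at h2
    rw [IsLocalRing.comap_closedPoint, Scheme.fromSpecStalk_closedPoint]
  have hiso : ∀ i, IsIso (f.stalkMap (t i)) := by
    intro i
    refine isIso_stalkMap_of_openImm_comp (j i) f (g i) (hf' i) _ ?_
    change IsIso ((Spec.map (CommRingCat.ofHom (ex (x i)).toRingHom) ≫
      X.fromSpecStalk (x i)).stalkMap _)
    rw [Scheme.Hom.stalkMap_comp]
    have h1 := Groth.Agent.Lib.Helper6.isIso_stalkMap_of_flat_of_isPreimmersion
      (X.fromSpecStalk (x i))
      (Spec.map (CommRingCat.ofHom (ex (x i)).toRingHom) (IsLocalRing.closedPoint (A i)))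
    haveI : IsIso (Spec.map (CommRingCat.ofHom (ex (x i)).toRingHom)) := by
      haveI : IsIso (CommRingCat.ofHom (ex (x i)).toRingHom) :=
        (ex (x i)).toCommRingCatIso.isIso_hom
      infer_instance
    have h2 : IsIso ((Spec.map (CommRingCat.ofHom (ex (x i)).toRingHom)).stalkMap
      (IsLocalRing.closedPoint (A i))) := inferInstance
    exact @IsIso.comp_isIso _ _ _ _ _ _ _ h1 h2
  haveI : QuasiSeparatedSpace X := (quasiSeparatedSpace_iff_quasiSeparated X).mpr inferInstance
  obtain ⟨U, hU, hUt⟩ := exists_affine_of_integral f (Finset.univ.image t) (fun t' ht' => by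
    obtain ⟨i, -, rfl⟩ := Finset.mem_image.mp ht'
    exact hiso i)
  have hxU : ∀ i, x i ∈ U := fun i => by
    rw [← hft i]
    exact hUt _ (Finset.mem_image_of_mem _ (Finset.mem_univ i))
  refine ⟨U, hU, fun y hy => ?_⟩
  by_cases hyg : y = genericPoint X
  · rw [hyg]
    exact ((genericPoint_spec X).specializes trivial).mem_open U.isOpen (hxU ⟨0, hr⟩)
  · have hy1 : y ∈ s₁ := Finset.mem_filter.mpr ⟨hy, hyg⟩
    have : x (p.symm ⟨y, hy1⟩) = y := by
      change (p (p.symm ⟨y, hy1⟩)).1 = y
      rw [Equiv.apply_symm_apply]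
    rw [← this]
    exact hxU _

end Integral

open Groth.Agent.Lib.R2H4FindAffB Groth.Agent.Lib.R2H4FindAffD in
/-- **finitely many irreducible components** -/
theorem exists_affine_of_finite_components (X : Scheme.{u}) [X.IsSeparated]
    (hX : (irreducibleComponents (X : Type u)).Finite) (s : Finset X)
    (hs : ∀ x ∈ s, IsNoetherianRing (X.presheaf.stalk x) ∧
      ringKrullDim (X.presheaf.stalk x) ≤ 1) :
    ∃ U : X.Opens, IsAffineOpen U ∧ ∀ x ∈ s, x ∈ U := by
  classical
  refine Groth.Agent.Lib.R2H4FindAffB.main X hX s (fun Z hZ => ?_)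
  let Zc : Closeds X := ⟨Z, isClosed_of_mem_irreducibleComponents Z hZ⟩
  haveI : IsIntegral (Rd Zc) := isIntegral_Rd Zc hZ.1
  haveI : IsSeparated (ri Zc ≫ terminal.from X) := inferInstance
  haveI : (Rd Zc).IsSeparated := ⟨by
    have : terminal.from (Rd Zc) = ri Zc ≫ terminal.from X := terminal.hom_ext _ _
    rw [this]; infer_instance⟩
  obtain ⟨V, hV, hVs⟩ := exists_affine_of_integral_separated (X := Rd Zc)
    (s.preimage (ri Zc) (ri_injective Zc).injOn) (fun a ha => by
      have hax : ri Zc a ∈ s := Finset.mem_preimage.mp ha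
      obtain ⟨hN, hd⟩ := hs _ hax
      have hsurj : Function.Surjective ((ri Zc).stalkMap a).hom :=
        (ri Zc).stalkMap_surjective a
      exact ⟨isNoetherianRing_of_surjective _ _ ((ri Zc).stalkMap a).hom hsurj,
        (ringKrullDim_le_of_surjective _ hsurj).trans hd⟩)
  refine ⟨V, hV, fun t ht htZ => ?_⟩
  obtain ⟨a, ha⟩ := exists_ri Zc t htZ
  refine ⟨a, hVs a (Finset.mem_preimage.mpr (by rw [ha]; exact ht)), ha⟩

/-- **S0217** -/
theorem main (X : Scheme.{u}) [X.IsSeparated]
    (hirr : ∀ U : X.Opens, IsCompact (U : Set X) → (irreducibleComponents (U : Set X)).Finite)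
    (s : Finset X) (hs : ∀ x ∈ s, IsNoetherianRing (X.presheaf.stalk x) ∧
      ringKrullDim (X.presheaf.stalk x) ≤ 1) :
    ∃ U : X.Opens, IsAffineOpen U ∧ ∀ x ∈ s, x ∈ U := by
  classical
  have hW : ∀ x : X, ∃ W : X.Opens, IsAffineOpen W ∧ x ∈ W := fun x => by
    obtain ⟨_, ⟨W, hW, rfl⟩, hxW, -⟩ := X.isBasis_affineOpens.exists_subset_of_mem_open
      (Set.mem_univ x) isOpen_univ
    exact ⟨W, hW, hxW⟩
  choose W hWa hWx using hW
  let X₀ : X.Opens := s.sup W
  have hc : IsCompact (X₀ : Set X) := by
    have : (X₀ : Set X) = ⋃ x ∈ s, (W x : Set X) := by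
      change ((s.sup W : X.Opens) : Set X) = _
      rw [Opens.coe_finset_sup, Finset.sup_set_eq_biUnion]
      rfl
    rw [this]
    exact s.isCompact_biUnion (fun x _ => (hWa x).isCompact)
  have hfin : (irreducibleComponents (X₀.toScheme : Type u)).Finite := hirr X₀ hc
  haveI : IsSeparated (X₀.ι ≫ terminal.from X) := inferInstance
  haveI : X₀.toScheme.IsSeparated := ⟨by
    have : terminal.from X₀.toScheme = X₀.ι ≫ terminal.from X := terminal.hom_ext _ _
    rw [this]; infer_instance⟩
  have hinj : Function.Injective X₀.ι := X₀.ι.isOpenEmbedding.injective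
  obtain ⟨U, hU, hUs⟩ := exists_affine_of_finite_components X₀.toScheme hfin
    (s.preimage X₀.ι hinj.injOn) (fun a ha => by
      have hax : X₀.ι a ∈ s := Finset.mem_preimage.mp ha
      obtain ⟨hN, hd⟩ := hs _ hax
      let e : X.presheaf.stalk (X₀.ι a) ≃+* X₀.toScheme.presheaf.stalk a :=
        (asIso (X₀.ι.stalkMap a)).commRingCatIsoToRingEquiv
      exact ⟨isNoetherianRing_of_ringEquiv _ e, by
        rw [← ringKrullDim_eq_of_ringEquiv e]; exact hd⟩)
  refine ⟨X₀.ι ''ᵁ U, hU.image_of_isOpenImmersion X₀.ι, fun x hx => ?_⟩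
  have hx0 : x ∈ X₀ := (Finset.le_sup hx : W x ≤ s.sup W) (hWx x)
  refine ⟨⟨x, hx0⟩, hUs _ (Finset.mem_preimage.mpr ?_), rfl⟩
  exact hx

end Groth.Agent.Lib.R2H4FindAffE
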