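import Mathlib
import Groth.Agent.Lib.R2H3FittFibreB

set_option autoImplicit false
universe u
open CategoryTheory AlgebraicGeometry Limits Opposite TopologicalSpace Topology

namespace Groth.Agent.Lib.R2H4FittStrat

open Groth.Agent.Lib.R2H3.FittFibre Groth.Agent.Lib.R2H3.FittFibreB

/-- A morphism factors through the closed subscheme `V(K)` iff `K` pulls back to zero. -/
theorem exists_lift_subschemeι_iff {T X : Scheme.{u}} (K : X.IdealSheafData) (f : T ⟶ X) :
    (∃ g : T ⟶ K.subscheme, g ≫ K.subschemeι = f) ↔ K.comap f = ⊥ := by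
  rw [comap_eq_bot_iff_le_ker]
  constructor
  · rintro ⟨g, rfl⟩
    calc K = K.subschemeι.ker := (Scheme.IdealSheafData.ker_subschemeι K).symm
      _ ≤ (g ≫ K.subschemeι).ker := Scheme.Hom.le_ker_comp _ _
  · intro h
    exact ⟨IsClosedImmersion.lift K.subschemeι f (by simpa using h),
      IsClosedImmersion.lift_fac _ _ _⟩

/-- The locally closed subscheme `V(J) ∩ (X ∖ V(I))`. -/
theorem exists_immersion_factors_iff {X : Scheme.{u}} (J I : X.IdealSheafData) :
    ∃ (Z : Scheme.{u}) (i : Z ⟶ X), IsImmersion i ∧ ∀ (T : Scheme.{u}) (f : T ⟶ X),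
      (∃ g : T ⟶ Z, g ≫ i = f) ↔ (J.comap f = ⊥ ∧ I.comap f = ⊤) := by
  let U : X.Opens := I.support.compl
  let K : (U : Scheme.{u}).IdealSheafData := J.comap U.ι
  refine ⟨K.subscheme, K.subschemeι ≫ U.ι, inferInstance, fun T f => ?_⟩
  constructor
  · rintro ⟨g, rfl⟩
    constructor
    · have h1 : K.comap (g ≫ K.subschemeι) = ⊥ :=
        (exists_lift_subschemeι_iff K (g ≫ K.subschemeι)).mp ⟨g, rfl⟩
      rw [← Category.assoc, Scheme.IdealSheafData.comap_comp]
      exact h1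
    · rw [comap_eq_top_iff]
      intro y hy
      have : (U.ι ((g ≫ K.subschemeι) y)) ∈ (U : Set X) := by
        rw [← Scheme.Opens.range_ι U]
        exact ⟨_, rfl⟩
      apply this
      simpa using hy
  · rintro ⟨hJ, hI⟩
    rw [comap_eq_top_iff] at hI
    have hr : Set.range f ⊆ Set.range U.ι := by
      rw [Scheme.Opens.range_ι]
      rintro _ ⟨y, rfl⟩
      exact hI y
    let f' : T ⟶ U := IsOpenImmersion.lift U.ι f hr
    have hf' : f' ≫ U.ι = f := IsOpenImmersion.lift_fac _ _ _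
    have hK : K.comap f' = ⊥ := by
      rw [← Scheme.IdealSheafData.comap_comp, hf']
      exact hJ
    obtain ⟨g, hg⟩ := (exists_lift_subschemeι_iff K f').mpr hK
    exact ⟨g, by rw [← Category.assoc, hg, hf']⟩

theorem main {X : Scheme.{u}} (F : X.Modules)
    [Coh.IsQCoh F] (hF : CohB1.IsFT F) (r : ℕ) :
    ∃ (Z : Scheme.{u}) (i : Z ⟶ X), IsImmersion i ∧ ∀ (T : Scheme.{u}) (f : T ⟶ X),
      (∃ g : T ⟶ Z, g ≫ i = f) ↔
        FlatMod.IsFinLocFreeOfRank r ((Scheme.Modules.pullback f).obj F) := by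
  have : F.IsQuasicoherent := ‹Coh.IsQCoh F›
  obtain ⟨Z, i, hi, h⟩ := exists_immersion_factors_iff
    (⨆ k : Fin r, Fitt.sheafIdeal F k) (Fitt.sheafIdeal F r)
  refine ⟨Z, i, hi, fun T f => ?_⟩
  rw [h T f, isFinLocFreeOfRank_pullback_iff f F hF r]
  have : (⨆ k : Fin r, Fitt.sheafIdeal F k).comap f = ⨆ k : Fin r, (Fitt.sheafIdeal F k).comap f :=
    (Scheme.IdealSheafData.map_gc f).l_iSup
  rw [this, iSup_eq_bot]
  constructor
  · rintro ⟨h1, h2⟩
    exact ⟨fun k hk => h1 ⟨k, hk⟩, h2⟩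
  · rintro ⟨h1, h2⟩
    exact ⟨fun k => h1 k k.2, h2⟩

end Groth.Agent.Lib.R2H4FittStrat
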