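import Mathlib
import Groth.Prelude.Def_RegImm
import Groth.Prelude.Def_Mor2
import Groth.Prelude.Def_MoreMor
import Groth.Agent.Lib.R2H4QFRefine
import Groth.Agent.Lib.Helper20EtFinPart
import Groth.Agent.Lib.R2H4EtDomFin

/-!
# fppf coverings are refined by Zariski / finite locally free / Zariski / finite locally free
(helper4, round 2)

* `main1379'`: variant of `R2H4QFRefineEt.main1379` for one flat lfp morphism hitting `s`, with a
  global factorization through it.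
* `main7198` (= S7198): combine with `R2H4EtDomFin.main1390` and shrink the base so that every point
  of the finite locally free cover lies in a chart.
-/

set_option autoImplicit false
set_option linter.style.haveILetI false
universe w u
open scoped TensorProduct
open CategoryTheory CategoryTheory.Limits AlgebraicGeometry TopologicalSpace

namespace Groth.Agent.Lib.R2H4.FppfFinLocFree


open Groth.Agent.Lib.R2H4.QFRefine

variable {S₁ S : Scheme.{u}}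

set_option maxHeartbeats 1600000 in
/-- variant of `main1379` for a flat lfp morphism hitting `s`, with a global factorization -/
theorem main1379' (g : S₁ ⟶ S) [Flat g] [LocallyOfFinitePresentation g] (s : S)
    (hs : s ∈ Set.range g) :
    ∃ (S' V : Scheme.{u}) (e : S' ⟶ S) (π : V ⟶ S') (r : V ⟶ S₁), Etale e ∧ s ∈ Set.range ⇑e ∧
      Surjective π ∧ IsFinite π ∧ Flat π ∧ LocallyOfFinitePresentation π ∧ r ≫ g = π ≫ e := by
  obtain ⟨x, hxs, hxcm, hxcl⟩ := exists_cm_closed_point g s hs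
  obtain ⟨V₀, Z, i, -, ⟨z₀, hz₀⟩, hfl, hlfp, hqf, -⟩ :=
    Groth.Agent.Lib.R2H4.SliceCM.main1349 g x hxcm hxcl
  set w : Z ⟶ S := i ≫ V₀.ι ≫ g with hw
  haveI := hfl
  haveI := hlfp
  haveI := hqf
  have hwz : w z₀ = s := by
    rw [hw, ← Category.assoc, Scheme.Hom.comp_apply, hz₀, hxs]
  obtain ⟨U, e, u, he, heu, VV, hfin, hiff⟩ :=
    Groth.Agent.Lib.Helper20.EtSplit.exists_etale_finite_part w hwz (w.quasiFiniteAt z₀)
  haveI := he
  haveI := hfin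
  set π₀ : ↑VV ⟶ U := VV.ι ≫ pullback.snd w e with hπ₀
  have hopen : IsOpen (Set.range π₀) := π₀.isOpenMap.isOpen_range
  let U' : U.Opens := ⟨Set.range π₀, hopen⟩
  have huU' : u ∈ U' := by
    obtain ⟨p, hp1, hp2⟩ := Scheme.Pullback.exists_preimage_pullback z₀ u (hwz.trans heu.symm)
    have hpV : p ∈ VV := (hiff p hp2).mpr hp1
    refine ⟨⟨p, hpV⟩, ?_⟩
    rw [hπ₀, Scheme.Hom.comp_apply]
    exact hp2
  refine ⟨↑U', ↑(π₀ ⁻¹ᵁ U'), U'.ι ≫ e, π₀ ∣_ U',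
    (π₀ ⁻¹ᵁ U').ι ≫ VV.ι ≫ pullback.fst w e ≫ i ≫ V₀.ι, inferInstance, ?_, ?_,
    inferInstance, inferInstance, inferInstance, ?_⟩
  · have hur : u ∈ Set.range U'.ι := by
      rw [Scheme.Opens.range_ι]
      exact huU'
    obtain ⟨y, hy⟩ := hur
    refine ⟨y, ?_⟩
    rw [Scheme.Hom.comp_apply, hy]
    exact heu
  · refine ⟨fun y => ?_⟩
    have hy : U'.ι y ∈ U' := by
      have : U'.ι y ∈ Set.range U'.ι := ⟨y, rfl⟩
      rwa [Scheme.Opens.range_ι] at this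
    obtain ⟨v, hv⟩ := hy
    have hvr : v ∈ Set.range (π₀ ⁻¹ᵁ U').ι := by
      rw [Scheme.Opens.range_ι]
      exact ⟨v, rfl⟩
    obtain ⟨v', hv'⟩ := hvr
    refine ⟨v', ?_⟩
    apply U'.ι.isOpenEmbedding.injective
    rw [← Scheme.Hom.comp_apply, morphismRestrict_ι, Scheme.Hom.comp_apply, hv', hv]
  · simp only [Category.assoc]
    have e1 : π₀ ∣_ U' ≫ U'.ι ≫ e = (π₀ ⁻¹ᵁ U').ι ≫ VV.ι ≫ pullback.snd w e ≫ e := by
      rw [← Category.assoc, morphismRestrict_ι, Category.assoc, hπ₀, Category.assoc]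
    rw [e1, ← pullback.condition]





set_option maxHeartbeats 3200000 in
theorem main7198 {S : Scheme.{u}} (E : PreZeroHypercover.{w} S)
    (hflat : ∀ i, Flat (E.f i)) (hfp : ∀ i, LocallyOfFinitePresentation (E.f i))
    (hsurj : ∀ s : S, ∃ (i : E.I₀) (x : E.X i), E.f i x = s) (s : S) :
    ∃ (U : S.Opens) (W : Scheme.{u}) (π : W ⟶ U.toScheme), s ∈ U ∧ Mor2.IsFinLocFree π ∧
      Surjective π ∧
      ∀ w : W, ∃ (W' : W.Opens) (T : Scheme.{u}) (ρ : T ⟶ W'.toScheme) (i : E.I₀)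
        (r : T ⟶ E.X i),
        w ∈ W' ∧ Mor2.IsFinLocFree ρ ∧ Surjective ρ ∧ r ≫ E.f i = ρ ≫ W'.ι ≫ π ≫ U.ι := by
  obtain ⟨i, x, hx⟩ := hsurj s
  haveI := hflat i
  haveI := hfp i
  obtain ⟨S', V₁, e, π₁, r₁, he, ⟨s', hs'⟩, hπ₁s, hπ₁f, hπ₁fl, hπ₁fp, hr₁⟩ :=
    main1379' (E.f i) s ⟨x, hx⟩
  haveI := he
  haveI := hπ₁s
  haveI := hπ₁f
  haveI := hπ₁fl
  haveI := hπ₁fp
  obtain ⟨V, T₀, π₀, hsV, hV, hπ₀s, hπ₀f, hπ₀fl, hπ₀fp, hloc⟩ :=
    Groth.Agent.Lib.R2H4.EtDomFin.main1390 e s' s hs'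
  haveI := hπ₀s
  haveI := hπ₀f
  haveI := hπ₀fl
  haveI := hπ₀fp
  -- the good locus
  set G : Set T₀ := {t | ∃ (W : T₀.Opens) (h : (W : Scheme.{u}) ⟶ S'), t ∈ W ∧
    h ≫ e = W.ι ≫ π₀ ≫ V.ι} with hG
  have hGopen : IsOpen G := by
    rw [isOpen_iff_forall_mem_open]
    rintro t ⟨W, h, htW, hh⟩
    exact ⟨W, fun t₂ ht₂ => ⟨W, h, ht₂, hh⟩, W.2, htW⟩
  have hcl : IsClosed (π₀ '' Gᶜ) := π₀.isClosedMap _ hGopen.isClosed_compl
  set U' : (V : Scheme.{u}).Opens := ⟨(π₀ '' Gᶜ)ᶜ, hcl.isOpen_compl⟩ with hU'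
  have hsU' : (⟨s, hsV⟩ : V) ∈ U' := by
    rintro ⟨t, htG, ht⟩
    apply htG
    obtain ⟨W, h, htW, hh, -⟩ := hloc t (by rw [ht]; rfl)
    exact ⟨W, h, htW, hh⟩
  have hpre : ∀ t : T₀, π₀ t ∈ U' → t ∈ G := by
    intro t ht
    by_contra hcon
    exact ht ⟨t, hcon, rfl⟩
  set κ : (U' : Scheme.{u}) ≅ ((V.ι ''ᵁ U' : S.Opens) : Scheme.{u}) := V.ι.isoImage U' with hκ
  have hπU : (π₀ ∣_ U' ≫ κ.hom) ≫ (V.ι ''ᵁ U').ι = (π₀ ⁻¹ᵁ U').ι ≫ π₀ ≫ V.ι := by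
    rw [Category.assoc, hκ, Scheme.Hom.isoImage_hom_ι, ← Category.assoc, morphismRestrict_ι,
      Category.assoc]
  haveI : Surjective (π₀ ∣_ U') :=
    IsZariskiLocalAtTarget.restrict (P := @Surjective) inferInstance U'
  refine ⟨V.ι ''ᵁ U', ↑(π₀ ⁻¹ᵁ U'), π₀ ∣_ U' ≫ κ.hom, ⟨⟨s, hsV⟩, hsU', rfl⟩,
    ⟨inferInstance, inferInstance, inferInstance⟩, inferInstance, fun w => ?_⟩
  obtain ⟨Wt, ht, hwWt, hht⟩ := hpre ((π₀ ⁻¹ᵁ U').ι w) w.2
  set W' : (↑(π₀ ⁻¹ᵁ U') : Scheme.{u}).Opens := (π₀ ⁻¹ᵁ U').ι ⁻¹ᵁ Wt with hW'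
  set k : (W' : Scheme.{u}) ⟶ S' := (π₀ ⁻¹ᵁ U').ι.resLE Wt W' le_rfl ≫ ht with hk
  have hke : k ≫ e = W'.ι ≫ (π₀ ⁻¹ᵁ U').ι ≫ π₀ ≫ V.ι := by
    rw [hk, Category.assoc, hht, ← Category.assoc, Scheme.Hom.resLE_comp_ι, Category.assoc]
  refine ⟨W', pullback k π₁, pullback.fst k π₁, i, pullback.snd k π₁ ≫ r₁, hwWt,
    ⟨inferInstance, inferInstance, inferInstance⟩, inferInstance, ?_⟩
  rw [Category.assoc, hr₁, ← Category.assoc, ← pullback.condition, Category.assoc, hke, hπU]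


end Groth.Agent.Lib.R2H4.FppfFinLocFree
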