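import Mathlib
import Groth.Agent.Lib.R2H4QFCover

/-!
# The fppf topology is generated by Zariski covers and quasi-finite flat covers (helper4, round 2)

* `Pq`: flat, locally of finite presentation and locally quasi-finite.
* `fppfTopology_le`: `fppfTopology ≤ propQCTopology Pq` (every fppf covering family is refined by
  quasi-finite flat affine slices, `R2H4QFCover.exists_piece_flat`); so the two topologies agree.
* `main5238` (= S5238): a presheaf of types is an fppf sheaf iff it is a Zariski sheaf and a sheaf
  for single flat surjective finitely presented quasi-finite morphisms of affine schemes.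
-/

set_option autoImplicit false
set_option linter.style.haveILetI false
universe w u
open CategoryTheory CategoryTheory.Limits AlgebraicGeometry TopologicalSpace Topology

namespace Groth.Agent.Lib.R2H4.FppfQF


open Groth.Agent.Lib.R2H4.QFCover

/-- flat, locally of finite presentation and locally quasi-finite -/
abbrev Pq : MorphismProperty Scheme.{u} :=
  (@Flat ⊓ @LocallyOfFinitePresentation) ⊓ @LocallyQuasiFinite

theorem fppfTopology_le : Scheme.fppfTopology.{u} ≤ Scheme.propQCTopology Pq.{u} := by
  rw [Precoverage.toGrothendieck_le_iff_le_toPrecoverage]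
  intro X R hR
  rw [GrothendieckTopology.mem_toPrecoverage_iff]
  obtain ⟨hsurj, hP⟩ := hR
  rw [Presieve.mem_comap_jointlySurjectivePrecoverage_iff] at hsurj
  choose Y₀ f hRf hx using hsurj
  have hPf : ∀ x, (@Flat ⊓ @LocallyOfFinitePresentation : MorphismProperty Scheme.{u}) (f x) :=
    fun x => hP (hRf x)
  have hpiece : ∀ x : X, ∃ (W : Scheme.{u}) (j : W ⟶ Y₀ x), IsAffine W ∧ Flat (j ≫ f x) ∧
      LocallyOfFinitePresentation (j ≫ f x) ∧ LocallyQuasiFinite (j ≫ f x) ∧
      x ∈ Set.range ⇑(j ≫ f x) := fun x => by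
    haveI : Flat (f x) := (hPf x).1
    haveI : LocallyOfFinitePresentation (f x) := (hPf x).2
    exact exists_piece_flat (f x) x (hx x)
  choose W j hW hfl hlfp hqf hmem using hpiece
  have hcov : Presieve.ofArrows W (fun x => j x ≫ f x) ∈ Scheme.propQCPrecoverage Pq.{u} X := by
    refine ⟨?_, ?_⟩
    · refine Scheme.precoverage_le_qcPrecoverage_of_isOpenMap (P := Pq.{u}) ?_ _ ?_
      · intro A B g hg
        haveI : Flat g := hg.1.1
        haveI : LocallyOfFinitePresentation g := hg.1.2
        exact g.isOpenMap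
      · rw [Scheme.ofArrows_mem_precoverage_iff]
        exact ⟨fun x => ⟨x, hmem x⟩, fun x => ⟨⟨hfl x, hlfp x⟩, hqf x⟩⟩
    · rw [Scheme.ofArrows_mem_precoverage_iff]
      exact ⟨fun x => ⟨x, hmem x⟩, fun x => ⟨⟨hfl x, hlfp x⟩, hqf x⟩⟩
  refine GrothendieckTopology.superset_covering _ ?_ (Precoverage.generate_mem_toGrothendieck hcov)
  rw [Sieve.generate_le_iff]
  rintro Z g ⟨x⟩
  exact ⟨Y₀ x, j x, f x, hRf x, rfl⟩

theorem isMultiplicative_lfp :
    MorphismProperty.IsMultiplicative (@LocallyOfFinitePresentation.{u}) where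
  id_mem _ := inferInstance
  comp_mem _ _ hf hg := MorphismProperty.comp_mem _ _ _ hf hg

theorem isMultiplicative_Pq : MorphismProperty.IsMultiplicative Pq.{u} := by
  haveI := isMultiplicative_lfp.{u}
  infer_instance

/-- **S5238** -/
theorem main5238 (F : Scheme.{u}ᵒᵖ ⥤ Type w) :
    Presheaf.IsSheaf Scheme.fppfTopology F ↔
      Presheaf.IsSheaf Scheme.zariskiTopology F ∧
        ∀ (T S : Scheme.{u}) [IsAffine T] [IsAffine S] (f : T ⟶ S)
          [Flat f] [Surjective f] [LocallyOfFinitePresentation f] [LocallyQuasiFinite f],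
          Presieve.IsSheafFor F (Presieve.singleton f) := by
  rw [isSheaf_iff_isSheaf_of_type, isSheaf_iff_isSheaf_of_type]
  constructor
  · intro h
    refine ⟨Presieve.isSheaf_of_le _
      (Precoverage.toGrothendieck_mono Scheme.zariskiPrecoverage_le_fppfPrecoverage) h, ?_⟩
    intro T S _ _ f _ _ _ _
    rw [Presieve.isSheafFor_iff_generate]
    apply h
    apply Precoverage.generate_mem_toGrothendieck
    rw [Scheme.fppfPrecoverage, Scheme.singleton_mem_precoverage_iff]
    exact ⟨f.surjective, inferInstance, inferInstance⟩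
  · rintro ⟨hz, hq⟩
    refine Presieve.isSheaf_of_le _ fppfTopology_le ?_
    haveI := isMultiplicative_Pq.{u}
    rw [isSheaf_type_propQCTopology_iff]
    refine ⟨hz, fun {R S} f hf hs => ?_⟩
    haveI : Flat (Spec.map f) := hf.1.1
    haveI : LocallyOfFinitePresentation (Spec.map f) := hf.1.2
    haveI : LocallyQuasiFinite (Spec.map f) := hf.2
    exact hq (Spec S) (Spec R) (Spec.map f)


end Groth.Agent.Lib.R2H4.FppfQF
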