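import Mathlib
import Groth.Prelude
set_option backward.isDefEq.respectTransparency.types false

/-!
# Closed subsets of `X ×_k k̄` stable under the Frobenius descend to `X` (helper4, round 2)

Namespace `Groth.Agent.Lib.R2H4FrobDesc`.

* `exists_pow_frobenius` : two `k`-algebra maps from a finite type algebra over a finite field `k` to an
  algebraically closed algebraic extension with the same kernel differ by a power of the Frobenius;
* `ptMap`, `eq_SpecMap_ptMap`, `ptMap_comp_frob` : `K`-points landing in an affine open as ring maps;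
* `exists_iterate_eq` : two `K`-points of `X` over `k` with the same image differ by a power of `FX`;
* `main` : a closed subset `W` of `X ×_k K` is the preimage of a closed subset of `X` iff `F(W) ⊆ W`.
-/

set_option autoImplicit false
set_option linter.style.haveILetI false
set_option linter.unusedSectionVars false
set_option linter.unusedTactic false
universe u
open CategoryTheory CategoryTheory.Limits AlgebraicGeometry TopologicalSpace Opposite

namespace Groth.Agent.Lib.R2H4FrobDesc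


section Alg

variable {k : Type*} [Field k] [Fintype k] {A : Type*} [CommRing A] [Algebra k A]
  [Algebra.FiniteType k A] {K : Type*} [Field K] [Algebra k K] [Algebra.IsAlgebraic k K] [IsAlgClosed K]

/-- two `k`-algebra maps from a finite type `k`-algebra to an algebraic closure of the finite field
`k` with the same kernel differ by a power of the Frobenius -/
theorem exists_pow_frobenius (ψ₁ ψ₂ : A →ₐ[k] K) (hker : ∀ a, ψ₁ a = 0 ↔ ψ₂ a = 0) :
    ∃ i : ℕ, ∀ s : A, ψ₂ s = ψ₁ s ^ (Fintype.card k ^ i) := by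
  classical
  -- the quotient field
  let m : Ideal A := RingHom.ker (ψ₁ : A →+* K)
  let α : (A ⧸ m) →ₐ[k] K := Ideal.Quotient.liftₐ m ψ₁ (fun a ha => ha)
  let β : (A ⧸ m) →ₐ[k] K := Ideal.Quotient.liftₐ m ψ₂ (fun a ha => (hker a).mp ha)
  have hα : Function.Injective α := by
    rw [injective_iff_map_eq_zero]
    intro x hx
    obtain ⟨a, rfl⟩ := Ideal.Quotient.mk_surjective x
    exact Ideal.Quotient.eq_zero_iff_mem.mpr hx
  haveI : IsDomain (A ⧸ m) := hα.isDomain α.toRingHom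
  haveI : Algebra.IsAlgebraic k (A ⧸ m) := Algebra.IsAlgebraic.of_injective α hα
  haveI : Algebra.IsIntegral k (A ⧸ m) := Algebra.IsAlgebraic.isIntegral
  haveI : Algebra.FiniteType k (A ⧸ m) :=
    Algebra.FiniteType.of_surjective (Ideal.Quotient.mkₐ k m) (Ideal.Quotient.mkₐ_surjective k m)
  haveI : Module.Finite k (A ⧸ m) := Algebra.IsIntegral.finite
  have hfield : IsField (A ⧸ m) :=
    isField_of_isIntegral_of_isField' (R := k) (Field.toIsField k)
  haveI : m.IsMaximal := Ideal.Quotient.maximal_of_isField m hfield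
  letI : Field (A ⧸ m) := Ideal.Quotient.field m
  haveI : Finite (A ⧸ m) := Module.finite_of_finite k
  have hbij := FiniteField.bijective_frobeniusAlgHom_pow k (A ⧸ m)
  let Φ : Fin (Module.finrank k (A ⧸ m)) → ((A ⧸ m) →ₐ[k] K) :=
    fun n => α.comp (FiniteField.frobeniusAlgHom k (A ⧸ m) ^ n.1)
  have hΦinj : Function.Injective Φ := by
    intro a b hab
    apply hbij.1
    ext x
    exact hα (DFunLike.congr_fun hab x)
  have hΦsurj : Function.Surjective Φ :=
    (hΦinj.bijective_of_nat_card_le (by simpa using card_algHom_le_finrank k (A ⧸ m) K)).2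
  obtain ⟨n, hn⟩ := hΦsurj β
  refine ⟨n.1, fun s => ?_⟩
  have h1 := DFunLike.congr_fun hn (Ideal.Quotient.mk m s)
  have h2 : β (Ideal.Quotient.mk m s) = ψ₂ s := rfl
  have h3 : Φ n (Ideal.Quotient.mk m s) = ψ₁ s ^ (Fintype.card k ^ n.1) := by
    change α ((FiniteField.frobeniusAlgHom k (A ⧸ m) ^ n.1) (Ideal.Quotient.mk m s)) = _
    rw [AlgHom.coe_pow, FiniteField.coe_frobeniusAlgHom, pow_iterate, map_pow]
    rfl
  rw [← h2, ← h1, h3]

end Alg



section Core

variable {k : Type u} [Field k] [Finite k] (K : Type u) [Field K] [Algebra k K]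
  [Algebra.IsAlgebraic k K] [IsAlgClosed K]
  {X : Scheme.{u}} (f : X ⟶ Spec (CommRingCat.of k)) [LocallyOfFiniteType f] (FX : X ⟶ X)
  (hle : ∀ U : X.Opens, U ≤ FX ⁻¹ᵁ U)
  (hFapp : ∀ (U : X.Opens) (s : Γ(X, U)), (FX.appLE U U (hle U)).hom s = s ^ Nat.card k)

/-- the ring map attached to a `K`-point landing in an affine open -/
noncomputable def ptMap (g : Spec (CommRingCat.of K) ⟶ X) (U : X.Opens) (hgU : ⊤ ≤ g ⁻¹ᵁ U) :
    Γ(X, U) ⟶ CommRingCat.of K :=
  g.appLE U ⊤ hgU ≫ (Scheme.ΓSpecIso (CommRingCat.of K)).hom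

omit [Field k] [Finite k] [Algebra k K] [Algebra.IsAlgebraic k K] [IsAlgClosed K] in
theorem eq_SpecMap_ptMap (g : Spec (CommRingCat.of K) ⟶ X) (U : X.Opens) (hU : IsAffineOpen U)
    (hgU : ⊤ ≤ g ⁻¹ᵁ U) : g = Spec.map (ptMap K g U hgU) ≫ hU.fromSpec := by
  have h := IsAffineOpen.SpecMap_appLE_fromSpec g hU (isAffineOpen_top _) hgU
  rw [IsAffineOpen.fromSpec_top, Scheme.isoSpec_Spec_inv] at h
  unfold ptMap
  rw [Spec.map_comp, Category.assoc, h, ← Category.assoc, ← Spec.map_comp, Iso.inv_hom_id,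
    Spec.map_id, Category.id_comp]

omit [Field k] [Finite k] [Algebra k K] [Algebra.IsAlgebraic k K] [IsAlgClosed K] in
theorem ptMap_congr (g g' : Spec (CommRingCat.of K) ⟶ X) (e : g = g') (U : X.Opens)
    (h : ⊤ ≤ g ⁻¹ᵁ U) (h' : ⊤ ≤ g' ⁻¹ᵁ U) : ptMap K g U h = ptMap K g' U h' := by
  subst e; rfl

omit [Finite k] [Algebra k K] [Algebra.IsAlgebraic k K] [IsAlgClosed K] in
include hFapp in
theorem ptMap_comp_frob (g : Spec (CommRingCat.of K) ⟶ X) (U : X.Opens) (hgU : ⊤ ≤ g ⁻¹ᵁ U)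
    (hgU' : ⊤ ≤ (g ≫ FX) ⁻¹ᵁ U) (s : Γ(X, U)) :
    (ptMap K (g ≫ FX) U hgU').hom s = (ptMap K g U hgU).hom s ^ Nat.card k := by
  have h1 : (g ≫ FX).appLE U ⊤ hgU' = FX.appLE U U (hle U) ≫ g.appLE U ⊤ hgU :=
    (Scheme.Hom.appLE_comp_appLE g FX U U ⊤ (hle U) hgU).symm
  unfold ptMap
  rw [h1]
  simp only [CommRingCat.hom_comp, RingHom.coe_comp, Function.comp_apply]
  rw [hFapp U s, map_pow, map_pow]

omit [Finite k] [Algebra k K] [Algebra.IsAlgebraic k K] [IsAlgClosed K] in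
include hFapp in
theorem ptMap_iterate_frob (g : Spec (CommRingCat.of K) ⟶ X) (U : X.Opens) (hgU : ⊤ ≤ g ⁻¹ᵁ U)
    (i : ℕ) : ∃ hgU' : ⊤ ≤ ((fun t => t ≫ FX)^[i] g) ⁻¹ᵁ U, ∀ s : Γ(X, U),
      (ptMap K ((fun t => t ≫ FX)^[i] g) U hgU').hom s =
        (ptMap K g U hgU).hom s ^ (Nat.card k ^ i) := by
  induction i with
  | zero => exact ⟨hgU, fun s => by simp⟩
  | succ i ih =>
    obtain ⟨h1, h2⟩ := ih
    have h3 : ⊤ ≤ ((fun t => t ≫ FX)^[i + 1] g) ⁻¹ᵁ U := by
      rw [Function.iterate_succ_apply']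
      intro z _
      exact hle U (h1 (show z ∈ (⊤ : (Spec (CommRingCat.of K)).Opens) from trivial))
    refine ⟨h3, fun s => ?_⟩
    have h4 := ptMap_comp_frob K FX hle hFapp ((fun t => t ≫ FX)^[i] g) U h1
      (by rw [← Function.iterate_succ_apply' (fun t => t ≫ FX) i g]; exact h3) s
    rw [h2 s, ← pow_mul, ← pow_succ] at h4
    rw [← h4, ptMap_congr K _ _ (Function.iterate_succ_apply' (fun t => t ≫ FX) i g) U h3]

include hFapp in
/-- two `K`-points of `X` over `k` with the same image point differ by a power of the Frobenius -/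
theorem exists_iterate_eq (g₁ g₂ : Spec (CommRingCat.of K) ⟶ X)
    (h₁ : g₁ ≫ f = FinFr.specι k K) (h₂ : g₂ ≫ f = FinFr.specι k K)
    (hpt : ∀ z, g₁ z = g₂ z) : ∃ i : ℕ, (fun t => t ≫ FX)^[i] g₁ = g₂ := by
  haveI : Subsingleton ↥(Spec (CommRingCat.of K)) := inferInstanceAs (Subsingleton (PrimeSpectrum K))
  haveI : Nonempty ↥(Spec (CommRingCat.of K)) := inferInstanceAs (Nonempty (PrimeSpectrum K))
  let pt : ↥(Spec (CommRingCat.of K)) := Classical.arbitrary _
  obtain ⟨_, ⟨U, hU, rfl⟩, hxU, -⟩ :=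
    X.isBasis_affineOpens.exists_subset_of_mem_open (Set.mem_univ (g₁ pt)) isOpen_univ
  have hg₁U : ⊤ ≤ g₁ ⁻¹ᵁ U := fun z _ => by
    rw [Subsingleton.elim z pt]; exact hxU
  have hg₂U : ⊤ ≤ g₂ ⁻¹ᵁ U := fun z _ => by
    change g₂ z ∈ U
    rw [← hpt z, Subsingleton.elim z pt]; exact hxU
  haveI := Fintype.ofFinite k
  -- the `k`-algebra structure on `Γ(X, U)`
  let φ : k →+* Γ(X, U) := ((Scheme.ΓSpecIso (CommRingCat.of k)).inv ≫ f.appLE ⊤ U le_top).hom
  letI : Algebra k Γ(X, U) := φ.toAlgebra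
  haveI : Algebra.FiniteType k Γ(X, U) := by
    have h1 : (f.appLE ⊤ U le_top).hom.FiniteType :=
      f.finiteType_appLE (isAffineOpen_top _) hU le_top
    have h2 : ((Scheme.ΓSpecIso (CommRingCat.of k)).inv).hom.FiniteType :=
      RingHom.FiniteType.of_surjective _
        (ConcreteCategory.bijective_of_isIso (Scheme.ΓSpecIso (CommRingCat.of k)).inv).2
    exact h1.comp h2
  have hcomm : ∀ (g : Spec (CommRingCat.of K) ⟶ X) (hg : g ≫ f = FinFr.specι k K)
      (hgU : ⊤ ≤ g ⁻¹ᵁ U) (c : k), (ptMap K g U hgU).hom (φ c) = algebraMap k K c := by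
    intro g hg hgU c
    have e1 : f.appLE ⊤ U le_top ≫ g.appLE U ⊤ hgU = (FinFr.specι k K).appTop := by
      rw [Scheme.Hom.appLE_comp_appLE]
      simp only [hg]
      simp [Scheme.Hom.appLE, Scheme.Hom.appTop]
    have e2 : (Scheme.ΓSpecIso (CommRingCat.of k)).inv ≫ f.appLE ⊤ U le_top ≫ ptMap K g U hgU =
        CommRingCat.ofHom (algebraMap k K) := by
      unfold ptMap
      rw [← Category.assoc (f.appLE ⊤ U le_top), e1]
      unfold FinFr.specι
      rw [Scheme.ΓSpecIso_naturality, Iso.inv_hom_id_assoc]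
    have e3 := congrArg (fun m => m.hom c) e2
    simp only [CommRingCat.hom_comp, RingHom.coe_comp, Function.comp_apply,
      CommRingCat.hom_ofHom] at e3
    exact e3
  let ψ₁ : Γ(X, U) →ₐ[k] K := { (ptMap K g₁ U hg₁U).hom with commutes' := hcomm g₁ h₁ hg₁U }
  let ψ₂ : Γ(X, U) →ₐ[k] K := { (ptMap K g₂ U hg₂U).hom with commutes' := hcomm g₂ h₂ hg₂U }
  have e₁ := eq_SpecMap_ptMap K g₁ U hU hg₁U
  have e₂ := eq_SpecMap_ptMap K g₂ U hU hg₂U
  have hker : ∀ a, ψ₁ a = 0 ↔ ψ₂ a = 0 := by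
    have hp := hpt pt
    rw [e₁, e₂] at hp
    have hp' : Spec.map (ptMap K g₁ U hg₁U) pt = Spec.map (ptMap K g₂ U hg₂U) pt :=
      hU.fromSpec.isOpenEmbedding.injective hp
    have hbot : pt.asIdeal = ⊥ := Ideal.eq_bot_of_prime pt.asIdeal
    intro a
    have h3 := congrArg (fun P : PrimeSpectrum Γ(X, U) => a ∈ P.asIdeal) hp'
    simp only [eq_iff_iff] at h3
    change (ptMap K g₁ U hg₁U).hom a ∈ pt.asIdeal ↔ (ptMap K g₂ U hg₂U).hom a ∈ pt.asIdeal at h3
    rw [hbot] at h3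
    exact h3
  obtain ⟨i, hi⟩ := exists_pow_frobenius ψ₁ ψ₂ hker
  refine ⟨i, ?_⟩
  obtain ⟨h5, h6⟩ := ptMap_iterate_frob K FX hle hFapp g₁ U hg₁U i
  rw [eq_SpecMap_ptMap K ((fun t => t ≫ FX)^[i] g₁) U hU h5, e₂]
  congr 2
  ext s
  rw [h6 s, Nat.card_eq_fintype_card]
  exact (hi s).symm

end Core



section Main

variable {k : Type u} [Field k] [Finite k] (K : Type u) [Field K] [Algebra k K]
  [Algebra.IsAlgebraic k K] [IsAlgClosed K]
  {X : Scheme.{u}} (f : X ⟶ Spec (CommRingCat.of k)) [LocallyOfFiniteType f] (FX : X ⟶ X)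
  (hFb : FX.base = 𝟙 _)
  (hle : ∀ U : X.Opens, U ≤ FX ⁻¹ᵁ U)
  (hFapp : ∀ (U : X.Opens) (s : Γ(X, U)), (FX.appLE U U (hle U)).hom s = s ^ Nat.card k)
  (F : FinFr.ext K f ⟶ FinFr.ext K f)
  (hF1 : F ≫ FinFr.extπ K f = FinFr.extπ K f ≫ FX)
  (hF2 : F ≫ FinFr.extStr K f = FinFr.extStr K f)

omit [Finite k] [Algebra.IsAlgebraic k K] [IsAlgClosed K] [LocallyOfFiniteType f] in
include hF1 in
theorem iterate_comp_π {T : Scheme.{u}} (t : T ⟶ FinFr.ext K f) (i : ℕ) :
    ((fun s => s ≫ F)^[i] t) ≫ FinFr.extπ K f = (fun s => s ≫ FX)^[i] (t ≫ FinFr.extπ K f) := by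
  induction i with
  | zero => rfl
  | succ i ih =>
    rw [Function.iterate_succ_apply', Function.iterate_succ_apply', Category.assoc, hF1,
      ← Category.assoc, ih]

omit [Finite k] [Algebra.IsAlgebraic k K] [IsAlgClosed K] [LocallyOfFiniteType f] in
include hF2 in
theorem iterate_comp_str {T : Scheme.{u}} (t : T ⟶ FinFr.ext K f) (i : ℕ) :
    ((fun s => s ≫ F)^[i] t) ≫ FinFr.extStr K f = t ≫ FinFr.extStr K f := by
  induction i with
  | zero => rfl
  | succ i ih =>
    rw [Function.iterate_succ_apply', Category.assoc, hF2, ih]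

omit [Finite k] [Algebra.IsAlgebraic k K] [IsAlgClosed K] [LocallyOfFiniteType f] in
theorem iterate_apply_mem {T : Scheme.{u}} (t : T ⟶ FinFr.ext K f) (W : Set ↥(FinFr.ext K f))
    (hW : F.base '' W ⊆ W) (z : T) (hz : t z ∈ W) (i : ℕ) :
    ((fun s => s ≫ F)^[i] t) z ∈ W := by
  induction i with
  | zero => exact hz
  | succ i ih =>
    rw [Function.iterate_succ_apply']
    exact hW ⟨_, ih, rfl⟩

include hFb hFapp hF1 hF2 in
theorem main (W : Set ↥(FinFr.ext K f)) (hWc : IsClosed W) :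
    (∃ Y : Set X, IsClosed Y ∧ (FinFr.extπ K f).base ⁻¹' Y = W) ↔ F.base '' W ⊆ W := by
  constructor
  · rintro ⟨Y, -, rfl⟩
    rintro _ ⟨y, hy, rfl⟩
    change (FinFr.extπ K f) (F y) ∈ Y
    have h1 : (FinFr.extπ K f) (F y) = FX ((FinFr.extπ K f) y) := by
      have := congrArg (fun m : FinFr.ext K f ⟶ X => m y) hF1
      exact this
    have h2 : ∀ x : X, FX x = x := fun x => by
      change FX.base x = x
      rw [hFb]; rfl
    rw [h1, h2]
    exact hy
  · intro hW
    haveI : IsIntegralHom (FinFr.specι k K) := by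
      unfold FinFr.specι
      rw [IsIntegralHom.SpecMap_iff]
      exact algebraMap_isIntegral_iff.mpr inferInstance
    haveI : IsIntegralHom (FinFr.extπ K f) :=
      inferInstanceAs (IsIntegralHom (pullback.fst f (FinFr.specι k K)))
    have hclosed : IsClosedMap (FinFr.extπ K f) := (FinFr.extπ K f).isClosedMap
    haveI : LocallyOfFiniteType (FinFr.extStr K f) :=
      inferInstanceAs (LocallyOfFiniteType (pullback.snd f (FinFr.specι k K)))
    haveI : JacobsonSpace ↥(FinFr.ext K f) := LocallyOfFiniteType.jacobsonSpace (FinFr.extStr K f)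
    refine ⟨(FinFr.extπ K f) '' W, hclosed W hWc, ?_⟩
    apply Set.Subset.antisymm _ (Set.subset_preimage_image _ W)
    -- reduce to closed points
    have hW'c : IsClosed ((FinFr.extπ K f).base ⁻¹' ((FinFr.extπ K f) '' W)) :=
      (hclosed W hWc).preimage (FinFr.extπ K f).continuous
    rw [← JacobsonSpace.closure_inter_closedPoints hW'c]
    apply closure_minimal _ hWc
    rintro y' ⟨⟨w, hwW, hwy⟩, hy'⟩
    -- a closed point of `W` over the same point of `X`
    have hxc : IsClosed ({(FinFr.extπ K f) y'} : Set X) := by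
      have := hclosed {y'} hy'
      rwa [Set.image_singleton] at this
    have hSc : IsClosed (W ∩ (FinFr.extπ K f).base ⁻¹' {(FinFr.extπ K f) y'}) :=
      hWc.inter (hxc.preimage (FinFr.extπ K f).continuous)
    have hSne : (W ∩ (FinFr.extπ K f).base ⁻¹' {(FinFr.extπ K f) y'} ∩
        closedPoints ↥(FinFr.ext K f)).Nonempty := by
      by_contra hne
      rw [Set.not_nonempty_iff_eq_empty] at hne
      have h3 := JacobsonSpace.closure_inter_closedPoints hSc
      rw [hne, closure_empty] at h3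
      exact (h3 ▸ (⟨hwW, hwy⟩ : w ∈ W ∩ (FinFr.extπ K f).base ⁻¹' {(FinFr.extπ K f) y'}) : w ∈ (∅ : Set _))
    obtain ⟨w₀, ⟨hw₀W, hw₀x⟩, hw₀c⟩ := hSne
    -- the two `K`-points
    let t₁ := pointOfClosedPoint (FinFr.extStr K f) w₀ hw₀c
    let t₂ := pointOfClosedPoint (FinFr.extStr K f) y' hy'
    have ht₁ : t₁ ≫ FinFr.extStr K f = 𝟙 _ := pointOfClosedPoint_comp _ _ _
    have ht₂ : t₂ ≫ FinFr.extStr K f = 𝟙 _ := pointOfClosedPoint_comp _ _ _
    have hcond : FinFr.extπ K f ≫ f = FinFr.extStr K f ≫ FinFr.specι k K := pullback.condition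
    have hg₁ : (t₁ ≫ FinFr.extπ K f) ≫ f = FinFr.specι k K := by
      rw [Category.assoc, hcond, ← Category.assoc, ht₁, Category.id_comp]
    have hg₂ : (t₂ ≫ FinFr.extπ K f) ≫ f = FinFr.specι k K := by
      rw [Category.assoc, hcond, ← Category.assoc, ht₂, Category.id_comp]
    have hpt : ∀ z, (t₁ ≫ FinFr.extπ K f) z = (t₂ ≫ FinFr.extπ K f) z := by
      intro z
      change (FinFr.extπ K f) (t₁ z) = (FinFr.extπ K f) (t₂ z)
      rw [pointOfClosedPoint_apply, pointOfClosedPoint_apply]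
      exact hw₀x
    obtain ⟨i, hi⟩ := exists_iterate_eq K f FX hle hFapp _ _ hg₁ hg₂ hpt
    have heq : (fun s => s ≫ F)^[i] t₁ = t₂ := by
      apply pullback.hom_ext
      · change _ ≫ FinFr.extπ K f = _ ≫ FinFr.extπ K f
        rw [iterate_comp_π K f FX F hF1, hi]
      · change _ ≫ FinFr.extStr K f = _ ≫ FinFr.extStr K f
        rw [iterate_comp_str K f F hF2, ht₁, ht₂]
    haveI : Nonempty ↥(Spec (CommRingCat.of K)) := inferInstanceAs (Nonempty (PrimeSpectrum K))
    let z : ↥(Spec (CommRingCat.of K)) := Classical.arbitrary _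
    have h5 := iterate_apply_mem K f F t₁ W hW z (by
      rw [pointOfClosedPoint_apply]; exact hw₀W) i
    rw [heq, pointOfClosedPoint_apply] at h5
    exact h5

end Main

end Groth.Agent.Lib.R2H4FrobDesc
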