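import Mathlib
import Groth.Prelude
set_option backward.isDefEq.respectTransparency.types false

/-!
# The fixed-point scheme of the Frobenius of a base-changed scheme (helper4, round 2)

Namespace `Groth.Agent.Lib.R2H4FrobFix`.

* `app_pow_eq`, `section_pow_eq` : if `g ≫ FX = g` (`FX` a `q`-Frobenius) then all (pulled back) sections
  satisfy `r ^ q = r`;
* `fixι`, `fixι_comp`, `fixLift` : the fixed-point scheme `FinFr.fixScheme` as an equaliser; `fixι` is a
  monomorphism and an immersion;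
* `frob_comp` : a `q`-Frobenius of a scheme over a field with `q` elements is a morphism over the field;
* ring lemmas for rings with `r ^ q = r`: `isReduced_of_pow_eq`, `isMaximal_of_isPrime_of_pow_eq`,
  `finite_discrete_of_pow_eq`, `bijective_of_pow_eq_of_subsingleton`;
* `isOpen_singleton`, `isIso_ι_comp_of_eq_singleton` : a locally Noetherian scheme with `r ^ q = r` for all
  sections is discrete, with every point isomorphic to `Spec k`;
* `isPullback_fixProj` : `Fix(FX × id) = Fix(FX) ×_k K`;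
* `main` : the fixed-point scheme of `FX × id` on `X ×_k K` is reduced, and finite for `X` compact.
-/

set_option autoImplicit false
set_option linter.style.haveILetI false
set_option linter.unusedSectionVars false
universe u
open CategoryTheory CategoryTheory.Limits AlgebraicGeometry TopologicalSpace Opposite
open Polynomial

namespace Groth.Agent.Lib.R2H4FrobFix


section Pow

variable {X T : Scheme.{u}} (FX : X ⟶ X) (q : ℕ) (hle : ∀ U : X.Opens, U ≤ FX ⁻¹ᵁ U)
  (hFapp : ∀ (U : X.Opens) (s : Γ(X, U)), (FX.appLE U U (hle U)).hom s = s ^ q)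

include hFapp in
/-- if `g ≫ FX = g` for a "`q`-Frobenius" `FX`, every pulled back section is fixed by `r ↦ r ^ q` -/
theorem app_pow_eq (g : T ⟶ X) (hg : g ≫ FX = g) (U : X.Opens) (s : Γ(X, U)) :
    (g.app U).hom s ^ q = (g.app U).hom s := by
  have h1 := Scheme.Hom.appLE_comp_appLE g FX U U (g ⁻¹ᵁ U) (hle U) le_rfl
  have h2 : (g ≫ FX).appLE U (g ⁻¹ᵁ U)
      ((le_refl (g ⁻¹ᵁ U)).trans ((Opens.map g.base).map (homOfLE (hle U))).le) =
      g.appLE U (g ⁻¹ᵁ U) le_rfl := by
    simp only [hg]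
  rw [← map_pow, ← hFapp U s]
  have h3 := congrArg (fun φ => φ.hom s) (h1.trans h2)
  simpa [Scheme.Hom.appLE_eq_app] using h3

end Pow

section Fix

variable {k : Type u} [Field k] {Y : Scheme.{u}} (p : Y ⟶ Spec (CommRingCat.of k)) (φ : Y ⟶ Y)
  (hφ : φ ≫ p = p)

/-- the inclusion of the fixed-point scheme -/
noncomputable def fixι : FinFr.fixScheme p φ hφ ⟶ Y := pullback.fst _ _

instance : IsImmersion (fixι p φ hφ) := by
  unfold fixι
  have : (pullback.lift (𝟙 Y) (𝟙 Y) rfl : Y ⟶ pullback p p) = pullback.diagonal p := rfl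
  exact inferInstanceAs (IsImmersion (pullback.fst _ (pullback.diagonal p)))

/-- the second projection of the fixed-point scheme -/
noncomputable def fixSnd : FinFr.fixScheme p φ hφ ⟶ Y := pullback.snd _ _

theorem fix_condition :
    fixι p φ hφ ≫ (pullback.lift (𝟙 Y) φ (by rw [hφ, Category.id_comp]) : Y ⟶ pullback p p) =
      fixSnd p φ hφ ≫ (pullback.lift (𝟙 Y) (𝟙 Y) rfl : Y ⟶ pullback p p) := pullback.condition

theorem fixι_comp : fixι p φ hφ ≫ φ = fixι p φ hφ := by
  have h1 := fix_condition p φ hφ =≫ pullback.fst p p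
  have h2 := fix_condition p φ hφ =≫ pullback.snd p p
  rw [Category.assoc, Category.assoc, pullback.lift_fst, pullback.lift_fst, Category.comp_id,
    Category.comp_id] at h1
  rw [Category.assoc, Category.assoc, pullback.lift_snd, pullback.lift_snd, Category.comp_id] at h2
  rw [h2, ← h1]

/-- the universal property of the fixed-point scheme -/
noncomputable def fixLift {T : Scheme.{u}} (t : T ⟶ Y) (ht : t ≫ φ = t) : T ⟶ FinFr.fixScheme p φ hφ :=
  pullback.lift t t (by
    apply pullback.hom_ext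
    · rw [Category.assoc, Category.assoc, pullback.lift_fst, pullback.lift_fst]
    · rw [Category.assoc, Category.assoc, pullback.lift_snd, pullback.lift_snd, ht, Category.comp_id])

@[simp] theorem fixLift_ι {T : Scheme.{u}} (t : T ⟶ Y) (ht : t ≫ φ = t) :
    fixLift p φ hφ t ht ≫ fixι p φ hφ = t := pullback.lift_fst _ _ _

instance : Mono (fixι p φ hφ) := by
  unfold fixι
  haveI : Mono (pullback.lift (𝟙 Y) (𝟙 Y) rfl : Y ⟶ pullback p p) :=
    mono_of_mono_fac (pullback.lift_fst _ _ _ : _ ≫ pullback.fst p p = 𝟙 Y)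
  exact pullback.fst_of_mono

end Fix



section Frob

variable {k : Type u} [Field k] [Finite k] {X : Scheme.{u}} (f : X ⟶ Spec (CommRingCat.of k))
  (FX : X ⟶ X) (hle : ∀ U : X.Opens, U ≤ FX ⁻¹ᵁ U)
  (hFapp : ∀ (U : X.Opens) (s : Γ(X, U)), (FX.appLE U U (hle U)).hom s = s ^ Nat.card k)

theorem pow_card_ΓSpec (c : Γ(Spec (CommRingCat.of k), ⊤)) : c ^ Nat.card k = c := by
  haveI := Fintype.ofFinite k
  let e₁ : Γ(Spec (CommRingCat.of k), ⊤) ≃+* k :=
    (Scheme.ΓSpecIso (CommRingCat.of k)).commRingCatIsoToRingEquiv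
  apply e₁.injective
  rw [map_pow, Nat.card_eq_fintype_card, FiniteField.pow_card]

include hFapp in
theorem frob_comp : FX ≫ f = f := by
  apply ext_of_isAffine
  rw [Scheme.Hom.comp_appTop]
  ext c
  have h1 := hFapp ⊤ (f.appTop.hom c)
  have h2 : (FX.appLE ⊤ ⊤ (hle ⊤)) = FX.appTop := by
    simp [Scheme.Hom.appLE, Scheme.Hom.appTop]
  rw [h2] at h1
  change FX.appTop.hom (f.appTop.hom c) = f.appTop.hom c
  rw [h1, ← map_pow, pow_card_ΓSpec]

include hFapp in
/-- all sections of the structure sheaf of a scheme `T` with `g : T ⟶ X` an immersion-like map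
(surjective on stalks) equalising `FX` and `𝟙` satisfy `r ^ q = r` -/
theorem section_pow_eq {T : Scheme.{u}} (g : T ⟶ X) [SurjectiveOnStalks g] (hg : g ≫ FX = g)
    (V : T.Opens) (r : Γ(T, V)) : r ^ Nat.card k = r := by
  apply TopCat.Presheaf.section_ext T.sheaf V
  intro t ht
  change T.presheaf.germ V t ht (r ^ Nat.card k) = T.presheaf.germ V t ht r
  rw [map_pow]
  obtain ⟨y, hy⟩ := g.stalkMap_surjective t (T.presheaf.germ V t ht r)
  obtain ⟨U, hxU, s, rfl⟩ := X.presheaf.exists_germ_eq y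
  rw [Scheme.Hom.germ_stalkMap_apply] at hy
  have h1 := app_pow_eq FX (Nat.card k) hle hFapp g hg U s
  have h2 := congrArg (T.presheaf.germ (g ⁻¹ᵁ U) t hxU) h1
  rw [map_pow, hy] at h2
  exact h2

end Frob



section Ring

variable {R : Type*} [CommRing R] (q : ℕ) (hq : 2 ≤ q) (hR : ∀ r : R, r ^ q = r)

include hq hR in
theorem isReduced_of_pow_eq : IsReduced R := by
  constructor
  rintro r ⟨n, hn⟩
  have h1 : ∀ m : ℕ, r ^ (q ^ m) = r := by
    intro m
    induction m with
    | zero => simp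
    | succ m ih => rw [pow_succ, pow_mul, ih, hR]
  have h2 : n ≤ q ^ n := (Nat.lt_pow_self (by omega)).le
  rw [← h1 n, ← Nat.sub_add_cancel h2, pow_add, hn, mul_zero]

include hq hR in
theorem isMaximal_of_isPrime_of_pow_eq (p : Ideal R) [p.IsPrime] : p.IsMaximal := by
  apply Ideal.Quotient.maximal_of_isField
  refine ⟨⟨0, 1, zero_ne_one⟩, mul_comm, ?_⟩
  intro x hx
  obtain ⟨r, rfl⟩ := Ideal.Quotient.mk_surjective x
  refine ⟨Ideal.Quotient.mk p (r ^ (q - 2)), ?_⟩
  have h1 : Ideal.Quotient.mk p r * (Ideal.Quotient.mk p r * Ideal.Quotient.mk p (r ^ (q - 2)) - 1) = 0 := by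
    rw [← map_mul, ← map_one (Ideal.Quotient.mk p), ← map_sub, ← map_mul]
    have : r * (r * r ^ (q - 2) - 1) = r ^ q - r := by
      have : q = (q - 2) + 2 := by omega
      conv_rhs => rw [this]
      ring
    rw [this, hR, sub_self, map_zero]
  rcases mul_eq_zero.mp h1 with h | h
  · exact absurd h hx
  · exact sub_eq_zero.mp h

include hq hR in
theorem finite_discrete_of_pow_eq [IsNoetherianRing R] :
    Finite (PrimeSpectrum R) ∧ DiscreteTopology (PrimeSpectrum R) := by
  haveI : Ring.KrullDimLE 0 R := by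
    rw [Ring.krullDimLE_zero_iff]
    intro p hp
    exact isMaximal_of_isPrime_of_pow_eq q hq hR p
  haveI : IsArtinianRing R := isArtinianRing_iff_krullDimLE_zero.mpr inferInstance
  exact ⟨inferInstance, inferInstance⟩

include hq hR in
/-- a ring with `r ^ q = r` for all `r` and a unique prime ideal receives a bijection from any field
with `q` elements -/
theorem bijective_of_pow_eq_of_subsingleton {k : Type*} [Field k] [Fintype k]
    (hk : Fintype.card k = q) [Nonempty (PrimeSpectrum R)] [Subsingleton (PrimeSpectrum R)]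
    (φ : k →+* R) : Function.Bijective φ := by
  haveI := isReduced_of_pow_eq q hq hR
  obtain ⟨P⟩ := (inferInstance : Nonempty (PrimeSpectrum R))
  have hP : P.asIdeal = ⊥ := by
    have h1 : nilradical R = ⊥ := nilradical_eq_zero R
    rw [nilradical_eq_sInf] at h1
    apply le_antisymm _ bot_le
    rw [← h1]
    apply le_sInf
    intro J hJ
    have : (⟨J, hJ⟩ : PrimeSpectrum R) = P := Subsingleton.elim _ _
    rw [← this]
  haveI : IsDomain R := by
    have hpr := P.isPrime
    rw [hP] at hpr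
    haveI : Nontrivial R := PrimeSpectrum.nonempty_iff_nontrivial.mp ⟨P⟩
    haveI : NoZeroDivisors R := ⟨fun {a b} hab => by
      have := hpr.mem_or_mem (show a * b ∈ (⊥ : Ideal R) by rw [hab]; exact Ideal.zero_mem _)
      simpa using this⟩
    exact NoZeroDivisors.to_isDomain R
  refine ⟨φ.injective, ?_⟩
  intro r
  have hprod : ((Finset.univ : Finset k).val.map fun a => (X - C a : k[X])).prod = X ^ q - X := by
    have hmon : (X ^ q - X : k[X]).Monic := monic_X_pow_sub (by rw [degree_X]; exact_mod_cast (by omega : 1 < q))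
    have hroots : (X ^ q - X : k[X]).roots = Finset.univ.val := by
      rw [← hk]; exact FiniteField.roots_X_pow_card_sub_X k
    have := Polynomial.prod_multiset_X_sub_C_of_monic_of_roots_card_eq hmon (by
      rw [hroots, FiniteField.X_pow_card_sub_X_natDegree_eq k (by omega : 1 < q)]
      simp [hk])
    rw [hroots] at this
    exact this
  have h2 := congrArg (fun P => (P.map φ).eval r) hprod
  simp only [Polynomial.map_multiset_prod, Multiset.map_map, Function.comp, Polynomial.map_sub,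
    Polynomial.map_X, Polynomial.map_C, Polynomial.eval_multiset_prod, eval_sub, eval_X, eval_C,
    Polynomial.map_pow, eval_pow, hR, sub_self] at h2
  rw [Multiset.prod_eq_zero_iff] at h2
  obtain ⟨c, -, hc⟩ := Multiset.mem_map.mp h2
  exact ⟨c, (sub_eq_zero.mp hc).symm⟩

end Ring



section Disc

variable {T : Scheme.{u}} [IsLocallyNoetherian T] (q : ℕ) (hq : 2 ≤ q)
  (hT : ∀ (V : T.Opens) (r : Γ(T, V)), r ^ q = r)

include hq hT in
theorem isOpen_singleton (e : T) : IsOpen ({e} : Set T) := by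
  obtain ⟨_, ⟨V, hV, rfl⟩, heV, -⟩ :=
    T.isBasis_affineOpens.exists_subset_of_mem_open (Set.mem_univ e) isOpen_univ
  haveI : IsNoetherianRing Γ(T, V) := IsLocallyNoetherian.component_noetherian ⟨V, hV⟩
  obtain ⟨-, hdisc⟩ := finite_discrete_of_pow_eq q hq (hT V)
  have hhomeo : ↥(V : Set T) ≃ₜ PrimeSpectrum Γ(T, V) := Scheme.homeoOfIso hV.isoSpec
  haveI := hdisc
  haveI : DiscreteTopology ↥(V : Set T) := hhomeo.isEmbedding.discreteTopology
  have h1 : IsOpen ({⟨e, heV⟩} : Set ↥(V : Set T)) := isOpen_discrete _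
  have h2 := V.isOpen.isOpenMap_subtype_val _ h1
  simpa using h2

omit [IsLocallyNoetherian T] in
theorem isAffineOpen_of_eq_singleton (U : T.Opens) (e : T) (hUe : (U : Set T) = {e}) :
    IsAffineOpen U := by
  obtain ⟨_, ⟨V, hV, rfl⟩, heV, -⟩ :=
    T.isBasis_affineOpens.exists_subset_of_mem_open (Set.mem_univ e) isOpen_univ
  have heU : e ∈ U := by
    change e ∈ (U : Set T)
    rw [hUe]; rfl
  obtain ⟨g, hg1, hg2⟩ := hV.exists_basicOpen_le (V := U) ⟨e, heU⟩ heV
  have : T.basicOpen g = U := by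
    apply le_antisymm hg1
    intro z hz
    have hz' : z ∈ ({e} : Set T) := by rw [← hUe]; exact hz
    have : z = e := hz'
    rw [this]; exact hg2
  rw [← this]
  exact hV.basicOpen g

include hq hT in
theorem isIso_ι_comp_of_eq_singleton {k : Type u} [Field k] [Finite k] (hk : Nat.card k = q)
    (h : T ⟶ Spec (CommRingCat.of k)) (U : T.Opens) (e : T) (hUe : (U : Set T) = {e}) :
    IsIso (U.ι ≫ h) := by
  have hU := isAffineOpen_of_eq_singleton U e hUe
  haveI : IsAffine U.toScheme := hU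
  haveI := Fintype.ofFinite k
  have hk' : Fintype.card k = q := by rw [← hk, Nat.card_eq_fintype_card]
  have hhomeo : ↥(U.toScheme) ≃ₜ PrimeSpectrum Γ(U.toScheme, ⊤) :=
    Scheme.homeoOfIso U.toScheme.isoSpec
  haveI : Subsingleton ↥(U.toScheme) := by
    constructor
    rintro ⟨a, ha⟩ ⟨b, hb⟩
    have ha' : a ∈ ({e} : Set T) := by rw [← hUe]; exact ha
    have hb' : b ∈ ({e} : Set T) := by rw [← hUe]; exact hb
    exact Subtype.ext ((ha' : a = e).trans (hb' : b = e).symm)
  haveI : Nonempty ↥(U.toScheme) := ⟨⟨e, by change e ∈ (U : Set T); rw [hUe]; rfl⟩⟩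
  haveI : Subsingleton (PrimeSpectrum Γ(U.toScheme, ⊤)) := hhomeo.symm.injective.subsingleton
  haveI : Nonempty (PrimeSpectrum Γ(U.toScheme, ⊤)) := ⟨hhomeo (Classical.arbitrary _)⟩
  have hR : ∀ r : Γ(U.toScheme, ⊤), r ^ q = r := fun r => hT (U.ι ''ᵁ ⊤) r
  let φ : k →+* Γ(U.toScheme, ⊤) :=
    ((Scheme.ΓSpecIso (CommRingCat.of k)).inv ≫ (U.ι ≫ h).appTop).hom
  have hφ : Function.Bijective φ := bijective_of_pow_eq_of_subsingleton q hq hR hk' φ
  have happ : IsIso (U.ι ≫ h).appTop := by
    have h1 : IsIso ((Scheme.ΓSpecIso (CommRingCat.of k)).inv ≫ (U.ι ≫ h).appTop) := by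
      rw [ConcreteCategory.isIso_iff_bijective]
      exact hφ
    exact IsIso.of_isIso_comp_left (Scheme.ΓSpecIso (CommRingCat.of k)).inv _
  exact (HasAffineProperty.iff_of_isAffine (P := MorphismProperty.isomorphisms Scheme)).mpr
    ⟨inferInstance, happ⟩

end Disc



section BC

variable {k : Type u} [Field k] (K : Type u) [Field K] [Algebra k K] {X : Scheme.{u}}
  (f : X ⟶ Spec (CommRingCat.of k)) (FX : X ⟶ X) (hFXf : FX ≫ f = f)
  (F : FinFr.ext K f ⟶ FinFr.ext K f)
  (hF1 : F ≫ FinFr.extπ K f = FinFr.extπ K f ≫ FX)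
  (hF2 : F ≫ FinFr.extStr K f = FinFr.extStr K f)

include hF1 in
theorem fixι_π_comp : (fixι (FinFr.extStr K f) F hF2 ≫ FinFr.extπ K f) ≫ FX =
    fixι (FinFr.extStr K f) F hF2 ≫ FinFr.extπ K f := by
  rw [Category.assoc, ← hF1, ← Category.assoc, fixι_comp]

/-- the projection from the fixed points of `F = FX × id` to the fixed points of `FX` -/
noncomputable def fixProj : FinFr.fixScheme (FinFr.extStr K f) F hF2 ⟶ FinFr.fixScheme f FX hFXf :=
  fixLift f FX hFXf (fixι (FinFr.extStr K f) F hF2 ≫ FinFr.extπ K f) (fixι_π_comp K f FX F hF1 hF2)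

theorem fixProj_ι : fixProj K f FX hFXf F hF1 hF2 ≫ fixι f FX hFXf =
    fixι (FinFr.extStr K f) F hF2 ≫ FinFr.extπ K f := fixLift_ι _ _ _ _ _

theorem isPullback_fixProj :
    IsPullback (fixProj K f FX hFXf F hF1 hF2) (fixι (FinFr.extStr K f) F hF2 ≫ FinFr.extStr K f)
      (fixι f FX hFXf ≫ f) (FinFr.specι k K) := by
  have comm : fixProj K f FX hFXf F hF1 hF2 ≫ fixι f FX hFXf ≫ f =
      (fixι (FinFr.extStr K f) F hF2 ≫ FinFr.extStr K f) ≫ FinFr.specι k K := by
    rw [← Category.assoc, fixProj_ι, Category.assoc, Category.assoc]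
    congr 1
    exact pullback.condition
  -- the lift
  have hlift : ∀ s : PullbackCone (fixι f FX hFXf ≫ f) (FinFr.specι k K),
      ∃ t : s.pt ⟶ FinFr.ext K f, t ≫ FinFr.extπ K f = s.fst ≫ fixι f FX hFXf ∧
        t ≫ FinFr.extStr K f = s.snd ∧ t ≫ F = t := by
    intro s
    have hc : (s.fst ≫ fixι f FX hFXf) ≫ f = s.snd ≫ FinFr.specι k K := by
      rw [Category.assoc]; exact s.condition
    refine ⟨pullback.lift _ _ hc, pullback.lift_fst _ _ _, pullback.lift_snd _ _ _, ?_⟩
    apply pullback.hom_ext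
    · change (_ ≫ F) ≫ FinFr.extπ K f = _ ≫ FinFr.extπ K f
      rw [Category.assoc, hF1, ← Category.assoc]
      change (pullback.lift _ _ hc ≫ pullback.fst _ _) ≫ FX = pullback.lift _ _ hc ≫ pullback.fst _ _
      rw [pullback.lift_fst, Category.assoc, fixι_comp]
    · change (_ ≫ F) ≫ FinFr.extStr K f = _ ≫ FinFr.extStr K f
      rw [Category.assoc, hF2]
  choose t ht1 ht2 ht3 using hlift
  refine ⟨⟨comm⟩, ⟨PullbackCone.IsLimit.mk comm
    (fun s => fixLift (FinFr.extStr K f) F hF2 (t s) (ht3 s)) ?_ ?_ ?_⟩⟩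
  · intro s
    rw [← cancel_mono (fixι f FX hFXf), Category.assoc, fixProj_ι, ← Category.assoc, fixLift_ι, ht1]
  · intro s
    rw [← Category.assoc, fixLift_ι, ht2]
  · intro s m hm1 hm2
    rw [← cancel_mono (fixι (FinFr.extStr K f) F hF2), fixLift_ι]
    apply pullback.hom_ext
    · change (m ≫ _) ≫ FinFr.extπ K f = t s ≫ FinFr.extπ K f
      rw [ht1, ← hm1, Category.assoc, Category.assoc, fixProj_ι]
    · change (m ≫ _) ≫ FinFr.extStr K f = t s ≫ FinFr.extStr K f
      rw [ht2, ← hm2, Category.assoc]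

end BC



section Main

variable {k : Type u} [Field k] [Finite k] (K : Type u) [Field K] [Algebra k K] {X : Scheme.{u}}
  (f : X ⟶ Spec (CommRingCat.of k)) [IsLocallyNoetherian X] (FX : X ⟶ X)
  (hle : ∀ U : X.Opens, U ≤ FX ⁻¹ᵁ U)
  (hFapp : ∀ (U : X.Opens) (s : Γ(X, U)), (FX.appLE U U (hle U)).hom s = s ^ Nat.card k)
  (F : FinFr.ext K f ⟶ FinFr.ext K f)
  (hF1 : F ≫ FinFr.extπ K f = FinFr.extπ K f ≫ FX)
  (hF2 : F ≫ FinFr.extStr K f = FinFr.extStr K f)

include hFapp hF1 in
theorem main :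
    IsReduced (FinFr.fixScheme (FinFr.extStr K f) F hF2) ∧
      (CompactSpace X → Finite ↥(FinFr.fixScheme (FinFr.extStr K f) F hF2)) := by
  have hFXf : FX ≫ f = f := frob_comp f FX hle hFapp
  have hq : 2 ≤ Nat.card k := by
    haveI := Fintype.ofFinite k
    rw [Nat.card_eq_fintype_card]
    exact Fintype.one_lt_card
  -- the fixed points `E` of `FX`
  haveI : IsLocallyNoetherian (FinFr.fixScheme f FX hFXf) :=
    LocallyOfFiniteType.isLocallyNoetherian (fixι f FX hFXf)
  have hT : ∀ (V : (FinFr.fixScheme f FX hFXf).Opens) (r : Γ(FinFr.fixScheme f FX hFXf, V)),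
      r ^ Nat.card k = r :=
    section_pow_eq FX hle hFapp (fixι f FX hFXf) (fixι_comp f FX hFXf)
  have hopen : ∀ e : ↥(FinFr.fixScheme f FX hFXf), IsOpen ({e} : Set ↥(FinFr.fixScheme f FX hFXf)) :=
    isOpen_singleton (Nat.card k) hq hT
  let U : ↥(FinFr.fixScheme f FX hFXf) → (FinFr.fixScheme f FX hFXf).Opens := fun e => ⟨{e}, hopen e⟩
  let p := fixProj K f FX hFXf F hF1 hF2
  have hiso : ∀ e, IsIso ((p ⁻¹ᵁ U e).ι ≫ fixι (FinFr.extStr K f) F hF2 ≫ FinFr.extStr K f) := by
    intro e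
    haveI : IsIso ((U e).ι ≫ fixι f FX hFXf ≫ f) :=
      isIso_ι_comp_of_eq_singleton (Nat.card k) hq hT rfl (fixι f FX hFXf ≫ f) (U e) e rfl
    exact ((isPullback_morphismRestrict p (U e)).paste_vert
      (isPullback_fixProj K f FX hFXf F hF1 hF2)).isIso_snd_of_isIso
  have hcov : IsOpenCover (fun e => p ⁻¹ᵁ U e) := by
    apply IsOpenCover.mk
    ext z
    simp only [Opens.coe_iSup, Set.mem_iUnion, SetLike.mem_coe, Opens.coe_top, Set.mem_univ, iff_true]
    exact ⟨p z, rfl⟩
  have hsub : ∀ e, Subsingleton ↥(p ⁻¹ᵁ U e) := by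
    intro e
    haveI := hiso e
    have hh : ↥((p ⁻¹ᵁ U e).toScheme) ≃ₜ ↥(Spec (CommRingCat.of K)) :=
      Scheme.homeoOfIso (asIso ((p ⁻¹ᵁ U e).ι ≫ fixι (FinFr.extStr K f) F hF2 ≫ FinFr.extStr K f))
    haveI : Subsingleton ↥(Spec (CommRingCat.of K)) :=
      inferInstanceAs (Subsingleton (PrimeSpectrum K))
    exact hh.injective.subsingleton
  have hinj : Function.Injective p := by
    intro z z' hzz
    have h1 : z ∈ p ⁻¹ᵁ U (p z) := rfl
    have h2 : z' ∈ p ⁻¹ᵁ U (p z) := hzz.symm
    have := (hsub (p z)).elim ⟨z, h1⟩ ⟨z', h2⟩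
    exact congrArg Subtype.val this
  constructor
  · haveI : ∀ e, AlgebraicGeometry.IsReduced
        (((FinFr.fixScheme (FinFr.extStr K f) F hF2).openCoverOfIsOpenCover _ hcov).X e) := by
      intro e
      have h1 := hiso e
      haveI : IsOpenImmersion
          ((p ⁻¹ᵁ U e).ι ≫ fixι (FinFr.extStr K f) F hF2 ≫ FinFr.extStr K f) :=
        @IsOpenImmersion.of_isIso _ _ _ h1
      change AlgebraicGeometry.IsReduced (p ⁻¹ᵁ U e).toScheme
      exact isReduced_of_isOpenImmersion
        ((p ⁻¹ᵁ U e).ι ≫ fixι (FinFr.extStr K f) F hF2 ≫ FinFr.extStr K f)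
    exact IsReduced.of_openCover _
      ((FinFr.fixScheme (FinFr.extStr K f) F hF2).openCoverOfIsOpenCover _ hcov)
  · intro hc
    haveI : IsNoetherian X := {}
    haveI : NoetherianSpace ↥X := inferInstance
    haveI : NoetherianSpace ↥(FinFr.fixScheme f FX hFXf) :=
      (fixι f FX hFXf).isEmbedding.isInducing.noetherianSpace
    haveI : DiscreteTopology ↥(FinFr.fixScheme f FX hFXf) := discreteTopology_iff_isOpen_singleton.mpr hopen
    haveI : Finite ↥(FinFr.fixScheme f FX hFXf) := finite_of_compact_of_discrete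
    exact Finite.of_injective _ hinj

end Main

end Groth.Agent.Lib.R2H4FrobFix
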