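import Mathlib
import Groth.Prelude
import Groth.Agent.Lib.R2H4HiGrowth
import Groth.Agent.Lib.R2H4HhatLim
import Groth.Agent.Lib.R2H2RegComplex

/-!
# The top asymptotic cohomological function of a big invertible module (helper4, round 2)

On an integral scheme `X` of dimension `n ≥ 1`, proper over a field and carrying an ample invertible
module: if an ample `B` embeds into a positive power `L^p`, then `hⁿ(X, L^m) = 0` for all large `m`
(`hn_eventually_zero`); hence `ĥⁿ(X, L) = 0` for big `L` (`hhat_top_eq_zero`).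
-/

set_option autoImplicit false
set_option linter.style.haveILetI false
set_option linter.unusedSectionVars false
universe u
open CategoryTheory CategoryTheory.Limits AlgebraicGeometry TopologicalSpace Filter Topology

noncomputable section

namespace Groth.Agent.Lib.R2H4HhatTop

open Groth.Agent.Lib.R2H4TensorPows Groth.Agent.Lib.R2H4HiGrowth Groth.Agent.Lib.R2H4HhatLim
  Groth.Agent.Lib.R2H2.PnSerre Groth.Agent.Lib.R2H2.DevA

variable (k : Type u) [Field k] {X : Scheme.{u}} [X.Over (Spec (CommRingCat.of k))]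
  [IsProper (X ↘ (Spec (CommRingCat.of k)))]

include k in
/-- the cokernel of a monomorphism of invertible modules on an integral scheme has support of
smaller dimension -/
theorem dim_support_cokernel_lt' [IsIntegral X] (P N : X.Modules) (hP : PicF.IsInvertible P)
    (hN : PicF.IsInvertible N) (ψ : P ⟶ N) [Mono ψ] :
    topologicalKrullDim (CohB1.support (cokernel ψ)) < topologicalKrullDim X := by
  obtain ⟨P', hP', ⟨e⟩⟩ := Groth.Agent.Lib.R2H1.InvExists.exists_inverse P hP
  let S : ShortComplex X.Modules := ShortComplex.mk ψ (cokernel.π ψ) (cokernel.condition ψ)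
  have hS : S.ShortExact :=
    { exact := ShortComplex.exact_cokernel ψ
      mono_f := by dsimp [S]; infer_instance
      epi_g := by dsimp [S]; infer_instance }
  have hS' := shortExact_map_twR P' hP' S hS
  let ψ' : CohB1.tensorMod P P' ⟶ CohB1.tensorMod N P' := (twR P').map ψ
  let π' : CohB1.tensorMod N P' ⟶ CohB1.tensorMod (cokernel ψ) P' :=
    (twR P').map (cokernel.π ψ)
  haveI hm : Mono ψ' := hS'.mono_f
  haveI he : Epi π' := hS'.epi_g
  have hψπ : ψ' ≫ π' = 0 := by
    change (twR P').map ψ ≫ (twR P').map (cokernel.π ψ) = 0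
    rw [← Functor.map_comp, cokernel.condition, Functor.map_zero]
  have hNP' : PicF.IsInvertible (CohB1.tensorMod N P') :=
    Groth.Agent.Lib.Helper23.SecTw.isInvertible_tensorMod hN hP'
  let s : Coh.structureModule X ⟶ CohB1.tensorMod N P' := e.inv ≫ ψ'
  haveI : Mono s := mono_comp _ _
  have hs : s ≠ 0 := by
    intro h0
    have hz : IsZero (Coh.structureModule X) := IsZero.of_mono_eq_zero s h0
    have h1 := support_of_isZero hz
    rw [Groth.Agent.Lib.R2H4AmpleSection.support_of_isInvertible _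
      (Groth.Agent.Lib.Helper23.TensorUnit.isInvertible_structureModule X)] at h1
    obtain ⟨x⟩ := (inferInstance : Nonempty X)
    exact Set.notMem_empty x (h1 ▸ Set.mem_univ x)
  have hdim := Groth.Agent.Lib.R2H4VolBig.dim_support_cokernel_lt k _ hNP' s hs
  -- an epimorphism from the cokernel of `s`
  have hw : s ≫ π' = 0 := by
    change (e.inv ≫ ψ') ≫ π' = 0
    rw [Category.assoc, hψπ, comp_zero]
  let q : cokernel s ⟶ CohB1.tensorMod (cokernel ψ) P' := cokernel.desc s π' hw
  haveI : Epi q := by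
    have hfac : cokernel.π s ≫ q = π' := cokernel.π_desc _ _ _
    haveI : Epi (cokernel.π s ≫ q) := by rw [hfac]; exact he
    exact epi_of_epi (cokernel.π s) q
  have h1 : CohB1.support (CohB1.tensorMod (cokernel ψ) P') ⊆ CohB1.support (cokernel s) :=
    support_subset_of_epi q
  have eQ : cokernel ψ ≅ CohB1.tensorMod (CohB1.tensorMod (cokernel ψ) P') P :=
    ((tAssoc _ _ _) ≪≫ tIso (Iso.refl _) (tComm P' P ≪≫ e) ≪≫ rUnit _).symm
  have h2 : CohB1.support (cokernel ψ) ⊆ CohB1.support (CohB1.tensorMod (cokernel ψ) P') := by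
    rw [Groth.Agent.Lib.H6xSuppPush.support_eq_of_iso eQ]
    exact Groth.Agent.Lib.R2H4Snapper.support_tensor_subset _ P hP
  exact lt_of_le_of_lt (Groth.Agent.Lib.R2H4H0Growth.dim_mono (h2.trans h1)) hdim

/-- Grothendieck vanishing in the form used below -/
theorem hi_eq_zero_of_dim_lt (F : X.Modules) (hF : Coh.IsCoh F) (n : ℕ)
    (hdim : topologicalKrullDim (CohB1.support F) < ((n : ℕ) : WithBot ℕ∞)) : hi k F n = 0 := by
  haveI := Groth.Agent.Lib.R2H1.CurveEuler.isNoetherian_of_proper k X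
  rcases Nat.eq_zero_or_pos n with h0 | h0
  · subst h0
    have hemp : CohB1.support F ⊆ ∅ := by
      intro x hx
      exfalso
      haveI : Nonempty (CohB1.support F) := ⟨⟨x, hx⟩⟩
      have h1 : (0 : WithBot ℕ∞) ≤ topologicalKrullDim (CohB1.support F) := by
        haveI : Nonempty (IrreducibleCloseds (CohB1.support F)) :=
          ⟨⟨closure {⟨x, hx⟩}, isIrreducible_singleton.closure, isClosed_closure⟩⟩
        exact Order.krullDim_nonneg
      exact absurd (lt_of_le_of_lt h1 hdim) (by simp)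
    exact hi_of_isZero k F (isZero_of_support_subset_empty F hemp) 0
  · obtain ⟨e, rfl⟩ : ∃ e, n = e + 1 := ⟨n - 1, by omega⟩
    have hle := Groth.Agent.Lib.R2H4Snapper.le_of_lt_succ' _ e hdim
    haveI := Groth.Agent.Lib.R2H2.RegComplex.subsingleton_HH_of_dim_support_le F hF e hle (e + 1)
      (Nat.lt_succ_self e)
    unfold hi
    rw [Module.finrank_zero_of_subsingleton]

/-- a monomorphism `B ↪ M` of invertible modules bounds the top cohomology of the powers of `M`
by that of the powers of `B` -/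
theorem hi_top_pow_le [IsIntegral X] (n : ℕ)
    (hn : topologicalKrullDim X = ((n : ℕ) : WithBot ℕ∞)) (B M : X.Modules)
    (hB : PicF.IsInvertible B) (hM : PicF.IsInvertible M) (φ : B ⟶ M) [Mono φ] :
    ∀ (q : ℕ) (T : X.Modules), PicF.IsInvertible T →
      hi k (CohB1.tensorMod (CohB1.tensorPow M q) T) n ≤
        hi k (CohB1.tensorMod (CohB1.tensorPow B q) T) n
  | 0, T, _ => le_rfl
  | q + 1, T, hT => by
    haveI := Groth.Agent.Lib.R2H1.CurveEuler.isNoetherian_of_proper k X
    have cB : Coh.IsCoh B := Groth.Agent.Lib.R2H4VolBasic.isCoh_of_isInvertible B hB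
    have cM : Coh.IsCoh M := Groth.Agent.Lib.R2H4VolBasic.isCoh_of_isInvertible M hM
    have cQ : Coh.IsCoh (cokernel φ) := Groth.Agent.Lib.R2H2.NilFilt.isCoh_cokernel cB cM φ
    let S : ShortComplex X.Modules := ShortComplex.mk φ (cokernel.π φ) (cokernel.condition φ)
    have hS : S.ShortExact :=
      { exact := ShortComplex.exact_cokernel φ
        mono_f := by dsimp [S]; infer_instance
        epi_g := by dsimp [S]; infer_instance }
    have hMq : PicF.IsInvertible (CohB1.tensorPow M q) :=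
      Groth.Agent.Lib.Helper23.SecTw.isInvertible_tensorPow hM q
    have hT' : PicF.IsInvertible (CohB1.tensorMod (CohB1.tensorPow M q) T) :=
      Groth.Agent.Lib.Helper23.SecTw.isInvertible_tensorMod hMq hT
    have h1 := hiT_mid_le k _ hT' S hS cB cM cQ n
    change hi k (CohB1.tensorMod M (CohB1.tensorMod (CohB1.tensorPow M q) T)) n ≤
      hi k (CohB1.tensorMod B (CohB1.tensorMod (CohB1.tensorPow M q) T)) n +
        hi k (CohB1.tensorMod (cokernel φ) (CohB1.tensorMod (CohB1.tensorPow M q) T)) n at h1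
    have hdimQ : topologicalKrullDim (CohB1.support (cokernel φ)) < ((n : ℕ) : WithBot ℕ∞) := by
      rw [← hn]
      exact dim_support_cokernel_lt' k B M hB hM φ
    have hz : hi k (CohB1.tensorMod (cokernel φ) (CohB1.tensorMod (CohB1.tensorPow M q) T)) n = 0 :=
      hi_eq_zero_of_dim_lt k _
        (Groth.Agent.Lib.R2H3.AmpleSV.isCoh_tensorMod_invertible _ _ cQ hT') n
        (lt_of_le_of_lt (Groth.Agent.Lib.R2H4H0Growth.dim_mono
          (Groth.Agent.Lib.R2H4Snapper.support_tensor_subset _ _ hT')) hdimQ)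
    have e₁ : hi k (CohB1.tensorMod (CohB1.tensorPow M (q + 1)) T) n =
        hi k (CohB1.tensorMod M (CohB1.tensorMod (CohB1.tensorPow M q) T)) n :=
      hi_congr k (tIso (tComm (CohB1.tensorPow M q) M) (Iso.refl T) ≪≫ tAssoc _ _ _) n
    have e₂ : hi k (CohB1.tensorMod B (CohB1.tensorMod (CohB1.tensorPow M q) T)) n =
        hi k (CohB1.tensorMod (CohB1.tensorPow M q) (CohB1.tensorMod B T)) n :=
      hi_congr k ((tAssoc _ _ _).symm ≪≫ tIso (tComm B (CohB1.tensorPow M q)) (Iso.refl T) ≪≫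
        tAssoc _ _ _) n
    have ih := hi_top_pow_le n hn B M hB hM φ q (CohB1.tensorMod B T)
      (Groth.Agent.Lib.Helper23.SecTw.isInvertible_tensorMod hB hT)
    have e₃ : hi k (CohB1.tensorMod (CohB1.tensorPow B q) (CohB1.tensorMod B T)) n =
        hi k (CohB1.tensorMod (CohB1.tensorPow B (q + 1)) T) n :=
      hi_congr k (tAssoc _ _ _).symm n
    omega

/-- if an ample module embeds into a positive power of `L`, the top cohomology of the large
powers of `L` vanishes -/
theorem hn_eventually_zero [IsIntegral X] (n : ℕ)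
    (hn : topologicalKrullDim X = ((n : ℕ) : WithBot ℕ∞)) (hn1 : 1 ≤ n) (L : X.Modules)
    (hL : PicF.IsInvertible L) (B : X.Modules) (hB : CohB1.IsAmple B) (p : ℕ) (hp : 0 < p)
    (φ : B ⟶ CohB1.tensorPow L p) [Mono φ] :
    ∃ m₀ : ℕ, ∀ m : ℕ, m₀ ≤ m → hi k (CohB1.tensorPow L m) n = 0 := by
  haveI := Groth.Agent.Lib.R2H1.CurveEuler.isNoetherian_of_proper k X
  have hLr : ∀ r, PicF.IsInvertible (CohB1.tensorPow L r) := fun r =>
    Groth.Agent.Lib.Helper23.SecTw.isInvertible_tensorPow hL r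
  choose q₀ hq₀ using fun r : ℕ => Groth.Agent.Lib.R2H3.AmpleSV.serre_vanishing_ample (A := k)
    (X ↘ Spec (CommRingCat.of k)) B hB (CohB1.tensorPow L r)
    (Groth.Agent.Lib.R2H4VolBasic.isCoh_of_isInvertible _ (hLr r))
  refine ⟨p * ∑ r ∈ Finset.range p, q₀ r, fun m hm => ?_⟩
  have hr : m % p < p := Nat.mod_lt m hp
  have hq : (∑ r ∈ Finset.range p, q₀ r) ≤ m / p := by
    rw [Nat.le_div_iff_mul_le hp, mul_comm]
    exact hm
  have hq' : q₀ (m % p) ≤ m / p :=
    (Finset.single_le_sum (f := q₀) (fun _ _ => Nat.zero_le _) (Finset.mem_range.2 hr)).trans hq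
  obtain ⟨eq⟩ := Groth.Agent.Lib.Helper23.SecTw.nonempty_tensorPow_tensorPow_iso L hL p (m / p)
    (p * (m / p)) rfl
  have hmq : p * (m / p) + m % p = m := Nat.div_add_mod m p
  have e1 : hi k (CohB1.tensorPow L m) n =
      hi k (CohB1.tensorMod (CohB1.tensorPow (CohB1.tensorPow L p) (m / p))
        (CohB1.tensorPow L (m % p))) n := by
    have e0 := Groth.Agent.Lib.R2H3.AmpleSV.tensorPowAdd L (p * (m / p)) (m % p)
    rw [hmq] at e0
    exact (hi_congr k (tIso eq (Iso.refl _) ≪≫ e0) n).symm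
  have h2 := hi_top_pow_le k n hn B (CohB1.tensorPow L p) hB.1 (hLr p) φ (m / p)
    (CohB1.tensorPow L (m % p)) (hLr _)
  have e3 : hi k (CohB1.tensorMod (CohB1.tensorPow B (m / p)) (CohB1.tensorPow L (m % p))) n =
      hi k (CohB1.tensorMod (CohB1.tensorPow L (m % p)) (CohB1.tensorPow B (m / p))) n :=
    hi_congr k (tComm _ _) n
  have h4 : hi k (CohB1.tensorMod (CohB1.tensorPow L (m % p)) (CohB1.tensorPow B (m / p))) n = 0 := by
    haveI := hq₀ (m % p) (m / p) hq' n hn1
    unfold hi
    rw [Module.finrank_zero_of_subsingleton]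
  omega

/-- **the top asymptotic cohomological function of a big invertible module vanishes** -/
theorem hhat_top_eq_zero [IsIntegral X] (H : X.Modules) (hH : CohB1.IsAmple H) (n : ℕ)
    (hn : topologicalKrullDim X = ((n : ℕ) : WithBot ℕ∞)) (hn1 : 1 ≤ n) (L : X.Modules)
    (hL : PicF.IsInvertible L) (hbig : 0 < W4c5asymptcohfn.hhat k X n 0 L) :
    W4c5asymptcohfn.hhat k X n n L = 0 := by
  have h1 : W4c5asymptcohfn.hhat k X n 0 L =
      limsup (nseq n (fun m => hi k (CohB1.tensorPow L m) 0)) atTop := rfl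
  have h2 : W4c5asymptcohfn.hhat k X n n L =
      limsup (nseq n (fun m => hi k (CohB1.tensorPow L m) n)) atTop := rfl
  rw [h1] at hbig
  -- a lower bound infinitely often
  have hcob : IsCoboundedUnder (· ≤ ·) atTop (nseq n (fun m => hi k (CohB1.tensorPow L m) 0)) :=
    isCoboundedUnder_le_of_eventually_le atTop (Eventually.of_forall (nseq_nonneg n _))
  obtain ⟨ℓ, hℓ⟩ : ∃ ℓ : ℝ, ℓ = limsup (nseq n (fun m => hi k (CohB1.tensorPow L m) 0)) atTop :=
    ⟨_, rfl⟩
  rw [← hℓ] at hbig
  have hfr : ∃ᶠ m : ℕ in atTop, ℓ / 2 < nseq n (fun m => hi k (CohB1.tensorPow L m) 0) m := by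
    refine frequently_lt_of_lt_limsup hcob ?_
    rw [← hℓ]
    exact half_lt_self hbig
  have hfac : (0 : ℝ) < (n.factorial : ℝ) := by exact_mod_cast Nat.factorial_pos n
  have hfreq : ∃ᶠ m : ℕ in atTop, (ℓ / 2 / (n.factorial : ℝ)) * (m : ℝ) ^ n ≤
      (Groth.Agent.Lib.R2H4H0Growth.h0 k (CohB1.tensorPow L m) : ℝ) := by
    refine hfr.mono fun m hm => ?_
    have hm' : ℓ / 2 < ((hi k (CohB1.tensorPow L m) 0 : ℕ) : ℝ) * (n.factorial : ℝ) / (m : ℝ) ^ n :=
      hm
    have hmn : (0 : ℝ) < (m : ℝ) ^ n := by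
      by_contra hcon
      have h0 : (m : ℝ) ^ n = 0 := le_antisymm (not_lt.1 hcon) (by positivity)
      rw [h0, div_zero] at hm'
      linarith
    rw [lt_div_iff₀ hmn] at hm'
    rw [div_mul_eq_mul_div, div_le_iff₀ hfac]
    exact hm'.le
  obtain ⟨B, hB, p, hp, φ, hφ, -⟩ := Groth.Agent.Lib.R2H4VolBig.exists_big_data k H hH n hn L hL
    (ℓ / 2 / (n.factorial : ℝ)) (by positivity) hfreq
  obtain ⟨m₀, hm₀⟩ := hn_eventually_zero k n hn hn1 L hL B hB p hp φ
  rw [h2]
  have hev : nseq n (fun m => hi k (CohB1.tensorPow L m) n) =ᶠ[atTop] fun _ => (0 : ℝ) := by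
    filter_upwards [eventually_ge_atTop m₀] with m hm
    change ((hi k (CohB1.tensorPow L m) n : ℕ) : ℝ) * (n.factorial : ℝ) / (m : ℝ) ^ n = 0
    rw [hm₀ m hm]
    simp
  rw [limsup_congr hev, limsup_const]

end Groth.Agent.Lib.R2H4HhatTop
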