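import Mathlib
import Groth.Prelude
import Groth.Agent.Lib.R2H4HiGrowth
import Groth.Agent.Lib.R2H4H0Growth
import Groth.Agent.Lib.R2H4GenRank
import Groth.Agent.Lib.R2H4RelGrowth
import Groth.Agent.Lib.R2H4HhatTop
import Groth.Agent.Lib.Helper23GG
import Groth.Agent.Lib.Helper23PB
import Groth.Agent.Lib.R2H2DevL

/-!
# Growth of `hⁱ(F ⊗ L^m)` for `L` generated by global sections (helper4, round 2)

`X` proper over a field `k` (no ample module assumed), `L` an invertible module such that every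
point lies in `X_t` for a global section `t` of `L` (`PtGen`), `F` coherent with `dim Supp F ≤ e`:
`h⁰(F ⊗ L^m) ≤ C (m + 1)^e` and, for `i ≥ 1`, `hⁱ(F ⊗ L^m) (m + 1) ≤ C (m + 1)^e` (`main`).
-/

set_option autoImplicit false
set_option linter.style.haveILetI false
set_option linter.unusedSectionVars false
universe u
open CategoryTheory CategoryTheory.Limits AlgebraicGeometry TopologicalSpace

noncomputable section

namespace Groth.Agent.Lib.R2H4GGGrowth

open Groth.Agent.Lib.R2H4HiGrowth Groth.Agent.Lib.R2H2.HHLin Groth.Agent.Lib.R2H2.PnSerre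
  Groth.Agent.Lib.R2H2.StalkPow Groth.Agent.Lib.R2H4TensorPows

section Basic

variable (k : Type u) [Field k] {X : Scheme.{u}} [X.Over (Spec (CommRingCat.of k))]
  [IsProper (X ↘ (Spec (CommRingCat.of k)))]

/-- every point lies in `X_t` for some global section `t` of `L` -/
def PtGen {X : Scheme.{u}} (L : X.Modules) : Prop :=
  ∀ x : X, ∃ t : Coh.structureModule X ⟶ L, x ∈ CohB1.genLocus L t

/-- the growth property: `h⁰ = O(m^e)` and `hⁱ = O(m^(e-1))` for `i ≥ 1` -/
def T (e : ℕ) (L F : X.Modules) : Prop :=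
  (∃ C : ℕ, ∀ m : ℕ, hi k (CohB1.tensorMod F (CohB1.tensorPow L m)) 0 ≤ C * (m + 1) ^ e) ∧
    ∀ i : ℕ, 1 ≤ i → ∃ C : ℕ, ∀ m : ℕ,
      hi k (CohB1.tensorMod F (CohB1.tensorPow L m)) i * (m + 1) ≤ C * (m + 1) ^ e

theorem T_zero (e : ℕ) (L M : X.Modules) (hM : IsZero M) : T k e L M := by
  have hz : ∀ m, IsZero (CohB1.tensorMod M (CohB1.tensorPow L m)) := fun m =>
    (twR (CohB1.tensorPow L m)).map_isZero hM
  refine ⟨⟨0, fun m => ?_⟩, fun i _ => ⟨0, fun m => ?_⟩⟩
  · rw [hi_of_isZero k _ (hz m) 0]; simp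
  · rw [hi_of_isZero k _ (hz m) i]; simp

theorem T_of_le (e : ℕ) (L : X.Modules) {F G : X.Modules}
    (h : ∀ m i, hi k (CohB1.tensorMod F (CohB1.tensorPow L m)) i ≤
      hi k (CohB1.tensorMod G (CohB1.tensorPow L m)) i) (hG : T k e L G) : T k e L F := by
  obtain ⟨⟨C, hC⟩, hp⟩ := hG
  refine ⟨⟨C, fun m => (h m 0).trans (hC m)⟩, fun i hi1 => ?_⟩
  obtain ⟨C', hC'⟩ := hp i hi1
  exact ⟨C', fun m => (Nat.mul_le_mul_right _ (h m i)).trans (hC' m)⟩

theorem T_of_iso (e : ℕ) (L : X.Modules) {F G : X.Modules} (φ : F ≅ G) (hG : T k e L G) :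
    T k e L F :=
  T_of_le k e L (fun m i => (hi_congr k ((twR (CohB1.tensorPow L m)).mapIso φ) i).le) hG

theorem T_ext (e : ℕ) (L : X.Modules) (hL : PicF.IsInvertible L) (S : ShortComplex X.Modules)
    (hS : S.ShortExact) (c₁ : Coh.IsCoh S.X₁) (c₂ : Coh.IsCoh S.X₂) (c₃ : Coh.IsCoh S.X₃)
    (h₁ : T k e L S.X₁) (h₃ : T k e L S.X₃) : T k e L S.X₂ := by
  have hE := fun m => Groth.Agent.Lib.Helper23.SecTw.isInvertible_tensorPow hL m
  obtain ⟨⟨C₁, hC₁⟩, hp₁⟩ := h₁
  obtain ⟨⟨C₃, hC₃⟩, hp₃⟩ := h₃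
  refine ⟨⟨C₁ + C₃, fun m => ?_⟩, fun i hi1 => ?_⟩
  · have h := hiT_mid_le k _ (hE m) S hS c₁ c₂ c₃ 0
    rw [add_mul]
    exact h.trans (Nat.add_le_add (hC₁ m) (hC₃ m))
  · obtain ⟨D₁, hD₁⟩ := hp₁ i hi1
    obtain ⟨D₃, hD₃⟩ := hp₃ i hi1
    refine ⟨D₁ + D₃, fun m => ?_⟩
    have h := hiT_mid_le k _ (hE m) S hS c₁ c₂ c₃ i
    calc hi k (CohB1.tensorMod S.X₂ (CohB1.tensorPow L m)) i * (m + 1)
        ≤ (hi k (CohB1.tensorMod S.X₁ (CohB1.tensorPow L m)) i +
          hi k (CohB1.tensorMod S.X₃ (CohB1.tensorPow L m)) i) * (m + 1) :=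
          Nat.mul_le_mul_right _ h
      _ ≤ (D₁ + D₃) * (m + 1) ^ e := by
          rw [add_mul, add_mul]
          exact Nat.add_le_add (hD₁ m) (hD₃ m)

theorem T_root (e : ℕ) (L : X.Modules) (hL : PicF.IsInvertible L) (F : X.Modules) (r : ℕ)
    (hF : Coh.IsCoh F) (h : T k e L (pow F (r + 1))) : T k e L F := by
  refine T_of_le k e L (fun m i => ?_) h
  have h1 := Groth.Agent.Lib.R2H4GenRank.hi_functor_pow k (twR (CohB1.tensorPow L m)) F
    (fun M hM => Groth.Agent.Lib.R2H3.AmpleSV.isCoh_tensorMod_invertible _ _ hM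
      (Groth.Agent.Lib.Helper23.SecTw.isInvertible_tensorPow hL m)) hF i (r + 1)
  change hi k (CohB1.tensorMod (pow F (r + 1)) (CohB1.tensorPow L m)) i =
    (r + 1) * hi k (CohB1.tensorMod F (CohB1.tensorPow L m)) i at h1
  rw [h1]
  exact Nat.le_mul_of_pos_left _ (Nat.succ_pos r)

theorem T_mono_e {e e' : ℕ} (hee : e ≤ e') (L F : X.Modules) (h : T k e L F) : T k e' L F := by
  obtain ⟨⟨C, hC⟩, hp⟩ := h
  have hpow : ∀ m : ℕ, (m + 1) ^ e ≤ (m + 1) ^ e' := fun m =>
    Nat.pow_le_pow_right (Nat.succ_pos m) hee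
  refine ⟨⟨C, fun m => (hC m).trans (Nat.mul_le_mul_left _ (hpow m))⟩, fun i hi1 => ?_⟩
  obtain ⟨C', hC'⟩ := hp i hi1
  exact ⟨C', fun m => (hC' m).trans (Nat.mul_le_mul_left _ (hpow m))⟩

end Basic

section Push

variable (k : Type u) [Field k] {W X : Scheme.{u}} [X.Over (Spec (CommRingCat.of k))]
  [IsProper (X ↘ (Spec (CommRingCat.of k)))] [W.Over (Spec (CommRingCat.of k))]
  [IsProper (W ↘ (Spec (CommRingCat.of k)))]

/-- the growth property passes to pushforwards along affine morphisms -/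
theorem T_push (g : W ⟶ X) [IsAffineHom g]
    (hg : g ≫ (X ↘ Spec (CommRingCat.of k)) = W ↘ Spec (CommRingCat.of k))
    (e : ℕ) (L : X.Modules) (hL : PicF.IsInvertible L) (N : W.Modules) (hN : Coh.IsCoh N)
    (h : T k e ((Scheme.Modules.pullback g).obj L) N) :
    T k e L ((Scheme.Modules.pushforward g).obj N) := by
  obtain ⟨⟨C, hC⟩, hp⟩ := h
  refine ⟨⟨C, fun m => ?_⟩, fun i hi1 => ?_⟩
  · rw [hi_push_twist k g hg L hL N hN m 0]
    exact hC m
  · obtain ⟨C', hC'⟩ := hp i hi1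
    refine ⟨C', fun m => ?_⟩
    rw [hi_push_twist k g hg L hL N hN m i]
    exact hC' m

/-- pointwise generation passes to pullbacks -/
theorem ptGen_pullback {W X : Scheme.{u}} (g : W ⟶ X) (L : X.Modules) (hL : PicF.IsInvertible L)
    (h : PtGen L) : PtGen ((Scheme.Modules.pullback g).obj L) := by
  intro w
  obtain ⟨t, ht⟩ := h (g.base w)
  refine ⟨(Groth.Agent.Lib.Helper23.PB.pullbackUnitIso g).symm.hom ≫
      (Scheme.Modules.pullback g).map t, ?_⟩
  rw [Groth.Agent.Lib.Helper23.PB.genLocus_pullback g L hL t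
    (Groth.Agent.Lib.Helper23.PB.pullbackUnitIso g).symm]
  exact ht

end Push

section Induction

open Groth.Agent.Lib.R2H2.FinPush Groth.Agent.Lib.R2H3.AmpleFinite

variable (k : Type u) [Field k]

/-- the statement of the induction -/
def Claim (e : ℕ) : Prop :=
  ∀ (X : Scheme.{u}) [X.Over (Spec (CommRingCat.of k))]
    [IsProper (X ↘ Spec (CommRingCat.of k))] (L : X.Modules), PicF.IsInvertible L → PtGen L →
    ∀ F : X.Modules, Coh.IsCoh F →
      topologicalKrullDim (CohB1.support F) ≤ ((e : ℕ) : WithBot ℕ∞) → T k e L F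

/-- consequences of the induction hypothesis for modules with small support -/
theorem small (e : ℕ) (ih : ∀ e' : ℕ, e' < e → Claim k e')
    {X : Scheme.{u}} [X.Over (Spec (CommRingCat.of k))]
    [IsProper (X ↘ Spec (CommRingCat.of k))] (L : X.Modules) (hL : PicF.IsInvertible L)
    (hgen : PtGen L) (F : X.Modules) (hF : Coh.IsCoh F)
    (hdim : topologicalKrullDim (CohB1.support F) < ((e : ℕ) : WithBot ℕ∞)) :
    (∃ C : ℕ, ∀ m : ℕ,
      hi k (CohB1.tensorMod F (CohB1.tensorPow L m)) 0 * (m + 1) ≤ C * (m + 1) ^ e) ∧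
    ∀ i : ℕ, 1 ≤ i → ∃ C : ℕ, ∀ m : ℕ,
      hi k (CohB1.tensorMod F (CohB1.tensorPow L m)) i * (m + 1) * (m + 1) ≤ C * (m + 1) ^ e := by
  by_cases hemp : CohB1.support F ⊆ ∅
  · have hz := Groth.Agent.Lib.R2H2.DevA.isZero_of_support_subset_empty F hemp
    have hz' : ∀ m, IsZero (CohB1.tensorMod F (CohB1.tensorPow L m)) := fun m =>
      (twR (CohB1.tensorPow L m)).map_isZero hz
    refine ⟨⟨0, fun m => ?_⟩, fun i _ => ⟨0, fun m => ?_⟩⟩
    · rw [hi_of_isZero k _ (hz' m) 0]; simp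
    · rw [hi_of_isZero k _ (hz' m) i]; simp
  · haveI : Nonempty (CohB1.support F) := by
      by_contra hcon
      apply hemp
      intro x hx
      exact absurd ⟨⟨x, hx⟩⟩ hcon
    obtain ⟨e', he'lt, he'⟩ := Groth.Agent.Lib.R2H4KleimanB.exists_nat_dim_eq e hdim
    obtain ⟨⟨C, hC⟩, hp⟩ := ih e' he'lt X L hL hgen F hF he'.le
    have hpow : ∀ m : ℕ, (m + 1) ^ e' * (m + 1) ≤ (m + 1) ^ e := fun m => by
      rw [← _root_.pow_succ]
      exact Nat.pow_le_pow_right (Nat.succ_pos m) he'lt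
    refine ⟨⟨C, fun m => ?_⟩, fun i hi1 => ?_⟩
    · calc hi k (CohB1.tensorMod F (CohB1.tensorPow L m)) 0 * (m + 1)
          ≤ C * (m + 1) ^ e' * (m + 1) := Nat.mul_le_mul_right _ (hC m)
        _ = C * ((m + 1) ^ e' * (m + 1)) := mul_assoc _ _ _
        _ ≤ C * (m + 1) ^ e := Nat.mul_le_mul_left _ (hpow m)
    · obtain ⟨C', hC'⟩ := hp i hi1
      refine ⟨C', fun m => ?_⟩
      calc hi k (CohB1.tensorMod F (CohB1.tensorPow L m)) i * (m + 1) * (m + 1)
          ≤ C' * (m + 1) ^ e' * (m + 1) := Nat.mul_le_mul_right _ (hC' m)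
        _ = C' * ((m + 1) ^ e' * (m + 1)) := mul_assoc _ _ _
        _ ≤ C' * (m + 1) ^ e := Nat.mul_le_mul_left _ (hpow m)

/-- the growth property for the structure sheaf of an integral scheme of dimension `≤ e` -/
theorem T_structure_integral (e : ℕ) (ih : ∀ e' : ℕ, e' < e → Claim k e')
    {W : Scheme.{u}} [W.Over (Spec (CommRingCat.of k))]
    [IsProper (W ↘ Spec (CommRingCat.of k))] [IsIntegral W]
    (hdW : topologicalKrullDim W ≤ ((e : ℕ) : WithBot ℕ∞)) (M : W.Modules)
    (hM : PicF.IsInvertible M) (hgen : PtGen M) : T k e M (Coh.structureModule W) := by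
  haveI := Groth.Agent.Lib.R2H1.CurveEuler.isNoetherian_of_proper k W
  obtain ⟨s, hηs⟩ := hgen (genericPoint W)
  have hs : s ≠ 0 := by
    intro h0
    rw [h0, Groth.Agent.Lib.Helper23.SecTw.genLocus_zero M hM] at hηs
    exact hηs
  have hO : PicF.IsInvertible (Coh.structureModule W) :=
    Groth.Agent.Lib.Helper23.TensorUnit.isInvertible_structureModule W
  have cO : Coh.IsCoh (Coh.structureModule W) :=
    Groth.Agent.Lib.R2H1.GenusLe.isCoh_structureModule W
  have cM : Coh.IsCoh M := Groth.Agent.Lib.R2H4VolBasic.isCoh_of_isInvertible M hM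
  have cQ : Coh.IsCoh (cokernel s) := Groth.Agent.Lib.R2H2.NilFilt.isCoh_cokernel cO cM s
  haveI : Mono s := Groth.Agent.Lib.R2H1.InvHom.mono_of_ne_zero hO hM s hs
  let Ss : ShortComplex W.Modules := ShortComplex.mk s (cokernel.π s) (cokernel.condition s)
  have hSs : Ss.ShortExact :=
    { exact := ShortComplex.exact_cokernel s
      mono_f := by dsimp [Ss]; infer_instance
      epi_g := by dsimp [Ss]; infer_instance }
  have hdimQ : topologicalKrullDim (CohB1.support (cokernel s)) < ((e : ℕ) : WithBot ℕ∞) :=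
    lt_of_lt_of_le (Groth.Agent.Lib.R2H4VolBig.dim_support_cokernel_lt k M hM s hs) hdW
  obtain ⟨⟨C₀, hC₀⟩, hp⟩ := small k e ih M hM hgen (cokernel s) cQ hdimQ
  have hE := fun m => Groth.Agent.Lib.Helper23.SecTw.isInvertible_tensorPow hM m
  -- the recursion
  have hrec : ∀ (i m : ℕ),
      hi k (CohB1.tensorMod (Coh.structureModule W) (CohB1.tensorPow M (m + 1))) i ≤
      hi k (CohB1.tensorMod (Coh.structureModule W) (CohB1.tensorPow M m)) i +
        hi k (CohB1.tensorMod (cokernel s) (CohB1.tensorPow M m)) i := by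
    intro i m
    have h2 := hiT_mid_le k _ (hE m) Ss hSs cO cM cQ i
    have e1 : CohB1.tensorMod (Coh.structureModule W) (CohB1.tensorPow M (m + 1)) ≅
        CohB1.tensorMod M (CohB1.tensorPow M m) :=
      lUnit _ ≪≫ tComm (CohB1.tensorPow M m) M
    rw [hi_congr k e1 i]
    exact h2
  refine ⟨?_, fun i hi1 => ?_⟩
  · exact growth_of_rec e
      (fun m => hi k (CohB1.tensorMod (Coh.structureModule W) (CohB1.tensorPow M m)) 0)
      (fun m => hi k (CohB1.tensorMod (cokernel s) (CohB1.tensorPow M m)) 0) C₀ (hrec 0) hC₀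
  · rcases Nat.eq_zero_or_pos e with he0 | hepos
    · -- dimension zero: vanishing
      refine ⟨0, fun m => ?_⟩
      have cT : Coh.IsCoh (CohB1.tensorMod (Coh.structureModule W) (CohB1.tensorPow M m)) :=
        Groth.Agent.Lib.R2H3.AmpleSV.isCoh_tensorMod_invertible _ _ cO (hE m)
      have hlt : topologicalKrullDim (CohB1.support
          (CohB1.tensorMod (Coh.structureModule W) (CohB1.tensorPow M m))) <
          ((i : ℕ) : WithBot ℕ∞) := by
        refine lt_of_le_of_lt ((Groth.Agent.Lib.R2H4HhatSES.dim_support_le e hdW _)) ?_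
        rw [he0]
        exact_mod_cast hi1
      rw [Groth.Agent.Lib.R2H4HhatTop.hi_eq_zero_of_dim_lt k _ cT i hlt]
      simp
    · obtain ⟨e₀, rfl⟩ : ∃ e₀, e = e₀ + 1 := ⟨e - 1, by omega⟩
      obtain ⟨C₁, hC₁⟩ := hp i hi1
      have hV : ∀ m : ℕ, hi k (CohB1.tensorMod (cokernel s) (CohB1.tensorPow M m)) i * (m + 1) ≤
          C₁ * (m + 1) ^ e₀ := by
        intro m
        have h1 := hC₁ m
        rw [_root_.pow_succ, ← mul_assoc] at h1
        exact Nat.le_of_mul_le_mul_right h1 (Nat.succ_pos m)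
      obtain ⟨C', hC'⟩ := growth_of_rec e₀
        (fun m => hi k (CohB1.tensorMod (Coh.structureModule W) (CohB1.tensorPow M m)) i)
        (fun m => hi k (CohB1.tensorMod (cokernel s) (CohB1.tensorPow M m)) i) C₁ (hrec i) hV
      refine ⟨C', fun m => ?_⟩
      rw [_root_.pow_succ, ← mul_assoc]
      exact Nat.mul_le_mul_right _ (hC' m)

end Induction

section Main

open Groth.Agent.Lib.R2H2.FinPush Groth.Agent.Lib.R2H3.AmpleFinite

variable (k : Type u) [Field k]

/-- **the induction** -/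
theorem claim_all : ∀ e : ℕ, Claim k e := by
  intro e
  induction e using Nat.strong_induction_on with
  | _ e ih =>
  intro X _ _ L hL hgen F hF hdimF
  classical
  haveI := Groth.Agent.Lib.R2H1.CurveEuler.isNoetherian_of_proper k X
  refine Groth.Agent.Lib.R2H2.DevL.devissage_roots
    (P := fun G => topologicalKrullDim (CohB1.support G) ≤ ((e : ℕ) : WithBot ℕ∞) → T k e L G)
    (fun M hM _ => T_zero k e L M hM) ?_ ?_ ?_ F hF hdimF
  · intro S hS c₁ c₂ c₃ h₁ h₃ hd
    haveI := hS.mono_f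
    haveI := hS.epi_g
    exact T_ext k e L hL S hS c₁ c₂ c₃
      (h₁ ((Groth.Agent.Lib.R2H4H0Growth.dim_mono
        (Groth.Agent.Lib.R2H2.DevA.support_subset_of_mono S.f)).trans hd))
      (h₃ ((Groth.Agent.Lib.R2H4H0Growth.dim_mono
        (Groth.Agent.Lib.R2H2.DevA.support_subset_of_epi S.g)).trans hd))
  · intro F r hF h hd
    exact T_root k e L hL F r hF
      (h ((Groth.Agent.Lib.R2H4H0Growth.dim_mono
        (Groth.Agent.Lib.R2H2.DevA.support_pow F (r + 1))).trans hd))
  intro y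
  obtain ⟨W, i, hci, hW, hrange, hgenpt⟩ := Groth.Agent.Lib.R2H2.DevD.exists_integral_closed
    (closure {y}) isClosed_closure isIrreducible_singleton.closure y rfl
  subst hgenpt
  haveI := hci
  haveI := hW
  letI : W.Over (Spec (CommRingCat.of k)) := ⟨i ≫ (X ↘ Spec (CommRingCat.of k))⟩
  have hg : i ≫ (X ↘ Spec (CommRingCat.of k)) = W ↘ Spec (CommRingCat.of k) := rfl
  haveI : IsProper (W ↘ Spec (CommRingCat.of k)) := by
    rw [← hg]
    infer_instance
  haveI : IsNoetherian W := Groth.Agent.Lib.R2H1.CurveEuler.isNoetherian_of_proper k W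
  have hO : Coh.IsCoh (Coh.structureModule W) :=
    Groth.Agent.Lib.R2H1.GenusLe.isCoh_structureModule W
  have cG : Coh.IsCoh (pushO i) := Groth.Agent.Lib.R2H2.ClosedPn.isCoh_push i _ hO
  haveI : (pushO i).IsQuasicoherent := cG.1
  have hLW : PicF.IsInvertible ((Scheme.Modules.pullback i).obj L) :=
    Groth.Agent.Lib.Helper23.PB.isInvertible_pullback i L hL
  have hnt := nontrivial_stalk_pushO i (genericPoint W)
  refine ⟨pushO i, cG, hnt,
    stalk_pushO_smul_eq_zero i (Coh.structureModule W), fun J hJ => ?_⟩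
  have cN : Coh.IsCoh (idl i J) := Groth.Agent.Lib.R2H2.DevF.isCoh_idealMul _ _ hO
  haveI : (idl i J).IsQuasicoherent := cN.1
  have hbij := bijective_stalkLin_phi i J _ hJ
  refine ⟨(Scheme.Modules.pushforward i).obj (idl i J), phi i J, inferInstance,
    Groth.Agent.Lib.Helper23.QCohLocal.isQuasicoherent_pushforward i _,
    hbij, ?_, phi_comp_un i J⟩
  intro hd
  -- the dimension of `W` is at most `e`
  have cG' : Coh.IsCoh ((Scheme.Modules.pushforward i).obj (idl i J)) :=
    Groth.Agent.Lib.R2H2.ClosedPn.isCoh_push i _ cN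
  have hcl : IsClosed (CohB1.support ((Scheme.Modules.pushforward i).obj (idl i J))) :=
    Groth.Agent.S0020.result X _ cG'.2
  have hy : i (genericPoint W) ∈ CohB1.support ((Scheme.Modules.pushforward i).obj (idl i J)) := by
    intro hsub
    haveI := hsub
    haveI := hnt
    obtain ⟨a, b, hab⟩ := hbij.2.nontrivial
    exact hab (Subsingleton.elim a b)
  have hsub : ∀ w : W, i w ∈ CohB1.support ((Scheme.Modules.pushforward i).obj (idl i J)) := by
    intro w
    have h1 : i w ∈ closure ({i (genericPoint W)} : Set X) := hrange ▸ Set.mem_range_self w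
    exact closure_minimal (Set.singleton_subset_iff.2 hy) hcl h1
  have hind : Topology.IsInducing (Set.codRestrict i
      (CohB1.support ((Scheme.Modules.pushforward i).obj (idl i J))) hsub) :=
    (Scheme.Hom.isClosedEmbedding i).isInducing.codRestrict hsub
  have hdW : topologicalKrullDim W ≤ ((e : ℕ) : WithBot ℕ∞) :=
    hind.topologicalKrullDim_le.trans hd
  -- the structure sheaf of `W`
  have hTW : T k e L (pushO i) :=
    T_push k i hg e L hL _ hO
      (T_structure_integral k e ih hdW _ hLW (ptGen_pullback i L hL hgen))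
  -- the cokernel has small support
  have cQ : Coh.IsCoh (cokernel (phi i J)) :=
    Groth.Agent.Lib.R2H2.NilFilt.isCoh_cokernel cG' cG (phi i J)
  have hQ0 : Subsingleton ((cokernel (phi i J)).presheaf.stalk (i (genericPoint W))) :=
    Groth.Agent.Lib.R2H4GenRank.subsingleton_stalk_cokernel (phi i J) _ hbij.2
  have hQsub : CohB1.support (cokernel (phi i J)) ⊆ closure ({i (genericPoint W)} : Set X) := by
    intro x hx
    rw [← hrange]
    exact Groth.Agent.Lib.R2H2.DevE.support_push_subset i _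
      (Groth.Agent.Lib.R2H2.DevA.support_subset_of_epi (cokernel.π (phi i J)) hx)
  have hQne : CohB1.support (cokernel (phi i J)) ≠ closure ({i (genericPoint W)} : Set X) := by
    intro heq
    have hmem : i (genericPoint W) ∈ CohB1.support (cokernel (phi i J)) := by
      rw [heq]; exact subset_closure rfl
    exact hmem hQ0
  have hdcl : topologicalKrullDim (closure ({i (genericPoint W)} : Set X)) =
      topologicalKrullDim W := by
    rw [← hrange]
    exact (IsHomeomorph.topologicalKrullDim_eq _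
      (i.isClosedEmbedding.isEmbedding.toHomeomorph).isHomeomorph).symm
  have hfin : topologicalKrullDim (closure ({i (genericPoint W)} : Set X)) < ⊤ := by
    rw [hdcl]
    exact lt_of_le_of_lt hdW (WithBot.coe_lt_coe.2 (ENat.coe_lt_top e))
  have hQdim : topologicalKrullDim (CohB1.support (cokernel (phi i J))) <
      ((e : ℕ) : WithBot ℕ∞) := by
    have h1 := Groth.Agent.Lib.Helper8.Conn.dim_lt_of_proper_closed
      (isIrreducible_singleton.closure) (Groth.Agent.S0020.result X _ cQ.2) hQsub hQne hfin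
    rw [hdcl] at h1
    exact lt_of_lt_of_le h1 hdW
  obtain ⟨⟨C₀, hC₀⟩, hp⟩ := small k e ih L hL hgen _ cQ hQdim
  obtain ⟨⟨D₀, hD₀⟩, hpW⟩ := hTW
  let S : ShortComplex X.Modules :=
    ShortComplex.mk (phi i J) (cokernel.π (phi i J)) (cokernel.condition _)
  have hS : S.ShortExact :=
    { exact := ShortComplex.exact_cokernel (phi i J)
      mono_f := by dsimp [S]; infer_instance
      epi_g := by dsimp [S]; infer_instance }
  have hE := fun m => Groth.Agent.Lib.Helper23.SecTw.isInvertible_tensorPow hL m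
  refine ⟨⟨D₀, fun m => ?_⟩, fun j hj1 => ?_⟩
  · exact (hiT_left_zero_le k _ (hE m) S hS cG' cG cQ).trans (hD₀ m)
  · obtain ⟨j', rfl⟩ : ∃ j', j = j' + 1 := ⟨j - 1, by omega⟩
    obtain ⟨D₁, hD₁⟩ := hpW (j' + 1) hj1
    have hprev : ∃ C : ℕ, ∀ m : ℕ,
        hi k (CohB1.tensorMod (cokernel (phi i J)) (CohB1.tensorPow L m)) j' * (m + 1) ≤
          C * (m + 1) ^ e := by
      rcases Nat.eq_zero_or_pos j' with h0 | hpos
      · subst h0
        exact ⟨C₀, hC₀⟩
      · obtain ⟨C₁, hC₁⟩ := hp j' hpos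
        refine ⟨C₁, fun m => le_trans ?_ (hC₁ m)⟩
        exact Nat.le_mul_of_pos_right _ (Nat.succ_pos m)
    obtain ⟨C₂, hC₂⟩ := hprev
    refine ⟨C₂ + D₁, fun m => ?_⟩
    have h := hiT_left_succ_le k _ (hE m) S hS cG' cG cQ j'
    calc hi k (CohB1.tensorMod ((Scheme.Modules.pushforward i).obj (idl i J))
          (CohB1.tensorPow L m)) (j' + 1) * (m + 1)
        ≤ (hi k (CohB1.tensorMod (cokernel (phi i J)) (CohB1.tensorPow L m)) j' +
          hi k (CohB1.tensorMod (pushO i) (CohB1.tensorPow L m)) (j' + 1)) * (m + 1) :=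
          Nat.mul_le_mul_right _ h
      _ ≤ (C₂ + D₁) * (m + 1) ^ e := by
          rw [add_mul, add_mul]
          exact Nat.add_le_add (hC₂ m) (hD₁ m)

variable {X : Scheme.{u}} [X.Over (Spec (CommRingCat.of k))]
  [IsProper (X ↘ (Spec (CommRingCat.of k)))]

/-- **Growth of `hⁱ(F ⊗ L^m)` for `L` generated by global sections** -/
theorem main (L : X.Modules) (hL : PicF.IsInvertible L) (hgen : PtGen L) (F : X.Modules)
    (hF : Coh.IsCoh F) (e : ℕ)
    (hdim : topologicalKrullDim (CohB1.support F) ≤ ((e : ℕ) : WithBot ℕ∞)) : T k e L F :=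
  claim_all k e X L hL hgen F hF hdim

theorem ptGen_of_isGloballyGenerated (L : X.Modules) (hL : PicF.IsInvertible L)
    (hgg : Curv2.IsGloballyGenerated L) : PtGen L :=
  fun x => Groth.Agent.Lib.Helper23.GG.exists_section_mem_genLocus L hL hgg x

end Main

end Groth.Agent.Lib.R2H4GGGrowth
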