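import Mathlib
import Groth.Prelude
import Groth.Agent.Lib.R2H1ZeroDimCoh
import Groth.Agent.Lib.R2H2PnSerre
import Groth.Agent.Lib.R2H4Snapper
import Groth.Agent.Lib.R2H1DegCartier
import Groth.Agent.Lib.R2H3AmpleSV
import Groth.Agent.Lib.Helper13ModAffine
import Groth.Agent.Lib.Helper23IdealSec
import Groth.Agent.Lib.Helper23SectCmpLib

/-!
# Powers of the ideal of a closed point (helper4, round 2)

* `subsingleton_HH_of_support_subset_point`: higher cohomology of a module supported at a closed point vanishes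
  (no coherence needed: such a sheaf is flasque).
* `incl`: the inclusion `idealMod J ⟶ idealMod I` for `J ≤ I`; `stalk_cokernel_incl_subsingleton`.
* `vanishing` (S15254): `H^i(m_x^a ⊗ L^m) = 0` for `i > 1`, `m ≫ 0`, all `a` (`L` ample, `X` proper over a field).
* `h1_nontrivial_succ` (S15255): `H¹(m_x^a ⊗ M) ≠ 0 → H¹(m_x^(a+1) ⊗ M) ≠ 0` (`M` invertible).
-/

set_option autoImplicit false
set_option linter.style.haveILetI false
set_option linter.unusedSectionVars false
universe u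
open CategoryTheory CategoryTheory.Limits AlgebraicGeometry TopologicalSpace Opposite

namespace Groth.Agent.Lib.R2H4PointPow

open Groth.Agent.Lib.R2H2.HHLin Groth.Agent.Lib.R2H2.PnSerre Groth.Agent.Lib.R2H1.DegCartier
open Groth.Agent.Lib.R2H1.InvHom Groth.Agent.Lib.R2H1.CurveVanish
open Groth.Agent.Lib.Helper23.GenLocus

variable {X : Scheme.{u}}

/-- higher cohomology vanishes for modules supported at a closed point -/
theorem subsingleton_HH_of_support_subset_point (F : X.Modules) (x : X)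
    (hx : IsClosed ({x} : Set X)) (hF : CohB1.support F ⊆ {x}) (i : ℕ) (hi : 1 ≤ i) :
    Subsingleton (Coh.HH X F i) := by
  haveI := Groth.Agent.Lib.R2H1.ZeroDimCoh.isFlasque_of_support (X := X.toTopCat) (Coh.toAb F)
    ({x} : Set X)
    (fun C hC => by
      rcases Set.subset_singleton_iff_eq.mp hC with h | h
      · rw [h]; exact isClosed_empty
      · rw [h]; exact hx)
    (fun y hy => not_not.mp (fun h => hy (hF h)))
  obtain ⟨n, rfl⟩ : ∃ n, i = n + 1 := ⟨i - 1, by omega⟩
  exact Groth.Agent.Lib.Helper16.Flasque.H_subsingleton (X := X.toTopCat) (Coh.toAb F) n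

/-- the support of a power of the ideal of a closed point -/
theorem support_pointIdeal_pow_subset (x : X) (hx : IsClosed ({x} : Set X)) (a : ℕ) :
    (((W4c2seshadripos.pointIdeal x hx) ^ a).support : Set X) ⊆ {x} := by
  rcases Nat.eq_zero_or_pos a with h | h
  · subst h
    rw [pow_zero]
    intro y hy
    exact absurd hy (by
      change y ∉ ((⊤ : X.IdealSheafData).support : Set X)
      rw [Scheme.IdealSheafData.support_top]
      exact fun h => h)
  · rw [Scheme.IdealSheafData.support_pow _ a (by omega)]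
    unfold W4c2seshadripos.pointIdeal
    rw [Scheme.IdealSheafData.coe_support_vanishingIdeal]
    exact subset_rfl

theorem ideal_eq_top_of_disjoint (J : X.IdealSheafData) (W : X.affineOpens)
    (h : Disjoint (J.support : Set X) (W.1 : Set X)) : J.ideal W = ⊤ := by
  by_contra hne
  obtain ⟨m, hm, hle⟩ := Ideal.exists_le_maximal _ hne
  let pt : PrimeSpectrum Γ(X, W.1) := ⟨m, hm.isPrime⟩
  have h1 : W.2.fromSpec pt ∈ X.zeroLocus (U := W.1) (J.ideal W : Set Γ(X, W.1)) ∩ W.1 := by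
    rw [← IsAffineOpen.fromSpec_image_zeroLocus W.2]
    exact ⟨pt, hle, rfl⟩
  rw [← Scheme.IdealSheafData.coe_support_inter] at h1
  exact Set.disjoint_iff.1 h h1

section Incl

variable {J I : X.IdealSheafData}

theorem ι_comp_toSubscheme_of_le (h : J ≤ I) :
    ClSub.idealModι J ≫ ClSub.toSubscheme I = 0 := by
  apply Groth.Agent.Helper13ModAffine.hom_ext_affine
  intro U hU
  ext j
  have h1 := Groth.Agent.Lib.Helper23.IdealSec.ι_mem_ideal J ⟨U, hU⟩ j
  have h2 := h ⟨U, hU⟩ h1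
  rw [← I.ker_subschemeι_app ⟨U, hU⟩, RingHom.mem_ker] at h2
  exact h2

/-- the inclusion `J ⟶ I` of ideal modules for `J ≤ I` -/
noncomputable def incl (h : J ≤ I) : ClSub.idealMod J ⟶ ClSub.idealMod I :=
  kernel.lift (ClSub.toSubscheme I) (ClSub.idealModι J) (ι_comp_toSubscheme_of_le h)

theorem incl_ι (h : J ≤ I) : incl h ≫ ClSub.idealModι I = ClSub.idealModι J :=
  kernel.lift_ι _ _ _

instance mono_idealModι (I : X.IdealSheafData) : Mono (ClSub.idealModι I) :=
  inferInstanceAs (Mono (kernel.ι (ClSub.toSubscheme I)))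

instance mono_incl (h : J ≤ I) : Mono (incl h) := by
  haveI : Mono (incl h ≫ ClSub.idealModι I) := by rw [incl_ι]; infer_instance
  exact mono_of_mono (incl h) (ClSub.idealModι I)

/-- if `φ` is locally surjective near `y`, the cokernel of `φ` has zero stalk at `y` -/
theorem stalk_cokernel_subsingleton {A B : X.Modules} (φ : A ⟶ B) (y : X)
    (h : ∀ (W : X.Opens) (b : Γ(B, W)), y ∈ W → ∃ (W' : X.Opens) (hle : W' ≤ W), y ∈ W' ∧
      ∃ a : Γ(A, W'), φ.app W' a = res B hle b) :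
    Subsingleton ((cokernel φ).presheaf.stalk y) := by
  refine stalk_subsingleton_of_sections _ y fun W' hyW' m => ?_
  obtain ⟨W₁, hW₁, hyW₁, b, hb⟩ :=
    Groth.Agent.Lib.Helper23.SectCmpLib.exists_local_lift (cokernel.π φ) W' m y hyW'
  obtain ⟨W₂, hW₂, hyW₂, a, ha⟩ := h W₁ b hyW₁
  refine ⟨W₂, hW₂.trans hW₁, hyW₂, ?_⟩
  have h1 : res (cokernel φ) (hW₂.trans hW₁) m = res (cokernel φ) hW₂ (res (cokernel φ) hW₁ m) :=
    (res_res _ hW₁ hW₂ m).symm
  rw [h1]
  change res (cokernel φ) hW₂ ((cokernel φ).presheaf.map (homOfLE hW₁).op m) = 0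
  rw [← hb, ← app_res, ← ha]
  have h2 : φ ≫ cokernel.π φ = 0 := cokernel.condition φ
  have h3 := congrArg (fun ψ => ψ.app W₂ a) h2
  exact h3

theorem stalk_cokernel_incl_subsingleton (h : J ≤ I) (y : X) (hy : y ∉ J.support) :
    Subsingleton ((cokernel (incl h)).presheaf.stalk y) := by
  refine stalk_cokernel_subsingleton (incl h) y fun W b hyW => ?_
  let W₀ : X.Opens := ⟨(J.support : Set X)ᶜ, J.support.isClosed.isOpen_compl⟩
  obtain ⟨W₂, hW₂aff, hyW₂, hW₂le⟩ : ∃ W₂ : X.Opens, IsAffineOpen W₂ ∧ y ∈ W₂ ∧ W₂ ≤ W ⊓ W₀ := by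
    obtain ⟨W₂, hW₂, hyW₂, hle⟩ := Opens.isBasis_iff_nbhd.1 X.isBasis_affineOpens
      (show y ∈ W ⊓ W₀ from ⟨hyW, hy⟩)
    exact ⟨W₂, hW₂, hyW₂, hle⟩
  have hle : W₂ ≤ W := hW₂le.trans inf_le_left
  refine ⟨W₂, hle, hyW₂, ?_⟩
  have htop : J.ideal ⟨W₂, hW₂aff⟩ = ⊤ := by
    apply ideal_eq_top_of_disjoint
    rw [Set.disjoint_iff]
    intro z hz
    exact (hW₂le hz.2).2 hz.1
  obtain ⟨j, hj⟩ := Groth.Agent.Lib.Helper23.IdealSec.exists_ι_eq J ⟨W₂, hW₂aff⟩
    (ofS W₂ ((ClSub.idealModι I).app W₂ (res _ hle b))) (by rw [htop]; trivial)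
  refine ⟨j, ?_⟩
  have hinj : Function.Injective ((ClSub.idealModι I).app W₂) :=
    Groth.Agent.Lib.Helper23.Extend.injective_app_of_mono (ClSub.idealModι I) W₂
  apply hinj
  have h4 := congrArg (fun ψ => ψ.app W₂ j) (incl_ι h)
  rw [toS_ofS] at hj
  exact h4.trans hj

end Incl

section Main

variable (X : Scheme.{u})

theorem support_twR_X₃_subset (x : X) (hx : IsClosed ({x} : Set X)) (a : ℕ) (M : X.Modules)
    (hM : PicF.IsInvertible M) :
    CohB1.support ((idealSeq ((W4c2seshadripos.pointIdeal x hx) ^ a)).map (twR M)).X₃ ⊆ {x} :=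
  (Groth.Agent.Lib.R2H4Snapper.support_tensor_subset _ M hM).trans
    ((support_quotMod_subset _).trans (support_pointIdeal_pow_subset x hx a))

/-- `H^i(X, m_x^a ⊗ L^m) = 0` for `i > 1`, `m ≫ 0` and all `a` (`L` ample) -/
theorem vanishing (k : Type u) [Field k] [X.Over (Spec (CommRingCat.of k))]
    [IsProper (X ↘ (Spec (CommRingCat.of k)))] (x : X) (hx : IsClosed ({x} : Set X)) (L : X.Modules) (hL : CohB1.IsAmple L) :
    ∃ m₀ : ℕ, ∀ m : ℕ, m₀ ≤ m → ∀ i : ℕ, 1 < i → ∀ a : ℕ,
      Subsingleton (Coh.HH X (CohB1.tensorMod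
        (ClSub.idealMod ((W4c2seshadripos.pointIdeal x hx) ^ a)) (CohB1.tensorPow L m)) i) := by
  obtain ⟨m₀, hm₀⟩ := Groth.Agent.Lib.R2H3.AmpleSV.serre_vanishing_ample k
    (X ↘ Spec (CommRingCat.of k)) L hL (Coh.structureModule X)
    (Groth.Agent.Lib.R2H1.GenusLe.isCoh_structureModule X)
  refine ⟨m₀, fun m hm i hi a => ?_⟩
  have hLm : PicF.IsInvertible (CohB1.tensorPow L m) :=
    Groth.Agent.Lib.Helper23.SecTw.isInvertible_tensorPow hL.1 m
  have hS := shortExact_map_twR (CohB1.tensorPow L m) hLm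
    (idealSeq ((W4c2seshadripos.pointIdeal x hx) ^ a)) (idealSeq_shortExact _)
  obtain ⟨n, rfl⟩ : ∃ n, i = n + 1 := ⟨i - 1, by omega⟩
  haveI h3 : Subsingleton (Coh.HH X ((idealSeq ((W4c2seshadripos.pointIdeal x hx) ^ a)).map
      (twR (CohB1.tensorPow L m))).X₃ n) :=
    subsingleton_HH_of_support_subset_point _ x hx
      (support_twR_X₃_subset X x hx a _ hLm) n (by omega)
  haveI h2 : Subsingleton (Coh.HH X ((idealSeq ((W4c2seshadripos.pointIdeal x hx) ^ a)).map
      (twR (CohB1.tensorPow L m))).X₂ (n + 1)) := hm₀ m hm (n + 1) (by omega)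
  refine subsingleton_of_forall_eq 0 fun z => ?_
  obtain ⟨x₃, hx₃⟩ := exact₁ _ hS n z (Subsingleton.elim _ _)
  rw [← hx₃, Subsingleton.elim x₃ 0, map_zero]
  rfl

theorem pow_succ_le (P : X.IdealSheafData) (a : ℕ) : P ^ (a + 1) ≤ P ^ a := by
  intro U
  rw [Scheme.IdealSheafData.ideal_pow, Scheme.IdealSheafData.ideal_pow]
  exact Ideal.pow_le_pow_right (Nat.le_succ a)

/-- nonvanishing of `H¹(m_x^a ⊗ M)` propagates to `H¹(m_x^(a+1) ⊗ M)` (`M` invertible) -/
theorem h1_nontrivial_succ (x : X) (hx : IsClosed ({x} : Set X)) (M : X.Modules)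
    (hM : PicF.IsInvertible M) (a : ℕ)
    (h : Nontrivial (Coh.HH X (CohB1.tensorMod
      (ClSub.idealMod ((W4c2seshadripos.pointIdeal x hx) ^ a)) M) 1)) :
    Nontrivial (Coh.HH X (CohB1.tensorMod
      (ClSub.idealMod ((W4c2seshadripos.pointIdeal x hx) ^ (a + 1))) M) 1) := by
  have hle := pow_succ_le X (W4c2seshadripos.pointIdeal x hx) a
  let T : ShortComplex X.Modules :=
    ShortComplex.mk (incl hle) (cokernel.π (incl hle)) (cokernel.condition _)
  have hT : T.ShortExact :=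
    { exact := ShortComplex.exact_cokernel (incl hle)
      mono_f := mono_incl hle
      epi_g := inferInstanceAs (Epi (cokernel.π (incl hle))) }
  have hS := shortExact_map_twR M hM T hT
  have hsupp : CohB1.support (T.map (twR M)).X₃ ⊆ {x} := by
    refine (Groth.Agent.Lib.R2H4Snapper.support_tensor_subset _ M hM).trans ?_
    intro y hy
    by_contra hne
    apply hy
    apply stalk_cokernel_incl_subsingleton hle y
    intro hys
    exact hne (support_pointIdeal_pow_subset x hx (a + 1) hys)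
  haveI h3 : Subsingleton (Coh.HH X (T.map (twR M)).X₃ 1) :=
    subsingleton_HH_of_support_subset_point _ x hx hsupp 1 le_rfl
  have hsurj : Function.Surjective (HmapL (T.map (twR M)).f 1) := fun z => by
    obtain ⟨z₁, hz₁⟩ := exact₂ _ hS 1 z (Subsingleton.elim _ _)
    exact ⟨z₁, hz₁⟩
  haveI : Nontrivial (Coh.HH X (T.map (twR M)).X₂ 1) := h
  exact hsurj.nontrivial

end Main

end Groth.Agent.Lib.R2H4PointPow
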