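import Mathlib
import Groth.Prelude
import Groth.Agent.Lib.R2H1LiftZero
import Groth.Agent.Lib.R2H2ClosedPnLin
import Groth.Agent.Lib.R2H1CurveDegSec

/-!
# Twisting by an ideal sheaf with zero-dimensional support (helper4, round 2)

A variant of helper1's `R2H1.PointTwist.twist_bounds` which does not ask the ideal to be an effective
Cartier divisor, only that `G ⊗ I_D` be coherent and that `D` have zero-dimensional support.
-/

set_option autoImplicit false
set_option linter.style.haveILetI false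
set_option linter.unusedSectionVars false
universe u
open CategoryTheory CategoryTheory.Limits AlgebraicGeometry TopologicalSpace Opposite

namespace Groth.Agent.Lib.R2H4PointTwist

open Groth.Agent.Lib.R2H1.DegCartier Groth.Agent.Lib.R2H1.SkyDecomp Groth.Agent.Lib.R2H2.DevA
open Groth.Agent.Lib.Helper21.ModTensor Groth.Agent.Lib.Helper21.ModTensor2
open Groth.Agent.Lib.Helper21.ModTensor5 Groth.Agent.Lib.Helper21.ModTensor6
open Groth.Agent.Lib.Helper21.ModTensor7 Groth.Agent.Lib.Helper21.ModTensor3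
open Groth.Agent.Lib.R2H1.CurveEuler Groth.Agent.Lib.R2H1.CurveDegSec
  Groth.Agent.Lib.R2H1.EulerAdd Groth.Agent.Lib.R2H2.HHLin

variable (k : Type u) [Field k] (X : Scheme.{u}) [X.Over (Spec (CommRingCat.of k))]
    [IsProper (X ↘ (Spec (CommRingCat.of k)))]

/-- data of the twisted ideal sequence `0 → G ⊗ I_D → G ⊗ O → G ⊗ O_D → 0` -/
theorem twist_seq_facts (D : X.IdealSheafData)
    (hsupp : topologicalKrullDim (D.support : Set X) ≤ 0) (n : ℕ) (G : X.Modules)
    (hG : FlatMod.IsFinLocFreeOfRank n G)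
    (cG' : Coh.IsCoh (CohB1.tensorMod G (ClSub.idealMod D))) :
    ((idealSeq D).map (DCoh.tensorBi.obj G)).ShortExact ∧
    Coh.IsCoh ((idealSeq D).map (DCoh.tensorBi.obj G)).X₁ ∧
    Coh.IsCoh ((idealSeq D).map (DCoh.tensorBi.obj G)).X₂ ∧
    Coh.IsCoh ((idealSeq D).map (DCoh.tensorBi.obj G)).X₃ ∧
    (Module.finrank k (Coh.HH X ((idealSeq D).map (DCoh.tensorBi.obj G)).X₃ 0) : ℤ) =
      n * Module.finrank k (Coh.HH X (ClSub.quotMod D) 0) := by
  haveI := isNoetherian_of_proper k X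
  have hGf : FlatMod.IsFinLocFree G := fun y => by
    obtain ⟨V, hy, e⟩ := hG y
    exact ⟨V, n, hy, e⟩
  have cG : Coh.IsCoh G := Groth.Agent.Lib.R2H2.PnLocFree.isCoh_of_isFinLocFree G hGf
  have hfl := Groth.Agent.Lib.R2H2.PullLF.isFlat_of_isFinLocFree G hGf
  have hS : ((idealSeq D).map (DCoh.tensorBi.obj G)).ShortExact :=
    Groth.Agent.Lib.R2Lead.TensorExact.shortExact_map_tensorBi G (fun y => hfl y)
      (idealSeq D) (idealSeq_shortExact D)
  have hQ : Coh.IsCoh (ClSub.quotMod D) :=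
    Groth.Agent.S0019.result D.subschemeι _
      (Groth.Agent.Lib.R2H1.GenusLe.isCoh_structureModule _)
  have hsuppQ : topologicalKrullDim (CohB1.support (ClSub.quotMod D)) ≤ 0 :=
    le_trans (Topology.IsInducing.topologicalKrullDim_le
      (Topology.IsEmbedding.inclusion (support_quotMod_subset D)).isInducing) hsupp
  have main := euler_tensor_ideal k X D n G hG hQ hsuppQ cG'
  have e1 := euler_eq_h0 k X (ClSub.quotMod D) hQ hsuppQ
  have c₂ : Coh.IsCoh ((idealSeq D).map (DCoh.tensorBi.obj G)).X₂ :=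
    Groth.Agent.Lib.R2H2.PdSheaf.isCoh_of_iso (Groth.Agent.Lib.Helper21.Dual.rU X.sheaf G).symm cG
  have c₁ : Coh.IsCoh ((idealSeq D).map (DCoh.tensorBi.obj G)).X₁ := cG'
  have c₃ := isCoh_X₃ _ hS c₁ c₂
  have hadd := s1524 k X _ hS c₁ c₂ c₃
  have e₂ : Curv2.euler k X ((idealSeq D).map (DCoh.tensorBi.obj G)).X₂ = Curv2.euler k X G :=
    euler_congr k (Groth.Agent.Lib.Helper21.Dual.rU X.sheaf G)
  have hsupp₃ : CohB1.support ((idealSeq D).map (DCoh.tensorBi.obj G)).X₃ ⊆
      (D.support : Set X) := by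
    intro y hy
    by_contra hcon
    exact hy (Groth.Agent.Lib.R2H1.LiftZero.stalk_X₃_subsingleton D G y hcon)
  have hdim₃ : topologicalKrullDim
      (CohB1.support ((idealSeq D).map (DCoh.tensorBi.obj G)).X₃) ≤ 0 :=
    le_trans (Topology.IsInducing.topologicalKrullDim_le
      (Topology.IsEmbedding.inclusion hsupp₃).isInducing) hsupp
  have e3 := euler_eq_h0 k X _ c₃ hdim₃
  refine ⟨hS, c₁, c₂, c₃, ?_⟩
  have e₁' : Curv2.euler k X ((idealSeq D).map (DCoh.tensorBi.obj G)).X₁ =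
      Curv2.euler k X (CohB1.tensorMod G (ClSub.idealMod D)) := rfl
  rw [e₂, e₁'] at hadd
  rw [e1] at main
  rw [← e3]
  linarith

/-- `h⁰(G ⊗ I_D) ≤ h⁰(G) ≤ h⁰(G ⊗ I_D) + n · h⁰(O_D)` -/
theorem twist_bounds (D : X.IdealSheafData)
    (hsupp : topologicalKrullDim (D.support : Set X) ≤ 0) (n : ℕ) (G : X.Modules)
    (hG : FlatMod.IsFinLocFreeOfRank n G)
    (cG' : Coh.IsCoh (CohB1.tensorMod G (ClSub.idealMod D))) :
    Module.finrank k (Coh.HH X (CohB1.tensorMod G (ClSub.idealMod D)) 0) ≤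
      Module.finrank k (Coh.HH X G 0) ∧
    Module.finrank k (Coh.HH X G 0) ≤
      Module.finrank k (Coh.HH X (CohB1.tensorMod G (ClSub.idealMod D)) 0) +
        n * Module.finrank k (Coh.HH X (ClSub.quotMod D) 0) := by
  haveI := isNoetherian_of_proper k X
  obtain ⟨hS, c₁, c₂, c₃, h₃⟩ := twist_seq_facts k X D hsupp n G hG cG'
  haveI := finite_HH k X _ c₂ 0
  haveI := finite_HH k X _ c₁ 0
  haveI := finite_HH k X _ c₃ 0
  have hinj : Function.Injective (HmapA k ((idealSeq D).map (DCoh.tensorBi.obj G)).f 0) :=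
    injective_f_zero k _ hS
  have hX₂ : Module.finrank k (Coh.HH X ((idealSeq D).map (DCoh.tensorBi.obj G)).X₂ 0) =
      Module.finrank k (Coh.HH X G 0) :=
    Groth.Agent.Lib.R2H2.ClosedPnLin.finrank_HH_of_iso k
      (Groth.Agent.Lib.Helper21.Dual.rU X.sheaf G) 0
  have hX₁ : Module.finrank k (Coh.HH X ((idealSeq D).map (DCoh.tensorBi.obj G)).X₁ 0) =
      Module.finrank k (Coh.HH X (CohB1.tensorMod G (ClSub.idealMod D)) 0) := rfl
  have hrange : Module.finrank k (LinearMap.range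
      (HmapA k ((idealSeq D).map (DCoh.tensorBi.obj G)).f 0)) =
      Module.finrank k (Coh.HH X ((idealSeq D).map (DCoh.tensorBi.obj G)).X₁ 0) :=
    LinearMap.finrank_range_of_inj hinj
  have hker : LinearMap.ker (HmapA k ((idealSeq D).map (DCoh.tensorBi.obj G)).g 0) ≤
      LinearMap.range (HmapA k ((idealSeq D).map (DCoh.tensorBi.obj G)).f 0) := by
    intro x hx
    obtain ⟨x₁, hx₁⟩ := exact₂ _ hS 0 x hx
    exact ⟨x₁, hx₁⟩
  have hrn := LinearMap.finrank_range_add_finrank_ker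
    (HmapA k ((idealSeq D).map (DCoh.tensorBi.obj G)).g 0)
  have h1 := Submodule.finrank_mono hker
  have h2 := Submodule.finrank_le (LinearMap.range
    (HmapA k ((idealSeq D).map (DCoh.tensorBi.obj G)).g 0))
  have h3 := Submodule.finrank_le (LinearMap.range
    (HmapA k ((idealSeq D).map (DCoh.tensorBi.obj G)).f 0))
  have h₃' : Module.finrank k (Coh.HH X ((idealSeq D).map (DCoh.tensorBi.obj G)).X₃ 0) =
      n * Module.finrank k (Coh.HH X (ClSub.quotMod D) 0) := by exact_mod_cast h₃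
  constructor
  · rw [← hX₂, ← hX₁, ← hrange]; exact h3
  · rw [← hX₂, ← hX₁, ← h₃']
    omega

end Groth.Agent.Lib.R2H4PointTwist
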