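import Mathlib
import Groth.Prelude
import Groth.Agent.Lib.R2H4PointPow
import Groth.Agent.Lib.R2H1EllPt
import Groth.Agent.Lib.R2H1VBEndo
import Groth.Agent.Lib.Helper23UnitStalk
import Groth.Agent.Lib.Helper1StalkTensorB
import Groth.Agent.Lib.R2H2StalkPow
import Groth.Agent.Lib.R2H4PointTwist

/-!
# The ideal sheaf of a closed point as a module (helper4, round 2)

* `stalkLin_injective_of_mono`, `isTorsionFree_of_mono` (submodules of `O_X` are stalkwise torsion-free),
* `stalkLin_idealModι_bijective`, `finrank_stalk_idealMod` (outside the support the ideal module is `O_X`),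
* `resMap_bijective`, `h0_quotMod_point` (closed points over an algebraically closed field have degree one),
* `deg_pointIdeal` (`χ(m_P) - χ(O_X) = -1`), `main` (S15922).
-/

set_option autoImplicit false
set_option linter.style.haveILetI false
set_option linter.unusedSectionVars false
universe u
open CategoryTheory CategoryTheory.Limits AlgebraicGeometry TopologicalSpace Opposite

namespace Groth.Agent.Lib.R2H4PointIdeal

open Groth.Agent.Lib.R2H2.StalkPow Groth.Agent.Lib.R2H1.DegCartier
open Groth.Agent.Lib.Helper23.GenLocus Groth.Agent.Lib.R2H4PointPow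

variable {X : Scheme.{u}}

theorem stalkLin_injective_of_mono {F G : X.Modules} (φ : F ⟶ G) [Mono φ] (x : X) :
    Function.Injective (stalkLin φ x) :=
  Groth.Agent.Lib.Helper1.StalkTensor.sm_injective_of_mono φ x

/-- a submodule of the structure module is stalkwise torsion-free -/
theorem isTorsionFree_of_mono {M : X.Modules} (φ : M ⟶ Coh.structureModule X) [Mono φ] :
    TorSh.IsTorsionFree M := fun x =>
  Function.Injective.moduleIsTorsionFree
    (fun m => (Groth.Agent.Lib.Helper23.UnitStalk.unitStalkEquiv x).symm (stalkLin φ x m))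
    ((Groth.Agent.Lib.Helper23.UnitStalk.unitStalkEquiv x).symm.injective.comp
      (stalkLin_injective_of_mono φ x))
    (fun r m => by
      show (Groth.Agent.Lib.Helper23.UnitStalk.unitStalkEquiv x).symm (stalkLin φ x (r • m)) =
        r • (Groth.Agent.Lib.Helper23.UnitStalk.unitStalkEquiv x).symm (stalkLin φ x m)
      rw [map_smul, map_smul])

/-- the inclusion of an ideal module is bijective on stalks outside the support -/
theorem stalkLin_idealModι_bijective (I : X.IdealSheafData) (y : X) (hy : y ∉ I.support) :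
    Function.Bijective (stalkLin (ClSub.idealModι I) y) := by
  refine ⟨stalkLin_injective_of_mono _ y, fun z => ?_⟩
  obtain ⟨V, hyV, t, rfl⟩ := (Coh.structureModule X).presheaf.exists_germ_eq z
  let W₀ : X.Opens := ⟨(I.support : Set X)ᶜ, I.support.isClosed.isOpen_compl⟩
  obtain ⟨W, hWaff, hyW, hWle⟩ : ∃ W : X.Opens, IsAffineOpen W ∧ y ∈ W ∧ W ≤ V ⊓ W₀ := by
    obtain ⟨W, hW, hyW, hle⟩ := Opens.isBasis_iff_nbhd.1 X.isBasis_affineOpens
      (show y ∈ V ⊓ W₀ from ⟨hyV, hy⟩)
    exact ⟨W, hW, hyW, hle⟩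
  have hle : W ≤ V := hWle.trans inf_le_left
  have htop : I.ideal ⟨W, hWaff⟩ = ⊤ := by
    apply ideal_eq_top_of_disjoint
    rw [Set.disjoint_iff]
    intro z hz
    exact (hWle hz.2).2 hz.1
  obtain ⟨j, hj⟩ := Groth.Agent.Lib.Helper23.IdealSec.exists_ι_eq I ⟨W, hWaff⟩
    (ofS W ((Coh.structureModule X).presheaf.map (homOfLE hle).op t)) (by rw [htop]; trivial)
  refine ⟨(ClSub.idealMod I).presheaf.germ W y hyW j, ?_⟩
  rw [stalkLin_germ]
  have h5 := TopCat.Presheaf.germ_res_apply (Coh.structureModule X).presheaf (homOfLE hle) y hyW t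
  rw [← h5]
  congr 1

section Main

open Groth.Agent.Lib.R2H1.CurveDegSec Groth.Agent.Lib.R2H1.EulerAdd

variable (k : Type u) [Field k] [IsAlgClosed k] (X : Scheme.{u}) [X.Over (Spec (CommRingCat.of k))]
    [IsProper (X ↘ (Spec (CommRingCat.of k)))]

theorem resMap_bijective (x : X) (hx : IsClosed ({x} : Set X)) :
    Function.Bijective (Curv2.resMap k X x) :=
  Groth.Agent.Lib.R2H1.VBEndo.resMap_bijective k (X ↘ Spec (CommRingCat.of k)) x hx

theorem h0_quotMod_point (x : X) (hx : IsClosed ({x} : Set X)) :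
    Module.finrank k (Coh.HH X
      (ClSub.quotMod (Scheme.IdealSheafData.vanishingIdeal ⟨{x}, hx⟩)) 0) = 1 :=
  (Groth.Agent.Lib.R2H1.EllPt.bijective_resMap_iff k X x hx).1 (resMap_bijective k X x hx)

/-- `χ(m_P) - χ(O_X) = -1` -/
theorem deg_pointIdeal (P : X) (hP : IsClosed ({P} : Set X)) :
    Curv2.deg k X (ClSub.idealMod (Scheme.IdealSheafData.vanishingIdeal ⟨{P}, hP⟩)) 1 = -1 := by
  haveI := Groth.Agent.Lib.R2H1.CurveEuler.isNoetherian_of_proper k X
  set D := Scheme.IdealSheafData.vanishingIdeal ⟨{P}, hP⟩ with hD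
  have hQ : Coh.IsCoh (ClSub.quotMod D) :=
    Groth.Agent.S0019.result D.subschemeι _
      (Groth.Agent.Lib.R2H1.GenusLe.isCoh_structureModule _)
  have hO : Coh.IsCoh (Coh.structureModule X) :=
    Groth.Agent.Lib.R2H1.GenusLe.isCoh_structureModule X
  have hI : Coh.IsCoh (ClSub.idealMod D) :=
    Groth.Agent.Lib.R2H2.PdSheaf.isCoh_kernel hO hQ (ClSub.toSubscheme D)
  have hsub : CohB1.support (ClSub.quotMod D) ⊆ ({P} : Set X) := by
    refine (support_quotMod_subset D).trans ?_
    rw [hD, Scheme.IdealSheafData.coe_support_vanishingIdeal]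
    exact subset_rfl
  have hsupp : topologicalKrullDim (CohB1.support (ClSub.quotMod D)) ≤ 0 := by
    haveI : Subsingleton (CohB1.support (ClSub.quotMod D)) :=
      ⟨fun a b => Subtype.ext ((hsub a.2).trans (hsub b.2).symm)⟩
    exact topologicalKrullDim_zero_of_discreteTopology _
  have hadd := s1524 k X (idealSeq D) (idealSeq_shortExact D) hI hO hQ
  have e1 := euler_eq_h0 k X (ClSub.quotMod D) hQ hsupp
  have e2 := h0_quotMod_point k X P hP
  unfold Curv2.deg
  have h3 : Curv2.euler k X (idealSeq D).X₂ = Curv2.euler k X (Coh.structureModule X) := rfl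
  have h4 : Curv2.euler k X (idealSeq D).X₁ = Curv2.euler k X (ClSub.idealMod D) := rfl
  have h5 : Curv2.euler k X (idealSeq D).X₃ = Curv2.euler k X (ClSub.quotMod D) := rfl
  rw [h3, h4, h5, e1, e2] at hadd
  push_cast at hadd ⊢
  linarith

end Main

/-- the stalk of `m_P` at a point other than `P` is free of rank one -/
theorem finrank_stalk_idealMod (I : X.IdealSheafData) (y : X) (hy : y ∉ I.support) :
    Module.finrank (X.presheaf.stalk y) ((ClSub.idealMod I).presheaf.stalk y) = 1 := by
  have e := (LinearEquiv.ofBijective (stalkLin (ClSub.idealModι I) y)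
    (stalkLin_idealModι_bijective I y hy)).trans
      (Groth.Agent.Lib.Helper23.UnitStalk.unitStalkEquiv y).symm
  rw [e.finrank_eq, Module.finrank_self]

theorem main (k : Type u) [Field k] [IsAlgClosed k] (X : Scheme.{u})
    [X.Over (Spec (CommRingCat.of k))] [IsProper (X ↘ (Spec (CommRingCat.of k)))]
    (hequi : ∀ Z ∈ irreducibleComponents (X : Type u), topologicalKrullDim Z = 1)
    (P : X) (hP : IsClosed ({P} : Set X)) :
    TorSh.IsTorsionFree (ClSub.idealMod (Scheme.IdealSheafData.vanishingIdeal ⟨{P}, hP⟩)) ∧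
    (∀ η : X, closure ({η} : Set X) ∈ irreducibleComponents (X : Type u) →
      Module.finrank (X.presheaf.stalk η)
        ((ClSub.idealMod (Scheme.IdealSheafData.vanishingIdeal ⟨{P}, hP⟩)).presheaf.stalk η) = 1) ∧
    Curv2.deg k X (ClSub.idealMod (Scheme.IdealSheafData.vanishingIdeal ⟨{P}, hP⟩)) 1 = -1 := by
  refine ⟨isTorsionFree_of_mono (ClSub.idealModι _), fun η hη => ?_, deg_pointIdeal k X P hP⟩
  apply finrank_stalk_idealMod
  intro hmem
  have hmem' : η ∈ ((Scheme.IdealSheafData.vanishingIdeal ⟨{P}, hP⟩).support : Set X) := hmem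
  rw [Scheme.IdealSheafData.coe_support_vanishingIdeal] at hmem'
  have hηP : η = P := hmem'
  subst hηP
  have h1 := hequi _ hη
  rw [hP.closure_eq] at h1
  have h2 : topologicalKrullDim ({η} : Set X) ≤ 0 :=
    topologicalKrullDim_zero_of_discreteTopology _
  rw [h1] at h2
  exact absurd h2 (by decide)

end Groth.Agent.Lib.R2H4PointIdeal
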