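import Mathlib
import Groth.Prelude
import Groth.Agent.Lib.R2H4PointIdeal
import Groth.Agent.Lib.R2H2FinGenQC
import Groth.Agent.Lib.Helper23LocGen
import Groth.Agent.Lib.Helper23TensorMap
import Groth.Agent.Lib.R2H2PnLinRes
import Groth.Agent.Lib.R2H2CoprodSec
import Groth.Agent.Lib.Helper4ModEpi
import Groth.Agent.Lib.R2H2TensorLin
import Groth.Agent.Lib.R2H1ProjLF
import Groth.Agent.Lib.R2H4TensorPows
import Groth.Agent.Lib.R2H1CurveVanish

/-!
# `H¹(E ⊗ m_p) = 0` for globally generated bundles on curves with `H¹(O) = 0` (helper4, round 2)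

* `locGen_of_isGloballyGenerated` (copy of helper3's lemma, lighter imports),
* `h1_pointIdeal`: `H¹(m_p) = 0` if `H¹(O_X) = 0` (`X` proper over an algebraically closed field),
* `h1_tensor_pointIdeal` (S17651): a finite epimorphism `O^n ⟶ E`, tensored with `m_p`, and `H² = 0` in dimension one.
-/

set_option autoImplicit false
set_option linter.style.haveILetI false
set_option linter.unusedSectionVars false
universe u
open CategoryTheory CategoryTheory.Limits AlgebraicGeometry TopologicalSpace Opposite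

namespace Groth.Agent.Lib.R2H4GGPointTwist

open Groth.Agent.Lib.R2H2.HHLin Groth.Agent.Lib.R2H2.PnSerre Groth.Agent.Lib.R2H1.DegCartier
open Groth.Agent.Lib.R2H2.PnLinRes Groth.Agent.Lib.R2H4PointIdeal

attribute [local instance] Abelian.hasFiniteBiproducts

section LocGen

open Scheme.Modules Groth.Agent.Lib.Helper23.LocGen Groth.Agent.Lib.Helper23.SecTw
  Groth.Agent.Lib.Helper23.GenLocus Groth.Agent.Lib.Helper6

/-- a globally generated module is generated by its global sections near every point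
(copied from helper3's `R2H3TowerGG`, to avoid its heavy imports) -/
theorem locGen_of_isGloballyGenerated {X : Scheme.{u}} (N : X.Modules)
    (h : Curv2.IsGloballyGenerated N) : LocGen N ⊤ := by
  classical
  obtain ⟨ι, p, hp⟩ := h
  intro A _ m y hy
  let E : ι → X.Modules := fun _ => Coh.structureModule X
  let p' : (∐ E) ⟶ N := p
  haveI : Epi p' := hp
  obtain ⟨V, hVA, hyV, g, hg⟩ := Groth.Agent.Lib.Helper4.ModEpi.exists_app_eq_of_epi p' A m y hy
  obtain ⟨T', hT', hyT', S, hS⟩ := Groth.Agent.Lib.R2H2.CoprodSec.mem_locFin E g y hyV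
  refine ⟨T', hT'.trans hVA, hyT', ?_⟩
  set t := Groth.Agent.Lib.R2H2.SubFam.rs (∐ E) hT' g with ht
  have h1 : res N (hT'.trans hVA) m = p'.app T' t := by
    have h := Groth.Agent.Lib.Helper23.Extend.app_map p' (homOfLE hT') g
    rw [ht]
    refine Eq.trans ?_ h.symm
    rw [hg]
    exact (res_res N hVA hT' m).symm
  rw [h1]
  have h2 : p'.app T' t = ∑ j ∈ S, (Sigma.ι E j ≫ p').app T' ((Sigma.π E j).app T' t) := by
    conv_lhs => rw [← hS]
    change (Groth.Agent.Lib.R2H2.CoprodSec.eS E S ≫ p').app T' t = _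
    unfold Groth.Agent.Lib.R2H2.CoprodSec.eS
    rw [Preadditive.sum_comp]
    have h := map_sum (Groth.Agent.Lib.Helper23.Serre.evalHom (N := N) T' t)
      (fun j => (Sigma.π E j ≫ Sigma.ι E j) ≫ p') S
    refine h.trans ?_
    refine Finset.sum_congr rfl (fun j _ => ?_)
    rw [Category.assoc]
    rfl
  rw [h2]
  refine Submodule.sum_mem _ (fun j _ => ?_)
  rw [Groth.Agent.Lib.Helper23.TensorMap.app_eq_smul_sv]
  exact Submodule.smul_mem _ _ (sv_mem_gspan N _ T')

end LocGen

/-- `H¹(m_p) = 0` when `H¹(O_X) = 0` (over an algebraically closed field) -/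
theorem h1_pointIdeal (k : Type u) [Field k] [IsAlgClosed k] (X : Scheme.{u})
    [X.Over (Spec (CommRingCat.of k))] [IsProper (X ↘ (Spec (CommRingCat.of k)))] (hg : Subsingleton (Coh.HH X (Coh.structureModule X) 1))
    (p : X) (hp : IsClosed ({p} : Set X)) :
    Subsingleton (Coh.HH X (ClSub.idealMod (Scheme.IdealSheafData.vanishingIdeal ⟨{p}, hp⟩)) 1) := by
  set D := Scheme.IdealSheafData.vanishingIdeal ⟨{p}, hp⟩ with hD
  have hS := idealSeq_shortExact D
  have h1 : Module.finrank k (Coh.HH X (ClSub.quotMod D) 0) = 1 := h0_quotMod_point k X p hp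
  -- the class of `1` in `H⁰(O/m_p)` is nonzero
  have hne : HmapA k (ClSub.toSubscheme D) 0 (cls (𝟙 (Coh.structureModule X))) ≠ 0 := by
    intro h0
    rw [HmapA_apply, cls_comp, Category.id_comp] at h0
    have h2 : ClSub.toSubscheme D = 0 := eq_zero_of_cls _ h0
    haveI : Epi (ClSub.toSubscheme D) := hS.epi_g
    have h3 : (𝟙 (ClSub.quotMod D)) = 0 := by
      rw [← cancel_epi (ClSub.toSubscheme D), Category.comp_id, comp_zero, h2]
    have h4 : ∀ x : Coh.HH X (ClSub.quotMod D) 0, x = 0 := fun x => by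
      rw [← HmapL_id (ClSub.quotMod D) 0 x, h3, HmapL_zero]
    haveI : Subsingleton (Coh.HH X (ClSub.quotMod D) 0) :=
      subsingleton_of_forall_eq 0 h4
    rw [Module.finrank_zero_of_subsingleton] at h1
    exact absurd h1 (by decide)
  have hsurj : ∀ y : Coh.HH X (ClSub.quotMod D) 0,
      ∃ x : Coh.HH X (Coh.structureModule X) 0, HmapL (ClSub.toSubscheme D) 0 x = y := fun y => by
    obtain ⟨c, hc⟩ := (finrank_eq_one_iff_of_nonzero' _ hne).1 h1 y
    refine ⟨c • cls (𝟙 (Coh.structureModule X)), ?_⟩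
    rw [← HmapA_apply k, map_smul]
    exact hc
  refine subsingleton_of_forall_eq 0 fun z => ?_
  haveI : Subsingleton (Coh.HH X (idealSeq D).X₂ (0 + 1)) := hg
  obtain ⟨x₃, hx₃⟩ := exact₁ (idealSeq D) hS 0 z (Subsingleton.elim _ _)
  obtain ⟨x₂, hx₂⟩ := hsurj x₃
  rw [← hx₃, ← hx₂]
  exact deltaL_HmapL_g (idealSeq D) hS 0 x₂

/-- `H¹(E ⊗ m_p) = 0` for a globally generated finite locally free `E` on a proper scheme of
dimension at most one with `H¹(O) = 0` -/
theorem h1_tensor_pointIdeal (k : Type u) [Field k] [IsAlgClosed k] (X : Scheme.{u})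
    [X.Over (Spec (CommRingCat.of k))] [IsProper (X ↘ (Spec (CommRingCat.of k)))]
    (hdim : topologicalKrullDim X ≤ 1)
    (hg : Subsingleton (Coh.HH X (Coh.structureModule X) 1))
    (E : X.Modules) (hE : FlatMod.IsFinLocFree E) (hgg : Curv2.IsGloballyGenerated E)
    (p : X) (hp : IsClosed ({p} : Set X)) :
    Subsingleton (Coh.HH X (CohB1.tensorMod E
      (ClSub.idealMod (Scheme.IdealSheafData.vanishingIdeal ⟨{p}, hp⟩))) 1) := by
  haveI := Groth.Agent.Lib.R2H1.CurveEuler.isNoetherian_of_proper k X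
  haveI : CompactSpace X :=
    QuasiCompact.compactSpace_of_compactSpace (X ↘ Spec (CommRingCat.of k))
  set D := Scheme.IdealSheafData.vanishingIdeal ⟨{p}, hp⟩ with hD
  have cE : Coh.IsCoh E := Groth.Agent.Lib.R2H2.PnLocFree.isCoh_of_isFinLocFree E hE
  haveI : E.IsQuasicoherent := cE.1
  haveI : SheafOfModules.IsFiniteType (R := X.ringCatSheaf) E := cE.2
  obtain ⟨n, q, hq⟩ := Groth.Agent.Lib.R2H2.FinGenQC.exists_finite_epi_of_locGen E
    (fun x => ⟨⊤, trivial, locGen_of_isGloballyGenerated E hgg⟩)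
  have hO : Coh.IsCoh (Coh.structureModule X) :=
    Groth.Agent.Lib.R2H1.GenusLe.isCoh_structureModule X
  have hQ : Coh.IsCoh (ClSub.quotMod D) :=
    Groth.Agent.S0019.result D.subschemeι _
      (Groth.Agent.Lib.R2H1.GenusLe.isCoh_structureModule _)
  have hI : Coh.IsCoh (ClSub.idealMod D) :=
    Groth.Agent.Lib.R2H2.PdSheaf.isCoh_kernel hO hQ (ClSub.toSubscheme D)
  have cF : Coh.IsCoh (FlatMod.freeMod X n) :=
    Groth.Agent.Lib.R2H2.PnLocFree.isCoh_of_isFinLocFree _
      (Groth.Agent.Lib.Helper2.LocFree.isFinLocFree_of_iso_freeMod _ (Iso.refl _))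
  let T : X.Modules ⥤ X.Modules := DCoh.tensorBi.obj (ClSub.idealMod D)
  haveI : PreservesFiniteColimits T :=
    Groth.Agent.Lib.R2H1.ProjLF.preservesFiniteColimits_tensorBi_obj (ClSub.idealMod D)
  haveI : T.PreservesEpimorphisms := preservesEpimorphisms_of_preservesColimitsOfShape T
  haveI : Epi (T.map q) := inferInstance
  -- the free part
  have h0 : Subsingleton (Coh.HH X (T.obj (Coh.structureModule X)) 1) :=
    subsingleton_HH_of_iso (SecTwist.unitorR (ClSub.idealMod D)).symm 1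
      (h1_pointIdeal k X hg p hp)
  have hfree : Subsingleton (Coh.HH X (T.obj (FlatMod.freeMod X n)) 1) := by
    have e1 : T.obj (∐ fun _ : Fin n => Coh.structureModule X) ≅
        ∐ fun _ : Fin n => T.obj (Coh.structureModule X) :=
      PreservesCoproduct.iso T _
    have e2 : (⨁ fun _ : Fin n => T.obj (Coh.structureModule X)) ≅
        ∐ fun _ : Fin n => T.obj (Coh.structureModule X) := biproduct.isoCoproduct _
    exact subsingleton_HH_of_iso (e2 ≪≫ e1.symm) 1
      (subsingleton_HH_biproduct _ 1 (fun _ => h0))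
  -- the kernel
  let S : ShortComplex X.Modules := ShortComplex.mk (kernel.ι (T.map q)) (T.map q)
    (kernel.condition _)
  have hS : S.ShortExact := Groth.Agent.Lib.Helper17.Res.kernel_shortExact (T.map q)
  have c₂ : Coh.IsCoh (T.obj (FlatMod.freeMod X n)) :=
    Groth.Agent.Lib.R2H4SSDescent.isCoh_tensorMod _ _ hI cF
  have c₃ : Coh.IsCoh (T.obj E) :=
    Groth.Agent.Lib.R2H4SSDescent.isCoh_tensorMod _ _ hI cE
  have c₁ : Coh.IsCoh (kernel (T.map q)) :=
    Groth.Agent.Lib.R2H2.PdSheaf.isCoh_kernel c₂ c₃ (T.map q)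
  haveI hK : Subsingleton (Coh.HH X S.X₁ (1 + 1)) :=
    Groth.Agent.Lib.R2H1.CurveVanish.subsingleton_HH_of_dim_le_one X
      (X ↘ Spec (CommRingCat.of k)) hdim _ c₁.1 2 le_rfl
  haveI hX₂ : Subsingleton (Coh.HH X S.X₂ 1) := hfree
  have hTE : Subsingleton (Coh.HH X (T.obj E) 1) := by
    refine subsingleton_of_forall_eq 0 fun y => ?_
    obtain ⟨x₂, hx₂⟩ := exact₃ S hS 1 y (Subsingleton.elim _ _)
    rw [← hx₂, Subsingleton.elim x₂ 0, map_zero]
  exact subsingleton_HH_of_iso (Groth.Agent.Lib.R2H4TensorPows.tComm (ClSub.idealMod D) E) 1 hTE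

end Groth.Agent.Lib.R2H4GGPointTwist
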