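import Mathlib

set_option autoImplicit false
universe u v
open TensorProduct

namespace Groth.Agent.Lib.R2H4GaloisCore

variable {A B : Type u} [CommRing A] [CommRing B] [Algebra B A] {G : Type v} [Group G]
  [MulSemiringAction G A] [SMulCommClass G B A]

/-- the action is free: no `g ≠ 1` fixes a prime "with its residue field" -/
def FreeAct (A : Type u) [CommRing A] (G : Type v) [Group G] [MulSemiringAction G A] : Prop :=
  ∀ g : G, g ≠ 1 → Ideal.span (Set.range fun a : A => g • a - a) = ⊤

open scoped Classical in
/-- a Galois coordinate system: `∑ xᵢ g(yᵢ) = δ_{g,1}` -/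
def IsGaloisCoord {n : ℕ} (x y : Fin n → A) : Prop :=
  ∀ g : G, ∑ i, x i * (g • y i) = if g = 1 then 1 else 0

section psi

variable (A B G)

/-- `a' ↦ (g ↦ g • a')` -/
noncomputable def twist : A →ₐ[B] (G → A) :=
  AlgHom.pi (fun g : G => MulSemiringAction.toAlgHom B A g)

/-- `a ⊗ a' ↦ (g ↦ a * g • a')` -/
noncomputable def psi : A ⊗[B] A →ₐ[A] (G → A) :=
  Algebra.TensorProduct.lift (Algebra.ofId A (G → A)) (twist A B G) (fun _ _ => Commute.all _ _)

variable {A B G}

theorem psi_tmul (a a' : A) (g : G) : psi A B G (a ⊗ₜ a') g = a * g • a' := by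
  rw [psi, Algebra.TensorProduct.lift_tmul]
  rfl

theorem psi_sum {n : ℕ} (x y : Fin n → A) (g : G) :
    psi A B G (∑ i, x i ⊗ₜ[B] y i) g = ∑ i, x i * g • y i := by
  rw [map_sum, Finset.sum_apply]
  exact Finset.sum_congr rfl fun i _ => psi_tmul _ _ _

end psi

section exist

variable [Finite G]

include B in
variable (B) in
theorem exists_isGaloisCoord (hfree : FreeAct A G) :
    ∃ (n : ℕ) (x y : Fin n → A), IsGaloisCoord (G := G) x y := by
  classical
  letI := Fintype.ofFinite G
  let R := (psi A B G).range
  have hR1 : ∀ a : A, (fun g : G => g • a) ∈ R := fun a => ⟨1 ⊗ₜ a, funext fun g => by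
    change psi A B G (1 ⊗ₜ a) g = _
    rw [psi_tmul, one_mul]⟩
  have hR2 : ∀ a : A, (fun _ : G => a) ∈ R := fun a => ⟨a ⊗ₜ 1, funext fun g => by
    change psi A B G (a ⊗ₜ 1) g = _
    rw [psi_tmul, smul_one, mul_one]⟩
  -- for each `g ≠ 1` an element of `R` which is `0` at `1` and `1` at `g`
  have hr : ∀ g : G, g ≠ 1 → ∃ r : G → A, r ∈ R ∧ r 1 = 0 ∧ r g = 1 := by
    intro g hg
    have h1 : (1 : A) ∈ Ideal.span (Set.range fun a : A => g • a - a) := by
      rw [hfree g hg]; trivial
    obtain ⟨c, hc⟩ := Finsupp.mem_ideal_span_range_iff_exists_finsupp.mp h1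
    refine ⟨c.sum fun k ck => (fun _ : G => ck) * ((fun h : G => h • k) - fun _ : G => k), ?_, ?_, ?_⟩
    · exact R.sum_mem fun k _ => R.mul_mem (hR2 _) (R.sub_mem (hR1 _) (hR2 _))
    · rw [Finsupp.sum, Finset.sum_apply]
      refine Finset.sum_eq_zero fun k _ => ?_
      simp
    · rw [Finsupp.sum, Finset.sum_apply]
      rw [Finsupp.sum] at hc
      rw [← hc]
      rfl
  choose! r hrR hr1 hrg using hr
  let e : G → A := ∏ g ∈ Finset.univ.erase (1 : G), (1 - r g)
  have heR : e ∈ R := R.prod_mem fun g hg =>
    R.sub_mem R.one_mem (hrR g (Finset.ne_of_mem_erase hg))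
  have he1 : e 1 = 1 := by
    change (∏ g ∈ Finset.univ.erase (1 : G), (1 - r g)) 1 = 1
    rw [Finset.prod_apply]
    refine Finset.prod_eq_one fun g hg => ?_
    rw [Pi.sub_apply, hr1 g (Finset.ne_of_mem_erase hg), Pi.one_apply, sub_zero]
  have heg : ∀ g : G, g ≠ 1 → e g = 0 := by
    intro g hg
    change (∏ h ∈ Finset.univ.erase (1 : G), (1 - r h)) g = 0
    rw [Finset.prod_apply]
    refine Finset.prod_eq_zero (Finset.mem_erase.mpr ⟨hg, Finset.mem_univ g⟩) ?_
    rw [Pi.sub_apply, hrg g hg, Pi.one_apply, sub_self]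
  obtain ⟨z, hz⟩ := heR
  obtain ⟨n, x, y, rfl⟩ := TensorProduct.exists_sum_tmul_eq z
  refine ⟨n, x, y, fun g => ?_⟩
  have hz' : psi A B G (∑ i, x i ⊗ₜ[B] y i) = e := hz
  rw [← psi_sum (B := B), hz']
  by_cases hg : g = 1
  · rw [if_pos hg, hg, he1]
  · rw [if_neg hg, heg g hg]

end exist

section conseq

variable [Fintype G] [Algebra.IsInvariant B A G] (hinj : Function.Injective (algebraMap B A))

variable (B G) in
theorem exists_trace (a : A) : ∃ b : B, algebraMap B A b = ∑ g : G, g • a :=
  Algebra.IsInvariant.isInvariant (A := B) (B := A) (G := G) _ fun h => by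
    rw [Finset.smul_sum]
    simp_rw [smul_smul]
    exact Fintype.sum_equiv (Equiv.mulLeft h) _ _ fun g => rfl

variable (B G) in
/-- the trace `A → B` -/
noncomputable def trB (a : A) : B := (exists_trace B G a).choose

theorem trB_spec (a : A) : algebraMap B A (trB B G a) = ∑ g : G, g • a :=
  (exists_trace B G a).choose_spec

include hinj in
theorem trB_add (a a' : A) : trB B G (a + a') = trB B G a + trB B G a' := by
  apply hinj
  rw [map_add, trB_spec, trB_spec, trB_spec, ← Finset.sum_add_distrib]
  exact Finset.sum_congr rfl fun g _ => smul_add g a a'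

include hinj in
theorem trB_smul (b : B) (a : A) : trB B G (b • a) = b * trB B G a := by
  apply hinj
  rw [map_mul, trB_spec, trB_spec, Finset.mul_sum]
  refine Finset.sum_congr rfl fun g _ => ?_
  rw [smul_comm, Algebra.smul_def]

/-- the trace as a linear map -/
noncomputable def trL : A →ₗ[B] B where
  toFun := trB B G
  map_add' := trB_add hinj
  map_smul' := fun b a => by rw [trB_smul hinj, RingHom.id_apply, smul_eq_mul]

variable {n : ℕ} {x y : Fin n → A}

theorem dual_basis (hxy : IsGaloisCoord (G := G) x y) (a : A) :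
    a = ∑ i, x i * algebraMap B A (trB B G (y i * a)) := by
  classical
  simp_rw [trB_spec (G := G), smul_mul', Finset.mul_sum]
  rw [Finset.sum_comm]
  have h1 : ∀ g : G, ∑ i, x i * (g • y i * g • a) = (if g = 1 then 1 else 0) * g • a := by
    intro g
    rw [← hxy g, Finset.sum_mul]
    exact Finset.sum_congr rfl fun i _ => (mul_assoc _ _ _).symm
  simp_rw [h1]
  rw [Finset.sum_eq_single (1 : G)]
  · rw [if_pos rfl, one_mul, one_smul]
  · intro g _ hg
    rw [if_neg hg, zero_mul]
  · intro h
    exact absurd (Finset.mem_univ _) h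

include hinj in
theorem projective_of_isGaloisCoord (hxy : IsGaloisCoord (G := G) x y) :
    Module.Projective B A ∧ Module.Finite B A := by
  let i : A →ₗ[B] (Fin n → B) := LinearMap.pi fun k => (trL (G := G) hinj).comp (LinearMap.mulLeft B (y k))
  let s : (Fin n → B) →ₗ[B] A := Fintype.linearCombination B x
  have hsi : s.comp i = LinearMap.id := by
    ext a
    change Fintype.linearCombination B x (fun k => trB B G (y k * a)) = a
    rw [Fintype.linearCombination_apply]
    conv_rhs => rw [dual_basis (B := B) hxy a]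
    refine Finset.sum_congr rfl fun k _ => ?_
    rw [Algebra.smul_def, mul_comm]
  refine ⟨Module.Projective.of_split i s hsi, Module.Finite.of_surjective s fun a => ⟨i a, ?_⟩⟩
  exact congrArg (fun f => f a) hsi

open scoped Classical in
theorem galois_orth (hxy : IsGaloisCoord (G := G) x y) (g h : G) :
    ∑ i, (h • x i) * (g • y i) = if g = h then 1 else 0 := by
  classical
  have h1 := congrArg (fun a => h • a) (hxy (h⁻¹ * g))
  simp only [Finset.smul_sum, smul_mul', smul_smul, mul_inv_cancel_left] at h1
  rw [h1]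
  by_cases hgh : g = h
  · rw [if_pos hgh, if_pos (by rw [hgh, inv_mul_cancel]), smul_one]
  · rw [if_neg hgh, if_neg (fun hh => hgh (by rw [inv_mul_eq_one] at hh; exact hh.symm)), smul_zero]

/-- the comparison map out of a pushout `T` of `A ← B → A` to `∏_G A` is bijective -/
theorem bijective_pushout (hxy : IsGaloisCoord (G := G) x y) {T : Type*} [CommRing T]
    (inl inr : A →+* T)
    (hcomm : ∀ b : B, inl (algebraMap B A b) = inr (algebraMap B A b))
    (hgen : ∀ t : T, ∃ (m : ℕ) (u v : Fin m → A), t = ∑ k, inl (u k) * inr (v k))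
    (μ : G → T →+* A) (hμl : ∀ g a, μ g (inl a) = a) (hμr : ∀ g a, μ g (inr a) = g • a) :
    Function.Bijective (fun (t : T) (g : G) => μ g t) := by
  classical
  constructor
  · have key : ∀ t : T, (∀ g, μ g t = 0) → t = 0 := by
      intro t ht
      obtain ⟨m, u, v, rfl⟩ := hgen t
      have hμ : ∀ g : G, ∑ k, u k * g • v k = 0 := by
        intro g
        have := ht g
        simpa [map_sum, map_mul, hμl, hμr] using this
      have h1 : ∀ k, inr (v k) = ∑ i, inr (x i) * inl (algebraMap B A (trB B G (y i * v k))) := by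
        intro k
        conv_lhs => rw [dual_basis (B := B) hxy (v k)]
        rw [map_sum]
        exact Finset.sum_congr rfl fun i _ => by rw [map_mul, hcomm]
      simp_rw [h1, Finset.mul_sum]
      rw [Finset.sum_comm]
      refine Finset.sum_eq_zero fun i _ => ?_
      have h2 : ∑ k, inl (u k) * (inr (x i) * inl (algebraMap B A (trB B G (y i * v k)))) =
          inr (x i) * inl (∑ k, u k * algebraMap B A (trB B G (y i * v k))) := by
        rw [map_sum, Finset.mul_sum]
        refine Finset.sum_congr rfl fun k _ => ?_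
        rw [map_mul]; ring
      rw [h2]
      have h3 : ∑ k, u k * algebraMap B A (trB B G (y i * v k)) = 0 := by
        simp_rw [trB_spec (G := G), smul_mul', Finset.mul_sum]
        rw [Finset.sum_comm]
        refine Finset.sum_eq_zero fun g _ => ?_
        have : ∑ k, u k * (g • y i * g • v k) = g • y i * ∑ k, u k * g • v k := by
          rw [Finset.mul_sum]
          exact Finset.sum_congr rfl fun k _ => by ring
        rw [this, hμ g, mul_zero]
      rw [h3, map_zero, mul_zero]
    intro t t' htt'
    rw [← sub_eq_zero]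
    apply key
    intro g
    rw [map_sub, sub_eq_zero]
    exact congrFun htt' g
  · intro c
    refine ⟨∑ h, inl (c h) * ∑ i, inl (h • x i) * inr (y i), ?_⟩
    ext g
    simp only [map_sum, map_mul, hμl, hμr]
    simp_rw [galois_orth hxy]
    rw [Finset.sum_eq_single g]
    · rw [if_pos rfl, mul_one]
    · intro h _ hh
      rw [if_neg (Ne.symm hh), mul_zero]
    · intro h
      exact absurd (Finset.mem_univ _) h

/-- with a section, `A ≅ ∏_G B` -/
theorem bijective_section (hxy : IsGaloisCoord (G := G) x y) (sec : A →+* B)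
    (hsec : ∀ b : B, sec (algebraMap B A b) = b) :
    Function.Bijective (fun (a : A) (g : G) => sec (g • a)) := by
  classical
  constructor
  · have key : ∀ a : A, (∀ g : G, sec (g • a) = 0) → a = 0 := by
      intro a ha
      rw [dual_basis (B := B) hxy a]
      refine Finset.sum_eq_zero fun i _ => ?_
      have : trB B G (y i * a) = 0 := by
        rw [← hsec (trB B G (y i * a)), trB_spec (G := G), map_sum]
        refine Finset.sum_eq_zero fun g _ => ?_
        rw [smul_mul', map_mul, ha g, mul_zero]
      rw [this, map_zero, mul_zero]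
    intro a a' haa'
    rw [← sub_eq_zero]
    apply key
    intro g
    rw [smul_sub, map_sub, sub_eq_zero]
    exact congrFun haa' g
  · intro c
    refine ⟨∑ h, algebraMap B A (c h) * ∑ i, algebraMap B A (sec (h • x i)) * y i, ?_⟩
    ext g
    simp only [Finset.smul_sum, smul_mul', smul_algebraMap, map_sum, map_mul, hsec]
    have h1 : ∀ h : G, ∑ i, sec (h • x i) * sec (g • y i) = if g = h then 1 else 0 := by
      intro h
      have := congrArg sec (galois_orth hxy g h)
      rw [map_sum] at this
      simp_rw [map_mul] at this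
      rw [this, apply_ite sec, map_one, map_zero]
    simp_rw [h1]
    rw [Finset.sum_eq_single g]
    · rw [if_pos rfl, mul_one]
    · intro h _ hh
      rw [if_neg (Ne.symm hh), mul_zero]
    · intro h
      exact absurd (Finset.mem_univ _) h

end conseq

end Groth.Agent.Lib.R2H4GaloisCore
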