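import Mathlib
import Groth.Agent.Lib.R2H4GaloisCore

set_option autoImplicit false
universe u v
open TensorProduct

namespace Groth.Agent.Lib.R2H4GaloisInertia

open Groth.Agent.Lib.R2H4GaloisCore

variable {A : Type u} [CommRing A] {G : Type v} [Group G] [MulSemiringAction G A]

/-- idempotents `ε g` cutting out the locus where `g` acts trivially -/
structure IsInertiaIdem (ε : G → A) : Prop where
  idem : ∀ g, IsIdempotentElem (ε g)
  span : ∀ g, Ideal.span (Set.range fun a : A => g • a - a) = Ideal.span {1 - ε g}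

namespace IsInertiaIdem

variable {ε : G → A} (hε : IsInertiaIdem ε)
include hε

theorem eps_mul_sub (g : G) (a : A) : ε g * (g • a - a) = 0 := by
  have h1 : g • a - a ∈ Ideal.span {1 - ε g} := by
    rw [← hε.span g]; exact Ideal.subset_span ⟨a, rfl⟩
  obtain ⟨r, hr⟩ := Ideal.mem_span_singleton'.mp h1
  rw [← hr, mul_comm r, ← mul_assoc, mul_sub, mul_one, (hε.idem g).eq, sub_self, zero_mul]

theorem eps_mul_smul (g : G) (a : A) : ε g * g • a = ε g * a := by
  have := hε.eps_mul_sub g a
  rw [mul_sub, sub_eq_zero] at this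
  exact this

theorem one : ε 1 = 1 := by
  have h1 : (1 - ε 1 : A) ∈ Ideal.span (Set.range fun a : A => (1 : G) • a - a) := by
    rw [hε.span 1]; exact Ideal.subset_span rfl
  have h2 : Ideal.span (Set.range fun a : A => (1 : G) • a - a) = ⊥ := by
    rw [Ideal.span_eq_bot]
    rintro _ ⟨a, rfl⟩
    change (1 : G) • a - a = 0
    rw [one_smul, sub_self]
  rw [h2, Ideal.mem_bot, sub_eq_zero] at h1
  exact h1.symm

theorem one_sub_mem (g : G) : 1 - ε g ∈ Ideal.span (Set.range fun a : A => g • a - a) := by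
  rw [hε.span g]; exact Ideal.subset_span rfl

theorem inv (g : G) : ε g⁻¹ = ε g := by
  -- the two ideals coincide
  have hle : ∀ g : G, Ideal.span (Set.range fun a : A => g⁻¹ • a - a) ≤
      Ideal.span (Set.range fun a : A => g • a - a) := by
    intro g
    rw [Ideal.span_le]
    rintro _ ⟨a, rfl⟩
    change g⁻¹ • a - a ∈ Ideal.span (Set.range fun a : A => g • a - a)
    have : g⁻¹ • a - a = -(g • (g⁻¹ • a) - g⁻¹ • a) := by rw [smul_inv_smul]; ring
    rw [this]
    exact neg_mem (Ideal.subset_span ⟨g⁻¹ • a, rfl⟩)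
  -- `(1 - ε g⁻¹) * ε g = 0` and symmetrically
  have key : ∀ g : G, (1 - ε g⁻¹) * ε g = 0 := by
    intro g
    have h1 : 1 - ε g⁻¹ ∈ Ideal.span {1 - ε g} := by
      rw [← hε.span g]; exact hle g (hε.one_sub_mem g⁻¹)
    obtain ⟨r, hr⟩ := Ideal.mem_span_singleton'.mp h1
    rw [← hr, mul_assoc, sub_mul, one_mul, (hε.idem g).eq, sub_self, mul_zero]
  have h1 := key g
  have h2 := key g⁻¹
  rw [inv_inv] at h2
  rw [sub_mul, one_mul, sub_eq_zero] at h1 h2
  rw [h2, mul_comm, ← h1]

theorem smul_self (g : G) : g • ε g = ε g := by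
  have h1 := hε.eps_mul_smul g (ε g)
  rw [(hε.idem g).eq] at h1
  have h2 := hε.eps_mul_smul g⁻¹ (ε g)
  rw [hε.inv g, (hε.idem g).eq] at h2
  have h3 := congrArg (fun a => g • a) h2
  simp only [smul_mul', smul_inv_smul] at h3
  rw [← h3, mul_comm, h1]

theorem triv (g : G) (a : A) : g • (ε g * a) = ε g * a := by
  rw [smul_mul', hε.smul_self, hε.eps_mul_smul]

theorem eps_mul_mul (g h : G) : ε g * ε h * (1 - ε (g * h)) = 0 := by
  obtain ⟨c, hc⟩ := Finsupp.mem_ideal_span_range_iff_exists_finsupp.mp (hε.one_sub_mem (g * h))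
  rw [← hc, Finsupp.sum, Finset.mul_sum]
  refine Finset.sum_eq_zero fun k _ => ?_
  have h1 : ε g * ε h * ((g * h) • k) = ε g * ε h * k := by
    rw [mul_smul, mul_comm (ε g), mul_assoc, hε.eps_mul_smul g, ← mul_assoc, mul_comm (ε h),
      mul_assoc, hε.eps_mul_smul h, mul_assoc]
  rw [mul_comm (c k), ← mul_assoc, mul_sub, h1, sub_self, zero_mul]

end IsInertiaIdem

section coord

variable (B : Type u) [CommRing B] [Algebra B A] [SMulCommClass G B A] [Finite G]

theorem prod_mul_eq {ι : Type*} (s : Finset ι) (u : ι → A) (e : A) (h : ∀ i ∈ s, u i * e = e) :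
    (∏ i ∈ s, u i) * e = e := by
  classical
  induction s using Finset.induction_on with
  | empty => simp
  | insert a s ha ih =>
    rw [Finset.prod_insert ha, mul_assoc, ih fun i hi => h i (Finset.mem_insert_of_mem hi),
      h a (Finset.mem_insert_self a s)]

include B in
theorem exists_coord {ε : G → A} (hε : IsInertiaIdem ε) :
    ∃ (n : ℕ) (x y : Fin n → A), ∀ g : G, ∑ i, x i * (g • y i) = ε g := by
  classical
  letI := Fintype.ofFinite G
  let R := (psi A B G).range
  have hR1 : ∀ a : A, (fun g : G => g • a) ∈ R := fun a => ⟨1 ⊗ₜ a, funext fun g => by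
    change psi A B G (1 ⊗ₜ a) g = _
    rw [psi_tmul, one_mul]⟩
  have hR2 : ∀ a : A, (fun _ : G => a) ∈ R := fun a => ⟨a ⊗ₜ 1, funext fun g => by
    change psi A B G (a ⊗ₜ 1) g = _
    rw [psi_tmul, smul_one, mul_one]⟩
  have hr : ∀ g : G, ∃ r : G → A, r ∈ R ∧ r g = 1 - ε g ∧ ∀ h, r h * ε h = 0 := by
    intro g
    obtain ⟨c, hc⟩ := Finsupp.mem_ideal_span_range_iff_exists_finsupp.mp (hε.one_sub_mem g)
    refine ⟨c.sum fun k ck => (fun _ : G => ck) * ((fun h : G => h • k) - fun _ : G => k), ?_, ?_, ?_⟩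
    · exact R.sum_mem fun k _ => R.mul_mem (hR2 _) (R.sub_mem (hR1 _) (hR2 _))
    · rw [Finsupp.sum, Finset.sum_apply]
      rw [Finsupp.sum] at hc
      rw [← hc]
      rfl
    · intro h
      rw [Finsupp.sum, Finset.sum_apply, Finset.sum_mul]
      refine Finset.sum_eq_zero fun k _ => ?_
      change c k * (h • k - k) * ε h = 0
      rw [mul_assoc, mul_comm (h • k - k), hε.eps_mul_sub, mul_zero]
  choose r hrR hrg hrε using hr
  let E : G → A := ∏ g : G, (1 - r g)
  have hER : E ∈ R := R.prod_mem fun g _ => R.sub_mem R.one_mem (hrR g)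
  have hE : ∀ h : G, E h = ε h := by
    intro h
    have h0 : E h = ∏ g : G, (1 - r g h) := by
      change (∏ g : G, (1 - r g)) h = _
      rw [Finset.prod_apply]
      rfl
    have h1 : E h * ε h = ε h := by
      rw [h0]
      refine prod_mul_eq _ _ _ fun g _ => ?_
      rw [sub_mul, one_mul, hrε g h, sub_zero]
    have h2 : E h * (1 - ε h) = 0 := by
      rw [h0, ← Finset.mul_prod_erase _ _ (Finset.mem_univ h), hrg h, sub_sub_cancel, mul_assoc,
        mul_comm, mul_assoc, sub_mul, one_mul, (hε.idem h).eq, sub_self, mul_zero]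
    have h3 : E h = E h * ε h + E h * (1 - ε h) := by ring
    rw [h3, h1, h2, add_zero]
  obtain ⟨z, hz⟩ := hER
  obtain ⟨n, x, y, rfl⟩ := TensorProduct.exists_sum_tmul_eq z
  refine ⟨n, x, y, fun g => ?_⟩
  have hz' : psi A B G (∑ i, x i ⊗ₜ[B] y i) = E := hz
  rw [← psi_sum (B := B), hz', hE]

end coord

section strata

variable [Fintype G] [DecidableEq G] (ε : G → A)

/-- the idempotent of the stratum where the inertia is exactly `S` -/
def eS (S : Finset G) : A := (∏ g ∈ S, ε g) * ∏ g ∈ Sᶜ, (1 - ε g)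

theorem sum_eS : ∑ S : Finset G, eS ε S = 1 := by
  have h := Finset.prod_add ε (fun g => 1 - ε g) (Finset.univ : Finset G)
  have h1 : ∏ g : G, (ε g + (1 - ε g)) = 1 := Finset.prod_eq_one fun g _ => by ring
  rw [h1, Finset.powerset_univ] at h
  rw [h]
  refine Finset.sum_congr rfl fun S _ => ?_
  rw [eS, Finset.compl_eq_univ_sdiff]

variable {ε}

theorem eS_mul_of_mem (hε : IsInertiaIdem ε) {S : Finset G} {g : G} (hg : g ∈ S) :
    eS ε S * ε g = eS ε S := by
  rw [eS, ← Finset.mul_prod_erase S ε hg]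
  have := (hε.idem g).eq
  calc ((ε g * ∏ x ∈ S.erase g, ε x) * ∏ g ∈ Sᶜ, (1 - ε g)) * ε g
      = ((ε g * ε g) * ∏ x ∈ S.erase g, ε x) * ∏ g ∈ Sᶜ, (1 - ε g) := by ring
    _ = _ := by rw [this]

theorem eS_mul_of_not_mem (hε : IsInertiaIdem ε) {S : Finset G} {g : G} (hg : g ∉ S) :
    eS ε S * ε g = 0 := by
  have hg' : g ∈ Sᶜ := Finset.mem_compl.mpr hg
  rw [eS, ← Finset.mul_prod_erase Sᶜ (fun g => 1 - ε g) hg']
  have := (hε.idem g).eq
  calc (∏ g ∈ S, ε g) * ((1 - ε g) * ∏ x ∈ Sᶜ.erase g, (1 - ε x)) * ε g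
      = (ε g - ε g * ε g) * ((∏ g ∈ S, ε g) * ∏ x ∈ Sᶜ.erase g, (1 - ε x)) := by ring
    _ = 0 := by rw [this, sub_self, zero_mul]

theorem mem_of_mem_closure (hε : IsInertiaIdem ε) {S : Finset G} (hS : eS ε S ≠ 0) {k : G}
    (hk : k ∈ Subgroup.closure (S : Set G)) : k ∈ S := by
  have hone : (1 : G) ∈ S := by
    by_contra h
    have := eS_mul_of_not_mem hε h
    rw [hε.one, mul_one] at this
    exact hS this
  have hmul : ∀ g h : G, g ∈ S → h ∈ S → g * h ∈ S := by
    intro g h hg hh
    by_contra hgh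
    apply hS
    have h1 : eS ε S = eS ε S * (ε g * ε h * (1 - ε (g * h))) := by
      have e1 : eS ε S * (ε g * ε h * (1 - ε (g * h))) =
          eS ε S * ε g * ε h - eS ε S * ε (g * h) * (ε g * ε h) := by ring
      rw [e1, eS_mul_of_mem hε hg, eS_mul_of_mem hε hh, eS_mul_of_not_mem hε hgh, zero_mul,
        sub_zero]
    rw [h1, hε.eps_mul_mul, mul_zero]
  have hinv : ∀ g : G, g ∈ S → g⁻¹ ∈ S := by
    intro g hg
    by_contra hg'
    apply hS
    have h1 := eS_mul_of_not_mem hε hg'
    rw [hε.inv, eS_mul_of_mem hε hg] at h1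
    exact h1
  induction hk using Subgroup.closure_induction with
  | mem x hx => exact hx
  | one => exact hone
  | mul x y _ _ hx hy => exact hmul x y hx hy
  | inv x _ hx => exact hinv x hx

theorem smul_eS_mul (hε : IsInertiaIdem ε) {S : Finset G} (hS : eS ε S ≠ 0) {k : G}
    (hk : k ∈ Subgroup.closure (S : Set G)) (a : A) : k • (eS ε S * a) = eS ε S * a := by
  have hkS := mem_of_mem_closure hε hS hk
  have h1 : eS ε S * a = ε k * (eS ε S * a) := by
    rw [← mul_assoc, mul_comm (ε k), eS_mul_of_mem hε hkS]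
  rw [h1, hε.triv]

end strata

section trace

variable [Fintype G] [DecidableEq G] {ε : G → A}

open scoped Classical in
/-- the stratified trace -/
noncomputable def trI (ε : G → A) (a : A) : A :=
  ∑ S : Finset G, ∑ c : G ⧸ Subgroup.closure (S : Set G), (Quotient.out c : G) • (eS ε S * a)

theorem out_smul_mem (K : Subgroup G) (g : G) (c : G ⧸ K) :
    (Quotient.out (g • c) : G)⁻¹ * (g * Quotient.out c) ∈ K := by
  rw [← QuotientGroup.eq]
  rw [QuotientGroup.out_eq']
  conv_lhs => rw [← QuotientGroup.out_eq' c]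
  rfl

open scoped Classical in
theorem smul_trI (hε : IsInertiaIdem ε) (g : G) (a : A) : g • trI ε a = trI ε a := by
  unfold trI
  rw [Finset.smul_sum]
  refine Finset.sum_congr rfl fun S _ => ?_
  rw [Finset.smul_sum]
  by_cases hS : eS ε S = 0
  · simp [hS]
  · refine Fintype.sum_equiv (MulAction.toPerm g) _ _ fun c => ?_
    change g • (Quotient.out c : G) • (eS ε S * a) = (Quotient.out (g • c) : G) • (eS ε S * a)
    have hk := out_smul_mem (Subgroup.closure (S : Set G)) g c
    have h1 : g * Quotient.out c = Quotient.out (g • c) *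
        ((Quotient.out (g • c) : G)⁻¹ * (g * Quotient.out c)) := by group
    rw [← mul_smul, h1, mul_smul, smul_eS_mul hε hS hk]

open scoped Classical in
theorem dual_basisI (hε : IsInertiaIdem ε) {n : ℕ} {x y : Fin n → A}
    (hxy : ∀ g : G, ∑ i, x i * (g • y i) = ε g) (a : A) :
    a = ∑ i, x i * trI ε (y i * a) := by
  unfold trI
  simp_rw [Finset.mul_sum]
  rw [Finset.sum_comm]
  have key : ∀ S : Finset G,
      ∑ i, ∑ c : G ⧸ Subgroup.closure (S : Set G),
        x i * (Quotient.out c : G) • (eS ε S * (y i * a)) = eS ε S * a := by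
    intro S
    rw [Finset.sum_comm]
    have h1 : ∀ c : G ⧸ Subgroup.closure (S : Set G),
        ∑ i, x i * (Quotient.out c : G) • (eS ε S * (y i * a)) =
          (Quotient.out c : G) • (eS ε S * ε (Quotient.out c) * a) := by
      intro c
      have h2 : ∀ i, x i * (Quotient.out c : G) • (eS ε S * (y i * a)) =
          (x i * (Quotient.out c : G) • y i) * (Quotient.out c : G) • (eS ε S * a) := by
        intro i
        simp only [smul_mul']
        ring
      simp_rw [h2]
      rw [← Finset.sum_mul, hxy, smul_mul', smul_mul', smul_mul', hε.smul_self]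
      ring
    simp_rw [h1]
    by_cases hS : eS ε S = 0
    · simp [hS]
    · rw [Finset.sum_eq_single ((1 : G) : G ⧸ Subgroup.closure (S : Set G))]
      · have hk : (Quotient.out ((1 : G) : G ⧸ Subgroup.closure (S : Set G)) : G) ∈
            Subgroup.closure (S : Set G) := by
          have := QuotientGroup.eq.mp (QuotientGroup.out_eq' ((1 : G) : G ⧸ Subgroup.closure (S : Set G)))
          rw [mul_one] at this
          exact inv_mem_iff.mp this
        rw [eS_mul_of_mem hε (mem_of_mem_closure hε hS hk), smul_eS_mul hε hS hk]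
      · intro c _ hc
        have hnot : (Quotient.out c : G) ∉ S := by
          intro hmem
          apply hc
          have h3 : (Quotient.out c : G) ∈ Subgroup.closure (S : Set G) :=
            Subgroup.subset_closure hmem
          rw [← QuotientGroup.out_eq' c]
          exact QuotientGroup.eq.mpr (by rw [mul_one]; exact inv_mem h3)
        rw [eS_mul_of_not_mem hε hnot, zero_mul, smul_zero]
      · intro h
        exact absurd (Finset.mem_univ _) h
  simp_rw [key]
  rw [← Finset.sum_mul, sum_eS, one_mul]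

end trace

section main

variable {B : Type u} [CommRing B] [Algebra B A] [SMulCommClass G B A] [Finite G]
  [Algebra.IsInvariant B A G]

open scoped Classical in
/-- the stratified trace as a `B`-linear map -/
noncomputable def trIL [Fintype G] (B : Type u) [CommRing B] [Algebra B A] [SMulCommClass G B A]
    (ε : G → A) : A →ₗ[B] A :=
  ∑ S : Finset G, ∑ c : G ⧸ Subgroup.closure (S : Set G),
    (DistribMulAction.toLinearMap B A (Quotient.out c : G)).comp (LinearMap.mulLeft B (eS ε S))

open scoped Classical in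
theorem trIL_apply [Fintype G] (ε : G → A) (a : A) : trIL B ε a = trI ε a := by
  unfold trIL trI
  rw [LinearMap.sum_apply]
  refine Finset.sum_congr rfl fun S _ => ?_
  rw [LinearMap.sum_apply]
  rfl

/-- **Generalised Chase–Harrison–Rosenberg**: if for every `g` the ideal generated by the
`g • a - a` is generated by an idempotent, then `A` is finite projective over `B = A^G`. -/
theorem projective_of_isInertiaIdem {ε : G → A} (hε : IsInertiaIdem ε)
    (hinj : Function.Injective (algebraMap B A)) :
    Module.Projective B A ∧ Module.Finite B A := by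
  classical
  letI := Fintype.ofFinite G
  obtain ⟨n, x, y, hxy⟩ := exists_coord B hε
  let e : B ≃ₗ[B] LinearMap.range (Algebra.linearMap B A) :=
    LinearEquiv.ofInjective (Algebra.linearMap B A) hinj
  have hL : ∀ a : A, trIL B ε a ∈ LinearMap.range (Algebra.linearMap B A) := by
    intro a
    rw [trIL_apply]
    obtain ⟨b, hb⟩ := Algebra.IsInvariant.isInvariant (A := B) (B := A) (G := G) (trI ε a)
      (fun g => smul_trI hε g a)
    exact ⟨b, hb⟩
  let τ : A →ₗ[B] B := e.symm.toLinearMap.comp ((trIL B ε).codRestrict _ hL)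
  have hτ : ∀ a : A, algebraMap B A (τ a) = trI ε a := by
    intro a
    have h1 : (e (τ a) : A) = trIL B ε a := by
      change (e (e.symm _) : A) = _
      rw [LinearEquiv.apply_symm_apply]
      rfl
    rw [← trIL_apply (B := B), ← h1]
    rfl
  let i : A →ₗ[B] (Fin n → B) := LinearMap.pi fun k => τ.comp (LinearMap.mulLeft B (y k))
  let s : (Fin n → B) →ₗ[B] A := Fintype.linearCombination B x
  have hsi : s.comp i = LinearMap.id := by
    ext a
    change Fintype.linearCombination B x (fun k => τ (y k * a)) = a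
    rw [Fintype.linearCombination_apply]
    conv_rhs => rw [dual_basisI hε hxy a]
    refine Finset.sum_congr rfl fun k _ => ?_
    rw [Algebra.smul_def, hτ, mul_comm]
  refine ⟨Module.Projective.of_split i s hsi, Module.Finite.of_surjective s fun a => ⟨i a, ?_⟩⟩
  exact congrArg (fun f => f a) hsi

end main

end Groth.Agent.Lib.R2H4GaloisInertia
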