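import Mathlib
import Groth.Prelude.Def_Curv2
import Groth.Agent.Lib.Helper6BcRed
import Groth.Agent.Lib.Helper6BcRed4
import Groth.Agent.Lib.Helper6BcRed5
import Groth.Agent.Lib.Helper6GeomComp3
import Groth.Agent.Lib.Helper6GeomRegAt
import Groth.Agent.Lib.Helper28Catenary

set_option autoImplicit false
universe u
open CategoryTheory CategoryTheory.Limits AlgebraicGeometry

namespace Groth.Agent.Lib.R2H4.VarSmoothPt

variable (k : Type u) [Field k] (X : Scheme.{u}) [X.Over (Spec (CommRingCat.of k))]

attribute [local instance] Curv2.stalkAlgebra Curv2.resAlgebra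

/-- A smooth point is a geometrically reduced point. -/
theorem isGeomReducedAt_of_mem_smoothLocus
    [LocallyOfFinitePresentation (X ↘ Spec (CommRingCat.of k))] (x : X)
    (hsm : x ∈ (X ↘ Spec (CommRingCat.of k)).smoothLocus) : Curv2.IsGeomReducedAt k X x := by
  intro K _ _ x' hx'
  have : IsRegularLocalRing ((Curv2.bc k X K).presheaf.stalk x') :=
    Groth.Agent.Lib.Helper6.GeomRegAt.isRegularLocalRing_stalk_of_mem_smoothLocus k X
      (X ↘ Spec (CommRingCat.of k)) K (Spec.map (CommRingCat.ofHom (algebraMap k K))) x'
      (hx' ▸ hsm)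
  have := Groth.Agent.Lib.Helper5.isDomain_of_isRegularLocalRing
    ((Curv2.bc k X K).presheaf.stalk x')
  infer_instance

/-- An integral scheme locally of finite type over a field with a smooth point is geometrically
reduced. -/
theorem geometricallyReduced_of_smooth_point [IsIntegral X]
    [LocallyOfFiniteType (X ↘ Spec (CommRingCat.of k))] (x : X)
    (hsm : x ∈ (X ↘ Spec (CommRingCat.of k)).smoothLocus) :
    GeometricallyReduced (X ↘ Spec (CommRingCat.of k)) := by
  have : LocallyOfFinitePresentation (X ↘ Spec (CommRingCat.of k)) :=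
    LocallyOfFinitePresentation.iff_locallyOfFiniteType.mpr inferInstance
  refine Groth.Agent.Lib.Helper6.BcRed5.geometricallyReduced_of_generic k X (fun Z hZ η hη => ?_)
  refine Groth.Agent.Lib.Helper6.BcRed4.isGeomReducedAt_of_specializes k X x η ?_
    (isGeomReducedAt_of_mem_smoothLocus k X x hsm)
  rw [irreducibleComponents_eq_singleton, Set.mem_singleton_iff] at hZ
  rw [specializes_iff_mem_closure, hη.def, hZ]
  trivial

/-- The stalk at a smooth point is a regular local ring. -/
theorem isRegularLocalRing_stalk_of_mem_smoothLocus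
    [LocallyOfFinitePresentation (X ↘ Spec (CommRingCat.of k))] (x : X)
    (hsm : x ∈ (X ↘ Spec (CommRingCat.of k)).smoothLocus) :
    IsRegularLocalRing (X.presheaf.stalk x) := by
  obtain ⟨U, hxU, hU⟩ := Groth.Agent.Lib.Helper20.FlatDesc.exists_smooth_nbhd
    (X ↘ Spec (CommRingCat.of k)) x hsm
  have := Groth.Agent.Lib.Helper6.SmRegSch.isRegularLocalRing_stalk_of_smooth_over_field k U
    (U.ι ≫ (X ↘ Spec (CommRingCat.of k))) ⟨x, hxU⟩
  exact IsRegularLocalRing.of_ringEquiv
    (asIso (U.ι.stalkMap ⟨x, hxU⟩)).commRingCatIsoToRingEquiv.symm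

/-- The base field is algebraically closed in the function field of an integral scheme with a
smooth rational point. -/
theorem mem_range_of_isIntegral_generic [IsIntegral X]
    [LocallyOfFiniteType (X ↘ Spec (CommRingCat.of k))] (x : X)
    (hx : Function.Surjective (Curv2.resMap k X x))
    (hsm : x ∈ (X ↘ Spec (CommRingCat.of k)).smoothLocus)
    (a : X.residueField (genericPoint X)) (ha : IsIntegral k a) :
    a ∈ Set.range (algebraMap k (X.residueField (genericPoint X))) := by
  have : LocallyOfFinitePresentation (X ↘ Spec (CommRingCat.of k)) :=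
    LocallyOfFinitePresentation.iff_locallyOfFiniteType.mpr inferInstance
  have hreg := isRegularLocalRing_stalk_of_mem_smoothLocus k X x hsm
  have hic : IsIntegrallyClosed (X.presheaf.stalk x) :=
    Groth.Agent.Lib.Helper28.isIntegrallyClosed_of_isRegularLocalRing _
  -- the residue map at the generic point as a `k`-algebra map
  let ρ : X.functionField →ₐ[k] X.residueField (genericPoint X) :=
    { (X.residue (genericPoint X)).hom with commutes' := fun _ => rfl }
  have hρinj : Function.Injective ρ := ρ.toRingHom.injective
  obtain ⟨b, hb⟩ : ∃ b, ρ b = a := X.residue_surjective (genericPoint X) a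
  have hbint : IsIntegral k b := (isIntegral_algHom_iff ρ hρinj).mp (hb ▸ ha)
  have htower : IsScalarTower k (X.presheaf.stalk x) X.functionField := by
    refine IsScalarTower.of_algebraMap_eq' ?_
    change Curv2.stalkMap k X (genericPoint X) = RingHom.comp
      (X.presheaf.stalkSpecializes ((genericPoint_spec X).specializes trivial)).hom
      (Curv2.stalkMap k X x)
    unfold Curv2.stalkMap
    rw [← RingHom.comp_assoc, ← CommRingCat.hom_comp, X.presheaf.germ_stalkSpecializes]
  have hbintA : IsIntegral (X.presheaf.stalk x) b := hbint.tower_top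
  obtain ⟨y, hy⟩ := IsIntegrallyClosed.isIntegral_iff.mp hbintA
  have hyint : IsIntegral k y := by
    refine (isIntegral_algHom_iff (IsScalarTower.toAlgHom k (X.presheaf.stalk x) X.functionField)
      (IsFractionRing.injective (X.presheaf.stalk x) X.functionField)).mp ?_
    change IsIntegral k (algebraMap (X.presheaf.stalk x) X.functionField y)
    rw [hy]
    exact hbint
  obtain ⟨c, hc⟩ := hx (X.residue x y)
  have hmem : y - algebraMap k (X.presheaf.stalk x) c ∈
      IsLocalRing.maximalIdeal (X.presheaf.stalk x) := by
    rw [← IsLocalRing.residue_eq_zero_iff, map_sub, sub_eq_zero]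
    exact hc.symm
  have hy0 : y - algebraMap k (X.presheaf.stalk x) c = 0 := by
    by_contra hne
    have hu : IsUnit (y - algebraMap k (X.presheaf.stalk x) c) :=
      (hyint.sub isIntegral_algebraMap).isUnit hne
    exact (IsLocalRing.mem_maximalIdeal _).mp hmem hu
  refine ⟨c, ?_⟩
  rw [← hb, ← hy, sub_eq_zero.mp hy0, ← IsScalarTower.algebraMap_apply, AlgHom.commutes]

/-- A variety with a smooth rational point is geometrically integral. -/
theorem geometricallyIntegral_of_smooth_rational_point [IsIntegral X]
    [LocallyOfFiniteType (X ↘ Spec (CommRingCat.of k))] (x : X)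
    (hx : Function.Surjective (Curv2.resMap k X x))
    (hsm : x ∈ (X ↘ Spec (CommRingCat.of k)).smoothLocus) :
    GeometricallyIntegral (X ↘ Spec (CommRingCat.of k)) := by
  have h1 := geometricallyReduced_of_smooth_point k X x hsm
  have h2 : GeometricallyIrreducible (X ↘ Spec (CommRingCat.of k)) :=
    (Groth.Agent.Lib.Helper6.GeomComp.geometricallyIrreducible_iff_sepClosed_generic k X).mpr
      (fun a ha => mem_range_of_isIntegral_generic k X x hx hsm a ha.isIntegral)
  exact GeometricallyIntegral.of_geometricallyReduced_of_geometricallyIrreducible _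

end Groth.Agent.Lib.R2H4.VarSmoothPt
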