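import Mathlib
import Groth.Prelude
import Groth.Agent.Lib.R2H4GeomRedPts
import Groth.Agent.Lib.R2H4VarSmoothPt
import Groth.Agent.Lib.Helper6BcRed5

set_option autoImplicit false
set_option linter.style.haveILetI false
universe u
open CategoryTheory Limits AlgebraicGeometry TopologicalSpace Opposite

namespace Groth.Agent.Lib.R2H4GeomRedSmooth

/-- a dense open of a Noetherian space contains the generic points of irreducible components -/
theorem mem_of_dense_of_component {T : Type*} [TopologicalSpace T] [NoetherianSpace T]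
    (O : Set T) (hOo : IsOpen O) (hO : Dense O) (η : T)
    (hη : closure ({η} : Set T) ∈ irreducibleComponents T) : η ∈ O := by
  obtain ⟨o, ho, hne, hsub⟩ :=
    NoetherianSpace.exists_isOpen_nonempty_subset_irreducibleComponent _ hη
  obtain ⟨z, hzo, hzU⟩ := hO.inter_open_nonempty o ho hne
  have hsp : η ⤳ z := specializes_iff_mem_closure.mpr (hsub hzo)
  exact hsp.mem_open hOo hzU

/-- topological version -/
theorem generic_mem_of_dense_aux {T : Type*} [TopologicalSpace T] (W : Set T) (hW : IsOpen W)
    [NoetherianSpace W] (U : Set T) (hUo : IsOpen U) (hU : Dense U) (Z : Set T)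
    (hZ : Z ∈ irreducibleComponents T) (η : T) (hη : IsGenericPoint η Z) (hηW : η ∈ W) : η ∈ U := by
  have hj : Topology.IsOpenEmbedding (Subtype.val : W → T) := hW.isOpenEmbedding_subtypeVal
  have h1 : (Subtype.val : W → T) ⁻¹' Z ∈ irreducibleComponents W :=
    preimage_mem_irreducibleComponents hZ hj ⟨η, hη.mem, ⟨⟨η, hηW⟩, rfl⟩⟩
  have h2 : closure ({⟨η, hηW⟩} : Set W) = (Subtype.val : W → T) ⁻¹' Z := by
    rw [hj.isInducing.closure_eq_preimage_closure_image, Set.image_singleton, hη.def]
  have h3 := mem_of_dense_of_component ((Subtype.val : W → T) ⁻¹' U)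
    (hUo.preimage continuous_subtype_val) (hU.preimage hj.isOpenMap) ⟨η, hηW⟩ (h2 ▸ h1)
  exact h3

/-- on a locally Noetherian scheme a dense open contains the generic points of the irreducible
components -/
theorem generic_mem_of_dense (X : Scheme.{u}) [IsLocallyNoetherian X] (U : X.Opens)
    (hU : Dense (U : Set X)) (Z : Set X) (hZ : Z ∈ irreducibleComponents X) (η : X)
    (hη : IsGenericPoint η Z) : η ∈ U := by
  obtain ⟨_, ⟨W, hW, rfl⟩, hηW, -⟩ :=
    X.isBasis_affineOpens.exists_subset_of_mem_open (Set.mem_univ η) isOpen_univ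
  haveI : IsNoetherianRing Γ(X, W) := IsLocallyNoetherian.component_noetherian ⟨W, hW⟩
  haveI : NoetherianSpace (W : Set X) := noetherianSpace_of_isAffineOpen W hW
  exact generic_mem_of_dense_aux (W : Set X) W.isOpen (U : Set X) U.isOpen hU Z hZ η hη hηW

variable (k : Type u) [Field k] (X : Scheme.{u}) [X.Over (Spec (CommRingCat.of k))]

theorem main [IsReduced X] [LocallyOfFiniteType (X ↘ (Spec (CommRingCat.of k)))] :
    GeometricallyReduced (X ↘ (Spec (CommRingCat.of k))) ↔
      ∃ U : X.Opens, Dense (U : Set X) ∧ Smooth (U.ι ≫ (X ↘ (Spec (CommRingCat.of k)))) := by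
  haveI hfp : LocallyOfFinitePresentation (X ↘ (Spec (CommRingCat.of k))) := inferInstance
  constructor
  · intro h
    refine ⟨(X ↘ (Spec (CommRingCat.of k))).smoothLocus,
      Groth.Agent.Lib.R2H4.GeomRedPts.dense_smoothLocus _, ?_⟩
    rw [← Scheme.Hom.smoothLocus_eq_top_iff, ← Scheme.Hom.preimage_smoothLocus_eq]
    exact Scheme.Opens.ι_preimage_self _
  · rintro ⟨U, hU, hsm⟩
    haveI : IsLocallyNoetherian X :=
      LocallyOfFiniteType.isLocallyNoetherian (X ↘ (Spec (CommRingCat.of k)))
    have hle : U ≤ (X ↘ (Spec (CommRingCat.of k))).smoothLocus := by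
      have h1 := (Scheme.Hom.smoothLocus_eq_top_iff
        (f := U.ι ≫ (X ↘ (Spec (CommRingCat.of k))))).mpr hsm
      rw [← Scheme.Hom.preimage_smoothLocus_eq] at h1
      intro x hx
      have : (⟨x, hx⟩ : U) ∈ U.ι ⁻¹ᵁ (X ↘ (Spec (CommRingCat.of k))).smoothLocus := by
        rw [h1]; trivial
      exact this
    refine Groth.Agent.Lib.Helper6.BcRed5.geometricallyReduced_of_generic k X
      (fun Z hZ η hη => ?_)
    exact Groth.Agent.Lib.R2H4.VarSmoothPt.isGeomReducedAt_of_mem_smoothLocus k X η
      (hle (generic_mem_of_dense X U hU Z hZ η hη))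

end Groth.Agent.Lib.R2H4GeomRedSmooth
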