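import Mathlib
import Groth.Prelude.Def_Curv2
import Groth.Agent.Lib.Helper25FlatBC
import Groth.Agent.Lib.Helper28RegLoc
import Groth.Agent.Lib.Helper28DepthFlat3

/-!
# Geometric regularity descends along morphisms flat at a point (helper4, round 2)

* `isRegularLocalRing_of_flat_local`: regularity descends along a flat local ring homomorphism
  (Noetherianity of the source is deduced by faithfully flat descent).
* `main` (= S1563).
-/

set_option autoImplicit false
set_option linter.style.haveILetI false
universe u
open CategoryTheory CategoryTheory.Limits AlgebraicGeometry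

namespace Groth.Agent.Lib.R2H4.GeomRegDesc

/-- regularity descends along flat local ring homomorphisms (no Noetherian hypothesis on the source) -/
theorem isRegularLocalRing_of_flat_local {R S : Type u} [CommRing R] [CommRing S] [IsLocalRing R]
    [IsRegularLocalRing S] (φ : R →+* S) [IsLocalHom φ] (hφ : φ.Flat) : IsRegularLocalRing R := by
  algebraize [φ]
  haveI : IsLocalHom (algebraMap R S) := ‹IsLocalHom φ›
  haveI : Module.FaithfullyFlat R S := Module.FaithfullyFlat.of_flat_of_isLocalHom
  haveI : IsNoetherianRing R := Groth.Agent.Lib.Helper28.isNoetherianRing_of_faithfullyFlat (R := R) (S := S)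
  exact Groth.Agent.Lib.Helper28.isRegularLocalRing_of_flat_of_isLocalHom R S

theorem main (k : Type u) [Field k] (X Y : Scheme.{u}) [X.Over (Spec (CommRingCat.of k))]
    [Y.Over (Spec (CommRingCat.of k))]
    (f : X ⟶ Y) (hf : f ≫ (Y ↘ (Spec (CommRingCat.of k))) = X ↘ (Spec (CommRingCat.of k)))
    (x : X) (hflat : (f.stalkMap x).hom.Flat) (hx : Curv2.IsGeomRegularAt k X x) :
    Curv2.IsGeomRegularAt k Y (f.base x) := by
  intro k' _ _ hk' y' hy'
  let g : Curv2.bc k Y k' ⟶ Y := Curv2.bcFst k Y k'
  obtain ⟨w, hw1, hw2⟩ := Scheme.Pullback.exists_preimage_pullback (f := f) (g := g) x y' hy'.symm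
  subst hw1 hw2
  -- the pasted pullback
  have sqR : IsPullback g (Curv2.bcSnd k Y k') (Y ↘ Spec (CommRingCat.of k))
      (Spec.map (CommRingCat.ofHom (algebraMap k k'))) := IsPullback.of_hasPullback _ _
  have sqL : IsPullback (pullback.fst f g) (pullback.snd f g) f g := IsPullback.of_hasPullback _ _
  have sq : IsPullback (pullback.fst f g) (pullback.snd f g ≫ Curv2.bcSnd k Y k')
      (X ↘ Spec (CommRingCat.of k)) (Spec.map (CommRingCat.ofHom (algebraMap k k'))) := by
    rw [← hf]
    exact sqL.paste_vert sqR
  let e : pullback f g ≅ Curv2.bc k X k' := sq.isoPullback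
  have he : e.hom ≫ Curv2.bcFst k X k' = pullback.fst f g := sq.isoPullback_hom_fst
  have hx' : Curv2.bcFst k X k' (e.hom w) = pullback.fst f g w := by
    rw [← Scheme.Hom.comp_apply, he]
  haveI hreg : IsRegularLocalRing ((Curv2.bc k X k').presheaf.stalk (e.hom w)) :=
    hx k' hk' (e.hom w) hx'
  haveI : IsRegularLocalRing ((pullback f g).presheaf.stalk w) :=
    IsRegularLocalRing.of_ringEquiv (asIso (e.hom.stalkMap w)).commRingCatIsoToRingEquiv
  have hfl : ((pullback.snd f g).stalkMap w).hom.Flat :=
    Groth.Agent.Lib.Helper25.FlatBC.flat_stalkMap_snd_of_flat f g w hflat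
  exact isRegularLocalRing_of_flat_local ((pullback.snd f g).stalkMap w).hom hfl

end Groth.Agent.Lib.R2H4.GeomRegDesc
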