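import Mathlib
import Groth.Prelude.Def_Curv2
import Groth.Agent.Lib.R2H4GeomRegDesc

/-!
# Geometric regularity descends along finitely generated field base change (helper4, round 2)

`main` (= S7607): if `X_{k'}` is geometrically regular at `x'` over `k'` then `X` is geometrically
regular over `k` at the image of `x'`. Given `K/k` f.g. and `y ∈ X_K` over the same point, a point
`w` of `X_{k'} ×_X X_K` over `(x', y)` gives a field `κ(w)` containing `k'` and `K`;
`L := k'(K) ⊆ κ(w)` is f.g. over `k'`, `Spec κ(w) → (X_{k'})_L` gives a point over `x'` and `y`, and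
`(X_{k'})_L → X_K` is flat (`gMap`, `isPullback_gMap`, `flat_gMap`, `core`).
-/

set_option autoImplicit false
set_option linter.style.haveILetI false
universe u
open CategoryTheory CategoryTheory.Limits AlgebraicGeometry

namespace Groth.Agent.Lib.R2H4GeomRegFG

section core

variable (k : Type u) [Field k] (X : Scheme.{u}) [X.Over (Spec (CommRingCat.of k))]
  (k' : Type u) [Field k'] [Algebra k k']

/-- the iterated base change `(X_{k'})_L` -/
noncomputable abbrev X'' (L : Type u) [Field L] [Algebra k' L] : Scheme.{u} :=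
  @Curv2.bc k' _ (Curv2.bc k X k') ⟨Curv2.bcSnd k X k'⟩ L _ _

variable (K : Type u) [Field K] [Algebra k K]
  (L : Type u) [Field L] [Algebra k L] [Algebra k' L] [Algebra K L] [IsScalarTower k k' L]
  [IsScalarTower k K L]

/-- the map `(X_{k'})_L ⟶ X_K` -/
noncomputable def gMap : X'' k X k' L ⟶ Curv2.bc k X K :=
  pullback.lift (pullback.fst _ _ ≫ Curv2.bcFst k X k')
    (pullback.snd _ _ ≫ Spec.map (CommRingCat.ofHom (algebraMap K L))) (by
      have e1 : (pullback.fst _ _ : X'' k X k' L ⟶ Curv2.bc k X k') ≫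
          Curv2.bcSnd k X k' = (pullback.snd _ _ : X'' k X k' L ⟶ _) ≫
            Spec.map (CommRingCat.ofHom (algebraMap k' L)) :=
        pullback.condition
      have e2 : Curv2.bcFst k X k' ≫ (X ↘ Spec (CommRingCat.of k)) =
          Curv2.bcSnd k X k' ≫ Spec.map (CommRingCat.ofHom (algebraMap k k')) := pullback.condition
      rw [Category.assoc, e2, reassoc_of% e1, Category.assoc, ← Spec.map_comp, ← Spec.map_comp,
        ← CommRingCat.ofHom_comp, ← CommRingCat.ofHom_comp, ← IsScalarTower.algebraMap_eq,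
        ← IsScalarTower.algebraMap_eq])

lemma gMap_fst : gMap k X k' K L ≫ Curv2.bcFst k X K =
    (pullback.fst _ _ : X'' k X k' L ⟶ Curv2.bc k X k') ≫ Curv2.bcFst k X k' :=
  pullback.lift_fst _ _ _

lemma gMap_snd : gMap k X k' K L ≫ Curv2.bcSnd k X K =
    (pullback.snd _ _ : X'' k X k' L ⟶ _) ≫ Spec.map (CommRingCat.ofHom (algebraMap K L)) :=
  pullback.lift_snd _ _ _

lemma isPullback_gMap : IsPullback (gMap k X k' K L)
    (pullback.snd _ _ : X'' k X k' L ⟶ _) (Curv2.bcSnd k X K)
    (Spec.map (CommRingCat.ofHom (algebraMap K L))) := by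
  have big : IsPullback ((pullback.fst _ _ : X'' k X k' L ⟶ Curv2.bc k X k') ≫ Curv2.bcFst k X k')
      (pullback.snd _ _ : X'' k X k' L ⟶ _) (X ↘ Spec (CommRingCat.of k))
      (Spec.map (CommRingCat.ofHom (algebraMap k' L)) ≫
        Spec.map (CommRingCat.ofHom (algebraMap k k'))) :=
    (IsPullback.of_hasPullback _ _).paste_horiz (IsPullback.of_hasPullback _ _)
  have e : Spec.map (CommRingCat.ofHom (algebraMap k' L)) ≫
        Spec.map (CommRingCat.ofHom (algebraMap k k')) =
      Spec.map (CommRingCat.ofHom (algebraMap K L)) ≫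
        Spec.map (CommRingCat.ofHom (algebraMap k K)) := by
    rw [← Spec.map_comp, ← Spec.map_comp,
        ← CommRingCat.ofHom_comp, ← CommRingCat.ofHom_comp, ← IsScalarTower.algebraMap_eq,
        ← IsScalarTower.algebraMap_eq]
  rw [e, ← gMap_fst k X k' K L] at big
  exact IsPullback.of_right big (gMap_snd k X k' K L) (IsPullback.of_hasPullback _ _)

instance flat_gMap : Flat (gMap k X k' K L) := by
  have hfl : Flat (Spec.map (CommRingCat.ofHom (algebraMap K L))) := by
    rw [Flat.SpecMap_iff]
    exact RingHom.flat_algebraMap_iff.mpr inferInstance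
  exact MorphismProperty.of_isPullback (P := @Flat) (isPullback_gMap k X k' K L).flip hfl

theorem core (x' : ↥(Curv2.bc k X k'))
    (h : @Curv2.IsGeomRegularAt k' _ (Curv2.bc k X k') ⟨Curv2.bcSnd k X k'⟩ x')
    (hL : (⊤ : IntermediateField k' L).FG) (z : X'' k X k' L)
    (hz : (pullback.fst _ _ : X'' k X k' L ⟶ Curv2.bc k X k') z = x') :
    IsRegularLocalRing ((Curv2.bc k X K).presheaf.stalk (gMap k X k' K L z)) := by
  haveI : IsRegularLocalRing ((X'' k X k' L).presheaf.stalk z) := h L hL z hz
  exact Groth.Agent.Lib.R2H4.GeomRegDesc.isRegularLocalRing_of_flat_local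
    ((gMap k X k' K L).stalkMap z).hom (Flat.stalkMap _ z)

end core

theorem main (k : Type u) [Field k] (X : Scheme.{u}) [X.Over (Spec (CommRingCat.of k))]
    (k' : Type u) [Field k'] [Algebra k k']
    (x' : ↥(Curv2.bc k X k'))
    (h : @Curv2.IsGeomRegularAt k' _ (Curv2.bc k X k') ⟨Curv2.bcSnd k X k'⟩ x') :
    Curv2.IsGeomRegularAt k X (Curv2.bcFst k X k' x') := by
  intro K _ _ hK y hy
  obtain ⟨s, hs⟩ := hK
  obtain ⟨w, hw1, hw2⟩ := Scheme.Pullback.exists_preimage_pullback
    (f := Curv2.bcFst k X k') (g := Curv2.bcFst k X K) x' y hy.symm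
  let P : Scheme.{u} := pullback (Curv2.bcFst k X k') (Curv2.bcFst k X K)
  let κ : CommRingCat.{u} := P.residueField w
  let ι : Spec κ ⟶ P := P.fromSpecResidueField w
  obtain ⟨p1, hp1⟩ : ∃ p1 : P ⟶ Spec (CommRingCat.of k'),
    p1 = pullback.fst _ _ ≫ Curv2.bcSnd k X k' := ⟨_, rfl⟩
  obtain ⟨p2, hp2⟩ : ∃ p2 : P ⟶ Spec (CommRingCat.of K),
    p2 = pullback.snd _ _ ≫ Curv2.bcSnd k X K := ⟨_, rfl⟩
  have hp : p1 ≫ Spec.map (CommRingCat.ofHom (algebraMap k k')) =
      p2 ≫ Spec.map (CommRingCat.ofHom (algebraMap k K)) := by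
    have e1 : Curv2.bcFst k X k' ≫ (X ↘ Spec (CommRingCat.of k)) =
          Curv2.bcSnd k X k' ≫ Spec.map (CommRingCat.ofHom (algebraMap k k')) := pullback.condition
    have e2 : Curv2.bcFst k X K ≫ (X ↘ Spec (CommRingCat.of k)) =
          Curv2.bcSnd k X K ≫ Spec.map (CommRingCat.ofHom (algebraMap k K)) := pullback.condition
    rw [hp1, hp2, Category.assoc, Category.assoc, ← e1, ← e2, pullback.condition_assoc]
  let φ' : CommRingCat.of k' ⟶ κ := Spec.preimage (ι ≫ p1)
  let φK : CommRingCat.of K ⟶ κ := Spec.preimage (ι ≫ p2)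
  have hφ' : Spec.map φ' = ι ≫ p1 := Spec.map_preimage _
  have hφK : Spec.map φK = ι ≫ p2 := Spec.map_preimage _
  have hφ : CommRingCat.ofHom (algebraMap k k') ≫ φ' = CommRingCat.ofHom (algebraMap k K) ≫ φK := by
    apply Spec.map_injective
    rw [Spec.map_comp, Spec.map_comp, hφ', hφK, Category.assoc, Category.assoc, hp]
  letI : Algebra k' κ := φ'.hom.toAlgebra
  letI : Algebra K κ := φK.hom.toAlgebra
  letI : Algebra k κ := (φ'.hom.comp (algebraMap k k')).toAlgebra
  haveI : IsScalarTower k k' κ := IsScalarTower.of_algebraMap_eq (fun _ => rfl)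
  haveI : IsScalarTower k K κ := IsScalarTower.of_algebraMap_eq (fun c => by
    have := congr($(hφ).hom c)
    exact this)
  let L : IntermediateField k' κ := IntermediateField.adjoin k' (φK.hom '' (s : Set K))
  have hmem : ∀ c : K, φK.hom c ∈ L := by
    intro c
    have hc : c ∈ IntermediateField.adjoin k (s : Set K) := by rw [hs]; trivial
    induction hc using IntermediateField.adjoin_induction with
    | mem x hx => exact IntermediateField.subset_adjoin _ _ ⟨x, hx, rfl⟩
    | algebraMap x =>
      have : φK.hom (algebraMap k K x) = algebraMap k' κ (algebraMap k k' x) :=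
        (congr($(hφ).hom x)).symm
      rw [this]
      exact L.algebraMap_mem _
    | add x y _ _ hx hy => rw [map_add]; exact add_mem hx hy
    | inv x _ hx => rw [map_inv₀]; exact inv_mem hx
    | mul x y _ _ hx hy => rw [map_mul]; exact mul_mem hx hy
  letI : Algebra K L := (φK.hom.codRestrict L hmem).toAlgebra
  haveI : IsScalarTower k K L := IsScalarTower.of_algebraMap_eq (fun c => by
    apply Subtype.ext
    exact IsScalarTower.algebraMap_apply k K κ c)
  haveI : IsScalarTower K L κ := IsScalarTower.of_algebraMap_eq (fun c => rfl)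
  have hL : (⊤ : IntermediateField k' L).FG := by
    rw [IntermediateField.fg_top_iff, IntermediateField.essFiniteType_iff]
    exact IntermediateField.fg_adjoin_of_finite (s.finite_toSet.image _)
  obtain ⟨incl, hincl⟩ : ∃ incl : CommRingCat.of L ⟶ κ, incl.hom = (L.val : L →+* κ) :=
    ⟨CommRingCat.ofHom (L.val : L →+* κ), rfl⟩
  have e1 : CommRingCat.ofHom (algebraMap k' L) ≫ incl = φ' := by
    ext c
    change incl.hom (algebraMap k' L c) = _
    rw [hincl]; rfl
  have e2 : CommRingCat.ofHom (algebraMap K L) ≫ incl = φK := by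
    ext c
    change incl.hom (algebraMap K L c) = _
    rw [hincl]; rfl
  let q : Spec κ ⟶ X'' k X k' L :=
    pullback.lift (ι ≫ pullback.fst _ _) (Spec.map incl) (by
      rw [← Spec.map_comp, e1, hφ', hp1, Category.assoc]; rfl)
  have hq1 : q ≫ (pullback.fst _ _ : X'' k X k' L ⟶ Curv2.bc k X k') = ι ≫ pullback.fst _ _ :=
    pullback.lift_fst _ _ _
  have hq2 : q ≫ (pullback.snd _ _ : X'' k X k' L ⟶ _) = Spec.map incl := pullback.lift_snd _ _ _
  have hqg : q ≫ gMap k X k' K L = ι ≫ pullback.snd _ _ := by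
    apply pullback.hom_ext
    · rw [Category.assoc, gMap_fst, reassoc_of% hq1]
      simp only [Category.assoc]
      rw [pullback.condition]
    · rw [Category.assoc, gMap_snd, reassoc_of% hq2, ← Spec.map_comp, e2, hφK, hp2]
      simp only [Category.assoc]
  let pt : Spec κ := (⟨⊥, Ideal.bot_prime⟩ : PrimeSpectrum κ)
  have hι : ι pt = w := P.fromSpecResidueField_apply w pt
  have hz : (pullback.fst _ _ : X'' k X k' L ⟶ Curv2.bc k X k') (q pt) = x' := by
    rw [← Scheme.Hom.comp_apply, hq1, Scheme.Hom.comp_apply, hι, hw1]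
  have hgz : gMap k X k' K L (q pt) = y := by
    rw [← Scheme.Hom.comp_apply, hqg, Scheme.Hom.comp_apply, hι, hw2]
  have := core k X k' K L x' h hL (q pt) hz
  rwa [hgz] at this

end Groth.Agent.Lib.R2H4GeomRegFG
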