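import Mathlib
import Groth.Prelude
import Groth.Agent.Lib.Helper2QCoh
import Groth.Agent.Lib.Helper11Homog
import Groth.Agent.Lib.Helper2QcPush

/-!
# Injectivity of germ maps of torsion free modules on reduced Noetherian schemes (helper4, round 2)

* `exists_minimalPrime_ge`: in a reduced Noetherian ring an ideal consisting of zero divisors lies
  in a minimal prime.
* `germ_injective_of_torsionFree`: S18922.
-/

set_option autoImplicit false
universe u
open CategoryTheory CategoryTheory.Limits AlgebraicGeometry TopologicalSpace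

namespace Groth.Agent.Lib.R2H4GermInj

open Groth.Agent.Lib.Helper11SchImage

/-- prime avoidance in a reduced Noetherian ring -/
theorem exists_minimalPrime_ge (R : Type u) [CommRing R] [IsNoetherianRing R] [IsReduced R]
    (I : Ideal R) (hI : ∀ a ∈ I, a ∉ nonZeroDivisors R) :
    ∃ P ∈ minimalPrimes R, I ≤ P := by
  classical
  have hfin : (minimalPrimes R).Finite := minimalPrimes.finite_of_isNoetherianRing R
  have hprime : ∀ p ∈ hfin.toFinset, (p : Ideal R).IsPrime := by
    intro p hp
    rw [Set.Finite.mem_toFinset] at hp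
    exact hp.1.1
  by_contra hcon
  push Not at hcon
  have hav : ¬ ((I : Set R) ⊆ ⋃ p ∈ (hfin.toFinset : Set (Ideal R)), (p : Set R)) := by
    intro hsub
    rw [Ideal.subset_union_prime (R := R) (s := hfin.toFinset) (f := fun p => p) ⊥ ⊥
      (fun p hp _ _ => hprime p hp)] at hsub
    obtain ⟨p, hp, hle⟩ := hsub
    rw [Set.Finite.mem_toFinset] at hp
    exact hcon p hp hle
  rw [Set.not_subset] at hav
  obtain ⟨a, haI, hanot⟩ := hav
  apply hI a haI
  rw [mem_nonZeroDivisors_iff_right]
  intro b hb
  have hb' : b ∈ sInf (minimalPrimes R) := by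
    rw [Ideal.mem_sInf]
    intro p hp
    have hp' : p.IsPrime := hp.1.1
    have hab : b * a ∈ p := by rw [hb]; exact p.zero_mem
    rcases hp'.mem_or_mem hab with h | h
    · exact h
    · exfalso
      apply hanot
      simp only [Set.mem_iUnion]
      exact ⟨p, by simpa using hp, h⟩
  have h1 : sInf (minimalPrimes R) = nilradical R := by
    change sInf (⊥ : Ideal R).minimalPrimes = _
    rw [Ideal.sInf_minimalPrimes]
    rfl
  rw [h1, nilradical_eq_zero] at hb'
  exact hb'

variable {X : Scheme.{u}}

/-- the point of a minimal prime of a local ring is a maximal point -/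
theorem isMaxPt_fromSpecStalk (y : X) (P : ↥(Spec (X.presheaf.stalk y)))
    (hP : P.asIdeal ∈ minimalPrimes (X.presheaf.stalk y)) : IsMaxPt (X.fromSpecStalk y P) := by
  intro z hz
  have hzy : z ⤳ y := by
    have h1 : X.fromSpecStalk y P ∈ Set.range (X.fromSpecStalk y) := ⟨P, rfl⟩
    rw [Scheme.range_fromSpecStalk] at h1
    exact hz.trans h1
  have hz' : z ∈ Set.range (X.fromSpecStalk y) := by
    rw [Scheme.range_fromSpecStalk]
    exact hzy
  obtain ⟨Q, rfl⟩ := hz'
  have hQP : Q ⤳ P := by
    rw [← (X.fromSpecStalk y).isEmbedding.isInducing.specializes_iff]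
    exact hz
  have hQP' : Q.asIdeal ≤ P.asIdeal :=
    (PrimeSpectrum.le_iff_specializes (R := X.presheaf.stalk y) Q P).2 hQP
  have hPQ : P.asIdeal ≤ Q.asIdeal := hP.2 ⟨Q.2, bot_le⟩ hQP'
  have : Q = P := PrimeSpectrum.ext (le_antisymm hQP' hPQ)
  rw [this]

/-- **germs of torsion free modules**: on a reduced locally Noetherian scheme, a section of a
quasi-coherent torsion free module over an open all of whose maximal points specialize to `x` is
determined by its germ at `x`. -/
theorem germ_injective_of_torsionFree [IsReduced X] [IsLocallyNoetherian X] (F : X.Modules)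
    [F.IsQuasicoherent] (htF : TorSh.IsTorsionFree F) (x : X) (U : X.Opens) (hxU : x ∈ U)
    (hU : ∀ y : X, y ∈ U → IsField (X.presheaf.stalk y) → x ∈ closure ({y} : Set X)) :
    Function.Injective (F.presheaf.germ U x hxU) := by
  rw [injective_iff_map_eq_zero]
  intro s hs
  apply Groth.Agent.Lib.Helper2.QcPush.section_eq_zero_of_germ F U s
  intro y hyU
  by_contra hne
  -- the annihilator of the germ
  set m := F.presheaf.germ U y hyU s with hm
  let I : Ideal (X.presheaf.stalk y) :=
    LinearMap.ker (LinearMap.toSpanSingleton (X.presheaf.stalk y) (F.presheaf.stalk y) m)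
  have hImem : ∀ a, a ∈ I ↔ a • m = 0 := by
    intro a
    rw [LinearMap.mem_ker, LinearMap.toSpanSingleton_apply]
  have hI : ∀ a ∈ I, a ∉ nonZeroDivisors (X.presheaf.stalk y) := by
    intro a haI hreg
    apply hne
    have h1 : a • m = 0 := (hImem a).1 haI
    haveI := htF y
    have hreg' : IsRegular a := isRegular_iff_mem_nonZeroDivisors.2 hreg
    have h2 : IsSMulRegular (F.presheaf.stalk y) a := hreg'.isSMulRegular
    exact h2 (show a • m = a • 0 by rw [h1, smul_zero])
  obtain ⟨P, hPmin, hIP⟩ := exists_minimalPrime_ge (X.presheaf.stalk y) I hI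
  haveI hPprime : P.IsPrime := hPmin.1.1
  let Pt : ↥(Spec (X.presheaf.stalk y)) := ⟨P, hPprime⟩
  set η := X.fromSpecStalk y Pt with hη
  have hmax : IsMaxPt η := isMaxPt_fromSpecStalk y Pt hPmin
  have hηy : η ⤳ y := by
    have h1 : η ∈ Set.range (X.fromSpecStalk y) := ⟨Pt, rfl⟩
    rw [Scheme.range_fromSpecStalk] at h1
    exact h1
  have hηU : η ∈ U := hηy.mem_open U.2 hyU
  have hfield : IsField (X.presheaf.stalk η) :=
    Groth.Agent.Lib.Helper11Homog.isField_stalk_of_isMaxPt X η hmax
  have hηx : η ⤳ x := by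
    rw [specializes_iff_mem_closure]
    exact hU η hηU hfield
  -- the germ at `η` vanishes
  have hsη : F.presheaf.germ U η hηU s = 0 := by
    rw [← TopCat.Presheaf.germ_stalkSpecializes_apply F.presheaf hxU hηx, hs, map_zero]
  -- an affine neighbourhood of `y`
  obtain ⟨W, hW, hyW, hWU'⟩ := exists_isAffineOpen_mem_and_subset (X := X) (x := y) (U := U) hyU
  have hWU : W ≤ U := hWU'
  have hηW : η ∈ W := hηy.mem_open W.2 hyW
  have hsηW : F.presheaf.germ W η hηW (F.presheaf.map (homOfLE hWU).op s) = 0 := by
    exact (TopCat.Presheaf.germ_res_apply F.presheaf (homOfLE hWU) η hηW s).trans hsη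
  obtain ⟨t, hηt, hts⟩ :=
    Groth.Agent.Lib.Helper2.QCoh.exists_smul_eq_zero_of_germ_eq_zero hW F η hηW _ hsηW
  -- the germ of `t` at `y` kills `m`, hence lies in `P`
  have htI : X.presheaf.germ W y hyW t ∈ I := by
    rw [hImem]
    have e1 : m = F.presheaf.germ W y hyW (F.presheaf.map (homOfLE hWU).op s) :=
      (TopCat.Presheaf.germ_res_apply F.presheaf (homOfLE hWU) y hyW s).symm
    rw [e1, ← Mero.germ_smul, hts, map_zero]
  have htP : X.presheaf.germ W y hyW t ∈ P := hIP htI
  -- but `t` is invertible at `η`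
  have hunit : IsUnit (X.presheaf.germ W η hηW t) := (X.mem_basicOpen t η hηW).1 hηt
  -- identify `P` with the pullback of the maximal ideal at `η`
  have hPt : Spec.map (X.presheaf.stalkSpecializes hηy) (IsLocalRing.closedPoint _) = Pt := by
    apply (X.fromSpecStalk y).isEmbedding.injective
    rw [← Scheme.Hom.comp_apply, Scheme.SpecMap_stalkSpecializes_fromSpecStalk,
      Scheme.fromSpecStalk_closedPoint]
  have hmem : (X.presheaf.stalkSpecializes hηy).hom (X.presheaf.germ W y hyW t) ∈
      IsLocalRing.maximalIdeal (X.presheaf.stalk η) := by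
    have h2 : X.presheaf.germ W y hyW t ∈
        (Spec.map (X.presheaf.stalkSpecializes hηy) (IsLocalRing.closedPoint _)).asIdeal := by
      rw [hPt]
      exact htP
    exact h2
  rw [TopCat.Presheaf.germ_stalkSpecializes_apply] at hmem
  exact (IsLocalRing.mem_maximalIdeal _).1 hmem hunit

end Groth.Agent.Lib.R2H4GermInj
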