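import Mathlib
import Groth.Agent.S5341
import Groth.Agent.Lib.Helper25SmUnit
import Groth.Agent.Lib.Helper3CompDim
import Groth.Agent.Lib.R2H3RatSection
import Groth.Agent.Lib.Helper6SmRegSch
import Groth.Agent.Lib.Helper6GeomRegAt
import Groth.Agent.Lib.Helper4DimFormulaT

/-!
# Dimension of a group scheme over a field versus its cotangent space at the unit (helper4, round 2)

* `ptTrdeg_section`: `trdeg κ(x)/κ(f x) = 0` at the image of a section.
* `dim_eq_ringKrullDim_stalk`: `dim G = dim O_{G,e}` for `G` locally of finite type over a field.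
* `main`: S7822 (`dim G ≤ dim m_e/m_e²`, smooth iff equality, smooth iff smooth near `e`).
-/

set_option autoImplicit false
set_option linter.style.haveILetI false
universe u
open CategoryTheory CategoryTheory.Limits MonoidalCategory CartesianMonoidalCategory MonObj GrpObj AlgebraicGeometry

namespace Groth.Agent.Lib.R2H4.GrpDimCot


open Groth.Agent.Lib.Helper4.DimFormula

/-- `ptTrdeg` vanishes at the image of a section. -/
theorem ptTrdeg_section {X Y : Scheme.{u}} (f : X ⟶ Y) [LocallyOfFiniteType f] (s : Y ⟶ X)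
    (hs : s ≫ f = 𝟙 Y) (y : Y) : ptTrdeg f (s y) = 0 := by
  have hb := Groth.Agent.Lib.R2H3.RatSection.residueFieldMap_bijective_of_section f (𝟙 Y) s hs y
  have h1 := trdeg_eq_ptTrdeg f (s y)
  letI := (f.residueFieldMap (s y)).hom.toAlgebra
  haveI : Algebra.IsAlgebraic (Y.residueField (f.base (s y))) (X.residueField (s y)) := by
    haveI : Algebra.IsIntegral (Y.residueField (f.base (s y))) (X.residueField (s y)) :=
      Algebra.isIntegral_of_surjective hb.2
    exact Algebra.IsIntegral.isAlgebraic
  have h2 : Algebra.trdeg (Y.residueField (f.base (s y))) (X.residueField (s y)) = 0 :=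
    trdeg_eq_zero
  rw [h2] at h1
  exact_mod_cast h1.symm

variable (k : Type u) [Field k] (G : Over (Spec (CommRingCat.of k))) [GrpObj G]
  [LocallyOfFiniteType G.hom]

/-- the unit point -/
noncomputable abbrev e : G.left := η[G].left (IsLocalRing.closedPoint k)

theorem dim_eq_ringKrullDim_stalk :
    topologicalKrullDim G.left = ringKrullDim (G.left.presheaf.stalk (e k G)) := by
  rw [← (Groth.Agent.S5341.result k G).2 (e k G),
    Groth.Agent.Lib.Helper3.CompDim.localDim_eq_stalk_add_ptTrdeg (K := CommRingCat.of k)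
      (Field.toIsField k) G.hom (e k G)]
  have h0 : ptTrdeg G.hom (e k G) = 0 :=
    ptTrdeg_section G.hom η[G].left (Over.w η[G]) (IsLocalRing.closedPoint k)
  rw [h0]
  simp


theorem cast_eq (n : ℕ) : ((n : ℕ∞) : WithBot ℕ∞) = (n : WithBot ℕ∞) := rfl

theorem smooth_of_mem_smoothLocus (h : e k G ∈ G.hom.smoothLocus) : Smooth G.hom :=
  Groth.Agent.Lib.Helper25.SmUnit.smooth_of_nonempty_smoothLocus G ⟨_, h⟩

theorem main :
    (topologicalKrullDim G.left ≤ ((Module.finrank (IsLocalRing.ResidueField (G.left.presheaf.stalk (e k G)))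
        (IsLocalRing.CotangentSpace (G.left.presheaf.stalk (e k G))) : ℕ∞) : WithBot ℕ∞)) ∧
    (Smooth G.hom ↔ topologicalKrullDim G.left = ((Module.finrank (IsLocalRing.ResidueField (G.left.presheaf.stalk (e k G)))
        (IsLocalRing.CotangentSpace (G.left.presheaf.stalk (e k G))) : ℕ∞) : WithBot ℕ∞)) ∧
    (Smooth G.hom ↔ ∃ U : G.left.Opens, e k G ∈ U ∧ Smooth (U.ι ≫ G.hom)) := by
  haveI : IsLocallyNoetherian G.left := LocallyOfFiniteType.isLocallyNoetherian G.hom
  have hdim := dim_eq_ringKrullDim_stalk k G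
  refine ⟨?_, ?_, ?_⟩
  · rw [hdim, cast_eq, ← IsLocalRing.spanFinrank_maximalIdeal_eq_finrank_cotangentSpace]
    exact ringKrullDim_le_spanFinrank_maximalIdeal _
  · rw [hdim, cast_eq]
    constructor
    · intro hsm
      haveI := Groth.Agent.Lib.Helper6.SmRegSch.isRegularLocalRing_stalk_of_smooth_over_field k
        G.left G.hom (e k G)
      exact ((IsRegularLocalRing.iff_finrank_cotangentSpace _).1 inferInstance).symm
    · intro heq
      haveI : IsRegularLocalRing (G.left.presheaf.stalk (e k G)) :=
        (IsRegularLocalRing.iff_finrank_cotangentSpace _).2 heq.symm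
      apply smooth_of_mem_smoothLocus k G
      exact Groth.Agent.Lib.Helper6.GeomRegAt.mem_smoothLocus_of_section k G.left G.hom η[G].left
        (Over.w η[G]) (IsLocalRing.closedPoint k)
  · constructor
    · intro hsm
      exact ⟨⊤, trivial, inferInstance⟩
    · rintro ⟨U, hU, hsm⟩
      apply smooth_of_mem_smoothLocus k G
      have h1 : (U.ι ≫ G.hom).smoothLocus = ⊤ := Scheme.Hom.smoothLocus_eq_top _
      rw [← Scheme.Hom.preimage_smoothLocus_eq] at h1
      have h2 : (⟨e k G, hU⟩ : U) ∈ U.ι ⁻¹ᵁ G.hom.smoothLocus := by rw [h1]; trivial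
      exact h2

end Groth.Agent.Lib.R2H4.GrpDimCot
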