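import Mathlib
import Groth.Prelude.Def_Grpd
import Groth.Agent.Lib.Helper10ArtinOpen

set_option autoImplicit false
set_option linter.style.haveILetI false
universe u
open CategoryTheory CategoryTheory.Limits AlgebraicGeometry TopologicalSpace

namespace Groth.Agent.Lib.R2H4.GrpdClosure

section Field

variable {k : Type u} [Field k] {X Y U : Scheme.{u}} (eU : U ≅ Spec (CommRingCat.of k))
  (a : X ⟶ U) (b : Y ⟶ U)

include eU in
/-- any morphism to (a scheme isomorphic to) the spectrum of a field is universally open. -/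
theorem universallyOpen_of_field {T : Scheme.{u}} (g : T ⟶ U) : UniversallyOpen g := by
  haveI : UniversallyOpen (g ≫ eU.hom) :=
    Groth.Agent.Lib.Helper10.ArtinOpen.universallyOpen_of_artinian_local (g ≫ eU.hom)
  have h : g = (g ≫ eU.hom) ≫ eU.inv := by simp
  rw [h]
  infer_instance

include eU in
/-- closure in a fibre of the second projection. -/
theorem mem_closure_fibre_snd (A : Set X) (p : ↑(pullback a b))
    (hp : pullback.fst a b p ∈ closure A) :
    p ∈ closure (pullback.fst a b ⁻¹' A ∩ pullback.snd a b ⁻¹' {pullback.snd a b p}) := by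
  set y := pullback.snd a b p with hy
  let g' := Y.fromSpecResidueField y
  let ι := (pullback.snd a b).fiberι y
  have hrange : Set.range ι = pullback.snd a b ⁻¹' {y} := (pullback.snd a b).range_fiberι y
  obtain ⟨p', hp'⟩ : p ∈ Set.range ι := by rw [hrange]; rfl
  haveI : UniversallyOpen (g' ≫ b) := universallyOpen_of_field eU _
  have hφ : ι ≫ pullback.fst a b =
      (pullbackLeftPullbackSndIso a b g').hom ≫ pullback.fst a (g' ≫ b) :=
    (pullbackLeftPullbackSndIso_hom_fst a b g').symm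
  have hopen : IsOpenMap (ι ≫ pullback.fst a b) := by
    rw [hφ]
    haveI h1 : UniversallyOpen (pullback.fst a (g' ≫ b)) := inferInstance
    haveI h2 : UniversallyOpen (pullbackLeftPullbackSndIso a b g').hom := inferInstance
    haveI h3 : UniversallyOpen ((pullbackLeftPullbackSndIso a b g').hom ≫ pullback.fst a (g' ≫ b)) :=
      inferInstance
    exact @Scheme.Hom.isOpenMap _ _ _ h3
  have h1 : p' ∈ closure ((ι ≫ pullback.fst a b) ⁻¹' A) := by
    rw [← hopen.preimage_closure_eq_closure_preimage (Scheme.Hom.continuous _)]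
    change (ι ≫ pullback.fst a b) p' ∈ closure A
    rw [Scheme.Hom.comp_apply, hp']
    exact hp
  have h2 : p ∈ closure (ι '' ((ι ≫ pullback.fst a b) ⁻¹' A)) := by
    rw [← hp']
    exact image_closure_subset_closure_image ι.continuous ⟨p', h1, rfl⟩
  refine closure_mono ?_ h2
  rintro _ ⟨q', hq', rfl⟩
  refine ⟨hq', ?_⟩
  have : ι q' ∈ Set.range ι := ⟨q', rfl⟩
  rw [hrange] at this
  exact this

include eU in
/-- closure in a fibre of the first projection. -/
theorem mem_closure_fibre_fst (B : Set Y) (p : ↑(pullback a b))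
    (hp : pullback.snd a b p ∈ closure B) :
    p ∈ closure (pullback.snd a b ⁻¹' B ∩ pullback.fst a b ⁻¹' {pullback.fst a b p}) := by
  let σ := (pullbackSymmetry a b).hom
  have h1 : σ ≫ pullback.fst b a = pullback.snd a b := pullbackSymmetry_hom_comp_fst a b
  have h2 : σ ≫ pullback.snd b a = pullback.fst a b := pullbackSymmetry_hom_comp_snd a b
  have e1 : ∀ q, pullback.fst b a (σ q) = pullback.snd a b q := fun q => by
    rw [← Scheme.Hom.comp_apply, h1]
  have e2 : ∀ q, pullback.snd b a (σ q) = pullback.fst a b q := fun q => by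
    rw [← Scheme.Hom.comp_apply, h2]
  have h3 := mem_closure_fibre_snd eU b a B (σ p) (by rw [e1]; exact hp)
  have hopen : IsOpenMap σ := Scheme.Hom.isOpenMap σ
  have h4 : p ∈ σ ⁻¹' closure (pullback.fst b a ⁻¹' B ∩
      pullback.snd b a ⁻¹' {pullback.snd b a (σ p)}) := h3
  rw [hopen.preimage_closure_eq_closure_preimage σ.continuous] at h4
  refine closure_mono ?_ h4
  rintro q ⟨hq1, hq2⟩
  refine ⟨?_, ?_⟩
  · have : pullback.fst b a (σ q) ∈ B := hq1
    rwa [e1] at this
  · have : pullback.snd b a (σ q) = pullback.snd b a (σ p) := hq2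
    rwa [e2, e2] at this

include eU in
/-- In a fibre product over a field, the product of closures is in the closure of the product. -/
theorem mem_closure_prod (A : Set X) (B : Set Y) (p : ↑(pullback a b))
    (hpA : pullback.fst a b p ∈ closure A) (hpB : pullback.snd a b p ∈ closure B) :
    p ∈ closure (pullback.fst a b ⁻¹' A ∩ pullback.snd a b ⁻¹' B) := by
  have h1 := mem_closure_fibre_fst eU a b B p hpB
  refine closure_minimal ?_ isClosed_closure h1
  rintro q ⟨hqB, hq1⟩
  have hq1' : pullback.fst a b q = pullback.fst a b p := hq1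
  have h2 := mem_closure_fibre_snd eU a b A q (by rw [hq1']; exact hpA)
  refine closure_mono ?_ h2
  rintro q' ⟨hq'A, hq'2⟩
  have hq'2' : pullback.snd a b q' = pullback.snd a b q := hq'2
  exact ⟨hq'A, by change pullback.snd a b q' ∈ B; rw [hq'2']; exact hqB⟩

end Field

section Lift

variable {X₁ Y₁ X₂ Y₂ Z : Scheme.{u}} (a₁ : X₁ ⟶ Z) (b₁ : Y₁ ⟶ Z) (a₂ : X₂ ⟶ Z) (b₂ : Y₂ ⟶ Z)
  (u : X₁ ⟶ X₂) (v : Y₁ ⟶ Y₂) (hu : u ≫ a₂ = a₁) (hv : v ≫ b₂ = b₁)

/-- Points of `X₂ ×_Z Y₂` lying over points coming from `X₁` and `Y₁` come from `X₁ ×_Z Y₁`. -/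
theorem exists_preimage_map (q : ↑(pullback a₂ b₂)) (x : X₁) (y : Y₁)
    (hx : u x = pullback.fst a₂ b₂ q) (hy : v y = pullback.snd a₂ b₂ q) :
    ∃ q' : ↑(pullback a₁ b₁), pullback.map a₁ b₁ a₂ b₂ u v (𝟙 Z)
      (by rw [Category.comp_id, hu]) (by rw [Category.comp_id, hv]) q' = q := by
  obtain ⟨q₁, hq₁x, hq₁q⟩ := Scheme.Pullback.exists_preimage_pullback
    (f := u) (g := pullback.fst a₂ b₂) x q hx
  let γ₁ := pullback.snd u (pullback.fst a₂ b₂)
  obtain ⟨q₂, hq₂y, hq₂q⟩ := Scheme.Pullback.exists_preimage_pullback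
    (f := v) (g := γ₁ ≫ pullback.snd a₂ b₂) y q₁ (by
      rw [Scheme.Hom.comp_apply, hq₁q]; exact hy)
  let T := pullback v (γ₁ ≫ pullback.snd a₂ b₂)
  let α : T ⟶ X₁ := pullback.snd v (γ₁ ≫ pullback.snd a₂ b₂) ≫ pullback.fst u (pullback.fst a₂ b₂)
  let β : T ⟶ Y₁ := pullback.fst v (γ₁ ≫ pullback.snd a₂ b₂)
  let γ : T ⟶ pullback a₂ b₂ := pullback.snd v (γ₁ ≫ pullback.snd a₂ b₂) ≫ γ₁
  have hαγ : α ≫ u = γ ≫ pullback.fst a₂ b₂ := by
    simp only [α, γ, γ₁, Category.assoc]
    rw [pullback.condition]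
  have hβγ : β ≫ v = γ ≫ pullback.snd a₂ b₂ := by
    simp only [β, γ, Category.assoc]
    rw [pullback.condition]
  have hγdef : γ = pullback.snd v (γ₁ ≫ pullback.snd a₂ b₂) ≫ γ₁ := rfl
  clear_value α β γ
  have hαβ : α ≫ a₁ = β ≫ b₁ := by
    calc α ≫ a₁ = (α ≫ u) ≫ a₂ := by rw [Category.assoc, hu]
      _ = (γ ≫ pullback.fst a₂ b₂) ≫ a₂ := by rw [hαγ]
      _ = (γ ≫ pullback.snd a₂ b₂) ≫ b₂ := by
        rw [Category.assoc, pullback.condition, Category.assoc]
      _ = (β ≫ v) ≫ b₂ := by rw [hβγ]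
      _ = β ≫ b₁ := by rw [Category.assoc, hv]
  let θ : T ⟶ pullback a₁ b₁ := pullback.lift α β hαβ
  have hθ : θ ≫ pullback.map a₁ b₁ a₂ b₂ u v (𝟙 Z)
      (by rw [Category.comp_id, hu]) (by rw [Category.comp_id, hv]) = γ := by
    apply pullback.hom_ext
    · rw [Category.assoc, pullback.lift_fst, ← Category.assoc, pullback.lift_fst, hαγ]
    · rw [Category.assoc, pullback.lift_snd, ← Category.assoc, pullback.lift_snd, hβγ]
  refine ⟨θ q₂, ?_⟩
  rw [← Scheme.Hom.comp_apply, hθ, hγdef, Scheme.Hom.comp_apply, hq₂q]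
  exact hq₁q

end Lift

end Groth.Agent.Lib.R2H4.GrpdClosure
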