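import Mathlib
import Groth.Prelude.Def_Grpd
import Groth.Agent.Lib.R2H4SubGrpd
import Groth.Agent.Lib.R2H4GrpdHom
import Groth.Agent.Lib.R2H4GrpdClosure
import Groth.Agent.Lib.Helper10RedInd
import Groth.Agent.Lib.Helper12GeomReduced
import Groth.Agent.Lib.Helper6SepCl2
import Groth.Agent.S7462

set_option autoImplicit false
set_option linter.style.haveILetI false
universe u
open CategoryTheory CategoryTheory.Limits AlgebraicGeometry TopologicalSpace

namespace Groth.Agent.Lib.R2H4.GrpdClSub

open Groth.Agent.Lib.R2H4.SubGrpd Groth.Agent.Lib.R2H4.GrpdHom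

open Scheme.IdealSheafData in
/-- a morphism from a reduced scheme with image in a closed set factors through the reduced
induced structure. -/
theorem exists_lift_of_range_subset {T X : Scheme.{u}} [IsReduced T] (x : T ⟶ X) (Z : Closeds X)
    (h : Set.range x ⊆ (Z : Set X)) :
    ∃ l : T ⟶ (vanishingIdeal Z).subscheme, l ≫ (vanishingIdeal Z).subschemeι = x := by
  have hker : (vanishingIdeal Z).subschemeι.ker ≤ x.ker := by
    rw [ker_subschemeι, Groth.Agent.Lib.Helper10.RedInd.ker_eq_vanishingIdeal_of_isReduced x]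
    apply vanishingIdeal_antimono
    rw [Closeds.closure_le]
    exact h
  exact ⟨IsClosedImmersion.lift _ x hker, IsClosedImmersion.lift_fac _ x hker⟩

/-- fibre products of reduced schemes over a perfect field are reduced. -/
theorem isReduced_pullback_of_perfectField {k : Type u} [Field k] [PerfectField k]
    {U Z W : Scheme.{u}} (eU : U ≅ Spec (CommRingCat.of k)) (a : Z ⟶ U) (b : W ⟶ U) [IsReduced Z]
    [IsReduced W] : IsReduced (pullback a b) := by
  letI : Z.Over (Spec (CommRingCat.of k)) := ⟨a ≫ eU.hom⟩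
  haveI : GeometricallyReduced (a ≫ eU.hom) :=
    Groth.Agent.Lib.Helper6.SepCl.geometricallyReduced_of_perfectField k Z
  haveI : IsReduced (pullback (a ≫ eU.hom) (b ≫ eU.hom)) :=
    Groth.Agent.Lib.Helper12.GR.isReduced_pullback (a ≫ eU.hom) (b ≫ eU.hom)
  let m : pullback a b ⟶ pullback (a ≫ eU.hom) (b ≫ eU.hom) :=
    pullback.map a b (a ≫ eU.hom) (b ≫ eU.hom) (𝟙 _) (𝟙 _) eU.hom (by simp) (by simp)
  haveI : IsIso m := by
    dsimp only [m]
    infer_instance
  exact isReduced_of_isOpenImmersion m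

open Scheme.IdealSheafData in
/-- S7491: the groupoid on the reduced closure of the image of a morphism of groupoids. -/
theorem exists_groupoid_on_closure_image (S : Scheme.{u}) (G₁ G₂ : Grpd.GroupoidScheme S)
    (f : Grpd.GroupoidScheme.Hom G₁ G₂) [IsIso f.fU] (k : Type u) [Field k] [PerfectField k]
    (eU : G₂.U ≅ Spec (CommRingCat.of k)) :
    ∃ (G' : Grpd.GroupoidScheme S) (ψ : Grpd.GroupoidScheme.Hom G' G₂), IsIso ψ.fU ∧
      IsClosedImmersion ψ.fR ∧ IsReduced G'.R ∧ Set.range ⇑ψ.fR = closure (Set.range ⇑f.fR) := by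
  let C : Closeds G₂.R := ⟨closure (Set.range f.fR), isClosed_closure⟩
  let ι : (vanishingIdeal C).subscheme ⟶ G₂.R := (vanishingIdeal C).subschemeι
  have hrange : Set.range ι = closure (Set.range f.fR) := by
    rw [range_subschemeι, coe_support_vanishingIdeal]; rfl
  haveI : IsReduced (vanishingIdeal C).subscheme :=
    Groth.Agent.Lib.Helper10.RedInd.isReduced_subscheme_vanishingIdeal C
  haveI : IsReduced G₂.U := isReduced_of_isOpenImmersion eU.hom
  -- identity
  obtain ⟨e', he⟩ := exists_lift_of_range_subset G₂.e C (by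
    rintro _ ⟨u, rfl⟩
    have hu : u = f.fU ((inv f.fU) u) := by
      rw [← Scheme.Hom.comp_apply, IsIso.inv_hom_id]; rfl
    have h1 := congrArg (fun m => m.base ((inv f.fU) u)) (hom_e f)
    simp only [Scheme.Hom.comp_base, TopCat.comp_app] at h1
    rw [hu]
    exact subset_closure ⟨_, h1⟩)
  -- inverse
  have hiA : ∀ r ∈ closure (Set.range f.fR), G₂.i r ∈ closure (Set.range f.fR) := by
    intro r hr
    have h1 : G₂.i r ∈ G₂.i '' closure (Set.range f.fR) := ⟨r, hr, rfl⟩
    refine closure_mono ?_ (image_closure_subset_closure_image G₂.i.continuous h1)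
    rintro _ ⟨_, ⟨r₁, rfl⟩, rfl⟩
    have h2 := congrArg (fun m => m.base r₁) (hom_i f)
    simp only [Scheme.Hom.comp_base, TopCat.comp_app] at h2
    exact ⟨_, h2⟩
  obtain ⟨i', hi⟩ := exists_lift_of_range_subset (ι ≫ G₂.i) C (by
    rintro _ ⟨z, rfl⟩
    rw [Scheme.Hom.comp_apply]
    apply hiA
    rw [← hrange]
    exact ⟨z, rfl⟩)
  -- composition
  haveI : IsReduced (pullback (ι ≫ G₂.s) (ι ≫ G₂.t)) :=
    isReduced_pullback_of_perfectField eU _ _
  obtain ⟨c', hc⟩ := exists_lift_of_range_subset (prodMap G₂ ι ≫ G₂.c) C (by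
    rintro _ ⟨w, rfl⟩
    rw [Scheme.Hom.comp_apply]
    apply Groth.Agent.S7462.result S G₁ G₂ f k eU
    · rw [← Scheme.Hom.comp_apply, pullback.lift_fst, Scheme.Hom.comp_apply, ← hrange]
      exact ⟨_, rfl⟩
    · rw [← Scheme.Hom.comp_apply, pullback.lift_snd, Scheme.Hom.comp_apply, ← hrange]
      exact ⟨_, rfl⟩)
  refine ⟨subGroupoid G₂ ι c' hc e' he i' hi, subGroupoidHom G₂ ι c' hc e' he i' hi, ?_, ?_, ?_, ?_⟩
  · change IsIso (𝟙 G₂.U)
    infer_instance
  · change IsClosedImmersion ι
    infer_instance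
  · change IsReduced (vanishingIdeal C).subscheme
    infer_instance
  · exact hrange

end Groth.Agent.Lib.R2H4.GrpdClSub
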