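import Mathlib
import Groth.Prelude.Def_Grpd
import Groth.Agent.Lib.Helper2Grpd

set_option autoImplicit false
universe u
open CategoryTheory CategoryTheory.Limits AlgebraicGeometry

namespace Groth.Agent.Lib.R2H4.GrpdFibIso

open Groth.Agent.Lib.Helper2.Grpd

variable {S : Scheme.{u}} (G : Grpd.GroupoidScheme S) {T : Scheme.{u}} (γ : T ⟶ G.R)

lemma trans_cond : pullback.fst G.s (γ ≫ G.t) ≫ G.s = (pullback.snd G.s (γ ≫ G.t) ≫ γ) ≫ G.t := by
  rw [pullback.condition, Category.assoc]

lemma trans_cond' : pullback.fst G.s (γ ≫ G.s) ≫ G.s =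
    ((pullback.snd G.s (γ ≫ G.s) ≫ γ) ≫ G.i) ≫ G.t := by
  rw [pullback.condition, Category.assoc, Category.assoc, G.i_t]

/-- right translation by a `T`-point `γ` of `R`: the fibre of `s` over `t γ` to the fibre of `s`
over `s γ`. -/
noncomputable def transHom : pullback G.s (γ ≫ G.t) ⟶ pullback G.s (γ ≫ G.s) :=
  pullback.lift (comp G (pullback.fst _ _) (pullback.snd _ _ ≫ γ) (trans_cond G γ))
    (pullback.snd _ _) (by rw [comp_s, Category.assoc])

/-- right translation by `γ⁻¹`. -/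
noncomputable def transInv : pullback G.s (γ ≫ G.s) ⟶ pullback G.s (γ ≫ G.t) :=
  pullback.lift (comp G (pullback.fst _ _) ((pullback.snd _ _ ≫ γ) ≫ G.i) (trans_cond' G γ))
    (pullback.snd _ _) (by rw [comp_s, Category.assoc, Category.assoc, G.i_s])

lemma transHom_fst : transHom G γ ≫ pullback.fst _ _ =
    comp G (pullback.fst _ _) (pullback.snd _ _ ≫ γ) (trans_cond G γ) := pullback.lift_fst _ _ _

lemma transHom_snd : transHom G γ ≫ pullback.snd _ _ = pullback.snd _ _ := pullback.lift_snd _ _ _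

lemma transInv_fst : transInv G γ ≫ pullback.fst _ _ =
    comp G (pullback.fst _ _) ((pullback.snd _ _ ≫ γ) ≫ G.i) (trans_cond' G γ) :=
  pullback.lift_fst _ _ _

lemma transInv_snd : transInv G γ ≫ pullback.snd _ _ = pullback.snd _ _ := pullback.lift_snd _ _ _

/-- right translation as an isomorphism of fibres. -/
noncomputable def transIso : pullback G.s (γ ≫ G.t) ≅ pullback G.s (γ ≫ G.s) where
  hom := transHom G γ
  inv := transInv G γ
  hom_inv_id := by
    apply pullback.hom_ext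
    · rw [Category.assoc, transInv_fst, precomp_comp, Category.id_comp]
      have h1 : transHom G γ ≫ (pullback.snd G.s (γ ≫ G.s) ≫ γ) ≫ G.i =
          (pullback.snd G.s (γ ≫ G.t) ≫ γ) ≫ G.i := by
        rw [← Category.assoc, ← Category.assoc, transHom_snd]
      rw [comp_congr G _ (transHom_fst G γ) h1]
      exact comp_comp_i G _ _ _ _
    · rw [Category.assoc, transInv_snd, transHom_snd, Category.id_comp]
  inv_hom_id := by
    apply pullback.hom_ext
    · rw [Category.assoc, transHom_fst, precomp_comp, Category.id_comp]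
      have h1 : transInv G γ ≫ pullback.snd G.s (γ ≫ G.t) ≫ γ =
          pullback.snd G.s (γ ≫ G.s) ≫ γ := by
        rw [← Category.assoc, transInv_snd]
      rw [comp_congr G _ (transInv_fst G γ) h1]
      exact comp_i_comp' G _ _ _ _
    · rw [Category.assoc, transHom_snd, transInv_snd, Category.id_comp]

end Groth.Agent.Lib.R2H4.GrpdFibIso

namespace Groth.Agent.Lib.R2H4.GrpdFibIso

open Groth.Agent.Lib.Helper2.Grpd

/-- S7498: fibres of `s` at the sources of two arrows with the same target become isomorphic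
after a common field extension. -/
theorem exists_iso_fibres (S : Scheme.{u}) (G : Grpd.GroupoidScheme S) (r r' : G.R)
    (h : G.t r = G.t r') :
    ∃ (k : Type u) (_ : Field k) (a b : Spec (CommRingCat.of k) ⟶ G.U)
      (φ : pullback G.s a ≅ pullback G.s b) (p : ↑(pullback G.s a)),
      a (IsLocalRing.closedPoint k) = G.s r ∧ b (IsLocalRing.closedPoint k) = G.s r' ∧
      φ.hom ≫ pullback.snd G.s b = pullback.snd G.s a ∧ pullback.fst G.s a p = r ∧
      pullback.fst G.s b (φ.hom p) = r' := by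
  obtain ⟨w, hw1, hw2⟩ := Scheme.Pullback.exists_preimage_pullback r r' h
  let k : Type u := (pullback G.t G.t).residueField w
  let ρ : Spec (CommRingCat.of k) ⟶ pullback G.t G.t := (pullback G.t G.t).fromSpecResidueField w
  have hρ : ρ (IsLocalRing.closedPoint k) = w := Scheme.fromSpecResidueField_apply _ _
  obtain ⟨α, hα⟩ : ∃ α : Spec (CommRingCat.of k) ⟶ G.R, α = ρ ≫ pullback.fst G.t G.t := ⟨_, rfl⟩
  obtain ⟨β, hβ⟩ : ∃ β : Spec (CommRingCat.of k) ⟶ G.R, β = ρ ≫ pullback.snd G.t G.t := ⟨_, rfl⟩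
  have hαr : α (IsLocalRing.closedPoint k) = r := by
    rw [hα, Scheme.Hom.comp_apply, hρ, hw1]
  have hβr : β (IsLocalRing.closedPoint k) = r' := by
    rw [hβ, Scheme.Hom.comp_apply, hρ, hw2]
  have hαβ : α ≫ G.t = β ≫ G.t := by
    rw [hα, hβ, Category.assoc, Category.assoc, pullback.condition]
  have h1 : (α ≫ G.i) ≫ G.s = β ≫ G.t := by rw [Category.assoc, G.i_s, hαβ]
  obtain ⟨γ, hγ⟩ : ∃ γ : Spec (CommRingCat.of k) ⟶ G.R, γ = comp G (α ≫ G.i) β h1 := ⟨_, rfl⟩
  have hγt : γ ≫ G.t = α ≫ G.s := by rw [hγ, comp_t, Category.assoc, G.i_t]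
  have hγs : γ ≫ G.s = β ≫ G.s := by rw [hγ, comp_s]
  have hl : α ≫ G.s = 𝟙 _ ≫ γ ≫ G.t := by rw [Category.id_comp, hγt]
  refine ⟨k, inferInstance, γ ≫ G.t, γ ≫ G.s, transIso G γ,
    (pullback.lift α (𝟙 _) hl) (IsLocalRing.closedPoint k), ?_, ?_, ?_, ?_, ?_⟩
  · rw [hγt, Scheme.Hom.comp_apply, hαr]
  · rw [hγs, Scheme.Hom.comp_apply, hβr]
  · exact transHom_snd G γ
  · rw [← Scheme.Hom.comp_apply, pullback.lift_fst, hαr]
  · change pullback.fst G.s (γ ≫ G.s) ((transHom G γ) _) = r'
    rw [← Scheme.Hom.comp_apply, ← Scheme.Hom.comp_apply, transHom_fst,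
      precomp_comp]
    have h2 : pullback.lift α (𝟙 _) hl ≫ pullback.snd G.s (γ ≫ G.t) ≫ γ = γ := by
      rw [← Category.assoc, pullback.lift_snd, Category.id_comp]
    rw [comp_congr G _ (pullback.lift_fst _ _ _) h2]
    have h3 : comp G α γ (by rw [hγt]) = β := by
      subst hγ
      exact comp_i_comp G α β h1 _
    rw [h3, hβr]

end Groth.Agent.Lib.R2H4.GrpdFibIso
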