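import Mathlib
import Groth.Prelude.Def_Grpd

/-!
# Orbits of groupoid schemes with finite source and target (helper4, round 2)

* `c_s`, `c_t`, `orbit_trans`: the orbit relation on points is transitive.
* `eq_of_specializes_of_fibre`: no nontrivial specializations in fibres of locally quasi-finite morphisms.
* `not_specializes_of_same_orbit_finite`.
-/

set_option autoImplicit false
universe u
open CategoryTheory CategoryTheory.Limits AlgebraicGeometry

namespace Groth.Agent.Lib.R2H4.GrpdOrbit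

variable {S : Scheme.{u}} (G : Grpd.GroupoidScheme S)

theorem c_s : G.c ≫ G.s = pullback.snd G.s G.t ≫ G.s := by
  have h := G.comp_s (pullback.fst G.s G.t) (pullback.snd G.s G.t) pullback.condition
  have h1 : pullback.lift (pullback.fst G.s G.t) (pullback.snd G.s G.t) pullback.condition =
      𝟙 (pullback G.s G.t) := by
    apply pullback.hom_ext <;> simp
  rwa [h1, Category.id_comp] at h

theorem c_t : G.c ≫ G.t = pullback.fst G.s G.t ≫ G.t := by
  have h := G.comp_t (pullback.fst G.s G.t) (pullback.snd G.s G.t) pullback.condition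
  have h1 : pullback.lift (pullback.fst G.s G.t) (pullback.snd G.s G.t) pullback.condition =
      𝟙 (pullback G.s G.t) := by
    apply pullback.hom_ext <;> simp
  rwa [h1, Category.id_comp] at h

/-- transitivity of the orbit relation on points. -/
theorem orbit_trans {x y z : G.U} (r₁ r₂ : G.R) (h1s : G.s r₁ = x) (h1t : G.t r₁ = y)
    (h2s : G.s r₂ = y) (h2t : G.t r₂ = z) : ∃ r₃ : G.R, G.s r₃ = x ∧ G.t r₃ = z := by
  obtain ⟨w, hw1, hw2⟩ := Scheme.Pullback.exists_preimage_pullback (f := G.s) (g := G.t) r₂ r₁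
    (h2s.trans h1t.symm)
  refine ⟨G.c w, ?_, ?_⟩
  · rw [← Scheme.Hom.comp_apply, c_s, Scheme.Hom.comp_apply, hw2, h1s]
  · rw [← Scheme.Hom.comp_apply, c_t, Scheme.Hom.comp_apply, hw1, h2t]

/-- no nontrivial specializations in the fibres of a locally quasi-finite morphism. -/
theorem eq_of_specializes_of_fibre {X Y : Scheme.{u}} (f : X ⟶ Y) [LocallyQuasiFinite f] {a b : X}
    (h : a ⤳ b) (hf : f a = f b) : a = b := by
  have hd : DiscreteTopology (f ⁻¹' {f b}) := (f.isDiscrete_preimage_singleton (f b)).to_subtype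
  let a' : f ⁻¹' {f b} := ⟨a, hf⟩
  let b' : f ⁻¹' {f b} := ⟨b, rfl⟩
  have h' : a' ⤳ b' := (subtype_specializes_iff a' b').2 h
  have := h'.eq
  exact congrArg Subtype.val this

theorem not_specializes_of_same_orbit_finite [IsFinite G.s] [IsFinite G.t] (r : G.R)
    (hne : G.s r ≠ G.t r) : ¬ (G.s r ⤳ G.t r) := by
  intro hsp
  classical
  let u := G.s r
  let O : Set G.U := G.t '' (G.s ⁻¹' {u})
  have hO : O.Finite := (Scheme.Hom.finite_preimage_singleton G.s u).image _
  have : Finite O := hO.to_subtype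
  -- the strict specialization relation on `O`
  let rel : O → O → Prop := fun a b => (b : G.U) ⤳ (a : G.U) ∧ (a : G.U) ≠ (b : G.U)
  have : IsTrans O rel := ⟨fun a b c hab hbc => ⟨hbc.1.trans hab.1, fun hac => by
    have h1 : (b : G.U) ⤳ (a : G.U) := hab.1
    have h2 : (a : G.U) ⤳ (b : G.U) := by rw [hac]; exact hbc.1
    exact hab.2 (h2.antisymm h1).eq⟩⟩
  have : Std.Irrefl rel := ⟨fun a h => h.2 rfl⟩
  have hwf : WellFounded rel := Finite.wellFounded_of_trans_of_irrefl rel
  -- the set of targets of nontrivial specializing arrows inside the orbit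
  let T : Set O := {y | ∃ r' : G.R, G.s r' ≠ (y : G.U) ∧ G.t r' = (y : G.U) ∧ G.s r' ⤳ (y : G.U) ∧
    G.s r' ∈ O}
  have hu : u ∈ O := by
    refine ⟨G.e u, ?_, ?_⟩
    · change G.s (G.e u) = u
      rw [← Scheme.Hom.comp_apply, G.e_s]; rfl
    · rw [← Scheme.Hom.comp_apply, G.e_t]; rfl
  have hT : T.Nonempty := ⟨⟨G.t r, ⟨r, rfl, rfl⟩⟩, r, hne, rfl, hsp, hu⟩
  obtain ⟨y, hyT, hmin⟩ := hwf.has_min T hT
  obtain ⟨r', hne', ht', hsp', hsO⟩ := hyT
  -- lift the specialization along `s`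
  have hspec : SpecializingMap G.s := (G.s.isClosedMap).specializingMap
  obtain ⟨r'', hr'', hs''⟩ := hspec (a := r') (b := (y : G.U)) hsp'
  have hyz : (y : G.U) ⤳ G.t r'' := by
    rw [← ht']; exact hr''.map G.t.continuous
  have hne'' : G.s r'' ≠ G.t r'' := by
    intro heq
    have h1 : G.t r' = G.t r'' := by rw [ht', ← heq, hs'']
    have h2 : r' = r'' := eq_of_specializes_of_fibre G.t hr'' h1
    rw [h2, hs''] at hne'
    exact hne' rfl
  obtain ⟨ρ, hρ, hρs, hρt⟩ : ∃ ρ : G.R, True ∧ G.s ρ = u ∧ G.t ρ = (y : G.U) := by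
    obtain ⟨ρ, hρ1, hρ2⟩ := y.2
    exact ⟨ρ, trivial, hρ1, hρ2⟩
  obtain ⟨ρ', hρ's, hρ't⟩ := orbit_trans G ρ r'' hρs hρt hs'' rfl
  let z : O := ⟨G.t r'', ρ', hρ's, hρ't⟩
  have hzT : z ∈ T := ⟨r'', hne'', rfl, by rw [hs'']; exact hyz, by rw [hs'']; exact y.2⟩
  refine hmin z hzT ⟨hyz, fun h => hne'' ?_⟩
  rw [hs'']; exact h.symm

end Groth.Agent.Lib.R2H4.GrpdOrbit
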