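import Mathlib
import Groth.Prelude.Def_Grpd
import Groth.Agent.Lib.R2H4BigAlgClosed

set_option autoImplicit false
set_option linter.style.haveILetI false
universe u
open CategoryTheory CategoryTheory.Limits AlgebraicGeometry

namespace Groth.Agent.Lib.R2H4.GrpdRestrPt

open Groth.Agent.Lib.R2H4.BigAlgClosed

/-- if `x ≫ y` is an isomorphism then `y` induces isomorphisms on residue fields at points in the
image of `x`. -/
theorem isIso_residueFieldMap_of_isIso_comp {A B C : Scheme.{u}} (x : A ⟶ B) (y : B ⟶ C)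
    [IsIso (x ≫ y)] (a : A) : IsIso (y.residueFieldMap (x a)) := by
  have h1 : (x ≫ y).residueFieldMap a = y.residueFieldMap (x a) ≫ x.residueFieldMap a :=
    Scheme.residueFieldMap_comp x y a
  have hbij : Function.Bijective ((x ≫ y).residueFieldMap a).hom :=
    ConcreteCategory.bijective_of_isIso _
  have hcomp : ∀ w, ((x ≫ y).residueFieldMap a).hom w =
      (x.residueFieldMap a).hom ((y.residueFieldMap (x a)).hom w) := by
    intro w
    rw [h1]
    rfl
  have hx : Function.Bijective (x.residueFieldMap a).hom := by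
    refine ⟨(x.residueFieldMap a).hom.injective, ?_⟩
    intro z
    obtain ⟨w, hw⟩ := hbij.2 z
    exact ⟨(y.residueFieldMap (x a)).hom w, (hcomp w).symm.trans hw⟩
  have hy : Function.Bijective (y.residueFieldMap (x a)).hom := by
    refine ⟨(y.residueFieldMap (x a)).hom.injective, ?_⟩
    intro z
    obtain ⟨w, hw⟩ := hbij.2 ((x.residueFieldMap a).hom z)
    exact ⟨w, hx.1 ((hcomp w).symm.trans hw)⟩
  exact (ConcreteCategory.isIso_iff_bijective _).mpr hy



/-- S7493. -/
theorem exists_point_restriction (S : Scheme.{u}) (G : Grpd.GroupoidScheme S) (k : Type u) [Field k]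
    (eU : G.U ≅ Spec (CommRingCat.of k)) (r : G.R) :
    ∃ (k' : Type u) (_ : Field k') (_ : IsAlgClosed k') (_ : Algebra k k'),
      ∃ r' : ↑(pullback (pullback.snd (Spec.map (CommRingCat.ofHom (algebraMap k k')) ≫ eU.inv) G.t ≫
          G.s) (Spec.map (CommRingCat.ofHom (algebraMap k k')) ≫ eU.inv)),
        (pullback.fst (pullback.snd (Spec.map (CommRingCat.ofHom (algebraMap k k')) ≫ eU.inv) G.t ≫
          G.s) (Spec.map (CommRingCat.ofHom (algebraMap k k')) ≫ eU.inv) ≫
          pullback.snd (Spec.map (CommRingCat.ofHom (algebraMap k k')) ≫ eU.inv) G.t) r' = r ∧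
        IsIso ((pullback.snd (pullback.snd (Spec.map (CommRingCat.ofHom (algebraMap k k')) ≫
          eU.inv) G.t ≫ G.s) (Spec.map (CommRingCat.ofHom (algebraMap k k')) ≫
          eU.inv)).residueFieldMap r') ∧
        IsIso ((pullback.fst (pullback.snd (Spec.map (CommRingCat.ofHom (algebraMap k k')) ≫
          eU.inv) G.t ≫ G.s) (Spec.map (CommRingCat.ofHom (algebraMap k k')) ≫ eU.inv) ≫
          pullback.fst (Spec.map (CommRingCat.ofHom (algebraMap k k')) ≫
          eU.inv) G.t).residueFieldMap r') := by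
  let K : Type u := G.R.residueField r
  let ρ₀ : Spec (CommRingCat.of K) ⟶ G.R := G.R.fromSpecResidueField r
  let sK : CommRingCat.of k ⟶ CommRingCat.of K := Spec.preimage (ρ₀ ≫ G.s ≫ eU.hom)
  let tK : CommRingCat.of k ⟶ CommRingCat.of K := Spec.preimage (ρ₀ ≫ G.t ≫ eU.hom)
  have hs : Spec.map sK = ρ₀ ≫ G.s ≫ eU.hom := Spec.map_preimage _
  have ht : Spec.map tK = ρ₀ ≫ G.t ≫ eU.hom := Spec.map_preimage _
  obtain ⟨k', _, _, σ, τ, hτ⟩ := exists_field_data sK.hom tK.hom
  letI : Algebra k k' := (σ.comp sK.hom).toAlgebra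
  refine ⟨k', inferInstance, inferInstance, inferInstance, ?_⟩
  obtain ⟨g, hg⟩ : ∃ g : Spec (CommRingCat.of k') ⟶ G.U,
    g = Spec.map (CommRingCat.ofHom (algebraMap k k')) ≫ eU.inv := ⟨_, rfl⟩
  rw [← hg]
  have hg1 : CommRingCat.ofHom (algebraMap k k') = sK ≫ CommRingCat.ofHom σ := rfl
  obtain ⟨ρ, hρ⟩ : ∃ ρ : Spec (CommRingCat.of k') ⟶ G.R, ρ = Spec.map (CommRingCat.ofHom σ) ≫ ρ₀ :=
    ⟨_, rfl⟩
  have hρs : ρ ≫ G.s = g := by
    rw [hg, hg1, Spec.map_comp, hs, hρ]
    simp only [Category.assoc, Iso.hom_inv_id, Category.comp_id]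
  have hτ' : CommRingCat.ofHom (algebraMap k k') ≫ CommRingCat.ofHom τ.toRingHom =
      tK ≫ CommRingCat.ofHom σ := by
    ext x
    exact hτ x
  have hρt : Spec.map (CommRingCat.ofHom τ.toRingHom) ≫ g = ρ ≫ G.t := by
    rw [hg, ← Category.assoc, ← Spec.map_comp, hτ', Spec.map_comp, ht, hρ]
    simp only [Category.assoc, Iso.hom_inv_id, Category.comp_id]
  let x₁ : Spec (CommRingCat.of k') ⟶ pullback g G.t :=
    pullback.lift (Spec.map (CommRingCat.ofHom τ.toRingHom)) ρ hρt
  have hx₁ : x₁ ≫ pullback.snd g G.t ≫ G.s = 𝟙 _ ≫ g := by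
    rw [← Category.assoc, pullback.lift_snd, hρs, Category.id_comp]
  let x : Spec (CommRingCat.of k') ⟶ pullback (pullback.snd g G.t ≫ G.s) g :=
    pullback.lift x₁ (𝟙 _) hx₁
  have hxs : x ≫ pullback.snd (pullback.snd g G.t ≫ G.s) g = 𝟙 _ := pullback.lift_snd _ _ _
  have hxt : x ≫ pullback.fst (pullback.snd g G.t ≫ G.s) g ≫ pullback.fst g G.t =
      Spec.map (CommRingCat.ofHom τ.toRingHom) := by
    rw [← Category.assoc, pullback.lift_fst, pullback.lift_fst]
  have hxr : x ≫ pullback.fst (pullback.snd g G.t ≫ G.s) g ≫ pullback.snd g G.t = ρ := by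
    rw [← Category.assoc, pullback.lift_fst, pullback.lift_snd]
  refine ⟨x (IsLocalRing.closedPoint k'), ?_, ?_, ?_⟩
  · rw [← Scheme.Hom.comp_apply, hxr, hρ, Scheme.Hom.comp_apply]
    exact Scheme.fromSpecResidueField_apply _ _
  · have : IsIso (x ≫ pullback.snd (pullback.snd g G.t ≫ G.s) g) := by
      rw [hxs]; infer_instance
    exact isIso_residueFieldMap_of_isIso_comp x _ _
  · have : IsIso (Spec.map (CommRingCat.ofHom τ.toRingHom)) := by
      have : IsIso (CommRingCat.ofHom τ.toRingHom) :=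
        (ConcreteCategory.isIso_iff_bijective _).mpr τ.bijective
      infer_instance
    have : IsIso (x ≫ pullback.fst (pullback.snd g G.t ≫ G.s) g ≫ pullback.fst g G.t) := by
      rw [hxt]; infer_instance
    exact isIso_residueFieldMap_of_isIso_comp x _ _

end Groth.Agent.Lib.R2H4.GrpdRestrPt
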