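import Mathlib
import Groth.Prelude.Def_Grpd
import Groth.Agent.Lib.R2H4GrpdFibIso
import Groth.Agent.Lib.R2H4SchImage
import Groth.Agent.Lib.Helper25SmUnit

set_option autoImplicit false
universe u
open CategoryTheory CategoryTheory.Limits AlgebraicGeometry

namespace Groth.Agent.Lib.R2H4.GrpdSmooth

open Groth.Agent.Lib.Helper2.Grpd Groth.Agent.Lib.R2H4.GrpdFibIso

variable {S : Scheme.{u}} (G : Grpd.GroupoidScheme S)

/-- the inverse of a groupoid scheme is an involution. -/
theorem i_i : G.i ≫ G.i = 𝟙 G.R := by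
  obtain ⟨α, hα⟩ : ∃ α : G.R ⟶ G.R, α = 𝟙 G.R := ⟨_, rfl⟩
  obtain ⟨a, ha⟩ : ∃ a : G.R ⟶ G.R, a = α ≫ G.i := ⟨_, rfl⟩
  obtain ⟨b, hb⟩ : ∃ b : G.R ⟶ G.R, b = a ≫ G.i := ⟨_, rfl⟩
  have has : a ≫ G.s = α ≫ G.t := by rw [ha, Category.assoc, G.i_s]
  have hat : a ≫ G.t = α ≫ G.s := by rw [ha, Category.assoc, G.i_t]
  have hbs : b ≫ G.s = a ≫ G.t := by rw [hb, Category.assoc, G.i_s]
  have hbt : b ≫ G.t = a ≫ G.s := by rw [hb, Category.assoc, G.i_t]
  have h1 : comp G a α has = α ≫ G.s ≫ G.e := by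
    subst ha
    exact i_comp G α _
  have h2 : comp G b a hbs = a ≫ G.s ≫ G.e := by
    subst hb
    exact i_comp G a _
  have h3 : b = comp G b (comp G a α has) (by rw [comp_t, hbs]) := by
    refine (comp_e G b _ ?_ _).symm
    rw [h1, reassoc_of% hbs, reassoc_of% hat]
  have h4 : comp G b (comp G a α has) (by rw [comp_t, hbs]) =
      comp G (comp G b a hbs) α (by rw [comp_s, has]) := (comp_assoc G b a α hbs has).symm
  have h5 : comp G (comp G b a hbs) α (by rw [comp_s, has]) = α := by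
    refine e_comp G α _ ?_ _
    rw [h2, reassoc_of% has]
  have h6 : b = α := h3.trans (h4.trans h5)
  rw [hb, ha, hα, Category.id_comp] at h6
  exact h6

instance : IsIso G.i := ⟨G.i, i_i G, i_i G⟩

/-- homogeneity of the smooth locus of `s` along arrows with the same target. -/
theorem mem_smoothLocus_of_same_target [LocallyOfFinitePresentation G.s]
    (hflat : ∀ (K : Type u) [Field K] (b : Spec (CommRingCat.of K) ⟶ G.U), Flat b)
    (r₁ r₂ : G.R) (h : G.t r₁ = G.t r₂) (h₁ : r₁ ∈ G.s.smoothLocus) : r₂ ∈ G.s.smoothLocus := by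
  obtain ⟨K, _, a, b, φ, p, -, -, hφ, hp1, hp2⟩ := exists_iso_fibres S G r₁ r₂ h
  have h1 : p ∈ (pullback.snd G.s a).smoothLocus :=
    Groth.Agent.Lib.Helper25.SmUnit.mem_smoothLocus_pullback_snd G.s a p (hp1 ▸ h₁)
  have h2 : φ.hom p ∈ (pullback.snd G.s b).smoothLocus := by
    have h3 : (pullback.snd G.s a).smoothLocus = (φ.hom ≫ pullback.snd G.s b).smoothLocus := by
      congr 1
      exact hφ.symm
    rw [h3, ← Scheme.Hom.preimage_smoothLocus_eq] at h1
    exact h1
  have := hflat K b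
  have h3 := Groth.Agent.Lib.Helper20.FlatDesc.formallySmooth_stalkMap_of_flat_baseChange G.s b
    (φ.hom p) h2
  rw [hp2] at h3
  exact h3

/-- S7455. -/
theorem smooth_st_of_perfectField_reduced (k : Type u) [Field k] [PerfectField k]
    (eU : G.U ≅ Spec (CommRingCat.of k)) [LocallyOfFiniteType G.s] [IsReduced G.R] :
    Smooth G.s ∧ Smooth G.t := by
  obtain ⟨h1, h2⟩ := Groth.Agent.Lib.R2H4.SchImage.subsingleton_and_isIntegral_of_iso eU
  have : IsLocallyNoetherian G.U := by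
    have : IsLocallyNoetherian (Spec (CommRingCat.of k)) := inferInstance
    exact isLocallyNoetherian_of_isOpenImmersion eU.hom
  have hfp : LocallyOfFinitePresentation G.s := inferInstance
  have hs : Smooth G.s := by
    rw [← Scheme.Hom.smoothLocus_eq_top_iff, eq_top_iff]
    intro r₂ _
    have hfp' : LocallyOfFinitePresentation (G.s ≫ eU.hom) := inferInstance
    have hd := Scheme.Hom.dense_smoothLocus_of_perfectField (G.s ≫ eU.hom)
    have : Nonempty G.R := ⟨r₂⟩
    obtain ⟨r₁, hr₁⟩ := hd.nonempty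
    have hr₁' : r₁ ∈ G.s.smoothLocus := by
      have hr : ((G.s ≫ eU.hom).stalkMap r₁).hom.FormallySmooth := hr₁
      rw [Scheme.Hom.stalkMap_comp] at hr
      exact (RingHom.FormallySmooth.respectsIso.cancel_left_isIso
        (eU.hom.stalkMap (G.s r₁)) (G.s.stalkMap r₁)).mp hr
    exact mem_smoothLocus_of_same_target G (fun K _ b => inferInstance) r₁ r₂
      (Subsingleton.elim _ _) hr₁'
  refine ⟨hs, ?_⟩
  rw [← G.i_s]
  infer_instance

end Groth.Agent.Lib.R2H4.GrpdSmooth
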