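import Mathlib
import Groth.Prelude.Def_HTop

/-!
# Valuative lifting along proper surjective morphisms; standard ph coverings are standard V (helper4, round 2)

* `exists_valLift_of_proper_surjective`: for `f : U ⟶ T` universally closed and surjective, every `Spec V ⟶ T`
  (V a valuation ring) lifts to `U` after an extension of valuation rings.
* `isStandardV_of_isStandardPh`, `exists_isStandardPh_of_proper_surjective`,
  `isHCover_singleton_of_proper_surjective`.
-/

set_option autoImplicit false
universe w u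
open CategoryTheory CategoryTheory.Limits AlgebraicGeometry Opposite HTop

namespace Groth.Agent.Lib.R2H4.ValLift

/-- Valuative lifting (after an extension of valuation rings) along a proper surjective morphism. -/
theorem exists_valLift_of_proper_surjective {U T : Scheme.{u}} (f : U ⟶ T) [UniversallyClosed f]
    [Surjective f] (V : CommRingCat.{u}) [IsDomain V] [ValuationRing V] (g : Spec V ⟶ T) :
    ∃ (W : CommRingCat.{u}) (_ : IsDomain W) (_ : ValuationRing W) (φ : V ⟶ W),
      IsExtVal V W φ ∧ ∃ l : Spec W ⟶ U, l ≫ f = Spec.map φ ≫ g := by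
  let K := FractionRing V
  let iK : V →+* K := algebraMap V K
  let η : Spec (CommRingCat.of K) ⟶ T := Spec.map (CommRingCat.ofHom iK) ≫ g
  haveI : Surjective (pullback.fst η f) := inferInstance
  obtain ⟨y, -⟩ := (pullback.fst η f).surjective (Classical.arbitrary _)
  let P := pullback η f
  let L := P.residueField y
  let iL : Spec L ⟶ P := P.fromSpecResidueField y
  let a : Spec L ⟶ Spec (CommRingCat.of K) := iL ≫ pullback.fst η f
  let ψ : CommRingCat.of K ⟶ L := Spec.preimage a
  have hψ : Spec.map ψ = a := Spec.map_preimage a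
  let φ₀ : V →+* L := ψ.hom.comp iK
  have hφ₀inj : Function.Injective φ₀ :=
    (RingHom.injective ψ.hom).comp (IsFractionRing.injective V K)
  obtain ⟨A, hA, hloc⟩ := IsLocalRing.exists_factor_valuationRing φ₀
  let φ : V ⟶ CommRingCat.of A := CommRingCat.ofHom (φ₀.codRestrict A.toSubring hA)
  refine ⟨CommRingCat.of A, inferInstance, inferInstance, φ, ⟨?_, hloc⟩, ?_⟩
  · intro x x' hxx
    apply hφ₀inj
    exact congrArg Subtype.val hxx
  · have hH : ValuativeCriterion.Existence f := by
      have : (ValuativeCriterion.Existence ⊓ @QuasiCompact) f := by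
        rw [← UniversallyClosed.eq_valuativeCriterion]; infer_instance
      exact this.1
    have hcomp : φ ≫ CommRingCat.ofHom (algebraMap A L) = CommRingCat.ofHom iK ≫ ψ := by
      ext x; rfl
    have w : (iL ≫ pullback.snd η f) ≫ f =
        Spec.map (CommRingCat.ofHom (algebraMap A L)) ≫ (Spec.map φ ≫ g) := by
      rw [Category.assoc, ← pullback.condition, ← Category.assoc]
      change a ≫ η = _
      rw [← hψ]
      change Spec.map ψ ≫ Spec.map (CommRingCat.ofHom iK) ≫ g = _
      rw [← Category.assoc, ← Spec.map_comp, ← Category.assoc, ← Spec.map_comp, hcomp]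
    obtain ⟨l, hl₁, hl₂⟩ := (hH { R := A, K := L, commSq := ⟨w⟩, .. }).exists_lift
    exact ⟨l, hl₂⟩

/-- a morphism from the spectrum of a local ring lifts through an open immersion whose range
contains the image of the closed point. -/
theorem exists_lift_openImmersion {X Y : Scheme.{u}} (ι : X ⟶ Y) [IsOpenImmersion ι]
    (W : CommRingCat.{u}) [IsLocalRing W] (l : Spec W ⟶ Y)
    (hc : l.base (IsLocalRing.closedPoint W) ∈ Set.range ι.base) :
    ∃ l' : Spec W ⟶ X, l' ≫ ι = l := by
  have hrange : Set.range l.base ⊆ Set.range ι.base := by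
    rintro _ ⟨z, rfl⟩
    have hz : z ⤳ IsLocalRing.closedPoint W := IsLocalRing.specializes_closedPoint (R := W) z
    exact (hz.map l.base.hom.2).mem_open ι.isOpenEmbedding.isOpen_range hc
  exact ⟨IsOpenImmersion.lift ι l hrange, IsOpenImmersion.lift_fac _ _ _⟩

theorem isStandardV_of_isStandardPh {T : Scheme.{u}} (E : PreZeroHypercover.{w} T)
    (hE : HTop.IsStandardPh E) : HTop.IsStandardV E := by
  obtain ⟨U, f, ι, hprop, hsurj, hopen, hfac, hcov⟩ := hE.exists_proper
  refine ⟨hE.isAffine, hE.finite_index, hE.isAffine_obj, ?_⟩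
  intro V _ _ g
  obtain ⟨W, hWd, hWv, φ, hφ, l, hl⟩ := exists_valLift_of_proper_surjective f V g
  obtain ⟨j, hj⟩ := hcov (l.base (IsLocalRing.closedPoint W))
  haveI := hopen j
  obtain ⟨l', hl'⟩ := exists_lift_openImmersion (ι j) W l hj
  refine ⟨W, hWd, hWv, φ, hφ, j, l', ?_⟩
  rw [← hfac j, ← Category.assoc, hl', hl]


/-- a proper surjective morphism to an affine scheme is refined by a standard ph covering. -/
theorem exists_isStandardPh_of_proper_surjective {Y T : Scheme.{u}} [IsAffine T] (f : Y ⟶ T)
    [IsProper f] [Surjective f] :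
    ∃ (F : PreZeroHypercover.{0} T), IsStandardPh F ∧ ∀ j, ∃ h : F.X j ⟶ Y, h ≫ f = F.f j := by
  haveI : CompactSpace Y := QuasiCompact.compactSpace_of_compactSpace f
  let 𝒰 := Y.affineCover.finiteSubcover
  haveI : Finite 𝒰.I₀ := inferInstance
  let n := Nat.card 𝒰.I₀
  let e : 𝒰.I₀ ≃ Fin n := Finite.equivFin _
  let F : PreZeroHypercover.{0} T :=
    { I₀ := Fin n
      X := fun k => 𝒰.X (e.symm k)
      f := fun k => 𝒰.f (e.symm k) ≫ f }
  refine ⟨F, ⟨inferInstance, inferInstanceAs (Finite (Fin n)), ?_, ?_⟩, fun j => ⟨𝒰.f (e.symm j), rfl⟩⟩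
  · intro j
    change IsAffine (𝒰.X (e.symm j))
    infer_instance
  · refine ⟨Y, f, fun k => 𝒰.f (e.symm k), inferInstance, inferInstance, fun k => ?_, fun k => rfl, ?_⟩
    · change IsOpenImmersion (𝒰.f (e.symm k)); infer_instance
    · intro x
      obtain ⟨i, y, hy⟩ := 𝒰.exists_eq x
      obtain ⟨k, rfl⟩ := e.symm.surjective i
      exact ⟨k, y, hy⟩

theorem isHCover_singleton_of_proper_surjective {X Y : Scheme.{u}} (f : Y ⟶ X) [IsProper f]
    [Surjective f] [LocallyOfFinitePresentation f] :
    HTop.IsHCover (PreZeroHypercover.singleton.{0} f) := by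
  refine ⟨fun i => ?_, fun U => ?_⟩
  · change LocallyOfFinitePresentation f; infer_instance
  · haveI : IsAffine ((U : X.Opens) : Scheme.{u}) := U.2
    haveI : IsProper (f ∣_ (U : X.Opens)) :=
      IsZariskiLocalAtTarget.restrict (P := @IsProper) (inferInstance : IsProper f) _
    haveI : Surjective (f ∣_ (U : X.Opens)) :=
      IsZariskiLocalAtTarget.restrict (P := @Surjective) (inferInstance : Surjective f) _
    obtain ⟨F, hF, hh⟩ := exists_isStandardPh_of_proper_surjective (f ∣_ (U : X.Opens))
    refine ⟨F, isStandardV_of_isStandardPh F hF, fun j => ?_⟩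
    obtain ⟨h, hj⟩ := hh j
    refine ⟨PUnit.unit, h ≫ (f ⁻¹ᵁ (U : X.Opens)).ι, ?_⟩
    change (h ≫ (f ⁻¹ᵁ (U : X.Opens)).ι) ≫ f = _
    rw [Category.assoc, ← morphismRestrict_ι, ← Category.assoc, hj]

end Groth.Agent.Lib.R2H4.ValLift
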