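import Mathlib
import Groth.Prelude.Def_HTop
import Groth.Agent.Lib.R2H4ValLift
import Groth.Agent.Lib.Helper10VCover

/-!
# Valuative lifts from specializations; fpqc coverings are V coverings (helper4, round 2)

* `exists_valuationSubring_of_specializes`: a specialization `z' ⤳ z` in a scheme is realized by a
  morphism from the spectrum of a valuation subring of the residue field of `z'`.
* `exists_valLift_of_specializes`: a specialization in a scheme over `Spec V` lying over
  generic ⤳ closed gives a valuative lift after an extension of valuation rings.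
* `exists_valLift_of_flat`, `isStandardV_of_standard_fpqc`, `isVCover_of_flat_quasiCompactCover`,
  `isVCover_of_fpqc`.
* `hasValLift_of_isVCover`, `isVCover_singleton_of_hasValLift`, `hasValLift_singleton_iff_specializes`.
-/

set_option autoImplicit false
universe w u
open CategoryTheory CategoryTheory.Limits AlgebraicGeometry Opposite HTop

namespace Groth.Agent.Lib.R2H4.ValLift3

open Groth.Agent.Lib.R2H4.ValLift Groth.Agent.Lib.Helper10

/-- A specialization `z' ⤳ z` in a scheme is realized by a valuation ring of the residue field of `z'`. -/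
theorem exists_valuationSubring_of_specializes {Z : Scheme.{u}} {z' z : Z} (h : z' ⤳ z) :
    ∃ (A : ValuationSubring (Z.residueField z')) (k : Spec (CommRingCat.of A) ⟶ Z),
      k (IsLocalRing.closedPoint A) = z ∧ k (⟨⊥, Ideal.isPrime_bot⟩ : PrimeSpectrum A) = z' := by
  let ρ : Z.presheaf.stalk z ⟶ Z.residueField z' := Z.presheaf.stalkSpecializes h ≫ Z.residue z'
  obtain ⟨A, hA, hloc⟩ := IsLocalRing.exists_factor_valuationRing ρ.hom
  let ρA : Z.presheaf.stalk z ⟶ CommRingCat.of A :=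
    CommRingCat.ofHom (ρ.hom.codRestrict A.toSubring hA)
  let ιA : CommRingCat.of A ⟶ Z.residueField z' := CommRingCat.ofHom A.subtype
  have hcomp : ρA ≫ ιA = ρ := by ext x; rfl
  refine ⟨A, Spec.map ρA ≫ Z.fromSpecStalk z, ?_, ?_⟩
  · rw [Scheme.Hom.comp_apply]
    have : Spec.map ρA (IsLocalRing.closedPoint A) = IsLocalRing.closedPoint (Z.presheaf.stalk z) := by
      have : IsLocalHom ρA.hom := hloc
      exact IsLocalRing.comap_closedPoint ρA.hom
    rw [this, Scheme.fromSpecStalk_closedPoint]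
  · let pt : Spec (Z.residueField z') := IsLocalRing.closedPoint (Z.residueField z')
    have hpt : Spec.map ιA pt = (⟨⊥, Ideal.isPrime_bot⟩ : PrimeSpectrum A) := by
      apply PrimeSpectrum.ext
      change Ideal.comap A.subtype (IsLocalRing.maximalIdeal _) = ⊥
      rw [IsLocalRing.maximalIdeal_eq_bot]
      exact (RingHom.injective_iff_ker_eq_bot _).1 A.subtype_injective
    rw [← hpt, ← Scheme.Hom.comp_apply, ← Category.assoc, ← Spec.map_comp, hcomp]
    change (Spec.map (Z.presheaf.stalkSpecializes h ≫ Z.residue z') ≫ Z.fromSpecStalk z) pt = z'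
    rw [Spec.map_comp, Category.assoc, Scheme.SpecMap_stalkSpecializes_fromSpecStalk]
    exact Z.fromSpecResidueField_apply z' pt

/-- A specialization `w' ⤳ w` in a scheme over the spectrum of a valuation ring `V`, lying over
the specialization generic point ⤳ closed point, gives a lift of `Spec W ⟶ Spec V` for an extension of
valuation rings `V ⟶ W`. -/
theorem exists_valLift_of_specializes {P : Scheme.{u}} (V : CommRingCat.{u}) [IsDomain V]
    [ValuationRing V] (q : P ⟶ Spec V) {w' w : P} (h : w' ⤳ w)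
    (hw' : q w' = (⟨⊥, Ideal.isPrime_bot⟩ : PrimeSpectrum V))
    (hw : q w = IsLocalRing.closedPoint V) :
    ∃ (W : CommRingCat.{u}) (_ : IsDomain W) (_ : ValuationRing W) (φ : V ⟶ W),
      IsExtVal V W φ ∧ ∃ l : Spec W ⟶ P, l ≫ q = Spec.map φ := by
  obtain ⟨A, k, hk, hk'⟩ := exists_valuationSubring_of_specializes h
  let φ : V ⟶ CommRingCat.of A := Spec.preimage (k ≫ q)
  have hφ : Spec.map φ = k ≫ q := Spec.map_preimage _
  refine ⟨CommRingCat.of A, inferInstance, inferInstance, φ, ⟨?_, ?_⟩, k, hφ.symm⟩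
  · rw [RingHom.injective_iff_ker_eq_bot]
    have h1 : Spec.map φ (⟨⊥, Ideal.isPrime_bot⟩ : PrimeSpectrum A) =
        (⟨⊥, Ideal.isPrime_bot⟩ : PrimeSpectrum V) := by
      rw [hφ, Scheme.Hom.comp_apply, hk', hw']
    exact congrArg PrimeSpectrum.asIdeal h1
  · rw [IsLocalRing.isLocalHom_iff_comap_closedPoint]
    change Spec.map φ (IsLocalRing.closedPoint A) = IsLocalRing.closedPoint V
    rw [hφ, Scheme.Hom.comp_apply, hk, hw]

/-- a flat morphism whose image contains `g (closed point)` admits a valuative lift. -/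
theorem exists_valLift_of_flat {X T : Scheme.{u}} (f : X ⟶ T) [Flat f]
    (V : CommRingCat.{u}) [IsDomain V] [ValuationRing V] (g : Spec V ⟶ T)
    (x : X) (hx : f x = g (IsLocalRing.closedPoint V)) :
    ∃ (W : CommRingCat.{u}) (_ : IsDomain W) (_ : ValuationRing W) (φ : V ⟶ W),
      IsExtVal V W φ ∧ ∃ l : Spec W ⟶ X, l ≫ f = Spec.map φ ≫ g := by
  obtain ⟨w, hw1, hw2⟩ := Scheme.Pullback.exists_preimage_pullback (f := g) (g := f)
    (IsLocalRing.closedPoint V) x hx.symm
  have : Flat (pullback.fst g f) := inferInstance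
  have hgen : GeneralizingMap (pullback.fst g f) := Flat.generalizingMap _
  have hsp : (⟨⊥, Ideal.isPrime_bot⟩ : PrimeSpectrum V) ⤳ pullback.fst g f w := by
    rw [hw1]
    exact IsLocalRing.specializes_closedPoint (R := V) _
  obtain ⟨w', hw'w, hw'⟩ := hgen hsp
  obtain ⟨W, hWd, hWv, φ, hφ, l, hl⟩ :=
    exists_valLift_of_specializes V (pullback.fst g f) hw'w hw' hw1
  refine ⟨W, hWd, hWv, φ, hφ, l ≫ pullback.snd g f, ?_⟩
  rw [Category.assoc, ← pullback.condition, ← Category.assoc, hl]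

theorem isStandardV_of_standard_fpqc {T : Scheme.{u}} [IsAffine T] (E : PreZeroHypercover.{w} T)
    (hfin : Finite E.I₀) (haff : ∀ j, IsAffine (E.X j)) (hflat : ∀ j, Flat (E.f j))
    (hsurj : ∀ t : T, ∃ (j : E.I₀) (x : E.X j), E.f j x = t) : HTop.IsStandardV E := by
  refine ⟨inferInstance, hfin, haff, ?_⟩
  intro V _ _ g
  obtain ⟨j, x, hx⟩ := hsurj (g (IsLocalRing.closedPoint V))
  have := hflat j
  obtain ⟨W, hWd, hWv, φ, hφ, l, hl⟩ := exists_valLift_of_flat (E.f j) V g x hx
  exact ⟨W, hWd, hWv, φ, hφ, j, l, hl⟩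

theorem isVCover_of_flat_quasiCompactCover {T : Scheme.{u}} (E : PreZeroHypercover.{w} T)
    [QuasiCompactCover E] (hflat : ∀ i, Flat (E.f i)) : IsVCover E := by
  intro U
  obtain ⟨n, a, V, hV, hU⟩ :=
    QuasiCompactCover.exists_isAffineOpen_of_isCompact E (U := (U : T.Opens)) U.2.isCompact
  have hle : ∀ i, V i ≤ (E.f (a i)) ⁻¹ᵁ (U : T.Opens) := by
    intro i x hx
    change E.f (a i) x ∈ ((U : T.Opens) : Set T)
    rw [← hU]
    exact Set.mem_iUnion.2 ⟨i, x, hx, rfl⟩
  let F : PreZeroHypercover.{0} ((U : T.Opens) : Scheme.{u}) :=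
    { I₀ := Fin n
      X := fun i => ((V i : (E.X (a i)).Opens) : Scheme.{u})
      f := fun i => (E.f (a i)).resLE (U : T.Opens) (V i) (hle i) }
  have : IsAffine ((U : T.Opens) : Scheme.{u}) := U.2
  refine ⟨F, isStandardV_of_standard_fpqc F (inferInstanceAs (Finite (Fin n))) (fun j => hV j)
    (fun j => ?_) ?_, fun j => ⟨a j, (V j).ι, ?_⟩⟩
  · have := hflat (a j)
    change Flat ((E.f (a j)).resLE (U : T.Opens) (V j) (hle j))
    infer_instance
  · intro t
    have ht : t.1 ∈ ((U : T.Opens) : Set T) := t.2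
    rw [← hU] at ht
    obtain ⟨i, x, hx, hxt⟩ := Set.mem_iUnion.1 ht
    refine ⟨i, ⟨x, hx⟩, ?_⟩
    apply Subtype.ext
    change ((U : T.Opens).ι) (((E.f (a i)).resLE (U : T.Opens) (V i) (hle i)) ⟨x, hx⟩) = t.1
    rw [← Scheme.Hom.comp_apply, Scheme.Hom.resLE_comp_ι]
    exact hxt
  · exact (Scheme.Hom.resLE_comp_ι _ _).symm

theorem isVCover_of_fpqc {T : Scheme.{u}} (𝒰 : Scheme.Cover Scheme.fpqcPrecoverage T) :
    IsVCover 𝒰.toPreZeroHypercover := by
  have hmem : 𝒰.presieve₀ ∈ Scheme.propQCPrecoverage @Flat T := 𝒰.mem₀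
  have : QuasiCompactCover 𝒰.toPreZeroHypercover := by
    rw [← Scheme.presieve₀_mem_qcPrecoverage_iff]; exact hmem.1
  have hflat : ∀ i, Flat (𝒰.f i) := ((Scheme.presieve₀_mem_precoverage_iff ..).1 hmem.2).2
  exact isVCover_of_flat_quasiCompactCover _ hflat


/-- A V covering has the valuative lifting property. -/
theorem hasValLift_of_isVCover {T : Scheme.{u}} (E : PreZeroHypercover.{w} T) (hE : IsVCover E) :
    HasValLift E := by
  intro V _ _ g
  obtain ⟨_, ⟨U, hU, rfl⟩, hgU, -⟩ := T.isBasis_affineOpens.exists_subset_of_mem_open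
    (Set.mem_univ (g (IsLocalRing.closedPoint V))) isOpen_univ
  obtain ⟨gU, hgU'⟩ := exists_lift_of_closedPoint_mem V g U hgU
  obtain ⟨F, hF, hFE⟩ := hE ⟨U, hU⟩
  obtain ⟨W, hWd, hWv, φ, hφ, j, g', hg'⟩ := hF.lift V gU
  obtain ⟨i, h, hh⟩ := hFE j
  refine ⟨W, hWd, hWv, φ, hφ, i, g' ≫ h, ?_⟩
  rw [Category.assoc, hh, ← Category.assoc, hg', Category.assoc]
  congr 1

/-- For a quasi-compact morphism, the valuative lifting property implies being a V covering. -/
theorem isVCover_singleton_of_hasValLift {X Y : Scheme.{u}} (f : X ⟶ Y) [QuasiCompact f]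
    (hf : HasValLift (PreZeroHypercover.singleton.{w} f)) :
    IsVCover (PreZeroHypercover.singleton.{w} f) := by
  intro U
  have hcomp : IsCompact ((f ⁻¹ᵁ (U : Y.Opens) : X.Opens) : Set X) :=
    QuasiCompact.isCompact_preimage (f := f) _ (U : Y.Opens).2 U.2.isCompact
  obtain ⟨Us, hUs, hUf, hUc⟩ := X.isBasis_affineOpens.exists_finite_of_isCompact hcomp
  have : Finite Us := hUf.to_subtype
  let n := Nat.card Us
  let e : Us ≃ Fin n := Finite.equivFin Us
  let Vk : Fin n → X.Opens := fun k => (e.symm k).1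
  have hle : ∀ k, Vk k ≤ f ⁻¹ᵁ (U : Y.Opens) := by
    intro k
    rw [hUc]
    exact le_sSup (e.symm k).2
  let F : PreZeroHypercover.{0} ((U : Y.Opens) : Scheme.{u}) :=
    { I₀ := Fin n
      X := fun k => ((Vk k : X.Opens) : Scheme.{u})
      f := fun k => f.resLE (U : Y.Opens) (Vk k) (hle k) }
  refine ⟨F, ⟨U.2, inferInstanceAs (Finite (Fin n)), fun k => hUs (e.symm k).2, ?_⟩,
    fun k => ⟨PUnit.unit, (Vk k).ι, ?_⟩⟩
  · intro V _ _ g
    obtain ⟨W, hWd, hWv, φ, hφ, j, g₀, hg₀⟩ := hf V (g ≫ (U : Y.Opens).ι)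
    let g' : Spec W ⟶ X := g₀
    have hg'' : g' ≫ f = Spec.map φ ≫ g ≫ (U : Y.Opens).ι := hg₀
    let c : Spec W := IsLocalRing.closedPoint W
    have hmem : g' c ∈ (f ⁻¹ᵁ (U : Y.Opens) : X.Opens) := by
      change f (g' c) ∈ (U : Y.Opens)
      rw [← Scheme.Hom.comp_apply, hg'', ← Category.assoc, Scheme.Hom.comp_apply]
      exact ((Spec.map φ ≫ g) c).2
    rw [hUc] at hmem
    obtain ⟨V', hV', hmemV'⟩ : ∃ V' ∈ Us, g' c ∈ V' := by
      simpa [TopologicalSpace.Opens.mem_sSup] using hmem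
    obtain ⟨k, hk⟩ := e.symm.surjective ⟨V', hV'⟩
    have hmemk : g' c ∈ Vk k := by
      change _ ∈ ((e.symm k).1 : X.Opens)
      rw [hk]; exact hmemV'
    obtain ⟨l, hl⟩ := exists_lift_of_closedPoint_mem W g' (Vk k) hmemk
    refine ⟨W, hWd, hWv, φ, hφ, k, l, ?_⟩
    change l ≫ f.resLE (U : Y.Opens) (Vk k) (hle k) = Spec.map φ ≫ g
    rw [← cancel_mono (U : Y.Opens).ι, Category.assoc, Scheme.Hom.resLE_comp_ι, ← Category.assoc, hl,
      hg'', Category.assoc]
  · change (Vk k).ι ≫ f = f.resLE (U : Y.Opens) (Vk k) (hle k) ≫ _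
    rw [Scheme.Hom.resLE_comp_ι]

/-- The valuative lifting property of a morphism is the universal lifting of specializations. -/
theorem hasValLift_singleton_iff_specializes {X Y : Scheme.{u}} (f : X ⟶ Y) :
    HasValLift (PreZeroHypercover.singleton.{w} f) ↔
      ∀ (Z : Scheme.{u}) (g : Z ⟶ Y) (z' z : Z), z' ⤳ z →
        ∃ w' w : ↑(pullback g f), w' ⤳ w ∧ pullback.fst g f w' = z' ∧ pullback.fst g f w = z := by
  constructor
  · intro hf Z g z' z hz
    obtain ⟨A, k, hk, hk'⟩ := exists_valuationSubring_of_specializes hz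
    obtain ⟨W, hWd, hWv, φ, hφ, j, g₀, hg₀⟩ := hf (CommRingCat.of A) (k ≫ g)
    let g' : Spec W ⟶ X := g₀
    have hg' : g' ≫ f = (Spec.map φ ≫ k) ≫ g := by
      rw [Category.assoc]; exact hg₀
    let l : Spec W ⟶ pullback g f := pullback.lift (Spec.map φ ≫ k) g' hg'.symm
    have hl : l ≫ pullback.fst g f = Spec.map φ ≫ k := pullback.lift_fst _ _ _
    let c : Spec W := IsLocalRing.closedPoint W
    let η : Spec W := (⟨⊥, Ideal.isPrime_bot⟩ : PrimeSpectrum W)
    refine ⟨l η, l c, ?_, ?_, ?_⟩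
    · exact (IsLocalRing.specializes_closedPoint (R := W) η).map l.continuous
    · rw [← Scheme.Hom.comp_apply, hl, Scheme.Hom.comp_apply]
      have : Spec.map φ η = (⟨⊥, Ideal.isPrime_bot⟩ : PrimeSpectrum A) := by
        apply PrimeSpectrum.ext
        change Ideal.comap φ.hom ⊥ = ⊥
        exact (RingHom.injective_iff_ker_eq_bot _).1 hφ.1
      rw [this, hk']
    · rw [← Scheme.Hom.comp_apply, hl, Scheme.Hom.comp_apply]
      have : Spec.map φ c = IsLocalRing.closedPoint A := by
        have : IsLocalHom φ.hom := hφ.2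
        exact IsLocalRing.comap_closedPoint φ.hom
      rw [this, hk]
  · intro h V _ _ g
    obtain ⟨w', w, hw'w, hw', hw⟩ := h (Spec V) g (⟨⊥, Ideal.isPrime_bot⟩ : PrimeSpectrum V)
      (IsLocalRing.closedPoint V) (IsLocalRing.specializes_closedPoint (R := V) _)
    obtain ⟨W, hWd, hWv, φ, hφ, l, hl⟩ :=
      exists_valLift_of_specializes V (pullback.fst g f) hw'w hw' hw
    refine ⟨W, hWd, hWv, φ, hφ, PUnit.unit, l ≫ pullback.snd g f, ?_⟩
    change (l ≫ pullback.snd g f) ≫ f = _
    rw [Category.assoc, ← pullback.condition, ← Category.assoc, hl]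

universe w'

/-- `HasValLift` of a one-member family does not depend on the universe of its index type. -/
theorem hasValLift_singleton_univ {X Y : Scheme.{u}} (f : X ⟶ Y)
    (h : HasValLift (PreZeroHypercover.singleton.{w} f)) :
    HasValLift (PreZeroHypercover.singleton.{w'} f) := by
  intro V _ _ g
  obtain ⟨W, hWd, hWv, φ, hφ, j, g', hg'⟩ := h V g
  exact ⟨W, hWd, hWv, φ, hφ, PUnit.unit, g', hg'⟩

end Groth.Agent.Lib.R2H4.ValLift3
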