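import Mathlib
import Groth.Prelude.Def_HTop
import Groth.Agent.Lib.R2H4ValLift3

/-!
# A family is a V (h) covering iff the induced morphism from the coproduct is (helper4, round 2)

* `isAffineOpen_of_isClosed`: clopen subsets of affine schemes are affine opens.
* `isVCover_sigmaDesc`, `isVCover_of_sigmaDesc`.
-/

set_option autoImplicit false
universe w u
open CategoryTheory CategoryTheory.Limits AlgebraicGeometry Opposite HTop

namespace Groth.Agent.Lib.R2H4.HCoverSigma

open Groth.Agent.Lib.R2H4.ValLift Groth.Agent.Lib.Helper10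

/-- A clopen subset of an affine scheme is an affine open. -/
theorem isAffineOpen_of_isClosed {X : Scheme.{u}} [IsAffine X] (W : X.Opens)
    (hW : IsClosed (W : Set X)) : IsAffineOpen W := by
  have : IsClosedImmersion W.ι := .of_isPreimmersion _ (by rw [Scheme.Opens.range_ι]; exact hW)
  exact isAffine_of_isAffineHom W.ι

/-- If a family is a V covering then so is the induced morphism from the coproduct. -/
theorem isVCover_sigmaDesc {T : Scheme.{u}} (E : PreZeroHypercover.{u} T) (hE : IsVCover E) :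
    IsVCover (PreZeroHypercover.singleton.{w} (Sigma.desc E.f)) := by
  intro U
  obtain ⟨F, hF, hFE⟩ := hE U
  refine ⟨F, hF, fun j => ?_⟩
  obtain ⟨i, h, hh⟩ := hFE j
  refine ⟨PUnit.unit, h ≫ Sigma.ι E.X i, ?_⟩
  change (h ≫ Sigma.ι E.X i) ≫ Sigma.desc E.f = _
  rw [Category.assoc, Sigma.ι_desc, hh]

/-- If the induced morphism from the coproduct is a V covering then so is the family. -/
theorem isVCover_of_sigmaDesc {T : Scheme.{u}} (E : PreZeroHypercover.{u} T)
    (hE : IsVCover (PreZeroHypercover.singleton.{w} (Sigma.desc E.f))) : IsVCover E := by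
  classical
  intro U
  obtain ⟨F, hF, hFE⟩ := hE U
  have hFE' : ∀ j, ∃ h : F.X j ⟶ ∐ E.X, h ≫ Sigma.desc E.f = F.f j ≫ (U : T.Opens).ι := by
    intro j
    obtain ⟨i, h, hh⟩ := hFE j
    exact ⟨h, hh⟩
  choose h hh using hFE'
  have : ∀ i, IsOpenImmersion (Sigma.ι E.X i) := fun i => inferInstance
  let W : ∀ j, E.I₀ → (F.X j).Opens := fun j i => (h j) ⁻¹ᵁ (Sigma.ι E.X i).opensRange
  have hcov : ∀ j (x : F.X j), ∃ i, x ∈ W j i := by
    intro j x
    obtain ⟨i, y, hy⟩ := (sigmaOpenCover E.X).exists_eq (h j x)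
    exact ⟨i, y, hy⟩
  have hdisj : ∀ j i i', i ≠ i' → ∀ x, x ∈ W j i → x ∉ W j i' := by
    intro j i i' hii' x hx hx'
    exact (disjoint_opensRange_sigmaι E.X i i' hii').le_bot ⟨hx, hx'⟩
  have hclosed : ∀ j i, IsClosed ((W j i : (F.X j).Opens) : Set (F.X j)) := by
    intro j i
    have : ((W j i : (F.X j).Opens) : Set (F.X j))ᶜ = ⋃ i' ∈ {i' | i' ≠ i}, ((W j i' : (F.X j).Opens) : Set (F.X j)) := by
      ext x
      simp only [Set.mem_compl_iff, SetLike.mem_coe, Set.mem_iUnion, Set.mem_ofPred_eq, exists_prop]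
      constructor
      · intro hx
        obtain ⟨i', hi'⟩ := hcov j x
        refine ⟨i', ?_, hi'⟩
        rintro rfl
        exact hx hi'
      · rintro ⟨i', hi'i, hx⟩ hx'
        exact hdisj j i' i hi'i x hx hx'
    rw [← isOpen_compl_iff, this]
    exact isOpen_biUnion fun i' _ => (W j i').2
  have hfin : ∀ j, ∃ s : Finset E.I₀, ∀ x : F.X j, ∃ i ∈ s, x ∈ W j i := by
    intro j
    have : IsAffine (F.X j) := hF.isAffine_obj j
    obtain ⟨s, hs⟩ := (isCompact_univ (X := F.X j)).elim_finite_subcover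
      (fun i => ((W j i : (F.X j).Opens) : Set (F.X j))) (fun i => (W j i).2)
      (fun x _ => by
        obtain ⟨i, hi⟩ := hcov j x
        exact Set.mem_iUnion.2 ⟨i, hi⟩)
    refine ⟨s, fun x => ?_⟩
    have := hs (Set.mem_univ x)
    simpa using this
  choose s hs using hfin
  let e : ∀ j, Fin (s j).card ≃ s j := fun j => (s j).equivFin.symm
  let F' : PreZeroHypercover.{0} ((U : T.Opens) : Scheme.{u}) :=
    { I₀ := Σ j : F.I₀, Fin (s j).card
      X := fun ja => ((W ja.1 (e ja.1 ja.2).1 : (F.X ja.1).Opens) : Scheme.{u})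
      f := fun ja => (W ja.1 (e ja.1 ja.2).1).ι ≫ F.f ja.1 }
  refine ⟨F', ⟨hF.isAffine, ?_, fun ja => ?_, ?_⟩, fun ja => ?_⟩
  · have := hF.finite_index
    exact inferInstanceAs (Finite (Σ j : F.I₀, Fin (s j).card))
  · have : IsAffine (F.X ja.1) := hF.isAffine_obj ja.1
    exact isAffineOpen_of_isClosed _ (hclosed ja.1 _)
  · intro V _ _ g
    obtain ⟨W', hWd, hWv, φ, hφ, j, g', hg'⟩ := hF.lift V g
    obtain ⟨i, his, hi⟩ := hs j (g' (IsLocalRing.closedPoint W'))
    obtain ⟨a, ha⟩ := (e j).surjective ⟨i, his⟩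
    have hmem : g' (IsLocalRing.closedPoint W') ∈ W j (e j a).1 := by
      rw [ha]; exact hi
    obtain ⟨l, hl⟩ := exists_lift_of_closedPoint_mem W' g' (W j (e j a).1) hmem
    refine ⟨W', hWd, hWv, φ, hφ, ⟨j, a⟩, l, ?_⟩
    change l ≫ (W j (e j a).1).ι ≫ F.f j = _
    rw [← Category.assoc, hl, hg']
  · obtain ⟨j, a⟩ := ja
    let i : E.I₀ := (e j a).1
    have hrange : Set.range ((W j i).ι ≫ h j) ⊆ Set.range (Sigma.ι E.X i) := by
      rintro _ ⟨x, rfl⟩
      exact x.2
    refine ⟨i, IsOpenImmersion.lift (Sigma.ι E.X i) ((W j i).ι ≫ h j) hrange, ?_⟩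
    change _ = ((W j i).ι ≫ F.f j) ≫ (U : T.Opens).ι
    rw [Category.assoc, ← hh j, ← Sigma.ι_desc E.f i, ← Category.assoc, IsOpenImmersion.lift_fac,
      Category.assoc]

end Groth.Agent.Lib.R2H4.HCoverSigma
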