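import Mathlib
import Groth.Agent.Lib.Helper22Hartogs2
import Groth.Agent.Lib.Helper23SecTw10
import Groth.Prelude.Def_Pic
import Groth.Prelude.Def_Coh

/-!
# Hartogs for invertible modules on normal locally Noetherian schemes (helper4, S7885)

* `hart`: functions extend uniquely over closed subsets of codimension ≥ 2.
* `eq_of_res_eq`, `exists_res_eq`: the same for sections of a module inside a frame.
* `isGen_smul_of_isUnit`.
* `main`: sections of an invertible module extend uniquely, and triviality on `U` implies triviality.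
-/
set_option autoImplicit false
set_option linter.style.haveILetI false
universe u
open AlgebraicGeometry CategoryTheory CategoryTheory.Limits Opposite TopologicalSpace

namespace Groth.Agent.Lib.R2H4HartogsInv

open Groth.Agent.Lib.Helper23.SecTw Groth.Agent.Lib.Helper23.GenLocus Groth.Agent.Lib.Helper6

variable {T : Scheme.{u}} [IsLocallyNoetherian T]

/-- Hartogs for functions on a normal locally Noetherian scheme. -/
theorem hart (hT : ∀ x : T, IsDomain (T.presheaf.stalk x) ∧ IsIntegrallyClosed (T.presheaf.stalk x))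
    (U : T.Opens) (hU : ∀ x : T, x ∉ (U : Set T) → 2 ≤ ringKrullDim (T.presheaf.stalk x))
    (W : T.Opens) :
    Function.Bijective (fun r : Γ(T, W) => resf (inf_le_left : W ⊓ U ≤ W) r) := by
  have hd : ∀ x : T, x ∉ U →
      (2 : ℕ∞) ≤ LocCoh.depth (T.presheaf.stalk x) (T.presheaf.stalk x) := fun x hx => by
    haveI := (hT x).1
    haveI := (hT x).2
    exact Groth.Agent.Lib.Helper28.two_le_depth_of_isIntegrallyClosed_of_two_le_dim (hU x hx)
  exact Groth.Agent.Lib.Helper22.Hartogs.bijective_res_of_depth U hd W (W ⊓ U) inf_le_left le_rfl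
    inf_le_right

section frames

variable (hT : ∀ x : T, IsDomain (T.presheaf.stalk x) ∧ IsIntegrallyClosed (T.presheaf.stalk x))
  (U : T.Opens) (hU : ∀ x : T, x ∉ (U : Set T) → 2 ≤ ringKrullDim (T.presheaf.stalk x))
  (L : T.Modules)

include hT hU in
/-- sections over `W` inside a frame are determined by their restriction to `W ⊓ U`. -/
theorem eq_of_res_eq {W₀ : T.Opens} {e : Γ(L, W₀)} (he : IsGen L W₀ e) {W : T.Opens} (hW : W ≤ W₀)
    (s s' : Γ(L, W))
    (h : res L (inf_le_left : W ⊓ U ≤ W) s = res L (inf_le_left : W ⊓ U ≤ W) s') : s = s' := by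
  have h1 := coef_spec he hW s
  have h2 := coef_spec he hW s'
  have hA : W ⊓ U ≤ W₀ := inf_le_left.trans hW
  have e1 : res L (inf_le_left : W ⊓ U ≤ W) s =
      resf (inf_le_left : W ⊓ U ≤ W) (coef he hW s) • res L hA e := by
    conv_lhs => rw [← h1]
    rw [res_smul, res_res]
  have e2 : res L (inf_le_left : W ⊓ U ≤ W) s' =
      resf (inf_le_left : W ⊓ U ≤ W) (coef he hW s') • res L hA e := by
    conv_lhs => rw [← h2]
    rw [res_smul, res_res]
  rw [e1, e2] at h
  have h3 := (he _ hA).1 h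
  have h4 := (hart hT U hU W).1 h3
  rw [← h1, ← h2, h4]

include hT hU in
/-- sections over `W ⊓ U` inside a frame extend to `W`. -/
theorem exists_res_eq {W₀ : T.Opens} {e : Γ(L, W₀)} (he : IsGen L W₀ e) {W : T.Opens} (hW : W ≤ W₀)
    (t : Γ(L, W ⊓ U)) : ∃ s : Γ(L, W), res L (inf_le_left : W ⊓ U ≤ W) s = t := by
  have hA : W ⊓ U ≤ W₀ := inf_le_left.trans hW
  obtain ⟨c, hc⟩ := (hart hT U hU W).2 (coef he hA t)
  refine ⟨c • res L hW e, ?_⟩
  rw [res_smul, res_res]
  have hc' : resf (inf_le_left : W ⊓ U ≤ W) c = coef he hA t := hc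
  rw [hc']
  exact coef_spec he hA t

end frames

/-- a unit multiple of a generator is a generator -/
theorem isGen_smul_of_isUnit (L : T.Modules) {W : T.Opens} {e : Γ(L, W)} (he : IsGen L W e)
    (f : Γ(T, W)) (hf : IsUnit f) : IsGen L W (f • e) := by
  intro W' hW'
  have hu : IsUnit (resf hW' f) := hf.map (T.presheaf.map (homOfLE hW').op).hom
  have h2 : (fun r : Γ(T, W') => r • res L hW' (f • e)) =
      (fun r : Γ(T, W') => r • res L hW' e) ∘ (fun r : Γ(T, W') => r * resf hW' f) := by
    funext r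
    simp only [Function.comp]
    rw [res_smul, mul_smul]
  rw [h2]
  refine (he W' hW').comp ?_
  obtain ⟨v, hv⟩ := hu
  constructor
  · intro a b hab
    have := congrArg (fun z => z * (↑v⁻¹ : Γ(T, W'))) hab
    simpa [← hv, mul_assoc] using this
  · intro b
    refine ⟨b * (↑v⁻¹ : Γ(T, W')), ?_⟩
    simp [← hv, mul_assoc]

theorem main (T : Scheme.{u}) [IsLocallyNoetherian T]
    (hT : ∀ x : T, IsDomain (T.presheaf.stalk x) ∧ IsIntegrallyClosed (T.presheaf.stalk x))
    (U : T.Opens) (hU : ∀ x : T, x ∉ (U : Set T) → 2 ≤ ringKrullDim (T.presheaf.stalk x))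
    (L : T.Modules) (hL : PicF.IsInvertible L) :
    Function.Bijective (fun s : Γ(L, ⊤) => res L (le_top : U ≤ ⊤) s) ∧
      (Nonempty (L.restrict U.ι ≅ Coh.structureModule (U : Scheme.{u})) →
        Nonempty (L ≅ Coh.structureModule T)) := by
  choose W e hxW he using exists_gen L hL
  have hcov : ∀ x : T, ∃ i, x ∈ W i := fun x => ⟨x, hxW x⟩
  have hcovV : ∀ V : T.Opens, V ≤ ⨆ i, V ⊓ W i := by
    intro V x hx
    exact Opens.mem_iSup.2 ⟨x, hx, hxW x⟩
  have hinj : Function.Injective (fun s : Γ(L, ⊤) => res L (le_top : U ≤ ⊤) s) := by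
    intro s s' h
    have h' : res L (le_top : U ≤ ⊤) s = res L (le_top : U ≤ ⊤) s' := h
    refine (modSheaf L).eq_of_locally_eq' (fun i => ⊤ ⊓ W i) ⊤ (fun i => homOfLE inf_le_left)
      (hcovV ⊤) s s' (fun i => ?_)
    change res L (inf_le_left : ⊤ ⊓ W i ≤ ⊤) s = res L (inf_le_left : ⊤ ⊓ W i ≤ ⊤) s'
    refine eq_of_res_eq hT U hU L (he i) (inf_le_right : ⊤ ⊓ W i ≤ W i) _ _ ?_
    rw [res_res, res_res]
    have hle : (⊤ ⊓ W i) ⊓ U ≤ U := inf_le_right
    have := congrArg (res L hle) h'
    rw [res_res, res_res] at this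
    exact this
  have hsurj : Function.Surjective (fun s : Γ(L, ⊤) => res L (le_top : U ≤ ⊤) s) := by
    intro t
    have hex : ∀ i : T, ∃ s : Γ(L, W i), res L (inf_le_left : W i ⊓ U ≤ W i) s =
        res L (inf_le_right : W i ⊓ U ≤ U) t := fun i =>
      exists_res_eq hT U hU L (he i) le_rfl _
    choose sf hsf using hex
    have hcompat : TopCat.Presheaf.IsCompatible L.presheaf W sf := by
      intro i j
      change res L (inf_le_left : W i ⊓ W j ≤ W i) (sf i) = res L (inf_le_right : W i ⊓ W j ≤ W j) (sf j)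
      refine eq_of_res_eq hT U hU L (he i) (inf_le_left : W i ⊓ W j ≤ W i) _ _ ?_
      rw [res_res, res_res]
      have h1 : (W i ⊓ W j) ⊓ U ≤ W i ⊓ U := inf_le_inf_right U inf_le_left
      have h2 : (W i ⊓ W j) ⊓ U ≤ W j ⊓ U := inf_le_inf_right U inf_le_right
      have e1 := congrArg (res L h1) (hsf i)
      have e2 := congrArg (res L h2) (hsf j)
      rw [res_res, res_res] at e1 e2
      rw [e1, e2]
    have hcovT : (⊤ : T.Opens) ≤ ⨆ i, W i := fun x _ => Opens.mem_iSup.2 ⟨x, hxW x⟩
    obtain ⟨s, hs, -⟩ := (modSheaf L).existsUnique_gluing' W ⊤ (fun i => homOfLE le_top) hcovT sf hcompat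
    have hs' : ∀ i, res L (le_top : W i ≤ ⊤) s = sf i := hs
    refine ⟨s, ?_⟩
    change res L (le_top : U ≤ ⊤) s = t
    refine (modSheaf L).eq_of_locally_eq' (fun i => U ⊓ W i) U (fun i => homOfLE inf_le_left)
      (hcovV U) _ _ (fun i => ?_)
    change res L (inf_le_left : U ⊓ W i ≤ U) (res L (le_top : U ≤ ⊤) s) =
      res L (inf_le_left : U ⊓ W i ≤ U) t
    rw [res_res]
    have h1 : U ⊓ W i ≤ W i ⊓ U := le_of_eq (inf_comm _ _)
    have e1 := congrArg (res L h1) (hsf i)
    rw [res_res, res_res, ← hs' i, res_res] at e1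
    exact e1
  refine ⟨⟨hinj, hsurj⟩, ?_⟩
  intro hiso
  obtain ⟨e₀, he₀⟩ := exists_isGen_of_iso L U hiso
  obtain ⟨E, hE⟩ := hsurj e₀
  have hE' : res L (le_top : U ≤ ⊤) E = e₀ := hE
  -- the coefficient of `E` in each frame is a unit
  have hunit : ∀ i : T, IsUnit (coef (he i) le_rfl (res L (le_top : W i ≤ ⊤) E)) := by
    intro i
    set f := coef (he i) le_rfl (res L (le_top : W i ≤ ⊤) E) with hf
    have hfE : f • e i = res L (le_top : W i ≤ ⊤) E := by
      have := coef_spec (he i) le_rfl (res L (le_top : W i ≤ ⊤) E)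
      rw [res_self] at this
      exact this
    have hAU : W i ⊓ U ≤ U := inf_le_right
    have hAW : W i ⊓ U ≤ W i := inf_le_left
    set g := coef he₀ hAU (res L hAW (e i)) with hg
    have hg' : g • res L hAU e₀ = res L hAW (e i) := coef_spec he₀ hAU _
    have h1 : res L hAU e₀ = resf hAW f • res L hAW (e i) := by
      rw [← hE', res_res, ← res_smul, hfE, res_res]
    have h2 : (g * resf hAW f) • res L hAW (e i) = (1 : Γ(T, W i ⊓ U)) • res L hAW (e i) := by
      rw [mul_smul, ← h1, hg', one_smul]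
    have h3 : g * resf hAW f = 1 := (he i _ hAW).1 h2
    obtain ⟨G, hG⟩ := (hart hT U hU (W i)).2 g
    have hG' : resf hAW G = g := hG
    have h4 : resf hAW (G * f) = resf hAW 1 := by
      have e1 : resf hAW (G * f) = resf hAW G * resf hAW f :=
        map_mul (T.presheaf.map (homOfLE hAW).op).hom G f
      have e2 : resf hAW (1 : Γ(T, W i)) = 1 := map_one (T.presheaf.map (homOfLE hAW).op).hom
      rw [e1, e2, hG', h3]
    have h5 : G * f = 1 := (hart hT U hU (W i)).1 h4
    exact IsUnit.of_mul_eq_one G (by rw [mul_comm]; exact h5)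
  have ha : ∀ i : T, IsGen L (W i) (res L (le_top : W i ≤ ⊤) E) := by
    intro i
    have := isGen_smul_of_isUnit L (he i) _ (hunit i)
    have h2 := coef_spec (he i) le_rfl (res L (le_top : W i ≤ ⊤) E)
    rw [res_self] at h2
    rw [h2] at this
    exact this
  obtain ⟨Φ, -⟩ := exists_iso_of_frames L (Coh.structureModule T) W hcov
    (fun i => res L (le_top : W i ≤ ⊤) E) (fun i => toS (W i) 1) ha (fun i => isGen_one (W i))
    (fun i j g hg => by
      have h1 : (1 : Γ(T, W i ⊓ W j)) • res L (inf_le_right : W i ⊓ W j ≤ W j) (res L (le_top : W j ≤ ⊤) E) =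
          g • res L (inf_le_right : W i ⊓ W j ≤ W j) (res L (le_top : W j ≤ ⊤) E) := by
        rw [one_smul, ← hg, res_res, res_res]
      have h2 : (1 : Γ(T, W i ⊓ W j)) = g := (ha j _ inf_le_right).1 h1
      rw [← h2, one_smul]
      have e1 : res (Coh.structureModule T) (inf_le_left : W i ⊓ W j ≤ W i) (toS (W i) 1) =
          toS (W i ⊓ W j) 1 := (map_toS (homOfLE inf_le_left) 1).trans (by rw [map_one])
      have e2 : res (Coh.structureModule T) (inf_le_right : W i ⊓ W j ≤ W j) (toS (W j) 1) =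
          toS (W i ⊓ W j) 1 := (map_toS (homOfLE inf_le_right) 1).trans (by rw [map_one])
      rw [e1, e2])
  exact ⟨Φ⟩

end Groth.Agent.Lib.R2H4HartogsInv
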