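import Mathlib
import Groth.Prelude
import Groth.Agent.Lib.R2H4MonGrowth
import Groth.Agent.Lib.R2H4HhatLim

/-!
# Upper bounds for the asymptotic cohomological functions (helper4, round 2)

On `X` proper over a field with an ample invertible module and `dim X ≤ n`: for finitely many
invertible modules `G j` there is a constant `C` with `ĥⁱ(X, P) ≤ C · n! · N^n` for every monomial
`P` of degree `N` in the `G j` (`hhat_le_of_mon`).
-/

set_option autoImplicit false
set_option linter.style.haveILetI false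
set_option linter.unusedSectionVars false
universe u w
open CategoryTheory CategoryTheory.Limits AlgebraicGeometry TopologicalSpace Filter Topology

noncomputable section

namespace Groth.Agent.Lib.R2H4HhatBound

open Groth.Agent.Lib.R2H4TensorPows Groth.Agent.Lib.R2H4HiGrowth Groth.Agent.Lib.R2H4MonGrowth
  Groth.Agent.Lib.R2H4HhatLim

variable (k : Type u) [Field k] {X : Scheme.{u}} [X.Over (Spec (CommRingCat.of k))]
  [IsProper (X ↘ (Spec (CommRingCat.of k)))] {J : Type w} [Finite J]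

theorem hhat_le_of_mon (H : X.Modules) (hH : CohB1.IsAmple H) (n : ℕ)
    (hn : topologicalKrullDim X ≤ ((n : ℕ) : WithBot ℕ∞)) (G : J → X.Modules)
    (hG : ∀ j, PicF.IsInvertible (G j)) (i : ℕ) :
    ∃ C : ℕ, ∀ (N : ℕ) (P : X.Modules), Mon G N P →
      W4c5asymptcohfn.hhat k X n i P ≤ (C : ℝ) * (n.factorial : ℝ) * (N : ℝ) ^ n := by
  haveI := Groth.Agent.Lib.R2H1.CurveEuler.isNoetherian_of_proper k X
  have cO : Coh.IsCoh (Coh.structureModule X) :=
    Groth.Agent.Lib.R2H1.GenusLe.isCoh_structureModule X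
  obtain ⟨C, hC⟩ := mon_bound k H hH G hG (Coh.structureModule X) cO n
    ((Topology.IsInducing.subtypeVal.topologicalKrullDim_le).trans hn) i
  refine ⟨C, fun N P hP => ?_⟩
  have h1 : W4c5asymptcohfn.hhat k X n i P =
      limsup (nseq n (fun μ => hi k (CohB1.tensorPow P μ) i)) atTop := rfl
  rw [h1]
  -- the bound on the terms
  have hf : ∀ μ : ℕ, hi k (CohB1.tensorPow P μ) i ≤ C * (μ * N + 1) ^ n := fun μ => by
    rw [← hi_congr k (lUnit (CohB1.tensorPow P μ)) i]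
    exact hC _ _ (hP.pow μ)
  have hlim : Tendsto (fun μ : ℕ => (C : ℝ) * (n.factorial : ℝ) * ((N : ℝ) + 1 / (μ : ℝ)) ^ n)
      atTop (𝓝 ((C : ℝ) * (n.factorial : ℝ) * (N : ℝ) ^ n)) := by
    have h2 : Tendsto (fun μ : ℕ => (N : ℝ) + 1 / (μ : ℝ)) atTop (𝓝 ((N : ℝ) + 0)) :=
      tendsto_const_nhds.add tendsto_one_div_atTop_nhds_zero_nat
    rw [add_zero] at h2
    exact (h2.pow n).const_mul _
  have hle : ∀ᶠ μ : ℕ in atTop, nseq n (fun μ => hi k (CohB1.tensorPow P μ) i) μ ≤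
      (C : ℝ) * (n.factorial : ℝ) * ((N : ℝ) + 1 / (μ : ℝ)) ^ n := by
    filter_upwards [eventually_ge_atTop 1] with μ hμ
    have hμ0 : (0 : ℝ) < (μ : ℝ) := by exact_mod_cast hμ
    have hμn : (0 : ℝ) < (μ : ℝ) ^ n := by positivity
    unfold nseq
    rw [div_le_iff₀ hμn]
    have h3 : ((hi k (CohB1.tensorPow P μ) i : ℕ) : ℝ) ≤ (C : ℝ) * ((μ : ℝ) * (N : ℝ) + 1) ^ n := by
      exact_mod_cast hf μ
    have h4 : ((N : ℝ) + 1 / (μ : ℝ)) ^ n * (μ : ℝ) ^ n = ((μ : ℝ) * (N : ℝ) + 1) ^ n := by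
      rw [← mul_pow]
      congr 1
      field_simp
    have hfac : (0 : ℝ) ≤ (n.factorial : ℝ) := by positivity
    calc ((hi k (CohB1.tensorPow P μ) i : ℕ) : ℝ) * (n.factorial : ℝ)
        ≤ ((C : ℝ) * ((μ : ℝ) * (N : ℝ) + 1) ^ n) * (n.factorial : ℝ) :=
          mul_le_mul_of_nonneg_right h3 hfac
      _ = (C : ℝ) * (n.factorial : ℝ) * ((N : ℝ) + 1 / (μ : ℝ)) ^ n * (μ : ℝ) ^ n := by
          rw [mul_assoc ((C : ℝ) * (n.factorial : ℝ)), h4]
          ring
  have hcob : IsCoboundedUnder (· ≤ ·) atTop (nseq n (fun μ => hi k (CohB1.tensorPow P μ) i)) :=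
    isCoboundedUnder_le_of_eventually_le atTop (Eventually.of_forall (nseq_nonneg n _))
  calc limsup (nseq n (fun μ => hi k (CohB1.tensorPow P μ) i)) atTop
      ≤ limsup (fun μ : ℕ => (C : ℝ) * (n.factorial : ℝ) * ((N : ℝ) + 1 / (μ : ℝ)) ^ n) atTop :=
        limsup_le_limsup hle hcob hlim.isBoundedUnder_le
    _ = (C : ℝ) * (n.factorial : ℝ) * (N : ℝ) ^ n := hlim.limsup_eq

end Groth.Agent.Lib.R2H4HhatBound
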