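import Mathlib
import Groth.Prelude
import Groth.Agent.Lib.R2H4HiGrowth
import Groth.Agent.Lib.R2H4HhatLimB

/-!
# Homogeneity of the asymptotic cohomological functions (helper4, round 2)

On an integral scheme `X` of dimension `n`, proper over a field and carrying an ample invertible
module: `ĥⁱ(X, L^a) = a^n ĥⁱ(X, L)` for `a ≥ 1` (`hhat_pow`).
-/

set_option autoImplicit false
set_option linter.style.haveILetI false
set_option linter.unusedSectionVars false
universe u
open CategoryTheory CategoryTheory.Limits AlgebraicGeometry TopologicalSpace Filter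

noncomputable section

namespace Groth.Agent.Lib.R2H4HhatPow

open Groth.Agent.Lib.R2H4HiGrowth Groth.Agent.Lib.R2H4HhatLim Groth.Agent.Lib.R2H4HhatLimB
  Groth.Agent.Lib.R2H4TensorPows Groth.Agent.Lib.R2H2.PnSerre

variable (k : Type u) [Field k] {X : Scheme.{u}} [X.Over (Spec (CommRingCat.of k))]
  [IsProper (X ↘ (Spec (CommRingCat.of k)))]

/-- comparison of `hⁱ(L^{a q + r})` with `hⁱ(L^{a q})` -/
theorem exists_residue_bound [IsIntegral X] (H : X.Modules) (hH : CohB1.IsAmple H) (n : ℕ)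
    (hn : topologicalKrullDim X = ((n : ℕ) : WithBot ℕ∞)) (L : X.Modules)
    (hL : PicF.IsInvertible L) (a r i : ℕ) :
    ∃ (E : ℕ → ℕ) (C : ℕ), (∀ q, E q * (q + 1) ≤ C * (q + 1) ^ n) ∧
      ∀ q, hi k (CohB1.tensorPow L (a * q + r)) i ≤ hi k (CohB1.tensorPow L (a * q)) i + E q := by
  haveI := Groth.Agent.Lib.R2H1.CurveEuler.isNoetherian_of_proper k X
  have hLr : PicF.IsInvertible (CohB1.tensorPow L r) :=
    Groth.Agent.Lib.Helper23.SecTw.isInvertible_tensorPow hL r
  have hM : PicF.IsInvertible (CohB1.tensorPow L a) :=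
    Groth.Agent.Lib.Helper23.SecTw.isInvertible_tensorPow hL a
  obtain ⟨B, hB, s, hs, t, ht⟩ : ∃ B : X.Modules, PicF.IsInvertible B ∧
      ∃ s : Coh.structureModule X ⟶ B, s ≠ 0 ∧
      ∃ t : Coh.structureModule X ⟶ CohB1.tensorMod B (CohB1.tensorPow L r), t ≠ 0 := by
    obtain ⟨b, -, ⟨s, hs⟩, ⟨t, ht⟩⟩ :=
      Groth.Agent.Lib.R2H4VolBig.exists_pow_sections H hH (CohB1.tensorPow L r) hLr
    exact ⟨CohB1.tensorPow H b,
      Groth.Agent.Lib.Helper23.SecTw.isInvertible_tensorPow hH.1 b, s, hs, t, ht⟩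
  have hBL : PicF.IsInvertible (CohB1.tensorMod B (CohB1.tensorPow L r)) :=
    Groth.Agent.Lib.Helper23.SecTw.isInvertible_tensorMod hB hLr
  have hO : PicF.IsInvertible (Coh.structureModule X) :=
    Groth.Agent.Lib.Helper23.TensorUnit.isInvertible_structureModule X
  have cO : Coh.IsCoh (Coh.structureModule X) :=
    Groth.Agent.Lib.R2H1.GenusLe.isCoh_structureModule X
  have cB : Coh.IsCoh B := Groth.Agent.Lib.R2H4VolBasic.isCoh_of_isInvertible B hB
  have cBL : Coh.IsCoh (CohB1.tensorMod B (CohB1.tensorPow L r)) :=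
    Groth.Agent.Lib.R2H4VolBasic.isCoh_of_isInvertible _ hBL
  have cQs : Coh.IsCoh (cokernel s) := Groth.Agent.Lib.R2H2.NilFilt.isCoh_cokernel cO cB s
  have cQt : Coh.IsCoh (cokernel t) := Groth.Agent.Lib.R2H2.NilFilt.isCoh_cokernel cO cBL t
  haveI : Mono s := Groth.Agent.Lib.R2H1.InvHom.mono_of_ne_zero hO hB s hs
  haveI : Mono t := Groth.Agent.Lib.R2H1.InvHom.mono_of_ne_zero hO hBL t ht
  let Ss : ShortComplex X.Modules := ShortComplex.mk s (cokernel.π s) (cokernel.condition s)
  have hSs : Ss.ShortExact :=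
    { exact := ShortComplex.exact_cokernel s
      mono_f := by dsimp [Ss]; infer_instance
      epi_g := by dsimp [Ss]; infer_instance }
  let St : ShortComplex X.Modules := ShortComplex.mk t (cokernel.π t) (cokernel.condition t)
  have hSt : St.ShortExact :=
    { exact := ShortComplex.exact_cokernel t
      mono_f := by dsimp [St]; infer_instance
      epi_g := by dsimp [St]; infer_instance }
  have hdimQs : topologicalKrullDim (CohB1.support (cokernel s)) < ((n : ℕ) : WithBot ℕ∞) := by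
    rw [← hn]
    exact Groth.Agent.Lib.R2H4VolBig.dim_support_cokernel_lt k B hB s hs
  have hdimQt : topologicalKrullDim (CohB1.support (cokernel t)) < ((n : ℕ) : WithBot ℕ∞) := by
    rw [← hn]
    exact Groth.Agent.Lib.R2H4VolBig.dim_support_cokernel_lt k _ hBL t ht
  have cF₂ : Coh.IsCoh (CohB1.tensorMod (cokernel s) (CohB1.tensorPow L r)) :=
    Groth.Agent.Lib.R2H3.AmpleSV.isCoh_tensorMod_invertible _ _ cQs hLr
  have hdimF₂ : topologicalKrullDim
      (CohB1.support (CohB1.tensorMod (cokernel s) (CohB1.tensorPow L r))) <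
      ((n : ℕ) : WithBot ℕ∞) :=
    lt_of_le_of_lt (Groth.Agent.Lib.R2H4H0Growth.dim_mono
      (Groth.Agent.Lib.R2H4Snapper.support_tensor_subset _ _ hLr)) hdimQs
  have hF₁ := main k H hH (CohB1.tensorPow L a) hM (cokernel t) cQt n hdimQt
  have hF₂ := main k H hH (CohB1.tensorPow L a) hM _ cF₂ n hdimF₂
  obtain ⟨C₁, hC₁⟩ := hF₁ i
  obtain ⟨C₂, hC₂⟩ := hF₂ (i - 1)
  refine ⟨fun q => hi k (CohB1.tensorMod (cokernel t)
      (CohB1.tensorPow (CohB1.tensorPow L a) q)) i +
      (if i = 0 then 0 else hi k (CohB1.tensorMod (CohB1.tensorMod (cokernel s)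
        (CohB1.tensorPow L r)) (CohB1.tensorPow (CohB1.tensorPow L a) q)) (i - 1)),
    C₁ + C₂, fun q => ?_, fun q => ?_⟩
  · rw [add_mul, add_mul]
    refine Nat.add_le_add (hC₁ q) ?_
    split_ifs
    · simp
    · exact hC₂ q
  · have hMq : PicF.IsInvertible (CohB1.tensorPow (CohB1.tensorPow L a) q) :=
      Groth.Agent.Lib.Helper23.SecTw.isInvertible_tensorPow hM q
    have hT : PicF.IsInvertible (CohB1.tensorMod (CohB1.tensorPow L r)
        (CohB1.tensorPow (CohB1.tensorPow L a) q)) :=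
      Groth.Agent.Lib.Helper23.SecTw.isInvertible_tensorMod hLr hMq
    have h1 := hiT_left_le k _ hT Ss hSs cO cB cQs i
    have h2 := hiT_mid_le k _ hMq St hSt cO cBL cQt i
    change hi k (CohB1.tensorMod (Coh.structureModule X) (CohB1.tensorMod (CohB1.tensorPow L r)
        (CohB1.tensorPow (CohB1.tensorPow L a) q))) i ≤
      (if i = 0 then 0 else hi k (CohB1.tensorMod (cokernel s) (CohB1.tensorMod
        (CohB1.tensorPow L r) (CohB1.tensorPow (CohB1.tensorPow L a) q))) (i - 1)) +
      hi k (CohB1.tensorMod B (CohB1.tensorMod (CohB1.tensorPow L r)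
        (CohB1.tensorPow (CohB1.tensorPow L a) q))) i at h1
    change hi k (CohB1.tensorMod (CohB1.tensorMod B (CohB1.tensorPow L r))
        (CohB1.tensorPow (CohB1.tensorPow L a) q)) i ≤
      hi k (CohB1.tensorMod (Coh.structureModule X)
        (CohB1.tensorPow (CohB1.tensorPow L a) q)) i +
      hi k (CohB1.tensorMod (cokernel t) (CohB1.tensorPow (CohB1.tensorPow L a) q)) i at h2
    obtain ⟨eq⟩ := Groth.Agent.Lib.Helper23.SecTw.nonempty_tensorPow_tensorPow_iso L hL a q
      (a * q) rfl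
    -- the isomorphisms
    have e1 : hi k (CohB1.tensorMod (Coh.structureModule X) (CohB1.tensorMod (CohB1.tensorPow L r)
        (CohB1.tensorPow (CohB1.tensorPow L a) q))) i = hi k (CohB1.tensorPow L (a * q + r)) i := by
      refine hi_congr k (lUnit _ ≪≫ tIso (Iso.refl _) eq ≪≫ tComm _ _ ≪≫
        Groth.Agent.Lib.R2H3.AmpleSV.tensorPowAdd L (a * q) r) i
    have e2 : hi k (CohB1.tensorMod (Coh.structureModule X)
        (CohB1.tensorPow (CohB1.tensorPow L a) q)) i = hi k (CohB1.tensorPow L (a * q)) i :=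
      hi_congr k (lUnit _ ≪≫ eq) i
    have e3 : hi k (CohB1.tensorMod B (CohB1.tensorMod (CohB1.tensorPow L r)
        (CohB1.tensorPow (CohB1.tensorPow L a) q))) i =
        hi k (CohB1.tensorMod (CohB1.tensorMod B (CohB1.tensorPow L r))
          (CohB1.tensorPow (CohB1.tensorPow L a) q)) i :=
      hi_congr k (tAssoc _ _ _).symm i
    have e4 : ∀ j, hi k (CohB1.tensorMod (cokernel s) (CohB1.tensorMod
        (CohB1.tensorPow L r) (CohB1.tensorPow (CohB1.tensorPow L a) q))) j =
        hi k (CohB1.tensorMod (CohB1.tensorMod (cokernel s)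
          (CohB1.tensorPow L r)) (CohB1.tensorPow (CohB1.tensorPow L a) q)) j :=
      fun j => hi_congr k (tAssoc _ _ _).symm j
    rw [e1, e3, e4] at h1
    rw [e2] at h2
    dsimp only
    omega

/-- **homogeneity**: `ĥⁱ(L^a) = a^n ĥⁱ(L)` -/
theorem hhat_pow [IsIntegral X] (H : X.Modules) (hH : CohB1.IsAmple H) (n : ℕ)
    (hn : topologicalKrullDim X = ((n : ℕ) : WithBot ℕ∞)) (L : X.Modules)
    (hL : PicF.IsInvertible L) (a : ℕ) (ha : 1 ≤ a) (i : ℕ) :
    W4c5asymptcohfn.hhat k X n i (CohB1.tensorPow L a) =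
      (a : ℝ) ^ n * W4c5asymptcohfn.hhat k X n i L := by
  haveI := Groth.Agent.Lib.R2H1.CurveEuler.isNoetherian_of_proper k X
  have cO : Coh.IsCoh (Coh.structureModule X) :=
    Groth.Agent.Lib.R2H1.GenusLe.isCoh_structureModule X
  choose E C hEC hineq using fun r => exists_residue_bound k H hH n hn L hL a r i
  have h1 : W4c5asymptcohfn.hhat k X n i L =
      limsup (nseq n (fun m => hi k (CohB1.tensorPow L m) i)) atTop := rfl
  have h2 : W4c5asymptcohfn.hhat k X n i (CohB1.tensorPow L a) =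
      limsup (nseq n (fun q => hi k (CohB1.tensorPow L (a * q)) i)) atTop := by
    have : (fun q => hi k (CohB1.tensorPow L (a * q)) i) =
        fun q => hi k (CohB1.tensorPow (CohB1.tensorPow L a) q) i := by
      funext q
      obtain ⟨eq⟩ := Groth.Agent.Lib.Helper23.SecTw.nonempty_tensorPow_tensorPow_iso L hL a q
        (a * q) rfl
      exact (hi_congr k eq i).symm
    rw [this]
    rfl
  rw [h1, h2]
  obtain ⟨C', hC'⟩ := main_le k H hH L hL (Coh.structureModule X) cO n
    ((Topology.IsInducing.subtypeVal.topologicalKrullDim_le).trans (le_of_eq hn)) i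
  refine limsup_nseq_mul n a ha (fun m => hi k (CohB1.tensorPow L m) i) C' (fun m => ?_)
    (fun q => ∑ r ∈ Finset.range a, E r q) (∑ r ∈ Finset.range a, C r) (fun q => ?_)
    (fun q r hr => ?_)
  · rw [← hi_congr k (lUnit (CohB1.tensorPow L m)) i]
    exact hC' m
  · rw [Finset.sum_mul, Finset.sum_mul]
    exact Finset.sum_le_sum fun r _ => hEC r q
  · refine (hineq r q).trans (Nat.add_le_add_left ?_ _)
    exact Finset.single_le_sum (f := fun r => E r q) (fun _ _ => Nat.zero_le _)
      (Finset.mem_range.2 hr)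

end Groth.Agent.Lib.R2H4HhatPow
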