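import Mathlib
import Groth.Prelude
import Groth.Agent.Lib.R2H4MonReach
import Groth.Agent.Lib.R2H4HhatLim

/-!
# A Lipschitz estimate for the asymptotic cohomological functions (helper4, round 2)

On an integral scheme `X` of dimension `n`, proper over a field and carrying an ample invertible
module, with finitely many invertible modules `G j`: there is a constant `C` (`= 0` if `n = 0`)
such that `|ĥⁱ(P) - ĥⁱ(P')| ≤ K · C · n! · N^(n-1)` whenever `P'` is reached from `P` in `K` steps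
through monomials of degree `≤ N` (`abs_hhat_sub_le`).
-/

set_option autoImplicit false
set_option linter.style.haveILetI false
set_option linter.unusedSectionVars false
universe u w
open CategoryTheory CategoryTheory.Limits AlgebraicGeometry TopologicalSpace Filter Topology

noncomputable section

namespace Groth.Agent.Lib.R2H4HhatReach

open Groth.Agent.Lib.R2H4TensorPows Groth.Agent.Lib.R2H4HiGrowth Groth.Agent.Lib.R2H4MonGrowth
  Groth.Agent.Lib.R2H4MonReach Groth.Agent.Lib.R2H4HhatLim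

section Real

/-- one-sided comparison of upper limits -/
theorem limsup_le_add (u v w : ℕ → ℝ) (ℓ M : ℝ) (hu0 : ∀ m, 0 ≤ u m) (hv0 : ∀ m, 0 ≤ v m)
    (hvM : ∀ᶠ m in atTop, v m ≤ M) (hw : Tendsto w atTop (𝓝 ℓ))
    (h : ∀ᶠ m in atTop, u m ≤ v m + w m) : limsup u atTop ≤ limsup v atTop + ℓ := by
  have v1 : IsBoundedUnder (· ≤ ·) atTop v := isBoundedUnder_of_eventually_le hvM
  have v2 : IsBoundedUnder (· ≥ ·) atTop v :=
    isBoundedUnder_of_eventually_ge (Eventually.of_forall hv0)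
  have w1 : IsBoundedUnder (· ≤ ·) atTop w := hw.isBoundedUnder_le
  have w2 : IsBoundedUnder (· ≥ ·) atTop w := hw.isBoundedUnder_ge
  have w3 : IsCoboundedUnder (· ≤ ·) atTop w := w2.isCoboundedUnder_le
  have ucob : IsCoboundedUnder (· ≤ ·) atTop u :=
    isCoboundedUnder_le_of_eventually_le atTop (Eventually.of_forall hu0)
  have h1 : limsup u atTop ≤ limsup (v + w) atTop :=
    limsup_le_limsup h ucob (isBoundedUnder_le_add v1 w1)
  have h2 := limsup_add_le v2 v1 w3 w1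
  rw [hw.limsup_eq] at h2
  exact h1.trans h2

/-- comparison of upper limits -/
theorem abs_limsup_sub_le (u v w : ℕ → ℝ) (ℓ M : ℝ) (hu0 : ∀ m, 0 ≤ u m) (hv0 : ∀ m, 0 ≤ v m)
    (huM : ∀ᶠ m in atTop, u m ≤ M) (hvM : ∀ᶠ m in atTop, v m ≤ M)
    (hw : Tendsto w atTop (𝓝 ℓ)) (h : ∀ᶠ m in atTop, |u m - v m| ≤ w m) :
    |limsup u atTop - limsup v atTop| ≤ ℓ := by
  have h1 := limsup_le_add u v w ℓ M hu0 hv0 hvM hw (h.mono fun m hm => by
    have := (abs_le.1 hm).2
    linarith)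
  have h2 := limsup_le_add v u w ℓ M hv0 hu0 huM hw (h.mono fun m hm => by
    have := (abs_le.1 hm).1
    linarith)
  rw [abs_le]
  constructor <;> linarith

end Real

section Main

variable (k : Type u) [Field k] {X : Scheme.{u}} [X.Over (Spec (CommRingCat.of k))]
  [IsProper (X ↘ (Spec (CommRingCat.of k)))] {J : Type w} [Finite J]

/-- boundedness of the normalised sequences of the powers of a monomial -/
theorem exists_nseq_pow_le (H : X.Modules) (hH : CohB1.IsAmple H) (n : ℕ)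
    (hn : topologicalKrullDim X ≤ ((n : ℕ) : WithBot ℕ∞)) (G : J → X.Modules)
    (hG : ∀ j, PicF.IsInvertible (G j)) (i : ℕ) :
    ∃ C : ℕ, ∀ (d : ℕ) (P : X.Modules), Mon G d P → ∀ m : ℕ, 1 ≤ m →
      nseq n (fun μ => hi k (CohB1.tensorPow P μ) i) m ≤
        (C * (d + 1) ^ n : ℕ) * (n.factorial : ℝ) * 2 ^ n := by
  haveI := Groth.Agent.Lib.R2H1.CurveEuler.isNoetherian_of_proper k X
  have cO : Coh.IsCoh (Coh.structureModule X) :=
    Groth.Agent.Lib.R2H1.GenusLe.isCoh_structureModule X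
  obtain ⟨C, hC⟩ := mon_bound k H hH G hG (Coh.structureModule X) cO n
    ((Topology.IsInducing.subtypeVal.topologicalKrullDim_le).trans hn) i
  refine ⟨C, fun d P hP m hm => nseq_le n _ (C * (d + 1) ^ n) (fun μ => ?_) m hm⟩
  rw [← hi_congr k (lUnit (CohB1.tensorPow P μ)) i]
  refine (hC _ _ (hP.pow μ)).trans ?_
  rw [mul_assoc, ← mul_pow]
  refine Nat.mul_le_mul_left _ (Nat.pow_le_pow_left ?_ n)
  nlinarith

/-- **Lipschitz estimate** along paths of monomials -/
theorem abs_hhat_sub_le [IsIntegral X] (H : X.Modules) (hH : CohB1.IsAmple H) (n : ℕ)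
    (hn : topologicalKrullDim X = ((n : ℕ) : WithBot ℕ∞)) (G : J → X.Modules)
    (hG : ∀ j, PicF.IsInvertible (G j)) (i : ℕ) :
    ∃ C : ℕ, (n = 0 → C = 0) ∧ ∀ (N K : ℕ) (P P' : X.Modules), Reach G N K P P' →
      |W4c5asymptcohfn.hhat k X n i P - W4c5asymptcohfn.hhat k X n i P'| ≤
        (K : ℝ) * (C : ℝ) * (n.factorial : ℝ) * (N : ℝ) ^ (n - 1) := by
  obtain ⟨C, hC0, hC⟩ := one_step k H hH n hn G hG i
  obtain ⟨C₀, hC₀⟩ := exists_nseq_pow_le k H hH n (le_of_eq hn) G hG i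
  refine ⟨C, hC0, fun N K P P' hR => ?_⟩
  obtain ⟨d, hd, hP⟩ := hR.mon_left
  obtain ⟨d', hd', hP'⟩ := hR.mon_right
  have h1 : W4c5asymptcohfn.hhat k X n i P =
      limsup (nseq n (fun μ => hi k (CohB1.tensorPow P μ) i)) atTop := rfl
  have h2 : W4c5asymptcohfn.hhat k X n i P' =
      limsup (nseq n (fun μ => hi k (CohB1.tensorPow P' μ) i)) atTop := rfl
  rw [h1, h2]
  -- the bound on the terms
  have hterm : ∀ m : ℕ, hi k (CohB1.tensorPow P' m) i ≤
      hi k (CohB1.tensorPow P m) i + m * K * (C * (m * N + 1) ^ (n - 1)) ∧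
      hi k (CohB1.tensorPow P m) i ≤
        hi k (CohB1.tensorPow P' m) i + m * K * (C * (m * N + 1) ^ (n - 1)) :=
    fun m => Reach.bound k n i C hC (hR.pow m)
  have hlim : Tendsto (fun m : ℕ => (K : ℝ) * (C : ℝ) * (n.factorial : ℝ) *
      ((N : ℝ) + 1 / (m : ℝ)) ^ (n - 1)) atTop
      (𝓝 ((K : ℝ) * (C : ℝ) * (n.factorial : ℝ) * (N : ℝ) ^ (n - 1))) := by
    have h3 : Tendsto (fun m : ℕ => (N : ℝ) + 1 / (m : ℝ)) atTop (𝓝 ((N : ℝ) + 0)) :=
      tendsto_const_nhds.add tendsto_one_div_atTop_nhds_zero_nat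
    rw [add_zero] at h3
    exact (h3.pow (n - 1)).const_mul _
  refine abs_limsup_sub_le _ _ _ _
    (((C₀ * (N + 1) ^ n : ℕ) : ℝ) * (n.factorial : ℝ) * 2 ^ n)
    (fun m => nseq_nonneg n _ m) (fun m => nseq_nonneg n _ m) ?_ ?_ hlim ?_
  · filter_upwards [eventually_ge_atTop 1] with m hm
    refine (hC₀ d P hP m hm).trans ?_
    have : C₀ * (d + 1) ^ n ≤ C₀ * (N + 1) ^ n :=
      Nat.mul_le_mul_left _ (Nat.pow_le_pow_left (Nat.succ_le_succ hd) n)
    have h4 : ((C₀ * (d + 1) ^ n : ℕ) : ℝ) ≤ ((C₀ * (N + 1) ^ n : ℕ) : ℝ) := by exact_mod_cast this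
    exact mul_le_mul_of_nonneg_right (mul_le_mul_of_nonneg_right h4 (by positivity))
      (by positivity)
  · filter_upwards [eventually_ge_atTop 1] with m hm
    refine (hC₀ d' P' hP' m hm).trans ?_
    have : C₀ * (d' + 1) ^ n ≤ C₀ * (N + 1) ^ n :=
      Nat.mul_le_mul_left _ (Nat.pow_le_pow_left (Nat.succ_le_succ hd') n)
    have h4 : ((C₀ * (d' + 1) ^ n : ℕ) : ℝ) ≤ ((C₀ * (N + 1) ^ n : ℕ) : ℝ) := by
      exact_mod_cast this
    exact mul_le_mul_of_nonneg_right (mul_le_mul_of_nonneg_right h4 (by positivity))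
      (by positivity)
  · filter_upwards [eventually_ge_atTop 1] with m hm
    obtain ⟨a1, a2⟩ := hterm m
    have hm0 : (0 : ℝ) < (m : ℝ) := by exact_mod_cast hm
    have b1 : ((hi k (CohB1.tensorPow P' m) i : ℕ) : ℝ) ≤ (hi k (CohB1.tensorPow P m) i : ℝ) +
        (m : ℝ) * (K : ℝ) * ((C : ℝ) * ((m : ℝ) * (N : ℝ) + 1) ^ (n - 1)) := by
      exact_mod_cast a1
    have b2 : ((hi k (CohB1.tensorPow P m) i : ℕ) : ℝ) ≤ (hi k (CohB1.tensorPow P' m) i : ℝ) +
        (m : ℝ) * (K : ℝ) * ((C : ℝ) * ((m : ℝ) * (N : ℝ) + 1) ^ (n - 1)) := by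
      exact_mod_cast a2
    have hpos : (0 : ℝ) ≤ (n.factorial : ℝ) / (m : ℝ) ^ n := by positivity
    have e3 : nseq n (fun μ => hi k (CohB1.tensorPow P μ) i) m -
        nseq n (fun μ => hi k (CohB1.tensorPow P' μ) i) m =
        ((hi k (CohB1.tensorPow P m) i : ℝ) - (hi k (CohB1.tensorPow P' m) i : ℝ)) *
          ((n.factorial : ℝ) / (m : ℝ) ^ n) := by
      unfold nseq
      ring
    rw [e3, abs_mul, abs_of_nonneg hpos]
    have habs : |(hi k (CohB1.tensorPow P m) i : ℝ) - (hi k (CohB1.tensorPow P' m) i : ℝ)| ≤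
        (m : ℝ) * (K : ℝ) * ((C : ℝ) * ((m : ℝ) * (N : ℝ) + 1) ^ (n - 1)) := by
      rw [abs_le]
      constructor <;> linarith
    refine (mul_le_mul_of_nonneg_right habs hpos).trans (le_of_eq ?_)
    rcases Nat.eq_zero_or_pos n with h0 | h0
    · have hCz : (C : ℝ) = 0 := by
        rw [hC0 h0]
        simp
      rw [hCz]
      simp
    · obtain ⟨e, rfl⟩ : ∃ e, n = e + 1 := ⟨n - 1, by omega⟩
      have h5 : ((N : ℝ) + 1 / (m : ℝ)) ^ e * (m : ℝ) ^ e = ((m : ℝ) * (N : ℝ) + 1) ^ e := by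
        rw [← mul_pow]
        congr 1
        field_simp
      simp only [Nat.add_sub_cancel]
      rw [← h5, pow_succ]
      have hme : (m : ℝ) ^ e ≠ 0 := by positivity
      field_simp

end Main

end Groth.Agent.Lib.R2H4HhatReach
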