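import Mathlib
import Groth.Agent.Lib.R2H2DevK
set_option backward.isDefEq.respectTransparency.types false

/-!
# Morphisms out of `I^n G` vanishing off `V(I)` (helper4, run 2)
-/

set_option autoImplicit false
set_option linter.style.haveILetI false
universe u

open CategoryTheory CategoryTheory.Limits AlgebraicGeometry TopologicalSpace

namespace Groth.Agent.Lib.R2H4HomIdealMul

open Groth.Agent.Lib.R2H2.DevK Groth.Agent.Lib.R2H2.DevA Groth.Agent.Lib.R2H2.NilFilt
  Groth.Agent.Lib.R2H2.DevF Groth.Agent.Lib.R2H2.IdealMulSec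

theorem main (X : Scheme.{u}) [IsNoetherian X] (F G : X.Modules)
    (hF : Coh.IsQCoh F) (hG : Coh.IsCoh G) (I : X.IdealSheafData)
    (U : X.Opens) (hU : (U : Set X) = (I.support : Set X)ᶜ) (n : ℕ)
    (ψ : (Dual3.idealMul (I ^ n)).obj G ⟶ F)
    (hψ : (Scheme.Modules.restrictFunctor U.ι).map ψ = 0) :
    ∃ (N : ℕ) (ι : (Dual3.idealMul (I ^ N)).obj G ⟶ (Dual3.idealMul (I ^ n)).obj G),
      ι ≫ Dual3.idealMulι (I ^ n) G = Dual3.idealMulι (I ^ N) G ∧ ι ≫ ψ = 0 := by
  haveI : F.IsQuasicoherent := hF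
  have cIG : Coh.IsCoh ((Dual3.idealMul (I ^ n)).obj G) := isCoh_idealMul (I ^ n) G hG
  haveI : ((Dual3.idealMul (I ^ n)).obj G).IsQuasicoherent := cIG.1
  haveI : SheafOfModules.IsFiniteType (R := X.ringCatSheaf) ((Dual3.idealMul (I ^ n)).obj G) :=
    cIG.2
  -- the kernel of ψ is coherent
  have cK : Coh.IsCoh (kernel ψ) := by
    have hKq : (kernel ψ).IsQuasicoherent :=
      Groth.Agent.Lib.Helper23.QCohLocal.isQuasicoherent_kernel ψ
    exact ⟨hKq, @Groth.Agent.Lib.Helper23.FinType.isFiniteType_of_mono X _ _ _ (kernel.ι ψ)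
      inferInstance cIG.1 cIG.2 hKq⟩
  let j : kernel ψ ⟶ G := kernel.ι ψ ≫ Dual3.idealMulι (I ^ n) G
  haveI : Mono j := mono_comp _ _
  have cT : Coh.IsCoh (cokernel j) := isCoh_cokernel cK hG j
  haveI : (cokernel j).IsQuasicoherent := cT.1
  -- `j` is an isomorphism over `U`
  have hdisj : Disjoint (U : Set X) ((I ^ n).support : Set X) := by
    rw [Set.disjoint_left]
    intro x hxU hx
    have h1 : x ∈ (I.support : Set X) := supportSet_pow_subset I n hx
    rw [hU] at hxU
    exact hxU h1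
  haveI := isIso_restrict_idealMulι (I ^ n) G U hdisj
  haveI : IsIso ((Scheme.Modules.restrictFunctor U.ι).map (kernel.ι ψ)) := by
    haveI := Groth.Agent.Lib.Helper26.ModSec.isIso_kernel_ι_of_eq_zero
      ((Scheme.Modules.restrictFunctor U.ι).map ψ) hψ
    have hfac : (Scheme.Modules.restrictFunctor U.ι).map (kernel.ι ψ) =
        (PreservesKernel.iso (Scheme.Modules.restrictFunctor U.ι) ψ).hom ≫
          kernel.ι ((Scheme.Modules.restrictFunctor U.ι).map ψ) := by
      rw [PreservesKernel.iso_hom, kernelComparison_comp_ι]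
    rw [hfac]
    infer_instance
  haveI : IsIso ((Scheme.Modules.restrictFunctor U.ι).map j) := by
    change IsIso ((Scheme.Modules.restrictFunctor U.ι).map
      (kernel.ι ψ ≫ Dual3.idealMulι (I ^ n) G))
    rw [Functor.map_comp]
    infer_instance
  haveI : PreservesColimitsOfSize.{0, 0} (Scheme.Modules.restrictFunctor U.ι) :=
    (Scheme.Modules.restrictAdjunction U.ι).leftAdjoint_preservesColimits
  have hT0 : IsZero ((Scheme.Modules.restrictFunctor U.ι).obj (cokernel j)) :=
    IsZero.of_iso (isZero_cokernel_of_epi _)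
      (PreservesCokernel.iso (Scheme.Modules.restrictFunctor U.ι) j)
  have hsupp : ∀ x ∈ U, x ∉ CohB1.support (cokernel j) := fun x hx =>
    not_mem_support_of_isZero_restrict_opens U _ hT0 x hx
  have hvan : ∀ W : X.Opens, Disjoint (W : Set X) (I.support : Set X) →
      Subsingleton Γ(cokernel j, W) := by
    intro W hW
    refine ⟨fun a b => ?_⟩
    have hWU : ∀ x ∈ W, x ∉ CohB1.support (cokernel j) := by
      intro x hx
      apply hsupp x
      change x ∈ (U : Set X)
      rw [hU]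
      exact fun hx' => Set.disjoint_left.1 hW hx hx'
    rw [Groth.Agent.Lib.Helper23.Support.eq_zero_of_disjoint_support (cokernel j) W hWU a,
      Groth.Agent.Lib.Helper23.Support.eq_zero_of_disjoint_support (cokernel j) W hWU b]
  obtain ⟨N, hN⟩ := exists_killed_pow I (cokernel j) cT hvan
  have h0 : Dual3.idealMulι (I ^ N) G ≫ cokernel.π j = 0 :=
    idealMulι_comp_eq_zero (I ^ N) hN (cokernel.π j)
  let ι₀ : (Dual3.idealMul (I ^ N)).obj G ⟶ kernel ψ :=
    Abelian.monoLift j (Dual3.idealMulι (I ^ N) G) h0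
  have hι₀ : ι₀ ≫ j = Dual3.idealMulι (I ^ N) G := Abelian.monoLift_comp j _ h0
  refine ⟨N, ι₀ ≫ kernel.ι ψ, ?_, ?_⟩
  · rw [Category.assoc]
    exact hι₀
  · rw [Category.assoc, kernel.condition, comp_zero]

end Groth.Agent.Lib.R2H4HomIdealMul
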