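import Mathlib
import Groth.Agent.Lib.R2H4GaloisInertia

set_option autoImplicit false
universe u v
open TensorProduct

namespace Groth.Agent.Lib.R2H4InertiaUnram

open Groth.Agent.Lib.R2H4GaloisInertia

variable {A C : Type u} [CommRing A] [CommRing C] [Algebra C A] {G : Type v} [Group G]
  [MulSemiringAction G A] [SMulCommClass G C A]

variable (C) in
/-- `a ⊗ b ↦ a * g • b` -/
noncomputable def phi (g : G) : A ⊗[C] A →ₐ[C] A :=
  Algebra.TensorProduct.productMap (AlgHom.id C A) (MulSemiringAction.toAlgHom C A g)

theorem phi_tmul (g : G) (a b : A) : phi C g (a ⊗ₜ b) = a * g • b := by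
  rw [phi, Algebra.TensorProduct.productMap_apply_tmul]
  rfl

theorem phi_gen (g : G) (a : A) : phi C g ((1 : A) ⊗ₜ[C] a - a ⊗ₜ[C] (1 : A)) = g • a - a := by
  rw [map_sub, phi_tmul, phi_tmul, one_mul, smul_one, mul_one]

/-- for a formally unramified algebra of (essentially) finite type with a group acting by algebra
automorphisms, the "fixed loci" are cut out by idempotents -/
theorem exists_isInertiaIdem [Algebra.FormallyUnramified C A] [Algebra.EssFiniteType C A] :
    ∃ ε : G → A, IsInertiaIdem ε := by
  obtain ⟨t, ht1, ht2⟩ := (Algebra.FormallyUnramified.iff_exists_tensorProduct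
    (R := C) (S := A)).mp inferInstance
  have hmem : 1 - t ∈ Ideal.span (Set.range fun s : A => (1 : A) ⊗ₜ[C] s - s ⊗ₜ[C] (1 : A)) := by
    rw [KaehlerDifferential.span_range_eq_ideal]
    change 1 - t ∈ RingHom.ker _
    rw [RingHom.mem_ker, map_sub, map_one]
    change 1 - Algebra.TensorProduct.lmul' C t = 0
    rw [ht2, sub_self]
  have hkill : ∀ z ∈ Ideal.span (Set.range fun s : A => (1 : A) ⊗ₜ[C] s - s ⊗ₜ[C] (1 : A)),
      z * t = 0 := by
    intro z hz
    induction hz using Submodule.span_induction with
    | mem z hz => obtain ⟨s, rfl⟩ := hz; exact ht1 s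
    | zero => exact zero_mul t
    | add z w _ _ hz hw => rw [add_mul, hz, hw, add_zero]
    | smul r z _ hz => rw [smul_eq_mul, mul_assoc, hz, mul_zero]
  have htt : t * t = t := by
    have := hkill _ hmem
    rw [sub_mul, one_mul, sub_eq_zero] at this
    exact this.symm
  refine ⟨fun g => phi C g t, fun g => ?_, fun g => ?_⟩
  · change phi C g t * phi C g t = phi C g t
    rw [← map_mul, htt]
  · apply le_antisymm
    · rw [Ideal.span_le]
      rintro _ ⟨a, rfl⟩
      change g • a - a ∈ Ideal.span {1 - phi C g t}
      have h1 : ((1 : A) ⊗ₜ[C] a - a ⊗ₜ[C] (1 : A)) * (1 - t) =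
          (1 : A) ⊗ₜ[C] a - a ⊗ₜ[C] (1 : A) := by
        rw [mul_sub, mul_one, ht1 a, sub_zero]
      have h2 := congrArg (phi C g) h1
      rw [map_mul, phi_gen, map_sub, map_one] at h2
      rw [← h2]
      exact Ideal.mul_mem_left _ _ (Ideal.subset_span rfl)
    · rw [Ideal.span_le, Set.singleton_subset_iff]
      have key : ∀ z ∈ Ideal.span (Set.range fun s : A => (1 : A) ⊗ₜ[C] s - s ⊗ₜ[C] (1 : A)),
          phi C g z ∈ Ideal.span (Set.range fun a : A => g • a - a) := by
        intro z hz
        induction hz using Submodule.span_induction with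
        | mem z hz =>
          obtain ⟨s, rfl⟩ := hz
          rw [phi_gen]
          exact Ideal.subset_span ⟨s, rfl⟩
        | zero => rw [map_zero]; exact Ideal.zero_mem _
        | add z w _ _ hz hw => rw [map_add]; exact Ideal.add_mem _ hz hw
        | smul r z _ hz => rw [smul_eq_mul, map_mul]; exact Ideal.mul_mem_left _ _ hz
      have := key _ hmem
      rw [map_sub, map_one] at this
      exact this


/-- flatness descends along a faithfully flat ring map on the *source* side:
if `A` is faithfully flat over `B` and flat over `C`, then `B` is flat over `C`. -/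
theorem flat_of_faithfullyFlat_comp (C B A : Type u) [CommRing C] [CommRing B] [CommRing A]
    [Algebra C B] [Algebra B A] [Algebra C A] [IsScalarTower C B A]
    [Module.FaithfullyFlat B A] [Module.Flat C A] : Module.Flat C B := by
  rw [Module.Flat.iff_lTensor_preserves_injective_linearMap]
  intro N P _ _ _ _ f hf
  have h1 : Function.Injective (f.baseChange B) := by
    rw [← Module.FaithfullyFlat.lTensor_injective_iff_injective B A]
    have h2 : Function.Injective (f.baseChange A) :=
      Module.Flat.lTensor_preserves_injective_linearMap f hf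
    have h3 : (AlgebraTensorModule.cancelBaseChange C B A A P).toLinearMap.restrictScalars B ∘ₗ
        LinearMap.lTensor A (f.baseChange B) =
        (f.baseChange A).restrictScalars B ∘ₗ
          (AlgebraTensorModule.cancelBaseChange C B A A N).toLinearMap.restrictScalars B := by
      ext a n
      simp
    have h4 : Function.Injective ((AlgebraTensorModule.cancelBaseChange C B A A P) ∘
        LinearMap.lTensor A (f.baseChange B)) := by
      have : ⇑(AlgebraTensorModule.cancelBaseChange C B A A P) ∘
          ⇑(LinearMap.lTensor A (f.baseChange B)) =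
          ⇑(f.baseChange A) ∘ ⇑(AlgebraTensorModule.cancelBaseChange C B A A N) := by
        funext x
        exact LinearMap.congr_fun h3 x
      rw [this]
      exact h2.comp (AlgebraTensorModule.cancelBaseChange C B A A N).injective
    exact Function.Injective.of_comp h4
  exact h1


/-- ring-level core of SGA1 V 2.2/2.3-type statements: if `A` is étale over a Noetherian ring `C`,
a finite group `G` acts on `A` by `B`-algebra automorphisms where `C → B → A`, and `B = A^G`, then
`A` is étale over `B` and `B` is étale over `C`. -/
theorem etale_of_isInvariant (C B A : Type u) [CommRing C] [CommRing B] [CommRing A]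
    [Algebra C B] [Algebra B A] [Algebra C A] [IsScalarTower C B A]
    (G : Type v) [Group G] [Finite G] [MulSemiringAction G A] [SMulCommClass G B A]
    [Algebra.IsInvariant B A G] (hinj : Function.Injective (algebraMap B A))
    [Algebra.Etale C A] [IsNoetherianRing C] : Algebra.Etale B A ∧ Algebra.Etale C B := by
  haveI : SMulCommClass G C A := ⟨fun g c a => by
    rw [← IsScalarTower.algebraMap_smul B c a, smul_comm g (algebraMap C B c) a,
      IsScalarTower.algebraMap_smul]⟩
  obtain ⟨ε, hε⟩ := exists_isInertiaIdem (C := C) (A := A) (G := G)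
  obtain ⟨hproj, hfin⟩ := projective_of_isInertiaIdem (B := B) hε hinj
  haveI : Module.Flat B A := inferInstance
  haveI : Algebra.FormallyUnramified B A := Algebra.FormallyUnramified.of_restrictScalars C B A
  haveI : Module.FinitePresentation B A := Module.finitePresentation_of_projective B A
  haveI : Algebra.FinitePresentation B A := Algebra.FinitePresentation.of_finitePresentation B A
  have hBA : Algebra.Etale B A := Algebra.Etale.of_formallyUnramified_of_flat
  refine ⟨hBA, ?_⟩
  haveI : Algebra.IsIntegral B A := Algebra.IsInvariant.isIntegral B A G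
  haveI : FaithfulSMul B A := (faithfulSMul_iff_algebraMap_injective B A).mpr hinj
  haveI : Module.FaithfullyFlat B A :=
    Module.FaithfullyFlat.of_comap_surjective (Algebra.IsIntegral.comap_surjective B A)
  haveI : Module.Flat C B := flat_of_faithfullyFlat_comp C B A
  haveI : Algebra.FormallyUnramified C B := by
    constructor
    haveI : Subsingleton (A ⊗[B] Ω[B⁄C]) :=
      (KaehlerDifferential.tensorKaehlerEquivOfFormallyEtale C B A).subsingleton
    exact Module.FaithfullyFlat.lTensor_reflects_triviality B A Ω[B⁄C]
  haveI : Algebra.FiniteType C B := by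
    have hAft : Algebra.FiniteType C A := inferInstance
    exact ⟨fg_of_fg_of_fg C B A hAft.out (Module.Finite.fg_top) hinj⟩
  haveI : Algebra.FinitePresentation C B := Algebra.FinitePresentation.of_finiteType.mp inferInstance
  exact Algebra.Etale.of_formallyUnramified_of_flat


/-- `RingHom` form of `etale_of_isInvariant`. -/
theorem ringHom_etale_of_isInvariant {C B A : Type u} [CommRing C] [CommRing B] [CommRing A]
    (φ : C →+* B) (ψ : B →+* A) (G : Type v) [Group G] [Finite G] [MulSemiringAction G A]
    (hcomm : letI := ψ.toAlgebra; SMulCommClass G B A)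
    (hinv : letI := ψ.toAlgebra; Algebra.IsInvariant B A G)
    (hinj : Function.Injective ψ) (h : (ψ.comp φ).Etale) [IsNoetherianRing C] :
    ψ.Etale ∧ φ.Etale := by
  letI := φ.toAlgebra
  letI := ψ.toAlgebra
  letI := (ψ.comp φ).toAlgebra
  haveI : IsScalarTower C B A := IsScalarTower.of_algebraMap_eq' rfl
  haveI : SMulCommClass G B A := hcomm
  haveI : Algebra.IsInvariant B A G := hinv
  haveI : Algebra.Etale C A := h
  exact etale_of_isInvariant C B A G hinj

end Groth.Agent.Lib.R2H4InertiaUnram
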