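import Mathlib
import Groth.Agent.Lib.R2H4IntInjFlat
import Groth.Agent.S0386

/-!
# Flatness descends along integral injective base change (scheme version, EGA IV 11.5.?)

`A → A'` integral injective, `f : X ⟶ Spec A` locally of finite presentation, `x ∈ X`;
if `X' = X ×_A A' → Spec A'` is flat at all points over `x`, then `f` is flat at `x`.
Uses openness of the flat locus (`S0386`), closedness of integral morphisms and the algebraic
core `R2H4IntInjFlat.flat_of_flat_baseChange` (S6884).
-/

set_option autoImplicit false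
set_option linter.style.haveILetI false
universe u
open TensorProduct AlgebraicGeometry CategoryTheory Limits

namespace Groth.Agent.Lib.R2H4.IntInjFlatSch

/-- Algebraic core: `R → S` integral injective, `B` a finitely presented `R`-algebra,
`B' = S ⊗_R B` flat over `S`; then `B` is flat over `R`. -/
theorem flat_of_isPushout {R S B B' : Type u} [CommRing R] [CommRing S] [CommRing B] [CommRing B']
    [Algebra R S] [Algebra R B] [Algebra S B'] [Algebra B B'] [Algebra R B']
    [IsScalarTower R S B'] [IsScalarTower R B B'] [Algebra.IsPushout R S B B']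
    [Algebra.IsIntegral R S] (hinj : Function.Injective (algebraMap R S))
    [Algebra.FinitePresentation R B] [Module.Flat S B'] : Module.Flat R B := by
  obtain ⟨n, f, hf, hker⟩ := Algebra.FinitePresentation.out (R := R) (A := B)
  letI : Algebra (MvPolynomial (Fin n) R) B := f.toRingHom.toAlgebra
  haveI : IsScalarTower R (MvPolynomial (Fin n) R) B :=
    .of_algebraMap_eq' f.comp_algebraMap.symm
  haveI : Module.FinitePresentation (MvPolynomial (Fin n) R) B :=
    Module.finitePresentation_of_surjective (Algebra.linearMap (MvPolynomial (Fin n) R) B) hf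
      hker
  haveI : Module.Flat S (S ⊗[R] B) :=
    Module.Flat.of_linearEquiv (Algebra.IsPushout.equiv R S B B').toLinearEquiv
  exact Groth.Agent.Lib.R2H4.IntInjFlat.flat_of_flat_baseChange R S hinj n B

/-- global flatness on an affine chart from stalkwise flatness. -/
theorem flat_chart_of_forall_stalk {X Y : Scheme.{u}} (f : X ⟶ Y) (U : Y.Opens)
    (hU : IsAffineOpen U) (V : X.Opens) (hV : IsAffineOpen V) (hVU : V ≤ f ⁻¹ᵁ U)
    (h : ∀ x ∈ V, (f.stalkMap x).hom.Flat) : (f.appLE U V hVU).hom.Flat := by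
  letI := (f.appLE U V hVU).hom.toAlgebra
  change Module.Flat Γ(Y, U) Γ(X, V)
  apply Module.flat_of_isLocalized_maximal Γ(X, V) Γ(X, V)
    (fun P _ => LocalizedModule P.primeCompl Γ(X, V))
    (fun P _ => LocalizedModule.mkLinearMap P.primeCompl Γ(X, V))
  intro P hP
  let y : V := hV.isoSpec.inv ⟨P, hP.isPrime⟩
  have hy : hV.primeIdealOf y = ⟨P, hP.isPrime⟩ := by
    change hV.isoSpec.hom (hV.isoSpec.inv _) = _
    rw [← Scheme.Hom.comp_apply, Iso.inv_hom_id]
    rfl
  have := (Groth.Agent.S0386.flat_stalkMap_iff_localizedModule U hU V hV hVU y.2).mp (h y.1 y.2)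
  rw [show (⟨y.1, y.2⟩ : V) = y from rfl, hy] at this
  exact this

theorem flat_localizedModule_self {R B : Type u} [CommRing R] [CommRing B] [Algebra R B]
    [Module.Flat R B] (M : Submonoid B) : Module.Flat R (LocalizedModule M B) := by
  let e : LocalizedModule M B ≃ₗ[B] Localization M :=
    IsLocalizedModule.linearEquiv M (LocalizedModule.mkLinearMap M B)
      (Algebra.linearMap B (Localization M))
  exact Module.Flat.of_linearEquiv (e.restrictScalars R).symm

theorem injective_appTop_SpecMap {A A' : CommRingCat.{u}} (φ : A ⟶ A')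
    (hφ : Function.Injective φ.hom) : Function.Injective (Spec.map φ).appTop.hom := by
  have h1 : (Spec.map φ).appTop = (Scheme.ΓSpecIso A).hom ≫ φ ≫ (Scheme.ΓSpecIso A').inv := by
    rw [← Scheme.ΓSpecIso_naturality_assoc, Iso.hom_inv_id, Category.comp_id]
  rw [h1]
  simp only [CommRingCat.hom_comp, RingHom.coe_comp]
  refine Function.Injective.comp (Function.Injective.comp ?_ hφ) ?_
  · exact ((Scheme.ΓSpecIso A').symm.commRingCatIsoToRingEquiv).injective
  · exact ((Scheme.ΓSpecIso A).commRingCatIsoToRingEquiv).injective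

theorem main {A A' : Type u} [CommRing A] [CommRing A']
    [Algebra A A'] [Algebra.IsIntegral A A'] (hinj : Function.Injective (algebraMap A A'))
    {X : Scheme.{u}} (f : X ⟶ Spec (CommRingCat.of A)) [LocallyOfFinitePresentation f] (x : X)
    (h : ∀ x' : ↥(pullback f (Spec.map (CommRingCat.ofHom (algebraMap A A')))),
      (pullback.fst f _).base x' = x →
      ((pullback.snd f (Spec.map (CommRingCat.ofHom (algebraMap A A')))).stalkMap x').hom.Flat) :
    (f.stalkMap x).hom.Flat := by
  set g : Spec (CommRingCat.of A') ⟶ Spec (CommRingCat.of A) :=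
    Spec.map (CommRingCat.ofHom (algebraMap A A')) with hg
  have hgint : IsIntegralHom g := by
    rw [hg, IsIntegralHom.SpecMap_iff]
    exact algebraMap_isIntegral_iff.mpr inferInstance
  have hopen : IsOpen {y : ↥(pullback f g) | ((pullback.snd f g).stalkMap y).hom.Flat} :=
    Groth.Agent.S0386.result (pullback.snd f g)
  have hclosed : IsClosed ((pullback.fst f g).base ''
      {y | ¬ ((pullback.snd f g).stalkMap y).hom.Flat}) :=
    (pullback.fst f g).isClosedMap _ hopen.isClosed_compl
  have hx : x ∈ ((pullback.fst f g).base ''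
      {y | ¬ ((pullback.snd f g).stalkMap y).hom.Flat})ᶜ := by
    rintro ⟨y, hy, hyx⟩
    exact hy (h y hyx)
  obtain ⟨_, ⟨V, hV : IsAffineOpen V, rfl⟩, hxV, hVsub⟩ :=
    X.isBasis_affineOpens.exists_subset_of_mem_open hx hclosed.isOpen_compl
  have hS : IsAffineOpen (⊤ : (Spec (CommRingCat.of A)).Opens) := isAffineOpen_top _
  have hT : IsAffineOpen (⊤ : (Spec (CommRingCat.of A')).Opens) := isAffineOpen_top _
  have H : IsPullback (pullback.fst f g) (pullback.snd f g) f g := IsPullback.of_hasPullback f g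
  have hUST : (⊤ : (Spec (CommRingCat.of A')).Opens) ≤ g ⁻¹ᵁ ⊤ := le_top
  have hUSX : V ≤ f ⁻¹ᵁ ⊤ := le_top
  set UY : (pullback f g).Opens := (pullback.fst f g) ⁻¹ᵁ V with hUYdef
  have hUY : UY = (pullback.fst f g) ⁻¹ᵁ V ⊓ (pullback.snd f g) ⁻¹ᵁ ⊤ := by
    simp [hUYdef]
  have hUYaff : IsAffineOpen UY := hV.preimage (pullback.fst f g)
  have hiso := isIso_pushoutSection_of_isAffineOpen H hUST hUSX hUY hS hT hV
  have hpo := (isIso_pushoutSection_iff H hUST hUSX hUY).mp hiso
  have hle1 : UY ≤ (pullback.fst f g) ⁻¹ᵁ V := le_rfl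
  have hle2 : UY ≤ (pullback.snd f g) ⁻¹ᵁ ⊤ := le_top
  letI : Algebra Γ(Spec (CommRingCat.of A), ⊤) Γ(Spec (CommRingCat.of A'), ⊤) :=
    (g.appLE ⊤ ⊤ hUST).hom.toAlgebra
  letI : Algebra Γ(Spec (CommRingCat.of A), ⊤) Γ(X, V) := (f.appLE ⊤ V hUSX).hom.toAlgebra
  letI : Algebra Γ(Spec (CommRingCat.of A'), ⊤) Γ(pullback f g, UY) :=
    ((pullback.snd f g).appLE ⊤ UY hle2).hom.toAlgebra
  letI : Algebra Γ(X, V) Γ(pullback f g, UY) :=
    ((pullback.fst f g).appLE V UY hle1).hom.toAlgebra
  letI : Algebra Γ(Spec (CommRingCat.of A), ⊤) Γ(pullback f g, UY) :=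
    (((pullback.snd f g).appLE ⊤ UY hle2).hom.comp (g.appLE ⊤ ⊤ hUST).hom).toAlgebra
  haveI : IsScalarTower Γ(Spec (CommRingCat.of A), ⊤) Γ(Spec (CommRingCat.of A'), ⊤)
      Γ(pullback f g, UY) := .of_algebraMap_eq' rfl
  haveI : IsScalarTower Γ(Spec (CommRingCat.of A), ⊤) Γ(X, V) Γ(pullback f g, UY) := by
    refine .of_algebraMap_eq' ?_
    have := congr($(hpo.w).hom)
    simpa [RingHom.algebraMap_toAlgebra] using this.symm
  haveI : Algebra.IsPushout Γ(Spec (CommRingCat.of A), ⊤) Γ(Spec (CommRingCat.of A'), ⊤)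
      Γ(X, V) Γ(pullback f g, UY) :=
    CommRingCat.isPushout_iff_isPushout.mp hpo.flip
  haveI : Algebra.IsIntegral Γ(Spec (CommRingCat.of A), ⊤) Γ(Spec (CommRingCat.of A'), ⊤) := by
    have := IsIntegralHom.isIntegral_app g ⊤ hS
    exact algebraMap_isIntegral_iff.mp this
  have hinj' : Function.Injective
      (algebraMap Γ(Spec (CommRingCat.of A), ⊤) Γ(Spec (CommRingCat.of A'), ⊤)) :=
    injective_appTop_SpecMap (CommRingCat.ofHom (algebraMap A A')) hinj
  haveI : Algebra.FinitePresentation Γ(Spec (CommRingCat.of A), ⊤) Γ(X, V) :=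
    HasRingHomProperty.appLE (P := @LocallyOfFinitePresentation) f inferInstance ⟨⊤, hS⟩ ⟨V, hV⟩
      hUSX
  haveI : Module.Flat Γ(Spec (CommRingCat.of A'), ⊤) Γ(pullback f g, UY) := by
    refine flat_chart_of_forall_stalk (pullback.snd f g) ⊤ hT UY hUYaff hle2 fun y hy => ?_
    by_contra hcon
    exact hVsub hy ⟨y, hcon, rfl⟩
  haveI : Module.Flat Γ(Spec (CommRingCat.of A), ⊤) Γ(X, V) := flat_of_isPushout
    (S := Γ(Spec (CommRingCat.of A'), ⊤)) (B' := Γ(pullback f g, UY)) hinj'
  exact (Groth.Agent.S0386.flat_stalkMap_iff_localizedModule ⊤ hS V hV hUSX hxV).mpr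
    (flat_localizedModule_self _)

end Groth.Agent.Lib.R2H4.IntInjFlatSch
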