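import Mathlib
import Groth.Prelude
import Groth.Agent.Lib.R2H4DegFormula
import Groth.Agent.Lib.R2H1P1Graph
import Groth.Agent.Lib.Helper4VarDim10
import Groth.Agent.Lib.Helper23AmpleIso

/-!
helper4 (run 2): intersection numbers under pullback: `(f^*L_1 ⋯ f^*L_d · Z) = deg(Z → f(Z)) (L_1 ⋯ L_d · f(Z))`.
* `residueDegree_comp_of_isPreimmersion`;
* `powsCongr` : `tensorPows` respects isomorphisms of the twisting modules;
* `s7682`.
-/

set_option autoImplicit false
set_option linter.style.haveILetI false
set_option linter.unusedSectionVars false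
universe u
open CategoryTheory CategoryTheory.Limits AlgebraicGeometry TopologicalSpace

noncomputable section

namespace Groth.Agent.Lib.R2H4IntPullback

open Groth.Agent.Lib.R2H4NumPoly Groth.Agent.Lib.R2H4TensorPows Groth.Agent.Lib.R2H4Snapper
  Groth.Agent.Lib.R2H4SnapperRef Groth.Agent.Lib.R2H4DegFormula

section Deg

/-- post-composition with a preimmersion does not change the residue degree -/
theorem residueDegree_comp_of_isPreimmersion {A B C : Scheme.{u}} (a : A ⟶ B) (b : B ⟶ C)
    [IsPreimmersion b] (x : A) : (a ≫ b).residueDegree x = a.residueDegree x := by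
  unfold Scheme.Hom.residueDegree
  letI := ((a ≫ b).residueFieldMap x).hom.toAlgebra
  letI := (a.residueFieldMap x).hom.toAlgebra
  let i : C.residueField ((a ≫ b) x) ≃+* B.residueField (a x) :=
    RingEquiv.ofBijective (b.residueFieldMap (a x)).hom
      (Groth.Agent.Lib.Helper4.VarDim.residueFieldMap_bijective_of_isPreimmersion b (a x))
  have hc : (algebraMap (B.residueField (a x)) (A.residueField x)).comp i.toRingHom =
      (RingEquiv.refl (A.residueField x)).toRingHom.comp
        (algebraMap (C.residueField ((a ≫ b) x)) (A.residueField x)) := by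
    ext c
    have h := ConcreteCategory.congr_hom (Scheme.residueFieldMap_comp a b x) c
    exact h.symm
  exact Algebra.finrank_eq_of_equiv_equiv i (RingEquiv.refl _) hc

end Deg

section Pows

variable {X : Scheme.{u}}

/-- `tensorPows` respects isomorphisms of the twisting modules -/
def powsCongr (F : X.Modules) :
    ∀ (r : ℕ) (L L' : Fin r → X.Modules) (_ : ∀ i, L i ≅ L' i) (n : Fin r → ℕ),
      Curv2.tensorPows F r L n ≅ Curv2.tensorPows F r L' n
  | 0, _, _, _, _ => Iso.refl _
  | r + 1, L, L', e, n =>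
    tIso (powsCongr F r (fun i => L i.castSucc) (fun i => L' i.castSucc) (fun i => e i.castSucc)
      (fun i => n i.castSucc))
      (Groth.Agent.Lib.Helper23.AmpleIso.tensorPowIso (e (Fin.last r)) (n (Fin.last r)))

end Pows

section Main

open Groth.Agent.Lib.R2H1.DegCartier

theorem s7682 (k : Type u) [Field k] (X Y : Scheme.{u})
    [X.Over (Spec (CommRingCat.of k))] [Y.Over (Spec (CommRingCat.of k))]
    [IsProper (X ↘ (Spec (CommRingCat.of k)))] [IsProper (Y ↘ (Spec (CommRingCat.of k)))]
    (f : Y ⟶ X) (hf : f ≫ (X ↘ (Spec (CommRingCat.of k))) = Y ↘ (Spec (CommRingCat.of k)))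
    (Z : Y.IdealSheafData) [IsIntegral Z.subscheme] (d : ℕ)
    (hZ : topologicalKrullDim (Z.support : Set Y) = d)
    (L : Fin d → X.Modules) (hL : ∀ i, PicF.IsInvertible (L i))
    (PY PX : MvPolynomial (Fin d) ℚ)
    (hPY : ∀ n : Fin d → ℕ, (Curv2.euler k Y (Curv2.tensorPows (ClSub.quotMod Z) d
      (fun i => (Scheme.Modules.pullback f).obj (L i)) n) : ℚ) =
        MvPolynomial.eval (fun i => (n i : ℚ)) PY)
    (hPX : ∀ n : Fin d → ℕ, (Curv2.euler k X (Curv2.tensorPows
      (ClSub.quotMod (Z.subschemeι ≫ f).ker) d L n) : ℚ) =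
        MvPolynomial.eval (fun i => (n i : ℚ)) PX) :
    MvPolynomial.coeff (Finsupp.equivFunOnFinite.symm fun _ : Fin d => 1) PY =
      ((Z.subschemeι ≫ f).residueDegree (genericPoint Z.subscheme) : ℚ) *
        MvPolynomial.coeff (Finsupp.equivFunOnFinite.symm fun _ : Fin d => 1) PX := by
  classical
  -- the integral schemes `S = Z` and `T = f(Z)`
  letI : Z.subscheme.Over (Spec (CommRingCat.of k)) :=
    ⟨Z.subschemeι ≫ (Y ↘ Spec (CommRingCat.of k))⟩
  haveI : IsProper (Z.subscheme ↘ Spec (CommRingCat.of k)) :=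
    inferInstanceAs (IsProper (Z.subschemeι ≫ (Y ↘ Spec (CommRingCat.of k))))
  set g : Z.subscheme ⟶ X := Z.subschemeι ≫ f with hgdef
  letI : g.ker.subscheme.Over (Spec (CommRingCat.of k)) :=
    ⟨g.ker.subschemeι ≫ (X ↘ Spec (CommRingCat.of k))⟩
  haveI : IsProper (g.ker.subscheme ↘ Spec (CommRingCat.of k)) :=
    inferInstanceAs (IsProper (g.ker.subschemeι ≫ (X ↘ Spec (CommRingCat.of k))))
  haveI : IsIntegral g.ker.subscheme := Groth.Agent.Lib.R2H1.P1Graph.isIntegral_image g
  have hgg : g.toImage ≫ g.ker.subschemeι = g := g.toImage_imageι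
  have hg' : g.toImage ≫ (g.ker.subscheme ↘ Spec (CommRingCat.of k)) =
      Z.subscheme ↘ Spec (CommRingCat.of k) := by
    change g.toImage ≫ g.ker.subschemeι ≫ (X ↘ Spec (CommRingCat.of k)) =
      Z.subschemeι ≫ (Y ↘ Spec (CommRingCat.of k))
    rw [← Category.assoc, hgg, hgdef, Category.assoc, hf]
  haveI : IsDominant g.toImage :=
    Groth.Agent.Lib.R2H1.P1Graph.isDominant_toImage_of_isReduced g
  have hdom : g.toImage (genericPoint Z.subscheme) = genericPoint g.ker.subscheme :=
    Groth.Agent.Lib.Helper4.GenFinite.map_genericPoint_of_isDominant g.toImage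
  have hdS : topologicalKrullDim Z.subscheme = ((d : ℕ) : WithBot ℕ∞) := by
    rw [← Groth.Agent.Lib.R2H1.NefPull.dim_support_eq, hZ]
  haveI := Groth.Agent.Lib.R2H3.RpushRestrict.hasInjectiveResolutions_modules Z.subscheme
  have hM : ∀ i, PicF.IsInvertible ((Scheme.Modules.pullback g.ker.subschemeι).obj (L i)) :=
    fun i => Groth.Agent.Lib.Helper23.PB.isInvertible_pullback _ _ (hL i)
  obtain ⟨R, hR, hRf⟩ := degree_formula k g.toImage hg' hdom d hdS d
    (fun i => (Scheme.Modules.pullback g.ker.subschemeι).obj (L i)) hM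
  -- the two Euler characteristic functions
  have hfL : ∀ i, PicF.IsInvertible ((Scheme.Modules.pullback f).obj (L i)) :=
    fun i => Groth.Agent.Lib.Helper23.PB.isInvertible_pullback _ _ (hL i)
  have eL : ∀ i, (Scheme.Modules.pullback Z.subschemeι).obj ((Scheme.Modules.pullback f).obj (L i)) ≅
      (Scheme.Modules.pullback g.toImage).obj
        ((Scheme.Modules.pullback g.ker.subschemeι).obj (L i)) := fun i =>
    (Scheme.Modules.pullbackComp Z.subschemeι f).app (L i) ≪≫
      (Scheme.Modules.pullbackCongr hgg.symm).app (L i) ≪≫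
      ((Scheme.Modules.pullbackComp g.toImage g.ker.subschemeι).app (L i)).symm
  have hA : ∀ n : Fin d → ℕ, ev n PY = fE k Z.subscheme d
      (fun i => (Scheme.Modules.pullback g.toImage).obj
        ((Scheme.Modules.pullback g.ker.subschemeι).obj (L i))) (Coh.structureModule Z.subscheme) n := by
    intro n
    unfold ev fE
    rw [← hPY n, fE_quotMod_eq k Z d _ hfL n]
    congr 1
    exact euler_congr k (powsCongr _ d _ _ eL n)
  have hB : ∀ n : Fin d → ℕ, ev n PX = fE k g.ker.subscheme d
      (fun i => (Scheme.Modules.pullback g.ker.subschemeι).obj (L i))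
      (Coh.structureModule g.ker.subscheme) n := by
    intro n
    unfold ev fE
    rw [← hPX n, fE_quotMod_eq k g.ker d L hL n]
  have hdeg : g.residueDegree (genericPoint Z.subscheme) =
      g.toImage.residueDegree (genericPoint Z.subscheme) := by
    have h := residueDegree_comp_of_isPreimmersion g.toImage g.ker.subschemeι
      (genericPoint Z.subscheme)
    rw [← h]
    congr 1
    exact hgg.symm
  have hPeq : PY = MvPolynomial.C (g.residueDegree (genericPoint Z.subscheme) : ℚ) * PX + R := by
    refine eq_of_ev_eq _ _ fun n => ?_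
    have h2 := hRf n
    simp only at h2
    rw [← hA n, ← hB n, ← hdeg] at h2
    unfold ev at h2 ⊢
    rw [map_add, map_mul, MvPolynomial.eval_C, ← h2]
    ring
  rw [hPeq, MvPolynomial.coeff_add, coeff_ones_eq_zero_of_degLT d R hR, add_zero,
    MvPolynomial.coeff_C_mul]

end Main

end Groth.Agent.Lib.R2H4IntPullback
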