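import Mathlib
import Groth.Agent.Lib.R2H4InvFlat

set_option autoImplicit false
universe u v w
open TensorProduct

namespace Groth.Agent.Lib.R2H4InvProd

open Groth.Agent.Lib.R2H4InvFlat

section module

variable {R : Type*} [CommRing R] {A₁ A₂ N₁ N₂ : Type*} [AddCommGroup A₁] [Module R A₁]
  [AddCommGroup A₂] [Module R A₂] [AddCommGroup N₁] [Module R N₁] [AddCommGroup N₂] [Module R N₂]
  [Module.Flat R A₂] [Module.Flat R N₁]
  {G H : Type*} [Finite G] [Finite H]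

/-- `(A₁ ⊗ A₂)^{G × H} = A₁^G ⊗ A₂^H` when `A₂` and `A₁^G` are flat (module form). -/
theorem mem_range_map_of_invariant (τ : G → (A₁ →ₗ[R] A₁)) (υ : H → (A₂ →ₗ[R] A₂))
    (ι₁ : N₁ →ₗ[R] A₁) (ι₂ : N₂ →ₗ[R] A₂) (hinj₁ : Function.Injective ι₁)
    (hr₁ : ∀ x : A₁, (∀ g, τ g x = x) → x ∈ LinearMap.range ι₁)
    (hr₂ : ∀ x : A₂, (∀ h, υ h x = x) → x ∈ LinearMap.range ι₂)
    (hf₁ : ∀ g n, τ g (ι₁ n) = ι₁ n) (hf₂ : ∀ h n, υ h (ι₂ n) = ι₂ n)
    (w : A₁ ⊗[R] A₂) (hw₁ : ∀ g, (τ g).rTensor A₂ w = w) (hw₂ : ∀ h, (υ h).lTensor A₁ w = w) :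
    w ∈ LinearMap.range (TensorProduct.map ι₁ ι₂) := by
  -- step 1
  have h1 : (TensorProduct.comm R A₁ A₂) w ∈ LinearMap.range (ι₁.lTensor A₂) := by
    refine mem_range_lTensor_of_invariant τ ι₁ hr₁ hf₁ _ fun g => ?_
    have : (τ g).lTensor A₂ ∘ₗ (TensorProduct.comm R A₁ A₂).toLinearMap =
        (TensorProduct.comm R A₁ A₂).toLinearMap ∘ₗ (τ g).rTensor A₂ := by
      apply TensorProduct.ext'
      intro x y
      simp
    have h := LinearMap.congr_fun this w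
    simp only [LinearMap.comp_apply, LinearEquiv.coe_coe] at h
    rw [h, hw₁ g]
  obtain ⟨v, hv⟩ := h1
  set w₁ : N₁ ⊗[R] A₂ := (TensorProduct.comm R A₂ N₁) v with hw₁def
  have hw₁eq : ι₁.rTensor A₂ w₁ = w := by
    have : ι₁.rTensor A₂ ∘ₗ (TensorProduct.comm R A₂ N₁).toLinearMap =
        (TensorProduct.comm R A₂ A₁).toLinearMap ∘ₗ ι₁.lTensor A₂ := by
      apply TensorProduct.ext'
      intro x y
      simp
    have h := LinearMap.congr_fun this v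
    simp only [LinearMap.comp_apply, LinearEquiv.coe_coe] at h
    rw [hw₁def, h, hv]
    exact (TensorProduct.comm R A₁ A₂).symm_apply_apply w
  have hinjr : Function.Injective (ι₁.rTensor A₂) :=
    Module.Flat.rTensor_preserves_injective_linearMap ι₁ hinj₁
  -- step 2
  have h2 : w₁ ∈ LinearMap.range (ι₂.lTensor N₁) := by
    refine mem_range_lTensor_of_invariant υ ι₂ hr₂ hf₂ _ fun h => ?_
    apply hinjr
    have : ι₁.rTensor A₂ ∘ₗ (υ h).lTensor N₁ = (υ h).lTensor A₁ ∘ₗ ι₁.rTensor A₂ := by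
      apply TensorProduct.ext'
      intro x y
      simp
    have h' := LinearMap.congr_fun this w₁
    simp only [LinearMap.comp_apply] at h'
    rw [h', hw₁eq, hw₂ h]
  obtain ⟨w₂, hw₂'⟩ := h2
  refine ⟨w₂, ?_⟩
  have : TensorProduct.map ι₁ ι₂ = ι₁.rTensor A₂ ∘ₗ ι₂.lTensor N₁ := by
    apply TensorProduct.ext'
    intro x y
    simp
  rw [this, LinearMap.comp_apply, hw₂', hw₁eq]

theorem injective_map (ι₁ : N₁ →ₗ[R] A₁) (ι₂ : N₂ →ₗ[R] A₂) (hinj₁ : Function.Injective ι₁)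
    (hinj₂ : Function.Injective ι₂) : Function.Injective (TensorProduct.map ι₁ ι₂) := by
  have : TensorProduct.map ι₁ ι₂ = ι₁.rTensor A₂ ∘ₗ ι₂.lTensor N₁ := by
    apply TensorProduct.ext'
    intro x y
    simp
  rw [this, LinearMap.coe_comp]
  exact (Module.Flat.rTensor_preserves_injective_linearMap ι₁ hinj₁).comp
    (Module.Flat.lTensor_preserves_injective_linearMap ι₂ hinj₂)

end module


section pushout

open CategoryTheory CategoryTheory.Limits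

theorem exists_tensorEquiv {R A M P : CommRingCat.{u}} {φ : R ⟶ A} {ψ : R ⟶ M} {a : A ⟶ P}
    {b : M ⟶ P} (H : IsPushout φ ψ a b) :
    letI := φ.hom.toAlgebra
    letI := ψ.hom.toAlgebra
    ∃ e : A ⊗[R] M ≃+* P, ∀ (x : A) (m : M), e (x ⊗ₜ[R] m) = a.hom x * b.hom m := by
  letI := φ.hom.toAlgebra
  letI := ψ.hom.toAlgebra
  let e := ((CommRingCat.isPushout_tensorProduct R A M).isoIsPushout A M H).commRingCatIsoToRingEquiv
  have he1 : ∀ x : A, e (x ⊗ₜ[R] (1 : M)) = a.hom x := fun x =>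
    congrArg (fun f : A ⟶ P => f.hom x)
      ((CommRingCat.isPushout_tensorProduct R A M).inl_isoIsPushout_hom A M H)
  have he2 : ∀ m : M, e ((1 : A) ⊗ₜ[R] m) = b.hom m := fun m =>
    congrArg (fun f : M ⟶ P => f.hom m)
      ((CommRingCat.isPushout_tensorProduct R A M).inr_isoIsPushout_hom A M H)
  refine ⟨e, fun x m => ?_⟩
  have : (x ⊗ₜ[R] m : A ⊗[R] M) = (x ⊗ₜ[R] 1) * (1 ⊗ₜ[R] m) := by
    rw [Algebra.TensorProduct.tmul_mul_tmul, mul_one, one_mul]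
  rw [this, map_mul, he1, he2]

/-- `(A₁ ⊗ A₂)^{G × H} = A₁^G ⊗ A₂^H`, in pushout form in `CommRingCat`. -/
theorem quot_of_isPushout₂ {k A₁ A₂ B₁ B₂ P Q : CommRingCat.{u}}
    {α₁ : k ⟶ A₁} {α₂ : k ⟶ A₂} {a₁ : A₁ ⟶ P} {a₂ : A₂ ⟶ P} (HP : IsPushout α₁ α₂ a₁ a₂)
    {β₁ : k ⟶ B₁} {β₂ : k ⟶ B₂} {b₁ : B₁ ⟶ Q} {b₂ : B₂ ⟶ Q} (HQ : IsPushout β₁ β₂ b₁ b₂)
    (ι₁ : B₁ ⟶ A₁) (ι₂ : B₂ ⟶ A₂) (h₁ : β₁ ≫ ι₁ = α₁) (h₂ : β₂ ≫ ι₂ = α₂)
    (π : Q ⟶ P) (hπ₁ : b₁ ≫ π = ι₁ ≫ a₁) (hπ₂ : b₂ ≫ π = ι₂ ≫ a₂)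
    (hflatA₂ : α₂.hom.Flat) (hflatB₁ : β₁.hom.Flat)
    {G : Type v} {H : Type w} [Finite G] [Finite H] (τ : G → (A₁ ⟶ A₁)) (υ : H → (A₂ ⟶ A₂))
    (hτ : ∀ g, ι₁ ≫ τ g = ι₁) (hυ : ∀ h, ι₂ ≫ υ h = ι₂)
    (hinj₁ : Function.Injective ι₁.hom) (hinj₂ : Function.Injective ι₂.hom)
    (hr₁ : ∀ x : A₁, (∀ g, (τ g).hom x = x) → x ∈ Set.range ι₁.hom)
    (hr₂ : ∀ x : A₂, (∀ h, (υ h).hom x = x) → x ∈ Set.range ι₂.hom)
    (θ₁ : G → (P ⟶ P)) (θ₂ : H → (P ⟶ P))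
    (hθ₁a : ∀ g, a₁ ≫ θ₁ g = τ g ≫ a₁) (hθ₁b : ∀ g, a₂ ≫ θ₁ g = a₂)
    (hθ₂a : ∀ h, a₁ ≫ θ₂ h = a₁) (hθ₂b : ∀ h, a₂ ≫ θ₂ h = υ h ≫ a₂) :
    Function.Injective π.hom ∧ ∀ z : P, (∀ g, (θ₁ g).hom z = z) → (∀ h, (θ₂ h).hom z = z) →
      z ∈ Set.range π.hom := by
  algebraize [α₁.hom, α₂.hom, β₁.hom, β₂.hom]
  obtain ⟨eP, heP⟩ := exists_tensorEquiv HP
  obtain ⟨eQ, heQ⟩ := exists_tensorEquiv HQ
  have hα₁ : ∀ r : k, α₁.hom r = ι₁.hom (β₁.hom r) := fun r =>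
    (congrArg (fun f : k ⟶ A₁ => f.hom r) h₁).symm
  have hα₂ : ∀ r : k, α₂.hom r = ι₂.hom (β₂.hom r) := fun r =>
    (congrArg (fun f : k ⟶ A₂ => f.hom r) h₂).symm
  have hτ' : ∀ g (n : B₁), (τ g).hom (ι₁.hom n) = ι₁.hom n := fun g n =>
    congrArg (fun f : B₁ ⟶ A₁ => f.hom n) (hτ g)
  have hυ' : ∀ h (n : B₂), (υ h).hom (ι₂.hom n) = ι₂.hom n := fun h n =>
    congrArg (fun f : B₂ ⟶ A₂ => f.hom n) (hυ h)
  let ι₁L : B₁ →ₗ[k] A₁ :=
    { toFun := ι₁.hom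
      map_add' := map_add _
      map_smul' := fun r x => by
        simp only [Algebra.smul_def, map_mul, RingHom.id_apply]
        congr 1
        exact (hα₁ r).symm }
  let ι₂L : B₂ →ₗ[k] A₂ :=
    { toFun := ι₂.hom
      map_add' := map_add _
      map_smul' := fun r x => by
        simp only [Algebra.smul_def, map_mul, RingHom.id_apply]
        congr 1
        exact (hα₂ r).symm }
  let τL : G → (A₁ →ₗ[k] A₁) := fun g =>
    { toFun := (τ g).hom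
      map_add' := map_add _
      map_smul' := fun r x => by
        simp only [Algebra.smul_def, map_mul, RingHom.id_apply]
        congr 1
        change (τ g).hom (α₁.hom r) = α₁.hom r
        rw [hα₁, hτ'] }
  let υL : H → (A₂ →ₗ[k] A₂) := fun h =>
    { toFun := (υ h).hom
      map_add' := map_add _
      map_smul' := fun r x => by
        simp only [Algebra.smul_def, map_mul, RingHom.id_apply]
        congr 1
        change (υ h).hom (α₂.hom r) = α₂.hom r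
        rw [hα₂, hυ'] }
  have hπe : ∀ v : B₁ ⊗[k] B₂, π.hom (eQ v) = eP (TensorProduct.map ι₁L ι₂L v) := by
    intro v
    induction v using TensorProduct.induction_on with
    | zero => simp
    | tmul x y =>
      rw [heQ, map_mul, TensorProduct.map_tmul, heP]
      have e1 : π.hom (b₁.hom x) = a₁.hom (ι₁.hom x) :=
        congrArg (fun f : B₁ ⟶ P => f.hom x) hπ₁
      have e2 : π.hom (b₂.hom y) = a₂.hom (ι₂.hom y) :=
        congrArg (fun f : B₂ ⟶ P => f.hom y) hπ₂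
      rw [e1, e2]
      rfl
    | add v₁ v₂ h₁ h₂ => rw [map_add, map_add, map_add, h₁, h₂, map_add]
  have hθ₁e : ∀ g (v : A₁ ⊗[k] A₂), (θ₁ g).hom (eP v) = eP ((τL g).rTensor A₂ v) := by
    intro g v
    induction v using TensorProduct.induction_on with
    | zero => simp
    | tmul x y =>
      rw [heP, map_mul, LinearMap.rTensor_tmul, heP]
      have e1 : (θ₁ g).hom (a₁.hom x) = a₁.hom ((τ g).hom x) :=
        congrArg (fun f : A₁ ⟶ P => f.hom x) (hθ₁a g)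
      have e2 : (θ₁ g).hom (a₂.hom y) = a₂.hom y :=
        congrArg (fun f : A₂ ⟶ P => f.hom y) (hθ₁b g)
      rw [e1, e2]
      rfl
    | add v₁ v₂ h₁ h₂ => rw [map_add, map_add, map_add, h₁, h₂, map_add]
  have hθ₂e : ∀ h (v : A₁ ⊗[k] A₂), (θ₂ h).hom (eP v) = eP ((υL h).lTensor A₁ v) := by
    intro h v
    induction v using TensorProduct.induction_on with
    | zero => simp
    | tmul x y =>
      rw [heP, map_mul, LinearMap.lTensor_tmul, heP]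
      have e1 : (θ₂ h).hom (a₁.hom x) = a₁.hom x :=
        congrArg (fun f : A₁ ⟶ P => f.hom x) (hθ₂a h)
      have e2 : (θ₂ h).hom (a₂.hom y) = a₂.hom ((υ h).hom y) :=
        congrArg (fun f : A₂ ⟶ P => f.hom y) (hθ₂b h)
      rw [e1, e2]
      rfl
    | add v₁ v₂ h₁ h₂ => rw [map_add, map_add, map_add, h₁, h₂, map_add]
  constructor
  · intro z z' hzz
    obtain ⟨v, rfl⟩ := eQ.surjective z
    obtain ⟨v', rfl⟩ := eQ.surjective z'
    rw [hπe, hπe] at hzz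
    rw [injective_map ι₁L ι₂L hinj₁ hinj₂ (eP.injective hzz)]
  · intro z hz₁ hz₂
    obtain ⟨w, rfl⟩ := eP.surjective z
    obtain ⟨v, hv⟩ := mem_range_map_of_invariant τL υL ι₁L ι₂L hinj₁
      (fun x hx => by obtain ⟨n, hn⟩ := hr₁ x hx; exact ⟨n, hn⟩)
      (fun x hx => by obtain ⟨n, hn⟩ := hr₂ x hx; exact ⟨n, hn⟩)
      (fun g n => hτ' g n) (fun h n => hυ' h n) w
      (fun g => eP.injective (by rw [← hθ₁e, hz₁ g]))
      (fun h => eP.injective (by rw [← hθ₂e, hz₂ h]))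
    exact ⟨eQ v, by rw [hπe, hv]⟩

end pushout

end Groth.Agent.Lib.R2H4InvProd
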