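import Mathlib
import Groth.Agent.Lib.R2H4QFCover

/-!
# Quasi-finite domination of fppf ring maps and descent of the Jacobson property (helper4, round 2)

* `exists_qf` (S9432, Stacks 10.168.10-type): a faithfully flat finitely presented `R`-algebra `S`
  admits an `R`-algebra map to a quasi-finite faithfully flat finitely presented `R`-algebra.
  Ring form of `R2H4.QFCover.main2735`.
* `exists_prime_maximal_notMem`: for a prime `P` and `f ∉ P` there is a prime `p ⊇ P` maximal
  among primes avoiding `f`.
* `isJacobsonRing_of_qf`: the Jacobson property descends along faithfully flat quasi-finite maps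
  (going-down + incomparability).
* `main1147` (S1147): the Jacobson property descends along faithfully flat maps of finite
  presentation.
-/

set_option autoImplicit false
set_option linter.style.haveILetI false
universe u
open CategoryTheory CategoryTheory.Limits AlgebraicGeometry

namespace Groth.Agent.Lib.R2H4.JacDesc

/-- Stacks 10.168.10-type statement: a faithfully flat finitely presented algebra is dominated by
a quasi-finite faithfully flat finitely presented algebra. -/
theorem exists_qf (R S : Type u) [CommRing R] [CommRing S] [Algebra R S]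
    [Module.FaithfullyFlat R S] [Algebra.FinitePresentation R S] :
    ∃ (S' : Type u) (_ : CommRing S') (_ : Algebra R S'),
      Algebra.QuasiFinite R S' ∧ Algebra.FiniteType R S' ∧ Module.FaithfullyFlat R S' ∧
        Algebra.FinitePresentation R S' ∧ Nonempty (S →ₐ[R] S') := by
  let f : Spec (CommRingCat.of S) ⟶ Spec (CommRingCat.of R) :=
    Spec.map (CommRingCat.ofHom (algebraMap R S))
  haveI : Flat f := (HasRingHomProperty.Spec_iff (P := @Flat)).mpr
    (RingHom.flat_algebraMap_iff.mpr inferInstance)
  haveI : LocallyOfFinitePresentation f :=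
    (HasRingHomProperty.Spec_iff (P := @LocallyOfFinitePresentation)).mpr
      (RingHom.finitePresentation_algebraMap.mpr inferInstance)
  haveI : Surjective f := ⟨PrimeSpectrum.comap_surjective_of_faithfullyFlat⟩
  obtain ⟨S', g, h, hfac, hfl, hfp, hqf, hsurj, haff⟩ :=
    Groth.Agent.Lib.R2H4.QFCover.main2735 f
  haveI : IsAffine S' := haff inferInstance
  let φ : CommRingCat.of R ⟶ Γ(S', ⊤) := (Scheme.ΓSpecIso (CommRingCat.of R)).inv ≫ g.appTop
  let ψ : CommRingCat.of S ⟶ Γ(S', ⊤) := (Scheme.ΓSpecIso (CommRingCat.of S)).inv ≫ h.appTop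
  have hg : g = S'.isoSpec.hom ≫ Spec.map φ := by
    have := Scheme.isoSpec_hom_naturality g
    rw [Scheme.isoSpec_Spec_hom] at this
    simp only [φ, Spec.map_comp]
    rw [reassoc_of% this, ← Spec.map_comp, Iso.inv_hom_id, Spec.map_id, Category.comp_id]
  have hh : h = S'.isoSpec.hom ≫ Spec.map ψ := by
    have := Scheme.isoSpec_hom_naturality h
    rw [Scheme.isoSpec_Spec_hom] at this
    simp only [ψ, Spec.map_comp]
    rw [reassoc_of% this, ← Spec.map_comp, Iso.inv_hom_id, Spec.map_id, Category.comp_id]
  have hφψ : CommRingCat.ofHom (algebraMap R S) ≫ ψ = φ := by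
    apply Spec.map_injective
    rw [← cancel_epi S'.isoSpec.hom, ← hg, ← hfac, hh, Spec.map_comp, Category.assoc]
  have h1 : Flat (Spec.map φ) := by
    rw [hg] at hfl
    exact (MorphismProperty.cancel_left_of_respectsIso @Flat _ _).mp hfl
  have h2 : LocallyOfFinitePresentation (Spec.map φ) := by
    rw [hg] at hfp
    exact (MorphismProperty.cancel_left_of_respectsIso @LocallyOfFinitePresentation _ _).mp hfp
  have h3 : LocallyQuasiFinite (Spec.map φ) := by
    rw [hg] at hqf
    exact (MorphismProperty.cancel_left_of_respectsIso @LocallyQuasiFinite _ _).mp hqf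
  have h4 : Surjective (Spec.map φ) := by
    have : Spec.map φ = S'.isoSpec.inv ≫ g := by rw [hg, Iso.inv_hom_id_assoc]
    rw [this]; infer_instance
  have q1 : φ.hom.Flat := (HasRingHomProperty.Spec_iff (P := @Flat)).mp h1
  have q2 : φ.hom.FinitePresentation :=
    (HasRingHomProperty.Spec_iff (P := @LocallyOfFinitePresentation)).mp h2
  have q3 : φ.hom.QuasiFinite :=
    (HasRingHomProperty.Spec_iff (P := @LocallyQuasiFinite)).mp h3
  have q4 : Function.Surjective (PrimeSpectrum.comap φ.hom) := h4.surj
  letI : Algebra R Γ(S', ⊤) := φ.hom.toAlgebra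
  refine ⟨Γ(S', ⊤), inferInstance, inferInstance, q3, ?_, ?_, q2, ⟨⟨ψ.hom, ?_⟩⟩⟩
  · haveI : Algebra.FinitePresentation R Γ(S', ⊤) := q2
    infer_instance
  · exact (RingHom.FaithfullyFlat.iff_flat_and_comap_surjective (f := φ.hom)).mpr ⟨q1, q4⟩
  · intro r
    exact congr($(hφψ).hom r)

/-- Given a prime `P` and `f ∉ P`, there is a prime `p ⊇ P` maximal among the primes not
containing `f`. -/
theorem exists_prime_maximal_notMem {R : Type u} [CommRing R] (P : Ideal R) [hP : P.IsPrime]
    (f : R) (hfP : f ∉ P) :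
    ∃ p : Ideal R, p.IsPrime ∧ P ≤ p ∧ f ∉ p ∧ ∀ p' : Ideal R, p'.IsPrime → p < p' → f ∈ p' := by
  let Rf := Localization.Away f
  let e := IsLocalization.orderIsoOfPrime (Submonoid.powers f) Rf
  have hd : Disjoint (Submonoid.powers f : Set R) (P : Set R) :=
    (Ideal.disjoint_powers_iff_notMem_of_isPrime f).mpr hfP
  let P' := e.symm ⟨P, hP, hd⟩
  obtain ⟨M, hM, hPM⟩ := Ideal.exists_le_maximal P'.1 P'.2.ne_top
  let M' : { p : Ideal Rf // p.IsPrime } := ⟨M, hM.isPrime⟩
  have hPM' : P' ≤ M' := hPM
  refine ⟨(e M').1, (e M').2.1, ?_, ?_, ?_⟩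
  · have : e P' ≤ e M' := e.monotone hPM'
    rw [OrderIso.apply_symm_apply] at this
    exact this
  · haveI := (e M').2.1
    exact (Ideal.disjoint_powers_iff_notMem_of_isPrime (I := (e M').1) f).mp (e M').2.2
  · intro p' hp' hlt
    by_contra hf'
    have hd' : Disjoint (Submonoid.powers f : Set R) (p' : Set R) :=
      (Ideal.disjoint_powers_iff_notMem_of_isPrime f).mpr hf'
    let p'' := e.symm ⟨p', hp', hd'⟩
    have h1 : e M' < ⟨p', hp', hd'⟩ := hlt
    have h2 : M' < p'' := by
      have := e.symm.strictMono h1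
      rwa [OrderIso.symm_apply_apply] at this
    have h3 : M = p''.1 := hM.eq_of_le p''.2.ne_top h2.le
    exact absurd (Subtype.ext h3 : M' = p'') h2.ne

theorem isJacobsonRing_of_qf (R T : Type u) [CommRing R] [CommRing T] [Algebra R T]
    [Module.FaithfullyFlat R T] [Algebra.QuasiFinite R T] [hT : IsJacobsonRing T] :
    IsJacobsonRing R := by
  rw [isJacobsonRing_iff_prime_eq]
  intro P hP
  refine le_antisymm ?_ Ideal.le_jacobson
  intro f hf
  by_contra hfP
  obtain ⟨p, hp, hPp, hfp, hmax⟩ := exists_prime_maximal_notMem P f hfP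
  -- primes over `p` are maximal
  have hq : ∀ q : Ideal T, q.IsPrime → q.under R = p → q.IsMaximal := by
    intro q hqp hqu
    by_contra hnm
    have hqj : q.jacobson = q := (isJacobsonRing_iff_prime_eq.mp hT) q hqp
    have hfq : algebraMap R T f ∈ q := by
      rw [← hqj, Ideal.jacobson, Ideal.mem_sInf]
      rintro n ⟨hqn, hn⟩
      haveI := hn.isPrime
      have hne : q ≠ n := fun h => hnm (h ▸ hn)
      have hlt : p < n.under R := by
        refine lt_of_le_of_ne (hqu ▸ Ideal.comap_mono hqn) ?_
        intro h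
        exact hne (Algebra.QuasiFinite.eq_of_le_of_under_eq (R := R) q n hqn (hqu.trans h))
      exact hmax _ inferInstance hlt
    exact hfp (hqu ▸ hfq)
  -- `p` is maximal
  have hpm : p.IsMaximal := by
    obtain ⟨m', hm', hpm'⟩ := Ideal.exists_le_maximal p hp.ne_top
    haveI := hm'.isPrime
    obtain ⟨q', hq'⟩ := PrimeSpectrum.comap_surjective_of_faithfullyFlat (A := R) (B := T)
      ⟨m', hm'.isPrime⟩
    have hq'u : q'.asIdeal.under R = m' := congr(($hq').asIdeal)
    haveI : q'.asIdeal.LiesOver m' := ⟨hq'u.symm⟩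
    obtain ⟨q, hqq', hqp, hqo⟩ :=
      Ideal.exists_ideal_le_liesOver_of_le (p := p) (q := m') q'.asIdeal hpm'
    have hqm := hq q hqp hqo.over.symm
    have hqe : q = q'.asIdeal := hqm.eq_of_le q'.2.ne_top hqq'
    have : p = m' := by
      rw [hqo.over, hqe, hq'u]
    rw [this]; exact hm'
  exact hfp ((Ideal.mem_sInf.mp hf) ⟨hPp, hpm⟩)

/-- S1147. -/
theorem main1147 (A B : Type u) [CommRing A] [CommRing B] [Algebra A B]
    [Module.FaithfullyFlat A B] [Algebra.FinitePresentation A B] [IsJacobsonRing B] :
    IsJacobsonRing A := by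
  obtain ⟨T, _, _, hqf, hft, hff, hfp, ⟨ψ⟩⟩ := exists_qf A B
  letI : Algebra B T := ψ.toRingHom.toAlgebra
  haveI : IsScalarTower A B T := IsScalarTower.of_algebraMap_eq fun a => (ψ.commutes a).symm
  haveI : Algebra.FiniteType B T := Algebra.FiniteType.of_restrictScalars_finiteType A B T
  haveI : IsJacobsonRing T := isJacobsonRing_of_finiteType (A := B) (B := T)
  exact isJacobsonRing_of_qf A T

end Groth.Agent.Lib.R2H4.JacDesc
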