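import Mathlib
import Groth.Prelude
import Groth.Agent.Lib.R2H4Snapper
import Groth.Agent.Lib.R2H2KcohLoc
import Groth.Agent.Lib.R2H2K0Gen
import Groth.Agent.Lib.R2H1SkyDecomp
import Groth.Agent.Lib.R2H1DegTensor
import Groth.Agent.Lib.R2H2PnHilbPoly

/-!
# Tensoring with a locally free module of rank `e` is multiplication by `e` on the graded pieces
of the dimension filtration of `K'_0` (helper4, round 2)
-/

set_option autoImplicit false
set_option linter.style.haveILetI false
universe u
open CategoryTheory CategoryTheory.Limits AlgebraicGeometry TopologicalSpace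
open KZero

noncomputable section

namespace Groth.Agent.Lib.R2H4K0Tensor

open Groth.Agent.Lib.R2H2.StalkPow Groth.Agent.Lib.R2H2.DevA Groth.Agent.Lib.R2H2.K0Gen
  Groth.Agent.Lib.R2H4Snapper Groth.Agent.Lib.R2H4TensorPows

variable {X : Scheme.{u}}

/-- the class of coherent modules -/
abbrev PC (X : Scheme.{u}) : ObjectProperty X.Modules := fun M : X.Modules => Coh.IsCoh M

theorem hz : ∀ Z : X.Modules, IsZero Z → PC X Z :=
  fun _ h => Groth.Agent.Lib.R2H2.KcohLoc.isCoh_of_isZero h

/-- `[N] = [H] - [ker p] + [coker p]` -/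
theorem clSub_four [IsNoetherian X] {H N : X.Modules} (hH : Coh.IsCoh H) (hN : Coh.IsCoh N)
    (p : H ⟶ N) :
    clSub (PC X) N = clSub (PC X) H - clSub (PC X) (kernel p) + clSub (PC X) (cokernel p) := by
  have cK : Coh.IsCoh (kernel p) := Groth.Agent.Lib.R2H2.PdSheaf.isCoh_kernel hH hN p
  have cC : Coh.IsCoh (cokernel p) := Groth.Agent.Lib.R2H2.NilFilt.isCoh_cokernel hH hN p
  have cI : Coh.IsCoh (Abelian.image p) :=
    Groth.Agent.Lib.R2H2.PdSheaf.isCoh_kernel hN cC (cokernel.π p)
  let S₁ : ShortComplex X.Modules :=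
    ShortComplex.mk (kernel.ι p) (Abelian.factorThruImage p) (by
      rw [← cancel_mono (Abelian.image.ι p), Category.assoc, Abelian.image.fac,
        kernel.condition, zero_comp])
  have hS₁ : S₁.ShortExact :=
    Groth.Agent.Lib.R2H2.PdSheaf.shortExact_of_factor (kernel.ι p) p (kernel.condition p)
      (kernelIsKernel p) (Abelian.factorThruImage p) (Abelian.image.ι p)
      (Abelian.image.fac p) _
  let S₂ : ShortComplex X.Modules :=
    ShortComplex.mk (Abelian.image.ι p) (cokernel.π p) (kernel.condition (cokernel.π p))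
  have hS₂ : S₂.ShortExact :=
    { exact := ShortComplex.exact_kernel (cokernel.π p)
      mono_f := inferInstanceAs (Mono (kernel.ι (cokernel.π p)))
      epi_g := inferInstanceAs (Epi (cokernel.π p)) }
  have h₁ : clSub (PC X) H = clSub (PC X) (kernel p) + clSub (PC X) (Abelian.image p) :=
    clSub_shortExact (PC X) S₁ hS₁ cK hH cI
  have h₂ : clSub (PC X) N = clSub (PC X) (Abelian.image p) + clSub (PC X) (cokernel p) :=
    clSub_shortExact (PC X) S₂ hS₂ cI hN cC
  rw [h₁, h₂]
  abel

theorem support_coprod_const (G : X.Modules) :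
    ∀ b : ℕ, CohB1.support (∐ fun _ : Fin b => G) ⊆ CohB1.support G
  | 0 => by
    have h0 : IsZero (∐ fun _ : Fin 0 => G) := by
      rw [IsZero.iff_id_eq_zero]
      exact Limits.Sigma.hom_ext _ _ (fun j => Fin.elim0 j)
    rw [support_of_isZero h0]
    exact Set.empty_subset _
  | b + 1 => by
    obtain ⟨f, g, w, hS⟩ := shortExact_coprod_succ G b
    intro x hx
    by_contra hG
    apply hx
    have hG' : Subsingleton (G.presheaf.stalk x) := by
      by_contra h
      exact hG h
    have hb : Subsingleton ((∐ fun _ : Fin b => G).presheaf.stalk x) := by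
      by_contra h
      exact hG (support_coprod_const G b h)
    exact (Groth.Agent.Lib.Helper20.StalkExact.subsingleton_stalk_iff _ hS x).2 ⟨hb, hG'⟩

/-- the subgroup of `K'_0(X)` generated by the classes of coherent modules with support of
dimension `< r` -/
def Klt (X : Scheme.{u}) (r : ℕ) : AddSubgroup (K0sub (PC X)) :=
  AddSubgroup.closure {x : K0sub (PC X) |
    ∃ G : X.Modules, Coh.IsCoh G ∧ topologicalKrullDim (CohB1.support G) < r ∧
      x = clSub (PC X) G}

/-- `[E ⊗ G] - e [G]` -/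
def pp (E : X.Modules) (e : ℕ) (G : X.Modules) : K0sub (PC X) :=
  clSub (PC X) (CohB1.tensorMod E G) - e • clSub (PC X) G

attribute [local instance] Abelian.hasFiniteBiproducts

theorem support_tensor_subset' (E G : X.Modules) (Z : Set X) (hZ : IsClosed Z)
    (sG : CohB1.support G ⊆ Z) : CohB1.support (CohB1.tensorMod E G) ⊆ Z := by
  intro x hx
  by_contra hxZ
  apply hx
  rw [Groth.Agent.Lib.H6xSuppPush.support_eq_of_iso (tComm E G)] at hx
  have := Groth.Agent.Lib.R2H1.SkyDecomp.stalk_tensor_subsingleton G E Z hZ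
    (fun x hx => by
      by_contra h
      exact hx (sG h)) x hxZ
  exact absurd this hx

/-- **S7763**: `[E ⊗ F] - e [F]` lies in the subgroup generated by classes of smaller dimension -/
theorem main [IsNoetherian X] (E : X.Modules) (e : ℕ) (hE : FlatMod.IsFinLocFreeOfRank e E)
    (F : X.Modules) (hF : Coh.IsCoh F) (r : ℕ)
    (hr : topologicalKrullDim (CohB1.support F) ≤ r) :
    pp E e F ∈ Klt X r := by
  set H := Klt X r with hH
  have hEc : Coh.IsCoh E := Groth.Agent.Lib.R2H1.DegTensor.isCoh_of_rank' hE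
  have hfl := Groth.Agent.Lib.R2H2.PullLF.isFlat_of_isFinLocFree E
    (Groth.Agent.Lib.R2H1.DegTensor.isFinLocFree_of_rank' hE)
  have hcl : IsClosed (CohB1.support F) := Groth.Agent.S0020.result X F hF.2
  have cT : ∀ G : X.Modules, Coh.IsCoh G → Coh.IsCoh (CohB1.tensorMod E G) := fun G cG =>
    Groth.Agent.Lib.R2H4SSDescent.isCoh_tensorMod _ _ hEc cG
  refine Groth.Agent.Lib.R2H2.DevC.devissage (fun G => pp E e G ∈ H) ?_ (CohB1.support F) hcl
    (fun s => s = 1) ?_ ?_ ?_ F hF subset_rfl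
  · intro M hM
    have hEM : IsZero (CohB1.tensorMod E M) := (DCoh.tensorBi.obj E).map_isZero hM
    unfold pp
    rw [clSub_of_isZero (PC X) hEM (hz _ hEM), clSub_of_isZero (PC X) hM (hz _ hM), smul_zero,
      sub_zero]
    exact H.zero_mem
  · intro S hS c₁ c₂ c₃ _
    have t := Groth.Agent.Lib.R2Lead.TensorExact.shortExact_map_tensorBi E (fun x => hfl x) S hS
    have e1 : clSub (PC X) (CohB1.tensorMod E S.X₂) =
        clSub (PC X) (CohB1.tensorMod E S.X₁) + clSub (PC X) (CohB1.tensorMod E S.X₃) :=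
      clSub_shortExact (PC X) _ t (cT _ c₁) (cT _ c₂) (cT _ c₃)
    have e2 := clSub_shortExact (PC X) S hS c₁ c₂ c₃
    have key : pp E e S.X₂ = pp E e S.X₁ + pp E e S.X₃ := by
      unfold pp
      rw [e1, e2, smul_add]
      abel
    refine ⟨fun h₁ h₂ => ?_, fun h₁ h₃ => ?_, fun h₂ h₃ => ?_⟩
    · have : pp E e S.X₃ = pp E e S.X₂ - pp E e S.X₁ := by rw [key]; abel
      rw [this]; exact H.sub_mem h₂ h₁
    · rw [key]; exact H.add_mem h₁ h₃
    · have : pp E e S.X₁ = pp E e S.X₂ - pp E e S.X₃ := by rw [key]; abel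
      rw [this]; exact H.sub_mem h₂ h₃
  · intro F' s cF' hs hp
    subst hs
    have c1 : Coh.IsCoh (pow F' 1) := isCoh_pow F' cF' 1
    have h1 : clSub (PC X) (pow F' 1) = clSub (PC X) F' :=
      clSub_of_iso (PC X) hz (powOneIso F') c1 cF'
    have h2 : clSub (PC X) (CohB1.tensorMod E (pow F' 1)) = clSub (PC X) (CohB1.tensorMod E F') :=
      clSub_of_iso (PC X) hz ((DCoh.tensorBi.obj E).mapIso (powOneIso F')) (cT _ c1) (cT _ cF')
    unfold pp at hp ⊢
    rw [h1, h2] at hp
    exact hp
  · intro Z hZ hirr hZF y hy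
    obtain ⟨W, i, hi, hW, hrange, hgen⟩ :=
      Groth.Agent.Lib.R2H2.DevD.exists_integral_closed Z hZ hirr y hy
    subst hgen
    set G := (Scheme.Modules.pushforward i).obj (Coh.structureModule W) with hG
    have cG : Coh.IsCoh G := Groth.Agent.Lib.R2H2.DevE.isCoh_pushO i
    have sG : CohB1.support G ⊆ Z := hrange ▸ Groth.Agent.Lib.R2H2.DevE.support_push_subset i _
    have hdimZ : topologicalKrullDim Z ≤ ((r : ℕ) : WithBot ℕ∞) :=
      (Groth.Agent.Lib.Helper8.Conn.dim_mono hZF).trans hr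
    have hyZ : i (genericPoint W) ∈ Z := hy ▸ subset_closure rfl
    have hPG : pp E e G ∈ H := by
      set M := CohB1.tensorMod E G with hM
      have cM : Coh.IsCoh M := cT G cG
      have sM : CohB1.support M ⊆ Z := support_tensor_subset' E G Z hZ sG
      set M₂ : X.Modules := ∐ fun _ : Fin e => G with hM₂
      have cM₂ : Coh.IsCoh M₂ := Groth.Agent.Lib.R2H2.PnHilbPoly.isCoh_coprod_const G cG e
      have sM₂ : CohB1.support M₂ ⊆ Z := (support_coprod_const G e).trans sG
      obtain ⟨U, hyU, ⟨e₀⟩⟩ := hE (i (genericPoint W))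
      haveI : PreservesColimitsOfSize.{0, 0} (Scheme.Modules.restrictFunctor U.ι) :=
        (Scheme.Modules.restrictAdjunction U.ι).leftAdjoint_preservesColimits
      let eU : (Scheme.Modules.restrictFunctor U.ι).obj M ≅
          (Scheme.Modules.restrictFunctor U.ι).obj M₂ :=
        (Scheme.Modules.restrictFunctor U.ι).mapIso (tComm E G) ≪≫
          Groth.Agent.Lib.R2H1.SkyDecomp.restrictTensorFreeIso G E U e e₀ ≪≫
          biproduct.isoCoproduct _ ≪≫
          (PreservesCoproduct.iso (Scheme.Modules.restrictFunctor U.ι) (fun _ : Fin e => G)).symm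
      obtain ⟨Γ, ψ, hψ, cΓ, hp₁, hp₂⟩ :=
        Groth.Agent.Lib.R2H2.DevB.exists_graph' U.ι M M₂ cM cM₂ eU
      have sΓ : CohB1.support Γ ⊆ Z :=
        (support_subset_of_mono ψ).trans ((support_biprod M M₂).trans (Set.union_subset sM sM₂))
      have hsmall : ∀ T : X.Modules, Coh.IsCoh T → CohB1.support T ⊆ Z \ (U : Set X) →
          clSub (PC X) T ∈ H := by
        intro T cT' sT
        refine AddSubgroup.subset_closure ⟨T, cT', ?_, rfl⟩
        have hclZU : IsClosed (Z \ (U : Set X)) := hZ.sdiff U.2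
        have hne : Z \ (U : Set X) ≠ Z := fun h => by
          have : i (genericPoint W) ∈ Z \ (U : Set X) := by rw [h]; exact hyZ
          exact this.2 hyU
        have hfin : topologicalKrullDim Z < ⊤ := by
          refine lt_of_le_of_lt hdimZ ?_
          change (((r : ℕ) : ℕ∞) : WithBot ℕ∞) < ((⊤ : ℕ∞) : WithBot ℕ∞)
          exact WithBot.coe_lt_coe.2 (ENat.natCast_lt_top r)
        have h1 := Groth.Agent.Lib.Helper8.Conn.dim_lt_of_proper_closed hirr hclZU
          Set.sdiff_subset hne hfin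
        exact lt_of_le_of_lt (Groth.Agent.Lib.Helper8.Conn.dim_mono sT) (lt_of_lt_of_le h1 hdimZ)
      have k₁ := hsmall (kernel (ψ ≫ biprod.fst))
        (Groth.Agent.Lib.R2H2.PdSheaf.isCoh_kernel cΓ cM _)
        ((support_kernel_subset _ U hp₁).trans (Set.sdiff_subset_sdiff_left sΓ))
      have c₁ := hsmall (cokernel (ψ ≫ biprod.fst))
        (Groth.Agent.Lib.R2H2.NilFilt.isCoh_cokernel cΓ cM _)
        ((support_cokernel_subset _ U hp₁).trans (Set.sdiff_subset_sdiff_left sM))
      have k₂ := hsmall (kernel (ψ ≫ biprod.snd))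
        (Groth.Agent.Lib.R2H2.PdSheaf.isCoh_kernel cΓ cM₂ _)
        ((support_kernel_subset _ U hp₂).trans (Set.sdiff_subset_sdiff_left sΓ))
      have c₂ := hsmall (cokernel (ψ ≫ biprod.snd))
        (Groth.Agent.Lib.R2H2.NilFilt.isCoh_cokernel cΓ cM₂ _)
        ((support_cokernel_subset _ U hp₂).trans (Set.sdiff_subset_sdiff_left sM₂))
      have f1 := clSub_four cΓ cM (ψ ≫ biprod.fst)
      have f2 := clSub_four cΓ cM₂ (ψ ≫ biprod.snd)
      have hcl₂ : clSub (PC X) M₂ = e • clSub (PC X) G :=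
        clSub_coprod_const (PC X) hz G cG
          (fun b => Groth.Agent.Lib.R2H2.PnHilbPoly.isCoh_coprod_const G cG b) e
      unfold pp
      rw [← hcl₂, f1, f2]
      have hab : ∀ a b c b' c' : K0sub (PC X), (a - b + c) - (a - b' + c') = (c - b) - (c' - b') := by
        intro a b c b' c'
        abel
      rw [hab]
      exact H.sub_mem (H.sub_mem c₁ k₁) (H.sub_mem c₂ k₂)
    refine ⟨G, cG, hPG, sG, ?_⟩
    intro N _ _ _ hk
    obtain ⟨eN⟩ := Groth.Agent.Lib.R2H2.DevI.nonempty_stalk_pushO_equiv' i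
    obtain ⟨r', ⟨e'⟩⟩ := Groth.Agent.Lib.R2H2.ResField.exists_equiv_pow_one N _ hk eN
    exact ⟨r', 1, rfl, ⟨LinearEquiv.funUnique (Fin 1) _ N ≪≫ₗ e'⟩⟩

end Groth.Agent.Lib.R2H4K0Tensor
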