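import Mathlib
import Groth.Prelude
import Groth.Agent.Lib.R2H4K0Tensor
import Groth.Agent.Lib.R2H4SnapperRef
import Groth.Agent.Lib.Helper17K0a

/-!
# The dimension filtration of `K_0(Coh X)`, `X` Noetherian (helper4, round 2)

* `mem_of_gen` : a subgroup of `K_0(Coh X)` containing the classes `[O_{Z(y)}]` of the reduced
  closures of the points `y` with `closure {y} ⊆ Y'` contains the class of every coherent module
  supported in `Y'` (dévissage).
* `refinedK` : `[F] ≡ Σ_ξ length(F_ξ) [O_{Z(ξ)}]` modulo classes of smaller-dimensional support, the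
  sum over the points `ξ` with `dim closure {ξ} = n`, for `F` coherent with `dim Supp F ≤ n`.
-/

set_option autoImplicit false
set_option linter.style.haveILetI false
set_option linter.unusedSectionVars false
universe u
open CategoryTheory CategoryTheory.Limits AlgebraicGeometry TopologicalSpace
open KZero

noncomputable section

namespace Groth.Agent.Lib.R2H4K0Filt

open Groth.Agent.Lib.R2H2.StalkPow Groth.Agent.Lib.R2H2.DevA Groth.Agent.Lib.R2H2.K0Gen
  Groth.Agent.Lib.R2H4K0Tensor Groth.Agent.Lib.R2H4SnapperRef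

variable {X : Scheme.{u}} [IsNoetherian X]

/-- `O_{Z(ξ)}` as an `O_X`-module -/
abbrev Q (ξ : X) : X.Modules := ClSub.quotMod (zI ξ)

theorem isCoh_Q (ξ : X) : Coh.IsCoh (Q ξ) :=
  Groth.Agent.Lib.R2H2.DevE.isCoh_pushO (zI ξ).subschemeι

theorem two_of_three (H : AddSubgroup (K0sub (PC X))) (f : X.Modules → K0sub (PC X))
    (S : ShortComplex X.Modules) (hf : f S.X₂ = f S.X₁ + f S.X₃) :
    (f S.X₁ ∈ H → f S.X₂ ∈ H → f S.X₃ ∈ H) ∧ (f S.X₁ ∈ H → f S.X₃ ∈ H → f S.X₂ ∈ H) ∧
      (f S.X₂ ∈ H → f S.X₃ ∈ H → f S.X₁ ∈ H) := by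
  refine ⟨fun h₁ h₂ => ?_, fun h₁ h₃ => ?_, fun h₂ h₃ => ?_⟩
  · have : f S.X₃ = f S.X₂ - f S.X₁ := by rw [hf]; abel
    rw [this]; exact H.sub_mem h₂ h₁
  · rw [hf]; exact H.add_mem h₁ h₃
  · have : f S.X₁ = f S.X₂ - f S.X₃ := by rw [hf]; abel
    rw [this]; exact H.sub_mem h₂ h₃

/-- the generic step of the dévissage for `O_{Z(y)}` -/
theorem gen_step (y : X) (N : Type u) [AddCommGroup N] [Module (X.presheaf.stalk y) N]
    [Module.Finite (X.presheaf.stalk y) N]
    (hk : ∀ a ∈ IsLocalRing.maximalIdeal (X.presheaf.stalk y), ∀ n : N, a • n = 0) :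
    ∃ r s : ℕ, s = 1 ∧
      Nonempty ((Fin s → N) ≃ₗ[X.presheaf.stalk y] (Fin r → (Q y).presheaf.stalk y)) := by
  haveI := isIntegral_zS y
  have hgp := zι_genericPoint y
  obtain ⟨eN⟩ := Groth.Agent.Lib.R2H2.DevI.nonempty_stalk_pushO_equiv' (zI y).subschemeι
  rw [hgp] at eN
  obtain ⟨r', ⟨e⟩⟩ := Groth.Agent.Lib.R2H2.ResField.exists_equiv_pow_one N _ hk eN
  exact ⟨r', 1, rfl, ⟨LinearEquiv.funUnique (Fin 1) _ N ≪≫ₗ e⟩⟩

/-- generation of the classes of the modules supported in a closed subset -/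
theorem mem_of_gen (H : AddSubgroup (K0sub (PC X))) (Y' : Set X) (hY' : IsClosed Y')
    (hgen : ∀ y : X, closure ({y} : Set X) ⊆ Y' → clSub (PC X) (Q y) ∈ H)
    (G : X.Modules) (cG : Coh.IsCoh G) (sG : CohB1.support G ⊆ Y') : clSub (PC X) G ∈ H := by
  refine Groth.Agent.Lib.R2H2.DevC.devissage (fun G => clSub (PC X) G ∈ H) ?_ Y' hY'
    (fun s => s = 1) ?_ ?_ ?_ G cG sG
  · intro M hM
    rw [clSub_of_isZero (PC X) hM (hz _ hM)]
    exact H.zero_mem
  · intro S hS c₁ c₂ c₃ _
    exact two_of_three H (fun M => clSub (PC X) M) S (clSub_shortExact (PC X) S hS c₁ c₂ c₃)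
  · intro F' s cF' hs hp
    subst hs
    have c1 : Coh.IsCoh (pow F' 1) := isCoh_pow F' cF' 1
    rw [← clSub_of_iso (PC X) hz (powOneIso F') c1 cF']
    exact hp
  · intro Z hZ hirr hZY y hy
    exact ⟨Q y, isCoh_Q y, hgen y (hy ▸ hZY), hy ▸ support_quotMod_zI y, fun N _ _ _ hk =>
      gen_step y N hk⟩

variable (n : ℕ)

/-- the main term `Σ_ξ length(F_ξ) [O_{Z(ξ)}]` -/
def MTK (F : X.Modules) : K0sub (PC X) :=
  ∑ᶠ ξ : X, (lam n F ξ).toNat • clSub (PC X) (Q ξ)

theorem MTK_congr {M N : X.Modules} (e : M ≅ N) : MTK n M = MTK n N := by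
  unfold MTK
  refine finsum_congr fun ξ => ?_
  rw [lam_congr n e ξ]

theorem MTK_add (S : ShortComplex X.Modules) (hS : S.ShortExact) (h₁ : Cfin n S.X₁)
    (h₃ : Cfin n S.X₃) : MTK n S.X₂ = MTK n S.X₁ + MTK n S.X₃ := by
  unfold MTK
  have hf : ∀ (F : X.Modules), Cfin n F → Function.HasFiniteSupport
      (fun ξ : X => (lam n F ξ).toNat • clSub (PC X) (Q ξ)) := by
    intro F hF
    refine hF.1.subset fun ξ hξ => ?_
    rw [Function.mem_support] at hξ ⊢
    intro h0
    apply hξ
    rw [h0]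
    simp
  rw [← finsum_add_distrib (hf _ h₁) (hf _ h₃)]
  refine finsum_congr fun ξ => ?_
  rw [lam_add n S hS ξ, ENat.toNat_add (h₁.2 ξ) (h₃.2 ξ), add_smul]

theorem lam_of_isZero (M : X.Modules) (hM : IsZero M) (ξ : X) : lam n M ξ = 0 := by
  unfold lam
  split_ifs
  · apply lenE_eq_zero
    rw [support_of_isZero hM]
    exact Set.notMem_empty ξ
  · rfl

theorem MTK_of_isZero (M : X.Modules) (hM : IsZero M) : MTK n M = 0 := by
  unfold MTK
  refine finsum_eq_zero_of_forall_eq_zero fun ξ => ?_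
  rw [lam_of_isZero n M hM ξ]
  simp

/-- the property proved by dévissage -/
def PPK (F : X.Modules) : Prop :=
  Cfin n F ∧ clSub (PC X) F - MTK n F ∈ Klt X n

theorem PPK_Q (y : X)
    (hdim : topologicalKrullDim (closure ({y} : Set X)) ≤ ((n : ℕ) : WithBot ℕ∞)) :
    PPK n (Q y) := by
  set G := Q y with hG
  have cG : Coh.IsCoh G := isCoh_Q y
  have sG : CohB1.support G ⊆ closure ({y} : Set X) := support_quotMod_zI y
  have hpt : ∀ ξ : X, lam n G ξ ≠ 0 →
      topologicalKrullDim (closure ({y} : Set X)) = ((n : ℕ) : WithBot ℕ∞) ∧ ξ = y := by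
    intro ξ hξ
    unfold lam at hξ
    split_ifs at hξ with hdξ
    swap
    · exact absurd rfl hξ
    have hmem : ξ ∈ CohB1.support G := by
      by_contra hcon
      exact hξ (lenE_eq_zero G ξ hcon)
    have hsub : closure ({ξ} : Set X) ⊆ closure ({y} : Set X) :=
      isClosed_closure.closure_subset_iff.2 (Set.singleton_subset_iff.2 (sG hmem))
    have hle := Groth.Agent.Lib.Helper8.Conn.dim_mono hsub
    rw [hdξ] at hle
    have heq : topologicalKrullDim (closure ({y} : Set X)) = ((n : ℕ) : WithBot ℕ∞) :=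
      le_antisymm hdim hle
    refine ⟨heq, ?_⟩
    by_contra hne
    have hne' : closure ({ξ} : Set X) ≠ closure ({y} : Set X) := fun h =>
      hne ((inseparable_iff_closure_eq.2 h).eq)
    have hfin : topologicalKrullDim (closure ({y} : Set X)) < ⊤ := by
      rw [heq]
      change (((n : ℕ) : ℕ∞) : WithBot ℕ∞) < ((⊤ : ℕ∞) : WithBot ℕ∞)
      exact WithBot.coe_lt_coe.2 (ENat.natCast_lt_top n)
    have hlt := Groth.Agent.Lib.Helper8.Conn.dim_lt_of_proper_closed
      (isIrreducible_singleton.closure) isClosed_closure hsub hne' hfin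
    rw [hdξ, heq] at hlt
    exact lt_irrefl _ hlt
  by_cases hd : topologicalKrullDim (closure ({y} : Set X)) = ((n : ℕ) : WithBot ℕ∞)
  · have hlamy : lam n G y = 1 := by
      unfold lam
      rw [if_pos hd]
      exact lenE_quotMod_zI y
    have hsupp : Function.support (lam n G) ⊆ {y} := fun ξ hξ => (hpt ξ hξ).2
    refine ⟨⟨(Set.finite_singleton y).subset hsupp, fun ξ => ?_⟩, ?_⟩
    · by_cases hξ : lam n G ξ = 0
      · rw [hξ]; exact ENat.zero_ne_top
      · rw [(hpt ξ hξ).2, hlamy]; exact ENat.one_ne_top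
    · have : MTK n G = clSub (PC X) G := by
        unfold MTK
        rw [finsum_eq_single _ y, hlamy]
        · rw [ENat.toNat_one, one_smul]
        · intro ξ hξ
          have : lam n G ξ = 0 := by
            by_contra h
            exact hξ (hpt ξ h).2
          rw [this]
          simp
      rw [this, sub_self]
      exact (Klt X n).zero_mem
  · have hzero : ∀ ξ, lam n G ξ = 0 := fun ξ => by
      by_contra h
      exact hd (hpt ξ h).1
    have hlt : topologicalKrullDim (CohB1.support G) < ((n : ℕ) : WithBot ℕ∞) :=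
      lt_of_le_of_lt (Groth.Agent.Lib.Helper8.Conn.dim_mono sG) (lt_of_le_of_ne hdim hd)
    refine ⟨⟨?_, fun ξ => by rw [hzero ξ]; exact ENat.zero_ne_top⟩, ?_⟩
    · have : lam n G = fun _ => 0 := funext hzero
      rw [this]
      simp
    · have : MTK n G = 0 := by
        unfold MTK
        exact finsum_eq_zero_of_forall_eq_zero fun ξ => by rw [hzero ξ]; simp
      rw [this, sub_zero]
      exact AddSubgroup.subset_closure ⟨G, cG, hlt, rfl⟩

/-- `[F] ≡ Σ_ξ length(F_ξ) [O_{Z(ξ)}]` modulo classes with support of dimension `< n` -/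
theorem refinedK (F : X.Modules) (hF : Coh.IsCoh F)
    (hdim : topologicalKrullDim (CohB1.support F) ≤ ((n : ℕ) : WithBot ℕ∞)) :
    PPK n F := by
  have hcl : IsClosed (CohB1.support F) := Groth.Agent.S0020.result X F hF.2
  refine Groth.Agent.Lib.R2H2.DevC.devissage (fun F => PPK n F)
    (fun M hM => ⟨cfin_of_isZero n M hM, by
      rw [clSub_of_isZero (PC X) hM (hz _ hM), MTK_of_isZero n M hM, sub_zero]
      exact (Klt X n).zero_mem⟩)
    (CohB1.support F) hcl (fun s => s = 1) ?_ ?_ ?_ F hF subset_rfl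
  · intro S hS c₁ c₂ c₃ _
    have hcl' := clSub_shortExact (PC X) S hS c₁ c₂ c₃
    have hC := cfin_iff n S hS
    refine ⟨fun p₁ p₂ => ?_, fun p₁ p₃ => ?_, fun p₂ p₃ => ?_⟩
    · have h3 := (hC.1 p₂.1).2
      refine ⟨h3, ?_⟩
      have : clSub (PC X) S.X₃ - MTK n S.X₃ =
          (clSub (PC X) S.X₂ - MTK n S.X₂) - (clSub (PC X) S.X₁ - MTK n S.X₁) := by
        rw [hcl', MTK_add n S hS p₁.1 h3]
        abel
      rw [this]
      exact (Klt X n).sub_mem p₂.2 p₁.2
    · refine ⟨hC.2 ⟨p₁.1, p₃.1⟩, ?_⟩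
      have : clSub (PC X) S.X₂ - MTK n S.X₂ =
          (clSub (PC X) S.X₁ - MTK n S.X₁) + (clSub (PC X) S.X₃ - MTK n S.X₃) := by
        rw [hcl', MTK_add n S hS p₁.1 p₃.1]
        abel
      rw [this]
      exact (Klt X n).add_mem p₁.2 p₃.2
    · have h1 := (hC.1 p₂.1).1
      refine ⟨h1, ?_⟩
      have : clSub (PC X) S.X₁ - MTK n S.X₁ =
          (clSub (PC X) S.X₂ - MTK n S.X₂) - (clSub (PC X) S.X₃ - MTK n S.X₃) := by
        rw [hcl', MTK_add n S hS h1 p₃.1]
        abel
      rw [this]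
      exact (Klt X n).sub_mem p₂.2 p₃.2
  · intro F s cF hs hp
    subst hs
    have e := powOneIso F
    have c1 : Coh.IsCoh (pow F 1) := isCoh_pow F cF 1
    refine ⟨cfin_congr n e hp.1, ?_⟩
    rw [← clSub_of_iso (PC X) hz e c1 cF, ← MTK_congr n e]
    exact hp.2
  · intro Z hZ hirr hZF y hy
    have hdimZ : topologicalKrullDim (closure ({y} : Set X)) ≤ ((n : ℕ) : WithBot ℕ∞) := by
      rw [hy]
      exact (Groth.Agent.Lib.Helper8.Conn.dim_mono hZF).trans hdim
    exact ⟨Q y, isCoh_Q y, PPK_Q n y hdimZ, hy ▸ support_quotMod_zI y, fun N _ _ _ hk =>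
      gen_step y N hk⟩

theorem css_eq (x : X) : Cyc.closureStructureSheaf x = Q x := rfl

/-- S5643 -/
theorem s5643 :
    AddSubgroup.closure {c : KZero.K0sub (fun M : X.Modules => Coh.IsCoh M) |
        ∃ G : X.Modules, Coh.IsCoh G ∧ topologicalKrullDim ↥(CohB1.support G) ≤ n ∧
          c = KZero.clSub (fun M : X.Modules => Coh.IsCoh M) G} =
      AddSubgroup.closure {c : KZero.K0sub (fun M : X.Modules => Coh.IsCoh M) |
        ∃ x : ↥X, topologicalKrullDim ↥(closure ({x} : Set ↥X)) ≤ n ∧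
          c = KZero.clSub (fun M : X.Modules => Coh.IsCoh M) (Cyc.closureStructureSheaf x)} := by
  apply le_antisymm
  · refine (AddSubgroup.closure_le _).2 ?_
    rintro c ⟨G, cG, hdim, rfl⟩
    have hcl : IsClosed (CohB1.support G) := Groth.Agent.S0020.result X G cG.2
    refine mem_of_gen _ (CohB1.support G) hcl ?_ G cG subset_rfl
    intro y hy
    exact AddSubgroup.subset_closure
      ⟨y, (Groth.Agent.Lib.Helper8.Conn.dim_mono hy).trans hdim, rfl⟩
  · refine (AddSubgroup.closure_le _).2 ?_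
    rintro c ⟨x, hdim, rfl⟩
    exact AddSubgroup.subset_closure ⟨Q x, isCoh_Q x,
      (Groth.Agent.Lib.Helper8.Conn.dim_mono (support_quotMod_zI x)).trans hdim, rfl⟩

/-- S5642 -/
theorem s5642 (F : X.Modules) (hF : Coh.IsCoh F)
    (hsupp : topologicalKrullDim ↥(CohB1.support F) ≤ n) :
    KZero.clSub (fun M : X.Modules => Coh.IsCoh M) F -
        (finsum fun x : ↥X => if topologicalKrullDim ↥(closure ({x} : Set ↥X)) = n then
          (Module.length (X.presheaf.stalk x) (F.presheaf.stalk x)).toNat •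
            KZero.clSub (fun M : X.Modules => Coh.IsCoh M) (Cyc.closureStructureSheaf x) else 0) ∈
      AddSubgroup.closure {c : KZero.K0sub (fun M : X.Modules => Coh.IsCoh M) |
        ∃ G : X.Modules, Coh.IsCoh G ∧ topologicalKrullDim ↥(CohB1.support G) < n ∧
          c = KZero.clSub (fun M : X.Modules => Coh.IsCoh M) G} := by
  have h := (refinedK n F hF hsupp).2
  have hsum : MTK n F = finsum fun x : ↥X =>
      if topologicalKrullDim ↥(closure ({x} : Set ↥X)) = n then
        (Module.length (X.presheaf.stalk x) (F.presheaf.stalk x)).toNat •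
          KZero.clSub (fun M : X.Modules => Coh.IsCoh M) (Cyc.closureStructureSheaf x) else 0 := by
    unfold MTK
    refine finsum_congr fun ξ => ?_
    unfold lam lenE
    split_ifs
    · rfl
    · simp
  rw [← hsum]
  exact h

end Groth.Agent.Lib.R2H4K0Filt
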