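import Mathlib
import Groth.Prelude.Def_KZero
import Groth.Agent.Lib.R2H2DevC
import Groth.Agent.Lib.R2H2ResField
import Groth.Agent.Lib.Helper17K0a
import Groth.Agent.Lib.H6xSuppPush
import Groth.Agent.Lib.R2H2KcohLoc

/-! K₀ of coherent modules with supports is generated by modules of generic length one
(dévissage `R2H2.DevC.devissage`), helper4 round 2. -/
set_option autoImplicit false
universe u
open CategoryTheory CategoryTheory.Limits AlgebraicGeometry ZeroObject
open KZero

namespace Groth.Agent.Lib.R2H4K0Gen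

open Groth.Agent.Lib.R2H2.StalkPow Groth.Agent.Lib.R2H2.DevA

variable {X : Scheme.{u}} [IsNoetherian X] (Y' : Set X)

/-- coherent modules with support in `Y'` -/
def PY : ObjectProperty X.Modules := fun G => Coh.IsCoh G ∧ CohB1.support G ⊆ Y'

instance : (PY Y').IsClosedUnderIsomorphisms where
  of_iso e h := ⟨Groth.Agent.Lib.R2H2.PdSheaf.isCoh_of_iso e h.1, by
    rw [← Groth.Agent.Lib.H6xSuppPush.support_eq_of_iso e]; exact h.2⟩

instance : (PY Y').ContainsZero where
  exists_zero := ⟨(0 : X.Modules), isZero_zero _,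
    Groth.Agent.Lib.R2H2.KcohLoc.isCoh_of_isZero (isZero_zero _), by
    rw [support_of_isZero (isZero_zero _)]; exact Set.empty_subset _⟩

theorem main (hY' : IsClosed Y') {ι : Type u} (F : ι → X.Modules)
    (hF : ∀ a : ι, Coh.IsCoh (F a) ∧ CohB1.support (F a) ⊆ Y')
    (hgen : ∀ (Z : Set X), IsClosed Z → IsIrreducible Z → Z ⊆ Y' → ∀ y : X, closure ({y} : Set X) = Z →
      ∃ a : ι, CohB1.support (F a) ⊆ Z ∧ Module.length (X.presheaf.stalk y) ((F a).presheaf.stalk y) = 1) :
    AddSubgroup.closure (Set.range fun a : ι => KZero.clSub (PY Y') (F a)) = ⊤ := by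
  set H := AddSubgroup.closure (Set.range fun a : ι => KZero.clSub (PY Y') (F a)) with hH
  have key : ∀ G : X.Modules, Coh.IsCoh G → CohB1.support G ⊆ Y' → clSub (PY Y') G ∈ H := by
    intro G cG sG
    refine Groth.Agent.Lib.R2H2.DevC.devissage (fun G => clSub (PY Y') G ∈ H) ?_ Y' hY'
      (fun s => s = 1) ?_ ?_ ?_ G cG sG
    · intro M hM
      rw [Groth.Agent.Lib.Helper17.K0a.clSub_of_isZero (PY Y') hM]
      exact H.zero_mem
    · intro S hS c₁ c₂ c₃ hs
      have := hS.mono_f
      have := hS.epi_g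
      have p₁ : PY Y' S.X₁ := ⟨c₁, (support_subset_of_mono S.f).trans hs⟩
      have p₂ : PY Y' S.X₂ := ⟨c₂, hs⟩
      have p₃ : PY Y' S.X₃ := ⟨c₃, (support_subset_of_epi S.g).trans hs⟩
      have e := Groth.Agent.Lib.Helper17.K0a.clSub_shortExact (PY Y') S hS p₁ p₂ p₃
      refine ⟨fun h₁ h₂ => ?_, fun h₁ h₃ => ?_, fun h₂ h₃ => ?_⟩
      · have : clSub (PY Y') S.X₃ = clSub (PY Y') S.X₂ - clSub (PY Y') S.X₁ := by rw [e]; abel
        rw [this]; exact H.sub_mem h₂ h₁
      · rw [e]; exact H.add_mem h₁ h₃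
      · have : clSub (PY Y') S.X₁ = clSub (PY Y') S.X₂ - clSub (PY Y') S.X₃ := by rw [e]; abel
        rw [this]; exact H.sub_mem h₂ h₃
    · intro F' s _ hs hp
      subst hs
      by_cases hF' : PY Y' F'
      · rw [Groth.Agent.Lib.Helper17.K0a.clSub_of_iso (PY Y') (powOneIso F').symm hF']
        exact hp
      · classical
        unfold clSub
        rw [dif_neg hF']
        exact H.zero_mem
    · intro Z hZ hirr hZY y hy
      obtain ⟨a, hsa, hlen⟩ := hgen Z hZ hirr hZY y hy
      refine ⟨F a, (hF a).1, AddSubgroup.subset_closure ⟨a, rfl⟩, hsa, ?_⟩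
      intro N _ _ _ hk
      obtain ⟨eN⟩ := Groth.Agent.Lib.R2H2.ResField.nonempty_equiv_residueField_of_length_eq_one
        ((F a).presheaf.stalk y) hlen
      obtain ⟨r', ⟨e⟩⟩ := Groth.Agent.Lib.R2H2.ResField.exists_equiv_pow_one N _ hk eN
      exact ⟨r', 1, rfl, ⟨LinearEquiv.funUnique (Fin 1) _ N ≪≫ₗ e⟩⟩
  rw [eq_top_iff]
  suffices all : ∀ x : K0sub (PY Y'), x ∈ H from fun x _ => all x
  intro x
  induction x using QuotientAddGroup.induction_on with
  | H z =>
    induction z using FreeAbelianGroup.induction_on with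
    | zero => exact H.zero_mem
    | of G =>
      obtain ⟨G, hG⟩ := G
      rw [← Groth.Agent.Lib.Helper17.K0a.clSub_of_prop (PY Y') hG]
      exact key G hG.1 hG.2
    | neg G ih =>
      rw [QuotientAddGroup.mk_neg]
      exact H.neg_mem ih
    | add a b iha ihb =>
      rw [QuotientAddGroup.mk_add]
      exact H.add_mem iha ihb

end Groth.Agent.Lib.R2H4K0Gen

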