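import Mathlib
import Groth.Prelude
import Groth.Agent.Lib.R2H4K0Tensor

/-!
# `[V] ⊗ (-) - r` is nilpotent on `K_0(Coh W)` for `V` locally free of rank `r` on a Noetherian
scheme `W` (helper4, round 2)

No finiteness of the Krull dimension is needed: if `V` is trivial on the members of a cover by `N`
opens, then `([V] ⊗ (-) - r)^N = 0`, because each application of the operator pushes the support
of a class off one more member of the cover (graph trick).
-/

set_option autoImplicit false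
set_option linter.style.haveILetI false
set_option linter.unusedSectionVars false
universe u
open CategoryTheory CategoryTheory.Limits AlgebraicGeometry TopologicalSpace
open KZero

noncomputable section

namespace Groth.Agent.Lib.R2H4K0Nilp

open Groth.Agent.Lib.R2H2.StalkPow Groth.Agent.Lib.R2H2.DevA Groth.Agent.Lib.R2H2.K0Gen
  Groth.Agent.Lib.R2H4Snapper Groth.Agent.Lib.R2H4TensorPows Groth.Agent.Lib.R2H4K0Tensor

variable {X : Scheme.{u}}

/-- subgroup of `K_0(Coh X)` generated by the classes of coherent modules supported in `Y` -/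
def KS (X : Scheme.{u}) (Y : Set X) : AddSubgroup (K0sub (PC X)) :=
  AddSubgroup.closure {x : K0sub (PC X) |
    ∃ G : X.Modules, Coh.IsCoh G ∧ CohB1.support G ⊆ Y ∧ x = clSub (PC X) G}

theorem KS_mono {Y Y' : Set X} (h : Y ⊆ Y') : KS X Y ≤ KS X Y' := by
  refine AddSubgroup.closure_mono ?_
  rintro x ⟨G, cG, sG, rfl⟩
  exact ⟨G, cG, sG.trans h, rfl⟩

theorem KS_empty : KS X (∅ : Set X) = ⊥ := by
  rw [eq_bot_iff]
  refine (AddSubgroup.closure_le _).2 ?_
  rintro x ⟨G, cG, sG, rfl⟩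
  have hz0 : IsZero G := isZero_of_support_subset_empty G sG
  rw [SetLike.mem_coe, AddSubgroup.mem_bot]
  exact clSub_of_isZero (PC X) hz0 (hz _ hz0)

theorem KS_univ [IsNoetherian X] (x : K0sub (PC X)) : x ∈ KS X (Set.univ : Set X) := by
  set H := KS X (Set.univ : Set X)
  induction x using QuotientAddGroup.induction_on with
  | H z =>
    induction z using FreeAbelianGroup.induction_on with
    | zero => exact H.zero_mem
    | of G =>
      obtain ⟨G, hG⟩ := G
      rw [← Groth.Agent.Lib.Helper17.K0a.clSub_of_prop (PC X) hG]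
      exact AddSubgroup.subset_closure ⟨G, hG, Set.subset_univ _, rfl⟩
    | neg G ih =>
      rw [QuotientAddGroup.mk_neg]
      exact H.neg_mem ih
    | add a b iha ihb =>
      rw [QuotientAddGroup.mk_add]
      exact H.add_mem iha ihb

attribute [local instance] Abelian.hasFiniteBiproducts

/-- graph trick: if `E` is free of rank `e` on `U`, then `[E ⊗ G] - e [G]` is a combination of
classes of coherent modules supported on `Supp G ∖ U` -/
theorem pp_mem [IsNoetherian X] (E : X.Modules) (e : ℕ) (hE : FlatMod.IsFinLocFreeOfRank e E)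
    (U : X.Opens) (e₀ : E.restrict U.ι ≅ FlatMod.freeMod (↑U) e)
    (Z : Set X) (hZ : IsClosed Z) (G : X.Modules) (cG : Coh.IsCoh G)
    (sG : CohB1.support G ⊆ Z) :
    pp E e G ∈ KS X (Z \ (U : Set X)) := by
  set H := KS X (Z \ (U : Set X)) with hH
  have hEc : Coh.IsCoh E := Groth.Agent.Lib.R2H1.DegTensor.isCoh_of_rank' hE
  set M := CohB1.tensorMod E G with hM
  have cM : Coh.IsCoh M := Groth.Agent.Lib.R2H4SSDescent.isCoh_tensorMod _ _ hEc cG
  have sM : CohB1.support M ⊆ Z := support_tensor_subset' E G Z hZ sG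
  set M₂ : X.Modules := ∐ fun _ : Fin e => G with hM₂
  have cM₂ : Coh.IsCoh M₂ := Groth.Agent.Lib.R2H2.PnHilbPoly.isCoh_coprod_const G cG e
  have sM₂ : CohB1.support M₂ ⊆ Z := (support_coprod_const G e).trans sG
  haveI : PreservesColimitsOfSize.{0, 0} (Scheme.Modules.restrictFunctor U.ι) :=
    (Scheme.Modules.restrictAdjunction U.ι).leftAdjoint_preservesColimits
  let eU : (Scheme.Modules.restrictFunctor U.ι).obj M ≅
      (Scheme.Modules.restrictFunctor U.ι).obj M₂ :=
    (Scheme.Modules.restrictFunctor U.ι).mapIso (tComm E G) ≪≫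
      Groth.Agent.Lib.R2H1.SkyDecomp.restrictTensorFreeIso G E U e e₀ ≪≫
      biproduct.isoCoproduct _ ≪≫
      (PreservesCoproduct.iso (Scheme.Modules.restrictFunctor U.ι) (fun _ : Fin e => G)).symm
  obtain ⟨Γ, ψ, hψ, cΓ, hp₁, hp₂⟩ :=
    Groth.Agent.Lib.R2H2.DevB.exists_graph' U.ι M M₂ cM cM₂ eU
  have sΓ : CohB1.support Γ ⊆ Z :=
    (support_subset_of_mono ψ).trans ((support_biprod M M₂).trans (Set.union_subset sM sM₂))
  have hsmall : ∀ T : X.Modules, Coh.IsCoh T → CohB1.support T ⊆ Z \ (U : Set X) →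
      clSub (PC X) T ∈ H := fun T cT' sT => AddSubgroup.subset_closure ⟨T, cT', sT, rfl⟩
  have k₁ := hsmall (kernel (ψ ≫ biprod.fst))
    (Groth.Agent.Lib.R2H2.PdSheaf.isCoh_kernel cΓ cM _)
    ((support_kernel_subset _ U hp₁).trans (Set.sdiff_subset_sdiff_left sΓ))
  have c₁ := hsmall (cokernel (ψ ≫ biprod.fst))
    (Groth.Agent.Lib.R2H2.NilFilt.isCoh_cokernel cΓ cM _)
    ((support_cokernel_subset _ U hp₁).trans (Set.sdiff_subset_sdiff_left sM))
  have k₂ := hsmall (kernel (ψ ≫ biprod.snd))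
    (Groth.Agent.Lib.R2H2.PdSheaf.isCoh_kernel cΓ cM₂ _)
    ((support_kernel_subset _ U hp₂).trans (Set.sdiff_subset_sdiff_left sΓ))
  have c₂ := hsmall (cokernel (ψ ≫ biprod.snd))
    (Groth.Agent.Lib.R2H2.NilFilt.isCoh_cokernel cΓ cM₂ _)
    ((support_cokernel_subset _ U hp₂).trans (Set.sdiff_subset_sdiff_left sM₂))
  have f1 := clSub_four cΓ cM (ψ ≫ biprod.fst)
  have f2 := clSub_four cΓ cM₂ (ψ ≫ biprod.snd)
  have hcl₂ : clSub (PC X) M₂ = e • clSub (PC X) G :=
    clSub_coprod_const (PC X) hz G cG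
      (fun b => Groth.Agent.Lib.R2H2.PnHilbPoly.isCoh_coprod_const G cG b) e
  unfold pp
  rw [← hcl₂, f1, f2]
  have hab : ∀ a b c b' c' : K0sub (PC X), (a - b + c) - (a - b' + c') = (c - b) - (c' - b') := by
    intro a b c b' c'
    abel
  rw [hab]
  exact H.sub_mem (H.sub_mem c₁ k₁) (H.sub_mem c₂ k₂)

section Nilp

variable [IsNoetherian X] (V : X.Modules) (r : ℕ)
  [((DCoh.tensorBi (X := X)).obj V).Additive]
  [PreservesFiniteLimits ((DCoh.tensorBi (X := X)).obj V)]
  [PreservesFiniteColimits ((DCoh.tensorBi (X := X)).obj V)]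
  (hVc : ∀ M : X.Modules, Coh.IsCoh M → Coh.IsCoh (((DCoh.tensorBi (X := X)).obj V).obj M))

/-- the operator `[V] ⊗ (-) - r` on `K_0(Coh X)` -/
def T : K0sub (PC X) →+ K0sub (PC X) :=
  SGA6.mapSub ((DCoh.tensorBi (X := X)).obj V) (PC X) (PC X) hVc -
    r • AddMonoidHom.id (K0sub (PC X))

theorem T_clSub (G : X.Modules) (cG : Coh.IsCoh G) :
    T V r hVc (clSub (PC X) G) = pp V r G := by
  unfold T pp
  rw [AddMonoidHom.sub_apply, Groth.Agent.Lib.R2H2.KcohLoc.mapSub_clSub_gen _ _ _ _ cG]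
  rfl

theorem T_mem (hV : FlatMod.IsFinLocFreeOfRank r V) (U : X.Opens)
    (e₀ : V.restrict U.ι ≅ FlatMod.freeMod (↑U) r) (Y : Set X) (hY : IsClosed Y)
    (y : K0sub (PC X)) (hy : y ∈ KS X Y) : T V r hVc y ∈ KS X (Y \ (U : Set X)) := by
  unfold KS at hy
  induction hy using AddSubgroup.closure_induction with
  | mem x hx =>
    obtain ⟨G, cG, sG, rfl⟩ := hx
    rw [T_clSub V r hVc G cG]
    exact pp_mem V r hV U e₀ Y hY G cG sG
  | zero => rw [map_zero]; exact (KS X _).zero_mem
  | add a b _ _ ha hb => rw [map_add]; exact (KS X _).add_mem ha hb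
  | neg a _ ha => rw [map_neg]; exact (KS X _).neg_mem ha

theorem iterate_mem (hV : FlatMod.IsFinLocFreeOfRank r V) (U : X → X.Opens)
    (e₀ : ∀ x : X, V.restrict (U x).ι ≅ FlatMod.freeMod (↑(U x)) r) (s : Finset X) :
    ∀ (Y : Set X), IsClosed Y → ∀ y : K0sub (PC X), y ∈ KS X Y →
      (⇑(T V r hVc))^[s.card] y ∈ KS X (Y \ ⋃ x ∈ s, ((U x : X.Opens) : Set X)) := by
  classical
  induction s using Finset.induction_on with
  | empty =>
    intro Y _ y hy
    simpa using hy
  | insert a s ha ih =>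
    intro Y hY y hy
    rw [Finset.card_insert_of_notMem ha, Function.iterate_succ_apply]
    have h1 := T_mem V r hVc hV (U a) (e₀ a) Y hY y hy
    have h2 := ih (Y \ ((U a : X.Opens) : Set X)) (hY.sdiff (U a).2) _ h1
    refine KS_mono ?_ h2
    rintro z ⟨⟨hzY, hza⟩, hzs⟩
    refine ⟨hzY, ?_⟩
    intro hz
    rw [Finset.set_biUnion_insert] at hz
    rcases hz with hz | hz
    · exact hza hz
    · exact hzs hz

theorem main (hV : FlatMod.IsFinLocFreeOfRank r V) :
    ∃ n : ℕ, ∀ y : K0sub (PC X), (⇑(T V r hVc))^[n] y = 0 := by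
  classical
  choose U hxU hU using hV
  let e₀ : ∀ x : X, V.restrict (U x).ι ≅ FlatMod.freeMod (↑(U x)) r := fun x => (hU x).some
  haveI : CompactSpace X := inferInstance
  obtain ⟨s, hs⟩ := isCompact_univ.elim_finite_subcover (fun x : X => ((U x : X.Opens) : Set X))
    (fun x => (U x).2) (fun x _ => Set.mem_iUnion.2 ⟨x, hxU x⟩)
  refine ⟨s.card, fun y => ?_⟩
  have hV' : FlatMod.IsFinLocFreeOfRank r V := fun x => ⟨U x, hxU x, hU x⟩
  have h := iterate_mem V r hVc hV' U e₀ s Set.univ isClosed_univ y (KS_univ y)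
  have hempty : (Set.univ : Set X) \ ⋃ x ∈ s, ((U x : X.Opens) : Set X) = ∅ := by
    rw [Set.sdiff_eq_empty]
    exact hs
  rw [hempty, KS_empty, AddSubgroup.mem_bot] at h
  exact h

end Nilp

end Groth.Agent.Lib.R2H4K0Nilp
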