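import Mathlib
import Groth.Agent.Lib.R2H4SchImage

set_option autoImplicit false
universe u
open CategoryTheory CategoryTheory.Limits AlgebraicGeometry

namespace Groth.Agent.Lib.R2H4.KerProd

open Groth.Agent.Lib.R2H4.SchImage Scheme.IdealSheafData

set_option backward.isDefEq.respectTransparency false in
/-- the kernel of a product of quasi-compact morphisms over a field. -/
theorem ker_prod {S : Scheme.{u}} [Subsingleton S] [IsIntegral S] {X Y A B : Scheme.{u}}
    (pX : X ⟶ S) (pY : Y ⟶ S) (pA : A ⟶ S) (pB : B ⟶ S) (f : A ⟶ X) (hf : f ≫ pX = pA)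
    [QuasiCompact f] (g : B ⟶ Y) (hg : g ≫ pY = pB) [QuasiCompact g]
    (F : pullback pA pB ⟶ pullback pX pY)
    (hF₁ : F ≫ pullback.fst pX pY = pullback.fst pA pB ≫ f)
    (hF₂ : F ≫ pullback.snd pX pY = pullback.snd pA pB ≫ g) :
    F.ker = f.ker.comap (pullback.fst pX pY) ⊔ g.ker.comap (pullback.snd pX pY) := by
  have e₁ : pA ≫ 𝟙 S = f.toImage ≫ f.imageι ≫ pX := by
    rw [Category.comp_id, ← Category.assoc, Scheme.Hom.toImage_imageι, hf]
  have e₂ : pB ≫ 𝟙 S = g.toImage ≫ g.imageι ≫ pY := by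
    rw [Category.comp_id, ← Category.assoc, Scheme.Hom.toImage_imageι, hg]
  have hdom := dominant_pullback_map' pA pB (f.imageι ≫ pX) (g.imageι ≫ pY) f.toImage g.toImage
    (𝟙 S) e₁ e₂
  obtain ⟨m, hm⟩ : ∃ m : pullback pA pB ⟶ pullback (f.imageι ≫ pX) (g.imageι ≫ pY),
    m = pullback.map pA pB (f.imageι ≫ pX) (g.imageι ≫ pY) f.toImage g.toImage (𝟙 S) e₁ e₂ :=
    ⟨_, rfl⟩
  rw [← hm] at hdom
  obtain ⟨ii, hii⟩ : ∃ ii : pullback (f.imageι ≫ pX) (g.imageι ≫ pY) ⟶ pullback pX pY,
    ii = pullback.map (f.imageι ≫ pX) (g.imageι ≫ pY) pX pY f.imageι g.imageι (𝟙 S)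
      (by rw [Category.comp_id]) (by rw [Category.comp_id]) := ⟨_, rfl⟩
  have hii₁ : ii ≫ pullback.fst pX pY = pullback.fst _ _ ≫ f.imageι := by
    rw [hii]; exact pullback.lift_fst _ _ _
  have hii₂ : ii ≫ pullback.snd pX pY = pullback.snd _ _ ≫ g.imageι := by
    rw [hii]; exact pullback.lift_snd _ _ _
  have hm₁ : m ≫ pullback.fst _ _ = pullback.fst pA pB ≫ f.toImage := by
    rw [hm]; exact pullback.lift_fst _ _ _
  have hm₂ : m ≫ pullback.snd _ _ = pullback.snd pA pB ≫ g.toImage := by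
    rw [hm]; exact pullback.lift_snd _ _ _
  have hF : F = m ≫ ii := by
    apply pullback.hom_ext
    · rw [hF₁, Category.assoc, hii₁, reassoc_of% hm₁, Scheme.Hom.toImage_imageι]
    · rw [hF₂, Category.assoc, hii₂, reassoc_of% hm₂, Scheme.Hom.toImage_imageι]
  have hker : F.ker = ii.ker := by rw [hF]; exact ker_comp_of_dominant m ii
  apply le_antisymm
  · -- `F.ker ≤ K`
    rw [hker]
    set K := f.ker.comap (pullback.fst pX pY) ⊔ g.ker.comap (pullback.snd pX pY) with hK
    have h1 : f.imageι.ker ≤ (K.subschemeι ≫ pullback.fst pX pY).ker := by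
      rw [ker_subschemeι]
      change f.ker ≤ K.map (pullback.fst pX pY)
      rw [le_map_iff_comap_le]
      exact le_sup_left
    have h2 : g.imageι.ker ≤ (K.subschemeι ≫ pullback.snd pX pY).ker := by
      rw [ker_subschemeι]
      change g.ker ≤ K.map (pullback.snd pX pY)
      rw [le_map_iff_comap_le]
      exact le_sup_right
    let l₁ := IsClosedImmersion.lift f.imageι (K.subschemeι ≫ pullback.fst pX pY) h1
    let l₂ := IsClosedImmersion.lift g.imageι (K.subschemeι ≫ pullback.snd pX pY) h2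
    have hl₁ : l₁ ≫ f.imageι = K.subschemeι ≫ pullback.fst pX pY :=
      IsClosedImmersion.lift_fac _ _ _
    have hl₂ : l₂ ≫ g.imageι = K.subschemeι ≫ pullback.snd pX pY :=
      IsClosedImmersion.lift_fac _ _ _
    let l : K.subscheme ⟶ pullback (f.imageι ≫ pX) (g.imageι ≫ pY) :=
      pullback.lift l₁ l₂ (by
        rw [reassoc_of% hl₁, reassoc_of% hl₂, pullback.condition])
    have hl : l ≫ ii = K.subschemeι := by
      apply pullback.hom_ext
      · rw [Category.assoc, hii₁, pullback.lift_fst_assoc, hl₁]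
      · rw [Category.assoc, hii₂, pullback.lift_snd_assoc, hl₂]
    calc ii.ker ≤ (l ≫ ii).ker := ker_le_ker_comp l ii
      _ = K := by rw [hl, ker_subschemeι]
  · -- `K ≤ F.ker`
    apply sup_le
    · rw [← le_map_iff_comap_le, ← Scheme.Hom.ker_comp, hF₁]
      exact ker_le_ker_comp _ _
    · rw [← le_map_iff_comap_le, ← Scheme.Hom.ker_comp, hF₂]
      exact ker_le_ker_comp _ _

end Groth.Agent.Lib.R2H4.KerProd
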