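import Mathlib
import Groth.Prelude
import Groth.Agent.Lib.R2H4DegFormula
import Groth.Agent.Lib.R2H4KleimanB
import Groth.Agent.Lib.R2H4H0GrowthProper

/-!
helper4 (run 2): Kleiman's theorem on an arbitrary proper scheme over a field: `(L^d · Z) ≥ 0` for `L` nef and
`Z` an integral closed subscheme of dimension `d` (reduction to the projective case by Chow's lemma and the
degree formula).
-/

set_option autoImplicit false
set_option linter.style.haveILetI false
set_option linter.unusedSectionVars false
universe u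
open CategoryTheory CategoryTheory.Limits AlgebraicGeometry TopologicalSpace

noncomputable section

namespace Groth.Agent.Lib.R2H4KleimanProper

open Groth.Agent.Lib.R2H4NumPoly Groth.Agent.Lib.R2H4TensorPows Groth.Agent.Lib.R2H4Snapper
  Groth.Agent.Lib.R2H4SnapperRef Groth.Agent.Lib.R2H4DegFormula Groth.Agent.Lib.R2H4MultiAdd
  Groth.Agent.Lib.R2H4KleimanA Groth.Agent.Lib.R2H4KleimanB

section Deg

variable (k : Type u) [Field k] {S T : Scheme.{u}}
  [S.Over (Spec (CommRingCat.of k))] [T.Over (Spec (CommRingCat.of k))]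
  [IsProper (S ↘ Spec (CommRingCat.of k))] [IsProper (T ↘ Spec (CommRingCat.of k))]
  [IsIntegral S] [IsIntegral T]
  (g : S ⟶ T) (hg : g ≫ (T ↘ Spec (CommRingCat.of k)) = S ↘ Spec (CommRingCat.of k))

include hg in
/-- equal dimensions: the degree is positive -/
theorem residueDegree_pos (hdom : g (genericPoint S) = genericPoint T)
    (hdim : topologicalKrullDim T = topologicalKrullDim S) :
    0 < g.residueDegree (genericPoint S) := by
  haveI : IsProper g := Groth.Agent.Lib.R2H4LerayEuler.isProper_of_over k g hg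
  have h := lenE_push_structure k g hg hdom hdim
  by_contra h0
  have h0' : g.residueDegree (genericPoint S) = 0 := by omega
  rw [h0'] at h
  unfold lenE at h
  have hsub : Subsingleton (((Scheme.Modules.pushforward g).obj
      (Coh.structureModule S)).presheaf.stalk (genericPoint T)) := by
    have := Module.length_eq_zero_iff.1 (by simpa using h)
    exact this
  have hfib := fiber_generic k g hg hdom hdim
  have hnb := Groth.Agent.Lib.R2H2.ProperFin.nhds_of_isClosedMap g g.isClosedMap (genericPoint S)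
    (fun x hx => by
      have : x ∈ g ⁻¹' {g (genericPoint S)} := hx
      rw [hfib] at this
      exact this)
  have h1 := Groth.Agent.Lib.R2H2.ProperFin.nontrivial_stalk_push_of_nhds g
    (Coh.structureModule S) (genericPoint S) hnb
    (Groth.Agent.Lib.R2H2.ProperFin.nontrivial_stalk_of_isInvertible _
      (Groth.Agent.Lib.Helper23.TensorUnit.isInvertible_structureModule S) _)
  rw [hdom] at h1
  exact not_subsingleton _ hsub

end Deg

section Main

open Groth.Agent.Lib.R2H1.DegCartier

theorem s11370 (k : Type u) [Field k] (X : Scheme.{u})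
    [X.Over (Spec (CommRingCat.of k))] [IsProper (X ↘ (Spec (CommRingCat.of k)))]
    (L : X.Modules) (hL : PicF.IsInvertible L)
    (hnef : ∀ C : X.IdealSheafData, IsIntegral C.subscheme →
      topologicalKrullDim (C.support : Set X) = 1 →
      0 ≤ (Curv2.euler k X (CohB1.tensorMod (ClSub.quotMod C) L) -
        Curv2.euler k X (ClSub.quotMod C)))
    (Z : X.IdealSheafData) [IsIntegral Z.subscheme] (d : ℕ)
    (hZ : topologicalKrullDim (Z.support : Set X) = d)
    (P : MvPolynomial (Fin d) ℚ)
    (hP : ∀ n : Fin d → ℕ, (Curv2.euler k X (Curv2.tensorPows (ClSub.quotMod Z) d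
      (fun _ => L) n) : ℚ) = MvPolynomial.eval (fun i => (n i : ℚ)) P) :
    0 ≤ MvPolynomial.coeff (Finsupp.equivFunOnFinite.symm fun _ : Fin d => 1) P := by
  classical
  have hnefX : Nef k X L := by
    intro C hC hdim
    rw [← Groth.Agent.Lib.R2H1.NefPull.euler_quotMod_tensor_sub k X C hdim.le L hL]
    exact hnef C hC hdim
  letI : Z.subscheme.Over (Spec (CommRingCat.of k)) :=
    ⟨Z.subschemeι ≫ (X ↘ Spec (CommRingCat.of k))⟩
  haveI : IsProper (Z.subscheme ↘ Spec (CommRingCat.of k)) :=
    inferInstanceAs (IsProper (Z.subschemeι ≫ (X ↘ Spec (CommRingCat.of k))))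
  have hdS : topologicalKrullDim Z.subscheme = ((d : ℕ) : WithBot ℕ∞) := by
    rw [← Groth.Agent.Lib.R2H1.NefPull.dim_support_eq, hZ]
  have hLS := Groth.Agent.Lib.Helper23.PB.isInvertible_pullback Z.subschemeι L hL
  have hnefS : Nef k Z.subscheme ((Scheme.Modules.pullback Z.subschemeι).obj L) :=
    Groth.Agent.Lib.R2H1.NefPull.nef_pullback k X Z.subscheme Z.subschemeι rfl L hL hnefX
  obtain ⟨W₂, q, hW₂, hq, ⟨A, hA⟩, hgen, hdimW⟩ :=
    Groth.Agent.Lib.R2H4H0GrowthProper.exists_projective_cover k (W := Z.subscheme)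
  haveI := hW₂
  haveI := hq
  letI : W₂.Over (Spec (CommRingCat.of k)) :=
    ⟨q ≫ (Z.subscheme ↘ Spec (CommRingCat.of k))⟩
  haveI : IsProper (W₂ ↘ Spec (CommRingCat.of k)) :=
    inferInstanceAs (IsProper (q ≫ (Z.subscheme ↘ Spec (CommRingCat.of k))))
  have hqk : q ≫ (Z.subscheme ↘ Spec (CommRingCat.of k)) = W₂ ↘ Spec (CommRingCat.of k) := rfl
  have hdW : topologicalKrullDim W₂ = ((d : ℕ) : WithBot ℕ∞) := hdimW.trans hdS
  haveI := Groth.Agent.Lib.R2H3.RpushRestrict.hasInjectiveResolutions_modules W₂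
  have hLW := Groth.Agent.Lib.Helper23.PB.isInvertible_pullback q _ hLS
  have hnefW : Nef k W₂ ((Scheme.Modules.pullback q).obj
      ((Scheme.Modules.pullback Z.subschemeι).obj L)) :=
    Groth.Agent.Lib.R2H1.NefPull.nef_pullback k Z.subscheme W₂ q hqk _ hLS hnefS
  -- the degree formula
  obtain ⟨R, hR, hRf⟩ := degree_formula k q hqk hgen d hdW d
    (fun _ => (Scheme.Modules.pullback Z.subschemeι).obj L) (fun _ => hLS)
  have hB : ∀ n : Fin d → ℕ, ev n P = fE k Z.subscheme d
      (fun _ => (Scheme.Modules.pullback Z.subschemeι).obj L)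
      (Coh.structureModule Z.subscheme) n := by
    intro n
    unfold ev fE
    rw [← hP n, fE_quotMod_eq k Z d (fun _ => L) (fun _ => hL) n]
  -- the Snapper polynomial upstairs
  have cOW := Groth.Agent.Lib.R2H1.GenusLe.isCoh_structureModule W₂
  obtain ⟨P₂, hdeg₂, hP₂⟩ := s1528 k (Coh.structureModule W₂) cOW d
    ((dim_support_le_dim _).trans hdW.le) d
    (fun _ => (Scheme.Modules.pullback q).obj ((Scheme.Modules.pullback Z.subschemeι).obj L))
    (fun _ => hLW)
  have hPeq : P₂ = MvPolynomial.C (q.residueDegree (genericPoint W₂) : ℚ) * P + R := by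
    refine eq_of_ev_eq _ _ fun n => ?_
    have h2 := hRf n
    simp only at h2
    rw [← hB n] at h2
    have h3 : ev n P₂ = fE k W₂ d (fun _ => (Scheme.Modules.pullback q).obj
        ((Scheme.Modules.pullback Z.subschemeι).obj L)) (Coh.structureModule W₂) n :=
      (hP₂ n).symm
    rw [h3]
    unfold ev at h2 ⊢
    rw [map_add, map_mul, MvPolynomial.eval_C, ← h2]
    ring
  have hcoef : MvPolynomial.coeff (Finsupp.equivFunOnFinite.symm fun _ : Fin d => 1) P₂ =
      (q.residueDegree (genericPoint W₂) : ℚ) *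
        MvPolynomial.coeff (Finsupp.equivFunOnFinite.symm fun _ : Fin d => 1) P := by
    rw [hPeq, MvPolynomial.coeff_add, coeff_ones_eq_zero_of_degLT d R hR, add_zero,
      MvPolynomial.coeff_C_mul]
  -- Kleiman's theorem upstairs
  have hK := (kleiman_aux k d W₂ hdW _ A hLW hnefW hA).1 (fun _ => true)
  have hiN : MvPolynomial.coeff (Finsupp.equivFunOnFinite.symm fun _ : Fin d => 1) P₂ =
      iN k (fun _ : Fin d => (Scheme.Modules.pullback q).obj
        ((Scheme.Modules.pullback Z.subschemeι).obj L)) (Coh.structureModule W₂) :=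
    coeff_ones_eq_iN k _ _ P₂ hdeg₂ (fun n => hP₂ n)
  have hpos : (0 : ℚ) < (q.residueDegree (genericPoint W₂) : ℚ) := by
    exact_mod_cast residueDegree_pos k q hqk hgen hdimW.symm
  have h0 : 0 ≤ MvPolynomial.coeff (Finsupp.equivFunOnFinite.symm fun _ : Fin d => 1) P₂ := by
    rw [hiN]
    simpa using hK
  rw [hcoef] at h0
  exact nonneg_of_mul_nonneg_right h0 hpos

end Main

end Groth.Agent.Lib.R2H4KleimanProper
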