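import Mathlib

set_option autoImplicit false

open scoped TensorProduct

namespace Groth.Agent.Lib.R2H4.LieNilFibre

variable {A : Type*} [CommRing A] {L : Type*} [LieRing L] [LieAlgebra A L]

attribute [local instance 100] LieRing.ofAssociativeRing

variable (A L) in
/-- The lower central series as plain submodules. -/
abbrev C (k : ℕ) : Submodule A L := (LieModule.lowerCentralSeries A L L k).toSubmodule

lemma C_zero : C A L 0 = ⊤ := by
  simp [C]

lemma C_succ (k : ℕ) :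
    C A L (k + 1) = Submodule.span A {m | ∃ (x : L) (n : L), n ∈ C A L k ∧ ⁅x, n⁆ = m} := by
  unfold C
  rw [LieModule.lowerCentralSeries_succ, LieSubmodule.lieIdeal_oper_eq_linear_span]
  congr 1
  ext m
  constructor
  · rintro ⟨x, n, rfl⟩
    exact ⟨x.1, n.1, n.2, rfl⟩
  · rintro ⟨x, n, hn, rfl⟩
    exact ⟨⟨x, LieSubmodule.mem_top _⟩, ⟨n, hn⟩, rfl⟩

lemma lie_mem_C_succ {k : ℕ} (x : L) {n : L} (hn : n ∈ C A L k) : ⁅x, n⁆ ∈ C A L (k + 1) := by
  rw [C_succ]
  exact Submodule.subset_span ⟨x, n, hn, rfl⟩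

lemma map_ad_C_le (k : ℕ) (x : L) :
    (C A L k).map (LieAlgebra.ad A L x : L →ₗ[A] L) ≤ C A L (k + 1) := by
  rintro _ ⟨n, hn, rfl⟩
  exact lie_mem_C_succ x hn

lemma C_antitone : Antitone (C A L) := fun _ _ h =>
  (LieModule.antitone_lowerCentralSeries A L L h : _)

lemma fg_C [Module.Finite A L] (k : ℕ) : (C A L k).FG := by
  induction k with
  | zero => rw [C_zero]; exact Module.Finite.fg_top
  | succ k ih =>
    have h : C A L (k + 1) =
        Submodule.map₂ ((LieModule.toEnd A L L : L →ₗ⁅A⁆ Module.End A L) : L →ₗ[A] L →ₗ[A] L)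
          ⊤ (C A L k) := by
      rw [C_succ]
      apply le_antisymm
      · rw [Submodule.span_le]
        rintro _ ⟨x, n, hn, rfl⟩
        exact Submodule.apply_mem_map₂ _ (Submodule.mem_top) hn
      · rw [Submodule.map₂_le]
        intro x _ n hn
        exact Submodule.subset_span ⟨x, n, hn, rfl⟩
    rw [h]
    exact Submodule.FG.map₂ _ Module.Finite.fg_top ih

/-- Key shifting lemma. -/
lemma key (I J : Ideal A) (m : ℕ)
    (h : C A L m ≤ I • (⊤ : Submodule A L) ⊔ J • (⊤ : Submodule A L)) (k : ℕ) :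
    C A L (k + m) ≤ I • (⊤ : Submodule A L) ⊔ J • C A L k := by
  induction k with
  | zero => simpa [C_zero] using h
  | succ k ih =>
    rw [show k + 1 + m = (k + m) + 1 by ring, C_succ, Submodule.span_le]
    rintro _ ⟨x, n, hn, rfl⟩
    have h1 : ⁅x, n⁆ ∈ (I • (⊤ : Submodule A L) ⊔ J • C A L k).map
        (LieAlgebra.ad A L x : L →ₗ[A] L) := ⟨n, ih hn, rfl⟩
    rw [Submodule.map_sup, Submodule.map_smul'', Submodule.map_smul''] at h1
    have h2 : I • Submodule.map (LieAlgebra.ad A L x : L →ₗ[A] L) ⊤ ⊔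
        J • Submodule.map (LieAlgebra.ad A L x : L →ₗ[A] L) (C A L k) ≤
        I • (⊤ : Submodule A L) ⊔ J • C A L (k + 1) :=
      sup_le_sup (Submodule.smul_mono le_rfl le_top)
        (Submodule.smul_mono le_rfl (map_ad_C_le k x))
    exact h2 h1

variable (A L) in
/-- The Oka predicate: `L / 𝔞 L` is nilpotent. -/
def P (𝔞 : Ideal A) : Prop := ∃ k, C A L k ≤ 𝔞 • (⊤ : Submodule A L)

lemma isOka_P : Ideal.IsOka (P A L) where
  top := ⟨0, by simp⟩
  oka := by
    rintro I a ⟨m, hm⟩ ⟨k, hk⟩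
    refine ⟨k + m, ?_⟩
    rw [Submodule.sup_smul] at hm
    refine (key I (Ideal.span {a}) m hm k).trans (sup_le le_rfl ?_)
    refine (Submodule.smul_mono le_rfl hk).trans ?_
    rw [← Submodule.mul_smul]
    refine Submodule.smul_mono_left ?_
    rw [Ideal.mul_le]
    intro r hr s hs
    obtain ⟨c, rfl⟩ := Ideal.mem_span_singleton'.mp hr
    have := Ideal.mem_colon_span_singleton.mp hs
    rw [mul_assoc]
    exact I.mul_mem_left c (by rwa [mul_comm] at this)


lemma one_tmul_mem_lcs (K : Type*) [CommRing K] [Algebra A K] (k : ℕ) {z : L}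
    (hz : z ∈ C A L k) :
    (1 : K) ⊗ₜ[A] z ∈ LieModule.lowerCentralSeries K (K ⊗[A] L) (K ⊗[A] L) k := by
  induction k generalizing z with
  | zero => simp
  | succ k ih =>
    rw [C_succ] at hz
    induction hz using Submodule.span_induction with
    | mem x hx =>
      obtain ⟨y, n, hn, rfl⟩ := hx
      have h1 : (1 : K) ⊗ₜ[A] ⁅y, n⁆ = ⁅(1 : K) ⊗ₜ[A] y, (1 : K) ⊗ₜ[A] n⁆ := by
        rw [LieAlgebra.ExtendScalars.bracket_tmul, mul_one]
      rw [h1, LieModule.lowerCentralSeries_succ]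
      exact LieSubmodule.lie_mem_lie (LieSubmodule.mem_top _) (ih hn)
    | zero => simp
    | add x y _ _ hx hy => rw [TensorProduct.tmul_add]; exact add_mem hx hy
    | smul a x _ hx =>
      rw [TensorProduct.tmul_smul, ← algebraMap_smul K a]
      exact (LieModule.lowerCentralSeries K (K ⊗[A] L) (K ⊗[A] L) (k + 1)).smul_mem _ hx

lemma exists_smul_mem_of_tmul_eq_zero (q : Ideal A) [q.IsPrime] (z : L)
    (hz : (1 : q.ResidueField) ⊗ₜ[A] z = 0) :
    ∃ s, s ∉ q ∧ s • z ∈ q • (⊤ : Submodule A L) := by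
  have h1 : (1 : q.ResidueField) ⊗ₜ[A ⧸ q] ((1 : A ⧸ q) ⊗ₜ[A] z) = 0 := by
    have := congrArg (TensorProduct.AlgebraTensorModule.cancelBaseChange A (A ⧸ q)
      q.ResidueField q.ResidueField L).symm hz
    simpa using this
  have h2 := (IsLocalizedModule.eq_zero_iff (nonZeroDivisors (A ⧸ q))
    (TensorProduct.mk (A ⧸ q) q.ResidueField ((A ⧸ q) ⊗[A] L) 1)).mp h1
  obtain ⟨⟨d, hd⟩, hd0⟩ := h2
  obtain ⟨s, rfl⟩ := Ideal.Quotient.mk_surjective d
  refine ⟨s, ?_, ?_⟩
  · intro hs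
    exact (nonZeroDivisors.ne_zero hd) (Ideal.Quotient.eq_zero_iff_mem.mpr hs)
  · have h3 := congrArg (TensorProduct.quotTensorEquivQuotSMul L q) hd0
    rw [map_zero] at h3
    change (TensorProduct.quotTensorEquivQuotSMul L q)
      (Ideal.Quotient.mk q s • ((1 : A ⧸ q) ⊗ₜ[A] z)) = 0 at h3
    rw [TensorProduct.smul_tmul', smul_eq_mul, mul_one,
      TensorProduct.quotTensorEquivQuotSMul_mk_tmul] at h3
    exact (Submodule.Quotient.mk_eq_zero _).mp h3

open Classical in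
theorem isNilpotent_of_fibres [Module.Finite A L]
    (h : ∀ p : PrimeSpectrum A, LieRing.IsNilpotent (p.asIdeal.ResidueField ⊗[A] L)) :
    LieRing.IsNilpotent L := by
  suffices hP : P A L ⊥ by
    obtain ⟨k, hk⟩ := hP
    rw [Submodule.bot_smul, le_bot_iff] at hk
    refine (LieModule.isNilpotent_iff A L L).mpr ⟨k, ?_⟩
    rwa [← LieSubmodule.toSubmodule_eq_bot]
  by_contra hbot
  obtain ⟨M, _, hM⟩ : ∃ M, ⊥ ≤ M ∧ Maximal (¬ P A L ·) M := by
    refine zorn_le_nonempty₀ {I | ¬ P A L I}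
      (fun 𝒞 hC₁ hC₂ J hJ ↦ ⟨sSup 𝒞, ?_, fun _ ↦ le_sSup⟩) ⊥ hbot
    rintro ⟨k, hk⟩
    have hcomp := (Submodule.fg_iff_compact _).mp (fg_C (A := A) (L := L) k)
    rw [CompleteLattice.isCompactElement_iff_le_of_directed_sSup_le] at hcomp
    have hdir : DirectedOn (· ≤ ·) ((fun I : Ideal A => I • (⊤ : Submodule A L)) '' 𝒞) := by
      rintro _ ⟨I₁, h₁, rfl⟩ _ ⟨I₂, h₂, rfl⟩
      rcases hC₂.total h₁ h₂ with h12 | h21
      · exact ⟨_, Set.mem_image_of_mem _ h₂, Submodule.smul_mono_left h12, le_rfl⟩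
      · exact ⟨_, Set.mem_image_of_mem _ h₁, le_rfl, Submodule.smul_mono_left h21⟩
    have hle : C A L k ≤ sSup ((fun I : Ideal A => I • (⊤ : Submodule A L)) '' 𝒞) := by
      refine hk.trans ?_
      rw [sSup_eq_iSup', Submodule.iSup_smul, sSup_image']
    obtain ⟨N, ⟨I, hI, rfl⟩, hN⟩ := hcomp ((fun I : Ideal A => I • (⊤ : Submodule A L)) '' 𝒞)
      ⟨_, Set.mem_image_of_mem _ hJ⟩ hdir hle
    exact hC₁ hI ⟨k, hN⟩
  have hprime : M.IsPrime := isOka_P.isPrime_of_maximal_not hM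
  -- fibre at `M`
  obtain ⟨N, hN⟩ := (LieModule.isNilpotent_iff M.ResidueField _ _).mp (h ⟨M, hprime⟩)
  have hz : ∀ z ∈ C A L N, ∃ s, s ∉ M ∧ s • z ∈ M • (⊤ : Submodule A L) := by
    intro z hz
    apply exists_smul_mem_of_tmul_eq_zero
    have := one_tmul_mem_lcs M.ResidueField N hz
    rw [hN] at this
    simpa using this
  obtain ⟨S, hS⟩ := fg_C (A := A) (L := L) N
  choose! σ hσ1 hσ2 using hz
  have hSC : ∀ z ∈ S, z ∈ C A L N := fun z hzS => hS ▸ Submodule.subset_span hzS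
  set s := ∏ z ∈ S, σ z with hs
  have hsM : s ∉ M := by
    rw [hs, hprime.prod_mem_iff]
    rintro ⟨z, hzS, hz⟩
    exact hσ1 z (hSC z hzS) hz
  have hsC : Ideal.span {s} • C A L N ≤ M • (⊤ : Submodule A L) := by
    rw [Submodule.smul_le]
    intro r hr n hn
    obtain ⟨c, rfl⟩ := Ideal.mem_span_singleton'.mp hr
    rw [mul_smul]
    refine Submodule.smul_mem _ c ?_
    rw [← hS] at hn
    induction hn using Submodule.span_induction with
    | mem z hzS =>
      rw [hs, ← Finset.mul_prod_erase S σ hzS, mul_comm, mul_smul]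
      exact Submodule.smul_mem _ _ (hσ2 z (hSC z hzS))
    | zero => simp
    | add x y _ _ hx hy => rw [smul_add]; exact add_mem hx hy
    | smul a x _ hx => rw [smul_comm]; exact Submodule.smul_mem _ a hx
  have hlt : M < M ⊔ Ideal.span {s} := Submodule.lt_sup_iff_notMem.2 hsM
  obtain ⟨m, hm⟩ : P A L (M ⊔ Ideal.span {s}) := of_not_not (hM.not_prop_of_gt hlt)
  rw [Submodule.sup_smul] at hm
  exact hM.prop ⟨N + m, (key M (Ideal.span {s}) m hm N).trans (sup_le le_rfl hsC)⟩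


lemma exists_smul_eq_one_tmul (q : Ideal A) [q.IsPrime] (y : q.ResidueField ⊗[A] L) :
    ∃ (c : q.ResidueField) (x : L), y = c • ((1 : q.ResidueField) ⊗ₜ[A] x) := by
  let e := TensorProduct.AlgebraTensorModule.cancelBaseChange A (A ⧸ q)
      q.ResidueField q.ResidueField L
  obtain ⟨⟨m, d⟩, hmd⟩ := IsLocalizedModule.surj (nonZeroDivisors (A ⧸ q))
    (TensorProduct.mk (A ⧸ q) q.ResidueField ((A ⧸ q) ⊗[A] L) 1) (e.symm y)
  obtain ⟨x, rfl⟩ := TensorProduct.mk_surjective A L (A ⧸ q) Ideal.Quotient.mk_surjective m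
  have h1 := congrArg e hmd
  have hd : algebraMap (A ⧸ q) q.ResidueField d ≠ 0 := by
    rw [Ne, map_eq_zero_iff _ (IsFractionRing.injective (A ⧸ q) q.ResidueField)]
    exact nonZeroDivisors.ne_zero d.2
  refine ⟨(algebraMap (A ⧸ q) q.ResidueField d)⁻¹, x, ?_⟩
  have h2 : algebraMap (A ⧸ q) q.ResidueField d • y = (1 : q.ResidueField) ⊗ₜ[A] x := by
    have h3 : e (d • e.symm y) = algebraMap (A ⧸ q) q.ResidueField d • y := by
      rw [show (d • e.symm y) = (d : A ⧸ q) • e.symm y from rfl,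
        ← algebraMap_smul q.ResidueField (d : A ⧸ q) (e.symm y), map_smul,
        LinearEquiv.apply_symm_apply]
    rw [← h3, h1]
    simp [e]
  rw [← h2, smul_smul, inv_mul_cancel₀ hd, one_smul]

theorem isNilpotent_of_forall_ad [Module.Finite A L]
    (h : ∀ x : L, IsNilpotent (LieAlgebra.ad A L x)) : LieRing.IsNilpotent L := by
  apply isNilpotent_of_fibres (A := A)
  intro p
  rw [LieAlgebra.isNilpotent_iff_forall (R := p.asIdeal.ResidueField)]
  intro y
  obtain ⟨c, x, rfl⟩ := exists_smul_eq_one_tmul p.asIdeal y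
  rw [map_smul]
  refine IsNilpotent.smul ?_ c
  have h1 : LieAlgebra.ad p.asIdeal.ResidueField (p.asIdeal.ResidueField ⊗[A] L)
      ((1 : p.asIdeal.ResidueField) ⊗ₜ[A] x) =
      (LieAlgebra.ad A L x : L →ₗ[A] L).baseChange p.asIdeal.ResidueField := by
    apply TensorProduct.AlgebraTensorModule.curry_injective
    ext l
    simp [LieAlgebra.ExtendScalars.bracket_tmul]
  rw [h1]
  obtain ⟨n, hn⟩ := h x
  refine ⟨n, ?_⟩
  rw [← LinearMap.baseChange_pow, hn, LinearMap.baseChange_zero]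

end Groth.Agent.Lib.R2H4.LieNilFibre
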