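import Mathlib

/-!
# Finiteness at a finite stage of a tower of closed immersions (helper4, round 2)

Let `X = lim X_i` be a cofiltered limit of `S`-schemes whose transition maps are closed immersions.
If some `X_i → S` is affine and locally of finite type and `X → S` is finite, then `X_j → S` is finite
for some `j → i`.
-/

set_option autoImplicit false
set_option linter.style.haveILetI false
universe u
open CategoryTheory Limits AlgebraicGeometry Polynomial

namespace Groth.Agent.Lib.R2H4.LimFinite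

section Alg

/-- Ring-level step: `φ : R → A` of finite type, `ρ : A → B` surjective, and every member of a
generating set of `A` becomes integral in `B`; then `ρ ∘ φ` is finite. -/
theorem finite_comp_of_generators {R A B : Type u} [CommRing R] [CommRing A] [CommRing B]
    (φ : R →+* A) (ρ : A →+* B) (hρ : Function.Surjective ρ)
    (G : Set A) (hG : letI := φ.toAlgebra; Algebra.adjoin R G = ⊤) (hfin : G.Finite)
    (hint : ∀ g ∈ G, (ρ.comp φ).IsIntegralElem (ρ g)) : (ρ.comp φ).Finite := by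
  letI := φ.toAlgebra
  letI := (ρ.comp φ).toAlgebra
  let ρ' : A →ₐ[R] B := { ρ with commutes' := fun r => rfl }
  have hft : (ρ.comp φ).FiniteType := by
    refine RingHom.FiniteType.comp (RingHom.FiniteType.of_surjective ρ hρ) ?_
    exact ⟨⟨hfin.toFinset, by simpa using hG⟩⟩
  refine RingHom.IsIntegral.to_finite ?_ hft
  have htop : Algebra.adjoin R (ρ' '' G) = ⊤ := by
    rw [← AlgHom.map_adjoin, hG, Algebra.map_top, AlgHom.range_eq_top]
    exact hρ
  have hle : Algebra.adjoin R (ρ' '' G) ≤ integralClosure R B := by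
    refine Algebra.adjoin_le ?_
    rintro _ ⟨g, hg, rfl⟩
    exact hint g hg
  intro b
  have : b ∈ integralClosure R B := hle (htop ▸ Algebra.mem_top)
  exact this

end Alg

section Sch

lemma app_eq_zero_of_eq_comp {X Y Z : Scheme.{u}} (g : X ⟶ Y) (f : Y ⟶ Z) (h : X ⟶ Z)
    (e : h = g ≫ f) (V : Z.Opens) (s : Γ(Z, V)) (hs : f.app V s = 0) : h.app V s = 0 := by
  subst e
  change (g.app (f ⁻¹ᵁ V)).hom ((f.app V).hom s) = 0
  have hs' : (f.app V).hom s = 0 := hs
  rw [hs', map_zero]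

lemma finite_app_of_eq_comp {X Y Z : Scheme.{u}} (g : X ⟶ Y) (f : Y ⟶ Z) (h : X ⟶ Z)
    (e : h = g ≫ f) [IsClosedImmersion g] [IsAffineHom f] (V : Z.Opens) (hV : IsAffineOpen V)
    (hf : (f.app V).hom.Finite) : (h.app V).hom.Finite := by
  subst e
  change (RingHom.comp (g.app (f ⁻¹ᵁ V)).hom (f.app V).hom).Finite
  exact RingHom.Finite.comp (RingHom.Finite.of_surjective _
    (g.app_surjective _ (hV.preimage f))) hf

variable {I : Type u} [SmallCategory I] [IsCofiltered I] (S : Scheme.{u})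
  (D : I ⥤ Scheme.{u}) (t : D ⟶ (Functor.const I).obj S) (c : Cone D) (hc : IsLimit c)
  [∀ (i j : I) (a : i ⟶ j), IsClosedImmersion (D.map a)]

include hc in
/-- finitely many sections vanishing on the limit vanish at a common stage. -/
lemma exists_forall_app_eq_zero (i : I) (V : (D.obj i).Opens) (hV : IsCompact (V : Set (D.obj i)))
    (T : Finset Γ(D.obj i, V)) (hT : ∀ s ∈ T, (c.π.app i).app V s = 0) :
    ∃ (j : I) (a : j ⟶ i), ∀ s ∈ T, (D.map a).app V s = 0 := by
  classical
  induction T using Finset.induction_on with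
  | empty => exact ⟨i, 𝟙 i, by simp⟩
  | insert s T _ ih =>
    obtain ⟨j₁, a₁, h₁⟩ := ih (fun s hs => hT s (Finset.mem_insert_of_mem hs))
    haveI : ∀ {i j : I} (f : i ⟶ j), IsAffineHom (D.map f) := fun f => inferInstance
    obtain ⟨j₂, a₂, h₂⟩ := exists_app_map_eq_zero_of_isLimit D c hc hV s
      (hT s (Finset.mem_insert_self _ _))
    obtain ⟨j₃, b₁, b₂, hb⟩ := IsCofiltered.cospan a₁ a₂
    refine ⟨j₃, b₁ ≫ a₁, fun s' hs' => ?_⟩
    rcases Finset.mem_insert.mp hs' with rfl | hs'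
    · exact app_eq_zero_of_eq_comp (D.map b₂) (D.map a₂) _ (by rw [hb, D.map_comp]) V _ h₂
    · exact app_eq_zero_of_eq_comp (D.map b₁) (D.map a₁) _ (D.map_comp _ _) V _ (h₁ s' hs')

include hc in
/-- affine-local step. -/
theorem exists_finite_app (i : I) [IsAffineHom (t.app i)] [LocallyOfFiniteType (t.app i)]
    [IsFinite (c.π.app i ≫ t.app i)] (U : S.Opens) (hU : IsAffineOpen U) :
    ∃ (j : I) (a : j ⟶ i), ((D.map a ≫ t.app i).app U).hom.Finite := by
  classical
  have hV : IsAffineOpen (t.app i ⁻¹ᵁ U) := hU.preimage (t.app i)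
  have hft : ((t.app i).app U).hom.FiniteType := by
    rw [Scheme.Hom.app_eq_appLE]
    exact HasRingHomProperty.appLE (P := @LocallyOfFiniteType) (t.app i) inferInstance
      ⟨U, hU⟩ ⟨_, hV⟩ le_rfl
  have hfin : ((c.π.app i ≫ t.app i).app U).hom.Finite :=
    IsFinite.finite_app (c.π.app i ≫ t.app i) U hU
  have hfin' : (RingHom.comp ((c.π.app i).app (t.app i ⁻¹ᵁ U)).hom ((t.app i).app U).hom).Finite :=
    hfin
  have hint := hfin'.to_isIntegral
  letI : Algebra Γ(S, U) Γ(D.obj i, t.app i ⁻¹ᵁ U) := ((t.app i).app U).hom.toAlgebra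
  obtain ⟨G, hG⟩ := (hft : Algebra.FiniteType Γ(S, U) Γ(D.obj i, t.app i ⁻¹ᵁ U)).out
  -- choose monic polynomials
  have hex : ∀ g : Γ(D.obj i, t.app i ⁻¹ᵁ U), ∃ p : Γ(S, U)[X], p.Monic ∧
      (c.π.app i).app (t.app i ⁻¹ᵁ U) (p.eval₂ ((t.app i).app U).hom g) = 0 := by
    intro g
    obtain ⟨p, hp, hp0⟩ := hint (((c.π.app i).app (t.app i ⁻¹ᵁ U)).hom g)
    refine ⟨p, hp, ?_⟩
    rw [← hp0]
    exact Polynomial.hom_eval₂ p _ ((c.π.app i).app (t.app i ⁻¹ᵁ U)).hom g
  choose p hp hp0 using hex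
  obtain ⟨j, a, ha⟩ := exists_forall_app_eq_zero D c hc i (t.app i ⁻¹ᵁ U) hV.isCompact
    (G.image fun g => (p g).eval₂ ((t.app i).app U).hom g)
    (by
      intro s hs
      obtain ⟨g, _, rfl⟩ := Finset.mem_image.mp hs
      exact hp0 g)
  refine ⟨j, a, ?_⟩
  change (RingHom.comp ((D.map a).app (t.app i ⁻¹ᵁ U)).hom ((t.app i).app U).hom).Finite
  refine finite_comp_of_generators ((t.app i).app U).hom ((D.map a).app (t.app i ⁻¹ᵁ U)).hom
    ((D.map a).app_surjective _ hV) (G : Set _) hG G.finite_toSet ?_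
  intro g hg
  refine ⟨p g, hp g, ?_⟩
  rw [← Polynomial.hom_eval₂]
  exact ha _ (Finset.mem_image_of_mem _ hg)

include hc in
/-- finitely many affine opens. -/
theorem exists_forall_finite_app (i : I) [IsAffineHom (t.app i)] [LocallyOfFiniteType (t.app i)]
    [IsFinite (c.π.app i ≫ t.app i)] (T : Finset S.affineOpens) :
    ∃ (j : I) (a : j ⟶ i), ∀ U ∈ T, ((D.map a ≫ t.app i).app (U : S.Opens)).hom.Finite := by
  classical
  induction T using Finset.induction_on with
  | empty => exact ⟨i, 𝟙 i, by simp⟩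
  | insert U T _ ih =>
    obtain ⟨j₁, a₁, h₁⟩ := ih
    obtain ⟨j₂, a₂, h₂⟩ := exists_finite_app S D t c hc i U.1 U.2
    obtain ⟨j₃, b₁, b₂, hb⟩ := IsCofiltered.cospan a₁ a₂
    refine ⟨j₃, b₁ ≫ a₁, fun U' hU' => ?_⟩
    rcases Finset.mem_insert.mp hU' with rfl | hU'
    · exact finite_app_of_eq_comp (D.map b₂) (D.map a₂ ≫ t.app i) _
        (by rw [hb, D.map_comp, Category.assoc]) _ U'.2 h₂
    · exact finite_app_of_eq_comp (D.map b₁) (D.map a₁ ≫ t.app i) _
        (by rw [D.map_comp, Category.assoc]) _ U'.2 (h₁ U' hU')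

lemma finite_appTop_morphismRestrict {X Y : Scheme.{u}} (f : X ⟶ Y) (U : Y.Opens)
    (h : (f.app U).hom.Finite) : ((f ∣_ U).appTop).hom.Finite := by
  have key : ∀ (V : Y.Opens) (W : X.Opens) (e : W ≤ f ⁻¹ᵁ V), V = U → W = f ⁻¹ᵁ V →
      (f.appLE V W e).hom.Finite := by
    rintro V W e rfl rfl
    rw [Scheme.Hom.appLE_eq_app]
    exact h
  change ((f ∣_ U).app ⊤).hom.Finite
  rw [morphismRestrict_app']
  exact key _ _ _ U.ι_image_top (image_morphismRestrict_preimage f U ⊤)

include hc in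
/-- Finiteness at a finite stage. -/
theorem exists_isFinite_stage [CompactSpace S] (i : I) [IsAffineHom (t.app i)]
    [LocallyOfFiniteType (t.app i)] [IsFinite (c.π.app i ≫ t.app i)] :
    ∃ (j : I) (_ : j ⟶ i), IsFinite (t.app j) := by
  classical
  obtain ⟨T, hT⟩ := isCompact_univ.elim_finite_subcover
    (fun U : S.affineOpens => ((U : S.Opens) : Set S)) (fun U => U.1.isOpen)
    (by
      intro x _
      obtain ⟨_, ⟨U, hU, rfl⟩, hx, -⟩ := S.isBasis_affineOpens.exists_subset_of_mem_open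
        (Set.mem_univ x) isOpen_univ
      exact Set.mem_iUnion.mpr ⟨⟨U, hU⟩, hx⟩)
  obtain ⟨j, a, ha⟩ := exists_forall_finite_app S D t c hc i T
  refine ⟨j, a, ?_⟩
  have hta : t.app j = D.map a ≫ t.app i := by
    have := t.naturality a
    rw [Functor.const_obj_map] at this
    exact (this.trans (Category.comp_id _)).symm
  rw [hta]
  haveI : IsAffineHom (D.map a ≫ t.app i) := inferInstance
  refine HasAffineProperty.of_iSup_eq_top (P := @IsFinite) (fun U : T => U.1) ?_ ?_
  · rw [eq_top_iff]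
    intro x _
    obtain ⟨U, hU⟩ := Set.mem_iUnion.mp (hT (Set.mem_univ x))
    obtain ⟨hUT, hxU⟩ := Set.mem_iUnion.mp hU
    exact TopologicalSpace.Opens.mem_iSup.mpr ⟨⟨U, hUT⟩, hxU⟩
  · intro U
    exact ⟨(U.1.2.preimage (D.map a ≫ t.app i)),
      finite_appTop_morphismRestrict _ _ (ha U.1 U.2)⟩

end Sch

end Groth.Agent.Lib.R2H4.LimFinite
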