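import Mathlib
import Groth.Prelude.Def_FlatCA
import Groth.Agent.S1212
import Groth.Agent.S1200
import Groth.Agent.Lib.Helper13Fiber
import Groth.Agent.Lib.Helper14LocalFree2

/-!
# helper4 (round 2): a module projective over the base is universally pure

The direct argument of Stacks 38.14.1 / 38.17.4 without finiteness hypotheses.
-/

set_option autoImplicit false
universe u

namespace Groth.Agent.Lib.R2H4.PureProj

open TensorProduct IsLocalRing FlatCA

attribute [local instance] Algebra.TensorProduct.rightAlgebra

section Key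

variable {R : Type u} [CommRing R] {S : Type u} [CommRing S] [Algebra R S]
  {M : Type u} [AddCommGroup M] [Module S M] [Module R M] [IsScalarTower R S M]

theorem smul_mem_smul_top_of_mem_map (t : Ideal R) {τ : S} (hτ : τ ∈ t.map (algebraMap R S)) (m : M) :
    τ • m ∈ (t • ⊤ : Submodule R M) := by
  revert m
  refine Submodule.span_induction ?_ ?_ ?_ ?_ hτ
  · rintro _ ⟨r, hr, rfl⟩ m
    rw [algebraMap_smul]
    exact Submodule.smul_mem_smul hr Submodule.mem_top
  · intro m
    rw [zero_smul]
    exact Submodule.zero_mem _
  · intro x y _ _ hx hy m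
    rw [add_smul]
    exact Submodule.add_mem _ (hx m) (hy m)
  · intro s x _ hx m
    rw [smul_eq_mul, mul_comm, mul_smul]
    exact hx (s • m)

theorem tmul_mem_maximalIdeal_smul_top (t : Ideal R) [t.IsPrime] (r : Localization.AtPrime t) {n : M}
    (hn : n ∈ (t • ⊤ : Submodule R M)) :
    r ⊗ₜ[R] n ∈ (maximalIdeal (Localization.AtPrime t) • ⊤ :
      Submodule (Localization.AtPrime t) (Localization.AtPrime t ⊗[R] M)) := by
  refine Submodule.smul_induction_on hn ?_ ?_
  · intro a ha n _
    rw [TensorProduct.tmul_smul, ← algebraMap_smul (Localization.AtPrime t) a (r ⊗ₜ[R] n)]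
    refine Submodule.smul_mem_smul ?_ Submodule.mem_top
    rw [← Localization.AtPrime.map_eq_maximalIdeal]
    exact Ideal.mem_map_of_mem _ ha
  · intro x y hx hy
    rw [TensorProduct.tmul_add]
    exact Submodule.add_mem _ hx hy

/-- Key lemma: if `π ∈ S` is congruent modulo `tS` to an element `a ∈ R ∖ t`, then multiplication by `π` on a
module `M` that is projective over `R` stays injective after tensoring with any `R_t`-module. -/
theorem lTensor_lsmul_injective [Module.Projective R M] (t : Ideal R) [t.IsPrime] {a : R} (ha : a ∉ t)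
    {π τ : S} (hτ : τ ∈ t.map (algebraMap R S)) (haπ : algebraMap R S a = π + τ)
    (Q : Type u) [AddCommGroup Q] [Module R Q] [Module (Localization.AtPrime t) Q]
    [IsScalarTower R (Localization.AtPrime t) Q] :
    Function.Injective (((LinearMap.lsmul S M π).restrictScalars R).lTensor Q) := by
  classical
  set Rt := Localization.AtPrime t with hRt
  set g : M →ₗ[R] M := (LinearMap.lsmul S M π).restrictScalars R with hg
  set gt : Rt ⊗[R] M →ₗ[Rt] Rt ⊗[R] M := g.baseChange Rt with hgt
  have : Module.Free Rt (Rt ⊗[R] M) := Groth.Agent.Lib.Helper14.LocalFree.free_of_projective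
  have hu : IsUnit (algebraMap R Rt a) := IsLocalization.map_units Rt (⟨a, ha⟩ : t.primeCompl)
  -- the difference `a - gt` has image in `m • ⊤`
  have hdiff : ∀ x : Rt ⊗[R] M, a • x - gt x ∈ (maximalIdeal Rt • ⊤ : Submodule Rt (Rt ⊗[R] M)) := by
    intro x
    induction x using TensorProduct.induction_on with
    | zero => simp
    | tmul r m =>
      have h1 : a • (r ⊗ₜ[R] m) - gt (r ⊗ₜ[R] m) = r ⊗ₜ[R] (τ • m) := by
        rw [hgt, LinearMap.baseChange_tmul, ← TensorProduct.tmul_smul, ← TensorProduct.tmul_sub]
        congr 1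
        rw [hg]
        change a • m - π • m = τ • m
        rw [← algebraMap_smul S a m, haπ, add_smul, add_sub_cancel_left]
      rw [h1]
      exact tmul_mem_maximalIdeal_smul_top t r (smul_mem_smul_top_of_mem_map t hτ m)
    | add x y hx hy =>
      have : a • (x + y) - gt (x + y) = (a • x - gt x) + (a • y - gt y) := by
        rw [smul_add, map_add]; abel
      rw [this]
      exact Submodule.add_mem _ hx hy
  have hyp : ∀ x : Rt ⊗[R] M, gt x ∈ (maximalIdeal Rt • ⊤ : Submodule Rt (Rt ⊗[R] M)) →
      x ∈ (maximalIdeal Rt • ⊤ : Submodule Rt (Rt ⊗[R] M)) := by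
    intro x hx
    have h1 : a • x ∈ (maximalIdeal Rt • ⊤ : Submodule Rt (Rt ⊗[R] M)) := by
      have := Submodule.add_mem _ (hdiff x) hx
      rwa [sub_add_cancel] at this
    rw [← algebraMap_smul Rt a x] at h1
    obtain ⟨v, hv⟩ := hu
    have h2 : x = (↑v⁻¹ : Rt) • ((algebraMap R Rt a) • x) := by
      rw [← hv, smul_smul, Units.inv_mul, one_smul]
    rw [h2]
    exact Submodule.smul_mem _ _ h1
  have hinj : Function.Injective (gt.lTensor Q) :=
    (LinearMap.lTensor_inj_iff_rTensor_inj _ _).2
      (Groth.Agent.S1212.rTensor_injective_of_free gt hyp Q)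
  -- transfer along `Q ⊗[Rt] (Rt ⊗[R] M) ≃ Q ⊗[R] M`
  let e := AlgebraTensorModule.cancelBaseChange R Rt Rt Q M
  have hnat : ∀ z, e (gt.lTensor Q z) = g.lTensor Q (e z) := by
    intro z
    induction z using TensorProduct.induction_on with
    | zero => simp
    | tmul q y =>
      induction y using TensorProduct.induction_on with
      | zero => simp
      | tmul r m =>
        rw [LinearMap.lTensor_tmul, hgt, LinearMap.baseChange_tmul]
        simp only [e, AlgebraTensorModule.cancelBaseChange_tmul, LinearMap.lTensor_tmul]
      | add y y' hy hy' =>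
        rw [TensorProduct.tmul_add, map_add, map_add, hy, hy', map_add, map_add]
    | add z z' hz hz' => rw [map_add, map_add, hz, hz', map_add, map_add]
  intro z z' hzz'
  have h1 : e.symm z = e.symm z' := by
    apply hinj
    apply e.injective
    rw [hnat, hnat, e.apply_symm_apply, e.apply_symm_apply]
    exact hzz'
  exact e.symm.injective h1

end Key

section Main

variable {R : Type u} [CommRing R] {S : Type u} [CommRing S] [Algebra R S]
  {M : Type u} [AddCommGroup M] [Module S M] [Module R M] [IsScalarTower R S M]

theorem toTensor_injective (p : Ideal R) [p.IsPrime] :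
    Function.Injective (Groth.Agent.Helper13Fiber.toTensor p S M) := by
  unfold Groth.Agent.Helper13Fiber.toTensor
  rw [LinearMap.coe_comp, LinearMap.coe_comp]
  refine (LinearEquiv.injective _).comp ((LinearEquiv.injective _).comp ?_)
  exact (LinearEquiv.rTensor M
    (Algebra.TensorProduct.commRight R S p.ResidueField).symm.toLinearEquiv).injective

/-- multiplication by `π` is injective on the fibre module over a generization `t'` of `t`. -/
theorem smul_injective_fiberMod [Module.Projective R M] (t' t : Ideal R) [t'.IsPrime] [t.IsPrime]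
    (hle : t' ≤ t) {a : R} (ha : a ∉ t) {π τ : S} (hτ : τ ∈ t.map (algebraMap R S))
    (haπ : algebraMap R S a = π + τ) (x : fiberMod t' S M) (hx : π • x = 0) : x = 0 := by
  have hunit : ∀ y : t.primeCompl, IsUnit (algebraMap R t'.ResidueField y) := by
    intro y
    rw [isUnit_iff_ne_zero, ne_eq, Ideal.algebraMap_residueField_eq_zero]
    exact fun h => y.2 (hle h)
  let φ : Localization.AtPrime t →+* t'.ResidueField := IsLocalization.lift hunit
  let : Algebra (Localization.AtPrime t) t'.ResidueField := φ.toAlgebra
  have : IsScalarTower R (Localization.AtPrime t) t'.ResidueField :=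
    IsScalarTower.of_algebraMap_eq (fun r => (IsLocalization.lift_eq hunit r).symm)
  have hinj : Function.Injective
      (((LinearMap.lsmul S M π).restrictScalars R).rTensor t'.ResidueField) :=
    (LinearMap.lTensor_inj_iff_rTensor_inj _ _).1
      (lTensor_lsmul_injective t ha hτ haπ t'.ResidueField)
  apply toTensor_injective t'
  apply hinj
  rw [map_zero, map_zero, Groth.Agent.S1200.rTensor_lsmul, ← map_smul, hx, map_zero]

/-- Stacks 38.14.1 in direct form: over a generization `t' ≤ t`, every fibrewise associated point of a module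
projective over the base specializes to a point over `t`. -/
theorem exists_prime_over [Module.Projective R M] (t' t : Ideal R) [t'.IsPrime] [t.IsPrime]
    (hle : t' ≤ t) (P : Ideal S) [P.IsPrime]
    (hass : fiberIdeal t' P ∈ associatedPrimes (t'.Fiber S) (fiberMod t' S M)) :
    ∃ P' : Ideal S, P'.IsPrime ∧ P ≤ P' ∧ P'.LiesOver t := by
  by_contra hno
  push Not at hno
  have hnd : ¬ Disjoint ((P ⊔ t.map (algebraMap R S) : Ideal S) : Set S)
      (Algebra.algebraMapSubmonoid S t.primeCompl : Set S) := by
    intro hd
    obtain ⟨P', hP', hle', hdisj⟩ := Ideal.exists_le_prime_disjoint _ _ hd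
    refine hno P' hP' (le_sup_left.trans hle') ⟨?_⟩
    apply le_antisymm
    · intro r hr
      exact hle' (Ideal.mem_sup_right (Ideal.mem_map_of_mem _ hr))
    · intro r hr
      by_contra hrt
      exact Set.disjoint_left.mp hdisj hr ⟨r, hrt, rfl⟩
  obtain ⟨y, hyI, hyM⟩ := Set.not_disjoint_iff.mp hnd
  obtain ⟨a, ha, rfl⟩ := hyM
  obtain ⟨π, hπ, τ, hτ, hsum⟩ := Submodule.mem_sup.mp hyI
  obtain ⟨hprime, x, hx⟩ := hass
  have hmem : algebraMap S (t'.Fiber S) π ∈ fiberIdeal t' P := Ideal.mem_map_of_mem _ hπ
  rw [hx] at hmem
  obtain ⟨n, hn⟩ := hmem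
  rw [Submodule.mem_colon_singleton, Submodule.mem_bot] at hn
  have hx0 : x = 0 := by
    have key : ∀ n : ℕ, (π ^ n) • x = 0 → x = 0 := by
      intro n
      induction n with
      | zero => intro h; simpa using h
      | succ n ih =>
        intro h
        apply ih
        apply smul_injective_fiberMod t' t hle ha hτ hsum.symm
        rw [← mul_smul, ← pow_succ']
        exact h
    apply key n
    rw [← algebraMap_smul (t'.Fiber S) (π ^ n) x, map_pow]
    exact hn
  apply hprime.ne_top
  rw [hx, hx0, Ideal.eq_top_iff_one]
  apply Ideal.le_radical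
  rw [Submodule.mem_colon_singleton, smul_zero]
  exact Submodule.zero_mem _

/-- base change of a projective module along a pushout square stays projective. -/
theorem projective_of_isPushout {A B A' B' N N' : Type u} [CommRing A] [CommRing B] [CommRing A']
    [CommRing B'] [Algebra A B] [Algebra A A'] [Algebra B B'] [Algebra A' B'] [Algebra A B']
    [IsScalarTower A B B'] [IsScalarTower A A' B'] [AddCommGroup N] [Module B N] [Module A N]
    [IsScalarTower A B N] [AddCommGroup N'] [Module B' N'] [Module B N'] [IsScalarTower B B' N']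
    [Module A' N'] [IsScalarTower A' B' N'] (hpush : Algebra.IsPushout A B A' B') (f : N →ₗ[B] N')
    (hf : IsBaseChange B' f) [Module.Projective A N] : Module.Projective A' N' := by
  have : Algebra.IsPushout A A' B B' := hpush.symm
  let e1 : N' ≃ₗ[A'] B' ⊗[B] N := (hf.equiv.restrictScalars A').symm
  let e2 : B' ⊗[B] N ≃ₗ[A'] A' ⊗[A] N := Algebra.IsPushout.cancelBaseChange A A' B B' N
  exact Module.Projective.of_equiv (e1.trans e2).symm

end Main

end Groth.Agent.Lib.R2H4.PureProj
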