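import Mathlib
import Groth.Prelude.Def_FlatCA
import Groth.Agent.S1224
import Groth.Agent.Lib.Helper13Fiber
import Groth.Agent.Lib.Helper3FlatLocA
import Groth.Agent.Lib.R2H4FibRegSeq
import Groth.Agent.Lib.R2H4PureProj

/-!
# helper4 (round 2): weakly associated primes of `N ⊗ X` lie in the relative assassin; universal injectivity of
flat base changes hitting the relative assassin (Stacks 38.12)
-/

set_option autoImplicit false
set_option linter.style.haveILetI false
universe u

namespace Groth.Agent.Lib.R2H4.RelAssInj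

open TensorProduct FlatCA Groth.Agent.Helper13Fiber

attribute [local instance] Algebra.TensorProduct.rightAlgebra

section Fibre

variable {R : Type u} [CommRing R] {S : Type u} [CommRing S] [Algebra R S]
  (N : Type u) [AddCommGroup N] [Module S N] [Module R N] [IsScalarTower R S N]
  (p : Ideal R) [p.IsPrime] (q : Ideal S) [q.IsPrime] [q.LiesOver p]

/-- the extension of a prime over `p` to the fibre ring is the corresponding prime. -/
theorem fiberIdeal_isPrime : (fiberIdeal p q).IsPrime := by
  let Q : p.primesOver S := ⟨q, ⟨inferInstance, inferInstance⟩⟩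
  let 𝔓 := (PrimeSpectrum.primesOverOrderIsoFiber R S p) Q
  have h1 : 𝔓.1.comap Algebra.TensorProduct.includeRight = q := by
    have := PrimeSpectrum.coe_primesOverOrderIsoFiber_symm_apply (R := R) (S := S) (p := p) 𝔓
    rw [OrderIso.symm_apply_apply] at this
    exact this.symm
  have h2 : fiberIdeal p q = 𝔓.1 := by
    apply le_antisymm
    · unfold fiberIdeal
      rw [Ideal.map_le_iff_le_comap]
      exact h1.symm.le
    · intro f hf
      obtain ⟨u, hu, s, hus⟩ := exists_isUnit_mul_eq_algebraMap p S f
      have hs : s ∈ q := by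
        rw [← h1, Ideal.mem_comap]
        change algebraMap S (p.Fiber S) s ∈ _
        rw [← hus]
        exact Ideal.mul_mem_left _ _ hf
      have h3 : f = ↑(hu.unit⁻¹) * algebraMap S (p.Fiber S) s := by
        rw [← hus, ← mul_assoc, IsUnit.val_inv_mul, one_mul]
      rw [h3]
      exact Ideal.mul_mem_left _ _ (Ideal.mem_map_of_mem _ hs)
  rw [h2]
  exact 𝔓.2

theorem algebraMap_mem_fiberIdeal_iff (s : S) :
    algebraMap S (p.Fiber S) s ∈ fiberIdeal p q ↔ s ∈ q := by
  constructor
  · intro h
    rw [← Groth.Agent.S1224.comap_fiberIdeal p q]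
    exact h
  · intro h
    exact Ideal.mem_map_of_mem _ h

omit [Module R N] [IsScalarTower R S N] in
/-- prime avoidance on the fibre: if the point `q` is not an associated point of the fibre module, some `g ∈ q` is
a nonzerodivisor on the fibre module near `q`. -/
theorem exists_regular_of_not_mem_ass [Algebra.FiniteType R S] [Module.Finite S N]
    (hq : fiberIdeal p q ∉ associatedPrimes (p.Fiber S) (fiberMod p S N)) :
    ∃ g ∈ q, ∀ y : fiberMod p S N, g • y = 0 → ∃ s ∉ q, s • y = 0 := by
  classical
  haveI : IsNoetherianRing (p.Fiber S) :=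
    Algebra.FiniteType.isNoetherianRing p.ResidueField (p.Fiber S)
  haveI : Module.Finite (p.Fiber S) (fiberMod p S N) :=
    inferInstanceAs (Module.Finite (p.Fiber S) ((p.Fiber S) ⊗[S] N))
  haveI hQprime : (fiberIdeal p q).IsPrime := fiberIdeal_isPrime p q
  have hfin : (associatedPrimes (p.Fiber S) (fiberMod p S N)).Finite :=
    associatedPrimes.finite (p.Fiber S) (fiberMod p S N)
  set 𝒜 : Finset (Ideal (p.Fiber S)) := hfin.toFinset.filter (· ≤ fiberIdeal p q) with h𝒜
  have hmem𝒜 : ∀ 𝔓, 𝔓 ∈ 𝒜 ↔ 𝔓 ∈ associatedPrimes (p.Fiber S) (fiberMod p S N) ∧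
      𝔓 ≤ fiberIdeal p q := by
    intro 𝔓
    rw [h𝒜, Finset.mem_filter, Set.Finite.mem_toFinset]
  -- prime avoidance
  have havoid : ¬ ((fiberIdeal p q : Set (p.Fiber S)) ⊆ ⋃ 𝔓 ∈ (𝒜 : Set (Ideal (p.Fiber S))), (𝔓 : Set (p.Fiber S))) := by
    intro hsub
    have hp' : ∀ i ∈ 𝒜, i ≠ (⊥ : Ideal (p.Fiber S)) → i ≠ (⊥ : Ideal (p.Fiber S)) →
        (id i : Ideal (p.Fiber S)).IsPrime := by
      intro i hi _ _
      exact ((hmem𝒜 i).1 hi).1.isPrime
    obtain ⟨𝔓, h𝔓, hle⟩ := (Ideal.subset_union_prime (s := 𝒜) (f := id) ⊥ ⊥ hp').1 hsub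
    obtain ⟨h1, h2⟩ := (hmem𝒜 𝔓).1 h𝔓
    exact hq (le_antisymm hle h2 ▸ h1)
  obtain ⟨gbar, hgQ, hgU⟩ := Set.not_subset.1 havoid
  obtain ⟨u, hu, g, hug⟩ := exists_isUnit_mul_eq_algebraMap p S gbar
  have hgq : g ∈ q := by
    rw [← algebraMap_mem_fiberIdeal_iff p q, ← hug]
    exact Ideal.mul_mem_left _ _ hgQ
  refine ⟨g, hgq, fun y hy => ?_⟩
  by_contra hcon
  push Not at hcon
  -- `gbar • y = 0`
  have hgy : gbar • y = 0 := by
    rw [← algebraMap_smul (p.Fiber S) g y, ← hug, mul_smul] at hy
    exact (hu.smul_eq_zero).1 hy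
  -- the annihilator of `y` is contained in the extension of `q`
  have hJ : (⊥ : Submodule (p.Fiber S) (fiberMod p S N)).colon {y} ≤ fiberIdeal p q := by
    intro f hf
    rw [Submodule.mem_colon_singleton, Submodule.mem_bot] at hf
    obtain ⟨v, hv, s, hvs⟩ := exists_isUnit_mul_eq_algebraMap p S f
    have hsy : s • y = 0 := by
      rw [← algebraMap_smul (p.Fiber S) s y, ← hvs, mul_smul, hf, smul_zero]
    have hsq : s ∈ q := by
      by_contra hsq
      exact hcon s hsq hsy
    have h3 : f = ↑(hv.unit⁻¹) * algebraMap S (p.Fiber S) s := by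
      rw [← hvs, ← mul_assoc, IsUnit.val_inv_mul, one_mul]
    rw [h3]
    exact Ideal.mul_mem_left _ _ (Ideal.mem_map_of_mem _ hsq)
  obtain ⟨𝔓, h𝔓min, h𝔓le⟩ := Ideal.exists_minimalPrimes_le hJ
  obtain ⟨x', hx'⟩ := Submodule.exists_eq_colon_of_mem_minimalPrimes h𝔓min
  have h𝔓ass : 𝔓 ∈ associatedPrimes (p.Fiber S) (fiberMod p S N) := by
    rw [AssociatedPrimes.mem_iff, isAssociatedPrime_iff]
    exact ⟨h𝔓min.1.1, x', hx'⟩
  apply hgU
  refine Set.mem_biUnion (x := 𝔓) ((Finset.mem_coe).2 ((hmem𝒜 𝔓).2 ⟨h𝔓ass, h𝔓le⟩)) ?_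
  apply h𝔓min.1.2
  rw [Submodule.mem_colon_singleton, Submodule.mem_bot]
  exact hgy

end Fibre

section Main

variable {R : Type u} [CommRing R] {S : Type u} [CommRing S] [Algebra R S]
  (N : Type u) [AddCommGroup N] [Module S N] [Module R N] [IsScalarTower R S N]

theorem toTensor_surjective (p : Ideal R) [p.IsPrime] :
    Function.Surjective (Groth.Agent.Helper13Fiber.toTensor p S N) := by
  unfold Groth.Agent.Helper13Fiber.toTensor
  rw [LinearMap.coe_comp, LinearMap.coe_comp]
  refine (LinearEquiv.surjective _).comp ((LinearEquiv.surjective _).comp ?_)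
  exact (LinearEquiv.rTensor N
    (Algebra.TensorProduct.commRight R S p.ResidueField).symm.toLinearEquiv).surjective

/-- **Weakly associated points of `N ⊗ X` lie in the relative assassin** (Stacks 38.13, one direction): for a
finitely presented algebra `R → S` and a finitely presented `S`-module `N` flat over `R`, a prime minimal over the
annihilator of an element of `N ⊗[R] X` extends to an associated prime of the fibre module. -/
theorem fiberIdeal_mem_ass_of_mem_minimalPrimes [Algebra.FinitePresentation R S]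
    [Module.FinitePresentation S N] [Module.Flat R N] (X : Type u) [AddCommGroup X] [Module R X]
    (z : N ⊗[R] X) (p : Ideal R) [p.IsPrime] (q : Ideal S) [q.IsPrime] [q.LiesOver p]
    (hq : q ∈ (Submodule.span S {z}).annihilator.minimalPrimes) :
    fiberIdeal p q ∈ associatedPrimes (p.Fiber S) (fiberMod p S N) := by
  by_contra hnot
  haveI : Algebra.FiniteType R S := inferInstance
  haveI : Module.Finite S N := inferInstance
  obtain ⟨g, hgq, hreg⟩ := exists_regular_of_not_mem_ass N p q hnot
  have hreg' : ∀ y : N ⊗[R] p.ResidueField, g • y = 0 → ∃ s ∈ q.primeCompl, s • y = 0 := by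
    intro y hy
    obtain ⟨y', rfl⟩ := toTensor_surjective (S := S) N p y
    have h1 : g • y' = 0 := by
      apply Groth.Agent.Lib.R2H4.PureProj.toTensor_injective (S := S) (M := N) p
      rw [map_smul, hy, map_zero]
    obtain ⟨s, hs, hsy⟩ := hreg y' h1
    exact ⟨s, hs, by rw [← map_smul, hsy, map_zero]⟩
  have hflat : Module.Flat R (LocalizedModule q.primeCompl N) :=
    Groth.Agent.Lib.Helper3.FlatLoc.flat_localizedModule_of_flat q.primeCompl
  have key := Groth.Agent.Lib.R2H4.FibRegSeq.exists_smul_eq_zero_of_local R S N q p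
    (Ideal.LiesOver.over (p := p) (P := q)) g hflat hreg' X
  set I := (Submodule.span S {z}).annihilator with hI
  have hImem : ∀ a : S, a ∈ I ↔ a • z = 0 := fun a => Submodule.mem_annihilator_span_singleton _ _
  -- no `t g^n` with `t ∉ q` kills `z`
  have hnone : ∀ n : ℕ, ∀ t : S, t ∉ q → t * g ^ n ∈ I → False := by
    intro n
    induction n with
    | zero =>
      intro t ht htI
      rw [pow_zero, mul_one] at htI
      exact ht (hq.1.2 htI)
    | succ n ih =>
      intro t ht htI
      rw [hImem] at htI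
      have h1 : g • ((t * g ^ n) • z) = 0 := by
        rw [smul_smul, ← htI]
        congr 1
        ring
      obtain ⟨t', ht', h2⟩ := key _ h1
      refine ih (t' * t) (fun h => (Ideal.IsPrime.mem_or_mem inferInstance h).elim ht' ht) ?_
      rw [hImem, mul_assoc, mul_smul]
      exact h2
  -- but minimality gives such an element
  have hrad := IsLocalization.AtPrime.radical_map_of_mem_minimalPrimes
    (A := Localization.AtPrime q) q I hq
  have hg1 : algebraMap S (Localization.AtPrime q) g ∈
      (I.map (algebraMap S (Localization.AtPrime q))).radical := by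
    rw [hrad]
    exact Ideal.mem_map_of_mem _ hgq
  obtain ⟨n, hn⟩ := hg1
  rw [← map_pow, IsLocalization.mem_map_algebraMap_iff q.primeCompl] at hn
  obtain ⟨⟨a, t⟩, hat⟩ := hn
  rw [← map_mul, IsLocalization.eq_iff_exists q.primeCompl] at hat
  obtain ⟨c, hc⟩ := hat
  refine hnone n (c.1 * t.1) (fun h => (Ideal.IsPrime.mem_or_mem inferInstance h).elim c.2 t.2) ?_
  have : c.1 * t.1 * g ^ n = c.1 * a.1 := by
    rw [← hc]
    ring
  rw [this]
  exact I.mul_mem_left _ a.2

end Main

section FlatKernel

variable {S : Type u} [CommRing S] {S' : Type u} [CommRing S'] [Algebra S S'] [Module.Flat S S']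
  {W : Type u} [AddCommGroup W] [Module S W]

/-- For a flat algebra `S → S'`, an element of `W` dying in `S' ⊗ W` has annihilator generating the unit ideal of
`S'`. -/
theorem map_annihilator_eq_top_of_tmul_eq_zero (z : W) (hz : (1 : S') ⊗ₜ[S] z = 0) :
    ((Submodule.span S {z}).annihilator).map (algebraMap S S') = ⊤ := by
  set I := (Submodule.span S {z}).annihilator with hI
  have hImem : ∀ a : S, a ∈ I ↔ a • z = 0 := fun a => Submodule.mem_annihilator_span_singleton _ _
  have hle : I ≤ LinearMap.ker (LinearMap.toSpanSingleton S W z) := by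
    intro a ha
    rw [LinearMap.mem_ker, LinearMap.toSpanSingleton_apply]
    exact (hImem a).1 ha
  let φ : S ⧸ I →ₗ[S] W := Submodule.liftQ I (LinearMap.toSpanSingleton S W z) hle
  have hφ : Function.Injective φ := by
    rw [← LinearMap.ker_eq_bot]
    apply Submodule.ker_liftQ_eq_bot
    intro a ha
    rw [LinearMap.mem_ker, LinearMap.toSpanSingleton_apply] at ha
    exact (hImem a).2 ha
  have hψ : Function.Injective (φ.lTensor S') :=
    Module.Flat.lTensor_preserves_injective_linearMap φ hφ
  have h1 : (1 : S') ⊗ₜ[S] (Ideal.Quotient.mk I 1) = 0 := by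
    apply hψ
    rw [map_zero, LinearMap.lTensor_tmul]
    have : φ (Ideal.Quotient.mk I 1) = z := by
      change φ (Submodule.Quotient.mk 1) = z
      rw [Submodule.liftQ_apply, LinearMap.toSpanSingleton_apply, one_smul]
    rw [this, hz]
  have h2 := congrArg (TensorProduct.tensorQuotEquivQuotSMul S' I) h1
  rw [TensorProduct.tensorQuotEquivQuotSMul_tmul_mk, one_smul, map_zero,
    Submodule.Quotient.mk_eq_zero] at h2
  rw [Ideal.eq_top_iff_one]
  refine Submodule.smul_induction_on (p := fun x => x ∈ I.map (algebraMap S S')) h2 ?_ ?_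
  · intro r hr x _
    rw [Algebra.smul_def]
    exact Ideal.mul_mem_right _ _ (Ideal.mem_map_of_mem _ hr)
  · intro x y hx hy
    exact Ideal.add_mem _ hx hy

end FlatKernel

section S1195

variable {R S S' : Type u} [CommRing R] [CommRing S] [CommRing S'] [Algebra R S] [Algebra S S']
  [Algebra R S'] [IsScalarTower R S S']

/-- Stacks 38.12 (finitely presented case): a flat `S`-algebra whose spectrum hits the relative assassin of `N`
makes `N → S' ⊗ N` universally injective over `R`. -/
theorem univInj_mk_of_flat_covering [Algebra.FinitePresentation R S] [Module.Flat S S']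
    (N : Type u) [AddCommGroup N] [Module S N] [Module R N] [IsScalarTower R S N]
    [Module.FinitePresentation S N] [Module.Flat R N]
    (h : ∀ (p : Ideal R) (q : Ideal S) [p.IsPrime] [q.IsPrime] [q.LiesOver p],
      fiberIdeal p q ∈ associatedPrimes (p.Fiber S) (fiberMod p S N) →
      ∃ q' : Ideal S', q'.IsPrime ∧ q'.comap (algebraMap S S') = q) :
    UnivInj R ((TensorProduct.mk S S' N 1).restrictScalars R) := by
  intro Q _ _
  rw [LinearMap.lTensor_inj_iff_rTensor_inj, injective_iff_map_eq_zero]
  intro z hz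
  let e := AlgebraTensorModule.assoc R S S' S' N Q
  have he : ∀ w : N ⊗[R] Q, e (((TensorProduct.mk S S' N 1).restrictScalars R).rTensor Q w) =
      (1 : S') ⊗ₜ[S] w := by
    intro w
    induction w using TensorProduct.induction_on with
    | zero => simp
    | tmul n x => rfl
    | add a b ha hb => rw [map_add, map_add, ha, hb, TensorProduct.tmul_add]
  have h1 : (1 : S') ⊗ₜ[S] z = 0 := by rw [← he, hz, map_zero]
  have htop := map_annihilator_eq_top_of_tmul_eq_zero z h1
  by_contra hz0
  set I := (Submodule.span S {z}).annihilator with hI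
  have hIne : I ≠ ⊤ := by
    intro hItop
    apply hz0
    have : (1 : S) ∈ I := hItop ▸ Submodule.mem_top
    rw [hI, Submodule.mem_annihilator_span_singleton, one_smul] at this
    exact this
  obtain ⟨q, hq⟩ := Ideal.nonempty_minimalPrimes hIne
  haveI : q.IsPrime := hq.1.1
  haveI : q.LiesOver (q.under R) := ⟨rfl⟩
  obtain ⟨q', hq', hq'q⟩ := h (q.under R) q
    (fiberIdeal_mem_ass_of_mem_minimalPrimes N Q z (q.under R) q hq)
  apply hq'.ne_top
  rw [← top_le_iff, ← htop, Ideal.map_le_iff_le_comap, hq'q]
  exact hq.1.2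

end S1195

end Groth.Agent.Lib.R2H4.RelAssInj
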