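import Mathlib
import Groth.Prelude.Def_FlatCA
import Groth.Agent.S1200
import Groth.Agent.Lib.Helper13Fiber
import Groth.Agent.Lib.R2H4FibRegSeq
import Groth.Agent.Lib.R2H4PureProj
import Groth.Agent.Lib.R2H4RelAssInj

/-!
# helper4 (round 2): local rings essentially of finite presentation: Stacks 38.7.2 / 38.7.3
-/

set_option autoImplicit false
set_option linter.style.haveILetI false
universe u

namespace Groth.Agent.Lib.R2H4.LocEssFP

open TensorProduct FlatCA

section Descent

variable {S₀ S : Type u} [CommRing S₀] [CommRing S] [Algebra S₀ S]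

/-- a finitely presented module over a localization descends to a finitely presented module. -/
theorem exists_fp_descent (T : Submonoid S₀) [IsLocalization T S] (N : Type u) [AddCommGroup N]
    [Module S N] [Module S₀ N] [IsScalarTower S₀ S N] [Module.FinitePresentation S N] :
    ∃ (N₀ : Type u) (_ : AddCommGroup N₀) (_ : Module S₀ N₀) (f : N₀ →ₗ[S₀] N),
      Module.FinitePresentation S₀ N₀ ∧ IsLocalizedModule T f := by
  classical
  obtain ⟨s, hs, hK⟩ := (inferInstance : Module.FinitePresentation S N).out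
  set π : (s →₀ S) →ₗ[S] N := Finsupp.linearCombination S ((↑) : s → N) with hπ
  have hπsurj : Function.Surjective π := by
    rw [← LinearMap.range_eq_top, hπ, Finsupp.range_linearCombination, Subtype.range_coe_subtype]
    simpa using hs
  obtain ⟨σ, hσ⟩ := hK
  let ι : (s →₀ S₀) →ₗ[S₀] (s →₀ S) := Finsupp.mapRange.linearMap (Algebra.linearMap S₀ S)
  haveI : IsLocalizedModule T ι := inferInstance
  -- clear denominators
  have hden : ∀ k : s →₀ S, ∃ x : (s →₀ S₀) × T, x.2 • k = ι x.1 := IsLocalizedModule.surj T ι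
  choose d hd using hden
  let gens : Set (s →₀ S₀) := (fun k => (d k).1) '' (σ : Set (s →₀ S))
  let K₀ : Submodule S₀ (s →₀ S₀) := Submodule.span S₀ gens
  have hK₀fg : K₀.FG := Submodule.fg_span ((Finset.finite_toSet σ).image _)
  have hloc : K₀.localized' S T ι = LinearMap.ker π := by
    rw [Submodule.localized'_span, ← hσ]
    apply le_antisymm
    · rw [Submodule.span_le]
      rintro _ ⟨_, ⟨k, hk, rfl⟩, rfl⟩
      rw [← hd k]
      rw [SetLike.mem_coe, Submonoid.smul_def, ← algebraMap_smul S ((d k).2 : S₀) k]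
      exact Submodule.smul_mem _ _ (Submodule.subset_span hk)
    · rw [Submodule.span_le]
      intro k hk
      have h1 : ι (d k).1 ∈ Submodule.span S (ι '' gens) :=
        Submodule.subset_span ⟨_, ⟨k, hk, rfl⟩, rfl⟩
      rw [← hd k, Submonoid.smul_def, ← algebraMap_smul S ((d k).2 : S₀) k] at h1
      have hu : IsUnit (algebraMap S₀ S (d k).2) := IsLocalization.map_units S (d k).2
      obtain ⟨v, hv⟩ := hu
      have h2 := Submodule.smul_mem _ (↑v⁻¹ : S) h1
      rwa [← hv, smul_smul, Units.inv_mul, one_smul] at h2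
  let e₁ : ((s →₀ S) ⧸ K₀.localized' S T ι) ≃ₗ[S] ((s →₀ S) ⧸ LinearMap.ker π) :=
    Submodule.quotEquivOfEq _ _ hloc
  let e₂ : ((s →₀ S) ⧸ LinearMap.ker π) ≃ₗ[S] N := π.quotKerEquivOfSurjective hπsurj
  let e : ((s →₀ S) ⧸ K₀.localized' S T ι) ≃ₗ[S₀] N := (e₁ ≪≫ₗ e₂).restrictScalars S₀
  refine ⟨(s →₀ S₀) ⧸ K₀, inferInstance, inferInstance,
    e.toLinearMap ∘ₗ K₀.toLocalizedQuotient' S T ι, ?_, inferInstance⟩
  exact Module.finitePresentation_of_free_of_surjective K₀.mkQ (Submodule.mkQ_surjective _)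
    (by rw [Submodule.ker_mkQ]; exact hK₀fg)

theorem isLocalizedModule_of_le {N₀ N : Type u} [AddCommGroup N₀] [Module S₀ N₀] [AddCommGroup N]
    [Module S₀ N] (T T' : Submonoid S₀) (hTT' : T ≤ T') (f : N₀ →ₗ[S₀] N) [IsLocalizedModule T f]
    (hu : ∀ x : T', IsUnit (algebraMap S₀ (Module.End S₀ N) x)) : IsLocalizedModule T' f where
  map_units := hu
  surj y := by
    obtain ⟨⟨x, t⟩, h⟩ := IsLocalizedModule.surj T f y
    exact ⟨⟨x, ⟨t.1, hTT' t.2⟩⟩, h⟩
  exists_of_eq h := by
    obtain ⟨c, hc⟩ := IsLocalizedModule.exists_of_eq (S := T) h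
    exact ⟨⟨c.1, hTT' c.2⟩, hc⟩

theorem isUnit_algebraMap_end_of_isUnit {N : Type u} [AddCommGroup N] [Module S N] [Module S₀ N]
    [IsScalarTower S₀ S N] {x : S₀} (hx : IsUnit (algebraMap S₀ S x)) :
    IsUnit (algebraMap S₀ (Module.End S₀ N) x) := by
  obtain ⟨v, hv⟩ := hx
  rw [Module.End.isUnit_iff]
  constructor
  · intro n n' h
    simp only [Module.algebraMap_end_apply] at h
    rw [← algebraMap_smul S x n, ← algebraMap_smul S x n', ← hv] at h
    have := congrArg (fun y => (↑v⁻¹ : S) • y) h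
    simpa [smul_smul] using this
  · intro n
    refine ⟨(↑v⁻¹ : S) • n, ?_⟩
    simp only [Module.algebraMap_end_apply]
    rw [← algebraMap_smul S x, ← hv, smul_smul, Units.mul_inv, one_smul]

end Descent

section Core

variable {R S₀ S : Type u} [CommRing R] [CommRing S₀] [CommRing S] [Algebra R S₀] [Algebra S₀ S]
  [Algebra R S] [IsScalarTower R S₀ S]

/-- Core: regular on the closed fibre implies universally regular, over a local ring which is a localization of a
finitely presented algebra, given a finitely presented model of the module. -/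
theorem core [Algebra.FinitePresentation R S₀] (T : Submonoid S₀) [IsLocalization T S] [IsLocalRing S]
    (N : Type u) [AddCommGroup N] [Module S N] [Module R N] [IsScalarTower R S N] [Module S₀ N]
    [IsScalarTower S₀ S N] [IsScalarTower R S₀ N] [Module.Flat R N]
    (N₀ : Type u) [AddCommGroup N₀] [Module S₀ N₀] [Module R N₀] [IsScalarTower R S₀ N₀]
    [Module.FinitePresentation S₀ N₀] (f : N₀ →ₗ[S₀] N) [IsLocalizedModule T f]
    (p : Ideal R) [p.IsPrime] (hp : p = (IsLocalRing.maximalIdeal S).comap (algebraMap R S))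
    (s : S) (hs : ∀ y : N ⊗[R] p.ResidueField, s • y = 0 → y = 0)
    (X : Type u) [AddCommGroup X] [Module R X] (z : N ⊗[R] X) (hz : s • z = 0) : z = 0 := by
  classical
  set q₀ : Ideal S₀ := (IsLocalRing.maximalIdeal S).comap (algebraMap S₀ S) with hq₀
  haveI : q₀.IsPrime := Ideal.comap_isPrime _ _
  have hunitS : ∀ x : S₀, x ∉ q₀ → IsUnit (algebraMap S₀ S x) := by
    intro x hx
    by_contra h
    exact hx ((IsLocalRing.mem_maximalIdeal _).2 h)
  have hTq : T ≤ q₀.primeCompl := by
    intro t ht hmem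
    exact ((IsLocalRing.mem_maximalIdeal _).1 hmem) (IsLocalization.map_units S ⟨t, ht⟩)
  haveI hloc : IsLocalizedModule q₀.primeCompl f :=
    isLocalizedModule_of_le T q₀.primeCompl hTq f
      (fun x => isUnit_algebraMap_end_of_isUnit (S := S) (hunitS x.1 x.2))
  have hflat : Module.Flat R (LocalizedModule q₀.primeCompl N₀) :=
    Module.Flat.of_linearEquiv ((IsLocalizedModule.iso q₀.primeCompl f).restrictScalars R)
  have hp' : p = q₀.comap (algebraMap R S₀) := by
    rw [hp, hq₀, Ideal.comap_comap, ← IsScalarTower.algebraMap_eq]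
  obtain ⟨⟨a₀, t₀⟩, hat⟩ := IsLocalization.surj T s
  have hat' : s * algebraMap S₀ S t₀ = algebraMap S₀ S a₀ := hat
  -- action of `a₀` in terms of `s`
  have hact : ∀ (Y : Type u) [AddCommGroup Y] [Module R Y] (w : N ⊗[R] Y),
      a₀ • w = s • ((t₀ : S₀) • w) := by
    intro Y _ _ w
    rw [← algebraMap_smul S a₀ w, ← hat', mul_smul, algebraMap_smul]
  have hreg : ∀ y₀ : N₀ ⊗[R] p.ResidueField, a₀ • y₀ = 0 → ∃ s' ∈ q₀.primeCompl, s' • y₀ = 0 := by
    intro y₀ hy₀
    let fκ := AlgebraTensorModule.rTensor R p.ResidueField f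
    have h1 : s • ((t₀ : S₀) • fκ y₀) = 0 := by
      rw [← hact, ← map_smul, hy₀, map_zero]
    have h2 : fκ ((t₀ : S₀) • y₀) = 0 := by
      rw [map_smul]
      exact hs _ h1
    obtain ⟨c, hc⟩ := (IsLocalizedModule.eq_zero_iff T fκ).1 h2
    refine ⟨c.1 * t₀.1, ?_, ?_⟩
    · exact q₀.primeCompl.mul_mem (hTq c.2) (hTq t₀.2)
    · rw [mul_smul]
      exact hc
  have key := Groth.Agent.Lib.R2H4.FibRegSeq.exists_smul_eq_zero_of_local R S₀ N₀ q₀ p hp' a₀
    hflat hreg X
  let fX := AlgebraTensorModule.rTensor R X f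
  obtain ⟨⟨z₀, t₁⟩, hz₀⟩ := IsLocalizedModule.surj T fX z
  have hz₀' : (t₁ : S₀) • z = fX z₀ := hz₀
  have hcomm : ∀ (x : S₀) (w : N ⊗[R] X), s • (x • w) = x • (s • w) := by
    intro x w
    rw [← algebraMap_smul S x w, ← algebraMap_smul S x (s • w), smul_smul, smul_smul, mul_comm]
  have h3 : fX (a₀ • z₀) = 0 := by
    rw [map_smul, ← hz₀', hact, hcomm, hcomm, hz, smul_zero, smul_zero]
  obtain ⟨c, hc⟩ := (IsLocalizedModule.eq_zero_iff T fX).1 h3
  have h4 : a₀ • ((c : S₀) • z₀) = 0 := by
    rw [smul_comm]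
    exact hc
  obtain ⟨t, ht, htz⟩ := key _ h4
  have h5 : (t * c.1 * t₁.1) • z = 0 := by
    rw [mul_smul, hz₀', ← map_smul, mul_smul, htz, map_zero]
  have hu : IsUnit (algebraMap S₀ S (t * c.1 * t₁.1)) := by
    apply hunitS
    exact q₀.primeCompl.mul_mem (q₀.primeCompl.mul_mem ht (hTq c.2)) (hTq t₁.2)
  obtain ⟨v, hv⟩ := hu
  rw [← algebraMap_smul S, ← hv] at h5
  have := congrArg (fun y => (↑v⁻¹ : S) • y) h5
  simpa [smul_smul] using this

end Core

section S1194

open IsLocalRing

attribute [local instance] Algebra.TensorProduct.rightAlgebra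

variable {R S : Type u} [CommRing R] [IsLocalRing R] [CommRing S] [IsLocalRing S] [Algebra R S]
  [IsLocalHom (algebraMap R S)] (hS : FlatCA.EssFinitePresentation R S)
  (N : Type u) [AddCommGroup N] [Module S N] [Module R N] [IsScalarTower R S N]
  [Module.FinitePresentation S N] [Module.Flat R N]

include hS in
/-- Stacks 38.7.2, elementwise: nonzerodivisors on the closed fibre module are universally regular. -/
theorem eq_zero_of_smul_eq_zero_of_mem_nzdFiber {s : S} (hs : s ∈ FlatCA.nzdFiber R S N)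
    (X : Type u) [AddCommGroup X] [Module R X] (z : N ⊗[R] X) (hz : s • z = 0) : z = 0 := by
  obtain ⟨S₀, _, _, _, _, T, hfp, hloc⟩ := hS
  letI : Module S₀ N := Module.compHom N (algebraMap S₀ S)
  haveI : IsScalarTower S₀ S N := IsScalarTower.of_algebraMap_smul (fun _ _ => rfl)
  haveI : IsScalarTower R S₀ N := IsScalarTower.of_algebraMap_smul (fun r n => by
    rw [← algebraMap_smul S (algebraMap R S₀ r) n, ← IsScalarTower.algebraMap_apply R S₀ S,
      algebraMap_smul])
  obtain ⟨N₀, _, _, f, hN₀fp, hf⟩ := exists_fp_descent (S := S) T N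
  letI : Module R N₀ := Module.compHom N₀ (algebraMap R S₀)
  haveI : IsScalarTower R S₀ N₀ := IsScalarTower.of_algebraMap_smul (fun _ _ => rfl)
  have hp : maximalIdeal R = (maximalIdeal S).comap (algebraMap R S) :=
    (IsLocalRing.maximalIdeal_comap (algebraMap R S)).symm
  have hs' : ∀ y : N ⊗[R] (maximalIdeal R).ResidueField, s • y = 0 → y = 0 := by
    intro y hy
    obtain ⟨y', rfl⟩ := Groth.Agent.Lib.R2H4.RelAssInj.toTensor_surjective (S := S) N (maximalIdeal R) y
    have h1 : s • y' = 0 := by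
      apply Groth.Agent.Lib.R2H4.PureProj.toTensor_injective (S := S) (M := N) (maximalIdeal R)
      rw [map_smul, hy, map_zero]
    rw [(mem_nonZeroSMulDivisors_iff.mp hs) y' h1, map_zero]
  exact core T N N₀ f (maximalIdeal R) hp s hs' X z hz

end S1194

end Groth.Agent.Lib.R2H4.LocEssFP
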