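import Mathlib
import Groth.Prelude.Def_FlatCA
import Groth.Agent.S1193
import Groth.Agent.Lib.R2H4LocEssFP

/-!
# helper4 (round 2): Stacks 38.7.3 for local rings essentially of finite presentation
-/

set_option autoImplicit false
set_option linter.style.haveILetI false
universe u

namespace Groth.Agent.Lib.R2H4.LocEssFP

open TensorProduct FlatCA

section General

variable {R S S' : Type u} [CommRing R] [CommRing S] [CommRing S'] [Algebra R S] [Algebra S S']
  [Algebra R S'] [IsScalarTower R S S']

/-- universal injectivity of `N → S' ⊗ N` from injectivity of `W → S' ⊗ W` for all `W = N ⊗ Q`. -/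
theorem univInj_mk_of_forall (N : Type u) [AddCommGroup N] [Module S N] [Module R N]
    [IsScalarTower R S N]
    (h : ∀ (Q : Type u) [AddCommGroup Q] [Module R Q] (z : N ⊗[R] Q),
      (1 : S') ⊗ₜ[S] z = 0 → z = 0) :
    UnivInj R ((TensorProduct.mk S S' N 1).restrictScalars R) := by
  intro Q _ _
  rw [LinearMap.lTensor_inj_iff_rTensor_inj, injective_iff_map_eq_zero]
  intro z hz
  let e := AlgebraTensorModule.assoc R S S' S' N Q
  have he : ∀ w : N ⊗[R] Q, e (((TensorProduct.mk S S' N 1).restrictScalars R).rTensor Q w) =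
      (1 : S') ⊗ₜ[S] w := by
    intro w
    induction w using TensorProduct.induction_on with
    | zero => simp
    | tmul n x => rfl
    | add a b ha hb => rw [map_add, map_add, ha, hb, TensorProduct.tmul_add]
  exact h Q z (by rw [← he, hz, map_zero])

/-- for flat `S → S'`: an element of `W` whose annihilator is contained in the contraction of a prime of `S'`
survives in `S' ⊗ W`. -/
theorem eq_zero_of_tmul_eq_zero_of_forall_exists_prime [Module.Flat S S'] {W : Type u}
    [AddCommGroup W] [Module S W] (z : W)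
    (h : z ≠ 0 → ∃ q' : Ideal S', q'.IsPrime ∧
      (Submodule.span S {z}).annihilator ≤ q'.comap (algebraMap S S'))
    (hz : (1 : S') ⊗ₜ[S] z = 0) : z = 0 := by
  by_contra hz0
  obtain ⟨q', hq', hle⟩ := h hz0
  have htop := Groth.Agent.Lib.R2H4.RelAssInj.map_annihilator_eq_top_of_tmul_eq_zero z hz
  apply hq'.ne_top
  rw [← top_le_iff, ← htop, Ideal.map_le_iff_le_comap]
  exact hle

theorem exists_pow_mul_mem_of_mem_minimalPrimes {A : Type u} [CommRing A] {I q : Ideal A}
    (hq : q ∈ I.minimalPrimes) {g : A} (hg : g ∈ q) : ∃ n : ℕ, ∃ t : A, t ∉ q ∧ t * g ^ n ∈ I := by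
  haveI : q.IsPrime := hq.1.1
  have hrad := IsLocalization.AtPrime.radical_map_of_mem_minimalPrimes
    (A := Localization.AtPrime q) q I hq
  have hg1 : algebraMap A (Localization.AtPrime q) g ∈
      (I.map (algebraMap A (Localization.AtPrime q))).radical := by
    rw [hrad]
    exact Ideal.mem_map_of_mem _ hg
  obtain ⟨n, hn⟩ := hg1
  rw [← map_pow, IsLocalization.mem_map_algebraMap_iff q.primeCompl] at hn
  obtain ⟨⟨a, t⟩, hat⟩ := hn
  rw [← map_mul, IsLocalization.eq_iff_exists q.primeCompl] at hat
  obtain ⟨c, hc⟩ := hat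
  refine ⟨n, c.1 * t.1, fun h => (Ideal.IsPrime.mem_or_mem inferInstance h).elim c.2 t.2, ?_⟩
  have : c.1 * t.1 * g ^ n = c.1 * a.1 := by
    rw [← hc]
    ring
  rw [this]
  exact I.mul_mem_left _ a.2

end General

section S1196

open IsLocalRing

attribute [local instance] Algebra.TensorProduct.rightAlgebra

variable {R S S' : Type u} [CommRing R] [IsLocalRing R] [CommRing S] [IsLocalRing S] [CommRing S']
  [Algebra R S] [IsLocalHom (algebraMap R S)] [Algebra S S'] [Algebra R S'] [IsScalarTower R S S']

/-- Stacks 38.7.3. -/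
theorem univInj_mk_of_flat_covering_closed_fibre (hS : FlatCA.EssFinitePresentation R S)
    [Module.Flat S S'] (N : Type u) [AddCommGroup N] [Module S N] [Module R N] [IsScalarTower R S N]
    [Module.FinitePresentation S N] [Module.Flat R N]
    (h : ∀ q ∈ associatedPrimes S (FlatCA.fiberMod (maximalIdeal R) S N),
      ∃ q' : Ideal S', q'.IsPrime ∧ q'.comap (algebraMap S S') = q) :
    UnivInj R ((TensorProduct.mk S S' N 1).restrictScalars R) := by
  haveI : Algebra.EssFiniteType R S := by
    obtain ⟨S₀, _, _, _, _, T, hfp, hloc⟩ := hS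
    haveI : Algebra.EssFiniteType S₀ S := Algebra.EssFiniteType.of_isLocalization S T
    exact Algebra.EssFiniteType.comp R S₀ S
  haveI : IsNoetherianRing ((maximalIdeal R).Fiber S) :=
    Algebra.EssFiniteType.isNoetherianRing (maximalIdeal R).ResidueField _
  haveI : Module.Finite ((maximalIdeal R).Fiber S) (FlatCA.fiberMod (maximalIdeal R) S N) :=
    inferInstanceAs (Module.Finite ((maximalIdeal R).Fiber S) (((maximalIdeal R).Fiber S) ⊗[S] N))
  have h1193 := (Groth.Agent.S1193.result (R := R) (S := S) N).1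
  apply univInj_mk_of_forall
  intro Q _ _ z hz
  refine eq_zero_of_tmul_eq_zero_of_forall_exists_prime z ?_ hz
  intro hz0
  set I := (Submodule.span S {z}).annihilator with hI
  have hImem : ∀ a : S, a ∈ I ↔ a • z = 0 := fun a => Submodule.mem_annihilator_span_singleton _ _
  have hIne : I ≠ ⊤ := by
    intro hItop
    apply hz0
    have : (1 : S) ∈ I := hItop ▸ Submodule.mem_top
    rw [hImem, one_smul] at this
    exact this
  obtain ⟨q, hq⟩ := Ideal.nonempty_minimalPrimes hIne
  haveI : q.IsPrime := hq.1.1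
  have hdisj : Disjoint (q : Set S) (FlatCA.nzdFiber R S N) := by
    rw [Set.disjoint_left]
    intro g hgq hgS
    obtain ⟨n, t, ht, htg⟩ := exists_pow_mul_mem_of_mem_minimalPrimes hq hgq
    have hpow : ∀ n : ℕ, ∀ w : N ⊗[R] Q, g ^ n • w = 0 → w = 0 := by
      intro n
      induction n with
      | zero => intro w hw; simpa using hw
      | succ n ih =>
        intro w hw
        apply ih
        apply eq_zero_of_smul_eq_zero_of_mem_nzdFiber hS N hgS Q
        rw [← mul_smul, ← pow_succ']
        exact hw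
    have h2 : t • z = 0 := hpow n _ (by rw [smul_smul, mul_comm]; exact (hImem _).1 htg)
    exact ht (hq.1.2 ((hImem t).2 h2))
  obtain ⟨q₁, hq₁, hle⟩ := (h1193 q).1 hdisj
  obtain ⟨q₁', hq₁', hq₁'q⟩ := h q₁ hq₁
  haveI : q₁.IsPrime := hq₁.isPrime
  haveI : q₁'.LiesOver q₁ := ⟨hq₁'q.symm⟩
  obtain ⟨q', hq'le, hq'prime, hq'over⟩ :=
    Ideal.exists_ideal_le_liesOver_of_le (p := q) (q := q₁) q₁' hle
  refine ⟨q', hq'prime, ?_⟩
  have : q'.comap (algebraMap S S') = q := hq'over.over.symm
  rw [this]
  exact hq.1.2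

end S1196

end Groth.Agent.Lib.R2H4.LocEssFP
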