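import Mathlib

set_option autoImplicit false
universe u
open AlgebraicGeometry CategoryTheory Limits

namespace Groth.Agent.Lib.R2H4.LocStrA

section Alg
variable (R : Type*) [CommRing R] (σ : Type*) [Finite σ]

/-- the (empty) family of relations. -/
def noRel : PEmpty.{1} → MvPolynomial σ R := PEmpty.elim

/-- the naive presentation of the polynomial ring, as a quotient by no relations. -/
noncomputable def mvPre : Algebra.PreSubmersivePresentation R
    (MvPolynomial σ R ⧸ Ideal.span (Set.range (noRel R σ))) σ PEmpty.{1} :=
  Algebra.PreSubmersivePresentation.naive (v := noRel R σ) PEmpty.elim (fun a => a.elim)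

noncomputable def mvSub : Algebra.SubmersivePresentation R
    (MvPolynomial σ R ⧸ Ideal.span (Set.range (noRel R σ))) σ PEmpty.{1} where
  __ := mvPre R σ
  jacobian_isUnit := by
    classical
    rw [Algebra.PreSubmersivePresentation.jacobian_eq_jacobiMatrix_det, Matrix.det_isEmpty,
      map_one]
    exact isUnit_one

noncomputable def quotEquiv :
    (MvPolynomial σ R ⧸ Ideal.span (Set.range (noRel R σ))) ≃ₐ[R] MvPolynomial σ R :=
  (Ideal.quotientEquivAlgOfEq R (by
    rw [show Set.range (noRel R σ) = ∅ from Set.range_eq_empty _, Ideal.span_empty])).trans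
    (AlgEquiv.quotientBot R (MvPolynomial σ R))

instance isStandardSmooth_mvPolynomial :
    Algebra.IsStandardSmoothOfRelativeDimension (Nat.card σ) R (MvPolynomial σ R) := by
  haveI : Algebra.IsStandardSmoothOfRelativeDimension (Nat.card σ) R
      (MvPolynomial σ R ⧸ Ideal.span (Set.range (noRel R σ))) :=
    (mvSub R σ).isStandardSmoothOfRelativeDimension (by
      simp [Algebra.Presentation.dimension])
  exact Algebra.IsStandardSmoothOfRelativeDimension.of_algEquiv (Nat.card σ) (quotEquiv R σ)

end Alg

section Sch
open AffineSpace

set_option backward.isDefEq.respectTransparency.types false in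
/-- affine `n`-space is smooth of relative dimension `n`. -/
theorem smoothOfRelativeDimension_affineSpace (n : Type u) [Finite n] (S : Scheme.{u}) (k : ℕ)
    (hk : Nat.card n = k) : SmoothOfRelativeDimension k (𝔸(n; S) ↘ S) := by
  haveI := smoothOfRelativeDimension_isStableUnderBaseChange (n := k)
  refine MorphismProperty.pullback_fst (P := @SmoothOfRelativeDimension k) _ _ ?_
  have := isIso_of_isTerminal specULiftZIsTerminal.{u} terminalIsTerminal (terminal.from _)
  rw [← terminal.comp_from (Spec.map (CommRingCat.ofHom MvPolynomial.C)),
    MorphismProperty.cancel_right_of_respectsIso (P := @SmoothOfRelativeDimension k),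
    HasRingHomProperty.Spec_iff (P := @SmoothOfRelativeDimension k)]
  apply RingHom.locally_of RingHom.isStandardSmoothOfRelativeDimension_respectsIso
  rw [RingHom.IsStandardSmoothOfRelativeDimension]
  subst hk
  convert! (inferInstance : Algebra.IsStandardSmoothOfRelativeDimension (Nat.card n) (ULift ℤ)
    (MvPolynomial n (ULift ℤ)))
  exact Algebra.algebra_ext _ _ fun _ ↦ rfl

end Sch

end Groth.Agent.Lib.R2H4.LocStrA
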