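import Mathlib

set_option autoImplicit false
universe u
open AlgebraicGeometry CategoryTheory Limits Scheme.Pullback

namespace Groth.Agent.Lib.R2H4.LocStrB

variable {X Y S : Scheme.{u}} {f : X ⟶ S} {g : Y ⟶ S}

lemma isIso_tensorInl (T : Triplet f g) (hb : Function.Bijective (g.residueFieldMap T.y)) :
    IsIso T.tensorInl := by
  haveI : IsIso (g.residueFieldMap T.y) := (ConcreteCategory.isIso_iff_bijective _).mpr hb
  haveI : IsIso ((S.residueFieldCongr T.hy).inv ≫ g.residueFieldMap T.y) := inferInstance
  exact (IsPushout.of_hasPushout ((S.residueFieldCongr T.hx).inv ≫ f.residueFieldMap T.x)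
    ((S.residueFieldCongr T.hy).inv ≫ g.residueFieldMap T.y)).isIso_inl_of_isIso

lemma subsingleton_spec_tensor (T : Triplet f g)
    (hb : Function.Bijective (g.residueFieldMap T.y)) : Subsingleton (Spec T.tensor) := by
  haveI := isIso_tensorInl T hb
  exact (asIso (Spec.map T.tensorInl)).hom.homeomorph.injective.subsingleton

/-- the residue field of a point of a fibre product over `(x, y)` with `κ(g y) ≅ κ(y)` is
generated by `κ(x)`. -/
lemma residueFieldMap_fst_surjective (w : ↥(pullback f g))
    (hb : Function.Bijective (g.residueFieldMap (pullback.snd f g w))) :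
    Function.Surjective ((pullback.fst f g).residueFieldMap w) := by
  let ι : X.residueField (pullback.fst f g w) ⟶ (Triplet.ofPoint w).tensor :=
    (Triplet.ofPoint w).tensorInl
  haveI hι : IsIso ι := isIso_tensorInl (Triplet.ofPoint w) hb
  -- ψ : Spec κ(x') ⟶ P
  let ψ : Spec (CommRingCat.of (X.residueField (pullback.fst f g w))) ⟶ pullback f g :=
    Spec.map (inv ι) ≫ (Triplet.ofPoint w).SpecTensorTo
  have hstar : Spec.map ((pullback.fst f g).residueFieldMap w) ≫ ψ =
      (pullback f g).fromSpecResidueField w := by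
    have h1 : ι ≫ ofPointTensor w = (pullback.fst f g).residueFieldMap w :=
      pushout.inl_desc _ _ _
    have h2 := ofPointTensor_SpecTensorTo w
    rw [← h2, ← h1, Spec.map_comp, Category.assoc]
    congr 1
    show Spec.map ι ≫ Spec.map (inv ι) ≫ (Triplet.ofPoint w).SpecTensorTo =
      (Triplet.ofPoint w).SpecTensorTo
    rw [← Category.assoc, ← Spec.map_comp, IsIso.inv_hom_id, Spec.map_id, Category.id_comp]
  obtain ⟨⟨t', φ⟩, hφ⟩ :=
    (Scheme.SpecToEquivOfField (X.residueField (pullback.fst f g w)) (pullback f g)).symm.surjective ψ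
  have hφ' : Spec.map φ ≫ (pullback f g).fromSpecResidueField t' = ψ := hφ
  have ht' : t' = w := by
    obtain ⟨pt⟩ : Nonempty (Spec ((pullback f g).residueField w)) := inferInstance
    have h1 := congr($hstar pt)
    rw [← hφ', Scheme.Hom.comp_apply, Scheme.Hom.comp_apply, Scheme.fromSpecResidueField_apply,
      Scheme.fromSpecResidueField_apply] at h1
    exact h1
  subst ht'
  rw [← hφ', ← Category.assoc, ← Spec.map_comp] at hstar
  have h3 : Spec.map (φ ≫ (pullback.fst f g).residueFieldMap t') = 𝟙 _ := by
    rw [← cancel_mono ((pullback f g).fromSpecResidueField t'), hstar, Category.id_comp]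
  have h4 : φ ≫ (pullback.fst f g).residueFieldMap t' = 𝟙 _ := by
    apply Spec.map_injective
    rw [h3, Spec.map_id]
  intro z
  refine ⟨φ z, ?_⟩
  have := congr($h4 z)
  simpa using this

/-- over a point `(x, y)` with `κ(g y) ≅ κ(y)` there is exactly one point of the fibre product,
and its residue field is generated by `κ(x)`. -/
theorem exists_unique_point (x : X) (y : Y) (h : f x = g y)
    (hbij : Function.Bijective (g.residueFieldMap y)) :
    ∃ w : ↥(pullback f g), pullback.fst f g w = x ∧ pullback.snd f g w = y ∧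
      (∀ z : ↥(pullback f g), pullback.fst f g z = x → pullback.snd f g z = y → z = w) ∧
      Function.Surjective ((pullback.fst f g).residueFieldMap w) := by
  have hb' : ∀ y', y' = y → Function.Bijective (g.residueFieldMap y') := by
    rintro _ rfl; exact hbij
  obtain ⟨w, hwx, hwy⟩ := exists_preimage_pullback x y h
  refine ⟨w, hwx, hwy, ?_, residueFieldMap_fst_surjective w (hb' _ hwy)⟩
  intro z hzx hzy
  apply carrierEquiv.injective
  have e : Triplet.ofPoint z = Triplet.ofPoint w :=
    Triplet.ext (by simp [hzx, hwx]) (by simp [hzy, hwy])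
  refine carrierEquiv_eq_iff.mpr ⟨e, ?_⟩
  haveI : Subsingleton ↥(Spec (carrierEquiv w).fst.tensor) :=
    subsingleton_spec_tensor (Triplet.ofPoint w) (hb' _ hwy)
  exact Subsingleton.elim _ _

end Groth.Agent.Lib.R2H4.LocStrB
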