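import Mathlib
import Groth.Prelude.Def_Flat
import Groth.Agent.Lib.Helper6QFAff
import Groth.Agent.Lib.R2H4EtFinPartRes
import Groth.Agent.Lib.R2H4LocStrA
import Groth.Agent.Lib.R2H4LocStrB

set_option autoImplicit false
universe u
open AlgebraicGeometry CategoryTheory Limits AffineSpace

namespace Groth.Agent.Lib.R2H4.LocStrC
open Groth.Agent.Lib.R2H4.LocStrA Groth.Agent.Lib.R2H4.LocStrB
  Groth.Agent.Lib.R2H4.EtFinPartRes Groth.Agent.Lib.Helper6.QFAff

theorem main0442 {X S : Scheme.{u}} (f : X ⟶ S) [LocallyOfFiniteType f] (x : X) (n : ℕ)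
    (hn : FlatMor.fibreDimAt f x = n) :
    ∃ (X' Y : Scheme.{u}) (g : X' ⟶ X) (π : X' ⟶ Y) (h : Y ⟶ S) (x' : X'),
      g ≫ f = π ≫ h ∧ Etale g ∧ g x' = x ∧
      Function.Surjective (g.residueFieldMap x') ∧ IsFinite π ∧ SmoothOfRelativeDimension n h ∧
      ∀ z : ↑X', π z = π x' → z = x' := by
  obtain ⟨_, ⟨V, hV, rfl⟩, hxV, -⟩ :=
    S.isBasis_affineOpens.exists_subset_of_mem_open (Set.mem_univ (f x)) isOpen_univ
  obtain ⟨V, rfl⟩ : ∃ V' : S.Opens, V' = V := ⟨V, rfl⟩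
  obtain ⟨U, hU, hxU, g₀, π₀, h1, h2, hqf, hft⟩ :=
    exists_affine_nhd_quasiFinite f x V hV hxV n hn.le
  haveI := hqf
  haveI := hft
  let xU : (U : Scheme.{u}) := ⟨x, hxU⟩
  have hq : π₀.QuasiFiniteAt xU := Scheme.Hom.quasiFiniteAt π₀ xU
  obtain ⟨Y₁, e, y₁, hét, hy₁, hbij, W, hWfin, hW⟩ :=
    exists_etale_finite_part_res π₀ (rfl : π₀ xU = π₀ xU) hq
  haveI := hét
  obtain ⟨w, hwx, hwy, huniq, hsurj⟩ :=
    exists_unique_point (f := π₀) (g := e) xU y₁ hy₁.symm hbij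
  have hwW : w ∈ W := (hW w hwy).mpr hwx
  haveI hsm : SmoothOfRelativeDimension n
      (𝔸(ULift.{u} (Fin n); (V : Scheme.{u})) ↘ (V : Scheme.{u})) :=
    smoothOfRelativeDimension_affineSpace _ _ n (by simp)
  refine ⟨W, Y₁, W.ι ≫ pullback.fst π₀ e ≫ U.ι, W.ι ≫ pullback.snd π₀ e,
    e ≫ (𝔸(ULift.{u} (Fin n); (V : Scheme.{u})) ↘ (V : Scheme.{u})) ≫ V.ι, ⟨w, hwW⟩,
    ?_, inferInstance, ?_, ?_, hWfin, ?_, ?_⟩
  · simp only [Category.assoc]
    rw [← h1, ← h2]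
    simp only [Category.assoc]
    rw [pullback.condition_assoc]
  · show U.ι (pullback.fst π₀ e w) = x
    rw [hwx]
    rfl
  · have key : ∀ w' : ↥(pullback π₀ e), w' = w →
        Function.Surjective ((pullback.fst π₀ e).residueFieldMap w') := by
      rintro _ rfl; exact hsurj
    rw [Scheme.residueFieldMap_comp, Scheme.residueFieldMap_comp]
    have hA := ((ConcreteCategory.isIso_iff_bijective
      (Scheme.Hom.residueFieldMap U.ι ((pullback.fst π₀ e) (W.ι ⟨w, hwW⟩)))).mp inferInstance).2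
    have hC := ((ConcreteCategory.isIso_iff_bijective
      (Scheme.Hom.residueFieldMap W.ι ⟨w, hwW⟩)).mp inferInstance).2
    have hB := key (W.ι ⟨w, hwW⟩) rfl
    intro z
    obtain ⟨z1, rfl⟩ := hC z
    obtain ⟨z2, rfl⟩ := hB z1
    obtain ⟨z3, rfl⟩ := hA z2
    exact ⟨z3, rfl⟩
  · have hgen : ∀ (k : ℕ) {A B : Scheme.{u}} (h : A ⟶ B),
        SmoothOfRelativeDimension (0 + (k + 0)) h → SmoothOfRelativeDimension k h := by
      intro k A B h hh
      simpa using hh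
    exact hgen n _ inferInstance
  · intro z hz
    have hz1 : pullback.snd π₀ e (W.ι z) = y₁ := by
      have : (W.ι ≫ pullback.snd π₀ e) z = (W.ι ≫ pullback.snd π₀ e) ⟨w, hwW⟩ := hz
      rw [Scheme.Hom.comp_apply, Scheme.Hom.comp_apply] at this
      rw [this]
      exact hwy
    have hz2 : pullback.fst π₀ e (W.ι z) = xU := (hW (W.ι z) hz1).mp z.2
    have hz3 := huniq (W.ι z) hz2 hz1
    exact Subtype.ext hz3

end Groth.Agent.Lib.R2H4.LocStrC
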