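import Mathlib
import Groth.Prelude
import Groth.Agent.Lib.R2H4NoethApprox
import Groth.Agent.Lib.H9LscB
import Groth.Agent.Lib.Helper2GeomFibBC
import Groth.Agent.Lib.Helper26UnivOpenAt

/-!
# Lower semicontinuity of the number of geometric connected components for proper flat fp morphisms
(helper4, round 2): removal of the Noetherian hypothesis from helper9's `H9LscB.main` by Noetherian approximation.
-/

set_option autoImplicit false
universe u
open CategoryTheory CategoryTheory.Limits AlgebraicGeometry TopologicalSpace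

namespace Groth.Agent.Lib.R2H4LscFlat

theorem exists_nhd_le {X S : Scheme.{u}} (f : X ⟶ S) [IsProper f] [Flat f]
    [LocallyOfFinitePresentation f] (s : S) :
    ∃ V ∈ nhds s, ∀ z ∈ V, MoreMor.nGeomConnComp f s ≤ MoreMor.nGeomConnComp f z := by
  obtain ⟨U, hU, hsU⟩ : ∃ U : S.Opens, IsAffineOpen U ∧ s ∈ U := by
    obtain ⟨U, hU, hsU, -⟩ := exists_isAffineOpen_mem_and_subset (x := s) (U := ⊤) trivial
    exact ⟨U, hU, hsU⟩
  haveI : IsAffine (U : Scheme.{u}) := hU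
  have hpbU : IsPullback (f ⁻¹ᵁ U).ι (f ∣_ U) f U.ι := (isPullback_morphismRestrict f U).flip
  obtain ⟨X₀, S₀, f₀, g, g', hpb, hN, hP, hF, hL⟩ :=
    Groth.Agent.Lib.R2H4NoethApprox.exists_proper_flat_model (f ∣_ U)
  have e1 : ∀ z : U, MoreMor.nGeomConnComp (f ∣_ U) z = MoreMor.nGeomConnComp f (U.ι z) :=
    fun z => Groth.Agent.Lib.Helper2.GeomFibBC.nGeomConnComp_eq f (f ∣_ U) _ U.ι hpbU z
  have e2 : ∀ z : U, MoreMor.nGeomConnComp (f ∣_ U) z = MoreMor.nGeomConnComp f₀ (g z) :=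
    fun z => Groth.Agent.Lib.Helper2.GeomFibBC.nGeomConnComp_eq f₀ (f ∣_ U) g' g hpb z
  haveI : IsLocallyNoetherian S₀ := hN.1
  obtain ⟨V₀, hV₀, hV⟩ := Groth.Agent.Lib.H9LscB.main f₀ (g ⟨s, hsU⟩)
    (fun x _ => Groth.Agent.Lib.Helper26.UnivOpenAt.isUnivOpenAt_of_universallyOpen f₀ x)
  refine ⟨U.ι '' (g ⁻¹' V₀), ?_, ?_⟩
  · have h1 : g ⁻¹' V₀ ∈ nhds (⟨s, hsU⟩ : U) := g.continuous.continuousAt hV₀
    have h2 := (U.ι.isOpenEmbedding.image_mem_nhds (x := (⟨s, hsU⟩ : U))).2 h1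
    exact h2
  · rintro _ ⟨z, hz, rfl⟩
    have hs : U.ι (⟨s, hsU⟩ : U) = s := rfl
    rw [← e1 z, e2 z, ← hs, ← e1 ⟨s, hsU⟩, e2]
    exact hV _ hz

theorem lowerSemicontinuous_nGeomConnComp {X S : Scheme.{u}} (f : X ⟶ S) [IsProper f] [Flat f]
    [LocallyOfFinitePresentation f] :
    LowerSemicontinuous (fun s : ↑S => MoreMor.nGeomConnComp f s) := by
  intro s a ha
  obtain ⟨V, hV, h⟩ := exists_nhd_le f s
  exact Filter.mem_of_superset hV (fun z hz => lt_of_lt_of_le ha (h z hz))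

end Groth.Agent.Lib.R2H4LscFlat
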