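import Mathlib
import Groth.Prelude.Def_Curv2
import Groth.Agent.Lib.Helper4VarDim5
import Groth.Agent.Lib.Helper28FlatNormal
import Groth.Agent.Lib.Helper5FiberStalk

set_option autoImplicit false
universe u
open CategoryTheory CategoryTheory.Limits AlgebraicGeometry
open scoped TensorProduct

namespace Groth.Agent.Lib.R2H4.MaxIdealBC

attribute [local instance] Curv2.resAlgebra

theorem fromSpecResidueField_over (k : Type u) [Field k] (X : Scheme.{u})
    [X.Over (Spec (CommRingCat.of k))] (x : X) :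
    X.fromSpecResidueField x ≫ (X ↘ Spec (CommRingCat.of k)) =
      Spec.map (CommRingCat.ofHom (Curv2.resMap k X x)) := by
  apply ext_of_isAffine
  have h1 : CommRingCat.ofHom (Curv2.resMap k X x) =
      (Scheme.ΓSpecIso (CommRingCat.of k)).inv ≫ (X ↘ Spec (CommRingCat.of k)).appTop ≫
        X.presheaf.germ ⊤ x trivial ≫ X.residue x := by
    ext c
    rfl
  rw [← cancel_mono (Scheme.ΓSpecIso _).hom, Scheme.ΓSpecIso_naturality, h1]
  simp only [Scheme.Hom.comp_appTop, Category.assoc, Iso.hom_inv_id_assoc]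
  congr 1
  rw [Scheme.fromSpecResidueField, Scheme.Hom.comp_appTop, Category.assoc,
    Scheme.ΓSpecIso_naturality, Scheme.fromSpecStalk_appTop]
  simp

/-- The fibre of `X_K → X` over `x` is `Spec (κ(x) ⊗_k K)`. -/
noncomputable def fiberIso (k : Type u) [Field k] (X : Scheme.{u})
    [X.Over (Spec (CommRingCat.of k))] (K : Type u) [Field K] [Algebra k K] (x : X) :
    (Curv2.bcFst k X K).fiber x ≅ Spec (CommRingCat.of (X.residueField x ⊗[k] K)) :=
  pullbackSymmetry _ _ ≪≫ pullbackRightPullbackFstIso _ _ _ ≪≫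
    pullback.congrHom (fromSpecResidueField_over k X x) rfl ≪≫
    pullbackSpecIso k (X.residueField x) K

theorem isReduced_fiber (k : Type u) [Field k] (X : Scheme.{u})
    [X.Over (Spec (CommRingCat.of k))] (K : Type u) [Field K] [Algebra k K] (x : X)
    (hred : _root_.IsReduced (X.residueField x ⊗[k] K)) :
    IsReduced ((Curv2.bcFst k X K).fiber x) := by
  have : IsReduced (Spec (CommRingCat.of (X.residueField x ⊗[k] K))) :=
    (affine_isReduced_iff _).mpr hred
  exact isReduced_of_isOpenImmersion (fiberIso k X K x).hom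

theorem main (k : Type u) [Field k] (X : Scheme.{u}) [X.Over (Spec (CommRingCat.of k))]
    [LocallyOfFiniteType (X ↘ (Spec (CommRingCat.of k)))]
    (K : Type u) [Field K] [Algebra k K] (y : ↥(Curv2.bc k X K))
    (hdim : ringKrullDim ↥(X.presheaf.stalk (Curv2.bcFst k X K y)) =
      ringKrullDim ↥((Curv2.bc k X K).presheaf.stalk y))
    (hred : _root_.IsReduced (X.residueField (Curv2.bcFst k X K y) ⊗[k] K)) :
    Ideal.map ((Curv2.bcFst k X K).stalkMap y).hom
        (IsLocalRing.maximalIdeal ↥(X.presheaf.stalk (Curv2.bcFst k X K y))) =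
      IsLocalRing.maximalIdeal ↥((Curv2.bc k X K).presheaf.stalk y) := by
  let : (Curv2.bc k X K).Over (Spec (CommRingCat.of K)) := ⟨Curv2.bcSnd k X K⟩
  have hlft : LocallyOfFiniteType ((Curv2.bc k X K) ↘ Spec (CommRingCat.of K)) :=
    inferInstanceAs (LocallyOfFiniteType (pullback.snd _ _))
  set x := Curv2.bcFst k X K y with hx
  obtain ⟨b, hb⟩ := Groth.Agent.Lib.Helper4.VarDim.exists_ringKrullDim_stalk_eq k X x
  obtain ⟨b', hb'⟩ := Groth.Agent.Lib.Helper4.VarDim.exists_ringKrullDim_stalk_eq K (Curv2.bc k X K) y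
  have hN : IsLocallyNoetherian X :=
    LocallyOfFiniteType.isLocallyNoetherian (X ↘ Spec (CommRingCat.of k))
  have hN' : IsLocallyNoetherian (Curv2.bc k X K) :=
    LocallyOfFiniteType.isLocallyNoetherian ((Curv2.bc k X K) ↘ Spec (CommRingCat.of K))
  have hflat : Flat (Curv2.bcFst k X K) := inferInstanceAs (Flat (pullback.fst _ _))
  have hfl : ((Curv2.bcFst k X K).stalkMap y).hom.Flat := Flat.stalkMap _ y
  -- the quotient is reduced
  have hZ : IsReduced ((Curv2.bcFst k X K).fiber x) := isReduced_fiber k X K x hred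
  obtain ⟨e⟩ := Groth.Agent.Lib.Helper5.FiberStalk.nonempty_stalk_asFiber_equiv
    (Curv2.bcFst k X K) y
  set J := Ideal.map ((Curv2.bcFst k X K).stalkMap y).hom
    (IsLocalRing.maximalIdeal ↥(X.presheaf.stalk x)) with hJ
  have hredQ : _root_.IsReduced (↥((Curv2.bc k X K).presheaf.stalk y) ⧸ J) :=
    isReduced_of_injective e.symm.toRingHom e.symm.injective
  have hJle : J ≤ IsLocalRing.maximalIdeal ↥((Curv2.bc k X K).presheaf.stalk y) :=
    Groth.Agent.Lib.Helper5.FiberStalk.fibIdeal_le (Curv2.bcFst k X K) y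
  have hJne : J ≠ ⊤ := Groth.Agent.Lib.Helper5.FiberStalk.fibIdeal_ne_top (Curv2.bcFst k X K) y
  have hlocQ : IsLocalRing (↥((Curv2.bc k X K).presheaf.stalk y) ⧸ J) :=
    Groth.Agent.Lib.Helper5.isLocalRing_quotient hJne
  -- dimension of the quotient
  algebraize [((Curv2.bcFst k X K).stalkMap y).hom]
  have hloc : IsLocalHom (algebraMap (X.presheaf.stalk x) ((Curv2.bc k X K).presheaf.stalk y)) :=
    inferInstanceAs (IsLocalHom ((Curv2.bcFst k X K).stalkMap y).hom)
  have h5 := Groth.Agent.Lib.Helper28.ringKrullDim_eq_add_of_flat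
    (R := X.presheaf.stalk x) (S := (Curv2.bc k X K).presheaf.stalk y) J rfl
  rw [hb, hb'] at hdim
  have hbb : b = b' := by exact_mod_cast hdim
  rw [hb, hb'] at h5
  have hdimQ : Ring.KrullDimLE 0 (↥((Curv2.bc k X K).presheaf.stalk y) ⧸ J) := by
    rw [Ring.krullDimLE_iff]
    generalize ringKrullDim (↥((Curv2.bc k X K).presheaf.stalk y) ⧸ J) = c at h5 ⊢
    induction c using WithBot.recBotCoe with
    | bot => simp
    | coe c =>
      induction c using ENat.recTopCoe with
      | top =>
        exfalso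
        have : ((⊤ : ℕ∞) : WithBot ℕ∞) + (b : WithBot ℕ∞) = ((⊤ : ℕ∞) : WithBot ℕ∞) := by
          rfl
        rw [this] at h5
        exact absurd h5 (by exact_mod_cast ENat.natCast_ne_top b')
      | coe c =>
        have h6 : b' = c + b := by exact_mod_cast h5
        have : c = 0 := by omega
        subst this
        simp
  have hF : IsField (↥((Curv2.bc k X K).presheaf.stalk y) ⧸ J) :=
    Ring.KrullDimLE.isField_of_isReduced
  have hmax : J.IsMaximal := Ideal.Quotient.maximal_of_isField J hF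
  exact (IsLocalRing.eq_maximalIdeal hmax)

end Groth.Agent.Lib.R2H4.MaxIdealBC
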