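import Mathlib
import Groth.Prelude
import Groth.Agent.Lib.R2H4ModComp
import Groth.Agent.Lib.Helper22IdealComap

/-!
# The intersection number as the length of the scheme-theoretic intersection (helper4, round 2)
-/

set_option autoImplicit false
set_option linter.style.haveILetI false
set_option linter.unusedSectionVars false
universe u
open CategoryTheory CategoryTheory.Limits AlgebraicGeometry TopologicalSpace Opposite IsLocalRing

noncomputable section

namespace Groth.Agent.Lib.R2H4ModLen

open Groth.Agent.Lib.R2H4ModSym Groth.Agent.Lib.R2H4ModComp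

section Ideal

variable {X Y : Scheme.{u}} (ι : Y ⟶ X) [IsClosedImmersion ι]

/-- for a closed immersion, the ideal of `ι⁻¹(D)` seen in `X` is `D + ker ι` -/
theorem map_comap_eq_sup_ker (D : X.IdealSheafData) : (D.comap ι).map ι = D ⊔ ι.ker := by
  refine Scheme.IdealSheafData.ext (funext fun U => ?_)
  have hU' : IsAffineOpen (ι ⁻¹ᵁ U.1) := U.2.preimage ι
  rw [Scheme.IdealSheafData.ideal_map_of_isAffineHom,
    Groth.Agent.Lib.Helper22.IdealComap.ideal_comap_eq_map ι D ⟨ι ⁻¹ᵁ U.1, hU'⟩ U le_rfl,
    Scheme.IdealSheafData.ideal_sup, Pi.sup_apply, Scheme.Hom.ker_apply]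
  have hsurj : Function.Surjective (ι.app U.1).hom := ι.app_surjective U.1 U.2
  have happ : (ι.appLE U.1 (ι ⁻¹ᵁ U.1) le_rfl) = ι.app U.1 := Scheme.Hom.appLE_eq_app _
  rw [happ, Ideal.comap_map_of_surjective _ hsurj]
  rfl

end Ideal

section GDim

variable (k : Type u) [CommRing k]

theorem length_eq_of_iso {T T' : Scheme.{u}} (φ : T ≅ T') (g : T ⟶ Spec (CommRingCat.of k))
    (g' : T' ⟶ Spec (CommRingCat.of k)) (hg : φ.hom ≫ g' = g) :
    Module.length k (GF k g) = Module.length k (GF k g') := by
  have hbij : Function.Bijective (pullAlg k φ.hom g g' hg) := by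
    have : IsIso (φ.hom.app ⊤) := inferInstance
    exact (ConcreteCategory.isIso_iff_bijective (φ.hom.app ⊤)).1 this
  exact (AlgEquiv.ofBijective _ hbij).toLinearEquiv.length_eq.symm

variable {X : Scheme.{u}} (p : X ⟶ Spec (CommRingCat.of k))

theorem length_congr_ideal (E E' : X.IdealSheafData) (h : E = E') :
    Module.length k (GF k (E.subschemeι ≫ p)) = Module.length k (GF k (E'.subschemeι ≫ p)) := by
  subst h
  rfl

/-- a closed immersion and its image have the same global functions -/
theorem length_toImage {Z : Scheme.{u}} (j : Z ⟶ X) [IsClosedImmersion j] :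
    Module.length k (GF k (j ≫ p)) = Module.length k (GF k (j.ker.subschemeι ≫ p)) := by
  refine length_eq_of_iso k (asIso j.toImage) _ _ ?_
  rw [asIso_hom, ← Category.assoc]
  congr 1
  exact Scheme.Hom.toImage_imageι j

variable {Y : Scheme.{u}} (ι : Y ⟶ X) [IsClosedImmersion ι]

theorem length_sup_ker (D : X.IdealSheafData) :
    Module.length k (GF k ((D ⊔ ι.ker).subschemeι ≫ p)) =
      Module.length k (GF k (((D.comap ι).subschemeι ≫ ι) ≫ p)) := by
  have h1 : ((D.comap ι).subschemeι ≫ ι).ker = D ⊔ ι.ker := by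
    rw [Scheme.Hom.ker_comp, Scheme.IdealSheafData.ker_subschemeι, map_comap_eq_sup_ker]
  rw [length_congr_ideal k p _ _ h1.symm, ← length_toImage k p ((D.comap ι).subschemeι ≫ ι)]

end GDim

section Residue

variable (R : Type u) [CommRing R] [IsLocalRing R]

theorem toG_comp_qq {T : Scheme.{u}} (g : T ⟶ Spec (CommRingCat.of (ResidueField R))) (r : R) :
    toG R (g ≫ Spec.map (CommRingCat.ofHom (residue R))) r =
      toG (ResidueField R) g (residue R r) := by
  rw [toG_comp]
  change (g.appTop).hom (((Spec.map (CommRingCat.ofHom (residue R))).appTop).hom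
      ((Scheme.ΓSpecIso (CommRingCat.of R)).inv.hom r)) =
    (g.appTop).hom ((Scheme.ΓSpecIso (CommRingCat.of (ResidueField R))).inv.hom (residue R r))
  congr 1
  have := Scheme.ΓSpecIso_inv_naturality (CommRingCat.ofHom (residue R))
  exact (ConcreteCategory.congr_hom this r).symm

/-- the length over `R` of the functions of a `k`-scheme is their dimension over `k` -/
theorem length_GF_comp_qq {T : Scheme.{u}} (g : T ⟶ Spec (CommRingCat.of (ResidueField R))) :
    (Module.length R (GF R (g ≫ Spec.map (CommRingCat.ofHom (residue R))))).toNat =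
      gdim (ResidueField R) g := by
  letI : Module R (GF (ResidueField R) g) :=
    Module.compHom (GF (ResidueField R) g) (algebraMap R (ResidueField R))
  haveI : IsScalarTower R (ResidueField R) (GF (ResidueField R) g) :=
    IsScalarTower.of_algebraMap_smul fun r x => rfl
  let e : GF R (g ≫ Spec.map (CommRingCat.ofHom (residue R))) ≃ₗ[R] GF (ResidueField R) g :=
    { toFun := fun x => x
      invFun := fun x => x
      left_inv := fun _ => rfl
      right_inv := fun _ => rfl
      map_add' := fun _ _ => rfl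
      map_smul' := fun r x => by
        have h := toG_comp_qq R g r
        change (toG R (g ≫ Spec.map (CommRingCat.ofHom (residue R))) r : Γ(T, ⊤)) *
            (show Γ(T, ⊤) from x) =
          (toG (ResidueField R) g (residue R r) : Γ(T, ⊤)) * (show Γ(T, ⊤) from x)
        rw [h] }
  rw [e.length_eq, Module.length_eq_of_surjective (S := R) (R := ResidueField R)
    (M := GF (ResidueField R) g) residue_surjective, Module.length_eq_rank]
  unfold gdim Module.finrank
  exact Cardinal.toNat_toENat _

end Residue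

section Main

variable {R : Type u} [CommRing R] [IsDomain R] [IsDiscreteValuationRing R]
  {X : Scheme.{u}} {p : X ⟶ Spec (CommRingCat.of R)} [IsProper p]
  (Γ : ArSurf.VertComp R (Over.mk p))

theorem lengthH_quotMod (E : X.IdealSheafData) :
    Models.lengthH R (Over.mk p) (ClSub.quotMod E) 0 =
      (Module.length R (GF R (E.subschemeι ≫ p))).toNat := by
  haveI : CompactSpace X := QuasiCompact.compactSpace_of_compactSpace p
  letI : X.Over (Spec (CommRingCat.of R)) := ⟨p⟩
  haveI : IsSeparated (X ↘ Spec (CommRingCat.of R)) := inferInstanceAs (IsSeparated p)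
  obtain ⟨e⟩ := nonempty_h0_quotMod_equiv R X E
  unfold Models.lengthH
  exact congrArg ENat.toNat e.length_eq

theorem s7926 (D : X.IdealSheafData)
    (hΓD : Γ.ι.base (genericPoint Γ.curve.left) ∉ (D.support : Set X))
    (L : X.Modules) (hL : ClSub.IsInverseOf L (ClSub.idealMod D)) :
    ArSurf.inter R (Over.mk p) L Γ =
      (Models.lengthH R (Over.mk p) (ClSub.quotMod (D ⊔ Γ.ι.ker)) 0 : ℤ) := by
  obtain ⟨e⟩ := hL
  have hne : ¬ Set.range (Γ.ι.base : Γ.curve.left → X) ⊆ (D.support : Set X) :=
    fun h => hΓD (h ⟨_, rfl⟩)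
  rw [inter_eq_gdim Γ D L e hne, lengthH_quotMod]
  congr 1
  have hw : Γ.ι ≫ p = Γ.curve.hom ≫ qq R := Γ.w
  rw [← length_GF_comp_qq R ((D.comap Γ.ι).subschemeι ≫ Γ.curve.hom), length_sup_ker R p Γ.ι D]
  have h3 : ((D.comap Γ.ι).subschemeι ≫ Γ.curve.hom) ≫
      Spec.map (CommRingCat.ofHom (residue R)) = ((D.comap Γ.ι).subschemeι ≫ Γ.ι) ≫ p := by
    rw [Category.assoc, Category.assoc, hw]
  rw [h3]

end Main

end Groth.Agent.Lib.R2H4ModLen
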