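import Mathlib
import Groth.Agent.Lib.Helper28AnalUnram

set_option autoImplicit false
universe u

namespace Groth.Agent.Lib.R2H4.N1Laurent

open Polynomial

/-- If the Laurent polynomial ring `R[X, 1/X]` over a Noetherian domain `R` is N-1, so is `R`. -/
theorem isN1_of_isN1_laurent (R : Type u) [CommRing R] [IsDomain R] [IsNoetherianRing R]
    (S : Type u) [CommRing S] [IsDomain S] [Algebra (Polynomial R) S]
    [IsLocalization.Away (Polynomial.X : Polynomial R) S] (h : CAlg.IsN1 S) : CAlg.IsN1 R := by
  let : Algebra R S := ((algebraMap R[X] S).comp (Polynomial.C : R →+* R[X])).toAlgebra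
  have : IsScalarTower R R[X] S := IsScalarTower.of_algebraMap_eq (fun _ => rfl)
  have : Module.Flat R[X] S := IsLocalization.flat S (Submonoid.powers (X : R[X]))
  have : Module.Flat R S := Module.Flat.trans R R[X] S
  have : IsNoetherianRing S :=
    IsLocalization.isNoetherianRing (Submonoid.powers (X : R[X])) S inferInstance
  -- the retraction `X ↦ 1`
  have hu : IsUnit ((Polynomial.evalRingHom (1 : R)) (X : R[X])) := by
    simp
  let ρ : S →+* R := IsLocalization.Away.lift (X : R[X]) hu
  have hρ : ρ.comp (algebraMap R S) = RingHom.id R := by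
    ext r
    change ρ (algebraMap R[X] S (C r)) = r
    rw [IsLocalization.Away.lift_eq]
    simp
  have : Module.FaithfullyFlat R S := by
    refine Module.FaithfullyFlat.of_comap_surjective (fun p => ⟨PrimeSpectrum.comap ρ p, ?_⟩)
    rw [← PrimeSpectrum.comap_comp_apply, hρ]
    rfl
  exact Groth.Agent.Lib.Helper28.isN1_of_faithfullyFlat S h

end Groth.Agent.Lib.R2H4.N1Laurent
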