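import Mathlib
import Groth.Prelude
import Groth.Agent.Lib.Helper6EquiDim2
import Groth.Agent.Lib.R2H4BCGlue
import Groth.Agent.Lib.R2H4FieldBC
import Groth.Agent.Lib.R2H4KleimanC
import Groth.Agent.Lib.Helper20PullbackAff
import Groth.Agent.Lib.R2H4NumEqDesc
import Groth.Agent.Lib.R2H3QProj
import Groth.Agent.Lib.Helper23Restr2

/-!
helper4 (run 2): nefness and extension of the base field (S16716).
* `dim_closure_le`, `dim_preimage_le` : `X_K ⟶ X` does not raise the dimension of closed subsets;
* `euler_bc`, `isCoh_pullback`, `support_pullback`;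
* `nef_of_nef_bc` : `L_K` nef ⟹ `L` nef;
* `nef_bc_of_isAmple` : `L` nef ⟹ `L_K` nef on integral schemes carrying an ample module (Kleiman);
* `deg_nonneg_of_mem_range` : pointwise form of the descent of nefness along a morphism;
* `nef_bc` : `L` nef ⟹ `L_K` nef on any proper scheme (Chow's lemma).
-/

set_option autoImplicit false
set_option linter.style.haveILetI false
set_option linter.unusedSectionVars false
universe u
open CategoryTheory CategoryTheory.Limits AlgebraicGeometry TopologicalSpace

noncomputable section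

namespace Groth.Agent.Lib.R2H4NefBC

open Groth.Agent.Lib.R2H4KleimanA Groth.Agent.Lib.R2H4KleimanC Groth.Agent.Lib.R2H4MultiAdd
  Groth.Agent.Lib.R2H4SnapperRef Groth.Agent.Lib.R2H4SnapperCor Groth.Agent.Lib.R2H1.NefPull
  Groth.Agent.Lib.Helper4.VarDim

section Dim

variable (k : Type u) [Field k] (X : Scheme.{u}) [X.Over (Spec (CommRingCat.of k))]
  [LocallyOfFiniteType (X ↘ Spec (CommRingCat.of k))] (K : Type u) [Field K] [Algebra k K]

/-- the structure of `K`-scheme on the base change -/
abbrev bcOver : (Curv2.bc k X K).Over (Spec (CommRingCat.of K)) :=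
  ⟨Curv2.bcSnd k X K⟩

attribute [local instance] bcOver

theorem lft_bc : LocallyOfFiniteType ((Curv2.bc k X K) ↘ Spec (CommRingCat.of K)) := by
  change LocallyOfFiniteType (pullback.snd _ _)
  infer_instance

/-- the closure of a point of `X_K` has dimension at most that of the closure of its image -/
theorem dim_closure_le (w : Curv2.bc k X K) :
    topologicalKrullDim (closure ({w} : Set (Curv2.bc k X K))) ≤
      topologicalKrullDim (closure ({Curv2.bcFst k X K w} : Set X)) := by
  have hZc : IsClosed (closure ({Curv2.bcFst k X K w} : Set X)) := isClosed_closure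
  have hZi : IsIrreducible (closure ({Curv2.bcFst k X K w} : Set X)) :=
    isIrreducible_singleton.closure
  have hPc : IsClosed ((Curv2.bcFst k X K) ⁻¹' (closure ({Curv2.bcFst k X K w} : Set X))) :=
    hZc.preimage (Curv2.bcFst k X K).continuous
  let p : ↥((Curv2.bcFst k X K) ⁻¹' (closure ({Curv2.bcFst k X K w} : Set X))) :=
    ⟨w, subset_closure rfl⟩
  have hW := irreducibleComponent_mem_irreducibleComponents p
  have hdim := Groth.Agent.Lib.Helper6.EquiDim.topologicalKrullDim_component_preimage k X K _
    hZc hZi _ hW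
  have hW₀c : IsClosed (Subtype.val '' (irreducibleComponent p) : Set (Curv2.bc k X K)) :=
    hPc.isClosedEmbedding_subtypeVal.isClosedMap _ isClosed_irreducibleComponent
  have hdim2 : topologicalKrullDim (irreducibleComponent p) =
      topologicalKrullDim (Subtype.val '' (irreducibleComponent p) : Set (Curv2.bc k X K)) :=
    IsHomeomorph.topologicalKrullDim_eq _
      (Topology.IsEmbedding.subtypeVal.homeomorphImage (irreducibleComponent p)).isHomeomorph
  have hsub : closure ({w} : Set (Curv2.bc k X K)) ⊆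
      (Subtype.val '' (irreducibleComponent p) : Set (Curv2.bc k X K)) :=
    closure_minimal (Set.singleton_subset_iff.2 ⟨p, mem_irreducibleComponent, rfl⟩) hW₀c
  calc topologicalKrullDim (closure ({w} : Set (Curv2.bc k X K)))
      ≤ topologicalKrullDim (Subtype.val '' (irreducibleComponent p) : Set (Curv2.bc k X K)) :=
        Groth.Agent.Lib.Helper8.Conn.dim_mono hsub
    _ = _ := by rw [← hdim2, hdim]

/-- inverse images of closed subsets under `X_K ⟶ X` do not have larger dimension -/
theorem dim_preimage_le (Z : Set X) (hZ : IsClosed Z) :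
    topologicalKrullDim ↥((Curv2.bcFst k X K) ⁻¹' Z) ≤ topologicalKrullDim Z := by
  haveI := lft_bc k X K
  haveI : QuasiSober ↥((Curv2.bcFst k X K) ⁻¹' Z) :=
    quasiSober_of_isLocallyClosed _ (hZ.preimage (Curv2.bcFst k X K).continuous).isLocallyClosed
  refine topologicalKrullDim_le_of_forall_trdegNat_le K (Curv2.bc k X K) _ _ (fun t ht => ?_)
  rw [← topologicalKrullDim_closure_singleton K (Curv2.bc k X K) t]
  exact (dim_closure_le k X K t).trans
    (Groth.Agent.Lib.Helper8.Conn.dim_mono (closure_minimal (Set.singleton_subset_iff.2 ht) hZ))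

end Dim

section Down

variable (k : Type u) [Field k] (X : Scheme.{u}) [X.Over (Spec (CommRingCat.of k))]
  [IsProper (X ↘ Spec (CommRingCat.of k))] (K : Type u) [Field K] [Algebra k K]

attribute [local instance] bcOver

theorem isProper_bc : IsProper ((Curv2.bc k X K) ↘ Spec (CommRingCat.of K)) := by
  change IsProper (pullback.snd _ _)
  infer_instance

theorem isAffineHom_bcFst : IsAffineHom (Curv2.bcFst k X K) := by
  haveI : IsAffineHom (Spec.map (CommRingCat.ofHom (algebraMap k K))) :=
    isAffineHom_of_isAffine _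
  exact MorphismProperty.pullback_fst (P := @IsAffineHom) _ _ this

/-- the Euler characteristic is invariant under extension of the base field -/
theorem euler_bc (F : X.Modules) (hF : Coh.IsCoh F) :
    Curv2.euler K (Curv2.bc k X K) ((Scheme.Modules.pullback (Curv2.bcFst k X K)).obj F) =
      Curv2.euler k X F :=
  Groth.Agent.Lib.R2H4BCGlue.s7673 Groth.Agent.Lib.R2H4FieldBC.fieldBC k X K F hF

theorem isCoh_pullback {Y Z : Scheme.{u}} (g : Y ⟶ Z) (F : Z.Modules) (hF : Coh.IsCoh F) :
    Coh.IsCoh ((Scheme.Modules.pullback g).obj F) := by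
  haveI : F.IsQuasicoherent := hF.1
  haveI : SheafOfModules.IsFiniteType (R := Z.ringCatSheaf) F := hF.2
  exact ⟨Groth.Agent.Lib.Helper2.PullbackSec.isQuasicoherent_pullback g F,
    Groth.Agent.Lib.Helper20.FormalPull.isFiniteType_pullback g F⟩

theorem support_pullback {Y Z : Scheme.{u}} (g : Y ⟶ Z) (F : Z.Modules) (hF : Coh.IsCoh F) :
    CohB1.support ((Scheme.Modules.pullback g).obj F) = g ⁻¹' (CohB1.support F) := by
  haveI : F.IsQuasicoherent := hF.1
  haveI : SheafOfModules.IsFiniteType (R := Z.ringCatSheaf) F := hF.2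
  ext y
  change ¬ _ ↔ ¬ _
  rw [Groth.Agent.Lib.Helper20.PullbackAff.subsingleton_stalk_pullback_iff g F y]

/-- **nefness descends along an extension of the base field** -/
theorem nef_of_nef_bc (L : X.Modules) (hL : PicF.IsInvertible L)
    (hnef : Nef K (Curv2.bc k X K) ((Scheme.Modules.pullback (Curv2.bcFst k X K)).obj L)) :
    Nef k X L := by
  haveI := isProper_bc k X K
  haveI := Groth.Agent.Lib.R2H1.CurveEuler.isNoetherian_of_proper k X
  intro C hC hdim
  rw [← euler_quotMod_tensor_sub k X C hdim.le L hL]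
  have cF : Coh.IsCoh (ClSub.quotMod C) := isCoh_quotMod k C
  have hsuppF : topologicalKrullDim (CohB1.support (ClSub.quotMod C)) ≤
      ((1 : ℕ) : WithBot ℕ∞) := by
    refine (Groth.Agent.Lib.Helper8.Conn.dim_mono
      (Groth.Agent.Lib.R2H1.DegCartier.support_quotMod_subset (D := C))).trans ?_
    rw [hdim]; rfl
  have hcl : IsClosed (CohB1.support (ClSub.quotMod C)) :=
    Groth.Agent.S0020.result X _ cF.2
  have cG := isCoh_pullback (Curv2.bcFst k X K) _ cF
  have hsuppG : topologicalKrullDim (CohB1.support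
      ((Scheme.Modules.pullback (Curv2.bcFst k X K)).obj (ClSub.quotMod C))) ≤
      ((1 : ℕ) : WithBot ℕ∞) := by
    rw [support_pullback _ _ cF]
    exact (dim_preimage_le k X K _ hcl).trans hsuppF
  have hL' := Groth.Agent.Lib.Helper23.PB.isInvertible_pullback (Curv2.bcFst k X K) L hL
  have hG := iN_nonneg_curve K _ hL' hnef _ cG hsuppG
  rw [iN_one_slot] at hG
  have cFL : Coh.IsCoh (CohB1.tensorMod (ClSub.quotMod C) L) :=
    Groth.Agent.Lib.R2H3.AmpleSV.isCoh_tensorMod_invertible _ L cF hL
  have e1 := euler_bc k X K _ cFL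
  have e2 := euler_bc k X K _ cF
  have e3 := Groth.Agent.Lib.R2H1.DegCartier.euler_congr K
    (Groth.Agent.Lib.Helper23.RestrTensor.pullbackTensorIso (M := ClSub.quotMod C) (N := L)
      (Curv2.bcFst k X K))
  rw [← e1, ← e2, e3]
  exact_mod_cast hG

/-- **nefness is preserved by an extension of the base field**: integral schemes carrying an
ample invertible module -/
theorem nef_bc_of_isAmple [IsIntegral X] (A : X.Modules) (hA : CohB1.IsAmple A)
    (L : X.Modules) (hL : PicF.IsInvertible L) (hnef : Nef k X L) :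
    Nef K (Curv2.bc k X K) ((Scheme.Modules.pullback (Curv2.bcFst k X K)).obj L) := by
  haveI := isProper_bc k X K
  haveI := isAffineHom_bcFst k X K
  have hL' := Groth.Agent.Lib.Helper23.PB.isInvertible_pullback (Curv2.bcFst k X K) L hL
  have hA' := Groth.Agent.Lib.Helper23.PB.isAmple_pullback_of_isAffineHom (Curv2.bcFst k X K) A hA
  refine nef_of_isAmple_tensor K (Curv2.bc k X K) _ _ hL' hA' (fun ν _ => ?_)
  have h1 := Groth.Agent.Lib.Helper23.PB.isAmple_pullback_of_isAffineHom (Curv2.bcFst k X K) _
    (isAmple_nef_tensor_ample k X L A hL hnef hA ν)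
  obtain ⟨e⟩ := Groth.Agent.Lib.Helper23.PB.nonempty_pullback_tensorPow_iso
    (Curv2.bcFst k X K) L hL ν
  exact Groth.Agent.Lib.Helper23.AmpleIso.isAmple_of_iso
    ((Groth.Agent.Lib.Helper23.RestrTensor.pullbackTensorIso (M := CohB1.tensorPow L ν) (N := A)
      (Curv2.bcFst k X K)) ≪≫ Groth.Agent.Lib.R2H4TensorPows.tIso e (Iso.refl _)) h1

end Down

section Desc

open Groth.Agent.Lib.R2H4NumEqDesc Groth.Agent.Lib.R2H4NumEqPull

variable (k : Type u) [Field k] (X X' : Scheme.{u}) [X.Over (Spec (CommRingCat.of k))]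
  [IsProper (X ↘ (Spec (CommRingCat.of k)))] [X'.Over (Spec (CommRingCat.of k))]
  [IsProper (X' ↘ (Spec (CommRingCat.of k)))]

/-- descent of nonnegativity of the degree to a curve whose generic point is in the image
(the proof of `R2H1.NefPull.nef_of_pullback` with the surjectivity used only at one point) -/
theorem deg_nonneg_of_mem_range (f : X' ⟶ X)
    (hf : f ≫ (X ↘ (Spec (CommRingCat.of k))) = X' ↘ (Spec (CommRingCat.of k)))
    (L : X.Modules) (hL : PicF.IsInvertible L)
    (hnef : Nef k X' ((Scheme.Modules.pullback f).obj L))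
    (C : X.IdealSheafData) (hC : IsIntegral C.subscheme)
    (hdim : topologicalKrullDim (C.support : Set X) = 1)
    (η : X) (hη : closure ({η} : Set X) = (C.support : Set X))
    (hmem : η ∈ Set.range f.base) :
    0 ≤ Pic13.curveDeg k (C.subschemeι ≫ (X ↘ (Spec (CommRingCat.of k))))
      ((Scheme.Modules.pullback C.subschemeι).obj L) := by
  haveI := hC
  haveI : IsProper f := by
    haveI : IsProper (f ≫ (X ↘ Spec (CommRingCat.of k))) := by rw [hf]; infer_instance
    exact IsProper.of_comp f (X ↘ Spec (CommRingCat.of k))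
  have hY : topologicalKrullDim C.subscheme = 1 := by rw [← dim_support_eq, hdim]
  have hcl : closure {η} = Set.range C.subschemeι.base := by
    rw [hη]
    exact (Scheme.IdealSheafData.range_subschemeι C).symm
  have htr : trdegNat k X η = 1 := by
    have h1 := topologicalKrullDim_closure_singleton k X η
    rw [hcl] at h1
    have h2 : topologicalKrullDim (Set.range C.subschemeι.base) =
        topologicalKrullDim C.subscheme :=
      (IsHomeomorph.topologicalKrullDim_eq _
        (C.subschemeι.isEmbedding.toHomeomorph).isHomeomorph).symm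
    rw [h2, hY] at h1
    exact_mod_cast h1.symm
  obtain ⟨x', hx', htr'⟩ := exists_point_trdegNat_eq k f hf η hmem
  let Zc : Closeds X' := ⟨closure {x'}, isClosed_closure⟩
  obtain ⟨I, hI⟩ : ∃ I : X'.IdealSheafData, I = Scheme.IdealSheafData.vanishingIdeal Zc :=
    ⟨_, rfl⟩
  haveI : IrreducibleSpace ↥I.subscheme := by
    rw [hI]
    exact Groth.Agent.Lib.Helper6.EquiSub.irreducibleSpace_subscheme (X' := Zc) x' rfl
  haveI : IsReduced I.subscheme := by
    rw [hI]
    exact Groth.Agent.Lib.Helper11RedCl.isReduced_subscheme_vanishingIdeal Zc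
  have hint : IsIntegral I.subscheme := isIntegral_of_irreducibleSpace_of_isReduced _
  have hsupp : (I.support : Set X') = closure {x'} := by
    rw [hI]
    exact Scheme.IdealSheafData.coe_support_vanishingIdeal Zc
  have hrange' : Set.range I.subschemeι.base = closure {x'} := by
    rw [← hsupp]
    exact Scheme.IdealSheafData.range_subschemeι I
  have hdimI : topologicalKrullDim (I.support : Set X') = 1 := by
    rw [hsupp, topologicalKrullDim_closure_singleton k X' x', htr', htr]
    rfl
  have hY' : topologicalKrullDim I.subscheme = 1 := by rw [← dim_support_eq, hdimI]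
  have hr : Set.range (I.subschemeι ≫ f).base = Set.range C.subschemeι.base := by
    have h1 : Set.range (I.subschemeι ≫ f).base = f.base '' (Set.range I.subschemeι.base) := by
      rw [← Set.range_comp]
      rfl
    rw [h1, hrange', ← hcl, ← hx',
      ← f.isClosedMap.closure_image_eq_of_continuous f.continuous, Set.image_singleton]
  have hcomp : (I.subschemeι ≫ f) ≫ (X ↘ Spec (CommRingCat.of k)) =
      I.subschemeι ≫ (X' ↘ Spec (CommRingCat.of k)) := by
    rw [Category.assoc, hf]
  haveI : IsProper (I.subschemeι ≫ (X' ↘ Spec (CommRingCat.of k))) := inferInstance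
  haveI : IsProper ((I.subschemeι ≫ f) ≫ (X ↘ Spec (CommRingCat.of k))) := by
    rw [hcomp]; infer_instance
  obtain ⟨c, hc, hform⟩ := exists_pos_curveDeg_pullback k X hY' hY (I.subschemeι ≫ f)
    C.subschemeι hr
  have key := hnef I hint hdimI
  have eL : (Scheme.Modules.pullback I.subschemeι).obj ((Scheme.Modules.pullback f).obj L) ≅
      (Scheme.Modules.pullback (I.subschemeι ≫ f)).obj L :=
    (Scheme.Modules.pullbackComp I.subschemeι f).app L
  rw [curveDeg_congr k _ hY'.le eL] at key
  have hkey : Pic13.curveDeg k (I.subschemeι ≫ (X' ↘ Spec (CommRingCat.of k)))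
        ((Scheme.Modules.pullback (I.subschemeι ≫ f)).obj L) =
      Pic13.curveDeg k ((I.subschemeι ≫ f) ≫ (X ↘ Spec (CommRingCat.of k)))
        ((Scheme.Modules.pullback (I.subschemeι ≫ f)).obj L) := by
    congr 1
    exact hcomp.symm
  rw [hkey, hform L hL] at key
  exact (mul_nonneg_iff_of_pos_left hc).mp key

end Desc

section Up

variable (k : Type u) [Field k] (X : Scheme.{u}) [X.Over (Spec (CommRingCat.of k))]
  [IsProper (X ↘ Spec (CommRingCat.of k))] (K : Type u) [Field K] [Algebra k K]

attribute [local instance] bcOver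

theorem nef_of_iso {k : Type u} [Field k] {X : Scheme.{u}} [X.Over (Spec (CommRingCat.of k))]
    [IsProper (X ↘ Spec (CommRingCat.of k))] {M N : X.Modules} (e : M ≅ N) (h : Nef k X M) :
    Nef k X N := by
  intro C hC hdim
  have hY : topologicalKrullDim C.subscheme ≤ 1 := by rw [← dim_support_eq, hdim]
  rw [← Groth.Agent.Lib.R2H4NumEqPull.curveDeg_congr k _ hY
    ((Scheme.Modules.pullback C.subschemeι).mapIso e)]
  exact h C hC hdim

/-- **nefness is preserved by an extension of the base field** -/
theorem nef_bc (L : X.Modules) (hL : PicF.IsInvertible L) (hnef : Nef k X L) :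
    Nef K (Curv2.bc k X K) ((Scheme.Modules.pullback (Curv2.bcFst k X K)).obj L) := by
  haveI := isProper_bc k X K
  intro C' hC' hdim'
  haveI := hC'
  obtain ⟨η', hη'⟩ : ∃ η' : Curv2.bc k X K, closure ({η'} : Set (Curv2.bc k X K)) =
      (C'.support : Set (Curv2.bc k X K)) := by
    refine ⟨C'.subschemeι.base (genericPoint C'.subscheme), ?_⟩
    have h1 := (genericPoint_spec C'.subscheme).image C'.subschemeι.continuous
    rw [Set.image_univ] at h1
    rw [h1.def, ← Scheme.IdealSheafData.range_subschemeι C']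
    exact C'.subschemeι.isClosedEmbedding.isClosed_range.closure_eq
  -- Chow's lemma
  obtain ⟨n, X₁, π, j, hj, hcomm, hπ, hsurj, -⟩ :=
    Groth.Agent.S0025.result (X ↘ Spec (CommRingCat.of k))
  obtain ⟨x₁, hx₁⟩ := hsurj.surj (Curv2.bcFst k X K η')
  haveI : IsIntegral (zI x₁).subscheme := isIntegral_zS x₁
  letI : (zI x₁).subscheme.Over (Spec (CommRingCat.of k)) :=
    ⟨((zI x₁).subschemeι ≫ π) ≫ (X ↘ Spec (CommRingCat.of k))⟩
  haveI : IsProper ((zI x₁).subscheme ↘ Spec (CommRingCat.of k)) := by
    change IsProper (((zI x₁).subschemeι ≫ π) ≫ (X ↘ Spec (CommRingCat.of k)))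
    infer_instance
  -- an ample module
  haveI : IsImmersion j := hj
  obtain ⟨A, hA⟩ := Groth.Agent.Lib.R2H3.QProj.exists_isAmple_of_immersion
    ((zI x₁).subscheme ↘ Spec (CommRingCat.of k)) n ((zI x₁).subschemeι ≫ j)
    (by
      change ((zI x₁).subschemeι ≫ j) ≫ CohB1.ProjSpaceOver.toBase n _ =
        ((zI x₁).subschemeι ≫ π) ≫ (X ↘ Spec (CommRingCat.of k))
      rw [Category.assoc, hcomm, Category.assoc])
    (Coh.structureModule (Spec (CommRingCat.of k)))
    (Groth.Agent.Lib.Helper23.SecTw.isAmple_of_isQuasiAffine _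
      (Groth.Agent.Lib.Helper23.TensorUnit.isInvertible_structureModule _))
  -- nefness upstairs
  have hLW := Groth.Agent.Lib.Helper23.PB.isInvertible_pullback ((zI x₁).subschemeι ≫ π) L hL
  have hnefW : Nef k (zI x₁).subscheme
      ((Scheme.Modules.pullback ((zI x₁).subschemeι ≫ π)).obj L) :=
    fun C hC hd => nef_pullback k X (zI x₁).subscheme ((zI x₁).subschemeι ≫ π) rfl L hL hnef C hC hd
  have hnefW' := nef_bc_of_isAmple k (zI x₁).subscheme K A hA _ hLW hnefW
  haveI := isProper_bc k (zI x₁).subscheme K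
  -- the base change of the morphism
  have hp'1 : pullback.map ((zI x₁).subscheme ↘ Spec (CommRingCat.of k))
        (Spec.map (CommRingCat.ofHom (algebraMap k K))) (X ↘ Spec (CommRingCat.of k))
        (Spec.map (CommRingCat.ofHom (algebraMap k K))) ((zI x₁).subschemeι ≫ π) (𝟙 _) (𝟙 _)
        (by rw [Category.comp_id]; rfl) (by rw [Category.comp_id, Category.id_comp]) ≫
      Curv2.bcFst k X K = Curv2.bcFst k (zI x₁).subscheme K ≫ ((zI x₁).subschemeι ≫ π) :=
    pullback.lift_fst _ _ _
  have hp'2 : pullback.map ((zI x₁).subscheme ↘ Spec (CommRingCat.of k))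
        (Spec.map (CommRingCat.ofHom (algebraMap k K))) (X ↘ Spec (CommRingCat.of k))
        (Spec.map (CommRingCat.ofHom (algebraMap k K))) ((zI x₁).subschemeι ≫ π) (𝟙 _) (𝟙 _)
        (by rw [Category.comp_id]; rfl) (by rw [Category.comp_id, Category.id_comp]) ≫
      Curv2.bcSnd k X K = Curv2.bcSnd k (zI x₁).subscheme K := by
    rw [pullback.lift_snd, Category.comp_id]
  obtain ⟨p', hp1, hp2⟩ : ∃ p' : Curv2.bc k (zI x₁).subscheme K ⟶ Curv2.bc k X K,
      p' ≫ Curv2.bcFst k X K = Curv2.bcFst k (zI x₁).subscheme K ≫ ((zI x₁).subschemeι ≫ π) ∧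
      p' ≫ Curv2.bcSnd k X K = Curv2.bcSnd k (zI x₁).subscheme K := ⟨_, hp'1, hp'2⟩
  -- the pullback square
  have hsq : IsPullback p' (Curv2.bcFst k (zI x₁).subscheme K) (Curv2.bcFst k X K)
      ((zI x₁).subschemeι ≫ π) := by
    refine IsPullback.of_right ?_ hp1 (IsPullback.of_hasPullback _ _).flip
    rw [hp2]
    exact (IsPullback.of_hasPullback _ _).flip
  -- the point
  have hmem : η' ∈ Set.range p'.base := by
    obtain ⟨w₀, hw₀⟩ : x₁ ∈ Set.range (zI x₁).subschemeι.base := by
      rw [range_zι]; exact subset_closure rfl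
    obtain ⟨w', hw'1, -⟩ := AlgebraicGeometry.Scheme.exists_preimage_of_isPullback hsq η' w₀
      (by
        change _ = π.base ((zI x₁).subschemeι.base w₀)
        rw [hw₀, hx₁])
    exact ⟨w', hw'1⟩
  -- the modules
  have e : (Scheme.Modules.pullback (Curv2.bcFst k (zI x₁).subscheme K)).obj
        ((Scheme.Modules.pullback ((zI x₁).subschemeι ≫ π)).obj L) ≅
      (Scheme.Modules.pullback p').obj ((Scheme.Modules.pullback (Curv2.bcFst k X K)).obj L) :=
    (Scheme.Modules.pullbackComp _ _).app L ≪≫
      (Scheme.Modules.pullbackCongr hp1.symm).app L ≪≫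
      ((Scheme.Modules.pullbackComp _ _).app L).symm
  have hL' := Groth.Agent.Lib.Helper23.PB.isInvertible_pullback (Curv2.bcFst k X K) L hL
  exact deg_nonneg_of_mem_range K (Curv2.bc k X K) (Curv2.bc k (zI x₁).subscheme K) p' hp2 _ hL'
    (nef_of_iso e hnefW') C' hC' hdim' η' hη' hmem

end Up

end Groth.Agent.Lib.R2H4NefBC
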