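import Mathlib
import Groth.Prelude
import Groth.Agent.Lib.R2H4HodgeIneq
import Groth.Agent.Lib.H9NegDefGeo
import Groth.Agent.Lib.H9NegDefAlg
import Groth.Agent.Lib.H9NegDefRank
import Groth.Agent.Lib.Helper18Cart1
set_option backward.isDefEq.respectTransparency.types false

/-!
# A nef and big invertible module orthogonal to exactly a negative definite configuration
(helper4, round 2)

* `exists_comb` : finite integer combinations of invertible modules, with the pairing expanded.
* `main` : on a smooth proper integral surface with an ample module, for curves `C_i` with negative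
  definite intersection matrix there is an invertible `L`, nef, big, with `(L·D) = 0 ↔ D ∈ {C_i}`.
-/

set_option autoImplicit false
set_option linter.style.haveILetI false
set_option linter.unusedSectionVars false
universe u
open CategoryTheory CategoryTheory.Limits AlgebraicGeometry TopologicalSpace

noncomputable section

namespace Groth.Agent.Lib.R2H4NefBigOrth

open Groth.Agent.Lib.R2H4TensorPows Groth.Agent.Lib.R2H4FGAAdd Groth.Agent.Lib.R2H4SurfPos
  Groth.Agent.Lib.R2H4SurfHyp Groth.Agent.Lib.R2H4SurfDual Groth.Agent.Lib.R2H4HodgeIdx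
  Groth.Agent.Lib.R2H4HodgeIneq

section Comb

variable (k : Type u) [Field k] {X : Scheme.{u}} [X.Over (Spec (CommRingCat.of k))]
  [IsProper (X ↘ Spec (CommRingCat.of k))] [IsIntegral X]

theorem P_neg_left (hdim : topologicalKrullDim X = 2) (A A' M : X.Modules)
    (hA : PicF.IsInvertible A) (hM : PicF.IsInvertible M)
    (e : CohB1.tensorMod A A' ≅ Coh.structureModule X) :
    P k A M = - P k A' M := by
  have hd : topologicalKrullDim X ≤ ((2 : ℕ) : WithBot ℕ∞) := hdim.le
  have hA' : PicF.IsInvertible A' :=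
    Groth.Agent.Lib.Helper2.TensorInv.isInvertible_of_tensor_iso A' A (tComm _ _ ≪≫ e)
  have hO : PicF.IsInvertible (Coh.structureModule X) :=
    Groth.Agent.Lib.Helper23.TensorUnit.isInvertible_structureModule X
  have cO : Coh.IsCoh (Coh.structureModule X) :=
    Groth.Agent.Lib.R2H4SSDescent.isCoh_of_isInvertible _ hO
  have hsuppO : topologicalKrullDim (CohB1.support (Coh.structureModule X)) ≤
      ((1 + 1 : ℕ) : WithBot ℕ∞) :=
    (Topology.IsInducing.subtypeVal).topologicalKrullDim_le.trans hd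
  exact intNum_cons_inv k 2 hd (Fin.cons M (Fin.elim0 : Fin 0 → X.Modules) : Fin 1 → X.Modules)
    (inv1 M hM) A A' hA hA' e _ cO hsuppO

theorem P_zp (hdim : topologicalKrullDim X = 2) (A A' M : X.Modules)
    (hA : PicF.IsInvertible A) (hM : PicF.IsInvertible M)
    (e : CohB1.tensorMod A A' ≅ Coh.structureModule X) (z : ℤ) :
    P k (zp A A' z) M = z * P k A M := by
  have hd : topologicalKrullDim X ≤ ((2 : ℕ) : WithBot ℕ∞) := hdim.le
  have hA' : PicF.IsInvertible A' :=
    Groth.Agent.Lib.Helper2.TensorInv.isInvertible_of_tensor_iso A' A (tComm _ _ ≪≫ e)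
  have hO : PicF.IsInvertible (Coh.structureModule X) :=
    Groth.Agent.Lib.Helper23.TensorUnit.isInvertible_structureModule X
  have cO : Coh.IsCoh (Coh.structureModule X) :=
    Groth.Agent.Lib.R2H4SSDescent.isCoh_of_isInvertible _ hO
  have hsuppO : topologicalKrullDim (CohB1.support (Coh.structureModule X)) ≤
      ((1 + 1 : ℕ) : WithBot ℕ∞) :=
    (Topology.IsInducing.subtypeVal).topologicalKrullDim_le.trans hd
  exact intNum_zp k 2 hd (Fin.cons M (Fin.elim0 : Fin 0 → X.Modules) : Fin 1 → X.Modules)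
    (inv1 M hM) A A' hA hA' e _ cO hsuppO z

/-- finite integer combinations of invertible modules -/
theorem exists_comb (hdim : topologicalKrullDim X = 2) (A : X.Modules) (hA : PicF.IsInvertible A) :
    ∀ (r : ℕ) (N : Fin r → X.Modules) (_ : ∀ i, PicF.IsInvertible (N i)) (s : Fin r → ℤ),
      ∃ L : X.Modules, PicF.IsInvertible L ∧ ∀ M : X.Modules, PicF.IsInvertible M →
        P k L M = P k A M + ∑ i, s i * P k (N i) M
  | 0, N, _, s => ⟨A, hA, fun M _ => by simp⟩
  | (r + 1), N, hN, s => by
    obtain ⟨L₀, hL₀, h₀⟩ := exists_comb hdim A hA r (fun i => N i.castSucc)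
      (fun i => hN i.castSucc) (fun i => s i.castSucc)
    obtain ⟨L₀', -, ⟨e₀⟩⟩ := Groth.Agent.Lib.R2H4InvExists.exists_inverse L₀ hL₀
    obtain ⟨N', -, ⟨eN⟩⟩ := Groth.Agent.Lib.R2H4InvExists.exists_inverse (N (Fin.last r))
      (hN (Fin.last r))
    refine ⟨CohB1.tensorMod (zp L₀ L₀' 1) (zp (N (Fin.last r)) N' (s (Fin.last r))),
      isInvertible_comb L₀ L₀' _ N' hL₀ (hN _) e₀ eN 1 _, fun M hM => ?_⟩
    rw [P_comb k hdim L₀ L₀' _ N' hL₀ (hN _) e₀ eN 1 _ M hM, h₀ M hM, Fin.sum_univ_castSucc]
    ring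

end Comb

section Main

variable (k : Type u) [Field k] {X : Scheme.{u}} [X.Over (Spec (CommRingCat.of k))]
  [IsProper (X ↘ Spec (CommRingCat.of k))] [Smooth (X ↘ Spec (CommRingCat.of k))] [IsIntegral X]

theorem main (hdim : topologicalKrullDim X = 2)
    (hproj : ∃ H : X.Modules, CohB1.IsAmple H)
    (r : ℕ) (C : Fin r → X.IdealSheafData) (hC : Function.Injective C)
    (hCi : ∀ i, IsIntegral (C i).subscheme)
    (hCd : ∀ i, topologicalKrullDim ((C i).support : Set X) = 1)
    (hneg : ∀ a : Fin r → ℤ, a ≠ 0 →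
      ∑ i, ∑ j, a i * a j * FGA.intNum k X 2 ![(ClSub.idealMod (C i)), (ClSub.idealMod (C j))]
        (Coh.structureModule X) < 0) :
    ∃ L : X.Modules, PicF.IsInvertible L ∧
      (∀ D : X.IdealSheafData, IsIntegral D.subscheme →
        topologicalKrullDim (D.support : Set X) = 1 →
        0 ≤ Curv2.euler k X (CohB1.tensorMod (ClSub.quotMod D) L) -
          Curv2.euler k X (ClSub.quotMod D)) ∧
      0 < FGA.intNum k X 2 ![L, L] (Coh.structureModule X) ∧
      (∀ D : X.IdealSheafData, IsIntegral D.subscheme →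
        topologicalKrullDim (D.support : Set X) = 1 →
        (Curv2.euler k X (CohB1.tensorMod (ClSub.quotMod D) L) -
            Curv2.euler k X (ClSub.quotMod D) = 0 ↔ ∃ i, D = C i)) := by
  classical
  obtain ⟨H, hH⟩ := hproj
  obtain ⟨H', hH', ⟨eH⟩⟩ := Groth.Agent.Lib.R2H4InvExists.exists_inverse H hH.1
  have hE : ∀ D : X.IdealSheafData, IsIntegral D.subscheme →
      topologicalKrullDim (D.support : Set X) = 1 → BlowUp.IsEffCartierIdeal D := by
    intro D hDi hDd
    haveI := hDi
    exact Groth.Agent.Lib.H9NegDefGeo.isEffCartier_curve k hdim D hDd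
  have hInv : ∀ D : X.IdealSheafData, IsIntegral D.subscheme →
      topologicalKrullDim (D.support : Set X) = 1 → PicF.IsInvertible (ClSub.idealMod D) :=
    fun D hDi hDd => Groth.Agent.Helper18Cart.isInvertible_of_isEffCartier D (hE D hDi hDd)
  have hIC : ∀ i, PicF.IsInvertible (ClSub.idealMod (C i)) := fun i => hInv _ (hCi i) (hCd i)
  -- inverses `O(C_i)`
  have hex : ∀ i, ∃ N : X.Modules, PicF.IsInvertible N ∧
      Nonempty (CohB1.tensorMod (ClSub.idealMod (C i)) N ≅ Coh.structureModule X) := fun i =>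
    Groth.Agent.Lib.R2H4InvExists.exists_inverse _ (hIC i)
  choose N hN eN using hex
  let G : Fin r → Fin r → ℤ := fun i j => P k (ClSub.idealMod (C i)) (ClSub.idealMod (C j))
  have hGsymm : ∀ i j, G i j = G j i := fun i j => P_symm k hdim _ _
  have hGoff : ∀ i j, i ≠ j → 0 ≤ G i j := by
    intro i j hij
    haveI := hCi i
    haveI := hCi j
    exact Groth.Agent.Lib.H9NegDefGeo.gram_offdiag_nonneg k hdim (C i) (C j) (hCd i) (hCd j)
      (fun hc => hij (hC hc))
  -- degree of `H` on a curve
  have hupos : ∀ D : X.IdealSheafData, IsIntegral D.subscheme →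
      topologicalKrullDim (D.support : Set X) = 1 → 0 < P k (ClSub.idealMod D) H' :=
    fun D hDi hDd =>
      Groth.Agent.Lib.H9NegDefGeo.intNum_pos_of_dim_one k hdim D (hE D hDi hDd) hDd H H' hH eH
  let u : Fin r → ℤ := fun i => P k (ClSub.idealMod (C i)) H'
  have hu0 : ∀ i, 0 < u i := fun i => hupos _ (hCi i) (hCd i)
  have hneg' : ∀ a : Fin r → ℤ, a ≠ 0 → Groth.Agent.Lib.H9NegDefAlg.B G a a < 0 := hneg
  let GM : Matrix (Fin r) (Fin r) ℤ := Matrix.of G
  have hdet : GM.det ≠ 0 := by
    refine Groth.Agent.Lib.H9NegDefRank.det_ne_zero GM ?_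
    intro a ha
    have := hneg' a ha
    unfold Groth.Agent.Lib.H9NegDefRank.qf
    unfold Groth.Agent.Lib.H9NegDefAlg.B at this
    simpa [GM] using this
  set d := GM.det with hd
  let s₀ : Fin r → ℤ := (Matrix.adjugate GM).mulVec (fun j => - u j)
  have hs₀ : GM.mulVec s₀ = fun j => d * (- u j) := by
    change GM.mulVec ((Matrix.adjugate GM).mulVec (fun j => - u j)) = _
    rw [Matrix.mulVec_mulVec, Matrix.mul_adjugate, Matrix.smul_mulVec, Matrix.one_mulVec]
    funext j
    simp [hd]
  let s : Fin r → ℤ := fun i => d * s₀ i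
  have hs : ∀ j, - (d * d * u j) = ∑ i, s i * G i j := by
    intro j
    have h1 := congrFun hs₀ j
    unfold Matrix.mulVec dotProduct at h1
    have h2 : ∑ i, s i * G i j = d * ∑ i, GM j i * s₀ i := by
      rw [Finset.mul_sum]
      refine Finset.sum_congr rfl fun i _ => ?_
      change d * s₀ i * G i j = d * (G j i * s₀ i)
      rw [hGsymm j i]
      ring
    rw [h2, h1]
    ring
  have hsnn : ∀ i, 0 ≤ s i :=
    Groth.Agent.Lib.H9NegDefAlg.nonneg_of_orth G hGsymm hGoff hneg' (fun j => d * d * u j)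
      (fun j => mul_nonneg (mul_self_nonneg d) (hu0 j).le) s hs
  have hdd : 0 < d * d := mul_self_pos.mpr hdet
  -- the module `L`
  obtain ⟨L, hL, hPL⟩ := exists_comb k hdim (zp H H' (d * d))
    (isInvertible_zp H H' hH.1 hH' (d * d)) r N hN s
  -- pairing of `L` with an invertible module
  have hPL' : ∀ M : X.Modules, PicF.IsInvertible M →
      P k L M = - (d * d * P k M H') - ∑ i, s i * P k (ClSub.idealMod (C i)) M := by
    intro M hM
    rw [hPL M hM, P_zp k hdim H H' M hH.1 hM eH, P_neg_left k hdim H H' M hH.1 hM eH,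
      P_symm k hdim H' M]
    have : ∀ i, s i * P k (N i) M = - (s i * P k (ClSub.idealMod (C i)) M) := by
      intro i
      rw [P_neg_left k hdim (ClSub.idealMod (C i)) (N i) M (hIC i) hM (eN i).some]
      ring
    rw [Finset.sum_congr rfl fun i _ => this i, Finset.sum_neg_distrib]
    ring
  -- the degree of `L` on a curve
  have hdeg : ∀ D : X.IdealSheafData, IsIntegral D.subscheme →
      topologicalKrullDim (D.support : Set X) = 1 →
      Curv2.euler k X (CohB1.tensorMod (ClSub.quotMod D) L) - Curv2.euler k X (ClSub.quotMod D) =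
        d * d * P k (ClSub.idealMod D) H' +
          ∑ i, s i * P k (ClSub.idealMod (C i)) (ClSub.idealMod D) := by
    intro D hDi hDd
    have h1 := Groth.Agent.Lib.H9NegDefGeo.intNum_cartier_eq_euler k hdim D (hE D hDi hDd) L hL
    rw [P_eq, P_symm k hdim, hPL' _ (hInv D hDi hDd)] at h1
    linarith
  have hdegC : ∀ j, Curv2.euler k X (CohB1.tensorMod (ClSub.quotMod (C j)) L) -
      Curv2.euler k X (ClSub.quotMod (C j)) = 0 := by
    intro j
    rw [hdeg _ (hCi j) (hCd j)]
    have := hs j
    change - (d * d * u j) = ∑ i, s i * P k (ClSub.idealMod (C i)) (ClSub.idealMod (C j)) at this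
    rw [← this]
    change d * d * u j + - (d * d * u j) = 0
    ring
  have hdegD : ∀ D : X.IdealSheafData, IsIntegral D.subscheme →
      topologicalKrullDim (D.support : Set X) = 1 → (∀ i, C i ≠ D) →
      0 < Curv2.euler k X (CohB1.tensorMod (ClSub.quotMod D) L) -
        Curv2.euler k X (ClSub.quotMod D) := by
    intro D hDi hDd hne
    rw [hdeg D hDi hDd]
    have h1 : 0 < d * d * P k (ClSub.idealMod D) H' := mul_pos hdd (hupos D hDi hDd)
    have h2 : 0 ≤ ∑ i, s i * P k (ClSub.idealMod (C i)) (ClSub.idealMod D) := by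
      refine Finset.sum_nonneg fun i _ => mul_nonneg (hsnn i) ?_
      haveI := hCi i
      haveI := hDi
      exact Groth.Agent.Lib.H9NegDefGeo.gram_offdiag_nonneg k hdim (C i) D (hCd i) hDd (hne i)
    linarith
  refine ⟨L, hL, ?_, ?_, ?_⟩
  · intro D hDi hDd
    by_cases hex : ∃ i, C i = D
    · obtain ⟨i, rfl⟩ := hex
      exact (hdegC i).ge
    · push Not at hex
      exact (hdegD D hDi hDd hex).le
  · rw [P_eq, hPL' L hL]
    have h1 : ∀ i, P k (ClSub.idealMod (C i)) L = 0 := by
      intro i
      have h1 := Groth.Agent.Lib.H9NegDefGeo.intNum_cartier_eq_euler k hdim (C i)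
        (hE _ (hCi i) (hCd i)) L hL
      rw [P_eq] at h1
      have := hdegC i
      linarith
    rw [Finset.sum_congr rfl fun i _ => by rw [h1 i, mul_zero], Finset.sum_const_zero, sub_zero]
    -- `P L H' < 0`
    rw [hPL' H' hH']
    have hHH : 0 < P k H' H' := by
      have := self_pos k hdim H hH
      have e := intNum_inv_inv k hdim H H' H H' hH.1 hH.1 eH eH
      rw [P_eq, P_eq] at e
      rw [e]
      exact this
    have h2 : 0 ≤ ∑ i, s i * P k (ClSub.idealMod (C i)) H' :=
      Finset.sum_nonneg fun i _ => mul_nonneg (hsnn i) (hu0 i).le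
    have h3 : 0 < d * d * P k H' H' := mul_pos hdd hHH
    nlinarith
  · intro D hDi hDd
    constructor
    · intro h0
      by_contra hne
      push Not at hne
      have := hdegD D hDi hDd (fun i hc => hne i hc.symm)
      omega
    · rintro ⟨i, rfl⟩
      exact hdegC i

end Main

end Groth.Agent.Lib.R2H4NefBigOrth
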