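import Mathlib
import Groth.Prelude
import Groth.Agent.Lib.R2H4EffNef
import Groth.Agent.Lib.R2H4HiGrowthFam
import Groth.Agent.Lib.R2H1NefPull
import Groth.Agent.Lib.R2H1CurveDegSec
import Groth.Agent.Lib.R2H1IdealProd
import Groth.Agent.Lib.H9NegDefGeo
import Groth.Agent.Lib.R2H4NumEqPull
import Groth.Agent.Lib.R2H4PointTwist

/-!
# Curves of negative degree against an invertible module (helper4, round 2)

For an integral curve `E` on a proper integral surface `X` over a field and an invertible module `M`: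

* `cdeg k E M = χ(O_E ⊗ M) - χ(O_E)` is additive in `M` (`cdeg_tensor`), `cdeg_idealMod`;
* `subsingleton_H0_of_cdeg_neg` : if `cdeg k E M < 0` then `H⁰(X, O_E ⊗ M) = 0`;
* `h0_tensor_idealMod` : then `h⁰(M ⊗ I_E) = h⁰(M)`;
* `h0_tensor_idealMod_pow` : if `(M·E) + j (I_E·E) < 0` for all `j < s` then
  `h⁰(M ⊗ I_{E^s}) = h⁰(M)`.
-/

set_option autoImplicit false
set_option linter.style.haveILetI false
set_option linter.unusedSectionVars false
universe u
open CategoryTheory CategoryTheory.Limits AlgebraicGeometry TopologicalSpace Opposite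

namespace Groth.Agent.Lib.R2H4NegCurve

open Groth.Agent.Lib.R2H4TensorPows Groth.Agent.Lib.R2H4MultiAdd Groth.Agent.Lib.R2H4NumPoly
open Groth.Agent.Lib.R2H1.DegCartier Groth.Agent.Lib.R2H1.EulerAdd Groth.Agent.Lib.R2H2.HHLin

variable (k : Type u) [Field k] {X : Scheme.{u}} [X.Over (Spec (CommRingCat.of k))]
  [IsProper (X ↘ Spec (CommRingCat.of k))] [IsIntegral X]

/-- the degree of `M` on the closed subscheme `E` -/
noncomputable def cdeg (E : X.IdealSheafData) (M : X.Modules) : ℤ :=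
  Curv2.euler k X (CohB1.tensorMod (ClSub.quotMod E) M) - Curv2.euler k X (ClSub.quotMod E)

theorem cdeg_eq_iN (E : X.IdealSheafData) (M : X.Modules) :
    (cdeg k E M : ℚ) =
      iN k (Fin.cons M (Fin.elim0 : Fin 0 → X.Modules) : Fin 1 → X.Modules) (ClSub.quotMod E) := by
  rw [Groth.Agent.Lib.R2H4KleimanA.iN_one_slot]
  unfold cdeg
  push_cast
  rfl

/-- additivity of the degree on a curve -/
theorem cdeg_tensor (E : X.IdealSheafData)
    (hE : topologicalKrullDim (E.support : Set X) ≤ 1) (A B : X.Modules)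
    (hA : PicF.IsInvertible A) (hB : PicF.IsInvertible B) :
    cdeg k E (CohB1.tensorMod A B) = cdeg k E A + cdeg k E B := by
  haveI := Groth.Agent.Lib.R2H1.CurveEuler.isNoetherian_of_proper k X
  have cQ : Coh.IsCoh (ClSub.quotMod E) := Groth.Agent.Lib.R2H4Quo.isCoh_quotMod E
  have hsupp : topologicalKrullDim (CohB1.support (ClSub.quotMod E)) <
      ((0 + 2 : ℕ) : WithBot ℕ∞) := by
    rw [Groth.Agent.Lib.Helper6.OpenDim.topologicalKrullDim_congr_set
      (Groth.Agent.Lib.H9NegDefGeo.support_quotMod E)]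
    refine lt_of_le_of_lt hE ?_
    exact_mod_cast (by norm_num : (1 : ℕ) < 2)
  have h := iN_insertNth_tensor k (0 : Fin 1) (Fin.elim0 : Fin 0 → X.Modules)
    (fun i => i.elim0) A B hA hB (ClSub.quotMod E) cQ hsupp
  rw [Fin.insertNth_zero', Fin.insertNth_zero', Fin.insertNth_zero'] at h
  rw [← cdeg_eq_iN, ← cdeg_eq_iN, ← cdeg_eq_iN] at h
  exact_mod_cast h

theorem cdeg_congr (E : X.IdealSheafData) {A B : X.Modules} (e : A ≅ B) :
    cdeg k E A = cdeg k E B := by
  unfold cdeg
  rw [Groth.Agent.Lib.R2H1.DegCartier.euler_congr k (tIso (Iso.refl (ClSub.quotMod E)) e)]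

/-- `deg(I_E|_E) = -(E·E)` -/
theorem cdeg_idealMod (hdim : topologicalKrullDim X = 2) (E : X.IdealSheafData)
    (hE : BlowUp.IsEffCartierIdeal E) (M : X.Modules) (hM : PicF.IsInvertible M) :
    cdeg k E M = - FGA.intNum k X 2 ![ClSub.idealMod E, M] (Coh.structureModule X) := by
  rw [Groth.Agent.Lib.H9NegDefGeo.intNum_cartier_eq_euler k hdim E hE M hM]
  unfold cdeg
  ring

/-- a module of negative degree on an integral curve has no sections -/
theorem subsingleton_H0_of_cdeg_neg (E : X.IdealSheafData) [IsIntegral E.subscheme]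
    (hE1 : topologicalKrullDim (E.support : Set X) = 1) (M : X.Modules) (hM : PicF.IsInvertible M)
    (hneg : cdeg k E M < 0) :
    Subsingleton (Coh.HH X (CohB1.tensorMod (ClSub.quotMod E) M) 0) := by
  haveI := Groth.Agent.Lib.R2H1.CurveEuler.isNoetherian_of_proper k X
  letI : E.subscheme.Over (Spec (CommRingCat.of k)) :=
    ⟨E.subschemeι ≫ (X ↘ Spec (CommRingCat.of k))⟩
  haveI : IsProper (E.subscheme ↘ Spec (CommRingCat.of k)) :=
    inferInstanceAs (IsProper (E.subschemeι ≫ (X ↘ Spec (CommRingCat.of k))))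
  haveI := Groth.Agent.Lib.R2H1.CurveEuler.isNoetherian_of_proper k E.subscheme
  have hdimE : topologicalKrullDim E.subscheme = 1 := by
    rw [← Groth.Agent.Lib.R2H1.NefPull.dim_support_eq E]; exact hE1
  set N := (Scheme.Modules.pullback E.subschemeι).obj M with hN
  have hNi : PicF.IsInvertible N := Groth.Agent.Lib.Helper23.PB.isInvertible_pullback _ M hM
  have cO : Coh.IsCoh (Coh.structureModule E.subscheme) :=
    Groth.Agent.Lib.R2H1.GenusLe.isCoh_structureModule _
  have h1 := Groth.Agent.Lib.R2H4HiGrowthFam.hi_push_tensor k E.subschemeι rfl M hM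
    (Coh.structureModule E.subscheme) cO 0
  rw [Groth.Agent.Lib.R2H4HiGrowth.hi_congr k (lUnit N) 0] at h1
  -- the degree
  have hdeg := Groth.Agent.Lib.R2H1.NefPull.euler_quotMod_tensor_sub k X E hE1.le M hM
  rw [Groth.Agent.Lib.R2H4NumEqPull.curveDeg_eq_deg k _ hdimE.le] at hdeg
  have hneg' : Curv2.deg k E.subscheme N 1 < 0 := by
    rw [← hdeg]; exact hneg
  -- no sections on the curve
  have cN : Coh.IsCoh N := Groth.Agent.Lib.R2H4VolBasic.isCoh_of_isInvertible N hNi
  have h0 : Groth.Agent.Lib.R2H4HiGrowth.hi k N 0 = 0 := by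
    by_contra hcon
    have hpos : 0 < Groth.Agent.Lib.R2H4H0Growth.h0 k N := Nat.pos_of_ne_zero hcon
    obtain ⟨s, hs⟩ := Groth.Agent.Lib.R2H4VolBig.exists_section_of_h0_pos k N hpos
    have := Groth.Agent.Lib.R2H1.CurveDegSec.s1518 k E.subscheme hdimE N hNi s hs
    omega
  rw [h0] at h1
  have cQM : Coh.IsCoh (CohB1.tensorMod (ClSub.quotMod E) M) :=
    Groth.Agent.Lib.R2H3.AmpleSV.isCoh_tensorMod_invertible _ _
      (Groth.Agent.Lib.R2H4Quo.isCoh_quotMod E) hM
  haveI : Module.Finite k (Coh.HH X (CohB1.tensorMod (ClSub.quotMod E) M) 0) :=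
    finite_HH k X _ cQM 0
  exact Module.finrank_zero_iff.1 h1

/-- twisting by the ideal of a curve of negative degree does not change `h⁰` -/
theorem h0_tensor_idealMod (E : X.IdealSheafData) [IsIntegral E.subscheme]
    (hE1 : topologicalKrullDim (E.support : Set X) = 1) (M : X.Modules) (hM : PicF.IsInvertible M)
    (hneg : cdeg k E M < 0) :
    Module.finrank k (Coh.HH X (CohB1.tensorMod M (ClSub.idealMod E)) 0) =
      Module.finrank k (Coh.HH X M 0) := by
  haveI := Groth.Agent.Lib.R2H1.CurveEuler.isNoetherian_of_proper k X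
  have hMf : FlatMod.IsFinLocFree M := fun y => by
    obtain ⟨V, hy, e⟩ :=
      Groth.Agent.Lib.Helper23.SecTw.isFinLocFreeOfRank_one_of_isInvertible M hM y
    exact ⟨V, 1, hy, e⟩
  have hfl := Groth.Agent.Lib.R2H2.PullLF.isFlat_of_isFinLocFree M hMf
  have hS : ((idealSeq E).map (DCoh.tensorBi.obj M)).ShortExact :=
    Groth.Agent.Lib.R2Lead.TensorExact.shortExact_map_tensorBi M (fun y => hfl y)
      (idealSeq E) (idealSeq_shortExact E)
  haveI h3 : Subsingleton (Coh.HH X ((idealSeq E).map (DCoh.tensorBi.obj M)).X₃ 0) :=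
    Groth.Agent.Lib.R2H2.PnSerre.subsingleton_HH_of_iso (tComm (ClSub.quotMod E) M) 0
      (subsingleton_H0_of_cdeg_neg k E hE1 M hM hneg)
  have hinj : Function.Injective (HmapA k ((idealSeq E).map (DCoh.tensorBi.obj M)).f 0) :=
    injective_f_zero k _ hS
  have hsurj : Function.Surjective (HmapA k ((idealSeq E).map (DCoh.tensorBi.obj M)).f 0) := by
    intro x
    obtain ⟨x₁, hx₁⟩ := exact₂ _ hS 0 x (Subsingleton.elim _ _)
    exact ⟨x₁, hx₁⟩
  have e1 := (LinearEquiv.ofBijective _ ⟨hinj, hsurj⟩).finrank_eq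
  have hX₂ : Module.finrank k (Coh.HH X ((idealSeq E).map (DCoh.tensorBi.obj M)).X₂ 0) =
      Module.finrank k (Coh.HH X M 0) :=
    Groth.Agent.Lib.R2H2.ClosedPnLin.finrank_HH_of_iso k
      (Groth.Agent.Lib.Helper21.Dual.rU X.sheaf M) 0
  rw [← hX₂, ← e1]
  rfl

/-- the degree of a power of the ideal of an effective Cartier divisor -/
theorem cdeg_idealMod_pow (E : X.IdealSheafData)
    (hE : topologicalKrullDim (E.support : Set X) ≤ 1) (hEc : BlowUp.IsEffCartierIdeal E) :
    ∀ n : ℕ, cdeg k E (ClSub.idealMod (E ^ (n + 1))) = (n + 1 : ℤ) * cdeg k E (ClSub.idealMod E)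
  | 0 => by
    rw [zero_add, pow_one]; push_cast; ring
  | n + 1 => by
    have hpow := Groth.Agent.Lib.R2H1.IdealProd.isEffCartierIdeal_pow hEc n
    obtain ⟨e⟩ := Groth.Agent.Lib.R2H1.IdealProd.nonempty_idealMod_mul_iso (E ^ (n + 1)) E hpow hEc
    have h1 : E ^ (n + 1 + 1) = E ^ (n + 1) * E := pow_succ E (n + 1)
    rw [h1, ← cdeg_congr k E e, cdeg_tensor k E hE _ _
      (Groth.Agent.Helper18Cart.isInvertible_of_isEffCartier _ hpow)
      (Groth.Agent.Helper18Cart.isInvertible_of_isEffCartier _ hEc), cdeg_idealMod_pow E hE hEc n]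
    push_cast
    ring

/-- sections of `L` vanish to order `s + 1` along a curve `E` with `(L·E) + j (I_E·E) < 0` for `j ≤ s` -/
theorem h0_tensor_idealMod_pow (E : X.IdealSheafData) [IsIntegral E.subscheme]
    (hE1 : topologicalKrullDim (E.support : Set X) = 1) (hEc : BlowUp.IsEffCartierIdeal E)
    (L : X.Modules) (hL : PicF.IsInvertible L) :
    ∀ s : ℕ, (∀ j : ℕ, j < s + 1 → cdeg k E L + (j : ℤ) * cdeg k E (ClSub.idealMod E) < 0) →
      Module.finrank k (Coh.HH X (CohB1.tensorMod L (ClSub.idealMod (E ^ (s + 1)))) 0) =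
        Module.finrank k (Coh.HH X L 0)
  | 0, hneg => by
    rw [zero_add, pow_one]
    refine h0_tensor_idealMod k E hE1 L hL ?_
    have := hneg 0 (by omega)
    simpa using this
  | s + 1, hneg => by
    have ih := h0_tensor_idealMod_pow E hE1 hEc L hL s (fun j hj => hneg j (by omega))
    have hpow := Groth.Agent.Lib.R2H1.IdealProd.isEffCartierIdeal_pow hEc s
    obtain ⟨e⟩ := Groth.Agent.Lib.R2H1.IdealProd.nonempty_idealMod_mul_iso (E ^ (s + 1)) E hpow hEc
    have h1 : E ^ (s + 1 + 1) = E ^ (s + 1) * E := pow_succ E (s + 1)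
    have hIi := Groth.Agent.Helper18Cart.isInvertible_of_isEffCartier _ hpow
    have hMi : PicF.IsInvertible (CohB1.tensorMod L (ClSub.idealMod (E ^ (s + 1)))) :=
      Groth.Agent.Lib.Helper23.SecTw.isInvertible_tensorMod hL hIi
    have hdeg : cdeg k E (CohB1.tensorMod L (ClSub.idealMod (E ^ (s + 1)))) < 0 := by
      rw [cdeg_tensor k E hE1.le _ _ hL hIi, cdeg_idealMod_pow k E hE1.le hEc s]
      have := hneg (s + 1) (by omega)
      push_cast at this
      exact this
    have h2 := h0_tensor_idealMod k E hE1 _ hMi hdeg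
    rw [h1, ← ih, ← h2]
    exact Groth.Agent.Lib.R2H2.ClosedPnLin.finrank_HH_of_iso k
      (tIso (Iso.refl L) e.symm ≪≫ (tAssoc L _ _).symm) 0

section Pairing

open Groth.Agent.Lib.R2H4HodgeIneq

/-- additivity of the pairing in the first slot -/
theorem P_add_left (hdim : topologicalKrullDim X = 2) (A B C : X.Modules)
    (hA : PicF.IsInvertible A) (hB : PicF.IsInvertible B) (hC : PicF.IsInvertible C) :
    P k (CohB1.tensorMod A B) C = P k A C + P k B C := by
  have hd : topologicalKrullDim X ≤ ((2 : ℕ) : WithBot ℕ∞) := hdim.le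
  have hO : PicF.IsInvertible (Coh.structureModule X) :=
    Groth.Agent.Lib.Helper23.TensorUnit.isInvertible_structureModule X
  have cO : Coh.IsCoh (Coh.structureModule X) :=
    Groth.Agent.Lib.R2H4SSDescent.isCoh_of_isInvertible _ hO
  have hsuppO : topologicalKrullDim (CohB1.support (Coh.structureModule X)) ≤
      ((1 + 1 : ℕ) : WithBot ℕ∞) :=
    (Topology.IsInducing.subtypeVal).topologicalKrullDim_le.trans hd
  exact Groth.Agent.Lib.R2H4FGAAdd.s3232 k 2 hd
    (Fin.cons C (Fin.elim0 : Fin 0 → X.Modules) : Fin 1 → X.Modules)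
    (Groth.Agent.Lib.R2H4SurfDual.inv1 C hC) A B hA hB (Coh.structureModule X) cO hsuppO

/-- the pairing only depends on the isomorphism class of the first slot -/
theorem P_congr_left (hdim : topologicalKrullDim X = 2) {A A' : X.Modules} (e : A ≅ A')
    (C : X.Modules) : P k A C = P k A' C := by
  have hd : topologicalKrullDim X ≤ ((2 : ℕ) : WithBot ℕ∞) := hdim.le
  have h : (P k A C : ℚ) = (P k A' C : ℚ) := by
    unfold P
    have h1 := Groth.Agent.Lib.R2H4FGAAdd.intNum_cons k 2 hd
      (Fin.cons C (Fin.elim0 : Fin 0 → X.Modules) : Fin 1 → X.Modules) A (Coh.structureModule X)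
    have h2 := Groth.Agent.Lib.R2H4FGAAdd.intNum_cons k 2 hd
      (Fin.cons C (Fin.elim0 : Fin 0 → X.Modules) : Fin 1 → X.Modules) A' (Coh.structureModule X)
    have h3 := Groth.Agent.Lib.R2H4FGAAdd.intNum_congr k 2 hd
      (Fin.cons C (Fin.elim0 : Fin 0 → X.Modules) : Fin 1 → X.Modules)
      (tIso (Iso.refl (Coh.structureModule X)) e)
    change (FGA.intNum k X 2 (Fin.cons A (Fin.cons C (Fin.elim0 : Fin 0 → X.Modules)) :
      Fin 2 → X.Modules) (Coh.structureModule X) : ℚ) =
      FGA.intNum k X 2 (Fin.cons A' (Fin.cons C (Fin.elim0 : Fin 0 → X.Modules)) :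
      Fin 2 → X.Modules) (Coh.structureModule X)
    rw [h1, h2, h3]
  exact_mod_cast h

/-- the pairing with a power of an effective Cartier ideal -/
theorem P_idealMod_pow (hdim : topologicalKrullDim X = 2) (E : X.IdealSheafData)
    (hEc : BlowUp.IsEffCartierIdeal E) (C : X.Modules) (hC : PicF.IsInvertible C) :
    ∀ n : ℕ, P k (ClSub.idealMod (E ^ (n + 1))) C = (n + 1 : ℤ) * P k (ClSub.idealMod E) C
  | 0 => by
    rw [zero_add, pow_one]; push_cast; ring
  | n + 1 => by
    have hpow := Groth.Agent.Lib.R2H1.IdealProd.isEffCartierIdeal_pow hEc n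
    obtain ⟨e⟩ := Groth.Agent.Lib.R2H1.IdealProd.nonempty_idealMod_mul_iso (E ^ (n + 1)) E hpow hEc
    have h1 : E ^ (n + 1 + 1) = E ^ (n + 1) * E := pow_succ E (n + 1)
    rw [h1, ← P_congr_left k hdim e, P_add_left k hdim _ _ C
      (Groth.Agent.Helper18Cart.isInvertible_of_isEffCartier _ hpow)
      (Groth.Agent.Helper18Cart.isInvertible_of_isEffCartier _ hEc) hC,
      P_idealMod_pow hdim E hEc C hC n]
    push_cast
    ring

/-- a nef module has nonnegative degree on integral curves -/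
theorem cdeg_nonneg_of_nef (E : X.IdealSheafData) (hEi : IsIntegral E.subscheme)
    (hE1 : topologicalKrullDim (E.support : Set X) = 1) (M : X.Modules) (hM : PicF.IsInvertible M)
    (hnef : Groth.Agent.Lib.R2H4KleimanA.Nef k X M) : 0 ≤ cdeg k E M := by
  have h := hnef E hEi hE1
  rw [← Groth.Agent.Lib.R2H1.NefPull.euler_quotMod_tensor_sub k X E hE1.le M hM] at h
  exact h

/-- **no sections**: a curve `E` with `E² = -1`, `(L·E) < -1` and `2 (H·E) > (L·H)` for a nef `H`
forces `H⁰(L) = 0` -/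
theorem subsingleton_H0_of_neg_curve (hdim : topologicalKrullDim X = 2) (E : X.IdealSheafData)
    [IsIntegral E.subscheme] (hE1 : topologicalKrullDim (E.support : Set X) = 1)
    (hEc : BlowUp.IsEffCartierIdeal E)
    (hEE : FGA.intNum k X 2 ![ClSub.idealMod E, ClSub.idealMod E] (Coh.structureModule X) = -1)
    (L : X.Modules) (hL : PicF.IsInvertible L) (H : X.Modules) (hH : PicF.IsInvertible H)
    (hnef : Groth.Agent.Lib.R2H4KleimanA.Nef k X H)
    (hEH : P k L H < 2 * cdeg k E H) (hLE : cdeg k E L < -1) :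
    Subsingleton (Coh.HH X L 0) := by
  haveI := Groth.Agent.Lib.R2H1.CurveEuler.isNoetherian_of_proper k X
  have hIi : PicF.IsInvertible (ClSub.idealMod E) :=
    Groth.Agent.Helper18Cart.isInvertible_of_isEffCartier _ hEc
  have h1 : cdeg k E (ClSub.idealMod E) = 1 := by
    rw [cdeg_idealMod k hdim E hEc _ hIi, hEE]; norm_num
  -- the vanishing order
  obtain ⟨t, ht⟩ : ∃ t : ℕ, cdeg k E L = -((t : ℤ) + 1) - 1 := by
    refine ⟨(-(cdeg k E L) - 2).toNat, ?_⟩
    rw [Int.toNat_of_nonneg (by omega)]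
    ring
  have hpowc := Groth.Agent.Lib.R2H1.IdealProd.isEffCartierIdeal_pow hEc (t + 1)
  have hPi := Groth.Agent.Helper18Cart.isInvertible_of_isEffCartier _ hpowc
  have h2 := h0_tensor_idealMod_pow k E hE1 hEc L hL (t + 1) (fun j hj => by
    rw [h1, ht]
    have : (j : ℤ) < (t : ℤ) + 1 + 1 := by exact_mod_cast hj
    linarith)
  have hL'i : PicF.IsInvertible (CohB1.tensorMod L (ClSub.idealMod (E ^ (t + 1 + 1)))) :=
    Groth.Agent.Lib.Helper23.SecTw.isInvertible_tensorMod hL hPi
  -- the pairing with `H`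
  have h3 : P k (CohB1.tensorMod L (ClSub.idealMod (E ^ (t + 1 + 1)))) H < 0 := by
    rw [P_add_left k hdim _ _ H hL hPi hH, P_idealMod_pow k hdim E hEc H hH (t + 1)]
    have h4 : P k (ClSub.idealMod E) H = - cdeg k E H := by
      rw [cdeg_idealMod k hdim E hEc H hH, P_eq]; ring
    rw [h4]
    have h5 := cdeg_nonneg_of_nef k E inferInstance hE1 H hH hnef
    have h6 : (0 : ℤ) ≤ (t : ℤ) := Int.natCast_nonneg t
    push_cast
    nlinarith
  haveI := Groth.Agent.Lib.R2H4EffNef.subsingleton_H0_of_inter_neg k hdim _ hL'i H hH hnef h3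
  have h7 : Module.finrank k (Coh.HH X L 0) = 0 := by
    rw [← h2]
    exact Module.finrank_zero_of_subsingleton
  have cL : Coh.IsCoh L := Groth.Agent.Lib.R2H4VolBasic.isCoh_of_isInvertible L hL
  haveI : Module.Finite k (Coh.HH X L 0) := finite_HH k X L cL 0
  exact Module.finrank_zero_iff.1 h7

end Pairing

end Groth.Agent.Lib.R2H4NegCurve
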