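import Mathlib
import Groth.Prelude
import Groth.Agent.Lib.R2H4TrivIntA
import Groth.Agent.Lib.R2H4InvExists
import Groth.Agent.Lib.R2H4TensorPows
import Groth.Agent.Lib.Helper27PnSections
import Groth.Agent.Lib.Helper23TensorUnit
import Groth.Agent.Lib.Helper23AmpleIso

/-!
# Negative powers of an invertible module with effective positive powers have no sections (helper4)

On an integral proper scheme over a field, if `L^{⊗ j}` has a nonzero section for `j ≥ 4` and no positive power of
`L` is trivial, then the powers of an inverse `M` of `L` have no nonzero sections (S14064).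
-/

set_option autoImplicit false
set_option linter.style.haveILetI false
set_option linter.unusedSectionVars false
universe u
open CategoryTheory CategoryTheory.Limits AlgebraicGeometry TopologicalSpace Opposite

noncomputable section

namespace Groth.Agent.Lib.R2H4NegPowSec

open Groth.Agent.Lib.Helper23.SecTw Groth.Agent.Lib.Helper23.GenLocus Groth.Agent.Lib.Helper6
  Groth.Agent.Lib.R2H4TensorPows Groth.Agent.Lib.R2H4TrivInt Groth.Agent.Lib.Helper23.PB

variable {X : Scheme.{u}}

/-- tensor powers of isomorphic modules -/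
def powIso {A B : X.Modules} (e : A ≅ B) : ∀ h : ℕ, CohB1.tensorPow A h ≅ CohB1.tensorPow B h
  | 0 => Iso.refl _
  | h + 1 => tIso (powIso e h) e

/-- a tensor inverse of an invertible module is invertible -/
theorem isInvertible_of_isInverseOf (L M : X.Modules) (hL : PicF.IsInvertible L)
    (e : CohB1.tensorMod M L ≅ Coh.structureModule X) : PicF.IsInvertible M := by
  obtain ⟨L', hL', ⟨e'⟩⟩ := Groth.Agent.Lib.R2H4InvExists.exists_inverse L hL
  have φ : M ≅ L' := (rUnit M).symm ≪≫ tIso (Iso.refl M) e'.symm ≪≫ (tAssoc M L L').symm ≪≫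
    tIso e (Iso.refl L') ≪≫ lUnit L'
  exact Groth.Agent.Lib.Helper23.AmpleIso.isInvertible_of_iso φ.symm hL'

variable [IsIntegral X]

/-- powers of a nonzero section of an invertible module on an integral scheme are nonzero -/
theorem pw_ne_zero (A : X.Modules) (hA : PicF.IsInvertible A) (σ : Γ(A, ⊤)) (hσ : σ ≠ 0) (n : ℕ) :
    pw A ⊤ σ n ≠ 0 := by
  intro h0
  obtain ⟨x⟩ := (inferInstance : Nonempty X)
  obtain ⟨W, a, hxW, ha⟩ := exists_gen A hA x
  have hWne : (W : Set X).Nonempty := ⟨x, hxW⟩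
  haveI : Nonempty (W : Scheme.{u}) := ⟨⟨x, hxW⟩⟩
  haveI : IsDomain Γ(X, W) := inferInstance
  have hc := coef_spec ha le_rfl (res A (le_top : W ≤ ⊤) σ)
  rw [res_self] at hc
  set c := coef ha le_rfl (res A (le_top : W ≤ ⊤) σ)
  have hcne : c ≠ 0 := by
    intro hc0
    apply hσ
    apply eq_zero_of_res_eq_zero A hA σ W le_top hWne
    rw [← hc, hc0, zero_smul]
  have h1 : res (CohB1.tensorPow A n) (le_top : W ≤ ⊤) (pw A ⊤ σ n) = pw A W (res A le_top σ) n :=
    res_pw A le_top σ n
  rw [h0, ← hc, pw_smul] at h1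
  have h2 : res (CohB1.tensorPow A n) (le_top : W ≤ ⊤) (0 : Γ(CohB1.tensorPow A n, ⊤)) = 0 :=
    map_zero ((CohB1.tensorPow A n).presheaf.map (homOfLE (le_top : W ≤ ⊤)).op).hom
  rw [h2] at h1
  have hg := isGen_pw A W a ha n
  have h3 : c ^ n = 0 := by
    apply (hg W le_rfl).1
    simp only []
    rw [res_self, zero_smul]
    exact h1.symm
  exact pow_ne_zero n hcne h3


/-- the identity, as an additive equivalence between `toAb`-sections and module sections -/
def castEquiv (F : X.Modules) : (Coh.toAb F).obj.obj (op (⊤ : Opens X)) ≃+ Γ(F, ⊤) :=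
  { toFun := fun x => x
    invFun := fun x => x
    left_inv := fun _ => rfl
    right_inv := fun _ => rfl
    map_add' := fun _ _ => rfl }

/-- `H^0(X, F) ≃+ Γ(F, ⊤)` -/
def h0Equiv (F : X.Modules) : Coh.HH X F 0 ≃+ Γ(F, ⊤) :=
  (Groth.Agent.Lib.Helper27PnSections.hh0Equiv X F).trans (castEquiv F)

/-- an isomorphism of modules is injective on global sections -/
theorem app_ne_zero {F G : X.Modules} (e : F ≅ G) (σ : Γ(F, ⊤)) (hσ : σ ≠ 0) :
    e.hom.app ⊤ σ ≠ 0 := by
  intro h
  apply hσ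
  have h1 : e.inv.app ⊤ (e.hom.app ⊤ σ) = σ := by
    have h2 : (e.hom ≫ e.inv).app ⊤ σ = e.inv.app ⊤ (e.hom.app ⊤ σ) := rfl
    rw [← h2, e.hom_inv_id]
    rfl
  rw [← h1, h, map_zero]

/-- **S14064**: the negative powers of `L` have no sections -/
theorem main (k : Type u) [Field k] [X.Over (Spec (CommRingCat.of k))]
    [IsProper (X ↘ (Spec (CommRingCat.of k)))]
    (L M : X.Modules) (hL : PicF.IsInvertible L)
    (hM : Nonempty (CohB1.tensorMod M L ≅ Coh.structureModule X))
    (hsec : ∀ j : ℕ, 4 ≤ j → Nontrivial (Coh.HH X (CohB1.tensorPow L j) 0))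
    (hnt : ∀ j : ℕ, 1 ≤ j → IsEmpty (CohB1.tensorPow L j ≅ Coh.structureModule X))
    (i : ℕ) (hi : 1 ≤ i) :
    Subsingleton (Coh.HH X (CohB1.tensorPow M i) 0) := by
  by_contra hns
  rw [not_subsingleton_iff_nontrivial] at hns
  obtain ⟨eML⟩ := hM
  have hMinv : PicF.IsInvertible M := isInvertible_of_isInverseOf L M hL eML
  -- nonzero sections
  obtain ⟨σ0, hσ0⟩ := exists_ne (0 : Coh.HH X (CohB1.tensorPow M i) 0)
  haveI := hsec (i * 4) (by nlinarith)
  obtain ⟨τ0, hτ0⟩ := exists_ne (0 : Coh.HH X (CohB1.tensorPow L (i * 4)) 0)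
  set σ : Γ(CohB1.tensorPow M i, ⊤) := h0Equiv _ σ0 with hσdef
  set τ : Γ(CohB1.tensorPow L (i * 4), ⊤) := h0Equiv _ τ0 with hτdef
  have hσ : σ ≠ 0 := fun h => hσ0 (by
    have := (h0Equiv (CohB1.tensorPow M i)).injective (h.trans (map_zero _).symm)
    exact this)
  have hτ : τ ≠ 0 := fun h => hτ0 (by
    have := (h0Equiv (CohB1.tensorPow L (i * 4))).injective (h.trans (map_zero _).symm)
    exact this)
  have hA : PicF.IsInvertible (CohB1.tensorPow L (i * 4)) := isInvertible_tensorPow hL _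
  have hB : PicF.IsInvertible (CohB1.tensorPow M (i * 4)) := isInvertible_tensorPow hMinv _
  have hMi : PicF.IsInvertible (CohB1.tensorPow M i) := isInvertible_tensorPow hMinv _
  have h4 := pw_ne_zero (CohB1.tensorPow M i) hMi σ hσ 4
  obtain ⟨e4⟩ := nonempty_tensorPow_tensorPow_iso M hMinv i 4 (i * 4) rfl
  have ht' := app_ne_zero e4 _ h4
  obtain ⟨e1⟩ := nonempty_tensorPow_tensorMod_iso L M hL hMinv (i * 4)
  let e : CohB1.tensorMod (CohB1.tensorPow L (i * 4)) (CohB1.tensorPow M (i * 4)) ≅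
      Coh.structureModule X :=
    e1 ≪≫ powIso (tComm L M ≪≫ eML) (i * 4) ≪≫
      Groth.Agent.Lib.Helper23.TensorUnit.tensorPowUnitIso (i * 4)
  have hfield : IsField Γ(X, ⊤) :=
    isField_of_universallyClosed k (X ↘ Spec (CommRingCat.of k))
  have hgen := isGen_of_tensor_sections _ _ hA hB e τ _ hτ ht' hfield
  haveI := Groth.Agent.Lib.R2H4FFPic.isIso_secHom_of_isGen _ τ hgen
  exact (hnt (i * 4) (by nlinarith)).false (asIso (secHom _ τ)).symm

end Groth.Agent.Lib.R2H4NegPowSec
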