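import Mathlib
import Groth.Prelude.Def_FDesc
import Groth.Agent.Lib.R2H2NoEmbBC

/-!
# A one-dimensional Noetherian scheme with reduced ring of global sections has no embedded points
(helper4, round 2; = S7835)

If `x` were an embedded associated point it would be a closed point (`isClosed_singleton_of_specializes`);
on an affine chart the maximal associated prime `Q` of `x` is `Ann a` with `a ^ 2 = 0` (`exists_sq_zero`), `a` vanishes
on the chart away from `x`, so it glues with `0` on `C ∖ {x}` to a nonzero nilpotent global section.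
-/

set_option autoImplicit false
set_option linter.style.haveILetI false
universe u
open CategoryTheory CategoryTheory.Limits AlgebraicGeometry TopologicalSpace Opposite

namespace Groth.Agent.Lib.R2H4NoEmbCurve

/-- ring-level: a maximal associated prime which is not minimal is the annihilator of a square-zero
element which dies in every other localization -/
theorem exists_sq_zero {A : Type u} [CommRing A] [IsNoetherianRing A] (P Q' : Ideal A) [P.IsMaximal]
    [Q'.IsPrime] (hlt : Q' < P) (hP : P ∈ associatedPrimes A A) :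
    ∃ a : A, a ≠ 0 ∧ a * a = 0 ∧ ∀ u ∈ P, u * a = 0 := by
  obtain ⟨hPp, a, ha⟩ := isAssociatedPrime_iff.mp hP
  have hmem : ∀ u, u ∈ P ↔ u * a = 0 := by
    intro u
    rw [ha, Submodule.mem_colon_singleton]
    simp
  have haP : a ∈ P := by
    by_contra hna
    obtain ⟨r, hrP, hrQ⟩ := Set.exists_of_ssubset hlt
    have h0 : r * a ∈ Q' := by rw [(hmem r).mp hrP]; exact Q'.zero_mem
    rcases (‹Q'.IsPrime›.mem_or_mem h0) with h | h
    · exact hrQ h
    · exact hna (hlt.le h)
  refine ⟨a, ?_, (hmem a).mp haP, fun u hu => (hmem u).mp hu⟩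
  rintro rfl
  have : (1 : A) ∈ P := (hmem 1).mpr (by simp)
  exact (Ideal.ne_top_iff_one P).mp (Ideal.IsPrime.ne_top hPp) this

/-- in a scheme of dimension `≤ 1`, a proper specialization is a closed point -/
theorem isClosed_singleton_of_specializes {C : Scheme.{u}} (hdim : topologicalKrullDim C ≤ 1)
    {x y : C} (hyx : y ⤳ x) (hne : x ≠ y) : IsClosed ({x} : Set C) := by
  rw [← closure_eq_iff_isClosed]
  apply Set.Subset.antisymm _ subset_closure
  intro x' hx'
  have hxx' : x ⤳ x' := specializes_iff_mem_closure.mpr hx'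
  by_contra hne'
  have hne' : x' ≠ x := hne'
  let S : C → IrreducibleCloseds C := fun a =>
    ⟨closure {a}, isIrreducible_singleton.closure, isClosed_closure⟩
  have hlt : ∀ a b : C, a ⤳ b → a ≠ b → S b < S a := by
    intro a b hab hne
    refine lt_of_le_of_ne ?_ ?_
    · exact (specializes_iff_closure_subset.mp hab)
    · intro heq
      have h1 : closure {b} = closure ({a} : Set C) := congrArg (fun s => s.carrier) heq
      have : b ⤳ a := specializes_iff_closure_subset.mpr h1.ge
      exact hne (hab.antisymm this).eq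
  let l : LTSeries (IrreducibleCloseds C) :=
    ((RelSeries.singleton _ (S x')).snoc (S x) (by simpa using hlt x x' hxx' hne'.symm)).snoc (S y)
      (by simpa using hlt y x hyx hne.symm)
  have hl : l.length = 2 := by simp [l]
  have := Order.LTSeries.length_le_krullDim l
  rw [hl] at this
  have h2 : ((2 : ℕ) : WithBot ℕ∞) ≤ 1 := this.trans hdim
  norm_cast at h2

open Groth.Agent.Lib.Helper6.BcBridge Groth.Agent.Lib.Helper6.NoEmb in
theorem main (C : Scheme.{u}) [IsNoetherian C]
    (hdim : topologicalKrullDim C = 1) (hred : IsReduced Γ(C, ⊤)) :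
    AssSch.NoEmbedded (Coh.structureModule C) := by
  intro x hx y hy hyx
  by_contra hne
  have hx' := (Groth.Agent.Lib.Helper23.UnitStalk.isAssPoint_structureModule_iff x).mp hx
  have hcl : IsClosed ({x} : Set C) := isClosed_singleton_of_specializes hdim.le hyx hne
  -- affine chart
  obtain ⟨_, ⟨U, hU : IsAffineOpen U, rfl⟩, hxU, -⟩ :=
    C.isBasis_affineOpens.exists_subset_of_mem_open (Set.mem_univ x) isOpen_univ
  have hyU : y ∈ U := hyx.mem_open U.2 hxU
  haveI : IsNoetherianRing Γ(C, U) := IsLocallyNoetherian.component_noetherian ⟨U, hU⟩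
  let j : Spec (CommRingCat.of Γ(C, U)) ⟶ C := hU.fromSpec
  haveI : IsOpenImmersion j := inferInstanceAs (IsOpenImmersion hU.fromSpec)
  have hrange : Set.range j = U := hU.range_fromSpec
  obtain ⟨Q, hQx⟩ : x ∈ Set.range j := by rw [hrange]; exact hxU
  obtain ⟨Q', hQy⟩ : y ∈ Set.range j := by rw [hrange]; exact hyU
  subst hQx hQy
  have hQ : Q.asIdeal ∈ associatedPrimes Γ(C, U) Γ(C, U) :=
    mem_associatedPrimes_of_atPrime Q.asIdeal
      (isAssociatedPrime_maximalIdeal_of_ringEquiv (stalkEquivSpec j Q) hx')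
  have hspec : Q' ⤳ Q := j.isOpenEmbedding.isInducing.specializes_iff.mp hyx
  have hle : Q'.asIdeal ≤ Q.asIdeal := (PrimeSpectrum.le_iff_specializes Q' Q).mpr hspec
  have hlt : Q'.asIdeal < Q.asIdeal := lt_of_le_of_ne hle (fun h => hne (by rw [PrimeSpectrum.ext h]))
  have hclQ : IsClosed ({Q} : Set (Spec (CommRingCat.of Γ(C, U)))) := by
    have : ({Q} : Set (Spec (CommRingCat.of Γ(C, U)))) = j ⁻¹' {j Q} := by
      ext z
      constructor
      · intro h
        rw [Set.mem_singleton_iff] at h
        rw [h]; rfl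
      · intro h
        exact j.isOpenEmbedding.injective h
    rw [this]
    exact hcl.preimage j.continuous
  haveI hmax : Q.asIdeal.IsMaximal := (PrimeSpectrum.isClosed_singleton_iff_isMaximal Q).mp hclQ
  obtain ⟨a, ha0, haa, hua⟩ := exists_sq_zero Q.asIdeal Q'.asIdeal hlt hQ
  let W : C.Opens := ⟨{j Q}ᶜ, hcl.isOpen_compl⟩
  -- `a` vanishes away from the point
  have hres : C.presheaf.map (homOfLE (inf_le_left : U ⊓ W ≤ U)).op a = 0 := by
    apply TopCat.Presheaf.section_ext C.sheaf (U ⊓ W)
    intro z hz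
    refine Eq.trans ?_ (map_zero (C.presheaf.germ (U ⊓ W) z hz).hom).symm
    change C.presheaf.germ (U ⊓ W) z hz (C.presheaf.map (homOfLE inf_le_left).op a) = 0
    rw [TopCat.Presheaf.germ_res_apply]
    have hzU : z ∈ U := hz.1
    have hzne : z ≠ j Q := hz.2
    obtain ⟨Qz, rfl⟩ : z ∈ Set.range j := by rw [hrange]; exact hzU
    have hnle : ¬ Q.asIdeal ≤ Qz.asIdeal := by
      intro hle'
      have := hmax.eq_of_le Qz.2.ne_top hle'
      exact hzne (by rw [PrimeSpectrum.ext this])
    obtain ⟨u, huQ, huz⟩ := Set.not_subset.mp hnle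
    have hmemb : j Qz ∈ C.basicOpen u := by
      have : Qz ∈ (hU.fromSpec ⁻¹ᵁ C.basicOpen u) := by
        rw [hU.fromSpec_preimage_basicOpen]
        exact huz
      exact this
    have hunit : IsUnit (C.presheaf.germ U (j Qz) hzU u) := (C.mem_basicOpen u (j Qz) hzU).mp hmemb
    have h0 : C.presheaf.germ U (j Qz) hzU u * C.presheaf.germ U (j Qz) hzU a = 0 := by
      rw [← map_mul, hua u huQ, map_zero]
    exact (hunit.mul_right_eq_zero).mp h0
  -- glue `a` with `0`
  let pr : (CommRingCat.of <| RingHom.eqLocus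
      (RingHom.comp (C.sheaf.obj.map (homOfLE inf_le_left : U ⊓ W ⟶ U).op).hom
        (RingHom.fst (C.sheaf.obj.obj <| op U) (C.sheaf.obj.obj <| op W)))
      (RingHom.comp (C.sheaf.obj.map (homOfLE inf_le_right : U ⊓ W ⟶ W).op).hom
        (RingHom.snd (C.sheaf.obj.obj <| op U) (C.sheaf.obj.obj <| op W)))) :=
    ⟨(a, 0), by
      change C.presheaf.map (homOfLE (inf_le_left : U ⊓ W ≤ U)).op a =
        C.presheaf.map (homOfLE (inf_le_right : U ⊓ W ≤ W)).op 0
      rw [hres]
      exact (map_zero (C.presheaf.map (homOfLE (inf_le_right : U ⊓ W ≤ W)).op).hom).symm⟩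
  let t : Γ(C, U ⊔ W) := (C.sheaf.objSupIsoProdEqLocus U W).inv pr
  have ht1 : C.presheaf.map (homOfLE (le_sup_left : U ≤ U ⊔ W)).op t = a :=
    C.sheaf.objSupIsoProdEqLocus_inv_fst U W pr
  have hpr : pr * pr = 0 := by
    apply Subtype.ext
    exact Prod.ext haa (mul_zero 0)
  have htt : t * t = 0 := by
    change (C.sheaf.objSupIsoProdEqLocus U W).inv pr * (C.sheaf.objSupIsoProdEqLocus U W).inv pr = 0
    rw [← map_mul, hpr]
    exact map_zero (C.sheaf.objSupIsoProdEqLocus U W).inv.hom
  have hUW : U ⊔ W = ⊤ := by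
    ext z
    simp only [Opens.coe_sup, Opens.coe_top, Set.mem_union, Set.mem_univ, iff_true]
    by_cases hz : z = j Q
    · left; rw [hz]; exact hxU
    · right; exact hz
  haveI : IsReduced Γ(C, U ⊔ W) := by rw [hUW]; exact hred
  have ht0 : t = 0 := IsNilpotent.eq_zero ⟨2, by rw [pow_two]; exact htt⟩
  apply ha0
  rw [← ht1, ht0]
  exact map_zero (C.presheaf.map (homOfLE (le_sup_left : U ≤ U ⊔ W)).op).hom

end Groth.Agent.Lib.R2H4NoEmbCurve
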