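import Mathlib
import Groth.Agent.Lib.R2H4SecNorm
import Groth.Agent.Lib.R2H4FiniteTriv
import Groth.Agent.Lib.R2H4CocycleGlue

/-!
# The norm of an invertible module along a finite morphism with a norm (helper4, round 2)

`π : X ⟶ Y` finite carrying a norm `Nm` of degree `d` (prelude `Nrm.NormOfDegree`), `L` invertible on `X`.

* `exists_norm_module` : an invertible `O_Y`-module `N` (the norm of `L`, glued from the norms of the transition
  functions of `L` on a cover of `Y` trivialising `L` on preimages) such that every section `t` of `L^{⊗ n}` has a norm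
  section `s` of `N^{⊗ n}` with `Y_s = {y | π⁻¹(y) ⊆ X_t}`.
* `exists_isAmple_of_normOfDegree` : if `L` is ample then `N` is ample (EGA II 6.6.2).
-/

set_option autoImplicit false
set_option linter.style.haveILetI false
universe u
open CategoryTheory CategoryTheory.Limits AlgebraicGeometry TopologicalSpace Opposite
open Groth.Agent.Lib.Helper23.SecTw Groth.Agent.Lib.Helper23.GenLocus
  Groth.Agent.Lib.Helper23.Extend Groth.Agent.Lib.Helper6 Groth.Agent.Lib.R2H4SecNorm
  Groth.Agent.Lib.R2H4CocycleGlue Groth.Agent.Lib.R2H4FiniteTriv Groth.Agent.Lib.Helper23.GenNear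

namespace Groth.Agent.Lib.R2H4NormInv

variable {X Y : Scheme.{u}} (π : X ⟶ Y) {d : ℕ} (Nm : Nrm.NormOfDegree π d)

section cover

variable (L : X.Modules) {ι : Type*} (W : ι → Y.Opens) (e : ∀ i, Γ(L, π ⁻¹ᵁ W i))
  (he : ∀ i, IsGen L (π ⁻¹ᵁ W i) (e i))

/-- the transition functions of `L` -/
noncomputable def ct (i j : ι) : Γ(X, π ⁻¹ᵁ (W i ⊓ W j)) :=
  coef (he i) (π.preimage_mono (inf_le_left : W i ⊓ W j ≤ W i))
    (res L (π.preimage_mono (inf_le_right : W i ⊓ W j ≤ W j)) (e j))

theorem ct_spec (i j : ι) {T : Y.Opens} (hT : T ≤ W i ⊓ W j) :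
    res L (π.preimage_mono (hT.trans inf_le_right)) (e j) =
      resf (π.preimage_mono hT) (ct π L W e he i j) •
        res L (π.preimage_mono (hT.trans inf_le_left)) (e i) := by
  have h1 := coef_spec (he i) (π.preimage_mono (inf_le_left : W i ⊓ W j ≤ W i))
    (res L (π.preimage_mono (inf_le_right : W i ⊓ W j ≤ W j)) (e j))
  have h2 := congrArg (res L (π.preimage_mono hT)) h1
  rw [res_smul, res_res, res_res] at h2
  exact h2.symm

theorem isUnit_ct (i j : ι) : IsUnit (ct π L W e he i j) := by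
  have h1 := (he i).mono (π.preimage_mono (inf_le_left : W i ⊓ W j ≤ W i))
  have h2 := (he j).mono (π.preimage_mono (inf_le_right : W i ⊓ W j ≤ W j))
  have h3 := ct_spec π L W e he i j (le_refl (W i ⊓ W j))
  have h4 : resf (π.preimage_mono (le_refl (W i ⊓ W j))) (ct π L W e he i j) =
      ct π L W e he i j := by
    change X.presheaf.map (𝟙 _) _ = _
    rw [X.presheaf.map_id]; rfl
  rw [h4] at h3
  rw [h3] at h2
  exact (isGen_smul_iff h1 _).1 h2

theorem ct_mul (i j k : ι) :
    resf (π.preimage_mono (le_inf (inf_le_left.trans inf_le_left) inf_le_right :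
        W i ⊓ W j ⊓ W k ≤ W i ⊓ W k)) (ct π L W e he i k) =
      resf (π.preimage_mono (inf_le_left : W i ⊓ W j ⊓ W k ≤ W i ⊓ W j)) (ct π L W e he i j) *
        resf (π.preimage_mono (le_inf (inf_le_left.trans inf_le_right) inf_le_right :
          W i ⊓ W j ⊓ W k ≤ W j ⊓ W k)) (ct π L W e he j k) := by
  have hT : π ⁻¹ᵁ (W i ⊓ W j ⊓ W k) ≤ π ⁻¹ᵁ W i :=
    π.preimage_mono (inf_le_left.trans inf_le_left)
  apply ((he i) _ hT).1
  change _ • res L hT (e i) = _ • res L hT (e i)
  have h1 := ct_spec π L W e he i k (le_inf (inf_le_left.trans inf_le_left) inf_le_right :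
        W i ⊓ W j ⊓ W k ≤ W i ⊓ W k)
  have h2 := ct_spec π L W e he i j (inf_le_left : W i ⊓ W j ⊓ W k ≤ W i ⊓ W j)
  have h3 := ct_spec π L W e he j k (le_inf (inf_le_left.trans inf_le_right) inf_le_right :
          W i ⊓ W j ⊓ W k ≤ W j ⊓ W k)
  rw [← h1, mul_comm, mul_smul, ← h2, ← h3]

/-- the norms of the transition functions -/
noncomputable def cn (i j : ι) : Γ(Y, W i ⊓ W j) := Nm.norm (W i ⊓ W j) (ct π L W e he i j)

theorem isCoc_cn : IsCoc W (cn π Nm L W e he) := by
  refine isCoc_of_res W _ (fun i j => (isUnit_ct π L W e he i j).map (Nm.norm (W i ⊓ W j)))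
    (fun i j k => ?_)
  unfold cn
  rw [resf_norm, resf_norm, resf_norm, ← map_mul]
  congr 1
  exact ct_mul π L W e he i j k

/-- coordinates of a section of a tensor power -/
noncomputable def tc (n : ℕ) (t : Coh.structureModule X ⟶ CohB1.tensorPow L n) (i : ι) :
    Γ(X, π ⁻¹ᵁ W i) :=
  coef (isGen_pw L _ (e i) (he i) n) le_rfl (sv t (π ⁻¹ᵁ W i))

theorem tc_spec (n : ℕ) (t : Coh.structureModule X ⟶ CohB1.tensorPow L n) (i : ι) :
    sv t (π ⁻¹ᵁ W i) = tc π L W e he n t i • pw L _ (e i) n :=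
  sv_eq_coef_smul t (isGen_pw L _ (e i) (he i) n)

theorem tc_rel (n : ℕ) (t : Coh.structureModule X ⟶ CohB1.tensorPow L n) (i j : ι) :
    resf (π.preimage_mono (inf_le_left : W i ⊓ W j ≤ W i)) (tc π L W e he n t i) =
      ct π L W e he i j ^ n *
        resf (π.preimage_mono (inf_le_right : W i ⊓ W j ≤ W j)) (tc π L W e he n t j) := by
  have hT : π ⁻¹ᵁ (W i ⊓ W j) ≤ π ⁻¹ᵁ W i := π.preimage_mono inf_le_left
  have hT' : π ⁻¹ᵁ (W i ⊓ W j) ≤ π ⁻¹ᵁ W j := π.preimage_mono inf_le_right
  apply ((isGen_pw L _ (e i) (he i) n) _ hT).1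
  change _ • res (CohB1.tensorPow L n) hT (pw L _ (e i) n) =
    _ • res (CohB1.tensorPow L n) hT (pw L _ (e i) n)
  have h1 := congrArg (res (CohB1.tensorPow L n) hT) (tc_spec π L W e he n t i)
  have h2 := congrArg (res (CohB1.tensorPow L n) hT') (tc_spec π L W e he n t j)
  rw [res_sv, res_smul] at h1 h2
  rw [← h1, h2, res_pw, res_pw, mul_comm, mul_smul, ← pw_smul]
  congr 2
  have h3 := ct_spec π L W e he i j (le_refl (W i ⊓ W j))
  have h4 : resf (π.preimage_mono (le_refl (W i ⊓ W j))) (ct π L W e he i j) =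
      ct π L W e he i j := by
    change X.presheaf.map (𝟙 _) _ = _
    rw [X.presheaf.map_id]; rfl
  rw [h4] at h3
  exact h3

end cover

include Nm in
/-- **The norm of an invertible module.** -/
theorem exists_norm_module [IsFinite π] (L : X.Modules) (hL : PicF.IsInvertible L) :
    ∃ N : Y.Modules, PicF.IsInvertible N ∧
      ∀ (n : ℕ) (t : Coh.structureModule X ⟶ CohB1.tensorPow L n),
        ∃ s : Coh.structureModule Y ⟶ CohB1.tensorPow N n,
          ∀ y : Y, y ∈ CohB1.genLocus _ s ↔ ∀ x : X, π x = y → x ∈ CohB1.genLocus _ t := by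
  choose W e hyW he using fun y => exists_nhd_frame_preimage π L hL y
  have hcov : ∀ y : Y, ∃ i, y ∈ W i := fun y => ⟨y, hyW y⟩
  obtain ⟨N, ε, hN, hgen, htr⟩ := exists_glue W hcov (cn π Nm L W e he) (isCoc_cn π Nm L W e he)
  refine ⟨N, hN, fun n t => ?_⟩
  obtain ⟨s, hs⟩ := exists_section W hcov (fun i j => cn π Nm L W e he i j ^ n)
    (CohB1.tensorPow N n) (fun i => pw N (W i) (ε i) n)
    (fun i j => by rw [res_pw, res_pw, htr i j, pw_smul])
    (fun i => Nm.norm (W i) (tc π L W e he n t i))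
    (fun i j => by
      rw [resf_norm, resf_norm, tc_rel π L W e he n t i j, map_mul, map_pow]
      rfl)
  refine ⟨s, fun y => ?_⟩
  have h1 := genLocus_inf_eq_of_isGen (CohB1.tensorPow N n) s (W y) (pw N (W y) (ε y) n) _
    (isGen_pw N (W y) (ε y) (hgen y) n) (hs y)
  have h2 := genLocus_inf_eq_of_isGen (CohB1.tensorPow L n) t (π ⁻¹ᵁ W y) (pw L _ (e y) n) _
    (isGen_pw L _ (e y) (he y) n) (tc_spec π L W e he n t y)
  have h3 := mem_basicOpen_norm_iff π Nm (W y) (tc π L W e he n t y) y (hyW y)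
  rw [← h1, ← h2] at h3
  constructor
  · intro hy x hx
    exact (h3.1 ⟨hy, hyW y⟩ x hx).1
  · intro h
    refine (h3.2 fun x hx => ⟨h x hx, ?_⟩).1
    change π x ∈ W y
    rw [hx]; exact hyW y

include Nm in
/-- **EGA II 6.6.2.** If `X` carries an ample invertible module and `π : X ⟶ Y` is finite with a norm, then `Y` carries
an ample invertible module. -/
theorem exists_isAmple_of_normOfDegree [IsFinite π] (L : X.Modules) (hL : CohB1.IsAmple L) :
    ∃ N : Y.Modules, CohB1.IsAmple N := by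
  obtain ⟨N, hN, hsec⟩ := exists_norm_module π Nm L hL.1
  have hsurj := Groth.Agent.Lib.R2H4.NormQAff.surjective_of_normOfDegree π Nm
  haveI : CompactSpace X := hL.2.1
  haveI : CompactSpace Y := hsurj.compactSpace π.continuous
  refine ⟨N, hN, inferInstance, fun y => ?_⟩
  obtain ⟨_, ⟨U, hU, rfl⟩, hyU, -⟩ := Y.isBasis_affineOpens.exists_subset_of_mem_open
    (Set.mem_univ y) isOpen_univ
  have hfin : (π ⁻¹' {y}).Finite := Scheme.Hom.finite_preimage_singleton π y
  obtain ⟨n, t, hZt, htU, -⟩ := exists_affine_genLocus_of_finite L hL (π ⁻¹' {y}) hfin (π ⁻¹ᵁ U)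
    (fun z hz => by
      change π z ∈ U
      rw [show π z = y from hz]; exact hyU)
  obtain ⟨s, hs⟩ := hsec (n + 1) t
  refine ⟨n, s, (hs y).2 (fun x hx => hZt hx), ?_⟩
  have hle : CohB1.genLocus _ s ≤ U := by
    intro y' hy'
    obtain ⟨z, rfl⟩ := hsurj y'
    exact htU ((hs (π z)).1 hy' z rfl)
  have := isAffineOpen_inf_genLocus _ (isInvertible_tensorPow hN (n + 1)) s U hU
  rwa [inf_eq_right.2 hle] at this

end Groth.Agent.Lib.R2H4NormInv
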