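import Mathlib
import Groth.Prelude
import Groth.Agent.Lib.R2H4CurveOnSurf
import Groth.Agent.Lib.R2H4GorRR

set_option autoImplicit false
set_option linter.style.haveILetI false
universe u

/-!
# `C · C = deg N_{C/S}` for an integral curve on a smooth projective surface (helper4, round 2)

Namespace `Groth.Agent.Lib.R2H4NormalDeg`.  Uses `R2H4CurveOnSurf.main` (`(I_C · L'; O_S) = deg i^*L`)
with `L' = I_C` and `R2H4GorRR.sheafHomIsoTensor` (`Hom(M, G) ≅ M' ⊗ G` for `M ⊗ M' ≅ O`).
-/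

open CategoryTheory CategoryTheory.Limits AlgebraicGeometry

noncomputable section

namespace Groth.Agent.Lib.R2H4NormalDeg

open Groth.Agent.Lib.R2H4TensorPows

variable (k : Type u) [Field k] (S : Scheme.{u}) [S.Over (Spec (CommRingCat.of k))]
  [IsProper (S ↘ Spec (CommRingCat.of k))]

theorem main [IsIntegral S] (hdim : topologicalKrullDim S = 2)
    [Smooth (S ↘ (Spec (CommRingCat.of k)))]
    (C : Scheme.{u}) (i : C ⟶ S) [IsClosedImmersion i] [IsIntegral C]
    (hC : topologicalKrullDim C = 1) [DCoh.HasSheafHom (Omega.conormal i)] :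
    letI : C.Over (Spec (CommRingCat.of k)) := ⟨i ≫ (S ↘ (Spec (CommRingCat.of k)))⟩
    FGA.intNum k S 2 ![ClSub.idealMod i.ker, ClSub.idealMod i.ker] (Coh.structureModule S) =
      Curv2.deg k C ((DCoh.sheafHom (Omega.conormal i)).obj (Coh.structureModule C)) 1 := by
  letI : C.Over (Spec (CommRingCat.of k)) := ⟨i ≫ (S ↘ (Spec (CommRingCat.of k)))⟩
  haveI : IsProper (C ↘ Spec (CommRingCat.of k)) :=
    inferInstanceAs (IsProper (i ≫ (S ↘ Spec (CommRingCat.of k))))
  have hD := Groth.Agent.Lib.R2H4CurveOnSurf.isEffCartier_ker k hdim i hC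
  have hI : PicF.IsInvertible (ClSub.idealMod i.ker) :=
    Groth.Agent.Helper18Cart.isInvertible_of_isEffCartier i.ker hD
  obtain ⟨L, hL, ⟨e⟩⟩ := Groth.Agent.Lib.R2H4InvExists.exists_inverse (ClSub.idealMod i.ker) hI
  have h1 := Groth.Agent.Lib.R2H4CurveOnSurf.main k S hdim C i hC L (ClSub.idealMod i.ker) hL
    ⟨tComm L (ClSub.idealMod i.ker) ≪≫ e⟩
  rw [h1]
  let e' : CohB1.tensorMod ((Scheme.Modules.pullback i).obj (ClSub.idealMod i.ker))
      ((Scheme.Modules.pullback i).obj L) ≅ Coh.structureModule C :=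
    (Groth.Agent.Lib.Helper23.RestrTensor.pullbackTensorIso (ClSub.idealMod i.ker) L i).symm ≪≫
      (Scheme.Modules.pullback i).mapIso e ≪≫ Groth.Agent.Lib.Helper23.PB.pullbackUnitIso i
  exact Groth.Agent.Lib.R2H1.CurveAmple.deg_congr k C
    ((Groth.Agent.Lib.R2H4GorRR.sheafHomIsoTensor (Omega.conormal i)
      ((Scheme.Modules.pullback i).obj L) e' (Coh.structureModule C) ≪≫ rUnit _).symm) 1

end Groth.Agent.Lib.R2H4NormalDeg
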