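import Mathlib
import Groth.Prelude
import Groth.Agent.Lib.R2H4NefBC
import Groth.Agent.Lib.R2H1VBTwist
import Groth.Agent.Lib.R2H4InvExists
set_option backward.isDefEq.respectTransparency.types false

/-!
# Numerical triviality and extension of the base field (helper4, round 2)

`numTriv_iff_nef` : `L` numerically trivial iff `L` and its inverse are nef;
`numTriv_bc_iff` : numerical triviality is invariant under extension of the base field (via `R2H4NefBC`).
-/

set_option autoImplicit false
set_option linter.style.haveILetI false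
set_option linter.unusedSectionVars false
universe u
open CategoryTheory CategoryTheory.Limits AlgebraicGeometry TopologicalSpace

noncomputable section

namespace Groth.Agent.Lib.R2H4NumTrivBC

open Groth.Agent.Lib.R2H4KleimanA Groth.Agent.Lib.R2H4KleimanC Groth.Agent.Lib.R2H4NefBC

section A

variable (k : Type u) [Field k] (X : Scheme.{u}) [X.Over (Spec (CommRingCat.of k))]
  [IsProper (X ↘ Spec (CommRingCat.of k))]

/-- degree of the inverse on a curve in `X` -/
theorem curveDeg_inverse (L L' : X.Modules) (hL : PicF.IsInvertible L) (hL' : PicF.IsInvertible L')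
    (e : CohB1.tensorMod L L' ≅ Coh.structureModule X)
    (Y : Scheme.{u}) (i : Y ⟶ X) [IsClosedImmersion i] (hY : IsIntegral Y)
    (hdim : topologicalKrullDim Y = 1) :
    Pic13.curveDeg k (i ≫ (X ↘ Spec (CommRingCat.of k))) ((Scheme.Modules.pullback i).obj L') =
      - Pic13.curveDeg k (i ≫ (X ↘ Spec (CommRingCat.of k))) ((Scheme.Modules.pullback i).obj L) := by
  haveI := hY
  letI : Y.Over (Spec (CommRingCat.of k)) := ⟨i ≫ (X ↘ (Spec (CommRingCat.of k)))⟩
  haveI : IsProper (Y ↘ Spec (CommRingCat.of k)) :=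
    inferInstanceAs (IsProper (i ≫ (X ↘ Spec (CommRingCat.of k))))
  haveI : IsProper (i ≫ (X ↘ Spec (CommRingCat.of k))) :=
    inferInstanceAs (IsProper (Y ↘ Spec (CommRingCat.of k)))
  rw [Groth.Agent.Lib.R2H4NumEqPull.curveDeg_eq_deg k _ hdim.le,
    Groth.Agent.Lib.R2H4NumEqPull.curveDeg_eq_deg k _ hdim.le]
  have h1 := Groth.Agent.Lib.Helper23.PB.isInvertible_pullback i L hL
  have h2 := Groth.Agent.Lib.Helper23.PB.isInvertible_pullback i L' hL'
  let e' : CohB1.tensorMod ((Scheme.Modules.pullback i).obj L) ((Scheme.Modules.pullback i).obj L') ≅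
      Coh.structureModule Y :=
    (Groth.Agent.Lib.Helper23.RestrTensor.pullbackTensorIso (M := L) (N := L') i).symm ≪≫
      (Scheme.Modules.pullback i).mapIso e ≪≫ Groth.Agent.Lib.Helper23.PB.pullbackUnitIso i
  exact Groth.Agent.Lib.R2H1.VBTwist.deg_inverse k Y hdim
    (Groth.Agent.Lib.Helper23.SecTw.isFinLocFreeOfRank_one_of_isInvertible _ h1)
    (Groth.Agent.Lib.Helper23.SecTw.isFinLocFreeOfRank_one_of_isInvertible _ h2) e'

theorem numTriv_iff_nef (L L' : X.Modules) (hL : PicF.IsInvertible L) (hL' : PicF.IsInvertible L')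
    (e : CohB1.tensorMod L L' ≅ Coh.structureModule X) :
    Pic13.IsNumEquivZero k X L ↔ (Nef k X L ∧ Nef k X L') := by
  constructor
  · intro h
    refine ⟨nef_of_forall_closedImmersion k (X := X) L (fun Y i _ hY hdim => (h Y i hY hdim).ge),
      nef_of_forall_closedImmersion k (X := X) L' (fun Y i _ hY hdim => ?_)⟩
    rw [curveDeg_inverse k X L L' hL hL' e Y i hY hdim, h Y i hY hdim, neg_zero]
  · rintro ⟨h1, h2⟩ Y i _ hY hdim
    have a1 := nef_closedImmersion k (X := X) L hL h1 Y i hY hdim
    have a2 := nef_closedImmersion k (X := X) L' hL' h2 Y i hY hdim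
    rw [curveDeg_inverse k X L L' hL hL' e Y i hY hdim] at a2
    omega

end A

section B

variable (k : Type u) [Field k] (X : Scheme.{u}) [X.Over (Spec (CommRingCat.of k))]
  [IsProper (X ↘ Spec (CommRingCat.of k))] (K : Type u) [Field K] [Algebra k K]

attribute [local instance] bcOver

theorem numTriv_bc_iff (L : X.Modules) (hL : PicF.IsInvertible L) :
    Pic13.IsNumEquivZero k X L ↔
      Pic13.IsNumEquivZero K (Curv2.bc k X K) ((Scheme.Modules.pullback (Curv2.bcFst k X K)).obj L) := by
  haveI := isProper_bc k X K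
  obtain ⟨L', hL', ⟨e⟩⟩ := Groth.Agent.Lib.R2H4InvExists.exists_inverse L hL
  have h1 := Groth.Agent.Lib.Helper23.PB.isInvertible_pullback (Curv2.bcFst k X K) L hL
  have h2 := Groth.Agent.Lib.Helper23.PB.isInvertible_pullback (Curv2.bcFst k X K) L' hL'
  let e' : CohB1.tensorMod ((Scheme.Modules.pullback (Curv2.bcFst k X K)).obj L)
      ((Scheme.Modules.pullback (Curv2.bcFst k X K)).obj L') ≅
      Coh.structureModule (Curv2.bc k X K) :=
    (Groth.Agent.Lib.Helper23.RestrTensor.pullbackTensorIso (M := L) (N := L')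
      (Curv2.bcFst k X K)).symm ≪≫
      (Scheme.Modules.pullback (Curv2.bcFst k X K)).mapIso e ≪≫
      Groth.Agent.Lib.Helper23.PB.pullbackUnitIso (Curv2.bcFst k X K)
  rw [numTriv_iff_nef k X L L' hL hL' e, numTriv_iff_nef K (Curv2.bc k X K) _ _ h1 h2 e']
  constructor
  · rintro ⟨a, b⟩
    exact ⟨nef_bc k X K L hL a, nef_bc k X K L' hL' b⟩
  · rintro ⟨a, b⟩
    exact ⟨nef_of_nef_bc k X K L hL a, nef_of_nef_bc k X K L' hL' b⟩

end B

end Groth.Agent.Lib.R2H4NumTrivBC
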