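import Mathlib
import Groth.Prelude.Def_HTop
import Groth.Agent.Lib.R2H4LocSheaf
import Groth.Agent.S7478

/-!
# ph sheaves: Zariski sheaf + sheaf condition for proper surjective morphisms (helper4, round 2)

* `isSheafFor_of_singleton_of_pullback_mem` (general sites lemma).
* `isStandardPh_reindex`, `isSheafFor_of_isStandardPh`, `isPhSheaf_of_zariski_of_proper_surjective`.
-/

set_option autoImplicit false
universe w w' u
open CategoryTheory CategoryTheory.Limits AlgebraicGeometry Opposite HTop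

namespace Groth.Agent.Lib.R2H4.PhSheaf

open Groth.Agent.Lib.R2H4.LocSheaf

/-- Sheaf condition for a sieve contained in the sieve of one arrow `f` whose pullback along `f` is
covering. -/
theorem isSheafFor_of_singleton_of_pullback_mem {C : Type*} [Category C]
    (J : GrothendieckTopology C) (F : Cᵒᵖ ⥤ Type w) (hF : Presieve.IsSheaf J F)
    {T U : C} (f : U ⟶ T) (hf : Presieve.IsSheafFor F (Presieve.singleton f)) (S : Sieve T)
    (hS : S.pullback f ∈ J U) (hS' : ∀ ⦃Z : C⦄ (g : Z ⟶ T), S g → ∃ h : Z ⟶ U, h ≫ f = g) :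
    Presieve.IsSheafFor F S.arrows := by
  refine Presieve.isSheafFor_trans F (Sieve.generate (Presieve.singleton f)) S ?_ ?_ ?_
  · rwa [← Presieve.isSheafFor_iff_generate]
  · intro Y g hg
    obtain ⟨h, rfl⟩ := hS' g hg
    have : (Sieve.generate (Presieve.singleton f)).pullback (h ≫ f) = ⊤ := by
      apply Sieve.pullback_eq_top_of_mem
      exact ⟨U, h, f, Presieve.singleton_self f, rfl⟩
    rw [this]
    exact Presieve.isSeparatedFor_top F
  · rintro Y g ⟨U', k, f', ⟨⟩, rfl⟩
    rw [Sieve.pullback_comp]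
    exact hF _ (J.pullback_stable k hS)

/-- Re-indexing a standard ph covering along a surjection of index types. -/
theorem isStandardPh_reindex {T : Scheme.{u}} (E : PreZeroHypercover.{w} T) (hE : IsStandardPh E)
    {J : Type w'} [Finite J] (e : J → E.I₀) (he : Function.Surjective e) :
    IsStandardPh ({ I₀ := J, X := fun j => E.X (e j), f := fun j => E.f (e j) } :
      PreZeroHypercover.{w'} T) := by
  obtain ⟨U, f, ι, hfp, hfs, hι, hιf, hcov⟩ := hE.exists_proper
  refine ⟨hE.isAffine, inferInstanceAs (Finite J), fun j => hE.isAffine_obj (e j),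
    U, f, fun j => ι (e j), hfp, hfs, fun j => hι (e j), fun j => hιf (e j), ?_⟩
  intro x
  obtain ⟨i, hi⟩ := hcov x
  obtain ⟨j, rfl⟩ := he i
  exact ⟨j, hi⟩

/-- A Zariski sheaf which is a sheaf for proper surjective morphisms is a sheaf for standard ph
coverings. -/
theorem isSheafFor_of_isStandardPh (F : Scheme.{u}ᵒᵖ ⥤ Type w)
    (h₁ : Presieve.IsSheaf Scheme.zariskiTopology F)
    (h₂ : ∀ (U V : Scheme.{u}) (f : V ⟶ U), IsProper f → Surjective f →
      Presieve.IsSheafFor F (Presieve.singleton f))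
    {T : Scheme.{u}} (G : PreZeroHypercover.{w'} T) (hG : IsStandardPh G) :
    Presieve.IsSheafFor F G.presieve₀ := by
  obtain ⟨U, f, ι, hfp, hfs, hι, hιf, hcov⟩ := hG.exists_proper
  rw [Presieve.isSheafFor_iff_generate]
  refine isSheafFor_of_singleton_of_pullback_mem Scheme.zariskiTopology F h₁ f
    (h₂ _ _ f hfp hfs) _ ?_ ?_
  · apply sieve_mem_zariski_of_opens
    intro x
    obtain ⟨j, hj⟩ := hcov x
    have := hι j
    refine ⟨(ι j).opensRange, hj, ?_⟩
    have hrange : Set.range (ι j).opensRange.ι ⊆ Set.range (ι j) := by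
      rw [Scheme.Opens.range_ι]; exact subset_rfl
    let k := IsOpenImmersion.lift (ι j) (ι j).opensRange.ι hrange
    have hk : k ≫ ι j = (ι j).opensRange.ι := IsOpenImmersion.lift_fac _ _ _
    change Sieve.generate G.presieve₀ ((ι j).opensRange.ι ≫ f)
    rw [← hk, Category.assoc, hιf j]
    exact ⟨_, k, G.f j, ⟨j⟩, rfl⟩
  · rintro Z g ⟨Y, h, _, ⟨j⟩, rfl⟩
    exact ⟨h ≫ ι j, by rw [Category.assoc, hιf j]⟩

/-- The class of standard ph coverings, as presieves. -/
def KPh : ∀ T : Scheme.{u}, Presieve T → Prop :=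
  fun T R => ∃ G : PreZeroHypercover.{u} T, IsStandardPh G ∧ R = G.presieve₀

theorem stableAff_KPh : StableAff KPh.{u} := by
  intro T R hR T' _ f
  obtain ⟨G, hG, rfl⟩ := hR
  refine ⟨(G.pullback₁ f).presieve₀, ⟨G.pullback₁ f, Groth.Agent.S7478.result f G hG, rfl⟩, ?_⟩
  rintro Z g ⟨j⟩
  exact ⟨_, pullback.snd f (G.f j), G.f j, ⟨j⟩, pullback.condition.symm⟩

/-- The sieve generated by a ph covering is locally refined by standard ph coverings. -/
theorem locRef_of_isPhCover {X : Scheme.{u}} (E : PreZeroHypercover.{w} X) (hE : IsPhCover E) :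
    LocRef KPh.{u} (Sieve.generate E.presieve₀) := by
  intro x
  obtain ⟨_, ⟨U, hU, rfl⟩, hxU, -⟩ := X.isBasis_affineOpens.exists_subset_of_mem_open
    (Set.mem_univ x) isOpen_univ
  obtain ⟨G₀, hG₀, hG₀E⟩ := hE.2 ⟨U, hU⟩
  have : Finite G₀.I₀ := hG₀.finite_index
  let G : PreZeroHypercover.{u} ((U : X.Opens) : Scheme.{u}) :=
    { I₀ := ULift.{u} G₀.I₀, X := fun j => G₀.X j.down, f := fun j => G₀.f j.down }
  have hG : IsStandardPh G :=
    isStandardPh_reindex G₀ hG₀ (J := ULift.{u} G₀.I₀) ULift.down ULift.down_surjective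
  refine ⟨U, hxU, G.presieve₀, ⟨G, hG, rfl⟩, ?_⟩
  rintro Z g ⟨j⟩
  obtain ⟨i, h, hh⟩ := hG₀E j.down
  exact ⟨_, h, E.f i, ⟨i⟩, hh⟩

theorem isPhSheaf_of_zariski_of_proper_surjective (F : Scheme.{u}ᵒᵖ ⥤ Type w)
    (h₁ : Presieve.IsSheaf Scheme.zariskiTopology F)
    (h₂ : ∀ (U V : Scheme.{u}) (f : V ⟶ U), IsProper f → Surjective f →
      Presieve.IsSheafFor F (Presieve.singleton f)) : IsPhSheaf F := by
  intro X R hR
  rw [phPrecoverage, PreZeroHypercoverFamily.mem_precoverage_iff] at hR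
  obtain ⟨E, hE, rfl⟩ := hR
  rw [Presieve.isSheafFor_iff_generate]
  exact isSheafFor_of_locRef h₁ KPh
    (fun T R ⟨G, hG, hR⟩ => hR ▸ isSheafFor_of_isStandardPh F h₁ h₂ G hG) stableAff_KPh _
    (locRef_of_isPhCover E hE)

end Groth.Agent.Lib.R2H4.PhSheaf
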