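import Mathlib
import Groth.Prelude
import Groth.Agent.Lib.R2H4ChiBC
import Groth.Agent.Lib.Helper12QuotSh

/-!
# The degree function on the Picard scheme of a relative curve (helper4)

`main` (S12409): if `P` represents the fppf-sheafified Picard functor of a proper flat finitely presented `f : C ⟶ S`
with one-dimensional fibres, there is a locally constant `d : P → ℤ` computing the fibre degrees of all invertible
modules on all `C_T`.
-/

set_option autoImplicit false
set_option linter.style.haveILetI false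
set_option linter.unusedSectionVars false
universe u
open CategoryTheory CategoryTheory.Limits AlgebraicGeometry TopologicalSpace Opposite
open AlgebraicGeometry.Scheme.Modules

noncomputable section

namespace Groth.Agent.Lib.R2H4PicDeg

open Groth.Agent.Lib.Helper23.SecTw Groth.Agent.Lib.Helper23.PB
open Groth.Agent.Lib.R2H4SnapperFam (chi)
open Groth.Agent.Lib.R2H4ChiBC

theorem nonempty_iso_of_cl_eq {Y : Scheme.{u}} {L L' : Y.Modules} (h : PicF.cl L = PicF.cl L') :
    Nonempty (L ≅ L') := by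
  have h' := Quot.eqvGen_exact h
  clear h
  induction h' with
  | rel _ _ h => exact h
  | refl _ => exact ⟨Iso.refl _⟩
  | symm _ _ _ ih => exact ⟨ih.some.symm⟩
  | trans _ _ _ _ _ ih1 ih2 => exact ⟨ih1.some ≪≫ ih2.some⟩

variable {C S : Scheme.{u}} (f : C ⟶ S)

/-- the base change square of `C_{T'} ⟶ C_T` -/
theorem isPullback_XTmap {T T' : Over S} (g : T' ⟶ T) :
    IsPullback (PicF.XTmap f g) (PicF.XTproj f T') (PicF.XTproj f T) g.left := by
  refine IsPullback.of_right (h₁₂ := pullback.fst f T.hom) (h₂₂ := T.hom) (v₁₃ := f) ?_ ?_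
    (IsPullback.of_hasPullback f T.hom)
  · rw [FGA.XTmap_fst, Over.w g]
    exact IsPullback.of_hasPullback f T'.hom
  · simp only [PicF.XTmap, pullback.map, pullback.lift_snd]

/-- the degree of `L` on the fibre of `C_T ⟶ T` at `t` -/
def deg (T : Over S) (L : (PicF.XT f T).Modules) (t : T.left) : ℤ :=
  chi (PicF.XTproj f T) L t - chi (PicF.XTproj f T) (Coh.structureModule (PicF.XT f T)) t

theorem deg_congr {T : Over S} {L L' : (PicF.XT f T).Modules} (e : L ≅ L') (t : T.left) :
    deg f T L t = deg f T L' t := by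
  unfold deg
  rw [chi_congr e t]

variable [IsProper f] [Flat f] [LocallyOfFinitePresentation f]

theorem deg_baseChange {T T' : Over S} (g : T' ⟶ T) (L : (PicF.XT f T).Modules) [L.IsQuasicoherent]
    (t' : T'.left) :
    deg f T' ((Scheme.Modules.pullback (PicF.XTmap f g)).obj L) t' = deg f T L (g.left t') := by
  unfold deg
  haveI : (Coh.structureModule (PicF.XT f T)).IsQuasicoherent :=
    Groth.Agent.Lib.Helper23.Serre.isQuasicoherent_structureModule' _
  rw [chi_baseChange (isPullback_XTmap f g) L t',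
    chi_congr (pullbackUnitIso (PicF.XTmap f g)).symm t',
    chi_baseChange (isPullback_XTmap f g) (Coh.structureModule (PicF.XT f T)) t']

theorem isLocallyConstant_deg (T : Over S) (L : (PicF.XT f T).Modules) (hL : PicF.IsInvertible L) :
    IsLocallyConstant (fun t : T.left => deg f T L t) := by
  have h1 := Groth.Agent.Lib.R2H4SelfInt.isLocallyConstant_chi_of_isInvertible (PicF.XTproj f T) L hL
  have h2 := Groth.Agent.Lib.R2H4SelfInt.isLocallyConstant_chi_of_isInvertible (PicF.XTproj f T)
    (Coh.structureModule (PicF.XT f T))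
    (Groth.Agent.Lib.Helper23.TensorUnit.isInvertible_structureModule _)
  exact h1.sub h2

theorem deg_eq_eulerCharLE (hdim : ∀ s : S, topologicalKrullDim ↥(f.fiber s) = 1)
    (T : Over S) (L : (PicF.XT f T).Modules) (t : T.left) :
    deg f T L t =
      FGA.eulerCharLE (T.left.residueField t) (FGA.fibreAt f T t).left (FGA.restrFibre f T t L) 1 -
        FGA.eulerCharLE (T.left.residueField t) (FGA.fibreAt f T t).left
          (Coh.structureModule (FGA.fibreAt f T t).left) 1 := by
  let g : PicF.XT f T ⟶ T.left := PicF.XTproj f T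
  have hd : topologicalKrullDim ↥(g.fiber t) ≤ (1 : ℕ) := by
    have := Groth.Agent.Lib.Helper3.FlatFibDim2.dim_fiber_eq_of_isPullback f T.hom g
      (pullback.fst f T.hom) (IsPullback.of_hasPullback f T.hom) t
    rw [this, hdim]
    rfl
  have eL := Groth.Agent.Lib.R2H4SelfInt.eulerCharLE_fibre g 1 t hd L _ (Iso.refl _)
  have eO := Groth.Agent.Lib.R2H4SelfInt.eulerCharLE_fibre g 1 t hd
    (Coh.structureModule (PicF.XT f T)) _ (pullbackUnitIso (g.fiberι t))
  unfold deg
  exact (congrArg₂ (· - ·) eL eO).symm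

/-- **S12409**, in terms of `deg` -/
theorem main' (P : Over S) (φ : ∀ T : Over S, PicF.Cl (PicF.XT f T) → (T ⟶ P))
    (hP : AbDual.IsRelPicK Scheme.fppfPrecoverage f P φ) :
    ∃ d : ↥P.left → ℤ, IsLocallyConstant d ∧
      ∀ (T : Over S) (L : (PicF.XT f T).Modules), PicF.IsInvertible L → ∀ t : T.left,
        d ((φ T (PicF.cl L)).left.base t) = deg f T L t := by
  -- local representatives
  have hloc : ∀ p : P.left, ∃ (U : Scheme.{u}) (u : U ⟶ P.left) (x : U)
      (L₀ : (PicF.XT f (AbDual.ovr P u)).Modules), Flat u ∧ LocallyOfFinitePresentation u ∧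
        u.base x = p ∧ PicF.IsInvertible L₀ ∧
        φ (AbDual.ovr P u) (PicF.cl L₀) = AbDual.ovrHom P u := by
    intro p
    obtain ⟨R, hR, hRc⟩ := hP.locallySurjective P (𝟙 P)
    obtain ⟨U, u, hu, x, hx⟩ := Scheme.JointlySurjective.exists_eq R hR p
    obtain ⟨c, ⟨L₀, rfl, hL₀⟩, hφ⟩ := hRc u hu
    have hprop : (@Flat ⊓ @LocallyOfFinitePresentation : MorphismProperty Scheme.{u}) u := hR.2 hu
    exact ⟨U, u, x, L₀, hprop.1, hprop.2, hx, hL₀, by rw [hφ, Category.comp_id]⟩
  choose U u x L₀ hfl hfp hux hL₀ hφ₀ using hloc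
  let d : P.left → ℤ := fun p => deg f (AbDual.ovr P (u p)) (L₀ p) (x p)
  -- the key formula
  have key : ∀ (T : Over S) (L : (PicF.XT f T).Modules), PicF.IsInvertible L → ∀ t : T.left,
      d ((φ T (PicF.cl L)).left.base t) = deg f T L t := by
    intro T L hL t
    let h : T ⟶ P := φ T (PicF.cl L)
    let p : P.left := h.left.base t
    obtain ⟨v, hv1, hv2⟩ := Scheme.Pullback.exists_preimage_pullback (f := u p) (g := h.left)
      (x p) t (hux p)
    let a : pullback (u p) h.left ⟶ U p := pullback.fst _ _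
    let b : pullback (u p) h.left ⟶ T.left := pullback.snd _ _
    let VT : Over S := AbDual.ovr T b
    let bT : VT ⟶ T := AbDual.ovrHom T b
    have haU : a ≫ (AbDual.ovr P (u p)).hom = VT.hom := by
      show a ≫ (u p ≫ P.hom) = b ≫ T.hom
      rw [← Category.assoc, pullback.condition, Category.assoc, Over.w h]
    let aU : VT ⟶ AbDual.ovr P (u p) := Over.homMk a haU
    haveI : L.IsQuasicoherent := isQuasicoherent_of_isInvertible L hL
    haveI : (L₀ p).IsQuasicoherent := isQuasicoherent_of_isInvertible _ (hL₀ p)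
    have n1 := hP.natural T VT bT (PicF.cl L) ⟨L, rfl, hL⟩
    have n2 := hP.natural (AbDual.ovr P (u p)) VT aU (PicF.cl (L₀ p)) ⟨_, rfl, hL₀ p⟩
    have e12 : bT ≫ h = aU ≫ AbDual.ovrHom P (u p) := by
      apply Over.OverMorphism.ext
      exact pullback.condition.symm
    let M1 : (PicF.XT f VT).Modules := (Scheme.Modules.pullback (PicF.XTmap f bT)).obj L
    let M2 : (PicF.XT f VT).Modules := (Scheme.Modules.pullback (PicF.XTmap f aU)).obj (L₀ p)
    have hM1 : PicF.IsInvertible M1 := isInvertible_pullback _ L hL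
    have hM2 : PicF.IsInvertible M2 := isInvertible_pullback _ _ (hL₀ p)
    have hφeq : φ VT (PicF.cl M1) = φ VT (PicF.cl M2) := by
      have n1' : φ VT (PicF.cl M1) = bT ≫ h := n1
      have n2' : φ VT (PicF.cl M2) = aU ≫ φ (AbDual.ovr P (u p)) (PicF.cl (L₀ p)) := n2
      rw [n1', n2', hφ₀ p, e12]
    obtain ⟨R', hR', hR'c⟩ := hP.locallyInjective VT (PicF.cl M1) (PicF.cl M2) ⟨M1, rfl, hM1⟩
      ⟨M2, rfl, hM2⟩ hφeq
    obtain ⟨W, w, hw, y, hy⟩ := Scheme.JointlySurjective.exists_eq R' hR' v
    have heq := hR'c w hw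
    obtain ⟨iso⟩ := nonempty_iso_of_cl_eq heq
    haveI : M1.IsQuasicoherent := isQuasicoherent_of_isInvertible M1 hM1
    haveI : M2.IsQuasicoherent := isQuasicoherent_of_isInvertible M2 hM2
    have c1 : deg f (AbDual.ovr VT w)
        ((Scheme.Modules.pullback (PicF.XTmap f (AbDual.ovrHom VT w))).obj M1) y = deg f VT M1 v := by
      rw [deg_baseChange f (AbDual.ovrHom VT w) M1 y]
      exact congrArg _ hy
    have c2 : deg f (AbDual.ovr VT w)
        ((Scheme.Modules.pullback (PicF.XTmap f (AbDual.ovrHom VT w))).obj M2) y = deg f VT M2 v := by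
      rw [deg_baseChange f (AbDual.ovrHom VT w) M2 y]
      exact congrArg _ hy
    have c3 : deg f VT M1 v = deg f T L t := by
      rw [deg_baseChange f bT L v]
      exact congrArg _ hv2
    have c4 : deg f VT M2 v = deg f (AbDual.ovr P (u p)) (L₀ p) (x p) := by
      rw [deg_baseChange f aU (L₀ p) v]
      exact congrArg _ hv1
    show deg f (AbDual.ovr P (u p)) (L₀ p) (x p) = deg f T L t
    rw [← c4, ← c2, ← deg_congr f iso y, c1, c3]
  refine ⟨d, ?_, key⟩
  rw [IsLocallyConstant.iff_exists_open]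
  intro p
  have hk : ∀ x' : U p, d ((u p).base x') = deg f (AbDual.ovr P (u p)) (L₀ p) x' := by
    intro x'
    have h1 := key (AbDual.ovr P (u p)) (L₀ p) (hL₀ p) x'
    rw [hφ₀ p] at h1
    exact h1
  have hlc := isLocallyConstant_deg f (AbDual.ovr P (u p)) (L₀ p) (hL₀ p)
  have hN : IsOpen {x' : U p | deg f (AbDual.ovr P (u p)) (L₀ p) x' =
      deg f (AbDual.ovr P (u p)) (L₀ p) (x p)} := hlc.isOpen_fiber _
  haveI := hfl p
  haveI := hfp p
  have hopen := (u p).isOpenMap _ hN
  refine ⟨_, hopen, ⟨x p, rfl, hux p⟩, ?_⟩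
  rintro _ ⟨x', hx', rfl⟩
  have hx'' : deg f (AbDual.ovr P (u p)) (L₀ p) x' = deg f (AbDual.ovr P (u p)) (L₀ p) (x p) := hx'
  rw [hk x', hx'', ← hk (x p), hux p]

/-- **S12409** -/
theorem main (hdim : ∀ s : S, topologicalKrullDim ↥(f.fiber s) = 1)
    (P : Over S) (φ : ∀ T : Over S, PicF.Cl (PicF.XT f T) → (T ⟶ P))
    (hP : AbDual.IsRelPicK Scheme.fppfPrecoverage f P φ) :
    ∃ d : ↥P.left → ℤ, IsLocallyConstant d ∧
      ∀ (T : Over S) (L : (PicF.XT f T).Modules), PicF.IsInvertible L → ∀ t : T.left,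
        d ((φ T (PicF.cl L)).left.base t) =
          FGA.eulerCharLE (T.left.residueField t) (FGA.fibreAt f T t).left (FGA.restrFibre f T t L) 1 -
            FGA.eulerCharLE (T.left.residueField t) (FGA.fibreAt f T t).left
              (Coh.structureModule (FGA.fibreAt f T t).left) 1 := by
  obtain ⟨d, hd, hkey⟩ := main' f P φ hP
  exact ⟨d, hd, fun T L hL t => (hkey T L hL t).trans (deg_eq_eulerCharLE f hdim T L t)⟩

end Groth.Agent.Lib.R2H4PicDeg
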