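import Mathlib
import Groth.Agent.Lib.R2H4PicDescCI

/-!
# Descent of invertible modules, Noetherian topological space version (helper4, round 2)

The results of `R2H4PicDescCI` with `[IsNoetherian Y]` weakened to `[NoetherianSpace Y]` (no Noetherian local rings).

* `finite_generizations'`, `discreteTopology_compl_of_dense'` : topology of Noetherian spaces of dimension `≤ 1`.
* `exists_punctured_eq_basicOpen'` : punctured affine neighbourhoods are basic opens, from finiteness of generizations.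
* `exists_pullback_iso_of_dense'`.
-/

set_option autoImplicit false
set_option linter.style.haveILetI false
universe u
open CategoryTheory Limits AlgebraicGeometry TopologicalSpace Opposite

namespace Groth.Agent.Lib.R2H4PicDescCI2
open Groth.Agent.Lib.Helper23.SecTw Groth.Agent.Lib.Helper6 Groth.Agent.Lib.R2H4CocycleGlue
  Groth.Agent.Lib.R2H4FiniteTriv Groth.Agent.Lib.Helper23.Extend
  Groth.Agent.Lib.Helper27PullGen Groth.Agent.Lib.R2H4UnitLift
  Groth.Agent.Lib.Helper23.GenNear Groth.Agent.Lib.R2H4PicDescCI Groth.Agent.Lib.R2H4AffPts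
  Groth.Agent.Lib.R2H4DimOneAlg

section Top

variable {Y : Type*} [TopologicalSpace Y]

/-- (after helper1's `R2H1.GenusLe.dim_compl_le_zero_of_dense`) -/
theorem dim_compl_le_zero_of_dense' [NoetherianSpace Y]
    (hdim : topologicalKrullDim Y ≤ 1) (U₀ : Opens Y) (hU : Dense (U₀ : Set Y)) :
    topologicalKrullDim ↥((U₀ : Set Y)ᶜ) ≤ 0 := by
  classical
  refine Order.krullDim_nonpos_iff_forall_isMax.mpr fun a b hab => ?_
  by_contra hba
  have hlt : a < b := lt_of_le_not_ge hab hba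
  have hsm := IrreducibleCloseds.map_strictMono_of_isInducing
    (Topology.IsInducing.subtypeVal (t := ((U₀ : Set Y)ᶜ)))
  have hlt' := hsm hlt
  set b' := IrreducibleCloseds.map (Subtype.val : ↥((U₀ : Set Y)ᶜ) → Y)
    continuous_subtype_val b with hb'
  have hb'sub : (b' : Set Y) ⊆ (U₀ : Set Y)ᶜ := by
    rw [hb', IrreducibleCloseds.coe_map]
    refine closure_minimal ?_ U₀.isOpen.isClosed_compl
    rintro _ ⟨y, -, rfl⟩
    exact y.2
  rcases (Order.krullDim_le_one_iff.mp hdim) b' with hmin | hmax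
  · exact absurd (hmin hlt'.le) (not_le_of_gt hlt')
  · have hcomp : (b' : Set Y) ∈ irreducibleComponents Y := by
      refine ⟨b'.isIrreducible, fun s hs hbs => ?_⟩
      let T : IrreducibleCloseds Y := ⟨closure s, hs.closure, isClosed_closure⟩
      have h1 : b' ≤ T := hbs.trans subset_closure
      exact subset_closure.trans (hmax h1)
    obtain ⟨o, ho, hne, hsub⟩ :=
      NoetherianSpace.exists_isOpen_nonempty_subset_irreducibleComponent (b' : Set Y) hcomp
    obtain ⟨z, hzo, hzU⟩ := hU.inter_open_nonempty o ho hne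
    exact hb'sub (hsub hzo) hzU

theorem discreteTopology_compl_of_dense' [NoetherianSpace Y] [T0Space Y]
    (hdim : topologicalKrullDim Y ≤ 1) (U : Opens Y) (hU : Dense (U : Set Y)) :
    DiscreteTopology ↥((U : Set Y)ᶜ) := by
  have h0 := dim_compl_le_zero_of_dense' hdim U hU
  by_cases hne : Nonempty ↥((U : Set Y)ᶜ)
  · have h1 : topologicalKrullDim ↥((U : Set Y)ᶜ) = 0 :=
      le_antisymm h0 Groth.Agent.Lib.Helper7.TopDim.topologicalKrullDim_nonneg
    exact ((Groth.Agent.Lib.Helper7.TopDim.dim_eq_zero_iff_finite_discrete).mp h1).2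
  · haveI : IsEmpty ↥((U : Set Y)ᶜ) := not_nonempty_iff.mp hne
    exact Subsingleton.discreteTopology

theorem finite_generizations' [NoetherianSpace Y] [T0Space Y] (hdim : topologicalKrullDim Y ≤ 1)
    (x : Y) : {z : Y | z ⤳ x}.Finite := by
  have hfin : (irreducibleComponents Y).Finite := NoetherianSpace.finite_irreducibleComponents
  have hsub : {z : Y | z ⤳ x} ⊆
      insert x ((fun z : Y => closure ({z} : Set Y)) ⁻¹' irreducibleComponents Y) := by
    intro z hz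
    by_cases hzx : z = x
    · exact Or.inl hzx
    · right
      let a : IrreducibleCloseds Y :=
        ⟨closure {z}, isIrreducible_singleton.closure, isClosed_closure⟩
      let b : IrreducibleCloseds Y :=
        ⟨closure {x}, isIrreducible_singleton.closure, isClosed_closure⟩
      have hba : b ≤ a := specializes_iff_closure_subset.mp hz
      rcases (Order.krullDim_le_one_iff.mp hdim) a with hmin | hmax
      · have hab : a ≤ b := hmin hba
        have h3 : x ⤳ z := specializes_iff_closure_subset.mpr hab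
        exact absurd (hz.antisymm h3).eq hzx
      · refine ⟨isIrreducible_singleton.closure, fun s hs hzs => ?_⟩
        let T : IrreducibleCloseds Y := ⟨closure s, hs.closure, isClosed_closure⟩
        have h1 : a ≤ T := hzs.trans subset_closure
        exact subset_closure.trans (hmax h1)
  refine (Set.Finite.insert x (hfin.preimage ?_)).subset hsub
  intro z _ z' _ h
  exact (inseparable_iff_closure_eq.mpr h).eq

end Top

section Punctured

variable {X : Scheme.{u}}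

theorem quasiCompact_ι_of_noetherianSpace [NoetherianSpace X] (U : X.Opens) : QuasiCompact U.ι := by
  haveI : NoetherianSpace (U : Scheme.{u}) := U.ι.isOpenEmbedding.isInducing.noetherianSpace
  rw [quasiCompact_iff]
  intro S _ _
  exact NoetherianSpace.isCompact _

/-- `R2H4AffPts.exists_punctured_eq_basicOpen` from finiteness of the set of generizations (no Noetherian hypothesis). -/
theorem exists_punctured_eq_basicOpen' (U : X.Opens) [QuasiCompact U.ι]
    (hdisc : DiscreteTopology ↥((U : Set X)ᶜ)) (x : X) (hx : x ∉ U)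
    (hfin : {z : X | z ⤳ x}.Finite) :
    ∃ (V : X.Opens) (f : Γ(X, V)), IsAffineOpen V ∧ x ∈ V ∧ X.basicOpen f = V ⊓ U ∧
      ∀ y ∈ V, y ∉ U → y = x := by
  classical
  obtain ⟨O, hxO, hOx⟩ := Groth.Agent.Lib.R2H4FinitePicDesc.exists_open_of_discrete U hdisc x hx
  obtain ⟨V₀, hV₀, hxV₀, hV₀O⟩ := exists_isAffineOpen_mem_and_subset (x := x) (U := O) hxO
  have hV₀aff : IsAffineOpen V₀ := hV₀
  set p := pr hV₀aff x hxV₀ with hp
  -- an element of `p` in no strictly smaller prime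
  obtain ⟨f, hfp, hf⟩ : ∃ f ∈ p, ∀ q : Ideal Γ(X, V₀), q.IsPrime → q ≤ p → f ∈ q → q = p := by
    let Z : Set ↥V₀ := {z | z.1 ⤳ x ∧ z.1 ≠ x}
    have hZfin : Z.Finite := by
      have h1 : (Subtype.val ⁻¹' {z : X | z ⤳ x} : Set ↥V₀).Finite :=
        hfin.preimage Subtype.val_injective.injOn
      exact h1.subset (fun z hz => hz.1)
    let Q : Set (Ideal Γ(X, V₀)) := (fun z : ↥V₀ => pr hV₀aff z.1 z.2) '' Z
    have hQfin : Q.Finite := hZfin.image _
    have hnot : ¬ ((p : Set Γ(X, V₀)) ⊆ ⋃ q ∈ (hQfin.toFinset : Set (Ideal Γ(X, V₀))),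
        ((id q : Ideal Γ(X, V₀)) : Set Γ(X, V₀))) := by
      intro hsub
      rw [Ideal.subset_union_prime (s := hQfin.toFinset) (f := id) ⊥ ⊥
        (fun q hq _ _ => by
          obtain ⟨z, -, rfl⟩ := (Set.Finite.mem_toFinset _).mp hq
          change (pr hV₀aff z.1 z.2).IsPrime
          infer_instance)] at hsub
      obtain ⟨q, hq, hpq⟩ := hsub
      obtain ⟨z, hz, rfl⟩ := (Set.Finite.mem_toFinset _).mp hq
      have h1 : x ⤳ z.1 := (pr_le_iff hV₀aff z.1 x z.2 hxV₀).mp hpq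
      exact hz.2 (hz.1.antisymm h1).eq
    obtain ⟨f, hfp, hf⟩ := Set.not_subset.mp hnot
    refine ⟨f, hfp, fun q hq hqp hfq => ?_⟩
    by_contra hne
    obtain ⟨z, hzV₀, rfl⟩ := exists_pt hV₀aff q
    have hzx : z ⤳ x := (pr_le_iff hV₀aff x z hxV₀ hzV₀).mp hqp
    have hzne : z ≠ x := by
      rintro rfl
      exact hne rfl
    apply hf
    simp only [Set.mem_iUnion]
    exact ⟨pr hV₀aff z hzV₀, Finset.mem_coe.mpr
      ((Set.Finite.mem_toFinset _).mpr ⟨⟨z, hzV₀⟩, ⟨hzx, hzne⟩, rfl⟩), hfq⟩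
  -- the compact open `V₀ ∩ U`
  have hcomp := isCompact_inf_of_quasiCompact U V₀ hV₀aff.isCompact
  obtain ⟨t, ht1, ht2⟩ := exists_finset_basicOpen hV₀aff (V₀ ⊓ U) hcomp inf_le_left
  have hex : ∀ a ∈ t, ∃ s : Γ(X, V₀), s ∉ p ∧ ∃ n : ℕ, s * a ^ n ∈ Ideal.span {f} := by
    intro a ha
    refine exists_mul_pow_mem p (Ideal.span {f}) a (fun q hq hqp hfq => ?_)
    have hqe := hf q hq hqp (hfq (Ideal.subset_span (Set.mem_singleton f)))
    rw [hqe, hp, mem_pr_iff]
    intro hxa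
    exact hx (ht1 a ha hxa).2
  choose! s hs1 hs2 using hex
  let σ : Γ(X, V₀) := ∏ a ∈ t, s a
  have hσp : σ ∉ p := by
    intro h
    obtain ⟨a, ha, hsa⟩ := (Ideal.IsPrime.prod_mem_iff (hp := inferInstance)).mp h
    exact hs1 a ha hsa
  have hxσ : x ∈ X.basicOpen σ := by
    by_contra h
    exact hσp ((mem_pr_iff hV₀aff x hxV₀ σ).mpr h)
  have hle : X.basicOpen σ ≤ V₀ := X.basicOpen_le σ
  refine ⟨X.basicOpen σ, X.presheaf.map (homOfLE hle).op f, hV₀aff.basicOpen σ, hxσ, ?_,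
    fun y hy hyU => hOx y (hV₀O (hle hy)) hyU⟩
  rw [Scheme.basicOpen_res]
  apply le_antisymm
  · rintro y ⟨hyσ, hyf⟩
    refine ⟨hyσ, ?_⟩
    by_contra hyU
    have hyx := hOx y (hV₀O (hle hyσ)) hyU
    rw [hyx] at hyf
    exact (mem_pr_iff hV₀aff x hxV₀ f).mp hfp hyf
  · rintro y ⟨hyσ, hyU⟩
    refine ⟨hyσ, ?_⟩
    have hyV₀ : y ∈ V₀ := hle hyσ
    obtain ⟨a, ha, hya⟩ := ht2 y ⟨hyV₀, hyU⟩
    by_contra hyf
    have hfq : f ∈ pr hV₀aff y hyV₀ := (mem_pr_iff hV₀aff y hyV₀ f).mpr hyf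
    obtain ⟨n, hn⟩ := hs2 a ha
    have h1 : s a * a ^ n ∈ pr hV₀aff y hyV₀ :=
      (Ideal.span_le.mpr (Set.singleton_subset_iff.mpr hfq)) hn
    rcases Ideal.IsPrime.mem_or_mem inferInstance h1 with h2 | h2
    · have h3 : σ ∈ pr hV₀aff y hyV₀ := by
        change ∏ a ∈ t, s a ∈ _
        exact (Ideal.IsPrime.prod_mem_iff (hp := inferInstance)).mpr ⟨a, ha, h2⟩
      exact (mem_pr_iff hV₀aff y hyV₀ σ).mp h3 hyσ
    · have h3 := Ideal.IsPrime.mem_of_pow_mem inferInstance n h2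
      exact (mem_pr_iff hV₀aff y hyV₀ a).mp h3 hya

end Punctured

section Main

variable {X Y : Scheme.{u}} (f : X ⟶ Y)

/-- local data near an isolated point of `Y ∖ U` -/
theorem exists_local_data' [IsFinite f] (L : X.Modules) (hL : PicF.IsInvertible L)
    (V : Y.Opens) [IsClosedImmersion (f ∣_ V)] (U : Y.Opens) (hUV : U ≤ V) [QuasiCompact U.ι]
    (hdisc : DiscreteTopology ↥((U : Set Y)ᶜ)) (eU : Γ(L, f ⁻¹ᵁ U)) (heU : IsGen L (f ⁻¹ᵁ U) eU)
    (y : Y) (hy : y ∉ U) (hfin : {z : Y | z ⤳ y}.Finite)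
    (hinc : ∀ z z' : Y, z ⤳ z' → z' ⤳ y → z' ≠ y → z = z') :
    ∃ (W : Y.Opens) (e : Γ(L, f ⁻¹ᵁ W)) (v : Γ(Y, W ⊓ U)), y ∈ W ∧ IsGen L (f ⁻¹ᵁ W) e ∧ IsUnit v ∧
      (∀ z ∈ W, z ∉ U → z = y) ∧
      res L (f.preimage_mono (inf_le_right : W ⊓ U ≤ U)) eU =
        f.app (W ⊓ U) v • res L (f.preimage_mono (inf_le_left : W ⊓ U ≤ W)) e := by
  obtain ⟨W₁, e₁, hyW₁, he₁⟩ := exists_nhd_frame_preimage f L hL y
  obtain ⟨W₀, h₀, hW₀aff, hyW₀, hh₀, hW₀y⟩ := exists_punctured_eq_basicOpen' U hdisc y hy hfin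
  obtain ⟨g, hg, hyg⟩ := hW₀aff.exists_basicOpen_le (V := W₀ ⊓ W₁) ⟨y, ⟨hyW₀, hyW₁⟩⟩ hyW₀
  have hWaff : IsAffineOpen (Y.basicOpen g) := hW₀aff.basicOpen g
  have hWW₀ : Y.basicOpen g ≤ W₀ := Y.basicOpen_le g
  have hWW₁ : Y.basicOpen g ≤ W₁ := hg.trans inf_le_right
  have hh : Y.basicOpen (resf hWW₀ h₀) = Y.basicOpen g ⊓ U := by
    rw [Scheme.basicOpen_res, hh₀, ← inf_assoc, inf_eq_left.mpr hWW₀]
  have hWy : ∀ z ∈ Y.basicOpen g, z ∉ U → z = y := fun z hz => hW₀y z (hWW₀ hz)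
  have heW : IsGen L (f ⁻¹ᵁ Y.basicOpen g) (res L (f.preimage_mono hWW₁) e₁) :=
    he₁.mono (f.preimage_mono hWW₁)
  have hB : IsGen L (f ⁻¹ᵁ (Y.basicOpen g ⊓ U))
      (res L (f.preimage_mono (inf_le_left : Y.basicOpen g ⊓ U ≤ Y.basicOpen g))
        (res L (f.preimage_mono hWW₁) e₁)) := heW.mono _
  have hA : IsGen L (f ⁻¹ᵁ (Y.basicOpen g ⊓ U))
      (res L (f.preimage_mono (inf_le_right : Y.basicOpen g ⊓ U ≤ U)) eU) := heU.mono _
  obtain ⟨u, hu⟩ : ∃ u : Γ(X, f ⁻¹ᵁ (Y.basicOpen g ⊓ U)),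
      u • res L (f.preimage_mono (inf_le_left : Y.basicOpen g ⊓ U ≤ Y.basicOpen g))
        (res L (f.preimage_mono hWW₁) e₁) =
      res L (f.preimage_mono (inf_le_right : Y.basicOpen g ⊓ U ≤ U)) eU :=
    ⟨coef heW (f.preimage_mono inf_le_left) _, coef_spec heW _ _⟩
  have huu : IsUnit u := by
    rw [← hu] at hA
    exact (isGen_smul_iff hB u).1 hA
  obtain ⟨W', hW'W, v, hW'aff, hyW', hv, hfv⟩ := exists_unit_lift_near f V U hUV hWaff
    (resf hWW₀ h₀) hh y hyg hy hWy hfin hinc u huu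
  refine ⟨W', res L (f.preimage_mono (hW'W.trans hWW₁)) e₁, v, hyW',
    he₁.mono _, hv, fun z hz => hWy z (hW'W hz), ?_⟩
  have h1 := congrArg (res L (f.preimage_mono (inf_le_inf_right U hW'W))) hu
  rw [res_smul, res_res, res_res, res_res] at h1
  rw [hfv, res_res]
  exact h1.symm

/-- **Descent of invertible modules along a finite morphism which is a closed immersion over a dense open of a
scheme whose underlying space is Noetherian of dimension `≤ 1`.** -/
theorem exists_pullback_iso_of_dense' [IsFinite f] [NoetherianSpace Y] (hdim : topologicalKrullDim Y ≤ 1)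
    (V : Y.Opens) (hV : Dense (V : Set Y)) [IsClosedImmersion (f ∣_ V)]
    (L : X.Modules) (hL : PicF.IsInvertible L) :
    ∃ N : Y.Modules, PicF.IsInvertible N ∧ Nonempty ((Scheme.Modules.pullback f).obj N ≅ L) := by
  classical
  let S : Set Y.Opens := {U | U ≤ V ∧ ∃ e : Γ(L, f ⁻¹ᵁ U), IsGen L (f ⁻¹ᵁ U) e}
  have hbot : (⊥ : Y.Opens) ∈ S :=
    ⟨bot_le, ⟨0, isGen_of_cover L _ 0 (fun x hx => (hx : False).elim)⟩⟩
  obtain ⟨U, ⟨hUV, eU, heU⟩, hmax⟩ := wellFounded_gt.has_min S ⟨⊥, hbot⟩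
  have hUdense : Dense (U : Set Y) := by
    by_contra hnd
    obtain ⟨y₀, hy₀⟩ : ∃ y₀, y₀ ∉ closure (U : Set Y) := by
      by_contra hcon
      push Not at hcon
      exact hnd (fun y => hcon y)
    let O : Y.Opens := ⟨(closure (U : Set Y))ᶜ, isClosed_closure.isOpen_compl⟩
    obtain ⟨y', hy'O, hy'V⟩ := hV.inter_open_nonempty O O.isOpen ⟨y₀, hy₀⟩
    obtain ⟨W₁, e₁, hy'W₁, he₁⟩ := exists_nhd_frame_preimage f L hL y'
    let O' : Y.Opens := W₁ ⊓ V ⊓ O
    have hdisj : f ⁻¹ᵁ U ⊓ f ⁻¹ᵁ O' ≤ ⊥ := fun x hx => hx.2.2 (subset_closure hx.1)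
    obtain ⟨r, hr⟩ := exists_frame_of_disjoint L (f ⁻¹ᵁ U) (f ⁻¹ᵁ O') (f ⁻¹ᵁ (U ⊔ O'))
      (f.preimage_mono le_sup_left) (f.preimage_mono le_sup_right) (fun x hx => hx) hdisj eU heU
      (res L (f.preimage_mono (inf_le_left.trans inf_le_left : O' ≤ W₁)) e₁) (he₁.mono _)
    have hmem : U ⊔ O' ∈ S := ⟨sup_le hUV (inf_le_left.trans inf_le_right), r, hr⟩
    have hgt : U < U ⊔ O' := by
      refine lt_of_le_of_ne le_sup_left (fun heq => ?_)
      have h1 : y' ∈ U ⊔ O' := Or.inr ⟨⟨hy'W₁, hy'V⟩, hy'O⟩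
      rw [← heq] at h1
      exact hy'O (subset_closure h1)
    exact hmax _ hmem hgt
  have hdisc := discreteTopology_compl_of_dense' hdim U hUdense
  haveI := quasiCompact_ι_of_noetherianSpace U
  have hloc : ∀ y : Y, ∃ (W : Y.Opens) (e : Γ(L, f ⁻¹ᵁ W)) (v : Γ(Y, W ⊓ U)), y ∈ W ∧
      IsGen L (f ⁻¹ᵁ W) e ∧ IsUnit v ∧ (∀ z ∈ W, z ∉ U → z = y) ∧
      res L (f.preimage_mono (inf_le_right : W ⊓ U ≤ U)) eU =
        f.app (W ⊓ U) v • res L (f.preimage_mono (inf_le_left : W ⊓ U ≤ W)) e := by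
    intro y
    by_cases hy : y ∈ U
    · refine ⟨U, eU, 1, hy, heU, isUnit_one, fun z hz hzU => absurd hz hzU, ?_⟩
      rw [map_one, one_smul]
    · exact exists_local_data' f L hL V U hUV hdisc eU heU y hy (finite_generizations' hdim y)
        (fun z z' h1 h2 hne => eq_of_specializes_of_dim_le_one hdim h1 h2 hne)
  choose W e v hyW he hv hW hrel using hloc
  refine exists_pullback_iso_of_local_data f L U eU W (fun y => ⟨y, hyW y⟩) (fun i j hij => ?_)
    e he v hv hrel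
  intro z hz
  by_contra hzU
  exact hij ((hW i z hz.1 hzU).symm.trans (hW j z hz.2 hzU))

end Main

end Groth.Agent.Lib.R2H4PicDescCI2
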