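import Mathlib
import Groth.Prelude
import Groth.Agent.Lib.R2H4PicGenB

/-!
# The kernel of `Pic(X)[h] → Pic(C)[h]`; degree-zero modules trivial on the generic fibre
(helper4, round 2)
-/

set_option autoImplicit false
set_option linter.style.haveILetI false
set_option linter.unusedSectionVars false
universe u
open CategoryTheory CategoryTheory.Limits AlgebraicGeometry TopologicalSpace Opposite IsLocalRing

noncomputable section

namespace Groth.Agent.Lib.R2H4PicGen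

open Groth.Agent.Lib.R2H4TensorPows Groth.Agent.Lib.R2H4ModProd Groth.Agent.Lib.R2H4ModSec
  Groth.Agent.Lib.Helper6 Groth.Agent.Lib.Helper23.GenLocus
  Groth.Agent.Lib.Helper23.SecTw Groth.Agent.Lib.R2H4ModTriv Groth.Agent.Lib.R2H4MultiTwist

section NT

theorem nt_core {n : ℕ} (h' d' : ℕ) (hh' : 0 < h') (hcop : Nat.Coprime h' d')
    (μ a : Fin n → ℕ) (hgcd : Finset.univ.gcd μ = d') (c : ℕ)
    (hm : ∀ i, h' * a i = c * μ i) : ∃ c'' : ℕ, ∀ i, a i = c'' * μ i := by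
  have h1 : h' ∣ Finset.univ.gcd (fun i => c * μ i) :=
    Finset.dvd_gcd (fun i _ => ⟨a i, (hm i).symm⟩)
  rw [Finset.gcd_mul_left, normalize_eq, hgcd] at h1
  obtain ⟨c'', hc''⟩ := hcop.dvd_of_dvd_mul_right h1
  refine ⟨c'', fun i => ?_⟩
  have h2 := hm i
  rw [hc'', mul_assoc] at h2
  exact Nat.eq_of_mul_eq_mul_left hh' h2

/-- if `h a = c m` then `a` is a multiple of `m / gcd(h, gcd m)` -/
theorem nt_one {n : ℕ} (m a : Fin n → ℕ) (h c : ℕ) (hh : 0 < h)
    (hm : ∀ i, h * a i = c * m i) :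
    ∃ c'' : ℕ, ∀ i, a i = c'' * (m i / Nat.gcd h (Finset.univ.gcd m)) := by
  have he0 : 0 < Nat.gcd h (Finset.univ.gcd m) := Nat.gcd_pos_of_pos_left _ hh
  have hem : ∀ i, Nat.gcd h (Finset.univ.gcd m) ∣ m i := fun i =>
    (Nat.gcd_dvd_right h _).trans (Finset.gcd_dvd (Finset.mem_univ i))
  have hμ : ∀ i, m i = Nat.gcd h (Finset.univ.gcd m) * (m i / Nat.gcd h (Finset.univ.gcd m)) :=
    fun i => (Nat.mul_div_cancel' (hem i)).symm
  have hcop := Nat.coprime_div_gcd_div_gcd (m := h) (n := Finset.univ.gcd m) he0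
  have hh'0 : 0 < h / Nat.gcd h (Finset.univ.gcd m) :=
    Nat.div_pos (Nat.le_of_dvd hh (Nat.gcd_dvd_left h _)) he0
  have hgcd : Finset.univ.gcd (fun i => m i / Nat.gcd h (Finset.univ.gcd m)) =
      Finset.univ.gcd m / Nat.gcd h (Finset.univ.gcd m) := by
    have h1 : Finset.univ.gcd m = Nat.gcd h (Finset.univ.gcd m) *
        Finset.univ.gcd (fun i => m i / Nat.gcd h (Finset.univ.gcd m)) := by
      conv_lhs => rw [show m = fun i => Nat.gcd h (Finset.univ.gcd m) *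
        (m i / Nat.gcd h (Finset.univ.gcd m)) from funext hμ]
      rw [Finset.gcd_mul_left, normalize_eq]
    exact (Nat.div_eq_of_eq_mul_right he0 h1).symm
  refine nt_core _ _ hh'0 hcop _ a hgcd c (fun i => ?_)
  have h2 := hm i
  have h3 : h = Nat.gcd h (Finset.univ.gcd m) * (h / Nat.gcd h (Finset.univ.gcd m)) :=
    (Nat.mul_div_cancel' (Nat.gcd_dvd_left h _)).symm
  have h4 : Nat.gcd h (Finset.univ.gcd m) * (h / Nat.gcd h (Finset.univ.gcd m) * a i) =
      Nat.gcd h (Finset.univ.gcd m) * (c * (m i / Nat.gcd h (Finset.univ.gcd m))) := by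
    rw [← mul_assoc, ← h3, h2]
    conv_lhs => rw [hμ i]
    ring
  exact Nat.eq_of_mul_eq_mul_left he0 h4

/-- a residue: `k < e` with `k + c ≡ 0 mod e` -/
theorem nt_residue (e c : ℕ) (he : 0 < e) : ∃ k q : ℕ, k < e ∧ k + c = e * q := by
  by_cases hc : c % e = 0
  · exact ⟨0, c / e, he, by rw [zero_add]; exact (Nat.mul_div_cancel' (Nat.dvd_of_mod_eq_zero hc)).symm⟩
  · refine ⟨e - c % e, c / e + 1, ?_, ?_⟩
    · have := Nat.pos_of_ne_zero hc
      omega
    · have h1 := Nat.div_add_mod c e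
      have h2 := Nat.mod_lt c he
      rw [mul_add, mul_one]
      omega

/-- proportional vectors: `d a` is a multiple of `m` -/
theorem nt_prop {n : ℕ} (m a : Fin n → ℕ) (hm : ∀ i, 0 < m i)
    (hcross : ∀ i j, a i * m j = a j * m i) :
    ∃ t : ℕ, ∀ i, Finset.univ.gcd m * a i = t * m i := by
  have hdvd : ∀ i, m i ∣ a i * Finset.univ.gcd m := by
    intro i
    have h1 : m i ∣ Finset.univ.gcd (fun j => a i * m j) :=
      Finset.dvd_gcd (fun j _ => ⟨a j, by rw [hcross i j, mul_comm]⟩)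
    rw [Finset.gcd_mul_left, normalize_eq] at h1
    exact h1
  choose t ht using hdvd
  rcases Nat.eq_zero_or_pos n with hn | hn
  · subst hn
    exact ⟨0, fun i => i.elim0⟩
  · refine ⟨t ⟨0, hn⟩, fun i => ?_⟩
    have h1 : t i = t ⟨0, hn⟩ := by
      have h2 : m i * m ⟨0, hn⟩ * t i = m i * m ⟨0, hn⟩ * t ⟨0, hn⟩ := by
        have e1 := ht i
        have e2 := ht ⟨0, hn⟩
        have e3 := hcross i ⟨0, hn⟩
        calc m i * m ⟨0, hn⟩ * t i = (m i * t i) * m ⟨0, hn⟩ := by ring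
          _ = a i * Finset.univ.gcd m * m ⟨0, hn⟩ := by rw [← e1]
          _ = (a i * m ⟨0, hn⟩) * Finset.univ.gcd m := by ring
          _ = (a ⟨0, hn⟩ * m i) * Finset.univ.gcd m := by rw [e3]
          _ = (a ⟨0, hn⟩ * Finset.univ.gcd m) * m i := by ring
          _ = (m ⟨0, hn⟩ * t ⟨0, hn⟩) * m i := by rw [e2]
          _ = m i * m ⟨0, hn⟩ * t ⟨0, hn⟩ := by ring
      exact Nat.eq_of_mul_eq_mul_left (Nat.mul_pos (hm i) (hm _)) h2
    rw [← h1, mul_comm, ht i, mul_comm]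

end NT

section Fibre

open Groth.Agent.Lib.R2H1.SpecialFibreProd Groth.Agent.Lib.R2H4ModMain
  Groth.Agent.Lib.R2H4ModComp Groth.Agent.Lib.R2H4ModDeg

variable {R : Type u} [CommRing R] [IsDomain R] [IsDiscreteValuationRing R]
  {X C : Scheme.{u}} {p : X ⟶ Spec (CommRingCat.of R)} {n : ℕ}
  (Γ : Fin n → ArSurf.VertComp R (Over.mk p))
  (hΓ : Models.IsComponentList R (Over.mk p) Γ)
  (L : Fin n → X.Modules)
  (hL : ∀ i, ClSub.IsInverseOf (L i) (ClSub.idealMod (Γ i).ι.ker))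
  (f : C ⟶ Spec (CommRingCat.of (FractionRing R))) (g : C ⟶ X)
  (H : IsPullback g f p (Spec.map (CommRingCat.ofHom (algebraMap R (FractionRing R)))))

/-- a nonempty proper `R`-scheme has a point in the closed fibre -/
theorem exists_mem_specialFibreSet [Nonempty X] [IsProper p] :
    ∃ x : X, x ∈ Models.specialFibreSet R (Over.mk p) := by
  haveI : CompactSpace X := QuasiCompact.compactSpace_of_compactSpace p
  obtain ⟨x, -, hx⟩ := (isClosed_univ (X := X)).exists_closed_singleton Set.univ_nonempty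
  refine ⟨x, ?_⟩
  have h1 : IsClosed (p.base '' {x}) := p.isClosedMap _ hx
  rw [Set.image_singleton] at h1
  have h2 : (p.base x : PrimeSpectrum R).asIdeal.IsMaximal :=
    (PrimeSpectrum.isClosed_singleton_iff_isMaximal _).1 h1
  change p.base x = closedPoint R
  exact PrimeSpectrum.ext (IsLocalRing.eq_maximalIdeal h2)

include hΓ in
theorem pos_of_nonempty [Nonempty X] [IsProper p] : 0 < n := by
  haveI : IsLocallyNoetherian X := LocallyOfFiniteType.isLocallyNoetherian p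
  haveI : CompactSpace X := QuasiCompact.compactSpace_of_compactSpace p
  haveI : IsNoetherian X := {}
  obtain ⟨x, hx⟩ := exists_mem_specialFibreSet (p := p)
  obtain ⟨l, -⟩ := exists_mem_rg Γ hΓ x hx
  exact l.pos

variable [Flat p] [IsProper p]
  (hreg : ∀ x : X, IsRegularLocalRing (X.presheaf.stalk x))

include hΓ hL hreg H in
/-- **S19918**, in terms of `bigMod` -/
theorem torsion_kernel [Nonempty X] (hiso : IsIso p.appTop) (h : ℕ) (hh : 0 < h)
    (M : X.Modules) (hM : PicF.IsInvertible M)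
    (htors : Nonempty (CohB1.tensorPow M h ≅ Coh.structureModule X))
    (htriv : Nonempty ((Scheme.Modules.pullback g).obj M ≅ Coh.structureModule C)) :
    ∃! k : ℕ, k < Nat.gcd h (Models.multGcd R (Over.mk p) Γ) ∧
      Nonempty (M ≅ bigMod n L (fun i => k * (Models.mult R (Over.mk p) (Γ i) /
        Nat.gcd h (Models.multGcd R (Over.mk p) Γ)))) := by
  let m : Fin n → ℕ := fun i => Models.mult R (Over.mk p) (Γ i)
  have hd : Models.multGcd R (Over.mk p) Γ = Finset.univ.gcd m := rfl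
  have he0 : 0 < Nat.gcd h (Models.multGcd R (Over.mk p) Γ) := Nat.gcd_pos_of_pos_left _ hh
  have hem : ∀ i, Nat.gcd h (Models.multGcd R (Over.mk p) Γ) ∣ m i := fun i =>
    (Nat.gcd_dvd_right h _).trans (Finset.gcd_dvd (Finset.mem_univ i))
  have hμ : ∀ i, Nat.gcd h (Models.multGcd R (Over.mk p) Γ) *
      (m i / Nat.gcd h (Models.multGcd R (Over.mk p) Γ)) = m i :=
    fun i => Nat.mul_div_cancel' (hem i)
  obtain ⟨e0⟩ := nonempty_iso_bigMod Γ hΓ L hL hreg
  have h0 : Nonempty (bigMod n L m ≅ Coh.structureModule X) := ⟨e0.symm⟩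
  -- existence
  obtain ⟨a, ⟨ε⟩⟩ := exists_twist_trivial Γ hΓ L hL f g H hreg M hM htriv
  obtain ⟨et⟩ := htors
  have e1 : bigMod n L (h • a) ≅ Coh.structureModule X :=
    (powBig n L a h).symm ≪≫ (lUnit _).symm ≪≫ tIso et.symm (Iso.refl _) ≪≫
      (powTensor M (bigMod n L a) h).symm ≪≫ powIso ε h ≪≫
      Groth.Agent.Lib.Helper23.TensorUnit.tensorPowUnitIso h
  obtain ⟨c, hc⟩ := exists_smul_of_iso Γ hΓ L hL hreg hiso (h • a) e1
  have hci : ∀ i, h * a i = c * m i := fun i => congrFun hc i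
  obtain ⟨c'', hc''⟩ := nt_one m a h c hh hci
  obtain ⟨k, q, hk, hkq⟩ := nt_residue (Nat.gcd h (Models.multGcd R (Over.mk p) Γ)) c'' he0
  have hsum : a + (fun i => k * (m i / Nat.gcd h (Models.multGcd R (Over.mk p) Γ))) = q • m := by
    funext i
    show a i + k * (m i / Nat.gcd h (Models.multGcd R (Over.mk p) Γ)) = q * m i
    rw [hc'' i, ← hd, ← add_mul, add_comm, hkq, mul_comm _ q, mul_assoc, hμ i]
  obtain ⟨eq⟩ := nonempty_big_smul n L m h0 q
  have ex : M ≅ bigMod n L (fun i => k * (m i / Nat.gcd h (Models.multGcd R (Over.mk p) Γ))) :=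
    (rUnit M).symm ≪≫ tIso (Iso.refl M) (eq.symm ≪≫ eqToIso (by rw [hsum]) ≪≫
      bigAdd n L a _) ≪≫ (tAssoc _ _ _).symm ≪≫ tIso ε (Iso.refl _) ≪≫ lUnit _
  refine ⟨k, ⟨hk, ⟨ex⟩⟩, ?_⟩
  -- uniqueness
  rintro k' ⟨hk', ⟨ex'⟩⟩
  have hn : 0 < n := pos_of_nonempty Γ hΓ
  obtain ⟨z, hz⟩ := (nonempty_iso_iff Γ hΓ L hL hreg hiso _ _).1 ⟨ex'.symm ≪≫ ex⟩
  have hz0 := hz ⟨0, hn⟩
  have hm0 : 0 < m ⟨0, hn⟩ := mult_pos Γ hΓ hreg ⟨0, hn⟩
  have hμ0 : 0 < m ⟨0, hn⟩ / Nat.gcd h (Models.multGcd R (Over.mk p) Γ) :=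
    Nat.div_pos (Nat.le_of_dvd hm0 (hem _)) he0
  have hμe := hμ ⟨0, hn⟩
  -- (k' - k) μ = z e μ
  have h3 : ((k' : ℤ) - k) * ((m ⟨0, hn⟩ / Nat.gcd h (Models.multGcd R (Over.mk p) Γ) : ℕ) : ℤ) =
      z * (Nat.gcd h (Models.multGcd R (Over.mk p) Γ) : ℕ) *
        ((m ⟨0, hn⟩ / Nat.gcd h (Models.multGcd R (Over.mk p) Γ) : ℕ) : ℤ) := by
    have h4 : ((m ⟨0, hn⟩ : ℕ) : ℤ) = (Nat.gcd h (Models.multGcd R (Over.mk p) Γ) : ℕ) *
        ((m ⟨0, hn⟩ / Nat.gcd h (Models.multGcd R (Over.mk p) Γ) : ℕ) : ℤ) := by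
      exact_mod_cast hμe.symm
    push_cast at hz0
    rw [sub_mul, mul_assoc, ← h4]
    exact hz0
  have h5 : ((k' : ℤ) - k) = z * (Nat.gcd h (Models.multGcd R (Over.mk p) Γ) : ℕ) :=
    mul_right_cancel₀ (by exact_mod_cast hμ0.ne') h3
  have h6 : ((Nat.gcd h (Models.multGcd R (Over.mk p) Γ) : ℕ) : ℤ) ∣ (k' : ℤ) - k :=
    ⟨z, by rw [h5, mul_comm]⟩
  have h7 : |(k' : ℤ) - k| < (Nat.gcd h (Models.multGcd R (Over.mk p) Γ) : ℕ) := by
    rw [abs_lt]
    constructor <;> omega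
  have h8 := Int.eq_zero_of_abs_lt_dvd h6 h7
  omega

include hΓ hL hreg H in
/-- **S19918** -/
theorem s19918 [Nonempty X] (hiso : IsIso p.appTop) (h : ℕ) (hh : 0 < h)
    (M : X.Modules) (hM : PicF.IsInvertible M)
    (htors : Nonempty (CohB1.tensorPow M h ≅ Coh.structureModule X))
    (htriv : Nonempty ((Scheme.Modules.pullback g).obj M ≅ Coh.structureModule C)) :
    ∃! k : ℕ, k < Nat.gcd h (Models.multGcd R (Over.mk p) Γ) ∧
      Nonempty (M ≅ FGA.multiTwist L (fun i => k * (Models.mult R (Over.mk p) (Γ i) /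
        Nat.gcd h (Models.multGcd R (Over.mk p) Γ)))) := by
  have key := torsion_kernel Γ hΓ L hL f g H hreg hiso h hh M hM htors htriv
  have hiff : ∀ k : ℕ, Nonempty (M ≅ FGA.multiTwist L (fun i => k *
      (Models.mult R (Over.mk p) (Γ i) / Nat.gcd h (Models.multGcd R (Over.mk p) Γ)))) ↔
      Nonempty (M ≅ bigMod n L (fun i => k * (Models.mult R (Over.mk p) (Γ i) /
        Nat.gcd h (Models.multGcd R (Over.mk p) Γ)))) := by
    intro k
    obtain ⟨ek⟩ := nonempty_bigMod_multiTwist n L (fun i => k *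
      (Models.mult R (Over.mk p) (Γ i) / Nat.gcd h (Models.multGcd R (Over.mk p) Γ)))
    exact ⟨fun ⟨e⟩ => ⟨e ≪≫ ek.symm⟩, fun ⟨e⟩ => ⟨e ≪≫ ek⟩⟩
  obtain ⟨k, ⟨hk, hek⟩, huniq⟩ := key
  exact ⟨k, ⟨hk, (hiff k).2 hek⟩, fun k' ⟨hk', hek'⟩ => huniq k' ⟨hk', (hiff k').1 hek'⟩⟩

include hΓ hL hreg H in
/-- the degrees of `M ⊗ ⊗ L_i^{a_i} ≅ O_X` on the components -/
theorem row_sum_of_twist_trivial (M : X.Modules) (hM : PicF.IsInvertible M) (a : Fin n → ℕ)
    (ε : CohB1.tensorMod M (bigMod n L a) ≅ Coh.structureModule X) (j : Fin n) :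
    ArSurf.inter R (Over.mk p) M (Γ j) +
      ∑ i, (a i : ℤ) * ArSurf.inter R (Over.mk p) (L i) (Γ j) = 0 := by
  haveI := isProper_curve (Γ j)
  have hLinv : ∀ i, PicF.IsInvertible (L i) := by
    intro i
    obtain ⟨e⟩ := hL i
    exact isInvertible_of_iso _ (L i) e
  have h1 : ∀ N : X.Modules, ArSurf.inter R (Over.mk p) N (Γ j) =
      @Curv2.deg (ResidueField R) _ (Γ j).curve.left _
        ((Scheme.Modules.pullback (Γ j).ι).obj N) 1 := by
    intro N
    rw [inter_eq_deg]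
  rw [h1 M, Finset.sum_congr rfl (fun i _ => by rw [h1 (L i)])]
  let ιj : (Γ j).curve.left ⟶ X := (Γ j).ι
  have hB := isInvertible_bigMod n L a hLinv
  have hA := deg_pullback_bigMod (ResidueField R) (Γ j).curve.left ιj (Γ j).dim_eq n L a hLinv
  obtain ⟨e₁⟩ := Groth.Agent.Lib.Helper23.PB.nonempty_pullback_tensorMod_iso ιj _ _ hM hB
  have hT := Groth.Agent.Lib.R2H1.CurveAmple.deg_tensorMod (ResidueField R) (Γ j).curve.left
    (Γ j).dim_eq _ _ (Groth.Agent.Lib.Helper23.PB.isInvertible_pullback ιj _ hM)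
    (Groth.Agent.Lib.Helper23.PB.isInvertible_pullback ιj _ hB)
  have hE := deg_congr (ResidueField R) (Γ j).curve.left e₁
  have hC := deg_congr (ResidueField R) (Γ j).curve.left
    ((Scheme.Modules.pullback ιj).mapIso ε)
  have hU := deg_congr (ResidueField R) (Γ j).curve.left
    (Groth.Agent.Lib.Helper23.PB.pullbackUnitIso ιj)
  have hD := deg_structure (ResidueField R) (Γ j).curve.left
  rw [← hA, ← hT, ← hE, hC, hU, hD]

include hΓ hL hreg H in
/-- **S3340**, with given twists -/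
theorem s3340_aux [IsNoetherian X]
    (hconn : _root_.IsPreconnected (Models.specialFibreSet R (Over.mk p)))
    (M : X.Modules) (hM : PicF.IsInvertible M)
    (htriv : Nonempty ((Scheme.Modules.pullback g).obj M ≅ Coh.structureModule C))
    (hdeg : ∀ i, ArSurf.inter R (Over.mk p) M (Γ i) = 0) :
    Nonempty (CohB1.tensorPow M (Models.multGcd R (Over.mk p) Γ) ≅ Coh.structureModule X) := by
  let m : Fin n → ℕ := fun i => Models.mult R (Over.mk p) (Γ i)
  obtain ⟨a, ⟨ε⟩⟩ := exists_twist_trivial Γ hΓ L hL f g H hreg M hM htriv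
  have hrow : ∀ j, ∑ i, (a i : ℤ) * ArSurf.inter R (Over.mk p) (L i) (Γ j) = 0 := by
    intro j
    have h1 := row_sum_of_twist_trivial Γ hΓ L hL f g H hreg M hM a ε j
    rw [hdeg j, zero_add] at h1
    exact h1
  have hq : (∑ q : Fin n × Fin n, (a q.1 : ℤ) * (a q.2 : ℤ) *
      ArSurf.inter R (Over.mk p) (L q.2) (Γ q.1)) = 0 := by
    rw [Fintype.sum_prod_type]
    refine Finset.sum_eq_zero (fun i _ => ?_)
    have h2 : ∀ j, (a i : ℤ) * (a j : ℤ) * ArSurf.inter R (Over.mk p) (L j) (Γ i) =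
        (a i : ℤ) * ((a j : ℤ) * ArSurf.inter R (Over.mk p) (L j) (Γ i)) := fun j => mul_assoc _ _ _
    rw [Finset.sum_congr rfl (fun j _ => h2 j), ← Finset.mul_sum, hrow i, mul_zero]
  obtain ⟨c, hc⟩ := ((s3320 Γ hΓ L hL hreg hconn (fun i => (a i : ℤ))).2).1 hq
  have hcross : ∀ i j, a i * m j = a j * m i := by
    intro i j
    have hi : ((a i : ℤ) : ℚ) = c * (m i : ℚ) := hc i
    have hj : ((a j : ℤ) : ℚ) = c * (m j : ℚ) := hc j
    have h3 : ((a i * m j : ℕ) : ℚ) = ((a j * m i : ℕ) : ℚ) := by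
      push_cast at hi hj ⊢
      rw [hi, hj]
      ring
    exact_mod_cast h3
  obtain ⟨t, ht⟩ := nt_prop m a (fun i => mult_pos Γ hΓ hreg i) hcross
  have hda : Models.multGcd R (Over.mk p) Γ • a = t • m := funext ht
  obtain ⟨e0⟩ := nonempty_iso_bigMod Γ hΓ L hL hreg
  obtain ⟨et⟩ := nonempty_big_smul n L m ⟨e0.symm⟩ t
  exact ⟨(rUnit _).symm ≪≫ tIso (Iso.refl _) (et.symm ≪≫ eqToIso (by rw [hda]) ≪≫
    (powBig n L a _).symm) ≪≫ (powTensor M (bigMod n L a) _).symm ≪≫ powIso ε _ ≪≫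
    Groth.Agent.Lib.Helper23.TensorUnit.tensorPowUnitIso _⟩

end Fibre

section Final

open Groth.Agent.Lib.R2H1.SpecialFibreProd Groth.Agent.Lib.R2H4ModMain

variable {R : Type u} [CommRing R] [IsDomain R] [IsDiscreteValuationRing R]
  {X C : Scheme.{u}} {p : X ⟶ Spec (CommRingCat.of R)} {n : ℕ}
  (Γ : Fin n → ArSurf.VertComp R (Over.mk p))
  (hΓ : Models.IsComponentList R (Over.mk p) Γ)
  (f : C ⟶ Spec (CommRingCat.of (FractionRing R))) (g : C ⟶ X)
  (H : IsPullback g f p (Spec.map (CommRingCat.ofHom (algebraMap R (FractionRing R)))))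
  [Flat p] [IsProper p]
  (hreg : ∀ x : X, IsRegularLocalRing (X.presheaf.stalk x))

include hΓ hreg H in
/-- **S3340** -/
theorem s3340 [Nonempty C] (hf : IsIso f.appTop) (hiso : IsIso p.appTop)
    (M : X.Modules) (hM : PicF.IsInvertible M)
    (htriv : Nonempty ((Scheme.Modules.pullback g).obj M ≅ Coh.structureModule C))
    (hdeg : ∀ i, ArSurf.inter R (Over.mk p) M (Γ i) = 0) :
    Nonempty (CohB1.tensorPow M (Models.multGcd R (Over.mk p) Γ) ≅ Coh.structureModule X) := by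
  haveI : Nonempty X := ⟨g.base (Classical.arbitrary C)⟩
  haveI := isIntegral_of_model hreg hiso
  haveI : IsLocallyNoetherian X := LocallyOfFiniteType.isLocallyNoetherian p
  haveI : CompactSpace X := QuasiCompact.compactSpace_of_compactSpace p
  haveI : IsNoetherian X := {}
  obtain ⟨L, hL⟩ := Groth.Agent.Lib.R2H4ModNegC.exists_inverses (fun i => ik Γ i)
    (main R X p hreg Γ hΓ).1
  have hconn := isPreconnected_specialFibreSet f g H hf
  exact s3340_aux Γ hΓ L hL f g H hreg hconn M hM htriv hdeg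

end Final

end Groth.Agent.Lib.R2H4PicGen
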