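import Mathlib
import Groth.Prelude
import Groth.Agent.Lib.R2H4PicGenB

/-!
# Lifting torsion classes from the generic fibre to a regular model (S19924)
(helper4, round 2)
-/

set_option autoImplicit false
set_option linter.style.haveILetI false
set_option linter.unusedSectionVars false
universe u
open CategoryTheory CategoryTheory.Limits AlgebraicGeometry TopologicalSpace Opposite IsLocalRing

noncomputable section

namespace Groth.Agent.Lib.R2H4PicGen

open Groth.Agent.Lib.R2H4TensorPows Groth.Agent.Lib.R2H4ModProd Groth.Agent.Lib.R2H4ModSec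
  Groth.Agent.Lib.Helper6 Groth.Agent.Lib.Helper23.GenLocus
  Groth.Agent.Lib.Helper23.SecTw Groth.Agent.Lib.R2H4ModTriv Groth.Agent.Lib.R2H4MultiTwist

local notation "sH" => Groth.Agent.Lib.R2H1.SpecialFibreProd.secHom

section Fibre

open Groth.Agent.Lib.R2H1.SpecialFibreProd Groth.Agent.Lib.R2H4ModMain
  Groth.Agent.Lib.R2H4ModComp Groth.Agent.Lib.Helper23.PB

variable {R : Type u} [CommRing R] [IsDomain R] [IsDiscreteValuationRing R]
  {X C : Scheme.{u}} {p : X ⟶ Spec (CommRingCat.of R)} {n : ℕ}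
  (Γ : Fin n → ArSurf.VertComp R (Over.mk p))
  (hΓ : Models.IsComponentList R (Over.mk p) Γ)
  (L : Fin n → X.Modules)
  (hL : ∀ i, ClSub.IsInverseOf (L i) (ClSub.idealMod (Γ i).ι.ker))
  (f : C ⟶ Spec (CommRingCat.of (FractionRing R))) (g : C ⟶ X)
  (H : IsPullback g f p (Spec.map (CommRingCat.ofHom (algebraMap R (FractionRing R)))))

include hΓ hL H in
/-- vertical twists are trivial on the generic fibre -/
theorem nonempty_pullback_bigMod_iso (z : Fin n → ℕ) :
    Nonempty ((Scheme.Modules.pullback g).obj (bigMod n L z) ≅ Coh.structureModule C) := by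
  have e : ∀ i, CohB1.tensorMod (L i) (ClSub.idealMod (ik Γ i)) ≅ Coh.structureModule X :=
    fun i => (hL i).some
  have hLinv : ∀ i, PicF.IsInvertible (L i) := fun i => isInvertible_of_iso _ (L i) (e i)
  let sL : ∀ i, Coh.structureModule X ⟶ L i := fun i => canSec (Γ i).ι.ker (L i) (e i)
  have hB := isInvertible_bigMod n L z hLinv
  obtain ⟨ϖ, hϖ⟩ := IsDiscreteValuationRing.exists_irreducible R
  haveI := isOpenImmersion_of_isPullback f g H
  have hU : g.opensRange = X.basicOpen (sH R X p ⊤ ϖ) := opensRange_eq f g H ϖ hϖ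
  have hmem : ∀ y : C, g.base y ∈ CohB1.genLocus (bigMod n L z) (bigSec n L sL z) := by
    intro y
    by_contra hy
    have h1 : g.base y ∈ (PicF2.zeroScheme (bigMod n L z) (bigSec n L sL z)).support :=
      (mem_support_zeroScheme_iff (bigMod n L z) hB (bigSec n L sL z) (g.base y)).2 hy
    have hZ : PicF2.zeroScheme (bigMod n L z) (bigSec n L sL z) = ∏ i, ik Γ i ^ z i := by
      rw [zeroScheme_bigSec n L sL z hLinv]
      refine Finset.prod_congr rfl (fun i _ => ?_)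
      rw [zeroScheme_canSec _ _ (hLinv i) (e i)]
    rw [hZ, mem_support_prod_pow] at h1
    obtain ⟨i, -, -, hxi⟩ := h1
    have hxr : g.base y ∈ rg Γ i := by
      rw [← support_ker]
      exact hxi
    have hxs : g.base y ∈ Models.specialFibreSet R (Over.mk p) := (rg_mem Γ hΓ i).1.2 hxr
    have hxn := (notMem_basicOpen_iff ϖ hϖ (g.base y)).2 hxs
    apply hxn
    rw [← hU]
    exact ⟨y, rfl⟩
  have hpre : g ⁻¹ᵁ CohB1.genLocus (bigMod n L z) (bigSec n L sL z) = ⊤ := by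
    apply Opens.ext
    ext y
    simp only [Opens.coe_top, Set.mem_univ, iff_true]
    exact hmem y
  haveI : IsIso ((Scheme.Modules.pullback g).map (bigSec n L sL z)) :=
    (Groth.Agent.Lib.H9YBlowUp.isIso_pullback_map_iff g _ hB _).2 hpre
  exact ⟨(asIso ((Scheme.Modules.pullback g).map (bigSec n L sL z))).symm ≪≫ pullbackUnitIso g⟩

variable [Flat p] [IsProper p]
  (hreg : ∀ x : X, IsRegularLocalRing (X.presheaf.stalk x))

include hΓ hL hreg H in
theorem s19924_mp [IsIntegral X] (hiso : IsIso p.appTop) (h : ℕ)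
    (N : C.Modules) (M : X.Modules) (hM : PicF.IsInvertible M)
    (hMN : Nonempty ((Scheme.Modules.pullback g).obj M ≅ N)) (a b : Fin n → ℕ)
    (hab : Nonempty (CohB1.tensorMod (CohB1.tensorPow M h) (bigMod n L a) ≅ bigMod n L b))
    (M' : X.Modules) (hM' : PicF.IsInvertible M')
    (hM't : Nonempty (CohB1.tensorPow M' h ≅ Coh.structureModule X))
    (hM'N : Nonempty ((Scheme.Modules.pullback g).obj M' ≅ N)) :
    ∃ (c : Fin n → ℤ) (e : ℤ), ∀ i, ((b i : ℤ) - (a i : ℤ)) =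
      (h : ℤ) * c i + e * (Models.mult R (Over.mk p) (Γ i) : ℤ) := by
  obtain ⟨Mv, hMv, ⟨ev⟩⟩ := Groth.Agent.Lib.R2H1.InvExists.exists_inverse M hM
  obtain ⟨eMN⟩ := hMN
  obtain ⟨eM'N⟩ := hM'N
  obtain ⟨et'⟩ := hM't
  obtain ⟨eab⟩ := hab
  have hP : PicF.IsInvertible (CohB1.tensorMod M' Mv) := isInvertible_tensorMod hM' hMv
  obtain ⟨e1⟩ := nonempty_pullback_tensorMod_iso g M' Mv hM' hMv
  obtain ⟨e2⟩ := nonempty_pullback_tensorMod_iso g M Mv hM hMv
  have eP : (Scheme.Modules.pullback g).obj (CohB1.tensorMod M' Mv) ≅ Coh.structureModule C :=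
    e1 ≪≫ tIso (eM'N ≪≫ eMN.symm) (Iso.refl _) ≪≫ e2.symm ≪≫
      (Scheme.Modules.pullback g).mapIso ev ≪≫ pullbackUnitIso g
  obtain ⟨x, ⟨εx⟩⟩ := exists_twist_trivial Γ hΓ L hL f g H hreg _ hP ⟨eP⟩
  have ψ : M ≅ CohB1.tensorMod M' (bigMod n L x) :=
    (lUnit M).symm ≪≫ tIso εx.symm (Iso.refl M) ≪≫
      tIso (swapR M' Mv (bigMod n L x)) (Iso.refl M) ≪≫
      tAssoc (CohB1.tensorMod M' (bigMod n L x)) Mv M ≪≫
      tIso (Iso.refl _) (tComm Mv M ≪≫ ev) ≪≫ rUnit _
  have e3 : CohB1.tensorPow M h ≅ bigMod n L (h • x) :=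
    powIso ψ h ≪≫ powTensor M' (bigMod n L x) h ≪≫ tIso et' (powBig n L x h) ≪≫ lUnit _
  have e4 : bigMod n L (h • x + a) ≅ bigMod n L b :=
    bigAdd n L (h • x) a ≪≫ tIso e3.symm (Iso.refl _) ≪≫ eab
  obtain ⟨z, hz⟩ := (nonempty_iso_iff Γ hΓ L hL hreg hiso _ _).1 ⟨e4⟩
  refine ⟨fun i => (x i : ℤ), -z, fun i => ?_⟩
  have h1 := hz i
  have h2 : (((h • x + a) i : ℕ) : ℤ) = (h : ℤ) * (x i : ℤ) + (a i : ℤ) := by
    show ((h * x i + a i : ℕ) : ℤ) = _
    push_cast
    ring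
  rw [h2] at h1
  linarith

include hΓ hL hreg H in
theorem s19924_mpr (h : ℕ)
    (N : C.Modules) (M : X.Modules) (hM : PicF.IsInvertible M)
    (hMN : Nonempty ((Scheme.Modules.pullback g).obj M ≅ N)) (a b : Fin n → ℕ)
    (hab : Nonempty (CohB1.tensorMod (CohB1.tensorPow M h) (bigMod n L a) ≅ bigMod n L b))
    (c : Fin n → ℤ) (e : ℤ)
    (hce : ∀ i, ((b i : ℤ) - (a i : ℤ)) =
      (h : ℤ) * c i + e * (Models.mult R (Over.mk p) (Γ i) : ℤ)) :
    ∃ M' : X.Modules, PicF.IsInvertible M' ∧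
      Nonempty (CohB1.tensorPow M' h ≅ Coh.structureModule X) ∧
      Nonempty ((Scheme.Modules.pullback g).obj M' ≅ N) := by
  let m : Fin n → ℕ := fun i => Models.mult R (Over.mk p) (Γ i)
  have hm1 : ∀ i, 1 ≤ m i := fun i => mult_pos Γ hΓ hreg i
  have eL : ∀ i, CohB1.tensorMod (L i) (ClSub.idealMod (ik Γ i)) ≅ Coh.structureModule X :=
    fun i => (hL i).some
  have hLinv : ∀ i, PicF.IsInvertible (L i) := fun i => isInvertible_of_iso _ (L i) (eL i)
  obtain ⟨e0⟩ := nonempty_iso_bigMod Γ hΓ L hL hreg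
  have h0 : Nonempty (bigMod n L m ≅ Coh.structureModule X) := ⟨e0.symm⟩
  obtain ⟨eMN⟩ := hMN
  obtain ⟨eab⟩ := hab
  let t : ℕ := (∑ i, (c i).natAbs) + e.natAbs
  have htc : ∀ i, c i ≤ (t : ℤ) * (m i : ℤ) := by
    intro i
    have h1 : (c i).natAbs ≤ ∑ j, (c j).natAbs :=
      Finset.single_le_sum (f := fun j => (c j).natAbs) (fun _ _ => Nat.zero_le _)
        (Finset.mem_univ i)
    have h2 : c i ≤ ((c i).natAbs : ℤ) := Int.le_natAbs
    have h3 : ((c i).natAbs : ℤ) ≤ (t : ℤ) := by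
      have : (c i).natAbs ≤ t := le_trans h1 (Nat.le_add_right _ _)
      exact_mod_cast this
    have h4 : (t : ℤ) ≤ (t : ℤ) * (m i : ℤ) := by
      have : t ≤ t * m i := Nat.le_mul_of_pos_right t (hm1 i)
      exact_mod_cast this
    linarith
  have hte : 0 ≤ e + (h : ℤ) * (t : ℤ) ∨ h = 0 := by
    rcases Nat.eq_zero_or_pos h with hh | hh
    · exact Or.inr hh
    · left
      have h2 : -e ≤ (e.natAbs : ℤ) := by
        rw [← Int.natAbs_neg]
        exact Int.le_natAbs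
      have h3 : (e.natAbs : ℤ) ≤ (t : ℤ) := by
        have : e.natAbs ≤ t := Nat.le_add_left _ _
        exact_mod_cast this
      have h4 : (t : ℤ) ≤ (h : ℤ) * (t : ℤ) := by
        have : t ≤ h * t := Nat.le_mul_of_pos_left t hh
        exact_mod_cast this
      linarith
  let z : Fin n → ℕ := fun i => ((t : ℤ) * (m i : ℤ) - c i).toNat
  have hz : ∀ i, (z i : ℤ) = (t : ℤ) * (m i : ℤ) - c i := fun i =>
    Int.toNat_of_nonneg (by have := htc i; linarith)
  refine ⟨CohB1.tensorMod M (bigMod n L z),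
    isInvertible_tensorMod hM (isInvertible_bigMod n L z hLinv), ?_, ?_⟩
  · -- torsion
    rcases Nat.eq_zero_or_pos h with hh | hh
    · subst hh
      exact ⟨Iso.refl _⟩
    have hte' : 0 ≤ e + (h : ℤ) * (t : ℤ) := by
      rcases hte with h1 | h1
      · exact h1
      · omega
    let w : ℕ := (e + (h : ℤ) * (t : ℤ)).toNat
    have hw : (w : ℤ) = e + (h : ℤ) * (t : ℤ) := Int.toNat_of_nonneg hte'
    have hkey : b + h • z = a + w • m := by
      funext i
      have h1 : ((b i + h * z i : ℕ) : ℤ) = ((a i + w * m i : ℕ) : ℤ) := by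
        push_cast
        rw [hz i, hw]
        linear_combination hce i
      exact_mod_cast h1
    -- an inverse of `bigMod a`
    let s : ℕ := ∑ i, a i
    let a' : Fin n → ℕ := fun i => s * m i - a i
    have haa' : a + a' = s • m := by
      funext i
      have h1 : a i ≤ s := Finset.single_le_sum (f := a) (fun _ _ => Nat.zero_le _)
        (Finset.mem_univ i)
      have h3 : s ≤ s * m i := Nat.le_mul_of_pos_right s (hm1 i)
      show a i + (s * m i - a i) = s * m i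
      omega
    obtain ⟨es⟩ := nonempty_big_smul n L m h0 s
    obtain ⟨ew⟩ := nonempty_big_smul n L m h0 w
    have inv : CohB1.tensorMod (bigMod n L a) (bigMod n L a') ≅ Coh.structureModule X :=
      (bigAdd n L a a').symm ≪≫ eqToIso (by rw [haa']) ≪≫ es
    have e5 : CohB1.tensorPow (CohB1.tensorMod M (bigMod n L z)) h ≅
        CohB1.tensorMod (CohB1.tensorPow M h) (bigMod n L (h • z)) :=
      powTensor M (bigMod n L z) h ≪≫ tIso (Iso.refl _) (powBig n L z h)
    have e6 : CohB1.tensorMod (CohB1.tensorPow (CohB1.tensorMod M (bigMod n L z)) h)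
        (bigMod n L a) ≅ bigMod n L a :=
      tIso e5 (Iso.refl _) ≪≫ swapR _ _ _ ≪≫ tIso eab (Iso.refl _) ≪≫
        (bigAdd n L b (h • z)).symm ≪≫ eqToIso (by rw [hkey]) ≪≫ bigAdd n L a (w • m) ≪≫
        tIso (Iso.refl _) ew ≪≫ rUnit _
    exact ⟨(rUnit _).symm ≪≫ tIso (Iso.refl _) inv.symm ≪≫ (tAssoc _ _ _).symm ≪≫
      tIso e6 (Iso.refl _) ≪≫ inv⟩
  · -- generic fibre
    obtain ⟨ez⟩ := nonempty_pullback_bigMod_iso Γ hΓ L hL f g H z
    obtain ⟨e1⟩ := nonempty_pullback_tensorMod_iso g M (bigMod n L z) hM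
      (isInvertible_bigMod n L z hLinv)
    exact ⟨e1 ≪≫ tIso eMN ez ≪≫ rUnit N⟩

include hΓ hL hreg H in
/-- **S19924** -/
theorem s19924 [IsIntegral X] (hiso : IsIso p.appTop) (h : ℕ)
    (N : C.Modules) (M : X.Modules) (hM : PicF.IsInvertible M)
    (hMN : Nonempty ((Scheme.Modules.pullback g).obj M ≅ N)) (a b : Fin n → ℕ)
    (hab : Nonempty (CohB1.tensorMod (CohB1.tensorPow M h) (FGA.multiTwist L a) ≅
      FGA.multiTwist L b)) :
    (∃ M' : X.Modules, PicF.IsInvertible M' ∧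
        Nonempty (CohB1.tensorPow M' h ≅ Coh.structureModule X) ∧
        Nonempty ((Scheme.Modules.pullback g).obj M' ≅ N)) ↔
      ∃ (c : Fin n → ℤ) (e : ℤ), ∀ i, ((b i : ℤ) - (a i : ℤ)) =
        (h : ℤ) * c i + e * (Models.mult R (Over.mk p) (Γ i) : ℤ) := by
  obtain ⟨ea⟩ := nonempty_bigMod_multiTwist n L a
  obtain ⟨eb⟩ := nonempty_bigMod_multiTwist n L b
  obtain ⟨eab⟩ := hab
  have hab' : Nonempty (CohB1.tensorMod (CohB1.tensorPow M h) (bigMod n L a) ≅ bigMod n L b) :=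
    ⟨tIso (Iso.refl _) ea ≪≫ eab ≪≫ eb.symm⟩
  constructor
  · rintro ⟨M', hM', hM't, hM'N⟩
    exact s19924_mp Γ hΓ L hL f g H hreg hiso h N M hM hMN a b hab' M' hM' hM't hM'N
  · rintro ⟨c, e, hce⟩
    exact s19924_mpr Γ hΓ L hL f g H hreg h N M hM hMN a b hab' c e hce

end Fibre

end Groth.Agent.Lib.R2H4PicGen
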