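import Mathlib
import Groth.Prelude
import Groth.Agent.Lib.R2H4PicGenC
import Groth.Agent.Lib.R2H4PicGenD

/-!
# Lifting torsion classes whose degree vector is in the image of the intersection matrix (S3342)
(helper4, round 2)
-/

set_option autoImplicit false
set_option linter.style.haveILetI false
set_option linter.unusedSectionVars false
universe u
open CategoryTheory CategoryTheory.Limits AlgebraicGeometry TopologicalSpace Opposite IsLocalRing

noncomputable section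

namespace Groth.Agent.Lib.R2H4PicGen

open Groth.Agent.Lib.R2H4TensorPows Groth.Agent.Lib.R2H4ModProd Groth.Agent.Lib.R2H4ModSec
  Groth.Agent.Lib.Helper6 Groth.Agent.Lib.Helper23.GenLocus
  Groth.Agent.Lib.Helper23.SecTw Groth.Agent.Lib.R2H4ModTriv Groth.Agent.Lib.R2H4MultiTwist

section NT

/-- integer version of `nt_prop` -/
theorem nt_prop_int {n : ℕ} (m : Fin n → ℕ) (u : Fin n → ℤ) (hm : ∀ i, 0 < m i)
    (hcross : ∀ i j, u i * (m j : ℤ) = u j * (m i : ℤ)) :
    ∃ t : ℤ, ∀ i, ((Finset.univ.gcd m : ℕ) : ℤ) * u i = t * (m i : ℤ) := by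
  let T : ℕ := ∑ i, (u i).natAbs
  have hT : ∀ i, 0 ≤ u i + (T : ℤ) * (m i : ℤ) := by
    intro i
    have h1 : (u i).natAbs ≤ T :=
      Finset.single_le_sum (f := fun j => (u j).natAbs) (fun _ _ => Nat.zero_le _)
        (Finset.mem_univ i)
    have h2 : -u i ≤ ((u i).natAbs : ℤ) := by
      rw [← Int.natAbs_neg]
      exact Int.le_natAbs
    have h3 : ((u i).natAbs : ℤ) ≤ (T : ℤ) := by exact_mod_cast h1
    have h4 : (T : ℤ) ≤ (T : ℤ) * (m i : ℤ) := by
      have : T ≤ T * m i := Nat.le_mul_of_pos_right T (hm i)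
      exact_mod_cast this
    linarith
  let u' : Fin n → ℕ := fun i => (u i + (T : ℤ) * (m i : ℤ)).toNat
  have hu' : ∀ i, (u' i : ℤ) = u i + (T : ℤ) * (m i : ℤ) := fun i => Int.toNat_of_nonneg (hT i)
  have hcross' : ∀ i j, u' i * m j = u' j * m i := by
    intro i j
    have h1 : ((u' i * m j : ℕ) : ℤ) = ((u' j * m i : ℕ) : ℤ) := by
      push_cast
      rw [hu' i, hu' j]
      linear_combination hcross i j
    exact_mod_cast h1
  obtain ⟨t', ht'⟩ := nt_prop m u' hm hcross'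
  refine ⟨(t' : ℤ) - ((Finset.univ.gcd m : ℕ) : ℤ) * T, fun i => ?_⟩
  have h1 : ((Finset.univ.gcd m * u' i : ℕ) : ℤ) = ((t' * m i : ℕ) : ℤ) := by
    exact_mod_cast ht' i
  push_cast at h1
  rw [hu' i] at h1
  linear_combination h1

end NT

section Fibre

open Groth.Agent.Lib.R2H1.SpecialFibreProd Groth.Agent.Lib.R2H4ModMain
  Groth.Agent.Lib.R2H4ModComp Groth.Agent.Lib.R2H4ModDeg Groth.Agent.Lib.Helper23.PB

variable {R : Type u} [CommRing R] [IsDomain R] [IsDiscreteValuationRing R]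
  {X C : Scheme.{u}} {p : X ⟶ Spec (CommRingCat.of R)} {n : ℕ}
  (Γ : Fin n → ArSurf.VertComp R (Over.mk p))
  (hΓ : Models.IsComponentList R (Over.mk p) Γ)
  (L : Fin n → X.Modules)
  (hL : ∀ i, ClSub.IsInverseOf (L i) (ClSub.idealMod (Γ i).ι.ker))
  (f : C ⟶ Spec (CommRingCat.of (FractionRing R))) (g : C ⟶ X)
  (H : IsPullback g f p (Spec.map (CommRingCat.ofHom (algebraMap R (FractionRing R)))))
  [Flat p] [IsProper p]
  (hreg : ∀ x : X, IsRegularLocalRing (X.presheaf.stalk x))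

theorem inter_tensorPow (M : X.Modules) (hM : PicF.IsInvertible M) (h : ℕ) (j : Fin n) :
    ArSurf.inter R (Over.mk p) (CohB1.tensorPow M h) (Γ j) =
      (h : ℤ) * ArSurf.inter R (Over.mk p) M (Γ j) := by
  haveI := isProper_curve (Γ j)
  rw [inter_eq_deg, inter_eq_deg]
  let ιj : (Γ j).curve.left ⟶ X := (Γ j).ι
  obtain ⟨e₂⟩ := nonempty_pullback_tensorPow_iso ιj M hM h
  have h1 := deg_congr (ResidueField R) (Γ j).curve.left e₂
  have h2 := Groth.Agent.Lib.R2H1.CurveAmple.deg_tensorPow (ResidueField R) (Γ j).curve.left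
    (Γ j).dim_eq _ (isInvertible_pullback ιj M hM) h
  exact h1.trans h2

include hΓ hL hreg H in
/-- **S3342** -/
theorem s3342 [IsNoetherian X]
    (hconn : _root_.IsPreconnected (Models.specialFibreSet R (Over.mk p)))
    (h : ℕ) (hcop : Nat.Coprime h (Models.multGcd R (Over.mk p) Γ))
    (N : C.Modules) (hNt : Nonempty (CohB1.tensorPow N h ≅ Coh.structureModule C))
    (M : X.Modules) (hM : PicF.IsInvertible M)
    (hMN : Nonempty ((Scheme.Modules.pullback g).obj M ≅ N))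
    (v : Fin n → ℤ)
    (hv : ∀ i, ArSurf.inter R (Over.mk p) M (Γ i) =
      ∑ j, ArSurf.inter R (Over.mk p) (L j) (Γ i) * v j) :
    ∃ M' : X.Modules, PicF.IsInvertible M' ∧
      Nonempty (CohB1.tensorPow M' h ≅ Coh.structureModule X) ∧
      Nonempty ((Scheme.Modules.pullback g).obj M' ≅ N) := by
  let m : Fin n → ℕ := fun i => Models.mult R (Over.mk p) (Γ i)
  obtain ⟨eMN⟩ := hMN
  obtain ⟨eNt⟩ := hNt
  have hT : PicF.IsInvertible (CohB1.tensorPow M h) := isInvertible_tensorPow hM h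
  obtain ⟨e1⟩ := nonempty_pullback_tensorPow_iso g M hM h
  obtain ⟨a, ⟨ε⟩⟩ := exists_twist_trivial Γ hΓ L hL f g H hreg _ hT
    ⟨e1 ≪≫ powIso eMN h ≪≫ eNt⟩
  -- the vector `u = h v + a` is in the kernel of the intersection matrix
  let u : Fin n → ℤ := fun j => (h : ℤ) * v j + (a j : ℤ)
  have hrow : ∀ i, ∑ j, u j * ArSurf.inter R (Over.mk p) (L j) (Γ i) = 0 := by
    intro i
    have h1 := row_sum_of_twist_trivial Γ hΓ L hL f g H hreg _ hT a ε i
    rw [inter_tensorPow Γ M hM h i, hv i, Finset.mul_sum, ← Finset.sum_add_distrib] at h1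
    rw [← h1]
    refine Finset.sum_congr rfl (fun j _ => ?_)
    show ((h : ℤ) * v j + (a j : ℤ)) * _ = _
    ring
  have hq : (∑ q : Fin n × Fin n, u q.1 * u q.2 *
      ArSurf.inter R (Over.mk p) (L q.2) (Γ q.1)) = 0 := by
    rw [Fintype.sum_prod_type]
    refine Finset.sum_eq_zero (fun i _ => ?_)
    have h2 : ∀ j, u i * u j * ArSurf.inter R (Over.mk p) (L j) (Γ i) =
        u i * (u j * ArSurf.inter R (Over.mk p) (L j) (Γ i)) := fun j => mul_assoc _ _ _
    rw [Finset.sum_congr rfl (fun j _ => h2 j), ← Finset.mul_sum, hrow i, mul_zero]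
  obtain ⟨c, hc⟩ := ((s3320 Γ hΓ L hL hreg hconn u).2).1 hq
  have hcross : ∀ i j, u i * (m j : ℤ) = u j * (m i : ℤ) := by
    intro i j
    have hi : ((u i : ℤ) : ℚ) = c * (m i : ℚ) := hc i
    have hj : ((u j : ℤ) : ℚ) = c * (m j : ℚ) := hc j
    have h3 : ((u i * (m j : ℤ) : ℤ) : ℚ) = ((u j * (m i : ℤ) : ℤ) : ℚ) := by
      push_cast
      rw [hi, hj]
      ring
    exact_mod_cast h3
  obtain ⟨t, ht⟩ := nt_prop_int m u (fun i => mult_pos Γ hΓ hreg i) hcross
  -- Bezout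
  have hbez : (h : ℤ) * Nat.gcdA h (Models.multGcd R (Over.mk p) Γ) +
      (Models.multGcd R (Over.mk p) Γ : ℤ) * Nat.gcdB h (Models.multGcd R (Over.mk p) Γ) = 1 := by
    have := Nat.gcd_eq_gcd_ab h (Models.multGcd R (Over.mk p) Γ)
    rw [hcop.gcd_eq_one] at this
    exact_mod_cast this.symm
  have hab' : Nonempty (CohB1.tensorMod (CohB1.tensorPow M h) (bigMod n L a) ≅ bigMod n L 0) :=
    ⟨ε ≪≫ (bigZero n L).symm⟩
  refine s19924_mpr Γ hΓ L hL f g H hreg h N M hM ⟨eMN⟩ a 0 hab'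
    (fun j => v j - Nat.gcdA h (Models.multGcd R (Over.mk p) Γ) * u j)
    (-(Nat.gcdB h (Models.multGcd R (Over.mk p) Γ) * t)) (fun j => ?_)
  have h5 : (Models.multGcd R (Over.mk p) Γ : ℤ) * u j = t * (m j : ℤ) := ht j
  show ((0 : ℕ) : ℤ) - (a j : ℤ) = _
  have hu : u j = (h : ℤ) * v j + (a j : ℤ) := rfl
  push_cast
  linear_combination (u j) * hbez + hu - (Nat.gcdB h (Models.multGcd R (Over.mk p) Γ)) * h5

end Fibre

end Groth.Agent.Lib.R2H4PicGen
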