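import Mathlib
import Groth.Prelude
import Groth.Agent.Lib.R2H4PicGenE

/-!
# Degree vectors in the image of the intersection matrix (S3348)
(helper4, round 2)
-/

set_option autoImplicit false
set_option linter.style.haveILetI false
set_option linter.unusedSectionVars false
universe u
open CategoryTheory CategoryTheory.Limits AlgebraicGeometry TopologicalSpace Opposite IsLocalRing

noncomputable section

namespace Groth.Agent.Lib.R2H4PicGen

open Groth.Agent.Lib.R2H4TensorPows Groth.Agent.Lib.R2H4ModProd Groth.Agent.Lib.R2H4ModSec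
  Groth.Agent.Lib.Helper6 Groth.Agent.Lib.Helper23.GenLocus
  Groth.Agent.Lib.Helper23.SecTw Groth.Agent.Lib.R2H4ModTriv Groth.Agent.Lib.R2H4MultiTwist

section Fibre

open Groth.Agent.Lib.R2H1.SpecialFibreProd Groth.Agent.Lib.R2H4ModMain
  Groth.Agent.Lib.R2H4ModComp Groth.Agent.Lib.R2H4ModDeg Groth.Agent.Lib.Helper23.PB

variable {R : Type u} [CommRing R] [IsDomain R] [IsDiscreteValuationRing R]
  {X C : Scheme.{u}} {p : X ⟶ Spec (CommRingCat.of R)} {n : ℕ}
  (Γ : Fin n → ArSurf.VertComp R (Over.mk p))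
  (hΓ : Models.IsComponentList R (Over.mk p) Γ)
  (L : Fin n → X.Modules)
  (hL : ∀ i, ClSub.IsInverseOf (L i) (ClSub.idealMod (Γ i).ι.ker))
  (f : C ⟶ Spec (CommRingCat.of (FractionRing R))) (g : C ⟶ X)
  (H : IsPullback g f p (Spec.map (CommRingCat.ofHom (algebraMap R (FractionRing R)))))
  [Flat p] [IsProper p]
  (hreg : ∀ x : X, IsRegularLocalRing (X.presheaf.stalk x))

theorem inter_congr {M M' : X.Modules} (e : M ≅ M') (j : Fin n) :
    ArSurf.inter R (Over.mk p) M (Γ j) = ArSurf.inter R (Over.mk p) M' (Γ j) := by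
  haveI := isProper_curve (Γ j)
  rw [inter_eq_deg, inter_eq_deg]
  exact deg_congr (ResidueField R) (Γ j).curve.left
    ((Scheme.Modules.pullback (Γ j).ι).mapIso e)

include hL in
/-- degrees of a vertical twist -/
theorem inter_twist (M : X.Modules) (hM : PicF.IsInvertible M) (z : Fin n → ℕ) (j : Fin n) :
    ArSurf.inter R (Over.mk p) (CohB1.tensorMod M (bigMod n L z)) (Γ j) =
      ArSurf.inter R (Over.mk p) M (Γ j) +
        ∑ i, (z i : ℤ) * ArSurf.inter R (Over.mk p) (L i) (Γ j) := by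
  haveI := isProper_curve (Γ j)
  have hLinv : ∀ i, PicF.IsInvertible (L i) := by
    intro i
    obtain ⟨e⟩ := hL i
    exact isInvertible_of_iso _ (L i) e
  have h1 : ∀ N : X.Modules, ArSurf.inter R (Over.mk p) N (Γ j) =
      @Curv2.deg (ResidueField R) _ (Γ j).curve.left _
        ((Scheme.Modules.pullback (Γ j).ι).obj N) 1 := by
    intro N
    rw [inter_eq_deg]
  rw [h1 M, h1 (CohB1.tensorMod M (bigMod n L z)),
    Finset.sum_congr rfl (fun i _ => by rw [h1 (L i)])]
  let ιj : (Γ j).curve.left ⟶ X := (Γ j).ι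
  have hB := isInvertible_bigMod n L z hLinv
  have hA := deg_pullback_bigMod (ResidueField R) (Γ j).curve.left ιj (Γ j).dim_eq n L z hLinv
  obtain ⟨e₁⟩ := nonempty_pullback_tensorMod_iso ιj _ _ hM hB
  have hT := Groth.Agent.Lib.R2H1.CurveAmple.deg_tensorMod (ResidueField R) (Γ j).curve.left
    (Γ j).dim_eq _ _ (isInvertible_pullback ιj _ hM) (isInvertible_pullback ιj _ hB)
  have hE := deg_congr (ResidueField R) (Γ j).curve.left e₁
  rw [← hA, ← hT, ← hE]

include hΓ hL hreg H in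
/-- **S3348** -/
theorem s3348 [IsIntegral X]
    (N : C.Modules) (M : X.Modules) (hM : PicF.IsInvertible M)
    (hMN : Nonempty ((Scheme.Modules.pullback g).obj M ≅ N)) :
    (∃ v : Fin n → ℤ, ∀ i, ArSurf.inter R (Over.mk p) M (Γ i) =
        ∑ j, ArSurf.inter R (Over.mk p) (L j) (Γ i) * v j) ↔
      ∃ M' : X.Modules, PicF.IsInvertible M' ∧
        Nonempty ((Scheme.Modules.pullback g).obj M' ≅ N) ∧
        ∀ i, ArSurf.inter R (Over.mk p) M' (Γ i) = 0 := by
  let m : Fin n → ℕ := fun i => Models.mult R (Over.mk p) (Γ i)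
  have hm1 : ∀ i, 1 ≤ m i := fun i => mult_pos Γ hΓ hreg i
  have eL : ∀ i, CohB1.tensorMod (L i) (ClSub.idealMod (ik Γ i)) ≅ Coh.structureModule X :=
    fun i => (hL i).some
  have hLinv : ∀ i, PicF.IsInvertible (L i) := fun i => isInvertible_of_iso _ (L i) (eL i)
  obtain ⟨eMN⟩ := hMN
  constructor
  · rintro ⟨v, hv⟩
    let t : ℕ := ∑ i, (v i).natAbs
    have htv : ∀ i, v i ≤ (t : ℤ) * (m i : ℤ) := by
      intro i
      have h1 : (v i).natAbs ≤ t :=
        Finset.single_le_sum (f := fun j => (v j).natAbs) (fun _ _ => Nat.zero_le _)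
          (Finset.mem_univ i)
      have h2 : v i ≤ ((v i).natAbs : ℤ) := Int.le_natAbs
      have h3 : ((v i).natAbs : ℤ) ≤ (t : ℤ) := by exact_mod_cast h1
      have h4 : (t : ℤ) ≤ (t : ℤ) * (m i : ℤ) := by
        have : t ≤ t * m i := Nat.le_mul_of_pos_right t (hm1 i)
        exact_mod_cast this
      linarith
    let z : Fin n → ℕ := fun i => ((t : ℤ) * (m i : ℤ) - v i).toNat
    have hz : ∀ i, (z i : ℤ) = (t : ℤ) * (m i : ℤ) - v i := fun i =>
      Int.toNat_of_nonneg (by have := htv i; linarith)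
    refine ⟨CohB1.tensorMod M (bigMod n L z),
      isInvertible_tensorMod hM (isInvertible_bigMod n L z hLinv), ?_, ?_⟩
    · obtain ⟨ez⟩ := nonempty_pullback_bigMod_iso Γ hΓ L hL f g H z
      obtain ⟨e1⟩ := nonempty_pullback_tensorMod_iso g M (bigMod n L z) hM
        (isInvertible_bigMod n L z hLinv)
      exact ⟨e1 ≪≫ tIso eMN ez ≪≫ rUnit N⟩
    · intro i
      rw [inter_twist Γ L hL M hM z i, hv i]
      have h7 := s7921 Γ hΓ L hL hreg i
      have h8 : ∑ j, (z j : ℤ) * ArSurf.inter R (Over.mk p) (L j) (Γ i) =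
          (t : ℤ) * ∑ j, (m j : ℤ) * ArSurf.inter R (Over.mk p) (L j) (Γ i) -
            ∑ j, ArSurf.inter R (Over.mk p) (L j) (Γ i) * v j := by
        rw [Finset.mul_sum, ← Finset.sum_sub_distrib]
        refine Finset.sum_congr rfl (fun j _ => ?_)
        rw [hz j]
        ring
      rw [h8, h7, mul_zero]
      ring
  · rintro ⟨M', hM', ⟨eM'N⟩, hdeg⟩
    obtain ⟨Mv, hMv, ⟨ev⟩⟩ := Groth.Agent.Lib.R2H1.InvExists.exists_inverse M' hM'
    have hP : PicF.IsInvertible (CohB1.tensorMod M Mv) := isInvertible_tensorMod hM hMv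
    obtain ⟨e1⟩ := nonempty_pullback_tensorMod_iso g M Mv hM hMv
    obtain ⟨e2⟩ := nonempty_pullback_tensorMod_iso g M' Mv hM' hMv
    have eP : (Scheme.Modules.pullback g).obj (CohB1.tensorMod M Mv) ≅ Coh.structureModule C :=
      e1 ≪≫ tIso (eMN ≪≫ eM'N.symm) (Iso.refl _) ≪≫ e2.symm ≪≫
        (Scheme.Modules.pullback g).mapIso ev ≪≫ pullbackUnitIso g
    obtain ⟨x, ⟨εx⟩⟩ := exists_twist_trivial Γ hΓ L hL f g H hreg _ hP ⟨eP⟩
    have ψ : M' ≅ CohB1.tensorMod M (bigMod n L x) :=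
      (lUnit M').symm ≪≫ tIso εx.symm (Iso.refl M') ≪≫
        tIso (swapR M Mv (bigMod n L x)) (Iso.refl M') ≪≫
        tAssoc (CohB1.tensorMod M (bigMod n L x)) Mv M' ≪≫
        tIso (Iso.refl _) (tComm Mv M' ≪≫ ev) ≪≫ rUnit _
    refine ⟨fun j => -(x j : ℤ), fun i => ?_⟩
    have h1 := inter_congr Γ ψ i
    rw [hdeg i, inter_twist Γ L hL M hM x i] at h1
    have h2 : ∑ j, ArSurf.inter R (Over.mk p) (L j) (Γ i) * (-(x j : ℤ)) =
        -∑ j, (x j : ℤ) * ArSurf.inter R (Over.mk p) (L j) (Γ i) := by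
      rw [← Finset.sum_neg_distrib]
      refine Finset.sum_congr rfl (fun j _ => ?_)
      ring
    rw [h2]
    linarith

end Fibre

end Groth.Agent.Lib.R2H4PicGen
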