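import Mathlib
import Groth.Agent.Lib.R2H4ExtGlue
import Groth.Agent.Lib.R2H4SemiLocalFrame
import Groth.Agent.Lib.R2H4AffPts

/-!
# Surjectivity of `Pic X → Pic U` when `X ∖ U` is discrete with one-dimensional Noetherian local rings (helper4)

* `exists_frame_near` : every point of `X` has a neighbourhood `W`, meeting `X ∖ U` at most in that point, such that
  the invertible module `N` on `U` is trivial over `W ∩ U`.
* `exists_restrict_iso` : `N ≅ L|_U` for an invertible `L` on `X`.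
-/

set_option autoImplicit false
set_option linter.style.haveILetI false
universe u
open CategoryTheory Limits AlgebraicGeometry TopologicalSpace Opposite

namespace Groth.Agent.Lib.R2H4PicSurjDiscrete
open Groth.Agent.Lib.Helper23.SecTw Groth.Agent.Lib.Helper6 Groth.Agent.Lib.R2H4AffPts
  Groth.Agent.Lib.R2H4SemiLocalFrame Groth.Agent.Lib.R2H4ExtGlue

variable {X : Scheme.{u}}

theorem exists_frame_near (U : X.Opens) [QuasiCompact U.ι]
    (hdisc : DiscreteTopology ↥((U : Set X)ᶜ))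
    (hloc : ∀ x : X, x ∉ U → IsNoetherianRing (X.presheaf.stalk x) ∧
      ringKrullDim (X.presheaf.stalk x) ≤ 1)
    (N : (↑U : Scheme.{u}).Modules) (hN : PicF.IsInvertible N) (y : X) :
    ∃ (W : X.Opens) (e : Γ(N, U.ι ⁻¹ᵁ W)), y ∈ W ∧ IsGen N (U.ι ⁻¹ᵁ W) e ∧
      ∀ z ∈ W, z ∉ U → z = y := by
  by_cases hy : y ∈ U
  · obtain ⟨B, n, hyB, hn⟩ := exists_gen N hN ⟨y, hy⟩
    have hle : U.ι ⁻¹ᵁ (U.ι ''ᵁ B) ≤ B := (Scheme.Hom.preimage_image_eq U.ι B).le
    refine ⟨U.ι ''ᵁ B, res N hle n, ⟨⟨y, hy⟩, hyB, rfl⟩, hn.mono hle, fun z hz hzU => ?_⟩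
    exact absurd (image_le_self U B hz) hzU
  · obtain ⟨V, f, hVaff, hyV, hf, hV⟩ := exists_punctured_eq_basicOpen U hdisc y hy (hloc y hy).1
      (hloc y hy).2
    -- the affine open `D' = V ∩ U` of `U`
    have himg : U.ι ''ᵁ (U.ι ⁻¹ᵁ V) = X.basicOpen f := by
      rw [Scheme.Hom.image_preimage_eq_opensRange_inf, Scheme.Opens.opensRange_ι, hf, inf_comm]
    have hD' : IsAffineOpen (U.ι ⁻¹ᵁ V) := by
      rw [← Scheme.Hom.isAffineOpen_iff_of_isOpenImmersion U.ι, himg]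
      exact hVaff.basicOpen f
    -- the proper generizations of `y`
    have hfin : {z : X | z ⤳ y}.Finite := finite_generizations y (hloc y hy).1 (hloc y hy).2
    let Z' : Set (↑U : Scheme.{u}) := {w | w.1 ⤳ y ∧ w.1 ≠ y}
    have hZ'fin : Z'.Finite := by
      refine Set.Finite.of_finite_image (f := fun w : (↑U : Scheme.{u}) => (w.1 : X))
        (hfin.subset ?_) (Subtype.val_injective.injOn)
      rintro _ ⟨w, hw, rfl⟩
      exact hw.1
    have hZ'D : Z' ⊆ U.ι ⁻¹ᵁ V := fun w hw => hw.1.mem_open V.isOpen hyV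
    obtain ⟨G', e', hZG, hGD, hGaff, hgen⟩ := exists_frame_of_finite hN (U.ι ⁻¹ᵁ V) hD' Z' hZ'fin hZ'D
    have hGc : IsCompact ((U.ι ''ᵁ G' : X.Opens) : Set X) :=
      (hGaff.image_of_isOpenImmersion U.ι).isCompact
    have hGV : U.ι ''ᵁ G' ≤ V := by
      rintro _ ⟨w, hw, rfl⟩
      exact hGD hw
    obtain ⟨V', hV'V, hV'aff, hyV', hV'G⟩ := exists_nhd_inf_le hVaff U y hyV hy f hf (U.ι ''ᵁ G') hGc
      hGV (fun z hz hne => by
        have hzV : z ∈ V := hz.mem_open V.isOpen hyV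
        have hzU : z ∈ U := by
          by_contra h
          exact hne (hV z hzV h)
        exact ⟨⟨z, hzU⟩, hZG ⟨hz, hne⟩, rfl⟩)
    have hle : U.ι ⁻¹ᵁ V' ≤ G' := by
      intro w hw
      obtain ⟨w', hw', hww'⟩ := hV'G ⟨hw, w.2⟩
      have : w' = w := U.ι.isOpenEmbedding.injective hww'
      rwa [← this]
    exact ⟨V', res N hle e', hyV', hgen.mono hle, fun z hz hzU => hV z (hV'V hz) hzU⟩

/-- **Stacks-type lemma, part (2).** -/
theorem exists_restrict_iso (U : X.Opens) [QuasiCompact U.ι]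
    (hdisc : DiscreteTopology ↥((U : Set X)ᶜ))
    (hloc : ∀ x : X, x ∉ U → IsNoetherianRing (X.presheaf.stalk x) ∧
      ringKrullDim (X.presheaf.stalk x) ≤ 1)
    (N : (↑U : Scheme.{u}).Modules) (hN : PicF.IsInvertible N) :
    ∃ L : X.Modules, PicF.IsInvertible L ∧ Nonempty (L.restrict U.ι ≅ N) := by
  choose W e hyW he hW using exists_frame_near U hdisc hloc N hN
  refine exists_extension U N W (fun x => ⟨x, hyW x⟩) (fun y y' hyy' => ?_) e he
  rintro z ⟨hz, hz'⟩
  by_contra hzU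
  exact hyy' ((hW y z hz hzU).symm.trans (hW y' z hz' hzU))

end Groth.Agent.Lib.R2H4PicSurjDiscrete
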