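import Mathlib
import Groth.Prelude
import Groth.Agent.Lib.R2H3VAmpleConv
import Groth.Agent.Lib.R2H2QProjK0
import Groth.Agent.Lib.Helper23Restr2
import Groth.Agent.Lib.Helper23AmpleIso
import Groth.Agent.Lib.R2LeadKRR
import Groth.Agent.Lib.Helper23LocGen
import Groth.Agent.Lib.R2H2PnTwEquiv
import Groth.Agent.Lib.R2H2PnLinRes
import Groth.Agent.Lib.R2H2EWFlat
import Groth.Agent.Lib.R2H2PnFinite
import Groth.Agent.Lib.R2H2KoszulShift
import Groth.Agent.Lib.Helper27PnSections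
import Groth.Agent.Lib.R2H2PnSerre

set_option autoImplicit false
universe u
open CategoryTheory CategoryTheory.Limits AlgebraicGeometry TopologicalSpace

namespace Groth.Agent.Lib.R2H4PnAmple

variable (n : ℕ) (R : Type u) [CommRing R]

local notation "PX" => CohB1.ProjSpace n R
local notation "OO" => Twist.twistProjSpace n R

theorem isAmple_of_pos (d : ℤ) (hd : 0 < d) : CohB1.IsAmple (OO d) := by
  obtain ⟨m, rfl⟩ : ∃ m : ℕ, d = (m : ℤ) := ⟨d.toNat, (Int.toNat_of_nonneg hd.le).symm⟩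
  have hm : 0 < m := by exact_mod_cast hd
  obtain ⟨e⟩ := Groth.Agent.Lib.R2H2.QProjK0.nonempty_twist_iso_tensorPow n R m
  refine (Groth.Agent.Lib.Helper23.AmpleIso.isAmple_iff_of_iso e).2 ?_
  exact (Groth.Agent.Lib.Helper23.SecTw.isAmple_tensorPow_iff _
    (Groth.Agent.Lib.R2Lead.KRR.isInvertible_twistProjSpace n R 1) m hm).1
    (Groth.Agent.Lib.R2H3.VAmpleConv.isAmple_twistProjSpace_one n R)

theorem exists_tensorPow_iso (d : ℤ) (hd : d ≤ 0) (m : ℕ) :
    ∃ e : ℤ, e ≤ 0 ∧ Nonempty (CohB1.tensorPow (OO d) m ≅ OO e) := by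
  induction m with
  | zero =>
    obtain ⟨z⟩ := Groth.Agent.Lib.R2Lead.KRR.nonempty_twistProjSpace_zero_iso n R
    exact ⟨0, le_rfl, ⟨z.symm⟩⟩
  | succ m ih =>
    obtain ⟨e, he, ⟨φ⟩⟩ := ih
    obtain ⟨ψ⟩ := Groth.Agent.Lib.R2Lead.KRR.nonempty_twistProjSpace_tensor_iso n R e d
    refine ⟨e + d, by omega, ⟨?_⟩⟩
    exact Groth.Agent.Lib.Helper23.AmpleIso.tensorModIso φ (Iso.refl _) ≪≫ ψ

theorem isGloballyGenerated_of_iso {X : Scheme.{u}} {M N : X.Modules} (e : M ≅ N)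
    (h : Curv2.IsGloballyGenerated M) : Curv2.IsGloballyGenerated N := by
  obtain ⟨ι, p, hp⟩ := h
  exact ⟨ι, p ≫ e.hom, epi_comp _ _⟩

theorem isZero_of_globallyGenerated {X : Scheme.{u}} (M : X.Modules)
    (hgg : Curv2.IsGloballyGenerated M) (hsub : Subsingleton (Coh.HH X M 0)) : IsZero M := by
  have hid : 𝟙 M = 0 :=
    Groth.Agent.Lib.R2H2.PnLinRes.eq_zero_of_globallyGenerated hgg _ (fun σ => by
      have : σ = 0 := Groth.Agent.Lib.R2H2.EWFlat.cls_injective' σ 0 (Subsingleton.elim _ _)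
      rw [this, zero_comp])
  exact (IsZero.iff_id_eq_zero _).2 hid

theorem not_isZero_twist_zero [Nontrivial R] : ¬ IsZero (OO ((0 : ℕ) : ℤ)) := by
  intro hz0
  have hsub0 : Subsingleton (Coh.HH PX (OO ((0 : ℕ) : ℤ)) 0) :=
    Groth.Agent.Lib.R2H2.KoszulShift.subsingleton_HH_of_isZero hz0 0
  obtain ⟨le⟩ := Groth.Agent.Lib.Helper27PnSections.nonempty_linearEquiv n R 0
  have hmem : (1 : MvPolynomial (Fin (n + 1)) R) ∈
      MvPolynomial.homogeneousSubmodule (Fin (n + 1)) R 0 := by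
    rw [MvPolynomial.mem_homogeneousSubmodule]
    exact MvPolynomial.isHomogeneous_one _ _
  have h1 : (⟨1, hmem⟩ : ↥(MvPolynomial.homogeneousSubmodule (Fin (n + 1)) R 0)) = 0 :=
    le.symm.injective (Subsingleton.elim _ _)
  have h2 := congrArg Subtype.val h1
  exact one_ne_zero h2

theorem not_isZero_twist [Nontrivial R] (a : ℤ) : ¬ IsZero (OO a) := by
  intro hz
  have hz' : IsZero ((Groth.Agent.Lib.R2H2.PnSerre.twR (OO (-a))).obj (OO a)) := by
    rw [IsZero.iff_id_eq_zero, ← CategoryTheory.Functor.map_id, (IsZero.iff_id_eq_zero _).1 hz,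
      CategoryTheory.Functor.map_zero]
  rw [Groth.Agent.Lib.R2H2.PnSerre.twR_obj] at hz'
  obtain ⟨ψ'⟩ := Groth.Agent.Lib.R2Lead.KRR.nonempty_twistProjSpace_tensor_iso n R a (-a)
  have hz0 : IsZero (OO (a + -a)) := hz'.of_iso ψ'.symm
  have h0 : a + -a = ((0 : ℕ) : ℤ) := by simp
  rw [h0] at hz0
  exact not_isZero_twist_zero n R hz0

theorem not_isAmple_of_nonpos [Nontrivial R] (hn : 1 ≤ n) (d : ℤ) (hd : d ≤ 0) :
    ¬ CohB1.IsAmple (OO d) := by
  intro hL
  haveI : (OO (-1)).IsQuasicoherent := Groth.Agent.Lib.R2H2.PnFinite.isQCoh_twist n R (-1)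
  haveI : SheafOfModules.IsFiniteType (R := (PX).ringCatSheaf) (OO (-1)) :=
    Groth.Agent.Lib.R2H2.PnFinite.isFiniteType_of_isInvertible _
      (Groth.Agent.Lib.R2Lead.KRR.isInvertible_twistProjSpace n R (-1))
  obtain ⟨n₀, h⟩ := Groth.Agent.Lib.Helper23.LocGen.isGloballyGenerated_twist_eventually
    (OO d) hL (OO (-1))
  have hgg := h n₀ le_rfl
  obtain ⟨e, he, ⟨φ⟩⟩ := exists_tensorPow_iso n R d hd n₀
  obtain ⟨ψ⟩ := Groth.Agent.Lib.R2Lead.KRR.nonempty_twistProjSpace_tensor_iso n R (-1) e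
  have hgg' : Curv2.IsGloballyGenerated (OO (-1 + e)) :=
    isGloballyGenerated_of_iso
      (Groth.Agent.Lib.Helper23.AmpleIso.tensorModIso (Iso.refl _) φ ≪≫ ψ) hgg
  have hsub : Subsingleton (Coh.HH PX (OO (-1 + e)) 0) :=
    Groth.Agent.Lib.R2H2.PnTwEquiv.subsingleton_HH_twist n R (-1 + e) 0
      (fun h => by omega) (fun h => by omega)
  exact not_isZero_twist n R _ (isZero_of_globallyGenerated _ hgg' hsub)

end Groth.Agent.Lib.R2H4PnAmple
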