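import Mathlib
import Groth.Prelude
import Groth.Agent.Lib.R2H4PointPow
import Groth.Agent.Lib.R2H1IsoP1D
import Groth.Agent.Lib.R2H1VBEndo

/-!
# Lengths of infinitesimal neighbourhoods of regular points on surfaces (helper4, round 2)

* `finrank_quot_pow_le`: for a `k`-algebra `A` and an ideal `M = (x, y) + M²` with `k → A/M` onto,
  `2 · dim_k A/M^N ≤ N (N + 1)`.
* `exists_pair_of_regular`, `exists_pair_of_localization`: two generators of the maximal ideal of a regular
  local ring of dimension `≤ 2`, descended to an affine neighbourhood modulo `M²`.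
* `finrank_le_sum_of_cover`: abstract dimension bound for a ring covered by finitely many quotients.
* `ideal_pointIdeal`, `isMaximal_primeIdealOf`, `algU`, `finrank_quot_pointIdeal_pow_le`.
* `h0_quotMod_le`: over an algebraically closed field, for a finite set `Z` of closed points with regular
  local rings of dimension `≤ 2`, `2 · h⁰(O_X / ⋂_z m_z^N) ≤ #Z · N (N + 1)`.
-/

set_option autoImplicit false
set_option linter.style.haveILetI false
set_option linter.unusedSectionVars false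
universe u v w
open CategoryTheory CategoryTheory.Limits AlgebraicGeometry TopologicalSpace Opposite

namespace Groth.Agent.Lib.R2H4PointLen

section Algebra

/-- monomials of degree `N` in `x, y` -/
noncomputable def V (k : Type*) {A : Type*} [Field k] [CommRing A] [Algebra k A] (x y : A) (N : ℕ) :
    Submodule k A :=
  Submodule.span k (Set.range fun i : Fin (N + 1) => x ^ (i : ℕ) * y ^ (N - (i : ℕ)))

variable {k A : Type*} [Field k] [CommRing A] [Algebra k A]

theorem finrank_V_le (x y : A) (N : ℕ) : Module.finrank k (V k x y N) ≤ N + 1 := by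
  have := finrank_range_le_card (R := k) (fun i : Fin (N + 1) => x ^ (i : ℕ) * y ^ (N - (i : ℕ)))
  rw [Fintype.card_fin] at this
  exact this

instance (x y : A) (N : ℕ) : Module.Finite k (V k x y N) := by
  unfold V
  exact FiniteDimensional.span_of_finite k (Set.finite_range _)

theorem mono_mem_V (x y : A) (N i : ℕ) (hi' : i ≤ N) : x ^ i * y ^ (N - i) ∈ V k x y N :=
  Submodule.subset_span ⟨⟨i, by omega⟩, rfl⟩

theorem mono_mem_pow (M : Ideal A) (x y : A) (hx : x ∈ M) (hy : y ∈ M) (N i : ℕ) (hi' : i ≤ N) :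
    x ^ i * y ^ (N - i) ∈ M ^ N := by
  have h1 : x ^ i ∈ M ^ i := Ideal.pow_mem_pow hx i
  have h2 : y ^ (N - i) ∈ M ^ (N - i) := Ideal.pow_mem_pow hy _
  have := Ideal.mul_mem_mul h1 h2
  rwa [← pow_add, Nat.add_sub_cancel' hi'] at this

theorem key (M : Ideal A) (x y : A) (hx : x ∈ M) (hy : y ∈ M)
    (hM : M ≤ Ideal.span {x, y} ⊔ M ^ 2)
    (hk : ∀ a : A, ∃ c : k, a - algebraMap k A c ∈ M) (N : ℕ) :
    (M ^ N).restrictScalars k ≤ V k x y N ⊔ (M ^ (N + 1)).restrictScalars k := by
  induction N with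
  | zero =>
    intro a _
    obtain ⟨c, hc⟩ := hk a
    refine Submodule.mem_sup.2 ⟨algebraMap k A c, ?_, a - algebraMap k A c, ?_, by ring⟩
    · rw [Algebra.algebraMap_eq_smul_one]
      refine Submodule.smul_mem _ _ ?_
      have := mono_mem_V (k := k) x y 0 0 le_rfl
      simpa using this
    · simpa using hc
  | succ N ih =>
    -- elements of M^(N+1) = M * M^N
    intro a ha
    have ha' : a ∈ M * M ^ N := by
      rw [← pow_succ']; exact ha
    refine Submodule.mul_induction_on ha' ?_ ?_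
    · intro m hm p hp
      -- p = v + p'
      obtain ⟨v, hv, p', hp', rfl⟩ := Submodule.mem_sup.1 (ih hp)
      have hp'' : p' ∈ M ^ (N + 1) := hp'
      have h2 : m * p' ∈ M ^ (N + 1 + 1) := by
        rw [pow_succ' M (N + 1)]
        exact Ideal.mul_mem_mul hm hp''
      have h1 : m * v ∈ V k x y (N + 1) ⊔ (M ^ (N + 1 + 1)).restrictScalars k := by
        -- span induction on v
        refine Submodule.span_induction (p := fun v _ =>
          m * v ∈ V k x y (N + 1) ⊔ (M ^ (N + 1 + 1)).restrictScalars k) ?_ ?_ ?_ ?_ hv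
        · rintro _ ⟨i, rfl⟩
          obtain ⟨s, hs, m₂, hm₂, rfl⟩ := Submodule.mem_sup.1 (hM hm)
          obtain ⟨a₁, b₁, rfl⟩ := Ideal.mem_span_pair.1 hs
          obtain ⟨α, hα⟩ := hk a₁
          obtain ⟨β, hβ⟩ := hk b₁
          have hi1 : (i : ℕ) ≤ N := Nat.lt_succ_iff.1 i.2
          have hmono : x ^ (i : ℕ) * y ^ (N - (i : ℕ)) ∈ M ^ N :=
            mono_mem_pow M x y hx hy N i hi1
          have e : (a₁ * x + b₁ * y + m₂) * (x ^ (i : ℕ) * y ^ (N - (i : ℕ))) =
              (α • (x ^ ((i : ℕ) + 1) * y ^ (N + 1 - ((i : ℕ) + 1))) +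
                β • (x ^ (i : ℕ) * y ^ (N + 1 - (i : ℕ)))) +
              (((a₁ - algebraMap k A α) * x + (b₁ - algebraMap k A β) * y + m₂) *
                (x ^ (i : ℕ) * y ^ (N - (i : ℕ)))) := by
            have e1 : N + 1 - ((i : ℕ) + 1) = N - (i : ℕ) := by omega
            have e2 : N + 1 - (i : ℕ) = (N - (i : ℕ)) + 1 := by omega
            rw [e1, e2, Algebra.smul_def, Algebra.smul_def]
            ring
          rw [e]
          refine Submodule.mem_sup.2 ⟨_, ?_, _, ?_, rfl⟩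
          · refine Submodule.add_mem _ (Submodule.smul_mem _ _ ?_) (Submodule.smul_mem _ _ ?_)
            · exact mono_mem_V x y (N + 1) ((i : ℕ) + 1) (by omega)
            · exact mono_mem_V x y (N + 1) (i : ℕ) (by omega)
          · show _ ∈ M ^ (N + 1 + 1)
            have h3 : (a₁ - algebraMap k A α) * x + (b₁ - algebraMap k A β) * y + m₂ ∈ M ^ 2 := by
              refine Ideal.add_mem _ (Ideal.add_mem _ ?_ ?_) hm₂
              · rw [pow_two]; exact Ideal.mul_mem_mul hα hx
              · rw [pow_two]; exact Ideal.mul_mem_mul hβ hy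
            have := Ideal.mul_mem_mul h3 hmono
            rwa [← pow_add, show 2 + N = N + 1 + 1 by omega] at this
        · simp
        · intro u w _ _ hu hw
          rw [mul_add]
          exact Submodule.add_mem _ hu hw
        · intro c u _ hu
          rw [mul_smul_comm]
          exact Submodule.smul_mem _ c hu
      rw [mul_add]
      exact Submodule.add_mem _ h1 (Submodule.mem_sup_right h2)
    · intro u w hu hw
      exact Submodule.add_mem _ hu hw

/-- the main dimension bound -/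
theorem finrank_quot_pow_le (M : Ideal A) (x y : A) (hx : x ∈ M) (hy : y ∈ M)
    (hM : M ≤ Ideal.span {x, y} ⊔ M ^ 2)
    (hk : ∀ a : A, ∃ c : k, a - algebraMap k A c ∈ M) (N : ℕ) :
    Module.Finite k (A ⧸ M ^ N) ∧ 2 * Module.finrank k (A ⧸ M ^ N) ≤ N * (N + 1) := by
  -- a finite-dimensional complement
  have hW : ∀ N : ℕ, ∃ W : Submodule k A, Module.Finite k W ∧ 2 * Module.finrank k W ≤ N * (N + 1) ∧
      (⊤ : Submodule k A) ≤ W ⊔ (M ^ N).restrictScalars k := by
    intro N
    induction N with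
    | zero =>
      refine ⟨⊥, inferInstance, by simp, ?_⟩
      intro a _
      refine Submodule.mem_sup_right ?_
      show a ∈ M ^ 0
      simp
    | succ N ih =>
      obtain ⟨W, hfin, hrk, htop⟩ := ih
      refine ⟨W ⊔ V k x y N, inferInstance, ?_, ?_⟩
      · have h1 := Submodule.finrank_add_le_finrank_add_finrank W (V k x y N)
        have h2 := finrank_V_le (k := k) x y N
        nlinarith
      · refine htop.trans ?_
        rw [sup_assoc]
        exact sup_le_sup_left (key M x y hx hy hM hk N) W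
  obtain ⟨W, hfin, hrk, htop⟩ := hW N
  let φ : W →ₗ[k] (A ⧸ M ^ N) :=
    ((Ideal.Quotient.mkₐ k (M ^ N)).toLinearMap).comp W.subtype
  have hsurj : Function.Surjective φ := by
    intro q
    obtain ⟨a, rfl⟩ := Ideal.Quotient.mk_surjective q
    obtain ⟨w, hw, p, hp, rfl⟩ := Submodule.mem_sup.1 (htop (Submodule.mem_top : a ∈ ⊤))
    refine ⟨⟨w, hw⟩, ?_⟩
    show Ideal.Quotient.mk (M ^ N) w = Ideal.Quotient.mk (M ^ N) (w + p)
    rw [map_add, Ideal.Quotient.eq_zero_iff_mem.2 hp, add_zero]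
  have hfinQ : Module.Finite k (A ⧸ M ^ N) := Module.Finite.of_surjective φ hsurj
  refine ⟨hfinQ, ?_⟩
  have := LinearMap.finrank_le_finrank_of_surjective hsurj
  omega

/-- two generators of the maximal ideal of a regular local ring of dimension at most two -/
theorem exists_pair_of_regular (S : Type*) [CommRing S] [IsRegularLocalRing S]
    (hS : ringKrullDim S ≤ 2) :
    ∃ ξ η : S, IsLocalRing.maximalIdeal S = Ideal.span {ξ, η} := by
  classical
  have hfg : (IsLocalRing.maximalIdeal S).FG := IsNoetherian.noetherian _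
  obtain ⟨s, hcard, hspan⟩ := Submodule.FG.exists_span_finset_card_eq_spanFinrank hfg
  have h2 : s.card ≤ 2 := by
    have h := IsRegularLocalRing.spanFinrank_maximalIdeal (R := S)
    rw [← hcard] at h
    have : ((s.card : ℕ) : WithBot ℕ∞) ≤ 2 := by
      rw [h]; exact hS
    exact_mod_cast this
  interval_cases h : s.card
  · rw [Finset.card_eq_zero] at h
    subst h
    refine ⟨0, 0, ?_⟩
    rw [← hspan]
    simp
  · obtain ⟨a, rfl⟩ := Finset.card_eq_one.1 h
    refine ⟨a, a, ?_⟩
    rw [← hspan]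
    simp
  · obtain ⟨a, b, _, rfl⟩ := Finset.card_eq_two.1 h
    refine ⟨a, b, ?_⟩
    rw [← hspan]
    simp

/-- descending two generators of the maximal ideal of the localisation -/
theorem exists_pair_of_localization {A : Type*} [CommRing A] (M : Ideal A) [M.IsMaximal]
    (S : Type*) [CommRing S] [Algebra A S] [IsLocalization.AtPrime S M] [IsLocalRing S]
    (ξ η : S) (hS : IsLocalRing.maximalIdeal S = Ideal.span {ξ, η}) :
    ∃ x y : A, x ∈ M ∧ y ∈ M ∧ M ≤ Ideal.span {x, y} ⊔ M ^ 2 := by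
  obtain ⟨⟨x, s⟩, hxs⟩ := IsLocalization.surj M.primeCompl ξ
  obtain ⟨⟨y, t⟩, hyt⟩ := IsLocalization.surj M.primeCompl η
  simp only at hxs hyt
  have hcomap : (IsLocalRing.maximalIdeal S).comap (algebraMap A S) = M :=
    IsLocalization.AtPrime.comap_maximalIdeal S M
  have hξ : ξ ∈ IsLocalRing.maximalIdeal S := by
    rw [hS]; exact Ideal.subset_span (by simp)
  have hη : η ∈ IsLocalRing.maximalIdeal S := by
    rw [hS]; exact Ideal.subset_span (by simp)
  have hxM : x ∈ M := by
    rw [← hcomap, Ideal.mem_comap, ← hxs]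
    exact Ideal.mul_mem_right _ _ hξ
  have hyM : y ∈ M := by
    rw [← hcomap, Ideal.mem_comap, ← hyt]
    exact Ideal.mul_mem_right _ _ hη
  refine ⟨x, y, hxM, hyM, ?_⟩
  intro a ha
  -- a/1 ∈ span {ξ, η}
  have h1 : algebraMap A S a ∈ Ideal.span {ξ, η} := by
    rw [← hS, ← Ideal.mem_comap, hcomap]; exact ha
  have hsu : IsUnit (algebraMap A S s) := IsLocalization.map_units S s
  have htu : IsUnit (algebraMap A S t) := IsLocalization.map_units S t
  -- a/1 ∈ map of span {x, y}
  have h2 : algebraMap A S a ∈ (Ideal.span {x, y}).map (algebraMap A S) := by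
    rw [Ideal.map_span]
    obtain ⟨c, d, hcd⟩ := Ideal.mem_span_pair.1 h1
    rw [← hcd]
    have e1 : ξ = ↑hsu.unit⁻¹ * algebraMap A S x := by
      rw [← hxs, mul_comm ξ, ← mul_assoc, IsUnit.val_inv_mul, one_mul]
    have e2 : η = ↑htu.unit⁻¹ * algebraMap A S y := by
      rw [← hyt, mul_comm η, ← mul_assoc, IsUnit.val_inv_mul, one_mul]
    refine Ideal.add_mem _ ?_ ?_
    · rw [e1, ← mul_assoc]
      exact Ideal.mul_mem_left _ _ (Ideal.subset_span ⟨x, by simp, rfl⟩)
    · rw [e2, ← mul_assoc]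
      exact Ideal.mul_mem_left _ _ (Ideal.subset_span ⟨y, by simp, rfl⟩)
  obtain ⟨⟨⟨b, hb⟩, w⟩, hw⟩ := (IsLocalization.mem_map_algebraMap_iff M.primeCompl S).1 h2
  -- hw : a/1 * w/1 = b/1
  simp only at hw
  rw [← map_mul] at hw
  obtain ⟨c, hc⟩ := (IsLocalization.eq_iff_exists M.primeCompl S).1 hw
  -- c * (a * w) = c * b
  have hcw : (c : A) * (w : A) ∉ M := fun h =>
    (Ideal.IsPrime.mem_or_mem inferInstance h).elim c.2 w.2
  -- invert c * w modulo M
  obtain ⟨v, hv⟩ : ∃ v : A, (c : A) * (w : A) * v - 1 ∈ M := by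
    have := Ideal.IsMaximal.exists_inv (inferInstance : M.IsMaximal) hcw
    obtain ⟨v, m, hm, e⟩ := this
    refine ⟨v, ?_⟩
    have : (c : A) * (w : A) * v - 1 = -m := by
      rw [← e]; ring
    rw [this]
    exact M.neg_mem hm
  have e : a = v * ((c : A) * b) - ((c : A) * (w : A) * v - 1) * a := by
    have : (c : A) * b = (c : A) * (a * (w : A)) := hc.symm
    rw [this]; ring
  rw [e]
  refine Submodule.sub_mem _ (Submodule.mem_sup_left ?_) (Submodule.mem_sup_right ?_)
  · exact Ideal.mul_mem_left _ _ (Ideal.mul_mem_left _ _ hb)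
  · rw [pow_two]
    exact Ideal.mul_mem_mul hv ha

theorem finrank_le_sum_of_cover {k : Type u} {R : Type v} [Field k] [CommRing R] [Algebra k R]
    {ι : Type w} [Fintype ι] (B : ι → Type v) [∀ i, CommRing (B i)] (ρ : ∀ i, R →+* B i)
    (hρ : ∀ r : R, (∀ i, ρ i r = 0) → r = 0)
    (A : ι → Type v) [∀ i, CommRing (A i)] [∀ i, Algebra k (A i)]
    (π : ∀ i, A i →+* B i) (hπ : ∀ i, Function.Surjective (π i))
    (hcomp : ∀ i (c : k), π i (algebraMap k (A i) c) = ρ i (algebraMap k R c))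
    (J : ∀ i, Ideal (A i)) (hJ : ∀ i, J i ≤ RingHom.ker (π i))
    (b : ι → ℕ) (hfin : ∀ i, Module.Finite k (A i ⧸ J i))
    (hb : ∀ i, Module.finrank k (A i ⧸ J i) ≤ b i) :
    Module.Finite k R ∧ Module.finrank k R ≤ ∑ i, b i := by
  letI algB : ∀ i, Algebra k (B i) := fun i => ((ρ i).comp (algebraMap k R)).toAlgebra
  have halg : ∀ i (c : k), algebraMap k (B i) c = ρ i (algebraMap k R c) := fun i c => rfl
  let ρL : ∀ i, R →ₗ[k] B i := fun i =>
    { toFun := ρ i
      map_add' := map_add _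
      map_smul' := fun c r => by
        simp only [RingHom.id_apply]
        rw [Algebra.smul_def, Algebra.smul_def, map_mul, halg] }
  let Φ : R →ₗ[k] (∀ i, B i) := LinearMap.pi ρL
  have hΦ : Function.Injective Φ := by
    rw [← LinearMap.ker_eq_bot, LinearMap.ker_eq_bot']
    intro r hr
    refine hρ r fun i => ?_
    exact congrFun hr i
  let πL : ∀ i, (A i ⧸ J i) →ₗ[k] B i := fun i =>
    { toFun := Ideal.Quotient.lift (J i) (π i) (fun a ha => hJ i ha)
      map_add' := map_add _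
      map_smul' := fun c q => by
        simp only [RingHom.id_apply]
        obtain ⟨a, rfl⟩ := Ideal.Quotient.mk_surjective q
        rw [Algebra.smul_def, Algebra.smul_def, map_mul, halg, ← hcomp]
        rfl }
  have hπL : ∀ i, Function.Surjective (πL i) := by
    intro i z
    obtain ⟨a, rfl⟩ := hπ i z
    exact ⟨Ideal.Quotient.mk (J i) a, rfl⟩
  haveI finB : ∀ i, Module.Finite k (B i) := fun i =>
    haveI := hfin i
    Module.Finite.of_surjective (πL i) (hπL i)
  have hBb : ∀ i, Module.finrank k (B i) ≤ b i := fun i =>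
    haveI := hfin i
    (LinearMap.finrank_le_finrank_of_surjective (hπL i)).trans (hb i)
  haveI : Module.Finite k (∀ i, B i) := inferInstance
  refine ⟨Module.Finite.of_injective Φ hΦ, ?_⟩
  refine (LinearMap.finrank_le_finrank_of_injective hΦ).trans ?_
  rw [Module.finrank_pi_fintype]
  exact Finset.sum_le_sum fun i _ => hBb i

end Algebra

section A
variable {X : Scheme.{u}}

theorem ideal_pointIdeal (U : X.Opens) (hU : IsAffineOpen U) (z : X) (hz : IsClosed ({z} : Set X))
    (hzU : z ∈ U) :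
    (W4c2seshadripos.pointIdeal z hz).ideal ⟨U, hU⟩ = (hU.primeIdealOf ⟨z, hzU⟩).asIdeal := by
  unfold W4c2seshadripos.pointIdeal
  rw [Scheme.IdealSheafData.vanishingIdeal_ideal]
  have : (hU.fromSpec ⁻¹' ((⟨{z}, hz⟩ : Closeds X) : Set X)) = {hU.primeIdealOf ⟨z, hzU⟩} := by
    ext q
    simp only [Set.mem_preimage, Closeds.coe_mk, Set.mem_singleton_iff]
    constructor
    · intro h
      exact hU.fromSpec.isOpenEmbedding.injective
        (h.trans (hU.fromSpec_primeIdealOf ⟨z, hzU⟩).symm)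
    · rintro rfl
      exact hU.fromSpec_primeIdealOf ⟨z, hzU⟩
  exact (congrArg PrimeSpectrum.vanishingIdeal this).trans
    (PrimeSpectrum.vanishingIdeal_singleton _)

theorem isMaximal_primeIdealOf (U : X.Opens) (hU : IsAffineOpen U) (z : X)
    (hz : IsClosed ({z} : Set X)) (hzU : z ∈ U) :
    (hU.primeIdealOf ⟨z, hzU⟩).asIdeal.IsMaximal := by
  rw [← PrimeSpectrum.isClosed_singleton_iff_isMaximal]
  have : ({hU.primeIdealOf ⟨z, hzU⟩} : Set (PrimeSpectrum Γ(X, U))) = hU.fromSpec ⁻¹' {z} := by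
    ext q
    simp only [Set.mem_singleton_iff]
    constructor
    · rintro rfl
      exact hU.fromSpec_primeIdealOf ⟨z, hzU⟩
    · intro h
      exact hU.fromSpec.isOpenEmbedding.injective
        (h.trans (hU.fromSpec_primeIdealOf ⟨z, hzU⟩).symm)
  rw [this]
  exact hz.preimage hU.fromSpec.continuous

end A

section B

variable (k : Type u) [Field k] (X : Scheme.{u}) [X.Over (Spec (CommRingCat.of k))]

/-- `k`-algebra structure on sections over an open -/
noncomputable abbrev algU (U : X.Opens) : Algebra k Γ(X, U) :=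
  ((X.presheaf.map (homOfLE (le_top : U ≤ ⊤)).op).hom.comp
    (Coh.toGlobal (X ↘ Spec (CommRingCat.of k)))).toAlgebra

theorem finrank_quot_pointIdeal_pow_le [IsAlgClosed k]
    [LocallyOfFiniteType (X ↘ Spec (CommRingCat.of k))]
    (U : X.Opens) (hU : IsAffineOpen U) (z : X) (hz : IsClosed ({z} : Set X)) (hzU : z ∈ U)
    [IsRegularLocalRing (X.presheaf.stalk z)] (hd : ringKrullDim (X.presheaf.stalk z) ≤ 2) (N : ℕ) :
    letI := algU k X U
    Module.Finite k (Γ(X, U) ⧸ ((W4c2seshadripos.pointIdeal z hz).ideal ⟨U, hU⟩) ^ N) ∧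
      2 * Module.finrank k (Γ(X, U) ⧸ ((W4c2seshadripos.pointIdeal z hz).ideal ⟨U, hU⟩) ^ N) ≤
        N * (N + 1) := by
  letI := algU k X U
  rw [ideal_pointIdeal U hU z hz hzU]
  haveI hmax := isMaximal_primeIdealOf U hU z hz hzU
  letI : Algebra Γ(X, U) (X.presheaf.stalk z) :=
    TopCat.Presheaf.algebra_section_stalk X.presheaf ⟨z, hzU⟩
  haveI : IsLocalization.AtPrime (X.presheaf.stalk z) (hU.primeIdealOf ⟨z, hzU⟩).asIdeal :=
    hU.isLocalization_stalk ⟨z, hzU⟩
  obtain ⟨ξ, η, hS⟩ := exists_pair_of_regular (X.presheaf.stalk z) hd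
  obtain ⟨x, y, hx, hy, hM⟩ := exists_pair_of_localization
    (hU.primeIdealOf ⟨z, hzU⟩).asIdeal (X.presheaf.stalk z) ξ η hS
  refine finrank_quot_pow_le _ x y hx hy hM ?_ N
  intro a
  obtain ⟨c, hc⟩ := (Groth.Agent.Lib.R2H1.VBEndo.resMap_bijective k
    (X ↘ Spec (CommRingCat.of k)) z hz).2 (X.residue z (X.presheaf.germ U z hzU a))
  refine ⟨c, ?_⟩
  rw [← IsLocalization.AtPrime.comap_maximalIdeal (X.presheaf.stalk z)
    (hU.primeIdealOf ⟨z, hzU⟩).asIdeal, Ideal.mem_comap, map_sub]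
  rw [Groth.Agent.Lib.R2H1.VBEndo.resMap_apply] at hc
  have e1 : algebraMap Γ(X, U) (X.presheaf.stalk z) (algebraMap k Γ(X, U) c) =
      X.presheaf.germ ⊤ z trivial (Coh.toGlobal (X ↘ Spec (CommRingCat.of k)) c) :=
    TopCat.Presheaf.germ_res_apply X.presheaf (homOfLE (le_top : U ≤ ⊤)) z hzU _
  have e2 : algebraMap Γ(X, U) (X.presheaf.stalk z) a = X.presheaf.germ U z hzU a := rfl
  rw [e1, e2]
  rw [← IsLocalRing.residue_eq_zero_iff, map_sub, sub_eq_zero]
  exact hc.symm

end B

section Main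

variable (k : Type u) [Field k] (X : Scheme.{u}) [X.Over (Spec (CommRingCat.of k))]

theorem isClosed_finset (Z : Finset X) (hZ : ∀ z ∈ Z, IsClosed ({z} : Set X)) :
    IsClosed ((↑Z : Set X)) := by
  have : (↑Z : Set X) = ⋃ w ∈ Z, {w} := by ext; simp
  rw [this]
  exact Set.Finite.isClosed_biUnion Z.finite_toSet (fun w hw => hZ w hw)

/-- a set of finitely many closed points has dimension at most zero -/
theorem topologicalKrullDim_le_zero_of_subset_finset (Z : Finset X)
    (hZ : ∀ z ∈ Z, IsClosed ({z} : Set X)) (S : Set X) (hS : S ⊆ (↑Z : Set X)) :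
    topologicalKrullDim ↥S ≤ 0 := by
  haveI : Finite ↥S := (Z.finite_toSet.subset hS).to_subtype
  haveI : T1Space ↥S := ⟨fun s => by
    have : ({s} : Set ↥S) = Subtype.val ⁻¹' {s.1} := by
      ext t
      simp only [Set.mem_singleton_iff, Set.mem_preimage]
      exact ⟨fun h => congrArg Subtype.val h, fun h => Subtype.ext h⟩
    rw [this]
    exact (hZ s.1 (Finset.mem_coe.1 (hS s.2))).preimage continuous_subtype_val⟩
  exact topologicalKrullDim_zero_of_discreteTopology _

/-- the intersection of powers of the ideals of finitely many closed points is supported on them -/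
theorem support_iInf_subset (Z : Finset X) (hZ : ∀ z ∈ Z, IsClosed ({z} : Set X)) (N : ℕ) :
    ((⨅ z : ↥Z, (W4c2seshadripos.pointIdeal (z : X) (hZ z z.2)) ^ N).support : Set X) ⊆
      (↑Z : Set X) := by
  intro x hx
  by_contra hxZ
  have hcl : IsClosed ((↑Z : Set X)) := isClosed_finset X Z hZ
  obtain ⟨W, hW, hxW, hWle⟩ := Opens.isBasis_iff_nbhd.1 X.isBasis_affineOpens
    (show x ∈ (⟨_, hcl.isOpen_compl⟩ : X.Opens) from hxZ)
  have hIW : (⨅ z : ↥Z, (W4c2seshadripos.pointIdeal (z : X) (hZ z z.2)) ^ N).ideal ⟨W, hW⟩ = ⊤ := by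
    rw [Scheme.IdealSheafData.ideal_iInf, iInf_apply]
    refine iInf_eq_top.2 fun z => ?_
    refine Groth.Agent.Lib.R2H4PointPow.ideal_eq_top_of_disjoint
      ((W4c2seshadripos.pointIdeal (z : X) (hZ z z.2)) ^ N) ⟨W, hW⟩ ?_
    rw [Set.disjoint_iff]
    intro w hw
    have := Groth.Agent.Lib.R2H4PointPow.support_pointIdeal_pow_subset (z : X) (hZ z z.2) N hw.1
    rw [Set.mem_singleton_iff] at this
    rw [this] at hw
    exact hWle hw.2 (Finset.mem_coe.2 z.2)
  have h1 := (Scheme.IdealSheafData.mem_support_iff_of_mem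
    (I := ⨅ z : ↥Z, (W4c2seshadripos.pointIdeal (z : X) (hZ z z.2)) ^ N) (U := ⟨W, hW⟩) hxW).1 hx
  rw [hIW, Scheme.mem_zeroLocus_iff] at h1
  refine h1 1 (by trivial) ?_
  rw [Scheme.basicOpen_of_isUnit _ isUnit_one]
  exact hxW

theorem h0_quotMod_le [IsAlgClosed k] [IsProper (X ↘ Spec (CommRingCat.of k))]
    (Z : Finset X) (hZ : ∀ z ∈ Z, IsClosed ({z} : Set X))
    (hreg : ∀ z ∈ Z, IsRegularLocalRing (X.presheaf.stalk z))
    (hd : ∀ z ∈ Z, ringKrullDim (X.presheaf.stalk z) ≤ 2) (N : ℕ) :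
    2 * Module.finrank k (Coh.HH X (ClSub.quotMod
      (⨅ z : ↥Z, (W4c2seshadripos.pointIdeal (z : X) (hZ z z.2)) ^ N)) 0) ≤
        Z.card * (N * (N + 1)) := by
  classical
  obtain ⟨I, hI⟩ : ∃ I : X.IdealSheafData,
      I = ⨅ z : ↥Z, (W4c2seshadripos.pointIdeal (z : X) (hZ z z.2)) ^ N := ⟨_, rfl⟩
  rw [← hI]
  have h0 := Groth.Agent.Lib.R2H1.IsoP1D.h0_quotMod_ker k X I.subschemeι
  rw [I.ker_subschemeι] at h0
  rw [h0]
  letI := Groth.Agent.Lib.H9SteinConn.algΓ k (I.subschemeι ≫ (X ↘ Spec (CommRingCat.of k)))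
  -- affine neighbourhoods isolating the points
  have hch : ∀ z : ↥Z, ∃ U : X.Opens, IsAffineOpen U ∧ (z : X) ∈ U ∧
      ∀ z' ∈ Z, z' ∈ U → z' = (z : X) := by
    intro z
    have hcl : IsClosed ((↑(Z.erase (z : X)) : Set X)) :=
      isClosed_finset X _ (fun w hw => hZ w (Finset.mem_of_mem_erase hw))
    obtain ⟨U, hU, hzU, hle⟩ := Opens.isBasis_iff_nbhd.1 X.isBasis_affineOpens
      (show (z : X) ∈ (⟨_, hcl.isOpen_compl⟩ : X.Opens) from
        fun h => (Finset.mem_erase.1 (Finset.mem_coe.1 h)).1 rfl)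
    refine ⟨U, hU, hzU, fun z' hz' hz'U => ?_⟩
    by_contra hne
    exact hle hz'U (Finset.mem_coe.2 (Finset.mem_erase.2 ⟨hne, hz'⟩))
  choose U hUaff hzU hUZ using hch
  -- the ideals over these opens
  have hidealI : ∀ W : X.affineOpens, I.ideal W =
      ⨅ z : ↥Z, ((W4c2seshadripos.pointIdeal (z : X) (hZ z z.2)).ideal W) ^ N := by
    intro W
    rw [hI, Scheme.IdealSheafData.ideal_iInf, iInf_apply]
    rfl
  have htop : ∀ (W : X.affineOpens) (z : ↥Z), (z : X) ∉ W.1 →
      ((W4c2seshadripos.pointIdeal (z : X) (hZ z z.2)).ideal W) ^ N = ⊤ := by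
    intro W z hzW
    have := Groth.Agent.Lib.R2H4PointPow.ideal_eq_top_of_disjoint
      ((W4c2seshadripos.pointIdeal (z : X) (hZ z z.2)) ^ N) W (by
        rw [Set.disjoint_iff]
        intro w hw
        have := Groth.Agent.Lib.R2H4PointPow.support_pointIdeal_pow_subset (z : X) (hZ z z.2) N hw.1
        rw [Set.mem_singleton_iff] at this
        rw [this] at hw
        exact hzW hw.2)
    exact this
  have hle : ∀ z : ↥Z, ((W4c2seshadripos.pointIdeal (z : X) (hZ z z.2)).ideal ⟨U z, hUaff z⟩) ^ N ≤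
      I.ideal ⟨U z, hUaff z⟩ := by
    intro z
    rw [hidealI]
    refine le_iInf fun z' => ?_
    by_cases h : z' = z
    · subst h; exact le_rfl
    · rw [htop ⟨U z, hUaff z⟩ z' (fun hz' => h (Subtype.ext (hUZ z z'.1 z'.2 hz')))]
      exact le_top
  -- the cover
  have hcover : ∀ y : I.subscheme, ∃ z : ↥Z, I.subschemeι y ∈ U z := by
    intro y
    have hy : I.subschemeι y ∈ (I.support : Set X) := by
      rw [← I.range_subschemeι]; exact ⟨y, rfl⟩
    by_cases hyZ : I.subschemeι y ∈ Z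
    · exact ⟨⟨_, hyZ⟩, hzU ⟨_, hyZ⟩⟩
    · exfalso
      have hcl : IsClosed ((↑Z : Set X)) := isClosed_finset X Z hZ
      obtain ⟨W, hW, hyW, hWle⟩ := Opens.isBasis_iff_nbhd.1 X.isBasis_affineOpens
        (show I.subschemeι y ∈ (⟨_, hcl.isOpen_compl⟩ : X.Opens) from
          fun h => hyZ (Finset.mem_coe.1 h))
      have hIW : I.ideal ⟨W, hW⟩ = ⊤ := by
        rw [hidealI]
        refine iInf_eq_top.2 fun z => htop ⟨W, hW⟩ z (fun hz => hWle hz (Finset.mem_coe.2 z.2))
      have h1 := (Scheme.IdealSheafData.mem_support_iff_of_mem (I := I) (U := ⟨W, hW⟩) hyW).1 hy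
      rw [hIW, Scheme.mem_zeroLocus_iff] at h1
      refine h1 1 (by trivial) ?_
      rw [Scheme.basicOpen_of_isUnit _ isUnit_one]
      exact hyW
  letI algA : ∀ z : ↥Z, Algebra k Γ(X, U z) := fun z => algU k X (U z)
  have key := finrank_le_sum_of_cover (k := k) (R := Γ(I.subscheme, ⊤)) (ι := ↥Z)
    (B := fun z => Γ(I.subscheme, I.subschemeι ⁻¹ᵁ U z))
    (ρ := fun z => (I.subscheme.presheaf.map (homOfLE le_top).op).hom)
    (by
      intro r hr
      refine I.subscheme.sheaf.eq_of_locally_eq' (fun z : ↥Z => I.subschemeι ⁻¹ᵁ U z) ⊤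
        (fun z => homOfLE le_top) ?_ r 0 ?_
      · intro y _
        obtain ⟨z, hz⟩ := hcover y
        exact Opens.mem_iSup.2 ⟨z, hz⟩
      · intro z
        rw [map_zero]
        exact hr z)
    (A := fun z => Γ(X, U z))
    (π := fun z => (I.subschemeι.app (U z)).hom)
    (fun z => I.subschemeι_app_surjective ⟨U z, hUaff z⟩)
    (by
      intro z c
      have e1 : algebraMap k Γ(X, U z) c = X.presheaf.map (homOfLE (le_top : U z ≤ ⊤)).op
          ((X ↘ Spec (CommRingCat.of k)).appTop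
            ((Scheme.ΓSpecIso (CommRingCat.of k)).inv c)) := rfl
      have e2 : algebraMap k Γ(I.subscheme, ⊤) c =
          (I.subschemeι ≫ (X ↘ Spec (CommRingCat.of k))).appTop
            ((Scheme.ΓSpecIso (CommRingCat.of k)).inv c) := rfl
      rw [e1, e2, Scheme.Hom.comp_appTop]
      have nat := I.subschemeι.naturality (homOfLE (le_top : U z ≤ ⊤)).op
      exact congr($(nat).hom _))
    (J := fun z => ((W4c2seshadripos.pointIdeal (z : X) (hZ z z.2)).ideal ⟨U z, hUaff z⟩) ^ N)
    (by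
      intro z
      rw [I.ker_subschemeι_app ⟨U z, hUaff z⟩]
      exact hle z)
    (b := fun z => Module.finrank k (Γ(X, U z) ⧸
      ((W4c2seshadripos.pointIdeal (z : X) (hZ z z.2)).ideal ⟨U z, hUaff z⟩) ^ N))
    (fun z => by
      haveI := hreg z z.2
      exact (finrank_quot_pointIdeal_pow_le k X (U z) (hUaff z) z (hZ z z.2) (hzU z)
        (hd z z.2) N).1)
    (fun z => le_rfl)
  have hsum : ∀ z : ↥Z, 2 * Module.finrank k (Γ(X, U z) ⧸
      ((W4c2seshadripos.pointIdeal (z : X) (hZ z z.2)).ideal ⟨U z, hUaff z⟩) ^ N) ≤ N * (N + 1) :=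
    fun z => by
      haveI := hreg z z.2
      exact (finrank_quot_pointIdeal_pow_le k X (U z) (hUaff z) z (hZ z z.2) (hzU z)
        (hd z z.2) N).2
  calc 2 * Module.finrank k Γ(I.subscheme, ⊤)
      ≤ 2 * ∑ z : ↥Z, Module.finrank k (Γ(X, U z) ⧸
        ((W4c2seshadripos.pointIdeal (z : X) (hZ z z.2)).ideal ⟨U z, hUaff z⟩) ^ N) :=
        Nat.mul_le_mul_left 2 key.2
    _ = ∑ z : ↥Z, 2 * Module.finrank k (Γ(X, U z) ⧸
        ((W4c2seshadripos.pointIdeal (z : X) (hZ z z.2)).ideal ⟨U z, hUaff z⟩) ^ N) :=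
        Finset.mul_sum _ _ _
    _ ≤ ∑ _z : ↥Z, N * (N + 1) := Finset.sum_le_sum fun z _ => hsum z
    _ = Z.card * (N * (N + 1)) := by
        rw [Finset.sum_const, Finset.card_univ, Fintype.card_coe, smul_eq_mul]

end Main

end Groth.Agent.Lib.R2H4PointLen
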