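import Mathlib
import Groth.Prelude
import Groth.Agent.Lib.Helper6RegSm2
import Groth.Agent.Lib.Helper4FibDimL
import Groth.Agent.Lib.Helper8CurveEt
import Groth.Agent.Lib.R2LeadSmoothPSB

/-!
# Smoothness at a point with separable residue field is regularity of the local ring (helper4)

For `X` locally of finite presentation over a field `k` and `x ∈ X` with `κ(x)` separable (algebraic)
over `k`: `x` lies in the smooth locus iff `O_{X,x}` is a regular local ring.  Consequences for normal
curves (S13844, S1556).
-/

set_option autoImplicit false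
set_option linter.style.haveILetI false
set_option linter.unusedSectionVars false
universe u
open CategoryTheory CategoryTheory.Limits AlgebraicGeometry TopologicalSpace Opposite

noncomputable section

namespace Groth.Agent.Lib.R2H4SmSep

open Groth.Agent.Lib.Helper6.RegSm

attribute [local instance] Curv2.resAlgebra

variable (k : Type u) [Field k] (X : Scheme.{u}) [X.Over (Spec (CommRingCat.of k))]

/-- **regular ⇔ smooth** at a point whose residue field is separable over the base field -/
theorem mem_smoothLocus_iff_isRegularLocalRing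
    [LocallyOfFinitePresentation (X ↘ Spec (CommRingCat.of k))] (x : X)
    [hsep : Algebra.IsSeparable k (X.residueField x)] :
    x ∈ (X ↘ Spec (CommRingCat.of k)).smoothLocus ↔ IsRegularLocalRing (X.presheaf.stalk x) := by
  set f := X ↘ Spec (CommRingCat.of k) with hf
  obtain ⟨V, hV, hxV, -⟩ := exists_isAffineOpen_mem_and_subset (X := X) (x := x)
    (U := ⊤) trivial
  have hU := isAffineOpen_top (Spec (CommRingCat.of k))
  have hVU : V ≤ f ⁻¹ᵁ ⊤ := le_top
  have hfp := f.finitePresentation_appLE hU hV hVU
  rw [Scheme.Hom.mem_smoothLocus, formallySmooth_stalkMap_iff ⊤ hU V hV hVU hxV]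
  let e : k ≃+* Γ(Spec (CommRingCat.of k), ⊤) :=
    (Scheme.ΓSpecIso (CommRingCat.of k)).commRingCatIsoToRingEquiv.symm
  letI : Field Γ(Spec (CommRingCat.of k), ⊤) :=
    (e.symm.toMulEquiv.isField (Field.toIsField k)).toField
  algebraize [(f.appLE ⊤ V hVU).hom]
  set q := (hV.primeIdealOf ⟨x, hxV⟩).asIdeal with hq
  letI := X.presheaf.algebra_section_stalk ⟨x, hxV⟩
  haveI := hV.isLocalization_stalk ⟨x, hxV⟩
  let e' := IsLocalization.algEquiv q.primeCompl (Localization.AtPrime q) (X.presheaf.stalk x)
  -- the residue field at `q` is separable over `Γ(Spec k, ⊤)`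
  let ψ : q.ResidueField ≃+* X.residueField x :=
    IsLocalRing.ResidueField.mapEquiv e'.toRingEquiv
  haveI : Algebra.IsSeparable Γ(Spec (CommRingCat.of k), ⊤) q.ResidueField := by
    refine Algebra.IsSeparable.of_equiv_equiv (A₁ := k) (B₁ := X.residueField x) e ψ.symm ?_
    ext c
    simp only [RingHom.coe_comp, RingHom.coe_coe, Function.comp_apply]
    rw [RingEquiv.eq_symm_apply]
    rw [IsScalarTower.algebraMap_apply Γ(Spec (CommRingCat.of k), ⊤) (Localization.AtPrime q)
      q.ResidueField, IsScalarTower.algebraMap_apply Γ(Spec (CommRingCat.of k), ⊤) Γ(X, V)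
      (Localization.AtPrime q)]
    have h1 : ψ (algebraMap (Localization.AtPrime q) q.ResidueField
        (algebraMap Γ(X, V) (Localization.AtPrime q)
          (algebraMap Γ(Spec (CommRingCat.of k), ⊤) Γ(X, V) (e c)))) =
        IsLocalRing.residue (X.presheaf.stalk x) (e' (algebraMap Γ(X, V) (Localization.AtPrime q)
          (algebraMap Γ(Spec (CommRingCat.of k), ⊤) Γ(X, V) (e c)))) := rfl
    rw [h1, AlgEquiv.commutes]
    have h2 : algebraMap Γ(X, V) (X.presheaf.stalk x)
        (algebraMap Γ(Spec (CommRingCat.of k), ⊤) Γ(X, V) (e c)) =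
        (X.presheaf.germ ⊤ x trivial).hom (Coh.toGlobal f c) := by
      change (X.presheaf.germ V x hxV).hom ((f.appLE ⊤ V hVU).hom (e c)) = _
      have h3 : (f.appLE ⊤ V hVU).hom (e c) =
          (X.presheaf.map (homOfLE hVU).op).hom ((f.app ⊤).hom (e c)) := rfl
      rw [h3]
      exact TopCat.Presheaf.germ_res_apply X.presheaf (homOfLE hVU) x hxV _
    rw [h2]
    rfl
  haveI : Algebra.FormallyEtale Γ(Spec (CommRingCat.of k), ⊤) q.ResidueField :=
    Algebra.FormallyEtale.of_isSeparable _ _
  haveI : Algebra.FormallySmooth Γ(Spec (CommRingCat.of k), ⊤) q.ResidueField := inferInstance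
  have key := isSmoothAt_iff_isRegularLocalRing Γ(Spec (CommRingCat.of k), ⊤) Γ(X, V) q
  change Algebra.IsSmoothAt _ q ↔ _
  rw [key]
  exact ⟨fun h => IsRegularLocalRing.of_ringEquiv e'.toRingEquiv,
    fun h => IsRegularLocalRing.of_ringEquiv e'.toRingEquiv.symm⟩


/-- a Noetherian integrally closed local domain of dimension at most one is regular -/
theorem isRegularLocalRing_of_normal_dim_le_one (A : Type u) [CommRing A] [IsLocalRing A] [IsDomain A]
    [IsNoetherianRing A] [IsIntegrallyClosed A] (h : ringKrullDim A ≤ 1) : IsRegularLocalRing A := by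
  haveI : Ring.KrullDimLE 1 A := Ring.krullDimLE_iff.mpr h
  haveI : Ring.DimensionLEOne A :=
    ⟨fun {p} hp hpp => (Ring.krullDimLE_one_iff_of_noZeroDivisors.mp inferInstance) p hp hpp⟩
  haveI : IsDedekindDomain A :=
    (isDedekindDomain_iff A (FractionRing A)).mpr ⟨inferInstance, inferInstance, inferInstance,
      fun {x} hx => (isIntegrallyClosed_iff (FractionRing A)).mp inferInstance hx⟩
  exact IsRegularLocalRing.of_isRegularRing_of_isLocalRing A

variable [IsIntegral X] [LocallyOfFinitePresentation (X ↘ Spec (CommRingCat.of k))]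

/-- **S13844**: a normal curve smooth off closed points with separable residue fields is smooth -/
theorem s13844 (hN : ∀ x : X, IsIntegrallyClosed (X.presheaf.stalk x))
    (hdim : topologicalKrullDim X = 1) (S : Set X)
    (hS : ∀ x ∈ S, IsClosed ({x} : Set X) ∧ Algebra.IsSeparable k (X.residueField x))
    (hsm : ∀ x : X, x ∉ S → x ∈ (X ↘ (Spec (CommRingCat.of k))).smoothLocus) :
    AlgebraicGeometry.Smooth (X ↘ (Spec (CommRingCat.of k))) := by
  haveI : IsLocallyNoetherian X :=
    LocallyOfFiniteType.isLocallyNoetherian (X ↘ (Spec (CommRingCat.of k)))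
  rw [← Scheme.Hom.smoothLocus_eq_top_iff, eq_top_iff]
  intro x _
  by_cases hx : x ∈ S
  · haveI := (hS x hx).2
    rw [mem_smoothLocus_iff_isRegularLocalRing]
    haveI := hN x
    refine isRegularLocalRing_of_normal_dim_le_one _ ?_
    rw [← hdim]
    exact Groth.Agent.Lib.Helper4.FibDim.ringKrullDim_stalk_le_topologicalKrullDim X x
  · exact hsm x hx

/-- **S1556**: at a closed point with separable residue field of an integral curve, DVR ⇔ smooth -/
theorem s1556 (hdim : topologicalKrullDim X = 1) (x : X) (hx : IsClosed ({x} : Set X))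
    [Algebra.IsSeparable k (X.residueField x)] :
    IsDiscreteValuationRing (X.presheaf.stalk x) ↔
      x ∈ (X ↘ (Spec (CommRingCat.of k))).smoothLocus := by
  rw [mem_smoothLocus_iff_isRegularLocalRing]
  constructor
  · intro h
    infer_instance
  · intro h
    exact Groth.Agent.Lib.R2LeadSmoothPSB.isDVR_of_regular_dim_one _
      (Groth.Agent.Lib.Helper8CurveEt.ringKrullDim_stalk_eq_one hdim x hx)

end Groth.Agent.Lib.R2H4SmSep
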