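import Mathlib
import Groth.Agent.Lib.Helper18Cart1
import Groth.Agent.Lib.R2H4SmSep
import Groth.Agent.Lib.R2LeadSmoothPSB
import Groth.Agent.Lib.Helper3EquiDim
import Groth.Agent.Lib.Helper4VarDim5
import Groth.Agent.Lib.R2H1VBEndo
import Groth.Agent.Lib.Helper19ComplDVR

/-!
# The ideal sheaf of a closed point of a curve is invertible iff the curve is smooth there (S15923)

* `exists_away_principal`: if the localization of a Noetherian ring `A` at a prime `q` has a principal
  maximal ideal generated by a nonzerodivisor, then `q` becomes principal, generated by a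
  nonzerodivisor, on some basic open `D(f)`, `f ∉ q`.
* `main`: S15923.
-/

set_option autoImplicit false
set_option linter.style.haveILetI false
universe u
open CategoryTheory CategoryTheory.Limits AlgebraicGeometry TopologicalSpace Opposite

noncomputable section

namespace Groth.Agent.Lib.R2H4PointSmooth

section Alg

theorem exists_away_principal {A : Type u} [CommRing A] [IsNoetherianRing A] (q : Ideal A)
    [q.IsPrime] (S : Type u) [CommRing S] [Algebra A S] [IsLocalization.AtPrime S q]
    [IsLocalRing S] (ϖ : S) (hϖ : IsLocalRing.maximalIdeal S = Ideal.span {ϖ})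
    (hnzd : ϖ ∈ nonZeroDivisors S) :
    ∃ (f : A) (a : A), f ∉ q ∧ ∀ (B : Type u) [CommRing B] [Algebra A B]
      [IsLocalization.Away f B],
      q.map (algebraMap A B) = Ideal.span {algebraMap A B a} ∧
        algebraMap A B a ∈ nonZeroDivisors B := by
  classical
  -- Step 1: replace `ϖ` by `algebraMap a`
  obtain ⟨a, s, hs⟩ := IsLocalization.exists_mk'_eq q.primeCompl ϖ
  have hsu : IsUnit (algebraMap A S s) := IsLocalization.map_units S s
  have ha_eq : algebraMap A S a = ϖ * algebraMap A S s := by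
    rw [← hs, IsLocalization.mk'_spec]
  have hmax : IsLocalRing.maximalIdeal S = Ideal.span {algebraMap A S a} := by
    rw [hϖ, ha_eq]
    exact (Ideal.span_singleton_mul_right_unit hsu ϖ).symm
  have hnzd' : algebraMap A S a ∈ nonZeroDivisors S := by
    rw [ha_eq]
    exact mul_mem hnzd (IsUnit.mem_nonZeroDivisors hsu)
  have haq : a ∈ q := by
    rw [← IsLocalization.AtPrime.to_map_mem_maximal_iff S q a, hmax]
    exact Ideal.mem_span_singleton_self _
  -- Step 2: each element of `q` is, up to an element outside `q`, a multiple of `a`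
  have h2 : ∀ g ∈ q, ∃ v : A, v ∉ q ∧ v * g ∈ Ideal.span {a} := by
    intro g hg
    have hgm : algebraMap A S g ∈ Ideal.span {algebraMap A S a} := by
      rw [← hmax, IsLocalization.AtPrime.to_map_mem_maximal_iff S q g]
      exact hg
    obtain ⟨c, hc⟩ := Ideal.mem_span_singleton'.mp hgm
    obtain ⟨b, t, ht⟩ := IsLocalization.exists_mk'_eq q.primeCompl c
    have h3 : algebraMap A S (g * t) = algebraMap A S (b * a) := by
      calc algebraMap A S (g * t) = algebraMap A S g * algebraMap A S t := map_mul _ _ _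
        _ = (c * algebraMap A S a) * algebraMap A S t := by rw [hc]
        _ = (IsLocalization.mk' S b t * algebraMap A S t) * algebraMap A S a := by
            rw [← ht]; ring
        _ = algebraMap A S b * algebraMap A S a := by rw [IsLocalization.mk'_spec]
        _ = algebraMap A S (b * a) := (map_mul _ _ _).symm
    obtain ⟨u, hu⟩ := (IsLocalization.eq_iff_exists q.primeCompl S).mp h3
    refine ⟨u * t, ?_, ?_⟩
    · exact (u * t).2
    · rw [Ideal.mem_span_singleton']
      refine ⟨u * b, ?_⟩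
      have : (u : A) * (g * t) = u * (b * a) := hu
      calc (u : A) * b * a = u * (b * a) := by ring
        _ = u * (g * t) := this.symm
        _ = u * t * g := by ring
  obtain ⟨G, hG⟩ := (isNoetherianRing_iff_ideal_fg A).mp inferInstance q
  choose! v hv using h2
  set f₁ : A := ∏ g ∈ G, v g with hf₁
  have hGq : ∀ g ∈ G, g ∈ q := fun g hg => hG ▸ Ideal.subset_span hg
  have hf₁q : f₁ ∉ q := by
    intro h
    obtain ⟨g, hg, hgq⟩ := (Ideal.IsPrime.prod_mem_iff).mp h
    exact (hv g (hGq g hg)).1 hgq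
  have hf₁ : ∀ x ∈ q, f₁ * x ∈ Ideal.span {a} := by
    intro x hx
    rw [← hG] at hx
    refine Submodule.span_induction ?_ ?_ ?_ ?_ hx
    · intro g hg
      obtain ⟨w, hw⟩ := Finset.dvd_prod_of_mem v hg
      rw [hf₁, hw, mul_comm (v g) w, mul_assoc]
      exact Ideal.mul_mem_left _ _ (hv g (hGq g hg)).2
    · simp
    · intro x y _ _ hx hy
      rw [mul_add]; exact Ideal.add_mem _ hx hy
    · intro c x _ hx
      rw [smul_eq_mul, mul_left_comm]; exact Ideal.mul_mem_left _ _ hx
  -- Step 3: the annihilator of `a`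
  let K : Ideal A := LinearMap.ker (LinearMap.mulRight A a)
  have hK : ∀ x, x ∈ K ↔ x * a = 0 := fun x => by
    simp [K, LinearMap.mem_ker]
  have h4 : ∀ x ∈ K, ∃ u : A, u ∉ q ∧ u * x = 0 := by
    intro x hx
    have h5 : algebraMap A S x * algebraMap A S a = 0 := by
      rw [← map_mul, (hK x).mp hx, map_zero]
    have h6 : algebraMap A S x = 0 := (mem_nonZeroDivisors_iff_right.mp hnzd') _ h5
    obtain ⟨u, hu⟩ := (IsLocalization.map_eq_zero_iff q.primeCompl S x).mp h6
    exact ⟨u, u.2, hu⟩
  obtain ⟨H, hH⟩ := (isNoetherianRing_iff_ideal_fg A).mp inferInstance K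
  choose! w hw using h4
  set f₂ : A := ∏ x ∈ H, w x with hf₂
  have hHK : ∀ x ∈ H, x ∈ K := fun x hx => hH ▸ Ideal.subset_span hx
  have hf₂q : f₂ ∉ q := by
    intro h
    obtain ⟨x, hx, hxq⟩ := (Ideal.IsPrime.prod_mem_iff).mp h
    exact (hw x (hHK x hx)).1 hxq
  have hf₂ : ∀ x ∈ K, f₂ * x = 0 := by
    intro x hx
    rw [← hH] at hx
    refine Submodule.span_induction ?_ ?_ ?_ ?_ hx
    · intro g hg
      obtain ⟨z, hz⟩ := Finset.dvd_prod_of_mem w hg
      rw [hf₂, hz, mul_comm (w g) z, mul_assoc, (hw g (hHK g hg)).2, mul_zero]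
    · simp
    · intro x y _ _ hx hy
      rw [mul_add, hx, hy, add_zero]
    · intro c x _ hx
      rw [smul_eq_mul, mul_left_comm, hx, mul_zero]
  refine ⟨f₁ * f₂, a, ?_, ?_⟩
  · intro h
    rcases Ideal.IsPrime.mem_or_mem inferInstance h with h | h
    · exact hf₁q h
    · exact hf₂q h
  intro B _ _ _
  have hfu : IsUnit (algebraMap A B (f₁ * f₂)) := IsLocalization.Away.algebraMap_isUnit _
  rw [map_mul] at hfu
  have hf₁u : IsUnit (algebraMap A B f₁) := isUnit_of_mul_isUnit_left hfu
  have hf₂u : IsUnit (algebraMap A B f₂) := isUnit_of_mul_isUnit_right hfu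
  constructor
  · apply le_antisymm
    · rw [Ideal.map_le_iff_le_comap]
      intro x hx
      rw [Ideal.mem_comap]
      have h7 : algebraMap A B (f₁ * x) ∈ Ideal.span {algebraMap A B a} := by
        obtain ⟨c, hc⟩ := Ideal.mem_span_singleton'.mp (hf₁ x hx)
        rw [← hc, map_mul]
        exact Ideal.mul_mem_left _ _ (Ideal.mem_span_singleton_self _)
      rw [map_mul] at h7
      exact (Ideal.unit_mul_mem_iff_mem _ hf₁u).mp h7
    · rw [Ideal.span_singleton_le_iff_mem]
      exact Ideal.mem_map_of_mem _ haq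
  · rw [mem_nonZeroDivisors_iff_right]
    intro b hb
    obtain ⟨y, t, ht⟩ := IsLocalization.exists_mk'_eq (Submonoid.powers (f₁ * f₂)) b
    have h8 : IsLocalization.mk' B (y * a) t = 0 := by
      rw [mul_comm y a, ← IsLocalization.mul_mk'_eq_mk'_of_mul, ht, mul_comm]
      exact hb
    obtain ⟨m, hm⟩ := (IsLocalization.mk'_eq_zero_iff (y * a) t).mp h8
    have h9 : (m : A) * y ∈ K := by
      rw [hK]; rw [mul_assoc]; exact hm
    have h10 := hf₂ _ h9
    have h11 : algebraMap A B f₂ * (algebraMap A B m * algebraMap A B y) = 0 := by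
      rw [← map_mul, ← map_mul, h10, map_zero]
    have hmu : IsUnit (algebraMap A B m) := IsLocalization.map_units B m
    have h12 : algebraMap A B y = 0 := by
      have := (hf₂u.mul_right_eq_zero).mp h11
      exact (hmu.mul_right_eq_zero).mp this
    rw [← ht, IsLocalization.mk'_eq_mul_mk'_one (S := B) y, h12, zero_mul]

end Alg

section Geo

attribute [local instance] Curv2.resAlgebra

variable (k : Type u) [Field k] [IsAlgClosed k] (X : Scheme.{u}) [X.Over (Spec (CommRingCat.of k))]
  [LocallyOfFiniteType (X ↘ Spec (CommRingCat.of k))]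

theorem algebraMap_residueField_bijective (P : X) (hP : IsClosed ({P} : Set X)) :
    Function.Bijective (algebraMap k (X.residueField P)) :=
  Groth.Agent.Lib.R2H1.VBEndo.resMap_bijective k (X ↘ Spec (CommRingCat.of k)) P hP

theorem isSeparable_residueField (P : X) (hP : IsClosed ({P} : Set X)) :
    Algebra.IsSeparable k (X.residueField P) :=
  ⟨fun x => by
    obtain ⟨c, rfl⟩ := (algebraMap_residueField_bijective k X P hP).2 x
    exact isSeparable_algebraMap c⟩

include k in
theorem ringKrullDim_stalk_eq_one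
    (hequi : ∀ Z ∈ irreducibleComponents (X : Type u), topologicalKrullDim Z = 1)
    (P : X) (hP : IsClosed ({P} : Set X)) : ringKrullDim (X.presheaf.stalk P) = 1 := by
  have h1 := (Groth.Agent.Lib.Helper3.EquiDim.forall_dim_irreducibleComponents_eq_iff k X 1).mp
    (by simpa using hequi) P
  have h0 : Algebra.trdeg k (X.residueField P) = 0 := by
    haveI := isSeparable_residueField k X P hP
    haveI : Algebra.IsAlgebraic k (X.residueField P) := inferInstance
    exact trdeg_eq_zero
  rw [Groth.Agent.Lib.Helper4.VarDim.localDim_eq_of_trdeg_eq_zero k X P h0] at h1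
  simpa using h1

omit [IsAlgClosed k] [X.Over (Spec (CommRingCat.of k))]
  [LocallyOfFiniteType (X ↘ Spec (CommRingCat.of k))] in
theorem vanishingIdeal_point_ideal_of_mem (P : X) (hP : IsClosed ({P} : Set X))
    (U : X.affineOpens) (hPU : P ∈ U.1) :
    (Scheme.IdealSheafData.vanishingIdeal ⟨{P}, hP⟩).ideal U =
      (U.2.primeIdealOf ⟨P, hPU⟩).asIdeal := by
  rw [Scheme.IdealSheafData.vanishingIdeal_ideal]
  have : (U.2.fromSpec ⁻¹' ((⟨{P}, hP⟩ : Closeds X) : Set X)) =
      {U.2.primeIdealOf ⟨P, hPU⟩} := by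
    ext y
    simp only [Set.mem_preimage]
    constructor
    · intro h
      exact U.2.fromSpec.isOpenEmbedding.injective
        (h.trans (U.2.fromSpec_primeIdealOf ⟨P, hPU⟩).symm)
    · rintro rfl
      exact U.2.fromSpec_primeIdealOf ⟨P, hPU⟩
  exact (congrArg PrimeSpectrum.vanishingIdeal this).trans (PrimeSpectrum.vanishingIdeal_singleton _)

omit [IsAlgClosed k] [X.Over (Spec (CommRingCat.of k))]
  [LocallyOfFiniteType (X ↘ Spec (CommRingCat.of k))] in
theorem vanishingIdeal_point_ideal_of_not_mem (P : X) (hP : IsClosed ({P} : Set X))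
    (U : X.affineOpens) (hPU : P ∉ U.1) :
    (Scheme.IdealSheafData.vanishingIdeal ⟨{P}, hP⟩).ideal U = ⊤ := by
  rw [Scheme.IdealSheafData.vanishingIdeal_ideal]
  have : (U.2.fromSpec ⁻¹' ((⟨{P}, hP⟩ : Closeds X) : Set X)) = ∅ := by
    ext y
    simp only [Set.mem_preimage, Set.mem_empty_iff_false, iff_false]
    intro h
    apply hPU
    have h2 : U.2.fromSpec y ∈ (U.1 : Set X) := by
      rw [← U.2.range_fromSpec]
      exact ⟨y, rfl⟩
    have h3 : U.2.fromSpec y = P := h
    rw [← h3]
    exact h2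
  exact (congrArg PrimeSpectrum.vanishingIdeal this).trans PrimeSpectrum.vanishingIdeal_empty

include k in
theorem isRegular_of_isEffCartier
    (hequi : ∀ Z ∈ irreducibleComponents (X : Type u), topologicalKrullDim Z = 1)
    (P : X) (hP : IsClosed ({P} : Set X))
    (h : BlowUp.IsEffCartierIdeal (Scheme.IdealSheafData.vanishingIdeal ⟨{P}, hP⟩)) :
    IsRegularLocalRing (X.presheaf.stalk P) := by
  obtain ⟨U, hPU, t, -, ht⟩ := h P
  rw [vanishingIdeal_point_ideal_of_mem X P hP U hPU] at ht
  letI := X.presheaf.algebra_section_stalk ⟨P, hPU⟩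
  haveI := U.2.isLocalization_stalk ⟨P, hPU⟩
  haveI : IsLocallyNoetherian X :=
    LocallyOfFiniteType.isLocallyNoetherian (X ↘ Spec (CommRingCat.of k))
  apply IsRegularLocalRing.of_spanFinrank_maximalIdeal_le
  rw [ringKrullDim_stalk_eq_one k X hequi P hP]
  have hm : IsLocalRing.maximalIdeal (X.presheaf.stalk P) =
      Ideal.span {algebraMap Γ(X, U.1) (X.presheaf.stalk P) t} := by
    rw [← IsLocalization.AtPrime.map_eq_maximalIdeal (U.2.primeIdealOf ⟨P, hPU⟩).asIdeal
      (X.presheaf.stalk P), ht, Ideal.map_span, Set.image_singleton]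
  rw [hm]
  have := Submodule.spanFinrank_span_le_ncard_of_finite
    (R := X.presheaf.stalk P) (Set.finite_singleton (algebraMap Γ(X, U.1) (X.presheaf.stalk P) t))
  rw [Set.ncard_singleton] at this
  exact_mod_cast this

include k in
theorem isEffCartier_of_isRegular
    (hequi : ∀ Z ∈ irreducibleComponents (X : Type u), topologicalKrullDim Z = 1)
    (P : X) (hP : IsClosed ({P} : Set X))
    (h : IsRegularLocalRing (X.presheaf.stalk P)) :
    BlowUp.IsEffCartierIdeal (Scheme.IdealSheafData.vanishingIdeal ⟨{P}, hP⟩) := by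
  haveI : IsLocallyNoetherian X :=
    LocallyOfFiniteType.isLocallyNoetherian (X ↘ Spec (CommRingCat.of k))
  intro x
  by_cases hx : x = P
  · subst hx
    obtain ⟨V, hV, hPV, -⟩ := exists_isAffineOpen_mem_and_subset (X := X) (x := x)
      (U := ⊤) trivial
    letI := X.presheaf.algebra_section_stalk ⟨x, hPV⟩
    haveI := hV.isLocalization_stalk ⟨x, hPV⟩
    haveI : IsNoetherianRing Γ(X, V) := IsLocallyNoetherian.component_noetherian ⟨V, hV⟩
    obtain ⟨hdom, hdvr⟩ :=
      (Groth.Agent.Lib.Helper19.isDiscreteValuationRing_iff_regular_dim_one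
        (X.presheaf.stalk x)).mpr ⟨h, ringKrullDim_stalk_eq_one k X hequi x hP⟩
    obtain ⟨ϖ, hϖ⟩ := IsDiscreteValuationRing.exists_irreducible (X.presheaf.stalk x)
    obtain ⟨f, a, hfq, hB⟩ := exists_away_principal (hV.primeIdealOf ⟨x, hPV⟩).asIdeal
      (X.presheaf.stalk x) ϖ hϖ.maximalIdeal_eq (mem_nonZeroDivisors_of_ne_zero hϖ.ne_zero)
    haveI := hV.isLocalization_basicOpen f
    obtain ⟨h1, h2⟩ := hB Γ(X, X.basicOpen f)
    refine ⟨X.affineBasicOpen (U := ⟨V, hV⟩) f, ?_, algebraMap Γ(X, V) Γ(X, X.basicOpen f) a,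
      h2, ?_⟩
    · have h3 : hV.primeIdealOf ⟨x, hPV⟩ ∈ PrimeSpectrum.basicOpen f := hfq
      rw [← hV.fromSpec_preimage_basicOpen] at h3
      have h4 : hV.fromSpec (hV.primeIdealOf ⟨x, hPV⟩) ∈ X.basicOpen f := h3
      rw [hV.fromSpec_primeIdealOf] at h4
      exact h4
    · rw [← Scheme.IdealSheafData.map_ideal_basicOpen,
        vanishingIdeal_point_ideal_of_mem X x hP ⟨V, hV⟩ hPV]
      exact h1
  · have hx' : x ∈ (⟨{P}ᶜ, hP.isOpen_compl⟩ : X.Opens) := hx
    obtain ⟨W, hW, hxW, hWsub⟩ := exists_isAffineOpen_mem_and_subset (X := X) (x := x)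
      (U := ⟨{P}ᶜ, hP.isOpen_compl⟩) hx'
    refine ⟨⟨W, hW⟩, hxW, 1, one_mem _, ?_⟩
    rw [vanishingIdeal_point_ideal_of_not_mem X P hP ⟨W, hW⟩ (fun hPW => hWsub hPW rfl)]
    exact Ideal.span_singleton_one.symm

end Geo

/-- **S15923** -/
theorem main (k : Type u) [Field k] [IsAlgClosed k] (X : Scheme.{u})
    [X.Over (Spec (CommRingCat.of k))] [IsProper (X ↘ (Spec (CommRingCat.of k)))]
    (hequi : ∀ Z ∈ irreducibleComponents (X : Type u), topologicalKrullDim Z = 1)
    (P : X) (hP : IsClosed ({P} : Set X)) :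
    PicF.IsInvertible (ClSub.idealMod (Scheme.IdealSheafData.vanishingIdeal ⟨{P}, hP⟩)) ↔
      ∃ U : X.Opens, P ∈ U ∧ Smooth (U.ι ≫ (X ↘ (Spec (CommRingCat.of k)))) := by
  haveI : LocallyOfFinitePresentation (X ↘ Spec (CommRingCat.of k)) :=
    LocallyOfFinitePresentation.iff_locallyOfFiniteType.mpr inferInstance
  letI := Curv2.resAlgebra k X P
  haveI := isSeparable_residueField k X P hP
  rw [Groth.Agent.Helper18Cart.main_S8914]
  have key : (∃ U : X.Opens, P ∈ U ∧ Smooth (U.ι ≫ (X ↘ (Spec (CommRingCat.of k))))) ↔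
      P ∈ (X ↘ (Spec (CommRingCat.of k))).smoothLocus := by
    constructor
    · rintro ⟨U, hPU, hsm⟩
      have h1 : (U.ι ≫ (X ↘ (Spec (CommRingCat.of k)))).smoothLocus = ⊤ :=
        Scheme.Hom.smoothLocus_eq_top _
      rw [← Scheme.Hom.preimage_smoothLocus_eq] at h1
      have h2 : (⟨P, hPU⟩ : U) ∈ U.ι ⁻¹ᵁ (X ↘ (Spec (CommRingCat.of k))).smoothLocus := by
        rw [h1]; trivial
      exact h2
    · intro h
      refine ⟨(X ↘ (Spec (CommRingCat.of k))).smoothLocus, h, ?_⟩
      rw [← Scheme.Hom.smoothLocus_eq_top_iff, ← Scheme.Hom.preimage_smoothLocus_eq]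
      exact Scheme.Opens.ι_preimage_self _
  rw [key, Groth.Agent.Lib.R2H4SmSep.mem_smoothLocus_iff_isRegularLocalRing]
  exact ⟨isRegular_of_isEffCartier k X hequi P hP, isEffCartier_of_isRegular k X hequi P hP⟩

end Groth.Agent.Lib.R2H4PointSmooth
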