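import Mathlib
import Groth.Agent.Lib.Helper22GrAvoid

/-!
# Finite sets of points of a scheme immersed in `Proj` lie in an affine open
-/

set_option autoImplicit false
universe u
open CategoryTheory AlgebraicGeometry

namespace Groth.Agent.Lib.R2H4.ProjAvoid

variable {R A : Type u} [CommRing R] [CommRing A] [Algebra R A]
  (𝒜 : ℕ → Submodule R A) [GradedAlgebra 𝒜]

/-- Finitely many points of an open subset `W` of `Proj 𝒜` lie in a common affine basic open
`D₊(x) ⊆ W`. -/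
theorem exists_basicOpen_le (W : (Proj 𝒜).Opens) (T : Finset (Proj 𝒜)) (hT : ∀ t ∈ T, t ∈ W) :
    ∃ (x : A) (d : ℕ), 0 < d ∧ x ∈ 𝒜 d ∧ Proj.basicOpen 𝒜 x ≤ W ∧
      ∀ t ∈ T, t ∈ Proj.basicOpen 𝒜 x := by
  classical
  -- the closed complement and its vanishing ideal
  obtain ⟨Z, hZ⟩ : ∃ Z : Set (ProjectiveSpectrum 𝒜), Z = (W : Set (Proj 𝒜))ᶜ := ⟨_, rfl⟩
  have hZc : IsClosed Z := by
    rw [hZ]
    exact W.isOpen.isClosed_compl
  have hZeq : ProjectiveSpectrum.zeroLocus 𝒜 (ProjectiveSpectrum.vanishingIdeal Z : Set A) = Z := by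
    rw [ProjectiveSpectrum.zeroLocus_vanishingIdeal_eq_closure, hZc.closure_eq]
  obtain ⟨I, hI⟩ : ∃ I : Ideal A, I = (ProjectiveSpectrum.vanishingIdeal Z).toIdeal ⊓
      (HomogeneousIdeal.irrelevant 𝒜).toIdeal := ⟨_, rfl⟩
  have hIh : I.IsHomogeneous 𝒜 := by
    rw [hI]
    exact (ProjectiveSpectrum.vanishingIdeal Z).isHomogeneous.inf
      (HomogeneousIdeal.irrelevant 𝒜).isHomogeneous
  have hIirr : I ≤ (HomogeneousIdeal.irrelevant 𝒜).toIdeal := hI ▸ inf_le_right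
  have hP : ∀ p ∈ T.image (fun t : Proj 𝒜 => t.asHomogeneousIdeal.toIdeal),
      p.IsPrime ∧ ¬ I ≤ p := by
    intro p hp
    obtain ⟨t, ht, rfl⟩ := Finset.mem_image.mp hp
    refine ⟨t.isPrime, fun hle => ?_⟩
    rw [hI] at hle
    rcases (t.isPrime.inf_le).mp hle with h | h
    · have : t ∈ Z := by
        rw [← hZeq]
        exact h
      rw [hZ] at this
      exact this (hT t ht)
    · exact t.not_irrelevant_le h
  obtain ⟨x, d, hd, hxd, hxI, hxP⟩ :=
    Groth.Agent.Lib.Helper22.GrAvoid.exists_homogeneous_avoid 𝒜 I hIh hIirr _ hP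
  refine ⟨x, d, hd, hxd, ?_, fun t ht => ?_⟩
  · intro y hy
    by_contra hyW
    have hyZ : y ∈ Z := by
      rw [hZ]
      exact hyW
    rw [← hZeq] at hyZ
    have hxv : x ∈ (ProjectiveSpectrum.vanishingIdeal Z).toIdeal := by
      have := hxI
      rw [hI] at this
      exact this.1
    exact hy (hyZ hxv)
  · exact hxP _ (Finset.mem_image_of_mem _ ht)

/-- A finite set of points of a scheme immersed in `Proj 𝒜` is contained in an affine open. -/
theorem exists_affine_of_immersion_Proj {X : Scheme.{u}} (ι : X ⟶ Proj 𝒜) [IsImmersion ι]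
    (E : Set X) (hE : E.Finite) : ∃ U : X.Opens, IsAffineOpen U ∧ E ⊆ U := by
  classical
  obtain ⟨x, d, hd, hxd, hle, hmem⟩ :=
    exists_basicOpen_le 𝒜 ι.coborderRange (hE.toFinset.image ι) (by
      intro t ht
      obtain ⟨e, he, rfl⟩ := Finset.mem_image.mp ht
      exact subset_coborder ⟨e, rfl⟩)
  refine ⟨ι ⁻¹ᵁ Proj.basicOpen 𝒜 x, ?_, ?_⟩
  · have hV : IsAffineOpen (Proj.basicOpen 𝒜 x) := Proj.isAffineOpen_basicOpen 𝒜 x hxd hd
    have h1 : IsAffineOpen (ι.coborderRange.ι ⁻¹ᵁ Proj.basicOpen 𝒜 x) :=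
      ((affineOpensRestrict ι.coborderRange).symm ⟨⟨_, hV⟩, hle⟩).2
    have h2 : ι ⁻¹ᵁ Proj.basicOpen 𝒜 x =
        ι.liftCoborder ⁻¹ᵁ (ι.coborderRange.ι ⁻¹ᵁ Proj.basicOpen 𝒜 x) := by
      rw [Scheme.Hom.liftCoborder_preimage, Scheme.Hom.image_preimage_eq_opensRange_inf,
        Scheme.Opens.opensRange_ι, inf_eq_right.mpr hle]
    rw [h2]
    exact h1.preimage ι.liftCoborder
  · intro e he
    exact hmem _ (Finset.mem_image_of_mem _ (hE.mem_toFinset.mpr he))

end Groth.Agent.Lib.R2H4.ProjAvoid
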