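import Mathlib
import Groth.Prelude.Def_FlatCA
import Groth.Agent.S1224
import Groth.Agent.Lib.Helper13Fiber

/-!
# helper4 (round 2): purity along a fibre descends along base changes flat at a point (S1217)

* `ass_lift_flat`: associated primes lift along flat base change of Noetherian rings;
* `fiber_ass_lift`, `exists_prime_ass_lift`: associated points of fibre modules lift along base change `R → R'`
  (fibre rings `κ(p) ⊗ S → κ(p') ⊗ S'`, a faithfully flat base change of fields);
* `exists_prime_over`, `exists_prime_etaleNhd`: primes of `A'' ⊗[A] A'` over a given pair of primes, and base change of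
  elementary étale neighbourhoods;
* `exists_prime_le_of_flat`: going down for `A'' → A'' ⊗[A] A'` at primes over `p'` when `A'_{p'}` is `A`-flat;
* `impurity_lift`: an impurity above `p` lifts to an impurity above `p'`.
-/

set_option autoImplicit false
set_option linter.style.haveILetI false
set_option linter.unusedSectionVars false
universe u

namespace Groth.Agent.Lib.R2H4.PureDescent

open TensorProduct FlatCA

attribute [local instance] Algebra.TensorProduct.rightAlgebra

/-- Associated primes lift along a flat base change of Noetherian rings. -/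
theorem ass_lift_flat {C C' : Type*} [CommRing C] [CommRing C'] [Algebra C C'] [Module.Flat C C']
    [IsNoetherianRing C] [IsNoetherianRing C']
    {M M' : Type*} [AddCommGroup M] [Module C M] [AddCommGroup M'] [Module C' M'] [Module C M']
    [IsScalarTower C C' M'] (h : M →ₗ[C] M') (hh : IsBaseChange C' h)
    (q : Ideal C) (hq : q ∈ associatedPrimes C M)
    (hne : q.map (algebraMap C C') ≠ ⊤) :
    ∃ Q ∈ associatedPrimes C' M', Q.comap (algebraMap C C') = q := by
  classical
  have hqp : q.IsPrime := hq.isPrime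
  obtain ⟨-, x, hx⟩ := (isAssociatedPrime_iff (R := C)).mp hq
  -- the injective map `C ⧸ q → M`
  let ψ : (C ⧸ q) →ₗ[C] M := Submodule.liftQ q (LinearMap.toSpanSingleton C M x) (by
    intro a ha
    rw [hx] at ha
    rw [LinearMap.mem_ker, LinearMap.toSpanSingleton_apply]
    simpa [Submodule.mem_colon_singleton] using ha)
  have hψ : Function.Injective ψ := by
    rw [← LinearMap.ker_eq_bot, Submodule.ker_liftQ_eq_bot']
    ext a
    rw [LinearMap.mem_ker, LinearMap.toSpanSingleton_apply, hx, Submodule.mem_colon_singleton,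
      Submodule.mem_bot]
  -- base change
  let ψ' : C' ⊗[C] (C ⧸ q) →ₗ[C'] C' ⊗[C] M := LinearMap.baseChange C' ψ
  have hψ' : Function.Injective ψ' := Module.Flat.lTensor_preserves_injective_linearMap ψ hψ
  let θ : C' ⊗[C] (C ⧸ q) →ₗ[C'] M' := hh.equiv.toLinearMap ∘ₗ ψ'
  have hθ : Function.Injective θ := hh.equiv.injective.comp hψ'
  -- nontriviality
  have hnt : Nontrivial (C' ⊗[C] (C ⧸ q)) := by
    have e : (C' ⊗[C] (C ⧸ q)) ≃ₗ[C] (C' ⧸ (q • ⊤ : Submodule C C')) :=
      TensorProduct.tensorQuotEquivQuotSMul C' q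
    have hlt : (q • ⊤ : Submodule C C') ≠ ⊤ := by
      rw [Ideal.smul_top_eq_map]
      intro htop
      exact hne ((Submodule.restrictScalars_eq_top_iff _ _ _).mp htop)
    have : Nontrivial (C' ⧸ (q • ⊤ : Submodule C C')) := Submodule.Quotient.nontrivial_iff.mpr hlt
    exact e.toEquiv.nontrivial
  obtain ⟨Q, hQ⟩ := associatedPrimes.nonempty C' (C' ⊗[C] (C ⧸ q))
  refine ⟨Q, hQ.map_of_injective θ hθ, ?_⟩
  obtain ⟨hQp, y, hy⟩ := (isAssociatedPrime_iff (R := C')).mp hQ
  have hy0 : y ≠ 0 := by
    rintro rfl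
    apply hQp.ne_top
    rw [hy]
    simp [Submodule.colon_eq_top_iff_subset]
  apply le_antisymm
  · intro a ha
    by_contra haq
    -- multiplication by `a` is injective on `C ⧸ q`, hence on the base change
    have hinj : Function.Injective (LinearMap.lsmul C (C ⧸ q) a) := by
      intro u v huv
      obtain ⟨u, rfl⟩ := Ideal.Quotient.mk_surjective u
      obtain ⟨v, rfl⟩ := Ideal.Quotient.mk_surjective v
      simp only [LinearMap.lsmul_apply] at huv
      rw [← sub_eq_zero, ← smul_sub, ← map_sub, Algebra.smul_def, Ideal.Quotient.algebraMap_eq,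
        ← map_mul, Ideal.Quotient.eq_zero_iff_mem] at huv
      rw [← sub_eq_zero, ← map_sub, Ideal.Quotient.eq_zero_iff_mem]
      exact (hqp.mem_or_mem huv).resolve_left haq
    have hinj' := Module.Flat.lTensor_preserves_injective_linearMap (M := C')
      (LinearMap.lsmul C (C ⧸ q) a) hinj
    have hay : algebraMap C C' a • y = 0 := by
      have : algebraMap C C' a ∈ (⊥ : Submodule C' (C' ⊗[C] (C ⧸ q))).colon {y} := by
        rw [← hy]; exact ha
      simpa [Submodule.mem_colon_singleton] using this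
    apply hy0
    apply hinj'
    rw [map_zero]
    have : ∀ w : C' ⊗[C] (C ⧸ q),
        (LinearMap.lTensor C' (LinearMap.lsmul C (C ⧸ q) a)) w = algebraMap C C' a • w := by
      intro w
      induction w using TensorProduct.induction_on with
      | zero => simp
      | tmul c z =>
        simp only [LinearMap.lTensor_tmul, LinearMap.lsmul_apply]
        rw [TensorProduct.tmul_smul, algebraMap_smul]
      | add u v hu hv => rw [map_add, smul_add, hu, hv]
    rw [this, hay]
  · intro a ha
    have key : ∀ w : C' ⊗[C] (C ⧸ q), algebraMap C C' a • w = 0 := by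
      intro w
      induction w using TensorProduct.induction_on with
      | zero => simp
      | tmul c z =>
        obtain ⟨z, rfl⟩ := Ideal.Quotient.mk_surjective z
        rw [algebraMap_smul, ← TensorProduct.tmul_smul]
        have : a • (Ideal.Quotient.mk q z) = 0 := by
          rw [Algebra.smul_def, Ideal.Quotient.algebraMap_eq, ← map_mul,
            Ideal.Quotient.eq_zero_iff_mem]
          exact Ideal.mul_mem_right _ _ ha
        rw [this, TensorProduct.tmul_zero]
      | add u v hu hv => rw [smul_add, hu, hv, add_zero]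
    rw [Ideal.mem_comap, hy, Submodule.mem_colon_singleton, Submodule.mem_bot]
    exact key y

section Fiber

variable (R S R' S' k k' A A' : Type u) [CommRing R] [CommRing S] [CommRing R'] [CommRing S']
  [Field k] [Field k'] [CommRing A] [CommRing A']
  [Algebra R S] [Algebra R R'] [Algebra R' S'] [Algebra R S'] [Algebra S S']
  [IsScalarTower R R' S'] [IsScalarTower R S S'] [Algebra.IsPushout R R' S S']
  [Algebra R k] [Algebra R' k'] [Algebra R k'] [Algebra k k'] [IsScalarTower R R' k']
  [IsScalarTower R k k']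
  [Algebra k A] [Algebra S A] [Algebra R A] [IsScalarTower R k A] [IsScalarTower R S A]
  [Algebra.IsPushout R k S A]
  [Algebra k' A'] [Algebra S' A'] [Algebra R' A'] [IsScalarTower R' k' A'] [IsScalarTower R' S' A']
  [Algebra.IsPushout R' k' S' A']

include R R' in
/-- the comparison map of fibre rings `A = k ⊗_R S → A' = k' ⊗_{R'} S'` lifts associated primes of fibre modules. -/
theorem fiber_ass_lift [IsNoetherianRing A] [IsNoetherianRing A'] :
    ∃ φ : A →+* A', (∀ x : k, φ (algebraMap k A x) = algebraMap k' A' (algebraMap k k' x)) ∧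
      (∀ s : S, φ (algebraMap S A s) = algebraMap S' A' (algebraMap S S' s)) ∧
      ∀ (N N' M M' : Type u) [AddCommGroup N] [Module S N] [AddCommGroup N']
        [Module S' N'] [Module S N'] [IsScalarTower S S' N']
        [AddCommGroup M] [Module A M] [Module S M] [IsScalarTower S A M]
        [AddCommGroup M'] [Module A' M'] [Module S' M'] [IsScalarTower S' A' M']
        (f : N →ₗ[S] N') (_ : IsBaseChange S' f) (i : N →ₗ[S] M) (_ : IsBaseChange A i)
        (i' : N' →ₗ[S'] M') (_ : IsBaseChange A' i'),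
        ∀ q ∈ associatedPrimes A M, ∃ Q ∈ associatedPrimes A' M', Q.comap φ = q := by
  letI aRA' : Algebra R A' := ((algebraMap R' A').comp (algebraMap R R')).toAlgebra
  haveI : IsScalarTower R R' A' := .of_algebraMap_eq fun _ => rfl
  letI aSA' : Algebra S A' := ((algebraMap S' A').comp (algebraMap S S')).toAlgebra
  haveI : IsScalarTower S S' A' := .of_algebraMap_eq fun _ => rfl
  letI akA' : Algebra k A' := ((algebraMap k' A').comp (algebraMap k k')).toAlgebra
  haveI : IsScalarTower k k' A' := .of_algebraMap_eq fun _ => rfl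
  haveI : IsScalarTower R k' A' := .of_algebraMap_eq fun x => by
    rw [IsScalarTower.algebraMap_apply R R' A', IsScalarTower.algebraMap_apply R' k' A',
      ← IsScalarTower.algebraMap_apply R R' k']
  haveI : IsScalarTower R S' A' := .of_algebraMap_eq fun x => by
    rw [IsScalarTower.algebraMap_apply R R' A', IsScalarTower.algebraMap_apply R' S' A',
      ← IsScalarTower.algebraMap_apply R R' S']
  haveI : IsScalarTower R S A' := .of_algebraMap_eq fun x => by
    rw [IsScalarTower.algebraMap_apply R S' A', IsScalarTower.algebraMap_apply R S S',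
      ← IsScalarTower.algebraMap_apply S S' A']
  haveI : IsScalarTower R k A' := .of_algebraMap_eq fun x => by
    rw [IsScalarTower.algebraMap_apply R k' A', IsScalarTower.algebraMap_apply R k k',
      ← IsScalarTower.algebraMap_apply k k' A']
  let φ : A →ₐ[R] A' := Algebra.pushoutDesc A (IsScalarTower.toAlgHom R k A')
    (IsScalarTower.toAlgHom R S A') (fun _ _ => mul_comm _ _)
  have hφl : ∀ x : k, φ (algebraMap k A x) = algebraMap k A' x := fun x =>
    Algebra.pushoutDesc_left A (IsScalarTower.toAlgHom R k A')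
      (IsScalarTower.toAlgHom R S A') (fun _ _ => mul_comm _ _) x
  have hφr : ∀ s : S, φ (algebraMap S A s) = algebraMap S A' s := fun x =>
    Algebra.pushoutDesc_right A (IsScalarTower.toAlgHom R k A')
      (IsScalarTower.toAlgHom R S A') (fun _ _ => mul_comm _ _) x
  letI aAA' : Algebra A A' := φ.toRingHom.toAlgebra
  haveI : IsScalarTower k A A' := .of_algebraMap_eq fun x => (hφl x).symm
  haveI : IsScalarTower S A A' := .of_algebraMap_eq fun x => (hφr x).symm
  haveI : IsScalarTower R A A' := .of_algebraMap_eq fun x => (φ.commutes x).symm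
  have hP1 : Algebra.IsPushout R k' S A' :=
    (Algebra.IsPushout.comp_iff R R' S S').mpr inferInstance
  haveI hP2 : Algebra.IsPushout k k' A A' := (Algebra.IsPushout.comp_iff R k S A).mp hP1
  -- `A'` is faithfully flat over `A`
  have hP3 : Algebra.IsPushout k A k' A' := hP2.symm
  have hbc : IsBaseChange A (IsScalarTower.toAlgHom k k' A').toLinearMap := hP3.out
  haveI hff : Module.FaithfullyFlat A A' :=
    Module.FaithfullyFlat.of_linearEquiv (R := A) (M := A ⊗[k] k') (N := A') hbc.equiv.symm
  haveI : Module.Flat A A' := hff.toFlat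
  refine ⟨φ.toRingHom, hφl, hφr, ?_⟩
  intro N N' M M' _ _ _ _ _ _ _ _ _ _ _ _ _ _ f hf i hi i' hi' q hq
  letI mSM' : Module S M' := Module.compHom M' (algebraMap S S')
  haveI : IsScalarTower S S' M' := .of_algebraMap_smul fun _ _ => rfl
  haveI : IsScalarTower S A' M' := .of_algebraMap_smul fun s x => by
    rw [IsScalarTower.algebraMap_apply S S' A', algebraMap_smul, algebraMap_smul]
  letI mAM' : Module A M' := Module.compHom M' (algebraMap A A')
  haveI : IsScalarTower A A' M' := .of_algebraMap_smul fun _ _ => rfl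
  haveI : IsScalarTower S A M' := .of_algebraMap_smul fun s x => by
    rw [← algebraMap_smul A' (algebraMap S A s) x, ← IsScalarTower.algebraMap_apply S A A',
      algebraMap_smul]
  have hc : IsBaseChange A' ((i'.restrictScalars S).comp f) := IsBaseChange.comp hf hi'
  let F : M →ₗ[A] M' := hi.lift ((i'.restrictScalars S).comp f)
  have hF : IsBaseChange A' F := by
    refine IsBaseChange.of_comp hi ?_
    have : (F.restrictScalars S).comp i = (i'.restrictScalars S).comp f := hi.lift_comp _
    rw [this]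
    exact hc
  have hqp : q.IsPrime := hq.isPrime
  have hne : q.map (algebraMap A A') ≠ ⊤ := by
    have h1 := (Module.FaithfullyFlat.iff_flat_and_proper_ideal (R := A) (M := A')).mp hff
    have h2 := h1.2 q hqp.ne_top
    rw [Ideal.smul_top_eq_map] at h2
    intro htop
    apply h2
    rw [htop]
    rfl
  exact ass_lift_flat F hF q hq hne

end Fiber

section Concrete

variable (R S : Type u) [CommRing R] [CommRing S] [Algebra R S] (p : Ideal R) [p.IsPrime]

/-- a prime of the fibre ring is the extension of its contraction. -/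
theorem fiberIdeal_comap_eq (Q : Ideal (p.Fiber S)) [Q.IsPrime] :
    fiberIdeal p (Q.comap (Algebra.TensorProduct.includeRight (R := R) (A := p.ResidueField)
      (B := S)).toRingHom) = Q := by
  apply le_antisymm
  · unfold fiberIdeal
    exact Ideal.map_comap_le
  · intro f hf
    obtain ⟨u, hu, s, hus⟩ := Groth.Agent.Helper13Fiber.exists_isUnit_mul_eq_algebraMap p S f
    have hs : s ∈ Q.comap (Algebra.TensorProduct.includeRight (R := R) (A := p.ResidueField)
        (B := S)).toRingHom := by
      rw [Ideal.mem_comap]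
      change algebraMap S (p.Fiber S) s ∈ _
      rw [← hus]
      exact Ideal.mul_mem_left _ _ hf
    have h3 : f = ↑(hu.unit⁻¹) * algebraMap S (p.Fiber S) s := by
      rw [← hus, ← mul_assoc, IsUnit.val_inv_mul, one_mul]
    rw [h3]
    exact Ideal.mul_mem_left _ _ (Ideal.mem_map_of_mem _ hs)

variable (R' : Type u) [CommRing R'] [Algebra R R'] (p' : Ideal R') [p'.IsPrime] [hp' : p'.LiesOver p]
  (S' : Type u) [CommRing S'] [Algebra R' S'] [Algebra R S'] [Algebra S S'] [IsScalarTower R R' S']
  [IsScalarTower R S S'] [Algebra.IsPushout R R' S S']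

include hp' in
theorem exists_prime_ass_lift [Algebra.FiniteType R S]
    (N N' : Type u) [AddCommGroup N] [Module S N] [Module R N] [IsScalarTower R S N]
    [AddCommGroup N'] [Module S' N'] [Module R' N'] [IsScalarTower R' S' N'] [Module S N']
    [IsScalarTower S S' N'] (f : N →ₗ[S] N') (hf : IsBaseChange S' f)
    (q : Ideal S) [q.IsPrime] [q.LiesOver p]
    (hq : fiberIdeal p q ∈ associatedPrimes (p.Fiber S) (fiberMod p S N)) :
    ∃ (q' : Ideal S') (_ : q'.IsPrime), q'.LiesOver p' ∧ q'.comap (algebraMap S S') = q ∧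
      fiberIdeal p' q' ∈ associatedPrimes (p'.Fiber S') (fiberMod p' S' N') := by
  letI : Algebra p.ResidueField p'.ResidueField :=
    (Ideal.ResidueField.mapₐ p p' (Algebra.ofId R R') (p'.over_def p)).toRingHom.toAlgebra
  haveI : IsScalarTower R p.ResidueField p'.ResidueField := .of_algebraMap_eq fun x =>
    ((Ideal.ResidueField.mapₐ p p' (Algebra.ofId R R') (p'.over_def p)).commutes x).symm
  haveI : Algebra.FiniteType R' S' := by
    have e : R' ⊗[R] S ≃ₐ[R'] S' := Algebra.IsPushout.equiv R R' S S'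
    exact Algebra.FiniteType.equiv inferInstance e
  haveI : IsNoetherianRing (p.Fiber S) :=
    Algebra.FiniteType.isNoetherianRing p.ResidueField (p.Fiber S)
  haveI : IsNoetherianRing (p'.Fiber S') :=
    Algebra.FiniteType.isNoetherianRing p'.ResidueField (p'.Fiber S')
  obtain ⟨φ, -, hr, hM⟩ := fiber_ass_lift R S R' S' p.ResidueField p'.ResidueField
    (p.Fiber S) (p'.Fiber S')
  haveI hT1 : IsScalarTower S (p.Fiber S) (FlatCA.fiberMod p S N) :=
    inferInstanceAs (IsScalarTower S (p.Fiber S) ((p.Fiber S) ⊗[S] N))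
  letI : Module S' (FlatCA.fiberMod p' S' N') :=
    inferInstanceAs (Module S' ((p'.Fiber S') ⊗[S'] N'))
  haveI hT2 : IsScalarTower S' (p'.Fiber S') (FlatCA.fiberMod p' S' N') :=
    inferInstanceAs (IsScalarTower S' (p'.Fiber S') ((p'.Fiber S') ⊗[S'] N'))
  obtain ⟨Q, hQ, hQq⟩ := @hM N N' (FlatCA.fiberMod p S N) (FlatCA.fiberMod p' S' N')
    _ _ _ _ _ _ _ _ _ hT1 _ _ _ hT2 f hf
    (FlatCA.toFiberMod p S N) (TensorProduct.isBaseChange S N (p.Fiber S))
    (FlatCA.toFiberMod p' S' N') (TensorProduct.isBaseChange S' N' (p'.Fiber S'))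
    (fiberIdeal p q) hq
  haveI hQp : Q.IsPrime := hQ.isPrime
  refine ⟨Q.comap (Algebra.TensorProduct.includeRight (R := R') (A := p'.ResidueField)
      (B := S')).toRingHom, inferInstance, ?_, ?_, ?_⟩
  · constructor
    have h1 : Q.LiesOver p' := inferInstance
    have h2 : p' = Ideal.comap (algebraMap R' (p'.Fiber S')) Q := h1.over
    refine h2.trans ?_
    change Ideal.comap (algebraMap R' (p'.Fiber S')) Q = Ideal.comap (algebraMap R' S') (Ideal.comap (algebraMap S' (p'.Fiber S')) Q)
    rw [Ideal.comap_comap, ← IsScalarTower.algebraMap_eq]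
  · have hcomp : φ.comp (Algebra.TensorProduct.includeRight (R := R) (A := p.ResidueField)
        (B := S)).toRingHom = ((Algebra.TensorProduct.includeRight (R := R')
        (A := p'.ResidueField) (B := S')).toRingHom).comp (algebraMap S S') :=
      RingHom.ext fun s => hr s
    rw [Ideal.comap_comap, ← hcomp, ← Ideal.comap_comap, hQq]
    exact Groth.Agent.S1224.comap_fiberIdeal p q
  · rw [fiberIdeal_comap_eq]
    exact hQ

end Concrete

section Primes

variable {A A' A'' : Type u} [CommRing A] [CommRing A'] [CommRing A''] [Algebra A A'] [Algebra A A'']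

/-- the map from the tensor product to a field attached to two compatible maps. -/
theorem exists_hom_of_field (Ω : Type u) [Field Ω] (u : A' →+* Ω) (v : A'' →+* Ω)
    (huv : ∀ a, u (algebraMap A A' a) = v (algebraMap A A'' a)) :
    ∃ ψ : A'' ⊗[A] A' →+* Ω, (∀ x, ψ (algebraMap A'' (A'' ⊗[A] A') x) = v x) ∧
      (∀ y, ψ (algebraMap A' (A'' ⊗[A] A') y) = u y) := by
  letI : Algebra A Ω := (u.comp (algebraMap A A')).toAlgebra
  let uₐ : A' →ₐ[A] Ω := { u with commutes' := fun a => rfl }
  let vₐ : A'' →ₐ[A] Ω := { v with commutes' := fun a => (huv a).symm }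
  let ψ : A'' ⊗[A] A' →ₐ[A] Ω := Algebra.TensorProduct.lift vₐ uₐ (fun _ _ => Commute.all _ _)
  refine ⟨ψ.toRingHom, fun x => ?_, fun y => ?_⟩
  · change ψ (x ⊗ₜ 1) = v x
    simp [ψ, vₐ, uₐ]
  · change ψ (1 ⊗ₜ y) = u y
    simp [ψ, vₐ, uₐ]

/-- a prime of the tensor product over two primes with the same contraction. -/
theorem exists_prime_over (p : Ideal A) [p.IsPrime] (p' : Ideal A') [p'.IsPrime] [hp' : p'.LiesOver p]
    (t : Ideal A'') [t.IsPrime] [ht : t.LiesOver p] :
    ∃ T : Ideal (A'' ⊗[A] A'), T.IsPrime ∧ T.comap (algebraMap A'' (A'' ⊗[A] A')) = t ∧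
      T.comap (algebraMap A' (A'' ⊗[A] A')) = p' := by
  letI a1 : Algebra p.ResidueField p'.ResidueField :=
    (Ideal.ResidueField.mapₐ p p' (Algebra.ofId A A') (p'.over_def p)).toRingHom.toAlgebra
  letI a2 : Algebra p.ResidueField t.ResidueField :=
    (Ideal.ResidueField.mapₐ p t (Algebra.ofId A A'') (t.over_def p)).toRingHom.toAlgebra
  obtain ⟨m, hm⟩ := Ideal.exists_maximal (t.ResidueField ⊗[p.ResidueField] p'.ResidueField)
  letI : Field ((t.ResidueField ⊗[p.ResidueField] p'.ResidueField) ⧸ m) := Ideal.Quotient.field m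
  let Ω := (t.ResidueField ⊗[p.ResidueField] p'.ResidueField) ⧸ m
  let j1 : t.ResidueField →+* Ω := (Ideal.Quotient.mk m).comp
    (Algebra.TensorProduct.includeLeft (R := p.ResidueField) (S := p.ResidueField)
      (A := t.ResidueField) (B := p'.ResidueField)).toRingHom
  let j2 : p'.ResidueField →+* Ω := (Ideal.Quotient.mk m).comp
    (Algebra.TensorProduct.includeRight (R := p.ResidueField)
      (A := t.ResidueField) (B := p'.ResidueField)).toRingHom
  let u : A' →+* Ω := j2.comp (algebraMap A' p'.ResidueField)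
  let v : A'' →+* Ω := j1.comp (algebraMap A'' t.ResidueField)
  have huv : ∀ a, u (algebraMap A A' a) = v (algebraMap A A'' a) := by
    intro a
    have h1 : algebraMap A' p'.ResidueField (algebraMap A A' a) =
        algebraMap p.ResidueField p'.ResidueField (algebraMap A p.ResidueField a) := by
      change _ = Ideal.ResidueField.mapₐ p p' (Algebra.ofId A A') (p'.over_def p) _
      rw [Ideal.ResidueField.mapₐ_apply, Ideal.ResidueField.map_algebraMap]
      rfl
    have h2 : algebraMap A'' t.ResidueField (algebraMap A A'' a) =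
        algebraMap p.ResidueField t.ResidueField (algebraMap A p.ResidueField a) := by
      change _ = Ideal.ResidueField.mapₐ p t (Algebra.ofId A A'') (t.over_def p) _
      rw [Ideal.ResidueField.mapₐ_apply, Ideal.ResidueField.map_algebraMap]
      rfl
    simp only [u, v, j1, j2, RingHom.comp_apply]
    rw [h1, h2]
    congr 1
    simp only [AlgHom.toRingHom_eq_coe, RingHom.coe_coe, Algebra.TensorProduct.includeLeft_apply,
      Algebra.TensorProduct.includeRight_apply]
    rw [Algebra.algebraMap_eq_smul_one, Algebra.algebraMap_eq_smul_one (A := t.ResidueField),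
      TensorProduct.smul_tmul]
  obtain ⟨ψ, hψl, hψr⟩ := exists_hom_of_field Ω u v huv
  refine ⟨RingHom.ker ψ, RingHom.ker_isPrime ψ, ?_, ?_⟩
  · ext x
    rw [Ideal.mem_comap, RingHom.mem_ker, hψl]
    simp only [v, RingHom.comp_apply]
    rw [map_eq_zero_iff j1 j1.injective, Ideal.algebraMap_residueField_eq_zero]
  · ext x
    rw [Ideal.mem_comap, RingHom.mem_ker, hψr]
    simp only [u, RingHom.comp_apply]
    rw [map_eq_zero_iff j2 j2.injective, Ideal.algebraMap_residueField_eq_zero]

end Primes

section Primes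

variable {A A' A'' : Type u} [CommRing A] [CommRing A'] [CommRing A''] [Algebra A A'] [Algebra A A'']

/-- base change of an elementary étale neighbourhood. -/
theorem exists_prime_etaleNhd (p : Ideal A) [p.IsPrime] (p' : Ideal A') [p'.IsPrime]
    [hp' : p'.LiesOver p] (t : Ideal A'') [t.IsPrime] (het : IsEtaleNhd A A'' p t) :
    ∃ (T : Ideal (A'' ⊗[A] A')) (_ : T.IsPrime), T.comap (algebraMap A'' (A'' ⊗[A] A')) = t ∧
      T.comap (algebraMap A' (A'' ⊗[A] A')) = p' ∧ IsEtaleNhd A' (A'' ⊗[A] A') p' T := by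
  obtain ⟨hEt, ht, hbij⟩ := het
  letI a1 : Algebra p.ResidueField p'.ResidueField :=
    (Ideal.ResidueField.mapₐ p p' (Algebra.ofId A A') (p'.over_def p)).toRingHom.toAlgebra
  let e : p.ResidueField ≃+* t.ResidueField :=
    RingEquiv.ofBijective (Ideal.ResidueField.mapₐ p t (Algebra.ofId A A'') ht.over).toRingHom hbij
  let u : A' →+* p'.ResidueField := algebraMap A' p'.ResidueField
  let v : A'' →+* p'.ResidueField :=
    ((algebraMap p.ResidueField p'.ResidueField).comp (e.symm : t.ResidueField →+* p.ResidueField)).comp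
      (algebraMap A'' t.ResidueField)
  have he : ∀ a : A, e (algebraMap A p.ResidueField a) = algebraMap A'' t.ResidueField (algebraMap A A'' a) := by
    intro a
    have : e (algebraMap A p.ResidueField a) =
        Ideal.ResidueField.mapₐ p t (Algebra.ofId A A'') ht.over (algebraMap A p.ResidueField a) := rfl
    rw [this, Ideal.ResidueField.mapₐ_apply, Ideal.ResidueField.map_algebraMap]
    rfl
  have huv : ∀ a, u (algebraMap A A' a) = v (algebraMap A A'' a) := by
    intro a
    have h1 : algebraMap A' p'.ResidueField (algebraMap A A' a) =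
        algebraMap p.ResidueField p'.ResidueField (algebraMap A p.ResidueField a) := by
      change _ = Ideal.ResidueField.mapₐ p p' (Algebra.ofId A A') (p'.over_def p) _
      rw [Ideal.ResidueField.mapₐ_apply, Ideal.ResidueField.map_algebraMap]
      rfl
    simp only [u, v, RingHom.comp_apply]
    rw [h1, ← he, RingHom.coe_coe, RingEquiv.symm_apply_apply]
  obtain ⟨ψ, hψl, hψr⟩ := exists_hom_of_field p'.ResidueField u v huv
  haveI hTp : (RingHom.ker ψ).IsPrime := RingHom.ker_isPrime ψ
  have hcomap' : (RingHom.ker ψ).comap (algebraMap A' (A'' ⊗[A] A')) = p' := by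
    ext x
    rw [Ideal.mem_comap, RingHom.mem_ker, hψr]
    exact Ideal.algebraMap_residueField_eq_zero
  refine ⟨RingHom.ker ψ, hTp, ?_, hcomap', ?_⟩
  · ext x
    rw [Ideal.mem_comap, RingHom.mem_ker, hψl]
    simp only [v, RingHom.comp_apply]
    rw [map_eq_zero_iff _ (algebraMap p.ResidueField p'.ResidueField).injective,
      RingHom.coe_coe, map_eq_zero_iff _ e.symm.injective, Ideal.algebraMap_residueField_eq_zero]
  · haveI : Algebra.Etale A' (A'' ⊗[A] A') :=
      Algebra.Etale.of_equiv (Algebra.TensorProduct.commRight A A' A'')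
    have hlo : (RingHom.ker ψ).LiesOver p' := ⟨hcomap'.symm⟩
    refine ⟨inferInstance, hlo, ?_⟩
    set ι := Ideal.ResidueField.mapₐ p' (RingHom.ker ψ) (Algebra.ofId A' (A'' ⊗[A] A')) hlo.over with hι
    have hunit : (RingHom.ker ψ).primeCompl ≤ (IsUnit.submonoid p'.ResidueField).comap ψ := by
      intro x hx
      rw [Submonoid.mem_comap]
      change IsUnit (ψ x)
      rw [isUnit_iff_ne_zero]
      exact hx
    let ψbar : (RingHom.ker ψ).ResidueField →+* p'.ResidueField :=
      Ideal.ResidueField.lift (RingHom.ker ψ) ψ le_rfl hunit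
    have hcomp : ψbar.comp ι.toRingHom = RingHom.id _ := by
      apply Ideal.ResidueField.ringHom_ext
      ext a
      simp only [RingHom.comp_apply, RingHom.id_apply]
      change ψbar (ι (algebraMap A' p'.ResidueField a)) = _
      rw [hι, Ideal.ResidueField.mapₐ_apply, Ideal.ResidueField.map_algebraMap]
      change ψbar (algebraMap _ _ (algebraMap A' (A'' ⊗[A] A') a)) = _
      rw [Ideal.ResidueField.lift_algebraMap, hψr]
    refine ⟨ι.toRingHom.injective, fun y => ⟨ψbar y, ?_⟩⟩
    apply ψbar.injective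
    have := congrArg (fun f => f (ψbar y)) hcomp
    simpa using this

end Primes

section GoingDown

variable {A A' A'' : Type u} [CommRing A] [CommRing A'] [CommRing A''] [Algebra A A'] [Algebra A A'']

/-- going down for `A'' → A'' ⊗ A'` at a prime over `p'`, when `A'_{p'}` is flat over `A`. -/
theorem exists_prime_le_of_flat (p' : Ideal A') [p'.IsPrime] [Module.Flat A (Localization.AtPrime p')]
    (T : Ideal (A'' ⊗[A] A')) [hTp : T.IsPrime] (hT : T.comap (algebraMap A' (A'' ⊗[A] A')) = p')
    (t' : Ideal A'') [t'.IsPrime] (hle : t' ≤ T.comap (algebraMap A'' (A'' ⊗[A] A'))) :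
    ∃ (T' : Ideal (A'' ⊗[A] A')) (_ : T'.IsPrime), T' ≤ T ∧
      T'.comap (algebraMap A'' (A'' ⊗[A] A')) = t' := by
  let L := Localization.AtPrime p'
  let W := A'' ⊗[A] L
  let g : A'' ⊗[A] A' →ₐ[A''] A'' ⊗[A] L :=
    Algebra.TensorProduct.map (AlgHom.id A'' A'') (IsScalarTower.toAlgHom A A' L)
  letI : Algebra (A'' ⊗[A] A') (A'' ⊗[A] L) := g.toRingHom.toAlgebra
  haveI : IsScalarTower A'' (A'' ⊗[A] A') (A'' ⊗[A] L) := .of_algebraMap_eq fun x => (g.commutes x).symm
  have H : (algebraMap (A'' ⊗[A] A') (A'' ⊗[A] L)).comp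
      (Algebra.TensorProduct.includeRight (R := A) (A := A'') (B := A')).toRingHom =
      (Algebra.TensorProduct.includeRight (R := A) (A := A'') (B := L)).toRingHom.comp
        (algebraMap A' L) := by
    ext x
    change g (1 ⊗ₜ x) = 1 ⊗ₜ (algebraMap A' L x)
    simp [g]
  haveI hloc : IsLocalization (p'.primeCompl.map
      (Algebra.TensorProduct.includeRight (R := A) (A := A'') (B := A'))) (A'' ⊗[A] L) :=
    IsLocalization.tensorProduct_tensorProduct_right A A'' p'.primeCompl L H
  set M := p'.primeCompl.map (Algebra.TensorProduct.includeRight (R := A) (A := A'') (B := A'))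
    with hM
  have hdisj : Disjoint (M : Set (A'' ⊗[A] A')) T := by
    rw [Set.disjoint_left]
    rintro x ⟨m, hm, rfl⟩ hxT
    apply hm
    rw [← hT]
    exact hxT
  haveI hTW : (T.map (algebraMap (A'' ⊗[A] A') (A'' ⊗[A] L))).IsPrime :=
    IsLocalization.isPrime_of_isPrime_disjoint M _ T hTp hdisj
  have hTWc : (T.map (algebraMap (A'' ⊗[A] A') (A'' ⊗[A] L))).comap
      (algebraMap (A'' ⊗[A] A') (A'' ⊗[A] L)) = T :=
    IsLocalization.under_map_of_isPrime_disjoint M _ hTp hdisj
  haveI : Module.Flat A'' (A'' ⊗[A] L) := inferInstance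
  set t := T.comap (algebraMap A'' (A'' ⊗[A] A')) with ht
  haveI : t.IsPrime := Ideal.comap_isPrime _ _
  haveI : (T.map (algebraMap (A'' ⊗[A] A') (A'' ⊗[A] L))).LiesOver t := by
    constructor
    rw [ht, Ideal.under_def, IsScalarTower.algebraMap_eq A'' (A'' ⊗[A] A') (A'' ⊗[A] L),
      ← Ideal.comap_comap, hTWc]
  obtain ⟨P, hPle, hPp, hPo⟩ := Ideal.exists_ideal_le_liesOver_of_le (p := t') (q := t)
    (T.map (algebraMap (A'' ⊗[A] A') (A'' ⊗[A] L))) hle
  refine ⟨P.comap (algebraMap (A'' ⊗[A] A') (A'' ⊗[A] L)), Ideal.comap_isPrime _ _, ?_, ?_⟩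
  · calc P.comap (algebraMap (A'' ⊗[A] A') (A'' ⊗[A] L))
        ≤ (T.map (algebraMap (A'' ⊗[A] A') (A'' ⊗[A] L))).comap
          (algebraMap (A'' ⊗[A] A') (A'' ⊗[A] L)) := Ideal.comap_mono hPle
      _ = T := hTWc
  · rw [Ideal.comap_comap, ← IsScalarTower.algebraMap_eq A'' (A'' ⊗[A] A') (A'' ⊗[A] L)]
    exact (hPo.over).symm

end GoingDown

section Assembly

variable {A B : Type u} [CommRing A] [CommRing B] [Algebra A B] [Algebra.FiniteType A B]
    (N : Type u) [AddCommGroup N] [Module B N] (p : Ideal A) [p.IsPrime]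
    (A' B' N' : Type u) [CommRing A'] [CommRing B'] [Algebra A A'] [Algebra B B'] [Algebra A' B'] [Algebra A B']
    [IsScalarTower A B B'] [IsScalarTower A A' B'] [Algebra.IsPushout A B A' B']
    [AddCommGroup N'] [Module B' N'] [Module B N'] [IsScalarTower B B' N'] (f : N →ₗ[B] N') (hf : IsBaseChange B' f)
    (p' : Ideal A') [p'.IsPrime] [p'.LiesOver p] [Module.Flat A (Localization.AtPrime p')]
    (A'' B'' N'' : Type u) [CommRing A''] [CommRing B''] [Algebra A A''] [Algebra B B'']
    [Algebra A'' B''] [Algebra A B''] [IsScalarTower A B B''] [IsScalarTower A A'' B'']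
    [AddCommGroup N''] [Module B'' N''] [Module B N''] [IsScalarTower B B'' N''] [Module A'' N'']
    [IsScalarTower A'' B'' N''] (g : N →ₗ[B] N'') (t' t : Ideal A'') [t'.IsPrime] [t.IsPrime]
    (P : Ideal B'') [P.IsPrime]
    (B3 N3 : Type u) [CommRing B3] [Algebra B' B3] [Algebra (A'' ⊗[A] A') B3] [Algebra A' B3]
    [IsScalarTower A' B' B3] [IsScalarTower A' (A'' ⊗[A] A') B3]
    [Algebra.IsPushout A' B' (A'' ⊗[A] A') B3]
    [AddCommGroup N3] [Module B3 N3] [Module B' N3] [IsScalarTower B' B3 N3]
    [Module (A'' ⊗[A] A') N3] [IsScalarTower (A'' ⊗[A] A') B3 N3]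
    (f3 : N' →ₗ[B'] N3) (hf3 : IsBaseChange B3 f3)

local notation "A3" => (A'' ⊗[A] A')

include hf hf3 in
/-- an impurity above `p` lifts to an impurity above `p'` of the base change, over any prime `T` of
`A'' ⊗ A'` lying over `t` and `p'`. -/
theorem impurity_lift (himp : IsImpurity A B N p A'' B'' N'' g t' t P)
    (T : Ideal (A'' ⊗[A] A')) [T.IsPrime] (hTt : T.comap (algebraMap A'' (A'' ⊗[A] A')) = t)
    (hTp : T.comap (algebraMap A' (A'' ⊗[A] A')) = p') :
    ∃ (T' : Ideal (A'' ⊗[A] A')) (_ : T'.IsPrime) (P3 : Ideal B3) (_ : P3.IsPrime),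
      IsImpurity A' B' N' p' (A'' ⊗[A] A') B3 N3 f3 T' T P3 := by
  obtain ⟨h1, h2, h3, h4, h5, h6, h7⟩ := himp
  -- going down
  obtain ⟨T', hT'p, hT'le, hT't'⟩ := exists_prime_le_of_flat p' T hTp t' (hTt ▸ h3)
  -- algebra structures on `B3`
  letI aAB3 : Algebra A B3 := ((algebraMap A' B3).comp (algebraMap A A')).toAlgebra
  haveI tAA'B3 : IsScalarTower A A' B3 := .of_algebraMap_eq fun _ => rfl
  letI aBB3 : Algebra B B3 := ((algebraMap B' B3).comp (algebraMap B B')).toAlgebra
  haveI tBB'B3 : IsScalarTower B B' B3 := .of_algebraMap_eq fun _ => rfl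
  haveI tAB'B3 : IsScalarTower A B' B3 := .of_algebraMap_eq fun a => by
    rw [IsScalarTower.algebraMap_apply A A' B3, IsScalarTower.algebraMap_apply A' B' B3,
      ← IsScalarTower.algebraMap_apply A A' B']
  haveI tABB3 : IsScalarTower A B B3 := .of_algebraMap_eq fun a => by
    rw [IsScalarTower.algebraMap_apply A B' B3, IsScalarTower.algebraMap_apply A B B',
      ← IsScalarTower.algebraMap_apply B B' B3]
  haveI tAA3B3 : IsScalarTower A A3 B3 := .of_algebraMap_eq fun a => by
    rw [IsScalarTower.algebraMap_apply A A' B3, IsScalarTower.algebraMap_apply A' A3 B3,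
      ← IsScalarTower.algebraMap_apply A A' A3]
  letI aA''B3 : Algebra A'' B3 := ((algebraMap A3 B3).comp (algebraMap A'' A3)).toAlgebra
  haveI tA''A3B3 : IsScalarTower A'' A3 B3 := .of_algebraMap_eq fun _ => rfl
  haveI tAA''B3 : IsScalarTower A A'' B3 := .of_algebraMap_eq fun a => by
    rw [IsScalarTower.algebraMap_apply A A3 B3, IsScalarTower.algebraMap_apply A A'' A3,
      ← IsScalarTower.algebraMap_apply A'' A3 B3]
  let χ : B'' →ₐ[A] B3 := Algebra.pushoutDesc B'' (IsScalarTower.toAlgHom A B B3)
    (IsScalarTower.toAlgHom A A'' B3) (fun _ _ => mul_comm _ _)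
  have hχl : ∀ x : B, χ (algebraMap B B'' x) = algebraMap B B3 x := fun x =>
    Algebra.pushoutDesc_left B'' (IsScalarTower.toAlgHom A B B3)
      (IsScalarTower.toAlgHom A A'' B3) (fun _ _ => mul_comm _ _) x
  have hχr : ∀ x : A'', χ (algebraMap A'' B'' x) = algebraMap A'' B3 x := fun x =>
    Algebra.pushoutDesc_right B'' (IsScalarTower.toAlgHom A B B3)
      (IsScalarTower.toAlgHom A A'' B3) (fun _ _ => mul_comm _ _) x
  letI aB''B3 : Algebra B'' B3 := χ.toRingHom.toAlgebra
  haveI tBB''B3 : IsScalarTower B B'' B3 := .of_algebraMap_eq fun x => (hχl x).symm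
  haveI tA''B''B3 : IsScalarTower A'' B'' B3 := .of_algebraMap_eq fun x => (hχr x).symm
  haveI tAB''B3 : IsScalarTower A B'' B3 := .of_algebraMap_eq fun x => (χ.commutes x).symm
  -- pushout squares
  haveI hPa : Algebra.IsPushout A A' B B' := Algebra.IsPushout.symm inferInstance
  have hPb : Algebra.IsPushout A' A3 B' B3 := Algebra.IsPushout.symm inferInstance
  have hPc : Algebra.IsPushout A A3 B B3 := (Algebra.IsPushout.comp_iff A A' B B').mpr hPb
  haveI hPd : Algebra.IsPushout A A'' B B'' := Algebra.IsPushout.symm h1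
  haveI hPe : Algebra.IsPushout A'' A3 B'' B3 := (Algebra.IsPushout.comp_iff A A'' B B'').mp hPc
  haveI hFT : Algebra.FiniteType A'' B'' := by
    have e : A'' ⊗[A] B ≃ₐ[A''] B'' := Algebra.IsPushout.equiv A A'' B B''
    exact Algebra.FiniteType.equiv inferInstance e
  -- module structures on `N3`
  letI mBN3 : Module B N3 := Module.compHom N3 (algebraMap B B')
  haveI tBB'N3 : IsScalarTower B B' N3 := .of_algebraMap_smul fun _ _ => rfl
  haveI tBB3N3 : IsScalarTower B B3 N3 := .of_algebraMap_smul fun b n => by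
    rw [IsScalarTower.algebraMap_apply B B' B3, algebraMap_smul, algebraMap_smul]
  letI mB''N3 : Module B'' N3 := Module.compHom N3 (algebraMap B'' B3)
  haveI tB''B3N3 : IsScalarTower B'' B3 N3 := .of_algebraMap_smul fun _ _ => rfl
  haveI tBB''N3 : IsScalarTower B B'' N3 := .of_algebraMap_smul fun b n => by
    rw [← algebraMap_smul B3 (algebraMap B B'' b) n, ← IsScalarTower.algebraMap_apply B B'' B3,
      algebraMap_smul]
  let g0 : N →ₗ[B] N3 := (f3.restrictScalars B).comp f
  have hg0 : IsBaseChange B3 g0 := IsBaseChange.comp hf hf3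
  let f'' : N'' →ₗ[B''] N3 := h2.lift g0
  have hf'' : IsBaseChange B3 f'' := by
    refine IsBaseChange.of_comp h2 ?_
    have : (f''.restrictScalars B).comp g = g0 := h2.lift_comp _
    rw [this]
    exact hg0
  -- the prime of `B3`
  haveI hT'lo : T'.LiesOver t' := ⟨hT't'.symm⟩
  haveI : P.LiesOver t' := h5
  obtain ⟨P3, hP3p, hP3lo, hP3c, hP3ass⟩ :=
    exists_prime_ass_lift A'' B'' t' A3 T' B3 N'' N3 f'' hf'' P h6
  refine ⟨T', hT'p, P3, hP3p, inferInstance, hf3, hT'le, ⟨hTp.symm⟩, hP3lo, hP3ass, ?_⟩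
  intro P' hP'p hle hlo
  haveI : (P'.comap (algebraMap B'' B3)).IsPrime := Ideal.comap_isPrime _ _
  apply h7 (P'.comap (algebraMap B'' B3)) (hP3c ▸ Ideal.comap_mono hle)
  constructor
  rw [Ideal.under_def, Ideal.comap_comap, ← IsScalarTower.algebraMap_eq A'' B'' B3,
    IsScalarTower.algebraMap_eq A'' A3 B3, ← Ideal.comap_comap, ← hTt]
  congr 1
  exact hlo.over

end Assembly

section Main

/-- existential packaging of the base change `B' ⊗[A'] A3`, `(B' ⊗[A'] A3) ⊗[B'] N'` (so that the rings and modules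
are opaque local variables when used, keeping instance unification cheap). -/
theorem exists_baseChange_data (A' B' N' A3 : Type u) [CommRing A'] [CommRing B'] [Algebra A' B']
    [CommRing A3] [Algebra A' A3] [AddCommGroup N'] [Module B' N'] :
    ∃ (B3 N3 : Type u) (_ : CommRing B3) (_ : Algebra B' B3) (_ : Algebra A3 B3)
      (_ : Algebra A' B3) (_ : IsScalarTower A' B' B3) (_ : IsScalarTower A' A3 B3)
      (_ : Algebra.IsPushout A' B' A3 B3) (_ : AddCommGroup N3) (_ : Module B3 N3)
      (_ : Module B' N3) (_ : IsScalarTower B' B3 N3) (_ : Module A3 N3)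
      (_ : IsScalarTower A3 B3 N3) (f3 : N' →ₗ[B'] N3), IsBaseChange B3 f3 := by
  letI : Algebra A3 (B' ⊗[A'] A3) := Algebra.TensorProduct.rightAlgebra
  refine ⟨B' ⊗[A'] A3, (B' ⊗[A'] A3) ⊗[B'] N', inferInstance, inferInstance, inferInstance,
    inferInstance, inferInstance, inferInstance, inferInstance, inferInstance, inferInstance,
    inferInstance, inferInstance, Module.compHom _ (algebraMap A3 (B' ⊗[A'] A3)), ?_,
    TensorProduct.mk B' (B' ⊗[A'] A3) N' 1, TensorProduct.isBaseChange B' N' (B' ⊗[A'] A3)⟩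
  exact @IsScalarTower.of_algebraMap_smul A3 (B' ⊗[A'] A3) _ _ _ _ _
    (Module.compHom _ (algebraMap A3 (B' ⊗[A'] A3))).toSMul fun _ _ => rfl

/-- S1217: purity (resp. universal purity) along the fibre over `p'` of the base change implies purity (resp. universal
purity) along the fibre over `p`, when `A'_{p'}` is flat over `A`. -/
theorem main {A B : Type u} [CommRing A] [CommRing B] [Algebra A B] [Algebra.FiniteType A B]
    (N : Type u) [AddCommGroup N] [Module B N] (p : Ideal A) [p.IsPrime]
    (A' B' N' : Type u) [CommRing A'] [CommRing B'] [Algebra A A'] [Algebra B B'] [Algebra A' B'] [Algebra A B']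
    [IsScalarTower A B B'] [IsScalarTower A A' B'] [Algebra.IsPushout A B A' B']
    [AddCommGroup N'] [Module B' N'] [Module B N'] [IsScalarTower B B' N'] (f : N →ₗ[B] N') (hf : IsBaseChange B' f)
    (p' : Ideal A') [p'.IsPrime] [p'.LiesOver p] [Module.Flat A (Localization.AtPrime p')] :
    (FlatCA.IsPureAlong A' B' N' p' → FlatCA.IsPureAlong A B N p) ∧
    (FlatCA.IsUnivPureAlong A' B' N' p' → FlatCA.IsUnivPureAlong A B N p) := by
  constructor
  · intro hP A'' B'' N'' _ _ _ _ _ _ _ _ _ _ _ _ _ _ g t' t _ _ P _ hEt himp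
    haveI : t.LiesOver p := himp.2.2.2.1
    obtain ⟨T, hTp, hTt, hTp', hTet⟩ := exists_prime_etaleNhd p p' t hEt
    obtain ⟨B3, N3, _, _, _, _, _, _, _, _, _, _, _, _, _, f3, hf3⟩ :=
      exists_baseChange_data A' B' N' (A'' ⊗[A] A')
    obtain ⟨T', hT'p, P3, hP3p, himp'⟩ :=
      impurity_lift N p A' B' N' f hf p' A'' B'' N'' g t' t P B3 N3 f3 hf3 himp T hTt hTp'
    exact hP (A'' ⊗[A] A') B3 N3 f3 T' T P3 hTet himp'
  · intro hU A'' B'' N'' _ _ _ _ _ _ _ _ _ _ _ _ _ _ g t' t _ _ P _ himp
    haveI : t.LiesOver p := himp.2.2.2.1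
    obtain ⟨T, hTp, hTt, hTp'⟩ := exists_prime_over (A' := A') (A'' := A'') p p' t
    obtain ⟨B3, N3, _, _, _, _, _, _, _, _, _, _, _, _, _, f3, hf3⟩ :=
      exists_baseChange_data A' B' N' (A'' ⊗[A] A')
    obtain ⟨T', hT'p, P3, hP3p, himp'⟩ :=
      impurity_lift N p A' B' N' f hf p' A'' B'' N'' g t' t P B3 N3 f3 hf3 himp T hTt hTp'
    exact hU (A'' ⊗[A] A') B3 N3 f3 T' T P3 himp'

end Main

end Groth.Agent.Lib.R2H4.PureDescent
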