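import Mathlib
import Groth.Prelude.Def_FlatCA
import Groth.Agent.S1224
import Groth.Agent.Lib.R2H4RelAssInj
import Groth.Agent.Lib.R2H4PureDescent

/-!
# helper4 (round 2): purity along a fibre is insensitive to closed immersions of the ambient affine scheme (S8999)

* `isBaseChange_iff_of_isPushout`: base change of modules along a pushout square of rings can be tested over the base;
* `isAssociatedPrime_comap_iff`: associated primes along a surjective ring map;
* `ass_comap_iff_abstract`, `fiberIdeal_mem_ass_iff`: relative associated points of a module over `Spec C ⊆ Spec B`;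
* `isImpurity_comap_iff`: impurities over `Spec B` and over the closed subscheme `Spec C` correspond;
* `isPushout_quotient`, `map_ker_le_annihilator`, `exists_quot_data`, `exists_amb_data`: the two constructions;
* `impurity_sub`, `impurity_amb`, `main` (= S8999).
-/

set_option autoImplicit false
set_option linter.style.haveILetI false
set_option linter.unusedSectionVars false
universe u

namespace Groth.Agent.Lib.R2H4.PureClosed

open TensorProduct FlatCA

section S1

/-- Base change of modules along a pushout square of rings can be tested over the base. -/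
theorem isBaseChange_iff_of_isPushout
    (R S A B : Type*) [CommRing R] [CommRing S] [CommRing A] [CommRing B]
    [Algebra R S] [Algebra R A] [Algebra A B] [Algebra S B] [Algebra R B]
    [IsScalarTower R A B] [IsScalarTower R S B] [Algebra.IsPushout R S A B]
    (M N : Type*) [AddCommGroup M] [Module R M] [Module A M] [IsScalarTower R A M]
    [AddCommGroup N] [Module B N] [Module A N] [IsScalarTower A B N]
    [Module S N] [IsScalarTower S B N] [Module R N] [IsScalarTower R S N] [IsScalarTower R A N]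
    (g : M →ₗ[A] N) : IsBaseChange B g ↔ IsBaseChange S (g.restrictScalars R) := by
  constructor
  · intro hg
    refine IsBaseChange.of_equiv
      ((Algebra.IsPushout.cancelBaseChange R S A B M).symm ≪≫ₗ (hg.equiv.restrictScalars S)) ?_
    intro x
    simp [Algebra.IsPushout.cancelBaseChange_symm_tmul, IsBaseChange.equiv_tmul]
  · intro hg
    let L : B ⊗[A] M →ₗ[B] N := (TensorProduct.isBaseChange A M B).lift g
    have hL1 : ∀ (b : B) (m : M), L (b ⊗ₜ m) = b • g m := by
      intro b m
      have : (b ⊗ₜ[A] m : B ⊗[A] M) = b • ((TensorProduct.mk A B M 1) m) := by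
        simp [TensorProduct.smul_tmul']
      rw [this, map_smul, IsBaseChange.lift_eq]
    have key : ∀ y : S ⊗[R] M,
        L ((Algebra.IsPushout.cancelBaseChange R S A B M).symm y) = hg.equiv y := by
      intro y
      induction y with
      | zero => simp
      | add x y hx hy => simp only [map_add, hx, hy]
      | tmul s m =>
        rw [Algebra.IsPushout.cancelBaseChange_symm_tmul, hL1, IsBaseChange.equiv_tmul,
          algebraMap_smul]
        rfl
    have hbij : Function.Bijective L := by
      have : (L : B ⊗[A] M → N) =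
          (hg.equiv : S ⊗[R] M → N) ∘ (Algebra.IsPushout.cancelBaseChange R S A B M) := by
        funext x
        have := key (Algebra.IsPushout.cancelBaseChange R S A B M x)
        rw [LinearEquiv.symm_apply_apply] at this
        exact this
      rw [this]
      exact hg.equiv.bijective.comp (Algebra.IsPushout.cancelBaseChange R S A B M).bijective
    refine IsBaseChange.of_equiv (LinearEquiv.ofBijective L hbij) ?_
    intro x
    simp only [LinearEquiv.ofBijective_apply]
    have := hL1 1 x
    rwa [one_smul] at this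

end S1

section S2

theorem colon_comap {R R' : Type*} [CommRing R] [CommRing R'] [Algebra R R']
    (M : Type*) [AddCommGroup M] [Module R M] [Module R' M] [IsScalarTower R R' M] (x : M) :
    (⊥ : Submodule R M).colon {x} = ((⊥ : Submodule R' M).colon {x}).comap (algebraMap R R') := by
  ext r
  rw [Ideal.mem_comap, Submodule.mem_colon_singleton, Submodule.mem_colon_singleton,
    Submodule.mem_bot, Submodule.mem_bot, algebraMap_smul]

/-- associated primes along a surjective ring map -/
theorem isAssociatedPrime_comap_iff {R R' : Type*} [CommRing R] [CommRing R'] [Algebra R R']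
    (hs : Function.Surjective (algebraMap R R')) (M : Type*) [AddCommGroup M] [Module R M]
    [Module R' M] [IsScalarTower R R' M] (Q : Ideal R') [hQ : Q.IsPrime] :
    IsAssociatedPrime (Q.comap (algebraMap R R')) M ↔ IsAssociatedPrime Q M := by
  constructor
  · rintro ⟨_, x, hx⟩
    refine ⟨hQ, x, ?_⟩
    rw [colon_comap (R' := R'), ← Ideal.comap_radical] at hx
    exact Ideal.comap_injective_of_surjective _ hs hx
  · rintro ⟨_, x, hx⟩
    refine ⟨Ideal.comap_isPrime _ _, x, ?_⟩
    rw [colon_comap (R' := R'), ← Ideal.comap_radical, ← hx]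

end S2

section S3

/-- abstract comparison of associated primes of "fibre modules" along a surjection of rings -/
theorem ass_comap_iff_abstract (B2 C2 FB FC : Type u) [CommRing B2] [CommRing C2] [CommRing FB] [CommRing FC]
    [Algebra B2 C2] [Algebra B2 FB] [Algebra C2 FC] [Algebra FB FC] [Algebra B2 FC]
    [IsScalarTower B2 FB FC] [IsScalarTower B2 C2 FC] [Algebra.IsPushout B2 FB C2 FC]
    (hψ : Function.Surjective (algebraMap FB FC))
    (N2 MB MC : Type u) [AddCommGroup N2] [Module B2 N2] [Module C2 N2] [IsScalarTower B2 C2 N2]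
    [AddCommGroup MB] [Module FB MB] [Module B2 MB] [IsScalarTower B2 FB MB]
    [AddCommGroup MC] [Module FC MC] [Module C2 MC] [IsScalarTower C2 FC MC]
    (iB : N2 →ₗ[B2] MB) (hiB : IsBaseChange FB iB) (iC : N2 →ₗ[C2] MC) (hiC : IsBaseChange FC iC)
    (Q : Ideal FC) [Q.IsPrime] :
    Q ∈ associatedPrimes FC MC ↔ Q.comap (algebraMap FB FC) ∈ associatedPrimes FB MB := by
  letI mFB : Module FB MC := Module.compHom MC (algebraMap FB FC)
  haveI : IsScalarTower FB FC MC := .of_algebraMap_smul fun _ _ => rfl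
  letI mB2 : Module B2 MC := Module.compHom MC (algebraMap B2 C2)
  haveI : IsScalarTower B2 C2 MC := .of_algebraMap_smul fun _ _ => rfl
  haveI : IsScalarTower B2 FB MC := .of_algebraMap_smul fun b x => by
    rw [← algebraMap_smul FC (algebraMap B2 FB b) x, ← IsScalarTower.algebraMap_apply B2 FB FC,
      IsScalarTower.algebraMap_apply B2 C2 FC, algebraMap_smul, algebraMap_smul]
  have h1 : IsBaseChange FB (iC.restrictScalars B2) :=
    (isBaseChange_iff_of_isPushout B2 FB C2 FC N2 MC iC).mp hiC
  let e : MB ≃ₗ[FB] MC := hiB.equiv.symm ≪≫ₗ h1.equiv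
  rw [AssociatedPrimes.mem_iff, AssociatedPrimes.mem_iff, LinearEquiv.isAssociatedPrime_iff e]
  exact (isAssociatedPrime_comap_iff hψ MC Q).symm

end S3

section S4

attribute [local instance] Algebra.TensorProduct.rightAlgebra

/-- relative associated points do not change under a closed immersion of the ambient affine scheme -/
theorem fiberIdeal_mem_ass_iff (R B2 C2 : Type u) [CommRing R] [CommRing B2] [CommRing C2]
    [Algebra R B2] [Algebra R C2] [Algebra B2 C2] [IsScalarTower R B2 C2]
    (hs : Function.Surjective (algebraMap B2 C2))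
    (N2 : Type u) [AddCommGroup N2] [Module B2 N2] [Module C2 N2] [IsScalarTower B2 C2 N2]
    [Module R N2] [IsScalarTower R B2 N2] [IsScalarTower R C2 N2]
    (t' : Ideal R) [t'.IsPrime] (PC : Ideal C2) [PC.IsPrime] [PC.LiesOver t'] :
    fiberIdeal t' (PC.comap (algebraMap B2 C2)) ∈
        associatedPrimes (t'.Fiber B2) (fiberMod t' B2 N2) ↔
      fiberIdeal t' PC ∈ associatedPrimes (t'.Fiber C2) (fiberMod t' C2 N2) := by
  haveI hT1 : IsScalarTower B2 (t'.Fiber B2) (FlatCA.fiberMod t' B2 N2) :=
    inferInstanceAs (IsScalarTower B2 (t'.Fiber B2) ((t'.Fiber B2) ⊗[B2] N2))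
  haveI hT2 : IsScalarTower C2 (t'.Fiber C2) (FlatCA.fiberMod t' C2 N2) :=
    inferInstanceAs (IsScalarTower C2 (t'.Fiber C2) ((t'.Fiber C2) ⊗[C2] N2))
  let ψ : t'.Fiber B2 →ₐ[t'.ResidueField] t'.Fiber C2 :=
    Algebra.TensorProduct.map (AlgHom.id t'.ResidueField t'.ResidueField)
      (IsScalarTower.toAlgHom R B2 C2)
  have hψs : Function.Surjective ψ :=
    Algebra.TensorProduct.map_surjective (f := AlgHom.id t'.ResidueField t'.ResidueField)
      (g := IsScalarTower.toAlgHom R B2 C2) Function.surjective_id hs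
  letI aFF : Algebra (t'.Fiber B2) (t'.Fiber C2) := ψ.toRingHom.toAlgebra
  letI aBF : Algebra B2 (t'.Fiber C2) :=
    ((algebraMap C2 (t'.Fiber C2)).comp (algebraMap B2 C2)).toAlgebra
  haveI : IsScalarTower B2 C2 (t'.Fiber C2) := .of_algebraMap_eq fun _ => rfl
  haveI : IsScalarTower B2 (t'.Fiber B2) (t'.Fiber C2) := by
    refine IsScalarTower.of_algebraMap_eq (R := B2) (S := t'.Fiber B2) (A := t'.Fiber C2) fun b => ?_
    change (1 : t'.ResidueField) ⊗ₜ[R] (algebraMap B2 C2 b) = ψ ((1 : t'.ResidueField) ⊗ₜ[R] b)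
    simp [ψ]
  haveI : IsScalarTower t'.ResidueField (t'.Fiber B2) (t'.Fiber C2) :=
    .of_algebraMap_eq fun x => (ψ.commutes x).symm
  haveI : IsScalarTower R (t'.Fiber B2) (t'.Fiber C2) := by
    refine IsScalarTower.of_algebraMap_eq (R := R) (S := t'.Fiber B2) (A := t'.Fiber C2) fun x => ?_
    rw [IsScalarTower.algebraMap_apply R t'.ResidueField (t'.Fiber C2),
      IsScalarTower.algebraMap_apply R t'.ResidueField (t'.Fiber B2),
      ← IsScalarTower.algebraMap_apply t'.ResidueField (t'.Fiber B2) (t'.Fiber C2)]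
  have hP1 : Algebra.IsPushout B2 C2 (t'.Fiber B2) (t'.Fiber C2) :=
    (Algebra.IsPushout.comp_iff R B2 t'.ResidueField (t'.Fiber B2)).mp inferInstance
  haveI hP2 : Algebra.IsPushout B2 (t'.Fiber B2) C2 (t'.Fiber C2) := hP1.symm
  haveI hPCp : (PC.comap (algebraMap B2 C2)).LiesOver t' := by
    constructor
    rw [Ideal.under_def, Ideal.comap_comap, ← IsScalarTower.algebraMap_eq]
    exact (PC.over_def t')
  haveI hQp : (fiberIdeal t' PC).IsPrime := Groth.Agent.Lib.R2H4.RelAssInj.fiberIdeal_isPrime t' PC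
  have key := @ass_comap_iff_abstract B2 C2 (t'.Fiber B2) (t'.Fiber C2) _ _ _ _ _ _ _ _ _ _ _ _ hψs N2
    (FlatCA.fiberMod t' B2 N2) (FlatCA.fiberMod t' C2 N2) _ _ _ _ _ _ _ hT1 _ _ _ hT2
    (FlatCA.toFiberMod t' B2 N2) (TensorProduct.isBaseChange B2 N2 (t'.Fiber B2))
    (FlatCA.toFiberMod t' C2 N2) (TensorProduct.isBaseChange C2 N2 (t'.Fiber C2))
    (fiberIdeal t' PC) _
  rw [key]
  have heq : (fiberIdeal t' PC).comap (algebraMap (t'.Fiber B2) (t'.Fiber C2)) =
      fiberIdeal t' (PC.comap (algebraMap B2 C2)) := by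
    haveI : ((fiberIdeal t' PC).comap (algebraMap (t'.Fiber B2) (t'.Fiber C2))).IsPrime :=
      Ideal.comap_isPrime _ _
    rw [← Groth.Agent.Lib.R2H4.PureDescent.fiberIdeal_comap_eq R B2 t'
      ((fiberIdeal t' PC).comap (algebraMap (t'.Fiber B2) (t'.Fiber C2)))]
    congr 1
    have hcomp : (algebraMap (t'.Fiber B2) (t'.Fiber C2)).comp
        (Algebra.TensorProduct.includeRight (R := R) (A := t'.ResidueField) (B := B2)).toRingHom =
        ((Algebra.TensorProduct.includeRight (R := R) (A := t'.ResidueField)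
          (B := C2)).toRingHom).comp (algebraMap B2 C2) :=
      RingHom.ext fun b => by
        change ψ ((1 : t'.ResidueField) ⊗ₜ[R] b) = (1 : t'.ResidueField) ⊗ₜ[R] (algebraMap B2 C2 b)
        simp [ψ]
    rw [Ideal.comap_comap, hcomp, ← Ideal.comap_comap, Groth.Agent.S1224.comap_fiberIdeal t' PC]
  rw [heq]

end S4

section S5

section

variable (A B C : Type u) [CommRing A] [CommRing B] [CommRing C] [Algebra A B] [Algebra A C]
  [Algebra B C] [IsScalarTower A B C]
  (N : Type u) [AddCommGroup N] [Module C N] [Module B N] [IsScalarTower B C N]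
  (p : Ideal A) [p.IsPrime]
  (A2 B2 C2 : Type u) [CommRing A2] [CommRing B2] [CommRing C2] [Algebra A A2]
  [Algebra B B2] [Algebra A2 B2] [Algebra A B2] [IsScalarTower A B B2] [IsScalarTower A A2 B2]
  [Algebra C C2] [Algebra A2 C2] [Algebra A C2] [IsScalarTower A C C2] [IsScalarTower A A2 C2]
  [Algebra B2 C2] [IsScalarTower A2 B2 C2] [Algebra B C2] [IsScalarTower B C C2]
  [IsScalarTower B B2 C2]
  [Algebra.IsPushout A B A2 B2] [Algebra.IsPushout A C A2 C2]
  (hs : Function.Surjective (algebraMap B2 C2))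
  (N2 : Type u) [AddCommGroup N2] [Module B2 N2] [Module B N2] [IsScalarTower B B2 N2]
  [Module A2 N2] [IsScalarTower A2 B2 N2] [Module C2 N2] [Module C N2] [IsScalarTower C C2 N2]
  [IsScalarTower A2 C2 N2] [IsScalarTower B2 C2 N2] [IsScalarTower B C N2]
  (gB : N →ₗ[B] N2) (gC : N →ₗ[C] N2) (hg : ∀ n, gB n = gC n)
  (t' t : Ideal A2) [t'.IsPrime] [t.IsPrime] (PC : Ideal C2) [PC.IsPrime]

include hs hg in
/-- impurities over `Spec B` and over the closed subscheme `Spec C` correspond -/
theorem isImpurity_comap_iff :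
    IsImpurity A B N p A2 B2 N2 gB t' t (PC.comap (algebraMap B2 C2)) ↔
      IsImpurity A C N p A2 C2 N2 gC t' t PC := by
  haveI : IsScalarTower A B2 C2 := .of_algebraMap_eq fun a => by
    rw [IsScalarTower.algebraMap_apply A A2 C2, IsScalarTower.algebraMap_apply A2 B2 C2,
      ← IsScalarTower.algebraMap_apply A A2 B2]
  have hP : Algebra.IsPushout B C B2 C2 := (Algebra.IsPushout.comp_iff A B A2 B2).mp inferInstance
  haveI hP' : Algebra.IsPushout B B2 C C2 := hP.symm
  have hK : IsBaseChange C2 gC ↔ IsBaseChange B2 gB := by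
    have := isBaseChange_iff_of_isPushout B B2 C C2 N N2 gC
    have e : gC.restrictScalars B = gB := LinearMap.ext fun n => (hg n).symm
    rwa [e] at this
  have h5 : ∀ (Q : Ideal C2), (Q.comap (algebraMap B2 C2)).LiesOver t' ↔ Q.LiesOver t' := by
    intro Q
    constructor
    · intro h
      constructor
      have := h.over
      rw [Ideal.under_def, Ideal.comap_comap, ← IsScalarTower.algebraMap_eq] at this
      exact this
    · intro h
      constructor
      rw [Ideal.under_def, Ideal.comap_comap, ← IsScalarTower.algebraMap_eq]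
      exact h.over
  have h5t : ∀ (Q : Ideal C2), (Q.comap (algebraMap B2 C2)).LiesOver t ↔ Q.LiesOver t := by
    intro Q
    constructor
    · intro h
      constructor
      have := h.over
      rw [Ideal.under_def, Ideal.comap_comap, ← IsScalarTower.algebraMap_eq] at this
      exact this
    · intro h
      constructor
      rw [Ideal.under_def, Ideal.comap_comap, ← IsScalarTower.algebraMap_eq]
      exact h.over
  unfold IsImpurity
  refine and_congr (iff_of_true inferInstance inferInstance)
    (and_congr hK.symm (and_congr Iff.rfl (and_congr Iff.rfl ?_)))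
  constructor
  · rintro ⟨h5', h6, h7⟩
    haveI hPC : PC.LiesOver t' := (h5 PC).mp h5'
    refine ⟨hPC, (fiberIdeal_mem_ass_iff A2 B2 C2 hs N2 t' PC).mp h6, ?_⟩
    intro Q' hQ' hle hlo
    exact h7 (Q'.comap (algebraMap B2 C2)) (Ideal.comap_mono hle) ((h5t Q').mpr hlo)
  · rintro ⟨hPC, h6, h7⟩
    refine ⟨(h5 PC).mpr hPC, (fiberIdeal_mem_ass_iff A2 B2 C2 hs N2 t' PC).mpr h6, ?_⟩
    intro P' hP' hle hlo
    have hker : RingHom.ker (algebraMap B2 C2) ≤ P' := by
      refine le_trans ?_ hle
      intro x hx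
      rw [Ideal.mem_comap, (RingHom.mem_ker).mp hx]
      exact PC.zero_mem
    haveI : (P'.map (algebraMap B2 C2)).IsPrime := Ideal.map_isPrime_of_surjective hs hker
    have hcm : (P'.map (algebraMap B2 C2)).comap (algebraMap B2 C2) = P' := by
      rw [Ideal.comap_map_of_surjective _ hs]
      exact sup_eq_left.mpr hker
    apply h7 (P'.map (algebraMap B2 C2))
    · rw [← Ideal.map_comap_of_surjective _ hs PC]
      exact Ideal.map_mono hle
    · rw [← h5t, hcm]
      exact hlo

end

end S5

section S6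

attribute [local instance] Algebra.TensorProduct.rightAlgebra in
/-- quotient by an extended ideal is a pushout -/
theorem isPushout_quotient {A B : Type u} [CommRing A] [CommRing B] [Algebra A B] (I : Ideal A) :
    Algebra.IsPushout A B (A ⧸ I) (B ⧸ I.map (algebraMap A B)) := by
  have h : Algebra.IsPushout A B (A ⧸ I) (B ⊗[A] (A ⧸ I)) := inferInstance
  refine Algebra.IsPushout.of_equiv (h := h)
    (Algebra.TensorProduct.quotIdealMapEquivTensorQuot B I).symm ?_
  ext a
  change (Algebra.TensorProduct.quotIdealMapEquivTensorQuot B I).symm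
    ((1 : B) ⊗ₜ[A] (Ideal.Quotient.mk I a)) = _
  rw [Algebra.TensorProduct.quotIdealMapEquivTensorQuot_symm_tmul]
  change Ideal.Quotient.mk (I.map (algebraMap A B)) (a • (1 : B)) =
    Ideal.Quotient.mk (I.map (algebraMap A B)) (algebraMap A B a)
  rw [Algebra.algebraMap_eq_smul_one]

/-- the extended kernel kills the base change of a module over the quotient -/
theorem map_ker_le_annihilator (B C : Type u) [CommRing B] [CommRing C] [Algebra B C]
    (N : Type u) [AddCommGroup N] [Module C N] [Module B N] [IsScalarTower B C N]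
    (B2 N2 : Type u) [CommRing B2] [Algebra B B2] [AddCommGroup N2] [Module B2 N2] [Module B N2]
    [IsScalarTower B B2 N2] (gB : N →ₗ[B] N2) (hgB : IsBaseChange B2 gB) :
    (RingHom.ker (algebraMap B C)).map (algebraMap B B2) ≤ Module.annihilator B2 N2 := by
  rw [Ideal.map_le_iff_le_comap]
  intro i hi
  rw [Ideal.mem_comap, Module.mem_annihilator]
  intro x
  refine hgB.inductionOn x (fun x => algebraMap B B2 i • x = 0) (smul_zero _) ?_ ?_ ?_
  · intro n
    rw [algebraMap_smul, ← map_smul, ← algebraMap_smul C i n, (RingHom.mem_ker).mp hi, zero_smul,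
      map_zero]
  · intro s n hn
    change algebraMap B B2 i • s • n = 0
    rw [smul_comm, hn, smul_zero]
  · intro n₁ n₂ h₁ h₂
    change algebraMap B B2 i • (n₁ + n₂) = 0
    rw [smul_add, h₁, h₂, add_zero]

end S6

section S7

/-- Direction 1: the closed subscheme data `C2 = B2 ⧸ (ker (B → C)) B2`, with all the structure. -/
theorem exists_quot_data (A B C : Type u) [CommRing A] [CommRing B] [CommRing C] [Algebra A B]
    [Algebra A C] [Algebra B C] [IsScalarTower A B C] (hBC : Function.Surjective (algebraMap B C))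
    (N : Type u) [AddCommGroup N] [Module C N] [Module B N] [IsScalarTower B C N]
    (A2 B2 : Type u) [CommRing A2] [CommRing B2] [Algebra A A2]
    [Algebra B B2] [Algebra A2 B2] [Algebra A B2] [IsScalarTower A B B2] [IsScalarTower A A2 B2]
    [Algebra.IsPushout A B A2 B2]
    (N2 : Type u) [AddCommGroup N2] [Module B2 N2] [Module B N2] [IsScalarTower B B2 N2]
    [Module A2 N2] [IsScalarTower A2 B2 N2] (gB : N →ₗ[B] N2) (hgB : IsBaseChange B2 gB) :
    ∃ (C2 : Type u) (_ : CommRing C2) (_ : Algebra C C2) (_ : Algebra A2 C2) (_ : Algebra A C2)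
      (_ : IsScalarTower A C C2) (_ : IsScalarTower A A2 C2) (_ : Algebra B2 C2)
      (_ : IsScalarTower A2 B2 C2) (_ : Algebra B C2) (_ : IsScalarTower B C C2)
      (_ : IsScalarTower B B2 C2) (_ : Algebra.IsPushout A C A2 C2) (_ : Module C2 N2)
      (_ : Module C N2) (_ : IsScalarTower C C2 N2) (_ : IsScalarTower A2 C2 N2)
      (_ : IsScalarTower B2 C2 N2) (_ : IsScalarTower B C N2),
      Function.Surjective (algebraMap B2 C2) ∧
        RingHom.ker (algebraMap B2 C2) = (RingHom.ker (algebraMap B C)).map (algebraMap B B2) := by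
  let I : Ideal B := RingHom.ker (algebraMap B C)
  let J : Ideal B2 := I.map (algebraMap B B2)
  have hJann : J ≤ Module.annihilator B2 N2 := map_ker_le_annihilator B C N B2 N2 gB hgB
  have htor : Module.IsTorsionBySet B2 N2 (J : Set B2) := by
    intro x a
    exact Module.mem_annihilator.mp (hJann a.2) x
  let e : B ⧸ I ≃+* C := RingHom.quotientKerEquivOfSurjective hBC
  have he : ∀ b : B, e.symm (algebraMap B C b) = Ideal.Quotient.mk I b := by
    intro b
    rw [RingEquiv.symm_apply_eq]
    exact (RingHom.quotientKerEquivOfSurjective_apply_mk hBC b).symm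
  let ρ : C →+* (B2 ⧸ J) := (algebraMap (B ⧸ I) (B2 ⧸ J)).comp e.symm.toRingHom
  have hρ : ∀ b : B, ρ (algebraMap B C b) = algebraMap B (B2 ⧸ J) b := by
    intro b
    change algebraMap (B ⧸ I) (B2 ⧸ J) (e.symm (algebraMap B C b)) = _
    rw [he, Ideal.Quotient.algebraMap_quotient_map_quotient]
    rfl
  letI aCC2 : Algebra C (B2 ⧸ J) := ρ.toAlgebra
  haveI tBCC2 : IsScalarTower B C (B2 ⧸ J) := .of_algebraMap_eq fun b => (hρ b).symm
  haveI tABC2 : IsScalarTower A B (B2 ⧸ J) := .of_algebraMap_eq fun a => by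
    rw [IsScalarTower.algebraMap_apply A B2 (B2 ⧸ J), IsScalarTower.algebraMap_apply A B B2,
      ← IsScalarTower.algebraMap_apply B B2 (B2 ⧸ J)]
  haveI tACC2 : IsScalarTower A C (B2 ⧸ J) := .of_algebraMap_eq fun a => by
    rw [IsScalarTower.algebraMap_apply A B (B2 ⧸ J), IsScalarTower.algebraMap_apply A B C,
      ← IsScalarTower.algebraMap_apply B C (B2 ⧸ J)]
  -- the pushout
  have hQ : Algebra.IsPushout B B2 (B ⧸ I) (B2 ⧸ J) := isPushout_quotient I
  let eL : C ≃ₗ[B] (B ⧸ I) :=
    { e.symm.toAddEquiv with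
      map_smul' := fun b c => by
        change e.symm (b • c) = b • e.symm c
        rw [Algebra.smul_def, map_mul, he, Algebra.smul_def]
        rfl }
  have hP1 : Algebra.IsPushout B B2 C (B2 ⧸ J) := by
    constructor
    have := IsBaseChange.comp_equiv eL _ hQ.out
    convert this using 1
    exact LinearMap.ext fun c => rfl
  have hP2 : Algebra.IsPushout B C B2 (B2 ⧸ J) := hP1.symm
  have hP3 : Algebra.IsPushout A C A2 (B2 ⧸ J) := (Algebra.IsPushout.comp_iff A B A2 B2).mpr hP2
  -- module structures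
  letI mC2 : Module (B2 ⧸ J) N2 := htor.module
  haveI tB2 : IsScalarTower B2 (B2 ⧸ J) N2 := htor.isScalarTower
  haveI tA2 : IsScalarTower A2 (B2 ⧸ J) N2 := htor.isScalarTower
  letI mC : Module C N2 := Module.compHom N2 ρ
  haveI tC : IsScalarTower C (B2 ⧸ J) N2 := .of_algebraMap_smul fun _ _ => rfl
  haveI tBC : IsScalarTower B C N2 := .of_algebraMap_smul fun b n => by
    change ρ (algebraMap B C b) • n = b • n
    rw [hρ, IsScalarTower.algebraMap_apply B B2 (B2 ⧸ J), algebraMap_smul, algebraMap_smul]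
  refine ⟨B2 ⧸ J, inferInstance, aCC2, inferInstance, inferInstance, tACC2, inferInstance,
    inferInstance, inferInstance, inferInstance, tBCC2, inferInstance, hP3, mC2, mC, tC, tA2, tB2,
    tBC, ?_, ?_⟩
  · exact Ideal.Quotient.mk_surjective
  · change RingHom.ker (Ideal.Quotient.mk J) = _
    rw [Ideal.mk_ker]

end S7

section S8

attribute [local instance] Algebra.TensorProduct.rightAlgebra

/-- Direction 2: the ambient data `B2 = B ⊗[A] A2` over given closed subscheme data `C2`. -/
theorem exists_amb_data (A B C : Type u) [CommRing A] [CommRing B] [CommRing C] [Algebra A B]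
    [Algebra A C] [Algebra B C] [IsScalarTower A B C] (hBC : Function.Surjective (algebraMap B C))
    (A2 C2 : Type u) [CommRing A2] [CommRing C2] [Algebra A A2]
    [Algebra C C2] [Algebra A2 C2] [Algebra A C2] [IsScalarTower A C C2] [IsScalarTower A A2 C2]
    [Algebra.IsPushout A C A2 C2]
    (N2 : Type u) [AddCommGroup N2] [Module C2 N2] [Module C N2] [IsScalarTower C C2 N2]
    [Module A2 N2] [IsScalarTower A2 C2 N2] :
    ∃ (B2 : Type u) (_ : CommRing B2) (_ : Algebra B B2) (_ : Algebra A2 B2) (_ : Algebra A B2)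
      (_ : IsScalarTower A B B2) (_ : IsScalarTower A A2 B2) (_ : Algebra B2 C2)
      (_ : IsScalarTower A2 B2 C2) (_ : Algebra B C2) (_ : IsScalarTower B C C2)
      (_ : IsScalarTower B B2 C2) (_ : Algebra.IsPushout A B A2 B2) (_ : Module B2 N2)
      (_ : Module B N2) (_ : IsScalarTower B B2 N2) (_ : IsScalarTower A2 B2 N2)
      (_ : IsScalarTower B2 C2 N2) (_ : IsScalarTower B C N2),
      Function.Surjective (algebraMap B2 C2) := by
  letI aBC2 : Algebra B C2 := ((algebraMap C C2).comp (algebraMap B C)).toAlgebra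
  haveI tBCC2 : IsScalarTower B C C2 := .of_algebraMap_eq fun _ => rfl
  haveI tABC2 : IsScalarTower A B C2 := .of_algebraMap_eq fun a => by
    rw [IsScalarTower.algebraMap_apply A C C2, IsScalarTower.algebraMap_apply A B C,
      ← IsScalarTower.algebraMap_apply B C C2]
  let χ : B ⊗[A] A2 →ₐ[A] C2 := Algebra.pushoutDesc (B ⊗[A] A2) (IsScalarTower.toAlgHom A B C2)
    (IsScalarTower.toAlgHom A A2 C2) (fun _ _ => mul_comm _ _)
  have hχl : ∀ x : B, χ (algebraMap B (B ⊗[A] A2) x) = algebraMap B C2 x := fun x =>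
    Algebra.pushoutDesc_left (B ⊗[A] A2) (IsScalarTower.toAlgHom A B C2)
      (IsScalarTower.toAlgHom A A2 C2) (fun _ _ => mul_comm _ _) x
  have hχr : ∀ x : A2, χ (algebraMap A2 (B ⊗[A] A2) x) = algebraMap A2 C2 x := fun x =>
    Algebra.pushoutDesc_right (B ⊗[A] A2) (IsScalarTower.toAlgHom A B C2)
      (IsScalarTower.toAlgHom A A2 C2) (fun _ _ => mul_comm _ _) x
  letI aB2C2 : Algebra (B ⊗[A] A2) C2 := χ.toRingHom.toAlgebra
  haveI tBB2C2 : IsScalarTower B (B ⊗[A] A2) C2 := .of_algebraMap_eq fun x => (hχl x).symm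
  haveI tA2B2C2 : IsScalarTower A2 (B ⊗[A] A2) C2 := .of_algebraMap_eq fun x => (hχr x).symm
  -- surjectivity
  have hsurj : Function.Surjective (algebraMap (B ⊗[A] A2) C2) := by
    intro y
    obtain ⟨x, rfl⟩ := (Algebra.IsPushout.equiv A C A2 C2).surjective y
    induction x with
    | zero => exact ⟨0, by simp⟩
    | add x y hx hy =>
      obtain ⟨x', hx'⟩ := hx
      obtain ⟨y', hy'⟩ := hy
      exact ⟨x' + y', by rw [map_add, map_add, hx', hy']⟩
    | tmul c a =>
      obtain ⟨b, rfl⟩ := hBC c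
      refine ⟨algebraMap B (B ⊗[A] A2) b * algebraMap A2 (B ⊗[A] A2) a, ?_⟩
      rw [map_mul, Algebra.IsPushout.equiv_tmul, ← IsScalarTower.algebraMap_apply B (B ⊗[A] A2) C2,
        ← IsScalarTower.algebraMap_apply A2 (B ⊗[A] A2) C2,
        ← IsScalarTower.algebraMap_apply B C C2]
  -- modules
  letI mB2 : Module (B ⊗[A] A2) N2 := Module.compHom N2 (algebraMap (B ⊗[A] A2) C2)
  haveI tB2C2 : IsScalarTower (B ⊗[A] A2) C2 N2 := .of_algebraMap_smul fun _ _ => rfl
  letI mB : Module B N2 := Module.compHom N2 (algebraMap B C)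
  haveI tBCN : IsScalarTower B C N2 := .of_algebraMap_smul fun _ _ => rfl
  haveI tBB2N : IsScalarTower B (B ⊗[A] A2) N2 := .of_algebraMap_smul fun b n => by
    rw [← algebraMap_smul C2 (algebraMap B (B ⊗[A] A2) b) n,
      ← IsScalarTower.algebraMap_apply B (B ⊗[A] A2) C2, IsScalarTower.algebraMap_apply B C C2,
      algebraMap_smul, algebraMap_smul]
  haveI tA2B2N : IsScalarTower A2 (B ⊗[A] A2) N2 := .of_algebraMap_smul fun a n => by
    rw [← algebraMap_smul C2 (algebraMap A2 (B ⊗[A] A2) a) n,
      ← IsScalarTower.algebraMap_apply A2 (B ⊗[A] A2) C2, algebraMap_smul]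
  exact ⟨B ⊗[A] A2, inferInstance, inferInstance, inferInstance, inferInstance, inferInstance,
    inferInstance, aB2C2, tA2B2C2, aBC2, tBCC2, tBB2C2, inferInstance, mB2, mB, tBB2N, tA2B2N,
    tB2C2, tBCN, hsurj⟩

end S8

section S9

section

variable (A B C : Type u) [CommRing A] [CommRing B] [CommRing C] [Algebra A B] [Algebra A C]
  [Algebra B C] [IsScalarTower A B C] (hBC : Function.Surjective (algebraMap B C))
  (N : Type u) [AddCommGroup N] [Module C N] [Module B N] [IsScalarTower B C N]
  (p : Ideal A) [p.IsPrime]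

include hBC in
/-- an impurity of `N` over `Spec B` gives one over the closed subscheme `Spec C`, over the same base change. -/
theorem impurity_sub (A2 B2 N2 : Type u) [CommRing A2] [CommRing B2] [Algebra A A2] [Algebra B B2]
    [Algebra A2 B2] [Algebra A B2] [IsScalarTower A B B2] [IsScalarTower A A2 B2]
    [AddCommGroup N2] [Module B2 N2] [Module B N2] [IsScalarTower B B2 N2] [Module A2 N2]
    [IsScalarTower A2 B2 N2] (gB : N →ₗ[B] N2) (t' t : Ideal A2) [t'.IsPrime] [t.IsPrime]
    (P : Ideal B2) [P.IsPrime] (himp : IsImpurity A B N p A2 B2 N2 gB t' t P) :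
    ∃ (C2 : Type u) (_ : CommRing C2) (_ : Algebra C C2) (_ : Algebra A2 C2) (_ : Algebra A C2)
      (_ : IsScalarTower A C C2) (_ : IsScalarTower A A2 C2) (_ : Module C2 N2) (_ : Module C N2)
      (_ : IsScalarTower C C2 N2) (_ : IsScalarTower A2 C2 N2) (gC : N →ₗ[C] N2)
      (PC : Ideal C2) (_ : PC.IsPrime), IsImpurity A C N p A2 C2 N2 gC t' t PC := by
  obtain ⟨h1, h2, h3, h4, h5, h6, h7⟩ := himp
  haveI := h1
  haveI := h5
  obtain ⟨C2, iC2, aCC2, aA2C2, aAC2, t1, t2, aB2C2, t3, aBC2, t4, t5, hP, mC2, mC, t6, t7, t8, t9,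
    hsurj, hker⟩ := exists_quot_data A B C hBC N A2 B2 N2 gB h2
  let gC : N →ₗ[C] N2 :=
    { toFun := gB
      map_add' := gB.map_add
      map_smul' := fun c n => by
        obtain ⟨b, rfl⟩ := hBC c
        simp only [RingHom.id_apply, algebraMap_smul, map_smul] }
  have hkP : RingHom.ker (algebraMap B2 C2) ≤ P := by
    rw [hker]
    exact (map_ker_le_annihilator B C N B2 N2 gB h2).trans
      (Groth.Agent.S1224.annihilator_le_of_fiberIdeal_mem t' N2 P h6)
  haveI hPCp : (P.map (algebraMap B2 C2)).IsPrime := Ideal.map_isPrime_of_surjective hsurj hkP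
  have hcm : (P.map (algebraMap B2 C2)).comap (algebraMap B2 C2) = P := by
    rw [Ideal.comap_map_of_surjective _ hsurj]
    exact sup_eq_left.mpr hkP
  refine ⟨C2, iC2, aCC2, aA2C2, aAC2, t1, t2, mC2, mC, t6, t7, gC, P.map (algebraMap B2 C2), hPCp, ?_⟩
  have key := (isImpurity_comap_iff A B C N p A2 B2 C2 hsurj N2 gB gC (fun _ => rfl) t' t
    (P.map (algebraMap B2 C2))).mp
  have hgen : ∀ (P' : Ideal B2) [P'.IsPrime], P' = P →
      IsImpurity A B N p A2 B2 N2 gB t' t P' := by
    intro P' _ h
    subst h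
    exact ⟨h1, h2, h3, h4, h5, h6, h7⟩
  exact key (hgen _ hcm)

include hBC in
/-- an impurity of `N` over the closed subscheme `Spec C` gives one over `Spec B`, over the same base change. -/
theorem impurity_amb (A2 C2 N2 : Type u) [CommRing A2] [CommRing C2] [Algebra A A2] [Algebra C C2]
    [Algebra A2 C2] [Algebra A C2] [IsScalarTower A C C2] [IsScalarTower A A2 C2]
    [AddCommGroup N2] [Module C2 N2] [Module C N2] [IsScalarTower C C2 N2] [Module A2 N2]
    [IsScalarTower A2 C2 N2] (gC : N →ₗ[C] N2) (t' t : Ideal A2) [t'.IsPrime] [t.IsPrime]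
    (PC : Ideal C2) [PC.IsPrime] (himp : IsImpurity A C N p A2 C2 N2 gC t' t PC) :
    ∃ (B2 : Type u) (_ : CommRing B2) (_ : Algebra B B2) (_ : Algebra A2 B2) (_ : Algebra A B2)
      (_ : IsScalarTower A B B2) (_ : IsScalarTower A A2 B2) (_ : Module B2 N2) (_ : Module B N2)
      (_ : IsScalarTower B B2 N2) (_ : IsScalarTower A2 B2 N2) (gB : N →ₗ[B] N2)
      (P : Ideal B2) (_ : P.IsPrime), IsImpurity A B N p A2 B2 N2 gB t' t P := by
  haveI := himp.1
  obtain ⟨B2, iB2, aBB2, aA2B2, aAB2, t1, t2, aB2C2, t3, aBC2, t4, t5, hP, mB2, mB, t6, t7, t8, t9,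
    hsurj⟩ := exists_amb_data A B C hBC A2 C2 N2
  let gB : N →ₗ[B] N2 :=
    { toFun := gC
      map_add' := gC.map_add
      map_smul' := fun b n => by
        simp only [RingHom.id_apply]
        rw [← algebraMap_smul C b n, map_smul, algebraMap_smul] }
  refine ⟨B2, iB2, aBB2, aA2B2, aAB2, t1, t2, mB2, mB, t6, t7, gB, PC.comap (algebraMap B2 C2),
    Ideal.comap_isPrime _ _, ?_⟩
  exact (isImpurity_comap_iff A B C N p A2 B2 C2 hsurj N2 gB gC (fun _ => rfl) t' t PC).mpr himp

include hBC in
theorem main : (FlatCA.IsPureAlong A C N p ↔ FlatCA.IsPureAlong A B N p) ∧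
    (FlatCA.IsUnivPureAlong A C N p ↔ FlatCA.IsUnivPureAlong A B N p) := by
  refine ⟨⟨?_, ?_⟩, ⟨?_, ?_⟩⟩
  · intro hC A2 B2 N2 _ _ _ _ _ _ _ _ _ _ _ _ _ _ gB t' t _ _ P _ hEt himp
    obtain ⟨C2, _, _, _, _, _, _, _, _, _, _, gC, PC, _, himpC⟩ :=
      impurity_sub A B C hBC N p A2 B2 N2 gB t' t P himp
    exact hC A2 C2 N2 gC t' t PC hEt himpC
  · intro hB A2 C2 N2 _ _ _ _ _ _ _ _ _ _ _ _ _ _ gC t' t _ _ PC _ hEt himp
    obtain ⟨B2, _, _, _, _, _, _, _, _, _, _, gB, P, _, himpB⟩ :=
      impurity_amb A B C hBC N p A2 C2 N2 gC t' t PC himp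
    exact hB A2 B2 N2 gB t' t P hEt himpB
  · intro hC A2 B2 N2 _ _ _ _ _ _ _ _ _ _ _ _ _ _ gB t' t _ _ P _ himp
    obtain ⟨C2, _, _, _, _, _, _, _, _, _, _, gC, PC, _, himpC⟩ :=
      impurity_sub A B C hBC N p A2 B2 N2 gB t' t P himp
    exact hC A2 C2 N2 gC t' t PC himpC
  · intro hB A2 C2 N2 _ _ _ _ _ _ _ _ _ _ _ _ _ _ gC t' t _ _ PC _ himp
    obtain ⟨B2, _, _, _, _, _, _, _, _, _, _, gB, P, _, himpB⟩ :=
      impurity_amb A B C hBC N p A2 C2 N2 gC t' t PC himp
    exact hB A2 B2 N2 gB t' t P himpB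

end

end S9

end Groth.Agent.Lib.R2H4.PureClosed
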