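import Mathlib
import Groth.Prelude.Def_FlatCA
import Groth.Agent.S1224
import Groth.Agent.Lib.Helper13Fiber

/-!
# helper4 (round 2): flat finite type algebras with geometrically integral fibres are universally pure
-/

set_option autoImplicit false
set_option linter.style.haveILetI false
universe u

namespace Groth.Agent.Lib.R2H4.PureGI

open TensorProduct FlatCA AlgebraicGeometry CategoryTheory

attribute [local instance] Algebra.TensorProduct.rightAlgebra

/-- the pushout of a geometrically integral `Spec B → Spec A` along a field valued point is a domain. -/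
theorem isDomain_of_isPushout {A B : Type u} [CommRing A] [CommRing B] [Algebra A B]
    (h : GeomIntegralFibres A B) (K T : Type u) [Field K] [CommRing T] [Algebra A K] [Algebra B T]
    [Algebra K T] [Algebra A T] [IsScalarTower A B T] [IsScalarTower A K T]
    [Algebra.IsPushout A B K T] : IsDomain T := by
  have h1 := CommRingCat.isPushout_of_isPushout A B K T
  have h2 := isPullback_SpecMap_of_isPushout _ _ _ _ h1
  have h3 : IsIntegral (Spec (.of T)) :=
    h.geometrically_isIntegral (Spec.map (CommRingCat.ofHom (algebraMap A K))) _ _ h2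
  exact (affine_isIntegral_iff (.of T)).1 h3

/-- geometric integrality of the fibres passes to the fibre rings of a base change. -/
theorem isDomain_tensor_of_isPushout {A B A' B' : Type u} [CommRing A] [CommRing B] [CommRing A']
    [CommRing B'] [Algebra A B] [Algebra A A'] [Algebra B B'] [Algebra A' B'] [Algebra A B']
    [IsScalarTower A B B'] [IsScalarTower A A' B'] (hpush : Algebra.IsPushout A B A' B')
    (h : GeomIntegralFibres A B) (K : Type u) [Field K] [Algebra A' K] : IsDomain (K ⊗[A'] B') := by
  letI : Algebra A K := ((algebraMap A' K).comp (algebraMap A A')).toAlgebra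
  haveI : IsScalarTower A A' K := IsScalarTower.of_algebraMap_eq (fun _ => rfl)
  letI : Algebra B (K ⊗[A'] B') := ((algebraMap B' (K ⊗[A'] B')).comp (algebraMap B B')).toAlgebra
  haveI : IsScalarTower B B' (K ⊗[A'] B') := IsScalarTower.of_algebraMap_eq (fun _ => rfl)
  haveI : IsScalarTower A K (K ⊗[A'] B') := IsScalarTower.of_algebraMap_eq (fun a => by
    rw [IsScalarTower.algebraMap_apply A A' K]
    rfl)
  haveI : IsScalarTower A A' (K ⊗[A'] B') := IsScalarTower.of_algebraMap_eq (fun a => by
    rw [IsScalarTower.algebraMap_apply A' K (K ⊗[A'] B'), IsScalarTower.algebraMap_apply A K (K ⊗[A'] B'),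
      IsScalarTower.algebraMap_apply A A' K])
  haveI : IsScalarTower A B' (K ⊗[A'] B') := IsScalarTower.of_algebraMap_eq (fun a => by
    rw [IsScalarTower.algebraMap_apply A A' (K ⊗[A'] B'), IsScalarTower.algebraMap_apply A A' B',
      ← IsScalarTower.algebraMap_apply A' B' (K ⊗[A'] B')])
  haveI : IsScalarTower A B (K ⊗[A'] B') := IsScalarTower.of_algebraMap_eq (fun a => by
    rw [IsScalarTower.algebraMap_apply B B' (K ⊗[A'] B'), ← IsScalarTower.algebraMap_apply A B B',
      IsScalarTower.algebraMap_apply A B' (K ⊗[A'] B')])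
  haveI : Algebra.IsPushout A A' B B' := hpush.symm
  haveI : Algebra.IsPushout A K B (K ⊗[A'] B') :=
    (Algebra.IsPushout.comp_iff A A' B (S' := B') (T := K) (T' := K ⊗[A'] B')).2 inferInstance
  haveI : Algebra.IsPushout A B K (K ⊗[A'] B') := Algebra.IsPushout.symm inferInstance
  exact isDomain_of_isPushout h K (K ⊗[A'] B')

section GoingDown

variable {R : Type u} [CommRing R] {S : Type u} [CommRing S] [Algebra R S]
  {M : Type u} [AddCommGroup M] [Module S M]

/-- For a flat algebra with integral fibre rings over `t' ≤ t`, a fibrewise associated point of a free rank one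
module over `t'` (the generic point of the fibre) specializes to a point over `t`. -/
theorem exists_prime_over_of_flat [Module.Flat R S] (e0 : M ≃ₗ[S] S) (t' t : Ideal R) [t'.IsPrime]
    [t.IsPrime] (hle : t' ≤ t) [IsDomain (t'.Fiber S)] [Nontrivial (t.Fiber S)]
    (P : Ideal S) [P.IsPrime] [P.LiesOver t']
    (hass : fiberIdeal t' P ∈ associatedPrimes (t'.Fiber S) (fiberMod t' S M)) :
    ∃ P' : Ideal S, P'.IsPrime ∧ P ≤ P' ∧ P'.LiesOver t := by
  -- the fibre module is free of rank one
  let e : fiberMod t' S M ≃ₗ[t'.Fiber S] t'.Fiber S :=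
    (AlgebraTensorModule.congr (LinearEquiv.refl (t'.Fiber S) (t'.Fiber S)) e0) ≪≫ₗ
      AlgebraTensorModule.rid S (t'.Fiber S) (t'.Fiber S)
  -- step 1: the extension of `P` to the fibre ring is zero
  have hbot : fiberIdeal t' P = ⊥ := by
    obtain ⟨hprime, x, hx⟩ := hass
    have hx0 : x ≠ 0 := by
      rintro rfl
      apply hprime.ne_top
      rw [hx, Ideal.eq_top_iff_one]
      apply Ideal.le_radical
      rw [Submodule.mem_colon_singleton, smul_zero]
      exact Submodule.zero_mem _
    rw [eq_bot_iff]
    intro a ha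
    rw [hx] at ha
    obtain ⟨n, hn⟩ := ha
    rw [Submodule.mem_colon_singleton, Submodule.mem_bot] at hn
    have h1 : a ^ n * e x = 0 := by
      rw [← smul_eq_mul, ← map_smul, hn, map_zero]
    rcases mul_eq_zero.mp h1 with h2 | h2
    · exact (Submodule.mem_bot _).2 (eq_zero_of_pow_eq_zero h2)
    · exact absurd (e.map_eq_zero_iff.1 h2) hx0
  -- step 2: a prime over `t`
  obtain ⟨m, hm⟩ := Ideal.exists_maximal (t.Fiber S)
  let Q0 := (PrimeSpectrum.primesOverOrderIsoFiber R S t).symm ⟨m, hm.isPrime⟩
  haveI : Q0.1.IsPrime := Q0.2.1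
  haveI : Q0.1.LiesOver t := Q0.2.2
  -- step 3: going down
  obtain ⟨P'', hP''le, hP''prime, hP''over⟩ := Ideal.exists_ideal_le_liesOver_of_le (p := t') (q := t) Q0.1 hle
  refine ⟨Q0.1, inferInstance, le_trans ?_ hP''le, inferInstance⟩
  -- step 4: `P ≤ P''`
  let Q'' : t'.primesOver S := ⟨P'', ⟨hP''prime, hP''over⟩⟩
  let 𝔓 := (PrimeSpectrum.primesOverOrderIsoFiber R S t') Q''
  have h1 : 𝔓.1.comap Algebra.TensorProduct.includeRight = P'' := by
    have := PrimeSpectrum.coe_primesOverOrderIsoFiber_symm_apply (R := R) (S := S) (p := t') 𝔓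
    rw [OrderIso.symm_apply_apply] at this
    exact this.symm
  rw [← Groth.Agent.S1224.comap_fiberIdeal t' P, hbot, ← h1]
  exact Ideal.comap_mono bot_le

end GoingDown

end Groth.Agent.Lib.R2H4.PureGI
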