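import Mathlib

/-!
# Relative comparison theorem for chain complexes (helper4, round 2)

* general facts about a quasi-isomorphism `π : K ⟶ (single₀ C).obj Z` (`exactAt_succ`, `exact_succ`, `exact₀`,
  `epi_π_f_zero`), copied from Mathlib's `ProjectiveResolution` API without the projectivity field;
* `LiftHyp`, `exists_lift`, `exists_homotopy`: the comparison theorem for chain complexes under abstract
  lifting hypotheses.
-/

set_option autoImplicit false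
universe u v
open CategoryTheory Limits HomologicalComplex ChainComplex

namespace Groth.Agent.Lib.R2H4.PureRes

section General
variable {C : Type u} [Category.{v} C] [Abelian C] {Z : C} (K : ChainComplex C ℕ)
  (π : K ⟶ (ChainComplex.single₀ C).obj Z)

lemma exactAt_succ [QuasiIso π] (n : ℕ) : K.ExactAt (n + 1) := by
  rw [← quasiIsoAt_iff_exactAt' π (n + 1) (exactAt_succ_single_obj _ _)]
  infer_instance

lemma exact_succ [QuasiIso π] (n : ℕ) :
    (ShortComplex.mk _ _ (K.d_comp_d (n + 2) (n + 1) n)).Exact :=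
  ((HomologicalComplex.exactAt_iff' _ (n + 2) (n + 1) n) (by simp only [ChainComplex.prev]; rfl)
    (by simp)).1 (exactAt_succ K π n)

theorem π_f_succ (n : ℕ) : π.f (n + 1) = 0 :=
  (isZero_single_obj_X _ _ _ _ (by simp)).eq_of_tgt _ _

theorem d_comp_π_f_zero : K.d 1 0 ≫ π.f 0 = 0 := by
  rw [← π.comm 1 0, single_obj_d, comp_zero]

set_option backward.isDefEq.respectTransparency.types false in
set_option backward.defeqAttrib.useBackward true in
noncomputable def isColimitCokernelCofork [QuasiIso π] :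
    IsColimit (CokernelCofork.ofπ _ (d_comp_π_f_zero K π)) := by
  refine IsColimit.ofIsoColimit (K.opcyclesIsCokernel 1 0 (by simp)) ?_
  refine Cofork.ext (K.isoHomologyι₀.symm ≪≫ isoOfQuasiIsoAt π 0 ≪≫
    singleObjHomologySelfIso _ _ _) ?_
  rw [← cancel_mono (singleObjHomologySelfIso (ComplexShape.down ℕ) 0 _).inv,
    ← cancel_mono (isoHomologyι₀ _).hom]
  dsimp
  simp only [isoHomologyι₀_inv_naturality_assoc, p_opcyclesMap_assoc, single₀_obj_zero,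
    Category.assoc,
    Iso.hom_inv_id, Category.comp_id, isoHomologyι_inv_hom_id, singleObjHomologySelfIso_inv_homologyι,
    singleObjOpcyclesSelfIso_hom, single₀ObjXSelf, Iso.refl_inv, Category.id_comp]

lemma exact₀ [QuasiIso π] : (ShortComplex.mk _ _ (d_comp_π_f_zero K π)).Exact :=
  ShortComplex.exact_of_g_is_cokernel _ (isColimitCokernelCofork K π)

lemma epi_π_f_zero [QuasiIso π] : Epi (π.f 0) :=
  epi_of_isColimit_cofork (isColimitCokernelCofork K π)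

end General

section Compare
variable {C : Type u} [Category.{v} C] [Abelian C] {Y Z : C} (f : Y ⟶ Z)
  (P Q : ChainComplex C ℕ) (π0 : P.X 0 ⟶ Y) (ε0 : Q.X 0 ⟶ Z)

/-- the lifting hypotheses for the comparison theorem -/
structure LiftHyp : Prop where
  h0 : ∀ φ : P.X 0 ⟶ Z, ∃ ψ : P.X 0 ⟶ Q.X 0, ψ ≫ ε0 = φ
  h1 : ∀ (n : ℕ) (φ : P.X n ⟶ Q.X 0), φ ≫ ε0 = 0 → ∃ ψ : P.X n ⟶ Q.X 1, ψ ≫ Q.d 1 0 = φ
  h2 : ∀ (n m : ℕ) (φ : P.X n ⟶ Q.X (m + 1)), φ ≫ Q.d (m + 1) m = 0 →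
    ∃ ψ : P.X n ⟶ Q.X (m + 2), ψ ≫ Q.d (m + 2) (m + 1) = φ

variable {P Q ε0}

theorem exists_lift (H : LiftHyp (Z := Z) P Q ε0) (hπ : P.d 1 0 ≫ π0 = 0) :
    ∃ φ : P ⟶ Q, φ.f 0 ≫ ε0 = π0 ≫ f := by
  classical
  obtain ⟨g0, hg0⟩ := H.h0 (π0 ≫ f)
  obtain ⟨g1, hg1⟩ := H.h1 1 (P.d 1 0 ≫ g0) (by
    rw [Category.assoc, hg0, ← Category.assoc, hπ, zero_comp])
  have hsucc : ∀ (n : ℕ) (g : P.X n ⟶ Q.X n) (g' : P.X (n + 1) ⟶ Q.X (n + 1))
      (w : g' ≫ Q.d (n + 1) n = P.d (n + 1) n ≫ g),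
      ∃ g'' : P.X (n + 2) ⟶ Q.X (n + 2), g'' ≫ Q.d (n + 2) (n + 1) = P.d (n + 2) (n + 1) ≫ g' := by
    intro n g g' w
    exact H.h2 (n + 2) n (P.d (n + 2) (n + 1) ≫ g') (by
      rw [Category.assoc, w, ← Category.assoc, P.d_comp_d, zero_comp])
  refine ⟨ChainComplex.mkHom _ _ g0 g1 hg1 (fun n p =>
    ⟨Classical.choose (hsucc n p.1 p.2.1 p.2.2), Classical.choose_spec (hsucc n p.1 p.2.1 p.2.2)⟩), ?_⟩
  rw [ChainComplex.mkHom_f_0]
  exact hg0

theorem exists_homotopy_zero (H : LiftHyp (Z := Z) P Q ε0) (α : P ⟶ Q) (c0 : α.f 0 ≫ ε0 = 0) :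
    Nonempty (Homotopy α 0) := by
  classical
  obtain ⟨h0, hh0⟩ := H.h1 0 (α.f 0) c0
  obtain ⟨h1, hh1⟩ := H.h2 1 0 (α.f 1 - P.d 1 0 ≫ h0) (by
    rw [Preadditive.sub_comp, Category.assoc, HomologicalComplex.Hom.comm, hh0, sub_self])
  have hsucc : ∀ (n : ℕ) (g : P.X n ⟶ Q.X (n + 1)) (g' : P.X (n + 1) ⟶ Q.X (n + 2))
      (w : α.f (n + 1) = P.d (n + 1) n ≫ g + g' ≫ Q.d (n + 2) (n + 1)),
      ∃ g'' : P.X (n + 2) ⟶ Q.X (n + 3),
        α.f (n + 2) = P.d (n + 2) (n + 1) ≫ g' + g'' ≫ Q.d (n + 3) (n + 2) := by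
    intro n g g' w
    obtain ⟨g'', hg''⟩ := H.h2 (n + 2) (n + 1) (α.f (n + 2) - P.d (n + 2) (n + 1) ≫ g') (by
      simp [w])
    exact ⟨g'', by rw [hg'']; abel⟩
  exact ⟨Homotopy.mkInductive _ h0 (by simp [hh0]) h1 (by simp [hh1]) (fun n p =>
    ⟨Classical.choose (hsucc n p.1 p.2.1 p.2.2), Classical.choose_spec (hsucc n p.1 p.2.1 p.2.2)⟩)⟩

theorem exists_homotopy (H : LiftHyp (Z := Z) P Q ε0) (α β : P ⟶ Q)
    (h : α.f 0 ≫ ε0 = β.f 0 ≫ ε0) : Nonempty (Homotopy α β) := by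
  obtain ⟨h⟩ := exists_homotopy_zero H (α - β) (by
    rw [HomologicalComplex.sub_f_apply, Preadditive.sub_comp, h, sub_self])
  exact ⟨Homotopy.equivSubZero.invFun h⟩

end Compare

end Groth.Agent.Lib.R2H4.PureRes
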