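import Mathlib
import Groth.Agent.Lib.R2H4PureResA
import Groth.Prelude.Def_CAlgX

/-!
# Pure projective resolutions: comparison theorem (helper4, round 2)

For a universally exact resolution `ε : N' ⟶ N[0]` of `R`-modules (quasi-isomorphism after every tensor
product) we extract elementwise (tensored) exactness, prove the lifting lemma `pure_lift` for pure
projective modules, and deduce `exists_chainMap`, `exists_homotopy_chainMap`.
-/

set_option autoImplicit false
universe u
open CategoryTheory Limits HomologicalComplex ChainComplex TensorProduct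

namespace Groth.Agent.Lib.R2H4.PureRes

section Tensored
variable {R : Type u} [CommRing R] (N' : ChainComplex (ModuleCat.{u} R) ℕ) (N : ModuleCat.{u} R)
  (ε : N' ⟶ (ChainComplex.single₀ (ModuleCat.{u} R)).obj N) (T : ModuleCat.{u} R)

/-- the tensored complex -/
noncomputable abbrev KT : ChainComplex (ModuleCat.{u} R) ℕ :=
  ((MonoidalCategory.tensorRight T).mapHomologicalComplex (ComplexShape.down ℕ)).obj N'

/-- the tensored augmentation, with target a `single₀` complex -/
noncomputable def πT : KT N' T ⟶ (ChainComplex.single₀ (ModuleCat.{u} R)).obj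
    ((MonoidalCategory.tensorRight T).obj N) :=
  ((MonoidalCategory.tensorRight T).mapHomologicalComplex (ComplexShape.down ℕ)).map ε ≫
    (HomologicalComplex.singleMapHomologicalComplex (MonoidalCategory.tensorRight T)
      (ComplexShape.down ℕ) 0).hom.app N

instance quasiIso_πT
    [QuasiIso (((MonoidalCategory.tensorRight T).mapHomologicalComplex (ComplexShape.down ℕ)).map ε)] :
    QuasiIso (πT N' N ε T) := by
  unfold πT
  infer_instance

theorem πT_f_zero : (πT N' N ε T).f 0 = (MonoidalCategory.tensorRight T).map (ε.f 0) := by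
  unfold πT
  rw [HomologicalComplex.comp_f, HomologicalComplex.singleMapHomologicalComplex_hom_app_self]
  simp
  exact Category.comp_id _

end Tensored

section Elementwise
variable {R : Type u} [CommRing R] (N' : ChainComplex (ModuleCat.{u} R) ℕ) (N : ModuleCat.{u} R)
  (ε : N' ⟶ (ChainComplex.single₀ (ModuleCat.{u} R)).obj N)
  (hN' : ∀ T : ModuleCat.{u} R,
    QuasiIso (((MonoidalCategory.tensorRight T).mapHomologicalComplex (ComplexShape.down ℕ)).map ε))
include hN'

/-- the augmentation in degree zero, as a linear map -/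
noncomputable def aug : N'.X 0 →ₗ[R] N := (ε.f 0).hom

theorem tensored_exact_succ (T : Type u) [AddCommGroup T] [Module R T] (n : ℕ)
    (w : N'.X (n + 1) ⊗[R] T) (hw : ((N'.d (n + 1) n).hom.rTensor T) w = 0) :
    ∃ v : N'.X (n + 2) ⊗[R] T, ((N'.d (n + 2) (n + 1)).hom.rTensor T) v = w := by
  have := hN' (ModuleCat.of R T)
  have h := exact_succ (KT N' (ModuleCat.of R T)) (πT N' N ε (ModuleCat.of R T)) n
  exact (ShortComplex.moduleCat_exact_iff _).1 h w hw

theorem tensored_exact_zero (T : Type u) [AddCommGroup T] [Module R T]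
    (w : N'.X 0 ⊗[R] T) (hw : ((aug N' N ε).rTensor T) w = 0) :
    ∃ v : N'.X 1 ⊗[R] T, ((N'.d 1 0).hom.rTensor T) v = w := by
  have := hN' (ModuleCat.of R T)
  have h := exact₀ (KT N' (ModuleCat.of R T)) (πT N' N ε (ModuleCat.of R T))
  refine (ShortComplex.moduleCat_exact_iff _).1 h w ?_
  change ((πT N' N ε (ModuleCat.of R T)).f 0) w = 0
  rw [πT_f_zero]
  exact hw

theorem tensored_aug_surjective (T : Type u) [AddCommGroup T] [Module R T] :
    Function.Surjective ((aug N' N ε).rTensor T) := by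
  have := hN' (ModuleCat.of R T)
  have h := epi_π_f_zero (KT N' (ModuleCat.of R T)) (πT N' N ε (ModuleCat.of R T))
  rw [πT_f_zero] at h
  exact (ModuleCat.epi_iff_surjective _).1 h

omit hN' in
theorem rid_rTensor {M M' : Type u} [AddCommGroup M] [Module R M] [AddCommGroup M'] [Module R M']
    (f : M →ₗ[R] M') (v : M ⊗[R] R) :
    TensorProduct.rid R M' ((f.rTensor R) v) = f (TensorProduct.rid R M v) := by
  induction v using TensorProduct.induction_on with
  | zero => simp
  | tmul m r => simp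
  | add a b ha hb => simp [ha, hb]

theorem exact_succ' (n : ℕ) (x : N'.X (n + 1)) (hx : (N'.d (n + 1) n).hom x = 0) :
    ∃ y : N'.X (n + 2), (N'.d (n + 2) (n + 1)).hom y = x := by
  obtain ⟨v, hv⟩ := tensored_exact_succ N' N ε hN' R n (x ⊗ₜ[R] (1 : R)) (by
    rw [LinearMap.rTensor_tmul, hx, TensorProduct.zero_tmul])
  refine ⟨TensorProduct.rid R _ v, ?_⟩
  rw [← rid_rTensor, hv, TensorProduct.rid_tmul, one_smul]

theorem exact_zero' (x : N'.X 0) (hx : aug N' N ε x = 0) :
    ∃ y : N'.X 1, (N'.d 1 0).hom y = x := by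
  obtain ⟨v, hv⟩ := tensored_exact_zero N' N ε hN' R (x ⊗ₜ[R] (1 : R)) (by
    rw [LinearMap.rTensor_tmul, hx, TensorProduct.zero_tmul])
  refine ⟨TensorProduct.rid R _ v, ?_⟩
  rw [← rid_rTensor, hv, TensorProduct.rid_tmul, one_smul]

theorem aug_surjective : Function.Surjective (aug N' N ε) := by
  intro x
  obtain ⟨v, hv⟩ := tensored_aug_surjective N' N ε hN' R (x ⊗ₜ[R] (1 : R))
  refine ⟨TensorProduct.rid R _ v, ?_⟩
  rw [← rid_rTensor, hv, TensorProduct.rid_tmul, one_smul]

omit hN' in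
theorem aug_d : aug N' N ε ∘ₗ (N'.d 1 0).hom = 0 := by
  have h := d_comp_π_f_zero N' ε
  ext x
  exact congrArg (fun φ => φ.hom x) h

end Elementwise

section PureLift
variable {R : Type u} [CommRing R]
variable {K'' K' K L M' Pn : Type u} [AddCommGroup K''] [Module R K''] [AddCommGroup K'] [Module R K']
  [AddCommGroup K] [Module R K] [AddCommGroup L] [Module R L] [AddCommGroup M'] [Module R M']
  [AddCommGroup Pn] [Module R Pn]

/-- the lifting property defining pure projective modules -/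
def PureProj (R : Type u) [CommRing R] (Pn : Type u) [AddCommGroup Pn] [Module R Pn] : Prop :=
  ∀ ⦃L T : Type u⦄ [AddCommGroup L] [Module R L] [AddCommGroup T] [Module R T] (g : L →ₗ[R] T),
    Function.Surjective g → CAlgX.UniversallyInjective R (LinearMap.ker g).subtype →
    ∀ φ : Pn →ₗ[R] T, ∃ ψ : Pn →ₗ[R] L, g ∘ₗ ψ = φ

theorem pure_lift (k' : K'' →ₗ[R] K') (k : K' →ₗ[R] K) (h : K →ₗ[R] L) (g : L →ₗ[R] M')
    (hk'k : k ∘ₗ k' = 0) (hkh : h ∘ₗ k = 0) (hhg : g ∘ₗ h = 0)
    (exL : ∀ x, g x = 0 → ∃ y, h y = x)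
    (exK : ∀ x, h x = 0 → ∃ y, k y = x)
    (exK' : ∀ (T : Type u) [AddCommGroup T] [Module R T] (w : K' ⊗[R] T),
      (k.rTensor T) w = 0 → ∃ v, (k'.rTensor T) v = w)
    (hP : PureProj R Pn) (φ : Pn →ₗ[R] L) (hφ : g ∘ₗ φ = 0) :
    ∃ ψ : Pn →ₗ[R] K, h ∘ₗ ψ = φ := by
  let Z := LinearMap.ker g
  let h' : K →ₗ[R] Z := h.codRestrict Z (fun x => by
    change g (h x) = 0
    exact congrArg (fun f => f x) hhg)
  have hh' : Z.subtype ∘ₗ h' = h := LinearMap.subtype_comp_codRestrict _ _ _
  have h'surj : Function.Surjective h' := by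
    intro z
    obtain ⟨y, hy⟩ := exL z.1 z.2
    exact ⟨y, Subtype.ext hy⟩
  let kk : K' →ₗ[R] LinearMap.ker h' := k.codRestrict (LinearMap.ker h') (fun x => by
    change h' (k x) = 0
    apply Subtype.ext
    change h (k x) = 0
    exact congrArg (fun f => f x) hkh)
  have hkk : (LinearMap.ker h').subtype ∘ₗ kk = k := LinearMap.subtype_comp_codRestrict _ _ _
  have kksurj : Function.Surjective kk := by
    intro z
    have hz : h z.1 = 0 := congrArg Subtype.val z.2
    obtain ⟨y, hy⟩ := exK z.1 hz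
    exact ⟨y, Subtype.ext hy⟩
  have hkkk' : kk ∘ₗ k' = 0 := by
    ext x
    have : k (k' x) = 0 := congrArg (fun f => f x) hk'k
    exact this
  have hui : CAlgX.UniversallyInjective R (LinearMap.ker h').subtype := by
    intro T _ _
    rw [injective_iff_map_eq_zero]
    intro z hz
    obtain ⟨w, rfl⟩ := LinearMap.rTensor_surjective T kksurj z
    have e1 : (k.rTensor T) w = 0 := by
      rw [← hkk, LinearMap.rTensor_comp]
      exact hz
    obtain ⟨v, rfl⟩ := exK' T w e1
    rw [← LinearMap.comp_apply, ← LinearMap.rTensor_comp, hkkk', LinearMap.rTensor_zero,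
      LinearMap.zero_apply]
  let φ' : Pn →ₗ[R] Z := φ.codRestrict Z (fun x => by
    change g (φ x) = 0
    exact congrArg (fun f => f x) hφ)
  obtain ⟨ψ, hψ⟩ := hP h' h'surj hui φ'
  refine ⟨ψ, ?_⟩
  rw [← hh', LinearMap.comp_assoc, hψ]
  exact LinearMap.subtype_comp_codRestrict _ _ _

end PureLift

section Assemble
variable {R : Type u} [CommRing R] (P N' : ChainComplex (ModuleCat.{u} R) ℕ) (N : ModuleCat.{u} R)
  (ε : N' ⟶ (ChainComplex.single₀ (ModuleCat.{u} R)).obj N)
  (hN' : ∀ T : ModuleCat.{u} R,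
    QuasiIso (((MonoidalCategory.tensorRight T).mapHomologicalComplex (ComplexShape.down ℕ)).map ε))
  (hP : ∀ n : ℕ, PureProj R (P.X n))
include hN' hP

omit hN' hP in
theorem d_d_hom (i j k : ℕ) : (N'.d j k).hom ∘ₗ (N'.d i j).hom = 0 := by
  ext x
  exact congrArg (fun φ => φ.hom x) (N'.d_comp_d i j k)

theorem liftHyp : LiftHyp (Z := N) P N' (ε.f 0) where
  h0 := by
    intro φ
    obtain ⟨ψ, hψ⟩ := pure_lift (N'.d 2 1).hom (N'.d 1 0).hom (aug N' N ε) (0 : N →ₗ[R] N)
      (d_d_hom N' 2 1 0) (aug_d N' N ε) (LinearMap.zero_comp _)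
      (fun x _ => aug_surjective N' N ε hN' x)
      (fun x hx => exact_zero' N' N ε hN' x hx)
      (fun T _ _ w hw => tensored_exact_succ N' N ε hN' T 0 w hw)
      (hP 0) φ.hom (LinearMap.zero_comp _)
    exact ⟨ModuleCat.ofHom ψ, ModuleCat.hom_ext hψ⟩
  h1 := by
    intro n φ hφ
    obtain ⟨ψ, hψ⟩ := pure_lift (N'.d 3 2).hom (N'.d 2 1).hom (N'.d 1 0).hom (aug N' N ε)
      (d_d_hom N' 3 2 1) (d_d_hom N' 2 1 0) (aug_d N' N ε)
      (fun x hx => exact_zero' N' N ε hN' x hx)
      (fun x hx => exact_succ' N' N ε hN' 0 x hx)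
      (fun T _ _ w hw => tensored_exact_succ N' N ε hN' T 1 w hw)
      (hP n) φ.hom (by
        ext x
        exact congrArg (fun ψ => ψ.hom x) hφ)
    exact ⟨ModuleCat.ofHom ψ, ModuleCat.hom_ext hψ⟩
  h2 := by
    intro n m φ hφ
    obtain ⟨ψ, hψ⟩ := pure_lift (N'.d (m + 4) (m + 3)).hom (N'.d (m + 3) (m + 2)).hom
      (N'.d (m + 2) (m + 1)).hom (N'.d (m + 1) m).hom
      (d_d_hom N' _ _ _) (d_d_hom N' _ _ _) (d_d_hom N' _ _ _)
      (fun x hx => exact_succ' N' N ε hN' m x hx)
      (fun x hx => exact_succ' N' N ε hN' (m + 1) x hx)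
      (fun T _ _ w hw => tensored_exact_succ N' N ε hN' T (m + 2) w hw)
      (hP n) φ.hom (by
        ext x
        exact congrArg (fun ψ => ψ.hom x) hφ)
    exact ⟨ModuleCat.ofHom ψ, ModuleCat.hom_ext hψ⟩

theorem exists_chainMap {M : ModuleCat.{u} R} (f : M ⟶ N)
    (π : P ⟶ (ChainComplex.single₀ (ModuleCat.{u} R)).obj M) :
    ∃ φ : P ⟶ N', φ ≫ ε = π ≫ (ChainComplex.single₀ (ModuleCat.{u} R)).map f := by
  obtain ⟨φ, hφ⟩ := exists_lift f (π.f 0) (liftHyp P N' N ε hN' hP) (d_comp_π_f_zero P π)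
  refine ⟨φ, ?_⟩
  apply HomologicalComplex.to_single_hom_ext
  rw [HomologicalComplex.comp_f, HomologicalComplex.comp_f]
  refine hφ.trans ?_
  congr 1

theorem exists_homotopy_chainMap {M : ModuleCat.{u} R} (f : M ⟶ N)
    (π : P ⟶ (ChainComplex.single₀ (ModuleCat.{u} R)).obj M) (α β : P ⟶ N')
    (hα : α ≫ ε = π ≫ (ChainComplex.single₀ (ModuleCat.{u} R)).map f)
    (hβ : β ≫ ε = π ≫ (ChainComplex.single₀ (ModuleCat.{u} R)).map f) :
    Nonempty (Homotopy α β) := by
  refine exists_homotopy (liftHyp P N' N ε hN' hP) α β ?_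
  have h := congrArg (fun ψ => ψ.f 0) (hα.trans hβ.symm)
  exact h

end Assemble

end Groth.Agent.Lib.R2H4.PureRes
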