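import Mathlib
import Groth.Agent.Lib.R2H4PureResB
import Groth.Agent.Lib.Helper13Pure

/-!
# Existence of pure projective resolutions (helper4, round 2)

Iterating the pure projective cover `Helper13Pure.cov` gives a chain complex `resCx M` with augmentation
`resAug M`, whose terms are direct sums of finitely presented modules and which stays a resolution after
every tensor product (`exists_pureProjective_resolution`).
`quasiIso_tensor_of_elementwise` converts elementwise tensored exactness into the `QuasiIso` statement.
-/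

set_option autoImplicit false
universe u
open CategoryTheory Limits HomologicalComplex ChainComplex TensorProduct

namespace Groth.Agent.Lib.R2H4.PureRes
open Groth.Agent.Helper13Pure

section ModuleLevel
variable {R : Type u} [CommRing R]

theorem cov_ker_univInj (M : Type u) [AddCommGroup M] [Module R M] :
    CAlgX.UniversallyInjective R (LinearMap.ker (cov R M)).subtype :=
  univInj_of_equational _ (Submodule.injective_subtype _) cov_equational

theorem top_subtype_univInj (Y : Type u) [AddCommGroup Y] [Module R Y] :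
    CAlgX.UniversallyInjective R (⊤ : Submodule R Y).subtype := by
  intro T _ _
  have : (⊤ : Submodule R Y).subtype = (Submodule.topEquiv : (⊤ : Submodule R Y) ≃ₗ[R] Y).toLinearMap := rfl
  rw [this]
  exact (LinearEquiv.rTensor T Submodule.topEquiv).injective

/-- tensored exactness of `Pcov (ker d) → X → Y` when the image of `d` is a pure submodule -/
theorem tens_exact {X Y : Type u} [AddCommGroup X] [Module R X] [AddCommGroup Y] [Module R Y]
    (d : X →ₗ[R] Y) (hd : CAlgX.UniversallyInjective R (LinearMap.range d).subtype)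
    (T : Type u) [AddCommGroup T] [Module R T] (w : X ⊗[R] T) (hw : (d.rTensor T) w = 0) :
    ∃ v : (Π₀ i : Idx R (LinearMap.ker d), QQ R (LinearMap.ker d) i) ⊗[R] T,
      (((LinearMap.ker d).subtype ∘ₗ cov R (LinearMap.ker d)).rTensor T) v = w := by
  have hd' : (LinearMap.range d).subtype ∘ₗ d.rangeRestrict = d := LinearMap.subtype_comp_codRestrict _ _ _
  have h1 : (d.rangeRestrict.rTensor T) w = 0 := by
    apply hd T
    rw [← LinearMap.comp_apply, ← LinearMap.rTensor_comp, hd', hw, map_zero]
  have hex : Function.Exact ((LinearMap.ker d.rangeRestrict).subtype.rTensor T)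
      (d.rangeRestrict.rTensor T) :=
    rTensor_exact T (LinearMap.exact_subtype_ker_map d.rangeRestrict) d.surjective_rangeRestrict
  obtain ⟨z, hz⟩ := (hex w).1 h1
  have hk : LinearMap.ker d.rangeRestrict = LinearMap.ker d := LinearMap.ker_rangeRestrict d
  revert z
  rw [hk]
  intro z hz
  obtain ⟨v, hv⟩ := LinearMap.rTensor_surjective T (cov_surjective (R := R) (M := LinearMap.ker d)) z
  refine ⟨v, ?_⟩
  rw [LinearMap.rTensor_comp, LinearMap.comp_apply, hv, hz]

end ModuleLevel

section Stages
variable (R : Type u) [CommRing R]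

/-- the pure projective cover of a module, as an object -/
noncomputable def Pcov (M : Type u) [AddCommGroup M] [Module R M] : ModuleCat.{u} R :=
  ModuleCat.of R (Π₀ i : Idx R M, QQ R M i)

/-- a stage of the construction: the current differential -/
structure Stage where
  X : ModuleCat.{u} R
  Y : ModuleCat.{u} R
  d : X ⟶ Y

variable {R}

/-- the next stage -/
noncomputable def Stage.next (s : Stage R) : Stage R where
  X := Pcov R (LinearMap.ker s.d.hom)
  Y := s.X
  d := ModuleCat.ofHom ((LinearMap.ker s.d.hom).subtype ∘ₗ cov R (LinearMap.ker s.d.hom))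

/-- the kernel of the differential is a pure submodule -/
def Stage.Good (s : Stage R) : Prop := CAlgX.UniversallyInjective R (LinearMap.ker s.d.hom).subtype

/-- the image of the differential is a pure submodule -/
def Stage.Good2 (s : Stage R) : Prop := CAlgX.UniversallyInjective R (LinearMap.range s.d.hom).subtype

theorem Stage.next_d_comp (s : Stage R) : s.next.d ≫ s.d = 0 := by
  apply ModuleCat.hom_ext
  ext x
  change s.d.hom (((LinearMap.ker s.d.hom).subtype ∘ₗ cov R (LinearMap.ker s.d.hom)) x) = 0
  exact (cov R (LinearMap.ker s.d.hom) x).2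

theorem Stage.good_next (s : Stage R) : s.next.Good := by
  unfold Stage.Good
  have e : LinearMap.ker s.next.d.hom = LinearMap.ker (cov R (LinearMap.ker s.d.hom)) := by
    change LinearMap.ker ((LinearMap.ker s.d.hom).subtype ∘ₗ cov R (LinearMap.ker s.d.hom)) = _
    exact LinearMap.ker_comp_of_ker_eq_bot _ (Submodule.ker_subtype _)
  rw [e]
  exact cov_ker_univInj _

theorem Stage.good2_next (s : Stage R) (hs : s.Good) : s.next.Good2 := by
  unfold Stage.Good2
  have e : LinearMap.range s.next.d.hom = LinearMap.ker s.d.hom := by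
    change LinearMap.range ((LinearMap.ker s.d.hom).subtype ∘ₗ cov R (LinearMap.ker s.d.hom)) = _
    rw [LinearMap.range_comp_of_range_eq_top _ (LinearMap.range_eq_top.2 cov_surjective),
      Submodule.range_subtype]
  rw [e]
  exact hs

variable (M : ModuleCat.{u} R)

/-- the stages of the pure projective resolution of `M` -/
noncomputable def stage : ℕ → Stage R
  | 0 => ⟨Pcov R M, M, ModuleCat.ofHom (cov R M)⟩
  | n + 1 => (stage n).next

theorem stage_good (n : ℕ) : (stage M n).Good := by
  cases n with
  | zero => exact cov_ker_univInj _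
  | succ n => exact Stage.good_next _

theorem stage_good2 (n : ℕ) : (stage M n).Good2 := by
  cases n with
  | zero =>
    unfold Stage.Good2
    have e : LinearMap.range (stage M 0).d.hom = ⊤ := LinearMap.range_eq_top.2 cov_surjective
    rw [e]
    exact top_subtype_univInj _
  | succ n => exact Stage.good2_next _ (stage_good M n)

/-- the differentials, with their types -/
noncomputable def dd (n : ℕ) : (stage M (n + 1)).X ⟶ (stage M n).X := (stage M (n + 1)).d

theorem dd_comp (n : ℕ) : dd M (n + 1) ≫ dd M n = 0 := Stage.next_d_comp (stage M (n + 1))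

theorem dd_zero_comp : dd M 0 ≫ ModuleCat.ofHom (cov R M) = 0 := Stage.next_d_comp (stage M 0)

/-- the resolution -/
noncomputable def resCx : ChainComplex (ModuleCat.{u} R) ℕ :=
  ChainComplex.of (fun n => (stage M n).X) (dd M) (dd_comp M)

theorem resCx_d (n : ℕ) : (resCx M).d (n + 1) n = dd M n :=
  ChainComplex.of_d (fun n => (stage M n).X) (dd M) n

/-- the augmentation -/
noncomputable def resAug : resCx M ⟶ (ChainComplex.single₀ (ModuleCat.{u} R)).obj M :=
  (ChainComplex.toSingle₀Equiv (resCx M) M).symm ⟨ModuleCat.ofHom (cov R M), by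
    rw [resCx_d]
    exact dd_zero_comp M⟩

theorem resAug_f_zero : (resAug M).f 0 = ModuleCat.ofHom (cov R M) := by
  unfold resAug
  simp

theorem res_tens_exact_succ (T : Type u) [AddCommGroup T] [Module R T] (n : ℕ)
    (w : (resCx M).X (n + 1) ⊗[R] T) (hw : (((resCx M).d (n + 1) n).hom.rTensor T) w = 0) :
    ∃ v : (resCx M).X (n + 2) ⊗[R] T, (((resCx M).d (n + 2) (n + 1)).hom.rTensor T) v = w := by
  rw [resCx_d] at hw
  obtain ⟨v, hv⟩ := tens_exact (stage M (n + 1)).d.hom (stage_good2 M (n + 1)) T w hw
  refine ⟨v, ?_⟩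
  rw [resCx_d]
  exact hv

theorem res_tens_exact_zero (T : Type u) [AddCommGroup T] [Module R T]
    (w : (resCx M).X 0 ⊗[R] T) (hw : (((resAug M).f 0).hom.rTensor T) w = 0) :
    ∃ v : (resCx M).X 1 ⊗[R] T, (((resCx M).d 1 0).hom.rTensor T) v = w := by
  rw [resAug_f_zero] at hw
  obtain ⟨v, hv⟩ := tens_exact (stage M 0).d.hom (stage_good2 M 0) T w hw
  refine ⟨v, ?_⟩
  rw [resCx_d]
  exact hv

theorem res_tens_aug_surjective (T : Type u) [AddCommGroup T] [Module R T] :
    Function.Surjective (((resAug M).f 0).hom.rTensor T) := by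
  rw [resAug_f_zero]
  exact LinearMap.rTensor_surjective T (cov_surjective (R := R) (M := M))

end Stages

section QI
variable {R : Type u} [CommRing R] (P : ChainComplex (ModuleCat.{u} R) ℕ) (M : ModuleCat.{u} R)
  (π : P ⟶ (ChainComplex.single₀ (ModuleCat.{u} R)).obj M) (T : ModuleCat.{u} R)

theorem mapped_single_exactAt_succ (n : ℕ) :
    (((MonoidalCategory.tensorRight T).mapHomologicalComplex (ComplexShape.down ℕ)).obj
      ((ChainComplex.single₀ (ModuleCat.{u} R)).obj M)).ExactAt (n + 1) := by
  apply HomologicalComplex.ExactAt.of_isZero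
  exact Functor.map_isZero (MonoidalCategory.tensorRight T)
    (HomologicalComplex.isZero_single_obj_X _ _ _ _ (by simp))

theorem quasiIso_tensor_of_elementwise
    (h1 : ∀ (n : ℕ) (w : P.X (n + 1) ⊗[R] T), ((P.d (n + 1) n).hom.rTensor T) w = 0 →
      ∃ v : P.X (n + 2) ⊗[R] T, ((P.d (n + 2) (n + 1)).hom.rTensor T) v = w)
    (h0 : ∀ w : P.X 0 ⊗[R] T, ((π.f 0).hom.rTensor T) w = 0 →
      ∃ v : P.X 1 ⊗[R] T, ((P.d 1 0).hom.rTensor T) v = w)
    (hs : Function.Surjective ((π.f 0).hom.rTensor T)) :
    QuasiIso (((MonoidalCategory.tensorRight T).mapHomologicalComplex (ComplexShape.down ℕ)).map π) := by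
  refine ⟨fun n => ?_⟩
  cases n with
  | zero =>
    rw [ChainComplex.quasiIsoAt₀_iff, ShortComplex.quasiIso_iff_of_zeros']
    · constructor
      · rw [ShortComplex.moduleCat_exact_iff]
        intro w hw
        exact h0 w hw
      · rw [ModuleCat.epi_iff_surjective]
        exact hs
    · change (MonoidalCategory.tensorRight T).map (P.d 0 0) = 0
      rw [HomologicalComplex.shape _ 0 0 (by simp)]
      exact Functor.map_zero _ _ _
    · change (MonoidalCategory.tensorRight T).map
        (((ChainComplex.single₀ (ModuleCat.{u} R)).obj M).d 1 0) = 0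
      rw [HomologicalComplex.single_obj_d]
      exact Functor.map_zero _ _ _
    · change (MonoidalCategory.tensorRight T).map
        (((ChainComplex.single₀ (ModuleCat.{u} R)).obj M).d 0 0) = 0
      rw [HomologicalComplex.single_obj_d]
      exact Functor.map_zero _ _ _
  | succ n =>
    rw [quasiIsoAt_iff_exactAt']
    · rw [HomologicalComplex.exactAt_iff' _ (n + 2) (n + 1) n (by simp) (by simp),
        ShortComplex.moduleCat_exact_iff]
      intro w hw
      exact h1 n w hw
    · exact mapped_single_exactAt_succ M T n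

end QI

section Final
variable (R : Type u) [CommRing R] (M : ModuleCat.{u} R)

theorem resCx_X_pureProjective (n : ℕ) :
    ∃ (ι : Type u) (Q : ι → Type u) (_ : ∀ i, AddCommGroup (Q i)) (_ : ∀ i, Module R (Q i)),
      (∀ i, Module.FinitePresentation R (Q i)) ∧
      ∃ (s : (resCx M).X n →ₗ[R] (Π₀ i, Q i)) (r : (Π₀ i, Q i) →ₗ[R] (resCx M).X n),
        r ∘ₗ s = LinearMap.id := by
  cases n with
  | zero =>
    exact ⟨Idx R M, QQ R M, fun _ => inferInstance, fun _ => inferInstance, QQ_fp R M,
      LinearMap.id, LinearMap.id, rfl⟩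
  | succ n =>
    exact ⟨Idx R (LinearMap.ker (stage M n).d.hom), QQ R (LinearMap.ker (stage M n).d.hom),
      fun _ => inferInstance, fun _ => inferInstance, QQ_fp R _, LinearMap.id, LinearMap.id, rfl⟩

theorem exists_pureProjective_resolution :
    ∃ (P : ChainComplex (ModuleCat.{u} R) ℕ) (π : P ⟶ (ChainComplex.single₀ (ModuleCat.{u} R)).obj M),
      (∀ n : ℕ, ∃ (ι : Type u) (Q : ι → Type u) (_ : ∀ i, AddCommGroup (Q i)) (_ : ∀ i, Module R (Q i)),
        (∀ i, Module.FinitePresentation R (Q i)) ∧
        ∃ (s : P.X n →ₗ[R] (Π₀ i, Q i)) (r : (Π₀ i, Q i) →ₗ[R] P.X n), r ∘ₗ s = LinearMap.id) ∧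
      ∀ N : ModuleCat.{u} R,
        QuasiIso (((MonoidalCategory.tensorRight N).mapHomologicalComplex (ComplexShape.down ℕ)).map π) :=
  ⟨resCx M, resAug M, resCx_X_pureProjective R M, fun N =>
    quasiIso_tensor_of_elementwise (resCx M) M (resAug M) N
      (fun n w hw => res_tens_exact_succ M N n w hw)
      (fun w hw => res_tens_exact_zero M N w hw)
      (res_tens_aug_surjective M N)⟩

end Final

end Groth.Agent.Lib.R2H4.PureRes
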