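import Mathlib

/-!
# Relative comparison theorem for cochain complexes (helper4, round 2)

Cochain analogue of `R2H4PureResA`: general facts about a quasi-isomorphism `(single₀ C).obj Z ⟶ K`
(`co_exact_succ`, `co_exact₀`, `mono_ι_f_zero`), and the comparison theorem `exists_desc`,
`exists_cohomotopy` under abstract extension hypotheses `DescHyp`.
-/

set_option autoImplicit false
universe u v
open CategoryTheory Limits HomologicalComplex CochainComplex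

namespace Groth.Agent.Lib.R2H4.PureRes

section CoGeneral
variable {C : Type u} [Category.{v} C] [Abelian C] {Z : C} (K : CochainComplex C ℕ)
  (ι : (CochainComplex.single₀ C).obj Z ⟶ K)

lemma co_exactAt_succ [QuasiIso ι] (n : ℕ) : K.ExactAt (n + 1) := by
  rw [← quasiIsoAt_iff_exactAt ι (n + 1) (exactAt_succ_single_obj _ _)]
  infer_instance

lemma co_exact_succ [QuasiIso ι] (n : ℕ) :
    (ShortComplex.mk _ _ (K.d_comp_d n (n + 1) (n + 2))).Exact :=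
  ((HomologicalComplex.exactAt_iff' _ n (n + 1) (n + 2)) (by simp)
    (by simp only [CochainComplex.next]; rfl)).1 (co_exactAt_succ K ι n)

set_option backward.isDefEq.respectTransparency false in
theorem ι_f_zero_comp_d : ι.f 0 ≫ K.d 0 1 = 0 := by
  simp

set_option backward.defeqAttrib.useBackward true in
set_option backward.isDefEq.respectTransparency false in
noncomputable def isLimitKernelFork [QuasiIso ι] :
    IsLimit (KernelFork.ofι _ (ι_f_zero_comp_d K ι)) := by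
  refine IsLimit.ofIsoLimit (K.cyclesIsKernel 0 1 (by simp)) (Iso.symm ?_)
  refine Fork.ext ((singleObjHomologySelfIso _ _ _).symm ≪≫
    isoOfQuasiIsoAt ι 0 ≪≫ K.isoHomologyπ₀.symm) ?_
  rw [← cancel_epi (singleObjHomologySelfIso (ComplexShape.up ℕ) _ _).hom,
    ← cancel_epi (isoHomologyπ₀ _).hom,
    ← cancel_epi (singleObjCyclesSelfIso (ComplexShape.up ℕ) _ _).inv]
  simp

lemma co_exact₀ [QuasiIso ι] : (ShortComplex.mk _ _ (ι_f_zero_comp_d K ι)).Exact :=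
  ShortComplex.exact_of_f_is_kernel _ (isLimitKernelFork K ι)

lemma mono_ι_f_zero [QuasiIso ι] : Mono (ι.f 0) :=
  mono_of_isLimit_fork (isLimitKernelFork K ι)

end CoGeneral

section CoCompare
variable {C : Type u} [Category.{v} C] [Abelian C] {M N : C} (f : M ⟶ N)
  (Mc I : CochainComplex C ℕ) (η0 : M ⟶ Mc.X 0) (ε0 : N ⟶ I.X 0)

/-- the extension hypotheses for the (cochain) comparison theorem -/
structure DescHyp : Prop where
  h0 : ∀ φ : M ⟶ I.X 0, ∃ ψ : Mc.X 0 ⟶ I.X 0, η0 ≫ ψ = φ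
  h1 : ∀ (n : ℕ) (φ : Mc.X 0 ⟶ I.X n), η0 ≫ φ = 0 → ∃ ψ : Mc.X 1 ⟶ I.X n, Mc.d 0 1 ≫ ψ = φ
  h2 : ∀ (n m : ℕ) (φ : Mc.X (m + 1) ⟶ I.X n), Mc.d m (m + 1) ≫ φ = 0 →
    ∃ ψ : Mc.X (m + 2) ⟶ I.X n, Mc.d (m + 1) (m + 2) ≫ ψ = φ

variable {Mc I η0}

theorem exists_desc (H : DescHyp (M := M) Mc I η0) (hε : ε0 ≫ I.d 0 1 = 0) :
    ∃ φ : Mc ⟶ I, η0 ≫ φ.f 0 = f ≫ ε0 := by
  classical
  obtain ⟨g0, hg0⟩ := H.h0 (f ≫ ε0)
  obtain ⟨g1, hg1⟩ := H.h1 1 (g0 ≫ I.d 0 1) (by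
    rw [← Category.assoc, hg0, Category.assoc, hε, comp_zero])
  have hsucc : ∀ (n : ℕ) (g : Mc.X n ⟶ I.X n) (g' : Mc.X (n + 1) ⟶ I.X (n + 1))
      (w : g ≫ I.d n (n + 1) = Mc.d n (n + 1) ≫ g'),
      ∃ g'' : Mc.X (n + 2) ⟶ I.X (n + 2), g' ≫ I.d (n + 1) (n + 2) = Mc.d (n + 1) (n + 2) ≫ g'' := by
    intro n g g' w
    obtain ⟨g'', hg''⟩ := H.h2 (n + 2) n (g' ≫ I.d (n + 1) (n + 2)) (by
      rw [← Category.assoc, ← w, Category.assoc, I.d_comp_d, comp_zero])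
    exact ⟨g'', hg''.symm⟩
  refine ⟨CochainComplex.mkHom _ _ g0 g1 hg1.symm (fun n p =>
    ⟨Classical.choose (hsucc n p.1 p.2.1 p.2.2), Classical.choose_spec (hsucc n p.1 p.2.1 p.2.2)⟩), ?_⟩
  rw [CochainComplex.mkHom_f_0]
  exact hg0

theorem exists_cohomotopy_zero (H : DescHyp (M := M) Mc I η0) (α : Mc ⟶ I) (c0 : η0 ≫ α.f 0 = 0) :
    Nonempty (Homotopy α 0) := by
  classical
  obtain ⟨h0, hh0⟩ := H.h1 0 (α.f 0) c0
  obtain ⟨h1, hh1⟩ := H.h2 1 0 (α.f 1 - h0 ≫ I.d 0 1) (by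
    rw [Preadditive.comp_sub, ← Category.assoc, hh0, HomologicalComplex.Hom.comm, sub_self])
  have hsucc : ∀ (n : ℕ) (g : Mc.X (n + 1) ⟶ I.X n) (g' : Mc.X (n + 2) ⟶ I.X (n + 1))
      (w : α.f (n + 1) = g ≫ I.d n (n + 1) + Mc.d (n + 1) (n + 2) ≫ g'),
      ∃ g'' : Mc.X (n + 3) ⟶ I.X (n + 2),
        α.f (n + 2) = g' ≫ I.d (n + 1) (n + 2) + Mc.d (n + 2) (n + 3) ≫ g'' := by
    intro n g g' w
    obtain ⟨g'', hg''⟩ := H.h2 (n + 2) (n + 1) (α.f (n + 2) - g' ≫ I.d (n + 1) (n + 2)) (by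
      rw [Preadditive.comp_sub, ← HomologicalComplex.Hom.comm, w, Preadditive.add_comp,
        Category.assoc, Category.assoc, HomologicalComplex.d_comp_d, comp_zero, zero_add, sub_self])
    exact ⟨g'', by rw [hg'']; abel⟩
  exact ⟨Homotopy.mkCoinductive _ h0 (by simp [hh0]) h1 (by simp [hh1]) (fun n p =>
    ⟨Classical.choose (hsucc n p.1 p.2.1 p.2.2), Classical.choose_spec (hsucc n p.1 p.2.1 p.2.2)⟩)⟩

theorem exists_cohomotopy (H : DescHyp (M := M) Mc I η0) (α β : Mc ⟶ I)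
    (h : η0 ≫ α.f 0 = η0 ≫ β.f 0) : Nonempty (Homotopy α β) := by
  obtain ⟨h⟩ := exists_cohomotopy_zero H (α - β) (by
    rw [HomologicalComplex.sub_f_apply, Preadditive.comp_sub, h, sub_self])
  exact ⟨Homotopy.equivSubZero.invFun h⟩

end CoCompare

end Groth.Agent.Lib.R2H4.PureRes
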