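import Mathlib
import Groth.Agent.Lib.R2H4PureResD
import Groth.Prelude.Def_CAlgX

/-!
# Pure injective resolutions: comparison theorem (helper4, round 2)

For a universally exact coresolution `η : M[0] ⟶ M'` of `R`-modules we extract elementwise tensored exactness,
prove the extension lemma `pure_ext` for pure injective modules, and deduce `exists_cochainMap`,
`exists_homotopy_cochainMap`.
-/

set_option autoImplicit false
universe u
open CategoryTheory Limits HomologicalComplex CochainComplex TensorProduct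

namespace Groth.Agent.Lib.R2H4.PureRes

section CoTensored
variable {R : Type u} [CommRing R] (M' : CochainComplex (ModuleCat.{u} R) ℕ) (M : ModuleCat.{u} R)
  (η : (CochainComplex.single₀ (ModuleCat.{u} R)).obj M ⟶ M') (T : ModuleCat.{u} R)

/-- the tensored cochain complex -/
noncomputable abbrev coKT : CochainComplex (ModuleCat.{u} R) ℕ :=
  ((MonoidalCategory.tensorRight T).mapHomologicalComplex (ComplexShape.up ℕ)).obj M'

/-- the tensored coaugmentation, with source a `single₀` complex -/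
noncomputable def ιT : (CochainComplex.single₀ (ModuleCat.{u} R)).obj
    ((MonoidalCategory.tensorRight T).obj M) ⟶ coKT M' T :=
  (HomologicalComplex.singleMapHomologicalComplex (MonoidalCategory.tensorRight T)
      (ComplexShape.up ℕ) 0).inv.app M ≫
    ((MonoidalCategory.tensorRight T).mapHomologicalComplex (ComplexShape.up ℕ)).map η

instance quasiIso_ιT
    [QuasiIso (((MonoidalCategory.tensorRight T).mapHomologicalComplex (ComplexShape.up ℕ)).map η)] :
    QuasiIso (ιT M' M η T) := by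
  unfold ιT
  infer_instance

theorem ιT_f_zero : (ιT M' M η T).f 0 = (MonoidalCategory.tensorRight T).map (η.f 0) := by
  unfold ιT
  rw [HomologicalComplex.comp_f, HomologicalComplex.singleMapHomologicalComplex_inv_app_self]
  simp
  exact Category.id_comp _

end CoTensored

section CoElementwise
variable {R : Type u} [CommRing R] (M' : CochainComplex (ModuleCat.{u} R) ℕ) (M : ModuleCat.{u} R)
  (η : (CochainComplex.single₀ (ModuleCat.{u} R)).obj M ⟶ M')
  (hM' : ∀ T : ModuleCat.{u} R,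
    QuasiIso (((MonoidalCategory.tensorRight T).mapHomologicalComplex (ComplexShape.up ℕ)).map η))
include hM'

/-- the coaugmentation in degree zero, as a linear map -/
noncomputable def coaug : M →ₗ[R] M'.X 0 := (η.f 0).hom

theorem co_tensored_exact_succ (T : Type u) [AddCommGroup T] [Module R T] (n : ℕ)
    (w : M'.X (n + 1) ⊗[R] T) (hw : ((M'.d (n + 1) (n + 2)).hom.rTensor T) w = 0) :
    ∃ v : M'.X n ⊗[R] T, ((M'.d n (n + 1)).hom.rTensor T) v = w := by
  have := hM' (ModuleCat.of R T)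
  have h := co_exact_succ (coKT M' (ModuleCat.of R T)) (ιT M' M η (ModuleCat.of R T)) n
  exact (ShortComplex.moduleCat_exact_iff _).1 h w hw

theorem co_tensored_exact_zero (T : Type u) [AddCommGroup T] [Module R T]
    (w : M'.X 0 ⊗[R] T) (hw : ((M'.d 0 1).hom.rTensor T) w = 0) :
    ∃ v : M ⊗[R] T, ((coaug M' M η).rTensor T) v = w := by
  have := hM' (ModuleCat.of R T)
  have h := co_exact₀ (coKT M' (ModuleCat.of R T)) (ιT M' M η (ModuleCat.of R T))
  obtain ⟨v, hv⟩ := (ShortComplex.moduleCat_exact_iff _).1 h w hw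
  refine ⟨v, ?_⟩
  have e := ιT_f_zero M' M η (ModuleCat.of R T)
  have hv' : ((ιT M' M η (ModuleCat.of R T)).f 0) v = w := hv
  rw [e] at hv'
  exact hv'

theorem co_tensored_coaug_injective (T : Type u) [AddCommGroup T] [Module R T] :
    Function.Injective ((coaug M' M η).rTensor T) := by
  have := hM' (ModuleCat.of R T)
  have h := mono_ι_f_zero (coKT M' (ModuleCat.of R T)) (ιT M' M η (ModuleCat.of R T))
  rw [ιT_f_zero] at h
  exact (ModuleCat.mono_iff_injective _).1 h

omit hM' in
theorem coaug_d : (M'.d 0 1).hom ∘ₗ coaug M' M η = 0 := by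
  have h := ι_f_zero_comp_d M' η
  ext x
  exact congrArg (fun φ => φ.hom x) h

end CoElementwise

section PureExt
variable {R : Type u} [CommRing R]
variable {K L L' J : Type u} [AddCommGroup K] [Module R K] [AddCommGroup L] [Module R L]
  [AddCommGroup L'] [Module R L'] [AddCommGroup J] [Module R J]

/-- the extension property defining pure injective modules -/
def PureInj (R : Type u) [CommRing R] (J : Type u) [AddCommGroup J] [Module R J] : Prop :=
  ∀ ⦃K L : Type u⦄ [AddCommGroup K] [Module R K] [AddCommGroup L] [Module R L] (g : K →ₗ[R] L),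
    CAlgX.UniversallyInjective R g → ∀ φ : K →ₗ[R] J, ∃ ψ : L →ₗ[R] J, ψ ∘ₗ g = φ

theorem pure_ext (h : K →ₗ[R] L) (g : L →ₗ[R] L') (hhg : g ∘ₗ h = 0)
    (exL : ∀ (T : Type u) [AddCommGroup T] [Module R T] (w : L ⊗[R] T),
      (g.rTensor T) w = 0 → ∃ v, (h.rTensor T) v = w)
    (hJ : PureInj R J) (φ : L →ₗ[R] J) (hφ : φ ∘ₗ h = 0) :
    ∃ ψ : L' →ₗ[R] J, ψ ∘ₗ g = φ := by
  let S := LinearMap.range h
  let q : L →ₗ[R] L ⧸ S := S.mkQ
  have hSg : S ≤ LinearMap.ker g := by
    rintro _ ⟨x, rfl⟩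
    exact congrArg (fun f => f x) hhg
  have hSφ : S ≤ LinearMap.ker φ := by
    rintro _ ⟨x, rfl⟩
    exact congrArg (fun f => f x) hφ
  let gbar : L ⧸ S →ₗ[R] L' := S.liftQ g hSg
  let φbar : L ⧸ S →ₗ[R] J := S.liftQ φ hSφ
  have hg : gbar ∘ₗ q = g := Submodule.liftQ_mkQ _ _ _
  have hφ' : φbar ∘ₗ q = φ := Submodule.liftQ_mkQ _ _ _
  have hqh : q ∘ₗ h = 0 := by
    ext x
    exact (Submodule.Quotient.mk_eq_zero S).2 ⟨x, rfl⟩
  have hui : CAlgX.UniversallyInjective R gbar := by
    intro T _ _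
    rw [injective_iff_map_eq_zero]
    intro z hz
    obtain ⟨w, rfl⟩ := LinearMap.rTensor_surjective T (Submodule.mkQ_surjective S) z
    have e1 : (g.rTensor T) w = 0 := by
      rw [← hg, LinearMap.rTensor_comp]
      exact hz
    obtain ⟨v, rfl⟩ := exL T w e1
    rw [← LinearMap.comp_apply, ← LinearMap.rTensor_comp, hqh, LinearMap.rTensor_zero,
      LinearMap.zero_apply]
  obtain ⟨ψ, hψ⟩ := hJ gbar hui φbar
  refine ⟨ψ, ?_⟩
  rw [← hg, ← LinearMap.comp_assoc, hψ, hφ']

end PureExt

section CoAssemble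
variable {R : Type u} [CommRing R] (M' I : CochainComplex (ModuleCat.{u} R) ℕ) (M : ModuleCat.{u} R)
  (η : (CochainComplex.single₀ (ModuleCat.{u} R)).obj M ⟶ M')
  (hM' : ∀ T : ModuleCat.{u} R,
    QuasiIso (((MonoidalCategory.tensorRight T).mapHomologicalComplex (ComplexShape.up ℕ)).map η))
  (hI : ∀ n : ℕ, PureInj R (I.X n))
include hM' hI

omit hM' hI in
theorem co_d_d_hom (i j k : ℕ) : (M'.d j k).hom ∘ₗ (M'.d i j).hom = 0 := by
  ext x
  exact congrArg (fun φ => φ.hom x) (M'.d_comp_d i j k)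

theorem descHyp : DescHyp (M := M) M' I (η.f 0) where
  h0 := by
    intro φ
    obtain ⟨ψ, hψ⟩ := pure_ext (0 : M →ₗ[R] M) (coaug M' M η) (LinearMap.comp_zero _)
      (fun T _ _ w hw => ⟨0, by
        rw [map_zero]
        exact (co_tensored_coaug_injective M' M η hM' T (hw.trans (map_zero _).symm)).symm⟩)
      (hI 0) φ.hom (LinearMap.comp_zero _)
    exact ⟨ModuleCat.ofHom ψ, ModuleCat.hom_ext hψ⟩
  h1 := by
    intro n φ hφ
    obtain ⟨ψ, hψ⟩ := pure_ext (coaug M' M η) (M'.d 0 1).hom (coaug_d M' M η)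
      (fun T _ _ w hw => co_tensored_exact_zero M' M η hM' T w hw)
      (hI n) φ.hom (by
        ext x
        exact congrArg (fun ψ => ψ.hom x) hφ)
    exact ⟨ModuleCat.ofHom ψ, ModuleCat.hom_ext hψ⟩
  h2 := by
    intro n m φ hφ
    obtain ⟨ψ, hψ⟩ := pure_ext (M'.d m (m + 1)).hom (M'.d (m + 1) (m + 2)).hom
      (co_d_d_hom M' _ _ _)
      (fun T _ _ w hw => co_tensored_exact_succ M' M η hM' T m w hw)
      (hI n) φ.hom (by
        ext x
        exact congrArg (fun ψ => ψ.hom x) hφ)
    exact ⟨ModuleCat.ofHom ψ, ModuleCat.hom_ext hψ⟩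

theorem exists_cochainMap {N : ModuleCat.{u} R} (f : M ⟶ N)
    (ε : (CochainComplex.single₀ (ModuleCat.{u} R)).obj N ⟶ I) :
    ∃ φ : M' ⟶ I, η ≫ φ = (CochainComplex.single₀ (ModuleCat.{u} R)).map f ≫ ε := by
  obtain ⟨φ, hφ⟩ := exists_desc f (ε.f 0) (descHyp M' I M η hM' hI) (ι_f_zero_comp_d I ε)
  refine ⟨φ, ?_⟩
  apply HomologicalComplex.from_single_hom_ext
  rw [HomologicalComplex.comp_f, HomologicalComplex.comp_f]
  refine hφ.trans ?_
  congr 1

theorem exists_homotopy_cochainMap {N : ModuleCat.{u} R} (f : M ⟶ N)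
    (ε : (CochainComplex.single₀ (ModuleCat.{u} R)).obj N ⟶ I) (α β : M' ⟶ I)
    (hα : η ≫ α = (CochainComplex.single₀ (ModuleCat.{u} R)).map f ≫ ε)
    (hβ : η ≫ β = (CochainComplex.single₀ (ModuleCat.{u} R)).map f ≫ ε) :
    Nonempty (Homotopy α β) := by
  refine exists_cohomotopy (descHyp M' I M η hM' hI) α β ?_
  have h := congrArg (fun ψ => ψ.f 0) (hα.trans hβ.symm)
  exact h

end CoAssemble

end Groth.Agent.Lib.R2H4.PureRes
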