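import Mathlib
import Groth.Agent.Lib.R2H4PureResE
import Groth.Prelude.Def_W4stkadequatePure
import Groth.Agent.S8772

/-!
# Existence of pure injective resolutions (helper4, round 2)

Iterating `M ↦ (M^∨)^∨` on cokernels gives a cochain complex `coresCx M` with coaugmentation `coresAug M`,
whose terms are character modules (pure injective) and which stays a resolution after every tensor product
(`exists_pureInjective_resolution`).
-/

set_option autoImplicit false
universe u
open CategoryTheory Limits HomologicalComplex CochainComplex TensorProduct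

namespace Groth.Agent.Lib.R2H4.PureRes

section CoModuleLevel
variable {R : Type u} [CommRing R]

theorem pureInj_characterModule (B : Type u) [AddCommGroup B] [Module R B] :
    PureInj R (CharacterModule B) := by
  intro K L _ _ _ _ g hg φ
  have hsurj := (rTensor_injective_iff_lcomp_surjective (R := R) (B := B) (f := g)).1 (hg B)
  obtain ⟨ψ, hψ⟩ := hsurj φ
  exact ⟨ψ, hψ⟩

/-- tensored exactness of `Y → X → E(X / range d)` -/
theorem tens_coexact {X Y : Type u} [AddCommGroup X] [Module R X] [AddCommGroup Y] [Module R Y]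
    (d : Y →ₗ[R] X) (T : Type u) [AddCommGroup T] [Module R T] (w : X ⊗[R] T)
    (hw : (((PureExt.charEval R (X ⧸ LinearMap.range d)) ∘ₗ (LinearMap.range d).mkQ).rTensor T) w = 0) :
    ∃ v : Y ⊗[R] T, (d.rTensor T) v = w := by
  have h1 : ((LinearMap.range d).mkQ.rTensor T) w = 0 := by
    apply Groth.Agent.S8772.result R (X ⧸ LinearMap.range d) T
    rw [← LinearMap.comp_apply, ← LinearMap.rTensor_comp, hw, map_zero]
  have hex : Function.Exact ((LinearMap.range d).subtype.rTensor T)
      ((LinearMap.range d).mkQ.rTensor T) :=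
    rTensor_exact T (LinearMap.exact_subtype_mkQ (LinearMap.range d))
      (Submodule.mkQ_surjective _)
  obtain ⟨z, hz⟩ := (hex w).1 h1
  obtain ⟨v, hv⟩ := LinearMap.rTensor_surjective T d.surjective_rangeRestrict z
  refine ⟨v, ?_⟩
  have hd' : (LinearMap.range d).subtype ∘ₗ d.rangeRestrict = d :=
    LinearMap.subtype_comp_codRestrict _ _ _
  rw [← hd', LinearMap.rTensor_comp, LinearMap.comp_apply, hv, hz]

end CoModuleLevel

section CoStages
variable (R : Type u) [CommRing R]

/-- the pure injective hull `(M^∨)^∨`, as an object -/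
noncomputable def Ehull (M : Type u) [AddCommGroup M] [Module R M] : ModuleCat.{u} R :=
  ModuleCat.of R (CharacterModule (CharacterModule M))

/-- a stage of the construction: the current differential `Y → X` -/
structure CoStage where
  X : ModuleCat.{u} R
  Y : ModuleCat.{u} R
  d : Y ⟶ X

variable {R}

/-- the next stage -/
noncomputable def CoStage.next (s : CoStage R) : CoStage R where
  X := Ehull R (s.X ⧸ LinearMap.range s.d.hom)
  Y := s.X
  d := ModuleCat.ofHom ((PureExt.charEval R (s.X ⧸ LinearMap.range s.d.hom)) ∘ₗ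
    (LinearMap.range s.d.hom).mkQ)

theorem CoStage.d_comp_next (s : CoStage R) : s.d ≫ s.next.d = 0 := by
  apply ModuleCat.hom_ext
  ext x
  change ((PureExt.charEval R (s.X ⧸ LinearMap.range s.d.hom)) ∘ₗ
    (LinearMap.range s.d.hom).mkQ) (s.d.hom x) = 0
  rw [LinearMap.comp_apply]
  have : (LinearMap.range s.d.hom).mkQ (s.d.hom x) = 0 :=
    (Submodule.Quotient.mk_eq_zero _).2 ⟨x, rfl⟩
  rw [this, map_zero]

variable (M : ModuleCat.{u} R)

/-- the stages of the pure injective resolution of `M` -/
noncomputable def costage : ℕ → CoStage R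
  | 0 => ⟨Ehull R M, M, ModuleCat.ofHom (PureExt.charEval R M)⟩
  | n + 1 => (costage n).next

/-- the differentials, with their types -/
noncomputable def cdd (n : ℕ) : (costage M n).X ⟶ (costage M (n + 1)).X := (costage M (n + 1)).d

theorem cdd_comp (n : ℕ) : cdd M n ≫ cdd M (n + 1) = 0 := CoStage.d_comp_next (costage M (n + 1))

theorem zero_comp_cdd : ModuleCat.ofHom (PureExt.charEval R M) ≫ cdd M 0 = 0 :=
  CoStage.d_comp_next (costage M 0)

/-- the coresolution -/
noncomputable def coresCx : CochainComplex (ModuleCat.{u} R) ℕ :=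
  CochainComplex.of (fun n => (costage M n).X) (cdd M) (cdd_comp M)

theorem coresCx_d (n : ℕ) : (coresCx M).d n (n + 1) = cdd M n :=
  CochainComplex.of_d (fun n => (costage M n).X) (cdd M) n

/-- the coaugmentation -/
noncomputable def coresAug : (CochainComplex.single₀ (ModuleCat.{u} R)).obj M ⟶ coresCx M :=
  (CochainComplex.fromSingle₀Equiv (coresCx M) M).symm ⟨ModuleCat.ofHom (PureExt.charEval R M), by
    rw [coresCx_d]
    exact zero_comp_cdd M⟩

theorem coresAug_f_zero : (coresAug M).f 0 = ModuleCat.ofHom (PureExt.charEval R M) := by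
  unfold coresAug
  simp

theorem cores_tens_exact_succ (T : Type u) [AddCommGroup T] [Module R T] (n : ℕ)
    (w : (coresCx M).X (n + 1) ⊗[R] T)
    (hw : (((coresCx M).d (n + 1) (n + 2)).hom.rTensor T) w = 0) :
    ∃ v : (coresCx M).X n ⊗[R] T, (((coresCx M).d n (n + 1)).hom.rTensor T) v = w := by
  rw [coresCx_d] at hw
  obtain ⟨v, hv⟩ := tens_coexact (costage M (n + 1)).d.hom T w hw
  refine ⟨v, ?_⟩
  rw [coresCx_d]
  exact hv

theorem cores_tens_exact_zero (T : Type u) [AddCommGroup T] [Module R T]
    (w : (coresCx M).X 0 ⊗[R] T) (hw : (((coresCx M).d 0 1).hom.rTensor T) w = 0) :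
    ∃ v : M ⊗[R] T, (((coresAug M).f 0).hom.rTensor T) v = w := by
  rw [coresCx_d] at hw
  obtain ⟨v, hv⟩ := tens_coexact (costage M 0).d.hom T w hw
  refine ⟨v, ?_⟩
  rw [coresAug_f_zero]
  exact hv

theorem cores_tens_aug_injective (T : Type u) [AddCommGroup T] [Module R T] :
    Function.Injective (((coresAug M).f 0).hom.rTensor T) := by
  rw [coresAug_f_zero]
  exact Groth.Agent.S8772.result R M T

theorem coresCx_X_pureInj (n : ℕ) : PureInj R ((coresCx M).X n) := by
  cases n with
  | zero => exact pureInj_characterModule (CharacterModule M)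
  | succ n =>
    exact pureInj_characterModule
      (CharacterModule ((costage M n).X ⧸ LinearMap.range (costage M n).d.hom))

end CoStages

section CoQI
variable {R : Type u} [CommRing R] (K : CochainComplex (ModuleCat.{u} R) ℕ) (M : ModuleCat.{u} R)
  (η : (CochainComplex.single₀ (ModuleCat.{u} R)).obj M ⟶ K) (T : ModuleCat.{u} R)

theorem mapped_cosingle_exactAt_succ (n : ℕ) :
    (((MonoidalCategory.tensorRight T).mapHomologicalComplex (ComplexShape.up ℕ)).obj
      ((CochainComplex.single₀ (ModuleCat.{u} R)).obj M)).ExactAt (n + 1) := by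
  apply HomologicalComplex.ExactAt.of_isZero
  exact Functor.map_isZero (MonoidalCategory.tensorRight T)
    (HomologicalComplex.isZero_single_obj_X _ _ _ _ (by simp))

theorem quasiIso_cotensor_of_elementwise
    (h1 : ∀ (n : ℕ) (w : K.X (n + 1) ⊗[R] T), ((K.d (n + 1) (n + 2)).hom.rTensor T) w = 0 →
      ∃ v : K.X n ⊗[R] T, ((K.d n (n + 1)).hom.rTensor T) v = w)
    (h0 : ∀ w : K.X 0 ⊗[R] T, ((K.d 0 1).hom.rTensor T) w = 0 →
      ∃ v : M ⊗[R] T, ((η.f 0).hom.rTensor T) v = w)
    (hi : Function.Injective ((η.f 0).hom.rTensor T)) :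
    QuasiIso (((MonoidalCategory.tensorRight T).mapHomologicalComplex (ComplexShape.up ℕ)).map η) := by
  refine ⟨fun n => ?_⟩
  cases n with
  | zero =>
    rw [CochainComplex.quasiIsoAt₀_iff, ShortComplex.quasiIso_iff_of_zeros]
    · constructor
      · rw [ShortComplex.moduleCat_exact_iff]
        intro w hw
        exact h0 w hw
      · rw [ModuleCat.mono_iff_injective]
        exact hi
    · change (MonoidalCategory.tensorRight T).map
        (((CochainComplex.single₀ (ModuleCat.{u} R)).obj M).d 0 0) = 0
      rw [HomologicalComplex.single_obj_d]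
      exact Functor.map_zero _ _ _
    · change (MonoidalCategory.tensorRight T).map
        (((CochainComplex.single₀ (ModuleCat.{u} R)).obj M).d 0 1) = 0
      rw [HomologicalComplex.single_obj_d]
      exact Functor.map_zero _ _ _
    · change (MonoidalCategory.tensorRight T).map (K.d 0 0) = 0
      rw [HomologicalComplex.shape _ 0 0 (by simp)]
      exact Functor.map_zero _ _ _
  | succ n =>
    rw [quasiIsoAt_iff_exactAt]
    · rw [HomologicalComplex.exactAt_iff' _ n (n + 1) (n + 2) (by simp) (by simp),
        ShortComplex.moduleCat_exact_iff]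
      intro w hw
      exact h1 n w hw
    · exact mapped_cosingle_exactAt_succ M T n

end CoQI

section CoFinal
variable (R : Type u) [CommRing R] (M : ModuleCat.{u} R)

theorem exists_pureInjective_resolution :
    ∃ (I : CochainComplex (ModuleCat.{u} R) ℕ)
      (η : (CochainComplex.single₀ (ModuleCat.{u} R)).obj M ⟶ I),
      (∀ n : ℕ, PureInj R (I.X n)) ∧
      ∀ T : ModuleCat.{u} R,
        QuasiIso (((MonoidalCategory.tensorRight T).mapHomologicalComplex (ComplexShape.up ℕ)).map η) :=
  ⟨coresCx M, coresAug M, coresCx_X_pureInj M, fun T =>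
    quasiIso_cotensor_of_elementwise (coresCx M) M (coresAug M) T
      (fun n w hw => cores_tens_exact_succ M T n w hw)
      (fun w hw => cores_tens_exact_zero M T w hw)
      (cores_tens_aug_injective M T)⟩

end CoFinal

end Groth.Agent.Lib.R2H4.PureRes
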