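import Mathlib
import Groth.Prelude.Def_FlatCA
import Groth.Agent.S0448
import Groth.Agent.S1212

/-!
# helper4 (round 2): modules with a pure spreadout have content ideals and satisfy the universal injectivity criterion
-/

set_option autoImplicit false
set_option linter.style.haveILetI false
universe u

namespace Groth.Agent.Lib.R2H4.PureSpread

open TensorProduct FlatCA

section Global

variable {A : Type u} [CommRing A]

/-- an element dying in all localizations at maximal ideals is zero. -/
theorem eq_zero_of_forall_maximal_tmul_eq_zero {W : Type u} [AddCommGroup W] [Module A W] (x : W)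
    (h : ∀ (m : Ideal A) [m.IsMaximal], (1 : Localization.AtPrime m) ⊗ₜ[A] x = 0) : x = 0 := by
  by_contra hx
  set I := (Submodule.span A {x}).annihilator with hI
  have hIne : I ≠ ⊤ := by
    intro hItop
    apply hx
    have : (1 : A) ∈ I := hItop ▸ Submodule.mem_top
    rw [hI, Submodule.mem_annihilator_span_singleton, one_smul] at this
    exact this
  obtain ⟨m, hm, hIm⟩ := Ideal.exists_le_maximal I hIne
  have h0 : TensorProduct.mk A (Localization.AtPrime m) W 1 x = 0 := h m
  obtain ⟨c, hc⟩ := (IsLocalizedModule.eq_zero_iff m.primeCompl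
    (TensorProduct.mk A (Localization.AtPrime m) W 1)).1 h0
  apply c.2
  apply hIm
  rw [hI, Submodule.mem_annihilator_span_singleton]
  exact hc

/-- Global form of S0448: a map from a projective module to a flat module which is injective modulo every maximal
ideal is universally injective. -/
theorem rTensor_injective_of_forall_maximal {P M : Type u} [AddCommGroup P] [Module A P]
    [Module.Projective A P] [AddCommGroup M] [Module A M] [Module.Flat A M] (v : P →ₗ[A] M)
    (h : ∀ (m : Ideal A) [m.IsMaximal], Function.Injective (v.lTensor (A ⧸ m)))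
    (Q : Type u) [AddCommGroup Q] [Module A Q] : Function.Injective (v.rTensor Q) := by
  rw [injective_iff_map_eq_zero]
  intro x hx
  apply eq_zero_of_forall_maximal_tmul_eq_zero (A := A)
  intro m hm
  set Am := Localization.AtPrime m with hAm
  set κ := IsLocalRing.ResidueField Am with hκ
  -- step 1: injectivity modulo the maximal ideal of `Am`
  have hbij : Function.Bijective (algebraMap (A ⧸ m) m.ResidueField) :=
    Ideal.bijective_algebraMap_quotient_residueField m
  let e : (A ⧸ m) ≃ₗ[A] κ :=
    LinearEquiv.ofBijective ((Algebra.linearMap (A ⧸ m) m.ResidueField).restrictScalars A) hbij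
  have h1 : Function.Injective (v.lTensor κ) := by
    have hcomm : v.lTensor κ ∘ₗ e.toLinearMap.rTensor P = e.toLinearMap.rTensor M ∘ₗ v.lTensor (A ⧸ m) := by
      rw [LinearMap.lTensor_comp_rTensor, LinearMap.rTensor_comp_lTensor]
    intro a b hab
    have ha : ∃ a', e.toLinearMap.rTensor P a' = a := (LinearEquiv.rTensor P e).surjective a
    have hb : ∃ b', e.toLinearMap.rTensor P b' = b := (LinearEquiv.rTensor P e).surjective b
    obtain ⟨a', rfl⟩ := ha
    obtain ⟨b', rfl⟩ := hb
    have h2 := LinearMap.congr_fun hcomm a'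
    have h3 := LinearMap.congr_fun hcomm b'
    simp only [LinearMap.comp_apply] at h2 h3
    rw [h2, h3] at hab
    have h4 := (LinearEquiv.rTensor M e).injective hab
    rw [h m h4]
  let vm : Am ⊗[A] P →ₗ[Am] Am ⊗[A] M := v.baseChange Am
  have h2 : Function.Injective (vm.lTensor κ) := by
    let c₁ := AlgebraTensorModule.cancelBaseChange A Am Am κ P
    let c₂ := AlgebraTensorModule.cancelBaseChange A Am Am κ M
    have hnat : ∀ z, c₂ (vm.lTensor κ z) = v.lTensor κ (c₁ z) := by
      intro z
      induction z using TensorProduct.induction_on with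
      | zero => simp
      | tmul q y =>
        induction y using TensorProduct.induction_on with
        | zero => simp
        | tmul r p =>
          rw [LinearMap.lTensor_tmul, LinearMap.baseChange_tmul]
          simp only [c₁, c₂, AlgebraTensorModule.cancelBaseChange_tmul, LinearMap.lTensor_tmul]
        | add y y' hy hy' =>
          rw [TensorProduct.tmul_add, map_add, map_add, hy, hy', map_add, map_add]
      | add z z' hz hz' => rw [map_add, map_add, hz, hz', map_add, map_add]
    intro a b hab
    apply c₁.injective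
    apply h1
    rw [← hnat, ← hnat, hab]
  have h3 := Groth.Agent.S0448.result vm h2 (Am ⊗[A] Q)
  -- step 2: naturality of localization
  let d₁ := AlgebraTensorModule.distribBaseChange A Am P Q
  let d₂ := AlgebraTensorModule.distribBaseChange A Am M Q
  have hnat2 : ∀ (a : Am) (w : P ⊗[A] Q), vm.rTensor (Am ⊗[A] Q) (d₁ (a ⊗ₜ[A] w)) =
      d₂ (a ⊗ₜ[A] (v.rTensor Q w)) := by
    intro a w
    induction w using TensorProduct.induction_on with
    | zero => simp
    | tmul p q =>
      simp only [d₁, d₂, AlgebraTensorModule.distribBaseChange_tmul, LinearMap.rTensor_tmul, vm,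
        LinearMap.baseChange_tmul]
    | add w w' hw hw' =>
      rw [TensorProduct.tmul_add, map_add, map_add, hw, hw', map_add, TensorProduct.tmul_add,
        map_add]
  have h4 : d₁ ((1 : Am) ⊗ₜ[A] x) = 0 := by
    apply h3
    rw [hnat2, hx, TensorProduct.tmul_zero, map_zero, map_zero]
  exact d₁.map_eq_zero_iff.1 h4

end Global

section Content

variable {A : Type u} [CommRing A]

/-- `x` has a content ideal: a smallest ideal `I` with `x ∈ I M`. -/
def HasContent {P : Type u} [AddCommGroup P] [Module A P] (x : P) : Prop :=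
  ∃ I : Ideal A, x ∈ I • (⊤ : Submodule A P) ∧ ∀ J : Ideal A, x ∈ J • (⊤ : Submodule A P) → I ≤ J

theorem finsupp_apply_mem_of_mem_smul_top {ι : Type u} (J : Ideal A) (f : ι →₀ A)
    (hf : f ∈ J • (⊤ : Submodule A (ι →₀ A))) (i : ι) : f i ∈ J := by
  refine Submodule.smul_induction_on hf ?_ ?_
  · intro r hr n _
    rw [Finsupp.smul_apply, smul_eq_mul]
    exact J.mul_mem_right _ hr
  · intro x y hx hy
    rw [Finsupp.add_apply]
    exact J.add_mem hx hy

theorem hasContent_of_projective {P : Type u} [AddCommGroup P] [Module A P] [Module.Projective A P]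
    (x : P) : HasContent (A := A) x := by
  obtain ⟨s, hs⟩ := (Module.projective_def' (R := A) (P := P)).1 inferInstance
  refine ⟨Ideal.span (Set.range (s x)), ?_, ?_⟩
  · have hx : Finsupp.linearCombination A id (s x) = x := LinearMap.congr_fun hs x
    have h1 : Finsupp.linearCombination A id (s x) ∈
        Ideal.span (Set.range (s x)) • (⊤ : Submodule A P) := by
      rw [Finsupp.linearCombination_apply, Finsupp.sum]
      refine Submodule.sum_mem _ (fun p _ => ?_)
      exact Submodule.smul_mem_smul (Ideal.subset_span ⟨p, rfl⟩) Submodule.mem_top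
    rwa [hx] at h1
  · intro J hJ
    rw [Ideal.span_le]
    rintro _ ⟨p, rfl⟩
    exact finsupp_apply_mem_of_mem_smul_top J (s x)
      (Groth.Agent.S1212.map_mem_smul_top J s hJ) p

theorem mem_smul_top_of_univInj {P N : Type u} [AddCommGroup P] [Module A P] [AddCommGroup N]
    [Module A N] (f : P →ₗ[A] N) (hf : UnivInj A f) (J : Ideal A) {x : P}
    (hx : f x ∈ J • (⊤ : Submodule A N)) : x ∈ J • (⊤ : Submodule A P) := by
  rw [← Groth.Agent.S1212.one_tmul_eq_zero_iff] at hx ⊢
  apply hf (A ⧸ J)
  rw [map_zero, LinearMap.lTensor_tmul]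
  exact hx

end Content

section Spreadout

variable {A B C L : Type u} [CommRing A] [CommRing B] [CommRing C] [CommRing L]
  [Algebra B C] [Algebra C L] [Algebra B L] [IsScalarTower B C L] (T : Submonoid B)
  [IsLocalization T L]
  {N' N : Type u} [AddCommGroup N'] [Module C N'] [AddCommGroup N] [Module L N] [Module C N]
  [IsScalarTower C L N] (g : N' →ₗ[C] N) (hbc : IsBaseChange L g)

include hbc in
/-- every element of the base change to the localization is a `T`-fraction of an element of the model. -/
theorem exists_smul_eq_map (y : N) :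
    ∃ t ∈ T, ∃ x' : N', (algebraMap B L t) • y = g x' := by
  induction y using hbc.inductionOn with
  | zero => exact ⟨1, T.one_mem, 0, by simp⟩
  | tmul x' => exact ⟨1, T.one_mem, x', by simp⟩
  | smul l y ih =>
    obtain ⟨t, ht, x', hx'⟩ := ih
    obtain ⟨b, s, rfl⟩ := IsLocalization.exists_mk'_eq T l
    refine ⟨s.1 * t, T.mul_mem s.2 ht, algebraMap B C b • x', ?_⟩
    have h1 : (algebraMap B L (s.1 * t)) • (IsLocalization.mk' L b s • y) =
        (algebraMap B L b) • ((algebraMap B L t) • y) := by
      rw [smul_smul, smul_smul, map_mul]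
      congr 1
      rw [mul_comm (algebraMap B L s.1), mul_assoc, IsLocalization.mk'_spec', mul_comm]
    rw [h1, hx', map_smul, IsScalarTower.algebraMap_apply B C L,
      algebraMap_smul L (algebraMap B C b) (g x')]
  | add y₁ y₂ h₁ h₂ =>
    obtain ⟨t₁, ht₁, x₁, hx₁⟩ := h₁
    obtain ⟨t₂, ht₂, x₂, hx₂⟩ := h₂
    refine ⟨t₁ * t₂, T.mul_mem ht₁ ht₂, algebraMap B C t₂ • x₁ + algebraMap B C t₁ • x₂, ?_⟩
    rw [map_add, map_smul, map_smul, ← hx₁, ← hx₂, smul_add,
      ← algebraMap_smul L (algebraMap B C t₂), ← algebraMap_smul L (algebraMap B C t₁),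
      ← IsScalarTower.algebraMap_apply B C L, ← IsScalarTower.algebraMap_apply B C L,
      smul_smul, smul_smul, map_mul, mul_comm (algebraMap B L t₂)]

section WithBase

variable [Algebra A C] [Algebra A L] [Module A N'] [IsScalarTower A C N'] [Module A N]
  [IsScalarTower A C N] [IsScalarTower A L N]

/-- multiplication by `l ∈ L` as an `A`-linear endomorphism. -/
noncomputable def mulL (l : L) : N →ₗ[A] N := (LinearMap.lsmul L N l).restrictScalars A

omit [IsScalarTower C L N] in
theorem mulL_apply (l : L) (n : N) : mulL (A := A) l n = l • n := rfl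

omit [IsScalarTower C L N] in
theorem mulL_comp (l l' : L) : mulL (A := A) (N := N) l ∘ₗ mulL l' = mulL (l * l') := by
  ext n
  simp [mulL_apply, mul_smul]

omit [IsScalarTower C L N] in
theorem mulL_one : mulL (A := A) (N := N) (1 : L) = LinearMap.id := by
  ext n
  simp [mulL_apply]

include T hbc in
theorem hasContent_of_spreadout (hg : UnivInj A (g.restrictScalars A))
    (hN' : ∀ x' : N', HasContent (A := A) x') (y : N) : HasContent (A := A) y := by
  obtain ⟨t, ht, x', hx'⟩ := exists_smul_eq_map T g hbc y
  obtain ⟨I, hI, hmin⟩ := hN' x'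
  have hy : y = IsLocalization.mk' L (1 : B) (⟨t, ht⟩ : T) • g x' := by
    rw [← hx', smul_smul, IsLocalization.mk'_spec, map_one, one_smul]
  refine ⟨I, ?_, fun J hJ => hmin J ?_⟩
  · rw [hy]
    have h1 : g x' ∈ I • (⊤ : Submodule A N) :=
      Groth.Agent.S1212.map_mem_smul_top I (g.restrictScalars A) hI
    exact Groth.Agent.S1212.map_mem_smul_top I (mulL (A := A) (IsLocalization.mk' L (1 : B) (⟨t, ht⟩ : T))) h1
  · apply mem_smul_top_of_univInj (g.restrictScalars A) hg J
    change g x' ∈ _
    rw [← hx']
    exact Groth.Agent.S1212.map_mem_smul_top J (mulL (A := A) (algebraMap B L t)) hJ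

include T hbc in
theorem univInj_of_spreadout [Module.Projective A N'] (hg : UnivInj A (g.restrictScalars A))
    {M : Type u} [AddCommGroup M] [Module A M] [Module.Flat A M] (u : N →ₗ[A] M)
    (hu : ∀ (m : Ideal A) [m.IsMaximal], Function.Injective (u.lTensor (A ⧸ m))) : UnivInj A u := by
  intro Q _ _
  set gA : N' →ₗ[A] N := g.restrictScalars A with hgA
  -- elements of `Q ⊗ N` are `T`-fractions of elements of `Q ⊗ N'`
  have hK4 : ∀ w : Q ⊗[A] N, ∃ t ∈ T, ∃ w' : Q ⊗[A] N',
      (mulL (A := A) (N := N) (algebraMap B L t)).lTensor Q w = gA.lTensor Q w' := by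
    intro w
    induction w using TensorProduct.induction_on with
    | zero => exact ⟨1, T.one_mem, 0, by simp⟩
    | tmul q y =>
      obtain ⟨t, ht, x', hx'⟩ := exists_smul_eq_map T g hbc y
      refine ⟨t, ht, q ⊗ₜ x', ?_⟩
      rw [LinearMap.lTensor_tmul, LinearMap.lTensor_tmul, mulL_apply, hx']
      rfl
    | add w₁ w₂ h₁ h₂ =>
      obtain ⟨t₁, ht₁, w₁', hw₁⟩ := h₁
      obtain ⟨t₂, ht₂, w₂', hw₂⟩ := h₂
      -- multiplication by `s ∈ B` on `N'`
      let ρ : B → (N' →ₗ[A] N') := fun s =>
        (LinearMap.lsmul C N' (algebraMap B C s)).restrictScalars A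
      have hρ : ∀ s : B, mulL (A := A) (N := N) (algebraMap B L s) ∘ₗ gA = gA ∘ₗ ρ s := by
        intro s
        ext n
        change algebraMap B L s • g n = g (algebraMap B C s • n)
        rw [map_smul, IsScalarTower.algebraMap_apply B C L, algebraMap_smul L (algebraMap B C s)]
      refine ⟨t₁ * t₂, T.mul_mem ht₁ ht₂, (ρ t₂).lTensor Q w₁' + (ρ t₁).lTensor Q w₂', ?_⟩
      have e1 : mulL (A := A) (N := N) (algebraMap B L (t₁ * t₂)) =
          mulL (algebraMap B L t₂) ∘ₗ mulL (algebraMap B L t₁) := by
        rw [mulL_comp, map_mul, mul_comm]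
      have e2 : mulL (A := A) (N := N) (algebraMap B L (t₁ * t₂)) =
          mulL (algebraMap B L t₁) ∘ₗ mulL (algebraMap B L t₂) := by
        rw [mulL_comp, map_mul]
      rw [map_add, map_add]
      congr 1
      · rw [e1, LinearMap.lTensor_comp, LinearMap.comp_apply, hw₁, ← LinearMap.comp_apply,
          ← LinearMap.lTensor_comp, hρ, LinearMap.lTensor_comp, LinearMap.comp_apply]
      · rw [e2, LinearMap.lTensor_comp, LinearMap.comp_apply, hw₂, ← LinearMap.comp_apply,
          ← LinearMap.lTensor_comp, hρ, LinearMap.lTensor_comp, LinearMap.comp_apply]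
  rw [injective_iff_map_eq_zero]
  intro w hw
  obtain ⟨t, ht, w', hw'⟩ := hK4 w
  set σ : N →ₗ[A] N := mulL (IsLocalization.mk' L (1 : B) (⟨t, ht⟩ : T)) with hσ
  set τ : N →ₗ[A] N := mulL (algebraMap B L t) with hτ
  have hστ : σ ∘ₗ τ = LinearMap.id := by
    rw [hσ, hτ, mulL_comp, IsLocalization.mk'_spec, map_one, mulL_one]
  have hτσ : τ ∘ₗ σ = LinearMap.id := by
    rw [hσ, hτ, mulL_comp, mul_comm, IsLocalization.mk'_spec, map_one, mulL_one]
  have hw2 : w = (σ ∘ₗ gA).lTensor Q w' := by
    rw [LinearMap.lTensor_comp, LinearMap.comp_apply, ← hw', ← LinearMap.comp_apply,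
      ← LinearMap.lTensor_comp, hστ, LinearMap.lTensor_id, LinearMap.id_apply]
  -- the composite `u ∘ σ ∘ g` is universally injective
  set v : N' →ₗ[A] M := u ∘ₗ σ ∘ₗ gA with hv
  have hvm : ∀ (m : Ideal A) [m.IsMaximal], Function.Injective (v.lTensor (A ⧸ m)) := by
    intro m _
    rw [hv, LinearMap.lTensor_comp, LinearMap.lTensor_comp, LinearMap.coe_comp, LinearMap.coe_comp]
    refine (hu m).comp (Function.Injective.comp ?_ (hg (A ⧸ m)))
    have : τ.lTensor (A ⧸ m) ∘ₗ σ.lTensor (A ⧸ m) = LinearMap.id := by
      rw [← LinearMap.lTensor_comp, hτσ, LinearMap.lTensor_id]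
    exact Function.LeftInverse.injective (g := τ.lTensor (A ⧸ m)) (LinearMap.congr_fun this)
  have hvinj : Function.Injective (v.lTensor Q) :=
    (LinearMap.lTensor_inj_iff_rTensor_inj _ _).2 (rTensor_injective_of_forall_maximal v hvm Q)
  have hw'0 : w' = 0 := by
    apply hvinj
    rw [map_zero, hv, LinearMap.lTensor_comp, LinearMap.comp_apply, ← hw2, hw]
  rw [hw2, hw'0, map_zero]

end WithBase

end Spreadout

end Groth.Agent.Lib.R2H4.PureSpread
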